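import Cfsg.Statements.S0254
import Cfsg.Agent.Lib.Classical.Dickson.Models
import Cfsg.Agent.Lib.Classical.Dickson.Big
import Cfsg.Agent.Lib.Classical.SLBasic
import Cfsg.Agent.Lib.Classical.SLOrders
import Cfsg.Agent.Lib.Classical.SL2Sylow
import Cfsg.Agent.Lib.SmallGroups.SimpleTools

set_option autoImplicit false
open Cfsg

namespace Cfsg.Agent.S0254

open CfsgLib.Classical.Dickson in
theorem exists_index_six {F : Type*} [Field F] [Fintype F] (hF : Fintype.card F = 9)
    (h360 : Nat.card (Matrix.ProjectiveSpecialLinearGroup (Fin 2) F) = 360) :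
    ∃ H : Subgroup (Matrix.ProjectiveSpecialLinearGroup (Fin 2) F), H.index = 6 := by
  classical
  haveI : Fact (Nat.Prime 3) := ⟨Nat.prime_three⟩
  haveI : CharP F 3 := charP_of_card_eq_prime_pow (p := 3) (f := 2) hF
  have h2 : (2 : F) ≠ 0 := Ring.two_ne_zero (by rw [ringChar.eq F 3]; norm_num)
  obtain ⟨s, hs⟩ : IsSquare (-1 : F) := FiniteField.isSquare_neg_one_iff.2 (by rw [hF]; norm_num)
  obtain ⟨Φ⟩ := exists_frame h2
  have h3 : (3 : F) = 0 := by exact_mod_cast CharP.cast_eq_zero F 3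
  have hφ : (2 + 2 * s) * (2 + 2 * s) = (2 + 2 * s) + 1 := by
    linear_combination (-4 : F) * hs + (-1 + 2 * s) * h3
  let ι := Matrix.ProjectiveSpecialLinearGroup.toPGL (n := Fin 2) (R := F)
  have hι : Function.Injective ι := Matrix.ProjectiveSpecialLinearGroup.toPGL_injective
  have hle : Φ.g60 (2 + 2 * s) hφ ≤ ι.range := by
    refine (Φ.g60_le_sln _ hφ).trans ?_
    rintro _ ⟨g, rfl⟩
    exact ⟨(g : Matrix.ProjectiveSpecialLinearGroup (Fin 2) F), rfl⟩
  refine ⟨(Φ.g60 (2 + 2 * s) hφ).comap ι, ?_⟩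
  have hc : Nat.card ((Φ.g60 (2 + 2 * s) hφ).comap ι) = 60 := by
    rw [← Subgroup.card_map_of_injective hι, Subgroup.map_comap_eq_self hle]
    exact (Φ.g60_iso 3 _ hφ (by norm_num)).1
  have h := ((Φ.g60 (2 + 2 * s) hφ).comap ι).index_mul_card
  rw [hc, h360] at h
  omega

/-- PSL_2(9) is isomorphic to A_6. -/
theorem result {F : Type*} [Field F] [Fintype F] (hF : Fintype.card F = 9) : Nonempty (Matrix.ProjectiveSpecialLinearGroup (Fin 2) F ≃* alternatingGroup (Fin 6)) := by
  have h360 : Nat.card (Matrix.ProjectiveSpecialLinearGroup (Fin 2) F) = 360 := by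
    have h := CfsgLib.Classical.card_psl_mul hF 2 (by norm_num)
    rw [CfsgLib.Classical.card_sl2 hF] at h
    norm_num at h
    omega
  haveI := CfsgLib.Classical.psl_fin_isSimpleGroup (F := F) (k := 2) le_rfl (fun _ => by omega)
  obtain ⟨H, hH⟩ := exists_index_six hF h360
  have hG : ¬ IsMulCommutative (Matrix.ProjectiveSpecialLinearGroup (Fin 2) F) :=
    CfsgLib.SmallGroups.SimpleTools.not_comm_of_card (by rw [h360]; norm_num)
  obtain ⟨f, hf⟩ := CfsgLib.SmallGroups.SimpleTools.exists_embedding hG H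
    (fun e => by rw [e, Subgroup.index_top] at hH; norm_num at hH)
  have key : ∀ n, n = 6 → ∀ f : Matrix.ProjectiveSpecialLinearGroup (Fin 2) F →* ↥(alternatingGroup (Fin n)),
      Function.Injective f → Nonempty (Matrix.ProjectiveSpecialLinearGroup (Fin 2) F ≃* alternatingGroup (Fin 6)) := by
    rintro n rfl f hf
    refine ⟨MulEquiv.ofBijective f (hf.bijective_of_nat_card_le ?_)⟩
    rw [h360, Nat.card_eq_fintype_card, card_alternatingGroup]
    decide
  exact key _ hH f hf

end Cfsg.Agent.S0254
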