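import Cfsg.Statements.S2118
import Cfsg.Agent.Lib.KGroups.AltMultiplier
import Cfsg.Agent.S0254
import Cfsg.Agent.Lib.Classical.SLBasic
import Cfsg.Agent.Lib.Classical.SLOrders

set_option autoImplicit false
open Cfsg

namespace Cfsg.Agent.S2118

/-- For the field with 9 elements, the special linear group SL₂ has Schur multiplier cyclic of order 3 (here the Schur multiplier is described through stem extensions, as in the definitions). -/
theorem result {F : Type*} [Field F] [Fintype F] (hF : Fintype.card F = 9) : Cfsg.HasCyclicSchurMultiplier (Matrix.SpecialLinearGroup (Fin 2) F) 3 := by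
  classical
  -- perfect
  obtain ⟨a, ha, hasq⟩ : ∃ a : F, a ≠ 0 ∧ a ^ 2 ≠ 1 := by
    obtain ⟨x, -, hx⟩ := Finset.exists_mem_notMem_of_card_lt_card
      (show ({0, 1, -1} : Finset F).card < (Finset.univ : Finset F).card from
        lt_of_le_of_lt Finset.card_le_three (by rw [Finset.card_univ, hF]; norm_num))
    simp only [Finset.mem_insert, Finset.mem_singleton, not_or] at hx
    refine ⟨x, hx.1, fun h => ?_⟩
    rcases mul_eq_zero.1 (show (x - 1) * (x + 1) = 0 by linear_combination h) with h' | h'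
    · exact hx.2.1 (sub_eq_zero.1 h')
    · exact hx.2.2 (eq_neg_of_add_eq_zero_left h')
  have hperf : commutator (Matrix.SpecialLinearGroup (Fin 2) F) = ⊤ :=
    CfsgLib.Classical.sl_subgroup_eq_top _ fun i j hij c => by
      rw [commutator_eq_closure]
      exact Subgroup.subset_closure
        (CfsgLib.Classical.transvection_mem_commutatorSet_two ha hasq hij c)
  -- the map onto the alternating group
  obtain ⟨e⟩ := Cfsg.Agent.S0254.result hF
  let p : Matrix.SpecialLinearGroup (Fin 2) F →* alternatingGroup (Fin 6) :=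
    e.toMonoidHom.comp (QuotientGroup.mk' (Subgroup.center (Matrix.SpecialLinearGroup (Fin 2) F)))
  have hpk : p.ker = Subgroup.center _ := by
    ext x
    show e (QuotientGroup.mk' _ x) = 1 ↔ _
    rw [MulEquiv.map_eq_one_iff, QuotientGroup.mk'_apply, QuotientGroup.eq_one_iff]
  have hp : Cfsg.IsStemExtension p :=
    ⟨e.surjective.comp (QuotientGroup.mk'_surjective _), hpk.le, by rw [hperf]; exact le_top⟩
  have hp2 : Nat.card p.ker = 2 := by
    rw [hpk, CfsgLib.Classical.card_center_sl 2 (by norm_num), hF]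
    decide
  obtain ⟨Γ, σ, hσ, hσ3⟩ := CfsgLib.KGroups.TripleAlt.cover_six
  have hker3 : ∀ y, σ y = 1 → y ^ 3 = 1 := fun y hy => by
    have h := pow_card_eq_one' (x := (⟨y, hy⟩ : σ.ker))
    rw [hσ3] at h
    exact congrArg Subtype.val h
  have hker2 : ∀ y, p y = 1 → y ^ 2 = 1 := fun y hy => by
    have h := pow_card_eq_one' (x := (⟨y, hy⟩ : p.ker))
    rw [hp2] at h
    exact congrArg Subtype.val h
  have hfst := CfsgLib.KGroups.AltMultiplier.fibFst_isStem p σ hp.1 hσ 2 3 (by decide) hker2 hker3
  have : Fact (Nat.Prime 3) := ⟨Nat.prime_three⟩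
  have hK : Nat.card (CfsgLib.KGroups.AltMultiplier.fibFst p σ).ker = 3 :=
    (Nat.card_congr (CfsgLib.KGroups.AltMultiplier.fibKerEquiv p σ).toEquiv).trans hσ3
  have : IsCyclic (CfsgLib.KGroups.AltMultiplier.fibFst p σ).ker := isCyclic_of_prime_card hK
  have hA : commutator (alternatingGroup (Fin 6)) = ⊤ :=
    commutator_alternatingGroup_eq_top (by simp)
  have hc3 : Nat.card (Multiplicative (ZMod 3)) = 3 := by
    rw [Nat.card_eq_fintype_card, Fintype.card_multiplicative, ZMod.card]
  refine CfsgLib.Schur.Basic.hasSchurMultiplier_of_le _ hfst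
    (mulEquivOfCyclicCardEq (hK.trans hc3.symm)) fun X _ _ ξ hξ => ?_
  rw [hc3]
  obtain ⟨-, hcomp⟩ := CfsgLib.KGroups.AltMultiplier.isStem_comp hA p hp ξ hξ
  have h6 := CfsgLib.KGroups.AltMultiplier.six_bound _ hcomp
  -- the composite has kernel twice as large
  let r : (p.comp ξ).ker →* p.ker := (ξ.comp (p.comp ξ).ker.subtype).codRestrict _ fun x => x.2
  have hr : Function.Surjective r := fun y => by
    obtain ⟨x, hx⟩ := hξ.1 y.1
    exact ⟨⟨x, by rw [MonoidHom.mem_ker, MonoidHom.comp_apply, hx]; exact y.2⟩, Subtype.ext hx⟩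
  have hle : ξ.ker ≤ (p.comp ξ).ker := fun x hx => by
    rw [MonoidHom.mem_ker, MonoidHom.comp_apply, MonoidHom.mem_ker.1 hx, map_one]
  have hrk : r.ker = ξ.ker.subgroupOf (p.comp ξ).ker := by
    ext x
    rw [MonoidHom.mem_ker, Subgroup.mem_subgroupOf, MonoidHom.mem_ker]
    exact ⟨fun h => congrArg Subtype.val h, fun h => Subtype.ext h⟩
  have hcard := r.ker.card_mul_index
  rw [Subgroup.index_ker, MonoidHom.range_eq_top.2 hr, Subgroup.card_top, hp2, hrk,
    Nat.card_congr (Subgroup.subgroupOfEquivOfLe hle).toEquiv] at hcard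
  omega

end Cfsg.Agent.S2118
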