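import Cfsg.Statements.S1181
import Mathlib
import Cfsg.Agent.Lib.Involution.Isolated
-- import your own Cfsg.Agent.* helpers here

set_option autoImplicit false
open Cfsg

namespace Cfsg.Agent.S1181

/-- Let z be an isolated involution of the finite group G and N a normal subgroup with z ∉ N. Then the centralizer of zN in G/N is the image of C_G(z), and zN is an isolated involution of G/N. -/
theorem result {G : Type*} [Group G] [Finite G] (z : G) (hz : Cfsg.IsIsolatedInvolution z) (N : Subgroup G) [N.Normal] (hzN : z ∉ N) : Subgroup.centralizer ({(QuotientGroup.mk z : G ⧸ N)} : Set (G ⧸ N)) = (Subgroup.centralizer ({z} : Set G)).map (QuotientGroup.mk' N) ∧ Cfsg.IsIsolatedInvolution (QuotientGroup.mk z : G ⧸ N) := by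
  have key : ∀ g : G, g * z * g⁻¹ * z⁻¹ ∈ N →
      (g : G ⧸ N) ∈ (Subgroup.centralizer ({z} : Set G)).map (QuotientGroup.mk' N) := by
    intro g hg
    obtain ⟨d, hd, he⟩ := CfsgLib.Involution.Dihedral.exists_conj_of_odd hz.1
      (y := g * z * g⁻¹) ((CfsgLib.Involution.Dihedral.orderOf_conj g z).trans hz.1)
      (CfsgLib.Involution.Isolated.odd_of_isConj hz (isConj_iff.2 ⟨g, rfl⟩))
    have hdN : d ∈ N := by
      refine Subgroup.zpowers_le.2 ?_ hd
      have := N.inv_mem hg
      simpa [mul_assoc, CfsgLib.Involution.Dihedral.inv_eq hz.1] using this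
    refine ⟨d⁻¹ * g, Subgroup.mem_centralizer_singleton_iff.2 ?_, ?_⟩
    · calc d⁻¹ * g * z = d⁻¹ * (g * z * g⁻¹) * g := by group
        _ = d⁻¹ * (d * z * d⁻¹) * g := by rw [he]
        _ = z * (d⁻¹ * g) := by group
    · rw [QuotientGroup.mk'_apply, QuotientGroup.eq]
      simpa [mul_assoc] using Subgroup.Normal.conj_mem ‹N.Normal› _ hdN g⁻¹
  refine ⟨le_antisymm ?_ ?_, ?_, ?_⟩
  · intro q hq
    induction q using QuotientGroup.induction_on with
    | H g =>
      apply key
      rw [Subgroup.mem_centralizer_singleton_iff] at hq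
      rw [← QuotientGroup.eq_one_iff]
      simp only [QuotientGroup.mk_mul, QuotientGroup.mk_inv]
      rw [hq]; group
  · rintro q ⟨g, hg, rfl⟩
    rw [Subgroup.mem_centralizer_singleton_iff]
    have := congrArg (QuotientGroup.mk' N) (Subgroup.mem_centralizer_singleton_iff.1 hg)
    simpa using this
  · refine CfsgLib.Involution.Dihedral.orderOf_eq_two ?_ ?_
    · rw [← QuotientGroup.mk_mul, CfsgLib.Involution.Dihedral.mul_self hz.1, QuotientGroup.mk_one]
    · rw [Ne, QuotientGroup.eq_one_iff]; exact hzN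
  · intro q hq
    induction q using QuotientGroup.induction_on with
    | H g =>
      obtain ⟨m, hm⟩ := CfsgLib.Involution.Isolated.odd_of_isConj hz
        (c := g * z * g⁻¹) (isConj_iff.2 ⟨g, rfl⟩)
      set a : G ⧸ N := (z : G ⧸ N)
      set b : G ⧸ N := (g : G ⧸ N) * (z : G ⧸ N) * (g : G ⧸ N)⁻¹ with hb
      have haa : a * a = 1 := by
        rw [← QuotientGroup.mk_mul, CfsgLib.Involution.Dihedral.mul_self hz.1, QuotientGroup.mk_one]
      have hbb : b * b = 1 := by
        calc b * b = (g : G ⧸ N) * (a * a) * (g : G ⧸ N)⁻¹ := by rw [hb]; simp only [a]; group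
          _ = 1 := by rw [haa]; group
      have hab : (a * b) ^ 2 = 1 := by
        rw [pow_two, mul_assoc, ← mul_assoc b, ← hq.eq, mul_assoc a b b, hbb, mul_one, haa]
      have : (a * b) ^ (2 * m + 1) = 1 := by
        have := congrArg (QuotientGroup.mk' N) (pow_orderOf_eq_one (z * (g * z * g⁻¹)))
        rw [hm, map_pow, map_one] at this
        exact this
      rw [pow_succ, pow_mul, hab, one_pow, one_mul, mul_eq_one_iff_inv_eq] at this
      rw [← this, inv_eq_of_mul_eq_one_left haa]

end Cfsg.Agent.S1181
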