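import Cfsg.Statements.S4492
import Cfsg.Agent.Lib.Blocks.PrincipalType
-- import your own Cfsg.Agent.* helpers here

set_option autoImplicit false
open Cfsg CfsgLib.Blocks CfsgLib.Blocks.FongReynolds

namespace Cfsg.Agent.S4492

/-- Let G be a finite p-solvable group, N = O_{p'}(G) its largest normal subgroup of order prime to p, and θ an irreducible character of N invariant under conjugation by G; fix a maximal ideal M of the algebraic integers containing p. Then the irreducible characters of G lying over θ (those whose restriction to N contains θ) form a single p-block of G, and the defect groups of that block are exactly the Sylow p-subgroups of G. -/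
theorem result {G : Type*} [Group G] [Fintype G] (p : ℕ) [Fact p.Prime] (M : Ideal Cfsg.AlgInt) (hM : Cfsg.IsPModular p M) (hsolv : Cfsg.IsPSolvable p G) (N : Subgroup G) [hN : N.Normal] [Fintype N] (hNdef : N = Cfsg.pPrimeCore p G) (θ : Cfsg.IrrCharacter N) (hinv : ∀ (g : G) (n : N), (θ : N → ℂ) ⟨g * n * g⁻¹, hN.conj_mem n n.2 g⟩ = (θ : N → ℂ) n) : ∃ B : Set (Cfsg.IrrCharacter G), Cfsg.IsPBlock M B ∧ (∀ χ : Cfsg.IrrCharacter G, χ ∈ B ↔ Cfsg.classInner (fun n : N => (χ : G → ℂ) n) (θ : N → ℂ) ≠ 0) ∧ (∀ P : Sylow p G, Cfsg.IsDefectGroup p M B (P : Subgroup G)) ∧ ∀ D : Subgroup G, Cfsg.IsDefectGroup p M B D → ∃ P : Sylow p G, D = (P : Subgroup G) := by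
  classical
  have := Fact.mk hM.1
  subst hNdef
  haveI : (Cfsg.pPrimePCore p G).Normal := Subgroup.Normal.comap inferInstance _
  have hK' : ¬ p ∣ Nat.card (Cfsg.pPrimeCore p G) :=
    hM.1.coprime_iff_not_dvd.1 (CfsgLib.Solvable.Cores.coprime_card_pPrimeCore p).symm
  have hKL : Cfsg.pPrimeCore p G ≤ Cfsg.pPrimePCore p G := fun x hx => by
    show QuotientGroup.mk' (Cfsg.pPrimeCore p G) x ∈ Cfsg.pCore p (G ⧸ Cfsg.pPrimeCore p G)
    rw [show QuotientGroup.mk' (Cfsg.pPrimeCore p G) x = 1 from (QuotientGroup.eq_one_iff x).2 hx]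
    exact one_mem _
  obtain ⟨k, hk⟩ : ∃ k, (Cfsg.pPrimeCore p G).relIndex (Cfsg.pPrimePCore p G) = p ^ k := by
    obtain ⟨k, hk⟩ := (CfsgLib.Solvable.Cores.isPGroup_pCore (G := G ⧸ Cfsg.pPrimeCore p G) p).exists_card_eq
    refine ⟨k, ?_⟩
    rw [← hk, ← Subgroup.relIndex_bot_left]
    conv_rhs => rw [← Subgroup.map_comap_eq_self_of_surjective
      (QuotientGroup.mk'_surjective (Cfsg.pPrimeCore p G)) (Cfsg.pCore p _), ← Subgroup.relIndex_comap,
      MonoidHom.comap_bot, QuotientGroup.ker_mk']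
    rfl
  obtain ⟨P⟩ : Nonempty (Sylow p ↥(Cfsg.pPrimePCore p G)) := inferInstance
  have hθ : ∀ g : G, conjIrr g θ = θ := fun g => Subtype.ext (funext fun n =>
    Eq.trans (congrArg (fun z => (θ : Cfsg.pPrimeCore p G → ℂ) z)
      (Subtype.ext (MulAut.conjNormal_apply g n))) (hinv g n))
  refine ⟨{χ | classInner (fun n : Cfsg.pPrimeCore p G => (χ : G → ℂ) n)
    (θ : Cfsg.pPrimeCore p G → ℂ) ≠ 0}, ?_⟩
  obtain ⟨h1, h2, h3⟩ := PrincipalType.block_over hM hK' hKL hk
    (Q := (P : Subgroup ↥(Cfsg.pPrimePCore p G)).map (Cfsg.pPrimePCore p G).subtype)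
    (Subgroup.map_subtype_le _) (P.isPGroup'.map _)
    (by
      rw [Subgroup.relIndex, Subgroup.subgroupOf, Subgroup.comap_map_eq_self_of_injective
        (Cfsg.pPrimePCore p G).subtype_injective]
      exact P.not_dvd_index)
    (CfsgLib.Fusion.PSolvable.isPConstrained hsolv P) hθ
    (B := {χ | classInner (fun n : Cfsg.pPrimeCore p G => (χ : G → ℂ) n)
      (θ : Cfsg.pPrimeCore p G → ℂ) ≠ 0}) (fun χ => Iff.rfl)
  exact ⟨h1, fun χ => Iff.rfl, h2, h3⟩

end Cfsg.Agent.S4492
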