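import Cfsg.Statements.S4646
import Cfsg.Agent.S0936
import Cfsg.Agent.Lib.Blocks.BrauerPair
import Cfsg.Agent.Lib.Blocks.Kernel
import Cfsg.Agent.Lib.Blocks.Local2
import Cfsg.Agent.Lib.Fusion.Alperin
import Cfsg.Agent.Lib.Blocks.Parts
import Cfsg.Agent.Lib.Blocks.Rank
-- import your own Cfsg.Agent.* helpers here

set_option autoImplicit false
open Cfsg

namespace Cfsg.Agent.S4646

/-- For a finite group G, a prime p and a maximal ideal M of the algebraic integers containing p: the principal block of G is nilpotent if and only if its p-regular rank is 1 (the trivial Brauer character is its only irreducible Brauer character). -/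
theorem result {G : Type*} [Group G] [Finite G] (p : ℕ) [Fact p.Prime] (M : Ideal Cfsg.AlgInt) (hM : Cfsg.IsPModular p M) : Cfsg.IsNilpotentBlock p M (Cfsg.principalBlock M G) ↔ Cfsg.blockRank p (Cfsg.principalBlock M G) = 1 := by
  classical
  letI : Fintype G := Fintype.ofFinite G
  have hp : p.Prime := Fact.out
  have hB : Cfsg.IsPBlock M (Cfsg.principalBlock M G) := CfsgLib.Blocks.isPBlock_principalBlock
  have htriv := CfsgLib.Blocks.trivChar_mem_principalBlock (G := G) hM
  constructor
  · rintro ⟨-, hnil⟩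
    obtain ⟨P⟩ : Nonempty (Sylow p G) := inferInstance
    have hnpc : Cfsg.HasNormalPComplement p G :=
      CfsgLib.Fusion.Alperin.npc_of_frobenius P fun Q hQP g hg ho => by
        set C := Subgroup.centralizer (Q : Set G)
        have hQp : IsPGroup p Q := P.isPGroup'.to_le hQP
        obtain ⟨B', hB'⟩ := CfsgLib.Blocks.exists_isInducedBlock_centralizer hM hQp (K := C) rfl
          (CfsgLib.Blocks.isPBlock_principalBlock (M := M) (G := C))
        have hpair : Cfsg.IsBrauerPairOf p M (Cfsg.principalBlock M G) Q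
            (Cfsg.principalBlock M C) :=
          (CfsgLib.Blocks.isBrauerPairOf_iff_induced hM hQp
            CfsgLib.Blocks.isPBlock_principalBlock).2
            ((Cfsg.Agent.S0936.result p M hM C _ ⟨B', hB'⟩).2 rfl)
        have hmemN : ∀ w ∈ Subgroup.normalizer (Q : Set G), ∀ x ∈ C, w * x * w⁻¹ ∈ C :=
          fun w hw x hx => CfsgLib.Blocks.mem_centralizer_conj hw hx
        refine hnil Q _ hpair g hg ⟨?_, ?_⟩ (fun h => hp.not_dvd_one (ho ▸ Nat.dvd_gcd h dvd_rfl))
        · refine Subgroup.mem_normalizer_iff.2 fun x => ⟨hmemN g hg x, fun hx => ?_⟩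
          simpa [mul_assoc] using hmemN g⁻¹ (inv_mem hg) _ hx
        · intro χ hχ
          let e : C ≃* C :=
            { toFun := fun x => ⟨g⁻¹ * x * g, by simpa using hmemN g⁻¹ (inv_mem hg) x x.2⟩
              invFun := fun x => ⟨g * x * g⁻¹, hmemN g hg x x.2⟩
              left_inv := fun x => Subtype.ext (by simp [mul_assoc])
              right_inv := fun x => Subtype.ext (by simp [mul_assoc])
              map_mul' := fun x y => Subtype.ext (by simp [mul_assoc]) }
          refine ⟨CfsgLib.Blocks.irrRelabel e χ, ?_, fun k k' hk => ?_⟩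
          · have h1 := CfsgLib.Blocks.sameBlock_irrRelabel (M := M) e
              (CfsgLib.Blocks.IsPBlock.sameBlock hM CfsgLib.Blocks.isPBlock_principalBlock
                (CfsgLib.Blocks.trivChar_mem_principalBlock hM) hχ)
            exact CfsgLib.Blocks.mem_blockOf.2 h1
          · show (χ : C → ℂ) (e k') = _
            exact congrArg _ (Subtype.ext (by simp [e, hk, mul_assoc]))
    obtain ⟨S, O, hOn, hcompl⟩ := hnpc
    haveI := hOn
    have hcop : ¬ p ∣ Nat.card O := fun h => S.not_dvd_index (by rwa [hcompl.index_eq_card])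
    obtain ⟨j, hj⟩ := IsPGroup.iff_card.1 S.isPGroup'
    have hidx : O.index = p ^ j := by rw [hcompl.symm.index_eq_card, hj]
    have hregO : ∀ s : G, Cfsg.IsPRegular p s → s ∈ O := fun s hs => by
      obtain ⟨i, -, hi⟩ := (Nat.dvd_prime_pow hp).1
        (hidx ▸ (Subgroup.index_eq_card O).symm ▸ orderOf_dvd_natCard (QuotientGroup.mk' O s))
      rcases Nat.eq_zero_or_pos i with h0 | h0
      · rw [h0, pow_zero, orderOf_eq_one_iff] at hi
        exact (QuotientGroup.eq_one_iff s).1 hi
      · exact absurd ((dvd_pow_self p h0.ne').trans (hi ▸ orderOf_map_dvd _ s)) hs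
    have hpart : ∀ χ ∈ Cfsg.principalBlock M G, Cfsg.pRegularPart p (χ : G → ℂ)
        = (χ : G → ℂ) 1 • Cfsg.pRegularPart p (CfsgLib.Blocks.trivChar G : G → ℂ) := by
      intro χ hχ
      have hker : O ≤ CfsgLib.Blocks.irrKer χ := CfsgLib.Blocks.le_irrKer_of_sameBlock hM hOn hcop
        (CfsgLib.Blocks.IsPBlock.sameBlock hM hB htriv hχ)
        (fun n _ => CfsgLib.Blocks.mem_irrKer.2 rfl)
      funext s
      rw [Pi.smul_apply, CfsgLib.Blocks.pRegularPart_apply, CfsgLib.Blocks.pRegularPart_apply]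
      by_cases hs : Cfsg.IsPRegular p s
      · rw [if_pos hs, if_pos hs, CfsgLib.Blocks.mem_irrKer.1 (hker (hregO s hs))]
        simp [CfsgLib.Blocks.trivChar]
      · rw [if_neg hs, if_neg hs, smul_zero]
    rw [Cfsg.blockRank]
    have hspan : Submodule.span ℂ ((fun χ : Cfsg.IrrCharacter G =>
        Cfsg.pRegularPart p (χ : G → ℂ)) '' Cfsg.principalBlock M G)
        = Submodule.span ℂ {Cfsg.pRegularPart p (CfsgLib.Blocks.trivChar G : G → ℂ)} := by
      refine le_antisymm (Submodule.span_le.2 ?_) (Submodule.span_mono ?_)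
      · rintro _ ⟨χ, hχ, rfl⟩
        exact Submodule.mem_span_singleton.2 ⟨_, (hpart χ hχ).symm⟩
      · exact Set.singleton_subset_iff.2 ⟨_, htriv, rfl⟩
    rw [hspan]
    refine finrank_span_singleton fun h0 => ?_
    have h1 := congrFun h0 1
    rw [CfsgLib.Blocks.pRegularPart_apply,
      if_pos (by simp [Cfsg.IsPRegular, hp.ne_one] : Cfsg.IsPRegular p (1 : G))] at h1
    exact CfsgLib.Blocks.irr_one_ne_zero (CfsgLib.Blocks.trivChar G) h1
  · intro hrank
    refine ⟨hB, fun Q e hpair x hx _ hxreg => ?_⟩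
    have hone : Cfsg.IsPRegular p (1 : G) := by simp [Cfsg.IsPRegular, hp.ne_one]
    set W := Submodule.span ℂ ((fun χ : Cfsg.IrrCharacter G =>
      Cfsg.pRegularPart p (χ : G → ℂ)) '' Cfsg.principalBlock M G)
    set t := Cfsg.pRegularPart p (CfsgLib.Blocks.trivChar G : G → ℂ)
    have ht0 : t ≠ 0 := fun h0 => by
      have h1 := congrFun h0 1
      simp only [t, CfsgLib.Blocks.pRegularPart_apply, if_pos hone] at h1
      exact CfsgLib.Blocks.irr_one_ne_zero (CfsgLib.Blocks.trivChar G) h1
    have hval : ∀ χ ∈ Cfsg.principalBlock M G, ∀ s : G, Cfsg.IsPRegular p s →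
        (χ : G → ℂ) s = (χ : G → ℂ) 1 := by
      intro χ hχ s hs
      obtain ⟨a, ha⟩ := (finrank_eq_one_iff_of_nonzero' (⟨t, Submodule.subset_span
        ⟨_, htriv, rfl⟩⟩ : W) (fun h => ht0 (congrArg Subtype.val h))).1 hrank
        ⟨_, Submodule.subset_span ⟨χ, hχ, rfl⟩⟩
      have ha' : a • t = Cfsg.pRegularPart p (χ : G → ℂ) := congrArg Subtype.val ha
      have h1 := congrFun ha' s
      have h2 := congrFun ha' 1
      simp only [t, Pi.smul_apply, CfsgLib.Blocks.pRegularPart_apply, if_pos hs] at h1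
      simp only [t, Pi.smul_apply, CfsgLib.Blocks.pRegularPart_apply, if_pos hone] at h2
      rw [← h1, ← h2]
      rfl
    obtain ⟨P⟩ : Nonempty (Sylow p G) := inferInstance
    let K : Subgroup G :=
      ⨅ χ ∈ Cfsg.principalBlock M G, CfsgLib.Blocks.irrKer χ
    have hKmem : ∀ s, s ∈ K ↔ ∀ χ ∈ Cfsg.principalBlock M G,
        (χ : G → ℂ) s = (χ : G → ℂ) 1 := fun s => by
      simp [K, Subgroup.mem_iInf, CfsgLib.Blocks.mem_irrKer]
    have hKn : K.Normal := ⟨fun s hs g => (hKmem _).2 fun χ hχ => by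
      rw [CfsgLib.Char.IsIrrCharacter.isClassFunction χ.2 s g]; exact (hKmem s).1 hs χ hχ⟩
    have hKp : ¬ p ∣ Nat.card K := CfsgLib.Blocks.not_dvd_card_of_le_kernels hM hB
      fun χ hχ s hs => CfsgLib.Blocks.mem_irrKer.2 ((hKmem s).1 hs χ hχ)
    have hreg : ∀ s, Cfsg.IsPRegular p s → s ∈ K :=
      fun s hs => (hKmem s).2 fun χ hχ => hval χ hχ s hs
    obtain ⟨k, hk⟩ :=
      IsPGroup.iff_card.1 (show IsPGroup p (G ⧸ K) from fun q => by
        obtain ⟨g, rfl⟩ := QuotientGroup.mk'_surjective K q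
        obtain ⟨u, w, -, huw, -, hw, ⟨i, hi⟩, -⟩ := CfsgLib.Blocks.exists_isPPart hp g
        refine ⟨i, ?_⟩
        rw [← huw, map_mul, show QuotientGroup.mk' K w = 1 from
          (QuotientGroup.eq_one_iff w).2 (hreg w hw), mul_one, ← map_pow, ← hi,
          pow_orderOf_eq_one, map_one])
    have hcompl : K.IsComplement' (P : Subgroup G) := by
      refine Subgroup.isComplement'_of_coprime ?_ ?_
      · rw [P.card_eq_multiplicity]
        conv_rhs => rw [← Subgroup.card_mul_index K, Subgroup.index_eq_card, hk]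
        congr 2
        rw [← Subgroup.card_mul_index K, Subgroup.index_eq_card, hk,
          Nat.factorization_mul Nat.card_pos.ne' (pow_ne_zero _ hp.ne_zero), Finsupp.add_apply,
          Nat.factorization_eq_zero_of_not_dvd hKp, zero_add, Nat.Prime.factorization_pow hp,
          Finsupp.single_eq_same]
      · obtain ⟨i, hi⟩ := IsPGroup.iff_card.1 P.isPGroup'
        rw [hi]
        exact Nat.Coprime.pow_right _ ((hp.coprime_iff_not_dvd.2 hKp).symm)
    exact CfsgLib.Fusion.Alperin.centralizes_of_npc ⟨P, K, hKn, hcompl⟩ hpair.1.1 hx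
      (Nat.Coprime.symm (hp.coprime_iff_not_dvd.2 hxreg))

end Cfsg.Agent.S4646
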