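import Cfsg.Statements.S4691
import Cfsg.Agent.Lib.BrauerPairs.Principal
import Cfsg.Agent.Lib.Fusion.Alperin
-- import your own Cfsg.Agent.* helpers here

set_option autoImplicit false
open Cfsg

namespace Cfsg.Agent.S4691

/-- Fix a prime p and a maximal ideal M of the algebraic integers containing p. A finite group G has a normal p-complement if and only if its principal p-block is nilpotent. -/
theorem result {G : Type*} [Group G] [Fintype G] (p : ℕ) [Fact p.Prime] (M : Ideal Cfsg.AlgInt) (hM : Cfsg.IsPModular p M) : Cfsg.HasNormalPComplement p G ↔ Cfsg.IsNilpotentBlock p M (Cfsg.principalBlock M G) := by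
  classical
  constructor
  · intro h
    refine ⟨CfsgLib.Blocks.isPBlock_principalBlock, fun Q e hQe x hxN _ hxr => ?_⟩
    exact CfsgLib.Fusion.Alperin.centralizes_of_npc h hQe.1.1 hxN
      ((hM.1.coprime_iff_not_dvd.2 hxr).symm)
  · intro h
    obtain ⟨S⟩ : Nonempty (Sylow p G) := inferInstance
    refine CfsgLib.Fusion.Alperin.npc_of_frobenius S fun Q hQ g hg ho => ?_
    have hQp : IsPGroup p Q := S.2.to_le hQ
    exact h.2 Q _ ((CfsgLib.BrauerPairs.isBrauerPairOf_principal_iff hM hQp).2 rfl) g hg
      (CfsgLib.BrauerPairs.stabilizes_principal hM hg) (hM.1.coprime_iff_not_dvd.1 ho.symm)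

end Cfsg.Agent.S4691
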