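import Cfsg.Statements.S4541
import Cfsg.Agent.Lib.Blocks.TwoContrib

-- import your own Cfsg.Agent.* helpers here

set_option autoImplicit false
open Cfsg CfsgLib.Blocks

namespace Cfsg.Agent.S4541

/-- Let B be a 2-block of the finite group G (relative to a maximal ideal M of the algebraic integers containing 2), u a 2-element, and b a block of the centralizer of u inducing B (a subsection (u, b)), of defect q and 2-regular rank l; write s for the integer square root of l and k₀(B) for the number of members of B of height zero. If s is odd then k₀(B) ≤ s·2 ^ q, and otherwise (s + 1)·k₀(B) ≤ l·2 ^ q; in particular k₀(B) ≤ 2 ^ q when l ≤ 3. -/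
theorem result {G : Type*} [Group G] [Finite G] (M : Ideal Cfsg.AlgInt) (hM : Cfsg.IsPModular 2 M) (B : Set (Cfsg.IrrCharacter G)) (hB : Cfsg.IsPBlock M B) (u : G) (hu : ∃ j : ℕ, orderOf u = 2 ^ j) (b : Set (Cfsg.IrrCharacter ↥(Subgroup.centralizer ({u} : Set G)))) (hb : Cfsg.IsInducedBlock M (Subgroup.centralizer ({u} : Set G)) b B) : (Odd (Nat.sqrt (Cfsg.blockRank 2 b)) → Nat.card {χ : Cfsg.IrrCharacter G // χ ∈ B ∧ Cfsg.blockHeight 2 B (χ : G → ℂ) = 0} ≤ Nat.sqrt (Cfsg.blockRank 2 b) * 2 ^ Cfsg.blockDefect 2 b) ∧ (¬ Odd (Nat.sqrt (Cfsg.blockRank 2 b)) → (Nat.sqrt (Cfsg.blockRank 2 b) + 1) * Nat.card {χ : Cfsg.IrrCharacter G // χ ∈ B ∧ Cfsg.blockHeight 2 B (χ : G → ℂ) = 0} ≤ Cfsg.blockRank 2 b * 2 ^ Cfsg.blockDefect 2 b) ∧ (Cfsg.blockRank 2 b ≤ 3 → Nat.card {χ : Cfsg.IrrCharacter G // χ ∈ B ∧ Cfsg.blockHeight 2 B (χ : G → ℂ) = 0} ≤ 2 ^ Cfsg.blockDefect 2 b) := by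
  classical
  let _ : Fintype G := Fintype.ofFinite G
  have he : Nat.card {χ : Cfsg.IrrCharacter G // χ ∈ B ∧ Cfsg.blockHeight 2 B (χ : G → ℂ) = 0}
      = Nat.card {φ : Cfsg.IrrCharacter G //
          φ ∈ B ∧ CfsgLib.Blocks.degVal 2 φ = CfsgLib.Blocks.minDegVal 2 B} :=
    Nat.card_congr (Equiv.subtypeEquivRight fun χ =>
      and_congr_right fun h => CfsgLib.Blocks.blockHeight_eq_zero_iff h)
  obtain ⟨h1, h2⟩ := CfsgLib.Blocks.TwoContrib.card_height_zero_bounds hM rfl hu hb he rfl rfl rfl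
  refine ⟨h1, h2, fun hl => ?_⟩
  by_cases h0 : Cfsg.blockRank 2 b = 0
  · have h := h2 (by simp [h0])
    simp [h0] at h
    simp [h]
  · have hs : Nat.sqrt (Cfsg.blockRank 2 b) = 1 :=
      le_antisymm (Nat.lt_succ_iff.1 (Nat.sqrt_lt.2 (by omega))) (Nat.sqrt_pos.2 (Nat.pos_of_ne_zero h0))
    have h := h1 (by rw [hs]; exact odd_one)
    rwa [hs, one_mul] at h

end Cfsg.Agent.S4541
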