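import Cfsg.Statements.S4733
import Cfsg.Agent.Lib.Blocks.Rank
import Cfsg.Agent.Lib.Blocks.Height
import Cfsg.Agent.Lib.DegreeTools.Basic

set_option autoImplicit false
open Cfsg

namespace Cfsg.Agent.S4733

open CfsgLib.Blocks
open scoped Classical

/-- Let p be a prime, M a maximal ideal of the algebraic integers containing p, and B a p-block of the finite group G with k irreducible characters and p-regular rank l (the number of irreducible Brauer characters). Then l ≤ k, and the following are equivalent: B has defect 0; k = l = 1; k = l. -/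
theorem result {G : Type*} [Group G] [Finite G] (p : ℕ) [Fact p.Prime] (M : Ideal Cfsg.AlgInt) (hM : Cfsg.IsPModular p M) (B : Set (Cfsg.IrrCharacter G)) (hB : Cfsg.IsPBlock M B) : Cfsg.blockRank p B ≤ Nat.card B ∧ (Cfsg.blockDefect p B = 0 ↔ (Nat.card B = 1 ∧ Cfsg.blockRank p B = 1)) ∧ (Cfsg.blockDefect p B = 0 ↔ Nat.card B = Cfsg.blockRank p B) := by
  have := Fintype.ofFinite G
  have hp : p.Prime := Fact.out
  let v : B → (G → ℂ) := fun χ => pRegularPart p ((χ : IrrCharacter G) : G → ℂ)
  have hspan : blockRank p B = Module.finrank ℂ (Submodule.span ℂ (Set.range v)) := by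
    rw [blockRank, Set.image_eq_range]
  have hle : blockRank p B ≤ Nat.card B := by
    rw [hspan, Nat.card_eq_fintype_card]
    exact finrank_range_le_card v
  have hne : B.Nonempty := IsPBlock.nonempty hM hB
  have hk : 0 < Nat.card B := by
    have := hne.to_subtype
    exact Nat.card_pos
  have hl : 0 < blockRank p B := by
    rw [hspan, Module.finrank_pos_iff, Submodule.nontrivial_iff_ne_bot, Ne, Submodule.span_eq_bot]
    obtain ⟨χ, hχ⟩ := hne
    intro h
    have h1 := congrFun (h _ ⟨⟨χ, hχ⟩, rfl⟩) 1
    have hreg : IsPRegular p (1 : G) := by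
      by_contra hs
      rw [not_isPRegular, orderOf_one] at hs
      exact hp.not_dvd_one hs
    simp only [v, pRegularPart_apply, if_pos hreg, Pi.zero_apply] at h1
    exact CfsgLib.Char.IsIrrCharacter.apply_one_ne_zero χ.2 h1
  have h1 : blockDefect p B = 0 → Nat.card B = 1 ∧ blockRank p B = 1 := by
    intro h0
    have h := four_mul_card_le hM hB
    rw [h0, mul_zero, pow_zero] at h
    omega
  have h2 : Nat.card B = blockRank p B → blockDefect p B = 0 := by
    intro he
    have hind : LinearIndependent ℂ v := by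
      rw [linearIndependent_iff_card_eq_finrank_span, Set.finrank, ← hspan, ← he,
        Nat.card_eq_fintype_card]
    have hvan : ∀ χ ∈ B, ∀ y : G, p ∣ orderOf y → (χ : G → ℂ) y = 0 := by
      intro χ hχ y hy
      refine Fintype.linearIndependent_iff.1 hind
        (fun i : B => ((i : IrrCharacter G) : G → ℂ) y) ?_ ⟨χ, hχ⟩
      funext x
      simp only [v, Finset.sum_apply, Pi.smul_apply, smul_eq_mul, pRegularPart_apply, Pi.zero_apply]
      by_cases hx : IsPRegular p x
      · simp only [if_pos hx]
        have h := (IsPBlock.isLocalOn hM hB).sum_mul_eq_zero hM (blockInd_mul_self B) hy hx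
        rw [← h, ← Finset.sum_subset (Finset.subset_univ B.toFinset) (fun ψ _ hψ => by
          rw [blockInd_of_notMem (by simpa using hψ), zero_mul])]
        rw [Finset.sum_subtype B.toFinset (fun x => Set.mem_toFinset)]
        exact Finset.sum_congr rfl fun i _ => by rw [blockInd_of_mem i.2, one_mul]
      · simp [if_neg hx]
    obtain ⟨χ, hχ, hmin⟩ := exists_degVal_eq_min (p := p) hne
    obtain ⟨n, hn⟩ := pPartCard_dvd_of_vanish hp
      ⟨(χ : G → ℂ), fun _ => 0, CfsgLib.Char.isCharacter_irr χ, CfsgLib.Char.isCharacter_zero,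
        (by funext x; simp)⟩
      (hvan χ hχ)
    rw [← CfsgLib.DegreeTools.deg_cast] at hn
    have hdvd : (p : ℤ) ^ (Nat.card G).factorization p ∣ (charDegree (χ : G → ℂ) : ℤ) := by
      refine ⟨n, ?_⟩
      rw [pPartCard] at hn
      exact_mod_cast hn
    have hdvd' : p ^ (Nat.card G).factorization p ∣ charDegree (χ : G → ℂ) := by
      exact_mod_cast hdvd
    have hge : (Nat.card G).factorization p ≤ degVal p χ :=
      (hp.pow_dvd_iff_le_factorization (CfsgLib.DegreeTools.deg_pos χ).ne').1 hdvd'
    rw [blockDefect_eq]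
    omega
  refine ⟨hle, ⟨h1, fun h => h2 (h.1.trans h.2.symm)⟩, ⟨fun h => ?_, h2⟩⟩
  rw [(h1 h).1, (h1 h).2]

end Cfsg.Agent.S4733
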