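import Cfsg.Statements.S4531
import Cfsg.Agent.Lib.Blocks.TameDefect.DihedralRank
import Cfsg.Agent.Lib.Blocks.TameDefect.SolvableRank

set_option autoImplicit false
open Cfsg

namespace Cfsg.Agent.S4531

open CfsgLib.Blocks CfsgLib.Blocks.TameDefect

/-- A central involution leaves at most two Brauer characters. -/
theorem blockRank_le_two_of_central {G : Type*} [Group G] [Fintype G] {M : Ideal Cfsg.AlgInt}
    (hM : Cfsg.IsPModular 2 M) {B : Set (Cfsg.IrrCharacter G)} (hB : Cfsg.IsPBlock M B)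
    {D : Subgroup G} (hD : Cfsg.IsDefectGroup 2 M B D) {k : ℕ} {e : ℤ} {a b : G}
    (hs : Shape D k e a b) {z : G} (hz : z ∈ Subgroup.center G) (ho : orderOf z = 2) :
    Cfsg.blockRank 2 B ≤ 2 := by
  classical
  haveI : Fact (Nat.Prime 2) := ⟨Nat.prime_two⟩
  have hZle : Subgroup.zpowers z ≤ Subgroup.center G := Subgroup.zpowers_le.2 hz
  haveI hZn : (Subgroup.zpowers z).Normal := ⟨fun n hn g => by
    rwa [Subgroup.mem_center_iff.1 (hZle hn) g, mul_inv_cancel_right]⟩
  have hZp : IsPGroup 2 (Subgroup.zpowers z) :=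
    IsPGroup.of_card (n := 1) (by rw [Nat.card_zpowers, ho, pow_one])
  have hzD : z ∈ D := le_defectGroup_of_normal hM hB hZp hD (Subgroup.mem_zpowers z)
  have hzeq : z = zinv k a := hs.eq_z_of_central hzD ho fun y _ => Subgroup.mem_center_iff.1 hz y
  subst hzeq
  rcases hs.kind with rfl | ⟨hk3, he⟩
  · rw [blockRank_eq_one hM hB hD hs hz]; omega
  letI : Fintype (G ⧸ Subgroup.zpowers (zinv k a)) := Fintype.ofFinite _
  obtain ⟨bb, hbb, hle, hDG⟩ := exists_quot_rank hM hZle hZp hB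
  refine hle.trans ?_
  set π := QuotientGroup.mk' (Subgroup.zpowers (zinv k a))
  have hπ : ∀ g : G, π g = 1 ↔ g ∈ Subgroup.zpowers (zinv k a) := fun g =>
    QuotientGroup.eq_one_iff g
  have hw : ∀ w ∈ Subgroup.zpowers (zinv k a), w = 1 ∨ w = zinv k a := by
    intro w hw
    obtain ⟨i, rfl⟩ := Subgroup.mem_zpowers_iff.1 hw
    have h2 : zinv k a ^ (2 : ℤ) = 1 := by rw [zpow_two]; exact hs.z_sq
    rcases Int.even_or_odd' i with ⟨m, rfl | rfl⟩
    · left; rw [zpow_mul, h2, one_zpow]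
    · right; rw [zpow_add, zpow_mul, h2, one_zpow, one_mul, zpow_one]
  have hww : ∀ w ∈ Subgroup.zpowers (zinv k a), w * w = 1 := by
    intro w hw'
    rcases hw w hw' with rfl | rfl
    · rw [one_mul]
    · exact hs.z_sq
  have hhalf : a ^ 2 ^ (k - 2) * a ^ 2 ^ (k - 2) = zinv k a := by
    rw [← pow_add, ← mul_two, ← pow_succ, zinv]
    congr 2
    omega
  have hq : Shape (D.map π) (k - 1) (-1) (π a) (π b) := by
    refine ⟨by omega, ⟨a, hs.a_mem, rfl⟩, ⟨b, hs.b_mem, rfl⟩, ?_, ?_, ?_, ?_, ?_, Or.inl rfl⟩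
    · have h1 : (π a) ^ 2 ^ (k - 1) = 1 := by
        rw [← map_pow, hπ]; exact Subgroup.mem_zpowers _
      have h2 : ¬ (π a) ^ 2 ^ (k - 2) = 1 := fun h => by
        rw [← map_pow, hπ] at h
        exact hs.z_ne_one (hhalf.symm.trans (hww _ h))
      have hk : k - 1 = k - 2 + 1 := by omega
      rw [hk] at h1 ⊢
      exact orderOf_eq_prime_pow h2 h1
    · set f := π.domRestrict D
      have hr : f.range = D.map π := MonoidHom.domRestrict_range D π
      have hker : Nat.card f.ker = 2 := by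
        rw [MonoidHom.ker_domRestrict, QuotientGroup.ker_mk', Nat.card_congr
          (Subgroup.subgroupOfEquivOfLe (Subgroup.zpowers_le.2 hzD)).toEquiv, Nat.card_zpowers, ho]
      have h := Subgroup.card_mul_index f.ker
      rw [Subgroup.index_ker, hr, hker, hs.card, pow_succ, mul_comm] at h
      rw [show k - 1 + 1 = k by omega]
      exact Nat.eq_of_mul_eq_mul_right two_pos h
    · rw [← map_mul, hs.b_sq, map_one]
    · intro hm
      obtain ⟨i, hi⟩ := Subgroup.mem_zpowers_iff.1 hm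
      rw [← map_zpow] at hi
      have h1 : (a ^ i)⁻¹ * b ∈ Subgroup.zpowers (zinv k a) := (QuotientGroup.eq).1 hi
      refine hs.b_notMem ?_
      rw [show b = a ^ i * ((a ^ i)⁻¹ * b) by group]
      exact Subgroup.mul_mem _ (Subgroup.zpow_mem _ (Subgroup.mem_zpowers a) _)
        (Subgroup.zpowers_le.2 (Subgroup.pow_mem _ (Subgroup.mem_zpowers a) _) h1)
    · rw [← map_inv, ← map_mul, ← map_mul, hs.conj, he, zpow_neg_one, zpow_sub, zpow_one, map_mul,
        show π (a ^ ((2 : ℤ) ^ (k - 1))) = 1 from (hπ _).2 (Subgroup.mem_zpowers_iff.2 ⟨1, by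
          rw [zpow_one, zinv, ← zpow_natCast]; norm_cast⟩), one_mul, map_inv]
  refine TameDefect.blockRank_le_two hM hbb (hDG D hD) hq fun hconj => ?_
  obtain ⟨g, hg⟩ := isConj_iff.1 hconj
  obtain ⟨g, rfl⟩ := QuotientGroup.mk'_surjective _ g
  rw [show zinv (k - 1) (π a) = π (a ^ 2 ^ (k - 2)) by
      rw [map_pow, show k - 2 = k - 1 - 1 by omega]; rfl, ← map_inv, ← map_mul, ← map_mul] at hg
  have h1 : (g * b * g⁻¹)⁻¹ * a ^ 2 ^ (k - 2) ∈ Subgroup.zpowers (zinv k a) :=
    (QuotientGroup.eq).1 hg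
  set w := (g * b * g⁻¹)⁻¹ * a ^ 2 ^ (k - 2)
  have hc : Commute (g * b * g⁻¹) w := Subgroup.mem_center_iff.1 (hZle h1) _
  have h2 : g * b * g⁻¹ * w = a ^ 2 ^ (k - 2) := mul_inv_cancel_left _ _
  apply hs.z_ne_one
  calc zinv k a = (g * b * g⁻¹ * w) * (g * b * g⁻¹ * w) := by rw [h2, hhalf]
    _ = (g * b * g⁻¹ * (g * b * g⁻¹)) * (w * w) := hc.symm.mul_mul_mul_comm _ _
    _ = g * (b * b) * g⁻¹ * (w * w) := by group
    _ = 1 := by rw [hs.b_sq, hww w h1]; group

/-- Let the finite group G have a 2-block B (relative to a maximal ideal M of the algebraic integers containing 2) of 2-regular rank three (three irreducible Brauer characters) whose defect group D is dihedral of order 2 ^ n with n ≥ 3 or semidihedral. Then the centre of G has odd order and G is not solvable. -/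
theorem result {G : Type*} [Group G] [Finite G] (M : Ideal Cfsg.AlgInt) (hM : Cfsg.IsPModular 2 M) (B : Set (Cfsg.IrrCharacter G)) (hB : Cfsg.IsPBlock M B) (D : Subgroup G) (hD : Cfsg.IsDefectGroup 2 M B D) (hD' : (∃ n : ℕ, 3 ≤ n ∧ Nonempty (D ≃* DihedralGroup (2 ^ (n - 1)))) ∨ Cfsg.IsQuasiDihedral D) (hl : Cfsg.blockRank 2 B = 3) : Odd (Nat.card (Subgroup.center G)) ∧ ¬ Group.IsSolvable G := by
  classical
  haveI : Fact (Nat.Prime 2) := ⟨Nat.prime_two⟩
  letI : Fintype G := Fintype.ofFinite G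
  obtain ⟨k, e, a, b, hs⟩ := exists_shape hD'
  refine ⟨?_, fun hsol => ?_⟩
  · by_contra hodd
    have h2 : 2 ∣ Nat.card (Subgroup.center G) :=
      (Nat.not_odd_iff_even.1 hodd).two_dvd
    obtain ⟨z, hz⟩ := exists_prime_orderOf_dvd_card' 2 h2
    have := blockRank_le_two_of_central hM hB hD hs z.2 (by rw [Subgroup.orderOf_coe, hz])
    omega
  · have := blockRank_le_two_of_solvable hM (Nat.card G) G rfl hsol B hB D hD k e a b hs
    omega

end Cfsg.Agent.S4531
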