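import Cfsg.Statements.S3224
import Mathlib
import Cfsg.Agent.Lib.TwoGroups.MaximalClass

set_option autoImplicit false
open Cfsg

namespace Cfsg.Agent.S3224

/-- A finite 2-group containing an involution whose centralizer has order 4 is dihedral, quasi-dihedral (semidihedral), or of order 4. -/
theorem result {S : Type*} [Group S] [Finite S] (hS : IsPGroup 2 S)
    (x : S) (hx : orderOf x = 2) (hC : Nat.card ↥(Subgroup.centralizer ({x} : Set S)) = 4) :
    (∃ n : ℕ, Nonempty (S ≃* DihedralGroup n)) ∨ Cfsg.IsQuasiDihedral S ∨ Nat.card S = 4 := by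
  obtain ⟨n, hn⟩ := hS.exists_card_eq
  have h4 : 4 ≤ Nat.card S := hC ▸ Subgroup.card_le_card_group _
  rcases Nat.lt_or_ge n 3 with hlt | hge
  · refine Or.inr (Or.inr ?_)
    interval_cases n <;> simp [hn] at h4 ⊢
  obtain ⟨m, rfl⟩ : ∃ m, n = m + 3 := ⟨n - 3, by omega⟩
  obtain ⟨C, hCy, hCi⟩ := CfsgLib.TwoGroups.MaximalClass.cyclic_max_of_involution_centralizer m S hn x hx hC
  obtain ⟨a, -, hord⟩ := CfsgLib.TwoGroups.Classify.exists_generator hCy hCi
  rw [hn, show m + 3 = (m + 2) + 1 by omega, pow_succ', Nat.mul_right_inj two_ne_zero] at hord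
  have hia := CfsgLib.TwoGroups.CyclicMax.index_zpowers hn hord
  have hxx : x * x = 1 := by rw [← sq, ← hx, pow_orderOf_eq_one]
  have hnc : x ∉ Subgroup.center S := by
    intro hc
    have htop : Subgroup.centralizer ({x} : Set S) = ⊤ :=
      (Subgroup.eq_top_iff' _).mpr fun g => Subgroup.mem_centralizer_singleton_iff.mpr (Subgroup.mem_center_iff.mp hc g)
    rw [htop, Subgroup.card_top, hn] at hC
    have : 2 ^ 3 ≤ 2 ^ (m + 3) := Nat.pow_le_pow_right two_pos (by omega)
    omega
  have hxa : x ∉ Subgroup.zpowers a := fun h =>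
    hnc (CfsgLib.TwoGroups.MaximalClass.central_of_mem_zpowers (m := 2 ^ (m + 1)) (by rw [hord, ← pow_succ']) hia h hxx)
  have hbound : ∀ u : S, u ∈ Subgroup.zpowers a → u * x = x * u → orderOf u ≤ 2 := by
    intro u hu hc
    have hdvd : orderOf u ∣ Nat.card (Subgroup.centralizer ({x} : Set S) ⊓ Subgroup.zpowers a : Subgroup S) := by
      rw [← Nat.card_zpowers]
      exact Subgroup.card_dvd_of_le (Subgroup.zpowers_le.mpr ⟨Subgroup.mem_centralizer_singleton_iff.mpr hc, hu⟩)
    have h1 : Nat.card (Subgroup.centralizer ({x} : Set S) ⊓ Subgroup.zpowers a : Subgroup S) ∣ 2 ^ 2 := by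
      rw [show (2:ℕ) ^ 2 = 4 from rfl, ← hC]; exact Subgroup.card_dvd_of_le inf_le_left
    obtain ⟨j, hj, hj'⟩ := (Nat.dvd_prime_pow Nat.prime_two).mp h1
    have hne : Subgroup.centralizer ({x} : Set S) ⊓ Subgroup.zpowers a ≠ Subgroup.centralizer ({x} : Set S) := by
      intro e
      have : x ∈ Subgroup.centralizer ({x} : Set S) ⊓ Subgroup.zpowers a := e.symm ▸ Subgroup.mem_centralizer_singleton_iff.mpr rfl
      exact hxa this.2
    have hj2 : j ≠ 2 := fun e => hne (Subgroup.eq_of_le_of_card_ge inf_le_left (by rw [hj', e, hC]; norm_num))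
    refine (Nat.le_of_dvd Nat.card_pos hdvd).trans ?_
    rw [hj']
    exact (Nat.pow_le_pow_right two_pos (show j ≤ 1 by omega)).trans (le_refl 2)
  rcases CfsgLib.TwoGroups.CyclicMax.exists_exponent (b := x) (k := m + 2) (by omega) hn hord with h | h | h | h
  · exfalso
    have := hbound a (Subgroup.mem_zpowers a) (mul_inv_eq_iff_eq_mul.mp h).symm
    rw [hord] at this
    have : 2 ^ 2 ≤ 2 ^ (m + 2) := Nat.pow_le_pow_right two_pos (by omega)
    omega
  · exact Or.inl ⟨_, CfsgLib.TwoGroups.CyclicMax.dihedral_iso hord (by rw [hn, ← pow_succ']) hxa hxx h⟩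
  · rcases Nat.eq_zero_or_pos m with rfl | hm
    · -- exponent 3 is inversion
      have e : x * a * x⁻¹ = a⁻¹ := by
        rw [h, eq_inv_iff_mul_eq_one, ← pow_succ, ← orderOf_dvd_iff_pow_eq_one, hord]
        norm_num
      exact Or.inl ⟨_, CfsgLib.TwoGroups.CyclicMax.dihedral_iso hord (by rw [hn, ← pow_succ']) hxa hxx e⟩
    · exfalso
      have h2 : x * (a ^ 2) * x⁻¹ = a ^ 2 := by
        rw [← conj_pow, h, ← pow_mul, show (1 + 2 ^ (m + 2 - 1)) * 2 = 2 + 2 ^ (m + 2) by
          rw [show m + 2 - 1 = m + 1 by omega, pow_succ 2 (m + 1)]; ring, pow_add, ← hord, pow_orderOf_eq_one, mul_one]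
      have := hbound (a ^ 2) (Subgroup.pow_mem _ (Subgroup.mem_zpowers a) 2) (mul_inv_eq_iff_eq_mul.mp h2).symm
      rw [orderOf_pow_of_dvd two_ne_zero (hord ▸ dvd_pow_self 2 (by omega)), hord, pow_succ, Nat.mul_div_cancel _ two_pos] at this
      have : 2 ^ 2 ≤ 2 ^ (m + 1) := Nat.pow_le_pow_right two_pos (by omega)
      omega
  · rcases Nat.eq_zero_or_pos m with rfl | hm
    · exfalso
      norm_num at h
      have := hbound a (Subgroup.mem_zpowers a) (mul_inv_eq_iff_eq_mul.mp h).symm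
      rw [hord] at this
      norm_num at this
    · refine Or.inr (Or.inl ⟨m + 2, by omega, hn, a, x, hord, hx, ?_⟩)
      exact h

end Cfsg.Agent.S3224
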