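import Cfsg.Agent.Lib.FusionSystem.Normal
-- Template for statement S5083 (row 5083; see /opt/grader/pristine/manifest.json for weights).
-- Copy to Cfsg/Agent/S5083.lean and replace the sorry. The statement below is byte-identical to the frozen
-- statement Cfsg.CfsgFrozen.S5083 (Cfsg/Statements/S5083.lean; the theorem Cfsg.fus_inner_of_automorphism_groups_p_groups);
-- the grader kernel-checks Cfsg.Agent.S5083.result against that frozen type. Keep the theorem IN THIS FILE
-- (a `result` declared elsewhere and merely imported here is not credited); helpers may live anywhere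
-- under Cfsg/Agent/.
import Cfsg.Statements.S5083
-- import your own Cfsg.Agent.* helpers here

set_option autoImplicit false
open Cfsg

namespace Cfsg.Agent.S5083

/-- If F is a saturated fusion system over a finite p-group S in which Aut_F(P) is a p-group for every P ≤ S, then F is the inner fusion system of S (all its maps are conjugations by elements of S). -/
theorem result {Ω : Type*} [Group Ω] {S : Subgroup Ω} [Finite S] (p : ℕ) [Fact p.Prime] (hS : IsPGroup p S) (F : Cfsg.FusionSystem S) (hF : F.IsSaturated p) (h : ∀ P : Subgroup Ω, P ≤ S → IsPGroup p (F.autGroup P)) : F = Cfsg.innerFusionSystem S := by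
  open CfsgLib.Fsys in
  have hne : ∀ P : Subgroup Ω, P < S → ¬ F.IsEssential p P := by
    intro P hPS hess
    obtain ⟨hc, hfn, hN, Y, -, hY, T, hT⟩ := hess
    obtain ⟨T', hT'ne, -⟩ := outSylow hS hF hPS hfn hc
    have := finite_of_le_base hfn.1
    have htop : IsPGroup p (⊤ : Subgroup (F.autGroup P ⧸ (Cfsg.Inn P).subgroupOf (F.autGroup P))) :=
      ((h P hfn.1).to_quotient _).of_equiv Subgroup.topEquiv.symm
    have hTtop := T.3 htop le_top
    have := (kGeneratedCore_one_le_iff T.2).1 hT ⊤ hTtop.le (fun e => hT'ne (le_bot_iff.1 (le_top.trans e.le)))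
    rw [Subgroup.normalizer_eq_top] at this
    exact hY (top_le_iff.1 this)
  have hEF : ∀ P, (Cfsg.innerFusionSystem S).Hom P ⊆ F.Hom P := by
    rintro P φ ⟨hP, g, hg, hφ⟩
    exact mem_hom_of_fn (fn_conj hP hg) hφ
  have hle : F ≤ Cfsg.innerFusionSystem S := by
    refine alperin hS hF _ ?_ fun P hPS hess => (hne P hPS hess).elim
    obtain ⟨-, R, hR⟩ : F.IsFullyAutomized p S := by
      obtain ⟨Q, hQ, hA, -⟩ := hF S le_rfl
      obtain rfl : Q = S := eq_of_le_of_card le_rfl hA.1 (isConj_card hQ).ge
      exact hA
    have hRtop : (⊤ : Subgroup (F.autGroup S)) = R := R.3 ((h S le_rfl).of_equiv Subgroup.topEquiv.symm) le_top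
    intro α hα
    have : (⟨α, hα⟩ : F.autGroup S) ∈ (R : Subgroup (F.autGroup S)) := hRtop.le (Subgroup.mem_top _)
    rw [hR] at this
    exact autInducedBy_le_autGroup le_rfl this
  exact system_ext fun P => Set.Subset.antisymm (hle P) (hEF P)

end Cfsg.Agent.S5083
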