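import Cfsg.Statements.S0323
import Cfsg.Prelude.Def_LieExceptional

set_option autoImplicit false
open scoped Pointwise
open Cfsg

namespace Cfsg.Agent.S0323

/-- A doubly transitive action on a set with at least three points yields a (B,N)-pair of rank one:
`B` is the stabiliser of a point `x`, `N` the setwise stabiliser of a pair `{x, y}`. -/
theorem result {G Ω : Type*} [Group G] [MulAction G Ω]
    (h2 : MulAction.IsMultiplyPretransitive G Ω 2) {x y z : Ω} (hxy : x ≠ y) (hyz : y ≠ z) (hxz : x ≠ z) :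
    ∃ P : Cfsg.BNPair G, P.B = MulAction.stabilizer G x ∧
      P.N = MulAction.stabilizer G ({x, y} : Set Ω) ∧ P.rank = 1 := by
  rw [MulAction.is_two_pretransitive_iff] at h2
  obtain ⟨s, hsx, hsy⟩ := h2 hxy hxy.symm
  obtain ⟨b₀, hb₀x, hb₀y⟩ := h2 hxy hxz
  set B := MulAction.stabilizer G x with hB
  set N := MulAction.stabilizer G ({x, y} : Set Ω) with hN
  have hNmem : ∀ g, g ∈ N ↔ (g • x = x ∧ g • y = y) ∨ (g • x = y ∧ g • y = x) := by
    intro g
    rw [hN, MulAction.mem_stabilizer_iff]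
    show (fun p => g • p) '' ({x, y} : Set Ω) = {x, y} ↔ _
    rw [Set.image_pair, Set.pair_eq_pair_iff]
  have hsN : s ∈ N := (hNmem s).mpr (.inr ⟨hsx, hsy⟩)
  have hBN : ∀ g, g ∈ B ⊓ N ↔ g • x = x ∧ g • y = y := by
    intro g
    rw [Subgroup.mem_inf, hB, MulAction.mem_stabilizer_iff, hNmem]
    constructor
    · rintro ⟨hgx, h | ⟨h, -⟩⟩
      · exact h
      · exact absurd (hgx.symm.trans h) hxy
    · exact fun h => ⟨h.1, .inl h⟩
  have hdec : ∀ g : G, g • x ≠ x → ∃ p ∈ B, ∃ q ∈ B, g = p * s * q := by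
    intro g hg
    obtain ⟨p, hpx, hpy⟩ := h2 hxy (Ne.symm hg)
    refine ⟨p, hpx, s⁻¹ * p⁻¹ * g, ?_, by group⟩
    show (s⁻¹ * p⁻¹ * g) • x = x
    rw [mul_smul, mul_smul, ← hpy, inv_smul_smul, ← hsx, inv_smul_smul]
  refine ⟨{ B := B, N := N, S := {s}, sup_eq_top := ?_, conj_mem := ?_, subset := ?_, sq_mem := ?_,
            inj := ?_, closure_sup := ?_, mul_mem_union := ?_, conj_ne := ?_ }, rfl, rfl, ?_⟩
  · rw [eq_top_iff]
    intro g _
    by_cases hg : g • x = x
    · exact Subgroup.mem_sup_left hg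
    · obtain ⟨p, hp, q, hq, rfl⟩ := hdec g hg
      exact mul_mem (mul_mem (Subgroup.mem_sup_left hp) (Subgroup.mem_sup_right hsN))
        (Subgroup.mem_sup_left hq)
  · intro n hn t ht
    obtain ⟨htx, hty⟩ := (hBN t).mp ht
    show (n * t * n⁻¹) • x = x
    rcases (hNmem n).mp hn with ⟨h1, -⟩ | ⟨-, h1⟩
    · have : n⁻¹ • x = x := inv_smul_eq_iff.mpr h1.symm
      rw [mul_smul, mul_smul, this, htx, h1]
    · have : n⁻¹ • x = y := inv_smul_eq_iff.mpr h1.symm
      rw [mul_smul, mul_smul, this, hty, h1]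
  · simpa using hsN
  · intro a ha
    rw [Set.mem_singleton_iff] at ha
    subst ha
    show (a * a) • x = x
    rw [mul_smul, hsx, hsy]
  · intro a ha b hb _
    rw [Set.mem_singleton_iff] at ha hb
    rw [ha, hb]
  · refine le_antisymm (sup_le ((Subgroup.closure_le _).mpr (by simpa using hsN)) inf_le_right) ?_
    intro n hn
    have hs' : s ∈ Subgroup.closure {s} ⊔ (B ⊓ N) :=
      Subgroup.mem_sup_left (Subgroup.subset_closure rfl)
    rcases (hNmem n).mp hn with h | ⟨h1, h2'⟩
    · exact Subgroup.mem_sup_right ((hBN n).mpr h)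
    · have hm : s * n ∈ B ⊓ N :=
        (hBN _).mpr ⟨by rw [mul_smul, h1, hsy], by rw [mul_smul, h2', hsx]⟩
      have := mul_mem (inv_mem hs') (Subgroup.mem_sup_right (S := Subgroup.closure {s}) hm)
      rwa [inv_mul_cancel_left] at this
  · intro a ha n hn b hb
    rw [Set.mem_singleton_iff] at ha
    subst ha
    have hbx : b • x = x := hb
    rcases (hNmem n).mp hn with ⟨h1, -⟩ | ⟨h1, h1'⟩
    · left
      rw [DoubleCoset.mem_doubleCoset]
      refine ⟨1, one_mem _, n⁻¹ * b * n, ?_, by group⟩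
      show (n⁻¹ * b * n) • x = x
      rw [mul_smul, mul_smul, h1, hbx]
      exact inv_smul_eq_iff.mpr h1.symm
    · by_cases hg : (a * b * n) • x = x
      · left
        rw [DoubleCoset.mem_doubleCoset]
        refine ⟨a * b * n, hg, (a * n)⁻¹, ?_, by group⟩
        show (a * n)⁻¹ • x = x
        rw [inv_smul_eq_iff, mul_smul, h1, hsy]
      · right
        obtain ⟨p, hp, q, hq, he⟩ := hdec _ hg
        rw [DoubleCoset.mem_doubleCoset]
        refine ⟨p * (a * n⁻¹), mul_mem hp ?_, q, hq, by rw [he]; group⟩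
        show (a * n⁻¹) • x = x
        rw [mul_smul, show n⁻¹ • x = y from inv_smul_eq_iff.mpr h1'.symm, hsy]
  · intro a ha he
    rw [Set.mem_singleton_iff] at ha
    subst ha
    have : a * b₀ * a ∈ (B : Set G) := by rw [← he]; exact ⟨b₀, hb₀x, rfl⟩
    have h' : (a * b₀ * a) • x = x := this
    rw [mul_smul, mul_smul, hsx, hb₀y] at h'
    exact hyz (smul_left_cancel a (h'.trans hsy.symm)).symm
  · show Nat.card ({s} : Set G) = 1
    simp

end Cfsg.Agent.S0323
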