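import Cfsg.Statements.S0283
import Cfsg.Agent.Lib.Classical.HermMatrixSimple

set_option autoImplicit false
open Cfsg CfsgLib.Classical

namespace Cfsg.Agent.S0283

/-- PSU_n(q) is simple for n at least 3 and (n, q) other than (3, 2). -/
theorem result {F : Type*} [Field F] [Fintype F] {q : ℕ} (hF : Fintype.card F = q ^ 2) (n : ℕ) (hn : 3 ≤ n) (h : ¬ (n = 3 ∧ q = 2)) : IsSimpleGroup (Cfsg.PSU n F q) := by
  obtain ⟨σ, hσ, hc⟩ := exists_frob hF
  have hB := stdHerm_isHermitian hc n
  have hN := stdHerm_sepRight (σ := σ) n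
  have hq := two_le_of_card_sq hF
  have hd : BigFixed σ ∧ 3 ≤ Module.finrank F (Fin n → F) ∨ 4 ≤ Module.finrank F (Fin n → F) := by
    rw [Module.finrank_fin_fun]
    by_cases h4 : 4 ≤ n
    · exact Or.inr h4
    · exact Or.inl ⟨bigFixed_of_le hF hσ hc (by omega), hn⟩
  have := hB.sIsom_quotient_simple hN hd
  refine (QuotientGroup.congr (Subgroup.center (Cfsg.SU n F q)) (Subgroup.center (sIsom (stdHerm σ n))) (suEquiv hσ) (Subgroup.ext fun x => ?_)).isSimpleGroup
  refine Subgroup.mem_map_equiv.trans ?_; rw [Subgroup.mem_center_iff, Subgroup.mem_center_iff]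
  exact ⟨fun hy g => (suEquiv hσ).symm.injective (by simpa using hy ((suEquiv hσ).symm g)),
    fun hx g => (suEquiv hσ).injective (by simpa using hx (suEquiv hσ g))⟩

end Cfsg.Agent.S0283
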