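import Cfsg.Statements.S1059
import Cfsg.Agent.Lib.Chevalley.Data.SmithCerts
import Cfsg.Agent.Lib.Chevalley.Data.Steps
import Cfsg.Agent.Lib.Chevalley.Tables
import Cfsg.Agent.Lib.Chevalley.Orders
-- import your own Cfsg.Agent.* helpers here

set_option autoImplicit false
open Cfsg

namespace Cfsg.Agent.S1059

/-- `|G₂(q)| = q⁶ (q² - 1)(q⁶ - 1)`. -/
theorem result {F : Type*} [Field F] [Fintype F] {q : ℕ} (hq : Fintype.card F = q) : Nat.card ↥(Cfsg.Lie.chevG2.group F) = q ^ 6 * (q ^ 2 - 1) * (q ^ 6 - 1) := by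
  have h := CfsgLib.Chevalley.Tbl.group_order CfsgLib.Chevalley.Data.G2.valid CfsgLib.Chevalley.Data.G2.chkComm hq
    CfsgLib.Chevalley.Data.G2.chkSmith CfsgLib.Chevalley.Data.G2.steps_length
    CfsgLib.Chevalley.Data.G2.chkSteps CfsgLib.Chevalley.Data.G2.Reps.chkPoly_reps
  rw [CfsgLib.Chevalley.Data.G2.datum_eq, show CfsgLib.Chevalley.Data.G2.tbl.rank = 2 from rfl] at h
  simp [show CfsgLib.Chevalley.Data.G2.tbl.half = 6 from rfl, Fin.prod_univ_succ, mul_assoc] at h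
  simpa [Nat.gcd_comm _ (q - 1), pow_two, mul_assoc, mul_comm, mul_left_comm] using h

end Cfsg.Agent.S1059
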