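import Cfsg.Statements.S0142
import Cfsg.Agent.Lib.Char.Integral
import Cfsg.Agent.Lib.DegreeTools.CharTools
-- import your own Cfsg.Agent.* helpers here

set_option autoImplicit false
open Cfsg

namespace Cfsg.Agent.S0142

open Module in
theorem eq_zero_or_norm {G : Type*} [Group G] [Finite G] {V : Type*} [AddCommGroup V] [Module ℂ V]
    [FiniteDimensional ℂ V] (ρ : Representation ℂ G V) [ρ.IsIrreducible] (g : G)
    (hcop : Nat.Coprime (finrank ℂ V) (Subgroup.centralizer ({g} : Set G)).index) :
    ρ.character g = 0 ∨ ‖ρ.character g‖ = (finrank ℂ V : ℝ) := by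
  have hd : (finrank ℂ V : ℂ) ≠ 0 := by
    exact_mod_cast (CfsgLib.Char.irreducible_finrank_pos (ρ := ρ)).ne'
  have hb := Nat.gcd_eq_gcd_ab (finrank ℂ V) (Subgroup.centralizer ({g} : Set G)).index
  rw [hcop.gcd_eq_one] at hb
  set d := finrank ℂ V
  set m := (Subgroup.centralizer ({g} : Set G)).index
  set a := Nat.gcdA d m
  set b := Nat.gcdB d m
  have hb' : (1 : ℂ) = (d : ℂ) * a + (m : ℂ) * b := by exact_mod_cast hb
  have hint : IsIntegral ℤ (ρ.character g / (d : ℂ)) := by
    have he : ρ.character g / (d : ℂ) =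
        (a : ℂ) * ρ.character g + (b : ℂ) * ((m : ℂ) * ρ.character g / (d : ℂ)) := by
      field_simp
      linear_combination ρ.character g * hb'
    rw [he]
    exact ((isIntegral_intCast a).mul (CfsgLib.Char.char_isIntegral ρ g)).add
      ((isIntegral_intCast b).mul (CfsgLib.Char.isIntegral_centralChar ρ g))
  rcases CfsgLib.DegreeTools.CharTools.eq_zero_or_scalar_of_isIntegral ρ g hint with h | ⟨c, hc⟩
  · exact Or.inl h
  · right
    obtain ⟨b', μ, hμ, hk⟩ := CfsgLib.Char.exists_eigenbasis ρ g
    let i : Fin (finrank ℂ V) := ⟨0, CfsgLib.Char.irreducible_finrank_pos (ρ := ρ)⟩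
    have h1 := hk 1 i
    rw [pow_one, pow_one, hc, LinearMap.smul_apply, Module.End.one_apply] at h1
    have hn : ‖c‖ = 1 := by
      rw [smul_left_injective ℂ (b'.ne_zero i) h1]
      exact CfsgLib.Char.norm_eq_one_of_pow_orderOf (hμ i)
    simp [Representation.character, hc, hn, d]

/-- If the degree of an irreducible complex representation of a finite group is coprime to the size of the conjugacy class of g, then the character at g is zero or has absolute value equal to the degree. -/
theorem result {G : Type*} [Group G] [Finite G] {V : Type*} [AddCommGroup V] [Module ℂ V] [FiniteDimensional ℂ V] (ρ : Representation ℂ G V) [ρ.IsIrreducible] (g : G) (hcop : Nat.Coprime (Module.finrank ℂ V) (Subgroup.centralizer ({g} : Set G)).index) : ρ.character g = 0 ∨ ‖ρ.character g‖ = (Module.finrank ℂ V : ℝ) := by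
  exact eq_zero_or_norm ρ g hcop


end Cfsg.Agent.S0142
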