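import Cfsg.Statements.S0143
import Cfsg.Agent.Lib.Char.Linear
import Cfsg.Agent.Lib.Char.Integral
import Cfsg.Agent.S0142
-- import your own Cfsg.Agent.* helpers here

set_option autoImplicit false
open Cfsg

namespace Cfsg.Agent.S0143

open Module in
theorem card_prime {G : Type*} [Group G] [Finite G] [IsSimpleGroup G] (p k : ℕ) (hp : p.Prime)
    (g : G) (hg : g ≠ 1) (hclass : (Subgroup.centralizer ({g} : Set G)).index = p ^ k) :
    (Nat.card G).Prime := by
  classical
  cases nonempty_fintype G
  rcases eq_or_ne (Subgroup.center G) ⊤ with hc | hc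
  · let _ : CommGroup G := { (inferInstance : Group G) with
      mul_comm := fun a b => ((Subgroup.mem_center_iff.mp (hc ▸ Subgroup.mem_top a)) b).symm }
    exact IsSimpleGroup.prime_card
  exfalso
  have hbot : Subgroup.center G = ⊥ :=
    (IsSimpleGroup.eq_bot_or_eq_top_of_normal _ inferInstance).resolve_right hc
  have hncent : ¬ ∀ x : G, x * g = g * x := fun h => hg (by
    have : g ∈ Subgroup.center G := Subgroup.mem_center_iff.mpr h
    rwa [hbot, Subgroup.mem_bot] at this)
  have key : ∀ χ : Cfsg.IrrCharacter G, (χ : G → ℂ) ≠ (fun _ => 1) →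
      ∃ w, IsIntegral ℤ w ∧ (χ : G → ℂ) 1 * (χ : G → ℂ) g = (p : ℂ) * w := by
    rintro ⟨χ, hχ⟩ hne
    obtain ⟨n, ρ, hρ, rfl⟩ := hχ
    simp only [Representation.char_one]
    set d := finrank ℂ (Fin n → ℂ) with hd
    by_cases hpd : p ∣ d
    · obtain ⟨e, he⟩ := hpd
      refine ⟨(e : ℂ) * ρ.character g,
        (isIntegral_natCast e).mul (CfsgLib.Char.char_isIntegral ρ g), ?_⟩
      rw [he]; push_cast; ring
    · have hcop : Nat.Coprime d (Subgroup.centralizer ({g} : Set G)).index := by
        rw [hclass]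
        exact Nat.Coprime.pow_right k ((hp.coprime_iff_not_dvd.mpr hpd).symm)
      rcases Cfsg.Agent.S0142.eq_zero_or_norm ρ g hcop with h0 | h0
      · exact ⟨0, isIntegral_zero, by rw [h0]; ring⟩
      · exfalso
        obtain ⟨ω, -, hω, -⟩ := CfsgLib.Char.exists_scalar_of_norm_char_eq ρ g h0
        have hker : MonoidHom.ker ρ = ⊥ := by
          refine ((MonoidHom.normal_ker ρ).eq_bot_or_eq_top).resolve_right fun htop => hne ?_
          have hone : ∀ x, ρ.character x = (d : ℂ) := fun x => by
            have hx : ρ x = 1 := MonoidHom.mem_ker.mp (htop ▸ Subgroup.mem_top x)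
            rw [CfsgLib.Char.char_eq_finrank_iff, hx]
            rfl
          by_contra hne'
          have := CfsgLib.Char.classInner_irr_ne (CfsgLib.Char.isIrrCharacter_of_rep ρ)
            CfsgLib.Char.isIrrCharacter_one hne'
          rw [CfsgLib.Char.classInner_fun_one_right] at this
          simp [hone, d] at this
          exact (CfsgLib.Char.irreducible_finrank_pos (ρ := ρ)).ne' (by simpa using this)
        refine hncent fun x => (MonoidHom.ker_eq_bot_iff ρ).mp hker ?_
        rw [map_mul, map_mul, hω]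
        ext v
        simp
  have horth := CfsgLib.Char.regular_eq_sum_irr g
  rw [if_neg hg, ← Finset.add_sum_erase _ _ (Finset.mem_univ
    (⟨_, CfsgLib.Char.isIrrCharacter_one⟩ : Cfsg.IrrCharacter G))] at horth
  choose w hw hwe using key
  have hsum : ∑ χ ∈ Finset.univ.erase (⟨_, CfsgLib.Char.isIrrCharacter_one⟩ : Cfsg.IrrCharacter G),
      (χ : G → ℂ) 1 * (χ : G → ℂ) g = (p : ℂ) *
      ∑ χ ∈ Finset.univ.erase (⟨_, CfsgLib.Char.isIrrCharacter_one⟩ : Cfsg.IrrCharacter G),
        if h : (χ : G → ℂ) ≠ (fun _ => 1) then w χ h else 0 := by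
    rw [Finset.mul_sum]
    refine Finset.sum_congr rfl fun χ hχ => ?_
    have hne : (χ : G → ℂ) ≠ fun _ => 1 := fun h =>
      (Finset.mem_erase.mp hχ).1 (Subtype.ext h)
    rw [dif_pos hne, ← hwe χ hne]
  rw [hsum] at horth
  set S := ∑ χ ∈ Finset.univ.erase (⟨_, CfsgLib.Char.isIrrCharacter_one⟩ : Cfsg.IrrCharacter G),
        if h : (χ : G → ℂ) ≠ (fun _ => 1) then w χ h else 0 with hS
  have hSi : IsIntegral ℤ S := IsIntegral.sum _ fun χ _ => by
    split_ifs with h
    exacts [hw χ h, isIntegral_zero]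
  have hp0 : (p : ℂ) ≠ 0 := by exact_mod_cast hp.ne_zero
  have hdiv : IsIntegral ℤ (((1 : ℕ) : ℂ) / (p : ℂ)) := by
    have : ((1 : ℕ) : ℂ) / (p : ℂ) = -S := by
      rw [div_eq_iff hp0]
      simp at horth
      push_cast
      linear_combination horth
    rw [this]
    exact hSi.neg
  exact hp.one_lt.ne' (Nat.dvd_one.mp (CfsgLib.Char.dvd_of_isIntegral_div hp.ne_zero hdiv))

/-- If a finite simple group has a non-identity element whose conjugacy class has prime-power size, then the group has prime order. -/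
theorem result {G : Type*} [Group G] [Finite G] [IsSimpleGroup G] (p k : ℕ) (hp : p.Prime) (g : G) (hg : g ≠ 1) (hclass : (Subgroup.centralizer ({g} : Set G)).index = p ^ k) : (Nat.card G).Prime := by
  exact card_prime p k hp g hg hclass


end Cfsg.Agent.S0143
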