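import Cfsg.Statements.S0144
import Cfsg.Agent.S0143
-- import your own Cfsg.Agent.* helpers here

set_option autoImplicit false
open Cfsg

namespace Cfsg.Agent.S0144

universe u

theorem solvable_of_card_prime {G : Type*} [Group G] (h : (Nat.card G).Prime) :
    Group.IsSolvable G := by
  have := Fact.mk h
  have := isCyclic_of_prime_card (α := G) rfl
  let _ : CommGroup G := IsCyclic.commGroup
  infer_instance

theorem isSolvable (p q : ℕ) (hp : p.Prime) (hq : q.Prime) : ∀ (n : ℕ) (G : Type u) [Group G]
    [Finite G], Nat.card G = n → ∀ a b : ℕ, n = p ^ a * q ^ b → Group.IsSolvable G := by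
  intro n
  induction n using Nat.strong_induction_on with
  | _ n ih =>
    intro G _ _ hn a b hab
    subst hn
    by_cases hs : IsSimpleGroup G
    · suffices h : (Nat.card G).Prime from solvable_of_card_prime h
      have key : ∀ (r s i j : ℕ), r.Prime → s.Prime → i ≠ 0 →
          Nat.card G = r ^ i * s ^ j → (Nat.card G).Prime := by
        intro r s i j hr hs' hi hcard
        have := Fact.mk hr
        obtain ⟨P⟩ := Sylow.nonempty (p := r) (G := G)
        have hdvd : r ∣ Nat.card G := hcard ▸ (dvd_pow_self r hi).mul_right _
        have hPne : Nontrivial P := by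
          rw [← Finite.one_lt_card_iff_nontrivial]
          exact lt_of_lt_of_le hr.one_lt (Nat.le_of_dvd Nat.card_pos (P.dvd_card_of_dvd_card hdvd))
        have : Nontrivial (Subgroup.center P) := P.2.center_nontrivial
        obtain ⟨z, hz⟩ := exists_ne (1 : Subgroup.center P)
        set g : G := ((z : P) : G) with hg
        have hle : (P : Subgroup G) ≤ Subgroup.centralizer ({g} : Set G) := fun x hx =>
          Subgroup.mem_centralizer_singleton_iff.mpr (congrArg Subtype.val
            ((Subgroup.mem_center_iff.mp z.2) ⟨x, hx⟩))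
        have hidx : (Subgroup.centralizer ({g} : Set G)).index ∣ s ^ j ∨ r = s := by
          by_cases hrs : r = s
          · exact Or.inr hrs
          left
          have h1 := (Subgroup.index_dvd_of_le hle).trans (dvd_refl _)
          have h2 : (P : Subgroup G).index ∣ r ^ i * s ^ j := hcard ▸ Subgroup.index_dvd_card _
          refine h1.trans (Nat.Coprime.dvd_of_dvd_mul_left ?_ h2)
          exact Nat.Coprime.pow_right i (hr.coprime_iff_not_dvd.mpr P.not_dvd_index).symm
        have hg1 : g ≠ 1 := fun h => hz (Subtype.ext (Subtype.ext h))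
        rcases hidx with h | h
        · obtain ⟨k, -, hk⟩ := (Nat.dvd_prime_pow hs').mp h
          exact Cfsg.Agent.S0143.card_prime s k hs' g hg1 hk
        · have h2 : (Subgroup.centralizer ({g} : Set G)).index ∣ s ^ (i + j) := by
            rw [pow_add, ← h, ← show Nat.card G = r ^ i * r ^ j by rw [hcard, h]]
            exact Subgroup.index_dvd_card _
          obtain ⟨k, -, hk⟩ := (Nat.dvd_prime_pow hs').mp h2
          exact Cfsg.Agent.S0143.card_prime s k hs' g hg1 hk
      rcases eq_or_ne a 0 with rfl | ha
      · rcases eq_or_ne b 0 with rfl | hb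
        · exfalso
          have : Nat.card G = 1 := by simpa using hab
          exact not_subsingleton G ((Nat.card_eq_one_iff_unique.mp this).1)
        · exact key q p b 0 hq hp hb (by simpa using hab)
      · exact key p q a b hp hq ha hab
    · rcases subsingleton_or_nontrivial G with hG | hG
      · infer_instance
      obtain ⟨N, hN, hN0, hN1⟩ : ∃ N : Subgroup G, N.Normal ∧ N ≠ ⊥ ∧ N ≠ ⊤ := by
        by_contra h
        push Not at h
        exact hs ⟨fun N hN => or_iff_not_imp_left.mpr fun hb => h N hN hb⟩
      have hmul := N.card_mul_index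
      have hlt : Nat.card N < Nat.card G := by
        rw [← hmul]
        exact lt_mul_of_one_lt_right Nat.card_pos (Subgroup.one_lt_index_of_ne_top hN1)
      have hlt' : Nat.card (G ⧸ N) < Nat.card G := by
        rw [← hmul, ← Subgroup.index_eq_card]
        exact lt_mul_of_one_lt_left (Nat.pos_of_ne_zero Subgroup.index_ne_zero_of_finite)
          (by rw [Finite.one_lt_card_iff_nontrivial]; exact (Subgroup.nontrivial_iff_ne_bot N).mpr hN0)
      have split : ∀ m, m ∣ Nat.card G → ∃ i j, m = p ^ i * q ^ j := by
        intro m hm
        rw [hab] at hm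
        obtain ⟨m₁, m₂, h₁, h₂, rfl⟩ := (dvd_mul.mp hm)
        obtain ⟨i, -, rfl⟩ := (Nat.dvd_prime_pow hp).mp h₁
        obtain ⟨j, -, rfl⟩ := (Nat.dvd_prime_pow hq).mp h₂
        exact ⟨i, j, rfl⟩
      obtain ⟨i, j, hij⟩ := split _ (Subgroup.card_subgroup_dvd_card N)
      obtain ⟨i', j', hij'⟩ := split (Nat.card (G ⧸ N)) (Subgroup.card_quotient_dvd_card N)
      have s1 : Group.IsSolvable N := ih _ hlt N rfl i j hij
      have s2 : Group.IsSolvable (G ⧸ N) := ih _ hlt' (G ⧸ N) rfl i' j' hij'
      exact solvable_of_ker_le_range N.subtype (QuotientGroup.mk' N)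
        (by rw [QuotientGroup.ker_mk', Subgroup.range_subtype])

/-- The Burnside two-prime Theorem: a finite group of order p ^ a * q ^ b, for primes p and q, is solvable. -/
theorem result {G : Type*} [Group G] [Finite G] (p q a b : ℕ) (hp : p.Prime) (hq : q.Prime) (hcard : Nat.card G = p ^ a * q ^ b) : Group.IsSolvable G := by
  exact isSolvable p q hp hq (Nat.card G) G rfl a b hcard


end Cfsg.Agent.S0144
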