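import Cfsg.Statements.S0854
import Cfsg.Agent.Lib.CharDeep.Clifford

set_option autoImplicit false
open Cfsg CfsgLib CfsgLib.CharDeep
open scoped ComplexConjugate

namespace Cfsg.Agent.S0854

/-- Let H be a normal subgroup of the finite group G, ϑ an irreducible character of H, and T the inertia group of ϑ (the elements g with ϑ(g n g⁻¹) = ϑ(n) for all n in H). If χ is an irreducible character of G whose restriction to H has nonzero inner product with ϑ, then χ is induced from some irreducible character ψ of T, and the restrictions of ψ and of χ to H have the same inner product with ϑ. -/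
theorem result {G : Type*} [Group G] [Fintype G] (H : Subgroup G) [hN : H.Normal] [Fintype H] (ϑ : H → ℂ) (hϑ : Cfsg.IsIrrCharacter H ϑ) (T : Subgroup G) [Fintype T] (hT : ∀ g : G, g ∈ T ↔ ∀ n : H, ϑ ⟨g * n * g⁻¹, hN.conj_mem (n : G) n.2 g⟩ = ϑ n) (hHT : H ≤ T) (χ : G → ℂ) (hχ : Cfsg.IsIrrCharacter G χ) (hcon : Cfsg.classInner (fun n : H => χ n) ϑ ≠ 0) : ∃ ψ : T → ℂ, Cfsg.IsIrrCharacter T ψ ∧ Cfsg.indFun T ψ = χ ∧ Cfsg.classInner (fun n : H => ψ ⟨(n : G), hHT n.2⟩) ϑ = Cfsg.classInner (fun n : H => χ n) ϑ := by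
  classical
  have hd : ϑ 1 ≠ 0 := Char.IsIrrCharacter.apply_one_ne_zero hϑ
  have hχc := Char.IsIrrCharacter.isCharacter hχ
  have hϑc := Char.IsIrrCharacter.isCharacter hϑ
  have hTc := Char.IsCharacter.restrict hχc T
  let ι : H →* T := Subgroup.inclusion hHT
  obtain ⟨ψ, hψ1, hψ2⟩ : ∃ ψ : Cfsg.IrrCharacter T,
      Cfsg.classInner (fun t : T => χ t) ψ ≠ 0 ∧
        Cfsg.classInner ((ψ : T → ℂ) ∘ ι) ϑ ≠ 0 := by
    by_contra hno
    push_neg at hno
    refine hcon ?_
    rw [show (fun n : H => χ n) = (fun t : T => χ t) ∘ ι from rfl,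
      Char.IsClassFunction.eq_sum_irr (Char.IsCharacter.isClassFunction hTc)]
    rw [show (∑ φ : Cfsg.IrrCharacter T, Cfsg.classInner (fun t : T => χ t) φ • (φ : T → ℂ)) ∘ ι =
      ∑ φ : Cfsg.IrrCharacter T, Cfsg.classInner (fun t : T => χ t) φ • ((φ : T → ℂ) ∘ ι) from
        funext fun n => by simp, Char.classInner_sum_left]
    refine Finset.sum_eq_zero fun φ _ => ?_
    rw [Char.classInner_smul_left]
    by_cases h : Cfsg.classInner (fun t : T => χ t) φ = 0
    · rw [h, zero_mul]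
    · rw [hno φ h, mul_zero]
  -- Clifford theory for `ψ` over `H` inside `T`
  obtain ⟨e, he⟩ := Char.IsCharacter.classInner_nat (Char.IsCharacter.restrict hχc H) hϑc
  obtain ⟨e', he'⟩ := Char.IsCharacter.classInner_nat
    (Char.IsCharacter.comp (Char.IsIrrCharacter.isCharacter ψ.2) ι) hϑc
  let E := Subgroup.subgroupOfEquivOfLe hHT
  have hϑ' : Cfsg.IsIrrCharacter (H.subgroupOf T) (ϑ ∘ E) :=
    Char.IsIrrCharacter.comp_surjective hϑ E.toMonoidHom E.surjective
  have he'' : Cfsg.classInner (fun n : H.subgroupOf T => (ψ : T → ℂ) n) (ϑ ∘ E) = e' := by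
    rw [← he', ← Char.classInner_reindex E ((ψ : T → ℂ) ∘ ι) ϑ]
    rfl
  have hψdeg : (ψ : T → ℂ) 1 = (e' : ℂ) * ϑ 1 := by
    have hne : Cfsg.classInner (fun n : H.subgroupOf T => (ψ : T → ℂ) n) (ϑ ∘ E) ≠ 0 := by
      rw [he'', ← he']; exact hψ2
    have h := Clifford.apply_one_eq (N := H.subgroupOf T) ψ.2 hϑ' hne ⊤ (fun g => by
      simp only [Subgroup.mem_top, true_iff]
      intro n
      refine Eq.trans ?_ ((hT g).1 g.2 (E n))
      exact congrArg ϑ (Subtype.ext rfl))
    rw [Subgroup.index_top, Nat.cast_one, one_mul, he''] at h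
    simpa using h
  have hle : e' ≤ e := by
    have h1 := Clifford.isCharacter_sub_of_constituent hTc ψ.2 hψ1
    obtain ⟨a, ha⟩ := Char.IsCharacter.classInner_nat (Char.IsCharacter.comp h1 ι) hϑc
    have h2 : (fun n : H => χ n) = (ψ : T → ℂ) ∘ ι + ((fun t : T => χ t) - (ψ : T → ℂ)) ∘ ι :=
      funext fun n => by simp [ι]
    rw [h2, Char.classInner_add_left, he', ha, ← Nat.cast_add, Nat.cast_inj] at he
    omega
  have hI : Cfsg.IsCharacter G (Cfsg.indFun T (ψ : T → ℂ)) :=
    Char.IsCharacter.indFun T (Char.IsIrrCharacter.isCharacter ψ.2)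
  have hne : Cfsg.classInner (Cfsg.indFun T (ψ : T → ℂ)) χ ≠ 0 := by
    rw [Char.classInner_indFun T _ (Char.IsIrrCharacter.isClassFunction hχ),
      Char.IsCharacter.classInner_comm (Char.IsIrrCharacter.isCharacter ψ.2) hTc]
    exact hψ1
  obtain ⟨r, hr⟩ := Char.IsCharacter.apply_one_eq (Clifford.isCharacter_sub_of_constituent hI hχ hne)
  obtain ⟨d, hdd⟩ := Char.IsCharacter.apply_one_eq hϑc
  have hχ1 : χ 1 = (T.index : ℂ) * e * ϑ 1 := by
    rw [← he]; exact Clifford.apply_one_eq hχ hϑ hcon T hT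
  rw [Pi.sub_apply, Char.indFun_one, hψdeg, hχ1, hdd] at hr
  have hr' : T.index * (e' * d) = T.index * e * d + r := by
    have h : (T.index : ℂ) * ((e' : ℂ) * d) = (T.index : ℂ) * e * d + r := by
      linear_combination hr
    exact_mod_cast h
  have hee : e' = e := by
    refine le_antisymm hle ?_
    by_contra hlt
    push_neg at hlt
    have hd0 : 0 < d := Nat.pos_of_ne_zero fun h0 => hd (by rw [hdd, h0, Nat.cast_zero])
    have hT0 : 0 < T.index := Nat.pos_of_ne_zero Subgroup.index_ne_zero_of_finite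
    have : T.index * (e' * d) < T.index * (e * d) :=
      Nat.mul_lt_mul_of_pos_left (Nat.mul_lt_mul_of_pos_right hlt hd0) hT0
    rw [mul_assoc T.index e d] at hr'
    omega
  refine ⟨ψ, ψ.2, Clifford.eq_of_constituent_of_apply_one_eq hI hχ hne ?_, ?_⟩
  · rw [Char.indFun_one, hψdeg, hχ1, hee, mul_assoc]
  · rw [he, ← hee]
    exact he'

end Cfsg.Agent.S0854
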