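import Cfsg.Statements.S0873
import Cfsg.Agent.Lib.CharDeep.IrrTools

set_option autoImplicit false
open Cfsg

namespace Cfsg.Agent.S0873

/-- Let C be a normal subgroup of the finite group G of order prime to p and P a p-subgroup with C ⊔ P = G. Let λ be a character of C of degree 1 invariant under conjugation by G and equal to 1 at every element of C centralized by P. Then λ is identically 1. -/
theorem result {G : Type*} [Group G] [Finite G] (p : ℕ) [Fact p.Prime] (C P : Subgroup G) [hC : C.Normal] (hP : IsPGroup p P) (hcop : Nat.Coprime (Nat.card C) p) (hCP : C ⊔ P = ⊤) (lam : C → ℂ) (hlam : Cfsg.IsCharacter C lam ∧ lam 1 = 1) (hinv : ∀ (g : G) (c : C), lam ⟨g * c * g⁻¹, hC.conj_mem (c : G) c.2 g⟩ = lam c) (hker : ∀ c : C, (c : G) ∈ Subgroup.centralizer (P : Set G) → lam c = 1) : lam = fun _ => 1 := by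
  obtain ⟨f, hf⟩ := CfsgLib.CharDeep.IrrTools.exists_hom_of_degree_one hlam.1 hlam.2
  funext c
  let φ : P →* MulAut C := (MulAut.conjNormal (H := C)).comp P.subtype
  have hfφ : ∀ (u : P) (d : C), f (φ u d) = f d := fun u d => by
    refine Units.ext ?_
    rw [← hf, ← hf]
    exact hinv u d
  let α := {d : C // f d = f c}
  letI : MulAction P α :=
    { smul := fun u d => ⟨φ u d.1, by rw [hfφ]; exact d.2⟩
      one_smul := fun d => Subtype.ext (by show φ 1 d.1 = d.1; rw [map_one]; rfl)
      mul_smul := fun u v d => Subtype.ext (by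
        show φ (u * v) d.1 = φ u (φ v d.1); rw [map_mul]; rfl) }
  let e : f.ker ≃ α :=
    { toFun := fun k => ⟨c * k, by rw [map_mul, MonoidHom.mem_ker.1 k.2, mul_one]⟩
      invFun := fun d => ⟨c⁻¹ * d.1, by
        rw [MonoidHom.mem_ker, map_mul, map_inv, d.2, inv_mul_cancel]⟩
      left_inv := fun k => Subtype.ext (by simp)
      right_inv := fun d => Subtype.ext (by simp) }
  have hα : ¬ p ∣ Nat.card α := by
    rw [← Nat.card_congr e]
    intro h
    have h2 := Nat.eq_one_of_dvd_coprimes hcop (h.trans f.ker.card_subgroup_dvd_card) dvd_rfl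
    exact (Fact.out : p.Prime).ne_one h2
  obtain ⟨⟨d, hd⟩, hfix⟩ := hP.nonempty_fixed_point_of_prime_not_dvd_card α hα
  have h1 : lam d = 1 := hker d (Subgroup.mem_centralizer_iff.2 fun u hu => by
    have h := congrArg (fun a : α => ((a.1 : C) : G)) (hfix ⟨u, hu⟩)
    have h' : u * (d : G) * u⁻¹ = d := h
    exact mul_inv_eq_iff_eq_mul.1 h')
  rw [hf c, ← hd, ← hf, h1]

end Cfsg.Agent.S0873
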