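import Cfsg.Statements.S4687
import Cfsg.Agent.Lib.BrauerPairs.Nilpotent
-- import your own Cfsg.Agent.* helpers here

set_option autoImplicit false
open Cfsg

namespace Cfsg.Agent.S4687

/-- Fix a prime p and a maximal ideal M of the algebraic integers containing p, and a p-block B of the finite group G with maximal Brauer pair (P, e), P abelian. Then B is nilpotent if and only if its inertial quotient is trivial: every element of N_G(P) stabilizing e centralizes P. -/
theorem result {G : Type*} [Group G] [Fintype G] (p : ℕ) [Fact p.Prime] (M : Ideal Cfsg.AlgInt) (hM : Cfsg.IsPModular p M) (B : Set (Cfsg.IrrCharacter G)) (P : Subgroup G) (e : Set (Cfsg.IrrCharacter (Subgroup.centralizer (P : Set G)))) (hmax : Cfsg.IsMaximalBrauerPair p M B P e) (hab : ∀ x ∈ P, ∀ y ∈ P, x * y = y * x) : Cfsg.IsNilpotentBlock p M B ↔ ∀ x : G, x ∈ Subgroup.normalizer (P : Set G) → Cfsg.StabilizesBlock (Subgroup.centralizer (P : Set G)) e x → x ∈ Subgroup.centralizer (P : Set G) := by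
  classical
  constructor
  · intro hnil x hx hxs
    have hF := CfsgLib.BrauerPairs.isBlockFusionSystemOn_blockFusion hM hmax
    have hmem : x ∈ CfsgLib.BrauerPairs.pairStab P e :=
      (CfsgLib.BrauerPairs.mem_pairStab x).2 ⟨hx, hxs⟩
    have hpair : CfsgLib.BrauerPairs.conjPair x ⟨P, e⟩ = ⟨P, e⟩ :=
      CfsgLib.BrauerPairs.pair_ext (CfsgLib.BrauerPairs.map_conj_of_mem_normalizer hx) fun c => by
        show Cfsg.subgroupBlockCoeff _ (Cfsg.conjBlock P x e) c = _
        rw [CfsgLib.BrauerPairs.bc_conjBlock', ← hmem.2]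
        simp [mul_assoc]
    have h1 : Cfsg.conjHom P x ∈ (CfsgLib.BrauerPairs.blockFusion hM hmax.1.1).Hom P :=
      (CfsgLib.BrauerPairs.mem_hom_iff hF).2 ⟨le_rfl, x, fun u => rfl, e, Relation.ReflTransGen.refl,
        by rw [hpair]; exact Relation.ReflTransGen.refl⟩
    rw [CfsgLib.BrauerPairs.hom_eq_inner_of_nilpotent hM hF hnil] at h1
    obtain ⟨-, u, hu, hux⟩ := h1
    refine Subgroup.mem_centralizer_iff.2 fun a ha => ?_
    have h2 : x * a * x⁻¹ = a := by
      refine (hux ⟨a, ha⟩).trans ?_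
      show u * a * u⁻¹ = a
      rw [hab u hu a ha, mul_inv_cancel_right]
    exact (mul_inv_eq_iff_eq_mul.1 h2).symm
  · intro h
    refine CfsgLib.BrauerPairs.isNilpotent_of_local hM hmax fun Q f hle x hx _ => ?_
    obtain ⟨y, hy, c, hc, rfl⟩ :=
      CfsgLib.BrauerPairs.exists_factor_abelian hM hmax hab hle hx
    have h1 := (CfsgLib.BrauerPairs.mem_pairStab y).1 hy
    exact Subgroup.mul_mem _ (CfsgLib.BrauerPairs.centralizer_anti
      (CfsgLib.BrauerPairs.subgroup_le_of_subpairLE hle) (h y h1.1 h1.2)) hc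

end Cfsg.Agent.S4687
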