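import Cfsg.Statements.S4636
-- import your own Cfsg.Agent.* helpers here

set_option autoImplicit false
open scoped Pointwise
open Cfsg

namespace Cfsg.Agent.S4636

theorem cyclic_card_unique {P : Type*} [Group P] [Finite P] [IsCyclic P] {n : ℕ} (hn : 0 < n)
    {H K : Subgroup P} (hH : Nat.card H = n) (hK : Nat.card K = n) : H = K := by
  classical
  haveI := Fintype.ofFinite P
  have hsub : ∀ L : Subgroup P, Nat.card L = n →
      (L : Set P).toFinset = Finset.univ.filter fun a : P => a ^ n = 1 := by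
    intro L hL
    refine Finset.eq_of_subset_of_card_le (fun a ha => ?_) ?_
    · simp only [Set.mem_toFinset, SetLike.mem_coe] at ha
      simp only [Finset.mem_filter, Finset.mem_univ, true_and]
      have := Subgroup.orderOf_dvd_natCard L ha
      rw [hL] at this
      exact orderOf_dvd_iff_pow_eq_one.1 this
    · refine (IsCyclic.card_pow_eq_one_le hn).trans ?_
      rw [Set.toFinset_card, Fintype.card_eq_nat_card]
      exact le_of_eq hL.symm
  exact SetLike.coe_injective (Set.toFinset_inj.1 ((hsub H hH).trans (hsub K hK).symm))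

/-- Let P be a nontrivial cyclic p-subgroup of the finite group G and Z its subgroup of order p. For every x outside N_G(Z), P meets its conjugate xPx⁻¹ trivially; consequently N_G(Q) ≤ N_G(Z) for every nontrivial subgroup Q of P. -/
theorem result {G : Type*} [Group G] [Finite G] (p : ℕ) [Fact p.Prime] (P : Subgroup G) (hP : IsPGroup p P) (hP1 : P ≠ ⊥) (hcyc : IsCyclic P) (Z : Subgroup G) (hZ : Z ≤ P) (hZcard : Nat.card Z = p) : (∀ x : G, x ∉ Subgroup.normalizer (Z : Set G) → P ⊓ MulAut.conj x • P = ⊥) ∧ ∀ Q : Subgroup G, Q ≤ P → Q ≠ ⊥ → Subgroup.normalizer (Q : Set G) ≤ Subgroup.normalizer (Z : Set G) := by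
  have key : ∀ Q : Subgroup G, Q ≤ P → Q ≠ ⊥ → Z ≤ Q := by
    intro Q hQ hQ1
    have hQp : IsPGroup p Q := hP.to_le hQ
    have hQnt : Nontrivial Q := (Subgroup.nontrivial_iff_ne_bot Q).2 hQ1
    obtain ⟨n, hn, hcard⟩ := hQp.nontrivial_iff_card.1 hQnt
    obtain ⟨y, hy⟩ := exists_prime_orderOf_dvd_card' (G := Q) p (hcard ▸ dvd_pow_self p (by omega))
    have hyG : orderOf (y : G) = p := by rw [Subgroup.orderOf_coe]; exact hy
    have hyc : Nat.card (Subgroup.zpowers (y : G)) = p := by rw [Nat.card_zpowers, hyG]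
    have hyQ : Subgroup.zpowers (y : G) ≤ Q := Subgroup.zpowers_le.2 y.2
    have h := cyclic_card_unique (P := P) (n := p) (Nat.Prime.pos Fact.out) (H := Z.subgroupOf P)
      (K := (Subgroup.zpowers (y : G)).subgroupOf P) (by
        rw [Nat.card_congr (Subgroup.subgroupOfEquivOfLe hZ).toEquiv, hZcard]) (by
        rw [Nat.card_congr (Subgroup.subgroupOfEquivOfLe (hyQ.trans hQ)).toEquiv, hyc])
    rw [Subgroup.subgroupOf_inj, inf_eq_left.2 hZ, inf_eq_left.2 (hyQ.trans hQ)] at h
    exact h ▸ hyQ
  have hnorm : ∀ x : G, MulAut.conj x • Z = Z → x ∈ Subgroup.normalizer (Z : Set G) := by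
    intro x hx
    rw [Subgroup.mem_normalizer_iff]
    intro z
    constructor
    · intro hz
      have := Subgroup.smul_mem_pointwise_smul z (MulAut.conj x) Z hz
      rw [hx] at this
      exact this
    · intro hz
      have h1 : MulAut.conj x z ∈ MulAut.conj x • Z := by rw [hx]; exact hz
      exact Subgroup.smul_mem_pointwise_smul_iff.1 h1
  have hsame : ∀ (x : G) (Q : Subgroup G), Q ≤ P → Q ≠ ⊥ → Q ≤ MulAut.conj x • P →
      MulAut.conj x • Z = Z := by
    intro x Q hQ hQ1 hQx
    have hZQ := key Q hQ hQ1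
    have hpos : (MulAut.conj x)⁻¹ • Q ≠ ⊥ := by
      intro h
      apply hQ1
      have := congrArg (fun K => MulAut.conj x • K) h
      simpa using this
    have h2 : Z ≤ (MulAut.conj x)⁻¹ • Q :=
      key _ (Subgroup.subset_pointwise_smul_iff.1 hQx) hpos
    have h3 : MulAut.conj x • Z ≤ Q := Subgroup.pointwise_smul_subset_iff.2 h2
    have hcard : Nat.card (MulAut.conj x • Z : Subgroup G) = p := by
      rw [← hZcard]
      exact Nat.card_congr (Subgroup.equivSMul (MulAut.conj x) Z).symm.toEquiv
    have hle : MulAut.conj x • Z ≤ P := h3.trans hQ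
    have h := cyclic_card_unique (P := P) (n := p) (Nat.Prime.pos Fact.out) (H := Z.subgroupOf P)
      (K := (MulAut.conj x • Z : Subgroup G).subgroupOf P) (by
        rw [Nat.card_congr (Subgroup.subgroupOfEquivOfLe hZ).toEquiv, hZcard]) (by
        rw [Nat.card_congr (Subgroup.subgroupOfEquivOfLe hle).toEquiv, hcard])
    rw [Subgroup.subgroupOf_inj, inf_eq_left.2 hZ, inf_eq_left.2 hle] at h
    exact h.symm
  refine ⟨fun x hx => by_contra fun hne => hx (hnorm x (hsame x _ inf_le_left hne inf_le_right)),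
    fun Q hQ hQ1 g hg => hnorm g (hsame g Q hQ hQ1 ?_)⟩
  have : MulAut.conj g • Q = Q := by
    ext z
    rw [Subgroup.mem_pointwise_smul_iff_inv_smul_mem]
    have := Subgroup.mem_normalizer_iff.1 hg (g⁻¹ * z * g)
    simpa [mul_assoc] using this
  exact this ▸ Subgroup.pointwise_smul_le_pointwise_smul_iff.2 hQ

end Cfsg.Agent.S4636
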