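import Cfsg.Statements.S1488
import Cfsg.Agent.Lib.Char.Induced
-- import your own Cfsg.Agent.* helpers here

set_option autoImplicit false
open Cfsg

namespace Cfsg.Agent.S1488

open CfsgLib.Char in
theorem indFun_quotient {G : Type*} [Group G] [Fintype G] (A H : Subgroup G) [A.Normal]
    (hAH : A ≤ H) [Fintype (G ⧸ A)] (θ : H → ℂ) (θ₁ : ↥(H.map (QuotientGroup.mk' A)) → ℂ)
    (hθ : ∀ x : H, θ₁ ⟨QuotientGroup.mk' A x, Subgroup.mem_map_of_mem _ x.2⟩ = θ x) (g : G) :
    Cfsg.indFun (H.map (QuotientGroup.mk' A)) θ₁ (QuotientGroup.mk' A g) = Cfsg.indFun H θ g := by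
  classical
  have hmem : ∀ y : G, (QuotientGroup.mk' A) y ∈ H.map (QuotientGroup.mk' A) ↔ y ∈ H := by
    intro y
    rw [← Subgroup.mem_comap, Subgroup.comap_map_eq, QuotientGroup.ker_mk', sup_eq_left.mpr hAH]
  have hext : ∀ y : G, Cfsg.extendByZero (H.map (QuotientGroup.mk' A)) θ₁ ((QuotientGroup.mk' A) y) = Cfsg.extendByZero H θ y := by
    intro y
    by_cases hy : y ∈ H
    · rw [extendByZero_apply_mem H θ hy, extendByZero_apply_mem _ θ₁ ((hmem y).mpr hy)]
      exact hθ ⟨y, hy⟩
    · rw [extendByZero_apply_notMem H θ hy,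
        extendByZero_apply_notMem _ θ₁ fun h => hy ((hmem y).mp h)]
  have hfib : ∀ q : G ⧸ A, (Finset.univ.filter fun x => (QuotientGroup.mk' A) x = q).card = Nat.card A := by
    intro q
    obtain ⟨x₀, rfl⟩ := QuotientGroup.mk'_surjective A q
    rw [Nat.card_eq_fintype_card, Fintype.card_subtype]
    exact Finset.card_equiv (Equiv.mulLeft x₀⁻¹) fun x => by
      simp only [Finset.mem_filter, Finset.mem_univ, true_and, Equiv.coe_mulLeft]
      exact eq_comm.trans QuotientGroup.eq
  have hcard : Nat.card H = Nat.card A * Nat.card (H.map (QuotientGroup.mk' A)) := by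
    let φ : H →* H.map (QuotientGroup.mk' A) :=
      { toFun := fun x => ⟨(QuotientGroup.mk' A) x, Subgroup.mem_map_of_mem _ x.2⟩
        map_one' := Subtype.ext (map_one (QuotientGroup.mk' A))
        map_mul' := fun a b => Subtype.ext (map_mul (QuotientGroup.mk' A) _ _) }
    have hs : Function.Surjective φ := by rintro ⟨_, x, hx, rfl⟩; exact ⟨⟨x, hx⟩, rfl⟩
    have hk : φ.ker = A.subgroupOf H := by
      ext x
      rw [MonoidHom.mem_ker, Subgroup.mem_subgroupOf, Subtype.ext_iff]
      exact QuotientGroup.eq_one_iff _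
    rw [Subgroup.card_eq_card_quotient_mul_card_subgroup φ.ker,
      Nat.card_congr (QuotientGroup.quotientKerEquivOfSurjective φ hs).toEquiv, hk,
      Nat.card_congr (Subgroup.subgroupOfEquivOfLe hAH).toEquiv, mul_comm]
  rw [indFun_def, indFun_def, ← Finset.sum_fiberwise (Finset.univ : Finset G) (QuotientGroup.mk' A)]
  have hrhs : ∀ q : G ⧸ A, ∑ x ∈ Finset.univ.filter (fun x => (QuotientGroup.mk' A) x = q),
      Cfsg.extendByZero H θ (x⁻¹ * g * x) =
        (Nat.card A : ℂ) * Cfsg.extendByZero (H.map (QuotientGroup.mk' A)) θ₁ (q⁻¹ * (QuotientGroup.mk' A) g * q) := by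
    intro q
    rw [Finset.sum_congr rfl fun x hx => by
      rw [← hext, map_mul, map_mul, map_inv, (Finset.mem_filter.mp hx).2],
      Finset.sum_const, hfib, nsmul_eq_mul]
  rw [Finset.sum_congr rfl fun q _ => hrhs q, ← Finset.mul_sum, hcard]
  push_cast
  field_simp [show (Nat.card A : ℂ) ≠ 0 by exact_mod_cast Nat.card_pos.ne']

/-- Let A be a normal subgroup of the finite group G contained in the subgroup H, let θ be a function on H and θ₁ a function on the image of H in G ⧸ A whose composite with the projection is θ. Then the function induced from θ₁ to G ⧸ A, composed with the projection G → G ⧸ A, equals the function induced from θ to G. -/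
theorem result {G : Type*} [Group G] [Fintype G] (A H : Subgroup G) [A.Normal] (hAH : A ≤ H) [Fintype (G ⧸ A)] [Fintype ↥(H.map (QuotientGroup.mk' A))] (θ : H → ℂ) (θ₁ : ↥(H.map (QuotientGroup.mk' A)) → ℂ) (hθ : ∀ x : H, θ₁ ⟨QuotientGroup.mk' A x, Subgroup.mem_map_of_mem _ x.2⟩ = θ x) (g : G) : Cfsg.indFun (H.map (QuotientGroup.mk' A)) θ₁ (QuotientGroup.mk' A g) = Cfsg.indFun H θ g := by
  exact indFun_quotient A H hAH θ θ₁ hθ g


end Cfsg.Agent.S1488
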