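import Cfsg.Statements.S0106
import Cfsg.Agent.Lib.Fusion.QuaternionSL23
import Cfsg.Agent.Lib.TwoGroups.CyclicMax
import Cfsg.Agent.Lib.LocalEvenB.HSubgroup
-- import your own Cfsg.Agent.* helpers here

set_option autoImplicit false
open Cfsg

namespace Cfsg.Agent.S0106

open CfsgLib.Fusion

/-- A group of order `8` with one involution `z` and all other nontrivial squares equal to `z`
is the quaternion group. -/
theorem equiv_q8 {G : Type*} [Group G] [Finite G] (D : Subgroup G) (hD : Nat.card D = 8)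
    (z : G) (hz1 : z ≠ 1) (hsq : ∀ x ∈ D, x = 1 ∨ x = z ∨ x * x = z) (hzz : z * z = 1) :
    Nonempty (D ≃* QuaternionGroup 2) := by
  classical
  haveI := Fintype.ofFinite D
  obtain ⟨a, ha1, haz⟩ : ∃ a : D, (a : G) ≠ 1 ∧ (a : G) ≠ z := by
    by_contra hcon
    push Not at hcon
    have : Nat.card D ≤ Nat.card ({1, z} : Set G) := Nat.card_le_card_of_injective
      (fun x => ⟨(x : G), (em ((x : G) = 1)).elim Or.inl fun h => Or.inr (hcon x h)⟩)
      (fun x y h => Subtype.ext (congrArg (fun w : ({1, z} : Set G) => (w : G)) h :))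
    rw [hD, Nat.card_coe_set_eq] at this
    have := this.trans (Set.ncard_insert_le _ _)
    simp at this
  have haa : (a : G) * a = z := ((hsq a a.2).resolve_left ha1).resolve_left haz
  have hord : orderOf a = 2 * 2 := by
    rw [← Subgroup.orderOf_coe]
    refine orderOf_eq_prime_pow (p := 2) (n := 1) ?_ ?_
    · rw [pow_one, pow_two, haa]; exact hz1
    · rw [show 2 ^ (1 + 1) = 2 * 2 from rfl, pow_mul, pow_two (a : G), haa, pow_two, hzz]
  obtain ⟨b, hb⟩ : ∃ b : D, b ∉ Subgroup.zpowers a := by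
    by_contra hcon
    push Not at hcon
    have := (Subgroup.eq_top_iff' _).2 hcon
    have h2 := Nat.card_zpowers a
    rw [this, Subgroup.card_top, hD, hord] at h2
    omega
  have hzmem : ∀ x : D, (x : G) = z → x ∈ Subgroup.zpowers a := fun x hx => by
    have : x = a ^ 2 := Subtype.ext (by rw [hx, pow_two, Subgroup.coe_mul, haa])
    rw [this]; exact pow_mem (Subgroup.mem_zpowers a) 2
  have hne : ∀ x : D, x ∉ Subgroup.zpowers a → (x : G) * x = z := fun x hx =>
    ((hsq x x.2).resolve_left fun h => hx ((Subtype.ext h : x = 1) ▸ one_mem _)).resolve_left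
      fun h => hx (hzmem x h)
  have hbb : b * b = a ^ 2 := Subtype.ext (by rw [pow_two, Subgroup.coe_mul, hne b hb, Subgroup.coe_mul, haa])
  refine CfsgLib.TwoGroups.CyclicMax.quaternion_iso (m := 2) (a := a) (b := b) two_ne_zero hord (by rw [hD]) hb hbb ?_
  have hab : b * a ∉ Subgroup.zpowers a := fun h => hb (by
    simpa using mul_mem h (inv_mem (Subgroup.mem_zpowers a)))
  have h2 : b * a * (b * a) = b * b := Subtype.ext (by
    rw [Subgroup.coe_mul, hne _ hab, Subgroup.coe_mul, hne b hb])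
  calc b * a * b⁻¹ = a⁻¹ * b⁻¹ * (b * a * (b * a)) * b⁻¹ := by group
    _ = a⁻¹ := by rw [h2]; group

/-- An element of odd order with a nontrivial action on a quaternion group of order `8` gives a
section isomorphic to `SL(2, 3)`. -/
theorem section_of_q8 {G : Type*} [Group G] [Finite G] (D : Subgroup G) (e : D ≃* QuaternionGroup 2)
    {g : G} (hg : g ∈ Subgroup.normalizer (D : Set G)) (hodd : ¬ 2 ∣ orderOf g)
    (hnc : g ∉ Subgroup.centralizer (D : Set G)) :
    ∃ (H K : Subgroup G) (hK : (K.subgroupOf H).Normal),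
      Nonempty ((H ⧸ K.subgroupOf H) ≃* Matrix.SpecialLinearGroup (Fin 2) (ZMod 3)) := by
  let ε : QuaternionGroup 2 → G := fun q => (e.symm q : G)
  have hεm : ∀ x y, ε (x * y) = ε x * ε y := fun x y => by simp [ε]
  have hεi : Function.Injective ε := Subtype.val_injective.comp e.symm.injective
  have hεp : ∀ (x : QuaternionGroup 2) (k : ℕ), ε (x ^ k) = ε x ^ k := fun x k => by simp [ε]
  have hεe : ∀ d : D, ε (e d) = d := fun d => by simp [ε]
  have hεv : ∀ x, ε x⁻¹ = (ε x)⁻¹ := fun x => by simp [ε]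
  let φ : QuaternionGroup 2 →* QuaternionGroup 2 :=
    e.toMonoidHom.comp ((D.normalizerMonoidHom ⟨g, hg⟩).toMonoidHom.comp e.symm.toMonoidHom)
  have hφ : ∀ x, ε (φ x) = g * ε x * g⁻¹ := fun x => by
    simp only [φ, ε, MonoidHom.comp_apply, MulEquiv.coe_toMonoidHom, MulEquiv.symm_apply_apply]
    rfl
  have hit : ∀ (k : ℕ) x, ε ((φ : QuaternionGroup 2 → QuaternionGroup 2)^[k] x) =
      g ^ k * ε x * (g ^ k)⁻¹ := by
    intro k
    induction k with
    | zero => intro x; simp
    | succ k ih => intro x; rw [Function.iterate_succ_apply', hφ, ih, pow_succ']; group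
  have hφe := QuaternionSL23.eq_genMap φ
  have hhom : ∀ x y, QuaternionSL23.genMap (φ (.a 1)) (φ (.xa 0)) (x * y) =
      QuaternionSL23.genMap (φ (.a 1)) (φ (.xa 0)) x * QuaternionSL23.genMap (φ (.a 1)) (φ (.xa 0)) y := by
    rw [← hφe]; exact map_mul φ
  have hinj : ∀ x, QuaternionSL23.genMap (φ (.a 1)) (φ (.xa 0)) x = 1 → x = 1 := by
    rw [← hφe]
    intro x hx
    have h := hφ x
    rw [hx] at h
    have h1 : ε 1 = 1 := by simp [ε]
    rw [h1] at h
    exact hεi ((conj_eq_one_iff.1 h.symm).trans h1.symm)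
  have h12 : ∀ x, g ^ 12 * ε x * (g ^ 12)⁻¹ = ε x := fun x => by
    rw [← hit]
    congr 1
    rw [hφe]
    exact QuaternionSL23.aut_twelve _ _ hhom hinj x
  have h3 : ∀ x, g ^ 3 * ε x * (g ^ 3)⁻¹ = ε x := by
    intro x
    let S : Subgroup G := Subgroup.centralizer {ε x}
    have h12' : g ^ 12 ∈ S := Subgroup.mem_centralizer_singleton_iff.2 (mul_inv_eq_iff_eq_mul.1 (h12 x))
    obtain ⟨m, hm⟩ : ∃ m, orderOf g = 2 * m + 1 := Nat.not_even_iff_odd.1 fun h => hodd h.two_dvd
    have hg3 : g ^ 3 = (g ^ 12) ^ ((m + 1) * (m + 1)) := by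
      have h1 : g ^ (3 * ((2 * (m + 1)) * (2 * (m + 1)))) = g ^ 3 := by
        have e : ∀ k, g ^ (k * (2 * (m + 1))) = g ^ k := fun k => by
          rw [mul_comm k, pow_mul, show 2 * (m + 1) = orderOf g + 1 by omega, pow_succ,
            pow_orderOf_eq_one, one_mul]
        rw [← mul_assoc, e, e]
      rw [← pow_mul, ← h1]
      congr 1
      ring
    have h3' : g ^ 3 ∈ S := hg3 ▸ pow_mem h12' _
    exact mul_inv_eq_iff_eq_mul.2 (Subgroup.mem_centralizer_singleton_iff.1 h3')
  obtain ⟨⟨A, hA4, hbb, hba, hgb, hAB⟩, hnin⟩ := QuaternionSL23.aut_three _ _ hhom hinj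
    (by rw [← hφe]; exact fun x => hεi (by rw [hit, h3])) (by
      rw [← hφe]
      by_contra hcon
      push Not at hcon
      refine hnc (Subgroup.mem_centralizer_iff.2 fun d hd => ?_)
      have h := hφ (e ⟨d, hd⟩)
      rw [hcon, hεe] at h
      exact (mul_inv_eq_iff_eq_mul.1 h.symm).symm)
  rw [← hφe] at hbb hba hgb hAB hnin
  set B := φ A with hB
  set H : Subgroup G := D ⊔ Subgroup.zpowers g
  set K : Subgroup G := Subgroup.zpowers (g ^ 3)
  have hgH : g ∈ H := Subgroup.mem_sup_right (Subgroup.mem_zpowers g)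
  have hDH : ∀ x, ε x ∈ H := fun x => Subgroup.mem_sup_left (e.symm x).2
  have hKH : K ≤ H := Subgroup.zpowers_le.2 (pow_mem hgH 3)
  have hHc : H ≤ Subgroup.centralizer {g ^ 3} := by
    refine sup_le (fun d hd => Subgroup.mem_centralizer_singleton_iff.2 ?_)
      (Subgroup.zpowers_le.2 (Subgroup.mem_centralizer_singleton_iff.2 ?_))
    · have h := h3 (e ⟨d, hd⟩)
      rw [hεe] at h
      exact (mul_inv_eq_iff_eq_mul.1 h).symm
    · rw [← pow_succ', pow_succ]
  have hK : (K.subgroupOf H).Normal := by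
    rw [Subgroup.normal_subgroupOf_iff_le_normalizer hKH]
    refine hHc.trans ?_
    rw [← Subgroup.centralizer_closure, ← Subgroup.zpowers_eq_closure]
    exact Subgroup.centralizer_le_normalizer _
  refine ⟨H, K, hK, ?_⟩
  haveI := hK
  set q := QuotientGroup.mk' (K.subgroupOf H)
  set a : H := ⟨ε A, hDH A⟩
  set b : H := ⟨ε B, hDH B⟩
  set t : H := ⟨g, hgH⟩
  have ht3 : q t ^ 3 = 1 := by
    rw [← map_pow]
    exact (QuotientGroup.eq_one_iff _).2 (Subgroup.mem_zpowers (g ^ 3))
  have hrel : QuaternionSL23.Rel (q a) (q b) (q t) := by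
    refine ⟨?_, ht3, ?_, ?_, ?_, ?_⟩
    · rw [← map_pow, show a ^ 4 = 1 from Subtype.ext ?_, map_one]
      show ε A ^ 4 = 1
      rw [← hεp, hA4]
      simp [ε]
    · rw [← map_pow, ← map_pow, show b ^ 2 = a ^ 2 from Subtype.ext ?_]
      show ε B ^ 2 = ε A ^ 2
      rw [← hεp, ← hεp, pow_two, pow_two, hbb]
    · rw [← map_mul, ← map_inv, ← map_mul, show b * a = a⁻¹ * b from Subtype.ext ?_]
      show ε B * ε A = (ε A)⁻¹ * ε B
      rw [← hεm, hba, hεm, hεv]
    · rw [← map_mul, ← map_inv, ← map_mul, show t * a * t⁻¹ = b from Subtype.ext (hφ A).symm]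
    · rw [← map_mul, ← map_inv, ← map_mul, ← map_mul, show t * b * t⁻¹ = a * b from Subtype.ext ?_]
      show g * ε B * g⁻¹ = ε A * ε B
      rw [← hφ, hgb, hεm]
  -- distinct words
  have hwinj : Function.Injective (QuaternionSL23.word (q a) (q b) (q t)) := by
    rintro ⟨i, j, r⟩ ⟨k, l, s⟩ huv
    simp only [QuaternionSL23.word, ← map_pow, ← map_mul] at huv
    obtain ⟨n, hn⟩ := (QuotientGroup.eq.1 huv : _ ∈ K.subgroupOf H)
    simp only [Subgroup.coe_subtype, Subgroup.coe_mul, Subgroup.coe_inv, Subgroup.coe_pow] at hn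
    rw [show (a : G) = ε A from rfl, show (b : G) = ε B from rfl, show (t : G) = g from rfl,
      ← hεp, ← hεp, ← hεp, ← hεp, ← hεm, ← hεm] at hn
    set P := A ^ i.val * B ^ j.val
    set Q := A ^ k.val * B ^ l.val
    have hkey : g ^ r.val * (g ^ 3) ^ n * (g ^ s.val)⁻¹ = ε (P⁻¹ * Q) := by
      rw [hεm, hεv, hn]; group
    have hfix : ∀ x, g ^ (r.val + (3 - s.val)) * ε x * (g ^ (r.val + (3 - s.val)))⁻¹ =
        ε (P⁻¹ * Q * x * (P⁻¹ * Q)⁻¹) := by
      intro x
      have hs : s.val < 3 := ZMod.val_lt s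
      have hKc : (g ^ 3) ^ n * (g ^ 3)⁻¹ ∈ Subgroup.centralizer {ε x} := by
        have hc : g ^ 3 ∈ Subgroup.centralizer {ε x} :=
          Subgroup.mem_centralizer_singleton_iff.2 (mul_inv_eq_iff_eq_mul.1 (h3 x))
        exact mul_mem (zpow_mem hc n) (inv_mem hc)
      have h := Subgroup.mem_centralizer_singleton_iff.1 hKc
      rw [hεm (P⁻¹ * Q * x), hεm, hεv, ← hkey]
      have e1 : g ^ r.val * (g ^ 3) ^ n * (g ^ s.val)⁻¹ =
          g ^ (r.val + (3 - s.val)) * ((g ^ 3) ^ n * (g ^ 3)⁻¹) := by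
        have e2 : g ^ 3 = g ^ (3 - s.val) * g ^ s.val := by
          rw [← pow_add, Nat.sub_add_cancel hs.le]
        have e3 : Commute (g ^ (3 - s.val)) ((g ^ 3) ^ n * (g ^ 3)⁻¹) := by
          refine Commute.mul_right ?_ ?_
          · exact (Commute.pow_pow_self g _ _).zpow_right n
          · exact (Commute.pow_pow_self g _ _).inv_right
        rw [pow_add, mul_assoc (g ^ r.val) (g ^ (3 - s.val)), e3.eq]
        nth_rewrite 3 [e2]
        group
      rw [e1, mul_assoc _ _ (ε x), h]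
      group
    have hmod : (r.val + (3 - s.val)) % 3 = 0 := by
      by_contra hne
      have hd := hnin (P⁻¹ * Q)
      have hred : ∀ x, g ^ ((r.val + (3 - s.val)) % 3) * ε x *
          (g ^ ((r.val + (3 - s.val)) % 3))⁻¹ = ε (P⁻¹ * Q * x * (P⁻¹ * Q)⁻¹) := by
        intro x
        rw [← hfix x]
        set w := r.val + (3 - s.val)
        have hc : (g ^ 3) ^ (w / 3) * ε x * ((g ^ 3) ^ (w / 3))⁻¹ = ε x := by
          rw [mul_inv_eq_iff_eq_mul]
          exact Subgroup.mem_centralizer_singleton_iff.1 (pow_mem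
            (Subgroup.mem_centralizer_singleton_iff.2 (mul_inv_eq_iff_eq_mul.1 (h3 x))) _)
        conv_rhs => rw [← Nat.mod_add_div w 3, pow_add, pow_mul]
        nth_rewrite 1 [← hc]
        group
      have hlt := Nat.mod_lt (r.val + (3 - s.val)) (show 3 > 0 by norm_num)
      have hw : (r.val + (3 - s.val)) % 3 = 1 ∨ (r.val + (3 - s.val)) % 3 = 2 := by omega
      rcases hw with hw | hw <;> rw [hw] at hred
      · obtain ⟨x, hx⟩ := hd.1
        exact hx (hεi (by rw [← hred x, hφ, pow_one]))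
      · obtain ⟨x, hx⟩ := hd.2
        exact hx (hεi (by rw [← hred x, hφ, hφ, pow_two]; group))
    have hrs : r = s := by
      refine ZMod.val_injective 3 ?_
      have := ZMod.val_lt r
      have := ZMod.val_lt s
      omega
    subst hrs
    have hd1 : ε (P⁻¹ * Q) = 1 := by
      have h8 : ε (P⁻¹ * Q) ^ 8 = 1 := by
        rw [← hεp]
        have h8' : ∀ x : QuaternionGroup 2, x ^ 8 = 1 := by decide
        rw [h8']; simp [ε]
      have h2 : orderOf (ε (P⁻¹ * Q)) ∣ orderOf g := by
        refine orderOf_dvd_of_mem_zpowers ?_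
        rw [← hkey]
        exact mul_mem (mul_mem (pow_mem (Subgroup.mem_zpowers g) _)
          (zpow_mem (pow_mem (Subgroup.mem_zpowers g) _) _)) (inv_mem (pow_mem (Subgroup.mem_zpowers g) _))
      have hcop : Nat.Coprime 8 (orderOf g) :=
        (Nat.Coprime.pow_left 3 ((Nat.Prime.coprime_iff_not_dvd Nat.prime_two).2 hodd))
      exact orderOf_eq_one_iff.1 (Nat.eq_one_of_dvd_coprimes hcop (orderOf_dvd_of_pow_eq_one h8) h2)
    have hPQ : P = Q := inv_mul_eq_one.1 (hεi (hd1.trans (by simp [ε])))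
    obtain ⟨h1, h2⟩ := hAB i k j l hPQ
    subst h1; subst h2; rfl
  -- generation
  have hgen : Subgroup.closure {q a, q b, q t} = ⊤ := by
    set S := Subgroup.closure {q a, q b, q t} with hS
    have ha : q a ∈ S := Subgroup.subset_closure (by simp)
    have hb : q b ∈ S := Subgroup.subset_closure (by simp)
    have ht : q t ∈ S := Subgroup.subset_closure (by simp)
    rw [eq_top_iff]
    intro m _
    obtain ⟨h, rfl⟩ := QuotientGroup.mk'_surjective (K.subgroupOf H) m
    have hle : H ≤ (S.comap q).map H.subtype := by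
      refine sup_le (fun d hd => ?_) (Subgroup.zpowers_le.2 ⟨t, ht, rfl⟩)
      have hsur : Function.Surjective (fun u : ZMod 4 × ZMod 2 => A ^ u.1.val * B ^ u.2.val) := by
        refine ((Fintype.bijective_iff_injective_and_card _).2 ⟨?_, ?_⟩).2
        · rintro ⟨i, j⟩ ⟨k, l⟩ hh
          obtain ⟨h1, h2⟩ := hAB i k j l hh
          rw [h1, h2]
        · simp [QuaternionGroup.card]
      obtain ⟨⟨i, j⟩, hij⟩ := hsur (e ⟨d, hd⟩)
      refine ⟨a ^ i.val * b ^ j.val, ?_, ?_⟩
      · show q _ ∈ S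
        rw [map_mul, map_pow, map_pow]
        exact mul_mem (pow_mem ha _) (pow_mem hb _)
      · show ε A ^ i.val * ε B ^ j.val = d
        have hij' : A ^ i.val * B ^ j.val = e ⟨d, hd⟩ := hij
        rw [← hεp, ← hεp, ← hεm, hij', hεe]
    obtain ⟨h', hh', he⟩ := hle h.2
    obtain rfl : h' = h := Subtype.ext he
    exact hh'
  exact QuaternionSL23.nonempty_mulEquiv hrel hgen hwinj

/-- An element of odd order centralises a cyclic `2`-group it normalises. -/
theorem centralizes_cyclic {G : Type*} [Group G] [Finite G] {R : Subgroup G} (hR : IsPGroup 2 R)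
    (hc : IsCyclic R) {g : G} (hg : g ∈ Subgroup.normalizer (R : Set G))
    (hodd : ¬ 2 ∣ orderOf g) : g ∈ Subgroup.centralizer (R : Set G) :=
  CfsgLib.LocalEvenB.HSubgroup.centralizes_of_cyclic hR hg
    ((Nat.Prime.coprime_iff_not_dvd Nat.prime_two).2 hodd).symm (fun q hq _ => hq.two_le)


/-- A finite group with generalized quaternion Sylow 2-subgroups either has a normal 2-complement or has a section isomorphic to SL(2,3). -/
theorem result {G : Type*} [Group G] [Finite G] (T : Sylow 2 G) (n : ℕ) (hn : 1 ≤ n) (hT : Nonempty ((T : Subgroup G) ≃* QuaternionGroup (2 ^ n))) : Cfsg.HasNormalPComplement 2 G ∨ ∃ (H K : Subgroup G) (hK : (K.subgroupOf H).Normal), Nonempty ((H ⧸ K.subgroupOf H) ≃* Matrix.SpecialLinearGroup (Fin 2) (ZMod 3)) := by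
  classical
  by_cases hnpc : Cfsg.HasNormalPComplement 2 G
  · exact Or.inl hnpc
  right
  obtain ⟨e⟩ := hT
  haveI : NeZero (2 ^ n) := ⟨by positivity⟩
  obtain ⟨D, hDT, g, hg, hcop, hnc⟩ : ∃ D : Subgroup G, D ≤ (T : Subgroup G) ∧
      ∃ g ∈ Subgroup.normalizer (D : Set G), Nat.Coprime (orderOf g) 2 ∧
        g ∉ Subgroup.centralizer (D : Set G) := by
    by_contra hcon
    push Not at hcon
    exact hnpc (CfsgLib.Fusion.Alperin.npc_of_frobenius T fun Q hQ g hg ho => hcon Q hQ g hg ho)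
  have hodd : ¬ 2 ∣ orderOf g := (Nat.Prime.coprime_iff_not_dvd Nat.prime_two).1 hcop.symm
  have hDp : IsPGroup 2 D := T.2.to_le hDT
  let A : Subgroup G :=
    ((Subgroup.zpowers (QuaternionGroup.a 1 : QuaternionGroup (2 ^ n))).comap e.toMonoidHom).map
      (T : Subgroup G).subtype
  have hmemA : ∀ x : (T : Subgroup G), (x : G) ∈ A ↔ ∃ i, e x = QuaternionGroup.a i := by
    intro x
    constructor
    · rintro ⟨y, ⟨k, hk⟩, hy⟩
      obtain rfl : y = x := Subtype.ext hy
      refine ⟨(k : ZMod (2 * 2 ^ n)), hk.symm.trans ?_⟩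
      show (QuaternionGroup.a 1 : QuaternionGroup (2 ^ n)) ^ k = _
      obtain ⟨j, rfl | rfl⟩ := k.eq_nat_or_neg
      · rw [zpow_natCast, QuaternionGroup.a_one_pow, Int.cast_natCast]
      · rw [zpow_neg, zpow_natCast, QuaternionGroup.a_one_pow, Int.cast_neg, Int.cast_natCast]
        rfl
    · rintro ⟨i, hi⟩
      refine ⟨x, ⟨(i.val : ℤ), ?_⟩, rfl⟩
      show (QuaternionGroup.a 1 : QuaternionGroup (2 ^ n)) ^ (i.val : ℤ) = e x
      rw [zpow_natCast, QuaternionGroup.a_one_pow, ZMod.natCast_zmod_val, hi]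
  have hAc : IsCyclic A := by
    refine (Subgroup.isCyclic_iff_exists_zpowers_eq_top _).2
      ⟨((e.symm (QuaternionGroup.a 1) : (T : Subgroup G)) : G), ?_⟩
    have : A = ((Subgroup.zpowers (QuaternionGroup.a 1 : QuaternionGroup (2 ^ n))).map
        e.symm.toMonoidHom).map (T : Subgroup G).subtype := by
      rw [Subgroup.map_equiv_eq_comap_symm']
      rfl
    rw [this, MonoidHom.map_zpowers, MonoidHom.map_zpowers]
    rfl
  obtain ⟨z, hz1, hzz, hinv⟩ : ∃ z : G, z ≠ 1 ∧ z * z = 1 ∧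
      ∀ x ∈ (T : Subgroup G), x * x = 1 → x = 1 ∨ x = z := by
    have hm0 : ((2 ^ n : ℕ) : ZMod (2 * 2 ^ n)) ≠ 0 := by
      rw [Ne, ZMod.natCast_eq_zero_iff]
      intro h
      have := Nat.le_of_dvd (by positivity) h
      have : 0 < 2 ^ n := by positivity
      omega
    refine ⟨((e.symm (QuaternionGroup.a ((2 ^ n : ℕ) : ZMod (2 * 2 ^ n)))) : G), ?_, ?_, ?_⟩
    · intro h
      have h1 := e.symm.injective ((Subtype.ext h : _ = (1 : (T : Subgroup G))).trans (map_one e.symm).symm)
      rw [QuaternionGroup.one_def] at h1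
      exact hm0 (QuaternionGroup.a.inj h1)
    · rw [← Subgroup.coe_mul, ← map_mul, QuaternionGroup.a_mul_a, ← Nat.cast_add, ← two_mul,
        ZMod.natCast_self, ← QuaternionGroup.one_def, map_one, Subgroup.coe_one]
    · intro x hx hxx
      have h1 : e ⟨x, hx⟩ * e ⟨x, hx⟩ = 1 := by
        rw [← map_mul, show (⟨x, hx⟩ * ⟨x, hx⟩ : (T : Subgroup G)) = 1 from Subtype.ext hxx, map_one]
      cases hex : e ⟨x, hx⟩ with
      | xa i =>
        rw [hex, QuaternionGroup.xa_mul_xa, QuaternionGroup.one_def] at h1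
        exact absurd (by simpa using QuaternionGroup.a.inj h1) hm0
      | a i =>
        rw [hex, QuaternionGroup.a_mul_a, QuaternionGroup.one_def] at h1
        have h2 : i + i = 0 := QuaternionGroup.a.inj h1
        have h3 : i = 0 ∨ i = ((2 ^ n : ℕ) : ZMod (2 * 2 ^ n)) := by
          rw [← ZMod.natCast_zmod_val i, ← Nat.cast_add, ZMod.natCast_eq_zero_iff] at h2
          obtain ⟨c, hc⟩ := h2
          have hlt := ZMod.val_lt i
          have hc2 : c < 2 := by
            by_contra hge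
            nlinarith
          interval_cases c
          · left; rw [← ZMod.natCast_zmod_val i, show i.val = 0 by omega, Nat.cast_zero]
          · right; rw [← ZMod.natCast_zmod_val i, show i.val = 2 ^ n by omega]
        have hx' : x = ((e.symm (QuaternionGroup.a i)) : G) := by rw [← hex, e.symm_apply_apply]
        rcases h3 with h3 | h3
        · left; rw [hx', h3, ← QuaternionGroup.one_def, map_one, Subgroup.coe_one]
        · right; rw [hx', h3]
  have hout : ∀ x ∈ D, x ∉ A → x ^ 4 = 1 := by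
    intro x hx hxA
    cases hex : e ⟨x, hDT hx⟩ with
    | a i => exact absurd ((hmemA ⟨x, hDT hx⟩).2 ⟨i, hex⟩) hxA
    | xa i =>
      have h := congrArg (fun q => ((e.symm (q ^ 4)) : G)) hex
      simpa using h
  have hidx : ∀ x ∈ D, ∀ y ∈ D, x ∉ A → y ∉ A → x * y⁻¹ ∈ A := by
    intro x hx y hy hxA hyA
    cases hex : e ⟨x, hDT hx⟩ with
    | a i => exact absurd ((hmemA ⟨x, hDT hx⟩).2 ⟨i, hex⟩) hxA
    | xa i =>
      cases hey : e ⟨y, hDT hy⟩ with
      | a j => exact absurd ((hmemA ⟨y, hDT hy⟩).2 ⟨j, hey⟩) hyA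
      | xa j =>
        have hyi : (QuaternionGroup.xa j : QuaternionGroup (2 ^ n))⁻¹ =
            QuaternionGroup.xa (((2 ^ n : ℕ) : ZMod (2 * 2 ^ n)) + j) := rfl
        refine (hmemA (⟨x, hDT hx⟩ * ⟨y, hDT hy⟩⁻¹)).2
          ⟨_, by rw [map_mul, map_inv, hex, hey, hyi, QuaternionGroup.xa_mul_xa]⟩
  haveI := hAc
  -- `D` is not cyclic
  have hDnc : ¬ IsCyclic D := fun h => hnc (centralizes_cyclic hDp h hg hodd)
  have hnot : ¬ D ≤ A := fun h => hDnc (Subgroup.isCyclic_of_le h)
  obtain ⟨w, hwD, hwA⟩ := SetLike.not_le_iff_exists.1 hnot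
  haveI hCc : IsCyclic (D ⊓ A : Subgroup G) := Subgroup.isCyclic_of_le inf_le_right
  obtain ⟨c, hc⟩ := (Subgroup.isCyclic_iff_exists_zpowers_eq_top _).1 hCc
  have hcC : c ∈ D ⊓ A := hc ▸ Subgroup.mem_zpowers c
  have h4 : ∀ x ∈ D, x ^ 4 = 1 := by
    by_contra hcon
    push Not at hcon
    obtain ⟨x, hxD, hx4⟩ := hcon
    have hxA : x ∈ A := by_contra fun h => hx4 (hout x hxD h)
    have hc4 : c ^ 4 ≠ 1 := fun h => hx4 (by
      obtain ⟨k, hk⟩ := (hc ▸ (show x ∈ D ⊓ A from ⟨hxD, hxA⟩) : x ∈ Subgroup.zpowers c)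
      rw [← hk]
      show (c ^ k) ^ 4 = 1
      rw [← zpow_natCast (c ^ k), ← zpow_mul, mul_comm, zpow_mul, zpow_natCast, h, one_zpow])
    have hgc : g * c * g⁻¹ ∈ D ⊓ A := by
      have hD' := (Subgroup.mem_normalizer_iff.1 hg c).1 hcC.1
      refine ⟨hD', by_contra fun h => hc4 ?_⟩
      have h4' := hout _ hD' h
      rwa [conj_pow, conj_eq_one_iff] at h4'
    have hgN : g ∈ Subgroup.normalizer ((D ⊓ A : Subgroup G) : Set G) := by
      rw [Subgroup.mem_normalizer_iff_map_conj_eq]
      refine Subgroup.eq_of_le_of_card_ge ?_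
        (le_of_eq (Subgroup.card_map_of_injective (MulAut.conj g).injective).symm)
      conv_lhs => rw [← hc, MonoidHom.map_zpowers]
      exact Subgroup.zpowers_le.2 hgc
    have hgC := centralizes_cyclic (hDp.to_le inf_le_left) hCc hgN hodd
    refine hnc (Subgroup.mem_centralizer_iff.2 fun y hy => ?_)
    by_cases hyA : y ∈ A
    · exact Subgroup.mem_centralizer_iff.1 hgC y ⟨hy, hyA⟩
    · have hgy : g * y * g⁻¹ ∈ D := (Subgroup.mem_normalizer_iff.1 hg y).1 hy
      have hgyA : g * y * g⁻¹ ∉ A := fun h => hyA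
        ((Subgroup.mem_normalizer_iff.1 hgN y).2 ⟨hgy, h⟩).2
      set d := g * y * g⁻¹ * y⁻¹ with hd
      have hdC : d ∈ D ⊓ A := Subgroup.mem_inf.2 ⟨D.mul_mem hgy (D.inv_mem hy), hidx _ hgy y hy hgyA hyA⟩
      have hgd : g * d = d * g := (Subgroup.mem_centralizer_iff.1 hgC d hdC).symm
      have hit : ∀ k : ℕ, g ^ k * y * (g ^ k)⁻¹ = d ^ k * y := by
        intro k
        induction k with
        | zero => simp
        | succ k ih =>
          calc g ^ (k + 1) * y * (g ^ (k + 1))⁻¹ = g * (g ^ k * y * (g ^ k)⁻¹) * g⁻¹ := by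
                rw [pow_succ']; group
            _ = g * d ^ k * g⁻¹ * (g * y * g⁻¹) := by rw [ih]; group
            _ = d ^ k * d * y := by
                rw [(Commute.pow_right (show Commute g d from hgd) k).eq, hd]; group
            _ = _ := by rw [pow_succ]
      have h := hit (orderOf g)
      rw [pow_orderOf_eq_one, one_mul, inv_one, mul_one, eq_comm, mul_eq_right] at h
      have hd1 : d = 1 := by
        obtain ⟨k, hk⟩ := hDp ⟨d, hdC.1⟩
        have hk' : d ^ 2 ^ k = 1 := congrArg Subtype.val hk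
        exact orderOf_eq_one_iff.1 (Nat.eq_one_of_dvd_coprimes (hcop.pow_right k)
          (orderOf_dvd_of_pow_eq_one h) (orderOf_dvd_of_pow_eq_one hk'))
      rw [hd, mul_inv_eq_one, mul_inv_eq_iff_eq_mul] at hd1
      exact hd1.symm
  have hsq : ∀ x ∈ D, x = 1 ∨ x = z ∨ x * x = z := by
    intro x hx
    by_cases h : x * x = 1
    · exact (hinv x (hDT hx) h).imp id Or.inl
    · exact Or.inr (Or.inr ((hinv (x * x) (mul_mem (hDT hx) (hDT hx)) (by
        rw [← h4 x hx, pow_succ, pow_succ, pow_two, ← mul_assoc])).resolve_left h))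
  have hD8 : Nat.card D = 8 := by
    have hsplit : Nat.card D ≤ 2 * Nat.card (D ⊓ A : Subgroup G) := by
      have : Nat.card D ≤ Nat.card ((D ⊓ A : Subgroup G) × Bool) := by
        refine Nat.card_le_card_of_injective (fun y : D => if h : (y : G) ∈ A then (⟨y, y.2, h⟩, true)
          else (⟨(y : G) * w⁻¹, Subgroup.mem_inf.2
            ⟨D.mul_mem y.2 (D.inv_mem hwD), hidx y y.2 w hwD h hwA⟩⟩, false)) ?_
        intro y y' h
        simp only at h
        split_ifs at h <;> simp only [Prod.mk.injEq, Subtype.mk.injEq, reduceCtorEq, and_false,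
          and_true] at h
        · exact Subtype.ext (congrArg (fun p : (D ⊓ A : Subgroup G) => (p : G)) h :)
        · exact Subtype.ext (mul_right_cancel h)
      rw [Nat.card_prod, Nat.card_eq_fintype_card (α := Bool), Fintype.card_bool] at this
      omega
    have hC4 : Nat.card (D ⊓ A : Subgroup G) ≤ 4 := by
      rw [← hc, Nat.card_zpowers]
      exact Nat.le_of_dvd (by norm_num) (orderOf_dvd_of_pow_eq_one (h4 c hcC.1))
    obtain ⟨k, hk⟩ := IsPGroup.iff_card.1 hDp
    have hk3 : k ≤ 3 := by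
      by_contra h
      have : 2 ^ 4 ≤ Nat.card D := hk ▸ Nat.pow_le_pow_right (by norm_num) (by omega)
      omega
    have hk3' : ¬ k < 3 := by
      intro hlt
      apply hDnc
      by_cases hsmall : ∀ x ∈ D, x * x = 1
      · have : Nat.card D ≤ Nat.card ({1, z} : Set G) := Nat.card_le_card_of_injective
          (fun x => ⟨(x : G), hinv x (hDT x.2) (hsmall x x.2)⟩)
          (fun x y h => Subtype.ext (congrArg (fun w : ({1, z} : Set G) => (w : G)) h :))
        rw [Nat.card_coe_set_eq] at this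
        have h2 := this.trans (Set.ncard_insert_le _ _)
        rw [Set.ncard_singleton] at h2
        have hk1 : k ≤ 1 := by
          by_contra h
          have : 2 ^ 2 ≤ Nat.card D := hk ▸ Nat.pow_le_pow_right (by norm_num) (by omega)
          omega
        interval_cases k
        · haveI : Subsingleton D := (Nat.card_eq_one_iff_unique.1 hk).1
          infer_instance
        · exact isCyclic_of_prime_card (p := 2) (by simpa using hk)
      · push Not at hsmall
        obtain ⟨x, hx, hxx⟩ := hsmall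
        have ho : orderOf x = 2 ^ (1 + 1) := orderOf_eq_prime_pow (p := 2) (n := 1)
          (by rw [pow_one, pow_two]; exact hxx) (h4 x hx)
        refine isCyclic_of_orderOf_eq_card (⟨x, hx⟩ : D) ?_
        have h1 : orderOf x ∣ 2 ^ k := hk ▸ Subgroup.orderOf_coe (⟨x, hx⟩ : D) ▸ orderOf_dvd_natCard _
        rw [ho, Nat.pow_dvd_pow_iff_le_right (by norm_num)] at h1
        rw [Subgroup.orderOf_mk, ho, hk, show k = 1 + 1 by omega]
    rw [hk, show k = 3 by omega]
    norm_num
  obtain ⟨e8⟩ := equiv_q8 D hD8 z hz1 hsq hzz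
  exact section_of_q8 D e8 hg hodd hnc

end Cfsg.Agent.S0106
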