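import Cfsg.Statements.S2879
import Cfsg.Agent.S0106
import Cfsg.Agent.Lib.Solvable.Cores
import Cfsg.Agent.Lib.Fusion.PSolvable
-- import your own Cfsg.Agent.* helpers here

set_option autoImplicit false
open Cfsg

namespace Cfsg.Agent.S2879


open CfsgLib

variable {G : Type*} [Group G]

/-- Facts about a dihedral or semidihedral 2-group inside a group. -/
theorem shape [Finite G] (T : Sylow 2 G)
    (hT : (∃ n : ℕ, 4 ≤ n ∧ Nonempty (↥(T : Subgroup G) ≃* DihedralGroup n)) ∨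
      Cfsg.IsQuasiDihedral ↥(T : Subgroup G)) :
    ∃ (k r : ℕ) (a b : T), 2 ≤ k ∧ orderOf a = 2 ^ k ∧ Nat.card (T : Subgroup G) = 2 ^ (k + 1) ∧
      b * b = 1 ∧ b ∉ Subgroup.zpowers a ∧ b * a * b⁻¹ = a ^ r ∧ 2 ^ (k - 1) ∣ r + 1 ∧ 4 ∣ r + 1 := by
  rcases hT with ⟨n, hn, ⟨e⟩⟩ | ⟨n, hn, hcard, x, y, hx, hy, hyx⟩
  · haveI : NeZero n := ⟨by omega⟩
    obtain ⟨j, hj⟩ := T.isPGroup'.exists_card_eq
    rw [Nat.card_congr e.toEquiv, DihedralGroup.nat_card] at hj
    obtain ⟨k, rfl⟩ : ∃ k, n = 2 ^ k := by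
      cases j with
      | zero => omega
      | succ j => exact ⟨j, by rw [pow_succ] at hj; omega⟩
    have hk : 2 ≤ k := by
      by_contra h
      have := Nat.pow_le_pow_right (show 0 < 2 by omega) (show k ≤ 1 by omega)
      omega
    have hord : orderOf (e.symm (DihedralGroup.r 1)) = 2 ^ k :=
      (orderOf_injective e.symm.toMonoidHom e.symm.injective _).trans DihedralGroup.orderOf_r_one
    refine ⟨k, 2 ^ k - 1, e.symm (DihedralGroup.r 1), e.symm (DihedralGroup.sr 0), hk, hord,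
      by rw [Nat.card_congr e.toEquiv, DihedralGroup.nat_card, pow_succ, mul_comm], ?_, ?_, ?_, ?_, ?_⟩
    · rw [← map_mul, DihedralGroup.sr_mul_self, map_one]
    · intro h
      obtain ⟨i, hi⟩ := Subgroup.mem_zpowers_iff.1 h
      have := congrArg e hi
      rw [map_zpow, e.apply_symm_apply, e.apply_symm_apply, DihedralGroup.r_one_zpow] at this
      simp at this
    · have hinv : e.symm (DihedralGroup.r 1) ^ (2 ^ k - 1) = (e.symm (DihedralGroup.r 1))⁻¹ :=
        eq_inv_of_mul_eq_one_left (by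
          rw [← pow_succ, Nat.sub_add_cancel (Nat.one_le_pow _ _ (by omega))]
          exact orderOf_dvd_iff_pow_eq_one.1 hord.dvd)
      rw [hinv, ← map_inv, ← map_mul, ← map_mul, ← map_inv]
      congr 1
      simp
    · rw [Nat.sub_add_cancel (Nat.one_le_pow _ _ (by omega))]
      exact pow_dvd_pow 2 (Nat.sub_le k 1)
    · rw [Nat.sub_add_cancel (Nat.one_le_pow _ _ (by omega))]
      exact pow_dvd_pow 2 hk
  · refine ⟨n, 2 ^ (n - 1) - 1, x, y, by omega, hx, hcard, by rw [← pow_two]; exact orderOf_dvd_iff_pow_eq_one.1 hy.dvd,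
      ?_, hyx, ?_, ?_⟩
    · intro hmem
      have hc : y * x * y⁻¹ = x := by
        obtain ⟨i, hi⟩ := Subgroup.mem_zpowers_iff.1 hmem
        rw [← hi, (Commute.zpow_self x i).eq, mul_inv_cancel_right]
      have h8 : 4 ≤ 2 ^ (n - 1) := Nat.pow_le_pow_right (show 0 < 2 by omega) (show 2 ≤ n - 1 by omega)
      rw [hyx] at hc
      have hlt : 2 ^ (n - 1) < 2 ^ n := Nat.pow_lt_pow_right (by omega) (by omega)
      have := pow_injOn_Iio_orderOf (x := x) (Set.mem_Iio.2 (show 2 ^ (n - 1) - 1 < orderOf x by omega))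
        (Set.mem_Iio.2 (show 1 < orderOf x by omega)) (hc.trans (pow_one x).symm)
      omega
    · rw [Nat.sub_add_cancel (Nat.one_le_pow _ _ (by omega))]
    · rw [Nat.sub_add_cancel (Nat.one_le_pow _ _ (by omega))]
      exact pow_dvd_pow 2 (show 2 ≤ n - 1 by omega)

/-- An element of odd order normalising a `2`-group, centralising a subgroup of index at most two. -/
theorem centralizes_of_index_two [Finite G] {P C : Subgroup G} (hP : IsPGroup 2 P) (hCP : C ≤ P)
    {g : G} (hg : g ∈ Subgroup.normalizer (P : Set G)) (hgC : g ∈ Subgroup.centralizer (C : Set G))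
    (hodd : Odd (orderOf g)) (hidx : ∀ x ∈ P, ∀ y ∈ P, x ∉ C → y ∉ C → x⁻¹ * y ∈ C) :
    g ∈ Subgroup.centralizer (P : Set G) := by
  refine Subgroup.mem_centralizer_iff.2 fun x hx => ?_
  by_cases hxC : x ∈ C
  · exact Subgroup.mem_centralizer_iff.1 hgC x hxC
  have hgx : g * x * g⁻¹ ∈ P := (Subgroup.mem_normalizer_iff.1 hg x).1 hx
  have hgxC : g * x * g⁻¹ ∉ C := fun h => hxC (by
    have h1 := Subgroup.mem_centralizer_iff.1 hgC _ h
    have : g * x * g⁻¹ = x := by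
      calc g * x * g⁻¹ = g⁻¹ * (g * (g * x * g⁻¹)) := by group
        _ = g⁻¹ * (g * x * g⁻¹ * g) := by rw [h1]
        _ = x := by group
    rwa [this] at h)
  set c := x⁻¹ * (g * x * g⁻¹)
  have hc : c ∈ C := hidx x hx _ hgx hxC hgxC
  have hcg : g * c = c * g := (Subgroup.mem_centralizer_iff.1 hgC c hc).symm
  have hk : ∀ k : ℕ, g ^ k * x * (g ^ k)⁻¹ = x * c ^ k := by
    intro k
    induction k with
    | zero => simp
    | succ k ih =>
      have hck : g * c ^ k = c ^ k * g := (Commute.pow_right hcg k).eq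
      calc g ^ (k + 1) * x * (g ^ (k + 1))⁻¹ = g * (g ^ k * x * (g ^ k)⁻¹) * g⁻¹ := by
            rw [pow_succ']; group
        _ = g * x * g⁻¹ * (g * c ^ k * g⁻¹) := by rw [ih]; group
        _ = x * c ^ (k + 1) := by rw [hck, mul_inv_cancel_right, pow_succ']; simp [c, mul_assoc]
  have h1 := hk (orderOf g)
  rw [pow_orderOf_eq_one, one_mul, inv_one, mul_one, left_eq_mul] at h1
  obtain ⟨j, hj⟩ := hP ⟨c, hCP hc⟩
  have hj' : c ^ 2 ^ j = 1 := by simpa using congrArg Subtype.val hj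
  have hc1 : c = 1 := orderOf_eq_one_iff.1 (Nat.eq_one_of_dvd_coprimes
    ((Nat.coprime_two_left.2 hodd).pow_left j) (orderOf_dvd_of_pow_eq_one hj') (orderOf_dvd_of_pow_eq_one h1))
  have : g * x * g⁻¹ = x := by
    calc g * x * g⁻¹ = x * c := by simp [c]
      _ = x := by rw [hc1, mul_one]
  exact (mul_inv_eq_iff_eq_mul.1 this).symm

/-- Let G be a finite solvable group with O(G) = 1 whose Sylow 2-subgroup T is dihedral of order at least 8 or semidihedral, with G ≠ T and Z(T) normal in G. Then G has a normal subgroup isomorphic to SL₂(3). -/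
theorem result {G : Type*} [Group G] [Finite G] (hsol : IsSolvable G) (hO : Cfsg.oddCore G = ⊥) (T : Sylow 2 G) (hT : (∃ n : ℕ, 4 ≤ n ∧ Nonempty (↥(T : Subgroup G) ≃* DihedralGroup n)) ∨ Cfsg.IsQuasiDihedral ↥(T : Subgroup G)) (hne : (T : Subgroup G) ≠ ⊤) (hZ : ((T : Subgroup G) ⊓ Subgroup.centralizer ((T : Subgroup G) : Set G)).Normal) : ∃ U : Subgroup G, U.Normal ∧ Nonempty (↥U ≃* Matrix.SpecialLinearGroup (Fin 2) (ZMod 3)) := by
  classical
  haveI : Group.IsSolvable G := hsol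
  haveI : Fact (Nat.Prime 2) := ⟨Nat.prime_two⟩
  obtain ⟨k, r, ⟨a, haT⟩, ⟨b, hbT⟩, hk, ha, hcard, hbb, hb, hba, hr1, hr4⟩ := shape T hT
  rw [← Subgroup.orderOf_coe] at ha
  have hbb : b * b = 1 := congrArg Subtype.val hbb
  have hb : b ∉ Subgroup.zpowers a := fun h => hb (by
    obtain ⟨i, hi⟩ := Subgroup.mem_zpowers_iff.1 h
    exact Subgroup.mem_zpowers_iff.2 ⟨i, Subtype.ext (by rw [Subgroup.coe_zpow]; exact hi)⟩)
  have hba : b * a * b⁻¹ = a ^ r := by
    have := congrArg Subtype.val hba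
    simpa using this
  simp only at ha
  set A := Subgroup.zpowers a with hA
  have hAT : A ≤ T := Subgroup.zpowers_le.2 haT
  have hAcard : Nat.card A = 2 ^ k := by rw [hA, Nat.card_zpowers, ha]
  have hAidx : A.relIndex T = 2 := by
    have h1 := Subgroup.card_mul_index (A.subgroupOf (T : Subgroup G))
    rw [Nat.card_congr (Subgroup.subgroupOfEquivOfLe hAT).toEquiv, hAcard, hcard] at h1
    rw [Subgroup.relIndex]
    rw [pow_succ] at h1
    exact Nat.eq_of_mul_eq_mul_left (Nat.two_pow_pos k) h1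
  have houtP : ∀ x ∈ (T : Subgroup G), ∀ y ∈ (T : Subgroup G), x ∉ A → y ∉ A → x⁻¹ * y ∈ A := by
    intro x hx y hy hxA hyA
    have := (Subgroup.mul_mem_iff_of_index_two (H := A.subgroupOf (T : Subgroup G)) hAidx
      (a := (⟨x, hx⟩ : T)⁻¹) (b := ⟨y, hy⟩)).2 (by simp [Subgroup.mem_subgroupOf, hxA, hyA])
    simpa [Subgroup.mem_subgroupOf] using this
  -- conjugation by elements outside
  have hconj : ∀ x ∈ (T : Subgroup G), x ∉ A → ∀ i : ℤ, x * a ^ i * x⁻¹ = a ^ (i * r) := by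
    intro x hx hxA i
    obtain ⟨j, hj⟩ := Subgroup.mem_zpowers_iff.1 (houtP b hbT x hx hb hxA)
    have hxb : x = b * a ^ j := by rw [hj]; group
    calc x * a ^ i * x⁻¹ = (b * a * b⁻¹) ^ i := by rw [hxb, conj_zpow]; group
      _ = a ^ (i * r) := by rw [hba, ← zpow_natCast, ← zpow_mul, mul_comm]
  set z : G := a ^ 2 ^ (k - 1) with hz
  have hk1 : 2 ^ (k - 1) * 2 = 2 ^ k := by rw [← pow_succ, Nat.sub_add_cancel (by omega)]
  have hzz : z * z = 1 := by rw [hz, ← pow_add, ← two_mul, mul_comm, hk1, ← ha, pow_orderOf_eq_one]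
  have hz1 : z ≠ 1 := pow_ne_one_of_lt_orderOf (Nat.two_pow_pos _).ne' (by
    rw [ha]; exact Nat.pow_lt_pow_right (by omega) (by omega))
  have hzA : z ∈ A := pow_mem (Subgroup.mem_zpowers a) _
  have hhalf : ∀ t : ℤ, a ^ ((2 : ℤ) ^ (k - 1) * t) = 1 ∨ a ^ ((2 : ℤ) ^ (k - 1) * t) = z := by
    intro t
    have e : a ^ ((2 : ℤ) ^ (k - 1) * t) = z ^ t := by
      rw [zpow_mul, hz, ← zpow_natCast a (2 ^ (k - 1))]; norm_cast
    have hz2 : z ^ (2 : ℤ) = 1 := by rw [zpow_two]; exact hzz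
    rcases Int.even_or_odd' t with ⟨m, rfl | rfl⟩
    · left; rw [e, zpow_mul, hz2, one_zpow]
    · right; rw [e, zpow_add, zpow_mul, hz2, one_zpow, one_mul, zpow_one]
  have hr1' : (2 : ℤ) ^ (k - 1) ∣ (r : ℤ) + 1 := by exact_mod_cast hr1
  have hr4' : (4 : ℤ) ∣ (r : ℤ) + 1 := by exact_mod_cast hr4
  have hsqout : ∀ x ∈ (T : Subgroup G), x ∉ A → x * x = 1 ∨ x * x = z := by
    intro x hx hxA
    obtain ⟨j, hj⟩ := Subgroup.mem_zpowers_iff.1 (houtP b hbT x hx hb hxA)
    have hxb : x = b * a ^ j := by rw [hj]; group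
    obtain ⟨u, hu⟩ := hr1'
    have h1 : x * x = a ^ ((2 : ℤ) ^ (k - 1) * (u * j)) := by
      have hbi : b⁻¹ = b := inv_eq_of_mul_eq_one_right hbb
      have hc := hconj b hbT hb j
      rw [hbi] at hc
      calc x * x = b * a ^ j * b * a ^ j := by rw [hxb]; group
        _ = a ^ (j * r + j) := by rw [hc, zpow_add]
        _ = _ := by congr 1; rw [← mul_assoc, ← hu]; ring
    rw [h1]; exact hhalf _
  set c : G := a ^ 2 ^ (k - 2) with hc
  have hcA : c ∈ A := pow_mem (Subgroup.mem_zpowers a) _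
  have hk2 : 2 ^ (k - 2) * 2 = 2 ^ (k - 1) := by rw [← pow_succ]; congr 1; omega
  have hcc : c * c = z := by rw [hc, ← pow_add, ← two_mul, mul_comm, hk2]
  have hcinv : ∀ x ∈ (T : Subgroup G), x ∉ A → x * c * x⁻¹ = c⁻¹ := by
    intro x hx hxA
    rw [hc, ← zpow_natCast, hconj x hx hxA, ← zpow_neg, zpow_eq_zpow_iff_modEq, ha, Int.modEq_iff_dvd]
    obtain ⟨u, hu⟩ := hr4'
    refine ⟨-u, ?_⟩
    have : (2 : ℤ) ^ k = (2 ^ (k - 2) : ℕ) * 4 := by
      exact_mod_cast show 2 ^ k = 2 ^ (k - 2) * 4 by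
        rw [show 4 = 2 ^ 2 by rfl, ← pow_add]; congr 1; omega
    push_cast at this ⊢
    rw [this]
    linear_combination -((2 : ℤ) ^ (k - 2)) * hu
  -- the centre of `T`
  have hZeq : ∀ w, w ∈ (T : Subgroup G) ⊓ Subgroup.centralizer ((T : Subgroup G) : Set G) → w = 1 ∨ w = z := by
    rintro w ⟨hwT, hwC⟩
    have hwA : w ∈ A := by
      by_contra hwA
      have h1 := hcinv w hwT hwA
      rw [← Subgroup.mem_centralizer_iff.1 hwC c (hAT hcA), mul_inv_cancel_right] at h1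
      apply hz1
      rw [← hcc]; nth_rewrite 2 [h1]; exact mul_inv_cancel c
    obtain ⟨i, rfl⟩ := Subgroup.mem_zpowers_iff.1 hwA
    have h1 := hconj b hbT hb i
    rw [Subgroup.mem_centralizer_iff.1 hwC b hbT, mul_inv_cancel_right, zpow_eq_zpow_iff_modEq, ha,
      Int.modEq_iff_dvd] at h1
    obtain ⟨u, hu⟩ := hr4'
    have h2 : ((2 : ℤ) ^ (k - 1) * 2) ∣ 2 * ((2 * u - 1) * i) := by
      have e : ((2 : ℤ) ^ (k - 1) * 2) = ((2 ^ k : ℕ) : ℤ) := by rw [← hk1]; push_cast; rfl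
      rw [e]
      convert h1 using 1
      linear_combination (-i) * hu
    rw [mul_comm ((2 : ℤ) ^ (k - 1))] at h2
    have h3 := Int.dvd_of_mul_dvd_mul_left two_ne_zero h2
    have hcop : IsCoprime ((2 : ℤ) ^ (k - 1)) (2 * u - 1) := IsCoprime.pow_left ⟨u, -1, by ring⟩
    obtain ⟨t, ht⟩ := hcop.dvd_of_dvd_mul_left h3
    rw [ht]; exact hhalf t
  have hzT : z ∈ (T : Subgroup G) ⊓ Subgroup.centralizer ((T : Subgroup G) : Set G) := by
    refine ⟨hAT hzA, Subgroup.mem_centralizer_iff.2 fun x hx => ?_⟩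
    by_cases hxA : x ∈ A
    · obtain ⟨i, rfl⟩ := Subgroup.mem_zpowers_iff.1 hxA
      rw [hz, ← zpow_natCast, ← zpow_add, ← zpow_add, add_comm]
    · refine (mul_inv_eq_iff_eq_mul.1 ?_)
      have hzi : z⁻¹ = z := inv_eq_of_mul_eq_one_right hzz
      calc x * z * x⁻¹ = (x * c * x⁻¹) * (x * c * x⁻¹) := by rw [← hcc]; group
        _ = z⁻¹ := by rw [hcinv x hx hxA, ← mul_inv_rev, hcc]
        _ = z := hzi
  have hzc : ∀ g : G, g * z * g⁻¹ = z := fun g => (hZeq _ (hZ.conj_mem z hzT g)).resolve_left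
    fun h => hz1 (conj_eq_one_iff.1 h)
  -- the 2-core
  set P := Cfsg.pCore 2 G with hP
  have hPn : P.Normal := inferInstance
  have hP2 : IsPGroup 2 P := CfsgLib.Solvable.Cores.isPGroup_pCore 2
  have hPT : P ≤ T := CfsgLib.Solvable.Cores.pCore_le_sylow T
  have hCP : Subgroup.centralizer (P : Set G) ≤ P :=
    CfsgLib.Fusion.PSolvable.centralizer_pCore_le CfsgLib.Fusion.PSolvable.psolvable_of_solvable hO
  have hzP : z ∈ P := hCP (Subgroup.mem_centralizer_iff.2 fun x _ => mul_inv_eq_iff_eq_mul.1 (hzc x))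
  have hnorm : ∀ g : G, g ∈ Subgroup.normalizer (P : Set G) := fun g => by
    rw [Subgroup.normalizer_eq_top P]; exact Subgroup.mem_top g
  -- odd elements centralising `P` are trivial
  have hodd1 : ∀ g : G, Odd (orderOf g) → g ∈ Subgroup.centralizer (P : Set G) → g = 1 := by
    intro g hg hgc
    obtain ⟨j, hj⟩ := hP2 ⟨g, hCP hgc⟩
    have hj' : g ^ 2 ^ j = 1 := by simpa using congrArg Subtype.val hj
    exact orderOf_eq_one_iff.1 (Nat.eq_one_of_dvd_coprimes
      ((Nat.coprime_two_left.2 hg).pow_left j) (orderOf_dvd_of_pow_eq_one hj') dvd_rfl)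
  obtain ⟨g₀, hg₀, hg₀1⟩ : ∃ g : G, Odd (orderOf g) ∧ g ≠ 1 := by
    have hidx : (T : Subgroup G).index ≠ 1 := fun h => hne (Subgroup.index_eq_one.1 h)
    obtain ⟨q, hq, hqd⟩ := Nat.exists_prime_and_dvd hidx
    haveI := Fact.mk hq
    obtain ⟨g, hg⟩ := exists_prime_orderOf_dvd_card' q (hqd.trans (T : Subgroup G).index_dvd_card)
    refine ⟨g, hg ▸ hq.odd_of_ne_two fun h => T.not_dvd_index (h ▸ hqd), fun h => ?_⟩
    rw [h, orderOf_one] at hg
    exact hq.ne_one hg.symm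
  set C := P ⊓ A with hC
  have hidxC : ∀ x ∈ P, ∀ y ∈ P, x ∉ C → y ∉ C → x⁻¹ * y ∈ C := fun x hx y hy hxC hyC =>
    Subgroup.mem_inf.2 ⟨P.mul_mem (P.inv_mem hx) hy, houtP x (hPT hx) y (hPT hy) (fun h => hxC ⟨hx, h⟩) fun h => hyC ⟨hy, h⟩⟩
  obtain ⟨c₀, hc₀⟩ := (Subgroup.isCyclic_iff_exists_zpowers_eq_top (H := C)).1 (by
    exact isCyclic_of_injective (Subgroup.inclusion (inf_le_right : C ≤ A)) (Subgroup.inclusion_injective _))
  have hc₀C : c₀ ∈ C := hc₀ ▸ Subgroup.mem_zpowers c₀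
  have hbad : ∀ g : G, Odd (orderOf g) → g * c₀ * g⁻¹ ∈ C → g = 1 := by
    intro g hg hgc
    refine hodd1 g hg (centralizes_of_index_two hP2 inf_le_left (hnorm g) ?_ hg hidxC)
    haveI : IsCyclic C := hc₀ ▸ inferInstance
    refine CfsgLib.LocalEvenB.HSubgroup.centralizes_of_cyclic (p := 2) (hP2.to_le inf_le_left) ?_
      (Nat.coprime_two_right.2 hg) (fun q hq _ => hq.two_le)
    have hmap : ∀ x ∈ C, g * x * g⁻¹ ∈ C := by
      intro x hx
      rw [← hc₀] at hx
      obtain ⟨i, rfl⟩ := Subgroup.mem_zpowers_iff.1 hx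
      rw [← conj_zpow]
      exact zpow_mem hgc i
    have hpow : ∀ (m : ℕ), ∀ x ∈ C, g ^ m * x * (g ^ m)⁻¹ ∈ C := by
      intro m
      induction m with
      | zero => simp
      | succ m ih =>
        intro x hx
        have := hmap _ (ih x hx)
        simpa [pow_succ', mul_assoc] using this
    refine Subgroup.mem_normalizer_iff.2 fun x => ⟨hmap x, fun h => ?_⟩
    have := hpow (orderOf g - 1) _ h
    have hgi : g ^ (orderOf g - 1) = g⁻¹ := eq_inv_of_mul_eq_one_left (by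
      rw [← pow_succ, Nat.sub_add_cancel (orderOf_pos g), pow_orderOf_eq_one])
    rw [hgi] at this
    simpa [mul_assoc, hC] using this
  have hy : g₀ * c₀ * g₀⁻¹ ∉ A := fun h => hg₀1 (hbad g₀ hg₀ ⟨hPn.conj_mem c₀ hc₀C.1 g₀, h⟩)
  set y := g₀ * c₀ * g₀⁻¹ with hydef
  have hyP : y ∈ P := hPn.conj_mem c₀ hc₀C.1 g₀
  have hyy : y * y = z := by
    refine (hsqout y (hPT hyP) hy).resolve_left fun h => ?_
    have hcc0 : c₀ * c₀ = 1 := by
      calc c₀ * c₀ = g₀⁻¹ * (y * y) * g₀ := by rw [hydef]; group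
        _ = 1 := by rw [h]; group
    obtain ⟨i, hi⟩ := Subgroup.mem_zpowers_iff.1 hc₀C.2
    have h2 : ((2 : ℤ) ^ (k - 1) * 2) ∣ i * 2 := by
      rw [← hi, ← zpow_add, ← orderOf_dvd_iff_zpow_eq_one, ha, ← hk1] at hcc0
      push_cast at hcc0
      rwa [mul_two i]
    rw [mul_comm i] at h2
    rw [mul_comm ((2 : ℤ) ^ (k - 1))] at h2
    obtain ⟨t, ht⟩ := Int.dvd_of_mul_dvd_mul_left two_ne_zero h2
    rw [ht] at hi
    apply hy
    rcases hhalf t with h' | h' <;> rw [hi] at h'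
    · rw [hydef, h']; simpa using one_mem A
    · rw [hydef, h', hzc]; exact hzA
  have hcc0 : c₀ * c₀ = z := by
    calc c₀ * c₀ = g₀⁻¹ * (y * y) * g₀ := by rw [hydef]; group
      _ = g₀⁻¹ * z * (g₀⁻¹)⁻¹ := by rw [hyy, inv_inv]
      _ = z := hzc g₀⁻¹
  have hc0pow : ∀ i : ℤ, c₀ ^ i = 1 ∨ c₀ ^ i = z ∨ c₀ ^ i * c₀ ^ i = z := by
    intro i
    rcases Int.even_or_odd' i with ⟨m, rfl | rfl⟩
    · have : c₀ ^ (2 * m) = z ^ m := by rw [zpow_mul, zpow_two, hcc0]
      rcases Int.even_or_odd' m with ⟨l, rfl | rfl⟩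
      · left; rw [this, zpow_mul, zpow_two, hzz, one_zpow]
      · right; left; rw [this, zpow_add, zpow_mul, zpow_two, hzz, one_zpow, one_mul, zpow_one]
    · right; right
      rw [← zpow_add, show 2 * m + 1 + (2 * m + 1) = 2 * (2 * m + 1) by ring, zpow_mul, zpow_two, hcc0,
        zpow_add, zpow_mul, zpow_two, hzz, one_zpow, one_mul, zpow_one]
  have hc0c : c₀ = c ∨ c₀ = c⁻¹ := by
    obtain ⟨i, hi⟩ := Subgroup.mem_zpowers_iff.1 hc₀C.2
    have h1 : a ^ (2 * i) = a ^ ((2 ^ (k - 1) : ℕ) : ℤ) := by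
      rw [zpow_natCast, ← hz, ← hcc0, ← hi, two_mul, zpow_add]
    rw [zpow_eq_zpow_iff_modEq, ha, Int.modEq_iff_dvd] at h1
    obtain ⟨t, ht⟩ := h1
    rw [← hk1] at ht
    push_cast at ht
    have hi' : i = (2 : ℤ) ^ (k - 2) * (1 - 2 * t) := by
      have : ((2 : ℤ) ^ (k - 1)) = 2 ^ (k - 2) * 2 := by exact_mod_cast hk2.symm
      rw [this] at ht; linarith
    have hce : c = a ^ ((2 : ℤ) ^ (k - 2)) := by rw [hc, ← zpow_natCast]; norm_cast
    rw [← hi, hi', zpow_mul, ← hce]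
    have hc4 : c ^ (4 : ℤ) = 1 := by
      rw [show (4 : ℤ) = 2 + 2 by norm_num, zpow_add, zpow_two, hcc, hzz]
    rcases Int.even_or_odd' t with ⟨l, rfl | rfl⟩
    · left; rw [show 1 - 2 * (2 * l) = 4 * (-l) + 1 by ring, zpow_add, zpow_mul, hc4, one_zpow, one_mul, zpow_one]
    · right; rw [show 1 - 2 * (2 * l + 1) = 4 * (-l) + (-1) by ring, zpow_add, zpow_mul, hc4, one_zpow, one_mul,
        zpow_neg_one]
  have hyc0 : y * c₀ * y⁻¹ = c₀⁻¹ := by
    rcases hc0c with h | h <;> rw [h]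
    · exact hcinv y (hPT hyP) hy
    · rw [← conj_inv, hcinv y (hPT hyP) hy]
  have hyi : ∀ i : ℤ, y * c₀ ^ i * (y * c₀ ^ i) = z := by
    intro i
    have e : y * c₀ ^ i * y⁻¹ = (c₀ ^ i)⁻¹ := by rw [← conj_zpow, hyc0, inv_zpow]
    calc y * c₀ ^ i * (y * c₀ ^ i) = (y * c₀ ^ i * y⁻¹) * (y * y) * c₀ ^ i := by group
      _ = (c₀ ^ i)⁻¹ * (c₀ ^ i * z * (c₀ ^ i)⁻¹) * c₀ ^ i := by rw [e, hyy, hzc]
      _ = z := by group
  have hPsq : ∀ x ∈ P, x = 1 ∨ x = z ∨ x * x = z := by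
    intro x hx
    by_cases hxC : x ∈ C
    · rw [← hc₀] at hxC
      obtain ⟨i, rfl⟩ := Subgroup.mem_zpowers_iff.1 hxC
      exact hc0pow i
    · have h1 := hidxC y hyP x hx (fun h => hy h.2) hxC
      rw [← hc₀] at h1
      obtain ⟨i, hi⟩ := Subgroup.mem_zpowers_iff.1 h1
      right; right
      rw [show x = y * c₀ ^ i by rw [hi]; group]
      exact hyi i
  have hP8 : Nat.card P = 8 := by
    have hCc : Nat.card C = 4 := by
      rw [← hc₀, Nat.card_zpowers]
      refine orderOf_eq_prime_pow (p := 2) (n := 1) ?_ ?_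
      · rw [pow_one, pow_two, hcc0]; exact hz1
      · rw [show 2 ^ (1 + 1) = 2 * 2 by rfl, pow_mul, pow_two c₀, hcc0, pow_two, hzz]
    have hne1 : C.subgroupOf P ≠ ⊤ := fun h => hy ((Subgroup.subgroupOf_eq_top.1 h) hyP).2
    have h2 : (C.subgroupOf P).index = 2 := by
      rw [Subgroup.index_eq_two_iff']
      refine ⟨⟨y, hyP⟩, fun x => ?_⟩
      simp only [Subgroup.mem_subgroupOf, Subgroup.coe_mul]
      by_cases hxC : (x : G) ∈ C
      · exact Or.inr ⟨hxC, fun h => hy ((mul_mem_cancel_right hxC).1 h).2⟩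
      · refine Or.inl ⟨?_, hxC⟩
        have hh := hidxC _ (inv_mem hyP) x x.2 (fun h => hy (by simpa using A.inv_mem h.2)) hxC
        simpa using hh
    have h3 := Subgroup.card_mul_index (C.subgroupOf P)
    rw [Nat.card_congr (Subgroup.subgroupOfEquivOfLe (inf_le_left : C ≤ P)).toEquiv, hCc, h2] at h3
    omega
  obtain ⟨e⟩ := Cfsg.Agent.S0106.equiv_q8 P hP8 z hz1 hPsq hzz
  let ε : QuaternionGroup 2 → G := fun q => (e.symm q : G)
  have hεm : ∀ x y, ε (x * y) = ε x * ε y := fun x y => by simp [ε]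
  have hεi : Function.Injective ε := Subtype.val_injective.comp e.symm.injective
  have hεp : ∀ (x : QuaternionGroup 2) (k : ℕ), ε (x ^ k) = ε x ^ k := fun x k => by simp [ε]
  have hεe : ∀ d : P, ε (e d) = d := fun d => by simp [ε]
  have hε1 : ε 1 = 1 := by simp [ε]
  have hεP : ∀ x, ε x ∈ P := fun x => (e.symm x).2
  have hfix : ∀ g : G, (∀ x, g * ε x * g⁻¹ = ε x) → g ∈ Subgroup.centralizer (P : Set G) := fun g h =>
    Subgroup.mem_centralizer_iff.2 fun d hd => by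
      have := h (e ⟨d, hd⟩)
      rw [hεe] at this
      exact (mul_inv_eq_iff_eq_mul.1 this).symm
  -- maps of `P` induced by elements
  let φ : G → QuaternionGroup 2 →* QuaternionGroup 2 := fun g =>
    e.toMonoidHom.comp ((P.normalizerMonoidHom ⟨g, hnorm g⟩).toMonoidHom.comp e.symm.toMonoidHom)
  have hφ : ∀ g x, ε (φ g x) = g * ε x * g⁻¹ := fun g x => by
    simp only [φ, ε, MonoidHom.comp_apply, MulEquiv.coe_toMonoidHom, MulEquiv.symm_apply_apply]
    rfl
  have hit : ∀ g (k : ℕ) x, ε ((φ g : QuaternionGroup 2 → QuaternionGroup 2)^[k] x) =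
      g ^ k * ε x * (g ^ k)⁻¹ := by
    intro g k
    induction k with
    | zero => intro x; simp
    | succ k ih => intro x; rw [Function.iterate_succ_apply', hφ, ih, pow_succ']; group
  have hinjφ : ∀ g x, φ g x = 1 → x = 1 := fun g x hx => by
    have h := hφ g x
    rw [hx, hε1] at h
    exact hεi ((conj_eq_one_iff.1 h.symm).trans hε1.symm)
  have hhom : ∀ g x y, Fusion.QuaternionSL23.genMap (φ g (.a 1)) (φ g (.xa 0)) (x * y) =
      Fusion.QuaternionSL23.genMap (φ g (.a 1)) (φ g (.xa 0)) x * Fusion.QuaternionSL23.genMap (φ g (.a 1)) (φ g (.xa 0)) y := by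
    intro g; rw [← Fusion.QuaternionSL23.eq_genMap]; exact map_mul (φ g)
  have hinj : ∀ g x, Fusion.QuaternionSL23.genMap (φ g (.a 1)) (φ g (.xa 0)) x = 1 → x = 1 := by
    intro g; rw [← Fusion.QuaternionSL23.eq_genMap]; exact hinjφ g
  -- odd elements have order dividing three
  have h3 : g₀ ^ 3 = 1 := by
    have h12 : g₀ ^ 12 ∈ Subgroup.centralizer (P : Set G) := hfix _ fun x => by
      rw [← hit, Fusion.QuaternionSL23.eq_genMap (φ g₀)]
      exact congrArg ε (Fusion.QuaternionSL23.aut_twelve _ _ (hhom g₀) (hinj g₀) x)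
    have hodd12 : Odd (orderOf (g₀ ^ 12)) := hg₀.of_dvd_nat (orderOf_pow_dvd 12)
    have h1 := hodd1 _ hodd12 h12
    have h2 := orderOf_dvd_of_pow_eq_one h1
    have hc4 : (orderOf g₀).Coprime (2 ^ 2) := (Nat.coprime_two_right.2 hg₀).pow_right 2
    have h3 : orderOf g₀ ∣ 3 := hc4.dvd_of_dvd_mul_left (by norm_num; exact h2)
    exact orderOf_dvd_iff_pow_eq_one.1 h3
  obtain ⟨⟨A', hA4, hbb', hba', hgb, hAB⟩, -⟩ := Fusion.QuaternionSL23.aut_three _ _ (hhom g₀) (hinj g₀)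
    (by rw [← Fusion.QuaternionSL23.eq_genMap]; exact fun x => hεi (by rw [hit, h3]; group)) (by
      rw [← Fusion.QuaternionSL23.eq_genMap]
      by_contra hcon
      push Not at hcon
      exact hg₀1 (hodd1 g₀ hg₀ (hfix g₀ fun x => by rw [← hφ, hcon])))
  rw [← Fusion.QuaternionSL23.eq_genMap] at hbb' hba' hgb hAB
  set B' := φ g₀ A' with hB'
  set U : Subgroup G := P ⊔ Subgroup.zpowers g₀ with hU
  have hgU : g₀ ∈ U := Subgroup.mem_sup_right (Subgroup.mem_zpowers g₀)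
  have hPU : P ≤ U := le_sup_left
  set ua : U := ⟨ε A', hPU (hεP _)⟩
  set ub : U := ⟨ε B', hPU (hεP _)⟩
  set ug : U := ⟨g₀, hgU⟩
  have hrel : Fusion.QuaternionSL23.Rel ua ub ug := by
    refine ⟨Subtype.ext ?_, Subtype.ext h3, Subtype.ext ?_, Subtype.ext ?_, Subtype.ext ?_, Subtype.ext ?_⟩
    · show ε A' ^ 4 = 1
      rw [← hεp, hA4, hε1]
    · show ε B' ^ 2 = ε A' ^ 2
      rw [← hεp, ← hεp, pow_two, pow_two, hbb']
    · show ε B' * ε A' = (ε A')⁻¹ * ε B'
      rw [← hεm, hba', hεm]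
      simp [ε]
    · show g₀ * ε A' * g₀⁻¹ = ε B'
      rw [← hφ]
    · show g₀ * ε B' * g₀⁻¹ = ε A' * ε B'
      rw [← hφ, hgb, hεm]
  have hsurj : Function.Surjective (fun u : ZMod 4 × ZMod 2 => A' ^ u.1.val * B' ^ u.2.val) := by
    refine ((Fintype.bijective_iff_injective_and_card _).2 ⟨?_, ?_⟩).2
    · rintro ⟨i, j⟩ ⟨k, l⟩ hh
      obtain ⟨h1, h2⟩ := hAB i k j l hh
      rw [h1, h2]
    · simp [QuaternionGroup.card]
  have hgen : Subgroup.closure {ua, ub, ug} = (⊤ : Subgroup U) := by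
    set S := Subgroup.closure ({ua, ub, ug} : Set U)
    have hle : U ≤ S.map U.subtype := by
      refine sup_le (fun d hd => ?_) (Subgroup.zpowers_le.2 ⟨ug, Subgroup.subset_closure (by simp), rfl⟩)
      obtain ⟨⟨i, j⟩, hij⟩ := hsurj (e ⟨d, hd⟩)
      refine ⟨ua ^ i.val * ub ^ j.val, mul_mem (pow_mem (Subgroup.subset_closure (by simp)) _)
        (pow_mem (Subgroup.subset_closure (by simp)) _), ?_⟩
      show ε A' ^ i.val * ε B' ^ j.val = d
      rw [← hεp, ← hεp, ← hεm]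
      exact (congrArg ε hij).trans (hεe ⟨d, hd⟩)
    rw [eq_top_iff]
    intro m _
    obtain ⟨m', hm', he⟩ := hle m.2
    obtain rfl : m' = m := Subtype.ext he
    exact hm'
  have hsw := Fusion.QuaternionSL23.word_surjective ua ub ug hrel hgen
  have hU24 : 24 ≤ Nat.card U := by
    have d8 : 8 ∣ Nat.card U := hP8 ▸ Subgroup.card_dvd_of_le hPU
    have d3 : 3 ∣ Nat.card U := by
      haveI : Fact (Nat.Prime 3) := ⟨Nat.prime_three⟩
      have h := Subgroup.card_dvd_of_le (le_sup_right : Subgroup.zpowers g₀ ≤ U)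
      rwa [Nat.card_zpowers, orderOf_eq_prime h3 hg₀1] at h
    exact Nat.le_of_dvd Nat.card_pos (Nat.Coprime.mul_dvd_of_dvd_of_dvd (by norm_num : Nat.Coprime 8 3) d8 d3)
  have hbij : Function.Bijective (Fusion.QuaternionSL23.word ua ub ug) := by
    refine (Nat.bijective_iff_surjective_and_card _).2 ⟨hsw, ?_⟩
    have h := Nat.card_le_card_of_surjective _ hsw
    have h24 : Nat.card (ZMod 4 × ZMod 2 × ZMod 3) = 24 := by simp
    omega
  obtain ⟨iso⟩ := Fusion.QuaternionSL23.nonempty_mulEquiv hrel hgen hbij.1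
  refine ⟨U, ?_, ⟨iso⟩⟩
  have hUc : Nat.card U = 24 := by
    rw [← Nat.card_congr (Equiv.ofBijective _ hbij)]; simp
  -- the group has order at most 48
  have h48 : Nat.card G ≤ 48 := by
    let pr : G → {p : QuaternionGroup 2 × QuaternionGroup 2 // p.1 * p.2 ≠ p.2 * p.1} := fun g =>
      ⟨(φ g (.a 1), φ g (.xa 0)), by
        show φ g (.a 1) * φ g (.xa 0) ≠ φ g (.xa 0) * φ g (.a 1)
        rw [← map_mul, ← map_mul]
        intro h
        have h0 : φ g ((QuaternionGroup.a 1 * QuaternionGroup.xa 0) * (QuaternionGroup.xa 0 * QuaternionGroup.a 1)⁻¹) = 1 := by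
          rw [map_mul, h, map_inv, mul_inv_cancel]
        have := mul_inv_eq_one.1 (hinjφ g _ h0)
        revert this
        decide⟩
    have hfib : ∀ g g', pr g = pr g' → g⁻¹ * g' = 1 ∨ g⁻¹ * g' = z := by
      intro g g' h
      have h1 : φ g = φ g' := DFunLike.coe_injective (by
        rw [Fusion.QuaternionSL23.eq_genMap, Fusion.QuaternionSL23.eq_genMap (φ g')]
        have h' := congrArg Subtype.val h
        simp only [pr, Prod.mk.injEq] at h'
        rw [h'.1, h'.2])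
      have hcen : g⁻¹ * g' ∈ Subgroup.centralizer (P : Set G) := hfix _ fun x => by
        have h2 := hφ g' x
        rw [← h1, hφ] at h2
        calc g⁻¹ * g' * ε x * (g⁻¹ * g')⁻¹ = g⁻¹ * (g' * ε x * g'⁻¹) * g := by group
          _ = ε x := by rw [← h2]; group
      have hmem := hCP hcen
      have hw : ∀ x, e ⟨_, hmem⟩ * x = x * e ⟨_, hmem⟩ := fun x => hεi (by
        rw [hεm, hεm, hεe]
        exact (Subgroup.mem_centralizer_iff.1 hcen (ε x) (hεP x)).symm)
      have hq : ∀ w : QuaternionGroup 2, (∀ x, w * x = x * w) → w * w = 1 := by decide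
      rcases hPsq _ hmem with h3 | h3 | h3
      · exact Or.inl h3
      · exact Or.inr h3
      · exfalso
        apply hz1
        have h4 := congrArg ε (hq _ hw)
        rw [hεm, hεe, hε1] at h4
        exact h3.symm.trans h4
    haveI : Fintype G := Fintype.ofFinite G
    rw [Nat.card_eq_fintype_card, ← Finset.card_univ]
    have h24 : Fintype.card {p : QuaternionGroup 2 × QuaternionGroup 2 // p.1 * p.2 ≠ p.2 * p.1} = 24 := by decide
    have := Finset.card_le_mul_card_image (f := pr) (Finset.univ : Finset G) 2 fun v hv => by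
      obtain ⟨g, -, rfl⟩ := Finset.mem_image.1 hv
      refine (Finset.card_le_card (t := {g, g * z}) fun g' hg' => ?_).trans Finset.card_le_two
      rcases hfib g g' (Finset.mem_filter.1 hg').2.symm with h | h
      · rw [inv_mul_eq_one] at h; simp [h]
      · rw [inv_mul_eq_iff_eq_mul] at h; simp [h]
    exact this.trans ((Nat.mul_le_mul_left 2 ((Finset.card_le_univ _).trans h24.le)).trans (by norm_num))
  have hidx : U.index = 1 ∨ U.index = 2 := by
    have h := U.card_mul_index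
    rw [hUc] at h
    have h0 : U.index ≠ 0 := Subgroup.index_ne_zero_of_finite
    omega
  rcases hidx with h | h
  · rw [Subgroup.index_eq_one.1 h]; infer_instance
  · exact Subgroup.normal_of_index_eq_two h

end Cfsg.Agent.S2879
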