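import Cfsg.Statements.S4637
import Cfsg.Agent.Lib.BrouePuig.FreeAbelian

set_option autoImplicit false
open Cfsg

namespace Cfsg.Agent.S4637

open CfsgLib.BrouePuig CfsgLib.Blocks CfsgLib.BrauerPairs

/-- Let B be a block of the finite group G relative to a maximal ideal M of the algebraic integers containing 2, with a Klein four defect group P. Let c be a block of C_G(P) inducing B, T the stabilizer of c in N_G(P) and e the index of C_G(P) in T (the inertial index). Then e is 1 or 3, B contains exactly four irreducible characters, and the 2-regular rank of B (its number of irreducible Brauer characters) equals e. -/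
theorem result {G : Type*} [Group G] [Finite G] (M : Ideal Cfsg.AlgInt) (hM : Cfsg.IsPModular 2 M) (B : Set (Cfsg.IrrCharacter G)) (hB : Cfsg.IsPBlock M B) (P : Subgroup G) (hPD : Cfsg.IsDefectGroup 2 M B P) (hV : IsKleinFour P) (c : Set (Cfsg.IrrCharacter (Subgroup.centralizer (P : Set G)))) (hc : Cfsg.IsInducedBlock M (Subgroup.centralizer (P : Set G)) c B) (T : Subgroup G) (hT : ∀ g : G, g ∈ T ↔ (g ∈ Subgroup.normalizer (P : Set G) ∧ Cfsg.StabilizesBlock (Subgroup.centralizer (P : Set G)) c g)) (e : ℕ) (he : (Subgroup.centralizer (P : Set G)).relIndex T = e) : (e = 1 ∨ e = 3) ∧ Nat.card B = 4 ∧ Cfsg.blockRank 2 B = e := by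
  classical
  haveI := Fintype.ofFinite G
  haveI : Fact (Nat.Prime 2) := ⟨Nat.prime_two⟩
  have hmax := maximal_of_induced hM hPD (isPGroup_defectGroup hPD) hc
  obtain rfl := stab_eq_pairStab hT
  have hcard : Nat.card P = 4 := hV.card_four
  have hsq : ∀ x : P, x * x = 1 := fun x => IsKleinFour.mul_self x
  have hab : ∀ x ∈ P, ∀ y ∈ P, x * y = y * x := fun x hx y hy => by
    have h : (⟨x, hx⟩ : P) * ⟨y, hy⟩ = ⟨y, hy⟩ * ⟨x, hx⟩ := mul_comm_of_exponent_two hV.exponent_two _ _
    exact congrArg Subtype.val h
  subst he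
  have hodd : ¬ 2 ∣ (Subgroup.centralizer (P : Set G)).relIndex (pairStab P c) :=
    not_dvd_relIndex hM hmax hab
  have haut : (Subgroup.centralizer (P : Set G)).relIndex (pairStab P c)
      = Nat.card (Cfsg.autInducedBy (pairStab P c) P) :=
    index_eq_card_aut (pairStab_le_normalizer c)
  have h6 : Nat.card (MulAut P) ∣ 6 := by
    let f : MulAut P →* Equiv.Perm {x : P // x ≠ 1} :=
      { toFun := fun α => α.toEquiv.subtypeEquiv fun x => by simp
        map_one' := Equiv.ext fun x => rfl
        map_mul' := fun α β => Equiv.ext fun x => rfl }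
    have hf : Function.Injective f := fun α β h => MulEquiv.ext fun x => by
      by_cases hx : x = 1
      · rw [hx, map_one, map_one]
      · exact congrArg (fun σ : Equiv.Perm {x : P // x ≠ 1} => ((σ ⟨x, hx⟩ : {x : P // x ≠ 1}) : P)) h
    refine (Subgroup.card_dvd_of_injective f hf).trans ?_
    rw [Nat.card_perm]
    have h3 : Nat.card {x : P // x ≠ 1} = 3 := by
      rw [Nat.card_eq_fintype_card, Fintype.card_subtype_compl, Fintype.card_subtype_eq,
        ← Nat.card_eq_fintype_card, hcard]
    rw [h3]
    rfl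
  have he13 : (Subgroup.centralizer (P : Set G)).relIndex (pairStab P c) = 1
      ∨ (Subgroup.centralizer (P : Set G)).relIndex (pairStab P c) = 3 := by
    have h1 := (haut ▸ (Subgroup.card_subgroup_dvd_card (Cfsg.autInducedBy (pairStab P c) P)).trans h6)
    generalize (Subgroup.centralizer (P : Set G)).relIndex (pairStab P c) = n at h1 hodd ⊢
    have : n ≤ 6 := Nat.le_of_dvd (by norm_num) h1
    interval_cases n <;> simp_all
  have hfree : FreeAct P c := by
    intro g hg x hx hx1 hfix
    have hgN : g ∈ Subgroup.normalizer (P : Set G) := pairStab_le_normalizer c hg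
    set α : MulAut P := Subgroup.normalizerMonoidHom P ⟨g, hgN⟩ with hα
    have hαmem : α ∈ Cfsg.autInducedBy (pairStab P c) P :=
      Subgroup.subset_closure ⟨g, hg, fun y => rfl⟩
    have hα1 : α = 1 := by
      have hord : α ^ (Subgroup.centralizer (P : Set G)).relIndex (pairStab P c) = 1 := by
        rw [haut]
        exact congrArg Subtype.val
          (pow_card_eq_one' (x := (⟨α, hαmem⟩ : Cfsg.autInducedBy (pairStab P c) P)))
      have hαx : α ⟨x, hx⟩ = ⟨x, hx⟩ := Subtype.ext hfix
      have hx1' : (⟨x, hx⟩ : P) ≠ 1 := fun h => hx1 (congrArg Subtype.val h)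
      have h2 : α ^ 2 = 1 := MulEquiv.ext fun y => by
        show α (α y) = y
        by_cases hy1 : y = 1
        · rw [hy1, map_one, map_one]
        by_cases hyx : y = ⟨x, hx⟩
        · rw [hyx, hαx, hαx]
        have huniv := IsKleinFour.eq_finset_univ hx1' hy1 (Ne.symm hyx)
        have hmem : α y ∈ ({⟨x, hx⟩ * y, ⟨x, hx⟩, y, 1} : Finset P) := by
          rw [huniv]; exact Finset.mem_univ _
        simp only [Finset.mem_insert, Finset.mem_singleton] at hmem
        rcases hmem with h | h | h | h
        · rw [h, map_mul, hαx, h, ← mul_assoc, hsq, one_mul]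
        · exact absurd (α.injective (h.trans hαx.symm)) hyx
        · rw [h, h]
        · exact absurd (α.injective (h.trans (map_one α).symm)) hy1
      rcases he13 with h | h
      · rwa [h, pow_one] at hord
      · rwa [h, pow_succ, h2, one_mul] at hord
    refine mem_centralizer_iff_conj.2 fun y hy => ?_
    exact congrArg Subtype.val (DFunLike.congr_fun hα1 (⟨y, hy⟩ : P))
  obtain ⟨w, hw⟩ : ∃ w : P, w ≠ 1 := by
    by_contra h
    push Not at h
    haveI : Subsingleton P := ⟨fun a b => (h a).trans (h b).symm⟩
    rw [Nat.card_of_subsingleton (1 : P)] at hcard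
    omega
  obtain ⟨δ, hne, hsum, hint⟩ := exists_delta hM hmax hab hfree hw
  choose m hm using hint (by rw [pow_two]; exact congrArg Subtype.val (hsq w))
  have hk := card_block_free hM hmax hab hfree
  have hl : 0 < Cfsg.blockRank 2 B := by
    obtain ⟨χ, hχ⟩ := IsPBlock.nonempty hM hB
    rw [Cfsg.blockRank, Module.finrank_pos_iff, Submodule.nontrivial_iff_ne_bot, Ne,
      Submodule.span_eq_bot]
    intro h
    have h1 := congrFun (h _ ⟨χ, hχ, rfl⟩) 1
    simp only at h1
    rw [pRegularPart_apply, if_pos (show Cfsg.IsPRegular 2 (1 : G) by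
      rw [Cfsg.IsPRegular, orderOf_one]; norm_num)] at h1
    exact irr_one_ne_zero χ h1
  have hm4 : ∑ χ ∈ B.toFinset, m χ * m χ = 4 := by
    have h : ((∑ χ ∈ B.toFinset, m χ * m χ : ℤ) : ℂ) = ((4 : ℤ) : ℂ) := by
      rw [hcard] at hsum
      push_cast
      rw [← Nat.cast_ofNat, ← hsum]
      exact Finset.sum_congr rfl fun χ _ => by rw [hm, map_intCast]
    exact_mod_cast h
  have hm1 : ∀ χ ∈ B.toFinset, 1 ≤ m χ * m χ := fun χ hχ => by
    have h : m χ ≠ 0 := fun h => hne χ (Set.mem_toFinset.1 hχ) (by rw [hm, h, Int.cast_zero])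
    exact Int.add_one_le_iff.2 (mul_self_pos.2 h)
  have hkB : Nat.card B = B.toFinset.card := by rw [Nat.card_eq_fintype_card, Set.toFinset_card]
  have hk4 : (B.toFinset.card : ℤ) ≤ 4 := by
    rw [← hm4]
    exact le_trans (le_of_eq (by simp)) (Finset.sum_le_sum hm1)
  have h4 : Nat.card B = 4 := by
    rcases he13 with h | h <;> rw [h, hcard] at hk
    · omega
    · by_contra hne4
      have hlt : B.toFinset.card < 4 := by omega
      -- some value exceeds one in absolute value
      obtain ⟨χ, hχ, hbig⟩ : ∃ χ ∈ B.toFinset, 1 < m χ * m χ := by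
        by_contra hcon
        push Not at hcon
        have : ∑ χ ∈ B.toFinset, m χ * m χ = (B.toFinset.card : ℤ) := by
          rw [Finset.sum_congr rfl fun χ hχ => le_antisymm (hcon χ hχ) (hm1 χ hχ)]
          simp
        omega
      have h4le : 4 ≤ m χ * m χ := by
        have h2 : m χ ≤ -2 ∨ 2 ≤ m χ := by
          by_contra hcon
          push Not at hcon
          obtain ⟨ha, hb⟩ := hcon
          interval_cases (m χ) <;> simp at hbig
        rcases h2 with h2 | h2 <;> nlinarith
      have hrest : ((B.toFinset.erase χ).card : ℤ) ≤ 0 := by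
        have h5 := Finset.add_sum_erase _ (fun χ => m χ * m χ) hχ
        have h6 : ((B.toFinset.erase χ).card : ℤ) ≤ ∑ ψ ∈ B.toFinset.erase χ, m ψ * m ψ :=
          le_trans (le_of_eq (by simp))
            (Finset.sum_le_sum fun ψ hψ => hm1 ψ (Finset.mem_of_mem_erase hψ))
        -- (beta-reduced already)
        omega
      rw [Finset.card_erase_of_mem hχ] at hrest
      omega
  refine ⟨he13, h4, ?_⟩
  rcases he13 with h | h <;> rw [h] at hk ⊢ <;> omega

end Cfsg.Agent.S4637
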