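import Cfsg.Agent.Lib.FusionSystem.Group
-- Template for statement S5102 (row 5102; see /opt/grader/pristine/manifest.json for weights).
-- Copy to Cfsg/Agent/S5102.lean and replace the sorry. The statement below is byte-identical to the frozen
-- statement Cfsg.CfsgFrozen.S5102 (Cfsg/Statements/S5102.lean; the theorem Cfsg.fus_group_normal_p_subgroup_normal_in_fusion);
-- the grader kernel-checks Cfsg.Agent.S5102.result against that frozen type. Keep the theorem IN THIS FILE
-- (a `result` declared elsewhere and merely imported here is not credited); helpers may live anywhere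
-- under Cfsg/Agent/.
import Cfsg.Statements.S5102
-- import your own Cfsg.Agent.* helpers here

set_option autoImplicit false
open Cfsg

namespace Cfsg.Agent.S5102

/-- A normal p-subgroup of a finite group G is normal in the fusion system of G on a Sylow p-subgroup. -/
theorem result {G : Type*} [Group G] [Finite G] (p : ℕ) [Fact p.Prime] (S : Sylow p G) (R : Subgroup G) [R.Normal] (hR : IsPGroup p R) : (Cfsg.groupFusionSystem (S : Subgroup G)).IsNormal R := by
  open CfsgLib.Fsys in
  have hRS : R ≤ (S : Subgroup G) := hR.le_sylow_of_normal S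
  refine ⟨hRS, fun P φ hφ => ?_⟩
  obtain ⟨hP, hφS, g, hg⟩ := hφ
  have hle : P ⊔ R ≤ (S : Subgroup G) := sup_le hP hRS
  have hmap : ∀ x ∈ P ⊔ R, g * x * g⁻¹ ∈ (S : Subgroup G) := by
    intro x hx
    have : (P ⊔ R).map (MulAut.conj g).toMonoidHom ≤ (S : Subgroup G) := by
      rw [Subgroup.map_sup]
      refine sup_le ?_ ?_
      · rintro _ ⟨y, hy, rfl⟩
        have h := hφS ⟨y, hy⟩
        rw [hg] at h
        exact h
      · rintro _ ⟨y, hy, rfl⟩
        exact hRS (Subgroup.Normal.conj_mem inferInstance y hy g)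
    exact this ⟨x, hx, rfl⟩
  refine ⟨Cfsg.conjHom (P ⊔ R) g, ⟨hle, fun x => hmap x x.2, g, fun x => rfl⟩,
    fun x => (hg x).symm, ?_⟩
  ext y
  constructor
  · rintro ⟨x, hx, rfl⟩
    exact Subgroup.Normal.conj_mem (H := R) inferInstance _ hx g
  · intro hy
    have h := Subgroup.Normal.conj_mem inferInstance y hy g⁻¹
    refine ⟨⟨g⁻¹ * y * g⁻¹⁻¹, Subgroup.mem_sup_right h⟩, h, ?_⟩
    show g * (g⁻¹ * y * g⁻¹⁻¹) * g⁻¹ = y
    group

end Cfsg.Agent.S5102
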