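import Cfsg.Statements.S1972
import Cfsg.Agent.Lib.KGroups.Functor.Degree
import Cfsg.Agent.Lib.KGroups.Functor.Sections
-- import your own Cfsg.Agent.* helpers here

set_option autoImplicit false
universe u
open Cfsg CfsgLib.KGroups.Functor

namespace Cfsg.Agent.S1972

/-- Let p be a prime, G a finite group and W an isomorphism-invariant p-group functor (W assigns to every group Q a subgroup W(Q), nontrivial whenever Q is a nontrivial finite p-group, and every isomorphism from a finite p-group Q onto a group R carries W(Q) onto W(R)). Suppose that whenever G* = K/R is a section of G with C_{G*}(O_p(G*)) ≤ O_p(G*) and S* is a Sylow p-subgroup of G* with W(S*) not normal in G*, there is an element g of S* outside O_p(G*) such that [X, g, …, g] ≤ Y with p − 1 entries g, for every chief factor X/Y of G* with X ≤ O_p(G*). Then W controls transfer in every section of G. -/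
theorem result {G : Type u} [Group G] [Finite G] {p : ℕ} [Fact p.Prime] (W : ∀ (Q : Type u) [Group Q], Subgroup Q) (hW : Cfsg.IsCharPFunctor.{u} p W) (hloc : ∀ (K R : Subgroup G) [hR : (R.subgroupOf K).Normal], Subgroup.centralizer ((Cfsg.pCore p (↥K ⧸ R.subgroupOf K) : Subgroup (↥K ⧸ R.subgroupOf K)) : Set (↥K ⧸ R.subgroupOf K)) ≤ Cfsg.pCore p (↥K ⧸ R.subgroupOf K) → ∀ T : Sylow p (↥K ⧸ R.subgroupOf K), ¬ (Cfsg.inducedFunctor (G := (↥K ⧸ R.subgroupOf K)) W ((T : Subgroup (↥K ⧸ R.subgroupOf K)))).Normal → ∃ g : (↥K ⧸ R.subgroupOf K), g ∈ (T : Subgroup (↥K ⧸ R.subgroupOf K)) ∧ g ∉ Cfsg.pCore p (↥K ⧸ R.subgroupOf K) ∧ ∀ U V : Subgroup (↥K ⧸ R.subgroupOf K), Cfsg.IsChiefFactor U V → U ≤ Cfsg.pCore p (↥K ⧸ R.subgroupOf K) → Cfsg.iterCommutator U (Subgroup.zpowers g) (p - 1) ≤ V) : ∀ (K R : Subgroup G) [hR : (R.subgroupOf K).Normal], Cfsg.ControlsTransferIn p (Cfsg.inducedFunctor (G := (↥K ⧸ R.subgroupOf K)) W) ⊤ := by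
  intro K R hR
  have hfun : ∀ V ∈ ({W} : Set (∀ (Q : Type u) [Group Q], Subgroup Q)), Cfsg.IsCharPFunctor.{u} p V :=
    fun V hV => Set.mem_singleton_iff.mp hV ▸ hW
  have h := familyTransfer_ind (G := G) hfun (fun X _ _ hX hc hsub hquo => by
    by_contra hbad
    obtain ⟨S⟩ : Nonempty (Sylow p X) := inferInstance
    obtain ⟨K', R', hR', ⟨e⟩⟩ := hX.exists_equiv
    have := hR'
    have hc' := centralizer_pCore_of_equiv e p hc
    let S' : Sylow p (↥K' ⧸ R'.subgroupOf K') := S.mapSurjective (f := e.symm.toMonoidHom) e.symm.surjective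
    have hcoe : (S' : Subgroup (↥K' ⧸ R'.subgroupOf K')) = (S : Subgroup X).map e.symm.toMonoidHom := rfl
    have hS : ((S : Subgroup X).map e.symm.toMonoidHom).map e.toMonoidHom = (S : Subgroup X) := by
      rw [Subgroup.map_map]
      convert Subgroup.map_id _ using 2
      ext x; simp
    by_cases hn : (Cfsg.inducedFunctor W (S' : Subgroup (↥K' ⧸ R'.subgroupOf K'))).Normal
    · have hn' := hn.map e.toMonoidHom e.surjective
      rw [← inducedFunctor_map hW e.toMonoidHom S'.2 e.injective.injOn, hcoe, hS] at hn'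
      exact hbad (familyTransfer_of_le S (by
        refine le_iSup₂_of_le (Cfsg.inducedFunctor W) ⟨W, rfl, rfl⟩ (le_of_eq ?_)
        rw [Subgroup.normalizer_eq_top_iff.mpr hn', top_inf_eq]))
    obtain ⟨g, hgS, hgQ, hdeg⟩ := @hloc K' R' hR' hc' S' hn
    obtain ⟨-, -, h3⟩ := degree_of_minimal S hfun ⟨W, rfl⟩ hsub hquo hc hbad
    obtain ⟨U, V, hUV, hUQ, hnot⟩ := h3 (e g) (hS ▸ hcoe ▸ Subgroup.mem_map_of_mem e.toMonoidHom hgS) (by
      intro hmem
      rw [← CfsgLib.Solvable.Cores.map_pCore e p] at hmem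
      obtain ⟨y, hy, hye⟩ := hmem
      exact hgQ (e.injective hye ▸ hy))
    apply hnot
    have h1 := hdeg _ _ (isChiefFactor_map e.symm hUV) (by
      rw [← CfsgLib.Solvable.Cores.map_pCore e.symm p]; exact Subgroup.map_mono hUQ)
    have h2 := Subgroup.map_mono (f := e.toMonoidHom) h1
    have he : ∀ A : Subgroup X, (A.map e.symm.toMonoidHom).map e.toMonoidHom = A := fun A => by
      rw [Subgroup.map_map]
      convert Subgroup.map_id _ using 2
      ext x; simp
    rwa [iterCommutator_map, he, he] at h2) (↥K ⧸ R.subgroupOf K) (sec_mk K R)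
  obtain ⟨T, h1, h2, h3, h4⟩ := h
  exact ⟨T, h1, h2, h3, by simpa [ind] using h4⟩

end Cfsg.Agent.S1972
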