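import Cfsg.Statements.S0188
import Cfsg.Agent.Lib.Char.Induced
-- import your own Cfsg.Agent.* helpers here

set_option autoImplicit false
open Cfsg

namespace Cfsg.Agent.S0188

open scoped ComplexConjugate

theorem isIrr_mul {G : Type*} [Group G] [Finite G] {H : Type*} [Group H] [Finite H] {φ : G → ℂ}
    {ψ : H → ℂ} (hφ : Cfsg.IsIrrCharacter G φ) (hψ : Cfsg.IsIrrCharacter H ψ) :
    Cfsg.IsIrrCharacter (G × H) fun x => φ x.1 * ψ x.2 := by
  cases nonempty_fintype G
  cases nonempty_fintype H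
  refine CfsgLib.Char.IsCharacter.isIrrCharacter_of_norm_one (CfsgLib.Char.IsCharacter.mul
    (CfsgLib.Char.IsCharacter.comp (CfsgLib.Char.IsIrrCharacter.isCharacter hφ) (MonoidHom.fst G H))
    (CfsgLib.Char.IsCharacter.comp (CfsgLib.Char.IsIrrCharacter.isCharacter hψ) (MonoidHom.snd G H))) ?_
  have h1 := CfsgLib.Char.classInner_irr_self hφ
  have h2 := CfsgLib.Char.classInner_irr_self hψ
  simp only [Cfsg.classInner] at h1 h2
  rw [← mul_one (1 : ℂ)]
  nth_rewrite 1 [← h1]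
  nth_rewrite 1 [← h2]
  simp only [Cfsg.classInner, Nat.card_prod, Nat.cast_mul, mul_inv, Pi.mul_apply,
    Function.comp_apply, MonoidHom.coe_fst, MonoidHom.coe_snd, map_mul, Fintype.sum_prod_type]
  rw [mul_mul_mul_comm, Finset.sum_mul_sum]
  congr 1
  exact Finset.sum_congr rfl fun a _ => Finset.sum_congr rfl fun b _ => by ring

theorem irr_prod {G : Type*} [Group G] [Finite G] {H : Type*} [Group H] [Finite H]
    (θ : G × H → ℂ) : Cfsg.IsIrrCharacter (G × H) θ ↔ ∃ (φ : G → ℂ) (ψ : H → ℂ),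
      Cfsg.IsIrrCharacter G φ ∧ Cfsg.IsIrrCharacter H ψ ∧ θ = fun x => φ x.1 * ψ x.2 := by
  classical
  cases nonempty_fintype G
  cases nonempty_fintype H
  refine ⟨fun hθ => ?_, fun ⟨φ, ψ, hφ, hψ, h⟩ => h ▸ isIrr_mul hφ hψ⟩
  let F : Cfsg.IrrCharacter G × Cfsg.IrrCharacter H → Cfsg.IrrCharacter (G × H) :=
    fun p => ⟨_, isIrr_mul p.1.2 p.2.2⟩
  have hinj : Function.Injective F := by
    rintro ⟨a, b⟩ ⟨a', b'⟩ h
    have h' : ∀ x y, (a : G → ℂ) x * (b : H → ℂ) y = (a' : G → ℂ) x * (b' : H → ℂ) y :=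
      fun x y => congrFun (congrArg Subtype.val h) (x, y)
    obtain ⟨m, hm, hbm⟩ := CfsgLib.Char.IsIrrCharacter.apply_one_eq b.2
    obtain ⟨m', hm', hbm'⟩ := CfsgLib.Char.IsIrrCharacter.apply_one_eq b'.2
    have ha : (m : ℂ) • (a : G → ℂ) = (m' : ℂ) • (a' : G → ℂ) := funext fun x => by
      have := h' x 1
      rw [hbm, hbm'] at this
      simp only [Pi.smul_apply, smul_eq_mul]
      linear_combination this
    have haa : a = a' := by
      by_contra hne
      have := congrArg (fun f => Cfsg.classInner f (a : G → ℂ)) ha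
      simp only [CfsgLib.Char.classInner_smul_left, CfsgLib.Char.classInner_irr_self a.2,
        CfsgLib.Char.classInner_irr_ne a'.2 a.2 (fun hh => hne (Subtype.ext hh.symm)), mul_one,
        mul_zero, Nat.cast_eq_zero] at this
      omega
    subst haa
    refine Prod.ext rfl (Subtype.ext (funext fun y => mul_left_cancel₀
      (CfsgLib.Char.IsIrrCharacter.apply_one_ne_zero a.2) (h' 1 y)))
  have hsurj : (⟨θ, hθ⟩ : Cfsg.IrrCharacter (G × H)) ∈ Finset.univ.image F := by
    by_contra hmem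
    have hG := CfsgLib.Char.sum_sq_apply_one (G := G × H)
    rw [← Finset.sum_add_sum_compl (Finset.univ.image F),
      Finset.sum_image (fun a _ b _ hab => hinj hab), Fintype.sum_prod_type] at hG
    simp only [F, Prod.fst_one, Prod.snd_one, mul_pow, ← Finset.mul_sum,
      CfsgLib.Char.sum_sq_apply_one, ← Finset.sum_mul, Nat.card_prod, Nat.cast_mul,
      add_eq_left] at hG
    choose d hd hd' using fun χ : Cfsg.IrrCharacter (G × H) =>
      CfsgLib.Char.IsIrrCharacter.apply_one_eq χ.2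
    simp only [hd'] at hG
    have hG' : ∑ x ∈ (Finset.univ.image F)ᶜ, d x ^ 2 = 0 := by exact_mod_cast hG
    have := Finset.sum_eq_zero_iff.mp hG' ⟨θ, hθ⟩ (Finset.mem_compl.mpr hmem)
    exact (hd ⟨θ, hθ⟩).ne' (sq_eq_zero_iff.mp this)
  obtain ⟨p, -, hp⟩ := Finset.mem_image.mp hsurj
  exact ⟨p.1, p.2, p.1.2, p.2.2, (congrArg Subtype.val hp).symm⟩

/-- The irreducible complex characters of G × H are precisely the functions (g, h) ↦ φ g * ψ h with φ, ψ irreducible characters of G and H. -/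
theorem result {G : Type*} [Group G] [Finite G] {H : Type*} [Group H] [Finite H] (θ : G × H → ℂ) : Cfsg.IsIrrCharacter (G × H) θ ↔ ∃ (φ : G → ℂ) (ψ : H → ℂ), Cfsg.IsIrrCharacter G φ ∧ Cfsg.IsIrrCharacter H ψ ∧ θ = fun x => φ x.1 * ψ x.2 := by
  exact irr_prod θ


end Cfsg.Agent.S0188
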