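import Cfsg.Statements.S0007
import Cfsg.Agent.Lib.Solvable.Basic
-- import your own Cfsg.Agent.* helpers here

set_option autoImplicit false
open Cfsg

namespace Cfsg.Agent.S0007

/-- Subgroups of coprime index: the intersection has index equal to the product of the indices, and every element is a product of an element of the first subgroup and an element of the second. -/
theorem result {G : Type*} [Group G] [Finite G] (H K : Subgroup G)
    (h : H.index.Coprime K.index) :
    (H ⊓ K).index = H.index * K.index ∧ ∀ g : G, ∃ x ∈ H, ∃ y ∈ K, g = x * y := by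
  classical
  have hd : H.index * K.index ∣ (H ⊓ K).index :=
    h.mul_dvd_of_dvd_of_dvd (Subgroup.index_dvd_of_le inf_le_left)
      (Subgroup.index_dvd_of_le inf_le_right)
  have hidx : (H ⊓ K).index = H.index * K.index :=
    le_antisymm Subgroup.index_inf_le
      (Nat.le_of_dvd (Nat.pos_of_ne_zero Subgroup.index_ne_zero_of_finite) hd)
  refine ⟨hidx, fun g => ?_⟩
  have hrel : (H ⊓ K).relIndex K = H.index := by
    have h1 := Subgroup.relIndex_mul_index (inf_le_right : H ⊓ K ≤ K)
    rw [hidx] at h1
    exact Nat.eq_of_mul_eq_mul_right (Nat.pos_of_ne_zero Subgroup.index_ne_zero_of_finite) h1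
  rw [Subgroup.inf_relIndex_right] at hrel
  let f : K ⧸ H.subgroupOf K → G ⧸ H :=
    Quotient.map' Subtype.val fun a b hab => by
      rw [QuotientGroup.leftRel_apply] at hab ⊢
      exact hab
  have hf : Function.Injective f := by
    intro a b hab
    induction a using QuotientGroup.induction_on with | _ a => ?_
    induction b using QuotientGroup.induction_on with | _ b => ?_
    rw [QuotientGroup.eq, Subgroup.mem_subgroupOf]
    simpa using QuotientGroup.eq.mp hab
  have hbij := hf.bijective_of_nat_card_le
    (by rw [← Subgroup.index_eq_card, ← Subgroup.index_eq_card]; exact hrel.ge)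
  obtain ⟨q, hq⟩ := hbij.2 (QuotientGroup.mk g⁻¹)
  induction q using QuotientGroup.induction_on with | _ y => ?_
  have hy : (y : G)⁻¹ * g⁻¹ ∈ H := QuotientGroup.eq.mp hq
  exact ⟨_, inv_mem hy, (y : G)⁻¹, inv_mem y.2, by group⟩

end Cfsg.Agent.S0007
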