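import Cfsg.Statements.S0161
import Cfsg.Agent.Lib.Char.Perm
import Cfsg.Agent.Lib.Char.Linear
-- import your own Cfsg.Agent.* helpers here

set_option autoImplicit false
open Cfsg

namespace Cfsg.Agent.S0161

theorem eq_one_of_isConj_inv {G : Type*} [Group G] [Finite G] (hodd : Odd (Nat.card G)) {g : G}
    (h : IsConj g g⁻¹) : g = 1 := by
  obtain ⟨c, hc⟩ := isConj_iff.mp h
  have h2 : Commute g (c ^ 2) := by
    have : c * g⁻¹ * c⁻¹ = g := by rw [← inv_inj]; simpa [mul_assoc] using hc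
    rw [← hc] at this
    refine (?_ : Commute (c ^ 2) g).symm
    calc c ^ 2 * g = c * (c * g * c⁻¹) * c⁻¹ * c ^ 2 := by rw [pow_two]; group
      _ = g * c ^ 2 := by rw [this]
  obtain ⟨m, hm⟩ := hodd
  have hcc : c = (c ^ 2) ^ (m + 1) := by
    rw [← pow_mul, show 2 * (m + 1) = Nat.card G + 1 by omega, pow_succ, pow_card_eq_one',
      one_mul]
  have h3 : c * g = g * c := by rw [hcc]; exact ((h2.pow_right (m + 1)).symm).eq
  have h4 : g ^ 2 = 1 := by
    rw [h3, mul_inv_cancel_right] at hc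
    rw [pow_two]
    nth_rewrite 2 [hc]
    exact mul_inv_cancel g
  have h5 : orderOf g ∣ Nat.gcd 2 (Nat.card G) :=
    Nat.dvd_gcd (orderOf_dvd_of_pow_eq_one h4) (orderOf_dvd_natCard g)
  rw [hm, show Nat.gcd 2 (2 * m + 1) = 1 by simp [Nat.gcd_comm 2]] at h5
  exact orderOf_eq_one_iff.mp (Nat.dvd_one.mp h5)

theorem real_unique {G : Type*} [Group G] [Finite G] (hodd : Odd (Nat.card G))
    (χ : Cfsg.IrrCharacter G) (hreal : ∀ g : G, ((χ : G → ℂ) g).im = 0) :
    χ = ⟨_, CfsgLib.Char.isIrrCharacter_one⟩ := by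
  cases nonempty_fintype G
  have h1 : Nat.card {χ : Cfsg.IrrCharacter G // ∀ g : G, ((χ : G → ℂ) g).im = 0} = 1 := by
    rw [CfsgLib.Char.card_real_irr, Nat.card_eq_one_iff_unique]
    refine ⟨⟨fun a b => ?_⟩, ⟨⟨ConjClasses.mk 1, fun g hg => ?_⟩⟩⟩
    · obtain ⟨A, hA⟩ := a
      obtain ⟨B, hB⟩ := b
      obtain ⟨x, rfl⟩ := ConjClasses.exists_rep A
      obtain ⟨y, rfl⟩ := ConjClasses.exists_rep B
      have hx := eq_one_of_isConj_inv hodd (hA x rfl)
      have hy := eq_one_of_isConj_inv hodd (hB y rfl)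
      subst hx hy
      rfl
    · rw [ConjClasses.mk_eq_mk_iff_isConj, isConj_one_left] at hg
      simp [hg]
  have hs := (Nat.card_eq_one_iff_unique.mp h1).1
  exact congrArg Subtype.val (hs.allEq ⟨χ, hreal⟩ ⟨⟨_, CfsgLib.Char.isIrrCharacter_one⟩, by simp⟩)

/-- In a finite group of odd order, a real-valued irreducible complex character is the trivial character. -/
theorem result {G : Type*} [Group G] [Finite G] (hodd : Odd (Nat.card G)) (χ : Cfsg.IrrCharacter G) (hreal : ∀ g : G, ((χ : G → ℂ) g).im = 0) : (χ : G → ℂ) = fun _ => 1 := by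
  exact Subtype.ext_iff.mp (real_unique hodd χ hreal)


end Cfsg.Agent.S0161
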