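import Cfsg.Statements.S0606
import Cfsg.Agent.Lib.Fusion.Thompson
import Cfsg.Agent.Lib.Coprime.SchurZassenhaus

set_option autoImplicit false
open Cfsg
open scoped commutatorElement

namespace Cfsg.Agent.S0606

/-- Elementary abelian p-subgroups of maximal order are best offenders on any normal elementary abelian p-subgroup. -/
theorem result {G : Type*} [Group G] [Finite G] {p : ℕ} [Fact p.Prime] (V : Subgroup G) [V.Normal] (hV : Cfsg.IsElementaryAbelian p V) (A : Subgroup G) (hA : A ∈ Cfsg.maxElementaryAbelianSubgroups p G) : Cfsg.IsBestOffenderOn p V A := by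
  refine ⟨fun B hB => ?_, ?_, fun a ha => by rw [hA.1.2 a ha]; exact one_mem _⟩
  · set W := V ⊓ Subgroup.centralizer (B : Set G) with hW
    have hBW : B ≤ Subgroup.normalizer (W : Set G) := by
      refine fun b hb => Subgroup.mem_normalizer_iff.mpr fun w => ?_
      have hcom : ∀ w ∈ W, b * w * b⁻¹ = w := fun w hw => by rw [hw.2 b hb, mul_inv_cancel_right]
      refine ⟨fun hw => by rwa [hcom w hw], fun hw => ?_⟩
      have h1 : b * w * b⁻¹ = w := by
        have := hcom _ hw
        exact mul_left_cancel (mul_right_cancel this)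
      rwa [h1] at hw
    -- `W ⊔ B` is elementary abelian
    have hC : W ⊔ B ≤ Subgroup.centralizer ((W ⊔ B : Subgroup G) : Set G) := by
      refine Subgroup.le_centralizer_iff.mpr ?_
      refine sup_le (Subgroup.le_centralizer_iff.mpr (sup_le ?_ ?_))
        (Subgroup.le_centralizer_iff.mpr (sup_le ?_ ?_))
      · exact fun a ha b hb => CfsgLib.Fusion.Thompson.mul_comm_of_isEA hV hb.1 ha.1
      · exact fun b hb w hw => (hw.2 b hb).symm
      · exact fun w hw b hb => hw.2 b hb
      · exact fun a ha b hb => CfsgLib.Fusion.Thompson.mul_comm_of_isEA hA.1 (hB hb) (hB ha)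
    have hEA : Cfsg.IsElementaryAbelian p (W ⊔ B) := by
      refine ⟨IsMulCommutative.of_comm fun a b => Subtype.ext (hC b.2 a a.2), fun x hx => ?_⟩
      obtain ⟨w, hw, b, hb, rfl⟩ := (CfsgLib.Coprime.mem_sup_of_le_normalizer hBW).mp hx
      have hwb : Commute w b := (hw.2 b hb).symm
      rw [hwb.mul_pow, hV.2 w hw.1, hA.1.2 b (hB hb), one_mul]
    have h1 := hA.2 _ hEA
    have h2 := CfsgLib.Fusion.Thompson.card_sup_mul_card_inf hBW
    have h3 : Nat.card ↥(W ⊓ B) ≤ Nat.card ↥(V ⊓ Subgroup.centralizer (A : Set G)) :=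
      Subgroup.card_le_of_le fun x hx => ⟨hx.1.1, fun a ha =>
        CfsgLib.Fusion.Thompson.mul_comm_of_isEA hA.1 ha (hB hx.2)⟩
    calc Nat.card B * Nat.card W = Nat.card ↥(W ⊔ B) * Nat.card ↥(W ⊓ B) := by
          rw [h2, mul_comm]
      _ ≤ _ := Nat.mul_le_mul h1 h3
  · rw [Subgroup.commutator_le]
    intro a ha b hb
    rw [commutatorElement_eq_one_iff_mul_comm.mpr (CfsgLib.Fusion.Thompson.mul_comm_of_isEA hA.1 ha hb)]
    exact one_mem _


end Cfsg.Agent.S0606
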