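import Cfsg.Statements.S4472
import Cfsg.Agent.Lib.NumberTheory.SchurBoundCoprime
import Cfsg.Agent.Lib.Fusion.FailureFactor
import Cfsg.Agent.Lib.Fusion.PSolvable
import Cfsg.Agent.Lib.Coprime.SchurZassenhaus
import Cfsg.Agent.Lib.Components.SFT.Criterion
import Mathlib.GroupTheory.SchurZassenhaus

set_option autoImplicit false
open Cfsg

namespace Cfsg.Agent.S4472

/-- Let the finite p-solvable group G have a faithful character of degree n, and let p^a be the index of O_p(G) in a Sylow p-subgroup of G (the p-part of [G : O_p(G)]). Then a ≤ Σ_{i ≥ 0} ⌊n / ((p − 1) p^i)⌋ (a finite sum; the terms vanish for p^i > n). -/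
theorem result {G : Type*} [Group G] [Finite G] (χ : G → ℂ) (hχ : Cfsg.IsCharacter G χ) (hfaith : ∀ g : G, χ g = χ 1 → g = 1) (n : ℕ) (hn : Cfsg.charDegree χ = n) (p : ℕ) (hp : p.Prime) (hsolv : Cfsg.IsPSolvable p G) : ((Cfsg.pCore p G).index).factorization p ≤ ∑ i ∈ Finset.range (n + 1), n / ((p - 1) * p ^ i) := by
  classical
  haveI : Fact p.Prime := ⟨hp⟩
  set O := Cfsg.pCore p G with hOdef
  haveI hOn : O.Normal := CfsgLib.Solvable.Cores.pCore_normal p
  have hOp : IsPGroup p O := CfsgLib.Solvable.Cores.isPGroup_pCore p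
  set π := QuotientGroup.mk' O with hπ
  set R := Cfsg.pPrimeCore p (G ⧸ O) with hR
  have hRcop : (Nat.card R).Coprime p := CfsgLib.Solvable.Cores.coprime_card_pPrimeCore p
  have hRc : Subgroup.centralizer (R : Set (G ⧸ O)) ≤ R :=
    CfsgLib.Fusion.FailureFactor.centralizer_pPrimeCore_le
      (CfsgLib.Fusion.PSolvable.psolvable_quotient hsolv O)
      (CfsgLib.Components.SFT.pCore_quotient_eq_bot p G)
  haveI hRn : R.Normal := CfsgLib.Solvable.Cores.pPrimeCore_normal p
  set L := R.comap π with hL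
  haveI hLn : L.Normal := Subgroup.Normal.comap hRn π
  have hOL : O ≤ L := fun x hx => by
    show π x ∈ R
    rw [hπ, QuotientGroup.mk'_apply, (QuotientGroup.eq_one_iff x).2 hx]
    exact one_mem _
  obtain ⟨k, hk⟩ := IsPGroup.iff_card.1 hOp
  have hidxO : (O.subgroupOf L).index = Nat.card R := by
    have h1 : (O.subgroupOf L).index = O.relIndex L := rfl
    have h2 : Subgroup.relIndex π.ker L = Nat.card R := by
      rw [Subgroup.relIndex_ker, hL, Subgroup.map_comap_eq_self_of_surjective
        (QuotientGroup.mk'_surjective O)]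
    rw [h1, ← h2, hπ, QuotientGroup.ker_mk']
  have hcardO : Nat.card (O.subgroupOf L) = p ^ k := by
    rw [Nat.card_congr (Subgroup.subgroupOfEquivOfLe hOL).toEquiv, hk]
  haveI : (O.subgroupOf L).Normal := hOn.subgroupOf L
  obtain ⟨K₀, hK₀⟩ := Subgroup.exists_right_complement'_of_coprime (N := O.subgroupOf L)
    (by rw [hcardO, hidxO]; exact (hRcop.pow_right k).symm)
  set K := K₀.map L.subtype with hK
  have hKL : K ≤ L := Subgroup.map_subtype_le K₀
  have hcardK : Nat.card K = Nat.card R := by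
    rw [hK, Subgroup.card_subtype, ← hidxO, hK₀.symm.index_eq_card]
  have hsupL : L ≤ O ⊔ K := by
    intro x hx
    have h1 : (⟨x, hx⟩ : L) ∈ O.subgroupOf L ⊔ K₀ := hK₀.sup_eq_top ▸ Subgroup.mem_top _
    rw [← SetLike.mem_coe, Subgroup.normal_mul] at h1
    obtain ⟨o, ho, k', hk', he⟩ := Set.mem_mul.1 h1
    rw [show x = (o : G) * (k' : G) from (congrArg Subtype.val he).symm]
    exact mul_mem (Subgroup.mem_sup_left ho) (Subgroup.mem_sup_right ⟨k', hk', rfl⟩)
  have hnorm : ∀ H : Subgroup G, H ≤ Subgroup.normalizer (O : Set G) := fun H =>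
    le_top.trans (Subgroup.normalizer_eq_top_iff.2 hOn).ge
  -- Frattini
  set N := Subgroup.normalizer (K : Set G) with hN
  have hfrat : O ⊔ N = ⊤ := by
    rw [eq_top_iff]
    intro g _
    have hle : K.map (MulAut.conj g).toMonoidHom ≤ O ⊔ K := by
      rintro x ⟨y, hy, rfl⟩
      exact hsupL (hLn.conj_mem y (hKL hy) g)
    have hOsolv : Group.IsSolvable O := by
      haveI := hOp.isNilpotent
      infer_instance
    obtain ⟨o, ho, hoK⟩ := CfsgLib.Coprime.exists_conj_eq (N := O)
      (H := K.map (MulAut.conj g).toMonoidHom) (K := K) (Or.inl hOsolv) (hnorm _) (hnorm _) hle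
      (CfsgLib.Coprime.card_conj_map K g)
      (by rw [CfsgLib.Coprime.card_conj_map, hcardK, hk]; exact (hRcop.pow_right k).symm)
    have hog : o * g ∈ N := by
      rw [hN, Subgroup.mem_normalizer_iff_map_conj_eq]
      exact (CfsgLib.Coprime.conj_map_map K o g).symm.trans hoK
    rw [show g = o⁻¹ * (o * g) by group]
    exact mul_mem (Subgroup.mem_sup_left (inv_mem ho)) (Subgroup.mem_sup_right hog)
  obtain ⟨Q⟩ := (inferInstance : Nonempty (Sylow p N))
  set P₀ := (Q : Subgroup N).map N.subtype with hP₀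
  have hP₀2 : IsPGroup p P₀ := Q.2.map _
  have hP₀N : P₀ ≤ N := Subgroup.map_subtype_le _
  have hCO : Subgroup.centralizer (K : Set G) ⊓ P₀ ≤ O := by
    intro x hx
    have h1 : π x ∈ Subgroup.centralizer (R : Set (G ⧸ O)) := by
      refine Subgroup.mem_centralizer_iff.2 fun r hr => ?_
      obtain ⟨y, rfl⟩ := QuotientGroup.mk'_surjective O r
      have hy : y ∈ O ⊔ K := hsupL hr
      rw [← SetLike.mem_coe, Subgroup.normal_mul] at hy
      obtain ⟨o, ho, k', hk', rfl⟩ := Set.mem_mul.1 hy
      have ho' : QuotientGroup.mk' O o = 1 := (QuotientGroup.eq_one_iff o).2 ho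
      rw [map_mul, ho', one_mul, ← map_mul, ← map_mul,
        Subgroup.mem_centralizer_iff.1 hx.1 k' hk']
    obtain ⟨j, hj⟩ := hP₀2 ⟨x, hx.2⟩
    have hj' : x ^ p ^ j = 1 := by simpa using congrArg Subtype.val hj
    have h2 : orderOf (π x) ∣ p ^ j :=
      orderOf_dvd_of_pow_eq_one (by rw [← map_pow, hj', map_one])
    have h3 : orderOf (π x) ∣ Nat.card R := Subgroup.orderOf_dvd_natCard _ (hRc h1)
    exact (QuotientGroup.eq_one_iff x).1 (orderOf_eq_one_iff.1
      (Nat.eq_one_of_dvd_coprimes (hRcop.pow_right j).symm h2 h3))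
  -- the subgroup `K P₀`
  set X := K ⊔ P₀ with hX
  have hXN : X ≤ N := sup_le Subgroup.le_normalizer hP₀N
  haveI : (K.subgroupOf X).Normal := by
    refine ⟨fun n hn x => ?_⟩
    exact (Subgroup.mem_normalizer_iff.1 (hXN x.2) (n : G)).1 hn
  haveI : Fintype X := Fintype.ofFinite X
  have h1 : χ 1 = (n : ℂ) := by
    obtain ⟨m, ρ, hρ⟩ := hχ
    rw [← hn, ← hρ, Cfsg.charDegree, Representation.char_one, Complex.natCast_re,
      Nat.floor_natCast]
  have key := CfsgLib.NumberTheory.SchurBound.coprime_bound (p := p) (K.subgroupOf X)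
    (P := P₀.subgroupOf X)
    (by rw [Nat.card_congr (Subgroup.subgroupOfEquivOfLe (le_sup_left : K ≤ X)).toEquiv, hcardK]
        exact hRcop)
    (hP₀2.comap_subtype)
    (by rw [← Subgroup.subgroupOf_sup le_sup_left le_sup_right, Subgroup.subgroupOf_self])
    (CfsgLib.Char.IsCharacter.restrict hχ X)
    (fun k hk => Subtype.ext (Subtype.ext (hfaith _ hk))) (n := n) h1
  have hrel : (Subgroup.centralizer ((K.subgroupOf X : Subgroup X) : Set X)).relIndex
      (P₀.subgroupOf X) = (Subgroup.centralizer (K : Set G)).relIndex P₀ := by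
    have hc : Subgroup.centralizer ((K.subgroupOf X : Subgroup X) : Set X)
        = (Subgroup.centralizer (K : Set G)).subgroupOf X := by
      ext x
      rw [Subgroup.mem_subgroupOf, Subgroup.mem_centralizer_iff, Subgroup.mem_centralizer_iff]
      constructor
      · intro h k hk
        exact congrArg Subtype.val (h ⟨k, (le_sup_left : K ≤ X) hk⟩ hk)
      · intro h k hk
        exact Subtype.ext (h k hk)
    rw [hc, Subgroup.relIndex_subgroupOf le_sup_right]
  rw [hrel] at key
  -- comparison with `|G : O|`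
  obtain ⟨P, hP⟩ := hP₀2.exists_le_sylow
  have hOP : O ≤ (P : Subgroup G) := by
    have h := hOp.to_sup_of_normal_left P.2
    exact le_sup_left.trans (P.3 h le_sup_right).le
  have hPN : (P : Subgroup G) ⊓ N ≤ P₀ := by
    intro x hx
    have hq : ((P : Subgroup G).subgroupOf N) ≤ (Q : Subgroup N) :=
      (Q.3 (P.2.comap_subtype) fun y hy => hP ⟨y, hy, rfl⟩).le
    exact ⟨⟨x, hx.2⟩, hq hx.1, rfl⟩
  have hPO : O ⊔ P₀ = (P : Subgroup G) := by
    refine le_antisymm (sup_le hOP hP) fun x hx => ?_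
    have h : x ∈ O ⊔ N := hfrat ▸ Subgroup.mem_top x
    rw [← SetLike.mem_coe, Subgroup.normal_mul] at h
    obtain ⟨o, ho, m, hm, rfl⟩ := Set.mem_mul.1 h
    refine mul_mem (Subgroup.mem_sup_left ho) (Subgroup.mem_sup_right (hPN ⟨?_, hm⟩))
    exact (Subgroup.mul_mem_cancel_left _ (hOP ho)).1 hx
  have hrelO : O.relIndex P₀ = O.relIndex (P : Subgroup G) := by
    rw [← hPO, sup_comm, Subgroup.relIndex_sup_right]
  have hdvd : O.relIndex P₀ ∣ (Subgroup.centralizer (K : Set G)).relIndex P₀ := by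
    rw [← Subgroup.inf_relIndex_right (Subgroup.centralizer (K : Set G)) P₀]
    exact Subgroup.relIndex_dvd_of_le_left _ hCO
  have hne : (Subgroup.centralizer (K : Set G)).relIndex P₀ ≠ 0 := Subgroup.index_ne_zero_of_finite
  refine le_trans ?_ key
  have hidx : O.index = O.relIndex (P : Subgroup G) * (P : Subgroup G).index :=
    (Subgroup.relIndex_mul_index hOP).symm
  rw [hidx, Nat.factorization_mul (show O.relIndex (P : Subgroup G) ≠ 0 from Subgroup.index_ne_zero_of_finite) Subgroup.index_ne_zero_of_finite,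
    Finsupp.add_apply, Nat.factorization_eq_zero_of_not_dvd P.not_dvd_index, add_zero, ← hrelO]
  exact (Nat.factorization_le_iff_dvd (show O.relIndex P₀ ≠ 0 from Subgroup.index_ne_zero_of_finite) hne).2 hdvd p

end Cfsg.Agent.S4472
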