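import Cfsg.Statements.S4468
import Cfsg.Agent.S4472
import Cfsg.Agent.Lib.Coprime.Sylow
import Cfsg.Agent.Lib.Char.Constituent
import Cfsg.Agent.Lib.CharDeep.IrrTools
import Cfsg.Agent.Lib.Char.Integral

set_option autoImplicit false
open Cfsg

namespace Cfsg.Agent.S4468

/-- Let the finite p-solvable group G have a faithful character χ of degree n ≤ p − 1 and suppose that a Sylow p-subgroup of G is not normal. Then n = p − 1, n is a power of 2, and χ is irreducible. -/
theorem result {G : Type*} [Group G] [Finite G] (χ : G → ℂ) (hχ : Cfsg.IsCharacter G χ) (hfaith : ∀ g : G, χ g = χ 1 → g = 1) (n : ℕ) (hn : Cfsg.charDegree χ = n) (p : ℕ) (hp : p.Prime) (hsolv : Cfsg.IsPSolvable p G) (hnp : n + 1 ≤ p) (P : Sylow p G) (hP : ¬ (P : Subgroup G).Normal) : n + 1 = p ∧ (∃ k : ℕ, n = 2 ^ k) ∧ Cfsg.IsIrrCharacter G χ := by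
  classical
  haveI : Fact p.Prime := ⟨hp⟩
  set O := Cfsg.pCore p G with hOdef
  haveI hOn : O.Normal := CfsgLib.Solvable.Cores.pCore_normal p
  have hOp : IsPGroup p O := CfsgLib.Solvable.Cores.isPGroup_pCore p
  have hzero : ∀ m : ℕ, m < p - 1 → ∑ i ∈ Finset.range (m + 1), m / ((p - 1) * p ^ i) = 0 :=
    fun m hm => Finset.sum_eq_zero fun i _ => Nat.div_eq_of_lt
      (lt_of_lt_of_le hm (Nat.le_mul_of_pos_right _ (pow_pos hp.pos i)))
  have hχ1 : χ 1 = (n : ℂ) := by
    obtain ⟨m, ρ, hρ⟩ := hχ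
    rw [← hn, ← hρ, Cfsg.charDegree, Representation.char_one, Complex.natCast_re,
      Nat.floor_natCast]
  -- a `p`-element outside `O`
  have hOP : O ≤ (P : Subgroup G) :=
    le_sup_left.trans (P.3 (hOp.to_sup_of_normal_left P.2) le_sup_right).le
  obtain ⟨x, hxP, hxO⟩ : ∃ x ∈ (P : Subgroup G), x ∉ O := by
    by_contra! h
    exact hP ((le_antisymm h hOP : (P : Subgroup G) = O).symm ▸ hOn)
  obtain ⟨jx, hjx⟩ := P.2 ⟨x, hxP⟩
  have hxj : x ^ p ^ jx = 1 := by simpa using congrArg Subtype.val hjx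
  have hidx : 0 < O.index.factorization p := by
    refine hp.factorization_pos_of_dvd Subgroup.index_ne_zero_of_finite ?_
    have h1 : QuotientGroup.mk' O x ≠ 1 := fun e => hxO ((QuotientGroup.eq_one_iff x).1 e)
    have h2 : orderOf (QuotientGroup.mk' O x) ∣ p ^ jx :=
      orderOf_dvd_of_pow_eq_one (by rw [← map_pow, hxj, map_one])
    obtain ⟨i, -, hi⟩ := (Nat.dvd_prime_pow hp).1 h2
    have hi0 : i ≠ 0 := fun e => h1 (orderOf_eq_one_iff.1 (by rw [hi, e, pow_zero]))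
    exact ((dvd_pow_self p hi0).trans hi.symm.dvd).trans (orderOf_dvd_natCard _)
  have hnp1 : n + 1 = p := by
    by_contra hne
    have h := Cfsg.Agent.S4472.result χ hχ hfaith n hn p hp hsolv
    rw [hzero n (by omega)] at h
    exact absurd (lt_of_lt_of_le hidx h) (lt_irrefl 0)
  -- an invariant Sylow subgroup of `O_{p,p'}` moved by `x`
  set π := QuotientGroup.mk' O with hπ
  set R := Cfsg.pPrimeCore p (G ⧸ O) with hR
  have hRcop : (Nat.card R).Coprime p := CfsgLib.Solvable.Cores.coprime_card_pPrimeCore p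
  have hRc : Subgroup.centralizer (R : Set (G ⧸ O)) ≤ R :=
    CfsgLib.Fusion.FailureFactor.centralizer_pPrimeCore_le
      (CfsgLib.Fusion.PSolvable.psolvable_quotient hsolv O)
      (CfsgLib.Components.SFT.pCore_quotient_eq_bot p G)
  haveI hRn : R.Normal := CfsgLib.Solvable.Cores.pPrimeCore_normal p
  set A := Subgroup.zpowers (π x) with hA
  have hAord : orderOf (π x) ∣ p ^ jx :=
    orderOf_dvd_of_pow_eq_one (by rw [← map_pow, hxj, map_one])
  have hAcop : (Nat.card A).Coprime (Nat.card R) := by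
    rw [hA, Nat.card_zpowers]
    exact ((hRcop.pow_right jx).symm).of_dvd_left hAord
  have hAsolv : Group.IsSolvable A := by
    have hA2 : IsPGroup p A := fun a => by
      refine ⟨jx, Subtype.ext ?_⟩
      obtain ⟨i, hi⟩ := a.2
      show (a : G ⧸ O) ^ p ^ jx = 1
      rw [← hi]
      show (π x ^ i) ^ p ^ jx = 1
      rw [← zpow_natCast, ← zpow_mul, mul_comm, zpow_mul, zpow_natCast,
        orderOf_dvd_iff_pow_eq_one.1 hAord, one_zpow]
    haveI := hA2.isNilpotent
    infer_instance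
  obtain ⟨q, hq, Qb, hQbR, hQbq, hxQb, hmove⟩ : ∃ q : ℕ, q.Prime ∧ ∃ Qb : Subgroup (G ⧸ O),
      Qb ≤ R ∧ IsPGroup q Qb ∧ π x ∈ Subgroup.normalizer (Qb : Set (G ⧸ O)) ∧
        ¬ Qb ≤ Subgroup.centralizer {π x} := by
    by_contra hall
    push Not at hall
    have h1 : R ≤ Subgroup.centralizer {π x} := by
      set Z := R ⊓ Subgroup.centralizer {π x} with hZ
      suffices Nat.card R ∣ Nat.card Z from
        inf_eq_left.1 (Subgroup.eq_of_le_of_card_ge inf_le_left (Nat.le_of_dvd Nat.card_pos this))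
      rw [← Nat.factorization_le_iff_dvd Nat.card_pos.ne' Nat.card_pos.ne']
      intro q
      by_cases hq : q.Prime
      swap
      · simp [Nat.factorization_eq_zero_of_not_prime _ hq]
      haveI : Fact q.Prime := ⟨hq⟩
      obtain ⟨Q, -, hQA⟩ := CfsgLib.Coprime.exists_le_invariant_sylow (A := A) (K := R)
        (le_top.trans (Subgroup.normalizer_eq_top_iff.2 hRn).ge) hAcop (Or.inl hAsolv) (p := q)
        (U := ⊥) bot_le IsPGroup.of_bot (by
          intro a _
          exact Subgroup.mem_normalizer_iff.2 fun y => by simp)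
      have hQle : (Q : Subgroup R).map R.subtype ≤ Z := le_inf (Subgroup.map_subtype_le _)
        (hall q hq _ (Subgroup.map_subtype_le _) (Q.2.map _)
          (hQA (Subgroup.mem_zpowers _)))
      have h2 := Subgroup.card_dvd_of_le hQle
      rw [Subgroup.card_subtype, Q.card_eq_multiplicity] at h2
      exact (hq.pow_dvd_iff_le_factorization Nat.card_pos.ne').1 h2
    have h2 : π x ∈ R := hRc (Subgroup.mem_centralizer_iff.2 fun y hy =>
      (Subgroup.mem_centralizer_singleton_iff.1 (h1 hy)))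
    have h3 : orderOf (π x) ∣ Nat.card R := Subgroup.orderOf_dvd_natCard _ h2
    exact hxO ((QuotientGroup.eq_one_iff x).1 (orderOf_eq_one_iff.1
      (Nat.eq_one_of_dvd_coprimes (hRcop.pow_right jx).symm hAord h3)))
  haveI : Fact q.Prime := ⟨hq⟩
  have hqp : q ≠ p := by
    rintro rfl
    refine hmove fun y hy => ?_
    have h1 : orderOf y ∣ Nat.card R := Subgroup.orderOf_dvd_natCard _ (hQbR hy)
    obtain ⟨i, hi⟩ := hQbq ⟨y, hy⟩
    have h2 : orderOf y ∣ q ^ i :=
      orderOf_dvd_of_pow_eq_one (by simpa using congrArg Subtype.val hi)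
    have : y = 1 := orderOf_eq_one_iff.1
      (Nat.eq_one_of_dvd_coprimes (hRcop.pow_right i).symm h2 h1)
    rw [this]
    exact one_mem _
  -- lift to `G`
  set L := Qb.comap π with hL
  obtain ⟨Qs⟩ := (inferInstance : Nonempty (Sylow q L))
  set Q := (Qs : Subgroup L).map L.subtype with hQ
  have hQL : Q ≤ L := Subgroup.map_subtype_le _
  have hQq : IsPGroup q Q := Qs.2.map _
  have hπQ : Q.map π = Qb := by
    refine le_antisymm (Subgroup.map_le_iff_le_comap.2 hQL) ?_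
    let f : L →* Qb := π.subgroupComap Qb
    have hf : Function.Surjective f := fun y => by
      obtain ⟨z, hz⟩ := QuotientGroup.mk'_surjective O (y : G ⧸ O)
      exact ⟨⟨z, show π z ∈ Qb from hz ▸ y.2⟩, Subtype.ext hz⟩
    have htop : ((Qs.mapSurjective hf : Sylow q Qb) : Subgroup Qb) = ⊤ :=
      ((Qs.mapSurjective hf).3 (hQbq.of_equiv Subgroup.topEquiv.symm) le_top).symm
    intro y hy
    have h : (⟨y, hy⟩ : Qb) ∈ ((Qs.mapSurjective hf : Sylow q Qb) : Subgroup Qb) :=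
      htop.symm ▸ Subgroup.mem_top _
    obtain ⟨z, hz, hzy⟩ := h
    exact ⟨(z : G), ⟨z, hz, rfl⟩, congrArg Subtype.val hzy⟩
  have hLdec : ∀ l ∈ L, ∃ q0 ∈ Q, ∃ o ∈ O, l = q0 * o := by
    intro l hl
    obtain ⟨q0, hq0, he⟩ := (hπQ.symm ▸ hl : π l ∈ Q.map π)
    refine ⟨q0, hq0, q0⁻¹ * l, ?_, by rw [mul_inv_cancel_left]⟩
    exact (QuotientGroup.eq_one_iff _).1 (by
      show π (q0⁻¹ * l) = 1
      rw [map_mul, map_inv, he, inv_mul_cancel])
  obtain ⟨o, ho, hoN⟩ : ∃ o ∈ O, o * x ∈ Subgroup.normalizer (Q : Set G) := by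
    have hxL : x ∈ Subgroup.normalizer (L : Set G) := by
      refine Subgroup.mem_normalizer_iff.2 fun y => ?_
      show π y ∈ Qb ↔ π (x * y * x⁻¹) ∈ Qb
      rw [map_mul, map_mul, map_inv]
      exact Subgroup.mem_normalizer_iff.1 hxQb (π y)
    set Q' := Q.map (MulAut.conj x).toMonoidHom with hQ'
    have hQ'L : Q' ≤ L := by
      rintro _ ⟨y, hy, rfl⟩
      exact (Subgroup.mem_normalizer_iff.1 hxL y).1 (hQL hy)
    obtain ⟨T, hT⟩ := ((hQq.map (MulAut.conj x).toMonoidHom).comap_subtype (K := L)).exists_le_sylow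
    obtain ⟨l, hl⟩ := MulAction.exists_smul_eq L T Qs
    have h1 : ∀ y ∈ Q, (l : G) * (x * y * x⁻¹) * (l : G)⁻¹ ∈ Q := by
      intro y hy
      have hy' : x * y * x⁻¹ ∈ Q' := ⟨y, hy, rfl⟩
      have h : l * ⟨_, hQ'L hy'⟩ * l⁻¹ ∈ ((l • T : Sylow q L) : Subgroup L) := by
        rw [Sylow.coe_subgroup_smul]
        exact ⟨_, hT hy', rfl⟩
      rw [hl] at h
      exact ⟨_, h, rfl⟩
    obtain ⟨q0, hq0, o, ho, hlo⟩ := hLdec l l.2
    refine ⟨o, ho, CfsgLib.Coprime.mem_normalizer_of_conj_map_le fun y hy => ?_⟩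
    have h2 := mul_mem (mul_mem (inv_mem hq0) (h1 y hy)) hq0
    rw [hlo] at h2
    convert h2 using 1
    group
  set m := o * x with hm
  have hπm : π m = π x := by
    rw [hm, map_mul, show π o = 1 from (QuotientGroup.eq_one_iff o).2 ho, one_mul]
  have hmP : m ∈ (P : Subgroup G) := mul_mem (hOP ho) hxP
  obtain ⟨jm, hjm⟩ := P.2 ⟨m, hmP⟩
  have hmj : m ^ p ^ jm = 1 := by simpa using congrArg Subtype.val hjm
  obtain ⟨y0, hy0, hy0x⟩ := SetLike.not_le_iff_exists.1 hmove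
  obtain ⟨t0, ht0, rfl⟩ := (hπQ.symm ▸ hy0 : y0 ∈ Q.map π)
  have ht1 : m * t0 * m⁻¹ * t0⁻¹ ≠ 1 := by
    intro e
    refine hy0x (Subgroup.mem_centralizer_singleton_iff.2 ?_)
    have h := congrArg π e
    simp only [map_mul, map_inv, map_one, hπm] at h
    exact (mul_inv_eq_iff_eq_mul.1 (mul_inv_eq_one.1 h)).symm
  -- the group `Q ⟨m⟩`
  set Y := Q ⊔ Subgroup.zpowers m with hY
  have hQY : Q ≤ Y := le_sup_left
  have hmY : m ∈ Y := Subgroup.mem_sup_right (Subgroup.mem_zpowers m)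
  haveI : Fintype Y := Fintype.ofFinite Y
  haveI hQn : (Q.subgroupOf Y).Normal := by
    have hle : Y ≤ Subgroup.normalizer (Q : Set G) :=
      sup_le Subgroup.le_normalizer ((Subgroup.zpowers_le).2 hoN)
    exact ⟨fun u hu y => (Subgroup.mem_normalizer_iff.1 (hle y.2) (u : G)).1 hu⟩
  have hres := CfsgLib.Char.IsCharacter.restrict hχ Y
  obtain ⟨mult, hmult, hexp⟩ := CfsgLib.Char.IsCharacter.exists_multiplicity hres
  set tY : Y := ⟨m, hmY⟩ * ⟨t0, hQY ht0⟩ * ⟨m, hmY⟩⁻¹ * ⟨t0, hQY ht0⟩⁻¹ with htY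
  obtain ⟨ψ, hψm, hψt⟩ : ∃ ψ : Cfsg.IrrCharacter Y,
      mult ψ ≠ 0 ∧ (ψ : Y → ℂ) tY ≠ (ψ : Y → ℂ) 1 := by
    by_contra! hall
    refine ht1 (hfaith _ ?_)
    show χ (tY : G) = χ ((1 : Y) : G)
    rw [hexp tY, hexp 1]
    refine Finset.sum_congr rfl fun φ _ => ?_
    by_cases h0 : mult φ = 0
    · simp [h0]
    · rw [hall φ h0]
  obtain ⟨d, hd', hd⟩ := CfsgLib.Char.IsIrrCharacter.apply_one_eq ψ.2
  obtain ⟨b, hb⟩ := IsPGroup.iff_card.1 hQq
  have hψc := CfsgLib.Char.isCharacter_irr ψ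
  haveI := CfsgLib.Char.charKer_normal hψc
  set C := CfsgLib.Char.charKer hψc with hC
  obtain ⟨θ, hθ, hθe⟩ := CfsgLib.Char.IsCharacter.exists_deflate hψc C fun u hu => hu
  set πC := QuotientGroup.mk' C with hπC
  have hθ1 : θ 1 = d := by
    have h := congrFun hθe 1
    rw [Function.comp_apply, map_one, hd] at h
    exact h.symm
  -- `ψ` has degree at least `p - 1`
  haveI : Fintype (Y ⧸ C) := Fintype.ofFinite _
  set Kb := (Q.subgroupOf Y).map πC with hKb
  haveI : Kb.Normal := hQn.map _ (QuotientGroup.mk'_surjective C)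
  set Pb := (Subgroup.zpowers (⟨m, hmY⟩ : Y)).map πC with hPb
  have hKbcop : (Nat.card Kb).Coprime p := by
    refine Nat.Coprime.of_dvd_left (Subgroup.card_map_dvd _ _) ?_
    rw [Nat.card_congr (Subgroup.subgroupOfEquivOfLe hQY).toEquiv, hb]
    exact ((Nat.coprime_primes hq hp).2 hqp).pow_left b
  have hzp : IsPGroup p (Subgroup.zpowers (⟨m, hmY⟩ : Y)) := by
    intro u
    refine ⟨jm, Subtype.ext (Subtype.ext ?_)⟩
    obtain ⟨i, hi⟩ := u.2
    show (((u : Y) : G)) ^ p ^ jm = 1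
    rw [← hi]
    show (m ^ i) ^ p ^ jm = 1
    rw [← zpow_natCast, ← zpow_mul, mul_comm, zpow_mul, zpow_natCast, hmj, one_zpow]
  have hPbp : IsPGroup p Pb := hzp.map πC
  have hsupY : Q.subgroupOf Y ⊔ Subgroup.zpowers (⟨m, hmY⟩ : Y) = ⊤ := by
    have hz : Subgroup.zpowers (⟨m, hmY⟩ : Y) = (Subgroup.zpowers m).subgroupOf Y := by
      refine le_antisymm ((Subgroup.zpowers_le).2 (Subgroup.mem_zpowers m)) fun u hu => ?_
      obtain ⟨i, hi⟩ := hu
      exact ⟨i, Subtype.ext (by simpa using hi)⟩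
    rw [hz, ← Subgroup.subgroupOf_sup hQY le_sup_right, ← hY, Subgroup.subgroupOf_self]
  have hbound := CfsgLib.NumberTheory.SchurBound.coprime_bound (p := p) Kb hKbcop hPbp
    (by rw [hKb, hPb, ← Subgroup.map_sup, hsupY,
      Subgroup.map_top_of_surjective _ (QuotientGroup.mk'_surjective C)]) hθ
    (fun u hu => by
      obtain ⟨v, hv⟩ := QuotientGroup.mk'_surjective C (u : Y ⧸ C)
      refine Subtype.ext ?_
      show (u : Y ⧸ C) = 1
      rw [← hv] at hu ⊢
      refine (QuotientGroup.eq_one_iff v).2 ?_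
      show (ψ : Y → ℂ) v = (ψ : Y → ℂ) 1
      rw [hθe, Function.comp_apply, Function.comp_apply, map_one]
      exact hu) hθ1
  have hrel : 0 < ((Subgroup.centralizer (Kb : Set (Y ⧸ C))).relIndex Pb).factorization p := by
    refine hp.factorization_pos_of_dvd Subgroup.index_ne_zero_of_finite ?_
    obtain ⟨k, hk⟩ := IsPGroup.iff_card.1 hPbp
    obtain ⟨i, -, hi⟩ := (Nat.dvd_prime_pow hp).1
      (hk ▸ Subgroup.relIndex_dvd_card (Subgroup.centralizer (Kb : Set (Y ⧸ C))) Pb)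
    rw [hi]
    refine dvd_pow_self p fun e => hψt ?_
    rw [e, pow_zero, Subgroup.relIndex_eq_one] at hi
    have h1 := Subgroup.mem_centralizer_iff.1
      (hi ⟨⟨m, hmY⟩, Subgroup.mem_zpowers _, rfl⟩ : πC ⟨m, hmY⟩ ∈ _) (πC ⟨t0, hQY ht0⟩)
      ⟨⟨t0, hQY ht0⟩, ht0, rfl⟩
    have h2 : πC tY = 1 := by
      rw [htY, map_mul, map_mul, map_mul, map_inv, map_inv, ← h1, mul_inv_cancel_right,
        mul_inv_cancel]
    rw [hθe, Function.comp_apply, Function.comp_apply, h2, map_one]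
  have hdlow : p - 1 ≤ d := by
    by_contra hlt
    rw [hzero d (by omega)] at hbound
    exact absurd (lt_of_lt_of_le hrel hbound) (lt_irrefl 0)
  obtain ⟨a, b', ha', hb', hab, habeq⟩ := CfsgLib.Char.IsCharacter.constituent_degree_le hres ψ.2
    (by rw [hmult]; exact_mod_cast hψm)
  have had : a = d := by rw [hd] at ha'; exact_mod_cast ha'.symm
  have hbn : b' = n := by
    have : χ ((1 : Y) : G) = (n : ℂ) := hχ1
    rw [hb'] at this
    exact_mod_cast this
  have hdn : d = n := by omega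
  have hψχ : (fun h : Y => χ (h : G)) = (ψ : Y → ℂ) := habeq (by omega)
  have hd1 : d ≠ 1 := by
    intro e
    obtain ⟨f, hf⟩ := CfsgLib.Char.exists_hom_of_apply_one_eq_one hψc
      (by rw [hd, e, Nat.cast_one])
    refine hψt ?_
    rw [hf]
    simp only [htY, map_mul, map_inv, map_one, mul_inv_cancel_comm, mul_inv_cancel,
      Units.val_one]
  refine ⟨hnp1, ?_, ?_⟩
  · obtain ⟨c, hc, hdvd⟩ := CfsgLib.Char.IsIrrCharacter.apply_one_dvd_card ψ.2
    have hcd : c = d := by rw [hd] at hc; exact_mod_cast hc.symm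
    rw [hcd] at hdvd
    have hcardY : Nat.card Y ∣ q ^ b * p ^ jm := by
      have h0 := Subgroup.card_mul_index (Q.subgroupOf Y)
      rw [Nat.card_congr (Subgroup.subgroupOfEquivOfLe hQY).toEquiv, hb] at h0
      rw [← h0]
      refine Nat.mul_dvd_mul_left _ ?_
      have h1 : (Q.subgroupOf Y).index
          = (Q.subgroupOf Y).relIndex (Subgroup.zpowers (⟨m, hmY⟩ : Y)) := by
        rw [← Subgroup.relIndex_top_right, ← hsupY, sup_comm, Subgroup.relIndex_sup_right]
      rw [h1]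
      refine (Subgroup.relIndex_dvd_card _ _).trans ?_
      rw [Nat.card_zpowers]
      exact orderOf_dvd_of_pow_eq_one (Subtype.ext (by simpa using hmj))
    have hncop : n.Coprime (p ^ jm) := by
      refine Nat.Coprime.pow_right _ ?_
      rw [Nat.coprime_comm, hp.coprime_iff_not_dvd]
      intro h
      have := Nat.le_of_dvd (by omega) h
      omega
    have hnq : n ∣ q ^ b := hncop.dvd_of_dvd_mul_right (hdn ▸ hdvd.trans hcardY)
    obtain ⟨i, -, hi⟩ := (Nat.dvd_prime_pow hq).1 hnq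
    have hq2 : q = 2 := by
      have hodd : Odd p := hp.odd_of_ne_two (by omega)
      have hev : Even n := by
        rw [← hnp1, Nat.odd_add_one, Nat.not_odd_iff_even] at hodd
        exact hodd
      have h2 : 2 ∣ q ^ i := hi ▸ even_iff_two_dvd.1 hev
      exact ((Nat.prime_dvd_prime_iff_eq Nat.prime_two hq).1
        (Nat.prime_two.dvd_of_dvd_pow h2)).symm
    exact ⟨i, hq2 ▸ hi⟩
  · obtain ⟨k, ρ, rfl⟩ := hχ
    obtain ⟨k', π', hπ', hπe⟩ := id ψ.2
    haveI := hπ'
    let ρY : Representation ℂ Y (Fin k → ℂ) := ρ.comp Y.subtype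
    obtain ⟨eq⟩ := CfsgLib.Char.nonempty_equiv_of_char_eq π' ρY (hπe.trans hψχ.symm)
    haveI : ρY.IsIrreducible := CfsgLib.Char.isIrreducible_of_equiv eq
    have := CfsgLib.CharDeep.IrrTools.apply_ne_zero_of_isIrreducible ρY
    exact ⟨k, ρ, CfsgLib.CharDeep.IrrTools.isIrreducible_of_forall ρ fun U hU =>
      CfsgLib.CharDeep.IrrTools.eq_bot_or_top_of_invariant ρY U fun u v hv => hU (u : G) v hv, rfl⟩

end Cfsg.Agent.S4468
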