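import Cfsg.Statements.S0219
import Mathlib
-- import your own Cfsg.Agent.* helpers here

set_option autoImplicit false
open Cfsg

namespace Cfsg.Agent.S0219

theorem index_two_of_cyclic_sylow {G : Type*} [Group G] [Finite G] (heven : Even (Nat.card G))
    (T : Sylow 2 G) (hT : IsCyclic (T : Subgroup G)) : ∃ H : Subgroup G, H.index = 2 := by
  haveI : Fact (Nat.Prime 2) := ⟨Nat.prime_two⟩
  have hmin : (Nat.card G).minFac = 2 := (Nat.minFac_eq_two_iff _).2 heven.two_dvd
  have hc := MonoidHom.ker_transferSylow_isComplement' T (hT.normalizer_le_centralizer hmin)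
  set f := MonoidHom.transferSylow T (hT.normalizer_le_centralizer hmin)
  have hs : Function.Surjective f := by
    rw [← MonoidHom.range_eq_top]
    refine Subgroup.eq_top_of_card_eq _ ?_
    rw [← Subgroup.index_ker]
    exact hc.symm.index_eq_card
  have hpos : 2 ∣ Nat.card T := T.dvd_card_of_dvd_card heven.two_dvd
  letI : CommGroup T := hT.commGroup
  obtain ⟨K, hK⟩ := Sylow.exists_subgroup_card_pow_prime (G := T) (p := 2)
    (n := (Nat.card T).factorization 2 - 1)
    ((pow_dvd_pow 2 (Nat.sub_le _ _)).trans (Nat.ordProj_dvd _ _))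
  refine ⟨K.comap f, ?_⟩
  rw [Subgroup.index_comap_of_surjective _ hs]
  obtain ⟨e, he⟩ := T.2.exists_card_eq
  have he1 : 1 ≤ e := by
    rcases e with - | e
    · rw [he] at hpos; norm_num at hpos
    · omega
  have := K.card_mul_index
  rw [hK, he, Nat.prime_two.factorization_pow, Finsupp.single_eq_same] at this
  have h2 : 2 ^ e = 2 ^ (e - 1) * 2 := by rw [← pow_succ]; congr 1; omega
  rw [h2] at this
  exact Nat.eq_of_mul_eq_mul_left (by positivity) this

/-- If a finite group has even order and a cyclic Sylow 2-subgroup, then it has a subgroup of index 2 (consider the parity of permutations in the regular representation). -/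
theorem result {G : Type*} [Group G] [Finite G] (heven : Even (Nat.card G)) (T : Sylow 2 G) (hT : IsCyclic (T : Subgroup G)) : ∃ H : Subgroup G, H.index = 2 := by
  haveI : Fact (Nat.Prime 2) := ⟨Nat.prime_two⟩
  exact index_two_of_cyclic_sylow heven T hT

end Cfsg.Agent.S0219
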