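import Cfsg.Statements.S0494
import Cfsg.Agent.Lib.SmallGroups.SimpleTools
-- import your own Cfsg.Agent.* helpers here

set_option autoImplicit false
open Cfsg

namespace Cfsg.Agent.S0494

/-- A simple group of order 60 is isomorphic to the alternating group of degree 5. -/
theorem result {G : Type*} [Group G] [Finite G] [IsSimpleGroup G]
    (h : Nat.card G = 60) : Nonempty (G ≃* alternatingGroup (Fin 5)) := by
  open CfsgLib.SmallGroups.SimpleTools in
  haveI : Fact (Nat.Prime 2) := ⟨Nat.prime_two⟩
  have hG : ¬ IsMulCommutative G := not_comm_of_card (by rw [h]; norm_num)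
  obtain ⟨P⟩ : Nonempty (Sylow 2 G) := inferInstance
  have h2 : 2 ∣ Nat.card G := by rw [h]; norm_num
  have hPc : Nat.card (P : Subgroup G) = 4 := by
    have := card_sylow_subgroup (p := 2) (m := 15) (k := 2) (by rw [h]; norm_num) (by norm_num) P
    simpa using this
  set N := Subgroup.normalizer ((P : Subgroup G) : Set G) with hN
  have hmul : Nat.card (Sylow 2 G) * Nat.card N = 60 := h ▸ card_normalizer_mul P
  have hmem := card_sylow_mem (p := 2) (G := G) (m := 15) (k := 2) (by rw [h]; norm_num) (by norm_num)
  rw [Finset.mem_filter, Nat.mem_divisors] at hmem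
  have hle := Nat.le_of_dvd (by norm_num) hmem.1.1
  have h15 : Nat.card (Sylow 2 G) ≠ 15 := by
    intro e
    rw [e] at hmul
    have hNP : (P : Subgroup G) = N := Subgroup.eq_of_le_of_card_ge Subgroup.le_normalizer (by omega)
    refine not_normalizer_le hG h2 P ?_
    rw [← hN, ← hNP]
    have : IsMulCommutative ↥(P : Subgroup G) :=
      IsPGroup.isMulCommutative_of_card_eq_prime_sq (p := 2) (by rw [hPc]; norm_num)
    intro x hx
    refine Subgroup.mem_centralizer_iff.mpr fun y hy => ?_
    exact congrArg Subtype.val (this.is_comm.comm (⟨y, hy⟩ : (P : Subgroup G)) ⟨x, hx⟩)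
  have h1 := card_sylow_ne_one hG h2 (G := G)
  have hidx : N.index = Nat.card (Sylow 2 G) := P.card_eq_index_normalizer.symm
  have hcases : Nat.card (Sylow 2 G) = 3 ∨ Nat.card (Sylow 2 G) = 5 := by
    have hd := hmem.1.1
    interval_cases hn : Nat.card (Sylow 2 G) <;> omega
  have hdvd := two_mul_card_dvd_factorial hG N (normalizer_ne_top hG h2 P)
  rcases hcases with e | e
  · rw [hidx, e, h] at hdvd
    exact absurd hdvd (by decide)
  obtain ⟨f, hf⟩ := exists_embedding hG N (normalizer_ne_top hG h2 P)
  have key : ∀ n, n = 5 → (G →* ↥(alternatingGroup (Fin n))) → ∀ f : G →* ↥(alternatingGroup (Fin n)),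
      Function.Injective f → Nonempty (G ≃* alternatingGroup (Fin 5)) := by
    rintro n rfl - f hf
    refine ⟨MulEquiv.ofBijective f (hf.bijective_of_nat_card_le ?_)⟩
    rw [h]
    have h5 := two_mul_nat_card_alternatingGroup (α := Fin 5)
    rw [Nat.card_perm, Nat.card_fin] at h5
    rw [show Nat.factorial 5 = 120 by decide] at h5
    omega
  exact key _ (hidx.trans e) f f hf

end Cfsg.Agent.S0494
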