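import Cfsg.Statements.S1012
import Cfsg.Agent.Lib.SmallGroups.CosetFixed
import Cfsg.Agent.Lib.SmallGroups.SimpleTools
-- import your own Cfsg.Agent.* helpers here

set_option autoImplicit false
open Cfsg
open Subgroup

namespace Cfsg.Agent.S1012

/-- A group of order 24 containing no element of order 6 is isomorphic to the symmetric group of degree 4. -/
theorem result {G : Type*} [Group G] [Finite G] (h : Nat.card G = 24) (h6 : ∀ g : G, orderOf g ≠ 6) : Nonempty (G ≃* Equiv.Perm (Fin 4)) := by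
  classical
  have : Finite G := Nat.finite_of_card_ne_zero (by rw [h]; norm_num)
  have : Fact (Nat.Prime 3) := ⟨Nat.prime_three⟩
  have hcomm6 : ∀ a b : G, orderOf a = 2 → orderOf b = 3 → ¬ Commute a b := fun a b ha hb hc =>
    h6 (a * b) (by rw [hc.orderOf_mul_eq_mul_orderOf_of_coprime (by rw [ha, hb]; decide), ha, hb])
  have hP : ∀ P : Sylow 3 G, Nat.card (P : Subgroup G) = 3 := fun P =>
    (CfsgLib.SmallGroups.SimpleTools.card_sylow_subgroup (k := 1) (m := 8) (by rw [h]; norm_num) (by norm_num) P).trans (pow_one 3)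
  have hmem := CfsgLib.SmallGroups.SimpleTools.card_sylow_mem (G := G) (p := 3) (k := 1) (m := 8) (by rw [h]; norm_num) (by norm_num)
  rw [show (Nat.divisors 8).filter (fun n => n % 3 = 1) = {1, 4} by decide] at hmem
  simp only [Finset.mem_insert, Finset.mem_singleton] at hmem
  obtain ⟨P₀⟩ : Nonempty (Sylow 3 G) := inferInstance
  have hgen : ∀ (P : Sylow 3 G) (a : G), orderOf a = 3 → a ∈ Subgroup.normalizer ((P : Subgroup G) : Set G) →
      (P : Subgroup G) = Subgroup.zpowers a := fun P a ha hm =>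
    (CfsgLib.SmallGroups.CosetFixed.zpowers_eq P (hP P) ha hm).symm
  have hn : Nat.card (Sylow 3 G) = 4 := by
    refine hmem.resolve_left fun h1 => ?_
    have hidx : (Subgroup.normalizer ((P₀ : Subgroup G) : Set G)).index = 1 :=
      h1 ▸ P₀.card_eq_index_normalizer.symm
    have hnt : Subgroup.normalizer ((P₀ : Subgroup G) : Set G) = ⊤ := Subgroup.index_eq_one.mp hidx
    have hrange := (normalizerMonoidHom (P₀ : Subgroup G)).ker.index_mul_card
    have : IsCyclic ↥(P₀ : Subgroup G) := isCyclic_of_prime_card (hP P₀)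
    have h2 : (normalizerMonoidHom (P₀ : Subgroup G)).ker.index ∣ 2 := by
      rw [Subgroup.index_ker]
      have := Subgroup.card_subgroup_dvd_card (normalizerMonoidHom (P₀ : Subgroup G)).range
      rwa [IsCyclic.card_mulAut, hP P₀, show Nat.totient 3 = 2 by decide] at this
    have hcard : Nat.card ↥(Subgroup.normalizer ((P₀ : Subgroup G) : Set G)) = 24 := by
      rw [hnt, Subgroup.card_top, h]
    rw [hcard, normalizerMonoidHom_ker, Nat.card_congr
      (Subgroup.subgroupOfEquivOfLe (Subgroup.centralizer_le_normalizer _)).toEquiv] at hrange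
    rw [normalizerMonoidHom_ker] at h2
    have h2C : 2 ∣ Nat.card ↥(Subgroup.centralizer ((P₀ : Subgroup G) : Set G)) := by
      rcases (Nat.dvd_prime Nat.prime_two).mp h2 with e | e <;> rw [e] at hrange
      · exact ⟨12, by omega⟩
      · exact ⟨6, by omega⟩
    have : Fact (Nat.Prime 2) := ⟨Nat.prime_two⟩
    obtain ⟨⟨a, haC⟩, ha⟩ := exists_prime_orderOf_dvd_card' 2 h2C
    obtain ⟨⟨b, hbP⟩, hb⟩ := exists_prime_orderOf_dvd_card' 3 (dvd_of_eq (hP P₀).symm)
    rw [← Subgroup.orderOf_coe] at ha hb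
    exact hcomm6 a b ha hb (Subgroup.mem_centralizer_iff.mp haC b hbP).symm
  let φ := MulAction.toPermHom G (Sylow 3 G)
  have hker : ∀ g : G, φ g = 1 → ∀ P : Sylow 3 G, g ∈ Subgroup.normalizer ((P : Subgroup G) : Set G) :=
    fun g hg P => Sylow.smul_eq_iff_mem_normalizer.mp (congrArg (fun σ : Equiv.Perm (Sylow 3 G) => σ P) hg)
  have h3 : ∀ g : G, φ g = 1 → orderOf g ≠ 3 := by
    intro g hg ho
    have hall : ∀ P : Sylow 3 G, (P : Subgroup G) = Subgroup.zpowers g := fun P => hgen P g ho (hker g hg P)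
    have : Subsingleton (Sylow 3 G) := ⟨fun P Q => Sylow.ext ((hall P).trans (hall Q).symm)⟩
    have := Finite.card_le_one_iff_subsingleton.mpr this
    omega
  have hinj : Function.Injective φ := by
    rw [← MonoidHom.ker_eq_bot_iff]
    by_contra hne
    have hmul : 4 * Nat.card (Subgroup.normalizer ((P₀ : Subgroup G) : Set G)) = 24 := by
      rw [← hn, CfsgLib.SmallGroups.SimpleTools.card_normalizer_mul, h]
    have hle : φ.ker ≤ Subgroup.normalizer ((P₀ : Subgroup G) : Set G) := fun g hg => hker g hg P₀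
    have hd : Nat.card φ.ker ∣ 6 := by
      have := Subgroup.card_dvd_of_le hle
      rwa [show Nat.card (Subgroup.normalizer ((P₀ : Subgroup G) : Set G)) = 6 by omega] at this
    have h3' : ¬ 3 ∣ Nat.card φ.ker := fun h' => by
      obtain ⟨⟨g, hg⟩, ho⟩ := exists_prime_orderOf_dvd_card' 3 h'
      rw [← Subgroup.orderOf_coe] at ho
      exact h3 g hg ho
    have hK : Nat.card φ.ker = 2 := by
      have hne1 : Nat.card φ.ker ≠ 1 := fun e => hne (Subgroup.eq_bot_of_card_eq _ e)
      have := Nat.le_of_dvd (by norm_num) hd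
      generalize Nat.card φ.ker = x at *
      interval_cases x <;> omega
    have : Fact (Nat.Prime 2) := ⟨Nat.prime_two⟩
    obtain ⟨⟨a, haK⟩, ha⟩ := exists_prime_orderOf_dvd_card' 2 (dvd_of_eq hK.symm)
    obtain ⟨⟨b, hbP⟩, hb⟩ := exists_prime_orderOf_dvd_card' 3 (dvd_of_eq (hP P₀).symm)
    rw [← Subgroup.orderOf_coe] at ha hb
    change orderOf a = 2 at ha
    have hconj : b * a * b⁻¹ ∈ φ.ker := (φ.normal_ker).conj_mem a haK b
    have hzp : Subgroup.zpowers a = φ.ker :=
      Subgroup.eq_of_le_of_card_ge (Subgroup.zpowers_le.mpr haK) (by rw [hK, Nat.card_zpowers, ha])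
    rw [← hzp, mem_zpowers_iff_mem_range_orderOf, ha] at hconj
    obtain ⟨i, hi, hi'⟩ := Finset.mem_image.mp hconj
    rw [Finset.mem_range] at hi
    interval_cases i
    · rw [pow_zero, eq_comm, conj_eq_one_iff] at hi'
      rw [hi', orderOf_one] at ha; omega
    · rw [pow_one] at hi'
      refine hcomm6 a b ha hb (show a * b = b * a from ?_)
      exact eq_mul_inv_iff_mul_eq.mp hi'
  have hcard : Nat.card G = Nat.card (Equiv.Perm (Sylow 3 G)) := by
    rw [h, Nat.card_perm, hn]; rfl
  exact ⟨(MulEquiv.ofBijective φ (hinj.bijective_of_nat_card_le hcard.ge)).trans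
    (Finite.equivFinOfCardEq hn).permCongrHom⟩

end Cfsg.Agent.S1012
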