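import Cfsg.Statements.S4508
import Cfsg.Agent.Lib.Blocks.SelfCentPrime
import Cfsg.Agent.Lib.Blocks.DefectOneGalois
import Cfsg.Agent.Lib.Blocks.DefectOneCount
import Cfsg.Agent.Lib.Blocks.Eigen
import Mathlib.RingTheory.Polynomial.Cyclotomic.Basic
import Mathlib.LinearAlgebra.Determinant

set_option autoImplicit false
open Cfsg

namespace Cfsg.Agent.S4508

open CfsgLib.Blocks CfsgLib.Blocks.DefectOne
open scoped ComplexConjugate

section

variable {G : Type*} [Group G] [Fintype G] {p : ℕ} [hp : Fact p.Prime] {P : Sylow p G} {D : Frame P}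

theorem theta_eq_one (hK : D.K0 = ⊥) (θ : Cfsg.IrrCharacter D.K0) (y : D.K0) : (θ : D.K0 → ℂ) y = 1 := by
  classical
  have hsub : ∀ z : D.K0, z = 1 := fun z => Subtype.ext (Subgroup.mem_bot.1 (hK ▸ z.2))
  haveI : Subsingleton D.K0 := ⟨fun a b => (hsub a).trans (hsub b).symm⟩
  have hc : Nat.card D.K0 = 1 := by rw [hK, Subgroup.card_bot]
  have h := CfsgLib.Char.classInner_irr_self θ.2
  rw [Cfsg.classInner, hc, Nat.cast_one, inv_one, one_mul, Fintype.sum_subsingleton _ (1 : D.K0), irr_one_eq,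
    map_natCast, ← Nat.cast_mul, Nat.cast_eq_one] at h
  rw [hsub y, irr_one_eq, Nat.eq_one_of_mul_eq_one_right h, Nat.cast_one]

theorem sec_eq (hK : D.K0 = ⊥) (θ : Cfsg.IrrCharacter D.K0) (χ : Cfsg.IrrCharacter G) (a : ZMod p) :
    D.sec θ χ a = (χ : G → ℂ) (D.x ^ a.val) := by
  classical
  have hsub : ∀ z : D.K0, z = 1 := fun z => Subtype.ext (Subgroup.mem_bot.1 (hK ▸ z.2))
  haveI : Subsingleton D.K0 := ⟨fun a b => (hsub a).trans (hsub b).symm⟩
  have hc : Nat.card D.K0 = 1 := by rw [hK, Subgroup.card_bot]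
  show Cfsg.classInner (fun y : D.K0 => (χ : G → ℂ) (D.el a y : G)) (θ : D.K0 → ℂ) = _
  rw [Cfsg.classInner, hc, Nat.cast_one, inv_one, one_mul, Fintype.sum_subsingleton _ (1 : D.K0),
    theta_eq_one hK, map_one, mul_one, D.coe_el, OneMemClass.coe_one, mul_one]

/-- A character of degree `p - 1` has the value `-1` at the elements of order `p`. -/
theorem value_eq (hK : D.K0 = ⊥) (hp2 : p ≠ 2) (he : Even (SelfCent.auto D) ∨ SelfCent.auto D = p - 1)
    (χ : Cfsg.IrrCharacter G) (hχ : Cfsg.charDegree (χ : G → ℂ) + 1 = p) (a : ZMod p) (ha : a ≠ 0) :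
    (χ : G → ℂ) (D.x ^ a.val) = -1 := by
  classical
  obtain ⟨M, hM⟩ := exists_isPModular hp.out
  have hdiv : p ∣ Nat.card G := D.ord ▸ orderOf_dvd_natCard D.x
  have hnd : ¬ p ∣ Cfsg.charDegree (χ : G → ℂ) := fun h =>
    hp.out.not_dvd_one ((Nat.dvd_add_right h).1 (dvd_of_eq hχ.symm))
  obtain ⟨θ, hind⟩ := exists_inducing D hM (isPBlock_blockOf χ)
    (blockDefect_pos_of_not_dvd hdiv (SameBlock_refl hM (χ : G → ℂ)) hnd)
  obtain ⟨S⟩ := exists_shape D hM hind
  have hmem : χ ∈ Cfsg.blockOf M (χ : G → ℂ) := SameBlock_refl hM _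
  have hcard : Nat.card (D.autE θ) = SelfCent.auto D := by
    have h := D.card_orb_mul θ
    have h1 : (D.orb θ).card = 1 := Finset.card_eq_one.2 ⟨θ, Finset.eq_singleton_iff_unique_mem.2
      ⟨D.self_mem_orb θ, fun θ' _ => Subtype.ext (funext fun y => by rw [theta_eq_one hK, theta_eq_one hK])⟩⟩
    rwa [h1, one_mul] at h
  have hθd : Cfsg.charDegree (θ : D.K0 → ℂ) = 1 := by
    have h := theta_eq_one hK θ 1
    rw [irr_one_eq] at h
    exact_mod_cast h
  -- the value is an integer
  obtain ⟨v, hv⟩ : ∃ v : ℤ, ∀ b : ZMod p, b ≠ 0 → D.sec θ χ b = v := by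
    rcases (S.mem_iff χ).1 hmem with h | h
    · exact ⟨_, S.sec_X χ h⟩
    · obtain ⟨k, hk⟩ := (S.mem_Y χ).1 h
      have hd := S.deg_Y _ h
      rw [hθd, mul_one] at hd
      have hfull : SelfCent.auto D = p - 1 := by
        rcases he with he | he
        · have hle : SelfCent.auto D < p := (range_pos_lt D).2
          have hpos : 0 < SelfCent.auto D := (range_pos_lt D).1
          have hne1 : SelfCent.auto D ≠ 1 := fun e => by rw [e] at he; exact Nat.not_even_one he
          have hmod : (p : ℤ) ∣ (Cfsg.charDegree (χ : G → ℂ) : ℤ) - -S.A * (SelfCent.auto D : ℤ) :=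
            Int.modEq_iff_dvd.1 hd.symm
          have hdeg : (Cfsg.charDegree (χ : G → ℂ) : ℤ) = (p : ℤ) - 1 := by omega
          rw [hdeg] at hmod
          rcases S.sgn_A with hA | hA <;> rw [hA] at hmod
          · exfalso
            have h2 : (p : ℤ) ∣ (SelfCent.auto D : ℤ) - 1 := by
              have := Int.dvd_sub hmod (dvd_refl (p : ℤ))
              rwa [show (p : ℤ) - 1 - -1 * (SelfCent.auto D : ℤ) - p = (SelfCent.auto D : ℤ) - 1 by ring] at this
            have h3 := Int.le_of_dvd (by omega) h2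
            omega
          · have h2 : (p : ℤ) ∣ (SelfCent.auto D : ℤ) + 1 := by
              have := Int.dvd_sub (dvd_refl (p : ℤ)) hmod
              rwa [show (p : ℤ) - ((p : ℤ) - 1 - -(-1) * (SelfCent.auto D : ℤ)) = (SelfCent.auto D : ℤ) + 1 by ring]
                at this
            have h3 := Int.le_of_dvd (by omega) h2
            omega
        · exact he
      have htop : D.autE θ = ⊤ := Subgroup.eq_top_of_card_eq _ (by
        rw [hcard, hfull, Nat.card_eq_fintype_card, ZMod.card_units])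
      refine ⟨S.d - S.δ, fun b hb => ?_⟩
      have h1 := S.sec_Y k b hb
      rw [hk] at h1
      rw [h1, Finset.filter_true_of_mem fun l _ => ((S.ζ_iff l k).2 (htop ▸ Subgroup.mem_top _)).trans hk,
        sum_units_std hb, Int.cast_sub]
      ring
  -- congruent to the degree
  have hsum : ∑ b : ZMod p, D.sec θ χ b = (Cfsg.charDegree (χ : G → ℂ) : ℂ) + ((p - 1 : ℕ) : ℂ) * (v : ℂ) := by
    rw [← Finset.add_sum_erase _ _ (Finset.mem_univ (0 : ZMod p)), sec_eq hK, ZMod.val_zero, pow_zero, irr_one_eq,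
      Finset.sum_congr rfl fun b hb => hv b (Finset.ne_of_mem_erase hb), Finset.sum_const,
      Finset.card_erase_of_mem (Finset.mem_univ _), Finset.card_univ, ZMod.card, nsmul_eq_mul]
  obtain ⟨m, hm⟩ := D.exists_mult θ χ 0
  rw [Frame.classInner_ext, inv_mul_eq_iff_eq_mul₀ (Nat.cast_ne_zero.2 hp.out.ne_zero)] at hm
  simp only [zero_mul, neg_zero, AddChar.map_zero_eq_one, mul_one] at hm
  have hZ : (Cfsg.charDegree (χ : G → ℂ) : ℤ) + ((p - 1 : ℕ) : ℤ) * v = (p : ℤ) * (m : ℤ) := by
    have h := hsum.symm.trans hm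
    exact_mod_cast h
  -- bounded
  have hle : v ^ 2 ≤ (p : ℤ) := by
    have h := D.sum_sec_mul_conj θ (Units.mk0 a ha) (Units.mk0 a ha)
    rw [if_pos (by rw [mul_inv_cancel]; exact one_mem _)] at h
    have h1 : ∑ ψ : Cfsg.IrrCharacter G, ‖D.sec θ ψ a‖ ^ 2 = (p : ℝ) := by
      have h2 := congrArg Complex.re h
      simp only [Units.val_mk0, Complex.mul_conj', Complex.re_sum, Complex.natCast_re] at h2
      rw [← h2]
      exact Finset.sum_congr rfl fun ψ _ => by norm_cast
    have h3 := Finset.single_le_sum (f := fun ψ : Cfsg.IrrCharacter G => ‖D.sec θ ψ a‖ ^ 2)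
      (fun ψ _ => sq_nonneg _) (Finset.mem_univ χ)
    rw [h1] at h3
    simp only [hv a ha, Complex.norm_intCast, sq_abs] at h3
    exact_mod_cast h3
  have hp3 : 3 ≤ p := by have := hp.out.two_le; omega
  have hd : (p : ℤ) ∣ v + 1 := by
    refine ⟨(1 : ℤ) + v - m, ?_⟩
    have e1 : (Cfsg.charDegree (χ : G → ℂ) : ℤ) = (p : ℤ) - 1 := by omega
    rw [e1, Nat.cast_sub hp.out.one_le] at hZ
    push_cast at hZ
    linear_combination -hZ
  have hv1 : v = -1 := by
    obtain ⟨q, hq⟩ := hd
    have hq0 : q = 0 := by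
      by_contra hq0
      rcases lt_or_gt_of_ne hq0 with hlt | hgt
      · have : v ≤ -(p : ℤ) - 1 := by nlinarith
        nlinarith
      · have : (p : ℤ) - 1 ≤ v := by nlinarith
        nlinarith
    rw [hq0, mul_zero] at hq
    omega
  rw [← sec_eq hK θ, hv a ha, hv1]
  norm_num

end

/-- Let the finite group G contain an element x of prime order p with C_G(x) = ⟨x⟩, and let t be the number of conjugacy classes of elements of order p. If G has an irreducible character of degree p − 1, then t is even or the commutator subgroup has even index. -/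
theorem result {G : Type*} [Group G] [Finite G] (p : ℕ) (hp : p.Prime) (x : G) (hx : orderOf x = p) (hC : Subgroup.centralizer ({x} : Set G) = Subgroup.zpowers x) (t : ℕ) (ht : Nat.card {C : ConjClasses G // ∃ g ∈ C.carrier, orderOf g = p} = t) (χ : Cfsg.IrrCharacter G) (hχ : Cfsg.charDegree (χ : G → ℂ) + 1 = p) : Even t ∨ Even (commutator G).index := by
  haveI := Fintype.ofFinite G
  haveI : Fact p.Prime := ⟨hp⟩
  classical
  obtain ⟨P, D, rfl, hK⟩ := SelfCent.exists_frame_selfCent hx hC
  have hte := SelfCent.card_classes_mul D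
  rw [ht] at hte
  by_cases hp2 : p = 2
  · right
    subst hp2
    have he1 : SelfCent.auto D = 1 := Nat.eq_one_of_mul_eq_one_left (show t * SelfCent.auto D = 1 by omega)
    rw [(SelfCent.commutator_of_auto_eq_one hK he1).1]
    exact even_two
  by_cases htev : Even t
  · exact Or.inl htev
  right
  have hpodd : Even (p - 1) := (hp.odd_of_ne_two hp2).tsub_odd odd_one
  have hee : Even (SelfCent.auto D) := by
    rw [← hte, Nat.even_mul] at hpodd
    exact hpodd.resolve_left htev
  have hval := value_eq hK hp2 (Or.inl hee) χ hχ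
  obtain ⟨n0, ρ, hρi, hρ⟩ := χ.2
  have hdim : n0 + 1 = p := by
    have h := congrFun hρ 1
    rw [Representation.char_one, irr_one_eq, Module.finrank_fin_fun] at h
    rw [Nat.cast_inj.1 h]; exact hχ
  -- the automizer is full
  have hauto : SelfCent.auto D * t = p - 1 := by rw [mul_comm, hte]
  -- no invariants
  set E : Module.End ℂ (Fin n0 → ℂ) := (p : ℂ)⁻¹ • ∑ a : ZMod p, ρ (D.x ^ a.val) with hE
  have hpC : (p : ℂ) ≠ 0 := Nat.cast_ne_zero.2 hp.ne_zero
  have hidem : E * E = E := by
    rw [hE, smul_mul_smul_comm, Finset.sum_mul_sum,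
      Finset.sum_congr rfl (g := fun _ : ZMod p => ∑ a : ZMod p, ρ (D.x ^ a.val)) fun a _ => ?_,
      Finset.sum_const, Finset.card_univ, ZMod.card, ← Nat.cast_smul_eq_nsmul ℂ, smul_smul, mul_assoc,
      inv_mul_cancel₀ hpC, mul_one]
    refine Fintype.sum_equiv (Equiv.addLeft a) _ _ fun b => ?_
    rw [← map_mul, D.xpow_add]
    rfl
  have htr : LinearMap.trace ℂ _ E = 0 := by
    rw [hE, map_smul, map_sum, show (∑ a : ZMod p, LinearMap.trace ℂ _ (ρ (D.x ^ a.val)))
      = ∑ a : ZMod p, (χ : G → ℂ) (D.x ^ a.val) from Finset.sum_congr rfl fun a _ => congrFun hρ _,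
      ← Finset.add_sum_erase _ _ (Finset.mem_univ (0 : ZMod p)), ZMod.val_zero, pow_zero, irr_one_eq,
      Finset.sum_congr rfl fun a ha => hval a (Finset.ne_of_mem_erase ha), Finset.sum_const,
      Finset.card_erase_of_mem (Finset.mem_univ _), Finset.card_univ, ZMod.card, nsmul_eq_mul,
      show Cfsg.charDegree (χ : G → ℂ) = p - 1 by omega]
    simp
  have hE0 : E = 0 := by
    have hproj : LinearMap.IsProj (LinearMap.range E) E :=
      { map_mem := fun v => LinearMap.mem_range_self E v
        map_id := fun v hv => by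
          obtain ⟨w, rfl⟩ := hv
          exact congrArg (fun T : Module.End ℂ (Fin n0 → ℂ) => T w) hidem }
    rw [hproj.trace, Nat.cast_eq_zero] at htr
    exact LinearMap.range_eq_bot.1 (Submodule.finrank_eq_zero.1 htr)
  -- vanishing outside the Sylow subgroup
  have hzero : ∀ m : nrm P, D.act m ≠ 1 → (χ : G → ℂ) (m : G) = 0 := by
    intro m hm
    have hconj : ∀ a : ZMod p, (χ : G → ℂ) (D.x ^ a.val * (m : G)) = (χ : G → ℂ) (m : G) := by
      intro a
      have hu : (1 : ZMod p) - (D.act m : ZMod p) ≠ 0 := fun h => hm (Units.ext (sub_eq_zero.1 h).symm)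
      set b := a * ((1 : ZMod p) - (D.act m : ZMod p))⁻¹ with hb
      rw [← irr_conj_apply χ (m : G) (D.x ^ b.val)]
      have h1 : (m : G) * (D.x ^ b.val)⁻¹ = D.x ^ (-((D.act m : ZMod p) * b)).val * (m : G) := by
        have h2 : (m : G) * D.x ^ b.val * (m : G)⁻¹ = D.x ^ ((D.act m : ZMod p) * b).val := by
          rw [← conj_pow, D.conj_x, D.xpow_mul]
        have h3 : D.x ^ (-((D.act m : ZMod p) * b)).val = (D.x ^ ((D.act m : ZMod p) * b).val)⁻¹ :=
          eq_inv_of_mul_eq_one_left (by rw [D.xpow_add, neg_add_cancel, ZMod.val_zero, pow_zero])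
        rw [h3, ← h2]; group
      rw [mul_assoc (D.x ^ b.val), h1, ← mul_assoc, D.xpow_add,
        show b + -((D.act m : ZMod p) * b) = a by rw [hb]; field_simp; ring]
    have h := congrArg (fun T => LinearMap.trace ℂ _ (T * ρ (m : G))) hE0
    simp only [hE, smul_mul_assoc, Finset.sum_mul, map_smul, map_sum, zero_mul, map_zero] at h
    rw [Finset.sum_congr rfl fun a _ => show LinearMap.trace ℂ _ (ρ (D.x ^ a.val) * ρ (m : G)) = (χ : G → ℂ) m by
        rw [← map_mul, ← hconj a]; exact congrFun hρ _,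
      Finset.sum_const, Finset.card_univ, ZMod.card, nsmul_eq_mul, smul_eq_mul, ← mul_assoc,
      inv_mul_cancel₀ hpC, one_mul] at h
    exact h
  -- a generator of the automizer
  obtain ⟨⟨u, m, hmu⟩, hgen⟩ := IsCyclic.exists_generator (α := D.act.range)
  have hord : orderOf (D.act m) = SelfCent.auto D := by
    rw [hmu, ← Subgroup.orderOf_mk (H := D.act.range) u ⟨m, hmu⟩]
    exact orderOf_eq_card_of_forall_mem_zpowers hgen
  set e := SelfCent.auto D with he
  have hepos : 0 < e := (range_pos_lt D).1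
  have hne1 : D.act m ≠ 1 := fun h => by
    rw [h, orderOf_one] at hord; rw [← hord] at hee; exact Nat.not_even_one hee
  have hme : (m : G) ^ e = 1 := by
    have h1 : ((m ^ e : nrm P) : G) ∈ (P : Subgroup G) :=
      (SelfCent.act_eq_one_iff hK _).1 (by rw [map_pow, ← hord, pow_orderOf_eq_one])
    obtain ⟨i, hi⟩ := (isOfFinOrder_of_finite D.x).mem_powers_iff_mem_zpowers.2
      (show ((m ^ e : nrm P) : G) ∈ Subgroup.zpowers D.x by rw [D.zp]; exact h1)
    have hi' : D.x ^ (i : ZMod p).val = (m : G) ^ e := by rw [D.xpow_eq]; exact hi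
    have hfix : ((D.act m : ZMod p) * (i : ZMod p)) = (i : ZMod p) := by
      apply D.xpow_inj
      rw [← D.xpow_mul, ← D.conj_x, conj_pow, hi']
      group
    have hi0 : (i : ZMod p) = 0 := by
      by_contra hne
      exact hne1 (Units.ext ((mul_eq_right₀ hne).1 hfix))
    rw [← hi', hi0, ZMod.val_zero, pow_zero]
  -- the eigenvalues
  have hsum : ∀ k < e, ρ.character ((m : G) ^ k) = if k = 0 then (n0 : ℂ) else 0 := by
    intro k hk
    split_ifs with hk0
    · rw [hk0, pow_zero, Representation.char_one, Module.finrank_fin_fun]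
    · rw [hρ]
      have := hzero (m ^ k) (by
        rw [map_pow]; exact pow_ne_one_of_lt_orderOf hk0 (hord ▸ hk))
      simpa using this
  obtain ⟨b, μ, hμ, hμk⟩ := CfsgLib.Char.exists_eigenbasis ρ (m : G)
  have hμe : ∀ i, μ i ^ e = 1 := fun i => by
    obtain ⟨c, hc⟩ := orderOf_dvd_iff_pow_eq_one.2 hme
    rw [hc, pow_mul, hμ, one_pow]
  have hfin : Module.finrank ℂ (Fin n0 → ℂ) = n0 := Module.finrank_fin_fun ℂ
  -- each root of unity occurs the same number of times
  have hmult : ∀ ω : ℂ, ω ^ e = 1 → (Finset.univ.filter fun i => μ i = ω).card = t := by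
    intro ω hω
    have hω0 : ω ≠ 0 := fun h => by rw [h, zero_pow hepos.ne'] at hω; exact zero_ne_one hω
    have h1 : ∑ k ∈ Finset.range e, ∑ i, (μ i / ω) ^ k = (n0 : ℂ) := by
      rw [Finset.sum_congr rfl fun k hk => show ∑ i, (μ i / ω) ^ k = if k = 0 then (n0 : ℂ) else 0 by
        simp only [div_pow]
        rw [← Finset.sum_div, ← CfsgLib.Char.trace_eq_sum_of_eigen _ b _ (hμk k)]
        show ρ.character ((m : G) ^ k) / ω ^ k = _
        rw [hsum k (Finset.mem_range.1 hk)]
        split_ifs with h0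
        · rw [h0, pow_zero, div_one]
        · rw [zero_div],
        Finset.sum_ite_eq', if_pos (Finset.mem_range.2 hepos)]
    rw [Finset.sum_comm, Finset.sum_congr rfl fun i _ => show ∑ k ∈ Finset.range e, (μ i / ω) ^ k
      = if μ i = ω then (e : ℂ) else 0 by
        split_ifs with hi
        · rw [hi, div_self hω0]; simp
        · rw [geom_sum_eq (fun h => hi ((div_eq_one_iff_eq hω0).1 h)), div_pow, hμe, hω, div_self one_ne_zero,
            sub_self, zero_div],
      ← Finset.sum_filter, Finset.sum_const, nsmul_eq_mul, ← Nat.cast_mul, Nat.cast_inj] at h1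
    have hn0 : n0 = t * e := by omega
    exact Nat.eq_of_mul_eq_mul_right hepos (h1.trans hn0)
  have hdet : LinearMap.det (ρ (m : G)) = -1 := by
    have hmat : LinearMap.toMatrix b b (ρ (m : G)) = Matrix.diagonal μ := by
      ext i j
      have h := hμk 1 j
      rw [pow_one, pow_one] at h
      rw [LinearMap.toMatrix_apply, h, map_smul, Finsupp.smul_apply, Module.Basis.repr_self,
        Finsupp.single_apply, Matrix.diagonal_apply, smul_eq_mul]
      by_cases hij : i = j
      · subst hij; simp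
      · simp [hij, Ne.symm hij]
    rw [← LinearMap.det_toMatrix b, hmat, Matrix.det_diagonal,
      ← Finset.prod_fiberwise_of_maps_to (g := μ) (t := Polynomial.nthRootsFinset e (1 : ℂ))
        (fun i _ => (Polynomial.mem_nthRootsFinset hepos 1).2 (hμe i)),
      Finset.prod_congr rfl fun ω hω => show ∏ i ∈ Finset.univ.filter (fun i => μ i = ω), μ i = ω ^ t by
        rw [← hmult ω ((Polynomial.mem_nthRootsFinset hepos 1).1 hω), ← Finset.prod_const]
        exact Finset.prod_congr rfl fun i hi => (Finset.mem_filter.1 hi).2,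
      Finset.prod_pow]
    have hζ := Complex.isPrimitiveRoot_exp e hepos.ne'
    have h := congrArg (Polynomial.eval (0 : ℂ)) (Polynomial.X_pow_sub_one_eq_prod hepos hζ)
    rw [Polynomial.eval_sub, Polynomial.eval_pow, Polynomial.eval_X, Polynomial.eval_one, zero_pow hepos.ne',
      Polynomial.eval_prod] at h
    simp only [Polynomial.eval_sub, Polynomial.eval_X, Polynomial.eval_C, zero_sub] at h
    rw [Finset.prod_neg, hζ.card_nthRootsFinset, hee.neg_one_pow, one_mul] at h
    rw [← h, (Nat.not_even_iff_odd.1 htev).neg_one_pow]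
  -- a linear character with the value `-1`
  let f : G →* ℂˣ := MonoidHom.toHomUnits (LinearMap.det.comp ρ)
  have hfm : (f (m : G) : ℂ) = -1 := hdet
  have h2 : orderOf (f (m : G)) = 2 := orderOf_eq_prime
    (Units.ext (by rw [Units.val_pow_eq_pow_val, hfm]; norm_num))
    (fun h => by rw [h, Units.val_one] at hfm; norm_num at hfm)
  refine even_iff_two_dvd.2 ?_
  have h3 : orderOf (f (m : G)) ∣ f.ker.index := by
    rw [Subgroup.index_ker]
    exact Subgroup.orderOf_dvd_natCard _ ⟨(m : G), rfl⟩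
  rw [h2] at h3
  exact h3.trans (Subgroup.index_dvd_of_le (Abelianization.commutator_subset_ker f))

end Cfsg.Agent.S4508
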