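import Cfsg.Statements.S0840
import Cfsg.Agent.Lib.Char.ClassSum

set_option autoImplicit false
open scoped ComplexConjugate
open Cfsg
open scoped ComplexConjugate
open CfsgLib

namespace Cfsg.Agent.S0840

/-- Class multiplication coefficients from the character table: for elements a, b, c of a finite group G, the number of ordered pairs (x, y) with x conjugate to a, y conjugate to b and x * y = c equals the product of the sizes of the conjugacy classes of a and b, divided by the order of G, times the sum over the irreducible characters χ of χ a * χ b * conj (χ c) / χ 1. -/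
theorem result {G : Type*} [Group G] [Finite G] (a b c : G) : (Nat.card {p : G × G // IsConj a p.1 ∧ IsConj b p.2 ∧ p.1 * p.2 = c} : ℂ) = (Nat.card {x : G // IsConj a x} : ℂ) * (Nat.card {x : G // IsConj b x} : ℂ) / (Nat.card G : ℂ) * ∑ᶠ χ : Cfsg.IrrCharacter G, (χ : G → ℂ) a * (χ : G → ℂ) b * conj ((χ : G → ℂ) c) / (χ : G → ℂ) 1 := by
  classical
  haveI := Fintype.ofFinite G
  rw [finsum_eq_sum_of_fintype]
  set Ca := Nat.card (Subgroup.centralizer ({a} : Set G))
  set Cb := Nat.card (Subgroup.centralizer ({b} : Set G))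
  have hfib : ∀ (e : G) (F : G → ℂ), ∑ s : G, F (s * e * s⁻¹) =
      (Nat.card (Subgroup.centralizer ({e} : Set G)) : ℂ) * ∑ x with IsConj e x, F x := by
    intro e F
    set k := (Finset.univ.filter fun s : G => s * e * s⁻¹ = e).card with hk
    have hconst : ∀ x ∈ Finset.univ.filter (fun x => IsConj e x),
        (Finset.univ.filter fun s : G => s * e * s⁻¹ = x).card = k := by
      intro x hx
      obtain ⟨c, rfl⟩ := isConj_iff.1 (Finset.mem_filter.1 hx).2
      refine Finset.card_nbij' (fun s => c⁻¹ * s) (fun s => c * s) ?_ ?_ ?_ ?_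
      · intro s hs
        simp only [Finset.coe_filter, Finset.mem_univ, true_and, Set.mem_ofPred_eq] at hs ⊢
        calc c⁻¹ * s * e * (c⁻¹ * s)⁻¹ = c⁻¹ * (s * e * s⁻¹) * c := by group
          _ = e := by rw [hs]; group
      · intro s hs
        simp only [Finset.coe_filter, Finset.mem_univ, true_and, Set.mem_ofPred_eq] at hs ⊢
        calc c * s * e * (c * s)⁻¹ = c * (s * e * s⁻¹) * c⁻¹ := by group
          _ = _ := by rw [hs]
      · intro s _; simp
      · intro s _; simp
    have hkC : k = Nat.card (Subgroup.centralizer ({e} : Set G)) := by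
      rw [Nat.card_eq_fintype_card, Fintype.card_subtype, hk]
      refine congrArg _ (Finset.filter_congr fun s _ => ?_)
      rw [Subgroup.mem_centralizer_singleton_iff, mul_inv_eq_iff_eq_mul]
    rw [← Finset.sum_fiberwise_of_maps_to (t := Finset.univ.filter fun x => IsConj e x)
      (g := fun s => s * e * s⁻¹) fun s _ => by
        simpa using isConj_iff.2 ⟨s, rfl⟩, Finset.mul_sum]
    refine Finset.sum_congr rfl fun x hx => ?_
    rw [Finset.sum_congr rfl fun s hs => congrArg F (Finset.mem_filter.1 hs).2, Finset.sum_const,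
      hconst x hx, hkC, nsmul_eq_mul]
  set N := Nat.card {p : G × G // IsConj a p.1 ∧ IsConj b p.2 ∧ p.1 * p.2 = c}
  have hN : (N : ℂ) = ∑ x with IsConj a x, ∑ y with IsConj b y,
      if x * y * c⁻¹ = 1 then (1 : ℂ) else 0 := by
    rw [← Finset.sum_product', Finset.sum_boole]
    refine congrArg _ ?_
    rw [show N = _ from Nat.card_eq_fintype_card, Fintype.card_subtype]
    refine congrArg _ (Finset.ext fun q => ?_)
    simp only [Finset.mem_filter, Finset.mem_univ, true_and, Finset.mem_product, mul_inv_eq_one]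
    tauto
  have key : ∀ χ : Cfsg.IrrCharacter G,
      ∑ x with IsConj a x, ∑ y with IsConj b y, (χ : G → ℂ) (x * y * c⁻¹) =
        (Nat.card G : ℂ) ^ 2 * (χ : G → ℂ) a * (χ : G → ℂ) b * conj ((χ : G → ℂ) c) /
          (χ : G → ℂ) 1 ^ 2 / ((Ca : ℂ) * Cb) := by
    intro χ
    have hcf := Char.IsIrrCharacter.isClassFunction χ.2
    rw [eq_div_iff (mul_ne_zero (Nat.cast_ne_zero.2 Nat.card_pos.ne')
      (Nat.cast_ne_zero.2 Nat.card_pos.ne'))]
    have h1 : ∑ s : G, ∑ t : G, (χ : G → ℂ) (s * a * s⁻¹ * (t * b * t⁻¹) * c⁻¹) =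
        (∑ x with IsConj a x, ∑ y with IsConj b y, (χ : G → ℂ) (x * y * c⁻¹)) *
          ((Ca : ℂ) * Cb) := by
      rw [hfib a fun x => ∑ t : G, (χ : G → ℂ) (x * (t * b * t⁻¹) * c⁻¹)]
      rw [Finset.sum_congr rfl fun x _ => hfib b fun y => (χ : G → ℂ) (x * y * c⁻¹),
        ← Finset.mul_sum]
      ring
    have h2 : ∀ s : G, ∑ t : G, (χ : G → ℂ) (s * a * s⁻¹ * (t * b * t⁻¹) * c⁻¹) =
        ∑ u : G, (χ : G → ℂ) (a * (u * b * u⁻¹) * (s⁻¹ * c⁻¹ * s)) := fun s =>
      Fintype.sum_equiv (Equiv.mulLeft s⁻¹) _ _ fun t => by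
        rw [← hcf _ s⁻¹]
        simp [mul_assoc]
    rw [← h1, Finset.sum_congr rfl fun s _ => h2 s, Finset.sum_comm]
    have h3 : ∀ u : G, ∑ s : G, (χ : G → ℂ) (a * (u * b * u⁻¹) * (s⁻¹ * c⁻¹ * s)) =
        (Nat.card G : ℂ) * (χ : G → ℂ) (a * (u * b * u⁻¹)) * (χ : G → ℂ) c⁻¹ / (χ : G → ℂ) 1 :=
      fun u => by
      rw [← Char.IsIrrCharacter.sum_mul_conjugate χ.2 (a * (u * b * u⁻¹)) c⁻¹]
      exact Fintype.sum_equiv (Equiv.inv G) _ _ fun s => by simp
    rw [Finset.sum_congr rfl fun u _ => h3 u, ← Finset.sum_div, ← Finset.sum_mul, ← Finset.mul_sum,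
      Char.IsIrrCharacter.sum_mul_conjugate χ.2 a b, Char.IsIrrCharacter.apply_inv χ.2]
    field_simp
  have horth : ∀ z : G, (if z = 1 then (1 : ℂ) else 0) =
      (Nat.card G : ℂ)⁻¹ * ∑ χ : Cfsg.IrrCharacter G, (χ : G → ℂ) 1 * (χ : G → ℂ) z := fun z => by
    rw [Char.regular_eq_sum_irr]
    split_ifs
    · rw [inv_mul_cancel₀ Char.card_ne_zero]
    · rw [mul_zero]
  simp only [horth] at hN
  simp only [← Finset.mul_sum] at hN
  rw [Finset.sum_congr rfl (fun x _ => Finset.sum_comm), Finset.sum_comm] at hN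
  simp only [← Finset.mul_sum, key] at hN
  have hA : (Nat.card {x : G // IsConj a x} : ℂ) * Ca = (Nat.card G : ℂ) := by
    rw [← Char.card_conjugates_mul a, Nat.cast_mul,
      Nat.card_congr (Equiv.subtypeEquivRight fun x => isConj_comm)]
  have hB : (Nat.card {x : G // IsConj b x} : ℂ) * Cb = (Nat.card G : ℂ) := by
    rw [← Char.card_conjugates_mul b, Nat.cast_mul,
      Nat.card_congr (Equiv.subtypeEquivRight fun x => isConj_comm)]
  have hCa : (Ca : ℂ) ≠ 0 := Nat.cast_ne_zero.2 Nat.card_pos.ne'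
  have hCb : (Cb : ℂ) ≠ 0 := Nat.cast_ne_zero.2 Nat.card_pos.ne'
  rw [hN, eq_div_of_mul_eq hCa hA, eq_div_of_mul_eq hCb hB, Finset.mul_sum, Finset.mul_sum]
  refine Finset.sum_congr rfl fun χ _ => ?_
  have := Char.IsIrrCharacter.apply_one_ne_zero χ.2
  have hG : (Nat.card G : ℂ) ≠ 0 := Char.card_ne_zero
  field_simp

end Cfsg.Agent.S0840
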