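import Cfsg.Statements.S1510
import Cfsg.Agent.Lib.Char.Linear
import Cfsg.Agent.Lib.Coprime.SchurZassenhaus
-- import your own Cfsg.Agent.* helpers here

set_option autoImplicit false
open Cfsg

namespace Cfsg.Agent.S1510

theorem selfNormalizing {L : Type*} [Group L] [Fintype L] (K W₁ W₂ : Subgroup L) [K.Normal]
    (hKW₁ : K ⊓ W₁ = ⊥) (hKW₁' : K ⊔ W₁ = ⊤) (hW₁ : W₁ ≠ ⊥) (hW₁c : IsCyclic W₁)
    (hHall : Nat.Coprime (Nat.card W₁) W₁.index) (hW₂ : W₂ ≠ ⊥) (hW₂c : IsCyclic W₂)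
    (hW₂K : W₂ ≤ K) (hC : ∀ x ∈ W₁, x ≠ 1 → K ⊓ Subgroup.centralizer ({x} : Set L) = W₂) :
    Cfsg.IsSelfNormalizingCyclic W₁ W₂ := by
  classical
  have hdis : W₁ ⊓ W₂ = ⊥ := by
    rw [eq_bot_iff, ← hKW₁]
    exact le_inf (inf_le_right.trans hW₂K) inf_le_left
  have hcomm : ∀ a ∈ W₁, ∀ b ∈ W₂, a * b = b * a := by
    intro a ha b hb
    by_cases ha1 : a = 1
    · simp [ha1]
    rw [← hC a ha ha1] at hb
    exact (Subgroup.mem_centralizer_singleton_iff.mp hb.2).symm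
  have hn : W₂ ≤ Subgroup.normalizer (W₁ : Set L) := fun b hb =>
    CfsgLib.Coprime.mem_normalizer_of_conj_map_le fun a ha => by
      rwa [← hcomm a ha b hb, mul_inv_cancel_right]
  have hdec : ∀ w ∈ W₁ ⊔ W₂, ∃ a ∈ W₁, ∃ b ∈ W₂, a * b = w := fun w hw =>
    (CfsgLib.Coprime.mem_sup_of_le_normalizer hn).mp hw
  have hcop : Nat.Coprime (Nat.card W₁) (Nat.card W₂) := by
    have hKi : W₁.index = Nat.card K := by
      have h1 := CfsgLib.Coprime.card_sup_of_le_normalizer (N := K) (H := W₁)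
        (by rw [Subgroup.normalizer_eq_top]; exact le_top) (disjoint_iff.mpr hKW₁)
      rw [hKW₁', Subgroup.card_top] at h1
      have h2 := W₁.index_mul_card
      rw [h1] at h2
      exact Nat.eq_of_mul_eq_mul_right Nat.card_pos h2
    exact (hKi ▸ hHall).coprime_dvd_right (Subgroup.card_dvd_of_le hW₂K)
  have hcyc : IsCyclic ↥(W₁ ⊔ W₂) := by
    obtain ⟨⟨a, ha⟩, hag⟩ := hW₁c.exists_generator
    obtain ⟨⟨b, hb⟩, hbg⟩ := hW₂c.exists_generator
    refine isCyclic_of_orderOf_eq_card ⟨a * b, Subgroup.mul_mem_sup ha hb⟩ ?_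
    rw [Subgroup.orderOf_mk, CfsgLib.Coprime.card_sup_of_le_normalizer hn (disjoint_iff.mpr hdis)]
    have e1 : orderOf a = Nat.card W₁ := by
      rw [← orderOf_eq_card_of_forall_mem_zpowers hag, Subgroup.orderOf_mk]
    have e2 : orderOf b = Nat.card W₂ := by
      rw [← orderOf_eq_card_of_forall_mem_zpowers hbg, Subgroup.orderOf_mk]
    rw [(show Commute a b from hcomm a ha b hb).orderOf_mul_eq_mul_orderOf_of_coprime
      (by rw [e1, e2]; exact hcop), e1, e2]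
  refine ⟨hW₁, hW₂, hdis, hcomm, hcyc, fun X hX hXne => le_antisymm (fun g hg => ?_) (fun w hw => ?_)⟩
  · obtain ⟨x, hx⟩ := hXne
    obtain ⟨hxW, hxn⟩ := hX hx
    have hy : g * x * g⁻¹ ∈ X := (Subgroup.mem_set_normalizer_iff.mp hg x).mp hx
    obtain ⟨hyW, -⟩ := hX hy
    obtain ⟨a, ha, b, hb, rfl⟩ := hdec _ hxW
    obtain ⟨c, hc, d, hd, hcd⟩ := hdec _ hyW
    have ha1 : a ≠ 1 := fun h => hxn (Or.inr (by rw [h, one_mul]; exact hb))
    obtain ⟨s, hs1, hs2⟩ : ∃ s : ℕ, s ≡ 1 [MOD Nat.card W₁] ∧ s ≡ 0 [MOD Nat.card W₂] := by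
      obtain ⟨s, hs⟩ := Nat.chineseRemainder hcop 1 0
      exact ⟨s, hs⟩
    have hpow : ∀ a ∈ W₁, ∀ b ∈ W₂, (a * b) ^ s = a := by
      intro a ha b hb
      rw [(show Commute a b from hcomm a ha b hb).mul_pow,
        orderOf_dvd_iff_pow_eq_one.mp
          ((Subgroup.orderOf_dvd_natCard W₂ hb).trans (Nat.modEq_zero_iff_dvd.mp hs2)), mul_one]
      conv_rhs => rw [← pow_one a]
      exact pow_eq_pow_iff_modEq.mpr (hs1.of_dvd (Subgroup.orderOf_dvd_natCard W₁ ha))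
    have hgac : g * a * g⁻¹ = c := by
      rw [← hpow c hc d hd, hcd, conj_pow, hpow a ha b hb]
    obtain ⟨k, hk, e, he, hke⟩ :=
      Subgroup.mem_sup_of_normal_left.mp (hKW₁' ▸ Subgroup.mem_top g : g ∈ K ⊔ W₁)
    have hea : e * a * e⁻¹ = a := by
      let _ : CommGroup W₁ := hW₁c.commGroup
      have := congrArg Subtype.val (mul_comm (⟨e, he⟩ : W₁) ⟨a, ha⟩)
      rw [show e * a = a * e from this, mul_inv_cancel_right]
    have hkac : k * a * k⁻¹ = c := by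
      rw [← hgac, ← hke]
      conv_lhs => rw [← hea]
      group
    have hca : c = a := by
      have h1 : k * (a * k⁻¹ * a⁻¹) ∈ K :=
        K.mul_mem hk ((inferInstance : K.Normal).conj_mem _ (K.inv_mem hk) a)
      have h2 : c * a⁻¹ ∈ K ⊓ W₁ := ⟨by rw [← hkac]; simpa [mul_assoc] using h1,
        W₁.mul_mem hc (W₁.inv_mem ha)⟩
      rw [hKW₁, Subgroup.mem_bot, mul_inv_eq_one] at h2
      exact h2
    have hkc : k ∈ K ⊓ Subgroup.centralizer ({a} : Set L) :=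
      ⟨hk, Subgroup.mem_centralizer_singleton_iff.mpr (by
        rw [hca] at hkac; exact mul_inv_eq_iff_eq_mul.mp hkac)⟩
    rw [hC a ha ha1] at hkc
    rw [← hke]
    exact Subgroup.mul_mem _ (Subgroup.mem_sup_right hkc) (Subgroup.mem_sup_left he)
  · rw [Subgroup.mem_set_normalizer_iff]
    intro x
    let _ : CommGroup ↥(W₁ ⊔ W₂) := hcyc.commGroup
    have key : ∀ y ∈ W₁ ⊔ W₂, w * y * w⁻¹ = y := fun y hy => by
      have := congrArg Subtype.val (mul_comm (⟨w, hw⟩ : ↥(W₁ ⊔ W₂)) ⟨y, hy⟩)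
      rw [show w * y = y * w from this, mul_inv_cancel_right]
    constructor
    · intro hx
      rwa [key x (hX hx).1]
    · intro hx
      have h1 : w * x * w⁻¹ ∈ W₁ ⊔ W₂ := (hX hx).1
      have h2 : x ∈ W₁ ⊔ W₂ := by
        have := mul_mem (mul_mem (inv_mem hw) h1) hw
        simpa [mul_assoc] using this
      rwa [key x h2] at hx

/-- Let L be a finite group with a normal subgroup K and a nontrivial cyclic subgroup W₁ of order coprime to its index, K ⊓ W₁ = ⊥ and K ⊔ W₁ = ⊤; let W₂ ≠ ⊥ be a cyclic subgroup of K with K ⊓ C_L(x) = W₂ for every non-identity x ∈ W₁, and suppose W₁ ⊔ W₂ has odd order. Then (W₁, W₂) is a self-normalising cyclic pair in L. -/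
theorem result {L : Type*} [Group L] [Fintype L] (K W₁ W₂ : Subgroup L) [hK : K.Normal] (hKW₁ : K ⊓ W₁ = ⊥) (hKW₁' : K ⊔ W₁ = ⊤) (hW₁ : W₁ ≠ ⊥) (hW₁c : IsCyclic W₁) (hHall : Nat.Coprime (Nat.card W₁) W₁.index) (hW₂ : W₂ ≠ ⊥) (hW₂c : IsCyclic W₂) (hW₂K : W₂ ≤ K) (hC : ∀ x ∈ W₁, x ≠ 1 → K ⊓ Subgroup.centralizer ({x} : Set L) = W₂) (hodd : Odd (Nat.card ↥(W₁ ⊔ W₂))) : Cfsg.IsSelfNormalizingCyclic W₁ W₂ := by
  exact selfNormalizing K W₁ W₂ hKW₁ hKW₁' hW₁ hW₁c hHall hW₂ hW₂c hW₂K hC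


end Cfsg.Agent.S1510
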