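import Cfsg.Statements.S1506
import Cfsg.Agent.Lib.Char.CyclicTI
-- import your own Cfsg.Agent.* helpers here

set_option autoImplicit false
open Cfsg

namespace Cfsg.Agent.S1506

/-- Let W₁, W₂ ≤ G form a self-normalising cyclic subgroup W = W₁ ⊔ W₂ and χ an orthonormal family of irreducible characters of G up to sign, indexed by the linear characters ω of W, with χ_1 = 1, χ_ω = ω on W outside W₁ ∪ W₂, and the induction identity for (1 − φ)(1 − ψ). Let θ be a class function of G vanishing at every element of W outside W₁ ∪ W₂. For linear characters φ, φ' of W trivial on W₂ and ψ, ψ' trivial on W₁, the inner products a(ω) = ⟨θ, χ ω⟩ satisfy a(φψ) + a(φ'ψ') = a(φψ') + a(φ'ψ). -/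
theorem result {G : Type*} [Group G] [Fintype G] (W₁ W₂ : Subgroup G) (hW : Cfsg.IsSelfNormalizingCyclic W₁ W₂) (χ : (↥(W₁ ⊔ W₂) →* ℂˣ) → (G → ℂ)) (hχ : Cfsg.IsCyclicTIFamily W₁ W₂ χ) (θ : G → ℂ) (hθ : Cfsg.IsClassFunction G θ) (hθV : ∀ w : ↥(W₁ ⊔ W₂), (w : G) ∉ W₁ → (w : G) ∉ W₂ → θ w = 0) (φ φ' ψ ψ' : ↥(W₁ ⊔ W₂) →* ℂˣ) (hφ₂ : ∀ w : ↥(W₁ ⊔ W₂), (w : G) ∈ W₂ → φ w = 1 ∧ φ' w = 1) (hψ₁ : ∀ w : ↥(W₁ ⊔ W₂), (w : G) ∈ W₁ → ψ w = 1 ∧ ψ' w = 1) : Cfsg.classInner θ (χ (φ * ψ)) + Cfsg.classInner θ (χ (φ' * ψ')) = Cfsg.classInner θ (χ (φ * ψ')) + Cfsg.classInner θ (χ (φ' * ψ)) := by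

  classical
  cases nonempty_fintype ↥(W₁ ⊔ W₂)
  have key : ∀ f g : ↥(W₁ ⊔ W₂) →* ℂˣ, (∀ w : ↥(W₁ ⊔ W₂), (w : G) ∈ W₂ → f w = 1) →
      (∀ w : ↥(W₁ ⊔ W₂), (w : G) ∈ W₁ → g w = 1) →
      Cfsg.classInner θ (χ (f * g)) = Cfsg.classInner θ (χ f) + Cfsg.classInner θ (χ g) -
        Cfsg.classInner θ (χ 1) := by
    intro f g hf hg
    by_cases h1 : f = 1
    · rw [h1, show (1 : ↥(W₁ ⊔ W₂) →* ℂˣ) * g = g from MonoidHom.ext fun _ => one_mul _]; ring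
    by_cases h2 : g = 1
    · rw [h2, show f * (1 : ↥(W₁ ⊔ W₂) →* ℂˣ) = f from MonoidHom.ext fun _ => mul_one _]; ring
    have h := CfsgLib.Char.CyclicTI.classInner_family hW hχ hθ f g h1 h2 hf hg
    have h0 : Cfsg.classInner (fun w : ↥(W₁ ⊔ W₂) => θ w) (CfsgLib.Char.CyclicTI.alpha f g) = 0 := by
      rw [Cfsg.classInner]
      refine mul_eq_zero_of_right _ (Finset.sum_eq_zero fun w _ => ?_)
      by_cases hw : (w : G) ∈ CfsgLib.Char.CyclicTI.vset W₁ W₂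
      · obtain ⟨-, p, q⟩ := CfsgLib.Char.CyclicTI.mem_vset.mp hw
        rw [hθV w p q, zero_mul]
      · rw [CfsgLib.Char.CyclicTI.alpha_eq_zero f g hf hg w hw, map_zero, mul_zero]
    rw [h0] at h
    linear_combination -h
  rw [key φ ψ (fun w h => (hφ₂ w h).1) (fun w h => (hψ₁ w h).1),
    key φ' ψ' (fun w h => (hφ₂ w h).2) (fun w h => (hψ₁ w h).2),
    key φ ψ' (fun w h => (hφ₂ w h).1) (fun w h => (hψ₁ w h).2),
    key φ' ψ (fun w h => (hφ₂ w h).2) (fun w h => (hψ₁ w h).1)]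
  ring


end Cfsg.Agent.S1506
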