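import Cfsg.Statements.S0495
import Cfsg.Agent.Lib.Sporadic.SimpleIso168
import Cfsg.Agent.Lib.Classical.SLBasic
import Cfsg.Agent.Lib.Classical.SLOrders
import Cfsg.Agent.Lib.Classical.SL2Sylow

set_option autoImplicit false
open Cfsg

namespace Cfsg.Agent.S0495

theorem card168 {F : Type*} [Field F] [Fintype F] (hF : Fintype.card F = 7) :
    Nat.card (Matrix.ProjectiveSpecialLinearGroup (Fin 2) F) = 168 := by
  have h := CfsgLib.Classical.card_psl_mul hF 2 (by norm_num)
  rw [CfsgLib.Classical.card_sl2 hF] at h
  norm_num at h
  omega

/-- A simple group of order 168 is isomorphic to the projective special linear group of dimension 2 over the field with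
7 elements. -/
theorem result {G : Type*} [Group G] [Finite G] [IsSimpleGroup G]
    (h : Nat.card G = 168) {F : Type*} [Field F] [Fintype F] (hF : Fintype.card F = 7) :
    Nonempty (G ≃* Matrix.ProjectiveSpecialLinearGroup (Fin 2) F) := by
  haveI := CfsgLib.Classical.psl_fin_isSimpleGroup (F := F) (k := 2) le_rfl (fun _ => by omega)
  exact CfsgLib.Sporadic.SimpleIso168.unique h (card168 hF)

end Cfsg.Agent.S0495
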