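import Cfsg.Statements.S3280
import Cfsg.Agent.Lib.SelfCentFour.Reduce
-- import your own Cfsg.Agent.* helpers here

set_option autoImplicit false
open Cfsg

namespace Cfsg.Agent.S3280

/-- A non-cyclic finite simple group containing an element whose centralizer has order at most 4 is isomorphic to the alternating group of degree 5, 6 or 7, or to PSL(2, 7). -/
theorem result {G : Type*} [Group G] [Finite G] [IsSimpleGroup G] (hG : ¬ IsCyclic G)
    (w : G) (hw : Nat.card ↥(Subgroup.centralizer ({w} : Set G)) ≤ 4) :
    Nonempty (G ≃* ↥(alternatingGroup (Fin 5))) ∨ Nonempty (G ≃* ↥(alternatingGroup (Fin 6))) ∨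
      Nonempty (G ≃* ↥(alternatingGroup (Fin 7))) ∨
      (∃ (F : Type) (_ : Field F) (_ : Fintype F), Fintype.card F = 7 ∧ Nonempty (G ≃* Matrix.ProjectiveSpecialLinearGroup (Fin 2) F)) := by
  have hna : ¬ IsMulCommutative G := fun h => hG (by
    letI : CommGroup G := { (inferInstance : Group G) with mul_comm := fun a b => h.is_comm.comm a b }
    exact IsSimpleGroup.isCyclic)
  have hwC : w ∈ Subgroup.centralizer ({w} : Set G) := Subgroup.mem_centralizer_singleton_iff.2 rfl
  have hpos : 0 < Nat.card (Subgroup.centralizer ({w} : Set G)) := Nat.card_pos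
  have hdvd : orderOf w ∣ Nat.card (Subgroup.centralizer ({w} : Set G)) := by
    rw [← Subgroup.orderOf_mk w hwC]; exact orderOf_dvd_natCard _
  have hw1 : w ≠ 1 := by
    rintro rfl
    have h' : Subgroup.centralizer ({1} : Set G) = ⊤ :=
      eq_top_iff.2 fun g _ => Subgroup.mem_centralizer_singleton_iff.2 (by rw [one_mul, mul_one])
    rw [h', Subgroup.card_top] at hw
    have h2 : 2 ∣ Nat.card G := CfsgLib.Involution.SelfCentNoncyclic.two_dvd_card hna
    rcases (show Nat.card G = 2 ∨ Nat.card G = 4 by
      have := Nat.le_of_dvd Nat.card_pos h2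
      omega) with e | e
    · have : Fact (Nat.Prime 2) := ⟨Nat.prime_two⟩
      exact hG (isCyclic_of_prime_card e)
    · have : Fact (Nat.Prime 2) := ⟨Nat.prime_two⟩
      exact hna (IsPGroup.isMulCommutative_of_card_eq_prime_sq (p := 2) (by rw [e]; norm_num))
  have hne1 : orderOf w ≠ 1 := fun e => hw1 (orderOf_eq_one_iff.1 e)
  have hc1 : Nat.card (Subgroup.centralizer ({w} : Set G)) ≠ 1 := fun e => hne1 (Nat.dvd_one.1 (e ▸ hdvd))
  rcases (show Nat.card (Subgroup.centralizer ({w} : Set G)) = 2 ∨
      Nat.card (Subgroup.centralizer ({w} : Set G)) = 3 ∨ Nat.card (Subgroup.centralizer ({w} : Set G)) = 4 by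
    omega) with e | e | e
  · exfalso
    have : Fact (Nat.Prime 2) := ⟨Nat.prime_two⟩
    have hp : IsPGroup 2 (Subgroup.centralizer ({w} : Set G)) := IsPGroup.of_card (n := 1) (by rw [e]; norm_num)
    obtain ⟨S, hS⟩ := hp.exists_le_sylow
    obtain ⟨t, u, ht, hu, htS, huS, hut, hc⟩ :=
      CfsgLib.Involution.SelfCentNoncyclic.exists_two_involutions hna S
    have hmem : ∀ x : G, x ∈ Subgroup.centralizer ({w} : Set G) → x = 1 ∨ x = w := by
      intro x hx
      by_contra hx'
      push Not at hx'
      have h3 : 3 ≤ Nat.card (Subgroup.centralizer ({w} : Set G)) := by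
        classical
        have h' : ({1, w, x} : Finset G).card = 3 := by
          rw [Finset.card_insert_of_notMem (by simp [hw1.symm, hx'.1.symm]), Finset.card_pair hx'.2.symm]
        rw [← h', ← Nat.card_eq_finsetCard]
        refine Nat.card_le_card_of_injective (fun y => ⟨y.1, ?_⟩)
          fun a c h => Subtype.ext (congrArg Subtype.val h :)
        have := y.2
        simp only [Finset.mem_insert, Finset.mem_singleton] at this
        rcases this with h | h | h <;> rw [h]
        exacts [one_mem _, hwC, hx]
      omega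
    have htw : t = w := (hmem t (Subgroup.mem_centralizer_singleton_iff.2 (hc w (hS hwC)).symm)).resolve_left
      fun h => by rw [h, orderOf_one] at ht; norm_num at ht
    have huw : u = w := (hmem u (Subgroup.mem_centralizer_singleton_iff.2 (htw ▸ hc u huS))).resolve_left
      fun h => by rw [h, orderOf_one] at hu; norm_num at hu
    exact hut (huw.trans htw.symm)
  · have : Fact (Nat.Prime 3) := ⟨Nat.prime_three⟩
    set X := Subgroup.centralizer ({w} : Set G) with hXd
    have hXz : X = Subgroup.zpowers w := by
      refine (Subgroup.eq_of_le_of_card_ge (Subgroup.zpowers_le.2 hwC) ?_).symm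
      rcases (Nat.dvd_prime Nat.prime_three).1 (e ▸ hdvd) with h | h
      · exact absurd h hne1
      · rw [e, Nat.card_zpowers, h]
    have hC : Subgroup.centralizer (X : Set G) = X := by
      nth_rewrite 1 [hXz]
      rw [Subgroup.zpowers_eq_closure, Subgroup.centralizer_closure]
    rcases Cfsg.Agent.S3331.result X e hC with ⟨N, hN, -, hNc, hq⟩ | ⟨N, hN, hNcomm, -, ⟨f⟩⟩ | h
    · exfalso
      have := hN
      rcases hN.eq_bot_or_eq_top with h' | h'
      · subst h'
        rcases hq with hq | ⟨⟨f⟩⟩
        · rw [Nat.card_congr (QuotientGroup.quotientBot (G := G)).toEquiv] at hq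
          exact hG (isCyclic_of_prime_card hq)
        · have hcard : Nat.card G = 6 := by
            rw [← Nat.card_congr (QuotientGroup.quotientBot (G := G)).toEquiv, Nat.card_congr f.toEquiv,
              Nat.card_perm, Nat.card_fin]
            rfl
          have hne : X ≠ ⊤ := fun h => by rw [h, Subgroup.card_top] at e; omega
          have hd := CfsgLib.SmallGroups.SimpleTools.two_mul_card_dvd_factorial hna X hne
          have hi : X.index = 2 := by
            have := X.index_mul_card
            rw [e, hcard] at this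
            omega
          rw [hi, hcard] at hd
          revert hd
          decide
      · rw [h', Subgroup.card_top] at hNc
        have h3 : 3 ∣ Nat.card G := e ▸ Subgroup.card_subgroup_dvd_card X
        have := Nat.eq_one_of_dvd_coprimes hNc h3 dvd_rfl
        omega
    · rcases hN.eq_bot_or_eq_top with h' | h'
      · subst h'
        exact Or.inl ⟨(QuotientGroup.quotientBot.symm).trans f⟩
      · exfalso
        subst h'
        exact hna ⟨⟨fun a b => congrArg Subtype.val
          (hNcomm.is_comm.comm (⟨a, Subgroup.mem_top a⟩ : (⊤ : Subgroup G)) ⟨b, Subgroup.mem_top b⟩)⟩⟩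
    · exact Or.inr (Or.inr (Or.inr ⟨ZMod 7, @ZMod.instField 7 ⟨by norm_num⟩, ZMod.fintype 7, ZMod.card 7, h⟩))
  · rcases CfsgLib.SelfCentFour.of_card_four hna e with h | h | h | h
    exacts [Or.inl h, Or.inr (Or.inl h), Or.inr (Or.inr (Or.inl h)), Or.inr (Or.inr (Or.inr h))]

end Cfsg.Agent.S3280
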