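import Cfsg.Statements.S0984
import Cfsg.Agent.S3280
import Cfsg.Agent.Lib.SmallGroups.Order2520
import Cfsg.Agent.Lib.Char.FewSylow.Cubed
-- import your own Cfsg.Agent.* helpers here

set_option autoImplicit false
open Cfsg

namespace Cfsg.Agent.S0984

/-- A simple group of order 2520 is isomorphic to the alternating group of degree 7. -/
theorem result {G : Type*} [Group G] [Finite G] [IsSimpleGroup G] (h : Nat.card G = 2520) : Nonempty (G ≃* alternatingGroup (Fin 7)) := by
  have hG : ¬ IsMulCommutative G :=
    CfsgLib.SmallGroups.SimpleTools.not_comm_of_card (by rw [h]; norm_num)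
  by_cases h7 : ∃ H : Subgroup G, H.index = 7
  · obtain ⟨H, hH⟩ := h7
    have hHtop : H ≠ ⊤ := fun e => by rw [e, Subgroup.index_top] at hH; omega
    obtain ⟨f, hf⟩ := CfsgLib.SmallGroups.SimpleTools.exists_embedding hG H hHtop
    have hc : Nat.card G = Nat.card (alternatingGroup (Fin H.index)) := by
      rw [hH, nat_card_alternatingGroup, Nat.card_fin, h]; rfl
    rw [← hH]
    exact ⟨MulEquiv.ofBijective f ((Nat.bijective_iff_injective_and_card f).2 ⟨hf, hc⟩)⟩
  push Not at h7
  have hsmall : ∀ H : Subgroup G, H ≠ ⊤ → Nat.card H ≤ 315 := by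
    intro H hH
    have hd := CfsgLib.SmallGroups.SimpleTools.two_mul_card_dvd_factorial hG H hH
    rw [h] at hd
    have h8 : 8 ≤ H.index := by
      by_contra hlt
      push Not at hlt
      have hn := h7 H
      have hpos : H.index ≠ 0 := Subgroup.index_ne_zero_of_finite
      generalize H.index = n at hd hlt hn hpos
      interval_cases n <;> simp_all [Nat.factorial]
    have hm := H.index_mul_card
    rw [h] at hm
    nlinarith
  obtain ⟨f, hf⟩ := CfsgLib.SmallGroups.Order2520.Hyp.exists_small ⟨h, hG, hsmall⟩
  rcases Cfsg.Agent.S3280.result (fun hc => hG hc.isMulCommutative) f hf with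
    e | e | e | ⟨F, iF, iFF, hF, he⟩
  · exfalso
    obtain ⟨e⟩ := e
    have h' := Nat.card_congr e.toEquiv
    rw [h, nat_card_alternatingGroup, Nat.card_fin] at h'
    simp [Nat.factorial] at h'
  · exfalso
    obtain ⟨e⟩ := e
    have h' := Nat.card_congr e.toEquiv
    rw [h, nat_card_alternatingGroup, Nat.card_fin] at h'
    simp [Nat.factorial] at h'
  · exact e
  · exfalso
    obtain ⟨e⟩ := he
    have h' := CfsgLib.Char.FewSylow.card_psl_two (F := F)
    rw [← Nat.card_congr e.toEquiv, h, hF] at h'
    norm_num at h'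

end Cfsg.Agent.S0984
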