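import Cfsg.Statements.S0740
-- import your own Cfsg.Agent.* helpers here

set_option autoImplicit false
open Cfsg

namespace Cfsg.Agent.S0740

/-- In a finite Zassenhaus group any two points `a ≠ b` are swapped by an involution; every such involution has exactly one fixed point when the degree is odd and 0 or 2 fixed points when the degree is even; and if the two-point stabiliser has even order, some such involution has exactly 2 fixed points. -/
theorem result {G Ω : Type*} [Group G] [Finite G] [MulAction G Ω] [Fintype Ω] (hZ : Cfsg.IsZassenhausGroup G Ω) {a b : Ω} (hab : a ≠ b) : (∃ s : G, orderOf s = 2 ∧ s • a = b ∧ s • b = a) ∧ (∀ s : G, orderOf s = 2 → s • a = b → s • b = a → (Odd (Fintype.card Ω) → Nat.card (MulAction.fixedBy Ω s) = 1) ∧ (Even (Fintype.card Ω) → Nat.card (MulAction.fixedBy Ω s) = 0 ∨ Nat.card (MulAction.fixedBy Ω s) = 2)) ∧ (Even (Fintype.card Ω) → Even (Nat.card ↥(MulAction.stabilizer G a ⊓ MulAction.stabilizer G b)) → ∃ s : G, orderOf s = 2 ∧ s •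 a = b ∧ s • b = a ∧ Nat.card (MulAction.fixedBy Ω s) = 2) := by
  classical
  obtain ⟨hfaith, h2, h3, -, -⟩ := hZ
  haveI := hfaith
  open MulAction in
  have htr : ∀ u v x y : Ω, u ≠ v → x ≠ y → ∃ g : G, g • u = x ∧ g • v = y := fun u v x y h h' =>
    is_two_pretransitive_iff.mp h2 h h'
  have hfix2 : ∀ g : G, g ≠ 1 → Nat.card (MulAction.fixedBy Ω g) ≤ 2 := by
    intro g hg
    by_contra hlt
    rw [Nat.card_eq_fintype_card, ← Set.toFinset_card, not_le] at hlt
    obtain ⟨x, y, z, hx, hy, hz, hxy, hxz, hyz⟩ := Finset.two_lt_card_iff.mp hlt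
    simp only [Set.mem_toFinset, MulAction.mem_fixedBy] at hx hy hz
    exact hg (h3 g x y z hxy hyz hxz hx hy hz)
  have hinv : ∀ s : G, orderOf s = 2 → ∀ x : Ω, s • s • x = x := fun s hs x => by
    rw [smul_smul, ← sq, ← hs, pow_orderOf_eq_one, one_smul]
  have hne1 : ∀ s : G, orderOf s = 2 → s ≠ 1 := fun s hs h => by simp [h] at hs
  have hpar : ∀ s : G, orderOf s = 2 →
      Nat.card (MulAction.fixedBy Ω s) % 2 = Fintype.card Ω % 2 := by
    intro s hs
    have hP : IsPGroup 2 (Subgroup.zpowers s) :=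
      IsPGroup.of_card (n := 1) (by rw [Nat.card_zpowers, hs, pow_one])
    haveI : Fact (Nat.Prime 2) := ⟨Nat.prime_two⟩
    have h := hP.card_modEq_card_fixedPoints Ω
    have hset : MulAction.fixedPoints (Subgroup.zpowers s) Ω = MulAction.fixedBy Ω s := by
      ext x
      simp only [MulAction.mem_fixedPoints, MulAction.mem_fixedBy]
      refine ⟨fun h => h ⟨s, Subgroup.mem_zpowers s⟩, fun h g => ?_⟩
      have : Subgroup.zpowers s ≤ MulAction.stabilizer G x := Subgroup.zpowers_le.mpr h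
      exact this g.2
    rw [hset, Nat.card_eq_fintype_card (α := Ω)] at h
    exact h.symm
  -- every involution moves a pair, which can be carried to `{a, b}`
  have hmove : ∀ s : G, orderOf s = 2 → ∃ t : G, orderOf t = 2 ∧ t • a = b ∧ t • b = a ∧
      Nat.card (MulAction.fixedBy Ω t) = Nat.card (MulAction.fixedBy Ω s) := by
    intro s hs
    obtain ⟨u, hu⟩ : ∃ u : Ω, s • u ≠ u := by
      by_contra! h
      exact hne1 s hs (eq_of_smul_eq_smul (α := Ω) fun x => by rw [h x, one_smul])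
    obtain ⟨g, hga, hgb⟩ := htr u (s • u) a b (Ne.symm hu) hab
    refine ⟨g * s * g⁻¹, ?_, ?_, ?_, ?_⟩
    · rw [← hs]
      exact orderOf_injective (MulAut.conj g).toMonoidHom (MulAut.conj g).injective s
    · rw [mul_smul, mul_smul, inv_smul_eq_iff.mpr hga.symm, hgb]
    · rw [mul_smul, mul_smul, inv_smul_eq_iff.mpr hgb.symm, hinv s hs, hga]
    · rw [← MulAction.smul_fixedBy, Nat.card_coe_set_eq, Nat.card_coe_set_eq,
        Set.ncard_smul_set]
  refine ⟨?_, fun s hs _ _ => ⟨fun ho => ?_, fun he => ?_⟩, fun he heD => ?_⟩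
  · obtain ⟨g, hga, hgb⟩ := htr a b b a hab hab.symm
    obtain ⟨n, hn⟩ : Even (orderOf g) := by
      by_contra ho
      rw [Nat.not_even_iff_odd] at ho
      obtain ⟨k, hk⟩ := ho
      have h2' : g ^ 2 ∈ MulAction.stabilizer G a := by
        rw [MulAction.mem_stabilizer_iff, sq, mul_smul, hga, hgb]
      have h1 := Subgroup.pow_mem _ h2' k
      rw [← pow_mul] at h1
      have h4 : g ^ (2 * k + 1) = 1 := by rw [← hk, pow_orderOf_eq_one]
      rw [pow_succ] at h4
      rw [eq_inv_of_mul_eq_one_left h4, inv_mem_iff, MulAction.mem_stabilizer_iff, hga] at h1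
      exact hab h1.symm
    have hpos := orderOf_pos g
    obtain ⟨t, ht1, ht2, ht3, -⟩ := hmove (g ^ n) (by
      rw [orderOf_pow_of_dvd (by omega) ⟨2, by omega⟩, hn, ← two_mul, Nat.mul_div_cancel _ (by omega)])
    exact ⟨t, ht1, ht2, ht3⟩
  · have := hpar s hs
    have := hfix2 s (hne1 s hs)
    rw [Nat.odd_iff] at ho
    omega
  · have := hpar s hs
    have := hfix2 s (hne1 s hs)
    rw [Nat.even_iff] at he
    omega
  · haveI : Fact (Nat.Prime 2) := ⟨Nat.prime_two⟩
    obtain ⟨⟨z, hzD⟩, hzo⟩ := exists_prime_orderOf_dvd_card' 2 heD.two_dvd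
    have hz : orderOf z = 2 := by rw [← hzo, Subgroup.orderOf_mk]
    obtain ⟨hza, hzb⟩ := hzD
    obtain ⟨t, ht1, ht2, ht3, ht4⟩ := hmove z hz
    refine ⟨t, ht1, ht2, ht3, ?_⟩
    rw [ht4]
    refine le_antisymm (hfix2 z (hne1 z hz)) ?_
    rw [Nat.card_eq_fintype_card, ← Set.toFinset_card]
    refine Finset.one_lt_card.mpr ⟨a, ?_, b, ?_, hab⟩ <;> rw [Set.mem_toFinset]
    exacts [hza, hzb]

end Cfsg.Agent.S0740
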