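import Cfsg.Statements.S0345
import Cfsg.Agent.Lib.Perm.ZGroup.Basic
import Cfsg.Agent.Lib.Perm.ZGroup.Bound
import Cfsg.Agent.Lib.Perm.ZGroup.Index
import Cfsg.Agent.Lib.Perm.ZGroup.Kernel
import Cfsg.Agent.Lib.Perm.ZGroup.Sharp
import Cfsg.Agent.Lib.Perm.SharpThreeSimple

set_option autoImplicit false
open Cfsg

namespace Cfsg.Agent.S0345

open MulAction CfsgLib.Perm.ZGroup CfsgLib.Perm.SharpThreeFrame in
/-- A sharply triply transitive group of even degree is not simple. -/
theorem not_simple_of_sharp {G Ω : Type*} [Group G] [MulAction G Ω] [FaithfulSMul G Ω] [Fintype Ω]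
    [DecidableEq Ω] [IsSimpleGroup G] (heven : Even (Fintype.card Ω)) (h4 : 4 ≤ Fintype.card Ω)
    (h3 : IsMultiplyPretransitive G Ω 3) (hsharp : ∀ t : Fin 3 ↪ Ω, stabilizer G t = ⊥) : False := by
  set G' := (MulAction.toPermHom G Ω).range
  have hinj : Function.Injective (MulAction.toPermHom G Ω) := MulAction.toPerm_injective
  let e : G ≃* G' := MonoidHom.ofInjective hinj
  have hsimp : IsSimpleGroup G' := e.symm.isSimpleGroup
  have h3' : IsMultiplyPretransitive G' Ω 3 := by
    rw [isMultiplyPretransitive_iff] at h3 ⊢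
    intro x y
    obtain ⟨g, hg⟩ := h3 x y
    exact ⟨e g, hg⟩
  have hsharp' : ∀ t : Fin 3 ↪ Ω, stabilizer G' t = ⊥ := fun t =>
    (Subgroup.eq_bot_iff_forall _).2 fun g hg => by
      obtain ⟨g, rfl⟩ := e.surjective g
      have h : g ∈ stabilizer G t := hg
      rw [hsharp t, Subgroup.mem_bot] at h
      rw [h, map_one]
  obtain ⟨a, b, c, hab, hac, hbc⟩ := Fintype.two_lt_card_iff.1 (show 2 < Fintype.card Ω by omega)
  obtain ⟨s, hsa, hsb, hsc⟩ := exists_swap G' h3' hab hac hbc
  obtain ⟨D⟩ := exists_frame heven h4 G' h3' hsharp' hab hac hbc s hsa hsb hsc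
  exact D.not_simple hsimp

open MulAction CfsgLib.Perm.ZGroup in
/-- In a finite simple Zassenhaus group the stabiliser `H` of two points `a ≠ b` is cyclic, and some involution
interchanging `a` and `b` inverts every element of `H`. -/
theorem result {G Ω : Type*} [Group G] [Finite G] [MulAction G Ω] [Finite Ω]
    (hZ : Cfsg.IsZassenhausGroup G Ω) [IsSimpleGroup G]
    {a b : Ω} (hab : a ≠ b) :
    IsCyclic ↥(MulAction.stabilizer G a ⊓ MulAction.stabilizer G b) ∧
      ∃ v : G, orderOf v = 2 ∧ v • a = b ∧ v • b = a ∧ ∀ h ∈ MulAction.stabilizer G a ⊓ MulAction.stabilizer G b, v * h * v⁻¹ = h⁻¹ := by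
  classical
  letI := Fintype.ofFinite Ω
  obtain ⟨S⟩ := exists_setup hZ hab
  obtain ⟨t, ht, hta, htb⟩ := S.exists_involution
  have ht2 : orderOf t = 2 :=
    orderOf_eq_prime (by rw [pow_two, ht]) fun e => hab (by rw [← hta, e, one_smul])
  suffices h : IsCyclic S.H ∧ ∀ h ∈ S.H, t * h * t⁻¹ = h⁻¹ from ⟨h.1, t, ht2, hta, htb, h.2⟩
  by_cases hpar : Even (Nat.card S.H)
  · have hbound := bound_of_even hZ hab (show Even (Nat.card S.H) from hpar)
    obtain ⟨hFab, -⟩ := kernel_elementary_abelian hZ hab hbound S.F S.hle S.hnorm S.hreg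
    rcases small_index _ S hFab rfl with h | h
    · exfalso
      haveI := hZ.1
      obtain ⟨h3, hsharp⟩ := S.sharply_three_transitive h
      have h1 := S.card_F
      have h2 := S.one_lt_H
      refine not_simple_of_sharp ?_ (by omega) h3 hsharp
      obtain ⟨r, hr⟩ := hpar
      exact ⟨r + 1, by omega⟩
    · obtain ⟨hc, hinv⟩ := S.inverted_cyclic hFab h
      exact ⟨hc, hinv t hta htb⟩
  · rcases S.odd_dichotomy (Nat.not_even_iff_odd.1 hpar) ht hta htb with ⟨hinv, hc⟩ | ⟨q, hq, -, hqd, N, hN, hidx, hFN, -⟩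
    · exact ⟨hc, hinv⟩
    · exfalso
      rcases hN.eq_bot_or_eq_top with rfl | rfl
      · exact S.F_ne_bot (le_bot_iff.1 hFN)
      · rw [Subgroup.index_top] at hidx
        have hqG : q ∣ Nat.card G := hqd.trans (Subgroup.card_subgroup_dvd_card _)
        exact absurd hidx.symm (Nat.one_lt_pow (hq.factorization_pos_of_dvd Nat.card_pos.ne' hqG).ne' hq.one_lt).ne'

end Cfsg.Agent.S0345
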