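import Cfsg.Statements.S0073
import Cfsg.Agent.Lib.Fusion.Abelian

set_option autoImplicit false
open Cfsg

namespace Cfsg.Agent.S0073

/-- For a finite non-abelian simple group, either the cube of the least prime divisor of the order divides the order, or 12 does. -/
theorem result {G : Type*} [Group G] [Finite G] [IsSimpleGroup G] (hG : ∃ x y : G, x * y ≠ y * x) : (Nat.card G).minFac ^ 3 ∣ Nat.card G ∨ 12 ∣ Nat.card G := by
  by_contra hcon
  push_neg at hcon
  obtain ⟨hcube, h12⟩ := hcon
  set p := (Nat.card G).minFac with hp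
  have hcard : Nat.card G ≠ 1 := by
    intro h1
    obtain ⟨x, y, hxy⟩ := hG
    have := (Nat.card_eq_one_iff_unique.mp h1).1
    exact hxy (Subsingleton.elim _ _)
  have hpp : p.Prime := Nat.minFac_prime hcard
  have := Fact.mk hpp
  obtain ⟨P⟩ : Nonempty (Sylow p G) := inferInstance
  obtain ⟨k, hk⟩ := P.2.exists_card_eq
  have hk2 : k ≤ 2 := by
    by_contra hk3
    exact hcube ((pow_dvd_pow p (not_le.mp hk3)).trans (hk ▸ Subgroup.card_subgroup_dvd_card _))
  have hab : IsMulCommutative P := by
    rcases Nat.lt_or_ge k 2 with h | h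
    · have : IsCyclic P := by
        interval_cases k
        · have : Subsingleton P := (Nat.card_eq_one_iff_unique.mp (by simpa using hk)).1
          infer_instance
        · exact isCyclic_of_prime_card (by simpa using hk)
      exact IsCyclic.isMulCommutative
    · obtain rfl : k = 2 := by omega
      exact IsPGroup.isMulCommutative_of_card_eq_prime_sq hk
  have hnpc : Cfsg.HasNormalPComplement p G := by
    refine CfsgLib.Fusion.Abelian.npc_of_arith P hab fun q hq hqG hqp d hd hdlt hdiv => ?_
    have hpq : p < q := lt_of_le_of_ne (Nat.minFac_le_of_dvd hq.two_le hqG) (Ne.symm hqp)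
    rw [hk] at hd hdlt hdiv
    obtain ⟨i, hi, rfl⟩ := (Nat.dvd_prime_pow hpp).mp hd
    have hik : i < k := (Nat.pow_lt_pow_iff_right hpp.one_lt).mp hdlt
    have hnot : ∀ {m : ℕ}, 0 < m → m < q → ¬ q ∣ m := fun h0 h1 h2 =>
      absurd (Nat.le_of_dvd h0 h2) (not_le.mpr h1)
    have h2 := hpp.two_le
    interval_cases k <;> interval_cases i
    · exact hnot (by simp; omega) (by simp; omega) hdiv
    · have hfac : p ^ 2 - p ^ 0 = (p + 1) * (p - 1) := by
        rw [pow_zero, ← Nat.sq_sub_sq, one_pow]
      rw [hfac] at hdiv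
      rcases hq.dvd_mul.mp hdiv with h | h
      · have hq1 : q = p + 1 := le_antisymm (Nat.le_of_dvd (by omega) h) hpq
        rcases hpp.eq_two_or_odd with hp2 | hodd
        · refine h12 ?_
          have h4 : Nat.card P = 4 := by rw [hk, hp2]; norm_num
          subst hq1
          rw [hp2] at hqG
          exact Nat.Coprime.mul_dvd_of_dvd_of_dvd (by norm_num : Nat.Coprime 4 3)
            (h4 ▸ Subgroup.card_subgroup_dvd_card _) hqG
        · rcases hq.eq_two_or_odd with hq2 | hqodd <;> omega
      · exact hnot (by omega) (by omega) h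
    · have hfac : p ^ 2 - p ^ 1 = p * (p - 1) := by
        rw [pow_one, Nat.mul_sub_one, sq]
      rw [hfac] at hdiv
      rcases hq.dvd_mul.mp hdiv with h | h
      · exact hqp ((Nat.prime_dvd_prime_iff_eq hq hpp).mp h)
      · exact hnot (by omega) (by omega) h
  -- a normal `p`-complement in a simple group
  obtain ⟨Q, N, hN, hC⟩ := hnpc
  rcases hN.eq_bot_or_eq_top with h | h
  · subst h
    have htop : (Q : Subgroup G) = ⊤ := Subgroup.isComplement'_bot_left.mp hC
    have hnil : Group.IsNilpotent G := by
      have : IsPGroup p G := Q.2.of_equiv ((MulEquiv.subgroupCongr htop).trans Subgroup.topEquiv)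
      exact this.isNilpotent
    obtain ⟨x, y, hxy⟩ := hG
    rcases (inferInstance : (Subgroup.center G).Normal).eq_bot_or_eq_top with hz | hz
    · have : Nontrivial G := ⟨⟨x * y, y * x, hxy⟩⟩
      exact Group.IsNilpotent.center_ne_bot (G := G) hz
    · exact hxy (Subgroup.mem_center_iff.mp (hz ▸ Subgroup.mem_top y) x)
  · subst h
    have hbot : (Q : Subgroup G) = ⊥ := Subgroup.isComplement'_top_left.mp hC
    exact Q.ne_bot_of_dvd_card (Nat.minFac_dvd _) hbot


end Cfsg.Agent.S0073
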