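import Cfsg.Statements.S0499
import Mathlib
import Cfsg.Agent.S0071

set_option autoImplicit false
open Cfsg

namespace Cfsg.Agent.S0499

/-- A non-abelian finite simple group of even order has order divisible by 12, 16 or 56. -/
theorem result {G : Type*} [Group G] [Finite G] [IsSimpleGroup G]
    (hG : ¬ IsMulCommutative G) (h2 : Even (Nat.card G)) :
    12 ∣ Nat.card G ∨ 16 ∣ Nat.card G ∨ 56 ∣ Nat.card G := by
  classical
  haveI : Fact (Nat.Prime 2) := ⟨Nat.prime_two⟩
  obtain ⟨T⟩ := (inferInstance : Nonempty (Sylow 2 G))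
  obtain ⟨k, hk⟩ := IsPGroup.iff_card.mp T.2
  have hdvd : 2 ^ k ∣ Nat.card G := hk ▸ Subgroup.card_subgroup_dvd_card (T : Subgroup G)
  by_cases hk4 : 4 ≤ k
  · exact Or.inr (Or.inl ((pow_dvd_pow 2 hk4).trans hdvd))
  have hidx : ¬ 2 ∣ (T : Subgroup G).index := T.not_dvd_index
  have hsimple : ∀ N : Subgroup G, N.Normal → N ≠ ⊤ → N = ⊥ := fun N hN hne => hN.eq_bot_or_eq_top.resolve_right hne
  have hnpc : ¬ ∃ N : Subgroup G, N.Normal ∧ N.IsComplement' (T : Subgroup G) := by
    rintro ⟨N, hN, hc⟩
    rcases eq_or_ne N ⊤ with rfl | hne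
    · rw [Subgroup.isComplement'_top_left] at hc
      have hodd := hidx
      rw [hc, Subgroup.index_bot] at hodd
      exact hodd h2.two_dvd
    · rw [hsimple N hN hne, Subgroup.isComplement'_bot_left] at hc
      haveI := T.2.isNilpotent
      have hG' : IsPGroup 2 G := (hc ▸ T.2 : IsPGroup 2 (⊤ : Subgroup G)).of_equiv Subgroup.topEquiv
      haveI := hG'.isNilpotent
      haveI : Nontrivial G := inferInstance
      haveI := hG'.center_nontrivial
      have hZ := hsimple (Subgroup.center G) inferInstance fun hZ => hG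
        ⟨⟨fun a b => (Subgroup.mem_center_iff.mp (hZ.ge (Subgroup.mem_top b)) a)⟩⟩
      exact (Subgroup.nontrivial_iff_ne_bot _).mp inferInstance hZ
  have hfro := mt (Cfsg.Agent.S0071.result T).mpr hnpc
  push Not at hfro
  obtain ⟨Q, hQT, g, hg, hgo, hgC⟩ := hfro
  obtain ⟨j, hj⟩ := (Nat.dvd_prime_pow Nat.prime_two).mp (hk ▸ Subgroup.card_dvd_of_le hQT)
  -- the permutation of `Q` induced by `g`
  let σ : Equiv.Perm ↥Q :=
    { toFun := fun q => ⟨g * q * g⁻¹, (Subgroup.mem_normalizer_iff.mp hg q).mp q.2⟩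
      invFun := fun q => ⟨g⁻¹ * q * g, by
        have h1 := (Subgroup.mem_normalizer_iff.mp (inv_mem hg) q).mp q.2
        rwa [inv_inv] at h1⟩
      left_inv := fun q => Subtype.ext (by simp [mul_assoc])
      right_inv := fun q => Subtype.ext (by simp [mul_assoc]) }
  have hσpow : ∀ (n : ℕ) (q : Q), (((σ ^ n) q : Q) : G) = g ^ n * q * (g ^ n)⁻¹ := by
    intro n
    induction n with
    | zero => intro q; simp
    | succ n ih =>
      intro q
      rw [pow_succ', Equiv.Perm.mul_apply]
      show g * ((σ ^ n) q : Q) * g⁻¹ = _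
      rw [ih q, pow_succ']; group
  have hσ1 : σ ≠ 1 := fun e => hgC (Subgroup.mem_centralizer_iff.mpr fun q hq => by
    have h1 := congrArg Subtype.val (Equiv.Perm.congr_fun e ⟨q, hq⟩)
    exact (mul_inv_eq_iff_eq_mul.mp h1).symm)
  have hσo : orderOf σ ∣ orderOf g := orderOf_dvd_of_pow_eq_one (Equiv.ext fun q => Subtype.ext (by
    rw [hσpow, pow_orderOf_eq_one, Equiv.Perm.one_apply]; simp))
  obtain ⟨r, hr, hrσ⟩ := Nat.exists_prime_and_dvd (fun e => hσ1 (orderOf_eq_one_iff.mp e))
  have hr2 : r ≠ 2 := by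
    rintro rfl
    exact Nat.not_coprime_of_dvd_of_dvd (by norm_num) (hrσ.trans hσo) (dvd_refl 2) hgo
  have hrG : r ∣ Nat.card G := (hrσ.trans hσo).trans (orderOf_dvd_natCard g)
  set e := orderOf σ / r with he
  have hτo : orderOf (σ ^ e) = r := by
    rw [orderOf_pow_of_dvd ?_ (Nat.div_dvd_of_dvd hrσ), Nat.div_div_self hrσ (orderOf_pos σ).ne']
    exact Nat.div_ne_zero_iff.mpr ⟨hr.ne_zero, Nat.le_of_dvd (orderOf_pos σ) hrσ⟩
  haveI : Fintype ↥Q := Fintype.ofFinite _
  obtain ⟨n, hn⟩ := Equiv.Perm.cycleType_prime_order (σ := σ ^ e) (by rw [hτo]; exact hr)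
  rw [hτo] at hn
  have hsupp : (σ ^ e).support.card = (n + 1) * r := by
    rw [← Equiv.Perm.sum_cycleType, hn, Multiset.sum_replicate, smul_eq_mul]
  -- the fixed points form a subgroup
  have hfix : (Finset.univ.filter fun q => (σ ^ e) q = q).card ∣ Nat.card Q := by
    let F : Subgroup ↥Q :=
      { carrier := {q | (σ ^ e) q = q}
        one_mem' := Subtype.ext (by rw [hσpow]; simp)
        mul_mem' := fun {a b} ha hb => Subtype.ext (by
          rw [hσpow, Subgroup.coe_mul]
          have h1 := congrArg Subtype.val ha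
          have h2 := congrArg Subtype.val hb
          rw [hσpow] at h1 h2
          conv_rhs => rw [← h1, ← h2]
          group)
        inv_mem' := fun {a} ha => Subtype.ext (by
          rw [hσpow, Subgroup.coe_inv]
          have h1 := congrArg Subtype.val ha
          rw [hσpow] at h1
          conv_rhs => rw [← h1]
          group) }
    have : (Finset.univ.filter fun q => (σ ^ e) q = q).card = Nat.card F := by
      rw [← Nat.card_eq_finsetCard]
      exact Nat.card_congr (Equiv.subtypeEquivRight fun q => ⟨fun h => (Finset.mem_filter.mp h).2,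
        fun h => Finset.mem_filter.mpr ⟨Finset.mem_univ _, h⟩⟩)
    rw [this]
    exact Subgroup.card_subgroup_dvd_card F
  have htot : (σ ^ e).support.card + (Finset.univ.filter fun q => (σ ^ e) q = q).card = Nat.card Q := by
    rw [Nat.card_eq_fintype_card, ← Finset.card_univ,
      show (σ ^ e).support = Finset.univ.filter (fun q => ¬ (σ ^ e) q = q) from by ext; simp, add_comm,
      Finset.card_filter_add_card_filter_not]
  obtain ⟨i, -, hi⟩ := (Nat.dvd_prime_pow Nat.prime_two).mp (hj.2 ▸ hfix)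
  rw [hi, hsupp, hj.2] at htot
  have hj3 : j ≤ 3 := le_trans hj.1 (by omega)
  have hrdvd : r ∣ 2 ^ j - 2 ^ i := ⟨n + 1, by rw [← htot, Nat.add_sub_cancel, mul_comm]⟩
  have hpos : 0 < 2 ^ j - 2 ^ i := by
    have := Nat.mul_pos (show 0 < n + 1 by omega) hr.pos
    omega
  have hij : i < j := (Nat.pow_lt_pow_iff_right (by norm_num : 1 < 2)).mp (by omega)
  by_cases hr3 : r = 3
  · left
    subst hr3
    have hk1 : 4 ∣ Nat.card G := by
      have h1 : 2 ≤ j := by
        rcases Nat.lt_or_ge j 2 with h | h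
        · interval_cases j
          · omega
          · interval_cases i
            norm_num at hrdvd
        · exact h
      exact (pow_dvd_pow 2 (le_trans h1 hj.1)).trans hdvd
    exact (Nat.Coprime.mul_dvd_of_dvd_of_dvd (by norm_num : Nat.Coprime 4 3) hk1 hrG)
  · right; right
    have h7 : r = 7 ∧ j = 3 := by
      interval_cases j <;> interval_cases i <;> norm_num at hrdvd
      all_goals
        first
          | (subst hrdvd; norm_num at hr)
          | (have hle := Nat.le_of_dvd (by norm_num) hrdvd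
             interval_cases r <;> first | omega | norm_num at hr | norm_num at hrdvd ⊢)
    obtain ⟨rfl, rfl⟩ := h7
    exact Nat.Coprime.mul_dvd_of_dvd_of_dvd (by norm_num : Nat.Coprime 8 7) ((pow_dvd_pow 2 hj.1).trans hdvd) hrG

end Cfsg.Agent.S0499
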