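import Cfsg.Statements.S0496
import Cfsg.Agent.Lib.SmallGroups.OrdersBelow1092Cases
import Cfsg.Agent.Lib.SmallGroups.OrdersBelow1092Sieve
import Cfsg.Agent.S0144
import Cfsg.Agent.S0499
import Cfsg.Agent.S0073
-- import your own Cfsg.Agent.* helpers here

set_option autoImplicit false
open Cfsg

namespace Cfsg.Agent.S0496

/-- A non-abelian finite simple group of order at most 1092 has order 60, 168, 360, 504, 660 or 1092. -/
theorem result {G : Type*} [Group G] [Finite G] [IsSimpleGroup G]
    (hG : ¬ IsMulCommutative G) (h : Nat.card G ≤ 1092) :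
    Nat.card G = 60 ∨ Nat.card G = 168 ∨ Nat.card G = 360 ∨ Nat.card G = 504 ∨ Nat.card G = 660 ∨
      Nat.card G = 1092 := by
  classical
  open CfsgLib.SmallGroups.SimpleTools CfsgLib.SmallGroups.LocalTools CfsgLib.SmallGroups.OrdersSieve in
  have hn0 : Nat.card G ≠ 0 := Nat.card_pos.ne'
  have hnc : ∃ x y : G, x * y ≠ y * x := by
    by_contra hc
    push Not at hc
    exact hG ⟨⟨hc⟩⟩
  have hthree : 3 ≤ (Nat.card G).primeFactors.card := by
    by_contra hlt
    obtain ⟨p, q, a, b, hp, hq, he⟩ : ∃ p q a b : ℕ, p.Prime ∧ q.Prime ∧ Nat.card G = p ^ a * q ^ b := by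
      have hprod := Nat.prod_factorization_pow_eq_self hn0
      rw [Nat.prod_factorization_eq_prod_primeFactors] at hprod
      have hc : (Nat.card G).primeFactors.card = 0 ∨ (Nat.card G).primeFactors.card = 1 ∨
          (Nat.card G).primeFactors.card = 2 := by omega
      rcases hc with hc | hc | hc
      · exact ⟨2, 2, 0, 0, Nat.prime_two, Nat.prime_two, by
          rw [Finset.card_eq_zero.mp hc, Finset.prod_empty] at hprod; simpa using hprod.symm⟩
      · obtain ⟨p, hp⟩ := Finset.card_eq_one.mp hc
        refine ⟨p, p, (Nat.card G).factorization p, 0, ?_, ?_, ?_⟩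
        · exact Nat.prime_of_mem_primeFactors (hp ▸ Finset.mem_singleton_self p)
        · exact Nat.prime_of_mem_primeFactors (hp ▸ Finset.mem_singleton_self p)
        · rw [hp, Finset.prod_singleton] at hprod; simpa using hprod.symm
      · obtain ⟨p, q, hpq, hp⟩ := Finset.card_eq_two.mp hc
        refine ⟨p, q, (Nat.card G).factorization p, (Nat.card G).factorization q, ?_, ?_, ?_⟩
        · exact Nat.prime_of_mem_primeFactors (hp ▸ Finset.mem_insert_self p {q})
        · exact Nat.prime_of_mem_primeFactors (hp ▸ Finset.mem_insert_of_mem (Finset.mem_singleton_self q))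
        · rw [hp, Finset.prod_pair hpq] at hprod; exact hprod.symm
    have := Cfsg.Agent.S0144.result p q a b hp hq he
    exact hG ⟨⟨(IsSimpleGroup.comm_iff_isSolvable (G := G)).mpr this⟩⟩
  open CfsgLib.SmallGroups.SimpleTools CfsgLib.SmallGroups.LocalTools CfsgLib.SmallGroups.OrdersSieve in
  have hsurv : survive (Nat.card G) = true := by
    simp only [survive, Bool.and_eq_true, decide_eq_true_eq, List.all_eq_true]
    refine ⟨⟨?_, hthree.trans (card_primeFactors_le _)⟩, fun p hp => ?_⟩
    · unfold pre
      by_cases h2 : Nat.card G % 2 = 0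
      · rw [if_pos (by simpa using h2)]
        rcases Cfsg.Agent.S0499.result hG (Nat.even_iff.mpr h2) with h' | h' | h' <;>
          simp [Nat.mod_eq_zero_of_dvd h']
      · rw [if_neg (by simpa using h2)]
        have hd : (Nat.card G).minFac ^ 3 ∣ Nat.card G :=
          (Cfsg.Agent.S0073.result hnc).resolve_right fun h' =>
            h2 (Nat.mod_eq_zero_of_dvd ((show 2 ∣ 12 by norm_num).trans h'))
        have hne1 : Nat.card G ≠ 1 := fun e => by rw [e] at hthree; simp at hthree
        have hpr := Nat.minFac_prime hne1
        have hle := Nat.le_of_dvd Nat.card_pos hd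
        have h11 : (Nat.card G).minFac < 11 := by
          by_contra hge
          have := Nat.pow_le_pow_left (Nat.le_of_not_lt hge) 3
          omega
        have h3 : 3 ≤ (Nat.card G).minFac := by
          have := hpr.two_le
          rcases Nat.lt_or_ge (Nat.card G).minFac 3 with hl | hl
          · exact absurd (Nat.mod_eq_zero_of_dvd ((show (Nat.card G).minFac = 2 by omega) ▸
              Nat.minFac_dvd (Nat.card G))) h2
          · exact hl
        rw [List.any_eq_true]
        refine ⟨(Nat.card G).minFac, List.mem_range.mpr h11, ?_⟩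
        simp only [Bool.and_eq_true, decide_eq_true_eq, beq_iff_eq]
        exact ⟨h3, Nat.mod_eq_zero_of_dvd (by rw [pow_three, ← mul_assoc] at hd; exact hd)⟩
    · obtain ⟨hpp, hpd⟩ := prime_of_mem hp
      have : Fact p.Prime := ⟨hpp⟩
      rw [good, List.all_eq_true]
      intro a _
      simp only [Bool.or_eq_true, beq_iff_eq, Bool.not_eq_true', beq_eq_false_iff_ne]
      by_cases ha : a = 0
      · exact Or.inl (Or.inl (Or.inl ha))
      by_cases hda : Nat.card G % p ^ a = 0
      · by_cases hda1 : Nat.card G % p ^ (a + 1) = 0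
        · exact Or.inl (Or.inr hda1)
        · refine Or.inr ?_
          obtain ⟨m, hm⟩ := Nat.dvd_of_mod_eq_zero hda
          have hpm : ¬ p ∣ m := fun ⟨c, hc⟩ => hda1 (Nat.mod_eq_zero_of_dvd ⟨c, by rw [hm, hc]; ring⟩)
          have hm0 : m ≠ 0 := fun e => hpm (e ▸ dvd_zero p)
          have hmdiv : Nat.card G / p ^ a = m := by rw [hm, Nat.mul_div_cancel_left _ (pow_pos hpp.pos a)]
          rw [hmdiv, cands, List.any_eq_true]
          have hmem := card_sylow_mem (p := p) (k := a) hm hm0
          obtain ⟨hk1, hkmod⟩ := Finset.mem_filter.mp hmem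
          have hkd := (Nat.mem_divisors.mp hk1).1
          obtain ⟨P⟩ : Nonempty (Sylow p G) := inferInstance
          have hne := card_sylow_ne_one hG hpd (p := p)
          have hpos : 0 < Nat.card (Sylow p G) := Nat.card_pos
          have hfac : 2 * Nat.card G ∣ (Nat.card (Sylow p G)).factorial := by
            rw [P.card_eq_index_normalizer]
            exact two_mul_card_dvd_factorial hG _ (normalizer_ne_top hG hpd P)
          refine ⟨Nat.card (Sylow p G), List.mem_range.mpr (Nat.lt_succ_of_le (Nat.le_of_dvd (Nat.pos_of_ne_zero hm0) hkd)), ?_⟩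
          simp only [Bool.and_eq_true, decide_eq_true_eq, beq_iff_eq, Bool.or_eq_true, Bool.not_eq_true',
            beq_eq_false_iff_ne, List.any_eq_true, List.mem_range, fmod_eq]
          refine ⟨⟨⟨⟨by omega, Nat.mod_eq_zero_of_dvd hkd⟩, hkmod⟩, Nat.mod_eq_zero_of_dvd hfac⟩, ?_⟩
          by_cases ha1 : a = 1
          · refine Or.inr ?_
            subst ha1
            have hP : Nat.card (P : Subgroup G) = p :=
              (card_sylow_subgroup (k := 1) hm hpm P).trans (pow_one p)
            obtain ⟨e, k, he1, hed, hN, -⟩ := exists_e hG P hP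
            have hmul := card_normalizer_mul P
            have hdiv : Nat.card G / Nat.card (Sylow p G) = e * (p * k) := by
              rw [← hmul, Nat.mul_div_cancel_left _ hpos, hN]
            refine ⟨?_, e, ?_, ⟨⟨?_, Nat.mod_eq_zero_of_dvd hed⟩, ?_⟩⟩
            · by_cases hp2 : p = 2
              · exact Or.inl (Or.inl hp2)
              by_cases hsucc : Nat.card (Sylow p G) = p + 1
              · refine Or.inr (Nat.mod_eq_zero_of_dvd ?_)
                have := card_normalizer_of_succ hG hp2 P hP hsucc
                rwa [hN, ← hdiv] at this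
              · exact Or.inl (Or.inr hsucc)
            · have h2p := hpp.two_le
              have := Nat.le_of_dvd (by omega) hed
              omega
            · have he0 : e ≠ 0 := fun e0 => by
                rw [e0, zero_mul] at hN
                exact Nat.card_pos.ne' hN
              omega
            · rw [hdiv, show e * (p * k) = p * (e * k) by ring, Nat.mul_div_cancel_left _ hpp.pos,
                Nat.mul_mod_right]
          · exact Or.inl ha1
      · exact Or.inl (Or.inl (Or.inr hda))
  have hcases := CfsgLib.SmallGroups.OrdersSieve.survive_cases _ (Nat.lt_succ_of_le h) hsurv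
  simp only [List.mem_cons, List.not_mem_nil, or_false] at hcases
  rcases hcases with e | e | e | e | e | e | e | e | e | e | e | e | e | e | e | e | e
  all_goals
    first
      | exact Or.inl e
      | exact Or.inr (Or.inl e)
      | exact Or.inr (Or.inr (Or.inl e))
      | exact Or.inr (Or.inr (Or.inr (Or.inl e)))
      | exact Or.inr (Or.inr (Or.inr (Or.inr (Or.inl e))))
      | exact Or.inr (Or.inr (Or.inr (Or.inr (Or.inr e))))
      | exact (CfsgLib.SmallGroups.OrdersBelow1092.ne_420_840 hG (Or.inl e)).elim
      | exact (CfsgLib.SmallGroups.OrdersBelow1092.ne_420_840 hG (Or.inr e)).elim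
      | exact (CfsgLib.SmallGroups.OrdersBelow1092.ne_480_960 hG (Or.inl e)).elim
      | exact (CfsgLib.SmallGroups.OrdersBelow1092.ne_480_960 hG (Or.inr e)).elim
      | exact (CfsgLib.SmallGroups.OrdersBelow1092.ne_612 hG e).elim
      | exact (CfsgLib.SmallGroups.OrdersBelow1092.ne_720 hG e).elim
      | exact (CfsgLib.SmallGroups.OrdersBelow1092.ne_756 hG e).elim
      | exact (CfsgLib.SmallGroups.OrdersBelow1092.ne_900 hG e).elim
      | exact (CfsgLib.SmallGroups.OrdersBelow1092.ne_1008 hG e).elim
      | exact (CfsgLib.SmallGroups.OrdersBelow1092.ne_1040 hG e).elim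
      | exact (CfsgLib.SmallGroups.OrdersBelow1092.ne_1080 hG e).elim

end Cfsg.Agent.S0496
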