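import Cfsg.Statements.S0165
import Cfsg.Agent.Lib.Char.Monomial
import Cfsg.Agent.Lib.Char.Integral
import Cfsg.Agent.Lib.OddOrder.Basic
-- import your own Cfsg.Agent.* helpers here

set_option autoImplicit false
open Cfsg

namespace Cfsg.Agent.S0165

/-- If p ^ n is the exact power of the prime p dividing the order of a finite group and p ^ n divides the degree of an irreducible complex representation, then its character vanishes at every element of order divisible by p. -/
theorem result {G : Type*} [Group G] [Finite G] {V : Type*} [AddCommGroup V] [Module ℂ V] [FiniteDimensional ℂ V] (ρ : Representation ℂ G V) [ρ.IsIrreducible] (p n : ℕ) (hp : p.Prime) (hn : p ^ n ∣ Nat.card G) (hn' : ¬ p ^ (n + 1) ∣ Nat.card G) (hdeg : p ^ n ∣ Module.finrank ℂ V) (x : G) (hx : p ∣ orderOf x) : ρ.character x = 0 := by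

  classical
  cases nonempty_fintype G
  have : Fact p.Prime := ⟨hp⟩
  set χ := ρ.character with hχ'
  have hχ : Cfsg.IsIrrCharacter G χ := CfsgLib.Char.isIrrCharacter_of_rep ρ
  have hχc := CfsgLib.Char.IsIrrCharacter.isCharacter hχ
  obtain ⟨a, ha⟩ := hdeg
  obtain ⟨m, hm⟩ := hn
  have hpm : ¬ p ∣ m := fun h => hn' (by rw [hm, pow_succ]; exact mul_dvd_mul_left _ h)
  have hclass : ∀ g h : G, orderOf (h * g * h⁻¹) = orderOf g := fun g h =>
    orderOf_injective (MulAut.conj h).toMonoidHom (MulAut.conj h).injective g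
  set f : G → ℂ := fun g => if p ∣ orderOf g then 0 else χ g with hf
  have hfc : Cfsg.IsClassFunction G f := fun g h => by
    simp only [hf, hclass]
    rw [CfsgLib.Char.IsCharacter.isClassFunction hχc g h]
  have hgen : Cfsg.IsGeneralizedCharacter G f := by
    refine CfsgLib.CharDeep.Brauer.isGeneralizedCharacter_of_elementary hfc fun q hq E hE => ?_
    have := CfsgLib.Char.isNilpotent_of_isElementary hq hE
    refine CfsgLib.Char.isGeneralizedCharacter_iff.mpr
      ⟨fun g h => hfc (g : G) (h : G), fun φ hφ => ?_⟩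
    obtain ⟨P⟩ : Nonempty (Sylow p E) := inferInstance
    have hPn : (P : Subgroup E).Normal :=
      Sylow.normal_of_normalizerCondition normalizerCondition_of_isNilpotent P
    obtain ⟨K, hK⟩ := Subgroup.exists_right_complement'_of_coprime P.card_coprime_index
    have hKidx : Nat.card K = (P : Subgroup E).index := (hK.symm.index_eq_card).symm
    have hcopPK : (Nat.card (P : Subgroup E)).Coprime (Nat.card K) :=
      hKidx ▸ P.card_coprime_index
    have hKreg : ∀ v ∈ K, ¬ p ∣ orderOf v := fun v hv h => by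
      have h1 : p ∣ (P : Subgroup E).index :=
        hKidx ▸ h.trans (Subgroup.orderOf_dvd_natCard K hv)
      exact P.not_dvd_index h1
    have hmemK : ∀ x : E, ¬ p ∣ orderOf x → x ∈ K := by
      intro x hx
      obtain ⟨⟨u, v⟩, huv, -⟩ := hK.existsUnique x
      simp only at huv
      have hco : (orderOf (u : E)).Coprime (orderOf (v : E)) :=
        (hcopPK.coprime_dvd_left (Subgroup.orderOf_dvd_natCard _ u.2)).coprime_dvd_right
          (Subgroup.orderOf_dvd_natCard _ v.2)
      have hord := (CfsgLib.OddOrder.Basic.commute_of_coprime_orderOf hco).orderOf_mul_eq_mul_orderOf_of_coprime hco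
      rw [huv] at hord
      obtain ⟨j, hj⟩ := (IsPGroup.iff_orderOf.mp P.2) u
      rw [Subgroup.orderOf_coe, hj] at hord
      rcases Nat.eq_zero_or_pos j with hj0 | hj0
      · rw [hj0, pow_zero, orderOf_eq_one_iff] at hj
        rw [← huv, show (u : E) = 1 from congrArg Subtype.val hj, one_mul]
        exact v.2
      · exact absurd (hord ▸ dvd_mul_of_dvd_left (dvd_pow_self p hj0.ne') _) hx
    have hcentr : ∀ v ∈ K, ∃ w : ℂ, IsIntegral ℤ w ∧
        (m : ℂ) * χ ((v : E) : G) = (Nat.card (P : Subgroup E) : ℂ) * w := by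
      intro v hv
      have hle : (P : Subgroup E).map E.subtype ≤
          Subgroup.centralizer ({((v : E) : G)} : Set G) := by
        rintro _ ⟨u, hu, rfl⟩
        rw [Subgroup.mem_centralizer_singleton_iff]
        exact congrArg Subtype.val (CfsgLib.OddOrder.Basic.commute_of_coprime_orderOf
          ((hcopPK.coprime_dvd_left (Subgroup.orderOf_dvd_natCard _ hu)).coprime_dvd_right
            (Subgroup.orderOf_dvd_natCard _ hv))).eq
      obtain ⟨b, hb⟩ := Subgroup.card_dvd_of_le hle
      rw [Subgroup.card_map_of_injective E.subtype_injective] at hb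
      set C := Subgroup.centralizer ({((v : E) : G)} : Set G) with hC
      have hw := CfsgLib.Char.isIntegral_centralChar ρ ((v : E) : G)
      rw [← hC] at hw
      refine ⟨(a : ℂ) * b * ((C.index : ℂ) * χ ((v : E) : G) / (Module.finrank ℂ V : ℂ)),
        ((isIntegral_natCast a).mul (isIntegral_natCast b)).mul hw, ?_⟩
      have hd : (Module.finrank ℂ V : ℂ) ≠ 0 :=
        Nat.cast_ne_zero.mpr (CfsgLib.Char.irreducible_finrank_pos (ρ := ρ)).ne'
      rw [mul_div_assoc', mul_div_assoc', eq_div_iff hd]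
      have hi : (C.index : ℂ) * (Nat.card (P : Subgroup E) : ℂ) * b = (p : ℂ) ^ n * m := by
        have h1 := C.index_mul_card
        rw [hb, hm] at h1
        rw [mul_assoc]
        exact_mod_cast h1
      rw [ha]
      push_cast
      linear_combination -((a : ℂ) * χ ((v : E) : G)) * hi
    have hφc := CfsgLib.Char.IsIrrCharacter.isCharacter hφ
    obtain ⟨z, hz⟩ := CfsgLib.Char.IsCharacter.classInner_nat
      (CfsgLib.Char.IsCharacter.restrict (CfsgLib.Char.IsCharacter.restrict hχc E) K)
      (CfsgLib.Char.IsCharacter.restrict hφc K)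
    have hK0 : (Nat.card K : ℂ) ≠ 0 := Nat.cast_ne_zero.mpr Nat.card_pos.ne'
    rw [Cfsg.classInner, inv_mul_eq_iff_eq_mul₀ hK0] at hz
    have hdvd : Nat.card (P : Subgroup E) ∣ z := by
      refine (Nat.Coprime.dvd_of_dvd_mul_left ?_
        (CfsgLib.Char.dvd_of_isIntegral_div (a := m * Nat.card K * z) Nat.card_pos.ne' ?_))
      · refine Nat.Coprime.mul_right ?_ hcopPK
        obtain ⟨j, hj⟩ := IsPGroup.iff_card.mp P.2
        rw [hj]
        exact Nat.Coprime.pow_left j (hp.coprime_iff_not_dvd.mpr hpm)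
      · choose w hw hwe using hcentr
        have h1 : ((m * Nat.card K * z : ℕ) : ℂ) / (Nat.card (P : Subgroup E) : ℂ) =
            ∑ v : K, w v v.2 * (starRingEnd ℂ) (φ (v : E)) := by
          rw [div_eq_iff (Nat.cast_ne_zero.mpr Nat.card_pos.ne'), Nat.cast_mul, Nat.cast_mul,
            mul_assoc, ← hz, Finset.mul_sum, Finset.sum_mul]
          refine Finset.sum_congr rfl fun v _ => ?_
          rw [← mul_assoc, hwe v v.2]
          ring
        rw [h1]
        refine IsIntegral.sum _ fun v _ => (hw v v.2).mul ?_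
        rw [← CfsgLib.Char.IsCharacter.apply_inv hφc]
        exact CfsgLib.Char.IsCharacter.isIntegral hφc _
    obtain ⟨y, hy⟩ := hdvd
    refine ⟨(y : ℤ), ?_⟩
    rw [Cfsg.classInner, inv_mul_eq_iff_eq_mul₀ (Nat.cast_ne_zero.mpr Nat.card_pos.ne'),
      ← Finset.sum_filter_of_ne (s := (Finset.univ : Finset E)) (p := fun x : E => x ∈ K)
        fun x _ hx => hmemK x fun hd => hx (by
          simp [hf, Subgroup.orderOf_coe, hd]),
      Finset.sum_subtype (p := fun x : E => x ∈ K) (Finset.univ.filter fun x : E => x ∈ K)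
        (fun x => by simp)]
    rw [Finset.sum_congr rfl fun v _ => by
      rw [show f ((v : E) : G) = χ ((v : E) : G) from by
        have hreg : ¬ p ∣ orderOf ((v : E) : G) := fun h =>
          hKreg v v.2 (Subgroup.orderOf_coe (v : E) ▸ h)
        simp only [hf, if_neg hreg]]]
    refine hz.trans ?_
    rw [hy, ← hK.card_mul]
    push_cast
    ring
  obtain ⟨z, hz⟩ := (CfsgLib.Char.isGeneralizedCharacter_iff.mp hgen).2 χ hχ
  set R := Finset.univ.filter fun g : G => ¬ p ∣ orderOf g with hR
  have hzval : (z : ℝ) = (Nat.card G : ℝ)⁻¹ * ∑ g ∈ R, ‖χ g‖ ^ 2 := by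
    have h1 := congrArg Complex.re hz
    rw [Complex.intCast_re, Cfsg.classInner] at h1
    rw [← h1]
    have h2 : ∑ g : G, f g * (starRingEnd ℂ) (χ g) = ((∑ g ∈ R, ‖χ g‖ ^ 2 : ℝ) : ℂ) := by
      rw [hR, Finset.sum_filter, Complex.ofReal_sum]
      refine Finset.sum_congr rfl fun g _ => ?_
      by_cases hg : p ∣ orderOf g
      · simp [hf, hg]
      · simp [hf, hg, Complex.mul_conj, Complex.normSq_eq_norm_sq]
    rw [h2, show ((Nat.card G : ℂ))⁻¹ = (((Nat.card G : ℝ)⁻¹ : ℝ) : ℂ) by simp,
      ← Complex.ofReal_mul, Complex.ofReal_re]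
  have hall : ∑ g : G, ‖χ g‖ ^ 2 = (Nat.card G : ℝ) := by
    have h1 := CfsgLib.Char.classInner_irr_self hχ
    rw [CfsgLib.Char.classInner_self, ← Complex.ofReal_one, Complex.ofReal_inj,
      inv_mul_eq_one₀ (by exact_mod_cast Nat.card_pos.ne')] at h1
    exact h1.symm
  have hpos : 0 < ∑ g ∈ R, ‖χ g‖ ^ 2 := by
    refine Finset.sum_pos' (fun g _ => sq_nonneg _) ⟨1, ?_, ?_⟩
    · simp [hR, hp.ne_one]
    · exact pow_pos (norm_pos_iff.mpr (CfsgLib.Char.IsIrrCharacter.apply_one_ne_zero hχ)) 2
  have hG : (0 : ℝ) < Nat.card G := Nat.cast_pos.mpr Nat.card_pos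
  have hz1 : (1 : ℝ) ≤ z := by
    have h0 : (0 : ℝ) < z := by rw [hzval]; positivity
    exact_mod_cast (show (0 : ℤ) < z by exact_mod_cast h0)
  rw [hzval, le_inv_mul_iff₀ hG, mul_one, ← hall] at hz1
  have hsplit := Finset.sum_filter_add_sum_filter_not (Finset.univ : Finset G)
    (fun g => ¬ p ∣ orderOf g) (fun g => ‖χ g‖ ^ 2)
  rw [← hR] at hsplit
  have hzero : ∑ g ∈ Finset.univ.filter (fun g : G => ¬ ¬ p ∣ orderOf g), ‖χ g‖ ^ 2 = 0 :=
    le_antisymm (by linarith) (Finset.sum_nonneg fun g _ => sq_nonneg _)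
  have h := (Finset.sum_eq_zero_iff_of_nonneg fun g _ => sq_nonneg _).mp hzero x
    (Finset.mem_filter.mpr ⟨Finset.mem_univ _, not_not.mpr hx⟩)
  simpa [hχ'] using h


end Cfsg.Agent.S0165
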