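import Cfsg.Statements.S0904
import Cfsg.Agent.Lib.SmallGroups.NoMixedOrder

set_option autoImplicit false
open Cfsg

namespace Cfsg.Agent.S0904

/-- Let G be a finite simple group of order p ^ a * q ^ b * r with p, q, r distinct primes. Then every Sylow r-subgroup S of G satisfies C_G(S) = S. -/
theorem result {G : Type*} [Group G] [Finite G] [IsSimpleGroup G] (p q r a b : ℕ) (hp : p.Prime) (hq : q.Prime) [Fact r.Prime] (hpq : p ≠ q) (hpr : p ≠ r) (hqr : q ≠ r) (hcard : Nat.card G = p ^ a * q ^ b * r) (S : Sylow r G) : Subgroup.centralizer (S : Set G) = (S : Subgroup G) := by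
  haveI := Fintype.ofFinite G
  have hr : r.Prime := Fact.out
  have hdiv : r ∣ Nat.card G := hcard ▸ dvd_mul_left r _
  by_cases hG : IsMulCommutative G
  · have hn : (S : Subgroup G).Normal := ⟨fun x hx g => by rw [hG.is_comm.comm g x, mul_inv_cancel_right]; exact hx⟩
    have htop : (S : Subgroup G) = ⊤ := hn.eq_bot_or_eq_top.resolve_left (S.ne_bot_of_dvd_card hdiv)
    rw [htop]
    exact eq_top_iff.2 fun x _ => Subgroup.mem_centralizer_iff.2 fun y _ => hG.is_comm.comm y x
  have hScard : Nat.card (S : Subgroup G) = r := by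
    refine (CfsgLib.SmallGroups.SimpleTools.card_sylow_subgroup (k := 1) (m := p ^ a * q ^ b)
      (by rw [hcard]; ring) ?_ S).trans (pow_one r)
    intro h
    rcases (Nat.Prime.dvd_mul hr).1 h with h | h
    · exact hpr ((Nat.prime_dvd_prime_iff_eq hr hp).1 (hr.dvd_of_dvd_pow h)).symm
    · exact hqr ((Nat.prime_dvd_prime_iff_eq hr hq).1 (hr.dvd_of_dvd_pow h)).symm
  have hcyc : IsCyclic ↥(S : Subgroup G) := isCyclic_of_prime_card hScard
  have hle : (S : Subgroup G) ≤ Subgroup.centralizer (S : Set G) := fun x hx =>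
    Subgroup.mem_centralizer_iff.2 fun y hy =>
      congrArg Subtype.val (hcyc.commGroup.mul_comm ⟨y, hy⟩ ⟨x, hx⟩)
  refine S.3 (IsPGroup.of_card (n := (Nat.card ↥(Subgroup.centralizer (S : Set G))).primeFactorsList.length)
    (Nat.eq_prime_pow_of_unique_prime_dvd Nat.card_pos.ne' ?_)) hle
  intro l hl hld
  by_contra hne
  have : Fact l.Prime := ⟨hl⟩
  obtain ⟨⟨y, hy⟩, hyl⟩ := exists_prime_orderOf_dvd_card' l hld
  rw [Subgroup.orderOf_mk] at hyl
  obtain ⟨⟨x, hx⟩, hxr⟩ := exists_prime_orderOf_dvd_card' r (G := ↥(S : Subgroup G)) (by rw [hScard])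
  rw [Subgroup.orderOf_mk] at hxr
  have hcomm : Commute x y := Subgroup.mem_centralizer_iff.1 hy x hx
  have hord : orderOf (x * y) = r * l := by
    rw [hcomm.orderOf_mul_eq_mul_orderOf_of_coprime (by rw [hxr, hyl]; exact (Nat.coprime_primes hr hl).2 (Ne.symm hne)),
      hxr, hyl]
  have hlG : l ∣ Nat.card G := hyl ▸ orderOf_dvd_natCard y
  rw [hcard] at hlG
  rcases (Nat.Prime.dvd_mul hl).1 hlG with h | h
  · rcases (Nat.Prime.dvd_mul hl).1 h with h | h
    · obtain rfl := (Nat.prime_dvd_prime_iff_eq hl hp).1 (hl.dvd_of_dvd_pow h)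
      exact CfsgLib.SmallGroups.NoMixedOrder.not_dvd_orderOf hG hp hq hr hpr hqr hcard
        (g := x * y) (by rw [hord]; exact dvd_mul_left _ _) (by rw [hord]; exact dvd_mul_right _ _)
    · obtain rfl := (Nat.prime_dvd_prime_iff_eq hl hq).1 (hl.dvd_of_dvd_pow h)
      exact CfsgLib.SmallGroups.NoMixedOrder.not_dvd_orderOf hG hq hp hr hqr hpr (a := b) (b := a)
        (by rw [hcard]; ring) (g := x * y) (by rw [hord]; exact dvd_mul_left _ _) (by rw [hord]; exact dvd_mul_right _ _)
  · exact hne ((Nat.prime_dvd_prime_iff_eq hl hr).1 h)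

end Cfsg.Agent.S0904
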