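import Cfsg.Statements.S0253
import Cfsg.Agent.S0494
import Cfsg.Agent.Lib.Classical.SLBasic
import Cfsg.Agent.Lib.Classical.SLOrders
import Cfsg.Agent.Lib.Classical.SL2Sylow

set_option autoImplicit false
open Cfsg

namespace Cfsg.Agent.S0253

theorem card60 {F : Type*} [Field F] [Fintype F] (hF : Fintype.card F = 5) :
    Nat.card (Matrix.ProjectiveSpecialLinearGroup (Fin 2) F) = 60 := by
  have h := CfsgLib.Classical.card_psl_mul hF 2 (by norm_num)
  rw [CfsgLib.Classical.card_sl2 hF] at h
  norm_num at h
  omega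

/-- PSL_2(5) is isomorphic to A_5. -/
theorem result {F : Type*} [Field F] [Fintype F] (hF : Fintype.card F = 5) : Nonempty (Matrix.ProjectiveSpecialLinearGroup (Fin 2) F ≃* alternatingGroup (Fin 5)) := by
  haveI := CfsgLib.Classical.psl_fin_isSimpleGroup (F := F) (k := 2) le_rfl (fun _ => by omega)
  exact Cfsg.Agent.S0494.result (card60 hF)

end Cfsg.Agent.S0253
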