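import Cfsg.Statements.S0948
import Cfsg.Agent.Lib.BrauerSuzuki.Klein

set_option autoImplicit false
open Cfsg

namespace Cfsg.Agent.S0948

open CfsgLib.BrauerSuzuki CfsgLib.Blocks


/-- Let the finite group G have a Sylow 2-subgroup P that is a Klein four-group, suppose all involutions of G are conjugate, and fix a maximal ideal M of the algebraic integers containing 2. Then the principal block consists of exactly four irreducible characters, the principal character and ζ₂, ζ₃, ζ₄, and there is a sign ε such that for every involution z: ζ₂ z = 1, ζ₃ z = ε, ζ₄ z = -1; moreover ζ₂ 1 ≡ 1, ζ₃ 1 ≡ ε, ζ₄ 1 ≡ -1 (mod 4), and 1 + ζ₂ y + ε ζ₃ y - ζ₄ y = 0 for every y of odd order. -/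
theorem result {G : Type*} [Group G] [Finite G] (M : Ideal Cfsg.AlgInt) (hM : Cfsg.IsPModular 2 M) (P : Sylow 2 G) (hP : IsKleinFour (P : Subgroup G)) (hone : ∀ s t : G, orderOf s = 2 → orderOf t = 2 → IsConj s t) : ∃ ζ₂ ζ₃ ζ₄ : Cfsg.IrrCharacter G, ∃ ε : ℤ, (ε = 1 ∨ ε = -1) ∧ (ζ₂ : G → ℂ) ≠ (fun _ => 1) ∧ (ζ₃ : G → ℂ) ≠ (fun _ => 1) ∧ ζ₂ ≠ ζ₃ ∧ ζ₂ ≠ ζ₄ ∧ ζ₃ ≠ ζ₄ ∧ Cfsg.principalBlock M G = {χ : Cfsg.IrrCharacter G | (χ : G → ℂ) = (fun _ => 1) ∨ χ = ζ₂ ∨ χ = ζ₃ ∨ χ = ζ₄} ∧ (∀ z : G, orderOf z = 2 → (ζ₂ : G → ℂ) z = 1 ∧ (ζ₃ : G → ℂ) z = (ε : ℂ) ∧ (ζ₄ : G → ℂ) z = -1) ∧ (4 : ℤ) ∣ (Cfsg.charDegree (ζ₂ : G → ℂ) : ℤ) - 1 ∧ (4 : ℤ) ∣ (Cfsg.charDegree (ζ₃ : G → ℂ) : ℤ) - ε ∧ (4 : ℤ) ∣ (Cfsg.charDegree (ζ₄ : G → ℂ) : ℤ) + 1 ∧ ∀ y : G, Odd (orderOf y) → 1 + (ζ₂ : G → ℂ) y + (ε : ℂ) * (ζ₃ : G → ℂ) y - (ζ₄ : G → ℂ) y = 0 := by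
  classical
  haveI := Fintype.ofFinite G
  have hg := gc_evenF P hP
  obtain ⟨hblock, hval⟩ := klein_block P hP hone hM
  set c := coeff (evenF G) with hcdef
  have hc0 : c (trivChar G) = 1 := by
    have h := cast_coeff hg (trivChar G)
    rw [show classInner (evenF G) ((trivChar G : IrrCharacter G) : G → ℂ) = classInner (evenF G) (fun _ => 1) from rfl,
      classInner_evenF_one P hP hone] at h
    exact_mod_cast h
  have hsq : ∑ χ : IrrCharacter G, c χ * c χ = 4 := by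
    have h := classInner_eq_sum_coeff hg hg
    rw [classInner_evenF_self P hP hone] at h
    exact_mod_cast h.symm
  have hrest : ∑ χ ∈ Finset.univ.erase (trivChar G), c χ * c χ = ((3 : ℕ) : ℤ) := by
    rw [← Finset.add_sum_erase _ _ (Finset.mem_univ (trivChar G)), hc0] at hsq
    push_cast
    omega
  obtain ⟨hunit, hcard⟩ := unit_coeff _ c 3 le_rfl hrest
  obtain ⟨A, B, C, hAB, hAC, hBC, hS⟩ := Finset.card_eq_three.1 hcard
  have hmem : ∀ χ, χ ∈ ({A, B, C} : Finset (IrrCharacter G)) → χ ≠ trivChar G ∧ (c χ = 1 ∨ c χ = -1) := by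
    intro χ hχ
    rw [← hS, Finset.mem_filter] at hχ
    exact ⟨(Finset.mem_erase.1 hχ.1).1, hunit χ hχ.1 hχ.2⟩
  have hexp : ∀ y : G, evenF G y =
      1 + ((c A : ℂ) * (A : G → ℂ) y + ((c B : ℂ) * (B : G → ℂ) y + (c C : ℂ) * (C : G → ℂ) y)) := by
    intro y
    rw [eq_sum_coeff hg, ← Finset.add_sum_erase _ _ (Finset.mem_univ (trivChar G)),
      ← Finset.sum_filter_of_ne (s := Finset.univ.erase (trivChar G)) (p := fun χ => c χ ≠ 0)
        (fun χ _ hne h => by rw [← hcdef, h, Int.cast_zero, zero_mul] at hne; exact hne rfl),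
      hS, Finset.sum_insert (by simp [hAB, hAC]), Finset.sum_insert (by simp [hBC]), Finset.sum_singleton,
      ← hcdef, hc0, Int.cast_one, one_mul]
    rfl
  have hnz : ∀ χ, c χ ≠ 0 ↔ χ = trivChar G ∨ χ = A ∨ χ = B ∨ χ = C := by
    intro χ
    constructor
    · intro h
      by_cases ht : χ = trivChar G
      · exact Or.inl ht
      · have : χ ∈ (Finset.univ.erase (trivChar G)).filter fun χ => c χ ≠ 0 := by simp [ht, h]
        rw [hS] at this
        simpa [ht] using this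
    · rintro (rfl | h)
      · rw [hc0]; norm_num
      · rcases (hmem χ (by simpa using h)).2 with h' | h' <;> rw [h'] <;> norm_num
  have hodd : ∀ y : G, Odd (orderOf y) → evenF G y = 0 := fun y hy =>
    if_neg (Nat.two_dvd_ne_zero.mpr (Nat.odd_iff.mp hy))
  -- the selection of the three characters
  suffices key : ∃ X Y Z : IrrCharacter G, X ∈ ({A, B, C} : Finset (IrrCharacter G)) ∧
      Y ∈ ({A, B, C} : Finset (IrrCharacter G)) ∧ Z ∈ ({A, B, C} : Finset (IrrCharacter G)) ∧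
      X ≠ Y ∧ X ≠ Z ∧ Y ≠ Z ∧ c X = 1 ∧ c Z = -1 ∧
      (∀ χ, χ = X ∨ χ = Y ∨ χ = Z ↔ χ = A ∨ χ = B ∨ χ = C) ∧
      ∀ y : G, evenF G y = 1 + (X : G → ℂ) y + (c Y : ℂ) * (Y : G → ℂ) y - (Z : G → ℂ) y by
    obtain ⟨X, Y, Z, hX, hY, hZ, hXY, hXZ, hYZ, hcX, hcZ, hset, hrel⟩ := key
    have htne : ∀ χ, χ ∈ ({A, B, C} : Finset (IrrCharacter G)) → (χ : G → ℂ) ≠ fun _ => 1 :=
      fun χ hχ h => (hmem χ hχ).1 (Subtype.ext h)
    have hin : ∀ χ, χ ∈ ({A, B, C} : Finset (IrrCharacter G)) → χ ∈ Cfsg.principalBlock M G :=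
      fun χ hχ => (hblock χ).mpr ((hnz χ).mpr (Or.inr (by simpa using hχ)))
    refine ⟨X, Y, Z, c Y, (hmem Y hY).2, htne X hX, htne Y hY, hXY, hXZ, hYZ, ?_, fun z hz => ⟨?_, ?_, ?_⟩, ?_⟩
    · ext χ
      rw [hblock, hnz, Set.mem_setOf_eq, hset]
      exact or_congr ⟨fun h => h ▸ rfl, fun h => Subtype.ext h⟩ Iff.rfl
    · rw [(hval X (hin X hX) z hz).1, hcX, Int.cast_one]
    · exact (hval Y (hin Y hY) z hz).1
    · rw [(hval Z (hin Z hZ) z hz).1, hcZ]; norm_num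
    · obtain ⟨z, hz⟩ : ∃ z : G, orderOf z = 2 := by
        haveI := Fact.mk Nat.prime_two
        exact exists_prime_orderOf_dvd_card' 2
          (dvd_trans (by rw [hP.card_four]; norm_num) (Subgroup.card_subgroup_dvd_card (P : Subgroup G)))
      have h1 := (hval X (hin X hX) z hz).2
      have h3 := (hval Z (hin Z hZ) z hz).2
      rw [hcX] at h1
      rw [hcZ, sub_neg_eq_add] at h3
      exact ⟨h1, (hval Y (hin Y hY) z hz).2, h3, fun y hy => (hrel y).symm.trans (hodd y hy)⟩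
  -- degrees
  have hdeg : (1 : ℤ) + (c A * (charDegree (A : G → ℂ) : ℤ) + (c B * (charDegree (B : G → ℂ) : ℤ) + c C * (charDegree (C : G → ℂ) : ℤ))) = 0 := by
    have h := (hexp 1).symm.trans (hodd 1 (by simp))
    rw [irr_one_eq, irr_one_eq, irr_one_eq] at h
    exact_mod_cast h
  have hdA := charDegree_pos A
  have hdB := charDegree_pos B
  have hdC := charDegree_pos C
  -- the degree equation and the unit equation force both signs
  obtain ⟨z, hz⟩ : ∃ z : G, orderOf z = 2 := by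
    haveI := Fact.mk Nat.prime_two
    exact exists_prime_orderOf_dvd_card' 2
      (dvd_trans (by rw [hP.card_four]; norm_num) (Subgroup.card_subgroup_dvd_card (P : Subgroup G)))
  have hin : ∀ χ, χ ∈ ({A, B, C} : Finset (IrrCharacter G)) → (4 : ℤ) ∣ (charDegree (χ : G → ℂ) : ℤ) - c χ :=
    fun χ hχ => (hval χ ((hblock χ).mpr ((hnz χ).mpr (Or.inr (by simpa using hχ)))) z hz).2
  have h4A := hin A (by simp)
  have h4B := hin B (by simp)
  have h4C := hin C (by simp)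
  rcases (hmem A (by simp)).2 with hA | hA <;> rcases (hmem B (by simp)).2 with hB | hB <;>
    rcases (hmem C (by simp)).2 with hC | hC <;> rw [hA, hB, hC] at hdeg <;>
    simp only [hA, hB, hC] at h4A h4B h4C
  · omega
  · refine ⟨A, B, C, by simp, by simp, by simp, hAB, hAC, hBC, hA, hC, fun χ => Iff.rfl, fun y => ?_⟩
    rw [hexp y, hA, hB, hC]; push_cast; ring
  · refine ⟨A, C, B, by simp, by simp, by simp, hAC, hAB, hBC.symm, hA, hB, fun χ => by tauto, fun y => ?_⟩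
    rw [hexp y, hA, hB, hC]; push_cast; ring
  · refine ⟨A, B, C, by simp, by simp, by simp, hAB, hAC, hBC, hA, hC, fun χ => Iff.rfl, fun y => ?_⟩
    rw [hexp y, hA, hB, hC]; push_cast; ring
  · refine ⟨B, C, A, by simp, by simp, by simp, hBC, hAB.symm, hAC.symm, hB, hA, fun χ => by tauto, fun y => ?_⟩
    rw [hexp y, hA, hB, hC]; push_cast; ring
  · refine ⟨B, A, C, by simp, by simp, by simp, hAB.symm, hBC, hAC, hB, hC, fun χ => by tauto, fun y => ?_⟩
    rw [hexp y, hA, hB, hC]; push_cast; ring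
  · refine ⟨C, B, A, by simp, by simp, by simp, hBC.symm, hAC.symm, hAB.symm, hC, hA, fun χ => by tauto, fun y => ?_⟩
    rw [hexp y, hA, hB, hC]; push_cast; ring
  · omega

end Cfsg.Agent.S0948
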