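import Cfsg.Statements.S4500
import Cfsg.Agent.S0144
import Cfsg.Agent.Lib.Blocks.Defect2
import Cfsg.Agent.Lib.Blocks.Eigen
import Cfsg.Agent.Lib.Blocks.Section
import Cfsg.Agent.Lib.DegreeTools.LinearChars

set_option autoImplicit false
open Cfsg

namespace Cfsg.Agent.S4500

open CfsgLib.Blocks

theorem exists_power {G : Type*} [Group G] [Finite G] [Nontrivial G] (p q r a b c : ℕ) (hp : p.Prime)
    (hq : q.Prime) (hr : r.Prime) (hpr : p ≠ r) (ha : a ≤ 2) (hpq : p ≠ q) (hG : Nat.card G = p ^ a * q ^ b * r ^ c) :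
    ∃ χ : Cfsg.IrrCharacter G, (χ : G → ℂ) ≠ (fun _ => 1) ∧ ∃ k : ℕ, Cfsg.charDegree (χ : G → ℂ) = q ^ k := by
  haveI := Fintype.ofFinite G
  classical
  by_cases hdiv : p ∣ Nat.card G
  swap
  · have ha0 : a = 0 := by
      by_contra h
      exact hdiv (hG ▸ Dvd.dvd.mul_right (Dvd.dvd.mul_right (dvd_pow_self p h) _) _)
    haveI := Cfsg.Agent.S0144.result q r b c hq hr (G := G) (by rw [hG, ha0, pow_zero, one_mul])
    have hne : commutator G ≠ ⊤ := (IsSolvable.commutator_lt_top_of_nontrivial G).ne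
    obtain ⟨χ, hχ, h1⟩ := CfsgLib.DegreeTools.exists_linear_ne_one_iff.2 hne
    refine ⟨χ, fun h => hχ (Subtype.ext h), 0, ?_⟩
    rw [pow_zero]
    exact Nat.cast_injective (R := ℂ) (by rw [← irr_one_eq χ, h1, Nat.cast_one])
  haveI : Fact p.Prime := ⟨hp⟩
  obtain ⟨M, hM⟩ := exists_isPModular hp
  obtain ⟨Mr, hMr⟩ := exists_isPModular hr
  obtain ⟨x, hx⟩ := exists_prime_orderOf_dvd_card' p hdiv
  have hB : IsPBlock M (Cfsg.principalBlock M G) := isPBlock_principalBlock
  have hregular : ∀ χ ∈ Cfsg.principalBlock M G, ¬ p ∣ Cfsg.charDegree (χ : G → ℂ) := by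
    intro χ hχ hd
    have hfac : (Nat.card G).factorization p ≤ 2 := by
      have h1 : ∀ s : ℕ, s.Prime → p ≠ s → ∀ n : ℕ, (s ^ n).factorization p = 0 := fun s hs hne n => by
        rw [Nat.Prime.factorization_pow hs, Finsupp.single_apply, if_neg (Ne.symm hne)]
      rw [hG, Nat.factorization_mul (mul_ne_zero (pow_ne_zero _ hp.ne_zero) (pow_ne_zero _ hq.ne_zero))
        (pow_ne_zero _ hr.ne_zero), Nat.factorization_mul (pow_ne_zero _ hp.ne_zero) (pow_ne_zero _ hq.ne_zero),
        Finsupp.add_apply, Finsupp.add_apply, h1 q hq hpq, h1 r hr hpr, Nat.Prime.factorization_pow hp,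
        Finsupp.single_eq_same]
      omega
    have h0 : degVal p χ ≠ 0 := by
      have := (hp.pow_dvd_iff_le_factorization (charDegree_pos χ).ne' (k := 1)).1 (by rwa [pow_one])
      rw [degVal]; omega
    have hmin := minDegVal_principalBlock (G := G) hM
    have hh : blockHeight p (Cfsg.principalBlock M G) (χ : G → ℂ) ≠ 0 := fun h => h0 (by
      rw [(blockHeight_eq_zero_iff hχ).1 h, hmin])
    have h2 := blockHeight_add_two_le hM hB hχ hh
    have h3 := blockDefect_add_min (p := p) (B := Cfsg.principalBlock M G) ⟨_, trivChar_mem_principalBlock hM⟩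
    omega
  have hx1 : ¬ IsConj x 1 := fun h => by
    rw [isConj_one_left] at h
    exact hp.one_lt.ne (by rw [← hx, h, orderOf_one])
  have hortho := sum_block_mul_eq_zero hM hB (g := x) (h := (1 : G)) (z := x) (w := (1 : G))
    ⟨1, mul_one x, Commute.one_right x, ⟨1, by rw [pow_one, hx]⟩, by rw [orderOf_one]; exact hp.not_dvd_one⟩
    ⟨1, one_mul 1, Commute.one_left 1, ⟨0, by rw [orderOf_one, pow_zero]⟩, by rw [orderOf_one]; exact hp.not_dvd_one⟩ hx1
  obtain ⟨χ, hχB, hχ1, hχr⟩ : ∃ χ ∈ Cfsg.principalBlock M G, χ ≠ trivChar G ∧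
      ¬ r ∣ Cfsg.charDegree (χ : G → ℂ) := by
    by_contra hno
    push Not at hno
    rw [← Finset.add_sum_erase _ _ (Finset.mem_univ (trivChar G)),
      blockInd_of_mem (trivChar_mem_principalBlock hM), trivChar_apply, trivChar_apply, one_mul, one_mul] at hortho
    have hsum : MemLocalIdeal Mr (∑ χ ∈ Finset.univ.erase (trivChar G),
        blockInd (Cfsg.principalBlock M G) χ * ((χ : G → ℂ) x * (χ : G → ℂ) (1 : G)⁻¹)) := by
      refine LI.sum hMr fun χ hχ => ?_
      by_cases hmem : χ ∈ Cfsg.principalBlock M G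
      · rw [blockInd_of_mem hmem, one_mul, inv_one, irr_one_eq]
        exact LI.mul_left hMr (LR.of_isIntegral hMr (irr_isIntegral χ x))
          ((LI.natCast_iff hMr _).2 (hno χ hmem (Finset.ne_of_mem_erase hχ)))
      · rw [blockInd_of_notMem hmem, zero_mul]
        exact LI.zero hMr
    rw [eq_neg_of_add_eq_zero_right hortho] at hsum
    exact LI.not_one hMr (by simpa using LI.neg hsum)
  refine ⟨χ, fun h => hχ1 (Subtype.ext h), ?_⟩
  have hd : Cfsg.charDegree (χ : G → ℂ) ∣ q ^ b := by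
    have h1 := charDegree_dvd χ
    rw [hG] at h1
    refine (Nat.Coprime.dvd_mul_left ?_).1 ((Nat.Coprime.dvd_mul_right ?_).1 h1)
    · exact (hp.coprime_iff_not_dvd.2 (hregular χ hχB)).symm.pow_right a
    · exact (hr.coprime_iff_not_dvd.2 hχr).symm.pow_right c
  obtain ⟨k, -, hk⟩ := (Nat.dvd_prime_pow hq).1 hd
  exact ⟨k, hk⟩

/-- Let G be a non-trivial finite group of order p^a · q^b · r^c with p, q, r distinct primes and a ≤ 2. Then G has a non-principal irreducible character whose degree is a power of q, and a non-principal irreducible character whose degree is a power of r; the power may be the zeroth, so a non-principal linear character serves for both. -/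
theorem result {G : Type*} [Group G] [Finite G] [Nontrivial G] (p q r a b c : ℕ) (hp : p.Prime) (hq : q.Prime) (hr : r.Prime) (hpq : p ≠ q) (hpr : p ≠ r) (hqr : q ≠ r) (ha : a ≤ 2) (hG : Nat.card G = p ^ a * q ^ b * r ^ c) : (∃ χ : Cfsg.IrrCharacter G, (χ : G → ℂ) ≠ (fun _ => 1) ∧ ∃ k : ℕ, Cfsg.charDegree (χ : G → ℂ) = q ^ k) ∧ ∃ χ : Cfsg.IrrCharacter G, (χ : G → ℂ) ≠ (fun _ => 1) ∧ ∃ k : ℕ, Cfsg.charDegree (χ : G → ℂ) = r ^ k := by
  exact ⟨exists_power p q r a b c hp hq hr hpr ha hpq hG,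
    exists_power p r q a c b hp hr hq hpq ha hpr (by rw [hG]; ring)⟩

end Cfsg.Agent.S4500
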