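import Cfsg.Statements.S4501
import Cfsg.Agent.Lib.SmallGroups.CofactorFour
import Cfsg.Agent.Lib.SmallGroups.CofactorThree
import Cfsg.Agent.S0144
import Cfsg.Agent.S0073
import Cfsg.Agent.S0499
import Cfsg.Agent.S0494
import Cfsg.Agent.S0495
import Cfsg.Agent.S0496

set_option autoImplicit false
open Cfsg

namespace Cfsg.Agent.S4501

/-- Let G be a non-abelian finite simple group and p, q distinct primes. If the order of G is 4·p^a·q^b with a ≤ 2, then G is isomorphic to the alternating group of degree 5. If the order of G is 3·p^a·q^b with a ≤ 2, then G is isomorphic to the alternating group of degree 5 or to PSL(2,7). -/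
theorem result {G : Type*} [Group G] [Finite G] [IsSimpleGroup G] (hna : ∃ x y : G, x * y ≠ y * x) (p q a b : ℕ) (hp : p.Prime) (hq : q.Prime) (hpq : p ≠ q) (ha : a ≤ 2) : (Nat.card G = 4 * p ^ a * q ^ b → Nonempty (G ≃* alternatingGroup (Fin 5))) ∧ (Nat.card G = 3 * p ^ a * q ^ b → Nonempty (G ≃* alternatingGroup (Fin 5)) ∨ Nonempty (G ≃* Matrix.ProjectiveSpecialLinearGroup (Fin 2) (ZMod 7))) := by
  haveI := Fintype.ofFinite G
  have hG : ¬ IsMulCommutative G := fun h => by
    obtain ⟨x, y, hxy⟩ := hna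
    exact hxy (h.is_comm.comm x y)
  have two : ∀ (s t i j : ℕ), s.Prime → t.Prime → Nat.card G = s ^ i * t ^ j → False := by
    intro s t i j hs ht h
    have := Cfsg.Agent.S0144.result s t i j hs ht h
    exact hG ⟨⟨IsSimpleGroup.comm_iff_isSolvable.2 this⟩⟩
  refine ⟨fun h => ?_, fun h => ?_⟩
  · have hp2 : p ≠ 2 := by
      rintro rfl
      exact two 2 q (a + 2) b hp hq (by rw [h]; ring)
    have hq2 : q ≠ 2 := by
      rintro rfl
      exact two 2 p (b + 2) a Nat.prime_two hp (by rw [h]; ring)
    have ha0 : 1 ≤ a := Nat.pos_of_ne_zero fun e => two 2 q 2 b Nat.prime_two hq (by rw [h, e]; ring)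
    have hb0 : 1 ≤ b := Nat.pos_of_ne_zero fun e => two 2 p 2 a Nat.prime_two hp (by rw [h, e]; ring)
    have hodd : Odd (p ^ a * q ^ b) := ((hp.odd_of_ne_two hp2).pow).mul ((hq.odd_of_ne_two hq2).pow)
    have hodd' := Nat.odd_iff.1 hodd
    have h3 : 3 ∣ p ^ a * q ^ b := by
      rcases Cfsg.Agent.S0499.result hG (even_iff_two_dvd.2 (by rw [h, mul_assoc]; exact dvd_mul_of_dvd_left (by norm_num) _))
        with h' | h' | h' <;> rw [h, mul_assoc] at h' <;> omega
    have hcases : p = 3 ∨ q = 3 := by
      rcases (Nat.Prime.dvd_mul Nat.prime_three).1 h3 with h' | h'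
      · exact .inl ((Nat.prime_dvd_prime_iff_eq Nat.prime_three hp).1 (Nat.prime_three.dvd_of_dvd_pow h')).symm
      · exact .inr ((Nat.prime_dvd_prime_iff_eq Nat.prime_three hq).1 (Nat.prime_three.dvd_of_dvd_pow h')).symm
    have hle : Nat.card G ≤ 180 := by
      rcases hcases with rfl | rfl
      · exact CfsgLib.SmallGroups.Cofactor.order_four hG hq hq2 (Ne.symm hpq) hb0 (.inl ha) h
      · exact CfsgLib.SmallGroups.Cofactor.order_four (c := b) hG hp hp2 hpq ha0 (.inr ha) (by rw [h]; ring)
    refine Cfsg.Agent.S0494.result ?_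
    rcases Cfsg.Agent.S0496.result hG (by omega) with e | e | e | e | e | e <;> first
      | exact e
      | (exfalso; omega)
      | (exfalso; rw [h, mul_assoc] at e; omega)
  · have hp3 : p ≠ 3 := by
      rintro rfl
      exact two 3 q (a + 1) b hp hq (by rw [h]; ring)
    have hq3 : q ≠ 3 := by
      rintro rfl
      exact two 3 p (b + 1) a hq hp (by rw [h]; ring)
    have ha0 : 1 ≤ a := Nat.pos_of_ne_zero fun e => two 3 q 1 b Nat.prime_three hq (by rw [h, e]; ring)
    have hb0 : 1 ≤ b := Nat.pos_of_ne_zero fun e => two 3 p 1 a Nat.prime_three hp (by rw [h, e]; ring)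
    have heven : 2 ∣ Nat.card G := by
      by_contra hodd
      rcases Cfsg.Agent.S0073.result hna with h' | h'
      · have hmin : (Nat.card G).minFac = 3 := by
          have hpr := Nat.minFac_prime (n := Nat.card G) Finite.one_lt_card.ne'
          have h2 := hpr.two_le
          have hle := Nat.minFac_le_of_dvd (by norm_num : 2 ≤ 3) (show 3 ∣ Nat.card G from h ▸
            dvd_mul_of_dvd_left (dvd_mul_right 3 _) _)
          have hne : (Nat.card G).minFac ≠ 2 := fun e => hodd (e ▸ Nat.minFac_dvd _)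
          omega
        rw [hmin, h, mul_assoc, show (3 : ℕ) ^ 3 = 3 * 9 by norm_num] at h'
        have h9 := Nat.dvd_of_mul_dvd_mul_left (by norm_num) h'
        rcases (Nat.Prime.dvd_mul Nat.prime_three).1 (dvd_trans (by norm_num : 3 ∣ 9) h9) with h3 | h3
        · exact hp3 ((Nat.prime_dvd_prime_iff_eq Nat.prime_three hp).1 (Nat.prime_three.dvd_of_dvd_pow h3)).symm
        · exact hq3 ((Nat.prime_dvd_prime_iff_eq Nat.prime_three hq).1 (Nat.prime_three.dvd_of_dvd_pow h3)).symm
      · exact hodd (dvd_trans (by norm_num) h')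
    have hcases : p = 2 ∨ q = 2 := by
      rw [h, mul_assoc] at heven
      rcases (Nat.Prime.dvd_mul Nat.prime_two).1 heven with h' | h'
      · norm_num at h'
      rcases (Nat.Prime.dvd_mul Nat.prime_two).1 h' with h' | h'
      · exact .inl ((Nat.prime_dvd_prime_iff_eq Nat.prime_two hp).1 (Nat.prime_two.dvd_of_dvd_pow h')).symm
      · exact .inr ((Nat.prime_dvd_prime_iff_eq Nat.prime_two hq).1 (Nat.prime_two.dvd_of_dvd_pow h')).symm
    have hle : Nat.card G ≤ 336 := by
      rcases hcases with rfl | rfl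
      · exact CfsgLib.SmallGroups.Cofactor.order_three hG hq (Ne.symm hpq) hq3 hb0 (.inl ha) h
      · exact CfsgLib.SmallGroups.Cofactor.order_three (c := b) hG hp hpq hp3 ha0 (.inr ha) (by rw [h]; ring)
    rcases Cfsg.Agent.S0496.result hG (by omega) with e | e | e | e | e | e <;> first
      | exact .inl (Cfsg.Agent.S0494.result e)
      | (haveI : Fact (Nat.Prime 7) := ⟨by norm_num⟩
         exact .inr (Cfsg.Agent.S0495.result e (ZMod.card 7)))
      | (exfalso; omega)

end Cfsg.Agent.S4501
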