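import Cfsg.Statements.S0998
import Cfsg.Agent.Lib.SmallGroups.TwoPrimesTimesPower
import Cfsg.Agent.S4501
import Cfsg.Agent.S0253
import Cfsg.Agent.S0499
import Cfsg.Agent.S0073
import Cfsg.Agent.S0144

set_option autoImplicit false
open Cfsg

namespace Cfsg.Agent.S0998

/-- A non-cyclic finite simple group whose order has the form p * r * q^b for distinct primes p, q, r is isomorphic to the projective special linear group of dimension 2 over the field with 5 or with 7 elements. -/
theorem result {G : Type*} [Group G] [Finite G] [IsSimpleGroup G] (hG : ¬ IsCyclic G) (p q r b : ℕ) (hp : p.Prime) (hq : q.Prime) (hr : r.Prime) (hpq : p ≠ q) (hpr : p ≠ r) (hqr : q ≠ r) (hG' : Nat.card G = p * r * q ^ b) : (∃ (F : Type) (_ : Field F) (_ : Fintype F), Fintype.card F = 5 ∧ Nonempty (G ≃* Matrix.ProjectiveSpecialLinearGroup (Fin 2) F)) ∨ (∃ (F : Type) (_ : Field F) (_ : Fintype F), Fintype.card F = 7 ∧ Nonempty (G ≃* Matrix.ProjectiveSpecialLinearGroup (Fin 2) F)) := by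
  haveI := Fintype.ofFinite G
  have hna : ¬ IsMulCommutative G := fun hc => by
    obtain ⟨g, hg⟩ := exists_ne (1 : G)
    have hn : (Subgroup.zpowers g).Normal := ⟨fun y hy x => by rw [hc.is_comm.comm x y, mul_inv_cancel_right]; exact hy⟩
    have htop : Subgroup.zpowers g = ⊤ := hn.eq_bot_or_eq_top.resolve_left fun h => hg (Subgroup.zpowers_eq_bot.1 h)
    exact hG ⟨⟨g, fun x => Subgroup.mem_zpowers_iff.1 (htop ▸ Subgroup.mem_top x)⟩⟩
  have hex : ∃ x y : G, x * y ≠ y * x := by
    by_contra h
    push Not at h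
    exact hna ⟨⟨h⟩⟩
  have hns : ¬ Group.IsSolvable G := fun h => hna ⟨⟨IsSimpleGroup.comm_iff_isSolvable.2 h⟩⟩
  have hb0 : 1 ≤ b := Nat.pos_of_ne_zero fun e =>
    hns (Cfsg.Agent.S0144.result p r 1 1 hp hr (by rw [hG', e]; ring))
  have concl : Nonempty (G ≃* alternatingGroup (Fin 5)) ∨
      Nonempty (G ≃* Matrix.ProjectiveSpecialLinearGroup (Fin 2) (ZMod 7)) →
      (∃ (F : Type) (_ : Field F) (_ : Fintype F), Fintype.card F = 5 ∧ Nonempty (G ≃* Matrix.ProjectiveSpecialLinearGroup (Fin 2) F)) ∨ (∃ (F : Type) (_ : Field F) (_ : Fintype F), Fintype.card F = 7 ∧ Nonempty (G ≃* Matrix.ProjectiveSpecialLinearGroup (Fin 2) F)) := by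
    haveI : Fact (Nat.Prime 5) := ⟨by norm_num⟩
    haveI : Fact (Nat.Prime 7) := ⟨by norm_num⟩
    rintro (⟨⟨e⟩⟩ | h)
    · obtain ⟨e'⟩ := Cfsg.Agent.S0253.result (F := ZMod 5) (ZMod.card 5)
      exact .inl ⟨ZMod 5, inferInstance, inferInstance, ZMod.card 5, ⟨e.trans e'.symm⟩⟩
    · exact .inr ⟨ZMod 7, inferInstance, inferInstance, ZMod.card 7, h⟩
  by_cases h3 : p = 3 ∨ r = 3
  · refine concl ?_
    rcases h3 with rfl | rfl
    · exact (Cfsg.Agent.S4501.result hex r q 1 b hr hq (Ne.symm hqr) one_le_two).2 (by rw [hG']; ring)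
    · exact (Cfsg.Agent.S4501.result hex p q 1 b hp hq hpq one_le_two).2 (by rw [hG']; ring)
  push Not at h3
  exfalso
  have hmain : ∀ p r : ℕ, p.Prime → r.Prime → 5 ≤ p → p < r → q < p → Nat.card G = p * r * q ^ b → False :=
    fun p r hp hr h5 hlt hqp hc =>
      haveI : Fact r.Prime := ⟨hr⟩
      CfsgLib.SmallGroups.TwoPrimesTimesPower.false_of_primes hna hp hq h5 hlt hqp hc hb0
  have h2 : p ≠ 2 ∧ r ≠ 2 := by
    by_contra hc
    have h2' : p = 2 ∨ r = 2 := by omega
    have hq2 : q ≠ 2 := by omega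
    have hqodd : q ^ b % 2 = 1 := Nat.odd_iff.1 (hq.odd_of_ne_two hq2).pow
    have hev : 2 ∣ Nat.card G := by
      rw [hG']
      rcases h2' with rfl | rfl
      · exact dvd_mul_of_dvd_left (dvd_mul_right _ _) _
      · exact dvd_mul_of_dvd_left (dvd_mul_left _ _) _
    have h4 : 4 ∣ Nat.card G := by
      rcases Cfsg.Agent.S0499.result hna (even_iff_two_dvd.2 hev) with h | h | h <;>
        exact dvd_trans (by norm_num) h
    rw [hG'] at h4
    have hodd : ∀ s : ℕ, s.Prime → s ≠ 2 → (s * q ^ b) % 2 = 1 := fun s hs hs2 =>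
      Nat.odd_iff.1 ((hs.odd_of_ne_two hs2).mul (hq.odd_of_ne_two hq2).pow)
    rcases h2' with rfl | rfl
    · have := hodd r hr (Ne.symm hpr)
      rw [mul_assoc] at h4
      omega
    · have := hodd p hp hpr
      rw [mul_comm p 2, mul_assoc] at h4
      omega
  have hp5 : 5 ≤ p := by
    have := hp.two_le
    by_contra h
    interval_cases p <;> simp_all (config := { decide := true })
  have hr5 : 5 ≤ r := by
    have := hr.two_le
    by_contra h
    interval_cases r <;> simp_all (config := { decide := true })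
  have hqsmall : q < p ∧ q < r := by
    rcases eq_or_ne q 2 with rfl | hq2
    · omega
    rcases Cfsg.Agent.S0073.result hex with h | h
    · set m := (Nat.card G).minFac with hm
      have hmp : m.Prime := Nat.minFac_prime Finite.one_lt_card.ne'
      have hmq : m = q := by
        rw [hG'] at h
        by_contra hne
        have hc : Nat.Coprime (m ^ 3) (q ^ b) := ((Nat.coprime_primes hmp hq).2 hne).pow _ _
        have h' := hc.dvd_of_dvd_mul_right h
        rcases (Nat.dvd_mul.1 h') with ⟨y, z, hy, hz, hyz⟩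
        rcases hp.eq_one_or_self_of_dvd _ hy with rfl | rfl <;>
          rcases hr.eq_one_or_self_of_dvd _ hz with rfl | rfl
        · have := Nat.pow_le_pow_left hmp.two_le 3
          omega
        · exact Nat.Prime.not_prime_pow (x := m) (n := 3) (by norm_num) (by rw [← hyz, one_mul]; exact hr)
        · exact Nat.Prime.not_prime_pow (x := m) (n := 3) (by norm_num) (by rw [← hyz, mul_one]; exact hp)
        · have hmy : m ∣ y * z := hyz ▸ dvd_pow_self m (by norm_num)
          rcases (Nat.Prime.dvd_mul hmp).1 hmy with hd | hd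
          · have := (Nat.prime_dvd_prime_iff_eq hmp hp).1 hd
            subst this
            have hzm : m ∣ z := by
              have : z = m ^ 2 := Nat.eq_of_mul_eq_mul_left hmp.pos (by rw [hyz]; ring)
              rw [this]; exact dvd_pow_self m (by norm_num)
            exact hpr ((Nat.prime_dvd_prime_iff_eq hmp hr).1 hzm)
          · have := (Nat.prime_dvd_prime_iff_eq hmp hr).1 hd
            subst this
            have hym : m ∣ y := by
              have : y = m ^ 2 := Nat.eq_of_mul_eq_mul_right hmp.pos (by rw [hyz]; ring)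
              rw [this]; exact dvd_pow_self m (by norm_num)
            exact hpr ((Nat.prime_dvd_prime_iff_eq hmp hp).1 hym).symm
      have h1 : m ≤ p := Nat.minFac_le_of_dvd hp.two_le (hG' ▸ dvd_mul_of_dvd_left (dvd_mul_right p r) _)
      have h2' : m ≤ r := Nat.minFac_le_of_dvd hr.two_le (hG' ▸ dvd_mul_of_dvd_left (dvd_mul_left r p) _)
      omega
    · exfalso
      have : 2 ∣ Nat.card G := dvd_trans (by norm_num) h
      rw [hG'] at this
      have hodd : Odd (p * r * q ^ b) :=
        ((hp.odd_of_ne_two h2.1).mul (hr.odd_of_ne_two h2.2)).mul (hq.odd_of_ne_two hq2).pow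
      have := Nat.odd_iff.1 hodd
      omega
  rcases Nat.lt_or_ge p r with hlt | hge
  · exact hmain p r hp hr hp5 hlt hqsmall.1 hG'
  · exact hmain r p hr hp hr5 (lt_of_le_of_ne hge (Ne.symm hpr)) hqsmall.2 (by rw [hG']; ring)

end Cfsg.Agent.S0998
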