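import Cfsg.Statements.S4484
import Cfsg.Agent.Lib.CharDeep.BlichfeldtSixty
import Cfsg.Agent.Lib.Blocks.Eigen
import Cfsg.Agent.Lib.Involution.ZStar.PrincipalBlock
-- import your own Cfsg.Agent.* helpers here

set_option autoImplicit false
open Cfsg

namespace Cfsg.Agent.S4484

section Helpers

open Cfsg CfsgLib.Blocks Module
open scoped InnerProductSpace

universe u

variable {G : Type u} [Group G]

/-- A coordinate representation is equivalent to a unitary one. -/
theorem exists_unitary_equiv [Fintype G] {n : ℕ} (ρ : Representation ℂ G (Fin n → ℂ)) :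
    ∃ (W : Submodule ℂ (EuclideanSpace ℂ (G × Fin n))) (σ : Representation ℂ G W)
      (e : (Fin n → ℂ) ≃ₗ[ℂ] W),
      (∀ g v w, ⟪σ g v, σ g w⟫_ℂ = ⟪v, w⟫_ℂ) ∧ ∀ g, σ g = e.conj (ρ g) := by
  let ι : (Fin n → ℂ) →ₗ[ℂ] EuclideanSpace ℂ (G × Fin n) :=
    { toFun := fun v => WithLp.toLp 2 fun p => ρ p.1 v p.2
      map_add' := fun v w => by ext p; simp
      map_smul' := fun z v => by ext p; simp }
  have hι : Function.Injective ι := fun v w e => by
    funext i
    have := congrArg (fun F : EuclideanSpace ℂ (G × Fin n) => F (1, i)) e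
    simpa [ι] using this
  let e := LinearEquiv.ofInjective ι hι
  refine ⟨LinearMap.range ι,
    { toFun := fun g => e.conj (ρ g)
      map_one' := by rw [map_one]; exact e.conj_id
      map_mul' := fun a b => by rw [map_mul]; exact LinearEquiv.conj_comp e (ρ b) (ρ a) },
    e, fun g v w => ?_, fun g => rfl⟩
  obtain ⟨v, rfl⟩ := e.surjective v
  obtain ⟨w, rfl⟩ := e.surjective w
  show ⟪e.conj (ρ g) (e v), e.conj (ρ g) (e w)⟫_ℂ = _
  rw [LinearEquiv.conj_apply_apply, LinearEquiv.conj_apply_apply, e.symm_apply_apply,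
    e.symm_apply_apply, Submodule.coe_inner, Submodule.coe_inner, PiLp.inner_apply,
    PiLp.inner_apply]
  refine Fintype.sum_equiv ((Equiv.mulRight g).prodCongr (Equiv.refl _)) _ _ fun p => ?_
  simp [e, ι]

/-- `n` divides the `d`-multiple of an eigenvalue multiplicity. -/
theorem dvd_mult {p : ℕ} {M : Ideal AlgInt} (hM : IsPModular p M) {n d m : ℕ} (hn : n ≠ 0)
    {ω : ℂ} (hω : ω ^ p = 1) {χ : ℕ → ℂ} (hm : (p : ℂ) * m = ∑ k ∈ Finset.range p, ω ^ k * χ k)
    (hint : ∀ k, IsIntegral ℤ (χ k * d / n))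
    (hcong : ∀ k, MemLocalIdeal M (χ k * d / n - d)) : n ∣ m * d := by
  have e : ((p * m * d : ℕ) : ℂ) / n = ∑ k ∈ Finset.range p, ω ^ k * (χ k * d / n) := by
    push_cast
    rw [hm, Finset.sum_mul, Finset.sum_div]
    exact Finset.sum_congr rfl fun k _ => by ring
  have hωi : IsIntegral ℤ ω := IsIntegral.of_pow hM.1.pos (hω.symm ▸ isIntegral_one)
  have hi : IsIntegral ℤ (((p * m * d : ℕ) : ℂ) / n) := by
    rw [e]; exact IsIntegral.sum _ fun k _ => (hωi.pow k).mul (hint k)
  obtain ⟨c, hc⟩ := CfsgLib.Char.dvd_of_isIntegral_div hn hi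
  have hc' : ((p * m * d : ℕ) : ℂ) / n = c := by
    rw [hc, Nat.cast_mul, mul_div_cancel_left₀ _ (Nat.cast_ne_zero.2 hn)]
  have h1 : MemLocalIdeal M (c : ℂ) := by
    have h2 : MemLocalIdeal M (((p * m * d : ℕ) : ℂ) / n - (p : ℂ) * d) := by
      rw [e, show (p : ℂ) * d = ∑ _k ∈ Finset.range p, (d : ℂ) by simp, ← Finset.sum_sub_distrib]
      refine LI.sum hM fun k _ => ?_
      rw [show ω ^ k * (χ k * d / n) - d = ω ^ k * (χ k * d / n - d) + (ω ^ k - 1) * d by ring]
      exact LI.add hM (LI.mul_left hM (LR.of_isIntegral hM (hωi.pow k)) (hcong k))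
        (LI.mul_right hM (LI.root_sub_one hM (k := 1)
          (by rw [pow_one, ← pow_mul, mul_comm, pow_mul, hω, one_pow])) (LR.natCast hM d))
    have h3 := LI.add hM h2 (LI.mul_right hM (LI.natCast_prime hM) (LR.natCast hM d))
    rwa [sub_add_cancel, hc'] at h3
  obtain ⟨c', rfl⟩ := (LI.natCast_iff hM c).1 h1
  exact ⟨c', Nat.eq_of_mul_eq_mul_left hM.1.pos (by rw [← mul_assoc, hc]; ring)⟩

theorem main [Fintype G] [IsSimpleGroup G] (p q a b g₀ : ℕ) (hp : p.Prime) (hq : q.Prime)
    (hpq : p ≠ q) (ha : 0 < a) (hg : Nat.card G = p ^ a * q ^ b * g₀) (hcop : ¬ p ∣ g₀)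
    (hne : Nat.card G ≠ p) : p < 6 ^ (g₀ - 1) := by
  classical
  by_contra hle
  rw [not_lt] at hle
  haveI := Fact.mk hp
  have hg0 : 0 < g₀ := Nat.pos_of_ne_zero fun h => hcop (h ▸ dvd_zero p)
  have hpd : p ∣ Nat.card G :=
    hg ▸ ((dvd_pow_self p ha.ne').mul_right _).mul_right _
  have hnc : ∃ u v : G, u * v ≠ v * u := by
    by_contra hcomm
    push Not at hcomm
    letI : CommGroup G := { (inferInstance : Group G) with mul_comm := hcomm }
    haveI : IsSimpleGroup G := inferInstance
    rcases (Nat.dvd_prime (IsSimpleGroup.prime_card (α := G))).1 hpd with h | h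
    · exact hp.one_lt.ne' h
    · exact hne h.symm
  -- a central element of order `p` of a Sylow subgroup
  let S : Sylow p G := default
  have hScard : Nat.card S = p ^ a := by
    rw [S.card_eq_multiplicity, hg, Nat.factorization_mul (mul_ne_zero (pow_ne_zero _ hp.ne_zero)
      (pow_ne_zero _ hq.ne_zero)) hg0.ne', Nat.factorization_mul (pow_ne_zero _ hp.ne_zero)
      (pow_ne_zero _ hq.ne_zero), Nat.factorization_pow, Nat.factorization_pow]
    simp [hp.factorization_self, Nat.factorization_eq_zero_of_not_dvd hcop,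
      Nat.factorization_eq_zero_of_not_dvd
        (fun h => hpq ((Nat.prime_dvd_prime_iff_eq hp hq).1 h))]
  haveI : Nontrivial (S : Subgroup G) := Finite.one_lt_card_iff_nontrivial.1
    (by rw [hScard]; exact Nat.one_lt_pow ha.ne' hp.one_lt)
  have hcd : p ∣ Nat.card (Subgroup.center (S : Subgroup G)) := by
    haveI := IsPGroup.center_nontrivial S.2
    obtain ⟨k, hk⟩ := (S.2.to_subgroup (Subgroup.center (S : Subgroup G))).exists_card_eq
    rcases k with _ | k
    · exact absurd hk (Finite.one_lt_card.ne')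
    · rw [hk, pow_succ]; exact dvd_mul_left p _
  obtain ⟨z, hz⟩ := exists_prime_orderOf_dvd_card' p hcd
  set x : G := ((z : (S : Subgroup G)) : G) with hxdef
  have hx : orderOf x = p := by rw [hxdef, Subgroup.orderOf_coe, Subgroup.orderOf_coe, hz]
  set k := (Subgroup.centralizer ({x} : Set G)).index with hkdef
  have hk : k ∣ q ^ b * g₀ := by
    have hle' : (S : Subgroup G) ≤ Subgroup.centralizer {x} := fun y hy =>
      Subgroup.mem_centralizer_singleton_iff.2
        (congrArg Subtype.val (Subgroup.mem_center_iff.1 z.2 ⟨y, hy⟩))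
    have hi : (S : Subgroup G).index = q ^ b * g₀ := by
      refine Nat.eq_of_mul_eq_mul_left (pow_pos hp.pos a) ?_
      rw [← mul_assoc, ← hg, ← hScard]
      exact (S : Subgroup G).card_mul_index
    exact hi ▸ Subgroup.index_dvd_of_le hle'
  have hpk : ¬ p ∣ k := fun h => by
    rcases hp.dvd_mul.1 (h.trans hk) with h | h
    · exact hpq ((Nat.prime_dvd_prime_iff_eq hp hq).1 (hp.dvd_of_dvd_pow h))
    · exact hcop h
  -- a character of the principal block
  obtain ⟨M, hM⟩ := exists_isPModular hp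
  set B := principalBlock M G
  have hB : IsPBlock M B := isPBlock_principalBlock
  have htriv : trivChar G ∈ B.toFinset := Set.mem_toFinset.2 (trivChar_mem_principalBlock hM)
  have horth := CfsgLib.Involution.ZStar.sum_degree_mul_eq_zero hM hB (g := x) (hx ▸ dvd_rfl)
  have hdeg : ∀ χ : IrrCharacter G, ((charDegree (χ : G → ℂ) : ℕ) : ℂ) = (χ : G → ℂ) 1 :=
    fun χ => (irr_one_eq χ).symm
  obtain ⟨χ, hχB, hχ1, hχx, hχq⟩ : ∃ χ : IrrCharacter G, χ ∈ B ∧ χ ≠ trivChar G ∧
      (χ : G → ℂ) x ≠ 0 ∧ ¬ q ∣ charDegree (χ : G → ℂ) := by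
    by_contra hall
    push Not at hall
    rw [← Finset.add_sum_erase _ _ htriv, trivChar_apply, trivChar_apply, one_mul] at horth
    set R := ∑ χ ∈ B.toFinset.erase (trivChar G), (χ : G → ℂ) 1 * (χ : G → ℂ) x with hR
    have hi : IsIntegral ℤ (R / q) := by
      rw [hR, Finset.sum_div]
      refine IsIntegral.sum _ fun χ hχ => ?_
      rw [Finset.mem_erase, Set.mem_toFinset] at hχ
      by_cases h0 : (χ : G → ℂ) x = 0
      · rw [h0, mul_zero, zero_div]; exact isIntegral_zero
      · obtain ⟨c, hc⟩ := hall χ hχ.2 hχ.1 h0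
        rw [← hdeg χ, hc, Nat.cast_mul, mul_assoc,
          mul_div_cancel_left₀ _ (Nat.cast_ne_zero.2 hq.ne_zero)]
        exact (by simpa using isIntegral_algebraMap (R := ℤ) (A := ℂ) (x := (c : ℤ)) :
          IsIntegral ℤ (c : ℂ)).mul (irr_isIntegral χ x)
    have h2 : IsIntegral ℤ (((1 : ℕ) : ℂ) / (q : ℂ)) := by
      have := hi.neg
      rwa [← neg_div, show -R = 1 by linear_combination -horth, ← Nat.cast_one] at this
    exact hq.one_lt.ne' (Nat.dvd_one.1 (CfsgLib.Char.dvd_of_isIntegral_div hq.ne_zero h2))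
  set n := charDegree (χ : G → ℂ) with hndef
  have hn0 : n ≠ 0 := (charDegree_pos χ).ne'
  have hn1 : (n : ℂ) = (χ : G → ℂ) 1 := hdeg χ
  set d := Nat.gcd n k with hddef
  have hdg : d ∣ g₀ := by
    have hc : Nat.Coprime d (q ^ b) := Nat.Coprime.pow_right _
      ((Nat.Coprime.coprime_dvd_left (Nat.gcd_dvd_left n k)
        ((hq.coprime_iff_not_dvd.2 hχq).symm)))
    exact hc.dvd_of_dvd_mul_left ((Nat.gcd_dvd_right n k).trans hk)
  -- the values on the powers of `x`
  have hbez : (n : ℂ) * (Nat.gcdA n k : ℂ) + (k : ℂ) * (Nat.gcdB n k : ℂ) = (d : ℂ) := by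
    exact_mod_cast (Nat.gcd_eq_gcd_ab n k).symm
  have hnC : (n : ℂ) ≠ 0 := Nat.cast_ne_zero.2 hn0
  have hcase : ∀ i : ℕ, x ^ i = 1 ∨ (Subgroup.centralizer ({x ^ i} : Set G)).index = k := by
    intro i
    by_cases hpi : p ∣ i
    · exact Or.inl (orderOf_dvd_iff_pow_eq_one.1 (hx.symm ▸ hpi))
    · right
      have hco : (orderOf x).Coprime i := hx.symm ▸ hp.coprime_iff_not_dvd.2 hpi
      obtain ⟨j, hj⟩ := exists_pow_eq_self_of_coprime hco.symm
      rw [hkdef]
      congr 1
      ext y
      rw [Subgroup.mem_centralizer_singleton_iff, Subgroup.mem_centralizer_singleton_iff]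
      constructor
      · intro h
        rw [← hj]
        exact (Commute.pow_right (h : Commute y (x ^ i)) j).eq
      · intro h
        exact (Commute.pow_right (h : Commute y x) i).eq
  have hval : ∀ i : ℕ, IsIntegral ℤ ((χ : G → ℂ) (x ^ i) * d / n) ∧
      MemLocalIdeal M ((χ : G → ℂ) (x ^ i) * d / n - d) := by
    intro i
    rcases hcase i with h | h
    · rw [h, ← hn1, mul_div_cancel_left₀ _ hnC, sub_self]
      exact ⟨by simpa using isIntegral_algebraMap (R := ℤ) (A := ℂ) (x := (d : ℤ)), LI.zero hM⟩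
    · have hω : centralChar (χ : G → ℂ) (x ^ i) = (k : ℂ) * (χ : G → ℂ) (x ^ i) / n := by
        rw [centralChar, h, hn1]
      constructor
      · have e : (χ : G → ℂ) (x ^ i) * d / n = (Nat.gcdA n k : ℂ) * (χ : G → ℂ) (x ^ i)
            + (Nat.gcdB n k : ℂ) * centralChar (χ : G → ℂ) (x ^ i) := by
          rw [hω, ← hbez]; field_simp
        rw [e]
        exact ((isIntegral_algebraMap (R := ℤ) (A := ℂ) (x := Nat.gcdA n k)).mul
          (irr_isIntegral χ _)).add ((isIntegral_algebraMap (R := ℤ) (A := ℂ)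
          (x := Nat.gcdB n k)).mul (isIntegral_centralChar χ _))
      · have h1 : MemLocalIdeal M (centralChar (χ : G → ℂ) (x ^ i) - k) := by
          have h2 : SameBlock M (fun _ : G => (1 : ℂ)) (χ : G → ℂ) := hχB
          have h3 := LI.sub_comm (h2 (x ^ i))
          rwa [show centralChar (fun _ : G => (1 : ℂ)) (x ^ i) = (k : ℂ) by
            simp [centralChar, h]] at h3
        have hku : ¬ MemLocalIdeal M (k : ℂ) := fun hh => hpk ((LI.natCast_iff hM k).1 hh)
        have e : (χ : G → ℂ) (x ^ i) * d / n - d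
            = (k : ℂ)⁻¹ * ((d : ℂ) * (centralChar (χ : G → ℂ) (x ^ i) - k)) := by
          have hkC : (k : ℂ) ≠ 0 := ne_zero_of_not_LI hM hku
          rw [hω]; field_simp
        rw [e]
        exact LI.mul_left hM (LR.inv hM (LR.natCast hM k) hku)
          (LI.mul_left hM (LR.natCast hM d) h1)
  -- the unitary representation
  obtain ⟨n', ρ, hρ, he⟩ := χ.2
  haveI := hρ
  obtain ⟨W, σ, e, hU, hσ⟩ := exists_unitary_equiv ρ
  have htr : ∀ g, LinearMap.trace ℂ W (σ g) = (χ : G → ℂ) g := fun g => by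
    rw [hσ, LinearMap.trace_conj', ← congrFun he g]; rfl
  have hnn : finrank ℂ W = n := by
    have h := htr 1
    rw [map_one, LinearMap.trace_one, ← hn1] at h
    exact_mod_cast h
  have hirr : ∀ U : Submodule ℂ W, (∀ g, ∀ v ∈ U, σ g v ∈ U) → U = ⊥ ∨ U = ⊤ := by
    intro U hUi
    let T : Subrepresentation ρ :=
      ⟨U.comap (e : (Fin n' → ℂ) →ₗ[ℂ] W), fun g v hv => by
        have := hUi g _ (Submodule.mem_comap.1 hv)
        rw [hσ] at this
        simpa [LinearEquiv.conj_apply_apply] using this⟩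
    rcases eq_bot_or_eq_top T with h | h
    · left
      rw [eq_bot_iff]
      intro v hv
      obtain ⟨u, rfl⟩ := e.surjective v
      have hu : u ∈ T.toSubmodule := hv
      rw [h] at hu
      change u ∈ (⊥ : Submodule ℂ (Fin n' → ℂ)) at hu
      rw [(Submodule.mem_bot ℂ).1 hu, map_zero]
      exact Submodule.zero_mem _
    · right
      rw [eq_top_iff]
      intro v _
      obtain ⟨u, rfl⟩ := e.surjective v
      have hu : u ∈ T.toSubmodule := by rw [h]; exact Submodule.mem_top
      exact hu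
  haveI : Nontrivial W := Module.nontrivial_of_finrank_pos (R := ℂ) (by rw [hnn]; omega)
  have hinj : Function.Injective σ := by
    rcases (inferInstance : σ.ker.Normal).eq_bot_or_eq_top with h | h
    · exact (MonoidHom.ker_eq_bot_iff σ).1 h
    · exfalso
      have hall : ∀ g, σ g = 1 := fun g => (h ▸ Subgroup.mem_top g : g ∈ σ.ker)
      obtain ⟨v, hv⟩ := exists_ne (0 : W)
      have hone : finrank ℂ W = 1 := by
        rcases hirr (ℂ ∙ v) (fun g w hw => by rw [hall g]; exact hw) with h | h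
        · exact absurd (Submodule.span_singleton_eq_bot.1 h) hv
        · rw [← finrank_top ℂ W, ← h, finrank_span_singleton hv]
      apply hχ1
      apply Subtype.ext
      funext g
      rw [← htr g, hall g, LinearMap.trace_one, hone, trivChar_apply, Nat.cast_one]
  -- the eigenprojections of `x`
  set ζ := Complex.exp (2 * Real.pi * Complex.I / p) with hζdef
  have hζ : IsPrimitiveRoot ζ p := Complex.isPrimitiveRoot_exp p hp.ne_zero
  have hp0 : (p : ℂ) ≠ 0 := Nat.cast_ne_zero.2 hp.ne_zero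
  let w : ℕ → ℂ := fun j => (ζ ^ j)⁻¹
  have hw : ∀ j, w j ^ p = 1 := fun j => by
    simp only [w]; rw [inv_pow, ← pow_mul, mul_comm, pow_mul, hζ.pow_eq_one, one_pow, inv_one]
  have hζw : ∀ j, ζ ^ j * w j = 1 := fun j =>
    mul_inv_cancel₀ (pow_ne_zero _ (hζ.ne_zero hp.ne_zero))
  let P : ℕ → W →ₗ[ℂ] W := fun j =>
    (p : ℂ)⁻¹ • ∑ i ∈ Finset.range p, w j ^ i • σ (x ^ i)
  have hshift : ∀ j, σ x * P j = ζ ^ j • P j := by
    intro j
    let F : ℕ → (W →ₗ[ℂ] W) := fun i => w j ^ i • σ (x ^ i)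
    have h2 : ∑ i ∈ Finset.range p, F (i + 1) = ∑ i ∈ Finset.range p, F i := by
      have h1 := Finset.sum_range_succ' F p
      rw [Finset.sum_range_succ] at h1
      have h3 : F p = F 0 := by
        have h4 : x ^ p = 1 := hx ▸ pow_orderOf_eq_one x
        simp only [F, hw, h4, pow_zero]
      rw [h3] at h1
      exact (add_right_cancel h1).symm
    simp only [P]
    rw [mul_smul_comm, Finset.mul_sum, smul_comm (ζ ^ j)]
    congr 1
    rw [← h2, Finset.smul_sum]
    refine Finset.sum_congr rfl fun i _ => ?_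
    simp only [F]
    rw [mul_smul_comm, ← map_mul, ← pow_succ', smul_smul, pow_succ (w j), ← mul_assoc,
      mul_right_comm, hζw, one_mul]
  have hpowP : ∀ j i, σ (x ^ i) * P j = (ζ ^ j) ^ i • P j := by
    intro j i
    induction i with
    | zero => simp
    | succ i ih =>
      rw [pow_succ' x, map_mul, mul_assoc, ih, mul_smul_comm, hshift, smul_smul, ← pow_succ]
  have hPP : ∀ j, P j * P j = P j := by
    intro j
    conv_lhs => arg 1; simp only [P]
    rw [smul_mul_assoc, Finset.sum_mul]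
    have : ∀ i ∈ Finset.range p, (w j ^ i • σ (x ^ i)) * P j = P j := fun i _ => by
      rw [smul_mul_assoc, hpowP, smul_smul, ← mul_pow, mul_comm, hζw, one_pow, one_smul]
    rw [Finset.sum_congr rfl this, Finset.sum_const, Finset.card_range,
      ← Nat.cast_smul_eq_nsmul ℂ, smul_smul, inv_mul_cancel₀ hp0, one_smul]
  have hsum : ∑ j ∈ Finset.range p, P j = 1 := by
    simp only [P]
    rw [← Finset.smul_sum, Finset.sum_comm, Finset.sum_eq_single 0]
    · simp only [pow_zero, one_smul, map_one, Finset.sum_const, Finset.card_range]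
      rw [← Nat.cast_smul_eq_nsmul ℂ, smul_smul, inv_mul_cancel₀ hp0, one_smul]
    · intro i hi hi0
      rw [← Finset.sum_smul]
      have : ∑ j ∈ Finset.range p, w j ^ i = 0 := by
        have hne1 : (ζ ^ i)⁻¹ ≠ 1 := fun h => by
          rw [inv_eq_one, hζ.pow_eq_one_iff_dvd] at h
          exact hi0 (Nat.eq_zero_of_dvd_of_lt h (Finset.mem_range.1 hi))
        have : ∀ j, w j ^ i = ((ζ ^ i)⁻¹) ^ j := fun j => by
          simp only [w]; rw [inv_pow, inv_pow, ← pow_mul, ← pow_mul, mul_comm]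
        simp only [this]
        rw [geom_sum_eq hne1, inv_pow, ← pow_mul, mul_comm, pow_mul, hζ.pow_eq_one, one_pow,
          inv_one, sub_self, zero_div]
      rw [this, zero_smul]
    · intro h; exact absurd (Finset.mem_range.2 hp.pos) h
  have hproj : ∀ j, LinearMap.IsProj (LinearMap.range (P j)) (P j) := fun j =>
    { map_mem := fun v => LinearMap.mem_range_self _ v
      map_id := fun v hv => by
        obtain ⟨u, rfl⟩ := hv
        exact congrArg (fun T : W →ₗ[ℂ] W => T u) (hPP j) }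
  set m : ℕ → ℕ := fun j => finrank ℂ (LinearMap.range (P j)) with hmdef
  have htrP : ∀ j, LinearMap.trace ℂ W (P j) = (m j : ℂ) := fun j => (hproj j).trace
  have hmsum : ∑ j ∈ Finset.range p, m j = n := by
    have h : ((∑ j ∈ Finset.range p, m j : ℕ) : ℂ) = ((n : ℕ) : ℂ) := by
      rw [Nat.cast_sum]
      simp only [← htrP]
      rw [← map_sum, hsum, LinearMap.trace_one, hnn]
    exact_mod_cast h
  have hdvd : ∀ j, n ∣ m j * d := by
    intro j
    refine dvd_mult hM hn0 (hw j) (χ := fun i => (χ : G → ℂ) (x ^ i)) ?_ (fun i => (hval i).1)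
      (fun i => (hval i).2)
    rw [← htrP]
    simp only [P, map_smul, map_sum, smul_eq_mul, htr]
    rw [← mul_assoc, mul_inv_cancel₀ hp0, one_mul]
  set J := (Finset.range p).filter fun j => P j ≠ 0 with hJ
  have hJd : J.card ≤ d := by
    have h1 : ∀ j ∈ J, n ≤ m j * d := by
      intro j hj
      rw [hJ, Finset.mem_filter] at hj
      refine Nat.le_of_dvd (Nat.mul_pos ?_ (Nat.gcd_pos_of_pos_left _ (charDegree_pos χ))) (hdvd j)
      rw [hmdef]
      exact Nat.pos_of_ne_zero fun h =>
        hj.2 (LinearMap.range_eq_bot.1 (Submodule.finrank_eq_zero.1 h))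
    have h2 : J.card * n ≤ n * d := by
      calc J.card * n = ∑ _j ∈ J, n := by rw [Finset.sum_const, smul_eq_mul]
        _ ≤ ∑ j ∈ J, m j * d := Finset.sum_le_sum h1
        _ ≤ ∑ j ∈ Finset.range p, m j * d :=
          Finset.sum_le_sum_of_subset (Finset.filter_subset _ _)
        _ = n * d := by rw [← Finset.sum_mul, hmsum]
    exact Nat.le_of_mul_le_mul_left (by rw [mul_comm]; exact h2) (charDegree_pos χ)
  have hsumJ : ∀ v, v = ∑ j ∈ J, P j v := by
    intro v
    have h := congrArg (fun T : W →ₗ[ℂ] W => T v) hsum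
    simp only [LinearMap.sum_apply, Module.End.one_apply] at h
    conv_lhs => rw [← h]
    rw [hJ]
    refine (Finset.sum_filter_of_ne (s := Finset.range p) (f := fun j => P j v)
      (p := fun j => P j ≠ 0) fun j _ hj hz => hj ?_).symm
    simp [hz]
  obtain ⟨j₀, hj₀⟩ : J.Nonempty := by
    rw [Finset.nonempty_iff_ne_empty]
    intro h
    obtain ⟨v, hv⟩ := exists_ne (0 : W)
    exact hv (by rw [hsumJ v, h, Finset.sum_empty])
  have key := @CfsgLib.CharDeep.BlichfeldtSixty.false_of_few_eigenvalues G _ ↥W _ _ _ σ hU _ _ hnc hinj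
    hirr p g₀ hp x hx ζ hζdef J
  refine key (hJd.trans (Nat.le_of_dvd hg0 hdg)) ?_ (P := P) (j₀ := j₀) (fun j _ v => ?_) hsumJ
    (fun j hj => Finset.mem_range.1 (Finset.mem_filter.1 hj).1) hj₀
    (by exact (Finset.mem_filter.1 hj₀).2)
  · rcases hle.lt_or_eq with h | h
    · exact h
    · exfalso
      rcases Nat.eq_zero_or_pos (g₀ - 1) with h0 | h0
      · rw [h0, pow_zero] at h; exact hp.one_lt.ne h
      · have h6 : 6 ∣ p := h ▸ dvd_pow_self 6 h0.ne'
        rcases (Nat.dvd_prime hp).1 h6 with h | h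
        · omega
        · rw [← h] at hp; norm_num at hp
  · exact congrArg (fun T : W →ₗ[ℂ] W => T v) (hshift j)

end Helpers


/-- A refinement of Burnside's result on simple groups of order divisible by only two primes. Let G be a finite simple group of order p^a · q^b · g₀ with p, q distinct primes, a > 0, g₀ coprime to p and q, and the order of G different from p. Then g₀ − 1 > log p / log 6, that is 6^(g₀ − 1) > p. -/
theorem result {G : Type*} [Group G] [Finite G] [IsSimpleGroup G] (p q a b g₀ : ℕ) (hp : p.Prime) (hq : q.Prime) (hpq : p ≠ q) (ha : 0 < a) (hg : Nat.card G = p ^ a * q ^ b * g₀) (hcop : ¬ p ∣ g₀) (hcoq : ¬ q ∣ g₀) (hne : Nat.card G ≠ p) : p < 6 ^ (g₀ - 1) := by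
  haveI := Fintype.ofFinite G
  exact main p q a b g₀ hp hq hpq ha hg hcop hne

end Cfsg.Agent.S4484
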