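import Cfsg.Statements.S3716
import Cfsg.Agent.Lib.Derangements.TISets
import Cfsg.Agent.Lib.Derangements.NineModel
import Cfsg.Agent.Lib.Derangements.NineArith
import Cfsg.Agent.Lib.Char.Virtual

set_option autoImplicit false
open Cfsg
set_option linter.style.haveILetI false
set_option linter.constructorNameAsVariable false

namespace Cfsg.Agent.S3716

open scoped ComplexConjugate
open CfsgLib CfsgLib.NineModel

section Lift

variable {K : Type*} [Group K]

/-- A homomorphism from the symmetric group of degree three. -/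
def liftD (a s : K) (ha : a ^ 3 = 1) (hs : s * s = 1) (hsa : s * a * s⁻¹ = a⁻¹) : D →* K where
  toFun
    | .r i => a ^ i.val
    | .sr i => s * a ^ i.val
  map_one' := by
    show a ^ (0 : ZMod 3).val = 1
    simp
  map_mul' := by
    have hv : ∀ i j : ZMod 3, a ^ (i + j).val = a ^ i.val * a ^ j.val := fun i j => by
      rw [← pow_add, ZMod.val_add, ← pow_mod_orderOf, Nat.mod_mod_of_dvd _
        (orderOf_dvd_of_pow_eq_one ha), pow_mod_orderOf]
    have hn : ∀ i : ZMod 3, a ^ (-i).val = (a ^ i.val)⁻¹ := fun i => by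
      refine eq_inv_of_mul_eq_one_left ?_
      rw [← hv, neg_add_cancel]
      simp
    have hsi : s⁻¹ = s := inv_eq_of_mul_eq_one_right hs
    have hc : ∀ i : ℕ, s * a ^ i = (a ^ i)⁻¹ * s := fun i => by
      have h := conj_pow (a := s) (b := a) (i := i)
      rw [hsa, inv_pow] at h
      rw [h, inv_mul_cancel_right]
    rintro (i | i) (j | j)
    · exact hv i j
    · show s * a ^ (j - i).val = a ^ i.val * (s * a ^ j.val)
      rw [sub_eq_add_neg, hv, hn, ← mul_assoc (a ^ i.val) s, ← mul_assoc s]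
      have : a ^ i.val * s = s * (a ^ i.val)⁻¹ := by
        have h := hc i.val
        calc a ^ i.val * s = a ^ i.val * (s * a ^ i.val) * (a ^ i.val)⁻¹ := by group
          _ = a ^ i.val * ((a ^ i.val)⁻¹ * s) * (a ^ i.val)⁻¹ := by rw [h]
          _ = s * (a ^ i.val)⁻¹ := by group
      rw [this, mul_assoc, mul_assoc, (((Commute.refl a).pow_pow _ _).inv_right).eq]
    · show s * a ^ (i + j).val = s * a ^ i.val * a ^ j.val
      rw [hv, mul_assoc]
    · show a ^ (j - i).val = s * a ^ i.val * (s * a ^ j.val)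
      rw [sub_eq_add_neg, hv, hn, hc i.val, mul_assoc, ← mul_assoc s s, hs, one_mul]
      exact (((Commute.refl a).pow_pow _ _).inv_right).eq

/-- Data for a homomorphism from the wreath product. -/
structure Gens (a1 a2 s1 s2 u : K) : Prop where
  a1c : a1 ^ 3 = 1
  a2c : a2 ^ 3 = 1
  s1c : s1 * s1 = 1
  s2c : s2 * s2 = 1
  uc : u * u = 1
  inv1 : s1 * a1 * s1⁻¹ = a1⁻¹
  inv2 : s2 * a2 * s2⁻¹ = a2⁻¹
  aa : Commute a1 a2
  ss : Commute s1 s2
  as12 : Commute a1 s2
  as21 : Commute a2 s1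
  ua : u * a1 * u⁻¹ = a2
  us : u * s1 * u⁻¹ = s2

variable {a1 a2 s1 s2 u : K}

theorem Gens.commute (h : Gens a1 a2 s1 s2 u) : ∀ x y : D,
    Commute (liftD a1 s1 h.a1c h.s1c h.inv1 x) (liftD a2 s2 h.a2c h.s2c h.inv2 y)
  | .r _, .r _ => h.aa.pow_pow _ _
  | .r _, .sr _ => (h.as12.pow_left _).mul_right (h.aa.pow_pow _ _)
  | .sr _, .r _ => ((h.as21.symm).pow_right _).mul_left (h.aa.pow_pow _ _)
  | .sr _, .sr _ =>
    (h.ss.mul_right ((h.as21.symm).pow_right _)).mul_left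
      ((h.as12.pow_left _).mul_right (h.aa.pow_pow _ _))

/-- The pair of coordinates. -/
noncomputable def Gens.pairHom (h : Gens a1 a2 s1 s2 u) : D × D →* K :=
  MonoidHom.noncommCoprod (liftD a1 s1 h.a1c h.s1c h.inv1) (liftD a2 s2 h.a2c h.s2c h.inv2) h.commute

theorem Gens.conj_pair (h : Gens a1 a2 s1 s2 u) (x : D × D) :
    u * h.pairHom x * u⁻¹ = h.pairHom (sw true x) := by
  obtain ⟨x, y⟩ := x
  show u * (liftD a1 s1 _ _ _ x * liftD a2 s2 _ _ _ y) * u⁻¹ =
    liftD a1 s1 _ _ _ y * liftD a2 s2 _ _ _ x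
  have hui : u⁻¹ = u := inv_eq_of_mul_eq_one_right h.uc
  have ub : u * a2 * u⁻¹ = a1 := by
    rw [← h.ua, hui, show u * (u * a1 * u) * u = u * u * a1 * (u * u) by group, h.uc]; group
  have ut : u * s2 * u⁻¹ = s1 := by
    rw [← h.us, hui, show u * (u * s1 * u) * u = u * u * s1 * (u * u) by group, h.uc]; group
  have k1 : ∀ x, u * liftD a1 s1 h.a1c h.s1c h.inv1 x * u⁻¹ = liftD a2 s2 h.a2c h.s2c h.inv2 x := by
    rintro (i | i)
    · show u * a1 ^ i.val * u⁻¹ = a2 ^ i.val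
      rw [← conj_pow, h.ua]
    · show u * (s1 * a1 ^ i.val) * u⁻¹ = s2 * a2 ^ i.val
      rw [← h.ua, ← h.us, conj_pow]; group
  have k2 : ∀ x, u * liftD a2 s2 h.a2c h.s2c h.inv2 x * u⁻¹ = liftD a1 s1 h.a1c h.s1c h.inv1 x := by
    rintro (i | i)
    · show u * a2 ^ i.val * u⁻¹ = a1 ^ i.val
      rw [← conj_pow, ub]
    · show u * (s2 * a2 ^ i.val) * u⁻¹ = s1 * a1 ^ i.val
      rw [← ub, ← ut, conj_pow]; group
  calc u * (liftD a1 s1 _ _ _ x * liftD a2 s2 _ _ _ y) * u⁻¹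
      = (u * liftD a1 s1 h.a1c h.s1c h.inv1 x * u⁻¹) * (u * liftD a2 s2 h.a2c h.s2c h.inv2 y * u⁻¹) := by
        group
    _ = _ := by rw [k1, k2]; exact (h.commute y x).symm.eq

/-- The homomorphism from the wreath product. -/
noncomputable def Gens.hom (h : Gens a1 a2 s1 s2 u) : W →* K where
  toFun x := h.pairHom x.d * (if x.w then u else 1)
  map_one' := by
    show h.pairHom 1 * 1 = 1
    rw [map_one, one_mul]
  map_mul' x y := by
    obtain ⟨d, v⟩ := x
    obtain ⟨d', w⟩ := y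
    simp only [mul_d, mul_w, map_mul]
    cases v
    · cases w <;> simp [sw, mul_assoc]
    · have hk : h.pairHom (sw true d') * u = u * h.pairHom d' := by
        rw [← h.conj_pair, inv_mul_cancel_right]
      cases w
      · simp only [Bool.bne_false, Bool.xor_false, if_true, if_false, mul_one, Bool.false_eq_true]
        rw [mul_assoc, hk, ← mul_assoc]
      · simp only [Bool.xor_self, if_true, if_false, mul_one, Bool.false_eq_true]
        rw [show h.pairHom (sw true d') = u * h.pairHom d' * u⁻¹ from (h.conj_pair d').symm,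
          inv_eq_of_mul_eq_one_right h.uc]
        group

theorem Gens.hom_tr (h : Gens a1 a2 s1 s2 u) (i j : ZMod 3) :
    h.hom ⟨(.r i, .r j), false⟩ = a1 ^ i.val * a2 ^ j.val := by
  show (liftD a1 s1 h.a1c h.s1c h.inv1 (.r i) * liftD a2 s2 h.a2c h.s2c h.inv2 (.r j)) *
    (if (false : Bool) = true then u else 1) = _
  rw [if_neg Bool.false_ne_true, mul_one]
  rfl

end Lift

theorem inj_of_tr {K : Type*} [Group K] (f : W →* K)
    (h : ∀ m, isTr m = true → f m = 1 → m = 1) : Function.Injective f := by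
  refine (injective_iff_map_eq_one f).mpr fun m hm => ?_
  by_contra hne
  have key : ∀ m : W, m ≠ 1 → isTr m = true ∨
      ∃ g, isTr (g * m * g⁻¹ * m⁻¹) = true ∧ g * m * g⁻¹ * m⁻¹ ≠ 1 := by decide +kernel
  rcases key m hne with h1 | ⟨g, h1, h2⟩
  · exact hne (h m h1 hm)
  · exact h2 (h _ h1 (by simp [map_mul, map_inv, hm]))

theorem sq_centralizes {G : Type*} [Group G] [Finite G] (X : Subgroup G) (hX : Nat.card X = 3)
    (r : G) (hr : ∀ x ∈ X, r * x * r⁻¹ ∈ X) : ∀ x ∈ X, r * r * x * (r * r)⁻¹ = x := by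
  intro x hx
  by_cases hx1 : x = 1
  · rw [hx1]; group
  have hgen : X = Subgroup.zpowers x := by
    refine (Subgroup.eq_of_le_of_card_ge (Subgroup.zpowers_le.mpr hx) ?_).symm
    rw [hX, Nat.card_zpowers]
    have h3 : orderOf x ∣ 3 := hX ▸ Subgroup.orderOf_dvd_natCard X hx
    rcases (Nat.dvd_prime Nat.prime_three).mp h3 with h | h
    · exact absurd (orderOf_eq_one_iff.mp h) hx1
    · exact h.ge
  have h := hr x hx
  rw [hgen] at h
  obtain ⟨k, hk⟩ := h
  simp only at hk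
  have hk' : r * r * x * (r * r)⁻¹ = x ^ (k * k) := by
    rw [show r * r * x * (r * r)⁻¹ = r * (r * x * r⁻¹) * r⁻¹ by group, ← hk, ← conj_zpow, ← hk,
      ← zpow_mul]
  rw [hk']
  have h3 : x ^ (3 : ℤ) = 1 := by
    have := hX ▸ Subgroup.orderOf_dvd_natCard X hx
    exact_mod_cast orderOf_dvd_iff_pow_eq_one.mp this
  rcases (show k % 3 = 0 ∨ k * k % 3 = 1 by
    rcases (show k % 3 = 0 ∨ k % 3 = 1 ∨ k % 3 = 2 by omega) with e | e | e
    · exact Or.inl e
    · exact Or.inr (by rw [Int.mul_emod, e]; rfl)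
    · exact Or.inr (by rw [Int.mul_emod, e]; rfl)) with e | e
  · exfalso
    apply hx1
    have : x ^ k = 1 := by
      rw [← Int.mul_ediv_add_emod k 3, e, add_zero, zpow_mul, h3, one_zpow]
    rw [this] at hk
    exact conj_eq_one_iff.mp hk.symm
  · rw [← Int.mul_ediv_add_emod (k * k) 3, e, zpow_add, zpow_mul, h3, one_zpow, one_mul, zpow_one]

/-- The generators of an automorphism exchanging two classes of involutions. -/
theorem swap_gens : Gens (⟨(.r 1, .r 1), false⟩ : W) ⟨(.r 1, .r 2), false⟩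
    ⟨(.sr 0, .sr 0), true⟩ ⟨(1, 1), true⟩ ⟨(1, .sr 0), false⟩ :=
  ⟨by decide +kernel, by decide +kernel, by decide +kernel, by decide +kernel, by decide +kernel,
    by decide +kernel, by decide +kernel, (by decide +kernel : _ = _), (by decide +kernel : _ = _),
    (by decide +kernel : _ = _), (by decide +kernel : _ = _), by decide +kernel, by decide +kernel⟩

/-- A cyclic group of order six. -/
abbrev Z6 := Multiplicative (ZMod 6)

theorem gen_restrict_six {K : Type*} [Group K] {θ : K → ℂ} (hθ : Cfsg.IsGeneralizedCharacter K θ)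
    (z : K) (hz : z ^ 6 = 1) : ∃ n : ℤ, θ z + θ (z ^ 3) + θ (z ^ 5) = 3 * n := by
  let f : Z6 →* K :=
    { toFun := fun i => z ^ (Multiplicative.toAdd i).val
      map_one' := by simp
      map_mul' := fun i j => by
        rw [← pow_add, toAdd_mul, ZMod.val_add, ← pow_mod_orderOf, Nat.mod_mod_of_dvd _
          (orderOf_dvd_of_pow_eq_one hz), pow_mod_orderOf] }
  let sgn : Z6 →* ℤˣ :=
    { toFun := fun i => if (Multiplicative.toAdd i).val % 2 = 0 then 1 else -1
      map_one' := rfl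
      map_mul' := by decide +kernel }
  obtain ⟨a, ha⟩ := Char.IsGeneralizedCharacter.classInner_int (TIPairs.gen_comp hθ f)
    (Char.IsCharacter.isGeneralizedCharacter (Char.isCharacter_one (G := Z6)))
  obtain ⟨b, hb⟩ := Char.IsGeneralizedCharacter.classInner_int (TIPairs.gen_comp hθ f)
    (TIPairs.gen_hom sgn)
  refine ⟨a - b, ?_⟩
  have hs : ∀ F : Z6 → ℂ, ∑ i, F i = ∑ i : Fin 6, F (Multiplicative.ofAdd (show ZMod 6 from i)) :=
    fun F => (Fintype.sum_equiv Multiplicative.ofAdd _ _ fun _ => rfl).symm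
  rw [Cfsg.classInner, hs, Fin.sum_univ_six] at ha hb
  have hc : (Nat.card Z6 : ℂ) = 6 := by
    rw [Nat.card_eq_fintype_card]; norm_num
  rw [hc] at ha hb
  push_cast
  rw [← ha, ← hb]
  simp only [Function.comp_apply, map_one, map_intCast]
  show θ z + θ (z ^ 3) + θ (z ^ 5) = _
  have e : ∀ i : Fin 6, f (Multiplicative.ofAdd (show ZMod 6 from i)) = z ^ i.val := fun i => rfl
  have g : ∀ i : Fin 6, (sgn (Multiplicative.ofAdd (show ZMod 6 from i)) : ℤ) =
      if i.val % 2 = 0 then 1 else -1 := fun i => by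
    show (((if i.val % 2 = 0 then 1 else -1 : ℤˣ)) : ℤ) = _
    split_ifs <;> rfl
  simp only [e, g]
  simp
  ring

section Select

open NineArith

/-- The negative of a point. -/
noncomputable def negPt (p : Pt) : Pt := ⟨-p.d, -p.k, -p.l⟩

/-- A point with a small coefficient. -/
noncomputable def pickPt (c : ℤ) (p : Pt) : List Pt :=
  if c = 1 then [p] else if c = -1 then [negPt p] else []

theorem pickPt_sum (φ : Pt → ℝ) (hodd : ∀ p, φ (negPt p) = -φ p) (c : ℤ)
    (hc : c = 0 ∨ c = 1 ∨ c = -1) (p : Pt) : ((pickPt c p).map φ).sum = (c : ℝ) * φ p := by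
  rcases hc with rfl | rfl | rfl <;> simp [pickPt, hodd]

theorem pickPt_ne (c : ℤ) (p : Pt) (hp : p.d ≠ 0) : ∀ q ∈ pickPt c p, q.d ≠ 0 := by
  intro q hq
  unfold pickPt at hq
  split_ifs at hq <;> simp at hq <;> subst hq <;> simp [negPt, hp]

/-- The selected points. -/
noncomputable def selPts : List ℤ → List Pt → List Pt
  | c :: cs, p :: ps => pickPt c p ++ selPts cs ps
  | _, _ => []

theorem selPts_sum (φ : Pt → ℝ) (hodd : ∀ p, φ (negPt p) = -φ p) :
    ∀ (cs : List ℤ) (ps : List Pt), (∀ c ∈ cs, c = 0 ∨ c = 1 ∨ c = -1) →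
      ((selPts cs ps).map φ).sum = (List.zipWith (fun (c : ℤ) p => (c : ℝ) * φ p) cs ps).sum
  | [], _, _ => by simp [selPts]
  | _ :: _, [], _ => by simp [selPts]
  | c :: cs, p :: ps, h => by
    simp only [selPts, List.map_append, List.sum_append, List.zipWith_cons_cons, List.sum_cons]
    rw [pickPt_sum φ hodd c (h c List.mem_cons_self),
      selPts_sum φ hodd cs ps fun x hx => h x (List.mem_cons_of_mem _ hx)]

theorem selPts_ne : ∀ (cs : List ℤ) (ps : List Pt), (∀ p ∈ ps, p.d ≠ 0) →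
    ∀ q ∈ selPts cs ps, q.d ≠ 0
  | [], _, _, q, hq => by simp [selPts] at hq
  | _ :: _, [], _, q, hq => by simp [selPts] at hq
  | c :: cs, p :: ps, h, q, hq => by
    simp only [selPts, List.mem_append] at hq
    rcases hq with hq | hq
    · exact pickPt_ne c p (h p List.mem_cons_self) q hq
    · exact selPts_ne cs ps (fun x hx => h x (List.mem_cons_of_mem _ hx)) q hq

/-- The six equations of a list of points. -/
structure Sums (A B C g : ℝ) (l : List Pt) : Prop where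
  hne : ∀ p ∈ l, p.d ≠ 0
  sd : (l.map fun p => p.d).sum = 0
  sk : (l.map fun p => p.k).sum = 0
  sl : (l.map fun p => p.l).sum = 0
  kk : (l.map fun p => p.k * p.k / p.d).sum = A * g
  kl : (l.map fun p => p.k * p.l / p.d).sum = B * g
  ll : (l.map fun p => p.l * p.l / p.d).sum = C * g

theorem Sums.row {A B C g : ℝ} {p q r s : Pt} (h : Sums A B C g [p, q, r, s]) :
    Row A B C g p q r s := by
  obtain ⟨hne, sd, sk, sl, kk, kl, ll⟩ := h
  simp only [List.map_cons, List.map_nil, List.sum_cons, List.sum_nil, add_zero, ← pow_two] at sd sk sl kk kl ll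
  refine ⟨hne p (by simp), hne q (by simp), hne r (by simp), hne s (by simp), ?_, ?_, ?_, ?_, ?_, ?_⟩
  all_goals linarith

theorem inv_add_ne {a b : ℝ} {u v : ℤ} (ha : a = u) (hb : b = v) (hu : u ≠ 0) (hv : v ≠ 0)
    (h : u + v ≠ 0) : 1 / a + 1 / b ≠ 0 := by
  subst ha hb
  have u0 : (u : ℝ) ≠ 0 := by exact_mod_cast hu
  have v0 : (v : ℝ) ≠ 0 := by exact_mod_cast hv
  rw [div_add_div _ _ u0 v0]
  refine div_ne_zero ?_ (mul_ne_zero u0 v0)
  exact_mod_cast (show 1 * v + u * 1 ≠ 0 by omega)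

/-- The coefficients of the three bilinear equations. -/
noncomputable def qv (i : Fin 4) (k : ℕ) : ℝ := (((qTab.getD i.val []).getD k 0 : ℤ) : ℝ) / 2

theorem cand_small : ∀ s ∈ candTab, ∀ c ∈ s, ∀ j : Fin 4,
    c.getD j.val 0 = 0 ∨ c.getD j.val 0 = 1 ∨ c.getD j.val 0 = -1 := by decide +kernel

theorem tr_iff : ∀ m : W, m ^ 3 = 1 ↔ isTr m = true := by decide +kernel

theorem zA_inv : ∃ g : W, g * zA * g⁻¹ = zA ^ 5 := by decide +kernel
theorem zB_inv : ∃ g : W, g * zB * g⁻¹ = zB ^ 5 := by decide +kernel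

theorem gram_diag : ∀ k : Fin 4, gramN k.val k.val ≤ 4 := by decide +kernel

theorem swap_key : ∀ i j : ZMod 3,
    (⟨(.r 1, .r 1), false⟩ : W) ^ i.val * (⟨(.r 1, .r 2), false⟩ : W) ^ j.val = 1 →
      (⟨(.r i, .r j), false⟩ : W) = 1 := by decide +kernel

theorem swap_vals : ts * swap_gens.hom ts * ts⁻¹ = t1 ∧ swap_gens.hom t2 = t2 := by
  decide +kernel

theorem qv_vals : qv 0 0 = 8 ∧ qv 0 1 = 0 ∧ qv 0 2 = 1 ∧ qv 1 0 = 11 / 2 ∧ qv 1 1 = 3 / 2 ∧
    qv 1 2 = 1 / 2 ∧ qv 2 0 = 2 ∧ qv 2 1 = 0 ∧ qv 2 2 = 1 ∧ qv 3 0 = 11 / 2 ∧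
    qv 3 1 = -(3 / 2) ∧ qv 3 2 = 1 / 2 := by
  norm_num [qv, qTab]

end Select

/-- Let G be a finite group with an elementary abelian Sylow 3-subgroup M of order 9 which is self-centralizing (C_G(M) = M), let N = N_G(M), and suppose C_G(g) ≤ N for every nonidentity g ∈ M. If the Sylow 2-subgroups of N are dihedral of order 8, then G is not simple. -/
theorem result {G : Type*} [Group G] [Finite G] (M : Sylow 3 G) (hM9 : Nat.card ↥(M : Subgroup G) = 9)
    (hMel : ∀ m ∈ (M : Subgroup G), m ^ 3 = 1)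
    (hCM : Subgroup.centralizer ((M : Subgroup G) : Set G) = (M : Subgroup G))
    (N : Subgroup G) (hN : N = Subgroup.normalizer ((M : Subgroup G) : Set G))
    (hCg : ∀ g ∈ (M : Subgroup G), g ≠ 1 → Subgroup.centralizer ({g} : Set G) ≤ N)
    (hS : ∀ S : Sylow 2 ↥N, Nonempty (↥(S : Subgroup ↥N) ≃* DihedralGroup 4)) :
    ¬ IsSimpleGroup G := by
  classical
  cases nonempty_fintype G
  have : Fact (Nat.Prime 3) := ⟨Nat.prime_three⟩
  have : Fact (Nat.Prime 2) := ⟨Nat.prime_two⟩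
  intro hsimple
  obtain ⟨Mg, hMg⟩ : ∃ Mg : Subgroup G, Mg = (M : Subgroup G) := ⟨_, rfl⟩
  rw [← hMg] at hM9 hCM hN
  replace hMel : ∀ m ∈ Mg, m ^ 3 = 1 := by rw [hMg]; exact hMel
  replace hCg : ∀ g ∈ Mg, g ≠ 1 → Subgroup.centralizer ({g} : Set G) ≤ N := by rw [hMg]; exact hCg
  have hMN : Mg ≤ N := hN ▸ Subgroup.le_normalizer
  have hnorm : ∀ g ∈ N, ∀ m ∈ Mg, g * m * g⁻¹ ∈ Mg := by
    intro g hg m hm
    rw [hN] at hg
    exact (Subgroup.mem_normalizer_iff.mp hg m).mp hm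
  have hcommM : ∀ a ∈ Mg, ∀ b ∈ Mg, a * b = b * a := by
    intro a ha b hb
    rw [← hCM] at ha
    exact ((Subgroup.mem_centralizer_iff.mp ha) b hb).symm
  have hcentM : ∀ g, (∀ m ∈ Mg, g * m = m * g) → g ∈ Mg := by
    intro g hg
    rw [← hCM]
    exact Subgroup.mem_centralizer_iff.mpr fun m hm => (hg m hm).symm
  -- the 3-elements of the normalizer
  have hM3 : ∀ g ∈ N, g ^ 3 = 1 → g ∈ Mg := by
    intro g hg h3
    have hp : IsPGroup 3 (Subgroup.zpowers g) := by
      refine fun x => ⟨1, ?_⟩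
      obtain ⟨k, hk⟩ := x.2
      apply Subtype.ext
      simp only at hk
      rw [pow_one, Subgroup.coe_pow, ← hk, ← zpow_natCast, ← zpow_mul, mul_comm, zpow_mul]
      simp [h3]
    have hle : Subgroup.zpowers g ≤ Subgroup.normalizer (Mg : Set G) := by
      rw [← hN]; exact Subgroup.zpowers_le.mpr hg
    have hMp : IsPGroup 3 Mg := hMg ▸ M.2
    have hsup : IsPGroup 3 (Subgroup.zpowers g ⊔ Mg : Subgroup G) :=
      hp.to_sup_of_normal_right' hMp hle
    have := M.3 hsup (hMg ▸ le_sup_right)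
    rw [hMg, ← this]
    exact le_sup_left (a := Subgroup.zpowers g) (Subgroup.mem_zpowers g)
  -- the Sylow subgroup for two
  let S : Sylow 2 N := default
  obtain ⟨f⟩ := hS S
  let ι4 : DihedralGroup 4 →* G := N.subtype.comp ((S : Subgroup N).subtype.comp f.symm.toMonoidHom)
  have hι4 : Function.Injective ι4 :=
    N.subtype_injective.comp ((S : Subgroup N).subtype_injective.comp f.symm.injective)
  have hι4N : ∀ x, ι4 x ∈ N := fun x => ((f.symm x : (S : Subgroup N)) : N).2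
  obtain ⟨r, hr⟩ : ∃ r, r = ι4 (.r 1) := ⟨_, rfl⟩
  obtain ⟨t, ht⟩ : ∃ t, t = ι4 (.sr 0) := ⟨_, rfl⟩
  obtain ⟨z, hz⟩ : ∃ z, z = ι4 (.r 2) := ⟨_, rfl⟩
  have rel : r * r = z ∧ t * t = 1 ∧ z * z = 1 ∧ r * t = t * r⁻¹ ∧ z * t = t * z ∧ z * r = r * z ∧
      z ≠ 1 ∧ t * z ≠ 1 ∧ t ≠ 1 ∧ (r * t) * (r * t) = 1 ∧ r⁻¹ = r * z ∧
      r * (t * z) * r⁻¹ = t := by
    rw [hr, ht, hz]
    simp only [← map_mul, ← map_inv, ne_eq, ← map_one ι4, hι4.eq_iff]
    decide
  obtain ⟨rrz, tt, zz, rtr, ztt, zrr, z1, tz1, t1', rt2, rinv, rtz⟩ := rel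
  have hrN : r ∈ N := hr ▸ hι4N _
  have htN : t ∈ N := ht ▸ hι4N _
  have hzN : z ∈ N := hz ▸ hι4N _
  have no_two : ∀ x ∈ Mg, x * x = 1 → x = 1 := by
    intro x hx h2
    have h3 := hMel x hx
    rwa [pow_succ, pow_two, h2, one_mul] at h3
  have hnotM : ∀ x : G, x * x = 1 → x ≠ 1 → ¬ ∀ m ∈ Mg, x * m = m * x := fun x h h1 hc =>
    h1 (no_two x (hcentM x hc) h)
  have hinv2 : ∀ x : G, x * x = 1 → x⁻¹ = x := fun x h => inv_eq_of_mul_eq_one_right h
  -- the central involution inverts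
  have hzinv : ∀ m ∈ Mg, z * m * z⁻¹ = m⁻¹ := by
    by_contra hcon
    push Not at hcon
    obtain ⟨m0, hm0, hne0⟩ := hcon
    apply hnotM z zz z1
    intro x hx
    let Fz' : Subgroup G :=
      { carrier := {m | m ∈ Mg ∧ z * m * z⁻¹ = m}
        one_mem' := ⟨Mg.one_mem, by group⟩
        mul_mem' := fun {a b} ha hb => ⟨Mg.mul_mem ha.1 hb.1, by
          rw [show z * (a * b) * z⁻¹ = z * a * z⁻¹ * (z * b * z⁻¹) by group, ha.2, hb.2]⟩
        inv_mem' := fun {a} ha => ⟨Mg.inv_mem ha.1, by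
          rw [show z * a⁻¹ * z⁻¹ = (z * a * z⁻¹)⁻¹ by group, ha.2]⟩ }
    let Iz : Subgroup G :=
      { carrier := {m | m ∈ Mg ∧ z * m * z⁻¹ = m⁻¹}
        one_mem' := ⟨Mg.one_mem, by group⟩
        mul_mem' := fun {a b} ha hb => ⟨Mg.mul_mem ha.1 hb.1, by
          rw [show z * (a * b) * z⁻¹ = z * a * z⁻¹ * (z * b * z⁻¹) by group, ha.2, hb.2,
            mul_inv_rev, hcommM _ (Mg.inv_mem hb.1) _ (Mg.inv_mem ha.1)]⟩
        inv_mem' := fun {a} ha => ⟨Mg.inv_mem ha.1, by
          rw [show z * a⁻¹ * z⁻¹ = (z * a * z⁻¹)⁻¹ by group, ha.2]⟩ }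
    have hFI : ∀ m ∈ Mg, m * (z * m * z⁻¹) ∈ Fz' ∧ m * (z * m * z⁻¹)⁻¹ ∈ Iz := by
      intro m hm
      have hm' := hnorm z hzN m hm
      refine ⟨⟨Mg.mul_mem hm hm', ?_⟩, Mg.mul_mem hm (Mg.inv_mem hm'), ?_⟩
      · rw [show z * (m * (z * m * z⁻¹)) * z⁻¹ = z * m * z⁻¹ * ((z * z) * m * (z * z)⁻¹) by group,
          zz, inv_one, mul_one, one_mul, hcommM _ hm' _ hm]
      · rw [show z * (m * (z * m * z⁻¹)⁻¹) * z⁻¹ =
          z * m * z⁻¹ * ((z * z) * m⁻¹ * (z * z)⁻¹) by group, zz, inv_one, mul_one, one_mul]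
        group
    by_contra hxc
    have hcard : ∀ X : Subgroup G, X ≤ Mg → X ≠ ⊥ → (∃ y ∈ Mg, y ∉ X) → Nat.card X = 3 := by
      intro X hle hne hy
      have h9 := Subgroup.card_dvd_of_le hle
      rw [hM9, show 9 = 3 ^ 2 by rfl] at h9
      obtain ⟨k, hk, hcd⟩ := (Nat.dvd_prime_pow Nat.prime_three).mp h9
      interval_cases k
      · exact absurd (Subgroup.eq_bot_of_card_eq X (by simpa using hcd)) hne
      · simpa using hcd
      · exfalso
        obtain ⟨y, hy, hyX⟩ := hy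
        have := Subgroup.eq_of_le_of_card_ge hle (by rw [hcd, hM9]; norm_num)
        exact hyX (this ▸ hy)
    have hx' : z * x * z⁻¹ ≠ x := fun h => hxc (by
      calc z * x = z * x * z⁻¹ * z := by group
        _ = x * z := by rw [h])
    have hm0' : z * m0 * z⁻¹ ≠ m0⁻¹ := hne0
    have hF3 : Nat.card Fz' = 3 := by
      refine hcard Fz' (fun m hm => hm.1) ?_ ⟨x, hx, fun h => hx' h.2⟩
      intro hb
      have := (hFI m0 hm0).1
      rw [hb, Subgroup.mem_bot] at this
      exact hm0' (eq_inv_of_mul_eq_one_right this)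
    have hI3 : Nat.card Iz = 3 := by
      refine hcard Iz (fun m hm => hm.1) ?_ ⟨m0, hm0, fun h => hm0' h.2⟩
      intro hb
      have := (hFI x hx).2
      rw [hb, Subgroup.mem_bot, mul_inv_eq_one] at this
      exact hx' this.symm
    have hrF : ∀ m ∈ Fz', r * m * r⁻¹ ∈ Fz' := fun m hm => ⟨hnorm r hrN m hm.1, by
      rw [show z * (r * m * r⁻¹) * z⁻¹ = (z * r) * m * (z * r)⁻¹ by group, zrr]
      calc r * z * m * (r * z)⁻¹ = r * (z * m * z⁻¹) * r⁻¹ := by group
        _ = _ := by rw [hm.2]⟩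
    have hrI : ∀ m ∈ Iz, r * m * r⁻¹ ∈ Iz := fun m hm => ⟨hnorm r hrN m hm.1, by
      rw [show z * (r * m * r⁻¹) * z⁻¹ = (z * r) * m * (z * r)⁻¹ by group, zrr]
      calc r * z * m * (r * z)⁻¹ = r * (z * m * z⁻¹) * r⁻¹ := by group
        _ = _ := by rw [hm.2]; group⟩
    obtain ⟨a1, a2⟩ := hFI x hx
    have c1 := sq_centralizes Fz' hF3 r hrF _ a1
    have c2 := sq_centralizes Iz hI3 r hrI _ a2
    rw [rrz] at c1 c2
    have hxx : (x * (z * x * z⁻¹)) * (x * (z * x * z⁻¹)⁻¹) = x * x := by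
      have hy := hnorm z hzN x hx
      rw [show x * (z * x * z⁻¹) * (x * (z * x * z⁻¹)⁻¹) =
        x * ((z * x * z⁻¹) * x) * (z * x * z⁻¹)⁻¹ by group, hcommM _ hy _ hx]
      group
    have c3 : z * (x * x) * z⁻¹ = x * x := by
      conv_lhs => rw [← hxx]
      rw [show z * (x * (z * x * z⁻¹) * (x * (z * x * z⁻¹)⁻¹)) * z⁻¹ =
        z * (x * (z * x * z⁻¹)) * z⁻¹ * (z * (x * (z * x * z⁻¹)⁻¹) * z⁻¹) by group, c1, c2, hxx]
    have h3 := hMel x hx
    have hx2 : x * x = x⁻¹ := by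
      rw [eq_inv_iff_mul_eq_one, ← h3, pow_succ, pow_two]
    rw [hx2, show z * x⁻¹ * z⁻¹ = (z * x * z⁻¹)⁻¹ by group, inv_inj] at c3
    exact hx' c3
  -- the two generators
  obtain ⟨e1, he1, he11, hte1⟩ : ∃ e1 ∈ Mg, e1 ≠ 1 ∧ t * e1 * t⁻¹ = e1 := by
    by_contra hcon
    push Not at hcon
    have hfix : ∀ m ∈ Mg, t * m * t⁻¹ = m → m = 1 := fun m hm h => by
      by_contra h1; exact hcon m hm h1 h
    apply hnotM (t * z)
      (by rw [show t * z * (t * z) = t * (z * t) * z by group, ztt, ← mul_assoc, tt, one_mul, zz])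
      tz1
    intro m hm
    have hm' := hnorm t htN m hm
    have h1 : m * (t * m * t⁻¹) = 1 := by
      refine hfix _ (Mg.mul_mem hm hm') ?_
      rw [show t * (m * (t * m * t⁻¹)) * t⁻¹ = t * m * t⁻¹ * ((t * t) * m * (t * t)⁻¹) by group,
        tt, inv_one, mul_one, one_mul, hcommM _ hm' _ hm]
    have h2 : t * m * t⁻¹ = m⁻¹ := eq_inv_of_mul_eq_one_right h1
    calc t * z * m = t * (z * m * z⁻¹) * z := by group
      _ = t * m⁻¹ * z := by rw [hzinv m hm]
      _ = (t * m * t⁻¹)⁻¹ * (t * z) := by group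
      _ = m * (t * z) := by rw [h2, inv_inv]
  obtain ⟨e2, he2def⟩ : ∃ e2, e2 = r * e1 * r⁻¹ := ⟨_, rfl⟩
  have he2 : e2 ∈ Mg := he2def ▸ hnorm r hrN e1 he1
  have he21 : e2 ≠ 1 := by
    rw [he2def, Ne, conj_eq_one_iff]; exact he11
  have hte2 : t * e2 * t⁻¹ = e2⁻¹ := by
    rw [he2def, show t * (r * e1 * r⁻¹) * t⁻¹ = t * r * e1 * (t * r)⁻¹ by group]
    have htr : t * r = r⁻¹ * t := by
      have := congrArg (fun x => x * r) rtr
      simp only [inv_mul_cancel_right] at this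
      calc t * r = t * r := rfl
        _ = r⁻¹ * (r * t * r) := by group
        _ = r⁻¹ * t := by rw [this]
    rw [htr, show r⁻¹ * t * e1 * (r⁻¹ * t)⁻¹ = r⁻¹ * (t * e1 * t⁻¹) * r⁻¹⁻¹ by group, hte1]
    have hri : r⁻¹ * e1 * r⁻¹⁻¹ = r * (z * e1 * z⁻¹) * r⁻¹ := by
      conv_lhs => rw [rinv]
      group
    rw [hri, hzinv e1 he1]
    group
  have hind : ∀ i j : ZMod 3, e1 ^ i.val * e2 ^ j.val = 1 → i = 0 ∧ j = 0 := by
    intro i j h
    have hc := congrArg (fun x => t * x * t⁻¹) h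
    simp only [mul_one, mul_inv_cancel] at hc
    rw [show t * (e1 ^ i.val * e2 ^ j.val) * t⁻¹ =
      t * e1 ^ i.val * t⁻¹ * (t * e2 ^ j.val * t⁻¹) by group, ← conj_pow, ← conj_pow, hte1, hte2,
      inv_pow] at hc
    have hij : e2 ^ j.val * e2 ^ j.val = 1 := by
      have := h.trans hc.symm
      rw [mul_left_cancel_iff] at this
      nth_rewrite 2 [this]
      group
    have hj : e2 ^ j.val = 1 := no_two _ (Mg.pow_mem he2 _) hij
    rw [hj, mul_one] at h
    have zero_of : ∀ (e : G), e ^ 3 = 1 → e ≠ 1 → ∀ k : ZMod 3, e ^ k.val = 1 → k = 0 := by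
      intro e h3 h1 k hk
      fin_cases k
      · rfl
      · exact absurd ((pow_one e).symm.trans hk) h1
      · exfalso
        apply h1
        have hk' : e ^ 2 = 1 := hk
        rw [pow_succ, hk', one_mul] at h3
        exact h3
    exact ⟨zero_of e1 (hMel _ he1) he11 i h, zero_of e2 (hMel _ he2) he21 j hj⟩
  have hgens : Gens e1 e2 (t * z) t (r * t) := by
    refine ⟨hMel _ he1, hMel _ he2, ?_, tt, rt2, ?_, hte2, hcommM _ he1 _ he2, ?_, ?_, ?_, ?_, ?_⟩
    · rw [show t * z * (t * z) = t * (z * t) * z by group, ztt, ← mul_assoc, tt, one_mul, zz]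
    · rw [show t * z * e1 * (t * z)⁻¹ = t * (z * e1 * z⁻¹) * t⁻¹ by group, hzinv e1 he1,
        show t * e1⁻¹ * t⁻¹ = (t * e1 * t⁻¹)⁻¹ by group, hte1]
    · show t * z * t = t * (t * z)
      rw [mul_assoc, ztt]
    · show e1 * t = t * e1
      conv_lhs => rw [← hte1]
      group
    · show e2 * (t * z) = t * z * e2
      have : t * z * e2 * (t * z)⁻¹ = e2 := by
        rw [show t * z * e2 * (t * z)⁻¹ = t * (z * e2 * z⁻¹) * t⁻¹ by group, hzinv e2 he2,
          show t * e2⁻¹ * t⁻¹ = (t * e2 * t⁻¹)⁻¹ by group, hte2, inv_inv]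
      conv_lhs => rw [← this]
      group
    · rw [show r * t * e1 * (r * t)⁻¹ = r * (t * e1 * t⁻¹) * r⁻¹ by group, hte1, he2def]
    · rw [show r * t * (t * z) * (r * t)⁻¹ = r * (t * t) * z * t⁻¹ * r⁻¹ by group, tt, mul_one,
        hinv2 t tt, show r * z * t * r⁻¹ = r * (z * t) * r⁻¹ by group, ztt]
      exact rtz
  obtain ⟨φ, hφdef⟩ : ∃ φ : W →* G, φ = hgens.hom := ⟨_, rfl⟩
  have hφtr : ∀ m, isTr m = true → ∃ i j : ZMod 3, m = ⟨(.r i, .r j), false⟩ := by
    decide +kernel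
  have hφM : ∀ m, isTr m = true → φ m ∈ Mg := by
    intro m hm
    obtain ⟨i, j, rfl⟩ := hφtr m hm
    rw [hφdef, hgens.hom_tr]
    exact Mg.mul_mem (Mg.pow_mem he1 _) (Mg.pow_mem he2 _)
  have hφinj : Function.Injective φ := inj_of_tr φ fun m hm h => by
    obtain ⟨i, j, rfl⟩ := hφtr m hm
    rw [hφdef, hgens.hom_tr] at h
    obtain ⟨rfl, rfl⟩ := hind i j h
    rfl
  have hφN : ∀ m, φ m ∈ N := by
    intro m
    obtain ⟨⟨x, y⟩, w⟩ := m
    rw [hφdef]
    refine N.mul_mem (N.mul_mem ?_ ?_) ?_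
    · cases x
      · exact N.pow_mem (hMN he1) _
      · exact N.mul_mem (N.mul_mem htN hzN) (N.pow_mem (hMN he1) _)
    · cases y
      · exact N.pow_mem (hMN he2) _
      · exact N.mul_mem htN (N.pow_mem (hMN he2) _)
    · cases w
      · exact N.one_mem
      · exact N.mul_mem hrN htN
  have hNcard : Nat.card N = 72 := by
    have h8 : Nat.card (S : Subgroup N) = 8 := by
      rw [Nat.card_congr f.toEquiv, DihedralGroup.nat_card]
    have hinjN : Function.Injective (φ.codRestrict N hφN) := fun a b h =>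
      hφinj (congrArg Subtype.val h)
    have hdvd : 72 ∣ Nat.card N := by
      rw [← card_W, Nat.card_congr (MonoidHom.ofInjective hinjN).toEquiv]
      exact Subgroup.card_subgroup_dvd_card _
    obtain ⟨k, hk⟩ := hdvd
    rcases Nat.eq_or_lt_of_le (Nat.one_le_iff_ne_zero.mpr (show k ≠ 0 by
      rintro rfl; simp at hk)) with h | h
    · rw [hk, ← h]
    exfalso
    obtain ⟨q, hq, hqk⟩ := Nat.exists_prime_and_dvd (Nat.ne_of_gt h)
    by_cases hq2 : q = 2
    · subst hq2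
      have h16 : 2 ^ 4 ∣ Nat.card N := by
        obtain ⟨j, rfl⟩ := hqk
        exact ⟨9 * j, by rw [hk]; ring⟩
      have := S.pow_dvd_card_of_pow_dvd_card h16
      rw [h8] at this
      norm_num at this
    by_cases hq3 : q = 3
    · subst hq3
      have h27 : 3 ^ 3 ∣ Nat.card G := by
        obtain ⟨j, rfl⟩ := hqk
        exact dvd_trans ⟨8 * j, by rw [hk]; ring⟩ (Subgroup.card_subgroup_dvd_card N)
      have := M.pow_dvd_card_of_pow_dvd_card h27
      rw [← hMg, hM9] at this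
      norm_num at this
    have : Fact q.Prime := ⟨hq⟩
    obtain ⟨g, hg⟩ := exists_prime_orderOf_dvd_card' (G := N) q
      (hk ▸ dvd_mul_of_dvd_right hqk 72)
    let act' : MulAction (Subgroup.zpowers g) Mg :=
      { smul := fun x m => ⟨((x : N) : G) * m * ((x : N) : G)⁻¹, hnorm _ (x : N).2 _ m.2⟩
        one_smul := fun m => Subtype.ext (by
          show ((1 : N) : G) * m * ((1 : N) : G)⁻¹ = m
          simp)
        mul_smul := fun x y m => Subtype.ext (by
          show (((x * y : Subgroup.zpowers g) : N) : G) * m * (((x * y : Subgroup.zpowers g) : N) : G)⁻¹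
            = ((x : N) : G) * (((y : N) : G) * m * ((y : N) : G)⁻¹) * ((x : N) : G)⁻¹
          push_cast
          group) }
    have hpg : IsPGroup q (Subgroup.zpowers g) :=
      IsPGroup.of_card (n := 1) (by rw [Nat.card_zpowers, hg, pow_one])
    have hmod := hpg.card_modEq_card_fixedPoints Mg
    let Fg : Subgroup G :=
      { carrier := {m | m ∈ Mg ∧ (g : G) * m * (g : G)⁻¹ = m}
        one_mem' := ⟨Mg.one_mem, by group⟩
        mul_mem' := fun {a b} ha hb => ⟨Mg.mul_mem ha.1 hb.1, by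
          rw [show (g : G) * (a * b) * (g : G)⁻¹ =
            g * a * (g : G)⁻¹ * (g * b * (g : G)⁻¹) by group, ha.2, hb.2]⟩
        inv_mem' := fun {a} ha => ⟨Mg.inv_mem ha.1, by
          rw [show (g : G) * a⁻¹ * (g : G)⁻¹ = (g * a * (g : G)⁻¹)⁻¹ by group, ha.2]⟩ }
    have hfix : Nat.card (MulAction.fixedPoints (Subgroup.zpowers g) Mg) = Nat.card Fg := by
      refine Nat.card_congr
        { toFun := fun m => ⟨(m.1 : G), m.1.2,
            congrArg Subtype.val (m.2 ⟨g, Subgroup.mem_zpowers g⟩)⟩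
          invFun := fun m => ⟨⟨m.1, m.2.1⟩, ?_⟩
          left_inv := fun m => rfl
          right_inv := fun m => rfl }
      rintro ⟨x, hx⟩
      obtain ⟨i, rfl⟩ := hx
      have hgs : (⟨g, Subgroup.mem_zpowers g⟩ : Subgroup.zpowers g) • (⟨m.1, m.2.1⟩ : Mg) =
          ⟨m.1, m.2.1⟩ := Subtype.ext m.2.2
      exact (MulAction.stabilizer (Subgroup.zpowers g) (⟨m.1, m.2.1⟩ : Mg)).zpow_mem hgs i
    rw [hfix, hM9] at hmod
    have h9 := Subgroup.card_dvd_of_le (show Fg ≤ Mg from fun m hm => hm.1)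
    rw [hM9, show 9 = 3 ^ 2 by rfl] at h9
    obtain ⟨i, hi, hcd⟩ := (Nat.dvd_prime_pow Nat.prime_three).mp h9
    rw [hcd] at hmod
    interval_cases i
    · have := (Nat.modEq_iff_dvd' (by norm_num)).mp hmod.symm
      norm_num at this
      have hq8 : q ∣ 2 ^ 3 := this
      exact hq2 ((Nat.prime_dvd_prime_iff_eq hq Nat.prime_two).mp (hq.dvd_of_dvd_pow hq8))
    · have := (Nat.modEq_iff_dvd' (by norm_num)).mp hmod.symm
      norm_num at this
      rcases hq.dvd_mul.mp (show q ∣ 2 * 3 from this) with h | h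
      · exact hq2 ((Nat.prime_dvd_prime_iff_eq hq Nat.prime_two).mp h)
      · exact hq3 ((Nat.prime_dvd_prime_iff_eq hq Nat.prime_three).mp h)
    · have hgM : (g : G) ∈ Mg := hcentM _ fun m hm => by
        have hFM : Fg = Mg :=
          Subgroup.eq_of_le_of_card_ge (fun m hm => hm.1) (by rw [hcd, hM9]; norm_num)
        have h : m ∈ Fg := hFM.symm ▸ hm
        calc (g : G) * m = g * m * (g : G)⁻¹ * g := by group
          _ = m * g := by rw [h.2]
      have h3 : g ^ 3 = 1 := Subtype.ext (hMel _ hgM)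
      have := orderOf_dvd_of_pow_eq_one h3
      rw [hg] at this
      exact hq3 ((Nat.prime_dvd_prime_iff_eq hq Nat.prime_three).mp this)
  have hbij : Function.Bijective (φ.codRestrict N hφN) :=
    (Nat.bijective_iff_injective_and_card _).mpr
      ⟨fun a b h => hφinj (congrArg Subtype.val h), by rw [card_W, hNcard]⟩
  let e0 : W ≃* N := MulEquiv.ofBijective _ hbij
  let ψ : W ≃* W := MulEquiv.ofBijective swap_gens.hom
    (Finite.injective_iff_bijective.mp (inj_of_tr _ fun m hm h => by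
      obtain ⟨i, j, rfl⟩ := hφtr m hm
      rw [swap_gens.hom_tr] at h
      exact swap_key i j h))
  -- general facts for an identification
  have heinj : ∀ (e : W ≃* N) {m m' : W}, (e m : G) = e m' → m = m' := fun e _ _ h =>
    e.injective (Subtype.ext h)
  have hesurj : ∀ (e : W ≃* N), ∀ g ∈ N, ∃ m, (e m : G) = g := fun e g hg => by
    obtain ⟨m, hm⟩ := e.surjective ⟨g, hg⟩
    exact ⟨m, by rw [hm]⟩
  have hemul : ∀ (e : W ≃* N) (a b : W), (e (a * b) : G) = e a * e b := fun e a b => by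
    rw [map_mul, Subgroup.coe_mul]
  have hepow : ∀ (e : W ≃* N) (a : W) (n : ℕ), (e (a ^ n) : G) = (e a : G) ^ n := fun e a n => by
    rw [map_pow, Subgroup.coe_pow]
  have heone : ∀ e : W ≃* N, (e 1 : G) = 1 := fun e => by rw [map_one, OneMemClass.coe_one]
  have hMtr : ∀ (e : W ≃* N) (m : W), (e m : G) ∈ Mg ↔ isTr m = true := by
    intro e m
    rw [← tr_iff]
    refine ⟨fun h => heinj e ?_, fun h => hM3 _ (e m).2 ?_⟩
    · rw [hepow, hMel _ h, heone]
    · rw [← hepow, h, heone]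
  let A : (W ≃* N) → G → Prop := fun e a => ∃ m, (e m : G) = a ∧ inA m = true
  have hTI : ∀ e, TIPairs.IsTI N (A e) := by
    intro e
    refine ⟨?_, ?_⟩
    · rintro a ha ⟨m, rfl, hm⟩ x hx
      obtain ⟨k, hk, hk1⟩ := inA_pow m hm
      have hjM : (e (m ^ k.val) : G) ∈ Mg := (hMtr e _).mpr hk
      have hx2 : x⁻¹ * e (m ^ k.val) * x ∈ Mg := by
        refine hM3 _ ?_ ?_
        · rw [hepow, show x⁻¹ * (e m : G) ^ k.val * x = (x⁻¹ * e m * x) ^ k.val by
            conv_rhs => rw [show x⁻¹ * (e m : G) * x = x⁻¹ * e m * (x⁻¹)⁻¹ by group, conj_pow]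
            group]
          exact N.pow_mem hx _
        · rw [show x⁻¹ * (e (m ^ k.val) : G) * x = x⁻¹ * e (m ^ k.val) * (x⁻¹)⁻¹ by group,
            conj_pow, hMel _ hjM]
          group
      have hle : ∀ u ∈ Mg, x * u * x⁻¹ ∈ Mg := by
        intro u hu
        refine hM3 _ (hCg _ hjM (fun h => hk1 (heinj e (h.trans (heone e).symm))) ?_) ?_
        · refine Subgroup.mem_centralizer_singleton_iff.mpr ?_
          calc x * u * x⁻¹ * e (m ^ k.val) = x * (u * (x⁻¹ * e (m ^ k.val) * x)) * x⁻¹ := by group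
            _ = x * (x⁻¹ * e (m ^ k.val) * x * u) * x⁻¹ := by rw [hcommM u hu _ hx2]
            _ = e (m ^ k.val) * (x * u * x⁻¹) := by group
        · rw [conj_pow, hMel u hu, mul_one, mul_inv_cancel]
      have hxn : x ∈ Subgroup.normalizer (Mg : Set G) :=
        Subgroup.mem_normalizer_iff.mpr fun u => ⟨hle u, fun hu => by
          let f : Mg → Mg := fun v => ⟨x * v * x⁻¹, hle v v.2⟩
          have hf : Function.Surjective f := Finite.injective_iff_surjective.mp fun v w h => by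
            simpa [f] using h
          obtain ⟨v, hv⟩ := hf ⟨_, hu⟩
          have h' : x * (v : G) * x⁻¹ = x * u * x⁻¹ := congrArg Subtype.val hv
          have : (v : G) = u := by simpa using h'
          exact this ▸ v.2⟩
      rwa [← hN] at hxn
    · rintro a ha ⟨m, rfl, hm⟩ h
      rw [← hemul, ← heone e] at h
      exact inA_sq m hm (heinj e h)
  let F : Fin 4 → W → ℂ := fun i m => (Fz i m : ℂ)
  have hAdm : ∀ e i, TIReal.Adm N e (A e) (F i) := fun e i =>
    ⟨gen_Fz i, fun m => map_intCast _ _, fun m hm => ⟨m, rfl, by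
      by_contra hA
      exact hm (by simp only [F]; rw [Fz_supp m i (by simpa using hA), Int.cast_zero])⟩⟩
  have h72 : (Nat.card W : ℂ) = 72 := by rw [card_W]; norm_num
  let one' : Cfsg.IrrCharacter G := TIPairs.one
  let cf : (W ≃* N) → Fin 4 → Cfsg.IrrCharacter G → ℤ := fun e i χ => TIReal.coef N e (F i) χ
  have hcone : ∀ e (i : Fin 4), cf e i one' = oneTab.getD i.val 0 := by
    intro e i
    have h := TIReal.coef_one_mul (hAdm e i)
    have hs : ∑ m, F i m = 72 * (oneTab.getD i.val 0 : ℂ) := by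
      simp only [F]
      rw [← Int.cast_sum, tab_sum]
      push_cast
      ring
    rw [h72, hs, mul_comm] at h
    exact_mod_cast mul_left_cancel₀ (by norm_num : (72 : ℂ) ≠ 0) h
  have hfull : ∀ e (i j : Fin 4), ∑ χ, cf e i χ * cf e j χ =
      gramN i.val j.val + oneTab.getD i.val 0 * oneTab.getD j.val 0 := by
    intro e i j
    have h := TIReal.sum_coef_mul (hTI e) (hAdm e i) (hAdm e j)
    have hs : ∑ m, F i m * F j m = 72 *
        ((gramN i.val j.val + oneTab.getD i.val 0 * oneTab.getD j.val 0 : ℤ) : ℂ) := by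
      simp only [F, ← Int.cast_mul]
      rw [← Int.cast_sum, tab_gram]
      push_cast
      ring
    rw [h72, hs, mul_comm] at h
    exact_mod_cast mul_left_cancel₀ (by norm_num : (72 : ℂ) ≠ 0) h
  have hclass : ∀ (χ : Cfsg.IrrCharacter G) (e : W ≃* N) (g z : W),
      (χ : G → ℂ) (e (g * z * g⁻¹)) = (χ : G → ℂ) (e z) := fun χ e g z => by
    rw [map_mul, map_mul, map_inv, Subgroup.coe_mul, Subgroup.coe_mul, Subgroup.coe_inv]
    exact Char.IsIrrCharacter.isClassFunction χ.2 _ _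
  have hval : ∀ (e : W ≃* N) (i j : Fin 4) (z : W),
      (∀ m, Fz i m - Fz j m = if ∃ g, g * z * g⁻¹ = m then 6 else 0) →
      (Finset.univ.filter fun m : W => ∃ g, g * z * g⁻¹ = m).card = 12 → ∀ χ : Cfsg.IrrCharacter G,
      (χ : G → ℂ) (e z) = ((cf e i χ - cf e j χ : ℤ) : ℂ) := by
    intro e i j z htab hcard χ
    have h : ((cf e i χ - cf e j χ : ℤ) : ℂ) = conj ((χ : G → ℂ) (e z)) := by
      push_cast
      simp only [cf]
      rw [TIReal.coe_coef_restrict (hAdm e i), TIReal.coe_coef_restrict (hAdm e j)]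
      simp only [Cfsg.classInner, F]
      rw [← mul_sub, ← Finset.sum_sub_distrib, h72]
      have : ∀ m, (Fz i m : ℂ) * conj ((χ : G → ℂ) (e m)) - (Fz j m : ℂ) * conj ((χ : G → ℂ) (e m))
          = if ∃ g, g * z * g⁻¹ = m then 6 * conj ((χ : G → ℂ) (e z)) else 0 := by
        intro m
        rw [← sub_mul, ← Int.cast_sub, htab m]
        split_ifs with hm
        · obtain ⟨g, rfl⟩ := hm
          rw [hclass]
          norm_num
        · simp
      rw [Finset.sum_congr rfl fun m _ => this m, ← Finset.sum_filter, Finset.sum_const, hcard,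
        nsmul_eq_mul]
      push_cast
      ring
    have h' := congrArg conj h
    rw [Complex.conj_conj, map_intCast] at h'
    exact h'.symm
  have hnc : ∀ e : W ≃* N, ¬ IsConj (e t1 : G) (e ts) := by
    intro e hcon
    obtain ⟨z6, z3, w6, w3⟩ := z_facts
    have hdvd : ∀ χ : Cfsg.IrrCharacter G,
        (3 : ℤ) ∣ (cf e 0 χ - cf e 2 χ) - (cf e 1 χ - cf e 3 χ) := by
      intro χ
      have hθ := Char.IsCharacter.isGeneralizedCharacter (Char.isCharacter_irr χ)
      have va := hval e 0 2 zA tab_zA card_zA χ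
      have vb := hval e 1 3 zB tab_zB card_zB χ
      obtain ⟨n, hn⟩ := gen_restrict_six hθ (e zA : G) (by rw [← hepow, z6, heone])
      obtain ⟨n', hn'⟩ := gen_restrict_six hθ (e zB : G) (by rw [← hepow, w6, heone])
      obtain ⟨ga, hga⟩ := zA_inv
      obtain ⟨gb, hgb⟩ := zB_inv
      rw [← hepow, ← hepow, z3, ← hga, hclass, va] at hn
      rw [← hepow, ← hepow, w3, ← hgb, hclass, vb] at hn'
      obtain ⟨c, hc⟩ := isConj_iff.mp hcon
      have heq : (χ : G → ℂ) (e ts) = (χ : G → ℂ) (e t1) := by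
        rw [← hc]
        exact Char.IsIrrCharacter.isClassFunction χ.2 _ _
      rw [heq] at hn'
      refine ⟨((cf e 0 χ - cf e 2 χ) - (cf e 1 χ - cf e 3 χ)) + n' - n, ?_⟩
      have : ((((cf e 0 χ - cf e 2 χ) - (cf e 1 χ - cf e 3 χ)) : ℤ) : ℂ) =
          ((3 * (((cf e 0 χ - cf e 2 χ) - (cf e 1 χ - cf e 3 χ)) + n' - n) : ℤ) : ℂ) := by
        push_cast at hn hn' ⊢
        linear_combination hn' - hn
      exact_mod_cast this
    have hsum : ∑ χ : Cfsg.IrrCharacter G,
        ((cf e 0 χ - cf e 2 χ) - (cf e 1 χ - cf e 3 χ)) ^ 2 = 12 := by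
      have : ∀ χ : Cfsg.IrrCharacter G, ((cf e 0 χ - cf e 2 χ) - (cf e 1 χ - cf e 3 χ)) ^ 2 =
          cf e 0 χ * cf e 0 χ + cf e 1 χ * cf e 1 χ + cf e 2 χ * cf e 2 χ + cf e 3 χ * cf e 3 χ
          - 2 * (cf e 0 χ * cf e 1 χ) - 2 * (cf e 0 χ * cf e 2 χ) + 2 * (cf e 0 χ * cf e 3 χ)
          + 2 * (cf e 1 χ * cf e 2 χ) - 2 * (cf e 1 χ * cf e 3 χ) - 2 * (cf e 2 χ * cf e 3 χ) :=
        fun χ => by ring
      rw [Finset.sum_congr rfl fun χ _ => this χ]
      simp only [Finset.sum_add_distrib, Finset.sum_sub_distrib, ← Finset.mul_sum, hfull]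
      decide +kernel
    have h9 : (9 : ℤ) ∣ 12 := hsum ▸ Finset.dvd_sum fun χ _ => by
      obtain ⟨k, hk⟩ := hdvd χ
      exact ⟨k ^ 2, by rw [hk]; ring⟩
    norm_num at h9
  -- the principal argument for an identification
  suffices main : ∀ e : W ≃* N, ¬ IsConj (e ts : G) (e t2) → False by
    by_cases h : IsConj (e0 ts : G) (e0 t2)
    · refine main (ψ.trans e0) fun h2 => ?_
      have p1 : IsConj (ψ ts) t1 := isConj_iff.mpr ⟨ts, swap_vals.1⟩
      have p2 : IsConj (ψ t2) t2 := by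
        rw [show ψ t2 = t2 from swap_vals.2]
      have m : ∀ {a b : W}, IsConj a b → IsConj (e0 a : G) (e0 b) := fun h =>
        (N.subtype.comp e0.toMonoidHom).map_isConj h
      have q1 : IsConj (e0 (ψ ts) : G) (e0 t1) := m p1
      have q2 : IsConj (e0 (ψ t2) : G) (e0 t2) := m p2
      have hbad : IsConj (e0 t1 : G) (e0 ts) := (q1.symm.trans h2).trans (q2.trans h.symm)
      exact hnc e0 hbad
    · exact main e0 h
  intro e hσ2
  obtain ⟨⟨p1, p1', p1w⟩, ⟨p2, p2', p2w⟩, ⟨ps', ps1, psw⟩⟩ := t_facts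
  obtain ⟨K, hK⟩ : ∃ K : Finset G, ∀ x, x ∈ K ↔ IsConj (e t1 : G) x ∨ IsConj (e t2 : G) x :=
    ⟨Finset.univ.filter _, fun x => Finset.mem_filter_univ x⟩
  obtain ⟨L, hL⟩ : ∃ L : Finset G, ∀ x, x ∈ L ↔ IsConj (e ts : G) x :=
    ⟨Finset.univ.filter _, fun x => Finset.mem_filter_univ x⟩
  have hconj2 : ∀ {t : W} {x : G}, t * t = 1 → IsConj (e t : G) x → x * x = 1 := by
    intro t x ht hx
    obtain ⟨c, rfl⟩ := isConj_iff.mp hx
    rw [show c * (e t : G) * c⁻¹ * (c * e t * c⁻¹) = c * ((e t : G) * e t) * c⁻¹ by group, ← hemul,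
      ht, heone]
    group
  have hconjc : ∀ (x h : G), IsConj x (h * x * h⁻¹) := fun x h => isConj_iff.mpr ⟨h, rfl⟩
  have iK : TISets.InvSet K := by
    refine ⟨fun x hx => ?_, fun x hx h => ?_⟩
    · rcases (hK x).mp hx with hx | hx
      exacts [hconj2 p1 hx, hconj2 p2 hx]
    · rw [hK] at hx ⊢
      exact hx.imp (fun hx => hx.trans (hconjc x h)) (fun hx => hx.trans (hconjc x h))
  have iL : TISets.InvSet L := by
    refine ⟨fun x hx => hconj2 ps' ((hL x).mp hx), fun x hx h => ?_⟩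
    rw [hL] at hx ⊢
    exact hx.trans (hconjc x h)
  have hmodel : ∀ {t m : W}, (∃ g, g * t * g⁻¹ = m) → IsConj (e t : G) (e m) := by
    rintro t m ⟨g, rfl⟩
    rw [map_mul, map_mul, map_inv]
    exact hconjc _ _
  have hord : ∀ {t m : W}, t * t = 1 → t ≠ 1 → IsConj (e t : G) (e m) → m * m = 1 ∧ m ≠ 1 := by
    intro t m ht ht' h
    refine ⟨heinj e (by rw [hemul, hconj2 ht h, heone]), fun hm => ht' (heinj e ?_)⟩
    rw [hm, heone, isConj_one_left] at h
    rw [h, heone]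
  have hsep1 : ∀ m : W, IsConj (e t1 : G) (e m) ∨ IsConj (e t2 : G) (e m) →
      ¬ IsConj (e ts : G) (e m) := by
    rintro m (h | h) h'
    · exact hnc e (h.trans h'.symm)
    · exact hσ2 (h'.trans h.symm)
  have hKM : ∀ m, m ∈ KM ↔ (e m : G) ∈ K := by
    intro m
    simp only [KM, Finset.mem_filter, Finset.mem_univ, true_and, hK]
    constructor
    · rintro ⟨h1, h2, hw⟩
      rcases invol_class m h1 h2 with ⟨g, hg, -⟩ | ⟨g, hg, -⟩ | ⟨g, -, hw'⟩
      · exact Or.inl (hmodel ⟨g, hg⟩)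
      · exact Or.inr (hmodel ⟨g, hg⟩)
      · simp [hw] at hw'
    · intro h
      have hm : m * m = 1 ∧ m ≠ 1 := by
        rcases h with h | h
        exacts [hord p1 p1' h, hord p2 p2' h]
      refine ⟨hm.1, hm.2, ?_⟩
      rcases invol_class m hm.1 hm.2 with ⟨g, -, hw⟩ | ⟨g, -, hw⟩ | ⟨g, hg, -⟩
      · exact hw
      · exact hw
      · exact absurd (hmodel ⟨g, hg⟩) (hsep1 m h)
  have hLM : ∀ m, m ∈ LM ↔ (e m : G) ∈ L := by
    intro m
    simp only [LM, Finset.mem_filter, Finset.mem_univ, true_and, hL]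
    constructor
    · rintro ⟨h1, h2, hw⟩
      rcases invol_class m h1 h2 with ⟨g, -, hw'⟩ | ⟨g, -, hw'⟩ | ⟨g, hg, -⟩
      · simp [hw] at hw'
      · simp [hw] at hw'
      · exact hmodel ⟨g, hg⟩
    · intro h
      obtain ⟨h1, h2⟩ := hord ps' ps1 h
      refine ⟨h1, h2, ?_⟩
      rcases invol_class m h1 h2 with ⟨g, hg, -⟩ | ⟨g, hg, -⟩ | ⟨g, -, hw⟩
      · exact absurd h (hsep1 m (Or.inl (hmodel ⟨g, hg⟩)))
      · exact absurd h (hsep1 m (Or.inr (hmodel ⟨g, hg⟩)))
      · exact hw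
  -- the column sets
  let ι := {χ : Cfsg.IrrCharacter G // χ ≠ one'}
  have hsplit : ∀ f : Cfsg.IrrCharacter G → ℤ, ∑ χ, f χ = f one' + ∑ i : ι, f i.1 := by
    intro f
    rw [← Finset.add_sum_erase _ _ (Finset.mem_univ one')]
    congr 1
    exact Finset.sum_subtype _ (fun x => by simp) f
  let C : ℕ → ι → ℤ := fun j i => if h : j < 4 then cf e ⟨j, h⟩ i.1 else 0
  have hCj : ∀ (j : Fin 4) (i : ι), C j.val i = cf e j i.1 := fun j i => by
    simp only [C, dif_pos j.2]
  have hgram : ∀ i j : Fin 4, ∑ x : ι, cf e i x.1 * cf e j x.1 = gramN i.val j.val := by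
    intro i j
    have h' := hfull e i j
    rw [hsplit, hcone, hcone] at h'
    linarith
  let ν : Cfsg.IrrCharacter G → ℤ := fun χ =>
    if TIReal.nu (χ : G → ℂ) = 1 then 1 else if TIReal.nu (χ : G → ℂ) = -1 then -1 else 0
  have hνC : ∀ χ, (ν χ : ℂ) = TIReal.nu (χ : G → ℂ) := by
    intro χ
    rcases TIReal.nu_cases χ.2 with ⟨h, -⟩ | h | h <;> simp [ν, h] <;> norm_num
  have hν1 : ν one' = 1 := by
    have : TIReal.nu ((one' : Cfsg.IrrCharacter G) : G → ℂ) = 1 := by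
      simp [TIReal.nu, one', TIPairs.one]
    simp [ν, this]
  have hsigned : ColEnum.Signed C (fun i : ι => ν i.1) 4 := by
    intro i
    rcases TIReal.nu_cases i.1.2 with ⟨h, hne⟩ | h | h
    · refine Or.inr (Or.inr ⟨by simp [ν, h], ?_⟩)
      let χ' : Cfsg.IrrCharacter G :=
        ⟨fun g => conj ((i.1 : G → ℂ) g), Char.IsIrrCharacter.conj' i.1.2⟩
      have hne1 : χ' ≠ one' := by
        intro h1
        refine i.2 (Subtype.ext (funext fun g => ?_))
        have := congrArg (fun χ : Cfsg.IrrCharacter G => conj ((χ : G → ℂ) g)) h1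
        simpa [χ', one', TIPairs.one] using this
      refine ⟨⟨χ', hne1⟩, fun h1 => hne (congrArg (fun x : ι => (x.1 : G → ℂ)) h1), fun j hj => ?_⟩
      simp only [C, dif_pos hj, cf]
      apply Int.cast_injective (α := ℂ)
      rw [TIReal.coe_coef_restrict (hAdm e _), ← map_intCast (starRingEnd ℂ)
        (TIReal.coef N e (F ⟨j, hj⟩) i.1), TIReal.coe_coef_restrict (hAdm e _)]
      simp only [Cfsg.classInner, χ', map_mul, map_inv₀, map_natCast, map_sum, Complex.conj_conj,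
        (hAdm e _).real]
    · exact Or.inl (by simp [ν, h])
    · refine Or.inr (Or.inl ?_)
      simp [ν, h]
      norm_num
  have hfs : ∀ j : Fin 4, ∑ i : ι, ν i.1 * cf e j i.1 = fsN j.val := by
    intro j
    have h := TIReal.sum_coef_nu (hTI e) (hAdm e j)
    have hs : ∑ m : W, F j (m * m) = 72 * ((fsN j.val + oneTab.getD j.val 0 : ℤ) : ℂ) := by
      simp only [F]
      rw [← Int.cast_sum, tab_sq]
      push_cast
      ring
    rw [h72, hs, inv_mul_cancel_left₀ (by norm_num : (72 : ℂ) ≠ 0)] at h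
    simp only [← hνC] at h
    have h' : ∑ χ, ν χ * cf e j χ = fsN j.val + oneTab.getD j.val 0 := by
      have : ∑ χ, cf e j χ * ν χ = fsN j.val + oneTab.getD j.val 0 := by exact_mod_cast h
      rw [← this]
      exact Finset.sum_congr rfl fun χ _ => mul_comm _ _
    rw [hsplit, hcone, hν1, one_mul] at h'
    linarith
  obtain ⟨st, hst, hrep⟩ := ColEnum.run_sound C (fun i : ι => ν i.1) 4 hsigned
    (G := gramN) (r := fsN)
    (fun k hk j hj => by
      have := hgram ⟨k, hk⟩ ⟨j, by omega⟩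
      simpa [C, dif_pos hk, dif_pos (show j < 4 by omega)] using this)
    (fun k hk => gram_diag ⟨k, hk⟩)
    (fun j hj => by
      have := hfs ⟨j, hj⟩
      simpa [C, dif_pos hj] using this) 4 le_rfl
  have hcand := run_mem st hst
  have hsmall := cand_small st hcand
  obtain ⟨Lx, hnd, hsg, hout, hLx⟩ := hrep
  -- congruences
  have hcong : ∀ x ∈ Lx, ∃ n : ℕ, 0 < n ∧ TIPairs.deg x.1.1 = n ∧
      ((x.2 * (n : ℤ)) + 4 * (ColEnum.colOf C 4 x).sum) % 9 = 0 := by
    intro x hx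
    obtain ⟨n, hn, hdeg, hval1⟩ := TIPairs.exists_deg x.1.1
    refine ⟨n, hn, hdeg, ?_⟩
    let χ := x.1.1
    obtain ⟨T, hT⟩ : ∃ T : Finset W,
        T = Finset.univ.filter (fun m => isTr m = true ∧ m ≠ 1) := ⟨_, rfl⟩
    let Tg : Subgroup W :=
      { carrier := {m | isTr m = true}
        one_mem' := tr_one
        mul_mem' := fun ha hb => tr_mul _ ha _ hb
        inv_mem' := fun {a} ha => tr_inv a ha }
    cases nonempty_fintype Tg
    obtain ⟨z, hz⟩ := Char.IsGeneralizedCharacter.classInner_int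
      (Char.IsCharacter.isGeneralizedCharacter Char.isCharacter_one)
      (TIPairs.gen_comp (Char.IsCharacter.isGeneralizedCharacter (Char.isCharacter_irr χ))
        ((N.subtype.comp e.toMonoidHom).comp Tg.subtype))
    have hTg : Nat.card Tg = 9 := by
      rw [← tr_card, Nat.card_eq_fintype_card, ← Fintype.card_subtype]
      exact Fintype.card_congr (Equiv.refl _)
    have hsum : ∑ m ∈ T, conj ((χ : G → ℂ) (e m)) =
        ((4 * (cf e 0 χ + cf e 1 χ + cf e 2 χ + cf e 3 χ) : ℤ) : ℂ) := by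
      push_cast
      simp only [cf, fun j => TIReal.coe_coef_restrict (hAdm e j) χ, Cfsg.classInner, F, h72]
      simp only [← mul_add, ← Finset.sum_add_distrib, Finset.mul_sum]
      rw [hT, Finset.sum_filter]
      refine Finset.sum_congr rfl fun m _ => ?_
      have h := congrArg (fun x : ℤ => (x : ℂ)) (tab_comb m)
      simp only [Int.cast_mul, Int.cast_add, Int.cast_ofNat, Int.cast_zero,
        apply_ite (fun x : ℤ => (x : ℂ))] at h
      calc (if isTr m = true ∧ m ≠ 1 then conj ((χ : G → ℂ) (e m)) else 0)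
          = (if isTr m = true ∧ m ≠ 1 then (72 : ℂ) else 0) / 72 *
              conj ((χ : G → ℂ) (e m)) := by split_ifs <;> simp
        _ = _ := by
          rw [← h]
          ring
    have hdiv : (9 : ℂ) * (z : ℂ) =
        (n : ℂ) + ((4 * (cf e 0 χ + cf e 1 χ + cf e 2 χ + cf e 3 χ) : ℤ) : ℂ) := by
      rw [← hz, Cfsg.classInner, hTg, ← hsum, show ((9 : ℕ) : ℂ) = 9 by norm_num,
        mul_inv_cancel_left₀ (by norm_num : (9 : ℂ) ≠ 0)]
      simp only [one_mul, Function.comp_apply, MonoidHom.coe_comp, Subgroup.coe_subtype,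
        MulEquiv.coe_toMonoidHom]
      rw [← Finset.add_sum_erase _ _ (Finset.mem_univ (1 : Tg))]
      congr 1
      · rw [OneMemClass.coe_one, heone, hval1, map_natCast]
      · refine Finset.sum_bij (fun m _ => (m : W)) ?_ ?_ ?_ ?_
        · intro m hm
          rw [hT, Finset.mem_filter_univ]
          exact ⟨m.2, fun h => (Finset.mem_erase.mp hm).1 (Subtype.ext h)⟩
        · intro a _ b _ h
          exact Subtype.ext h
        · intro m hm
          rw [hT, Finset.mem_filter_univ] at hm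
          obtain ⟨hm1, hm2⟩ := hm
          exact ⟨⟨m, hm1⟩, Finset.mem_erase.mpr ⟨fun h => hm2 (congrArg Subtype.val h),
            Finset.mem_univ _⟩, rfl⟩
        · intro m _
          rfl
    have hdiv' : 9 * z = (n : ℤ) + 4 * (cf e 0 χ + cf e 1 χ + cf e 2 χ + cf e 3 χ) := by
      exact_mod_cast hdiv
    have hcol : (ColEnum.colOf C 4 x).sum =
        x.2 * (cf e 0 χ + cf e 1 χ + cf e 2 χ + cf e 3 χ) := by
      simp [ColEnum.colOf, List.range_succ, ← hCj, χ]
      ring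
    rw [hcol, show x.2 * (n : ℤ) + 4 * (x.2 * (cf e 0 χ + cf e 1 χ + cf e 2 χ + cf e 3 χ)) =
      9 * (x.2 * z) by linear_combination (-x.2) * hdiv', Int.mul_emod_right]
  -- the points
  let P0 : Cfsg.IrrCharacter G → NineArith.Pt := fun χ =>
    ⟨TIPairs.deg χ, TISets.setSum K χ, TISets.setSum L χ⟩
  let P : ι × ℤ → NineArith.Pt := fun x =>
    ⟨(x.2 : ℝ) * TIPairs.deg x.1.1, (x.2 : ℝ) * TISets.setSum K x.1.1,
      (x.2 : ℝ) * TISets.setSum L x.1.1⟩
  obtain ⟨o, ho⟩ : ∃ o, o = P0 one' := ⟨_, rfl⟩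
  have ho1 : o.d = 1 := by
    rw [ho]
    show TIPairs.deg (TIPairs.one : Cfsg.IrrCharacter G) = 1
    exact TIPairs.deg_one
  have hexp : ∀ (j : Fin 4) (f : Cfsg.IrrCharacter G → ℝ),
      ∑ χ, (cf e j χ : ℝ) * f χ = (oneTab.getD j.val 0 : ℝ) * f one' +
        (List.zipWith (fun (c : ℤ) (z : ℝ) => (c : ℝ) * z)
          (st.map fun c => c.getD j.val 0)
          (Lx.map fun x => (x.2 : ℝ) * f x.1.1)).sum := by
    intro j f
    rw [← Finset.add_sum_erase _ _ (Finset.mem_univ one'), hcone,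
      Finset.sum_subtype _ (p := fun χ => χ ≠ one') (fun x => by simp)
        (fun χ => (cf e j χ : ℝ) * f χ)]
    congr 1
    rw [← hLx, List.map_map, List.zipWith_map, List.zipWith_self,
      ← Finset.sum_subset (Finset.subset_univ (Lx.map Prod.fst).toFinset) (fun i _ hi => by
        rw [← hCj, hout i (by simpa using hi) j.val j.2]; simp),
      List.sum_toFinset _ hnd, List.map_map]
    refine congrArg List.sum (List.map_congr_left fun x hx => ?_)
    simp only [Function.comp_apply, ColEnum.colOf, List.getD_eq_getElem?_getD, List.getElem?_map,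
      List.getElem?_range j.2, Option.map_some, Option.getD_some, Int.cast_mul, hCj]
    rcases hsg x hx with h | h <;> simp [h]
  have hφ : ∀ φ : NineArith.Pt → ℝ, (∀ p, φ (negPt p) = -φ p) → ∀ j : Fin 4,
      ((pickPt (oneTab.getD j.val 0) o ++
          selPts (st.map fun c => c.getD j.val 0) (Lx.map P)).map φ).sum =
        ∑ χ, (cf e j χ : ℝ) * φ (P0 χ) := by
    intro φ hodd j
    have h01 : ∀ j : Fin 4, oneTab.getD j.val 0 = 0 ∨ oneTab.getD j.val 0 = 1 ∨
        oneTab.getD j.val 0 = -1 := by decide +kernel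
    rw [hexp, List.map_append, List.sum_append, pickPt_sum φ hodd _ (h01 j),
      selPts_sum φ hodd _ _ (fun c hc => by
        obtain ⟨c', hc', rfl⟩ := List.mem_map.mp hc
        exact hsmall c' hc' j), ← ho]
    congr 1
    rw [List.zipWith_map_right, List.zipWith_map_right]
    have : Lx.map (fun x => φ (P x)) = Lx.map fun x => (x.2 : ℝ) * φ (P0 x.1.1) := by
      refine List.map_congr_left fun x hx => ?_
      rcases hsg x hx with h | h
      · simp [P, P0, h]
      · simp only [P, h, Int.cast_neg, Int.cast_one, neg_mul, one_mul]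
        exact hodd (P0 x.1.1)
    have h2 := congrArg (fun l => (List.zipWith (fun (c : ℤ) (z : ℝ) => (c : ℝ) * z)
      (st.map fun c => c.getD j.val 0) l).sum) this
    simpa [List.zipWith_map_right] using h2
  have hne : ∀ x ∈ Lx, (P x).d ≠ 0 := fun x hx => by
    have := (TIPairs.deg_pos x.1.1).ne'
    rcases hsg x hx with h | h <;> simp [P, h, this]
  have hbil : ∀ {K' L' : Finset G} (_ : TISets.InvSet K') (_ : TISets.InvSet L') {A' B' : Finset W}
      (_ : ∀ m, m ∈ A' ↔ (e m : G) ∈ K') (_ : ∀ m, m ∈ B' ↔ (e m : G) ∈ L') (j : Fin 4) (q : ℤ),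
      2 * ∑ x ∈ A', ∑ y ∈ B', Fz j (x * y) = 72 * q →
      ∑ χ, (cf e j χ : ℝ) * (TISets.setSum K' χ * TISets.setSum L' χ / TIPairs.deg χ) =
        (q : ℝ) / 2 * Nat.card G := by
    intro K' L' i1 i2 A' B' h1 h2 j q hq
    have h := TISets.sum_coef_sets i1 i2 (hTI e) (hAdm e j) h1 h2
    have hq' : ∑ x ∈ A', ∑ y ∈ B', F j (x * y) = 72 * ((q : ℂ) / 2) := by
      simp only [F]
      simp only [← Int.cast_sum]
      have : ((2 * ∑ x ∈ A', ∑ y ∈ B', Fz j (x * y) : ℤ) : ℂ) = ((72 * q : ℤ) : ℂ) := by rw [hq]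
      push_cast at this ⊢
      linear_combination this / 2
    rw [h72, hq', mul_left_comm] at h
    have h' := mul_left_cancel₀ (by norm_num : (72 : ℂ) ≠ 0) h
    apply Complex.ofReal_injective
    simp only [← mul_div_assoc]
    rw [h']
    push_cast
    ring
  have hrows : ∀ j : Fin 4, Sums (qv j 0) (qv j 1) (qv j 2) (Nat.card G : ℝ)
      (pickPt (oneTab.getD j.val 0) o ++ selPts (st.map fun c => c.getD j.val 0) (Lx.map P)) := by
    intro j
    refine ⟨fun p hp => ?_, ?_, ?_, ?_, ?_, ?_, ?_⟩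
    · rcases List.mem_append.mp hp with hp | hp
      · exact pickPt_ne _ o (by rw [ho1]; norm_num) p hp
      · refine selPts_ne _ _ (fun q hq => ?_) p hp
        obtain ⟨x, hx, rfl⟩ := List.mem_map.mp hq
        exact hne x hx
    · rw [hφ (fun p => p.d) (fun p => rfl)]
      exact TIReal.sum_coef_deg (hTI e) (hAdm e j)
    · rw [hφ (fun p => p.k) (fun p => rfl)]
      exact TISets.sum_coef_setSum iK (hTI e) (hAdm e j)
    · rw [hφ (fun p => p.l) (fun p => rfl)]
      exact TISets.sum_coef_setSum iL (hTI e) (hAdm e j)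
    · rw [hφ (fun p => p.k * p.k / p.d) (fun p => by simp [negPt, div_neg])]
      exact hbil iK iK hKM hKM j _ (tab_KK j)
    · rw [hφ (fun p => p.k * p.l / p.d) (fun p => by simp [negPt, div_neg])]
      exact hbil iK iL hKM hLM j _ (tab_KL j)
    · rw [hφ (fun p => p.l * p.l / p.d) (fun p => by simp [negPt, div_neg])]
      exact hbil iL iL hLM hLM j _ (tab_LL j)
  have hδ : ∀ x ∈ Lx, ∃ δ : ℤ, (P x).d = δ ∧ δ ≠ 0 ∧ (δ + 4 * (ColEnum.colOf C 4 x).sum) % 9 = 0 ∧
      ∀ n : ℕ, TIPairs.deg x.1.1 = n → δ = x.2 * n := by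
    intro x hx
    obtain ⟨n, hn, hd, hc⟩ := hcong x hx
    refine ⟨x.2 * n, ?_, ?_, hc, fun n' hn' => ?_⟩
    · simp [P, hd]
    · rcases hsg x hx with h | h <;> rw [h] <;> omega
    · have : n = n' := by exact_mod_cast hd.symm.trans hn'
      rw [this]
  have hg : (Nat.card G : ℝ) ≠ 0 := by exact_mod_cast Nat.card_pos.ne'
  obtain ⟨Q0, Q1, Q2, Q3, Q4, Q5, Q6, Q7, Q8, Q9, Q10, Q11⟩ := qv_vals
  have r0 := hrows 0
  have r1 := hrows 1
  have r2 := hrows 2
  have r3 := hrows 3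
  simp only [candTab, List.mem_cons, List.not_mem_nil, or_false] at hcand
  rcases hcand with rfl | rfl | rfl | rfl | rfl | rfl <;>
    simp only [List.map_eq_cons_iff, List.map_eq_nil_iff] at hLx
  -- the first configuration
  · obtain ⟨y1, t1', rfl, k1, y2, t2', rfl, k2, y3, t3', rfl, k3, y4, t4', rfl, k4,
      y5, t5', rfl, k5, y6, t6', rfl, k6, y7, t7', rfl, k7, rfl⟩ := hLx
    simp [oneTab, pickPt, selPts, -Nat.card_eq_fintype_card] at r0 r1 r2 r3
    simp only [Q0, Q1, Q2, Q3, Q4, Q5, Q6, Q7, Q8, Q9, Q10, Q11] at r0 r1 r2 r3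
    obtain ⟨a1, e1, u1, v1, -⟩ := hδ y1 (by simp)
    obtain ⟨a2, e2, u2, v2, -⟩ := hδ y2 (by simp)
    obtain ⟨a3, e3, u3, v3, -⟩ := hδ y3 (by simp)
    simp [k1, k2, k3] at v1 v2 v3
    exact NineArith.not_disjoint1 r0.row r1.row r3.row hg
      (inv_add_ne (u := 1) (by simpa using ho1) e1 one_ne_zero u1 (by omega))
      (inv_add_ne e2 e3 u2 u3 (by omega))
  · obtain ⟨y1, t1', rfl, k1, y2, t2', rfl, k2, y3, t3', rfl, k3, y4, t4', rfl, k4,
      y5, t5', rfl, k5, y6, t6', rfl, k6, y7, t7', rfl, k7, rfl⟩ := hLx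
    simp [oneTab, pickPt, selPts, -Nat.card_eq_fintype_card] at r0 r1 r2 r3
    simp only [Q0, Q1, Q2, Q3, Q4, Q5, Q6, Q7, Q8, Q9, Q10, Q11] at r0 r1 r2 r3
    obtain ⟨a1, e1, u1, v1, -⟩ := hδ y1 (by simp)
    obtain ⟨a2, e2, u2, v2, -⟩ := hδ y2 (by simp)
    obtain ⟨a3, e3, u3, v3, -⟩ := hδ y3 (by simp)
    simp [k1, k2, k3] at v1 v2 v3
    exact NineArith.not_disjoint1 r0.row r1.row r3.row hg
      (inv_add_ne (u := 1) (by simpa using ho1) e1 one_ne_zero u1 (by omega))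
      (inv_add_ne e2 e3 u2 u3 (by omega))
  · obtain ⟨y1, t1', rfl, k1, y2, t2', rfl, k2, y3, t3', rfl, k3, y4, t4', rfl, k4,
      y5, t5', rfl, k5, y6, t6', rfl, k6, y7, t7', rfl, k7, y8, t8', rfl, k8, rfl⟩ := hLx
    simp [oneTab, pickPt, selPts, -Nat.card_eq_fintype_card] at r0 r1 r2 r3
    simp only [Q0, Q1, Q2, Q3, Q4, Q5, Q6, Q7, Q8, Q9, Q10, Q11] at r0 r1 r2 r3
    obtain ⟨a1, e1, -, v1, -⟩ := hδ y1 (by simp)
    obtain ⟨a2, e2, -, v2, -⟩ := hδ y2 (by simp)
    obtain ⟨a6, e6, -, v6, w6⟩ := hδ y6 (by simp)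
    simp [k1, k2, k6] at v1 v2 v6
    have hc1 : a6 = 1 := NineArith.last_degree (b := a2) (c := a6) (e := a1) (by omega) (by omega)
      (by omega) ho1 e1 e2 e6 hg r0.row r1.row r2.row.swap23.swap12 r3.row.swap23.swap12
      r3.row.swap12.swap34
    obtain ⟨n6, hn6, hd6, -⟩ := hcong y6 (by simp)
    have hn1 : n6 = 1 := by
      have h := w6 n6 hd6
      rw [hc1] at h
      rcases hsg y6 (by simp) with s | s <;> rw [s] at h <;> omega
    have hlin : ((y6.1.1 : Cfsg.IrrCharacter G) : G → ℂ) 1 = 1 := by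
      rw [← TIPairs.coe_deg, hd6, hn1]; norm_num
    obtain ⟨S, hS⟩ := Char.exists_hom_of_apply_one_eq_one (Char.isCharacter_irr y6.1.1) hlin
    rcases hsimple.eq_bot_or_eq_top_of_normal S.ker inferInstance with hb | ht
    · have hinj := (MonoidHom.ker_eq_bot_iff S).mp hb
      have hcomm : ∀ a b : G, a * b = b * a := fun a b =>
        hinj (by rw [map_mul, map_mul, mul_comm])
      have htop : Mg = ⊤ := eq_top_iff.mpr fun g _ => hcentM g fun m _ => hcomm g m
      have hle := Subgroup.card_le_card_group N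
      rw [hNcard, ← Subgroup.card_top (G := G), ← htop, hM9] at hle
      norm_num at hle
    · refine y6.1.2 (Subtype.ext (funext fun g => ?_))
      have hg1 : S g = 1 := MonoidHom.mem_ker.mp (ht ▸ Subgroup.mem_top g)
      simp [hS, hg1, one', TIPairs.one]
  · obtain ⟨y1, t1', rfl, k1, y2, t2', rfl, k2, y3, t3', rfl, k3, y4, t4', rfl, k4,
      y5, t5', rfl, k5, y6, t6', rfl, k6, y7, t7', rfl, k7, rfl⟩ := hLx
    simp [oneTab, pickPt, selPts, -Nat.card_eq_fintype_card] at r0 r1 r2 r3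
    simp only [Q0, Q1, Q2, Q3, Q4, Q5, Q6, Q7, Q8, Q9, Q10, Q11] at r0 r1 r2 r3
    obtain ⟨a1, e1, u1, v1, -⟩ := hδ y1 (by simp)
    obtain ⟨a2, e2, u2, v2, -⟩ := hδ y2 (by simp)
    simp [k1, k2] at v1 v2
    exact NineArith.not_common134 (c := o) (d := o) r0.row.swap12.swap23 r2.row r3.row hg
      (inv_add_ne e1 e2 u1 u2 (by omega))
  · obtain ⟨y1, t1', rfl, k1, y2, t2', rfl, k2, y3, t3', rfl, k3, y4, t4', rfl, k4,
      y5, t5', rfl, k5, y6, t6', rfl, k6, y7, t7', rfl, k7, rfl⟩ := hLx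
    simp [oneTab, pickPt, selPts, -Nat.card_eq_fintype_card] at r0 r1 r2 r3
    simp only [Q0, Q1, Q2, Q3, Q4, Q5, Q6, Q7, Q8, Q9, Q10, Q11] at r0 r1 r2 r3
    obtain ⟨a4, e4, u4, v4, -⟩ := hδ y4 (by simp)
    obtain ⟨a5, e5, u5, v5, -⟩ := hδ y5 (by simp)
    obtain ⟨a2, e2, u2, v2, -⟩ := hδ y2 (by simp)
    obtain ⟨a6, e6, u6, v6, -⟩ := hδ y6 (by simp)
    simp [k4, k5, k2, k6] at v4 v5 v2 v6
    exact NineArith.not_disjoint3 r1.row.swap23.swap12.swap34.swap23 r2.row.swap12.swap23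
      r3.row.swap12.swap23 hg (inv_add_ne e4 e5 u4 u5 (by omega))
      (inv_add_ne e2 e6 u2 u6 (by omega))
  · obtain ⟨y1, t1', rfl, k1, y2, t2', rfl, k2, y3, t3', rfl, k3, y4, t4', rfl, k4,
      y5, t5', rfl, k5, y6, t6', rfl, k6, y7, t7', rfl, k7, rfl⟩ := hLx
    simp [oneTab, pickPt, selPts, -Nat.card_eq_fintype_card] at r0 r1 r2 r3
    simp only [Q0, Q1, Q2, Q3, Q4, Q5, Q6, Q7, Q8, Q9, Q10, Q11] at r0 r1 r2 r3
    obtain ⟨a1, e1, u1, v1, -⟩ := hδ y1 (by simp)
    obtain ⟨a4, e4, u4, v4, -⟩ := hδ y4 (by simp)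
    simp [k1, k4] at v1 v4
    exact NineArith.not_common234 r1.row.swap12.swap23 r2.row r3.row.swap23 hg
      (inv_add_ne e1 e4 u1 u4 (by omega))

end Cfsg.Agent.S3716
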