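import Cfsg.Statements.S4456
import Cfsg.Agent.Lib.CharDeep.Thompson
import Cfsg.Agent.Lib.Char.Linear

set_option autoImplicit false
open Cfsg
open CfsgLib CfsgLib.CharDeep

namespace Cfsg.Agent.S4456

/-- Let p be a prime and G a finite group such that p divides the degree of every irreducible character of G of degree greater than one. Then G has a normal p-complement: a normal subgroup of order prime to p whose index is a power of p. -/
theorem result {G : Type*} [Group G] [Finite G] (p : ℕ) (hp : p.Prime) (hdeg : ∀ χ : Cfsg.IrrCharacter G, Cfsg.charDegree (χ : G → ℂ) ≠ 1 → p ∣ Cfsg.charDegree (χ : G → ℂ)) : ∃ N : Subgroup G, N.Normal ∧ (Nat.card N).Coprime p ∧ ∃ k : ℕ, N.index = p ^ k := by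
  classical
  have : Fact p.Prime := ⟨hp⟩
  have := Fintype.ofFinite G
  set n' := Nat.card G / p ^ (Nat.card G).factorization p
  set K : Subgroup (G →* ℂˣ) := (powMonoidHom n').ker
  have hone : ∀ χ : {χ : Cfsg.IrrCharacter G // Thompson.Good p χ},
      Cfsg.charDegree ((χ.1 : Cfsg.IrrCharacter G) : G → ℂ) = 1 := fun χ =>
    by_contra fun h => χ.2.1 (hdeg χ.1 h)
  have hord : ∀ f : G →* ℂˣ, Cfsg.detOrder (fun g => (f g : ℂ)) = orderOf f := by
    intro f
    have : (Char.linRep f).IsIrreducible :=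
      IrrTools.isIrreducible_of_forall _ fun U _ => Ideal.eq_bot_or_top U
    rw [← Char.linRep_character, Thompson.detOrder_eq]
    refine congrArg orderOf (MonoidHom.ext fun g => Units.ext ?_)
    rw [DetExt.coe_detHom]
    simp [Char.linRep, LinearMap.det_smul]
  have hdeg1 : ∀ f : G →* ℂˣ, Cfsg.charDegree (fun g => (f g : ℂ)) = 1 := fun f => by
    simp [Cfsg.charDegree]
  have hK : ∀ f : G →* ℂˣ, f ∈ K ↔ ¬ p ∣ orderOf f := by
    intro f
    rw [MonoidHom.mem_ker, powMonoidHom_apply]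
    refine ⟨fun h hd => Thompson.not_dvd_ordCompl G p (hd.trans (orderOf_dvd_of_pow_eq_one h)),
      fun h => ?_⟩
    refine orderOf_dvd_iff_pow_eq_one.1 ((hp.coprime_iff_not_dvd.2 h).symm.pow_right
      ((Nat.card G).factorization p) |>.dvd_of_dvd_mul_left ?_)
    show orderOf f ∣ p ^ _ * n'
    rw [Nat.ordProj_mul_ordCompl_eq_self]
    refine orderOf_dvd_of_pow_eq_one (MonoidHom.ext fun g => ?_)
    rw [MonoidHom.pow_apply, ← map_pow, pow_card_eq_one', map_one, MonoidHom.one_apply]
  let φ : K → {χ : Cfsg.IrrCharacter G // Thompson.Good p χ} := fun f =>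
    ⟨⟨fun g => (f.1 g : ℂ), Char.isIrrCharacter_hom f.1⟩,
      by show ¬ p ∣ Cfsg.charDegree fun g => (f.1 g : ℂ); rw [hdeg1]; exact hp.not_dvd_one,
      by show ¬ p ∣ Cfsg.detOrder fun g => (f.1 g : ℂ); rw [hord]; exact (hK _).1 f.2⟩
  have hφ : Function.Bijective φ := by
    refine ⟨fun a b h => Subtype.ext (Char.coe_hom_injective
      (congrArg (fun χ => ((χ : {χ : Cfsg.IrrCharacter G // _}).1 : G → ℂ)) h)), fun χ => ?_⟩
    obtain ⟨f, hf⟩ := Char.exists_hom_of_apply_one_eq_one (Char.isCharacter_irr χ.1)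
      (by rw [← DegreeTools.deg_cast, hone χ, Nat.cast_one])
    refine ⟨⟨f, (hK f).2 ?_⟩, Subtype.ext (Subtype.ext hf.symm)⟩
    rw [← hord f, ← hf]
    exact χ.2.2
  have hcong := Thompson.card_pResidual_congr (G := G) p
  rw [Finset.sum_congr rfl fun χ _ => by rw [hone χ], Finset.sum_const, Finset.card_univ,
    ← Nat.card_eq_fintype_card, ← Nat.card_eq_of_bijective φ hφ] at hcong
  simp only [Nat.cast_one, one_pow, nsmul_one] at hcong
  obtain ⟨k, hk⟩ := CfsgLib.Fusion.Basic.exists_index_pResidual (G := G) (p := p)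
  refine ⟨Cfsg.pResidual p G, CfsgLib.Fusion.Basic.pResidual_normal,
    (hp.coprime_iff_not_dvd.2 fun hd => ?_).symm, k, hk⟩
  have hdK : p ∣ Nat.card K := by
    have h1 := dvd_sub (Int.natCast_dvd_natCast.2 hd) hcong
    rw [sub_sub_cancel] at h1
    exact Int.natCast_dvd_natCast.1 h1
  have : Finite (G →* ℂˣ) := Finite.of_injective
    (fun f => (⟨fun g => (f g : ℂ), Char.isIrrCharacter_hom f⟩ : Cfsg.IrrCharacter G))
    fun a b h => Char.coe_hom_injective (congrArg Subtype.val h)
  obtain ⟨f, hf⟩ := exists_prime_orderOf_dvd_card' p hdK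
  exact (hK f.1).1 f.2 (by rw [Subgroup.orderOf_coe, hf])

end Cfsg.Agent.S4456
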