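import Cfsg.Statements.S4461
import Cfsg.Agent.Lib.Char.Constituent
import Cfsg.Agent.Lib.Char.Induced
import Cfsg.Agent.Lib.Char.Linear
import Cfsg.Agent.Lib.Solvable.Cores
import Cfsg.Agent.Lib.Blocks.Parts
import Cfsg.Agent.Lib.DegreeTools.Basic

set_option autoImplicit false
open Cfsg

namespace Cfsg.Agent.S4461

open CfsgLib.Char CfsgLib.DegreeTools
open scoped Classical ComplexConjugate

theorem sum_hom {A B : Type*} [Group A] [Fintype A] [Group B] [Fintype B] (φ : A →* B)
    (hφ : Function.Surjective φ) (F : B → ℂ) :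
    (Nat.card A : ℂ)⁻¹ * ∑ a, F (φ a) = (Nat.card B : ℂ)⁻¹ * ∑ b, F b := by
  have h1 : ∀ b : B, ∑ a, F (φ a * b) = ∑ a, F (φ a) := fun b => by
    obtain ⟨a₀, rfl⟩ := hφ b
    exact Fintype.sum_equiv (Equiv.mulRight a₀) _ _ fun a => by simp
  have h2 : ∀ a : A, ∑ b, F (φ a * b) = ∑ b, F b := fun a =>
    Fintype.sum_equiv (Equiv.mulLeft (φ a)) _ _ fun b => rfl
  have h3 : ∑ b : B, ∑ a : A, F (φ a * b) = ∑ a : A, ∑ b : B, F (φ a * b) := Finset.sum_comm
  simp only [h1, h2, Finset.sum_const, Finset.card_univ, nsmul_eq_mul, ← Nat.card_eq_fintype_card] at h3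
  field_simp [card_ne_zero (G := A), card_ne_zero (G := B)]
  linear_combination h3

variable {G : Type*} [Group G] [Fintype G]

/-- Averages of functions constant on cosets of `K` can be taken over a supplement of `K`. -/
theorem avg_supplement (K H : Subgroup G) [K.Normal] (hKH : ∀ g : G, ∃ k ∈ K, ∃ h ∈ H, k * h = g)
    (f : G → ℂ) (hf : ∀ k ∈ K, ∀ g, f (k * g) = f g) :
    (Nat.card G : ℂ)⁻¹ * ∑ g, f g = (Nat.card H : ℂ)⁻¹ * ∑ h : H, f h := by
  set π := QuotientGroup.mk' K
  have hF : ∀ g : G, f g = (fun q : G ⧸ K => f q.out) (π g) := fun g => by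
    obtain ⟨k, hk⟩ := QuotientGroup.mk_out_eq_mul K g
    show f g = f ((g : G ⧸ K).out)
    rw [hk, show g * (k : G) = (g * k * g⁻¹) * g by group,
      hf _ (‹K.Normal›.conj_mem _ k.2 g)]
  rw [Finset.sum_congr rfl fun g _ => hF g, Finset.sum_congr rfl fun (h : H) _ => hF h]
  refine (sum_hom π (QuotientGroup.mk'_surjective K) (fun q => f q.out)).trans ?_
  refine (sum_hom (π.comp H.subtype) (fun q => ?_) (fun q => f q.out)).symm
  obtain ⟨g, rfl⟩ := QuotientGroup.mk'_surjective K q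
  obtain ⟨k, hk, h, hh, rfl⟩ := hKH g
  refine ⟨⟨h, hh⟩, ?_⟩
  show π h = π (k * h)
  rw [map_mul, show π k = 1 from (QuotientGroup.eq_one_iff k).2 hk, one_mul]

theorem qelem {q : ℕ} [Fact q.Prime] {M : Subgroup G} (Q : Sylow q M) {x : G} (hxM : x ∈ M)
    (hxn : x ∈ Subgroup.normalizer (((Q : Subgroup M).map M.subtype : Subgroup G) : Set G))
    (hxq : ∃ j, orderOf x = q ^ j) : x ∈ (Q : Subgroup M).map M.subtype := by
  obtain ⟨j, hj⟩ := hxq
  have hxp : IsPGroup q (Subgroup.zpowers (⟨x, hxM⟩ : M)) := IsPGroup.of_card (n := j)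
    (by rw [Nat.card_zpowers, Subgroup.orderOf_mk, hj])
  have hn : Subgroup.zpowers (⟨x, hxM⟩ : M) ≤ Subgroup.normalizer ((Q : Subgroup M) : Set M) := by
    rw [Subgroup.zpowers_le, Subgroup.mem_normalizer_iff]
    intro y
    have := Subgroup.mem_normalizer_iff.1 hxn (y : G)
    have hA : ∀ z : M, z ∈ (Q : Subgroup M) ↔ (z : G) ∈ (Q : Subgroup M).map M.subtype :=
      fun z => (Subgroup.mem_map_iff_mem M.subtype_injective).symm
    rw [hA, hA]
    exact this
  have h := Q.is_maximal' (hxp.to_sup_of_normal_right' Q.isPGroup' hn) le_sup_right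
  exact ⟨⟨x, hxM⟩, h ▸ Subgroup.mem_sup_left (Subgroup.mem_zpowers _), rfl⟩

theorem parts_mem {q : ℕ} [Fact q.Prime] {K M : Subgroup G} [K.Normal]
    (hMK : ∀ x ∈ M, ∃ j, x ^ q ^ j ∈ K) {x : G} (hx : x ∈ M) :
    ∃ u v : G, u * v = x ∧ v ∈ K ∧ (∃ j, orderOf u = q ^ j) ∧ u ∈ Subgroup.zpowers x := by
  obtain ⟨u, v, -, he, -, hv, hu, hux, hvx⟩ := CfsgLib.Blocks.exists_isPPart (p := q) Fact.out x
  refine ⟨u, v, he, ?_, hu, hux⟩
  obtain ⟨j, hj⟩ := hMK v (Subgroup.zpowers_le.2 hx hvx)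
  refine (QuotientGroup.eq_one_iff v).1 (orderOf_eq_one_iff.1 (Nat.eq_one_of_dvd_coprimes
    (Nat.Coprime.pow_left j ((Fact.out : q.Prime).coprime_iff_not_dvd.2 hv))
    (orderOf_dvd_of_pow_eq_one ?_) (orderOf_map_dvd (QuotientGroup.mk' K) v)))
  rw [← QuotientGroup.mk_pow, (QuotientGroup.eq_one_iff _).2 hj]

/-- Either a larger character exists or the support of `χ` on the supplement is closed. -/
theorem key (χ : Cfsg.IrrCharacter G) (K : Subgroup G) [K.Normal]
    (hK : ∀ g : G, g ∈ K ↔ (χ : G → ℂ) g = (χ : G → ℂ) 1) (M : Subgroup G) [M.Normal]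
    (hKM : K ≤ M) {q : ℕ} [Fact q.Prime] (hMK : ∀ x ∈ M, ∃ j, x ^ q ^ j ∈ K) (Q : Sylow q M) :
    (∃ ψ : Cfsg.IrrCharacter G, Cfsg.charDegree (χ : G → ℂ) < Cfsg.charDegree (ψ : G → ℂ) ∧
      ∃ L : Subgroup G, (∀ g : G, g ∈ L ↔ (ψ : G → ℂ) g = (ψ : G → ℂ) 1) ∧ L < K) ∨
    ∀ h ∈ Subgroup.normalizer (((Q : Subgroup M).map M.subtype : Subgroup G) : Set G),
      (χ : G → ℂ) h ≠ 0 → ∀ x : G, x * h * x⁻¹ ∈
        Subgroup.normalizer (((Q : Subgroup M).map M.subtype : Subgroup G) : Set G) := by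
  set Q' : Subgroup G := (Q : Subgroup M).map M.subtype with hQ'
  set H : Subgroup G := Subgroup.normalizer (Q' : Set G) with hHdef
  have hq : q.Prime := Fact.out
  have hQ'M : Q' ≤ M := Subgroup.map_subtype_le _
  have hQ'H : Q' ≤ H := Subgroup.le_normalizer
  have hQ'p : IsPGroup q Q' := Q.isPGroup'.map _
  have hKker : ∀ k ∈ K, ∀ g, (χ : G → ℂ) (k * g) = (χ : G → ℂ) g := fun k hk g =>
    IsCharacter.apply_mul_of_mem_ker (isCharacter_irr χ) ((hK k).1 hk) g
  -- `G = K H`
  have hKQ : M ≤ K ⊔ Q' := by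
    have hle : K ⊔ Q' ≤ M := sup_le hKM hQ'M
    set R := (K ⊔ Q').subgroupOf M with hR
    have hpK : IsPGroup q (M ⧸ K.subgroupOf M) := by
      intro y
      induction y using QuotientGroup.induction_on with
      | H x =>
        obtain ⟨j, hj⟩ := hMK x x.2
        exact ⟨j, by rw [← QuotientGroup.mk_pow, QuotientGroup.eq_one_iff, Subgroup.mem_subgroupOf];
                     exact hj⟩
    obtain ⟨k, hk⟩ := IsPGroup.iff_card.1 hpK
    have h1 : R.index ∣ q ^ k := by
      rw [← hk, ← Subgroup.index_eq_card]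
      exact Subgroup.index_dvd_of_le fun x hx => Subgroup.mem_sup_left (Subgroup.mem_subgroupOf.1 hx)
    have h2 : R.index ∣ (Q : Subgroup M).index := Subgroup.index_dvd_of_le fun x hx =>
      Subgroup.mem_sup_right (Subgroup.mem_map_of_mem M.subtype hx)
    have h3 : R.index = 1 := Nat.eq_one_of_dvd_coprimes
      (Nat.Coprime.pow_left k (hq.coprime_iff_not_dvd.2 Q.not_dvd_index)) h1 h2
    exact Subgroup.subgroupOf_eq_top.1 (Subgroup.index_eq_one.1 h3)
  have hKH : ∀ g : G, ∃ k ∈ K, ∃ h ∈ H, k * h = g := by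
    intro g
    have htop : K ⊔ H = ⊤ := by
      rw [eq_top_iff, ← Sylow.normalizer_sup_eq_top Q]
      exact sup_le le_sup_right (hKQ.trans (sup_le le_sup_left (hQ'H.trans le_sup_right)))
    exact Subgroup.mem_sup_of_normal_left.1 (htop ▸ Subgroup.mem_top g)
  set θ : H → ℂ := fun h => (χ : G → ℂ) h with hθ
  have hθc : Cfsg.IsCharacter H θ := IsCharacter.restrict (isCharacter_irr χ) H
  have hθirr : Cfsg.IsIrrCharacter H θ := by
    refine IsCharacter.isIrrCharacter_of_norm_one hθc ?_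
    have h1 := classInner_irrCharacter χ χ
    rw [if_pos rfl, Cfsg.classInner, avg_supplement K H hKH
      (fun g => (χ : G → ℂ) g * conj ((χ : G → ℂ) g)) (fun k hk g => by rw [hKker k hk g])] at h1
    exact h1
  set π : G → ℂ := Cfsg.indFun H θ with hπdef
  have hπ : Cfsg.IsCharacter G π := IsCharacter.indFun H hθc
  obtain ⟨m, hm, hexp⟩ := IsCharacter.exists_multiplicity hπ
  -- a constituent lies over `θ`
  have hover : ∀ ψ : Cfsg.IrrCharacter G, m ψ ≠ 0 →
      Cfsg.classInner (fun h : H => (ψ : G → ℂ) h) θ ≠ 0 := by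
    intro ψ hψ
    rw [← classInner_indFun_right H θ (IsIrrCharacter.isClassFunction ψ.2), ← classInner_conj_symm,
      ← hπdef, hm]
    simpa using hψ
  by_cases hbig : ∃ ψ : Cfsg.IrrCharacter G, m ψ ≠ 0 ∧
      Cfsg.charDegree (χ : G → ℂ) < Cfsg.charDegree (ψ : G → ℂ)
  · left
    obtain ⟨ψ, hψ, hdeg⟩ := hbig
    refine ⟨ψ, hdeg, charKer (isCharacter_irr ψ), fun g => mem_charKer _, ?_⟩
    set L := charKer (isCharacter_irr ψ) with hL
    haveI hLn : L.Normal := charKer_normal _
    have hLH : ∀ h ∈ H, h ∈ L → h ∈ K := fun h hh hhL => (hK h).2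
      (IsCharacter.constituent_apply_eq_one (IsCharacter.restrict (isCharacter_irr ψ) H) hθirr
        (hover ψ hψ) (g := ⟨h, hh⟩) ((mem_charKer _).1 hhL))
    have hLM : L ⊓ M ≤ K := by
      intro x hx
      obtain ⟨u, v, huv, hv, ⟨j, hj⟩, hux⟩ := parts_mem hMK hx.2
      obtain ⟨huL, huM⟩ := Subgroup.zpowers_le.2 hx hux
      have hp1 : IsPGroup q (Subgroup.zpowers (⟨u, huM⟩ : M)) := IsPGroup.of_card (n := j)
        (by rw [Nat.card_zpowers, Subgroup.orderOf_mk, hj])
      obtain ⟨S, hS⟩ := hp1.exists_le_sylow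
      obtain ⟨g, hg⟩ := MulAction.exists_smul_eq M Q S
      have hu' : (⟨u, huM⟩ : M) ∈ (g • Q : Sylow q M) := hg ▸ hS (Subgroup.mem_zpowers _)
      obtain ⟨w, hw, hwu⟩ := Subgroup.mem_map.1 hu'
      have e : (g : G) * w * (g : G)⁻¹ = u := congrArg Subtype.val hwu
      have hwQ : (w : G) ∈ Q' := Subgroup.mem_map_of_mem M.subtype hw
      have hwL : (w : G) ∈ L := by
        have h1 := hLn.conj_mem u huL (g : G)⁻¹
        rw [inv_inv, ← e, show (g : G)⁻¹ * ((g : G) * w * (g : G)⁻¹) * g = w by group] at h1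
        exact h1
      rw [← huv, ← e]
      exact K.mul_mem (‹K.Normal›.conj_mem _ (hLH _ (hQ'H hwQ) hwL) _) hv
    have hle : L ≤ K := by
      intro l hl
      set R : Subgroup G := (L ⊓ K) ⊔ Q' with hR
      have hRM : R ≤ M := sup_le (inf_le_right.trans hKM) hQ'M
      set A : Subgroup G := Q'.map (MulAut.conj l).toMonoidHom with hA
      have hcard : Nat.card A = Nat.card Q' :=
        Subgroup.card_map_of_injective (MulAut.conj l).injective
      have hAR : A ≤ R := by
        rintro _ ⟨x, hx, rfl⟩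
        show l * x * l⁻¹ ∈ R
        have hc1 : l * x * l⁻¹ * x⁻¹ ∈ L := by
          rw [mul_assoc, mul_assoc, ← mul_assoc x]
          exact L.mul_mem hl (hLn.conj_mem _ (L.inv_mem hl) x)
        have hc2 : l * x * l⁻¹ * x⁻¹ ∈ M :=
          M.mul_mem (‹M.Normal›.conj_mem x (hQ'M hx) l) (M.inv_mem (hQ'M hx))
        rw [show l * x * l⁻¹ = (l * x * l⁻¹ * x⁻¹) * x by group]
        exact R.mul_mem (Subgroup.mem_sup_left ⟨hc1, hLM ⟨hc1, hc2⟩⟩) (Subgroup.mem_sup_right hx)
      have hmax : ∀ (B : Subgroup G) (T : Subgroup R), B ≤ R → Nat.card B = Nat.card Q' →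
          B.subgroupOf R ≤ T → IsPGroup q T → T = B.subgroupOf R := by
        intro B T hB hBc hBT hT
        refine (Subgroup.eq_of_le_of_card_ge hBT ?_).symm
        rw [Nat.card_congr (Subgroup.subgroupOfEquivOfLe hB).toEquiv, hBc]
        set T' : Subgroup G := T.map R.subtype
        have hT'M : T' ≤ M := (Subgroup.map_subtype_le T).trans hRM
        obtain ⟨S, hS⟩ := ((hT.map R.subtype).comap_of_injective M.subtype M.subtype_injective).exists_le_sylow
        have hd := Subgroup.card_dvd_of_le hS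
        rw [← Subgroup.subgroupOf, Nat.card_congr (Subgroup.subgroupOfEquivOfLe hT'M).toEquiv,
          Subgroup.card_map_of_injective R.subtype_injective, S.card_eq_multiplicity,
          ← Q.card_eq_multiplicity] at hd
        rw [hQ', Subgroup.card_map_of_injective M.subtype_injective]
        exact Nat.le_of_dvd Nat.card_pos hd
      have hAp : IsPGroup q (A.subgroupOf R) :=
        (hQ'p.map _).comap_of_injective R.subtype R.subtype_injective
      have hQp : IsPGroup q (Q'.subgroupOf R) :=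
        hQ'p.comap_of_injective R.subtype R.subtype_injective
      let SA : Sylow q R := ⟨A.subgroupOf R, hAp, fun {T} hT hle => hmax A T hAR hcard hle hT⟩
      let SQ : Sylow q R := ⟨Q'.subgroupOf R, hQp, fun {T} hT hle =>
        hmax Q' T le_sup_right rfl hle hT⟩
      obtain ⟨r, hr⟩ := MulAction.exists_smul_eq R SQ SA
      have hr' : (Q'.subgroupOf R).map (MulAut.conj r).toMonoidHom = A.subgroupOf R :=
        congrArg (fun S : Sylow q R => (S : Subgroup R)) hr
      have hn : l⁻¹ * (r : G) ∈ H := by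
        rw [hHdef, Subgroup.mem_normalizer_iff_map_conj_eq]
        apply Subgroup.eq_of_le_of_card_ge
        · rintro _ ⟨x, hx, rfl⟩
          have h1 : (⟨(r : G) * x * (r : G)⁻¹, R.mul_mem (R.mul_mem r.2 (Subgroup.mem_sup_right hx))
              (R.inv_mem r.2)⟩ : R) ∈ A.subgroupOf R := by
            rw [← hr']
            exact ⟨⟨x, Subgroup.mem_sup_right hx⟩, hx, rfl⟩
          obtain ⟨y, hy, hyx⟩ := Subgroup.mem_map.1 (Subgroup.mem_subgroupOf.1 h1)
          show l⁻¹ * (r : G) * x * (l⁻¹ * (r : G))⁻¹ ∈ Q'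
          have e : l * y * l⁻¹ = (r : G) * x * (r : G)⁻¹ := hyx
          rw [show l⁻¹ * (r : G) * x * (l⁻¹ * (r : G))⁻¹ = l⁻¹ * ((r : G) * x * (r : G)⁻¹) * l by
            group, ← e, show l⁻¹ * (l * y * l⁻¹) * l = y by group]
          exact hy
        · exact (Subgroup.card_map_of_injective (MulAut.conj _).injective).ge
      obtain ⟨a, ha, b, hb, hab⟩ := Subgroup.mem_sup_of_normal_left.1 r.2
      have hh : l⁻¹ * a ∈ H := by
        have := H.mul_mem hn (H.inv_mem (hQ'H hb))
        rwa [← hab, mul_assoc, mul_assoc, mul_inv_cancel, mul_one] at this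
      have hk := hLH _ hh (L.mul_mem (L.inv_mem hl) ha.1)
      simpa using K.mul_mem ha.2 (K.inv_mem hk)
    refine lt_of_le_of_ne hle fun hLK => ?_
    -- otherwise `ψ = χ`
    have hψK : ∀ k ∈ K, ∀ g, (ψ : G → ℂ) (k * g) = (ψ : G → ℂ) g := fun k hk g =>
      IsCharacter.apply_mul_of_mem_ker (isCharacter_irr ψ) ((mem_charKer _).1 (hLK ▸ hk : k ∈ L)) g
    have h0 := hover ψ hψ
    rw [Cfsg.classInner] at h0
    simp only [hθ] at h0
    rw [← avg_supplement K H hKH (fun g => (ψ : G → ℂ) g * conj ((χ : G → ℂ) g))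
      (fun k hk g => by rw [hKker k hk g, hψK k hk g])] at h0
    have h1 : Cfsg.classInner (ψ : G → ℂ) (χ : G → ℂ) ≠ 0 := h0
    rw [classInner_irrCharacter] at h1
    rw [show ψ = χ from by by_contra hne; exact h1 (if_neg hne)] at hdeg
    exact lt_irrefl _ hdeg
  · right
    push Not at hbig
    have heq : ∀ ψ : Cfsg.IrrCharacter G, m ψ ≠ 0 → ∀ h : H, (ψ : G → ℂ) h = θ h := by
      intro ψ hψ
      obtain ⟨a, b, ha, hb, hab, hEq⟩ := IsCharacter.constituent_degree_le
        (IsCharacter.restrict (isCharacter_irr ψ) H) hθirr (hover ψ hψ)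
      refine fun h => congrFun (hEq (le_antisymm hab ?_)) h
      have ha' : a = Cfsg.charDegree (χ : G → ℂ) := Nat.cast_injective (R := ℂ) (by
        rw [← ha, deg_cast]; rfl)
      have hb' : b = Cfsg.charDegree (ψ : G → ℂ) := Nat.cast_injective (R := ℂ) (by
        rw [← hb, deg_cast]; rfl)
      rw [ha', hb']
      exact hbig ψ hψ
    have hval : ∀ h : H, π h = (∑ ψ : Cfsg.IrrCharacter G, (m ψ : ℂ)) * θ h := fun h => by
      rw [hexp, Finset.sum_mul]
      refine Finset.sum_congr rfl fun ψ _ => ?_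
      by_cases hψ : m ψ = 0
      · simp [hψ]
      · rw [heq ψ hψ h]
    have hidx : (∑ ψ : Cfsg.IrrCharacter G, (m ψ : ℂ)) = (H.index : ℂ) := by
      have h := hval 1
      rw [OneMemClass.coe_one, hπdef, indFun_one] at h
      exact (mul_right_cancel₀ (IsIrrCharacter.apply_one_ne_zero hθirr) h).symm
    intro h hh hne x
    set T : Finset G := Finset.univ.filter fun y => y⁻¹ * h * y ∈ H with hT
    have h1 := hval ⟨h, hh⟩
    rw [hπdef, indFun_def, hidx] at h1
    have hext : ∀ y, Cfsg.extendByZero H θ (y⁻¹ * h * y) =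
        if y⁻¹ * h * y ∈ H then (χ : G → ℂ) h else 0 := by
      intro y
      split
      · rename_i hy
        rw [extendByZero_apply_mem H θ hy]
        show (χ : G → ℂ) (y⁻¹ * h * y) = _
        have := IsIrrCharacter.isClassFunction χ.2 h y⁻¹
        rwa [inv_inv] at this
      · rename_i hy
        exact extendByZero_apply_notMem H θ hy
    simp only [hext] at h1
    rw [← Finset.sum_filter, Finset.sum_const, nsmul_eq_mul] at h1
    have hTcard : T.card = Fintype.card G := by
      have h2 : (T.card : ℂ) * (χ : G → ℂ) h = (Nat.card H : ℂ) * (H.index : ℂ) * (χ : G → ℂ) h := by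
        have e : θ ⟨h, hh⟩ = (χ : G → ℂ) h := rfl
        rw [e, inv_mul_eq_iff_eq_mul₀ card_ne_zero, ← mul_assoc] at h1
        exact h1
      have h3 := mul_right_cancel₀ hne h2
      rw [← Nat.cast_mul, Subgroup.card_mul_index] at h3
      rw [← Nat.card_eq_fintype_card]
      exact Nat.cast_injective h3
    have hmem := Finset.eq_univ_iff_forall.1 (Finset.eq_univ_of_card T hTcard) x⁻¹
    simpa [hT] using hmem

theorem abelian_below {X : Type*} [Group X] : ∀ (n : ℕ) (D : Subgroup X), D.Normal → D ≠ ⊥ →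
    derivedSeries X n = ⊥ → (∃ j, D ≤ derivedSeries X j) →
    ∃ A : Subgroup X, A.Normal ∧ A ≠ ⊥ ∧ A ≤ D ∧ ∀ a ∈ A, ∀ b ∈ A, a * b = b * a := by
  intro n D hDn hD hn ⟨j, hj⟩
  induction hi : n - j using Nat.strong_induction_on generalizing D j with
  | _ i IH =>
    by_cases h1 : ⁅D, D⁆ = ⊥
    · refine ⟨D, hDn, hD, le_rfl, fun a ha b hb => ?_⟩
      have := Subgroup.commutator_mem_commutator ha hb
      rw [h1, Subgroup.mem_bot] at this
      exact commutatorElement_eq_one_iff_mul_comm.1 this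
    · haveI := hDn
      have hlt : j < n := by
        by_contra hle
        exact hD (le_bot_iff.1 (hn ▸ hj.trans (derivedSeries_antitone X (not_lt.1 hle))))
      have h2 : ⁅D, D⁆ ≤ derivedSeries X (j + 1) := by
        rw [derivedSeries_succ]; exact Subgroup.commutator_mono hj hj
      obtain ⟨A, hA, hA1, hA2, hA3⟩ := IH (n - (j + 1)) (by omega) ⁅D, D⁆ inferInstance h1 (j + 1) h2 rfl
      exact ⟨A, hA, hA1, hA2.trans (Subgroup.commutator_le_left D D), hA3⟩



/-- Let χ be an irreducible character of the finite group G and K its kernel (the elements where χ takes the value χ(1)). Suppose either that K is not contained in the Fitting subgroup F(G), or that K = F(G) with G/K solvable and K ≠ G. Then there is an irreducible character ψ of G with ψ(1) > χ(1) whose kernel is properly contained in K. -/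
theorem result {G : Type*} [Group G] [Finite G] (χ : Cfsg.IrrCharacter G) (K : Subgroup G) [K.Normal] (hK : (∀ g : G, g ∈ K ↔ (χ : G → ℂ) g = (χ : G → ℂ) 1)) (h : ¬ K ≤ Cfsg.fittingSubgroup G ∨ (K = Cfsg.fittingSubgroup G ∧ Group.IsSolvable (G ⧸ K) ∧ K ≠ ⊤)) : ∃ ψ : Cfsg.IrrCharacter G, Cfsg.charDegree (χ : G → ℂ) < Cfsg.charDegree (ψ : G → ℂ) ∧ ∃ L : Subgroup G, (∀ g : G, g ∈ L ↔ (ψ : G → ℂ) g = (ψ : G → ℂ) 1) ∧ L < K := by
  classical
  letI := Fintype.ofFinite G
  rcases h with h | ⟨hKF, hsol, htop⟩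
  · -- a Sylow subgroup of `K` is not normal
    obtain ⟨q, hq, P, hP⟩ : ∃ q : ℕ, ∃ _ : Fact q.Prime, ∃ P : Sylow q K, ¬ (P : Subgroup K).Normal := by
      by_contra hc
      push Not at hc
      exact h (CfsgLib.Solvable.Cores.le_fittingSubgroup
        ((Group.isNilpotent_of_finite_tfae (G := K)).out 0 3 |>.2 hc))
    haveI := hq
    rcases key χ K hK K le_rfl (q := q) (fun x hx => ⟨0, by rwa [pow_zero, pow_one]⟩) P with h1 | h1
    · exact h1
    exfalso
    refine hP ⟨fun a ha g => ?_⟩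
    set Q' : Subgroup G := (P : Subgroup K).map K.subtype with hQ'
    have haQ : (a : G) ∈ Q' := Subgroup.mem_map_of_mem K.subtype ha
    have hne : (χ : G → ℂ) (a : G) ≠ 0 := by
      rw [(hK _).1 a.2]; exact IsIrrCharacter.apply_one_ne_zero χ.2
    have hn := h1 (a : G) (Subgroup.le_normalizer haQ) hne (g : G)
    obtain ⟨j, hj⟩ := IsPGroup.iff_orderOf.1 P.isPGroup' ⟨a, ha⟩
    rw [Subgroup.orderOf_mk] at hj
    have hmem := qelem P (x := (g : G) * a * (g : G)⁻¹) (g * a * g⁻¹).2 hn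
      ⟨j, by rw [show (g : G) * a * (g : G)⁻¹ = MulAut.conj (g : G) (a : G) from rfl,
        MulEquiv.orderOf_eq, Subgroup.orderOf_coe, hj]⟩
    exact (Subgroup.mem_map_iff_mem K.subtype_injective (x := g * a * g⁻¹)).1 hmem
  · -- an abelian normal section inside the support of `χ`
    obtain ⟨g₀, hg₀K, hg₀⟩ : ∃ g : G, g ∉ K ∧ (χ : G → ℂ) g ≠ 0 := by
      by_contra! hc
      have hne : χ ≠ oneChar G := fun e => htop (eq_top_iff.2 fun g _ => (hK g).2 (by
        rw [e]; simp))
      have hs := sum_eq_zero χ hne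
      rw [← Finset.sum_filter_of_ne (p := fun g => g ∈ K) (fun g _ hg => by
        by_contra hgK; exact hg (hc g hgK))] at hs
      rw [Finset.sum_congr rfl (fun g hg => (hK g).1 (Finset.mem_filter.1 hg).2),
        Finset.sum_const, nsmul_eq_mul, mul_eq_zero] at hs
      refine hs.elim (fun h => ?_) (IsIrrCharacter.apply_one_ne_zero χ.2)
      exact Finset.card_ne_zero_of_mem (a := (1 : G))
        (Finset.mem_filter.2 ⟨Finset.mem_univ _, K.one_mem⟩) (Nat.cast_eq_zero.1 h)
    set V : Subgroup G := Subgroup.normalClosure {g | (χ : G → ℂ) g ≠ 0} with hV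
    set D : Subgroup (G ⧸ K) := V.map (QuotientGroup.mk' K) with hD
    have hDn : D.Normal := Subgroup.normalClosure_normal.map _ (QuotientGroup.mk'_surjective K)
    have hD1 : D ≠ ⊥ := fun e => hg₀K ((QuotientGroup.eq_one_iff g₀).1 (Subgroup.mem_bot.1
      (e ▸ Subgroup.mem_map_of_mem _ (Subgroup.subset_normalClosure hg₀))))
    obtain ⟨n, hn⟩ := hsol.solvable
    obtain ⟨A, hAn, hA1, hAD, hAc⟩ := abelian_below n D hDn hD1 hn ⟨0, by simp⟩
    have hA2 : Nat.card A ≠ 1 := fun e => hA1 (Subgroup.card_eq_one.1 e)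
    obtain ⟨q, hq, hqd⟩ := Nat.exists_prime_and_dvd hA2
    haveI := Fact.mk hq
    obtain ⟨a₀, ha₀⟩ := exists_prime_orderOf_dvd_card' q hqd
    let B : Subgroup (G ⧸ K) :=
      { carrier := {a | a ∈ A ∧ a ^ q = 1}
        one_mem' := ⟨A.one_mem, one_pow q⟩
        mul_mem' := fun {a b} ha hb => ⟨A.mul_mem ha.1 hb.1, by
          rw [(show Commute a b from hAc a ha.1 b hb.1).mul_pow, ha.2, hb.2, one_mul]⟩
        inv_mem' := fun {a} ha => ⟨A.inv_mem ha.1, by rw [inv_pow, ha.2, inv_one]⟩ }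
    have hBn : B.Normal := ⟨fun a ha g => ⟨hAn.conj_mem a ha.1 g, by
      rw [conj_pow, ha.2, mul_one, mul_inv_cancel]⟩⟩
    set M : Subgroup G := B.comap (QuotientGroup.mk' K) with hM
    haveI : M.Normal := hBn.comap _
    have hKM : K ≤ M := fun k hk => by
      show QuotientGroup.mk' K k ∈ B
      rw [show QuotientGroup.mk' K k = 1 from (QuotientGroup.eq_one_iff k).2 hk]
      exact B.one_mem
    have hMK : ∀ x ∈ M, ∃ j, x ^ q ^ j ∈ K := fun x hx => ⟨1, by
      rw [pow_one, ← QuotientGroup.eq_one_iff]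
      exact hx.2⟩
    obtain ⟨Q⟩ : Nonempty (Sylow q M) := inferInstance
    rcases key χ K hK M hKM hMK Q with h1 | h1
    · exact h1
    exfalso
    set Q' : Subgroup G := (Q : Subgroup M).map M.subtype with hQ'
    set C : Subgroup G := (Subgroup.normalizer (Q' : Set G)).normalCore with hC
    have hVC : V ≤ K ⊔ C := by
      refine Subgroup.normalClosure_le_normal ?_
      intro g hg
      have htop' : K ⊔ Subgroup.normalizer (Q' : Set G) = ⊤ := by
        rw [eq_top_iff, ← Sylow.normalizer_sup_eq_top Q]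
        refine sup_le le_sup_right fun x hx => ?_
        obtain ⟨u, v, huv, hv, hu, hux⟩ := parts_mem hMK hx
        rw [← huv]
        refine Subgroup.mul_mem _ ?_ (Subgroup.mem_sup_left hv)
        have huM : u ∈ M := Subgroup.zpowers_le.2 hx hux
        obtain ⟨j, hj⟩ := hu
        have hp1 : IsPGroup q (Subgroup.zpowers (⟨u, huM⟩ : M)) := IsPGroup.of_card (n := j)
          (by rw [Nat.card_zpowers, Subgroup.orderOf_mk, hj])
        obtain ⟨S, hS⟩ := hp1.exists_le_sylow
        obtain ⟨c, hc⟩ := MulAction.exists_smul_eq M Q S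
        have hu' : (⟨u, huM⟩ : M) ∈ (c • Q : Sylow q M) := hc ▸ hS (Subgroup.mem_zpowers _)
        obtain ⟨w, hw, hwu⟩ := Subgroup.mem_map.1 hu'
        have e : (c : G) * w * (c : G)⁻¹ = u := congrArg Subtype.val hwu
        rw [← e]
        have hwQ : (w : G) ∈ Q' := Subgroup.mem_map_of_mem M.subtype hw
        -- the commutator of two elements of `M` lies in `K`
        have hcw : (c : G) * w * (c : G)⁻¹ * (w : G)⁻¹ ∈ K := by
          rw [← QuotientGroup.eq_one_iff]
          show QuotientGroup.mk' K ((c : G) * w * (c : G)⁻¹ * (w : G)⁻¹) = 1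
          rw [map_mul, map_mul, map_mul, map_inv, map_inv, hAc _ c.2.1 _ w.2.1,
            mul_inv_cancel_right, mul_inv_cancel]
        rw [show (c : G) * w * (c : G)⁻¹ = ((c : G) * w * (c : G)⁻¹ * (w : G)⁻¹) * w by group]
        exact Subgroup.mul_mem _ (Subgroup.mem_sup_left hcw)
          (Subgroup.mem_sup_right (Subgroup.le_normalizer hwQ))
      obtain ⟨k, hk, u, hu, rfl⟩ := Subgroup.mem_sup_of_normal_left.1
        (htop' ▸ Subgroup.mem_top g)
      have hu0 : (χ : G → ℂ) u ≠ 0 := by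
        have hg' : (χ : G → ℂ) (k * u) ≠ 0 := hg
        rwa [IsCharacter.apply_mul_of_mem_ker (isCharacter_irr χ) ((hK k).1 hk) u] at hg'
      exact Subgroup.mul_mem _ (Subgroup.mem_sup_left hk)
        (Subgroup.mem_sup_right (fun x => h1 u hu hu0 x))
    have hMC : M ⊓ C ≤ K := by
      intro x hx
      obtain ⟨u, v, huv, hv, hu, hux⟩ := parts_mem hMK hx.1
      have huMC : u ∈ M ⊓ C := Subgroup.zpowers_le.2 hx hux
      set N := Subgroup.normalClosure ({u} : Set G) with hN
      have hNQ : N ≤ Q' := by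
        refine (Subgroup.closure_le _).2 ?_
        intro y hy
        obtain ⟨a, ha, hay⟩ := Group.mem_conjugatesOfSet_iff.1 hy
        rw [Set.mem_singleton_iff] at ha
        subst ha
        obtain ⟨c, rfl⟩ := isConj_iff.1 hay
        refine qelem Q (‹M.Normal›.conj_mem _ huMC.1 c)
          (Subgroup.normalCore_le _ ((Subgroup.normalCore_normal _).conj_mem _ huMC.2 c)) ?_
        obtain ⟨j, hj⟩ := hu
        exact ⟨j, by rw [show c * a * c⁻¹ = MulAut.conj c a from rfl, MulEquiv.orderOf_eq, hj]⟩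
      have hNp : IsPGroup q N := (Q.isPGroup'.map M.subtype).to_le hNQ
      rw [← huv]
      refine K.mul_mem ?_ hv
      rw [hKF]
      exact CfsgLib.Solvable.Cores.le_fittingSubgroup hNp.isNilpotent
        (Subgroup.subset_normalClosure (Set.mem_singleton u))
    -- `M` lies in the support, hence in `K`
    have hMV : M ≤ K ⊔ V := by
      intro x hx
      obtain ⟨v, hv, hvx⟩ := Subgroup.mem_map.1 (hAD hx.1)
      have : x * v⁻¹ ∈ K := (QuotientGroup.eq_one_iff _).1 (by
        show QuotientGroup.mk' K (x * v⁻¹) = 1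
        rw [map_mul, map_inv, hvx, mul_inv_cancel])
      rw [show x = (x * v⁻¹) * v by group]
      exact Subgroup.mul_mem _ (Subgroup.mem_sup_left this) (Subgroup.mem_sup_right hv)
    have hMle : M ≤ K := by
      intro x hx
      obtain ⟨k, hk, c, hc, rfl⟩ := Subgroup.mem_sup_of_normal_left.1
        ((sup_le le_sup_left hVC) (hMV hx))
      refine K.mul_mem hk (hMC ⟨?_, hc⟩)
      simpa using M.mul_mem (M.inv_mem (hKM hk)) hx
    obtain ⟨g, hg⟩ := QuotientGroup.mk'_surjective K (a₀ : G ⧸ K)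
    have hgM : g ∈ M := by
      show QuotientGroup.mk' K g ∈ B
      rw [hg]
      refine ⟨a₀.2, ?_⟩
      rw [← ha₀, ← Subgroup.orderOf_coe]
      exact pow_orderOf_eq_one _
    have h2 : a₀ = 1 := Subtype.ext (hg.symm.trans ((QuotientGroup.eq_one_iff g).2 (hMle hgM)))
    rw [h2, orderOf_one] at ha₀
    exact hq.ne_one ha₀.symm

end Cfsg.Agent.S4461
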