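import Cfsg.Statements.S2981
import Cfsg.Agent.Lib.LocalEven.MovesFixed.LocalCStar

set_option autoImplicit false
open Cfsg CfsgLib.LocalEven.RankOneFF CfsgLib.LocalEven.SylowIn CfsgLib.LocalEven.MovesFixed
open scoped IsMulCommutative commutatorElement

namespace Cfsg.Agent.S2981

/-- The local C**(G,T)-Theorem for minimal parabolic groups. Let G be a finite p-minimal group (a Sylow p-subgroup T is not normal and lies in exactly one maximal subgroup) of characteristic p (C_G(O_p(G)) ≤ O_p(G)), and suppose G ≠ C**(G,T), the subgroup generated by C_G(Ω₁(Z(T))) and N_G(J(T)) (J(T) generated by the elementary abelian p-subgroups of T of largest order). Put V = Ω₁(Z(O_p(G))) and C = C_G(V). Then there are subgroups E₁, …, E_r of G containing C such that: J(G)TC = G and the E_i C/C form an internal direct product equal to J(G)C/C; any two of the E_i are conjugate by an element of T; V = C_V(⟨E_i⟩)·∏[V, E_i] with [V, E_i, E_j] = 1 for i ≠ j; for some n ≥ 1,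 each E_i/C is isomorphic to SL₂(pⁿ), or p = 2 and to the symmetric group of degree 2ⁿ + 1; and E_i acts on [V, E_i]/C_{[V,E_i]}(E_i) as the natural two-dimensional SL₂(pⁿ)-module, respectively as the symmetric group of degree 2ⁿ+1 on its even-weight permutation module. -/
theorem result {G : Type*} [Group G] [Finite G] {p : ℕ} [Fact p.Prime] (hmin : Cfsg.IsPMinimal p G) (hG : Subgroup.centralizer (Cfsg.pCore p G : Set G) ≤ Cfsg.pCore p G) (T : Sylow p G) (hne : Cfsg.cStarStarOf p (T : Subgroup G) ≠ ⊤) : ∃ (r : ℕ) (E : Fin r → Subgroup G), (∀ i, Subgroup.centralizer (Cfsg.omegaOneCenter p (Cfsg.pCore p G) : Set G) ≤ E i) ∧ Cfsg.thompsonSubgroup p G ⊔ (T : Subgroup G) ⊔ Subgroup.centralizer (Cfsg.omegaOneCenter p (Cfsg.pCore p G) : Set G) = ⊤ ∧ (⨆ i, E i) = Cfsg.thompsonSubgroup p G ⊔ Subgroup.centralizer (Cfsg.omegaOneCenter p (Cfsg.pCore p G) : Set G) ∧ (∀ i j, i ≠ j → ⁅E i, E j⁆ ≤ Subgroup.centralizer (Cfsg.omegaOneCenter p (Cfsg.pCore p G) : Set G))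 ∧ (∀ i, E i ⊓ (⨆ j ∈ {j | j ≠ i}, E j) ≤ Subgroup.centralizer (Cfsg.omegaOneCenter p (Cfsg.pCore p G) : Set G)) ∧ (∀ i j, ∃ t ∈ (T : Subgroup G), (E i).map (MulAut.conj t).toMonoidHom = E j) ∧ (Cfsg.omegaOneCenter p (Cfsg.pCore p G) ⊓ Subgroup.centralizer ((⨆ i, E i : Subgroup G) : Set G)) ⊔ (⨆ i, ⁅Cfsg.omegaOneCenter p (Cfsg.pCore p G), E i⁆) = Cfsg.omegaOneCenter p (Cfsg.pCore p G) ∧ (∀ i j, i ≠ j → ⁅⁅Cfsg.omegaOneCenter p (Cfsg.pCore p G), E i⁆, E j⁆ = ⊥) ∧ ∀ i, ∃ n : ℕ, 1 ≤ n ∧ ((∃ (F : Type) (_ : Field F) (_ : Fintype F), Fintype.card F = p ^ n ∧ (∃ _ : ((Subgroup.centralizer (Cfsg.omegaOneCenter p (Cfsg.pCore p G) : Set G)).subgroupOf (E i)).Normal, Nonempty (↥(E i) ⧸ (Subgroup.centralizer (Cfsg.omegaOneCenter p (Cfsg.pCore p G) : Set G)).subgroupOf (E i) ≃* Matrix.SpecialLinearGroup (Fin 2) F)) ∧ Cfsg.ActsAsSL2OnSection F ⊤ (E i) ⁅Cfsg.omegaOneCenter p (Cfsg.pCore p G), E i⁆ (⁅Cfsg.omegaOneCenter p (Cfsg.pCore p G), E i⁆ ⊓ Subgroup.centralizer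 ((E i : Subgroup G) : Set G))) ∨ (p = 2 ∧ (∃ _ : ((Subgroup.centralizer (Cfsg.omegaOneCenter p (Cfsg.pCore p G) : Set G)).subgroupOf (E i)).Normal, Nonempty (↥(E i) ⧸ (Subgroup.centralizer (Cfsg.omegaOneCenter p (Cfsg.pCore p G) : Set G)).subgroupOf (E i) ≃* Equiv.Perm (Fin (2 ^ n + 1)))) ∧ Cfsg.ActsAsOddPermModuleOnSection (2 ^ n + 1) ⊤ (E i) ⁅Cfsg.omegaOneCenter p (Cfsg.pCore p G), E i⁆ (⁅Cfsg.omegaOneCenter p (Cfsg.pCore p G), E i⁆ ⊓ Subgroup.centralizer ((E i : Subgroup G) : Set G)))) := by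
  classical
  haveI := Cp_normal (p := p) (G := G)
  haveI := (omc_isEA (p := p) (pCore p G)).1
  haveI hVn := Vp_normal (p := p) (G := G)
  obtain ⟨ρ, r, E, hS⟩ := exists_cStarFamily hmin hG T hne
  set V := Vp p G with hV
  set C := Cp p G with hC
  set π := QuotientGroup.mk' C with hπdef
  have hπ : Function.Surjective π := QuotientGroup.mk'_surjective C
  have hker : π.ker = C := QuotientGroup.ker_mk' C
  have hF := hS.family
  set L : Fin r → Subgroup G := fun i => (E i).comap π with hL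
  have hCL : ∀ i, C ≤ L i := fun i x hx => Subgroup.mem_comap.2 (by
    rw [show π x = 1 from (QuotientGroup.eq_one_iff x).2 hx]
    exact one_mem _)
  have hmapL : ∀ i, (L i).map π = E i := fun i => Subgroup.map_comap_eq_self_of_surjective hπ (E i)
  have hsupL : (⨆ i, L i) = thompsonSubgroup p G ⊔ C := by
    have h1 : C ≤ ⨆ i, L i := (hCL ⟨0, hS.pos⟩).trans (le_iSup L _)
    refine le_antisymm (iSup_le fun i => ?_) (sup_le (fun x hx => ?_) h1)
    · have h2 : L i ≤ ((thompsonSubgroup p G).map π).comap π :=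
        Subgroup.comap_mono (hS.image ▸ le_iSup E i)
      rwa [Subgroup.comap_map_eq, hker] at h2
    · have h2 : π x ∈ (⨆ i, L i).map π := by
        rw [Subgroup.map_iSup]
        simp only [hmapL]
        rw [← hS.image]
        exact Subgroup.mem_map_of_mem π hx
      obtain ⟨y, hy, he⟩ := h2
      have := mul_mem hy (h1 (QuotientGroup.eq.1 he))
      rwa [mul_inv_cancel_left] at this
  have hact : ∀ (g : G) (v : Additive V), ((Additive.toMul (ρ (π g) v) : V) : G) =
      g * ((Additive.toMul v : V) : G) * g⁻¹ := hS.act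
  have hfix : ∀ (X : Subgroup G) (v : Additive V),
      v ∈ fx ρ (X.map π) ↔ ((Additive.toMul v : V) : G) ∈ Subgroup.centralizer (X : Set G) := fun X v => by
    rw [mem_fx, Subgroup.mem_centralizer_iff]
    constructor
    · intro h x hx
      have := hact x v
      rw [h _ (Subgroup.mem_map_of_mem π hx)] at this
      exact mul_inv_eq_iff_eq_mul.1 this.symm
    · rintro h _ ⟨x, hx, rfl⟩
      refine Additive.toMul.injective (Subtype.ext ?_)
      rw [hact, h x hx, mul_inv_cancel_right]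
  have hcomm : ∀ (g : G) (v : Additive V),
      ((Additive.toMul (ρ (π g) v - v) : V) : G) = ⁅g, ((Additive.toMul v : V) : G)⁆ := fun g v => by
    rw [toMul_sub, Subgroup.coe_div, hact, commutatorElement_def, div_eq_mul_inv]
  have hUV : ∀ i, ⁅V, L i⁆ ≤ V := fun i => Subgroup.commutator_le.2 fun v hv e _ => by
    rw [commutatorElement_def, show v * e * v⁻¹ * e⁻¹ = v * (e * v⁻¹ * e⁻¹) by group]
    exact mul_mem hv (hVn.conj_mem _ (inv_mem hv) e)
  have hcs : ∀ i, ∀ u ∈ commSub ρ (E i), ((Additive.toMul u : V) : G) ∈ ⁅V, L i⁆ := by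
    intro i u hu
    induction hu using AddSubgroup.closure_induction with
    | mem u hu =>
      obtain ⟨x, hx, v, rfl⟩ := hu
      obtain ⟨g, rfl⟩ := hπ x
      rw [hcomm, Subgroup.commutator_comm]
      exact Subgroup.commutator_mem_commutator hx (Additive.toMul v).2
    | zero => exact one_mem _
    | add u w _ _ hu hw => rw [toMul_add, Subgroup.coe_mul]; exact mul_mem hu hw
    | neg u _ hu => rw [toMul_neg, Subgroup.coe_inv]; exact inv_mem hu
  refine ⟨r, L, hCL, ?_, hsupL, fun i j hij => ?_, fun i => ?_, fun i j => ?_, ?_, fun i j hij => ?_, fun i => ?_⟩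
  · refine eq_top_iff.2 fun x _ => ?_
    have h1 : π x ∈ (thompsonSubgroup p G ⊔ (T : Subgroup G)).map π := by
      rw [Subgroup.map_sup, hS.image, ← Sylow.coe_mapSurjective hπ, hF.top]
      exact Subgroup.mem_top _
    obtain ⟨y, hy, he⟩ := h1
    have := mul_mem (Subgroup.mem_sup_left (T := C) hy) (Subgroup.mem_sup_right (QuotientGroup.eq.1 he))
    rwa [mul_inv_cancel_left] at this
  · rw [Subgroup.commutator_le]
    intro x hx y hy
    refine (QuotientGroup.eq_one_iff _).1 ?_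
    show π ⁅x, y⁆ = 1
    rw [map_commutatorElement, commutatorElement_eq_one_iff_mul_comm]
    exact hF.comm i j hij _ hx _ hy
  · intro x hx
    obtain ⟨hx1, hx2⟩ := Subgroup.mem_inf.1 hx
    refine (QuotientGroup.eq_one_iff x).1 ((Subgroup.mem_bot).1 ?_)
    rw [← hF.inf i]
    refine Subgroup.mem_inf.2 ⟨hx1, ?_⟩
    refine (iSup_le fun j => iSup_le fun hj => ?_ :
      (⨆ j ∈ {j | j ≠ i}, L j) ≤ (⨆ j ∈ {j | j ≠ i}, E j).comap π) hx2
    exact Subgroup.comap_mono (le_iSup_of_le j (le_iSup_of_le hj le_rfl))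
  · obtain ⟨t', ht', he⟩ := hF.conj i j
    obtain ⟨t, ht, rfl⟩ : t' ∈ (T : Subgroup G).map π := ht'
    refine ⟨t, ht, Subgroup.ext fun x => ?_⟩
    show x ∈ CfsgLib.LocalEven.RankOneFF.cj t (L i) ↔ π x ∈ E j
    rw [mem_cj, ← he, mem_cj, hL, Subgroup.mem_comap, map_mul, map_mul, map_inv]
  · refine le_antisymm (sup_le inf_le_left (iSup_le hUV)) fun v hv => ?_
    set R := (V ⊓ Subgroup.centralizer ((⨆ i, L i : Subgroup G) : Set G)) ⊔ ⨆ i, ⁅V, L i⁆
    let S : AddSubgroup (Additive V) :=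
      { carrier := {w | ((Additive.toMul w : V) : G) ∈ R}
        zero_mem' := one_mem R
        add_mem' := fun {a b} ha hb => by
          show ((Additive.toMul (a + b) : V) : G) ∈ R
          rw [toMul_add, Subgroup.coe_mul]
          exact mul_mem ha hb
        neg_mem' := fun {a} ha => by
          show ((Additive.toMul (-a) : V) : G) ∈ R
          rw [toMul_neg, Subgroup.coe_inv]
          exact inv_mem ha }
    have hle : fx ρ (⨆ i, E i) ⊔ ⨆ i, commSub ρ (E i) ≤ S := by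
      refine sup_le (fun w hw => Subgroup.mem_sup_left (Subgroup.mem_inf.2 ⟨(Additive.toMul w).2,
        (hfix _ w).1 ?_⟩)) (iSup_le fun i u hu => Subgroup.mem_sup_right (Subgroup.mem_iSup_of_mem i (hcs i u hu)))
      rw [Subgroup.map_iSup]
      simpa only [hmapL] using hw
    exact hle (hF.dec (Additive.ofMul (⟨v, hv⟩ : V)))
  · rw [Subgroup.commutator_eq_bot_iff_le_centralizer, Subgroup.commutator_le]
    intro v hv g hg
    refine Subgroup.mem_centralizer_iff.2 fun y hy => ?_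
    have h1 := hF.fixed i j hij _ hg _ hy (Additive.ofMul (⟨v, hv⟩ : V))
    have h2 := hact y (ρ (π g) (Additive.ofMul (⟨v, hv⟩ : V)) - Additive.ofMul (⟨v, hv⟩ : V))
    rw [h1, hcomm] at h2
    have h3 : Commute y ⁅g, v⁆ := (mul_inv_eq_iff_eq_mul.1 h2.symm)
    rw [← commutatorElement_inv g v]
    exact h3.inv_right
  obtain ⟨n, hn, hmodel⟩ := hF.model i
  have hnorm : L i ≤ Subgroup.normalizer ((⁅V, L i⁆ : Subgroup G) : Set G) := le_normalizer_of_map_conj fun e he => by
    rw [Subgroup.map_commutator, map_conj_eq_iff.2 (Subgroup.normalizer_eq_top_iff.2 hVn ▸ Subgroup.mem_top e),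
      map_conj_eq_iff.2 (Subgroup.le_normalizer he)]
  let πi : L i →* E i := π.subgroupComap (E i)
  have hπi : Function.Surjective πi := π.subgroupComap_surjective_of_surjective (E i) hπ
  have hkerφ : ∀ {M : Type} [Group M] (φ : E i →* M), Function.Bijective φ →
      (φ.comp πi).ker = C.subgroupOf (L i) := fun φ hφ => by
    ext x
    rw [MonoidHom.mem_ker, Subgroup.mem_subgroupOf, MonoidHom.comp_apply, ← map_one φ, hφ.1.eq_iff, Subtype.ext_iff]
    exact QuotientGroup.eq_one_iff (x : G)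
  haveI hnorm' : (C.subgroupOf (L i)).Normal := Subgroup.Normal.subgroupOf ‹C.Normal› (L i)
  have hfixi : ∀ w : Additive V, w ∈ fx ρ (E i) ↔
      ((Additive.toMul w : V) : G) ∈ Subgroup.centralizer (L i : Set G) := fun w => by
    rw [← hfix, hmapL]
  refine ⟨n, hn, hmodel.imp ?_ ?_⟩
  · rintro ⟨F, iF, iFF, hcard, φ, ψ, hφ, hψ, hψ0, hψe⟩
    have hsurj : Function.Surjective (φ.comp πi) := hφ.2.comp hπi
    refine ⟨F, iF, iFF, hcard, ⟨hnorm', ⟨(QuotientGroup.quotientMulEquivOfEq (hkerφ φ hφ).symm).trans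
      (QuotientGroup.quotientKerEquivOfSurjective _ hsurj)⟩⟩, hnorm, inf_le_left, φ.comp πi,
      (AddMonoidHom.toMultiplicativeRight ψ).comp (Subgroup.inclusion (hUV i)),
      MonoidHom.range_eq_top.2 hsurj, fun c => ?_, fun u => ?_, fun e u => ?_⟩
    · obtain ⟨v, hv⟩ := hψ (Multiplicative.toAdd c)
      obtain ⟨u, hu, hd⟩ := hF.split i v
      refine ⟨⟨_, hcs i u hu⟩, ?_⟩
      refine congrArg Multiplicative.ofAdd (?_ : ψ u = Multiplicative.toAdd c)
      rw [← hv, eq_comm, ← sub_eq_zero, ← map_sub, hψ0]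
      exact hd
    · constructor
      · exact fun h => ⟨u.2, (hfixi (Additive.ofMul (Subgroup.inclusion (hUV i) u))).1
          ((hψ0 _).1 (congrArg Multiplicative.toAdd h))⟩
      · exact fun h => congrArg Multiplicative.ofAdd
          ((hψ0 (Additive.ofMul (Subgroup.inclusion (hUV i) u))).2 ((hfixi _).2 h.2))
    · refine ⟨⟨(e : G) * u * (e : G)⁻¹, (Subgroup.mem_normalizer_iff.1 (hnorm e.2) _).1 u.2⟩, rfl, ?_⟩
      refine Eq.trans ?_ (hψe (πi e) (Additive.ofMul (Subgroup.inclusion (hUV i) u)))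
      refine congrArg ψ (Additive.toMul.injective (Subtype.ext ?_))
      exact (hact (e : G) (Additive.ofMul (Subgroup.inclusion (hUV i) u))).symm
  · rintro ⟨hp2, φ, ψ, hφ, hψs, hψ, hψ0, hψe⟩
    have hsurj : Function.Surjective (φ.comp πi) := hφ.2.comp hπi
    refine ⟨hp2, ⟨hnorm', ⟨(QuotientGroup.quotientMulEquivOfEq (hkerφ φ hφ).symm).trans
      (QuotientGroup.quotientKerEquivOfSurjective _ hsurj)⟩⟩, hnorm, inf_le_left, φ.comp πi,
      (AddMonoidHom.toMultiplicativeRight ψ).comp (Subgroup.inclusion (hUV i)),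
      MonoidHom.range_eq_top.2 hsurj, fun u => hψs _, fun c hc => ?_, fun u => ?_, fun e u => ?_⟩
    · obtain ⟨v, hv⟩ := hψ c hc
      obtain ⟨u, hu, hd⟩ := hF.split i v
      refine ⟨⟨_, hcs i u hu⟩, (?_ : ψ u = c)⟩
      rw [← hv, eq_comm, ← sub_eq_zero, ← map_sub, hψ0]
      exact hd
    · constructor
      · exact fun h => ⟨u.2, (hfixi (Additive.ofMul (Subgroup.inclusion (hUV i) u))).1
          ((hψ0 _).1 (congrArg Multiplicative.toAdd h))⟩
      · exact fun h => congrArg Multiplicative.ofAdd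
          ((hψ0 (Additive.ofMul (Subgroup.inclusion (hUV i) u))).2 ((hfixi _).2 h.2))
    · refine ⟨⟨(e : G) * u * (e : G)⁻¹, (Subgroup.mem_normalizer_iff.1 (hnorm e.2) _).1 u.2⟩, rfl, fun j => ?_⟩
      refine Eq.trans ?_ (hψe (πi e) (Additive.ofMul (Subgroup.inclusion (hUV i) u)) j)
      refine congrArg (fun w => ψ w j) (Additive.toMul.injective (Subtype.ext ?_))
      exact (hact (e : G) (Additive.ofMul (Subgroup.inclusion (hUV i) u))).symm

end Cfsg.Agent.S2981
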