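import Cfsg.Statements.S0107
import Cfsg.Agent.Lib.Fusion.ThompsonTransfer

set_option autoImplicit false
open Cfsg
open scoped commutatorElement

namespace Cfsg.Agent.S0107

/-- A finite group with no nontrivial 2-group quotient and dihedral Sylow 2-subgroups of order at least 8 has a single class of involutions. -/
theorem result {G : Type*} [Group G] [Finite G] (T : Sylow 2 G) (n : ℕ) (hn : 2 ≤ n) (hT : Nonempty ((T : Subgroup G) ≃* DihedralGroup (2 ^ n))) (hO : Cfsg.pResidual 2 G = ⊤) (x y : G) (hx : orderOf x = 2) (hy : orderOf y = 2) : ∃ g : G, g * x * g⁻¹ = y := by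
  -- every involution is conjugate to the involution in the cyclic maximal subgroup
  obtain ⟨e⟩ := hT
  set m := 2 ^ n with hm
  have hm0 : 0 < m := Nat.two_pow_pos n
  haveI : NeZero m := ⟨hm0.ne'⟩
  have hnoM : ¬ ∃ M : Subgroup G, M.Normal ∧ M.index = 2 := by
    rintro ⟨M, hMn, hM⟩
    have h1 : Cfsg.pResidual 2 G ≤ M :=
      CfsgLib.Fusion.Basic.pResidual_le_of_index_eq_pow (k := 1) (by simpa using hM)
    rw [hO, top_le_iff] at h1
    rw [h1, Subgroup.index_top] at hM
    exact absurd hM (by norm_num)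
  let C : Subgroup (DihedralGroup m) := Subgroup.zpowers (DihedralGroup.r 1)
  let Q : Subgroup G := (C.comap e.toMonoidHom).map (T : Subgroup G).subtype
  have hCi : C.index = 2 := by
    have h1 := C.card_mul_index
    rw [Nat.card_zpowers, DihedralGroup.orderOf_r_one, DihedralGroup.nat_card, mul_comm 2] at h1
    exact Nat.eq_of_mul_eq_mul_left hm0 h1
  have hQi : Q.relIndex (T : Subgroup G) = 2 := by
    rw [Subgroup.relIndex, Subgroup.subgroupOf,
      Subgroup.comap_map_eq_self_of_injective (Subgroup.subtype_injective _),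
      Subgroup.index_comap_of_surjective _ e.surjective, hCi]
  let c : G := ((e.symm (DihedralGroup.r ((2 ^ (n - 1) : ℕ) : ZMod m)) : (T : Subgroup G)) : G)
  have hinv : ∀ x : (T : Subgroup G), x ^ 2 = 1 → x ≠ 1 → (x : G) ∈ Q → (x : G) = c := by
    rintro x hx2 hx1 ⟨x', hx'C, hxx⟩
    obtain rfl : x' = x := Subtype.ext hxx
    obtain ⟨k, hk : DihedralGroup.r 1 ^ k = e x'⟩ := Subgroup.mem_zpowers_iff.mp hx'C
    rw [DihedralGroup.r_one_zpow] at hk
    have h2 : ((k : ZMod m)) * 2 = 0 := by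
      have h : (e x') ^ 2 = 1 := by rw [← map_pow, hx2, map_one]
      rw [← hk, DihedralGroup.r_pow, DihedralGroup.one_def] at h
      have h' := DihedralGroup.r.inj h
      simpa using h'
    have hk0 : (k : ZMod m) ≠ 0 := fun h0 => hx1 (e.injective (by rw [← hk, h0, map_one]; rfl))
    have hval : (k : ZMod m) = ((2 ^ (n - 1) : ℕ) : ZMod m) := by
      have h3 : m ∣ (k : ZMod m).val * 2 := by
        rw [← ZMod.natCast_eq_zero_iff, Nat.cast_mul, ZMod.natCast_zmod_val]
        exact_mod_cast h2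
      have hlt : (k : ZMod m).val < m := ZMod.val_lt _
      have hpos : 0 < (k : ZMod m).val := Nat.pos_of_ne_zero fun h0 => hk0 ((ZMod.val_eq_zero _).mp h0)
      obtain ⟨q, hq⟩ := h3
      have hq1 : q = 1 := by
        rcases q with _ | _ | q
        · omega
        · rfl
        · nlinarith
      subst hq1
      have hmm : m = 2 * 2 ^ (n - 1) := by rw [hm, ← pow_succ']; congr 1; omega
      rw [← ZMod.natCast_zmod_val (k : ZMod m)]
      congr 1
      omega
    show ((x' : (T : Subgroup G)) : G) = c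
    rw [show x' = e.symm (e x') from (e.symm_apply_apply x').symm, ← hk, hval]
  have key : ∀ u : G, orderOf u = 2 → ∃ g : G, g * u * g⁻¹ = c := by
    intro u hu
    have hup : IsPGroup 2 (Subgroup.zpowers u) :=
      IsPGroup.of_card (n := 1) (by rw [Nat.card_zpowers, hu, pow_one])
    obtain ⟨S, hS⟩ := hup.exists_le_sylow
    obtain ⟨d, hd⟩ := MulAction.exists_smul_eq G S T
    have hu' : d * u * d⁻¹ ∈ (T : Subgroup G) := by
      rw [← hd]; exact ⟨u, hS (Subgroup.mem_zpowers u), rfl⟩
    have ho : orderOf (d * u * d⁻¹) = 2 := by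
      rw [← hu]
      exact orderOf_injective (MulAut.conj d).toMonoidHom (MulAut.conj d).injective u
    obtain ⟨f, hf⟩ : ∃ f : G, f * (d * u * d⁻¹) * f⁻¹ ∈ Q := by
      by_cases hq : d * u * d⁻¹ ∈ Q
      · exact ⟨1, by simpa using hq⟩
      · rcases CfsgLib.Fusion.ThompsonTransfer.thompson_transfer T Q (Subgroup.map_subtype_le _) hQi
          (d * u * d⁻¹) (ho ▸ pow_orderOf_eq_one _) hu' hq with ⟨M, h1, h2, -⟩ | h
        · exact absurd ⟨M, h1, h2⟩ hnoM
        · exact h
    refine ⟨f * d, ?_⟩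
    have ho2 : orderOf (f * (d * u * d⁻¹) * f⁻¹) = 2 := by
      rw [← ho]
      exact orderOf_injective (MulAut.conj f).toMonoidHom (MulAut.conj f).injective _
    have h5 := hinv ⟨_, Subgroup.map_subtype_le _ hf⟩ (Subtype.ext (orderOf_dvd_iff_pow_eq_one.mp ho2.dvd))
      (fun h => by
        rw [show f * (d * u * d⁻¹) * f⁻¹ = 1 from congrArg Subtype.val h, orderOf_one] at ho2
        exact absurd ho2 (by norm_num)) hf
    rw [← h5]
    show f * d * u * (f * d)⁻¹ = f * (d * u * d⁻¹) * f⁻¹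
    group
  obtain ⟨a, ha⟩ := key x hx
  obtain ⟨b, hb⟩ := key y hy
  refine ⟨b⁻¹ * a, ?_⟩
  calc b⁻¹ * a * x * (b⁻¹ * a)⁻¹ = b⁻¹ * (a * x * a⁻¹) * b := by group
    _ = y := by rw [ha, ← hb]; group


end Cfsg.Agent.S0107
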