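import Cfsg.Statements.S0514
import Mathlib
import Cfsg.Agent.S0071

set_option autoImplicit false
open Cfsg

namespace Cfsg.Agent.S0514

variable {X : Type*} [Group X] [Finite X]

/-- An element of odd order centralizing a subgroup `C` of 2-elements and mapping `x` into `x C` fixes `x`. -/
theorem fix_of_coset {C : Subgroup X} (hC : IsPGroup 2 C) {g x : X} (ho : (orderOf g).Coprime 2)
    (hgC : ∀ c ∈ C, g * c * g⁻¹ = c) (hx : x⁻¹ * (g * x * g⁻¹) ∈ C) : g * x * g⁻¹ = x := by
  set c := x⁻¹ * (g * x * g⁻¹) with hc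
  have hpow : ∀ n : ℕ, g ^ n * x * (g ^ n)⁻¹ = x * c ^ n := by
    intro n
    induction n with
    | zero => simp
    | succ n ih =>
      calc g ^ (n + 1) * x * (g ^ (n + 1))⁻¹ = g * (g ^ n * x * (g ^ n)⁻¹) * g⁻¹ := by rw [pow_succ']; group
        _ = g * x * g⁻¹ * (g * c ^ n * g⁻¹) := by rw [ih]; group
        _ = x * c * c ^ n := by rw [hgC _ (pow_mem hx n), hc]; group
        _ = x * c ^ (n + 1) := by rw [pow_succ']; group
  have h1 := hpow (orderOf g)
  rw [pow_orderOf_eq_one, one_mul, inv_one, mul_one, left_eq_mul] at h1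
  obtain ⟨k, hk⟩ := hC ⟨c, hx⟩
  have h2 : c ^ 2 ^ k = 1 := congrArg Subtype.val hk
  have h3 : orderOf c = 1 := Nat.eq_one_of_dvd_coprimes ((Nat.Coprime.pow_right k ho))
    (orderOf_dvd_of_pow_eq_one h1) (orderOf_dvd_of_pow_eq_one h2)
  rw [orderOf_eq_one_iff, hc, inv_mul_eq_one] at h3
  exact h3.symm

/-- An element of odd order normalizing a cyclic 2-subgroup centralizes it. -/
theorem fix_cyclic {C : Subgroup X} (hC : IsPGroup 2 C) (hcy : IsCyclic C) {g : X} (ho : (orderOf g).Coprime 2)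
    (hg : g ∈ Subgroup.normalizer (C : Set X)) : ∀ c ∈ C, g * c * g⁻¹ = c := by
  haveI : Fact (Nat.Prime 2) := ⟨Nat.prime_two⟩
  let φ : Subgroup.normalizer (C : Set X) →* MulAut C := Subgroup.normalizerMonoidHom C
  obtain ⟨k, hk⟩ := IsPGroup.iff_card.mp hC
  have h1 : orderOf (φ ⟨g, hg⟩) ∣ orderOf g := by
    have h := orderOf_map_dvd φ ⟨g, hg⟩
    rwa [Subgroup.orderOf_mk] at h
  have hone : φ ⟨g, hg⟩ = 1 := by
    refine orderOf_eq_one_iff.mp ?_
    rcases Nat.eq_zero_or_pos k with hk0 | hk0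
    · haveI : Subsingleton C := (Nat.card_eq_one_iff_unique.mp (by rw [hk, hk0, pow_zero])).1
      rw [orderOf_eq_one_iff]
      exact MulEquiv.ext fun c => Subsingleton.elim _ _
    · have h2 : orderOf (φ ⟨g, hg⟩) ∣ Nat.card (MulAut C) := orderOf_dvd_natCard _
      rw [IsCyclic.card_mulAut, hk, Nat.totient_prime_pow Nat.prime_two hk0] at h2
      simp only [show 2 - 1 = 1 from rfl, mul_one] at h2
      exact Nat.eq_one_of_dvd_coprimes (Nat.Coprime.pow_right _ ho) h1 h2
  intro c hc
  have h3 := congrArg Subtype.val (DFunLike.congr_fun hone ⟨c, hc⟩)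
  simpa [φ] using h3

/-- In a finite group whose Sylow 2-subgroups are dihedral of order at least 4, the centralizer of any involution has a
normal subgroup of odd order whose index in the centralizer is a power of 2. -/
theorem result {X : Type*} [Group X] [Finite X]
    (S : Sylow 2 X) (n : ℕ) (hn : 2 ≤ n) (hS : Nonempty ((S : Subgroup X) ≃* DihedralGroup n)) (t : X)
    (ht : orderOf t = 2) :
    ∃ N : Subgroup (Subgroup.centralizer ({t} : Set X)), N.Normal ∧ Odd (Nat.card N) ∧ ∃ k : ℕ, N.index = 2 ^ k := by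
  classical
  haveI : Fact (Nat.Prime 2) := ⟨Nat.prime_two⟩
  haveI : NeZero n := ⟨by omega⟩
  obtain ⟨e⟩ := hS
  set H := Subgroup.centralizer ({t} : Set X) with hH
  obtain ⟨R⟩ := (inferInstance : Nonempty (Sylow 2 H))
  have hRp : IsPGroup 2 ((R : Subgroup H).map H.subtype) := R.2.map _
  obtain ⟨S', hS'⟩ := hRp.exists_le_sylow
  obtain ⟨x, hxS⟩ := MulAction.exists_smul_eq X S' S
  let f : (S' : Subgroup X) →* DihedralGroup n :=
    e.toMonoidHom.comp ((Sylow.equivSMul S' x).trans (MulEquiv.subgroupCongr (by rw [hxS]))).toMonoidHom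
  have hf : Function.Injective f := (e.injective.comp (MulEquiv.injective _))
  set C₀ : Subgroup X := ((Subgroup.zpowers (DihedralGroup.r (1 : ZMod n))).comap f).map (S' : Subgroup X).subtype
    with hC₀
  have hC₀cyc : ∀ D : Subgroup X, D ≤ C₀ → IsCyclic D := by
    intro D hD
    have h1 : IsCyclic ((Subgroup.zpowers (DihedralGroup.r (1 : ZMod n))).comap f) :=
      isCyclic_of_injective (f.subgroupComap _) (fun a b hab => Subtype.ext (hf (congrArg Subtype.val hab)))
    haveI : IsCyclic C₀ := (Subgroup.equivMapOfInjective _ (S' : Subgroup X).subtype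
      (Subgroup.subtype_injective _)).isCyclic.mp h1
    exact isCyclic_of_injective (Subgroup.inclusion hD) (Subgroup.inclusion_injective hD)
  have hsq : ∀ a ∈ (S' : Subgroup X), a ∉ C₀ → a * a = 1 := by
    intro a ha ha'
    have h1 : f ⟨a, ha⟩ * f ⟨a, ha⟩ = 1 := by
      rcases hfa : f ⟨a, ha⟩ with i | i
      · refine absurd ⟨⟨a, ha⟩, ?_, rfl⟩ ha'
        show f ⟨a, ha⟩ ∈ Subgroup.zpowers (DihedralGroup.r (1 : ZMod n))
        rw [hfa, Subgroup.mem_zpowers_iff]
        exact ⟨i.val, by rw [zpow_natCast, DihedralGroup.r_one_pow, ZMod.natCast_zmod_val]⟩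
      · simp
    rw [← map_mul, ← map_one f] at h1
    exact congrArg Subtype.val (hf h1)
  have hidx : ∀ a ∈ (S' : Subgroup X), a ∉ C₀ → ∀ b ∈ (S' : Subgroup X), b ∉ C₀ → a⁻¹ * b ∈ C₀ := by
    intro a ha ha' b hb hb'
    refine ⟨⟨a, ha⟩⁻¹ * ⟨b, hb⟩, ?_, rfl⟩
    show f _ ∈ Subgroup.zpowers (DihedralGroup.r (1 : ZMod n))
    have hout : ∀ {c} (hc : c ∈ (S' : Subgroup X)), c ∉ C₀ → ∃ i, f ⟨c, hc⟩ = DihedralGroup.sr i := by
      intro c hc hc'
      rcases hfc : f ⟨c, hc⟩ with i | i
      · refine absurd ⟨⟨c, hc⟩, ?_, rfl⟩ hc'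
        show f ⟨c, hc⟩ ∈ Subgroup.zpowers (DihedralGroup.r (1 : ZMod n))
        rw [hfc, Subgroup.mem_zpowers_iff]
        exact ⟨i.val, by rw [zpow_natCast, DihedralGroup.r_one_pow, ZMod.natCast_zmod_val]⟩
      · exact ⟨i, rfl⟩
    obtain ⟨i, hi⟩ := hout ha ha'
    obtain ⟨j, hj⟩ := hout hb hb'
    rw [map_mul, map_inv, hi, hj, Subgroup.mem_zpowers_iff]
    exact ⟨((j - i).val : ℕ), by
      rw [zpow_natCast, DihedralGroup.r_one_pow, ZMod.natCast_zmod_val]; simp⟩
  have htS' : t ∈ (S' : Subgroup X) := by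
    -- `t` is a central 2-element of `H`
    let t' : H := ⟨t, Subgroup.mem_centralizer_singleton_iff.mpr rfl⟩
    have hT : IsPGroup 2 (Subgroup.zpowers t') := IsPGroup.of_card (n := 1) (by
      rw [Nat.card_zpowers, ← Subgroup.orderOf_coe, pow_one]; exact ht)
    have hn : (Subgroup.zpowers t').Normal := ⟨fun a ha g => by
      have hcomm : ∀ m : ℤ, g * t' ^ m = t' ^ m * g := fun m => ((show Commute g t' from Subtype.ext
        (Subgroup.mem_centralizer_singleton_iff.mp g.2)).zpow_right m).eq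
      obtain ⟨m, rfl⟩ := Subgroup.mem_zpowers_iff.mp ha
      rw [hcomm, mul_inv_cancel_right]
      exact zpow_mem (Subgroup.mem_zpowers t') m⟩
    exact hS' ⟨t', hT.le_sylow_of_normal R (Subgroup.mem_zpowers t'), rfl⟩
  obtain ⟨N, hN, hNc⟩ := (Cfsg.Agent.S0071.result R).mpr fun Q hQR g hg hgo => by
    set gx : X := (g : X) with hgx
    have hgxo : (orderOf gx).Coprime 2 := by rwa [hgx, Subgroup.orderOf_coe]
    have hgt : gx * t * gx⁻¹ = t := by
      rw [Subgroup.mem_centralizer_singleton_iff.mp g.2, mul_inv_cancel_right]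
    set QX : Subgroup X := Q.map H.subtype with hQX
    have hQS : QX ≤ (S' : Subgroup X) := (Subgroup.map_mono hQR).trans hS'
    have hgQ : ∀ q ∈ QX, gx * q * gx⁻¹ ∈ QX := by
      rintro _ ⟨q, hq, rfl⟩
      exact ⟨g * q * g⁻¹, (Subgroup.mem_normalizer_iff.mp hg q).mp hq, rfl⟩
    suffices hall : ∀ q ∈ QX, gx * q * gx⁻¹ = q from Subgroup.mem_centralizer_iff.mpr fun q hq =>
      Subtype.ext (mul_inv_eq_iff_eq_mul.mp (hall q ⟨q, hq, rfl⟩)).symm
    by_cases hbig : ∃ q ∈ QX, q * q ≠ 1
    · obtain ⟨q₀, hq₀, hq₀'⟩ := hbig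
      set C := QX ⊓ C₀ with hC
      -- `g` maps rotations of `Q` to rotations
      have hord : ∀ c ∈ C, gx * c * gx⁻¹ ∈ C := by
        have hgen : ∀ c ∈ C, c * c ≠ 1 → gx * c * gx⁻¹ ∈ C := fun c hc hcc => ⟨hgQ c hc.1, by
          by_contra hout
          have h1 := hsq _ (hQS (hgQ c hc.1)) hout
          rw [show gx * c * gx⁻¹ * (gx * c * gx⁻¹) = gx * (c * c) * gx⁻¹ by group, conj_eq_one_iff] at h1
          exact hcc h1⟩
        have hq₀C : q₀ ∈ C := ⟨hq₀, by_contra fun hout => hq₀' (hsq _ (hQS hq₀) hout)⟩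
        intro c hc
        by_cases hcc : c * c = 1
        · have hcomm : Commute c q₀ := by
            haveI := hC₀cyc C inf_le_right
            haveI : IsMulCommutative C := IsCyclic.isMulCommutative
            exact congrArg Subtype.val (mul_comm' (⟨c, hc⟩ : C) ⟨q₀, hq₀C⟩)
          have h2 : gx * (c * q₀) * gx⁻¹ ∈ C := hgen _ (mul_mem hc hq₀C) (by
            rw [hcomm.symm.mul_mul_mul_comm, hcc, one_mul]; exact hq₀')
          have h3 := mul_mem h2 (inv_mem (hgen q₀ hq₀C hq₀'))
          rwa [show gx * (c * q₀) * gx⁻¹ * (gx * q₀ * gx⁻¹)⁻¹ = gx * c * gx⁻¹ by group] at h3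
        · exact hgen c hc hcc
      have hgN : gx ∈ Subgroup.normalizer (C : Set X) := by
        have hmap : C.map (MulAut.conj gx).toMonoidHom = C := Subgroup.eq_of_le_of_card_ge
          (by rintro _ ⟨c, hc, rfl⟩; exact hord c hc)
          (Subgroup.card_map_of_injective (MulAut.conj gx).injective).ge
        rw [Subgroup.mem_normalizer_iff]
        refine fun a => ⟨hord a, fun ha => ?_⟩
        obtain ⟨b, hb, e⟩ := hmap.ge ha
        rwa [← (MulAut.conj gx).injective e]
      have hCp : IsPGroup 2 C := hRp.to_le (inf_le_left.trans (Subgroup.map_mono hQR))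
      have hfixC := fix_cyclic hCp (hC₀cyc C inf_le_right) hgxo hgN
      intro q hq
      by_cases hqC : q ∈ C₀
      · exact hfixC q ⟨hq, hqC⟩
      · refine fix_of_coset hCp hgxo hfixC ⟨QX.mul_mem (QX.inv_mem hq) (hgQ q hq), hidx q (hQS hq) hqC _ (hQS (hgQ q hq)) ?_⟩
        intro hin
        have h4 : gx * q * gx⁻¹ ∈ C := ⟨hgQ q hq, hin⟩
        have h5 := hfixC _ h4
        have h6 : gx * q * gx⁻¹ = q := mul_left_cancel (mul_right_cancel h5)
        exact hqC (h6 ▸ hin)
    · push Not at hbig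
      -- `Q` has exponent two; adjoin `t`
      have hinv : ∀ a ∈ C₀, ∀ b ∈ C₀, a * a = 1 → b * b = 1 → a ≠ 1 → b ≠ 1 → a = b := by
        intro a ha b hb ha2 hb2 ha1 hb1
        by_contra hab
        haveI := hC₀cyc C₀ le_rfl
        haveI : Fintype C₀ := Fintype.ofFinite _
        have hle := IsCyclic.card_pow_eq_one_le (α := C₀) (n := 2) (by norm_num)
        have h3 : ({1, ⟨a, ha⟩, ⟨b, hb⟩} : Finset C₀).card = 3 := Finset.card_eq_three.mpr
          ⟨_, _, _, fun e => ha1 (congrArg Subtype.val e).symm, fun e => hb1 (congrArg Subtype.val e).symm,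
            fun e => hab (congrArg Subtype.val e), rfl⟩
        have hsub : ({1, ⟨a, ha⟩, ⟨b, hb⟩} : Finset C₀) ⊆ Finset.univ.filter fun y => y ^ 2 = 1 := by
          intro y hy
          simp only [Finset.mem_insert, Finset.mem_singleton] at hy
          refine Finset.mem_filter.mpr ⟨Finset.mem_univ _, ?_⟩
          rcases hy with rfl | rfl | rfl
          · simp
          · exact Subtype.ext (by rw [pow_two]; exact ha2)
          · exact Subtype.ext (by rw [pow_two]; exact hb2)
        have := Finset.card_le_card hsub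
        omega
      have ht2 : t * t = 1 := by rw [← pow_two, ← ht]; exact pow_orderOf_eq_one t
      have ht1 : t ≠ 1 := fun e => by rw [e, orderOf_one] at ht; omega
      have hZ : IsPGroup 2 (Subgroup.zpowers t) := IsPGroup.of_card (n := 1) (by rw [Nat.card_zpowers, ht, pow_one])
      have hgZ : ∀ c ∈ Subgroup.zpowers t, gx * c * gx⁻¹ = c := by
        intro c hc
        obtain ⟨m, rfl⟩ := Subgroup.mem_zpowers_iff.mp hc
        rw [← conj_zpow, hgt]
      -- rotations
      have hrot : ∀ u ∈ (S' : Subgroup X), u * u = 1 → Commute u t → gx * u * gx⁻¹ ∈ (S' : Subgroup X) →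
          Commute (gx * u * gx⁻¹) u → u ∈ C₀ → gx * u * gx⁻¹ = u := by
        intro u hu hu2 hut hu' huu huC
        rcases eq_or_ne u 1 with rfl | hu1
        · simp
        have hv2 : gx * u * gx⁻¹ * (gx * u * gx⁻¹) = 1 := by
          rw [show gx * u * gx⁻¹ * (gx * u * gx⁻¹) = gx * (u * u) * gx⁻¹ by group, hu2]; group
        have hv1 : gx * u * gx⁻¹ ≠ 1 := fun e => hu1 (conj_eq_one_iff.mp e)
        by_cases hvC : gx * u * gx⁻¹ ∈ C₀
        · exact hinv _ hvC _ huC hv2 hu2 hv1 hu1
        by_cases htC : t ∈ C₀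
        · rw [hinv _ huC _ htC hu2 ht2 hu1 ht1] at hvC
          exact absurd (by rwa [hgt]) hvC
        have hprod := hidx t htS' htC _ hu' hvC
        have hct : Commute t (gx * u * gx⁻¹) := by
          have h6 : Commute (gx * t * gx⁻¹) (gx * u * gx⁻¹) := by
            show gx * t * gx⁻¹ * (gx * u * gx⁻¹) = gx * u * gx⁻¹ * (gx * t * gx⁻¹)
            calc gx * t * gx⁻¹ * (gx * u * gx⁻¹) = gx * (t * u) * gx⁻¹ := by group
              _ = gx * (u * t) * gx⁻¹ := by rw [hut.eq]
              _ = gx * u * gx⁻¹ * (gx * t * gx⁻¹) := by group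
          rwa [hgt] at h6
        rcases eq_or_ne (t⁻¹ * (gx * u * gx⁻¹)) 1 with e | e
        · have e' : gx * t * gx⁻¹ = gx * u * gx⁻¹ := by rw [hgt]; exact inv_mul_eq_one.mp e
          have : t = u := mul_left_cancel (mul_right_cancel e')
          exact absurd (this ▸ huC) htC
        · have h7 := hinv _ hprod _ huC (by
            rw [inv_eq_of_mul_eq_one_right ht2, hct.symm.mul_mul_mul_comm, ht2, hv2, one_mul]) hu2 e hu1
          refine fix_of_coset hZ hgxo hgZ ?_
          have h8 : gx * u * gx⁻¹ = t * u := inv_mul_eq_iff_eq_mul.mp h7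
          rw [h8, ← hut.eq, inv_mul_cancel_left]
          exact Subgroup.mem_zpowers t
      intro q hq
      have hqt : ∀ q ∈ QX, Commute q t := by
        rintro _ ⟨r, -, rfl⟩
        exact Subgroup.mem_centralizer_singleton_iff.mp r.2
      have hcom : ∀ a ∈ QX, ∀ b ∈ QX, Commute a b := by
        intro a ha b hb
        have h9 := hbig _ (mul_mem ha hb)
        calc a * b = a * (a * b * (a * b)) * b := by rw [h9, mul_one]
          _ = (a * a) * (b * a) * (b * b) := by group
          _ = b * a := by rw [hbig a ha, hbig b hb, one_mul, mul_one]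
      by_cases hqC : q ∈ C₀
      · exact hrot q (hQS hq) (hbig q hq) (hqt q hq) (hQS (hgQ q hq)) (hcom _ (hgQ q hq) _ hq) hqC
      by_cases htC : t ∈ C₀
      · by_cases hvC : gx * q * gx⁻¹ ∈ C₀
        · rcases eq_or_ne (gx * q * gx⁻¹) 1 with e | e
          · rw [e, conj_eq_one_iff.mp e]
          · have e' : gx * q * gx⁻¹ = gx * t * gx⁻¹ := by
              rw [hgt]; exact hinv _ hvC _ htC (hbig _ (hgQ q hq)) ht2 e ht1
            have : q = t := mul_left_cancel (mul_right_cancel e')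
            exact absurd (this ▸ htC) hqC
        · refine fix_of_coset hZ hgxo hgZ ?_
          rcases eq_or_ne (q⁻¹ * (gx * q * gx⁻¹)) 1 with e | e
          · rw [e]; exact one_mem _
          · rw [hinv _ (hidx q (hQS hq) hqC _ (hQS (hgQ q hq)) hvC) _ htC
              (hbig _ (mul_mem (inv_mem hq) (hgQ q hq))) ht2 e ht1]
            exact Subgroup.mem_zpowers t
      · have hin : t⁻¹ * q ∈ C₀ := hidx t htS' htC q (hQS hq) hqC
        rw [inv_eq_of_mul_eq_one_right ht2] at hin
        have hconj : gx * (t * q) * gx⁻¹ = t * (gx * q * gx⁻¹) := by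
          rw [show gx * (t * q) * gx⁻¹ = (gx * t * gx⁻¹) * (gx * q * gx⁻¹) by group, hgt]
        have h10 := hrot (t * q) (mul_mem htS' (hQS hq))
          (by rw [(hqt q hq).mul_mul_mul_comm, ht2, hbig q hq, one_mul])
          ((Commute.refl t).mul_left (hqt q hq))
          (by rw [hconj]; exact mul_mem htS' (hQS (hgQ q hq)))
          (by
            rw [hconj]
            exact (((Commute.refl t).mul_right (hqt q hq).symm).mul_left
              (((hqt _ (hgQ q hq))).mul_right (hcom _ (hgQ q hq) _ hq))))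
          hin
        rw [hconj] at h10
        exact mul_left_cancel h10
  obtain ⟨k, hk⟩ := IsPGroup.iff_card.mp R.2
  refine ⟨N, hN, ?_, k, by rw [hNc.symm.index_eq_card, hk]⟩
  have h2 := R.not_dvd_index
  rw [hNc.index_eq_card] at h2
  exact Nat.odd_iff.mpr (Nat.two_dvd_ne_zero.mp h2)

end Cfsg.Agent.S0514
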