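import Cfsg.Statements.S2880
import Cfsg.Agent.Lib.PGroup.Frattini

set_option autoImplicit false
open Cfsg
open scoped commutatorElement

namespace Cfsg.Agent.S2880

/-- The map `a ↦ x⁻¹axa⁻¹` is a homomorphism when commutators are central. -/
def comm {E : Type*} [Group E] (hcentral : ∀ x y : E, x⁻¹ * y * x * y⁻¹ ∈ Subgroup.center E) (x : E) :
    E →* Subgroup.center E where
  toFun a := ⟨x⁻¹ * a * x * a⁻¹, hcentral x a⟩
  map_one' := Subtype.ext (by simp)
  map_mul' a b := Subtype.ext (by
    have h := Subgroup.mem_center_iff.1 (hcentral x b) a⁻¹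
    show x⁻¹ * (a * b) * x * (a * b)⁻¹ = x⁻¹ * a * x * a⁻¹ * (x⁻¹ * b * x * b⁻¹)
    calc x⁻¹ * (a * b) * x * (a * b)⁻¹ = x⁻¹ * a * x * ((x⁻¹ * b * x * b⁻¹) * a⁻¹) := by group
      _ = x⁻¹ * a * x * (a⁻¹ * (x⁻¹ * b * x * b⁻¹)) := by rw [h]
      _ = x⁻¹ * a * x * a⁻¹ * (x⁻¹ * b * x * b⁻¹) := by group)

theorem fibre {K Z : Type*} [Group K] [Group Z] [Fintype K] [DecidableEq Z] (hZ : Nat.card Z = 2)
    (f : K →* Z) (hf : f ≠ 1) (z : Z) : 2 * (Finset.univ.filter fun k => f k = z).card = Fintype.card K := by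
  classical
  haveI : Finite Z := Nat.finite_of_card_ne_zero (by omega)
  have hr : f.range = ⊤ := by
    haveI : Fact (Nat.card Z).Prime := ⟨hZ ▸ Nat.prime_two⟩
    exact (Subgroup.eq_bot_or_eq_top_of_prime_card f.range).resolve_left (fun h => hf (MonoidHom.range_eq_bot_iff.1 h))
  have hs : Function.Surjective f := MonoidHom.range_eq_top.1 hr
  haveI := Fintype.ofFinite Z
  have h1 : ∑ w : Z, (Finset.univ.filter fun k => f k = w).card = Fintype.card K := by
    rw [← Finset.card_eq_sum_card_fiberwise (fun _ _ => Finset.mem_univ _)]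
    rfl
  have h2 : ∀ w : Z, (Finset.univ.filter fun k => f k = w).card = (Finset.univ.filter fun k => f k = z).card := by
    intro w
    obtain ⟨k₀, hk⟩ := hs (w * z⁻¹)
    refine (Finset.card_bij' (fun k _ => k₀ * k) (fun k _ => k₀⁻¹ * k) ?_ ?_ ?_ ?_).symm <;>
      intro k hk' <;> simp_all
  rw [Finset.sum_congr rfl (fun w _ => h2 w), Finset.sum_const, Finset.card_univ, ← Nat.card_eq_fintype_card,
    hZ, smul_eq_mul] at h1
  exact h1

/-- Counting commuting pairs `(x, a)`. -/
theorem double_count {E : Type*} [Group E] [Finite E] (A : Subgroup E)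
    (hcentral : ∀ x y : E, x⁻¹ * y * x * y⁻¹ ∈ Subgroup.center E) (hZ : Nat.card (Subgroup.center E) = 2) :
    Nat.card ↥(Subgroup.centralizer (A : Set E)) * Nat.card A =
      Nat.card ↥(A ⊓ Subgroup.center E) * Nat.card E := by
  classical
  haveI := Fintype.ofFinite E
  have hcomm : ∀ x a : E, x * a = a * x ↔ comm hcentral x a = 1 := fun x a => by
    refine ⟨fun h => Subtype.ext ?_, fun h => ?_⟩
    · show x⁻¹ * a * x * a⁻¹ = 1
      rw [mul_assoc x⁻¹ a, ← h, inv_mul_cancel_left, mul_inv_cancel]
    · have h' : x⁻¹ * a * x * a⁻¹ = 1 := congrArg Subtype.val h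
      calc x * a = x * (x⁻¹ * a * x * a⁻¹) * a := by rw [h']; group
        _ = a * x := by group
  have hcomm' : ∀ a x : E, x * a = a * x ↔ comm hcentral a x = 1 := fun a x => by rw [← hcomm]; exact eq_comm
  have row : ∀ x : E, 2 * (Finset.univ.filter fun a : A => x * a = a * x).card =
      Fintype.card A + (if x ∈ Subgroup.centralizer (A : Set E) then Fintype.card A else 0) := by
    intro x
    by_cases hx : x ∈ Subgroup.centralizer (A : Set E)
    · rw [if_pos hx, Finset.filter_true_of_mem (fun (a : A) _ => ((Subgroup.mem_centralizer_iff.1 hx) (a : E) a.2).symm),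
        Finset.card_univ, two_mul]
    · rw [if_neg hx, add_zero, ← fibre hZ ((comm hcentral x).comp A.subtype) (fun h => hx ?_) 1]
      · refine congrArg (2 * ·) (congrArg Finset.card (Finset.filter_congr fun a _ => ?_))
        exact hcomm x a
      · rw [Subgroup.mem_centralizer_iff]
        exact fun a ha => ((hcomm x a).2 (DFunLike.congr_fun h ⟨a, ha⟩)).symm
  have col : ∀ a : A, 2 * (Finset.univ.filter fun x : E => x * a = a * x).card =
      Fintype.card E + (if (a : E) ∈ Subgroup.center E then Fintype.card E else 0) := by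
    intro a
    by_cases hx : (a : E) ∈ Subgroup.center E
    · rw [if_pos hx, Finset.filter_true_of_mem (fun x _ => Subgroup.mem_center_iff.1 hx x), Finset.card_univ, two_mul]
    · rw [if_neg hx, add_zero, ← fibre hZ (comm hcentral (a : E)) (fun h => hx ?_) 1]
      · refine congrArg (2 * ·) (congrArg Finset.card (Finset.filter_congr fun x _ => ?_))
        exact hcomm' a x
      · rw [Subgroup.mem_center_iff]
        exact fun x => (hcomm' a x).2 (DFunLike.congr_fun h x)
  have hsum : ∑ x : E, (Finset.univ.filter fun a : A => x * a = a * x).card =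
      ∑ a : A, (Finset.univ.filter fun x : E => x * a = a * x).card := by
    simp only [Finset.card_filter]
    exact Finset.sum_comm
  have := congrArg (2 * ·) hsum
  simp only [Finset.mul_sum, row, col] at this
  rw [Finset.sum_add_distrib, Finset.sum_add_distrib, Finset.sum_const, Finset.sum_const, Finset.card_univ,
    Finset.card_univ, ← Finset.sum_filter, ← Finset.sum_filter, Finset.sum_const, Finset.sum_const,
    smul_eq_mul, smul_eq_mul, smul_eq_mul, smul_eq_mul] at this
  have e1 : (Finset.univ.filter fun x : E => x ∈ Subgroup.centralizer (A : Set E)).card =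
      Nat.card ↥(Subgroup.centralizer (A : Set E)) := by
    rw [Nat.card_eq_fintype_card, ← Fintype.card_subtype]
  have e2 : (Finset.univ.filter fun a : A => (a : E) ∈ Subgroup.center E).card =
      Nat.card ↥(A ⊓ Subgroup.center E) := by
    rw [← Fintype.card_subtype, ← Nat.card_eq_fintype_card]
    exact Nat.card_congr
      { toFun := fun a => ⟨a.1.1, a.1.2, a.2⟩
        invFun := fun a => ⟨⟨a.1, a.2.1⟩, a.2.2⟩
        left_inv := fun _ => rfl
        right_inv := fun _ => rfl }
  rw [e1, e2] at this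
  rw [Nat.card_eq_fintype_card (α := A), Nat.card_eq_fintype_card (α := E)]
  rw [mul_comm (Fintype.card A) (Fintype.card E)] at this
  omega

theorem count {E : Type*} [Group E] [Finite E] (A : Subgroup E)
    (hcentral : ∀ x y : E, x⁻¹ * y * x * y⁻¹ ∈ Subgroup.center E)
    (hsq : ∀ x : E, x ^ 2 ∈ Subgroup.center E) (hz2 : ∀ x ∈ Subgroup.center E, x ^ 2 = 1)
    (hZ : Nat.card (Subgroup.center E) = 2) (hA2 : ∀ a ∈ A, a ^ 2 = 1)
    (hCA : Subgroup.centralizer (A : Set E) = A) :
    2 * Nat.card {x : E // x ^ 2 ≠ 1} + Nat.card A = Nat.card E := by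
  classical
  haveI := Fintype.ofFinite E
  let N := Finset.univ.filter fun x : E => x ^ 2 ≠ 1
  let O := Finset.univ.filter fun x : E => x ∉ A
  have row : ∀ x ∈ O, 2 * (Finset.univ.filter fun a : A => (x * a) ^ 2 ≠ 1).card = Fintype.card A := by
    intro x hx
    simp only [O, Finset.mem_filter, Finset.mem_univ, true_and] at hx
    let f := (comm hcentral x).comp A.subtype
    have hf : f ≠ 1 := fun h => hx (by
      rw [← hCA, Subgroup.mem_centralizer_iff]
      intro a ha
      have h'' : comm hcentral x a = 1 := DFunLike.congr_fun h ⟨a, ha⟩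
      have h' : x⁻¹ * a * x * a⁻¹ = 1 := congrArg Subtype.val h''
      calc a * x = x * (x⁻¹ * a * x * a⁻¹) * a := by group
        _ = x * a := by rw [h']; group)
    have heq : ∀ a : A, (x * a) ^ 2 = x ^ 2 * (f a : E) := fun a => by
      show (x * a) ^ 2 = x ^ 2 * (x⁻¹ * (a : E) * x * (a : E)⁻¹)
      rw [show (a : E)⁻¹ = a from inv_eq_of_mul_eq_one_right (by rw [← sq]; exact hA2 _ a.2), sq, sq]
      group
    have hflt : (Finset.univ.filter fun a : A => (x * a) ^ 2 ≠ 1) =
        Finset.univ.filter fun a : A => ¬ (f a = ⟨(x ^ 2)⁻¹, inv_mem (hsq x)⟩) := by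
      refine Finset.filter_congr fun a _ => not_congr ?_
      rw [heq, mul_eq_one_iff_eq_inv', Subtype.ext_iff]
    have h1 := Finset.card_filter_add_card_filter_not (s := (Finset.univ : Finset A))
      (fun a => f a = ⟨(x ^ 2)⁻¹, inv_mem (hsq x)⟩)
    rw [Finset.card_univ] at h1
    rw [hflt]
    have h2 := fibre hZ f hf ⟨(x ^ 2)⁻¹, inv_mem (hsq x)⟩
    omega
  have total : ∑ x ∈ O, (Finset.univ.filter fun a : A => (x * a) ^ 2 ≠ 1).card = N.card * Fintype.card A := by
    rw [← Finset.card_sigma, ← Finset.card_univ, ← Finset.card_product]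
    refine Finset.card_bij' (fun s _ => (s.1 * (s.2 : E), s.2)) (fun t _ => ⟨t.1 * (t.2 : E)⁻¹, t.2⟩)
      ?_ ?_ ?_ ?_
    · intro s hs
      simp only [Finset.mem_sigma, O, Finset.mem_filter, Finset.mem_univ, true_and] at hs
      simpa [N] using hs.2
    · intro t ht
      simp only [Finset.mem_product, N, Finset.mem_filter, Finset.mem_univ, true_and, and_true] at ht
      simp only [Finset.mem_sigma, O, Finset.mem_filter, Finset.mem_univ, true_and, inv_mul_cancel_right]
      exact ⟨fun h => ht (hA2 _ (by simpa using mul_mem h t.2.2)), ht⟩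
    · intro s _
      simp
    · intro t _
      simp
  have h3 := congrArg (2 * ·) total
  simp only [Finset.mul_sum] at h3
  rw [Finset.sum_congr rfl row, Finset.sum_const, smul_eq_mul] at h3
  have h4 : O.card = 2 * N.card := by
    refine Nat.eq_of_mul_eq_mul_right (show 0 < Fintype.card A from Fintype.card_pos) ?_
    rw [h3]
    ring
  have h5 := Finset.card_filter_add_card_filter_not (s := (Finset.univ : Finset E)) (fun x => x ∈ A)
  rw [Finset.card_univ] at h5
  rw [Nat.card_eq_fintype_card, Nat.card_eq_fintype_card, Nat.card_eq_fintype_card, Fintype.card_subtype,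
    Fintype.card_subtype]
  show 2 * N.card + _ = _
  have h6 : O.card + (Finset.univ.filter fun x : E => x ∈ A).card = Fintype.card E := by rw [add_comm]; exact h5
  omega


/-- Let E be an extraspecial 2-group of order 2^(2m+1) of plus type, that is, containing an elementary abelian subgroup of order 2^(m+1) (equivalently, a central product of m dihedral groups of order 8). Then E has exactly 2^(2m) − 2^m elements of order 4. -/
theorem result {E : Type*} [Group E] [Finite E] (m : ℕ) (hm : 1 ≤ m) (hE : Cfsg.IsExtraspecial 2 E) (hcard : Nat.card E = 2 ^ (2 * m + 1)) (hplus : ∃ A : Subgroup E, Cfsg.IsElementaryAbelian 2 A ∧ Nat.card A = 2 ^ (m + 1)) : Nat.card {x : E // orderOf x = 4} = 2 ^ (2 * m) - 2 ^ m := by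
  classical
  haveI := Fintype.ofFinite E
  obtain ⟨A, hA, hAc⟩ := hplus
  obtain ⟨hP, hΦ, hC⟩ := hE.1
  haveI := hA.1
  have hcentral : ∀ x y : E, x⁻¹ * y * x * y⁻¹ ∈ Subgroup.center E := fun x y => by
    have : ⁅x⁻¹, y⁆ ∈ commutator E := Subgroup.commutator_mem_commutator (Subgroup.mem_top _) (Subgroup.mem_top _)
    rw [hC, commutatorElement_def, inv_inv] at this
    exact this
  have hsq : ∀ x : E, x ^ 2 ∈ Subgroup.center E := fun x => hΦ ▸ CfsgLib.PGroup.Frattini.pow_mem_frattini hP x
  have hz2 : ∀ x ∈ Subgroup.center E, x ^ 2 = 1 := fun x hx => by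
    have := pow_card_eq_one' (G := Subgroup.center E) (x := ⟨x, hx⟩)
    rw [hE.2] at this
    simpa using congrArg Subtype.val this
  have hCA : Subgroup.centralizer (A : Set E) = A := by
    have h := double_count A hcentral hE.2
    have hAC : A ≤ Subgroup.centralizer (A : Set E) := fun a ha b hb =>
      congrArg Subtype.val (mul_comm' (⟨b, hb⟩ : A) ⟨a, ha⟩)
    refine (Subgroup.eq_of_le_of_card_ge hAC ?_).symm
    have hle : Nat.card ↥(A ⊓ Subgroup.center E) ≤ 2 :=
      hE.2 ▸ Subgroup.card_le_of_le inf_le_right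
    have h1 := Nat.mul_le_mul_right (Nat.card E) hle
    rw [← h, hcard, hAc] at h1
    rw [hAc]
    have e : 2 * 2 ^ (2 * m + 1) = 2 ^ (m + 1) * 2 ^ (m + 1) := by ring
    rw [e] at h1
    exact Nat.le_of_mul_le_mul_right h1 (by positivity)
  have h4 : Nat.card {x : E // orderOf x = 4} = Nat.card {x : E // x ^ 2 ≠ 1} :=
    Nat.card_congr (Equiv.subtypeEquivRight fun x => by
      constructor
      · intro h h2
        have := orderOf_dvd_of_pow_eq_one h2
        rw [h] at this
        exact absurd (Nat.le_of_dvd two_pos this) (by norm_num)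
      · intro h
        have := orderOf_eq_prime_pow (x := x) (p := 2) (n := 1) h (by
          rw [show 2 ^ (1 + 1) = 2 * 2 by norm_num, pow_mul, hz2 _ (hsq x)])
        simpa using this)
  rw [h4]
  have key := count A hcentral hsq hz2 hE.2 hA.2 hCA
  rw [hcard, hAc] at key
  have e1 : 2 ^ (2 * m + 1) = 2 * 2 ^ (2 * m) := by ring
  have e2 : 2 ^ (m + 1) = 2 * 2 ^ m := by ring
  rw [e1, e2] at key
  omega

end Cfsg.Agent.S2880
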