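import Cfsg.Statements.S2261
import Mathlib

set_option autoImplicit false
open Cfsg Matrix

namespace Cfsg.Agent.S2261

universe u

variable {F : Type u} [Field F] [Fintype F] {d : ℕ}

/-- The units of the algebra generated by `g`, as a subgroup of `GL d F`. -/
def unitsOf (g : GL (Fin d) F) : Subgroup (GL (Fin d) F) where
  carrier := {x | (x : Matrix (Fin d) (Fin d) F) ∈ Algebra.adjoin F {(g : Matrix (Fin d) (Fin d) F)}}
  one_mem' := one_mem (Algebra.adjoin F {(g : Matrix (Fin d) (Fin d) F)})
  mul_mem' {a b} ha hb := mul_mem (s := Algebra.adjoin F {(g : Matrix (Fin d) (Fin d) F)}) ha hb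
  inv_mem' {x} hx := by
    classical
    haveI : Finite (GL (Fin d) F) := inferInstance
    have h : x⁻¹ ∈ Submonoid.powers x := by
      rw [mem_powers_iff_mem_zpowers]; exact inv_mem (Subgroup.mem_zpowers x)
    obtain ⟨k, hk⟩ := h
    show ((x⁻¹ : GL (Fin d) F) : Matrix (Fin d) (Fin d) F) ∈ Algebra.adjoin F {(g : Matrix (Fin d) (Fin d) F)}
    rw [← hk, Units.val_pow_eq_pow_val]
    exact pow_mem hx k

theorem mem_unitsOf {g x : GL (Fin d) F} : x ∈ unitsOf g ↔
    (x : Matrix (Fin d) (Fin d) F) ∈ Algebra.adjoin F {(g : Matrix (Fin d) (Fin d) F)} := Iff.rfl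

theorem upper (hd : 1 ≤ d) (g : GL (Fin d) F) :
    (Fintype.card F - 1) * orderOf (QuotientGroup.mk g : GL (Fin d) F ⧸ Subgroup.center (GL (Fin d) F))
      ≤ Fintype.card F ^ d - 1 := by
  classical
  haveI : Nonempty (Fin d) := ⟨⟨0, hd⟩⟩
  set Z := Subgroup.center (GL (Fin d) F) with hZ
  set U := unitsOf g with hU
  have hUmem : ∀ x, x ∈ U ↔ (x : Matrix (Fin d) (Fin d) F) ∈ Algebra.adjoin F {(g : Matrix (Fin d) (Fin d) F)} := fun x => mem_unitsOf
  set M := (g : Matrix (Fin d) (Fin d) F)
  set A := Algebra.adjoin F {M} with hA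
  have hZU : Z ≤ U := by
    intro z hz
    rw [hZ, Matrix.GeneralLinearGroup.center_eq_range_scalar] at hz
    obtain ⟨c, rfl⟩ := hz
    have : ((Matrix.GeneralLinearGroup.scalar (Fin d) c : GL (Fin d) F) : Matrix (Fin d) (Fin d) F)
        = algebraMap F _ (c : F) := rfl
    rw [hUmem]
    rw [this]; exact A.algebraMap_mem _
  have hZcard : Nat.card Z = Fintype.card F - 1 := by
    rw [hZ, Matrix.GeneralLinearGroup.center_eq_range_scalar,
      Nat.card_congr (MonoidHom.ofInjective ?_).symm.toEquiv, Nat.card_units, Nat.card_eq_fintype_card]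
    intro a b hab
    have := congrArg (fun m : GL (Fin d) F => (m : Matrix (Fin d) (Fin d) F) ⟨0, hd⟩ ⟨0, hd⟩) hab
    exact Units.ext (by simpa using this)
  have hmonic : (M.charpoly).Monic := Matrix.charpoly_monic M
  have hcard : Nat.card A ≤ Fintype.card F ^ d := by
    have hspan : Subalgebra.toSubmodule A ≤ Submodule.span F (Set.range fun i : Fin d => M ^ (i : ℕ)) := by
      intro x hx
      rw [Subalgebra.mem_toSubmodule, hA, Algebra.adjoin_singleton_eq_range_aeval] at hx
      obtain ⟨f, rfl⟩ := hx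
      show Polynomial.aeval M f ∈ _
      rw [← Polynomial.aeval_modByMonic_eq_self_of_root (p := f) (Matrix.aeval_self_charpoly M)]
      have hdeg : (f %ₘ M.charpoly).natDegree < d := by
        have h := Polynomial.natDegree_modByMonic_lt f hmonic ?_
        · rwa [Matrix.charpoly_natDegree_eq_dim, Fintype.card_fin] at h
        · intro h1
          have := Matrix.charpoly_natDegree_eq_dim M
          rw [h1, Polynomial.natDegree_one, Fintype.card_fin] at this
          omega
      rw [Polynomial.aeval_eq_sum_range' hdeg]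
      exact Submodule.sum_mem _ fun i hi => Submodule.smul_mem _ _
        (Submodule.subset_span ⟨⟨i, Finset.mem_range.1 hi⟩, rfl⟩)
    have h1 : Module.finrank F A ≤ d :=
      (Submodule.finrank_mono hspan).trans ((finrank_range_le_card _).trans_eq (Fintype.card_fin d))
    rw [Module.natCard_eq_pow_finrank (K := F), Nat.card_eq_fintype_card]
    exact Nat.pow_le_pow_right Fintype.card_pos h1
  have hUcard : Nat.card U + 1 ≤ Nat.card A := by
    let e : Option U → A := fun o => match o with
      | none => 0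
      | some x => ⟨((x : GL (Fin d) F) : Matrix (Fin d) (Fin d) F), (hUmem _).1 x.2⟩
    have he : Function.Injective e := by
      rintro (_ | x) (_ | y) h
      · rfl
      · exact absurd (congrArg Subtype.val h).symm (Units.ne_zero _)
      · exact absurd (congrArg Subtype.val h) (Units.ne_zero _)
      · exact congrArg some (Subtype.ext (Units.ext (congrArg Subtype.val h)))
    have := Nat.card_le_card_of_injective e he
    rwa [Finite.card_option] at this
  have hmem : (QuotientGroup.mk g : GL (Fin d) F ⧸ Z) ∈ U.map (QuotientGroup.mk' Z) :=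
    ⟨g, (hUmem g).2 (Algebra.self_mem_adjoin_singleton F M), rfl⟩
  have hle : orderOf (QuotientGroup.mk g : GL (Fin d) F ⧸ Z) ≤ Nat.card (U.map (QuotientGroup.mk' Z)) := by
    rw [← Nat.card_zpowers]
    exact Subgroup.card_le_of_le ((Subgroup.zpowers_le).2 hmem)
  have hidx : Nat.card (U.map (QuotientGroup.mk' Z)) * Nat.card Z = Nat.card U := by
    rw [← Subgroup.relIndex_ker, QuotientGroup.ker_mk', mul_comm, ← Subgroup.relIndex_bot_left Z,
      Subgroup.relIndex_mul_relIndex _ _ _ bot_le hZU, Subgroup.relIndex_bot_left]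
  have := Nat.mul_le_mul_left (Nat.card Z) hle
  rw [mul_comm (Nat.card Z) (Nat.card (U.map _)), hidx, hZcard] at this
  omega

theorem result {F : Type*} [Field F] [Fintype F] (d : ℕ) (hd : 1 ≤ d) :
    (∀ g : (GL (Fin d) F ⧸ Subgroup.center (GL (Fin d) F)), (Fintype.card F - 1) * orderOf g ≤ Fintype.card F ^ d - 1) ∧
    (∃ g : (GL (Fin d) F ⧸ Subgroup.center (GL (Fin d) F)), (Fintype.card F - 1) * orderOf g = Fintype.card F ^ d - 1) := by
  classical
  refine ⟨fun g => ?_, ?_⟩
  · obtain ⟨x, rfl⟩ := QuotientGroup.mk_surjective g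
    exact upper hd x
  haveI : NeZero d := ⟨by omega⟩
  let p := ringChar F
  haveI : Fact p.Prime := ⟨CharP.char_is_prime F p⟩
  let K := FiniteField.Extension F p d
  haveI : Fintype K := Fintype.ofFinite K
  let b : Module.Basis (Fin d) F K := Module.finBasisOfFinrankEq F K (FiniteField.finrank_extension F p d)
  let T : Kˣ →* GL (Fin d) F := Units.map (Algebra.leftMulMatrix b : K →* Matrix (Fin d) (Fin d) F)
  obtain ⟨lam, hlam⟩ := IsCyclic.exists_monoid_generator (α := Kˣ)
  have hord : orderOf lam = Fintype.card F ^ d - 1 := by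
    rw [orderOf_eq_card_of_forall_mem_zpowers (fun x => mem_powers_iff_mem_zpowers.1 (hlam x)),
      Nat.card_units, FiniteField.natCard_extension, Nat.card_eq_fintype_card]
  refine ⟨QuotientGroup.mk (T lam), le_antisymm (upper hd _) ?_⟩
  set k := orderOf (QuotientGroup.mk (T lam) : GL (Fin d) F ⧸ Subgroup.center (GL (Fin d) F)) with hk
  have hk0 : 0 < k := orderOf_pos _
  have hq : 0 < Fintype.card F - 1 := by have := Fintype.one_lt_card (α := F); omega
  have h1 : T lam ^ k ∈ Subgroup.center (GL (Fin d) F) := by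
    rw [← QuotientGroup.eq_one_iff, QuotientGroup.mk_pow]
    exact pow_orderOf_eq_one _
  rw [Matrix.GeneralLinearGroup.center_eq_range_scalar, ← map_pow] at h1
  obtain ⟨c, hc⟩ := h1
  have h2 : Algebra.leftMulMatrix b ((lam ^ k : Kˣ) : K) = Algebra.leftMulMatrix b (algebraMap F K (c : F)) := by
    rw [AlgHom.commutes]
    exact (congrArg Units.val hc).symm
  have h3 : lam ^ (k * (Fintype.card F - 1)) = 1 := by
    apply Units.ext
    rw [pow_mul, Units.val_pow_eq_pow_val, Algebra.leftMulMatrix_injective b h2, ← map_pow,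
      FiniteField.pow_card_sub_one_eq_one (c : F) (Units.ne_zero c), map_one, Units.val_one]
  have := Nat.le_of_dvd (Nat.mul_pos hk0 hq) (orderOf_dvd_of_pow_eq_one h3)
  rw [hord, mul_comm] at this
  exact this

end Cfsg.Agent.S2261
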