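import Cfsg.Statements.S4481
import Cfsg.Agent.Lib.Blocks.DihedralThetas
import Cfsg.Agent.Lib.Blocks.DihedralConfig
-- import your own Cfsg.Agent.* helpers here

set_option autoImplicit false
open Cfsg CfsgLib.Blocks CfsgLib.Blocks.DihedralBlock
open CfsgLib.BrauerSuzuki (coeff cast_coeff classInner_eq_sum_coeff eq_sum_coeff)

namespace Cfsg.Agent.S4481

/-- The principal 2-block of a group with dihedral Sylow 2-subgroups. Let G be a finite group whose Sylow 2-subgroup P is dihedral of order 2^n ≥ 8, let σ be an element of P of order 2^(n−1), ζ a primitive 2^(n−1)-th root of unity, and M a maximal ideal of the algebraic integers containing 2. Then the principal 2-block consists of exactly 3 + 2^(n−2) irreducible characters, which can be labelled 1, χ₁, χ₂, χ₃ and χ^(j) for 1 ≤ j ≤ 2^(n−2) − 1 (all distinct), with signs δ₁, δ₂, δ₃ such that for 0 < λ < 2^(n−1): χ₁(σ^λ) = δ₁, χ₂(σ^λ) = δ₂(−1)^(λ+1), χ₃(σ^λ) = δ₃(−1)^(λ+1) and χ^(j)(σ^λ)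 = δ₁(ζ^(jλ) + ζ^(−jλ)); and for every element ρ of odd order and every j: 1 + δ₁χ₁(ρ) = −δ₂χ₂(ρ) − δ₃χ₃(ρ) = δ₁χ^(j)(ρ). -/
theorem result {G : Type*} [Group G] [Finite G] (M : Ideal Cfsg.AlgInt) (hM : Cfsg.IsPModular 2 M) (n : ℕ) (hn : 3 ≤ n) (P : Sylow 2 G) (hP : Nonempty ((P : Subgroup G) ≃* DihedralGroup (2 ^ (n - 1)))) (σ : G) (hσ : σ ∈ (P : Subgroup G)) (hσo : orderOf σ = 2 ^ (n - 1)) (ζ : ℂ) (hζ : IsPrimitiveRoot ζ (2 ^ (n - 1))) : Nat.card (Cfsg.principalBlock M G) = 3 + 2 ^ (n - 2) ∧ ∃ (χ₁ χ₂ χ₃ : Cfsg.IrrCharacter G) (χ' : Fin (2 ^ (n - 2) - 1) → Cfsg.IrrCharacter G) (δ₁ δ₂ δ₃ : ℤ), (δ₁ = 1 ∨ δ₁ = -1) ∧ (δ₂ = 1 ∨ δ₂ = -1) ∧ (δ₃ = 1 ∨ δ₃ = -1) ∧ Function.Injective χ' ∧ (χ₁ : G → ℂ) ≠ (fun _ => 1) ∧ (χ₂ : G → ℂ) ≠ (fun _ => 1) ∧ (χ₃ : G → ℂ) ≠ (fun _ => 1) ∧ χ₁ ≠ χ₂ ∧ χ₁ ≠ χ₃ ∧ χ₂ ≠ χ₃ ∧ (∀ j, χ' j ≠ χ₁ ∧ χ' j ≠ χ₂ ∧ χ' j ≠ χ₃ ∧ (χ' j : G → ℂ) ≠ (fun _ => 1)) ∧ Cfsg.principalBlock M G = {χ : Cfsg.IrrCharacter G | (χ : G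 → ℂ) = (fun _ => 1) ∨ χ = χ₁ ∨ χ = χ₂ ∨ χ = χ₃ ∨ ∃ j, χ = χ' j} ∧ (∀ l : ℕ, 0 < l → l < 2 ^ (n - 1) → (χ₁ : G → ℂ) (σ ^ l) = δ₁ ∧ (χ₂ : G → ℂ) (σ ^ l) = δ₂ * (-1) ^ (l + 1) ∧ (χ₃ : G → ℂ) (σ ^ l) = δ₃ * (-1) ^ (l + 1) ∧ ∀ j : Fin (2 ^ (n - 2) - 1), (χ' j : G → ℂ) (σ ^ l) = δ₁ * (ζ ^ (((j : ℕ) + 1) * l) + (ζ ^ (((j : ℕ) + 1) * l))⁻¹)) ∧ ∀ ρ : G, Odd (orderOf ρ) → ∀ j : Fin (2 ^ (n - 2) - 1), 1 + δ₁ * (χ₁ : G → ℂ) ρ = -δ₂ * (χ₂ : G → ℂ) ρ - δ₃ * (χ₃ : G → ℂ) ρ ∧ 1 + δ₁ * (χ₁ : G → ℂ) ρ = δ₁ * (χ' j : G → ℂ) ρ := by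
  classical
  haveI := Fintype.ofFinite G
  obtain ⟨eP⟩ := hP
  obtain ⟨a, b, k, hg0, hm, -⟩ := CfsgLib.Involution.DihedralSylow.exists_gen P (2 ^ (n - 1))
    (le_trans (by norm_num) (Nat.pow_le_pow_right two_pos (show 1 ≤ n - 1 by omega))) eP
  have hnk : n - 1 = k + 1 := Nat.pow_right_injective le_rfl hm
  have hnk2 : n - 2 = k := by omega
  rw [hnk] at hσo hζ ⊢
  rw [hnk2]
  have hk : 1 ≤ k := by omega
  have h4 : 4 ≤ 2 ^ (k + 1) := le_trans (by norm_num) (Nat.pow_le_pow_right two_pos (show 2 ≤ k + 1 by omega))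
  obtain ⟨i, rfl⟩ : ∃ i : ℤ, σ = a ^ i := by
    rcases hg0.cases σ hσ with h | ⟨i, rfl⟩
    · exact h
    · rw [CfsgLib.Involution.DihedralSylow.refl_orderOf hg0] at hσo
      omega
  have hzp : Subgroup.zpowers (a ^ i) = Subgroup.zpowers a :=
    Subgroup.eq_of_le_of_card_ge (Subgroup.zpowers_le.2 (Subgroup.zpow_mem _ (Subgroup.mem_zpowers a) i))
      (by rw [Nat.card_zpowers, Nat.card_zpowers, hσo, hg0.ord])
  have hmem : ∀ j : ℤ, ∃ l : ℤ, a ^ j = (a ^ i) ^ l := fun j => by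
    have : a ^ j ∈ Subgroup.zpowers (a ^ i) := hzp ▸ Subgroup.zpow_mem _ (Subgroup.mem_zpowers a) j
    obtain ⟨l, hl⟩ := Subgroup.mem_zpowers_iff.1 this
    exact ⟨l, hl.symm⟩
  have h : CfsgLib.Involution.DihedralSylow.Gen (P : Subgroup G) (a ^ i) b k := by
    refine ⟨hσ, hg0.bmem, hσo, hg0.bb, by rw [hzp]; exact hg0.nb, ?_, fun x hx => ?_⟩
    · rw [CfsgLib.Involution.DihedralSylow.b_mul hg0, mul_inv_cancel_right, zpow_neg]
    · rcases hg0.cases x hx with ⟨j, rfl⟩ | ⟨j, rfl⟩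
      · exact Or.inl (hmem j)
      · obtain ⟨l, hl⟩ := hmem j
        exact Or.inr ⟨l, by rw [hl]⟩
  generalize a ^ i = σ at h hσ hσo ⊢
  clear hzp hmem hg0
  obtain ⟨π, hπ, hodd⟩ := CfsgLib.Blocks.DihedralOrder.exists_retraction h
  haveI : NeZero (2 ^ (k + 1)) := ⟨(pow_pos two_pos _).ne'⟩
  obtain ⟨t, -, htc, htz⟩ : ∃ t < 2 ^ (k + 1), t.Coprime (2 ^ (k + 1)) ∧
      (((CfsgLib.Blocks.DihedralOrder.zeta k : ℂˣ) : ℂ)) ^ t = ζ :=
    (IsPrimitiveRoot.coe_units_iff.2 (CfsgLib.Blocks.DihedralOrder.zeta_prim k)).isPrimitiveRoot_iff.1 hζ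
  have ht : t.Coprime 2 := (Nat.coprime_pow_right_iff (by omega) _ _).1 htc
  have hzv : zv k t = ζ := htz
  set q := 2 ^ (k + 1) with hq
  have hq2 : q = 2 * 2 ^ k := by rw [hq, pow_succ]; ring
  have h2k : 2 ≤ 2 ^ k := le_trans (by norm_num) (Nat.pow_le_pow_right two_pos hk)
  set B := Cfsg.principalBlock M G with hBdef
  set triv := trivChar G with htrivdef
  have htriv : (triv : G → ℂ) = fun _ => 1 := funext fun g => trivChar_apply g
  have htm : triv ∈ B := trivChar_mem_principalBlock hM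
  set θ : ℕ → G → ℂ := fun j => thetaN h π t j with hθ
  have hgen : ∀ j, IsGeneralizedCharacter G (θ j) := fun j => thetaN_gen h t j
  set cf : ℕ → IrrCharacter G → ℤ := fun j χ => coeff (θ j) χ with hcfdef
  have hcf : ∀ j χ, (cf j χ : ℂ) = classInner (θ j) (χ : G → ℂ) := fun j χ => cast_coeff (hgen j) χ
  have hcf1 : ∀ j, 1 ≤ j → j < q → cf j triv = 1 := fun j h1 h2 => by
    have e := hcf j triv
    rw [htriv, thetaN_inner_one h hπ hodd ht h1 h2] at e
    exact_mod_cast e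
  set r : ℕ → IrrCharacter G → ℤ := fun j χ => if χ = triv then 0 else cf j χ with hr
  have hsplit : ∀ j, 1 ≤ j → j < q → ∀ χ, cf j χ = r j χ + (if χ = triv then 1 else 0) := by
    intro j h1 h2 χ
    by_cases hχ : χ = triv
    · simp [r, hχ, hcf1 j h1 h2]
    · simp [r, hχ]
  have hrr : ∀ i j, 1 ≤ i → i ≤ 2 ^ k → 1 ≤ j → j ≤ 2 ^ k →
      ∑ χ, r i χ * r j χ = 1 + (if i = j then 1 else 0) + (if i = j ∧ j = 2 ^ k then 1 else 0) := by
    intro i j hi1 hi hj1 hj
    have e := classInner_eq_sum_coeff (hgen i) (hgen j)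
    rw [thetaN_inner h hπ hodd ht hi1 hi hj1 hj] at e
    have e' : ∑ χ, cf i χ * cf j χ = 2 + (if i = j then 1 else 0) + (if i = j ∧ j = 2 ^ k then 1 else 0) := by
      apply Int.cast_injective (α := ℂ)
      push_cast at e ⊢
      exact e.symm
    have e2 : ∑ χ, cf i χ * cf j χ = (∑ χ, r i χ * r j χ) + 1 := by
      rw [Finset.sum_congr rfl (g := fun χ => r i χ * r j χ + (if χ = triv then 1 else 0)) fun χ _ => by
        rw [hsplit i hi1 (by omega) χ, hsplit j hj1 (by omega) χ]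
        by_cases hχ : χ = triv <;> simp [r, hχ],
        Finset.sum_add_distrib, Finset.sum_ite_eq', if_pos (Finset.mem_univ _)]
    omega
  have hreg : ∀ j, 1 ≤ j → j < q → ∀ ρ : G, ¬ 2 ∣ orderOf ρ →
      ∑ χ, (r j χ : ℂ) * (χ : G → ℂ) ρ = -1 := by
    intro j h1 h2 ρ hρ
    have e := eq_sum_coeff (hgen j) ρ
    rw [show θ j ρ = 0 from thetaN_odd h t j hρ] at e
    have e2 : ∑ χ, (cf j χ : ℂ) * (χ : G → ℂ) ρ = (∑ χ, (r j χ : ℂ) * (χ : G → ℂ) ρ) + 1 := by
      rw [Finset.sum_congr rfl (g := fun χ => (r j χ : ℂ) * (χ : G → ℂ) ρ + (if χ = triv then 1 else 0))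
        fun χ _ => by
          rw [hsplit j h1 h2 χ]
          by_cases hχ : χ = triv <;> simp [r, hχ, htriv],
        Finset.sum_add_distrib, Finset.sum_ite_eq', if_pos (Finset.mem_univ _)]
    linear_combination e2.symm.trans e.symm
  have hdeg : ∀ j, 1 ≤ j → j < q → ∑ χ, r j χ * (charDegree (χ : G → ℂ) : ℤ) = -1 := by
    intro j h1 h2
    have e := hreg j h1 h2 1 (by rw [orderOf_one]; omega)
    simp only [irr_one_eq] at e
    exact_mod_cast e
  set T := 2 ^ k with hT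
  set N := T - 1 with hN
  obtain ⟨c, xa, xb, d, δ, δa, δb, hδ, hδa, hδb, hac, hbc, hab, hdinj, hd, hfv, hev⟩ :=
    CfsgLib.Blocks.DihedralConfig.exists_config (N := N) (by omega)
      (fun e => by
        have h2 : 2 ∣ 2 ^ k := dvd_pow_self 2 (by omega)
        omega)
      (fun j : Fin N => r (j + 1)) (r T) (fun χ => (charDegree (χ : G → ℂ) : ℤ))
      (fun χ => by exact_mod_cast charDegree_pos χ)
      (fun i j => by
        have := i.2
        have := j.2
        rw [hrr ((i : ℕ) + 1) ((j : ℕ) + 1) (by omega) (by omega) (by omega) (by omega),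
          if_neg (c := (i : ℕ) + 1 = j + 1 ∧ (j : ℕ) + 1 = T) (by omega)]
        by_cases hij : i = j
        · rw [if_pos hij, if_pos (by rw [hij])]; norm_num
        · rw [if_neg hij, if_neg (fun e => hij (Fin.ext (by omega)))]; norm_num)
      (by rw [hrr T T (by omega) le_rfl (by omega) le_rfl, if_pos rfl, if_pos ⟨rfl, rfl⟩]; norm_num)
      (fun j => by
        have := j.2
        rw [hrr ((j : ℕ) + 1) T (by omega) (by omega) (by omega) le_rfl, if_neg (by omega), if_neg (by omega)]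
        norm_num)
      (fun j => hdeg ((j : ℕ) + 1) (by omega) (by have := j.2; omega))
      (hdeg T (by omega) (by omega))
  have hδ0 : δ ≠ 0 := by rcases hδ with e | e <;> omega
  have hrne : ∀ j χ, r j χ ≠ 0 → χ ≠ triv ∧ χ ∈ B := by
    intro j χ hne
    have hχt : χ ≠ triv := fun e => hne (by simp [r, e])
    refine ⟨hχt, ?_⟩
    by_contra hB
    refine hne ?_
    have e := hcf j χ
    rw [show θ j = thetaN h π t j from rfl, thetaN_eq_zero_of_notMem h hπ hodd hM t j hB] at e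
    simp only [r, if_neg hχt]
    exact_mod_cast e
  have hcT := hrne T c (by rw [hfv, if_pos rfl]; exact hδ0)
  have haT := hrne T xa (by rw [hfv, if_neg hac, if_pos rfl]; rcases hδa with e | e <;> omega)
  have hbT := hrne T xb (by
    rw [hfv, if_neg hbc, if_neg hab.symm, if_pos rfl]; rcases hδb with e | e <;> omega)
  have hdT : ∀ j : Fin N, d j ≠ triv ∧ d j ∈ B := fun j => hrne ((j : ℕ) + 1) (d j) (by
    rw [hev j, if_neg (hd j).1, if_pos rfl]; omega)
  have hneq : ∀ χ : IrrCharacter G, χ ≠ triv → (χ : G → ℂ) ≠ fun _ => 1 := fun χ hχ e =>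
    hχ (Subtype.ext (e.trans htriv.symm))
  have hvalue : ∀ χ ∈ B, χ ≠ triv → ∀ l, 0 < l → l < q → ∀ u : ℕ → ℤ,
      (∀ j, 1 ≤ j → j ≤ T → r j χ = u j) →
      (χ : G → ℂ) (σ ^ l) = -((∑ j ∈ Finset.Ico 1 T, (u j : ℂ) * (ζ ^ (j * l) + (ζ ^ (j * l))⁻¹))
        + (u T : ℂ) * ζ ^ (T * l)) := by
    intro χ hχ hχt l hl0 hl u hu
    rw [value_formula h hπ hodd hM ht hχ hl0 hl, hzv, Finset.range_eq_Ico, neg_inj]
    have hpos : ∀ j, 1 ≤ j → j ≤ T → classInner (thetaN h π t j) (χ : G → ℂ) = (u j : ℂ) := by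
      intro j h1 h2
      rw [← hu j h1 h2, show thetaN h π t j = θ j from rfl, ← hcf]
      simp [r, hχt]
    have hinv : ∀ j, j ≤ q → ζ ^ ((q - l) * j) = (ζ ^ (j * l))⁻¹ := by
      intro j _
      refine eq_inv_of_mul_eq_one_left ?_
      rw [← pow_add, mul_comm (q - l) j, ← mul_add, Nat.sub_add_cancel hl.le, mul_comm, pow_mul,
        hζ.pow_eq_one, one_pow]
    rw [← Finset.sum_Ico_consecutive _ (Nat.zero_le 1) (by omega : 1 ≤ q),
      ← Finset.sum_Ico_consecutive _ (by omega : 1 ≤ T) (by omega : T ≤ q),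
      ← Finset.sum_Ico_consecutive _ (by omega : T ≤ T + 1) (by omega : T + 1 ≤ q),
      Nat.Ico_succ_singleton, Nat.Ico_succ_singleton, Finset.sum_singleton, Finset.sum_singleton]
    have hrefl : ∑ j ∈ Finset.Ico (T + 1) q, classInner (thetaN h π t j) (χ : G → ℂ) * ζ ^ ((q - l) * j)
        = ∑ j ∈ Finset.Ico 1 T, (u j : ℂ) * ζ ^ (j * l) := by
      refine Finset.sum_bij' (fun j _ => q - j) (fun j _ => q - j) ?_ ?_ ?_ ?_ ?_
      · intro j hj; rw [Finset.mem_Ico] at hj ⊢; omega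
      · intro j hj; rw [Finset.mem_Ico] at hj ⊢; omega
      · intro j hj; rw [Finset.mem_Ico] at hj; omega
      · intro j hj; rw [Finset.mem_Ico] at hj; omega
      · intro j hj
        rw [Finset.mem_Ico] at hj
        have e := coeff_symm h hπ hodd hM t (j := q - j) (by rw [← hq]; omega) ht hχ
        rw [← hq, show q - (q - j) = j by omega] at e
        rw [e, hpos (q - j) (by omega) (by omega), hinv j (by omega)]
        congr 1
        refine inv_eq_of_mul_eq_one_right ?_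
        rw [← pow_add, ← add_mul, show j + (q - j) = q by omega, pow_mul, hζ.pow_eq_one, one_pow]
    have hlow : ∑ j ∈ Finset.Ico 1 T, classInner (thetaN h π t j) (χ : G → ℂ) * ζ ^ ((q - l) * j)
        = ∑ j ∈ Finset.Ico 1 T, (u j : ℂ) * (ζ ^ (j * l))⁻¹ :=
      Finset.sum_congr rfl fun j hj => by
        rw [Finset.mem_Ico] at hj
        rw [hpos j hj.1 (by omega), hinv j (by omega)]
    have hmid : ζ ^ ((q - l) * T) = ζ ^ (T * l) := by
      rw [hinv T (by omega)]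
      refine inv_eq_of_mul_eq_one_right ?_
      rw [← pow_add, ← add_mul, show T + T = q by omega, pow_mul, hζ.pow_eq_one, one_pow]
    rw [hrefl, hlow, hpos T (by omega) le_rfl, hmid, thetaN_zero h t,
      show classInner (0 : G → ℂ) (χ : G → ℂ) = 0 by simp [Cfsg.classInner], zero_mul, zero_add]
    simp only [mul_add, Finset.sum_add_distrib]
    ring
  have hpowT : ∀ l : ℕ, ζ ^ (T * l) = (-1 : ℂ) ^ l := fun l => by
    have h2 : (ζ ^ T) ^ 2 = 1 := by rw [← pow_mul, show T * 2 = q by omega, hζ.pow_eq_one]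
    rcases sq_eq_one_iff.1 h2 with e | e
    · exact absurd ((hζ.pow_eq_one_iff_dvd T).1 e) (Nat.not_dvd_of_pos_of_lt (by omega) (by omega))
    · rw [pow_mul, e]
  have hsum1 : ∀ l, 0 < l → l < q → ∑ j ∈ Finset.Ico 1 T, (ζ ^ (j * l) + (ζ ^ (j * l))⁻¹)
      + ζ ^ (T * l) = -1 := by
    intro l hl0 hl
    have h0 : ∑ j ∈ Finset.range q, ζ ^ (l * j) = 0 := by
      rw [sum_root hζ, if_neg (Nat.not_dvd_of_pos_of_lt hl0 hl)]
    simp only [mul_comm l] at h0
    rw [Finset.range_eq_Ico, ← Finset.sum_Ico_consecutive _ (Nat.zero_le 1) (by omega : 1 ≤ q),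
      ← Finset.sum_Ico_consecutive _ (by omega : 1 ≤ T) (by omega : T ≤ q),
      ← Finset.sum_Ico_consecutive _ (by omega : T ≤ T + 1) (by omega : T + 1 ≤ q),
      Nat.Ico_succ_singleton, Nat.Ico_succ_singleton, Finset.sum_singleton, Finset.sum_singleton,
      zero_mul, pow_zero] at h0
    have hrefl : ∑ j ∈ Finset.Ico (T + 1) q, ζ ^ (j * l) = ∑ j ∈ Finset.Ico 1 T, (ζ ^ (j * l))⁻¹ := by
      refine Finset.sum_bij' (fun j _ => q - j) (fun j _ => q - j) ?_ ?_ ?_ ?_ ?_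
      · intro j hj; rw [Finset.mem_Ico] at hj ⊢; omega
      · intro j hj; rw [Finset.mem_Ico] at hj ⊢; omega
      · intro j hj; rw [Finset.mem_Ico] at hj; omega
      · intro j hj; rw [Finset.mem_Ico] at hj; omega
      · intro j hj
        rw [Finset.mem_Ico] at hj
        refine (inv_eq_of_mul_eq_one_right ?_).symm
        rw [← pow_add, ← add_mul, show q - j + j = q by omega, pow_mul, hζ.pow_eq_one, one_pow]
    rw [hrefl] at h0
    rw [Finset.sum_add_distrib]
    linear_combination h0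
  have hrTv : ∀ χ, χ = xa ∨ χ = xb → ∀ j, 1 ≤ j → j < T → r j χ = 0 := by
    intro χ hχ j h1 h2
    have e := hev ⟨j - 1, by omega⟩ χ
    simp only [show j - 1 + 1 = j by omega] at e
    rw [e, if_neg (by rcases hχ with rfl | rfl <;> assumption), if_neg]
    intro e2
    rcases hχ with rfl | rfl
    · exact (hd _).2.1 e2.symm
    · exact (hd _).2.2 e2.symm
  have hBset : B = {χ : Cfsg.IrrCharacter G | (χ : G → ℂ) = (fun _ => 1) ∨ χ = c ∨ χ = xa ∨ χ = xb ∨
      ∃ j, χ = d j} := by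
    ext χ
    constructor
    · intro hχ
      by_contra hcon
      simp only [Set.mem_ofPred_eq, not_or, not_exists] at hcon
      obtain ⟨hχ1, hχc, hχa, hχb, hχd⟩ := hcon
      have hχt : χ ≠ triv := fun e => hχ1 (by rw [e, htriv])
      have hz : ∀ j, 1 ≤ j → j ≤ T → r j χ = 0 := by
        intro j h1 h2
        rcases Nat.lt_or_ge j T with h3 | h3
        · have e := hev ⟨j - 1, by omega⟩ χ
          simp only [show j - 1 + 1 = j by omega] at e
          rw [e, if_neg hχc, if_neg (hχd _)]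
        · rw [show j = T by omega, hfv, if_neg hχc, if_neg hχa, if_neg hχb]
      have hJ := hvalue χ hχ hχt T (by omega) (by omega) (fun _ => 0) hz
      refine apply_J_ne_zero h hM hχ ?_
      rw [show σ ^ ((2 : ℤ) ^ k) = σ ^ T by rw [← zpow_natCast]; push_cast [T]; rfl, hJ]
      simp
    · rintro (e | rfl | rfl | rfl | ⟨j, rfl⟩)
      · rw [show χ = triv from Subtype.ext (e.trans htriv.symm)]; exact htm
      · exact hcT.2
      · exact haT.2
      · exact hbT.2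
      · exact (hdT j).2
  refine ⟨?_, c, xa, xb, d, δ, δa, δb, hδ, hδa, hδb, hdinj, hneq c hcT.1, hneq xa haT.1, hneq xb hbT.1,
    hac.symm, hbc.symm, hab, fun j => ⟨(hd j).1, (hd j).2.1, (hd j).2.2, hneq _ (hdT j).1⟩, hBset,
    fun l hl0 hl => ⟨?_, ?_, ?_, fun j => ?_⟩, fun ρ hρ j => ⟨?_, ?_⟩⟩
  · have e : B = ↑(({triv, c, xa, xb} : Finset (IrrCharacter G)) ∪ Finset.univ.image d) := by
      rw [hBset]
      ext χ
      simp only [Set.mem_ofPred_eq, Finset.coe_union, Finset.coe_insert, Finset.coe_singleton,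
        Finset.coe_image, Finset.coe_univ, Set.image_univ, Set.mem_union, Set.mem_insert_iff,
        Set.mem_singleton_iff, Set.mem_range]
      constructor
      · rintro (e | rfl | rfl | rfl | ⟨j, rfl⟩)
        · exact Or.inl (Or.inl (Subtype.ext (e.trans htriv.symm)))
        all_goals simp
      · rintro ((rfl | rfl | rfl | rfl) | ⟨j, rfl⟩)
        · exact Or.inl htriv
        all_goals simp
    rw [e, Nat.card_coe_set_eq, Set.ncard_coe_finset, Finset.card_union_of_disjoint,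
      Finset.card_image_of_injective _ hdinj, Finset.card_univ, Fintype.card_fin,
      Finset.card_insert_of_notMem, Finset.card_insert_of_notMem, Finset.card_insert_of_notMem,
      Finset.card_singleton]
    · omega
    · simpa using hab
    · simp [hac.symm, hbc.symm]
    · simp [hcT.1.symm, haT.1.symm, hbT.1.symm]
    · rw [Finset.disjoint_right]
      intro χ hχ
      obtain ⟨j, -, rfl⟩ := Finset.mem_image.1 hχ
      simp [(hdT j).1, (hd j).1, (hd j).2.1, (hd j).2.2]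
  · rw [hvalue c hcT.2 hcT.1 l hl0 hl (fun _ => δ) fun j h1 h2 => by
      rcases Nat.lt_or_ge j T with h3 | h3
      · have e := hev ⟨j - 1, by omega⟩ c
        simp only [show j - 1 + 1 = j by omega] at e
        rw [e]; simp
      · rw [show j = T by omega, hfv, if_pos rfl]]
    rw [← Finset.mul_sum, ← mul_add, hsum1 l hl0 hl]
    ring
  · rw [hvalue xa haT.2 haT.1 l hl0 hl (fun j => if j = T then δa else 0) fun j h1 h2 => by
      rcases Nat.lt_or_ge j T with h3 | h3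
      · rw [hrTv xa (Or.inl rfl) j h1 h3, if_neg (by omega)]
      · rw [show j = T by omega, hfv, if_neg hac, if_pos rfl, if_pos rfl]]
    rw [if_pos rfl, Finset.sum_eq_zero fun j hj => by
      rw [if_neg (by rw [Finset.mem_Ico] at hj; omega), Int.cast_zero, zero_mul], hpowT, pow_succ]
    ring
  · rw [hvalue xb hbT.2 hbT.1 l hl0 hl (fun j => if j = T then δb else 0) fun j h1 h2 => by
      rcases Nat.lt_or_ge j T with h3 | h3
      · rw [hrTv xb (Or.inr rfl) j h1 h3, if_neg (by omega)]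
      · rw [show j = T by omega, hfv, if_neg hbc, if_neg hab.symm, if_pos rfl, if_pos rfl]]
    rw [if_pos rfl, Finset.sum_eq_zero fun j hj => by
      rw [if_neg (by rw [Finset.mem_Ico] at hj; omega), Int.cast_zero, zero_mul], hpowT, pow_succ]
    ring
  · have hj := j.2
    rw [hvalue (d j) (hdT j).2 (hdT j).1 l hl0 hl (fun i => if i = (j : ℕ) + 1 then -δ else 0) fun i h1 h2 => by
      rcases Nat.lt_or_ge i T with h3 | h3
      · have e := hev ⟨i - 1, by omega⟩ (d j)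
        simp only [show i - 1 + 1 = i by omega] at e
        rw [e, if_neg (hd j).1]
        by_cases hij : i = (j : ℕ) + 1
        · rw [if_pos hij, if_pos (congrArg d (Fin.ext (by show (j : ℕ) = i - 1; omega)))]
        · rw [if_neg hij, if_neg fun e' => hij (by
            have := congrArg Fin.val (hdinj e')
            simp only at this
            omega)]
      · rw [show i = T by omega, hfv, if_neg (hd j).1, if_neg (hd j).2.1, if_neg (hd j).2.2,
          if_neg (by omega)]]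
    rw [if_neg (show T ≠ (j : ℕ) + 1 by omega), Finset.sum_eq_single ((j : ℕ) + 1)]
    · rw [if_pos rfl]; push_cast; ring
    · intro i _ hne; rw [if_neg hne, Int.cast_zero, zero_mul]
    · intro hn; exact absurd (Finset.mem_Ico.2 ⟨by omega, by omega⟩) hn
  · have hρ' : ¬ 2 ∣ orderOf ρ := hρ.not_two_dvd_nat
    have e := hreg T (by omega) (by omega) ρ hρ'
    rw [Finset.sum_congr rfl (g := fun χ => (if χ = c then (δ : ℂ) * (χ : G → ℂ) ρ else 0)
        + (if χ = xa then (δa : ℂ) * (χ : G → ℂ) ρ else 0)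
        + (if χ = xb then (δb : ℂ) * (χ : G → ℂ) ρ else 0)) fun χ _ => by
      rw [hfv]
      by_cases h1 : χ = c
      · subst h1; simp [hac.symm, hbc.symm]
      by_cases h2 : χ = xa
      · subst h2; simp [hac, hab]
      by_cases h3 : χ = xb
      · subst h3; simp [hbc, hab.symm]
      simp [h1, h2, h3],
      Finset.sum_add_distrib, Finset.sum_add_distrib, Finset.sum_ite_eq', Finset.sum_ite_eq',
      Finset.sum_ite_eq', if_pos (Finset.mem_univ _), if_pos (Finset.mem_univ _),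
      if_pos (Finset.mem_univ _)] at e
    linear_combination e
  · have hρ' : ¬ 2 ∣ orderOf ρ := hρ.not_two_dvd_nat
    have e := hreg ((j : ℕ) + 1) (by omega) (by have := j.2; omega) ρ hρ'
    rw [Finset.sum_congr rfl (g := fun χ => (if χ = c then (δ : ℂ) * (χ : G → ℂ) ρ else 0)
        + (if χ = d j then -(δ : ℂ) * (χ : G → ℂ) ρ else 0)) fun χ _ => by
      rw [hev]
      by_cases h1 : χ = c
      · subst h1; simp [(hd j).1.symm]
      by_cases h2 : χ = d j
      · subst h2; simp [(hd j).1]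
      simp [h1, h2],
      Finset.sum_add_distrib, Finset.sum_ite_eq', Finset.sum_ite_eq', if_pos (Finset.mem_univ _),
      if_pos (Finset.mem_univ _)] at e
    linear_combination e

end Cfsg.Agent.S4481
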