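import Cfsg.Statements.S4482
import Cfsg.Agent.Lib.Blocks.DihedralOrder

set_option autoImplicit false
open Cfsg

namespace Cfsg.Agent.S4482

open Cfsg

/-- An order formula for groups with dihedral Sylow 2-subgroups and one class of involutions. Let G be a finite group whose Sylow 2-subgroup P = ⟨σ, τ⟩ is dihedral of order 2^n ≥ 8 (σ of order 2^(n−1), τ an involution inverting σ), let J be the central involution σ^(2^(n−2)), and suppose J, τ and στ are conjugate in G. Fix M over 2 and let χ₁ be an irreducible character in the principal 2-block taking one constant value δ₁ = ±1 at every non-identity power of σ, with χ₁ ≠ 1. Then, with x₁ = χ₁(1) and c(·) denoting orders of centralizers, x₁ ≠ δ₁ and #G · (x₁ − δ₁)² = 2·x₁(x₁ + δ₁)·c(J)³·(1/c(J, τ) + 1/c(J, στ))², where c(J, y) is the order of the joint centralizer of J and y. -/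
theorem result {G : Type*} [Group G] [Finite G] (M : Ideal Cfsg.AlgInt) (hM : Cfsg.IsPModular 2 M) (n : ℕ) (hn : 3 ≤ n) (P : Sylow 2 G) (σ τ : G) (hσ : σ ∈ (P : Subgroup G)) (hτ : τ ∈ (P : Subgroup G)) (hσo : orderOf σ = 2 ^ (n - 1)) (hτo : orderOf τ = 2) (hrel : τ * σ * τ⁻¹ = σ⁻¹) (hgen : Subgroup.closure ({σ, τ} : Set G) = (P : Subgroup G)) (hconj : IsConj (σ ^ (2 ^ (n - 2))) τ ∧ IsConj (σ ^ (2 ^ (n - 2))) (σ * τ)) (χ₁ : Cfsg.IrrCharacter G) (hχ₁ : χ₁ ∈ Cfsg.principalBlock M G) (h1 : (χ₁ : G → ℂ) ≠ (fun _ => 1)) (δ₁ : ℤ) (hδ₁ : δ₁ = 1 ∨ δ₁ = -1) (hval : ∀ l : ℕ, 0 < l → l < 2 ^ (n - 1) → (χ₁ : G → ℂ) (σ ^ l) = δ₁) : (Cfsg.charDegree (χ₁ : G → ℂ) : ℤ) ≠ δ₁ ∧ (Nat.card G : ℚ) * ((Cfsg.charDegree (χ₁ : G → ℂ) : ℚ) - δ₁) ^ 2 = 2 * (Cfsg.charDegree (χ₁ : G → ℂ) : ℚ) * ((Cfsg.charDegree (χ₁ : G → ℂ) : ℚ) + δ₁) * (Nat.card (Subgroup.centralizer ({σ ^ (2 ^ (n - 2))} : Set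 G)) : ℚ) ^ 3 * (1 / (Nat.card (Subgroup.centralizer ({σ ^ (2 ^ (n - 2)), τ} : Set G)) : ℚ) + 1 / (Nat.card (Subgroup.centralizer ({σ ^ (2 ^ (n - 2)), σ * τ} : Set G)) : ℚ)) ^ 2 := by
  haveI := Fintype.ofFinite G
  obtain ⟨k, rfl⟩ : ∃ k, n = k + 2 := ⟨n - 2, by omega⟩
  have hk1 : k + 2 - 1 = k + 1 := by omega
  have hk2 : k + 2 - 2 = k := by omega
  rw [hk1] at hσo hval
  rw [hk2] at hconj ⊢
  have hττ : τ * τ = 1 := by rw [← pow_two, ← hτo, pow_orderOf_eq_one]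
  have hτi : τ⁻¹ = τ := inv_eq_of_mul_eq_one_right hττ
  have hconjz : ∀ i : ℤ, τ * σ ^ i = σ ^ (-i) * τ := by
    intro i
    rw [zpow_neg, ← inv_zpow, ← hrel, conj_zpow]
    simp [mul_assoc]
  have hgen' : ∀ x ∈ (P : Subgroup G), (∃ i : ℤ, x = σ ^ i) ∨ ∃ i : ℤ, x = σ ^ i * τ := by
    intro x hx
    rw [← hgen] at hx
    induction hx using Subgroup.closure_induction with
    | mem y hy =>
      rcases hy with rfl | rfl
      · exact Or.inl ⟨1, (zpow_one _).symm⟩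
      · exact Or.inr ⟨0, by simp⟩
    | one => exact Or.inl ⟨0, (zpow_zero _).symm⟩
    | mul a b _ _ iha ihb =>
      rcases iha with ⟨i, rfl⟩ | ⟨i, rfl⟩ <;> rcases ihb with ⟨j, rfl⟩ | ⟨j, rfl⟩
      · exact Or.inl ⟨i + j, (zpow_add _ _ _).symm⟩
      · exact Or.inr ⟨i + j, by rw [zpow_add, mul_assoc]⟩
      · exact Or.inr ⟨i + -j, by rw [mul_assoc, hconjz, ← mul_assoc, ← zpow_add]⟩
      · refine Or.inl ⟨i + -j, ?_⟩
        rw [mul_assoc (σ ^ i), ← mul_assoc τ, hconjz, mul_assoc (σ ^ (-j)), hττ, mul_one, zpow_add]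
    | inv a _ iha =>
      rcases iha with ⟨i, rfl⟩ | ⟨i, rfl⟩
      · exact Or.inl ⟨-i, (zpow_neg _ _).symm⟩
      · refine Or.inr ⟨i, ?_⟩
        rw [mul_inv_rev, hτi, ← zpow_neg, hconjz, neg_neg]
  have hnb : τ ∉ Subgroup.zpowers σ := fun hc => by
    obtain ⟨i, hi⟩ := Subgroup.mem_zpowers_iff.1 hc
    have hcm : τ * σ * τ⁻¹ = σ := by
      rw [← hi]
      group
    have h2 : σ ^ 2 = 1 := by
      rw [pow_two]
      nth_rewrite 1 [← hcm]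
      rw [hrel, inv_mul_cancel]
    have h3 := orderOf_dvd_of_pow_eq_one h2
    rw [hσo] at h3
    have h4 := Nat.le_of_dvd (by norm_num) h3
    have h5 : 2 ^ 2 ≤ 2 ^ (k + 1) := Nat.pow_le_pow_right (by norm_num) (by omega)
    omega
  have h : CfsgLib.Involution.DihedralSylow.Gen (P : Subgroup G) σ τ k :=
    ⟨hσ, hτ, hσo, hττ, hnb, hrel, hgen'⟩
  have hJ : σ ^ (2 ^ k) = σ ^ ((2 : ℤ) ^ k) := by
    rw [← zpow_natCast]
    push_cast
    rfl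
  have hval' : ∀ i : ℤ, σ ^ i ≠ 1 → (χ₁ : G → ℂ) (σ ^ i) = (δ₁ : ℂ) := by
    intro i hi
    obtain ⟨l, hl, e⟩ : ∃ l : ℕ, l < 2 ^ (k + 1) ∧ σ ^ l = σ ^ i := by
      have hm := zpow_mod_orderOf σ i
      rw [hσo] at hm
      have h0 : 0 ≤ i % ((2 ^ (k + 1) : ℕ) : ℤ) := Int.emod_nonneg _ (by positivity)
      have h1' : i % ((2 ^ (k + 1) : ℕ) : ℤ) < ((2 ^ (k + 1) : ℕ) : ℤ) :=
        Int.emod_lt_of_pos _ (by positivity)
      refine ⟨(i % ((2 ^ (k + 1) : ℕ) : ℤ)).toNat, by omega, ?_⟩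
      rw [← zpow_natCast, Int.toNat_of_nonneg h0, hm]
    rw [← e]
    refine hval l (Nat.pos_of_ne_zero fun hl0 => hi ?_) hl
    rw [← e, hl0, pow_zero]
  rw [hJ] at hconj ⊢
  obtain ⟨hne, hf⟩ := CfsgLib.Blocks.DihedralOrder.order_formula hM h (by omega) hconj.1 hconj.2
    χ₁ hχ₁ h1 (δ₁ : ℂ) (by rcases hδ₁ with rfl | rfl <;> simp) hval'
  rw [CfsgLib.Blocks.irr_one_eq] at hne hf
  refine ⟨fun e => hne ?_, ?_⟩
  · exact_mod_cast e
  · apply Rat.cast_injective (α := ℂ)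
    push_cast
    exact hf

end Cfsg.Agent.S4482
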