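import Cfsg.Statements.S1465
import Cfsg.Agent.Lib.OddOrder.PStable

set_option autoImplicit false
open Cfsg
open scoped commutatorElement

namespace Cfsg.Agent.S1465

theorem centralizer_pGroup {G : Type*} [Group G] [Finite G] [Group.IsSolvable G] (p : ℕ) [Fact p.Prime]
    (P : Subgroup G) [P.Normal] (hP : IsPGroup p P) (hO : Cfsg.pPrimeCore p G = ⊥)
    (hC : Cfsg.pCore p G ⊓ Subgroup.centralizer (P : Set G) ≤ P) :
    IsPGroup p (Subgroup.centralizer (P : Set G)) := by
  set C := Subgroup.centralizer (P : Set G) with hCdef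
  have hO' : Cfsg.pPrimeCore p C = ⊥ := by
    have h1 : ((Cfsg.pPrimeCore p C).map C.subtype) ≤ Cfsg.pPrimeCore p G := by
      haveI : (Cfsg.pPrimeCore p C).Characteristic := inferInstance
      refine CfsgLib.Solvable.Cores.le_pPrimeCore ?_
      rw [Subgroup.card_map_of_injective C.subtype_injective]
      exact CfsgLib.Solvable.Cores.coprime_card_pPrimeCore p
    rw [hO, le_bot_iff, Subgroup.map_eq_bot_iff_of_injective _ C.subtype_injective] at h1
    exact h1
  have hle : Cfsg.pCore p C ≤ P.subgroupOf C := by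
    intro x hx
    rw [Subgroup.mem_subgroupOf]
    haveI : ((Cfsg.pCore p C).map C.subtype).Normal := by
      haveI : (Cfsg.pCore p C).Characteristic := inferInstance
      infer_instance
    exact hC ⟨CfsgLib.Solvable.Cores.le_pCore ((CfsgLib.Solvable.Cores.isPGroup_pCore p).map C.subtype) ⟨x, hx, rfl⟩, x.2⟩
  have hcent : Subgroup.centralizer (Cfsg.pCore p C : Set C) = ⊤ := by
    rw [eq_top_iff]
    intro c _
    rw [Subgroup.mem_centralizer_iff]
    intro x hx
    exact Subtype.ext (Subgroup.mem_centralizer_iff.mp c.2 x (hle hx))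
  have hF := CfsgLib.Solvable.Cores.centralizer_fittingSubgroup_le (G := C)
  rw [CfsgLib.Solvable.Cores.fittingSubgroup_eq_pCore p hO', hcent] at hF
  exact (IsPGroup.of_equiv ((CfsgLib.Solvable.Cores.isPGroup_pCore p).to_le hF) Subgroup.topEquiv)


/-- Let p be an odd prime, G a solvable group of odd order, P a normal p-subgroup of G, and X the subgroup generated by a family of abelian p-subgroups of G each normalized by P. Then the image of X in G/C_G(P) lies in O_p(G/C_G(P)); and if O_{p'}(G) = 1 and O_p(G) ∩ C_G(P) ≤ P then X ≤ O_p(G). -/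
theorem result {G : Type*} [Group G] [Finite G] [Group.IsSolvable G] (hodd : Odd (Nat.card G)) (p : ℕ) [Fact p.Prime] (hp : p ≠ 2) (P : Subgroup G) [P.Normal] (hP : IsPGroup p P)
    (S : Set (Subgroup G)) (hS : ∀ B ∈ S, IsMulCommutative B ∧ IsPGroup p B ∧ P ≤ Subgroup.normalizer (B : Set G)) :
    (sSup S).map (QuotientGroup.mk' (Subgroup.centralizer (P : Set G))) ≤ Cfsg.pCore p (G ⧸ Subgroup.centralizer (P : Set G)) ∧
      (Cfsg.pPrimeCore p G = ⊥ → Cfsg.pCore p G ⊓ Subgroup.centralizer (P : Set G) ≤ P → sSup S ≤ Cfsg.pCore p G) := by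
  have h1 : (sSup S).map (QuotientGroup.mk' (Subgroup.centralizer (P : Set G))) ≤
      Cfsg.pCore p (G ⧸ Subgroup.centralizer (P : Set G)) := by
    rw [Subgroup.map_le_iff_le_comap]
    refine sSup_le fun B hB => ?_
    haveI := (hS B hB).1
    rw [← Subgroup.map_le_iff_le_comap]
    exact CfsgLib.OddOrder.PStable.map_le_pCore hodd P hP _ rfl B
      (CfsgLib.OddOrder.PStable.commutator_commutator_of_abelian (hS B hB).2.2)
  refine ⟨h1, fun hO hC => ?_⟩
  set C := Subgroup.centralizer (P : Set G) with hCdef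
  set D := (Cfsg.pCore p (G ⧸ C)).comap (QuotientGroup.mk' C) with hD
  refine le_trans (Subgroup.map_le_iff_le_comap.mp h1) ?_
  refine CfsgLib.Solvable.Cores.le_pCore ?_
  have hCp : IsPGroup p C := centralizer_pGroup p P hP hO hC
  exact IsPGroup.comap_of_ker_isPGroup (CfsgLib.Solvable.Cores.isPGroup_pCore p) _ (by rwa [QuotientGroup.ker_mk'])

end Cfsg.Agent.S1465
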