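import Cfsg.Statements.S1467
import Mathlib.Tactic.Ring


set_option autoImplicit false
open Cfsg

namespace Cfsg.Agent.S1467

theorem puigStep_anti {G : Type*} [Group G] {X Y : Subgroup G} (h : X ≤ Y) :
    puigStep Y ≤ puigStep X :=
  sSup_le_sSup fun _ hA => ⟨hA.1, le_trans h hA.2⟩

theorem puigStep_bot {G : Type*} [Group G] : puigStep (⊥ : Subgroup G) = ⊤ :=
  eq_top_iff.mpr fun x _ =>
    le_sSup (s := {A : Subgroup G | IsMulCommutative A ∧ (⊥ : Subgroup G) ≤ Subgroup.normalizer (A : Set G)})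
      ⟨inferInstance, bot_le⟩ (Subgroup.mem_zpowers x)

theorem even_le {G : Type*} [Group G] (k : ℕ) :
    puigSeq G (2 * k) ≤ puigSeq G (2 * (k + 1)) ∧ puigSeq G (2 * (k + 1) + 1) ≤ puigSeq G (2 * k + 1) := by
  have e : ∀ j, puigSeq G (j + 1) = puigStep (puigSeq G j) := fun j => rfl
  induction k with
  | zero =>
    refine ⟨(bot_le : (⊥ : Subgroup G) ≤ _), ?_⟩
    rw [e (2 * (0 + 1)), e (2 * 0)]
    exact puigStep_anti (bot_le : (⊥ : Subgroup G) ≤ _)
  | succ k ih =>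
    have h1 : puigSeq G (2 * (k + 1)) ≤ puigSeq G (2 * (k + 1 + 1)) := by
      have e1 : 2 * (k + 1 + 1) = 2 * (k + 1) + 1 + 1 := by ring
      rw [e1, e (2 * (k + 1) + 1)]
      conv_lhs => rw [show 2 * (k + 1) = 2 * k + 1 + 1 by ring, e (2 * k + 1)]
      exact puigStep_anti ih.2
    refine ⟨h1, ?_⟩
    rw [e (2 * (k + 1 + 1)), e (2 * (k + 1))]
    exact puigStep_anti h1

theorem even_le_succ {G : Type*} [Group G] (k : ℕ) : puigSeq G (2 * k) ≤ puigSeq G (2 * k + 1) := by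
  induction k with
  | zero => exact (bot_le : (⊥ : Subgroup G) ≤ _)
  | succ k ih =>
    have e : ∀ j, puigSeq G (j + 1) = puigStep (puigSeq G j) := fun j => rfl
    have h1 : puigSeq G (2 * (k + 1)) ≤ puigSeq G (2 * k + 1) := by
      rw [show 2 * (k + 1) = 2 * k + 1 + 1 by ring, e (2 * k + 1), e (2 * k)]
      exact puigStep_anti (by rwa [← e (2 * k)])
    rw [e (2 * (k + 1))]
    conv_lhs => rw [show 2 * (k + 1) = 2 * k + 1 + 1 by ring, e (2 * k + 1)]
    exact puigStep_anti h1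


/-- Let G be a finite group with Puig series L_n(G). Then L_0 = 1, L_1 = G; L_{2n} ≤ L_{2n+2} ≤ L_{2m+3} ≤ L_{2m+1} for all n, m; there is k with L_{2n}(G) = L_*(G) and L_{2n+1}(G) = L(G) for all n ≥ k; L_*(G) ≤ L(G); and applying one Puig step to L_*(G) gives L(G) and to L(G) gives L_*(G). -/
theorem result {G : Type*} [Group G] [Finite G] :
    Cfsg.puigSeq G 0 = ⊥ ∧ Cfsg.puigSeq G 1 = ⊤ ∧
      (∀ n m : ℕ, Cfsg.puigSeq G (2 * n) ≤ Cfsg.puigSeq G (2 * n + 2) ∧ Cfsg.puigSeq G (2 * n) ≤ Cfsg.puigSeq G (2 * m + 1) ∧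
        Cfsg.puigSeq G (2 * m + 3) ≤ Cfsg.puigSeq G (2 * m + 1)) ∧
      (∃ k : ℕ, ∀ n : ℕ, k ≤ n → Cfsg.puigSeq G (2 * n) = Cfsg.puigLower G ∧ Cfsg.puigSeq G (2 * n + 1) = Cfsg.puigSubgroup G) ∧
      Cfsg.puigLower G ≤ Cfsg.puigSubgroup G ∧
      Cfsg.puigStep (Cfsg.puigLower G) = Cfsg.puigSubgroup G ∧ Cfsg.puigStep (Cfsg.puigSubgroup G) = Cfsg.puigLower G := by
  have h0 : puigSeq G 0 = ⊥ := rfl
  have hs : ∀ k, puigSeq G (k + 1) = puigStep (puigSeq G k) := fun k => rfl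
  have h1 : puigSeq G 1 = ⊤ := puigStep_bot
  have hmono : Monotone (fun k => puigSeq G (2 * k)) := monotone_nat_of_le_succ fun k => (even_le k).1
  have hanti : Antitone (fun k => puigSeq G (2 * k + 1)) := antitone_nat_of_succ_le fun k => (even_le k).2
  have hle : ∀ k m, puigSeq G (2 * k) ≤ puigSeq G (2 * m + 1) := by
    intro k m
    rcases le_total k m with h | h
    · exact le_trans (hmono h) (even_le_succ m)
    · exact le_trans (even_le_succ k) (hanti h)
  obtain ⟨N, hN⟩ := WellFoundedGT.monotone_chain_condition ⟨fun k => puigSeq G (2 * k), hmono⟩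
  simp only [OrderHom.coe_mk] at hN
  have hodd : ∀ k, N ≤ k → puigSeq G (2 * k + 1) = puigSeq G (2 * N + 1) := by
    intro k hk
    rw [hs, hs, hN k hk]
  have hL : puigLower G = puigSeq G (2 * N) := by
    refine le_antisymm (iSup_le fun k => ?_) (le_iSup (fun k => puigSeq G (2 * k)) N)
    rcases le_total N k with h | h
    · exact (hN k h).ge
    · exact hmono h
  have hU : puigSubgroup G = puigSeq G (2 * N + 1) := by
    refine le_antisymm (iInf_le (fun k => puigSeq G (2 * k + 1)) N) (le_iInf fun k => ?_)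
    rcases le_total N k with h | h
    · exact (hodd k h).ge
    · exact hanti h
  have hab : ∀ k m, puigSeq G (2 * k) ≤ puigSeq G (2 * k + 2) ∧ puigSeq G (2 * k) ≤ puigSeq G (2 * m + 1) ∧
      puigSeq G (2 * m + 3) ≤ puigSeq G (2 * m + 1) := by
    intro k m
    refine ⟨?_, hle k m, ?_⟩
    · have h := hmono (Nat.le_succ k)
      rwa [show 2 * k + 2 = 2 * (k + 1) by ring]
    · have h := hanti (Nat.le_succ m)
      rwa [show 2 * m + 3 = 2 * (m + 1) + 1 by ring]
  refine ⟨h0, h1, hab,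
    ⟨N, fun k hk => ⟨?_, ?_⟩⟩, ?_, ?_, ?_⟩
  · rw [hL]; exact (hN k hk).symm
  · rw [hU]; exact hodd k hk
  · rw [hL, hU]; exact hle N N
  · rw [hL, hU, hs]
  · rw [hL, hU, ← hs]
    rw [show 2 * N + 1 + 1 = 2 * (N + 1) by ring]
    exact (hN (N + 1) (Nat.le_succ N)).symm

end Cfsg.Agent.S1467
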