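import Cfsg.Statements.S1458
import Cfsg.Agent.Lib.OddOrder.ZJ
import Cfsg.Agent.Lib.Components.PComponents
-- import your own Cfsg.Agent.* helpers here

set_option autoImplicit false
open Cfsg
open CfsgLib CfsgLib.OddOrder

namespace Cfsg.Agent.S1458

/-- Let G be a solvable group of odd order, p a prime and S a Sylow p-subgroup of G. Then the subgroup generated by the centre of the Thompson subgroup of S and O_{p'}(G) is normal in G. -/
theorem result {G : Type*} [Group G] [Finite G] [Group.IsSolvable G] (hodd : Odd (Nat.card G)) (p : ℕ) [Fact p.Prime] (S : Sylow p G) :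
    (Cfsg.centerThompsonOf p (S : Subgroup G) ⊔ Cfsg.pPrimeCore p G).Normal := by
  by_cases hp : p = 2
  · subst hp
    have htop : Cfsg.pPrimeCore 2 G = ⊤ := eq_top_iff.mpr (Solvable.Cores.le_pPrimeCore (by
      rw [Subgroup.card_top]
      exact Nat.coprime_two_right.mpr hodd))
    rw [htop, sup_top_eq]
    infer_instance
  set O := Cfsg.pPrimeCore p G with hOdef
  set q := QuotientGroup.mk' O with hq
  have hqs : Function.Surjective q := QuotientGroup.mk'_surjective O
  set S' := S.mapSurjective hqs with hS'
  set f : ↥(S : Subgroup G) →* G ⧸ O := q.comp (S : Subgroup G).subtype with hf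
  have hfi : Function.Injective f := by
    rw [← MonoidHom.ker_eq_bot_iff, Subgroup.eq_bot_iff_forall]
    intro x hx
    have hd1 : orderOf x ∣ Nat.card O := by
      rw [← Subgroup.orderOf_coe x]
      exact Subgroup.orderOf_dvd_natCard _ ((QuotientGroup.eq_one_iff _).mp hx)
    obtain ⟨k, hk⟩ := S.isPGroup' x
    exact orderOf_eq_one_iff.mp (Nat.eq_one_of_dvd_coprimes
      ((Solvable.Cores.coprime_card_pPrimeCore (G := G) p).pow_right k) hd1 (orderOf_dvd_of_pow_eq_one hk))
  set J := Cfsg.thompsonSubgroup p ↥(S : Subgroup G) with hJ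
  have hJ' : Cfsg.thompsonSubgroupOf p (S' : Subgroup (G ⧸ O)) = J.map f := by
    have hrange : f.range = (S' : Subgroup (G ⧸ O)) := by
      rw [hf, MonoidHom.range_comp, Subgroup.range_subtype]; rfl
    rw [← hrange, Cfsg.thompsonSubgroupOf, ← Fusion.Thompson.map_thompson_equiv (MonoidHom.ofInjective hfi),
      Subgroup.map_map]
    rfl
  have hZq : (Cfsg.centerThompsonOf p (S : Subgroup G)).map q =
      Cfsg.centerThompsonOf p (S' : Subgroup (G ⧸ O)) := by
    have e1 := Puig.map_center_map (S : Subgroup G).subtype (S : Subgroup G).subtype_injective J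
    have e2 := Puig.map_center_map f hfi J
    rw [Cfsg.centerThompsonOf, Cfsg.centerThompsonOf, Cfsg.thompsonSubgroupOf, ← hJ, ← e1, Subgroup.map_map,
      ← hf, hJ']
    exact e2
  have hodd' : Odd (Nat.card (G ⧸ O)) :=
    Odd.of_dvd_nat hodd (Subgroup.card_quotient_dvd_card O)
  have hn : ((Cfsg.centerThompsonOf p (S : Subgroup G)).map q).Normal := by
    rw [hZq]
    exact ZJ.centerThompson_normal hodd' hp Components.pPrimeCore_quotient_eq_bot S'
  have hM := hn.comap q
  rwa [Subgroup.comap_map_eq, QuotientGroup.ker_mk'] at hM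

end Cfsg.Agent.S1458
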