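import Cfsg.Statements.S3971
import Cfsg.Agent.Lib.Frobenius.FrattiniAction
import Cfsg.Agent.Lib.Fusion.Alperin

set_option autoImplicit false
open Cfsg

namespace Cfsg.Agent.S3971

/-- Let `G` be a finite group of order `2 ^ a * n` with `n` odd and not divisible by `3`, and suppose `G` has an element of order `2 ^ (a - 1)` (so a Sylow `2`-subgroup has a cyclic subgroup of index at most `2`). Then `G` has a normal subgroup of order `n`. -/
theorem result {G : Type*} [Group G] [Finite G] (a n : ℕ) (hG : Nat.card G = 2 ^ a * n) (hn : Odd n) (h3 : ¬ 3 ∣ n) (hx : ∃ x : G, orderOf x = 2 ^ (a - 1)) : ∃ N : Subgroup G, N.Normal ∧ Nat.card N = n := by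
  classical
  have : Fact (Nat.Prime 2) := ⟨Nat.prime_two⟩
  obtain ⟨x, hx⟩ := hx
  obtain ⟨P, hP⟩ := (IsPGroup.of_card (p := 2) (n := a - 1)
    (by rw [Nat.card_zpowers, hx] : Nat.card (Subgroup.zpowers x) = 2 ^ (a - 1))).exists_le_sylow
  have hn0 : n ≠ 0 := fun h => by simp [h] at hn
  have hn2 : ¬ 2 ∣ n := fun h => Nat.not_even_iff_odd.2 hn (even_iff_two_dvd.2 h)
  have hPc : Nat.card (P : Subgroup G) = 2 ^ a := by
    rw [P.card_eq_multiplicity, hG, Nat.factorization_mul (pow_ne_zero _ two_ne_zero) hn0,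
      Finsupp.add_apply, Nat.prime_two.factorization_pow,
      Nat.factorization_eq_zero_of_not_dvd hn2]
    simp
  set C := Subgroup.zpowers x with hC
  have hi : C.relIndex (P : Subgroup G) ∣ 2 := by
    have h1 : Nat.card C * C.relIndex (P : Subgroup G) = 2 ^ a := by
      rw [← hPc, Subgroup.relIndex, ← Nat.card_congr (Subgroup.subgroupOfEquivOfLe hP).toEquiv,
        Subgroup.card_mul_index]
    rw [hC, Nat.card_zpowers, hx] at h1
    refine ⟨2 ^ 1 / C.relIndex (P : Subgroup G), ?_⟩
    rcases Nat.eq_zero_or_pos a with rfl | ha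
    · have : C.relIndex (P : Subgroup G) = 1 := by simpa using h1
      simp [this]
    · have : C.relIndex (P : Subgroup G) = 2 := by
        refine Nat.eq_of_mul_eq_mul_left (pow_pos two_pos (a - 1)) (h1.trans ?_)
        rw [← pow_succ, Nat.sub_add_cancel ha]
      simp [this]
  have hnpc : Cfsg.HasNormalPComplement 2 G := by
    refine CfsgLib.Fusion.Alperin.npc_of_frobenius P fun Q hQ g hg ho => ?_
    have hQ2 : IsPGroup 2 Q := P.2.to_le hQ
    refine CfsgLib.Frobenius.FrattiniAction.centralizes hQ2 2 ?_ hg ho fun q hq hqd i h1 h2 => ?_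
    · obtain ⟨c, hc⟩ := (Subgroup.isCyclic_of_le (inf_le_right : Q ⊓ C ≤ C)).exists_generator
      by_cases hQC : Q ≤ C
      · refine CfsgLib.Frobenius.FrattiniAction.card_frattini_quotient_le_four hQ2
          ⟨c, c.2.1⟩ 1 (eq_top_iff.2 fun y _ => ?_)
        obtain ⟨j, hj⟩ := Subgroup.mem_zpowers_iff.1 (hc ⟨y, y.2, hQC y.2⟩)
        have : y = (⟨c, c.2.1⟩ : Q) ^ j := Subtype.ext (by
          have := congrArg Subtype.val hj; simpa using this.symm)
        exact this ▸ zpow_mem (Subgroup.subset_closure (by simp)) j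
      · obtain ⟨u, huQ, huC⟩ := SetLike.not_le_iff_exists.1 hQC
        refine CfsgLib.Frobenius.FrattiniAction.card_frattini_quotient_le_four hQ2
          ⟨c, c.2.1⟩ ⟨u, huQ⟩ (eq_top_iff.2 fun y _ => ?_)
        set S : Subgroup Q := Subgroup.closure {⟨c, c.2.1⟩, ⟨u, huQ⟩}
        have hS : ∀ z : Q, (z : G) ∈ C → z ∈ S := fun z hz => by
          obtain ⟨j, hj⟩ := Subgroup.mem_zpowers_iff.1 (hc ⟨z, z.2, hz⟩)
          have : z = (⟨c, c.2.1⟩ : Q) ^ j := Subtype.ext (by
            have := congrArg Subtype.val hj; simpa using this.symm)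
          exact this ▸ zpow_mem (Subgroup.subset_closure (by simp)) j
        by_cases hy : (y : G) ∈ C
        · exact hS y hy
        · have hi2 : (C.subgroupOf (P : Subgroup G)).index = 2 := by
            refine ((Nat.dvd_prime Nat.prime_two).1 hi).resolve_left fun h1 => huC ?_
            exact Subgroup.relIndex_eq_one.1 h1 (hQ huQ)
          have h3 := (Subgroup.mul_mem_iff_of_index_two hi2 (a := (⟨u, hQ huQ⟩ : (P : Subgroup G))⁻¹)
            (b := ⟨y, hQ y.2⟩)).2 (by simp [Subgroup.mem_subgroupOf, huC, hy])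
          rw [← mul_inv_cancel_left (⟨u, huQ⟩ : Q) y]
          exact mul_mem (Subgroup.subset_closure (by simp)) (hS _ h3)
    · have hq2 : q ≠ 2 := fun e => Nat.not_even_iff_odd.2 (Nat.coprime_two_right.1 ho)
        (even_iff_two_dvd.2 (e ▸ hqd))
      intro hd
      have hqn : q ∣ n := by
        have := hqd.trans (orderOf_dvd_natCard g)
        rw [hG] at this
        exact (hq.dvd_mul.1 this).resolve_left fun h =>
          hq2 ((Nat.prime_dvd_prime_iff_eq hq Nat.prime_two).1 (hq.dvd_of_dvd_pow h))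
      interval_cases i
      · norm_num at hd; exact hq.ne_one hd
      · norm_num at hd
        exact h3 ((Nat.prime_dvd_prime_iff_eq hq Nat.prime_three).1 hd ▸ hqn)
  obtain ⟨S, N, hN, hc⟩ := hnpc
  refine ⟨N, hN, ?_⟩
  have h1 := hc.card_mul_card
  rw [Nat.card_congr (S.equiv P).toEquiv, hPc, hG, mul_comm (2 ^ a)] at h1
  exact Nat.eq_of_mul_eq_mul_right (pow_pos two_pos a) h1

end Cfsg.Agent.S3971
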