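import Cfsg.Statements.S3374
import Cfsg.Agent.Lib.FrobRealize.Basic
import Mathlib

set_option autoImplicit false
open Cfsg

namespace Cfsg.Agent.S3374

abbrev Q := ℕ × ℕ × ℕ × ℕ

def table : List ((ℕ × ℕ × ℕ × ℕ) × (ℕ × ℕ × ℕ × ℕ)) := [
  ((0, 1, 4, 0), (8, 7, 8, 3)),
  ((0, 1, 4, 1), (9, 3, 5, 3)),
  ((0, 1, 4, 2), (8, 2, 7, 6)),
  ((0, 1, 4, 3), (4, 3, 5, 4)),
  ((0, 1, 4, 4), (4, 7, 8, 6)),
  ((0, 2, 2, 0), (0, 7, 3, 0)),
  ((0, 2, 2, 1), (10, 4, 2, 2)),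
  ((0, 2, 2, 2), (4, 10, 0, 3)),
  ((0, 2, 2, 3), (7, 0, 9, 8)),
  ((0, 2, 2, 4), (1, 1, 8, 9)),
  ((0, 3, 3, 0), (0, 4, 8, 0)),
  ((0, 3, 3, 1), (10, 10, 3, 2)),
  ((0, 3, 3, 2), (4, 0, 2, 3)),
  ((0, 3, 3, 3), (7, 1, 0, 8)),
  ((0, 3, 3, 4), (1, 7, 9, 9)),
  ((0, 4, 1, 0), (3, 4, 3, 8)),
  ((0, 4, 1, 1), (7, 4, 3, 5)),
  ((0, 4, 1, 2), (7, 8, 6, 7)),
  ((0, 4, 1, 3), (3, 9, 4, 5)),
  ((0, 4, 1, 4), (2, 8, 6, 8)),
  ((1, 0, 0, 1), (1, 0, 0, 1)),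
  ((1, 0, 1, 1), (3, 5, 2, 0)),
  ((1, 0, 2, 1), (8, 4, 6, 10)),
  ((1, 0, 3, 1), (10, 7, 5, 8)),
  ((1, 0, 4, 1), (0, 6, 9, 3)),
  ((1, 1, 0, 1), (0, 1, 10, 3)),
  ((1, 1, 1, 2), (6, 7, 0, 2)),
  ((1, 1, 2, 3), (7, 9, 1, 3)),
  ((1, 1, 3, 4), (4, 9, 3, 7)),
  ((1, 1, 4, 0), (5, 7, 8, 7)),
  ((1, 2, 0, 1), (10, 3, 8, 8)),
  ((1, 2, 1, 3), (4, 5, 9, 6)),
  ((1, 2, 2, 0), (2, 1, 8, 10)),
  ((1, 2, 3, 2), (2, 9, 4, 2)),
  ((1, 2, 4, 4), (4, 4, 4, 7)),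
  ((1, 3, 0, 1), (8, 8, 3, 10)),
  ((1, 3, 1, 4), (6, 8, 5, 5)),
  ((1, 3, 2, 2), (10, 5, 1, 5)),
  ((1, 3, 3, 0), (2, 7, 9, 10)),
  ((1, 3, 4, 3), (7, 5, 4, 3)),
  ((1, 4, 0, 1), (3, 10, 1, 0)),
  ((1, 4, 1, 0), (3, 8, 6, 9)),
  ((1, 4, 2, 4), (6, 3, 6, 5)),
  ((1, 4, 3, 3), (4, 1, 1, 6)),
  ((1, 4, 4, 2), (6, 0, 8, 2)),
  ((2, 0, 0, 3), (10, 1, 9, 1)),
  ((2, 0, 1, 3), (9, 6, 1, 2)),
  ((2, 0, 2, 3), (9, 8, 9, 2)),
  ((2, 0, 3, 3), (10, 6, 7, 1)),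
  ((2, 0, 4, 3), (6, 1, 7, 5)),
  ((2, 1, 0, 3), (6, 2, 9, 5)),
  ((2, 1, 1, 1), (2, 0, 3, 6)),
  ((2, 1, 2, 4), (8, 9, 1, 4)),
  ((2, 1, 3, 2), (10, 8, 4, 0)),
  ((2, 1, 4, 0), (7, 3, 5, 7)),
  ((2, 2, 0, 3), (10, 2, 10, 1)),
  ((2, 2, 1, 4), (5, 5, 9, 7)),
  ((2, 2, 2, 0), (3, 0, 9, 4)),
  ((2, 2, 3, 1), (5, 6, 10, 10)),
  ((2, 2, 4, 2), (10, 9, 6, 0)),
  ((2, 3, 0, 3), (9, 1, 6, 2)),
  ((2, 3, 1, 2), (0, 2, 5, 10)),
  ((2, 3, 2, 1), (2, 2, 7, 2)),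
  ((2, 3, 3, 0), (3, 1, 0, 4)),
  ((2, 3, 4, 4), (8, 5, 4, 4)),
  ((2, 4, 0, 3), (9, 5, 10, 2)),
  ((2, 4, 1, 0), (6, 9, 4, 8)),
  ((2, 4, 2, 2), (0, 3, 7, 10)),
  ((2, 4, 3, 4), (5, 1, 1, 7)),
  ((2, 4, 4, 1), (2, 4, 0, 6)),
  ((3, 0, 0, 2), (1, 10, 2, 10)),
  ((3, 0, 1, 2), (5, 10, 4, 6)),
  ((3, 0, 2, 2), (1, 5, 4, 10)),
  ((3, 0, 3, 2), (2, 3, 2, 9)),
  ((3, 0, 4, 2), (2, 5, 10, 9)),
  ((3, 1, 0, 2), (2, 6, 1, 9)),
  ((3, 1, 1, 4), (9, 7, 0, 5)),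
  ((3, 1, 2, 1), (6, 10, 10, 4)),
  ((3, 1, 3, 3), (0, 8, 4, 1)),
  ((3, 1, 4, 0), (5, 2, 7, 3)),
  ((3, 2, 0, 2), (2, 10, 5, 9)),
  ((3, 2, 1, 1), (3, 6, 7, 7)),
  ((3, 2, 2, 0), (8, 10, 0, 7)),
  ((3, 2, 3, 4), (9, 9, 4, 9)),
  ((3, 2, 4, 3), (0, 9, 6, 1)),
  ((3, 3, 0, 2), (1, 9, 1, 10)),
  ((3, 3, 1, 3), (1, 2, 5, 0)),
  ((3, 3, 2, 4), (6, 5, 1, 1)),
  ((3, 3, 3, 0), (8, 0, 2, 7)),
  ((3, 3, 4, 1), (6, 6, 2, 4)),
  ((3, 4, 0, 2), (5, 9, 2, 6)),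
  ((3, 4, 1, 0), (4, 8, 6, 4)),
  ((3, 4, 2, 3), (1, 3, 7, 0)),
  ((3, 4, 3, 1), (3, 2, 10, 7)),
  ((3, 4, 4, 4), (9, 0, 8, 5)),
  ((4, 0, 0, 4), (10, 0, 0, 10)),
  ((4, 0, 1, 4), (0, 5, 2, 8)),
  ((4, 0, 2, 4), (1, 4, 6, 3)),
  ((4, 0, 3, 4), (3, 7, 5, 1)),
  ((4, 0, 4, 4), (8, 6, 9, 0)),
  ((4, 1, 0, 4), (8, 1, 10, 0)),
  ((4, 1, 1, 3), (5, 0, 3, 9)),
  ((4, 1, 2, 2), (7, 10, 10, 5)),
  ((4, 1, 3, 1), (5, 8, 5, 6)),
  ((4, 1, 4, 0), (8, 3, 5, 2)),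
  ((4, 2, 0, 4), (3, 3, 8, 1)),
  ((4, 2, 1, 2), (4, 6, 7, 8)),
  ((4, 2, 2, 0), (9, 4, 2, 1)),
  ((4, 2, 3, 3), (1, 6, 10, 6)),
  ((4, 2, 4, 1), (5, 3, 6, 6)),
  ((4, 3, 0, 4), (1, 8, 3, 3)),
  ((4, 3, 1, 1), (7, 7, 7, 4)),
  ((4, 3, 2, 3), (9, 2, 7, 9)),
  ((4, 3, 3, 0), (9, 10, 3, 1)),
  ((4, 3, 4, 2), (7, 6, 2, 5)),
  ((4, 4, 0, 4), (0, 10, 1, 8)),
  ((4, 4, 1, 0), (6, 4, 3, 4)),
  ((4, 4, 2, 1), (7, 2, 8, 4)),
  ((4, 4, 3, 2), (4, 2, 10, 8)),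
  ((4, 4, 4, 3), (5, 4, 0, 9))]

instance decQ : DecidableEq Q := inferInstance

def lookupQ (a : Q) : List (Q × Q) → Q
  | [] => (0, 0, 0, 0)
  | (k, v) :: t => if k = a then v else lookupQ a t

def fq (a : Q) : Q := lookupQ a table

def mulQ (p : ℕ) (a b : Q) : Q :=
  ((a.1 * b.1 + a.2.1 * b.2.2.1) % p, (a.1 * b.2.1 + a.2.1 * b.2.2.2) % p,
   (a.2.2.1 * b.1 + a.2.2.2 * b.2.2.1) % p, (a.2.2.1 * b.2.1 + a.2.2.2 * b.2.2.2) % p)

set_option maxRecDepth 100000 in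
set_option synthInstance.maxSize 5000 in
set_option synthInstance.maxHeartbeats 400000 in
theorem check : ∀ a < 5, ∀ b < 5, ∀ c < 5, ∀ d < 5, (a * d + 4 * b * c) % 5 = 1 →
    ((fq (a, b, c, d)).1 * (fq (a, b, c, d)).2.2.2 + 10 * (fq (a, b, c, d)).2.1 * (fq (a, b, c, d)).2.2.1) % 11 = 1 ∧
    fq (mulQ 5 (a, b, c, d) (1, 1, 0, 1)) = mulQ 11 (fq (a, b, c, d)) (0, 1, 10, 3) ∧
    fq (mulQ 5 (a, b, c, d) (1, 0, 1, 1)) = mulQ 11 (fq (a, b, c, d)) (3, 5, 2, 0) ∧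
    (fq (a, b, c, d) = (1, 0, 0, 1) → (a, b, c, d) = (1, 0, 0, 1)) := by decide +kernel

def matQ (p : ℕ) (a : Q) : Matrix (Fin 2) (Fin 2) (ZMod p) :=
  !![(a.1 : ZMod p), a.2.1; a.2.2.1, a.2.2.2]

theorem matQ_mul (p : ℕ) (a b : Q) : matQ p (mulQ p a b) = matQ p a * matQ p b := by
  ext i j
  fin_cases i <;> fin_cases j <;> simp [matQ, mulQ, Matrix.mul_apply, Fin.sum_univ_two, ZMod.natCast_mod]

abbrev SL5 := Matrix.SpecialLinearGroup (Fin 2) (ZMod 5)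
abbrev SL11 := Matrix.SpecialLinearGroup (Fin 2) (ZMod 11)

def key (g : SL5) : Q := ((g.1 0 0).val, (g.1 0 1).val, (g.1 1 0).val, (g.1 1 1).val)

theorem matQ_key (g : SL5) : matQ 5 (key g) = g.1 := by
  ext i j
  fin_cases i <;> fin_cases j <;> simp [matQ, key]

theorem key_spec (g : SL5) :
    ((fq (key g)).1 * (fq (key g)).2.2.2 + 10 * (fq (key g)).2.1 * (fq (key g)).2.2.1) % 11 = 1 ∧
    fq (mulQ 5 (key g) (1, 1, 0, 1)) = mulQ 11 (fq (key g)) (0, 1, 10, 3) ∧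
    fq (mulQ 5 (key g) (1, 0, 1, 1)) = mulQ 11 (fq (key g)) (3, 5, 2, 0) ∧
    (fq (key g) = (1, 0, 0, 1) → key g = (1, 0, 0, 1)) := by
  refine check _ (ZMod.val_lt _) _ (ZMod.val_lt _) _ (ZMod.val_lt _) _ (ZMod.val_lt _) ?_
  have h := g.2
  rw [Matrix.det_fin_two] at h
  have h' : (((key g).1 * (key g).2.2.2 + 4 * (key g).2.1 * (key g).2.2.1 : ℕ) : ZMod 5) = ((1 : ℕ) : ZMod 5) := by
    push_cast
    simp only [key, ZMod.natCast_zmod_val]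
    have h4 : (4 : ZMod 5) = -1 := by decide
    rw [h4]
    linear_combination h
  rw [ZMod.natCast_eq_natCast_iff'] at h'
  exact h'

def img (g : SL5) : SL11 := ⟨matQ 11 (fq (key g)), by
  have h := (key_spec g).1
  have h' : ((((fq (key g)).1 * (fq (key g)).2.2.2 + 10 * (fq (key g)).2.1 * (fq (key g)).2.2.1 : ℕ)) : ZMod 11) = ((1 : ℕ) : ZMod 11) := by
    rw [ZMod.natCast_eq_natCast_iff']; exact h
  push_cast at h'
  have h4 : (10 : ZMod 11) = -1 := by decide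
  rw [h4] at h'
  rw [Matrix.det_fin_two]
  simp [matQ]
  linear_combination h'⟩

def u5 : SL5 := ⟨!![1, 1; 0, 1], by simp [Matrix.det_fin_two]⟩
def l5 : SL5 := ⟨!![1, 0; 1, 1], by simp [Matrix.det_fin_two]⟩

theorem key_mul (g : SL5) (q : Q) (h : SL5) (hq : matQ 5 q = h.1) : key (g * h) = mulQ 5 (key g) q := by
  have h1 : (g * h).1 = matQ 5 (mulQ 5 (key g) q) := by
    rw [matQ_mul, matQ_key, hq]; rfl
  simp only [key, mulQ]
  rw [h1]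
  simp [matQ, mulQ, key, ZMod.val_add, ZMod.val_mul, ZMod.val_natCast, Nat.add_mod, Nat.mul_mod]

theorem key_one : key 1 = (1, 0, 0, 1) := by decide +kernel

theorem img_one : img 1 = 1 := by
  refine Subtype.ext ?_
  show matQ 11 (fq (key 1)) = 1
  rw [key_one, show fq (1, 0, 0, 1) = (1, 0, 0, 1) by decide +kernel]
  ext i j
  fin_cases i <;> fin_cases j <;> simp [matQ]

theorem img_step (g : SL5) : img (g * u5) = img g * img u5 ∧ img (g * l5) = img g * img l5 := by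
  have hu : key (g * u5) = mulQ 5 (key g) (1, 1, 0, 1) := key_mul g _ _ (by
    ext i j; fin_cases i <;> fin_cases j <;> simp [matQ, u5])
  have hl : key (g * l5) = mulQ 5 (key g) (1, 0, 1, 1) := key_mul g _ _ (by
    ext i j; fin_cases i <;> fin_cases j <;> simp [matQ, l5])
  have eu : fq (key u5) = (0, 1, 10, 3) := by decide +kernel
  have el : fq (key l5) = (3, 5, 2, 0) := by decide +kernel
  constructor <;> refine Subtype.ext ?_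
  · show matQ 11 (fq (key (g * u5))) = matQ 11 (fq (key g)) * matQ 11 (fq (key u5))
    rw [hu, (key_spec g).2.1, matQ_mul, eu]
  · show matQ 11 (fq (key (g * l5))) = matQ 11 (fq (key g)) * matQ 11 (fq (key l5))
    rw [hl, (key_spec g).2.2.1, matQ_mul, el]

instance factFive : Fact (Nat.Prime 5) := ⟨by norm_num⟩

theorem gens (g : SL5) : g ∈ Submonoid.closure ({u5, l5} : Set SL5) := by
  have hu : u5 ∈ Submonoid.closure ({u5, l5} : Set SL5) := Submonoid.subset_closure (Or.inl rfl)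
  have hl : l5 ∈ Submonoid.closure ({u5, l5} : Set SL5) := Submonoid.subset_closure (Or.inr rfl)
  have pu : ∀ k : ℕ, (u5 ^ k).1 = !![1, (k : ZMod 5); 0, 1] := by
    intro k
    induction k with
    | zero => ext i j; fin_cases i <;> fin_cases j <;> simp
    | succ k ih =>
      rw [pow_succ, Matrix.SpecialLinearGroup.coe_mul, ih]
      ext i j; fin_cases i <;> fin_cases j <;> simp [u5, Matrix.mul_apply, Fin.sum_univ_two, add_comm]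
  have pl : ∀ k : ℕ, (l5 ^ k).1 = !![1, 0; (k : ZMod 5), 1] := by
    intro k
    induction k with
    | zero => ext i j; fin_cases i <;> fin_cases j <;> simp
    | succ k ih =>
      rw [pow_succ, Matrix.SpecialLinearGroup.coe_mul, ih]
      ext i j; fin_cases i <;> fin_cases j <;> simp [l5, Matrix.mul_apply, Fin.sum_univ_two, add_comm]
  have main : ∀ h : SL5, h.1 1 0 ≠ 0 → h ∈ Submonoid.closure ({u5, l5} : Set SL5) := by
    intro h hc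
    set c := h.1 1 0 with hcdef
    have e : h = u5 ^ ((h.1 0 0 - 1) / c).val * l5 ^ c.val * u5 ^ ((h.1 1 1 - 1) / c).val := by
      refine Subtype.ext ?_
      rw [Matrix.SpecialLinearGroup.coe_mul, Matrix.SpecialLinearGroup.coe_mul, pu, pl, pu, ZMod.natCast_zmod_val,
        ZMod.natCast_zmod_val, ZMod.natCast_zmod_val]
      have hd := h.2
      rw [Matrix.det_fin_two, ← hcdef] at hd
      ext i j
      fin_cases i <;> fin_cases j <;> simp [Matrix.mul_apply, Fin.sum_univ_two, ← hcdef]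
      · field_simp
        ring
      · field_simp
        linear_combination -hd
      · field_simp
        ring
    rw [e]
    exact mul_mem (mul_mem (pow_mem hu _) (pow_mem hl _)) (pow_mem hu _)
  by_cases hc : g.1 1 0 = 0
  · have hd := g.2
    rw [Matrix.det_fin_two, hc, mul_zero, sub_zero] at hd
    have h1 : (g * l5).1 1 0 ≠ 0 := by
      rw [Matrix.SpecialLinearGroup.coe_mul]
      simp only [l5, Matrix.mul_apply, Fin.sum_univ_two, hc]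
      simp
      intro h
      rw [h, mul_zero] at hd
      exact zero_ne_one hd
    have h2 : g = (g * l5) * l5 ^ 4 := by
      have h5 : l5 * l5 ^ 4 = 1 := by
        rw [← pow_succ']
        refine Subtype.ext ?_
        rw [pl, show ((4 + 1 : ℕ) : ZMod 5) = 0 by decide]
        ext i j; fin_cases i <;> fin_cases j <;> simp
      rw [mul_assoc, h5, mul_one]
    rw [h2]
    exact mul_mem (main _ h1) (pow_mem hl _)
  · exact main g hc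

theorem img_mul (g h : SL5) : img (g * h) = img g * img h := by
  have hh := gens h
  induction hh using Submonoid.closure_induction_right with
  | one => rw [mul_one, img_one, mul_one]
  | mul_right x _ y hy ih =>
    rcases hy with rfl | rfl
    · rw [← mul_assoc, (img_step _).1, ih, (img_step x).1, mul_assoc]
    · rw [← mul_assoc, (img_step _).2, ih, (img_step x).2, mul_assoc]

noncomputable def hom : SL5 →* SL11 := MonoidHom.mk' img img_mul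

theorem hom_injective : Function.Injective hom := by
  rw [injective_iff_map_eq_one]
  intro g hg
  have h1 : matQ 11 (fq (key g)) = 1 := congrArg Subtype.val hg
  have hb : ∀ a < 5, ∀ b < 5, ∀ c < 5, ∀ d < 5, (fq (a, b, c, d)).1 < 11 ∧ (fq (a, b, c, d)).2.1 < 11 ∧
      (fq (a, b, c, d)).2.2.1 < 11 ∧ (fq (a, b, c, d)).2.2.2 < 11 := by decide +kernel
  obtain ⟨b1, b2, b3, b4⟩ : (fq (key g)).1 < 11 ∧ (fq (key g)).2.1 < 11 ∧ (fq (key g)).2.2.1 < 11 ∧ (fq (key g)).2.2.2 < 11 :=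
    hb _ (ZMod.val_lt _) _ (ZMod.val_lt _) _ (ZMod.val_lt _) _ (ZMod.val_lt _)
  have e : ∀ i j, ((matQ 11 (fq (key g))) i j).val = ((1 : Matrix (Fin 2) (Fin 2) (ZMod 11)) i j).val := fun i j => by rw [h1]
  have e1 := e 0 0
  have e2 := e 0 1
  have e3 := e 1 0
  have e4 := e 1 1
  simp [matQ, ZMod.val_natCast, Nat.mod_eq_of_lt, b1, b2, b3, b4, ZMod.val_one] at e1 e2 e3 e4
  have hq : fq (key g) = (1, 0, 0, 1) := Prod.ext e1 (Prod.ext e2 (Prod.ext e3 e4))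
  have hk := (key_spec g).2.2.2 hq
  refine Subtype.ext ?_
  rw [← matQ_key, hk]
  ext i j
  fin_cases i <;> fin_cases j <;> simp [matQ]

/-- SL(2,5) occurs as a Frobenius complement: there is a finite group L with a subgroup H isomorphic to SL(2,5) which is a non-trivial proper subgroup meeting each conjugate gHg⁻¹ with g outside H trivially. -/
theorem result :
    ∃ (L : Type) (_ : Group L) (_ : Finite L) (H : Subgroup L),
      Cfsg.IsFrobeniusComplement H ∧ Nonempty (H ≃* Matrix.SpecialLinearGroup (Fin 2) (ZMod 5)) := by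
  haveI : Fact (Nat.Prime 5) := ⟨by norm_num⟩
  haveI : Fact (Nat.Prime 11) := ⟨by norm_num⟩
  haveI : Nontrivial SL5 := ⟨⟨u5, 1, fun h => absurd (congrArg key h) (by decide +kernel)⟩⟩
  have hc : ¬ 11 ∣ Nat.card SL5 := by
    intro h
    have h1 := h.trans (Subgroup.card_dvd_of_injective (Matrix.SpecialLinearGroup.toGL : SL5 →* GL (Fin 2) (ZMod 5))
      Matrix.SpecialLinearGroup.toGL_injective)
    rw [Matrix.card_GL_field] at h1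
    simp [Fin.prod_univ_two, ZMod.card] at h1
  obtain ⟨L, i1, i2, H, h1, ⟨e⟩⟩ := CfsgLib.FrobRealize.exists_frobenius_of_hom hom hom_injective hc
  exact ⟨L, i1, i2, H, h1, ⟨e.symm⟩⟩

end Cfsg.Agent.S3374
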