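import Cfsg.Statements.S0493
import Cfsg.Agent.S0144
import Cfsg.Agent.Lib.SmallGroups.SimpleOrders
import Mathlib.GroupTheory.SpecificGroups.ZGroup
import Mathlib.Tactic.IntervalCases

set_option autoImplicit false
open Cfsg

namespace Cfsg.Agent.S0493

theorem small_order (n : ℕ) (h0 : 0 < n) (h : n ≤ 100) :
    n ∈ ([30,42,60,66,70,78,84,90] : List ℕ) ∨ ∃ p q a b : ℕ, p.Prime ∧ q.Prime ∧ n = p ^ a * q ^ b := by
  interval_cases n
  · exact Or.inr ⟨2, 3, 0, 0, by norm_num, by norm_num, by norm_num⟩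
  · exact Or.inr ⟨2, 2, 1, 0, by norm_num, by norm_num, by norm_num⟩
  · exact Or.inr ⟨3, 2, 1, 0, by norm_num, by norm_num, by norm_num⟩
  · exact Or.inr ⟨2, 2, 2, 0, by norm_num, by norm_num, by norm_num⟩
  · exact Or.inr ⟨5, 2, 1, 0, by norm_num, by norm_num, by norm_num⟩
  · exact Or.inr ⟨2, 3, 1, 1, by norm_num, by norm_num, by norm_num⟩
  · exact Or.inr ⟨7, 2, 1, 0, by norm_num, by norm_num, by norm_num⟩
  · exact Or.inr ⟨2, 2, 3, 0, by norm_num, by norm_num, by norm_num⟩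
  · exact Or.inr ⟨3, 2, 2, 0, by norm_num, by norm_num, by norm_num⟩
  · exact Or.inr ⟨2, 5, 1, 1, by norm_num, by norm_num, by norm_num⟩
  · exact Or.inr ⟨11, 2, 1, 0, by norm_num, by norm_num, by norm_num⟩
  · exact Or.inr ⟨2, 3, 2, 1, by norm_num, by norm_num, by norm_num⟩
  · exact Or.inr ⟨13, 2, 1, 0, by norm_num, by norm_num, by norm_num⟩
  · exact Or.inr ⟨2, 7, 1, 1, by norm_num, by norm_num, by norm_num⟩
  · exact Or.inr ⟨3, 5, 1, 1, by norm_num, by norm_num, by norm_num⟩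
  · exact Or.inr ⟨2, 2, 4, 0, by norm_num, by norm_num, by norm_num⟩
  · exact Or.inr ⟨17, 2, 1, 0, by norm_num, by norm_num, by norm_num⟩
  · exact Or.inr ⟨2, 3, 1, 2, by norm_num, by norm_num, by norm_num⟩
  · exact Or.inr ⟨19, 2, 1, 0, by norm_num, by norm_num, by norm_num⟩
  · exact Or.inr ⟨2, 5, 2, 1, by norm_num, by norm_num, by norm_num⟩
  · exact Or.inr ⟨3, 7, 1, 1, by norm_num, by norm_num, by norm_num⟩
  · exact Or.inr ⟨2, 11, 1, 1, by norm_num, by norm_num, by norm_num⟩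
  · exact Or.inr ⟨23, 2, 1, 0, by norm_num, by norm_num, by norm_num⟩
  · exact Or.inr ⟨2, 3, 3, 1, by norm_num, by norm_num, by norm_num⟩
  · exact Or.inr ⟨5, 2, 2, 0, by norm_num, by norm_num, by norm_num⟩
  · exact Or.inr ⟨2, 13, 1, 1, by norm_num, by norm_num, by norm_num⟩
  · exact Or.inr ⟨3, 2, 3, 0, by norm_num, by norm_num, by norm_num⟩
  · exact Or.inr ⟨2, 7, 2, 1, by norm_num, by norm_num, by norm_num⟩
  · exact Or.inr ⟨29, 2, 1, 0, by norm_num, by norm_num, by norm_num⟩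
  · exact Or.inl (by simp)
  · exact Or.inr ⟨31, 2, 1, 0, by norm_num, by norm_num, by norm_num⟩
  · exact Or.inr ⟨2, 2, 5, 0, by norm_num, by norm_num, by norm_num⟩
  · exact Or.inr ⟨3, 11, 1, 1, by norm_num, by norm_num, by norm_num⟩
  · exact Or.inr ⟨2, 17, 1, 1, by norm_num, by norm_num, by norm_num⟩
  · exact Or.inr ⟨5, 7, 1, 1, by norm_num, by norm_num, by norm_num⟩
  · exact Or.inr ⟨2, 3, 2, 2, by norm_num, by norm_num, by norm_num⟩
  · exact Or.inr ⟨37, 2, 1, 0, by norm_num, by norm_num, by norm_num⟩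
  · exact Or.inr ⟨2, 19, 1, 1, by norm_num, by norm_num, by norm_num⟩
  · exact Or.inr ⟨3, 13, 1, 1, by norm_num, by norm_num, by norm_num⟩
  · exact Or.inr ⟨2, 5, 3, 1, by norm_num, by norm_num, by norm_num⟩
  · exact Or.inr ⟨41, 2, 1, 0, by norm_num, by norm_num, by norm_num⟩
  · exact Or.inl (by simp)
  · exact Or.inr ⟨43, 2, 1, 0, by norm_num, by norm_num, by norm_num⟩
  · exact Or.inr ⟨2, 11, 2, 1, by norm_num, by norm_num, by norm_num⟩
  · exact Or.inr ⟨3, 5, 2, 1, by norm_num, by norm_num, by norm_num⟩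
  · exact Or.inr ⟨2, 23, 1, 1, by norm_num, by norm_num, by norm_num⟩
  · exact Or.inr ⟨47, 2, 1, 0, by norm_num, by norm_num, by norm_num⟩
  · exact Or.inr ⟨2, 3, 4, 1, by norm_num, by norm_num, by norm_num⟩
  · exact Or.inr ⟨7, 2, 2, 0, by norm_num, by norm_num, by norm_num⟩
  · exact Or.inr ⟨2, 5, 1, 2, by norm_num, by norm_num, by norm_num⟩
  · exact Or.inr ⟨3, 17, 1, 1, by norm_num, by norm_num, by norm_num⟩
  · exact Or.inr ⟨2, 13, 2, 1, by norm_num, by norm_num, by norm_num⟩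
  · exact Or.inr ⟨53, 2, 1, 0, by norm_num, by norm_num, by norm_num⟩
  · exact Or.inr ⟨2, 3, 1, 3, by norm_num, by norm_num, by norm_num⟩
  · exact Or.inr ⟨5, 11, 1, 1, by norm_num, by norm_num, by norm_num⟩
  · exact Or.inr ⟨2, 7, 3, 1, by norm_num, by norm_num, by norm_num⟩
  · exact Or.inr ⟨3, 19, 1, 1, by norm_num, by norm_num, by norm_num⟩
  · exact Or.inr ⟨2, 29, 1, 1, by norm_num, by norm_num, by norm_num⟩
  · exact Or.inr ⟨59, 2, 1, 0, by norm_num, by norm_num, by norm_num⟩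
  · exact Or.inl (by simp)
  · exact Or.inr ⟨61, 2, 1, 0, by norm_num, by norm_num, by norm_num⟩
  · exact Or.inr ⟨2, 31, 1, 1, by norm_num, by norm_num, by norm_num⟩
  · exact Or.inr ⟨3, 7, 2, 1, by norm_num, by norm_num, by norm_num⟩
  · exact Or.inr ⟨2, 2, 6, 0, by norm_num, by norm_num, by norm_num⟩
  · exact Or.inr ⟨5, 13, 1, 1, by norm_num, by norm_num, by norm_num⟩
  · exact Or.inl (by simp)
  · exact Or.inr ⟨67, 2, 1, 0, by norm_num, by norm_num, by norm_num⟩
  · exact Or.inr ⟨2, 17, 2, 1, by norm_num, by norm_num, by norm_num⟩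
  · exact Or.inr ⟨3, 23, 1, 1, by norm_num, by norm_num, by norm_num⟩
  · exact Or.inl (by simp)
  · exact Or.inr ⟨71, 2, 1, 0, by norm_num, by norm_num, by norm_num⟩
  · exact Or.inr ⟨2, 3, 3, 2, by norm_num, by norm_num, by norm_num⟩
  · exact Or.inr ⟨73, 2, 1, 0, by norm_num, by norm_num, by norm_num⟩
  · exact Or.inr ⟨2, 37, 1, 1, by norm_num, by norm_num, by norm_num⟩
  · exact Or.inr ⟨3, 5, 1, 2, by norm_num, by norm_num, by norm_num⟩
  · exact Or.inr ⟨2, 19, 2, 1, by norm_num, by norm_num, by norm_num⟩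
  · exact Or.inr ⟨7, 11, 1, 1, by norm_num, by norm_num, by norm_num⟩
  · exact Or.inl (by simp)
  · exact Or.inr ⟨79, 2, 1, 0, by norm_num, by norm_num, by norm_num⟩
  · exact Or.inr ⟨2, 5, 4, 1, by norm_num, by norm_num, by norm_num⟩
  · exact Or.inr ⟨3, 2, 4, 0, by norm_num, by norm_num, by norm_num⟩
  · exact Or.inr ⟨2, 41, 1, 1, by norm_num, by norm_num, by norm_num⟩
  · exact Or.inr ⟨83, 2, 1, 0, by norm_num, by norm_num, by norm_num⟩
  · exact Or.inl (by simp)
  · exact Or.inr ⟨5, 17, 1, 1, by norm_num, by norm_num, by norm_num⟩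
  · exact Or.inr ⟨2, 43, 1, 1, by norm_num, by norm_num, by norm_num⟩
  · exact Or.inr ⟨3, 29, 1, 1, by norm_num, by norm_num, by norm_num⟩
  · exact Or.inr ⟨2, 11, 3, 1, by norm_num, by norm_num, by norm_num⟩
  · exact Or.inr ⟨89, 2, 1, 0, by norm_num, by norm_num, by norm_num⟩
  · exact Or.inl (by simp)
  · exact Or.inr ⟨7, 13, 1, 1, by norm_num, by norm_num, by norm_num⟩
  · exact Or.inr ⟨2, 23, 2, 1, by norm_num, by norm_num, by norm_num⟩
  · exact Or.inr ⟨3, 31, 1, 1, by norm_num, by norm_num, by norm_num⟩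
  · exact Or.inr ⟨2, 47, 1, 1, by norm_num, by norm_num, by norm_num⟩
  · exact Or.inr ⟨5, 19, 1, 1, by norm_num, by norm_num, by norm_num⟩
  · exact Or.inr ⟨2, 3, 5, 1, by norm_num, by norm_num, by norm_num⟩
  · exact Or.inr ⟨97, 2, 1, 0, by norm_num, by norm_num, by norm_num⟩
  · exact Or.inr ⟨2, 7, 1, 2, by norm_num, by norm_num, by norm_num⟩
  · exact Or.inr ⟨3, 11, 2, 1, by norm_num, by norm_num, by norm_num⟩
  · exact Or.inr ⟨2, 5, 2, 2, by norm_num, by norm_num, by norm_num⟩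

/-- A finite simple group of order at most 100 that is not cyclic has order 60. -/
theorem result {G : Type*} [Group G] [Finite G] [IsSimpleGroup G]
    (hG : ¬ IsCyclic G) (h : Nat.card G ≤ 100) : Nat.card G = 60 := by
  have hsolv : ¬ Group.IsSolvable G := fun hs => by
    have hcomm : IsMulCommutative G := ⟨⟨fun a b => (IsSimpleGroup.comm_iff_isSolvable (G := G)).mpr hs a b⟩⟩
    let : CommGroup G := { (inferInstance : Group G) with mul_comm := fun a b => (IsSimpleGroup.comm_iff_isSolvable (G := G)).mpr hs a b }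
    exact hG (isCyclic_of_prime_card (p := Nat.card G) (hp := ⟨IsSimpleGroup.prime_card⟩) rfl)
  rcases small_order _ Nat.card_pos h with hl | ⟨p, q, a, b, hp, hq, he⟩
  · simp only [List.mem_cons, List.not_mem_nil, or_false] at hl
    have hsq : ¬ Squarefree (Nat.card G) := fun hsq => hsolv (by
      have := IsZGroup.of_squarefree hsq
      infer_instance)
    have hs : ∀ m : ℕ, Nat.card G = m → Squarefree m → False := fun m e hm => hsq (e ▸ hm)
    rcases hl with e | e | e | e | e | e | e | e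
    · exact (hs 30 e (by decide +kernel)).elim
    · exact (hs 42 e (by decide +kernel)).elim
    · exact e
    · exact (hs 66 e (by decide +kernel)).elim
    · exact (hs 70 e (by decide +kernel)).elim
    · exact (hs 78 e (by decide +kernel)).elim
    · exact CfsgLib.SmallGroups.SimpleOrders.card_eq_sixty 2 3 7 (by norm_num) (by norm_num) (by norm_num) (by rw [e]; norm_num)
    · exact CfsgLib.SmallGroups.SimpleOrders.card_eq_sixty 3 2 5 (by norm_num) (by norm_num) (by norm_num) (by rw [e]; norm_num)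
  · exact absurd (Cfsg.Agent.S0144.isSolvable p q hp hq _ G rfl a b he) hsolv

end Cfsg.Agent.S0493
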