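import Cfsg.Statements.S3669
import Cfsg.Agent.S0493
import Cfsg.Agent.S0494
import Cfsg.Agent.Lib.DegreeTools.PDegree
import Cfsg.Agent.Lib.DegreeTools.LinearChars
import Cfsg.Agent.Lib.Char.CliffordAbelian
import Mathlib.GroupTheory.SpecificGroups.Alternating.Simple

set_option autoImplicit false
open Cfsg

namespace Cfsg.Agent.S3669

open CfsgLib CfsgLib.Char CfsgLib.DegreeTools

theorem deg_le {G : Type*} [Group G] [Finite G] (hcard : Nat.card G = 60) (χ : Cfsg.IrrCharacter G) :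
    Cfsg.charDegree (χ : G → ℂ) ∈ [1, 2, 3, 4, 5, 6] := by
  have h := Finset.single_le_sum (f := fun ψ : Cfsg.IrrCharacter G => Cfsg.charDegree (ψ : G → ℂ) ^ 2)
    (fun _ _ => Nat.zero_le _) (Finset.mem_univ χ)
  rw [sum_deg_sq, hcard] at h
  have h8 : Cfsg.charDegree (χ : G → ℂ) < 8 := by
    by_contra hlt
    have h64 := Nat.pow_le_pow_left (not_lt.1 hlt) 2
    omega
  have h60 : Cfsg.charDegree (χ : G → ℂ) ∣ 60 := hcard ▸ deg_dvd_card χ
  have hpos := deg_pos χ
  interval_cases hd : Cfsg.charDegree (χ : G → ℂ) <;> simp_all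

theorem isSimple_of_perfect {G : Type*} [Group G] [Finite G] (hcard : Nat.card G = 60)
    (hperf : commutator G = ⊤) : IsSimpleGroup G := by
  haveI : Nontrivial G := Finite.one_lt_card_iff_nontrivial.1 (by omega)
  obtain ⟨N, -, ⟨hNn, hNt⟩, hNmax⟩ := Finite.exists_le_maximal
    (p := fun N : Subgroup G => N.Normal ∧ N ≠ ⊤) (a := ⊥) ⟨inferInstance, bot_ne_top⟩
  haveI := hNn
  haveI : Nontrivial (G ⧸ N) := QuotientGroup.nontrivial_iff.2 hNt
  haveI : IsSimpleGroup (G ⧸ N) := ⟨fun M hM => by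
    by_contra hne
    rw [not_or] at hne
    have hle : N ≤ M.comap (QuotientGroup.mk' N) := fun n hn => by
      show QuotientGroup.mk' N n ∈ M
      rw [QuotientGroup.mk'_apply, (QuotientGroup.eq_one_iff n).2 hn]
      exact one_mem _
    have htop : M.comap (QuotientGroup.mk' N) ≠ ⊤ := fun h => hne.2
      (Subgroup.comap_injective (QuotientGroup.mk'_surjective N) (h.trans (Subgroup.comap_top _).symm))
    have heq := le_antisymm (hNmax ⟨hM.comap _, htop⟩ hle) hle
    exact hne.1 (by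
      rw [← Subgroup.map_comap_eq_self_of_surjective (QuotientGroup.mk'_surjective N) M, heq,
        QuotientGroup.map_mk'_self])⟩
  have hnc : ¬ IsCyclic (G ⧸ N) := fun hc => by
    haveI := hc
    have h1 : commutator (G ⧸ N) = ⊥ := by
      rw [commutator_def, Subgroup.commutator_eq_bot_iff_le_centralizer]
      exact fun x _ => Subgroup.mem_centralizer_iff.2 fun y _ => (IsMulCommutative.is_comm.comm y x)
    have h2 : (commutator G).map (QuotientGroup.mk' N) = commutator (G ⧸ N) := by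
      rw [commutator_def, commutator_def, Subgroup.map_commutator,
        Subgroup.map_top_of_surjective _ (QuotientGroup.mk'_surjective N)]
    rw [hperf, h1, Subgroup.map_eq_bot_iff, QuotientGroup.ker_mk'] at h2
    exact hNt (top_le_iff.1 h2)
  have hle : Nat.card (G ⧸ N) ≤ 60 := hcard ▸ Nat.card_le_card_of_surjective _ (QuotientGroup.mk'_surjective N)
  have h60 := Cfsg.Agent.S0493.result hnc (by omega)
  have hN1 : N = ⊥ := by
    have := N.card_mul_index
    rw [hcard, Subgroup.index_eq_card, h60] at this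
    exact Subgroup.card_eq_one.1 (by omega)
  exact ((QuotientGroup.quotientMulEquivOfEq hN1).trans QuotientGroup.quotientBot).symm.isSimpleGroup

theorem classes_alt : Nat.card (ConjClasses (alternatingGroup (Fin 5))) = 5 := by
  rw [Nat.card_eq_fintype_card]
  decide +kernel

theorem tuple : ∀ a ∈ [1, 2, 3, 4, 5, 6], ∀ b ∈ [1, 2, 3, 4, 5, 6], ∀ c ∈ [1, 2, 3, 4, 5, 6],
    ∀ d ∈ [1, 2, 3, 4, 5, 6], a ≠ 1 → b ≠ 1 → c ≠ 1 → d ≠ 1 → a ^ 2 + b ^ 2 + c ^ 2 + d ^ 2 = 59 →
      a ≠ 6 ∧ b ≠ 6 ∧ c ≠ 6 ∧ d ≠ 6 ∧ (a = 5 ∨ b = 5 ∨ c = 5 ∨ d = 5) ∧ (a = 3 ∨ b = 3 ∨ c = 3 ∨ d = 3) := by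
  decide +kernel

/-- The degrees of the alternating group of degree five. -/
theorem alt_degrees : (∀ χ : Cfsg.IrrCharacter (alternatingGroup (Fin 5)), Cfsg.charDegree (χ : alternatingGroup (Fin 5) → ℂ) ≠ 6) ∧
    (∃ χ : Cfsg.IrrCharacter (alternatingGroup (Fin 5)), Cfsg.charDegree (χ : alternatingGroup (Fin 5) → ℂ) = 5) ∧
    (∃ χ : Cfsg.IrrCharacter (alternatingGroup (Fin 5)), Cfsg.charDegree (χ : alternatingGroup (Fin 5) → ℂ) = 3) := by
  classical
  have hA : Nat.card (alternatingGroup (Fin 5)) = 60 := by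
    rw [nat_card_alternatingGroup, Nat.card_fin]; rfl
  have hperf : commutator (alternatingGroup (Fin 5)) = ⊤ := by
    haveI : IsSimpleGroup (alternatingGroup (Fin 5)) := alternatingGroup.isSimpleGroup_five
    rcases (inferInstance : (commutator (alternatingGroup (Fin 5))).Normal).eq_bot_or_eq_top with h | h
    · exfalso
      rw [commutator_def, Subgroup.commutator_eq_bot_iff_le_centralizer] at h
      have h2 : ¬ ∀ a b : alternatingGroup (Fin 5), a * b = b * a := by decide +kernel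
      exact h2 fun a b => (Subgroup.mem_centralizer_iff.1 (h (Subgroup.mem_top b)) a (Subgroup.mem_top a))
    · exact h
  have hcard : Fintype.card (Cfsg.IrrCharacter (alternatingGroup (Fin 5))) = 5 := by
    rw [← Nat.card_eq_fintype_card, card_irrCharacter, classes_alt]
  let e₀ := (Fintype.equivFinOfCardEq hcard).symm
  let e : Fin 5 ≃ Cfsg.IrrCharacter (alternatingGroup (Fin 5)) :=
    (Equiv.swap 0 (e₀.symm (oneChar _))).trans e₀
  have he0 : e 0 = oneChar _ := by simp [e]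
  set D := fun i => Cfsg.charDegree ((e i : Cfsg.IrrCharacter (alternatingGroup (Fin 5))) : alternatingGroup (Fin 5) → ℂ)
  have hne1 : ∀ i, i ≠ 0 → D i ≠ 1 := fun i hi h1 => by
    have h2 : ¬ ∃ χ : Cfsg.IrrCharacter (alternatingGroup (Fin 5)), χ ≠ oneChar _ ∧
        (χ : alternatingGroup (Fin 5) → ℂ) 1 = 1 := fun hx => exists_linear_ne_one_iff.1 hx hperf
    exact h2 ⟨e i, fun h => hi (e.injective (h.trans he0.symm)), (deg_eq_one_iff _).1 h1⟩
  have hsum : ∑ i : Fin 5, D i ^ 2 = 60 := by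
    rw [← hA, ← sum_deg_sq]
    exact Fintype.sum_equiv e (fun i => D i ^ 2)
      (fun χ : Cfsg.IrrCharacter (alternatingGroup (Fin 5)) => Cfsg.charDegree (χ : alternatingGroup (Fin 5) → ℂ) ^ 2) fun i => rfl
  rw [Fin.sum_univ_five, show D 0 = 1 by simp only [D, he0, deg_oneChar]] at hsum
  obtain ⟨h6a, h6b, h6c, h6d, h5, h3⟩ := tuple _ (deg_le hA (e 1)) _ (deg_le hA (e 2)) _ (deg_le hA (e 3)) _
    (deg_le hA (e 4)) (hne1 1 (by decide)) (hne1 2 (by decide)) (hne1 3 (by decide)) (hne1 4 (by decide))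
    (show D 1 ^ 2 + D 2 ^ 2 + D 3 ^ 2 + D 4 ^ 2 = 59 by omega)
  refine ⟨fun χ => ?_, ?_, ?_⟩
  · obtain ⟨i, rfl⟩ := e.surjective χ
    fin_cases i
    · show D 0 ≠ 6
      simp only [D, he0, deg_oneChar]; norm_num
    · exact h6a
    · exact h6b
    · exact h6c
    · exact h6d
  · rcases h5 with h | h | h | h <;> exact ⟨_, h⟩
  · rcases h3 with h | h | h | h <;> exact ⟨_, h⟩

/-- With a nontrivial linear character of prime order `q`, a degree prime to `q` occurs `q` times. -/
theorem exists_copies {G : Type*} [Group G] [Finite G] {q : ℕ} [Fact q.Prime] {φ : G →* ℂˣ} (hφ : orderOf φ = q)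
    (χ : Cfsg.IrrCharacter G) (hd : ¬ q ∣ Cfsg.charDegree (χ : G → ℂ)) :
    ∃ s : Finset (Cfsg.IrrCharacter G), q ≤ s.card ∧
      ∀ ψ ∈ s, Cfsg.charDegree (ψ : G → ℂ) = Cfsg.charDegree (χ : G → ℂ) := by
  classical
  cases nonempty_fintype G
  obtain ⟨g, hg⟩ : ∃ g, φ g ≠ 1 := by
    by_contra hall
    push Not at hall
    have : φ = 1 := MonoidHom.ext hall
    rw [this, orderOf_one] at hφ
    exact (Fact.out : q.Prime).ne_one hφ.symm
  have hq : φ g ^ q = 1 := by
    rw [← MonoidHom.pow_apply, ← hφ, pow_orderOf_eq_one, MonoidHom.one_apply]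
  obtain ⟨k, m, hm, hk⟩ :=
    Nat.exists_eq_pow_mul_and_not_dvd (orderOf_pos g).ne' q (Fact.out : q.Prime).ne_one
  set x := g ^ m
  have hm0 : m ≠ 0 := by rintro rfl; exact hm (dvd_zero q)
  have hx : orderOf x = q ^ k := by
    rw [orderOf_pow' g hm0, hk, Nat.gcd_eq_right (Dvd.intro_left _ rfl), Nat.mul_div_cancel _ (Nat.pos_of_ne_zero hm0)]
  have hφx : orderOf (φ x) = q := by
    refine orderOf_eq_prime (by rw [map_pow, ← pow_mul, mul_comm, pow_mul, hq, one_pow]) fun h1 => ?_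
    rw [map_pow] at h1
    have := orderOf_dvd_of_pow_eq_one h1
    rw [orderOf_eq_prime hq hg] at this
    exact hm this
  have hχx := apply_ne_zero_of_not_dvd q χ hd x ⟨k, hx⟩
  let f : Fin q → Cfsg.IrrCharacter G := fun i => ⟨_, IsIrrCharacter.mul_hom χ.2 (φ ^ (i : ℕ))⟩
  have hf : Function.Injective f := fun i j hij => by
    have h1 := congrArg (fun ψ : Cfsg.IrrCharacter G => (ψ : G → ℂ) x) hij
    simp only [f, Pi.mul_apply, MonoidHom.pow_apply, Units.val_pow_eq_pow_val] at h1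
    have h2 : φ x ^ (i : ℕ) = φ x ^ (j : ℕ) := Units.ext (by
      simpa using mul_left_cancel₀ hχx h1)
    exact Fin.ext (pow_injOn_Iio_orderOf (Set.mem_Iio.2 (by rw [hφx]; exact i.2))
      (Set.mem_Iio.2 (by rw [hφx]; exact j.2)) h2)
  refine ⟨Finset.univ.image f, by rw [Finset.card_image_of_injective _ hf, Finset.card_univ, Fintype.card_fin],
    fun ψ hψ => ?_⟩
  obtain ⟨i, -, rfl⟩ := Finset.mem_image.1 hψ
  have h1 : (f i : G → ℂ) 1 = (χ : G → ℂ) 1 := by simp [f]
  rw [← deg_cast, ← deg_cast] at h1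
  exact_mod_cast h1

/-- The character degree graph of a finite group has as vertices the primes dividing some irreducible complex character degree, two distinct primes being joined when their product divides some irreducible character degree; two groups have the same character degree graph when they have the same vertices and the same joined pairs. A finite group of order 60 with the same character degree graph as the alternating group A₅ (whose character degrees are 1, 3, 4, 5, so the graph has vertices 2, 3, 5 and no edges) is isomorphic to A₅. -/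
theorem result {G : Type*} [Group G] [Finite G] (hcard : Nat.card G = 60)
    (hΓ : Cfsg.degreePrimes G = Cfsg.degreePrimes (alternatingGroup (Fin 5)) ∧ Cfsg.degreeGraph G = Cfsg.degreeGraph (alternatingGroup (Fin 5))) : Nonempty (G ≃* alternatingGroup (Fin 5)) := by
  classical
  obtain ⟨hP, hE⟩ := hΓ
  obtain ⟨hA6, ⟨a5, ha5⟩, ⟨a3, ha3⟩⟩ := alt_degrees
  have h6 : ∀ χ : Cfsg.IrrCharacter G, Cfsg.charDegree (χ : G → ℂ) ≠ 6 := by
    intro χ h
    have h1 : (Cfsg.degreeGraph G).Adj 2 3 :=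
      ⟨by norm_num, Nat.prime_two, Nat.prime_three, 6, ⟨χ, h⟩, by norm_num⟩
    rw [hE] at h1
    obtain ⟨-, -, -, d, ⟨ψ, hψ⟩, hd⟩ := h1
    have hA : Nat.card (alternatingGroup (Fin 5)) = 60 := by rw [nat_card_alternatingGroup, Nat.card_fin]; rfl
    have := deg_le hA ψ
    rw [hψ] at this
    simp only [List.mem_cons, List.not_mem_nil, or_false] at this
    rcases this with e | e | e | e | e | e <;> subst e <;> first | omega | exact hA6 ψ hψ
  have get : ∀ p : ℕ, (p = 3 ∨ p = 5) → ∃ χ : Cfsg.IrrCharacter G, Cfsg.charDegree (χ : G → ℂ) = p := by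
    intro p hp
    have h1 : p ∈ Cfsg.degreePrimes (alternatingGroup (Fin 5)) := by
      rcases hp with rfl | rfl
      · exact ⟨Nat.prime_three, 3, ⟨a3, ha3⟩, dvd_rfl⟩
      · exact ⟨by norm_num, 5, ⟨a5, ha5⟩, dvd_rfl⟩
    rw [← hP] at h1
    obtain ⟨-, d, ⟨χ, hχ⟩, hd⟩ := h1
    refine ⟨χ, ?_⟩
    have := deg_le hcard χ
    rw [hχ] at this ⊢
    simp only [List.mem_cons, List.not_mem_nil, or_false] at this
    rcases this with e | e | e | e | e | e <;> subst e <;> rcases hp with rfl | rfl <;>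
      first | rfl | omega | exact absurd hχ (h6 χ)
  by_cases hperf : commutator G = ⊤
  · haveI := isSimple_of_perfect hcard hperf
    exact Cfsg.Agent.S0494.result hcard
  exfalso
  cases nonempty_fintype G
  obtain ⟨θ, hθ1, hθd⟩ := exists_linear_ne_one_iff.2 hperf
  obtain ⟨φ₀, hφ₀⟩ := exists_hom_of_apply_one_eq_one (isCharacter_irr θ) hθd
  have hφ1 : φ₀ ≠ 1 := fun h => hθ1 (Subtype.ext (funext fun g => by
    rw [hφ₀, h]; simp))
  have hfin : φ₀ ^ Nat.card G = 1 := MonoidHom.ext fun g => by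
    rw [MonoidHom.pow_apply, ← map_pow, pow_card_eq_one', map_one, MonoidHom.one_apply]
  have hne : orderOf φ₀ ≠ 1 := fun h => hφ1 (orderOf_eq_one_iff.1 h)
  obtain ⟨q, hq, hqd⟩ := Nat.exists_prime_and_dvd hne
  haveI : Fact q.Prime := ⟨hq⟩
  have hφ : orderOf (φ₀ ^ (orderOf φ₀ / q)) = q :=
    orderOf_pow_orderOf_div (Nat.pos_iff_ne_zero.1 (Nat.pos_of_dvd_of_pos (orderOf_dvd_of_pow_eq_one hfin) Nat.card_pos)) hqd
  have hq60 : q ∣ 60 := hcard ▸ hqd.trans (orderOf_dvd_of_pow_eq_one hfin)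
  have hq5 : q = 2 ∨ q = 3 ∨ q = 5 := by
    have hle := Nat.le_of_dvd (by norm_num) hq60
    interval_cases q <;> first | omega | exact absurd hq (by norm_num)
  obtain ⟨c3, hc3⟩ := get 3 (Or.inl rfl)
  obtain ⟨c5, hc5⟩ := get 5 (Or.inr rfl)
  obtain ⟨s1, hs1, hd1⟩ := exists_copies hφ (oneChar G) (by rw [deg_oneChar]; exact fun h => hq.ne_one (Nat.dvd_one.1 h))
  -- a bound
  have hbound : ∀ s3 s5 : Finset (Cfsg.IrrCharacter G), (∀ ψ ∈ s3, Cfsg.charDegree (ψ : G → ℂ) = 3) →
      (∀ ψ ∈ s5, Cfsg.charDegree (ψ : G → ℂ) = 5) → q + 9 * s3.card + 25 * s5.card ≤ 60 := by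
    intro s3 s5 h3 h5
    rw [deg_oneChar] at hd1
    have hdis1 : Disjoint s1 s3 := Finset.disjoint_left.2 fun ψ a b => by have := hd1 ψ a; have := h3 ψ b; omega
    have hdis2 : Disjoint (s1 ∪ s3) s5 := Finset.disjoint_left.2 fun ψ a b => by
      rcases Finset.mem_union.1 a with a | a
      · have := hd1 ψ a; have := h5 ψ b; omega
      · have := h3 ψ a; have := h5 ψ b; omega
    have hle := Finset.sum_le_sum_of_subset (f := fun ψ : Cfsg.IrrCharacter G => Cfsg.charDegree (ψ : G → ℂ) ^ 2)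
      (Finset.subset_univ (s1 ∪ s3 ∪ s5))
    rw [sum_deg_sq, hcard, Finset.sum_union hdis2, Finset.sum_union hdis1,
      Finset.sum_congr rfl (fun ψ hψ => by rw [hd1 ψ hψ] : ∀ ψ ∈ s1, _ = 1 ^ 2),
      Finset.sum_congr rfl (fun ψ hψ => by rw [h3 ψ hψ] : ∀ ψ ∈ s3, _ = 3 ^ 2),
      Finset.sum_congr rfl (fun ψ hψ => by rw [h5 ψ hψ] : ∀ ψ ∈ s5, _ = 5 ^ 2)] at hle
    simp only [Finset.sum_const, smul_eq_mul] at hle
    omega
  by_cases h5 : q = 5
  · obtain ⟨s3, hs3, hd3⟩ := exists_copies hφ c3 (by rw [hc3, h5]; norm_num)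
    rw [hc3] at hd3
    have := hbound s3 {c5} hd3 (fun ψ hψ => by rw [Finset.mem_singleton.1 hψ, hc5])
    rw [Finset.card_singleton] at this
    omega
  · obtain ⟨s5, hs5, hd5⟩ := exists_copies hφ c5 (by
      rw [hc5]; exact fun h => h5 ((Nat.prime_dvd_prime_iff_eq hq (by norm_num)).1 h))
    rw [hc5] at hd5
    have := hbound {c3} s5 (fun ψ hψ => by rw [Finset.mem_singleton.1 hψ, hc3]) hd5
    rw [Finset.card_singleton] at this
    have := hq.two_le
    omega

end Cfsg.Agent.S3669
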