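import Cfsg.Statements.S4399
import Mathlib
import Cfsg.Agent.Lib.TwoGroups.MaximalClass

set_option autoImplicit false
open Cfsg
open scoped commutatorElement

namespace Cfsg.Agent.S4399

/-- Let S be a finite 2-group whose commutator quotient S/[S,S] is a Klein four-group (order 4 and exponent 2). Then S itself has order 4, or S is dihedral of order at least 8, semidihedral of order at least 16 (order 2^(k+4) with an element a of order 2^(k+3) and an involution b with b a b⁻¹ = a^(2^(k+2)−1)), or generalized quaternion of order at least 8. -/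
theorem result {S : Type*} [Group S] [Finite S] (h2 : IsPGroup 2 S) (hab : Nat.card (Abelianization S) = 4)
    (hexp : ∀ x : Abelianization S, x ^ 2 = 1) :
    Nat.card S = 4 ∨
    ((∃ k : ℕ, Nonempty (S ≃* DihedralGroup (2 ^ (k + 2)))) ∨
      (∃ k : ℕ, Nat.card S = 2 ^ (k + 4) ∧ ∃ a b : S, orderOf a = 2 ^ (k + 3) ∧ orderOf b = 2 ∧ b * a * b⁻¹ = a ^ (2 ^ (k + 2) - 1)) ∨
      (∃ k : ℕ, Nonempty (S ≃* QuaternionGroup (2 ^ (k + 1))))) := by
  obtain ⟨n, hn⟩ := h2.exists_card_eq
  have hi : (commutator S).index = 4 := hab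
  have h4 : 4 ≤ Nat.card S := by
    rw [← hi]
    exact Nat.le_of_dvd Nat.card_pos (commutator S).index_dvd_card
  rcases Nat.lt_or_ge n 3 with hlt | hge
  · left
    interval_cases n <;> simp [hn] at h4 ⊢
  right
  obtain ⟨m, rfl⟩ : ∃ m, n = m + 3 := ⟨n - 3, by omega⟩
  obtain ⟨C, hC, hCi⟩ := CfsgLib.TwoGroups.Classify.cyclic_max_of_commutator m S hn hi
  obtain ⟨a, -, hord⟩ := CfsgLib.TwoGroups.Classify.exists_generator hC hCi
  rw [hn, show m + 3 = (m + 2) + 1 by omega, pow_succ', Nat.mul_right_inj two_ne_zero] at hord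
  have hna : ∃ x y : S, x * y ≠ y * x := by
    by_contra! h
    have : commutator S = ⊥ := by
      rw [commutator_def, eq_bot_iff, Subgroup.commutator_le]
      intro x _ y _
      rw [Subgroup.mem_bot, commutatorElement_eq_one_iff_mul_comm]
      exact h x y
    rw [this, Subgroup.index_bot, hn] at hi
    have : 2 ^ 3 ≤ 2 ^ (m + 3) := Nat.pow_le_pow_right two_pos (by omega)
    omega
  obtain ⟨b, hb, h⟩ := CfsgLib.TwoGroups.Classify.classify (k := m + 2) (by omega) hn hord hna
  rw [show m + 2 - 1 = m + 1 by omega] at h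
  rcases h with ⟨hb2, hba⟩ | ⟨hb2, hba⟩ | ⟨hk, hb2, hba⟩ | ⟨hk, hb2, hba⟩
  · exact Or.inl ⟨m, CfsgLib.TwoGroups.CyclicMax.dihedral_iso hord (by rw [hn, ← pow_succ']) hb (by rw [← sq]; exact hb2) hba⟩
  · exact Or.inr (Or.inr ⟨m, CfsgLib.TwoGroups.CyclicMax.quaternion_iso (by positivity) (by rw [hord, ← pow_succ']) (by rw [hn, show (4:ℕ) = 2 ^ 2 from rfl, ← pow_add]; congr 1; omega) hb (by rw [← sq]; exact hb2) hba⟩)
  · exfalso
    -- the modular group has a large abelianisation
    set w := a ^ (2 ^ (m + 1)) with hw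
    have hbw : b * a * b⁻¹ * a⁻¹ = w := by rw [hba, hw, pow_add, pow_one]; group
    have hwn : (Subgroup.zpowers w).Normal := by
      refine ⟨fun u hu g => ?_⟩
      have hwc : ∀ g, g * w = w * g := by
        intro g
        have hbc : b * w * b⁻¹ = w := by
          rw [hw, ← conj_pow, hba, ← pow_mul, add_mul, one_mul, pow_add, ← pow_add (2:ℕ)]
          have : orderOf a ∣ 2 ^ (m + 1 + (m + 1)) := by rw [hord]; exact pow_dvd_pow 2 (by omega)
          rw [orderOf_dvd_iff_pow_eq_one.mp this, mul_one]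
        have hia := CfsgLib.TwoGroups.CyclicMax.index_zpowers hn hord
        by_cases hg : g ∈ Subgroup.zpowers a
        · obtain ⟨i, rfl⟩ := Subgroup.mem_zpowers_iff.mp hg
          exact ((Commute.refl a).zpow_left i).pow_right _ |>.eq
        · have hbg : b⁻¹ * g ∈ Subgroup.zpowers a :=
            (Subgroup.mul_mem_iff_of_index_two hia).mpr (iff_of_false (by simpa using hb) hg)
          obtain ⟨i, hi⟩ := Subgroup.mem_zpowers_iff.mp hbg
          have hg' : g = b * a ^ i := by rw [hi]; group
          have c1 : Commute b w := mul_inv_eq_iff_eq_mul.mp hbc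
          have c2 : Commute (a ^ i) w := ((Commute.refl a).zpow_left i).pow_right _
          rw [hg']; exact (c1.mul_left c2).eq
      obtain ⟨i, rfl⟩ := Subgroup.mem_zpowers_iff.mp hu
      rw [(show Commute g w from hwc g).zpow_right i |>.eq, mul_inv_cancel_right]
      exact hu
    have hle : commutator S ≤ Subgroup.zpowers w := by
      have hia := CfsgLib.TwoGroups.CyclicMax.index_zpowers hn hord
      set ρ := QuotientGroup.mk' (Subgroup.zpowers w)
      have hab' : Commute (ρ b) (ρ a) := by
        have : ρ (b * a * b⁻¹ * a⁻¹) = 1 := (QuotientGroup.eq_one_iff _).mpr (hbw ▸ Subgroup.mem_zpowers w)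
        rw [map_mul, map_mul, map_mul, map_inv, map_inv, mul_inv_eq_one, mul_inv_eq_iff_eq_mul] at this
        exact this
      have hall : ∀ g, ∃ (e : ℕ) (i : ℤ), ρ g = ρ b ^ e * ρ a ^ i := by
        intro g
        by_cases hg : g ∈ Subgroup.zpowers a
        · obtain ⟨i, rfl⟩ := Subgroup.mem_zpowers_iff.mp hg
          exact ⟨0, i, by rw [pow_zero, one_mul, map_zpow]⟩
        · have hbg : b⁻¹ * g ∈ Subgroup.zpowers a :=
            (Subgroup.mul_mem_iff_of_index_two hia).mpr (iff_of_false (by simpa using hb) hg)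
          obtain ⟨i, hi⟩ := Subgroup.mem_zpowers_iff.mp hbg
          refine ⟨1, i, ?_⟩
          rw [pow_one, ← map_zpow, ← map_mul, hi, mul_inv_cancel_left]
      rw [commutator_def, Subgroup.commutator_le]
      intro x _ y _
      rw [← QuotientGroup.eq_one_iff]
      show ρ ⁅x, y⁆ = 1
      rw [map_commutatorElement, commutatorElement_eq_one_iff_mul_comm]
      obtain ⟨e, i, hx⟩ := hall x
      obtain ⟨e', j, hy⟩ := hall y
      rw [hx, hy]
      exact ((((Commute.refl _).pow_pow e e').mul_right ((hab'.pow_left e).zpow_right j)).mul_left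
        (((hab'.pow_left e').zpow_right i).symm.mul_right (Commute.zpow_zpow_self _ i j))).eq
    have hcw : orderOf w = 2 := by
      rw [hw, orderOf_pow_of_dvd (by positivity) (hord ▸ pow_dvd_pow 2 (by omega)), hord, Nat.pow_div (by omega) two_pos,
        show m + 2 - (m + 1) = 1 by omega, pow_one]
    have h3 := Subgroup.card_le_of_le hle
    rw [Nat.card_zpowers, hcw] at h3
    have h4 := (commutator S).card_mul_index
    rw [hi, hn] at h4
    have : 2 ^ 4 ≤ 2 ^ (m + 3) := Nat.pow_le_pow_right two_pos (by omega)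
    omega
  · obtain ⟨j, rfl⟩ : ∃ j, m = j + 1 := ⟨m - 1, by omega⟩
    refine Or.inr (Or.inl ⟨j, hn.trans (by ring), a, b, hord.trans (by ring), ?_, hba⟩)
    exact orderOf_eq_prime hb2 fun e => hb (e ▸ one_mem _)

end Cfsg.Agent.S4399
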