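import Cfsg.Statements.S0093
import Cfsg.Agent.Lib.LocalEven.Residual
import Cfsg.Agent.Lib.Solvable.FrattiniFitting
import Mathlib.GroupTheory.Sylow

set_option autoImplicit false
open Cfsg
open scoped IsMulCommutative commutatorElement

namespace Cfsg.Agent.S0093

/-- Every finite p-group has a critical subgroup: a characteristic subgroup H whose Frattini subgroup and whose commutator with the whole group lie in the centre of H, and whose centralizer is contained in H. -/
theorem result {P : Type*} [Group P] [Finite P] {p : ℕ} [Fact p.Prime] (hP : IsPGroup p P) : ∃ H : Subgroup P, H.Characteristic ∧ (frattini H).map H.subtype ≤ Subgroup.centralizer (H : Set P) ∧ ⁅H, (⊤ : Subgroup P)⁆ ≤ H ⊓ Subgroup.centralizer (H : Set P) ∧ Subgroup.centralizer (H : Set P) ≤ H := by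
  classical
  haveI := hP.isNilpotent
  obtain ⟨D, ⟨hDc, hDab⟩, hmax⟩ := Set.Finite.exists_maximal
    (Set.toFinite {K : Subgroup P | K.Characteristic ∧ IsMulCommutative K}) ⟨⊥, inferInstance, inferInstance⟩
  haveI := hDc
  haveI := hDab
  have hcm : ∀ (K : Subgroup P), K.Characteristic → ∀ (φ : P ≃* P) (x : P), x ∈ K → φ x ∈ K :=
    fun K hK φ x hx => Subgroup.characteristic_iff_map_le.mp hK φ ⟨x, hx, rfl⟩
  haveI hCc : (Subgroup.centralizer (D : Set P)).Characteristic := inferInstance
  let π := QuotientGroup.mk' D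
  let H : Subgroup P := Subgroup.centralizer (D : Set P) ⊓
    (((powMonoidHom p).ker).map (Subgroup.center (P ⧸ D)).subtype).comap π
  have hmemH : ∀ x, x ∈ H ↔ x ∈ Subgroup.centralizer (D : Set P) ∧ x ^ p ∈ D ∧ ∀ g : P, ⁅x, g⁆ ∈ D := by
    intro x
    refine and_congr_right fun _ => ?_
    constructor
    · rintro ⟨y, hy, hyx⟩
      have hy' : (π x) ^ p = 1 := by rw [← hyx, ← map_pow]; simp only [SetLike.mem_coe, MonoidHom.mem_ker, powMonoidHom_apply] at hy; rw [hy]; rfl
      have hz : π x ∈ Subgroup.center (P ⧸ D) := hyx ▸ y.2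
      refine ⟨(QuotientGroup.eq_one_iff _).mp (by simpa [π] using hy'), fun g => ?_⟩
      rw [← QuotientGroup.eq_one_iff, ← QuotientGroup.mk'_apply, map_commutatorElement,
        commutatorElement_eq_one_iff_mul_comm]
      exact ((Subgroup.mem_center_iff.mp hz) _).symm
    · rintro ⟨h1, h2⟩
      have hz : π x ∈ Subgroup.center (P ⧸ D) := by
        rw [Subgroup.mem_center_iff]
        intro g
        obtain ⟨g, rfl⟩ := QuotientGroup.mk'_surjective D g
        refine (commutatorElement_eq_one_iff_mul_comm.mp ?_).symm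
        rw [← map_commutatorElement, QuotientGroup.mk'_apply, QuotientGroup.eq_one_iff]
        exact h2 g
      refine ⟨⟨π x, hz⟩, ?_, rfl⟩
      simp only [SetLike.mem_coe, MonoidHom.mem_ker, powMonoidHom_apply]
      ext
      show π x ^ p = 1
      rw [← map_pow, QuotientGroup.mk'_apply, QuotientGroup.eq_one_iff]
      exact h1
  have hDC : D ≤ Subgroup.centralizer (D : Set P) := D.le_centralizer
  have hDH : D ≤ H := fun x hx => (hmemH x).mpr ⟨hDC hx, pow_mem hx p, fun g => by
    rw [commutatorElement_def, mul_assoc, mul_assoc]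
    exact mul_mem hx (by rw [← mul_assoc]; exact Subgroup.Normal.conj_mem inferInstance _ (inv_mem hx) g)⟩
  have hHc : H.Characteristic := Subgroup.characteristic_iff_map_le.mpr fun φ => by
    rintro _ ⟨x, hx, rfl⟩
    obtain ⟨h1, h2, h3⟩ := (hmemH x).mp hx
    refine (hmemH _).mpr ⟨hcm _ hCc φ x h1, ?_, fun g => ?_⟩
    · rw [← map_pow]; exact hcm D hDc φ _ h2
    · have := hcm D hDc φ _ (h3 (φ.symm g))
      rw [map_commutatorElement, φ.apply_symm_apply] at this
      exact this
  haveI := hHc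
  have hDZ : D ≤ Subgroup.centralizer (H : Set P) :=
    Subgroup.le_centralizer_iff.mp (inf_le_left : H ≤ _)
  have hKc : (Subgroup.centralizer (H : Set P)).Characteristic := inferInstance
  have hZeq : H ⊓ Subgroup.centralizer (H : Set P) ≤ D := by
    refine hmax (y := H ⊓ Subgroup.centralizer (H : Set P)) ⟨Subgroup.characteristic_iff_map_le.mpr fun φ => ?_, ⟨⟨fun a b => Subtype.ext ?_⟩⟩⟩
      (le_inf hDH hDZ)
    · rintro _ ⟨x, hx, rfl⟩
      exact ⟨hcm H hHc φ x hx.1, hcm _ hKc φ x hx.2⟩
    · exact Subgroup.mem_centralizer_iff.mp b.2.2 a a.2.1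
  refine ⟨H, hHc, ?_, ?_, ?_⟩
  · refine le_trans (Subgroup.map_le_iff_le_comap.mpr ?_) hDZ
    refine CfsgLib.LocalEven.Residual.frattini_le (p := p) (fun a b => ?_) fun a => ?_
    · exact ((hmemH a).mp a.2).2.2 b
    · exact ((hmemH a).mp a.2).2.1
  · rw [Subgroup.commutator_le]
    intro x hx g _
    have := ((hmemH x).mp hx).2.2 g
    exact ⟨hDH this, hDZ this⟩
  · set K := Subgroup.centralizer (H : Set P) with hK
    by_contra hne
    have hKD : ¬ K ≤ D := fun h => hne (h.trans hDH)
    haveI hKn : (K.map π).Normal := Subgroup.Normal.map inferInstance π (QuotientGroup.mk'_surjective D)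
    have hPD : IsPGroup p (P ⧸ D) := hP.to_quotient D
    haveI := hPD.isNilpotent
    haveI : Nontrivial (K.map π) := by
      rw [Subgroup.nontrivial_iff_ne_bot, Ne, Subgroup.map_eq_bot_iff, QuotientGroup.ker_mk']
      exact hKD
    have hne' : K.map π ⊓ Subgroup.center (P ⧸ D) ≠ ⊥ :=
      CfsgLib.Solvable.FrattiniFitting.inf_center_ne_bot _ ((Subgroup.nontrivial_iff_ne_bot _).mp inferInstance)
    haveI : Nontrivial (K.map π ⊓ Subgroup.center (P ⧸ D) : Subgroup (P ⧸ D)) :=
      (Subgroup.nontrivial_iff_ne_bot _).mpr hne'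
    obtain ⟨n, hn, hcard⟩ := (hPD.to_subgroup (K.map π ⊓ Subgroup.center (P ⧸ D))).nontrivial_iff_card.mp inferInstance
    obtain ⟨⟨z, hzK, hzc⟩, hz⟩ := exists_prime_orderOf_dvd_card' (G := (K.map π ⊓ Subgroup.center (P ⧸ D) : Subgroup (P ⧸ D))) p
      (by rw [hcard]; exact dvd_pow_self p hn.ne')
    rw [← Subgroup.orderOf_coe] at hz
    simp only at hz
    obtain ⟨x, hx, rfl⟩ := hzK
    have hxH : x ∈ H := by
      refine (hmemH x).mpr ⟨?_, ?_, fun g => ?_⟩
      · exact Subgroup.centralizer_le (SetLike.coe_subset_coe.mpr hDH) hx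
      · rw [← QuotientGroup.eq_one_iff, ← QuotientGroup.mk'_apply, map_pow, ← hz, pow_orderOf_eq_one]
      · rw [← QuotientGroup.eq_one_iff, ← QuotientGroup.mk'_apply, map_commutatorElement,
          commutatorElement_eq_one_iff_mul_comm]
        exact ((Subgroup.mem_center_iff.mp hzc) _).symm
    have : π x = 1 := (QuotientGroup.eq_one_iff _).mpr (hZeq ⟨hxH, hx⟩)
    rw [this, orderOf_one] at hz
    exact (Fact.out : p.Prime).ne_one hz.symm

end Cfsg.Agent.S0093
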