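import Cfsg.Statements.S0949
import Cfsg.Agent.Lib.BrauerSuzuki.HomocyclicMain

set_option autoImplicit false
open Cfsg

namespace Cfsg.Agent.S0949

open CfsgLib.BrauerSuzuki CfsgLib.BrauerSuzuki.Homocyclic CfsgLib.Blocks

/-- A normal subgroup with a normal 2-complement is a 2-group when `O(G) = 1`. -/
theorem isPGroup_of_npc {G : Type*} [Group G] [Finite G]
    (hO : ∀ N : Subgroup G, N.Normal → Odd (Nat.card N) → N = ⊥) (N : Subgroup G) [N.Normal]
    (h : Cfsg.HasNormalPComplement 2 ↥N) : IsPGroup 2 ↥N := by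
  haveI := Fact.mk Nat.prime_two
  have hK := hO ((Cfsg.pResidual 2 ↥N).map N.subtype) inferInstance (by
    rw [Nat.card_congr (Subgroup.equivMapOfInjective _ _ N.subtype_injective).symm.toEquiv]
    exact Nat.coprime_two_right.mp (CfsgLib.Fusion.Basic.npc_iff_coprime.mp h))
  rw [Subgroup.map_eq_bot_iff_of_injective _ N.subtype_injective] at hK
  intro g
  obtain ⟨k, hk⟩ := CfsgLib.Fusion.Basic.isPGroup_quotient_pResidual (G := ↥N) (p := 2) (QuotientGroup.mk g)
  refine ⟨k, Subgroup.mem_bot.mp ?_⟩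
  rw [← hK, ← QuotientGroup.eq_one_iff]
  exact hk

theorem card_two_torsion {n : ℕ} [NeZero n] :
    (Finset.univ.filter fun v : ZMod n × ZMod n => 2 • v = 0).card ≤ 4 := by
  refine (Finset.card_le_card (t := (Finset.univ.filter fun a : ZMod n => 2 • a = 0) ×ˢ
    (Finset.univ.filter fun a : ZMod n => 2 • a = 0)) fun v hv => ?_).trans ?_
  · simp only [Finset.mem_filter, Finset.mem_univ, true_and, Prod.ext_iff, Prod.smul_fst, Prod.smul_snd,
      Prod.fst_zero, Prod.snd_zero, Finset.mem_product] at hv ⊢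
    exact hv
  · rw [Finset.card_product]
    have h2 : (Finset.univ.filter fun a : ZMod n => 2 • a = 0).card ≤ 2 :=
      IsAddCyclic.card_nsmul_eq_zero_le (α := ZMod n) two_pos
    exact Nat.mul_le_mul h2 h2


/-- Let the finite group G have a Sylow 2-subgroup P isomorphic to Z/2^m × Z/2^m with m ≥ 2, and suppose G has no nontrivial normal subgroup of odd order. Then P is normal in G, C_G(P) = P, and the index of P is 1 or 3. -/
theorem result {G : Type*} [Group G] [Finite G] (P : Sylow 2 G) (m : ℕ) (hm : 2 ≤ m) (e : (P : Subgroup G) ≃* Multiplicative (ZMod (2 ^ m) × ZMod (2 ^ m))) (hO : ∀ N : Subgroup G, N.Normal → Odd (Nat.card N) → N = ⊥) : (P : Subgroup G).Normal ∧ Subgroup.centralizer (P : Set G) = (P : Subgroup G) ∧ ((P : Subgroup G).index = 1 ∨ (P : Subgroup G).index = 3) := by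
  classical
  haveI := Fact.mk Nat.prime_two
  haveI := Fintype.ofFinite G
  have hc : ∀ x ∈ (P : Subgroup G), ∀ y ∈ (P : Subgroup G), x * y = y * x := fun x hx y hy =>
    congrArg Subtype.val (e.injective (by rw [map_mul, map_mul]; exact mul_comm _ _) :
      (⟨x, hx⟩ : ↥(P : Subgroup G)) * ⟨y, hy⟩ = ⟨y, hy⟩ * ⟨x, hx⟩)
  have hcard : Nat.card ↥(P : Subgroup G) = 2 ^ m * 2 ^ m := by
    rw [Nat.card_congr e.toEquiv, Nat.card_congr Multiplicative.toAdd, Nat.card_prod, Nat.card_zmod]
  haveI : NeZero (2 ^ m) := ⟨by positivity⟩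
  have h16 : 16 ∣ Nat.card ↥(P : Subgroup G) := by
    rw [hcard, ← pow_add]
    exact (show 16 ∣ 2 ^ 4 from dvd_rfl).trans (pow_dvd_pow 2 (by omega))
  have hy : ∃ y : ↥(P : Subgroup G), y ^ 2 ≠ 1 := by
    refine ⟨e.symm (Multiplicative.ofAdd ((1 : ZMod (2 ^ m)), (0 : ZMod (2 ^ m)))), fun h => ?_⟩
    have h' := congrArg e h
    rw [map_pow, e.apply_symm_apply, map_one, ← ofAdd_nsmul, ← ofAdd_zero] at h'
    have h2 : ((2 : ℕ) : ZMod (2 ^ m)) = 0 := by
      have := congrArg Prod.fst (Multiplicative.ofAdd.injective h')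
      simpa using this
    rw [ZMod.natCast_eq_zero_iff] at h2
    have : 2 ^ 2 ≤ 2 ^ m := Nat.pow_le_pow_right two_pos hm
    have := Nat.le_of_dvd two_pos h2
    omega
  have hI : Nat.card {x : ↥(P : Subgroup G) // x ^ 2 = 1 ∧ x ≠ 1} ≤ 3 := by
    rw [Nat.card_eq_fintype_card, Fintype.card_subtype]
    have h4 : (Finset.univ.filter fun x : ↥(P : Subgroup G) => x ^ 2 = 1).card ≤ 4 := by
      refine le_trans ?_ (card_two_torsion (n := 2 ^ m))
      refine Finset.card_le_card_of_injOn (fun x => Multiplicative.toAdd (e x)) (fun x hx => ?_)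
        fun a _ b _ h => e.injective (Multiplicative.toAdd.injective h)
      simp only [Finset.coe_filter, Finset.mem_univ, true_and, Set.mem_setOf_eq] at hx ⊢
      rw [← toAdd_pow, ← map_pow, hx, map_one, toAdd_one]
    have he : (Finset.univ.filter fun x : ↥(P : Subgroup G) => x ^ 2 = 1 ∧ x ≠ 1)
        = (Finset.univ.filter fun x : ↥(P : Subgroup G) => x ^ 2 = 1).erase 1 := by
      ext x; simp [and_comm]
    rw [he, Finset.card_erase_of_mem (by simp)]
    omega
  have hself : (P : Subgroup G) ≤ Subgroup.centralizer ((P : Subgroup G) : Set G) := fun x hx =>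
    Subgroup.mem_centralizer_iff.mpr fun y hy => hc y hy x hx
  rcases central_or_rot hc hI with hcen | ⟨n, hn⟩
  · have hnpc := CfsgLib.Fusion.Abelian.npc_of_normalizer_le_centralizer P hcen
    have h2 : IsPGroup 2 ↥(⊤ : Subgroup G) :=
      isPGroup_of_npc hO ⊤ (CfsgLib.Fusion.Basic.npc_subgroup hnpc ⊤)
    have hP : (P : Subgroup G) = ⊤ := (P.is_maximal' h2 le_top).symm
    refine ⟨hP ▸ inferInstance, le_antisymm (hP.symm ▸ le_top) hself, Or.inl ?_⟩
    rw [hP, Subgroup.index_top]
  obtain ⟨M, hM⟩ := exists_isPModular Nat.prime_two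
  obtain ⟨A, hA1, hAB, hAd, hAP⟩ := linear_char hn h16 hy hM
  obtain ⟨φ, hφ⟩ := CfsgLib.Char.exists_hom_of_apply_one_eq_one
    (CfsgLib.Char.IsIrrCharacter.isCharacter A.2) hAd
  set G1 := φ.ker with hG1
  have hA : ∀ g, (A : G → ℂ) g = (φ g : ℂ) := fun g => congrFun hφ g
  have hPG1 : (P : Subgroup G) ≤ G1 := fun x hx =>
    MonoidHom.mem_ker.mpr (Units.ext (by rw [← hA, hAP x hx, Units.val_one]))
  obtain ⟨t, ht⟩ : ∃ t : ↥(P : Subgroup G), orderOf t = 2 := exists_prime_orderOf_dvd_card' 2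
    (dvd_trans (by norm_num) h16)
  have ht1 : (t : G) ≠ 1 := fun h => by rw [← Subgroup.orderOf_coe, h, orderOf_one] at ht; omega
  have hCG1 : Subgroup.centralizer ((P : Subgroup G) : Set G) ≤ G1 := by
    intro c hcc
    obtain ⟨z, y, -, hzy, -, hreg, ⟨k, hk⟩, hzc, hyc⟩ := exists_isPPart (G := G) Nat.prime_two c
    have hz := Subgroup.zpowers_le.mpr hcc hzc
    have hy' := Subgroup.zpowers_le.mpr hcc hyc
    have hzP : z ∈ (P : Subgroup G) := by
      have hsup : IsPGroup 2 ↥((P : Subgroup G) ⊔ Subgroup.zpowers z) :=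
        IsPGroup.to_sup_of_normal_left' P.2 (IsPGroup.of_card (n := k) (by rw [Nat.card_zpowers, hk]))
          (Subgroup.zpowers_le.mpr (Subgroup.centralizer_le_normalizer _ hz))
      rw [← P.is_maximal' hsup le_sup_left]
      exact Subgroup.mem_sup_right (Subgroup.mem_zpowers z)
    have hyC : y ∈ Subgroup.centralizer ({(t : G)} : Set G) :=
      Subgroup.mem_centralizer_singleton_iff.mpr (Subgroup.mem_centralizer_iff.mp hy' _ t.2).symm
    have h := apply_section hn hM hAB (z := (t : G)) ⟨1, by rw [Subgroup.orderOf_coe, ht, pow_one]⟩ ht1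
      ⟨y, hyC⟩ (show ¬ 2 ∣ orderOf _ by rwa [Subgroup.orderOf_mk])
    rw [hA, hA, map_mul, MonoidHom.mem_ker.mp (hPG1 t.2), one_mul] at h
    rw [← hzy]
    exact mul_mem (hPG1 hzP) (MonoidHom.mem_ker.mpr (Units.ext h))
  have hn1 : n ∉ G1 := fun hmem => by
    apply hA1
    have hN : Subgroup.normalizer ((P : Subgroup G) : Set G) ≤ G1 := by
      intro g hg
      have key : ∀ k ∈ G1, k ∈ Subgroup.normalizer ((P : Subgroup G) : Set G) →
          (∀ x ∈ (P : Subgroup G), g * x * g⁻¹ = k * x * k⁻¹) → g ∈ G1 := by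
        intro k hk _ h
        have : k⁻¹ * g ∈ G1 := hCG1 (Subgroup.mem_centralizer_iff.mpr fun x hx => by
          have e1 := h x hx
          calc x * (k⁻¹ * g) = k⁻¹ * (k * x * k⁻¹) * g := by group
            _ = k⁻¹ * (g * x * g⁻¹) * g := by rw [e1]
            _ = _ := by group)
        simpa using mul_mem hk this
      rcases hn.trans g hg with h | h | h
      · exact key 1 (one_mem _) (one_mem _) fun x hx => by rw [h x hx]; group
      · exact key n hmem hn.mem h
      · exact key (n * n) (mul_mem hmem hmem) (mul_mem hn.mem hn.mem) fun x hx => by rw [h x hx]; group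
    have htop : G1 = ⊤ := by
      rw [eq_top_iff, ← Sylow.normalizer_sup_eq_top' P hPG1]
      exact sup_le hN le_rfl
    exact Subtype.ext (funext fun g => by
      rw [hA g, MonoidHom.mem_ker.mp (show g ∈ φ.ker by rw [← hG1, htop]; exact Subgroup.mem_top g)]
      rfl)
  have hn3 : n * n * n ∈ Subgroup.centralizer ((P : Subgroup G) : Set G) :=
    Subgroup.mem_centralizer_iff.mpr fun x hx => by
      calc x * (n * n * n) = n * (n * (n * x * n⁻¹) * n⁻¹) * n⁻¹ * (n * n * n) := by rw [hn.cube x hx]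
        _ = _ := by group
  have hstab : ∀ g ∈ G1, g ∈ Subgroup.normalizer ((P : Subgroup G) : Set G) →
      ∀ x ∈ (P : Subgroup G), g * x * g⁻¹ = x := by
    intro g hg1 hg
    have key : ∀ k, (∀ x ∈ (P : Subgroup G), g * x * g⁻¹ = k * x * k⁻¹) → k ∈ G1 := by
      intro k h
      have : g⁻¹ * k ∈ G1 := hCG1 (Subgroup.mem_centralizer_iff.mpr fun x hx => by
        have e1 := h x hx
        calc x * (g⁻¹ * k) = g⁻¹ * (g * x * g⁻¹) * k := by group
          _ = g⁻¹ * (k * x * k⁻¹) * k := by rw [e1]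
          _ = _ := by group)
      simpa using mul_mem hg1 this
    rcases hn.trans g hg with h | h | h
    · exact h
    · exact absurd (key n h) hn1
    · refine absurd ?_ hn1
      have hnn := key (n * n) fun x hx => by rw [h x hx]; group
      simpa [mul_assoc] using mul_mem (inv_mem hnn) (hCG1 hn3)
  have hnpc : Cfsg.HasNormalPComplement 2 ↥G1 := by
    refine CfsgLib.Fusion.Abelian.npc_of_normalizer_le_centralizer (P.subtype hPG1) fun g hg =>
      Subgroup.mem_centralizer_iff.mpr fun y hy => Subtype.ext ?_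
    have hgN : (g : G) ∈ Subgroup.normalizer ((P : Subgroup G) : Set G) := by
      refine Subgroup.mem_normalizer_iff.mpr fun u => ⟨fun hu => ?_, fun hu => ?_⟩
      · exact Subgroup.mem_subgroupOf.mp
          ((Subgroup.mem_normalizer_iff.mp hg ⟨u, hPG1 hu⟩).mp (Subgroup.mem_subgroupOf.mpr hu))
      · have huC : u ∈ G1 := by
          have h2 := mul_mem (mul_mem (inv_mem g.2) (hPG1 hu)) g.2
          rwa [show (g : G)⁻¹ * ((g : G) * u * (g : G)⁻¹) * g = u by group] at h2
        exact Subgroup.mem_subgroupOf.mp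
          ((Subgroup.mem_normalizer_iff.mp hg ⟨u, huC⟩).mpr (Subgroup.mem_subgroupOf.mpr hu))
    show (y : G) * (g : G) = (g : G) * (y : G)
    exact (mul_inv_eq_iff_eq_mul.mp (hstab g g.2 hgN y (Subgroup.mem_subgroupOf.mp hy))).symm
  have hP : (P : Subgroup G) = G1 := (P.is_maximal' (isPGroup_of_npc hO G1 hnpc) hPG1).symm
  haveI hnorm : (P : Subgroup G).Normal := by rw [hP]; exact φ.normal_ker
  refine ⟨hnorm, le_antisymm (fun c hcc => hP.symm ▸ hCG1 hcc) hself, Or.inr ?_⟩
  set q : G →* G ⧸ (P : Subgroup G) := QuotientGroup.mk' (P : Subgroup G)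
  have hq : ∀ g, q g = 1 ↔ g ∈ G1 := fun g => by rw [QuotientGroup.mk'_apply, QuotientGroup.eq_one_iff, hP]
  have hgen : ∀ z : G ⧸ (P : Subgroup G), z ∈ Subgroup.zpowers (q n) := by
    intro z
    obtain ⟨g, rfl⟩ := QuotientGroup.mk'_surjective _ z
    have hg : g ∈ Subgroup.normalizer ((P : Subgroup G) : Set G) := by
      rw [Subgroup.normalizer_eq_top_iff.mpr hnorm]; exact Subgroup.mem_top g
    have key : ∀ k, (∀ x ∈ (P : Subgroup G), g * x * g⁻¹ = k * x * k⁻¹) → q g = q k := by
      intro k h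
      have : k⁻¹ * g ∈ G1 := hCG1 (Subgroup.mem_centralizer_iff.mpr fun x hx => by
        have e1 := h x hx
        calc x * (k⁻¹ * g) = k⁻¹ * (k * x * k⁻¹) * g := by group
          _ = k⁻¹ * (g * x * g⁻¹) * g := by rw [e1]
          _ = _ := by group)
      have := (hq _).mpr this
      rw [map_mul, map_inv, inv_mul_eq_one] at this
      exact this.symm
    rcases hn.trans g hg with h | h | h
    · rw [key 1 fun x hx => by rw [h x hx]; group, map_one]; exact one_mem _
    · rw [key n h]; exact Subgroup.mem_zpowers _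
    · rw [key (n * n) fun x hx => by rw [h x hx]; group, map_mul]
      exact mul_mem (Subgroup.mem_zpowers _) (Subgroup.mem_zpowers _)
  have ho : orderOf (q n) = 3 := by
    refine orderOf_eq_prime ?_ fun h => hn1 ((hq n).mp h)
    rw [pow_succ, pow_two, ← map_mul, ← map_mul]
    exact (hq _).mpr (hCG1 hn3)
  rw [Subgroup.index_eq_card, ← ho, ← Nat.card_zpowers, (Subgroup.eq_top_iff' _).mpr hgen, Subgroup.card_top]

end Cfsg.Agent.S0949
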