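import Cfsg.Statements.S1443
import Cfsg.Agent.Lib.OddOrder.OmegaLemma

set_option autoImplicit false
open Cfsg
open scoped commutatorElement

namespace Cfsg.Agent.S1443

/-- Let G be a finite group, p an odd prime, H a p-subgroup, E an elementary abelian subgroup of H, and A a subgroup of order coprime to p normalizing H. If A centralizes every element of order p in H ∩ C_G(E), then A centralizes H. -/
theorem result {G : Type*} [Group G] [Finite G] (p : ℕ) [Fact p.Prime] (hp : p ≠ 2) (H E A : Subgroup G) (hH : IsPGroup p H) (hE : E ≤ H) (hEe : Cfsg.IsElementaryAbelian p E)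
    (hA : (A ≤ Subgroup.normalizer (H : Set G))) (hcop : (Nat.card A).Coprime p)
    (hfix : ∀ x ∈ (H ⊓ Subgroup.centralizer (E : Set G)), orderOf x = p → A ≤ Subgroup.centralizer ({x} : Set G)) :
    A ≤ Subgroup.centralizer (H : Set G) := by
  have hEc : E ≤ H ⊓ Subgroup.centralizer (E : Set G) :=
    haveI := hEe.1
    le_inf hE E.le_centralizer
  set C := H ⊓ Subgroup.centralizer (E : Set G) with hC
  haveI := hEe.1
  have hfixE : A ≤ Subgroup.centralizer (E : Set G) := by
    intro a ha
    rw [Subgroup.mem_centralizer_iff]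
    intro e he
    by_cases h1 : e = 1
    · simp [h1]
    · have := hfix e (hEc he) (orderOf_eq_prime (hEe.2 e he) h1) ha
      exact (Subgroup.mem_centralizer_singleton_iff.mp this).symm
  have hAC : A ≤ Subgroup.normalizer (C : Set G) := by
    intro a ha
    have h1 := Subgroup.le_normalizer_iff.mp hA a ha
    apply CfsgLib.Coprime.mem_normalizer_of_conj_map_le
    intro x hx
    refine ⟨h1 x hx.1, ?_⟩
    exact (Subgroup.centralizer (E : Set G)).mul_mem ((Subgroup.centralizer (E : Set G)).mul_mem (hfixE ha) hx.2) ((Subgroup.centralizer (E : Set G)).inv_mem (hfixE ha))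
  have key : A ≤ Subgroup.centralizer (C : Set G) := by
    refine CfsgLib.OddOrder.OmegaLemma.le_centralizer_of_fix_orderP hp (hR := hH.to_le inf_le_left) hAC hcop ?_
    intro x hx hxp
    by_cases h1 : x = 1
    · subst h1; intro a _; simp [Subgroup.mem_centralizer_singleton_iff]
    · exact hfix x hx (orderOf_eq_prime hxp h1)
  haveI : Group.IsNilpotent H := hH.isNilpotent
  refine CfsgLib.OddOrder.Stabilize.le_centralizer_of_selfcentralizing hA ?_ inf_le_left key ?_
  · obtain ⟨n, hn⟩ := IsPGroup.iff_card.mp hH
    rw [hn]; exact Nat.Coprime.pow_right _ hcop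
  · exact inf_le_inf_left H (Subgroup.centralizer_le hEc)

end Cfsg.Agent.S1443
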