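import Cfsg.Statements.S5212
import Cfsg.Agent.Lib.FusionSystem.MetacyclicTwoNormal
import Cfsg.Agent.Lib.FusionSystem.NilpotencyCriterion
import Cfsg.Agent.Lib.FusionSystem.Inner

set_option autoImplicit false
open Cfsg

namespace Cfsg.Agent.S5212

open Cfsg.FusionSystem CfsgLib.Fsys in
/-- A normal Sylow group with a `p`-group of automorphisms gives the inner system. -/
theorem inner_of_normal {Ω : Type*} [Group Ω] {S : Subgroup Ω} [Finite S] {p : ℕ} [Fact p.Prime]
    (hS : IsPGroup p S) {F : Cfsg.FusionSystem S} (hF : F.IsSaturated p) (hn : F.IsNormal S)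
    (hA : IsPGroup p (MulAut S)) (P : Subgroup Ω) : F.Hom P = (Cfsg.innerFusionSystem S).Hom P := by
  refine hom_eq_inner_of_pAut hS hF (fun Q hQ α hα => ?_) P
  obtain ⟨g, hg, he, hi⟩ := (normal_iff_fn.1 hn).2 Q _ ((mem_autGroup_iff_fn hQ).1 hα)
  rw [sup_eq_right.2 hQ] at hg
  obtain ⟨β, -, hβ⟩ := exists_aut_of_fn hg hi
  obtain ⟨k, hk⟩ := hA β
  have hpow : ∀ (m : ℕ), ∀ x ∈ Q, autFn (α ^ m) x = autFn (β ^ m) x := by
    intro m
    induction m with
    | zero => intro x hx; rw [pow_zero, pow_zero, autFn_id hx, autFn_id (hQ hx)]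
    | succ m ih =>
      intro x hx
      rw [pow_succ, pow_succ, autFn_mul _ _ hx, autFn_mul _ _ (hQ hx), ih _ (autFn_mem α hx),
        show autFn β x = g x from (autFn_coe β ⟨x, hQ hx⟩).trans (hβ ⟨x, hQ hx⟩), he x hx]
  exact ⟨k, mulAut_ext fun x hx => by rw [hpow _ x hx, hk, autFn_id hx, autFn_id (hQ hx)]⟩

/-- Let S be a finite metacyclic 2-group that is not homocyclic abelian (a direct product of cyclic groups of one common order), not dihedral, not semidihedral and not generalized quaternion. Then every saturated fusion system over S is the inner fusion system of S. -/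
theorem result {Ω : Type*} [Group Ω] {S : Subgroup Ω} [Finite S] (hS : IsPGroup 2 S) (F : Cfsg.FusionSystem S) (hF : F.IsSaturated 2) (hm : Cfsg.IsMetacyclic ↥S) (hh : ¬ ∃ n k : ℕ, Nonempty (↥S ≃* Multiplicative (Fin k → ZMod (2 ^ n)))) (hd : ¬ ∃ m : ℕ, Nonempty (↥S ≃* DihedralGroup m)) (hq : ¬ ∃ m : ℕ, Nonempty (↥S ≃* QuaternionGroup m)) (hsd : ¬ Cfsg.IsQuasiDihedral ↥S) : ∀ P : Subgroup Ω, F.Hom P = (Cfsg.innerFusionSystem S).Hom P := by
  haveI : Fact (Nat.Prime 2) := ⟨Nat.prime_two⟩
  refine inner_of_normal hS hF (CfsgLib.Fsys.normal_of_metacyclic_two hS hF CfsgLib.Fsys.sc_top hm hd hq hsd) ?_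
  by_contra hA
  obtain ⟨N, hNn, hN, hQ⟩ := hm
  haveI := hNn
  rcases CfsgLib.Frobenius.MetacyclicTwo.main hS N hN hQ hA with h | ⟨n, ⟨e⟩⟩
  · exact hq ⟨2, h⟩
  · refine hh ⟨n, 2, ⟨e.trans ?_⟩⟩
    exact
      { toFun := fun x => Multiplicative.ofAdd ![Multiplicative.toAdd x.1, Multiplicative.toAdd x.2]
        invFun := fun x =>
          (Multiplicative.ofAdd (Multiplicative.toAdd x 0), Multiplicative.ofAdd (Multiplicative.toAdd x 1))
        left_inv := fun x => rfl
        right_inv := fun x => by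
          apply Multiplicative.toAdd.injective
          funext i; fin_cases i <;> rfl
        map_mul' := fun x y => by
          apply Multiplicative.toAdd.injective
          funext i; fin_cases i <;> rfl }

end Cfsg.Agent.S5212
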