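import Cfsg.Statements.S0824
import Cfsg.Agent.Lib.Classical.PermModels
import Cfsg.Agent.Lib.Classical.OrthCount
-- import your own Cfsg.Agent.* helpers here

set_option autoImplicit false
open Cfsg

namespace Cfsg.Agent.S0824

/-- O⁻_4(2) ≅ S_5: the isometry group of the form x y + z_1² + z_1 z_2 + z_2² over the field with 2 elements is isomorphic to the symmetric group on 5 letters. -/
theorem result {F : Type*} [Field F] [Fintype F] (hF : Fintype.card F = 2) : Nonempty (↥(Cfsg.isometryGroup F (Cfsg.quadFormMinus 1 F 1 1)) ≃* Equiv.Perm (Fin 5)) := by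
  classical
  let φ : ZMod 2 ≃+* F := ZMod.ringEquivOfPrime F Nat.prime_two hF
  let e := CfsgLib.Classical.PermModel.congrField φ (Qk := Cfsg.quadFormMinus 1 (ZMod 2) 1 1)
    (Qf' := Cfsg.quadFormMinus 1 F 1 1) (fun v => by simp only [Cfsg.quadFormMinus, Function.comp_apply, map_add, map_mul, map_pow, map_sum, map_one])
  let f := e.toMonoidHom.comp (CfsgLib.Classical.PermModel.toIsom CfsgLib.Classical.PermModel.fiveModel)
  have hinj : Function.Injective f :=
    e.injective.comp (CfsgLib.Classical.PermModel.toIsom_injective _ (Or.inl le_rfl))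
  have hab : ∀ z₁ z₂ : F, z₁ ^ 2 + 1 * z₁ * z₂ + 1 * z₂ ^ 2 = 0 → z₁ = 0 ∧ z₂ = 0 := by
    intro z₁ z₂
    obtain ⟨a, rfl⟩ := φ.surjective z₁
    obtain ⟨b, rfl⟩ := φ.surjective z₂
    intro h
    have h' : a ^ 2 + 1 * a * b + 1 * b ^ 2 = 0 := φ.injective (by rw [map_zero, map_add, map_add, map_mul, map_mul, map_mul, map_pow, map_pow, map_one]; exact h)
    have key : ∀ a b : ZMod 2, a ^ 2 + 1 * a * b + 1 * b ^ 2 = 0 → a = 0 ∧ b = 0 := by decide
    simpa using key a b h'
  have hc : Nat.card ↥(Cfsg.isometryGroup F (Cfsg.quadFormMinus 1 F 1 1)) = 120 := by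
    rw [Nat.card_congr (CfsgLib.Orth.toOrth _ (CfsgLib.Orth.minusForm_apply (F := F) 1 1 1)).toEquiv,
      CfsgLib.Classical.card_orth_minus hF 1 1 hab 1]
    decide
  exact ⟨(MulEquiv.ofBijective f (hinj.bijective_of_nat_card_le (by
    rw [hc, Nat.card_perm, Nat.card_fin]; decide))).symm⟩

end Cfsg.Agent.S0824
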