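import Cfsg.Statements.S0731
import Cfsg.Agent.Lib.Perm.ZGroup.PSL

set_option autoImplicit false
open Cfsg

namespace Cfsg.Agent.S0731

/-- A finite Zassenhaus group whose point stabiliser has an abelian regular normal subgroup on the remaining points is sharply triply transitive or isomorphic to `PSL(2, F)` for a finite field `F` of odd characteristic. -/
theorem result {G Ω : Type*} [Group G] [Finite G] [MulAction G Ω] [Finite Ω] (hZ : Cfsg.IsZassenhausGroup G Ω) (x : Ω) (F : Subgroup G) (hFle : F ≤ MulAction.stabilizer G x) (hFn : (F.subgroupOf (MulAction.stabilizer G x)).Normal) (hFab : IsMulCommutative F) (hreg : ∀ y z : Ω, y ≠ x → z ≠ x → ∃! u : F, (u : G) • y = z) : (MulAction.IsMultiplyPretransitive G Ω 3 ∧ ∀ t : Fin 3 ↪ Ω, MulAction.stabilizer G t = ⊥) ∨ ∃ (K : Type) (_ : Field K) (_ : Fintype K), ringChar K ≠ 2 ∧ Nonempty (G ≃* Matrix.ProjectiveSpecialLinearGroup (Fin 2) K) := by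
  open CfsgLib.Perm.ZGroup MulAction in
  classical
  letI := Fintype.ofFinite Ω
  obtain ⟨b, hb⟩ : ∃ b : Ω, b ≠ x := by
    obtain ⟨g, hg, u, v, huv, -⟩ := hZ.2.2.2.1
    by_cases h : u = x
    · exact ⟨v, fun e => huv (h.trans e.symm)⟩
    · exact ⟨u, h⟩
  let S : Setup G Ω x b := ⟨hZ, hb.symm, F, hFle, hFn, hreg⟩
  rcases small_index _ S hFab rfl with h1 | h2
  · refine Or.inl ?_
    have hfree3 : ∀ t : Fin 3 ↪ Ω, stabilizer G t = ⊥ := fun t => (Subgroup.eq_bot_iff_forall _).mpr
      fun g hg => by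
        have h : ∀ i, g • t i = t i := fun i => congrArg (fun e : Fin 3 ↪ Ω => e i) (mem_stabilizer_iff.mp hg)
        exact S.free (fun e => by simpa using t.injective e) (fun e => by simpa using t.injective e)
          (fun e => by simpa using t.injective e) (h 0) (h 1) (h 2)
    refine ⟨?_, hfree3⟩
    -- the two-point stabiliser is transitive on the remaining points
    have hH : ∀ y z : Ω, y ≠ x → y ≠ b → z ≠ x → z ≠ b → ∃ g ∈ S.H, g • y = z := by
      intro y z hy hy' hz hz'
      have hmaps : ∀ h : S.H, (h : G) • y ≠ x ∧ (h : G) • y ≠ b := fun h =>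
        ⟨fun e => hy (MulAction.injective (h : G) (e.trans h.2.1.symm)),
         fun e => hy' (MulAction.injective (h : G) (e.trans h.2.2.symm))⟩
      let φ : S.H → {w : Ω // w ∈ ({x, b} : Finset Ω)ᶜ} := fun h =>
        ⟨(h : G) • y, by simpa using hmaps h⟩
      have hinj : Function.Injective φ := fun g h e => by
        have e' : (g : G) • y = (h : G) • y := congrArg Subtype.val e
        refine Subtype.ext (inv_mul_eq_one.mp (S.free hb.symm hy.symm hy'.symm ?_ ?_ ?_)).symm
        · rw [mul_smul, g.2.1, inv_smul_eq_iff, h.2.1]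
        · rw [mul_smul, g.2.2, inv_smul_eq_iff, h.2.2]
        · rw [mul_smul, e', inv_smul_smul]
      have hcard : Nat.card S.H = Nat.card {w : Ω // w ∈ ({x, b} : Finset Ω)ᶜ} := by
        rw [Nat.card_eq_finsetCard, Finset.card_compl, Finset.card_pair hb.symm, h1]
        have := S.card_F
        omega
      obtain ⟨h, hh⟩ := ((Nat.bijective_iff_injective_and_card φ).mpr ⟨hinj, hcard⟩).2
        ⟨z, by simp [hz, hz']⟩
      exact ⟨h, h.2, congrArg Subtype.val hh⟩
    obtain ⟨c, hcx, hcb⟩ : ∃ c : Ω, c ≠ x ∧ c ≠ b := by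
      by_contra h
      push Not at h
      have h3 := S.three_le
      have : (Finset.univ : Finset Ω) ⊆ {x, b} := fun w _ => by
        by_cases hw : w = x
        · simp [hw]
        · simp [h w hw]
      have h4 := (Finset.card_le_card this).trans Finset.card_le_two
      rw [Finset.card_univ] at h4
      omega
    let t₀ : Fin 3 ↪ Ω := ⟨![x, b, c], by
      intro i j
      fin_cases i <;> fin_cases j <;> simp [hb, hb.symm, hcx, hcx.symm, hcb, hcb.symm]⟩
    have hbase : ∀ t : Fin 3 ↪ Ω, ∃ g : G, g • t = t₀ := by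
      intro t
      obtain ⟨g, hg0, hg1⟩ := S.pair (fun e => by simpa using t.injective e : t 0 ≠ t 1) hb.symm
      obtain ⟨h, hh, hh2⟩ := hH (g • t 2) c
        (fun e => by simpa using t.injective (MulAction.injective g (e.trans hg0.symm)))
        (fun e => by simpa using t.injective (MulAction.injective g (e.trans hg1.symm))) hcx hcb
      refine ⟨h * g, Function.Embedding.ext fun i => ?_⟩
      rw [Function.Embedding.smul_apply, mul_smul]
      fin_cases i
      · show h • g • t 0 = x
        rw [hg0, hh.1]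
      · show h • g • t 1 = b
        rw [hg1, hh.2]
      · exact hh2
    refine ⟨fun t t' => ?_⟩
    obtain ⟨g, hg⟩ := hbase t
    obtain ⟨g', hg'⟩ := hbase t'
    exact ⟨g'⁻¹ * g, by rw [mul_smul, hg, ← hg', inv_smul_smul]⟩
  · obtain ⟨p, f, K, hK, hKf, hp, hp2, hKc, -, hiso⟩ := psl_of_half S hFab h2
    haveI : Fact p.Prime := ⟨hp⟩
    haveI : CharP K p := charP_of_card_eq_prime_pow (f := f) hKc
    exact Or.inr ⟨K, hK, hKf, by rw [ringChar.eq K p]; exact hp2, hiso⟩

end Cfsg.Agent.S0731
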