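import Cfsg.Statements.S1473
import Cfsg.Agent.Lib.OddOrder.CN
import Cfsg.Agent.Lib.Solvable.Basic

set_option autoImplicit false
open Cfsg
universe u
open scoped commutatorElement

namespace Cfsg.Agent.S1473

theorem congr_CN {A B : Type*} [Group A] [Group B] (e : A ≃* B) (h : Cfsg.IsCNGroup A) : Cfsg.IsCNGroup B := by
  intro b hb
  haveI := h (e.symm b) (by simpa using hb)
  have e2 : (Subgroup.centralizer ({e.symm b} : Set A)).map e.toMonoidHom = Subgroup.centralizer ({b} : Set B) := by
    ext y
    rw [Subgroup.mem_map_equiv, Subgroup.mem_centralizer_singleton_iff, Subgroup.mem_centralizer_singleton_iff]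
    constructor
    · intro hy
      simpa using congrArg e hy
    · intro hy
      simpa using congrArg e.symm hy
  rw [← e2]
  exact Group.nilpotent_of_mulEquiv ((Subgroup.centralizer ({e.symm b} : Set A)).equivMapOfInjective _ e.injective)

theorem main (n : ℕ) : ∀ (G : Type u) [Group G] [Finite G], Nat.card G = n → Cfsg.IsCNGroup G →
    ∀ (H : Subgroup G) [H.Normal], Group.IsSolvable H → Cfsg.IsCNGroup (G ⧸ H) := by
  induction n using Nat.strong_induction_on with
  | _ n ih =>
    intro G _ _ hn hCN H _ hH
    by_cases hH1 : H = ⊥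
    · exact congr_CN ((QuotientGroup.quotientMulEquivOfEq hH1).trans QuotientGroup.quotientBot).symm hCN
    obtain ⟨V, hVn, hV1, hVH, hmin⟩ := CfsgLib.Solvable.Basic.exists_minimal_normal_le hH1
    haveI := hVn
    haveI : Group.IsSolvable V := CfsgLib.Coprime.isSolvable_of_le hVH hH
    obtain ⟨hVc, p, hp, -, hVp⟩ := CfsgLib.Solvable.Basic.minimal_normal_solvable V hV1 hmin
    haveI := hVc
    haveI := Fact.mk hp
    have hQ := CfsgLib.OddOrder.CN.quotient_aux hCN V hVp hV1
    haveI := hH
    have h2 := ih _ (hn ▸ CfsgLib.Solvable.Basic.card_quotient_lt V hV1) (G ⧸ V) rfl hQ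
      (H.map (QuotientGroup.mk' V))
      (Group.isSolvable_of_surjective ((QuotientGroup.mk' V).subgroupMap_surjective H))
    exact congr_CN (QuotientGroup.quotientQuotientEquivQuotient V H hVH) h2


/-- Let G be a finite group in which the centralizer of every non-identity element is nilpotent, and H a solvable normal subgroup of G. Then in G/H the centralizer of every non-identity element is nilpotent. -/
theorem result {G : Type*} [Group G] [Finite G] (hCN : Cfsg.IsCNGroup G) (H : Subgroup G) [H.Normal] (hH : Group.IsSolvable H) :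
    Cfsg.IsCNGroup (G ⧸ H) := by
  exact main (Nat.card G) G rfl hCN H hH

end Cfsg.Agent.S1473
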