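import Cfsg.Statements.S0848
import Cfsg.Agent.Lib.Char.DihedralCentralizer

set_option autoImplicit false
open Cfsg

namespace Cfsg.Agent.S0848

open scoped commutatorElement

/-- If a finite group equals its own commutator subgroup and contains an involution whose centralizer is isomorphic to the dihedral group of order 8, then the group has order 168 or 360. -/
theorem result {G : Type*} [Group G] [Finite G] (hperf : commutator G = ⊤) (t : G) (ht : orderOf t = 2) (e : Subgroup.centralizer ({t} : Set G) ≃* DihedralGroup 4) : Nat.card G = 168 ∨ Nat.card G = 360 := by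
  classical
  cases nonempty_fintype G
  set C := Subgroup.centralizer ({t} : Set G) with hC
  have hmem : ∀ x : G, x ∈ C ↔ x * t = t * x := fun x => Subgroup.mem_centralizer_singleton_iff
  let t' : C := ⟨t, (hmem t).mpr rfl⟩
  have hD : ∀ z : DihedralGroup 4, (∀ w, z * w = w * z) → z ≠ 1 → z = DihedralGroup.r 2 := by decide
  have ht' : e t' = DihedralGroup.r 2 := by
    refine hD _ (fun w => ?_) fun h => ?_
    · obtain ⟨x, rfl⟩ := e.surjective w
      rw [← map_mul, ← map_mul]
      exact congrArg e (Subtype.ext ((hmem x).mp x.2).symm)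
    · have h1 : t' = 1 := e.injective (by rw [h, map_one])
      rw [show t = 1 from congrArg Subtype.val h1, orderOf_one] at ht
      omega
  let a' : C := e.symm (DihedralGroup.r 1)
  set a : G := (a' : G) with ha
  have ha2 : a ^ 2 = t := by
    have h : a' ^ 2 = t' := e.injective (by
      rw [map_pow, MulEquiv.apply_symm_apply, ht']; decide)
    exact congrArg Subtype.val h
  have hao : orderOf a = 4 := by
    rw [ha, Subgroup.orderOf_coe, MulEquiv.orderOf_eq, DihedralGroup.orderOf_r_one]
  have hC8 : Nat.card C = 8 := by rw [Nat.card_congr e.toEquiv, DihedralGroup.nat_card]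
  -- transfer statements about elements of `C` to the dihedral group
  have hgen : ∀ x : G, x * t = t * x → x * a = a * x ∨ x * a = a⁻¹ * x := by
    intro x hx
    have hd : ∀ d : DihedralGroup 4, d * DihedralGroup.r 1 = DihedralGroup.r 1 * d ∨
        d * DihedralGroup.r 1 = (DihedralGroup.r 1)⁻¹ * d := by decide
    have hea : e a' = DihedralGroup.r 1 := e.apply_symm_apply _
    rcases hd (e ⟨x, (hmem x).mpr hx⟩) with h | h <;> rw [← hea] at h
    · rw [← map_mul, ← map_mul] at h
      exact Or.inl (congrArg Subtype.val (e.injective h))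
    · rw [← map_inv, ← map_mul, ← map_mul] at h
      exact Or.inr (congrArg Subtype.val (e.injective h))
  have hea : e a' = DihedralGroup.r 1 := e.apply_symm_apply _
  have hhalf : Nat.card {x : G // x * t = t * x ∧ x * a = a * x} = 4 := by
    let q : {x : G // x * t = t * x ∧ x * a = a * x} ≃
        {d : DihedralGroup 4 // d * DihedralGroup.r 1 = DihedralGroup.r 1 * d} :=
      { toFun := fun x => ⟨e ⟨x, (hmem x).mpr x.2.1⟩, by
          rw [← hea, ← map_mul, ← map_mul]; exact congrArg e (Subtype.ext x.2.2)⟩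
        invFun := fun d => ⟨(e.symm d : G), (hmem _).mp (e.symm d.1).2, by
          have h : e.symm d.1 * a' = a' * e.symm d.1 := e.injective (by
            simp only [map_mul, MulEquiv.apply_symm_apply, hea, d.2])
          exact congrArg Subtype.val h⟩
        left_inv := fun x => Subtype.ext (by simp)
        right_inv := fun d => Subtype.ext (by simp) }
    rw [Nat.card_congr q, Nat.card_eq_fintype_card]
    decide
  -- `C` is a Sylow 2-subgroup
  have hC2 : IsPGroup 2 C := IsPGroup.of_card (n := 3) (by rw [hC8]; norm_num)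
  obtain ⟨P, hP⟩ := hC2.exists_le_sylow
  have hPC : (P : Subgroup G) = C := by
    refine le_antisymm (fun x hx => (hmem x).mpr ?_) hP
    have : Nontrivial (P : Subgroup G) :=
      ⟨⟨⟨t, hP t'.2⟩, 1, fun h => by
        rw [show t = 1 from congrArg Subtype.val h, orderOf_one] at ht; omega⟩⟩
    obtain ⟨z, hz, hz1⟩ := (Subgroup.nontrivial_iff_exists_ne_one _).mp
      P.isPGroup'.center_nontrivial
    have hzc := Subgroup.mem_center_iff.mp hz
    have hzC : (z : G) ∈ C := (hmem _).mpr (congrArg Subtype.val (hzc ⟨t, hP t'.2⟩)).symm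
    have hzt : (⟨z, hzC⟩ : C) = t' := by
      refine e.injective ?_
      rw [ht']
      refine hD _ (fun w => ?_) fun h => ?_
      · obtain ⟨y, rfl⟩ := e.surjective w
        rw [← map_mul, ← map_mul]
        exact congrArg e (Subtype.ext (congrArg Subtype.val (hzc ⟨y, hP y.2⟩)).symm)
      · exact hz1 (Subtype.ext (congrArg Subtype.val
          (e.injective (h.trans (map_one e).symm)) : (z : G) = 1))
    have h1 := congrArg Subtype.val (hzc ⟨x, hx⟩)
    rw [show t = (z : G) from (congrArg Subtype.val hzt).symm]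
    exact h1
  have hodd : ∃ k, Nat.card G = 8 * k ∧ Odd k := by
    refine ⟨(P : Subgroup G).index, ?_, Nat.not_even_iff_odd.mp fun h =>
      P.not_dvd_index (even_iff_two_dvd.mp h)⟩
    rw [← (P : Subgroup G).card_mul_index, show Nat.card (P : Subgroup G) = 8 by rw [hPC, hC8]]
  -- all involutions of `C` are conjugate to `t`
  have hconj : ∀ x : G, x ∈ C → x ≠ 1 → x ^ 2 = 1 → IsConj x t := by
    intro x hxC hx1 hx2
    by_cases hxt : x = t
    · rw [hxt]
    have hAC : Subgroup.zpowers a ≤ C := Subgroup.zpowers_le.mpr a'.2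
    have hel : ∀ y ∈ Subgroup.zpowers a, y ≠ 1 → y ^ 2 = 1 → y = t := by
      intro y hy hy1 hy2
      obtain ⟨k, rfl⟩ := (mem_powers_iff_mem_zpowers).2 hy
      simp only at hy1 hy2 ⊢
      rw [← pow_mul] at hy2
      have h4 := orderOf_dvd_of_pow_eq_one hy2
      rw [hao] at h4
      rw [← pow_mod_orderOf, hao] at hy1 ⊢
      rcases (show k % 4 = 0 ∨ k % 4 = 2 by omega) with h | h
      · exact absurd (by rw [h, pow_zero]) hy1
      · rw [h, ha2]
    have hQi : (Subgroup.zpowers a).relIndex (P : Subgroup G) = 2 := by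
      rw [hPC]
      have h := ((Subgroup.zpowers a).subgroupOf C).card_mul_index
      rw [Nat.card_congr (Subgroup.subgroupOfEquivOfLe hAC).toEquiv, Nat.card_zpowers, hao,
        hC8] at h
      show ((Subgroup.zpowers a).subgroupOf C).index = 2
      omega
    rcases CfsgLib.Fusion.ThompsonTransfer.thompson_transfer P (Subgroup.zpowers a) (hPC ▸ hAC) hQi x
      hx2 (hPC ▸ hxC) (fun h => hxt (hel x h hx1 hx2)) with ⟨M, hMn, hMi, -⟩ | ⟨g, hg⟩
    · exfalso
      have hcard : Nat.card (G ⧸ M) = 2 := hMi
      have := isCyclic_of_prime_card (p := 2) hcard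
      have hle : commutator G ≤ M := by
        rw [commutator_def, Subgroup.commutator_le]
        intro u _ v _
        rw [← QuotientGroup.eq_one_iff]
        show QuotientGroup.mk' M ⁅u, v⁆ = 1
        rw [map_commutatorElement, commutatorElement_eq_one_iff_mul_comm]
        exact IsCyclic.isMulCommutative.is_comm.comm _ _
      rw [hperf, top_le_iff] at hle
      rw [hle, Subgroup.index_top] at hMi
      omega
    · refine isConj_iff.mpr ⟨g, hel _ hg (fun h => hx1 ?_) ?_⟩
      · calc x = g⁻¹ * (g * x * g⁻¹) * g := by group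
          _ = 1 := by rw [h]; group
      · rw [conj_pow, hx2]; group
  have hinv : ∀ x : G, IsConj x t → x ≠ 1 ∧ x ^ 2 = 1 := by
    intro x hx
    obtain ⟨c, hc⟩ := isConj_iff.mp hx
    have hx' : x = c⁻¹ * t * c := by rw [← hc]; group
    refine ⟨fun h => ?_, ?_⟩
    · rw [h, mul_one, mul_inv_cancel] at hc
      rw [← hc, orderOf_one] at ht
      omega
    · rw [hx', show (c⁻¹ * t * c) ^ 2 = c⁻¹ * t ^ 2 * c by rw [sq, sq]; group, ← ht,
        pow_orderOf_eq_one]
      group
  have hpairs : ∀ g, g = t ∨ g = a →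
      Nat.card {x : G // IsConj x t ∧ IsConj (x⁻¹ * g) t} = 4 := by
    intro g hg
    have hgC : g ∈ C := by rcases hg with rfl | rfl; exacts [t'.2, a'.2]
    have hin : ∀ x : G, IsConj x t → IsConj (x⁻¹ * g) t → x ∈ C := by
      intro x h1 h2
      obtain ⟨-, hx⟩ := hinv x h1
      obtain ⟨-, hy⟩ := hinv _ h2
      have hxi : x⁻¹ = x := inv_eq_of_mul_eq_one_right (by rw [← sq, hx])
      rw [hxi, sq] at hy
      have hxg : x * g * x = g⁻¹ := eq_inv_of_mul_eq_one_left (by
        calc x * g * x * g = x * g * (x * g) := by group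
          _ = 1 := hy)
      rw [hmem]
      rcases hg with rfl | rfl
      · have hgi : g⁻¹ = g := inv_eq_of_mul_eq_one_right (by rw [← sq, ← ht, pow_orderOf_eq_one])
        rw [hgi] at hxg
        calc x * g = x * g * (x * x) := by rw [← sq, hx, mul_one]
          _ = x * g * x * x := by group
          _ = g * x := by rw [hxg]
      · have hti : t⁻¹ = t := inv_eq_of_mul_eq_one_right (by rw [← sq, ← ht, pow_orderOf_eq_one])
        have hxt : x * t * x = t := by
          calc x * t * x = (x * a * x⁻¹) ^ 2 := by rw [conj_pow, ha2, hxi]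
            _ = a⁻¹ ^ 2 := by rw [hxi, hxg]
            _ = t := by rw [inv_pow, ha2, hti]
        calc x * t = x * t * (x * x) := by rw [← sq, hx, mul_one]
          _ = x * t * x * x := by group
          _ = t * x := by rw [hxt]
    let g' : C := ⟨g, hgC⟩
    have heq : e g' = DihedralGroup.r 2 ∨ e g' = DihedralGroup.r 1 := by
      rcases hg with h | h
      · left; rw [← ht']; exact congrArg e (Subtype.ext h)
      · right; rw [← hea]; exact congrArg e (Subtype.ext h)
    have hm : ∀ u : C, (e u ≠ 1 ∧ e u ^ 2 = 1) ↔ ((u : G) ≠ 1 ∧ (u : G) ^ 2 = 1) := fun u => by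
      rw [← map_pow, ne_eq, EmbeddingLike.map_eq_one_iff, EmbeddingLike.map_eq_one_iff,
        ← Subgroup.coe_pow, ne_eq, OneMemClass.coe_eq_one, OneMemClass.coe_eq_one]
    let q : {x : G // IsConj x t ∧ IsConj (x⁻¹ * g) t} ≃
        {d : DihedralGroup 4 // (d ≠ 1 ∧ d ^ 2 = 1) ∧ (d⁻¹ * e g' ≠ 1 ∧ (d⁻¹ * e g') ^ 2 = 1)} :=
      { toFun := fun x => ⟨e ⟨x, hin x x.2.1 x.2.2⟩, (hm _).2 (hinv _ x.2.1), by
          rw [← map_inv, ← map_mul]
          exact (hm _).2 (hinv _ x.2.2)⟩
        invFun := fun d => ⟨(e.symm d : G), hconj _ (e.symm d.1).2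
          ((hm _).1 (by rw [e.apply_symm_apply]; exact d.2.1)).1
          ((hm _).1 (by rw [e.apply_symm_apply]; exact d.2.1)).2, by
          have h := (hm ((e.symm d.1)⁻¹ * g')).1 (by
            rw [map_mul, map_inv, e.apply_symm_apply]; exact d.2.2)
          exact hconj _ ((e.symm d.1)⁻¹ * g').2 h.1 h.2⟩
        left_inv := fun x => Subtype.ext (by simp)
        right_inv := fun d => Subtype.ext (by simp) }
    rw [Nat.card_congr q, Nat.card_eq_fintype_card]
    rcases heq with h | h <;> simp only [h] <;> decide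
  exact CfsgLib.Char.DihedralCentralizer.card_eq_of_data t a ha2 hao hC8 hgen hhalf hpairs hodd

end Cfsg.Agent.S0848
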