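import Cfsg.Statements.S0992
import Cfsg.Agent.Lib.SmallGroups.SimpleOrders
-- import your own Cfsg.Agent.* helpers here

set_option autoImplicit false
open Cfsg
open Subgroup

namespace Cfsg.Agent.S0992

/-- Let G be a non-abelian finite simple group of even order not divisible by 8, and T a Sylow 2-subgroup. Then T is a Klein four-group and the centralizer of T has index 3 in the normalizer of T. -/
theorem result {G : Type*} [Group G] [Finite G] [IsSimpleGroup G] (hG : ¬ IsMulCommutative G) (h2 : Even (Nat.card G)) (h8 : ¬ 8 ∣ Nat.card G) (T : Sylow 2 G) : IsKleinFour ↥(T : Subgroup G) ∧ (Subgroup.centralizer ((T : Subgroup G) : Set G)).relIndex (Subgroup.normalizer ((T : Subgroup G) : Set G)) = 3 := by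
  classical
  have h2d : 2 ∣ Nat.card G := even_iff_two_dvd.mp h2
  have hmin : (Nat.card G).minFac = 2 := (Nat.minFac_eq_two_iff _).mpr h2d
  have hnc : ¬ IsCyclic ↥(T : Subgroup G) :=
    CfsgLib.SmallGroups.SimpleOrders.not_isCyclic_of_minFac hG hmin h2d T
  have hT : Nat.card (T : Subgroup G) = 2 ^ 2 := by
    obtain ⟨n, hn⟩ := T.isPGroup'.exists_card_eq
    rcases Nat.lt_or_ge n 3 with h | h
    · interval_cases n
      · rw [pow_zero] at hn
        have := (Nat.card_eq_one_iff_unique.mp hn).1
        exact absurd isCyclic_of_subsingleton hnc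
      · exact absurd (isCyclic_of_prime_card (by simpa using hn)) hnc
      · exact hn
    · exact absurd ((pow_dvd_pow 2 h).trans (hn ▸ (T : Subgroup G).card_subgroup_dvd_card)) h8
  have : Nontrivial ↥(T : Subgroup G) := Finite.one_lt_card_iff_nontrivial.mp (by rw [hT]; norm_num)
  have hexp : Monoid.exponent ↥(T : Subgroup G) = 2 := by
    rw [Monoid.exponent_eq_prime_iff Nat.prime_two]
    intro g hg
    obtain ⟨k, hk, e⟩ := (Nat.dvd_prime_pow Nat.prime_two).mp (hT ▸ orderOf_dvd_natCard g)
    interval_cases k
    · exact absurd (orderOf_eq_one_iff.mp (by simpa using e)) hg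
    · simpa using e
    · exact absurd (isCyclic_of_orderOf_eq_card g (e.trans hT.symm)) hnc
  refine ⟨⟨hT, hexp⟩, ?_⟩
  have hcomm : IsMulCommutative ↥(T : Subgroup G) := IsPGroup.isMulCommutative_of_card_eq_prime_sq hT
  have hle : (T : Subgroup G) ≤ centralizer ((T : Subgroup G) : Set G) := fun a ha =>
    mem_centralizer_iff.mpr fun b hb => congrArg Subtype.val (hcomm.is_comm.comm ⟨b, hb⟩ ⟨a, ha⟩)
  have hodd : ¬ 2 ∣ (centralizer ((T : Subgroup G) : Set G)).relIndex (normalizer ((T : Subgroup G) : Set G)) := by
    intro hd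
    refine T.not_dvd_index (hd.trans ?_)
    rw [← relIndex_mul_index (H := (T : Subgroup G)) (K := normalizer ((T : Subgroup G) : Set G)) le_normalizer,
      ← relIndex_mul_relIndex _ _ _ hle (centralizer_le_normalizer _)]
    exact Dvd.dvd.mul_right (dvd_mul_left _ _) _
  have hne1 : (centralizer ((T : Subgroup G) : Set G)).relIndex (normalizer ((T : Subgroup G) : Set G)) ≠ 1 :=
    fun e => CfsgLib.SmallGroups.SimpleTools.not_normalizer_le hG h2d T (relIndex_eq_one.mp e)
  have hd24 : (centralizer ((T : Subgroup G) : Set G)).relIndex (normalizer ((T : Subgroup G) : Set G)) ∣ 24 := by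
    rw [relIndex, ← normalizerMonoidHom_ker, index_ker]
    refine (card_subgroup_dvd_card _).trans ?_
    have hinj : Function.Injective (MulAut.toPerm ↥(T : Subgroup G)) := fun a b e =>
      MulEquiv.ext fun x => congrArg (fun f : Equiv.Perm ↥(T : Subgroup G) => f x) e
    have := Subgroup.card_dvd_of_injective (MulAut.toPerm ↥(T : Subgroup G)) hinj
    rwa [Nat.card_perm, hT, show ((2:ℕ)^2).factorial = 24 by decide] at this
  generalize (centralizer ((T : Subgroup G) : Set G)).relIndex (normalizer ((T : Subgroup G) : Set G)) = x at *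
  have := Nat.le_of_dvd (by norm_num) hd24
  interval_cases x <;> omega

end Cfsg.Agent.S0992
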