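import Cfsg.Statements.S3278
import Cfsg.Agent.Lib.BrauerSuzuki.Klein
import Cfsg.Agent.Lib.BrauerSuzuki.Q8Beta
import Cfsg.Agent.Lib.Char.ClassSum
import Cfsg.Agent.Lib.Char.Linear
import Cfsg.Agent.Lib.TwoGroups.MaximalClass
import Cfsg.Agent.Lib.Fusion.ThompsonTransfer
import Cfsg.Agent.Lib.SmallGroups.SimpleTools
import Cfsg.Agent.Lib.Classical.SLOrders
import Cfsg.Agent.S0992
import Cfsg.Agent.S0948
import Cfsg.Agent.S1230
import Cfsg.Agent.Lib.Involution.KleinSylow

set_option autoImplicit false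
open Cfsg

namespace Cfsg.Agent.S3278

open CfsgLib.BrauerSuzuki CfsgLib.Blocks

theorem involution_unique {A : Type*} [Group A] [Finite A] [IsCyclic A] {x y : A}
    (hx : orderOf x = 2) (hy : orderOf y = 2) : x = y := by
  classical
  haveI := Fintype.ofFinite A
  have h : (Finset.univ.filter fun a : A => orderOf a = 2).card = Nat.totient 2 := by
    refine IsCyclic.card_orderOf_eq_totient ?_
    rw [← hx, Fintype.card_eq_nat_card]
    exact orderOf_dvd_natCard x
  rw [Nat.totient_two, Finset.card_eq_one] at h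
  obtain ⟨a, ha⟩ := h
  have h1 : x ∈ ({a} : Finset A) := ha ▸ by simp [hx]
  have h2 : y ∈ ({a} : Finset A) := ha ▸ by simp [hy]
  rw [Finset.mem_singleton] at h1 h2
  rw [h1, h2]

theorem mem_of_sq_mem_of_twoPart {G : Type*} [Group G] [Finite G] {H : Subgroup G} {g : G}
    (h2 : g ^ 2 ∈ H) (hp : ∀ m, (∃ k, orderOf (g ^ m) = 2 ^ k) → g ^ m ∈ H) : g ∈ H := by
  obtain ⟨k, m, hm, he⟩ := Nat.exists_eq_pow_mul_and_not_dvd (orderOf_pos g).ne' 2 (by norm_num)
  have hm0 : m ≠ 0 := fun h => hm (by rw [h]; exact dvd_zero 2)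
  have hgm : g ^ m ∈ H := hp m ⟨k, by
    rw [orderOf_pow_of_dvd hm0 (by rw [he]; exact dvd_mul_left m _), he, Nat.mul_div_cancel _ (Nat.pos_of_ne_zero hm0)]⟩
  obtain ⟨r, hr⟩ := Nat.odd_iff.mpr (Nat.two_dvd_ne_zero.mp hm)
  have : g = g ^ m * ((g ^ 2) ^ r)⁻¹ := by rw [hr, pow_succ', pow_mul, mul_inv_cancel_right]
  rw [this]
  exact mul_mem hgm (inv_mem (pow_mem h2 r))

theorem degree_three {a b c : ℕ} {ε : ℤ} {n : ℕ} (hn : 15 ≤ n) (ha : 0 < a) (hb : 0 < b) (hc : 0 < c)
    (hε : ε = 1 ∨ ε = -1) (hb4 : (4 : ℤ) ∣ (b : ℤ) - ε) (hc4 : (4 : ℤ) ∣ (c : ℤ) + 1)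
    (hrel : 1 + (a : ℤ) + ε * b - c = 0)
    (hS : (1 : ℚ) + 1 / a + (ε : ℚ) / b - 1 / c = 8 / n) : (ε = -1 ∧ b = 3) ∨ c = 3 := by
  have haq : (0 : ℚ) < 1 / a := by positivity
  have h8 : (8 : ℚ) / n ≤ 8 / 15 := by
    apply div_le_div_of_nonneg_left (by norm_num) (by norm_num); exact_mod_cast hn
  rcases hε with rfl | rfl
  · have hc3 : (3 : ℚ) ≤ c := by
      have : 3 ≤ c := by omega
      exact_mod_cast this
    have h1 : (1 : ℚ) / c ≤ 1 / 3 := div_le_div_of_nonneg_left (by norm_num) (by norm_num) hc3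
    have h2 : (0 : ℚ) ≤ ((1 : ℤ) : ℚ) / b := by positivity
    linarith
  · by_contra hcon
    rw [not_or, not_and] at hcon
    have hb7 : (7 : ℚ) ≤ b := by
      have h3 := hcon.1 rfl
      have : 7 ≤ b := by omega
      exact_mod_cast this
    have hc7 : (7 : ℚ) ≤ c := by
      have h3 := hcon.2
      have : 7 ≤ c := by omega
      exact_mod_cast this
    have h1 : (1 : ℚ) / c ≤ 1 / 7 := div_le_div_of_nonneg_left (by norm_num) (by norm_num) hc7
    have h2 : (1 : ℚ) / b ≤ 1 / 7 := div_le_div_of_nonneg_left (by norm_num) (by norm_num) hb7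
    have h3 : ((-1 : ℤ) : ℚ) / b = -(1 / b) := by push_cast; ring
    linarith


/-- Let G be a finite simple group with an involution x such that a Sylow 2-subgroup of C_G(x) is a Klein four-group which is normal in C_G(x). Then G is isomorphic to the alternating group of degree 5 (that is, to PSL(2, 5)). -/
theorem result {G : Type*} [Group G] [Finite G] [IsSimpleGroup G] (x : G) (hx : orderOf x = 2)
    (S₀ : Subgroup G) (hle : S₀ ≤ Subgroup.centralizer ({x} : Set G)) (hK : IsKleinFour ↥S₀)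
    (hodd : ¬ 2 ∣ S₀.relIndex (Subgroup.centralizer ({x} : Set G))) (hn : (S₀.subgroupOf (Subgroup.centralizer ({x} : Set G))).Normal) :
    Nonempty (G ≃* ↥(alternatingGroup (Fin 5))) := by
  classical
  haveI := Fact.mk Nat.prime_two
  haveI := hK
  haveI := Fintype.ofFinite G
  have hG : ¬ IsMulCommutative G := by
    refine CfsgLib.SmallGroups.SimpleTools.not_comm_of_card fun hp => ?_
    have h4 : 4 ∣ Nat.card G := by
      rw [← IsKleinFour.card_four (G := ↥S₀)]
      exact Subgroup.card_subgroup_dvd_card S₀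
    have := (Nat.prime_dvd_prime_iff_eq Nat.prime_two hp).mp (dvd_trans (by norm_num) h4)
    rw [← this] at h4
    norm_num at h4
  set C := Subgroup.centralizer ({x} : Set G) with hC
  haveI := hn
  have hS0p : IsPGroup 2 ↥S₀ := IsPGroup.of_card (n := 2) IsKleinFour.card_four
  -- elements of 2-power order in `C` lie in `S₀`
  have hC2 : ∀ c ∈ C, (∃ k, orderOf c = 2 ^ k) → c ∈ S₀ := by
    intro c hc ⟨k, hk⟩
    set q : ↥C ⧸ S₀.subgroupOf C := QuotientGroup.mk' _ ⟨c, hc⟩ with hq
    have h1 : orderOf q ∣ 2 ^ k := hk ▸ (orderOf_map_dvd _ _).trans (Subgroup.orderOf_mk _ _).dvd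
    have h2 : orderOf q ∣ S₀.relIndex C := by
      rw [Subgroup.relIndex, Subgroup.index_eq_card]
      exact orderOf_dvd_natCard q
    have h3 : (2 ^ k).Coprime (S₀.relIndex C) := (Nat.prime_two.coprime_iff_not_dvd.mpr hodd).pow_left k
    have h4 : orderOf q = 1 := Nat.eq_one_of_dvd_coprimes h3 h1 h2
    exact (QuotientGroup.eq_one_iff (⟨c, hc⟩ : ↥C)).mp (orderOf_eq_one_iff.mp h4)
  have hxS : x ∈ S₀ := hC2 x (Subgroup.mem_centralizer_singleton_iff.mpr rfl) ⟨1, by rw [hx, pow_one]⟩
  have hS0sq : ∀ u ∈ S₀, u * u = 1 := fun u hu =>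
    congrArg Subtype.val (IsKleinFour.mul_self (⟨u, hu⟩ : ↥S₀))
  have hS0comm : ∀ u ∈ S₀, ∀ v ∈ S₀, u * v = v * u := fun u hu v hv =>
    congrArg Subtype.val (mul_comm_of_exponent_two IsKleinFour.exponent_two (⟨u, hu⟩ : ↥S₀) ⟨v, hv⟩)
  have hS0ord : ∀ u ∈ S₀, u ≠ 1 → orderOf u = 2 := fun u hu h1 => orderOf_eq_prime (by rw [sq]; exact hS0sq u hu) h1
  -- a 2-group centralised by a conjugate of `x` has order at most 4
  have hsmall : ∀ (g : G) (Q : Subgroup G), IsPGroup 2 ↥Q → (∀ q ∈ Q, q * (g * x * g⁻¹) = g * x * g⁻¹ * q) →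
      Nat.card Q ≤ 4 := by
    intro g Q hQ hQc
    have hmem : ∀ q : ↥Q, g⁻¹ * (q : G) * g ∈ S₀ := by
      intro q
      refine hC2 _ (Subgroup.mem_centralizer_singleton_iff.mpr ?_) ?_
      · calc g⁻¹ * (q : G) * g * x = g⁻¹ * ((q : G) * (g * x * g⁻¹)) * g := by group
          _ = g⁻¹ * ((g * x * g⁻¹) * (q : G)) * g := by rw [hQc q q.2]
          _ = _ := by group
      · obtain ⟨k, hk⟩ := IsPGroup.iff_orderOf.mp hQ q
        refine ⟨k, ?_⟩
        rw [← hk, ← Subgroup.orderOf_coe q]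
        have := (MulAut.conj g⁻¹).orderOf_eq (q : G)
        simpa using this
    have := Nat.card_le_card_of_injective (fun q : ↥Q => (⟨_, hmem q⟩ : ↥S₀)) fun a b h =>
      Subtype.ext (mul_left_cancel (mul_right_cancel (congrArg Subtype.val h)))
    rwa [IsKleinFour.card_four (G := ↥S₀)] at this
  obtain ⟨P, hP⟩ := hS0p.exists_le_sylow
  have hnotwo : ∀ M : Subgroup G, M.Normal → M.index ≠ 2 := by
    intro M hM h2
    rcases hM.eq_bot_or_eq_top with h | h
    · rw [h, Subgroup.index_bot] at h2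
      have := Subgroup.card_subgroup_dvd_card S₀
      rw [IsKleinFour.card_four, h2] at this
      norm_num at this
    · rw [h, Subgroup.index_top] at h2
      omega
  -- `S₀` is a Sylow subgroup of `G`
  have hPS : (P : Subgroup G) = S₀ := by
    by_contra hne
    have hlt : S₀ < (P : Subgroup G) := lt_of_le_of_ne hP (Ne.symm hne)
    obtain ⟨j, hj⟩ := P.2.exists_card_eq
    have hj3 : 3 ≤ j := by
      have h1 : 4 < Nat.card ↥(P : Subgroup G) := by
        rw [← IsKleinFour.card_four (G := ↥S₀)]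
        by_contra hle
        exact hne (Subgroup.eq_of_le_of_card_ge hP (not_lt.mp hle)).symm
      rw [hj] at h1
      by_contra h3
      have : 2 ^ j ≤ 2 ^ 2 := Nat.pow_le_pow_right two_pos (by omega)
      omega
    let xP : ↥(P : Subgroup G) := ⟨x, hP hxS⟩
    have hxP : orderOf xP = 2 := by rw [Subgroup.orderOf_mk, hx]
    have hcent : Nat.card (Subgroup.centralizer ({xP} : Set ↥(P : Subgroup G))) = 4 := by
      refine le_antisymm ?_ ?_
      · have h := hsmall 1 ((Subgroup.centralizer ({xP} : Set ↥(P : Subgroup G))).map (P : Subgroup G).subtype)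
          ((P.2.to_subgroup _).map _) ?_
        · rwa [Subgroup.card_map_of_injective (Subgroup.subtype_injective _)] at h
        · rintro _ ⟨q, hq, rfl⟩
          simp only [one_mul, inv_one, mul_one]
          exact congrArg Subtype.val (Subgroup.mem_centralizer_singleton_iff.mp hq)
      · have := Nat.card_le_card_of_injective
          (fun u : ↥S₀ => (⟨⟨(u : G), hP u.2⟩, Subgroup.mem_centralizer_singleton_iff.mpr
            (Subtype.ext (hS0comm _ u.2 x hxS))⟩ : ↥(Subgroup.centralizer ({xP} : Set ↥(P : Subgroup G)))))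
          fun a b h => Subtype.ext (congrArg (fun w : ↥(Subgroup.centralizer ({xP} : Set ↥(P : Subgroup G))) => ((w : ↥(P : Subgroup G)) : G)) h)
        rwa [IsKleinFour.card_four] at this
    obtain ⟨A, hA, hAi⟩ := CfsgLib.TwoGroups.MaximalClass.cyclic_max_of_involution_centralizer (j - 3) ↥(P : Subgroup G)
      (by rw [hj]; congr 1; omega) xP hxP hcent
    haveI := hA
    have hAn : A.Normal := Subgroup.normal_of_index_eq_two hAi
    have hfix : ∀ u ∈ A, orderOf u = 2 → ∀ p : ↥(P : Subgroup G), p * u = u * p := by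
      intro u hu hu2 p
      have hmem : p * u * p⁻¹ ∈ A := hAn.conj_mem u hu p
      have := involution_unique (x := (⟨_, hmem⟩ : ↥A)) (y := ⟨u, hu⟩)
        (by rw [Subgroup.orderOf_mk]; exact ((MulAut.conj p).orderOf_eq u).trans hu2)
        (by rw [Subgroup.orderOf_mk]; exact hu2)
      exact mul_inv_eq_iff_eq_mul.mp (congrArg Subtype.val this)
    have hbig : ∀ g : G, g * x * g⁻¹ ∈ A.map (P : Subgroup G).subtype → False := by
      rintro g ⟨u, hu, hug⟩
      have hu' : (u : G) = g * x * g⁻¹ := hug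
      have hu2 : orderOf u = 2 := by
        rw [← Subgroup.orderOf_coe, hu']
        exact ((MulAut.conj g).orderOf_eq x).trans hx
      have h := hsmall g (P : Subgroup G) P.2 fun q hq => by
        rw [← hu']
        exact congrArg Subtype.val (hfix u hu hu2 ⟨q, hq⟩)
      rw [hj] at h
      have : 2 ^ 3 ≤ 2 ^ j := Nat.pow_le_pow_right two_pos hj3
      omega
    have hxA : x ∉ A.map (P : Subgroup G).subtype := fun h => hbig 1 (by simpa using h)
    rcases CfsgLib.Fusion.ThompsonTransfer.thompson_transfer P (A.map (P : Subgroup G).subtype) (Subgroup.map_subtype_le A)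
      (by rw [Subgroup.relIndex, Subgroup.subgroupOf, Subgroup.comap_map_eq_self_of_injective (Subgroup.subtype_injective _)]; exact hAi)
      x (by rw [sq]; exact hS0sq x hxS) (hP hxS) hxA with ⟨M, hMn, hMi, -⟩ | ⟨g, hg⟩
    · exact hnotwo M hMn hMi
    · exact hbig g hg
  -- all involutions are conjugate to `x`
  have hcardP : Nat.card ↥(P : Subgroup G) = 4 := by rw [hPS, IsKleinFour.card_four]
  have hconjx : ∀ y : G, orderOf y = 2 → ∃ g : G, g * y * g⁻¹ = x := by
    have hin : ∀ y ∈ (P : Subgroup G), orderOf y = 2 → ∃ g : G, g * y * g⁻¹ = x := by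
      intro y hy hy2
      by_cases hyx : y = x
      · exact ⟨1, by rw [hyx]; group⟩
      have hyn : y ∉ Subgroup.zpowers x := fun h => by
        have := involution_unique (x := (⟨y, h⟩ : ↥(Subgroup.zpowers x))) (y := ⟨x, Subgroup.mem_zpowers x⟩)
          (by rw [Subgroup.orderOf_mk, hy2]) (by rw [Subgroup.orderOf_mk, hx])
        exact hyx (congrArg Subtype.val this)
      have hri : (Subgroup.zpowers x).relIndex (P : Subgroup G) = 2 := by
        have h := ((Subgroup.zpowers x).subgroupOf (P : Subgroup G)).card_mul_index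
        rw [Nat.card_congr (Subgroup.subgroupOfEquivOfLe (Subgroup.zpowers_le.mpr (hP hxS))).toEquiv,
          Nat.card_zpowers, hx, hcardP] at h
        rw [Subgroup.relIndex]
        omega
      rcases CfsgLib.Fusion.ThompsonTransfer.thompson_transfer P (Subgroup.zpowers x) (Subgroup.zpowers_le.mpr (hP hxS))
        hri y (by rw [← hy2, pow_orderOf_eq_one]) hy hyn with ⟨M, hMn, hMi, -⟩ | ⟨g, hg⟩
      · exact absurd hMi (hnotwo M hMn)
      · refine ⟨g, ?_⟩
        have := involution_unique (x := (⟨_, hg⟩ : ↥(Subgroup.zpowers x))) (y := ⟨x, Subgroup.mem_zpowers x⟩)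
          (by rw [Subgroup.orderOf_mk]; exact ((MulAut.conj g).orderOf_eq y).trans hy2) (by rw [Subgroup.orderOf_mk, hx])
        exact congrArg Subtype.val this
    intro y hy
    obtain ⟨g, hg⟩ := CfsgLib.Involution.Basic.exists_conj_mem P hy
    obtain ⟨h, hh⟩ := hin _ hg (((MulAut.conj g).orderOf_eq y).trans hy)
    exact ⟨h * g, by rw [← hh]; group⟩
  have hone : ∀ s t : G, orderOf s = 2 → orderOf t = 2 → IsConj s t := fun s t hs ht => by
    obtain ⟨g, hg⟩ := hconjx s hs
    obtain ⟨h, hh⟩ := hconjx t ht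
    exact (isConj_iff.mpr ⟨g, hg⟩).trans (isConj_iff.mpr ⟨h, hh⟩).symm
  -- the centralizers of the involutions of `S₀`
  have hCS : C ≤ Subgroup.centralizer (S₀ : Set G) := by
    intro c hc u hu
    have hnorm : ∀ d ∈ C, ∀ v ∈ S₀, d * v * d⁻¹ ∈ S₀ := fun d hd v hv =>
      Subgroup.mem_subgroupOf.mp (hn.conj_mem ⟨v, hle hv⟩ hv ⟨d, hd⟩)
    let Fu : Subgroup G := C ⊓ Subgroup.centralizer ({u} : Set G)
    have hcu : c ∈ Fu := by
      refine mem_of_sq_mem_of_twoPart ⟨pow_mem hc 2, Subgroup.mem_centralizer_singleton_iff.mpr ?_⟩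
        fun m hm => ⟨pow_mem hc m, Subgroup.mem_centralizer_singleton_iff.mpr
          (hS0comm _ (hC2 _ (pow_mem hc m) hm) u hu)⟩
      have hcx : c * x = x * c := Subgroup.mem_centralizer_singleton_iff.mp hc
      set w := c * u * c⁻¹ with hw
      have hwS := hnorm c hc u hu
      -- `w` is `u` or `x * u` or else `u` is fixed by `c`
      have hcases : w = u ∨ w = x * u := by
        by_cases hu1 : u = 1
        · left; rw [hw, hu1]; group
        by_cases hux : u = x
        · left; rw [hw, hux, hcx, mul_inv_cancel_right]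
        have hw1 : w ≠ 1 := fun h => hu1 (conj_eq_one_iff.mp h)
        have hwx : w ≠ x := fun h => hux (by
          have h' : c * u * c⁻¹ = c * x * c⁻¹ := by rw [← hw, h, hcx, mul_inv_cancel_right]
          exact mul_left_cancel (mul_right_cancel h'))
        have hP4 : IsKleinFour ↥(P : Subgroup G) := by rw [hPS]; exact hK
        rcases CfsgLib.Involution.KleinSylow.exists_cover P hP4 (hP hxS) (hP hu) (fun h => by rw [h, orderOf_one] at hx; omega)
          hu1 (Ne.symm hux) (hP hwS) hw1 with h | h | h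
        · exact absurd h hwx
        · exact Or.inl h
        · exact Or.inr h
      have hww : c * w * c⁻¹ = u := by
        rcases hcases with h | h
        · rw [h]; exact h
        · calc c * w * c⁻¹ = (c * x * c⁻¹) * (c * u * c⁻¹) := by rw [h]; group
            _ = x * (x * u) := by rw [hcx, mul_inv_cancel_right, ← hw, h]
            _ = u := by rw [← mul_assoc, hS0sq x hxS, one_mul]
      have h1 : c ^ 2 * u * (c ^ 2)⁻¹ = u := by
        calc c ^ 2 * u * (c ^ 2)⁻¹ = c * (c * u * c⁻¹) * c⁻¹ := by rw [sq]; group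
          _ = u := hww
      exact mul_inv_eq_iff_eq_mul.mp h1
    exact (Subgroup.mem_centralizer_singleton_iff.mp hcu.2).symm
  have hCall : ∀ y ∈ S₀, y ≠ 1 → Subgroup.centralizer ({y} : Set G) = C := by
    intro y hy hy1
    refine le_antisymm ?_ fun c hc => Subgroup.mem_centralizer_singleton_iff.mpr ((hCS hc y hy).symm)
    obtain ⟨g, hg⟩ := hconjx y (hS0ord y hy hy1)
    have hconjC : ∀ z ∈ Subgroup.centralizer ({y} : Set G), g * z * g⁻¹ ∈ C := fun z hz => by
      refine Subgroup.mem_centralizer_singleton_iff.mpr ?_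
      rw [← hg]
      calc g * z * g⁻¹ * (g * y * g⁻¹) = g * (z * y) * g⁻¹ := by group
        _ = g * (y * z) * g⁻¹ := by rw [Subgroup.mem_centralizer_singleton_iff.mp hz]
        _ = _ := by group
    have hgS : ∀ v ∈ S₀, g * v * g⁻¹ ∈ S₀ := fun v hv => by
      refine hC2 _ (hconjC v (Subgroup.mem_centralizer_singleton_iff.mpr (hS0comm v hv y hy))) ?_
      by_cases hv1 : v = 1
      · exact ⟨0, by rw [hv1, mul_one, mul_inv_cancel, orderOf_one, pow_zero]⟩
      · exact ⟨1, by rw [pow_one]; exact ((MulAut.conj g).orderOf_eq v).trans (hS0ord v hv hv1)⟩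
    intro z hz
    refine Subgroup.mem_centralizer_singleton_iff.mpr ?_
    have h1 := hCS (hconjC z hz) (g * x * g⁻¹) (hgS x hxS)
    have h2 : g * (x * z) * g⁻¹ = g * (z * x) * g⁻¹ := by
      calc g * (x * z) * g⁻¹ = g * x * g⁻¹ * (g * z * g⁻¹) := by group
        _ = g * z * g⁻¹ * (g * x * g⁻¹) := h1
        _ = _ := by group
    exact (mul_left_cancel (mul_right_cancel h2)).symm
  have hcentS : Subgroup.centralizer (S₀ : Set G) = C :=
    le_antisymm (fun c hc => Subgroup.mem_centralizer_singleton_iff.mpr (hc x hxS).symm) hCS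
  -- the index of `C`
  have hev : Even (Nat.card G) := by
    rw [even_iff_two_dvd, ← hx]; exact orderOf_dvd_natCard x
  have h8 : ¬ 8 ∣ Nat.card G := fun h => by
    obtain ⟨K8, hK8⟩ := Sylow.exists_subgroup_card_pow_prime (G := G) 2 (n := 3) (show 2 ^ 3 ∣ Nat.card G from h)
    obtain ⟨Q, hQ⟩ := (IsPGroup.of_card hK8).exists_le_sylow
    have h1 := Subgroup.card_le_of_le hQ
    have h2 : Nat.card ↥(Q : Subgroup G) = 4 := by
      rw [Q.card_eq_multiplicity, ← P.card_eq_multiplicity, hcardP]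
    rw [hK8, h2] at h1
    norm_num at h1
  have hrel := (Cfsg.Agent.S0992.result hG hev h8 P).2
  rw [hPS, hcentS] at hrel
  set N := Subgroup.normalizer (S₀ : Set G) with hN
  have hCN : C ≤ N := by rw [← hcentS]; exact Subgroup.centralizer_le_normalizer _
  have hidx : 15 ≤ C.index := by
    have h1 := Subgroup.relIndex_mul_index hCN
    rw [hrel] at h1
    have hNtop : N ≠ ⊤ := by
      rw [hN, ← hPS]; exact CfsgLib.SmallGroups.SimpleTools.normalizer_ne_top hG hev.two_dvd P
    have h5 : 5 ≤ N.index := by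
      by_contra hlt
      have h0 : N.index ≠ 0 := Subgroup.index_ne_zero_of_finite
      have h1 : N.index ≠ 1 := fun h => hNtop (Subgroup.index_eq_one.mp h)
      have h2 : ¬ 2 ∣ N.index := fun h => P.not_dvd_index (h.trans (Subgroup.index_dvd_of_le (by rw [hPS]; exact Subgroup.le_normalizer)))
      have h3 : N.index = 3 := by omega
      have h4 := CfsgLib.SmallGroups.SimpleTools.two_mul_card_dvd_factorial hG N hNtop
      rw [h3, show Nat.factorial 3 = 6 from rfl] at h4
      have h5 := Nat.le_of_dvd (by norm_num) h4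
      have h6 : 4 ≤ Nat.card G := by
        rw [← IsKleinFour.card_four (G := ↥S₀)]
        exact Subgroup.card_le_card_group S₀
      omega
    omega
  -- the principal block
  obtain ⟨M, hM⟩ := exists_isPModular Nat.prime_two
  have hP4 : IsKleinFour ↥(P : Subgroup G) := by rw [hPS]; exact hK
  have hg := gc_evenF P hP4
  obtain ⟨hblock, hval⟩ := klein_block P hP4 hone hM
  obtain ⟨ζ₂, ζ₃, ζ₄, ε, hε, hζ₂1, hζ₃1, h23, h24, h34, hB, hz, h42, h43, h44, hrelodd⟩ :=
    Cfsg.Agent.S0948.result M hM P hP4 hone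
  obtain ⟨hzx2, hzx3, hzx4⟩ := hz x hx
  have hrel1 := hrelodd 1 (by simp)
  rw [irr_one_eq, irr_one_eq, irr_one_eq] at hrel1
  -- counting products of two involutions of even order
  have hpair : ∀ u v : G, orderOf u = 2 → orderOf v = 2 →
      (2 ∣ orderOf (u * v) ↔ u * v = v * u ∧ u ≠ v) := by
    intro u v hu hv
    have huu : u * u = 1 := by rw [← sq, ← hu, pow_orderOf_eq_one]
    have hvv : v * v = 1 := by rw [← sq, ← hv, pow_orderOf_eq_one]
    constructor
    · intro h2
      have hne : u ≠ v := fun h => by rw [h, hvv, orderOf_one] at h2; norm_num at h2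
      refine ⟨?_, hne⟩
      set g := u * v with hgdef
      have hj := orderOf_half h2
      set j := g ^ (orderOf g / 2) with hjdef
      have hjinv : j⁻¹ = j := inv_eq_of_mul_eq_one_right (by rw [← sq, ← hj, pow_orderOf_eq_one])
      have hui : u⁻¹ = u := inv_eq_of_mul_eq_one_right huu
      have hvi : v⁻¹ = v := inv_eq_of_mul_eq_one_right hvv
      have hug : u * g * u⁻¹ = g⁻¹ := by rw [hgdef, mul_inv_rev, hui, hvi, ← mul_assoc, huu, one_mul]
      have hvg : v * g * v⁻¹ = g⁻¹ := by rw [hgdef, mul_inv_rev, hui, hvi, mul_assoc, mul_assoc, hvv, mul_one]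
      have hju : u * j = j * u := by
        rw [← mul_inv_eq_iff_eq_mul, hjdef, ← conj_pow, hug, inv_pow, ← hjdef, hjinv]
      have hjv : v * j = j * v := by
        rw [← mul_inv_eq_iff_eq_mul, hjdef, ← conj_pow, hvg, inv_pow, ← hjdef, hjinv]
      obtain ⟨a, ha⟩ := hconjx j hj
      have key : ∀ w, orderOf w = 2 → w * j = j * w → a * w * a⁻¹ ∈ S₀ := fun w hw hwj => by
        refine hC2 _ (Subgroup.mem_centralizer_singleton_iff.mpr ?_) ⟨1, by rw [pow_one]; exact ((MulAut.conj a).orderOf_eq w).trans hw⟩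
        rw [← ha]
        calc a * w * a⁻¹ * (a * j * a⁻¹) = a * (w * j) * a⁻¹ := by group
          _ = a * (j * w) * a⁻¹ := by rw [hwj]
          _ = _ := by group
      have h := hS0comm _ (key u hu hju) _ (key v hv hjv)
      have h' : a * (u * v) * a⁻¹ = a * (v * u) * a⁻¹ := by
        calc a * (u * v) * a⁻¹ = a * u * a⁻¹ * (a * v * a⁻¹) := by group
          _ = a * v * a⁻¹ * (a * u * a⁻¹) := h
          _ = _ := by group
      exact mul_left_cancel (mul_right_cancel h')
    · rintro ⟨hc, hne⟩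
      rw [orderOf_eq_prime (p := 2) (show (u * v) ^ 2 = 1 by rw [sq, mul_assoc, ← mul_assoc v u v, ← hc, mul_assoc u v v, hvv, mul_one, huu])
        fun h => hne (by rw [mul_eq_one_iff_eq_inv.mp h, inv_eq_of_mul_eq_one_right hvv])]
  obtain ⟨y, hy, hy1, hyx⟩ : ∃ y ∈ S₀, y ≠ 1 ∧ y ≠ x := by
    by_contra hno
    push Not at hno
    let f : ↥S₀ → Fin 2 := fun u => if u = 1 then 0 else 1
    have := Nat.card_le_card_of_injective f fun a b hab => by
      by_cases ha : a = 1 <;> by_cases hb : b = 1 <;> simp [f, ha, hb] at hab ⊢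
      exact Subtype.ext ((hno a a.2 (by simpa using ha)).trans (hno b b.2 (by simpa using hb)).symm)
    rw [IsKleinFour.card_four, Nat.card_fin] at this
    omega
  have hcount : ∀ t : G, orderOf t = 2 → (Finset.univ.filter fun k : G => k * x * k⁻¹ = t).card = Nat.card ↥C := by
    intro t ht
    obtain ⟨g, hg'⟩ := hconjx t ht
    rw [Nat.card_eq_fintype_card, ← Fintype.card_subtype]
    refine Fintype.card_congr
      { toFun := fun k => ⟨g * k.1, Subgroup.mem_centralizer_singleton_iff.mpr ?_⟩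
        invFun := fun c => ⟨g⁻¹ * (c : G), ?_⟩
        left_inv := fun k => Subtype.ext (inv_mul_cancel_left g k.1)
        right_inv := fun c => Subtype.ext (mul_inv_cancel_left g (c : G)) }
    · have h1 := k.2
      have h2 : g * k.1 * x * (g * k.1)⁻¹ = x := by
        calc g * k.1 * x * (g * k.1)⁻¹ = g * (k.1 * x * k.1⁻¹) * g⁻¹ := by group
          _ = x := by rw [h1, hg']
      exact mul_inv_eq_iff_eq_mul.mp h2
    · have h1 : (c : G) * x * (c : G)⁻¹ = x := by
        rw [Subgroup.mem_centralizer_singleton_iff.mp c.2, mul_inv_cancel_right]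
      calc g⁻¹ * (c : G) * x * (g⁻¹ * (c : G))⁻¹ = g⁻¹ * ((c : G) * x * (c : G)⁻¹) * g := by group
        _ = g⁻¹ * (g * t * g⁻¹) * g := by rw [h1, hg']
        _ = t := by group
  have hxy : x * y ∈ S₀ := mul_mem hxS hy
  have hxy1 : x * y ≠ 1 := fun h => hyx (by rw [← mul_right_inj x, h, hS0sq x hxS])
  have hxyx : x * y ≠ x := fun h => hy1 (by rwa [mul_eq_left] at h)
  have hxyy : x * y ≠ y := fun h => by
    rw [mul_eq_right] at h; rw [h, orderOf_one] at hx; omega
  have hinner : ∀ h : G, ∑ k : G, evenF G (h * x * h⁻¹ * (k * x * k⁻¹)) = 4 * (2 * (Nat.card ↥C : ℂ)) := by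
    intro h
    rw [← Fintype.sum_equiv (Equiv.mulLeft h) (fun k => evenF G (x * (k * x * k⁻¹))) _ fun k => by
      have e : orderOf (h * x * h⁻¹ * (h * k * x * (h * k)⁻¹)) = orderOf (x * (k * x * k⁻¹)) := by
        rw [show h * x * h⁻¹ * (h * k * x * (h * k)⁻¹) = h * (x * (k * x * k⁻¹)) * h⁻¹ by group, orderOf_conj']
      simp only [Equiv.coe_mulLeft, evenF, e]]
    have hset : ∀ k : G, 2 ∣ orderOf (x * (k * x * k⁻¹)) ↔ k * x * k⁻¹ = y ∨ k * x * k⁻¹ = x * y := by
      intro k
      rw [hpair x (k * x * k⁻¹) hx (((MulAut.conj k).orderOf_eq x).trans hx)]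
      constructor
      · rintro ⟨hc, hne⟩
        set v := k * x * k⁻¹ with hv
        have hv2 : orderOf v = 2 := ((MulAut.conj k).orderOf_eq x).trans hx
        have hvS : v ∈ S₀ := hC2 v (Subgroup.mem_centralizer_singleton_iff.mpr hc.symm) ⟨1, by rw [hv2, pow_one]⟩
        rcases CfsgLib.Involution.KleinSylow.exists_cover P hP4 (hP hxS) (hP hy) (fun h => by rw [h, orderOf_one] at hx; omega)
          hy1 (Ne.symm hyx) (hP hvS) (fun h => by rw [h, orderOf_one] at hv2; omega) with e | e | e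
        · exact absurd e.symm hne
        · exact Or.inl e
        · exact Or.inr e
      · rintro (e | e) <;> rw [e]
        · exact ⟨hS0comm x hxS y hy, Ne.symm hyx⟩
        · exact ⟨hS0comm x hxS _ hxy, Ne.symm hxyx⟩
    simp only [evenF, hset]
    rw [← Finset.sum_filter, Finset.sum_const, Finset.filter_or, Finset.card_union_of_disjoint,
      hcount y (hS0ord y hy hy1), hcount _ (hS0ord _ hxy hxy1)]
    · rw [nsmul_eq_mul]; push_cast; ring
    · rw [Finset.disjoint_filter]
      intro k _ e1 e2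
      exact hxyy (e2.symm.trans e1)
  have htot : ∑ χ : IrrCharacter G, (coeff (evenF G) χ : ℂ) * ((χ : G → ℂ) x ^ 2 / (χ : G → ℂ) 1) =
      8 / (C.index : ℂ) := by
    have hG0 : (Nat.card G : ℂ) ≠ 0 := CfsgLib.Char.card_ne_zero
    have h1 : ∀ χ : IrrCharacter G, ∑ h : G, ∑ k : G, (χ : G → ℂ) (h * x * h⁻¹ * (k * x * k⁻¹)) =
        (Nat.card G : ℂ) ^ 2 * ((χ : G → ℂ) x ^ 2 / (χ : G → ℂ) 1) := by
      intro χ
      rw [Finset.sum_congr rfl fun h _ => CfsgLib.Char.IsIrrCharacter.sum_mul_conjugate χ.2 (h * x * h⁻¹) x]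
      simp only [irr_conj_apply, Finset.sum_const, Finset.card_univ, nsmul_eq_mul, Fintype.card_eq_nat_card]
      ring
    have h2 : ∑ h : G, ∑ k : G, evenF G (h * x * h⁻¹ * (k * x * k⁻¹)) =
        (Nat.card G : ℂ) ^ 2 * ∑ χ : IrrCharacter G, (coeff (evenF G) χ : ℂ) * ((χ : G → ℂ) x ^ 2 / (χ : G → ℂ) 1) := by
      rw [Finset.mul_sum, Finset.sum_congr rfl fun h _ => Finset.sum_congr rfl fun k _ => eq_sum_coeff hg _,
        Finset.sum_congr rfl fun h _ => Finset.sum_comm, Finset.sum_comm]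
      refine Finset.sum_congr rfl fun χ _ => ?_
      simp only [← Finset.mul_sum]
      rw [h1]; ring
    rw [Finset.sum_congr rfl fun h _ => hinner h, Finset.sum_const, Finset.card_univ, nsmul_eq_mul,
      Fintype.card_eq_nat_card] at h2
    have h3 : (Nat.card G : ℂ) = (Nat.card ↥C : ℂ) * (C.index : ℂ) := by exact_mod_cast C.card_mul_index.symm
    have h4 : (C.index : ℂ) ≠ 0 := Nat.cast_ne_zero.mpr Subgroup.index_ne_zero_of_finite
    rw [eq_div_iff h4]
    refine mul_left_cancel₀ (pow_ne_zero 2 hG0) ?_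
    linear_combination -(C.index : ℂ) * h2 - 8 * (Nat.card G : ℂ) * h3
  have hd2 := charDegree_pos ζ₂
  have hd3 := charDegree_pos ζ₃
  have hd4 := charDegree_pos ζ₄
  have hS : (1 : ℚ) + 1 / (charDegree (ζ₂ : G → ℂ) : ℕ) + (ε : ℚ) / (charDegree (ζ₃ : G → ℂ) : ℕ) -
      1 / (charDegree (ζ₄ : G → ℂ) : ℕ) = 8 / (C.index : ℕ) := by
    have hmemB : ∀ χ : IrrCharacter G, χ ∈ ({trivChar G, ζ₂, ζ₃, ζ₄} : Finset (IrrCharacter G)) ↔ χ ∈ Cfsg.principalBlock M G := by
      intro χ
      rw [hB, Set.mem_setOf_eq]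
      simp only [Finset.mem_insert, Finset.mem_singleton]
      exact or_congr ⟨fun h => h ▸ rfl, fun h => Subtype.ext h⟩ Iff.rfl
    have hζ₄1 : ζ₄ ≠ trivChar G := fun h => by
      rw [h] at hzx4
      have h' : (1 : ℂ) = -1 := hzx4
      norm_num at h'
    have hsum : ∑ χ : IrrCharacter G, (coeff (evenF G) χ : ℂ) * ((χ : G → ℂ) x ^ 2 / (χ : G → ℂ) 1) =
        ∑ χ ∈ ({trivChar G, ζ₂, ζ₃, ζ₄} : Finset (IrrCharacter G)), (χ : G → ℂ) x ^ 3 / (χ : G → ℂ) 1 := by
      rw [← Finset.sum_subset (Finset.subset_univ ({trivChar G, ζ₂, ζ₃, ζ₄} : Finset (IrrCharacter G))) fun χ _ hχ => by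
        have : coeff (evenF G) χ = 0 := by
          by_contra h0
          exact hχ ((hmemB χ).mpr ((hblock χ).mpr h0))
        rw [this, Int.cast_zero, zero_mul]]
      refine Finset.sum_congr rfl fun χ hχ => ?_
      rw [← (hval χ ((hmemB χ).mp hχ) x hx).1]
      ring
    have hne2 : ζ₂ ≠ trivChar G := fun h => hζ₂1 (by rw [h]; rfl)
    have hne3 : ζ₃ ≠ trivChar G := fun h => hζ₃1 (by rw [h]; rfl)
    rw [hsum, Finset.sum_insert (by simp [Ne.symm hne2, Ne.symm hne3, Ne.symm hζ₄1]),
      Finset.sum_insert (by simp [h23, h24]), Finset.sum_insert (by simp [h34]), Finset.sum_singleton,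
      show ((trivChar G : IrrCharacter G) : G → ℂ) x = 1 from rfl,
      show ((trivChar G : IrrCharacter G) : G → ℂ) 1 = 1 from rfl,
      hzx2, hzx3, hzx4, irr_one_eq, irr_one_eq, irr_one_eq] at htot
    have hε3 : (ε : ℂ) ^ 3 = (ε : ℂ) := by rcases hε with h | h <;> rw [h] <;> norm_num
    rw [hε3] at htot
    apply Rat.cast_injective (α := ℂ)
    push_cast
    linear_combination htot
  have hrelZ : 1 + (charDegree (ζ₂ : G → ℂ) : ℤ) + ε * (charDegree (ζ₃ : G → ℂ) : ℤ) - (charDegree (ζ₄ : G → ℂ) : ℤ) = 0 := by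
    exact_mod_cast hrel1
  -- a faithful character of degree three
  obtain ⟨ψ, hψB, hψ1, hψv⟩ : ∃ ψ : IrrCharacter G, ψ ∈ Cfsg.principalBlock M G ∧ (ψ : G → ℂ) 1 = 3 ∧
      ∀ z : G, orderOf z = 2 → (ψ : G → ℂ) z = -1 := by
    rcases degree_three hidx hd2 hd3 hd4 hε h43 h44 hrelZ hS with ⟨he, h⟩ | h
    · refine ⟨ζ₃, by rw [hB]; exact Or.inr (Or.inr (Or.inl rfl)), by rw [irr_one_eq, h]; norm_num, fun z hz' => ?_⟩
      rw [(hz z hz').2.1, he]; norm_num
    · exact ⟨ζ₄, by rw [hB]; exact Or.inr (Or.inr (Or.inr rfl)), by rw [irr_one_eq, h]; norm_num, fun z hz' => (hz z hz').2.2⟩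
  have hCeq : C = S₀ := by
    refine le_antisymm (fun c hc => ?_) hle
    refine mem_of_sq_mem_of_twoPart ?_ fun m hm => hC2 _ (pow_mem hc m) hm
    -- elements of odd order in `C` are trivial
    suffices hodd' : ∀ o ∈ C, Odd (orderOf o) → o = 1 by
      obtain ⟨k, m, hm, he⟩ := Nat.exists_eq_pow_mul_and_not_dvd (orderOf_pos c).ne' 2 (by norm_num)
      have h2k := hodd' (c ^ 2 ^ k) (pow_mem hc _) (by
        rw [orderOf_pow_of_dvd (by simp) (by rw [he]; exact dvd_mul_right _ m), he,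
          Nat.mul_div_cancel_left _ (by positivity)]
        exact Nat.odd_iff.mpr (Nat.two_dvd_ne_zero.mp hm))
      obtain ⟨i, -, hi⟩ := (Nat.dvd_prime_pow Nat.prime_two).mp (orderOf_dvd_of_pow_eq_one h2k)
      exact pow_mem (hC2 c hc ⟨i, hi⟩) 2
    intro o ho hoo
    have hval' : ∀ s ∈ S₀, s ≠ 1 → (ψ : G → ℂ) (s * o) = -1 := by
      intro s hs hs1
      have hs2 := hS0ord s hs hs1
      have hoC : o ∈ Subgroup.centralizer ({s} : Set G) := by rw [hCall s hs hs1]; exact ho
      have hnpc := npc_centralizer_involution P hP4 hs2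
      have h := principalBlock_apply_section hM (x := s) ⟨1, by rw [hs2, pow_one]⟩ hψB
        (Cfsg.pResidual 2 ↥(Subgroup.centralizer ({s} : Set G)))
        ((Nat.Prime.coprime_iff_not_dvd Nat.prime_two).mp (CfsgLib.Fusion.Basic.npc_iff_coprime.mp hnpc).symm)
        (y := ⟨o, hoC⟩)
        (CfsgLib.Fusion.Basic.mem_pResidual_of_coprime (by
          rw [Subgroup.orderOf_mk]; exact Nat.coprime_two_right.mpr hoo))
      rw [h, hψv s hs2]
    obtain ⟨d, ρ, hρirr, hρ⟩ := ψ.2
    let Pr : (Fin d → ℂ) →ₗ[ℂ] (Fin d → ℂ) := (4 : ℂ)⁻¹ • (ρ 1 + ρ x + ρ y + ρ (x * y))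
    have hxx := hS0sq x hxS
    have hyy := hS0sq y hy
    have hyxc := hS0comm y hy x hxS
    have hidem : IsIdempotentElem Pr := by
      show Pr * Pr = Pr
      simp only [Pr, smul_mul_smul_comm, mul_add, add_mul, ← map_mul, one_mul, mul_one, hxx, hyy, hyxc,
        ← mul_assoc]
      simp only [mul_assoc, hyy, hxx, hyxc, mul_one]
      simp only [← mul_assoc, hxx, one_mul, map_one]
      module
    have htr : ∀ g : G, LinearMap.trace ℂ _ (ρ g) = (ψ : G → ℂ) g := fun g => by rw [← hρ]; rfl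
    have htrPr : LinearMap.trace ℂ _ Pr = 0 := by
      simp only [Pr, map_smul, map_add, htr, hψ1, hψv x hx, hψv y (hS0ord y hy hy1), hψv _ (hS0ord _ hxy hxy1), smul_eq_mul]
      norm_num
    have hPr0 : Pr = 0 := by
      have hproj := LinearMap.IsIdempotentElem.isProj_range Pr hidem
      have h := hproj.trace
      rw [htrPr] at h
      have h0 : Module.finrank ℂ ↥(LinearMap.range Pr) = 0 := by exact_mod_cast h.symm
      exact LinearMap.range_eq_bot.mp (Submodule.finrank_eq_zero.mp h0)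
    have h := congrArg (fun f => LinearMap.trace ℂ _ (f * ρ o)) hPr0
    simp only [Pr, smul_mul_assoc, add_mul, ← map_mul, one_mul, map_smul, map_add, zero_mul, map_zero, htr,
      hval' x hxS (fun h => by rw [h, orderOf_one] at hx; omega), hval' y hy hy1, hval' _ hxy hxy1, smul_eq_mul] at h
    have hψo : (ψ : G → ℂ) o = (ψ : G → ℂ) 1 := by rw [hψ1]; linear_combination 4 * h
    haveI := CfsgLib.Char.charKer_normal (CfsgLib.Char.IsIrrCharacter.isCharacter ψ.2)
    rcases (inferInstance : (CfsgLib.Char.charKer (CfsgLib.Char.IsIrrCharacter.isCharacter ψ.2)).Normal).eq_bot_or_eq_top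
      with hk | hk
    · have : o ∈ CfsgLib.Char.charKer (CfsgLib.Char.IsIrrCharacter.isCharacter ψ.2) := hψo
      rw [hk] at this
      exact Subgroup.mem_bot.mp this
    · exfalso
      have : x ∈ CfsgLib.Char.charKer (CfsgLib.Char.IsIrrCharacter.isCharacter ψ.2) := hk ▸ Subgroup.mem_top x
      rw [CfsgLib.Char.mem_charKer, hψ1, hψv x hx] at this
      norm_num at this
  have hcardC : Nat.card ↥C = 4 := by rw [hCeq, IsKleinFour.card_four]
  have hPc : ¬ IsCyclic ↥(P : Subgroup G) := by rw [hPS]; exact IsKleinFour.not_isCyclic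
  have hPn : ¬ (P : Subgroup G).Normal := fun h =>
    CfsgLib.SmallGroups.SimpleTools.normalizer_ne_top hG hev.two_dvd P (Subgroup.normalizer_eq_top_iff.mpr h)
  have helem : ∀ t : G, orderOf t = 2 → IsMulCommutative (Subgroup.centralizer ({t} : Set G)) ∧
      ∀ c ∈ Subgroup.centralizer ({t} : Set G), c ^ 2 = 1 := by
    intro t ht
    obtain ⟨g, hg'⟩ := hconjx t ht
    have hm : ∀ c ∈ Subgroup.centralizer ({t} : Set G), g * c * g⁻¹ ∈ S₀ := fun c hc => by
      rw [← hCeq]
      refine Subgroup.mem_centralizer_singleton_iff.mpr ?_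
      rw [← hg']
      calc g * c * g⁻¹ * (g * t * g⁻¹) = g * (c * t) * g⁻¹ := by group
        _ = g * (t * c) * g⁻¹ := by rw [Subgroup.mem_centralizer_singleton_iff.mp hc]
        _ = _ := by group
    refine ⟨⟨⟨fun a b => Subtype.ext ?_⟩⟩, fun c hc => ?_⟩
    · have h := hS0comm _ (hm a a.2) _ (hm b b.2)
      have h' : g * ((a : G) * b) * g⁻¹ = g * ((b : G) * a) * g⁻¹ := by
        calc g * ((a : G) * b) * g⁻¹ = g * a * g⁻¹ * (g * b * g⁻¹) := by group
          _ = g * b * g⁻¹ * (g * a * g⁻¹) := h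
          _ = _ := by group
      exact mul_left_cancel (mul_right_cancel h')
    · have h : g * (c * c) * g⁻¹ = 1 := by rw [← hS0sq _ (hm c hc)]; group
      rw [sq]; exact conj_eq_one_iff.mp h
  obtain ⟨F, hFf, hFt, hFc, ⟨eG⟩⟩ := Cfsg.Agent.S1230.result P hPc hPn helem
  rw [hcardP] at hFc
  have h60 : Nat.card G = 60 := by
    have h1 := CfsgLib.Classical.card_psl_mul (F := F) hFc 2 (by norm_num)
    have h2 := CfsgLib.Classical.card_sl_mul (F := F) hFc 2 (by norm_num)
    norm_num at h1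
    rw [Fin.prod_univ_two] at h2
    norm_num at h2
    rw [Nat.card_congr eG.toEquiv]
    rw [Nat.card_eq_fintype_card]
    omega
  have hNidx : N.index = 5 := by
    have h1 := Subgroup.relIndex_mul_index hCN
    rw [hrel] at h1
    have h2 := C.card_mul_index
    rw [hcardC, h60] at h2
    omega
  obtain ⟨f, hf⟩ := CfsgLib.SmallGroups.SimpleTools.exists_embedding hG N (fun h => by rw [h, Subgroup.index_top] at hNidx; omega)
  have hA5 : Nat.card ↥(alternatingGroup (Fin N.index)) = 60 := by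
    have : Nontrivial (Fin N.index) := Fin.nontrivial_iff_two_le.mpr (by omega)
    have h := two_mul_nat_card_alternatingGroup (α := Fin N.index)
    rw [Nat.card_perm, Nat.card_fin, hNidx, show Nat.factorial 5 = 120 from rfl] at h
    rw [hNidx]
    omega
  have e := MulEquiv.ofBijective f ((Nat.bijective_iff_injective_and_card f).mpr ⟨hf, by rw [h60, hA5]⟩)
  rw [hNidx] at e
  exact ⟨e⟩

end Cfsg.Agent.S3278
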