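import Cfsg.Statements.S3035
import Cfsg.Agent.Lib.LocalEvenB.CentralizerDihedralEight
import Cfsg.Agent.S0848
import Cfsg.Agent.S0497
import Cfsg.Agent.S3278
import Cfsg.Agent.Lib.Classical.SLBasic
import Cfsg.Agent.Lib.Sporadic.SimpleIso168

set_option autoImplicit false
open Cfsg

namespace Cfsg.Agent.S3035

open CfsgLib.LocalEvenB.CentralizerDihedralEight

theorem isSimple_sl : IsSimpleGroup (Matrix.SpecialLinearGroup (Fin 3) (ZMod 2)) := by
  haveI := CfsgLib.Classical.psl_fin_isSimpleGroup (F := ZMod 2) (k := 3) (by norm_num) (by norm_num)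
  have hz : Subgroup.center (Matrix.SpecialLinearGroup (Fin 3) (ZMod 2)) = ⊥ := by
    refine eq_bot_iff.mpr fun A hA => ?_
    obtain ⟨r, hr, hrA⟩ := Matrix.SpecialLinearGroup.mem_center_iff.mp hA
    have h2 : ∀ a : ZMod 2, a ^ Fintype.card (Fin 3) = 1 → a = 1 := by decide
    rw [h2 r hr, map_one] at hrA
    exact Subgroup.mem_bot.mpr (Subtype.ext hrA.symm)
  let e0 := QuotientGroup.quotientBot (G := Matrix.SpecialLinearGroup (Fin 3) (ZMod 2))
  let e1 : Matrix.ProjectiveSpecialLinearGroup (Fin 3) (ZMod 2) ≃* Matrix.SpecialLinearGroup (Fin 3) (ZMod 2) :=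
    (QuotientGroup.quotientMulEquivOfEq hz).trans e0
  exact e1.symm.isSimpleGroup

theorem card_sl : Nat.card (Matrix.SpecialLinearGroup (Fin 3) (ZMod 2)) = 168 := by
  have hb : Function.Bijective (Matrix.SpecialLinearGroup.toGL : Matrix.SpecialLinearGroup (Fin 3) (ZMod 2) →* GL (Fin 3) (ZMod 2)) := by
    refine ⟨fun A B h => Subtype.ext (congrArg Units.val h :), fun g => ?_⟩
    have hdet : (g : Matrix (Fin 3) (Fin 3) (ZMod 2)).det = 1 := by
      have h2 : ∀ a : ZMod 2, a ≠ 0 → a = 1 := by decide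
      exact h2 _ ((Matrix.GeneralLinearGroup.det g).ne_zero)
    exact ⟨⟨g.1, hdet⟩, Units.ext rfl⟩
  rw [Nat.card_congr (Equiv.ofBijective _ hb), Matrix.card_GL_field]
  simp [Fin.prod_univ_three]

/-- Let G be a finite group with an involution z whose centralizer is dihedral of order 8. Then G = C_G(z) O(G) with O(G) the largest normal subgroup of odd order, or G is isomorphic to the symmetric group of degree 4, the symmetric group of degree 5, the group SL₃(2), or the alternating group of degree 6. -/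
theorem result {G : Type*} [Group G] [Finite G] (z : G) (hz : orderOf z = 2)
    (hC : Nonempty (↥(Subgroup.centralizer ({z} : Set G)) ≃* DihedralGroup 4)) :
    Subgroup.centralizer ({z} : Set G) ⊔ Cfsg.oddCore G = ⊤ ∨ Nonempty (G ≃* Equiv.Perm (Fin 4)) ∨ Nonempty (G ≃* Equiv.Perm (Fin 5)) ∨
      Nonempty (G ≃* Matrix.SpecialLinearGroup (Fin 3) (ZMod 2)) ∨ Nonempty (G ≃* ↥(alternatingGroup (Fin 6))) := by
  classical
  obtain ⟨e⟩ := hC
  by_cases hiso : Cfsg.IsIsolatedInvolution z
  · exact Or.inl (sup_oddCore_eq_top e hiso)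
  right
  obtain ⟨g, hcg, hne⟩ : ∃ g, Commute z (g * z * g⁻¹) ∧ g * z * g⁻¹ ≠ z := by
    by_contra h
    push Not at h
    exact hiso ⟨hz, h⟩
  obtain ⟨a, hS⟩ := exists_std e hz (Subgroup.mem_centralizer_singleton_iff.mpr hcg.symm.eq)
    ((CfsgLib.Involution.Dihedral.orderOf_conj g z).trans hz) hne
  have hgt : ∃ g', g' * z * g'⁻¹ = g * z * g⁻¹ := ⟨g, rfl⟩
  by_cases hgu : ∃ g', g' * z * g'⁻¹ = g * z * g⁻¹ * a
  · haveI := isSimpleGroup_of_fused e hz hS hgt hgu
    have hperf : commutator G = ⊤ := by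
      refine (Subgroup.Normal.eq_bot_or_eq_top inferInstance).resolve_left fun hb => hne ?_
      have h1 : g * z * g⁻¹ * z⁻¹ ∈ commutator G := by
        rw [commutator_def, ← commutatorElement_def]
        exact Subgroup.commutator_mem_commutator (Subgroup.mem_top g) (Subgroup.mem_top z)
      rw [hb, Subgroup.mem_bot] at h1
      exact mul_inv_eq_one.1 h1
    rcases Cfsg.Agent.S0848.result hperf z hz e with h | h
    · haveI := isSimple_sl
      exact Or.inr (Or.inr (Or.inl (CfsgLib.Sporadic.SimpleIso168.unique h card_sl)))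
    · exact Or.inr (Or.inr (Or.inr (Cfsg.Agent.S0497.result h)))
  obtain ⟨M, V, hs⟩ := exists_split e hz hS hgt hgu
  rcases split_cases e hz hs with ⟨hN, hG⟩ | ⟨hN, hM⟩
  · exact Or.inl (iso_symmetric_four e hz hs hN hG)
  haveI := hM
  have hVM : V ≤ M := hs.inf_eq ▸ inf_le_right
  have hzM : z ∈ M := hVM ((hs.mem z).2 (Or.inr (Or.inl rfl)))
  have hcm : Subgroup.centralizer ({(⟨z, hzM⟩ : M)} : Set M) = V.subgroupOf M := by
    ext m
    rw [Subgroup.mem_centralizer_singleton_iff, Subgroup.mem_subgroupOf, ← hs.inf_eq,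
      Subgroup.mem_inf, Subgroup.mem_centralizer_singleton_iff]
    exact ⟨fun h => ⟨congrArg Subtype.val h, m.2⟩, fun h => Subtype.ext h.1⟩
  haveI := hs.klein
  obtain ⟨f⟩ := Cfsg.Agent.S3278.result (⟨z, hzM⟩ : M) (by rw [← Subgroup.orderOf_coe]; exact hz)
    (V.subgroupOf M) hcm.ge (isKleinFour_congr (Subgroup.subgroupOfEquivOfLe hVM).symm)
    (by rw [hcm, Subgroup.relIndex_self]; decide)
    (by rw [hcm, Subgroup.subgroupOf_self]; infer_instance)
  refine Or.inr (Or.inl (iso_symmetric_five e hz hs hN ?_))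
  rw [Nat.card_congr f.toEquiv, nat_card_alternatingGroup, Nat.card_fin]
  rfl

end Cfsg.Agent.S3035
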