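import Cfsg.Statements.S0560
import Cfsg.Agent.Lib.Solvable.Basic
-- import your own Cfsg.Agent.* helpers here

set_option autoImplicit false
open Pointwise
open Cfsg

namespace Cfsg.Agent.S0560

/-- Let the finite group G be the product HK of two subgroups and p a prime. Then there are Sylow p-subgroups P of H and Q of K and a Sylow p-subgroup R of G whose underlying set is the product set of P and Q. -/
theorem result {G : Type*} [Group G] [Finite G] (H K : Subgroup G) (hHK : ∀ g : G, ∃ h ∈ H, ∃ k ∈ K, g = h * k) (p : ℕ) [Fact p.Prime] : ∃ (P : Sylow p H) (Q : Sylow p K) (R : Sylow p G), ((R : Subgroup G) : Set G) = (((P : Subgroup H).map H.subtype : Subgroup G) : Set G) * (((Q : Subgroup K).map K.subtype : Subgroup G) : Set G) := by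
  classical
  obtain ⟨P₀⟩ : Nonempty (Sylow p H) := inferInstance
  obtain ⟨Q₀⟩ : Nonempty (Sylow p K) := inferInstance
  obtain ⟨R₀, hR₀⟩ := P₀.exists_comap_subtype_eq
  obtain ⟨R₁, hR₁⟩ := Q₀.exists_comap_subtype_eq
  obtain ⟨g, hg⟩ := MulAction.exists_smul_eq G R₀ R₁
  obtain ⟨h, hh, k, hk, hgi⟩ := hHK g⁻¹
  -- move both to a common Sylow subgroup of the whole group
  set h' : H := ⟨h⁻¹, inv_mem hh⟩
  set k' : K := ⟨k, hk⟩
  set R := h⁻¹ • R₀ with hR
  set P := h' • P₀
  set Q := k' • Q₀
  have hge : h⁻¹ = k * g := by
    have : k = h⁻¹ * g⁻¹ := by rw [hgi]; group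
    rw [this]; group
  have hPR : (P : Subgroup H).map H.subtype ≤ R := by
    rw [Sylow.coe_subgroup_smul, CfsgLib.Solvable.Basic.map_subtype_conj_smul, hR,
      Sylow.coe_subgroup_smul]
    refine CfsgLib.Solvable.Basic.conj_smul_mono ?_
    rw [← hR₀]; exact Subgroup.map_comap_le _ _
  have hQR : (Q : Subgroup K).map K.subtype ≤ R := by
    rw [Sylow.coe_subgroup_smul, CfsgLib.Solvable.Basic.map_subtype_conj_smul, hR,
      Sylow.coe_subgroup_smul, hge, ← CfsgLib.Solvable.Basic.conj_smul_conj_smul,
      ← Sylow.coe_subgroup_smul (g := g), hg]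
    refine CfsgLib.Solvable.Basic.conj_smul_mono ?_
    rw [← hR₁]; exact Subgroup.map_comap_le _ _
  refine ⟨P, Q, R, ?_⟩
  set A := (P : Subgroup H).map H.subtype with hA
  set B := (Q : Subgroup K).map K.subtype with hB
  let f : A ⧸ B.subgroupOf A → (R : Subgroup G) ⧸ B.subgroupOf R :=
    Quotient.map' (fun a => ⟨a, hPR a.2⟩) fun a b hab => by
      rw [QuotientGroup.leftRel_apply] at hab ⊢
      exact hab
  have hf : Function.Injective f := by
    intro a b hab
    induction a using QuotientGroup.induction_on with | _ a => ?_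
    induction b using QuotientGroup.induction_on with | _ b => ?_
    rw [QuotientGroup.eq, Subgroup.mem_subgroupOf]
    exact (QuotientGroup.eq (s := B.subgroupOf (R : Subgroup G))).mp hab
  -- comparison of the two indices through the multiplicities of p
  have hfac : (Nat.card H).factorization p + (Nat.card K).factorization p =
      (Nat.card G).factorization p + (Nat.card (H ⊓ K : Subgroup G)).factorization p := by
    have hrel : K.relIndex H = K.index := by
      let u : H ⧸ K.subgroupOf H → G ⧸ K :=
        Quotient.map' Subtype.val fun a b hab => by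
          rw [QuotientGroup.leftRel_apply] at hab ⊢
          exact hab
      have hu : Function.Bijective u := by
        refine ⟨fun a b hab => ?_, fun y => ?_⟩
        · induction a using QuotientGroup.induction_on with | _ a => ?_
          induction b using QuotientGroup.induction_on with | _ b => ?_
          rw [QuotientGroup.eq, Subgroup.mem_subgroupOf]
          exact QuotientGroup.eq.mp hab
        · induction y using QuotientGroup.induction_on with | _ y => ?_
          obtain ⟨a, ha, b, hb, rfl⟩ := hHK y
          exact ⟨QuotientGroup.mk ⟨a, ha⟩, QuotientGroup.eq.mpr (by simpa using hb)⟩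
      rw [Subgroup.relIndex, Subgroup.index_eq_card, Subgroup.index_eq_card]
      exact Nat.card_eq_of_bijective u hu
    have h1 : Nat.card H * Nat.card K = Nat.card G * Nat.card (H ⊓ K : Subgroup G) := by
      have h2 := Subgroup.relIndex_mul_relIndex (⊥ : Subgroup G) (H ⊓ K) H bot_le inf_le_left
      rw [Subgroup.relIndex_bot_left, Subgroup.relIndex_bot_left, Subgroup.inf_relIndex_left,
        hrel] at h2
      rw [← h2, ← K.card_mul_index]; ring
    have := congrArg (fun x => x.factorization p) h1
    rw [Nat.factorization_mul Nat.card_pos.ne' Nat.card_pos.ne', Nat.factorization_mul Nat.card_pos.ne' Nat.card_pos.ne'] at this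
    simpa using this
  obtain ⟨e, he⟩ := IsPGroup.iff_card.mp
    ((P.isPGroup'.map H.subtype).to_inf_left (K := B))
  have hle : e ≤ (Nat.card (H ⊓ K : Subgroup G)).factorization p := by
    rw [← (Fact.out : p.Prime).pow_dvd_iff_le_factorization Nat.card_pos.ne', ← he]
    exact Subgroup.card_dvd_of_le
      (inf_le_inf (Subgroup.map_subtype_le _) (Subgroup.map_subtype_le _))
  have hcA : Nat.card A = p ^ (Nat.card H).factorization p := by
    rw [hA, Subgroup.card_map_of_injective H.subtype_injective, P.card_eq_multiplicity]
  have hcB : Nat.card B = p ^ (Nat.card K).factorization p := by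
    rw [hB, Subgroup.card_map_of_injective K.subtype_injective, Q.card_eq_multiplicity]
  have hsurj : Function.Surjective f := by
    refine (hf.bijective_of_nat_card_le ?_).2
    rw [← Subgroup.index_eq_card, ← Subgroup.index_eq_card]
    show B.relIndex R ≤ B.relIndex A
    have h2 := Subgroup.relIndex_mul_relIndex (⊥ : Subgroup G) B R bot_le hQR
    have h3 := Subgroup.relIndex_mul_relIndex (⊥ : Subgroup G) (A ⊓ B) A bot_le inf_le_left
    rw [Subgroup.relIndex_bot_left, Subgroup.relIndex_bot_left, hcB, R.card_eq_multiplicity] at h2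
    rw [Subgroup.relIndex_bot_left, Subgroup.relIndex_bot_left, he, hcA,
      Subgroup.inf_relIndex_left] at h3
    refine Nat.le_of_mul_le_mul_left (c := p ^ ((Nat.card K).factorization p + e)) ?_
      (pow_pos (Fact.out : p.Prime).pos _)
    calc p ^ ((Nat.card K).factorization p + e) * B.relIndex R
        = p ^ ((Nat.card G).factorization p + e) := by rw [pow_add, pow_add, ← h2]; ring
      _ ≤ p ^ ((Nat.card H).factorization p + (Nat.card K).factorization p) :=
          Nat.pow_le_pow_right (Fact.out : p.Prime).pos (by omega)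
      _ = p ^ ((Nat.card K).factorization p + e) * B.relIndex A := by
          rw [pow_add, pow_add, ← h3]; ring
  apply Set.Subset.antisymm
  · intro x hx
    obtain ⟨q, hq⟩ := hsurj (QuotientGroup.mk ⟨x, hx⟩)
    induction q using QuotientGroup.induction_on with | _ a => ?_
    have hb : (a : G)⁻¹ * x ∈ B := (QuotientGroup.eq (s := B.subgroupOf (R : Subgroup G))).mp hq
    exact ⟨a, a.2, _, hb, mul_inv_cancel_left _ _⟩
  · rintro _ ⟨a, ha, b, hb, rfl⟩
    exact (R : Subgroup G).mul_mem (hPR ha) (hQR hb)

end Cfsg.Agent.S0560
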