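import Cfsg.Statements.S0561
import Cfsg.Agent.Lib.Solvable.HallSystem
-- import your own Cfsg.Agent.* helpers here

set_option autoImplicit false
open Pointwise
open Cfsg

namespace Cfsg.Agent.S0561

/-- Let the finite solvable group G be the product HK of subgroups, and let A be normal in H and B normal in K, where A and B are Hall subgroups of G (order coprime to index). Then for all x, y the product set of xAx⁻¹ and yBy⁻¹ is a subgroup of G. -/
theorem result {G : Type*} [Group G] [Finite G] [Group.IsSolvable G] (H K A B : Subgroup G) (hHK : ∀ g : G, ∃ h ∈ H, ∃ k ∈ K, g = h * k) (hA : A ≤ H) (hAn : (A.subgroupOf H).Normal) (hB : B ≤ K) (hBn : (B.subgroupOf K).Normal) (hAh : (Nat.card A).Coprime A.index) (hBh : (Nat.card B).Coprime B.index) (x y : G) : ∃ S : Subgroup G, (S : Set G) = ((MulAut.conj x • A : Subgroup G) : Set G) * ((MulAut.conj y • B : Subgroup G) : Set G) := by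
  have key : ∀ x y : G, ∃ g : G,
      ((MulAut.conj x • A : Subgroup G) : Set G) * ((MulAut.conj y • B : Subgroup G) : Set G) =
        MulAut.conj g • ((A : Set G) * (B : Set G)) := by
    intro x y
    obtain ⟨h, hh, k, hk, e⟩ := hHK (x⁻¹ * y)
    refine ⟨x * h, ?_⟩
    have hA' : MulAut.conj h • A = A := Subgroup.conjAct_pointwise_smul_eq_self
      ((Subgroup.normal_subgroupOf_iff_le_normalizer hA).mp hAn hh)
    have hB' : MulAut.conj k • B = B := Subgroup.conjAct_pointwise_smul_eq_self
      ((Subgroup.normal_subgroupOf_iff_le_normalizer hB).mp hBn hk)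
    have hy : y = x * h * k := by rw [mul_assoc, ← e, mul_inv_cancel_left]
    have h1 : MulAut.conj x • A = MulAut.conj (x * h) • A := by
      rw [map_mul, mul_smul, hA']
    have h2 : MulAut.conj y • B = MulAut.conj (x * h) • B := by
      rw [hy, map_mul (MulAut.conj) (x * h) k, mul_smul, hB']
    rw [h1, h2, Subgroup.coe_pointwise_smul, Subgroup.coe_pointwise_smul, smul_mul']
  obtain ⟨x₀, y₀, S, hS⟩ := CfsgLib.Solvable.HallSystem.hall_mul_hall A B hAh hBh
  obtain ⟨g₀, hg₀⟩ := key x₀ y₀
  obtain ⟨g, hg⟩ := key x y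
  refine ⟨MulAut.conj g • (MulAut.conj g₀)⁻¹ • S, ?_⟩
  rw [Subgroup.coe_pointwise_smul, Subgroup.coe_pointwise_smul, hS, hg₀, inv_smul_smul, hg]

end Cfsg.Agent.S0561
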