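import Cfsg.Statements.S0562
import Cfsg.Agent.Lib.Solvable.Basic
-- import your own Cfsg.Agent.* helpers here

set_option autoImplicit false
open Cfsg
open scoped Pointwise

namespace Cfsg.Agent.S0562

/-- Let the finite group G be the product HK of subgroups, A normal in H, B normal in K, and L the normalizer of the subgroup generated by A and B. Then every element of L is a product of an element of L ∩ H and an element of L ∩ K. -/
theorem result {G : Type*} [Group G] [Finite G] (H K A B : Subgroup G) (hHK : ∀ g : G, ∃ h ∈ H, ∃ k ∈ K, g = h * k) (hA : A ≤ H) (hAn : (A.subgroupOf H).Normal) (hB : B ≤ K) (hBn : (B.subgroupOf K).Normal) : ∀ g ∈ Subgroup.normalizer ((A ⊔ B : Subgroup G) : Set G), ∃ h ∈ Subgroup.normalizer ((A ⊔ B : Subgroup G) : Set G) ⊓ H, ∃ k ∈ Subgroup.normalizer ((A ⊔ B : Subgroup G) : Set G) ⊓ K, g = h * k := by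
  intro g hg
  obtain ⟨h, hh, k, hk, rfl⟩ := hHK g
  set J := A ⊔ B with hJ
  have conjA : MulAut.conj h • A = A := by
    ext y
    rw [CfsgLib.Solvable.Basic.mem_conj_smul]
    constructor
    · intro hy
      have := hAn.conj_mem ⟨_, hA hy⟩ (Subgroup.mem_subgroupOf.mpr hy) ⟨h, hh⟩
      simpa [Subgroup.mem_subgroupOf, mul_assoc] using this
    · intro hy
      have := hAn.conj_mem ⟨_, hA hy⟩ (Subgroup.mem_subgroupOf.mpr hy) ⟨h⁻¹, inv_mem hh⟩
      simpa [Subgroup.mem_subgroupOf, mul_assoc] using this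
  have conjB : MulAut.conj k • B = B := by
    ext y
    rw [CfsgLib.Solvable.Basic.mem_conj_smul]
    constructor
    · intro hy
      have := hBn.conj_mem ⟨_, hB hy⟩ (Subgroup.mem_subgroupOf.mpr hy) ⟨k, hk⟩
      simpa [Subgroup.mem_subgroupOf, mul_assoc] using this
    · intro hy
      have := hBn.conj_mem ⟨_, hB hy⟩ (Subgroup.mem_subgroupOf.mpr hy) ⟨k⁻¹, inv_mem hk⟩
      simpa [Subgroup.mem_subgroupOf, mul_assoc] using this
  have hJg : MulAut.conj (h * k) • J = J := Subgroup.conjAct_pointwise_smul_eq_self hg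
  have e1 : MulAut.conj h • B ≤ J := by
    have : MulAut.conj (h * k) • B ≤ MulAut.conj (h * k) • J :=
      CfsgLib.Solvable.Basic.conj_smul_mono le_sup_right
    rwa [hJg, ← CfsgLib.Solvable.Basic.conj_smul_conj_smul, conjB] at this
  have e2 : MulAut.conj h • J = J := by
    refine Subgroup.eq_of_le_of_card_ge ?_ (by rw [CfsgLib.Solvable.Basic.card_conj_smul])
    rw [hJ, Subgroup.smul_sup, conjA]
    exact sup_le le_sup_left e1
  have hhL : h ∈ Subgroup.normalizer (J : Set G) := by
    rw [Subgroup.mem_normalizer_iff]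
    intro y
    conv_rhs => rw [← e2]
    rw [CfsgLib.Solvable.Basic.mem_conj_smul]
    group
  refine ⟨h, ⟨hhL, hh⟩, k, ⟨?_, hk⟩, rfl⟩
  simpa using Subgroup.mul_mem _ (Subgroup.inv_mem _ hhL) hg

end Cfsg.Agent.S0562
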