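import Cfsg.Statements.S1686
import Cfsg.Agent.Lib.Sporadic.O7Model

set_option autoImplicit false
open Cfsg

namespace Cfsg.Agent.S1686

open CfsgLib.Orth CfsgLib.Classical CfsgLib.ThreeTransp.OmegaSeven in
theorem center_free : Nonempty (↥(commutator (orthGroup Q7)) ≃* Cfsg.POmega (ZMod 3) (Cfsg.quadFormOdd 3 (ZMod 3))) := by
  have h2 : (2 : ZMod 3) ≠ 0 := by decide
  have hQ := oddForm_nondeg (F := ZMod 3) 3 h2
  let E := omegaEquiv (oddForm (ZMod 3) 3) (oddForm_apply (F := ZMod 3) 3)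
  have hbot : ∀ z ∈ Subgroup.center ↥(Cfsg.Omega (ZMod 3) (Cfsg.quadFormOdd 3 (ZMod 3))), z = 1 := by
    intro z hz
    have hzc : E z ∈ Subgroup.center _ := Subgroup.mem_center_iff.2 fun c => by
      obtain ⟨c, rfl⟩ := E.surjective c
      rw [← map_mul, ← map_mul, Subgroup.mem_center_iff.1 hz c]
    rcases eq_one_or_negEl_of_commute hQ h2 (hypPairs_odd 3 (by norm_num)) (E z).1
      (central_commutes (E z) hzc) with h | h
    · exact E.injective (by rw [map_one]; exact Subtype.ext h)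
    · exfalso
      have hd := ((mem_commutator_odd hQ h2 (E z).1).1 (E z).2).1
      rw [h, show ((negEl (oddForm (ZMod 3) 3)).1 : (Unit ⊕ (Fin 3 ⊕ Fin 3) → ZMod 3) →ₗ[ZMod 3] _) =
          (-1 : ZMod 3) • LinearMap.id from LinearMap.ext fun v => (neg_one_smul (ZMod 3) v).symm,
        LinearMap.det_smul, LinearMap.det_id, mul_one, Module.finrank_fintype_fun_eq_card] at hd
      simp only [Fintype.card_sum, Fintype.card_unit, Fintype.card_fin] at hd
      revert hd
      decide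
  have hinj : Function.Injective
      (QuotientGroup.mk' (Subgroup.center ↥(Cfsg.Omega (ZMod 3) (Cfsg.quadFormOdd 3 (ZMod 3))))) := by
    rw [injective_iff_map_eq_one]
    exact fun z hz => hbot z ((QuotientGroup.eq_one_iff z).1 hz)
  exact ⟨E.symm.trans (MulEquiv.ofBijective _ ⟨hinj, QuotientGroup.mk'_surjective _⟩)⟩

/-- In the presented Fischer group Fi₂₂, the subgroup generated by the images of b, …, i is isomorphic to PΩ(7, 3), the commutator subgroup of the isometry group of the quadratic form x₀² + x₁y₁ + x₂y₂ + x₃y₃ over the integers mod 3, modulo its centre. -/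
theorem result : Nonempty ((((Subgroup.closure ({Cfsg.Spor.Fi22.b, Cfsg.Spor.Fi22.c, Cfsg.Spor.Fi22.d, Cfsg.Spor.Fi22.e, Cfsg.Spor.Fi22.f, Cfsg.Spor.Fi22.g, Cfsg.Spor.Fi22.h, Cfsg.Spor.Fi22.i} : Set (FreeGroup Cfsg.Spor.Fi22.Gen))).map (PresentedGroup.mk (Cfsg.Spor.coxRelators Cfsg.Spor.Fi22.edges ∪ {r | r ∈ Cfsg.Spor.Fi22.extra})))) ≃* Cfsg.POmega (ZMod 3) (Cfsg.quadFormOdd 3 (ZMod 3))) := by
  obtain ⟨e⟩ := center_free
  rw [CfsgLib.Sporadic.CosetCert.FiP.map_closure_O]
  exact ⟨CfsgLib.Sporadic.CosetCert.O7P.equivOm.trans e⟩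

end Cfsg.Agent.S1686
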