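import Cfsg.Statements.S2401
import Cfsg.Agent.Lib.KnownA.StSLUniv

set_option autoImplicit false
open Cfsg

namespace Cfsg.Agent.S2401

/-- The Steinberg presentation of `SL_n` over a finite field for `n ≥ 3`: the group generated by symbols `x_ij(t)` (`i ≠ j`, `t` in the field) subject to `x_ij(t) x_ij(u) = x_ij(t + u)` and, for `i ≠ l`, `x_ij(t) x_kl(u) x_ij(t)⁻¹ x_kl(u)⁻¹ = x_il(tu)` if `j = k` and `= 1` if `j ≠ k`, is isomorphic to `SL_n` by an isomorphism sending `x_ij(t)` to the elementary matrix `1 + t E_ij`. -/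
theorem result {K : Type*} [Field K] [Finite K] (n : ℕ) (hn : 3 ≤ n) :
    ∃ e : PresentedGroup
        ({g : FreeGroup ({ij : Fin n × Fin n // ij.1 ≠ ij.2} × K) | ∃ (a : {ij : Fin n × Fin n // ij.1 ≠ ij.2}) (t u : K),
            g = FreeGroup.of (a, t) * FreeGroup.of (a, u) * (FreeGroup.of (a, t + u))⁻¹} ∪
          {g | ∃ (a b : {ij : Fin n × Fin n // ij.1 ≠ ij.2}) (t u : K), a.1.1 ≠ b.1.2 ∧ a.1.2 ≠ b.1.1 ∧
            g = FreeGroup.of (a, t) * FreeGroup.of (b, u) * (FreeGroup.of (a, t))⁻¹ * (FreeGroup.of (b, u))⁻¹} ∪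
          {g | ∃ (a b : {ij : Fin n × Fin n // ij.1 ≠ ij.2}) (h : a.1.1 ≠ b.1.2) (t u : K), a.1.2 = b.1.1 ∧
            g = FreeGroup.of (a, t) * FreeGroup.of (b, u) * (FreeGroup.of (a, t))⁻¹ * (FreeGroup.of (b, u))⁻¹ *
              (FreeGroup.of (⟨(a.1.1, b.1.2), h⟩, t * u))⁻¹}) ≃* Matrix.SpecialLinearGroup (Fin n) K,
      ∀ (a : {ij : Fin n × Fin n // ij.1 ≠ ij.2}) (t : K), ((e (PresentedGroup.of (a, t)) : Matrix (Fin n) (Fin n) K)) = Matrix.transvection a.1.1 a.1.2 t := by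
  classical
  generalize hR :
        ({g : FreeGroup ({ij : Fin n × Fin n // ij.1 ≠ ij.2} × K) | ∃ (a : {ij : Fin n × Fin n // ij.1 ≠ ij.2}) (t u : K),
            g = FreeGroup.of (a, t) * FreeGroup.of (a, u) * (FreeGroup.of (a, t + u))⁻¹} ∪
          {g | ∃ (a b : {ij : Fin n × Fin n // ij.1 ≠ ij.2}) (t u : K), a.1.1 ≠ b.1.2 ∧ a.1.2 ≠ b.1.1 ∧
            g = FreeGroup.of (a, t) * FreeGroup.of (b, u) * (FreeGroup.of (a, t))⁻¹ * (FreeGroup.of (b, u))⁻¹} ∪
          {g | ∃ (a b : {ij : Fin n × Fin n // ij.1 ≠ ij.2}) (h : a.1.1 ≠ b.1.2) (t u : K), a.1.2 = b.1.1 ∧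
            g = FreeGroup.of (a, t) * FreeGroup.of (b, u) * (FreeGroup.of (a, t))⁻¹ * (FreeGroup.of (b, u))⁻¹ *
              (FreeGroup.of (⟨(a.1.1, b.1.2), h⟩, t * u))⁻¹}) = R
  let f : {ij : Fin n × Fin n // ij.1 ≠ ij.2} × K → Matrix.SpecialLinearGroup (Fin n) K :=
    fun p => Matrix.SpecialLinearGroup.transvection p.1.2 p.2
  have hrel : ∀ r ∈ R, FreeGroup.lift f r = 1 := by
    rw [← hR]
    rintro r ((⟨a, t, u, rfl⟩ | ⟨a, b, t, u, h1, h2, rfl⟩) | ⟨a, b, h, t, u, hab, rfl⟩)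
    · simp only [map_mul, map_inv, FreeGroup.lift_apply_of, mul_inv_eq_one]
      exact Subtype.ext (Matrix.transvection_mul_transvection_same _ _ a.2 t u)
    · simp only [map_mul, map_inv, FreeGroup.lift_apply_of, mul_inv_eq_iff_eq_mul, one_mul]
      apply Subtype.ext
      change Matrix.transvection a.1.1 a.1.2 t * Matrix.transvection b.1.1 b.1.2 u =
        Matrix.transvection b.1.1 b.1.2 u * Matrix.transvection a.1.1 a.1.2 t
      simp only [Matrix.transvection, mul_add, add_mul, mul_one, one_mul,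
        Matrix.single_mul_single_of_ne _ _ _ _ h2, Matrix.single_mul_single_of_ne _ _ _ _ h1.symm]
      abel
    · simp only [map_mul, map_inv, FreeGroup.lift_apply_of, mul_inv_eq_one]
      obtain ⟨⟨i, j⟩, hij⟩ := a
      obtain ⟨⟨j', k⟩, hjk⟩ := b
      subst hab
      exact CfsgLib.Classical.commutator_transvection hij hjk h t u
  let ψ := PresentedGroup.toGroup (h := hrel)
  have hψ : ∀ p, ψ (PresentedGroup.of p) = f p := fun p => PresentedGroup.toGroup.of hrel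
  let y : Fin n → Fin n → K → PresentedGroup R := fun i j t =>
    if h : i ≠ j then PresentedGroup.of (⟨(i, j), h⟩, t) else 1
  have y_eq : ∀ {i j : Fin n} (h : i ≠ j) (t : K),
      y i j t = PresentedGroup.of (rels := R) (⟨(i, j), h⟩, t) := fun h t => dif_pos h
  have rel : ∀ r ∈ R, PresentedGroup.mk R r = 1 := fun r hr => PresentedGroup.one_of_mem hr
  have hy : CfsgLib.KnownA.StSL.PreSt y := by
    refine ⟨?_, ?_, ?_⟩
    · intro i j t u h
      have := rel (FreeGroup.of (⟨(i, j), h⟩, t) * FreeGroup.of (⟨(i, j), h⟩, u) *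
        (FreeGroup.of (⟨(i, j), h⟩, t + u))⁻¹)
        (by rw [← hR]; exact Or.inl (Or.inl ⟨⟨(i, j), h⟩, t, u, rfl⟩))
      simp only [map_mul, map_inv, mul_inv_eq_one] at this
      simpa only [y_eq h, PresentedGroup.of] using this
    · intro i j k l t u h1 h2 h3 h4
      have := rel (FreeGroup.of (⟨(i, j), h1⟩, t) * FreeGroup.of (⟨(k, l), h2⟩, u) *
        (FreeGroup.of (⟨(i, j), h1⟩, t))⁻¹ * (FreeGroup.of (⟨(k, l), h2⟩, u))⁻¹)
        (by rw [← hR]; exact Or.inl (Or.inr ⟨⟨(i, j), h1⟩, ⟨(k, l), h2⟩, t, u, h3, h4, rfl⟩))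
      simp only [map_mul, map_inv, mul_inv_eq_iff_eq_mul, one_mul] at this
      rw [y_eq h1, y_eq h2]
      exact this
    · intro i j k t u h1 h2 h3
      have := rel (FreeGroup.of (⟨(i, j), h1⟩, t) * FreeGroup.of (⟨(j, k), h2⟩, u) *
        (FreeGroup.of (⟨(i, j), h1⟩, t))⁻¹ * (FreeGroup.of (⟨(j, k), h2⟩, u))⁻¹ *
        (FreeGroup.of (⟨(i, k), h3⟩, t * u))⁻¹)
        (by rw [← hR]; exact Or.inr ⟨⟨(i, j), h1⟩, ⟨(j, k), h2⟩, h3, t, u, rfl, rfl⟩)
      simp only [map_mul, map_inv, mul_inv_eq_one] at this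
      rw [y_eq h1, y_eq h2, y_eq h3]
      exact this
  obtain ⟨φ, hφ⟩ := CfsgLib.KnownA.StSL.exists_hom (by rw [Fintype.card_fin]; exact hn) hy
  have h1 : φ.comp ψ = MonoidHom.id _ := by
    refine PresentedGroup.ext fun p => ?_
    obtain ⟨⟨⟨i, j⟩, h⟩, t⟩ := p
    simp only [MonoidHom.comp_apply, MonoidHom.id_apply, hψ]
    exact (hφ i j h t).trans (y_eq h t)
  have h2 : ψ.comp φ = MonoidHom.id _ := by
    ext1 A
    induction A using CfsgLib.Classical.sl_transvection_induction with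
    | h1 => simp
    | htransvec i j h t =>
      simp only [MonoidHom.comp_apply, MonoidHom.id_apply, hφ i j h t, y_eq h, hψ, f]
    | hmul A B hA hB => rw [map_mul, map_mul, hA, hB]
  refine ⟨MonoidHom.toMulEquiv ψ φ h1 h2, fun a t => ?_⟩
  change ((ψ (PresentedGroup.of (a, t))) : Matrix (Fin n) (Fin n) K) = _
  rw [hψ]
  rfl

end Cfsg.Agent.S2401
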