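import Cfsg.Statements.S3986
import Cfsg.Agent.Lib.Frobenius.Elements

set_option autoImplicit false
open Cfsg
open scoped Pointwise

namespace Cfsg.Agent.S3986

/-- Let p be a prime and G a finite group. Then some Sylow p-subgroup of G is a direct factor of G (it is normal and has a normal complement) if and only if every element of p-power order commutes with every element whose order is a power of a prime other than p. -/
theorem result {G : Type*} [Group G] [Finite G] (p : ℕ) [Fact p.Prime] : (∃ (P : Sylow p G) (K : Subgroup G), (P : Subgroup G).Normal ∧ K.Normal ∧ (P : Subgroup G) ⊓ K = ⊥ ∧ (P : Subgroup G) ⊔ K = ⊤) ↔ ∀ x y : G, (∃ a : ℕ, orderOf x = p ^ a) → (∃ q b : ℕ, q.Prime ∧ q ≠ p ∧ orderOf y = q ^ b) → x * y = y * x := by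
  constructor
  · rintro ⟨P, K, hPn, hKn, hinf, hsup⟩ x y ⟨a, hx⟩ ⟨q, b, hq, hqp, hy⟩
    have hxP : x ∈ (P : Subgroup G) :=
      by
        obtain ⟨S, hS⟩ := (IsPGroup.iff_card.mpr ⟨a, by rw [Nat.card_zpowers, hx]⟩ :
          IsPGroup p ↥(Subgroup.zpowers x)).exists_le_sylow
        haveI := Sylow.unique_of_normal P hPn
        exact Subsingleton.elim S P ▸ hS (Subgroup.mem_zpowers x)
    have hidx : K.index = Nat.card (P : Subgroup G) :=
      (Subgroup.isComplement'_of_disjoint_and_mul_eq_univ (disjoint_iff.mpr hinf) (by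
        rw [← Subgroup.normal_mul, hsup, Subgroup.coe_top])).index_eq_card
    obtain ⟨e, he⟩ := IsPGroup.iff_card.mp P.isPGroup'
    have h1 : (y : G ⧸ K) = 1 := orderOf_eq_one_iff.mp (Nat.eq_one_of_dvd_coprimes
      (((Nat.coprime_primes hq Fact.out).mpr hqp).pow b e)
      (hy ▸ orderOf_map_dvd (QuotientGroup.mk' K) y)
      (he ▸ hidx ▸ orderOf_dvd_natCard _))
    exact (Subgroup.commute_of_normal_of_disjoint (P : Subgroup G) K hPn hKn
      (disjoint_iff.mpr hinf) x y hxP ((QuotientGroup.eq_one_iff y).mp h1)).eq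
  · intro h
    obtain ⟨P⟩ : Nonempty (Sylow p G) := inferInstance
    have hc : ∀ y : G, (∃ q b : ℕ, q.Prime ∧ q ≠ p ∧ orderOf y = q ^ b) →
        y ∈ Subgroup.centralizer ((P : Subgroup G) : Set G) := by
      intro y hy
      refine Subgroup.mem_centralizer_iff.mpr fun x hx => ?_
      obtain ⟨a, ha⟩ := IsPGroup.iff_orderOf.mp P.isPGroup' ⟨x, hx⟩
      exact h x y ⟨a, by rw [← ha, Subgroup.orderOf_mk]⟩ hy
    have hPn : (P : Subgroup G).Normal := by
      refine Subgroup.normalizer_eq_top_iff.mp (Subgroup.eq_top_of_card_eq _ ?_)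
      refine Nat.dvd_antisymm (Subgroup.card_subgroup_dvd_card _)
        ((Nat.dvd_iff_prime_pow_dvd_dvd _ _).mpr fun q k hq hqk => ?_)
      haveI : Fact q.Prime := ⟨hq⟩
      obtain ⟨Q, hQN⟩ : ∃ Q : Sylow q G,
          (Q : Subgroup G) ≤ Subgroup.normalizer ((P : Subgroup G) : Set G) := by
        by_cases hqp : q = p
        · subst hqp; exact ⟨P, Subgroup.le_normalizer⟩
        · obtain ⟨Q⟩ : Nonempty (Sylow q G) := inferInstance
          refine ⟨Q, fun z hz => ?_⟩
          obtain ⟨b, hb⟩ := IsPGroup.iff_orderOf.mp Q.isPGroup' ⟨z, hz⟩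
          exact Subgroup.centralizer_le_normalizer _
            (hc z ⟨q, b, hq, hqp, by rw [← hb, Subgroup.orderOf_mk]⟩)
      exact ((pow_dvd_pow q ((hq.pow_dvd_iff_le_factorization Nat.card_pos.ne').mp hqk)).trans
        (Q.card_eq_multiplicity ▸ dvd_rfl)).trans (Subgroup.card_dvd_of_le hQN)
    haveI := hPn
    obtain ⟨K, hK⟩ := Subgroup.exists_right_complement'_of_coprime P.card_coprime_index
    refine ⟨P, K, hPn, ⟨fun v hv g => ?_⟩, disjoint_iff.mp hK.disjoint, hK.sup_eq_top⟩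
    have hKc : K ≤ Subgroup.centralizer ((P : Subgroup G) : Set G) := fun w hw =>
      CfsgLib.Frobenius.Elements.mem_of_primary fun z hz ⟨q, b, hq, hqw, hzo⟩ =>
        hc z ⟨q, b, hq, fun e => P.not_dvd_index (e ▸ hqw.trans (by
          rw [hK.symm.index_eq_card]; exact Subgroup.orderOf_dvd_natCard _ hw)), hzo⟩
    obtain ⟨u, hu, w, hw, rfl⟩ : g ∈ ((P : Subgroup G) : Set G) * (K : Set G) := by
      rw [← Subgroup.normal_mul, hK.sup_eq_top]; exact Set.mem_univ g
    have h1 : w * v * w⁻¹ ∈ K := mul_mem (mul_mem hw hv) (inv_mem hw)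
    have h2 : u * (w * v * w⁻¹) * u⁻¹ = w * v * w⁻¹ := by
      rw [Subgroup.mem_centralizer_iff.mp (hKc h1) u hu, mul_inv_cancel_right]
    have h3 : u * w * v * (u * w)⁻¹ = w * v * w⁻¹ := by rw [← h2]; group
    show u * w * v * (u * w)⁻¹ ∈ K
    rw [h3]; exact h1

end Cfsg.Agent.S3986
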