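import Cfsg.Statements.S4035
import Cfsg.Agent.S3986
import Cfsg.Agent.Lib.Derangements.Basic

set_option autoImplicit false
open Cfsg
open scoped Pointwise

namespace Cfsg.Agent.S4035

/-- Let G be a finite group and p a prime such that p divides the size of no conjugacy class of p-regular elements (elements of order prime to p). Then G is the internal direct product of a Sylow p-subgroup P and a normal subgroup H of order prime to p: P is normal, P ⊓ H = 1 and PH = G. -/
theorem result {G : Type*} [Group G] [Finite G] {p : ℕ} [Fact p.Prime]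
    (h : ∀ x : G, (orderOf x).Coprime p → ¬ p ∣ (ConjClasses.mk x).carrier.ncard) (P : Sylow p G) :
    (P : Subgroup G).Normal ∧ ∃ H : Subgroup G, H.Normal ∧ ¬ p ∣ Nat.card H ∧
      (P : Subgroup G) ⊓ H = ⊥ ∧ (P : Subgroup G) ⊔ H = ⊤ := by
  classical
  have hp := (Fact.out : p.Prime)
  have hclass : ∀ x : G, (ConjClasses.mk x).carrier.ncard =
      (Subgroup.centralizer ({x} : Set G)).index := by
    intro x
    rw [← ConjAct.orbit_eq_carrier_conjClasses, ← MulAction.index_stabilizer (ConjAct G),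
      ConjAct.stabilizer_eq_centralizer]
    rfl
  set C := Subgroup.centralizer ((P : Subgroup G) : Set G) with hC
  have hcov : ∀ z : G, ∃ g : G, g * z * g⁻¹ ∈ (P : Subgroup G) ⊔ C := by
    intro z
    obtain ⟨a, n, hpn, hzn⟩ :=
      Nat.exists_eq_pow_mul_and_not_dvd (orderOf_pos z).ne' p hp.ne_one
    have hcop : (p ^ a).Coprime n := (hp.coprime_iff_not_dvd.mpr hpn).pow_left a
    set x := z ^ p ^ a with hxdef
    set y := z ^ n with hydef
    have hxo : orderOf x = n := by
      rw [hxdef, orderOf_pow, hzn, Nat.gcd_eq_right (dvd_mul_right _ _),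
        Nat.mul_div_cancel_left _ (pow_pos hp.pos a)]
    have hidx : ¬ p ∣ (Subgroup.centralizer ({x} : Set G)).index := hclass x ▸
      h x (hxo ▸ (hp.coprime_iff_not_dvd.mpr hpn).symm)
    have hy : y ∈ Subgroup.centralizer ({x} : Set G) :=
      Subgroup.mem_centralizer_singleton_iff.mpr (Commute.pow_pow_self z n (p ^ a)).eq
    have hyp : IsPGroup p ↥((Subgroup.zpowers y).subgroupOf (Subgroup.centralizer {x})) := by
      refine IsPGroup.of_equiv ?_ (Subgroup.subgroupOfEquivOfLe (Subgroup.zpowers_le.mpr hy)).symm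
      have h1 : y ^ p ^ a = 1 := by rw [hydef, ← pow_mul, mul_comm, ← hzn, pow_orderOf_eq_one]
      obtain ⟨b, -, hb⟩ := (Nat.dvd_prime_pow hp).mp (orderOf_dvd_of_pow_eq_one h1)
      exact IsPGroup.iff_card.mpr ⟨b, by rw [Nat.card_zpowers, hb]⟩
    obtain ⟨Q, hQ⟩ := hyp.exists_le_sylow
    set Q' := (Q : Subgroup ↥(Subgroup.centralizer ({x} : Set G))).map
      (Subgroup.centralizer ({x} : Set G)).subtype with hQ'
    have hQle : Q' ≤ Subgroup.centralizer {x} := Subgroup.map_subtype_le _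
    have hQidx : ¬ p ∣ Q'.index := by
      rw [← Subgroup.relIndex_mul_index hQle, Subgroup.relIndex, Subgroup.subgroupOf,
        Subgroup.comap_map_eq_self_of_injective (Subgroup.subtype_injective _)]
      exact fun hd => (hp.dvd_mul.mp hd).elim Q.not_dvd_index hidx
    obtain ⟨g, hg⟩ :=
      MulAction.exists_smul_eq G ((Q.isPGroup'.map _).toSylow hQidx) P
    refine ⟨g, ?_⟩
    have hgQ : ∀ w, w ∈ Q' → g * w * g⁻¹ ∈ (P : Subgroup G) := by
      intro w hw
      rw [← hg, Sylow.coe_subgroup_smul]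
      exact ⟨w, hw, rfl⟩
    have hyP : g * y * g⁻¹ ∈ (P : Subgroup G) :=
      hgQ y ⟨⟨y, hy⟩, hQ (Subgroup.mem_zpowers y), rfl⟩
    have hxC : g * x * g⁻¹ ∈ C := Subgroup.mem_centralizer_iff.mpr fun w hw => by
      rw [← hg, Sylow.coe_subgroup_smul] at hw
      obtain ⟨v, hv, rfl⟩ := hw
      have hc : v * x = x * v := Subgroup.mem_centralizer_singleton_iff.mp (hQle hv)
      show g * v * g⁻¹ * (g * x * g⁻¹) = g * x * g⁻¹ * (g * v * g⁻¹)
      calc g * v * g⁻¹ * (g * x * g⁻¹) = g * (v * x) * g⁻¹ := by group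
        _ = g * (x * v) * g⁻¹ := by rw [hc]
        _ = _ := by group
    have e := Nat.gcd_eq_gcd_ab (p ^ a) n
    rw [hcop] at e
    have hz : z = x ^ (Nat.gcdA (p ^ a) n) * y ^ (Nat.gcdB (p ^ a) n) := by
      rw [hxdef, hydef, ← zpow_natCast, ← zpow_natCast, ← zpow_mul, ← zpow_mul, ← zpow_add, ← e,
        Nat.cast_one, zpow_one]
    rw [hz, ← conj_mul, ← conj_zpow, ← conj_zpow]
    exact mul_mem (zpow_mem (Subgroup.mem_sup_right hxC) _)
      (zpow_mem (Subgroup.mem_sup_left hyP) _)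
  have htop : (P : Subgroup G) ⊔ C = ⊤ := by
    by_contra hne
    obtain ⟨z, hz⟩ := CfsgLib.Derangements.Basic.exists_notMem_conj hne
    obtain ⟨g, hg⟩ := hcov z
    exact hz g hg
  have hPn : (P : Subgroup G).Normal := Subgroup.normalizer_eq_top_iff.mp (top_le_iff.mp
    (htop.ge.trans (sup_le Subgroup.le_normalizer (Subgroup.centralizer_le_normalizer _))))
  haveI := hPn
  haveI := Sylow.unique_of_normal P hPn
  -- every element of order prime to `p` centralises `P`
  have hcomm : ∀ x y : G, (∃ a : ℕ, orderOf x = p ^ a) →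
      (∃ q b : ℕ, q.Prime ∧ q ≠ p ∧ orderOf y = q ^ b) → x * y = y * x := by
    rintro x y ⟨a, ha⟩ ⟨q, b, hq, hqp, hyo⟩
    obtain ⟨S, hS⟩ := (IsPGroup.iff_card.mpr ⟨a, by rw [Nat.card_zpowers, ha]⟩ :
      IsPGroup p ↥(Subgroup.zpowers x)).exists_le_sylow
    have hxP : x ∈ (P : Subgroup G) := Subsingleton.elim S P ▸ hS (Subgroup.mem_zpowers x)
    obtain ⟨u, hu, c, hc, rfl⟩ : y ∈ ((P : Subgroup G) : Set G) * (C : Set G) := by
      rw [← Subgroup.normal_mul, htop]; exact Set.mem_univ y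
    have hcu : Commute c u := (Subgroup.mem_centralizer_iff.mp hc u hu).symm
    -- the `p`-part `u` is annihilated by raising to a power prime to `p`
    obtain ⟨e, he⟩ := IsPGroup.iff_orderOf.mp P.isPGroup' ⟨u, hu⟩
    rw [Subgroup.orderOf_mk] at he
    obtain ⟨j, hj⟩ := exists_pow_eq_self_of_coprime (x := u * c) (n := p ^ e) (by
      rw [hyo]; exact ((Nat.coprime_primes Fact.out hq).mpr hqp.symm).pow e b)
    have hyC : u * c ∈ C := by
      rw [← hj, hcu.symm.mul_pow, ← he, pow_orderOf_eq_one, one_mul]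
      exact pow_mem (pow_mem hc _) _
    exact Subgroup.mem_centralizer_iff.mp hyC x hxP
  obtain ⟨P', K, -, hKn, hinf, hsup⟩ := (Cfsg.Agent.S3986.result p).mpr hcomm
  obtain rfl : P' = P := Subsingleton.elim _ _
  refine ⟨hPn, K, hKn, ?_, hinf, hsup⟩
  have hKc : Nat.card K = (P' : Subgroup G).index :=
    ((Subgroup.isComplement'_of_disjoint_and_mul_eq_univ (disjoint_iff.mpr hinf) (by
      rw [← Subgroup.normal_mul, hsup, Subgroup.coe_top])).symm.index_eq_card).symm
  exact hKc ▸ P'.not_dvd_index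

end Cfsg.Agent.S4035
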