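import Cfsg.Statements.S4134
import Mathlib
import Cfsg.Agent.Lib.PGroup.Partition
import Cfsg.Agent.Lib.PGroup.CountPElements

set_option autoImplicit false
open Cfsg

namespace Cfsg.Agent.S4134

open Subgroup
open CfsgLib.PGroup

section
variable {G : Type*} [Group G]

/-- The centralizer of an element. -/
abbrev C (x : G) : Subgroup G := centralizer ({x} : Set G)

/-- The center of the centralizer of an element. -/
abbrev U (x : G) : Subgroup G := centralizer ((C x : Subgroup G) : Set G)

theorem mem_C {x y : G} : y ∈ C x ↔ x * y = y * x :=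
  mem_centralizer_iff.trans ⟨fun h => h x rfl, fun h u hu => by rw [Set.mem_singleton_iff.mp hu]; exact h⟩

theorem C_le_of_mem_U {x w : G} (h : w ∈ U x) : C x ≤ C w := fun c hc => mem_C.mpr (h c hc).symm

theorem self_mem_U (x : G) : x ∈ U x := fun c hc => (mem_C.mp hc).symm

theorem center_le_U (x : G) : center G ≤ U x := center_le_centralizer _

theorem U_le_C (x : G) : U x ≤ C x := fun _ hu =>
  mem_C.mpr (hu x (mem_C.mpr rfl))

theorem U_comm (x : G) : ∀ a ∈ U x, ∀ b ∈ U x, a * b = b * a := fun _ ha _ hb =>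
  (ha _ (U_le_C x hb)).symm

theorem mem_center_iff_C {x : G} : x ∈ center G ↔ C x = ⊤ :=
  ⟨fun h => centralizer_eq_top_iff_subset.mpr (Set.singleton_subset_iff.mpr h),
    fun h => centralizer_eq_top_iff_subset.mp h (Set.mem_singleton x)⟩

theorem C_congr {x y : G} (h : QuotientGroup.mk' (center G) x = QuotientGroup.mk' (center G) y) :
    C x = C y := by
  obtain ⟨z, hz, rfl⟩ := (QuotientGroup.mk'_eq_mk' (center G)).mp h
  ext c
  rw [mem_C, mem_C]
  constructor
  · intro hc
    rw [mul_assoc, ← mem_center_iff.mp hz c, ← mul_assoc, hc, mul_assoc]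
  · intro hc
    rw [mul_assoc, ← mem_center_iff.mp hz c, ← mul_assoc, ← mul_assoc] at hc
    exact mul_right_cancel hc

/-- The components of the partition of `G ⧸ center G`. -/
noncomputable def comp (q : G ⧸ center G) : Subgroup (G ⧸ center G) :=
  (U (Quotient.out q)).map (QuotientGroup.mk' (center G))

theorem comp_mk' (x : G) :
    comp (QuotientGroup.mk' (center G) x) = (U x).map (QuotientGroup.mk' (center G)) := by
  unfold comp U
  rw [C_congr (x := Quotient.out (QuotientGroup.mk' (center G) x)) (y := x)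
    (QuotientGroup.out_eq' _)]

theorem mem_map_U {x w : G} :
    QuotientGroup.mk' (center G) w ∈ (U x).map (QuotientGroup.mk' (center G)) ↔ w ∈ U x := by
  rw [← mem_comap, comap_map_eq, QuotientGroup.ker_mk', sup_eq_left.mpr (center_le_U x)]

variable [Finite G]

theorem C_eq (hsz : ∀ x w : G, x ∉ center G → w ∉ center G → Nat.card (C x) = Nat.card (C w))
    {x w : G} (hx : x ∉ center G) (hw : w ∉ center G) (h : C x ≤ C w) : C x = C w :=
  eq_of_le_of_card_ge h (hsz x w hx hw).ge

theorem isComp (hsz : ∀ x w : G, x ∉ center G → w ∉ center G → Nat.card (C x) = Nat.card (C w)) :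
    Partition.IsComp (comp (G := G)) := by
  constructor
  · intro q _
    obtain ⟨x, rfl⟩ := QuotientGroup.mk'_surjective (center G) q
    rw [comp_mk', mem_map_U]
    exact self_mem_U x
  · intro q r hq hr hr1
    obtain ⟨x, rfl⟩ := QuotientGroup.mk'_surjective (center G) q
    obtain ⟨w, rfl⟩ := QuotientGroup.mk'_surjective (center G) r
    rw [comp_mk', mem_map_U] at hr
    rw [comp_mk', comp_mk']
    unfold U
    rw [C_eq hsz (fun h => hq ((QuotientGroup.eq_one_iff x).mpr h))
      (fun h => hr1 ((QuotientGroup.eq_one_iff w).mpr h)) (C_le_of_mem_U hr)]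

theorem commute_part {p : ℕ} [Fact p.Prime] {u v c : G} (huv : Commute u v)
    (hu : ∃ k, orderOf u = p ^ k) (hv : ¬ p ∣ orderOf v) (hc : Commute c (u * v)) :
    Commute c u := by
  have hu' : ∃ k, orderOf (c * u * c⁻¹) = p ^ k := by
    obtain ⟨k, hk⟩ := hu
    exact ⟨k, ((MulAut.conj c).orderOf_eq u).trans hk⟩
  have hv' : ¬ p ∣ orderOf (c * v * c⁻¹) := by
    rwa [show orderOf (c * v * c⁻¹) = orderOf v from (MulAut.conj c).orderOf_eq v]
  have := CountPElements.decomp_left_unique (x := u) (y := v) (x' := c * u * c⁻¹)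
    (y' := c * v * c⁻¹) huv (huv.map (MulAut.conj c)) hu hu' hv hv'
    (by calc u * v = c * (u * v) * c⁻¹ := by rw [hc.eq, mul_inv_cancel_right]
          _ = _ := by group)
  exact (mul_inv_eq_iff_eq_mul.mp this.symm)

theorem exists_part {p : ℕ} [Fact p.Prime] {w : G}
    (hw : ¬ orderOf (QuotientGroup.mk' (center G) w) ∣ 1)
    (hp : p ∣ orderOf (QuotientGroup.mk' (center G) w)) :
    ∃ u v : G, u * v = w ∧ Commute u v ∧ (∃ k, orderOf u = p ^ k) ∧ ¬ p ∣ orderOf v ∧ u ∉ center G := by
  obtain ⟨u, v, huv, hcm, hu, hv⟩ := CountPElements.exists_decomp (p := p) w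
  refine ⟨u, v, huv, hcm, hu, hv, fun hc => hv ?_⟩
  rw [← huv, map_mul, QuotientGroup.mk'_apply, (QuotientGroup.eq_one_iff u).mpr hc, one_mul] at hp
  exact hp.trans (orderOf_map_dvd (QuotientGroup.mk' (center G)) v)

theorem pair_eq (hsz : ∀ x w : G, x ∉ center G → w ∉ center G → Nat.card (C x) = Nat.card (C w))
    {p : ℕ} [Fact p.Prime] {u v : G} (hu : ∃ k, orderOf u = p ^ k) (hv : ¬ p ∣ orderOf v)
    (huv : Commute u v) (hu1 : u ∉ center G) (hv1 : v ∉ center G) : C u = C v := by
  have hle1 : C (u * v) ≤ C u := fun c hc => mem_C.mpr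
    (commute_part huv hu hv (show Commute c (u * v) from (mem_C.mp hc).symm)).symm
  have hle2 : C (u * v) ≤ C v := fun c hc => mem_C.mpr (by
    have h1 : u * v * c = c * (u * v) := mem_C.mp hc
    have h2 : u * c = c * u := mem_C.mp (hle1 hc)
    rw [← mul_assoc, ← h2, mul_assoc, mul_assoc] at h1
    exact mul_left_cancel h1)
  have hne : u * v ∉ center G := fun hc => hu1 (mem_center_iff_C.mpr (top_le_iff.mp
    ((mem_center_iff_C.mp hc).ge.trans hle1)))
  rw [← C_eq hsz hne hu1 hle1, ← C_eq hsz hne hv1 hle2]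

theorem exists_isPGroup_quotient
    (hsz : ∀ x w : G, x ∉ center G → w ∉ center G → Nat.card (C x) = Nat.card (C w))
    (x0 : G) (hx0 : x0 ∉ center G) : ∃ p, p.Prime ∧ IsPGroup p (G ⧸ center G) := by
  classical
  by_cases hA : ∃ (p : ℕ) (x : G), p.Prime ∧ x ∉ center G ∧
      ∀ v ∈ C x, ¬ p ∣ orderOf v → v ∈ center G
  · obtain ⟨p, x, hp, hx, hv⟩ := hA
    have := Fact.mk hp
    refine ⟨p, hp, Partition.isPGroup_of_orderOf fun q hq hqp hqd => ?_⟩
    have := Fact.mk hq
    obtain ⟨wb, hwb⟩ := exists_prime_orderOf_dvd_card' (G := G ⧸ center G) q hqd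
    obtain ⟨w, rfl⟩ := QuotientGroup.mk'_surjective (center G) wb
    obtain ⟨u, -, -, -, ⟨k, hk⟩, -, hu1⟩ := exists_part (p := q) (w := w)
      (by rw [hwb, Nat.dvd_one]; exact hq.ne_one) (by rw [hwb])
    -- the `q`-part of the centralizer of `x` is central
    let S : Sylow q (C x) := default
    have hS : (S : Subgroup (C x)).map (C x).subtype ≤ center G := by
      rintro _ ⟨s, hs, rfl⟩
      refine hv s s.2 fun hd => ?_
      obtain ⟨j, hj⟩ := S.isPGroup' ⟨s, hs⟩
      have hj' : (s : G) ^ q ^ j = 1 := congrArg (fun t : (S : Subgroup (C x)) => ((t : C x) : G)) hj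
      exact hqp ((Nat.prime_dvd_prime_iff_eq hp hq).mp (hp.dvd_of_dvd_pow
        (hd.trans (orderOf_dvd_of_pow_eq_one hj')))).symm
    have hSd : q ^ (Nat.card (C x)).factorization q ∣ Nat.card (center G) := by
      rw [← S.card_eq_multiplicity, ← Nat.card_congr
        ((S : Subgroup (C x)).equivMapOfInjective (C x).subtype (C x).subtype_injective).toEquiv.symm]
      exact card_dvd_of_le hS
    have hbig : q * Nat.card (center G) ∣ Nat.card (C u) := by
      have hle : center G ≤ C u := center_le_centralizer _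
      rw [← card_mul_index ((center G).subgroupOf (C u)),
        Nat.card_congr (subgroupOfEquivOfLe hle).toEquiv, mul_comm]
      refine mul_dvd_mul_left _ ?_
      show q ∣ (center G).relIndex (C u)
      have hmem : QuotientGroup.mk' (center G) u ∈ (C u).map (QuotientGroup.mk' (center G)) :=
        ⟨u, mem_C.mpr rfl, rfl⟩
      have e : (center G).relIndex (C u) = Nat.card ((C u).map (QuotientGroup.mk' (center G))) := by
        rw [← relIndex_ker, QuotientGroup.ker_mk']
      rw [e]
      refine dvd_trans ?_ (Subgroup.orderOf_dvd_natCard _ hmem)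
      obtain ⟨i, -, hi⟩ := (Nat.dvd_prime_pow hq).mp
        (hk ▸ orderOf_map_dvd (QuotientGroup.mk' (center G)) u)
      rw [hi]
      refine dvd_pow_self q fun h0 => hu1 ?_
      rw [h0, pow_zero, orderOf_eq_one_iff] at hi
      exact (QuotientGroup.eq_one_iff u).mp hi
    rw [hsz u x hu1 hx] at hbig
    have h2 : q ^ ((Nat.card (C x)).factorization q + 1) ∣ Nat.card (C x) :=
      dvd_trans (by rw [pow_succ']; exact mul_dvd_mul_left q hSd) hbig
    exact Nat.pow_succ_factorization_not_dvd Nat.card_pos.ne' hq h2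
  push Not at hA
  have hab : ∀ y : G, y ∉ center G → C y ≤ U y := by
    intro y hy
    have hy1 : QuotientGroup.mk' (center G) y ≠ 1 := fun e => hy ((QuotientGroup.eq_one_iff y).mp e)
    obtain ⟨p, hp, hpd⟩ := Nat.exists_prime_and_dvd (n := orderOf (QuotientGroup.mk' (center G) y))
      (fun e => hy1 (orderOf_eq_one_iff.mp e))
    have := Fact.mk hp
    obtain ⟨x, v, hxv, hcm, hx, hv, hx1⟩ := exists_part (p := p) (w := y)
      (by rw [Nat.dvd_one]; exact fun e => hy1 (orderOf_eq_one_iff.mp e)) hpd
    have hyx : C y ≤ C x := fun c hc => mem_C.mpr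
      (commute_part hcm hx hv (show Commute c (x * v) from hxv.symm ▸ (mem_C.mp hc).symm)).symm
    have he := C_eq hsz hy hx1 hyx
    obtain ⟨w, hwC, hwp, hw1⟩ := hA p x hp hx1
    have hxw := pair_eq hsz hx hwp (mem_C.mp hwC) hx1 hw1
    unfold U
    rw [he]
    intro a ha c hc
    obtain ⟨a1, a2, haa, hcm', ha1, ha2⟩ := CountPElements.exists_decomp (p := p) a
    have hax : Commute x a := mem_C.mp ha
    have hx1' : Commute x a1 := commute_part hcm' ha1 ha2 (haa.symm ▸ hax)
    have hx2' : Commute x a2 := by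
      have h1 : x * (a1 * a2) = a1 * a2 * x := haa.symm ▸ hax
      rw [← mul_assoc, hx1'.eq, mul_assoc, mul_assoc] at h1
      exact mul_left_cancel h1
    have k2 : Commute c a2 := by
      by_cases h : a2 ∈ center G
      · exact mem_center_iff.mp h c
      · have := pair_eq hsz hx ha2 hx2' hx1 h
        exact (mem_C.mp (this ▸ hc)).symm
    have k1 : Commute c a1 := by
      by_cases h : a1 ∈ center G
      · exact mem_center_iff.mp h c
      · have hwa : Commute a1 w :=
          (mem_C.mp (show a1 ∈ C w from hxw ▸ mem_C.mpr hx1')).symm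
        have := pair_eq hsz ha1 hwp hwa h hw1
        exact (mem_C.mp (show c ∈ C a1 from by rw [this, ← hxw]; exact hc)).symm
    rw [← haa]; exact k1.mul_right k2
  refine Partition.isPGroup_of_equal (isComp hsz) (fun q _ a ha b hb => ?_)
    (Nat.card ((C x0).map (QuotientGroup.mk' (center G)))) (fun q hq => ?_) (fun q hq htop => ?_)
  · obtain ⟨a', ha', rfl⟩ := ha
    obtain ⟨b', hb', rfl⟩ := hb
    exact (show Commute a' b' from U_comm _ a' ha' b' hb').map _
  · obtain ⟨x, rfl⟩ := QuotientGroup.mk'_surjective (center G) q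
    have hx : x ∉ center G := fun h => hq ((QuotientGroup.eq_one_iff x).mpr h)
    rw [comp_mk', le_antisymm (U_le_C x) (hab x hx)]
    have e : ∀ y : G, Nat.card (center G) * Nat.card ((C y).map (QuotientGroup.mk' (center G))) =
        Nat.card (C y) := fun y => by
      rw [← relIndex_ker, QuotientGroup.ker_mk', relIndex,
        ← Nat.card_congr (subgroupOfEquivOfLe (center_le_centralizer ({y} : Set G))).toEquiv,
        card_mul_index]
    exact Nat.eq_of_mul_eq_mul_left Nat.card_pos ((e x).trans ((hsz x x0 hx hx0).trans (e x0).symm))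
  · obtain ⟨x, rfl⟩ := QuotientGroup.mk'_surjective (center G) q
    have hx : x ∉ center G := fun h => hq ((QuotientGroup.eq_one_iff x).mpr h)
    refine hx (mem_center_iff_C.mpr (top_le_iff.mp (le_trans ?_ (U_le_C x))))
    intro g _
    rw [← mem_map_U, ← comp_mk', htop]
    exact mem_top _

end

/-- Let G be a finite group whose conjugacy classes have exactly two sizes, 1 and n > 1. Then n is a power of a prime p and G is the direct product of a p-group and an abelian group of order prime to p: its Sylow p-subgroup P is normal with an abelian normal complement centralizing it; moreover P has an abelian normal subgroup A with P/A of exponent dividing p. -/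
theorem result {G : Type*} [Group G] [Finite G] (n : ℕ) (hn : 1 < n)
    (h : ∀ x : G, (Subgroup.centralizer ({x} : Set G)).index = 1 ∨ (Subgroup.centralizer ({x} : Set G)).index = n) (hex : ∃ x : G, (Subgroup.centralizer ({x} : Set G)).index = n) :
    ∃ (p : ℕ) (_ : Fact p.Prime) (a : ℕ), n = p ^ a ∧ ∀ P : Sylow p G, (P : Subgroup G).Normal ∧
      (∃ N : Subgroup G, N.Normal ∧ N.IsComplement' (P : Subgroup G) ∧ IsMulCommutative N ∧
        ∀ x ∈ N, ∀ y ∈ (P : Subgroup G), x * y = y * x) ∧
      ∃ A : Subgroup (P : Subgroup G), A.Normal ∧ IsMulCommutative A ∧ ∀ y : (P : Subgroup G), y ^ p ∈ A := by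
  obtain ⟨x0, hx0'⟩ := hex
  have hx0 : x0 ∉ center G := fun hc => hn.ne' (by
    rw [← hx0', (centralizer_eq_top_iff_subset.mpr (Set.singleton_subset_iff.mpr hc)), index_top])
  have hsz : ∀ x w : G, x ∉ center G → w ∉ center G → Nat.card (C x) = Nat.card (C w) := by
    have key : ∀ x : G, x ∉ center G → (C x).index = n := fun x hx => (h x).resolve_left fun e =>
      hx (centralizer_eq_top_iff_subset.mp (index_eq_one.mp e) (Set.mem_singleton x))
    intro x w hx hw
    have h1 := (C x).card_mul_index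
    rw [← (C w).card_mul_index, key x hx, key w hw] at h1
    exact Nat.eq_of_mul_eq_mul_right (by omega) h1
  obtain ⟨p, hp, hQ⟩ := exists_isPGroup_quotient hsz x0 hx0
  have hfp := Fact.mk hp
  obtain ⟨t, ht⟩ := hQ.exists_card_eq
  obtain ⟨a, -, ha⟩ := (Nat.dvd_prime_pow hp).mp (show n ∣ p ^ t by
    rw [← ht, ← hx0']
    exact index_dvd_of_le (center_le_centralizer _))
  refine ⟨p, hfp, a, ha, fun P => ?_⟩
  have hnil : Group.IsNilpotent G := by
    have := hQ.isNilpotent
    exact Subgroup.isNilpotent_of_ker_le_center (QuotientGroup.mk' (center G))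
      (le_of_eq (QuotientGroup.ker_mk' _))
  have hPn : (P : Subgroup G).Normal :=
    ((Group.isNilpotent_of_finite_tfae (G := G)).out 0 3 rfl rfl).mp hnil p hfp P
  refine ⟨hPn, ?_, ?_⟩
  · obtain ⟨N, hN⟩ := exists_right_complement'_of_coprime (N := (P : Subgroup G)) P.card_coprime_index
    have hNZ : N ≤ center G := by
      intro v hv
      rw [← QuotientGroup.eq_one_iff, ← orderOf_eq_one_iff]
      have h1 : orderOf (v : G ⧸ center G) ∣ p ^ t :=
        ht ▸ _root_.orderOf_dvd_natCard _
      have h2 : orderOf (v : G ⧸ center G) ∣ (P : Subgroup G).index :=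
        (orderOf_map_dvd (QuotientGroup.mk' _) v).trans
          ((Subgroup.orderOf_dvd_natCard N hv).trans (dvd_of_eq hN.symm.index_eq_card.symm))
      exact Nat.eq_one_of_dvd_coprimes
        (Nat.Coprime.pow_left t (hp.coprime_iff_not_dvd.mpr P.not_dvd_index)) h1 h2
    refine ⟨N, ⟨fun v hv g => ?_⟩, hN.symm, ⟨⟨fun u v => Subtype.ext ?_⟩⟩, fun v hv y _ => ?_⟩
    · rw [mem_center_iff.mp (hNZ hv) g, mul_inv_cancel_right]; exact hv
    · exact (mem_center_iff.mp (hNZ v.2) u)
    · exact (mem_center_iff.mp (hNZ hv) y).symm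
  · by_cases hexp : ∀ q : G ⧸ center G, q ^ p = 1
    · refine ⟨(center G).subgroupOf P, Normal.subgroupOf inferInstance _,
        ⟨⟨fun u v => Subtype.ext (Subtype.ext ?_)⟩⟩, fun y => ?_⟩
      · exact mem_center_iff.mp v.2 _
      · rw [mem_subgroupOf, ← QuotientGroup.eq_one_iff, Subgroup.coe_pow, QuotientGroup.mk_pow]
        exact hexp _
    push Not at hexp
    obtain ⟨q, hq⟩ := hexp
    have hc := isComp hsz
    haveI : Nontrivial (G ⧸ center G) := ⟨⟨q, 1, fun e => hq (by rw [e, one_pow])⟩⟩
    haveI := hQ.center_nontrivial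
    obtain ⟨z', hz'⟩ := exists_prime_orderOf_dvd_card' (G := center (G ⧸ center G)) p
      ((hQ.to_subgroup _).card_eq_or_dvd.resolve_left
        (Finite.one_lt_card (α := center (G ⧸ center G))).ne')
    set z : G ⧸ center G := (z' : G ⧸ center G)
    have hzo : orderOf z = p := by rw [Subgroup.orderOf_coe, hz']
    have hz1 : z ≠ 1 := fun e => hp.ne_one (by rw [← hzo, e, orderOf_one])
    have hbig : ∀ r : G ⧸ center G, r ^ p ≠ 1 → r ∈ comp z := by
      intro r hr
      by_contra hn'
      have hr1 : r ≠ 1 := fun e => hr (by rw [e, one_pow])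
      have h1 := (hc.prime_orderOf hz1 hr1 hn' (mem_center_iff.mp z'.2 r).symm).2
      exact hr (by rw [← hzo, ← h1]; exact pow_orderOf_eq_one r)
    obtain ⟨w, hw⟩ := QuotientGroup.mk'_surjective (center G) z
    have hwZ : w ∉ center G := fun hh => hz1 (by
      rw [← hw, QuotientGroup.mk'_apply, (QuotientGroup.eq_one_iff w).mpr hh])
    have hUn : (U w).Normal := by
      refine ⟨fun u hu g => ?_⟩
      have e : C (g * w * g⁻¹) = C w := C_congr (by
        show QuotientGroup.mk' _ (g * w * g⁻¹) = QuotientGroup.mk' _ w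
        rw [map_mul, map_mul, map_inv, hw, mem_center_iff.mp z'.2, mul_inv_cancel_right])
      intro c hc'
      have hc'' : c ∈ C (g * w * g⁻¹) := e ▸ hc'
      rw [mem_C] at hc''
      have h2 : g⁻¹ * c * g ∈ C w := by
        rw [mem_C]
        calc w * (g⁻¹ * c * g) = g⁻¹ * ((g * w * g⁻¹) * c) * g := by group
          _ = g⁻¹ * (c * (g * w * g⁻¹)) * g := by rw [hc'']
          _ = g⁻¹ * c * g * w := by group
      have h3 := hu _ h2
      calc c * (g * u * g⁻¹) = g * (g⁻¹ * c * g * u) * g⁻¹ := by group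
        _ = g * (u * (g⁻¹ * c * g)) * g⁻¹ := by rw [h3]
        _ = g * u * g⁻¹ * c := by group
    refine ⟨(U w).subgroupOf P, Normal.subgroupOf hUn _,
      ⟨⟨fun u v => Subtype.ext (Subtype.ext ?_)⟩⟩, fun y => ?_⟩
    · exact U_comm w _ u.2 _ v.2
    · rw [mem_subgroupOf]
      by_cases hy : ((y : G) : G ⧸ center G) ^ p = 1
      · refine center_le_U w ?_
        rw [← QuotientGroup.eq_one_iff, Subgroup.coe_pow, QuotientGroup.mk_pow]
        exact hy
      · have h1 := hbig _ hy
        rw [← hw, comp_mk', ← QuotientGroup.mk'_apply, mem_map_U] at h1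
        rw [Subgroup.coe_pow]
        exact pow_mem h1 p

end Cfsg.Agent.S4134
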