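import Cfsg.Statements.S2507
import Cfsg.Agent.Lib.KnownC.PSL2ClassSizes

set_option autoImplicit false
open Cfsg

namespace Cfsg.Agent.S2507

open CfsgLib.KnownC.PSL2Classes


/-- Let F be a finite field with q = 2^f ≥ 4 elements. The conjugacy class sizes of PSL(2,F) are exactly 1, q(q − 1), q² − 1 and q(q + 1). -/
theorem result {F : Type*} [Field F] [Fintype F]
    (h2 : 2 ∣ Fintype.card F) (h4 : 4 ≤ Fintype.card F) :
    Set.range (fun g : (Matrix.ProjectiveSpecialLinearGroup (Fin 2) F) => (Subgroup.centralizer ({g} : Set (Matrix.ProjectiveSpecialLinearGroup (Fin 2) F))).index) =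
      {1, Fintype.card F * (Fintype.card F - 1), Fintype.card F ^ 2 - 1, Fintype.card F * (Fintype.card F + 1)} := by
  classical
  obtain ⟨p, hp⟩ := CharP.exists F
  obtain ⟨n, hpr, hn⟩ := FiniteField.card F p
  haveI : Fact p.Prime := ⟨hpr⟩
  have hp2 : p = 2 := ((Nat.prime_dvd_prime_iff_eq Nat.prime_two hpr).1
    (Nat.prime_two.dvd_of_dvd_pow (hn ▸ h2))).symm
  have hd : CfsgLib.Classical.Dickson.dd F = 1 := by
    rcases CfsgLib.Classical.Dickson.dd_cases (F := F) with e | e <;> omega
  apply Set.Subset.antisymm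
  · rintro _ ⟨g, rfl⟩
    simp only [Set.mem_insert_iff, Set.mem_singleton_iff]
    rcases size_cases p h4 g _ rfl with h | h | ⟨_, -, h, -⟩ | ⟨_, -, h, -⟩ | h | h
    · exact Or.inl h
    · rw [hd, mul_one] at h; exact Or.inr (Or.inr (Or.inl h))
    · exact absurd hp2 h
    · exact absurd hp2 h
    · exact Or.inr (Or.inr (Or.inr h))
    · exact Or.inr (Or.inl h)
  · rintro x (rfl | rfl | rfl | rfl)
    · exact ⟨1, Subgroup.index_eq_one.2 ((Subgroup.eq_top_iff' _).2 fun x =>
        Subgroup.mem_centralizer_singleton_iff.2 (by rw [mul_one, one_mul]))⟩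
    · exact size_nonsplit p h4
    · obtain ⟨g, hg⟩ := size_unip (F := F) p h4
      rw [hd, mul_one] at hg
      exact ⟨g, hg⟩
    · exact size_split p h4 (by omega)

end Cfsg.Agent.S2507
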