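import Cfsg.Statements.S2508
import Cfsg.Agent.Lib.KnownC.PSL2ClassSizes

set_option autoImplicit false
open Cfsg

namespace Cfsg.Agent.S2508

open CfsgLib.KnownC.PSL2Classes


/-- Let F be a finite field with q elements, q odd and q ≥ 7. If q ≡ 1 (mod 4) the conjugacy class sizes of PSL(2,F) are exactly 1, (q² − 1)/2, q(q + 1)/2, q(q − 1) and q(q + 1); if q ≡ 3 (mod 4) they are exactly 1, (q² − 1)/2, q(q − 1)/2, q(q + 1) and q(q − 1). -/
theorem result {F : Type*} [Field F] [Fintype F]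
    (hodd : ¬ 2 ∣ Fintype.card F) (h7 : 7 ≤ Fintype.card F) :
    (Fintype.card F % 4 = 1 →
      Set.range (fun g : (Matrix.ProjectiveSpecialLinearGroup (Fin 2) F) => (Subgroup.centralizer ({g} : Set (Matrix.ProjectiveSpecialLinearGroup (Fin 2) F))).index) =
        {1, (Fintype.card F ^ 2 - 1) / 2, Fintype.card F * (Fintype.card F + 1) / 2,
          Fintype.card F * (Fintype.card F - 1), Fintype.card F * (Fintype.card F + 1)}) ∧
    (Fintype.card F % 4 = 3 →
      Set.range (fun g : (Matrix.ProjectiveSpecialLinearGroup (Fin 2) F) => (Subgroup.centralizer ({g} : Set (Matrix.ProjectiveSpecialLinearGroup (Fin 2) F))).index) =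
        {1, (Fintype.card F ^ 2 - 1) / 2, Fintype.card F * (Fintype.card F - 1) / 2,
          Fintype.card F * (Fintype.card F + 1), Fintype.card F * (Fintype.card F - 1)}) := by
  classical
  obtain ⟨p, hp⟩ := CharP.exists F
  obtain ⟨n, hpr, hn⟩ := FiniteField.card F p
  haveI : Fact p.Prime := ⟨hpr⟩
  have hp2 : p ≠ 2 := fun e => hodd (by rw [hn, e]; exact dvd_pow_self 2 n.ne_zero)
  have hd : CfsgLib.Classical.Dickson.dd F = 2 := by
    rcases CfsgLib.Classical.Dickson.dd_cases (F := F) with e | e <;> omega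
  have hev : 2 ∣ Fintype.card F * (Fintype.card F + 1) ∧ 2 ∣ Fintype.card F * (Fintype.card F - 1) :=
    ⟨(Nat.even_mul_succ_self _).two_dvd, (Nat.even_mul_pred_self _).two_dvd⟩
  have h1 : ∀ g : Matrix.ProjectiveSpecialLinearGroup (Fin 2) F, g = 1 →
      (Subgroup.centralizer ({g} : Set (Matrix.ProjectiveSpecialLinearGroup (Fin 2) F))).index = 1 := fun g hg =>
    Subgroup.index_eq_one.2 ((Subgroup.eq_top_iff' _).2 fun x =>
      Subgroup.mem_centralizer_singleton_iff.2 (by rw [hg, mul_one, one_mul]))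
  obtain ⟨gi, T, ⟨t, ht⟩, hi⟩ := size_involution (F := F) p (by omega) hp2 (by omega)
  rw [hd] at hi
  obtain ⟨gu, hu⟩ := size_unip (F := F) p (by omega)
  rw [hd] at hu
  obtain ⟨gs, hs⟩ := size_split (F := F) p (by omega) (by omega)
  obtain ⟨gn, hgn⟩ := size_nonsplit (F := F) p (by omega)
  constructor <;> intro h4 <;> apply Set.Subset.antisymm
  · rintro _ ⟨g, rfl⟩
    simp only [Set.mem_insert_iff, Set.mem_singleton_iff]
    rcases size_cases p (by omega) g _ rfl with h | h | ⟨U, ⟨u, hu'⟩, -, hU, h⟩ | ⟨U, ⟨u, hu'⟩, -, hU, h⟩ | h | h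
    · exact Or.inl h
    · rw [hd] at h; exact Or.inr (Or.inl (by omega))
    · exact Or.inr (Or.inr (Or.inl (by omega)))
    · rw [hd] at hU; omega
    · exact Or.inr (Or.inr (Or.inr (Or.inr h)))
    · exact Or.inr (Or.inr (Or.inr (Or.inl h)))
  · rintro x (rfl | rfl | rfl | rfl | rfl)
    · exact ⟨1, h1 1 rfl⟩
    · exact ⟨gu, by simp only; omega⟩
    · exact ⟨gi, by simp only; omega⟩
    · exact ⟨gn, hgn⟩
    · exact ⟨gs, hs⟩
  · rintro _ ⟨g, rfl⟩
    simp only [Set.mem_insert_iff, Set.mem_singleton_iff]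
    rcases size_cases p (by omega) g _ rfl with h | h | ⟨U, ⟨u, hu'⟩, -, hU, h⟩ | ⟨U, ⟨u, hu'⟩, -, hU, h⟩ | h | h
    · exact Or.inl h
    · rw [hd] at h; exact Or.inr (Or.inl (by omega))
    · rw [hd] at hU; omega
    · exact Or.inr (Or.inr (Or.inl (by omega)))
    · exact Or.inr (Or.inr (Or.inr (Or.inl h)))
    · exact Or.inr (Or.inr (Or.inr (Or.inr h)))
  · rintro x (rfl | rfl | rfl | rfl | rfl)
    · exact ⟨1, h1 1 rfl⟩
    · exact ⟨gu, by simp only; omega⟩
    · exact ⟨gi, by simp only; omega⟩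
    · exact ⟨gs, hs⟩
    · exact ⟨gn, hgn⟩

end Cfsg.Agent.S2508
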