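import Cfsg.Statements.S0250
import Cfsg.Agent.Lib.Classical.SLOrders
import Cfsg.Agent.Lib.Classical.SL2Sylow

set_option autoImplicit false
open Cfsg

namespace Cfsg.Agent.S0250

/-- SL_2(2) is isomorphic to S_3. -/
theorem result {F : Type*} [Field F] [Fintype F] (hF : Fintype.card F = 2) : Nonempty (Matrix.SpecialLinearGroup (Fin 2) F ≃* Equiv.Perm (Fin 3)) := by
  classical
  let P := Projectivization F (Fin 2 → F)
  haveI : Finite P := Quotient.finite _
  have hP : Nat.card P = 3 := by
    rw [Projectivization.card_of_finrank_two F (Fin 2 → F) (Module.finrank_fin_fun F), Nat.card_eq_fintype_card, hF]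
  have hcz : Nat.card (Subgroup.center (Matrix.SpecialLinearGroup (Fin 2) F)) = 1 := by
    rw [CfsgLib.Classical.card_center_sl 2 (by norm_num), hF]
    rfl
  have hsl : Nat.card (Matrix.SpecialLinearGroup (Fin 2) F) = 6 := CfsgLib.Classical.card_sl2 hF
  haveI : Fintype P := Fintype.ofFinite _
  let eP : P ≃ Fin 3 := (Finite.equivFinOfCardEq hP)
  let φ : Matrix.SpecialLinearGroup (Fin 2) F →* Equiv.Perm (Fin 3) :=
    (eP.permCongrHom.toMonoidHom.comp (MulAction.toPermHom (Matrix.ProjectiveSpecialLinearGroup (Fin 2) F) P)).comp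
      (QuotientGroup.mk' (Subgroup.center (Matrix.SpecialLinearGroup (Fin 2) F)))
  have hinj : Function.Injective φ := by
    simp only [φ, MonoidHom.coe_comp]
    refine (eP.permCongrHom.injective.comp MulAction.toPerm_injective).comp ?_
    intro a b hab
    have h := QuotientGroup.eq.1 hab
    rw [(Subgroup.eq_bot_of_card_eq _ hcz), Subgroup.mem_bot] at h
    exact inv_mul_eq_one.1 h
  refine ⟨MulEquiv.ofBijective φ ((Nat.bijective_iff_injective_and_card φ).2 ⟨hinj, ?_⟩)⟩
  rw [hsl, Nat.card_perm, Nat.card_fin]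
  rfl

end Cfsg.Agent.S0250
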