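import Cfsg.Statements.S0251
import Cfsg.Agent.Lib.Classical.SLOrders
import Cfsg.Agent.Lib.Classical.SL2Sylow

set_option autoImplicit false
open Cfsg

namespace Cfsg.Agent.S0251

/-- PSL_2(3) is isomorphic to A_4. -/
theorem result {F : Type*} [Field F] [Fintype F] (hF : Fintype.card F = 3) : Nonempty (Matrix.ProjectiveSpecialLinearGroup (Fin 2) F ≃* alternatingGroup (Fin 4)) := by
  classical
  let P := Projectivization F (Fin 2 → F)
  haveI : Finite P := Quotient.finite _
  have hP : Nat.card P = 4 := by
    rw [Projectivization.card_of_finrank_two F (Fin 2 → F) (Module.finrank_fin_fun F), Nat.card_eq_fintype_card, hF]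
  have hpsl : 2 * Nat.card (Matrix.ProjectiveSpecialLinearGroup (Fin 2) F) = 24 := by
    have h := CfsgLib.Classical.card_psl_mul hF 2 (by norm_num)
    rw [CfsgLib.Classical.card_sl2 hF] at h
    simpa using h
  haveI : Fintype P := Fintype.ofFinite _
  let eP : P ≃ Fin 4 := (Finite.equivFinOfCardEq hP)
  let φ : Matrix.ProjectiveSpecialLinearGroup (Fin 2) F →* Equiv.Perm (Fin 4) :=
    eP.permCongrHom.toMonoidHom.comp (MulAction.toPermHom (Matrix.ProjectiveSpecialLinearGroup (Fin 2) F) P)
  have hinj : Function.Injective φ := by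
    simp only [φ, MonoidHom.coe_comp]
    exact eP.permCongrHom.injective.comp MulAction.toPerm_injective
  have hidx : φ.range.index = 2 := by
    have h := φ.range.card_mul_index
    rw [← Nat.card_congr (MonoidHom.ofInjective hinj).toEquiv, Nat.card_perm, Nat.card_fin] at h
    have h24 : Nat.factorial 4 = 24 := rfl
    rw [h24] at h
    have h12 : Nat.card (Matrix.ProjectiveSpecialLinearGroup (Fin 2) F) = 12 := by omega
    rw [h12] at h
    omega
  exact ⟨(MonoidHom.ofInjective hinj).trans (MulEquiv.subgroupCongr (Equiv.Perm.eq_alternatingGroup_of_index_eq_two hidx))⟩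

end Cfsg.Agent.S0251
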