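import Cfsg.Statements.S0817
import Cfsg.Agent.S2607
import Cfsg.Agent.S2608
import Cfsg.Agent.Lib.KnownC.AutPOmega.MinusOut
import Cfsg.Agent.Lib.KnownC.AutPOmega.FieldPlusStd

set_option autoImplicit false
open Cfsg

namespace Cfsg.Agent.S0817

open CfsgLib.KnownC.AutPOmega MulAction in
/-- `Inn G ≅ G`, also for the forms with triality. -/
theorem card_inn0 {F : Type*} [Field F] [Fintype F] {ι : Type} [Fintype ι] [DecidableEq ι] {Qf : (ι → F) → F}
    (Q : QuadraticForm F (ι → F)) (hQf : ∀ v, Qf v = Q v) [hQ : OCtx0 Q] :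
    Nat.card (Cfsg.Inn (Cfsg.POmega F Qf)) = Nat.card (Cfsg.POmega F Qf) := by
  refine (Nat.card_congr (MonoidHom.ofInjective (f := MulAut.conj) ?_).toEquiv).symm
  intro a b h
  let e := pgEquiv Q hQf
  refine e.injective (mul_inv_eq_one.1 ?_)
  have hcen : ∀ z : PG Q, e (b⁻¹ * a) * z = z * e (b⁻¹ * a) := by
    intro z
    obtain ⟨w, rfl⟩ := e.surjective z
    rw [← map_mul, ← map_mul]
    congr 1
    have := MulEquiv.congr_fun h w
    simp only [MulAut.conj_apply] at this
    calc b⁻¹ * a * w = b⁻¹ * (a * w * a⁻¹) * a := by group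
      _ = b⁻¹ * (b * w * b⁻¹) * a := by rw [this]
      _ = w * (b⁻¹ * a) := by group
  have h1 : e (b⁻¹ * a) = 1 := by
    refine pg_ext fun P => ?_
    rw [one_smul]
    refine eq_of_rad_fix fun x hx => ?_
    rw [← mul_smul, ← hcen, mul_smul, mem_stabilizer_iff.1 (rad_le_stab P hx)]
  rw [map_mul, map_inv, inv_mul_eq_one] at h1
  rw [h1, mul_inv_cancel]

/-- |Aut(PΩ⁺_2m(q))| for q = p^f, m ≥ 4: |PΩ⁺_2m(q)| times f, times 3 when m = 4, times 2 if p = 2, and times 8 or 4 if p is odd according as m(q−1)/2 is even or odd. -/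
theorem result {F : Type*} [Field F] [Fintype F] (p f : ℕ) [Fact p.Prime] (hf : 1 ≤ f) (hF : Fintype.card F = p ^ f) (m : ℕ) (hm : 4 ≤ m) : Nat.card (MulAut (Cfsg.POmega F (Cfsg.quadFormPlus m F))) = (if m = 4 then 3 else 1) * (if p = 2 then 2 else (if Even (m * (p ^ f - 1) / 2) then 8 else 4)) * f * Nat.card (Cfsg.POmega F (Cfsg.quadFormPlus m F)) := by
  haveI := CfsgLib.KnownC.AutPOmega.octx0_plus (F := F) (m := m) hm
  rw [CfsgLib.KnownC.AutPOmega.card_out_mul,
    card_inn0 (CfsgLib.Orth.plusForm F m) (CfsgLib.Orth.plusForm_apply m)]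
  congr 1
  by_cases hp : p = 2
  · subst hp
    have h := Cfsg.Agent.S2607.result (F := F) hf hF hm
    by_cases h4 : m = 4
    · rw [if_pos h4] at h
      obtain ⟨e⟩ := h
      rw [Nat.card_congr e.toEquiv, Nat.card_prod, Nat.card_perm, Nat.card_congr Multiplicative.toAdd, Nat.card_zmod,
        if_pos h4, if_pos rfl, Nat.card_fin, show Nat.factorial 3 = 3 * 2 from rfl]
    · rw [if_neg h4] at h
      obtain ⟨e⟩ := h
      rw [Nat.card_congr e.toEquiv, Nat.card_congr Multiplicative.toAdd, Nat.card_prod, Nat.card_zmod, Nat.card_zmod,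
        if_neg h4, if_pos rfl, one_mul]
  · have h := Cfsg.Agent.S2608.result (F := F) hf hF hp hm
    obtain ⟨t, ht⟩ := ((Fact.out : p.Prime).odd_of_ne_two hp).pow (n := f)
    have hev : Even (m * (p ^ f - 1) / 2) ↔ ¬ (p ^ f % 4 = 3 ∧ Odd m) := by
      rw [ht, show m * (2 * t + 1 - 1) / 2 = m * t from by
        rw [show 2 * t + 1 - 1 = 2 * t from by omega, mul_left_comm, Nat.mul_div_cancel_left _ two_pos],
        Nat.even_mul, Nat.even_iff, Nat.even_iff, Nat.odd_iff]
      omega
    rw [if_neg hp]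
    by_cases h4 : m = 4
    · subst h4
      rw [if_pos rfl] at h
      obtain ⟨e⟩ := h
      rw [Nat.card_congr e.toEquiv, Nat.card_prod, Nat.card_perm, Nat.card_congr Multiplicative.toAdd, Nat.card_zmod,
        if_pos rfl, if_pos (hev.2 fun c => by simp [Nat.odd_iff] at c), Nat.card_fin,
        show Nat.factorial 4 = 3 * 8 from rfl]
    · rw [if_neg h4] at h
      rw [if_neg h4]
      by_cases hc : p ^ f % 4 = 3 ∧ Odd m
      · rw [if_pos hc] at h
        obtain ⟨e⟩ := h
        rw [Nat.card_congr e.toEquiv, Nat.card_congr Multiplicative.toAdd, Nat.card_prod, Nat.card_prod, Nat.card_zmod,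
          Nat.card_zmod, if_neg (fun h => hev.1 h hc)]
        ring
      · rw [if_neg hc] at h
        obtain ⟨e⟩ := h
        rw [Nat.card_congr e.toEquiv, Nat.card_prod, DihedralGroup.nat_card, Nat.card_congr Multiplicative.toAdd,
          Nat.card_zmod, if_pos (hev.2 hc), one_mul]

end Cfsg.Agent.S0817
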