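import Cfsg.Statements.S5515
import Cfsg.Agent.S2608
import Cfsg.Agent.S0817
import Cfsg.Agent.Lib.Components.GenFitting

set_option autoImplicit false
open Cfsg

namespace Cfsg.Agent.S5515

theorem order_three_perm : ∀ c : Equiv.Perm (Fin 4), c ^ 3 = 1 → c ≠ 1 →
    ∃ i, c i = i ∧ ∀ j, c j = j → j = i := by decide

/-- A subgroup of order six of the symmetric group on four letters is a point stabilizer. -/
theorem eq_stabilizer {H : Subgroup (Equiv.Perm (Fin 4))} (hH : Nat.card H = 6) :
    ∃ i : Fin 4, H = MulAction.stabilizer (Equiv.Perm (Fin 4)) i := by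
  haveI : Fact (Nat.Prime 3) := ⟨Nat.prime_three⟩
  obtain ⟨c, hc⟩ := exists_prime_orderOf_dvd_card' (G := H) 3 (by rw [hH]; norm_num)
  have hc3 : (c : Equiv.Perm (Fin 4)) ^ 3 = 1 := by
    rw [← SubgroupClass.coe_pow, ← hc, pow_orderOf_eq_one, Subgroup.coe_one]
  have hc1 : (c : Equiv.Perm (Fin 4)) ≠ 1 := fun h => by
    have : c = 1 := Subtype.ext h
    rw [this, orderOf_one] at hc
    norm_num at hc
  obtain ⟨i, hi, hu⟩ := order_three_perm _ hc3 hc1
  have hidx : (Subgroup.zpowers c).index = 2 := by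
    have := (Subgroup.zpowers c).index_mul_card
    rw [Nat.card_zpowers, hc, hH] at this
    omega
  haveI := Subgroup.normal_of_index_eq_two hidx
  refine ⟨i, Subgroup.eq_of_le_of_card_ge (fun h hh => ?_) ?_⟩
  · have hmem := Subgroup.Normal.conj_mem (H := Subgroup.zpowers c) inferInstance c
      (Subgroup.mem_zpowers c) ⟨h, hh⟩⁻¹
    obtain ⟨k, hk⟩ := Subgroup.mem_zpowers_iff.1 hmem
    have hk' : (c : Equiv.Perm (Fin 4)) ^ k = h⁻¹ * c * h := by
      have := congrArg Subtype.val hk
      simpa using this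
    have hfix : ((c : Equiv.Perm (Fin 4)) ^ k) i = i :=
      Equiv.Perm.zpow_apply_eq_self_of_apply_eq_self hi k
    rw [hk'] at hfix
    rw [MulAction.mem_stabilizer_iff, Equiv.Perm.smul_def]
    refine hu _ ?_
    have h2 := congrArg h hfix
    simpa using h2
  · rw [hH]
    have : ∀ j : Fin 4, Fintype.card (MulAction.stabilizer (Equiv.Perm (Fin 4)) j) = 6 := by decide
    rw [Nat.card_eq_fintype_card, this i]

theorem conjugate_of_card_six {H K : Subgroup (Equiv.Perm (Fin 4))} (hH : Nat.card H = 6)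
    (hK : Nat.card K = 6) : ∃ g, H.map (MulAut.conj g).toMonoidHom = K := by
  obtain ⟨i, rfl⟩ := eq_stabilizer hH
  obtain ⟨j, rfl⟩ := eq_stabilizer hK
  refine ⟨Equiv.swap i j, ?_⟩
  rw [← MulAction.stabilizer_smul_eq_stabilizer_map_conj, Equiv.Perm.smul_def, Equiv.swap_apply_left]

variable {L : Type} [Group L] [Finite L] {X : Type*} [Group X] [Finite X]

/-- A group with a self-centralizing normal copy of `L` as a group of automorphisms of `L`. -/
theorem embed (F : Subgroup X) [F.Normal] (hcen : Subgroup.centralizer (F : Set X) ≤ F)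
    (e : F ≃* L) (hinj : Function.Injective (MulAut.conj : L →* MulAut L)) :
    ∃ φ : X →* MulAut L, Function.Injective φ ∧ Cfsg.Inn L ≤ φ.range ∧
      Nat.card (φ.range.map (QuotientGroup.mk' (Cfsg.Inn L))) = Nat.card (X ⧸ F) := by
  let τ : MulAut F →* MulAut L := (MulAut.congr e).toMonoidHom
  let φ : X →* MulAut L := τ.comp (MulAut.conjNormal (H := F))
  have hφ : ∀ (x : X) (l : L), φ x l = e (MulAut.conjNormal x (e.symm l)) := fun x l => rfl
  have hin : ∀ f : F, φ f = MulAut.conj (e f) := fun f => MulEquiv.ext fun l => by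
    rw [hφ, MulAut.conj_apply]
    have : MulAut.conjNormal (f : X) (e.symm l) = f * e.symm l * f⁻¹ := Subtype.ext (by simp)
    rw [this, map_mul, map_mul, map_inv, e.apply_symm_apply]
  have hinjφ : Function.Injective φ := (injective_iff_map_eq_one φ).2 fun x hx => by
    have hxC : x ∈ Subgroup.centralizer (F : Set X) := Subgroup.mem_centralizer_iff.2 fun f hf => by
      have h := MulEquiv.congr_fun hx (e ⟨f, hf⟩)
      rw [hφ, MulAut.one_apply, e.symm_apply_apply] at h
      have h2 := congrArg Subtype.val (e.injective h)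
      rw [MulAut.conjNormal_apply] at h2
      exact (mul_inv_eq_iff_eq_mul.1 h2).symm
    have h := hin ⟨x, hcen hxC⟩
    rw [hx] at h
    have h1 : e ⟨x, hcen hxC⟩ = 1 := hinj (by rw [← h, map_one])
    exact congrArg Subtype.val (e.map_eq_one_iff.1 h1)
  have hInn : Cfsg.Inn L ≤ φ.range := by
    rintro _ ⟨l, rfl⟩
    exact ⟨e.symm l, by rw [hin, e.apply_symm_apply]⟩
  refine ⟨φ, hinjφ, hInn, ?_⟩
  set ψ := (QuotientGroup.mk' (Cfsg.Inn L)).comp φ with hψ
  have hker : ψ.ker = F := by
    ext x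
    rw [MonoidHom.mem_ker, hψ, MonoidHom.comp_apply, QuotientGroup.mk'_apply, QuotientGroup.eq_one_iff]
    constructor
    · rintro ⟨l, hl⟩
      have : φ x = φ (e.symm l : F) := by rw [hin, e.apply_symm_apply, hl]
      rw [hinjφ this]
      exact (e.symm l).2
    · exact fun hx => ⟨e ⟨x, hx⟩, (hin ⟨x, hx⟩).symm⟩
  rw [← MonoidHom.range_comp, ← hψ, ← Subgroup.index_ker, hker]
  rfl

theorem iso_of_out {X' : Type*} [Group X'] [Finite X'] (e4 : Cfsg.Out L ≃* Equiv.Perm (Fin 4))
    (F : Subgroup X) [F.Normal] (hcen : Subgroup.centralizer (F : Set X) ≤ F) (e : F ≃* L)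
    (F' : Subgroup X') [F'.Normal] (hcen' : Subgroup.centralizer (F' : Set X') ≤ F') (e' : F' ≃* L)
    (hinj : Function.Injective (MulAut.conj : L →* MulAut L))
    (h6 : Nat.card (X ⧸ F) = 6) (h6' : Nat.card (X' ⧸ F') = 6) : Nonempty (X ≃* X') := by
  obtain ⟨φ, hφ, hI, hc⟩ := embed F hcen e hinj
  obtain ⟨φ', hφ', hI', hc'⟩ := embed F' hcen' e' hinj
  set π := QuotientGroup.mk' (Cfsg.Inn L)
  have hcard : ∀ S : Subgroup (Cfsg.Out L), Nat.card (S.map e4.toMonoidHom) = Nat.card S :=
    fun S => (Nat.card_congr (e4.subgroupMap S).toEquiv).symm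
  obtain ⟨g, hg⟩ := conjugate_of_card_six (H := (φ.range.map π).map e4.toMonoidHom)
    (K := (φ'.range.map π).map e4.toMonoidHom) (by rw [hcard, hc, h6]) (by rw [hcard, hc', h6'])
  obtain ⟨a, ha⟩ := QuotientGroup.mk'_surjective (Cfsg.Inn L) (e4.symm g)
  have hπa : e4 (π a) = g := by rw [ha, e4.apply_symm_apply]
  have hcomp : (e4.toMonoidHom.comp π).comp (MulAut.conj a).toMonoidHom
      = (MulAut.conj g).toMonoidHom.comp (e4.toMonoidHom.comp π) := MonoidHom.ext fun x => by
    simp [hπa]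
  have hmap : (φ.range.map (MulAut.conj a).toMonoidHom).map π = φ'.range.map π := by
    apply Subgroup.map_injective (f := e4.toMonoidHom) e4.injective
    rw [Subgroup.map_map, Subgroup.map_map, hcomp, ← Subgroup.map_map, ← Subgroup.map_map, hg]
  have hle : Cfsg.Inn L ≤ φ.range.map (MulAut.conj a).toMonoidHom := by
    intro x hx
    exact ⟨a⁻¹ * x * a, hI (by simpa using (Cfsg.innNormal L).conj_mem x hx a⁻¹),
      by simp [mul_assoc]⟩
  have heq : φ.range.map (MulAut.conj a).toMonoidHom = φ'.range := by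
    have := congrArg (Subgroup.comap π) hmap
    rwa [Subgroup.comap_map_eq, Subgroup.comap_map_eq, QuotientGroup.ker_mk', sup_of_le_left hle,
      sup_of_le_left hI'] at this
  exact ⟨(MonoidHom.ofInjective hφ).trans (((MulAut.conj a).subgroupMap φ.range).trans
    ((MulEquiv.subgroupCongr heq).trans (MonoidHom.ofInjective hφ').symm))⟩

/-- Let G and G′ be finite groups whose generalized Fitting subgroups are isomorphic to PΩ⁺(8, 3) (the commutator subgroup of the isometry group of the hyperbolic quadratic form in dimension 8 over the field with three elements, modulo its centre) with quotients isomorphic to the symmetric group of degree 3. Then G and G′ are isomorphic. -/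
theorem result {G G' : Type*} [Group G] [Finite G] [Group G'] [Finite G'] (hF : Nonempty (↥(Cfsg.generalizedFittingSubgroup G) ≃* Cfsg.POmega (ZMod 3) (Cfsg.quadFormPlus 4 (ZMod 3)))) (hF' : Nonempty (↥(Cfsg.generalizedFittingSubgroup G') ≃* Cfsg.POmega (ZMod 3) (Cfsg.quadFormPlus 4 (ZMod 3)))) [hn : (Cfsg.generalizedFittingSubgroup G).Normal] [hn' : (Cfsg.generalizedFittingSubgroup G').Normal] (hq : Nonempty (G ⧸ Cfsg.generalizedFittingSubgroup G ≃* Equiv.Perm (Fin 3))) (hq' : Nonempty (G' ⧸ Cfsg.generalizedFittingSubgroup G' ≃* Equiv.Perm (Fin 3))) : Nonempty (G ≃* G') := by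
  obtain ⟨e⟩ := hF
  obtain ⟨e'⟩ := hF'
  obtain ⟨q⟩ := hq
  obtain ⟨q'⟩ := hq'
  haveI : Finite (Cfsg.POmega (ZMod 3) (Cfsg.quadFormPlus 4 (ZMod 3))) :=
    Finite.of_equiv _ e.toEquiv
  haveI : Fact (Nat.Prime 3) := ⟨Nat.prime_three⟩
  have h := Cfsg.Agent.S2608.result (F := ZMod 3) (p := 3) (f := 1) (m := 4) le_rfl
    (by rw [ZMod.card, pow_one]) (by norm_num) le_rfl
  rw [if_pos rfl] at h
  obtain ⟨eo⟩ := h
  haveI : Unique (Multiplicative (ZMod 1)) := uniqueOfSubsingleton 1
  have e4 := eo.trans (MulEquiv.prodUnique : Equiv.Perm (Fin 4) × Multiplicative (ZMod 1) ≃* _)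
  haveI := CfsgLib.KnownC.AutPOmega.octx0_plus (F := ZMod 3) (m := 4) le_rfl
  have hcard := Cfsg.Agent.S0817.card_inn0 (CfsgLib.Orth.plusForm (ZMod 3) 4)
    (CfsgLib.Orth.plusForm_apply (F := ZMod 3) 4)
  have hinj : Function.Injective
      (MulAut.conj : Cfsg.POmega (ZMod 3) (Cfsg.quadFormPlus 4 (ZMod 3)) →* _) := by
    have hb := (Nat.bijective_iff_surjective_and_card
      (MulAut.conj : Cfsg.POmega (ZMod 3) (Cfsg.quadFormPlus 4 (ZMod 3)) →* _).rangeRestrict).2
      ⟨MonoidHom.rangeRestrict_surjective _, hcard.symm⟩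
    exact fun x y hxy => hb.1 (Subtype.ext hxy)
  have h6 : Nat.card (Equiv.Perm (Fin 3)) = 6 := by rw [Nat.card_perm, Nat.card_fin]; rfl
  exact iso_of_out e4 _ CfsgLib.Components.centralizer_generalizedFitting_le e _
    CfsgLib.Components.centralizer_generalizedFitting_le e' hinj
    (by rw [Nat.card_congr q.toEquiv, h6]) (by rw [Nat.card_congr q'.toEquiv, h6])

end Cfsg.Agent.S5515
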