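import Cfsg.Statements.S6002
import Cfsg.Agent.Lib.Classical.Clifford4.SympModels
import Cfsg.Agent.Lib.Classical.Clifford4.CentreTwo

set_option autoImplicit false
open scoped MatrixGroups
open Cfsg

namespace Cfsg.Agent.S6002

open Matrix CfsgLib.Classical.Clifford4
open scoped commutatorElement

/-- The group has the shape needed to extract a frame. -/
theorem symFour {F : Type*} [Field F] (h2 : (2 : F) ≠ 0) (R : Subgroup (GL (Fin 2 ⊕ Fin 2) F))
    (hRs : Cfsg.Geo.IsSymplecticTypeGroup 2 R)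
    (hRi : Cfsg.Geo.ActsAbsolutelyIrreducibly (Cfsg.Geo.matrixSet R)) (hR5 : Nat.card R = 2 ^ 5)
    (hRZ : Nat.card (Subgroup.center R) = 2) : SymFour R := by
  haveI : Finite R := Nat.finite_of_card_ne_zero (by rw [hR5]; norm_num)
  have h4 : ∀ x : R, x ^ 4 = 1 := fun x => by
    have := Monoid.pow_exponent_eq_one x
    rwa [hRs.exponent_eq] at this
  exact
    { card := by simp
      two := h2
      scalar := hRi.2
      comm := by
        rintro _ ⟨x, hx, rfl⟩ _ ⟨y, hy, rfl⟩
        have hc := comm_mem_center_of_card hR5 hRZ h4 hRs.cyclic_of_characteristic (⟨y, hy⟩ : R) ⟨x, hx⟩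
        obtain ⟨s, hs⟩ := hRi.2 (((⁅(⟨y, hy⟩ : R), ⟨x, hx⟩⁆ : R) : GL (Fin 2 ⊕ Fin 2) F) :
            Matrix (Fin 2 ⊕ Fin 2) (Fin 2 ⊕ Fin 2) F) (by
          rintro _ ⟨z, hz, rfl⟩
          exact congrArg (fun w : R => ((w : GL (Fin 2 ⊕ Fin 2) F) : Matrix (Fin 2 ⊕ Fin 2) (Fin 2 ⊕ Fin 2) F))
            (Subgroup.mem_center_iff.mp hc ⟨z, hz⟩).symm)
        refine ⟨s, ?_⟩
        calc (y : Matrix (Fin 2 ⊕ Fin 2) (Fin 2 ⊕ Fin 2) F) * x
            = (((⁅(⟨y, hy⟩ : R), ⟨x, hx⟩⁆ : R) : GL (Fin 2 ⊕ Fin 2) F) :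
              Matrix (Fin 2 ⊕ Fin 2) (Fin 2 ⊕ Fin 2) F) *
              ((x : Matrix (Fin 2 ⊕ Fin 2) (Fin 2 ⊕ Fin 2) F) * y) := by
              simp [commutatorElement_def, mul_assoc]
          _ = s • ((x : Matrix (Fin 2 ⊕ Fin 2) (Fin 2 ⊕ Fin 2) F) * y) := by rw [hs, Matrix.smul_mul, one_mul]
      four := by
        rintro _ ⟨x, hx, rfl⟩
        have := congrArg (fun g : R => ((g : GL (Fin 2 ⊕ Fin 2) F) : Matrix (Fin 2 ⊕ Fin 2) (Fin 2 ⊕ Fin 2) F))
          (h4 ⟨x, hx⟩)
        simpa [pow_succ, mul_assoc] using this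
      big := by rw [hRZ, hR5]; norm_num }

/-- Elements of prime order of PSp_4(p), p odd, and the normalizer of an extraspecial 2-group of order 2⁵ of minus type. Here `T = PSp_4(F)` for the field `F` with `p` elements, `p` an odd prime, realised through the matrices preserving the standard alternating form `f`; `R` is an absolutely irreducible subgroup of `T` (it preserves `f`) that is a 2-group of symplectic type of exponent 4, order 2⁵ and centre of order 2, of minus type (no elementary abelian subgroup of order 2³), and `H` is the subgroup of `T` normalizing `R` — a subgroup of type 2^{1+4}.O₄⁻(2) (maximality is not assumed). Ω is the set of cosets of `H` in `T`, so an element of `T` of prime order `r` (`x ∈ T` with `x^r` scalar, `x` not scalar) fixes a point of Ω exactly when some `T`-conjugate of `x` normalizes `R`. Let `r` be a prime dividing the index of `H`. Then every element of `T` of order `r` fixes a point of Ω if and only if `r = 2`, or `r = 5` and `p` has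 multiplicative order 4 modulo 5. -/
theorem result {F : Type*} [Field F] [Fintype F] {p : ℕ} [Fact p.Prime] [CharP F p] (hF : Fintype.card F = p) (hodd : Odd p)
    (R : Subgroup (GL (Fin 2 ⊕ Fin 2) F)) (hRs : Cfsg.Geo.IsSymplecticTypeGroup 2 R) (hRi : Cfsg.Geo.ActsAbsolutelyIrreducibly (Cfsg.Geo.matrixSet R))
    (hRf : R ≤ Cfsg.spGL 2 F) (hR5 : Nat.card R = 2 ^ 5) (hRZ : Nat.card (Subgroup.center R) = 2) (hRm : Cfsg.Geo.IsOfMinusType 2 R)
    (r : ℕ) [Fact r.Prime]
    (hΩ : r ∣ (Cfsg.Geo.subgroupNormalizer R).relIndex (Cfsg.spGL 2 F)) :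
    (∀ x ∈ Cfsg.spGL 2 F, (∃ z : F, ((x ^ r : GL (Fin 2 ⊕ Fin 2) F) : Matrix (Fin 2 ⊕ Fin 2) (Fin 2 ⊕ Fin 2) F) = z • (1 : Matrix (Fin 2 ⊕ Fin 2) (Fin 2 ⊕ Fin 2) F)) →
      (∀ z : F, (x : Matrix (Fin 2 ⊕ Fin 2) (Fin 2 ⊕ Fin 2) F) ≠ z • (1 : Matrix (Fin 2 ⊕ Fin 2) (Fin 2 ⊕ Fin 2) F)) →
      ∃ g ∈ Cfsg.spGL 2 F, g⁻¹ * x * g ∈ Cfsg.Geo.subgroupNormalizer R) ↔ (r = 2 ∨ (r = 5 ∧ orderOf (p : ZMod 5) = 4)) := by
  classical
  have hp : p.Prime := Fact.out
  have hr : r.Prime := Fact.out
  have hp3 : 3 ≤ p := by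
    rcases hp.eq_two_or_odd with e | e
    · subst e; exact absurd hodd (by decide)
    · have := hp.two_le; omega
  have hnz : ∀ n : ℕ, 0 < n → n < p → (n : F) ≠ 0 := fun n h0 hlt e =>
    absurd (Nat.le_of_dvd h0 ((CharP.cast_eq_zero_iff F p n).mp e)) (by omega)
  have h2 : (2 : F) ≠ 0 := by exact_mod_cast hnz 2 two_pos (by omega)
  haveI : Finite R := inferInstance
  have hS := symFour h2 R hRs hRi hR5 hRZ
  obtain ⟨a, b, c, d, hf⟩ := hS.exists_std_of_minus hRm
  have hsc : ∀ s : F, s • (1 : Matrix I4 I4 F) ∈ Geo.matrixSet R → s * s = 1 := by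
    rintro s ⟨g, hg, e⟩
    exact scalar_sq_of_mem_sp e (hRf hg)
  constructor
  · intro hall
    have use : ∀ x : GL I4 F, x ∈ Cfsg.spGL 2 F → x ^ r = 1 →
        (∀ z : F, (x : Matrix I4 I4 F) ≠ z • 1) →
        ∃ g, g⁻¹ * x * g ∈ Geo.subgroupNormalizer R ∧ ((x ^ r : GL I4 F) : Matrix I4 I4 F) = (1 : F) • 1 :=
      fun x hx hxr hns => by
        have hz : ((x ^ r : GL I4 F) : Matrix I4 I4 F) = (1 : F) • 1 := by rw [hxr, one_smul]; rfl
        obtain ⟨g, -, hg⟩ := hall x hx ⟨1, hz⟩ hns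
        exact ⟨g, hg, hz⟩
    by_cases hr2 : r = 2
    · exact .inl hr2
    have hro : Odd r := hr.odd_of_ne_two hr2
    refine .inr ?_
    by_cases hr3 : r = 3
    · subst r
      exfalso
      by_cases hp' : p = 3
      · subst hp'
        obtain ⟨g, hg, hz⟩ := use _ spTransv_mem (spTransv_pow (p := 3)) spTransv_ne_scalar
        exact hf.no_transvection rfl (by simp) spTransv_ne_scalar hro hz hg
      · obtain ⟨g, hg, hz⟩ := use _ (spRot_mem (-1)) spRot_three (spRot_ne_scalar _)
        have e := hf.value_minus hsc (spRot_ne_scalar _) hz hg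
        rw [spRot_trace] at e
        exact hnz 3 three_pos (by omega) (by push_cast; linear_combination -e)
    by_cases hr5 : r = 5
    · subst r
      refine ⟨rfl, ?_⟩
      by_contra hord
      by_cases hp' : p = 5
      · subst hp'
        obtain ⟨g, hg, hz⟩ := use _ spTransv_mem (spTransv_pow (p := 5)) spTransv_ne_scalar
        exact hf.no_transvection rfl (by simp) spTransv_ne_scalar hro hz hg
      · have h14 := (five_cases hp hord).resolve_left hp'
        obtain ⟨s, hs, -⟩ := exists_golden_root (F := F) (p := p) (by omega) h14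
        obtain ⟨g, hg, hz⟩ := use _ (spRot_mem s) (spRot_five hs) (spRot_ne_scalar s)
        rcases hf.value (spRot_ne_scalar s) hro hz hg with ⟨e, -⟩ | ⟨-, e⟩
        · norm_num at e
        · rw [spRot_trace] at e
          refine rot_value hs (fun e5 => hp' ?_) e
          have : p ∣ 5 := (CharP.cast_eq_zero_iff F p 5).mp (by exact_mod_cast e5)
          exact (Nat.prime_dvd_prime_iff_eq hp (by norm_num)).mp this
    · exfalso
      obtain ⟨x, hxK, hxr⟩ := exists_orderOf_of_dvd_relIndex hΩ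
      have hns : ∀ z : F, (x : Matrix I4 I4 F) ≠ z • 1 := fun z e => by
        have hzz := scalar_sq_of_mem_sp e hxK
        have h1 : x ^ 2 = 1 := Units.ext (by rw [scalar_pow e, pow_two, hzz, one_smul, Units.val_one])
        have := orderOf_dvd_of_pow_eq_one h1
        rw [hxr] at this
        exact hr2 ((Nat.prime_dvd_prime_iff_eq hr Nat.prime_two).mp this)
      obtain ⟨g, hg, hz⟩ := use x hxK (by rw [← hxr]; exact pow_orderOf_eq_one x) hns
      rcases hf.value hns hro hz hg with ⟨e, -⟩ | ⟨e, -⟩ <;> omega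
  · intro hcases x hx ⟨z, hz⟩ hns
    have hzz : z * z = 1 := scalar_sq_of_mem_sp hz (Subgroup.pow_mem _ hx r)
    rw [Units.val_pow_eq_pow_val] at hz
    rcases hcases with rfl | ⟨rfl, hord⟩
    · rw [pow_two] at hz
      rcases mul_self_eq_one_iff.mp hzz with rfl | rfl
      · rw [one_smul] at hz
        obtain ⟨y, hy, hye⟩ := hf.ma
        have hsq : (y : Matrix I4 I4 F) * y = 1 := by
          show (y : Matrix I4 I4 F) * y = 1
          rw [show (y : Matrix I4 I4 F) = a from hye, hf.aa]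
        have hyns : ∀ s : F, (y : Matrix I4 I4 F) ≠ s • 1 := fun s e => by
          have e' : prodOf a b c d ((1, 0), 0, 0) = s • prodOf a b c d 0 := by
            rw [(prodOf_gens a b c d).1, hf.toFrame.prodOf_zero, ← e]; exact hye.symm
          exact absurd (hf.toFrame.label_eq e') (show (((1, 0), 0, 0) : Lab) ≠ 0 from fun e0 => absurd (congrArg (fun v : Lab => v.1.1) e0) one_ne_zero)
        obtain ⟨P, hP, hPe⟩ := sp_involution_normal h2 hx hns hz
        obtain ⟨Q, hQ, hQe⟩ := sp_involution_normal h2 (hRf hy) hyns hsq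
        obtain ⟨g, hg, hgx⟩ := sp_conj_of_frames hP hQ hPe hQe
        exact ⟨g, hg, hgx ▸ Subgroup.le_normalizer hy⟩
      · rw [neg_one_smul] at hz
        obtain ⟨y, hy, hye⟩ := hf.mc
        have hsq : (y : Matrix I4 I4 F) * y = -1 := by
          rw [show (y : Matrix I4 I4 F) = c from hye, hf.cc]
        obtain ⟨P, hP, hPe⟩ := sp_complex_normal h2 hx hz
        obtain ⟨Q, hQ, hQe⟩ := sp_complex_normal h2 (hRf hy) hsq
        obtain ⟨g, hg, hgx⟩ := sp_conj_of_frames hP hQ hPe hQe
        exact ⟨g, hg, hgx ▸ Subgroup.le_normalizer hy⟩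
    · haveI : Fact (Irreducible (Polynomial.cyclotomic 5 F)) :=
        ⟨quintic_irreducible (f := 1) (by rw [hF, pow_one]) (by rw [pow_one]; exact hord)⟩
      have h54 : p ^ 2 % 5 = 4 := by
        have hlt : p % 5 = 2 ∨ p % 5 = 3 := by
          have hne : ∀ v : ℕ, p % 5 = v → orderOf (v : ZMod 5) = 4 := fun v e => by
            rw [← e, ZMod.natCast_mod]; exact hord
          have h5 : p % 5 < 5 := Nat.mod_lt _ (by norm_num)
          have h0 : p % 5 ≠ 0 := fun e => by
            have := hne 0 e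
            rw [orderOf_eq_iff (by norm_num)] at this
            simp at this
          have h1 : p % 5 ≠ 1 := fun e => by
            have := hne 1 e
            rw [Nat.cast_one, orderOf_one] at this
            omega
          have h4 : p % 5 ≠ 4 := fun e => by
            have := hne 4 e
            have h2 := orderOf_dvd_of_pow_eq_one (show ((4 : ℕ) : ZMod 5) ^ 2 = 1 from rfl)
            rw [this] at h2
            norm_num at h2
          omega
        rcases hlt with e | e <;> simp [Nat.pow_mod, e]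
      -- a normalising isometry of order five
      obtain ⟨Y, hY, hYdef, hYns, w, hw⟩ := hf.exists_five
      have hu : triGL hf.two hf.ca_sq hf.cb_sq hf.cab ∈ Cfsg.spGL 2 F :=
        tri_mem_sp hRf (mem_mul hf.mc hf.ma) (mem_mul hf.mc hf.mb) _ _ _ _
      have hYsp : Y ∈ Cfsg.spGL 2 F :=
        hYdef ▸ Subgroup.pow_mem _ (Subgroup.mul_mem _ (tri_mem_sp hRf hf.mc hf.md _ _ _ _) hu) 6
      have hww : w * w = 1 := scalar_sq_of_mem_sp hw (Subgroup.pow_mem _ hYsp 5)
      let sc : ∀ s : F, s * s = 1 → GL I4 F := fun s hs =>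
        ⟨s • 1, s • 1, by rw [Matrix.smul_mul, one_mul, smul_smul, hs, one_smul],
          by rw [Matrix.smul_mul, one_mul, smul_smul, hs, one_smul]⟩
      have key : ∀ (g : GL I4 F) (s : F) (hs : s * s = 1),
          ((g ^ 5 : GL I4 F) : Matrix I4 I4 F) = s • 1 → (∀ v : F, (g : Matrix I4 I4 F) ≠ v • 1) →
          (sc s hs * g) ^ 5 = 1 ∧ sc s hs * g ≠ 1 := by
        intro g s hs hg hgn
        refine ⟨Units.ext ?_, fun e => hgn s ?_⟩
        · rw [Units.val_pow_eq_pow_val] at hg ⊢
          show (s • (1 : Matrix I4 I4 F) * g) ^ 5 = 1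
          rw [Matrix.smul_mul, one_mul, smul_pow, hg, smul_smul]
          rw [show s ^ 5 * s = (s * s) ^ 3 by ring, hs, one_pow, one_smul]
        · have e' := congrArg (fun u : GL I4 F => s • (u : Matrix I4 I4 F)) e
          change s • (s • (1 : Matrix I4 I4 F) * g) = s • 1 at e'
          rw [Matrix.smul_mul, one_mul, smul_smul, hs, one_smul] at e'
          exact e'
      have hscm : ∀ (s : F) (hs : s * s = 1), sc s hs ∈ Cfsg.spGL 2 F := fun s hs => scalar_mem_sp rfl hs
      obtain ⟨hx5, hx1⟩ := key x z hzz (by rw [Units.val_pow_eq_pow_val]; exact hz) hns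
      obtain ⟨hy5, hy1⟩ := key Y w hww hw hYns
      obtain ⟨g, hg, hgx⟩ := sp_conj_five hF h54 (Subgroup.mul_mem _ (hscm z hzz) hx)
        (Subgroup.mul_mem _ (hscm w hww) hYsp) hx5 hx1 hy5 hy1
      refine ⟨g, hg, ?_⟩
      have hsN : ∀ (s : F) (hs : s * s = 1), sc s hs ∈ Geo.subgroupNormalizer R :=
        fun s hs => hf.scalar_mem_normalizer rfl
      have hmem : g⁻¹ * (sc z hzz * x) * g ∈ Geo.subgroupNormalizer R :=
        hgx ▸ Subgroup.mul_mem _ (hsN w hww) hY
      have hcomm : g⁻¹ * x * g = (sc z hzz)⁻¹ * (g⁻¹ * (sc z hzz * x) * g) := by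
        have hc : ∀ u : GL I4 F, Commute (sc z hzz) u := fun u => Units.ext (by
          show z • (1 : Matrix I4 I4 F) * u = u * z • (1 : Matrix I4 I4 F)
          rw [Matrix.smul_mul, Matrix.mul_smul, one_mul, mul_one])
        calc g⁻¹ * x * g = (sc z hzz)⁻¹ * (sc z hzz * g⁻¹) * x * g := by group
          _ = _ := by rw [(hc g⁻¹).eq]; group
      rw [hcomm]
      exact Subgroup.mul_mem _ (Subgroup.inv_mem _ (hsN z hzz)) hmem

end Cfsg.Agent.S6002
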