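import Cfsg.Statements.S3920

set_option autoImplicit false
open Cfsg

namespace Cfsg.Agent.S3920

/-- Say that a group has self-centralizing non-cyclic subgroups when every non-cyclic subgroup H satisfies C_G(H) ≤ H. For n ≥ 3, the dihedral group of order 2n has self-centralizing non-cyclic subgroups if and only if n is odd or a power of 2. -/
theorem result (n : ℕ) (hn : 3 ≤ n) : (∀ H : Subgroup (DihedralGroup n), ¬ IsCyclic ↥H → Subgroup.centralizer (H : Set (DihedralGroup n)) ≤ H) ↔ (Odd n ∨ ∃ k : ℕ, n = 2 ^ k) := by
  constructor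
  · intro h
    by_contra hcon
    push Not at hcon
    obtain ⟨hnodd, hn2⟩ := hcon
    obtain ⟨a, u, hu, hnau⟩ := Nat.exists_eq_two_pow_mul_odd (by omega : n ≠ 0)
    have ha : 0 < a := by
      rcases Nat.eq_zero_or_pos a with rfl | h'
      · exact absurd (by simpa [hnau] using hu) hnodd
      · exact h'
    have hu3 : 3 ≤ u := by
      obtain ⟨w, hw⟩ := hu
      rcases Nat.eq_zero_or_pos w with rfl | h'
      · exact absurd (by simpa [hw] using hnau) (hn2 a)
      · omega
    have hdvd : 2 ^ a ∣ n := hnau ▸ Dvd.intro _ rfl
    let c : ZMod n →+* ZMod (2 ^ a) := ZMod.castHom hdvd _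
    let H : Subgroup (DihedralGroup n) :=
      { carrier := {x | match x with
          | DihedralGroup.r i => c i = 0
          | DihedralGroup.sr i => c i = 0}
        one_mem' := map_zero c
        mul_mem' := by
          rintro (i | i) (j | j) hi hj <;> simp only [Set.mem_setOf_eq] at hi hj ⊢ <;>
            simp [map_add, map_sub, hi, hj]
        inv_mem' := by
          rintro (i | i) hi <;> simp only [Set.mem_setOf_eq] at hi ⊢ <;> simp [map_neg, hi] }
    have hc : ¬ IsCyclic ↥H := fun hcyc => by
      have h1 : DihedralGroup.r ((2 ^ a : ℕ) : ZMod n) ∈ H := by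
        show c _ = 0
        rw [map_natCast, ZMod.natCast_self]
      have h2 : DihedralGroup.sr (0 : ZMod n) ∈ H := map_zero c
      have h3 := (IsCyclic.isMulCommutative (α := ↥H)).is_comm.comm ⟨_, h1⟩ ⟨_, h2⟩
      have h4 := congrArg Subtype.val h3
      simp at h4
      have h5 : ((2 * 2 ^ a : ℕ) : ZMod n) = 0 := by push_cast; linear_combination -h4
      rw [CharP.cast_eq_zero_iff (ZMod n) n, hnau, mul_comm 2] at h5
      have h6 := Nat.le_of_dvd (by norm_num) (Nat.dvd_of_mul_dvd_mul_left (by positivity) h5)
      omega
    have hz : DihedralGroup.r ((n / 2 : ℕ) : ZMod n) ∈ H := by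
      refine h H hc (Subgroup.mem_centralizer_iff.mpr ?_)
      have h22 : ((n / 2 : ℕ) : ZMod n) + ((n / 2 : ℕ) : ZMod n) = 0 := by
        rw [← Nat.cast_add, ← two_mul, Nat.mul_div_cancel'
          ((dvd_pow_self 2 ha.ne').trans hdvd), ZMod.natCast_self]
      rintro (i | i) - <;> simp [add_comm]
      linear_combination h22
    have hz' : c ((n / 2 : ℕ) : ZMod n) = 0 := hz
    rw [map_natCast, CharP.cast_eq_zero_iff (ZMod (2 ^ a)) (2 ^ a)] at hz'
    obtain ⟨a', rfl⟩ := Nat.exists_eq_add_of_le ha
    rw [hnau, show 1 + a' = a' + 1 by omega, pow_succ', mul_assoc,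
      Nat.mul_div_cancel_left _ (by norm_num : 0 < 2), mul_comm 2 (2 ^ a')] at hz'
    have := Nat.dvd_of_mul_dvd_mul_left (by positivity) hz'
    exact Nat.not_even_iff_odd.mpr hu (even_iff_two_dvd.mpr this)
  · intro hn' H hH z hz
    haveI : NeZero n := ⟨by omega⟩
    have hcom := Subgroup.mem_centralizer_iff.mp hz
    obtain ⟨i, hi⟩ : ∃ i, DihedralGroup.sr i ∈ H := by
      by_contra hcon
      push Not at hcon
      apply hH
      have hle : H ≤ Subgroup.zpowers (DihedralGroup.r 1) := by
        rintro (j | j) hj
        · rw [← ZMod.natCast_zmod_val j, ← DihedralGroup.r_one_pow]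
          exact pow_mem (Subgroup.mem_zpowers _) _
        · exact absurd hj (hcon j)
      exact isCyclic_of_surjective (Subgroup.subgroupOfEquivOfLe hle).toMonoidHom
        (Subgroup.subgroupOfEquivOfLe hle).surjective
    -- elements of order dividing two in the rotation group lie in `H`
    have hhalf : ∀ j : ZMod n, j + j = 0 → DihedralGroup.r j ∈ H := by
      intro j hj
      rcases eq_or_ne j 0 with rfl | hj0
      · exact one_mem H
      rcases hn' with hodd | ⟨k, rfl⟩
      · exfalso
        apply hj0
        rw [← ZMod.natCast_zmod_val j, ← Nat.cast_add, CharP.cast_eq_zero_iff (ZMod n) n,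
          ← two_mul] at hj
        rw [← ZMod.natCast_zmod_val j, CharP.cast_eq_zero_iff (ZMod n) n]
        exact (Nat.coprime_two_right.mpr hodd).dvd_of_dvd_mul_left hj
      · -- a nontrivial rotation in `H`
        obtain ⟨l, hl0, hl⟩ : ∃ l : ZMod (2 ^ k), l ≠ 0 ∧ DihedralGroup.r l ∈ H := by
          by_contra hcon
          push Not at hcon
          apply hH
          have hle : H ≤ Subgroup.zpowers (DihedralGroup.sr i) := by
            rintro (l | l) hl
            · rcases eq_or_ne l 0 with rfl | h0
              · exact one_mem _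
              · exact absurd hl (hcon l h0)
            · have h1 : DihedralGroup.r (l - i) ∈ H := by
                have := mul_mem hi hl
                rwa [DihedralGroup.sr_mul_sr] at this
              rcases eq_or_ne (l - i) 0 with h0 | h0
              · rw [sub_eq_zero.mp h0]; exact Subgroup.mem_zpowers _
              · exact absurd h1 (hcon _ h0)
          exact isCyclic_of_surjective (Subgroup.subgroupOfEquivOfLe hle).toMonoidHom
            (Subgroup.subgroupOfEquivOfLe hle).surjective
        obtain ⟨s, t, ht, hst⟩ := Nat.exists_eq_two_pow_mul_odd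
          (show l.val ≠ 0 from fun h0 => hl0 ((ZMod.val_eq_zero l).mp h0))
        have hsk : s < k := by
          have h1 : l.val < 2 ^ k := ZMod.val_lt l
          have h2 : 2 ^ s ≤ l.val := hst ▸ Nat.le_mul_of_pos_right _ ht.pos
          exact (Nat.pow_lt_pow_iff_right (by norm_num)).mp (h2.trans_lt h1)
        have hmul : DihedralGroup.r ((2 ^ (k - 1) : ℕ) : ZMod (2 ^ k)) ∈ H := by
          have h1 : ∀ m : ℕ, DihedralGroup.r ((m : ZMod (2 ^ k)) * l) ∈ H := by
            intro m
            induction m with
            | zero => simpa using one_mem H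
            | succ m ih =>
              have := mul_mem ih hl
              rw [DihedralGroup.r_mul_r] at this
              rwa [Nat.cast_succ, add_mul, one_mul]
          have h2 := h1 (2 ^ (k - 1 - s))
          obtain ⟨w, hw⟩ := ht
          have e : ((2 ^ (k - 1 - s) : ℕ) : ZMod (2 ^ k)) * l = ((2 ^ (k - 1) : ℕ) : ZMod (2 ^ k)) := by
            rw [← ZMod.natCast_zmod_val l, ← Nat.cast_mul, hst, hw, ← mul_assoc, ← pow_add,
              show k - 1 - s + s = k - 1 by omega, mul_add, mul_one, ← mul_assoc, ← pow_succ,
              show k - 1 + 1 = k by omega, Nat.cast_add, Nat.cast_mul, ZMod.natCast_self,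
              zero_mul, zero_add]
          rwa [e] at h2
        have hjval : j.val = 2 ^ (k - 1) := by
          rw [← ZMod.natCast_zmod_val j, ← Nat.cast_add, CharP.cast_eq_zero_iff (ZMod (2 ^ k)) (2 ^ k),
            ← two_mul] at hj
          have hk : k = k - 1 + 1 := by omega
          have h2 : 2 * 2 ^ (k - 1) ∣ 2 * j.val := by rwa [← pow_succ', ← hk]
          obtain ⟨q, hq⟩ := Nat.dvd_of_mul_dvd_mul_left (by norm_num) h2
          have h3 : j.val < 2 ^ k := ZMod.val_lt j
          have hpow : 2 ^ k = 2 ^ (k - 1) * 2 := by rw [← pow_succ, ← hk]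
          have h4 : q < 2 := Nat.lt_of_mul_lt_mul_left (a := 2 ^ (k - 1)) (by omega)
          interval_cases q
          · exact absurd ((ZMod.val_eq_zero j).mp (by simpa using hq)) hj0
          · simpa using hq
        rw [← ZMod.natCast_zmod_val j, hjval]
        exact hmul
    have hzi := hcom _ hi
    rcases z with j | j
    · simp at hzi
      exact hhalf j (by linear_combination hzi)
    · simp at hzi
      have h1 := mul_mem hi (hhalf (j - i) (by linear_combination hzi))
      rwa [DihedralGroup.sr_mul_r, add_sub_cancel] at h1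

end Cfsg.Agent.S3920
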