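import Cfsg.Statements.S1314
-- import your own Cfsg.Agent.* helpers here

set_option autoImplicit false
open Cfsg Subgroup
open scoped commutatorElement Pointwise

namespace Cfsg.Agent.S1314

theorem commutator_le_self_of_central {G : Type*} [Group G] {A Z : Subgroup G}
    (hA : Z ≤ centralizer (A : Set G)) (hZ : Z ≤ centralizer (Z : Set G)) :
    ⁅A ⊔ Z, A ⊔ Z⁆ ≤ ⁅A, A⁆ := by
  rw [commutator_le]
  intro g hg h hh
  have hn : A ≤ normalizer (Z : Set G) :=
    (le_centralizer_iff.mp hA).trans (centralizer_le_normalizer _)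
  have he := coe_mul_of_left_le_normalizer_right A Z hn
  rw [← SetLike.mem_coe, he] at hg hh
  obtain ⟨a, ha, z, hz, rfl⟩ := hg
  obtain ⟨b, hb, w, hw, rfl⟩ := hh
  have c1 : Commute z b := (mem_centralizer_iff.mp (hA hz) b hb).symm
  have c2 : Commute w a := (mem_centralizer_iff.mp (hA hw) a ha).symm
  have c3 : Commute z w := (mem_centralizer_iff.mp (hZ hz) w hw).symm
  have : ⁅a * z, b * w⁆ = ⁅a, b⁆ := by
    simp only [commutatorElement_def, mul_inv_rev]
    calc a * z * (b * w) * (z⁻¹ * a⁻¹) * (w⁻¹ * b⁻¹)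
        = a * (z * b) * (w * z⁻¹) * a⁻¹ * w⁻¹ * b⁻¹ := by group
      _ = a * b * ((z * w) * z⁻¹) * a⁻¹ * w⁻¹ * b⁻¹ := by rw [c1.eq]; group
      _ = a * b * (w * a⁻¹) * w⁻¹ * b⁻¹ := by rw [c3.eq]; group
      _ = a * b * a⁻¹ * b⁻¹ := by rw [c2.inv_right.eq]; group
  show ⁅a * z, b * w⁆ ∈ ⁅A, A⁆
  rw [this]
  exact commutator_mem_commutator ha hb

/-- Let x be an involution of a group G and L a perfect subgroup with ⁅L, x L x⁻¹⁆ = 1. Then l ↦ l (x l x⁻¹) is a group homomorphism π from L to G whose kernel is central in L and whose image lies in C_G(x); and the commutator subgroup of C_{L ⊔ xLx⁻¹}(x) equals the image of π. -/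
theorem result {G : Type*} [Group G] [Finite G] (x : G) (hx : orderOf x = 2) (L : Subgroup G) (hperf : ⁅L, L⁆ = L) (hcomm : ⁅L, L.map (MulAut.conj x).toMonoidHom⁆ = ⊥) : ∃ π : ↥L →* G, (∀ l : ↥L, π l = (l : G) * (x * (l : G) * x⁻¹)) ∧ π.ker ≤ Subgroup.center ↥L ∧ π.range ≤ Subgroup.centralizer ({x} : Set G) ∧ ⁅(L ⊔ L.map (MulAut.conj x).toMonoidHom) ⊓ Subgroup.centralizer ({x} : Set G), (L ⊔ L.map (MulAut.conj x).toMonoidHom) ⊓ Subgroup.centralizer ({x} : Set G)⁆ = π.range := by
  have hx2 : x * x = 1 := by rw [← sq, ← hx]; exact pow_orderOf_eq_one x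
  have hxi : x⁻¹ = x := inv_eq_of_mul_eq_one_right hx2
  set L' := L.map (MulAut.conj x).toMonoidHom with hL'
  have hc : ∀ a ∈ L, ∀ b ∈ L', a * b = b * a := fun a ha b hb =>
    (mem_centralizer_iff.mp ((commutator_eq_bot_iff_le_centralizer.mp hcomm) ha) b hb).symm
  have hxL : ∀ a ∈ L, x * a * x⁻¹ ∈ L' := fun a ha => ⟨a, ha, rfl⟩
  let π : ↥L →* G :=
    { toFun := fun l => (l : G) * (x * (l : G) * x⁻¹)
      map_one' := by simp
      map_mul' := fun l m => by
        simp only [Subgroup.coe_mul]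
        have h := hc m m.2 _ (hxL l l.2)
        calc (l : G) * m * (x * (l * m) * x⁻¹) = l * (m * (x * l * x⁻¹)) * (x * m * x⁻¹) := by group
          _ = l * ((x * l * x⁻¹) * m) * (x * m * x⁻¹) := by rw [h]
          _ = l * (x * l * x⁻¹) * (m * (x * m * x⁻¹)) := by group }
  have hswap : ∀ a ∈ L', x * a * x⁻¹ ∈ L := by
    rintro _ ⟨a, ha, rfl⟩
    have : x * (x * a * x⁻¹) * x⁻¹ = a := by
      calc x * (x * a * x⁻¹) * x⁻¹ = (x * x) * a * (x * x)⁻¹ := by group
        _ = a := by rw [hx2]; group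
    simpa [this] using ha
  have hrC : π.range ≤ centralizer ({x} : Set G) := by
    rintro _ ⟨l, rfl⟩
    rw [mem_centralizer_singleton_iff]
    show (l : G) * (x * l * x⁻¹) * x = x * ((l : G) * (x * l * x⁻¹))
    rw [hxi]
    calc (l : G) * (x * l * x) * x = (l : G) * (x * l) * (x * x) := by group
      _ = (l : G) * (x * l) := by rw [hx2, mul_one]
      _ = (l : G) * (x * l * x⁻¹) * x := by group
      _ = (x * l * x⁻¹) * l * x := by rw [hc l l.2 _ (hxL l l.2)]
      _ = x * (l * (x * l * x)) := by rw [hxi]; group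
  refine ⟨π, fun l => rfl, ?_, hrC, ?_⟩
  · intro l hl
    rw [mem_center_iff]
    intro m
    have h1 : (l : G) ∈ L' := by
      have : (l : G) = x * (↑l⁻¹ : G) * x⁻¹ := by
        have h : (l : G) * (x * l * x⁻¹) = 1 := hl
        rw [eq_inv_of_mul_eq_one_left h, Subgroup.coe_inv]; group
      rw [this]; exact hxL _ l⁻¹.2
    exact Subtype.ext (hc m m.2 l h1)
  · set M := L ⊔ L'
    have hrM : π.range ≤ M ⊓ centralizer ({x} : Set G) := le_inf (by
      rintro _ ⟨l, rfl⟩
      exact mul_mem (mem_sup_left l.2) (mem_sup_right (hxL l l.2))) hrC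
    have hperf' : ⁅π.range, π.range⁆ = π.range := by
      have hL : ⁅(⊤ : Subgroup L), (⊤ : Subgroup L)⁆ = (⊤ : Subgroup L) := by
        refine map_injective L.subtype_injective ?_
        rw [map_commutator, ← MonoidHom.range_eq_map, range_subtype, hperf]
      rw [MonoidHom.range_eq_map, ← map_commutator, hL]
    refine le_antisymm ?_ (hperf'.ge.trans (commutator_mono hrM hrM))
    set Z := M ⊓ centralizer (M : Set G)
    have hle : M ⊓ centralizer ({x} : Set G) ≤ π.range ⊔ Z := by
      rintro m ⟨hm, hmx⟩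
      have hm' : m ∈ ((L : Set G) * (L' : Set G) : Set G) := by
        rw [← coe_mul_of_left_le_normalizer_right L L'
          ((commutator_eq_bot_iff_le_centralizer.mp hcomm).trans (centralizer_le_normalizer _))]
        exact hm
      obtain ⟨l, hl, b, hb, hml⟩ := hm'
      simp only at hml
      have hk := hswap b hb
      set k := x * b * x⁻¹ with hkd
      have hxk : x * k * x⁻¹ = b := by
        rw [hkd]
        calc x * (x * b * x⁻¹) * x⁻¹ = (x * x) * b * (x * x)⁻¹ := by group
          _ = b := by rw [hx2]; group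
      have hmx' : x * m * x⁻¹ = m := by
        rw [mul_inv_eq_iff_eq_mul]
        exact (mem_centralizer_singleton_iff.mp hmx).symm
      have e1 : k * (x * l * x⁻¹) = l * (x * k * x⁻¹) := by
        rw [hc k hk _ (hxL l hl), hxk, hml]
        rw [hkd]
        calc x * l * x⁻¹ * (x * b * x⁻¹) = x * (l * b) * x⁻¹ := by group
          _ = m := by rw [hml]; exact hmx'
      set c := l⁻¹ * k with hcd
      have e2 : c = x * (k * l⁻¹) * x⁻¹ := by
        calc c = l⁻¹ * (k * (x * l * x⁻¹)) * (x * l * x⁻¹)⁻¹ := by rw [hcd]; group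
          _ = l⁻¹ * (l * (x * k * x⁻¹)) * (x * l * x⁻¹)⁻¹ := by rw [e1]
          _ = x * (k * l⁻¹) * x⁻¹ := by group
      have hc1 : c ∈ L := mul_mem (inv_mem hl) hk
      have hc2 : c ∈ L' := e2 ▸ hxL _ (mul_mem hk (inv_mem hl))
      have hcZ : ∀ d ∈ L, x * d * x⁻¹ * (x * c * x⁻¹) = x * c * x⁻¹ * (x * d * x⁻¹) := fun d hd => by
        calc x * d * x⁻¹ * (x * c * x⁻¹) = x * (d * c) * x⁻¹ := by group
          _ = x * (c * d) * x⁻¹ := by rw [hc d hd c hc2]
          _ = x * c * x⁻¹ * (x * d * x⁻¹) := by group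
      have hcx : x * c * x⁻¹ ∈ Z := by
        refine ⟨mem_sup_right (hxL c hc1), ?_⟩
        have hsup : M ≤ centralizer {x * c * x⁻¹} := by
          refine sup_le (fun d hd => mem_centralizer_singleton_iff.mpr (hc d hd _ (hxL c hc1))) ?_
          rintro _ ⟨d, hd, rfl⟩
          exact mem_centralizer_singleton_iff.mpr (hcZ d hd)
        exact mem_centralizer_iff.mpr fun d hd => mem_centralizer_singleton_iff.mp (hsup hd)
      have : m = π ⟨l, hl⟩ * (x * c * x⁻¹) := by
        show m = l * (x * l * x⁻¹) * (x * c * x⁻¹)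
        rw [← hml, ← hxk, hcd]; group
      rw [this]
      exact mul_mem (mem_sup_left ⟨_, rfl⟩) (mem_sup_right hcx)
    exact (commutator_mono hle hle).trans ((commutator_le_self_of_central
      (inf_le_right.trans (centralizer_le (SetLike.coe_subset_coe.mpr (le_inf_iff.mp hrM).1)))
      (inf_le_right.trans (centralizer_le (SetLike.coe_subset_coe.mpr inf_le_left)))).trans hperf'.le)

end Cfsg.Agent.S1314
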