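import Cfsg.Statements.S0016
import Cfsg.Agent.Lib.FrobRealize.Quaternion

set_option autoImplicit false
open Cfsg

namespace Cfsg.Agent.S0016

/-- A finite p-group in which only one subgroup has order p is either cyclic or (with p = 2) isomorphic to a generalized quaternion group. -/
theorem result {G : Type*} [Group G] [Finite G] (p : ℕ) [Fact p.Prime]
    (hG : IsPGroup p G) (huniq : ∀ H K : Subgroup G, Nat.card H = p → Nat.card K = p → H = K) :
    IsCyclic G ∨ (p = 2 ∧ ∃ n : ℕ, Nonempty (G ≃* QuaternionGroup (2 ^ n))) := by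
  classical
  refine CfsgLib.FrobRealize.Quaternion.cyclic_or_quaternion hG ?_
  have hp := (Fact.out : p.Prime)
  by_cases hex : ∃ x : G, x ^ p = 1 ∧ x ≠ 1
  · obtain ⟨z, hz, hz1⟩ := hex
    have hord : ∀ x : G, x ^ p = 1 → x ≠ 1 → Nat.card (Subgroup.zpowers x) = p := fun x hx hx1 => by
      rw [Nat.card_zpowers]
      exact orderOf_eq_prime hx hx1
    have hmem : ∀ x : G, x ^ p = 1 → x ∈ Subgroup.zpowers z := fun x hx => by
      by_cases hx1 : x = 1
      · rw [hx1]; exact one_mem _
      · exact huniq _ _ (hord x hx hx1) (hord z hz hz1) ▸ Subgroup.mem_zpowers x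
    refine le_trans (Nat.card_le_card_of_injective
      (fun x : {x : G // x ^ p = 1} => (⟨x.1, hmem x.1 x.2⟩ : Subgroup.zpowers z))
      fun a b e => Subtype.ext (congrArg (fun y : Subgroup.zpowers z => (y : G)) e)) ?_
    rw [hord z hz hz1]
  · have : Subsingleton {x : G // x ^ p = 1} := ⟨fun a b => Subtype.ext (by
      have h : ∀ c : {x : G // x ^ p = 1}, c.1 = 1 := fun c =>
        not_not.1 fun hc => hex ⟨c.1, c.2, hc⟩
      rw [h a, h b])⟩
    exact le_trans (Finite.card_le_one_iff_subsingleton.2 this) hp.one_lt.le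
end Cfsg.Agent.S0016
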