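import Cfsg.Statements.S2759
import Cfsg.Agent.Lib.LocalEven.InvolvesDihedral
import Cfsg.Agent.Lib.PGroup.Frattini
import Cfsg.Agent.Lib.Components.GenFitting
import Mathlib.GroupTheory.Perm.Sign

set_option autoImplicit false
open Cfsg
open scoped commutatorElement Pointwise

namespace Cfsg.Agent.S2759

open CfsgLib.LocalEven.InvolvesDihedral

theorem perm_three_equiv : Nonempty (Equiv.Perm (Fin 3) ≃* DihedralGroup 3) := by
  let f : DihedralGroup 3 →* Equiv.Perm (Fin 3) :=
    MonoidHom.mk' (fun d => match d with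
      | .r i => (finRotate 3) ^ i.val
      | .sr i => Equiv.swap (0 : Fin 3) 1 * (finRotate 3) ^ i.val) (by decide)
  exact ⟨(MulEquiv.ofBijective f (by decide)).symm⟩

theorem involves_congr {G H H' : Type*} [Group G] [Group H] [Group H'] (e : H ≃* H')
    (h : Cfsg.Involves H G) : Cfsg.Involves H' G := by
  obtain ⟨K, f, hf⟩ := exists_surjective h
  exact of_surjective (e.toMonoidHom.comp f) (e.surjective.comp hf)

/-- The induced permutations generate the symmetric group on four letters. -/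
theorem subgroup_eq_top {S : Subgroup (Equiv.Perm (Fin 4))}
    (hv : Equiv.swap (0 : Fin 4) 1 * Equiv.swap (2 : Fin 4) 3 ∈ S)
    (hy : Equiv.swap (1 : Fin 4) 2 * Equiv.swap (2 : Fin 4) 3 ∈ S)
    (hx : Equiv.swap (2 : Fin 4) 3 ∈ S) : S = ⊤ := by
  have hc : ∀ g ∈ S, ∀ h ∈ S, g * h * g⁻¹ ∈ S := fun g hg h hh => mul_mem (mul_mem hg hh) (inv_mem hg)
  have h12 : Equiv.swap (1 : Fin 4) 2 ∈ S := by
    have := mul_mem hy hx
    rwa [mul_assoc, Equiv.swap_mul_self, mul_one] at this
  have h13 : Equiv.swap (1 : Fin 4) 3 ∈ S := by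
    have := hc _ hx _ h12
    rwa [show Equiv.swap (2 : Fin 4) 3 * Equiv.swap (1 : Fin 4) 2 * (Equiv.swap (2 : Fin 4) 3)⁻¹ = Equiv.swap (1 : Fin 4) 3 by decide] at this
  have h03 : Equiv.swap (0 : Fin 4) 3 ∈ S := by
    have := hc _ hv _ h12
    rwa [show Equiv.swap (0 : Fin 4) 1 * Equiv.swap (2 : Fin 4) 3 * Equiv.swap (1 : Fin 4) 2 * (Equiv.swap (0 : Fin 4) 1 * Equiv.swap (2 : Fin 4) 3)⁻¹ = Equiv.swap (0 : Fin 4) 3 by decide] at this
  have h01 : Equiv.swap (0 : Fin 4) 1 ∈ S := by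
    have := mul_mem hv hx
    rwa [mul_assoc, Equiv.swap_mul_self, mul_one] at this
  have h02 : Equiv.swap (0 : Fin 4) 2 ∈ S := by
    have := hc _ h12 _ h01
    rwa [show Equiv.swap (1 : Fin 4) 2 * Equiv.swap (0 : Fin 4) 1 * (Equiv.swap (1 : Fin 4) 2)⁻¹ = Equiv.swap (0 : Fin 4) 2 by decide] at this
  have key : ∀ a b : Fin 4, Equiv.swap a b ∈ S := by
    intro a b
    fin_cases a <;> fin_cases b <;>
      first
      | (rw [Equiv.swap_self]; exact one_mem S)
      | assumption
      | (rw [Equiv.swap_comm]; assumption)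
  rw [eq_top_iff, ← Equiv.Perm.closure_isSwap, Subgroup.closure_le]
  rintro σ ⟨a, b, -, rfl⟩
  exact key a b

theorem of_action {G : Type*} [Group G] [Finite G] {T : Subgroup G} (hT : IsPGroup 2 T) {x y : G}
    (hx : ∃ k : ℕ, orderOf x = 2 ^ k) (hy : ∃ k : ℕ, orderOf y = 3 ^ k)
    (hxT : x ∈ Subgroup.normalizer (T : Set G)) (hyT : y ∈ Subgroup.normalizer (T : Set G))
    (hxy : x * y * x⁻¹ = y⁻¹) (hyc : y ∉ Subgroup.centralizer (T : Set G))
    (hy3 : y ^ 3 ∈ Subgroup.centralizer (T : Set G)) : Cfsg.Involves (Equiv.Perm (Fin 4)) G := by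
  classical
  obtain ⟨W, -, hW⟩ := exists_minimal_le_of_wellFoundedLT (fun W : Subgroup G => W ≤ T ∧ x ∈ Subgroup.normalizer (W : Set G) ∧
    y ∈ Subgroup.normalizer (W : Set G) ∧ y ∉ Subgroup.centralizer (W : Set G)) T ⟨le_rfl, hxT, hyT, hyc⟩
  obtain ⟨hWT, hxW, hyW, hycW⟩ := hW.prop
  have hW2 : IsPGroup 2 W := hT.to_le hWT
  obtain ⟨ky, hky⟩ := hy
  -- the centralizer of `y` in `W`
  set C := W ⊓ Subgroup.centralizer {y} with hC
  have hCW : C ≤ W := inf_le_left
  have hCne : C ≠ W := fun h => hycW (Subgroup.mem_centralizer_iff.2 fun w hw =>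
    (Subgroup.mem_centralizer_singleton_iff.1 (Subgroup.mem_inf.1 (h ▸ hw : w ∈ C)).2))
  have hxC : x ∈ Subgroup.normalizer (C : Set G) := by
    refine Subgroup.mem_normalizer_fintype (fun c hc => ?_)
    obtain ⟨h1, h2⟩ := Subgroup.mem_inf.1 hc
    refine Subgroup.mem_inf.2 ⟨(Subgroup.mem_normalizer_iff.1 hxW c).1 h1, Subgroup.mem_centralizer_singleton_iff.2 ?_⟩
    have h3 : c * y⁻¹ = y⁻¹ * c := (Commute.inv_right (Subgroup.mem_centralizer_singleton_iff.1 h2 : Commute c y)).eq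
    have h4 : x * y⁻¹ * x⁻¹ = y := by
      calc x * y⁻¹ * x⁻¹ = (x * y * x⁻¹)⁻¹ := by group
        _ = y := by rw [hxy, inv_inv]
    calc x * c * x⁻¹ * y = x * (c * y⁻¹) * x⁻¹ := by nth_rewrite 1 [← h4]; group
      _ = y * (x * c * x⁻¹) := by rw [h3]; nth_rewrite 2 [← h4]; group
  have hyC : y ∈ Subgroup.normalizer (C : Set G) := by
    refine Subgroup.mem_normalizer_fintype (fun c hc => ?_)
    have h2 := Subgroup.mem_centralizer_singleton_iff.1 (Subgroup.mem_inf.1 hc).2
    show y * c * y⁻¹ ∈ C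
    rw [← h2, mul_inv_cancel_right]
    exact hc
  set Φ := (frattini W).map W.subtype
  have hΦW : Φ ≤ W := Subgroup.map_subtype_le _
  have hnΦ : ∀ z ∈ Subgroup.normalizer (W : Set G), z ∈ Subgroup.normalizer (Φ : Set G) :=
    fun z hz => CfsgLib.Components.map_subtype_normal_of_characteristic hz
  have hΦC : Φ ≤ C := by
    by_contra hne
    set F := Φ ⊔ C
    have hFW : F ≤ W := sup_le hΦW hCW
    have hnF : ∀ z, z ∈ Subgroup.normalizer (W : Set G) → z ∈ Subgroup.normalizer (C : Set G) →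
        z ∈ Subgroup.normalizer (F : Set G) := fun z h1 h2 =>
      Subgroup.normalizer_inf_normalizer_le_normalizer_sup Φ C ⟨hnΦ z h1, h2⟩
    by_cases hFc : y ∈ Subgroup.centralizer (F : Set G)
    · refine hne (le_trans (le_sup_left : Φ ≤ F) (fun f hf => Subgroup.mem_inf.2 ⟨hFW hf, ?_⟩))
      exact Subgroup.mem_centralizer_singleton_iff.2 (Subgroup.mem_centralizer_iff.1 hFc f hf)
    · have hFeq : F = W := le_antisymm hFW (hW.2 ⟨hFW.trans hWT, hnF x hxW hxC, hnF y hyW hyC, hFc⟩ hFW)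
      refine hCne ?_
      have h1 : C.subgroupOf W ⊔ frattini W = ⊤ := by
        apply Subgroup.map_injective W.subtype_injective
        rw [Subgroup.map_sup, Subgroup.map_subgroupOf_eq_of_le hCW, ← MonoidHom.range_eq_map, Subgroup.range_subtype,
          sup_comm]
        exact hFeq
      exact le_antisymm hCW (Subgroup.subgroupOf_eq_top.1 (frattini_nongenerating h1))
  have hsq : ∀ w ∈ W, w * w ∈ C := fun w hw => hΦC ⟨_, CfsgLib.PGroup.Frattini.pow_mem_frattini hW2 ⟨w, hw⟩, by simp [pow_two]⟩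
  have hcomm : ∀ a ∈ W, ∀ b ∈ W, ⁅a, b⁆ ∈ C := fun a ha b hb =>
    hΦC ⟨_, CfsgLib.PGroup.Frattini.commutatorElement_mem_frattini hW2 ⟨a, ha⟩ ⟨b, hb⟩, by simp [commutatorElement_def]⟩
  -- `C` is normal in `W`
  have hWC : ∀ w ∈ W, w ∈ Subgroup.normalizer (C : Set G) := fun w hw => by
    refine Subgroup.mem_normalizer_fintype (fun c hc => ?_)
    show w * c * w⁻¹ ∈ C
    rw [show w * c * w⁻¹ = ⁅w, c⁆ * c by rw [commutatorElement_def, inv_mul_cancel_right]]
    exact mul_mem (hcomm w hw c (hCW hc)) hc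
  haveI hCn : (C.subgroupOf W).Normal := (Subgroup.normal_subgroupOf_iff_le_normalizer hCW).2 hWC
  let π : W →* W ⧸ C.subgroupOf W := QuotientGroup.mk' _
  have hπ : ∀ a : W, π a = 1 ↔ (a : G) ∈ C := fun a => (QuotientGroup.eq_one_iff a).trans Subgroup.mem_subgroupOf
  have hQc : ∀ a b : W, π a * π b = π b * π a := fun a b => by
    rw [← commutatorElement_eq_one_iff_mul_comm, ← map_commutatorElement, hπ]
    exact hcomm a a.2 b b.2
  have hQ2 : ∀ a : W, π a * π a = 1 := fun a => by rw [← map_mul, hπ]; exact hsq a a.2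
  have hcopC : ∀ w ∈ W, ⁅y, w⁆ ∈ C → w ∈ C := by
    intro w hw h
    refine Subgroup.mem_inf.2 ⟨hw, Subgroup.mem_centralizer_singleton_iff.2 ?_⟩
    have hcop : (orderOf y).Coprime (Nat.card C) := by
      obtain ⟨b, hb⟩ := IsPGroup.iff_card.1 (hW2.to_le hCW)
      rw [hky, hb]
      exact Nat.Coprime.pow _ _ (by norm_num)
    exact (CfsgLib.Coprime.commute_of_stabilizes hcop (Subgroup.mem_centralizer_iff.2 fun c hc =>
      Subgroup.mem_centralizer_singleton_iff.1 (Subgroup.mem_inf.1 hc).2) h).eq.symm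
  -- conjugations induced on `W`
  let cj : ∀ z : G, z ∈ Subgroup.normalizer (W : Set G) → W → W := fun z hz w =>
    ⟨z * w * z⁻¹, (Subgroup.mem_normalizer_iff.1 hz _).1 w.2⟩
  have hcj : ∀ z hzW, z ∈ Subgroup.normalizer (C : Set G) → ∀ a b : W, π a = π b → π (cj z hzW a) = π (cj z hzW b) := by
    intro z hzW hz a b h
    rw [← inv_mul_eq_one, ← map_inv, ← map_mul, hπ] at h ⊢
    have := (Subgroup.mem_normalizer_iff.1 hz _).1 h
    convert this using 1
    simp only [cj, Subgroup.coe_mul, Subgroup.coe_inv]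
    group
  have hcjmul : ∀ z hzW (a b : W), cj z hzW (a * b) = cj z hzW a * cj z hzW b := fun z hzW a b =>
    Subtype.ext (by simp [cj, mul_assoc])
  obtain ⟨w₀, hw₀W, hw₀C⟩ : ∃ w, w ∈ W ∧ w ∉ C := by
    by_contra h
    exact hCne (le_antisymm hCW fun w hw => by by_contra h'; exact h ⟨w, hw, h'⟩)
  -- a coset of `C` fixed by `x`
  obtain ⟨v, hvC, hvx⟩ : ∃ v : W, π v ≠ 1 ∧ π (cj x hxW v) = π v := by
    have key : ∀ (k : ℕ) (z : G) (hzW : z ∈ Subgroup.normalizer (W : Set G)), z ∈ Subgroup.normalizer (C : Set G) →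
        z ^ 2 ^ k = 1 → ∃ v : W, π v ≠ 1 ∧ π (cj z hzW v) = π v := by
      intro k
      induction k with
      | zero =>
        intro z hzW _ hz
        rw [pow_zero, pow_one] at hz
        refine ⟨⟨w₀, hw₀W⟩, fun h => hw₀C ((hπ _).1 h), ?_⟩
        subst hz
        exact congrArg π (Subtype.ext (by simp [cj]))
      | succ k ih =>
        intro z hzW hzC hz
        obtain ⟨v, hv1, hv⟩ := ih (z ^ 2) (pow_mem hzW 2) (pow_mem hzC 2) (by rw [← pow_mul, ← pow_succ']; exact hz)
        have h2 : cj z hzW (cj z hzW v) = cj (z ^ 2) (pow_mem hzW 2) v := Subtype.ext (by simp [cj, pow_two, mul_assoc])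
        by_cases h : π (cj z hzW v) = π v
        · exact ⟨v, hv1, h⟩
        · refine ⟨v * cj z hzW v, fun h1 => h ?_, ?_⟩
          · rw [map_mul, mul_eq_one_iff_eq_inv] at h1
            rw [h1]
            exact (inv_eq_of_mul_eq_one_right (hQ2 _)).symm ▸ rfl
          · rw [hcjmul z hzW, h2, map_mul, map_mul, hv, hQc]
    obtain ⟨k, hk⟩ := hx
    exact key k x hxW hxC (hk ▸ pow_orderOf_eq_one x)
  set v' : W := cj y hyW v with hv'
  set v'' : W := cj y hyW v' with hv''
  have hy3W : ∀ w : W, cj y hyW (cj y hyW (cj y hyW w)) = w := by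
    intro w
    refine Subtype.ext ?_
    show y * (y * (y * w * y⁻¹) * y⁻¹) * y⁻¹ = w
    calc y * (y * (y * w * y⁻¹) * y⁻¹) * y⁻¹ = y ^ 3 * w * (y ^ 3)⁻¹ := by simp [pow_succ, mul_assoc]
      _ = w := by rw [← Subgroup.mem_centralizer_iff.1 hy3 w (hWT w.2), mul_inv_cancel_right]
  have hfree : ∀ w : W, π (cj y hyW w) = π w → π w = 1 := by
    intro w h
    rw [← mul_inv_eq_one, ← map_inv, ← map_mul, hπ] at h
    rw [hπ]
    exact hcopC w w.2 (by rwa [commutatorElement_def])
  have hsum : π v' * π v = π v'' := by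
    have h1 : π (v * v' * v'') = 1 := by
      refine hfree _ ?_
      rw [hcjmul y hyW, hcjmul y hyW, ← hv', ← hv'', show cj y hyW v'' = v from hy3W v, map_mul, map_mul, map_mul, map_mul,
        hQc v v', mul_assoc, mul_assoc, hQc v v'']
    rw [map_mul, map_mul, hQc v v', mul_eq_one_iff_eq_inv] at h1
    rw [h1]
    exact inv_eq_of_mul_eq_one_right (hQ2 v'')
  -- the section
  set H := C ⊔ Subgroup.closure ({x, y} : Set G)
  set K := C ⊔ Subgroup.closure ({(v : G), x, y} : Set G)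
  have hHK : H ≤ K := sup_le_sup_left (Subgroup.closure_mono (Set.subset_insert _ _)) C
  have hWH : ∀ w ∈ W, w ∈ H → w ∈ C := by
    intro w hw hwH
    have hn : Subgroup.closure ({x, y} : Set G) ≤ Subgroup.normalizer (C : Set G) := by
      refine (Subgroup.closure_le _).2 ?_
      rintro _ (rfl | rfl)
      exacts [hxC, hyC]
    rw [← SetLike.mem_coe, Subgroup.coe_mul_of_right_le_normalizer_left _ _ hn, Set.mem_mul] at hwH
    obtain ⟨c, hc, e, he, rfl⟩ := hwH
    refine mul_mem hc ?_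
    have heW : e ∈ W := by have := mul_mem (inv_mem (hCW hc)) hw; rwa [inv_mul_cancel_left] at this
    have heY : e ∈ Subgroup.normalizer ((Subgroup.zpowers y : Subgroup G) : Set G) := by
      refine (Subgroup.closure_le _).2 ?_ he
      rintro z (rfl | rfl)
      · refine Subgroup.mem_normalizer_fintype (fun a ha => ?_)
        obtain ⟨i, rfl⟩ := ha
        exact ⟨-i, (CfsgLib.Involution.Dihedral.conj_zpow hxy i).symm⟩
      · exact Subgroup.le_normalizer (Subgroup.mem_zpowers _)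
    refine hcopC e heW ?_
    have h1 : ⁅y, e⁆ ∈ W := by
      rw [commutatorElement_def]
      exact mul_mem ((Subgroup.mem_normalizer_iff.1 hyW e).1 heW) (inv_mem heW)
    have h2 : ⁅y, e⁆ ∈ Subgroup.zpowers y := by
      rw [commutatorElement_def, mul_assoc, mul_assoc, ← mul_assoc e]
      exact mul_mem (Subgroup.mem_zpowers y) ((Subgroup.mem_normalizer_iff.1 heY _).1 (inv_mem (Subgroup.mem_zpowers y)))
    have h3 : ⁅y, e⁆ = 1 := by
      have d2 := orderOf_dvd_of_mem_zpowers h2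
      obtain ⟨b, hb⟩ := IsPGroup.iff_orderOf.1 hW2 ⟨_, h1⟩
      rw [Subgroup.orderOf_mk] at hb
      rw [hky, hb] at d2
      refine orderOf_eq_one_iff.1 (hb.trans (Nat.eq_one_of_dvd_coprimes (Nat.Coprime.pow b ky (by norm_num : (2 : ℕ).Coprime 3)) dvd_rfl d2))
    rw [h3]
    exact one_mem C
  let H' : Subgroup K := H.subgroupOf K
  have hmemK : ∀ z ∈ ({(v : G), x, y} : Set G), z ∈ K := fun z hz => Subgroup.mem_sup_right (Subgroup.subset_closure hz)
  have hxK : x ∈ K := hmemK x (by simp)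
  have hyK : y ∈ K := hmemK y (by simp)
  have hvK : (v : G) ∈ K := hmemK v (by simp)
  have hCK : C ≤ K := le_sup_left
  let vK : K := ⟨v, hvK⟩
  let xK : K := ⟨x, hxK⟩
  let yK : K := ⟨y, hyK⟩
  let v'K : K := yK * vK * yK⁻¹
  have hv'K : (v'K : G) = (v' : G) := rfl
  let f : Fin 4 → K ⧸ H' := ![((1 : K) : K ⧸ H'), (vK : K ⧸ H'), (v'K : K ⧸ H'), ((v'K * vK : K) : K ⧸ H')]
  -- equality of cosets of elements of `W` modulo `C`
  have hEq : ∀ (a b : K) (a' b' : W), (a : G) = a' → (b : G) = b' → π a' = π b' → (a : K ⧸ H') = (b : K ⧸ H') := by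
    intro a b a' b' ha hb h
    rw [QuotientGroup.eq, Subgroup.mem_subgroupOf]
    refine le_sup_left (b := Subgroup.closure ({x, y} : Set G)) ?_
    rw [← inv_mul_eq_one, ← map_inv, ← map_mul, hπ] at h
    simpa [ha, hb] using h
  have hNe : ∀ (a b : K) (a' b' : W), (a : G) = a' → (b : G) = b' → (a : K ⧸ H') = (b : K ⧸ H') → π a' = π b' := by
    intro a b a' b' ha hb h
    rw [QuotientGroup.eq, Subgroup.mem_subgroupOf] at h
    rw [← inv_mul_eq_one, ← map_inv, ← map_mul, hπ]
    refine hWH _ (SetLike.coe_mem _) ?_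
    simpa [ha, hb] using h
  have hv'1 : π v' ≠ 1 := by
    intro h
    refine hvC ?_
    rw [hπ] at h ⊢
    have h' := (Subgroup.mem_normalizer_iff.1 hyC (v : G)).2 h
    exact h'
  have hvv' : π v' ≠ π v := fun h => hvC (hfree v h)
  have hv''1 : π v'' ≠ 1 := by
    intro h
    refine hv'1 ?_
    rw [hπ] at h ⊢
    exact (Subgroup.mem_normalizer_iff.1 hyC (v' : G)).2 h
  have hv''v : π v'' ≠ π v := fun h => hv'1 (by rwa [← hsum, mul_eq_right] at h)
  have hv''v' : π v'' ≠ π v' := fun h => hvC (by rwa [← hsum, mul_eq_left] at h)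
  let wt : Fin 4 → W := ![1, v, v', v' * v]
  let kt : Fin 4 → K := ![1, vK, v'K, v'K * vK]
  have hkt : ∀ i, (kt i : G) = (wt i : G) := by intro i; fin_cases i <;> rfl
  have hfk : ∀ i, f i = (kt i : K ⧸ H') := by intro i; fin_cases i <;> rfl
  have hfinj : Function.Injective f := by
    intro i j h
    rw [hfk, hfk] at h
    have h' := hNe _ _ (wt i) (wt j) (hkt i) (hkt j) h
    have hp : ∀ i, π (wt i) = ![1, π v, π v', π v''] i := by
      intro i
      fin_cases i
      · exact map_one π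
      · rfl
      · rfl
      · exact (map_mul π v' v).trans hsum
    rw [hp, hp] at h'
    fin_cases i <;> fin_cases j <;> first
      | rfl
      | exact absurd h' hvC
      | exact absurd h'.symm hvC
      | exact absurd h' hv'1
      | exact absurd h'.symm hv'1
      | exact absurd h' hvv'
      | exact absurd h'.symm hvv'
      | exact absurd h' hv''1
      | exact absurd h'.symm hv''1
      | exact absurd h' hv''v
      | exact absurd h'.symm hv''v
      | exact absurd h' hv''v'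
      | exact absurd h'.symm hv''v'
  have hW' : ∀ (a : K) (a' : W) (i : Fin 4), (a : G) = a' → π a' = π (wt i) → (a : K ⧸ H') = f i := fun a a' i ha h => by
    rw [hfk]; exact hEq a (kt i) a' (wt i) ha (hkt i) h
  -- permutations of the generators
  have hsv : ∀ i, vK • f i = f ((Equiv.swap (0 : Fin 4) 1 * Equiv.swap (2 : Fin 4) 3) i) := by
    intro i
    rw [hfk i, MulAction.Quotient.smul_mk]
    refine hW' _ (v * wt i) _ (by simp [hkt, vK]) ?_
    rw [map_mul, hQc]
    fin_cases i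
    · show π 1 * π v = π v
      rw [map_one, one_mul]
    · show π v * π v = π 1
      rw [hQ2, map_one]
    · show π v' * π v = π (v' * v)
      rw [map_mul]
    · show π (v' * v) * π v = π v'
      rw [map_mul, mul_assoc, hQ2, mul_one]
  have hsmul : ∀ (z : K) (hzH : (z : G) ∈ H) (hzW : (z : G) ∈ Subgroup.normalizer (W : Set G)) (i j : Fin 4),
      π (cj z hzW (wt i)) = π (wt j) → z • f i = f j := by
    intro z hzH hzW i j h
    rw [hfk i, MulAction.Quotient.smul_mk]
    have h1 : ((z * kt i : K) : K ⧸ H') = ((z * kt i * z⁻¹ : K) : K ⧸ H') := by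
      rw [QuotientGroup.eq, Subgroup.mem_subgroupOf]
      have h0 : (((z * kt i)⁻¹ * (z * kt i * z⁻¹) : K) : G) = (z : G)⁻¹ := by simp [mul_assoc]
      rw [h0]
      exact inv_mem hzH
    rw [smul_eq_mul, h1]
    exact hW' _ (cj z hzW (wt i)) j (by simp [cj, hkt]) h
  have hv'x : π (cj x hxW v') = π v'' := by
    have h1 : cj x hxW v' = cj y hyW (cj y hyW (cj x hxW v)) := by
      rw [← hy3W (cj x hxW v')]
      refine congrArg (fun t => cj y hyW (cj y hyW t)) (Subtype.ext ?_)
      show y * (x * (y * v * y⁻¹) * x⁻¹) * y⁻¹ = x * v * x⁻¹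
      calc y * (x * (y * v * y⁻¹) * x⁻¹) * y⁻¹ = y * (x * y * x⁻¹) * (x * v * x⁻¹) * (y * (x * y * x⁻¹))⁻¹ := by group
        _ = x * v * x⁻¹ := by rw [hxy]; group
    rw [h1, hv'', hv']
    exact hcj y hyW hyC _ _ (hcj y hyW hyC _ _ hvx)
  have hsx : ∀ i, xK • f i = f (Equiv.swap (2 : Fin 4) 3 i) := by
    intro i
    refine hsmul xK (Subgroup.mem_sup_right (Subgroup.subset_closure (by simp [xK]))) hxW i _ ?_
    fin_cases i
    · show π (cj x hxW 1) = π 1
      exact congrArg π (Subtype.ext (by simp [cj]))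
    · exact hvx
    · show π (cj x hxW v') = π (v' * v)
      rw [hv'x, map_mul, hsum]
    · show π (cj x hxW (v' * v)) = π v'
      rw [hcjmul x hxW, map_mul, hv'x, hvx, ← hsum, mul_assoc, hQ2, mul_one]
  have hsy : ∀ i, yK • f i = f ((Equiv.swap (1 : Fin 4) 2 * Equiv.swap (2 : Fin 4) 3) i) := by
    intro i
    refine hsmul yK (Subgroup.mem_sup_right (Subgroup.subset_closure (by simp [yK]))) hyW i _ ?_
    fin_cases i
    · show π (cj y hyW 1) = π 1
      exact congrArg π (Subtype.ext (by simp [cj]))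
    · rfl
    · show π v'' = π (v' * v)
      rw [map_mul, hsum]
    · show π (cj y hyW (v' * v)) = π v
      rw [hcjmul y hyW, map_mul, ← hv'', ← hv', ← hsum, hQc v' v, mul_assoc, hQ2, mul_one]
  have hsC : ∀ c : K, (c : G) ∈ C → ∀ i, c • f i = f i := by
    intro c hc i
    rw [hfk i, MulAction.Quotient.smul_mk]
    refine hEq _ _ (⟨c, hCW hc⟩ * wt i) (wt i) (by simp [hkt]) (hkt i) ?_
    rw [map_mul, (hπ ⟨c, hCW hc⟩).2 hc, one_mul]
  have hfsurj : Function.Surjective f := by
    have key : ∀ z : K, ∀ i, z • f i ∈ Set.range f := by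
      rintro ⟨z, hz⟩
      have hz' : z ∈ Subgroup.closure ((C : Set G) ∪ ({(v : G), x, y} : Set G)) := by
        rw [Subgroup.closure_union, Subgroup.closure_eq]; exact hz
      let S : Subgroup G := (MulAction.stabilizer K (Set.range f)).map K.subtype
      have hS : ∀ a : K, (∀ i, a • f i ∈ Set.range f) → (a : G) ∈ S := fun a ha => by
        refine ⟨a, ?_, rfl⟩
        rw [SetLike.mem_coe, MulAction.mem_stabilizer_iff]
        refine Set.eq_of_subset_of_ncard_le ?_ (Set.ncard_smul_set a _).ge (Set.toFinite _)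
        rintro _ ⟨_, ⟨i, rfl⟩, rfl⟩
        exact ha i
      have hzS : z ∈ S := by
        refine (Subgroup.closure_le _).2 ?_ hz'
        rintro w (hw | rfl | rfl | rfl)
        · exact hS ⟨w, hCK hw⟩ fun i => ⟨i, (hsC ⟨w, hCK hw⟩ hw i).symm⟩
        · exact hS vK fun i => ⟨_, (hsv i).symm⟩
        · exact hS xK fun i => ⟨_, (hsx i).symm⟩
        · exact hS yK fun i => ⟨_, (hsy i).symm⟩
      obtain ⟨a, ha, haz⟩ := hzS
      intro i
      rw [show (⟨z, hz⟩ : K) = a from Subtype.ext haz.symm]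
      rw [SetLike.mem_coe, MulAction.mem_stabilizer_iff] at ha
      exact ha ▸ Set.smul_mem_smul_set ⟨i, rfl⟩
    intro q
    induction q using QuotientGroup.induction_on with
    | H z =>
      obtain ⟨j, hj⟩ := key z 0
      refine ⟨j, hj.trans ?_⟩
      show z • ((1 : K) : K ⧸ H') = _
      rw [MulAction.Quotient.smul_mk, smul_eq_mul, mul_one]
  let ef : Fin 4 ≃ K ⧸ H' := Equiv.ofBijective f ⟨hfinj, hfsurj⟩
  let φ : K →* Equiv.Perm (Fin 4) := ef.symm.permCongrHom.toMonoidHom.comp (MulAction.toPermHom K (K ⧸ H'))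
  have hφ : ∀ (z : K) (σ : Equiv.Perm (Fin 4)), (∀ i, z • f i = f (σ i)) → σ ∈ φ.range := by
    intro z σ h
    refine ⟨z, Equiv.ext fun i => ?_⟩
    apply ef.injective
    show ef (ef.symm (z • ef i)) = ef (σ i)
    rw [Equiv.apply_symm_apply]
    exact h i
  exact of_surjective φ (MonoidHom.range_eq_top.1 (subgroup_eq_top (hφ vK _ hsv) (hφ yK _ hsy) (hφ xK _ hsx)))

/-- For a finite group G, the symmetric group of degree 4 is involved in G if and only if there is a 2-subgroup T of G such that the symmetric group of degree 3 is involved in N(T)/C(T). -/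
theorem result {G : Type*} [Group G] [Finite G] : Cfsg.Involves (Equiv.Perm (Fin 4)) G ↔ ∃ T : Subgroup G, IsPGroup 2 ↥T ∧ Cfsg.Involves (Equiv.Perm (Fin 3)) (↥(Subgroup.normalizer (T : Set G)) ⧸ (Subgroup.centralizer (T : Set G)).subgroupOf (Subgroup.normalizer (T : Set G))) := by
  classical
  obtain ⟨e3⟩ := perm_three_equiv
  haveI : Fact (Nat.Prime 3) := ⟨Nat.prime_three⟩
  constructor
  · intro h
    obtain ⟨K, f, hf⟩ := exists_surjective h
    let j : Equiv.Perm (Fin 3) →* Equiv.Perm (Fin 4) := Equiv.Perm.ofSubtype (p := fun i : Fin 4 => i ≠ 0) |>.comp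
      (finSuccAboveEquiv (0 : Fin 4)).permCongrHom.toMonoidHom
    have hj : Function.Injective j := Equiv.Perm.ofSubtype_injective.comp (finSuccAboveEquiv (0 : Fin 4)).permCongrHom.injective
    let V : Subgroup (Equiv.Perm (Fin 4)) :=
      { carrier := {σ | σ * σ = 1 ∧ Equiv.Perm.sign σ = 1}
        one_mem' := by decide
        mul_mem' := by
          have h : ∀ a b : Equiv.Perm (Fin 4), a * a = 1 ∧ Equiv.Perm.sign a = 1 → b * b = 1 ∧ Equiv.Perm.sign b = 1 →
              (a * b) * (a * b) = 1 ∧ Equiv.Perm.sign (a * b) = 1 := by decide +kernel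
          exact fun {a b} => h a b
        inv_mem' := by
          have h : ∀ a : Equiv.Perm (Fin 4), a * a = 1 ∧ Equiv.Perm.sign a = 1 → a⁻¹ * a⁻¹ = 1 ∧ Equiv.Perm.sign a⁻¹ = 1 := by decide +kernel
          exact fun {a} => h a }
    haveI : V.Normal := by
      refine ⟨fun n hn g => ⟨?_, ?_⟩⟩
      · have := hn.1
        calc g * n * g⁻¹ * (g * n * g⁻¹) = g * (n * n) * g⁻¹ := by group
          _ = 1 := by rw [this]; group
      · rw [map_mul, map_mul, hn.2, mul_one, ← map_mul, mul_inv_cancel, map_one]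
    have hV2 : IsPGroup 2 V := fun a => ⟨1, Subtype.ext (by
      show (a : Equiv.Perm (Fin 4)) ^ 2 ^ 1 = 1
      rw [pow_one, pow_two]; exact a.2.1)⟩
    set L := V.comap f
    haveI : Fact (Nat.Prime 2) := ⟨Nat.prime_two⟩
    let P : Sylow 2 L := default
    let T : Subgroup K := (P : Subgroup L).map L.subtype
    have hfr : Subgroup.normalizer (T : Set K) ⊔ L = ⊤ := Sylow.normalizer_sup_eq_top P
    let T' : Subgroup G := T.map K.subtype
    have hTP : IsPGroup 2 T' := (P.2.map _).map _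
    -- `T` maps onto `V`
    have hTV : ∀ σ ∈ V, ∃ t ∈ T, f t = σ := by
      intro σ hσ
      let g : L →* V := (f.comp L.subtype).codRestrict V (fun l => l.2)
      have hg : Function.Surjective g := fun s => by
        obtain ⟨l, hl⟩ := hf s.1
        exact ⟨⟨l, show f l ∈ V from hl ▸ s.2⟩, Subtype.ext hl⟩
      have htop : ((P.mapSurjective hg : Sylow 2 V) : Subgroup V) = ⊤ :=
        ((P.mapSurjective hg).3 (hV2.of_equiv Subgroup.topEquiv.symm) le_top).symm
      rw [Sylow.coe_mapSurjective] at htop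
      obtain ⟨l, hl, hlg⟩ := (htop ▸ Subgroup.mem_top (⟨σ, hσ⟩ : V) : (⟨σ, hσ⟩ : V) ∈ (P : Subgroup L).map g)
      exact ⟨l, ⟨l, hl, rfl⟩, congrArg Subtype.val hlg⟩
    set M : Subgroup K := Subgroup.normalizer (T : Set K) ⊓ (j.range).comap f
    have hMs : ∀ σ, ∃ m ∈ M, f m = j σ := by
      intro σ
      obtain ⟨k, hk⟩ := hf (j σ)
      have hk' : k ∈ Subgroup.normalizer (T : Set K) ⊔ L := hfr ▸ Subgroup.mem_top k
      rw [← SetLike.mem_coe, Subgroup.mul_normal, Set.mem_mul] at hk'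
      obtain ⟨n, hn, l, hl, rfl⟩ := hk'
      obtain ⟨t, ht, htl⟩ := hTV (f l) hl
      refine ⟨n * t, Subgroup.mem_inf.2 ⟨mul_mem hn (Subgroup.le_normalizer ht), ⟨σ, ?_⟩⟩, ?_⟩
      · rw [map_mul, htl, ← map_mul, hk]
      · rw [map_mul, htl, ← map_mul, hk]
    let q : M →* DihedralGroup 3 := e3.toMonoidHom.comp
      ((MonoidHom.ofInjective hj).symm.toMonoidHom.comp ((f.comp M.subtype).codRestrict j.range (fun m => (Subgroup.mem_inf.1 m.2).2)))
    have hq : Function.Surjective q := by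
      refine e3.surjective.comp ((MonoidHom.ofInjective hj).symm.surjective.comp ?_)
      rintro ⟨_, σ, rfl⟩
      obtain ⟨m, hm, hmσ⟩ := hMs σ
      exact ⟨⟨m, hm⟩, Subtype.ext hmσ⟩
    obtain ⟨x, y, hx, hy, ⟨i, hi, hqy⟩, -, hxy⟩ := exists_inverted (by decide) q hq
    have hN : ∀ m : M, (((m : K) : G)) ∈ Subgroup.normalizer (T' : Set G) := fun m => by
      have := Subgroup.le_normalizer_map (f := K.subtype) (H := T) ⟨(m : K), (Subgroup.mem_inf.1 m.2).1, rfl⟩
      exact this
    have hyc : ((y : K) : G) ∉ Subgroup.centralizer (T' : Set G) := by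
      intro hc
      have hcomm : ∀ σ ∈ V, σ * f y = f y * σ := by
        intro σ hσ
        obtain ⟨t, ht, rfl⟩ := hTV σ hσ
        rw [← map_mul, ← map_mul]
        exact congrArg f (Subtype.ext (Subgroup.mem_centralizer_iff.1 hc _ ⟨t, ht, rfl⟩))
      have hfy : f y = 1 := by
        have h0 : f (y : K) 0 = 0 := by
          obtain ⟨σ, hσ⟩ := (Subgroup.mem_inf.1 y.2).2
          rw [← hσ]
          exact Equiv.Perm.ofSubtype_apply_of_not_mem _ (by simp)
        have h : ∀ s : Equiv.Perm (Fin 4), (∀ σ : Equiv.Perm (Fin 4), σ * σ = 1 → Equiv.Perm.sign σ = 1 → σ * s = s * σ) → s 0 = 0 → s = 1 := by decide +kernel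
        exact h _ (fun σ h1 h2 => hcomm σ ⟨h1, h2⟩) h0
      refine hi ?_
      have h1 : q y = 1 := by
        show e3 ((MonoidHom.ofInjective hj).symm _) = 1
        rw [show ((f.comp M.subtype).codRestrict j.range (fun m => (Subgroup.mem_inf.1 m.2).2)) y = 1 from Subtype.ext hfy,
          map_one, map_one]
      rw [hqy, DihedralGroup.one_def] at h1
      exact DihedralGroup.r.inj h1
    refine ⟨T', hTP, involves_congr e3.symm ?_⟩
    let π := QuotientGroup.mk' ((Subgroup.centralizer (T' : Set G)).subgroupOf (Subgroup.normalizer (T' : Set G)))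
    obtain ⟨a, ha⟩ := hx
    obtain ⟨b, hb⟩ := hy
    refine involves_of_inverted (by decide) (x := π ⟨_, hN x⟩) (y := π ⟨_, hN y⟩) ?_ ?_ ?_ ?_
    · obtain ⟨c, -, hc⟩ := (Nat.dvd_prime_pow Nat.prime_two).1
        ((orderOf_map_dvd π ⟨_, hN x⟩).trans (by rw [Subgroup.orderOf_mk, Subgroup.orderOf_coe, Subgroup.orderOf_coe, ha]) : orderOf (π ⟨_, hN x⟩) ∣ 2 ^ a)
      exact ⟨c, hc⟩
    · obtain ⟨c, -, hc⟩ := (Nat.dvd_prime_pow Nat.prime_three).1
        ((orderOf_map_dvd π ⟨_, hN y⟩).trans (by rw [Subgroup.orderOf_mk, Subgroup.orderOf_coe, Subgroup.orderOf_coe, hb]) : orderOf (π ⟨_, hN y⟩) ∣ 3 ^ b)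
      exact ⟨c, hc⟩
    · intro h
      have h' := MonoidHom.mem_ker.2 h
      rw [QuotientGroup.ker_mk', Subgroup.mem_subgroupOf] at h'
      exact hyc h'
    · rw [← map_inv, ← map_mul, ← map_mul, ← map_inv]
      exact congrArg π (Subtype.ext (congrArg (fun m : M => ((m : K) : G)) hxy))
  · rintro ⟨T, hT, h⟩
    obtain ⟨Kb, f, hf⟩ := exists_surjective (involves_congr e3 h)
    let π := QuotientGroup.mk' ((Subgroup.centralizer (T : Set G)).subgroupOf (Subgroup.normalizer (T : Set G)))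
    let f' : Kb.comap π →* DihedralGroup 3 := f.comp ((π.comp (Kb.comap π).subtype).codRestrict Kb (fun a => a.2))
    have hf' : Function.Surjective f' := hf.comp (fun b => by
      obtain ⟨a, ha⟩ := QuotientGroup.mk'_surjective _ b.1
      exact ⟨⟨a, show π a ∈ Kb from ha.symm ▸ b.2⟩, Subtype.ext ha⟩)
    obtain ⟨x, y, hx, hy, ⟨i, hi, hfy⟩, -, hxy⟩ := exists_inverted (by decide) f' hf'
    obtain ⟨a, ha⟩ := hx
    obtain ⟨b, hb⟩ := hy
    set x' : G := ((x : Subgroup.normalizer (T : Set G)) : G)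
    set y' : G := ((y : Subgroup.normalizer (T : Set G)) : G)
    have hyc : y' ∉ Subgroup.centralizer (T : Set G) := by
      intro hc
      refine hi ?_
      have h1 : f' y = 1 := by
        show f _ = 1
        rw [show ((π.comp (Kb.comap π).subtype).codRestrict Kb (fun a => a.2)) y = 1 from
          Subtype.ext ((QuotientGroup.eq_one_iff _).2 (Subgroup.mem_subgroupOf.2 hc)), map_one]
      rw [hfy, DihedralGroup.one_def] at h1
      exact DihedralGroup.r.inj h1
    have hyo : orderOf y' = 3 ^ b := by rw [Subgroup.orderOf_coe, Subgroup.orderOf_coe, hb]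
    have hex : ∃ n, y' ^ 3 ^ n ∈ Subgroup.centralizer (T : Set G) := ⟨b, by rw [← hyo, pow_orderOf_eq_one]; exact one_mem _⟩
    obtain ⟨n, hn⟩ : ∃ n, Nat.find hex = n + 1 := Nat.exists_eq_succ_of_ne_zero (fun h0 => hyc (by
      have := Nat.find_spec hex
      rwa [h0, pow_zero, pow_one] at this))
    refine of_action hT (x := x') (y := y' ^ 3 ^ n) ⟨a, by rw [Subgroup.orderOf_coe, Subgroup.orderOf_coe, ha]⟩ ?_
      (x : Subgroup.normalizer (T : Set G)).2 (pow_mem (y : Subgroup.normalizer (T : Set G)).2 _)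
      (CfsgLib.Involution.Dihedral.conj_pow (congrArg (fun m : Kb.comap π => ((m : Subgroup.normalizer (T : Set G)) : G)) hxy) _) ?_ ?_
    · obtain ⟨c, -, hc⟩ := (Nat.dvd_prime_pow Nat.prime_three).1 (hyo ▸ orderOf_pow_dvd _ : orderOf (y' ^ 3 ^ n) ∣ 3 ^ b)
      exact ⟨c, hc⟩
    · exact Nat.find_min hex (by omega)
    · rw [← pow_mul, ← pow_succ, ← hn]
      exact Nat.find_spec hex

end Cfsg.Agent.S2759
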