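import Cfsg.Statements.S3755
import Cfsg.Agent.Lib.LocalEven.InvolvesDihedral
import Cfsg.Agent.Lib.Solvable.Cores
import Cfsg.Agent.Lib.Fusion.Thompson
import Cfsg.Agent.S2759

set_option autoImplicit false
open Cfsg

namespace Cfsg.Agent.S3755

section

variable {X : Type*} [Group X] [Finite X]

/-- In an odd group, a splitting with respect to an involutive automorphism. -/
theorem split_odd {K : Subgroup X} (hK : Odd (Nat.card K)) {b : X} (hb : b * b = 1)
    (hbK : ∀ x ∈ K, b * x * b⁻¹ ∈ K) {x : X} (hx : x ∈ K) :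
    ∃ c ∈ K, ∃ j ∈ K, b * c * b⁻¹ = c ∧ b * j * b⁻¹ = j⁻¹ ∧ x = c * j := by
  set k := x⁻¹ * (b * x * b⁻¹) with hk
  have hkK : k ∈ K := mul_mem (inv_mem hx) (hbK x hx)
  have hbi : b⁻¹ = b := inv_eq_of_mul_eq_one_right hb
  have hbk : b * k * b⁻¹ = k⁻¹ := by
    rw [hk, hbi, show b * (x⁻¹ * (b * x * b)) * b = (b * x⁻¹ * b) * x * (b * b) by group, hb, mul_one]
    simp only [mul_inv_rev, inv_inv, hbi, mul_assoc]
  have hodd : Odd (orderOf k) := by
    refine Odd.of_dvd_nat hK ?_
    rw [← Subgroup.orderOf_mk k hkK]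
    exact orderOf_dvd_natCard _
  obtain ⟨m, hm⟩ := hodd
  set j := (k ^ (m + 1))⁻¹ with hj
  have hbj : b * j * b⁻¹ = j⁻¹ := by
    rw [hj, inv_inv, show b * (k ^ (m + 1))⁻¹ * b⁻¹ = ((b * k * b⁻¹) ^ (m + 1))⁻¹ by
      rw [conj_pow]; group, hbk, inv_pow, inv_inv]
  have hjj : k * j * j = 1 := by
    have h1 : k ^ (m + 1) * k ^ (m + 1) = k := by
      rw [← pow_add, show m + 1 + (m + 1) = (2 * m + 1) + 1 by ring, pow_succ, ← hm, pow_orderOf_eq_one, one_mul]
    rw [hj, mul_assoc, ← mul_inv_rev, h1, mul_inv_cancel]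
  refine ⟨x * j⁻¹, mul_mem hx (inv_mem (inv_mem (pow_mem hkK _))), j, inv_mem (pow_mem hkK _), ?_, hbj,
    by group⟩
  calc b * (x * j⁻¹) * b⁻¹ = (b * x * b⁻¹) * (b * j * b⁻¹)⁻¹ := by group
    _ = (x * k) * j := by rw [hbj, hk, inv_inv]; group
    _ = x * (k * j * j) * j⁻¹ := by group
    _ = x * j⁻¹ := by rw [hjj, mul_one]

/-- An elementary abelian 2-group moving an odd group has a hyperplane centralising an inverted element. -/
theorem exists_hyperplane (A : Subgroup X) (hA : Cfsg.IsElementaryAbelian 2 A) :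
    ∀ (n : ℕ) (K : Subgroup X), Nat.card K ≤ n → Odd (Nat.card K) → A ≤ Subgroup.normalizer (K : Set X) →
      ¬ A ≤ Subgroup.centralizer (K : Set X) →
      ∃ B : Subgroup X, ∃ g ∈ K, ∃ a ∈ A, B ≤ A ∧ a ∉ B ∧ A ≤ B ⊔ Subgroup.zpowers a ∧
        (∀ b ∈ B, b * g = g * b) ∧ g ≠ 1 ∧ a * g * a⁻¹ = g⁻¹ := by
  intro n
  induction n with
  | zero => intro K h; exact absurd h (by have := Nat.card_pos (α := K); omega)
  | succ n ih =>
    intro K hn hodd hAK hnc
    have hAc : ∀ a ∈ A, ∀ b ∈ A, a * b = b * a := CfsgLib.Solvable.Basic.isMulCommutative_subgroup_iff.1 hA.1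
    have hsq : ∀ a ∈ A, a * a = 1 := fun a ha => by rw [← pow_two]; exact hA.2 a ha
    have hconj : ∀ a ∈ A, ∀ x ∈ K, a * x * a⁻¹ ∈ K := fun a ha x hx =>
      (Subgroup.mem_normalizer_iff.1 (hAK ha) x).1 hx
    set C0 := A ⊓ Subgroup.centralizer (K : Set X)
    obtain ⟨a, haA, hac⟩ : ∃ a ∈ A, a ∉ Subgroup.centralizer (K : Set X) := SetLike.not_le_iff_exists.1 hnc
    -- a fixed point subgroup not centralised by `A`
    by_cases hrec : ∃ b ∈ A, b ∉ Subgroup.centralizer (K : Set X) ∧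
        ∃ x ∈ K, b * x = x * b ∧ ∃ a' ∈ A, a' * x ≠ x * a'
    · obtain ⟨b, hb, hbc, x, hx, hbx, a', ha', hax⟩ := hrec
      set K' := K ⊓ Subgroup.centralizer {b}
      have hlt : Nat.card K' < Nat.card K := by
        refine lt_of_le_of_ne (Subgroup.card_le_of_le inf_le_left) fun h => hbc ?_
        have e : K' = K := Subgroup.eq_of_le_of_card_ge inf_le_left h.ge
        exact Subgroup.mem_centralizer_iff.2 fun y hy =>
          Subgroup.mem_centralizer_singleton_iff.1 (e.symm ▸ hy : y ∈ K').2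
      have hodd' : Odd (Nat.card K') := hodd.of_dvd_nat (Subgroup.card_dvd_of_le inf_le_left)
      have hAK' : A ≤ Subgroup.normalizer (K' : Set X) := by
        intro c hc
        have h1 : ∀ c ∈ A, ∀ y ∈ K', c * y * c⁻¹ ∈ K' := fun c hc y hy => by
          refine ⟨hconj c hc y hy.1, Subgroup.mem_centralizer_singleton_iff.2 ?_⟩
          calc c * y * c⁻¹ * b = c * y * (c⁻¹ * b) := by group
            _ = c * y * (b * c⁻¹) := by rw [hAc _ (inv_mem hc) _ hb]
            _ = c * (y * b) * c⁻¹ := by group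
            _ = c * (b * y) * c⁻¹ := by rw [Subgroup.mem_centralizer_singleton_iff.1 hy.2]
            _ = (c * b) * y * c⁻¹ := by group
            _ = (b * c) * y * c⁻¹ := by rw [hAc c hc b hb]
            _ = _ := by group
        rw [Subgroup.mem_normalizer_iff]
        refine fun y => ⟨h1 c hc y, fun hy => ?_⟩
        have := h1 c⁻¹ (inv_mem hc) _ hy
        simpa [mul_assoc] using this
      have hnc' : ¬ A ≤ Subgroup.centralizer (K' : Set X) := fun h => hax
        (Subgroup.mem_centralizer_iff.1 (h ha') x ⟨hx, Subgroup.mem_centralizer_singleton_iff.2 hbx.symm⟩).symm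
      obtain ⟨B, g, hg, a, ha, h⟩ := ih K' (by omega) hodd' hAK' hnc'
      exact ⟨B, g, hg.1, a, ha, h⟩
    push Not at hrec
    obtain ⟨x, hx, hax⟩ : ∃ x ∈ K, a * x ≠ x * a := by
      by_contra h
      push Not at h
      exact hac (Subgroup.mem_centralizer_iff.2 fun x hx => (h x hx).symm)
    -- the quotient by the kernel has order two
    have hidx : ∀ b ∈ A, b ∈ Subgroup.centralizer (K : Set X) ∨ a * b ∈ Subgroup.centralizer (K : Set X) := by
      intro b hb
      by_contra hcon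
      push Not at hcon
      obtain ⟨hbc, habc⟩ := hcon
      obtain ⟨c, hcK, y, hyK, hac', hay, hxy⟩ := split_odd hodd (hsq a haA) (hconj a haA) hx
      obtain ⟨d, hdK, j, hjK, hbd, hbj, hyd⟩ := split_odd hodd (hsq b hb) (hconj b hb) hyK
      have hdF : a * d = d * a := hrec b hb hbc d hdK (mul_inv_eq_iff_eq_mul.1 hbd) a haA
      have haj : a * j * a⁻¹ = d⁻¹ * j⁻¹ * d⁻¹ := by
        have h : a * y * a⁻¹ = d * (a * j * a⁻¹) := by
          rw [hyd]
          calc a * (d * j) * a⁻¹ = (a * d) * j * a⁻¹ := by group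
            _ = (d * a) * j * a⁻¹ := by rw [hdF]
            _ = _ := by group
        rw [hay, hyd] at h
        rw [← inv_mul_cancel_left d (a * j * a⁻¹), ← h]; group
      have hinvert : b * (a * j * a⁻¹) * b⁻¹ = (a * j * a⁻¹)⁻¹ := by
        calc b * (a * j * a⁻¹) * b⁻¹ = (b * a) * j * (b * a)⁻¹ := by group
          _ = (a * b) * j * (a * b)⁻¹ := by rw [hAc b hb a haA]
          _ = a * (b * j * b⁻¹) * a⁻¹ := by group
          _ = _ := by rw [hbj]; group
      have hdd : j⁻¹ * (d * d) * j = (d * d)⁻¹ := by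
        rw [haj] at hinvert
        have h1 : b * (d⁻¹ * j⁻¹ * d⁻¹) * b⁻¹ = d⁻¹ * j * d⁻¹ := by
          calc b * (d⁻¹ * j⁻¹ * d⁻¹) * b⁻¹ = (b * d * b⁻¹)⁻¹ * (b * j * b⁻¹)⁻¹ * (b * d * b⁻¹)⁻¹ := by group
            _ = _ := by rw [hbd, hbj]; group
        rw [h1] at hinvert
        calc j⁻¹ * (d * d) * j = j⁻¹ * (d * (d * j * d) * d⁻¹) := by group
          _ = j⁻¹ * (d * (d⁻¹ * j⁻¹ * d⁻¹)⁻¹ * d⁻¹) := by group
          _ = j⁻¹ * (d * (d⁻¹ * j * d⁻¹) * d⁻¹) := by rw [← hinvert]
          _ = _ := by group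
      have hcardK : ∀ z ∈ K, z * z = 1 → z = 1 := fun z hz h => by
        have h2 : orderOf z ∣ 2 := orderOf_dvd_of_pow_eq_one (by rw [pow_two, h])
        have h3 : Odd (orderOf z) := hodd.of_dvd_nat (by rw [← Subgroup.orderOf_mk z hz]; exact orderOf_dvd_natCard _)
        rcases (Nat.dvd_prime Nat.prime_two).1 h2 with h4 | h4
        · exact orderOf_eq_one_iff.1 h4
        · rw [h4] at h3; exact absurd h3 (by decide)
      have hd1 : d = 1 := by
        set e := d * d
        have hje : j⁻¹ * e⁻¹ * j = e := by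
          rw [show j⁻¹ * e⁻¹ * j = (j⁻¹ * e * j)⁻¹ by group, hdd, inv_inv]
        have hoddj : Odd (orderOf j) := hodd.of_dvd_nat (by rw [← Subgroup.orderOf_mk j hjK]; exact orderOf_dvd_natCard _)
        have hconj2 : ∀ m : ℕ, (j ^ (2 * m + 1))⁻¹ * e * j ^ (2 * m + 1) = e⁻¹ := by
          intro m
          induction m with
          | zero => rw [Nat.mul_zero, zero_add, pow_one]; exact hdd
          | succ m ihm =>
            rw [show 2 * (m + 1) + 1 = (2 * m + 1) + 1 + 1 by ring, pow_succ, pow_succ]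
            calc (j ^ (2 * m + 1) * j * j)⁻¹ * e * (j ^ (2 * m + 1) * j * j)
                = j⁻¹ * (j⁻¹ * ((j ^ (2 * m + 1))⁻¹ * e * j ^ (2 * m + 1)) * j) * j := by group
              _ = j⁻¹ * e * j := by rw [ihm, hje]
              _ = _ := hdd
        obtain ⟨m, hm⟩ := hoddj
        have h := hconj2 m
        rw [← hm, pow_orderOf_eq_one, inv_one, one_mul, mul_one] at h
        have he : e = 1 := hcardK e (mul_mem hdK hdK) (eq_inv_iff_mul_eq_one.1 h)
        exact hcardK d hdK he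
      have hyj : y = j := by rw [hyd, hd1, one_mul]
      have hyab : (a * b) * y = y * (a * b) := by
        refine mul_inv_eq_iff_eq_mul.1 ?_
        calc a * b * y * (a * b)⁻¹ = a * (b * y * b⁻¹) * a⁻¹ := by group
          _ = (a * y * a⁻¹)⁻¹ := by rw [hyj, hbj]; group
          _ = y := by rw [hay, inv_inv]
      have hyF : a * y = y * a := hrec (a * b) (mul_mem haA hb) habc y hyK hyab a haA
      have hy1 : y = 1 := hcardK y hyK (by
        have := hay; rw [hyF, mul_inv_cancel_right] at this; exact eq_inv_iff_mul_eq_one.1 this)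
      refine hax ?_
      rw [hxy, hy1, mul_one]
      exact mul_inv_eq_iff_eq_mul.1 hac'
    refine ⟨C0, x⁻¹ * (a * x * a⁻¹), mul_mem (inv_mem hx) (hconj a haA x hx), a, haA, inf_le_left,
      fun h => hac h.2, fun b hb => ?_, fun b hb => ?_, fun h => hax (mul_inv_eq_iff_eq_mul.1 (inv_mul_eq_one.1 h).symm), ?_⟩
    · rcases hidx b hb with h | h
      · exact Subgroup.mem_sup_left ⟨hb, h⟩
      · rw [show b = a * (a * b) by rw [← mul_assoc, hsq a haA, one_mul]]
        exact mul_mem (Subgroup.mem_sup_right (Subgroup.mem_zpowers a)) (Subgroup.mem_sup_left ⟨mul_mem haA hb, h⟩)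
    · exact (Subgroup.mem_centralizer_iff.1 hb.2 _ (mul_mem (inv_mem hx) (hconj a haA x hx))).symm
    · have hai : a⁻¹ = a := inv_eq_of_mul_eq_one_right (hsq a haA)
      rw [hai, show a * (x⁻¹ * (a * x * a)) * a = (a * x⁻¹ * a) * x * (a * a) by group, hsq a haA, mul_one]
      simp only [mul_inv_rev, inv_inv, hai, mul_assoc]

/-- A prime order power of an inverted element. -/
theorem exists_prime_power {g a : X} (hg : g ≠ 1) (hag : a * g * a⁻¹ = g⁻¹) :
    ∃ m : ℕ, (orderOf (g ^ m)).Prime ∧ a * g ^ m * a⁻¹ = (g ^ m)⁻¹ := by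
  obtain ⟨p, hp, hd⟩ := Nat.exists_prime_and_dvd (mt orderOf_eq_one_iff.1 hg)
  refine ⟨orderOf g / p, ?_, CfsgLib.Involution.Dihedral.conj_pow hag _⟩
  rw [orderOf_pow_orderOf_div (orderOf_pos g).ne' hd]
  exact hp

/-- The weight bound. -/
theorem bound {V K : Subgroup X} (hV : Cfsg.IsElementaryAbelian 2 V) (hK : Odd (Nat.card K))
    (hKV : K ≤ Subgroup.normalizer (V : Set X)) (hfaith : K ⊓ Subgroup.centralizer (V : Set X) = ⊥)
    (A₀ : Subgroup X)
    (hS3 : ∀ a g : X, a ∈ A₀ → g ∈ K → a * a = 1 → orderOf g = 3 → a * g * a⁻¹ = g⁻¹ → False) :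
    ∀ (n : ℕ) (A : Subgroup X), Nat.card A ≤ n → A ≤ A₀ → Cfsg.IsElementaryAbelian 2 A →
      A ≤ Subgroup.normalizer (V : Set X) → A ≤ Subgroup.normalizer (K : Set X) →
      A ⊓ Subgroup.centralizer (K : Set X) = ⊥ →
      Nat.card A ^ 2 * Nat.card ↥(V ⊓ Subgroup.centralizer (A : Set X)) ≤ Nat.card V := by
  intro n
  induction n with
  | zero => intro A h; exact absurd h (by have := Nat.card_pos (α := A); omega)
  | succ n ih =>
    intro A hn hA0 hA hAV hAK hAc
    by_cases hA1 : A = ⊥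
    · subst hA1
      rw [Subgroup.card_bot, one_pow, one_mul]
      exact Subgroup.card_le_of_le inf_le_left
    obtain ⟨B, g0, hg0, a, ha, hBA, haB, hgen, hcomm, hg01, hinv0⟩ :=
      exists_hyperplane A hA _ K le_rfl hK hAK fun h => hA1 (le_bot_iff.1 (hAc ▸ le_inf le_rfl h))
    obtain ⟨m, hp, hinv⟩ := exists_prime_power hg01 hinv0
    set g := g0 ^ m
    have hgK : g ∈ K := pow_mem hg0 m
    have hBg : ∀ b ∈ B, b * g = g * b := fun b hb => (Commute.pow_right (hcomm b hb) m).eq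
    have ha2 : a * a = 1 := by rw [← pow_two]; exact hA.2 a ha
    have hgodd : Odd (orderOf g) :=
      hK.of_dvd_nat (by rw [← Subgroup.orderOf_mk g hgK]; exact orderOf_dvd_natCard _)
    have hg3 : orderOf g ≠ 3 := fun h => hS3 a g (hA0 ha) hgK ha2 h hinv
    have hlt : Nat.card B < Nat.card A := lt_of_le_of_ne (Subgroup.card_le_of_le hBA) fun h =>
      haB ((Subgroup.eq_of_le_of_card_ge hBA h.ge).symm ▸ ha)
    have hIH := ih B (by omega) (hBA.trans hA0) (CfsgLib.Fusion.Thompson.isEA_le hA hBA) (hBA.trans hAV) (hBA.trans hAK)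
      (le_bot_iff.1 (hAc ▸ inf_le_inf_right _ hBA))
    set U := V ⊓ Subgroup.centralizer (B : Set X) with hU
    have hVc : ∀ u ∈ V, ∀ v ∈ V, u * v = v * u := CfsgLib.Solvable.Basic.isMulCommutative_subgroup_iff.1 hV.1
    have hV2 : ∀ v ∈ V, v * v = 1 := fun v hv => by rw [← pow_two]; exact hV.2 v hv
    have hgV : ∀ v ∈ V, g * v * g⁻¹ ∈ V := fun v hv => (Subgroup.mem_normalizer_iff.1 (hKV hgK) v).1 hv
    have hg1 : g ≠ 1 := fun h => by rw [h, orderOf_one] at hp; exact Nat.not_prime_one hp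
    -- `g` moves `U`
    have hmove : ∃ u ∈ U, g * u * g⁻¹ ≠ u := by
      let W : Subgroup X :=
        { carrier := {w | ∃ v ∈ V, w = g * v * g⁻¹ * v⁻¹}
          one_mem' := ⟨1, one_mem V, by group⟩
          mul_mem' := fun {w w'} h h' => by
            obtain ⟨v, hv, rfl⟩ := h
            obtain ⟨v', hv', rfl⟩ := h'
            refine ⟨v * v', mul_mem hv hv', ?_⟩
            have h1 := hVc (v⁻¹) (inv_mem hv) (g * v' * g⁻¹ * v'⁻¹) (mul_mem (hgV v' hv') (inv_mem hv'))
            calc g * v * g⁻¹ * v⁻¹ * (g * v' * g⁻¹ * v'⁻¹)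
                = g * v * g⁻¹ * (v⁻¹ * (g * v' * g⁻¹ * v'⁻¹)) := by group
              _ = g * v * g⁻¹ * ((g * v' * g⁻¹ * v'⁻¹) * v⁻¹) := by rw [h1]
              _ = _ := by group
          inv_mem' := fun {w} h => by
            obtain ⟨v, hv, rfl⟩ := h
            refine ⟨v⁻¹, inv_mem hv, ?_⟩
            have h1 := hVc (g * v⁻¹ * g⁻¹) (hgV _ (inv_mem hv)) v hv
            calc (g * v * g⁻¹ * v⁻¹)⁻¹ = v * (g * v⁻¹ * g⁻¹) := by group
              _ = (g * v⁻¹ * g⁻¹) * v := by rw [h1]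
              _ = _ := by group }
      have hWV : ∀ w ∈ W, w ∈ V := by
        rintro _ ⟨v, hv, rfl⟩; exact mul_mem (hgV v hv) (inv_mem hv)
      have hBW : B ≤ Subgroup.normalizer (W : Set X) := by
        intro b hb
        have h1 : ∀ b ∈ B, ∀ w ∈ W, b * w * b⁻¹ ∈ W := by
          rintro b hb _ ⟨v, hv, rfl⟩
          refine ⟨b * v * b⁻¹, (Subgroup.mem_normalizer_iff.1 (hAV (hBA hb)) v).1 hv, ?_⟩
          have hc := hBg b hb
          calc b * (g * v * g⁻¹ * v⁻¹) * b⁻¹ = (b * g) * v * g⁻¹ * v⁻¹ * b⁻¹ := by group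
            _ = (g * b) * v * g⁻¹ * v⁻¹ * b⁻¹ := by rw [hc]
            _ = g * b * v * (g⁻¹ * b⁻¹) * (b * v⁻¹ * b⁻¹) := by group
            _ = g * b * v * (b⁻¹ * g⁻¹) * (b * v⁻¹ * b⁻¹) := by rw [← mul_inv_rev, hc, mul_inv_rev]
            _ = _ := by group
        rw [Subgroup.mem_normalizer_iff]
        refine fun w => ⟨h1 b hb w, fun hw => ?_⟩
        have := h1 b⁻¹ (inv_mem hb) _ hw
        simpa [mul_assoc] using this
      by_contra hfix
      push Not at hfix
      have hWne : Nat.card W ≠ 1 := by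
        intro h
        refine hg1 (Subgroup.mem_bot.1 (hfaith ▸ Subgroup.mem_inf.2 ⟨hgK, Subgroup.mem_centralizer_iff.2 fun v hv => ?_⟩))
        have hw : g * v * g⁻¹ * v⁻¹ ∈ W := ⟨v, hv, rfl⟩
        rw [Subgroup.card_eq_one] at h
        rw [h, Subgroup.mem_bot] at hw
        exact (mul_inv_eq_iff_eq_mul.1 (mul_inv_eq_one.1 hw)).symm
      haveI : Fact (Nat.Prime 2) := ⟨Nat.prime_two⟩
      have hW2 : IsPGroup 2 W := fun w => ⟨1, Subtype.ext (by
        show (w : X) ^ 2 ^ 1 = 1; rw [pow_one, pow_two]; exact hV2 _ (hWV _ w.2))⟩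
      have hB2 : IsPGroup 2 B := (CfsgLib.Fusion.Thompson.isPGroup_isEA hA).to_le hBA
      let φ : B →* MulAut W := (Subgroup.normalizerMonoidHom W).comp (Subgroup.inclusion hBW)
      letI : MulAction B W := MulAction.compHom W φ
      obtain ⟨k, hk⟩ := IsPGroup.iff_card.1 hW2
      have hd : 2 ∣ Nat.card W := by rw [hk]; exact dvd_pow_self 2 fun h => hWne (by rw [hk, h, pow_zero])
      have h1 : (1 : W) ∈ MulAction.fixedPoints B W := fun b => map_one (φ b)
      obtain ⟨⟨w, hw⟩, hwf, hw1⟩ := hB2.exists_fixed_point_of_prime_dvd_card_of_fixed_point W hd h1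
      have hwU : w ∈ U := ⟨hWV w hw, Subgroup.mem_centralizer_iff.2 fun b hb => by
        have h := congrArg Subtype.val (hwf ⟨b, hb⟩)
        exact mul_inv_eq_iff_eq_mul.1 h⟩
      have hgw := hfix w hwU
      obtain ⟨v, hv, hwv⟩ := hw
      have hiter : ∀ i : ℕ, g ^ i * v * (g ^ i)⁻¹ = w ^ i * v := by
        intro i
        induction i with
        | zero => simp
        | succ i ihi =>
          have hcw : Commute g w := mul_inv_eq_iff_eq_mul.1 hgw
          calc g ^ (i + 1) * v * (g ^ (i + 1))⁻¹ = g * (g ^ i * v * (g ^ i)⁻¹) * g⁻¹ := by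
                rw [pow_succ']; group
            _ = (g * w ^ i) * v * g⁻¹ := by rw [ihi]; group
            _ = w ^ i * (g * v * g⁻¹ * v⁻¹) * v := by rw [(hcw.pow_right i).eq]; group
            _ = w ^ (i + 1) * v := by rw [← hwv, pow_succ]
      have h2 := hiter (orderOf g)
      rw [pow_orderOf_eq_one, one_mul, inv_one, mul_one] at h2
      have hwo : w ^ orderOf g = 1 := mul_eq_right.1 h2.symm
      obtain ⟨i, hi⟩ := hgodd
      rw [hi, pow_succ, pow_mul, pow_two, hV2 w (hWV w ⟨v, hv, hwv⟩), one_pow, one_mul] at hwo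
      exact hw1 (Subtype.ext hwo.symm)
    -- the fixed points of `a` on `U` have index at least four
    have hUinv : ∀ x ∈ Subgroup.normalizer (V : Set X), (∀ b ∈ B, x * b = b * x) → ∀ u ∈ U, x * u * x⁻¹ ∈ U := by
      intro x hxV hxB u hu
      refine ⟨(Subgroup.mem_normalizer_iff.1 hxV u).1 hu.1, Subgroup.mem_centralizer_iff.2 fun b hb => ?_⟩
      calc b * (x * u * x⁻¹) = (b * x) * u * x⁻¹ := by group
        _ = (x * b) * u * x⁻¹ := by rw [hxB b hb]
        _ = x * (b * u) * x⁻¹ := by group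
        _ = x * (u * b) * x⁻¹ := by rw [Subgroup.mem_centralizer_iff.1 hu.2 b hb]
        _ = x * u * (b * x⁻¹) := by group
        _ = x * u * (x⁻¹ * b) := by rw [Commute.inv_right (show Commute b x from (hxB b hb).symm)]
        _ = _ := by group
    have hgU := hUinv g (hKV hgK) (fun b hb => (hBg b hb).symm)
    have hCA : V ⊓ Subgroup.centralizer (A : Set X) = U ⊓ Subgroup.centralizer {a} := by
      refine le_antisymm (le_inf (inf_le_inf_left _ (Subgroup.centralizer_le hBA))
        (inf_le_right.trans (Subgroup.centralizer_le (Set.singleton_subset_iff.2 ha)))) ?_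
      rintro u ⟨⟨hu, huB⟩, hua⟩
      refine ⟨hu, Subgroup.mem_centralizer_iff.2 fun x hx => ?_⟩
      have hle : A ≤ Subgroup.centralizer {u} := hgen.trans (sup_le
        (fun b hb => Subgroup.mem_centralizer_singleton_iff.2 (Subgroup.mem_centralizer_iff.1 huB b hb))
        (Subgroup.zpowers_le.2 (Subgroup.mem_centralizer_singleton_iff.2
          (Subgroup.mem_centralizer_singleton_iff.1 hua).symm)))
      exact Subgroup.mem_centralizer_singleton_iff.1 (hle hx)
    set C := U ⊓ Subgroup.centralizer {a}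
    have h4 : 4 * Nat.card C ≤ Nat.card U := by
      set i := C.relIndex U with hidef
      have hmul : i * Nat.card C = Nat.card U := by
        rw [hidef, Subgroup.relIndex, ← Nat.card_congr (Subgroup.subgroupOfEquivOfLe (inf_le_left : C ≤ U)).toEquiv,
          Subgroup.index_mul_card]
      obtain ⟨k, -, hk⟩ := (Nat.dvd_prime_pow Nat.prime_two).1
        ((Subgroup.relIndex_dvd_card C U).trans (dvd_of_eq (Classical.choose_spec
          (IsPGroup.iff_card.1 (IsPGroup.to_le (fun v => ⟨1, Subtype.ext (by simpa using hV.2 _ v.2)⟩ : IsPGroup 2 V)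
            (inf_le_left : U ≤ V))))))
      rw [← hmul, hidef, hk]
      refine Nat.mul_le_mul_right _ ?_
      by_contra hsmall
      have hi2 : i ≤ 2 := by
        rw [hidef, hk]
        rcases k with _ | _ | k
        · simp
        · simp
        · exact absurd hsmall (by rw [not_not, pow_succ, pow_succ]; have := Nat.one_le_two_pow (n := k); omega)
      -- `g` fixes a subgroup of index at most four
      have hxfix : ∀ x ∈ U ⊓ Subgroup.centralizer {a}, ∀ y ∈ U, g * y * g⁻¹ = x → a * y * a⁻¹ = g * (g * y * g⁻¹) * g⁻¹ := by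
        intro x hx y _ hyx
        have hax : a * x = x * a := (Subgroup.mem_centralizer_singleton_iff.1 hx.2).symm
        calc a * y * a⁻¹ = (a * g * a⁻¹)⁻¹ * (a * (g * y * g⁻¹) * a⁻¹) * (a * g * a⁻¹) := by group
          _ = g⁻¹⁻¹ * (a * (g * y * g⁻¹) * a⁻¹) * g⁻¹ := by rw [hinv]
          _ = g * (g * y * g⁻¹) * g⁻¹ := by rw [hyx, hax, mul_inv_cancel_right, inv_inv]
      set D := U.comap (MulAut.conj g).toMonoidHom ⊓ (Subgroup.centralizer {a}).comap (MulAut.conj g).toMonoidHom with hD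
      set F := U ⊓ Subgroup.centralizer {g} with hF
      have hDU : D ⊓ C ≤ F := by
        intro y hy
        refine ⟨hy.2.1, Subgroup.mem_centralizer_singleton_iff.2 ?_⟩
        have hya : a * y * a⁻¹ = y := by
          rw [(Subgroup.mem_centralizer_singleton_iff.1 hy.2.2).symm, mul_inv_cancel_right]
        have h := hxfix _ (show g * y * g⁻¹ ∈ U ⊓ Subgroup.centralizer {a} from ⟨hy.1.1, hy.1.2⟩) y hy.2.1 rfl
        rw [hya] at h
        obtain ⟨m, hm⟩ := hgodd
        have hm2 : ∀ t : ℕ, (g ^ (2 * t)) * y * (g ^ (2 * t))⁻¹ = y := by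
          intro t
          induction t with
          | zero => simp
          | succ t iht =>
            calc g ^ (2 * (t + 1)) * y * (g ^ (2 * (t + 1)))⁻¹
                = g * (g * (g ^ (2 * t) * y * (g ^ (2 * t))⁻¹) * g⁻¹) * g⁻¹ := by
                  rw [show 2 * (t + 1) = 2 * t + 1 + 1 by ring, pow_succ', pow_succ']; group
              _ = y := by rw [iht]; exact h.symm
        have := hm2 (m + 1)
        rw [show 2 * (m + 1) = orderOf g + 1 by omega, pow_succ, pow_orderOf_eq_one, one_mul] at this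
        exact (mul_inv_eq_iff_eq_mul.1 this).symm
      have hidxF : F.relIndex U ≤ 4 := by
        have h1 : (D ⊓ C).relIndex U ≤ D.relIndex U * C.relIndex U := Subgroup.relIndex_inf_le
        have hDi : D.relIndex U = i := by
          rw [hidef, hD, ← Subgroup.comap_inf, Subgroup.relIndex_comap]
          congr 1
          refine le_antisymm (by rintro _ ⟨u, hu, rfl⟩; exact hgU u hu) fun u hu => ?_
          refine ⟨g⁻¹ * u * g⁻¹⁻¹, hUinv g⁻¹ (inv_mem (hKV hgK))
            (fun b hb => (Commute.inv_left (show Commute g b from (hBg b hb).symm)).eq) u hu, ?_⟩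
          show g * (g⁻¹ * u * g⁻¹⁻¹) * g⁻¹ = u
          group
        have h2 : F.relIndex U ≤ (D ⊓ C).relIndex U :=
          Nat.le_of_dvd (Nat.pos_of_ne_zero Subgroup.index_ne_zero_of_finite) (Subgroup.relIndex_dvd_of_le_left U hDU)
        rw [hDi, ← hidef] at h1
        exact (h2.trans h1).trans ((Nat.mul_le_mul hi2 hi2))
      -- so `g` has order at most three
      let FU := F.subgroupOf U
      haveI : (FU).Normal := ⟨fun z hz w => by
        have : w * z * w⁻¹ = z := Subtype.ext (by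
          show (w : X) * z * (w : X)⁻¹ = z
          rw [hVc _ w.2.1 _ z.2.1, mul_inv_cancel_right])
        rwa [this]⟩
      let σ : U →* U :=
        { toFun := fun u => ⟨g * u * g⁻¹, hgU u u.2⟩
          map_one' := Subtype.ext (by simp)
          map_mul' := fun u v => Subtype.ext (by simp [mul_assoc]) }
      let δ : U → U := fun u => σ u * u⁻¹
      have hδfix : ∀ u v : U, u⁻¹ * v ∈ FU → δ u = δ v := by
        intro u v huv
        have h : σ (u⁻¹ * v) = u⁻¹ * v := Subtype.ext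
          (mul_inv_eq_iff_eq_mul.2 (Subgroup.mem_centralizer_singleton_iff.1 (Subgroup.mem_subgroupOf.1 huv).2).symm)
        have e : v = u * (u⁻¹ * v) := (mul_inv_cancel_left u v).symm
        show σ u * u⁻¹ = σ v * v⁻¹
        rw [e, map_mul, h, mul_inv_rev]; group
      obtain ⟨u0, hu0, hu0g⟩ := hmove
      -- the orbit of a moved element
      let orb : Fin (orderOf g) → U ⧸ FU := fun t =>
        QuotientGroup.mk ⟨g ^ (t : ℕ) * u0 * (g ^ (t : ℕ))⁻¹, hUinv _ (pow_mem (hKV hgK) _)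
          (fun b hb => ((show Commute g b from (hBg b hb).symm).pow_left _).eq) u0 hu0⟩
      have hconj : ∀ (s : ℕ) (u v : U), δ u = δ v → g ^ s * u * (g ^ s)⁻¹ * (u : X)⁻¹ = g ^ s * v * (g ^ s)⁻¹ * (v : X)⁻¹ := by
        intro s u v huv
        have h : g * u * g⁻¹ * (u : X)⁻¹ = g * v * g⁻¹ * (v : X)⁻¹ := congrArg Subtype.val huv
        induction s with
        | zero => simp
        | succ s ihs =>
          calc g ^ (s + 1) * u * (g ^ (s + 1))⁻¹ * (u : X)⁻¹
              = g * (g ^ s * u * (g ^ s)⁻¹ * (u : X)⁻¹) * g⁻¹ * (g * u * g⁻¹ * (u : X)⁻¹) := by rw [pow_succ']; group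
            _ = g * (g ^ s * v * (g ^ s)⁻¹ * (v : X)⁻¹) * g⁻¹ * (g * v * g⁻¹ * (v : X)⁻¹) := by rw [ihs, h]
            _ = _ := by rw [pow_succ']; group
      have horb : Function.Injective orb := by
        intro s t hst
        by_contra hne
        have h := hδfix _ _ (QuotientGroup.eq.1 hst)
        have h' : g ^ (s : ℕ) * (g * u0 * g⁻¹ * u0⁻¹) * (g ^ (s : ℕ))⁻¹ = g ^ (t : ℕ) * (g * u0 * g⁻¹ * u0⁻¹) * (g ^ (t : ℕ))⁻¹ := by
          have := congrArg Subtype.val h
          change g * (g ^ (s : ℕ) * u0 * (g ^ (s : ℕ))⁻¹) * g⁻¹ * (g ^ (s : ℕ) * u0 * (g ^ (s : ℕ))⁻¹)⁻¹ =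
            g * (g ^ (t : ℕ) * u0 * (g ^ (t : ℕ))⁻¹) * g⁻¹ * (g ^ (t : ℕ) * u0 * (g ^ (t : ℕ))⁻¹)⁻¹ at this
          have e : ∀ r : ℕ, g * (g ^ r * u0 * (g ^ r)⁻¹) * g⁻¹ * (g ^ r * u0 * (g ^ r)⁻¹)⁻¹ =
              g ^ r * (g * u0 * g⁻¹ * u0⁻¹) * (g ^ r)⁻¹ := fun r => by
            calc g * (g ^ r * u0 * (g ^ r)⁻¹) * g⁻¹ * (g ^ r * u0 * (g ^ r)⁻¹)⁻¹
                = (g * g ^ r) * u0 * (g * g ^ r)⁻¹ * (g ^ r * u0⁻¹ * (g ^ r)⁻¹) := by group
              _ = (g ^ r * g) * u0 * (g ^ r * g)⁻¹ * (g ^ r * u0⁻¹ * (g ^ r)⁻¹) := by rw [(Commute.self_pow g r).eq]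
              _ = _ := by group
          rwa [e, e] at this
        set d := g * u0 * g⁻¹ * u0⁻¹ with hd
        have hcomm' : ((g ^ (t : ℕ))⁻¹ * g ^ (s : ℕ)) * d = d * ((g ^ (t : ℕ))⁻¹ * g ^ (s : ℕ)) := by
          refine mul_inv_eq_iff_eq_mul.1 ?_
          calc (g ^ (t : ℕ))⁻¹ * g ^ (s : ℕ) * d * ((g ^ (t : ℕ))⁻¹ * g ^ (s : ℕ))⁻¹
              = (g ^ (t : ℕ))⁻¹ * (g ^ (s : ℕ) * d * (g ^ (s : ℕ))⁻¹) * g ^ (t : ℕ) := by group
            _ = d := by rw [h']; group
        have hgen' : Subgroup.zpowers g ≤ Subgroup.zpowers ((g ^ (t : ℕ))⁻¹ * g ^ (s : ℕ)) := by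
          have hmem : (g ^ (t : ℕ))⁻¹ * g ^ (s : ℕ) ∈ Subgroup.zpowers g :=
            mul_mem (inv_mem (pow_mem (Subgroup.mem_zpowers g) _)) (pow_mem (Subgroup.mem_zpowers g) _)
          haveI : Fact (orderOf g).Prime := ⟨hp⟩
          have hdvd := Subgroup.card_dvd_of_le (Subgroup.zpowers_le.2 hmem)
          rw [Nat.card_zpowers g] at hdvd
          rcases (Nat.dvd_prime hp).1 hdvd with h1 | h1
          · rw [Subgroup.card_eq_one, Subgroup.zpowers_eq_bot, inv_mul_eq_one] at h1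
            exact absurd (Fin.ext (pow_injOn_Iio_orderOf t.isLt s.isLt h1)).symm hne
          · exact (Subgroup.eq_of_le_of_card_ge (Subgroup.zpowers_le.2 hmem) (by rw [h1, Nat.card_zpowers])).ge
        have hgd : g * d = d * g :=
          Subgroup.mem_centralizer_singleton_iff.1 ((Subgroup.zpowers_le.2
            (Subgroup.mem_centralizer_singleton_iff.2 hcomm' : _ ∈ Subgroup.centralizer {d}))
              (hgen' (Subgroup.mem_zpowers g)))
        have hiter : ∀ r : ℕ, g ^ r * u0 * (g ^ r)⁻¹ = d ^ r * u0 := by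
          intro r
          induction r with
          | zero => simp
          | succ r ihr =>
            calc g ^ (r + 1) * u0 * (g ^ (r + 1))⁻¹ = g * (g ^ r * u0 * (g ^ r)⁻¹) * g⁻¹ := by rw [pow_succ']; group
              _ = (g * d ^ r) * u0 * g⁻¹ := by rw [ihr]; group
              _ = d ^ r * (g * u0 * g⁻¹ * u0⁻¹) * u0 := by rw [((show Commute g d from hgd).pow_right r).eq]; group
              _ = d ^ (r + 1) * u0 := by rw [← hd, pow_succ]
        have h2 := hiter (orderOf g)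
        rw [pow_orderOf_eq_one, one_mul, inv_one, mul_one] at h2
        have hdo : d ^ orderOf g = 1 := mul_eq_right.1 h2.symm
        obtain ⟨i, hi⟩ := hgodd
        rw [hi, pow_succ, pow_mul, pow_two, hV2 d (mul_mem (hgV u0 hu0.1) (inv_mem hu0.1)), one_pow, one_mul] at hdo
        exact hu0g (mul_inv_eq_one.1 hdo)
      have hcard : orderOf g ≤ F.relIndex U := by
        have := Nat.card_le_card_of_injective orb horb
        rwa [Nat.card_eq_fintype_card, Fintype.card_fin] at this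
      have h3 : orderOf g ≤ 4 := hcard.trans hidxF
      have h22 := hp.two_le
      interval_cases h : orderOf g
      · exact absurd hgodd (by decide)
      · exact hg3 rfl
      · exact absurd hgodd (by decide)
    rw [hCA]
    have hcardA : Nat.card A ≤ Nat.card B * 2 := by
      have hz : Nat.card (Subgroup.zpowers a) = 2 := by
        rw [Nat.card_zpowers]
        exact orderOf_eq_prime (by rw [pow_two, ha2]) fun h => haB (h ▸ one_mem B)
      have h := CfsgLib.Fusion.Thompson.card_sup_mul_card_inf (N := B) (K := Subgroup.zpowers a)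
        ((Subgroup.zpowers_le.2 ha).trans (fun c hc => Subgroup.centralizer_le_normalizer _
          (Subgroup.mem_centralizer_iff.2 fun b hb =>
            CfsgLib.Solvable.Basic.isMulCommutative_subgroup_iff.1 hA.1 b (hBA hb) c hc)))
      rw [hz] at h
      calc Nat.card A ≤ Nat.card ↥(B ⊔ Subgroup.zpowers a) := Subgroup.card_le_of_le hgen
        _ ≤ Nat.card ↥(B ⊔ Subgroup.zpowers a) * Nat.card ↥(B ⊓ Subgroup.zpowers a) := Nat.le_mul_of_pos_right _ Nat.card_pos
        _ = _ := h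
    calc Nat.card A ^ 2 * Nat.card C ≤ (Nat.card B * 2) ^ 2 * Nat.card C :=
          Nat.mul_le_mul_right _ (Nat.pow_le_pow_left hcardA 2)
      _ = Nat.card B ^ 2 * (4 * Nat.card C) := by ring
      _ ≤ Nat.card B ^ 2 * Nat.card U := Nat.mul_le_mul_left _ h4
      _ ≤ Nat.card V := hIH

end

/-- Let M and V be subgroups of a finite group with V an elementary abelian 2-group, M normalizing V and acting faithfully on it (M ∩ C(V) = 1), and C_M(O_{2'}(M)) ≤ O_{2'}(M). If some elementary abelian 2-subgroup A of M satisfies |V : C_V(A)| < |A|², then M has a section isomorphic to the symmetric group of degree 3. -/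
theorem result {X : Type*} [Group X] [Finite X] (M V : Subgroup X) (hV : Cfsg.IsElementaryAbelian 2 V) (hMV : M ≤ Subgroup.normalizer (V : Set X)) (hfaith : M ⊓ Subgroup.centralizer (V : Set X) = ⊥) (hcon : Subgroup.centralizer (Cfsg.pPrimeCore 2 ↥M : Set ↥M) ≤ Cfsg.pPrimeCore 2 ↥M) (A : Subgroup X) (hAM : A ≤ M) (hA : Cfsg.IsElementaryAbelian 2 A) (hsmall : (V ⊓ Subgroup.centralizer (A : Set X)).relIndex V < Nat.card A ^ 2) : Cfsg.Involves (Equiv.Perm (Fin 3)) ↥M := by
  by_contra hnot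
  set K := (Cfsg.pPrimeCore 2 ↥M).map M.subtype with hKdef
  have hKodd : Odd (Nat.card K) := by
    rw [hKdef, Subgroup.card_map_of_injective M.subtype_injective]
    exact Nat.coprime_two_right.1 (CfsgLib.Solvable.Cores.coprime_card_pPrimeCore 2)
  haveI := CfsgLib.Solvable.Cores.pPrimeCore_normal (G := ↥M) 2
  have hKM : K ≤ M := Subgroup.map_subtype_le _
  have hMK : M ≤ Subgroup.normalizer (K : Set X) := fun m hm =>
    Subgroup.le_normalizer_map M.subtype ⟨⟨m, hm⟩, by rw [Subgroup.normalizer_eq_top]; trivial, rfl⟩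
  have hAc : A ⊓ Subgroup.centralizer (K : Set X) = ⊥ := by
    rw [Subgroup.eq_bot_iff_forall]
    rintro x ⟨hxA, hxc⟩
    have hxO : (⟨x, hAM hxA⟩ : M) ∈ Cfsg.pPrimeCore 2 ↥M := hcon (Subgroup.mem_centralizer_iff.2 fun y hy =>
      Subtype.ext (Subgroup.mem_centralizer_iff.1 hxc _ ⟨y, hy, rfl⟩))
    have hxK : x ∈ K := ⟨_, hxO, rfl⟩
    have h1 : orderOf x ∣ Nat.card K := by rw [← Subgroup.orderOf_mk x hxK]; exact orderOf_dvd_natCard _
    have h2 : orderOf x ∣ 2 := orderOf_dvd_of_pow_eq_one (hA.2 x hxA)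
    exact orderOf_eq_one_iff.1 (Nat.eq_one_of_dvd_coprimes (Nat.coprime_two_right.2 hKodd) h1 h2)
  have hS3 : ∀ a g : X, a ∈ A → g ∈ K → a * a = 1 → orderOf g = 3 → a * g * a⁻¹ = g⁻¹ → False := by
    intro a g ha hg ha2 hg3 hinv
    haveI : Fact (Nat.Prime 3) := ⟨Nat.prime_three⟩
    obtain ⟨e⟩ := Cfsg.Agent.S2759.perm_three_equiv
    refine hnot (Cfsg.Agent.S2759.involves_congr e.symm (CfsgLib.LocalEven.InvolvesDihedral.involves_of_inverted
      (p := 3) (by decide) (x := (⟨a, hAM ha⟩ : M)) (y := ⟨g, hKM hg⟩) ?_ ⟨1, by rw [Subgroup.orderOf_mk, hg3, pow_one]⟩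
      ?_ (Subtype.ext hinv)))
    · obtain ⟨k, -, hk⟩ := (Nat.dvd_prime_pow Nat.prime_two (m := 1)).1
        (orderOf_dvd_of_pow_eq_one (x := (⟨a, hAM ha⟩ : M)) (n := 2 ^ 1) (Subtype.ext (hA.2 a ha)))
      exact ⟨k, hk⟩
    · intro h
      rw [show g = 1 from congrArg Subtype.val h, orderOf_one] at hg3
      exact absurd hg3 (by decide)
  have hb := bound hV hKodd (hKM.trans hMV)
    (le_bot_iff.1 ((inf_le_inf_right _ hKM).trans hfaith.le)) A hS3 _ A le_rfl le_rfl hA (hAM.trans hMV) (hAM.trans hMK) hAc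
  refine (lt_irrefl (Nat.card V)) (lt_of_lt_of_le ?_ hb)
  calc Nat.card V = (V ⊓ Subgroup.centralizer (A : Set X)).relIndex V * Nat.card ↥(V ⊓ Subgroup.centralizer (A : Set X)) := by
        rw [Subgroup.relIndex, ← Nat.card_congr (Subgroup.subgroupOfEquivOfLe
          (inf_le_left : V ⊓ Subgroup.centralizer (A : Set X) ≤ V)).toEquiv, Subgroup.index_mul_card]
    _ < _ := Nat.mul_lt_mul_of_pos_right hsmall Nat.card_pos

end Cfsg.Agent.S3755
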