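import Cfsg.Statements.S1349
import Cfsg.Agent.S3755
import Cfsg.Agent.Lib.OddOrder.Stabilize
import Cfsg.Agent.Lib.Derangements.DihedralHom
import Cfsg.Agent.Lib.Solvable.Cores

set_option autoImplicit false
open Cfsg

namespace Cfsg.Agent.S1349

section

variable {G : Type*} [Group G] [Finite G]

theorem odd_orderOf {L : Subgroup G} (hL : Odd (Nat.card L)) {x : G} (hx : x ∈ L) : Odd (orderOf x) :=
  hL.of_dvd_nat (by rw [← Subgroup.orderOf_mk x hx]; exact orderOf_dvd_natCard _)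

theorem eq_one_of_sq {L : Subgroup G} (hL : Odd (Nat.card L)) {x : G} (hx : x ∈ L) (h : x * x = 1) : x = 1 := by
  have h1 := odd_orderOf hL hx
  rcases (Nat.dvd_prime Nat.prime_two).1 (orderOf_dvd_of_pow_eq_one (x := x) (n := 2) (by rw [pow_two, h])) with h2 | h2
  · exact orderOf_eq_one_iff.1 h2
  · rw [h2] at h1; exact absurd h1 (by decide)

/-- In an invariant gap above a central subgroup, some element is fixed or inverted by each involution. -/
theorem exists_eigen {A : Subgroup G} (hA2 : ∀ a ∈ A, a * a = 1) (hAc : ∀ a ∈ A, ∀ b ∈ A, a * b = b * a)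
    {C : Subgroup G} (hAC : ∀ a ∈ A, ∀ c ∈ C, a * c * a⁻¹ ∈ C) :
    ∀ (n : ℕ) (Y : Subgroup G), Nat.card Y ≤ n → Odd (Nat.card Y) → C ≤ Y → ¬ Y ≤ C →
      (∀ y ∈ Y, ∀ c ∈ C, y * c = c * y) → (∀ a ∈ A, ∀ y ∈ Y, a * y * a⁻¹ ∈ Y) →
      ∃ y ∈ Y, y ∉ C ∧ ∀ a ∈ A, a * y * a⁻¹ * y⁻¹ ∈ C ∨ a * y * a⁻¹ * y ∈ C := by
  intro n
  induction n with
  | zero => intro Y h; exact absurd h (by have := Nat.card_pos (α := Y); omega)
  | succ n ih =>
    intro Y hn hodd hCY hYC hcomm hinv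
    by_cases hex : ∃ a ∈ A, ∃ y ∈ Y, a * y * a⁻¹ * y⁻¹ ∉ C ∧ ∃ z ∈ Y, z ∉ C ∧ a * z * a⁻¹ * z⁻¹ ∈ C
    · obtain ⟨a, ha, y, hy, hya, z, hz, hzC, hza⟩ := hex
      let Y' : Subgroup G :=
        { carrier := {x | x ∈ Y ∧ a * x * a⁻¹ * x⁻¹ ∈ C}
          one_mem' := ⟨one_mem Y, by simp⟩
          mul_mem' := fun {u v} hu hv => ⟨mul_mem hu.1 hv.1, by
            have h1 := hcomm u hu.1 _ hv.2
            rw [show a * (u * v) * a⁻¹ * (u * v)⁻¹ = a * u * a⁻¹ * ((a * v * a⁻¹ * v⁻¹) * u⁻¹) by group,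
              show (a * v * a⁻¹ * v⁻¹) * u⁻¹ = u⁻¹ * (a * v * a⁻¹ * v⁻¹) from
                ((show Commute u (a * v * a⁻¹ * v⁻¹) from h1).inv_left).eq.symm, ← mul_assoc]
            exact mul_mem hu.2 hv.2⟩
          inv_mem' := fun {u} hu => ⟨inv_mem hu.1, by
            have h1 := hcomm u hu.1 _ (inv_mem hu.2)
            rw [show a * u⁻¹ * a⁻¹ * u⁻¹⁻¹ = u⁻¹ * ((a * u * a⁻¹ * u⁻¹)⁻¹ * u) by group, ← h1, inv_mul_cancel_left]
            exact inv_mem hu.2⟩ }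
      have hle : Y' ≤ Y := fun x hx => hx.1
      have hlt : Nat.card Y' < Nat.card Y := lt_of_le_of_ne (Subgroup.card_le_of_le hle) fun h =>
        hya ((Subgroup.eq_of_le_of_card_ge hle h.ge).symm ▸ hy : y ∈ Y').2
      obtain ⟨w, hw, hwC, hwA⟩ := ih Y' (by omega) (hodd.of_dvd_nat (Subgroup.card_dvd_of_le hle))
        (fun c hc => ⟨hCY hc, mul_mem (hAC a ha c hc) (inv_mem hc)⟩) (fun h => hzC (h ⟨hz, hza⟩))
        (fun x hx => hcomm x hx.1) (fun b hb x hx => ⟨hinv b hb x hx.1, by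
          have e : a * (b * x * b⁻¹) * a⁻¹ * (b * x * b⁻¹)⁻¹ = b * (a * x * a⁻¹ * x⁻¹) * b⁻¹ := by
            calc a * (b * x * b⁻¹) * a⁻¹ * (b * x * b⁻¹)⁻¹ = (a * b) * x * (a * b)⁻¹ * (b * x⁻¹ * b⁻¹) := by group
              _ = (b * a) * x * (b * a)⁻¹ * (b * x⁻¹ * b⁻¹) := by rw [hAc a ha b hb]
              _ = _ := by group
          rw [e]; exact hAC b hb _ hx.2⟩)
      exact ⟨w, hw.1, hwC, hwA⟩
    · push Not at hex
      obtain ⟨y, hy, hyC⟩ := SetLike.not_le_iff_exists.1 hYC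
      refine ⟨y, hy, hyC, fun a ha => ?_⟩
      by_cases h : a * y * a⁻¹ * y⁻¹ ∈ C
      · exact Or.inl h
      refine Or.inr ?_
      obtain ⟨c, hc, j, hj, hca, hja, rfl⟩ :=
        Cfsg.Agent.S3755.split_odd hodd (hA2 a ha) (fun x hx => hinv a ha x hx) hy
      have hcC : c ∈ C := by
        by_contra hcC
        exact hex a ha (c * j) hy h c hc hcC (by rw [hca, mul_inv_cancel]; exact one_mem C)
      rw [show a * (c * j) * a⁻¹ * (c * j) = (a * c * a⁻¹) * (a * j * a⁻¹) * (c * j) by group, hca, hja,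
        ← hcomm j hj c hcC, show c * j⁻¹ * (j * c) = c * c by group]
      exact mul_mem hcC hcC

/-- In an abelian odd group moved by `B ≤ A` some element is fixed or inverted by `A` and moved by `B`. -/
theorem exists_eigen_moved {A : Subgroup G} (hA2 : ∀ a ∈ A, a * a = 1) (hAc : ∀ a ∈ A, ∀ b ∈ A, a * b = b * a)
    {M : Subgroup G} (hM : Odd (Nat.card M)) (hMc : ∀ x ∈ M, ∀ y ∈ M, x * y = y * x)
    (hAM : ∀ a ∈ A, ∀ x ∈ M, a * x * a⁻¹ ∈ M) {B : Subgroup G} (hBA : B ≤ A)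
    (hB : ∃ b ∈ B, ∃ x ∈ M, b * x * b⁻¹ ≠ x) :
    ∃ b ∈ B, ∃ z ∈ M, z ≠ 1 ∧ b * z * b⁻¹ = z⁻¹ ∧ ∀ a ∈ A, a * z * a⁻¹ = z ∨ a * z * a⁻¹ = z⁻¹ := by
  obtain ⟨b₀, hb₀, x₀, hx₀, hbx₀⟩ := hB
  set C := M ⊓ Subgroup.centralizer (B : Set G)
  have hfix : ∀ b ∈ B, ∀ c ∈ C, b * c * b⁻¹ = c := fun b hb c hc =>
    mul_inv_eq_iff_eq_mul.2 (Subgroup.mem_centralizer_iff.1 hc.2 b hb)
  have hAC : ∀ a ∈ A, ∀ c ∈ C, a * c * a⁻¹ ∈ C := fun a ha c hc =>
    ⟨hAM a ha c hc.1, Subgroup.mem_centralizer_iff.2 fun b hb => by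
      calc b * (a * c * a⁻¹) = (b * a) * c * a⁻¹ := by group
        _ = (a * b) * c * a⁻¹ := by rw [hAc b (hBA hb) a ha]
        _ = a * (b * c) * a⁻¹ := by group
        _ = a * (c * b) * a⁻¹ := by rw [Subgroup.mem_centralizer_iff.1 hc.2 b hb]
        _ = a * c * (b * a⁻¹) := by group
        _ = a * c * (a⁻¹ * b) := by rw [hAc b (hBA hb) _ (inv_mem ha)]
        _ = _ := by group⟩
  obtain ⟨y, hy, hyC, hyA⟩ := exists_eigen hA2 hAc hAC _ M le_rfl hM inf_le_left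
    (fun h => hbx₀ (hfix b₀ hb₀ x₀ (h hx₀))) (fun y hy c hc => hMc y hy c hc.1) hAM
  obtain ⟨b, hb, hby⟩ : ∃ b ∈ B, b * y * b⁻¹ ≠ y := by
    by_contra h
    push Not at h
    exact hyC ⟨hy, Subgroup.mem_centralizer_iff.2 fun b hb => mul_inv_eq_iff_eq_mul.1 (h b hb)⟩
  set z := y⁻¹ * (b * y * b⁻¹) with hz
  have hbA := hBA hb
  have hzM : z ∈ M := mul_mem (inv_mem hy) (hAM b hbA y hy)
  have hbi : b⁻¹ = b := inv_eq_of_mul_eq_one_right (hA2 b hbA)
  have hzb : b * z * b⁻¹ = z⁻¹ := by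
    rw [hz, hbi, show b * (y⁻¹ * (b * y * b)) * b = (b * y⁻¹ * b) * y * (b * b) by group, hA2 b hbA, mul_one]
    simp only [mul_inv_rev, inv_inv, hbi, mul_assoc]
  refine ⟨b, hb, z, hzM, fun h => hby (inv_mul_eq_one.1 h).symm, hzb, fun a ha => ?_⟩
  have haz : a * z * a⁻¹ = (a * y * a⁻¹)⁻¹ * (b * (a * y * a⁻¹) * b⁻¹) := by
    rw [hz]
    calc a * (y⁻¹ * (b * y * b⁻¹)) * a⁻¹ = (a * y * a⁻¹)⁻¹ * ((a * b) * y * (a * b)⁻¹) := by group
      _ = (a * y * a⁻¹)⁻¹ * ((b * a) * y * (b * a)⁻¹) := by rw [hAc a ha b hbA]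
      _ = _ := by group
  have key : ∀ w ∈ M, ∀ c ∈ C, (c * w)⁻¹ * (b * (c * w) * b⁻¹) = w⁻¹ * (b * w * b⁻¹) := fun w _ c hc => by
    calc (c * w)⁻¹ * (b * (c * w) * b⁻¹) = w⁻¹ * (c⁻¹ * (b * c * b⁻¹)) * (b * w * b⁻¹) := by group
      _ = _ := by rw [hfix b hb c hc, inv_mul_cancel, mul_one]
  rcases hyA a ha with h | h
  · refine Or.inl ?_
    rw [haz, show a * y * a⁻¹ = (a * y * a⁻¹ * y⁻¹) * y by group, key y hy _ h]
  · refine Or.inr ?_
    rw [haz, show a * y * a⁻¹ = (a * y * a⁻¹ * y) * y⁻¹ by group, key _ (inv_mem hy) _ h, inv_inv,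
      show b * y⁻¹ * b⁻¹ = (b * y * b⁻¹)⁻¹ by group, hMc y hy _ (inv_mem (hAM b hbA y hy)), hz]
    group

/-- A dual family. -/
theorem exists_family {A : Subgroup G} (hA2 : ∀ a ∈ A, a * a = 1) (hAc : ∀ a ∈ A, ∀ b ∈ A, a * b = b * a)
    {M : Subgroup G} (hM : Odd (Nat.card M)) (hMc : ∀ x ∈ M, ∀ y ∈ M, x * y = y * x)
    (hAM : ∀ a ∈ A, ∀ x ∈ M, a * x * a⁻¹ ∈ M) (hf : ∀ a ∈ A, (∀ x ∈ M, a * x * a⁻¹ = x) → a = 1) :
    ∀ (k : ℕ) (B : Subgroup G), B ≤ A → Nat.card B = 2 ^ k → ∃ (a g : Fin k → G),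
      (∀ i, a i ∈ B ∧ g i ∈ M ∧ g i ≠ 1 ∧ a i * g i * (a i)⁻¹ = (g i)⁻¹ ∧
        ∀ c ∈ A, c * g i * c⁻¹ = g i ∨ c * g i * c⁻¹ = (g i)⁻¹) ∧
      (∀ i j, i ≠ j → a i * g j * (a i)⁻¹ = g j) ∧ B ≤ Subgroup.closure (Set.range a) := by
  intro k
  induction k with
  | zero =>
    intro B _ hB
    refine ⟨Fin.elim0, Fin.elim0, fun i => i.elim0, fun i => i.elim0, ?_⟩
    rw [pow_zero, Subgroup.card_eq_one] at hB
    rw [hB]; exact bot_le
  | succ k ih =>
    intro B hBA hB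
    obtain ⟨b₀, hb₀, hb₀1⟩ : ∃ b ∈ B, b ≠ 1 := by
      by_contra h
      push Not at h
      rw [(Subgroup.eq_bot_iff_forall B).2 h, Subgroup.card_bot] at hB
      exact absurd hB.symm (Nat.one_lt_two_pow (Nat.succ_ne_zero k)).ne'
    obtain ⟨b, hb, z, hz, hz1, hbz, hAz⟩ := exists_eigen_moved hA2 hAc hM hMc hAM hBA ⟨b₀, hb₀, by
      by_contra h
      push Not at h
      exact hb₀1 (hf b₀ (hBA hb₀) h)⟩
    have hzz : z⁻¹ ≠ z := fun h => hz1 (eq_one_of_sq hM hz (inv_eq_iff_mul_eq_one.1 h))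
    set B1 := B ⊓ Subgroup.centralizer {z}
    have hmem1 : ∀ c, c ∈ B1 ↔ c ∈ B ∧ c * z * c⁻¹ = z := fun c =>
      ⟨fun h => ⟨h.1, mul_inv_eq_iff_eq_mul.2 (Subgroup.mem_centralizer_singleton_iff.1 h.2)⟩,
        fun h => ⟨h.1, Subgroup.mem_centralizer_singleton_iff.2 (mul_inv_eq_iff_eq_mul.1 h.2)⟩⟩
    have hb1 : b ∉ B1 := fun h => hzz (hbz.symm.trans ((hmem1 b).1 h).2)
    have hmul : ∀ (c d : G), c * d * z * (c * d)⁻¹ = c * (d * z * d⁻¹) * c⁻¹ := fun c d => by group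
    have hdec : ∀ c ∈ B, c ∈ B1 ∨ b * c ∈ B1 := by
      intro c hc
      rcases hAz c (hBA hc) with h | h
      · exact Or.inl ((hmem1 c).2 ⟨hc, h⟩)
      · refine Or.inr ((hmem1 _).2 ⟨mul_mem hb hc, ?_⟩)
        rw [hmul, h, show b * z⁻¹ * b⁻¹ = (b * z * b⁻¹)⁻¹ by group, hbz, inv_inv]
    have hcard : Nat.card B1 = 2 ^ k := by
      have hB2 : IsPGroup 2 B := IsPGroup.of_card hB
      haveI : Fact (Nat.Prime 2) := ⟨Nat.prime_two⟩
      obtain ⟨j, hj⟩ := IsPGroup.iff_card.1 (hB2.to_le (inf_le_left : B1 ≤ B))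
      have hlt : Nat.card B1 < Nat.card B := lt_of_le_of_ne (Subgroup.card_le_of_le inf_le_left) fun h =>
        hb1 (by rw [show B1 = B from Subgroup.eq_of_le_of_card_ge (inf_le_left : B1 ≤ B) h.ge]; exact hb)
      have hle : Nat.card B ≤ 2 * Nat.card B1 := by
        classical
        let φ : B → Bool × B1 := fun c =>
          if h : (c : G) ∈ B1 then (false, ⟨c, h⟩) else (true, ⟨b * c, (hdec c c.2).resolve_left h⟩)
        have hφ : Function.Injective φ := by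
          intro c d hcd
          simp only [φ] at hcd
          split_ifs at hcd <;> simp_all
        have := Nat.card_le_card_of_injective φ hφ
        rwa [Nat.card_prod, Nat.card_eq_fintype_card (α := Bool), Fintype.card_bool] at this
      rw [hB, hj] at hlt hle
      rw [← pow_succ'] at hle
      have h1 := Nat.pow_lt_pow_iff_right (Nat.le_refl 2) |>.1 hlt
      have h2 := (Nat.pow_le_pow_iff_right (Nat.le_refl 2)).1 hle
      rw [hj]; congr 1; omega
    obtain ⟨a, g, hag, hd, hgen⟩ := ih B1 (inf_le_left.trans hBA) hcard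
    -- correct `b` so that it fixes the earlier elements
    have hcorr : ∀ (s : Finset (Fin k)), ∃ b' ∈ B, b * b' ∈ B1 ∧ b' * z * b'⁻¹ = z⁻¹ ∧
        ∀ i ∈ s, b' * g i * b'⁻¹ = g i := by
      intro s
      classical
      induction s using Finset.induction_on with
      | empty => exact ⟨b, hb, by rw [hA2 b (hBA hb)]; exact one_mem _, hbz, fun i hi => absurd hi (Finset.notMem_empty i)⟩
      | @insert i s his ihs =>
        obtain ⟨b', hb', hbb, hb'z, hb'g⟩ := ihs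
        rcases (hag i).2.2.2.2 b' (hBA hb') with h | h
        · exact ⟨b', hb', hbb, hb'z, fun j hj => by
            rcases Finset.mem_insert.1 hj with rfl | hj
            exacts [h, hb'g j hj]⟩
        · refine ⟨b' * a i, mul_mem hb' (hag i).1.1, ?_, ?_, fun j hj => ?_⟩
          · rw [← mul_assoc]; exact mul_mem hbb (hag i).1
          · rw [hmul, ((hmem1 _).1 (hag i).1).2, hb'z]
          · rw [show b' * a i * g j * (b' * a i)⁻¹ = b' * (a i * g j * (a i)⁻¹) * b'⁻¹ by group]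
            rcases Finset.mem_insert.1 hj with hji | hj
            · rw [hji, (hag i).2.2.2.1, show b' * (g i)⁻¹ * b'⁻¹ = (b' * g i * b'⁻¹)⁻¹ by group, h, inv_inv]
            · rw [hd i j (fun hij => his (hij ▸ hj)), hb'g j hj]
    obtain ⟨b', hb', hbb, hb'z, hb'g⟩ := hcorr Finset.univ
    refine ⟨Fin.cons b' a, Fin.cons z g, fun i => ?_, fun i j hij => ?_, ?_⟩
    · refine Fin.cases ?_ (fun i => ?_) i
      · simp only [Fin.cons_zero]
        exact ⟨hb', hz, hz1, hb'z, hAz⟩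
      · simp only [Fin.cons_succ]
        exact ⟨(hag i).1.1, (hag i).2⟩
    · revert hij
      refine Fin.cases ?_ (fun i => ?_) i <;> refine Fin.cases ?_ (fun j => ?_) j <;>
        intro hij <;> simp only [Fin.cons_zero, Fin.cons_succ]
      · exact absurd rfl hij
      · exact hb'g j (Finset.mem_univ j)
      · exact ((hmem1 _).1 (hag i).1).2
      · exact hd i j (fun h => hij (h ▸ rfl))
    · intro c hc
      have hle : B1 ≤ Subgroup.closure (Set.range (Fin.cons b' a : Fin (k + 1) → G)) := hgen.trans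
        (Subgroup.closure_mono (by rintro _ ⟨i, rfl⟩; exact ⟨i.succ, Fin.cons_succ _ _ _⟩))
      have hb'cl : b' ∈ Subgroup.closure (Set.range (Fin.cons b' a : Fin (k + 1) → G)) :=
        Subgroup.subset_closure ⟨0, Fin.cons_zero _ _⟩
      have hbcl : b ∈ Subgroup.closure (Set.range (Fin.cons b' a : Fin (k + 1) → G)) := by
        rw [show b = (b * b') * b'⁻¹ by group]; exact mul_mem (hle hbb) (inv_mem hb'cl)
      rcases hdec c hc with h | h
      · exact hle h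
      · rw [show c = b⁻¹ * (b * c) by group]; exact mul_mem (inv_mem hbcl) (hle h)

/-- An invariant abelian odd subgroup on which `A` is faithful. -/
theorem exists_module {L A : Subgroup G} (hLs : Group.IsSolvable ↥L) (hL : Odd (Nat.card L))
    (hA2 : ∀ a ∈ A, a * a = 1) (hAc : ∀ a ∈ A, ∀ b ∈ A, a * b = b * a)
    (hAL : A ≤ Subgroup.normalizer (L : Set G)) (hfaith : A ⊓ Subgroup.centralizer (L : Set G) = ⊥) :
    ∃ M : Subgroup G, M ≤ L ∧ (∀ x ∈ M, ∀ y ∈ M, x * y = y * x) ∧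
      (∀ a ∈ A, ∀ x ∈ M, a * x * a⁻¹ ∈ M) ∧ ∀ a ∈ A, (∀ x ∈ M, a * x * a⁻¹ = x) → a = 1 := by
  haveI := hLs
  set F := (Cfsg.fittingSubgroup L).map L.subtype with hFdef
  haveI : (Cfsg.fittingSubgroup L).Normal := CfsgLib.Solvable.Cores.fittingSubgroup_normal
  haveI : (Cfsg.fittingSubgroup L).Characteristic := CfsgLib.Solvable.Cores.fittingSubgroup_characteristic
  haveI : Group.IsNilpotent ↥(Cfsg.fittingSubgroup L) := CfsgLib.Solvable.Cores.fittingSubgroup_isNilpotent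
  haveI hFn : Group.IsNilpotent ↥F := Group.nilpotent_of_mulEquiv
    ((Cfsg.fittingSubgroup L).equivMapOfInjective L.subtype L.subtype_injective)
  have hFL : F ≤ L := Subgroup.map_subtype_le _
  have hAF : ∀ a ∈ A, ∀ x ∈ F, a * x * a⁻¹ ∈ F := by
    rintro a ha _ ⟨x, hx, rfl⟩
    let e : MulAut L := Subgroup.normalizerMonoidHom L ⟨a, hAL ha⟩
    exact ⟨e x, Subgroup.characteristic_iff_map_le.mp inferInstance e ⟨x, hx, rfl⟩, rfl⟩
  have hFfaith : ∀ a ∈ A, (∀ x ∈ F, a * x * a⁻¹ = x) → a = 1 := by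
    intro a ha hfix
    refine Subgroup.mem_bot.1 (hfaith ▸ Subgroup.mem_inf.2 ⟨ha, Subgroup.mem_centralizer_iff.2 fun l hl => ?_⟩)
    have hl' : a * l * a⁻¹ ∈ L := (Subgroup.mem_normalizer_iff.1 (hAL ha) l).1 hl
    set f := a * l * a⁻¹ * l⁻¹ with hfdef
    have hfF : f ∈ F := by
      have hc : (⟨f, mul_mem hl' (inv_mem hl)⟩ : L) ∈ Subgroup.centralizer (Cfsg.fittingSubgroup L : Set L) := by
        refine Subgroup.mem_centralizer_iff.2 fun x hx => Subtype.ext ?_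
        show (x : G) * f = f * x
        have hlx : l⁻¹ * x * l ∈ F :=
          ⟨⟨l, hl⟩⁻¹ * x * ⟨l, hl⟩, by simpa using (inferInstance : (Cfsg.fittingSubgroup L).Normal).conj_mem x hx ⟨l, hl⟩⁻¹, by simp⟩
        have h1 := hfix _ hlx
        have h2 := hfix (x : G) ⟨x, hx, rfl⟩
        rw [hfdef]
        symm
        calc a * l * a⁻¹ * l⁻¹ * x = a * l * a⁻¹ * (l⁻¹ * x * l) * l⁻¹ := by group
          _ = a * l * a⁻¹ * (a * (l⁻¹ * x * l) * a⁻¹) * l⁻¹ := by rw [h1]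
          _ = (a * x * a⁻¹) * (a * l * a⁻¹ * l⁻¹) := by group
          _ = x * (a * l * a⁻¹ * l⁻¹) := by rw [h2]
      exact ⟨_, CfsgLib.Solvable.Cores.centralizer_fittingSubgroup_le hc, rfl⟩
    have h3 := hfix f hfF
    have h4 : f * f = 1 := by
      have hai : a⁻¹ = a := inv_eq_of_mul_eq_one_right (hA2 a ha)
      have e : a * f * a⁻¹ = f⁻¹ := by
        rw [hfdef, hai, show a * (a * l * a * l⁻¹) * a = (a * a) * (l * a * l⁻¹ * a) by group, hA2 a ha, one_mul]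
        simp only [mul_inv_rev, inv_inv, hai, mul_assoc]
      rw [h3] at e
      exact eq_inv_iff_mul_eq_one.1 e
    exact (mul_inv_eq_iff_eq_mul.1 (mul_inv_eq_one.1 (eq_one_of_sq hL (hFL hfF) h4))).symm
  obtain ⟨C, ⟨hCF, hCc, hCA⟩, hmax⟩ := Set.Finite.exists_maximal
    (s := {C : Subgroup G | C ≤ F ∧ (∀ x ∈ C, ∀ y ∈ C, x * y = y * x) ∧ ∀ a ∈ A, ∀ x ∈ C, a * x * a⁻¹ ∈ C})
    (Set.toFinite _) ⟨⊥, bot_le, fun x hx y hy => by rw [Subgroup.mem_bot.1 hx, Subgroup.mem_bot.1 hy],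
      fun a _ x hx => by rw [Subgroup.mem_bot.1 hx, mul_one, mul_inv_cancel]; exact one_mem _⟩
  have hself : F ⊓ Subgroup.centralizer (C : Set G) ≤ C := by
    by_contra hne
    obtain ⟨y, hy, hyC, hyA⟩ := exists_eigen hA2 hAc hCA _ (F ⊓ Subgroup.centralizer (C : Set G)) le_rfl
      (hL.of_dvd_nat (Subgroup.card_dvd_of_le (inf_le_left.trans hFL)))
      (le_inf hCF fun x hx => Subgroup.mem_centralizer_iff.2 fun c hc => hCc c hc x hx) hne
      (fun y hy c hc => (Subgroup.mem_centralizer_iff.1 hy.2 c hc).symm)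
      (fun a ha y hy => ⟨hAF a ha y hy.1, Subgroup.mem_centralizer_iff.2 fun c hc => by
        have h := Subgroup.mem_centralizer_iff.1 hy.2 _ (hCA a⁻¹ (inv_mem ha) c hc)
        calc c * (a * y * a⁻¹) = a * ((a⁻¹ * c * a⁻¹⁻¹) * y) * a⁻¹ := by group
          _ = a * (y * (a⁻¹ * c * a⁻¹⁻¹)) * a⁻¹ := by rw [h]
          _ = _ := by group⟩)
    set C' := C ⊔ Subgroup.zpowers y with hC'def
    have hcy : C ≤ Subgroup.centralizer ({y} : Set G) := fun c hc =>
      Subgroup.mem_centralizer_singleton_iff.2 (Subgroup.mem_centralizer_iff.1 hy.2 c hc)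
    have hC'c : ∀ x ∈ C', ∀ x' ∈ C', x * x' = x' * x := by
      have h1 : C' ≤ Subgroup.centralizer (C : Set G) :=
        sup_le (fun x hx => Subgroup.mem_centralizer_iff.2 fun c hc => hCc c hc x hx) (Subgroup.zpowers_le.2 hy.2)
      have h2 : C' ≤ Subgroup.centralizer ({y} : Set G) :=
        sup_le hcy (Subgroup.zpowers_le.2 (Subgroup.mem_centralizer_singleton_iff.2 rfl))
      have h3 : C' ≤ Subgroup.centralizer (C' : Set G) := by
        rw [Subgroup.le_centralizer_iff]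
        refine sup_le ?_ (Subgroup.zpowers_le.2 (Subgroup.mem_centralizer_iff.2 fun x hx =>
          Subgroup.mem_centralizer_singleton_iff.1 (h2 hx)))
        exact fun c hc => Subgroup.mem_centralizer_iff.2 fun x hx => (Subgroup.mem_centralizer_iff.1 (h1 hx) c hc).symm
      exact fun x hx x' hx' => Subgroup.mem_centralizer_iff.1 (h3 hx') x hx
    have hC'A : ∀ a ∈ A, ∀ x ∈ C', a * x * a⁻¹ ∈ C' := by
      intro a ha
      have hle : C' ≤ C'.comap (MulAut.conj a).toMonoidHom := by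
        refine sup_le (fun c hc => Subgroup.mem_sup_left (hCA a ha c hc)) (Subgroup.zpowers_le.2 ?_)
        show a * y * a⁻¹ ∈ C'
        rcases hyA a ha with h | h
        · rw [show a * y * a⁻¹ = (a * y * a⁻¹ * y⁻¹) * y by group]
          exact mul_mem (Subgroup.mem_sup_left h) (Subgroup.mem_sup_right (Subgroup.mem_zpowers y))
        · rw [show a * y * a⁻¹ = (a * y * a⁻¹ * y) * y⁻¹ by group]
          exact mul_mem (Subgroup.mem_sup_left h) (inv_mem (Subgroup.mem_sup_right (Subgroup.mem_zpowers y)))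
      exact fun x hx => hle hx
    exact hyC (hmax ⟨sup_le hCF (Subgroup.zpowers_le.2 hy.1), hC'c, hC'A⟩ le_sup_left
      (Subgroup.mem_sup_right (Subgroup.mem_zpowers y)))
  refine ⟨C, hCF.trans hFL, hCc, hCA, fun a ha hfix => hFfaith a ha fun x hx => ?_⟩
  have hz : Subgroup.zpowers a ≤ Subgroup.normalizer (F : Set G) := Subgroup.zpowers_le.2 (by
    rw [Subgroup.mem_normalizer_iff]
    refine fun x => ⟨hAF a ha x, fun hx => ?_⟩
    have := hAF a⁻¹ (inv_mem ha) _ hx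
    simpa [mul_assoc] using this)
  have hcop : (Nat.card (Subgroup.zpowers a)).Coprime (Nat.card F) := by
    rw [Nat.card_zpowers]
    exact (Nat.coprime_two_left.2 (hL.of_dvd_nat (Subgroup.card_dvd_of_le hFL))).coprime_dvd_left
      (orderOf_dvd_of_pow_eq_one (by rw [pow_two, hA2 a ha]))
  have h := CfsgLib.OddOrder.Stabilize.le_centralizer_of_selfcentralizing hz hcop hCF
    (Subgroup.zpowers_le.2 (Subgroup.mem_centralizer_iff.2 fun c hc => (mul_inv_eq_iff_eq_mul.1 (hfix c hc)).symm)) hself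
    (Subgroup.mem_zpowers a)
  exact mul_inv_eq_iff_eq_mul.2 (Subgroup.mem_centralizer_iff.1 h x hx).symm

/-- The dihedral group generated by an involution and an element of odd order inverted by it. -/
theorem dihedral_equiv {a g : G} (ha : a * a = 1) (ha1 : a ≠ 1) (hinv : a * g * a⁻¹ = g⁻¹)
    (hodd : Odd (orderOf g)) :
    Nonempty (↥(Subgroup.zpowers a ⊔ Subgroup.zpowers g) ≃* DihedralGroup (orderOf g)) := by
  haveI : NeZero (orderOf g) := ⟨(orderOf_pos g).ne'⟩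
  set D := Subgroup.zpowers a ⊔ Subgroup.zpowers g
  let x : D := ⟨a, Subgroup.mem_sup_left (Subgroup.mem_zpowers a)⟩
  let c : D := ⟨g, Subgroup.mem_sup_right (Subgroup.mem_zpowers g)⟩
  have hxc : x * c * x = c⁻¹ := Subtype.ext (by
    show a * g * a = g⁻¹
    rw [← hinv, inv_eq_of_mul_eq_one_right ha])
  let φ := CfsgLib.Derangements.DihedralHom.lift (n := orderOf g) c x
    (Subtype.ext (pow_orderOf_eq_one g)) (Subtype.ext ha) hxc
  refine ⟨(MulEquiv.ofBijective φ ⟨?_, ?_⟩).symm⟩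
  · rw [injective_iff_map_eq_one]
    rintro (i | i) h
    · have h1 : g ^ i.val = 1 := congrArg Subtype.val h
      have h3 : i.val = 0 := by
        by_contra h0
        exact absurd (Nat.le_of_dvd (Nat.pos_of_ne_zero h0) (orderOf_dvd_of_pow_eq_one h1)) (not_le.2 (ZMod.val_lt i))
      rw [(ZMod.val_eq_zero i).1 h3]
      rfl
    · exfalso
      have h1 : a * g ^ i.val = 1 := congrArg Subtype.val h
      have ha' : a = (g ^ i.val)⁻¹ := eq_inv_of_mul_eq_one_left h1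
      have h2 : orderOf a ∣ orderOf g := by
        rw [ha', orderOf_inv]; exact orderOf_pow_dvd _
      rw [orderOf_eq_prime (by rw [pow_two, ha]) ha1] at h2
      exact (Nat.not_even_iff_odd.2 hodd) (even_iff_two_dvd.2 h2)
  · rw [← MonoidHom.range_eq_top, eq_top_iff]
    have hle : D ≤ φ.range.map D.subtype := by
      refine sup_le (Subgroup.zpowers_le.2 ⟨φ (DihedralGroup.sr 0), ⟨_, rfl⟩, ?_⟩)
        (Subgroup.zpowers_le.2 ⟨φ (DihedralGroup.r 1), ⟨_, rfl⟩, ?_⟩)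
      · show a * g ^ (0 : ZMod (orderOf g)).val = a
        rw [ZMod.val_zero, pow_zero, mul_one]
      · show g ^ (1 : ZMod (orderOf g)).val = g
        rw [ZMod.val_one_eq_one_mod, pow_mod_orderOf, pow_one]
    rintro ⟨d, hd⟩ -
    obtain ⟨e, he, hed⟩ := hle hd
    exact (Subtype.ext hed : e = ⟨d, hd⟩) ▸ he

end

/-- Let G be finite, L ≤ G solvable of odd order, and A an elementary abelian 2-subgroup of order 2^d (d ≥ 1) normalizing L with C_A(L) = 1. Then there are subgroups A_1, …, A_d of A of order 2 generating A and subgroups L_1, …, L_d of L such that each A_i ⊔ L_i is dihedral of order 2 n_i with n_i odd and at least 3, and A_i ⊔ L_i commutes elementwise with A_j ⊔ L_j for i ≠ j. -/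
theorem result {G : Type*} [Group G] [Finite G] (L A : Subgroup G) (hLs : Group.IsSolvable ↥L) (hLodd : Odd (Nat.card ↥L)) (hA : Cfsg.IsElementaryAbelian 2 A) (d : ℕ) (hd : 1 ≤ d) (hAd : Nat.card ↥A = 2 ^ d) (hAL : A ≤ Subgroup.normalizer (L : Set G)) (hfaith : A ⊓ Subgroup.centralizer (L : Set G) = ⊥) : ∃ (Ai : Fin d → Subgroup G) (Li : Fin d → Subgroup G) (n : Fin d → ℕ), (∀ i, Ai i ≤ A ∧ Nat.card ↥(Ai i) = 2 ∧ Li i ≤ L ∧ Odd (n i) ∧ 3 ≤ n i ∧ Nonempty (↥(Ai i ⊔ Li i) ≃* DihedralGroup (n i))) ∧ (⨆ i, Ai i) = A ∧ ∀ i j, i ≠ j → ∀ x ∈ Ai i ⊔ Li i, ∀ y ∈ Ai j ⊔ Li j, x * y = y * x := by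
  have hA2 : ∀ a ∈ A, a * a = 1 := fun a ha => by rw [← pow_two]; exact hA.2 a ha
  have hAc : ∀ a ∈ A, ∀ b ∈ A, a * b = b * a := CfsgLib.Solvable.Basic.isMulCommutative_subgroup_iff.1 hA.1
  obtain ⟨M, hML, hMc, hAM, hf⟩ := exists_module hLs hLodd hA2 hAc hAL hfaith
  have hModd : Odd (Nat.card M) := hLodd.of_dvd_nat (Subgroup.card_dvd_of_le hML)
  obtain ⟨a, g, hag, hd', hgen⟩ := exists_family hA2 hAc hModd hMc hAM hf d A le_rfl hAd
  have ha1 : ∀ i, a i ≠ 1 := fun i h => by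
    have h1 := (hag i).2.2.2.1
    rw [h, one_mul, inv_one, mul_one] at h1
    exact (hag i).2.2.1 (eq_one_of_sq hModd (hag i).2.1 (eq_inv_iff_mul_eq_one.1 h1))
  have hord : ∀ i, Odd (orderOf (g i)) := fun i => odd_orderOf hModd (hag i).2.1
  refine ⟨fun i => Subgroup.zpowers (a i), fun i => Subgroup.zpowers (g i), fun i => orderOf (g i),
    fun i => ⟨Subgroup.zpowers_le.2 (hag i).1, ?_, Subgroup.zpowers_le.2 (hML (hag i).2.1), hord i, ?_,
      dihedral_equiv (hA2 _ (hag i).1) (ha1 i) (hag i).2.2.2.1 (hord i)⟩, ?_, ?_⟩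
  · rw [Nat.card_zpowers]
    exact orderOf_eq_prime (by rw [pow_two, hA2 _ (hag i).1]) (ha1 i)
  · obtain ⟨m, hm⟩ := hord i
    rcases m with _ | m
    · exact absurd (orderOf_eq_one_iff.1 hm) (hag i).2.2.1
    · show 3 ≤ orderOf (g i)
      omega
  · refine le_antisymm (iSup_le fun i => Subgroup.zpowers_le.2 (hag i).1) (hgen.trans ((Subgroup.closure_le _).2 ?_))
    rintro _ ⟨i, rfl⟩
    exact Subgroup.mem_iSup_of_mem i (Subgroup.mem_zpowers _)
  · intro i j hij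
    have key : Subgroup.zpowers (a i) ⊔ Subgroup.zpowers (g i) ≤
        Subgroup.centralizer ((Subgroup.zpowers (a j) ⊔ Subgroup.zpowers (g j) : Subgroup G) : Set G) := by
      refine sup_le ?_ ?_ <;> rw [Subgroup.zpowers_le, Subgroup.mem_centralizer_iff] <;> intro y hy
      · have h : Subgroup.zpowers (a j) ⊔ Subgroup.zpowers (g j) ≤ Subgroup.centralizer {a i} :=
          sup_le (Subgroup.zpowers_le.2 (Subgroup.mem_centralizer_singleton_iff.2 (hAc _ (hag j).1 _ (hag i).1)))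
            (Subgroup.zpowers_le.2 (Subgroup.mem_centralizer_singleton_iff.2 (mul_inv_eq_iff_eq_mul.1 (hd' i j hij)).symm))
        exact Subgroup.mem_centralizer_singleton_iff.1 (h hy)
      · have h : Subgroup.zpowers (a j) ⊔ Subgroup.zpowers (g j) ≤ Subgroup.centralizer {g i} :=
          sup_le (Subgroup.zpowers_le.2 (Subgroup.mem_centralizer_singleton_iff.2 (mul_inv_eq_iff_eq_mul.1 (hd' j i hij.symm))))
            (Subgroup.zpowers_le.2 (Subgroup.mem_centralizer_singleton_iff.2 (hMc _ (hag j).2.1 _ (hag i).2.1)))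
        exact Subgroup.mem_centralizer_singleton_iff.1 (h hy)
    exact fun x hx y hy => (Subgroup.mem_centralizer_iff.1 (key hx) y hy).symm

end Cfsg.Agent.S1349
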