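import Cfsg.Statements.S0116
import Cfsg.Agent.Lib.Fusion.Alperin

set_option autoImplicit false
open Cfsg

namespace Cfsg.Agent.S0116

open CfsgLib.Fusion.Alperin in
theorem unfold_chain {G : Type*} [Group G] {p : ℕ} {P : Sylow p G} {A : Set G} {g : G}
    (h : CfsgLib.Fusion.Alperin.Chain P A g) :
    ∃ (n : ℕ) (Q : Fin n → Sylow p G) (x : Fin n → G), (List.ofFn x).prod = g ∧ (∀ i : Fin n, x i ∈ Subgroup.normalizer ((((P : Subgroup G) ⊓ (Q i : Subgroup G)) : Subgroup G) : Set G) ∧ ¬ p ∣ ((P : Subgroup G) ⊓ Subgroup.normalizer ((((P : Subgroup G) ⊓ (Q i : Subgroup G)) : Subgroup G) : Set G)).relIndex (Subgroup.normalizer ((((P : Subgroup G) ⊓ (Q i : Subgroup G)) : Subgroup G) : Set G)) ∧ ¬ p ∣ ((Q i : Subgroup G) ⊓ Subgroup.normalizer ((((P : Subgroup G) ⊓ (Q i : Subgroup G)) : Subgroup G) : Set G)).relIndex (Subgroup.normalizer ((((P : Subgroup G) ⊓ (Q i : Subgroup G)) : Subgroup G) : Set G))) ∧ (∀ h : 0 < n, A ⊆ (((P : Subgroup G) ⊓ (Q ⟨0, h⟩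 : Subgroup G) : Subgroup G) : Set G)) ∧ ∀ i : Fin n, ∀ h : i.val + 1 < n, (fun a => (((List.ofFn x).take (i.val + 1)).prod)⁻¹ * a * ((List.ofFn x).take (i.val + 1)).prod) '' A ⊆ (((P : Subgroup G) ⊓ (Q ⟨i.val + 1, h⟩ : Subgroup G) : Subgroup G) : Set G) := by
  induction h with
  | nil A _ =>
    exact ⟨0, Fin.elim0, Fin.elim0, by simp, fun i => i.elim0,
      fun h => absurd h (lt_irrefl 0), fun i => i.elim0⟩
  | cons A Q x g ht hx hA _ ih =>
    obtain ⟨n, Qs, xs, hprod, hall, hfirst, hnext⟩ := ih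
    refine ⟨n + 1, Fin.cons Q Qs, Fin.cons x xs, ?_, ?_, ?_, ?_⟩
    · rw [List.ofFn_succ, List.prod_cons]
      simp [hprod]
    · intro i
      induction i using Fin.cases with
      | zero => simpa using ⟨hx, ht.1, ht.2⟩
      | succ j => simpa using hall j
    · intro _
      simpa using hA
    · intro i hi
      have htake : ((List.ofFn (Fin.cons x xs : Fin (n + 1) → G)).take (i.val + 1)).prod =
          x * ((List.ofFn xs).take i.val).prod := by
        rw [List.ofFn_succ, List.take_succ_cons, List.prod_cons]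
        simp
      rw [htake, image_mul]
      have hi' : i.val < n := by omega
      rw [show (⟨i.val + 1, hi⟩ : Fin (n + 1)) = Fin.succ ⟨i.val, hi'⟩ from rfl, Fin.cons_succ]
      obtain ⟨iv, hiv⟩ := i
      cases iv with
      | zero => simpa using hfirst hi'
      | succ k => exact hnext ⟨k, by simp at hi'; omega⟩ hi'

/-- The Alperin fusion Theorem states that conjugation between subsets of a Sylow p-subgroup P factors through normalizers of tame intersections P ∩ Q_i with other Sylow p-subgroups, carrying the subset along step by step. -/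
theorem result {G : Type*} [Group G] [Finite G] {p : ℕ} [Fact p.Prime] (P : Sylow p G) (A : Set G) (g : G) (hA : A ⊆ (P : Set G)) (hAg : (fun a => g⁻¹ * a * g) '' A ⊆ (P : Set G)) : ∃ (n : ℕ) (Q : Fin n → Sylow p G) (x : Fin n → G), (List.ofFn x).prod = g ∧ (∀ i : Fin n, x i ∈ Subgroup.normalizer ((((P : Subgroup G) ⊓ (Q i : Subgroup G)) : Subgroup G) : Set G) ∧ ¬ p ∣ ((P : Subgroup G) ⊓ Subgroup.normalizer ((((P : Subgroup G) ⊓ (Q i : Subgroup G)) : Subgroup G) : Set G)).relIndex (Subgroup.normalizer ((((P : Subgroup G) ⊓ (Q i : Subgroup G)) : Subgroup G) : Set G)) ∧ ¬ p ∣ ((Q i : Subgroup G) ⊓ Subgroup.normalizer ((((P : Subgroup G) ⊓ (Q i : Subgroup G)) : Subgroup G) : Set G)).relIndex (Subgroup.normalizer ((((P : Subgroup G) ⊓ (Q i : Subgroup G)) : Subgroup G) : Set G))) ∧ (∀ h : 0 < n, A ⊆ (((P : Subgroup G) ⊓ (Q ⟨0, h⟩ : Subgroup G) : Subgroup G) : Set G)) ∧ ∀ i : Fin n, ∀ h : i.val + 1 < n, (fun a => (((List.ofFn x).take (i.val + 1)).prod)⁻¹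 * a * ((List.ofFn x).take (i.val + 1)).prod) '' A ⊆ (((P : Subgroup G) ⊓ (Q ⟨i.val + 1, h⟩ : Subgroup G) : Subgroup G) : Set G) := by
  exact unfold_chain (CfsgLib.Fusion.Alperin.chain_of_conj P A g hA hAg)


end Cfsg.Agent.S0116
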