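import Cfsg.Statements.S3736
import Cfsg.Agent.Lib.Coprime.Action
import Cfsg.Agent.Lib.PGroup.Frattini
-- import your own Cfsg.Agent.* helpers here

set_option autoImplicit false
open Cfsg

namespace Cfsg.Agent.S3736

open scoped commutatorElement

variable {X : Type*} [Group X]

/-- Image in `X` of a characteristic subgroup of `P` is normalised by the normaliser of `P`. -/
theorem char_map_normalizer {P : Subgroup X} (C : Subgroup ↥P) [C.Characteristic] :
    Subgroup.normalizer (P : Set X) ≤ Subgroup.normalizer (C.map P.subtype : Set X) := by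
  intro g hg
  refine Subgroup.mem_normalizer_iff_map_conj_eq.2 ?_
  rw [← MulEquiv.toMonoidHom_eq_coe, Subgroup.map_map]
  have hP : P.map (MulAut.conj g).toMonoidHom = P := Subgroup.mem_normalizer_iff_map_conj_eq.1 hg
  let e : ↥P ≃* ↥P := (P.equivMapOfInjective (MulAut.conj g).toMonoidHom
    (MulAut.conj g).injective).trans (MulEquiv.subgroupCongr hP)
  have hC : C.map e.toMonoidHom = C := Subgroup.characteristic_iff_map_eq.1 inferInstance e
  conv_rhs => rw [← hC, Subgroup.map_map]
  rfl

/-- Fixed points of a coprime operator group lie in the derived subgroup when `[P, A] = P`. -/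
theorem fixed_mem_commutator [Finite X] {A P : Subgroup X} (hAP : A ≤ Subgroup.normalizer (P : Set X))
    (hcop : (Nat.card A).Coprime (Nat.card P)) (hgen : ⁅P, A⁆ = P)
    {x : ↥P} (hx : (x : X) ∈ Subgroup.centralizer (A : Set X)) : x ∈ commutator ↥P := by
  classical
  have := Fintype.ofFinite A
  let cj : A → ↥P →* ↥P := fun a =>
    { toFun := fun y => ⟨(a : X) * y * (a : X)⁻¹,
        (Subgroup.mem_normalizer_iff.1 (hAP a.2) y).1 y.2⟩
      map_one' := by ext; simp
      map_mul' := fun y z => by ext; simp [mul_assoc] }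
  let ν : ↥P →* Abelianization ↥P :=
    { toFun := fun y => ∏ a : A, Abelianization.of (cj a y)
      map_one' := by simp
      map_mul' := fun y z => by simp [Finset.prod_mul_distrib] }
  have hν : ν = 1 := by
    have hle : P ≤ ν.ker.map P.subtype := by
      have key : ⁅P, A⁆ ≤ ν.ker.map P.subtype := Subgroup.commutator_le.2 fun u hu b hb => by
        let v : ↥P := cj ⟨b, hb⟩ (⟨u, hu⟩⁻¹)
        refine ⟨⟨u, hu⟩ * v, ?_, ?_⟩
        · show ν (⟨u, hu⟩ * v) = 1
          have h1 : ν v = ν (⟨u, hu⟩⁻¹) := by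
            show ∏ a : A, Abelianization.of (cj a v) = ∏ a : A, Abelianization.of (cj a _)
            refine Fintype.prod_equiv (Equiv.mulRight (⟨b, hb⟩ : A)) _ _ fun a => ?_
            congr 1
            ext
            simp [v, cj, mul_assoc]
          rw [map_mul, h1, map_inv, mul_inv_cancel]
        · simp [v, cj, commutatorElement_def, mul_assoc]
      rwa [hgen] at key
    refine MonoidHom.ext fun y => ?_
    obtain ⟨z, hz, hzy⟩ := hle y.2
    obtain rfl : z = y := Subtype.ext hzy
    exact hz
  have h1 : ν x = Abelianization.of x ^ Nat.card A := by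
    show ∏ a : A, Abelianization.of (cj a x) = _
    have : ∀ a : A, cj a x = x := fun a => by
      ext
      show (a : X) * x * (a : X)⁻¹ = x
      rw [Subgroup.mem_centralizer_iff.1 hx a a.2, mul_inv_cancel_right]
    simp [this, Nat.card_eq_fintype_card]
  rw [hν, MonoidHom.one_apply] at h1
  have h2 : orderOf (Abelianization.of x) = 1 :=
    Nat.eq_one_of_dvd_coprimes hcop (orderOf_dvd_of_pow_eq_one h1.symm)
      ((orderOf_map_dvd _ x).trans (orderOf_dvd_natCard x))
  rw [orderOf_eq_one_iff] at h2
  rwa [← Abelianization.ker_of, MonoidHom.mem_ker]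

/-- Powers of a product when the commutator is central. -/
theorem mul_pow_central {G : Type*} [Group G] {x y : G}
    (hc : ∀ g : G, Commute ⁅y, x⁆ g) (n : ℕ) :
    (x * y) ^ n = x ^ n * y ^ n * ⁅y, x⁆ ^ (n.choose 2) := by
  set c := ⁅y, x⁆ with hcdef
  have hyx : ∀ m : ℕ, y ^ m * x = c ^ m * (x * y ^ m) := by
    intro m
    induction m with
    | zero => simp
    | succ m ih =>
      have h0 : y * x = c * (x * y) := by simp [hcdef, commutatorElement_def, mul_assoc]
      calc y ^ (m + 1) * x = y * (y ^ m * x) := by rw [pow_succ', mul_assoc]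
        _ = y * (c ^ m * (x * y ^ m)) := by rw [ih]
        _ = c ^ m * (y * x) * y ^ m := by
          rw [← mul_assoc, ← ((hc y).pow_left m).eq]; simp only [mul_assoc]
        _ = c ^ m * (c * (x * y)) * y ^ m := by rw [h0]
        _ = c ^ (m + 1) * (x * y ^ (m + 1)) := by
          rw [pow_succ c m, pow_succ' y m]; simp only [mul_assoc]
  induction n with
  | zero => simp
  | succ n ih =>
    have hch : (n + 1).choose 2 = n + n.choose 2 := by
      rw [Nat.choose_succ_succ' n 1, Nat.choose_one_right]
    have hC : ∀ g, Commute (c ^ n.choose 2) g := fun g => (hc g).pow_left _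
    have hD : ∀ g, Commute (c ^ n) g := fun g => (hc g).pow_left _
    rw [hch, pow_add c, pow_succ (x * y), ih]
    calc x ^ n * y ^ n * c ^ n.choose 2 * (x * y)
        = x ^ n * y ^ n * (x * y) * c ^ n.choose 2 := by
          rw [mul_assoc (x ^ n * y ^ n), (hC _).eq, ← mul_assoc]
      _ = x ^ n * (y ^ n * x) * y * c ^ n.choose 2 := by simp only [mul_assoc]
      _ = c ^ n * (x ^ n * x * (y ^ n * y)) * c ^ n.choose 2 := by
          rw [hyx n, ← mul_assoc (x ^ n) (c ^ n), ← (hD (x ^ n)).eq]; simp only [mul_assoc]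
      _ = _ := by rw [pow_succ x n, pow_succ y n, (hD _).eq, mul_assoc]

/-- The Hall–Higman reduction for a minimal non-trivial action. Let B, A and P be subgroups of a finite group with P a p-group, B normalizing P, and A a normal subgroup of B of order prime to p. Suppose A does not centralize P but centralizes every proper B-invariant subgroup of P. Then [P, A] = P; P is elementary abelian or special; B acts irreducibly on P/Φ(P), that is, the only B-invariant subgroups of P containing Φ(P) are Φ(P) and P; and if p is odd then every element of P has order dividing p. -/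
theorem result {X : Type*} [Group X] [Finite X] {p : ℕ} [Fact p.Prime] (B A P : Subgroup X) (hP : IsPGroup p P) (hBP : B ≤ Subgroup.normalizer (P : Set X)) (hAB : A ≤ B) (hAn : B ≤ Subgroup.normalizer (A : Set X)) (hAp : (Nat.card A).Coprime p) (hnt : ⁅P, A⁆ ≠ ⊥) (hmin : ∀ U : Subgroup X, U < P → B ≤ Subgroup.normalizer (U : Set X) → ⁅U, A⁆ = ⊥) : ⁅P, A⁆ = P ∧ (Cfsg.IsElementaryAbelian p P ∨ Cfsg.IsSpecial p ↥P) ∧ (∀ U : Subgroup X, (frattini ↥P).map P.subtype ≤ U → U ≤ P → B ≤ Subgroup.normalizer (U : Set X) → U = (frattini ↥P).map P.subtype ∨ U = P) ∧ (p ≠ 2 → ∀ x ∈ P, x ^ p = 1) := by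
  classical
  have hp := (Fact.out : p.Prime)
  have hAP : A ≤ Subgroup.normalizer (P : Set X) := hAB.trans hBP
  have hcop : (Nat.card A).Coprime (Nat.card P) := by
    obtain ⟨k, hk⟩ := hP.exists_card_eq
    rw [hk]; exact hAp.pow_right k
  have hWle : ⁅P, A⁆ ≤ P := Subgroup.le_normalizer_iff_commutator_le_left.1 hAP
  have hW : ⁅P, A⁆ = P := by
    by_contra hne
    have hBW : B ≤ Subgroup.normalizer ((⁅P, A⁆ : Subgroup X) : Set X) := fun g hg => by
      refine Subgroup.mem_normalizer_iff_map_conj_eq.2 ?_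
      rw [Subgroup.map_commutator, Subgroup.mem_normalizer_iff_map_conj_eq.1 (hBP hg),
        Subgroup.mem_normalizer_iff_map_conj_eq.1 (hAn hg)]
    refine hnt (CfsgLib.Coprime.commutator_eq_bot_of_commutator_commutator ?_
      (hmin _ (lt_of_le_of_ne hWle hne) hBW))
    exact hcop.coprime_dvd_right (Subgroup.card_dvd_of_le hWle)
  have hPne : P ≠ ⊥ := fun h => hnt (by rw [h, Subgroup.commutator_bot_left])
  set Φ := (frattini ↥P).map P.subtype with hΦ
  have hfix : ∀ (U : Subgroup X), U < P → B ≤ Subgroup.normalizer (U : Set X) →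
      ∀ u : ↥P, (u : X) ∈ U → u ∈ commutator ↥P := fun U hU hBU u hu =>
    fixed_mem_commutator hAP hcop hW
      (Subgroup.commutator_eq_bot_iff_le_centralizer.1 (hmin U hU hBU) hu)
  have hnil := hP.isNilpotent
  have hPtriv : Nontrivial ↥P := (Subgroup.nontrivial_iff_ne_bot _).2 hPne
  have hΦlt : Φ < P := by
    refine lt_of_le_of_ne (Subgroup.map_subtype_le _) fun h => ?_
    have h' : frattini ↥P = ⊤ := by
      refine Subgroup.map_injective P.subtype_injective ?_
      rw [← MonoidHom.range_eq_map, Subgroup.range_subtype]; exact h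
    obtain ⟨M, hM, -⟩ := (eq_top_or_exists_le_coatom (⊥ : Subgroup ↥P)).resolve_left
      (by exact bot_ne_top)
    exact hM.1 (top_le_iff.1 (h' ▸ frattini_le_coatom hM))
  have hBΦ : B ≤ Subgroup.normalizer (Φ : Set X) := hBP.trans (char_map_normalizer _)
  have hΦA := hmin Φ hΦlt hBΦ
  have hΦP : ⁅Φ, P⁆ = ⊥ := by
    have h1 : ⁅⁅A, Φ⁆, P⁆ = ⊥ := by
      rw [Subgroup.commutator_comm A, hΦA, Subgroup.commutator_bot_left]
    have h2 : ⁅⁅Φ, P⁆, A⁆ = ⊥ := by
      refine eq_bot_iff.2 (le_trans (Subgroup.commutator_mono ?_ le_rfl) hΦA.le)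
      exact Subgroup.le_normalizer_iff_commutator_le_left.1
        ((Subgroup.le_normalizer).trans (char_map_normalizer _))
    have h := Subgroup.commutator_commutator_eq_bot_of_rotate (H₁ := P) (H₂ := A) (H₃ := Φ) h1 h2
    rwa [hW, Subgroup.commutator_comm] at h
  have hΦZ : frattini ↥P ≤ Subgroup.center ↥P := fun x hx => Subgroup.mem_center_iff.2 fun y =>
    Subtype.ext (Subgroup.mem_centralizer_iff.1
      (Subgroup.commutator_eq_bot_iff_le_centralizer.1 hΦP (Subgroup.mem_map_of_mem _ hx)) y y.2)
  have hDΦ : commutator ↥P ≤ frattini ↥P := Subgroup.commutator_le.2 fun x _ y _ =>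
    CfsgLib.PGroup.Frattini.commutatorElement_mem_frattini hP x y
  have hΦD : frattini ↥P ≤ commutator ↥P := fun x hx =>
    hfix Φ hΦlt hBΦ x (Subgroup.mem_map_of_mem _ hx)
  have hstruct : Cfsg.IsElementaryAbelian p P ∨ Cfsg.IsSpecial p ↥P := by
    by_cases hab : Subgroup.center ↥P = ⊤
    · left
      have hcomm : ∀ x y : ↥P, x * y = y * x := fun x y =>
        Subgroup.mem_center_iff.1 (hab ▸ Subgroup.mem_top y) x
      refine ⟨⟨⟨hcomm⟩⟩, fun a ha => ?_⟩
      have h1 : commutator ↥P = ⊥ := eq_bot_iff.2 (Subgroup.commutator_le.2 fun x _ y _ =>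
        Subgroup.mem_bot.2 (commutatorElement_eq_one_iff_mul_comm.2 (hcomm x y)))
      have h2 := hΦD (CfsgLib.PGroup.Frattini.pow_mem_frattini hP ⟨a, ha⟩)
      rw [h1, Subgroup.mem_bot] at h2
      exact congrArg Subtype.val h2
    · right
      have hZD : Subgroup.center ↥P ≤ commutator ↥P := by
        have hlt : (Subgroup.center ↥P).map P.subtype < P := by
          refine lt_of_le_of_ne (Subgroup.map_subtype_le _) fun h => hab ?_
          refine Subgroup.map_injective P.subtype_injective ?_
          rw [← MonoidHom.range_eq_map, Subgroup.range_subtype]; exact h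
        exact fun x hx => hfix _ hlt (hBP.trans (char_map_normalizer _)) x
          (Subgroup.mem_map_of_mem _ hx)
      exact ⟨hP, le_antisymm hΦZ (hZD.trans hDΦ), le_antisymm (hDΦ.trans hΦZ) hZD⟩
  refine ⟨hW, hstruct, fun U hΦU hUP hBU => ?_, fun hp2 x hx => ?_⟩
  · by_cases h : U = P
    · exact Or.inr h
    · refine Or.inl (le_antisymm ?_ hΦU)
      intro u hu
      exact ⟨⟨u, hUP hu⟩, hDΦ (hfix U (lt_of_le_of_ne hUP h) hBU _ hu), rfl⟩
  · have hcpow : ∀ a b : ↥P, ⁅a, b⁆ ^ p = 1 := by
      intro a b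
      have hc : ∀ g, Commute ⁅a, b⁆ g := fun g =>
        ((Subgroup.mem_center_iff.1 (hΦZ (CfsgLib.PGroup.Frattini.commutatorElement_mem_frattini hP a b))) g).symm
      have hpc : Commute (a ^ p) b :=
        ((Subgroup.mem_center_iff.1 (hΦZ (CfsgLib.PGroup.Frattini.pow_mem_frattini hP a))) b).symm
      have key : ∀ m : ℕ, a ^ m * b * (a ^ m)⁻¹ = ⁅a, b⁆ ^ m * b := by
        intro m
        induction m with
        | zero => simp
        | succ m ih =>
          have e : a ^ (m + 1) * b * (a ^ (m + 1))⁻¹ = a * (a ^ m * b * (a ^ m)⁻¹) * a⁻¹ := by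
            rw [pow_succ' a m]; group
          rw [e, ih, ← mul_assoc a, ← ((hc a).pow_left m).eq, pow_succ ⁅a, b⁆ m]
          simp [commutatorElement_def, mul_assoc]
      have := key p
      rw [hpc.eq, mul_inv_cancel_right] at this
      exact mul_eq_right.1 this.symm
    have hmulp : ∀ a b : ↥P, (a * b) ^ p = a ^ p * b ^ p := by
      intro a b
      rw [mul_pow_central (fun g => ((Subgroup.mem_center_iff.1
        (hΦZ (CfsgLib.PGroup.Frattini.commutatorElement_mem_frattini hP b a))) g).symm)]
      obtain ⟨m, hm⟩ := hp.dvd_choose_self (k := 2) (by norm_num)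
        (lt_of_le_of_ne hp.two_le (Ne.symm hp2))
      rw [hm, pow_mul, hcpow, one_pow, mul_one]
    let pw : ↥P →* ↥P := MonoidHom.mk' (fun a => a ^ p) hmulp
    have hker : P ≤ pw.ker.map P.subtype := by
      have key : ⁅P, A⁆ ≤ pw.ker.map P.subtype := Subgroup.commutator_le.2 fun u hu b hb => by
        have hv : b * u⁻¹ * b⁻¹ ∈ P :=
          (Subgroup.mem_normalizer_iff.1 (hAP hb) _).1 (P.inv_mem hu)
        refine ⟨⟨u, hu⟩ * ⟨_, hv⟩, ?_, by simp [commutatorElement_def, mul_assoc]⟩
        show (⟨u, hu⟩ * ⟨_, hv⟩ : ↥P) ^ p = 1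
        rw [hmulp]
        apply Subtype.ext
        have hfixp : b * (u ^ p)⁻¹ * b⁻¹ = (u ^ p)⁻¹ := by
          have := Subgroup.mem_centralizer_iff.1
            (Subgroup.commutator_eq_bot_iff_le_centralizer.1 hΦA
              (Φ.inv_mem (Subgroup.mem_map_of_mem P.subtype
                (CfsgLib.PGroup.Frattini.pow_mem_frattini hP ⟨u, hu⟩)))) b hb
          simp only [Subgroup.coe_subtype, SubgroupClass.coe_pow] at this
          rw [this, mul_inv_cancel_right]
        simp only [Subgroup.coe_mul, SubgroupClass.coe_pow, Subgroup.coe_one, conj_pow, inv_pow,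
          hfixp, mul_inv_cancel]
      rwa [hW] at key
    obtain ⟨z, hz, hzx⟩ := hker hx
    have hz' : (z : X) ^ p = 1 := congrArg Subtype.val (show z ^ p = 1 from hz)
    rw [← hzx]; exact hz'

end Cfsg.Agent.S3736
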