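import Cfsg.Statements.S0886
import Cfsg.Agent.Lib.CharDeep.ProjExt

set_option autoImplicit false
open Cfsg

namespace Cfsg.Agent.S0886

/-- Let N be a normal subgroup of the finite group G with G / N cyclic, and ϑ an irreducible character of N invariant under conjugation by G. Then ϑ is the restriction of some irreducible character of G. -/
theorem result {G : Type*} [Group G] [Finite G] (N : Subgroup G) [hN : N.Normal] (hcyc : IsCyclic (G ⧸ N)) (ϑ : N → ℂ) (hϑ : Cfsg.IsIrrCharacter N ϑ) (hinv : ∀ (g : G) (n : N), ϑ ⟨g * n * g⁻¹, hN.conj_mem (n : G) n.2 g⟩ = ϑ n) : ∃ χ : G → ℂ, Cfsg.IsIrrCharacter G χ ∧ ∀ n : N, χ n = ϑ n := by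
  obtain ⟨d, ρ, hρ, rfl⟩ := hϑ
  obtain ⟨q, hq⟩ := hcyc.exists_zpow_surjective
  obtain ⟨x, rfl⟩ := QuotientGroup.mk_surjective q
  obtain ⟨σ, hσ⟩ := CfsgLib.CharDeep.ProjExt.exists_extension_of_zpowers ρ hinv x fun g => by
    obtain ⟨i, hi⟩ := hq (g : G ⧸ N)
    have h1 : ((g * (x ^ i)⁻¹ : G) : G ⧸ N) = 1 := by
      rw [QuotientGroup.mk_mul, QuotientGroup.mk_inv, QuotientGroup.mk_zpow, ← hi, mul_inv_cancel]
    exact ⟨⟨_, (QuotientGroup.eq_one_iff _).1 h1⟩, i, by simp⟩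
  exact CfsgLib.CharDeep.ProjExt.exists_character_of_extension ρ σ hσ

end Cfsg.Agent.S0886
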