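import Cfsg.Statements.S0867
import Cfsg.Agent.Lib.CharDeep.DetExt

set_option autoImplicit false
open Cfsg CfsgLib.CharDeep

namespace Cfsg.Agent.S0867

/-- Let N be a normal subgroup of the finite group G and ϑ an irreducible character of N of degree d, invariant under conjugation by G, such that the index of N is coprime to the product of d and the determinantal order of ϑ. Then there is an irreducible character χ of G restricting to ϑ whose determinantal order equals that of ϑ, and χ is the only irreducible character of G restricting to ϑ whose determinantal order is coprime to the index of N. -/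
theorem result {G : Type*} [Group G] [Finite G] (N : Subgroup G) [hN : N.Normal] (ϑ : N → ℂ) (hϑ : Cfsg.IsIrrCharacter N ϑ) (hinv : ∀ (g : G) (n : N), ϑ ⟨g * n * g⁻¹, hN.conj_mem (n : G) n.2 g⟩ = ϑ n) (d : ℕ) (hd : ϑ 1 = d) (hcop : Nat.Coprime N.index (Cfsg.detOrder ϑ * d)) : ∃ χ : G → ℂ, (Cfsg.IsIrrCharacter G χ ∧ (∀ n : N, χ n = ϑ n) ∧ Cfsg.detOrder χ = Cfsg.detOrder ϑ) ∧ ∀ χ' : G → ℂ, Cfsg.IsIrrCharacter G χ' → (∀ n : N, χ' n = ϑ n) → Nat.Coprime N.index (Cfsg.detOrder χ') → χ' = χ := by
  obtain ⟨k, ρ, hρ, rfl⟩ := hϑ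
  rw [Representation.char_one] at hd
  obtain rfl : Module.finrank ℂ (Fin k → ℂ) = d := by exact_mod_cast hd
  set f := DetExt.detHom ρ with hfdef
  have horder : Cfsg.detOrder ρ.character = orderOf f := by
    rw [Cfsg.detOrder, DetExt.detChar_character, ← IrrTools.orderOf_coe_hom]
    rfl
  rw [horder] at hcop ⊢
  have hcd : N.index.Coprime (Module.finrank ℂ (Fin k → ℂ)) :=
    hcop.coprime_dvd_right (dvd_mul_left _ _)
  have hco : N.index.Coprime (orderOf f) := hcop.coprime_dvd_right (dvd_mul_right _ _)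
  have hfinv : ∀ (g : G) (n : N), f ⟨g * n * g⁻¹, hN.conj_mem (n : G) n.2 g⟩ = f n := by
    intro g n
    have := ProjExt.twist_isIrreducible ρ g
    have h1 : (ProjExt.twist ρ g).character = ρ.character := funext fun x => hinv g x
    have h2 := (DetExt.detChar_character (ProjExt.twist ρ g)).symm.trans
      ((congrArg Cfsg.detChar h1).trans (DetExt.detChar_character ρ))
    exact Units.ext (congrFun h2 n)
  have ho : ∀ n, f n ^ orderOf f = 1 := fun n => by
    rw [← MonoidHom.pow_apply, pow_orderOf_eq_one, MonoidHom.one_apply]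
  obtain ⟨F, hF⟩ := CentralExt.exists_extension_of_pow_eq_one f hfinv (orderOf f) ho
    fun p hp hpo => ⟨N, le_rfl, fun h => hp.ne_one (Nat.eq_one_of_dvd_coprimes hco h hpo), f,
      fun n _ => rfl⟩
  obtain ⟨a, ha1, ha2⟩ := Nat.chineseRemainder hco 0 1
  set μ : G →* ℂˣ := F ^ a with hμdef
  have hμN : ∀ n : N, μ n = f n := fun n => by
    rw [hμdef, MonoidHom.pow_apply, hF, pow_eq_pow_mod a (ho n), ha2,
      ← pow_eq_pow_mod 1 (ho n), pow_one]
  have hμg : ∀ g, μ g ^ orderOf f = 1 := fun g => by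
    obtain ⟨t, ht⟩ := Nat.modEq_zero_iff_dvd.1 ha1
    have h1 : F g ^ (N.index * orderOf f) = 1 := by
      rw [pow_mul, ← map_pow, hF ⟨_, N.pow_index_mem g⟩, ho]
    rw [hμdef, MonoidHom.pow_apply, ← pow_mul, ht,
      show N.index * t * orderOf f = N.index * orderOf f * t by ring, pow_mul, h1, one_pow]
  have hμo : orderOf μ = orderOf f := by
    refine Nat.dvd_antisymm (orderOf_dvd_of_pow_eq_one (MonoidHom.ext fun g => ?_))
      (orderOf_dvd_of_pow_eq_one (MonoidHom.ext fun n => ?_))
    · rw [MonoidHom.pow_apply, hμg, MonoidHom.one_apply]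
    · rw [MonoidHom.pow_apply, ← hμN, ← MonoidHom.pow_apply, pow_orderOf_eq_one]
      rfl
  obtain ⟨σ, hσN, hσd⟩ := DetExt.exists_extension_det ρ hinv hcd μ hμN
  have := DetExt.isIrreducible_of_extends ρ σ hσN
  refine ⟨σ.character, ⟨IrrTools.isIrrCharacter_character σ,
    fun n => congrArg (LinearMap.trace ℂ _) (hσN n), ?_⟩, ?_⟩
  · rw [Cfsg.detOrder, DetExt.detChar_character, ← hμo, ← hσd, ← IrrTools.orderOf_coe_hom]
    rfl
  · rintro χ' ⟨l, τ, hτ, rfl⟩ hτN hτc
    rw [Cfsg.detOrder, DetExt.detChar_character,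
      show (fun g => LinearMap.det (τ g)) = fun g => ((DetExt.detHom τ g : ℂˣ) : ℂ) from rfl,
      IrrTools.orderOf_coe_hom] at hτc
    refine DetExt.character_eq_of_det_eq ρ hcd σ hσN τ hτN (MonoidHom.ext fun g => ?_)
    rw [hσd]
    have hδN : ∀ n : N, DetExt.detHom τ n = μ n := fun n => by
      rw [hμN]
      obtain ⟨φ⟩ := IrrTools.nonempty_equiv_of_character_eq ρ (τ.comp N.subtype) (funext hτN)
      refine Units.ext ?_
      rw [hfdef, DetExt.coe_detHom, DetExt.coe_detHom,
        ← LinearMap.det_conj (ρ n) φ.toLinearEquiv]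
      congr 1
      refine LinearMap.ext fun v => ?_
      simp only [LinearMap.coe_comp, LinearEquiv.coe_coe, Function.comp_apply]
      refine Eq.trans ?_ (LinearMap.congr_fun (φ.toIntertwiningMap.isIntertwining' n)
        (φ.toLinearEquiv.symm v)).symm
      show τ n v = τ n (φ.toLinearEquiv (φ.toLinearEquiv.symm v))
      rw [LinearEquiv.apply_symm_apply]
    rw [← mul_inv_eq_one, ← orderOf_eq_one_iff]
    refine Nat.eq_one_of_dvd_coprimes (hτc.mul_right hco)
      (orderOf_dvd_of_pow_eq_one ?_) (orderOf_dvd_of_pow_eq_one ?_)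
    · rw [mul_pow, inv_pow, ← map_pow, ← map_pow, hδN ⟨_, N.pow_index_mem g⟩, mul_inv_cancel]
    · rw [mul_pow, inv_pow, pow_mul, ← MonoidHom.pow_apply (DetExt.detHom τ), pow_orderOf_eq_one,
        MonoidHom.one_apply, one_pow, one_mul, mul_comm (orderOf _), pow_mul, hμg, one_pow, inv_one]

end Cfsg.Agent.S0867
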