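import Mathlib
import Cfsg.Statements.S0713
-- import your own Cfsg.Agent.* helpers here

set_option autoImplicit false
open Cfsg

namespace Cfsg.Agent.S0713

open Equiv MulAction

variable {α : Type*} [Fintype α] [DecidableEq α]

theorem exists_normalizing {G : Subgroup (Equiv.Perm α)} {p : ℕ} (hp : p.Prime) {g : Equiv.Perm α}
    (hgc : g.IsCycle) (hgp : g.support.card = p) (hg : g ∈ G) (x : Equiv.Perm α) (hx : x ∈ G)
    (hxF : ∀ z, z ∉ g.support → x z ∉ g.support) :
    ∃ y ∈ G, (∃ a : ℕ, y * g * y⁻¹ = g ^ a) ∧ ∀ z, z ∉ g.support → y z = x z := by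
  haveI := Fact.mk hp
  let S := {z : α // z ∈ g.support}
  let K : Subgroup (Equiv.Perm α) :=
    G ⊓ fixingSubgroup (Equiv.Perm α) {z | z ∉ g.support}
  have memK : ∀ {u}, u ∈ K ↔ u ∈ G ∧ ∀ z, z ∉ g.support → u z = z := by
    intro u
    simp only [K, Subgroup.mem_inf, mem_fixingSubgroup_iff, Set.mem_ofPred_eq, Equiv.Perm.smul_def]
  have hdvd : Nat.card K ∣ p.factorial := by
    have hsub : K ≤ (Equiv.Perm.ofSubtype : Equiv.Perm S →* Equiv.Perm α).range := by
      intro u hu
      have hfix : ∀ z, u z ≠ z → z ∈ g.support := fun z hz => by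
        by_contra h
        exact hz ((memK.mp hu).2 z h)
      refine ⟨u.subtypePerm (p := (· ∈ g.support)) (fun z => ?_),
        Equiv.Perm.ofSubtype_subtypePerm _ hfix⟩
      by_cases huz : u z = z
      · rw [huz]
      · exact ⟨fun _ => hfix z huz, fun _ => hfix _ (fun h => huz (u.injective h))⟩
    have := Subgroup.card_dvd_of_le hsub
    rwa [← Nat.card_congr (MonoidHom.ofInjective Equiv.Perm.ofSubtype_injective).toEquiv,
      Nat.card_perm, Nat.card_eq_fintype_card (α := ↥g.support), Fintype.card_coe, hgp] at this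
  have hgK : g ∈ K := memK.mpr ⟨hg, fun z hz => Equiv.Perm.notMem_support.mp hz⟩
  have hxinv : ∀ z, z ∉ g.support → x⁻¹ z ∉ g.support := by
    intro z hz
    have himg : (g.supportᶜ).map x.toEmbedding = g.supportᶜ := by
      apply Finset.eq_of_subset_of_card_le
      · intro w hw
        obtain ⟨v, hv, rfl⟩ := Finset.mem_map.mp hw
        simpa using hxF v (by simpa using hv)
      · simp
    have : z ∈ (g.supportᶜ).map x.toEmbedding := by rw [himg]; simpa using hz
    obtain ⟨v, hv, rfl⟩ := Finset.mem_map.mp this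
    simpa using hv
  have hgxK : x * g * x⁻¹ ∈ K := memK.mpr ⟨G.mul_mem (G.mul_mem hx hg) (G.inv_mem hx),
    fun z hz => by
      rw [Equiv.Perm.mul_apply, Equiv.Perm.mul_apply,
        Equiv.Perm.notMem_support.mp (hxinv z hz)]
      simp⟩
  have hog : orderOf g = p := by rw [hgc.orderOf, hgp]
  have hfac : (Nat.card K).factorization p = 1 := by
    apply le_antisymm
    · refine (((Nat.factorization_le_iff_dvd Nat.card_pos.ne' (Nat.factorial_ne_zero _)).mpr hdvd)
        p).trans ?_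
      have h1 : p.factorial = p * (p - 1).factorial :=
        (Nat.mul_factorial_pred hp.ne_zero).symm
      rw [h1, Nat.factorization_mul hp.ne_zero (Nat.factorial_ne_zero _)]
      simp only [Finsupp.add_apply, hp.factorization_self]
      rw [Nat.factorization_eq_zero_of_not_dvd]
      rw [hp.dvd_factorial]
      have := hp.two_le
      omega
    · refine (hp.dvd_iff_one_le_factorization Nat.card_pos.ne').mp ?_
      have h := orderOf_dvd_natCard (⟨g, hgK⟩ : K)
      rwa [Subgroup.orderOf_mk, hog] at h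
  have mk : ∀ u (hu : u ∈ K), orderOf u = p →
      Nat.card (Subgroup.zpowers (⟨u, hu⟩ : K)) = p ^ (Nat.card K).factorization p := by
    intro u hu hou
    rw [Nat.card_zpowers, Subgroup.orderOf_mk, hou, hfac, pow_one]
  have hox : orderOf (x * g * x⁻¹) = p := by
    rw [← MulAut.conj_apply]
    exact (MulEquiv.orderOf_eq _ _).trans hog
  let P : Sylow p K := Sylow.ofCard _ (mk g hgK hog)
  let Q : Sylow p K := Sylow.ofCard _ (mk _ hgxK hox)
  obtain ⟨w, hw⟩ := MulAction.exists_smul_eq K Q P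
  have hmem : w * ⟨_, hgxK⟩ * w⁻¹ ∈ Subgroup.zpowers (⟨g, hgK⟩ : K) := by
    change w * ⟨_, hgxK⟩ * w⁻¹ ∈ (P : Subgroup K)
    rw [← hw, Sylow.coe_subgroup_smul, Subgroup.mem_pointwise_smul_iff_inv_smul_mem]
    have : (MulAut.conj w)⁻¹ • (w * ⟨_, hgxK⟩ * w⁻¹) = (⟨_, hgxK⟩ : K) := by
      rw [inv_smul_eq_iff]
      rfl
    rw [this]
    exact Subgroup.mem_zpowers _
  obtain ⟨a, ha⟩ := (isOfFinOrder_of_finite _).mem_powers_iff_mem_zpowers.mpr hmem
  refine ⟨(w : Equiv.Perm α) * x, G.mul_mem (memK.mp w.2).1 hx, ⟨a, ?_⟩, fun z hz => ?_⟩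
  · have := congrArg Subtype.val ha
    simp only [SubmonoidClass.coe_pow, Subgroup.coe_mul, Subgroup.coe_inv] at this
    rw [this]
    group
  · rw [Equiv.Perm.mul_apply, (memK.mp w.2).2 _ (hxF z hz)]


/-- Jordan's Theorem: a primitive permutation group of degree `n ≥ 5` containing a `p`-cycle for a prime `p ≤ n - 3` contains the alternating group. -/
theorem result {α : Type*} [Fintype α] [DecidableEq α] (G : Subgroup (Equiv.Perm α)) (hG : MulAction.IsPreprimitive G α) {p : ℕ} (hp : p.Prime) (hn : 5 ≤ Fintype.card α) (hpn : p + 3 ≤ Fintype.card α) {g : Equiv.Perm α} (hgc : g.IsCycle) (hgp : g.support.card = p) (hg : g ∈ G) : alternatingGroup α ≤ G := by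
  have hmul : IsMultiplyPretransitive G α (Fintype.card α - p + 1) := by
    obtain ⟨m, hm⟩ : ∃ m, Fintype.card α - p = m + 1 := ⟨Fintype.card α - p - 1, by omega⟩
    have hpre : IsMultiplyPreprimitive G α (m + 2) := by
      apply hG.isMultiplyPreprimitive (s := ((g.support : Set α)ᶜ))
      · apply Nat.add_left_cancel (n := g.support.card)
        rw [← Set.ncard_coe_finset, Set.ncard_add_ncard_compl, Set.ncard_coe_finset,
          Nat.card_eq_fintype_card]
        omega
      · rw [Nat.card_eq_fintype_card]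
        have := hp.two_le
        omega
      have := Equiv.Perm.isPretransitive_of_isCycle_mem hgc hg
      apply IsPreprimitive.of_prime_card
      classical
      convert! hp
      rw [Nat.card_eq_fintype_card, Fintype.card_subtype, ← hgp]
      apply congr_arg
      ext z
      simp [SubMulAction.mem_ofFixingSubgroup_iff]
    rw [hm]
    exact IsMultiplyPreprimitive.isMultiplyPretransitive ..
  have ext : ∀ σ : Equiv.Perm α, ∃ x ∈ G, ∀ z, z ∉ g.support → x z = σ z := by
    intro σ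
    have hk : (g.supportᶜ).card ≤ Fintype.card α - p + 1 := by
      rw [Finset.card_compl]; omega
    have : IsMultiplyPretransitive G α (g.supportᶜ).card :=
      isMultiplyPretransitive_of_le hk (by simp; have := hp.two_le; omega)
    let e := (g.supportᶜ).equivFin.symm
    let u : Fin (g.supportᶜ).card ↪ α :=
      ⟨fun i => (e i : α), fun i j h => e.injective (Subtype.ext h)⟩
    obtain ⟨x, hx⟩ := exists_smul_eq G u (u.trans σ.toEmbedding)
    refine ⟨x, x.2, fun z hz => ?_⟩
    have h := DFunLike.congr_fun hx (e.symm ⟨z, by simpa using hz⟩)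
    change (x : Equiv.Perm α) ((e (e.symm ⟨z, _⟩)) : α) = σ (e (e.symm ⟨z, _⟩)) at h
    rwa [Equiv.apply_symm_apply] at h
  obtain ⟨a, b, c, ha, hb, hc, hab, hac, hbc⟩ := Finset.two_lt_card_iff.mp
    (show 2 < (g.supportᶜ).card by rw [Finset.card_compl, hgp]; omega)
  rw [Finset.mem_compl] at ha hb hc
  have hsw : ∀ u v, u ∉ g.support → v ∉ g.support → ∀ z, z ∉ g.support →
      Equiv.swap u v z ∉ g.support := by
    intro u v hu hv z hz
    rw [Equiv.swap_apply_def]
    split_ifs <;> assumption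
  have mkN : ∀ u v, u ∉ g.support → v ∉ g.support → ∃ y ∈ G, (∃ k : ℕ, y * g * y⁻¹ = g ^ k) ∧
      ∀ z, z ∉ g.support → y z = Equiv.swap u v z := by
    intro u v hu hv
    obtain ⟨x, hxG, hx⟩ := ext (Equiv.swap u v)
    obtain ⟨y, hy, hn, hyx⟩ := exists_normalizing hp hgc hgp hg x hxG
      (fun z hz => by rw [hx z hz]; exact hsw u v hu hv z hz)
    exact ⟨y, hy, hn, fun z hz => (hyx z hz).trans (hx z hz)⟩
  obtain ⟨x, hxG, ⟨i, hi⟩, hx⟩ := mkN a b ha hb
  obtain ⟨y, hyG, ⟨j, hj⟩, hy⟩ := mkN a c ha hc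
  obtain ⟨d, hd⟩ : ∃ d, d = (y * x)⁻¹ * (x * y) := ⟨_, rfl⟩
  have hcom : Commute d g := by
    have h1 : (x * y) * g * (x * y)⁻¹ = g ^ (i * j) := by
      rw [pow_mul, ← hi, conj_pow, ← hj]; group
    have h2 : (y * x) * g * (y * x)⁻¹ = g ^ (i * j) := by
      rw [mul_comm i, pow_mul, ← hj, conj_pow, ← hi]; group
    subst hd
    show (y * x)⁻¹ * (x * y) * g = g * ((y * x)⁻¹ * (x * y))
    calc (y * x)⁻¹ * (x * y) * g
        = (y * x)⁻¹ * (x * y * g * (x * y)⁻¹) * (x * y) := by group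
      _ = (y * x)⁻¹ * (y * x * g * (y * x)⁻¹) * (x * y) := by rw [h1, h2]
      _ = _ := by group
  obtain ⟨o, ho⟩ : g.support.Nonempty := Finset.card_pos.mp (hgp ▸ hp.pos)
  have hdo : d o ∈ g.support := by
    rw [Equiv.Perm.mem_support] at ho ⊢
    intro h
    apply ho
    apply d.injective
    rw [← Equiv.Perm.mul_apply, hcom.eq, Equiv.Perm.mul_apply, h]
  obtain ⟨n, hn⟩ := hgc.exists_zpow_eq (Equiv.Perm.mem_support.mp ho) (Equiv.Perm.mem_support.mp hdo)
  have hmem : d * (g ^ n)⁻¹ ∈ G := G.mul_mem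
    (hd ▸ G.mul_mem (G.inv_mem (G.mul_mem hyG hxG)) (G.mul_mem hxG hyG))
    (G.inv_mem (G.zpow_mem hg n))
  have hinv : ∀ (w : Equiv.Perm α) u v, u ∉ g.support → v ∉ g.support →
      (∀ z, z ∉ g.support → w z = Equiv.swap u v z) →
      ∀ z, z ∉ g.support → w⁻¹ z = Equiv.swap u v z := by
    intro w u v hu hv hw z hz
    rw [Equiv.Perm.inv_eq_iff_eq, hw _ (hsw u v hu hv z hz), Equiv.swap_apply_self]
  have heq : d * (g ^ n)⁻¹ = (Equiv.swap a b * Equiv.swap a c) ^ 2 := by
    ext z
    by_cases hz : z ∈ g.support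
    · obtain ⟨m, hm⟩ := hgc.exists_zpow_eq (Equiv.Perm.mem_support.mp ho)
        (Equiv.Perm.mem_support.mp hz)
      have h1 : ∀ w, w ∈ g.support → Equiv.swap a b w = w ∧ Equiv.swap a c w = w := fun w hw =>
        ⟨Equiv.swap_apply_of_ne_of_ne (fun h => ha (h ▸ hw)) (fun h => hb (h ▸ hw)),
         Equiv.swap_apply_of_ne_of_ne (fun h => ha (h ▸ hw)) (fun h => hc (h ▸ hw))⟩
      rw [Equiv.Perm.mul_apply, sq]
      simp only [Equiv.Perm.mul_apply, (h1 z hz).1, (h1 z hz).2]
      rw [← zpow_neg, ← hm, ← Equiv.Perm.mul_apply, ← Equiv.Perm.mul_apply, mul_assoc, ← zpow_add,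
        (hcom.zpow_right _).eq, Equiv.Perm.mul_apply, ← hn, ← Equiv.Perm.mul_apply, ← zpow_add]
      congr 2
      omega
    · have hg0 : (g ^ n)⁻¹ z = z := by
        rw [← zpow_neg]
        exact Equiv.Perm.zpow_apply_eq_self_of_apply_eq_self (Equiv.Perm.notMem_support.mp hz) _
      rw [Equiv.Perm.mul_apply, hg0, hd, mul_inv_rev, sq]
      simp only [Equiv.Perm.mul_apply]
      have z1 := hsw a c ha hc z hz
      have z2 := hsw a b ha hb _ z1
      have z3 := hsw a c ha hc _ z2
      rw [hy z hz, hx _ z1, hinv y a c ha hc hy _ z2, hinv x a b ha hb hx _ z3]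
  rw [heq] at hmem
  exact Equiv.Perm.alternatingGroup_le_of_isPreprimitive_of_isThreeCycle_mem hG
    (Equiv.Perm.isThreeCycle_swap_mul_swap_same hab hac hbc).isThreeCycle_sq (by rwa [sq] at hmem)

end Cfsg.Agent.S0713
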