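import Cfsg.Agent.Lib.Sporadic.CertOctad
import Cfsg.Agent.Lib.Sporadic.Sextets
import Cfsg.Statements.S1556
-- import your own Cfsg.Agent.* helpers here

set_option autoImplicit false
open scoped Pointwise
open Cfsg

namespace Cfsg.Agent.S1556

open CfsgLib.SmallGroups.Golay CfsgLib.SmallGroups.GolayOctads CfsgLib.SmallGroups.M24Group
  CfsgLib.SmallGroups.Mathieu CfsgLib.Sporadic.M24Orbits
open scoped Pointwise

theorem octad_orbit (o o' o'' : Finset GolayPt) (ho : o ∈ octads) (ho' : o' ∈ octads) (ho'' : o'' ∈ octads)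
    (h : (o ∩ o').card = (o ∩ o'').card) :
    ∃ g : Equiv.Perm GolayPt, g ∈ M24 ∧ g • o = o ∧ g • o' = o'' := by
  obtain ⟨a, ha, hao⟩ := exists_to_octB ho
  have hA : ∀ x ∈ octads, ∃ n ∈ cwOfWeight 8, toSet n = a • x ∧ pc (n &&& octB) = (o ∩ x).card := by
    intro x hx
    obtain ⟨n, hn, hnx⟩ := mem_octads.1 (smul_mem_weight ha hx)
    refine ⟨n, hn, hnx, ?_⟩
    rw [← card_toSet, ← toSet_inter, hnx, ← hao, card_inter_smul, Finset.inter_comm]
  have key : ∀ {j : ℕ} {root : ℕ} {T : Tree}, (o ∩ o').card = j →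
      cert CfsgLib.Sporadic.CertOctad.gens [octB] root T cwKey enc
        ((cwOfWeight 8).filter fun n => pc (n &&& octB) == j) = true →
      ∃ g : Equiv.Perm GolayPt, g ∈ M24 ∧ g • o = o ∧ g • o' = o'' := by
    intro j root T hj hc
    obtain ⟨n, hn, hn', hnc⟩ := hA o' ho'
    obtain ⟨m, hm, hm', hmc⟩ := hA o'' ho''
    obtain ⟨g, hg, hfix, he⟩ := orbit_transitive hc
      (List.mem_filter.2 ⟨hn, beq_iff_eq.2 (hnc.trans hj)⟩)
      (List.mem_filter.2 ⟨hm, beq_iff_eq.2 (hmc.trans (h ▸ hj))⟩)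
    refine ⟨a⁻¹ * g * a, mul_mem (mul_mem (inv_mem ha) hg) ha, ?_, ?_⟩
    · rw [mul_smul, mul_smul, hao, hfix octB (by simp), ← hao, inv_smul_smul]
    · rw [mul_smul, mul_smul, ← hn', he, hm', inv_smul_smul]
  by_cases h5 : 5 ≤ (o ∩ o').card
  · exact ⟨1, one_mem _, one_smul _ _, by
      rw [one_smul, ← octad_eq_of_inter ho ho' h5, ← octad_eq_of_inter ho ho'' (h ▸ h5)]⟩
  · rcases CfsgLib.Sporadic.Sextets.octad_inter ho ho' (fun e => h5 (by rw [← e, Finset.inter_self, ho.2]; norm_num)) with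
      hj | hj | hj
    · exact key hj CfsgLib.Sporadic.CertOctad.cert0
    · exact key hj CfsgLib.Sporadic.CertOctad.cert2
    · exact key hj CfsgLib.Sporadic.CertOctad.cert4

/-- Two octads meeting a fixed octad in equally many points are in the same orbit of its stabiliser. -/
theorem result (o o' o'' : Finset Cfsg.GolayPt) (ho : o ∈ Cfsg.octads) (ho' : o' ∈ Cfsg.octads) (ho'' : o'' ∈ Cfsg.octads) (h : (o ∩ o').card = (o ∩ o'').card) : ∃ g : Equiv.Perm Cfsg.GolayPt, g ∈ Cfsg.M24 ∧ g • o = o ∧ g • o' = o'' := by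
  exact octad_orbit o o' o'' ho ho' ho'' h

end Cfsg.Agent.S1556
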