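import Cfsg.Agent.Lib.Sporadic.Sextets
import Cfsg.Agent.Lib.SmallGroups.MathieuSets
import Cfsg.Statements.S1560
-- import your own Cfsg.Agent.* helpers here

set_option autoImplicit false
open scoped Pointwise
open Cfsg

namespace Cfsg.Agent.S1560

open CfsgLib.SmallGroups.Golay CfsgLib.SmallGroups.GolayOctads CfsgLib.SmallGroups.Mathieu

theorem dodecad_counts :
    ((cwOfWeight 12).filter fun n => pc (n &&& dodB) == 4).length = 495 ∧
    ((cwOfWeight 12).filter fun n => pc (n &&& dodB) == 6).length = 1584 ∧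
    ((cwOfWeight 12).filter fun n => pc (n &&& dodB) == 8).length = 495 := by
  decide +kernel

/-- Intersection numbers of dodecads: a dodecad meets every other dodecad in 0, 4, 6 or 8 points, meeting 495 of them in 4 points, 1584 in 6 points and 495 in 8 points. -/
theorem result (d : Finset Cfsg.GolayPt) (hd : d ∈ Cfsg.dodecads) : (∀ d' ∈ Cfsg.dodecads, d' ≠ d → (d ∩ d').card = 0 ∨ (d ∩ d').card = 4 ∨ (d ∩ d').card = 6 ∨ (d ∩ d').card = 8) ∧ {d' : Finset Cfsg.GolayPt | d' ∈ Cfsg.dodecads ∧ (d ∩ d').card = 4}.ncard = 495 ∧ {d' : Finset Cfsg.GolayPt | d' ∈ Cfsg.dodecads ∧ (d ∩ d').card = 6}.ncard = 1584 ∧ {d' : Finset Cfsg.GolayPt | d' ∈ Cfsg.dodecads ∧ (d ∩ d').card = 8}.ncard = 495 := by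
  have key : ∀ j : ℕ, {d' : Finset GolayPt | d' ∈ dodecads ∧ (d ∩ d').card = j}.ncard =
      ((cwOfWeight 12).filter fun n => pc (n &&& dodB) == j).length := fun j => by
    rw [← CfsgLib.SmallGroups.MathieuSets.count_inter_dodecad hd 12 j]
    congr 1
    ext d'
    simp only [Set.mem_ofPred_eq, Finset.inter_comm d d']
    rfl
  refine ⟨fun d' hd' hne => ?_, by rw [key]; exact dodecad_counts.1, by rw [key]; exact dodecad_counts.2.1,
    by rw [key]; exact dodecad_counts.2.2⟩
  have h := CfsgLib.Sporadic.Sextets.supports_card (CfsgLib.Sporadic.Sextets.symmDiff_mem hd.1 hd'.1)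
  have h2 := card_symmDiff_add d d'
  rw [hd.2, hd'.2] at h2
  have hlt : (d ∩ d').card < 12 := by
    by_contra hge
    have h1 : d ∩ d' = d := Finset.eq_of_subset_of_card_le Finset.inter_subset_left (by rw [hd.2]; omega)
    exact hne (Finset.eq_of_subset_of_card_le (Finset.inter_eq_left.1 h1) (by rw [hd.2, hd'.2])).symm
  omega

end Cfsg.Agent.S1560
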