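import Cfsg.Agent.Lib.Sporadic.M24Certs
import Cfsg.Agent.S1560
import Cfsg.Statements.S1561
-- import your own Cfsg.Agent.* helpers here

set_option autoImplicit false
open scoped Pointwise
open Cfsg

namespace Cfsg.Agent.S1561

open CfsgLib.SmallGroups.Golay CfsgLib.SmallGroups.GolayOctads CfsgLib.SmallGroups.M24Group
  CfsgLib.SmallGroups.Mathieu CfsgLib.Sporadic.M24Orbits CfsgLib.Sporadic.M24Config
  CfsgLib.Sporadic.M24Certs
open scoped Pointwise

/-- Two dodecads meeting a fixed dodecad in equally many points lie in one orbit of its stabiliser. -/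
theorem result (d d' d'' : Finset Cfsg.GolayPt) (hd : d ∈ Cfsg.dodecads) (hd' : d' ∈ Cfsg.dodecads) (hd'' : d'' ∈ Cfsg.dodecads) (h : (d ∩ d').card = (d ∩ d'').card) : ∃ g : Equiv.Perm Cfsg.GolayPt, g ∈ Cfsg.M24 ∧ g • d = d ∧ g • d' = d'' := by
  obtain ⟨a, ha, hao⟩ := exists_to_dodB hd
  have hq : ∀ j n S, toSet n = a • S → ((pc (n &&& dodB) == j) = true ↔ (d ∩ S).card = j) :=
    fun j n S hn => by rw [beq_iff_eq, pc_moved hn hao]
  have fin : ∀ {j root : ℕ} {T : Tree}, (d ∩ d').card = j →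
      cert gensDodecad [dodB] root T cwKey enc ((cwOfWeight 12).filter fun n => pc (n &&& dodB) == j) = true →
      ∃ g : Equiv.Perm GolayPt, g ∈ M24 ∧ g • d = d ∧ g • d' = d'' := fun {j root T} hj hc => by
    obtain ⟨g, hg, hfix, -, he⟩ := orbit_moved ha hc (hq j) hd' hj hd'' (h ▸ hj)
    exact ⟨g, hg, hfix dodB (by simp) d hao, he⟩
  by_cases hdd : d' = d
  · exact fin (by rw [hdd, Finset.inter_self, hd.2]) certDodecad12
  · rcases (Cfsg.Agent.S1560.result d hd).1 d' hd' hdd with hj | hj | hj | hj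
    · exact fin hj certDodecad0
    · exact fin hj certDodecad4
    · exact fin hj certDodecad6
    · exact fin hj certDodecad8

end Cfsg.Agent.S1561
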