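import Cfsg.Agent.Lib.Sporadic.M24Certs
import Cfsg.Statements.S1562
-- import your own Cfsg.Agent.* helpers here

set_option autoImplicit false
open scoped Pointwise
open Cfsg

namespace Cfsg.Agent.S1562

open CfsgLib.SmallGroups.Golay CfsgLib.SmallGroups.GolayOctads CfsgLib.SmallGroups.M24Group
  CfsgLib.SmallGroups.Mathieu CfsgLib.Sporadic.M24Orbits CfsgLib.Sporadic.M24Config
  CfsgLib.Sporadic.M24Certs
open scoped Pointwise

/-- The base triad. -/
def triB : ℕ := 8392705

theorem counts :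
    ((sets 24 3).filter fun n => n &&& triB == 0 && inOctad triB n).length = 210 ∧
    ((sets 24 3).filter fun n => n &&& triB == 0 && !inOctad triB n).length = 1120 := by
  decide +kernel

/-- Orbits of a triad stabiliser on the triads disjoint from it: the 210 triads inside a common octad with it form one orbit and the remaining 1120 another. -/
theorem result (T : Finset Cfsg.GolayPt) (hT : T.card = 3) : {U : Finset Cfsg.GolayPt | U.card = 3 ∧ Disjoint T U ∧ (∃ o ∈ Cfsg.octads, T ∪ U ⊆ o)}.ncard = 210 ∧ {U : Finset Cfsg.GolayPt | U.card = 3 ∧ Disjoint T U ∧ ¬ (∃ o ∈ Cfsg.octads, T ∪ U ⊆ o)}.ncard = 1120 ∧ ∀ U U' : Finset Cfsg.GolayPt, U.card = 3 → U'.card = 3 → Disjoint T U → Disjoint T U' → ((∃ o ∈ Cfsg.octads, T ∪ U ⊆ o) ↔ (∃ o ∈ Cfsg.octads, T ∪ U' ⊆ o)) → ∃ g : Equiv.Perm Cfsg.GolayPt, g ∈ Cfsg.M24 ∧ g • T = T ∧ g • U = U' := by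
  classical
  obtain ⟨y, hy, hyT⟩ : ∃ y : Fin 3 → GolayPt, Function.Injective y ∧ ∀ i, y i ∈ T :=
    ⟨fun i => ((T.equivFinOfCardEq hT).symm i : GolayPt),
      fun i j e => (T.equivFinOfCardEq hT).symm.injective (Subtype.ext e), fun i => Subtype.coe_prop _⟩
  obtain ⟨a, ha, hay⟩ := exists_to_points (n := 3) (by norm_num) y hy
  have haT : a • T = toSet triB := by
    refine (Finset.eq_of_subset_of_card_le ?_ ?_).symm
    · intro r hr
      have hcases : ∀ r ∈ toSet triB, ∃ i : Fin 3, bpt i = r := by decide +kernel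
      obtain ⟨i, rfl⟩ := hcases r hr
      rw [← hay i, ← Equiv.Perm.smul_def]
      exact Finset.smul_mem_smul_finset (hyT i)
    · rw [Finset.card_smul_finset, hT, card_toSet, show pc triB = 3 by decide +kernel]
  have hTlt : triB < 2 ^ 24 := by decide
  have hd : ∀ n ∈ sets 24 3, ∀ U, toSet n = a • U → ((n &&& triB == 0) = true ↔ Disjoint T U) := by
    intro n hn U hU
    rw [beq_iff_eq, Finset.disjoint_iff_inter_eq_empty, ← Finset.card_eq_zero, ← card_inter_smul a T U,
      haT, ← hU, Finset.inter_comm, toSet_inter, Finset.card_eq_zero]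
    refine ⟨fun e => by rw [e]; ext p; simp, fun e => toSet_inj (lt_of_le_of_lt Nat.and_le_right hTlt) (by norm_num) ?_⟩
    rw [e]; ext p; simp
  have ho : ∀ n ∈ sets 24 3, ∀ U, toSet n = a • U →
      (inOctad triB n = true ↔ ∃ o ∈ octads, T ∪ U ⊆ o) := by
    intro n hn U hU
    rw [inOctad_iff hTlt (sets_three.2 n hn).1]
    constructor
    · rintro ⟨o, hoc, hsub⟩
      refine ⟨a⁻¹ • o, smul_mem_weight (inv_mem ha) hoc, ?_⟩
      rw [← inv_smul_smul a (T ∪ U)]
      exact Finset.smul_finset_subset_smul_finset (by rw [Finset.smul_finset_union, haT, ← hU]; exact hsub)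
    · rintro ⟨o, hoc, hsub⟩
      refine ⟨a • o, smul_mem_weight ha hoc, ?_⟩
      rw [hU, ← haT, ← Finset.smul_finset_union]
      exact Finset.smul_finset_subset_smul_finset hsub
  refine ⟨?_, ?_, fun U U' hU hU' hdU hdU' hiff => ?_⟩
  · exact (count_moved_sets a 3 sets_three _ _ fun n hn U hU => by
      rw [Bool.and_eq_true, hd n hn U hU, ho n hn U hU]).trans counts.1
  · exact (count_moved_sets a 3 sets_three _ _ fun n hn U hU => by
      rw [Bool.and_eq_true, hd n hn U hU, ← ho n hn U hU, Bool.not_eq_true', Bool.not_eq_true]).trans counts.2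
  · by_cases hin : ∃ o ∈ octads, T ∪ U ⊆ o
    · obtain ⟨g, hg, hfix, -, he⟩ := orbit_moved_sets ha certTriadIn
        (P := fun U => Disjoint T U ∧ ∃ o ∈ octads, T ∪ U ⊆ o)
        (fun n hn U hU => by rw [Bool.and_eq_true]; exact and_congr (hd n hn U hU) (ho n hn U hU))
        hU ⟨hdU, hin⟩ hU' ⟨hdU', hiff.1 hin⟩
      exact ⟨g, hg, hfix triB (by simp [triB]) T haT, he⟩
    · obtain ⟨g, hg, hfix, -, he⟩ := orbit_moved_sets ha certTriadOut
        (P := fun U => Disjoint T U ∧ ¬ ∃ o ∈ octads, T ∪ U ⊆ o)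
        (fun n hn U hU => by
          rw [Bool.and_eq_true, ← ho n hn U hU, Bool.not_eq_true', Bool.not_eq_true]
          exact and_congr (hd n hn U hU) Iff.rfl)
        hU ⟨hdU, hin⟩ hU' ⟨hdU', fun hh => hin (hiff.2 hh)⟩
      exact ⟨g, hg, hfix triB (by simp [triB]) T haT, he⟩

end Cfsg.Agent.S1562
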