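import Cfsg.Agent.Lib.ThreeTransp.M24Classes
import Cfsg.Statements.S5394
-- import your own Cfsg.Agent.* helpers here

set_option autoImplicit false
open Cfsg

namespace Cfsg.Agent.S5394
open CfsgLib.ThreeTransp.M24Classes CfsgLib.ThreeTransp.ClassData CfsgLib.SmallGroups.Golay CfsgLib.Sporadic
open CfsgLib.Sporadic.M24Orbits
open scoped Pointwise

theorem two_facts {g : Equiv.Perm Cfsg.GolayPt} (h : orderOf g = 2) : g * g = 1 ∧ g ≠ 1 := by
  refine ⟨?_, fun e => ?_⟩
  · rw [← sq, ← h, pow_orderOf_eq_one]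
  · rw [e, orderOf_one] at h; exact absurd h (by norm_num)

theorem three_facts {g : Equiv.Perm Cfsg.GolayPt} (h : orderOf g = 3) : g ^ 3 = 1 ∧ g ≠ 1 := by
  refine ⟨?_, fun e => ?_⟩
  · rw [← h, pow_orderOf_eq_one]
  · rw [e, orderOf_one] at h; exact absurd h (by norm_num)

theorem fix_zero {g : Equiv.Perm Cfsg.GolayPt} :
    (∀ p, g p ≠ p) ↔ (Finset.univ.filter fun p => g p = p).card = 0 := by
  rw [Finset.card_eq_zero, Finset.filter_eq_empty_iff]
  exact ⟨fun h p _ => h p, fun h p => h (Finset.mem_univ p)⟩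

theorem fixA {h : Equiv.Perm Cfsg.GolayPt} (hh : IsTbl h repTwoA) :
    (Finset.univ.filter fun p => h p = p) ∈ Cfsg.octads := by
  rw [Finset.filter_congr fun p _ => hh.fix_iff p]
  refine CfsgLib.SmallGroups.GolayOctads.mem_octads.2
    ⟨mask (fun p => if tblNat repTwoA (idx p) = idx p then 1 else 0), ?_, ?_⟩
  · refine CfsgLib.SmallGroups.GolayOctads.mem_cwOfWeight.2 ⟨?_, by decide +kernel⟩
    exact mem_cw.2 ⟨mask (fun p => if tblNat repTwoA (idx p) = idx p then 1 else 0) % 4096,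
      Nat.mod_lt _ (by norm_num), by decide +kernel⟩
  · decide +kernel

theorem ord2 {g : Equiv.Perm Cfsg.GolayPt} {R : List ℕ} (h : IsTbl g R)
    (h1 : powNe 2 R = false) (h2 : powNe 1 R = true) : orderOf g = 2 := by
  simp only [powNe, List.any_eq_false, List.mem_range, bne_iff_ne, ne_eq, not_not] at h1
  simp only [powNe, List.any_eq_true, List.mem_range, bne_iff_ne] at h2
  refine orderOf_eq_prime (Equiv.ext fun p => idx_injective ?_) fun e => ?_
  · rw [h.idx_iter, h1 _ (idx_lt p)]; rfl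
  · obtain ⟨i, hi, hne⟩ := h2
    apply hne
    have := h.idx_iter (pt i) 1
    rw [pow_one, e, Equiv.Perm.one_apply, idx_pt hi] at this
    exact this.symm

/-- The automorphism group of the length-24 code built from the squares modulo 23 has exactly two conjugacy classes of involutions: an involution either fixes exactly the eight points of an octad or has no fixed points, both kinds occur, and any two involutions of the same kind are conjugate in the group. -/
theorem result : (∀ g ∈ Cfsg.M24, orderOf g = 2 → (Finset.univ.filter fun p => g p = p) ∈ Cfsg.octads ∨ ∀ p, g p ≠ p) ∧ (∃ g ∈ Cfsg.M24, orderOf g = 2 ∧ (Finset.univ.filter fun p => g p = p) ∈ Cfsg.octads) ∧ (∃ g ∈ Cfsg.M24, orderOf g = 2 ∧ ∀ p, g p ≠ p) ∧ ∀ g ∈ Cfsg.M24, ∀ h ∈ Cfsg.M24, orderOf g = 2 → orderOf h = 2 → ((∀ p, g p ≠ p) ↔ (∀ p, h p ≠ p)) → ∃ k ∈ Cfsg.M24, k * g * k⁻¹ = h := by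
  refine ⟨fun g hg h2 => ?_, ?_, ?_, fun g hg h hh h2 h2' hiff => ?_⟩
  · obtain ⟨h2', hne⟩ := two_facts h2
    rcases two_kind hg h2' hne with ⟨-, k, hk, h⟩ | ⟨h0, -⟩
    · refine Or.inl ?_
      have e := fix_conj g k
      rw [show (Finset.univ.filter fun p => g p = p) = k⁻¹ • (Finset.univ.filter fun p => (k * g * k⁻¹) p = p) by
        rw [e, inv_smul_smul]]
      exact CfsgLib.SmallGroups.M24Group.smul_mem_weight (inv_mem hk) (fixA h)
    · exact Or.inr (fix_zero.2 h0)
  · obtain ⟨g, hg, hidx⟩ := exists_elt reps_ok.1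
    exact ⟨g, hg, ord2 hidx (by decide +kernel) (by decide +kernel), fixA hidx⟩
  · obtain ⟨g, hg, hidx⟩ := exists_elt reps_ok.2.1
    refine ⟨g, hg, ord2 hidx (by decide +kernel) (by decide +kernel), fun p hp => ?_⟩
    exact fixed_card.1 _ (idx_lt p) (((show IsTbl g repTwoB from hidx).fix_iff p).1 hp)
  · obtain ⟨g2, gne⟩ := two_facts h2
    obtain ⟨k2, kne⟩ := two_facts h2'
    rw [fix_zero, fix_zero] at hiff
    rcases two_kind hg g2 gne with ⟨hc, a, ha, e⟩ | ⟨hc, a, ha, e⟩ <;>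
      rcases two_kind hh k2 kne with ⟨hc', b, hb, e'⟩ | ⟨hc', b, hb, e'⟩
    · exact conj_of_rep ha hb e e'
    · have := hiff.2 hc'; omega
    · have := hiff.1 hc; omega
    · exact conj_of_rep ha hb e e'

end Cfsg.Agent.S5394
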