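import Cfsg.Agent.Lib.ThreeTransp.M24Classes
import Cfsg.Agent.Lib.Sporadic.M24SextetStructure
import Cfsg.Statements.S5607
-- import your own Cfsg.Agent.* helpers here

set_option autoImplicit false
set_option maxRecDepth 40000
open scoped Pointwise
open Cfsg

namespace Cfsg.Agent.S5607
open CfsgLib.ThreeTransp.M24Classes CfsgLib.ThreeTransp.ClassData CfsgLib.SmallGroups.Golay CfsgLib.SmallGroups.GolayOctads CfsgLib.SmallGroups.Mathieu
open CfsgLib.SmallGroups.M24Group CfsgLib.Sporadic CfsgLib.Sporadic.M24Config CfsgLib.Sporadic.M24Orbits CfsgLib.Sporadic.SextetData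
open scoped Pointwise

abbrev G : Type := Equiv.Perm Cfsg.GolayPt

/-- The involution fixes every tetrad. -/
def TetFix (g : G) (S : Finset (Finset Cfsg.GolayPt)) : Prop := S ∈ Cfsg.sextets ∧ ∀ x ∈ S, g • x = x

theorem TetFix.conj {g : G} {S : Finset (Finset Cfsg.GolayPt)} (h : TetFix g S) {k : G} (hk : k ∈ Cfsg.M24) :
    TetFix (k * g * k⁻¹) (k • S) := by
  refine ⟨M24Sextet.smul_sextet hk h.1, fun x hx => ?_⟩
  obtain ⟨y, hy, rfl⟩ := Finset.mem_smul_finset.1 hx
  rw [mul_smul, mul_smul, inv_smul_smul, h.2 y hy]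

/-- All tetrads of the sextet of `n` are fixed by the table. -/
def tetOK (n : ℕ) : Bool :=
  img (tblNat repTwoB) n == n &&
    (cwOfWeight 8).all fun o => !(o &&& n == n) || (img (tblNat repTwoB) o == o)

theorem tet_list : M24Sextet.allNodes.filter tetOK = [12845057] := by decide +kernel

theorem tet_iff {B : G} (hM : B ∈ Cfsg.M24) (hB : IsTbl B repTwoB) {n : ℕ} (hn : n ∈ M24Sextet.allNodes) :
    TetFix B (M24Sextet.sx n) ↔ tetOK n = true := by
  obtain ⟨-, hpc, hlt⟩ := M24Sextet.nodes_ok n hn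
  have h4 : (toSet n).card = 4 := (card_toSet n).trans hpc
  have hfix : ∀ m < 2 ^ 24, (B • toSet m = toSet m ↔ img (tblNat repTwoB) m = m) := fun m hm => by
    rw [smul_toSet hB]
    exact ⟨fun e => toSet_inj (img_lt reps_ok.2.1 m) hm e, fun e => by rw [e]⟩
  simp only [tetOK, Bool.and_eq_true, beq_iff_eq, List.all_eq_true, Bool.or_eq_true, Bool.not_eq_true',
    beq_eq_false_iff_ne]
  constructor
  · intro h
    have h0 := h.2 _ (show toSet n ∈ M24Sextet.sx n from Finset.mem_insert_self _ _)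
    refine ⟨(hfix n hlt).1 h0, fun o ho => ?_⟩
    by_cases hon : o &&& n = n
    · have hsub : toSet n ⊆ toSet o := (subset_iff hlt).2 hon
      have hmem : toSet o ∈ Cfsg.octads := mem_octads.2 ⟨o, ho, rfl⟩
      have hp : toSet o \ toSet n ∈ M24Sextet.sx n := by
        refine Finset.mem_insert_of_mem ((Sextets.mem_partners h4).2 ⟨?_, ?_, ?_⟩)
        · rw [Finset.card_sdiff_of_subset hsub, hmem.2, h4]
        · exact Finset.disjoint_sdiff
        · rw [Finset.union_sdiff_of_subset hsub]; exact hmem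
      right
      refine (hfix o (cwOfWeight_lt ho)).1 ?_
      have h1 := h.2 _ hp
      rw [← Finset.union_sdiff_of_subset hsub, Finset.smul_finset_union, h0, h1]
    · exact Or.inl hon
  · rintro ⟨h0, h1⟩
    refine ⟨M24Sextet.sx_mem hn, fun x hx => ?_⟩
    rcases Finset.mem_insert.1 hx with rfl | hx
    · exact (hfix n hlt).2 h0
    · obtain ⟨-, hd, ho⟩ := (Sextets.mem_partners h4).1 hx
      obtain ⟨o, ho', e⟩ := mem_octads.1 ho
      have hon : o &&& n = n := by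
        exact (subset_iff hlt).1 (e ▸ Finset.subset_union_left)
      have h2 : B • toSet o = toSet o := (hfix o (cwOfWeight_lt ho')).2 ((h1 o ho').resolve_left fun h => h hon)
      have hx' : x = toSet o \ toSet n := by rw [e, Finset.union_sdiff_cancel_left hd]
      rw [hx', Finset.smul_finset_sdiff, h2, (hfix n hlt).2 h0]

theorem rep_unique {B : G} (hM : B ∈ Cfsg.M24) (hB : IsTbl B repTwoB) :
    ∀ S, TetFix B S ↔ S = M24Sextet.sx 12845057 := by
  have h := tet_list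
  have hmem : 12845057 ∈ M24Sextet.allNodes ∧ tetOK 12845057 = true :=
    List.mem_filter.1 (h ▸ List.mem_singleton_self _)
  intro S
  constructor
  · intro hS
    obtain ⟨n, hn, rfl⟩ := M24Sextet.exists_node hS.1
    have : n ∈ M24Sextet.allNodes.filter tetOK := List.mem_filter.2 ⟨hn, (tet_iff hM hB hn).1 hS⟩
    rw [h, List.mem_singleton] at this
    rw [this]
  · rintro rfl
    exact (tet_iff hM hB hmem.1).2 hmem.2

/-- A fixed-point-free involution of the group. -/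
def Fpf (t : G) : Prop := t ∈ Cfsg.M24 ∧ t * t = 1 ∧ ∀ p, t p ≠ p

theorem Fpf.conj {t k : G} (h : Fpf t) (hk : k ∈ Cfsg.M24) : Fpf (k * t * k⁻¹) := by
  refine ⟨mul_mem (mul_mem hk h.1) (inv_mem hk), ?_, fun p e => h.2.2 (k⁻¹ p) ?_⟩
  · calc k * t * k⁻¹ * (k * t * k⁻¹) = k * (t * t) * k⁻¹ := by group
      _ = 1 := by rw [h.2.1, mul_one, mul_inv_cancel]
  · rw [Equiv.Perm.mul_apply, Equiv.Perm.mul_apply] at e
    conv_rhs => rw [← e]
    simp

theorem Fpf.to_rep {t : G} (h : Fpf t) : ∃ k ∈ Cfsg.M24, IsTbl (k * t * k⁻¹) repTwoB := by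
  have hne : t ≠ 1 := fun e => h.2.2 none (by rw [e]; rfl)
  rcases two_kind h.1 h.2.1 hne with ⟨h8, -⟩ | ⟨-, hk⟩
  · rw [Finset.filter_eq_empty_iff.2 (fun p _ => h.2.2 p), Finset.card_empty] at h8
    omega
  · exact hk

theorem exists_tet {t : G} (h : Fpf t) : ∃ S, TetFix t S ∧ ∀ S', TetFix t S' → S' = S := by
  obtain ⟨k, hk, hB⟩ := h.to_rep
  have hu := rep_unique (h.conj hk).1 hB
  refine ⟨k⁻¹ • M24Sextet.sx 12845057, ?_, fun S' hS' => ?_⟩
  · have := ((hu _).2 rfl).conj (inv_mem hk)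
    rwa [show k⁻¹ * (k * t * k⁻¹) * k⁻¹⁻¹ = t by group] at this
  · rw [← (hu _).1 (hS'.conj hk), inv_smul_smul]

/-- Tables of elements commuting with the representative and moving the last position anywhere. -/
def moves : List (List ℕ) := [
  [23, 6, 3, 2, 11, 20, 1, 8, 7, 15, 19, 4, 14, 21, 12, 9, 17, 16, 22, 10, 5, 13, 18, 0],
  [6, 10, 16, 17, 11, 2, 19, 8, 7, 9, 12, 4, 23, 13, 0, 15, 22, 18, 20, 14, 3, 21, 5, 1],
  [3, 4, 1, 6, 12, 15, 11, 13, 21, 17, 20, 14, 22, 7, 18, 16, 0, 23, 19, 5, 9, 8, 10, 2],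
  [2, 11, 6, 1, 14, 9, 4, 21, 13, 16, 5, 12, 18, 8, 22, 17, 23, 0, 10, 20, 15, 7, 19, 3],
  [11, 17, 19, 10, 6, 12, 16, 21, 13, 20, 2, 1, 22, 7, 18, 5, 23, 0, 9, 3, 14, 8, 15, 4],
  [20, 11, 23, 0, 10, 15, 4, 13, 21, 3, 18, 19, 16, 8, 17, 2, 14, 12, 6, 22, 9, 7, 1, 5],
  [1, 19, 17, 16, 4, 3, 10, 7, 8, 15, 14, 11, 0, 21, 23, 9, 18, 22, 5, 12, 2, 13, 20, 6],
  [8, 11, 18, 22, 14, 9, 4, 10, 19, 16, 0, 12, 6, 2, 1, 17, 20, 5, 21, 23, 15, 3, 13, 7],
  [7, 4, 22, 18, 12, 15, 11, 19, 10, 17, 23, 14, 1, 3, 6, 16, 5, 20, 13, 0, 9, 2, 21, 8],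
  [15, 1, 18, 22, 16, 20, 6, 8, 7, 12, 23, 17, 10, 13, 19, 14, 2, 3, 4, 0, 5, 21, 11, 9],
  [19, 12, 22, 18, 4, 16, 14, 7, 8, 9, 23, 11, 1, 13, 6, 15, 5, 20, 3, 0, 17, 21, 2, 10],
  [4, 16, 10, 19, 1, 14, 17, 13, 21, 5, 3, 6, 18, 8, 22, 20, 0, 23, 15, 2, 12, 7, 9, 11],
  [14, 9, 7, 8, 6, 4, 15, 2, 3, 20, 21, 1, 22, 19, 18, 5, 23, 0, 17, 13, 11, 10, 16, 12],
  [21, 14, 6, 1, 11, 17, 12, 2, 3, 15, 5, 4, 18, 10, 22, 9, 23, 0, 8, 20, 16, 19, 7, 13],
  [12, 15, 8, 7, 1, 11, 9, 3, 2, 5, 13, 6, 18, 10, 22, 20, 0, 23, 16, 21, 4, 19, 17, 14],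
  [9, 6, 22, 18, 17, 5, 1, 7, 8, 14, 0, 16, 19, 21, 10, 12, 3, 2, 11, 23, 20, 13, 4, 15],
  [17, 3, 0, 23, 6, 10, 2, 21, 13, 5, 18, 1, 11, 8, 4, 20, 9, 15, 12, 22, 19, 7, 14, 16],
  [16, 2, 23, 0, 1, 19, 3, 13, 21, 20, 22, 6, 4, 7, 11, 5, 15, 9, 14, 18, 10, 8, 12, 17],
  [22, 11, 14, 12, 6, 9, 4, 21, 13, 5, 16, 1, 3, 8, 2, 20, 10, 19, 23, 17, 15, 7, 0, 18],
  [10, 14, 18, 22, 11, 17, 12, 8, 7, 15, 0, 4, 6, 21, 1, 9, 20, 5, 2, 23, 16, 13, 3, 19],
  [5, 4, 0, 23, 19, 9, 11, 21, 13, 2, 22, 10, 17, 7, 16, 3, 12, 14, 1, 18, 15, 8, 6, 20],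
  [13, 12, 1, 6, 4, 16, 14, 3, 2, 9, 20, 11, 22, 19, 18, 15, 0, 23, 7, 5, 17, 10, 8, 21],
  [18, 4, 12, 14, 1, 15, 11, 13, 21, 20, 17, 6, 2, 7, 3, 5, 19, 10, 0, 16, 9, 8, 23, 22],
  [0, 1, 2, 3, 4, 5, 6, 7, 8, 9, 10, 11, 12, 13, 14, 15, 16, 17, 18, 19, 20, 21, 22, 23]]

theorem moves_ok : ∀ i < 24, okTbl (moves.getD i []) = true ∧ tblNat (moves.getD i []) 23 = i ∧
    conjEq (moves.getD i []) repTwoB repTwoB = true := by decide +kernel

theorem rep_transitive {B : G} (hM : B ∈ Cfsg.M24) (hB : IsTbl B repTwoB) (p : Cfsg.GolayPt) :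
    ∃ c ∈ Cfsg.M24, c * B = B * c ∧ c none = p := by
  obtain ⟨h1, h2, h3⟩ := moves_ok (idx p) (idx_lt p)
  obtain ⟨c, hc, hci⟩ := exists_elt h1
  refine ⟨c, hc, Equiv.ext fun q => idx_injective ?_, idx_injective ?_⟩
  · rw [Equiv.Perm.mul_apply, Equiv.Perm.mul_apply, hci, hB, hB, hci]
    have := List.all_eq_true.1 h3 (idx q) (List.mem_range.2 (idx_lt q))
    exact beq_iff_eq.1 this
  · rw [hci]; exact h2

theorem transitive {t : G} (h : Fpf t) (p q : Cfsg.GolayPt) : ∃ c ∈ Cfsg.M24, c * t = t * c ∧ c p = q := by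
  obtain ⟨k, hk, hB⟩ := h.to_rep
  obtain ⟨c, hc, hcB, hcp⟩ := rep_transitive (h.conj hk).1 hB (k p)
  obtain ⟨d, hd, hdB, hdq⟩ := rep_transitive (h.conj hk).1 hB (k q)
  have hcomm : Commute (d * c⁻¹) (k * t * k⁻¹) := (Commute.mul_left hdB (Commute.inv_left hcB))
  refine ⟨k⁻¹ * (d * c⁻¹) * k, mul_mem (mul_mem (inv_mem hk) (mul_mem hd (inv_mem hc))) hk, ?_, ?_⟩
  · calc k⁻¹ * (d * c⁻¹) * k * t = k⁻¹ * ((d * c⁻¹) * (k * t * k⁻¹)) * k := by group
      _ = k⁻¹ * ((k * t * k⁻¹) * (d * c⁻¹)) * k := by rw [hcomm.eq]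
      _ = t * (k⁻¹ * (d * c⁻¹) * k) := by group
  · rw [Equiv.Perm.mul_apply, Equiv.Perm.mul_apply, Equiv.Perm.mul_apply, ← hcp]
    simp [hdq]

/-- The number of fixed-point-free tables among the pairing preservers. -/
theorem pairing_count :
    ((List.range 64).filter fun i => (List.range 24).all fun j => tblNat (pairing.getD i []) j != j).length = 18 := by
  decide +kernel

theorem base_fibre : {t : G | Fpf t ∧ TetFix t (M24Sextet.sx M24Sextet.m₀)}.ncard = 18 := by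
  classical
  set S := M24Sextet.sx M24Sextet.m₀ with hSdef
  have hS : S ∈ Cfsg.sextets := M24Sextet.sx_mem M24Sextet.roots_mem.1
  obtain ⟨hlen, hok, hinj⟩ := M24SextetStructure.pairing_ok
  have hmem : ∀ i : Fin 64, pairing.getD i [] ∈ pairing := fun i => by
    rw [List.getD_eq_getElem _ _ (by rw [hlen]; exact i.2)]; exact List.getElem_mem _
  choose f hf hidx using fun i : Fin 64 => exists_elt (hok _ (hmem i)).1
  have hfi : Function.Injective f := fun i j h => hinj i j (List.map_congr_left fun k hk => by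
    rw [← idx_pt (List.mem_range.1 hk), ← hidx i, ← hidx j, h])
  have hP : ∀ i, f i • S = S ∧ M24SextetStructure.Pairs S (f i) := by
    intro i
    obtain ⟨-, h2, h3⟩ := hok _ (hmem i)
    refine ⟨M24Sextet.step_sound (hf i) (hidx i) h2, fun t ht => ?_⟩
    rw [hSdef, M24SextetStructure.base_eq, ← M24SextetStructure.tetrads_ok.2.1, List.mem_toFinset,
      List.mem_map] at ht
    obtain ⟨T, hT, rfl⟩ := ht
    obtain ⟨hT1, hT2⟩ := h3 T hT
    refine ⟨by rw [smul_toSet (hidx i), hT1], fun s hs hc => ?_⟩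
    obtain ⟨n, hn, rfl⟩ := M24Config.exists_set hc
    have hand : n &&& T = n := by
      rw [Nat.and_comm]; exact (subset_iff (M24Config.sets_two.2 n hn).1).1 hs
    rw [smul_toSet (hidx i), ← M24SextetStructure.toSet_xor_sdiff hand]
    rcases hT2 n (List.mem_filter.2 ⟨hn, beq_iff_eq.2 hand⟩) with e | e <;> rw [e]
    · exact Or.inl rfl
    · exact Or.inr rfl
  let φ : Fin 64 → M24SextetStructure.pairSub S := fun i => ⟨⟨⟨f i, hf i⟩, (hP i).1⟩, (hP i).2⟩
  have hφ : Function.Bijective φ := by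
    refine (Nat.bijective_iff_injective_and_card φ).2 ⟨fun i j h => hfi ?_, ?_⟩
    · exact congrArg (fun x : M24SextetStructure.pairSub S => ((x.1 : Cfsg.M24) : G)) h
    · rw [M24SextetStructure.card_pairSub hS, Nat.card_eq_fintype_card, Fintype.card_fin]
  have hkey : {t : G | Fpf t ∧ TetFix t S} = f '' {i | ∀ p, f i p ≠ p} := by
    ext t
    constructor
    · rintro ⟨⟨htM, ht2, htp⟩, -, htet⟩
      have htS : t • S = S := by
        refine Finset.eq_of_subset_of_card_le (fun x hx => ?_) (Finset.card_smul_finset t S).ge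
        obtain ⟨y, hy, rfl⟩ := Finset.mem_smul_finset.1 hx
        rw [htet y hy]; exact hy
      let g : MulAction.stabilizer Cfsg.M24 S := ⟨⟨t, htM⟩, htS⟩
      have hg : g ∈ (M24SextetStructure.tetPerm S).ker := Equiv.ext fun x => Subtype.ext (htet x x.2)
      have hle : M24SextetStructure.pairSub S ≤ (M24SextetStructure.tetPerm S).ker :=
        fun x hx => Equiv.ext fun y => Subtype.ext (hx y y.2).1
      have hker : Nat.card (M24SextetStructure.tetPerm S).ker = 192 := by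
        rw [← M24SextetStructure.card_fix hS]
        exact Nat.card_congr (Equiv.subtypeEquivRight fun x => ⟨fun h y hy => congrArg
          (fun p : Equiv.Perm ↥S => ((p ⟨y, hy⟩ : ↥S) : Finset Cfsg.GolayPt)) h,
          fun h => Equiv.ext fun y => Subtype.ext (h y y.2)⟩)
      have : (M24SextetStructure.pairSub S).Normal := M24SextetStructure.pairSub_normal
      have hidx3 : ((M24SextetStructure.pairSub S).subgroupOf (M24SextetStructure.tetPerm S).ker).index = 3 := by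
        have h := ((M24SextetStructure.pairSub S).subgroupOf (M24SextetStructure.tetPerm S).ker).card_mul_index
        rw [Nat.card_congr (Subgroup.subgroupOfEquivOfLe hle).toEquiv, M24SextetStructure.card_pairSub hS,
          hker] at h
        omega
      have h3 := Subgroup.pow_index_mem
        ((M24SextetStructure.pairSub S).subgroupOf (M24SextetStructure.tetPerm S).ker) ⟨g, hg⟩
      rw [hidx3, Subgroup.mem_subgroupOf] at h3
      have hg2 : g * g = 1 := Subtype.ext (Subtype.ext ht2)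
      rw [Subgroup.coe_pow, pow_succ, pow_two, hg2, one_mul] at h3
      obtain ⟨i, hi⟩ := hφ.2 ⟨g, h3⟩
      have e : f i = t := congrArg (fun x : M24SextetStructure.pairSub S => ((x.1 : Cfsg.M24) : G)) hi
      exact ⟨i, fun p => e ▸ htp p, e⟩
    · rintro ⟨i, hi, rfl⟩
      exact ⟨⟨hf i, M24SextetStructure.Pairs.sq hS (hP i).2, hi⟩, hS, fun x hx => ((hP i).2 x hx).1⟩
  rw [hkey, Set.ncard_image_of_injective _ hfi]
  have hiff : ∀ i : Fin 64, (∀ p, f i p ≠ p) ↔
      ((List.range 24).all fun j => tblNat (pairing.getD i []) j != j) = true := by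
    intro i
    simp only [List.all_eq_true, List.mem_range, bne_iff_ne]
    refine ⟨fun h j hj e => h (pt j) (idx_injective ?_), fun h p e => h _ (idx_lt p) ?_⟩
    · rw [hidx, idx_pt hj, e]
    · rw [← hidx i, e]
  have e : {i : Fin 64 | ∀ p, f i p ≠ p} =
      ↑(Finset.univ.filter fun i : Fin 64 => ((List.range 24).all fun j => tblNat (pairing.getD i []) j != j) = true) := by
    ext i
    simp only [Set.mem_ofPred_eq, Finset.coe_filter, Finset.mem_univ, true_and]
    exact hiff i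
  rw [e, Set.ncard_coe_finset]
  decide +kernel

/-- The centraliser. -/
abbrev Cent (t : G) : Type := {c : G // c ∈ Cfsg.M24 ∧ c * t = t * c}

theorem card_cent_conj {t k : G} (hk : k ∈ Cfsg.M24) : Nat.card (Cent (k * t * k⁻¹)) = Nat.card (Cent t) := by
  refine Nat.card_congr ?_
  exact
    { toFun := fun c => ⟨k⁻¹ * c * k, mul_mem (mul_mem (inv_mem hk) c.2.1) hk, by
        calc k⁻¹ * (c : G) * k * t = k⁻¹ * ((c : G) * (k * t * k⁻¹)) * k := by group
          _ = k⁻¹ * ((k * t * k⁻¹) * (c : G)) * k := by rw [c.2.2]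
          _ = t * (k⁻¹ * (c : G) * k) := by group⟩
      invFun := fun c => ⟨k * c * k⁻¹, mul_mem (mul_mem hk c.2.1) (inv_mem hk), by
        calc k * (c : G) * k⁻¹ * (k * t * k⁻¹) = k * ((c : G) * t) * k⁻¹ := by group
          _ = k * (t * (c : G)) * k⁻¹ := by rw [c.2.2]
          _ = (k * t * k⁻¹) * (k * (c : G) * k⁻¹) := by group⟩
      left_inv := fun c => Subtype.ext (by group)
      right_inv := fun c => Subtype.ext (by group) }

theorem card_cent {t : G} (h : Fpf t) : Nat.card (Cent t) = 7680 := by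
  classical
  obtain ⟨S₀, hS₀, -⟩ := exists_tet h
  obtain ⟨a, ha⟩ := M24Sextet.exists_to_base hS₀.1
  rw [← card_cent_conj a.2]
  set S := M24Sextet.sx M24Sextet.m₀ with hSdef
  set u : G := (a : G) * t * (a : G)⁻¹ with hu
  have hu1 : Fpf u := h.conj a.2
  have hu2 : TetFix u S := by
    have := hS₀.conj a.2
    rwa [show (a : G) • S₀ = S from ha] at this
  have huniq : ∀ {v : G}, Fpf v → TetFix v S → ∀ S', TetFix v S' → S' = S := by
    intro v hv hvS S' hS'
    obtain ⟨S₁, -, h1⟩ := exists_tet hv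
    rw [h1 S' hS', h1 S hvS]
  let X := {v : G // Fpf v ∧ TetFix v S}
  have hmap : ∀ k : MulAction.stabilizer Cfsg.M24 S,
      Fpf (((k : Cfsg.M24) : G) * u * ((k : Cfsg.M24) : G)⁻¹) ∧
      TetFix (((k : Cfsg.M24) : G) * u * ((k : Cfsg.M24) : G)⁻¹) S := fun k =>
    ⟨hu1.conj (k : Cfsg.M24).2, by
      have := hu2.conj (k : Cfsg.M24).2
      rwa [show ((k : Cfsg.M24) : G) • S = S from k.2] at this⟩
  let φ : MulAction.stabilizer Cfsg.M24 S → X := fun k => ⟨_, hmap k⟩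
  have hsurj : Function.Surjective φ := by
    rintro ⟨v, hv, hvS⟩
    obtain ⟨b, hb, hbt⟩ := hv.to_rep
    obtain ⟨c, hc, hct⟩ := hu1.to_rep
    obtain ⟨k, hk, hkv⟩ := conj_of_rep hc hb hct hbt
    have hkS : k • S = S := huniq hv hvS _ (hkv ▸ hu2.conj hk)
    exact ⟨⟨⟨k, hk⟩, hkS⟩, Subtype.ext hkv⟩
  have hcS : ∀ c : Cent u, (c : G) • S = S := fun c => huniq hu1 hu2 _ (by
    have e : (c : G) * u * (c : G)⁻¹ = u := by rw [c.2.2, mul_inv_cancel_right]
    simpa only [e] using hu2.conj c.2.1)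
  choose s hs using hsurj
  have hprod : Nat.card (MulAction.stabilizer Cfsg.M24 S) = Nat.card X * Nat.card (Cent u) := by
    rw [← Nat.card_prod]
    refine Nat.card_congr ?_
    exact
      { toFun := fun k => (φ k, ⟨((s (φ k) : Cfsg.M24) : G)⁻¹ * ((k : Cfsg.M24) : G),
          mul_mem (inv_mem (s (φ k) : Cfsg.M24).2) (k : Cfsg.M24).2, by
          have e := congrArg Subtype.val (hs (φ k))
          simp only [φ] at e
          set A : G := ((s (φ k) : Cfsg.M24) : G)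
          set K : G := ((k : Cfsg.M24) : G)
          have e' : A * u * A⁻¹ = K * u * K⁻¹ := e
          calc A⁻¹ * K * u = A⁻¹ * (K * u * K⁻¹) * K := by group
            _ = A⁻¹ * (A * u * A⁻¹) * K := by rw [e']
            _ = u * (A⁻¹ * K) := by group⟩)
        invFun := fun p => s p.1 * ⟨⟨(p.2 : G), p.2.2.1⟩, hcS p.2⟩
        left_inv := fun k => Subtype.ext (Subtype.ext (mul_inv_cancel_left _ _))
        right_inv := fun p => by
          have e1 : φ (s p.1 * ⟨⟨(p.2 : G), p.2.2.1⟩, hcS p.2⟩) = p.1 := by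
            have e := congrArg Subtype.val (hs p.1)
            refine Subtype.ext ?_
            show ((s p.1 : Cfsg.M24) : G) * (p.2 : G) * u * (((s p.1 : Cfsg.M24) : G) * (p.2 : G))⁻¹ = _
            rw [mul_assoc _ (p.2 : G) u, p.2.2.2, ← e]
            show _ = ((s p.1 : Cfsg.M24) : G) * u * ((s p.1 : Cfsg.M24) : G)⁻¹
            group
          refine Prod.ext e1 (Subtype.ext ?_)
          show ((s (φ (s p.1 * ⟨⟨(p.2 : G), p.2.2.1⟩, hcS p.2⟩)) : Cfsg.M24) : G)⁻¹ * _ = _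
          rw [e1]
          exact inv_mul_cancel_left _ _ }
  have hX : Nat.card X = 18 := by rw [← base_fibre, ← Nat.card_coe_set_eq]; rfl
  rw [M24SextetStructure.card_stab hu2.1, hX] at hprod
  omega

/-- For a fixed-point-free involution t of the group of the length-24 code: its centraliser in that group has order 7680, is transitive on the 24 points, and is contained, together with t, in the stabiliser of some sextet. -/
theorem result (t : Equiv.Perm Cfsg.GolayPt) (ht : t ∈ Cfsg.M24) (h₂ : orderOf t = 2) (h₀ : ∀ p, t p ≠ p) : Nat.card {c : Equiv.Perm Cfsg.GolayPt // c ∈ Cfsg.M24 ∧ c * t = t * c} = 7680 ∧ (∀ p q : Cfsg.GolayPt, ∃ c ∈ Cfsg.M24, c * t = t * c ∧ c p = q) ∧ ∃ S ∈ Cfsg.sextets, t • S = S ∧ ∀ c ∈ Cfsg.M24, c * t = t * c → c • S = S := by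
  have h2 : t * t = 1 := by rw [← sq, ← h₂, pow_orderOf_eq_one]
  have h : Fpf t := ⟨ht, h2, h₀⟩
  obtain ⟨S, hS, huniq⟩ := exists_tet h
  refine ⟨card_cent h, transitive h, S, hS.1, ?_, fun c hc hct => huniq _ ?_⟩
  · refine huniq _ ?_
    have := hS.conj ht
    rwa [mul_inv_cancel_right] at this
  · have := hS.conj hc
    rwa [hct, mul_inv_cancel_right] at this

end Cfsg.Agent.S5607
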