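import Cfsg.Statements.S4466
import Cfsg.Agent.Lib.Blocks.DefectOneGalois
import Cfsg.Agent.Lib.Blocks.DefectOneCount
import Cfsg.Agent.Lib.Blocks.Eigen
import Cfsg.Agent.Lib.CharDeep.ItoMichler
import Cfsg.Agent.Lib.DegreeTools.Codegree
import Cfsg.Agent.Lib.DegreeTools.LinearChars
import Cfsg.Agent.Lib.Char.Constituent
import Cfsg.Agent.S0887
import Cfsg.Agent.Lib.Blocks.ContribBound
import Cfsg.Agent.Lib.Solvable.FrattiniFitting
import Mathlib.LinearAlgebra.Determinant

set_option autoImplicit false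
open Cfsg

namespace Cfsg.Agent.S4466

open CfsgLib CfsgLib.Blocks CfsgLib.Blocks.DefectOne CfsgLib.DegreeTools

universe u

section

variable {G : Type*} [Group G] [Fintype G]

/-- A faithful character of degree two of a perfect group takes scalar values at involutions. -/
theorem degree_two (hperf : commutator G = ⊤) (hZ : Subgroup.center G = ⊥) (χ : Cfsg.IrrCharacter G)
    (hf : ∀ g : G, (χ : G → ℂ) g = (χ : G → ℂ) 1 → g = 1) (h2 : Cfsg.charDegree (χ : G → ℂ) = 2) : False := by
  classical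
  obtain ⟨t, ht⟩ := exists_prime_orderOf_dvd_card' 2 (h2 ▸ charDegree_dvd χ)
  obtain ⟨n, ρ, hirr, hρ⟩ := χ.2
  have hn : n = 2 := by
    have h := congrFun hρ 1
    rw [Representation.char_one, Module.finrank_fin_fun, irr_one_eq, h2] at h
    exact_mod_cast h
  subst hn
  obtain ⟨b, μ, hμ, hμk⟩ := CfsgLib.Char.exists_eigenbasis ρ t
  have hone : LinearMap.det (ρ t) = 1 := by
    let f : G →* ℂˣ := MonoidHom.toHomUnits (LinearMap.det.comp ρ)
    have hfk : t ∈ f.ker := Abelianization.commutator_subset_ker f (hperf ▸ Subgroup.mem_top t)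
    exact congrArg Units.val (MonoidHom.mem_ker.1 hfk)
  have h1 : ∀ i, ρ t (b i) = μ i • b i := fun i => by simpa using hμk 1 i
  have hmat : LinearMap.toMatrix b b (ρ t) = Matrix.diagonal μ := by
    ext i j
    rw [LinearMap.toMatrix_apply, h1, map_smul, Finsupp.smul_apply, Module.Basis.repr_self,
      Finsupp.single_apply, Matrix.diagonal_apply, smul_eq_mul]
    by_cases hij : i = j
    · subst hij; simp
    · simp [hij, Ne.symm hij]
  rw [← LinearMap.det_toMatrix b, hmat, Matrix.det_diagonal] at hone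
  have hfr : Module.finrank ℂ (Fin 2 → ℂ) = 2 := Module.finrank_fin_fun ℂ
  have hsq : ∀ i, μ i * μ i = 1 := fun i => by
    have h := hμ i
    rwa [ht, pow_two] at h
  obtain ⟨i₀⟩ : Nonempty (Fin (Module.finrank ℂ (Fin 2 → ℂ))) := ⟨⟨0, by omega⟩⟩
  have hall : ∀ i, μ i = μ i₀ := by
    intro i
    by_cases hi : i = i₀
    · rw [hi]
    have hprod : μ i₀ * μ i = 1 := by
      rw [← hone, ← Finset.prod_pair (f := μ) (Ne.symm hi)]
      refine Finset.prod_congr ?_ fun _ _ => rfl
      exact Finset.eq_univ_of_card _ (by rw [Finset.card_pair (Ne.symm hi), Fintype.card_fin, hfr])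
    calc μ i = μ i₀ * μ i₀ * μ i := by rw [hsq, one_mul]
      _ = μ i₀ := by rw [mul_assoc, hprod, mul_one]
  have htr : (χ : G → ℂ) t = 2 * μ i₀ := by
    rw [← hρ, Representation.character, CfsgLib.Char.trace_eq_sum_of_eigen _ b μ h1,
      Finset.sum_congr rfl fun i _ => hall i, Finset.sum_const, Finset.card_univ, Fintype.card_fin, hfr]
    simp
  have hz := mem_center_of_norm_eq χ hf t (by
    rw [htr, norm_mul, CfsgLib.Char.norm_eq_one_of_pow_orderOf (hμ i₀), h2]; simp)
  rw [hZ, Subgroup.mem_bot] at hz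
  rw [hz, orderOf_one] at ht
  omega

/-- In a centerless group the prime degree of a faithful character is the order of a Sylow subgroup. -/
theorem card_sylow_of_degree (hZ : Subgroup.center G = ⊥) (χ : Cfsg.IrrCharacter G)
    (hf : ∀ g : G, (χ : G → ℂ) g = (χ : G → ℂ) 1 → g = 1) {p : ℕ} [hp : Fact p.Prime]
    (hd : Cfsg.charDegree (χ : G → ℂ) = p) (P : Sylow p G) : Nat.card P = p := by
  classical
  have hpG : p ∣ Nat.card G := hd ▸ charDegree_dvd χ
  haveI : Nontrivial (P : Subgroup G) := Finite.one_lt_card_iff_nontrivial.1 (by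
    obtain ⟨k, hk⟩ := P.2.exists_card_eq
    have := P.dvd_card_of_dvd_card hpG
    exact hp.out.one_lt.trans_le (Nat.le_of_dvd Nat.card_pos this))
  have hvan : ∀ z : (P : Subgroup G), z ∈ Subgroup.center (P : Subgroup G) → z ≠ 1 → (χ : G → ℂ) (z : G) = 0 := by
    intro z hz hz1
    refine (eq_zero_or_norm_eq_of_coprime χ (z : G) ?_).resolve_right fun h => hz1 (Subtype.ext ?_)
    · rw [hd]
      refine (hp.out.coprime_iff_not_dvd.2 fun h => P.not_dvd_index (h.trans ?_)).symm
      exact Subgroup.index_dvd_of_le fun c hc => Subgroup.mem_centralizer_singleton_iff.2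
        (congrArg Subtype.val (Subgroup.mem_center_iff.1 hz ⟨c, hc⟩))
    · have := mem_center_of_norm_eq χ hf (z : G) h
      rwa [hZ, Subgroup.mem_bot] at this
  set φ : ↥(P : Subgroup G) → ℂ := fun z => (χ : G → ℂ) (z : G) with hφdef
  have hφ : Cfsg.IsCharacter (P : Subgroup G) φ := Char.IsCharacter.restrict (Char.isCharacter_irr χ) _
  have hφ1 : φ 1 = (p : ℂ) := by
    show (χ : G → ℂ) ((1 : (P : Subgroup G)) : G) = _
    rw [OneMemClass.coe_one, irr_one_eq, hd]
  -- the Sylow subgroup is abelian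
  have hab : ∀ a b : (P : Subgroup G), a * b = b * a := by
    by_contra hab
    push Not at hab
    obtain ⟨a, b, hab⟩ := hab
    have hne : commutator (P : Subgroup G) ≠ ⊥ := fun h => hab (by
      have := Subgroup.commutator_mem_commutator (Subgroup.mem_top a) (Subgroup.mem_top b)
      rw [← commutator_def, h, Subgroup.mem_bot, commutatorElement_eq_one_iff_commute] at this
      exact this.eq)
    haveI := P.2.isNilpotent
    obtain ⟨z, hz, hz1⟩ := (Subgroup.bot_or_exists_ne_one _).resolve_left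
      (CfsgLib.Solvable.FrattiniFitting.inf_center_ne_bot (commutator (P : Subgroup G)) hne)
    obtain ⟨m, hm, hexp⟩ := Char.IsCharacter.exists_multiplicity hφ
    have hzero : φ z = 0 := hvan z hz.2 hz1
    by_cases hlin : ∀ ψ : Cfsg.IrrCharacter (P : Subgroup G), m ψ ≠ 0 → (ψ : ↥(P : Subgroup G) → ℂ) 1 = 1
    · have hz' : φ z = φ 1 := by
        rw [hexp, hexp]
        refine Finset.sum_congr rfl fun ψ _ => ?_
        by_cases h0 : m ψ = 0
        · simp [h0]
        rw [linear_apply_commutator ψ (hlin ψ h0) hz.1, hlin ψ h0]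
      rw [hzero, hφ1] at hz'
      exact hp.out.ne_zero (Nat.cast_eq_zero.1 hz'.symm)
    · push Not at hlin
      obtain ⟨ψ, hψ0, hψ1⟩ := hlin
      obtain ⟨da, db, ha, hb, hle, heq⟩ := Char.IsCharacter.constituent_degree_le hφ ψ.2 (by
        rw [hm]; exact_mod_cast hψ0)
      rw [hφ1] at hb
      have hdb : p = db := by exact_mod_cast hb
      obtain ⟨k, hk⟩ := P.2.exists_card_eq
      have hdvd : Cfsg.charDegree (ψ : ↥(P : Subgroup G) → ℂ) ∣ p ^ k := hk ▸ charDegree_dvd ψ
      obtain ⟨i, -, hi⟩ := (Nat.dvd_prime_pow hp.out).1 hdvd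
      have hda : da = p ^ i := by rw [← hi]; rw [irr_one_eq] at ha; exact_mod_cast ha.symm
      have hdap : da = db := by
        rcases i with _ | i
        · exact absurd (by rw [ha, hda, pow_zero, Nat.cast_one]) hψ1
        · have hge : p ≤ da := hda ▸ Nat.le_of_dvd (pow_pos hp.out.pos _) (dvd_pow_self p (Nat.succ_ne_zero i))
          omega
      have hirr : (ψ : ↥(P : Subgroup G) → ℂ) z = 0 := by rw [← heq hdap]; exact hzero
      have h := centScalar_mul ψ hz.2 z⁻¹
      rw [inv_mul_cancel, centScalar, hirr, zero_div, zero_mul] at h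
      exact irr_one_ne_zero ψ h
  -- hence of order `p`
  obtain ⟨k, hk⟩ := P.2.exists_card_eq
  obtain ⟨c, hc⟩ := Char.IsCharacter.classInner_nat hφ (Char.isCharacter_irr (oneChar (P : Subgroup G)))
  have hsum : ∑ z : (P : Subgroup G), φ z = (p : ℂ) := by
    rw [Finset.sum_eq_single (1 : ↥(P : Subgroup G)) (fun z _ hz => hvan z
      (Subgroup.mem_center_iff.2 fun g => hab g z) hz) (fun h => absurd (Finset.mem_univ _) h)]
    exact hφ1
  rw [Cfsg.classInner] at hc
  have hone : ∀ z : (P : Subgroup G), (starRingEnd ℂ) ((oneChar (P : Subgroup G) : ↥(P : Subgroup G) → ℂ) z) = 1 :=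
    fun z => by simp
  simp only [hone, mul_one, hsum, inv_mul_eq_iff_eq_mul₀ (CfsgLib.Char.card_ne_zero (G := (P : Subgroup G)))] at hc
  have hdv : Nat.card (P : Subgroup G) ∣ p := ⟨c, by exact_mod_cast hc⟩
  exact ((Nat.dvd_prime hp.out).1 hdv).resolve_left (Finite.one_lt_card.ne')

/-- A simple group all of whose nonlinear degrees are primes is abelian. -/
theorem simple_case [IsSimpleGroup G] (hnab : ¬ ∀ a b : G, a * b = b * a)
    (h : ∀ χ : Cfsg.IrrCharacter G, Cfsg.charDegree (χ : G → ℂ) ≠ 1 → (Cfsg.charDegree (χ : G → ℂ)).Prime) :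
    False := by
  classical
  have hperf : commutator G = ⊤ := by
    refine (Subgroup.Normal.eq_bot_or_eq_top inferInstance).resolve_left fun hb => hnab fun a b => ?_
    have := Subgroup.commutator_mem_commutator (Subgroup.mem_top a) (Subgroup.mem_top b)
    rw [← commutator_def, hb, Subgroup.mem_bot, commutatorElement_eq_one_iff_commute] at this
    exact this.eq
  have hZ : Subgroup.center G = ⊥ := (Subgroup.Normal.eq_bot_or_eq_top inferInstance).resolve_right fun ht =>
    hnab fun a b => (Subgroup.mem_center_iff.1 (ht ▸ Subgroup.mem_top a) b).symm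
  have hlin : ∀ χ : Cfsg.IrrCharacter G, Cfsg.charDegree (χ : G → ℂ) = 1 → χ = oneChar G := by
    intro χ h1
    refine Subtype.ext (funext fun g => ?_)
    rw [linear_apply_commutator χ ((deg_eq_one_iff χ).1 h1) (hperf ▸ Subgroup.mem_top g)]
    simp
  have hfaith : ∀ χ : Cfsg.IrrCharacter G, χ ≠ oneChar G → ∀ g : G, (χ : G → ℂ) g = (χ : G → ℂ) 1 → g = 1 := by
    intro χ hne g hg
    haveI := Char.charKer_normal (Char.isCharacter_irr χ)
    have hk := (Subgroup.Normal.eq_bot_or_eq_top (H := Char.charKer (Char.isCharacter_irr χ)) inferInstance).resolve_right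
      fun ht => hne ((charKer_eq_top_iff χ).1 ht)
    rw [← Subgroup.mem_bot, ← hk]
    exact hg
  obtain ⟨a, b, hab⟩ : ∃ a b : G, a * b ≠ b * a := by simpa using hnab
  obtain ⟨q, hq, hqd⟩ := Nat.exists_prime_and_dvd (show Nat.card G ≠ 1 from fun h1 => by
    haveI := (Nat.card_eq_one_iff_unique.1 h1).1
    exact hab (Subsingleton.elim _ _))
  obtain ⟨χ₀, hχ₀, -⟩ := exists_ne_one_not_dvd_deg hq hqd
  obtain ⟨χ, -, hmax⟩ := Finset.exists_max_image (Finset.univ : Finset (Cfsg.IrrCharacter G))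
    (fun ψ => Cfsg.charDegree (ψ : G → ℂ)) ⟨χ₀, Finset.mem_univ _⟩
  have hχne : χ ≠ oneChar G := fun e => by
    have h1 := hmax χ₀ (Finset.mem_univ _)
    simp only [e, deg_oneChar] at h1
    exact hχ₀ (hlin χ₀ (le_antisymm h1 (charDegree_pos χ₀)))
  set p := Cfsg.charDegree (χ : G → ℂ) with hpdef
  haveI hp : Fact p.Prime := ⟨h χ fun e => hχne (hlin χ e)⟩
  have hpG : p ∣ Nat.card G := charDegree_dvd χ
  obtain ⟨ψ, hψ1, hψp⟩ := exists_ne_one_not_dvd_deg hp.out hpG
  have hψprime := h ψ fun e => hψ1 (hlin ψ e)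
  have hψlt : Cfsg.charDegree (ψ : G → ℂ) < p :=
    lt_of_le_of_ne (hmax ψ (Finset.mem_univ _)) fun e => hψp (dvd_of_eq e.symm)
  have hno2 : ∀ φ : Cfsg.IrrCharacter G, Cfsg.charDegree (φ : G → ℂ) ≠ 2 := fun φ h2 =>
    degree_two hperf hZ φ (hfaith φ fun e => by rw [e, deg_oneChar] at h2; omega) h2
  have hp5 : 5 ≤ p := by
    have h2 := hno2 ψ
    have h3 := hψprime.two_le
    have hp4 : p ≠ 4 := fun e => by have := hp.out; rw [e] at this; norm_num at this
    omega
  obtain ⟨P⟩ : Nonempty (Sylow p G) := inferInstance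
  obtain ⟨D⟩ := exists_frame P (card_sylow_of_degree hZ χ (hfaith χ hχne) rfl P)
  obtain ⟨M, hM⟩ := exists_isPModular hp.out
  have hmem := trivChar_mem_principalBlock (G := G) hM
  have h1deg : Cfsg.charDegree (trivChar G : G → ℂ) = 1 := by simp [Cfsg.charDegree]
  obtain ⟨θ, hind⟩ := exists_inducing D hM (isPBlock_principalBlock)
    (blockDefect_pos_of_not_dvd hpG hmem (by rw [h1deg]; exact hp.out.not_dvd_one))
  obtain ⟨S⟩ := exists_shape D hM hind
  have htriv : oneChar G = trivChar G := Subtype.ext (funext fun g => by simp)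
  -- every member whose degree is `±1` modulo `p` is principal
  have key : ∀ φ ∈ Cfsg.principalBlock M G, ∀ s : ℤ, (s = 1 ∨ s = -1) →
      (Cfsg.charDegree (φ : G → ℂ) : ℤ) ≡ s [ZMOD p] → φ = trivChar G := by
    intro φ hφ s hs hmod
    by_contra hne
    rw [← htriv] at hne
    have hprime := h φ fun e => hne (hlin φ e)
    have hlt : Cfsg.charDegree (φ : G → ℂ) < p :=
      lt_of_le_of_ne (hmax φ (Finset.mem_univ _)) fun e => S.not_dvd_degree hφ (dvd_of_eq e.symm)
    have h2le := hprime.two_le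
    rcases hs with rfl | rfl
    · have h3 := Int.le_of_dvd (by omega) (Int.modEq_iff_dvd.1 hmod.symm)
      omega
    · have h3 := Int.le_of_dvd (by omega) (Int.modEq_iff_dvd.1 hmod.symm)
      have hodd : Odd p := hp.out.odd_of_ne_two (by omega)
      have heven : Cfsg.charDegree (φ : G → ℂ) = p - 1 := by omega
      have h2 : 2 ∣ Cfsg.charDegree (φ : G → ℂ) := heven ▸ even_iff_two_dvd.1 (hodd.tsub_odd odd_one)
      have := (Nat.prime_dvd_prime_iff_eq Nat.prime_two hprime).1 h2
      omega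
  have hpm : ∀ s t : ℤ, (s = 1 ∨ s = -1) → (t = 1 ∨ t = -1) → (s * t = 1 ∨ s * t = -1) := by
    rintro s t (rfl | rfl) (rfl | rfl) <;> norm_num
  set a : ℤ := (((D.orb θ).card * Cfsg.charDegree (θ : D.K0 → ℂ) : ℕ) : ℤ) with ha
  have hA : (-S.A : ℤ) = 1 ∨ (-S.A : ℤ) = -1 := by rcases S.sgn_A with e | e <;> rw [e] <;> norm_num
  have hXB : ∀ φ ∈ S.X, φ ∈ Cfsg.principalBlock M G := fun φ hφ => (S.mem_iff φ).2 (Or.inl hφ)
  have hYB : ∀ φ ∈ S.Y, φ ∈ Cfsg.principalBlock M G := fun φ hφ => (S.mem_iff φ).2 (Or.inr hφ)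
  have hfull : ((Nat.card D.act.range * Cfsg.charDegree (θ : D.K0 → ℂ) : ℕ) : ℤ)
      = a * (Nat.card (D.autE θ) : ℤ) := by
    rw [ha, ← D.card_orb_mul θ]; push_cast; ring
  rcases (S.mem_iff _).1 hmem with hX | hY
  · have hd := S.deg_X _ hX
    rw [h1deg, ← ha, Nat.cast_one] at hd
    have hs := S.sgn_X _ hX
    have ha' : a ≡ S.sgn (trivChar G) [ZMOD p] := by
      have h2 := hd.mul_left (S.sgn (trivChar G))
      rw [mul_one, ← mul_assoc, show S.sgn (trivChar G) * S.sgn (trivChar G) = 1 by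
        rcases hs with e | e <;> rw [e] <;> norm_num, one_mul] at h2
      exact h2.symm
    have hXone : ∀ φ ∈ S.X, φ = trivChar G := fun φ hφ => key φ (hXB φ hφ) _ (hpm _ _ (S.sgn_X φ hφ) hs)
      ((S.deg_X φ hφ).trans ((ha'.mul_left _)))
    have he : Nat.card (D.autE θ) = 1 := by
      rw [← S.card_X]
      exact Finset.card_eq_one.2 ⟨trivChar G, Finset.eq_singleton_iff_unique_mem.2 ⟨hX, hXone⟩⟩
    obtain ⟨η, hη⟩ : S.Y.Nonempty := ⟨S.ζ 1, (S.mem_Y _).2 ⟨1, rfl⟩⟩
    have hη1 : η = trivChar G := key η (hYB η hη) _ (hpm _ _ hA hs) (by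
      have h2 := S.deg_Y η hη
      rw [hfull, he, Nat.cast_one, mul_one] at h2
      exact h2.trans (ha'.mul_left _))
    exact Finset.disjoint_left.1 S.disj hX (hη1 ▸ hη)
  · have hd := S.deg_Y _ hY
    rw [h1deg, hfull, Nat.cast_one] at hd
    have ha' : a * (Nat.card (D.autE θ) : ℤ) ≡ -S.A [ZMOD p] := by
      have h2 := hd.mul_left (-S.A)
      rw [mul_one, ← mul_assoc, show -S.A * -S.A = 1 by rcases hA with e | e <;> rw [e] <;> norm_num,
        one_mul] at h2
      exact h2.symm
    have hYone : ∀ φ ∈ S.Y, φ = trivChar G := fun φ hφ => key φ (hYB φ hφ) _ (hpm _ _ hA hA) (by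
      have h2 := S.deg_Y φ hφ
      rw [hfull] at h2
      exact h2.trans (ha'.mul_left _))
    have hcY : S.Y.card = 1 :=
      Finset.card_eq_one.2 ⟨trivChar G, Finset.eq_singleton_iff_unique_mem.2 ⟨hY, hYone⟩⟩
    have he : Nat.card (D.autE θ) = p - 1 := by have h2 := S.card_Y; rwa [hcY, mul_one] at h2
    have ha2 : a ≡ S.A [ZMOD p] := by
      rw [he, Nat.cast_sub hp.out.one_le, Nat.cast_one] at ha'
      have h2 : a * ((p : ℤ) - 1) ≡ -a [ZMOD p] := Int.modEq_iff_dvd.2 ⟨-a, by ring⟩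
      have h3 := (h2.symm.trans ha').neg
      rwa [neg_neg, neg_neg] at h3
    obtain ⟨φ, hφ⟩ : S.X.Nonempty := Finset.card_pos.1 (by rw [S.card_X]; exact Nat.card_pos)
    have hφ1 : φ = trivChar G := key φ (hXB φ hφ) _ (hpm _ _ (S.sgn_X φ hφ) S.sgn_A)
      ((S.deg_X φ hφ).trans (ha2.mul_left _))
    exact Finset.disjoint_left.1 S.disj hφ (hφ1 ▸ hY)

end

theorem main : ∀ (m : ℕ) (G : Type u) [Group G] [Finite G], Nat.card G = m →
    (∀ χ : Cfsg.IrrCharacter G, Cfsg.charDegree (χ : G → ℂ) ≠ 1 → (Cfsg.charDegree (χ : G → ℂ)).Prime) →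
    Group.IsSolvable G := by
  intro m
  induction m using Nat.strong_induction_on with
  | _ m ih =>
  intro G _ _ hm h
  haveI := Fintype.ofFinite G
  classical
  by_cases hab : ∀ a b : G, a * b = b * a
  · exact isSolvable_of_comm hab
  by_cases hN : ∃ N : Subgroup G, N.Normal ∧ N ≠ ⊥ ∧ N ≠ ⊤
  · obtain ⟨N, hN, hbot, htop⟩ := hN
    haveI := hN
    have h1 : Group.IsSolvable (G ⧸ N) := by
      refine ih _ ?_ _ rfl fun χ hne => ?_
      · rw [← hm, ← Subgroup.index, ← N.card_mul_index]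
        exact lt_mul_of_one_lt_left (Nat.pos_of_ne_zero Subgroup.index_ne_zero_of_finite)
          (Subgroup.one_lt_card_iff_ne_bot N |>.2 hbot)
      · have hd : Cfsg.charDegree ((χ : G ⧸ N → ℂ) ∘ QuotientGroup.mk' N) = Cfsg.charDegree (χ : G ⧸ N → ℂ) := by
          simp [Cfsg.charDegree]
        have := h ⟨_, Char.IsIrrCharacter.comp_surjective χ.2 _ (QuotientGroup.mk'_surjective N)⟩
          (by rw [hd]; exact hne)
        rwa [hd] at this
    have h2 : Group.IsSolvable N := by
      refine ih _ ?_ _ rfl fun θ hne => ?_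
      · rw [← hm]
        exact lt_of_le_of_ne (Subgroup.card_le_card_group N) fun e => htop (Subgroup.eq_top_of_card_eq N e)
      · obtain ⟨χ, hχ⟩ := CfsgLib.CharDeep.ItoMichler.exists_over N θ
        have hd := (Cfsg.Agent.S0887.result N (χ : G → ℂ) χ.2 (θ : N → ℂ) θ.2 hχ
          (Cfsg.charDegree (χ : G → ℂ)) (Cfsg.charDegree (θ : N → ℂ)) (deg_cast χ).symm
          (deg_cast θ).symm).1
        by_cases h1 : Cfsg.charDegree (χ : G → ℂ) = 1
        · rw [h1, Nat.dvd_one] at hd
          exact absurd hd hne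
        · rw [((Nat.dvd_prime (h χ h1)).1 hd).resolve_left hne]
          exact h χ h1
    exact solvable_of_ker_le_range N.subtype (QuotientGroup.mk' N) (by simp)
  push Not at hN
  haveI : Nontrivial G := by
    by_contra hnt
    rw [not_nontrivial_iff_subsingleton] at hnt
    exact hab fun a b => Subsingleton.elim _ _
  haveI : IsSimpleGroup G := ⟨fun N hN' => or_iff_not_imp_left.2 (hN N hN')⟩
  exact (simple_case hab h).elim

/-- If every irreducible character of the finite group G of degree greater than one has prime degree, then G is solvable. -/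
theorem result {G : Type*} [Group G] [Finite G] (h : ∀ χ : Cfsg.IrrCharacter G, Cfsg.charDegree (χ : G → ℂ) ≠ 1 → (Cfsg.charDegree (χ : G → ℂ)).Prime) : Group.IsSolvable G := by
  exact main _ G rfl h

end Cfsg.Agent.S4466
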