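import Cfsg.Statements.S1223
import Cfsg.Agent.Lib.LocalEven.SwapInjective.Main

set_option autoImplicit false
open Cfsg

namespace Cfsg.Agent.S1223

/-- Let H be a strongly embedded subgroup of the finite group G containing no nontrivial normal subgroup of G (so G acts faithfully on the cosets of H), u an involution of G outside H, and j ≠ 1 an element of H ∩ uHu⁻¹ with u j u⁻¹ = j⁻¹. Then C_G(j) has odd order. -/
theorem result {G : Type*} [Group G] [Finite G] (H : Subgroup G) (hH : Cfsg.IsStronglyEmbedded H) (hcore : H.normalCore = ⊥) (u : G) (hu : orderOf u = 2) (huH : u ∉ H) (j : G) (hj : j ∈ (H ⊓ H.map (MulAut.conj u).toMonoidHom)) (hj1 : j ≠ 1) (hinv : u * j * u⁻¹ = j⁻¹) : Odd (Nat.card (Subgroup.centralizer ({j} : Set G))) := by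
  classical
  rw [← Nat.not_even_iff_odd]
  intro he
  obtain ⟨t, htC, ht⟩ := CfsgLib.Involution.Basic.exists_involution_of_even _ he
  have htj : t * j = j * t := Subgroup.mem_centralizer_singleton_iff.1 htC
  set o : G ⧸ H := ((1 : G) : G ⧸ H)
  have hofix : ∀ {g : G}, g • o = o ↔ g ∈ H := fun {g} => by
    rw [CfsgLib.Involution.SE.fixes_mk_iff]; simp
  have huo : u • o ≠ o := fun h => huH (hofix.1 h)
  obtain ⟨hjH, l, hl, hlj⟩ := hj
  have hlj' : u * l * u⁻¹ = j := hlj
  have hjo : j • o = o := hofix.2 hjH
  have hjuo : j • u • o = u • o := by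
    rw [← hlj', smul_smul, inv_mul_cancel_right, mul_smul, hofix.2 hl]
  have hodd : ¬ j * j = 1 := by
    intro h
    exact huo (CfsgLib.Involution.SE.fixed_unique hH
      (CfsgLib.Involution.Dihedral.orderOf_eq_two h hj1) hjuo hjo)
  have htu : ¬ Commute t u → Even (orderOf (t * u)) := fun _ => by
    rw [← Nat.not_odd_iff_even]
    intro ho
    obtain ⟨d, hd, e⟩ := CfsgLib.Involution.Dihedral.exists_conj_of_odd ht hu ho
    -- conjugation by `d` normalises `⟨j⟩`
    have hconj : ∀ k : ℤ, (t * u) * j ^ k * (t * u)⁻¹ = j ^ (-k) := by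
      intro k
      calc (t * u) * j ^ k * (t * u)⁻¹ = t * (u * j ^ k * u⁻¹) * t⁻¹ := by group
        _ = t * j ^ (-k) * t⁻¹ := by rw [CfsgLib.Involution.Dihedral.conj_zpow hinv]
        _ = j ^ (-k) := by
          rw [((show Commute t j from htj).zpow_right (-k)).eq, mul_inv_cancel_right]
    have htN : t * u ∈ Subgroup.normalizer ((Subgroup.zpowers j : Subgroup G) : Set G) := by
      refine CfsgLib.Coprime.mem_normalizer_of_conj_map_le fun y hy => ?_
      obtain ⟨k, rfl⟩ := Subgroup.mem_zpowers_iff.1 hy
      rw [hconj]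
      exact Subgroup.zpow_mem_zpowers j _
    have hdN := (Subgroup.zpowers_le.2 htN) hd
    have h1 := CfsgLib.LocalEven.BenderTransitive.conj_inv_mem_of_mem_normalizer hdN
      (Subgroup.mem_zpowers j)
    obtain ⟨k, hk⟩ := Subgroup.mem_zpowers_iff.1 h1
    have h2 : Commute t (d⁻¹ * j * d) := hk ▸ ((show Commute t j from htj).zpow_right k)
    have h3 : Commute u j := by
      have h4 := h2.map (MulAut.conj d).toMonoidHom
      simp only [MulEquiv.coe_toMonoidHom, MulAut.conj_apply, e] at h4
      rwa [show d * (d⁻¹ * j * d) * d⁻¹ = j by group] at h4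
    apply hodd
    rw [h3.eq, mul_inv_cancel_right] at hinv
    conv_lhs => arg 2; rw [hinv]
    exact mul_inv_cancel j
  have hntu : ¬ Commute t u → ∀ {x : G ⧸ H}, t • x = x → u • x = x := by
    intro h x hx
    have hev := htu h
    have hv := CfsgLib.Involution.Dihedral.half_orderOf hev
    have hvt := CfsgLib.Involution.Dihedral.half_commute_left ht hu hev
    have hvu := CfsgLib.Involution.Dihedral.half_commute_right ht hu hev
    have hvx := CfsgLib.Involution.SE.commute_fixes hH ht hx hvt
    exact CfsgLib.Involution.SE.commute_fixes hH hv hvx hvu.symm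
  obtain ⟨x, hx⟩ := CfsgLib.Involution.SE.exists_fixed hH ht
  have hux : u • x = x := by
    by_cases h : Commute t u
    · exact CfsgLib.Involution.SE.commute_fixes hH ht hx h.symm
    · exact hntu h hx
  by_cases hcomm : ∃ x y : G, orderOf x = 2 ∧ orderOf y = 2 ∧ x ≠ y ∧ Commute x y
  · have hjx : j • x = x := CfsgLib.Involution.SE.commute_fixes hH ht hx htj.symm
    have huu : orderOf (u * j) = 2 := by
      refine CfsgLib.Involution.Dihedral.orderOf_eq_two ?_ fun h => huo ?_
      · have := CfsgLib.Involution.Dihedral.mul_zpow_mul_self hu hinv 1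
        rwa [zpow_one] at this
      · have h' : u = j⁻¹ := mul_eq_one_iff_eq_inv.1 h
        rw [h', inv_smul_eq_iff]; exact hjo.symm
    have hox : o ≠ x := fun h => huo (h ▸ hux)
    have h := CfsgLib.LocalEven.SwapInjective.swapInj hH hcomm u (u * j) hu huu x o hux
      (by rw [mul_smul, hjx, hux]) hox (by rw [mul_smul, hjo])
    rw [hcore, Subgroup.mem_bot, ← CfsgLib.Involution.Dihedral.inv_eq hu] at h
    rw [CfsgLib.Involution.Dihedral.inv_eq hu] at h
    have h5 : u * j * u⁻¹ = 1 := by rw [CfsgLib.Involution.Dihedral.inv_eq hu]; exact h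
    rw [hinv, inv_eq_one] at h5
    exact hj1 h5
  · push Not at hcomm
    have hne : t ≠ u := by
      intro e
      apply hodd
      subst e
      rw [htj, mul_inv_cancel_right] at hinv
      conv_lhs => arg 2; rw [hinv]
      exact mul_inv_cancel j
    by_cases h : Commute t u
    · exact hcomm t u ht hu hne h
    · have hev := htu h
      have hv := CfsgLib.Involution.Dihedral.half_orderOf hev
      have hvt := CfsgLib.Involution.Dihedral.half_commute_left ht hu hev
      have hvu := CfsgLib.Involution.Dihedral.half_commute_right ht hu hev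
      by_cases e : (t * u) ^ (orderOf (t * u) / 2) = t
      · exact h (e ▸ hvu)
      · exact hcomm _ t hv ht e hvt

end Cfsg.Agent.S1223
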