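import Cfsg.Statements.S1279
import Cfsg.Agent.Lib.Components.Signalizer.Transitivity
import Cfsg.Agent.Lib.Components.Signalizer.Balance

set_option autoImplicit false
open Cfsg
open CfsgLib.Components CfsgLib.Components.Signalizer
open scoped commutatorElement Pointwise

namespace Cfsg.Agent.S1279

/-- Let A be a noncyclic elementary abelian p-subgroup of the finite group G such that C_G(a) is solvable for every non-identity a ∈ A. Then a ↦ O_{p'}(C_G(a)) is a solvable A-signalizer functor on G. -/
theorem result {G : Type*} [Group G] [Finite G] (p : ℕ) [Fact p.Prime] (A : Subgroup G) (hA : Cfsg.IsElementaryAbelian p A) (hA2 : p ^ 2 ≤ Nat.card ↥A) (hsolv : ∀ a ∈ A, a ≠ 1 → Group.IsSolvable ↥(Subgroup.centralizer ({a} : Set G))) : Cfsg.IsSolvableSignalizerFunctor p A (fun a => Cfsg.centralizerPPrimeCore p a) := by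
  have hord : ∀ a ∈ A, a ≠ 1 → orderOf a = p := fun a ha ha1 => by
    exact orderOf_eq_prime (hA.2 a ha) ha1
  refine ⟨⟨fun a _ _ => centralizerPPrimeCore_le a,
    fun a _ _ => not_dvd_centralizerPPrimeCore a,
    fun a ha _ b hb x hx => (Subgroup.mem_normalizer_iff.mp
      (centralizer_le_normalizer_core a (le_centralizer_singleton hA ha hb)) x).mp hx,
    fun a ha ha1 b hb hb1 => ?_⟩, fun a ha ha1 => ?_⟩
  · haveI := hsolv b hb hb1
    exact core_inf_centralizer_le (commute_of_mem hA ha hb) (hord a ha ha1)
      pLayer_eq_bot_of_isSolvable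
  · exact CfsgLib.Coprime.isSolvable_of_le (centralizerPPrimeCore_le a) (hsolv a ha ha1)

end Cfsg.Agent.S1279
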