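import Cfsg.Statements.S4309
import Cfsg.Agent.Lib.Solvable.Basic

set_option autoImplicit false
open Cfsg

namespace Cfsg.Agent.S4309

/-- Let `π` be a set of primes, `G` a finite group with a Hall `π`-subgroup `H` (every prime divisor of the order of `H` lies in `π` and no prime of `π` divides its index), and `A` a normal subgroup of `G`. Then `H ∩ A` is a Hall `π`-subgroup of `A` and the image of `H` in `G/A` is a Hall `π`-subgroup of `G/A`. -/
theorem result {G : Type*} [Group G] [Finite G] (π : Set ℕ)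
    (H A : Subgroup G) [A.Normal] (hH : Cfsg.IsPiHall π H) :
    Cfsg.IsPiHall π ((H ⊓ A).subgroupOf A) ∧ Cfsg.IsPiHall π (H.map (QuotientGroup.mk' A)) := by
  refine ⟨⟨fun p hp hd => hH.1 p hp (hd.trans ?_), fun p hp hpπ hd => hH.2 p hp hpπ (hd.trans ?_)⟩,
    ⟨fun p hp hd => hH.1 p hp (hd.trans (Subgroup.card_map_dvd _ _)),
      fun p hp hpπ hd => hH.2 p hp hpπ (hd.trans
        (Subgroup.index_map_dvd _ (QuotientGroup.mk'_surjective A)))⟩⟩
  · rw [Nat.card_congr (Subgroup.subgroupOfEquivOfLe inf_le_right).toEquiv]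
    exact Subgroup.card_dvd_of_le inf_le_left
  · show (H ⊓ A).relIndex A ∣ H.index
    rw [Subgroup.inf_relIndex_right]
    have h1 : H.relIndex (H ⊔ A) ∣ H.index := Subgroup.relIndex_dvd_index_of_le le_sup_left
    suffices h : H.relIndex A = H.relIndex (H ⊔ A) by rwa [h]
    have e := CfsgLib.Solvable.Basic.card_sup_mul A H
    rw [inf_comm, ← (H.subgroupOf (H ⊔ A)).card_mul_index, ← (H.subgroupOf A).card_mul_index,
      Nat.card_congr (Subgroup.subgroupOfEquivOfLe (le_sup_left : H ≤ H ⊔ A)).toEquiv,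
      ← Subgroup.inf_subgroupOf_right H A,
      Nat.card_congr (Subgroup.subgroupOfEquivOfLe (inf_le_right : H ⊓ A ≤ A)).toEquiv,
      Subgroup.inf_subgroupOf_right] at e
    change Nat.card H * H.relIndex (H ⊔ A) * _ = Nat.card H * (_ * H.relIndex A) at e
    rw [mul_assoc] at e
    have e2 := Nat.eq_of_mul_eq_mul_left Nat.card_pos e
    rw [mul_comm] at e2
    exact (Nat.eq_of_mul_eq_mul_left Nat.card_pos e2).symm

end Cfsg.Agent.S4309
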