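import Cfsg.Statements.S0502
import Cfsg.Agent.Lib.KGroups.Functor.ElemChain
import Mathlib.Tactic.IntervalCases

set_option autoImplicit false
open Cfsg

namespace Cfsg.Agent.S0502

/-- If a finite 2-group has a normal elementary abelian subgroup of order at least 8, then any two of its Klein
four-subgroups are joined by a chain of Klein four-subgroups with consecutive members commuting elementwise. -/
theorem result {P : Type*} [Group P] [Finite P] (hP : IsPGroup 2 P)
    (E : Subgroup P) [E.Normal] (hE : IsMulCommutative E) (hE2 : ∀ e ∈ E, e ^ 2 = 1) (hE8 : 8 ≤ Nat.card E) :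
    Cfsg.IsFourConnected P := by
  intro U V hU hV
  have hel : Cfsg.IsElementaryAbelian 2 E := ⟨hE, hE2⟩
  have hk : ∀ W : Subgroup P, IsKleinFour W → Cfsg.IsElementaryAbelian 2 W ∧ Nat.card W = 2 ^ 2 := fun W hW =>
    ⟨⟨IsKleinFour.isMulCommutative, fun a ha => by
      have h := Monoid.pow_exponent_eq_one (⟨a, ha⟩ : W)
      rw [hW.exponent_two] at h
      exact congrArg Subtype.val h⟩, hW.card_four⟩
  have hk' : ∀ W : Subgroup P, Cfsg.IsElementaryAbelian 2 W → Nat.card W = 2 ^ 2 → IsKleinFour W := by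
    intro W hW hc
    have : Fact (Nat.Prime 2) := ⟨Nat.prime_two⟩
    have : Nontrivial W := (Finite.one_lt_card_iff_nontrivial).mp (by rw [hc]; norm_num)
    exact ⟨hc, (Monoid.exponent_eq_prime_iff Nat.prime_two).mpr fun g hg =>
      orderOf_eq_prime (Subtype.ext (hW.2 g g.2)) hg⟩
  have h := CfsgLib.KGroups.Functor.ElemChain.connected (k := 2) hP hel (by norm_num) (by omega)
    (fun f h1 h2 => by
      obtain rfl : f = 1 := by omega
      norm_num; omega) (hk U hU).1 (hk U hU).2 (hk V hV).1 (hk V hV).2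
  induction h with
  | refl => exact Relation.ReflTransGen.refl
  | tail _ hs ih => exact (ih (hk' _ hs.1 hs.2.1)).tail ⟨hk' _ hs.1 hs.2.1, hk' _ hs.2.2.1 hs.2.2.2.1, hs.2.2.2.2⟩

end Cfsg.Agent.S0502
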