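import Cfsg.Statements.S0671
import Cfsg.Agent.Lib.Perm.PermRep

set_option autoImplicit false
open Cfsg

namespace Cfsg.Agent.S0671

/-- If the heart of the permutation module in characteristic `p` of a transitive action of degree `p ^ f` has no trivial composition factor, the action is doubly transitive. The hypothesis is phrased without composition series: no invariant subspaces `W < W'` between the constants and the sum-zero functions with trivial action on the quotient. -/
theorem result {G : Type*} [Group G] [Finite G] {K : Type*} [Field K] {p f : ℕ} [Fact p.Prime] [CharP K p] {Ω : Type*} [Fintype Ω] [MulAction G Ω] [MulAction.IsPretransitive G Ω] (hf : 1 ≤ f) (hcard : Fintype.card Ω = p ^ f) (h : ∀ W W' : Subrepresentation (Cfsg.permRep K G Ω), (Cfsg.permConstants K G Ω).toSubmodule ≤ W.toSubmodule → W.toSubmodule < W'.toSubmodule → W'.toSubmodule ≤ (Cfsg.permSumZero K G Ω).toSubmodule → ∃ g : G, ∃ v ∈ W'.toSubmodule, Cfsg.permRep K G Ω g v - v ∉ W.toSubmodule) : MulAction.IsMultiplyPretransitive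 G Ω 2 := by
  classical
  open CfsgLib.Perm.PermRep in
  by_contra hnot
  obtain ⟨a, b, b', hab, hab', hbb'⟩ : ∃ a b b' : Ω, a ≠ b ∧ a ≠ b' ∧ ∀ g : G, g • a = a → g • b ≠ b' := by
    by_contra hc
    push Not at hc
    apply hnot
    rw [MulAction.is_two_pretransitive_iff]
    intro u v u' v' huv huv'
    obtain ⟨g, hg⟩ := MulAction.exists_smul_eq G u u'
    have hne : u' ≠ g • v := fun h => huv (MulAction.injective g (hg.trans h))
    obtain ⟨k, hk1, hk2⟩ := hc u' (g • v) v' hne huv'
    exact ⟨k * g, by rw [mul_smul, hg, hk1], by rw [mul_smul, hk2]⟩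
  have hcard' : Nat.card Ω = p ^ f := by rw [Nat.card_eq_fintype_card]; exact hcard
  let M : Ω → Ω → K := fun x y => if ∃ g : G, g • a = x ∧ g • b = y then 1 else 0
  have hM : ∀ (g : G) x y, M (g • x) (g • y) = M x y := by
    intro g x y
    have : (∃ k : G, k • a = g • x ∧ k • b = g • y) ↔ ∃ k : G, k • a = x ∧ k • b = y := by
      constructor
      · rintro ⟨k, h1, h2⟩
        exact ⟨g⁻¹ * k, by rw [mul_smul, h1, inv_smul_smul], by rw [mul_smul, h2, inv_smul_smul]⟩
      · rintro ⟨k, h1, h2⟩
        exact ⟨g * k, by rw [mul_smul, h1], by rw [mul_smul, h2]⟩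
    simp only [M, this]
  let k : K := ∑ x, M x a
  let φ : (Ω → K) →ₗ[K] (Ω → K) :=
    { toFun := fun v y => (∑ x, M x y * v x) - k * v y
      map_add' := fun v w => funext fun y => by
        simp only [Pi.add_apply, mul_add, Finset.sum_add_distrib]; ring
      map_smul' := fun c v => funext fun y => by
        simp only [Pi.smul_apply, smul_eq_mul, RingHom.id_apply, mul_left_comm _ c, ← Finset.mul_sum]
        ring }
  have hcomm : ∀ (g : G) v, Cfsg.permRep K G Ω g (φ v) = φ (Cfsg.permRep K G Ω g v) := by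
    intro g v
    funext y
    simp only [φ, LinearMap.coe_mk, AddHom.coe_mk, permRep_apply]
    congr 1
    refine Fintype.sum_equiv (MulAction.toPerm g) _ _ fun x => ?_
    rw [MulAction.toPerm_apply, inv_smul_smul, ← hM g x (g⁻¹ • y), smul_inv_smul]
  have hone : φ (fun _ => 1) = 0 := by
    funext y
    simp only [φ, LinearMap.coe_mk, AddHom.coe_mk, mul_one, Pi.zero_apply, sub_eq_zero, k]
    obtain ⟨g, rfl⟩ := MulAction.exists_smul_eq G a y
    symm
    exact Fintype.sum_equiv (MulAction.toPerm g) _ _ fun x => (hM g x a).symm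
  let I : Subrepresentation (Cfsg.permRep K G Ω) :=
    ⟨LinearMap.range φ, fun g v hv => by
      obtain ⟨w, rfl⟩ := hv
      exact ⟨_, (hcomm g w).symm⟩⟩
  let S := Cfsg.permSumZero K G Ω
  let J : Subrepresentation (Cfsg.permRep K G Ω) :=
    ⟨S.toSubmodule.map φ, fun g v hv => by
      obtain ⟨w, hw, rfl⟩ := hv
      exact ⟨_, S.apply_mem_toSubmodule g hw, (hcomm g w).symm⟩⟩
  let C := Cfsg.permConstants K G Ω
  let N : Subrepresentation (Cfsg.permRep K G Ω) :=
    ⟨LinearMap.ker φ, fun g v hv => by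
      rw [LinearMap.mem_ker] at hv ⊢
      rw [← hcomm, hv, map_zero]⟩
  have hIS : I.toSubmodule ≤ S.toSubmodule := by
    refine le_sumZero hcard' I fun h => ?_
    have hsurj : Function.Surjective φ := LinearMap.range_eq_top.mp h
    have hinj := LinearMap.injective_iff_surjective.mpr hsurj
    have h10 := congrFun (hinj (hone.trans (map_zero φ).symm)) a
    exact one_ne_zero h10
  have hval : ∀ y, φ (Pi.single a 1) y = M a y - k * (Pi.single a 1 : Ω → K) y := by
    intro y
    simp only [φ, LinearMap.coe_mk, AddHom.coe_mk]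
    congr 1
    rw [Finset.sum_eq_single a (fun x _ hx => by rw [Pi.single_eq_of_ne hx, mul_zero])
      (fun h => absurd (Finset.mem_univ a) h), Pi.single_eq_same, mul_one]
  have hMb : M a b = 1 := if_pos ⟨1, one_smul _ _, one_smul _ _⟩
  have hMb' : M a b' = 0 := if_neg fun ⟨g, h1, h2⟩ => hbb' g h1 h2
  have hIne : I.toSubmodule ≠ ⊥ := fun h => by
    have h0 : φ (Pi.single a 1) = 0 := by
      have := LinearMap.mem_range_self φ (Pi.single a 1)
      rwa [show LinearMap.range φ = ⊥ from h, Submodule.mem_bot] at this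
    have h1 := congrFun h0 b
    rw [hval, hMb, Pi.single_eq_of_ne hab.symm, mul_zero, sub_zero] at h1
    exact one_ne_zero h1
  have hCI : C.toSubmodule ≤ I.toSubmodule := constants_le hcard' I hIne
  have hI : I.toSubmodule ≤ J.toSubmodule ⊔ C.toSubmodule := by
    by_contra hni
    let W : Subrepresentation (Cfsg.permRep K G Ω) :=
      ⟨J.toSubmodule ⊔ C.toSubmodule, fun g v hv => by
        obtain ⟨u, hu, w, hw, rfl⟩ := Submodule.mem_sup.mp hv
        rw [map_add]
        exact Submodule.add_mem_sup (J.apply_mem_toSubmodule g hu) (C.apply_mem_toSubmodule g hw)⟩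
    have hJI : J.toSubmodule ≤ I.toSubmodule := LinearMap.map_le_range
    obtain ⟨g, v, hv, hv'⟩ := h W I le_sup_right
      (lt_of_le_of_ne (sup_le hJI hCI) fun e => hni e.ge) hIS
    obtain ⟨w, rfl⟩ := hv
    apply hv'
    rw [hcomm, ← map_sub]
    refine Submodule.mem_sup_left ⟨_, ?_, rfl⟩
    change ∑ x, (Cfsg.permRep K G Ω g w - w) x = 0
    simp only [Pi.sub_apply, Finset.sum_sub_distrib, sub_eq_zero, permRep_apply]
    exact Fintype.sum_equiv (MulAction.toPerm g⁻¹) _ _ fun x => rfl
  have hJ : J.toSubmodule = ⊥ := by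
    by_contra hne
    have hIJ : I.toSubmodule ≤ J.toSubmodule :=
      hI.trans (sup_le le_rfl (constants_le hcard' J hne))
    have hN : N.toSubmodule ≠ ⊤ := fun e => hIne (by
      change LinearMap.range φ = ⊥
      rw [LinearMap.range_eq_bot]
      exact LinearMap.ker_eq_top.mp e)
    obtain ⟨w, hw, hwe⟩ := hIJ ⟨Pi.single a 1, rfl⟩
    have h1 : (Pi.single a 1 - w : Ω → K) ∈ N.toSubmodule := by
      change φ _ = 0
      rw [map_sub, hwe, sub_self]
    have h2 : ∑ x, (Pi.single a (1 : K) - w : Ω → K) x = 0 := le_sumZero hcard' N hN h1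
    have h3 : ∑ x, w x = 0 := hw
    simp [Finset.sum_sub_distrib, h3] at h2
  rw [hJ, bot_sup_eq] at hI
  obtain ⟨c, hc⟩ := mem_permConstants.mp (hI ⟨Pi.single a 1, rfl⟩)
  have e1 := congrFun hc b
  have e2 := congrFun hc b'
  rw [hval, hMb, Pi.single_eq_of_ne hab.symm, mul_zero, sub_zero] at e1
  rw [hval, hMb', Pi.single_eq_of_ne hab'.symm, mul_zero, sub_zero] at e2
  exact one_ne_zero (e1.trans e2.symm)

end Cfsg.Agent.S0671
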