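import Cfsg.Statements.S0674
import Cfsg.Agent.Lib.Perm.PrimeDegree

set_option autoImplicit false
open Cfsg

namespace Cfsg.Agent.S0674

/-- Let `G` be a non-solvable transitive permutation group of prime degree `p` and `K` a field of characteristic `p`. Then the heart of the permutation module is irreducible: an invariant subspace containing the constants and contained in the sum-zero functions is one or the other. -/
theorem result {α : Type*} [Fintype α] [DecidableEq α] {p : ℕ} [Fact p.Prime] (hα : Fintype.card α = p) (G : Subgroup (Equiv.Perm α)) [MulAction.IsPretransitive G α] (hG : ¬ Group.IsSolvable G) {K : Type*} [Field K] [CharP K p] (W : Subrepresentation (Cfsg.permRep K G α)) (h₁ : (Cfsg.permConstants K G α).toSubmodule ≤ W.toSubmodule) (h₂ : W.toSubmodule ≤ (Cfsg.permSumZero K G α).toSubmodule) : W = Cfsg.permConstants K G α ∨ W = Cfsg.permSumZero K G α := by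
  classical
  open CfsgLib.Perm CfsgLib.Perm.PermRep CfsgLib.Perm.PrimeDegree in
  have hα' : Nat.card α = p := by rw [Nat.card_eq_fintype_card]; exact hα
  have hp : p.Prime := Fact.out
  obtain ⟨a⟩ : Nonempty α := Fintype.card_pos_iff.mp (hα ▸ hp.pos)
  obtain ⟨s, e, hs, hea, hes⟩ := exists_coord hα' G a
  let Ψ : (α → K) ≃ₗ[K] (ZMod p → K) := LinearEquiv.funCongrLeft K K e.symm
  have hΨ : ∀ (f : α → K) j, Ψ f j = f (e.symm j) := fun f j => rfl
  have hshift : ∀ V : Subrepresentation (Cfsg.permRep K G α),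
      ∀ f ∈ V.toSubmodule.map (Ψ : (α → K) →ₗ[K] (ZMod p → K)),
        (fun j => f (j - 1)) ∈ V.toSubmodule.map (Ψ : (α → K) →ₗ[K] (ZMod p → K)) := by
    rintro V _ ⟨f, hf, rfl⟩
    refine ⟨_, V.apply_mem_toSubmodule s hf, funext fun j => ?_⟩
    change f (s⁻¹ • e.symm j) = f (e.symm (j - 1))
    congr 1
    rw [inv_smul_eq_iff, Equiv.symm_apply_eq, hes, Equiv.apply_symm_apply, sub_add_cancel]
  obtain ⟨hr, hWr⟩ := eq_polyFun _ (hshift W)
  obtain ⟨hr', hWr'⟩ := eq_polyFun _ (hshift (orth W))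
  set r := Module.finrank K (W.toSubmodule.map (Ψ : (α → K) →ₗ[K] (ZMod p → K))) with hrdef
  set r' := Module.finrank K ((orth W).toSubmodule.map (Ψ : (α → K) →ₗ[K] (ZMod p → K)))
  have hrW : r = Module.finrank K W.toSubmodule := (LinearEquiv.finrank_map_eq Ψ _)
  have hC : Module.finrank K (Cfsg.permConstants K G α).toSubmodule = 1 :=
    finrank_span_singleton (fun h => one_ne_zero (congrFun h a))
  have hS : Module.finrank K (Cfsg.permSumZero K G α).toSubmodule < p := by
    have hne : (Cfsg.permSumZero K G α).toSubmodule ≠ ⊤ := fun h => by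
      have h1 : (Pi.single a 1 : α → K) ∈ (Cfsg.permSumZero K G α).toSubmodule := h ▸ Submodule.mem_top
      rw [mem_permSumZero] at h1
      simp at h1
    have h1 := Submodule.finrank_lt hne
    rwa [Module.finrank_fintype_fun_eq_card, hα] at h1
  have hr1 : 1 ≤ r := by rw [hrW, ← hC]; exact Submodule.finrank_mono h₁
  have hrlt : r < p := by rw [hrW]; exact (Submodule.finrank_mono h₂).trans_lt hS
  rcases Nat.lt_or_ge r 2 with h2 | h2
  · exact Or.inl (subrep_ext (Submodule.eq_of_le_of_finrank_le h₁ (by omega)).symm)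
  rcases Nat.lt_or_ge (p - 2) r with h3 | h3
  · exact Or.inr (subrep_ext (Submodule.eq_of_le_of_finrank_le h₂ (by omega)))
  refine absurd ?_ hG
  have horth : ∀ u : ZMod p → K,
      u ∈ polyFun p K r' ↔ ∀ w ∈ polyFun p K r, ∑ j, u j * w j = 0 := by
    intro u
    rw [← hWr', ← hWr]
    constructor
    · rintro ⟨u, hu, rfl⟩ _ ⟨w, hw, rfl⟩
      refine (Fintype.sum_equiv e.symm _ _ fun j => ?_).trans (hu w hw)
      rfl
    · intro h
      refine ⟨Ψ.symm u, fun w hw => ?_, Ψ.apply_symm_apply u⟩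
      rw [← h (Ψ w) ⟨w, hw, rfl⟩]
      refine Fintype.sum_equiv e _ _ fun x => ?_
      rw [hΨ, Equiv.symm_apply_apply]
      congr 1
  obtain ⟨h2', hsum⟩ := two_le_and_add_le h2 h3 hr' horth
  obtain ⟨V, n, hn2, hnp, hV⟩ : ∃ (V : Subrepresentation (Cfsg.permRep K G α)) (n : ℕ),
      2 ≤ n ∧ 2 * n ≤ p ∧ V.toSubmodule.map (Ψ : (α → K) →ₗ[K] (ZMod p → K)) = polyFun p K n := by
    rcases Nat.lt_or_ge p (2 * r) with h | h
    · exact ⟨orth W, r', h2', by omega, hWr'⟩
    · exact ⟨W, r, h2, h, hWr⟩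
  refine isSolvable_of_affine G e fun g => ?_
  let σ : Equiv.Perm (ZMod p) := (e.symm.trans (g : Equiv.Perm α)).trans e
  refine ⟨σ 1 - σ 0, σ 0, fun x => ?_⟩
  have hpres : ∀ f ∈ polyFun p K n, (fun j => f (σ j)) ∈ polyFun p K n := by
    rw [← hV]
    rintro _ ⟨f, hf, rfl⟩
    refine ⟨_, V.apply_mem_toSubmodule g⁻¹ hf, funext fun j => ?_⟩
    change f (g⁻¹⁻¹ • e.symm j) = f (e.symm (e (g • e.symm j)))
    rw [inv_inv, Equiv.symm_apply_apply]
  have := affine_of_preserves hn2 hnp σ hpres (e x)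
  simpa [σ, Subgroup.smul_def, Equiv.Perm.smul_def] using this

end Cfsg.Agent.S0674
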