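import Cfsg.Statements.S0675
import Cfsg.Agent.S0671
import Cfsg.Agent.S0674

set_option autoImplicit false
open Cfsg

namespace Cfsg.Agent.S0675

/-- Burnside's Theorem on permutation groups of prime degree: a transitive permutation group of prime degree that is not solvable is doubly transitive. -/
theorem result {α : Type*} [Fintype α] [DecidableEq α] (hα : (Fintype.card α).Prime) (G : Subgroup (Equiv.Perm α)) [MulAction.IsPretransitive G α] : Group.IsSolvable G ∨ MulAction.IsMultiplyPretransitive G α 2 := by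
  classical
  open CfsgLib.Perm CfsgLib.Perm.PermRep CfsgLib.Perm.PrimeDegree in
  by_cases hG : Group.IsSolvable G
  · exact Or.inl hG
  right
  set p := Fintype.card α
  haveI : Fact p.Prime := ⟨hα⟩
  have hα' : Nat.card α = p := Nat.card_eq_fintype_card
  have hp4 : 4 ≤ p := by
    by_contra h
    exact hG (isSolvable_of_le_three hα' (by omega) G)
  refine Cfsg.Agent.S0671.result (K := ZMod p) (p := p) (f := 1) le_rfl (pow_one p).symm
    fun W W' hCW hlt hW'S => ?_
  obtain ⟨a⟩ : Nonempty α := Fintype.card_pos_iff.mp hα.pos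
  obtain ⟨s, e, hs, hea, hes⟩ := exists_coord hα' G a
  have hW : W.toSubmodule = (Cfsg.permConstants (ZMod p) G α).toSubmodule := by
    rcases Cfsg.Agent.S0674.result rfl G hG W hCW (hlt.le.trans hW'S) with h | h
    · rw [h]
    · rw [h] at hlt; exact absurd hW'S (not_le_of_gt hlt)
  have hW' : W'.toSubmodule = (Cfsg.permSumZero (ZMod p) G α).toSubmodule := by
    rcases Cfsg.Agent.S0674.result rfl G hG W' (hCW.trans hlt.le) hW'S with h | h
    · rw [h, ← hW] at hlt; exact absurd hlt (lt_irrefl _)
    · rw [h]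
  let v : α → ZMod p := Pi.single a 1 - Pi.single (s • a) 1
  refine ⟨s, v, ?_, ?_⟩
  · rw [hW', mem_permSumZero]
    simp [v, Finset.sum_sub_distrib]
  · rw [hW, mem_permConstants]
    rintro ⟨c, hc⟩
    have hcast : ∀ i j : ℕ, i < p → j < p → i ≠ j → (i : ZMod p) ≠ j := fun i j hi hj hij h => by
      have := congrArg ZMod.val h
      rw [ZMod.val_natCast, ZMod.val_natCast, Nat.mod_eq_of_lt hi, Nat.mod_eq_of_lt hj] at this
      exact hij this
    have hne : ∀ i j : ℕ, i < p → j < p → i ≠ j → e.symm (i : ZMod p) ≠ e.symm (j : ZMod p) :=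
      fun i j hi hj hij h => hcast i j hi hj hij (e.symm.injective h)
    have ha : a = e.symm ((0 : ℕ) : ZMod p) := by rw [Nat.cast_zero, Equiv.eq_symm_apply, hea]
    have hsym : ∀ i : ℕ, s • e.symm (i : ZMod p) = e.symm ((i + 1 : ℕ) : ZMod p) := fun i => by
      rw [Equiv.eq_symm_apply, hes, Equiv.apply_symm_apply, Nat.cast_succ]
    have hv : Cfsg.permRep (ZMod p) G α s v - v =
        (Pi.single (e.symm ((1 : ℕ) : ZMod p)) 1 - Pi.single (e.symm ((2 : ℕ) : ZMod p)) 1) -
        (Pi.single (e.symm ((0 : ℕ) : ZMod p)) 1 - Pi.single (e.symm ((1 : ℕ) : ZMod p)) 1) := by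
      simp only [v, map_sub, permRep_single, ha, hsym]
    rw [hv] at hc
    have e0 := congrFun hc (e.symm ((0 : ℕ) : ZMod p))
    have e3 := congrFun hc (e.symm ((3 : ℕ) : ZMod p))
    simp only [Pi.sub_apply, Pi.single_eq_same,
      Pi.single_eq_of_ne (hne 0 1 (by omega) (by omega) (by omega)),
      Pi.single_eq_of_ne (hne 0 2 (by omega) (by omega) (by omega)),
      Pi.single_eq_of_ne (hne 3 0 (by omega) (by omega) (by omega)),
      Pi.single_eq_of_ne (hne 3 1 (by omega) (by omega) (by omega)),
      Pi.single_eq_of_ne (hne 3 2 (by omega) (by omega) (by omega))] at e0 e3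
    simp only [sub_zero, zero_sub, sub_self] at e0 e3
    rw [← e3] at e0
    exact one_ne_zero (neg_eq_zero.mp e0)

end Cfsg.Agent.S0675
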