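import Cfsg.Statements.S3559
import Mathlib

set_option linter.style.haveILetI false

set_option autoImplicit false
open Cfsg

namespace Cfsg.Agent.S3559

open Matrix
open scoped Pointwise

/-- A `p`-th power argument in the centralizer algebra. -/
lemma key (G Ω : Type*) [Group G] [Finite G] [MulAction G Ω] [Finite Ω] [MulAction.IsPreprimitive G Ω]
    (C : Subgroup G) [hcyc : IsCyclic C] (a : Ω) (hbij : Function.Bijective fun c : C => c • a)
    (r : ℕ) (hr : r.Prime) (hrd : r ∣ Nat.card C) (b : Ω) (c : C)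
    (hc : ∃ g : G, g • a = a ∧ g • b = c • a) :
    c ^ r = 1 ∨ ∀ u : C, u ^ r = 1 → ∃ g : G, g • a = a ∧ g • b = (c * u) • a := by
  classical
  haveI := Fintype.ofFinite Ω
  haveI := Fintype.ofFinite C
  haveI := Fact.mk hr
  letI : CommGroup C := IsCyclic.commGroup
  let coord : Ω → C := (Equiv.ofBijective _ hbij).symm
  have hcoord : ∀ x, coord x • a = x := fun x => (Equiv.ofBijective _ hbij).apply_symm_apply x
  have hcoord' : ∀ d : C, coord (d • a) = d := fun d => (Equiv.ofBijective _ hbij).symm_apply_apply d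
  have hdiff : ∀ x y, (coord y * (coord x)⁻¹) • x = y := fun x y => by
    have : (coord y * (coord x)⁻¹) • (coord x • a) = (coord y * (coord x)⁻¹) • x :=
      congrArg (fun z => (coord y * (coord x)⁻¹) • z) (hcoord x)
    rw [← mul_smul, inv_mul_cancel_right, hcoord] at this
    exact this.symm
  let X : Finset C := Finset.univ.filter fun d => ∃ g : G, g • a = a ∧ g • b = d • a
  have hX : ∀ d : C, d ∈ X ↔ ∃ g : G, g • a = a ∧ g • b = d • a := fun d => by simp [X]
  let T : C → Matrix Ω Ω (ZMod r) := fun d => Matrix.of fun x y => if y = d • x then 1 else 0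
  have T_mul : ∀ d e, T d * T e = T (d * e) := by
    intro d e
    ext x y
    simp only [T, Matrix.mul_apply, Matrix.of_apply, ite_mul, one_mul, zero_mul, Finset.sum_ite_eq',
      Finset.mem_univ, if_true, mul_comm d e, mul_smul]
  have T_one : T 1 = 1 := by
    ext x y
    simp [T, Matrix.one_apply, eq_comm]
  have T_pow : ∀ d (k : ℕ), T d ^ k = T (d ^ k) := by
    intro d k
    induction k with
    | zero => simp [T_one]
    | succ k ih => rw [pow_succ, pow_succ, ih, T_mul]
  set M : Matrix Ω Ω (ZMod r) := ∑ d ∈ X, T d with hMdef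
  rcases isEmpty_or_nonempty Ω with hΩ | hΩ
  · exact isEmptyElim a
  have hM : ∀ x y, M x y = if coord y * (coord x)⁻¹ ∈ X then 1 else 0 := by
    intro x y
    rw [hMdef, Matrix.sum_apply]
    have : ∀ d : C, y = d • x ↔ d = coord y * (coord x)⁻¹ := fun d => by
      constructor
      · intro h
        rw [h, eq_mul_inv_iff_mul_eq]
        apply hbij.1
        show (d * coord x) • a = coord (d • x) • a
        rw [hcoord, mul_smul, hcoord]
      · rintro rfl
        exact (hdiff x y).symm
    simp only [T, Matrix.of_apply, this, Finset.sum_ite_eq']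
  have hinv : ∀ (g : G) x y, M (g • x) (g • y) = M x y := by
    have one : ∀ (g : G) x y, coord y * (coord x)⁻¹ ∈ X → coord (g • y) * (coord (g • x))⁻¹ ∈ X := by
      intro g x y h
      rw [hX] at h ⊢
      obtain ⟨k, hka, hkb⟩ := h
      refine ⟨(coord (g • x) : G)⁻¹ * g * (coord x : G) * k, ?_, ?_⟩
      · rw [mul_smul, mul_smul, mul_smul, hka, show (coord x : G) • a = x from hcoord x, inv_smul_eq_iff]
        exact (hcoord _).symm
      · rw [mul_smul, mul_smul, mul_smul, hkb]
        show _ • g • coord x • (coord y * (coord x)⁻¹) • a = _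
        rw [smul_smul (coord x), mul_comm (coord x), inv_mul_cancel_right, hcoord, mul_smul,
          inv_smul_eq_iff]
        show _ = (coord (g • x) : C) • coord (g • y) • (coord (g • x))⁻¹ • a
        rw [smul_smul, smul_smul, mul_assoc, mul_comm (coord (g • y)), ← mul_assoc, mul_inv_cancel,
          one_mul, hcoord]
    intro g x y
    rw [hM, hM]
    refine if_congr ⟨fun h => ?_, one g x y⟩ rfl rfl
    have := one g⁻¹ _ _ h
    rwa [inv_smul_smul, inv_smul_smul] at this
  have hinvp : ∀ (k : ℕ) (g : G) x y, (M ^ k) (g • x) (g • y) = (M ^ k) x y := by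
    intro k
    induction k with
    | zero =>
      intro g x y
      simp [Matrix.one_apply]
    | succ k ih =>
      intro g x y
      rw [pow_succ, Matrix.mul_apply, Matrix.mul_apply, ← Equiv.sum_comp (MulAction.toPerm g)]
      simp only [MulAction.toPerm_apply, ih, hinv]
  have hfrob : M ^ r = ∑ d ∈ X, T (d ^ r) := by
    have : ∀ S : Finset C, (∑ d ∈ S, T d) ^ r = ∑ d ∈ S, T (d ^ r) := by
      intro S
      induction S using Finset.induction_on with
      | empty => simp [zero_pow hr.ne_zero]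
      | insert d S hd ih =>
        rw [Finset.sum_insert hd, Finset.sum_insert hd, add_pow_char_of_commute, T_pow, ih]
        refine Commute.sum_right _ _ _ fun e _ => ?_
        show T d * T e = T e * T d
        rw [T_mul, T_mul, mul_comm]
    exact this X
  set f : C → ℕ := fun y => (X.filter fun d => d ^ r = y).card with hf
  have hMr : ∀ x y, (M ^ r) x y = (f (coord y * (coord x)⁻¹) : ZMod r) := by
    intro x y
    rw [hfrob, Matrix.sum_apply]
    simp only [hf, Finset.card_filter, Nat.cast_sum]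
    refine Finset.sum_congr rfl fun d _ => ?_
    simp only [T, Matrix.of_apply, Nat.cast_ite, Nat.cast_one, Nat.cast_zero]
    refine if_congr ⟨fun h => ?_, fun h => ?_⟩ rfl rfl
    · rw [h, eq_mul_inv_iff_mul_eq]
      apply hbij.1
      show (d ^ r * coord x) • a = coord (d ^ r • x) • a
      rw [hcoord, mul_smul, hcoord]
    · rw [h]
      exact (hdiff x y).symm
  -- the subgroup generated by the support
  set Sup : Set C := {y | (f y : ZMod r) ≠ 0} with hSup
  set D := Subgroup.closure Sup with hD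
  have hinvS : ∀ y ∈ Sup, ∀ g : G, ∀ x, coord (g • (y • x)) * (coord (g • x))⁻¹ ∈ Sup := by
    intro y hy g x
    show (f _ : ZMod r) ≠ 0
    rw [← hMr, hinvp, hMr]
    rw [show coord (y • x) * (coord x)⁻¹ = y from by
      rw [mul_inv_eq_iff_eq_mul]
      apply hbij.1
      show coord (y • x) • a = (y * coord x) • a
      rw [hcoord, mul_smul, hcoord]]
    exact hy
  have hinvD : ∀ y ∈ D, ∀ g : G, ∀ x, coord (g • (y • x)) * (coord (g • x))⁻¹ ∈ D := by
    intro y hy
    induction hy using Subgroup.closure_induction with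
    | mem y hy => exact fun g x => Subgroup.subset_closure (hinvS y hy g x)
    | one => intro g x; rw [one_smul, mul_inv_cancel]; exact one_mem _
    | mul y z _ _ hy hz =>
      intro g x
      rw [mul_smul]
      have := mul_mem (hy g (z • x)) (hz g x)
      rwa [mul_assoc, inv_mul_cancel_left] at this
    | inv y _ hy =>
      intro g x
      have := inv_mem (hy g (y⁻¹ • x))
      rwa [smul_inv_smul, _root_.mul_inv_rev, inv_inv] at this
  have hblock : MulAction.IsBlock G ((fun d : C => d • a) '' (D : Set C)) := by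
    rw [MulAction.isBlock_iff_smul_eq_or_disjoint]
    intro g
    have hmem : ∀ x, x ∈ g • ((fun d : C => d • a) '' (D : Set C)) ↔ coord x * (coord (g • a))⁻¹ ∈ D := by
      intro x
      constructor
      · rintro ⟨_, ⟨d, hd, rfl⟩, rfl⟩
        exact hinvD d hd g a
      · intro h
        refine ⟨g⁻¹ • x, ⟨coord (g⁻¹ • x), ?_, hcoord _⟩, smul_inv_smul g x⟩
        have := hinvD _ h g⁻¹ (g • a)
        rw [inv_smul_smul, show coord a = 1 from by rw [← hcoord' 1, one_smul], inv_one, mul_one,
          hdiff] at this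
        exact this
    have hmem' : ∀ x, x ∈ (fun d : C => d • a) '' (D : Set C) ↔ coord x ∈ D := by
      intro x
      constructor
      · rintro ⟨d, hd, rfl⟩; rw [hcoord']; exact hd
      · exact fun h => ⟨_, h, hcoord x⟩
    by_cases hga : coord (g • a) ∈ D
    · left
      ext x
      rw [hmem, hmem']
      exact D.mul_mem_cancel_right (D.inv_mem hga)
    · right
      rw [Set.disjoint_left]
      intro x h1 h2
      rw [hmem] at h1
      rw [hmem'] at h2
      exact hga ((D.inv_mem_iff).1 ((D.mul_mem_cancel_left h2).1 h1))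
  have hDr : ∀ y ∈ D, ∃ d : C, y = d ^ r := by
    have : D ≤ (powMonoidHom r : C →* C).range := by
      rw [hD, Subgroup.closure_le]
      intro y hy
      obtain ⟨d, hd⟩ := Finset.card_pos.1 (Nat.pos_of_ne_zero (n := f y) fun h => hy (by rw [h, Nat.cast_zero]))
      exact ⟨d, (Finset.mem_filter.1 hd).2⟩
    intro y hy
    obtain ⟨d, hd⟩ := this hy
    exact ⟨d, hd.symm⟩
  have hDbot : ∀ y ∈ D, y = 1 := by
    rcases MulAction.IsPreprimitive.isTrivialBlock_of_isBlock hblock with h | h
    · intro y hy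
      exact hbij.1 (h ⟨y, hy, rfl⟩ ⟨1, D.one_mem, rfl⟩)
    · exfalso
      have hall : ∀ y : C, y ∈ D := fun y => by
        obtain ⟨d, hd, hdy⟩ := (h ▸ Set.mem_univ (y • a) : y • a ∈ _)
        rwa [← hbij.1 hdy]
      have hsurj : Function.Surjective fun d : C => d ^ r := fun y => by
        obtain ⟨d, hd⟩ := hDr y (hall y); exact ⟨d, hd.symm⟩
      obtain ⟨v, hv⟩ := exists_prime_orderOf_dvd_card' (G := C) r hrd
      have : v = 1 := (Finite.injective_iff_surjective.2 hsurj) (by
        show v ^ r = 1 ^ r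
        rw [one_pow, ← hv, pow_orderOf_eq_one])
      rw [this, orderOf_one] at hv
      exact hr.one_lt.ne hv
  by_cases hcr : c ^ r = 1
  · exact Or.inl hcr
  right
  intro v hv
  have hmemX : c ∈ X.filter fun d => d ^ r = c ^ r := Finset.mem_filter.2 ⟨(hX c).2 hc, rfl⟩
  have hdvd : r ∣ f (c ^ r) := by
    rw [← CharP.cast_eq_zero_iff (ZMod r) r]
    by_contra h
    exact hcr (hDbot _ (Subgroup.subset_closure h))
  let K : Finset C := (Finset.univ.filter fun d => d ^ r = 1).image (c * ·)
  have hsub : (X.filter fun d => d ^ r = c ^ r) ⊆ K := by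
    intro d hd
    refine Finset.mem_image.2 ⟨c⁻¹ * d, Finset.mem_filter.2 ⟨Finset.mem_univ _, ?_⟩, mul_inv_cancel_left c d⟩
    rw [mul_pow, inv_pow, (Finset.mem_filter.1 hd).2, inv_mul_cancel]
  have hK : K.card ≤ r := Finset.card_image_le.trans (IsCyclic.card_pow_eq_one_le hr.pos)
  have hge : r ≤ f (c ^ r) := Nat.le_of_dvd (Finset.card_pos.2 ⟨c, hmemX⟩) hdvd
  have heq := Finset.eq_of_subset_of_card_le hsub (hK.trans hge)
  have hv' : c * v ∈ K := Finset.mem_image.2 ⟨v, Finset.mem_filter.2 ⟨Finset.mem_univ _, hv⟩, rfl⟩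
  rw [← heq] at hv'
  exact (hX _).1 (Finset.mem_filter.1 hv').1

lemma congruence (G Ω : Type*) [Group G] [MulAction G Ω] [MulAction.IsPreprimitive G Ω]
    (C : Subgroup G) (a : Ω) (hbij : Function.Bijective fun c : C => c • a) (b : Ω) (hb : b ≠ a)
    (u : C) (hu : u ≠ 1)
    (h1 : ∀ c : C, (∃ g : G, g • a = a ∧ g • b = c • a) → ∃ g : G, g • a = a ∧ g • b = (c * u) • a)
    (h2 : ∀ c : C, (∃ g : G, g • a = a ∧ g • b = c • a) → ∃ g : G, g • a = a ∧ g • b = (c * u⁻¹) • a)
    [hcyc : IsCyclic C] : False := by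
  letI : CommGroup C := IsCyclic.commGroup
  let O : Ω → Ω → Prop := fun x z => ∃ g : G, g • a = x ∧ g • b = z
  have hO : ∀ (g : G) x z, O (g • x) (g • z) ↔ O x z := by
    intro g x z
    constructor
    · rintro ⟨k, h1, h2⟩
      exact ⟨g⁻¹ * k, by rw [mul_smul, h1, inv_smul_smul], by rw [mul_smul, h2, inv_smul_smul]⟩
    · rintro ⟨k, h1, h2⟩
      exact ⟨g * k, by rw [mul_smul, h1], by rw [mul_smul, h2]⟩
  let B : Set Ω := {x | ∀ z, O x z ↔ O a z}
  have hgB : ∀ (g : G) x, x ∈ g • B ↔ ∀ z, O x z ↔ O (g • a) z := by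
    intro g x
    rw [Set.mem_smul_set_iff_inv_smul_mem]
    constructor
    · intro h z
      rw [← hO g⁻¹ x, ← hO g⁻¹ (g • a), inv_smul_smul]
      exact h _
    · intro h z
      rw [← hO g (g⁻¹ • x), ← hO g a, smul_inv_smul]
      exact h _
  have hblock : MulAction.IsBlock G B := by
    rw [MulAction.isBlock_iff_smul_eq_or_disjoint]
    intro g
    by_cases h : g • a ∈ B
    · left
      ext x
      rw [hgB]
      exact forall_congr' fun z => ⟨fun hx => hx.trans (h z), fun hx => hx.trans (h z).symm⟩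
    · right
      rw [Set.disjoint_left]
      intro x h1 h2
      rw [hgB] at h1
      exact h fun z => (h1 z).symm.trans (h2 z)
  have ha : a ∈ B := fun _ => Iff.rfl
  have hua : u • a ∈ B := by
    intro z
    obtain ⟨d, rfl⟩ := hbij.2 z
    show O ((u : G) • a) (d • a) ↔ _
    rw [← hO (u : G)⁻¹, inv_smul_smul]
    show O a (u⁻¹ • d • a) ↔ O a (d • a)
    rw [← mul_smul, mul_comm]
    constructor
    · intro h
      have := h1 _ h
      rwa [inv_mul_cancel_right] at this
    · exact h2 d
  rcases MulAction.IsPreprimitive.isTrivialBlock_of_isBlock hblock with h | h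
  · exact hu (hbij.1 (show u • a = (1 : C) • a by rw [one_smul]; exact h hua ha))
  · obtain ⟨g, hg1, hg2⟩ := ((h ▸ Set.mem_univ b : b ∈ B) b).2 ⟨1, one_smul _ _, one_smul _ _⟩
    exact hb (MulAction.injective g (hg2.trans hg1.symm))

/-- Let G act faithfully and transitively on a finite set whose number of points n ≥ 2 is not a prime power, and suppose G has a cyclic subgroup acting regularly (transitively with trivial point stabilizers). Then G is imprimitive or doubly transitive. -/
theorem result {G Ω : Type*} [Group G] [Finite G] [MulAction G Ω] [FaithfulSMul G Ω] [Finite Ω]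
    (htrans : MulAction.IsPretransitive G Ω) (hn : 2 ≤ Nat.card Ω) (hnp : ¬ IsPrimePow (Nat.card Ω))
    (C : Subgroup G) (hcyc : IsCyclic ↥C) (hC : MulAction.IsPretransitive ↥C Ω ∧ ∀ a : Ω, MulAction.stabilizer ↥C a = ⊥) :
    ¬ MulAction.IsPreprimitive G Ω ∨ MulAction.IsMultiplyPretransitive G Ω 2 := by
  classical
  haveI := Fintype.ofFinite Ω
  haveI := htrans
  rw [Classical.or_iff_not_imp_left, not_not]
  intro hprim
  haveI := hprim
  obtain ⟨hCt, hCs⟩ := hC
  obtain ⟨a⟩ : Nonempty Ω := (Nat.card_pos_iff.1 (by omega)).1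
  have hbij : Function.Bijective fun c : C => c • a := by
    refine ⟨fun c d h => ?_, fun x => hCt.exists_smul_eq a x⟩
    have : c⁻¹ * d ∈ MulAction.stabilizer C a := by
      rw [MulAction.mem_stabilizer_iff, mul_smul, ← show c • a = d • a from h, inv_smul_smul]
    rw [hCs a, Subgroup.mem_bot, inv_mul_eq_one] at this
    exact this
  have hcardC : Nat.card C = Nat.card Ω := Nat.card_congr (Equiv.ofBijective _ hbij)
  haveI := hcyc
  letI : CommGroup C := IsCyclic.commGroup
  -- two primes and their subgroups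
  set N := Nat.card Ω with hN
  obtain ⟨p, hp, hpd⟩ : ∃ p, p.Prime ∧ p ∣ N := ⟨_, Nat.minFac_prime (by omega), Nat.minFac_dvd _⟩
  obtain ⟨q, hq, hqd, hqp⟩ : ∃ q, q.Prime ∧ q ∣ N ∧ q ≠ p := by
    by_contra hcon
    push Not at hcon
    exact hnp (isPrimePow_iff_unique_prime_dvd.2 ⟨p, ⟨hp, hpd⟩, fun y hy => hcon y hy.1 hy.2⟩)
  -- out-neighbourhoods
  let X : Ω → Set C := fun b => {c | ∃ g : G, g • a = a ∧ g • b = (c : C) • a}
  have hcoset : ∀ (r : ℕ), r.Prime → r ∣ N → ∀ b, ∀ c ∈ X b, c ^ r = 1 ∨
      ∀ u : C, u ^ r = 1 → c * u ∈ X b := fun r hr hrd b c hc =>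
    key G Ω C a hbij r hr (hcardC ▸ hrd) b c hc
  refine MulAction.is_two_pretransitive_iff.2 ?_
  suffices h : ∀ x y : Ω, x ≠ a → y ≠ a → ∃ g : G, g • a = a ∧ g • x = y by
    intro x y u v hxy huv
    obtain ⟨g, hg⟩ := MulAction.exists_smul_eq G x a
    obtain ⟨k, hk⟩ := MulAction.exists_smul_eq G u a
    have h1 : g • y ≠ a := fun h => hxy (MulAction.injective g (hg.trans h.symm))
    have h2 : k • v ≠ a := fun h => huv (MulAction.injective k (hk.trans h.symm))
    obtain ⟨l, hla, hly⟩ := h _ _ h1 h2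
    refine ⟨k⁻¹ * l * g, ?_, ?_⟩
    · rw [mul_smul, mul_smul, hg, hla, inv_smul_eq_iff, hk]
    · rw [mul_smul, mul_smul, hly, inv_smul_smul]
  -- an element of order dividing p outside one
  haveI := Fact.mk hp
  haveI := Fact.mk hq
  obtain ⟨u, hu⟩ := exists_prime_orderOf_dvd_card' (G := C) p (hcardC ▸ hpd)
  obtain ⟨w, hw⟩ := exists_prime_orderOf_dvd_card' (G := C) q (hcardC ▸ hqd)
  have hu1 : u ≠ 1 := fun h => by rw [h, orderOf_one] at hu; exact hp.one_lt.ne hu
  have hw1 : w ≠ 1 := fun h => by rw [h, orderOf_one] at hw; exact hq.one_lt.ne hw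
  have both : ∀ c : C, c ^ p = 1 → c ^ q = 1 → c = 1 := fun c h1 h2 => by
    have := Nat.dvd_gcd (orderOf_dvd_of_pow_eq_one h1) (orderOf_dvd_of_pow_eq_one h2)
    rw [(Nat.coprime_primes hp hq).2 hqp.symm, Nat.dvd_one] at this
    exact orderOf_eq_one_iff.1 this
  have hup : u ^ p = 1 := hu ▸ pow_orderOf_eq_one u
  have hwq : w ^ q = 1 := hw ▸ pow_orderOf_eq_one w
  have meets : ∀ b, b ≠ a → u * w ∈ X b := by
    intro b hb
    by_contra hnm
    -- then multiplication by the elements of order p preserves the orbit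
    have h1X : (1 : C) ∉ X b := fun ⟨g, hga, hgb⟩ => hb (MulAction.injective g (show g • b = g • a by
      rw [hgb, one_smul]; exact hga.symm))
    have claim : ∀ c ∈ X b, c ^ p ≠ 1 := by
      intro c hc hcp
      apply hnm
      have hc1 : c ≠ 1 := fun h => h1X (h ▸ hc)
      have hq1 := (hcoset q hq hqd b c hc).resolve_left (fun h => hc1 (both c hcp h))
      have hcw := hq1 w hwq
      have hp1 := (hcoset p hp hpd b _ hcw).resolve_left (fun h => hw1 (both w (by
        rwa [mul_pow, hcp, one_mul] at h) hwq))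
      have := hp1 (u * c⁻¹) (by rw [mul_pow, inv_pow, hup, hcp, inv_one, one_mul])
      rwa [show c * w * (u * c⁻¹) = u * w by
        rw [mul_comm c w, mul_comm u w, mul_assoc, ← mul_assoc c, mul_comm c u, mul_inv_cancel_right]] at this
    have hinv : ∀ c ∈ X b, ∀ v : C, v ^ p = 1 → c * v ∈ X b := fun c hc v hv =>
      (hcoset p hp hpd b c hc).resolve_left (claim c hc) v hv
    exact congruence G Ω C a hbij b hb u hu1 (fun c hc => hinv c hc u hup)
      (fun c hc => hinv c hc u⁻¹ (by rw [inv_pow, hup, inv_one]))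
  intro x y hx hy
  obtain ⟨g, hga, hgx⟩ := meets x hx
  obtain ⟨k, hka, hky⟩ := meets y hy
  refine ⟨k⁻¹ * g, ?_, ?_⟩
  · rw [mul_smul, hga, inv_smul_eq_iff, hka]
  · rw [mul_smul, hgx, ← hky, inv_smul_smul]

end Cfsg.Agent.S3559
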