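import Cfsg.Statements.S3972
import Cfsg.Agent.Lib.Frobenius.SchurCyclic

set_option autoImplicit false
open Cfsg
open scoped Pointwise

namespace Cfsg.Agent.S3972

/-- Let `p` be a prime, `m ≥ 2`, and `G` a transitive but not doubly transitive permutation group on `p ^ m` points containing a permutation of order `p ^ m` (necessarily a full cycle). Then `G` is imprimitive, and the normal closure in `G` of the `p ^ (m - 1)`-th power of that permutation is an intransitive normal subgroup. -/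
theorem result {Ω : Type*} [Fintype Ω] [DecidableEq Ω] (p m : ℕ) (hp : p.Prime) (hm : 2 ≤ m) (hΩ : Fintype.card Ω = p ^ m) (G : Subgroup (Equiv.Perm Ω)) (htr : MulAction.IsPretransitive G Ω) (h2 : ¬ MulAction.IsMultiplyPretransitive G Ω 2) (g : G) (hg : orderOf g = p ^ m) : ¬ MulAction.IsPreprimitive G Ω ∧ ¬ MulAction.IsPretransitive (Subgroup.normalClosure ({g ^ (p ^ (m - 1))} : Set G)) Ω := by
  classical
  haveI : Fact p.Prime := ⟨hp⟩
  haveI : NeZero (p ^ m) := ⟨pow_ne_zero _ hp.ne_zero⟩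
  have hgne : g ^ p ^ (m - 1) ≠ 1 := by
    intro h
    have h1 := orderOf_dvd_of_pow_eq_one h
    rw [hg] at h1
    have := (Nat.pow_dvd_pow_iff_le_right hp.one_lt).1 h1
    omega
  obtain ⟨α, hα⟩ : ∃ α : Ω, (g ^ p ^ (m - 1)) • α ≠ α := by
    by_contra h
    push Not at h
    exact hgne (FaithfulSMul.eq_of_smul_eq_smul (α := Ω) fun a => by rw [h a, one_smul])
  let E : ZMod (p ^ m) → G := fun x => g ^ x.val
  have hEadd : ∀ x y, E (x + y) = E x * E y := by
    intro x y
    simp only [E, ← pow_add, ZMod.val_add]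
    conv_rhs => rw [← pow_mod_orderOf, hg]
  have hE0 : E 0 = 1 := by simp [E]
  -- no nonzero translation fixes `α`
  have hfree : ∀ x, E x • α = α → x = 0 := by
    intro x hx
    by_contra hne
    obtain ⟨j, v, hj, hjv⟩ := CfsgLib.Frobenius.SchurCyclic.exists_pow_mul_unit (p := p) (m := m) hne
    have hmul : ∀ k : ℕ, E ((k : ZMod (p ^ m)) * x) • α = α := by
      intro k
      induction k with
      | zero => simp [hE0]
      | succ k ih => rw [Nat.cast_succ, add_mul, one_mul, hEadd, mul_smul, hx, ih]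
    have h1 := hmul ((p ^ (m - 1 - j)) * ((v⁻¹ : (ZMod (p ^ m))ˣ) : ZMod (p ^ m)).val)
    have h2 : ((p ^ (m - 1 - j) * ((v⁻¹ : (ZMod (p ^ m))ˣ) : ZMod (p ^ m)).val : ℕ) : ZMod (p ^ m)) * x =
        ((p ^ (m - 1) : ℕ) : ZMod (p ^ m)) := by
      rw [hjv, Nat.cast_mul, Nat.cast_pow, Nat.cast_pow, ZMod.natCast_val, ZMod.cast_id]
      calc _ = (p : ZMod (p ^ m)) ^ (m - 1 - j) * (p : ZMod (p ^ m)) ^ j *
            (((v⁻¹ : (ZMod (p ^ m))ˣ) : ZMod (p ^ m)) * v) := by ring
        _ = _ := by rw [Units.inv_mul, mul_one, ← pow_add, show m - 1 - j + j = m - 1 by omega]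
    rw [h2] at h1
    refine hα ?_
    have h3 : E ((p ^ (m - 1) : ℕ) : ZMod (p ^ m)) = g ^ p ^ (m - 1) := by
      simp only [E, ZMod.val_natCast]
      rw [← hg, pow_mod_orderOf]
    rwa [h3] at h1
  have hinj : Function.Injective fun x => E x • α := by
    intro x y h
    refine sub_eq_zero.1 (hfree _ ?_)
    have h' : E x • α = E y • α := h
    have e1 : E (x - y) * E y = E y * E (x - y) := by rw [← hEadd, ← hEadd, add_comm]
    apply (MulAction.injective (E y) : Function.Injective fun a : Ω => E y • a)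
    change E y • E (x - y) • α = E y • α
    rw [smul_smul, ← e1, ← hEadd, sub_add_cancel, h']
  have hbij : Function.Bijective fun x => E x • α :=
    (Fintype.bijective_iff_injective_and_card _).2 ⟨hinj, by rw [ZMod.card, hΩ]⟩
  let e : ZMod (p ^ m) ≃ Ω := Equiv.ofBijective _ hbij
  have he : ∀ x, e x = E x • α := fun x => rfl
  let φ : Equiv.Perm Ω →* Equiv.Perm (ZMod (p ^ m)) := e.symm.permCongrHom.toMonoidHom
  have hφ : ∀ (σ : Equiv.Perm Ω) x, φ σ x = e.symm (σ (e x)) := fun σ x => rfl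
  have htrans : ∀ a, Equiv.addRight a ∈ G.map φ := by
    intro a
    refine ⟨(E a : Equiv.Perm Ω), (E a).2, Equiv.ext fun x => e.injective ?_⟩
    rw [hφ, Equiv.apply_symm_apply]
    change E a • (E x • α) = E (x + a) • α
    rw [smul_smul, ← hEadd, add_comm]
  obtain ⟨D, hD0, hDtop, hz0, hD⟩ := CfsgLib.Frobenius.SchurCyclic.exists_subgroup htrans hm (fun hall => h2 (by
    rw [MulAction.is_two_pretransitive_iff]
    intro a b c d hab hcd
    obtain ⟨_, ⟨σ, hσ, rfl⟩, h1, h2⟩ := hall (e.symm a) (e.symm b) (e.symm c) (e.symm d)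
      (fun h => hab (e.symm.injective h)) (fun h => hcd (e.symm.injective h))
    rw [hφ, Equiv.apply_symm_apply] at h1 h2
    exact ⟨⟨σ, hσ⟩, e.symm.injective h1, e.symm.injective h2⟩))
  -- the relation `D` on `Ω`
  have hR : ∀ (σ : G) (a b : Ω), e.symm b - e.symm a ∈ D → e.symm (σ • b) - e.symm (σ • a) ∈ D := by
    intro σ a b h
    have := hD (φ (σ : Equiv.Perm Ω)) ⟨_, σ.2, rfl⟩ _ _ h
    rwa [hφ, hφ, Equiv.apply_symm_apply, Equiv.apply_symm_apply] at this
  constructor
  · intro hprim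
    have hB : MulAction.IsBlock G {b : Ω | e.symm b ∈ D} := by
      rw [MulAction.isBlock_iff_smul_eq_smul_of_nonempty]
      rintro g₁ g₂ ⟨_, ⟨a, ha, rfl⟩, ⟨b, hb, hba⟩⟩
      have key : ∀ (g₁ g₂ : G) (a b : Ω), e.symm a ∈ D → e.symm b ∈ D → g₂ • b = g₁ • a →
          g₁ • {b : Ω | e.symm b ∈ D} ⊆ g₂ • {b : Ω | e.symm b ∈ D} := by
        rintro g₁ g₂ a b ha hb hba _ ⟨c, hc, rfl⟩
        refine ⟨g₂⁻¹ • (g₁ • c), ?_, smul_inv_smul _ _⟩
        have h1 : e.symm ((g₂⁻¹ * g₁) • c) - e.symm ((g₂⁻¹ * g₁) • a) ∈ D := hR _ _ _ (D.sub_mem hc ha)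
        rw [mul_smul, mul_smul, ← hba, inv_smul_smul] at h1
        have h2 := D.add_mem h1 hb
        rwa [sub_add_cancel] at h2
      exact Set.Subset.antisymm (key g₁ g₂ a b ha hb hba) (key g₂ g₁ b a hb ha hba.symm)
    rcases hprim.isTrivialBlock_of_isBlock hB with h | h
    · refine hD0 ((AddSubgroup.eq_bot_iff_forall _).2 fun x hx => ?_)
      exact e.injective (h (by simpa using hx) (by simp : e 0 ∈ {b : Ω | e.symm b ∈ D}))
    · refine hDtop (AddSubgroup.eq_top_iff' D |>.2 fun x => ?_)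
      have : e x ∈ {b : Ω | e.symm b ∈ D} := h ▸ Set.mem_univ _
      simpa using this
  · intro htrK
    let K : Subgroup G :=
      { carrier := {σ | ∀ a : Ω, e.symm (σ • a) - e.symm a ∈ D}
        one_mem' := fun a => by simp
        mul_mem' := fun {x y} hx hy a => by
          have := D.add_mem (hx (y • a)) (hy a)
          rwa [sub_add_sub_cancel, smul_smul] at this
        inv_mem' := fun {x} hx a => by
          have := D.neg_mem (hx (x⁻¹ • a))
          rwa [smul_inv_smul, neg_sub] at this }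
    haveI hKn : K.Normal := ⟨fun k hk c a => by
      have h1 := hR c _ _ (hk (c⁻¹ • a))
      rwa [smul_inv_smul, smul_smul, smul_smul] at h1⟩
    have hgK : g ^ p ^ (m - 1) ∈ K := by
      intro a
      obtain ⟨x, rfl⟩ := e.surjective a
      have h3 : g ^ p ^ (m - 1) = E ((p : ZMod (p ^ m)) ^ (m - 1)) := by
        simp only [E, ← Nat.cast_pow, ZMod.val_natCast]
        rw [← hg, pow_mod_orderOf]
      have h4 : (g ^ p ^ (m - 1)) • e x = e ((p : ZMod (p ^ m)) ^ (m - 1) + x) := by
        rw [he, he, smul_smul, h3, hEadd]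
      rw [h4, Equiv.symm_apply_apply, Equiv.symm_apply_apply, add_sub_cancel_right]
      exact hz0
    have hle : Subgroup.normalClosure ({g ^ p ^ (m - 1)} : Set G) ≤ K :=
      Subgroup.normalClosure_le_normal (Set.singleton_subset_iff.2 hgK)
    refine hDtop (AddSubgroup.eq_top_iff' D |>.2 fun x => ?_)
    obtain ⟨σ, hσ⟩ := htrK.exists_smul_eq (e 0) (e x)
    have h1 := hle σ.2 (e 0)
    have h2 : (σ : G) • e 0 = e x := hσ
    rwa [h2, Equiv.symm_apply_apply, Equiv.symm_apply_apply, sub_zero] at h1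

end Cfsg.Agent.S3972
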