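import Cfsg.Statements.S0054
import Cfsg.Agent.Lib.Solvable.Cores
-- import your own Cfsg.Agent.* helpers here

set_option autoImplicit false
open Cfsg

namespace Cfsg.Agent.S0054

/-- A regular normal subgroup of a finite 2-transitive group is elementary abelian: it is commutative and all its elements have order dividing one prime. -/
theorem result {G : Type*} [Group G] [Finite G]
    {X : Type*} [Nonempty X] [MulAction G X] (h2 : MulAction.IsMultiplyPretransitive G X 2)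
    (N : Subgroup G) [N.Normal] (htrans : MulAction.IsPretransitive N X) (hreg : ∀ x : X, MulAction.stabilizer N x = ⊥) :
    IsMulCommutative N ∧ ∃ p : ℕ, p.Prime ∧ ∀ n ∈ N, n ^ p = 1 := by
  obtain ⟨x⟩ := ‹Nonempty X›
  have hinj : ∀ a ∈ N, ∀ b ∈ N, a • x = b • x → a = b := by
    intro a ha b hb hab
    have : (⟨a⁻¹ * b, N.mul_mem (N.inv_mem ha) hb⟩ : N) ∈ MulAction.stabilizer N x := by
      show (a⁻¹ * b) • x = x
      rw [mul_smul, ← hab, inv_smul_smul]
    rw [hreg x, Subgroup.mem_bot] at this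
    exact inv_mul_eq_one.mp (congrArg Subtype.val this)
  have h2' : ∀ {a b c d : X}, a ≠ b → c ≠ d → ∃ g : G, g • a = c ∧ g • b = d :=
    fun {a b c d} hab hcd => (MulAction.is_two_pretransitive_iff).mp h2 hab hcd
  have hconj : ∀ a ∈ N, a ≠ 1 → ∀ b ∈ N, b ≠ 1 → ∃ g : G, g * a * g⁻¹ = b := by
    intro a ha ha1 b hb hb1
    have hax : x ≠ a • x := fun e => ha1 (hinj a ha 1 N.one_mem (by rw [one_smul, ← e]))
    have hbx : x ≠ b • x := fun e => hb1 (hinj b hb 1 N.one_mem (by rw [one_smul, ← e]))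
    obtain ⟨g, hg1, hg2⟩ := h2' hax hbx
    refine ⟨g, hinj _ (Subgroup.Normal.conj_mem ‹_› a ha g) b hb ?_⟩
    have hgi : g⁻¹ • x = x := by
      conv_lhs => rw [← hg1]
      rw [inv_smul_smul]
    rw [mul_smul, mul_smul, hgi, hg2]
  by_cases hN : N = ⊥
  · refine ⟨CfsgLib.Solvable.Basic.isMulCommutative_subgroup_iff.mpr (fun a ha b hb => ?_), 2,
      Nat.prime_two, fun n hn => ?_⟩
    · rw [hN, Subgroup.mem_bot] at ha hb
      rw [ha, hb]
    · rw [hN, Subgroup.mem_bot] at hn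
      rw [hn, one_pow]
  obtain ⟨p, hp, hpd⟩ := Nat.exists_prime_and_dvd (mt Subgroup.card_eq_one.mp hN)
  haveI := Fact.mk hp
  obtain ⟨a, ha⟩ := exists_prime_orderOf_dvd_card' p hpd
  have ha1 : (a : G) ≠ 1 := fun e => by
    rw [← Subgroup.orderOf_coe, e, orderOf_one] at ha
    exact hp.one_lt.ne ha
  have hexp : ∀ n ∈ N, n ^ p = 1 := by
    intro n hn
    by_cases hn1 : n = 1
    · rw [hn1, one_pow]
    obtain ⟨g, rfl⟩ := hconj a a.2 ha1 n hn hn1
    rw [conj_pow, ← ha, Subgroup.orderOf_coe a |>.symm, pow_orderOf_eq_one]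
    group
  refine ⟨?_, p, hp, hexp⟩
  have hpg : IsPGroup p N := fun n => ⟨1, by rw [pow_one]; exact Subtype.ext (hexp n n.2)⟩
  haveI : Nontrivial N := (Subgroup.nontrivial_iff_ne_bot N).mpr hN
  obtain ⟨z, hz, hz1⟩ := (Subgroup.bot_or_exists_ne_one _).resolve_left hpg.bot_lt_center.ne'
  rw [CfsgLib.Solvable.Basic.isMulCommutative_subgroup_iff]
  intro u hu v hv
  by_cases hu1 : u = 1
  · simp [hu1]
  obtain ⟨g, rfl⟩ := hconj z z.2 (fun e => hz1 (Subtype.ext e)) u hu hu1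
  have hv' : g⁻¹ * v * g ∈ N := by
    simpa using Subgroup.Normal.conj_mem ‹_› v hv g⁻¹
  have := congrArg Subtype.val (Subgroup.mem_center_iff.mp hz ⟨_, hv'⟩)
  calc g * (z : G) * g⁻¹ * v = g * ((z : G) * (g⁻¹ * v * g)) * g⁻¹ := by group
    _ = g * ((g⁻¹ * v * g) * (z : G)) * g⁻¹ := by simp only [Subgroup.coe_mul] at this; rw [← this]
    _ = v * (g * (z : G) * g⁻¹) := by group

end Cfsg.Agent.S0054
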