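import Cfsg.Statements.S5015
import Cfsg.Agent.Lib.Perm.RankOne

set_option autoImplicit false
open Cfsg

namespace Cfsg.Agent.S5015

/-- Let a group Y act doubly transitively on a set Ω with at least three points, and suppose that the stabilizer of a point α contains a nilpotent subgroup A, normalized by that stabilizer, which acts regularly on the points other than α. Then for any y in Y moving α, the subgroups A and y A y⁻¹ are the unipotent subgroups of a rank one group, and the normal closure of A in Y (the subgroup generated by all conjugates of A) is generated by A and y A y⁻¹ alone. -/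
theorem result {Y Ω : Type*} [Group Y] [MulAction Y Ω]
    (h2 : MulAction.IsMultiplyPretransitive Y Ω 2) (hΩ : 3 ≤ ENat.card Ω) (α : Ω) (A : Subgroup Y)
    (hA : A ≤ MulAction.stabilizer Y α) (hAn : ∀ y ∈ MulAction.stabilizer Y α, Cfsg.conjBy A y = A)
    (hnil : Group.IsNilpotent A) (hreg : ∀ β γ : Ω, β ≠ α → γ ≠ α → ∃! a : Y, a ∈ A ∧ a • β = γ)
    (y : Y) (hy : y ∉ MulAction.stabilizer Y α) :
    Cfsg.IsRankOnePair A (Cfsg.conjBy A y) ∧ Subgroup.normalClosure (A : Set Y) = A ⊔ Cfsg.conjBy A y := by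
  open CfsgLib.Perm.RankOne in
  set β := y • α with hβ
  have hβα : β ≠ α := hy
  have hkey : ∀ g g' : Y, g • α = g' • α → Cfsg.conjBy A g = Cfsg.conjBy A g' := by
    intro g g' hg
    have : Cfsg.conjBy A (g'⁻¹ * g) = A := hAn _ (by
      rw [MulAction.mem_stabilizer_iff, mul_smul, hg, inv_smul_smul])
    rw [conjBy_mul, conjBy_eq_iff, inv_inv] at this
    exact this
  set B := Cfsg.conjBy A y with hB
  have hBfix : ∀ b ∈ B, b • β = β := by
    intro b hb
    rw [hB, mem_conjBy] at hb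
    have h1 : (y⁻¹ * b * y) • α = α := hA hb
    rw [mul_smul, mul_smul, inv_smul_eq_iff] at h1
    exact h1
  have hBreg : ∀ u v : Ω, u ≠ β → v ≠ β → ∃ b ∈ B, b • u = v := by
    intro u v hu hv
    obtain ⟨a, ⟨ha, hau⟩, -⟩ := hreg (y⁻¹ • u) (y⁻¹ • v)
      (fun e => hu (inv_smul_eq_iff.mp e)) (fun e => hv (inv_smul_eq_iff.mp e))
    exact ⟨y * a * y⁻¹, conjBy_conj_mem ha, by rw [mul_smul, mul_smul, hau, smul_inv_smul]⟩
  have hafree : ∀ a ∈ A, ∀ u, u ≠ α → a • u = u → a = 1 := by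
    intro a ha u hu hau
    obtain ⟨x, -, hux⟩ := hreg u u hu hu
    exact (hux a ⟨ha, hau⟩).trans (hux 1 ⟨A.one_mem, one_smul _ _⟩).symm
  have hbfree : ∀ b ∈ B, ∀ u, u ≠ β → b • u = u → b = 1 := by
    intro b hb u hu hbu
    rw [hB, mem_conjBy] at hb
    have := hafree _ hb (y⁻¹ • u) (fun e => hu (inv_smul_eq_iff.mp e))
      (by rw [mul_smul, mul_smul, smul_inv_smul, hbu])
    rw [mul_assoc, inv_mul_eq_one, eq_comm, mul_eq_right] at this
    exact this
  obtain ⟨γ, hγα, hγβ⟩ : ∃ γ : Ω, γ ≠ α ∧ γ ≠ β := by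
    by_contra hh
    push Not at hh
    have hle : (Set.univ : Set Ω) ⊆ {α, β} := fun γ _ => by
      by_cases h1 : γ = α
      · exact Or.inl h1
      · exact Or.inr (hh γ h1)
    have h1 := Set.encard_le_encard hle
    rw [Set.encard_univ] at h1
    have h2 : ({α, β} : Set Ω).encard ≤ 2 := (Set.encard_insert_le _ _).trans (by simp [one_add_one_eq_two])
    exact absurd (hΩ.trans (h1.trans h2)) (by decide)
  have hnilB : Group.IsNilpotent B := by
    haveI := hnil
    exact Group.nilpotent_of_surjective ((MulAut.conj y).toMonoidHom.subgroupMap A)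
      (MonoidHom.subgroupMap_surjective _ _)
  have hne : A ≠ B := by
    intro e
    obtain ⟨b, hb, hbα⟩ := hBreg α γ hβα.symm hγβ
    exact hγα (hbα.symm.trans (hA (e ▸ hb)))
  refine ⟨⟨hne, hnil, hnilB, ?_, ?_⟩, le_antisymm ?_ ?_⟩
  · intro a ha ha1
    have h1 : a⁻¹ • β ≠ β := fun e => ha1 (inv_eq_one.mp (hafree _ (A.inv_mem ha) β hβα e))
    obtain ⟨b, hb, hbα⟩ := hBreg α (a⁻¹ • β) hβα.symm h1
    refine ⟨b⁻¹, B.inv_mem hb, fun e => ?_, ?_⟩
    · rw [inv_eq_one.mp e, one_smul, eq_inv_smul_iff] at hbα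
      exact hβα.symm ((show a • α = α from hA ha).symm.trans hbα)
    · rw [inv_inv, hB, ← conjBy_mul]
      exact hkey _ _ (by rw [mul_smul]; exact hbα)
  · intro b hb hb1
    have h1 : b⁻¹ • α ≠ α := fun e =>
      hb1 (inv_eq_one.mp (hbfree _ (B.inv_mem hb) α hβα.symm e))
    obtain ⟨a, ⟨ha, haβ⟩, -⟩ := hreg β (b⁻¹ • α) hβα h1
    refine ⟨a⁻¹, A.inv_mem ha, fun e => ?_, ?_⟩
    · rw [inv_eq_one.mp e, one_smul, eq_inv_smul_iff] at haβ
      exact hβα ((hBfix b hb).symm.trans haβ)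
    · rw [inv_inv, hB, ← conjBy_mul]
      exact hkey _ _ (by rw [mul_smul]; exact haβ)
  · have hle : ∀ g : Y, Cfsg.conjBy A g ≤ A ⊔ B := by
      intro g
      have htr : ∀ v : Ω, ∃ x ∈ A ⊔ B, x • α = v := by
        intro v
        by_cases hv : v = β
        · obtain ⟨b, hb, hbα⟩ := hBreg α γ hβα.symm hγβ
          obtain ⟨a, ⟨ha, haγ⟩, -⟩ := hreg γ v hγα (hv ▸ hβα)
          exact ⟨a * b, mul_mem (le_sup_left (b := B) ha) (le_sup_right (a := A) hb), by rw [mul_smul, hbα, haγ]⟩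
        · obtain ⟨b, hb, hbα⟩ := hBreg α v hβα.symm hv
          exact ⟨b, le_sup_right (a := A) hb, hbα⟩
      obtain ⟨x, hx, hxg⟩ := htr (g • α)
      rw [hkey g x hxg.symm]
      exact (conjBy_mono le_sup_left x).trans (conjBy_of_mem hx).le
    rw [Subgroup.normalClosure]
    refine (Subgroup.closure_le _).mpr fun x hx => ?_
    obtain ⟨a, ha, hax⟩ := Group.mem_conjugatesOfSet_iff.mp hx
    obtain ⟨g, rfl⟩ := isConj_iff.mp hax
    exact hle g (conjBy_conj_mem ha)
  · refine sup_le (fun a ha => Subgroup.subset_normalClosure ha) fun b hb => ?_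
    rw [hB, mem_conjBy] at hb
    have := (Subgroup.normalClosure_normal (s := (A : Set Y))).conj_mem _ (Subgroup.subset_normalClosure hb) y
    simpa [mul_assoc] using this

end Cfsg.Agent.S5015
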