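import Cfsg.Statements.S3742
-- import your own Cfsg.Agent.* helpers here

set_option autoImplicit false
open Cfsg

namespace Cfsg.Agent.S3742

/-- The quaternion attached to an unordered pair of two of the four diagonals. -/
def axisOf (x y : Fin 4) : QuaternionGroup 2 :=
  let i : QuaternionGroup 2 := QuaternionGroup.a 1
  let j : QuaternionGroup 2 := QuaternionGroup.xa 0
  if x = 0 ∧ y = 1 ∨ x = 1 ∧ y = 0 then i
  else if x = 2 ∧ y = 3 ∨ x = 3 ∧ y = 2 then i⁻¹
  else if x = 0 ∧ y = 2 ∨ x = 2 ∧ y = 0 then j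
  else if x = 1 ∧ y = 3 ∨ x = 3 ∧ y = 1 then j⁻¹
  else if x = 0 ∧ y = 3 ∨ x = 3 ∧ y = 0 then i * j
  else (i * j)⁻¹

/-- The quaternion rotation of a permutation of the diagonals, on a generator. -/
def genImage (π : Equiv.Perm (Fin 4)) (t : Fin 4) : QuaternionGroup 2 :=
  if Equiv.Perm.sign π = 1 then axisOf (π 0) (π t) else (axisOf (π 0) (π t))⁻¹

/-- The map determined by the images of the generators. -/
def extend (u v : QuaternionGroup 2) : QuaternionGroup 2 → QuaternionGroup 2
  | .a n => u ^ n.val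
  | .xa n => v * u ^ n.val

/-- The rotation of a permutation. -/
def rot (π : Equiv.Perm (Fin 4)) : QuaternionGroup 2 → QuaternionGroup 2 := extend (genImage π 1) (genImage π 2)

theorem extend_eq : ∀ g : QuaternionGroup 2,
    g = extend (QuaternionGroup.a 1) (QuaternionGroup.xa 0) g := by decide +kernel

/-- The automorphism group of the quaternion group of order 8 is isomorphic to the symmetric group of degree 4. -/
theorem result : Nonempty (MulAut (QuaternionGroup 2) ≃* Equiv.Perm (Fin 4)) := by
  have hmul : ∀ π : Equiv.Perm (Fin 4), ∀ x y, rot π (x * y) = rot π x * rot π y := by decide +kernel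
  have hinj : ∀ π : Equiv.Perm (Fin 4), ∀ x y, rot π x = rot π y → x = y := by decide +kernel
  have hcomp : ∀ π ρ : Equiv.Perm (Fin 4), ∀ x, rot (π * ρ) x = rot π (rot ρ x) := by decide +kernel
  have hfaith : ∀ π : Equiv.Perm (Fin 4), rot π (QuaternionGroup.a 1) = QuaternionGroup.a 1 →
      rot π (QuaternionGroup.xa 0) = QuaternionGroup.xa 0 → π = 1 := by decide +kernel
  have hall : ∀ u v : QuaternionGroup 2, u * u ≠ 1 → v * v ≠ 1 → u * v ≠ v * u →
      ∃ π : Equiv.Perm (Fin 4), genImage π 1 = u ∧ genImage π 2 = v := by decide +kernel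
  let f : Equiv.Perm (Fin 4) →* MulAut (QuaternionGroup 2) :=
    MonoidHom.mk' (fun π => MulEquiv.ofBijective (MonoidHom.mk' (rot π) (hmul π))
      (Finite.injective_iff_bijective.1 fun x y => hinj π x y)) fun π ρ => MulEquiv.ext fun x => hcomp π ρ x
  have hf : Function.Injective f := (injective_iff_map_eq_one f).2 fun π h =>
    hfaith π (DFunLike.congr_fun h (QuaternionGroup.a 1)) (DFunLike.congr_fun h (QuaternionGroup.xa 0))
  refine ⟨(MulEquiv.ofBijective f ⟨hf, fun φ => ?_⟩).symm⟩
  have hij : (QuaternionGroup.a 1 : QuaternionGroup 2) * QuaternionGroup.xa 0 ≠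
      QuaternionGroup.xa 0 * QuaternionGroup.a 1 := by decide
  obtain ⟨π, hu, hv⟩ := hall (φ (QuaternionGroup.a 1)) (φ (QuaternionGroup.xa 0))
    (by rw [← map_mul, ← map_one φ]; exact fun h => absurd (φ.injective h) (by decide))
    (by rw [← map_mul, ← map_one φ]; exact fun h => absurd (φ.injective h) (by decide))
    (by rw [← map_mul, ← map_mul]; exact fun h => hij (φ.injective h))
  refine ⟨π, MulEquiv.ext fun x => ?_⟩
  show rot π x = φ x
  rw [rot, hu, hv]
  rcases x with n | n
  · show φ _ ^ n.val = _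
    rw [← map_pow]; congr 1
    exact (extend_eq (.a n)).symm
  · show φ _ * φ _ ^ n.val = _
    rw [← map_pow, ← map_mul]; congr 1
    exact (extend_eq (.xa n)).symm

end Cfsg.Agent.S3742
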