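import Cfsg.Statements.S0039
import Cfsg.Agent.Lib.FrobRealize.Kernel

set_option autoImplicit false
open Cfsg

namespace Cfsg.Agent.S0039

open scoped Pointwise


/-- In a finite group that is a semidirect product of a normal subgroup K by a nontrivial subgroup H, H is a Frobenius complement exactly when each nonidentity element of H acts without nonidentity fixed points on K by conjugation. -/
theorem result {G : Type*} [Group G] [Finite G] (K H : Subgroup G) [K.Normal]
    (hc : Subgroup.IsComplement' K H) (hK : K ≠ ⊥) (hH : H ≠ ⊥) :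
    Cfsg.IsFrobeniusComplement H ↔ ∀ h ∈ H, h ≠ 1 → K ⊓ Subgroup.centralizer {h} = ⊥ := by
  have hdec : ∀ g : G, ∃ k ∈ K, ∃ h ∈ H, g = k * h := fun g => by
    obtain ⟨⟨k, h⟩, hg⟩ := hc.2 g
    exact ⟨k, k.2, h, h.2, hg.symm⟩
  have hdisj : ∀ x, x ∈ K → x ∈ H → x = 1 := fun x hk hh =>
    Subgroup.mem_bot.1 (hc.disjoint.le_bot ⟨hk, hh⟩)
  constructor
  · intro hF h hh h1
    rw [eq_bot_iff]
    intro k hk
    obtain ⟨hkK, hkC⟩ := Subgroup.mem_inf.1 hk
    rw [Subgroup.mem_centralizer_singleton_iff] at hkC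
    have hkH : k ∈ H := CfsgLib.FrobRealize.Kernel.mem_of_mem_conj hF hh h1 (g := k) (by
      rw [mul_assoc, ← hkC, inv_mul_cancel_left]
      exact hh)
    exact Subgroup.mem_bot.2 (hdisj k hkK hkH)
  · intro hfpf
    refine ⟨hH, fun htop => hK ?_, fun g hg => ?_⟩
    · rw [Subgroup.eq_bot_iff_forall]
      exact fun x hx => hdisj x hx (htop ▸ Subgroup.mem_top x)
    · obtain ⟨k, hk, h, hh, rfl⟩ := hdec g
      rw [eq_bot_iff]
      intro x hx
      obtain ⟨hxH, hxC⟩ := Subgroup.mem_inf.1 hx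
      rw [CfsgLib.FrobRealize.Kernel.mem_conj_smul] at hxC
      rw [Subgroup.mem_bot]
      by_contra hx1
      have hy : k⁻¹ * x * k ∈ H := by
        have h2 := H.mul_mem (H.mul_mem hh hxC) (H.inv_mem hh)
        simpa [mul_assoc] using h2
      have he : x⁻¹ * (k⁻¹ * x * k) = 1 := by
        refine hdisj _ ?_ (H.mul_mem (H.inv_mem hxH) hy)
        have h3 : x⁻¹ * k⁻¹ * x ∈ K := by
          have h4 := (inferInstance : K.Normal).conj_mem k⁻¹ (K.inv_mem hk) x⁻¹
          simpa using h4
        simpa [mul_assoc] using K.mul_mem h3 hk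
      have hk1 : k ∈ K ⊓ Subgroup.centralizer {x} := by
        refine Subgroup.mem_inf.2 ⟨hk, Subgroup.mem_centralizer_singleton_iff.2 ?_⟩
        rw [inv_mul_eq_one] at he
        calc k * x = k * (k⁻¹ * x * k) := by rw [← he]
          _ = x * k := by group
      rw [hfpf x hxH hx1, Subgroup.mem_bot] at hk1
      exact hg (by rw [hk1, one_mul]; exact hh)

end Cfsg.Agent.S0039
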