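import Cfsg.Statements.S0662
import Cfsg.Agent.Lib.Fusion.MaxClass

set_option autoImplicit false
open Cfsg

namespace Cfsg.Agent.S0662

theorem card_lcs {G : Type*} [Group G] [Finite G] {p : ℕ} [Fact p.Prime] {n : ℕ} (hG : Nat.card G = p ^ n)
    (hcl : Group.nilpotencyClass G = n - 1) (hn : 2 ≤ n) : ∀ j, 1 ≤ j → j ≤ n - 1 →
    Nat.card ((⊤ : Subgroup G).lowerCentralSeries j) = p ^ (n - 1 - j) := by
  have hP : IsPGroup p G := IsPGroup.of_card hG
  haveI := hP.isNilpotent
  have hpp := (Fact.out : p.Prime)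
  have hlow : ∀ t, t ≤ n - 1 → p ^ t ≤ Nat.card ((⊤ : Subgroup G).lowerCentralSeries (n - 1 - t)) := by
    intro t
    induction t with
    | zero => intro _; rw [pow_zero]; exact Nat.card_pos
    | succ t ih =>
      intro ht
      have hne : (⊤ : Subgroup G).lowerCentralSeries (n - 1 - (t + 1)) ≠ ⊥ := fun h => by
        rw [Subgroup.lowerCentralSeries_eq_bot_iff_nilpotencyClass_le] at h
        omega
      have h1 := CfsgLib.Fusion.MaxClass.card_mul_le_of_lt hP (CfsgLib.Fusion.MaxClass.lcs_strict hP hne)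
      rw [show n - 1 - (t + 1) + 1 = n - 1 - t by omega] at h1
      rw [pow_succ']
      exact (Nat.mul_le_mul_left p (ih (by omega))).trans h1
  intro j hj1 hj
  have hlo := hlow (n - 1 - j) (by omega)
  rw [show n - 1 - (n - 1 - j) = j by omega] at hlo
  refine le_antisymm ?_ hlo
  rcases CfsgLib.Fusion.MaxClass.card_lcs_le hP hn hG (j - 1) with h | h
  · rw [show j - 1 + 1 = j by omega] at h
    rw [h, Subgroup.card_bot]
    exact Nat.one_le_pow _ _ hpp.pos
  · rw [show j - 1 + 1 = j by omega, show j - 1 + 2 = j + 1 by omega] at h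
    have e : p ^ n = p ^ (j + 1) * p ^ (n - 1 - j) := by rw [← pow_add]; congr 1; omega
    rw [e] at h
    exact Nat.le_of_mul_le_mul_left h (pow_pos hpp.pos _)

theorem count_order_p {Q : Type*} [Group Q] [Finite Q] {p : ℕ} [Fact p.Prime] (hQ : Nat.card Q = p ^ 2)
    (hnc : ¬ IsCyclic Q) : Nat.card {S : Subgroup Q // S.index = p} = p + 1 := by
  classical
  have hpp := (Fact.out : p.Prime)
  have hexp : ∀ x : Q, x ≠ 1 → orderOf x = p := by
    intro x hx
    obtain ⟨k, hk2, hk⟩ := (Nat.dvd_prime_pow hpp).mp (hQ ▸ orderOf_dvd_natCard x)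
    interval_cases k
    · exact absurd (orderOf_eq_one_iff.mp (by simpa using hk)) hx
    · simpa using hk
    · exact absurd (isCyclic_of_orderOf_eq_card x (by rw [hk, hQ])) hnc
  have hidx : ∀ S : Subgroup Q, S.index = p ↔ Nat.card S = p := by
    intro S
    have h := S.card_mul_index
    rw [hQ, sq] at h
    constructor <;> intro hS <;> rw [hS] at h
    · exact Nat.eq_of_mul_eq_mul_right hpp.pos h
    · exact Nat.eq_of_mul_eq_mul_left hpp.pos h
  let e : {x : Q // x ≠ 1} ≃ Σ S : {S : Subgroup Q // S.index = p}, {x : S.1 // x ≠ 1} :=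
    { toFun := fun x => ⟨⟨Subgroup.zpowers x.1, (hidx _).mpr (by rw [Nat.card_zpowers, hexp x.1 x.2])⟩,
        ⟨⟨x.1, Subgroup.mem_zpowers x.1⟩, fun h => x.2 (congrArg Subtype.val h)⟩⟩
      invFun := fun y => ⟨(y.2.1 : Q), fun h => y.2.2 (Subtype.ext h)⟩
      left_inv := fun x => rfl
      right_inv := by
        rintro ⟨⟨S, hS⟩, ⟨⟨x, hxS⟩, hx⟩⟩
        have hx1 : x ≠ 1 := fun h => hx (Subtype.ext h)
        obtain rfl : S = Subgroup.zpowers x := (Subgroup.eq_of_le_of_card_ge (Subgroup.zpowers_le.mpr hxS)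
          (by rw [(hidx S).mp hS, Nat.card_zpowers, hexp x hx1])).symm
        rfl }
  haveI : Fintype {S : Subgroup Q // S.index = p} := Fintype.ofFinite _
  have h1 : ∀ (T : Type _) [Finite T] [One T], Nat.card {x : T // x ≠ 1} = Nat.card T - 1 := by
    intro T _ _
    haveI := Fintype.ofFinite T
    rw [Nat.card_eq_fintype_card, Fintype.card_subtype_compl, Fintype.card_subtype_eq, ← Nat.card_eq_fintype_card]
  have h2 := Nat.card_congr e
  rw [h1, hQ, Nat.card_sigma, Finset.sum_congr rfl (fun S _ => (h1 S.1).trans (by rw [(hidx S.1).mp S.2])),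
    Finset.sum_const, smul_eq_mul, Finset.card_univ, ← Nat.card_eq_fintype_card] at h2
  apply Nat.eq_of_mul_eq_mul_right (show 0 < p - 1 from Nat.sub_pos_of_lt hpp.one_lt)
  rw [← h2]
  obtain ⟨q, rfl⟩ : ∃ q, p = q + 1 := ⟨p - 1, by have := hpp.pos; omega⟩
  simp only [Nat.add_sub_cancel]
  rw [show (q + 1) ^ 2 = (q + 1 + 1) * q + 1 by ring, Nat.add_sub_cancel]

/-- In a p-group of maximal class of order at least p³ the normal subgroups of index at least p² are exactly the terms of the lower central series, and there are exactly p + 1 normal subgroups of index p. -/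
theorem result {G : Type*} [Group G] [Finite G] {p : ℕ} [Fact p.Prime] (n : ℕ) (hG : Nat.card G = p ^ n) (hcl : Group.nilpotencyClass G = n - 1) (hn : 3 ≤ n) : (∀ (N : Subgroup G) [N.Normal] (r : ℕ), 2 ≤ r → N.index = p ^ r → N = (⊤ : Subgroup G).lowerCentralSeries (r - 1)) ∧ Nat.card {N : Subgroup G // N.Normal ∧ N.index = p} = p + 1 := by
  have hP : IsPGroup p G := IsPGroup.of_card hG
  haveI := hP.isNilpotent
  have hpp := (Fact.out : p.Prime)
  refine ⟨?_, ?_⟩
  · intro N _ r hr hN
    have hQ : Nat.card (G ⧸ N) = p ^ r := hN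
    have hrn : r ≤ n := by
      have h := N.index_dvd_card
      rw [hN, hG] at h
      exact (Nat.pow_dvd_pow_iff_le_right hpp.one_lt).mp h
    haveI := (hP.to_quotient N).isNilpotent
    have hle : (⊤ : Subgroup G).lowerCentralSeries (r - 1) ≤ N := by
      intro x hx
      rw [← QuotientGroup.eq_one_iff]
      have h1 := CfsgLib.Fusion.MaxClass.class_le (p := p) hr hQ
      rw [← Subgroup.lowerCentralSeries_eq_bot_iff_nilpotencyClass_le] at h1
      have h2 := Subgroup.mem_map_of_mem (QuotientGroup.mk' N) hx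
      rw [Subgroup.map_lowerCentralSeries, Subgroup.map_top_of_surjective _ (QuotientGroup.mk'_surjective N),
        h1] at h2
      exact h2
    refine (Subgroup.eq_of_le_of_card_ge hle (le_of_eq ?_)).symm
    rw [card_lcs hG hcl (by omega) (r - 1) (by omega) (by omega)]
    have h3 := N.card_mul_index
    rw [hN, hG, show n = n - 1 - (r - 1) + r by omega, pow_add] at h3
    rw [Nat.eq_of_mul_eq_mul_right (pow_pos hpp.pos r) h3]
  · have hD : Nat.card (commutator G) = p ^ (n - 2) := by
      rw [← Subgroup.top_lowerCentralSeries_one, card_lcs hG hcl (by omega) 1 le_rfl (by omega),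
        show n - 1 - 1 = n - 2 by omega]
    have hQ : Nat.card (G ⧸ commutator G) = p ^ 2 := by
      have h := Subgroup.card_eq_card_quotient_mul_card_subgroup (commutator G)
      rw [hG, hD, show n = 2 + (n - 2) by omega, pow_add, show 2 + (n - 2) - 2 = n - 2 by omega] at h
      exact (Nat.eq_of_mul_eq_mul_right (pow_pos hpp.pos _) h).symm
    have hnc : ¬ IsCyclic (G ⧸ commutator G) := fun h => by
      have h1 := CfsgLib.Fusion.MaxClass.commutator_eq_bot_of_cyclic hP h
      rw [h1, Subgroup.card_bot] at hD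
      have : p ^ 1 ≤ p ^ (n - 2) := Nat.pow_le_pow_right hpp.pos (by omega)
      rw [← hD, pow_one] at this
      exact absurd this (not_le.mpr hpp.one_lt)
    have hsurj := QuotientGroup.mk'_surjective (commutator G)
    rw [← count_order_p hQ hnc]
    have hge : ∀ N : Subgroup G, N.Normal → N.index = p → commutator G ≤ N := by
      intro N hN hi
      haveI : IsCyclic (G ⧸ N) := isCyclic_of_prime_card (p := p) hi
      letI := IsCyclic.commGroup (α := G ⧸ N)
      exact Subgroup.Normal.quotient_commutative_iff_commutator_le.mp inferInstance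
    exact Nat.card_congr
      { toFun := fun N => ⟨N.1.map (QuotientGroup.mk' (commutator G)), by
          rw [Subgroup.index_map_eq _ hsurj (by rw [QuotientGroup.ker_mk']; exact hge N.1 N.2.1 N.2.2), N.2.2]⟩
        invFun := fun S => ⟨S.1.comap (QuotientGroup.mk' (commutator G)), by
          letI : CommGroup (G ⧸ commutator G) := (inferInstance : CommGroup (Abelianization G))
          exact (Subgroup.normal_of_comm S.1).comap _, by
          rw [Subgroup.index_comap_of_surjective _ hsurj, S.2]⟩
        left_inv := fun N => Subtype.ext (Subgroup.comap_map_eq_self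
          (by rw [QuotientGroup.ker_mk']; exact hge N.1 N.2.1 N.2.2))
        right_inv := fun S => Subtype.ext (Subgroup.map_comap_eq_self_of_surjective hsurj S.1) }

end Cfsg.Agent.S0662
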