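import Cfsg.Statements.S3807
import Cfsg.Agent.Lib.Frobenius.IndexP
import Cfsg.Agent.S0662

set_option autoImplicit false
open Cfsg

namespace Cfsg.Agent.S3807

/-- Let S be a non-abelian finite p-group with an abelian subgroup A of index p. Then [S : Z(S)] = p·#[S,S], and either [S,S] has order p, S/Z(S) is elementary abelian of order p², and S has exactly p + 1 abelian subgroups of index p; or [S,S] has order at least p² and A is the only abelian subgroup of index p in S. -/
theorem result {S : Type*} [Group S] [Finite S] (p : ℕ) [Fact p.Prime] (hS : IsPGroup p S) (hna : ¬ IsMulCommutative S)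
    (A : Subgroup S) (hA : IsMulCommutative ↥A) (hAi : A.index = p) :
    (Subgroup.center S).index = p * Nat.card (commutator S) ∧
      ((Nat.card (commutator S) = p ∧ Cfsg.IsElementaryAbelian p (⊤ : Subgroup (S ⧸ Subgroup.center S)) ∧
          Nat.card (S ⧸ Subgroup.center S) = p ^ 2 ∧
          Nat.card {B : Subgroup S // IsMulCommutative ↥B ∧ B.index = p} = p + 1) ∨
        (p ^ 2 ≤ Nat.card (commutator S) ∧ ∀ B : Subgroup S, IsMulCommutative ↥B → B.index = p → B = A)) := by
  classical
  have hpp : p.Prime := Fact.out
  have hidx := CfsgLib.Frobenius.IndexP.index_center hS hna hA hAi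
  refine ⟨hidx, ?_⟩
  have hne1 : Nat.card (commutator S) ≠ 1 := by
    intro h
    apply hna
    have h0 : commutator S = ⊥ := Subgroup.card_eq_one.mp h
    refine ⟨⟨fun a b => commutatorElement_eq_one_iff_mul_comm.mp ?_⟩⟩
    exact Subgroup.mem_bot.mp (h0 ▸ Subgroup.commutator_mem_commutator (Subgroup.mem_top a) (Subgroup.mem_top b))
  obtain ⟨k, hk⟩ := IsPGroup.iff_card.mp (hS.to_subgroup (commutator S))
  rcases k with _ | _ | k
  · exact absurd (by rw [hk, pow_zero]) hne1
  · left
    rw [pow_one] at hk
    rw [hk, ← sq] at hidx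
    have hcard : Nat.card (S ⧸ Subgroup.center S) = p ^ 2 := by rw [← Subgroup.index_eq_card, hidx]
    have hnc : ¬ IsCyclic (S ⧸ Subgroup.center S) := fun h => hna
      ⟨⟨fun a b => commutative_of_cyclic_center_quotient (QuotientGroup.mk' (Subgroup.center S))
        (by rw [QuotientGroup.ker_mk']) a b⟩⟩
    refine ⟨hk, ⟨?_, fun x => ?_⟩, hcard, ?_⟩
    · exact ⟨⟨fun a b => Subtype.ext (IsPGroup.commutative_of_card_eq_prime_sq hcard (a : S ⧸ Subgroup.center S) b)⟩⟩
    · rintro -
      rcases eq_or_ne x 1 with rfl | hx
      · exact one_pow _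
      obtain ⟨j, hj2, hj⟩ := (Nat.dvd_prime_pow hpp).mp (hcard ▸ orderOf_dvd_natCard x)
      interval_cases j
      · exact absurd (orderOf_eq_one_iff.mp (by simpa using hj)) hx
      · rw [pow_one] at hj; rw [← hj]; exact pow_orderOf_eq_one x
      · exact absurd (isCyclic_of_orderOf_eq_card x (by rw [hj, hcard])) hnc
    · rw [← Cfsg.Agent.S0662.count_order_p hcard hnc]
      have hsurj := QuotientGroup.mk'_surjective (Subgroup.center S)
      have hker : ∀ B : Subgroup S, IsMulCommutative B → B.index = p → (QuotientGroup.mk' (Subgroup.center S)).ker ≤ B := fun B h1 h2 => by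
        rw [QuotientGroup.ker_mk']; exact CfsgLib.Frobenius.IndexP.center_le hna h1 h2
      have hab : ∀ M : Subgroup (S ⧸ Subgroup.center S), M.index = p →
          IsMulCommutative (M.comap (QuotientGroup.mk' (Subgroup.center S))) := by
        intro M hM
        have hMc : Nat.card M = p := by
          have h := M.card_mul_index
          rw [hcard, hM, sq] at h
          exact Nat.eq_of_mul_eq_mul_right hpp.pos h
        haveI : IsCyclic M := isCyclic_of_prime_card hMc
        let f : ↥(M.comap (QuotientGroup.mk' (Subgroup.center S))) →* M :=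
          ((QuotientGroup.mk' (Subgroup.center S)).comp (Subgroup.subtype _)).codRestrict M fun y => y.2
        refine ⟨⟨fun a b => commutative_of_cyclic_center_quotient f (fun y hy => ?_) a b⟩⟩
        have h1 : QuotientGroup.mk' (Subgroup.center S) (y : S) = 1 := congrArg Subtype.val hy
        rw [QuotientGroup.mk'_apply, QuotientGroup.eq_one_iff] at h1
        exact Subgroup.mem_center_iff.mpr fun g => Subtype.ext (Subgroup.mem_center_iff.mp h1 g)
      refine Nat.card_congr
        { toFun := fun B => ⟨B.1.map (QuotientGroup.mk' (Subgroup.center S)), by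
            rw [Subgroup.index_map_eq _ hsurj (hker B.1 B.2.1 B.2.2)]; exact B.2.2⟩
          invFun := fun M => ⟨M.1.comap (QuotientGroup.mk' (Subgroup.center S)), hab M.1 M.2, by
            rw [Subgroup.index_comap_of_surjective _ hsurj]; exact M.2⟩
          left_inv := fun B => Subtype.ext (Subgroup.comap_map_eq_self (hker B.1 B.2.1 B.2.2))
          right_inv := fun M => Subtype.ext (Subgroup.map_comap_eq_self_of_surjective hsurj M.1) }
  · right
    refine ⟨by rw [hk]; exact Nat.pow_le_pow_right hpp.pos (by omega), fun B hB hBi => ?_⟩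
    by_contra hne
    have h := CfsgLib.Frobenius.IndexP.index_center_of_two hS hna hA hAi hB hBi hne
    rw [hidx, hk, ← pow_succ'] at h
    have := Nat.pow_right_injective hpp.two_le h
    omega

end Cfsg.Agent.S3807
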