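import Cfsg.Statements.S2638

set_option autoImplicit false
open Cfsg

namespace Cfsg.Agent.S2638

open scoped Matrix

/-- If an element x of GL_n(q), n ≥ 1, has prime order r and the multiplicative order of q modulo r is n (r is a primitive prime divisor of q^n − 1, so x acts irreducibly), then the centraliser of x in GL_n(q) is cyclic of order q^n − 1 (the multiplicative group of the field with q^n elements, a Singer cycle). -/
theorem result {F : Type*} [Field F] [Fintype F] {p q : ℕ} [Fact p.Prime] [CharP F p] (hF : Fintype.card F = q) {n r : ℕ} (hn : 1 ≤ n) (hr : r.Prime) (hrp : r ≠ p) (hi : orderOf (q : ZMod r) = n) (x : GL (Fin n) F) (hx : orderOf x = r) : IsCyclic ↥(Subgroup.centralizer ({x} : Set (GL (Fin n) F))) ∧ Nat.card ↥(Subgroup.centralizer ({x} : Set (GL (Fin n) F))) = q ^ n - 1 := by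
  classical
  haveI : Fact r.Prime := ⟨hr⟩
  haveI : Nonempty (Fin n) := ⟨⟨0, by omega⟩⟩
  set M : Matrix (Fin n) (Fin n) F := (x : Matrix (Fin n) (Fin n) F) with hM
  have hMr : M ^ r = 1 := by rw [hM, ← Units.val_pow_eq_pow_val, ← hx, pow_orderOf_eq_one, Units.val_one]
  have hM1 : M ≠ 1 := fun h => hr.ne_one (by rw [← hx, (Units.ext h : x = 1), orderOf_one])
  have hrF : (r : F) ≠ 0 := fun h => hrp ((Nat.prime_dvd_prime_iff_eq Fact.out hr).1
    ((CharP.cast_eq_zero_iff F p r).1 h)).symm
  have hint : IsIntegral F M := Algebra.IsIntegral.isIntegral M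
  set f := minpoly F M with hf
  have hdvd : f ∣ Polynomial.X ^ r - 1 := minpoly.dvd F M (by simp [hMr])
  have hsq : Squarefree f :=
    ((Polynomial.X_pow_sub_one_separable_iff.2 hrF).of_dvd hdvd).squarefree
  obtain ⟨g, hg, hgf, hg1⟩ : ∃ g, Irreducible g ∧ g ∣ f ∧ ¬ g ∣ Polynomial.X - Polynomial.C 1 := by
    have hXirr : Irreducible (Polynomial.X - Polynomial.C (1 : F)) := Polynomial.irreducible_X_sub_C 1
    by_cases h1 : Polynomial.X - Polynomial.C 1 ∣ f
    · obtain ⟨h, hh⟩ := h1
      have hnu : ¬ IsUnit h := by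
        intro hu
        obtain ⟨u, rfl⟩ := hu
        apply hM1
        have h0 := minpoly.aeval F M
        rw [← hf, hh, map_mul] at h0
        have : IsUnit (Polynomial.aeval M (u : Polynomial F)) := u.isUnit.map _
        rw [IsUnit.mul_left_eq_zero this] at h0
        simpa [sub_eq_zero] using h0
      obtain ⟨g, hg, hgh⟩ := WfDvdMonoid.exists_irreducible_factor hnu
        (fun h0 => (minpoly.ne_zero hint) (by rw [← hf, hh, h0, mul_zero]))
      refine ⟨g, hg, hh ▸ hgh.mul_left _, fun hg1 => hg.not_isUnit (hsq g ?_)⟩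
      rw [hh]
      exact mul_dvd_mul hg1 hgh
    · obtain ⟨g, hg, hgf⟩ := WfDvdMonoid.exists_irreducible_factor (minpoly.not_isUnit F M) (minpoly.ne_zero hint)
      exact ⟨g, hg, hgf, fun hg1 => h1 ((hg.associated_of_dvd hXirr hg1).symm.dvd.trans hgf)⟩
  have hgd : n ≤ g.natDegree := by
    haveI := Fact.mk hg
    haveI := (AdjoinRoot.powerBasis hg.ne_zero).finite
    haveI : Finite (AdjoinRoot g) := Module.finite_of_finite F
    letI : Fintype (AdjoinRoot g) := Fintype.ofFinite _
    set ζ := AdjoinRoot.root g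
    have hζr : ζ ^ r = 1 := by
      have : AdjoinRoot.mk g (Polynomial.X ^ r - 1) = 0 := AdjoinRoot.mk_eq_zero.2 (hgf.trans hdvd)
      simpa [sub_eq_zero] using this
    have hζ1 : ζ ≠ 1 := fun h => hg1 (AdjoinRoot.mk_eq_zero.1 (by simpa [sub_eq_zero] using h))
    have hord : orderOf ζ = r := orderOf_eq_prime hζr hζ1
    have hζ0 : ζ ≠ 0 := fun h => zero_ne_one' (AdjoinRoot g) (by rw [← hζr, h, zero_pow hr.ne_zero])
    have h1 := orderOf_dvd_of_pow_eq_one (FiniteField.pow_card_sub_one_eq_one ζ hζ0)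
    rw [hord, Module.card_eq_pow_finrank (K := F), (AdjoinRoot.powerBasis hg.ne_zero).finrank,
      AdjoinRoot.powerBasis_dim, hF] at h1
    have h2 : (q : ZMod r) ^ g.natDegree = 1 := by
      have hpos : 1 ≤ q ^ g.natDegree := Nat.one_le_pow _ _ (hF ▸ Fintype.card_pos)
      have := (CharP.cast_eq_zero_iff (ZMod r) r _).2 h1
      rw [Nat.cast_sub hpos, Nat.cast_pow, Nat.cast_one, sub_eq_zero] at this
      exact this
    rw [← hi]
    exact Nat.le_of_dvd hg.natDegree_pos (orderOf_dvd_of_pow_eq_one h2)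
  have hfd : f.natDegree ≤ n := by
    have := Polynomial.natDegree_le_of_dvd (Matrix.minpoly_dvd_charpoly M) M.charpoly_monic.ne_zero
    rwa [Matrix.charpoly_natDegree_eq_dim, Fintype.card_fin] at this
  have hgle := Polynomial.natDegree_le_of_dvd hgf (minpoly.ne_zero hint)
  have hfirr : Irreducible f := by
    refine Associated.irreducible ?_ hg
    obtain ⟨c, hc⟩ := hgf
    have hc0 : c ≠ 0 := fun h => minpoly.ne_zero hint (by rw [← hf, hc, h, mul_zero])
    have hdeg := Polynomial.natDegree_mul hg.ne_zero hc0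
    rw [← hc] at hdeg
    have : IsUnit c := Polynomial.isUnit_iff_degree_eq_zero.2 (by
      rw [Polynomial.degree_eq_natDegree hc0, show c.natDegree = 0 by omega]; rfl)
    exact ⟨this.unit, hc.symm⟩
  have hfn : f.natDegree = n := by omega
  haveI := Fact.mk hfirr
  haveI := (AdjoinRoot.powerBasis hfirr.ne_zero).finite
  haveI : Finite (AdjoinRoot f) := Module.finite_of_finite F
  let ι₀ : AdjoinRoot f →+* Matrix (Fin n) (Fin n) F :=
    Ideal.Quotient.lift _ (Polynomial.aeval M).toRingHom (fun a ha => by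
      obtain ⟨b, rfl⟩ := Ideal.mem_span_singleton.1 ha
      show Polynomial.aeval M (f * b) = 0
      rw [map_mul, hf, minpoly.aeval, zero_mul])
  have hι₀ : ∀ a, ι₀ (AdjoinRoot.mk f a) = Polynomial.aeval M a := fun a => rfl
  have hroot : ι₀ (AdjoinRoot.root f) = M := by
    rw [← AdjoinRoot.mk_X, hι₀, Polynomial.aeval_X]
  let v : Fin n → F := Pi.single ⟨0, by omega⟩ 1
  let Φ : AdjoinRoot f →ₗ[F] (Fin n → F) :=
    { toFun := fun a => ι₀ a *ᵥ v
      map_add' := fun a b => by simp [map_add, Matrix.add_mulVec]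
      map_smul' := fun c a => by
        induction a using AdjoinRoot.induction_on with
        | ih a => rw [AdjoinRoot.smul_mk, hι₀, hι₀, map_smul, Matrix.smul_mulVec, RingHom.id_apply] }
  have hΦ : Function.Injective Φ := by
    rw [injective_iff_map_eq_zero]
    intro a ha
    by_contra ha0
    have h1 : ι₀ (a⁻¹ * a) *ᵥ v = 0 := by
      rw [map_mul, ← Matrix.mulVec_mulVec, show ι₀ a *ᵥ v = 0 from ha, Matrix.mulVec_zero]
    rw [inv_mul_cancel₀ ha0, map_one, Matrix.one_mulVec] at h1
    have := congrFun h1 ⟨0, by omega⟩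
    simp [v] at this
  have hΦs : Function.Surjective Φ := (LinearMap.injective_iff_surjective_of_finrank_eq_finrank (by
    rw [(AdjoinRoot.powerBasis hfirr.ne_zero).finrank, AdjoinRoot.powerBasis_dim, hfn, Module.finrank_fin_fun])).1 hΦ
  let ψ : (AdjoinRoot f)ˣ →* ↥(Subgroup.centralizer ({x} : Set (GL (Fin n) F))) :=
    (Units.map ι₀.toMonoidHom).codRestrict _ fun u => Subgroup.mem_centralizer_singleton_iff.2 (Units.ext (by
      show ι₀ (u : AdjoinRoot f) * M = M * ι₀ (u : AdjoinRoot f)
      rw [← hroot, ← map_mul, ← map_mul, mul_comm]))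
  have hψi : Function.Injective ψ := fun u w h => Units.ext (ι₀.injective (congrArg Units.val (congrArg Subtype.val h)))
  have hψs : Function.Surjective ψ := by
    rintro ⟨c, hc⟩
    have hcM : (c : Matrix (Fin n) (Fin n) F) * M = M * c :=
      congrArg Units.val (Subgroup.mem_centralizer_singleton_iff.1 hc)
    have hcomm : ∀ b, (c : Matrix (Fin n) (Fin n) F) * ι₀ b = ι₀ b * c := by
      intro b
      induction b using AdjoinRoot.induction_on with
      | ih b =>
        rw [hι₀]
        induction b using Polynomial.induction_on' with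
        | add a b ha hb => rw [map_add, mul_add, add_mul, ha, hb]
        | monomial k a =>
          rw [Polynomial.aeval_monomial, ← mul_assoc, ← Algebra.commutes, mul_assoc, mul_assoc,
            (Commute.pow_right (show Commute (c : Matrix (Fin n) (Fin n) F) M from hcM) k).eq]
    obtain ⟨a, ha⟩ := hΦs ((c : Matrix (Fin n) (Fin n) F) *ᵥ v)
    have hca : (c : Matrix (Fin n) (Fin n) F) = ι₀ a := by
      refine Matrix.ext_of_mulVec_single fun i => ?_
      obtain ⟨b, hb⟩ := hΦs (Pi.single i 1)
      change ι₀ b *ᵥ v = _ at hb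
      change ι₀ a *ᵥ v = _ at ha
      rw [← hb, Matrix.mulVec_mulVec, Matrix.mulVec_mulVec, hcomm, ← Matrix.mulVec_mulVec, ← ha,
        Matrix.mulVec_mulVec, ← map_mul, ← map_mul, mul_comm]
    have ha0 : a ≠ 0 := fun h => by
      have := c.ne_zero
      rw [hca, h, map_zero] at this
      exact this rfl
    exact ⟨Units.mk0 a ha0, Subtype.ext (Units.ext hca.symm)⟩
  let E := MulEquiv.ofBijective ψ ⟨hψi, hψs⟩
  refine ⟨E.isCyclic.1 inferInstance, ?_⟩
  rw [← Nat.card_congr E.toEquiv, Nat.card_units, Module.natCard_eq_pow_finrank (K := F),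
    (AdjoinRoot.powerBasis hfirr.ne_zero).finrank, AdjoinRoot.powerBasis_dim, hfn, Nat.card_eq_fintype_card, hF]

end Cfsg.Agent.S2638
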