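import Cfsg.Statements.S4503
import Cfsg.Agent.Lib.CharDeep.ExactP.Main
-- import your own Cfsg.Agent.* helpers here

set_option autoImplicit false
open Cfsg 

namespace Cfsg.Agent.S4503

/-- Let G be a finite group whose order is divisible by the prime p exactly once and which has no normal subgroup of order p. Then every faithful character χ of G has degree at least (p − 1)/2: 2·χ(1) + 1 ≥ p. -/
theorem result {G : Type*} [Group G] [Finite G] (p : ℕ) (hp : p.Prime) (hdiv : p ∣ Nat.card G) (hsq : ¬ p ^ 2 ∣ Nat.card G) (hnn : ∀ H : Subgroup G, H.Normal → Nat.card H ≠ p) (χ : G → ℂ) (hχ : Cfsg.IsCharacter G χ) (hfaith : ∀ g : G, χ g = χ 1 → g = 1) : p ≤ 2 * Cfsg.charDegree χ + 1 := by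
  haveI := Fact.mk hp
  by_contra hlt
  have hP := CfsgLib.CharDeep.ExactP.sylow_normal_aux (p := p) (Nat.card G) G rfl hsq χ hχ hfaith (by omega)
  obtain ⟨x, hx⟩ := exists_prime_orderOf_dvd_card' p hdiv
  let P : Sylow p G := Sylow.ofCard (Subgroup.zpowers x) (by
    rw [Nat.card_zpowers, hx]
    have h1 : 1 ≤ (Nat.card G).factorization p := hp.factorization_pos_of_dvd Nat.card_pos.ne' hdiv
    have h2 : (Nat.card G).factorization p < 2 := by
      by_contra h
      exact hsq ((hp.pow_dvd_iff_le_factorization Nat.card_pos.ne').2 (not_lt.1 h))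
    rw [show (Nat.card G).factorization p = 1 by omega, pow_one])
  refine hnn (Subgroup.zpowers x) ?_ (by rw [Nat.card_zpowers, hx])
  exact hP P

end Cfsg.Agent.S4503
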