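import Cfsg.Statements.S2325
import Cfsg.Agent.Lib.KnownB.GL2.Basics

set_option autoImplicit false
open Cfsg

namespace Cfsg.Agent.S2325

/-- Over a finite field with q elements, q odd, the special linear group SL₂ has exactly q + 4 conjugacy classes. -/
theorem result {F : Type*} [Field F] [Fintype F] (hodd : Odd (Fintype.card F)) :
    Nat.card (ConjClasses (Matrix.SpecialLinearGroup (Fin 2) F)) = Fintype.card F + 4 := by
  have h2 : (2 : F) ≠ 0 := fun h => by
    have : CharP F 2 := CharTwo.of_one_ne_zero_of_two_eq_zero one_ne_zero h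
    rw [Nat.odd_iff, FiniteField.even_card_of_char_two (ringChar.eq F 2)] at hodd
    omega
  have := CfsgLib.KnownB.GL2.card_classes_SL (F := F)
  rw [CfsgLib.KnownB.GL2.card_signs_odd h2] at this
  omega

end Cfsg.Agent.S2325
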