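import Cfsg.Statements.S4473
import Cfsg.Agent.Lib.Char.Constituent
import Cfsg.Agent.Lib.Char.Induced
import Cfsg.Agent.Lib.Char.Linear
import Mathlib.RepresentationTheory.Character
import Mathlib.GroupTheory.GroupAction.Quotient

set_option autoImplicit false
open Cfsg

namespace Cfsg.Agent.S4473

open CfsgLib.Char
open scoped Classical

/-- The possible orders. -/
theorem solve (N a b c s t u : ℕ) (hab : a ≤ b) (hbc : b ≤ c) (ha : 2 ≤ a)
    (hs : a * s = N) (ht : b * t = N) (hu : c * u = N) (ht3 : 3 ≤ t) (hu3 : 3 ≤ u)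
    (hsum : s + t + u = N + 2) : N = 12 ∨ N = 24 ∨ N = 60 := by
  have hts : t ≤ s := by
    by_contra hlt
    push Not at hlt
    nlinarith [Nat.mul_le_mul hab (le_refl t)]
  have hut : u ≤ t := by
    by_contra hlt
    push Not at hlt
    nlinarith [Nat.mul_le_mul hbc (le_refl u)]
  have ha2 : a = 2 := by
    by_contra hne
    have : 3 ≤ a := by omega
    nlinarith [Nat.mul_le_mul this (le_refl s)]
  subst ha2
  have hb4 : b < 4 := by
    by_contra hle
    push Not at hle
    nlinarith [Nat.mul_le_mul hle (le_refl t)]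
  have hb : b = 2 ∨ b = 3 := by omega
  rcases hb with rfl | rfl
  · omega
  · have hc : c < 6 := by
      by_contra hle
      push Not at hle
      nlinarith [Nat.mul_le_mul hle (le_refl u)]
    interval_cases c <;> omega

variable {G : Type*} [Group G] [Fintype G] (ρ : Representation ℂ G (Fin 2 → ℂ))

/-- `g` acts as a scalar. -/
def IsScal (g : G) : Prop := ∃ c : ℂ, ρ g = c • 1

/-- A line invariant under a subgroup of small index forces monomiality. -/
theorem no_small (hirr : Cfsg.IsIrrCharacter G ρ.character)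
    (hprim : ∀ H : Subgroup G, H ≠ ⊤ → ∀ θ : H → ℂ, Cfsg.IsCharacter H θ →
      ρ.character ≠ Cfsg.indFun H θ)
    (H : Subgroup G) (hH : H.index ≤ 2) (v : Fin 2 → ℂ) (hv : v ≠ 0)
    (hline : ∀ h ∈ H, ∃ c : ℂ, ρ h v = c • v) : False := by
  choose c hc using fun h : H => hline h h.2
  have hcu : ∀ {x y : ℂ}, x • v = y • v → x = y := fun {x y} e => smul_left_injective ℂ hv e
  have hc1 : c 1 = 1 := hcu (by rw [← hc, OneMemClass.coe_one, map_one]; simp)
  have hcm : ∀ a b : H, c (a * b) = c a * c b := fun a b => hcu (by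
    rw [← hc, Subgroup.coe_mul, map_mul, Module.End.mul_apply, hc b, map_smul, hc a, smul_smul,
      mul_comm])
  let lamM : H →* ℂ := { toFun := c, map_one' := hc1, map_mul' := hcm }
  let lam : H →* ℂˣ := lamM.toHomUnits
  have hlam : ∀ h : H, (lam h : ℂ) = c h := fun h => rfl
  -- the twisted representation has a fixed vector
  let σ : Representation ℂ H (Fin 2 → ℂ) :=
    { toFun := fun h => ((lam h⁻¹ : ℂˣ) : ℂ) • ρ h
      map_one' := by simp
      map_mul' := fun a b => by
        rw [mul_inv_rev, map_mul, Subgroup.coe_mul, map_mul, Units.val_mul, smul_mul_smul_comm,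
          mul_comm ((lam b⁻¹ : ℂˣ) : ℂ)] }
  have hinv : v ∈ Representation.invariants σ := fun h => by
    show ((lam h⁻¹ : ℂˣ) : ℂ) • ρ h v = v
    rw [hc h, smul_smul, ← hlam h, ← Units.val_mul, ← map_mul, inv_mul_cancel, map_one,
      Units.val_one, one_smul]
  set θ : H → ℂ := fun h => (lam h : ℂ) with hθ
  have hθi : Cfsg.IsIrrCharacter H θ := isIrrCharacter_hom lam
  have hin : Cfsg.classInner (fun h : H => ρ.character h) θ ≠ 0 := by
    haveI : Invertible (Nat.card H : ℂ) := invertibleOfNonzero card_ne_zero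
    have h1 := FDRep.average_char_eq_finrank_invariants (FDRep.of σ)
    have h2 : ∀ h : H, (FDRep.of σ).character h = ρ.character h * (starRingEnd ℂ) (θ h) := by
      intro h
      show LinearMap.trace ℂ _ (((lam h⁻¹ : ℂˣ) : ℂ) • ρ h) = _
      rw [map_smul, smul_eq_mul, mul_comm, ← IsCharacter.apply_inv (IsIrrCharacter.isCharacter hθi)]
      rfl
    simp only [h2] at h1
    rw [Cfsg.classInner, h1]
    refine Nat.cast_ne_zero.2 fun h0 => hv ?_
    have hbot : Representation.invariants σ = ⊥ := Submodule.finrank_eq_zero.1 h0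
    exact (Submodule.mem_bot ℂ).1 (hbot ▸ hinv)
  have hin2 : Cfsg.classInner (Cfsg.indFun H θ) ρ.character ≠ 0 := by
    rw [classInner_indFun H θ (IsIrrCharacter.isClassFunction hirr), ← classInner_conj_symm]
    simpa using hin
  obtain ⟨a, b, ha, hb, hab, heq⟩ := IsCharacter.constituent_degree_le
    (IsCharacter.indFun H (IsIrrCharacter.isCharacter hθi)) hirr hin2
  have ha2 : a = 2 := by
    rw [Representation.char_one, Module.finrank_fin_fun] at ha
    exact_mod_cast ha.symm
  have hb2 : b = H.index := by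
    rw [indFun_one, show θ 1 = 1 by simp [hθ], mul_one] at hb
    exact_mod_cast hb.symm
  have hb3 : b = 2 := by omega
  refine hprim H (fun e => ?_) θ (IsIrrCharacter.isCharacter hθi) (heq (by omega)).symm
  rw [e, Subgroup.index_top] at hb2
  omega

/-- A non-scalar element has exactly two invariant lines. -/
theorem two_lines {g : G} (hg : ¬ IsScal ρ g) : ∃ v w : Fin 2 → ℂ, v ≠ 0 ∧ w ≠ 0 ∧
    (∃ c : ℂ, ρ g v = c • v) ∧ (∃ c : ℂ, ρ g w = c • w) ∧ w ∉ Submodule.span ℂ {v} ∧
    ∀ u : Fin 2 → ℂ, u ≠ 0 → (∃ c : ℂ, ρ g u = c • u) →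
      u ∈ Submodule.span ℂ {v} ∨ u ∈ Submodule.span ℂ {w} := by
  obtain ⟨μ, hμ⟩ := Module.End.exists_eigenvalue (ρ g)
  obtain ⟨v, hv⟩ := hμ.exists_hasEigenvector
  have hvg := hv.apply_eq_smul
  have hcomp : ∃ u, u ∉ Submodule.span ℂ {v} := by
    by_contra! hall
    have : Module.finrank ℂ (⊤ : Submodule ℂ (Fin 2 → ℂ)) ≤ 1 := by
      rw [← (eq_top_iff.2 fun u _ => hall u : Submodule.span ℂ {v} = ⊤)]
      exact (finrank_span_singleton hv.2).le
    rw [finrank_top, Module.finrank_fin_fun] at this
    omega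
  obtain ⟨u, hu⟩ := hcomp
  have hli : LinearIndependent ℂ ![v, u] := by
    rw [LinearIndependent.pair_iff' hv.2]
    exact fun a h => hu (h ▸ Submodule.mem_span_singleton.2 ⟨a, rfl⟩)
  let bs := basisOfLinearIndependentOfCardEqFinrank hli (by simp)
  have hdec : ∀ x : Fin 2 → ℂ, ∃ a b : ℂ, x = a • v + b • u := fun x => by
    refine ⟨bs.repr x 0, bs.repr x 1, ?_⟩
    conv_lhs => rw [← bs.sum_repr x]
    simp [bs, Fin.sum_univ_two]
  obtain ⟨d, μ', hd⟩ := hdec (ρ g u)
  -- powers of `g` on `u`
  have hne : μ' ≠ μ := by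
    intro e
    rw [e] at hd
    have hpow : ∀ m : ℕ, ρ (g ^ (m + 1)) u = ((m + 1 : ℕ) * μ ^ m * d) • v + μ ^ (m + 1) • u := by
      intro m
      induction m with
      | zero => simp [hd]
      | succ m ih =>
        rw [pow_succ', map_mul, Module.End.mul_apply, ih, map_add, map_smul, map_smul, hvg, hd,
          smul_add, smul_smul, smul_smul, smul_smul, ← add_assoc, ← add_smul]
        congr 1
        · congr 1; push_cast; ring
    obtain ⟨m, hm⟩ := Nat.exists_eq_succ_of_ne_zero (orderOf_pos g).ne'
    have h1 := hpow m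
    rw [← Nat.succ_eq_add_one, ← hm, pow_orderOf_eq_one, map_one, Module.End.one_apply] at h1
    have h2 : (((m + 1 : ℕ) : ℂ) * μ ^ m * d) • v + (μ ^ (m + 1) - 1) • u = 0 := by
      rw [sub_smul, one_smul, ← add_sub_assoc, ← Nat.succ_eq_add_one, ← hm] at *
      rw [← h1, sub_self]
    obtain ⟨e1, e2⟩ := LinearIndependent.pair_iff.1 hli _ _ h2
    have hμ0 : μ ≠ 0 := fun h0 => by
      rw [h0, zero_pow (Nat.succ_ne_zero m)] at e2
      norm_num at e2
    have hd0 : d = 0 := by
      simpa [pow_ne_zero _ hμ0, Nat.cast_add_one_ne_zero] using e1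
    refine hg ⟨μ, bs.ext fun i => ?_⟩
    fin_cases i
    · simpa [bs] using hvg
    · simpa [bs, hd0] using hd
  obtain ⟨w, hw⟩ : ∃ w, w = u + (d / (μ' - μ)) • v := ⟨_, rfl⟩
  have hwg : ρ g w = μ' • w := by
    have hs : μ' - μ ≠ 0 := sub_ne_zero.2 hne
    rw [hw, map_add, map_smul, hvg, hd, smul_add, smul_smul, smul_smul, add_right_comm, ← add_smul,
      add_comm (_ • u)]
    congr 2
    field_simp
    ring
  have hwspan : w ∉ Submodule.span ℂ {v} := fun h => hu (by
    have h2 := sub_mem h (Submodule.smul_mem _ (d / (μ' - μ)) (Submodule.mem_span_singleton_self v))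
    simpa [hw] using h2)
  have hw0 : w ≠ 0 := fun h => hwspan (h ▸ zero_mem _)
  refine ⟨v, w, hv.2, hw0, ⟨μ, hvg⟩, ⟨μ', hwg⟩, hwspan, fun x hx ⟨c, hc⟩ => ?_⟩
  obtain ⟨a, b, hab⟩ := hdec x
  have hx' : x = (a - b * (d / (μ' - μ))) • v + b • w := by
    rw [hab, hw, smul_add, sub_smul, smul_smul]
    abel
  have hli2 : LinearIndependent ℂ ![v, w] := by
    rw [LinearIndependent.pair_iff' hv.2]
    exact fun a h => hwspan (h ▸ Submodule.mem_span_singleton.2 ⟨a, rfl⟩)
  set a' := a - b * (d / (μ' - μ))
  rw [hx', map_add, map_smul, map_smul, hvg, hwg, smul_add, smul_smul, smul_smul, smul_smul,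
    smul_smul, ← sub_eq_zero, add_sub_add_comm, ← sub_smul, ← sub_smul] at hc
  obtain ⟨e1, e2⟩ := LinearIndependent.pair_iff.1 hli2 _ _ hc
  by_cases hb : b = 0
  · left
    rw [hx', hb, zero_smul, add_zero]
    exact Submodule.mem_span_singleton.2 ⟨a', rfl⟩
  · right
    have hcμ : c = μ' := by
      have : b * (μ' - c) = 0 := by linear_combination e2
      rcases mul_eq_zero.1 this with h | h
      · exact absurd h hb
      · linear_combination -h
    have ha' : a' = 0 := by
      subst hcμ
      have : a' * (μ - c) = 0 := by linear_combination e1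
      exact (mul_eq_zero.1 this).resolve_right (sub_ne_zero.2 (Ne.symm hne))
    rw [hx', ha', zero_smul, zero_add]
    exact Submodule.mem_span_singleton.2 ⟨b, rfl⟩



/-- Let the finite group G have a faithful irreducible character χ of degree 2 that is primitive: χ is not induced from a character of any proper subgroup. Then the centre of G has index 12, 24 or 60. -/
theorem result {G : Type*} [Group G] [Fintype G] (χ : Cfsg.IrrCharacter G) (hfaith : ∀ g : G, (χ : G → ℂ) g = (χ : G → ℂ) 1 → g = 1) (h2 : Cfsg.charDegree (χ : G → ℂ) = 2) (hprim : ∀ H : Subgroup G, H ≠ ⊤ → ∀ θ : H → ℂ, Cfsg.IsCharacter H θ → (χ : G → ℂ) ≠ Cfsg.indFun H θ) : (Subgroup.center G).index = 12 ∨ (Subgroup.center G).index = 24 ∨ (Subgroup.center G).index = 60 := by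
  classical
  obtain ⟨n, ρ, hρirr, hρ⟩ := χ.2
  have hn : n = 2 := by
    have h1 : (χ : G → ℂ) 1 = (n : ℂ) := by rw [← hρ, Representation.char_one]; simp
    rw [Cfsg.charDegree, h1, Complex.natCast_re, Nat.floor_natCast] at h2
    exact h2
  subst hn
  have hirr : Cfsg.IsIrrCharacter G ρ.character := hρ.symm ▸ χ.2
  have hprim' : ∀ H : Subgroup G, H ≠ ⊤ → ∀ θ : H → ℂ, Cfsg.IsCharacter H θ →
      ρ.character ≠ Cfsg.indFun H θ := hρ.symm ▸ hprim
  have hinj : Function.Injective ρ := by
    intro a b hab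
    have h1 : ρ (a⁻¹ * b) = 1 := by
      rw [map_mul, ← hab, ← map_mul, inv_mul_cancel, map_one]
    exact inv_mul_eq_one.1 (hfaith _ (by
      rw [← hρ]; simp [Representation.character, h1]))
  set Z := Subgroup.center G with hZ
  have hscal : ∀ g : G, g ∈ Z ↔ IsScal ρ g := by
    intro g
    constructor
    · intro hg
      by_contra hns
      obtain ⟨v, w, hv, hw, hvc, -, hvw, hall⟩ := two_lines ρ hns
      -- the stabiliser of the line through `v` has index at most two
      have hmove : ∀ h : G, ∃ c : ℂ, ρ g (ρ h v) = c • ρ h v := fun h => by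
        obtain ⟨c, hc⟩ := hvc
        refine ⟨c, ?_⟩
        rw [← Module.End.mul_apply, ← map_mul, ← Subgroup.mem_center_iff.1 hg h, map_mul,
          Module.End.mul_apply, hc, map_smul]
      let S : Subgroup G :=
        { carrier := {h | ρ h v ∈ Submodule.span ℂ ({v} : Set (Fin 2 → ℂ))}
          one_mem' := by simp
          mul_mem' := fun {a b} ha hb => by
            obtain ⟨c, hc⟩ := Submodule.mem_span_singleton.1 hb
            show ρ (a * b) v ∈ Submodule.span ℂ ({v} : Set (Fin 2 → ℂ))
            rw [map_mul, Module.End.mul_apply, ← hc, map_smul]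
            exact Submodule.smul_mem _ _ ha
          inv_mem' := fun {a} ha => by
            obtain ⟨c, hc⟩ := Submodule.mem_span_singleton.1 ha
            have hc0 : c ≠ 0 := by
              rintro rfl
              rw [zero_smul] at hc
              exact hv (by simpa [← Module.End.mul_apply, ← map_mul] using congrArg (ρ a⁻¹) hc.symm)
            refine Submodule.mem_span_singleton.2 ⟨c⁻¹, ?_⟩
            have h1 : ρ a⁻¹ (c • v) = v := by
              rw [hc, ← Module.End.mul_apply, ← map_mul, inv_mul_cancel, map_one, Module.End.one_apply]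
            rw [map_smul] at h1
            conv_lhs => rw [← h1, inv_smul_smul₀ hc0] }
      refine no_small ρ hirr hprim' S ?_ v hv (fun h hh => by
        obtain ⟨c, hc⟩ := Submodule.mem_span_singleton.1 hh
        exact ⟨c, hc.symm⟩)
      have hne : ∀ h : G, ρ h v ≠ 0 := fun h e => hv (by
        simpa [← Module.End.mul_apply, ← map_mul] using congrArg (ρ h⁻¹) e)
      by_cases hex : ∃ t : G, t ∉ S
      · obtain ⟨t, ht⟩ := hex
        have hS : ∀ h : G, h ∈ S ∨ t⁻¹ * h ∈ S := by
          intro h
          rcases hall _ (hne h) (hmove h) with h1 | h1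
          · exact Or.inl h1
          · right
            rcases hall _ (hne t) (hmove t) with h3 | h3
            · exact absurd h3 ht
            · obtain ⟨a, ha⟩ := Submodule.mem_span_singleton.1 h1
              obtain ⟨b, hb⟩ := Submodule.mem_span_singleton.1 h3
              have hb0 : b ≠ 0 := fun e => hne t (by rw [← hb, e, zero_smul])
              show ρ (t⁻¹ * h) v ∈ Submodule.span ℂ ({v} : Set (Fin 2 → ℂ))
              rw [map_mul, Module.End.mul_apply, ← ha, show w = b⁻¹ • ρ t v by
                rw [← hb, inv_smul_smul₀ hb0], map_smul, map_smul, ← Module.End.mul_apply,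
                ← map_mul, inv_mul_cancel, map_one, Module.End.one_apply]
              exact Submodule.smul_mem _ _ (Submodule.smul_mem _ _ (Submodule.mem_span_singleton_self v))
        rw [Subgroup.index_eq_card]
        let f : Bool → G ⧸ S := fun b => if b then ((1 : G) : G ⧸ S) else (t : G ⧸ S)
        refine (Nat.card_le_card_of_surjective f fun y => ?_).trans (by simp)
        induction y using QuotientGroup.induction_on with
        | H h =>
          rcases hS h with h1 | h1
          · exact ⟨true, QuotientGroup.eq.2 (by simpa using h1)⟩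
          · exact ⟨false, QuotientGroup.eq.2 h1⟩
      · push Not at hex
        rw [show S = ⊤ from eq_top_iff.2 fun h _ => hex h, Subgroup.index_top]
        omega
    · rintro ⟨c, hc⟩
      refine Subgroup.mem_center_iff.2 fun h => hinj ?_
      rw [map_mul, map_mul, hc, smul_mul_assoc, one_mul, mul_smul_comm, mul_one]
  -- the set of poles
  let P : Submodule ℂ (Fin 2 → ℂ) → Prop := fun L =>
    ∃ (g : G) (v : Fin 2 → ℂ), ¬ IsScal ρ g ∧ v ≠ 0 ∧ (∃ c : ℂ, ρ g v = c • v) ∧
      L = Submodule.span ℂ {v}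
  have hmap : ∀ (g : G) (v : Fin 2 → ℂ),
      (Submodule.span ℂ {v}).map (ρ g) = Submodule.span ℂ {ρ g v} := fun g v => by
    rw [Submodule.map_span, Set.image_singleton]
  have hρ0 : ∀ (g : G) {v : Fin 2 → ℂ}, v ≠ 0 → ρ g v ≠ 0 := fun g v hv e => hv (by
    simpa [← Module.End.mul_apply, ← map_mul] using congrArg (ρ g⁻¹) e)
  let Ω := {L : Submodule ℂ (Fin 2 → ℂ) // P L}
  letI : MulAction G Ω :=
    { smul := fun h L => ⟨L.1.map (ρ h), by
        obtain ⟨g, v, hg, hv, ⟨c, hc⟩, hL⟩ := L.2
        refine ⟨h * g * h⁻¹, ρ h v, ?_, hρ0 h hv, ⟨c, ?_⟩, ?_⟩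
        · rw [← hscal] at hg ⊢
          intro hm
          apply hg
          have := (show Z.Normal by rw [hZ]; infer_instance).conj_mem _ hm h⁻¹
          simpa [mul_assoc] using this
        · rw [← Module.End.mul_apply, ← map_mul, inv_mul_cancel_right, map_mul,
            Module.End.mul_apply, hc, map_smul]
        · rw [hL, hmap]⟩
      one_smul := fun L => Subtype.ext (by
        show L.1.map (ρ 1) = L.1
        rw [map_one]; exact Submodule.map_id _)
      mul_smul := fun a b L => Subtype.ext (by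
        show L.1.map (ρ (a * b)) = (L.1.map (ρ b)).map (ρ a)
        rw [map_mul, ← Submodule.map_comp]; rfl) }
  have hfixiff : ∀ (g : G) (L : Ω) (v : Fin 2 → ℂ), v ≠ 0 → L.1 = Submodule.span ℂ {v} →
      (g • L = L ↔ ∃ c : ℂ, ρ g v = c • v) := by
    intro g L v hv hL
    rw [Subtype.ext_iff]
    show L.1.map (ρ g) = L.1 ↔ _
    rw [hL, hmap]
    constructor
    · intro e
      obtain ⟨c, hc⟩ := Submodule.mem_span_singleton.1 (e ▸ Submodule.mem_span_singleton_self (ρ g v))
      exact ⟨c, hc.symm⟩
    · rintro ⟨c, hc⟩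
      have hc0 : c ≠ 0 := fun e => hρ0 g hv (by rw [hc, e, zero_smul])
      rw [hc]
      exact Submodule.span_singleton_smul_eq (Ne.isUnit hc0) v
  have hfix2 : ∀ g : G, g ∉ Z → Nat.card (MulAction.fixedBy Ω g) = 2 := by
    intro g hg
    rw [hscal] at hg
    obtain ⟨v, w, hv, hw, hvc, hwc, hvw, hall⟩ := two_lines ρ hg
    let Lv : Ω := ⟨Submodule.span ℂ {v}, g, v, hg, hv, hvc, rfl⟩
    let Lw : Ω := ⟨Submodule.span ℂ {w}, g, w, hg, hw, hwc, rfl⟩
    have hne : Lv ≠ Lw := fun e => hvw (by
      rw [show Submodule.span ℂ {v} = Submodule.span ℂ {w} from congrArg Subtype.val e]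
      exact Submodule.mem_span_singleton_self w)
    have heq : (MulAction.fixedBy Ω g : Set Ω) = {Lv, Lw} := by
      ext L
      simp only [MulAction.mem_fixedBy, Set.mem_insert_iff, Set.mem_singleton_iff]
      constructor
      · intro hL
        obtain ⟨g', u, -, hu, -, hLu⟩ := L.2
        rcases hall u hu ((hfixiff g L u hu hLu).1 hL) with h | h
        · left
          refine Subtype.ext ?_
          obtain ⟨a, ha⟩ := Submodule.mem_span_singleton.1 h
          rw [hLu, ← ha]
          exact Submodule.span_singleton_smul_eq (Ne.isUnit fun e => hu (by rw [← ha, e, zero_smul])) v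
        · right
          refine Subtype.ext ?_
          obtain ⟨a, ha⟩ := Submodule.mem_span_singleton.1 h
          rw [hLu, ← ha]
          exact Submodule.span_singleton_smul_eq (Ne.isUnit fun e => hu (by rw [← ha, e, zero_smul])) w
      · rintro (rfl | rfl)
        · exact (hfixiff g Lv v hv rfl).2 hvc
        · exact (hfixiff g Lw w hw rfl).2 hwc
    rw [Nat.card_coe_set_eq, heq, Set.ncard_pair hne]
  haveI : Finite Ω := by
    have hcov : (Set.univ : Set Ω) ⊆ ⋃ g ∈ {g : G | g ∉ Z}, MulAction.fixedBy Ω g := by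
      rintro L -
      obtain ⟨g, v, hg, hv, hc, hL⟩ := L.2
      exact Set.mem_biUnion (show g ∈ {g : G | g ∉ Z} from fun h => hg ((hscal g).1 h))
        ((hfixiff g L v hv hL).2 hc)
    refine Set.finite_univ_iff.1 ((Set.Finite.biUnion (Set.toFinite _) fun g hg => ?_).subset hcov)
    exact Set.finite_of_ncard_ne_zero (by rw [← Nat.card_coe_set_eq, hfix2 g hg]; omega)
  letI := Fintype.ofFinite Ω
  set k := Fintype.card (MulAction.orbitRel.Quotient G Ω) with hk
  set N := Z.index with hN
  have hburn := MulAction.sum_card_fixedBy_eq_card_orbits_mul_card_group G Ω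
  rw [← Finset.sum_filter_add_sum_filter_not Finset.univ (fun g => g ∈ Z)] at hburn
  have hz : ∀ g ∈ Finset.univ.filter (fun g => g ∈ Z),
      Fintype.card (MulAction.fixedBy Ω g) = Fintype.card Ω := by
    intro g hg
    obtain ⟨c, hc⟩ := (hscal g).1 (Finset.mem_filter.1 hg).2
    refine Fintype.card_congr (Equiv.subtypeUnivEquiv fun L => ?_)
    obtain ⟨_, v, -, hv, -, hL⟩ := L.2
    exact (hfixiff g L v hv hL).2 ⟨c, by rw [hc]; rfl⟩
  have hnz : ∀ g ∈ Finset.univ.filter (fun g => g ∉ Z),
      Fintype.card (MulAction.fixedBy Ω g) = 2 := by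
    intro g hg
    rw [← Nat.card_eq_fintype_card]
    exact hfix2 g (Finset.mem_filter.1 hg).2
  rw [Finset.sum_congr rfl hz, Finset.sum_congr rfl hnz, Finset.sum_const, Finset.sum_const,
    smul_eq_mul, smul_eq_mul] at hburn
  have hZc : (Finset.univ.filter (fun g => g ∈ Z)).card = Nat.card Z := by
    rw [Nat.card_eq_fintype_card, Fintype.card_subtype]
  have hGc : Fintype.card G = N * Nat.card Z := by
    rw [hN, Subgroup.index_mul_card, Nat.card_eq_fintype_card]
  have hNc : (Finset.univ.filter (fun g => g ∉ Z)).card = (N - 1) * Nat.card Z := by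
    have h1 := Finset.card_filter_add_card_filter_not (s := (Finset.univ : Finset G)) (fun g => g ∈ Z)
    rw [hZc, Finset.card_univ, hGc] at h1
    rw [Nat.sub_one_mul]
    omega
  rw [hZc, hNc, hGc] at hburn
  have hN1 : 1 ≤ N := Nat.pos_of_ne_zero Subgroup.index_ne_zero_of_finite
  have heq : Fintype.card Ω + (N - 1) * 2 = k * N := by
    refine Nat.eq_of_mul_eq_mul_left (Nat.card_pos (α := Z)) ?_
    rw [mul_add, ← mul_assoc, mul_comm (Nat.card Z) (N - 1)]
    rw [show Nat.card Z * (k * N) = k * (N * Nat.card Z) by ring, hk]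
    exact hburn
  -- orbit sizes
  set o : MulAction.orbitRel.Quotient G Ω → ℕ := fun w => (MulAction.stabilizer G w.out).index with ho
  have hsum : Fintype.card Ω = ∑ w, o w := by
    rw [← Nat.card_eq_fintype_card,
      Nat.card_congr (MulAction.selfEquivSigmaOrbitsQuotientStabilizer G Ω), Nat.card_sigma]
    exact Finset.sum_congr rfl fun w _ => (Subgroup.index_eq_card _).symm
  have horb : ∀ w, 3 ≤ o w ∧ ∃ e, 2 ≤ e ∧ e * o w = N := by
    intro w
    obtain ⟨g, v, hg, hv, hc, hL⟩ := w.out.2
    set S := MulAction.stabilizer G w.out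
    have hgS : g ∈ S := (hfixiff g _ v hv hL).2 hc
    have hZS : Z ≤ S := fun z hz' => by
      obtain ⟨c, hc⟩ := (hscal z).1 hz'
      exact (hfixiff z _ v hv hL).2 ⟨c, by rw [hc]; rfl⟩
    refine ⟨?_, Z.relIndex S, ?_, Subgroup.relIndex_mul_index hZS⟩
    · by_contra hlt
      exact no_small ρ hirr hprim' S (Nat.le_of_lt_succ (not_le.1 hlt)) v hv
        fun h hh => (hfixiff h _ v hv hL).1 hh
    · have h0 : Z.relIndex S ≠ 0 := Subgroup.index_ne_zero_of_finite
      have h1 : Z.relIndex S ≠ 1 := fun e => hg ((hscal g).1 (Subgroup.relIndex_eq_one.1 e hgS))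
      omega
  have hN2 : 2 ≤ N := by
    by_contra hlt
    have h1 : Z = ⊤ := Subgroup.index_eq_one.1 (show Z.index = 1 by omega)
    refine no_small ρ hirr hprim' ⊤ (by rw [Subgroup.index_top]; omega) (Pi.single 0 1)
      (by intro e; simpa using congrFun e 0) fun h _ => ?_
    obtain ⟨c, hc⟩ := (hscal h).1 (h1 ▸ Subgroup.mem_top h)
    exact ⟨c, by rw [hc]; rfl⟩
  have hge : 3 * k ≤ ∑ w, o w := by
    rw [hk, mul_comm, ← Finset.card_univ, ← smul_eq_mul, ← Finset.sum_const]
    exact Finset.sum_le_sum fun w _ => (horb w).1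
  have hle : 2 * ∑ w, o w ≤ k * N := by
    rw [hk, ← Finset.card_univ, ← smul_eq_mul (Finset.card _), ← Finset.sum_const, Finset.mul_sum]
    refine Finset.sum_le_sum fun w _ => ?_
    obtain ⟨e, he, heN⟩ := (horb w).2
    rw [← heN]
    exact Nat.mul_le_mul_right _ he
  rw [hsum] at heq
  have hk4 : k < 4 := by
    by_contra hc
    have := Nat.mul_le_mul_right N (not_lt.1 hc)
    omega
  interval_cases hk' : k
  · omega
  · omega
  · omega
  · obtain ⟨x, y, z, hxy, hxz, hyz, huniv⟩ :=
      Finset.card_eq_three.1 (show (Finset.univ : Finset (MulAction.orbitRel.Quotient G Ω)).card = 3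
        by rw [Finset.card_univ]; omega)
    rw [huniv, Finset.sum_insert (by simp [hxy, hxz]), Finset.sum_pair hyz] at heq
    obtain ⟨s3, a, ha, has⟩ := horb x
    obtain ⟨t3, b, hb, hbt⟩ := horb y
    obtain ⟨u3, c, hc, hcu⟩ := horb z
    rcases le_total a b with h1 | h1 <;> rcases le_total b c with h3 | h3 <;>
      rcases le_total a c with h4 | h4
    all_goals first
      | exact solve N a b c (o x) (o y) (o z) (by omega) (by omega) ha has hbt hcu t3 u3 (by omega)
      | exact solve N a c b (o x) (o z) (o y) (by omega) (by omega) ha has hcu hbt u3 t3 (by omega)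
      | exact solve N b a c (o y) (o x) (o z) (by omega) (by omega) hb hbt has hcu s3 u3 (by omega)
      | exact solve N b c a (o y) (o z) (o x) (by omega) (by omega) hb hbt hcu has u3 s3 (by omega)
      | exact solve N c a b (o z) (o x) (o y) (by omega) (by omega) hc hcu has hbt s3 t3 (by omega)
      | exact solve N c b a (o z) (o y) (o x) (by omega) (by omega) hc hcu hbt has t3 s3 (by omega)

end Cfsg.Agent.S4473
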