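import Cfsg.Statements.S0877
import Cfsg.Agent.Lib.CharDeep.Brauer
import Cfsg.Agent.Lib.CharDeep.PartHom
import Cfsg.Agent.Lib.CharDeep.GenChar
import Cfsg.Agent.Lib.Char.Integral

set_option autoImplicit false
open Cfsg
open CfsgLib CfsgLib.CharDeep

namespace Cfsg.Agent.S0877

/-- Let H be a subgroup of the finite group G whose order is coprime to its index. Suppose that elements of H conjugate in G are conjugate in H, and that every subgroup E of G that is elementary for some prime (in the sense used for Brauer's characterisation of characters) and whose order divides the order of H is conjugate to a subgroup of H. Then there is a normal subgroup K with K ⊔ H = ⊤ and K ⊓ H trivial. -/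
theorem result {G : Type*} [Group G] [Finite G] (H : Subgroup G) (hHall : Nat.Coprime (Nat.card H) H.index) (hfus : ∀ x ∈ H, ∀ y ∈ H, IsConj x y → ∃ h ∈ H, h * x * h⁻¹ = y) (helem : ∀ (E : Subgroup G) (p : ℕ), p.Prime → Cfsg.IsElementary p E → Nat.card E ∣ Nat.card H → ∃ g : G, E.map (MulAut.conj g).toMonoidHom ≤ H) : ∃ K : Subgroup G, K.Normal ∧ K ⊔ H = ⊤ ∧ K ⊓ H = ⊥ := by
  classical
  haveI := Fintype.ofFinite G
  haveI := Fintype.ofFinite H
  set n := Nat.card H with hndef
  set m := H.index with hmdef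
  have hG : Nat.card G = m * n := by rw [← Subgroup.card_mul_index H, mul_comm]
  have hcop : Nat.Coprime m n := hHall.symm
  obtain ⟨e, he0, he1, hee⟩ := PartHom.exists_exponent hcop
  rw [← hG] at hee
  have hmC : (m : ℂ) ≠ 0 := Nat.cast_ne_zero.2 Subgroup.index_ne_zero_of_finite
  have hnC : (n : ℂ) ≠ 0 := Char.card_ne_zero
  have hGC : (Nat.card G : ℂ) = (m : ℂ) * n := by rw [hG, Nat.cast_mul]
  have hex : ∀ x : G, ∃ h : H, IsConj (x ^ e) (h : G) := by
    intro x
    obtain ⟨p, hpG, hp⟩ := Nat.exists_infinite_primes (Nat.card G + 1)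
    have hE : Cfsg.IsElementary p (Subgroup.zpowers (x ^ e)) := by
      refine ⟨⟨x ^ e, Subgroup.mem_zpowers _⟩, ?_, ?_, 0, ?_⟩
      · rw [Subgroup.mem_center_iff]
        rintro ⟨_, i, rfl⟩
        exact Subtype.ext (Commute.zpow_left rfl i)
      · refine ((hp.coprime_iff_not_dvd).2 fun h => ?_).symm
        have := Nat.le_of_dvd Nat.card_pos
          ((h.trans (Subgroup.orderOf_coe _).symm.dvd).trans (orderOf_dvd_natCard _))
        omega
      · rw [pow_zero, Subgroup.index_eq_one, Subgroup.eq_top_iff']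
        rintro ⟨_, i, rfl⟩
        exact ⟨i, Subtype.ext (by simp)⟩
    obtain ⟨g, hg⟩ := helem _ p hp hE (by
      rw [Nat.card_zpowers]; exact PartHom.orderOf_pow_exponent_dvd hG he0 x)
    exact ⟨⟨g * x ^ e * g⁻¹, hg ⟨x ^ e, Subgroup.mem_zpowers _, rfl⟩⟩, isConj_iff.2 ⟨g, rfl⟩⟩
  choose τ hτ using hex
  have hval : ∀ θ : H → ℂ, Cfsg.IsClassFunction H θ → ∀ a b : H, IsConj (a : G) (b : G) →
      θ a = θ b := by
    intro θ hθ a b hab
    obtain ⟨h, hh, he⟩ := hfus a a.2 b b.2 hab
    rw [← hθ a ⟨h, hh⟩]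
    exact congrArg θ (Subtype.ext he)
  have hfix : ∀ h : H, IsConj (h : G) (τ (h : G) : G) := fun h => by
    have := hτ (h : G)
    rwa [PartHom.pow_exponent_eq_self he1 (by rw [Subgroup.orderOf_coe]
                                              exact orderOf_dvd_natCard h)] at this
  have hcf : ∀ θ : H → ℂ, Cfsg.IsClassFunction H θ →
      Cfsg.IsClassFunction G fun x => θ (τ x) := by
    intro θ hθ x y
    refine hval θ hθ _ _ ((hτ _).symm.trans (IsConj.trans ?_ (hτ x)))
    exact (isConj_iff.2 ⟨y, by rw [conj_pow]⟩ : IsConj (x ^ e) ((y * x * y⁻¹) ^ e)).symm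
  have hgen : ∀ θ : H → ℂ, Cfsg.IsCharacter H θ →
      Cfsg.IsGeneralizedCharacter G fun x => θ (τ x) := by
    intro θ hθ
    have hθc := Char.IsCharacter.isClassFunction hθ
    refine Brauer.isGeneralizedCharacter_of_elementary (hcf θ hθc) fun q hq E hE => ?_
    have := PartHom.isNilpotent_of_isElementary hq hE
    have hd : Nat.card E ∣ Nat.card G := Subgroup.card_subgroup_dvd_card E
    let π := E.subtype.comp (PartHom.powHom (G := E) e (hee.of_dvd hd))
    have hR : Cfsg.IsElementary q π.range :=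
      PartHom.isElementary_range hq π.rangeRestrict_surjective hE
    have hRd : Nat.card π.range ∣ n := by
      refine PartHom.card_dvd_of_forall_orderOf
        ((Subgroup.card_subgroup_dvd_card _).trans hG.dvd) hcop fun y => ?_
      obtain ⟨z, hz⟩ := y.2
      rw [← Subgroup.orderOf_coe, ← hz]
      exact PartHom.orderOf_pow_exponent_dvd hG he0 (z : G)
    obtain ⟨g, hg⟩ := helem _ q hq hR hRd
    let σ : E →* H := ((MulAut.conj g).toMonoidHom.comp π).codRestrict H
      fun x => hg ⟨π x, ⟨x, rfl⟩, rfl⟩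
    convert Char.IsCharacter.isGeneralizedCharacter (Char.IsCharacter.comp hθ σ) using 1
    funext x
    exact hval θ hθc _ _ ((hτ (x : G)).symm.trans (isConj_iff.2 ⟨g, rfl⟩))
  let A : H → ℕ := fun h => (Finset.univ.filter fun t : G × H => t.2 * τ t.1 * t.2⁻¹ = h).card
  have hsumA : ∀ θ : H → ℂ, Cfsg.IsClassFunction H θ →
      ∑ x : G, θ (τ x) = (n : ℂ)⁻¹ * ∑ h : H, θ h * (A h : ℂ) := by
    intro θ hθ
    rw [eq_inv_mul_iff_mul_eq₀ hnC]
    have h1 : ∀ h : H, θ h * (A h : ℂ) =
        ∑ t ∈ Finset.univ.filter (fun t : G × H => t.2 * τ t.1 * t.2⁻¹ = h), θ (τ t.1) := by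
      intro h
      rw [Finset.sum_congr rfl fun t ht => ?_, Finset.sum_const, nsmul_eq_mul, mul_comm]
      rw [← hθ (τ t.1) t.2, (Finset.mem_filter.1 ht).2]
    rw [Finset.sum_congr rfl fun h _ => h1 h,
      Finset.sum_fiberwise Finset.univ (fun t : G × H => t.2 * τ t.1 * t.2⁻¹) fun t => θ (τ t.1),
      Fintype.sum_prod_type, Finset.mul_sum]
    refine Finset.sum_congr rfl fun x _ => ?_
    dsimp only
    rw [Finset.sum_const, Finset.card_univ, nsmul_eq_mul, ← Nat.card_eq_fintype_card]
  set s : H → ℂ := fun h => (A h : ℂ) * ((m : ℂ) * n)⁻¹ with hsdef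
  have hA_conj : ∀ h k : H, A (k * h * k⁻¹) = A h := by
    intro h k
    refine Finset.card_nbij' (fun t => (t.1, k⁻¹ * t.2)) (fun t => (t.1, k * t.2)) ?_ ?_ ?_ ?_
    · intro t ht
      simp only [Finset.coe_filter, Set.mem_setOf_eq, Finset.mem_univ, true_and] at ht ⊢
      calc k⁻¹ * t.2 * τ t.1 * (k⁻¹ * t.2)⁻¹ = k⁻¹ * (t.2 * τ t.1 * t.2⁻¹) * k := by group
        _ = h := by rw [ht]; group
    · intro t ht
      simp only [Finset.coe_filter, Set.mem_setOf_eq, Finset.mem_univ, true_and] at ht ⊢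
      calc k * t.2 * τ t.1 * (k * t.2)⁻¹ = k * (t.2 * τ t.1 * t.2⁻¹) * k⁻¹ := by group
        _ = k * h * k⁻¹ := by rw [ht]
    · intro t _; simp
    · intro t _; simp
  have hs_cf : Cfsg.IsClassFunction H s := fun h k => by simp only [hsdef, hA_conj h k]
  have hs_gen : Cfsg.IsGeneralizedCharacter H s := by
    refine Char.isGeneralizedCharacter_iff.2 ⟨hs_cf, fun χ hχ => ?_⟩
    obtain ⟨z, hz⟩ := (Char.isGeneralizedCharacter_iff.1
      (hgen χ (Char.IsIrrCharacter.isCharacter hχ))).2 _ Char.isIrrCharacter_one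
    refine ⟨z, ?_⟩
    have h1 : Cfsg.classInner χ s = (z : ℂ) := by
      rw [← hz, Char.classInner_fun_one_right, hsumA χ (Char.IsIrrCharacter.isClassFunction hχ),
        hGC, Cfsg.classInner, Finset.mul_sum, Finset.mul_sum, Finset.mul_sum]
      refine Finset.sum_congr rfl fun h _ => ?_
      simp only [hsdef, map_mul, map_inv₀, map_natCast, ← hndef]
      field_simp
    rw [← Char.classInner_conj_symm χ s, h1, map_intCast]
  have hA : ∀ h : H, A h = m * n := by
    have hint : ∀ h : H, ∃ z : ℤ, (A h : ℂ) = (z : ℂ) * ((m : ℂ) * n) := by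
      intro h
      obtain ⟨a, b, ha, hb, hab⟩ := hs_gen
      have hi : IsIntegral ℤ (s h) := by
        rw [hab]
        exact (Char.IsCharacter.isIntegral ha h).sub (Char.IsCharacter.isIntegral hb h)
      obtain ⟨z, hz⟩ := Char.exists_int_of_isIntegral_rat hi
        (q := (A h : ℚ) * ((m : ℚ) * n)⁻¹) (by simp [hsdef])
      refine ⟨z, ?_⟩
      rw [← hz]
      simp only [hsdef]
      field_simp
    choose z hz using hint
    have hz' : ∀ h, (A h : ℤ) = z h * ((m : ℤ) * n) := fun h => by exact_mod_cast hz h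
    have hmn0 : (0 : ℤ) < (m : ℤ) * n := by
      have := Nat.card_pos (α := G)
      rw [hG] at this
      exact_mod_cast this
    have hpos : ∀ h, 1 ≤ z h := by
      intro h
      have hAh : 0 < A h := by
        obtain ⟨k, hk, hke⟩ := hfus _ (τ (h : G)).2 _ h.2 (hfix h).symm
        exact Finset.card_pos.2 ⟨((h : G), ⟨k, hk⟩),
          Finset.mem_filter.2 ⟨Finset.mem_univ _, Subtype.ext hke⟩⟩
      nlinarith [hz' h, (show (1 : ℤ) ≤ A h by exact_mod_cast hAh)]
    have htot : ∑ h : H, A h = Nat.card G * n := by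
      rw [← Finset.card_eq_sum_card_fiberwise (fun t _ => Finset.mem_univ _), Finset.card_univ,
        Fintype.card_prod, ← Nat.card_eq_fintype_card, ← Nat.card_eq_fintype_card]
    have htot' : ∑ h : H, z h = ∑ _h : H, (1 : ℤ) := by
      have h1 : (∑ h : H, (A h : ℤ)) = ((m : ℤ) * n) * n := by
        rw [← Nat.cast_sum, htot, hG]; push_cast; ring
      rw [Finset.sum_congr rfl fun h _ => hz' h, ← Finset.sum_mul, mul_comm] at h1
      rw [mul_left_cancel₀ hmn0.ne' h1, Finset.sum_const, Finset.card_univ, nsmul_one,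
        ← Nat.card_eq_fintype_card]
    intro h
    have h1 := hz' h
    rw [← (Finset.sum_eq_sum_iff_of_le fun i _ => hpos i).1 htot'.symm h (Finset.mem_univ h),
      one_mul] at h1
    exact_mod_cast h1
  have hsum : ∀ θ : H → ℂ, Cfsg.IsClassFunction H θ →
      ∑ x : G, θ (τ x) = (m : ℂ) * ∑ h : H, θ h := by
    intro θ hθ
    rw [hsumA θ hθ, Finset.mul_sum, Finset.mul_sum]
    refine Finset.sum_congr rfl fun h _ => ?_
    rw [hA h, Nat.cast_mul]
    field_simp
  have hτ1 : τ 1 = 1 := by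
    have := hτ 1
    rw [one_pow, isConj_one_right] at this
    exact Subtype.ext this
  have hirr : ∀ χ : Cfsg.IrrCharacter H, Cfsg.IsIrrCharacter G fun x => (χ : H → ℂ) (τ x) := by
    intro χ
    refine GenChar.isIrrCharacter_of_norm_one (hgen χ (Char.isCharacter_irr χ)) ?_ ?_
    · have hcf' : Cfsg.IsClassFunction H fun h =>
          (χ : H → ℂ) h * (starRingEnd ℂ) ((χ : H → ℂ) h) := fun a b => by
        simp only [Char.IsIrrCharacter.isClassFunction χ.2 a b]
      rw [← Char.classInner_irr_self χ.2, Cfsg.classInner, Cfsg.classInner,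
        hsum _ hcf', hGC, mul_inv, mul_comm (m : ℂ)⁻¹, ← hndef]
      field_simp
    · obtain ⟨d, hd, hd1⟩ := Char.IsIrrCharacter.apply_one_eq χ.2
      simp only [hτ1, hd1, Complex.natCast_re]
      exact_mod_cast hd
  choose deg hdeg using fun χ : Cfsg.IrrCharacter H =>
    Char.IsCharacter.apply_one_eq (Char.isCharacter_irr χ)
  set Ψ : G → ℂ := fun x => ∑ χ : Cfsg.IrrCharacter H, (χ : H → ℂ) 1 * (χ : H → ℂ) (τ x)
    with hΨdef
  have hΨ : Cfsg.IsCharacter G Ψ := by
    have h := Char.isCharacter_sum Finset.univ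
      (fun χ : Cfsg.IrrCharacter H => deg χ • fun x => (χ : H → ℂ) (τ x))
      fun χ _ => Char.IsCharacter.nsmul (Char.IsIrrCharacter.isCharacter (hirr χ)) _
    convert h using 1
    funext x
    simp [hΨdef, hdeg]
  have hΨv : ∀ x, Ψ x = if τ x = 1 then (n : ℂ) else 0 := fun x => Char.regular_eq_sum_irr (τ x)
  have hKmem : ∀ x : G, x ∈ Char.charKer hΨ ↔ τ x = 1 := by
    intro x
    rw [Char.mem_charKer, hΨv, hΨv, if_pos hτ1]
    by_cases h : τ x = 1
    · simp [h]
    · simp [h, hnC.symm]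
  have hKcard : Nat.card (Char.charKer hΨ) = m := by
    have h1 := hsum (fun h => if h = 1 then (1 : ℂ) else 0) fun a b => by simp [conj_eq_one_iff]
    simp only [Finset.sum_boole, Finset.filter_eq', Finset.mem_univ, if_true,
      Finset.card_singleton, Nat.cast_one, mul_one] at h1
    rw [Nat.card_eq_fintype_card, Fintype.card_subtype]
    simp only [hKmem]
    exact_mod_cast h1
  have hcompl : Subgroup.IsComplement' (Char.charKer hΨ) H :=
    Subgroup.isComplement'_of_coprime (by rw [hKcard, ← hndef, hG]) (by rwa [hKcard])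
  exact ⟨_, Char.charKer_normal hΨ, hcompl.sup_eq_top, hcompl.disjoint.eq_bot⟩

end Cfsg.Agent.S0877
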