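import Cfsg.Agent.Lib.FusionSystem.Invariant
-- Template for statement S5339 (row 5339; see /opt/grader/pristine/manifest.json for weights).
-- Copy to Cfsg/Agent/S5339.lean and replace the sorry. The statement below is byte-identical to the frozen
-- statement Cfsg.CfsgFrozen.S5339 (Cfsg/Statements/S5339.lean; the theorem Cfsg.fus70_simple_of_inner_top_automizer_and_no_strongly_closed_subgroup);
-- the grader kernel-checks Cfsg.Agent.S5339.result against that frozen type. Keep the theorem IN THIS FILE
-- (a `result` declared elsewhere and merely imported here is not credited); helpers may live anywhere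
-- under Cfsg/Agent/.
import Cfsg.Statements.S5339
-- import your own Cfsg.Agent.* helpers here

set_option autoImplicit false
open Cfsg

namespace Cfsg.Agent.S5339

/-- Let F be a saturated fusion system over a nontrivial finite p-group S such that Aut_F(S) consists of inner automorphisms only and S has no strongly closed subgroup other than 1 and S. Then F is simple. -/
theorem result {Ω : Type*} [Group Ω] {S : Subgroup Ω} [Finite S] (p : ℕ) [Fact p.Prime] (hS : IsPGroup p S) (F : Cfsg.FusionSystem S) (hF : F.IsSaturated p) (hS1 : S ≠ ⊥) (htop : F.autGroup S = Cfsg.Inn ↥S) (hsc : ∀ T : Subgroup Ω, F.StronglyClosed T → T = ⊥ ∨ T = S) : F.IsSimple p := by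
  open CfsgLib.Fsys in
  refine ⟨hF, hS1, fun T E hE => ?_⟩
  obtain ⟨⟨-, -, hinv⟩, -⟩ := hE
  refine (hsc T hinv.2.1).imp id fun hT => ⟨hT, fun P => ?_⟩
  subst hT
  refine Set.Subset.antisymm (hinv.1 P) fun φ hφ => ?_
  obtain ⟨α, hα, g, hg, he⟩ := Invariant.frattini hinv (F.le_of_mem hφ).1 (fn_ofHom hφ)
  have hαE : α ∈ E.autGroup T := autInducedBy_le_autGroup le_rfl (inn_le_autInducedBy le_rfl (htop ▸ hα))
  refine mem_hom_iff.2 ((hg.comp ((mem_autGroup_iff_fn le_rfl).1 hαE) fun x hx => hg.mem hx).congr ?_)
  exact fun x hx => (he x hx).symm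

end Cfsg.Agent.S5339
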