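import Cfsg.Statements.S3116
import Mathlib
import Cfsg.Agent.Lib.TwoGroups.MaximalClass

set_option autoImplicit false
open Cfsg

namespace Cfsg.Agent.S3116

theorem aut_isPGroup_of_unique_cyclic {X : Type*} [Group X] [Finite X] {a b : X} {k : ℕ} (hk : 1 ≤ k)
    (ha : orderOf a = 2 ^ k) (hi : (Subgroup.zpowers a).index = 2) (hb : b ∉ Subgroup.zpowers a)
    (hout : ∀ g : X, g ∉ Subgroup.zpowers a → orderOf g ≠ 2 ^ k) : IsPGroup 2 (MulAut X) := by
  have hmem : ∀ g : X, g ∈ Subgroup.zpowers a ∨ b⁻¹ * g ∈ Subgroup.zpowers a := fun g => by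
    by_cases hg : g ∈ Subgroup.zpowers a
    · exact Or.inl hg
    · exact Or.inr ((Subgroup.mul_mem_iff_of_index_two hi).mpr (iff_of_false (by simpa using hb) hg))
  intro φ
  have hφ : φ a ∈ Subgroup.zpowers a := by
    by_contra h
    exact hout _ h ((MulEquiv.orderOf_eq φ a).trans ha)
  obtain ⟨r, hr⟩ := Subgroup.mem_zpowers_iff.mp hφ
  have hpow : ∀ j : ℕ, (φ ^ j) a = a ^ (r ^ j) := by
    intro j
    induction j with
    | zero => simp
    | succ j ih => rw [pow_succ', MulAut.mul_apply, ih, map_zpow, ← hr, ← zpow_mul, pow_succ']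
  have hro : IsUnit (r : ZMod (2 ^ k)) := by
    rw [ZMod.coe_int_isUnit_iff_isCoprime]
    push_cast
    refine IsCoprime.pow_left ((Int.prime_two.coprime_iff_not_dvd).mpr fun hd => ?_)
    obtain ⟨c, rfl⟩ := hd
    have h2 : orderOf (φ a) ∣ 2 ^ (k - 1) := by
      rw [← hr, orderOf_dvd_iff_pow_eq_one, ← zpow_natCast, ← zpow_mul, ← orderOf_dvd_iff_zpow_eq_one, ha]
      have e : (2:ℕ) ^ k = 2 * 2 ^ (k - 1) := by rw [← pow_succ']; congr 1; omega
      rw [e]; push_cast
      exact ⟨c, by ring⟩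
    rw [MulEquiv.orderOf_eq, ha, Nat.pow_dvd_pow_iff_le_right (by norm_num)] at h2
    omega
  set N := 2 ^ (k - 1) with hN
  have hrN : (r : ZMod (2 ^ k)) ^ N = 1 := by
    obtain ⟨u, hu⟩ := hro
    haveI : Fintype (ZMod (2 ^ k))ˣ := Fintype.ofFinite _
    have := pow_card_eq_one (x := u)
    rw [ZMod.card_units_eq_totient, Nat.totient_prime_pow Nat.prime_two (by omega), show (2 - 1 : ℕ) = 1 from rfl, mul_one] at this
    rw [← hu, ← Units.val_pow_eq_pow_val, hN, this, Units.val_one]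
  have hfix : (φ ^ N) a = a := by
    rw [hpow]
    conv_rhs => rw [← zpow_one a]
    rw [CfsgLib.TwoGroups.CyclicMax.zpow_eq_iff ha]
    push_cast
    exact hrN
  set ψ := φ ^ N with hψ
  have hψA : ∀ i : ℤ, ψ (a ^ i) = a ^ i := fun i => by rw [map_zpow, hfix]
  obtain ⟨s, hs⟩ : ∃ s : ℤ, a ^ s = b⁻¹ * ψ b := by
    have hψb : ψ b ∉ Subgroup.zpowers a := by
      intro h
      obtain ⟨i, hi⟩ := Subgroup.mem_zpowers_iff.mp h
      have e : a ^ i = b := ψ.injective (by rw [hψA, hi])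
      exact hb (e ▸ Subgroup.zpow_mem _ (Subgroup.mem_zpowers a) i)
    exact Subgroup.mem_zpowers_iff.mp ((hmem (ψ b)).resolve_left hψb)
  have hψb : ∀ j : ℕ, (ψ ^ j) b = b * a ^ ((j : ℤ) * s) := by
    intro j
    induction j with
    | zero => simp
    | succ j ih =>
      rw [pow_succ', MulAut.mul_apply, ih, map_mul, hψA, show ψ b = b * a ^ s by rw [hs]; group, mul_assoc, ← zpow_add]
      congr 2; push_cast; ring
  have hψa : ∀ j : ℕ, (ψ ^ j) a = a := by
    intro j
    induction j with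
    | zero => simp
    | succ j ih => rw [pow_succ', MulAut.mul_apply, ih, hfix]
  refine ⟨(k - 1) + k, MulEquiv.ext fun g => ?_⟩
  rw [pow_add, pow_mul, MulAut.one_apply, ← hN, ← hψ]
  have hz : a ^ (((2 ^ k : ℕ) : ℤ) * s) = 1 := by rw [zpow_mul, zpow_natCast, ← ha, pow_orderOf_eq_one, one_zpow]
  rcases hmem g with h | h
  · obtain ⟨i, rfl⟩ := Subgroup.mem_zpowers_iff.mp h
    rw [map_zpow, hψa]
  · obtain ⟨i, hi'⟩ := Subgroup.mem_zpowers_iff.mp h
    have e : g = b * a ^ i := by rw [hi']; group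
    rw [e, map_mul, map_zpow, hψa, hψb, hz, mul_one]


/-- The automorphism group of a dihedral 2-group of order at least 8, or of a quasi-dihedral (semidihedral) 2-group of order at least 16, is a 2-group. -/
theorem result {X : Type*} [Group X] [Finite X] (h2 : IsPGroup 2 X)
    (h : (∃ n : ℕ, 4 ≤ n ∧ Nonempty (X ≃* DihedralGroup n)) ∨ Cfsg.IsQuasiDihedral X) : IsPGroup 2 (MulAut X) := by
  rcases h with ⟨n, hn, ⟨e⟩⟩ | ⟨n, hn, hcard, x, y, hx, hy, hrel⟩
  · haveI : NeZero n := ⟨by omega⟩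
    set a := e.symm (DihedralGroup.r 1) with ha
    set b := e.symm (DihedralGroup.sr 0) with hb'
    obtain ⟨k, hk⟩ := h2.exists_card_eq
    have hc : Nat.card X = 2 * n := by rw [Nat.card_congr e.toEquiv, DihedralGroup.nat_card]
    obtain ⟨k, rfl⟩ : ∃ j, k = j + 1 := by
      rcases k with _ | k
      · rw [hk] at hc; omega
      · exact ⟨k, rfl⟩
    have hnk : n = 2 ^ k := by rw [hk, pow_succ] at hc; omega
    have hao : orderOf a = 2 ^ k := by rw [ha, MulEquiv.orderOf_eq, DihedralGroup.orderOf_r_one, hnk]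
    have hk2 : 2 ≤ k := by
      by_contra hlt
      have : 2 ^ k ≤ 2 ^ 1 := Nat.pow_le_pow_right two_pos (by omega)
      omega
    have hr : ∀ g : X, g ∉ Subgroup.zpowers a → orderOf g = 2 := by
      intro g hg
      obtain ⟨d, rfl⟩ := e.symm.surjective g
      rw [MulEquiv.orderOf_eq]
      rcases d with i | i
      · exfalso; apply hg
        rw [ha, show DihedralGroup.r i = DihedralGroup.r 1 ^ i.val by rw [DihedralGroup.r_one_pow, ZMod.natCast_zmod_val], map_pow]
        exact Subgroup.pow_mem _ (Subgroup.mem_zpowers _) _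
      · exact DihedralGroup.orderOf_sr i
    have hb : b ∉ Subgroup.zpowers a := by
      intro hmem
      obtain ⟨i, hi⟩ := Subgroup.mem_zpowers_iff.mp hmem
      have := congrArg e hi
      rw [map_zpow, ha, hb', MulEquiv.apply_symm_apply, MulEquiv.apply_symm_apply, DihedralGroup.r_one_zpow] at this
      simp at this
    refine aut_isPGroup_of_unique_cyclic (by omega) hao (CfsgLib.TwoGroups.CyclicMax.index_zpowers (by rw [hk]) hao) hb ?_
    intro g hg
    rw [hr g hg]
    have : 2 ^ 2 ≤ 2 ^ k := Nat.pow_le_pow_right two_pos hk2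
    omega
  · have hi := CfsgLib.TwoGroups.CyclicMax.index_zpowers hcard hx
    have hyX : y ∉ Subgroup.zpowers x := by
      intro h
      obtain ⟨i, rfl⟩ := Subgroup.mem_zpowers_iff.mp h
      have e : x = x ^ (2 ^ (n - 1) - 1) := by
        rw [← hrel, ((Commute.refl x).zpow_left i).eq, mul_inv_cancel_right]
      have h1 := pow_inj_mod.mp (((pow_one x).trans e))
      rw [hx] at h1
      have h8 : 2 ^ 2 ≤ 2 ^ (n - 1) := Nat.pow_le_pow_right two_pos (by omega)
      have h2n : 2 ^ n = 2 * 2 ^ (n - 1) := by rw [← pow_succ']; congr 1; omega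
      rw [Nat.mod_eq_of_lt (by omega), Nat.mod_eq_of_lt (by omega)] at h1
      omega
    refine aut_isPGroup_of_unique_cyclic (by omega) hx hi hyX ?_
    intro g hg hord
    have hyg : y⁻¹ * g ∈ Subgroup.zpowers x :=
      (Subgroup.mul_mem_iff_of_index_two hi).mpr (iff_of_false (by simpa using hyX) hg)
    obtain ⟨i, hi'⟩ := Subgroup.mem_zpowers_iff.mp hyg
    have hg' : g = y * x ^ i := by rw [hi']; group
    have hy2 : y * y = 1 := by rw [← sq, ← hy, pow_orderOf_eq_one]
    have h4 : g ^ 4 = 1 := by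
      have e2 : g ^ 2 = x ^ ((2 ^ (n - 1) : ℕ) * i : ℤ) := by
        rw [hg', sq]
        calc y * x ^ i * (y * x ^ i) = (y * x ^ i * y⁻¹) * (y * y) * x ^ i := by group
          _ = x ^ ((2 ^ (n - 1) : ℕ) * i : ℤ) := by
            rw [← conj_zpow, hrel, hy2, mul_one, ← zpow_natCast, ← zpow_mul, ← zpow_add, Nat.cast_sub Nat.one_le_two_pow]
            congr 1; push_cast; ring
      rw [show (4:ℕ) = 2 * 2 from rfl, pow_mul, e2, ← zpow_natCast, ← zpow_mul, ← orderOf_dvd_iff_zpow_eq_one, hx]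
      have h2n : 2 ^ n = 2 * 2 ^ (n - 1) := by rw [← pow_succ']; congr 1; omega
      rw [h2n]; push_cast
      exact ⟨i, by ring⟩
    have := Nat.le_of_dvd (by norm_num) (orderOf_dvd_of_pow_eq_one h4)
    rw [hord] at this
    have : 2 ^ 3 ≤ 2 ^ n := Nat.pow_le_pow_right two_pos hn
    omega

end Cfsg.Agent.S3116
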