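import Cfsg.Agent.Lib.FusionSystem.Invariant
-- Template for statement S5340 (row 5340; see /opt/grader/pristine/manifest.json for weights).
-- Copy to Cfsg/Agent/S5340.lean and replace the sorry. The statement below is byte-identical to the frozen
-- statement Cfsg.CfsgFrozen.S5340 (Cfsg/Statements/S5340.lean; the theorem Cfsg.fus70_simple_of_transitive_on_subgroups_of_order_p);
-- the grader kernel-checks Cfsg.Agent.S5340.result against that frozen type. Keep the theorem IN THIS FILE
-- (a `result` declared elsewhere and merely imported here is not credited); helpers may live anywhere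
-- under Cfsg/Agent/.
import Cfsg.Statements.S5340
-- import your own Cfsg.Agent.* helpers here

set_option autoImplicit false
open Cfsg

namespace Cfsg.Agent.S5340

/-- Let F be a saturated fusion system over a nontrivial finite p-group S such that S is generated by its elements of order p, any two subgroups of S of order p are F-conjugate, and Aut_F(S) consists of inner automorphisms only. Then F is simple. -/
theorem result {Ω : Type*} [Group Ω] {S : Subgroup Ω} [Finite S] (p : ℕ) [Fact p.Prime] (hS : IsPGroup p S) (F : Cfsg.FusionSystem S) (hF : F.IsSaturated p) (hS1 : S ≠ ⊥) (hgen : Subgroup.closure {x : Ω | x ∈ S ∧ orderOf x = p} = S) (htr : ∀ A B : Subgroup Ω, A ≤ S → B ≤ S → Nat.card A = p → Nat.card B = p → F.IsConj A B) (htop : F.autGroup S = Cfsg.Inn ↥S) : F.IsSimple p := by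
  open CfsgLib.Fsys in
  refine ⟨hF, hS1, fun T E hE => ?_⟩
  obtain ⟨⟨-, -, hinv⟩, -⟩ := hE
  have hT : T = ⊥ ∨ T = S := by
    refine or_iff_not_imp_left.2 fun hne => le_antisymm hinv.2.1.1 ?_
    rw [← hgen, Subgroup.closure_le]
    rintro y ⟨hy, hyp⟩
    have := finite_of_le_base hinv.2.1.1
    obtain ⟨k, hk, hcard⟩ := ((hS.to_le hinv.2.1.1).nontrivial_iff_card).1 ((Subgroup.nontrivial_iff_ne_bot _).2 hne)
    obtain ⟨x, hx⟩ := exists_prime_orderOf_dvd_card' (G := T) p (hcard ▸ dvd_pow_self p hk.ne')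
    have hxS : Subgroup.zpowers (x : Ω) ≤ S := Subgroup.zpowers_le.2 (hinv.2.1.1 x.2)
    obtain ⟨f, hf, hfi⟩ := isConj_iff.1 (htr _ (Subgroup.zpowers y) hxS (Subgroup.zpowers_le.2 hy)
      (by rw [Nat.card_zpowers, Subgroup.orderOf_coe, hx]) (by rw [Nat.card_zpowers, hyp]))
    obtain ⟨w, hw, rfl⟩ := hf.mem_img.1 (hfi.ge (Subgroup.mem_zpowers y))
    exact sc_apply hinv.2.1 hf hw (Subgroup.zpowers_le.2 x.2 hw)
  refine hT.imp id fun hT => ⟨hT, fun P => ?_⟩
  subst hT
  refine Set.Subset.antisymm (hinv.1 P) fun φ hφ => ?_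
  obtain ⟨α, hα, g, hg, he⟩ := Invariant.frattini hinv (F.le_of_mem hφ).1 (fn_ofHom hφ)
  have hαE : α ∈ E.autGroup T := autInducedBy_le_autGroup le_rfl (inn_le_autInducedBy le_rfl (htop ▸ hα))
  refine mem_hom_iff.2 ((hg.comp ((mem_autGroup_iff_fn le_rfl).1 hαE) fun x hx => hg.mem hx).congr ?_)
  exact fun x hx => (he x hx).symm

end Cfsg.Agent.S5340
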