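import Cfsg.Statements.S0013
import Cfsg.Agent.Lib.Solvable.FrattiniFitting
-- import your own Cfsg.Agent.* helpers here

set_option autoImplicit false
open Cfsg

namespace Cfsg.Agent.S0013

/-- In a finite p-group the Frattini subgroup is the smallest normal subgroup with elementary abelian quotient: it lies below any normal subgroup containing all commutators and all p-th powers. -/
theorem result {G : Type*} [Group G] [Finite G] (p : ℕ) [Fact p.Prime]
    (hG : IsPGroup p G) (N : Subgroup G) [N.Normal] (hcomm : commutator G ≤ N) (hpow : ∀ x : G, x ^ p ∈ N) :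
    frattini G ≤ N := by
  intro x hx
  by_contra hxN
  have hcomm : ∀ a b : G ⧸ N, a * b = b * a := by
    intro a b
    obtain ⟨a, rfl⟩ := QuotientGroup.mk'_surjective N a
    obtain ⟨b, rfl⟩ := QuotientGroup.mk'_surjective N b
    rw [← commutatorElement_eq_one_iff_mul_comm, ← map_commutatorElement]
    exact (QuotientGroup.eq_one_iff _).mpr (hcomm
      (Subgroup.commutator_mem_commutator (Subgroup.mem_top a) (Subgroup.mem_top b)))
  obtain ⟨K, -, hK, hmax⟩ := Finite.exists_le_maximal
    (p := fun K : Subgroup G => N ≤ K ∧ x ∉ K) (a := N) ⟨le_rfl, hxN⟩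
  have hne : K ≠ ⊤ := fun h => hK.2 (h ▸ Subgroup.mem_top x)
  have hsup : ∀ L, K < L → x ∈ L := fun L hL => by
    by_contra h
    exact hL.not_ge (hmax ⟨hK.1.trans hL.le, h⟩ hL.le)
  have hKn : K.Normal := by
    refine ⟨fun k hk g => ?_⟩
    have h1 : (g * k * g⁻¹) * k⁻¹ ∈ N := by
      rw [← QuotientGroup.eq_one_iff, QuotientGroup.mk_mul, QuotientGroup.mk_mul,
        QuotientGroup.mk_mul, hcomm (g : G ⧸ N) k, QuotientGroup.mk_inv, QuotientGroup.mk_inv]
      group
    simpa using mul_mem (hK.1 h1) hk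
  have hcoatom : IsCoatom K := by
    refine ⟨hne, fun L hL => ?_⟩
    rw [eq_top_iff]
    intro y _
    by_cases hy : y ∈ K
    · exact hL.le hy
    have hxy := hsup (K ⊔ Subgroup.zpowers y)
      (left_lt_sup.mpr fun h => hy (h (Subgroup.mem_zpowers y)))
    haveI := hKn
    rw [← SetLike.mem_coe, Subgroup.normal_mul] at hxy
    obtain ⟨k, hk, z, hz, hxe⟩ := hxy
    obtain ⟨i, rfl⟩ := Subgroup.mem_zpowers_iff.mp hz
    have hyi : y ^ i ∈ L := by
      have : y ^ i = k⁻¹ * x := by rw [← hxe]; group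
      rw [this]; exact mul_mem (inv_mem (hL.le hk)) (hsup L hL)
    have hyp : y ^ (p : ℤ) ∈ L := by
      rw [zpow_natCast]; exact hL.le (hK.1 (hpow y))
    have hpi : ¬ (p : ℤ) ∣ i := by
      rintro ⟨j, rfl⟩
      apply hK.2
      rw [← hxe, zpow_mul, zpow_natCast]
      exact mul_mem hk (zpow_mem (hK.1 (hpow y)) j)
    have hg : Int.gcd (p : ℤ) i = 1 := by
      rw [Int.gcd_def, Int.natAbs_natCast]
      exact (Fact.out : p.Prime).coprime_iff_not_dvd.mpr fun h => hpi (Int.natCast_dvd.mpr h)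
    have huv := Int.gcd_eq_gcd_ab (p : ℤ) i
    rw [hg, Nat.cast_one] at huv
    set u := Int.gcdA (p : ℤ) i
    set v := Int.gcdB (p : ℤ) i
    have : y = (y ^ (p : ℤ)) ^ u * (y ^ i) ^ v := by
      rw [← zpow_mul, ← zpow_mul, ← zpow_add, ← huv, zpow_one]
    rw [this]
    exact mul_mem (zpow_mem hyp u) (zpow_mem hyi v)
  exact hK.2 (frattini_le_coatom hcoatom hx)

end Cfsg.Agent.S0013
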