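import Cfsg.Statements.S0246
import Cfsg.Agent.Lib.Classical.SympMatrix

set_option autoImplicit false
open Cfsg

namespace Cfsg.Agent.S0246

/-- The centre of Sp_{2m}(q), m at least 1, is {1, -1}: it has order gcd(2, q-1). -/
theorem result {F : Type*} [Field F] [Fintype F] {q : ℕ} (hF : Fintype.card F = q) (m : ℕ) (hm : 1 ≤ m) : Nat.card (Subgroup.center (Matrix.symplecticGroup (Fin m) F)) = Nat.gcd 2 (q - 1) := by
  subst hF
  classical
  have hneg : (-1 : Matrix (Fin m ⊕ Fin m) (Fin m ⊕ Fin m) F) ∈ Matrix.symplecticGroup (Fin m) F :=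
    SymplecticGroup.neg_mem (Submonoid.one_mem _)
  set z : Matrix.symplecticGroup (Fin m) F := ⟨-1, hneg⟩
  have hset : (Subgroup.center (Matrix.symplecticGroup (Fin m) F) : Set (Matrix.symplecticGroup (Fin m) F)) = {1, z} := by
    ext A
    refine ⟨fun hA => ?_, ?_⟩
    · rcases CfsgLib.Classical.sp_center_eq m hA with h | h
      · exact Or.inl (Subtype.ext h)
      · exact Or.inr (Subtype.ext h)
    · rintro (rfl | rfl)
      · exact one_mem _
      · exact Subgroup.mem_center_iff.2 fun g => Subtype.ext (by simp [z])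
  rw [← SetLike.coe_sort_coe, hset, Nat.card_coe_set_eq]
  have hq : 1 < Fintype.card F := Fintype.one_lt_card
  by_cases h2 : (2 : F) = 0
  · have hz : z = 1 := by
      apply Subtype.ext
      change (-1 : Matrix (Fin m ⊕ Fin m) (Fin m ⊕ Fin m) F) = 1
      ext i j
      simp only [Matrix.neg_apply]
      linear_combination (-(1 : Matrix (Fin m ⊕ Fin m) (Fin m ⊕ Fin m) F) i j) * h2
    have hev : Fintype.card F % 2 = 0 :=
      FiniteField.even_card_iff_char_two.1 ((CharP.ringChar_of_prime_eq_zero Nat.prime_two (by exact_mod_cast h2)))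
    rw [hz, Set.insert_eq_of_mem (Set.mem_singleton _), Set.ncard_singleton]
    refine (Nat.Coprime.gcd_eq_one ?_).symm
    rw [Nat.Prime.coprime_iff_not_dvd Nat.prime_two]
    omega
  · have hz : (1 : Matrix.symplecticGroup (Fin m) F) ≠ z := by
      intro h
      have := congrFun (congrFun (congrArg Subtype.val h) (Sum.inl ⟨0, hm⟩)) (Sum.inl ⟨0, hm⟩)
      simp [z] at this
      exact h2 (by linear_combination this)
    have hev : Fintype.card F % 2 = 1 :=
      FiniteField.odd_card_of_char_ne_two fun h => h2 (by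
        have := ringChar.charP F
        exact_mod_cast (CharP.cast_eq_zero_iff F (ringChar F) 2).2 (h ▸ dvd_refl _))
    rw [Set.ncard_pair hz]
    exact (Nat.gcd_eq_left (by omega)).symm

end Cfsg.Agent.S0246
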