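import Cfsg.Statements.S0664
import Cfsg.Agent.Lib.Fusion.QdSections
import Cfsg.Agent.Lib.Fusion.ZJBridge
-- import your own Cfsg.Agent.* helpers here

set_option autoImplicit false
open Cfsg

namespace Cfsg.Agent.S0664

/-- Glauberman's ZJ-Theorem in its section-free form: for odd p, a finite group with no section isomorphic to Qd(p) whose largest normal p-subgroup contains its centralizer has Z(J(S)) normal, J(S) the abelian-version Thompson subgroup of a Sylow p-subgroup S. -/
theorem result {G : Type*} [Group G] [Finite G] {p : ℕ} [Fact p.Prime] (hp : p ≠ 2) (hfree : ¬ ∃ (K R : Subgroup G) (hR : (R.subgroupOf K).Normal), Nonempty ((K ⧸ R.subgroupOf K) ≃* ↥(Cfsg.qd p))) (hc : Subgroup.centralizer (Cfsg.pCore p G : Set G) ≤ Cfsg.pCore p G) (S : Sylow p G) : (Cfsg.centerThompsonAOf ((S : Subgroup G))).Normal := by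
  open CfsgLib.Fusion in
  rw [ZJBridge.centerThompsonAOf_eq_Z (ZJBridge.sylow_pow_card S)]
  have hfree' : ¬ CfsgLib.Fusion.QdSections.HasQdSection p G := by
    rintro ⟨L, f, hf⟩
    obtain ⟨K, L', hn, -, he⟩ := CfsgLib.Fusion.QuadSection.exists_section (H := (⊤ : Subgroup G))
      (L.comap (⊤ : Subgroup G).subtype) (f.comp ((⊤ : Subgroup G).subtype.subgroupComap L))
      (hf.comp fun y => ⟨⟨⟨(y : G), trivial⟩, y.2⟩, rfl⟩)
    exact hfree ⟨K, L', hn, he⟩
  haveI := CfsgLib.Fusion.ZJGeneral.Z_characteristic hp (CfsgLib.Fusion.ZJBridge.odd_card_sylow hp S) hc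
    (fun P _ hP => CfsgLib.Fusion.QdSections.isPStableOn_of_qdFree hp hfree' P hP) S
  exact Subgroup.normal_of_characteristic _

end Cfsg.Agent.S0664
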