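import Cfsg.Statements.S4479
import Cfsg.Agent.Lib.Blocks.FourGroupOrder
import Cfsg.Agent.Lib.Involution.ZStar.PrincipalBlock

set_option autoImplicit false
open Cfsg

namespace Cfsg.Agent.S4479

open CfsgLib CfsgLib.Blocks CfsgLib.Blocks.FourGroup

/-- An order formula from the principal 2-block. Let G be a finite group of order 4·g₀ with g₀ odd having no normal 2-complement (no normal subgroup of order g₀); let P be a Sylow 2-subgroup, J an involution of P, and fix a maximal ideal M of the algebraic integers containing 2. Suppose the principal 2-block consists of the principal character and three further distinct characters χ₁, χ₂, χ₃ of degrees x₁, x₂, x₃, with χ_i(J) = ε_i = ±1. Then, writing c(J) and c(P) for the orders of the centralizers of J and of P, the order of G equals 8·α·c(J)³/c(P)² with α = x₁x₂x₃ /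 ((x₁ + ε₁)(x₂ + ε₂)(x₃ + ε₃)). -/
theorem result {G : Type*} [Group G] [Finite G] (M : Ideal Cfsg.AlgInt) (hM : Cfsg.IsPModular 2 M) (g₀ : ℕ) (hg₀ : Odd g₀) (hG : Nat.card G = 4 * g₀) (hnc : ¬ ∃ N : Subgroup G, N.Normal ∧ Nat.card N = g₀) (P : Sylow 2 G) (J : G) (hJ : J ∈ (P : Subgroup G)) (hJ2 : orderOf J = 2) (χ₁ χ₂ χ₃ : Cfsg.IrrCharacter G) (ε₁ ε₂ ε₃ : ℤ) (hB : Cfsg.principalBlock M G = {χ : Cfsg.IrrCharacter G | (χ : G → ℂ) = (fun _ => 1) ∨ χ = χ₁ ∨ χ = χ₂ ∨ χ = χ₃}) (hdist : (χ₁ : G → ℂ) ≠ (fun _ => 1) ∧ (χ₂ : G → ℂ) ≠ (fun _ => 1) ∧ (χ₃ : G → ℂ) ≠ (fun _ => 1) ∧ χ₁ ≠ χ₂ ∧ χ₁ ≠ χ₃ ∧ χ₂ ≠ χ₃) (hε : (ε₁ = 1 ∨ ε₁ = -1) ∧ (ε₂ = 1 ∨ ε₂ = -1) ∧ (ε₃ = 1 ∨ ε₃ = -1)) (hval : (χ₁ : G → ℂ) J = ε₁ ∧ (χ₂ : G → ℂ) J = ε₂ ∧ (χ₃ : G → ℂ) J = ε₃) : (Nat.card G : ℚ) = 8 * (((Cfsg.charDegree (χ₁ : G → ℂ) : ℚ) * Cfsg.charDegree (χ₂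 : G → ℂ) * Cfsg.charDegree (χ₃ : G → ℂ)) / ((Cfsg.charDegree (χ₁ : G → ℂ) + ε₁) * (Cfsg.charDegree (χ₂ : G → ℂ) + ε₂) * (Cfsg.charDegree (χ₃ : G → ℂ) + ε₃))) * (Nat.card (Subgroup.centralizer ({J} : Set G)) : ℚ) ^ 3 / (Nat.card (Subgroup.centralizer ((P : Subgroup G) : Set G)) : ℚ) ^ 2 := by
  classical
  haveI := Fintype.ofFinite G
  haveI : Fact (Nat.Prime 2) := ⟨Nat.prime_two⟩
  obtain ⟨hP4, hexp, hone⟩ := setup_four P g₀ hg₀ hG hnc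
  obtain ⟨h1, h2, h3, h12, h13, h23⟩ := hdist
  obtain ⟨hv1, hv2, hv3⟩ := hval
  have horth := CfsgLib.Involution.ZStar.sum_degree_mul_eq_zero hM
    (isPBlock_principalBlock (M := M) (G := G)) (g := J) (by rw [hJ2])
  have hS := order_formula hM P hP4 hexp hone hJ hJ2
  rw [sum_four hB h1 h2 h3 h12 h13 h23] at horth hS
  have htJ : ((trivChar G : Cfsg.IrrCharacter G) : G → ℂ) J = 1 := rfl
  have ht1 : ((trivChar G : Cfsg.IrrCharacter G) : G → ℂ) 1 = 1 := rfl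
  rw [htJ, ht1, hv1, hv2, hv3] at horth hS
  simp only [irr_one_eq] at horth hS
  obtain ⟨n1, hn1⟩ := exists_mult_four P hP4 hexp hone hJ2 χ₁ hv1
  obtain ⟨n2, hn2⟩ := exists_mult_four P hP4 hexp hone hJ2 χ₂ hv2
  obtain ⟨n3, hn3⟩ := exists_mult_four P hP4 hexp hone hJ2 χ₃ hv3
  have hp1 := charDegree_pos χ₁
  have hp2 := charDegree_pos χ₂
  have hp3 := charDegree_pos χ₃
  set x1 := Cfsg.charDegree (χ₁ : G → ℂ)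
  set x2 := Cfsg.charDegree (χ₂ : G → ℂ)
  set x3 := Cfsg.charDegree (χ₃ : G → ℂ)
  obtain ⟨he1, he2, he3⟩ := hε
  have d1 : (x1 : ℤ) + ε₁ ≠ 0 := by rcases he1 with e | e <;> omega
  have d2 : (x2 : ℤ) + ε₂ ≠ 0 := by rcases he2 with e | e <;> omega
  have d3 : (x3 : ℤ) + ε₃ ≠ 0 := by rcases he3 with e | e <;> omega
  set cJ := Nat.card (Subgroup.centralizer ({J} : Set G))
  set cP := Nat.card (Subgroup.centralizer ((P : Subgroup G) : Set G))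
  have hcP : (cP : ℚ) ≠ 0 := Nat.cast_ne_zero.2 Nat.card_pos.ne'
  have hsq : ∀ ε : ℤ, (ε = 1 ∨ ε = -1) → (ε : ℚ) * ε = 1 := by
    rintro ε (rfl | rfl) <;> norm_num
  have hS' : (Nat.card G : ℚ) * (1 + (ε₁ : ℚ) / x1 + (ε₂ : ℚ) / x2 + (ε₃ : ℚ) / x3) * (cP : ℚ) ^ 2
      = 8 * (cJ : ℚ) ^ 3 := by
    have h : (((Nat.card G : ℚ) * (1 + (ε₁ : ℚ) ^ 3 / x1 + (ε₂ : ℚ) ^ 3 / x2 + (ε₃ : ℚ) ^ 3 / x3)
        * (cP : ℚ) ^ 2 : ℚ) : ℂ) = ((8 * (cJ : ℚ) ^ 3 : ℚ) : ℂ) := by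
      push_cast
      rw [← hS]
      ring
    have h' := Rat.cast_injective h
    have hc : ∀ ε : ℤ, (ε = 1 ∨ ε = -1) → (ε : ℚ) ^ 3 = ε := by
      rintro ε (rfl | rfl) <;> norm_num
    rwa [hc _ he1, hc _ he2, hc _ he3] at h'
  have hO : (1 : ℚ) + ε₁ * x1 + ε₂ * x2 + ε₃ * x3 = 0 := by
    have h : (((1 : ℚ) + ε₁ * x1 + ε₂ * x2 + ε₃ * x3 : ℚ) : ℂ) = ((0 : ℚ) : ℂ) := by
      push_cast
      rw [← horth]
      ring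
    exact Rat.cast_injective h
  have hx1 : (x1 : ℚ) ≠ 0 := Nat.cast_ne_zero.2 hp1.ne'
  have hx2 : (x2 : ℚ) ≠ 0 := Nat.cast_ne_zero.2 hp2.ne'
  have hx3 : (x3 : ℚ) ≠ 0 := Nat.cast_ne_zero.2 hp3.ne'
  have D1 : (x1 : ℚ) + ε₁ ≠ 0 := by exact_mod_cast d1
  have D2 : (x2 : ℚ) + ε₂ ≠ 0 := by exact_mod_cast d2
  have D3 : (x3 : ℚ) + ε₃ ≠ 0 := by exact_mod_cast d3
  have hprod : ((x1 : ℚ) + ε₁) * (x2 + ε₂) * (x3 + ε₃)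
      = x1 * x2 * x3 * (1 + (ε₁ : ℚ) / x1 + (ε₂ : ℚ) / x2 + (ε₃ : ℚ) / x3) := by
    field_simp
    linear_combination (ε₁ * ε₂ * ε₃ : ℚ) * hO - ((x1 : ℚ) * ε₂ * ε₃) * hsq ε₁ he1
      - ((x2 : ℚ) * ε₁ * ε₃) * hsq ε₂ he2 - ((x3 : ℚ) * ε₁ * ε₂) * hsq ε₃ he3
  have hD : ((x1 : ℚ) + ε₁) * (x2 + ε₂) * (x3 + ε₃) ≠ 0 := mul_ne_zero (mul_ne_zero D1 D2) D3
  rw [hprod] at hD ⊢
  set S := (1 + (ε₁ : ℚ) / x1 + (ε₂ : ℚ) / x2 + (ε₃ : ℚ) / x3)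
  have hSne : S ≠ 0 := (mul_ne_zero_iff.1 hD).2
  rw [div_mul_cancel_left₀ (mul_ne_zero (mul_ne_zero hx1 hx2) hx3), eq_div_iff (pow_ne_zero _ hcP)]
  field_simp
  linear_combination hS'

end Cfsg.Agent.S4479
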