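import Cfsg.Statements.S1120
import Cfsg.Agent.Lib.RankOne.Basic
import Cfsg.Agent.Lib.Coprime.Generation
import Cfsg.Agent.Lib.Solvable.Cores

set_option autoImplicit false
open Cfsg

namespace Cfsg.Agent.S1120

/-- In the rank-one set-up (`G` finite and doubly transitive on `Ω`, `t` an involution moving `a`, `Q` normal in `G_a` with `G_a = Q D`, `Q ⊓ D = 1` for the two-point stabiliser `D = G_a ⊓ G_{t • a}`, `|Q|` even, `|D|` odd), if `G` has 2-rank at least 2 then `O_{2'}(G)` equals the normal core of `G_a`. -/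
theorem result {G Ω : Type*} [Group G] [Finite G] [MulAction G Ω] {a : Ω} {t : G} {Q : Subgroup G}
    (hS : Cfsg.IsRankOneSetup G Ω a t Q)
    (h2 : ∃ x y : G, x ≠ 1 ∧ y ≠ 1 ∧ x ≠ y ∧ x * x = 1 ∧ y * y = 1 ∧ x * y = y * x) :
    Cfsg.pPrimeCore 2 G = (MulAction.stabilizer G a).normalCore := by
  haveI := CfsgLib.RankOne.pretransitive hS
  have htrans : ∀ b : Ω, ∀ N : Subgroup G, N.Normal → N ≤ MulAction.stabilizer G b →
      N ≤ MulAction.stabilizer G a := by
    intro b N hN hle n hn
    obtain ⟨g, hg⟩ := MulAction.exists_smul_eq G b a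
    have h1 : (g⁻¹ * n * g) • b = b := hle (by simpa using hN.conj_mem n hn g⁻¹)
    change n • a = a
    rw [← hg]
    rwa [mul_smul, mul_smul, inv_smul_eq_iff] at h1
  refine le_antisymm ?_ ?_
  · set N := Cfsg.pPrimeCore 2 G with hNdef
    have hN : N.Normal := Subgroup.sSup_normal _ fun _ h => h.1
    refine Subgroup.normal_le_normalCore.mpr ?_
    obtain ⟨x, y, hx1, hy1, hxy, hx, hy, hc⟩ := h2
    let A : Subgroup G := Subgroup.closure {x, y}
    have hgen : ∀ s ∈ ({x, y} : Set G), ∀ z ∈ A, z * s = s * z := by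
      intro s hs z hz
      have : A ≤ Subgroup.centralizer {s} := (Subgroup.closure_le _).mpr (by
        rintro w hw
        rw [SetLike.mem_coe, Subgroup.mem_centralizer_singleton_iff]
        simp only [Set.mem_insert_iff, Set.mem_singleton_iff] at hs hw
        rcases hs with rfl | rfl <;> rcases hw with rfl | rfl <;> first | rfl | exact hc | exact hc.symm)
      exact Subgroup.mem_centralizer_singleton_iff.mp (this hz)
    have hcomm : ∀ u ∈ A, ∀ w ∈ A, u * w = w * u := by
      intro u hu w hw
      have : A ≤ Subgroup.centralizer {u} := (Subgroup.closure_le _).mpr (fun s hs => by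
        rw [SetLike.mem_coe, Subgroup.mem_centralizer_singleton_iff]
        exact (hgen s hs u hu).symm)
      exact (Subgroup.mem_centralizer_singleton_iff.mp (this hw)).symm
    haveI : IsMulCommutative A := ⟨⟨fun u w => Subtype.ext (hcomm u u.2 w w.2)⟩⟩
    have hsq : ∀ u ∈ A, u * u = 1 := by
      intro u hu
      induction hu using Subgroup.closure_induction with
      | mem s hs => rcases hs with rfl | rfl <;> assumption
      | one => rw [one_mul]
      | mul u w hu' hw' hu2 hw2 =>
        calc u * w * (u * w) = u * (w * u) * w := by group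
          _ = u * u * (w * w) := by rw [← hcomm u hu' w hw']; group
          _ = 1 := by rw [hu2, hw2, one_mul]
      | inv u _ hu2 => rw [← mul_inv_rev, hu2, inv_one]
    have hxA : x ∈ A := Subgroup.subset_closure (by simp)
    have hyA : y ∈ A := Subgroup.subset_closure (by simp)
    haveI : Fact (Nat.Prime 2) := ⟨Nat.prime_two⟩
    have hP : IsPGroup 2 A := fun u => ⟨1, Subtype.ext (by
      rw [pow_one, pow_two]; exact hsq u u.2)⟩
    have hnc : ¬ IsCyclic A := by
      intro hcyc
      obtain ⟨g, hg⟩ := hcyc.exists_generator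
      have hmem : ∀ u ∈ A, u = 1 ∨ u = (g : G) := by
        intro u hu
        obtain ⟨k, hk⟩ := Subgroup.mem_zpowers_iff.mp (hg ⟨u, hu⟩)
        have hk' : (g : G) ^ k = u := by
          rw [← Subgroup.coe_zpow]; exact congrArg Subtype.val hk
        have hg2 : (g : G) ^ (2 : ℤ) = 1 := by rw [zpow_two]; exact hsq g g.2
        rcases Int.even_or_odd k with ⟨m, rfl⟩ | ⟨m, rfl⟩
        · left; rw [← hk', ← two_mul, zpow_mul, hg2, one_zpow]
        · right; rw [← hk', zpow_add, zpow_mul, hg2, one_zpow, one_mul, zpow_one]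
      rcases hmem x hxA with h | h
      · exact hx1 h
      rcases hmem y hyA with h' | h'
      · exact hy1 h'
      exact hxy (h.trans h'.symm)
    have hcop : (Nat.card A).Coprime (Nat.card N) := by
      obtain ⟨k, hk⟩ := IsPGroup.iff_card.mp hP
      rw [hk]
      exact (CfsgLib.Solvable.Cores.coprime_card_pPrimeCore 2).symm.pow_left k
    obtain ⟨b, hb, -⟩ := CfsgLib.RankOne.existsUnique_fix hS hx hx1
    have hfix : ∀ u ∈ A, u ≠ 1 → u • b = b := by
      intro u hu hu1
      refine CfsgLib.RankOne.fix_eq hS hx hx1 ?_ hb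
      rw [smul_smul, hcomm x hxA u hu, mul_smul, hb]
    refine htrans b N hN ?_
    rw [← CfsgLib.Coprime.iSup_centralizer_singleton (A := A) (K := N) hnc
      (by rw [Subgroup.normalizer_eq_top_iff.mpr hN]; exact le_top) hcop]
    refine iSup₂_le fun u hu n hn => ?_
    have hn2 : n * u = u * n := Subgroup.mem_centralizer_singleton_iff.mp hn.2
    exact CfsgLib.RankOne.fix_eq hS (hsq u hu.1) hu.2
      (by rw [smul_smul, ← hn2, mul_smul, hfix u hu.1 hu.2]) (hfix u hu.1 hu.2)
  · refine CfsgLib.Solvable.Cores.le_pPrimeCore ?_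
    haveI : Fact (Nat.Prime 2) := ⟨Nat.prime_two⟩
    by_contra hco
    have hd : 2 ∣ Nat.card (MulAction.stabilizer G a).normalCore := by
      by_contra h
      exact hco (((Nat.Prime.coprime_iff_not_dvd Nat.prime_two).mpr h).symm)
    obtain ⟨⟨k, hk⟩, hk2⟩ := exists_prime_orderOf_dvd_card' 2 hd
    rw [← Subgroup.orderOf_coe] at hk2
    have hkk : k * k = 1 := by rw [← pow_two, ← hk2]; exact pow_orderOf_eq_one k
    have hk1 : k ≠ 1 := fun e => by
      rw [orderOf_eq_one_iff.mpr e] at hk2; exact absurd hk2 (by norm_num)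
    have hkA := Subgroup.normalCore_le _ hk
    refine hk1 (CfsgLib.RankOne.eq_one_of_fix_ta hS (CfsgLib.RankOne.odd_mem_q hS hkA hkk) ?_)
    have := Subgroup.normalCore_le _ ((Subgroup.normalCore_normal _).conj_mem k hk t)
    have h' : (t * k * t⁻¹) • a = a := this
    rwa [CfsgLib.RankOne.t_inv hS, mul_smul, mul_smul, smul_eq_iff_eq_inv_smul, CfsgLib.RankOne.t_inv hS] at h'

end Cfsg.Agent.S1120
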