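import Cfsg.Statements.S1128
import Cfsg.Agent.Lib.RankOne.Setup

set_option autoImplicit false
open Cfsg

namespace Cfsg.Agent.S1128

/-- In the rank-one set-up (`G` finite and doubly transitive on `Ω`, `t` an involution moving `a`, `Q` normal in `G_a` with `G_a = Q D`, `Q ⊓ D = 1` for the two-point stabiliser `D = G_a ⊓ G_{t • a}`, `|Q|` even, `|D|` odd), with the action faithful and `G` containing two distinct commuting involutions: every non-identity element of `D` inverted by `t` acts fixed-point-freely on `Q`. -/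
theorem result {G Ω : Type*} [Group G] [Finite G] [MulAction G Ω] [FaithfulSMul G Ω] {a : Ω} {t : G} {Q : Subgroup G}
    (hS : Cfsg.IsRankOneSetup G Ω a t Q)
    (h2 : ∃ x y : G, x ≠ 1 ∧ y ≠ 1 ∧ x ≠ y ∧ x * x = 1 ∧ y * y = 1 ∧ x * y = y * x)
    (x : G) (hx : x ∈ Cfsg.invertedBy (MulAction.stabilizer G a ⊓ MulAction.stabilizer G (t • a)) t) (hx1 : x ≠ 1) :
    Q ⊓ Subgroup.centralizer {x} = ⊥ := by
  by_contra hne
  obtain ⟨q, hq, hq1⟩ : ∃ q ∈ Q ⊓ Subgroup.centralizer {x}, q ≠ (1 : G) := by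
    by_contra h
    push Not at h
    exact hne ((Subgroup.eq_bot_iff_forall _).mpr h)
  obtain ⟨hqQ, hqx⟩ := Subgroup.mem_inf.mp hq
  have hxa := ((CfsgLib.RankOne.mem_two hS).mp hx.1).1
  have hxt := ((CfsgLib.RankOne.mem_two hS).mp hx.1).2
  have hqa : q • a = a := hS.le hqQ
  have hqt : q • t • a ≠ t • a := fun h => hq1 (CfsgLib.RankOne.eq_one_of_fix_ta hS hqQ h)
  have hqta : q • t • a ≠ a := fun h =>
    CfsgLib.RankOne.ta_ne hS (smul_left_cancel q (h.trans hqa.symm))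
  have hqx' : q * x = x * q := Subgroup.mem_centralizer_singleton_iff.mp hqx
  obtain ⟨k, hk, hcomm⟩ := CfsgLib.RankOne.exists_conj_centralizing hS (X := {x})
    (Set.singleton_subset_iff.mpr hx.1)
    ⟨a, t • a, q • t • a, (CfsgLib.RankOne.ta_ne hS).symm, hqta.symm, hqt.symm, fun y hy => by
      rw [Set.mem_singleton_iff] at hy
      subst hy
      exact ⟨hxa, hxt, by rw [smul_smul, ← hqx', mul_smul, hxt]⟩⟩
  have hti := CfsgLib.RankOne.t_inv hS
  set x' := k * x * k⁻¹ with hx'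
  set d := k * t * k⁻¹ * t with hd
  have hdD : d ∈ CfsgLib.RankOne.two G a t := by
    have : d = k * (t * k⁻¹ * t) := by rw [hd]; group
    rw [this]; exact mul_mem hk (CfsgLib.RankOne.conj_t_mem' hS (inv_mem hk))
  have htx' : t * x' * t⁻¹ = x' := by
    rw [← hcomm x rfl, mul_inv_cancel_right]
  have hdx : d * x' * d⁻¹ = x'⁻¹ := by
    calc d * x' * d⁻¹ = k * t * k⁻¹ * (t * x' * t⁻¹) * (k * t * k⁻¹)⁻¹ := by rw [hd]; group
      _ = k * t * k⁻¹ * x' * (k * t * k⁻¹)⁻¹ := by rw [htx']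
      _ = k * (t * x * t⁻¹) * k⁻¹ := by rw [hx']; group
      _ = _ := by rw [hx.2, hx']; group
  have heven : ∀ m : ℕ, d ^ (2 * m) * x' * (d ^ (2 * m))⁻¹ = x' := by
    intro m
    induction m with
    | zero => simp
    | succ m ih =>
      calc d ^ (2 * (m + 1)) * x' * (d ^ (2 * (m + 1)))⁻¹
          = d * (d * (d ^ (2 * m) * x' * (d ^ (2 * m))⁻¹) * d⁻¹) * d⁻¹ := by
            rw [show 2 * (m + 1) = 2 * m + 1 + 1 by ring, pow_succ', pow_succ']; group
        _ = d * x'⁻¹ * d⁻¹ := by rw [ih, hdx]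
        _ = (d * x' * d⁻¹)⁻¹ := by group
        _ = x' := by rw [hdx, inv_inv]
  obtain ⟨m, hm⟩ := hS.odd_card
  have h1 := CfsgLib.RankOne.pow_card_mem hdD
  rw [hm, pow_succ'] at h1
  have h2 : x' = x'⁻¹ := by
    calc x' = d * d ^ (2 * m) * x' * (d * d ^ (2 * m))⁻¹ := by rw [h1]; group
      _ = d * (d ^ (2 * m) * x' * (d ^ (2 * m))⁻¹) * d⁻¹ := by group
      _ = _ := by rw [heven, hdx]
  have h3 : x * x = 1 := by
    have : x' * x' = 1 := by nth_rewrite 2 [h2]; exact mul_inv_cancel x'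
    calc x * x = k⁻¹ * (x' * x') * k := by rw [hx']; group
      _ = 1 := by rw [this]; group
  exact hx1 (CfsgLib.RankOne.sq_inj_of_odd hS.odd_card (CfsgLib.RankOne.pow_card_mem hx.1) (one_pow _)
    (by rw [h3, one_mul]))

end Cfsg.Agent.S1128
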