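import Cfsg.Statements.S1127
import Cfsg.Agent.Lib.RankOne.Setup

set_option autoImplicit false
open Cfsg

namespace Cfsg.Agent.S1127

/-- In the rank-one set-up (`G` finite and doubly transitive on `Ω`, `t` an involution moving `a`, `Q` normal in `G_a` with `G_a = Q D`, `Q ⊓ D = 1` for the two-point stabiliser `D = G_a ⊓ G_{t • a}`, `|Q|` even, `|D|` odd): if `s` is an involution of `G_a` and `r ∈ Q` satisfy `t s t = r⁻¹ t r`, then `C_D(t) = C_D(s)`; moreover `C_D(t) ⊓ C_D(K) = C_D(I ∩ G_a)`, where `K` is the set of elements of `D` inverted by `t` and `I ∩ G_a` the set of involutions of `G_a`. -/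
theorem result {G Ω : Type*} [Group G] [Finite G] [MulAction G Ω] {a : Ω} {t : G} {Q : Subgroup G}
    (hS : Cfsg.IsRankOneSetup G Ω a t Q) :
    (∀ s r : G, s ∈ Cfsg.involutionsIn (MulAction.stabilizer G a : Set G) → r ∈ Q → t * s * t = r⁻¹ * t * r →
        (MulAction.stabilizer G a ⊓ MulAction.stabilizer G (t • a)) ⊓ Subgroup.centralizer {t} = (MulAction.stabilizer G a ⊓ MulAction.stabilizer G (t • a)) ⊓ Subgroup.centralizer {s}) ∧
      (MulAction.stabilizer G a ⊓ MulAction.stabilizer G (t • a)) ⊓ Subgroup.centralizer {t} ⊓ Subgroup.centralizer (Cfsg.invertedBy (MulAction.stabilizer G a ⊓ MulAction.stabilizer G (t • a)) t) =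
        (MulAction.stabilizer G a ⊓ MulAction.stabilizer G (t • a)) ⊓ Subgroup.centralizer (Cfsg.involutionsIn (MulAction.stabilizer G a : Set G)) := by
  have h1 : ∀ s ∈ Cfsg.involutionsIn (MulAction.stabilizer G a : Set G), ∀ k,
      k ∈ Cfsg.invertedBy (CfsgLib.RankOne.two G a t) t → CfsgLib.RankOne.Rel Q t s k →
      ∀ d ∈ CfsgLib.RankOne.two G a t, (d * s = s * d ↔ d * (t * k) = t * k * d) :=
    fun s hs k hk hr d hd => CfsgLib.RankOne.commute_invol_iff hS hs hk hr hd
  refine ⟨fun s r hs hr he => ?_, ?_⟩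
  · have hrel : CfsgLib.RankOne.Rel Q t s 1 := ⟨r, hr, by rw [mul_one]; exact he⟩
    ext d
    simp only [Subgroup.mem_inf, Subgroup.mem_centralizer_singleton_iff]
    refine and_congr_right fun hd => ?_
    have := h1 s hs 1 (CfsgLib.RankOne.one_inverted hS) hrel d (Subgroup.mem_inf.mpr hd)
    rw [mul_one] at this
    exact this.symm
  · ext d
    simp only [Subgroup.mem_inf, Subgroup.mem_centralizer_iff, Set.mem_singleton_iff, forall_eq]
    constructor
    · rintro ⟨⟨hd, hdt⟩, hdk⟩
      refine ⟨hd, fun s hs => ?_⟩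
      obtain ⟨k, ⟨hk, hr⟩, -⟩ := CfsgLib.RankOne.existsUnique_inverted hS hs
      refine ((h1 s hs k hk hr d (Subgroup.mem_inf.mpr hd)).mpr ?_).symm
      rw [← mul_assoc, ← hdt, mul_assoc, ← hdk k hk, ← mul_assoc]
    · rintro ⟨hd, hds⟩
      have hall : ∀ k ∈ Cfsg.invertedBy (CfsgLib.RankOne.two G a t) t, d * (t * k) = t * k * d := by
        intro k hk
        obtain ⟨s, ⟨hs, hr⟩, -⟩ := CfsgLib.RankOne.existsUnique_invol hS hk
        exact (h1 s hs k hk hr d (Subgroup.mem_inf.mpr hd)).mp (hds s hs).symm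
      have hdt : d * t = t * d := by simpa using hall 1 (CfsgLib.RankOne.one_inverted hS)
      refine ⟨⟨hd, hdt.symm⟩, fun k hk => ?_⟩
      have h3 := hall k hk
      rw [← mul_assoc, hdt, mul_assoc, mul_assoc] at h3
      exact (mul_left_cancel h3).symm

end Cfsg.Agent.S1127
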