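import Cfsg.Statements.S0218
import Mathlib
-- import your own Cfsg.Agent.* helpers here

set_option autoImplicit false
open Cfsg

namespace Cfsg.Agent.S0218

/-- The generalized quaternion group of order 2^(n+3) contains exactly one element of order 2. -/
theorem result (n : ℕ) : Nat.card {x : QuaternionGroup (2 ^ (n + 1)) // orderOf x = 2} = 1 := by
  classical
  set m := 2 ^ (n + 1) with hm
  have hmpos : 0 < m := by rw [hm]; positivity
  haveI : NeZero m := ⟨hmpos.ne'⟩
  have key : ∀ x : QuaternionGroup m,
      orderOf x = 2 ↔ x = QuaternionGroup.a (m : ZMod (2 * m)) := by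
    rintro (i | i)
    · constructor
      · intro h
        rw [QuaternionGroup.orderOf_a] at h
        congr 1
        have hlt : i.val < 2 * m := ZMod.val_lt i
        have hg : Nat.gcd (2 * m) i.val = m := by
          have hdvd := Nat.gcd_dvd_left (2 * m) i.val
          have h2 := Nat.div_mul_cancel hdvd
          rw [h] at h2
          omega
        obtain ⟨j, hj⟩ : m ∣ i.val := by have e := Nat.gcd_dvd_right (2 * m) i.val; rwa [hg] at e
        rcases j with - | - | j
        · rw [mul_zero] at hj
          rw [hj, Nat.gcd_zero_right] at hg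
          omega
        · rw [← ZMod.natCast_zmod_val i, hj, zero_add, mul_one]
        · rw [hj] at hlt; nlinarith
      · intro h
        rw [h]
        refine orderOf_eq_prime ?_ ?_
        · rw [pow_two, QuaternionGroup.a_mul_a, QuaternionGroup.one_def]
          congr 1
          rw [← Nat.cast_add, ← two_mul, ZMod.natCast_self]
        · rw [QuaternionGroup.one_def]
          simp only [ne_eq, QuaternionGroup.a.injEq]
          rw [ZMod.natCast_eq_zero_iff]
          exact fun hd => by have := Nat.le_of_dvd hmpos hd; omega
    · simp [QuaternionGroup.orderOf_xa]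
  rw [Nat.card_eq_one_iff_unique]
  exact ⟨⟨fun a b => Subtype.ext (((key _).1 a.2).trans ((key _).1 b.2).symm)⟩,
    ⟨⟨_, (key _).2 rfl⟩⟩⟩

end Cfsg.Agent.S0218
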