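import Cfsg.Statements.S0255
import Cfsg.Agent.S0495
import Cfsg.Agent.Lib.Classical.SLBasic
import Cfsg.Agent.Lib.Classical.SLOrders

set_option autoImplicit false
open Cfsg

namespace Cfsg.Agent.S0255

theorem card168 {K : Type*} [Field K] [Fintype K] (hK : Fintype.card K = 2) :
    Nat.card (Matrix.ProjectiveSpecialLinearGroup (Fin 3) K) = 168 := by
  have h := CfsgLib.Classical.card_psl_mul hK 3 (by norm_num)
  have h2 := CfsgLib.Classical.card_sl_mul hK 3 (by norm_num)
  norm_num [Fin.prod_univ_three] at h h2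
  omega

/-- PSL_2(7) is isomorphic to PSL_3(2). -/
theorem result {F K : Type*} [Field F] [Fintype F] [Field K] [Fintype K] (hF : Fintype.card F = 7) (hK : Fintype.card K = 2) : Nonempty (Matrix.ProjectiveSpecialLinearGroup (Fin 2) F ≃* Matrix.ProjectiveSpecialLinearGroup (Fin 3) K) := by
  haveI := CfsgLib.Classical.psl_fin_isSimpleGroup (F := K) (k := 3) (by norm_num) (fun h => absurd h (by norm_num))
  obtain ⟨e⟩ := Cfsg.Agent.S0495.result (G := Matrix.ProjectiveSpecialLinearGroup (Fin 3) K) (card168 hK) hF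
  exact ⟨e.symm⟩

end Cfsg.Agent.S0255
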