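import Cfsg.Statements.S2119
import Cfsg.Agent.Lib.KnownA.AltThreeCycle

set_option autoImplicit false
open Cfsg Equiv Equiv.Perm

namespace Cfsg.Agent.S2119

open CfsgLib.KnownA.AltThreeCycle

variable {n : ℕ}

/-- A three-cycle is determined by its values at a moved point and at its image. -/
theorem eq_of_two_values {u w : Perm (Fin n)} (hu : u.IsThreeCycle) (hw : w.IsThreeCycle) {a : Fin n}
    (ha : u a ≠ a) (h1 : u a = w a) (h2 : u (u a) = w (u a)) : u = w := by
  have main : ∀ {v : Perm (Fin n)}, v.IsThreeCycle → v a = u a → v (u a) = u (u a) →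
      v (u (u a)) = a ∧ v.support = {a, u a, u (u a)} := by
    intro v hv e1 e2
    refine ⟨?_, ?_⟩
    · have := congrArg (fun σ : Perm (Fin n) => σ a) (CfsgLib.KnownA.AltThreeCycle.pow_three hv).1
      simpa [pow_succ, Perm.mul_apply, e1, e2] using this
    · have hav : v a ≠ a := by rw [e1]; exact ha
      symm
      apply Finset.eq_of_subset_of_card_le
      · simp only [Finset.insert_subset_iff, Finset.singleton_subset_iff]
        refine ⟨mem_support.2 hav, ?_, ?_⟩
        · rw [← e1]; exact apply_mem_support.2 (mem_support.2 hav)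
        · rw [← e2, ← e1]; exact apply_mem_support.2 (apply_mem_support.2 (mem_support.2 hav))
      · rw [hv.card_support]
        have h3 : u (u a) ≠ u a := fun h => ha (u.injective h)
        have h4 : u (u a) ≠ a := by
          intro h
          have := congrArg (fun σ : Perm (Fin n) => σ a) (CfsgLib.KnownA.AltThreeCycle.pow_three hu).1
          simp [pow_succ, Perm.mul_apply, h] at this
          exact ha this
        rw [Finset.card_insert_of_notMem (by simp [ha.symm, h4.symm]), Finset.card_pair h3.symm]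
  obtain ⟨u3, us⟩ := main hu rfl rfl
  obtain ⟨w3, ws⟩ := main hw h1.symm h2.symm
  ext x
  by_cases hx : x ∈ u.support
  · rw [us] at hx
    simp only [Finset.mem_insert, Finset.mem_singleton] at hx
    rcases hx with rfl | rfl | rfl
    · rw [h1]
    · rw [h2]
    · rw [u3, w3]
  · have hx' : x ∉ w.support := by rwa [ws, ← us]
    rw [notMem_support.1 hx, notMem_support.1 hx']

/-- Products of an element with a conjugate, seen on an invariant set. -/
theorem comp_via {k : ℕ} (ι : Fin k ↪ Fin n) (t : Perm (Fin n)) (t' g' : Perm (Fin k))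
    (ht : ∀ i, t (ι i) = ι (t' i)) {j : ℕ}
    (h : (t * (viaEmbeddingHom ι g' * t * (viaEmbeddingHom ι g')⁻¹)) ^ j = 1) :
    (t' * (g' * t' * g'⁻¹)) ^ j = 1 := by
  have hstep : ∀ i, (t * (viaEmbeddingHom ι g' * t * (viaEmbeddingHom ι g')⁻¹)) (ι i)
      = ι ((t' * (g' * t' * g'⁻¹)) i) := by
    intro i
    rw [← map_inv]
    simp only [Perm.mul_apply, viaEmbeddingHom_apply, viaEmbedding_apply, ht]
  have hpow : ∀ (l : ℕ) i, ((t * (viaEmbeddingHom ι g' * t * (viaEmbeddingHom ι g')⁻¹)) ^ l) (ι i)
      = ι (((t' * (g' * t' * g'⁻¹)) ^ l) i) := by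
    intro l
    induction l with
    | zero => simp
    | succ l ih =>
      intro i
      rw [pow_succ', pow_succ']
      exact (congrArg _ (ih i)).trans (hstep _)
  ext1 i
  apply ι.injective
  rw [← hpow, h]
  rfl

/-- An element of order three all whose products with conjugates have order 1, 2, 3 or 5 is a three-cycle (`n ≠ 6`). -/
theorem isThreeCycle_of_products (hn : 5 ≤ n) (h6 : n ≠ 6) {t : Perm (Fin n)} (h3 : t ^ 3 = 1) (h1 : t ≠ 1)
    (hprod : ∀ g ∈ alternatingGroup (Fin n),
      (t * (g * t * g⁻¹)) ^ 2 = 1 ∨ (t * (g * t * g⁻¹)) ^ 3 = 1 ∨ (t * (g * t * g⁻¹)) ^ 5 = 1) :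
    t.IsThreeCycle := by
  obtain ⟨a, ha⟩ : ∃ a, t a ≠ a := by
    by_contra h; push Not at h; exact h1 (Equiv.ext h)
  have hcube : ∀ x, t (t (t x)) = x := fun x => by
    have := congrArg (fun σ : Perm (Fin n) => σ x) h3
    simpa [pow_succ, Perm.mul_apply] using this
  have hdist : ∀ x, t x ≠ x → t (t x) ≠ x ∧ t (t x) ≠ t x := fun x hx =>
    ⟨fun h => hx (by have := hcube x; rw [h] at this; exact this), fun h => hx (t.injective h)⟩
  by_contra hnot
  obtain ⟨b, hb, hba⟩ : ∃ b, t b ≠ b ∧ b ∉ ({a, t a, t (t a)} : Finset (Fin n)) := by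
    by_contra h
    push Not at h
    apply hnot
    rw [← card_support_eq_three_iff]
    refine le_antisymm ?_ ?_
    · exact (Finset.card_le_card fun x hx => h x (mem_support.1 hx)).trans Finset.card_le_three
    · have hs : ({a, t a, t (t a)} : Finset (Fin n)) ⊆ t.support := by
        simp only [Finset.insert_subset_iff, Finset.singleton_subset_iff]
        exact ⟨mem_support.2 ha, apply_mem_support.2 (mem_support.2 ha),
          apply_mem_support.2 (apply_mem_support.2 (mem_support.2 ha))⟩
      have := Finset.card_le_card hs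
      obtain ⟨d1, d2⟩ := hdist a ha
      rwa [Finset.card_insert_of_notMem (by simp [ha.symm, d1.symm]), Finset.card_pair d2.symm] at this
  simp only [Finset.mem_insert, Finset.mem_singleton, not_or] at hba
  obtain ⟨hb1, hb2, hb3⟩ := hba
  obtain ⟨a1, a2⟩ := hdist a ha
  obtain ⟨b1, b2⟩ := hdist b hb
  have horb : ∀ x y, (x = y ∨ x = t y ∨ x = t (t y)) → (t x = y ∨ t x = t y ∨ t x = t (t y)) := by
    rintro x y (rfl | rfl | rfl)
    · exact Or.inr (Or.inl rfl)
    · exact Or.inr (Or.inr rfl)
    · exact Or.inl (hcube y)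
  have hne : ∀ {x y}, x ≠ y → x ≠ t y → x ≠ t (t y) → t x ≠ y ∧ t x ≠ t y ∧ t x ≠ t (t y) ∧
      t (t x) ≠ y ∧ t (t x) ≠ t y ∧ t (t x) ≠ t (t y) := by
    intro x y e1 e2 e3
    refine ⟨fun h => e3 ?_, fun h => e1 (t.injective h), fun h => e2 (t.injective h), fun h => e2 ?_,
      fun h => e3 ?_, fun h => e1 (t.injective (t.injective h))⟩
    · have := congrArg (fun z => t (t z)) h; simpa [hcube] using this
    · have := congrArg t h; simpa [hcube] using this
    · have := congrArg (fun z => t z) h; simpa [hcube] using this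
  obtain ⟨c1, c2, c3, c4, c5, c6⟩ := hne hb1 hb2 hb3
  by_cases hfix : ∃ c, t c = c
  · obtain ⟨c, hc⟩ := hfix
    have hcm : ∀ x, t x ≠ x → c ≠ x := fun x hx e => hx (e ▸ hc)
    have hta : t (t a) ≠ t a := a2
    have htta : t (t (t a)) ≠ t (t a) := fun h => a2 (t.injective h)
    have httb : t (t (t b)) ≠ t (t b) := fun h => b2 (t.injective h)
    let f : Fin 7 → Fin n := ![a, t a, t (t a), b, t b, t (t b), c]
    have hf : Function.Injective f := by
      intro i j hij
      have k1 := hcm a ha; have k2 := hcm _ a2; have k3 := hcm _ htta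
      have k4 := hcm b hb; have k5 := hcm _ b2; have k6 := hcm _ httb
      fin_cases i <;> fin_cases j <;> first | rfl | (exfalso; simp [f] at hij; have := hij.symm; contradiction)
    let t' : Perm (Fin 7) := swap 0 1 * swap 1 2 * (swap 3 4 * swap 4 5)
    have ht : ∀ i, t (f i) = f (t' i) := by
      intro i
      fin_cases i <;> simp [f, t', Equiv.swap_apply_def, hcube, hc]
    let g' : Perm (Fin 7) := swap 0 3 * swap 3 6
    have hg : Perm.sign g' = 1 := by simp [g']
    have hg' : viaEmbeddingHom ⟨f, hf⟩ g' ∈ alternatingGroup (Fin n) := by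
      rw [mem_alternatingGroup, viaEmbeddingHom_apply]
      simp only [Perm.viaEmbedding, Perm.sign_extendDomain]
      exact hg
    have key : ∀ j, (j = 2 ∨ j = 3 ∨ j = 5) → (t' * (g' * t' * g'⁻¹)) ^ j ≠ 1 := by
      rintro j (rfl | rfl | rfl) <;> decide +kernel
    rcases hprod _ hg' with h | h | h
    · exact key 2 (by norm_num) (comp_via ⟨f, hf⟩ t t' g' ht h)
    · exact key 3 (by norm_num) (comp_via ⟨f, hf⟩ t t' g' ht h)
    · exact key 5 (by norm_num) (comp_via ⟨f, hf⟩ t t' g' ht h)
  · push Not at hfix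
    obtain ⟨c, hc⟩ : ∃ c, c ∉ ({a, t a, t (t a), b, t b, t (t b)} : Finset (Fin n)) := by
      by_contra h
      push Not at h
      have := Finset.card_le_card (s := Finset.univ) fun x _ => h x
      rw [Finset.card_univ, Fintype.card_fin] at this
      have := this.trans Finset.card_le_six
      omega
    simp only [Finset.mem_insert, Finset.mem_singleton, not_or] at hc
    obtain ⟨q1, q2, q3, q4, q5, q6⟩ := hc
    obtain ⟨d1, d2⟩ := hdist c (hfix c)
    obtain ⟨r1, r2, r3, r4, r5, r6⟩ := hne q1 q2 q3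
    obtain ⟨s1, s2, s3, s4, s5, s6⟩ := hne q4 q5 q6
    have := hfix c
    let f : Fin 9 → Fin n := ![a, t a, t (t a), b, t b, t (t b), c, t c, t (t c)]
    have hf : Function.Injective f := by
      intro i j hij
      fin_cases i <;> fin_cases j <;> first | rfl | (exfalso; simp [f] at hij; have := hij.symm; contradiction)
    let t' : Perm (Fin 9) := swap 0 1 * swap 1 2 * (swap 3 4 * swap 4 5) * (swap 6 7 * swap 7 8)
    have ht : ∀ i, t (f i) = f (t' i) := by
      intro i
      fin_cases i <;> simp [f, t', Equiv.swap_apply_def, hcube]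
    let g' : Perm (Fin 9) := swap 0 1 * swap 1 3
    have hg : Perm.sign g' = 1 := by simp [g']
    have hg' : viaEmbeddingHom ⟨f, hf⟩ g' ∈ alternatingGroup (Fin n) := by
      rw [mem_alternatingGroup, viaEmbeddingHom_apply]
      simp only [Perm.viaEmbedding, Perm.sign_extendDomain]
      exact hg
    have key : ∀ j, (j = 2 ∨ j = 3 ∨ j = 5) → (t' * (g' * t' * g'⁻¹)) ^ j ≠ 1 := by
      rintro j (rfl | rfl | rfl) <;> decide +kernel
    rcases hprod _ hg' with h | h | h
    · exact key 2 (by norm_num) (comp_via ⟨f, hf⟩ t t' g' ht h)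
    · exact key 3 (by norm_num) (comp_via ⟨f, hf⟩ t t' g' ht h)
    · exact key 5 (by norm_num) (comp_via ⟨f, hf⟩ t t' g' ht h)

/-- Automorphisms of `A_n` preserve three-cycles for `n ≠ 6`. -/
theorem map_threeCycle (hn : 4 ≤ n) (h6 : n ≠ 6) (φ : MulAut ↥(alternatingGroup (Fin n)))
    {u : ↥(alternatingGroup (Fin n))} (hu : (u : Perm (Fin n)).IsThreeCycle) :
    ((φ u : ↥(alternatingGroup (Fin n))) : Perm (Fin n)).IsThreeCycle := by
  have hp : u ^ 3 = 1 := Subtype.ext (CfsgLib.KnownA.AltThreeCycle.pow_three hu).1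
  have h1 : φ u ^ 3 = 1 := by rw [← map_pow, hp, map_one]
  have h2 : ((φ u : ↥(alternatingGroup (Fin n))) : Perm (Fin n)) ≠ 1 := by
    intro h
    exact hu.ne_one (congrArg Subtype.val (φ.injective ((Subtype.ext h : φ u = 1).trans (map_one φ).symm)))
  rcases Nat.lt_or_ge n 5 with hn5 | hn5
  · exact (isThreeCycle_iff_of_le_five (by omega) _).2 ⟨congrArg Subtype.val h1, h2⟩
  refine isThreeCycle_of_products hn5 h6 (congrArg Subtype.val h1) h2 fun g hg => ?_
  have h5 : 5 ≤ Fintype.card (Fin n) := by simpa using hn5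
  set v := φ.symm ⟨g, hg⟩ with hv
  have hconj : ((v * u * v⁻¹ : ↥(alternatingGroup (Fin n))) : Perm (Fin n)).IsThreeCycle := by
    simp only [Subgroup.coe_mul, InvMemClass.coe_inv]
    unfold Perm.IsThreeCycle
    rw [cycleType_conj]; exact hu
  have hk : ∀ j : ℕ, ((u : Perm (Fin n)) * ((v : Perm (Fin n)) * u * (v : Perm (Fin n))⁻¹)) ^ j = 1 →
      (((φ u : ↥(alternatingGroup (Fin n))) : Perm (Fin n)) * (g * (φ u : ↥(alternatingGroup (Fin n))) * g⁻¹)) ^ j = 1 := by
    intro j hj
    have h := congrArg φ (Subtype.ext hj : (u * (v * u * v⁻¹)) ^ j = 1)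
    rw [map_pow, map_mul, map_mul, map_mul, map_inv, map_one, hv, MulEquiv.apply_symm_apply] at h
    exact congrArg Subtype.val h
  rcases order_mul_three_cycles h5 hu (by simpa using hconj) with h | h | h
  · exact Or.inl (hk 2 h)
  · exact Or.inr (Or.inl (hk 3 h))
  · exact Or.inr (Or.inr (hk 5 h))

/-- The star three-cycles through two fixed points generate the alternating group. -/
theorem star_generate {p q : Fin n} (hpq : p ≠ q) (H : Subgroup (Perm (Fin n))) (hle : H ≤ alternatingGroup (Fin n))
    (hH : ∀ i, i ≠ p → i ≠ q → swap q p * swap q i ∈ H) : alternatingGroup (Fin n) ≤ H := by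
  have hst : ∀ i, i ≠ q → swap q p * swap q i ∈ H := by
    intro i hiq
    by_cases hip : i = p
    · subst hip; rw [swap_mul_self]; exact one_mem H
    · exact hH i hip hiq
  let s := swap q p
  let P : Perm (Fin n) → Prop := fun x => x ∈ H ∨ s * x ∈ H
  have hstar : ∀ i, i ≠ q → ∀ x, P x → P (swap q i * x) := by
    intro i hi x hx
    have e : (swap q p * swap q i)⁻¹ = swap q i * s := by simp [s]
    rcases hx with hx | hx
    · right; rw [← mul_assoc]; exact mul_mem (hst i hi) hx
    · left
      have := mul_mem (inv_mem (hst i hi)) hx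
      rwa [e, mul_assoc, ← mul_assoc s s x, swap_mul_self, one_mul] at this
  have hswap : ∀ x y, x ≠ y → ∀ z, P z → P (swap x y * z) := by
    intro x y hxy z hz
    by_cases hx : x = q
    · subst hx; exact hstar y hxy.symm z hz
    by_cases hy : y = q
    · subst hy; rw [swap_comm]; exact hstar x hxy z hz
    have e : swap x y = swap q x * swap q y * swap q x := by
      rw [← swap_mul_swap_mul_swap (x := y) (y := q) (z := x) hy (Ne.symm hxy)]
      simp [swap_comm]
    rw [e, mul_assoc, mul_assoc]
    exact hstar x hx _ (hstar y hy _ (hstar x hx _ hz))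
  intro g hg
  have hP : P g := by
    clear hg
    induction g using Perm.swap_induction_on with
    | one => exact Or.inl (one_mem H)
    | swap_mul f x y hxy ih => exact hswap x y hxy f ih
  rcases hP with h | h
  · exact h
  · exfalso
    have hsg := mem_alternatingGroup.1 (hle h)
    rw [map_mul, mem_alternatingGroup.1 hg, mul_one, sign_swap hpq.symm] at hsg
    exact absurd hsg (by decide)

theorem result (n : ℕ) (hn : 4 ≤ n) (h6 : n ≠ 6) : Function.Bijective (MulAut.conjNormal : Equiv.Perm (Fin n) →* MulAut ↥(alternatingGroup (Fin n))) := by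
  constructor
  · rw [injective_iff_map_eq_one]
    intro g hg
    by_contra hne
    obtain ⟨x, hx⟩ : ∃ x, g x ≠ x := by
      by_contra h; push Not at h; exact hne (Equiv.ext h)
    obtain ⟨z, hz⟩ : ∃ z, z ∉ ({x, g x} : Finset (Fin n)) := by
      by_contra h; push Not at h
      have := Finset.card_le_card (s := Finset.univ) fun y _ => h y
      rw [Finset.card_univ, Fintype.card_fin] at this
      have := this.trans Finset.card_le_two; omega
    obtain ⟨w, hw⟩ : ∃ w, w ∉ ({x, g x, z} : Finset (Fin n)) := by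
      by_contra h; push Not at h
      have := Finset.card_le_card (s := Finset.univ) fun y _ => h y
      rw [Finset.card_univ, Fintype.card_fin] at this
      have := this.trans Finset.card_le_three; omega
    simp only [Finset.mem_insert, Finset.mem_singleton, not_or] at hz hw
    have hu : (swap x z * swap x w).IsThreeCycle := isThreeCycle_swap_mul_swap_same (Ne.symm hz.1) (Ne.symm hw.1) (Ne.symm hw.2.2)
    have h := congrArg (fun e : MulAut ↥(alternatingGroup (Fin n)) => (e ⟨_, hu.mem_alternatingGroup⟩ : Perm (Fin n))) hg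
    simp only [MulAut.conjNormal_apply, MulAut.one_apply] at h
    have h2 := congrArg (fun σ : Perm (Fin n) => σ (g x)) h
    simp [swap_apply_of_ne_of_ne hx (Ne.symm hw.2.1), swap_apply_of_ne_of_ne hx (Ne.symm hz.2),
      swap_apply_of_ne_of_ne hw.1 hw.2.2] at h2
    exact hw.1 h2
  · intro φ
    let P : Fin n := ⟨0, by omega⟩
    let Q : Fin n := ⟨1, by omega⟩
    have hPQ : P ≠ Q := by simp [P, Q, Fin.ext_iff]
    let I := {i : Fin n // i ≠ P ∧ i ≠ Q}
    let u : I → ↥(alternatingGroup (Fin n)) := fun i =>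
      ⟨swap Q i.1 * swap Q P, (isThreeCycle_swap_mul_swap_same i.2.2.symm hPQ.symm i.2.1).mem_alternatingGroup⟩
    have hu3 : ∀ i, (u i : Perm (Fin n)).IsThreeCycle := fun i => isThreeCycle_swap_mul_swap_same i.2.2.symm hPQ.symm i.2.1
    have huval : ∀ i : I, (u i : Perm (Fin n)) Q = P ∧ (u i : Perm (Fin n)) P = i.1 ∧ (u i : Perm (Fin n)) i.1 = Q := by
      intro i
      obtain ⟨hiP, hiQ⟩ := i.2
      refine ⟨?_, ?_, ?_⟩ <;> simp [u, Equiv.swap_apply_def, hiP, hiQ, hPQ, hPQ.symm, hiP.symm, hiQ.symm]
    have huinj : Function.Injective u := fun i j h => Subtype.ext (by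
      rw [← (huval i).2.1, ← (huval j).2.1, h])
    have hpair : ∀ i j, i ≠ j → Pair (u i : Perm (Fin n)) (u j) := by
      intro i j hij
      obtain ⟨hiP, hiQ⟩ := i.2
      obtain ⟨hjP, hjQ⟩ := j.2
      have hij' : i.1 ≠ j.1 := fun h => hij (Subtype.ext h)
      have e : (u i : Perm (Fin n)) * u j = swap i.1 Q * swap P j.1 := by
        ext x
        simp only [u, Perm.mul_apply, Equiv.swap_apply_def]
        split_ifs <;> simp_all
      refine ⟨hu3 i, hu3 j, ?_, ?_⟩
      · rw [e, pow_two]
        have hd : Perm.Disjoint (swap i.1 Q) (swap P j.1) := by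
          intro x
          by_cases h : x = i.1 ∨ x = Q
          · right; rcases h with rfl | rfl
            · exact swap_apply_of_ne_of_ne hiP hij'
            · exact swap_apply_of_ne_of_ne hPQ.symm hjQ.symm
          · left; push Not at h; exact swap_apply_of_ne_of_ne h.1 h.2
        rw [mul_assoc, ← mul_assoc (swap P j.1), ← hd.commute.eq, mul_assoc, swap_mul_self, mul_one, swap_mul_self]
      · rw [e]
        intro h
        have := congrArg (fun σ : Perm (Fin n) => σ P) h
        simp [Equiv.swap_apply_def, hiP.symm, hjQ, hPQ, hij'.symm, hjP.symm] at this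
        exact hjP this
    let W : I → Perm (Fin n) := fun i => ((φ (u i) : ↥(alternatingGroup (Fin n))) : Perm (Fin n))
    have hW3 : ∀ i, (W i).IsThreeCycle := fun i => map_threeCycle hn h6 φ (hu3 i)
    have hWinj : Function.Injective W := fun i j h => huinj (φ.injective (Subtype.ext h))
    have hWp : ∀ i j, i ≠ j → Pair (W i) (W j) := by
      intro i j hij
      obtain ⟨-, -, h2, h1⟩ := hpair i j hij
      refine ⟨hW3 i, hW3 j, ?_, fun h => h1 ?_⟩
      · have := congrArg φ (Subtype.ext h2 : (u i * u j) ^ 2 = 1)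
        rw [map_pow, map_mul, map_one] at this
        exact congrArg Subtype.val this
      · have : φ (u i * u j) = φ 1 := by rw [map_mul, map_one]; exact Subtype.ext h
        exact congrArg Subtype.val (φ.injective this)
    let i₂ : I := ⟨⟨2, by omega⟩, by simp [P, Fin.ext_iff], by simp [Q, Fin.ext_iff]⟩
    let i₃ : I := ⟨⟨3, by omega⟩, by simp [P, Fin.ext_iff], by simp [Q, Fin.ext_iff]⟩
    have h23 : i₂ ≠ i₃ := fun h => by have := congrArg (fun i : I => i.1.val) h; simp [i₂, i₃] at this
    obtain ⟨⟨A, hA, hA'⟩, -⟩ := pair_edge hn (hWp _ _ h23)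
    set A' := W i₂ A with hA'def
    have hall : ∀ i, W i A = A' := by
      intro i
      by_cases h2 : i = i₂
      · rw [h2]
      by_cases h3 : i = i₃
      · rw [h3]; exact hA'.symm
      exact triple_edge hn (hWp _ _ h23) (hWp _ _ (Ne.symm h2)) (hWp _ _ (Ne.symm h3))
        (hWinj.ne h23) (hWinj.ne (Ne.symm h2)) (hWinj.ne (Ne.symm h3)) hA hA'
    have hmov : ∀ i, W i A ≠ A := fun i => by rw [hall i]; exact hA
    have hWcube : ∀ i, W i (W i A') = A := fun i => by
      have := congrArg (fun σ : Perm (Fin n) => σ A) (CfsgLib.KnownA.AltThreeCycle.pow_three (hW3 i)).1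
      simpa [pow_succ, Perm.mul_apply, hall i] using this
    have hE1 : ∀ i, W i A' ≠ A' := fun i h => hmov i ((W i).injective (by rw [hall i]; exact h))
    have hE2 : ∀ i, W i A' ≠ A := fun i h => by
      have := hWcube i
      rw [h, hall i] at this
      exact hA this
    let f : Fin n → Fin n := fun x => if h : x ≠ P ∧ x ≠ Q then W ⟨x, h⟩ A' else if x = Q then A else A'
    have hfI : ∀ i : I, f i.1 = W i A' := fun i => by simp [f, i.2]
    have hfP : f P = A' := by simp [f, hPQ]
    have hfQ : f Q = A := by simp [f]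
    have hinj : Function.Injective f := by
      intro x y hxy
      by_cases hx : x ≠ P ∧ x ≠ Q <;> by_cases hy : y ≠ P ∧ y ≠ Q
      · rw [show x = (⟨x, hx⟩ : I).1 from rfl, show y = (⟨y, hy⟩ : I).1 from rfl, hfI, hfI] at hxy
        have := hWinj (eq_of_two_values (hW3 ⟨x, hx⟩) (hW3 ⟨y, hy⟩) (hmov _) (by rw [hall, hall]) (by rw [hall]; exact hxy))
        exact congrArg Subtype.val this
      · rw [show x = (⟨x, hx⟩ : I).1 from rfl, hfI] at hxy
        rcases (show y = P ∨ y = Q by tauto) with rfl | rfl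
        · rw [hfP] at hxy; exact absurd hxy (hE1 _)
        · rw [hfQ] at hxy; exact absurd hxy (hE2 _)
      · rw [show y = (⟨y, hy⟩ : I).1 from rfl, hfI] at hxy
        rcases (show x = P ∨ x = Q by tauto) with rfl | rfl
        · rw [hfP] at hxy; exact absurd hxy.symm (hE1 _)
        · rw [hfQ] at hxy; exact absurd hxy.symm (hE2 _)
      · rcases (show x = P ∨ x = Q by tauto) with rfl | rfl <;> rcases (show y = P ∨ y = Q by tauto) with rfl | rfl
        · rfl
        · rw [hfP, hfQ] at hxy; exact absurd hxy hA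
        · rw [hfP, hfQ] at hxy; exact absurd hxy.symm hA
        · rfl
    let σ : Perm (Fin n) := Equiv.ofBijective f (Finite.injective_iff_bijective.1 hinj)
    have hσ : ∀ x, σ x = f x := fun x => rfl
    refine ⟨σ, ?_⟩
    have hgen : ∀ i, MulAut.conjNormal σ (u i) = φ (u i) := by
      intro i
      refine Subtype.ext ?_
      rw [MulAut.conjNormal_apply]
      have hc3 : (σ * (u i : Perm (Fin n)) * σ⁻¹).IsThreeCycle := by
        unfold Perm.IsThreeCycle; rw [cycleType_conj]; exact hu3 i
      have e1 : (σ * (u i : Perm (Fin n)) * σ⁻¹) A = A' := by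
        rw [← hfQ, ← hσ, Perm.mul_apply, Perm.mul_apply, Perm.inv_def, Equiv.symm_apply_apply, (huval i).1, hσ, hfP]
      have e2 : (σ * (u i : Perm (Fin n)) * σ⁻¹) A' = W i A' := by
        conv_lhs => rw [← hfP, ← hσ, Perm.mul_apply, Perm.mul_apply, Perm.inv_def, Equiv.symm_apply_apply, (huval i).2.1, hσ]
        exact hfI i
      exact eq_of_two_values hc3 (hW3 i) (a := A) (by rw [e1]; exact hA) (by rw [e1, hall i]) (by rw [e1]; exact e2)
    let K : Subgroup ↥(alternatingGroup (Fin n)) :=
      (MulAut.conjNormal σ : MulAut ↥(alternatingGroup (Fin n))).toMonoidHom.eqLocus φ.toMonoidHom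
    have hKtop : alternatingGroup (Fin n) ≤ K.map (alternatingGroup (Fin n)).subtype := by
      refine star_generate hPQ _ (Subgroup.map_subtype_le K) fun i hiP hiQ => ?_
      refine ⟨(u ⟨i, hiP, hiQ⟩)⁻¹, inv_mem (hgen _ : u ⟨i, hiP, hiQ⟩ ∈ K), ?_⟩
      show ((u ⟨i, hiP, hiQ⟩)⁻¹ : ↥(alternatingGroup (Fin n))).1 = _
      simp [u]
    refine MulEquiv.ext fun x => ?_
    obtain ⟨y, hy, hyx⟩ := hKtop x.2
    obtain rfl : y = x := Subtype.ext hyx
    exact hy

end Cfsg.Agent.S2119
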