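import Cfsg.Statements.S1141
import Cfsg.Agent.Lib.RankOne.UnitarySylow

set_option autoImplicit false
open Cfsg

namespace Cfsg.Agent.S1141

/-- Let `q = 2^n ≥ 4` and `|F| = q²`. A Sylow 2-subgroup `S` of `PSU₃(q)` has order `q³`, its centre has order `q`, and `S` is a Suzuki 2-group. -/
theorem result {F : Type*} [Field F] [Fintype F] {n : ℕ} (hn : 2 ≤ n)
    (hF : Fintype.card F = (2 ^ n) ^ 2) (S : Sylow 2 (Cfsg.PSU 3 F (2 ^ n))) :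
    Nat.card S = (2 ^ n) ^ 3 ∧ Nat.card (Subgroup.center ↥(S : Subgroup (Cfsg.PSU 3 F (2 ^ n)))) = 2 ^ n ∧
      Cfsg.IsSuzukiTwoGroup ↥(S : Subgroup (Cfsg.PSU 3 F (2 ^ n))) := by
  open CfsgLib.Classical CfsgLib.RankOne in
  obtain ⟨p, _⟩ := CharP.exists F
  haveI : CharP F 2 := by
    obtain ⟨k, hp, hk⟩ := FiniteField.card F p
    have h1 : p ∣ 2 := hp.dvd_of_dvd_pow (n := n * 2)
      (by rw [pow_mul, ← hF, hk]; exact dvd_pow_self p k.pos.ne')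
    exact (Nat.prime_dvd_prime_iff_eq hp Nat.prime_two).1 h1 ▸ ‹CharP F p›
  obtain ⟨σ, hσq, hσ⟩ := CfsgLib.Classical.exists_frob hF
  haveI : Fact (CfsgLib.Classical.IsConjugation σ) := ⟨hσ⟩
  haveI : Fact (Fintype.card F = (2 ^ n) ^ 2 ∧ ∀ x, σ x = x ^ (2 ^ n)) := ⟨⟨hF, hσq⟩⟩
  exact CfsgLib.RankOne.UnitarySylow.main (σ := σ) n hn rfl S

end Cfsg.Agent.S1141
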