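import Cfsg.Statements.S1312
import Cfsg.Agent.Lib.Components.MutualOvergroup
-- import your own Cfsg.Agent.* helpers here

set_option autoImplicit false
open Cfsg

namespace Cfsg.Agent.S1312

/-- Let G be a non-abelian finite simple group and M ≠ N maximal subgroups of G with F*(M) ≤ N and F*(N) ≤ M. Then there is a prime p such that F*(M) and F*(N) are both p-groups. -/
theorem result {G : Type*} [Group G] [Finite G] [IsSimpleGroup G] (hna : ¬ IsMulCommutative G) (M N : Subgroup G) (hM : IsCoatom M) (hN : IsCoatom N) (hMN : M ≠ N) (h1 : (Cfsg.generalizedFittingSubgroup ↥M).map M.subtype ≤ N) (h2 : (Cfsg.generalizedFittingSubgroup ↥N).map N.subtype ≤ M) : ∃ p : ℕ, p.Prime ∧ IsPGroup p ↥(Cfsg.generalizedFittingSubgroup ↥M) ∧ IsPGroup p ↥(Cfsg.generalizedFittingSubgroup ↥N) := by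
  open CfsgLib.Components CfsgLib.Components.Bender CfsgLib.Components.MutualOvergroup in
  exact (by
  have h : Mutual M N := ⟨isUniq_of_isCoatom hM, isUniq_of_isCoatom hN, h1, h2,
    fun e => hMN (le_antisymm e.1 e.2)⟩
  refine h.exists_prime fun hbot => hna ?_
  subst hbot
  obtain ⟨g, hg⟩ := exists_ne (1 : G)
  have htop : Subgroup.zpowers g = ⊤ :=
    hM.2 _ (bot_lt_iff_ne_bot.mpr fun e => hg (Subgroup.zpowers_eq_bot.mp e))
  exact ⟨⟨fun a b => by
    obtain ⟨i, rfl⟩ := (htop ▸ Subgroup.mem_top a : a ∈ Subgroup.zpowers g)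
    obtain ⟨j, rfl⟩ := (htop ▸ Subgroup.mem_top b : b ∈ Subgroup.zpowers g)
    exact (Commute.zpow_zpow_self g i j).eq⟩⟩)

end Cfsg.Agent.S1312
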