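import Cfsg.Statements.S3836
import Cfsg.Agent.Lib.Solvable.Cores
-- import your own Cfsg.Agent.* helpers here

set_option autoImplicit false
open Cfsg

namespace Cfsg.Agent.S3836

/-- Let G be a finite group that is p-stable in the normalizer form: for every p-subgroup Q and every x ∈ N_G(Q) with [Q, x, x] = 1, the image of x in N_G(Q)/C_G(Q) lies in O_p(N_G(Q)/C_G(Q)). Then every subgroup of G is p-stable in the same sense. -/
theorem result {G : Type*} [Group G] [Finite G] {p : ℕ} [Fact p.Prime] (hst : Cfsg.IsNormalizerPStable p G) (H : Subgroup G) : Cfsg.IsNormalizerPStable p ↥H := by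
  intro P hP g hg hcomm
  set P' := P.map H.subtype with hP'
  have hmemN : ∀ z : H, z ∈ Subgroup.normalizer (P : Set H) → (z : G) ∈ Subgroup.normalizer (P' : Set G) := by
    intro z hz
    exact Subgroup.le_normalizer_map H.subtype ⟨z, hz, rfl⟩
  have hcomm' : ⁅⁅P', Subgroup.zpowers (g : G)⁆, Subgroup.zpowers (g : G)⁆ = ⊥ := by
    have e : Subgroup.zpowers (g : G) = (Subgroup.zpowers g).map H.subtype := (MonoidHom.map_zpowers H.subtype g).symm
    rw [hP', e, ← Subgroup.map_commutator, ← Subgroup.map_commutator, hcomm, Subgroup.map_bot]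
  have hG := hst P' (hP.map H.subtype) g (hmemN g hg) hcomm'
  let ι : ↥(Subgroup.normalizer (P : Set H)) →* ↥(Subgroup.normalizer (P' : Set G)) :=
    { toFun := fun z => ⟨((z : H) : G), hmemN z z.2⟩
      map_one' := rfl
      map_mul' := fun _ _ => rfl }
  set CH := (Subgroup.centralizer (P : Set H)).subgroupOf (Subgroup.normalizer (P : Set H)) with hCH
  set CG := (Subgroup.centralizer (P' : Set G)).subgroupOf (Subgroup.normalizer (P' : Set G)) with hCG
  have hker : CH = ((QuotientGroup.mk' CG).comp ι).ker := by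
    rw [← MonoidHom.comap_ker, QuotientGroup.ker_mk']
    ext z
    simp only [hCH, hCG, Subgroup.mem_comap, Subgroup.mem_subgroupOf, Subgroup.mem_centralizer_iff]
    constructor
    · rintro h _ ⟨w, hw, rfl⟩
      exact congrArg Subtype.val (h w hw)
    · intro h w hw
      exact Subtype.ext (h _ ⟨w, hw, rfl⟩)
  let f : ↥(Subgroup.normalizer (P : Set H)) ⧸ CH →* ↥(Subgroup.normalizer (P' : Set G)) ⧸ CG :=
    QuotientGroup.lift CH ((QuotientGroup.mk' CG).comp ι) hker.le
  have hf : Function.Injective f := by
    rw [injective_iff_map_eq_one]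
    intro q hq
    obtain ⟨z, rfl⟩ := QuotientGroup.mk_surjective q
    rw [QuotientGroup.eq_one_iff, hker]
    exact hq
  have hp : IsPGroup p ((Cfsg.pCore p _).comap f) :=
    (CfsgLib.Solvable.Cores.isPGroup_pCore p).comap_of_injective f hf
  exact CfsgLib.Solvable.Cores.le_pCore hp (show QuotientGroup.mk _ ∈ (Cfsg.pCore p _).comap f from hG)

end Cfsg.Agent.S3836
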