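import Cfsg.Statements.S2758
import Cfsg.Agent.Lib.LocalEven.InvolvesDihedral

set_option autoImplicit false
open Cfsg

namespace Cfsg.Agent.S2758

theorem exists_inverted_of_normalizes {G : Type*} [Group G] [Finite G] {p : ℕ} [Fact p.Prime] (hp : p ≠ 2)
    {P : Subgroup G} (hP : IsPGroup p P) (k : ℕ) {x : G} (hk : x ^ 2 ^ k = 1)
    (hn : x ∈ Subgroup.normalizer (P : Set G)) (hc : x ∉ Subgroup.centralizer (P : Set G)) :
    ∃ z y : G, z ∈ Subgroup.zpowers x ∧ y ∈ P ∧ y ≠ 1 ∧ z * y * z⁻¹ = y⁻¹ := by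
  induction k generalizing x with
  | zero => exact absurd (by rw [pow_zero, pow_one] at hk; rw [hk]; exact one_mem _) hc
  | succ k ih =>
    by_cases h2 : x ^ 2 ∈ Subgroup.centralizer (P : Set G)
    · obtain ⟨a, ha, hax⟩ : ∃ a ∈ P, a * x ≠ x * a := by
        by_contra h
        exact hc (Subgroup.mem_centralizer_iff.2 fun a ha => by by_contra h'; exact h ⟨a, ha, h'⟩)
      have h := Subgroup.mem_centralizer_iff.1 h2 a ha
      refine ⟨x, x * a * x⁻¹ * a⁻¹, Subgroup.mem_zpowers x,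
        mul_mem ((Subgroup.mem_normalizer_iff.1 hn a).1 ha) (inv_mem ha), fun h1 => hax ?_, ?_⟩
      · calc a * x = (x * a * x⁻¹ * a⁻¹)⁻¹ * x * a := by group
          _ = x * a := by rw [h1]; group
      · have h' : x * x * a * x⁻¹ * x⁻¹ = a := by
          rw [← pow_two, ← h, pow_two]; group
        calc x * (x * a * x⁻¹ * a⁻¹) * x⁻¹ = (x * x * a * x⁻¹ * x⁻¹) * (x * a * x⁻¹)⁻¹ := by group
          _ = (x * a * x⁻¹ * a⁻¹)⁻¹ := by rw [h']; group
    · obtain ⟨z, y, hz, r⟩ := ih (x := x ^ 2) (by rw [← pow_mul, ← pow_succ']; exact hk) (pow_mem hn 2) h2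
      exact ⟨z, y, Subgroup.zpowers_le.2 (pow_mem (Subgroup.mem_zpowers x) 2) hz, r⟩

/-- For an odd prime p and a finite group G the following are equivalent: the dihedral group of order 2p is involved in G; some element of 2-power order normalizes but does not centralize some p-subgroup of G; some element of 2-power order inverts some nonidentity element of p-power order. -/
theorem result {G : Type*} [Group G] [Finite G] {p : ℕ} [Fact p.Prime] (hp : p ≠ 2) : (Cfsg.Involves (DihedralGroup p) G ↔ ∃ (x : G) (P : Subgroup G), (∃ k : ℕ, orderOf x = 2 ^ k) ∧ IsPGroup p ↥P ∧ x ∈ Subgroup.normalizer (P : Set G) ∧ x ∉ Subgroup.centralizer (P : Set G)) ∧ (Cfsg.Involves (DihedralGroup p) G ↔ ∃ x y : G, (∃ k : ℕ, orderOf x = 2 ^ k) ∧ (∃ k : ℕ, orderOf y = p ^ k) ∧ y ≠ 1 ∧ x * y * x⁻¹ = y⁻¹) := by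
  have h13 : Cfsg.Involves (DihedralGroup p) G →
      ∃ x y : G, (∃ k : ℕ, orderOf x = 2 ^ k) ∧ (∃ k : ℕ, orderOf y = p ^ k) ∧ y ≠ 1 ∧ x * y * x⁻¹ = y⁻¹ := by
    intro h
    obtain ⟨K, f, hf⟩ := CfsgLib.LocalEven.InvolvesDihedral.exists_surjective h
    obtain ⟨x, y, hx, hy, ⟨i, hi, hfy⟩, -, hxy⟩ := CfsgLib.LocalEven.InvolvesDihedral.exists_inverted hp f hf
    refine ⟨x, y, (by simpa [Subgroup.orderOf_coe] using hx), (by simpa [Subgroup.orderOf_coe] using hy), fun h1 => hi ?_, congrArg Subtype.val hxy⟩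
    rw [show y = 1 from Subtype.ext h1, map_one, DihedralGroup.one_def] at hfy
    exact (DihedralGroup.r.inj hfy).symm
  have h31 : (∃ x y : G, (∃ k : ℕ, orderOf x = 2 ^ k) ∧ (∃ k : ℕ, orderOf y = p ^ k) ∧ y ≠ 1 ∧ x * y * x⁻¹ = y⁻¹) →
      Cfsg.Involves (DihedralGroup p) G := fun ⟨x, y, hx, hy, h1, h⟩ =>
    CfsgLib.LocalEven.InvolvesDihedral.involves_of_inverted hp hx hy h1 h
  refine ⟨⟨fun h => ?_, fun h => h31 ?_⟩, h13, h31⟩
  · obtain ⟨x, y, hx, ⟨k, hk⟩, hy1, hxy⟩ := h13 h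
    refine ⟨x, Subgroup.zpowers y, hx, IsPGroup.of_card (n := k) (by rw [Nat.card_zpowers, hk]), ?_, fun hc => ?_⟩
    · refine Subgroup.mem_normalizer_fintype (fun a ha => ?_)
      obtain ⟨e, rfl⟩ := ha
      exact ⟨-e, (CfsgLib.Involution.Dihedral.conj_zpow hxy e).symm⟩
    · have h1 := Subgroup.mem_centralizer_iff.1 hc y (Subgroup.mem_zpowers y)
      have h2 : y = y⁻¹ := by rw [← hxy, ← h1, mul_inv_cancel_right]
      have h3 := orderOf_dvd_of_pow_eq_one (show y ^ 2 = 1 by rw [pow_two]; exact mul_eq_one_iff_eq_inv.2 h2)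
      rw [hk] at h3
      rcases Nat.eq_zero_or_pos k with rfl | hk0
      · exact hy1 (orderOf_eq_one_iff.1 (by rw [hk, pow_zero]))
      · exact hp ((Nat.prime_dvd_prime_iff_eq Fact.out Nat.prime_two).1 (Nat.dvd_trans (dvd_pow_self p hk0.ne') h3))
  · obtain ⟨x, P, ⟨k, hk⟩, hP, hn, hc⟩ := h
    obtain ⟨z, y, hz, hy, hy1, hzy⟩ := exists_inverted_of_normalizes hp hP k (hk ▸ pow_orderOf_eq_one x) hn hc
    obtain ⟨j, -, hj⟩ := (Nat.dvd_prime_pow Nat.prime_two).1 (hk ▸ orderOf_dvd_of_mem_zpowers hz : orderOf z ∣ 2 ^ k)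
    obtain ⟨e, he⟩ := IsPGroup.iff_orderOf.1 hP ⟨y, hy⟩
    exact ⟨z, y, ⟨j, hj⟩, ⟨e, by rwa [Subgroup.orderOf_mk] at he⟩, hy1, hzy⟩

end Cfsg.Agent.S2758
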