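import Cfsg.Statements.S0075
import Cfsg.Agent.Lib.Fusion.Abelian

set_option autoImplicit false
open Cfsg
open scoped commutatorElement

namespace Cfsg.Agent.S0075

/-- For an abelian Sylow p-subgroup T, its intersection with the subgroup generated by the elements of order prime to p is the commutator of T with its normalizer. -/
theorem result {G : Type*} [Group G] [Finite G] {p : ℕ} [Fact p.Prime] (T : Sylow p G) (hT : IsMulCommutative T) : (T : Subgroup G) ⊓ Cfsg.pResidual p G = ⁅(T : Subgroup G), Subgroup.normalizer (T : Set G)⁆ := by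
  refine le_antisymm ?_ (le_inf ?_ ?_)
  · -- `T ∩ O^p(G)` is in the focal subgroup
    rintro x ⟨hxT, hxO⟩
    have h1 : x ∈ (T : Subgroup G).focalSubgroup := by
      rw [← Subgroup.ker_transferFocal_inf_eq_focalSubgroup T]
      exact ⟨CfsgLib.Fusion.Basic.pResidual_le_ker _ (T.2.to_quotient _) hxO, hxT⟩
    rw [CfsgLib.Fusion.Transfer.focalSubgroup_eq_of_controls Subgroup.le_normalizer
      (CfsgLib.Fusion.Transfer.controls_normalizer_of_comm T hT)] at h1
    refine (?_ : _ ≤ (⁅(T : Subgroup G), Subgroup.normalizer (T : Set G)⁆ : Subgroup G)) h1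
    rw [Subgroup.map_le_iff_le_comap, Subgroup.focalSubgroup_def, Subgroup.closure_le]
    rintro _ ⟨-, a, ha, u, rfl⟩
    exact Subgroup.commutator_mem_commutator ha u.2
  · rw [Subgroup.commutator_le]
    intro a ha u hu
    rw [commutatorElement_def, mul_assoc, mul_assoc]
    exact mul_mem ha (by rw [← mul_assoc]; exact (Subgroup.mem_normalizer_iff.mp hu a⁻¹).mp (inv_mem ha))
  · rw [Subgroup.commutator_le]
    intro a ha u hu
    obtain ⟨w, hw, t, ht, rfl⟩ := CfsgLib.Fusion.Basic.exists_eq_pResidual_mul T u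
    have hc : t * a⁻¹ = a⁻¹ * t := congrArg Subtype.val (hT.is_comm.comm ⟨t, ht⟩ ⟨a⁻¹, inv_mem ha⟩)
    have h : (⁅a, w * t⁆ : G) = a * w * a⁻¹ * w⁻¹ := by
      calc (⁅a, w * t⁆ : G) = a * w * (t * a⁻¹) * t⁻¹ * w⁻¹ := by rw [commutatorElement_def]; group
        _ = _ := by rw [hc]; group
    rw [h]
    exact mul_mem (CfsgLib.Fusion.Basic.pResidual_normal.conj_mem w hw a) (inv_mem hw)


end Cfsg.Agent.S0075
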