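import Cfsg.Statements.S0804
import Cfsg.Agent.Lib.Classical.Quat.Subfields
import Cfsg.Agent.Lib.KnownC.OrthTools

set_option autoImplicit false
open Cfsg

namespace Cfsg.Agent.S0804

/-- PSL_2(q) has a subgroup isomorphic to A_5 iff 5 ∣ q(q² − 1). -/
theorem result {F : Type*} [Field F] [Fintype F] {q : ℕ} (hF : Fintype.card F = q) : (∃ H : Subgroup (Matrix.ProjectiveSpecialLinearGroup (Fin 2) F), Nonempty (H ≃* alternatingGroup (Fin 5))) ↔ 5 ∣ q * (q ^ 2 - 1) := by
  classical
  subst hF
  set q := Fintype.card F with hq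
  have hq1 : 1 < q := Fintype.one_lt_card
  have e2 : q ^ 2 - 1 = (q - 1) * (q + 1) := by
    obtain ⟨r, hr⟩ : ∃ r, q = r + 1 := ⟨q - 1, by omega⟩
    rw [hr]
    simp
    ring_nf
    omega
  constructor
  · rintro ⟨H, ⟨e⟩⟩
    have h := (Subgroup.card_subgroup_dvd_card H).trans
      (Subgroup.card_quotient_dvd_card (Subgroup.center (Matrix.SpecialLinearGroup (Fin 2) F)))
    rw [Nat.card_congr e.toEquiv, nat_card_alternatingGroup, Nat.card_fin, CfsgLib.Classical.card_sl2', ← e2] at h
    exact (show 5 ∣ Nat.factorial 5 / 2 by norm_num [Nat.factorial]).trans h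
  · intro h
    obtain ⟨p, hp'⟩ := CharP.exists F
    obtain ⟨f, hp, hqp⟩ := FiniteField.card F p
    haveI : Fact p.Prime := ⟨hp⟩
    by_cases hp2 : p = 2
    · subst hp2
      rcases Nat.even_or_odd (f : ℕ) with ⟨k, hk⟩ | ⟨k, hk⟩
      · have hk1 : 1 ≤ k := by have := f.pos; omega
        obtain ⟨φ, hφ⟩ := CfsgLib.Classical.Quat.exists_a5_of_card_four_pow (F := F) hk1 (by
          rw [hqp, hk, show (4 : ℕ) = 2 ^ 2 by norm_num, ← pow_mul]; ring_nf)
        exact ⟨φ.range, ⟨(MonoidHom.ofInjective hφ).symm⟩⟩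
      · exfalso
        rw [hq] at h
        rw [hqp, hk, pow_succ, pow_mul, show (2 : ℕ) ^ 2 = 4 by norm_num] at h
        have h4 : 4 ^ k % 5 = 1 ∨ 4 ^ k % 5 = 4 := by
          clear hk hqp h
          induction k with
          | zero => simp
          | succ k ih =>
            rw [pow_succ, Nat.mul_mod]
            rcases ih with e | e <;> rw [e] <;> norm_num
        have hge : 1 ≤ 4 ^ k := Nat.one_le_pow _ _ (by norm_num)
        have hsq : ((4 ^ k * 2) ^ 2 - 1) % 5 = 3 := by
          have : (4 ^ k * 2) ^ 2 % 5 = 4 := by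
            rw [Nat.pow_mod, Nat.mul_mod]
            rcases h4 with e | e <;> rw [e] <;> norm_num
          have : 1 ≤ (4 ^ k * 2) ^ 2 := Nat.one_le_pow _ _ (by omega)
          omega
        have h5 := (Nat.Prime.dvd_mul (by norm_num)).1 h
        rcases h5 with e | e <;> omega
    · have hodd : Odd q := by
        show Odd (Fintype.card F)
        rw [hqp]; exact (hp.odd_of_ne_two hp2).pow
      have h2 : (2 : F) ≠ 0 := CfsgLib.KnownC.OrthTools.two_ne_zero_of_odd rfl hodd
      have hs : ∃ r : F, r * r = 5 := by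
        by_cases h5 : (5 : F) = 0
        · exact ⟨0, by simp [h5]⟩
        haveI : Fact (Nat.Prime 5) := ⟨by norm_num⟩
        have hnd : ¬ 5 ∣ q := by
          intro hd
          rw [hq, hqp] at hd
          have : p = 5 := ((Nat.prime_dvd_prime_iff_eq (by norm_num) hp).1 ((by norm_num : Nat.Prime 5).dvd_of_dvd_pow hd)).symm
          subst this
          exact h5 (by exact_mod_cast CharP.cast_eq_zero F 5)
        have hd := ((Nat.Prime.dvd_mul (by norm_num)).1 h).resolve_left hnd
        have hm : ((q : ZMod 5)) ^ 2 = 1 := by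
          have := (CharP.cast_eq_zero_iff (ZMod 5) 5 _).2 hd
          rw [Nat.cast_sub (Nat.one_le_pow _ _ (by omega)), Nat.cast_pow, Nat.cast_one, sub_eq_zero] at this
          exact this
        obtain ⟨r, hr⟩ : IsSquare (5 : F) := by
          rw [show (5 : F) = ((5 : ℕ) : F) from Nat.cast_ofNat.symm]
          refine (FiniteField.isSquare_odd_prime_iff (F := F) (fun e => h2 (by
            haveI := ringChar.of_eq e
            exact CharTwo.two_eq_zero)) (p := 5) (by norm_num)).2 ?_
          have h4 : (ZMod.χ₄ (q : ZMod 4) : ℤ) = 1 ∨ (ZMod.χ₄ (q : ZMod 4) : ℤ) = -1 :=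
            (ZMod.χ₄_eq_neg_one_pow (Nat.odd_iff.1 hodd)).symm ▸ neg_one_pow_eq_or ℤ _
          rw [← hq]
          have hcases : (q : ZMod 5) = 1 ∨ (q : ZMod 5) = -1 := sq_eq_one_iff.1 hm
          refine CfsgLib.Classical.Quat.quadraticChar_five _ ?_
          rcases h4 with e | e <;> rcases hcases with e' | e' <;> simp [e, e']
        exact ⟨r, hr.symm⟩
      obtain ⟨r, hr⟩ := hs
      obtain ⟨X, Y, hXY⟩ := CfsgLib.Classical.Quat.exists_pair h2
      obtain ⟨φ, hφ, -⟩ := CfsgLib.Classical.Quat.tableA5.exists_hom (Zsqrtd.lift ⟨r, by simpa using hr⟩) h2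
        (CfsgLib.Classical.Quat.four_ne_zero' h2).2 hXY
      exact ⟨φ.range, ⟨(MonoidHom.ofInjective hφ).symm⟩⟩

end Cfsg.Agent.S0804
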