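import Cfsg.Statements.S3305
import Mathlib

set_option autoImplicit false
open Cfsg

namespace Cfsg.Agent.S3305

/-- If any two distinct Sylow 2-subgroups of the finite group G intersect in a cyclic group, then the same holds in every quotient group G/H, H a normal subgroup of G. -/
theorem result {G : Type*} [Group G] [Finite G]
    (hC : ∀ S T : Sylow 2 G, S ≠ T → IsCyclic ↥((S : Subgroup G) ⊓ (T : Subgroup G))) (H : Subgroup G) [H.Normal] :
    ∀ S T : Sylow 2 (G ⧸ H), S ≠ T → IsCyclic ↥((S : Subgroup (G ⧸ H)) ⊓ (T : Subgroup (G ⧸ H))) := by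
  intro S T hST
  set f := QuotientGroup.mk' H with hf
  have hs : Function.Surjective f := QuotientGroup.mk'_surjective H
  have key : ∀ (A : Subgroup G) (B : Subgroup (G ⧸ H)), A = B.comap f → IsPGroup 2 ↥B → ∀ R : Sylow 2 ↥A,
      ((R : Subgroup ↥A).map A.subtype).map f = B := by
    intro A B hAB hB R
    let r : ↥A →* ↥B := (f.comp A.subtype).codRestrict B fun a => by
      have : (a : G) ∈ B.comap f := hAB ▸ a.2
      exact this
    have hr : Function.Surjective r := by
      rintro ⟨b, hb⟩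
      obtain ⟨g, rfl⟩ := hs b
      exact ⟨⟨g, hAB.symm ▸ hb⟩, rfl⟩
    have h := IsPGroup.iff_card.mp hB
    have e : (R.mapSurjective hr : Subgroup ↥B) = ⊤ := by
      apply Subgroup.eq_top_of_card_eq
      obtain ⟨n, hn⟩ := h
      rw [Sylow.card_eq_multiplicity, hn, Nat.Prime.factorization_pow Nat.prime_two, Finsupp.single_eq_same]
    have e2 : ((R.mapSurjective hr : Subgroup ↥B)).map B.subtype = B := by
      rw [e, ← MonoidHom.range_eq_map, Subgroup.range_subtype]
    rw [Sylow.coe_mapSurjective, Subgroup.map_map] at e2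
    rw [Subgroup.map_map]
    exact e2
  set A := ((S : Subgroup (G ⧸ H)) ⊓ (T : Subgroup (G ⧸ H))).comap f with hA
  obtain ⟨R⟩ : Nonempty (Sylow 2 ↥A) := inferInstance
  have hR := key A _ hA (S.2.to_le inf_le_left) R
  have ext : ∀ U : Sylow 2 (G ⧸ H), A ≤ (U : Subgroup (G ⧸ H)).comap f → ∃ P : Sylow 2 G,
      (R : Subgroup ↥A).map A.subtype ≤ (P : Subgroup G) ∧ (P : Subgroup G).map f = (U : Subgroup (G ⧸ H)) := by
    intro U hAU
    set X := (U : Subgroup (G ⧸ H)).comap f with hX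
    have hRX : ((R : Subgroup ↥A).map A.subtype) ≤ X := (Subgroup.map_subtype_le _).trans hAU
    have hRp : IsPGroup 2 ↥((R : Subgroup ↥A).map A.subtype) := R.2.map _
    obtain ⟨Q, hQ⟩ := (hRp.comap_of_injective X.subtype X.subtype_injective).exists_le_sylow
    have hQU := key X _ hX U.2 Q
    obtain ⟨P, hP⟩ := (Q.2.map X.subtype).exists_le_sylow
    refine ⟨P, fun g hg => hP ?_, ?_⟩
    · exact ⟨⟨g, hRX hg⟩, hQ hg, rfl⟩
    · exact U.3 (P.2.map f) (hQU ▸ Subgroup.map_mono hP)
  obtain ⟨P₁, hRP₁, hP₁⟩ := ext S (Subgroup.comap_mono inf_le_left)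
  obtain ⟨P₂, hRP₂, hP₂⟩ := ext T (Subgroup.comap_mono inf_le_right)
  have hne : P₁ ≠ P₂ := by
    intro e
    subst e
    exact hST (Sylow.ext (hP₁.symm.trans hP₂))
  haveI := hC P₁ P₂ hne
  haveI : IsCyclic ↥((R : Subgroup ↥A).map A.subtype) := Subgroup.isCyclic_of_le (le_inf hRP₁ hRP₂)
  rw [← hR]
  exact isCyclic_of_surjective (f.subgroupMap _) (f.subgroupMap_surjective _)

end Cfsg.Agent.S3305
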