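import Cfsg.Statements.S2133
import Cfsg.Agent.Lib.Sporadic.OctadAffine

set_option autoImplicit false
open Cfsg

namespace Cfsg.Agent.S2133

open Subgroup Equiv CfsgLib.SmallGroups.Golay CfsgLib.SmallGroups.M24Group
  CfsgLib.SmallGroups.MathieuSets CfsgLib.Sporadic.OctadStabilizer
  CfsgLib.Sporadic.MathieuMultiplier CfsgLib.Sporadic.MathieuMultiplierData
  CfsgLib.Sporadic.OctadAffine CfsgLib.Sporadic.OctadAffineData
open scoped Pointwise Matrix MatrixGroups

theorem t_props : (∀ q ∈ oct, tfun tT q = q) ∧ (∀ q, tfun tT q = q → q ∈ oct) ∧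
    ∀ q, q ∉ oct → Matrix.transvection (0 : Fin 5) 1 (1 : ZMod 2) *ᵥ vec q = vec (tfun tT q) := by
  decide +kernel

/-- The block of a matrix on the last three coordinates. -/
def block (G : Matrix (Fin 5) (Fin 5) (ZMod 2)) : Matrix (Fin 3) (Fin 3) (ZMod 2) :=
  G.submatrix (Fin.natAdd 2) (Fin.natAdd 2)

/-- The seven entries outside the block. -/
def offBlock (G : Matrix (Fin 5) (Fin 5) (ZMod 2)) : Fin 7 → ZMod 2 :=
  ![G 0 1, G 0 2, G 0 3, G 0 4, G 2 1, G 3 1, G 4 1]

theorem card_transvection_centralizer (s : SL(5, ZMod 2))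
    (hs : (s : Matrix (Fin 5) (Fin 5) (ZMod 2)) = Matrix.transvection 0 1 1) :
    Nat.card (centralizer ({s} : Set SL(5, ZMod 2))) ≤ 21504 := by
  have key : ∀ G ∈ centralizer ({s} : Set SL(5, ZMod 2)),
      (∀ i, i ≠ 0 → G.1 i 0 = 0) ∧ (∀ j, j ≠ 1 → G.1 1 j = 0) ∧ G.1 0 0 = 1 ∧ G.1 1 1 = 1 := by
    intro G hG
    have hc := congrArg (fun x : SL(5, ZMod 2) => (x : Matrix (Fin 5) (Fin 5) (ZMod 2)))
      (mem_centralizer_singleton_iff.1 hG)
    simp only [Matrix.SpecialLinearGroup.coe_mul, hs, Matrix.transvection, Matrix.mul_add,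
      Matrix.add_mul, Matrix.one_mul, Matrix.mul_one, add_right_inj] at hc
    have h : ∀ i j : Fin 5, (G.1 * Matrix.single (0 : Fin 5) 1 (1 : ZMod 2)) i j =
        (Matrix.single (0 : Fin 5) 1 (1 : ZMod 2) * G.1 : Matrix (Fin 5) (Fin 5) (ZMod 2)) i j := fun i j => by rw [hc]
    have h1 : ∀ i, i ≠ 0 → G.1 i 0 = 0 := fun i hi => by
      have := h i 1
      rwa [Matrix.mul_single_apply_same, Matrix.single_mul_apply_of_ne (h := hi), mul_one] at this
    have h2 : ∀ j, j ≠ 1 → G.1 1 j = 0 := fun j hj => by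
      have := h 0 j
      rw [Matrix.mul_single_apply_of_ne (hbj := hj), Matrix.single_mul_apply_same, one_mul] at this
      exact this.symm
    have h00 : G.1 0 0 = 1 := by
      rcases (by decide : ∀ x : ZMod 2, x = 0 ∨ x = 1) (G.1 0 0) with h0 | h0
      · have hd := G.2
        rw [Matrix.det_eq_zero_of_column_eq_zero 0 (fun i => by
          by_cases hi : i = 0
          · rw [hi, h0]
          · exact h1 i hi)] at hd
        exact absurd hd (by decide)
      · exact h0
    refine ⟨h1, h2, h00, ?_⟩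
    have := h 0 1
    rw [Matrix.mul_single_apply_same, Matrix.single_mul_apply_same, mul_one, one_mul] at this
    rw [← this, h00]
  have hblk : ∀ G ∈ centralizer ({s} : Set SL(5, ZMod 2)), (block G.1).det = 1 := by
    intro G hG
    obtain ⟨a1, -, -, -⟩ := key G hG
    obtain ⟨-, b2, -, -⟩ := key G⁻¹ (inv_mem hG)
    have hmul : block G.1 * block (G⁻¹ : SL(5, ZMod 2)).1 = 1 := by
      refine Matrix.ext fun i j => ?_
      have h := congrFun (congrFun (congrArg (fun x : SL(5, ZMod 2) => x.1) (mul_inv_cancel G))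
        (Fin.natAdd 2 i)) (Fin.natAdd 2 j)
      simp only [Matrix.SpecialLinearGroup.coe_mul, Matrix.SpecialLinearGroup.coe_one,
        Matrix.mul_apply, Fin.sum_univ_five] at h
      rw [a1 _ (by fin_cases i <;> decide), b2 _ (by fin_cases j <;> decide), zero_mul,
        mul_zero, zero_add, zero_add] at h
      rw [Matrix.mul_apply, Fin.sum_univ_three]
      simp only [block, Matrix.submatrix_apply]
      rw [show Fin.natAdd 2 (0 : Fin 3) = (2 : Fin 5) from rfl,
        show Fin.natAdd 2 (1 : Fin 3) = (3 : Fin 5) from rfl,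
        show Fin.natAdd 2 (2 : Fin 3) = (4 : Fin 5) from rfl]
      refine h.trans ?_
      rcases eq_or_ne i j with rfl | hne
      · rw [Matrix.one_apply_eq, Matrix.one_apply_eq]
      · rw [Matrix.one_apply_ne hne, Matrix.one_apply_ne fun e => hne (Fin.natAdd_injective _ _ e)]
    have h := congrArg Matrix.det hmul
    rw [Matrix.det_mul, Matrix.det_one] at h
    exact (by decide : ∀ x y : ZMod 2, x * y = 1 → x = 1) _ _ h
  let f : centralizer ({s} : Set SL(5, ZMod 2)) →
      (Fin 7 → ZMod 2) × {M : Matrix (Fin 3) (Fin 3) (ZMod 2) // M.det = 1} :=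
    fun G => (offBlock G.1.1, ⟨block G.1.1, hblk _ G.2⟩)
  refine (Nat.card_le_card_of_injective f fun G H h => ?_).trans_eq ?_
  · obtain ⟨hG1, hG2, hG3, hG4⟩ := key G G.2
    obtain ⟨hH1, hH2, hH3, hH4⟩ := key H H.2
    have e1 := fun k => congrFun (congrArg Prod.fst h) k
    have e2 := fun i j => congrFun (congrFun (congrArg (fun p => p.2.1) h) i) j
    refine Subtype.ext (Subtype.ext (Matrix.ext fun i j => ?_))
    by_cases hj : j = 0
    · subst hj
      by_cases hi : i = 0
      · subst hi; rw [hG3, hH3]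
      · rw [hG1 i hi, hH1 i hi]
    by_cases hi : i = 1
    · subst hi
      by_cases hj1 : j = 1
      · subst hj1; rw [hG4, hH4]
      · rw [hG2 j hj1, hH2 j hj1]
    fin_cases i <;> fin_cases j <;> first
      | exact absurd rfl hi
      | exact absurd rfl hj
      | exact e1 0
      | exact e1 1
      | exact e1 2
      | exact e1 3
      | exact e1 4
      | exact e1 5
      | exact e1 6
      | exact e2 0 0
      | exact e2 0 1
      | exact e2 0 2
      | exact e2 1 0
      | exact e2 1 1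
      | exact e2 1 2
      | exact e2 2 0
      | exact e2 2 1
      | exact e2 2 2
  · rw [Nat.card_prod, Nat.card_eq_fintype_card, Nat.card_eq_fintype_card]
    decide +kernel


/-- The Mathieu group M₂₄ (the automorphism group of the length-24 binary code) has an involution whose centraliser is isomorphic to the centraliser of a transvection in SL(5, 2) (a group of shape 2^{1+6}:GL(3, 2)). -/
theorem result (s : Matrix.SpecialLinearGroup (Fin 5) (ZMod 2)) (hs : (s : Matrix (Fin 5) (Fin 5) (ZMod 2)) = Matrix.transvection 0 1 1) : ∃ z : ↥Cfsg.M24, orderOf z = 2 ∧ Nonempty (↥(Subgroup.centralizer ({z} : Set ↥Cfsg.M24)) ≃* ↥(Subgroup.centralizer ({s} : Set (Matrix.SpecialLinearGroup (Fin 5) (ZMod 2))))) := by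
  obtain ⟨hT, hT0, hTT⟩ := t_facts
  let z : ↥Cfsg.M24 := ⟨tperm tT hT, tperm_mem _ _⟩
  have hzo : tperm tT hT ∈ ptStab oct := mem_ptStab.2 ⟨tperm_mem _ _, t_props.1⟩
  have hzA : tperm tT hT ∈ affGroup := ptStab_le_aff hzo
  have hzs : affHom ⟨_, hzA⟩ = s := Subtype.ext
    ((affHom_induces ⟨_, hzA⟩).unique fun q hq => by rw [hs]; exact t_props.2.2 q hq)
  have hmem : ∀ g : ↥Cfsg.M24, g ∈ centralizer ({z} : Set ↥Cfsg.M24) →
      (g : Perm Cfsg.GolayPt) ∈ octStab oct := by
    intro g hg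
    refine ⟨g.2, smul_oct fun q hq => t_props.2.1 _ ?_⟩
    have h := congrArg (fun x : ↥Cfsg.M24 => (x : Perm Cfsg.GolayPt) q)
      (mem_centralizer_singleton_iff.1 hg)
    simp only [z, Subgroup.coe_mul, Perm.mul_apply, tperm_apply, t_props.1 q hq] at h
    exact h.symm
  let ι : centralizer ({z} : Set ↥Cfsg.M24) →* affGroup :=
    (Cfsg.M24.subtype.comp (centralizer ({z} : Set ↥Cfsg.M24)).subtype).codRestrict affGroup
      fun g => octStab_le_aff (hmem g g.2)
  have hιz : ∀ g, ι g * ⟨_, hzA⟩ = ⟨_, hzA⟩ * ι g := fun g =>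
    Subtype.ext (congrArg Subtype.val (mem_centralizer_singleton_iff.1 g.2) :)
  let f : centralizer ({z} : Set ↥Cfsg.M24) →* centralizer ({s} : Set SL(5, ZMod 2)) :=
    (affHom.comp ι).codRestrict _ fun g => mem_centralizer_singleton_iff.2 (by
      rw [MonoidHom.comp_apply, ← hzs, ← map_mul, ← map_mul, hιz g])
  have hf : Function.Injective f := fun g h e => by
    have h1 : ι g = ι h := affHom_injective (congrArg Subtype.val e)
    have h2 : ((g : ↥Cfsg.M24) : Perm Cfsg.GolayPt) = ((h : ↥Cfsg.M24) : Perm Cfsg.GolayPt) :=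
      congrArg (fun x : affGroup => (x : Perm Cfsg.GolayPt)) h1
    exact Subtype.ext (Subtype.ext h2)
  refine ⟨z, ?_, ?_⟩
  · haveI : Fact (Nat.Prime 2) := ⟨Nat.prime_two⟩
    refine orderOf_eq_prime (Subtype.ext (Equiv.ext fun q => ?_)) fun e => ?_
    · rw [sq]; exact hTT q
    · have := congrArg (fun x : ↥Cfsg.M24 => (x : Perm Cfsg.GolayPt) (pt 1)) e
      exact (by decide +kernel : tfun tT (pt 1) ≠ pt 1) this
  -- the centraliser is as large as possible
  have hlow : 21504 ≤ Nat.card (centralizer ({z} : Set ↥Cfsg.M24)) := by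
    set O := octStab oct
    let zo : ↥O := ⟨tperm tT hT, ptStab_le oct hzo⟩
    set C := centralizer ({zo} : Set ↥O) with hC
    have hnor : ∀ g : ↥O, (g * zo * g⁻¹ : ↥O).1 ∈ ptStab oct := by
      intro g
      refine mem_ptStab.2 ⟨(g * zo * g⁻¹).2.1, fun q hq => ?_⟩
      have hq' : g.1⁻¹ q ∈ oct := (apply_mem_iff g⁻¹.2.2 q).2 hq
      show g.1 ((zo : Perm Cfsg.GolayPt) (g.1⁻¹ q)) = q
      rw [show (zo : Perm Cfsg.GolayPt) (g.1⁻¹ q) = g.1⁻¹ q from t_props.1 _ hq']
      simp
    have hne : ∀ g : ↥O, (⟨_, hnor g⟩ : ↥(ptStab oct)) ≠ 1 := fun g e => by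
      have h1 : g * zo * g⁻¹ = 1 :=
        Subtype.ext (congrArg (fun v : ↥(ptStab oct) => (v : Perm Cfsg.GolayPt)) e)
      rw [conj_eq_one_iff] at h1
      exact (by decide +kernel : tfun tT (pt 1) ≠ pt 1)
        (congrArg (fun x : ↥O => (x : Perm Cfsg.GolayPt) (pt 1)) h1)
    let k : ↥O ⧸ C → {v : ↥(ptStab oct) // v ≠ 1} := fun x => ⟨⟨_, hnor x.out⟩, hne x.out⟩
    have hk : Function.Injective k := fun x y e => by
      have h1 : x.out * zo * x.out⁻¹ = y.out * zo * y.out⁻¹ :=
        Subtype.ext (congrArg (fun v => (v.1 : Perm Cfsg.GolayPt)) e)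
      rw [← QuotientGroup.out_eq' x, ← QuotientGroup.out_eq' y, QuotientGroup.eq]
      refine mem_centralizer_singleton_iff.2 ?_
      calc x.out⁻¹ * y.out * zo = x.out⁻¹ * (y.out * zo * y.out⁻¹) * y.out := by group
        _ = zo * (x.out⁻¹ * y.out) := by rw [← h1]; group
    have h15 : C.index ≤ 15 := by
      refine (Nat.card_le_card_of_injective k hk).trans_eq ?_
      haveI := Fintype.ofFinite ↥(ptStab oct)
      classical
      rw [Nat.card_eq_fintype_card, Fintype.card_subtype_compl, Fintype.card_subtype_eq,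
        ← Nat.card_eq_fintype_card, show Nat.card ↥(ptStab oct) = 16 from (ptStab_octad octB_mem).1]
    have hO : Nat.card ↥O = 322560 := card_octStab octB_mem
    have hprod := C.card_mul_index
    rw [hO] at hprod
    have hbig : 21504 ≤ Nat.card ↥C := by
      have := Nat.mul_le_mul_left (Nat.card ↥C) h15
      omega
    refine hbig.trans (Nat.card_le_card_of_injective
      (fun g : ↥C => (⟨⟨g.1.1, g.1.2.1⟩, mem_centralizer_singleton_iff.2 (Subtype.ext
        (congrArg (fun x : ↥O => (x : Perm Cfsg.GolayPt)) (mem_centralizer_singleton_iff.1 g.2)))⟩ :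
        centralizer ({z} : Set ↥Cfsg.M24))) fun g h e => Subtype.ext (Subtype.ext
          (congrArg (fun x => (x.1.1 : Perm Cfsg.GolayPt)) e)))
  exact ⟨MulEquiv.ofBijective f ((Nat.bijective_iff_injective_and_card f).2 ⟨hf,
    le_antisymm (Nat.card_le_card_of_injective f hf)
      ((card_transvection_centralizer s hs).trans hlow)⟩)⟩

end Cfsg.Agent.S2133
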