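import Cfsg.Statements.S3820
import Cfsg.Agent.Lib.Coprime.SchurZassenhaus
-- import your own Cfsg.Agent.* helpers here

set_option autoImplicit false
open Cfsg

namespace Cfsg.Agent.S3820

/-- Call a subgroup H of G pronormal if H and gHg⁻¹ are conjugate inside ⟨H, gHg⁻¹⟩ for every g ∈ G. Let S ≤ H ≤ G be subgroups of a finite group with S pronormal in G (for instance S a Sylow subgroup). Then H is pronormal in G if and only if H and gHg⁻¹ are conjugate inside ⟨H, gHg⁻¹⟩ for every g ∈ N_G(S). In particular H is pronormal whenever N_G(S) ≤ H. -/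
theorem result {G : Type*} [Group G] [Finite G] (S H : Subgroup G) (hSH : S ≤ H)
    (hS : Cfsg.IsPronormal S) :
    Cfsg.IsPronormal H ↔
      ∀ g ∈ Subgroup.normalizer (S : Set G), ∃ w ∈ H ⊔ H.map (MulAut.conj g).toMonoidHom,
        H.map (MulAut.conj g).toMonoidHom = H.map (MulAut.conj w).toMonoidHom := by
  refine ⟨fun h g _ => h g, fun h g => ?_⟩
  obtain ⟨x, hx, hxS⟩ := hS g
  set J := H ⊔ H.map (MulAut.conj g).toMonoidHom with hJ
  have hxJ : x ∈ J := (sup_le_sup hSH (Subgroup.map_mono hSH)) hx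
  have hy : x⁻¹ * g ∈ Subgroup.normalizer (S : Set G) := by
    refine CfsgLib.Coprime.mem_normalizer_of_conj_map_le (CfsgLib.Coprime.conj_map_le_iff.1 (le_of_eq ?_))
    rw [← CfsgLib.Coprime.conj_map_map, hxS, CfsgLib.Coprime.conj_map_map, inv_mul_cancel,
      CfsgLib.Coprime.conj_map_eq_self_of_mem_normalizer (one_mem _)]
  obtain ⟨w, hw, hwH⟩ := h _ hy
  have hle : H.map (MulAut.conj (x⁻¹ * g)).toMonoidHom ≤ J := by
    rw [← CfsgLib.Coprime.conj_map_map]
    refine CfsgLib.Coprime.conj_map_le_iff.2 fun z hz => ?_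
    exact mul_mem (mul_mem (inv_mem hxJ) (Subgroup.mem_sup_right hz)) (inv_mem (inv_mem hxJ))
  refine ⟨x * w, J.mul_mem hxJ (sup_le le_sup_left hle hw), ?_⟩
  rw [← CfsgLib.Coprime.conj_map_map, ← hwH, CfsgLib.Coprime.conj_map_map, mul_inv_cancel_left]

end Cfsg.Agent.S3820
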