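import Cfsg.Statements.S2602
import Cfsg.Agent.Lib.KnownC.AutPSL.Outer

set_option autoImplicit false
open Cfsg

namespace Cfsg.Agent.S2602

open CfsgLib.KnownC.AutPSL

/-- Structure of the outer automorphism group of PSL_2(q), q = p^f ≥ 4: it has a normal cyclic subgroup of order gcd(2, q − 1) (diagonal automorphisms) with cyclic quotient of order f (field automorphisms); there is no graph automorphism in dimension 2. -/
theorem result {F : Type*} [Field F] [Fintype F] {p f : ℕ} [Fact p.Prime] (hf : 1 ≤ f) (hF : Fintype.card F = p ^ f) (h4 : 4 ≤ p ^ f) : ∃ φ : Cfsg.Out (Matrix.ProjectiveSpecialLinearGroup (Fin 2) F) →* Multiplicative (ZMod f), Function.Surjective φ ∧ IsCyclic φ.ker ∧ Nat.card φ.ker = Nat.gcd 2 (p ^ f - 1) := by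
  classical
  obtain ⟨e⟩ := ringAut_cyclic (F := F) hF
  let J : Matrix.SpecialLinearGroup (Fin 2) F := ⟨!![0, 1; -1, 0], by simp [Matrix.det_fin_two]⟩
  have hit : (itAut : MulAut (Matrix.ProjectiveSpecialLinearGroup (Fin 2) F)) =
      semiAut (Matrix.SpecialLinearGroup.toGL J) (RingEquiv.refl F) := by
    refine MulEquiv.ext fun x => ?_
    induction x using QuotientGroup.induction_on with
    | _ s =>
      rw [semiAut_mk]
      show QuotientGroup.mk (itSL s) = _
      refine congrArg _ (Subtype.ext ?_)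
      rw [semiSL_coe]
      show ((s⁻¹ : Matrix.SpecialLinearGroup (Fin 2) F) : Matrix (Fin 2) (Fin 2) F).transpose =
        (J : Matrix (Fin 2) (Fin 2) F) * _ * ((J⁻¹ : Matrix.SpecialLinearGroup (Fin 2) F) : Matrix (Fin 2) (Fin 2) F)
      rw [Matrix.SpecialLinearGroup.coe_inv, Matrix.SpecialLinearGroup.coe_inv]
      ext i j
      fin_cases i <;> fin_cases j <;> simp [J, Matrix.adjugate_fin_two, Matrix.mul_apply, Matrix.vecMul, dotProduct, Fin.sum_univ_two]
  have hex : ∀ α : MulAut (Matrix.ProjectiveSpecialLinearGroup (Fin 2) F), ∃ (σ : F ≃+* F), ∃ A : GL (Fin 2) F,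
      α = semiAut A σ := fun α => by
    obtain ⟨A, σ, h | h⟩ := exists_semi le_rfl α
    · exact ⟨σ, A, h⟩
    · rw [hit, semiAut_mul] at h
      exact ⟨_, _, h⟩
  choose sg Am hA using hex
  have hchar : ∀ α A σ, α = semiAut A σ → sg α = σ := fun α A σ h => ((semi_eq_iff le_rfl).1 ((hA α).symm.trans h)).1
  let φ : MulAut (Matrix.ProjectiveSpecialLinearGroup (Fin 2) F) →* Multiplicative (ZMod f) :=
    MonoidHom.mk' (fun α => e (sg α)) (fun α β => by
      rw [← map_mul]
      refine congrArg e (hchar (α * β) (Am α * Matrix.GeneralLinearGroup.map (sg α).toRingHom (Am β)) _ ?_)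
      conv_lhs => rw [hA α, hA β, semiAut_mul]
      rfl)
  have hsurj : Function.Surjective φ := fun y =>
    ⟨semiAut 1 (e.symm y), by show e _ = y; rw [hchar _ _ _ rfl, MulEquiv.apply_symm_apply]⟩
  have hker : φ.ker = Cfsg.inndiagPSL 2 F := by
    ext α
    rw [MonoidHom.mem_ker, inndiag_iff_mem]
    constructor
    · intro h
      have h' : sg α = 1 := e.injective (by rw [map_one]; exact h)
      exact ⟨Am α, (hA α).trans (by rw [h']; rfl)⟩
    · rintro ⟨A, rfl⟩
      show e _ = 1
      rw [hchar _ A _ rfl, show (RingEquiv.refl F) = (1 : F ≃+* F) from rfl, map_one]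
  simpa [hF] using out_structure le_rfl φ hsurj hker
end Cfsg.Agent.S2602
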