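import Cfsg.Statements.S3021
import Mathlib.GroupTheory.Nilpotent


set_option autoImplicit false
open Cfsg

namespace Cfsg.Agent.S3021

/-- Let G be a finite group, p a prime and H a p-subgroup of G that is extremely closed (for every g, the subgroup generated by H and g H g⁻¹ meets N_G(H) exactly in H). Then every p-subgroup Q of G containing H has N_G(Q) ≤ N_G(H); in particular every Sylow p-subgroup P of G containing H normalizes H, and H is strongly closed in P with respect to G. -/
theorem result {G : Type*} [Group G] [Finite G] {p : ℕ} [Fact p.Prime] (H : Subgroup G) (hHp : IsPGroup p H) (hcl : Cfsg.IsExtremelyClosed H) : (∀ Q : Subgroup G, IsPGroup p Q → H ≤ Q → Subgroup.normalizer (Q : Set G) ≤ Subgroup.normalizer (H : Set G)) ∧ ∀ P : Sylow p G, H ≤ (P : Subgroup G) → (P : Subgroup G) ≤ Subgroup.normalizer (H : Set G) ∧ Cfsg.IsStronglyClosed H (P : Subgroup G) := by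
  have key : ∀ Q : Subgroup G, IsPGroup p Q → H ≤ Q → Q ≤ Subgroup.normalizer (H : Set G) := by
    intro Q hQ hHQ
    rw [Subgroup.le_normalizer_iff]
    intro q hq x hx
    set T := H ⊔ H.map (MulAut.conj q).toMonoidHom
    have hTQ : T ≤ Q := sup_le hHQ (by
      rintro _ ⟨y, hy, rfl⟩; exact mul_mem (mul_mem hq (hHQ hy)) (inv_mem hq))
    haveI := (hQ.to_le hTQ).isNilpotent
    have hTH : T = H := by
      by_contra hne
      have hlt := Group.normalizerCondition_of_isNilpotent (H.subgroupOf T)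
        (lt_top_iff_ne_top.mpr fun h => hne (le_antisymm (Subgroup.subgroupOf_eq_top.mp h) le_sup_left))
      obtain ⟨⟨t, ht⟩, htN, htH⟩ := SetLike.exists_of_lt hlt
      refine htH (Subgroup.mem_subgroupOf.mpr ((hcl q).le ⟨ht, ?_⟩))
      have hle : H.map (MulAut.conj t).toMonoidHom ≤ H := by
        rintro _ ⟨y, hy, rfl⟩
        exact (Subgroup.mem_normalizer_iff.mp htN ⟨y, le_sup_left (b := H.map _) hy⟩).mp hy
      exact Subgroup.mem_normalizer_iff_map_conj_eq.mpr (Subgroup.eq_of_le_of_card_ge hle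
        (by rw [Subgroup.card_map_of_injective (MulAut.conj t).injective]))
    exact hTH.le (Subgroup.mem_sup_right ⟨x, hx, rfl⟩)
  refine ⟨fun Q hQ hHQ => ?_, fun P hHP => ⟨key _ P.isPGroup' hHP, hHP, fun x hx g hg => ?_⟩⟩
  · rw [Subgroup.le_normalizer_iff]
    intro n hn x hx
    have h1 : n * x * n⁻¹ ∈ Q := (Subgroup.mem_normalizer_iff.mp hn x).mp (hHQ hx)
    exact (hcl n).le ⟨Subgroup.mem_sup_right ⟨x, hx, rfl⟩, key Q hQ hHQ h1⟩
  · exact (hcl g).le ⟨Subgroup.mem_sup_right ⟨x, hx, rfl⟩, key _ P.isPGroup' hHP hg⟩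

end Cfsg.Agent.S3021
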