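import Cfsg.Statements.S0943
import Cfsg.Agent.Lib.Char.ClassSum

set_option autoImplicit false
open Cfsg CfsgLib

namespace Cfsg.Agent.S0943

/-- Let χ be an irreducible character of the finite group G and u, v ∈ G. If χ (x * y) = χ (u * v) whenever x is conjugate to u and y is conjugate to v, then χ u * χ v = χ 1 * χ (u * v). (Multiply the class sums of u and v and apply the central character of χ.) -/
theorem result {G : Type*} [Group G] [Finite G] (χ : Cfsg.IrrCharacter G) (u v : G) (hc : ∀ x y : G, IsConj u x → IsConj v y → (χ : G → ℂ) (x * y) = (χ : G → ℂ) (u * v)) : (χ : G → ℂ) u * (χ : G → ℂ) v = (χ : G → ℂ) 1 * (χ : G → ℂ) (u * v) := by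
  classical
  cases nonempty_fintype G
  have h := Char.IsIrrCharacter.sum_mul_conjugate χ.2 u v
  rw [Finset.sum_congr rfl fun (z : G) _ => hc u (z * v * z⁻¹) (IsConj.refl u)
    (isConj_iff.2 ⟨z, rfl⟩), Finset.sum_const, Finset.card_univ, nsmul_eq_mul,
    ← Nat.card_eq_fintype_card] at h
  have h1 : (χ : G → ℂ) 1 ≠ 0 := Char.IsIrrCharacter.apply_one_ne_zero χ.2
  rw [eq_div_iff h1] at h
  have hG : (Nat.card G : ℂ) ≠ 0 := Char.card_ne_zero
  apply mul_left_cancel₀ hG
  linear_combination (-1 : ℂ) * h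

end Cfsg.Agent.S0943
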