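import Cfsg.Statements.S1182
import Mathlib
import Cfsg.Agent.Lib.Involution.Isolated
-- import your own Cfsg.Agent.* helpers here

set_option autoImplicit false
open Cfsg

namespace Cfsg.Agent.S1182

/-- Let z be an isolated involution of the finite group G and H a subgroup normalized by z. If x, y ∈ H both commute with z and y = h x h⁻¹ for some h ∈ H, then y = c x c⁻¹ for some c ∈ H commuting with z. -/
theorem result {G : Type*} [Group G] [Finite G] (z : G) (hz : Cfsg.IsIsolatedInvolution z) (H : Subgroup G) (hzH : z ∈ Subgroup.normalizer (H : Set G)) (x y : G) (hx : x ∈ H) (hy : y ∈ H) (hxz : Commute x z) (hyz : Commute y z) (h : G) (hh : h ∈ H) (hconj : h * x * h⁻¹ = y) : ∃ c ∈ H, Commute c z ∧ c * x * c⁻¹ = y := by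
  have hc : h⁻¹ * z * h * x = x * (h⁻¹ * z * h) := by
    have e := hyz.eq
    rw [← hconj] at e
    calc h⁻¹ * z * h * x = h⁻¹ * (z * (h * x * h⁻¹)) * h := by group
      _ = h⁻¹ * (h * x * h⁻¹ * z) * h := by rw [e]
      _ = x * (h⁻¹ * z * h) := by group
  obtain ⟨d, hd, he⟩ := CfsgLib.Involution.Dihedral.exists_conj_of_odd hz.1
    (y := h⁻¹ * z * (h⁻¹)⁻¹) ((CfsgLib.Involution.Dihedral.orderOf_conj _ z).trans hz.1)
    (CfsgLib.Involution.Isolated.odd_of_isConj hz (isConj_iff.2 ⟨_, rfl⟩))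
  rw [inv_inv] at hd he
  have hdH : d ∈ H := by
    refine Subgroup.zpowers_le.2 ?_ hd
    rw [show z * (h⁻¹ * z * h) = z * h⁻¹ * z⁻¹ * (z * z) * h by group,
      CfsgLib.Involution.Dihedral.mul_self hz.1, mul_one]
    exact H.mul_mem ((Subgroup.mem_normalizer_iff.1 hzH _).1 (H.inv_mem hh)) hh
  have hdx : Commute d x := by
    obtain ⟨k, rfl⟩ := hd
    exact Commute.zpow_left (Commute.mul_left hxz.symm hc) k
  refine ⟨h * d, H.mul_mem hh hdH, ?_, ?_⟩
  · rw [commute_iff_eq]
    calc h * d * z = h * (d * z * d⁻¹) * d := by group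
      _ = h * (h⁻¹ * z * h) * d := by rw [he]
      _ = z * (h * d) := by group
  · rw [mul_inv_rev]
    calc h * d * x * (d⁻¹ * h⁻¹) = h * (d * x * d⁻¹) * h⁻¹ := by group
      _ = y := by rw [hdx.eq, mul_inv_cancel_right, hconj]

end Cfsg.Agent.S1182
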