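import Cfsg.Statements.S0293
import Cfsg.Agent.Lib.Classical.OrthPOmega

set_option autoImplicit false
open Cfsg

namespace Cfsg.Agent.S0293

/-- gcd(4, q^m - 1) |PΩ^+_{2m}(q)| = q^(m(m-1)) (q^m - 1) prod_{i=1}^{m-1} (q^(2i) - 1), m at least 4 (type D_m). -/
theorem result {F : Type*} [Field F] [Fintype F] {q : ℕ} (hF : Fintype.card F = q) (m : ℕ) (hm : 4 ≤ m) : Nat.gcd 4 (q ^ m - 1) * Nat.card (Cfsg.POmega F (Cfsg.quadFormPlus m F)) = q ^ (m * (m - 1)) * (q ^ m - 1) * ∏ i ∈ Finset.range (m - 1), (q ^ (2 * (i + 1)) - 1) := by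
  classical
  subst hF
  obtain ⟨k, rfl⟩ := Nat.exists_eq_add_of_le' (show 1 ≤ m by omega)
  rw [Nat.add_sub_cancel]
  have hQ := CfsgLib.Orth.plusForm_nondeg (F := F) (k + 1)
  have hp := CfsgLib.Classical.hypPairs_plus (F := F) (k + 1) (by omega)
  have h := CfsgLib.Classical.card_pomega_mul (Qf := Cfsg.quadFormPlus (k + 1) F) (CfsgLib.Orth.plusForm F (k + 1))
    (CfsgLib.Orth.plusForm_apply (k + 1))
  rw [CfsgLib.Classical.card_orth_plus rfl k, mul_assoc (2 * _), mul_assoc 2] at h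
  rw [mul_assoc (Fintype.card F ^ _)]
  generalize hX : Fintype.card F ^ ((k + 1) * k) * ((Fintype.card F ^ (k + 1) - 1) *
    ∏ i ∈ Finset.range k, (Fintype.card F ^ (2 * (i + 1)) - 1)) = X at h ⊢
  have hn : Fintype.card (Fin (k + 1) ⊕ Fin (k + 1)) = 2 * (k + 1) := by simp; omega
  by_cases h2 : (2 : F) = 0
  · haveI : CharP F 2 := CharTwo.of_one_ne_zero_of_two_eq_zero one_ne_zero h2
    have hn3 : 3 ≤ Module.finrank F (Fin (k + 1) ⊕ Fin (k + 1) → F) := by rw [Module.finrank_pi, hn]; omega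
    have h4 : CfsgLib.Orth.Good F (Fin (k + 1) ⊕ Fin (k + 1) → F) :=
      Or.inr (by rw [Module.finrank_pi, hn]; omega)
    rw [CfsgLib.Classical.index_commutator_two hQ h4 (by omega),
      CfsgLib.Classical.card_center_two hQ h4 hn3 hp, mul_one] at h
    obtain ⟨e, -, hcard⟩ := FiniteField.card F 2
    have heven : Even (Fintype.card F ^ (k + 1)) := by
      rw [hcard, ← pow_mul]; exact Nat.even_pow.2 ⟨even_two, by simp [e.ne_zero]⟩
    have h1 := Nat.one_le_pow (k + 1) (Fintype.card F) Fintype.card_pos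
    have hco : Nat.Coprime (2 ^ 2) (Fintype.card F ^ (k + 1) - 1) :=
      Nat.Coprime.pow_left 2 (Nat.coprime_two_left.2 (by rw [Nat.odd_iff]; obtain ⟨r, hr⟩ := heven; omega))
    rw [show Nat.gcd 4 (Fintype.card F ^ (k + 1) - 1) = 1 from hco, one_mul]
    omega
  · have hodd : Odd (Fintype.card F) := by
      rw [Nat.odd_iff]
      exact FiniteField.odd_card_of_char_ne_two fun hc => h2 (by
        haveI := ringChar.of_eq hc
        exact CharTwo.two_eq_zero)
    rw [CfsgLib.Classical.index_commutator_odd hQ h2 hp.two_le_finrank] at h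
    have hiff := (CfsgLib.Classical.negEl_plus_iff (F := F) h2 (k + 1)).trans
      (CfsgLib.Classical.isSquare_neg_one_pow hodd (k + 1))
    have hg : ∀ N : ℕ, Nat.gcd 4 N = Nat.gcd 4 (N % 4) := fun N => by rw [Nat.gcd_rec 4 N, Nat.gcd_comm]
    rcases CfsgLib.Classical.pow_card_mod_four hodd (k + 1) with hm4 | hm4
    · rw [CfsgLib.Classical.card_center_odd_neg hQ h2 hp (hiff.2 hm4)] at h
      rw [hg, show (Fintype.card F ^ (k + 1) - 1) % 4 = 0 by omega, Nat.gcd_zero_right]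
      omega
    · rw [CfsgLib.Classical.card_center_odd_not hQ h2 hp (fun hh => by have := hiff.1 hh; omega)] at h
      rw [hg, show (Fintype.card F ^ (k + 1) - 1) % 4 = 2 by omega, show Nat.gcd 4 2 = 2 from rfl]
      omega

end Cfsg.Agent.S0293
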