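import Cfsg.Statements.S0294
import Cfsg.Agent.Lib.Classical.OrthPOmega

set_option autoImplicit false
open Cfsg

namespace Cfsg.Agent.S0294

/-- gcd(4, q^m + 1) |PΩ^-_{2m}(q)| = q^(m(m-1)) (q^m + 1) prod_{i=1}^{m-1} (q^(2i) - 1), m at least 4 (type ²D_m). -/
theorem result {F : Type*} [Field F] [Fintype F] {q : ℕ} (hF : Fintype.card F = q) (m : ℕ) (hm : 4 ≤ m) (a b : F) (hab : ∀ z₁ z₂ : F, z₁ ^ 2 + a * z₁ * z₂ + b * z₂ ^ 2 = 0 → z₁ = 0 ∧ z₂ = 0) : Nat.gcd 4 (q ^ m + 1) * Nat.card (Cfsg.POmega F (Cfsg.quadFormMinus (m - 1) F a b)) = q ^ (m * (m - 1)) * (q ^ m + 1) * ∏ i ∈ Finset.range (m - 1), (q ^ (2 * (i + 1)) - 1) := by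
  classical
  subst hF
  obtain ⟨k, rfl⟩ := Nat.exists_eq_add_of_le' (show 1 ≤ m by omega)
  rw [Nat.add_sub_cancel]
  have hQ := CfsgLib.Orth.minusForm_nondeg (F := F) k a b hab
  have hp := CfsgLib.Classical.hypPairs_minus (F := F) k (by omega) a b
  have h := CfsgLib.Classical.card_pomega_mul (Qf := Cfsg.quadFormMinus k F a b) (CfsgLib.Orth.minusForm F k a b)
    (CfsgLib.Orth.minusForm_apply k a b)
  rw [CfsgLib.Classical.card_orth_minus rfl a b hab k, mul_assoc (2 * _), mul_assoc 2] at h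
  rw [mul_assoc (Fintype.card F ^ _)]
  generalize hX : Fintype.card F ^ ((k + 1) * k) * ((Fintype.card F ^ (k + 1) + 1) *
    ∏ i ∈ Finset.range k, (Fintype.card F ^ (2 * (i + 1)) - 1)) = X at h ⊢
  have hn : Fintype.card ((Fin k ⊕ Fin k) ⊕ Fin 2) = 2 * (k + 1) := by simp; omega
  by_cases h2 : (2 : F) = 0
  · haveI : CharP F 2 := CharTwo.of_one_ne_zero_of_two_eq_zero one_ne_zero h2
    have hn3 : 3 ≤ Module.finrank F ((Fin k ⊕ Fin k) ⊕ Fin 2 → F) := by rw [Module.finrank_pi, hn]; omega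
    have h4 : CfsgLib.Orth.Good F ((Fin k ⊕ Fin k) ⊕ Fin 2 → F) :=
      Or.inr (by rw [Module.finrank_pi, hn]; omega)
    rw [CfsgLib.Classical.index_commutator_two hQ h4 (by omega),
      CfsgLib.Classical.card_center_two hQ h4 hn3 hp, mul_one] at h
    obtain ⟨e, -, hcard⟩ := FiniteField.card F 2
    have heven : Even (Fintype.card F ^ (k + 1)) := by
      rw [hcard, ← pow_mul]; exact Nat.even_pow.2 ⟨even_two, by simp [e.ne_zero]⟩
    have hco : Nat.Coprime (2 ^ 2) (Fintype.card F ^ (k + 1) + 1) :=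
      Nat.Coprime.pow_left 2 (Nat.coprime_two_left.2 heven.add_one)
    rw [show Nat.gcd 4 (Fintype.card F ^ (k + 1) + 1) = 1 from hco, one_mul]
    omega
  · have hodd : Odd (Fintype.card F) := by
      rw [Nat.odd_iff]
      exact FiniteField.odd_card_of_char_ne_two fun hc => h2 (by
        haveI := ringChar.of_eq hc
        exact CharTwo.two_eq_zero)
    rw [CfsgLib.Classical.index_commutator_odd hQ h2 hp.two_le_finrank] at h
    have hiff := (CfsgLib.Classical.negEl_minus_iff (F := F) h2 k a b hab).trans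
      (not_congr (CfsgLib.Classical.isSquare_neg_one_pow hodd (k + 1)))
    have hg : ∀ N : ℕ, Nat.gcd 4 N = Nat.gcd 4 (N % 4) := fun N => by rw [Nat.gcd_rec 4 N, Nat.gcd_comm]
    rcases CfsgLib.Classical.pow_card_mod_four hodd (k + 1) with hm4 | hm4
    · rw [CfsgLib.Classical.card_center_odd_not hQ h2 hp (fun hh => hiff.1 hh hm4)] at h
      rw [hg, show (Fintype.card F ^ (k + 1) + 1) % 4 = 2 by omega, show Nat.gcd 4 2 = 2 from rfl]
      omega
    · rw [CfsgLib.Classical.card_center_odd_neg hQ h2 hp (hiff.2 (by omega))] at h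
      rw [hg, show (Fintype.card F ^ (k + 1) + 1) % 4 = 0 by omega, Nat.gcd_zero_right]
      omega

end Cfsg.Agent.S0294
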