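import Cfsg.Statements.S2092
import Cfsg.Agent.Lib.KnownA.SpMultiplier.Main

namespace Cfsg.Agent.S2092

theorem result {F : Type*} [Field F] [Fintype F] {q : ℕ} (hF : Fintype.card F = q) (m : ℕ) (hm : 2 ≤ m) (h2 : m = 2 → 3 ≤ q) (hexc : ¬ (m = 3 ∧ q = 2)) : Cfsg.HasCyclicSchurMultiplier (Cfsg.PSp m F) (Nat.gcd 2 (q - 1)) := by
  subst hF
  exact CfsgLib.KnownA.SpMultiplier.hasCyclicSchurMultiplier_psp ⟨hm, fun h => by omega⟩ h2

end Cfsg.Agent.S2092
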