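import Cfsg.Statements.S5166
import Cfsg.Agent.Lib.FusionSystem.DihedralSimple
import Cfsg.Agent.Lib.SmallGroups.MathieuSimple

set_option autoImplicit false
open Cfsg

namespace Cfsg.Agent.S5166

open CfsgLib.SmallGroups.Golay CfsgLib.SmallGroups.GolayOctads CfsgLib.SmallGroups.M24Group
open scoped Pointwise

/-- Table of an element of order 8. -/
def qdX : GolayPt → GolayPt := fun p => pt (([0, 1, 3, 2, 8, 17, 13, 19, 6, 18, 15, 21, 16, 12, 23, 11, 9, 14, 4, 22, 10, 7, 20, 5] : List ℕ).getD (idx p) 0)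

/-- Table of its inverse. -/
def qdXinv : GolayPt → GolayPt := fun p => pt (([0, 1, 3, 2, 18, 23, 8, 21, 4, 16, 20, 15, 13, 6, 17, 10, 12, 5, 9, 7, 22, 11, 19, 14] : List ℕ).getD (idx p) 0)

/-- Table of an involution acting on it as the cube. -/
def qdY : GolayPt → GolayPt := fun p => pt (([0, 1, 3, 2, 4, 5, 9, 10, 13, 6, 7, 11, 12, 8, 14, 20, 18, 23, 16, 21, 15, 19, 22, 17] : List ℕ).getD (idx p) 0)

/-- The element of order 8. -/
def permX : Equiv.Perm GolayPt := ⟨qdX, qdXinv, by decide +kernel, by decide +kernel⟩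

/-- The involution. -/
def permY : Equiv.Perm GolayPt := ⟨qdY, qdY, by decide +kernel, by decide +kernel⟩

theorem mem_m11 {g : Equiv.Perm GolayPt} (h : ∀ i < 12, isCW (mask fun p => word (bas i) (g p)) = true)
    (hs : Cfsg.Spor.squareDodecad.image g = Cfsg.Spor.squareDodecad) (h0 : g (some 0) = some 0) :
    g ∈ Cfsg.Spor.M11 :=
  ⟨⟨mem_M24_of_basis (fun _ => rfl) h, hs⟩, h0⟩

theorem permX_mem : permX ∈ Cfsg.Spor.M11 :=
  mem_m11 (by decide +kernel) (by decide +kernel) (by decide +kernel)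

theorem permY_mem : permY ∈ Cfsg.Spor.M11 :=
  mem_m11 (by decide +kernel) (by decide +kernel) (by decide +kernel)

theorem square_mem : Cfsg.Spor.squareDodecad ∈ dodecads :=
  ⟨⟨qrWord 0, Submodule.subset_span (Or.inl ⟨0, rfl⟩), rfl⟩, by decide +kernel⟩

theorem zero_mem_square : (some 0 : GolayPt) ∈ Cfsg.Spor.squareDodecad := by decide +kernel

/-- The two descriptions of the group. -/
def equivStab : ↥(MulAction.stabilizer M24 Cfsg.Spor.squareDodecad ⊓
    MulAction.stabilizer M24 (some 0 : GolayPt)) ≃* Cfsg.Spor.M11 where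
  toFun g := ⟨g.1.1, ⟨g.1.2, g.2.1⟩, g.2.2⟩
  invFun g := ⟨⟨g.1, g.2.1.1⟩, g.2.1.2, g.2.2⟩
  left_inv _ := rfl
  right_inv _ := rfl
  map_mul' _ _ := rfl

/-- The 2-fusion system of the Mathieu group M₁₁ (as the explicit permutation group carved out of the automorphism group of the binary Golay code) on a Sylow 2-subgroup is simple: saturated, over a nontrivial 2-group, with no normal subsystem other than the trivial one and itself. -/
theorem result (S : Sylow 2 Cfsg.Spor.M11) : (Cfsg.groupFusionSystem (S : Subgroup Cfsg.Spor.M11)).IsSimple 2 := by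
  classical
  haveI : Fact (Nat.Prime 2) := ⟨Nat.prime_two⟩
  haveI : IsSimpleGroup ↥(MulAction.stabilizer M24 Cfsg.Spor.squareDodecad ⊓
      MulAction.stabilizer M24 (some 0 : GolayPt)) :=
    CfsgLib.SmallGroups.MathieuSimple.isSimple_M11 square_mem zero_mem_square
  haveI : IsSimpleGroup Cfsg.Spor.M11 :=
    CfsgLib.SmallGroups.MathieuSimple.isSimpleGroup_congr' equivStab
  have hcard : Nat.card Cfsg.Spor.M11 = 7920 := by
    rw [← Nat.card_congr equivStab.toEquiv]
    exact CfsgLib.SmallGroups.MathieuSimple.card_stab_dodecad_point square_mem zero_mem_square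
  let X : Cfsg.Spor.M11 := ⟨permX, permX_mem⟩
  let Y : Cfsg.Spor.M11 := ⟨permY, permY_mem⟩
  have hX : orderOf X = 2 ^ 3 := by
    refine orderOf_eq_prime_pow (n := 2) ?_ ?_
    · intro h
      have h' : permX ^ (2 ^ 2) = 1 := congrArg Subtype.val h
      revert h'
      decide +kernel
    · apply Subtype.ext
      show permX ^ (2 ^ (2 + 1)) = 1
      decide +kernel
  have hY : orderOf Y = 2 := by
    refine orderOf_eq_prime ?_ ?_
    · apply Subtype.ext
      show permY ^ 2 = 1
      decide +kernel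
    · intro h
      have h' : permY = 1 := congrArg Subtype.val h
      revert h'
      decide +kernel
  have hrel : Y * X * Y⁻¹ = X ^ (2 ^ (3 - 1) - 1) := by
    apply Subtype.ext
    show permY * permX * permY⁻¹ = permX ^ (2 ^ (3 - 1) - 1)
    decide +kernel
  refine CfsgLib.Fsys.DihedralSimple.quasiDihedral (fun h => ?_) S ?_
  · have h' : permY * permX = permX * permY := congrArg Subtype.val (h.is_comm.comm Y X)
    revert h'
    decide +kernel
  have hPQ : IsPGroup 2 ↥(Subgroup.zpowers X ⊔ Subgroup.zpowers Y) := by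
    refine IsPGroup.to_sup_of_normal_left' ?_ ?_ ?_
    · exact IsPGroup.of_card (n := 3) (by rw [Nat.card_zpowers, hX])
    · exact IsPGroup.of_card (n := 1) (by rw [Nat.card_zpowers, hY, pow_one])
    · rw [Subgroup.zpowers_le]
      refine Subgroup.mem_normalizer_fintype (S := (Subgroup.zpowers X : Set Cfsg.Spor.M11)) fun n hn => ?_
      obtain ⟨k, rfl⟩ := Subgroup.mem_zpowers_iff.mp hn
      rw [← conj_zpow, hrel]
      exact Subgroup.zpow_mem _ (Subgroup.pow_mem _ (Subgroup.mem_zpowers X) _) k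
  obtain ⟨T, hT⟩ := hPQ.exists_le_sylow
  have hTS : Nat.card (T : Subgroup Cfsg.Spor.M11) = 2 ^ (3 + 1) := by
    have hfac : (7920 : ℕ).factorization 2 = 4 := by
      rw [show (7920 : ℕ) = 2 ^ 4 * 495 by norm_num, Nat.factorization_mul (by norm_num) (by norm_num)]
      rw [Nat.prime_two.factorization_pow, Finsupp.add_apply, Finsupp.single_eq_same,
        Nat.factorization_eq_zero_of_not_dvd (by norm_num : ¬ 2 ∣ 495)]
    rw [Sylow.card_eq_multiplicity, hcard, hfac]
  let e : (T : Subgroup Cfsg.Spor.M11) ≃* (S : Subgroup Cfsg.Spor.M11) := T.equiv S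
  refine ⟨3, le_rfl, by rw [← Nat.card_congr e.toEquiv, hTS],
    e ⟨X, hT (Subgroup.mem_sup_left (Subgroup.mem_zpowers X))⟩,
    e ⟨Y, hT (Subgroup.mem_sup_right (Subgroup.mem_zpowers Y))⟩, ?_, ?_, ?_⟩
  · rw [e.orderOf_eq, Subgroup.orderOf_mk, hX]
  · rw [e.orderOf_eq, Subgroup.orderOf_mk, hY]
  · rw [← map_inv, ← map_mul, ← map_mul, ← map_pow]
    exact congrArg e (Subtype.ext hrel)

end Cfsg.Agent.S5166
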