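import Cfsg.Statements.S2882
import Cfsg.Agent.Lib.LocalEven.AltEightSylow
import Cfsg.Agent.Lib.LocalEven.SylowIn
import Cfsg.Agent.Lib.Sporadic.OctadStabilizer

set_option autoImplicit false
open Cfsg

namespace Cfsg.Agent.S2882

open CfsgLib.SmallGroups.Golay CfsgLib.SmallGroups.GolayOctads CfsgLib.SmallGroups.M24Group
  CfsgLib.SmallGroups.Mathieu CfsgLib.SmallGroups.MathieuSets CfsgLib.Sporadic.OctadStabilizer
open CfsgLib.LocalEven CfsgLib.LocalEven.SylowIn
open scoped Pointwise

theorem octad_eq {o o' : Finset GolayPt} (ho : o ∈ octads) (ho' : o' ∈ octads)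
    (h : ∀ g ∈ ptStab o, g • o' = o') : o' = o := by
  classical
  by_contra hne
  obtain ⟨p, hp', hp⟩ : ∃ p, p ∈ o' ∧ p ∉ o := by
    by_contra hh
    refine hne (Finset.eq_of_subset_of_card_le (fun p hp => by_contra fun h2 => hh ⟨p, hp, h2⟩) ?_)
    rw [ho.2, ho'.2]
  have hinj : Function.Injective fun g : ptStab o => (⟨(g : Equiv.Perm GolayPt) p, by
      have := Finset.smul_mem_smul_finset (a := (g : Equiv.Perm GolayPt)) hp'
      rw [h g g.2, Equiv.Perm.smul_def] at this
      exact this⟩ : ↥o') := by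
    intro a b hab
    have hab' : (a : Equiv.Perm GolayPt) p = (b : Equiv.Perm GolayPt) p := congrArg Subtype.val hab
    have hm : (a : Equiv.Perm GolayPt)⁻¹ * b ∈ ptStab o ⊓ comp o p := by
      have h1 : (a : Equiv.Perm GolayPt)⁻¹ * b ∈ ptStab o := mul_mem (inv_mem a.2) b.2
      refine ⟨h1, ptStab_le o h1, ?_⟩
      show ((a : Equiv.Perm GolayPt)⁻¹ * b) p = p
      rw [Equiv.Perm.mul_apply, ← hab']
      exact (a : Equiv.Perm GolayPt).symm_apply_apply p
    rw [inf_bot ho hp, Subgroup.mem_bot, inv_mul_eq_one] at hm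
    exact Subtype.ext hm
  have := Nat.card_le_card_of_injective _ hinj
  rw [(ptStab_octad ho).1, Nat.card_eq_finsetCard, ho'.2] at this
  omega

/-- In the Mathieu group of degree 24 (realised as the automorphism group of the extended binary Golay code) every Sylow 2-subgroup is self-normalizing. -/
theorem result (S : Sylow 2 ↥Cfsg.M24) : Subgroup.normalizer ((S : Subgroup ↥Cfsg.M24) : Set ↥Cfsg.M24) = (S : Subgroup ↥Cfsg.M24) := by
  haveI : Fact (Nat.Prime 2) := ⟨Nat.prime_two⟩
  refine le_antisymm (fun x hx => ?_) Subgroup.le_normalizer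
  suffices h : AltEightSylow.SelfNorm ↥Cfsg.M24 from h S x hx
  obtain ⟨o, ho⟩ : octads.Nonempty := Set.nonempty_of_ncard_ne_zero (by rw [ncard_octads]; norm_num)
  set Q : Sylow 2 (octStab o) := default
  set U := (Q : Subgroup (octStab o)).map (octStab o).subtype
  have hUo : U ≤ octStab o := Subgroup.map_subtype_le _
  have hUM : U ≤ Cfsg.M24 := hUo.trans inf_le_left
  have hU : Nat.card U = 2 ^ 10 := by
    rw [Subgroup.card_map_of_injective (Subgroup.subtype_injective _), Q.card_eq_multiplicity, card_octStab ho,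
      Nat.factorization_def _ Nat.prime_two]
    congr 1
    rw [show (322560 : ℕ) = 2 ^ 10 * 315 by norm_num, padicValNat.mul (by norm_num) (by norm_num),
      padicValNat.prime_pow, padicValNat.eq_zero_of_not_dvd (by norm_num)]
  have hUp : IsPGroup 2 (U.subgroupOf Cfsg.M24) :=
    IsPGroup.of_card (n := 10) (by rw [Nat.card_congr (Subgroup.subgroupOfEquivOfLe hUM).toEquiv, hU])
  have hidx : ¬ 2 ∣ (U.subgroupOf Cfsg.M24).index := by
    have h := (U.subgroupOf Cfsg.M24).card_mul_index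
    rw [Nat.card_congr (Subgroup.subgroupOfEquivOfLe hUM).toEquiv, hU, card_M24] at h
    omega
  refine AltEightSylow.selfNorm_of (hUp.toSylow hidx) fun x hx => ?_
  set g : Equiv.Perm GolayPt := (x : Equiv.Perm GolayPt)
  have hker : (res o).ker ≤ (Q : Subgroup (octStab o)) := by
    refine IsPGroup.le_sylow_of_normal ?_ Q
    refine IsPGroup.of_card (n := 4) ?_
    rw [ker_res, Nat.card_congr (Subgroup.subgroupOfEquivOfLe (ptStab_le o)).toEquiv, (ptStab_octad ho).1]
    rfl
  have hK : ptStab o ≤ U := fun k hk => ⟨⟨k, ptStab_le o hk⟩, hker (by rw [ker_res]; exact hk), rfl⟩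
  have hgo : g • o = o := by
    refine octad_eq ho (smul_mem_weight x.2 ho) fun k hk => ?_
    have hkM : k ∈ Cfsg.M24 := (mem_ptStab.1 hk).1
    have h1 := (Subgroup.mem_normalizer_iff.1 (inv_mem hx) ⟨k, hkM⟩).1 (hK hk)
    have h2 : g⁻¹ * k * g⁻¹⁻¹ ∈ octStab o := hUo h1
    rw [inv_inv] at h2
    have h3 : (g⁻¹ * k * g) • o = o := h2.2
    rw [mul_smul, mul_smul, inv_smul_eq_iff] at h3
    exact h3
  have hgS : g ∈ octStab o := ⟨x.2, hgo⟩
  set f := (res o).rangeRestrict
  have hf : Function.Surjective f := (res o).rangeRestrict_surjective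
  have hsn : AltEightSylow.SelfNorm (res o).range :=
    (AltEightSylow.selfNorm_alternating (α := ↥o) (by rw [Fintype.card_coe]; exact ho.2)).congr
      (MulEquiv.subgroupCongr (range_res ho).symm)
  have hQn : (⟨g, hgS⟩ : octStab o) ∈ Subgroup.normalizer ((Q : Subgroup (octStab o)) : Set (octStab o)) := by
    refine Subgroup.mem_normalizer_iff.2 fun q => ?_
    have h1 := Subgroup.mem_normalizer_iff.1 hx ⟨(q : Equiv.Perm GolayPt), q.2.1⟩
    have e : ∀ w : octStab o, w ∈ (Q : Subgroup (octStab o)) ↔ (w : Equiv.Perm GolayPt) ∈ U := fun w =>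
      (Subgroup.mem_map_iff_mem (octStab o).subtype_injective).symm
    rw [e, e]
    exact h1
  have hsurj : f ⟨g, hgS⟩ ∈ ((Q.mapSurjective hf : Sylow 2 (res o).range) : Subgroup (res o).range) :=
    hsn _ _ (Subgroup.le_normalizer_map f ⟨_, hQn, rfl⟩)
  obtain ⟨q, hq, he⟩ := hsurj
  have h4 : q⁻¹ * (⟨g, hgS⟩ : octStab o) ∈ (res o).ker := by
    rw [MonoidHom.mem_ker, map_mul, map_inv, inv_mul_eq_one]
    exact congrArg Subtype.val he
  have h5 := mul_mem hq (hker h4)
  rw [mul_inv_cancel_left] at h5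
  exact ⟨⟨g, hgS⟩, h5, rfl⟩

end Cfsg.Agent.S2882
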