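import Cfsg.Statements.S5169
import Cfsg.Agent.Lib.Sporadic.OctadFixed
import Cfsg.Agent.Lib.LocalEven.AltSevenSylow

set_option autoImplicit false
open Cfsg

namespace Cfsg.Agent.S5169

open CfsgLib.SmallGroups.Golay CfsgLib.SmallGroups.GolayOctads CfsgLib.SmallGroups.M24Group
  CfsgLib.SmallGroups.Mathieu CfsgLib.SmallGroups.MathieuSets CfsgLib.Sporadic
open CfsgLib.LocalEven CfsgLib.SmallGroups.MathieuSimple
open scoped Pointwise

theorem card_off (o : Finset GolayPt) (F : Finset GolayPt) (ho : o ∈ octads) (hF : F ⊆ o) :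
    Fintype.card {x : ↥o // (x : GolayPt) ∉ F} = 8 - F.card := by
  classical
  rw [Fintype.card_subtype_compl, Fintype.card_coe, ho.2]
  congr 1
  rw [← Fintype.card_coe F]
  exact Fintype.card_congr ⟨fun x => ⟨x.1.1, x.2⟩, fun x => ⟨⟨x.1, hF x.2⟩, x.2⟩, fun _ => rfl, fun _ => rfl⟩

theorem mem_M23 (g : Equiv.Perm GolayPt) :
    g ∈ Cfsg.Spor.M23 ↔ g ∈ Cfsg.M24 ∧ ∀ p ∈ ({none} : Finset GolayPt), g p = p := by
  simp only [Finset.mem_singleton, forall_eq]
  rfl

theorem card_M23 : Nat.card Cfsg.Spor.M23 = 10200960 := by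
  rw [← card_stab_point (none : GolayPt)]
  exact Nat.card_congr ⟨fun g => ⟨⟨g.1, g.2.1⟩, g.2.2⟩, fun g => ⟨g.1.1, g.1.2, g.2⟩, fun _ => rfl, fun _ => rfl⟩

theorem card_alt (o : Finset GolayPt) (ho : o ∈ octads) (hF : ({none} : Finset GolayPt) ⊆ o) :
    Nat.card (alternatingGroup {x : ↥o // (x : GolayPt) ∉ ({none} : Finset GolayPt)}) = 2520 := by
  classical
  have h7 := card_off o _ ho hF
  rw [Finset.card_singleton] at h7
  have : Nontrivial {x : ↥o // (x : GolayPt) ∉ ({none} : Finset GolayPt)} :=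
    Fintype.one_lt_card_iff_nontrivial.1 (by omega)
  rw [Nat.card_eq_fintype_card, card_alternatingGroup, h7]
  rfl

theorem self_norm (S : Sylow 2 Cfsg.Spor.M23) :
    Subgroup.normalizer ((S : Subgroup Cfsg.Spor.M23) : Set Cfsg.Spor.M23) = (S : Subgroup Cfsg.Spor.M23) := by
  obtain ⟨o, h, hS⟩ := OctadFixed.exists_setting (G := Cfsg.Spor.M23) (by simp) mem_M23 S (N := 253) card_alt
    (by rw [card_M23]) rfl
  exact h.selfNorm S hS (AltSevenSylow.selfNorm_alt_seven (by rw [card_off o _ h.ho h.sub, Finset.card_singleton]))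

/-- The 2-fusion system of the Mathieu group M₂₃ (as the explicit permutation group carved out of the automorphism group of the binary Golay code) on a Sylow 2-subgroup is simple: saturated, over a nontrivial 2-group, with no normal subsystem other than the trivial one and itself. -/
theorem result (S : Sylow 2 Cfsg.Spor.M23) : (Cfsg.groupFusionSystem (S : Subgroup Cfsg.Spor.M23)).IsSimple 2 := by
  obtain ⟨o, h, hS⟩ := OctadFixed.exists_setting (G := Cfsg.Spor.M23) (by simp) mem_M23 S (N := 253) card_alt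
    (by rw [card_M23]) rfl
  exact h.isSimple S hS (AltSevenSylow.closedTop_seven (by rw [card_off o _ h.ho h.sub, Finset.card_singleton]))
    (self_norm S)

end Cfsg.Agent.S5169
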