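import Cfsg.Statements.S5168
import Cfsg.Agent.Lib.Sporadic.OctadFixed
import Cfsg.Agent.Lib.LocalEven.AltSevenSylow
import Cfsg.Agent.S5169

set_option autoImplicit false
open Cfsg

namespace Cfsg.Agent.S5168

open CfsgLib.SmallGroups.Golay CfsgLib.SmallGroups.GolayOctads CfsgLib.SmallGroups.M24Group
  CfsgLib.SmallGroups.Mathieu CfsgLib.SmallGroups.MathieuSets CfsgLib.Sporadic
open CfsgLib.LocalEven CfsgLib.SmallGroups.MathieuSimple
open scoped Pointwise

theorem mem_M22 (g : Equiv.Perm GolayPt) :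
    g ∈ Cfsg.Spor.M22 ↔ g ∈ Cfsg.M24 ∧ ∀ p ∈ ({none, some 0} : Finset GolayPt), g p = p := by
  constructor
  · intro h
    refine ⟨h.1.1, fun p hp => ?_⟩
    simp only [Finset.mem_insert, Finset.mem_singleton] at hp
    rcases hp with rfl | rfl
    exacts [h.1.2, h.2]
  · exact fun h => ⟨⟨h.1, h.2 none (by simp)⟩, h.2 (some 0) (by simp)⟩

theorem card_M22 : Nat.card Cfsg.Spor.M22 = 443520 := by
  rw [← card_stab_two (show (none : GolayPt) ≠ some 0 by simp)]
  exact Nat.card_congr ⟨fun g => ⟨⟨g.1, g.2.1.1⟩, g.2.1.2, g.2.2⟩, fun g => ⟨g.1.1, ⟨g.1.2, g.2.1⟩, g.2.2⟩,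
    fun _ => rfl, fun _ => rfl⟩

theorem card_alt (o : Finset GolayPt) (ho : o ∈ octads) (hF : ({none, some 0} : Finset GolayPt) ⊆ o) :
    Nat.card (alternatingGroup {x : ↥o // (x : GolayPt) ∉ ({none, some 0} : Finset GolayPt)}) = 360 := by
  classical
  have h6 := Cfsg.Agent.S5169.card_off o _ ho hF
  rw [Finset.card_pair (show (none : GolayPt) ≠ some 0 by simp)] at h6
  have : Nontrivial {x : ↥o // (x : GolayPt) ∉ ({none, some 0} : Finset GolayPt)} :=
    Fintype.one_lt_card_iff_nontrivial.1 (by omega)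
  rw [Nat.card_eq_fintype_card, card_alternatingGroup, h6]
  rfl

theorem self_norm (S : Sylow 2 Cfsg.Spor.M22) :
    Subgroup.normalizer ((S : Subgroup Cfsg.Spor.M22) : Set Cfsg.Spor.M22) = (S : Subgroup Cfsg.Spor.M22) := by
  have : Fact (Nat.Prime 2) := ⟨Nat.prime_two⟩
  have hle : Cfsg.Spor.M22 ≤ Cfsg.Spor.M23 := fun x hx => hx.1
  set i := Subgroup.inclusion hle
  have hi : Function.Injective i := Subgroup.inclusion_injective hle
  have hp : IsPGroup 2 ((S : Subgroup Cfsg.Spor.M22).map i) := S.2.map i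
  have hidx : ¬ 2 ∣ ((S : Subgroup Cfsg.Spor.M22).map i).index := by
    have h := ((S : Subgroup Cfsg.Spor.M22).map i).card_mul_index
    rw [Subgroup.card_map_of_injective hi, Cfsg.Agent.S5169.card_M23, S.card_eq_multiplicity, card_M22,
      Nat.factorization_def _ Nat.prime_two, show (443520 : ℕ) = 2 ^ 7 * 3465 by norm_num,
      padicValNat.mul (by norm_num) (by norm_num), padicValNat.prime_pow,
      padicValNat.eq_zero_of_not_dvd (by norm_num)] at h
    omega
  refine le_antisymm (fun g hg => ?_) Subgroup.le_normalizer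
  have h1 : i g ∈ Subgroup.normalizer ((hp.toSylow hidx : Subgroup Cfsg.Spor.M23) : Set Cfsg.Spor.M23) :=
    Subgroup.le_normalizer_map i ⟨g, hg, rfl⟩
  rw [Cfsg.Agent.S5169.self_norm] at h1
  exact (Subgroup.mem_map_iff_mem hi).1 h1

/-- The 2-fusion system of the Mathieu group M₂₂ (as the explicit permutation group carved out of the automorphism group of the binary Golay code) on a Sylow 2-subgroup is simple: saturated, over a nontrivial 2-group, with no normal subsystem other than the trivial one and itself. -/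
theorem result (S : Sylow 2 Cfsg.Spor.M22) : (Cfsg.groupFusionSystem (S : Subgroup Cfsg.Spor.M22)).IsSimple 2 := by
  obtain ⟨o, h, hS⟩ := OctadFixed.exists_setting (G := Cfsg.Spor.M22) (by simp) mem_M22 S (N := 77) card_alt
    (by rw [card_M22]) rfl
  exact h.isSimple S hS (AltSevenSylow.closedTop_six (by
    rw [Cfsg.Agent.S5169.card_off o _ h.ho h.sub, Finset.card_pair (show (none : GolayPt) ≠ some 0 by simp)]))
    (self_norm S)

end Cfsg.Agent.S5168
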