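import Cfsg.Statements.S0292
import Cfsg.Agent.Lib.Classical.OrthPOmega

set_option autoImplicit false
open Cfsg

namespace Cfsg.Agent.S0292

/-- 2 |PΩ_{2m+1}(q)| = q^(m^2) prod_{i=1}^{m} (q^(2i) - 1), for q odd and m at least 3 (type B_m). -/
theorem result {F : Type*} [Field F] [Fintype F] {q : ℕ} (hF : Fintype.card F = q) (hodd : Odd q) (m : ℕ) (hm : 3 ≤ m) : 2 * Nat.card (Cfsg.POmega F (Cfsg.quadFormOdd m F)) = q ^ (m ^ 2) * ∏ i ∈ Finset.range m, (q ^ (2 * (i + 1)) - 1) := by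
  classical
  subst hF
  have h2 : (2 : F) ≠ 0 := CfsgLib.KnownC.OrthTools.two_ne_zero_of_odd rfl hodd
  have hQ := CfsgLib.Orth.oddForm_nondeg (F := F) m h2
  have hp := CfsgLib.Classical.hypPairs_odd (F := F) m (by omega)
  have h := CfsgLib.Classical.card_pomega_mul (Qf := Cfsg.quadFormOdd m F) (CfsgLib.Orth.oddForm F m)
    (CfsgLib.Orth.oddForm_apply m)
  rw [CfsgLib.Classical.index_commutator_odd hQ h2 hp.two_le_finrank,
    CfsgLib.Classical.card_orth_odd rfl h2] at h
  have hneg : CfsgLib.Classical.negEl (CfsgLib.Orth.oddForm F m) ∉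
      commutator (CfsgLib.Orth.orthGroup (CfsgLib.Orth.oddForm F m)) := by
    intro hm'
    have hd := ((CfsgLib.Orth.mem_commutator_odd hQ h2 _).1 hm').1
    have e : ((CfsgLib.Classical.negEl (CfsgLib.Orth.oddForm F m)).1 :
        (Unit ⊕ (Fin m ⊕ Fin m) → F) →ₗ[F] (Unit ⊕ (Fin m ⊕ Fin m) → F)) = (-1 : F) • LinearMap.id :=
      LinearMap.ext fun v => by simp [CfsgLib.Classical.negEl]
    have hodd' : Odd (1 + (m + m)) := ⟨m, by omega⟩
    rw [e, LinearMap.det_smul, Module.finrank_pi, LinearMap.det_id, mul_one] at hd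
    simp only [Fintype.card_sum, Fintype.card_unit, Fintype.card_fin, hodd'.neg_one_pow] at hd
    exact h2 (by linear_combination -hd)
  rw [CfsgLib.Classical.card_center_odd_not hQ h2 hp hneg, mul_one, mul_assoc 2] at h
  omega

end Cfsg.Agent.S0292
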