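import Cfsg.Statements.S0385
import Cfsg.Agent.Lib.SmallGroups.MathieuSets

set_option autoImplicit false
open Cfsg CfsgLib.SmallGroups.Golay CfsgLib.SmallGroups.GolayOctads CfsgLib.SmallGroups.M24Group
  CfsgLib.SmallGroups.Mathieu CfsgLib.SmallGroups.MathieuSimple CfsgLib.SmallGroups.MathieuSets
open scoped Pointwise

namespace Cfsg.Agent.S0385

/-- The 6-point intersections of octads with a fixed dodecad form a Steiner system S(5, 6, 12) on the dodecad. -/
theorem result (d : Finset Cfsg.GolayPt) (hd : d ∈ Cfsg.dodecads) : Cfsg.IsSteinerSystem 5 6 {h : Finset {p : Cfsg.GolayPt // p ∈ d} | ∃ o ∈ Cfsg.octads, (o ∩ d).card = 6 ∧ h = Finset.subtype (fun p => p ∈ d) o} := by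
  classical
  have hsub : ∀ o : Finset Cfsg.GolayPt, (Finset.subtype (fun p => p ∈ d) o).card = (o ∩ d).card := by
    intro o
    rw [Finset.card_subtype, Finset.filter_mem_eq_inter]
  refine ⟨?_, fun s hs => ?_⟩
  · rintro h ⟨o, -, hc, rfl⟩
    rw [hsub, hc]
  · obtain ⟨o, ⟨ho, hso⟩, huniq⟩ := octads_steiner.2 (s.map (Function.Embedding.subtype _))
      (by rw [Finset.card_map, hs])
    have hsub5 : s.map (Function.Embedding.subtype _) ⊆ o ∩ d := fun x hx => by
      refine Finset.mem_inter.mpr ⟨hso hx, ?_⟩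
      obtain ⟨y, -, rfl⟩ := Finset.mem_map.mp hx
      exact y.2
    have hc : (o ∩ d).card = 6 := octad_inter_dodecad ho hd (by
      have := Finset.card_le_card hsub5
      rwa [Finset.card_map, hs] at this)
    refine ⟨_, ⟨⟨o, ho, hc, rfl⟩, fun y hy => Finset.mem_subtype.mpr (hso (Finset.mem_map_of_mem _ hy))⟩, ?_⟩
    rintro h ⟨⟨o', ho', -, rfl⟩, hs'⟩
    rw [huniq o' ⟨ho', fun x hx => ?_⟩]
    obtain ⟨y, hy, rfl⟩ := Finset.mem_map.mp hx
    exact Finset.mem_subtype.mp (hs' hy)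

end Cfsg.Agent.S0385
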