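import Cfsg.Agent.Lib.Sporadic.M24Orbits
import Cfsg.Prelude.Def_Spor_Mathieu
import Cfsg.Statements.S5620
-- import your own Cfsg.Agent.* helpers here

set_option autoImplicit false
open scoped Pointwise
open Cfsg

namespace Cfsg.Agent.S5620
open Cfsg.Spor CfsgLib.SmallGroups.Golay CfsgLib.SmallGroups.GolayOctads CfsgLib.SmallGroups.Mathieu CfsgLib.Sporadic.M24Orbits
open scoped Pointwise

/-- Doubling. -/
def tblA : List ℕ := [0, 2, 4, 6, 8, 10, 12, 14, 16, 18, 20, 22, 1, 3, 5, 7, 9, 11, 13, 15, 17, 19, 21, 23]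

/-- A second element. -/
def tblB : List ℕ := [13, 12, 9, 4, 16, 22, 18, 7, 3, 6, 5, 19, 1, 0, 14, 10, 8, 21, 2, 17, 20, 11, 15, 23]

theorem tblA_ok : okTbl tblA = true := by decide +kernel

theorem tblB_ok : okTbl tblB = true := by decide +kernel

theorem sq_eq : squareDodecad = toSet 340831 := by decide +kernel

theorem sq_mem : squareDodecad ∈ Cfsg.dodecads :=
  mem_dodecads.2 ⟨340831, mem_cwOfWeight.2 ⟨mem_cw.2 ⟨340831 % 4096, by norm_num, by decide +kernel⟩, by decide +kernel⟩, sq_eq.symm⟩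

theorem compl_mem : Finset.univ \ squareDodecad ∈ Cfsg.dodecads :=
  mem_dodecads.2 ⟨16436384, mem_cwOfWeight.2 ⟨mem_cw.2 ⟨16436384 % 4096, by norm_num, by decide +kernel⟩, by decide +kernel⟩,
    by decide +kernel⟩

theorem mem_stab {A : Equiv.Perm Cfsg.GolayPt} {t : List ℕ} (hA : A ∈ Cfsg.M24)
    (hi : ∀ p, idx (A p) = tblNat t (idx p)) (h1 : img (tblNat t) 340831 = 340831) (h2 : tblNat t 23 = 23) :
    A ∈ M12 ⊓ MulAction.stabilizer (Equiv.Perm Cfsg.GolayPt) (none : Cfsg.GolayPt) := by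
  refine ⟨⟨hA, ?_⟩, idx_injective ?_⟩
  · show A • squareDodecad = squareDodecad
    rw [sq_eq, smul_toSet hi, h1]
  · show idx (A none) = idx none
    rw [hi]
    exact h2

/-- Inside the stabiliser of the dodecad of squares (a Mathieu group of degree 12), the stabiliser of the residue 0 (a point of the dodecad) and the stabiliser of the extra point (a point outside the dodecad) are isomorphic but not conjugate; conjugation by a suitable element of the code's group that maps the dodecad of squares onto its complement carries the first onto the second. -/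
theorem result : Nonempty (↥(Cfsg.Spor.M12 ⊓ MulAction.stabilizer (Equiv.Perm Cfsg.GolayPt) (none : Cfsg.GolayPt)) ≃* ↥Cfsg.Spor.M11) ∧ (¬ ∃ k ∈ Cfsg.Spor.M12, MulAut.conj k • Cfsg.Spor.M11 = Cfsg.Spor.M12 ⊓ MulAction.stabilizer (Equiv.Perm Cfsg.GolayPt) (none : Cfsg.GolayPt)) ∧ ∃ g ∈ Cfsg.M24, g • Cfsg.Spor.squareDodecad = Finset.univ \ Cfsg.Spor.squareDodecad ∧ MulAut.conj g • Cfsg.Spor.M11 = Cfsg.Spor.M12 ⊓ MulAction.stabilizer (Equiv.Perm Cfsg.GolayPt) (none : Cfsg.GolayPt) := by
  classical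
  obtain ⟨h, hh⟩ := dodecads_transitive sq_mem compl_mem
  have hh' : (h : Equiv.Perm Cfsg.GolayPt) • squareDodecad = Finset.univ \ squareDodecad := hh
  have hmov : ∀ p ∈ squareDodecad, (h : Equiv.Perm Cfsg.GolayPt) p ∈ Finset.univ \ squareDodecad := fun p hp =>
    hh' ▸ Finset.smul_mem_smul_finset (a := (h : Equiv.Perm Cfsg.GolayPt)) hp
  have h1 : (1 : Fin 2) ≠ 0 := by decide
  let a : Fin 2 ↪ Cfsg.GolayPt := ⟨![(h : Equiv.Perm Cfsg.GolayPt) (some 0), (h : Equiv.Perm Cfsg.GolayPt) (some 1)],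
    fun i j e => by
      fin_cases i <;> fin_cases j <;> simp_all
      all_goals exact absurd e (by decide)⟩
  let b : Fin 2 ↪ Cfsg.GolayPt := ⟨![none, some 5], fun i j e => by fin_cases i <;> fin_cases j <;> simp_all⟩
  obtain ⟨k, hk⟩ := dodecad_transitive_points compl_mem a b
    (fun i => by
      fin_cases i
      · exact hmov _ (by decide +kernel)
      · exact hmov _ (by decide +kernel))
    (fun i => by fin_cases i <;> decide +kernel)
  set g : Equiv.Perm Cfsg.GolayPt := ((k : Cfsg.M24) : Equiv.Perm Cfsg.GolayPt) * (h : Equiv.Perm Cfsg.GolayPt) with hg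
  have hgM : g ∈ Cfsg.M24 := mul_mem (k : Cfsg.M24).2 h.2
  have hk' : ((k : Cfsg.M24) : Equiv.Perm Cfsg.GolayPt) • (Finset.univ \ squareDodecad) = Finset.univ \ squareDodecad := k.2
  have hgd : g • squareDodecad = Finset.univ \ squareDodecad := by rw [hg, mul_smul, hh', hk']
  have hg0 : g (some 0) = none := hk 0
  have hgi : g⁻¹ (none : Cfsg.GolayPt) = some 0 := by rw [Equiv.Perm.inv_def, Equiv.symm_apply_eq, hg0]
  have key : MulAut.conj g • M11 = M12 ⊓ MulAction.stabilizer (Equiv.Perm Cfsg.GolayPt) (none : Cfsg.GolayPt) := by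
    ext x
    rw [Subgroup.mem_pointwise_smul_iff_inv_smul_mem, MulAut.smul_def]
    show g⁻¹ * x * g ∈ M11 ↔ _
    have hfix : ∀ y : Equiv.Perm Cfsg.GolayPt, y • (Finset.univ \ squareDodecad) = Finset.univ \ squareDodecad ↔
        y • squareDodecad = squareDodecad := fun y => by
      rw [Finset.smul_finset_sdiff, Finset.smul_finset_univ]
      refine ⟨fun e => ?_, fun e => by rw [e]⟩
      have := congrArg (fun s => Finset.univ \ s) e
      simpa [sdiff_sdiff_right_self, Finset.inf_eq_inter] using this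
    simp only [M11, M12, Subgroup.mem_inf, MulAction.mem_stabilizer_iff, Equiv.Perm.smul_def]
    constructor
    · rintro ⟨⟨hM, hd⟩, hp⟩
      refine ⟨⟨?_, (hfix x).1 ?_⟩, ?_⟩
      · have := mul_mem (mul_mem hgM hM) (inv_mem hgM)
        simpa [mul_assoc] using this
      · rw [← hgd]
        rw [mul_smul, mul_smul, inv_smul_eq_iff] at hd
        exact hd
      · rw [Equiv.Perm.mul_apply, Equiv.Perm.mul_apply, Equiv.Perm.inv_def, Equiv.symm_apply_eq, hg0] at hp
        exact hp
    · rintro ⟨⟨hM, hd⟩, hp⟩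
      refine ⟨⟨mul_mem (mul_mem (inv_mem hgM) hM) hgM, ?_⟩, ?_⟩
      · rw [mul_smul, mul_smul, inv_smul_eq_iff, hgd, (hfix x).2 hd]
      · rw [Equiv.Perm.mul_apply, Equiv.Perm.mul_apply, hg0, hp, hgi]
  refine ⟨⟨?_⟩, ?_, g, hgM, hgd, key⟩
  · rw [← key]
    exact (Subgroup.equivSMul (MulAut.conj g) M11).symm
  · rintro ⟨u, hu, he⟩
    have hu0 : u (some 0) ∈ squareDodecad := by
      have e : u • squareDodecad = squareDodecad := hu.2
      rw [← e, ← Equiv.Perm.smul_def]
      exact Finset.smul_mem_smul_finset (by decide +kernel)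
    have hfixed : ∀ x ∈ M12 ⊓ MulAction.stabilizer (Equiv.Perm Cfsg.GolayPt) (none : Cfsg.GolayPt),
        x (u (some 0)) = u (some 0) := by
      intro x hx
      rw [← he, Subgroup.mem_pointwise_smul_iff_inv_smul_mem, MulAut.smul_def] at hx
      replace hx : u⁻¹ * x * u ∈ M11 := hx
      have h2 : (u⁻¹ * x * u) (some 0) = some 0 := hx.2
      rw [Equiv.Perm.mul_apply, Equiv.Perm.mul_apply, Equiv.Perm.inv_def, Equiv.symm_apply_eq] at h2
      exact h2
    obtain ⟨A, hA, hAi⟩ := exists_elt tblA_ok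
    obtain ⟨B, hB, hBi⟩ := exists_elt tblB_ok
    have hA0 := hfixed A (mem_stab hA hAi (by decide +kernel) (by decide +kernel))
    have hB0 := hfixed B (mem_stab hB hBi (by decide +kernel) (by decide +kernel))
    have honly : ∀ p ∈ squareDodecad, tblNat tblA (idx p) = idx p → p = some 0 := by decide +kernel
    have hz : u (some 0) = some 0 := honly _ hu0 (by rw [← hAi, hA0])
    rw [hz] at hB0
    have := hBi (some 0)
    rw [hB0] at this
    exact absurd this (by decide +kernel)

end Cfsg.Agent.S5620
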