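import Cfsg.Statements.S0421
import Cfsg.Agent.Lib.KGroups.M12Columns
import Cfsg.Agent.Lib.KGroups.M12Point
import Cfsg.Agent.Lib.KGroups.M12Ident

set_option autoImplicit false
open scoped Pointwise
open Cfsg

namespace Cfsg.Agent.S0421

/-- Simple groups of order 95040 are all isomorphic to the concrete Mathieu group of degree 12. -/
theorem result {G : Type*} [Group G] [Finite G] (hG : Cfsg.IsM12 G) (d : Finset Cfsg.GolayPt) (hd : d ∈ Cfsg.dodecads) : Nonempty (G ≃* ↥(MulAction.stabilizer Cfsg.M24 d)) := by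
  obtain ⟨hsimple, hcard⟩ := hG
  have := hsimple
  have := Fintype.ofFinite G
  obtain ⟨x, z, χ, hx, hz, hxz, hC, hN, hns, hd', hreal, hχx, hχxz, hχz, hinv, ha⟩ :=
    CfsgLib.KGroups.M12Columns.exists_point_data hcard
  obtain ⟨H, hH⟩ := CfsgLib.KGroups.M12Point.exists_index_twelve hcard x z hx hz hxz hC hN hns χ hd' hreal hχx hχxz
    hχz hinv ha
  exact CfsgLib.KGroups.M12Ident.nonempty_mulEquiv hcard H hH d hd

end Cfsg.Agent.S0421
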