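import Cfsg.Statements.S2278
import Cfsg.Agent.Lib.Classical.TwoUnipotent
import Cfsg.Agent.Lib.Classical.SubfieldGen

set_option autoImplicit false
set_option backward.isDefEq.respectTransparency false
open Cfsg Matrix

namespace Cfsg.Agent.S2278

open CfsgLib.Classical.UnipotentGen

variable {F : Type*} [Field F] [Fintype F]

/-- The perturbed upper shift. -/
def nilU (γ : F) : Matrix (Fin 3) (Fin 3) F := !![0, 1, γ; 0, 0, 1; 0, 0, 0]

theorem big (z : Fˣ) (hz : ∀ x, x ∈ Subgroup.zpowers z) (h : Fintype.card F = 3 ∨ 5 ≤ Fintype.card F) :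
    ∃ g : Matrix.SpecialLinearGroup (Fin 3) F,
      Subgroup.closure ({loU 2 F, g * loU 2 F * g⁻¹} : Set (Matrix.SpecialLinearGroup (Fin 3) F)) = ⊤ := by
  have hord : orderOf z = Fintype.card F - 1 := by
    rw [orderOf_eq_card_of_forall_mem_zpowers hz, Nat.card_units, Nat.card_eq_fintype_card]
  have hz1 : (z : F) ≠ 1 := fun e => by
    rw [Units.val_eq_one] at e
    rw [e, orderOf_one] at hord
    omega
  have hz3 : (z : F) ^ 3 ≠ 1 := fun e => by
    rw [← Units.val_pow_eq_pow_val, Units.val_eq_one] at e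
    have := orderOf_dvd_of_pow_eq_one e
    rw [hord] at this
    have := (Nat.dvd_prime Nat.prime_three).1 this
    omega
  obtain ⟨u, -, hconj, htop⟩ := exists_diag (le_refl 2) ![(z : F), ((z : F) ^ 2)⁻¹, z] z rfl rfl
    (fun i h0 hl => by
      fin_cases i
      · exact absurd rfl h0
      · show ((z : F) ^ 2)⁻¹ ≠ z
        intro e
        refine hz3 ?_
        have : (z : F) ^ 2 * z = 1 := by
          nth_rw 2 [← e]
          exact mul_inv_cancel₀ (pow_ne_zero _ z.ne_zero)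
        linear_combination this
      · exact absurd rfl hl)
    (by
      rw [Fin.prod_univ_three]
      show (z : F) * ((z : F) ^ 2)⁻¹ * z = 1
      have := z.ne_zero
      field_simp)
    hz1
  obtain ⟨g, rfl⟩ := hconj 1 one_ne_zero (by
    simp [Fin.prod_univ_succ]
    have := z.ne_zero
    field_simp)
  refine ⟨g, ?_⟩
  rw [Set.pair_comm]
  refine htop fun S hS => ?_
  rcases h with h | h
  · exact subfield_top_of_prime (h ▸ Nat.prime_three) S
  refine subfield_top_of_pow z hz 3 (Or.inr ⟨rfl, h⟩) (by norm_num) S ?_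
  have h' : ((z : F) ^ 2)⁻¹ / (z : F) ∈ S := hS
  rw [div_eq_mul_inv, ← mul_inv] at h'
  have h'' := inv_mem h'
  rw [inv_inv] at h''
  rw [Units.val_pow_eq_pow_val, pow_succ]
  exact h''

theorem two_eq_zero (h : Fintype.card F = 2 ∨ Fintype.card F = 4) : (2 : F) = 0 := by
  have h4 : ((4 : ℕ) : F) = 0 := by
    rcases h with h | h
    · rw [show (4 : ℕ) = 2 * Fintype.card F by omega, Nat.cast_mul, FiniteField.cast_card_eq_zero, mul_zero]
    · rw [← h, FiniteField.cast_card_eq_zero]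
  have h4' : (2 : F) * 2 = 0 := by norm_num at h4 ⊢; exact h4
  exact mul_self_eq_zero.1 h4'

theorem word (γ : F) (h2 : (2 : F) = 0) (hγ : γ ^ 2 + γ + 1 = 0) :
    (!![1, 1, γ; 0, 1, 1; 0, 0, 1] * !![1, 0, 0; 0, 1, 0; 1, 0, 1] * !![1, 0, 1; 0, 1, 0; 0, 0, 1] *
        !![1, 0, 0; 1, 1, 0; 1, 1, 1] * (!![1, 0, 1; 0, 1, 0; 0, 0, 1] * !![1, 0, 0; 0, 1, 0; 1, 0, 1]) :
      Matrix (Fin 3) (Fin 3) F) = !![1, 0, γ; 0, 1, 0; 0, 0, 1] := by
  rw [Matrix.mul_fin_three, Matrix.mul_fin_three, Matrix.mul_fin_three, Matrix.mul_fin_three,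
    Matrix.mul_fin_three]
  ext i j
  fin_cases i <;> fin_cases j <;>
    simp only [Fin.zero_eta, Fin.mk_one, Fin.reduceFinMk, Matrix.cons_val, Matrix.of_apply] <;> grobner

theorem small (h : Fintype.card F = 2 ∨ Fintype.card F = 4) :
    ∃ g : Matrix.SpecialLinearGroup (Fin 3) F,
      Subgroup.closure ({loU 2 F, g * loU 2 F * g⁻¹} : Set (Matrix.SpecialLinearGroup (Fin 3) F)) = ⊤ := by
  classical
  have h2 : (2 : F) = 0 := two_eq_zero h
  obtain ⟨γ, hγ⟩ : ∃ γ : F, (Fintype.card F = 4 → γ ^ 2 + γ + 1 = 0) := by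
    rcases h with h | h
    · exact ⟨0, fun e => by omega⟩
    obtain ⟨γ, -, hγ⟩ := Finset.exists_mem_notMem_of_card_lt_card (s := ({0, 1} : Finset F)) (t := Finset.univ)
      (lt_of_le_of_lt Finset.card_le_two (by rw [Finset.card_univ, h]; omega))
    simp only [Finset.mem_insert, Finset.mem_singleton, not_or] at hγ
    refine ⟨γ, fun _ => ?_⟩
    have h3 := FiniteField.pow_card_sub_one_eq_one γ hγ.1
    rw [h] at h3
    have : (γ - 1) * (γ ^ 2 + γ + 1) = 0 := by linear_combination h3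
    exact (mul_eq_zero.1 this).resolve_left (sub_ne_zero.2 hγ.2)
  set N := nilU γ with hN
  have hx : N ^ (2 + 1) *ᵥ ev (2 : Fin 3) = 0 := by
    rw [hN]; ext i; fin_cases i <;> simp [pow_succ, nilU, Fin.sum_univ_three, ev]
  have hK : (kry (m := 2) N (ev 2)).det = (1 : F) ^ (2 + 1) := by
    rw [det_fin_three, one_pow, hN]
    simp [kry, nilU, pow_succ, Fin.sum_univ_three, ev]
    linear_combination -h2
  obtain ⟨g, hg⟩ := exists_conj hx one_ne_zero hK
  obtain ⟨-, -, hdet⟩ := regular_of_kry hx (by rw [hK, one_pow]; exact one_ne_zero)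
  let u : Matrix.SpecialLinearGroup (Fin 3) F := ⟨1 + N, hdet⟩
  have hgu : g * loU 2 F * g⁻¹ = u := mul_inv_eq_iff_eq_mul.2 (Subtype.ext hg)
  refine ⟨g, ?_⟩
  rw [hgu]
  set H := Subgroup.closure ({loU 2 F, u} : Set (Matrix.SpecialLinearGroup (Fin 3) F))
  have hu : HS H (1 + N) := ⟨u, Subgroup.subset_closure (by simp), rfl⟩
  have hv : HS H (loW 2 F) := ⟨loU 2 F, Subgroup.subset_closure (by simp), rfl⟩
  have eW : loW 2 F = !![1, 0, 0; 1, 1, 0; 0, 1, 1] := by
    ext i j; fin_cases i <;> fin_cases j <;> simp [loW, loN]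
  have hV : HS H (!![1, 0, 0; 1, 1, 0; 1, 1, 1] : Matrix (Fin 3) (Fin 3) F) := hv.inv (by
    rw [eW]; ext i j; fin_cases i <;> fin_cases j <;>
      simp [Matrix.mul_apply, Fin.sum_univ_three] <;>
      linear_combination h2)
  have etv : ∀ c : F, tv (c • ev 0) (ev (Fin.last 2)) = (!![1, 0, c; 0, 1, 0; 0, 0, 1] : Matrix (Fin 3) (Fin 3) F) := by
    intro c
    ext i j; fin_cases i <;> fin_cases j <;> simp [tv, ev, vecMulVec_apply, Fin.last]
  have hN2 : (1 + N) * (1 + N) = !![1, 0, 1; 0, 1, 0; 0, 0, 1] := by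
    rw [hN]
    ext i j; fin_cases i <;> fin_cases j <;>
      simp [nilU, Matrix.mul_apply, Fin.sum_univ_three] <;> grobner
  have hvv : loW 2 F * loW 2 F = !![1, 0, 0; 0, 1, 0; 1, 0, 1] := by
    rw [eW]
    ext i j; fin_cases i <;> fin_cases j <;>
      simp [Matrix.mul_apply, Fin.sum_univ_three] <;> grobner
  have hU : 1 + N = !![1, 1, γ; 0, 1, 1; 0, 0, 1] := by
    rw [hN]
    ext i j; fin_cases i <;> fin_cases j <;> simp [nilU]
  have hc : HS H (tv ((1 : F) • ev 0) (ev (Fin.last 2))) := by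
    rw [etv, ← hN2]; exact hu.mul hu
  rcases h with h | h
  · exact eq_top_of_two (le_refl 2) hv one_ne_zero hc hc fun S _ => subfield_top_of_prime (h ▸ Nat.prime_two) S
  have hγ' := hγ h
  have hd : HS H (tv (γ • ev 0) (ev (Fin.last 2))) := by
    have hw := (((hu.mul (hv.mul hv)).mul (hu.mul hu)).mul hV).mul ((hu.mul hu).mul (hv.mul hv))
    convert hw using 1
    rw [etv, hN2, hvv, hU, word γ h2 hγ']
  refine eq_top_of_two (le_refl 2) hv one_ne_zero hc hd fun S hS => ?_
  rcases subfield_top_or S with h' | ⟨h2', hle⟩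
  · exact h'
  exfalso
  rw [div_one] at hS
  rw [h] at hle
  have hS2 : Nat.card S = 2 := by nlinarith
  haveI : Fintype S := Fintype.ofFinite S
  rw [Nat.card_eq_fintype_card] at hS2
  have h3 := FiniteField.pow_card (⟨γ, hS⟩ : S)
  rw [hS2] at h3
  have h4 : γ ^ 2 = γ := congrArg Subtype.val h3
  exact one_ne_zero (α := F) (by linear_combination hγ' - h4 - γ * h2)

/-- Let F be a finite field. Then SL_3(F) is generated by two conjugate regular unipotent elements: there are u with u − 1 nilpotent and (u − 1)² ≠ 0, and g, such that u and g u g⁻¹ generate SL_3(F). -/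
theorem result {F : Type*} [Field F] [Fintype F] :
    ∃ u g : Matrix.SpecialLinearGroup (Fin 3) F, IsNilpotent ((u : Matrix (Fin 3) (Fin 3) F) - 1) ∧ ((u : Matrix (Fin 3) (Fin 3) F) - 1) ^ (3 - 1) ≠ 0 ∧
      Subgroup.closure ({u, g * u * g⁻¹} : Set (Matrix.SpecialLinearGroup (Fin 3) F)) = ⊤ := by
  classical
  obtain ⟨z, hz⟩ := IsCyclic.exists_generator (α := Fˣ)
  have hq : Fintype.card F = 2 ∨ Fintype.card F = 4 ∨ (Fintype.card F = 3 ∨ 5 ≤ Fintype.card F) := by
    have := Fintype.one_lt_card (α := F)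
    omega
  obtain ⟨g, hg⟩ : ∃ g : Matrix.SpecialLinearGroup (Fin 3) F,
      Subgroup.closure ({loU 2 F, g * loU 2 F * g⁻¹} : Set (Matrix.SpecialLinearGroup (Fin 3) F)) = ⊤ := by
    rcases hq with h | h | h
    · exact small (Or.inl h)
    · exact small (Or.inr h)
    · exact big z hz h
  exact ⟨loU 2 F, g, reg_loU.1, reg_loU.2, hg⟩

end Cfsg.Agent.S2278
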