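import Cfsg.Statements.S2279
import Cfsg.Agent.Lib.Classical.UnipotentGadgets

set_option autoImplicit false
set_option backward.isDefEq.respectTransparency false
open Cfsg Matrix

namespace Cfsg.Agent.S2279

open CfsgLib.Classical.UnipotentGen

variable {F : Type*} [Field F] [Fintype F] {m : ℕ}

theorem diag_case (hm : 3 ≤ m) (g : ℕ → F) (β : F) (h0 : g 0 = β) (hl : g m = β)
    (hmid : ∀ l, 1 ≤ l → l < m → g l ≠ β) (hprod : ∏ l ∈ Finset.range (m + 1), g l = 1) (hβ : β ≠ 1) :
    ∃ u : Matrix.SpecialLinearGroup (Fin (m + 1)) F, Reg u ∧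
      (∀ c : F, c ≠ 0 → (∏ l ∈ Finset.range (m + 1), g l ^ (m - l)) = c ^ (m + 1) →
        ∃ h : Matrix.SpecialLinearGroup (Fin (m + 1)) F, h * loU m F * h⁻¹ = u) ∧
      ((∀ S : Subfield F, g 1 / β ∈ S → S = ⊤) →
        Subgroup.closure ({u, loU m F} : Set (Matrix.SpecialLinearGroup (Fin (m + 1)) F)) = ⊤) := by
  obtain ⟨u, hu, hconj, htop⟩ := exists_diag (by omega : 2 ≤ m) (fun i : Fin (m + 1) => g i.val) β h0
    (by show g (Fin.last m).val = β; rw [Fin.val_last, hl])
    (fun i hi0 hil => hmid i.val (Nat.pos_of_ne_zero fun e => hi0 (Fin.ext e)) (by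
      have : i.val ≠ m := fun e => hil (Fin.ext (by rw [Fin.val_last]; exact e))
      omega))
    (by rw [Fin.prod_univ_eq_prod_range g]; exact hprod) hβ
  exact ⟨u, hu, fun c hc h => hconj c hc ((prod_prefix g m).trans h), htop⟩

theorem prime_case (hm : 3 ≤ m) (hp : (Fintype.card F).Prime) :
    ∃ h : Matrix.SpecialLinearGroup (Fin (m + 1)) F,
      Subgroup.closure ({loU m F, h * loU m F * h⁻¹} : Set (Matrix.SpecialLinearGroup (Fin (m + 1)) F)) = ⊤ := by
  classical
  obtain ⟨z, hz⟩ := IsCyclic.exists_generator (α := Fˣ)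
  have hord : orderOf z = Fintype.card F - 1 := by
    rw [orderOf_eq_card_of_forall_mem_zpowers hz, Nat.card_units, Nat.card_eq_fintype_card]
  have finish : ∀ (g : ℕ → F) (β c : F), g 0 = β → g m = β → (∀ l, 1 ≤ l → l < m → g l ≠ β) →
      (∏ l ∈ Finset.range (m + 1), g l = 1) → β ≠ 1 → c ≠ 0 →
      (∏ l ∈ Finset.range (m + 1), g l ^ (m - l)) = c ^ (m + 1) →
      ∃ h : Matrix.SpecialLinearGroup (Fin (m + 1)) F,
        Subgroup.closure ({loU m F, h * loU m F * h⁻¹} : Set (Matrix.SpecialLinearGroup (Fin (m + 1)) F)) = ⊤ := by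
    intro g β c h0 hl hmid hprod hβ hc hd
    obtain ⟨u, -, hconj, htop⟩ := diag_case hm g β h0 hl hmid hprod hβ
    obtain ⟨h, rfl⟩ := hconj c hc hd
    exact ⟨h, by rw [Set.pair_comm]; exact htop fun S _ => subfield_top_of_prime hp S⟩
  by_cases h2 : Fintype.card F = 2
  · exact exists_two h2 hm
  by_cases h3 : Fintype.card F = 3
  · rcases Nat.even_or_odd m with he | ho
    · have h30 : (3 : F) = 0 := by
        have := FiniteField.cast_card_eq_zero F
        rw [h3] at this; exact_mod_cast this
      have hne : (-1 : F) ≠ 1 := fun e => one_ne_zero (α := F) (by linear_combination e + h30)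
      refine finish (fun l => if l = 0 ∨ l = m then -1 else 1) (-1) 1 (by simp) (by simp)
        (fun l h1 hlm => by rw [if_neg (by omega)]; exact Ne.symm hne) ?_ hne one_ne_zero ?_
      · rw [prod_range_sparse _ ({0, m} : Finset ℕ) (fun l hl => by simp at hl; omega)
          (fun l _ hls => if_neg (by simpa using hls)), Finset.prod_pair (by omega)]
        simp
      · rw [prod_range_sparse _ ({0} : Finset ℕ) (fun l hl => by simp at hl; omega)
          (fun l hl hls => by
            rcases eq_or_ne l m with rfl | hlm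
            · rw [Nat.sub_self, pow_zero]
            · rw [if_neg (by simp at hls; omega), one_pow]), Finset.prod_singleton]
        simp [he.neg_one_pow]
    · exact exists_three h3 hm ho
  have h5 : 5 ≤ Fintype.card F := by
    have := hp.two_le
    rcases Nat.lt_or_ge (Fintype.card F) 5 with h | h
    · interval_cases hq : Fintype.card F <;> simp_all (config := { decide := true })
    · exact h
  have hb : ∀ k, 0 < k → k < Fintype.card F - 1 → (z : F) ^ k ≠ 1 := fun k h0 hk e => by
    rw [← Units.val_pow_eq_pow_val, Units.val_eq_one] at e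
    have := orderOf_dvd_of_pow_eq_one e
    rw [hord] at this
    exact absurd (Nat.le_of_dvd h0 this) (by omega)
  set β : F := (z : F) with hβdef
  have hβ0 : β ≠ 0 := z.ne_zero
  have hβ1 : β ≠ 1 := by simpa using hb 1 one_pos (by omega)
  by_cases h7 : Fintype.card F = 7
  · have h6 : β ^ 6 = 1 := by
      have := FiniteField.pow_card_sub_one_eq_one β hβ0
      rwa [h7] at this
    have hne : ∀ k, 2 ≤ k → k ≤ 6 → β ^ k ≠ β := fun k hk hk' e => by
      have : β ^ (k - 1) * β = 1 * β := by rw [← pow_succ, show k - 1 + 1 = k by omega, one_mul, e]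
      exact hb (k - 1) (by omega) (by omega) (mul_right_cancel₀ hβ0 this)
    have h6' : (1 : F) ≠ β := fun e => hβ1 e.symm
    rcases (by omega : m = 3 ∨ 4 ≤ m) with rfl | hm4
    · refine finish (fun l => if l = 0 ∨ l = 3 then β else β ^ 5) β 1 (by simp) (by simp)
        (fun l h1 hlm => by rw [if_neg (by omega)]; exact hne 5 (by norm_num) (by norm_num))
        ?_ hβ1 one_ne_zero ?_
      · simp [Finset.prod_range_succ]
        linear_combination (β ^ 6 + 1) * h6
      · simp [Finset.prod_range_succ]
        linear_combination (β ^ 12 + β ^ 6 + 1) * h6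
    · refine finish (fun l => if l = 0 ∨ l = m then β else if l = m - 3 then β ^ 2
          else if l = m - 2 then β ^ 5 else if l = m - 1 then β ^ 3 else 1) β β (by simp) (by simp)
        (fun l h1 hlm => by
          rw [if_neg (by omega)]
          split_ifs
          · exact hne 2 le_rfl (by norm_num)
          · exact hne 5 (by norm_num) (by norm_num)
          · exact hne 3 (by norm_num) (by norm_num)
          · exact h6') ?_ hβ1 hβ0 ?_
      · rw [prod_range_sparse _ ({0, m, m - 3, m - 2, m - 1} : Finset ℕ) (fun l hl => by simp at hl; omega)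
          (fun l _ hls => by
            simp only [Finset.mem_insert, Finset.mem_singleton, not_or] at hls
            rw [if_neg (by omega), if_neg (by omega), if_neg (by omega), if_neg (by omega)]),
          Finset.prod_insert (by simp; omega), Finset.prod_insert (by simp; omega),
          Finset.prod_insert (by simp; omega), Finset.prod_pair (by omega)]
        simp only [true_or, or_true, if_true, if_neg (show ¬ (m - 3 = 0 ∨ m - 3 = m) by omega),
          if_neg (show ¬ (m - 2 = 0 ∨ m - 2 = m) by omega), if_neg (show ¬ (m - 1 = 0 ∨ m - 1 = m) by omega),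
          if_neg (show ¬ m - 2 = m - 3 by omega), if_neg (show ¬ m - 1 = m - 3 by omega),
          if_neg (show ¬ m - 1 = m - 2 by omega)]
        linear_combination (β ^ 6 + 1) * h6
      · rw [prod_range_sparse _ ({0, m - 3, m - 2, m - 1} : Finset ℕ) (fun l hl => by simp at hl; omega)
          (fun l _ hls => by
            simp only [Finset.mem_insert, Finset.mem_singleton, not_or] at hls
            rcases eq_or_ne l m with rfl | hlm
            · rw [Nat.sub_self, pow_zero]
            · rw [if_neg (by omega), if_neg (by omega), if_neg (by omega), if_neg (by omega), one_pow]),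
          Finset.prod_insert (by simp; omega), Finset.prod_insert (by simp; omega),
          Finset.prod_pair (by omega)]
        simp only [true_or, if_true, if_neg (show ¬ (m - 3 = 0 ∨ m - 3 = m) by omega),
          if_neg (show ¬ (m - 2 = 0 ∨ m - 2 = m) by omega), if_neg (show ¬ (m - 1 = 0 ∨ m - 1 = m) by omega),
          if_neg (show ¬ m - 2 = m - 3 by omega), if_neg (show ¬ m - 1 = m - 3 by omega),
          if_neg (show ¬ m - 1 = m - 2 by omega), Nat.sub_zero, show m - (m - 3) = 3 by omega,
          show m - (m - 2) = 2 by omega, show m - (m - 1) = 1 by omega, pow_succ β m]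
        linear_combination (β ^ m * β * (β ^ 12 + β ^ 6 + 1)) * h6
  · have hpodd : Fintype.card F ≠ 4 ∧ Fintype.card F ≠ 6 := by
      constructor <;> intro e <;> rw [e] at hp <;> exact absurd hp (by decide)
    have hβ2 : β ^ 2 ≠ 1 := hb 2 two_pos (by omega)
    have hβ6 : β ^ 6 ≠ 1 := by
      rcases (by omega : Fintype.card F = 5 ∨ 8 ≤ Fintype.card F) with h | h
      · intro e
        have h4 := FiniteField.pow_card_sub_one_eq_one β hβ0
        rw [h] at h4
        exact hβ2 (by linear_combination e - β ^ 2 * h4)
      · exact hb 6 (by norm_num) (by omega)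
    refine finish (fun l => if l = 0 ∨ l = m then β else if l = m - 2 then β ^ 3
        else if l = m - 1 then (β ^ 5)⁻¹ else 1) β β (by simp) (by simp)
      (fun l h1 hlm => by
        rw [if_neg (by omega)]
        split_ifs
        · intro e; exact hβ2 (mul_right_cancel₀ hβ0 (by linear_combination e : β ^ 2 * β = 1 * β))
        · intro e
          have := congrArg (· * β ^ 5) e
          simp only [inv_mul_cancel₀ (pow_ne_zero 5 hβ0)] at this
          exact hβ6 (by linear_combination -this)
        · exact fun e => hβ1 e.symm) ?_ hβ1 hβ0 ?_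
    · rw [prod_range_sparse _ ({0, m, m - 2, m - 1} : Finset ℕ) (fun l hl => by simp at hl; omega)
        (fun l _ hls => by
          simp only [Finset.mem_insert, Finset.mem_singleton, not_or] at hls
          rw [if_neg (by omega), if_neg (by omega), if_neg (by omega)]),
        Finset.prod_insert (by simp; omega), Finset.prod_insert (by simp; omega), Finset.prod_pair (by omega)]
      simp only [true_or, or_true, if_true, if_neg (show ¬ (m - 2 = 0 ∨ m - 2 = m) by omega),
        if_neg (show ¬ (m - 1 = 0 ∨ m - 1 = m) by omega), if_neg (show ¬ m - 1 = m - 2 by omega)]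
      field_simp
    · rw [prod_range_sparse _ ({0, m - 2, m - 1} : Finset ℕ) (fun l hl => by simp at hl; omega)
        (fun l _ hls => by
          simp only [Finset.mem_insert, Finset.mem_singleton, not_or] at hls
          rcases eq_or_ne l m with rfl | hlm
          · rw [Nat.sub_self, pow_zero]
          · rw [if_neg (by omega), if_neg (by omega), if_neg (by omega), one_pow]),
        Finset.prod_insert (by simp; omega), Finset.prod_pair (by omega)]
      simp only [true_or, if_true, if_neg (show ¬ (m - 2 = 0 ∨ m - 2 = m) by omega),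
        if_neg (show ¬ (m - 1 = 0 ∨ m - 1 = m) by omega), if_neg (show ¬ m - 1 = m - 2 by omega), Nat.sub_zero,
        show m - (m - 2) = 2 by omega, show m - (m - 1) = 1 by omega, pow_succ β m]
      field_simp

theorem any_case (hm : 3 ≤ m) :
    ∃ u : Matrix.SpecialLinearGroup (Fin (m + 1)) F, Reg u ∧
      Subgroup.closure ({u, loU m F} : Set (Matrix.SpecialLinearGroup (Fin (m + 1)) F)) = ⊤ := by
  classical
  by_cases hp : (Fintype.card F).Prime
  · obtain ⟨h, hh⟩ := prime_case hm hp
    refine ⟨h * loU m F * h⁻¹, ?_, by rw [Set.pair_comm]; exact hh⟩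
    have h1 : h.1 * (h⁻¹).1 = 1 := congrArg Subtype.val (mul_inv_cancel h)
    have h1' : (h⁻¹).1 * h.1 = 1 := congrArg Subtype.val (inv_mul_cancel h)
    have e : (h * loU m F * h⁻¹).1 - 1 = h.1 * ((loU m F).1 - 1) * (h⁻¹).1 := by
      rw [mul_sub, sub_mul, mul_one, h1]; rfl
    have hpow : ∀ k : ℕ, ((h * loU m F * h⁻¹).1 - 1) ^ k = h.1 * ((loU m F).1 - 1) ^ k * (h⁻¹).1 := by
      intro k
      induction k with
      | zero => rw [pow_zero, pow_zero, mul_one, h1]
      | succ k ih =>
        rw [pow_succ, ih, e, pow_succ]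
        simp only [mul_assoc]
        rw [← mul_assoc (h⁻¹).1 h.1, h1', one_mul]
    obtain ⟨⟨k, hk⟩, hreg⟩ := (reg_loU (m := m) (F := F))
    refine ⟨⟨k, by rw [hpow, hk, mul_zero, zero_mul]⟩, fun h0 => hreg ?_⟩
    rw [hpow] at h0
    have := congrArg (fun X => (h⁻¹).1 * X * h.1) h0
    simp only [mul_zero, zero_mul, ← mul_assoc, h1', one_mul] at this
    rwa [mul_assoc, h1', mul_one] at this
  · have h4 : 4 ≤ Fintype.card F := by
      have := Fintype.one_lt_card (α := F)
      rcases Nat.lt_or_ge (Fintype.card F) 4 with h | h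
      · rcases (by omega : Fintype.card F = 2 ∨ Fintype.card F = 3) with e | e <;> rw [e] at hp
        · exact absurd Nat.prime_two hp
        · exact absurd Nat.prime_three hp
      · exact h
    obtain ⟨z, hz⟩ := IsCyclic.exists_generator (α := Fˣ)
    have hord : orderOf z = Fintype.card F - 1 := by
      rw [orderOf_eq_card_of_forall_mem_zpowers hz, Nat.card_units, Nat.card_eq_fintype_card]
    have hz0 : (z : F) ≠ 0 := z.ne_zero
    have hb : ∀ k, 0 < k → k < 3 → (z : F) ^ k ≠ 1 := fun k h0 hk e => by
      rw [← Units.val_pow_eq_pow_val, Units.val_eq_one] at e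
      have := orderOf_dvd_of_pow_eq_one e
      rw [hord] at this
      exact absurd (Nat.le_of_dvd h0 this) (by omega)
    obtain ⟨u, hu, -, htop⟩ := diag_case (F := F) hm
      (fun l => if l = 0 ∨ l = m then (z : F)⁻¹ else if l = 1 ∨ l = 2 then (z : F) else 1) (z : F)⁻¹
      (by simp) (by simp)
      (fun l h1 hlm => by
        rw [if_neg (by omega)]
        split_ifs
        · intro e
          refine hb 2 two_pos (by norm_num) ?_
          rw [pow_two]; nth_rw 2 [e]; exact mul_inv_cancel₀ hz0
        · intro e
          refine hb 1 one_pos (by norm_num) ?_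
          rw [pow_one, ← inv_inv (z : F), ← e, inv_one])
      (by
        rw [prod_range_sparse _ ({0, m, 1, 2} : Finset ℕ) (fun l hl => by simp at hl; omega)
          (fun l _ hls => by
            simp only [Finset.mem_insert, Finset.mem_singleton, not_or] at hls
            rw [if_neg (by omega), if_neg (by omega)]),
          Finset.prod_insert (by simp; omega), Finset.prod_insert (by simp; omega), Finset.prod_pair (by omega)]
        simp only [true_or, or_true, if_true, if_neg (show ¬ (1 = 0 ∨ 1 = m) by omega),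
          if_neg (show ¬ (2 = 0 ∨ 2 = m) by omega)]
        field_simp)
      (fun e => hb 1 one_pos (by norm_num) (by rw [pow_one, ← inv_inv (z : F), e, inv_one]))
    refine ⟨u, hu, htop fun S hS => subfield_top_of_pow z hz 2 (Or.inl le_rfl) (by norm_num) S ?_⟩
    simp only [if_neg (show ¬ (1 = 0 ∨ 1 = m) by omega), true_or, if_true, div_inv_eq_mul] at hS
    rw [Units.val_pow_eq_pow_val, pow_two]
    exact hS

/-- Let F be a finite field with q elements and n ≥ 4. Then SL_n(F) is generated by two regular unipotent elements (elements u with u − 1 nilpotent and (u − 1)^(n−1) ≠ 0); if q is prime, the two can be taken conjugate in SL_n(F). -/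
theorem result {F : Type*} [Field F] [Fintype F] (n : ℕ) (hn : 4 ≤ n) :
    (∃ u v : Matrix.SpecialLinearGroup (Fin n) F, (IsNilpotent ((u : Matrix (Fin n) (Fin n) F) - 1) ∧ ((u : Matrix (Fin n) (Fin n) F) - 1) ^ (n - 1) ≠ 0) ∧ (IsNilpotent ((v : Matrix (Fin n) (Fin n) F) - 1) ∧ ((v : Matrix (Fin n) (Fin n) F) - 1) ^ (n - 1) ≠ 0) ∧
      Subgroup.closure ({u, v} : Set (Matrix.SpecialLinearGroup (Fin n) F)) = ⊤) ∧
    ((Fintype.card F).Prime → ∃ u g : Matrix.SpecialLinearGroup (Fin n) F, (IsNilpotent ((u : Matrix (Fin n) (Fin n) F) - 1) ∧ ((u : Matrix (Fin n) (Fin n) F) - 1) ^ (n - 1) ≠ 0) ∧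
      Subgroup.closure ({u, g * u * g⁻¹} : Set (Matrix.SpecialLinearGroup (Fin n) F)) = ⊤) := by
  classical
  obtain ⟨m, rfl⟩ : ∃ m, n = m + 1 := ⟨n - 1, by omega⟩
  rw [Nat.add_sub_cancel]
  refine ⟨?_, fun hp => ?_⟩
  · obtain ⟨u, hu, htop⟩ := any_case (F := F) (m := m) (by omega)
    exact ⟨u, loU m F, hu, reg_loU, htop⟩
  · obtain ⟨g, htop⟩ := prime_case (F := F) (m := m) (by omega) hp
    exact ⟨loU m F, g, reg_loU, htop⟩

end Cfsg.Agent.S2279
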