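import Cfsg.Statements.S3335
import Cfsg.Agent.Lib.Fusion.Thompson
-- import your own Cfsg.Agent.* helpers here

set_option autoImplicit false
open Cfsg

namespace Cfsg.Agent.S3335


section bound

variable {G : Type*} [Group G]

/-- Carmichael's relations on the first `m` terms of a sequence. -/
structure Rel (m : ℕ) (x : ℕ → G) : Prop where
  cube : 0 < m → x 0 ^ 3 = 1
  sq : ∀ i, 1 ≤ i → i < m → x i * x i = 1
  next : ∀ i, i + 1 < m → (x i * x (i + 1)) ^ 3 = 1
  far : ∀ i j, i + 1 < j → j < m → (x i * x j) ^ 2 = 1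

variable {m : ℕ} {x : ℕ → G}

theorem Rel.push (h : Rel m x) {i j : ℕ} (hij : i + 1 < j) (hj : j < m) : x j * x i = (x i)⁻¹ * x j := by
  have h1 := h.far i j hij hj
  rw [pow_two] at h1
  have h2 : (x j)⁻¹ = x j := inv_eq_of_mul_eq_one_left (h.sq j (by omega) hj)
  calc x j * x i = (x i)⁻¹ * (x i * x j * (x i * x j)) * (x j)⁻¹ := by group
    _ = (x i)⁻¹ * x j := by rw [h1, mul_one, h2]

theorem Rel.push' (h : Rel m x) {i j : ℕ} (hij : i + 1 < j) (hj : j < m) : x i * x j = x j * (x i)⁻¹ := by
  rw [← mul_left_cancel_iff (a := x j), ← mul_assoc, h.push hij hj, ← mul_assoc (x j) (x j),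
    h.sq j (by omega) hj, one_mul, mul_assoc, h.sq j (by omega) hj, mul_one]

/-- `x (m-1) * … * x l`. -/
def word (x : ℕ → G) (m l : ℕ) : G :=
  ((List.range (m - l)).map fun t => x (m - 1 - t)).prod

theorem word_self (x : ℕ → G) (m : ℕ) : word x m m = 1 := by simp [word]

theorem word_step (x : ℕ → G) {m l : ℕ} (hl : l < m) : word x m l = word x m (l + 1) * x l := by
  unfold word
  rw [show m - l = (m - (l + 1)) + 1 by omega, List.range_succ, List.map_append, List.prod_append]
  simp [show m - 1 - (m - (l + 1)) = l by omega]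

/-- An element below the whole word moves to the left through it. -/
theorem Rel.below (h : Rel m x) {i : ℕ} {l : ℕ} (hil : i + 1 < l) (hlm : l ≤ m) :
    ∃ e ∈ Subgroup.zpowers (x i), word x m l * x i = e * word x m l := by
  suffices ∀ d l, l + d = m → i + 1 < l → ∀ z : ℤ, ∃ e ∈ Subgroup.zpowers (x i), word x m l * x i ^ z = e * word x m l by
    simpa using this (m - l) l (by omega) hil 1
  intro d
  induction d with
  | zero =>
      intro l hl _ z
      obtain rfl : l = m := by omega
      exact ⟨_, Subgroup.zpow_mem _ (Subgroup.mem_zpowers _) z, by rw [word_self, one_mul, mul_one]⟩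
  | succ d ih =>
      intro l hl hil z
      have hp : x l * x i ^ z = x i ^ (-z) * x l := by
        have hc : SemiconjBy (x l) (x i) (x i)⁻¹ := h.push hil (by omega)
        rw [zpow_neg, ← inv_zpow]
        exact hc.zpow_right z
      obtain ⟨e, he, hew⟩ := ih (l + 1) (by omega) (by omega) (-z)
      refine ⟨e, he, ?_⟩
      rw [word_step x (show l < m by omega), mul_assoc, hp, ← mul_assoc, hew, mul_assoc]

/-- An involution above moves to the left through the lower letters. -/
theorem Rel.above (h : Rel m x) {i : ℕ} (him : i < m) {l : ℕ} (hl : 1 ≤ l) (hli : l < i) :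
    word x m l * x i = word x m (i - 1) * x i * ((word x m (i - 1))⁻¹ * word x m l) := by
  suffices ∀ d l, l + d = i - 1 → 1 ≤ l → (word x m (i - 1))⁻¹ * word x m l * x i = x i * ((word x m (i - 1))⁻¹ * word x m l) by
    have := this (i - 1 - l) l (by omega) hl
    rw [mul_assoc (word x m (i - 1)), ← this, ← mul_assoc, ← mul_assoc, mul_inv_cancel, one_mul]
  intro d
  induction d with
  | zero =>
      intro l hl' _
      obtain rfl : l = i - 1 := by omega
      simp
  | succ d ih =>
      intro l hl' h1
      have hc : x l * x i = x i * x l := by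
        rw [h.push' (show l + 1 < i by omega) him, inv_eq_of_mul_eq_one_left (h.sq l h1 (by omega))]
      rw [word_step x (show l < m by omega), mul_assoc, mul_assoc, hc, ← mul_assoc (word x m (l + 1)),
        ← mul_assoc, ← mul_assoc, ih (l + 1) (by omega) (by omega)]
      group

theorem Rel.bound : ∀ {m : ℕ} {G : Type*} [Group G] {x : ℕ → G}, Rel m x →
    Subgroup.closure {g | ∃ i, i < m ∧ x i = g} = ⊤ → Finite G ∧ 2 * Nat.card G ≤ Nat.factorial (m + 2) := by
  intro m
  induction m with
  | zero =>
      intro G _ x _ hgen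
      have h1 : ({g | ∃ i, i < 0 ∧ x i = g} : Set G) = ∅ := by ext g; simp
      rw [h1, Subgroup.closure_empty] at hgen
      haveI : Subsingleton G := ⟨fun a b => by
        rw [Subgroup.mem_bot.1 (hgen.ge (Subgroup.mem_top a)), Subgroup.mem_bot.1 (hgen.ge (Subgroup.mem_top b))]⟩
      exact ⟨inferInstance, by simp⟩
  | succ m ih =>
      intro G _ x h hgen
      classical
      set H := Subgroup.closure {g | ∃ i, i < m ∧ x i = g} with hH
      have hxH : ∀ i, i < m → x i ∈ H := fun i hi => Subgroup.subset_closure ⟨i, hi, rfl⟩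
      let y : ℕ → H := fun i => if hi : i < m then ⟨x i, hxH i hi⟩ else 1
      have hy : ∀ i (hi : i < m), (y i : G) = x i := fun i hi => by simp [y, hi]
      have hrel : Rel m y :=
        ⟨fun h0 => Subtype.ext (by simpa [hy 0 h0] using h.cube (by omega)),
          fun i h1 h2 => Subtype.ext (by simpa [hy i h2] using h.sq i h1 (by omega)),
          fun i h2 => Subtype.ext (by simpa [hy i (by omega), hy (i + 1) h2] using h.next i (by omega)),
          fun i j h1 h2 => Subtype.ext (by simpa [hy i (by omega), hy j h2] using h.far i j h1 (by omega))⟩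
      have hgenH : Subgroup.closure {g | ∃ i, i < m ∧ y i = g} = ⊤ := by
        apply Subgroup.map_injective H.subtype_injective
        rw [MonoidHom.map_closure, ← MonoidHom.range_eq_map, Subgroup.range_subtype]
        conv_rhs => rw [hH]
        congr 1
        ext g
        constructor
        · rintro ⟨_, ⟨i, hi, rfl⟩, rfl⟩
          exact ⟨i, hi, (hy i hi).symm⟩
        · rintro ⟨i, hi, rfl⟩
          exact ⟨_, ⟨i, hi, rfl⟩, hy i hi⟩
      obtain ⟨hfin, hcard⟩ := ih hrel hgenH
      -- the transversal
      let t : Option (Fin (m + 2)) → G := fun o => o.elim (word x (m + 1) 0 * x 0) (fun k => word x (m + 1) k)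
      let U : Set G := {g | ∃ a ∈ H, ∃ o, g = a * t o}
      have hU : ∀ {a : G}, a ∈ H → ∀ l, l ≤ m + 1 → a * word x (m + 1) l ∈ U := fun {a} ha l hl =>
        ⟨a, ha, some ⟨l, by omega⟩, rfl⟩
      have hU' : ∀ {a : G}, a ∈ H → a * (word x (m + 1) 0 * x 0) ∈ U := fun {a} ha => ⟨a, ha, none, rfl⟩
      have hzH : ∀ {i}, i < m → ∀ e ∈ Subgroup.zpowers (x i), e ∈ H := fun hi e he =>
        Subgroup.zpowers_le.2 (hxH _ hi) he
      have h0 : ∀ i, 1 ≤ i → i < m + 1 → ∃ a ∈ H, word x (m + 1) 0 * x i = a * (word x (m + 1) 0 * x 0) := by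
        intro i hi1 him
        rcases Nat.eq_or_lt_of_le hi1 with rfl | hi2
        · -- the first two generators
          have h3 := h.next 0 (by omega)
          have hbraid : x 1 * x 0 * x 1 = (x 0)⁻¹ * x 1 * (x 0)⁻¹ := by
            have h1 : (x 1)⁻¹ = x 1 := inv_eq_of_mul_eq_one_left (h.sq 1 le_rfl him)
            calc x 1 * x 0 * x 1 = (x 0)⁻¹ * ((x 0 * x 1) ^ 3) * (x 1)⁻¹ * (x 0)⁻¹ := by
                  simp only [pow_succ, pow_zero, one_mul]; group
              _ = (x 0)⁻¹ * x 1 * (x 0)⁻¹ := by rw [h3, mul_one, h1]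
          obtain ⟨e, he, hew⟩ : ∃ e ∈ H, word x (m + 1) 2 * (x 0)⁻¹ = e * word x (m + 1) 2 := by
            rcases Nat.lt_or_ge 1 m with hm | hm
            · obtain ⟨e, he, hew⟩ := h.below (i := 0) (l := 2) (by omega) (by omega)
              refine ⟨e⁻¹, H.inv_mem (hzH (by omega) e he), ?_⟩
              rw [mul_inv_eq_iff_eq_mul, mul_assoc, hew, ← mul_assoc, inv_mul_cancel, one_mul]
            · obtain rfl : m = 1 := by omega
              exact ⟨(x 0)⁻¹, H.inv_mem (hxH 0 (by omega)), by rw [word_self, one_mul, mul_one]⟩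
          refine ⟨e, he, ?_⟩
          have hcube := h.cube (by omega)
          rw [pow_succ, pow_two] at hcube
          have h02 : x 0 * x 0 = (x 0)⁻¹ := eq_inv_of_mul_eq_one_left hcube
          rw [word_step x (show 0 < m + 1 by omega), word_step x (show 0 + 1 < m + 1 by omega),
            mul_assoc, mul_assoc, ← mul_assoc (x (0 + 1)), hbraid, ← mul_assoc, ← mul_assoc, hew]
          simp only [mul_assoc, h02, zero_add]
        · -- a far one
          have hw : word x (m + 1) 1 * x i = word x (m + 1) (i - 1) * x i * ((word x (m + 1) (i - 1))⁻¹ * word x (m + 1) 1) :=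
            h.above him le_rfl hi2
          obtain ⟨e, he, hew⟩ : ∃ e ∈ H, word x (m + 1) 1 * x i = e * word x (m + 1) 1 := by
            refine ⟨word x (m + 1) (i - 1) * x i * (word x (m + 1) (i - 1))⁻¹, ?_, by rw [hw]; group⟩
            have hstep : word x (m + 1) (i - 1) * x i = word x (m + 1) (i + 1) * (x i * x (i - 1) * x i) := by
              rw [word_step x (show i - 1 < m + 1 by omega), show i - 1 + 1 = i by omega,
                word_step x (show i < m + 1 by omega)]
              group
            have h3 := h.next (i - 1) (by omega)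
            rw [show i - 1 + 1 = i by omega] at h3
            have ha : (x i)⁻¹ = x i := inv_eq_of_mul_eq_one_left (h.sq i (by omega) him)
            have hb : (x (i - 1))⁻¹ = x (i - 1) := inv_eq_of_mul_eq_one_left (h.sq (i - 1) (by omega) (by omega))
            have hbraid : x i * x (i - 1) * x i = x (i - 1) * x i * x (i - 1) := by
              calc x i * x (i - 1) * x i = (x (i - 1))⁻¹ * ((x (i - 1) * x i) ^ 3) * (x i)⁻¹ * (x (i - 1))⁻¹ := by
                    simp only [pow_succ, pow_zero, one_mul]; group
                _ = x (i - 1) * x i * x (i - 1) := by rw [h3, mul_one, ha, hb]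
            obtain ⟨e, he, hew⟩ : ∃ e ∈ H, word x (m + 1) (i + 1) * x (i - 1) = e * word x (m + 1) (i + 1) := by
              obtain ⟨e, he, hew⟩ := h.below (i := i - 1) (l := i + 1) (by omega) (by omega)
              exact ⟨e, hzH (by omega) e he, hew⟩
            rw [hstep, hbraid, ← mul_assoc, ← mul_assoc, hew, word_step x (show i - 1 < m + 1 by omega),
              show i - 1 + 1 = i by omega, word_step x (show i < m + 1 by omega)]
            convert he using 1
            group
          refine ⟨e, he, ?_⟩
          have hpush : x 0 * x i = x i * (x 0)⁻¹ := h.push' (by omega) him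
          have hcube := h.cube (by omega)
          rw [pow_succ, pow_two] at hcube
          have h02 : x 0 * x 0 = (x 0)⁻¹ := eq_inv_of_mul_eq_one_left hcube
          rw [word_step x (show 0 < m + 1 by omega), mul_assoc, hpush, ← mul_assoc, hew,
            mul_assoc (word x (m + 1) (0 + 1)), h02, mul_assoc]
      have hstable : ∀ i, i < m + 1 → ∀ g ∈ U, g * x i ∈ U := by
        rintro i him g ⟨a, ha, o, rfl⟩
        rw [mul_assoc]
        rcases o with _ | k
        · show a * (word x (m + 1) 0 * x 0 * x i) ∈ U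
          rcases Nat.eq_zero_or_pos i with rfl | hi
          · have hcube := h.cube (by omega)
            rw [pow_succ, pow_two] at hcube
            have hlt : 0 < m + 1 := him
            rw [word_step x hlt, mul_assoc (word x (m + 1) (0 + 1)), mul_assoc (word x (m + 1) (0 + 1)), hcube, mul_one]
            exact hU ha 1 (by omega)
          · obtain ⟨b, hb, hbeq⟩ := h0 i hi him
            have hsq : x i * x i = 1 := h.sq i hi him
            have : word x (m + 1) 0 * x 0 * x i = b⁻¹ * word x (m + 1) 0 := by
              rw [← inv_mul_eq_iff_eq_mul.2 hbeq, mul_assoc b⁻¹, mul_assoc (word x (m + 1) 0), hsq, mul_one]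
            rw [this, ← mul_assoc]
            exact hU (H.mul_mem ha (H.inv_mem hb)) 0 (by omega)
        · show a * (word x (m + 1) (k : ℕ) * x i) ∈ U
          have hk := k.isLt
          generalize (k : ℕ) = l at hk ⊢
          rcases Nat.eq_zero_or_pos l with rfl | hl
          · rcases Nat.eq_zero_or_pos i with rfl | hi
            · exact hU' ha
            · obtain ⟨b, hb, hbeq⟩ := h0 i hi him
              rw [hbeq, ← mul_assoc]
              exact hU' (H.mul_mem ha hb)
          · rcases lt_trichotomy (i + 1) l with hlt | heq | hgt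
            · obtain ⟨e, he, hew⟩ := h.below hlt (by omega)
              rw [hew, ← mul_assoc]
              exact hU (H.mul_mem ha (hzH (by omega) e he)) l (by omega)
            · subst heq
              rw [← word_step x him]
              exact hU ha i (by omega)
            · rcases Nat.eq_or_lt_of_le (show l ≤ i by omega) with rfl | hli
              · rw [word_step x him, mul_assoc, h.sq l hl him, mul_one]
                exact hU ha (l + 1) (by omega)
              · have hw := h.above him hl hli
                obtain ⟨b, hb, hbeq⟩ : ∃ b ∈ H, word x (m + 1) (i - 1) * x i = b * word x (m + 1) (i - 1) := by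
                  have h3 := h.next (i - 1) (by omega)
                  rw [show i - 1 + 1 = i by omega] at h3
                  have hai : (x i)⁻¹ = x i := inv_eq_of_mul_eq_one_left (h.sq i (by omega) him)
                  have hbi : (x (i - 1))⁻¹ = x (i - 1) := inv_eq_of_mul_eq_one_left (h.sq (i - 1) (by omega) (by omega))
                  have hbraid : x i * x (i - 1) * x i = x (i - 1) * x i * x (i - 1) := by
                    calc x i * x (i - 1) * x i = (x (i - 1))⁻¹ * ((x (i - 1) * x i) ^ 3) * (x i)⁻¹ * (x (i - 1))⁻¹ := by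
                          simp only [pow_succ, pow_zero, one_mul]; group
                      _ = x (i - 1) * x i * x (i - 1) := by rw [h3, mul_one, hai, hbi]
                  obtain ⟨e, he, hew⟩ := h.below (i := i - 1) (l := i + 1) (by omega) (by omega)
                  refine ⟨e, hzH (by omega) e he, ?_⟩
                  rw [word_step x (show i - 1 < m + 1 by omega), show i - 1 + 1 = i by omega,
                    word_step x (show i < m + 1 by omega), mul_assoc, mul_assoc, ← mul_assoc (x i), hbraid,
                    ← mul_assoc, ← mul_assoc, hew]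
                  group
                rw [hw, hbeq, mul_assoc b, ← mul_assoc (word x (m + 1) (i - 1)), mul_inv_cancel, one_mul, ← mul_assoc]
                exact hU (H.mul_mem ha hb) l (by omega)
      have hone : (1 : G) ∈ U := by
        have := hU H.one_mem (m + 1) le_rfl
        rwa [word_self, mul_one] at this
      have hall : ∀ g : G, g ∈ U := by
        intro g
        have hg : g ∈ Subgroup.closure {g | ∃ i, i < m + 1 ∧ x i = g} := hgen ▸ Subgroup.mem_top g
        induction hg using Subgroup.closure_induction_right with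
        | one => exact hone
        | mul_right a ha b hb ih =>
            obtain ⟨i, hi, rfl⟩ := hb
            exact hstable i hi a ih
        | mul_inv_cancel a ha b hb ih =>
            obtain ⟨i, hi, rfl⟩ := hb
            rcases Nat.eq_zero_or_pos i with rfl | hi0
            · have hcube := h.cube (by omega)
              rw [pow_succ, pow_two] at hcube
              rw [inv_eq_of_mul_eq_one_left hcube, ← mul_assoc]
              exact hstable 0 hi _ (hstable 0 hi a ih)
            · rw [inv_eq_of_mul_eq_one_left (h.sq i hi0 hi)]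
              exact hstable i hi a ih
      have hsurj : Function.Surjective (fun p : H × Option (Fin (m + 2)) => (p.1 : G) * t p.2) := fun g => by
        obtain ⟨a, ha, o, rfl⟩ := hall g
        exact ⟨(⟨a, ha⟩, o), rfl⟩
      refine ⟨Finite.of_surjective _ hsurj, ?_⟩
      have hle := Nat.card_le_card_of_surjective _ hsurj
      rw [Nat.card_prod, Finite.card_option, Nat.card_fin] at hle
      calc 2 * Nat.card G ≤ 2 * Nat.card H * (m + 3) := by rw [mul_assoc]; exact Nat.mul_le_mul_left 2 hle
        _ ≤ Nat.factorial (m + 2) * (m + 3) := Nat.mul_le_mul_right _ hcard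
        _ = Nat.factorial (m + 1 + 2) := by rw [mul_comm]; exact (Nat.factorial_succ _).symm

end bound

/-- Adjacent transpositions give Carmichael's generators. -/
theorem rel_of_coxeter {G : Type*} [Group G] (m : ℕ) (t : ℕ → G) (hsq : ∀ i, i ≤ m → t i * t i = 1)
    (hnext : ∀ i, i < m → (t i * t (i + 1)) ^ 3 = 1)
    (hfar : ∀ i j, i + 1 < j → j ≤ m → t i * t j = t j * t i) :
    Rel m (fun i => t 0 * t (i + 1)) := by
  have hconj : ∀ i j k : ℕ, 1 ≤ j → j < m →
      (t 0 * t (i + 1) * (t 0 * t (j + 1))) ^ k = t 0 * (t (i + 1) * t (j + 1)) ^ k * (t 0)⁻¹ := by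
    intro i j k hj hjm
    rw [← conj_pow, inv_eq_of_mul_eq_one_left (hsq 0 (by omega)), hfar 0 (j + 1) (by omega) (by omega)]
    simp only [mul_assoc]
  refine ⟨fun h0 => hnext 0 h0, fun i h1 h2 => ?_, fun i h2 => ?_, fun i j h1 h2 => ?_⟩
  · rw [hfar 0 (i + 1) (by omega) (by omega)]
    calc t (i + 1) * t 0 * (t (i + 1) * t 0) = t (i + 1) * (t 0 * t (i + 1)) * t 0 := by simp only [mul_assoc]
      _ = 1 := by
        rw [hfar 0 (i + 1) (by omega) (by omega), ← mul_assoc, hsq (i + 1) (by omega), one_mul, hsq 0 (by omega)]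
  · rw [hconj i (i + 1) 3 (by omega) h2, hnext (i + 1) h2, mul_one, mul_inv_cancel]
  · rw [hconj i j 2 (by omega) h2, pow_two]
    have hc := hfar (i + 1) (j + 1) (by omega) (by omega)
    calc t 0 * (t (i + 1) * t (j + 1) * (t (i + 1) * t (j + 1))) * (t 0)⁻¹
        = t 0 * (t (i + 1) * (t (j + 1) * t (i + 1)) * t (j + 1)) * (t 0)⁻¹ := by simp only [mul_assoc]
      _ = 1 := by
        rw [← hc, ← mul_assoc (t (i + 1)), hsq (i + 1) (by omega), one_mul, hsq (j + 1) (by omega), mul_one,
          mul_inv_cancel]


/-- A presentation of the alternating group of degree n ≥ 3 on generators x_1, …, x_{n−2} (indexed here by 0, …, n−3): the first generator cubes to 1, every other generator squares to 1, the product of two consecutive generators has order dividing 3, and the product of two generators at distance at least 2 has order dividing 2. The group so presented is isomorphic to the alternating group of degree n. -/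
theorem result (n : ℕ) (hn : 3 ≤ n) :
    Nonempty (PresentedGroup
      ({g : FreeGroup (Fin (n - 2)) | ∃ i : Fin (n - 2), i.val = 0 ∧ g = FreeGroup.of i ^ 3} ∪
       {g | ∃ i : Fin (n - 2), 1 ≤ i.val ∧ g = FreeGroup.of i ^ 2} ∪
       {g | ∃ i j : Fin (n - 2), j.val = i.val + 1 ∧ g = (FreeGroup.of i * FreeGroup.of j) ^ 3} ∪
       {g | ∃ i j : Fin (n - 2), i.val + 1 < j.val ∧ g = (FreeGroup.of i * FreeGroup.of j) ^ 2})
      ≃* alternatingGroup (Fin n)) := by
  classical
  obtain ⟨m, rfl⟩ : ∃ m, n = m + 3 := ⟨n - 3, by omega⟩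
  generalize hR : ({g : FreeGroup (Fin (m + 3 - 2)) | ∃ i : Fin (m + 3 - 2), i.val = 0 ∧ g = FreeGroup.of i ^ 3} ∪
       {g | ∃ i : Fin (m + 3 - 2), 1 ≤ i.val ∧ g = FreeGroup.of i ^ 2} ∪
       {g | ∃ i j : Fin (m + 3 - 2), j.val = i.val + 1 ∧ g = (FreeGroup.of i * FreeGroup.of j) ^ 3} ∪
       {g | ∃ i j : Fin (m + 3 - 2), i.val + 1 < j.val ∧ g = (FreeGroup.of i * FreeGroup.of j) ^ 2}) = R
  have hmk : ∀ {g}, g ∈ R → PresentedGroup.mk R g = 1 := fun hg => PresentedGroup.one_of_mem hg
  let x : ℕ → PresentedGroup R := fun i => if hi : i < m + 3 - 2 then PresentedGroup.of ⟨i, hi⟩ else 1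
  have hx : ∀ i (hi : i < m + 1), x i = PresentedGroup.mk R (FreeGroup.of ⟨i, by omega⟩) := fun i hi => by
    simp only [x]
    rw [dif_pos (show i < m + 3 - 2 by omega)]
    rfl
  have hrel : Rel (m + 1) x := by
    refine ⟨fun _ => ?_, fun i h1 h2 => ?_, fun i h2 => ?_, fun i j h1 h2 => ?_⟩
    · rw [hx 0 (by omega), ← map_pow]
      exact hmk (hR ▸ Or.inl (Or.inl (Or.inl ⟨_, rfl, rfl⟩)))
    · rw [hx i h2, ← map_mul, ← pow_two]
      exact hmk (hR ▸ Or.inl (Or.inl (Or.inr ⟨_, h1, rfl⟩)))
    · rw [hx i (by omega), hx (i + 1) h2, ← map_mul, ← map_pow]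
      exact hmk (hR ▸ Or.inl (Or.inr ⟨_, _, rfl, rfl⟩))
    · rw [hx i (by omega), hx j h2, ← map_mul, ← map_pow]
      exact hmk (hR ▸ Or.inr ⟨_, _, h1, rfl⟩)
  obtain ⟨hfin, hcard⟩ := Rel.bound hrel (by
    rw [eq_top_iff, ← PresentedGroup.closure_range_of R]
    refine Subgroup.closure_mono ?_
    rintro _ ⟨i, rfl⟩
    refine ⟨i, by omega, ?_⟩
    simp only [x]
    rw [dif_pos i.isLt])
  let s : Equiv.Perm (Fin (m + 3)) := Equiv.swap 0 1
  let e : Fin (m + 3 - 2) → Equiv.Perm (Fin (m + 3)) := fun i =>
    s * Equiv.swap ⟨i.val + 1, by omega⟩ ⟨i.val + 2, by omega⟩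
  have hval : ∀ {a b : ℕ} {ha : a < m + 3} {hb : b < m + 3}, a ≠ b → (⟨a, ha⟩ : Fin (m + 3)) ≠ ⟨b, hb⟩ :=
    fun h he => h (congrArg Fin.val he)
  have hs : s * s = 1 := Equiv.swap_mul_self _ _
  let t : ℕ → Equiv.Perm (Fin (m + 3)) := fun i =>
    if h : i + 1 < m + 3 then Equiv.swap ⟨i, by omega⟩ ⟨i + 1, h⟩ else 1
  have ht : ∀ i (h : i + 1 < m + 3), t i = Equiv.swap ⟨i, by omega⟩ ⟨i + 1, h⟩ := fun i h => dif_pos h
  have he : ∀ i : Fin (m + 3 - 2), e i = t 0 * t (i.val + 1) := fun i => by
    rw [ht 0 (by omega), ht (i.val + 1) (by have := i.isLt; omega)]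
    rfl
  have hE : Rel (m + 1) (fun i => t 0 * t (i + 1)) := by
    refine rel_of_coxeter (m + 1) t (fun i hi => ?_) (fun i hi => ?_) (fun i j hij hj => ?_)
    · rw [ht i (by omega)]
      exact Equiv.swap_mul_self _ _
    · rw [ht i (by omega), ht (i + 1) (by omega), Equiv.swap_comm (⟨i, _⟩ : Fin (m + 3)) ⟨i + 1, _⟩]
      have h3 := (Equiv.Perm.isThreeCycle_swap_mul_swap_same (a := (⟨i + 1, by omega⟩ : Fin (m + 3))) (b := ⟨i, by omega⟩)
        (c := ⟨i + 1 + 1, by omega⟩) (hval (by omega)) (hval (by omega)) (hval (by omega))).orderOf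
      exact orderOf_dvd_iff_pow_eq_one.1 h3.dvd
    · rw [ht i (by omega), ht j (by omega)]
      apply Equiv.Perm.Disjoint.commute
      intro y
      rcases lt_or_ge y.val j with hy | hy
      · right
        exact Equiv.swap_apply_of_ne_of_ne (fun h => by have := congrArg Fin.val h; simp at this; omega)
          (fun h => by have := congrArg Fin.val h; simp at this; omega)
      · left
        exact Equiv.swap_apply_of_ne_of_ne (fun h => by have := congrArg Fin.val h; simp at this; omega)
          (fun h => by have := congrArg Fin.val h; simp at this; omega)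
  have hrels : ∀ r ∈ R, FreeGroup.lift e r = 1 := by
    subst hR
    rintro r (((⟨i, hi, rfl⟩ | ⟨i, hi, rfl⟩) | ⟨i, j, hij, rfl⟩) | ⟨i, j, hij, rfl⟩)
    · rw [map_pow, FreeGroup.lift_apply_of, he, hi]
      exact hE.cube (by omega)
    · rw [map_pow, FreeGroup.lift_apply_of, he, pow_two]
      exact hE.sq i.val hi (by have := i.isLt; omega)
    · rw [map_pow, map_mul, FreeGroup.lift_apply_of, FreeGroup.lift_apply_of, he, he, hij]
      exact hE.next i.val (by have := j.isLt; omega)
    · rw [map_pow, map_mul, FreeGroup.lift_apply_of, FreeGroup.lift_apply_of, he, he]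
      exact hE.far i.val j.val hij (by have := j.isLt; omega)
  have hev : ∀ g, PresentedGroup.toGroup hrels g ∈ alternatingGroup (Fin (m + 3)) := by
    intro g
    have hle : (PresentedGroup.toGroup hrels).range ≤ alternatingGroup (Fin (m + 3)) := by
      rw [MonoidHom.range_eq_map, ← PresentedGroup.closure_range_of R, MonoidHom.map_closure, Subgroup.closure_le]
      rintro _ ⟨_, ⟨i, rfl⟩, rfl⟩
      rw [PresentedGroup.toGroup.of, SetLike.mem_coe, Equiv.Perm.mem_alternatingGroup, map_mul,
        Equiv.Perm.sign_swap (by simp), Equiv.Perm.sign_swap (hval (by omega))]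
      rfl
    exact hle ⟨g, rfl⟩
  let φ := (PresentedGroup.toGroup hrels).codRestrict _ hev
  -- the image has index at most two in the symmetric group
  set K := (PresentedGroup.toGroup hrels).range with hK
  have hK2 : Nat.factorial (m + 3) ≤ 2 * Nat.card K := by
    have hnorm : Subgroup.zpowers s ≤ Subgroup.normalizer (K : Set (Equiv.Perm (Fin (m + 3)))) := by
      rw [Subgroup.zpowers_le, Subgroup.mem_normalizer_iff_map_conj_eq]
      refine Subgroup.eq_of_le_of_card_ge ?_ (by rw [Subgroup.card_map_of_injective (MulAut.conj s).injective])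
      rw [hK, MonoidHom.range_eq_map, ← PresentedGroup.closure_range_of R, MonoidHom.map_closure, MonoidHom.map_closure,
        Subgroup.closure_le]
      rintro _ ⟨_, ⟨_, ⟨i, rfl⟩, rfl⟩, rfl⟩
      rw [← MonoidHom.map_closure, PresentedGroup.closure_range_of R, ← MonoidHom.range_eq_map]
      refine ⟨(PresentedGroup.of i)⁻¹, ?_⟩
      rw [map_inv, PresentedGroup.toGroup.of]
      show (s * _)⁻¹ = s * (s * _) * s⁻¹
      rw [mul_inv_rev, ← mul_assoc s s, hs, one_mul, Equiv.swap_inv]
    have htop : K ⊔ Subgroup.zpowers s = ⊤ := by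
      have hsw : ∀ i : Fin (m + 2), Equiv.swap i.castSucc i.succ ∈ K ⊔ Subgroup.zpowers s := by
        intro i
        have hsK : s ∈ K ⊔ Subgroup.zpowers s := Subgroup.mem_sup_right (Subgroup.mem_zpowers s)
        rcases i with ⟨_ | k, hk⟩
        · exact hsK
        · have hmem : e ⟨k, by omega⟩ ∈ K ⊔ Subgroup.zpowers s :=
            Subgroup.mem_sup_left ⟨PresentedGroup.of ⟨k, by omega⟩, PresentedGroup.toGroup.of hrels⟩
          have := Subgroup.mul_mem _ hsK hmem
          rw [show e ⟨k, _⟩ = s * _ from rfl, ← mul_assoc, hs, one_mul] at this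
          exact this
      rw [eq_top_iff]
      intro g _
      have hg : g ∈ Submonoid.closure (Set.range fun i : Fin (m + 2) ↦ Equiv.swap i.castSucc i.succ) := by
        rw [Equiv.Perm.mclosure_swap_castSucc_succ]; trivial
      exact (Submonoid.closure_le (S := (K ⊔ Subgroup.zpowers s).toSubmonoid)).2 (by rintro _ ⟨i, rfl⟩; exact hsw i) hg
    have hmul := CfsgLib.Fusion.Thompson.card_sup_mul_card_inf hnorm
    rw [htop, Subgroup.card_top, Nat.card_perm, Nat.card_fin] at hmul
    have hz : Nat.card (Subgroup.zpowers s) ≤ 2 := by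
      rw [Nat.card_zpowers]
      exact Nat.le_of_dvd two_pos (orderOf_dvd_iff_pow_eq_one.2 (by rw [pow_two, hs]))
    calc Nat.factorial (m + 3) = Nat.factorial (m + 3) * 1 := (mul_one _).symm
      _ ≤ Nat.factorial (m + 3) * Nat.card ↥(K ⊓ Subgroup.zpowers s) := Nat.mul_le_mul_left _ Nat.card_pos
      _ = Nat.card K * Nat.card (Subgroup.zpowers s) := hmul
      _ ≤ 2 * Nat.card K := by rw [mul_comm 2]; exact Nat.mul_le_mul_left _ hz
  have hA : 2 * Nat.card (alternatingGroup (Fin (m + 3))) = Nat.factorial (m + 3) := by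
    rw [two_mul_nat_card_alternatingGroup, Nat.card_perm, Nat.card_fin]
  haveI := hfin
  have hsurj : Function.Surjective φ := by
    have hKA : K = alternatingGroup (Fin (m + 3)) := by
      refine Subgroup.eq_of_le_of_card_ge (by rintro _ ⟨g, rfl⟩; exact hev g) ?_
      omega
    rintro ⟨σ, hσ⟩
    obtain ⟨g, hg⟩ := hKA.ge hσ
    exact ⟨g, Subtype.ext hg⟩
  refine ⟨MulEquiv.ofBijective φ ((Nat.bijective_iff_surjective_and_card φ).2 ⟨hsurj, ?_⟩)⟩
  have h1 := Nat.card_le_card_of_surjective φ hsurj
  have h2 : 2 * Nat.card (PresentedGroup R) ≤ Nat.factorial (m + 3) := hcard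
  omega

end Cfsg.Agent.S3335
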