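import Cfsg.Statements.S0281
import Cfsg.Agent.Lib.Classical.HermMatrix
import Cfsg.Agent.Lib.Classical.SLOrders

set_option autoImplicit false
open Cfsg

namespace Cfsg.Agent.S0281

/-- SU_2(q) is isomorphic to SL_2(q). -/
theorem result {F K : Type*} [Field F] [Fintype F] [Field K] [Fintype K] {q : ℕ} (hF : Fintype.card F = q ^ 2) (hK : Fintype.card K = q) : Nonempty (Cfsg.SU 2 F q ≃* Matrix.SpecialLinearGroup (Fin 2) K) := by
  classical
  obtain ⟨σ, hσ, hc⟩ := CfsgLib.Classical.exists_frob hF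
  have hq := CfsgLib.Classical.two_le_of_card_sq hF
  obtain ⟨t, ht0, ht⟩ := hc.exists_trace_zero
  let S : Subfield F := σ.eqLocusField (RingHom.id F)
  have hS : Nat.card S = q := by
    have e : {x : S // (x : F) ≠ 0} ≃ CfsgLib.Classical.fixedUnits σ :=
      { toFun := fun x => ⟨Units.mk0 (x.1 : F) x.2, x.1.2⟩
        invFun := fun u => ⟨⟨(u.1 : F), u.2⟩, u.1.ne_zero⟩
        left_inv := fun x => rfl
        right_inv := fun u => Subtype.ext (Units.ext rfl) }
    have h1 := Nat.card_congr e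
    rw [(CfsgLib.Classical.frob_cards hF hσ hc).1] at h1
    have h2 : Nat.card {x : S // (x : F) ≠ 0} = Nat.card Sˣ :=
      Nat.card_congr ((Equiv.subtypeEquivRight (q := fun x : S => x ≠ 0) fun x => not_congr (ZeroMemClass.coe_eq_zero (x := x))).trans unitsEquivNeZero.symm)
    rw [h2, Nat.card_units] at h1
    have := (Finite.one_lt_card : 1 < Nat.card S)
    omega
  have hKS : Fintype.card K = Fintype.card S := by rw [hK, ← hS, Nat.card_eq_fintype_card]
  let ρ : K →+* F := S.subtype.comp (FiniteField.ringEquivOfCardEq hKS).toRingHom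
  have hρ : ∀ x, σ (ρ x) = ρ x := fun x => (FiniteField.ringEquivOfCardEq hKS x).2
  let B : (Fin 2 → F) →ₛₗ[σ] (Fin 2 → F) →ₗ[F] F :=
    LinearMap.mk₂'ₛₗ σ (RingHom.id F) (fun x y => t * (σ (x 0) * y 1 - σ (x 1) * y 0))
      (fun x x' y => by simp; ring) (fun c x y => by simp; ring) (fun x y y' => by simp; ring)
      (fun c x y => by simp; ring)
  have hBa : ∀ x y, B x y = t * (σ (x 0) * y 1 - σ (x 1) * y 0) := fun x y => rfl
  have hBH : CfsgLib.Classical.IsHermitian B := ⟨hc, fun x y => by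
    rw [hBa, hBa, map_mul, map_sub, map_mul, map_mul, hc.invol, hc.invol, eq_neg_of_add_eq_zero_right ht]
    ring⟩
  have hBN : B.SeparatingRight := by
    intro y hy
    have h0 := hy (Pi.single 0 1)
    have h1 := hy (Pi.single 1 1)
    simp [hBa, ht0] at h0 h1
    funext i
    fin_cases i
    · simpa using h1
    · simpa using h0
  obtain ⟨e, he⟩ := hBH.exists_isometry (CfsgLib.Classical.stdHerm_isHermitian hc 2) hBN
    (CfsgLib.Classical.stdHerm_sepRight 2) rfl
  let P : Matrix.GeneralLinearGroup (Fin 2) F := CfsgLib.Classical.linToGL e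
  let ι₀ : Matrix.SpecialLinearGroup (Fin 2) K →* Matrix.GeneralLinearGroup (Fin 2) F :=
    (Matrix.SpecialLinearGroup.toGL).comp (Matrix.SpecialLinearGroup.map ρ)
  let ι : Matrix.SpecialLinearGroup (Fin 2) K →* Matrix.GeneralLinearGroup (Fin 2) F :=
    (MulAut.conj P).toMonoidHom.comp ι₀
  have hinj : Function.Injective ι := by
    refine (MulAut.conj P).injective.comp fun A A' hAA => Subtype.ext (Matrix.ext fun i j => ρ.injective ?_)
    exact congrFun (congrFun (show (ι₀ A : Matrix (Fin 2) (Fin 2) F) = ι₀ A' from congrArg Units.val hAA) i) j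
  have hpres : ∀ A x y, B ((ι₀ A : Matrix (Fin 2) (Fin 2) F).mulVec x)
      ((ι₀ A : Matrix (Fin 2) (Fin 2) F).mulVec y) = B x y := by
    intro A x y
    have hd : ρ (A.1 0 0) * ρ (A.1 1 1) - ρ (A.1 0 1) * ρ (A.1 1 0) = 1 := by
      rw [← map_mul, ← map_mul, ← map_sub, ← Matrix.det_fin_two, A.2, map_one]
    have hval : ∀ (z : Fin 2 → F) (i : Fin 2), (ι₀ A : Matrix (Fin 2) (Fin 2) F).mulVec z i =
        ρ (A.1 i 0) * z 0 + ρ (A.1 i 1) * z 1 := fun z i => by
      simp [ι₀, Matrix.mulVec, dotProduct, Fin.sum_univ_two]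
    rw [hBa, hBa, hval, hval, hval, hval, map_add, map_add, map_mul, map_mul, map_mul, map_mul, hρ, hρ, hρ, hρ]
    linear_combination (t * (σ (x 0) * y 1 - σ (x 1) * y 0)) * hd
  have hmem : ∀ A, ι A ∈ Cfsg.GU 2 F q ∧ Matrix.GeneralLinearGroup.det (ι A) = 1 := by
    intro A
    constructor
    · refine (CfsgLib.Classical.mem_GU_iff hσ).2 fun x y => ?_
      have hm : ∀ z, ((ι A : Matrix.GeneralLinearGroup (Fin 2) F) : Matrix (Fin 2) (Fin 2) F).mulVec z =
          e ((ι₀ A : Matrix (Fin 2) (Fin 2) F).mulVec (e.symm z)) := fun z => by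
        change ((P * ι₀ A * P⁻¹ : Matrix.GeneralLinearGroup (Fin 2) F) : Matrix (Fin 2) (Fin 2) F).mulVec z = _
        rw [Units.val_mul, Units.val_mul, ← Matrix.mulVec_mulVec, ← Matrix.mulVec_mulVec, ← map_inv,
          CfsgLib.Classical.linToGL_mulVec, CfsgLib.Classical.linToGL_mulVec]
        rfl
      rw [hm, hm, he, hpres, ← he, LinearEquiv.apply_symm_apply, LinearEquiv.apply_symm_apply]
    · change Matrix.GeneralLinearGroup.det (P * ι₀ A * P⁻¹) = 1
      rw [map_mul, map_mul, map_inv]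
      have : Matrix.GeneralLinearGroup.det (ι₀ A) = 1 := Units.ext (Matrix.SpecialLinearGroup.map ρ A).2
      rw [this, mul_one, mul_inv_cancel]
  let f : Matrix.SpecialLinearGroup (Fin 2) K →* ↥(Cfsg.SU 2 F q) :=
    { toFun := fun A => ⟨⟨(ι A : Matrix (Fin 2) (Fin 2) F), congrArg Units.val (hmem A).2⟩, (hmem A).1⟩
      map_one' := Subtype.ext (Subtype.ext (by simp))
      map_mul' := fun A A' => Subtype.ext (Subtype.ext (by
        show (ι (A * A') : Matrix (Fin 2) (Fin 2) F) = (ι A : Matrix (Fin 2) (Fin 2) F) * (ι A' : Matrix (Fin 2) (Fin 2) F)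
        rw [map_mul, Units.val_mul])) }
  have hf : Function.Injective f := fun A A' h => hinj (Units.ext (congrArg (fun g : ↥(Cfsg.SU 2 F q) => g.1.1) h))
  have h1 := CfsgLib.Classical.card_SU_mul (n := 2) hF (by norm_num)
  have h2 := CfsgLib.Classical.card_sl_mul (F := K) hK 2 (by norm_num)
  rw [CfsgLib.Classical.card_GU hF 2] at h1
  norm_num [Finset.prod_range_succ, -Nat.card_eq_fintype_card] at h1
  simp [Fin.prod_univ_two, -Nat.card_eq_fintype_card] at h2
  refine ⟨(MulEquiv.ofBijective f ((Nat.bijective_iff_injective_and_card f).2 ⟨hf, ?_⟩)).symm⟩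
  obtain ⟨r, rfl⟩ : ∃ r, q = r + 2 := ⟨q - 2, by omega⟩
  have e1 : (r + 2) ^ 2 - 1 = (r + 1) * (r + 3) := by ring_nf; omega
  have e2 : (r + 2) ^ 2 - (r + 2) = (r + 2) * (r + 1) := by ring_nf; omega
  simp only [e1, e2, show r + 2 - 1 = r + 1 by omega] at h1 h2
  have h3 : (r + 3) * Nat.card ↥(Cfsg.SU 2 F (r + 2)) = (r + 3) * ((r + 2) * ((r + 1) * (r + 3))) := by linear_combination h1
  have h4 : (r + 1) * Nat.card (Matrix.SpecialLinearGroup (Fin 2) K) = (r + 1) * ((r + 2) * ((r + 1) * (r + 3))) := by linear_combination h2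
  rw [Nat.eq_of_mul_eq_mul_left (by omega) h3, Nat.eq_of_mul_eq_mul_left (by omega) h4]

end Cfsg.Agent.S0281
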