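import Cfsg.Statements.S0295
import Cfsg.Agent.Lib.Classical.OrthSimple

set_option autoImplicit false
open Cfsg

namespace Cfsg.Agent.S0295

/-- PΩ_{2m+1}(q) is simple for q odd and m at least 3. -/
theorem result {F : Type*} [Field F] [Fintype F] (hodd : Odd (Fintype.card F)) (m : ℕ) (hm : 3 ≤ m) : IsSimpleGroup (Cfsg.POmega F (Cfsg.quadFormOdd m F)) := by
  classical
  have h2 : (2 : F) ≠ 0 := CfsgLib.KnownC.OrthTools.two_ne_zero_of_odd rfl hodd
  refine CfsgLib.Classical.pomega_simple (CfsgLib.Orth.oddForm F m) (CfsgLib.Orth.oddForm_apply m)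
    (CfsgLib.Orth.oddForm_nondeg m h2) (CfsgLib.Orth.good_of_two_ne h2)
    (CfsgLib.Classical.hypPairs_odd m (by omega)) ?_
  simp [Module.finrank_pi]
  omega

end Cfsg.Agent.S0295
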