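import Cfsg.Statements.S0247
import Cfsg.Agent.Lib.Classical.SympModels

set_option autoImplicit false
open Cfsg

namespace Cfsg.Agent.S0247

/-- Sp_4(2) is isomorphic to the symmetric group S_6. -/
theorem result {F : Type*} [Field F] [Fintype F] (hF : Fintype.card F = 2) : Nonempty (Matrix.symplecticGroup (Fin 2) F ≃* Equiv.Perm (Fin 6)) := by
  classical
  haveI : CharP F 2 := charP_of_card_eq_prime hF
  obtain ⟨f, hf⟩ := CfsgLib.Classical.exists_perm_to_sp (F := F) 3 le_rfl
  refine ⟨(MulEquiv.ofBijective f ((Nat.bijective_iff_injective_and_card f).2 ⟨hf, ?_⟩)).symm⟩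
  rw [Nat.card_perm, Nat.card_fin, CfsgLib.Classical.card_symplecticGroup, hF]
  rfl

end Cfsg.Agent.S0247
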