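import Cfsg.Statements.S2570
import Cfsg.Agent.Lib.KnownC.JordanCount

set_option autoImplicit false
open Cfsg

namespace Cfsg.Agent.S2570

/-- Number of conjugacy classes of elements of order p in GL_n over a finite field of characteristic p: they correspond to the Jordan types, that is, to the partitions of n with all parts at most p other than the partition into ones, so there are (number of partitions of n with parts ≤ p) − 1 of them. -/
theorem result {F : Type*} [Field F] [Fintype F] {p : ℕ} [Fact p.Prime] [CharP F p] (n : ℕ) : Nat.card {C : ConjClasses (GL (Fin n) F) // ∃ g : GL (Fin n) F, ConjClasses.mk g = C ∧ orderOf g = p} = (Finset.univ.filter (fun μ : Nat.Partition n => ∀ a ∈ μ.parts, a ≤ p)).card - 1 := by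
  classical
  rw [CfsgLib.KnownC.JordanNormal.card_classes (F := F) (n := n) (fun g => orderOf g = p)
    (fun μ => (∀ a ∈ μ.parts, a ≤ p) ∧ ∃ a ∈ μ.parts, 1 < a) ?_ ?_]
  · have hones : (⟨Multiset.replicate n 1, fun h => by rw [Multiset.eq_of_mem_replicate h]; exact one_pos,
        by rw [Multiset.sum_replicate, smul_eq_mul, mul_one]⟩ : Nat.Partition n) ∈
        Finset.univ.filter (fun μ : Nat.Partition n => ∀ a ∈ μ.parts, a ≤ p) :=
      Finset.mem_filter.2 ⟨Finset.mem_univ _, fun a h => by
        rw [Multiset.eq_of_mem_replicate h]; exact (Fact.out : p.Prime).one_le⟩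
    rw [Nat.card_eq_fintype_card, Fintype.card_subtype, ← Finset.card_erase_of_mem hones]
    congr 1
    ext μ
    simp only [Finset.mem_filter, Finset.mem_univ, true_and, Finset.mem_erase]
    constructor
    · rintro ⟨h1, a, ha, h2⟩
      refine ⟨fun e => ?_, h1⟩
      rw [e] at ha
      rw [Multiset.eq_of_mem_replicate ha] at h2
      exact lt_irrefl _ h2
    · rintro ⟨h1, h2⟩
      refine ⟨h2, ?_⟩
      by_contra h
      push Not at h
      refine h1 (Nat.Partition.ext (Multiset.eq_replicate.2 ⟨?_, fun a ha => le_antisymm (h a ha) (μ.parts_pos ha)⟩))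
      have e : μ.parts = Multiset.replicate (Multiset.card μ.parts) 1 :=
        Multiset.eq_replicate.2 ⟨rfl, fun a ha => le_antisymm (h a ha) (μ.parts_pos ha)⟩
      have := μ.parts_sum
      rw [e, Multiset.sum_replicate, smul_eq_mul, mul_one] at this
      exact this
  · intro g h
    exact ⟨p, ((CfsgLib.KnownC.JordanNormal.orderOf_eq_prime_iff' g).1 h).1⟩
  · intro g hg
    rw [CfsgLib.KnownC.JordanNormal.orderOf_eq_prime_iff', CfsgLib.KnownC.JordanNormal.pow_sub_one_eq_zero_iff hg]
    refine and_congr Iff.rfl ?_
    rw [← not_forall_not (p := fun a => a ∈ _ ∧ 1 < a)]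
    refine not_congr ?_
    have h1 := CfsgLib.KnownC.JordanNormal.pow_sub_one_eq_zero_iff hg 1
    rw [pow_one, sub_eq_zero, Units.val_eq_one] at h1
    rw [h1]
    exact forall_congr' fun a => by simp [CfsgLib.KnownC.JordanNormal.jordanPartition]
end Cfsg.Agent.S2570
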