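import Cfsg.Statements.S2642
import Cfsg.Agent.S2570
import Cfsg.Agent.Lib.KnownC.GUConj


set_option autoImplicit false
open Cfsg

namespace Cfsg.Agent.S2642

open Matrix CfsgLib.Classical CfsgLib.KnownC.GUConj CfsgLib.KnownC.JordanNormal

theorem rank_map_field {K : Type*} [Field K] [Fintype K] {n : ℕ} (σ : K →+* K) (M : Matrix (Fin n) (Fin n) K) :
    (M.map σ).rank = M.rank := by
  classical
  have hb : Function.Bijective σ := Finite.injective_iff_bijective.1 σ.injective
  let E : (Fin n → K) ≃ (Fin n → K) := Equiv.piCongrRight fun _ => Equiv.ofBijective σ hb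
  have hE : ∀ x, (M.map σ) *ᵥ (E x) = E (M *ᵥ x) := fun x => by
    funext i
    exact (RingHom.map_mulVec σ M x i).symm
  let e : LinearMap.range M.mulVecLin ≃ LinearMap.range (M.map σ).mulVecLin := E.subtypeEquiv fun y => by
    constructor
    · rintro ⟨x, rfl⟩; exact ⟨E x, hE x⟩
    · rintro ⟨x, hx⟩
      refine ⟨E.symm x, E.injective ?_⟩
      rw [Matrix.mulVecLin_apply, ← hE, Equiv.apply_symm_apply]
      exact hx
  have h := Nat.card_congr e
  rw [Module.natCard_eq_pow_finrank (K := K) (V := LinearMap.range M.mulVecLin),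
    Module.natCard_eq_pow_finrank (K := K) (V := LinearMap.range (M.map σ).mulVecLin)] at h
  exact (Nat.pow_right_injective (show 2 ≤ Nat.card K by rw [Nat.card_eq_fintype_card]; exact Fintype.one_lt_card) h).symm

theorem similar_adj {K : Type*} [Field K] [Fintype K] {q n : ℕ} {σ : K →+* K} (hσ : ∀ x, σ x = x ^ q)
    (hc : IsConjugation σ) (g : GL (Fin n) K) (hg : IsNilpotent (g.val - 1)) :
    IsConj (g : Matrix (Fin n) (Fin n) K)
      (((g : Matrix (Fin n) (Fin n) K).map (fun x : K => x ^ q)).transpose)⁻¹ := by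
  classical
  set h := adjGL σ g
  have key : ∀ j : ℕ, (((h⁻¹ : GL (Fin n) K).val - 1) ^ j).rank = ((g.val - 1) ^ j).rank := fun j => by
    have e1 : (h⁻¹ : GL (Fin n) K).val - 1 = -(h⁻¹ : GL (Fin n) K).val * (h.val - 1) := by
      rw [neg_mul, mul_sub, Units.inv_mul, mul_one, neg_sub]
    have hcomm : Commute (-(h⁻¹ : GL (Fin n) K).val) (h.val - 1) :=
      ((((Commute.refl h).inv_left).map (Units.coeHom _)).sub_right (Commute.one_right _)).neg_left
    have hu : IsUnit ((-(h⁻¹ : GL (Fin n) K).val) ^ j).det :=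
      (Matrix.isUnit_iff_isUnit_det _).1 ((Units.isUnit (h⁻¹)).neg.pow j)
    rw [e1, hcomm.mul_pow, Matrix.rank_mul_eq_right_of_isUnit_det _ _ hu]
    have e2 : h.val - 1 = ((g.val - 1).map σ)ᵀ := by
      rw [show h.val = (g.val.map σ)ᵀ from rfl, Matrix.map_sub σ (map_sub σ), Matrix.transpose_sub,
        Matrix.map_one σ (map_zero σ) (map_one σ), Matrix.transpose_one]
    rw [e2, ← Matrix.transpose_pow, Matrix.rank_transpose, ← RingHom.mapMatrix_apply, ← map_pow,
      RingHom.mapMatrix_apply, rank_map_field]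
  have hh : IsNilpotent ((h⁻¹ : GL (Fin n) K).val - 1) := by
    obtain ⟨m, hm⟩ := hg
    refine ⟨m, ?_⟩
    have e := key m
    rw [hm, Matrix.rank_zero] at e
    rw [Matrix.rank, Submodule.finrank_eq_zero, LinearMap.range_eq_bot] at e
    exact Matrix.toLin'.injective (e.trans (map_zero _).symm)
  have hconj : IsConj g h⁻¹ := by
    refine isConj_of_sizes_eq hg hh ?_
    have a := (isNilpotent_toLin g).2 hg
    have b := (isNilpotent_toLin h⁻¹).2 hh
    rw [jordanSizes, dif_pos a, jordanSizes, dif_pos b]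
    have ca := (exists_chains a).choose_spec.choose_spec.choose_spec
    have cb := (exists_chains b).choose_spec.choose_spec.choose_spec
    refine map_eq_map ca.pos cb.pos fun j => ?_
    rw [← ca.finrank_range_pow, ← cb.finrank_range_pow, ← Matrix.toLin'_pow, ← Matrix.toLin'_pow]
    exact (key j).symm
  have e : (((g : Matrix (Fin n) (Fin n) K).map (fun x : K => x ^ q)).transpose)⁻¹ = (h⁻¹ : GL (Fin n) K).val := by
    rw [Matrix.coe_units_inv, ← funext hσ]
    rfl
  rw [e]
  exact MonoidHom.map_isConj (Units.coeHom _) hconj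

/-- Number of conjugacy classes of elements of order p in the general unitary group GU_n(q), q a power of p: every unipotent Jordan type occurs and the classes correspond to the partitions of n with all parts at most p other than the all-ones partition, exactly as in GL_n; so there are (number of partitions of n with parts ≤ p) − 1 classes. -/
theorem result {K : Type*} [Field K] [Fintype K] {p q n : ℕ} [Fact p.Prime] [CharP K p] (hK : Fintype.card K = q ^ 2) : Nat.card {C : ConjClasses ↥(Cfsg.GU n K q) // ∃ g : ↥(Cfsg.GU n K q), ConjClasses.mk g = C ∧ orderOf g = p} = (Finset.univ.filter (fun μ : Nat.Partition n => ∀ a ∈ μ.parts, a ≤ p)).card - 1 := by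
  classical
  rw [← Cfsg.Agent.S2570.result (F := K) (p := p) n]
  obtain ⟨σ, hσ, hc⟩ := CfsgLib.Classical.exists_frob hK
  let f : {C : ConjClasses ↥(Cfsg.GU n K q) // ∃ g : ↥(Cfsg.GU n K q), ConjClasses.mk g = C ∧ orderOf g = p} →
      {C : ConjClasses (GL (Fin n) K) // ∃ g : GL (Fin n) K, ConjClasses.mk g = C ∧ orderOf g = p} := fun C =>
    ⟨ConjClasses.map (Cfsg.GU n K q).subtype C.1, by
      obtain ⟨g, hg, ho⟩ := C.2
      exact ⟨(g : GL (Fin n) K), by rw [← hg]; rfl, by rw [Subgroup.orderOf_coe, ho]⟩⟩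
  refine Nat.card_eq_of_bijective f ⟨?_, ?_⟩
  · intro a b hab
    obtain ⟨g, hg, -⟩ := a.2
    obtain ⟨h, hh, -⟩ := b.2
    refine Subtype.ext ?_
    have e : ConjClasses.map (Cfsg.GU n K q).subtype a.1 = ConjClasses.map (Cfsg.GU n K q).subtype b.1 :=
      congrArg Subtype.val hab
    rw [← hg, ← hh] at e ⊢
    exact ConjClasses.mk_eq_mk_iff_isConj.2 ((CfsgLib.KnownC.GUConj.isConj_iff_linear hK g h).2
      (ConjClasses.mk_eq_mk_iff_isConj.1 e))
  · rintro ⟨C, g, rfl, hg⟩
    have hnil : IsNilpotent (g.val - 1) := ⟨p, ((CfsgLib.KnownC.JordanNormal.orderOf_eq_prime_iff' g).1 hg).1⟩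
    obtain ⟨B, hB⟩ := (CfsgLib.KnownC.GUConj.similar_iff hK g).2 (similar_adj hσ hc g hnil)
    refine ⟨⟨ConjClasses.mk B, B, rfl, ?_⟩, Subtype.ext (ConjClasses.mk_eq_mk_iff_isConj.2 hB.symm)⟩
    obtain ⟨c, hc⟩ := isConj_iff.1 hB
    rw [← Subgroup.orderOf_coe, ← hc, ← hg]
    exact orderOf_injective (MulAut.conj c).toMonoidHom (MulAut.conj c).injective g
end Cfsg.Agent.S2642
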