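import Cfsg.Statements.S1054
import Cfsg.Agent.Lib.Chevalley.TablesCerts
-- import your own Cfsg.Agent.* helpers here

set_option autoImplicit false
open Cfsg

namespace Cfsg.Agent.S1054

/-- The Chevalley groups of types D₄, F₄, E₆, E₇, E₈ are simple over every field. -/
theorem result {F : Type*} [Field F] (D : Cfsg.Lie.ChevalleyDatum)
    (hD : D ∈ [Cfsg.Lie.chevD4, Cfsg.Lie.chevF4, Cfsg.Lie.chevE6, Cfsg.Lie.chevE7, Cfsg.Lie.chevE8]) :
    IsSimpleGroup ↥(D.group F) ∧ ¬ IsMulCommutative ↥(D.group F) := by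
  simp only [List.mem_cons, List.not_mem_nil, or_false] at hD
  rcases hD with rfl | rfl | rfl | rfl | rfl
  · rw [← CfsgLib.Chevalley.Data.D4.datum_eq]
    exact CfsgLib.Chevalley.Tbl.simple_group CfsgLib.Chevalley.Data.D4.valid CfsgLib.Chevalley.Data.D4.chkComm
      (fun h => absurd h Bool.false_ne_true) CfsgLib.Chevalley.Data.D4.chkPerfect CfsgLib.Chevalley.Data.D4.chkConn
  · rw [← CfsgLib.Chevalley.Data.F4.datum_eq]
    exact CfsgLib.Chevalley.Tbl.simple_group CfsgLib.Chevalley.Data.F4.valid CfsgLib.Chevalley.Data.F4.chkComm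
      (fun h => absurd h Bool.false_ne_true) CfsgLib.Chevalley.Data.F4.chkPerfect CfsgLib.Chevalley.Data.F4.chkConn
  · rw [← CfsgLib.Chevalley.Data.E6.datum_eq]
    exact CfsgLib.Chevalley.Tbl.simple_group CfsgLib.Chevalley.Data.E6.valid CfsgLib.Chevalley.Data.E6.chkComm
      (fun h => absurd h Bool.false_ne_true) CfsgLib.Chevalley.Data.E6.chkPerfect CfsgLib.Chevalley.Data.E6.chkConn
  · rw [← CfsgLib.Chevalley.Data.E7.datum_eq]
    exact CfsgLib.Chevalley.Tbl.simple_group CfsgLib.Chevalley.Data.E7.valid CfsgLib.Chevalley.Data.E7.chkComm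
      (fun h => absurd h Bool.false_ne_true) CfsgLib.Chevalley.Data.E7.chkPerfect CfsgLib.Chevalley.Data.E7.chkConn
  · rw [← CfsgLib.Chevalley.Data.E8.datum_eq]
    exact CfsgLib.Chevalley.Tbl.simple_group CfsgLib.Chevalley.Data.E8.valid CfsgLib.Chevalley.Data.E8.chkComm
      (fun h => absurd h Bool.false_ne_true) CfsgLib.Chevalley.Data.E8.chkPerfect CfsgLib.Chevalley.Data.E8.chkConn

end Cfsg.Agent.S1054
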