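import Cfsg.Statements.S0307
import Cfsg.Agent.Lib.Classical.SLOrders

set_option autoImplicit false
open Cfsg

namespace Cfsg.Agent.S0307

/-- PSL_n(q) is normal in PGL_n(q) with cyclic quotient of order gcd(n, q-1): the image of the natural map PSL_n → PGL_n is the kernel of a surjective homomorphism onto the cyclic group of that order. -/
theorem result {F : Type*} [Field F] [Fintype F] {q : ℕ} (hF : Fintype.card F = q) (n : ℕ) (hn : 1 ≤ n) : ∃ g : Matrix.ProjGenLinGroup (Fin n) F →* Multiplicative (ZMod (Nat.gcd n (q - 1))), Function.Surjective g ∧ g.ker = (Matrix.ProjectiveSpecialLinearGroup.toPGL : Matrix.ProjectiveSpecialLinearGroup (Fin n) F →* Matrix.ProjGenLinGroup (Fin n) F).range := by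
  subst hF
  classical
  have : NeZero n := ⟨by omega⟩
  set N : Subgroup Fˣ := (powMonoidHom n : Fˣ →* Fˣ).range with hN
  have hcard : Nat.card (Fˣ ⧸ N) = Nat.gcd n (Fintype.card F - 1) := by
    rw [← Subgroup.index_eq_card, hN, IsCyclic.index_powMonoidHom_range, Nat.card_units,
      Nat.card_eq_fintype_card, Nat.gcd_comm]
  have : IsCyclic (Fˣ ⧸ N) := isCyclic_of_surjective _ (QuotientGroup.mk'_surjective N)
  let e : Fˣ ⧸ N ≃* Multiplicative (ZMod (Nat.gcd n (Fintype.card F - 1))) :=
    (hcard ▸ (zmodCyclicMulEquiv this).symm)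
  let f : Matrix.GeneralLinearGroup (Fin n) F →* Multiplicative (ZMod (Nat.gcd n (Fintype.card F - 1))) :=
    e.toMonoidHom.comp ((QuotientGroup.mk' N).comp Matrix.GeneralLinearGroup.det)
  have hf : f.comp (Matrix.GeneralLinearGroup.scalar (Fin n)) = 1 := by
    ext1 u
    simp only [f, MonoidHom.comp_apply, MonoidHom.one_apply, MulEquiv.coe_toMonoidHom,
      QuotientGroup.mk'_apply]
    rw [map_eq_one_iff e e.injective, QuotientGroup.eq_one_iff]
    exact ⟨u, Units.ext (by simp [Matrix.GeneralLinearGroup.coe_scalar])⟩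
  refine ⟨Matrix.ProjGenLinGroup.lift f hf, ?_, ?_⟩
  · intro y
    obtain ⟨z, rfl⟩ := e.surjective y
    obtain ⟨u, rfl⟩ := QuotientGroup.mk'_surjective N z
    obtain ⟨g, rfl⟩ := CfsgLib.Classical.glDet_surjective (n := Fin n) u
    exact ⟨Matrix.ProjGenLinGroup.mk g, rfl⟩
  · ext x
    induction x using Matrix.ProjGenLinGroup.induction_on with | mk g => ?_
    rw [MonoidHom.mem_ker, Matrix.ProjGenLinGroup.lift_mk]
    simp only [f, MonoidHom.comp_apply, MulEquiv.coe_toMonoidHom, QuotientGroup.mk'_apply]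
    rw [map_eq_one_iff e e.injective, QuotientGroup.eq_one_iff]
    constructor
    · rintro ⟨u, hu⟩
      have hk : g * Matrix.GeneralLinearGroup.scalar (Fin n) u⁻¹ ∈
          (Matrix.GeneralLinearGroup.det : Matrix.GeneralLinearGroup (Fin n) F →* Fˣ).ker := by
        rw [MonoidHom.mem_ker, map_mul, ← hu]
        apply Units.ext
        simp [Matrix.GeneralLinearGroup.coe_scalar, Units.ne_zero]
      rw [CfsgLib.Classical.ker_glDet_eq_range_toGL] at hk
      obtain ⟨s, hs⟩ := hk
      refine ⟨QuotientGroup.mk s, ?_⟩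
      rw [Matrix.ProjectiveSpecialLinearGroup.toPGL_mk, hs, map_mul,
        Matrix.ProjGenLinGroup.mk_scalar, mul_one]
    · rintro ⟨y, hy⟩
      induction y using QuotientGroup.induction_on with | H s => ?_
      rw [Matrix.ProjectiveSpecialLinearGroup.toPGL_mk, Matrix.ProjGenLinGroup.mk_eq_mk_iff] at hy
      obtain ⟨u, rfl⟩ := hy
      refine ⟨u, Units.ext ?_⟩
      simp [Matrix.GeneralLinearGroup.coe_scalar]

end Cfsg.Agent.S0307
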