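import Cfsg.Statements.S0325
import Cfsg.Agent.Lib.KnownB.SuzukiTransfer

set_option autoImplicit false
open Cfsg CfsgLib.KnownB.Suzuki CfsgLib.KnownB.SzElem

namespace Cfsg.Agent.S0325

/-- The Suzuki group over a field with `2^(2m+1)` elements, `m ≥ 1`, is a simple group. -/
theorem result {F : Type*} [Field F] [Fintype F] {m : ℕ} (hm : 1 ≤ m)
    (hF : Fintype.card F = 2 ^ (2 * m + 1)) :
    IsSimpleGroup (Cfsg.Sz F m) := by
  obtain ⟨he, φ, -⟩ := exists_equiv_of_card hm hF
  have h := isSimpleGroup he (exists_unit_ne_one hm hF)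
  exact φ.symm.isSimpleGroup

end Cfsg.Agent.S0325
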