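import Cfsg.Statements.S0326
import Cfsg.Agent.Lib.KnownB.SuzukiTransfer

set_option autoImplicit false
open Cfsg CfsgLib.KnownB.Suzuki CfsgLib.KnownB.SzElem

namespace Cfsg.Agent.S0326

/-- The Suzuki–Tits ovoid over a finite field with `q` elements has `q² + 1` points. -/
theorem result {F : Type*} [Field F] [Fintype F] (m : ℕ) :
    Nat.card (Cfsg.suzukiOvoid F m) = Fintype.card F ^ 2 + 1 := by
  classical
  let f : Option (F × F) → Projectivization F (Fin 4 → F) := fun o => match o with
    | none => Projectivization.mk F ![1, 0, 0, 0] (by simp)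
    | some (x, y) => Projectivization.mk F
        ![x * y + x ^ (2 ^ (m + 1) + 2) + y ^ (2 ^ (m + 1)), y, x, 1] (by simp)
  have hrange : Set.range f = Cfsg.suzukiOvoid F m := by
    ext p
    constructor
    · rintro ⟨_ | ⟨x, y⟩, rfl⟩
      · exact ⟨_, _, rfl, Or.inl rfl⟩
      · exact ⟨_, _, rfl, Or.inr ⟨x, y, rfl⟩⟩
    · rintro ⟨v, hv, rfl, rfl | ⟨x, y, rfl⟩⟩
      · exact ⟨none, rfl⟩
      · exact ⟨some (x, y), rfl⟩
  have hinj : Function.Injective f := by
    rintro (_ | ⟨x, y⟩) (_ | ⟨x', y'⟩) h <;>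
      simp only [f, Projectivization.mk_eq_mk_iff'] at h
    · rfl
    · obtain ⟨a, ha⟩ := h
      have h3 := congrFun ha 3
      simp at h3
      simpa [h3] using congrFun ha 0
    · obtain ⟨a, ha⟩ := h
      simpa using congrFun ha 3
    · obtain ⟨a, ha⟩ := h
      have h3 := congrFun ha 3
      simp at h3
      have h1 := congrFun ha 1
      have h2 := congrFun ha 2
      simp [h3] at h1 h2
      rw [h1, h2]
  rw [← hrange, Nat.card_range_of_injective hinj]
  simp [pow_two]

end Cfsg.Agent.S0326
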