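import Cfsg.Statements.S0327
import Cfsg.Agent.Lib.KnownB.SuzukiTransfer

set_option autoImplicit false
open Cfsg CfsgLib.KnownB.Suzuki CfsgLib.KnownB.SzElem

namespace Cfsg.Agent.S0327

/-- The Suzuki group (`m ≥ 1`) is a Zassenhaus group on the `q² + 1` points of the Suzuki–Tits ovoid. -/
theorem result {F : Type*} [Field F] [Fintype F] {m : ℕ} (hm : 1 ≤ m)
    (hF : Fintype.card F = 2 ^ (2 * m + 1)) :
    Cfsg.IsZassenhausGroup (Cfsg.Sz F m) (Cfsg.suzukiOvoid F m) := by
  obtain ⟨he, φ, u, hu, -⟩ := exists_ovoid_equiv hm hF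
  have htrans : ∀ (g : Cfsg.Sz F m) x, g • u x = u (φ.symm g • x) := fun g x => by
    rw [← hu, φ.apply_symm_apply]
  have hfix : ∀ (g : Cfsg.Lie.Sz F (2 ^ (m + 1))) a b c, a ≠ b → b ≠ c → a ≠ c →
      g • a = a → g • b = b → g • c = c →
      (a : Cfsg.Lie.Sz F (2 ^ (m + 1)) ⧸ borel F _) = QuotientGroup.mk 1 →
      b = QuotientGroup.mk (W he) → g = 1 := by
    intro g a b c hab hbc hac ha hb hc ea eb
    subst ea eb
    have h1 : g ∈ borel F (2 ^ (m + 1)) := by simpa using QuotientGroup.eq.1 ha.symm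
    obtain ⟨x, y, t, rfl⟩ := exists_borel_eq he g h1
    rw [MulAction.Quotient.smul_mk, smul_eq_mul, eq_comm, QuotientGroup.eq, mul_assoc (P he x y),
      H_conj_W, ← mul_assoc, ← mul_assoc, Subgroup.mul_mem_cancel_right _ (H_mem_borel he _)] at hb
    obtain ⟨h3, h4⟩ := P_W_P_mem_borel_iff he (a := 0) (b := 0) (c := x) (d := y)
      (by rwa [P_zero, one_mul, ← mul_assoc])
    subst h3 h4
    rw [P_zero, one_mul] at hc ⊢
    obtain ⟨o, rfl⟩ := (cosetRep_bijective he).2 c
    match o with
    | none => exact absurd rfl hac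
    | some (a', b') =>
      simp only [cosetRep] at hc
      rw [MulAction.Quotient.smul_mk, smul_eq_mul, ← mul_assoc,
        show H _ he t * P he a' b' * W he = H _ he t * P he a' b' * (H _ he t)⁻¹ * W he * H _ he t⁻¹ by
          simp only [mul_assoc, ← H_conj_W, inv_mul_cancel_left],
        H_conj_P, eq_comm, QuotientGroup.eq, ← mul_assoc,
        Subgroup.mul_mem_cancel_right _ (H_mem_borel he _)] at hc
      obtain ⟨h5, h6⟩ := P_W_P_mem_borel_iff he hc
      have ht : (t : F) = 1 := by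
        by_cases ha' : a' = 0
        · refine eq_one_of_pow_e2 he (mul_right_cancel₀ (?_ : b' ≠ 0) (by rw [← h6, one_mul]))
          rintro rfl
          apply hbc
          simp [cosetRep, ha', P_zero]
        · exact eq_one_of_pow_e he (mul_right_cancel₀ ha' (by rw [← h5, one_mul]))
      rw [show t = 1 from Units.ext ht, H_one]
  have h2t := two_pretransitive (F := F) he
  have h2t' : ∀ {a b c d : Cfsg.Lie.Sz F (2 ^ (m + 1)) ⧸ borel F (2 ^ (m + 1))}, a ≠ b → c ≠ d →
      ∃ g : Cfsg.Lie.Sz F (2 ^ (m + 1)), g • a = c ∧ g • b = d :=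
    fun hab hcd => MulAction.is_two_pretransitive_iff.1 h2t hab hcd
  have hf := faithful (F := F) he
  have h2s : MulAction.IsMultiplyPretransitive (Cfsg.Sz F m) (Cfsg.suzukiOvoid F m) 2 := by
    rw [MulAction.is_two_pretransitive_iff]
    intro a b c d hab hcd
    obtain ⟨a, rfl⟩ := u.surjective a
    obtain ⟨b, rfl⟩ := u.surjective b
    obtain ⟨c, rfl⟩ := u.surjective c
    obtain ⟨d, rfl⟩ := u.surjective d
    obtain ⟨g, h1, h2⟩ := h2t' (ne_of_apply_ne u hab) (ne_of_apply_ne u hcd)
    exact ⟨φ g, by rw [hu, h1], by rw [hu, h2]⟩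
  have hne : (QuotientGroup.mk 1 : Cfsg.Lie.Sz F (2 ^ (m + 1)) ⧸ borel F _) ≠
      QuotientGroup.mk (W he) := fun h => W_notMem_borel he (by simpa using QuotientGroup.eq.1 h)
  refine ⟨?_, h2s, ?_, ?_, ?_⟩
  · refine ⟨fun {g h} hgh => φ.symm.injective (hf.eq_of_smul_eq_smul fun x => u.injective ?_)⟩
    rw [← htrans, ← htrans]
    exact hgh (u x)
  · intro g a b c hab hbc hac hga hgb hgc
    obtain ⟨a, rfl⟩ := u.surjective a
    obtain ⟨b, rfl⟩ := u.surjective b
    obtain ⟨c, rfl⟩ := u.surjective c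
    rw [htrans] at hga hgb hgc
    obtain ⟨k, hka, hkb⟩ := h2t' (ne_of_apply_ne u hab) hne
    have hconj : ∀ z : Cfsg.Lie.Sz F (2 ^ (m + 1)) ⧸ borel F (2 ^ (m + 1)), φ.symm g • z = z → (k * φ.symm g * k⁻¹) • (k • z) = k • z := by
      intro z hz
      rw [mul_smul, mul_smul, inv_smul_smul, hz]
    have h1 := hfix (k * φ.symm g * k⁻¹) (k • a) (k • b) (k • c)
      (fun h => ne_of_apply_ne u hab (MulAction.injective k h))
      (fun h => ne_of_apply_ne u hbc (MulAction.injective k h))
      (fun h => ne_of_apply_ne u hac (MulAction.injective k h))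
      (hconj a (u.injective hga)) (hconj b (u.injective hgb)) (hconj c (u.injective hgc)) hka hkb
    rw [mul_inv_eq_one, mul_eq_left] at h1
    simpa using h1
  · obtain ⟨t, ht⟩ := exists_unit_ne_one hm hF
    refine ⟨φ (H _ he t), fun h => ht (H_injective he ?_), u (QuotientGroup.mk 1),
      u (QuotientGroup.mk (W he)), fun h => hne (u.injective h), ?_, ?_⟩
    · rw [H_one]
      exact φ.injective (h.trans φ.map_one.symm)
    · rw [hu]
      congr 1
      exact (QuotientGroup.eq.2 (by simpa using H_mem_borel he t)).symm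
    · rw [hu, MulAction.Quotient.smul_mk, smul_eq_mul, H_conj_W]
      congr 1
      exact (QuotientGroup.eq.2 (by simpa using H_mem_borel he t⁻¹)).symm
  · intro N hN htr
    have hsimp : IsSimpleGroup (Cfsg.Sz F m) := by
      have := isSimpleGroup he (exists_unit_ne_one hm hF)
      exact φ.symm.isSimpleGroup
    refine ⟨u (QuotientGroup.mk 1), ?_⟩
    rcases hN.eq_bot_or_eq_top with h | h
    · exfalso
      subst h
      obtain ⟨n, hn⟩ := htr.exists_smul_eq (u (QuotientGroup.mk 1)) (u (QuotientGroup.mk (W he)))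
      rw [show n = 1 from Subtype.ext (Subgroup.mem_bot.1 n.2), one_smul] at hn
      exact hne (u.injective hn)
    · obtain ⟨t, ht⟩ := exists_unit_ne_one hm hF
      intro hb
      rw [Subgroup.eq_bot_iff_forall] at hb
      have hmem : φ (H _ he t) ∈ N := h ▸ Subgroup.mem_top _
      have h1 := hb ⟨_, hmem⟩ (by
        rw [MulAction.mem_stabilizer_iff]
        show φ (H _ he t) • u _ = u _
        rw [hu]
        congr 1
        exact (QuotientGroup.eq.2 (by simpa using H_mem_borel he t)).symm)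
      apply ht
      apply H_injective he
      rw [H_one]
      exact φ.injective ((congrArg Subtype.val h1).trans φ.map_one.symm)

end Cfsg.Agent.S0327
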