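import Cfsg.Statements.S1137
import Cfsg.Agent.Lib.RankOne.SuzukiTwo

set_option autoImplicit false
open Cfsg

namespace Cfsg.Agent.S1137

/-- In a Suzuki 2-group `P` (a finite non-abelian 2-group with more than one involution admitting a cyclic group of automorphisms regular on its involutions) the involutions are exactly the non-identity central elements, and `Z(P)` is elementary abelian. -/
theorem result {P : Type*} [Group P] (hP : Cfsg.IsSuzukiTwoGroup P) :
    (∀ x : P, (x ≠ 1 ∧ x * x = 1) ↔ (x ∈ Subgroup.center P ∧ x ≠ 1)) ∧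
      ∀ z ∈ Subgroup.center P, z * z = 1 := by
  obtain ⟨hfin, h2, hna, -, K, hK, htrans⟩ := hP
  haveI := hfin
  haveI := hK
  letI := IsCyclic.commGroup (α := K)
  have hA : CfsgLib.RankOne.SuzukiTwo.Trans (K.subtype : K →* MulAut P) := fun x y hx1 hx hy1 hy =>
    (htrans x y hx1 hx hy1 hy).exists
  have hsq := CfsgLib.RankOne.SuzukiTwo.center_sq (Nat.card P) P rfl (K.subtype : K →* MulAut P) h2 hA hna
  exact ⟨fun x => ⟨fun h => ⟨CfsgLib.RankOne.SuzukiTwo.central_of_invol h2 hA h.2, h.1⟩,
    fun h => ⟨h.2, hsq x h.1⟩⟩, hsq⟩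

end Cfsg.Agent.S1137
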