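import Cfsg.Statements.S1138
import Cfsg.Agent.Lib.RankOne.SuzukiTwoOrder
-- import your own Cfsg.Agent.* helpers here

set_option autoImplicit false
open Cfsg

namespace Cfsg.Agent.S1138


/-- Let `P` be a Suzuki 2-group with `|Z(P)| = q`. Then every square lies in `Z(P)` and `P/Z(P)` is abelian (so elementary abelian), `|P| = q²` or `|P| = q³`, and `P` has exponent 4. -/
theorem result {P : Type*} [Group P] (hP : Cfsg.IsSuzukiTwoGroup P) :
    (∀ x : P, x * x ∈ Subgroup.center P) ∧ (∀ x y : P, x⁻¹ * y⁻¹ * x * y ∈ Subgroup.center P) ∧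
      (Nat.card P = Nat.card (Subgroup.center P) ^ 2 ∨ Nat.card P = Nat.card (Subgroup.center P) ^ 3) ∧
      Monoid.exponent P = 4 := by
  obtain ⟨hfin, hP2, hna, htwo, K, hK, htr⟩ := hP
  haveI := hfin
  letI : CommGroup K := IsCyclic.commGroup
  have hA : CfsgLib.RankOne.SuzukiTwo.Trans (K.subtype : K →* MulAut P) := fun x y hx hx2 hy hy2 =>
    (htr x y hx hx2 hy hy2).exists
  have hsq := fun x => CfsgLib.RankOne.SuzukiTwoExp.sq_mem_center hP2 hA hna htwo x
  have hZ : ∀ {x : P}, x ∈ Subgroup.center P → x * x = 1 := fun {x} h =>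
    (CfsgLib.RankOne.SuzukiTwoExp.mem_center_iff' hP2 hA hna).mp h
  refine ⟨hsq, fun x y => ?_, CfsgLib.RankOne.SuzukiTwoOrder.card_eq hP2 hA hna htwo, ?_⟩
  · rw [show x⁻¹ * y⁻¹ * x * y = x⁻¹ * x⁻¹ * (x * y⁻¹ * (x * y⁻¹)) * (y * y) by group]
    exact mul_mem (mul_mem (hsq _) (hsq _)) (hsq _)
  · have hdvd : Monoid.exponent P ∣ 2 ^ 2 := Monoid.exponent_dvd_of_forall_pow_eq_one fun x => by
      rw [show x ^ 2 ^ 2 = x * x * (x * x) by simp [pow_succ, mul_assoc]]
      exact hZ (hsq x)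
    obtain ⟨k, hk, hk'⟩ := (Nat.dvd_prime_pow Nat.prime_two).mp hdvd
    have hnot : ¬ Monoid.exponent P ∣ 2 := fun h => by
      obtain ⟨x, y, hxy⟩ := id hna
      have h2 : ∀ x : P, x * x = 1 := fun x => by
        rw [← pow_two]; exact Monoid.exponent_dvd_iff_forall_pow_eq_one.mp h x
      exact hxy (Subgroup.mem_center_iff.mp
        ((CfsgLib.RankOne.SuzukiTwoExp.mem_center_iff' hP2 hA hna).mpr (h2 y)) x)
    interval_cases k
    · exact absurd (hk' ▸ one_dvd 2) hnot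
    · exact absurd (hk' ▸ dvd_refl 2) hnot
    · exact hk'

end Cfsg.Agent.S1138
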