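import Cfsg.Statements.S2824
import Cfsg.Agent.Lib.LocalEven.PReduced

set_option autoImplicit false
open Cfsg CfsgLib.LocalEven.SylowIn CfsgLib.LocalEven.PReduced
open scoped commutatorElement

namespace Cfsg.Agent.S2824

/-- Let H be a finite group, p a prime, T a Sylow p-subgroup, L and M subgroups of characteristic p containing T, Y_L the largest p-reduced normal subgroup of L and T₀ = C_T(Y_L). If M·C_H(Y_L) = L·C_H(Y_L), then L* := N_M(T₀) has Y_{L*} = Y_L and L·C_H(Y_L) = L*·C_H(Y_L). -/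
theorem result {H : Type*} [Group H] [Finite H] {p : ℕ} [Fact p.Prime] (T : Sylow p H) (L M : Subgroup H) (hTL : (T : Subgroup H) ≤ L) (hTM : (T : Subgroup H) ≤ M) (hL : Subgroup.centralizer (Cfsg.pCore p ↥L : Set ↥L) ≤ Cfsg.pCore p ↥L) (hM : Subgroup.centralizer (Cfsg.pCore p ↥M : Set ↥M) ≤ Cfsg.pCore p ↥M) (T₀ : Subgroup H) (hT₀ : T₀ = (T : Subgroup H) ⊓ Subgroup.centralizer (((Cfsg.largestPReducedOf p L) : Subgroup H) : Set H)) (hfac : M ⊔ Subgroup.centralizer (((Cfsg.largestPReducedOf p L) : Subgroup H) : Set H) = L ⊔ Subgroup.centralizer (((Cfsg.largestPReducedOf p L) : Subgroup H) : Set H)) (Ls : Subgroup H) (hLs : Ls = M ⊓ Subgroup.normalizer ((T₀ : Subgroup H) : Set H)) : (Cfsg.largestPReducedOf p Ls) = (Cfsg.largestPReducedOf p L) ∧ L ⊔ Subgroup.centralizer (((Cfsg.largestPReducedOf p L) : Subgroup H) : Set H) = Ls ⊔ Subgroup.centralizer (((Cfsg.largestPReducedOf p L) : Subgroup H) : Set H) := by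
  subst hT₀ hLs
  set Y := largestPReducedOf p L
  set C := Subgroup.centralizer (Y : Set H)
  set T₀ := (T : Subgroup H) ⊓ C
  have hY : IsReducedIn p Y L := isReducedIn_largest L
  have hTL' := isSylowIn_of_sylow T hTL
  have hYT : Y ≤ (T : Subgroup H) := hY.le_pCoreOf.trans (pCoreOf_le_sylowIn hTL')
  have hMY : M ≤ Subgroup.normalizer (Y : Set H) :=
    le_trans le_sup_left (hfac.le.trans (sup_le hY.normalizer (Subgroup.centralizer_le_normalizer _)))
  set Ls := M ⊓ Subgroup.normalizer (T₀ : Set H)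
  have hTLs : (T : Subgroup H) ≤ Ls :=
    le_inf hTM (normalizer_inf Subgroup.le_normalizer (normalizer_centralizer (hTL.trans hY.normalizer)))
  have hsup : L ⊔ C = Ls ⊔ C := by
    rw [← hfac]
    refine le_antisymm (sup_le (fun g hg => ?_) le_sup_right) (sup_le (inf_le_left.trans le_sup_left) le_sup_right)
    obtain ⟨c, hc, n, hn, rfl⟩ := frattini_centralizer (isSylowIn_of_sylow T hTM) hMY hg
    exact mul_mem (Subgroup.mem_sup_right hc.2) (Subgroup.mem_sup_left hn)
  refine ⟨le_antisymm ?_ (hY.of_sup_eq (hYT.trans hTLs) hsup.symm).le_largest, hsup⟩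
  have hY' : IsReducedIn p (largestPReducedOf p Ls) Ls := isReducedIn_largest Ls
  have hle : Y ≤ largestPReducedOf p Ls := (hY.of_sup_eq (hYT.trans hTLs) hsup.symm).le_largest
  conv_rhs => rw [show Y = omegaCenter p T₀ from largest_eq_omegaCenter ((charP_iff L).1 hL) hTL']
  refine le_omegaCenter hY'.elab
    (le_inf (hY'.le_pCoreOf.trans (pCoreOf_le_sylowIn (isSylowIn_of_sylow T hTLs)))
      ((elab_le_centralizer hY'.elab).trans (Subgroup.centralizer_le hle))) ?_
  exact Subgroup.le_centralizer_iff.1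
    (hY'.le_centralizer (inf_le_left.trans hTLs) inf_le_right (T.2.to_le inf_le_left))

end Cfsg.Agent.S2824
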