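import Mathlib
import Cfsg.Statements.S5047
import Cfsg.Agent.Lib.Perm.RootInvolutionSame
-- import your own Cfsg.Agent.* helpers here

set_option autoImplicit false
open Cfsg

namespace Cfsg.Agent.S5047

open CfsgLib.Perm.RootInvolution

/-- Let G be a finite group generated by a set D of root involutions whose odd-order-product graph is connected, a ∈ D, and b a member of D different from a, commuting with a, with ab ∈ D, but not having the same commuting members as a. Then some member x of D with bx of order 4 has ax of order 3. -/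
theorem result {G : Type*} [Group G] [Finite G] {D : Set G} (hD : Cfsg.IsRootInvolutionSet D)
    (hc : Cfsg.IsConnectedSet (Cfsg.OddAdj D) D) {a b : G} (ha : a ∈ D) (hb : b ∈ Cfsg.productPartners D a)
    (hbE : b ∉ Cfsg.sameCommutingClass D a) : ∃ x ∈ Cfsg.fourPartners D b, orderOf (a * x) = 3 := by
  obtain ⟨⟨hbD, hba, -⟩, habD⟩ := hb
  have hab : Tri D a b := ⟨ha, hbD, hba.symm, (show a * b = b * a from hba.symm) ▸ habD⟩
  have hne : ∀ {p q : G}, p ∈ D → q ∈ D →
      Cfsg.commutingMembers D p ≠ Cfsg.commutingMembers D q →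
      ∃ z, Cfsg.OddAdj D p z ∧ ¬ Cfsg.OddAdj D q z := by
    intro p q hp hq hC
    have hA : ¬ Cfsg.oddPartners D p = Cfsg.oddPartners D q :=
      fun h => hC ((oddPartners_eq_iff hD hc hp hq).mp h)
    have hsub : ¬ Cfsg.oddPartners D p ⊆ Cfsg.oddPartners D q := fun h =>
      hA (Set.eq_of_subset_of_ncard_le h (ncard_oddPartners hD hc hq hp).le (Set.toFinite _))
    obtain ⟨z, hz, hz'⟩ := Set.not_subset.mp hsub
    exact ⟨z, (mem_oddPartners hD hp).mp hz, fun h => hz' ((mem_oddPartners hD hq).mpr h)⟩
  obtain ⟨z, hz, hzb⟩ := hne ha hbD (fun h => hbE ⟨hbD, h⟩)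
  obtain ⟨c, hcD, -, hnac, h4, hsq⟩ := exists_comm hD hab hz hzb
  have hncm : ¬ Commute a c := by
    intro h
    rw [h.mul_pow, pow_two, pow_two, sq_one hD ha, sq_one hD hcD, one_mul] at hsq
    exact ne_one hD hbD hsq.symm
  rw [pow_two, ← mul_assoc] at hsq
  obtain ⟨hta, htc⟩ := tri_bracket hD ha hcD hnac hncm
  rw [hsq] at hta htc
  have haca : a * c * a = c * b := by
    rw [htc.comm.eq, ← hsq, mul_assoc _ c c, sq_one hD hcD, mul_one]
  obtain ⟨z', hz', hzc'⟩ := hne hbD hcD (fun h => by
    have : a ∈ Cfsg.commutingMembers D c := h ▸ (⟨ha, hta.comm⟩ : a ∈ Cfsg.commutingMembers D b)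
    exact hncm this.2)
  obtain ⟨x, hxD, -, hnbx, h4x, hsqx⟩ := exists_comm hD htc.symm hz' hzc'
  have hnbx' : ¬ Commute b x := by
    intro h
    rw [h.mul_pow, pow_two, pow_two, sq_one hD hbD, sq_one hD hxD, one_mul] at hsqx
    exact ne_one hD hcD hsqx.symm
  rw [pow_two, ← mul_assoc] at hsqx
  obtain ⟨htb, htx⟩ := tri_bracket hD hbD hxD hnbx hnbx'
  rw [hsqx] at htb htx
  have hxbx : x * b * x = b * c := by
    rw [← hsqx]; simp only [mul_assoc, cancel hD hbD]
  have hcb : Commute c b := htb.comm.symm
  have haba : a * b * a = b := conj_eq_of_commute hD ha hta.comm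
  have hxcx : x * c * x = c := conj_eq_of_commute hD hxD htx.comm
  have hax : ¬ Commute a x := by
    intro h
    apply hncm
    rw [← hsqx]
    exact ((hta.comm.mul_right h).mul_right hta.comm).mul_right h
  -- the action of `a` and `x` on `b`, `c` rules out order four
  have h4ax : orderOf (a * x) ≠ 4 := by
    intro h
    have hp : (a * x * a * x) = x * a * x * a := by
      have h2 : (a * x) ^ 4 = 1 := h ▸ pow_orderOf_eq_one _
      have h3 : (a * x * a * x) * (a * x * a * x) = 1 := by
        rw [← h2]; simp only [pow_succ, pow_zero, one_mul, mul_assoc]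
      rw [eq_inv_of_mul_eq_one_left h3]
      simp [mul_inv_rev, inv_eq hD ha, inv_eq hD hxD, mul_assoc]
    have hacb : a * (b * c) * a = c := by
      calc a * (b * c) * a = (a * b * a) * (a * c * a) := by simp only [mul_assoc, cancel hD ha]
        _ = b * (c * b) := by rw [haba, haca]
        _ = c := by rw [hcb.eq, ← mul_assoc, sq_one hD hbD, one_mul]
    have e1 : a * x * a * x * b * (x * a * x * a) = c * b := by
      calc a * x * a * x * b * (x * a * x * a) = a * (x * (a * (x * b * x) * a) * x) * a := by
            simp only [mul_assoc]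
        _ = c * b := by rw [hxbx, hacb, hxcx, haca]
    have e2 : x * a * x * a * b * (a * x * a * x) = c := by
      calc x * a * x * a * b * (a * x * a * x) = x * (a * (x * (a * b * a) * x) * a) * x := by
            simp only [mul_assoc]
        _ = c := by rw [haba, hxbx, hacb, hxcx]
    rw [hp] at e1 e2
    apply ne_one hD hbD
    exact mul_left_cancel (a := c) ((mul_one c).symm ▸ e1.symm.trans e2)
  have hne' : a ≠ x := by rintro rfl; exact hax (Commute.refl _)
  have hodd : Odd (orderOf (a * x)) := by
    rcases hD.pair a ha x hxD with h | h | ⟨h, -⟩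
    exacts [absurd h hax, h, absurd h h4ax]
  refine ⟨x, ⟨hxD, h4x⟩, ?_⟩
  have hu : a * x * a ∈ D := conj_self_mem hD ha hxD
  have hu' : x * a * x ∈ D := conj_self_mem hD hxD ha
  have h3 : a * x * a * (x * a * x) = (a * x) ^ 3 := by
    simp only [pow_succ, pow_zero, one_mul, mul_assoc]
  by_cases heq : a * x * a = x * a * x
  · haveI : Fact (Nat.Prime 3) := ⟨Nat.prime_three⟩
    refine orderOf_eq_prime (by rw [← h3, heq, sq_one hD hu']) fun h => hne' ?_
    rw [← mul_one a, ← sq_one hD hxD, ← mul_assoc, h, one_mul]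
  · exfalso
    have hadj : Cfsg.OddAdj D (a * x * a) (x * a * x) :=
      ⟨hu, hu', heq, h3 ▸ Odd.of_dvd_nat hodd (orderOf_pow_dvd 3)⟩
    have hm : b * c ∈ D := hxbx ▸ conj_self_mem hD hxD hbD
    have hxm : x * (b * c) * x = b := by
      rw [← hxbx, conj_conj hD hxD]
    have hacb : a * (b * c) * a = c := by
      calc a * (b * c) * a = (a * b * a) * (a * c * a) := by simp only [mul_assoc, cancel hD ha]
        _ = b * (c * b) := by rw [haba, haca]
        _ = c := by rw [hcb.eq, ← mul_assoc, sq_one hD hbD, one_mul]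
    have hub : a * x * a * b * (a * x * a) = c := by
      calc a * x * a * b * (a * x * a) = a * (x * (a * b * a) * x) * a := by simp only [mul_assoc]
        _ = c := by rw [haba, hxbx, hacb]
    have hum : Commute (a * x * a) (b * c) := by
      refine commute_of_conj_eq hD hu ?_
      calc a * x * a * (b * c) * (a * x * a) = a * (x * (a * (b * c) * a) * x) * a := by
            simp only [mul_assoc]
        _ = b * c := by rw [hacb, hxcx, haca, hcb.eq]
    have hu'm : Commute (b * c) (x * a * x) := by
      refine (commute_of_conj_eq hD hu' ?_).symm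
      calc x * a * x * (b * c) * (x * a * x) = x * (a * (x * (b * c) * x) * a) * x := by
            simp only [mul_assoc]
        _ = b * c := by rw [hxm, haba, hxbx]
    have hmu : b * c * (a * x * a) ∈ D := by
      have : b * (a * x * a) * b = b * c * (a * x * a) := by
        rw [← hub]
        simp only [mul_assoc, cancel hD hu, cancel hD ha, cancel hD hxD, sq_one hD ha, mul_one]
      exact this ▸ conj_self_mem hD hbD hu
    exact not_commute_of_adj hD ⟨hm, hu, hum.symm, hmu⟩ hadj hu'm

end Cfsg.Agent.S5047
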