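import Cfsg.Statements.S1220
import Cfsg.Agent.Lib.LocalEven.BenderTransitive.Main
import Cfsg.Agent.Lib.Involution.ZStar.Corollaries
import Cfsg.Agent.Lib.FrobRealize.Quaternion

set_option autoImplicit false
open Cfsg

namespace Cfsg.Agent.S1220

/-- Let H be a strongly embedded subgroup of the finite group G. Then either G acts doubly transitively on the cosets of H (H permutes transitively the cosets gH with g ∉ H), or every Sylow 2-subgroup of G is cyclic or generalized quaternion and G = O(G)H. -/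
theorem result {G : Type*} [Group G] [Finite G] (H : Subgroup G) (hH : Cfsg.IsStronglyEmbedded H) : (∀ g₁ g₂ : G, g₁ ∉ H → g₂ ∉ H → ∃ h ∈ H, g₂⁻¹ * (h * g₁) ∈ H) ∨ ((∀ S : Sylow 2 G, IsCyclic S ∨ ∃ m : ℕ, 1 ≤ m ∧ Nonempty ((S : Subgroup G) ≃* QuaternionGroup (2 ^ m))) ∧ Cfsg.oddCore G ⊔ H = ⊤) := by
  classical
  by_cases hcomm : ∃ x y : G, orderOf x = 2 ∧ orderOf y = 2 ∧ x ≠ y ∧ Commute x y
  · exact .inl fun g₁ g₂ h₁ h₂ =>
      CfsgLib.LocalEven.BenderTransitive.exists_smul_mem hH hcomm g₁ g₂ h₁ h₂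
  refine .inr ⟨fun S => ?_, ?_⟩
  · haveI : Fact (Nat.Prime 2) := ⟨Nat.prime_two⟩
    obtain ⟨t, -, ht⟩ := CfsgLib.Involution.Basic.exists_involution_of_even H hH.2.1
    have h2 : 2 ∣ Nat.card (S : Subgroup G) := S.dvd_card_of_dvd_card (ht ▸ orderOf_dvd_natCard t)
    haveI : Nontrivial (S : Subgroup G) := Finite.one_lt_card_iff_nontrivial.1
      (lt_of_lt_of_le one_lt_two (Nat.le_of_dvd Nat.card_pos h2))
    haveI := S.isPGroup'.center_nontrivial
    obtain ⟨c, hc⟩ := exists_prime_orderOf_dvd_card' (G := Subgroup.center (S : Subgroup G)) 2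
      (((S.isPGroup'.to_subgroup _).card_eq_or_dvd).resolve_left
        (Finite.one_lt_card (α := Subgroup.center (S : Subgroup G))).ne')
    have hfew : Nat.card {x : (S : Subgroup G) // x ^ 2 = 1} ≤ 2 := by
      calc Nat.card {x : (S : Subgroup G) // x ^ 2 = 1}
          ≤ Nat.card ↥({1, (c : (S : Subgroup G))} : Set (S : Subgroup G)) := by
            refine Nat.card_le_card_of_injective (fun x => ⟨x.1, ?_⟩) fun x y h =>
              Subtype.ext (Subtype.ext_iff (p := fun q => q ∈ ({1, (c : (S : Subgroup G))} : Set (S : Subgroup G))).1 h)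
            by_contra hx
            simp only [Set.mem_insert_iff, Set.mem_singleton_iff, not_or] at hx
            have hx2 : orderOf x.1 = 2 := orderOf_eq_prime x.2 hx.1
            have hc2 : orderOf (c : (S : Subgroup G)) = 2 := by rw [Subgroup.orderOf_coe, hc]
            refine hcomm ⟨x.1, c, (Subgroup.orderOf_coe _).trans hx2,
              (Subgroup.orderOf_coe _).trans hc2, fun h => hx.2 (Subtype.ext h), ?_⟩
            exact congrArg Subtype.val (Subgroup.mem_center_iff.1 c.2 x.1)
        _ ≤ 2 := by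
            rw [Nat.card_coe_set_eq]
            exact (Set.ncard_insert_le _ _).trans (by rw [Set.ncard_singleton])
    rcases CfsgLib.FrobRealize.Quaternion.cyclic_or_quaternion S.isPGroup' hfew with
      h | ⟨-, n, ⟨e⟩⟩
    · exact .inl h
    rcases Nat.eq_zero_or_pos n with rfl | hn
    · haveI : IsCyclic (QuaternionGroup (2 ^ 0)) := by
        rw [pow_zero]; exact QuaternionGroup.quaternionGroup_one_isCyclic
      exact .inl (isCyclic_of_surjective e.symm.toMonoidHom e.symm.surjective)
    · exact .inr ⟨n, hn, ⟨e⟩⟩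
  · obtain ⟨z, hzH, hz⟩ := CfsgLib.Involution.Basic.exists_involution_of_even H hH.2.1
    have hiso : Cfsg.IsIsolatedInvolution z := ⟨hz, fun g hg => by
      by_contra hne
      exact hcomm ⟨z, g * z * g⁻¹, hz,
        (CfsgLib.Involution.Dihedral.orderOf_conj g z).trans hz, Ne.symm hne, hg⟩⟩
    refine eq_top_iff.2 fun g _ => ?_
    obtain ⟨o, ho, c, hc, rfl⟩ := CfsgLib.Involution.ZStar.exists_oddCore_mul_centralizer
      (CfsgLib.Involution.ZStar.starCentral G) hiso g
    refine Subgroup.mul_mem_sup ho ?_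
    have hfix : z • ((1 : G) : G ⧸ H) = ((1 : G) : G ⧸ H) :=
      CfsgLib.Involution.SE.fixes_mk_iff.2 (by simpa using hzH)
    have h := CfsgLib.Involution.SE.commute_fixes hH hz hfix
      (Subgroup.mem_centralizer_singleton_iff.1 hc)
    simpa using CfsgLib.Involution.SE.fixes_mk_iff.1 h

end Cfsg.Agent.S1220
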