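import Cfsg.Statements.S0542
import Cfsg.Agent.Lib.Solvable.Cores
-- import your own Cfsg.Agent.* helpers here

set_option autoImplicit false
open Cfsg

namespace Cfsg.Agent.S0542

/-- A Sylow p-subgroup of a finite group meets every subnormal subgroup H in a Sylow p-subgroup of H. -/
theorem result {G : Type*} [Group G] [Finite G] (p : ℕ) [Fact p.Prime] (H : Subgroup G) (hH : H.IsSubnormal) (S : Sylow p G) : ∃ Q : Sylow p H, (Q : Subgroup H) = (S : Subgroup G).subgroupOf H := by
  induction hH with
  | top =>
    refine ⟨S.mapSurjective (f := (Subgroup.topEquiv (G := G)).symm.toMonoidHom)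
      (Subgroup.topEquiv.symm.surjective), ?_⟩
    refine (Sylow.coe_mapSurjective _ _).trans ?_
    ext x
    constructor
    · rintro ⟨y, hy, rfl⟩
      exact hy
    · intro hx
      exact ⟨x, hx, Subtype.ext rfl⟩
  | step H K hle _ hN ih =>
    obtain ⟨Q, hQ⟩ := ih
    haveI := hN
    set N := H.subgroupOf K
    have hnd : ¬ p ∣ (Q : Subgroup K).relIndex N := by
      intro hd
      apply Q.not_dvd_index
      refine hd.trans ?_
      rw [← Subgroup.inf_relIndex_right]
      have h1 : ((Q : Subgroup K) ⊔ N).index * (Q : Subgroup K).relIndex ((Q : Subgroup K) ⊔ N) =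
          (Q : Subgroup K).index := by
        rw [mul_comm]; exact Subgroup.relIndex_mul_index le_sup_left
      rw [← h1]
      refine dvd_mul_of_dvd_right ?_ _
      have h2 := CfsgLib.Solvable.Basic.card_sup_mul N (Q : Subgroup K)
      have h3 := Subgroup.relIndex_mul_relIndex (⊥ : Subgroup K) (Q : Subgroup K)
        ((Q : Subgroup K) ⊔ N) bot_le le_sup_left
      have h4 := Subgroup.relIndex_mul_relIndex (⊥ : Subgroup K) ((Q : Subgroup K) ⊓ N) N
        bot_le inf_le_right
      rw [Subgroup.relIndex_bot_left, Subgroup.relIndex_bot_left] at h3 h4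
      rw [← h3, ← h4, inf_comm N (Q : Subgroup K)] at h2
      refine dvd_of_eq (Nat.eq_of_mul_eq_mul_left
        (n := Nat.card (Q : Subgroup K) * Nat.card ((Q : Subgroup K) ⊓ N : Subgroup K))
        (Nat.mul_pos Nat.card_pos Nat.card_pos) ?_).symm
      linarith
    have hnd' : ¬ p ∣ ((S : Subgroup G).subgroupOf H).index := by
      intro hd
      apply hnd
      show p ∣ (Q : Subgroup K).relIndex (H.subgroupOf K)
      rw [hQ, Subgroup.relIndex_subgroupOf hle]
      exact hd
    exact ⟨(S.isPGroup'.comap_subtype).toSylow hnd', rfl⟩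

end Cfsg.Agent.S0542
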