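import Cfsg.Statements.S2941


set_option autoImplicit false
open Cfsg
open scoped commutatorElement

namespace Cfsg.Agent.S2941

/-- Let G be a finite group of characteristic 2 type in which every 2-local subgroup is solvable and the centralizer of Ω₁(Z(S)) lies in N_G(S) for every Sylow 2-subgroup S, and let T be a nontrivial 2-subgroup and K a J(T)-component (J the Thompson subgroup generated by the elementary abelian 2-subgroups of largest order). If a subgroup Q is normalized by ⟨K, J(T)⟩ and normalizes J(T), then Q normalizes K. -/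
theorem result {G : Type*} [Group G] [Finite G] (hL : Cfsg.IsCharacteristicTwoType G) (hN : ∀ N : Subgroup G, Cfsg.IsTwoLocal N → Group.IsSolvable ↥N)
    (hZ : ∀ S : Sylow 2 G, Subgroup.centralizer (Cfsg.omegaCenterOf (S : Subgroup G) : Set G) ≤ Subgroup.normalizer ((S : Subgroup G) : Set G)) (T : Subgroup G) (hT : IsPGroup 2 ↥T) (hT1 : T ≠ ⊥) (K : Subgroup G) (hK : Cfsg.IsJComponent T K)
    (Q : Subgroup G) (hQ1 : K ⊔ Cfsg.thompsonSubgroupOf 2 T ≤ Subgroup.normalizer (Q : Set G)) (hQ2 : Q ≤ Subgroup.normalizer (Cfsg.thompsonSubgroupOf 2 T : Set G)) :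
    Q ≤ Subgroup.normalizer (K : Set G) := by
  obtain ⟨hgen, hcomm, -⟩ := hK
  set J := Cfsg.thompsonSubgroupOf 2 T with hJ
  have hJT : J ≤ T := by
    rw [hJ]
    exact Subgroup.map_subtype_le _
  have hJK : J ≤ Subgroup.normalizer (K : Set G) := by
    intro j hj
    rw [Subgroup.mem_normalizer_iff]
    intro x
    have key : ∀ j' ∈ J, ∀ y ∈ K, j' * y * j'⁻¹ ∈ K := by
      intro j' hj' y hy
      rw [← hcomm] at hy ⊢
      refine Subgroup.closure_induction (p := fun z _ => j' * z * j'⁻¹ ∈ ⁅K, J⁆) ?_ ?_ ?_ ?_ hy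
      · rintro z ⟨k, hk, i, hi, rfl⟩
        have e : j' * ⁅k, i⁆ * j'⁻¹ = ⁅k, j'⁆⁻¹ * ⁅k, j' * i⁆ := by
          simp only [commutatorElement_def]; group
        rw [e]
        exact mul_mem (inv_mem (Subgroup.commutator_mem_commutator hk hj'))
          (Subgroup.commutator_mem_commutator hk (mul_mem hj' hi))
      · simp
      · intro a b _ _ ha hb
        have e : j' * (a * b) * j'⁻¹ = (j' * a * j'⁻¹) * (j' * b * j'⁻¹) := by group
        rw [e]; exact mul_mem ha hb
      · intro a _ ha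
        have e : j' * a⁻¹ * j'⁻¹ = (j' * a * j'⁻¹)⁻¹ := by group
        rw [e]; exact inv_mem ha
    refine ⟨key j hj x, fun h => ?_⟩
    have := key j⁻¹ (inv_mem hj) _ h
    simpa [mul_assoc] using this
  intro q hq
  -- q conjugates J to itself and K into K ⊔ J
  have hqH : ∀ x ∈ K ⊔ J, q * x * q⁻¹ ∈ K ⊔ J := by
    have hqJ : ∀ j ∈ J, q * j * q⁻¹ ∈ J := fun j hj =>
      (Subgroup.mem_normalizer_iff.mp (hQ2 hq) j).mp hj
    have hqK : ∀ x ∈ K, q * x * q⁻¹ ∈ K ⊔ J := by
      intro x hx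
      rw [← hcomm] at hx
      refine Subgroup.closure_induction (p := fun z _ => q * z * q⁻¹ ∈ K ⊔ J) ?_ ?_ ?_ ?_ hx
      · rintro z ⟨k, hk, i, hi, rfl⟩
        have hk' : k⁻¹ * q * k ∈ Q := by
          have := (Subgroup.mem_normalizer_iff.mp (hQ1 (Subgroup.mem_sup_left (inv_mem hk))) q).mp hq
          simpa using this
        have h1 : (k⁻¹ * q * k) * i * (k⁻¹ * q * k)⁻¹ ∈ J :=
          (Subgroup.mem_normalizer_iff.mp (hQ2 hk') i).mp hi
        have h2 : q * i⁻¹ * q⁻¹ ∈ J := hqJ _ (inv_mem hi)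
        have e : q * ⁅k, i⁆ * q⁻¹ =
            k * ((k⁻¹ * q * k) * i * (k⁻¹ * q * k)⁻¹) * k⁻¹ * (q * i⁻¹ * q⁻¹) := by
          simp only [commutatorElement_def]; group
        rw [e]
        exact mul_mem (mul_mem (mul_mem (Subgroup.mem_sup_left hk) (Subgroup.mem_sup_right h1))
          (inv_mem (Subgroup.mem_sup_left hk))) (Subgroup.mem_sup_right h2)
      · simp
      · intro a b _ _ ha hb
        have e : q * (a * b) * q⁻¹ = (q * a * q⁻¹) * (q * b * q⁻¹) := by group
        rw [e]; exact mul_mem ha hb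
      · intro a _ ha
        have e : q * a⁻¹ * q⁻¹ = (q * a * q⁻¹)⁻¹ := by group
        rw [e]; exact inv_mem ha
    intro x hx
    rw [Subgroup.sup_eq_closure] at hx
    refine Subgroup.closure_induction (p := fun z _ => q * z * q⁻¹ ∈ K ⊔ J) ?_ ?_ ?_ ?_ hx
    · rintro z (hz | hz)
      · exact hqK z hz
      · exact Subgroup.mem_sup_right (hqJ z hz)
    · simp
    · intro a b _ _ ha hb
      have e : q * (a * b) * q⁻¹ = (q * a * q⁻¹) * (q * b * q⁻¹) := by group
      rw [e]; exact mul_mem ha hb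
    · intro a _ ha
      have e : q * a⁻¹ * q⁻¹ = (q * a * q⁻¹)⁻¹ := by group
      rw [e]; exact inv_mem ha
  -- odd order elements of K ⊔ J lie in K
  have hodd : ∀ x ∈ K ⊔ J, Odd (orderOf x) → x ∈ K := by
    intro x hx ho
    have hx' : x ∈ ((K ⊔ J : Subgroup G) : Set G) := hx
    rw [Subgroup.coe_mul_of_right_le_normalizer_left K J hJK] at hx'
    obtain ⟨k, hk, j, hj, rfl⟩ := Set.mem_mul.mp hx'
    obtain ⟨a, ha⟩ := hT ⟨j, hJT hj⟩
    have hja : j ^ 2 ^ a = 1 := by simpa using congrArg Subtype.val ha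
    have hpow : ∀ n : ℕ, (k * j) ^ n * (j ^ n)⁻¹ ∈ K := by
      intro n
      induction n with
      | zero => simp
      | succ n ih =>
        have h := (Subgroup.mem_normalizer_iff.mp (hJK (pow_mem hj n)) k).mp hk
        have e : (k * j) ^ (n + 1) * (j ^ (n + 1))⁻¹ =
            ((k * j) ^ n * (j ^ n)⁻¹) * (j ^ n * k * (j ^ n)⁻¹) := by
          rw [pow_succ, pow_succ]; group
        rw [e]; exact mul_mem ih h
    have h2 : (k * j) ^ 2 ^ a ∈ K := by simpa [hja] using hpow (2 ^ a)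
    obtain ⟨m, hm⟩ := exists_pow_eq_self_of_coprime
      (x := k * j) (n := 2 ^ a) (Nat.Coprime.pow_left a ho.coprime_two_left)
    rw [← hm]; exact pow_mem h2 m
  have hmap : ∀ x ∈ K, q * x * q⁻¹ ∈ K := by
    intro x hx
    rw [← hgen] at hx
    refine Subgroup.closure_induction (p := fun z _ => q * z * q⁻¹ ∈ K) ?_ ?_ ?_ ?_ hx
    · rintro z ⟨hz, ho⟩
      refine hodd _ (hqH z (Subgroup.mem_sup_left hz)) ?_
      have : orderOf (q * z * q⁻¹) = orderOf z :=
        orderOf_injective (MulAut.conj q).toMonoidHom (MulAut.conj q).injective z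
      rwa [this]
    · simp
    · intro a b _ _ ha hb
      have e : q * (a * b) * q⁻¹ = (q * a * q⁻¹) * (q * b * q⁻¹) := by group
      rw [e]; exact mul_mem ha hb
    · intro a _ ha
      have e : q * a⁻¹ * q⁻¹ = (q * a * q⁻¹)⁻¹ := by group
      rw [e]; exact inv_mem ha
  rw [Subgroup.mem_normalizer_iff]
  intro x
  refine ⟨hmap x, fun h => ?_⟩
  -- injective self map of a finite set
  let f : K → K := fun y => ⟨q * (y : G) * q⁻¹, hmap y y.2⟩
  have hf : Function.Injective f := by
    intro y z h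
    have h' : q * (y : G) * q⁻¹ = q * (z : G) * q⁻¹ := congrArg Subtype.val h
    exact Subtype.ext (mul_left_cancel (mul_right_cancel h'))
  obtain ⟨y, hy⟩ := (Finite.injective_iff_surjective.mp hf) ⟨_, h⟩
  have : q * (y : G) * q⁻¹ = q * x * q⁻¹ := congrArg Subtype.val hy
  rw [← mul_left_cancel (mul_right_cancel this)]
  exact y.2

end Cfsg.Agent.S2941
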