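import Cfsg.Statements.S1393
import Cfsg.Agent.Lib.OddOrder.Transitivity
import Cfsg.Agent.Lib.OddOrder.SCNTransitivity
-- import your own Cfsg.Agent.* helpers here

set_option autoImplicit false
open Cfsg
open CfsgLib CfsgLib.OddOrder

namespace Cfsg.Agent.S1393

/-- Let G be a minimal simple group of odd order, A a subgroup satisfying the transitivity hypothesis whose centre has rank at least 3, K = O_{π(A)'}(C_G(A)), and q a prime not dividing the order of A. Then any two maximal A-invariant q-subgroups of G are conjugate by an element of K. -/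
theorem result {G : Type*} [Group G] [Finite G] (hG : Cfsg.IsMinSimpleOddOrder G)
    (A : Subgroup G) (hA : Cfsg.TransitivityHypothesis A) (hZ : ¬ Cfsg.RankLE 2 ↥(A ⊓ Subgroup.centralizer (A : Set G)))
    (q : ℕ) (hq : q.Prime) (hqA : ¬ q ∣ Nat.card A) :
    ∀ Q₁ ∈ Cfsg.maxInvSubgroups ⊤ A {q}, ∀ Q₂ ∈ Cfsg.maxInvSubgroups ⊤ A {q}, ∃ k ∈ Cfsg.piCoreOf (Cfsg.primesNotDvd (Nat.card A)) (Subgroup.centralizer (A : Set G)), Q₂ = Q₁.map (MulAut.conj k).toMonoidHom := by
  intro Q₁ h₁ Q₂ h₂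
  have hid : ∀ Q : Subgroup G, Q = Q.map (MulAut.conj (1 : G)).toMonoidHom := fun Q => by
    convert Q.map_id.symm
    ext x; simp
  obtain ⟨h1p, h1A⟩ := (Transitivity.mem_inv_top hq).mp h₁.1
  obtain ⟨h2p, h2A⟩ := (Transitivity.mem_inv_top hq).mp h₂.1
  rcases eq_or_ne Q₁ ⊥ with hb1 | hb1
  · subst hb1
    exact ⟨1, one_mem _, (h₁.2 Q₂ h₂.1 bot_le).trans (hid _)⟩
  rcases eq_or_ne Q₂ ⊥ with hb2 | hb2
  · subst hb2
    exact absurd (h₂.2 Q₁ h₁.1 bot_le) hb1
  set Z := A ⊓ Subgroup.centralizer (A : Set G) with hZdef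
  rw [Cfsg.RankLE] at hZ
  simp only [Cfsg.PRankLE] at hZ
  push Not at hZ
  obtain ⟨r, hr, E₀, hE₀c, hE₀e, hE₀3⟩ := hZ
  haveI := Fact.mk hr
  set E := E₀.map Z.subtype with hE
  have hEe : Cfsg.IsElementaryAbelian r E := Fusion.Thompson.isEA_map _ ⟨hE₀c, hE₀e⟩
  haveI := hEe.1
  have hEZ : E ≤ Z := Subgroup.map_subtype_le _
  have hEcard : r ^ 2 < Nat.card E := by
    rw [hE, Subgroup.card_map_of_injective Z.subtype_injective]; exact hE₀3
  have hcop : ∀ Q : Subgroup G, IsPGroup q Q → (Nat.card E).Coprime (Nat.card Q) := fun Q hQ =>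
    ((Transitivity.coprime_qGroup hG.2 hA hq hqA hQ).symm).coprime_dvd_left
      (Subgroup.card_dvd_of_le (hEZ.trans inf_le_left))
  have hEN : ∀ Q : Subgroup G, A ≤ Subgroup.normalizer (Q : Set G) → E ≤ Subgroup.normalizer (Q : Set G) :=
    fun Q hQ => (hEZ.trans inf_le_left).trans hQ
  obtain ⟨B, ⟨hBE, a, haE, hBa⟩, hB1⟩ : ∃ B : Subgroup G, (B ≤ E ∧ ∃ a ∈ E, B ⊔ Subgroup.zpowers a = E) ∧
      Q₁ ⊓ Subgroup.centralizer (B : Set G) ≠ ⊥ := by
    by_contra hcon
    push Not at hcon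
    refine hb1 (le_bot_iff.mp ?_)
    rw [← Coprime.iSup_centralizer_of_cyclic_quotient (A := E) (hEN Q₁ h1A) (hcop Q₁ h1p)]
    exact iSup₂_le fun B hB => (hcon B hB).le
  have hBnc : ¬ IsCyclic B := SCNTransitivity.not_isCyclic_of_card (Fusion.Thompson.isEA_le hEe hBE) (by
    have h1 := Fusion.Thompson.card_sup_mul_card_inf (N := B) (K := Subgroup.zpowers a)
      (Subgroup.zpowers_le.mpr (Subgroup.centralizer_le_normalizer _
        (Subgroup.mem_centralizer_iff.mpr fun b hb =>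
          Subgroup.mem_centralizer_iff.mp (E.le_centralizer haE) b (hBE hb))))
    rw [hBa] at h1
    have h2 : Nat.card (Subgroup.zpowers a) ≤ r := by
      rw [Nat.card_zpowers]; exact orderOf_le_of_pow_eq_one hr.pos (hEe.2 a haE)
    have h3 : 0 < Nat.card (B ⊓ Subgroup.zpowers a : Subgroup G) := Nat.card_pos
    by_contra hle
    push Not at hle
    have h4 : Nat.card E ≤ Nat.card E * Nat.card (B ⊓ Subgroup.zpowers a : Subgroup G) :=
      Nat.le_mul_of_pos_right _ h3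
    have h5 : Nat.card B * Nat.card (Subgroup.zpowers a) ≤ r * r := Nat.mul_le_mul hle h2
    nlinarith)
  haveI := (Fusion.Thompson.isEA_le hEe hBE).1
  obtain ⟨b, ⟨hb, hb'⟩, hbQ⟩ : ∃ b, (b ∈ B ∧ b ≠ 1) ∧ Q₂ ⊓ Subgroup.centralizer ({b} : Set G) ≠ ⊥ := by
    by_contra hcon
    push Not at hcon
    refine hb2 (le_bot_iff.mp ?_)
    rw [← Coprime.iSup_centralizer_singleton (A := B) hBnc (hBE.trans (hEN Q₂ h2A))
      ((hcop Q₂ h2p).coprime_dvd_left (Subgroup.card_dvd_of_le hBE))]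
    exact iSup₂_le fun b hb => (hcon b hb).le
  refine Transitivity.conj_of_meet hG.2 hA hq hqA h₁ h₂ (H := Subgroup.centralizer ({b} : Set G)) ?_
    (fun x hx => Subgroup.mem_centralizer_singleton_iff.mpr
      (Subgroup.mem_centralizer_iff.mp (hEZ (hBE hb)).2 x hx)) ?_ ?_
  · intro h
    haveI := hG.2.1
    have hc : b ∈ Subgroup.center G := Subgroup.mem_center_iff.mpr fun g =>
      Subgroup.mem_centralizer_singleton_iff.mp (h ▸ Subgroup.mem_top g : g ∈ Subgroup.centralizer ({b} : Set G))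
    rcases (inferInstance : (Subgroup.center G).Normal).eq_bot_or_eq_top with hb'' | ht
    · rw [hb'', Subgroup.mem_bot] at hc; exact hb' hc
    · exact hG.2.2.1 (⟨⟨fun u v => (Subgroup.mem_center_iff.mp (ht ▸ Subgroup.mem_top u) v).symm⟩⟩)
  · rw [inf_comm]
    exact ne_bot_of_le_ne_bot hB1 (inf_le_inf_left _ (Subgroup.centralizer_le (Set.singleton_subset_iff.mpr hb)))
  · rwa [inf_comm]

end Cfsg.Agent.S1393
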