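import Cfsg.Statements.S1395
import Cfsg.Agent.Lib.OddOrder.Transitivity
-- import your own Cfsg.Agent.* helpers here

set_option autoImplicit false
open Cfsg
open CfsgLib CfsgLib.OddOrder

namespace Cfsg.Agent.S1395

/-- Let G be a minimal simple group of odd order, A a subgroup satisfying the transitivity hypothesis with K = O_{π(A)'}(C_G(A)), q a prime not dividing the order of A, and P a proper subgroup all of whose prime divisors divide the order of A, containing A as a subnormal subgroup, such that any two maximal A-invariant q-subgroups are conjugate under K. Then (a) K ∩ C_G(P) = O_{π(A)'}(C_G(P)); (b) any two maximal P-invariant q-subgroups are conjugate under O_{π(A)'}(C_G(P)); (c) every maximal P-invariant q-subgroup is a maximal A-invariant q-subgroup; (d) for every maximal P-invariant q-subgroup Q, P ∩ N_G(P)' ≤ N_G(Q)' and N_G(P) is generated by O_{π(A)'}(C_G(P)) and N_G(P) ∩ N_G(Q). -/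
theorem result {G : Type*} [Group G] [Finite G] (hG : Cfsg.IsMinSimpleOddOrder G)
    (A : Subgroup G) (hA : Cfsg.TransitivityHypothesis A) (q : ℕ) (hq : q.Prime) (hqA : ¬ q ∣ Nat.card A)
    (P : Subgroup G) (hP : P ≠ ⊤) (hPπ : (∀ r : ℕ, r.Prime → r ∣ Nat.card P → r ∣ Nat.card A)) (hAP : A ≤ P) (hsn : (A.subgroupOf P).IsSubnormal)
    (htr : ∀ Q₁ ∈ Cfsg.maxInvSubgroups ⊤ A {q}, ∀ Q₂ ∈ Cfsg.maxInvSubgroups ⊤ A {q}, ∃ k ∈ Cfsg.piCoreOf (Cfsg.primesNotDvd (Nat.card A)) (Subgroup.centralizer (A : Set G)), Q₂ = Q₁.map (MulAut.conj k).toMonoidHom) :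
    Cfsg.piCoreOf (Cfsg.primesNotDvd (Nat.card A)) (Subgroup.centralizer (A : Set G)) ⊓ Subgroup.centralizer (P : Set G) = Cfsg.piCoreOf (Cfsg.primesNotDvd (Nat.card A)) (Subgroup.centralizer (P : Set G)) ∧
      (∀ Q₁ ∈ Cfsg.maxInvSubgroups ⊤ P {q}, ∀ Q₂ ∈ Cfsg.maxInvSubgroups ⊤ P {q}, ∃ k ∈ Cfsg.piCoreOf (Cfsg.primesNotDvd (Nat.card A)) (Subgroup.centralizer (P : Set G)), Q₂ = Q₁.map (MulAut.conj k).toMonoidHom) ∧
      Cfsg.maxInvSubgroups ⊤ P {q} ⊆ Cfsg.maxInvSubgroups ⊤ A {q} ∧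
      ∀ Q ∈ Cfsg.maxInvSubgroups ⊤ P {q},
        P ⊓ ⁅Subgroup.normalizer (P : Set G), Subgroup.normalizer (P : Set G)⁆ ≤ ⁅Subgroup.normalizer (Q : Set G), Subgroup.normalizer (Q : Set G)⁆ ∧
        Subgroup.normalizer (P : Set G) = Cfsg.piCoreOf (Cfsg.primesNotDvd (Nat.card A)) (Subgroup.centralizer (P : Set G)) ⊔ (Subgroup.normalizer (P : Set G) ⊓ Subgroup.normalizer (Q : Set G)) := by
  haveI := Fact.mk hq
  set π := Cfsg.primesNotDvd (Nat.card A) with hπ
  have main : ∀ H : Subgroup P, H.IsSubnormal → A.subgroupOf P ≤ H →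
      (Cfsg.maxInvSubgroups ⊤ (H.map P.subtype) {q} ⊆ Cfsg.maxInvSubgroups ⊤ A {q} ∧
        ∀ Q₁ ∈ Cfsg.maxInvSubgroups ⊤ (H.map P.subtype) {q}, ∀ Q₂ ∈ Cfsg.maxInvSubgroups ⊤ (H.map P.subtype) {q},
          ∃ k ∈ Cfsg.piCoreOf π (Subgroup.centralizer ((H.map P.subtype : Subgroup G) : Set G)),
            Q₂ = Q₁.map (MulAut.conj k).toMonoidHom) →
      (Cfsg.maxInvSubgroups ⊤ P {q} ⊆ Cfsg.maxInvSubgroups ⊤ A {q} ∧
        ∀ Q₁ ∈ Cfsg.maxInvSubgroups ⊤ P {q}, ∀ Q₂ ∈ Cfsg.maxInvSubgroups ⊤ P {q},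
          ∃ k ∈ Cfsg.piCoreOf π (Subgroup.centralizer (P : Set G)), Q₂ = Q₁.map (MulAut.conj k).toMonoidHom) := by
    intro H hH
    induction hH with
    | top =>
      intro _ h
      rwa [← MonoidHom.range_eq_map, Subgroup.range_subtype] at h
    | step H K hle hK hN ih =>
      intro hAH h
      refine ih (hAH.trans hle) ?_
      have hHK : H.map P.subtype ≤ K.map P.subtype := Subgroup.map_mono hle
      have hKP : K.map P.subtype ≤ P := Subgroup.map_subtype_le _
      refine Transitivity.step hG.2 hA hq hqA (ne_top_of_le_ne_top hP hKP)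
        (fun r hr hd => hPπ r hr (hd.trans (Subgroup.card_dvd_of_le hKP))) ?_ hHK ?_ h.1 h.2
      · intro x hx
        exact ⟨⟨x, hAP hx⟩, hAH hx, rfl⟩
      · exact (Subgroup.map_mono ((Subgroup.normal_subgroupOf_iff_le_normalizer hle).mp hN)).trans
          (Subgroup.le_normalizer_map _)
  have hmap : (A.subgroupOf P).map P.subtype = A := Subgroup.map_subgroupOf_eq_of_le hAP
  obtain ⟨hsub, htrP⟩ := main (A.subgroupOf P) hsn le_rfl (by rw [hmap]; exact ⟨subset_rfl, htr⟩)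
  refine ⟨le_antisymm ?_ ?_, htrP, hsub, fun Q hQ => ?_⟩
  · refine Transitivity.le_piCoreOf inf_le_right ?_ ?_
    · exact (le_inf ((Subgroup.centralizer_le hAP).trans (Transitivity.le_normalizer_piCoreOf _ _))
        Subgroup.le_normalizer).trans Subgroup.inf_normalizer_le_normalizer_inf
    · exact (Transitivity.coprime_piCoreOf _ _).coprime_dvd_left (Subgroup.card_dvd_of_le inf_le_left)
  · refine le_inf (Transitivity.le_coreCentralizer hG.2 hA (Transitivity.coprime_piCoreOf _ _)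
      ((Transitivity.piCoreOf_le _ _).trans (Subgroup.centralizer_le hAP))) (Transitivity.piCoreOf_le _ _)
  set N := Subgroup.normalizer (P : Set G) with hN
  set K := Cfsg.piCoreOf π (Subgroup.centralizer (P : Set G)) with hK
  set Nd := N ⊓ Subgroup.normalizer (Q : Set G) with hNd
  obtain ⟨hQp, hPQ⟩ := (Transitivity.mem_inv_top hq).mp hQ.1
  have hKN : K ≤ N := (Transitivity.piCoreOf_le _ _).trans (Subgroup.centralizer_le_normalizer _)
  have hNK : N ≤ Subgroup.normalizer (K : Set G) := by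
    refine le_trans ?_ (Transitivity.normalizer_le_normalizer_piCoreOf _ _)
    intro g hg
    rw [Subgroup.mem_normalizer_iff]
    have key : ∀ g ∈ N, ∀ z ∈ Subgroup.centralizer (P : Set G), g * z * g⁻¹ ∈ Subgroup.centralizer (P : Set G) := by
      intro g hg z hz
      rw [Subgroup.mem_centralizer_iff] at hz ⊢
      intro y hy
      have hy' : g⁻¹ * y * g ∈ P :=
        (Subgroup.mem_normalizer_iff.mp hg _).mpr (by simpa [mul_assoc] using hy)
      calc y * (g * z * g⁻¹) = g * ((g⁻¹ * y * g) * z) * g⁻¹ := by group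
        _ = g * (z * (g⁻¹ * y * g)) * g⁻¹ := by rw [hz _ hy']
        _ = g * z * g⁻¹ * y := by group
    intro z
    refine ⟨key g hg z, fun hz => ?_⟩
    simpa [mul_assoc] using key g⁻¹ (inv_mem hg) _ hz
  have hdec : ∀ m ∈ N, ∃ k ∈ K, ∃ n ∈ Nd, m = k * n := by
    intro m hm
    obtain ⟨k, hk, e⟩ := htrP Q hQ _ (Transitivity.map_conj_max hq hm hQ)
    refine ⟨k, hk, k⁻¹ * m, ⟨N.mul_mem (N.inv_mem (hKN hk)) hm, ?_⟩, by group⟩
    refine Subgroup.mem_normalizer_iff_map_conj_eq.mpr ?_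
    show Q.map (MulAut.conj (k⁻¹ * m)).toMonoidHom = Q
    rw [← Transitivity.map_conj_conj, e, Transitivity.map_conj_inv]
  refine ⟨fun x hx => ?_, le_antisymm (fun m hm => ?_) (sup_le hKN inf_le_left)⟩
  · refine Subgroup.commutator_mono inf_le_right inf_le_right
      (Transitivity.mem_commutator_of_coprime hKN inf_le_left hNK hdec hx.2
        ⟨Subgroup.le_normalizer hx.1, hPQ hx.1⟩ ?_)
    refine Nat.Coprime.coprime_dvd_left (Subgroup.orderOf_dvd_natCard _ hx.1) ?_
    exact Nat.coprime_of_dvd fun r hr h1 h2 =>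
      hr.ne_one (Nat.eq_one_of_dvd_coprimes (Transitivity.coprime_piCoreOf _ _) h2 (hPπ r hr h1))
  · obtain ⟨k, hk, n, hn, rfl⟩ := hdec m hm
    exact Subgroup.mul_mem_sup hk hn

end Cfsg.Agent.S1395
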