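import Cfsg.Statements.S1462
import Cfsg.Agent.Lib.OddOrder.PLengthOne
import Cfsg.Agent.Lib.OddOrder.OmegaLemma
import Cfsg.Agent.Lib.OddOrder.Stabilize
import Cfsg.Agent.Lib.OddOrder.Replacement
-- import your own Cfsg.Agent.* helpers here

set_option autoImplicit false
open Cfsg
open CfsgLib CfsgLib.OddOrder

namespace Cfsg.Agent.S1462

/-- Let G be a finite solvable group, p an odd prime with G = O_{p',p,p'}(G), E an elementary abelian p-subgroup contained in no larger elementary abelian p-subgroup of G, and L a subgroup of order coprime to p normalized by E. Then L ≤ O_{p'}(G). -/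
theorem result {G : Type*} [Group G] [Finite G] [Group.IsSolvable G] (p : ℕ) [Fact p.Prime] (hp : p ≠ 2) (hpl : Cfsg.PLengthLE p 1 G) (E L : Subgroup G) (hE : Cfsg.IsElementaryAbelian p E)
    (hEmax : ∀ B : Subgroup G, Cfsg.IsElementaryAbelian p B → E ≤ B → B = E) (hL : (Nat.card L).Coprime p) (hEL : E ≤ Subgroup.normalizer (L : Set G)) :
    L ≤ Cfsg.pPrimeCore p G := by
  set O := Cfsg.pPrimeCore p G with hO
  set q := QuotientGroup.mk' O with hq
  have hqs : Function.Surjective q := QuotientGroup.mk'_surjective O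
  obtain ⟨S, hES⟩ := (CfsgLib.Fusion.Thompson.isPGroup_isEA hE).exists_le_sylow
  haveI hOS : (O ⊔ (S : Subgroup G)).Normal := PLengthOne.normal_sup S hpl
  set T := (S : Subgroup G).map q with hT
  haveI hTn : T.Normal := by
    have h := hOS.map q hqs
    rwa [Subgroup.map_sup, show O.map q = ⊥ from (Subgroup.map_eq_bot_iff _).mpr (QuotientGroup.ker_mk' O).ge,
      bot_sup_eq] at h
  have hTp : IsPGroup p T := S.isPGroup'.map q
  haveI : Group.IsNilpotent T := hTp.isNilpotent
  set E' := E.map q with hE'
  set L' := L.map q with hL'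
  have hLcop : (Nat.card L').Coprime p := hL.coprime_dvd_left (L.card_map_dvd q)
  have hLT : (Nat.card L').Coprime (Nat.card T) := by
    obtain ⟨k, hk⟩ := hTp.exists_card_eq
    rw [hk]; exact hLcop.pow_right k
  have hLE : L' ≤ Subgroup.centralizer (E' : Set (G ⧸ O)) := by
    rw [← Subgroup.commutator_eq_bot_iff_le_centralizer, eq_bot_iff,
      ← Subgroup.inf_eq_bot_of_coprime hLT]
    refine le_inf ?_ ((Subgroup.commutator_mono le_rfl (Subgroup.map_mono hES)).trans
      (Subgroup.commutator_le_right L' T))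
    rw [hL', hE', ← Subgroup.map_commutator]
    exact Subgroup.map_mono (Subgroup.le_normalizer_iff_commutator_le_left.mp hEL)
  set C := T ⊓ Subgroup.centralizer (E' : Set (G ⧸ O)) with hC
  have hLC : L' ≤ Subgroup.centralizer (C : Set (G ⧸ O)) := by
    refine OmegaLemma.le_centralizer_of_fix_orderP hp (hTp.to_le inf_le_left) ?_ hLcop ?_
    · refine le_trans ?_ (Subgroup.inf_normalizer_le_normalizer_inf (H := T)
        (K := Subgroup.centralizer (E' : Set (G ⧸ O))))
      refine le_inf (by rw [Subgroup.normalizer_eq_top]; exact le_top) (hLE.trans Subgroup.le_normalizer)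
    · rintro _ ⟨⟨s, hs, rfl⟩, hsC⟩ hsp
      have hsp' : s ^ p = 1 := PLengthOne.eq_one_of_mem S (pow_mem hs p)
        ((QuotientGroup.eq_one_iff _).mp (show q (s ^ p) = 1 by rw [map_pow]; exact hsp))
      have hsE : s ∈ E := by
        have hEA := Replacement.isEA_sup hE (Replacement.isEA_zpowers hsp') (by
          rw [Subgroup.le_centralizer_iff, Subgroup.zpowers_le, Subgroup.mem_centralizer_iff]
          intro e he
          have h1 := Subgroup.mem_centralizer_iff.mp hsC (q e) ⟨e, he, rfl⟩
          rw [← map_mul, ← map_mul] at h1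
          have h2 : (e * s)⁻¹ * (s * e) ∈ O := QuotientGroup.eq.mp h1
          have h3 : (e * s)⁻¹ * (s * e) ∈ (S : Subgroup G) :=
            mul_mem (inv_mem (mul_mem (hES he) hs)) (mul_mem hs (hES he))
          exact inv_mul_eq_one.mp (PLengthOne.eq_one_of_mem S h3 h2))
        have := hEmax _ hEA le_sup_left
        exact this ▸ Subgroup.mem_sup_right (Subgroup.mem_zpowers s)
      exact hLE.trans (Subgroup.centralizer_le (Set.singleton_subset_iff.mpr (SetLike.mem_coe.mpr (Subgroup.mem_map_of_mem q hsE))))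
  haveI := hE.1
  have hE'C : E' ≤ C := le_inf (Subgroup.map_mono hES)
    (by rw [hE']; exact (Subgroup.map_mono E.le_centralizer).trans (by
      rintro _ ⟨a, ha, rfl⟩
      rw [Subgroup.mem_centralizer_iff]
      rintro _ ⟨b, hb, rfl⟩
      rw [← map_mul, ← map_mul, Subgroup.mem_centralizer_iff.mp ha b hb]))
  have hLcT := Stabilize.le_centralizer_of_selfcentralizing (H := T) (A := L') (C := C)
    (by rw [Subgroup.normalizer_eq_top]; exact le_top) hLT inf_le_left hLC
    (le_inf inf_le_left (inf_le_right.trans (Subgroup.centralizer_le hE'C)))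
  have hps : Cfsg.IsPSolvable p (G ⧸ O) := CfsgLib.Fusion.PSolvable.psolvable_of_solvable
  have hcons := CfsgLib.Fusion.PSolvable.centralizer_pCore_le hps
    CfsgLib.Components.pPrimeCore_quotient_eq_bot
  have hcore : Cfsg.pCore p (G ⧸ O) ≤ T := by
    have := CfsgLib.Solvable.Cores.pCore_le_sylow (S.mapSurjective hqs)
    rwa [Sylow.coe_mapSurjective] at this
  have hLp : L' ≤ T := ((hLcT.trans (Subgroup.centralizer_le hcore)).trans hcons).trans hcore
  have hbot : L' = ⊥ := le_bot_iff.mp ((le_inf le_rfl hLp).trans (Subgroup.inf_eq_bot_of_coprime hLT).le)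
  rw [hL', Subgroup.map_eq_bot_iff, QuotientGroup.ker_mk'] at hbot
  exact hbot

end Cfsg.Agent.S1462
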