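import Cfsg.Statements.S1396
import Cfsg.Agent.Lib.OddOrder.SCNTransitivity
import Cfsg.Agent.S1462
-- import your own Cfsg.Agent.* helpers here

set_option autoImplicit false
open Cfsg
open CfsgLib CfsgLib.OddOrder

namespace Cfsg.Agent.S1396

/-- Let G be a minimal simple group of odd order, p a prime dividing the order of G and A an abelian p-subgroup. Suppose either (1) A consists exactly of the elements x of C_G(A) with x^p = 1, and every proper subgroup of G has p-length at most one, or (2) A is normal and self-centralizing in some Sylow p-subgroup of G and has rank at least 2. Then A satisfies the transitivity hypothesis. -/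
theorem result {G : Type*} [Group G] [Finite G] (hG : Cfsg.IsMinSimpleOddOrder G)
    (p : ℕ) [Fact p.Prime] (hp : p ∣ Nat.card G) (A : Subgroup G) (hAp : IsPGroup p A) (hAc : IsMulCommutative A)
    (h : (∀ x ∈ Subgroup.centralizer (A : Set G), x ^ p = 1 ↔ x ∈ A) ∧ (∀ H : Subgroup G, H ≠ ⊤ → Cfsg.PLengthLE p 1 H) ∨
      ∃ P : Sylow p G, Cfsg.IsSCN (P : Subgroup G) A ∧ ¬ Cfsg.PRankLE p 1 A) :
    Cfsg.TransitivityHypothesis A := by
  obtain ⟨hodd, hmin⟩ := hG
  haveI := hmin.1
  haveI := hAc
  have hp2 : p ≠ 2 := by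
    rintro rfl
    exact Nat.not_even_iff_odd.mpr hodd (even_iff_two_dvd.mpr hp)
  obtain ⟨z, hz⟩ := exists_prime_orderOf_dvd_card' p hp
  have hA1 : A ≠ ⊥ := by
    rintro rfl
    rcases h with ⟨h1, -⟩ | ⟨P, -, h2⟩
    · have hzb := (h1 z (Subgroup.mem_centralizer_iff.mpr fun y hy => by
        rw [SetLike.mem_coe, Subgroup.mem_bot] at hy; simp [hy])).mp (by rw [← hz]; exact pow_orderOf_eq_one z)
      rw [Subgroup.mem_bot] at hzb
      rw [hzb, orderOf_one] at hz
      exact (Fact.out : p.Prime).ne_one hz.symm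
    · refine h2 fun B _ _ => ?_
      calc Nat.card B ≤ Nat.card (⊥ : Subgroup G) := Subgroup.card_le_card_group B
        _ = 1 := Subgroup.card_bot
        _ ≤ p ^ 1 := by rw [pow_one]; exact (Fact.out : p.Prime).one_lt.le
  have hAtop : A ≠ ⊤ := by
    rintro rfl
    exact hmin.2.1 (⟨⟨fun a b => congrArg Subtype.val (mul_comm' (⟨a, Subgroup.mem_top a⟩ : (⊤ : Subgroup G)) ⟨b, Subgroup.mem_top b⟩)⟩⟩)
  refine ⟨hA1, hAtop, fun X hX hAX => ?_⟩
  obtain ⟨k, hk⟩ := hAp.exists_card_eq
  have hk0 : k ≠ 0 := by
    rintro rfl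
    exact hA1 (Subgroup.card_eq_one.mp (by rw [hk, pow_zero]))
  refine le_antisymm (sSup_le fun Y hY => ?_) (le_sSup ?_)
  · obtain ⟨hYX, hYπ, hAY⟩ := hY
    have hYc : (Nat.card Y).Coprime p := Nat.Coprime.coprime_dvd_right
      (hk ▸ dvd_pow_self p hk0) (Transitivity.piNum_iff.mp hYπ)
    have hle : Y ≤ (Cfsg.pPrimeCore p X).map X.subtype := by
      rcases h with ⟨h1, h2⟩ | ⟨P, hPA, hr⟩
      · haveI : Group.IsSolvable X := hmin.2.2 X hX
        have hAe : Cfsg.IsElementaryAbelian p A :=
          ⟨hAc, fun a ha => (h1 a (A.le_centralizer ha)).mpr ha⟩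
        have key := Cfsg.Agent.S1462.result (G := X) p hp2 (h2 X hX) (A.subgroupOf X) (Y.subgroupOf X)
          (Fusion.Thompson.isEA_subgroupOf hAe X)
          (by
            intro B hB hAB
            refine le_antisymm (fun b hb => ?_) hAB
            refine (h1 b ?_).mp (by simpa using congrArg Subtype.val (hB.2 b hb))
            rw [Subgroup.mem_centralizer_iff]
            intro a ha
            exact congrArg Subtype.val
              (Fusion.Thompson.mul_comm_of_isEA hB (hAB (show (⟨a, hAX ha⟩ : X) ∈ A.subgroupOf X from ha)) hb))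
          (by rwa [Nat.card_congr (Subgroup.subgroupOfEquivOfLe hYX).toEquiv])
          (by
            intro a ha
            rw [Subgroup.mem_normalizer_iff]
            intro y
            exact Subgroup.mem_normalizer_iff.mp (hAY ha) (y : G))
        exact fun y hy => ⟨⟨y, hYX hy⟩, key hy, rfl⟩
      · exact SCNTransitivity.le_pPrimeCore_of_scn hmin hodd P A hPA hr hX hAX hYX hYc hAY
    refine hle.trans (Transitivity.le_piCoreOf (Subgroup.map_subtype_le _) ?_ ?_)
    · refine (Subgroup.normal_subgroupOf_iff_le_normalizer (Subgroup.map_subtype_le _)).mp ?_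
      rw [Subgroup.subgroupOf, Subgroup.comap_map_eq_self_of_injective X.subtype_injective]
      infer_instance
    · rw [Subgroup.card_map_of_injective X.subtype_injective, hk]
      exact (Solvable.Cores.coprime_card_pPrimeCore p).pow_right k
  · exact ⟨Transitivity.piCoreOf_le _ _, Transitivity.piNum_iff.mpr (Transitivity.coprime_piCoreOf _ _),
      hAX.trans (Transitivity.le_normalizer_piCoreOf _ _)⟩

end Cfsg.Agent.S1396
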