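import Cfsg.Statements.S1417
import Cfsg.Agent.Lib.OddOrder.TauTwoStructure

set_option autoImplicit false
set_option linter.style.haveILetI false
open Cfsg

namespace Cfsg.Agent.S1417

/-- Let G be a minimal simple group of odd order, M a maximal subgroup, p ∈ τ₂(M) and A ≤ M elementary abelian of order p ^ 2. Then (a) M_σ is nilpotent; (b) every Sylow p-subgroup P of M is abelian, and if A ≤ P then the elements of P of order dividing p are exactly those of A and N_G(P) is not contained in M; (c) M normalizes M_σA; (d) M_σ ∩ C_G(A) = 1; (e) M_σ ∩ M* = 1 for every maximal subgroup M* ≠ M containing A; (f) M_σ ∩ C_G(A₁) = 1 for some subgroup A₁ ≤ A of order p. -/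
theorem result {G : Type*} [Group G] [Finite G] (hG : Cfsg.IsMinSimpleOddOrder G)
    (M : Subgroup G) (hM : IsCoatom M) (p : ℕ) [Fact p.Prime] (hp : p ∈ Cfsg.tau2 M) (A : Subgroup G) (hA : (A ≤ M ∧ Cfsg.IsElementaryAbelian p A ∧ Nat.card A = p ^ 2)) :
    Group.IsNilpotent (Cfsg.sigmaCore M) ∧
      (∀ P : Sylow p M, IsMulCommutative (P : Subgroup M) ∧
        (A ≤ (P : Subgroup M).map M.subtype →
          (∀ x ∈ (P : Subgroup M).map M.subtype, x ^ p = 1 ↔ x ∈ A) ∧
          ¬ Subgroup.normalizer ((((P : Subgroup M).map M.subtype : Subgroup G)) : Set G) ≤ M)) ∧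
      M ≤ Subgroup.normalizer ((Cfsg.sigmaCore M ⊔ A : Subgroup G) : Set G) ∧
      Cfsg.sigmaCore M ⊓ Subgroup.centralizer (A : Set G) = ⊥ ∧
      (∀ Mstar : Subgroup G, IsCoatom Mstar → Mstar ≠ M → A ≤ Mstar → Cfsg.sigmaCore M ⊓ Mstar = ⊥) ∧
      ∃ A₁ : Subgroup G, A₁ ≤ A ∧ Nat.card A₁ = p ∧ Cfsg.sigmaCore M ⊓ Subgroup.centralizer (A₁ : Set G) = ⊥ := by
  obtain ⟨hAM, hAe, hA2⟩ := hA
  obtain ⟨A₀, h⟩ := CfsgLib.OddOrder.TauTwoStructure.exists_exc hG hM hp.2.1 hAM hAe hA2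
  refine ⟨h.sigma_nilpotent hG, fun P => ?_, h.plane_sup_normal hG, h.centralizer_sigma hG,
    fun L hL hne hAL => CfsgLib.OddOrder.TauTwoStructure.inter_eq_bot hG h hL hne hAL, ?_⟩
  · have habel : IsMulCommutative (P : Subgroup M) := by
      obtain ⟨S, hS⟩ := ((CfsgLib.Fusion.Thompson.isPGroup_isEA hAe).of_equiv
        (Subgroup.subgroupOfEquivOfLe hAM).symm).exists_le_sylow
      obtain ⟨m, hm⟩ := MulAction.exists_smul_eq M S P
      have hSab := (h.pGroup hG (S.isPGroup'.map M.subtype) (Subgroup.map_subtype_le _)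
        (fun a ha => ⟨⟨a, hAM ha⟩, hS ha, rfl⟩)).1
      refine ⟨⟨fun a b => ?_⟩⟩
      have key : ∀ x y : M, x ∈ (P : Subgroup M) → y ∈ (P : Subgroup M) → x * y = y * x := by
        intro x y hx hy
        rw [← hm, Sylow.coe_subgroup_smul] at hx hy
        obtain ⟨x', hx', rfl⟩ := hx
        obtain ⟨y', hy', rfl⟩ := hy
        have := CfsgLib.OddOrder.PlaneSylow.comm_of hSab (a := (x' : G)) (b := (y' : G))
          ⟨x', hx', rfl⟩ ⟨y', hy', rfl⟩
        have h' : x' * y' = y' * x' := Subtype.ext this.eq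
        show m * x' * m⁻¹ * (m * y' * m⁻¹) = m * y' * m⁻¹ * (m * x' * m⁻¹)
        rw [show m * x' * m⁻¹ * (m * y' * m⁻¹) = m * (x' * y') * m⁻¹ by group, h']
        group
      exact Subtype.ext (key a b a.2 b.2)
    refine ⟨habel, fun hAP => ⟨fun x hx => ⟨fun hxp => ?_, hAe.2 x⟩, fun hN => ?_⟩⟩
    · exact (h.maxPlane hG).mem_of_commute hxp
        ((h.pGroup hG (P.isPGroup'.map M.subtype) (Subgroup.map_subtype_le _) hAP).2 hx)
    · exact hp.2.1 ⟨hp.1, (hA2 ▸ dvd_pow_self p two_ne_zero).trans (Subgroup.card_dvd_of_le hAM), P, hN⟩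
  · obtain ⟨g, hg, hgM⟩ := h.exists_g hG
    exact ⟨_, (Subgroup.map_mono h.le₀).trans (Subgroup.mem_normalizer_iff_map_conj_eq.mp hg).le,
      by rw [Subgroup.card_map_of_injective (MulAut.conj g).injective, h.card₀], h.fpf hG hg hgM⟩

end Cfsg.Agent.S1417
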