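import Cfsg.Statements.S1418
import Cfsg.Agent.Lib.OddOrder.TauTwoStructure

set_option autoImplicit false
set_option linter.style.haveILetI false
open Cfsg

namespace Cfsg.Agent.S1418

/-- Let G be a minimal simple group of odd order, M a maximal subgroup, E a complement to M_σ in M, p ∈ τ₂(M), and A ≤ E elementary abelian of order p ^ 2. Then A is normal in E and contains every subgroup of E of order p; C_G(A) ≤ M ∩ N_G(A) = E and N_G(A) is not contained in M; and for every subgroup X ≤ A of order p centralizing a non-identity element of M_σ, C_G(X) ≤ M and M is the unique maximal subgroup containing C_G(X). -/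
theorem result {G : Type*} [Group G] [Finite G] (hG : Cfsg.IsMinSimpleOddOrder G)
    (M : Subgroup G) (hM : IsCoatom M) (E : Subgroup G) (hE : Cfsg.IsComplIn E (Cfsg.sigmaCore M) M) (p : ℕ) [Fact p.Prime] (hp : p ∈ Cfsg.tau2 M) (A : Subgroup G) (hA : (A ≤ E ∧ Cfsg.IsElementaryAbelian p A ∧ Nat.card A = p ^ 2)) :
    (E ≤ Subgroup.normalizer (A : Set G) ∧ ∀ X : Subgroup G, X ≤ E → Nat.card X = p → X ≤ A) ∧
      (Subgroup.centralizer (A : Set G) ≤ M ⊓ Subgroup.normalizer (A : Set G) ∧ M ⊓ Subgroup.normalizer (A : Set G) = E ∧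
        ¬ Subgroup.normalizer (A : Set G) ≤ M) ∧
      ∀ X : Subgroup G, X ≤ A → Nat.card X = p → Cfsg.sigmaCore M ⊓ Subgroup.centralizer (X : Set G) ≠ ⊥ → (Subgroup.centralizer (X : Set G) ≤ M ∧ ∀ L : Subgroup G, IsCoatom L → Subgroup.centralizer (X : Set G) ≤ L → L = M) := by
  obtain ⟨hAE, hAe, hA2⟩ := hA
  have hAM : A ≤ M := hAE.trans hE.1
  obtain ⟨A₀, h⟩ := CfsgLib.OddOrder.TauTwoStructure.exists_exc hG hM hp.2.1 hAM hAe hA2
  have hA' := h.maxPlane hG
  have hEA := CfsgLib.OddOrder.TauTwoStructure.normal_in_complement hG h hE hAE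
  refine ⟨⟨hEA, fun X hXE hXc x hx => ?_⟩, ⟨le_inf h.centralizer_le (Subgroup.centralizer_le_normalizer _),
    CfsgLib.OddOrder.TauTwoStructure.inf_normalizer_eq hG h hE hAE, h.not_normalizer_le hG⟩, fun X hXA hXc hne => ?_⟩
  · have hxp : x ^ p = 1 := by
      have := pow_card_eq_one' (x := (⟨x, hx⟩ : X))
      rw [hXc] at this
      exact congrArg Subtype.val this
    exact hA'.mem_of_commute hxp (CfsgLib.OddOrder.TauTwoStructure.pGroup_le_centralizer hG h
      (IsPGroup.of_card (n := 1) (by rw [hXc, pow_one])) (hXE.trans hE.1) (hXE.trans hEA) hx)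
  · have hAC : A ≤ Subgroup.centralizer (X : Set G) := fun a ha => Subgroup.mem_centralizer_iff.mpr
      fun b hb => (CfsgLib.OddOrder.PlaneSylow.comm_of hAe.1 (hXA hb) ha).eq
    have huniq : ∀ L : Subgroup G, IsCoatom L → Subgroup.centralizer (X : Set G) ≤ L → L = M := by
      intro L hL hCL
      by_contra hLM
      exact hne (le_bot_iff.mp ((inf_le_inf_left _ hCL).trans
        (CfsgLib.OddOrder.TauTwoStructure.inter_eq_bot hG h hL hLM (hAC.trans hCL)).le))
    refine ⟨?_, huniq⟩
    have hX1 : X ≠ ⊥ := fun (e : X = ⊥) => (Fact.out : p.Prime).ne_one (by rw [← hXc, e, Subgroup.card_bot])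
    obtain ⟨L, hL, hNL⟩ := CfsgLib.OddOrder.Uniqueness.exists_coatom_normalizer (p := p) hG.2 hX1
      (IsPGroup.of_card (n := 1) (by rw [hXc, pow_one]))
    have hCL := (Subgroup.centralizer_le_normalizer _).trans hNL
    exact huniq L hL hCL ▸ hCL

end Cfsg.Agent.S1418
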