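import Cfsg.Statements.S1446
import Cfsg.Agent.Lib.OddOrder.FrobeniusFormulaGroup
import Cfsg.Agent.Lib.OddOrder.FPFTools

set_option autoImplicit false
open Cfsg

namespace Cfsg.Agent.S1446

/-- Let X be a finite group with subgroups K, R, M such that: K and R are nontrivial, K ∩ R = 1, R normalizes K, no non-identity element of R centralizes a non-identity element of K, K ⊔ R is solvable of odd order; M is nilpotent and nontrivial, normalized by K and by R, with order coprime to that of K ⊔ R, M ∩ C(K) = 1, and M ∩ C(x) = M ∩ C(R) for all non-identity x ∈ R. Then R has prime order p, #M = #(M ∩ C(R)) ^ p, and if M ∩ C(R) is cyclic then [K, K] centralizes M. -/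
theorem result {X : Type*} [Group X] [Finite X] (K R M : Subgroup X) (hK1 : K ≠ ⊥) (hR1 : R ≠ ⊥) (hKR : K ⊓ R = ⊥)
    (hRK : R ≤ Subgroup.normalizer (K : Set X)) (hfrob : ∀ r ∈ R, r ≠ 1 → K ⊓ Subgroup.centralizer ({r} : Set X) = ⊥)
    (hsolv : Group.IsSolvable ↥(K ⊔ R)) (hodd : Odd (Nat.card ↥(K ⊔ R)))
    (hM1 : M ≠ ⊥) (hMn : Group.IsNilpotent M) (hKM : K ≤ Subgroup.normalizer (M : Set X)) (hRM : R ≤ Subgroup.normalizer (M : Set X))
    (hcop : (Nat.card ↥(K ⊔ R)).Coprime (Nat.card M)) (hCK : M ⊓ Subgroup.centralizer (K : Set X) = ⊥)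
    (hpr : ∀ x ∈ R, x ≠ 1 → M ⊓ Subgroup.centralizer ({x} : Set X) = M ⊓ Subgroup.centralizer (R : Set X)) :
    (Nat.card R).Prime ∧ Nat.card M = Nat.card ↥(M ⊓ Subgroup.centralizer (R : Set X)) ^ Nat.card R ∧
      (IsCyclic ↥(M ⊓ Subgroup.centralizer (R : Set X)) → ⁅K, K⁆ ≤ Subgroup.centralizer (M : Set X)) := by
  have hKsol : Group.IsSolvable K := CfsgLib.Coprime.isSolvable_of_le le_sup_left hsolv
  have hcK : (Nat.card K).Coprime (Nat.card M) := hcop.coprime_dvd_left (Subgroup.card_dvd_of_le le_sup_left)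
  have hcR : (Nat.card R).Coprime (Nat.card M) := hcop.coprime_dvd_left (Subgroup.card_dvd_of_le le_sup_right)
  have hD : CfsgLib.OddOrder.FrobeniusFormulaGroup.FData K R M := ⟨hRK, hKM, hRM, fun r hr hr1 k hk hc => by
    have h : k ∈ K ⊓ Subgroup.centralizer ({r} : Set X) :=
      ⟨hk, Subgroup.mem_centralizer_singleton_iff.mpr hc.eq.symm⟩
    rwa [hfrob r hr hr1, Subgroup.mem_bot] at h, hKsol, hcK, hcR⟩
  obtain ⟨e, hder⟩ := CfsgLib.OddOrder.FrobeniusFormulaGroup.main _ X K R M le_rfl hD hMn hCK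
  obtain ⟨p, hp, hpd⟩ := Nat.exists_prime_and_dvd (mt Subgroup.card_eq_one.mp hR1)
  haveI := Fact.mk hp
  obtain ⟨x, hx⟩ := exists_prime_orderOf_dvd_card' (G := R) p hpd
  have hxo : orderOf (x : X) = p := by rw [Subgroup.orderOf_coe, hx]
  have hx1 : (x : X) ≠ 1 := fun e' => hp.ne_one (by rw [← hxo, e', orderOf_one])
  have hle : Subgroup.zpowers (x : X) ≤ R := Subgroup.zpowers_le.mpr x.2
  have e' := (CfsgLib.OddOrder.FrobeniusFormulaGroup.main _ X K (Subgroup.zpowers (x : X)) M le_rfl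
    ⟨hle.trans hRK, hKM, hle.trans hRM, fun r hr => hD.hfpf r (hle hr), hKsol, hcK,
      hcR.coprime_dvd_left (Subgroup.card_dvd_of_le hle)⟩ hMn hCK).1
  have hC : M ⊓ Subgroup.centralizer ((Subgroup.zpowers (x : X) : Subgroup X) : Set X) =
      M ⊓ Subgroup.centralizer (R : Set X) := by
    refine le_antisymm ?_ (inf_le_inf_left _ (Subgroup.centralizer_le (SetLike.coe_subset_coe.mpr hle)))
    rw [← hpr x x.2 hx1]
    exact inf_le_inf_left _ (Subgroup.centralizer_le (Set.singleton_subset_iff.mpr (Subgroup.mem_zpowers (x : X))))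
  rw [hC, e, Nat.card_zpowers, hxo] at e'
  have hd2 : 2 ≤ Nat.card ↥(M ⊓ Subgroup.centralizer (R : Set X)) := by
    by_contra hlt
    have hd := Nat.card_pos (α := ↥(M ⊓ Subgroup.centralizer (R : Set X)))
    refine hM1 (Subgroup.eq_bot_of_card_eq _ ?_)
    rw [e, show Nat.card ↥(M ⊓ Subgroup.centralizer (R : Set X)) = 1 by omega, one_pow]
  have hR : Nat.card R = p := Nat.pow_right_injective hd2 e'
  refine ⟨hR ▸ hp, e, fun hcyc => hder ?_ hcyc⟩
  exact CfsgLib.OddOrder.FPFTools.isNilpotent_of_fpf hp (hxo ▸ pow_orderOf_eq_one _) (hRK x.2) (hfrob x x.2 hx1)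

end Cfsg.Agent.S1446
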