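import Cfsg.Statements.S1420
import Cfsg.Agent.Lib.OddOrder.TauTwoAbelian
import Cfsg.Agent.Lib.OddOrder.ComplementHall

set_option autoImplicit false
set_option linter.style.haveILetI false
open Cfsg

namespace Cfsg.Agent.S1420

/-- Let G be a minimal simple group of odd order, M a maximal subgroup and E a complement to M_σ in M. Then every nilpotent subgroup of M whose order involves no prime of σ(M) is abelian; E' is abelian; for p ∈ σ(M) and every noncyclic p-subgroup P of M, N_G(P) ≤ M; and if x ≠ 1 in M has every prime divisor of its order in τ₂(M) and centralizes a non-identity element of M_σ, then C_G(x) ≤ M and M is the unique maximal subgroup containing C_G(x). -/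
theorem result {G : Type*} [Group G] [Finite G] (hG : Cfsg.IsMinSimpleOddOrder G)
    (M : Subgroup G) (hM : IsCoatom M) (E : Subgroup G) (hE : Cfsg.IsComplIn E (Cfsg.sigmaCore M) M) :
    (∀ N : Subgroup G, N ≤ M → Group.IsNilpotent N → (∀ p : ℕ, p.Prime → p ∣ Nat.card N → p ∉ Cfsg.sigma M) → IsMulCommutative N) ∧
      IsMulCommutative ↥⁅E, E⁆ ∧
      (∀ (p : ℕ) (P : Subgroup G), p ∈ Cfsg.sigma M → IsPGroup p P → P ≤ M → ¬ IsCyclic P → Subgroup.normalizer (P : Set G) ≤ M) ∧
      ∀ x ∈ M, x ≠ 1 → (∀ p : ℕ, p.Prime → p ∣ orderOf x → p ∈ Cfsg.tau2 M) → x ∈ Cfsg.sigmaHat M →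
        Subgroup.centralizer ({x} : Set G) ≤ M ∧ ∀ L : Subgroup G, IsCoatom L → Subgroup.centralizer ({x} : Set G) ≤ L → L = M := by
  refine ⟨fun N hNM hN hπ => ?_, ?_, fun p P hps hP hPM hnc => ?_, fun x hxM hx1 hxτ hxσ => ?_⟩
  · haveI := hN
    exact CfsgLib.OddOrder.TauTwoAbelian.nilpotent_abelian hG hM hNM hπ
  · haveI := CfsgLib.OddOrder.SigmaComplement.derived_isNilpotent hG hM hE
    refine CfsgLib.OddOrder.TauTwoAbelian.nilpotent_abelian hG hM
      ((CfsgLib.OddOrder.SigmaComplement.derived_le_self E).trans hE.1) fun t ht hd hts => ?_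
    haveI := Fact.mk ht
    exact CfsgLib.OddOrder.SigmaComplement.not_dvd_card hG hM hE hts
      (hd.trans (Subgroup.card_dvd_of_le (CfsgLib.OddOrder.SigmaComplement.derived_le_self E)))
  · haveI := Fact.mk hps.1
    have hp2 : p ≠ 2 := fun h => Nat.not_even_iff_odd.mpr hG.1 (even_iff_two_dvd.mpr
      (h ▸ CfsgLib.OddOrder.SigmaTools.sigma_dvd hps))
    have hP1 : P ≠ ⊥ := fun h => hnc (by subst h; infer_instance)
    obtain ⟨A, hAP, hAe, hA2⟩ := CfsgLib.OddOrder.UniqueTools.exists_isEA_sq hp2 hP hnc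
    obtain ⟨k, hk⟩ := (CfsgLib.Fusion.Thompson.isPGroup_isEA hAe).exists_card_eq
    have hk2 : 2 ≤ k := (Nat.pow_le_pow_iff_right hps.1.one_lt).mp (hk ▸ hA2)
    obtain ⟨K, hK⟩ := Sylow.exists_subgroup_card_pow_prime (G := A) p (n := 2) (hk ▸ pow_dvd_pow p hk2)
    set B := K.map A.subtype with hB
    have hBA : B ≤ A := Subgroup.map_subtype_le _
    have hBe : Cfsg.IsElementaryAbelian p B := by
      haveI := hAe.1
      exact ⟨inferInstance, fun b hb => hAe.2 b (hBA hb)⟩
    have hC : Subgroup.centralizer (P : Set G) ≤ M :=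
      (Subgroup.centralizer_le (SetLike.coe_subset_coe.mpr (hBA.trans hAP))).trans
        (CfsgLib.OddOrder.PlaneMaximal.centralizer_le hG hM ((hBA.trans hAP).trans hPM) hBe
          (by rw [hB, Subgroup.card_map_of_injective A.subtype_injective, hK]))
    rw [(CfsgLib.OddOrder.SigmaFusion.main hG hM hps hP hP1 hPM).2]
    exact sup_le inf_le_left hC
  · obtain ⟨p, hp, hpd⟩ := Nat.exists_prime_and_dvd (mt orderOf_eq_one_iff.mp hx1)
    haveI := Fact.mk hp
    obtain ⟨m, hm, hmE⟩ := CfsgLib.OddOrder.ComplementHall.exists_conj_le hG hM hE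
      (Subgroup.zpowers_le.mpr hxM) fun t ht hd => (hxτ t ht (Nat.card_zpowers x ▸ hd)).2.1
    obtain ⟨A, hAE, hAe, hA2⟩ := CfsgLib.OddOrder.TauTwoAbelian.exists_plane hE (hxτ p hp hpd)
    obtain ⟨A₀, h⟩ := CfsgLib.OddOrder.TauTwoStructure.exists_exc hG hM (hxτ p hp hpd).2.1 (hAE.trans hE.1) hAe hA2
    set y := m * x * m⁻¹ with hy
    have hyA : y ∈ Subgroup.centralizer (A : Set G) := by
      refine CfsgLib.OddOrder.TauTwoAbelian.mem_centralizer hG hE h hAE (hmE ⟨x, Subgroup.mem_zpowers x, rfl⟩)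
        fun q hq hd => hxτ q hq ?_
      rwa [hy, ← MulAut.conj_apply, MulEquiv.orderOf_eq] at hd
    obtain ⟨-, s, hs, hs1, hxs⟩ := hxσ
    have huniq : ∀ L : Subgroup G, IsCoatom L → Subgroup.centralizer ({x} : Set G) ≤ L → L = M := by
      intro L hL hCL
      by_contra hLM
      set L' := L.map (MulAut.conj m).toMonoidHom with hL'
      have hCy : ∀ c : G, m⁻¹ * c * m ∈ Subgroup.centralizer ({x} : Set G) → c ∈ L' := fun c hc =>
        CfsgLib.OddOrder.SigmaTools.mem_cj.mpr (hCL hc)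
      have hAL : A ≤ L' := fun a ha => hCy a (Subgroup.mem_centralizer_singleton_iff.mpr (by
        have h1 : a * y = y * a := Subgroup.mem_centralizer_iff.mp hyA a ha
        calc m⁻¹ * a * m * x = m⁻¹ * (a * y) * m := by rw [hy]; group
          _ = m⁻¹ * (y * a) * m := by rw [h1]
          _ = x * (m⁻¹ * a * m) := by rw [hy]; group))
      have hne : L' ≠ M := fun e => hLM (by
        have h2 := congrArg (CfsgLib.OddOrder.SigmaFusion.cj m⁻¹) e
        rw [hL', show L.map (MulAut.conj m).toMonoidHom = CfsgLib.OddOrder.SigmaFusion.cj m L from rfl,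
          CfsgLib.OddOrder.SigmaFusion.cj_cj, inv_mul_cancel, CfsgLib.OddOrder.SigmaFusion.cj_one] at h2
        rw [h2, CfsgLib.OddOrder.SigmaFusion.cj_eq_self (inv_mem (Subgroup.le_normalizer hm))])
      have hsL : m * s * m⁻¹ ∈ Cfsg.sigmaCore M ⊓ L' :=
        ⟨(Subgroup.mem_normalizer_iff.mp (CfsgLib.OddOrder.SigmaTools.le_normalizer_sigmaCore M hm) s).mp hs,
          hCy _ (by rw [show m⁻¹ * (m * s * m⁻¹) * m = s by group]
                    exact Subgroup.mem_centralizer_singleton_iff.mpr hxs.symm)⟩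
      rw [CfsgLib.OddOrder.TauTwoStructure.inter_eq_bot hG h (CfsgLib.OddOrder.SigmaFusion.isCoatom_cj hL m) hne hAL,
        Subgroup.mem_bot, conj_eq_one_iff] at hsL
      exact hs1 hsL
    refine ⟨?_, huniq⟩
    have htop : Subgroup.centralizer ({x} : Set G) ≠ ⊤ := by
      intro e
      have hxp : orderOf (x ^ (orderOf x / p)) = p :=
        orderOf_pow_orderOf_div (orderOf_pos x).ne' hpd
      refine CfsgLib.OddOrder.SigmaTools.centralizer_singleton_ne_top hG hxp (top_le_iff.mp (e.ge.trans ?_))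
      intro c hc
      exact Subgroup.mem_centralizer_singleton_iff.mpr
        (Commute.pow_right (show Commute c x from Subgroup.mem_centralizer_singleton_iff.mp hc) _).eq
    obtain ⟨L, hL, hCL⟩ := (eq_top_or_exists_le_coatom _).resolve_left htop
    exact huniq L hL hCL ▸ hCL

end Cfsg.Agent.S1420
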