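import Cfsg.Statements.S1421
import Cfsg.Agent.Lib.OddOrder.FrobeniusCriterion

set_option autoImplicit false
set_option linter.style.haveILetI false
open Cfsg

namespace Cfsg.Agent.S1421

/-- Let G be a minimal simple group of odd order, M a maximal subgroup and E a complement to M_σ in M. Suppose that every non-identity element e of E all of whose order's prime divisors lie in τ₁(M) ∪ τ₃(M) has M_σ ∩ C_G(e) = 1. Then E has an abelian normal subgroup A₀ with E ∩ C_G(x) ≤ A₀ for every non-identity x ∈ M_σ, and E has a subgroup E₀ of the same exponent as E such that no non-identity element of E₀ centralizes a non-identity element of M_σ. -/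
theorem result {G : Type*} [Group G] [Finite G] (hG : Cfsg.IsMinSimpleOddOrder G)
    (M : Subgroup G) (hM : IsCoatom M) (E : Subgroup G) (hE : Cfsg.IsComplIn E (Cfsg.sigmaCore M) M)
    (h : ∀ e ∈ E, e ≠ 1 → (∀ p : ℕ, p.Prime → p ∣ orderOf e → p ∈ Cfsg.tau1 M ∪ Cfsg.tau3 M) →
      Cfsg.sigmaCore M ⊓ Subgroup.centralizer ({e} : Set G) = ⊥) :
    (∃ A₀ : Subgroup G, A₀ ≤ E ∧ E ≤ Subgroup.normalizer (A₀ : Set G) ∧ IsMulCommutative A₀ ∧
        ∀ x ∈ Cfsg.sigmaCore M, x ≠ 1 → E ⊓ Subgroup.centralizer ({x} : Set G) ≤ A₀) ∧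
      ∃ E₀ : Subgroup G, E₀ ≤ E ∧ Monoid.exponent E₀ = Monoid.exponent E ∧
        ∀ e ∈ E₀, e ≠ 1 → Cfsg.sigmaCore M ⊓ Subgroup.centralizer ({e} : Set G) = ⊥ := by
  have hfix : ∀ x ∈ Cfsg.sigmaCore M, x ≠ 1 → ∀ e : G, e ∈ Subgroup.centralizer ({x} : Set G) →
      Cfsg.sigmaCore M ⊓ Subgroup.centralizer ({e} : Set G) ≠ ⊥ := fun x hx hx1 e he hbot => hx1 (by
    have hmem : x ∈ Cfsg.sigmaCore M ⊓ Subgroup.centralizer ({e} : Set G) :=
      ⟨hx, Subgroup.mem_centralizer_singleton_iff.mpr (Subgroup.mem_centralizer_singleton_iff.mp he).symm⟩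
    rwa [hbot, Subgroup.mem_bot] at hmem)
  by_cases hab : CfsgLib.OddOrder.FrobeniusCriterion.AllAbelian M
  · obtain ⟨hDE, hED, hDc⟩ := CfsgLib.OddOrder.FrobeniusCriterion.tauPart_facts hG hM hE hab
    refine ⟨⟨_, hDE, hED, hDc, fun x hx hx1 e he => ⟨he.1, ?_⟩⟩,
      CfsgLib.OddOrder.FrobeniusCriterion.exists_E0_abelian hG hM hE h hab⟩
    exact CfsgLib.OddOrder.FrobeniusCriterion.tau2_of_fix hG hM hE h he.1 (hfix x hx hx1 e he.2)
  · simp only [CfsgLib.OddOrder.FrobeniusCriterion.AllAbelian] at hab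
    push Not at hab
    obtain ⟨p, hp, hpτ, S₀, hna⟩ := hab
    haveI := Fact.mk hp
    obtain ⟨A, hAE, hAe, hA2⟩ := CfsgLib.OddOrder.TauTwoAbelian.exists_plane hE hpτ
    obtain ⟨A₀, hExc⟩ := CfsgLib.OddOrder.TauTwoStructure.exists_exc hG hM hpτ.2.1 (hAE.trans hE.1) hAe hA2
    obtain ⟨S, hAS⟩ := (hExc.maxPlane hG).isPGroup.exists_le_sylow
    have hna' := CfsgLib.OddOrder.FrobeniusCriterion.nonabelian_all (T := S) hna
    refine ⟨⟨A₀, hExc.le₀.trans hAE, fun e he => ?_, ?_, fun x hx hx1 e he => ?_⟩,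
      CfsgLib.OddOrder.FrobeniusCriterion.exists_E0_nonabelian hG hE h hExc hAE hAS hna'⟩
    · rw [← CfsgLib.OddOrder.TauTwoNonabelian.inf_centralizer_eq hG hExc hAS hna']
      exact Subgroup.inf_normalizer_le_normalizer_inf
        ⟨CfsgLib.OddOrder.TauTwoStructure.normal_in_complement hG hExc hE hAE he,
          CfsgLib.OddOrder.WLine.normalizer_le_normalizer_centralizer _
            (CfsgLib.OddOrder.SigmaTools.le_normalizer_sigmaCore M (hE.1 he))⟩
    · exact ⟨⟨fun a b => Subtype.ext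
        (CfsgLib.OddOrder.PlaneSylow.comm_of hAe.1 (hExc.le₀ a.2) (hExc.le₀ b.2)).eq⟩⟩
    · exact CfsgLib.OddOrder.FrobeniusCriterion.mem_line hG hE h hExc hAE hAS hna' he.1 (hfix x hx hx1 e he.2)

end Cfsg.Agent.S1421
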