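import Cfsg.Statements.S1371
import Cfsg.Agent.Lib.OddOrder.StarFacts
import Cfsg.Agent.Lib.OddOrder.SigmaA
-- import your own Cfsg.Agent.* helpers here

set_option autoImplicit false
open Cfsg

namespace Cfsg.Agent.S1371

/-- Let G be a minimal simple group of odd order, M a maximal subgroup with standard factorisation M = K U M_σ, K ≠ 1, K* = M_σ ∩ C_G(K), and Ẑ the set of elements of K K* outside K ∪ K*. Then the union of the M-conjugates of Ẑ equals A₀(M) with A(M) removed, and it is a TI-subset of G. -/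
theorem result {G : Type*} [Group G] [Finite G] (hG : Cfsg.IsMinSimpleOddOrder G)
    (M : Subgroup G) (hM : IsCoatom M) (K U : Subgroup G) (hKU : Cfsg.IsSigmaDecomposition M K U) (hK1 : K ≠ ⊥) :
    {a : G | ∃ m ∈ M, ∃ z ∈ ((↑(K ⊔ (Cfsg.sigmaCore M ⊓ Subgroup.centralizer (K : Set G))) : Set G) \ ((K : Set G) ∪ ↑(Cfsg.sigmaCore M ⊓ Subgroup.centralizer (K : Set G)))), a = m * z * m⁻¹} = Cfsg.sigmaA0 M K \ Cfsg.sigmaA M U ∧
      Cfsg.IsTISubset (Cfsg.sigmaA0 M K \ Cfsg.sigmaA M U) := by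
  open CfsgLib.OddOrder in
  obtain ⟨L, h, -⟩ := StarPair.exists_pair hG (M := M) (K := K) ⟨hM, hK1, hKU.hall⟩
  open CfsgLib.OddOrder in
  have hZ := StarFacts.Zhat_eq hG h
  rw [← hZ]
  open CfsgLib.OddOrder in
  have key : ∀ a : G, (∃ m ∈ M, ∃ z ∈ StarFamily.Zhat M K, a = m * z * m⁻¹) ↔
      a ∈ Cfsg.sigmaA0 M K \ Cfsg.sigmaA M U := by
    intro a
    constructor
    · rintro ⟨m, hm, z, hz, rfl⟩
      obtain ⟨k, hk, d, hd, hk1, hd1, rfl⟩ := (StarFacts.mem_Zhat_iff hG h).mp hz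
      have hc : Commute k d := StarPartner.commute hk hd
      have ho : orderOf (m * (k * d) * m⁻¹) = orderOf k * orderOf d := by
        rw [show orderOf (m * (k * d) * m⁻¹) = orderOf (k * d) from MulEquiv.orderOf_eq (MulAut.conj m) _, hc.eq,
          SigmaCover.orderOf_mul_parts (π := Cfsg.sigma M) hc.symm (SupportCosets.sigma_number hd.1)
            (fun t ht htd => (h.left.sigma' hk t ht htd).2.2.1), mul_comm]
      have hkM : k ∈ M := h.left.hall.1 hk
      have hdM : d ∈ M := SigmaTools.sigmaCore_le M hd.1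
      refine ⟨⟨⟨mul_mem (mul_mem hm (mul_mem hkM hdM)) (inv_mem hm), m * d * m⁻¹,
        (Subgroup.mem_normalizer_iff.mp (SigmaTools.le_normalizer_sigmaCore M hm) d).mp hd.1,
        fun e => hd1 (conj_eq_one_iff.mp e), ?_⟩, ?_⟩, ?_⟩
      · have hc' : Commute (k * d) d := hc.mul_left (Commute.refl d)
        exact (hc'.map (MulAut.conj m).toMonoidHom).eq
      · rintro ⟨k', hk', -, m', hm', e⟩
        obtain ⟨t, ht, htd⟩ := Nat.exists_prime_and_dvd (mt orderOf_eq_one_iff.mp hd1)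
        refine (h.left.sigma' hk' t ht ?_).2.2.1 (SupportCosets.sigma_number hd.1 t ht htd)
        rw [← show orderOf (m' * k' * m'⁻¹) = orderOf k' from MulEquiv.orderOf_eq (MulAut.conj m') _, ← e, ho]
        exact htd.mul_left _
      · rintro ⟨-, hsup⟩
        obtain ⟨t, ht, htd⟩ := Nat.exists_prime_and_dvd (mt orderOf_eq_one_iff.mp hk1)
        rcases SigmaA.sup_primes hG hM hKU t ht ((htd.mul_right _).trans (ho ▸ Subgroup.orderOf_dvd_natCard _ hsup))
          with h' | h'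
        · exact h'.2.1 (h.left.sigma' hk t ht htd)
        · exact (h.left.sigma' hk t ht htd).2.2.1 h'
    · rintro ⟨⟨⟨haM, y, hy, hy1, hay⟩, hnK⟩, hnA⟩
      have hnsup : a ∉ U ⊔ Cfsg.sigmaCore M := fun hs => hnA ⟨⟨haM, y, hy, hy1, hay⟩, hs⟩
      obtain ⟨b, c, hb, hc, habc, hbc, hbπ, hcπ⟩ := SigmaCover.exists_parts (Cfsg.sigma M) a
      have hbM : b ∈ M := Subgroup.zpowers_le.mpr haM hb
      have hcM : c ∈ M := Subgroup.zpowers_le.mpr haM hc
      have hbσ : b ∈ Cfsg.sigmaCore M := SigmaTools.le_sigmaCore hG hM (Subgroup.zpowers_le.mpr hbM)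
        (fun t ht htd => hbπ t ht (Nat.card_zpowers b ▸ htd)) (Subgroup.mem_zpowers b)
      have hc1 : c ≠ 1 := fun e => hnsup (by rw [habc, e, mul_one]; exact Subgroup.mem_sup_right hbσ)
      have hcy : Commute c y := by
        obtain ⟨i, rfl⟩ := Subgroup.mem_zpowers_iff.mp hc
        exact Commute.zpow_left hay i
      rcases SigmaDichotomy.main hG hM hy hy1 (x' := c) ⟨hcM, Subgroup.mem_centralizer_singleton_iff.mpr hcy⟩ hc1
        hcπ with ⟨hκ, -⟩ | ⟨hτ, -⟩
      swap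
      · refine absurd ?_ hnsup
        rw [habc]
        exact mul_mem (Subgroup.mem_sup_right hbσ) (SigmaDecomp.mem_sup hG hM hKU hcM fun t ht htd hk =>
          haveI := Fact.mk ht; (hτ t ht htd).2.2.2 (KappaHall.kappa_rank_one hk))
      have hb1 : b ≠ 1 := by
        rintro rfl
        rw [one_mul] at habc
        subst habc
        obtain ⟨m, hm, hmK⟩ := StarFacts.conj_K h.left hG hcM hκ
        exact hnK ⟨m * a * m⁻¹, hmK, fun e => hc1 (conj_eq_one_iff.mp e), m⁻¹, inv_mem hm, by group⟩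
      obtain ⟨m, hm, hmz⟩ := StarFacts.to_Zhat hG h hbσ hb1 hcM hbc hc1 hκ
      exact ⟨m⁻¹, inv_mem hm, _, hmz, by rw [habc]; group⟩
  refine ⟨Set.ext key, ?_⟩
  intro g hg x hx hgx
  obtain ⟨m, hm, z, hz, rfl⟩ := (key x).mpr hx
  obtain ⟨m', hm', z', hz', e⟩ := (key _).mpr hgx
  open CfsgLib.OddOrder in
  refine absurd ?_ hg
  open CfsgLib.OddOrder in
  have hgM : g ∈ M := by
    have h1 : m'⁻¹ * g * m ∈ StarPartner.Zsub M K := StarFamily.mem_Z_of_conj hG h.left hz (by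
      rw [show m'⁻¹ * g * m * z * (m'⁻¹ * g * m)⁻¹ = m'⁻¹ * (g * (m * z * m⁻¹) * g⁻¹) * m' by group, e,
        show m'⁻¹ * (m' * z' * m'⁻¹) * m' = z' by group]
      exact hz'.1)
    have h2 := mul_mem (mul_mem hm' (StarPartner.Z_le h.left h1)) (inv_mem hm)
    rwa [show m' * (m'⁻¹ * g * m) * m⁻¹ = g by group] at h2
  rw [Subgroup.mem_set_normalizer_iff]
  intro w
  rw [← key, ← key]
  constructor
  · rintro ⟨n, hn, u, hu, rfl⟩
    exact ⟨g * n, mul_mem hgM hn, u, hu, by group⟩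
  · rintro ⟨n, hn, u, hu, e'⟩
    exact ⟨g⁻¹ * n, mul_mem (inv_mem hgM) hn, u, hu, by
      calc w = g⁻¹ * (g * w * g⁻¹) * g := by group
        _ = g⁻¹ * (n * u * n⁻¹) * g := by rw [e']
        _ = _ := by group⟩

end Cfsg.Agent.S1371
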