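import Cfsg.Statements.S1372
import Cfsg.Agent.Lib.OddOrder.FittingTI

set_option autoImplicit false
open Cfsg

namespace Cfsg.Agent.S1372

/-- Let G be a minimal simple group of odd order and M a maximal subgroup with standard factorisation M = K U M_σ, K ≠ 1 and U ≠ 1. Then K has prime order, and the Fitting subgroup F(M) contains M_σ and is a TI-subset of G. -/
theorem result {G : Type*} [Group G] [Finite G] (hG : Cfsg.IsMinSimpleOddOrder G)
    (M : Subgroup G) (hM : IsCoatom M) (K U : Subgroup G) (hKU : Cfsg.IsSigmaDecomposition M K U) (hK1 : K ≠ ⊥) (hU1 : U ≠ ⊥) :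
    (Nat.card K).Prime ∧ Cfsg.IsTISubset (Cfsg.fittingOf M : Set G) ∧ Cfsg.sigmaCore M ≤ Cfsg.fittingOf M := by
  open CfsgLib.OddOrder in
  have hs := SigmaDecomp.str hG hM hKU hK1
  open CfsgLib.OddOrder in
  obtain ⟨hn, hfix⟩ := PrimeK.fixed_of_hall hG hM hs.hall hU1
  open CfsgLib.OddOrder in
  have hle : Cfsg.sigmaCore M ≤ Cfsg.fittingOf M :=
    FittingStructure.le_fitting (SigmaTools.sigmaCore_le M) (SigmaTools.le_normalizer_sigmaCore M) hn
  open CfsgLib.OddOrder in
  refine ⟨(PrimeK.prime_K hG hM hs hK1 hU1).1, FittingTI.ti_of fun g hg => by_contra fun hX => ?_, hle⟩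
  open CfsgLib.OddOrder in
  haveI : Group.IsNilpotent (Cfsg.fittingOf M) := Basic.fittingOf_isNilpotent
  open CfsgLib.OddOrder in
  have hUF : U ≤ Cfsg.fittingOf M := by
    refine le_trans ?_ (FittingTI.derived_le hG hM hg hX)
    rw [StarDerived.derived_eq hG hM hKU hK1]
    exact le_sup_left
  open CfsgLib.OddOrder in
  refine SigmaCore.sigmaCore_ne_bot hG hM (le_bot_iff.mp (hfix ▸ le_inf le_rfl fun z hz => ?_))
  refine Subgroup.mem_centralizer_iff.mpr fun u hu => ?_
  open CfsgLib.OddOrder in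
  refine (Basic.commute_of_mem_nilpotent (hUF hu) (hle hz) (Nat.coprime_of_dvd fun t ht h1 h2 => ?_)).eq
  haveI := Fact.mk ht
  open CfsgLib.OddOrder in
  exact (hs.hall.2.1 t ht (h1.trans (Subgroup.orderOf_dvd_natCard _ hu))).2.2
    (SigmaTools.mem_sigma_of_card (h2.trans (Subgroup.orderOf_dvd_natCard _ hz)))

end Cfsg.Agent.S1372
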