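import Cfsg.Statements.S1381
import Cfsg.Agent.Lib.OddOrder.TypeF

set_option autoImplicit false
open Cfsg

namespace Cfsg.Agent.S1381

/-- Let G be a minimal simple group of odd order and M a maximal subgroup with standard factorisation M = K U M_σ. Then M is of Type II if and only if K ≠ 1 and U ≠ 1. -/
theorem result {G : Type*} [Group G] [Finite G] (hG : Cfsg.IsMinSimpleOddOrder G)
    (M : Subgroup G) (hM : IsCoatom M) (K U : Subgroup G) (hKU : Cfsg.IsSigmaDecomposition M K U) :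
    Cfsg.IsOfTypeII M ↔ (K ≠ ⊥ ∧ U ≠ ⊥) := by
  open CfsgLib.OddOrder in
  constructor
  · rintro ⟨W₁, V, W₂, hP, hV1, -, -, -, hnle, -, -⟩
    open CfsgLib.OddOrder in
    have hK := TypeP.kappa_of_typeP hG hM hKU hP
    refine ⟨hK, fun hU => hnle ?_⟩
    open CfsgLib.OddOrder in
    exact TypeP.normalizer_compl_le hG hM hP.U_nilpotent
      (TypeP.derived_bot hG hM hKU hK hU ▸ hP.U_compl) hV1
  rintro ⟨hK, hU⟩
  open CfsgLib.OddOrder in
  have hn := TypeP.nilpotent_of_U hG hM hKU hU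
  open CfsgLib.OddOrder in
  have hFH := TypeP.fittingHall_eq hG hM hn
  open CfsgLib.OddOrder in
  have hd := TypeP.derived_compl hG hM hKU hK
  obtain ⟨hUc, hUn⟩ := Cfsg.Agent.S1363.result hG M hM K U hKU hK
  obtain ⟨hKp, hTI, -⟩ := Cfsg.Agent.S1372.result hG M hM K U hKU hK hU
  open CfsgLib.OddOrder in
  exact ⟨K, U, StarPartner.Dstar M K, TypeP.typePWith hG hM hKU hK (hFH.symm ▸ hd)
    (FittingStructure.nilpotent_of_comm hUc) hKU.normal, hU, hKp, hTI, hUc, hUn,
    TypeF.typeF hG hM hKU hn hU (SigmaComplement.derived_le_self M) hd,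
    (TypeF.fittingHallOf_eq hG hM hKU hn (SigmaComplement.derived_le_self M) hd).trans hFH.symm⟩

end Cfsg.Agent.S1381
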