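import Cfsg.Statements.S1354
import Cfsg.Agent.Lib.OddOrder.SigmaDecomp

set_option autoImplicit false
open Cfsg

namespace Cfsg.Agent.S1354

/-- Let G be a minimal simple group of odd order, M a maximal subgroup and K a cyclic Hall κ(M)-subgroup of M, and put K* = M_σ ∩ C_G(K). Then K* ≠ 1, and if K ≠ 1 then for every non-identity k ∈ K the centralizer C_M(k) is the subgroup generated by K and K* (an internal direct product, as K ∩ M_σ = 1 and K* centralizes K). -/
theorem result {G : Type*} [Group G] [Finite G] (hG : Cfsg.IsMinSimpleOddOrder G)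
    (M : Subgroup G) (hM : IsCoatom M) (K : Subgroup G)
    (hKc : IsCyclic K) (hK : Cfsg.IsPiHallOf (Cfsg.kappa M) K M) :
    Cfsg.sigmaCore M ⊓ Subgroup.centralizer (K : Set G) ≠ ⊥ ∧
      (K ≠ ⊥ → ∀ k ∈ K, k ≠ 1 →
        M ⊓ Subgroup.centralizer ({k} : Set G) = K ⊔ (Cfsg.sigmaCore M ⊓ Subgroup.centralizer (K : Set G))) := by
  open CfsgLib.OddOrder in
  refine ⟨?_, fun hK1 k hk hk1 => ?_⟩
  · by_cases hK1 : K = ⊥
    · intro e
      refine SigmaCore.sigmaCore_ne_bot hG hM (le_bot_iff.mp (le_trans ?_ e.le))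
      refine le_inf le_rfl fun x _ => Subgroup.mem_centralizer_iff.mpr fun y hy => ?_
      rw [hK1] at hy
      rw [Subgroup.mem_bot.mp hy, one_mul, mul_one]
    · obtain ⟨E, U, h⟩ := KappaHall.exists_str' hG hM hK hK1
      exact h.ne_bot
  obtain ⟨E, U, h⟩ := KappaHall.exists_str' hG hM hK hK1
  obtain ⟨p, hp, hpd⟩ := Nat.exists_prime_and_dvd (mt orderOf_eq_one_iff.mp hk1)
  set f := k ^ (orderOf k / p) with hf
  have hfo : orderOf f = p := orderOf_pow_orderOf_div (orderOf_pos k).ne' hpd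
  set X := Subgroup.zpowers f with hX
  refine le_antisymm ?_ (sup_le (le_inf hK.1 fun a ha => ?_) (le_inf (inf_le_left.trans (SigmaTools.sigmaCore_le M))
    (inf_le_right.trans (Subgroup.centralizer_le (Set.singleton_subset_iff.mpr hk)))))
  · rw [← h.inf_normalizer (Subgroup.zpowers_le.mpr (pow_mem hk _) : X ≤ K) (by rw [Nat.card_zpowers, hfo]; exact hp)]
    refine inf_le_inf le_rfl (le_trans ?_ (Subgroup.centralizer_le_normalizer _))
    rw [SigmaTools.centralizer_zpowers]
    exact CN.centralizer_singleton_le_pow k _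
  · haveI := hKc
    letI := IsCyclic.commGroup (α := K)
    exact Subgroup.mem_centralizer_singleton_iff.mpr (congrArg Subtype.val (mul_comm (⟨a, ha⟩ : K) ⟨k, hk⟩))

end Cfsg.Agent.S1354
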