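import Cfsg.Statements.S1363
import Cfsg.Agent.Lib.OddOrder.StarNormalizer
-- import your own Cfsg.Agent.* helpers here

set_option autoImplicit false
open Cfsg

namespace Cfsg.Agent.S1363

/-- Let G be a minimal simple group of odd order and M a maximal subgroup with standard factorisation M = K U M_σ and K ≠ 1. Then U is abelian and the normalizer of U in G is not contained in M. -/
theorem result {G : Type*} [Group G] [Finite G] (hG : Cfsg.IsMinSimpleOddOrder G)
    (M : Subgroup G) (hM : IsCoatom M) (K U : Subgroup G) (hKU : Cfsg.IsSigmaDecomposition M K U) (hK1 : K ≠ ⊥) :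
    IsMulCommutative U ∧ ¬ Subgroup.normalizer (U : Set G) ≤ M := by
  open CfsgLib.OddOrder in
  have hs := SigmaDecomp.str hG hM hKU hK1
  refine ⟨hs.comm, ?_⟩
  rcases eq_or_ne U ⊥ with rfl | hU
  · intro hle
    exact hM.1 (top_le_iff.mp (le_trans (le_of_eq
      (Subgroup.normalizer_eq_top_iff.mpr (inferInstance : (⊥ : Subgroup G).Normal)).symm) hle))
  open CfsgLib.OddOrder in
  obtain ⟨L, h, -⟩ := StarPair.exists_pair hG (M := M) (K := K) ⟨hM, hK1, hKU.hall⟩
  exact CfsgLib.OddOrder.StarNormalizer.normalizer_not_le hG h hs hU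

end Cfsg.Agent.S1363
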