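import Cfsg.Statements.S1382
import Cfsg.Agent.Lib.OddOrder.TypeP
import Cfsg.Agent.S1357

set_option autoImplicit false
open Cfsg

namespace Cfsg.Agent.S1382

/-- Let G be a minimal simple group of odd order and M a maximal subgroup with standard factorisation M = K U M_σ. Then M is of Type III or of Type IV if and only if K ≠ 1, U = 1 and M_F ≠ M_σ. -/
theorem result {G : Type*} [Group G] [Finite G] (hG : Cfsg.IsMinSimpleOddOrder G)
    (M : Subgroup G) (hM : IsCoatom M) (K U : Subgroup G) (hKU : Cfsg.IsSigmaDecomposition M K U) :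
    (Cfsg.IsOfTypeIII M ∨ Cfsg.IsOfTypeIV M) ↔ (K ≠ ⊥ ∧ U = ⊥ ∧ Cfsg.fittingHallOf M ≠ Cfsg.sigmaCore M) := by
  open CfsgLib.OddOrder in
  constructor
  · rintro (⟨W₁, V, W₂, hP, hV1, -, -, -, hle⟩ | ⟨W₁, V, W₂, hP, hV1, -, -, -, hle⟩) <;>
    · open CfsgLib.OddOrder in
      have hK := TypeP.kappa_of_typeP hG hM hKU hP
      open CfsgLib.OddOrder in
      have hU : U = ⊥ := by_contra fun hU => TypeP.not_normalizer_le hG hM hKU hK hU hP.U_compl hle
      refine ⟨hK, hU, fun e => hV1 (le_bot_iff.mp (hP.U_compl.2.2.1 ▸ le_inf ?_ le_rfl))⟩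
      open CfsgLib.OddOrder in
      rw [e]
      open CfsgLib.OddOrder in
      exact hP.U_compl.2.1.trans (TypeP.derived_bot hG hM hKU hK hU).le
  rintro ⟨hK, hU, hne⟩
  open CfsgLib.OddOrder in
  obtain ⟨V, hV, hVn, hKV⟩ := TypeP.exists_compl hG hM hKU hK hU
  open CfsgLib.OddOrder in
  have hd := TypeP.derived_bot hG hM hKU hK hU
  have hV1 : V ≠ ⊥ := fun e => hne (le_antisymm
    (CfsgLib.OddOrder.SigmaCentralizer.fittingHallOf_le_sigmaCore hG hM) (by
      rw [← hd]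
      intro m hm
      obtain ⟨a, ha, b, hb, rfl⟩ := hV.2.2.2 m hm
      rw [e, Subgroup.mem_bot] at hb
      rw [hb, mul_one]; exact ha))
  obtain ⟨-, hTI, hKp⟩ := Cfsg.Agent.S1357.result hG M hM K U hKU hne
  open CfsgLib.OddOrder in
  have hle := TypeP.normalizer_compl_le hG hM hVn (hd ▸ hV) hV1
  open CfsgLib.OddOrder in
  have hP := TypeP.typePWith hG hM hKU hK hV hVn hKV
  by_cases hVc : IsMulCommutative V
  · exact Or.inl ⟨K, V, _, hP, hV1, hKp, hTI, hVc, hle⟩
  · exact Or.inr ⟨K, V, _, hP, hV1, hKp, hTI, hVc, hle⟩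

end Cfsg.Agent.S1382
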