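import Cfsg.Statements.S1350
import Cfsg.Agent.Lib.OddOrder.SigmaCore

set_option autoImplicit false
set_option linter.style.haveILetI false
open Cfsg

namespace Cfsg.Agent.S1350

/-- Let G be a minimal simple group of odd order and M a maximal subgroup. Then M_σ (the largest normal σ(M)-subgroup of M) is a Hall σ(M)-subgroup of M and also of G, and every Hall σ(M)-subgroup of M that is normal in M equals M_σ. -/
theorem result {G : Type*} [Group G] [Finite G] (hG : Cfsg.IsMinSimpleOddOrder G)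
    (M : Subgroup G) (hM : IsCoatom M) :
    Cfsg.IsPiHallOf (Cfsg.sigma M) (Cfsg.sigmaCore M) M ∧ Cfsg.IsPiHall (Cfsg.sigma M) (Cfsg.sigmaCore M) ∧
      ∀ N : Subgroup G, M ≤ Subgroup.normalizer (N : Set G) → Cfsg.IsPiHallOf (Cfsg.sigma M) N M →
        N = Cfsg.sigmaCore M := by
  obtain ⟨h1, h2⟩ := CfsgLib.OddOrder.SigmaCore.hall hG hM
  refine ⟨h1, h2, fun N hMN hN => ?_⟩
  haveI : (N.subgroupOf M).Normal := Subgroup.normal_subgroupOf_of_le_normalizer hMN
  have hle : N.subgroupOf M ≤ Cfsg.piCore (Cfsg.sigma M) M := by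
    refine CfsgLib.OddOrder.SigmaBasics.le_piCore fun t ht hd => hN.2.1 t ht ?_
    rwa [Nat.card_congr (Subgroup.subgroupOfEquivOfLe hN.1).toEquiv] at hd
  refine Subgroup.eq_of_le_of_card_ge ?_ ?_
  · intro x hx
    exact ⟨⟨x, hN.1 hx⟩, hle hx, rfl⟩
  · refine Nat.le_of_dvd Nat.card_pos ?_
    have hmul : Nat.card N * N.relIndex M = Nat.card M := by
      rw [← Subgroup.relIndex_bot_left, ← Subgroup.relIndex_bot_left,
        Subgroup.relIndex_mul_relIndex _ _ _ bot_le hN.1]
    refine Nat.Coprime.dvd_of_dvd_mul_right (m := Nat.card N) ?_ (hmul ▸ Subgroup.card_dvd_of_le h1.1)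
    exact Nat.coprime_of_dvd fun t ht ha hb => hN.2.2 t ht (h1.2.1 t ht ha) hb

end Cfsg.Agent.S1350
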