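import Cfsg.Statements.S1375
import Cfsg.Agent.Lib.OddOrder.SigmaA
import Cfsg.Agent.Lib.OddOrder.SigmaCentralizer

set_option autoImplicit false
open Cfsg

namespace Cfsg.Agent.S1375

/-- Let G be a minimal simple group of odd order, M a maximal subgroup, x ≠ 1 in M_σ with C_G(x) not contained in M. Then exactly one maximal subgroup N contains C_G(x); for it N_σ = N_F, C_{N_σ}(x) is a normal subgroup of C_G(x) complementing C_M(x), M ∩ N is a complement to N_σ in N, and for every standard factorisation N = K' U' N_σ one has U' ≠ 1 and x ∈ A(N) with x ∉ N_σ. -/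
theorem result {G : Type*} [Group G] [Finite G] (hG : Cfsg.IsMinSimpleOddOrder G)
    (M : Subgroup G) (hM : IsCoatom M) (x : G) (hx : x ∈ Cfsg.sigmaCore M) (hx1 : x ≠ 1) (hxM : ¬ Subgroup.centralizer ({x} : Set G) ≤ M) :
    ∃ N : Subgroup G, (IsCoatom N ∧ Subgroup.centralizer ({x} : Set G) ≤ N) ∧ (∀ L : Subgroup G, IsCoatom L → Subgroup.centralizer ({x} : Set G) ≤ L → L = N) ∧
        Cfsg.sigmaCore N = Cfsg.fittingHallOf N ∧
        Subgroup.centralizer ({x} : Set G) ≤ Subgroup.normalizer ((Cfsg.sigmaCore N ⊓ Subgroup.centralizer ({x} : Set G) : Subgroup G) : Set G) ∧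
        Cfsg.IsComplIn (M ⊓ Subgroup.centralizer ({x} : Set G)) (Cfsg.sigmaCore N ⊓ Subgroup.centralizer ({x} : Set G)) (Subgroup.centralizer ({x} : Set G)) ∧
        Cfsg.IsComplIn (M ⊓ N) (Cfsg.sigmaCore N) N ∧
        ∀ K' U' : Subgroup G, Cfsg.IsSigmaDecomposition N K' U' → U' ≠ ⊥ ∧ x ∈ Cfsg.sigmaA N U' ∧ x ∉ Cfsg.sigmaCore N := by
  open CfsgLib.OddOrder in
  obtain ⟨N, h⟩ := SigmaCentralizer.exists_over hG hM hx hx1 hxM
  refine ⟨N, ⟨h.coatom, h.le⟩, h.unique, SigmaCentralizer.sigmaCore_eq_fittingHallOf hG h.coatom h.nilpotent,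
    h.le_normalizer, h.compl_centralizer, h.compl, fun K' U' hd => ?_⟩
  have hxn : x ∉ Cfsg.sigmaCore N := fun e => hx1 (Subgroup.mem_bot.mp (h.bot.le ⟨e, h.mem.1⟩))
  have hxU : x ∈ U' ⊔ Cfsg.sigmaCore N := SigmaDecomp.mem_sup hG h.coatom hd h.mem.2 fun t ht htd hk => by
    haveI := Fact.mk ht
    exact (h.tau2 t ht htd).2.2.2 (KappaHall.kappa_rank_one hk)
  refine ⟨fun e => hxn ?_, ⟨SigmaA.hat_of_fix h.mem.2 h.fixed, hxU⟩, hxn⟩
  rwa [e, bot_sup_eq] at hxU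

end Cfsg.Agent.S1375
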