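import Cfsg.Statements.S1419
import Cfsg.Agent.Lib.OddOrder.TauTwoNonabelian

set_option autoImplicit false
open Cfsg

namespace Cfsg.Agent.S1419

/-- Let G be a minimal simple group of odd order whose Sylow p-subgroups are nonabelian, M a maximal subgroup with p ∈ τ₂(M), E a complement to M_σ in M and A ≤ E elementary abelian of order p ^ 2. Then τ₂(M) = {p}; A₀ = A ∩ C_G(M_σ) has order p and F(M) is generated by M_σ and A₀ (a direct product); and every subgroup X ≠ A₀ of E of order p satisfies M_σ ∩ C_G(X) = 1 and C_G(X) ⊄ M. -/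
theorem result {G : Type*} [Group G] [Finite G] (hG : Cfsg.IsMinSimpleOddOrder G)
    (M : Subgroup G) (hM : IsCoatom M) (E : Subgroup G) (hE : Cfsg.IsComplIn E (Cfsg.sigmaCore M) M) (p : ℕ) [Fact p.Prime] (hp : p ∈ Cfsg.tau2 M) (hS : ∀ S : Sylow p G, ¬ IsMulCommutative (S : Subgroup G))
    (A : Subgroup G) (hA : (A ≤ E ∧ Cfsg.IsElementaryAbelian p A ∧ Nat.card A = p ^ 2)) :
    Cfsg.tau2 M = {p} ∧
      (Nat.card ↥(A ⊓ Subgroup.centralizer (Cfsg.sigmaCore M : Set G)) = p ∧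
        Cfsg.fittingOf M = Cfsg.sigmaCore M ⊔ (A ⊓ Subgroup.centralizer (Cfsg.sigmaCore M : Set G))) ∧
      ∀ X : Subgroup G, X ≤ E → Nat.card X = p → X ≠ A ⊓ Subgroup.centralizer (Cfsg.sigmaCore M : Set G) →
        Cfsg.sigmaCore M ⊓ Subgroup.centralizer (X : Set G) = ⊥ ∧ ¬ Subgroup.centralizer (X : Set G) ≤ M := by
  obtain ⟨hAE, hAe, hA2⟩ := hA
  have hAM : A ≤ M := hAE.trans hE.1
  obtain ⟨A₀, h⟩ := CfsgLib.OddOrder.TauTwoStructure.exists_exc hG hM hp.2.1 hAM hAe hA2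
  obtain ⟨S, hAS⟩ := (CfsgLib.Fusion.Thompson.isPGroup_isEA hAe).exists_le_sylow
  have hI := CfsgLib.OddOrder.TauTwoNonabelian.inf_centralizer_eq hG h hAS (hS S)
  refine ⟨CfsgLib.OddOrder.TauTwoNonabelian.tau2_eq hG h hAS (hS S) hE hAE, ⟨?_, ?_⟩, fun X hXE hXc hXne => ?_⟩
  · rw [hI, h.card₀]
  · rw [hI]
    exact CfsgLib.OddOrder.TauTwoNonabelian.fitting_eq hG h hAS (hS S) hE hAE
  · have hXA : X ≤ A := fun x hx => (h.maxPlane hG).mem_of_commute (by
        have := pow_card_eq_one' (x := (⟨x, hx⟩ : X))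
        rw [hXc] at this
        exact congrArg Subtype.val this)
      (CfsgLib.OddOrder.TauTwoStructure.pGroup_le_centralizer hG h
        (IsPGroup.of_card (n := 1) (by rw [hXc, pow_one])) (hXE.trans hE.1)
        (hXE.trans (CfsgLib.OddOrder.TauTwoStructure.normal_in_complement hG h hE hAE)) hx)
    rw [hI] at hXne
    exact ⟨CfsgLib.OddOrder.TauTwoNonabelian.line_free hG h hAS (hS S) hXA hXc hXne,
      CfsgLib.OddOrder.TauTwoNonabelian.not_centralizer_le hG h hAS (hS S) hXA hXc hXne⟩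

end Cfsg.Agent.S1419
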