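import Cfsg.Statements.S1376
import Cfsg.Agent.Lib.OddOrder.StarFrobenius
-- import your own Cfsg.Agent.* helpers here

set_option autoImplicit false
open Cfsg
open scoped commutatorElement Pointwise

namespace Cfsg.Agent.S1376

/-- Let G be a minimal simple group of odd order, M a maximal subgroup, x ≠ 1 in M_σ with C_G(x) not contained in M, and N a maximal subgroup containing C_G(x) with κ(N) nonempty. Then κ(M) is empty, M has a cyclic Frobenius complement (M is a Frobenius group), and M_F is not a TI-subset of G. -/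
theorem result {G : Type*} [Group G] [Finite G] (hG : Cfsg.IsMinSimpleOddOrder G)
    (M : Subgroup G) (hM : IsCoatom M) (x : G) (hx : x ∈ Cfsg.sigmaCore M) (hx1 : x ≠ 1) (hxM : ¬ Subgroup.centralizer ({x} : Set G) ≤ M)
    (N : Subgroup G) (hN : IsCoatom N) (hxN : Subgroup.centralizer ({x} : Set G) ≤ N) (hkN : (Cfsg.kappa N).Nonempty) :
    Cfsg.kappa M = ∅ ∧ (∃ E : Subgroup ↥M, Cfsg.IsFrobeniusComplement E ∧ IsCyclic E) ∧ ¬ Cfsg.IsTISubset (Cfsg.fittingHallOf M : Set G) := by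
  open CfsgLib.OddOrder in
  obtain ⟨N', hov⟩ := SigmaCentralizer.exists_over hG hM hx hx1 hxM
  obtain rfl : N = N' := hov.unique N hN hxN
  open CfsgLib.OddOrder in
  obtain ⟨K, hKh⟩ := CfsgLib.Coprime.exists_hall (Cfsg.kappa N) (G := M ⊓ N)
    (hG.2.2.2 _ fun e => hN.1 (top_le_iff.mp (e ▸ inf_le_right)))
  open CfsgLib.OddOrder in
  have hK : Cfsg.IsPiHallOf (Cfsg.kappa N) K N := by
    refine ⟨hKh.1.trans inf_le_right, hKh.2.1, fun t ht htκ hd => ?_⟩
    rw [← Subgroup.relIndex_mul_relIndex K (M ⊓ N) N hKh.1 inf_le_right,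
      Basic.IsComplIn.relIndex_left hov.compl] at hd
    rcases ht.dvd_mul.mp hd with h | h
    · exact hKh.2.2 t ht htκ h
    · haveI := Fact.mk ht
      exact htκ.2.2.1 (SigmaTools.mem_sigma_of_card h)
  open CfsgLib.OddOrder in
  have hK1 : K ≠ ⊥ := fun e => by
    obtain ⟨t, ht⟩ := hkN
    have := KappaHall.dvd_card_of_hall hK ht.1 ht ht.2.1
    rw [e, Subgroup.card_bot] at this
    exact ht.1.ne_one (Nat.dvd_one.mp this)
  open CfsgLib.OddOrder in
  obtain ⟨U, hs₀⟩ := KappaHall.exists_str hG hN hov.compl hK hK1 hKh.1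
  have hUE : U ⊔ K = M ⊓ N := hs₀.sup
  rw [← hUE] at hs₀
  obtain ⟨r, hr, hrd⟩ := Nat.exists_prime_and_dvd (mt orderOf_eq_one_iff.mp hx1)
  haveI := Fact.mk hr
  open CfsgLib.OddOrder in
  have hxτ := hov.tau2
  open CfsgLib.OddOrder in
  have hrest : ∀ t : ℕ, t.Prime → t ∣ orderOf x → t ∈ KappaHall.rest N := fun t ht hd => by
    haveI := Fact.mk ht
    exact ⟨ht, fun hk => (hxτ t ht hd).2.2.2 (KappaHall.kappa_rank_one hk), (hxτ t ht hd).2.1⟩
  open CfsgLib.OddOrder in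
  have hxU : x ∈ U := by
    haveI : (U.subgroupOf (U ⊔ K)).Normal := Subgroup.normal_subgroupOf_of_le_normalizer hs₀.normal
    have hxE : Subgroup.zpowers x ≤ U ⊔ K := Subgroup.zpowers_le.mpr (hUE.symm.le hov.mem)
    have h1 : (Subgroup.zpowers x).subgroupOf (U ⊔ K) ≤ U.subgroupOf (U ⊔ K) := by
      refine SigmaCore.le_of_coprime_index (CfsgLib.Coprime.coprime_of_pi (π := KappaHall.rest N) ?_ ?_)
      · intro t ht hd
        rw [Nat.card_congr (Subgroup.subgroupOfEquivOfLe hxE).toEquiv, Nat.card_zpowers] at hd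
        exact hrest t ht hd
      · intro t ht htr hd
        exact KappaHall.not_dvd_relIndex hs₀.hall hs₀.Ule hs₀.compl.1 ht htr hd
    exact h1 (show (⟨x, hxE (Subgroup.mem_zpowers x)⟩ : ↥(U ⊔ K)) ∈ _ from Subgroup.mem_zpowers x)
  have hU1 : U ≠ ⊥ := fun e => hx1 (Subgroup.mem_bot.mp (e ▸ hxU))
  have hrU : r ∣ Nat.card U := hrd.trans (Subgroup.orderOf_dvd_natCard U hxU)
  obtain ⟨R⟩ : Nonempty (Sylow r U) := inferInstance
  open CfsgLib.OddOrder in
  have hNR : Subgroup.normalizer (((R : Subgroup U).map U.subtype : Subgroup G) : Set G) ≤ M := by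
    set R₁ := (R : Subgroup U).map U.subtype with hR₁
    have hR₁M : R₁ ≤ M := (Subgroup.map_subtype_le _).trans (le_sup_left.trans (hUE.le.trans inf_le_left))
    obtain ⟨E₀, hE₀⟩ := CfsgLib.Coprime.exists_hall {t | t ∉ Cfsg.sigma M} (hG.2.2.2 M hM.1)
    refine (Cfsg.Agent.S1420.result hG M hM E₀ (SylowCentral.isComplIn_of_hall hG hM hE₀)).2.2.1 r R₁
      (SupportCosets.sigma_number hx r hr hrd) (R.isPGroup'.map _) hR₁M fun hc => (hxτ r hr hrd).2.2.2 ?_
    have hR₁N : R₁ ≤ N := (Subgroup.map_subtype_le _).trans hs₀.hall.1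
    have hRc : Nat.card R₁ = r ^ (Nat.card N).factorization r := by
      rw [hR₁, CfsgLib.Coprime.card_map_subtype, R.card_eq_multiplicity,
        ← CfsgLib.Coprime.card_mul_relIndex_eq hs₀.hall.1, Nat.factorization_mul Nat.card_pos.ne' (Nat.pos_of_mul_pos_left
          (CfsgLib.Coprime.card_mul_relIndex_eq hs₀.hall.1 ▸ Nat.card_pos)).ne', Finsupp.add_apply,
        Nat.factorization_eq_zero_of_not_dvd (hs₀.hall.2.2 r hr (hrest r hr hrd)), add_zero]
    obtain ⟨S, hS⟩ := CfsgLib.Coprime.exists_sylow_map_eq hR₁N hRc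
    refine KappaHall.rank_one_of_cyclic fun P => ?_
    haveI : IsCyclic (S : Subgroup N) :=
      (Subgroup.equivMapOfInjective (S : Subgroup N) N.subtype N.subtype_injective).isCyclic.mpr (hS.symm ▸ hc)
    exact (S.equiv P).isCyclic.mp inferInstance
  open CfsgLib.OddOrder in
  obtain ⟨L, hp, -⟩ := StarPair.exists_pair hG (M := N) (K := K) ⟨hN, hK1, hK⟩
  open CfsgLib.OddOrder in
  have hn := StarNormalizer.nbr_of_sylow hG hp hs₀ hU1 hrU R hM hNR
  open CfsgLib.OddOrder in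
  have hCU : Subgroup.centralizer (U : Set G) ≤ N :=
    (Subgroup.centralizer_le (Set.singleton_subset_iff.mpr hxU)).trans hxN
  open CfsgLib.OddOrder in
  obtain ⟨hcyc, hfree⟩ := StarFrobenius.frobenius hG hn (StarFrobenius.no_tau2 hG hn hCU)
  open CfsgLib.OddOrder in
  have hσn := hn.nilpotent hG
  refine ⟨CfsgLib.OddOrder.StarNormalizer.Nbr.kappa_empty hG hn, ⟨(M ⊓ L).subgroupOf M, ⟨?_, ?_, ?_⟩, ?_⟩, ?_⟩
  · intro e
    open CfsgLib.OddOrder in
    have hle : K ≤ M ⊓ L := le_inf hn.K_le (hp.eq.ge.trans (inf_le_left.trans (SigmaTools.sigmaCore_le L)))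
    exact hK1 (le_bot_iff.mp fun k hk => Subgroup.mem_bot.mpr (congrArg Subtype.val (Subgroup.mem_bot.mp
      (e.le (show (⟨k, (hle hk).1⟩ : M) ∈ (M ⊓ L).subgroupOf M from hle hk)))))
  · intro e
    open CfsgLib.OddOrder in
    have hc := (hn.tail hG).2
    open CfsgLib.OddOrder in
    refine SigmaCore.sigmaCore_ne_bot hG hM (le_bot_iff.mp fun s hs => hc.2.2.1.le ⟨?_, hs⟩)
    exact (Subgroup.subgroupOf_eq_top.mp e) (hc.2.1 hs)
  · intro g hg
    open CfsgLib.OddOrder in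
    have hc := (hn.tail hG).2
    obtain ⟨e₀, he₀, s, hs, hge⟩ := hc.2.2.2 g g.2
    rw [eq_bot_iff]
    intro z hz
    obtain ⟨hz1, hz2⟩ := Subgroup.mem_inf.mp hz
    rw [Subgroup.mem_pointwise_smul_iff_inv_smul_mem, ← map_inv, MulAut.smul_def, MulAut.conj_apply, inv_inv] at hz2
    have hw : (g : G)⁻¹ * z * g ∈ M ⊓ L := hz2
    set w := (g : G)⁻¹ * z * g with hwdef
    have hzG : (z : G) ∈ M ⊓ L := hz1
    have hy : e₀⁻¹ * z * e₀ = s * w * s⁻¹ := by rw [hwdef, hge]; group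
    open CfsgLib.OddOrder in
    have hcm : ⁅s, w⁆ = 1 := by
      refine Subgroup.mem_bot.mp (hc.2.2.1.le ⟨?_, ?_⟩)
      · rw [commutatorElement_def, ← hy]
        exact (M ⊓ L).mul_mem ((M ⊓ L).mul_mem ((M ⊓ L).mul_mem ((M ⊓ L).inv_mem he₀) hzG) he₀) ((M ⊓ L).inv_mem hw)
      · rw [commutatorElement_def, show s * w * s⁻¹ * w⁻¹ = s * (w * s⁻¹ * w⁻¹) by group]
        exact mul_mem hs ((Subgroup.mem_normalizer_iff.mp (SigmaTools.le_normalizer_sigmaCore M hw.1) _).mp (inv_mem hs))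
    by_cases hw1 : w = 1
    · rw [Subgroup.mem_bot]
      refine Subtype.ext ?_
      have : (z : G) = g * w * (g : G)⁻¹ := by rw [hwdef]; group
      rw [this, hw1, mul_one, mul_inv_cancel, Subgroup.coe_one]
    · exfalso
      have hs1 : s = 1 := Subgroup.mem_bot.mp ((hfree w hw hw1).le ⟨hs, Subgroup.mem_centralizer_singleton_iff.mpr
        (commutatorElement_eq_one_iff_mul_comm.mp hcm)⟩)
      apply hg
      show (g : G) ∈ M ⊓ L
      rw [hge, hs1, mul_one]
      exact he₀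
  · exact (Subgroup.subgroupOfEquivOfLe inf_le_left).isCyclic.mpr hcyc
  · intro hti
    open CfsgLib.OddOrder in
    rw [← SigmaCentralizer.sigmaCore_eq_fittingHallOf hG hM hσn] at hti
    obtain ⟨g, hg, hgM⟩ := SetLike.not_le_iff_exists.mp hxM
    open CfsgLib.OddOrder in
    have hnorm : Subgroup.normalizer (Cfsg.sigmaCore M : Set G) ≤ M :=
      ((hM.le_iff.mp (SigmaTools.le_normalizer_sigmaCore M)).resolve_left (Uniqueness.normalizer_ne_top hG.2
        (SigmaCore.sigmaCore_ne_bot hG hM)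
        (hG.2.2.2 _ fun e => hM.1 (top_le_iff.mp (e ▸ SigmaTools.sigmaCore_le M))))).le
    refine hx1 (hti g (fun h => hgM (hnorm h)) x hx ?_)
    rw [show g * x * g⁻¹ = x from mul_inv_eq_iff_eq_mul.mpr (Subgroup.mem_centralizer_singleton_iff.mp hg)]
    exact hx

end Cfsg.Agent.S1376
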