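import Cfsg.Statements.S1524
import Cfsg.Agent.Lib.Char.CoherenceTICases

set_option autoImplicit false
open Cfsg

namespace Cfsg.Agent.S1524

/-- Let G be a finite group and H ≤ L subgroups with L of odd order, H ≠ ⊥ nilpotent and normal in L with a nontrivial complement W₁ in L (H ⊓ W₁ = ⊥, H ⊔ W₁ = L) acting on H without non-identity fixed points (L is a Frobenius group with kernel H), and suppose the underlying set of H is a TI-subset of G whose normaliser is L. Let S be the set of functions on L induced from the non-principal irreducible characters of H. Then (S, L minus 1, induction to G) is coherent. -/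
theorem result {G : Type*} [Group G] [Fintype G] (H L W₁ : Subgroup G) [Fintype L] (hodd : Odd (Nat.card L)) (hHL : H ≤ L) (hW₁L : W₁ ≤ L) (hH1 : H ≠ ⊥) (hW1 : W₁ ≠ ⊥) (hnil : Group.IsNilpotent H) (hHn : ∀ x ∈ L, ∀ h ∈ H, x * h * x⁻¹ ∈ H) (hinf : H ⊓ W₁ = ⊥) (hsup : H ⊔ W₁ = L) (hfpf : ∀ w ∈ W₁, w ≠ 1 → ∀ h ∈ H, w * h = h * w → h = 1) (hTI : Cfsg.IsTISubset (H : Set G)) (hN : Subgroup.normalizer (H : Set G) = L) : Cfsg.IsCoherent (Cfsg.inducedIrrAbove (H.subgroupOf L) ⊥) {1}ᶜ (fun α : L → ℂ => Cfsg.indFun L α) := by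
  subst hN
  set H' := H.subgroupOf (Subgroup.normalizer (H : Set G)) with hH'
  cases nonempty_fintype H'
  haveI : H'.Normal := Subgroup.normal_in_normalizer
  have hfr := CfsgLib.Char.frobenius_centralizer_le H' (W₁.subgroupOf (Subgroup.normalizer (H : Set G)))
    (by rw [hH', Subgroup.subgroupOf, Subgroup.subgroupOf, ← Subgroup.comap_inf, hinf]; exact Subgroup.subgroupOf_eq_bot.mpr disjoint_bot_left)
    (by rw [hH', ← Subgroup.subgroupOf_sup hHL hW₁L, hsup, Subgroup.subgroupOf_self])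
    (fun w hw hw1 k hk hwk => Subtype.ext (hfpf w (Subgroup.mem_subgroupOf.mp hw)
      (fun e => hw1 (Subtype.ext e)) k (Subgroup.mem_subgroupOf.mp hk) (congrArg Subtype.val hwk)))
  have h : CfsgLib.Char.TIKernel.IsTIKernel H := by
    refine ⟨hTI, lt_of_le_of_ne hHL fun e => hW1 ?_, fun k hk hk1 g hg => ?_⟩
    · rw [← hinf]; exact (inf_eq_right.mpr (hW₁L.trans e.ge)).symm
    · have hgN : g ∈ (Subgroup.normalizer (H : Set G)) := by
        by_contra hgn
        refine hk1 (hTI g hgn k hk ?_)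
        rw [Subgroup.mem_centralizer_singleton_iff.mp hg, mul_inv_cancel_right]; exact hk
      exact Subgroup.mem_subgroupOf.mp (hfr ⟨k, hHL hk⟩ (Subgroup.mem_subgroupOf.mpr hk)
        (fun e => hk1 (congrArg Subtype.val e)) (x := ⟨g, hgN⟩)
        (Subgroup.mem_centralizer_singleton_iff.mpr
          (Subtype.ext (Subgroup.mem_centralizer_singleton_iff.mp hg))))
  have hset : Cfsg.inducedIrrAbove H' ⊥ = CfsgLib.Char.Coherence.indNontriv H' H' := by
    refine (Eq.symm ?_).trans (CfsgLib.Char.Coherence.diff_eq_indNontriv H' H')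
    refine sdiff_eq_left.mpr (Set.disjoint_right.mpr ?_)
    rintro _ ⟨θ, hθ, hθ1, hker, rfl⟩
    exact absurd (congrArg Subtype.val (CfsgLib.Char.Feit.eq_one_of_const H' (θ := ⟨θ, hθ⟩)
      ((CfsgLib.Char.Feit.trivOn_commutator_iff H' hθ).mp fun a ha =>
        hker a (Subgroup.commutator_le_left H' H' ha)) fun x => hker x x.2)) hθ1
  rw [hset, ← CfsgLib.Char.Sibley.set_eq h]
  rcases CfsgLib.Char.Sibley.nilpotent_cases h hH1 with ⟨-, he, -⟩ | ⟨h2, -⟩ | hc
  · have h1 : Odd H'.index := hodd.of_dvd_nat H'.index_dvd_card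
    have h3 : Odd (Nat.card H) := hodd.of_dvd_nat (Subgroup.card_dvd_of_le hHL)
    rw [he] at h3
    exact absurd h1 (Nat.not_odd_iff_even.mpr (Nat.odd_add_one.mp h3 |> Nat.not_odd_iff_even.mp))
  · exfalso
    have h3 : Odd (Nat.card H) := hodd.of_dvd_nat (Subgroup.card_dvd_of_le hHL)
    rw [h2] at h3
    rcases Nat.eq_zero_or_pos ((Nat.card G).factorization 2) with h4 | h4
    · exact hH1 (Subgroup.card_eq_one.mp (by rw [h2, h4, pow_zero]))
    · exact Nat.not_even_iff_odd.mpr h3 ((Nat.even_pow' h4.ne').mpr even_two)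
  · exact hc

end Cfsg.Agent.S1524
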