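import Cfsg.Statements.S1389
import Cfsg.Agent.S1382

set_option autoImplicit false
open Cfsg

namespace Cfsg.Agent.S1389

/-- Let G be a minimal simple group of odd order and M a maximal subgroup, and let M_s be M' if M is of Type III or IV and M_F otherwise. Then N_G(P) ≤ M for every nontrivial Sylow subgroup P of M_s, and both M_F and M_s have order coprime to their index in G. -/
theorem result {G : Type*} [Group G] [Finite G] (hG : Cfsg.IsMinSimpleOddOrder G)
    (M : Subgroup G) (hM : IsCoatom M) :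
    (∀ (p : ℕ), p.Prime → ∀ (P : Sylow p ↥(Cfsg.typeCore M)), (P : Subgroup ↥(Cfsg.typeCore M)) ≠ ⊥ →
        Subgroup.normalizer ((((P : Subgroup ↥(Cfsg.typeCore M)).map (Cfsg.typeCore M).subtype : Subgroup G)) : Set G) ≤ M) ∧
      (Nat.card (Cfsg.fittingHallOf M)).Coprime (Cfsg.fittingHallOf M).index ∧
      (Nat.card (Cfsg.typeCore M)).Coprime (Cfsg.typeCore M).index := by
  open CfsgLib.OddOrder in
  obtain ⟨K, U, hKU⟩ := FittingStructure.exists_decomp hG hM
  open CfsgLib.OddOrder in
  have hcore : Cfsg.typeCore M = Cfsg.sigmaCore M := by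
    unfold Cfsg.typeCore
    split_ifs with h34
    · open CfsgLib.OddOrder in
      obtain ⟨hK, hU, -⟩ := (Cfsg.Agent.S1382.result hG M hM K U hKU).mp h34
      open CfsgLib.OddOrder in
      exact TypeP.derived_bot hG hM hKU hK hU
    · open CfsgLib.OddOrder in
      refine TypeP.fittingHall_eq hG hM (by_contra fun hn => h34 ?_)
      open CfsgLib.OddOrder in
      obtain ⟨hU, hK⟩ := CoreStructure.not_nilpotent hG hM hKU hn
      open CfsgLib.OddOrder in
      exact (Cfsg.Agent.S1382.result hG M hM K U hKU).mpr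
        ⟨hK, hU, fun e => hn (e ▸ Basic.fittingHallOf_isNilpotent)⟩
  rw [hcore]
  open CfsgLib.OddOrder in
  obtain ⟨hin, hHall⟩ := SigmaCore.hall hG hM
  refine ⟨fun p hp P hP1 => ?_, ?_, Nat.coprime_of_dvd fun t ht h1 h2 => hHall.2 t ht (hHall.1 t ht h1) h2⟩
  · haveI := Fact.mk hp
    have hPp := P.isPGroup'.map (Cfsg.sigmaCore M).subtype
    have hd : p ∣ Nat.card ↥(P : Subgroup ↥(Cfsg.sigmaCore M)) :=
      P.isPGroup'.card_eq_or_dvd.resolve_left fun h1 => hP1 (Subgroup.eq_bot_of_card_eq _ h1)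
    have hs : p ∈ Cfsg.sigma M := hHall.1 p hp (hd.trans (Subgroup.card_subgroup_dvd_card _))
    have hi : ¬ p ∣ ((P : Subgroup ↥(Cfsg.sigmaCore M)).map (Cfsg.sigmaCore M).subtype).index := by
      rw [Subgroup.index_map_subtype]
      exact fun hd => (hp.dvd_mul.mp hd).elim P.not_dvd_index (hHall.2 p hp hs)
    open CfsgLib.OddOrder in
    exact SigmaTools.normalizer_sylow_le hs (hPp.toSylow hi)
      ((Subgroup.map_subtype_le _).trans (SigmaTools.sigmaCore_le M))
  · refine Nat.coprime_of_dvd fun t ht h1 h2 => ?_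
    open CfsgLib.OddOrder in
    have hle := SigmaCentralizer.fittingHallOf_le_sigmaCore hG hM
    have hs := hHall.1 t ht (h1.trans (Subgroup.card_dvd_of_le hle))
    open CfsgLib.OddOrder in
    rw [← Subgroup.relIndex_mul_index (hle.trans (SigmaTools.sigmaCore_le M))] at h2
    haveI := Fact.mk ht
    open CfsgLib.OddOrder in
    exact (ht.dvd_mul.mp h2).elim (fun h => Nat.not_coprime_of_dvd_of_dvd ht.one_lt h1 h Basic.fittingHallOf_coprime)
      (SigmaBasics.not_dvd_index hs)

end Cfsg.Agent.S1389
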