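import Cfsg.Statements.S1391
import Cfsg.Agent.Lib.OddOrder.TypeOneClass
import Cfsg.Agent.S1375
import Cfsg.Agent.S1376

set_option autoImplicit false
open Cfsg

namespace Cfsg.Agent.S1391

/-- Let G be a minimal simple group of odd order, M a maximal subgroup, X = A(M) or A₀(M), and D the set of x ∈ X with C_G(x) not contained in M. Then two elements of X conjugate in G are conjugate in M; D ⊆ A₁(M) and for x ∈ D the centralizer C_G(x) lies in exactly one maximal subgroup; and for x ∈ D and the maximal subgroup L containing C_G(x): M ∩ L complements L_F in L, C_M(x) complements the normal subgroup C_{L_F}(x) of C_G(x), the order of L_F is coprime to that of C_M(y) for every y ∈ X, x ∈ A(L) but x ∉ A₁(L), L is of Type I or II, and if L is of Type II then M is a Frobenius group with kernel M_F. -/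
theorem result {G : Type*} [Group G] [Finite G] (hG : Cfsg.IsMinSimpleOddOrder G)
    (M : Subgroup G) (hM : IsCoatom M) (X : Set G) (hX : X = Cfsg.typeA M ∨ X = Cfsg.typeA0 M) :
    (∀ x ∈ X, ∀ g : G, g * x * g⁻¹ ∈ X → ∃ m ∈ M, m * x * m⁻¹ = g * x * g⁻¹) ∧
      (∀ x ∈ X, ¬ Subgroup.centralizer ({x} : Set G) ≤ M → x ∈ Cfsg.typeA1 M ∧ ∃! L : Subgroup G, IsCoatom L ∧ Subgroup.centralizer ({x} : Set G) ≤ L) ∧
      ∀ x ∈ X, ¬ Subgroup.centralizer ({x} : Set G) ≤ M → ∀ L : Subgroup G, IsCoatom L → Subgroup.centralizer ({x} : Set G) ≤ L →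
        Cfsg.IsComplIn (Cfsg.fittingHallOf L) (M ⊓ L) L ∧
        Subgroup.centralizer ({x} : Set G) ≤ Subgroup.normalizer ((Cfsg.fittingHallOf L ⊓ Subgroup.centralizer ({x} : Set G) : Subgroup G) : Set G) ∧
        Cfsg.IsComplIn (Cfsg.fittingHallOf L ⊓ Subgroup.centralizer ({x} : Set G)) (M ⊓ Subgroup.centralizer ({x} : Set G)) (Subgroup.centralizer ({x} : Set G)) ∧
        (∀ y ∈ X, (Nat.card (Cfsg.fittingHallOf L)).Coprime (Nat.card ↥(M ⊓ Subgroup.centralizer ({y} : Set G)))) ∧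
        (x ∈ Cfsg.typeA L ∧ x ∉ Cfsg.typeA1 L) ∧
        (Cfsg.IsOfTypeI L ∨ Cfsg.IsOfTypeII L) ∧
        (Cfsg.IsOfTypeII L → ∃ E : Subgroup ↥M, Cfsg.IsFrobeniusComplement E ∧ Cfsg.frobeniusKernel E = ((Cfsg.fittingHall ↥M : Subgroup ↥M) : Set ↥M)) := by
  open CfsgLib.OddOrder in
  obtain ⟨K, U, h⟩ := FittingStructure.exists_decomp hG hM
  have hX0 : ∀ {a : G}, a ∈ X → a ∈ Cfsg.typeA0 M := fun {a} ha => by
    rcases hX with rfl | rfl
    · exact Or.inl ha
    · exact ha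
  open CfsgLib.OddOrder in
  have hxS : ∀ x ∈ X, ¬ Subgroup.centralizer ({x} : Set G) ≤ M → x ∈ Cfsg.sigmaCore M ∧ x ≠ 1 := fun x hx hC =>
    ⟨by_contra fun hS => hC (DadeSets.centralizer_le hG hM h (hX0 hx) hS), (DadeSets.A0_sub hG hM h (hX0 hx)).2.2⟩
  open CfsgLib.OddOrder in
  refine ⟨fun x hx g hgx => DadeSets.fusion hG hM h (hX0 hx) (hX0 hgx), fun x hx hC => ?_, fun x hx hC L hL hxL => ?_⟩
  · obtain ⟨hS, hx1⟩ := hxS x hx hC
    refine ⟨⟨?_, hx1⟩, ?_⟩
    · open CfsgLib.OddOrder in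
      rw [SetLike.mem_coe, DadeSets.typeCore_eq hG hM h]
      exact hS
    · obtain ⟨N, hN, hu, -⟩ := Cfsg.Agent.S1375.result hG M hM x hS hx1 hC
      exact ⟨N, hN, fun L hL => hu L hL.1 hL.2⟩
  · obtain ⟨hS, hx1⟩ := hxS x hx hC
    obtain ⟨N, -, hu, hNF, hnorm, hcompl, hcomplN, -⟩ := Cfsg.Agent.S1375.result hG M hM x hS hx1 hC
    obtain rfl : L = N := hu L hL hxL
    open CfsgLib.OddOrder in
    obtain ⟨N', hov⟩ := SigmaCentralizer.exists_over hG hM hS hx1 hC
    obtain rfl : L = N' := hov.unique L hL hxL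
    open CfsgLib.OddOrder in
    obtain ⟨hII, hA, hA1⟩ := TypeOneFacts.over_typeA hG hM hS hx1 hC hov
    rw [← hNF]
    open CfsgLib.OddOrder in
    refine ⟨TypeOneFacts.compl_symm hcomplN, hnorm, TypeOneFacts.compl_symm hcompl,
      fun y hy => DadeSets.support_coprime hG hM h hS hx1 hov hC (hX0 hy), ⟨hA, hA1⟩, Or.inr hII, fun _ => ?_⟩
    open CfsgLib.OddOrder in
    exact TypeOneFacts.exists_frobenius hG hM
      (Cfsg.Agent.S1376.result hG M hM x hS hx1 hC L hL hxL (TypeOneFacts.over_kappa hG hov hx1)).1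

end Cfsg.Agent.S1391
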