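import Cfsg.Statements.S1497
import Mathlib
-- import your own Cfsg.Agent.* helpers here

set_option autoImplicit false
open Cfsg

namespace Cfsg.Agent.S1497

theorem ti_iff {G : Type*} [Group G] [Finite G] (A : Set G) (hA : A.Nonempty) (h1 : (1 : G) ∉ A)
    (L : Subgroup G) :
    (Cfsg.IsTISubset A ∧ Subgroup.normalizer A = L) ↔ Cfsg.DadeHypothesis A L (fun _ => ⊥) := by
  classical
  have mem_norm : ∀ {g : G}, g ∈ Subgroup.normalizer A ↔ ∀ x, x ∈ A ↔ g * x * g⁻¹ ∈ A :=
    fun {g} => Iff.rfl
  constructor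
  · rintro ⟨hTI, hN⟩
    have key : ∀ a ∈ A, ∀ g : G, g * a * g⁻¹ ∈ A → g ∈ L := fun a ha g hg => by
      by_contra hgL
      exact h1 ((hTI g (hN ▸ hgL) a ha hg) ▸ ha)
    have hcl : ∀ a ∈ A, Subgroup.centralizer ({a} : Set G) ≤ L := fun a ha c hc =>
      key a ha c (by
        rw [Subgroup.mem_centralizer_singleton_iff] at hc
        rwa [hc, mul_inv_cancel_right])
    refine ⟨h1, fun a ha => hcl a ha (Subgroup.mem_centralizer_singleton_iff.mpr rfl),
      fun x hx a ha => (mem_norm.mp (hN ▸ hx) a).mp ha, fun a ha g hg => ⟨g, key a ha g hg, rfl⟩,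
      fun a _ => bot_le, fun a _ c _ u hu => by
        rw [Subgroup.mem_bot] at hu ⊢; simp [hu],
      fun a _ => bot_inf_eq _, fun a ha => ?_, fun a _ b _ => by simp⟩
    rw [bot_sup_eq]
    exact inf_eq_right.mpr (hcl a ha)
  · intro hD
    have key : ∀ a ∈ A, ∀ g : G, g * a * g⁻¹ ∈ A → g ∈ L := by
      intro a ha g hg
      obtain ⟨x, hx, hxe⟩ := hD.fusion a ha g hg
      have hc : x⁻¹ * g ∈ Subgroup.centralizer ({a} : Set G) := by
        rw [Subgroup.mem_centralizer_singleton_iff]
        calc x⁻¹ * g * a = x⁻¹ * (g * a * g⁻¹) * g := by group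
          _ = a * (x⁻¹ * g) := by rw [← hxe]; group
      rw [← hD.sup_eq a ha, bot_sup_eq, Subgroup.mem_inf] at hc
      simpa using L.mul_mem hx hc.1
    have hN : Subgroup.normalizer A = L := by
      refine le_antisymm (fun g hg => ?_) (fun x hx => mem_norm.mpr fun a => ?_)
      · obtain ⟨a, ha⟩ := hA
        exact key a ha g ((mem_norm.mp hg a).mp ha)
      · refine ⟨hD.conj_mem x hx a, fun h => ?_⟩
        have := hD.conj_mem x⁻¹ (L.inv_mem hx) _ h
        simpa [mul_assoc] using this
    exact ⟨fun g hg a ha hga => absurd (hN.symm ▸ key a ha g hga) hg, hN⟩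

/-- Let A be a nonempty subset of the finite group G not containing 1 and L a subgroup. Then A is a TI-subset whose normaliser is L if and only if the Dade hypothesis holds for A, L and the constant choice H(a) = ⊥. -/
theorem result {G : Type*} [Group G] [Finite G] (A : Set G) (hA : A.Nonempty) (h1 : (1 : G) ∉ A) (L : Subgroup G) : (Cfsg.IsTISubset A ∧ Subgroup.normalizer A = L) ↔ Cfsg.DadeHypothesis A L (fun _ => ⊥) := by
  exact ti_iff A hA h1 L


end Cfsg.Agent.S1497
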