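import Cfsg.Statements.S1379
import Cfsg.Agent.Lib.OddOrder.StarFacts
import Cfsg.Agent.Lib.OddOrder.SigmaDecomp

set_option autoImplicit false
open Cfsg

namespace Cfsg.Agent.S1379

/-- Let G be a minimal simple group of odd order; for a maximal subgroup M write M̃ for the union of the G-conjugates of the cosets x R(x), x ≠ 1 in M_σ. Then M̃ ∩ Ñ = ∅ for non-conjugate maximal M, N; if every maximal subgroup has κ empty, every g ≠ 1 lies in some M̃; and if M = K U M_σ has K ≠ 1 with Ẑ = K K* − (K ∪ K*), then every g ≠ 1 lies in some Ñ or in a conjugate of Ẑ, and no conjugate of an element of Ẑ lies in any Ñ. -/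
theorem result {G : Type*} [Group G] [Finite G] (hG : Cfsg.IsMinSimpleOddOrder G) :
    (∀ M N : Subgroup G, IsCoatom M → IsCoatom N → (∀ g : G, N ≠ M.map (MulAut.conj g).toMonoidHom) → Cfsg.tildeOf M ((Cfsg.sigmaCore M : Set G) \ {1}) ∩ Cfsg.tildeOf N ((Cfsg.sigmaCore N : Set G) \ {1}) = ∅) ∧
      ((∀ M : Subgroup G, IsCoatom M → Cfsg.kappa M = ∅) →
        ∀ g : G, g ≠ 1 → ∃ M : Subgroup G, IsCoatom M ∧ g ∈ Cfsg.tildeOf M ((Cfsg.sigmaCore M : Set G) \ {1})) ∧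
      ∀ (M K U : Subgroup G), IsCoatom M → Cfsg.IsSigmaDecomposition M K U → K ≠ ⊥ →
        (∀ g : G, g ≠ 1 → (∃ N : Subgroup G, IsCoatom N ∧ g ∈ Cfsg.tildeOf N ((Cfsg.sigmaCore N : Set G) \ {1})) ∨
            ∃ y : G, ∃ z ∈ ((↑(K ⊔ (Cfsg.sigmaCore M ⊓ Subgroup.centralizer (K : Set G))) : Set G) \ ((K : Set G) ∪ ↑(Cfsg.sigmaCore M ⊓ Subgroup.centralizer (K : Set G)))), g = y * z * y⁻¹) ∧
        ∀ N : Subgroup G, IsCoatom N → ∀ y : G, ∀ z ∈ ((↑(K ⊔ (Cfsg.sigmaCore M ⊓ Subgroup.centralizer (K : Set G))) : Set G) \ ((K : Set G) ∪ ↑(Cfsg.sigmaCore M ⊓ Subgroup.centralizer (K : Set G)))), y * z * y⁻¹ ∉ Cfsg.tildeOf N ((Cfsg.sigmaCore N : Set G) \ {1}) := by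
  open CfsgLib.OddOrder in
  have hcov : ∀ g : G, g ≠ 1 → (∃ M : Subgroup G, IsCoatom M ∧ g ∈ Cfsg.tildeOf M ((Cfsg.sigmaCore M : Set G) \ {1})) ∨
      SigmaCover.KappaType g := fun g hg => SigmaCover.cover hG hg
  refine ⟨fun M N hM hN hnc => SupportCount.tilde_disjoint hG hM hN hnc, fun hall g hg => ?_,
    fun M K U hM hKU hK1 => ?_⟩
  · refine (hcov g hg).resolve_right ?_
    rintro ⟨H, x, x', hH, -, -, -, hx'1, hκ, -⟩
    obtain ⟨t, ht, htd⟩ := Nat.exists_prime_and_dvd (mt orderOf_eq_one_iff.mp hx'1)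
    exact Set.eq_empty_iff_forall_notMem.mp (hall H hH) t (hκ t ht htd)
  obtain ⟨L, h, -⟩ := StarPair.exists_pair hG (M := M) (K := K) ⟨hM, hK1, hKU.hall⟩
  refine ⟨fun g hg => (hcov g hg).imp_right ?_, fun N hN y z hz hmem => ?_⟩
  · rintro ⟨H, x, x', hH, hx, hx1, hx', hx'1, hκ, rfl⟩
    have hc : Commute x x' := (Subgroup.mem_centralizer_singleton_iff.mp hx'.2).symm
    obtain ⟨t, ht, htd⟩ := Nat.exists_prime_and_dvd (mt orderOf_eq_one_iff.mp hx'1)
    have hco : ∀ a b : G, orderOf (a * b * a⁻¹) = orderOf b := fun a b => MulEquiv.orderOf_eq (MulAut.conj a) b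
    have key : ∀ (A KA LA : Subgroup G), StarPair.Pair A KA LA → ∀ c : G, H = SigmaFusion.cj c A →
        ∃ y : G, ∃ z ∈ StarFamily.Zhat A KA, x * x' = y * z * y⁻¹ := by
      rintro A KA LA hA c rfl
      have hx₀ : c⁻¹ * x * c ∈ Cfsg.sigmaCore A := by
        rw [SupportCount.sigmaCore_cj hG hA.left.coatom c] at hx
        exact SigmaTools.mem_cj.mp hx
      have hκ₀ : ∀ s : ℕ, s.Prime → s ∣ orderOf (c⁻¹ * x' * c) → s ∈ Cfsg.kappa A := fun s hs hd => by
        have hd' : s ∣ orderOf x' := by rwa [show c⁻¹ * x' * c = c⁻¹ * x' * c⁻¹⁻¹ by rw [inv_inv], hco] at hd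
        haveI := Fact.mk hs
        have hsk := hκ s hs hd'
        have hns : s ∉ Cfsg.sigma A := fun e => hsk.2.2.1 ((SupportCosets.sigma_cj_iff hs A c).mpr e)
        have hz : orderOf ((c⁻¹ * x' * c) ^ (orderOf (c⁻¹ * x' * c) / s)) = s :=
          orderOf_pow_orderOf_div (orderOf_pos _).ne' hd
        refine KappaHall.mem_kappa hG hns
          (NarrowSylow.pRankLE_congr (Subgroup.equivMapOfInjective A _ (MulAut.conj c).injective).symm
            (KappaHall.kappa_rank_one hsk))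
          (pow_mem (SigmaTools.mem_cj.mp hx'.1) _) hz fun e => ?_
        refine hx1 ?_
        have h1 : c⁻¹ * x * c = 1 := Subgroup.mem_bot.mp (e.le ⟨hx₀, Subgroup.mem_centralizer_singleton_iff.mpr
          ((show Commute (c⁻¹ * x * c) (c⁻¹ * x' * c) by
            have := hc.map (MulAut.conj c⁻¹).toMonoidHom
            simpa using this).pow_right _).eq⟩)
        rw [show x = c * (c⁻¹ * x * c) * c⁻¹ by group, h1]
        group
      have hne : ∀ a : G, a ≠ 1 → c⁻¹ * a * c ≠ 1 := fun a ha e => ha (by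
        rw [show a = c * (c⁻¹ * a * c) * c⁻¹ by group, e]; group)
      obtain ⟨m, hm, hmz⟩ := StarFacts.to_Zhat hG hA hx₀ (hne x hx1) (SigmaTools.mem_cj.mp hx'.1)
        (by have := hc.map (MulAut.conj c⁻¹).toMonoidHom; simpa using this) (hne x' hx'1) hκ₀
      exact ⟨c * m⁻¹, _, hmz, by group⟩
    obtain ⟨c, hcM | hcL⟩ := StarFacts.conjugate hG h hH ⟨t, hκ t ht htd⟩
    · obtain ⟨y, z, hz, e⟩ := key M K L h c hcM
      rw [StarFacts.Zhat_eq hG h] at hz
      exact ⟨y, z, hz, e⟩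
    · obtain ⟨y, z, hz, e⟩ := key L _ M h.symm c hcL
      rw [StarFacts.Zhat_eq hG h.symm, h.Z_eq, h.eq, Set.union_comm] at hz
      exact ⟨y, z, hz, e⟩
  · rw [← StarFacts.Zhat_eq hG h] at hz
    refine SigmaCover.exclusive hG (StarFamily.kappaType hG h.left hz) ⟨N, hN, ?_⟩
    obtain ⟨a, ha, r, hr, w, e⟩ := hmem
    exact ⟨a, ha, r, hr, y⁻¹ * w, by
      calc z = y⁻¹ * (y * z * y⁻¹) * y := by group
        _ = y⁻¹ * (w * (a * r) * w⁻¹) * y := by rw [e]
        _ = _ := by group⟩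

end Cfsg.Agent.S1379
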