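import Cfsg.Statements.S1514
import Cfsg.Agent.Lib.Char.Virtual
-- import your own Cfsg.Agent.* helpers here

set_option autoImplicit false
open Cfsg

namespace Cfsg.Agent.S1514

/-- Let S be a nonempty set of irreducible characters of the finite group L, closed under complex conjugation and containing no real-valued member, and τ a linear isometry on the integer combinations of S vanishing at 1, with values virtual characters of G vanishing at 1. Then there is a choice R making (S, τ, R) a coherence system. -/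
theorem result {L : Type*} [Group L] [Fintype L] {G : Type*} [Group G] [Fintype G] (S : Set (L → ℂ)) (hS : S.Nonempty) (hirr : ∀ χ ∈ S, Cfsg.IsIrrCharacter L χ) (hconj : ∀ χ ∈ S, Cfsg.conjFun χ ∈ S ∧ Cfsg.conjFun χ ≠ χ) (τ : (L → ℂ) → (G → ℂ)) (hτ : Cfsg.IsLinearIsometryOn (Cfsg.zspanOn S {1}ᶜ) τ) (hτ1 : ∀ α ∈ Cfsg.zspanOn S {1}ᶜ, τ α 1 = 0) : ∃ R : (L → ℂ) → Finset (G → ℂ), Cfsg.IsCoherenceSystem S τ R := by

  classical
  have hchar : ∀ χ ∈ S, Cfsg.IsCharacter L χ := fun χ h =>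
    CfsgLib.Char.IsIrrCharacter.isCharacter (hirr χ h)
  have hmem : ∀ χ ∈ S, χ - Cfsg.conjFun χ ∈ Cfsg.zspanOn S {1}ᶜ := by
    intro χ hχ
    refine ⟨(Submodule.span ℤ S).sub_mem (Submodule.subset_span hχ)
      (Submodule.subset_span (hconj χ hχ).1), fun x hx => ?_⟩
    obtain rfl : x = 1 := by simpa using hx
    obtain ⟨d, -, hd⟩ := CfsgLib.Char.IsIrrCharacter.apply_one_eq (hirr χ hχ)
    simp [Cfsg.conjFun, hd]
  have hex : ∀ χ : L → ℂ, ∃ p : (G → ℂ) × (G → ℂ), χ ∈ S → Cfsg.IsIrrCharacter G p.1 ∧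
      Cfsg.IsIrrCharacter G p.2 ∧ p.1 ≠ p.2 ∧ τ (χ - Cfsg.conjFun χ) = p.1 - p.2 := by
    intro χ
    by_cases hχ : χ ∈ S
    · obtain ⟨a, b, h⟩ := CfsgLib.Char.IsGeneralizedCharacter.exists_sub_of_norm_two
        (hτ.2.2.2 _ (hmem χ hχ)) (hτ1 _ (hmem χ hχ)) (by
          rw [hτ.2.2.1 _ (hmem χ hχ) _ (hmem χ hχ), CfsgLib.Char.classInner_irr_sub (hirr χ hχ)
            (hirr _ (hconj χ hχ).1) (hirr χ hχ) (hirr _ (hconj χ hχ).1), if_pos rfl,
            if_neg (hconj χ hχ).2.symm, if_neg (hconj χ hχ).2, if_pos rfl]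
          norm_num)
      exact ⟨(a, b), fun _ => h⟩
    · exact ⟨(0, 0), fun h => absurd h hχ⟩
  choose p hp using hex
  have hne : ∀ χ ∈ S, (p χ).1 ≠ -(p χ).2 := by
    intro χ hχ h
    obtain ⟨d, hd, hd'⟩ := CfsgLib.Char.IsIrrCharacter.apply_one_eq (hp χ hχ).1
    obtain ⟨e, -, he'⟩ := CfsgLib.Char.IsIrrCharacter.apply_one_eq (hp χ hχ).2.1
    have h1 := congrArg Complex.re (congrFun h 1)
    rw [Pi.neg_apply, hd', he', Complex.neg_re, Complex.natCast_re, Complex.natCast_re] at h1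
    have : (0 : ℝ) < d := by exact_mod_cast hd
    have : (0 : ℝ) ≤ e := Nat.cast_nonneg e
    linarith
  refine ⟨fun χ => {(p χ).1, -(p χ).2}, ⟨hS, hchar, fun χ h => (hconj χ h).1,
    fun χ h => (hconj χ h).2, hτ, hτ1,
    fun χ hχ φ hφ h => CfsgLib.Char.classInner_irr_ne (hirr χ hχ) (hirr φ hφ) h,
    fun χ hχ => ?_, fun χ hχ => ?_, fun χ hχ => ?_, fun χ hχ φ hφ h1 h2 => ?_⟩⟩
  · obtain ⟨ha, hb, hab, -⟩ := hp χ hχ
    have h0 := CfsgLib.Char.classInner_irr_ne ha hb hab
    have h0' := CfsgLib.Char.classInner_irr_ne hb ha hab.symm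
    intro α hα β hβ
    simp only [Finset.mem_insert, Finset.mem_singleton] at hα hβ
    rcases hα with rfl | rfl <;> rcases hβ with rfl | rfl
    · rw [if_pos rfl, CfsgLib.Char.classInner_irr_self ha]
    · rw [if_neg (hne χ hχ), CfsgLib.Char.classInner_neg_right, h0, neg_zero]
    · rw [if_neg (hne χ hχ).symm, CfsgLib.Char.classInner_neg_left, h0', neg_zero]
    · rw [if_pos rfl, CfsgLib.Char.classInner_neg_left, CfsgLib.Char.classInner_neg_right, neg_neg,
        CfsgLib.Char.classInner_irr_self hb]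
  · obtain ⟨ha, hb, -, -⟩ := hp χ hχ
    intro α hα
    simp only [Finset.mem_insert, Finset.mem_singleton] at hα
    rcases hα with rfl | rfl
    · exact CfsgLib.Char.IsCharacter.isGeneralizedCharacter
        (CfsgLib.Char.IsIrrCharacter.isCharacter ha)
    · exact ⟨0, _, CfsgLib.Char.isCharacter_zero, CfsgLib.Char.IsIrrCharacter.isCharacter hb,
        by simp⟩
  · rw [Finset.sum_pair (hne χ hχ), (hp χ hχ).2.2.2, sub_eq_add_neg]
  · obtain ⟨ha, hb, hab, e⟩ := hp φ hφ
    obtain ⟨hc, hd, hcd, e'⟩ := hp χ hχ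
    have g1 : φ ≠ χ := fun h => by
      rw [h, CfsgLib.Char.classInner_irr_self (hirr χ hχ)] at h1; exact one_ne_zero h1
    have g2 : φ ≠ Cfsg.conjFun χ := fun h => by
      rw [h, CfsgLib.Char.classInner_irr_self (hirr _ (hconj χ hχ).1)] at h2; exact one_ne_zero h2
    have g3 : Cfsg.conjFun φ ≠ χ := fun h => g2 (by rw [← h]; funext x; simp [Cfsg.conjFun])
    have g4 : Cfsg.conjFun φ ≠ Cfsg.conjFun χ := fun h => g1 (by
      funext x
      simpa [Cfsg.conjFun] using congrArg (starRingEnd ℂ) (congrFun h x))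
    have h := hτ.2.2.1 _ (hmem φ hφ) _ (hmem χ hχ)
    rw [e, e', CfsgLib.Char.classInner_irr_sub ha hb hc hd,
      CfsgLib.Char.classInner_irr_sub (hirr φ hφ) (hirr _ (hconj φ hφ).1) (hirr χ hχ)
        (hirr _ (hconj χ hχ).1), if_neg g1, if_neg g2, if_neg g3, if_neg g4] at h
    have hz : (p φ).1 ≠ (p χ).1 ∧ (p φ).1 ≠ (p χ).2 ∧ (p φ).2 ≠ (p χ).1 ∧ (p φ).2 ≠ (p χ).2 := by
      have h' : ((if (p φ).1 = (p χ).1 then (1 : ℤ) else 0) - (if (p φ).1 = (p χ).2 then 1 else 0) -
          (if (p φ).2 = (p χ).1 then 1 else 0) + (if (p φ).2 = (p χ).2 then 1 else 0)) = 0 := by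
        exact_mod_cast h
      refine ⟨fun x => ?_, fun x => ?_, fun x => ?_, fun x => ?_⟩
      · rw [if_pos x, if_neg fun e => hcd (x.symm.trans e),
          if_neg fun e => hab (x.trans e.symm)] at h'
        split_ifs at h' <;> omega
      · rw [if_pos x, if_neg fun e => hcd (e.symm.trans x),
          if_neg fun e : (p φ).2 = (p χ).2 => hab (x.trans e.symm)] at h'
        split_ifs at h' <;> omega
      · rw [if_pos x, if_neg fun e : (p φ).1 = (p χ).1 => hab (e.trans x.symm),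
          if_neg fun e : (p φ).2 = (p χ).2 => hcd (x.symm.trans e)] at h'
        split_ifs at h' <;> omega
      · rw [if_pos x, if_neg fun e : (p φ).1 = (p χ).2 => hab (e.trans x.symm),
          if_neg fun e : (p φ).2 = (p χ).1 => hcd (e.symm.trans x)] at h'
        split_ifs at h' <;> omega
    intro α hα β hβ
    simp only [Finset.mem_insert, Finset.mem_singleton] at hα hβ
    rcases hα with rfl | rfl <;> rcases hβ with rfl | rfl <;>
      simp [CfsgLib.Char.classInner_neg_left, CfsgLib.Char.classInner_neg_right,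
        CfsgLib.Char.classInner_irr_ne ha hc hz.1, CfsgLib.Char.classInner_irr_ne ha hd hz.2.1,
        CfsgLib.Char.classInner_irr_ne hb hc hz.2.2.1, CfsgLib.Char.classInner_irr_ne hb hd hz.2.2.2]


end Cfsg.Agent.S1514
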