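import Cfsg.Statements.S1471
import Mathlib

set_option autoImplicit false
open Cfsg

namespace Cfsg.Agent.S1471

open Polynomial in
/-- The cubic case: two conjugate roots of a suitable irreducible cubic. -/
lemma cubic (p : ℕ) [Fact p.Prime] (hp : p ≠ 2) :
    2 ≤ Set.ncard {a : GaloisField p 3 | Algebra.norm (ZMod p) a = 1 ∧
      Algebra.norm (ZMod p) (2 - a) = 1} := by
  have h2 : (2 : ZMod p) ≠ 0 := by
    intro h
    have h' : ((2 : ℕ) : ZMod p) = 0 := by exact_mod_cast h
    rw [ZMod.natCast_eq_zero_iff] at h'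
    exact hp ((Nat.prime_dvd_prime_iff_eq Fact.out Nat.prime_two).1 h')
  obtain ⟨t, ht⟩ : ∃ t : ZMod p, ∀ r : ZMod p, r * (r - 2) * (r - t) + (r - 1) ≠ 0 := by
    by_contra hcon
    push Not at hcon
    choose r hr using hcon
    have hne : ∀ t, r t ≠ 0 ∧ r t ≠ 2 := by
      intro t
      constructor <;> intro h <;> have := hr t <;> rw [h] at this
      · simp at this
      · norm_num at this
    have hinj : Function.Injective r := by
      intro s t h
      have h1 := hr s
      have h2' := hr t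
      rw [h] at h1
      have h3 : r t * (r t - 2) * (s - t) = 0 := by linear_combination h2' - h1
      rcases mul_eq_zero.1 h3 with h4 | h4
      · rcases mul_eq_zero.1 h4 with h5 | h5
        · exact absurd h5 (hne t).1
        · exact absurd (sub_eq_zero.1 h5) (hne t).2
      · exact sub_eq_zero.1 h4
    obtain ⟨s, hs⟩ := Finite.injective_iff_surjective.1 hinj 0
    exact (hne s).1 hs
  let f : (ZMod p)[X] := X * (X - C 2) * (X - C t) + (X - C 1)
  have hdeg : (X * (X - C 2) * (X - C t) : (ZMod p)[X]).degree = 3 := by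
    rw [degree_mul, degree_mul, degree_X, degree_X_sub_C, degree_X_sub_C]; rfl
  have hlt : (X - C 1 : (ZMod p)[X]).degree < (X * (X - C 2) * (X - C t)).degree := by
    rw [hdeg, degree_X_sub_C]; decide
  have hmon : f.Monic := ((monic_X.mul (monic_X_sub_C 2)).mul (monic_X_sub_C t)).add_of_left hlt
  have hfd : f.natDegree = 3 := natDegree_eq_of_degree_eq_some
    (by rw [degree_add_eq_left_of_degree_lt hlt, hdeg]; rfl)
  have heval : ∀ r, f.eval r = r * (r - 2) * (r - t) + (r - 1) := fun r => by simp [f]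
  have hirr : Irreducible f := by
    rw [irreducible_iff_roots_eq_zero_of_degree_le_three (by omega) (by omega)]
    rw [Multiset.eq_zero_iff_forall_notMem]
    intro r hr
    rw [mem_roots hmon.ne_zero, IsRoot, heval] at hr
    exact ht r hr
  haveI := Fact.mk hirr
  let pb := AdjoinRoot.powerBasis hmon.ne_zero
  haveI : Module.Finite (ZMod p) (AdjoinRoot f) := pb.finite
  haveI : Finite (AdjoinRoot f) := Module.finite_of_finite (ZMod p)
  have hcard : Nat.card (AdjoinRoot f) = Nat.card (GaloisField p 3) := by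
    rw [GaloisField.card p 3 (by norm_num), Module.natCard_eq_pow_finrank (K := ZMod p),
      Nat.card_zmod, pb.finrank, AdjoinRoot.powerBasis_dim, hfd]
  haveI := Fintype.ofFinite (AdjoinRoot f)
  haveI := Fintype.ofFinite (GaloisField p 3)
  let e := FiniteField.algEquivOfCardEq (K := AdjoinRoot f) (K' := GaloisField p 3) p
    (by rw [← Nat.card_eq_fintype_card, ← Nat.card_eq_fintype_card, hcard])
  have hnorm : ∀ c : ZMod p, Algebra.norm (ZMod p)
      (algebraMap (ZMod p) (AdjoinRoot f) c - AdjoinRoot.root f) = f.eval c := by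
    intro c
    have hmin : minpoly (ZMod p) (AdjoinRoot.root f) = f := by
      rw [AdjoinRoot.minpoly_root hmon.ne_zero, hmon.leadingCoeff]; simp
    rw [Algebra.norm_eq_matrix_det pb.basis, map_sub]
    conv_rhs => rw [← hmin, ← AdjoinRoot.powerBasis_gen hmon.ne_zero,
      ← charpoly_leftMulMatrix, Matrix.eval_charpoly]
    congr 2
    rw [AlgHom.commutes, Matrix.algebraMap_eq_diagonal]
    rfl
  set a := e (AdjoinRoot.root f) with ha
  have hna : Algebra.norm (ZMod p) a = 1 := by
    rw [ha, Algebra.norm_eq_of_algEquiv e]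
    have h := hnorm 0
    rw [map_zero, zero_sub, neg_eq_neg_one_mul, map_mul, heval,
      show (-1 : AdjoinRoot f) = algebraMap (ZMod p) _ (-1) by simp, Algebra.norm_algebraMap,
      pb.finrank, AdjoinRoot.powerBasis_dim, hfd] at h
    linear_combination -h
  have hna2 : Algebra.norm (ZMod p) (2 - a) = 1 := by
    have h' : (2 : GaloisField p 3) - a = e (algebraMap (ZMod p) _ 2 - AdjoinRoot.root f) := by
      rw [map_sub, AlgEquiv.commutes, map_ofNat, ← ha]
    rw [h', Algebra.norm_eq_of_algEquiv e, hnorm, heval]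
    ring
  have hne : a ^ p ≠ a := by
    intro h
    have h' : (AdjoinRoot.root f) ^ p = AdjoinRoot.root f := e.injective (by rw [map_pow]; exact h)
    haveI : CharP (AdjoinRoot f) p :=
      charP_of_injective_algebraMap (algebraMap (ZMod p) (AdjoinRoot f)).injective p
    have hmem : AdjoinRoot.root f ∈ (⊥ : Subfield (AdjoinRoot f)) := by
      exact (Subfield.mem_bot_iff_pow_eq_self (AdjoinRoot f) p).2 h'
    obtain ⟨n, hn⟩ : ∃ n : ZMod p, algebraMap (ZMod p) (AdjoinRoot f) n = AdjoinRoot.root f := by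
      rw [Subfield.bot_eq_of_zMod_algebra p, RingHom.mem_fieldRange] at hmem
      exact hmem
    refine ht n ?_
    rw [← heval]
    apply (algebraMap (ZMod p) (AdjoinRoot f)).injective
    rw [map_zero, ← Polynomial.eval₂_at_apply, hn, ← Polynomial.aeval_def, AdjoinRoot.aeval_eq,
      AdjoinRoot.mk_self]
  have h2p : (2 : GaloisField p 3) - a ^ p = (2 - a) ^ p := by
    have h22 : (2 : GaloisField p 3) ^ p = 2 := by
      rw [← map_ofNat (algebraMap (ZMod p) (GaloisField p 3)) 2, ← map_pow, ZMod.pow_card]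
    rw [sub_pow_char, h22]
  rw [← Nat.card_coe_set_eq]
  refine Nat.succ_le_of_lt (Finite.one_lt_card_iff_nontrivial.2 ⟨⟨a, hna, hna2⟩, ⟨a ^ p, ?_, ?_⟩,
    fun h => hne (congrArg Subtype.val h).symm⟩)
  · rw [map_pow, hna, one_pow]
  · rw [h2p, map_pow, hna2, one_pow]

/-- The general case, by Jacobi sums. -/
lemma big (p q : ℕ) [Fact p.Prime] (hp : p ≠ 2) (hq : 5 ≤ q) :
    2 ≤ Set.ncard {a : GaloisField p q | Algebra.norm (ZMod p) a = 1 ∧
      Algebra.norm (ZMod p) (2 - a) = 1} := by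
  classical
  set F := GaloisField p q
  haveI := Fintype.ofFinite F
  have hQ : Fintype.card F = p ^ q := by
    rw [← Nat.card_eq_fintype_card, GaloisField.card p q (by omega)]
  let N : F →* ZMod p := Algebra.norm (ZMod p)
  let L : MulChar (ZMod p) ℂ → MulChar F ℂ := fun χ =>
    MulChar.ofUnitHom ((χ.toUnitHom).comp (Units.map N))
  have hL : ∀ χ (a : F), L χ a = χ (N a) := by
    intro χ a
    rcases eq_or_ne a 0 with rfl | ha
    · have : N 0 = 0 := Algebra.norm_zero
      rw [MulChar.map_zero, this, MulChar.map_zero]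
    · obtain ⟨u, rfl⟩ := isUnit_iff_ne_zero.2 ha
      simp only [L, MulChar.ofUnitHom_coe, MonoidHom.comp_apply, MulChar.coe_toUnitHom,
        Units.coe_map]
  have hL1 : ∀ χ, L χ = 1 → χ = 1 := by
    intro χ h
    refine MulChar.ext fun u => ?_
    obtain ⟨a, ha⟩ := FiniteField.norm_surjective (ZMod p) F (u : ZMod p)
    have ha0 : a ≠ 0 := by
      rintro rfl; rw [Algebra.norm_zero] at ha; exact u.ne_zero ha.symm
    have := hL χ a
    rw [h, MulChar.one_apply (isUnit_iff_ne_zero.2 ha0)] at this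
    rw [MulChar.one_apply_coe, this]
    exact congrArg χ ha.symm
  set T : Finset F := Finset.univ.filter fun a => N a = 1 ∧ N (2 - a) = 1 with hT
  have hgoal : Set.ncard {a : F | Algebra.norm (ZMod p) a = 1 ∧
      Algebra.norm (ZMod p) (2 - a) = 1} = T.card := by
    rw [← Set.ncard_coe_finset, hT]; congr; ext a; simp [N]
  rw [hgoal]
  have h2 : (2 : F) ≠ 0 := by
    intro h
    have h' : ((2 : ℕ) : F) = 0 := by exact_mod_cast h
    rw [CharP.cast_eq_zero_iff F p] at h'
    exact hp ((Nat.prime_dvd_prime_iff_eq Fact.out Nat.prime_two).1 h')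
  have hsum : ∀ a : ZMod p, ∑ χ : MulChar (ZMod p) ℂ, χ a =
      if a = 1 then ((p - 1 : ℕ) : ℂ) else 0 := by
    intro a
    have := DirichletCharacter.sum_characters_eq ℂ (n := p) a
    rw [Nat.totient_prime Fact.out] at this
    exact_mod_cast this
  have hmain : ((T.card * (p - 1) ^ 2 : ℕ) : ℂ) = ∑ x : MulChar (ZMod p) ℂ × MulChar (ZMod p) ℂ,
      L x.1 2 * L x.2 2 * jacobiSum (L x.1) (L x.2) := by
    have hx : ∀ x : MulChar (ZMod p) ℂ × MulChar (ZMod p) ℂ,
        L x.1 2 * L x.2 2 * jacobiSum (L x.1) (L x.2) = ∑ a : F, x.1 (N a) * x.2 (N (2 - a)) := by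
      intro x
      rw [jacobiSum, Finset.mul_sum, ← Equiv.sum_comp (Equiv.mulLeft₀ (2 : F) h2)
        (fun a => x.1 (N a) * x.2 (N (2 - a)))]
      refine Finset.sum_congr rfl fun a _ => ?_
      show _ = x.1 (N (2 * a)) * x.2 (N (2 - 2 * a))
      rw [← hL, ← hL, show (2 : F) - 2 * a = 2 * (1 - a) by ring, map_mul, map_mul]
      ring
    rw [Finset.sum_congr rfl (fun x _ => hx x), Finset.sum_comm]
    have hin : ∀ a : F, ∑ x : MulChar (ZMod p) ℂ × MulChar (ZMod p) ℂ,
        x.1 (N a) * x.2 (N (2 - a)) =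
          if N a = 1 ∧ N (2 - a) = 1 then (((p - 1) ^ 2 : ℕ) : ℂ) else 0 := by
      intro a
      rw [Fintype.sum_prod_type]; dsimp only; rw [← Finset.sum_mul_sum, hsum, hsum]
      by_cases h : N a = 1 <;> by_cases h' : N (2 - a) = 1 <;> simp [h, h', pow_two]
    rw [Finset.sum_congr rfl (fun a _ => hin a), ← Finset.sum_filter, Finset.sum_const,
      nsmul_eq_mul, Nat.cast_mul]
  have hbd : ∀ χ ψ : MulChar F ℂ, ¬ (χ = 1 ∧ ψ = 1) →
      ‖jacobiSum χ ψ‖ ≤ Real.sqrt (p ^ q : ℕ) := by
    intro χ ψ h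
    have hone : (1 : ℝ) ≤ Real.sqrt (p ^ q : ℕ) := by
      refine Real.one_le_sqrt.2 ?_
      exact_mod_cast Nat.one_le_pow _ _ (Fact.out : p.Prime).pos
    rcases eq_or_ne χ 1 with rfl | hχ
    · rw [jacobiSum_one_nontrivial (fun e => h ⟨rfl, e⟩)]; simpa using hone
    rcases eq_or_ne ψ 1 with rfl | hψ
    · rw [jacobiSum_comm, jacobiSum_one_nontrivial hχ]; simpa using hone
    rcases eq_or_ne (χ * ψ) 1 with he | he
    · rw [eq_inv_of_mul_eq_one_right he, jacobiSum_nontrivial_inv hχ, norm_neg]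
      refine le_trans (le_of_eq ?_) hone
      refine Complex.norm_eq_one_of_pow_eq_one (n := 2) ?_ (by norm_num)
      rw [← map_pow, neg_one_sq, map_one]
    · have hp' : ringChar ℂ ≠ ringChar F := by
        rw [ringChar.eq ℂ 0, ringChar.eq F p]; exact (Fact.out : p.Prime).ne_zero.symm
      have hmul := jacobiSum_mul_jacobiSum_inv hp' hχ hψ he
      have hst : jacobiSum χ⁻¹ ψ⁻¹ = starRingEnd ℂ (jacobiSum χ ψ) := by
        rw [jacobiSum, jacobiSum, map_sum]
        refine Finset.sum_congr rfl fun x _ => ?_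
        rw [map_mul, ← MulChar.star_apply' χ, ← MulChar.star_apply' ψ]; rfl
      rw [hst, Complex.mul_conj, hQ] at hmul
      have hsq : Complex.normSq (jacobiSum χ ψ) = ((p ^ q : ℕ) : ℝ) := by exact_mod_cast hmul
      rw [Complex.norm_def, hsq]
  have hval : ∀ χ : MulChar (ZMod p) ℂ, ‖L χ 2‖ = 1 := fun χ => by
    obtain ⟨u, hu⟩ := isUnit_iff_ne_zero.2 h2
    refine Complex.norm_eq_one_of_pow_eq_one (n := orderOf u) ?_ (orderOf_pos u).ne'
    rw [← hu, ← map_pow, ← Units.val_pow_eq_pow_val, pow_orderOf_eq_one, Units.val_one, map_one]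
  have hL11 : L 1 = 1 := MulChar.ext fun u => by
    rw [hL, MulChar.one_apply_coe, MulChar.one_apply (isUnit_iff_ne_zero.2
      (fun h => u.ne_zero (Algebra.norm_eq_zero_iff.1 h) : N (u : F) ≠ 0))]
  rw [← Finset.sum_sdiff (Finset.subset_univ {((1 : MulChar (ZMod p) ℂ), (1 : MulChar (ZMod p) ℂ))}),
    Finset.sum_singleton, add_comm, hL11,
    MulChar.one_apply (isUnit_iff_ne_zero.2 h2), one_mul, one_mul, jacobiSum_one_one, hQ] at hmain
  have hcount : Fintype.card (MulChar (ZMod p) ℂ × MulChar (ZMod p) ℂ) = (p - 1) ^ 2 := by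
    rw [Fintype.card_prod, ← Nat.card_eq_fintype_card,
      MulChar.card_eq_card_units_of_hasEnoughRootsOfUnity (ZMod p) ℂ, Nat.card_eq_fintype_card,
      ZMod.card_units, pow_two]
  set R := ∑ x ∈ Finset.univ \ {((1 : MulChar (ZMod p) ℂ), (1 : MulChar (ZMod p) ℂ))},
      L x.1 2 * L x.2 2 * jacobiSum (L x.1) (L x.2) with hR
  have hRb : ‖R‖ ≤ (((p - 1) ^ 2 - 1 : ℕ) : ℝ) * Real.sqrt (p ^ q : ℕ) := by
    refine le_trans (norm_sum_le_of_le (n := fun _ => Real.sqrt (p ^ q : ℕ)) _ fun x hx => ?_)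
      (le_of_eq ?_)
    · rw [norm_mul, norm_mul, hval, hval, one_mul, one_mul]
      refine hbd _ _ fun h => ?_
      simp only [Finset.mem_sdiff, Finset.mem_singleton] at hx
      exact hx.2 (Prod.ext (hL1 _ h.1) (hL1 _ h.2))
    · rw [Finset.sum_const, nsmul_eq_mul, Finset.card_sdiff_of_subset (Finset.subset_univ _),
        Finset.card_univ, hcount, Finset.card_singleton]
  set s := Real.sqrt (p ^ q : ℕ) with hs
  have hre : ((T.card * (p - 1) ^ 2 : ℕ) : ℝ) = ((p ^ q : ℕ) : ℝ) - 2 + R.re := by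
    have h := congrArg Complex.re hmain
    rw [Complex.natCast_re, Complex.add_re, Complex.sub_re, Complex.natCast_re] at h
    simpa using h
  have hRre : -(((p - 1) ^ 2 - 1 : ℕ) : ℝ) * s ≤ R.re := by
    have := (abs_le.1 ((Complex.abs_re_le_norm R).trans hRb)).1
    rw [neg_mul]; exact this
  by_contra hlt
  have hT1 : T.card ≤ 1 := by omega
  have hp3 : 3 ≤ p := by
    have := (Fact.out : p.Prime).two_le
    omega
  have hp1 : ((p - 1 : ℕ) : ℝ) = p - 1 := by rw [Nat.cast_sub (by omega)]; simp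
  have h1 : ((T.card * (p - 1) ^ 2 : ℕ) : ℝ) ≤ (p - 1) ^ 2 := by
    rw [Nat.cast_mul, Nat.cast_pow, hp1]
    have : (T.card : ℝ) ≤ 1 := by exact_mod_cast hT1
    nlinarith [sq_nonneg ((p : ℝ) - 1)]
  have h3 : (((p - 1) ^ 2 - 1 : ℕ) : ℝ) = (p - 1) ^ 2 - 1 := by
    rw [Nat.cast_sub (Nat.one_le_pow _ _ (by omega)), Nat.cast_pow, hp1]; simp
  rw [h3] at hRre
  have hs2 : s * s = ((p ^ q : ℕ) : ℝ) := Real.mul_self_sqrt (Nat.cast_nonneg _)
  have hsp : (p : ℝ) ^ 2 ≤ s := by
    rw [hs]
    refine Real.le_sqrt_of_sq_le ?_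
    rw [← pow_mul, Nat.cast_pow]
    exact pow_le_pow_right₀ (by exact_mod_cast (by omega : 1 ≤ p)) (by omega)
  have hp3' : (3 : ℝ) ≤ p := by exact_mod_cast hp3
  nlinarith [mul_le_mul_of_nonneg_left (hsp) (le_trans (by positivity) hsp)]

/-- Let p and q be odd primes with (p^q − 1)/(p − 1) coprime to p − 1. Then there are at least two elements a of the field with p ^ q elements such that both a and 2 − a have norm 1 to the prime field. -/
theorem result (p q : ℕ) [Fact p.Prime] [Fact q.Prime] (hp : p ≠ 2) (hq : q ≠ 2) (hA : Nat.Coprime ((p ^ q - 1) / (p - 1)) (p - 1)) :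
    2 ≤ Set.ncard {a : GaloisField p q | Algebra.norm (ZMod p) a = 1 ∧ Algebra.norm (ZMod p) (2 - a) = 1} := by
  have hqp : q.Prime := Fact.out
  rcases (show q = 3 ∨ 5 ≤ q by
    have := hqp.two_le
    have : q ≠ 4 := by rintro rfl; norm_num at hqp
    omega) with rfl | h
  · exact cubic p hp
  · exact big p q hp h

end Cfsg.Agent.S1471
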