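import Cfsg.Statements.S1472
import Cfsg.Agent.Lib.OddOrder.AppendixC.Final
import Cfsg.Agent.S1471

set_option autoImplicit false
open Cfsg

namespace Cfsg.Agent.S1472

/-- Let p, q be primes with (p^q − 1)/(p − 1) coprime to p − 1, G a finite group, F a field with p ^ q elements, and P, U, Q subgroups of G with: f : G → F bijective from P onto F and additive on P; U normalizing P and acting through ψ : G → F, injective and multiplicative on U with ψ(u) ≠ 0 and f(uxu⁻¹) = ψ(u) f(x); #U · (p − 1) = p^q − 1; Q abelian of order coprime to p, normalized by every x ∈ P with f(x) in the prime field; and some y ∈ Q such that y x y⁻¹ normalizes U for every such x. Then p ≤ q. -/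
theorem result {G : Type*} [Group G] [Finite G] (p q : ℕ) [Fact p.Prime] [Fact q.Prime] (hA : Nat.Coprime ((p ^ q - 1) / (p - 1)) (p - 1))
    (F : Type*) [Field F] [Fintype F] (hF : Fintype.card F = p ^ q) (P U Q : Subgroup G) (f ψ : G → F)
    (hf : Set.BijOn f (P : Set G) Set.univ) (hfadd : ∀ x ∈ P, ∀ z ∈ P, f (x * z) = f x + f z)
    (hUP : U ≤ Subgroup.normalizer (P : Set G)) (hψ : ∀ u ∈ U, ψ u ≠ 0 ∧ ∀ x ∈ P, f (u * x * u⁻¹) = ψ u * f x)
    (hψmul : ∀ u ∈ U, ∀ v ∈ U, ψ (u * v) = ψ u * ψ v) (hψinj : Set.InjOn ψ (U : Set G)) (hUcard : Nat.card U * (p - 1) = p ^ q - 1)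
    (hQ : IsMulCommutative Q) (hQp : (Nat.card Q).Coprime p) (hP0Q : ∀ x ∈ P, f x ^ p = f x → x ∈ Subgroup.normalizer (Q : Set G))
    (y : G) (hy : y ∈ Q) (hP0U : ∀ x ∈ P, f x ^ p = f x → y * x * y⁻¹ ∈ Subgroup.normalizer (U : Set G)) :
    p ≤ q := by
  classical
  by_contra hlt
  have hpp : p.Prime := Fact.out
  have hqq : q.Prime := Fact.out
  have hqp : q < p := not_le.1 hlt
  have hp2 : p ≠ 2 := fun e => by have := hqq.two_le; omega
  have hdiv : (p ^ q - 1) / (p - 1) = Nat.card U := by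
    rw [← hUcard, Nat.mul_div_cancel _ (Nat.sub_pos_of_lt hpp.one_lt)]
  have hq2 : q ≠ 2 := by
    intro e
    have h2p : (p ^ q - 1) / (p - 1) = p + 1 := by
      rw [e, ← Nat.geomSum_eq hpp.two_le]
      simp [Finset.sum_range_succ, add_comm]
    rw [h2p] at hA
    have hodd : p % 2 = 1 := hpp.eq_two_or_odd.resolve_left hp2
    have h' : 2 ∣ Nat.gcd (p + 1) (p - 1) := Nat.dvd_gcd (by omega) (by omega)
    rw [hA] at h'
    omega
  haveI : CharP F p := charP_of_card_eq_prime_pow hF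
  obtain ⟨s, hs, hfs⟩ := hf.surjOn (Set.mem_univ (1 : F))
  have hsfix : f s ^ p = f s := by rw [hfs, one_pow]
  let C : AppendixC.Config G F p q :=
    { P := P, U := U, Q := Q, f := f, ψ := ψ, s := s, y := y, bij := hf, add := hfadd, nUP := hUP,
      act := hψ, map_mul := hψmul, inj := hψinj, cardU := hUcard, cop := hdiv ▸ hA, s_mem := hs,
      fs := hfs, Qcomm := hQ, Qcop := hQp, sQ := hP0Q s hs hsfix, y_mem := hy,
      yU := hP0U s hs hsfix }
  -- a nontrivial solution of `a + b = 2` in norm one elements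
  obtain ⟨a₀, ⟨ha₀, hb₀⟩, ha1⟩ := Set.exists_ne_of_one_lt_ncard
    (one_lt_two.trans_le (Cfsg.Agent.S1471.result p q hp2 hq2 hA)) (1 : GaloisField p q)
  haveI := Fintype.ofFinite (GaloisField p q)
  let e : GaloisField p q ≃+* F := FiniteField.ringEquivOfCardEq (by
    rw [← Nat.card_eq_fintype_card, GaloisField.card p q hqq.ne_zero, hF])
  have hnorm : ∀ x : GaloisField p q, Algebra.norm (ZMod p) x = 1 → ∃ u ∈ U, ψ u = e x := by
    intro x hx
    have h1 := FiniteField.algebraMap_norm_eq_pow (K := ZMod p) (x := x)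
    rw [hx, map_one, GaloisField.card p q hqq.ne_zero, Nat.card_zmod, hdiv] at h1
    have h2 : e x ^ Nat.card U = 1 := by rw [← map_pow, ← h1, map_one]
    have h3 : e x ≠ 0 := fun h0 => by
      rw [h0, zero_pow Nat.card_pos.ne'] at h2
      exact zero_ne_one h2
    obtain ⟨m, hm, c, hc, he⟩ := C.exists_decomp hF h3
    refine ⟨c, hc, ?_⟩
    have hcN : ψ c ^ Nat.card U = 1 := by
      show C.ψ c ^ _ = 1
      rw [← C.ψ_pow hc, show c ^ Nat.card U = 1 from
        congrArg Subtype.val (pow_card_eq_one' (x := (⟨c, hc⟩ : U))), C.ψ_one]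
    have hmN : (m : F) ^ Nat.card U = 1 := by
      rw [he, mul_pow] at h2
      change ψ c ^ _ * _ = 1 at h2
      rwa [hcN, one_mul] at h2
    have hm1 : (m : F) = 1 := orderOf_eq_one_iff.1 (Nat.eq_one_of_dvd_coprimes C.cop
      (orderOf_dvd_of_pow_eq_one hmN)
      (orderOf_dvd_of_pow_eq_one (AppendixC.Config.pow_card_int (p := p) hm)))
    rw [he, hm1, mul_one]
  obtain ⟨u, hu, hue⟩ := hnorm a₀ ha₀
  obtain ⟨v, hv, hve⟩ := hnorm (2 - a₀) hb₀
  have hodd : ∀ n : ℕ, n.Prime → n ≠ 2 → n % 2 = 1 := fun n hn h =>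
    hn.eq_two_or_odd.resolve_left h
  refine hlt (C.p_le_q hF hp2 (fun _ => ?_) (u := u) (v := v) hu hv ?_ ?_)
  · have := hodd p hpp hp2
    have := hodd q hqq hq2
    omega
  · show ψ u + ψ v = 2
    rw [hue, hve, ← map_add, add_sub_cancel, map_ofNat]
  · intro h
    apply ha1
    apply e.injective
    rw [← hue, map_one, h]
    exact C.ψ_one

end Cfsg.Agent.S1472
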