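import Cfsg.Statements.S1513
import Cfsg.Agent.Lib.Char.CliffordAbelian
import Cfsg.Agent.Lib.Char.CoprimeCoset
import Cfsg.Agent.Lib.Char.Perm
-- import your own Cfsg.Agent.* helpers here

set_option autoImplicit false
open Cfsg

namespace Cfsg.Agent.S1513

/-- Let L be a finite group with K normal with complement W₁ ≠ 1 a cyclic Hall subgroup, and W₂ ≠ 1 a cyclic subgroup of K equal to C_K(x) for every non-identity x ∈ W₁, with W₁W₂ of odd order. For an irreducible character θ of K: if θ is not fixed under conjugation by some element of W₁, then the function induced from θ to L is an irreducible character of L; and the irreducible characters of K fixed by all of W₁ are exactly Nat.card W₂ in number, each inducing to the sum of Nat.card W₁ pairwise distinct irreducible characters of L. -/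
theorem result {L : Type*} [Group L] [Fintype L] (K W₁ W₂ : Subgroup L) [hK : K.Normal] (hKW₁ : K ⊓ W₁ = ⊥) (hKW₁' : K ⊔ W₁ = ⊤) (hW₁ : W₁ ≠ ⊥) (hW₁c : IsCyclic W₁) (hHall : Nat.Coprime (Nat.card W₁) W₁.index) (hW₂ : W₂ ≠ ⊥) (hW₂c : IsCyclic W₂) (hW₂K : W₂ ≤ K) (hC : ∀ x ∈ W₁, x ≠ 1 → K ⊓ Subgroup.centralizer ({x} : Set L) = W₂) (hodd : Odd (Nat.card ↥(W₁ ⊔ W₂))) : (∀ θ : K → ℂ, Cfsg.IsIrrCharacter K θ → (∃ x ∈ W₁, (fun k : K => θ ⟨x * k * x⁻¹, hK.conj_mem (k : L) k.2 x⟩) ≠ θ) → Cfsg.IsIrrCharacter L (Cfsg.indFun K θ)) ∧ Nat.card {θ : Cfsg.IrrCharacter K // ∀ x ∈ W₁, (fun k : K => (θ : K → ℂ) ⟨x * k * x⁻¹, hK.conj_mem (k : L) k.2 x⟩) = θ} = Nat.card W₂ ∧ (∀ θ : K → ℂ, Cfsg.IsIrrCharacter K θ → (∀ x ∈ W₁, (fun k : K => θ ⟨x * k * x⁻¹, hK.conj_mem (k : L) k.2 x⟩) = θ) → ∃ C : Finset (L → ℂ), C.card = Nat.card W₁ ∧ (∀ μ ∈ C, Cfsg.IsIrrCharacter L μ) ∧ Cfsg.indFun K θ = ∑ μ ∈ C, μ) := by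

  classical
  cases nonempty_fintype K
  have hKi : W₁.index = Nat.card K := by
    have h1 := CfsgLib.Coprime.card_sup_of_le_normalizer (N := K) (H := W₁)
      (by rw [Subgroup.normalizer_eq_top]; exact le_top) (disjoint_iff.mpr hKW₁)
    rw [hKW₁', Subgroup.card_top] at h1
    have h2 := W₁.index_mul_card
    rw [h1] at h2
    exact Nat.eq_of_mul_eq_mul_right Nat.card_pos h2
  have hcop : Nat.Coprime (Nat.card W₁) (Nat.card K) := hKi ▸ hHall
  have hcy : ∀ y ∈ W₁, Nat.Coprime (orderOf y) (Nat.card K) := fun y hy =>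
    hcop.coprime_dvd_left (Subgroup.orderOf_dvd_natCard _ hy)
  let F : L → Type _ := fun y =>
    {θ : Cfsg.IrrCharacter K // CfsgLib.Char.conjG (θ : K → ℂ) y = θ}
  have hF : ∀ y ∈ W₁, y ≠ 1 → Nat.card (F y) = Nat.card W₂ := by
    intro y hy hy1
    let α : MulAut K := MulAut.conjNormal y
    have h := CfsgLib.Char.card_fixed_irr_eq (G := K) α (fun a b hab => α.toMonoidHom.map_isConj hab)
      (fun χ hχ => CfsgLib.Char.IsIrrCharacter.comp_equiv hχ α)
    have he : Nat.card (F y) =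
        Nat.card {θ : Cfsg.IrrCharacter K // (θ : K → ℂ) ∘ α = (θ : K → ℂ)} :=
      Nat.card_congr (Equiv.subtypeEquivRight fun θ => by rw [CfsgLib.Char.conjG_eq_comp])
    refine he.trans (h.trans (Nat.card_congr (Equiv.ofBijective
      (fun w : W₂ => (⟨ConjClasses.mk ⟨w, hW₂K w.2⟩, fun x hx => ?_⟩ :
        {C : ConjClasses K // ∀ x, ConjClasses.mk x = C → IsConj (α x) x})) ⟨?_, ?_⟩)).symm)
    · have h1 : IsConj x ⟨w, hW₂K w.2⟩ := ConjClasses.mk_eq_mk_iff_isConj.mp hx
      have h2 : IsConj (α x) (α ⟨w, hW₂K w.2⟩) := α.toMonoidHom.map_isConj h1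
      have hw : (w : L) ∈ K ⊓ Subgroup.centralizer ({y} : Set L) := (hC y hy hy1).symm ▸ w.2
      have h3 : α ⟨w, hW₂K w.2⟩ = ⟨w, hW₂K w.2⟩ := Subtype.ext (by
        rw [MulAut.conjNormal_apply, ← Subgroup.mem_centralizer_singleton_iff.mp hw.2,
          mul_inv_cancel_right])
      rw [h3] at h2
      exact h2.trans h1.symm
    · intro a b hab
      obtain ⟨k, hk⟩ := isConj_iff.mp (ConjClasses.mk_eq_mk_iff_isConj.mp (congrArg Subtype.val hab))
      have hk' : (k : L) * a * (k : L)⁻¹ = b := congrArg Subtype.val hk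
      have hcent : ∀ w : W₂, y * (w : L) * y⁻¹ = w := fun w => by
        have hw : (w : L) ∈ K ⊓ Subgroup.centralizer ({y} : Set L) := (hC y hy hy1).symm ▸ w.2
        rw [← Subgroup.mem_centralizer_singleton_iff.mp hw.2, mul_inv_cancel_right]
      set D : Subgroup L := K ⊓ Subgroup.centralizer ({(a : L)} : Set L) with hD
      have hyD : y ∈ Subgroup.normalizer (D : Set L) := by
        have hinv : ∀ z : L, y * (a : L) * y⁻¹ = a → z * (a : L) = a * z →
            y * z * y⁻¹ * (a : L) = a * (y * z * y⁻¹) := by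
          intro z h1 h2
          calc y * z * y⁻¹ * (a : L) = y * z * y⁻¹ * (y * a * y⁻¹) := by rw [h1]
            _ = y * (z * a) * y⁻¹ := by group
            _ = y * (a * z) * y⁻¹ := by rw [h2]
            _ = y * a * y⁻¹ * (y * z * y⁻¹) := by group
            _ = a * (y * z * y⁻¹) := by rw [h1]
        refine CfsgLib.Coprime.mem_normalizer_of_conj_map_le fun z hz => ⟨hK.conj_mem z hz.1 y, ?_⟩
        exact Subgroup.mem_centralizer_singleton_iff.mpr
          (hinv z (hcent a) (Subgroup.mem_centralizer_singleton_iff.mp hz.2))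
      have hc' : (k : L)⁻¹ * (y * k * y⁻¹) ∈ D := by
        refine ⟨K.mul_mem (K.inv_mem k.2) (hK.conj_mem k k.2 y),
          Subgroup.mem_centralizer_singleton_iff.mpr ?_⟩
        have h1 : y * k * y⁻¹ * (a : L) * (y * k * y⁻¹)⁻¹ = b := by
          conv_lhs => rw [← hcent a]
          rw [← hcent b, ← hk']
          group
        calc (k : L)⁻¹ * (y * k * y⁻¹) * (a : L)
            = (k : L)⁻¹ * (y * k * y⁻¹ * (a : L) * (y * k * y⁻¹)⁻¹) * (y * k * y⁻¹) := by group
          _ = (k : L)⁻¹ * b * (y * k * y⁻¹) := by rw [h1]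
          _ = (a : L) * ((k : L)⁻¹ * (y * k * y⁻¹)) := by rw [← hk']; group
      obtain ⟨x, hx, c, hc, hcy', e⟩ := CfsgLib.Char.exists_conj_commuting D y hyD
        ((hcy y hy).coprime_dvd_right (Subgroup.card_dvd_of_le inf_le_left)) _ hc'
      set v := (k : L) * x⁻¹ with hv
      have hcy2 : c * y = v⁻¹ * y * v := by rw [← e, hv]; group
      have hord : orderOf (c * y) = orderOf y := by
        rw [hcy2]
        exact orderOf_injective (MulAut.conj v⁻¹).toMonoidHom (MulAut.conj v⁻¹).injective y |>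
          fun h => by simpa using h
      have hc1 : c = 1 := by
        have hco : (orderOf c).Coprime (orderOf y) :=
          ((hcy y hy).coprime_dvd_right ((Subgroup.orderOf_dvd_natCard _ hc).trans
            (Subgroup.card_dvd_of_le inf_le_left))).symm
        have h1 := (show Commute c y from hcy').orderOf_mul_eq_mul_orderOf_of_coprime hco
        rw [hord] at h1
        exact orderOf_eq_one_iff.mp ((Nat.mul_eq_right (orderOf_pos y).ne').mp h1.symm)
      rw [hc1, one_mul] at hcy2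
      have hvW : v ∈ W₂ := by
        rw [← hC y hy hy1]
        refine ⟨K.mul_mem k.2 (K.inv_mem hx.1), Subgroup.mem_centralizer_singleton_iff.mpr ?_⟩
        conv_lhs => rw [hcy2]
        group
      let _ : CommGroup W₂ := hW₂c.commGroup
      have hva : v * (a : L) = a * v := congrArg Subtype.val (mul_comm (⟨v, hvW⟩ : W₂) a)
      have hxa : x * (a : L) = a * x := Subgroup.mem_centralizer_singleton_iff.mp hx.2
      refine Subtype.ext ?_
      rw [← hk', show (k : L) = v * x by rw [hv]; group,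
        show v * x * (a : L) * (v * x)⁻¹ = v * (x * a) * x⁻¹ * v⁻¹ by group, hxa,
        show v * ((a : L) * x) * x⁻¹ * v⁻¹ = v * a * v⁻¹ by group, hva, mul_inv_cancel_right]
    · rintro ⟨Cl, hCl⟩
      obtain ⟨k, rfl⟩ := ConjClasses.exists_rep Cl
      obtain ⟨m, hm⟩ := isConj_iff.mp (hCl k rfl).symm
      obtain ⟨z, hz, hzc⟩ := CfsgLib.Char.exists_centralized_of_fixed_class K y (hcy y hy) k m k.2 m.2
        (by
          have := congrArg Subtype.val hm
          simpa [α] using this.symm)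
      have hmem : z * (k : L) * z⁻¹ ∈ W₂ := by
        rw [← hC y hy hy1]
        exact ⟨K.mul_mem (K.mul_mem hz k.2) (K.inv_mem hz),
          Subgroup.mem_centralizer_singleton_iff.mpr hzc⟩
      exact ⟨⟨_, hmem⟩, Subtype.ext (ConjClasses.mk_eq_mk_iff_isConj.mpr
        (isConj_iff.mpr ⟨(⟨z, hz⟩ : K), Subtype.ext rfl⟩ :
          IsConj k (⟨z * (k : L) * z⁻¹, hW₂K hmem⟩ : K)).symm)⟩
  obtain ⟨⟨g, hg⟩, hgen⟩ := hW₁c.exists_generator
  have hg1 : g ≠ 1 := by
    rintro rfl
    refine hW₁ (eq_bot_iff.mpr fun w hw => ?_)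
    obtain ⟨i, hi⟩ := hgen ⟨w, hw⟩
    rw [Subgroup.mem_bot, show w = ((⟨w, hw⟩ : W₁) : L) from rfl, ← hi]
    simp
  have hfixall : ∀ θ : K → ℂ, CfsgLib.Char.conjG θ g = θ →
      ∀ x ∈ W₁, CfsgLib.Char.conjG θ x = θ := by
    intro θ hθ x hx
    obtain ⟨i, hi⟩ := hgen ⟨x, hx⟩
    have : g ^ i ∈ CfsgLib.Char.stab θ :=
      Subgroup.zpow_mem _ (CfsgLib.Char.mem_stab.mpr hθ) i
    rw [show x = g ^ i from (congrArg Subtype.val hi).symm]
    exact CfsgLib.Char.mem_stab.mp this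
  have hany : ∀ θ : K → ℂ, Cfsg.IsIrrCharacter K θ → ∀ y ∈ W₁, y ≠ 1 →
      CfsgLib.Char.conjG θ y = θ → CfsgLib.Char.conjG θ g = θ := by
    intro θ hθ y hy hy1 hfix
    have hinj : Function.Injective
        (fun t : F g => (⟨t.1, hfixall _ t.2 y hy⟩ : F y)) :=
      fun s t h => Subtype.ext (congrArg (fun u : F y => u.1) h)
    obtain ⟨t, ht⟩ := (hinj.bijective_of_nat_card_le
      (by rw [hF y hy hy1, hF g hg hg1])).2 ⟨⟨θ, hθ⟩, hfix⟩
    have h1 : (t.1 : K → ℂ) = θ := congrArg (fun s : F y => (s.1 : K → ℂ)) ht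
    rw [← h1]
    exact t.2
  refine ⟨fun θ hθ ⟨x, hx, hmove⟩ => ?_, ?_, fun θ hθ hfix => ?_⟩
  · have hstab : CfsgLib.Char.stab θ = K := by
      refine le_antisymm (fun z hz => ?_)
        (CfsgLib.Char.le_stab (CfsgLib.Char.IsIrrCharacter.isClassFunction hθ))
      obtain ⟨k, hk, w, hw, rfl⟩ :=
        Subgroup.mem_sup_of_normal_left.mp (hKW₁' ▸ Subgroup.mem_top z : z ∈ K ⊔ W₁)
      have hwst : w ∈ CfsgLib.Char.stab θ := by
        have := Subgroup.mul_mem _ (Subgroup.inv_mem _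
          (CfsgLib.Char.le_stab (CfsgLib.Char.IsIrrCharacter.isClassFunction hθ) hk)) hz
        rwa [inv_mul_cancel_left] at this
      by_cases hw1 : w = 1
      · rwa [hw1, mul_one]
      · exact absurd (hfixall θ (hany θ hθ w hw hw1 (CfsgLib.Char.mem_stab.mp hwst)) x hx) hmove
    refine CfsgLib.Char.IsCharacter.isIrrCharacter_of_norm_one
      (CfsgLib.Char.IsCharacter.indFun K (CfsgLib.Char.IsIrrCharacter.isCharacter hθ)) ?_
    rw [CfsgLib.Char.classInner_indFun_irr hθ hθ,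
      show Nat.card {z : L // CfsgLib.Char.conjG θ z = θ} = Nat.card K from Nat.card_congr
        (Equiv.subtypeEquivRight fun z => by rw [← CfsgLib.Char.mem_stab, hstab]),
      div_self (Nat.cast_ne_zero.mpr Nat.card_pos.ne')]
  · rw [← hF g hg hg1]
    exact Nat.card_congr (Equiv.subtypeEquivRight fun θ =>
      ⟨fun h => h g hg, fun h x hx => hfixall _ h x hx⟩)
  · cases nonempty_fintype (⊤ : Subgroup L)
    have hT : CfsgLib.Char.IsInertia θ (⊤ : Subgroup L) := by
      intro z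
      refine ⟨fun _ h => ?_, fun _ => Subgroup.mem_top z⟩
      have hz : z ∈ CfsgLib.Char.stab θ := by
        obtain ⟨k, hk, w, hw, rfl⟩ :=
          Subgroup.mem_sup_of_normal_left.mp (hKW₁' ▸ Subgroup.mem_top z : z ∈ K ⊔ W₁)
        exact Subgroup.mul_mem _
          (CfsgLib.Char.le_stab (CfsgLib.Char.IsIrrCharacter.isClassFunction hθ) hk)
          (CfsgLib.Char.mem_stab.mpr (hfix w hw))
      exact congrFun (CfsgLib.Char.mem_stab.mp hz) h
    have hab : ∀ a ∈ (⊤ : Subgroup L), ∀ b ∈ (⊤ : Subgroup L), a * b * a⁻¹ * b⁻¹ ∈ K := by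
      intro a _ b _
      obtain ⟨k, hk, w, hw, rfl⟩ :=
        Subgroup.mem_sup_of_normal_left.mp (hKW₁' ▸ Subgroup.mem_top a : a ∈ K ⊔ W₁)
      obtain ⟨k', hk', w', hw', rfl⟩ :=
        Subgroup.mem_sup_of_normal_left.mp (hKW₁' ▸ Subgroup.mem_top b : b ∈ K ⊔ W₁)
      rw [← QuotientGroup.eq_one_iff (N := K)]
      let _ : CommGroup W₁ := hW₁c.commGroup
      have h1 : w * w' = w' * w := congrArg Subtype.val (mul_comm (⟨w, hw⟩ : W₁) ⟨w', hw'⟩)
      simp only [QuotientGroup.mk_mul, QuotientGroup.mk_inv,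
        (QuotientGroup.eq_one_iff k).mpr hk, (QuotientGroup.eq_one_iff k').mpr hk', one_mul]
      rw [← QuotientGroup.mk_mul, h1, QuotientGroup.mk_mul]
      group
    obtain ⟨e, C₀, he, hirr, hCe, hall, hcard, hind⟩ :=
      CfsgLib.Char.exists_abelian_constituents (le_top : K ≤ ⊤) hθ hT hab
    have hidx : K.index = Nat.card W₁ := by
      have h1 := K.index_mul_card
      have h2 := W₁.index_mul_card
      rw [hKi] at h2
      rw [← h2, mul_comm] at h1
      exact Nat.eq_of_mul_eq_mul_left Nat.card_pos h1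
    obtain rfl := CfsgLib.Char.multiplicity_eq_one_of_coprime (le_top : K ≤ ⊤) hθ hT hab
      (by rw [Subgroup.relIndex_top_right, hidx]; exact hcop.symm) hCe hall
    have hne : ∀ ψ ∈ C₀,
        Cfsg.classInner (CfsgLib.Char.resLe (le_top : K ≤ ⊤) ψ) θ ≠ 0 := fun ψ hψ => by
      rw [(hCe ψ hψ).1]; exact Nat.cast_ne_zero.mpr one_ne_zero
    have hinj : Set.InjOn (fun ψ => Cfsg.indFun (⊤ : Subgroup L) ψ)
        (C₀ : Set ((⊤ : Subgroup L) → ℂ)) := fun ψ hψ ψ' hψ' h =>
      CfsgLib.Char.indFun_inertia_inj le_top hθ hT (hirr ψ hψ) (hne ψ hψ) (hirr ψ' hψ') (hne ψ' hψ') h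
    refine ⟨C₀.image (fun ψ => Cfsg.indFun (⊤ : Subgroup L) ψ), ?_, fun χ hχ => ?_, ?_⟩
    · rw [Finset.card_image_of_injOn hinj]
      rw [one_pow, one_mul, Subgroup.card_top, ← K.index_mul_card, hidx] at hcard
      exact Nat.eq_of_mul_eq_mul_right Nat.card_pos hcard
    · obtain ⟨ψ, hψ, rfl⟩ := Finset.mem_image.mp hχ
      exact (CfsgLib.Char.indFun_inertia le_top hθ hT (hirr ψ hψ) (hne ψ hψ)).1
    · rw [Finset.sum_image hinj]; simpa using hind


end Cfsg.Agent.S1513
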