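import Cfsg.Statements.S1412
import Cfsg.Agent.Lib.OddOrder.RankTwoStable
import Cfsg.Agent.Lib.OddOrder.NormalizerFusion

set_option autoImplicit false
open Cfsg

namespace Cfsg.Agent.S1412

/-- Let G be a minimal simple group of odd order, p a prime and P a Sylow p-subgroup of G with no elementary abelian subgroup of order p ^ 3. Then either P is abelian, or P is generated by two elementwise-commuting subgroups P₁, P₂ with P₁ nonabelian of order p ^ 3 and exponent p, P₂ cyclic, and the elements of P₂ of order dividing p generating exactly the centre of P₁. -/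
theorem result {G : Type*} [Group G] [Finite G] (hG : Cfsg.IsMinSimpleOddOrder G) (p : ℕ) [Fact p.Prime] (P : Sylow p G) (hr : Cfsg.PRankLE p 2 (P : Subgroup G)) :
    IsMulCommutative (P : Subgroup G) ∨ ∃ P₁ P₂ : Subgroup G, P₁ ⊔ P₂ = (P : Subgroup G) ∧ (∀ a ∈ P₁, ∀ b ∈ P₂, a * b = b * a) ∧
        ¬ IsMulCommutative P₁ ∧ Nat.card P₁ = p ^ 3 ∧ Monoid.exponent P₁ = p ∧ IsCyclic P₂ ∧
        Subgroup.closure {x : G | x ∈ P₂ ∧ x ^ p = 1} = P₁ ⊓ Subgroup.centralizer (P₁ : Set G) := by
  by_cases hab : IsMulCommutative (P : Subgroup G)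
  · exact Or.inl hab
  refine Or.inr ?_
  have hp2 : p ≠ 2 := by
    intro h2
    subst h2
    refine hab ?_
    have hbot : (P : Subgroup G) = ⊥ := Subgroup.eq_bot_of_card_eq _ (by
      obtain ⟨k, hk⟩ := P.isPGroup'.exists_card_eq
      rcases Nat.eq_zero_or_pos k with h0 | h0
      · rw [hk, h0, pow_zero]
      · exact absurd (hG.1.of_dvd_nat (Subgroup.card_subgroup_dvd_card (P : Subgroup G)))
          (Nat.not_odd_iff_even.mpr (by rw [hk]; exact Nat.even_pow.mpr ⟨even_two, h0.ne'⟩)))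
    exact ⟨⟨fun a b => Subtype.ext (by
      simp [Subgroup.mem_bot.mp (hbot.le a.2), Subgroup.mem_bot.mp (hbot.le b.2)])⟩⟩
  set N := Subgroup.normalizer ((P : Subgroup G) : Set G) with hN
  haveI : ((P : Subgroup G).subgroupOf N).Normal :=
    (Subgroup.normal_subgroupOf_iff_le_normalizer Subgroup.le_normalizer).mpr le_rfl
  set P' := P.subtype (Subgroup.le_normalizer (H := (P : Subgroup G))) with hP'
  have hcopN : (Nat.card ((P : Subgroup G).subgroupOf N)).Coprime ((P : Subgroup G).subgroupOf N).index := by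
    have := P'.card_coprime_index
    rwa [hP', Sylow.coe_subtype] at this
  obtain ⟨V₀, hV₀⟩ := Subgroup.exists_right_complement'_of_coprime hcopN
  set V := V₀.map N.subtype with hV
  have hcompl : Cfsg.IsComplIn (P : Subgroup G) V N := by
    refine ⟨Subgroup.le_normalizer, Subgroup.map_subtype_le _, eq_bot_iff.mpr ?_, fun m hm => ?_⟩
    · rintro _ ⟨hxP, v, hv, rfl⟩
      have hmem : v ∈ (P : Subgroup G).subgroupOf N ⊓ V₀ := ⟨hxP, hv⟩
      rw [disjoint_iff.mp hV₀.disjoint, Subgroup.mem_bot] at hmem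
      simp [hmem]
    · obtain ⟨⟨a, b⟩, hab', -⟩ := hV₀.existsUnique ⟨m, hm⟩
      exact ⟨((a : N) : G), a.2, ((b : N) : G), ⟨b, b.2, rfl⟩, (congrArg Subtype.val hab').symm⟩
  have hVcard : Nat.card V = ((P : Subgroup G).subgroupOf N).index := by
    rw [hV, Subgroup.card_map_of_injective N.subtype_injective]
    exact hV₀.symm.index_eq_card.symm
  obtain ⟨R₁, R₂, h1, h2, h3, h4, h5, h6, h7⟩ := CfsgLib.OddOrder.RankTwoStable.structure_of_stable hp2
    (R := (P : Subgroup G)) (A := V) P.isPGroup' hr (Subgroup.map_subtype_le _) (by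
      have hd : ¬ p ∣ ((P : Subgroup G).subgroupOf N).index := by
        have := P'.not_dvd_index
        rwa [hP', Sylow.coe_subtype] at this
      rw [hVcard]
      exact ((Fact.out : p.Prime).coprime_iff_not_dvd.mpr hd).symm)
    (hG.1.of_dvd_nat (Subgroup.card_subgroup_dvd_card V))
    (CfsgLib.OddOrder.NormalizerFusion.commutator_complement hG P hcompl).symm hab
  refine ⟨R₁, R₂, h1, h2, h3, h4, h5, h6, ?_⟩
  -- the derived group of an extraspecial group is its centre
  rw [h7]
  have hle : ⁅R₁, R₁⁆ ≤ R₁ ⊓ Subgroup.centralizer (R₁ : Set G) := by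
    rw [← h7, Subgroup.closure_le]
    rintro x ⟨hx, hxp⟩
    have hmem : x ∈ R₁ := by
      have : x ∈ Subgroup.closure {y : G | y ∈ R₂ ∧ y ^ p = 1} := Subgroup.subset_closure ⟨hx, hxp⟩
      rw [h7] at this
      exact Subgroup.commutator_le_self R₁ this
    exact ⟨hmem, Subgroup.mem_centralizer_iff.mpr fun a ha => h2 a ha x hx⟩
  refine Subgroup.eq_of_le_of_card_ge hle ?_
  -- `|Z(R₁)| ≤ p`
  set Z := R₁ ⊓ Subgroup.centralizer (R₁ : Set G) with hZ
  have hZc : Z.subgroupOf R₁ = Subgroup.center R₁ := by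
    ext a
    rw [Subgroup.mem_subgroupOf, Subgroup.mem_inf, Subgroup.mem_center_iff]
    exact ⟨fun h g => Subtype.ext (Subgroup.mem_centralizer_iff.mp h.2 g g.2), fun h => ⟨a.2,
      Subgroup.mem_centralizer_iff.mpr fun g hg => congrArg Subtype.val (h ⟨g, hg⟩)⟩⟩
  have hp := (Fact.out : p.Prime)
  have hdne : ⁅R₁, R₁⁆ ≠ ⊥ := fun hb => h3 (Subgroup.commutator_self_eq_bot_iff.mp hb)
  have hR₁ : IsPGroup p R₁ := IsPGroup.of_card h4
  obtain ⟨k, hk⟩ := (hR₁.to_le (inf_le_left : Z ≤ R₁)).exists_card_eq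
  obtain ⟨l, hl⟩ := (hR₁.to_le (Subgroup.commutator_le_self R₁)).exists_card_eq
  rw [hk, hl]
  refine Nat.pow_le_pow_right hp.pos ?_
  have hl1 : 1 ≤ l := Nat.pos_of_ne_zero fun e => hdne (Subgroup.eq_bot_of_card_eq _ (by rw [hl, e, pow_zero]))
  by_contra hlt
  have hk2 : 2 ≤ k := by omega
  refine h3 ?_
  haveI : IsCyclic (R₁ ⧸ Subgroup.center R₁) := by
    have hidx : (Subgroup.center R₁).index ∣ p := by
      have hm := Subgroup.card_mul_index (Subgroup.center R₁)
      rw [← hZc, Nat.card_congr (Subgroup.subgroupOfEquivOfLe (inf_le_left : Z ≤ R₁)).toEquiv, hk, h4, hZc] at hm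
      refine Nat.dvd_of_mul_dvd_mul_left (pow_pos hp.pos 2) ?_
      calc p ^ 2 * (Subgroup.center R₁).index ∣ p ^ k * (Subgroup.center R₁).index :=
            mul_dvd_mul_right (pow_dvd_pow p hk2) _
        _ = p ^ 2 * p := by rw [hm]; ring
    rcases (Nat.dvd_prime hp).mp hidx with h | h
    · haveI : Subsingleton (R₁ ⧸ Subgroup.center R₁) := Finite.card_le_one_iff_subsingleton.mp h.le
      infer_instance
    · exact isCyclic_of_prime_card h
  exact ⟨⟨commutative_of_cyclic_center_quotient (QuotientGroup.mk' (Subgroup.center R₁))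
    (by rw [QuotientGroup.ker_mk'])⟩⟩

end Cfsg.Agent.S1412
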