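import Cfsg.Statements.S1383
import Cfsg.Agent.Lib.OddOrder.FittingTypeV

set_option autoImplicit false
open Cfsg

namespace Cfsg.Agent.S1383

/-- Let G be a minimal simple group of odd order and M a maximal subgroup with standard factorisation M = K U M_σ. Then M is of Type V if and only if K ≠ 1, U = 1 and M_F = M_σ. -/
theorem result {G : Type*} [Group G] [Finite G] (hG : Cfsg.IsMinSimpleOddOrder G)
    (M : Subgroup G) (hM : IsCoatom M) (K U : Subgroup G) (hKU : Cfsg.IsSigmaDecomposition M K U) :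
    Cfsg.IsOfTypeV M ↔ (K ≠ ⊥ ∧ U = ⊥ ∧ Cfsg.fittingHallOf M = Cfsg.sigmaCore M) := by
  open CfsgLib.OddOrder in
  constructor
  · rintro ⟨W₁, V, W₂, hP, hV, -⟩
    open CfsgLib.OddOrder in
    have hK := TypeP.kappa_of_typeP hG hM hKU hP
    have hMF : ⁅M, M⁆ ≤ Cfsg.fittingHallOf M := fun m hm => by
      obtain ⟨a, ha, b, hb, rfl⟩ := hP.U_compl.2.2.2 m hm
      rw [hV, Subgroup.mem_bot] at hb
      rw [hb, mul_one]; exact ha
    open CfsgLib.OddOrder in
    have hd := TypeP.derived_compl hG hM hKU hK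
    open CfsgLib.OddOrder in
    have hle := hMF.trans (SigmaCentralizer.fittingHallOf_le_sigmaCore hG hM)
    open CfsgLib.OddOrder in
    exact ⟨hK, le_bot_iff.mp (hd.2.2.1 ▸ le_inf (hd.2.1.trans hle) le_rfl),
      le_antisymm (SigmaCentralizer.fittingHallOf_le_sigmaCore hG hM) ((SigmaCore.le_derived hG hM).trans hMF)⟩
  rintro ⟨hK, hU, heq⟩
  open CfsgLib.OddOrder in
  have hder := TypeP.derived_bot hG hM hKU hK hU
  have hV : Cfsg.IsComplIn (Cfsg.fittingHallOf M) (⊥ : Subgroup G) ⁅M, M⁆ := by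
    refine ⟨?_, bot_le, inf_bot_eq _, fun m hm => ⟨m, ?_, 1, one_mem _, (mul_one m).symm⟩⟩
    · rw [hder, heq]
    · rw [heq, ← hder]; exact hm
  haveI : Subsingleton (⊥ : Subgroup G) := inferInstance
  open CfsgLib.OddOrder in
  have hP := TypeP.typePWith hG hM hKU hK hV inferInstance
    (le_trans le_top (Subgroup.normalizer_eq_top_iff.mpr (inferInstance : (⊥ : Subgroup G).Normal)).ge)
  refine ⟨K, ⊥, _, hP, rfl, ?_⟩
  open CfsgLib.OddOrder in
  have hF : Cfsg.fittingOf M = Cfsg.fittingHallOf M :=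
    le_antisymm (hP.fitting_le.trans (by rw [hder, heq])) Basic.fittingHallOf_le_fittingOf
  by_cases hall : ∀ g : G, g ∉ M → Cfsg.fittingOf M ⊓ (Cfsg.fittingOf M).map (MulAut.conj g).toMonoidHom = ⊥
  · refine Or.inl ?_
    rw [← hF]
    exact CfsgLib.OddOrder.FittingTI.ti_of hall
  push Not at hall
  obtain ⟨g, hg, hX⟩ := hall
  open CfsgLib.OddOrder in
  obtain ⟨p, y, N, h⟩ := FittingNonTI.exists_nt hG hM hg hX
  open CfsgLib.OddOrder in
  obtain ⟨hab, hdiv⟩ := FittingTypeV.main hG hKU hK hU h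
  haveI := Fact.mk h.prime
  have hpd : p ∣ Nat.card (Cfsg.fittingHallOf M) := by
    rw [heq]; exact h.order ▸ Subgroup.orderOf_dvd_natCard _ h.core
  have hcyc : IsCyclic (Cfsg.pPrimeCore p (Cfsg.fittingHallOf M)) := by
    open CfsgLib.OddOrder in
    haveI := h.cyclic hG hab (H := (Cfsg.pPrimeCore p (Cfsg.fittingHallOf M)).map (Cfsg.fittingHallOf M).subtype)
      ((Subgroup.map_subtype_le _).trans heq.le) (by
        rw [Subgroup.card_map_of_injective (Cfsg.fittingHallOf M).subtype_injective]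
        exact h.prime.coprime_iff_not_dvd.mp (CfsgLib.Solvable.Cores.coprime_card_pPrimeCore p).symm)
    exact isCyclic_of_surjective ((Cfsg.pPrimeCore p (Cfsg.fittingHallOf M)).equivMapOfInjective
      (Cfsg.fittingHallOf M).subtype (Cfsg.fittingHallOf M).subtype_injective).symm (MulEquiv.surjective _)
  rcases hdiv with h1 | ⟨h1, T, hT, hTc⟩
  · exact Or.inr (Or.inl ⟨p, h.prime, hpd, h1, hcyc⟩)
  refine Or.inr (Or.inr ⟨p, h.prime, hpd, ?_, h1, hcyc⟩)
  set H := Cfsg.fittingHallOf M with hH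
  haveI : Group.IsNilpotent H := CfsgLib.OddOrder.Basic.fittingHallOf_isNilpotent
  have hTH : (T : Subgroup G) ≤ H := hT.trans heq.ge
  refine le_antisymm ?_ ?_
  · obtain ⟨S, hS⟩ := ((CfsgLib.Solvable.Cores.isPGroup_pCore (G := H) p).map H.subtype).exists_le_sylow
    have := Subgroup.card_le_of_le hS
    rw [Subgroup.card_map_of_injective H.subtype_injective] at this
    rwa [S.card_eq_multiplicity, ← T.card_eq_multiplicity, hTc] at this
  · have : ((T.subtype hTH : Sylow p H) : Subgroup H).Normal := inferInstance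
    have h2 := CfsgLib.Solvable.Cores.le_pCore (T.subtype hTH).isPGroup' (hn := this)
    have := Subgroup.card_le_of_le h2
    rwa [Sylow.coe_subtype, Nat.card_congr (Subgroup.subgroupOfEquivOfLe hTH).toEquiv, hTc] at this

end Cfsg.Agent.S1383
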