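import Cfsg.Statements.S1386
import Mathlib.GroupTheory.SpecificGroups.Cyclic

set_option autoImplicit false
open Cfsg

namespace Cfsg.Agent.S1386

theorem orderOf_dvd_card' {G : Type*} [Group G] [Finite G] {H : Subgroup G} {x : G} (hx : x ∈ H) :
    orderOf x ∣ Nat.card H := by
  simpa using (Subgroup.orderOf_coe (⟨x, hx⟩ : H)) ▸ orderOf_dvd_natCard (⟨x, hx⟩ : H)

theorem cyclic_commute {G : Type*} [Group G] (H : Subgroup G) [IsCyclic H] {a b : G} (ha : a ∈ H) (hb : b ∈ H) :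
    Commute a b := by
  letI := IsCyclic.commGroup (α := H)
  exact congrArg Subtype.val (mul_comm (⟨a, ha⟩ : H) ⟨b, hb⟩)

theorem le_normalizer_derived {G : Type*} [Group G] (S : Subgroup G) :
    S ≤ Subgroup.normalizer (⁅S, S⁆ : Subgroup G) := Subgroup.normalizer_commutator_ge_left S S

theorem coprime_of_cyclic {G : Type*} [Group G] [Finite G] (A B : Subgroup G) (h : A ⊓ B = ⊥)
    (hc : IsCyclic ↥(A ⊔ B)) : (Nat.card A).Coprime (Nat.card B) := by
  letI := IsCyclic.commGroup (α := ↥(A ⊔ B))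
  let f : A × B →* ↥(A ⊔ B) :=
    (Subgroup.inclusion (le_sup_left : A ≤ A ⊔ B)).coprod (Subgroup.inclusion (le_sup_right : B ≤ A ⊔ B))
  have hf : Function.Injective f := by
    rw [injective_iff_map_eq_one]
    rintro ⟨⟨a, ha⟩, ⟨b, hb⟩⟩ e
    have e' : a * b = 1 := congrArg Subtype.val e
    have haB : a ∈ B := by rw [eq_inv_of_mul_eq_one_left e']; exact inv_mem hb
    have : a ∈ A ⊓ B := ⟨ha, haB⟩
    rw [h, Subgroup.mem_bot] at this
    subst this
    simp only [one_mul] at e'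
    subst e'
    rfl
  haveI := isCyclic_of_injective f hf
  exact coprime_card_of_isCyclic_prod A B


/-- Let G be a finite group, W₁, W₂ subgroups forming a self-normalizing cyclic pair, S a subgroup with W₂ ≤ S and W₁ a complement to S' in S, and (W₁, U, W₂') type-P data for S. Then W₂' = W₂ (that is, C_{S'}(W₁) = W₂). -/
theorem result {G : Type*} [Group G] [Finite G] (W₁ W₂ S U W₂' : Subgroup G) (hW : Cfsg.IsSelfNormalizingCyclic W₁ W₂)
    (hSW : Cfsg.IsComplIn ⁅S, S⁆ W₁ S) (hW₂S : W₂ ≤ S) (hP : Cfsg.IsTypePWith S W₁ U W₂') :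
    W₂' = W₂ := by
  obtain ⟨hW1, hW2, hdisj, hcomm, hcyc, hnorm⟩ := hW
  obtain ⟨x, hx, hx1⟩ := (Subgroup.bot_or_exists_ne_one W₁).resolve_left hW1
  obtain ⟨y, hy, hy1⟩ := (Subgroup.bot_or_exists_ne_one W₂).resolve_left hW2
  have hdef := hP.W₂_centralizer x hx hx1
  have hle : W₂ ≤ W₂' := by
    rw [← hdef]
    intro b hb
    refine ⟨?_, ?_⟩
    · obtain ⟨_, _, hdj, hdec⟩ := hSW
      obtain ⟨s, hs, a, ha, rfl⟩ := hdec b (hW₂S hb)
      suffices a = 1 by simpa [this] using hs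
      -- commuting cyclic factors meeting trivially have coprime orders
      have hcop : (Nat.card W₁).Coprime (Nat.card W₂) := coprime_of_cyclic W₁ W₂ hdisj hcyc
      have hsn : (⁅S, S⁆.subgroupOf S).Normal := by
        exact Subgroup.normal_subgroupOf_of_le_normalizer (le_normalizer_derived S)
      let a' : S := ⟨a, hP.W₁_compl.2.1 ha⟩
      let b' : S := ⟨s * a, hW₂S hb⟩
      let q := QuotientGroup.mk' (⁅S, S⁆.subgroupOf S)
      have e : q b' = q a' := by
        have hs' : (⟨s, Subgroup.commutator_le_self S hs⟩ : S) ∈ ⁅S, S⁆.subgroupOf S := hs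
        have : b' = (⟨s, Subgroup.commutator_le_self S hs⟩ : S) * a' := rfl
        rw [this, map_mul]
        simp only [q, QuotientGroup.mk'_apply]
        rw [(QuotientGroup.eq_one_iff _).mpr hs', one_mul]
      have h1 : orderOf (q a') ∣ Nat.card W₁ :=
        (orderOf_map_dvd q a').trans (by simpa [a'] using orderOf_dvd_card' ha)
      have h2 : orderOf (q a') ∣ Nat.card W₂ := by
        rw [← e]
        exact (orderOf_map_dvd q b').trans (by simpa [b'] using orderOf_dvd_card' hb)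
      have h3 : q a' = 1 := orderOf_eq_one_iff.mp (Nat.eq_one_of_dvd_coprimes hcop h1 h2)
      have h4 : a' ∈ ⁅S, S⁆.subgroupOf S := (QuotientGroup.eq_one_iff _).mp h3
      have : a ∈ ⁅S, S⁆ ⊓ W₁ := ⟨h4, ha⟩
      rwa [hdj, Subgroup.mem_bot] at this
    · show b ∈ Subgroup.centralizer ({x} : Set G)
      rw [Subgroup.mem_centralizer_singleton_iff]
      exact (hcomm x hx b hb).symm
  refine le_antisymm ?_ hle
  intro z hz
  obtain ⟨_, _, _, hcomm', hcyc', _⟩ := hP.selfNormalizing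
  have hxy : x * y ∈ (↑(W₁ ⊔ W₂) : Set G) \ (↑W₁ ∪ ↑W₂) := by
    refine ⟨mul_mem (Subgroup.mem_sup_left hx) (Subgroup.mem_sup_right hy), ?_⟩
    rintro (h | h)
    · exact hy1 (Subgroup.mem_bot.mp (hdisj ▸ ⟨(Subgroup.mul_mem_cancel_left W₁ hx).mp h, hy⟩))
    · exact hx1 (Subgroup.mem_bot.mp (hdisj ▸ ⟨hx, (Subgroup.mul_mem_cancel_right W₂ hy).mp h⟩))
  have hzc : Commute z (x * y) := by
    refine Commute.mul_right (hcomm' x hx z hz).symm ?_
    haveI := hcyc'
    exact (cyclic_commute (W₁ ⊔ W₂') (Subgroup.mem_sup_right hz) (Subgroup.mem_sup_right (hle hy)))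
  have hzN : z ∈ W₁ ⊔ W₂ := by
    rw [← hnorm {x * y} (Set.singleton_subset_iff.mpr hxy) (Set.singleton_nonempty _)]
    refine Subgroup.centralizer_le_normalizer _ ?_
    rw [Subgroup.mem_centralizer_singleton_iff]
    exact hzc.eq
  obtain ⟨a, ha, b, hb, rfl⟩ : ∃ a ∈ W₁, ∃ b ∈ W₂, z = a * b := by
    have hn : W₁ ≤ Subgroup.normalizer (W₂ : Set G) := le_trans
      (fun a ha => Subgroup.mem_centralizer_iff.mpr fun b hb => (hcomm a ha b hb).symm)
      (Subgroup.centralizer_le_normalizer _)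
    rw [← SetLike.mem_coe, Subgroup.coe_mul_of_left_le_normalizer_right W₁ W₂ hn] at hzN
    obtain ⟨a, ha, b, hb, h⟩ := hzN
    exact ⟨a, ha, b, hb, h.symm⟩
  have : a ∈ W₁ ⊓ W₂' := ⟨ha, (Subgroup.mul_mem_cancel_right W₂' (hle hb)).mp hz⟩
  rw [hP.selfNormalizing.2.2.1, Subgroup.mem_bot] at this
  simpa [this] using hb

end Cfsg.Agent.S1386
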