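import Cfsg.Statements.S1387
import Cfsg.Agent.Lib.OddOrder.Basic

set_option autoImplicit false
open Cfsg

namespace Cfsg.Agent.S1387

open CfsgLib.OddOrder.Basic

theorem comm_of_mem {G : Type*} [Group G] [Finite G] {M U : Subgroup G} (hUM : U ≤ M)
    (hd : fittingHallOf M ⊓ U = ⊥) :
    ∀ u ∈ U, u ∈ fittingOf M → u ∈ Subgroup.centralizer (fittingHallOf M : Set G) := by
  intro u hu huF
  haveI := fittingOf_isNilpotent (M := M)
  rw [Subgroup.mem_centralizer_iff]
  intro x hx
  refine (commute_of_mem_nilpotent (fittingHallOf_le_fittingOf hx) huF ?_).eq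
  refine (fittingHallOf_coprime (M := M)).coprime_dvd_left
    (CfsgLib.OddOrder.Stabilize.orderOf_dvd_card_of_mem hx) |>.coprime_dvd_right ?_
  haveI : ((fittingHallOf M).subgroupOf M).Normal :=
    Subgroup.normal_subgroupOf_of_le_normalizer le_normalizer_fittingHallOf
  rw [← Subgroup.orderOf_mk u (hUM hu)]
  refine orderOf_dvd_of_mk (B := U.subgroupOf M) ?_ hu
  rw [eq_bot_iff]
  intro y hy
  have : (y : G) ∈ fittingHallOf M ⊓ U := ⟨hy.1, hy.2⟩
  rw [hd, Subgroup.mem_bot] at this
  exact Subgroup.mem_bot.mpr (Subtype.ext this)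


/-- Let M be a subgroup of a finite group G with type-P data (W₁, U, W₂) and H = M_F. Then the Fitting subgroup F(M) is generated by H and the centralizer of H in U. -/
theorem result {G : Type*} [Group G] [Finite G] (M W₁ U W₂ : Subgroup G) (hP : Cfsg.IsTypePWith M W₁ U W₂) :
    Cfsg.fittingOf M = Cfsg.fittingHallOf M ⊔ (U ⊓ Subgroup.centralizer (Cfsg.fittingHallOf M : Set G)) := by
  set H := fittingHallOf M with hH
  have hUM : U ≤ M := le_trans hP.U_compl.2.1 (Subgroup.commutator_le_self M)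
  have hHF : H ≤ fittingOf M := fittingHallOf_le_fittingOf
  haveI := fittingOf_isNilpotent (M := M)
  have hUc : ∀ u ∈ U, u ∈ fittingOf M → u ∈ Subgroup.centralizer (H : Set G) :=
    comm_of_mem hUM hP.U_compl.2.2.1
  refine le_antisymm ?_ (sup_le hHF fun u hu => ?_)
  · intro c hc
    obtain ⟨h, hh, u, hu, rfl⟩ := hP.U_compl.2.2.2 c (hP.fitting_le hc)
    exact Subgroup.mul_mem_sup hh ⟨hu, hUc u hu ((Subgroup.mul_mem_cancel_left _ (hHF hh)).mp hc)⟩
  · rw [← hP.fitting_eq]
    exact Subgroup.mem_sup_right ⟨hUM hu.1, hu.2⟩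

end Cfsg.Agent.S1387
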