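import Cfsg.Statements.S1388
import Cfsg.Agent.Lib.OddOrder.Basic
import Cfsg.Agent.S1387

set_option autoImplicit false
open Cfsg

namespace Cfsg.Agent.S1388

open CfsgLib.OddOrder.Basic


/-- Let M be a subgroup of a finite group G with type-P data (W₁, U, W₂) and H = M_F. Then the derived subgroup of U centralizes H, and if U ≠ 1 then U does not centralize H. -/
theorem result {G : Type*} [Group G] [Finite G] (M W₁ U W₂ : Subgroup G) (hP : Cfsg.IsTypePWith M W₁ U W₂) :
    ⁅U, U⁆ ≤ Subgroup.centralizer (Cfsg.fittingHallOf M : Set G) ∧ (U ≠ ⊥ → ¬ U ≤ Subgroup.centralizer (Cfsg.fittingHallOf M : Set G)) := by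
  have hUM : U ≤ M := le_trans hP.U_compl.2.1 (Subgroup.commutator_le_self M)
  refine ⟨fun x hx => ?_, fun hU1 hUC => hU1 ?_⟩
  · have hxU : x ∈ U := Subgroup.commutator_le_self U hx
    apply Cfsg.Agent.S1387.comm_of_mem hUM hP.U_compl.2.2.1 x hxU
    rw [← hP.fitting_eq]
    exact hP.derived_two_le (Subgroup.commutator_mono hP.U_compl.2.1 hP.U_compl.2.1 hx)
  · haveI := hP.U_nilpotent
    haveI := fittingHallOf_isNilpotent (M := M)
    have hsup : ⁅M, M⁆ = fittingHallOf M ⊔ U := IsComplIn.eq_sup hP.U_compl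
    have hn : Group.IsNilpotent ↥⁅M, M⁆ := by
      rw [hsup]
      exact isNilpotent_sup_of_commute fun a ha b hb => Subgroup.mem_centralizer_iff.mp (hUC hb) a ha
    have hcop : (Nat.card ↥⁅M, M⁆).Coprime (⁅M, M⁆.relIndex M) := by
      rw [IsComplIn.relIndex_left hP.W₁_compl, ← IsComplIn.relIndex_right hP.W₁_compl]
      exact hP.W₁_hall.symm
    have hle : ⁅M, M⁆ ≤ fittingHallOf M :=
      le_fittingHallOf (Subgroup.commutator_le_self M) (Subgroup.normalizer_commutator_ge_left M M) hn hcop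
    rw [eq_bot_iff, ← hP.U_compl.2.2.1]
    exact le_inf (le_trans hP.U_compl.2.1 hle) le_rfl

end Cfsg.Agent.S1388
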