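import Cfsg.Statements.S1525
import Cfsg.Agent.Lib.Char.Dade
-- import your own Cfsg.Agent.* helpers here

set_option autoImplicit false
open Cfsg

namespace Cfsg.Agent.S1525

/-- Under the Dade hypothesis for (A, L, H), let χ be a class function of G and let ψ be a function on L whose value at each a ∈ A is the average of χ over the coset a·H(a). Then (1/|G|) Σ |χ g|² over the elements g of G conjugate into some coset a·H(a) with a ∈ A is at least (1/|L|) Σ_{a ∈ A ∩ L} |ψ a|². -/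
theorem result {G : Type*} [Group G] [Fintype G] (A : Set G) (L : Subgroup G) [Fintype L] (H : G → Subgroup G) (hD : Cfsg.DadeHypothesis A L H) (χ : G → ℂ) (hχ : Cfsg.IsClassFunction G χ) (ψ : L → ℂ) (hψ : ∀ a : L, (a : G) ∈ A → ψ a = (Nat.card (H a) : ℂ)⁻¹ * ∑ᶠ u ∈ (H a : Set G), χ (a * u)) : (Nat.card L : ℝ)⁻¹ * ∑ᶠ a ∈ {a : L | (a : G) ∈ A}, ‖ψ a‖ ^ 2 ≤ (Nat.card G : ℝ)⁻¹ * ∑ᶠ g ∈ {g : G | ∃ a ∈ A, ∃ u ∈ H a, ∃ x : G, x * g * x⁻¹ = a * u}, ‖χ g‖ ^ 2 := by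

  classical
  have hset : {g : G | ∃ a ∈ A, ∃ u ∈ H a, ∃ x : G, x * g * x⁻¹ = a * u} =
      ((Finset.univ.filter (· ∈ CfsgLib.Char.Dade.supp A L H) : Finset G) : Set G) := by
    ext g
    simp only [Finset.coe_filter, Finset.mem_univ, true_and, Set.mem_ofPred_eq]
    exact ⟨fun ⟨a, ha, u, hu, x, e⟩ => ⟨⟨a, hD.subset ha⟩, ha, x, u, hu, e⟩,
      fun ⟨a, ha, x, u, hu, e⟩ => ⟨a, ha, u, hu, x, e⟩⟩
  have hset' : {a : L | (a : G) ∈ A} =
      ((Finset.univ.filter (fun a : L => (a : G) ∈ A) : Finset L) : Set L) := by ext a; simp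
  rw [hset, hset', finsum_mem_coe_finset, finsum_mem_coe_finset]
  have key := CfsgLib.Char.Dade.sum_supp hD (fun g => ‖χ g‖ ^ 2)
    (fun g y => by rw [hχ g y])
  set S := ∑ g ∈ Finset.univ.filter (· ∈ CfsgLib.Char.Dade.supp A L H), ‖χ g‖ ^ 2
  have hle : ∑ a ∈ Finset.univ.filter (fun a : L => (a : G) ∈ A), ‖ψ a‖ ^ 2 ≤
      ∑ a ∈ Finset.univ.filter (fun a : L => (a : G) ∈ A),
        (Nat.card (H a) : ℝ)⁻¹ * ∑ u : H a, ‖χ ((a : G) * u)‖ ^ 2 := by
    refine Finset.sum_le_sum fun a ha => ?_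
    rw [hψ a (Finset.mem_filter.mp ha).2, ← finsum_set_coe_eq_finsum_mem,
      finsum_eq_sum_of_fintype, norm_mul, norm_inv, Complex.norm_natCast, mul_pow]
    have hk : (0 : ℝ) < Nat.card (H (a : G)) := Nat.cast_pos.mpr Nat.card_pos
    have h1 := norm_sum_le (Finset.univ : Finset (H (a : G))) fun u => χ ((a : G) * u)
    have h2 := sq_sum_le_card_mul_sum_sq (s := (Finset.univ : Finset (H (a : G))))
      (f := fun u => ‖χ ((a : G) * u)‖)
    rw [Finset.card_univ, ← Nat.card_eq_fintype_card] at h2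
    have h3 := (pow_le_pow_left₀ (norm_nonneg _) h1 2).trans h2
    refine (mul_le_mul_of_nonneg_left h3 (sq_nonneg _)).trans (le_of_eq ?_)
    field_simp
  have hG : (0 : ℝ) < Nat.card G := Nat.cast_pos.mpr Nat.card_pos
  have hL : (0 : ℝ) < Nat.card L := Nat.cast_pos.mpr Nat.card_pos
  rw [inv_mul_le_iff₀ hL, mul_left_comm, le_inv_mul_iff₀ hG]
  calc (Nat.card G : ℝ) * _ ≤ (Nat.card G : ℝ) * _ := mul_le_mul_of_nonneg_left hle hG.le
    _ = (Nat.card L : ℝ) * S := key.symm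


end Cfsg.Agent.S1525
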