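import Cfsg.Statements.S1494
import Cfsg.Agent.Lib.Char.Constituent
-- import your own Cfsg.Agent.* helpers here

set_option autoImplicit false
open Cfsg

namespace Cfsg.Agent.S1494

open CfsgLib.Char in
theorem exists_omega_char {G : Type*} [Group G] [Finite G] (χ : G → ℂ) (hχ : Cfsg.IsCharacter G χ)
    (p : ℕ) (hp : p.Prime) (x y : G) (hx : orderOf x = p) (hxy : x * y = y * x) :
    ∃ ω : ℂ, IsIntegral ℤ ω ∧
      χ (x * y) - χ y = (1 - Complex.exp (2 * Real.pi * Complex.I / p)) * ω := by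
  classical
  set ε := Complex.exp (2 * Real.pi * Complex.I / p)
  have hε : IsPrimitiveRoot ε p := Complex.isPrimitiveRoot_exp p hp.ne_zero
  have hεi : IsIntegral ℤ ε := hε.isIntegral hp.pos
  let A : Subgroup G := Subgroup.closure {x, y}
  have hAc : IsMulCommutative A := Subgroup.isMulCommutative_closure (by
    rintro a ha b hb
    simp only [Set.mem_insert_iff, Set.mem_singleton_iff] at ha hb
    rcases ha with rfl | rfl <;> rcases hb with rfl | rfl <;> simp [hxy])
  cases nonempty_fintype A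
  let x' : A := ⟨x, Subgroup.subset_closure (Set.mem_insert x _)⟩
  let y' : A := ⟨y, Subgroup.subset_closure (Set.mem_insert_of_mem x rfl)⟩
  obtain ⟨m, hm, hexp⟩ := IsCharacter.exists_multiplicity (IsCharacter.restrict hχ A)
  have hterm : ∀ φ : Cfsg.IrrCharacter A, ∃ w : ℂ, IsIntegral ℤ w ∧
      (φ : A → ℂ) (x' * y') - (φ : A → ℂ) y' = (1 - ε) * w := by
    intro φ
    obtain ⟨f, hf⟩ := exists_hom_of_apply_one_eq_one (isCharacter_irr φ)
      (apply_one_eq_one_of_comm (fun a b => hAc.is_comm.comm a b) φ.2)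
    have hfx : ((f x' : ℂˣ) : ℂ) ^ p = 1 := by
      rw [← Units.val_pow_eq_pow_val, ← map_pow, show x' ^ p = 1 from Subtype.ext (by
        simp [x', ← hx, pow_orderOf_eq_one]), map_one, Units.val_one]
    have : NeZero p := ⟨hp.ne_zero⟩
    obtain ⟨j, -, hj⟩ := hε.eq_pow_of_pow_eq_one hfx
    refine ⟨-(∑ i ∈ Finset.range j, ε ^ i) * (f y' : ℂ),
      (IsIntegral.neg (IsIntegral.sum _ fun i _ => hεi.pow i)).mul ?_, ?_⟩
    · have := (IsCharacter.isIntegral (isCharacter_irr φ) y')
      rwa [hf] at this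
    · simp only [hf, map_mul, Units.val_mul, ← hj]
      linear_combination (-(f y' : ℂ)) * geom_sum_mul ε j
  choose w hw hwe using hterm
  refine ⟨∑ φ, (m φ : ℂ) * w φ, IsIntegral.sum _ fun φ _ => (isIntegral_natCast _).mul (hw φ), ?_⟩
  rw [show χ (x * y) = _ from hexp (x' * y'), show χ y = _ from hexp y', ← Finset.sum_sub_distrib,
    Finset.mul_sum]
  exact Finset.sum_congr rfl fun φ _ => by rw [← mul_sub, hwe]; ring

theorem exists_omega {G : Type*} [Group G] [Finite G] (χ : G → ℂ)
    (hχ : Cfsg.IsGeneralizedCharacter G χ) (p : ℕ) (hp : p.Prime) (x y : G) (hx : orderOf x = p)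
    (hxy : x * y = y * x) :
    ∃ ω : ℂ, IsIntegral ℤ ω ∧
      χ (x * y) - χ y = (1 - Complex.exp (2 * Real.pi * Complex.I / p)) * ω := by
  obtain ⟨a, b, ha, hb, rfl⟩ := hχ
  obtain ⟨u, hu, hue⟩ := exists_omega_char a ha p hp x y hx hxy
  obtain ⟨v, hv, hve⟩ := exists_omega_char b hb p hp x y hx hxy
  exact ⟨u - v, hu.sub hv, by simp only [Pi.sub_apply]; linear_combination hue - hve⟩

/-- Let χ be a generalized character of the finite group G, p a prime, x an element of order p and y an element commuting with x. Then χ(x * y) − χ(y) = (1 − ε) * ω for some algebraic integer ω, where ε = exp(2πi/p). -/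
theorem result {G : Type*} [Group G] [Finite G] (χ : G → ℂ) (hχ : Cfsg.IsGeneralizedCharacter G χ) (p : ℕ) (hp : p.Prime) (x y : G) (hx : orderOf x = p) (hxy : x * y = y * x) : ∃ ω : ℂ, IsIntegral ℤ ω ∧ χ (x * y) - χ y = (1 - Complex.exp (2 * Real.pi * Complex.I / p)) * ω := by
  exact exists_omega χ hχ p hp x y hx hxy


end Cfsg.Agent.S1494
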