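import Cfsg.Statements.S1495
import Cfsg.Agent.Lib.Char.Integral
-- import your own Cfsg.Agent.* helpers here

set_option autoImplicit false
open Cfsg

namespace Cfsg.Agent.S1495

theorem dvd_of_eq (p : ℕ) (hp : p.Prime) (n : ℤ) (ω : ℂ) (hω : IsIntegral ℤ ω)
    (h : (n : ℂ) = (1 - Complex.exp (2 * Real.pi * Complex.I / p)) * ω) : (p : ℤ) ∣ n := by
  classical
  have : Fact p.Prime := ⟨hp⟩
  set ε := Complex.exp (2 * Real.pi * Complex.I / p)
  have hε : IsPrimitiveRoot ε p := Complex.isPrimitiveRoot_exp p hp.ne_zero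
  have : NeZero p := ⟨hp.ne_zero⟩
  have hfac : ∀ μ ∈ primitiveRoots p ℂ, ∃ u : ℂ, IsIntegral ℤ u ∧ (n : ℂ) = (1 - μ) * u := by
    intro μ hμ
    rw [mem_primitiveRoots hp.pos] at hμ
    obtain ⟨j, -, hj⟩ := hμ.eq_pow_of_pow_eq_one hε.pow_eq_one
    refine ⟨(∑ i ∈ Finset.range j, μ ^ i) * ω,
      (IsIntegral.sum _ fun i _ => (hμ.isIntegral hp.pos).pow i).mul hω, ?_⟩
    rw [h, ← hj]
    linear_combination ω * geom_sum_mul μ j
  choose u hu hue using hfac
  have hprod : (n : ℂ) ^ (p - 1) =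
      (p : ℂ) * ∏ μ ∈ (primitiveRoots p ℂ).attach, u μ.1 μ.2 := by
    have h1 : ∏ μ ∈ (primitiveRoots p ℂ).attach, ((1 : ℂ) - μ.1) = p := by
      rw [Finset.prod_attach _ fun μ => (1 : ℂ) - μ,
        ← Polynomial.eval_one_cyclotomic_prime (R := ℂ) (p := p),
        Polynomial.cyclotomic_eq_prod_X_sub_primitiveRoots hε, Polynomial.eval_prod]
      simp
    rw [← h1, ← Finset.prod_mul_distrib, Finset.prod_congr rfl fun μ _ => (hue μ.1 μ.2).symm,
      Finset.prod_const, Finset.card_attach, hε.card_primitiveRoots, Nat.totient_prime hp]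
  have hd : IsIntegral ℤ (((n.natAbs ^ (p - 1) : ℕ) : ℂ) / p) := by
    have hp0 : (p : ℂ) ≠ 0 := by exact_mod_cast hp.ne_zero
    have h2 : IsIntegral ℤ ((n : ℂ) ^ (p - 1) / p) := by
      rw [hprod, mul_div_cancel_left₀ _ hp0]
      exact IsIntegral.prod _ fun μ _ => hu μ.1 μ.2
    rcases Int.natAbs_eq n with e | e
    · push_cast
      rwa [show ((n.natAbs : ℕ) : ℂ) = n by rw [← Int.cast_natCast, ← e]]
    · push_cast
      rw [show ((n.natAbs : ℕ) : ℂ) = -n by rw [← Int.cast_natCast, ← Int.cast_neg]; congr 1; omega,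
        neg_pow, mul_div_assoc]
      exact (isIntegral_one.neg.pow _).mul h2
  have h3 := hp.dvd_of_dvd_pow (CfsgLib.Char.dvd_of_isIntegral_div hp.ne_zero hd)
  exact Int.natCast_dvd.mpr h3

/-- Let p be a prime, ε = exp(2πi/p), and n an integer such that n = (1 − ε) * ω for some algebraic integer ω. Then p divides n. -/
theorem result (p : ℕ) (hp : p.Prime) (n : ℤ) (ω : ℂ) (hω : IsIntegral ℤ ω) (h : (n : ℂ) = (1 - Complex.exp (2 * Real.pi * Complex.I / p)) * ω) : (p : ℤ) ∣ n := by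
  exact dvd_of_eq p hp n ω hω h


end Cfsg.Agent.S1495
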