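import Cfsg.Statements.S1427
import Cfsg.Agent.Lib.OddOrder.CyclicFix

set_option autoImplicit false
set_option linter.style.haveILetI false
open Cfsg

namespace Cfsg.Agent.S1427

/-- Let G be a minimal simple group of odd order, M a maximal subgroup, E a complement to M_σ in M, and S a nontrivial cyclic Sylow subgroup of E (for some prime). Then M_σ ∩ C_G(x) = M_σ ∩ C_G(S) for every non-identity x ∈ S. -/
theorem result {G : Type*} [Group G] [Finite G] (hG : Cfsg.IsMinSimpleOddOrder G)
    (M : Subgroup G) (hM : IsCoatom M) (E : Subgroup G) (hE : Cfsg.IsComplIn E (Cfsg.sigmaCore M) M) (p : ℕ) [Fact p.Prime] (S : Sylow p E) (hS1 : (S : Subgroup E) ≠ ⊥) (hSc : IsCyclic (S : Subgroup E)) :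
    ∀ x ∈ (S : Subgroup E).map E.subtype, x ≠ 1 →
        Cfsg.sigmaCore M ⊓ Subgroup.centralizer ({x} : Set G) = Cfsg.sigmaCore M ⊓ Subgroup.centralizer (((S : Subgroup E).map E.subtype : Subgroup G) : Set G) := by
  set R := (S : Subgroup E).map E.subtype with hR
  have hRE : R ≤ E := Subgroup.map_subtype_le _
  have hRM : R ≤ M := hRE.trans hE.1
  have hRp : IsPGroup p R := S.isPGroup'.map _
  have hpE : p ∣ Nat.card E := (S.isPGroup'.card_eq_or_dvd.resolve_left fun e =>
    hS1 (Subgroup.eq_bot_of_card_eq _ e)).trans (Subgroup.card_subgroup_dvd_card _)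
  have hps : p ∉ Cfsg.sigma M := fun h => CfsgLib.OddOrder.SigmaComplement.not_dvd_card hG hM hE h hpE
  have hRc : Nat.card R = p ^ (Nat.card M).factorization p := by
    rw [hR, CfsgLib.Coprime.card_map_subtype, S.card_eq_multiplicity]
    congr 1
    rw [← Subgroup.card_mul_index (Cfsg.piCore (Cfsg.sigma M) M), Nat.factorization_mul Nat.card_pos.ne'
      Subgroup.index_ne_zero_of_finite, Finsupp.add_apply, ← CfsgLib.OddOrder.SigmaComplement.card_E hE,
      Nat.factorization_eq_zero_of_not_dvd fun hd =>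
        hps (CfsgLib.OddOrder.SigmaBasics.mem_of_dvd_piCore (Fact.out : p.Prime) hd), zero_add]
  obtain ⟨S₀, hS₀⟩ := CfsgLib.Coprime.exists_sylow_map_eq hRM hRc
  haveI hRcyc : IsCyclic R := by
    haveI := hSc
    exact isCyclic_of_surjective ((S : Subgroup E).equivMapOfInjective _ E.subtype_injective) (MulEquiv.surjective _)
  have hr1 : Cfsg.PRankLE p 1 M := by
    refine CfsgLib.OddOrder.SigmaFusion.pRankLE_of_sylow S₀ fun A hAc hAe => ?_
    haveI : IsCyclic ↥((S₀ : Subgroup M).map M.subtype) := by rw [hS₀]; infer_instance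
    haveI : IsCyclic (S₀ : Subgroup M) := isCyclic_of_surjective
      ((S₀ : Subgroup M).equivMapOfInjective _ M.subtype_injective).symm (MulEquiv.surjective _)
    haveI : IsCyclic A := inferInstance
    rw [pow_one, ← IsCyclic.exponent_eq_card]
    exact Nat.le_of_dvd (Fact.out : p.Prime).pos
      (Monoid.exponent_dvd_of_forall_pow_eq_one fun a => Subtype.ext (by simpa using hAe a a.2))
  intro x hx hx1
  refine le_antisymm (le_inf inf_le_left ?_)
    (inf_le_inf_left _ (Subgroup.centralizer_le (Set.singleton_subset_iff.mpr hx)))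
  obtain ⟨k, hk⟩ := IsPGroup.iff_orderOf.mp hRp ⟨x, hx⟩
  rw [Subgroup.orderOf_mk] at hk
  have hk0 : k ≠ 0 := fun e => hx1 (orderOf_eq_one_iff.mp (by rw [hk, e, pow_zero]))
  set y := x ^ (orderOf x / p) with hy
  have hyo : orderOf y = p := orderOf_pow_orderOf_div (orderOf_pos x).ne' (hk ▸ dvd_pow_self p hk0)
  have hyR : y ∈ R := pow_mem hx _
  have hRab : IsMulCommutative R := inferInstance
  set D := Cfsg.sigmaCore M ⊓ Subgroup.centralizer ({y} : Set G) with hD
  have hle : Cfsg.sigmaCore M ⊓ Subgroup.centralizer ({x} : Set G) ≤ D := by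
    refine inf_le_inf_left _ fun c hc => Subgroup.mem_centralizer_singleton_iff.mpr ?_
    exact (Commute.pow_right (show Commute c x from Subgroup.mem_centralizer_singleton_iff.mp hc) _).eq
  refine hle.trans ?_
  have hRC : R ≤ Subgroup.centralizer ({y} : Set G) := fun r hr => Subgroup.mem_centralizer_singleton_iff.mpr
    (CfsgLib.OddOrder.PlaneSylow.comm_of hRab hr hyR).eq
  have hRD : R ≤ Subgroup.normalizer (D : Set G) :=
    (le_inf (hRM.trans (CfsgLib.OddOrder.SigmaTools.le_normalizer_sigmaCore M))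
      (hRC.trans Subgroup.le_normalizer)).trans Subgroup.inf_normalizer_le_normalizer_inf
  have hcop : (Nat.card R).Coprime (Nat.card D) := by
    rw [hRc]
    exact ((CfsgLib.OddOrder.SigmaTools.coprime_sigmaCore hps).coprime_dvd_left
      (Subgroup.card_dvd_of_le inf_le_left)).symm.pow_left _
  have htop : (Subgroup.centralizer (R : Set G)).subgroupOf D = ⊤ := by
    refine CfsgLib.Solvable.Cores.eq_top_of_sylow_le _ fun q hq => ?_
    haveI := Fact.mk hq
    obtain ⟨T, hT⟩ := CfsgLib.Coprime.exists_invariant_sylow hRD hcop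
      (Or.inl (Group.isSolvable_of_comm fun a b => hRab.1.comm a b)) q
    refine ⟨T, fun z hz => ?_⟩
    rcases T.isPGroup'.card_eq_or_dvd with h1 | h1
    · rw [Subgroup.eq_bot_of_card_eq _ h1, Subgroup.mem_bot] at hz
      rw [hz]; exact one_mem _
    have hTD : (T : Subgroup D).map D.subtype ≤ D := Subgroup.map_subtype_le _
    exact CfsgLib.OddOrder.CyclicFix.centralizes hG hM hps hr1
      (CfsgLib.OddOrder.SigmaTools.mem_sigma_of_card ((h1.trans (Subgroup.card_subgroup_dvd_card _)).trans
        (Subgroup.card_dvd_of_le inf_le_left)))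
      (T.isPGroup'.map _) ((hTD.trans inf_le_left).trans (CfsgLib.OddOrder.SigmaTools.sigmaCore_le M))
      hRp hRM hT hyR hyo (hTD.trans inf_le_right) ⟨z, hz, rfl⟩
  intro d hd
  exact (htop.ge (Subgroup.mem_top (⟨d, hd⟩ : D)) :)

end Cfsg.Agent.S1427
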