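import Cfsg.Statements.S1397
import Cfsg.Agent.Lib.OddOrder.LargeFitting
import Cfsg.Agent.S1396

set_option autoImplicit false
open Cfsg
open CfsgLib CfsgLib.OddOrder

namespace Cfsg.Agent.S1397

/-- Let G be a minimal simple group of odd order, M a maximal subgroup, p a prime and A₀ an elementary abelian p-subgroup of F(M) of order at least p ^ 3 that is maximal among elementary abelian p-subgroups of F(M). (a) If F(M) is not a p-group, then F(M) ∩ C_G(A₀) lies in exactly one maximal subgroup of G. (b) If F(M) is a p-group and P is a Sylow p-subgroup of M, then p does not divide the index of P in G, and every normal self-centralizing subgroup A of P containing an elementary abelian subgroup of order p ^ 3 is contained in F(M) and lies in exactly one maximal subgroup of G. -/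
theorem result {G : Type*} [Group G] [Finite G] (hG : Cfsg.IsMinSimpleOddOrder G)
    (M : Subgroup G) (hM : IsCoatom M) (p : ℕ) [Fact p.Prime] (A₀ : Subgroup G)
    (hA₀ : A₀ ≤ Cfsg.fittingOf M) (hA₀e : Cfsg.IsElementaryAbelian p A₀) (hA₀3 : p ^ 3 ≤ Nat.card A₀)
    (hA₀max : ∀ B : Subgroup G, B ≤ Cfsg.fittingOf M → Cfsg.IsElementaryAbelian p B → A₀ ≤ B → B = A₀) :
    (¬ IsPGroup p ↥(Cfsg.fittingOf M) → Cfsg.InUniqueMaximal (Cfsg.fittingOf M ⊓ Subgroup.centralizer (A₀ : Set G))) ∧
      (IsPGroup p ↥(Cfsg.fittingOf M) → ∀ P : Sylow p M,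
        ¬ p ∣ ((P : Subgroup M).map M.subtype).index ∧
        ∀ A : Subgroup G, Cfsg.IsSCN ((P : Subgroup M).map M.subtype) A → ¬ Cfsg.PRankLE p 2 ↥A →
          A ≤ Cfsg.fittingOf M ∧ Cfsg.InUniqueMaximal A) := by
  obtain ⟨hodd, hmin⟩ := hG
  have hp : p.Prime := Fact.out
  set F := Cfsg.fittingOf M with hF
  haveI : Group.IsNilpotent F := Basic.fittingOf_isNilpotent (M := M)
  have hFM : F ≤ M := Subgroup.map_subtype_le _
  have hA₀p : IsPGroup p A₀ := Fusion.Thompson.isPGroup_isEA hA₀e
  have hA₀1 : A₀ ≠ ⊥ := fun h => by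
    rw [h, Subgroup.card_bot] at hA₀3
    exact absurd hA₀3 (not_le.mpr (Nat.one_lt_pow (by norm_num) hp.one_lt))
  have hpA₀ : p ∣ Nat.card A₀ :=
    hA₀p.card_eq_or_dvd.resolve_left fun h1 => hA₀1 (Subgroup.eq_bot_of_card_eq _ h1)
  have hpF : p ∣ Nat.card F := hpA₀.trans (Subgroup.card_dvd_of_le hA₀)
  have hrank : ∀ A : Subgroup G, A₀ ≤ A → A₀ ≤ Subgroup.centralizer (A : Set G) →
      ¬ Cfsg.RankLE 2 ↥(A ⊓ Subgroup.centralizer (A : Set G)) := fun A h1 h2 h => by
    have := RankTwo.card_le_sq (h p hp) hA₀e (le_inf h1 h2)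
    exact absurd (Nat.pow_lt_pow_right hp.one_lt (show 2 < 3 by norm_num)) (not_lt.mpr (hA₀3.trans this))
  refine ⟨fun hnp => ?_, fun hFp P => ?_⟩
  · -- at least two primes divide `|F(M)|`
    have htwo : 2 ≤ (Nat.card F).primeFactors.card := by
      obtain ⟨r, hr, hrF, hrp⟩ : ∃ r : ℕ, r.Prime ∧ r ∣ Nat.card F ∧ r ≠ p := by
        by_contra hn
        push Not at hn
        exact hnp (IsPGroup.of_card (n := (Nat.card F).primeFactorsList.length)
          (Nat.eq_prime_pow_of_unique_prime_dvd Nat.card_pos.ne' fun {d} hd hdF => hn d hd hdF))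
      exact Finset.one_lt_card.mpr ⟨r, hr.mem_primeFactors hrF Nat.card_pos.ne', p,
        hp.mem_primeFactors hpF Nat.card_pos.ne', hrp⟩
    set A := F ⊓ Subgroup.centralizer (A₀ : Set G) with hA
    haveI := hA₀e.1
    have hA₀A : A₀ ≤ A := le_inf hA₀ A₀.le_centralizer
    have hCA : F ⊓ Subgroup.centralizer (A : Set G) ≤ A :=
      inf_le_inf_left _ (Subgroup.centralizer_le hA₀A)
    have hS : Bender.Setting M A := Bender.setting hmin hM htwo inf_le_left
      (le_trans (inf_le_inf_left _ (Subgroup.centralizer_le inf_le_left)) hCA)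
    have hprimes : ∀ t : ℕ, t.Prime → t ∣ Nat.card F → t ∣ Nat.card A := by
      intro t ht htF
      haveI := Fact.mk ht
      obtain ⟨hne, -, hle, -⟩ := hS.centrePart htF
      exact (((Bender.isPGroup_part t M).to_le inf_le_left).card_eq_or_dvd.resolve_left
        fun h1 => hne (Subgroup.eq_bot_of_card_eq _ h1)).trans
        (Subgroup.card_dvd_of_le (hle.trans inf_le_left))
    have hcong : ∀ {a : ℕ}, a.Coprime (Nat.card A) → a.Coprime (Nat.card F) := fun h =>
      LargeFitting.coprime_congr Nat.card_pos.ne' hprimes h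
    have hXA : M ⊓ Subgroup.centralizer (F : Set G) ≤ A := by
      refine le_trans ?_ hCA
      exact le_inf (Bender.inf_centralizer_fitting_le hmin hM.1)
        (inf_le_right.trans (Subgroup.centralizer_le inf_le_left))
    have hT : Cfsg.TransitivityHypothesis A := by
      refine ⟨fun h => hA₀1 (le_bot_iff.mp (h ▸ hA₀A)), fun h => hM.1 (top_le_iff.mp (h ▸ (inf_le_left.trans hFM))),
        fun X hX hAX => le_antisymm (sSup_le fun Y hY => ?_) (le_sSup ?_)⟩
      · have hc := hcong (Transitivity.piNum_iff.mp hY.2.1)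
        have h := hS.le_core hCA (hmin.2.2 X hX) (hAX.trans Subgroup.le_normalizer)
          (hXA.trans (hAX.trans Subgroup.le_normalizer)) hY.1 hc hY.2.2
        refine h.trans (Transitivity.le_piCoreOf (Transitivity.piCoreOf_le _ _)
          (Transitivity.le_normalizer_piCoreOf _ _) ?_)
        exact (Transitivity.coprime_piCoreOf _ _).coprime_dvd_right (Subgroup.card_dvd_of_le inf_le_left)
      · exact ⟨Transitivity.piCoreOf_le _ _, Transitivity.piNum_iff.mpr (Transitivity.coprime_piCoreOf _ _),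
          hAX.trans (Transitivity.le_normalizer_piCoreOf _ _)⟩
    have hD : Cfsg.piCoreOf (Cfsg.primesNotDvd (Nat.card A)) (Subgroup.centralizer (A : Set G)) = ⊥ := by
      refine hS.centralized_eq_bot hCA ?_ (Transitivity.piCoreOf_le _ _) ?_
        (hcong (Transitivity.coprime_piCoreOf _ _))
      · refine Coprime.isSolvable_of_le ((Transitivity.piCoreOf_le _ _).trans ?_) (hmin.2.2 M hM.1)
        exact (Subgroup.centralizer_le inf_le_left).trans (hS.centralizer_le hpF)
      · exact hXA.trans (Subgroup.le_normalizer.trans ((Bender.normalizer_le_normalizer_centralizer A).trans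
          (Transitivity.normalizer_le_normalizer_piCoreOf _ _)))
    have hA₀CA : A₀ ≤ Subgroup.centralizer (A : Set G) := Subgroup.le_centralizer_iff.mp inf_le_right
    refine ⟨M, ⟨hM, inf_le_left.trans hFM⟩, fun L hL => ?_⟩
    refine Bender.unique hmin hodd hM hL.1 hS (fun Y hYL hn hcop => ?_) hL.2
    exact LargeFitting.inv_eq_bot ⟨hodd, hmin⟩ hM inf_le_left (Frobenius.Zipper.isSubnormal_of_isNilpotent _) hT
      (hrank A hA₀A hA₀CA) hprimes hD (hcop.coprime_dvd_right (Subgroup.card_dvd_of_le inf_le_left))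
      (hL.2.trans hn)
  · -- `F(M)` is a `p`-group
    haveI hsM : Group.IsSolvable M := hmin.2.2 M hM.1
    have hp2 : p ≠ 2 := fun h => Nat.not_even_iff_odd.mpr hodd (even_iff_two_dvd.mpr
      (h ▸ hpA₀.trans A₀.card_subgroup_dvd_card))
    obtain ⟨j, hj⟩ := hFp.exists_card_eq
    have hcopF : ∀ {a : ℕ}, a.Coprime p → a.Coprime (Nat.card F) := fun h => by
      rw [hj]; exact h.pow_right j
    set R := (P : Subgroup M).map M.subtype with hR
    have hRp : IsPGroup p R := P.isPGroup'.map _
    have hFR : F ≤ R := by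
      intro x hx
      obtain ⟨k, hk⟩ := IsPGroup.iff_orderOf.mp hFp ⟨x, hx⟩
      rw [Subgroup.orderOf_mk] at hk
      exact Subgroup.map_mono (Solvable.Cores.pCore_le_sylow P) (Bender.mem_part (r := p) hx ⟨k, hk⟩)
    have hR1 : R ≠ ⊥ := fun h => hA₀1 (le_bot_iff.mp (h ▸ hA₀.trans hFR))
    have hK : (Cfsg.pPrimeCore p M).map M.subtype = ⊥ :=
      Bender.noCore_self hmin hM.1 _ (Subgroup.map_subtype_le _) SylowLocal.le_normalizer_coreOf
        (hcopF SylowLocal.coreOf_coprime)
    have hK' : Cfsg.pPrimeCore p M = ⊥ := (Subgroup.map_eq_bot_iff_of_injective _ M.subtype_injective).mp hK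
    set Z := Cfsg.centerThompsonOf p R with hZ
    have hZ1 : Z ≠ ⊥ := SylowLocal.centerThompsonOf_ne_bot hRp hR1
    have hMZ : M ≤ Subgroup.normalizer (Z : Set G) :=
      SylowLocal.le_of_center_thompson (Uniqueness.odd_of_le hodd M) P (by rw [hK]; exact bot_le) inf_le_right
    have hNZ : Subgroup.normalizer (Z : Set G) = M := by
      haveI : Group.IsNilpotent Z :=
        (hRp.to_le (inf_le_left.trans (Fusion.Thompson.thompsonSubgroupOf_le R))).isNilpotent
      exact (hM.le_iff.mp hMZ).resolve_left (Uniqueness.normalizer_ne_top hmin hZ1 inferInstance)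
    have hNR : Subgroup.normalizer (R : Set G) ≤ M := (ZJ.centerThompsonOf_normalizer R).trans hNZ.le
    obtain ⟨S, hS⟩ := hRp.exists_le_sylow
    have hSR : (S : Subgroup G) = R := by
      by_contra hne
      have h1 := Coprime.lt_normalizer_inf_of_lt S.isPGroup' (lt_of_le_of_ne hS (Ne.symm hne))
      set U := (S : Subgroup G) ⊓ Subgroup.normalizer (R : Set G) with hU
      have hUM : U ≤ M := inf_le_right.trans hNR
      have h2 : (P : Subgroup M) ≤ U.subgroupOf M := fun x hx => h1.le (Subgroup.mem_map_of_mem _ hx)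
      have h3 := P.is_maximal' ((S.isPGroup'.to_le inf_le_left).of_equiv
        (Subgroup.subgroupOfEquivOfLe hUM).symm) h2
      apply h1.ne
      rw [hR, ← h3, Subgroup.subgroupOf_map_subtype, inf_eq_left.mpr hUM]
    refine ⟨by rw [← hSR]; exact S.not_dvd_index, fun A hA hA3 => ?_⟩
    haveI hAc := SCNTransitivity.isMulCommutative_of_scn hA
    have hAM : A ≤ M := hA.1.trans (Subgroup.map_subtype_le _)
    haveI : IsMulCommutative (A.subgroupOf M) := Subgroup.le_centralizer_iff_isMulCommutative.mp fun x hx =>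
      Subgroup.mem_centralizer_iff.mpr fun y hy => Subtype.ext
        (Subgroup.mem_centralizer_iff.mp (A.le_centralizer hx) y hy)
    have hAF : A ≤ F := by
      have hmemP : ∀ x : M, (x : G) ∈ R → x ∈ (P : Subgroup M) := fun x hx => by
        obtain ⟨y, hy, hxy⟩ := hx
        exact M.subtype_injective hxy ▸ hy
      have h := SylowLocal.le_pPrimePCore_of_abelian (Uniqueness.odd_of_le hodd M) P (A.subgroupOf M)
        (fun x hx => hmemP x (hA.1 hx))
        (fun x hx => Subgroup.le_normalizer_comap M.subtype (hA.2.1 (Subgroup.mem_map_of_mem M.subtype hx)))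
      have h2 : Cfsg.pPrimePCore p M ≤ Cfsg.pCore p M := by
        haveI : (Cfsg.pPrimePCore p M).Normal := by rw [Cfsg.pPrimePCore]; infer_instance
        refine Solvable.Cores.le_pCore ?_
        rw [Cfsg.pPrimePCore]
        exact (Solvable.Cores.isPGroup_pCore p).comap_of_ker_isPGroup _ (by
          rw [QuotientGroup.ker_mk', hK']; exact IsPGroup.of_bot)
      exact fun x hx => Bender.part_le_fitting M
        ⟨⟨x, hAM hx⟩, h2 (h (show (⟨x, hAM hx⟩ : M) ∈ A.subgroupOf M from hx)), rfl⟩
    refine ⟨hAF, ?_⟩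
    have hr1 : ¬ Cfsg.PRankLE p 1 A := fun h => hA3 fun B h1 h2 =>
      (h B h1 h2).trans (Nat.pow_le_pow_right hp.pos one_le_two)
    have hA1 : A ≠ ⊥ := fun h => hA3 (by
      intro B _ _
      subst h
      rw [Subgroup.eq_bot_of_subsingleton B, Subgroup.card_bot]
      exact Nat.one_le_pow _ _ hp.pos)
    have hAp : IsPGroup p A := hRp.to_le hA.1
    have hpA : p ∣ Nat.card A := hAp.card_eq_or_dvd.resolve_left fun h1 => hA1 (Subgroup.eq_bot_of_card_eq _ h1)
    have hT := Cfsg.Agent.S1396.result ⟨hodd, hmin⟩ p (hpA.trans A.card_subgroup_dvd_card) A hAp hAc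
      (Or.inr ⟨S, hSR.symm ▸ hA, hr1⟩)
    have hZA : ¬ Cfsg.RankLE 2 ↥(A ⊓ Subgroup.centralizer (A : Set G)) := by
      rw [inf_eq_left.mpr A.le_centralizer]; exact fun h => hA3 (h p hp)
    have hFCA : F ⊓ Subgroup.centralizer (A : Set G) ≤ A := (inf_le_inf_right _ hFR).trans hA.2.2.le
    have hCM : Subgroup.centralizer (A : Set G) ≤ M := by
      set W := F ⊓ Subgroup.centralizer (F : Set G) with hW
      have hWA : W ≤ A := le_trans (inf_le_inf_left F (Subgroup.centralizer_le hAF)) hFCA
      have hMW : M ≤ Subgroup.normalizer (W : Set G) :=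
        le_trans (le_inf (Subgroup.le_normalizer.trans (Bender.normalizer_le_normalizer_fittingOf M))
          ((Subgroup.le_normalizer.trans (Bender.normalizer_le_normalizer_fittingOf M)).trans
            (Bender.normalizer_le_normalizer_centralizer F))) Subgroup.inf_normalizer_le_normalizer_inf
      have hW1 : W ≠ ⊥ := by
        haveI : Nontrivial F := (Subgroup.nontrivial_iff_ne_bot F).mpr fun h => hA₀1 (le_bot_iff.mp (h ▸ hA₀))
        haveI := hFp.center_nontrivial
        obtain ⟨z, hz⟩ := exists_ne (1 : Subgroup.center F)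
        intro hb
        have hm : ((z : F) : G) ∈ W := ⟨(z : F).2, Subgroup.mem_centralizer_iff.mpr fun f hf =>
          congrArg Subtype.val (Subgroup.mem_center_iff.mp z.2 ⟨f, hf⟩)⟩
        rw [hb, Subgroup.mem_bot] at hm
        exact hz (Subtype.ext (Subtype.ext hm))
      haveI := (hFp.to_le (inf_le_left : W ≤ F)).isNilpotent
      exact ((Subgroup.centralizer_le hWA).trans (Subgroup.centralizer_le_normalizer _)).trans
        ((hM.le_iff.mp hMW).resolve_left (Uniqueness.normalizer_ne_top hmin hW1 inferInstance)).le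
    have hprimes : ∀ t : ℕ, t.Prime → t ∣ Nat.card F → t ∣ Nat.card A := fun t ht htF => by
      rw [hj] at htF
      exact ((Nat.prime_dvd_prime_iff_eq ht hp).mp (ht.dvd_of_dvd_pow htF)) ▸ hpA
    have hD : Cfsg.piCoreOf (Cfsg.primesNotDvd (Nat.card A)) (Subgroup.centralizer (A : Set G)) = ⊥ := by
      set D := Cfsg.piCoreOf (Cfsg.primesNotDvd (Nat.card A)) (Subgroup.centralizer (A : Set G))
      have hDC : D ≤ Subgroup.centralizer (A : Set G) := Transitivity.piCoreOf_le _ _
      have hDM : D ≤ M := hDC.trans hCM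
      have hcop : (Nat.card D).Coprime (Nat.card F) :=
        LargeFitting.coprime_congr Nat.card_pos.ne' hprimes (Transitivity.coprime_piCoreOf _ _)
      have hC := Stabilize.le_centralizer_of_selfcentralizing
        (hDM.trans (Subgroup.le_normalizer.trans (Bender.normalizer_le_normalizer_fittingOf M))) hcop hAF hDC hFCA
      exact le_bot_iff.mp ((le_inf le_rfl ((le_inf hDM hC).trans (Bender.inf_centralizer_fitting_le hmin hM.1))).trans
        (Subgroup.inf_eq_bot_of_coprime hcop).le)
    refine Uniqueness.unique_of_invariant ⟨hodd, hmin⟩ hM hAM hAp hA1 fun Y hY hAY => ?_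
    obtain ⟨i, hi⟩ := hAp.exists_card_eq
    rw [LargeFitting.inv_eq_bot ⟨hodd, hmin⟩ hM hAF (Frobenius.Zipper.isSubnormal_of_isNilpotent _) hT hZA
      hprimes hD (by rw [hi]; exact hY.pow_right i) hAY]
    exact bot_le

end Cfsg.Agent.S1397
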