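import Cfsg.Statements.S1401
import Cfsg.Agent.Lib.OddOrder.UniqueTools
import Cfsg.Agent.S1397

set_option autoImplicit false
open Cfsg
open CfsgLib CfsgLib.OddOrder

namespace Cfsg.Agent.S1401

/-- Let G be a minimal simple group of odd order, p a prime, and M a maximal subgroup whose Fitting subgroup contains an elementary abelian subgroup of order p ^ 3. Then every abelian p-subgroup of G containing an elementary abelian subgroup of order p ^ 3 lies in exactly one maximal subgroup of G. -/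
theorem result {G : Type*} [Group G] [Finite G] (hG : Cfsg.IsMinSimpleOddOrder G)
    (M : Subgroup G) (hM : IsCoatom M) (p : ℕ) [Fact p.Prime] (hF : ¬ Cfsg.PRankLE p 2 ↥(Cfsg.fittingOf M))
    (A : Subgroup G) (hAp : IsPGroup p A) (hAc : IsMulCommutative A) (hA3 : ¬ Cfsg.PRankLE p 2 ↥A) :
    Cfsg.InUniqueMaximal A := by
  have hp : p.Prime := Fact.out
  have hp2 := UniqueTools.ne_two hG.1 hA3
  obtain ⟨E, hEF, hEe, hE3⟩ := UniqueTools.exists_isEA_of_not_rankLE hF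
  obtain ⟨A₀, hEA₀, hA₀⟩ := Finite.exists_le_maximal
    (p := fun B : Subgroup G => B ≤ Cfsg.fittingOf M ∧ Cfsg.IsElementaryAbelian p B) ⟨hEF, hEe⟩
  obtain ⟨hA₀F, hA₀e⟩ := hA₀.prop
  have hA₀3 : p ^ 3 ≤ Nat.card A₀ := hE3.trans (Subgroup.card_le_of_le hEA₀)
  obtain ⟨ha, hb⟩ := Cfsg.Agent.S1397.result hG M hM p A₀ hA₀F hA₀e hA₀3
    (fun B h1 h2 h3 => le_antisymm (hA₀.le_of_ge ⟨h1, h2⟩ h3) h3)
  obtain ⟨A', hA'p, hA'c, hA'3, hA'U⟩ : ∃ A' : Subgroup G, IsPGroup p A' ∧ IsMulCommutative A' ∧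
      ¬ Cfsg.PRankLE p 2 A' ∧ Cfsg.InUniqueMaximal A' := by
    by_cases hFp : IsPGroup p (Cfsg.fittingOf M)
    · haveI : Group.IsSolvable M := hG.2.2.2 M hM.1
      obtain ⟨P⟩ : Nonempty (Sylow p M) := inferInstance
      have hER : E ≤ (P : Subgroup M).map M.subtype := fun x hx =>
        Subgroup.map_mono (Solvable.Cores.pCore_le_sylow P) (Bender.mem_part (r := p) (hEF hx) (by
          obtain ⟨k, hk⟩ := IsPGroup.iff_orderOf.mp (Fusion.Thompson.isPGroup_isEA hEe) ⟨x, hx⟩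
          exact ⟨k, by rwa [Subgroup.orderOf_mk] at hk⟩))
      obtain ⟨A', hA', hA'3⟩ := SCN3.exists_isSCN_three hp2 _ (P.isPGroup'.map M.subtype)
        (UniqueTools.not_pRankLE_of_isEA hEe hE3 hER)
      exact ⟨A', (P.isPGroup'.map M.subtype).to_le hA'.1, SCNTransitivity.isMulCommutative_of_scn hA', hA'3,
        ((hb hFp P).2 A' hA' hA'3).2⟩
    · haveI := hA₀e.1
      refine ⟨A₀, Fusion.Thompson.isPGroup_isEA hA₀e, hA₀e.1, UniqueTools.not_pRankLE_of_isEA hA₀e hA₀3 le_rfl, ?_⟩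
      exact Cfsg.Agent.S1399.result hG _ A₀ (ha hFp) (Subgroup.le_centralizer_iff.mp inf_le_right)
        (UniqueTools.not_rankLE_one hA₀e ((Nat.pow_le_pow_right hp.pos (show 2 ≤ 3 by norm_num)).trans hA₀3) le_rfl)
  haveI := hAc
  have hnc : ¬ IsCyclic A := SCNTransitivity.not_isCyclic_of_rank fun h => hA3 fun B h1 h2 =>
    (h B h1 h2).trans (Nat.pow_le_pow_right hp.pos one_le_two)
  obtain ⟨E', hE'A, hE'e, hE'3⟩ := UniqueTools.exists_isEA_of_not_rankLE hA3
  exact UniqueTools.noncyclic_unique hG hp2 hA'p hA'c hA'3 hA'U hAp hnc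
    (UniqueTools.not_pRankLE_of_isEA hE'e hE'3 (hE'A.trans A.le_centralizer))

end Cfsg.Agent.S1401
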