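import Cfsg.Statements.S1445
import Cfsg.Agent.Lib.Solvable.FittingFixedPointFree
import Cfsg.Agent.Lib.OddOrder.SigmaTools2
-- import your own Cfsg.Agent.* helpers here

set_option autoImplicit false
open Cfsg
open scoped commutatorElement

namespace Cfsg.Agent.S1445

/-- Let G be a solvable group of odd order, K a normal subgroup and R a subgroup with G = KR and the orders of K and R coprime. Suppose K ∩ C_G(x) = K ∩ C_G(R) for every non-identity x ∈ R, and F(K) ∩ C_G(R) = 1. Then [K, R] is contained in the Fitting subgroup of K. -/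
theorem result {G : Type*} [Group G] [Finite G] [Group.IsSolvable G] (hodd : Odd (Nat.card G)) (K R : Subgroup G) [K.Normal] (hKR : K ⊔ R = ⊤) (hcop : (Nat.card K).Coprime (Nat.card R))
    (hprime : ∀ x ∈ R, x ≠ 1 → K ⊓ Subgroup.centralizer ({x} : Set G) = (K ⊓ Subgroup.centralizer (R : Set G)))
    (hF : Cfsg.fittingOf K ⊓ Subgroup.centralizer (R : Set G) = ⊥) :
    ⁅K, R⁆ ≤ Cfsg.fittingOf K := by
  rcases eq_or_ne R ⊥ with rfl | hR1
  · rw [Subgroup.commutator_bot_right]; exact bot_le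
  haveI hn : (Cfsg.fittingOf K).Normal := by rw [Cfsg.fittingOf]; infer_instance
  obtain ⟨r, hr, hrd⟩ := Nat.exists_prime_and_dvd (mt Subgroup.card_eq_one.mp hR1)
  haveI := Fact.mk hr
  obtain ⟨x, hx⟩ := exists_prime_orderOf_dvd_card' (G := R) r hrd
  have hxo : orderOf (x : G) = r := by rw [Subgroup.orderOf_coe, hx]
  have hC := hprime x x.2 fun e => hr.ne_one (by rw [← hxo, e, orderOf_one])
  have hFK : Cfsg.fittingOf K ≤ K := CfsgLib.OddOrder.Basic.fittingOf_le
  have hF' : Cfsg.fittingOf K ⊓ Subgroup.centralizer ({(x : G)} : Set G) = ⊥ :=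
    le_bot_iff.mp ((le_inf inf_le_left (((inf_le_inf_right _ hFK).trans hC.le).trans inf_le_right)).trans hF.le)
  have hr2 : r ≠ 2 := fun e => Nat.not_even_iff_odd.mpr hodd
    (even_iff_two_dvd.mpr (e ▸ hrd.trans R.card_subgroup_dvd_card))
  have hKr : (Nat.card K).Coprime r := hcop.coprime_dvd_right hrd
  have h := CfsgLib.Solvable.FittingFPF.commutator_le_fitting (hodd.of_dvd_nat K.card_subgroup_dvd_card) hr2 hKr
    (hxo ▸ pow_orderOf_eq_one (x : G)) hF'
  have hsup : K ≤ Cfsg.fittingOf K ⊔ (K ⊓ Subgroup.centralizer (R : Set G)) := by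
    refine (CfsgLib.Coprime.commutator_sup_centralizer (A := Subgroup.zpowers (x : G))
      (CfsgLib.Solvable.FittingFPF.normalizes_of_normal _ K) ?_
      (.inl (CfsgLib.Coprime.isSolvable_zpowers _))).ge.trans (sup_le_sup h ?_)
    · rw [Nat.card_zpowers, hxo]; exact hKr.symm
    · rw [← hC]
      exact inf_le_inf_left _ (le_of_eq (CfsgLib.OddOrder.SigmaTools.centralizer_zpowers _))
  refine Subgroup.commutator_le.mpr fun k hk y hy => ?_
  obtain ⟨f, hf, c, hc, rfl⟩ := Subgroup.mem_sup_of_normal_left.mp (hsup hk)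
  have e : ⁅f * c, y⁆ = f * (y * f⁻¹ * y⁻¹) := by
    have hcy : y * c = c * y := Subgroup.mem_centralizer_iff.mp hc.2 y hy
    rw [commutatorElement_def, mul_inv_rev]
    calc f * c * y * (c⁻¹ * f⁻¹) * y⁻¹ = f * (c * y) * c⁻¹ * f⁻¹ * y⁻¹ := by group
      _ = f * (y * c) * c⁻¹ * f⁻¹ * y⁻¹ := by rw [hcy]
      _ = _ := by group
  rw [e]
  exact mul_mem hf (hn.conj_mem _ (inv_mem hf) y)

end Cfsg.Agent.S1445
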