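import Cfsg.Statements.S1399
import Cfsg.Agent.S1398

set_option autoImplicit false
open Cfsg
open CfsgLib CfsgLib.OddOrder

namespace Cfsg.Agent.S1399

theorem exists_ne_one_of_not_isCyclic {H : Type*} [Group H] (h : ¬ IsCyclic H) : ∃ b : H, b ≠ 1 := by
  by_contra hn
  push Not at hn
  exact h ⟨⟨1, fun x => ⟨0, by simp [hn x]⟩⟩⟩


/-- Let G be a minimal simple group of odd order, L a subgroup contained in exactly one maximal subgroup of G, and K a subgroup of C_G(L) having, for some prime p, an elementary abelian subgroup of order p ^ 2. Then K is contained in exactly one maximal subgroup of G. -/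
theorem result {G : Type*} [Group G] [Finite G] (hG : Cfsg.IsMinSimpleOddOrder G)
    (L K : Subgroup G) (hL : Cfsg.InUniqueMaximal L) (hK : K ≤ Subgroup.centralizer (L : Set G)) (hKr : ¬ Cfsg.RankLE 1 K) :
    Cfsg.InUniqueMaximal K := by
  obtain ⟨M, ⟨hM, hLM⟩, huniq⟩ := hL
  haveI := hG.2.1
  -- a noncyclic elementary abelian subgroup `B` of `K`
  rw [Cfsg.RankLE] at hKr
  simp only [Cfsg.PRankLE] at hKr
  push Not at hKr
  obtain ⟨p, hp, B₀, hB₀c, hB₀e, hB₀2⟩ := hKr
  haveI := Fact.mk hp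
  set B := B₀.map K.subtype with hB
  have hBe : Cfsg.IsElementaryAbelian p B := Fusion.Thompson.isEA_map _ ⟨hB₀c, hB₀e⟩
  haveI := hBe.1
  have hBnc : ¬ IsCyclic B := SCNTransitivity.not_isCyclic_of_card hBe (by
    rw [hB, Subgroup.card_map_of_injective K.subtype_injective]; simpa using hB₀2)
  have hBK : B ≤ K := Subgroup.map_subtype_le _
  -- `L` is non-trivial
  have hL1 : L ≠ ⊥ := by
    intro hb
    have hn : M.Normal := by
      refine ⟨fun x hx g => ?_⟩
      have h1 : IsCoatom ((M.map (MulAut.conj g).toMonoidHom) : Subgroup G) :=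
        (OrderIso.isCoatom_iff (MulEquiv.mapSubgroup (MulAut.conj g)) M).mpr hM
      have h2 := huniq _ ⟨h1, by rw [hb]; exact bot_le⟩
      rw [← h2]
      exact ⟨x, hx, rfl⟩
    rcases hn.eq_bot_or_eq_top with h1 | h1
    · subst h1
      obtain ⟨b, hb1⟩ : ∃ b : B, b ≠ 1 := exists_ne_one_of_not_isCyclic hBnc
      have htop : Subgroup.zpowers (b : G) = ⊤ := (hM.2 _ (bot_lt_iff_ne_bot.mpr fun h0 => hb1 (Subtype.ext
        (Subgroup.zpowers_eq_bot.mp h0))))
      exact hG.2.2.1 ⟨⟨fun u v => by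
        obtain ⟨i, hi⟩ := Subgroup.mem_zpowers_iff.mp (htop.symm ▸ Subgroup.mem_top u)
        obtain ⟨j, hj⟩ := Subgroup.mem_zpowers_iff.mp (htop.symm ▸ Subgroup.mem_top v)
        rw [← hi, ← hj]
        exact ((Commute.refl (b : G)).zpow_left i).zpow_right j⟩⟩
    · exact hM.1 h1
  have hCtop : ∀ T : Subgroup G, T ≠ ⊥ → Subgroup.centralizer (T : Set G) ≠ ⊤ := by
    intro T hT h
    have hle : T ≤ Subgroup.center G := fun t ht => Subgroup.mem_center_iff.mpr fun g =>
      (Subgroup.mem_centralizer_iff.mp (h ▸ Subgroup.mem_top g) t ht).symm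
    rcases (inferInstance : (Subgroup.center G).Normal).eq_bot_or_eq_top with hb | ht
    · exact hT (le_bot_iff.mp (hb ▸ hle))
    · exact hG.2.2.1 (⟨⟨fun a b => (Subgroup.mem_center_iff.mp (ht ▸ Subgroup.mem_top a) b).symm⟩⟩)
  have hcent : ∀ b ∈ B, b ≠ 1 → Subgroup.centralizer ({b} : Set G) ≤ M := by
    intro b hb hb1
    have hne : Subgroup.centralizer ({b} : Set G) ≠ ⊤ := by
      rw [← Subgroup.centralizer_closure, ← Subgroup.zpowers_eq_closure]
      exact hCtop _ (by rwa [Subgroup.zpowers_ne_bot])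
    obtain ⟨H, hH, hle⟩ := (eq_top_or_exists_le_coatom _).resolve_left hne
    have hLH : L ≤ H := le_trans (fun l hl => Subgroup.mem_centralizer_singleton_iff.mpr
      (Subgroup.mem_centralizer_iff.mp (hK (hBK hb)) l hl)) hle
    exact huniq H ⟨hH, hLH⟩ ▸ hle
  have hBM : B ≤ M := by
    obtain ⟨b, hb1⟩ : ∃ b : B, b ≠ 1 := exists_ne_one_of_not_isCyclic hBnc
    refine le_trans ?_ (hcent b b.2 fun h => hb1 (Subtype.ext h))
    exact fun x hx => Subgroup.mem_centralizer_singleton_iff.mpr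
      (Subgroup.mem_centralizer_iff.mp (B.le_centralizer b.2) x hx)
  obtain ⟨M', hM', huniq'⟩ := Cfsg.Agent.S1398.result hG M hM p B hBM hBe hBnc (Or.inl hcent)
  obtain ⟨H, hH, hKH⟩ := (eq_top_or_exists_le_coatom K).resolve_left fun h => hCtop L hL1
    (top_le_iff.mp (h ▸ hK))
  exact ⟨H, ⟨hH, hKH⟩, fun H' hH' => (huniq' H' ⟨hH'.1, hBK.trans hH'.2⟩).trans
    (huniq' H ⟨hH, hBK.trans hKH⟩).symm⟩


end Cfsg.Agent.S1399
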