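import Cfsg.Statements.S2761
import Mathlib.GroupTheory.Perm.Support
import Mathlib.GroupTheory.Perm.Finite
import Mathlib.Tactic.LinearCombination

set_option autoImplicit false
open Cfsg

namespace Cfsg.Agent.S2761

/-- The condition on the last row. -/
def LastRow (M : Matrix.SpecialLinearGroup (Fin 3) (ZMod 2)) : Prop :=
  (M : Matrix (Fin 3) (Fin 3) (ZMod 2)) 2 0 = 0 ∧ (M : Matrix (Fin 3) (Fin 3) (ZMod 2)) 2 1 = 0 ∧
    (M : Matrix (Fin 3) (Fin 3) (ZMod 2)) 2 2 = 1

theorem lastRow_of_mem {M : Matrix.SpecialLinearGroup (Fin 3) (ZMod 2)} (h : M ∈ Cfsg.qd 2) : LastRow M := by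
  induction h using Subgroup.closure_induction with
  | mem M hM => exact hM
  | one => exact ⟨by simp, by simp, by simp⟩
  | mul A B _ _ hA hB =>
    obtain ⟨a0, a1, a2⟩ := hA
    obtain ⟨b0, b1, b2⟩ := hB
    refine ⟨?_, ?_, ?_⟩ <;>
      simp [Matrix.SpecialLinearGroup.coe_mul, Matrix.mul_apply, Fin.sum_univ_three, a0, a1, a2, b0, b1, b2]
  | inv A _ hA =>
    obtain ⟨a0, a1, a2⟩ := hA
    set B := ((A⁻¹ : Matrix.SpecialLinearGroup (Fin 3) (ZMod 2)) : Matrix (Fin 3) (Fin 3) (ZMod 2))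
    have h : (A : Matrix (Fin 3) (Fin 3) (ZMod 2)) * B = 1 := by
      rw [← Matrix.SpecialLinearGroup.coe_mul, mul_inv_cancel, Matrix.SpecialLinearGroup.coe_one]
    have h0 := congrFun (congrFun h 2) 0
    have h1 := congrFun (congrFun h 2) 1
    have h2 := congrFun (congrFun h 2) 2
    simp [Matrix.mul_apply, Fin.sum_univ_three, a0, a1, a2] at h0 h1 h2
    exact ⟨h0, h1, h2⟩

/-- The action of `qd 2` on the four points of the affine plane. -/
def act (M : Matrix.SpecialLinearGroup (Fin 3) (ZMod 2)) (v : ZMod 2 × ZMod 2) : ZMod 2 × ZMod 2 :=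
  (M.1 0 0 * v.1 + M.1 0 1 * v.2 + M.1 0 2, M.1 1 0 * v.1 + M.1 1 1 * v.2 + M.1 1 2)

theorem act_mul (A B : ↥(Cfsg.qd 2)) (v : ZMod 2 × ZMod 2) :
    act ((A * B : ↥(Cfsg.qd 2)) : Matrix.SpecialLinearGroup (Fin 3) (ZMod 2)) v = act A (act B v) := by
  obtain ⟨b0, b1, b2⟩ := lastRow_of_mem B.2
  refine Prod.ext ?_ ?_ <;>
    simp [act, Matrix.mul_apply, Fin.sum_univ_three, b0, b1, b2] <;> ring

theorem act_one (v : ZMod 2 × ZMod 2) : act 1 v = v := by
  simp [act]

def toPermHom : ↥(Cfsg.qd 2) →* Equiv.Perm (ZMod 2 × ZMod 2) where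
  toFun A :=
    { toFun := act A
      invFun := act (A⁻¹ : ↥(Cfsg.qd 2))
      left_inv := fun v => by rw [← act_mul, inv_mul_cancel]; exact act_one v
      right_inv := fun v => by rw [← act_mul, mul_inv_cancel]; exact act_one v }
  map_one' := Equiv.ext fun v => act_one v
  map_mul' A B := Equiv.ext fun v => act_mul A B v

theorem exists_affine_swap : ∀ x y : ZMod 2 × ZMod 2, x ≠ y → ∃ a b c d e f : ZMod 2,
    a * d - b * c = 1 ∧ ∀ v : ZMod 2 × ZMod 2, (a * v.1 + b * v.2 + e, c * v.1 + d * v.2 + f) = Equiv.swap x y v := by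
  decide

theorem toPermHom_injective : Function.Injective toPermHom := by
  rw [injective_iff_map_eq_one]
  intro A hA
  have h := fun v => Equiv.ext_iff.1 hA v
  have h00 : act (A : Matrix.SpecialLinearGroup (Fin 3) (ZMod 2)) (0, 0) = (0, 0) := h (0, 0)
  have h10 : act (A : Matrix.SpecialLinearGroup (Fin 3) (ZMod 2)) (1, 0) = (1, 0) := h (1, 0)
  have h01 : act (A : Matrix.SpecialLinearGroup (Fin 3) (ZMod 2)) (0, 1) = (0, 1) := h (0, 1)
  obtain ⟨a0, a1, a2⟩ := lastRow_of_mem A.2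
  simp [act] at h00 h10 h01
  refine Subtype.ext (Matrix.SpecialLinearGroup.ext _ _ fun i j => ?_)
  fin_cases i <;> fin_cases j <;> simp_all

theorem toPermHom_surjective : Function.Surjective toPermHom := by
  rw [← MonoidHom.range_eq_top, eq_top_iff, ← Equiv.Perm.closure_isSwap, Subgroup.closure_le]
  rintro σ ⟨x, y, hxy, rfl⟩
  obtain ⟨a, b, c, d, e, f, hdet, h⟩ := exists_affine_swap x y hxy
  let M : Matrix.SpecialLinearGroup (Fin 3) (ZMod 2) :=
    ⟨!![a, b, e; c, d, f; 0, 0, 1], by simp [Matrix.det_fin_three]; linear_combination hdet⟩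
  refine ⟨⟨M, Subgroup.subset_closure ⟨by simp [M], by simp [M], by simp [M]⟩⟩, Equiv.ext fun v => ?_⟩
  rw [← h v]
  show act M v = _
  simp [act, M]

/-- The group Qd(2), the natural semidirect product of an elementary abelian group of order 4 by SL₂(2) (realised as the affine subgroup of SL₃(2)), is isomorphic to the symmetric group of degree 4. -/
theorem result : Nonempty (↥(Cfsg.qd 2) ≃* Equiv.Perm (Fin 4)) :=
  ⟨(MulEquiv.ofBijective toPermHom ⟨toPermHom_injective, toPermHom_surjective⟩).trans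
    (Fintype.equivFinOfCardEq (α := ZMod 2 × ZMod 2) (by simp)).permCongrHom⟩

end Cfsg.Agent.S2761
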