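import Cfsg.Statements.S1999
import Cfsg.Agent.Lib.Fusion.SFreeFF.Functors
import Cfsg.Agent.Lib.KGroups.QdFusion
import Cfsg.Agent.S2761

set_option autoImplicit false
open Cfsg

namespace Cfsg.Agent.S1999

open CfsgLib.Fusion.SFreeFF in
/-- The pair as induced functors. -/
theorem pair_eq {X : Type*} [Group X] :
    (fun W => Cfsg.inducedFunctor (G := X) W) '' zjPair =
      ({fun P : Subgroup X => P ⊓ Subgroup.centralizer ((P : Subgroup X) : Set X),
        fun P : Subgroup X => Cfsg.thompsonSubgroupOf 2 P} : Set (Subgroup X → Subgroup X)) := by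
  rw [zjPair, Set.image_pair]
  congr 1
  exact funext fun P => inducedFunctor_zFunctor P

/-- Let G be a finite group. The symmetric group of degree 4 is not involved in G if and only if, in every section K/R of G, the pair of conjugacy functors {Z, J_e} controls strong fusion (for the prime 2): here Z(P) is the centre and J_e(P) the subgroup generated by the elementary abelian subgroups of P of largest order, and control by the pair means that 2-fusion of tuples inside a Sylow 2-subgroup T of the section is generated, staying inside T, by conjugation inside N(Z(T)) and N(J_e(T)). -/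
theorem result {G : Type*} [Group G] [Finite G] : ¬ Cfsg.Involves (Equiv.Perm (Fin 4)) G ↔ ∀ (K R : Subgroup G) [hR : (R.subgroupOf K).Normal], Cfsg.FamilyControlsStrongFusionIn 2 ({fun P : Subgroup (↥K ⧸ R.subgroupOf K) => P ⊓ Subgroup.centralizer ((P : Subgroup (↥K ⧸ R.subgroupOf K)) : Set (↥K ⧸ R.subgroupOf K)), fun P : Subgroup (↥K ⧸ R.subgroupOf K) => Cfsg.thompsonSubgroupOf 2 P} : Set (Subgroup (↥K ⧸ R.subgroupOf K) → Subgroup (↥K ⧸ R.subgroupOf K))) ⊤ := by
  open CfsgLib.Fusion.SFreeFF CfsgLib.KGroups in
  exact (by
  constructor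
  · intro h K R hR
    rw [← pair_eq]
    exact zjPair_controls h _ (Functor.sec_mk K R)
  · rintro h ⟨K, R, hR, ⟨e⟩⟩
    obtain ⟨e'⟩ := Cfsg.Agent.S2761.result
    have hc := h K R
    rw [← pair_eq] at hc
    exact QdFusion.not_family_controls (e.trans e'.symm) zjPair isCharPFunctor_zjPair hc)

end Cfsg.Agent.S1999
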