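import Cfsg.Statements.S3612
import Cfsg.Agent.Lib.PGroup.PrimeHalfNormaliser

set_option autoImplicit false
open Cfsg

namespace Cfsg.Agent.S3612

section
open CfsgLib.PGroup.PrimeHalfNormaliser MulAction

variable {G Ω : Type*} [Group G] [Finite G] [MulAction G Ω] [FaithfulSMul G Ω] [Finite Ω]
  {p : ℕ} [hp : Fact p.Prime]

theorem sq_mul_of_not {a b : ZMod p} (ha : ¬ IsSquare a) (hb : ¬ IsSquare b) : IsSquare (a * b) := by
  have ha0 : a ≠ 0 := fun h => ha (h ▸ ⟨0, (mul_zero _).symm⟩)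
  have hb0 : b ≠ 0 := fun h => hb (h ▸ ⟨0, (mul_zero _).symm⟩)
  refine (quadraticChar_one_iff_isSquare (F := ZMod p) (mul_ne_zero ha0 hb0)).1 ?_
  rw [map_mul, quadraticChar_neg_one_iff_not_isSquare.2 ha, quadraticChar_neg_one_iff_not_isSquare.2 hb]
  norm_num

theorem not_sq_mul {a b : ZMod p} (ha : IsSquare a) (ha0 : a ≠ 0) (hb : ¬ IsSquare b) :
    ¬ IsSquare (a * b) := fun h => hb (by
  have := ha.inv.mul h
  rwa [← mul_assoc, inv_mul_cancel₀ ha0, one_mul] at this)

theorem sq_quot {d d' : ZMod p} (h : IsSquare d ↔ IsSquare d') (hd' : d' ≠ 0) : IsSquare (d * d'⁻¹) := by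
  by_cases hs : IsSquare d'
  · exact (h.2 hs).mul hs.inv
  · exact sq_mul_of_not (fun e => hs (h.1 e)) fun e => hs (by simpa using e.inv)

theorem affine (C : Coord G Ω p) (r b : ZMod p) (hr : r ≠ 0) :
    ∃ g : G, ∀ z, C.e (g • z) = r ^ 2 * C.e z + b := by
  letI := Fintype.ofFinite Ω
  obtain ⟨t, ht⟩ := C.sq (Units.mk0 r hr)
  exact ⟨C.s ^ b.val * t, fun z => by
    rw [mul_smul, pow_translate, ZMod.natCast_zmod_val, ht, Units.val_mk0]⟩

/-- A partition of the points other than `x`, for all `x` at once, has mixed classes. -/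
theorem mixed (hΩ : Nat.card Ω = p) [IsPretransitive G Ω] (hins : ¬ Group.IsSolvable G) (hp2 : p ≠ 2)
    (R : Ω → Ω → Ω → Prop)
    (hR : ∀ (g : G) (x y z : Ω), R (g • x) (g • y) (g • z) ↔ R x y z)
    (hne : ∀ x y z, R x y z → y ≠ x ∧ z ≠ x)
    (hsymm : ∀ x y z, R x y z → R x z y)
    (htr : ∀ x y z w, R x y z → R x y w → R x z w)
    (hrefl : ∀ x y, x ≠ y → R x y y)
    (hbig : ∀ x y, x ≠ y → ∃ z, z ≠ y ∧ R x y z)
    (hsmall : ∃ x y w, w ≠ x ∧ x ≠ y ∧ ¬ R x y w)
    (C : Coord G Ω p) {x y z : Ω} (hyz : y ≠ z) (hxyz : R x y z) :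
    ¬ (IsSquare (C.e y - C.e x) ↔ IsSquare (C.e z - C.e x)) := by
  classical
  letI := Fintype.ofFinite Ω
  intro hsame
  obtain ⟨x₁, y₁, w₁, hw₁x, hxy₁, hw₁⟩ := hsmall
  haveI h2 : IsMultiplyPretransitive G Ω 2 := two_transitive hΩ hins
  have h2' : ∀ {a b c d : Ω}, a ≠ b → c ≠ d → ∃ g : G, g • a = c ∧ g • b = d :=
    fun {a b c d} hab hcd => (MulAction.is_two_pretransitive_iff.mp h2) hab hcd
  let I : Ω → Ω → Ω → ZMod p := fun a b c => if R a b c then 1 else 0
  let m : ZMod p := ∑ c, I x₁ y₁ c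
  let c₁ : Ω → Ω → Ω → ZMod p := fun a b c => I a b c - m * if c = a then 1 else 0
  have hI : ∀ (g : G) (a b c : Ω), I (g • a) (g • b) (g • c) = I a b c := fun g a b c => by
    simp only [I, hR]
  have hinv : ∀ (g : G) (a b c : Ω), c₁ (g • a) (g • b) (g • c) = c₁ a b c := fun g a b c => by
    simp only [c₁, hI, (MulAction.injective g).eq_iff]
  have hsum : ∀ a b, a ≠ b → ∑ c, c₁ a b c = 0 := fun a b hab => by
    obtain ⟨g, hga, hgb⟩ := h2' hxy₁ hab
    simp only [c₁, Finset.sum_sub_distrib, mul_ite, mul_one, mul_zero, Finset.sum_ite_eq',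
      Finset.mem_univ, if_true]
    rw [sub_eq_zero]
    exact (Fintype.sum_equiv (MulAction.toPerm g) _ _ fun c => by
      simp only [MulAction.toPerm_apply, ← hga, ← hgb, hI]).symm
  have hcl : ∀ a b b', R a b b' → value C c₁ a b = value C c₁ a b' := fun a b b' h => by
    refine Finset.sum_congr rfl fun c _ => ?_
    simp only [c₁, I]
    rw [if_congr (⟨fun h' => htr _ _ _ _ h h', fun h' => htr _ _ _ _ (hsymm _ _ _ h) h'⟩ :
      R a b c ↔ R a b' c) rfl rfl]
  have hd : ∀ {a b : Ω}, a ≠ b → C.e b - C.e a ≠ 0 :=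
    fun {a b} h => sub_ne_zero.2 fun e => h (C.e.injective e).symm
  have hom : ∀ a b a' b', a ≠ b → a' ≠ b' →
      (IsSquare (C.e b - C.e a) ↔ IsSquare (C.e b' - C.e a')) →
      value C c₁ a b * (C.e b' - C.e a') = value C c₁ a' b' * (C.e b - C.e a) := by
    intro a b a' b' hab hab' hs
    obtain ⟨r, hr⟩ := sq_quot hs (hd hab')
    have hr2 : r ^ 2 * (C.e b' - C.e a') = C.e b - C.e a := by
      rw [sq, ← hr, inv_mul_cancel_right₀ (hd hab')]
    have hr0 : r ≠ 0 := fun h => hd hab (by rw [← hr2, h]; ring)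
    obtain ⟨g, hg⟩ := affine C r (C.e a - r ^ 2 * C.e a') hr0
    have := value_translate C c₁ hinv (hsum a' b' hab') g _ _ hg
    rw [show g • a' = a from C.e.injective (by rw [hg]; ring),
      show g • b' = b from C.e.injective (by rw [hg]; linear_combination hr2)] at this
    rw [this, ← hr2]; ring
  have hxy : x ≠ y := (hne _ _ _ hxyz).1.symm
  have hxz : x ≠ z := (hne _ _ _ hxyz).2.symm
  have hpair : ∀ a b b', b ≠ b' → R a b b' →
      (IsSquare (C.e b - C.e a) ↔ IsSquare (C.e b' - C.e a)) → value C c₁ a b = 0 := by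
    intro a b b' hbb h hs
    have := hom a b a b' (hne _ _ _ h).1.symm (hne _ _ _ h).2.symm hs
    rw [← hcl a b b' h] at this
    rcases mul_eq_mul_left_iff.1 this with e | e
    · exact absurd (C.e.injective (by linear_combination e)) hbb.symm
    · exact e
  have h0 := hpair x y z hyz hxyz hsame
  have hsgn : ∀ a b, a ≠ b → (IsSquare (C.e b - C.e a) ↔ IsSquare (C.e y - C.e x)) →
      value C c₁ a b = 0 := fun a b hab hs => by
    have := hom a b x y hab hxy hs
    rw [h0, zero_mul] at this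
    exact (mul_eq_zero.1 this).resolve_right (hd hxy)
  have hall : ∀ a b, a ≠ b → value C c₁ a b = 0 := by
    intro a b hab
    by_cases hs : IsSquare (C.e b - C.e a) ↔ IsSquare (C.e y - C.e x)
    · exact hsgn a b hab hs
    · obtain ⟨b', hb', hR'⟩ := hbig a b hab
      by_cases hs' : IsSquare (C.e b' - C.e a) ↔ IsSquare (C.e y - C.e x)
      · rw [hcl a b b' hR', hsgn a b' (hne _ _ _ hR').2.symm hs']
      · exact hpair a b b' hb'.symm hR' (by tauto)
  have := const_of_value hΩ hins hinv hsum hall hxy₁ w₁ y₁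
  simp only [c₁, I, if_neg hw₁x, if_neg hxy₁.symm, if_neg hw₁, if_pos (hrefl _ _ hxy₁), mul_zero,
    sub_zero] at this
  exact zero_ne_one this

/-- The pairing of the points other than `x` cannot exist. -/
theorem no_pairing (hΩ : Nat.card Ω = p) [IsPretransitive G Ω] (hins : ¬ Group.IsSolvable G) (hp7 : 7 < p)
    (P : Sylow p G) (hN : 2 * Nat.card ↥(Subgroup.normalizer ((P : Subgroup G) : Set G)) = p * (p - 1))
    (π : Ω → Ω → Ω) (hπ : ∀ (g : G) (x y : Ω), g • π x y = π (g • x) (g • y))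
    (hxx : ∀ x, π x x = x) (hinv : ∀ x y, x ≠ y → π x (π x y) = y)
    (hπne : ∀ x y, x ≠ y → π x y ≠ x ∧ π x y ≠ y)
    (hmix : ∀ (C : Coord G Ω p) (x y : Ω), x ≠ y →
      ¬ (IsSquare (C.e y - C.e x) ↔ IsSquare (C.e (π x y) - C.e x))) : False := by
  classical
  letI := Fintype.ofFinite Ω
  have hp' : p.Prime := Fact.out
  haveI h2 : IsMultiplyPretransitive G Ω 2 := two_transitive hΩ hins
  have h2' : ∀ {a b c d : Ω}, a ≠ b → c ≠ d → ∃ g : G, g • a = c ∧ g • b = d :=
    fun {a b c d} hab hcd => (MulAction.is_two_pretransitive_iff.mp h2) hab hcd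
  have hsm : ∀ n : ℕ, 0 < n → n ≤ 7 → (n : ZMod p) ≠ 0 := fun n h0 h7 h => by
    have := Nat.le_of_dvd h0 ((CharP.cast_eq_zero_iff (ZMod p) p n).1 h)
    omega
  have h2ne : (2 : ZMod p) ≠ 0 := by exact_mod_cast hsm 2 (by norm_num) (by norm_num)
  have h3ne : (3 : ZMod p) ≠ 0 := by exact_mod_cast hsm 3 (by norm_num) (by norm_num)
  have h7ne : (7 : ZMod p) ≠ 0 := by exact_mod_cast hsm 7 (by norm_num) (by norm_num)
  -- the two-point stabiliser fixes only one further point
  have hsym : ∀ x y, π x y = π y x := by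
    intro x y
    by_cases hxy : x = y
    · rw [hxy]
    by_contra hne
    obtain ⟨hmx, hmy⟩ := hπne x y hxy
    obtain ⟨hfy, hfx⟩ := hπne y x (Ne.symm hxy)
    obtain ⟨w, -, hw⟩ := Finset.exists_mem_notMem_of_card_lt_card
      (s := ({x, y, π x y, π y x} : Finset Ω)) (t := Finset.univ) (by
        refine lt_of_le_of_lt Finset.card_le_four ?_
        rw [Finset.card_univ, ← Nat.card_eq_fintype_card, hΩ]; omega)
    simp only [Finset.mem_insert, Finset.mem_singleton, not_or] at hw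
    obtain ⟨i, j, hij, g, hgx, hgy, hg⟩ := at_most_two hΩ hins P hN hxy ![π x y, π y x, w]
      (fun i => by fin_cases i <;> simp [hmx, hfx, hw.1])
      (fun i => by fin_cases i <;> simp [hmy, hfy, hw.2.1])
    have e1 : g • π x y = π x y := by rw [hπ, hgx, hgy]
    have e2 : g • π y x = π y x := by rw [hπ, hgy, hgx]
    fin_cases i <;> fin_cases j <;> simp at hij hg
    · exact hne (e1.symm.trans hg)
    · exact hw.2.2.1 (hg.symm.trans e1)
    · exact hne ((e2.symm.trans hg).symm)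
    · exact hw.2.2.2 (hg.symm.trans e2)
    · exact hw.2.2.1 (MulAction.injective g (hg.trans e1.symm))
    · exact hw.2.2.2 (MulAction.injective g (hg.trans e2.symm))
  -- the number attached to a coordinate system
  have hfacts : ∀ C : Coord G Ω p, ∃ μ : ZMod p, μ ^ 2 = μ - 1 ∧ ¬ IsSquare μ ∧ ¬ IsSquare (-1 : ZMod p) ∧
      (∀ a b c : ZMod p, IsSquare (b - a) → c = a + μ * (b - a) →
        π (C.e.symm a) (C.e.symm b) = C.e.symm c) ∧
      (∀ a b c : ZMod p, ¬ IsSquare (b - a) → c = a + (1 - μ) * (b - a) →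
        π (C.e.symm a) (C.e.symm b) = C.e.symm c) := by
    intro C
    set μ := C.e (π (C.e.symm 0) (C.e.symm 1)) with hμdef
    have h01 : C.e.symm 0 ≠ C.e.symm 1 := fun h => zero_ne_one (C.e.symm.injective h)
    have hμ : ¬ IsSquare μ := fun h => hmix C _ _ h01 (by
      simp only [Equiv.apply_symm_apply, sub_zero, ← hμdef]
      exact iff_of_true ⟨1, (one_mul _).symm⟩ h)
    have hμ0 : μ ≠ 0 := fun h => hμ (h ▸ ⟨0, (mul_zero _).symm⟩)
    have hS : ∀ a b : ZMod p, IsSquare (b - a) →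
        C.e (π (C.e.symm a) (C.e.symm b)) = a + μ * (b - a) := by
      intro a b ⟨r, hr⟩
      by_cases hr0 : r = 0
      · have : b = a := by rw [hr0, mul_zero, sub_eq_zero] at hr; exact hr
        rw [this, hxx, Equiv.apply_symm_apply, sub_self, mul_zero, add_zero]
      obtain ⟨g, hg⟩ := affine C r a hr0
      have h0 : g • C.e.symm 0 = C.e.symm a := C.e.injective (by simp [hg])
      have h1 : g • C.e.symm 1 = C.e.symm b := C.e.injective (by
        simp only [hg, Equiv.apply_symm_apply, mul_one]; linear_combination -hr)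
      rw [← h0, ← h1, ← hπ, hg, ← hμdef, hr]; ring
    have hN' : ∀ a b : ZMod p, ¬ IsSquare (b - a) →
        C.e (π (C.e.symm a) (C.e.symm b)) = a + μ⁻¹ * (b - a) := by
      intro a b hns
      have hab : C.e.symm a ≠ C.e.symm b := fun h => hns
        (by rw [C.e.symm.injective h, sub_self]; exact ⟨0, (mul_zero _).symm⟩)
      have hsq : IsSquare (C.e (π (C.e.symm a) (C.e.symm b)) - a) := by
        by_contra h
        exact hmix C _ _ hab (by
          simp only [Equiv.apply_symm_apply]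
          exact iff_of_false hns h)
      have := hS a (C.e (π (C.e.symm a) (C.e.symm b))) hsq
      rw [Equiv.symm_apply_apply, hinv _ _ hab, Equiv.apply_symm_apply] at this
      field_simp; linear_combination -this
    have hs := hsym (C.e.symm 0) (C.e.symm 1)
    have e01 := hS 0 1 ⟨1, by ring⟩
    have hm1 : ¬ IsSquare (-1 : ZMod p) := by
      intro h
      have e10 := hS 1 0 (by rwa [zero_sub])
      rw [← hs, e01] at e10
      obtain ⟨ν, hν⟩ := FiniteField.exists_nonsquare (F := ZMod p) (by rw [ZMod.ringChar_zmod_n]; omega)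
      have hν0 : ν ≠ 0 := fun h' => hν (h' ▸ ⟨0, (mul_zero _).symm⟩)
      have hν' : ¬ IsSquare (-ν) := fun h' => hν (by simpa using h.mul h')
      have e0ν := hN' 0 ν (by rwa [sub_zero])
      have eν0 := hN' ν 0 (by rwa [zero_sub])
      rw [← hsym, e0ν] at eν0
      refine h3ne ((mul_eq_zero.1 ?_).resolve_right hν0)
      field_simp at eν0
      linear_combination 2 * eν0 + ν * e10
    have hquad : μ ^ 2 = μ - 1 := by
      have e10 := hN' 1 0 (by rwa [zero_sub])
      rw [← hs, e01] at e10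
      field_simp at e10
      linear_combination e10
    have hinvμ : μ⁻¹ = 1 - μ := inv_eq_of_mul_eq_one_right (by linear_combination -hquad)
    exact ⟨μ, hquad, hμ, hm1, fun a b c h hc => C.e.injective (by rw [hS a b h, Equiv.apply_symm_apply, hc]),
      fun a b c h hc => C.e.injective (by rw [hN' a b h, hinvμ, Equiv.apply_symm_apply, hc])⟩
  -- two numbers distinguishing points in one orbit
  have core : ∀ (C : Coord G Ω p) (μ : ZMod p), μ ^ 2 = μ - 1 → ¬ IsSquare μ → ¬ IsSquare (-1 : ZMod p) →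
      (∀ a b c : ZMod p, IsSquare (b - a) → c = a + μ * (b - a) →
        π (C.e.symm a) (C.e.symm b) = C.e.symm c) →
      (∀ a b c : ZMod p, ¬ IsSquare (b - a) → c = a + (1 - μ) * (b - a) →
        π (C.e.symm a) (C.e.symm b) = C.e.symm c) → ¬ IsSquare (1 + μ) := by
    intro C μ hq hμ hm1 hS hN' h1μ
    have hμ0 : μ ≠ 0 := fun h => hμ (h ▸ ⟨0, (mul_zero _).symm⟩)
    have hμ1 : μ ≠ 1 := fun h => one_ne_zero (show (1 : ZMod p) = 0 by rw [h] at hq; linear_combination hq)
    have hμn1 : 1 + μ ≠ 0 := fun h => h3ne (by linear_combination hq + (2 - μ) * h)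
    have hμ2 : μ ^ 2 ≠ 0 := pow_ne_zero 2 hμ0
    have hsμ2 : IsSquare (μ ^ 2) := ⟨μ, sq μ⟩
    have hnμ : IsSquare (-μ) := by simpa using sq_mul_of_not hm1 hμ
    have hne01 : C.e.symm 0 ≠ C.e.symm 1 := fun h => zero_ne_one (C.e.symm.injective h)
    have hm : π (C.e.symm 0) (C.e.symm 1) = C.e.symm μ := hS 0 1 μ ⟨1, by ring⟩ (by ring)
    -- a relation respected by the group has one truth value off the three special points
    have hconst : ∀ Q : Ω → Ω → Ω → Prop,
        (∀ (g : G) (a b c : Ω), Q a b c → Q (g • a) (g • b) (g • c)) → ∀ z z' : ZMod p,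
        z ≠ 0 → z ≠ 1 → z ≠ μ → z' ≠ 0 → z' ≠ 1 → z' ≠ μ →
        Q (C.e.symm 0) (C.e.symm 1) (C.e.symm z) → Q (C.e.symm 0) (C.e.symm 1) (C.e.symm z') := by
      intro Q hQ z z' hz0 hz1 hzm hz0' hz1' hzm' hQz
      obtain ⟨i, j, hij, g, hg0, hg1, hg⟩ := at_most_two hΩ hins P hN hne01
        ![C.e.symm μ, C.e.symm z, C.e.symm z']
        (fun i => by fin_cases i <;> simp [C.e.symm.injective.eq_iff, hμ0, hz0, hz0'])
        (fun i => by fin_cases i <;> simp [C.e.symm.injective.eq_iff, hμ1, hz1, hz1'])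
      have e1 : g • C.e.symm μ = C.e.symm μ := by rw [← hm, hπ, hg0, hg1]
      fin_cases i <;> fin_cases j <;> simp at hij hg
      · exact absurd (C.e.symm.injective (hg.symm.trans e1)) hzm
      · exact absurd (C.e.symm.injective (hg.symm.trans e1)) hzm'
      · exact absurd (C.e.symm.injective (MulAction.injective g (hg.trans e1.symm))) hzm
      · have := hQ g _ _ _ hQz; rwa [hg0, hg1, hg] at this
      · exact absurd (C.e.symm.injective (MulAction.injective g (hg.trans e1.symm))) hzm'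
      · have := hQ g⁻¹ _ _ _ hQz
        rwa [inv_smul_eq_iff.2 hg0.symm, inv_smul_eq_iff.2 hg1.symm, inv_smul_eq_iff.2 hg.symm] at this
    have hz0 : μ - 1 ≠ 0 := sub_ne_zero.2 hμ1
    have hz1 : μ - 1 ≠ 1 := fun h => h3ne (by linear_combination hq - (μ + 1) * h)
    have hzm : μ - 1 ≠ μ := fun h => one_ne_zero (show (1 : ZMod p) = 0 by linear_combination -h)
    by_cases h2s : IsSquare (2 : ZMod p)
    · let Q : Ω → Ω → Ω → Prop := fun a b c => π a c = π b (π (π a b) c)
      have hQ : ∀ (g : G) (a b c : Ω), Q a b c → Q (g • a) (g • b) (g • c) := fun g a b c h => by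
        simp only [Q, ← hπ]; exact congrArg (g • ·) h
      have ht : Q (C.e.symm 0) (C.e.symm 1) (C.e.symm (μ - 1)) := by
        simp only [Q, hm]
        rw [hS 0 (μ - 1) (-1) (by rwa [sub_zero, ← hq]) (by linear_combination -hq),
          hN' μ (μ - 1) (2 * μ - 1) (by rwa [sub_sub_cancel_left]) (by ring),
          hS 1 (2 * μ - 1) (-1) (by rw [show 2 * μ - 1 - 1 = 2 * μ ^ 2 by linear_combination -2 * hq]
                                    exact h2s.mul hsμ2) (by linear_combination -2 * hq)]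
      have hf := hconst Q hQ (μ - 1) (1 - μ) hz0 hz1 hzm (sub_ne_zero.2 hμ1.symm)
        (fun h => hμ0 (by linear_combination -h))
        (fun h => h3ne (by linear_combination 4 * hq + (2 * μ - 1) * h)) ht
      simp only [Q, hm] at hf
      rw [hN' 0 (1 - μ) (-μ) (by
          rw [show 1 - μ - 0 = μ ^ 2 * (-1) by linear_combination hq]
          exact not_sq_mul hsμ2 hμ2 hm1) (by linear_combination -hq),
        hS μ (1 - μ) 2 (by rw [show 1 - μ - μ = -μ * (1 + μ) by linear_combination hq]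
                           exact hnμ.mul h1μ) (by linear_combination 2 * hq),
        hS 1 2 (1 + μ) ⟨1, by ring⟩ (by ring)] at hf
      have := C.e.symm.injective hf
      exact h7ne (by linear_combination 4 * hq - (3 - 2 * μ) * this)
    · let Q : Ω → Ω → Ω → Prop := fun a b c => c = π (π a (π b c)) (π a (π (π a b) c))
      have hQ : ∀ (g : G) (a b c : Ω), Q a b c → Q (g • a) (g • b) (g • c) := fun g a b c h => by
        simp only [Q, ← hπ]; exact congrArg (g • ·) h
      have h2n0 : (2 : ZMod p) ≠ 0 := h2ne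
      have ht : Q (C.e.symm 0) (C.e.symm 1) (C.e.symm (μ - 1)) := by
        simp only [Q, hm]
        rw [hS 1 (μ - 1) (-μ) (by rw [show μ - 1 - 1 = μ ^ 2 * (1 + μ) by linear_combination -(μ + 2) * hq]
                                  exact hsμ2.mul h1μ) (by linear_combination -hq),
          hS 0 (-μ) (1 - μ) (by rwa [sub_zero]) (by linear_combination hq),
          hN' μ (μ - 1) (2 * μ - 1) (by rwa [sub_sub_cancel_left]) (by ring),
          hN' 0 (2 * μ - 1) (1 + μ) (by
            rw [show 2 * μ - 1 - 0 = (1 + μ) * μ by linear_combination -hq]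
            exact not_sq_mul h1μ hμn1 hμ) (by linear_combination 2 * hq),
          hS (1 - μ) (1 + μ) (μ - 1) (by rw [show 1 + μ - (1 - μ) = 2 * μ by ring]
                                         exact sq_mul_of_not h2s hμ) (by linear_combination -2 * hq)]
      have hf := hconst Q hQ (μ - 1) (1 + μ) hz0 hz1 hzm hμn1
        (fun h => hμ0 (by linear_combination h))
        (fun h => one_ne_zero (show (1 : ZMod p) = 0 by linear_combination h)) ht
      simp only [Q, hm] at hf
      rw [hN' 1 (1 + μ) 2 (by rwa [add_sub_cancel_left]) (by linear_combination hq),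
        hN' 0 2 (2 - 2 * μ) (by rwa [sub_zero]) (by ring),
        hS μ (1 + μ) (2 * μ) ⟨1, by ring⟩ (by ring),
        hS 0 (2 * μ) (2 * μ - 2) (by rw [sub_zero]; exact sq_mul_of_not h2s hμ)
          (by linear_combination -2 * hq),
        hS (2 - 2 * μ) (2 * μ - 2) (-2 - 2 * μ) ⟨2 * μ, by linear_combination -4 * hq⟩
          (by linear_combination -4 * hq)] at hf
      have := C.e.symm.injective hf
      exact hμn1 ((mul_eq_zero.1 (show (3 : ZMod p) * (1 + μ) = 0 by linear_combination this)).resolve_left h3ne)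
  obtain ⟨C⟩ := exists_coord hΩ P hN
  obtain ⟨μ, hq, hμ, hm1, hS, hN'⟩ := hfacts C
  have h1μ := core C μ hq hμ hm1 hS hN'
  let C' : Coord G Ω p :=
    { e := C.e.trans (Equiv.neg _)
      s := C.s⁻¹
      hs := fun x => by
        have := C.hs (C.s⁻¹ • x)
        rw [smul_inv_smul] at this
        simp [this]
      sq := fun c => by
        obtain ⟨t, ht⟩ := C.sq c
        exact ⟨t, fun x => by simp [ht]⟩ }
  obtain ⟨μ', hq', hμ', -, hS', hN''⟩ := hfacts C'
  have hμμ : μ' = 1 - μ := by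
    have e1 := hS' 0 1 μ' ⟨1, by ring⟩ (by ring)
    have e2 := hN' 0 (-1) (μ - 1) (by rwa [sub_zero]) (by ring)
    have hd : ∀ a : ZMod p, C'.e.symm a = C.e.symm (-a) := fun a => rfl
    rw [hd, hd, hd, neg_zero, e2] at e1
    linear_combination C.e.symm.injective e1
  refine core C' μ' hq' hμ' hm1 hS' hN'' ?_
  have hμ2 : μ ^ 2 ≠ 0 := pow_ne_zero 2 fun h => hμ (h ▸ ⟨0, (mul_zero _).symm⟩)
  rw [show 1 + μ' = μ ^ 2 * ((-1) * (1 + μ)) by rw [hμμ]; linear_combination (μ + 2) * hq]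
  exact IsSquare.mul ⟨μ, sq μ⟩ (sq_mul_of_not hm1 h1μ)

end

/-- Let G be an insoluble group acting faithfully and transitively on a finite set of prime size p, and suppose the normalizer of a Sylow p-subgroup of G has order p(p-1)/2. If p > 7, then the stabilizer of a point acts primitively on the remaining p - 1 points. -/
theorem result {G Ω : Type*} [Group G] [Finite G] [MulAction G Ω] [FaithfulSMul G Ω] [Finite Ω]
    (p : ℕ) (hp : p.Prime) (hΩ : Nat.card Ω = p) (htrans : MulAction.IsPretransitive G Ω)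
    (hins : ¬ Group.IsSolvable G) (P : Sylow p G)
    (hN : 2 * Nat.card ↥(Subgroup.normalizer ((P : Subgroup G) : Set G)) = p * (p - 1))
    (hp7 : 7 < p) (α : Ω) :
    MulAction.IsPreprimitive ↥(MulAction.stabilizer G α) ↥(SubMulAction.ofStabilizer G α) := by
  open CfsgLib.PGroup.PrimeHalfNormaliser MulAction Pointwise in
  classical
  haveI := Fact.mk hp
  haveI := htrans
  haveI h2 : IsMultiplyPretransitive G Ω 2 := two_transitive hΩ hins
  have h2' : ∀ {a b c d : Ω}, a ≠ b → c ≠ d → ∃ g : G, g • a = c ∧ g • b = d :=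
    fun {a b c d} hab hcd => (MulAction.is_two_pretransitive_iff.mp h2) hab hcd
  haveI : IsPretransitive ↥(stabilizer G α) ↥(SubMulAction.ofStabilizer G α) := ⟨fun a b => by
    obtain ⟨g, hgα, hgab⟩ := h2' (Ne.symm ((SubMulAction.mem_ofStabilizer_iff G α).1 a.2))
      (Ne.symm ((SubMulAction.mem_ofStabilizer_iff G α).1 b.2))
    exact ⟨⟨g, hgα⟩, Subtype.ext hgab⟩⟩
  refine ⟨fun {B} hB => ?_⟩
  by_contra hnt
  simp only [IsTrivialBlock, not_or] at hnt
  obtain ⟨hns, hnu⟩ := hnt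
  obtain ⟨b, hbB, b', hb'B, hbb'⟩ := Set.not_subsingleton_iff.1 hns
  obtain ⟨w, hwB⟩ := (Set.ne_univ_iff_exists_notMem B).1 hnu
  have hbα := (SubMulAction.mem_ofStabilizer_iff G α).1 b.2
  have hwα := (SubMulAction.mem_ofStabilizer_iff G α).1 w.2
  let B' : Set Ω := Subtype.val '' B
  have hB'α : ∀ y ∈ B', y ≠ α := fun y ⟨a, _, ha⟩ =>
    ha ▸ (SubMulAction.mem_ofStabilizer_iff G α).1 a.2
  have hblock : ∀ k : G, k • α = α → ∀ y, y ∈ B' → k • y ∈ B' → ∀ z ∈ B', k • z ∈ B' := by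
    rintro k hk _ ⟨a, ha, rfl⟩ ⟨a', ha', he⟩ _ ⟨c, hc, rfl⟩
    refine ⟨(⟨k, hk⟩ : stabilizer G α) • c, ?_, rfl⟩
    have ha2 : (⟨k, hk⟩ : stabilizer G α) • a = a' := Subtype.ext he.symm
    have hfix : (⟨k, hk⟩ : stabilizer G α) • B = B :=
      MulAction.isBlock_iff_smul_eq_of_nonempty.1 hB ⟨a', ⟨a, ha, ha2⟩, ha'⟩
    rw [← hfix]
    exact Set.smul_mem_smul_set hc
  let R : Ω → Ω → Ω → Prop := fun x y z => ∃ g : G, g • x = α ∧ g • y ∈ B' ∧ g • z ∈ B'
  have hR : ∀ (g : G) (x y z : Ω), R (g • x) (g • y) (g • z) ↔ R x y z := fun g x y z => by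
    constructor
    · rintro ⟨k, h1, h2, h3⟩
      exact ⟨k * g, by rwa [mul_smul], by rwa [mul_smul], by rwa [mul_smul]⟩
    · rintro ⟨k, h1, h2, h3⟩
      refine ⟨k * g⁻¹, ?_, ?_, ?_⟩ <;> rw [mul_smul, inv_smul_smul] <;> assumption
  have hne : ∀ x y z, R x y z → y ≠ x ∧ z ≠ x := by
    rintro x y z ⟨g, h1, h2, h3⟩
    exact ⟨fun e => hB'α _ h2 (e ▸ h1), fun e => hB'α _ h3 (e ▸ h1)⟩
  have hsymm : ∀ x y z, R x y z → R x z y := fun x y z ⟨g, h1, h2, h3⟩ => ⟨g, h1, h3, h2⟩
  have htr : ∀ x y z w, R x y z → R x y w → R x z w := by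
    rintro x y z w ⟨g, g1, g2, g3⟩ ⟨h, k1, k2, k3⟩
    refine ⟨g, g1, g3, ?_⟩
    have := hblock (g * h⁻¹) (by rw [mul_smul, inv_smul_eq_iff.2 k1.symm, g1]) (h • y) k2
      (by rwa [mul_smul, inv_smul_smul]) (h • w) k3
    rwa [mul_smul, inv_smul_smul] at this
  have hmap : ∀ x y, x ≠ y → ∃ g : G, g • x = α ∧ g • y = b := fun x y hxy => h2' hxy hbα.symm
  have hrefl : ∀ x y, x ≠ y → R x y y := fun x y hxy => by
    obtain ⟨g, h1, h2⟩ := hmap x y hxy
    exact ⟨g, h1, ⟨b, hbB, h2.symm⟩, ⟨b, hbB, h2.symm⟩⟩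
  have hbig : ∀ x y, x ≠ y → ∃ z, z ≠ y ∧ R x y z := fun x y hxy => by
    obtain ⟨g, h1, h2⟩ := hmap x y hxy
    refine ⟨g⁻¹ • (b' : Ω), fun e => ?_, g, h1, ⟨b, hbB, h2.symm⟩, ⟨b', hb'B, (smul_inv_smul _ _).symm⟩⟩
    rw [inv_smul_eq_iff, h2] at e
    exact hbb' (Subtype.ext e.symm)
  have hsmall : ∃ x y v, v ≠ x ∧ x ≠ y ∧ ¬ R x y v := by
    refine ⟨α, b, w, hwα, hbα.symm, ?_⟩
    rintro ⟨g, g1, g2, g3⟩
    have := hblock g⁻¹ (inv_smul_eq_iff.2 g1.symm) (g • (b : Ω)) g2
      (by rw [inv_smul_smul]; exact ⟨b, hbB, rfl⟩) (g • (w : Ω)) g3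
    rw [inv_smul_smul] at this
    obtain ⟨a, ha, haw⟩ := this
    exact hwB ((Subtype.ext haw : a = w) ▸ ha)
  have hp2 : p ≠ 2 := by omega
  have hmixed := fun (C : Coord G Ω p) (x y z : Ω) (h : y ≠ z) (h' : R x y z) =>
    mixed hΩ hins hp2 R hR hne hsymm htr hrefl hbig hsmall C h h'
  obtain ⟨C⟩ := exists_coord hΩ P hN
  have huniq : ∀ x y z z', z ≠ y → z' ≠ y → R x y z → R x y z' → z = z' := by
    intro x y z z' h h' hz hz'
    by_contra hzz
    have e1 := hmixed C x y z h.symm hz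
    have e2 := hmixed C x y z' h'.symm hz'
    have e3 := hmixed C x z z' hzz (htr _ _ _ _ hz hz')
    tauto
  choose f hf1 hf2 using hbig
  let π : Ω → Ω → Ω := fun x y => if h : x = y then x else f x y h
  have hπR : ∀ x y, x ≠ y → π x y ≠ y ∧ R x y (π x y) := fun x y h => by
    simp only [π, dif_neg h]
    exact ⟨hf1 x y h, hf2 x y h⟩
  have hπne : ∀ x y, x ≠ y → π x y ≠ x ∧ π x y ≠ y := fun x y h =>
    ⟨(hne _ _ _ (hπR x y h).2).2, (hπR x y h).1⟩
  refine no_pairing hΩ hins hp7 P hN π (fun g x y => ?_) (fun x => dif_pos rfl) (fun x y h => ?_) hπne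
    (fun C x y h => hmixed C x y _ (hπne x y h).2.symm (hπR x y h).2)
  · by_cases h : x = y
    · simp [π, h]
    · have hg : g • x ≠ g • y := fun e => h (MulAction.injective g e)
      exact huniq (g • x) (g • y) _ _ (fun e => (hπR x y h).1 (MulAction.injective g e)) (hπR _ _ hg).1
        ((hR g _ _ _).2 (hπR x y h).2) (hπR _ _ hg).2
  · have hne' := (hπne x y h).1.symm
    exact huniq x (π x y) _ _ (hπR _ _ hne').1 (hπne x y h).2.symm (hπR _ _ hne').2
      (hsymm _ _ _ (hπR x y h).2)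

end Cfsg.Agent.S3612
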