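import Cfsg.Statements.S0732
import Cfsg.Agent.Lib.Perm.ZGroup.PrimePlusOne
import Cfsg.Agent.Lib.Perm.ZGroup.Sharp

set_option autoImplicit false
open Cfsg

namespace Cfsg.Agent.S0732

/-- A transitive permutation group on `p + 1` points (`p` prime) of order `(p+1) p d` with `d < p` is isomorphic to `PGL(2,p)` with `d = p - 1`, or to `PSL(2,p)` with `2d = p - 1`, or else `p + 1 = 2^q` for a prime `q`, `d = 1` or `d = q`, and the group is permutation-isomorphic to a group of semi-affine maps `x ↦ a φ(x) + b` of the field with `2^q` elements. -/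
theorem result {α : Type*} [Fintype α] [DecidableEq α] {p d : ℕ} (hp : p.Prime) (hα : Fintype.card α = p + 1) (G : Subgroup (Equiv.Perm α)) [MulAction.IsPretransitive G α] (hG : Nat.card G = (p + 1) * p * d) (hd : d < p) : (d = p - 1 ∧ Nonempty (G ≃* Matrix.ProjGenLinGroup (Fin 2) (ZMod p))) ∨ (2 * d = p - 1 ∧ Nonempty (G ≃* Matrix.ProjectiveSpecialLinearGroup (Fin 2) (ZMod p))) ∨ (∃ q : ℕ, q.Prime ∧ p + 1 = 2 ^ q ∧ (d = 1 ∨ d = q) ∧ ∃ e : α ≃ GaloisField 2 q, ∀ g : G, (e.symm.trans (((g : Equiv.Perm α)).trans e)) ∈ Cfsg.semiaffineGroup (GaloisField 2 q)) := by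
  open MulAction CfsgLib.Perm CfsgLib.Classical.Dickson in
  classical
  haveI : Fact p.Prime := ⟨hp⟩
  have hd0 : 0 < d := by
    rcases Nat.eq_zero_or_pos d with h | h
    · exact absurd (show Nat.card G = 0 by rw [hG, h, mul_zero]) Nat.card_pos.ne'
    · exact h
  by_cases hsmall : p ≤ 3 ∧ d = p - 1
  · -- the full symmetric groups of degree 3 and 4
    refine Or.inl ⟨hsmall.2, ?_⟩
    have hfact : Nat.card (Equiv.Perm α) = (p + 1) * p * (p - 1) := by
      rw [Nat.card_eq_fintype_card, Fintype.card_perm, hα]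
      have := hp.two_le
      obtain ⟨h3, -⟩ := hsmall
      interval_cases p <;> rfl
    have hK : Nat.card (ZMod p) = p := Nat.card_zmod p
    have hPGL : Nat.card (Matrix.ProjGenLinGroup (Fin 2) (ZMod p)) = (p + 1) * p * (p - 1) := by
      rw [card_pgl2, hK]
    have hinj : Function.Injective (MulAction.toPermHom (Matrix.ProjGenLinGroup (Fin 2) (ZMod p)) (OnePoint (ZMod p))) :=
      MulAction.toPerm_injective
    haveI : Finite (OnePoint (ZMod p)) := inferInstanceAs (Finite (Option (ZMod p)))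
    haveI := Fintype.ofFinite (OnePoint (ZMod p))
    have hpts : Fintype.card α = Fintype.card (OnePoint (ZMod p)) := by
      rw [← Nat.card_eq_fintype_card, ← Nat.card_eq_fintype_card, natCard_points, hK,
        Nat.card_eq_fintype_card, hα]
    let e0 : Equiv.Perm α ≃* Equiv.Perm (OnePoint (ZMod p)) :=
      (Fintype.equivOfCardEq hpts).permCongrHom
    have htop : G = ⊤ := Subgroup.eq_top_of_card_eq G (by rw [hG, hfact, hsmall.2])
    have hbij : Function.Bijective (MulAction.toPermHom (Matrix.ProjGenLinGroup (Fin 2) (ZMod p)) (OnePoint (ZMod p))) :=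
      (Nat.bijective_iff_injective_and_card _).mpr ⟨hinj, by
        rw [hPGL, ← hfact, Nat.card_congr e0.toEquiv]⟩
    exact ⟨((MulEquiv.subgroupCongr htop).trans Subgroup.topEquiv).trans
      (e0.trans (MulEquiv.ofBijective _ hbij).symm)⟩
  have hp2 : p ≠ 2 := by
    rintro rfl
    exact hsmall ⟨by omega, by omega⟩
  haveI : Nontrivial α := Fintype.one_lt_card_iff_nontrivial.mp (by have := hp.two_le; omega)
  obtain ⟨a, b, hab⟩ := exists_pair_ne α
  obtain ⟨P, hPle, hPn, hPc, hreg, hH, hfree, h2⟩ := ZGroup.PrimePlusOne.exists_kernel hp hα G hG hd a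
  have hHab : Nat.card ↥(stabilizer G a ⊓ stabilizer G b) = d := hH b hab.symm
  have hsemi : ∀ N : Subgroup G, N.Normal → IsPretransitive N α → (∀ x : α, stabilizer N x = ⊥) →
      (∃ q : ℕ, q.Prime ∧ p + 1 = 2 ^ q ∧ (d = 1 ∨ d = q) ∧ ∃ e : α ≃ GaloisField 2 q,
        ∀ g : G, (e.symm.trans (((g : Equiv.Perm α)).trans e)) ∈ Cfsg.semiaffineGroup (GaloisField 2 q)) := by
    intro N hN hNt hNr
    obtain ⟨q, hq, hpq, hdq, e, he⟩ :=
      ZGroup.PrimePlusOne.semiaffine_case hp hp2 hα G h2 hab P hPle hPn hPc hreg N hNr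
    rw [hHab] at hdq
    exact ⟨q, hq, hpq, (Nat.dvd_prime hq).mp hdq, e, he⟩
  by_cases hreg' : ∃ N : Subgroup G, N.Normal ∧ IsPretransitive N α ∧ ∀ x : α, stabilizer N x = ⊥
  · obtain ⟨N, hN, hNt, hNr⟩ := hreg'
    exact Or.inr (Or.inr (hsemi N hN hNt hNr))
  rcases eq_or_lt_of_le (Nat.succ_le_of_lt hd0) with hd1 | hd1
  · -- sharply doubly transitive
    exfalso
    refine hreg' ?_
    have hfree2 : ∀ (g : G) (x y : α), x ≠ y → g • x = x → g • y = y → g = 1 := by
      intro g x y hxy hx hy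
      obtain ⟨k, hkx, hky⟩ := (is_two_pretransitive_iff.mp h2) hxy hab
      haveI : Subsingleton ↥(stabilizer G a ⊓ stabilizer G b) :=
        (Nat.card_eq_one_iff_unique.mp (hHab.trans hd1.symm)).1
      have hmem : k * g * k⁻¹ ∈ stabilizer G a ⊓ stabilizer G b :=
        ⟨show (k * g * k⁻¹) • a = a by rw [← hkx, mul_smul, inv_smul_smul, mul_smul, hx],
         show (k * g * k⁻¹) • b = b by rw [← hky, mul_smul, inv_smul_smul, mul_smul, hy]⟩
      exact conj_eq_one_iff.mp (congrArg Subtype.val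
        (Subsingleton.elim (⟨_, hmem⟩ : ↥(stabilizer G a ⊓ stabilizer G b)) 1))
    obtain ⟨-, -, K, -, -, -, hKn, -, -, hKt, hKfree, -, -, -⟩ := Sharp2.structure_thm h2 hfree2
      (by rw [Nat.card_eq_fintype_card, hα]; have := hp.two_le; omega)
    exact ⟨K, hKn, hKt, hKfree⟩
  have hZ : Cfsg.IsZassenhausGroup G α := by
    refine ⟨inferInstance, h2, fun g x y z hxy hyz hxz hx hy hz => hfree g x y z hxy hyz hxz hx hy hz,
      ?_, ?_⟩
    · obtain ⟨g, hg⟩ := Finite.one_lt_card_iff_nontrivial.mp (hHab.symm ▸ hd1) |>.exists_pair_ne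
      obtain ⟨g', hg'⟩ := hg
      rcases eq_or_ne g 1 with rfl | h
      · exact ⟨g', fun e => hg' (Subtype.ext e.symm), a, b, hab, g'.2.1, g'.2.2⟩
      · exact ⟨g, fun e => h (Subtype.ext e), a, b, hab, g.2.1, g.2.2⟩
    · intro N hN hNt
      by_contra h
      push Not at h
      exact hreg' ⟨N, hN, hNt, h⟩
  haveI : IsCyclic P := isCyclic_of_prime_card hPc
  have hPab : IsMulCommutative P := inferInstance
  let S : ZGroup.Setup G α a b := ⟨hZ, hab, P, hPle, hPn, hreg⟩
  have hSF : Nat.card S.F = p := hPc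
  have hSH : Nat.card S.H = d := hHab
  rcases ZGroup.small_index d S hPab hSH with h1 | h1 <;> rw [hSF] at h1
  · refine Or.inl ⟨h1, ?_⟩
    have h4 : 4 ≤ p := by
      by_contra h
      exact hsmall ⟨by omega, h1⟩
    obtain ⟨h3, hsharp⟩ := S.sharply_three_transitive (by rw [hSF, hSH, h1])
    obtain ⟨c, hca, hcb⟩ : ∃ c : α, c ≠ a ∧ c ≠ b := by
      obtain ⟨c, -, hc⟩ := Finset.exists_mem_notMem_of_card_lt_card
        (s := ({a, b} : Finset α)) (t := Finset.univ)
        (lt_of_le_of_lt Finset.card_le_two (by rw [Finset.card_univ, hα]; omega))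
      simp only [Finset.mem_insert, Finset.mem_singleton, not_or] at hc
      exact ⟨c, hc.1, hc.2⟩
    obtain ⟨s, hsa, hsb, hsc⟩ := SharpThreeFrame.exists_swap G h3 hab hca.symm hcb.symm
    have heven : Even (Fintype.card α) := by
      rw [hα]; exact (hp.odd_of_ne_two hp2).add_one
    obtain ⟨D⟩ := SharpThreeFrame.exists_frame heven (by omega) G h3 hsharp hab hca.symm hcb.symm s
      hsa hsb hsc
    have hDp : D.p ^ D.f = p := by have := D.hcard; omega
    have hf1 : D.f = 1 := by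
      exact ((Nat.Prime.pow_eq_iff hp).mp hDp).2
    obtain ⟨F, hF, hFt, hFc, ⟨iso⟩⟩ := D.nonempty_equiv_pgl h3 (by rw [hf1]; exact odd_one)
    exact ⟨iso.trans (pglCongr (FiniteField.ringEquivOfCardEq (hFc.trans (hDp.trans (ZMod.card p).symm))))⟩
  · refine Or.inr (Or.inl ⟨h1, ?_⟩)
    obtain ⟨p', f, K, hK, hKf, -, -, hKc, hKα, ⟨iso⟩⟩ :=
      ZGroup.psl_of_half S hPab (by rw [hSF, hSH, h1])
    have hcard : Fintype.card K = Fintype.card (ZMod p) := by rw [ZMod.card, hKc]; omega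
    obtain ⟨i1⟩ := psl_congr (RingEquiv.refl K)
    obtain ⟨i2⟩ := psl_congr (FiniteField.ringEquivOfCardEq hcard : K ≃+* ZMod p)
    exact ⟨iso.trans (i1.symm.trans i2)⟩

end Cfsg.Agent.S0732
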