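import Cfsg.Statements.S4207
import Cfsg.Agent.Lib.PGroup.Frattini

set_option autoImplicit false
open Cfsg

namespace Cfsg.Agent.S4207

/-- Let `P` be a group of order `p^n` whose Frattini subgroup has index `p^r`. Then any group of automorphisms of `P` each of which induces the identity on the Frattini quotient has order dividing `p^(r(n-r))`; in particular it is a `p`-group. -/
theorem result {P : Type*} [Group P] [Finite P] {p n r : ℕ} [Fact p.Prime] (hP : Nat.card P = p ^ n) (hr : (frattini P).index = p ^ r) (A : Subgroup (MulAut P)) (hA : ∀ α ∈ A, ∀ x : P, α x * x⁻¹ ∈ frattini P) : Nat.card A ∣ p ^ (r * (n - r)) := by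
  have hp : p.Prime := Fact.out
  have hPp : IsPGroup p P := IsPGroup.of_card hP
  have hrn : r ≤ n := by
    have := Subgroup.index_dvd_card (frattini P)
    rw [hr, hP, Nat.pow_dvd_pow_iff_le_right hp.one_lt] at this
    exact this
  have hΦ : Nat.card (frattini P) = p ^ (n - r) := by
    have := (frattini P).card_mul_index
    rw [hr, hP, ← Nat.sub_add_cancel hrn, pow_add] at this
    exact Nat.eq_of_mul_eq_mul_right (pow_pos hp.pos _) this
  have hQ : Nat.card (P ⧸ frattini P) = p ^ r := hr
  have hgen := CfsgLib.PGroup.Frattini.card_generating_tuples hQ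
    (CfsgLib.PGroup.Frattini.quotient_mul_comm hPp) (CfsgLib.PGroup.Frattini.quotient_pow_eq_one hPp)
  have fix1 : ∀ (α : MulAut P) (s : Fin r → P), Subgroup.closure (Set.range s) = ⊤ →
      (∀ i, α (s i) = s i) → α = 1 := by
    intro α s hs hfix
    have := MonoidHom.eq_of_eqOn_dense (f := α.toMonoidHom) (g := MonoidHom.id P) hs
      (by rintro _ ⟨i, rfl⟩; exact hfix i)
    exact MulEquiv.ext fun x => DFunLike.congr_fun this x
  obtain ⟨t, ht⟩ : ∃ t : Fin r → P ⧸ frattini P, Subgroup.closure (Set.range t) = ⊤ := by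
    have hpos : 0 < ∏ i ∈ Finset.range r, (p ^ r - p ^ i) := Finset.prod_pos fun i hi =>
      Nat.sub_pos_of_lt (Nat.pow_lt_pow_right hp.one_lt (Finset.mem_range.1 hi))
    rw [← hgen] at hpos
    obtain ⟨⟨t, ht⟩⟩ := (Nat.card_pos_iff.1 hpos).1
    exact ⟨t, ht⟩
  have hinv : ∀ (a : A) (x : P), (((a : MulAut P) x : P) : P ⧸ frattini P) = x := by
    intro a x
    have := (QuotientGroup.eq_one_iff _).2 (hA a a.2 x)
    rwa [QuotientGroup.mk_mul, QuotientGroup.mk_inv, mul_inv_eq_one] at this
  let _ : MulAction A {s : Fin r → P // ∀ i, (s i : P ⧸ frattini P) = t i} :=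
    { smul := fun a s => ⟨fun i => (a : MulAut P) (s.1 i), fun i => (hinv a _).trans (s.2 i)⟩
      one_smul := fun s => rfl
      mul_smul := fun a b s => rfl }
  have h := CfsgLib.PGroup.Frattini.card_dvd_of_free (A := A)
    (X := {s : Fin r → P // ∀ i, (s i : P ⧸ frattini P) = t i}) (by
      rintro a ⟨s, hs⟩ ha
      refine Subtype.ext (fix1 _ s ?_ fun i => congrFun (congrArg Subtype.val ha) i)
      rw [CfsgLib.PGroup.Frattini.closure_range_eq_top_iff, show (fun i => (s i : P ⧸ frattini P)) = t from funext hs]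
      exact ht)
  rwa [CfsgLib.PGroup.Frattini.card_fiber_tuples, hΦ, Fintype.card_fin, ← pow_mul, mul_comm] at h

end Cfsg.Agent.S4207
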