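import Cfsg.Statements.S0672
import Cfsg.Agent.Lib.Perm.PermRep

set_option autoImplicit false
open Cfsg

namespace Cfsg.Agent.S0672

/-- Let a finite group act faithfully and doubly transitively with point stabilisers of even order, and let `K` have characteristic `p` dividing the degree. If the heart of the permutation module admits no non-zero equivariant map to the permutation module on unordered pairs (phrased: every intertwining map from the sum-zero functions vanishing on the constants is zero), the action is triply transitive. -/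
theorem result {G : Type*} [Group G] [Finite G] {K : Type*} [Field K] {p : ℕ} [Fact p.Prime] [CharP K p] {Ω : Type*} [Fintype Ω] [DecidableEq Ω] [MulAction G Ω] [FaithfulSMul G Ω] (h2 : MulAction.IsMultiplyPretransitive G Ω 2) (hp : p ∣ Fintype.card Ω) (heven : ∀ a : Ω, Even (Nat.card (MulAction.stabilizer G a))) (h : ∀ f : Representation.IntertwiningMap (Cfsg.permSumZero K G Ω).toRepresentation (Cfsg.permRep K G (Set.powersetCard Ω 2)), (∀ v : (Cfsg.permSumZero K G Ω).toSubmodule, (v : Ω → K) ∈ (Cfsg.permConstants K G Ω).toSubmodule → f v = 0) → f = 0) : MulAction.IsMultiplyPretransitive G Ω 3 := by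
  classical
  open CfsgLib.Perm.PermRep in
  have h2' : ∀ {a b c d : Ω}, a ≠ b → c ≠ d → ∃ g : G, g • a = c ∧ g • b = d :=
    fun {a b c d} hab hcd => (MulAction.is_two_pretransitive_iff.mp h2) hab hcd
  have hpair : ∀ {a b : Ω}, a ≠ b → ({a, b} : Finset Ω) ∈ Set.powersetCard Ω 2 := fun {a b} hab => by
    simp [Set.powersetCard.mem_iff, Finset.card_pair hab]
  have key : ∀ {a b x y : Ω}, a ≠ b → x ≠ a → x ≠ b → y ≠ a → y ≠ b →
      ∃ g : G, ((g • a = a ∧ g • b = b) ∨ (g • a = b ∧ g • b = a)) ∧ g • x = y := by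
    intro a b x y hab hxa hxb hya hyb
    by_contra hc
    let P : Ω → Finset Ω → Ω → Prop := fun u s z =>
      ∃ g : G, ({g • a, g • b} : Finset Ω) = s ∧ g • u = z
    have hPinv : ∀ u (k : G) (s : Finset Ω) z, P u s z → P u (s.image (k • ·)) (k • z) := by
      rintro u k s z ⟨g, rfl, rfl⟩
      exact ⟨k * g, by simp [Finset.image_insert, mul_smul], mul_smul _ _ _⟩
    let N : Ω → K := fun u => ∑ z, if P u {a, b} z then 1 else 0
    have hN : ∀ (u : Ω) (s : Set.powersetCard Ω 2), ∑ z, (if P u s.1 z then (1 : K) else 0) = N u := by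
      intro u ⟨s, hs⟩
      obtain ⟨c, d, hcd, rfl⟩ := Finset.card_eq_two.mp (by simpa [Set.powersetCard.mem_iff] using hs)
      obtain ⟨k, hk1, hk2⟩ := h2' hab hcd
      symm
      refine Fintype.sum_equiv (MulAction.toPerm k) _ _ fun z => ?_
      have : P u {a, b} z ↔ P u {c, d} (k • z) := by
        constructor
        · intro h
          have := hPinv u k _ _ h
          simpa [Finset.image_insert, hk1, hk2] using this
        · intro h
          have := hPinv u k⁻¹ _ _ h
          simpa [Finset.image_insert, ← hk1, ← hk2] using this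
      simp only [MulAction.toPerm_apply, this]
    let coef : K × K := if N x = 0 then (1, 0) else (N y, N x)
    have hcoef : coef.1 * N x - coef.2 * N y = 0 := by
      simp only [coef]; split_ifs with h0 <;> simp [*, mul_comm]
    let c : Finset Ω → Ω → K := fun s z =>
      coef.1 * (if P x s z then 1 else 0) - coef.2 * (if P y s z then 1 else 0)
    have hcinv : ∀ (k : G) (s : Finset Ω) z, c (s.image (k • ·)) (k • z) = c s z := by
      intro k s z
      have : ∀ u, P u (s.image (k • ·)) (k • z) ↔ P u s z := fun u => ⟨fun h => by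
        have := hPinv u k⁻¹ _ _ h
        simpa [Finset.image_image, Function.comp_def] using this, hPinv u k s z⟩
      simp only [c, this]
    have hcsum : ∀ s : Set.powersetCard Ω 2, ∑ z, c s.1 z = 0 := fun s => by
      simp only [c, Finset.sum_sub_distrib, ← Finset.mul_sum, hN, hcoef]
    let f₀ : (Ω → K) →ₗ[K] (Set.powersetCard Ω 2 → K) :=
      { toFun := fun v s => ∑ z, c s.1 z * v z
        map_add' := fun v w => funext fun s => by simp [mul_add, Finset.sum_add_distrib]
        map_smul' := fun r v => funext fun s => by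
          simp only [Pi.smul_apply, smul_eq_mul, RingHom.id_apply, Finset.mul_sum]
          exact Finset.sum_congr rfl fun z _ => mul_left_comm _ _ _ }
    let f : Representation.IntertwiningMap (Cfsg.permSumZero K G Ω).toRepresentation
        (Cfsg.permRep K G (Set.powersetCard Ω 2)) :=
      LinearMap.intertwiningMap_of_isIntertwiningMap _ _ (f₀.domRestrict _) (by
        intro g v
        funext s
        change ∑ z, c s.1 z * (v : Ω → K) (g⁻¹ • z) = ∑ z, c (g⁻¹ • s).1 z * (v : Ω → K) z
        refine Fintype.sum_equiv (MulAction.toPerm g⁻¹) _ _ fun z => ?_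
        simp only [MulAction.toPerm_apply]
        congr 1
        rw [← hcinv g⁻¹ s.1 z]
        congr 1)
    have hf := h f (fun v hv => by
      obtain ⟨r, hr⟩ := mem_permConstants.mp hv
      funext s
      change ∑ z, c s.1 z * (v : Ω → K) z = 0
      simp only [hr, ← Finset.sum_mul, hcsum, zero_mul])
    have hzero : ∀ z, c {a, b} z = c {a, b} a := by
      intro z
      have hv : (Pi.single z 1 - Pi.single a 1 : Ω → K) ∈ (Cfsg.permSumZero K G Ω).toSubmodule := by
        rw [mem_permSumZero]; simp [Finset.sum_sub_distrib]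
      have := congrFun (DFunLike.congr_fun hf ⟨_, hv⟩) ⟨{a, b}, hpair hab⟩
      change ∑ w, c {a, b} w * (Pi.single z 1 - Pi.single a 1 : Ω → K) w = 0 at this
      simpa [mul_sub, Finset.sum_sub_distrib, Pi.single_apply, sub_eq_zero] using this
    have hnota : ∀ {u w : Ω}, u ≠ a → u ≠ b → (w = a ∨ w = b) → ¬ P u {a, b} w := by
      rintro u w hua hub hw ⟨g, hg, rfl⟩
      have hm : g • u ∈ ({g • a, g • b} : Finset Ω) := by rw [hg]; rcases hw with h | h <;> simp [h]
      simp only [Finset.mem_insert, Finset.mem_singleton] at hm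
      rcases hm with h | h
      · exact hua (MulAction.injective g h)
      · exact hub (MulAction.injective g h)
    have hxy : ¬ P x {a, b} y ∧ ¬ P y {a, b} x := by
      have hset : ∀ g : G, ({g • a, g • b} : Finset Ω) = {a, b} →
          ((g • a = a ∧ g • b = b) ∨ (g • a = b ∧ g • b = a)) := by
        intro g hg
        have h1 : g • a ∈ ({a, b} : Finset Ω) := hg ▸ by simp
        have h2 : g • b ∈ ({a, b} : Finset Ω) := hg ▸ by simp
        have h3 : g • a ≠ g • b := fun h => hab (MulAction.injective g h)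
        simp only [Finset.mem_insert, Finset.mem_singleton] at h1 h2
        grind
      constructor
      · rintro ⟨g, hg, hgx⟩
        exact hc ⟨g, hset g hg, hgx⟩
      · rintro ⟨g, hg, hgy⟩
        refine hc ⟨g⁻¹, ?_, by rw [inv_smul_eq_iff, hgy]⟩
        rcases hset g hg with ⟨h1, h2⟩ | ⟨h1, h2⟩
        · exact Or.inl ⟨by rw [inv_smul_eq_iff, h1], by rw [inv_smul_eq_iff, h2]⟩
        · exact Or.inr ⟨by rw [inv_smul_eq_iff, h2], by rw [inv_smul_eq_iff, h1]⟩
    have hPx : ∀ u, P u {a, b} u := fun u => ⟨1, by simp, one_smul _ _⟩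
    have hax := hzero x
    have hay := hzero y
    simp only [c, if_pos (hPx x), if_pos (hPx y), if_neg hxy.1, if_neg hxy.2,
      if_neg (hnota hxa hxb (Or.inl rfl)), if_neg (hnota hya hyb (Or.inl rfl)),
      mul_one, mul_zero, sub_zero, zero_sub, sub_self, neg_eq_zero] at hax hay
    by_cases h0 : N x = 0
    · simp [coef, h0] at hax
    · simp [coef, h0] at hay
  have hswap : ∀ {c d z : Ω}, c ≠ d → z ≠ c → z ≠ d →
      ∃ g : G, g • c = d ∧ g • d = c ∧ g • z = z := by
    intro c d z hcd hzc hzd
    haveI : Fact (Nat.Prime 2) := ⟨Nat.prime_two⟩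
    obtain ⟨t, ht⟩ := exists_prime_orderOf_dvd_card' (G := MulAction.stabilizer G z) 2 (heven z).two_dvd
    have ht1 : (t : G) ≠ 1 := fun h => by
      have : t = 1 := Subtype.ext h
      rw [this, orderOf_one] at ht; omega
    obtain ⟨u, hu⟩ : ∃ u : Ω, (t : G) • u ≠ u := by
      by_contra hall
      push Not at hall
      exact ht1 (eq_of_smul_eq_smul (α := Ω) fun u => by rw [hall u, one_smul])
    have ht2 : ∀ w : Ω, (t : G) • (t : G) • w = w := fun w => by
      have := pow_orderOf_eq_one t
      rw [ht, pow_two] at this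
      rw [smul_smul, ← Subgroup.coe_mul, this, Subgroup.coe_one, one_smul]
    obtain ⟨g, hg1, hg2⟩ := h2' hu.symm hcd
    set w := g • z
    have htz : (t : G) • z = z := t.2
    have hwc : w ≠ c := fun hw => by
      have : z = u := MulAction.injective g (hw.trans hg1.symm)
      exact hu (this ▸ htz)
    have hwd : w ≠ d := fun hw => by
      have : z = (t : G) • u := MulAction.injective g (hw.trans hg2.symm)
      exact hu ((MulAction.injective (t : G) (htz.trans this)) ▸ htz)
    obtain ⟨k, hk, hkw⟩ := key hcd hwc hwd hzc hzd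
    refine ⟨(k * g) * (t : G) * (k * g)⁻¹, ?_⟩
    have e1 : (k * g) • z = z := by rw [mul_smul]; exact hkw
    have e2 : (k * g) • u = k • c := by rw [mul_smul, hg1]
    have e3 : (k * g) • ((t : G) • u) = k • d := by rw [mul_smul, hg2]
    have E : ∀ v : Ω, ((k * g) * (t : G) * (k * g)⁻¹) • ((k * g) • v) = (k * g) • ((t : G) • v) :=
      fun v => by rw [mul_smul, mul_smul, inv_smul_smul]
    have f2 := E u
    have f3 := E ((t : G) • u)
    have f1 := E z
    rw [e2, e3] at f2
    rw [ht2, e2, e3] at f3
    rw [htz, e1] at f1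
    rcases hk with ⟨hkc, hkd⟩ | ⟨hkc, hkd⟩
    · rw [hkc, hkd] at f2 f3; exact ⟨f2, f3, f1⟩
    · rw [hkc, hkd] at f2 f3; exact ⟨f3, f2, f1⟩
  rw [MulAction.isMultiplyPretransitive_iff]
  intro X Y
  have hX : ∀ {i j : Fin 3}, i ≠ j → X i ≠ X j := fun hij h => hij (X.injective h)
  have hY : ∀ {i j : Fin 3}, i ≠ j → Y i ≠ Y j := fun hij h => hij (Y.injective h)
  obtain ⟨g, hg0, hg1⟩ := h2' (hX (i := 0) (j := 1) (by decide)) (hY (i := 0) (j := 1) (by decide))
  have hw0 : g • X 2 ≠ Y 0 := fun h => hX (i := 2) (j := 0) (by decide) (MulAction.injective g (h.trans hg0.symm))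
  have hw1 : g • X 2 ≠ Y 1 := fun h => hX (i := 2) (j := 1) (by decide) (MulAction.injective g (h.trans hg1.symm))
  obtain ⟨k, hk, hkw⟩ := key (hY (i := 0) (j := 1) (by decide)) hw0 hw1
    (hY (i := 2) (j := 0) (by decide)) (hY (i := 2) (j := 1) (by decide))
  obtain ⟨m, hm0, hm1, hm2⟩ : ∃ m : G, m • Y 0 = Y 0 ∧ m • Y 1 = Y 1 ∧ m • (g • X 2) = Y 2 := by
    rcases hk with ⟨h0, h1⟩ | ⟨h0, h1⟩
    · exact ⟨k, h0, h1, hkw⟩
    · obtain ⟨w, hw⟩ := hswap (hY (i := 0) (j := 1) (by decide))
        (hY (i := 2) (j := 0) (by decide)) (hY (i := 2) (j := 1) (by decide))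
      exact ⟨w * k, by rw [mul_smul, h0, hw.2.1], by rw [mul_smul, h1, hw.1],
        by rw [mul_smul, hkw, hw.2.2]⟩
  refine ⟨m * g, Function.Embedding.ext fun i => ?_⟩
  rw [Function.Embedding.smul_apply, mul_smul]
  fin_cases i
  · change m • g • X 0 = Y 0; rw [hg0, hm0]
  · change m • g • X 1 = Y 1; rw [hg1, hm1]
  · exact hm2

end Cfsg.Agent.S0672
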