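import Cfsg.Statements.S0676
import Cfsg.Agent.S0672
import Cfsg.Agent.S0674
import Cfsg.Agent.S0675

set_option autoImplicit false
open Cfsg

namespace Cfsg.Agent.S0676

/-- A non-solvable transitive permutation group of prime degree `p` whose Sylow `p`-normaliser has even order is triply transitive. -/
theorem result {α : Type*} [Fintype α] [DecidableEq α] {p : ℕ} [Fact p.Prime] (hα : Fintype.card α = p) (G : Subgroup (Equiv.Perm α)) [MulAction.IsPretransitive G α] (hG : ¬ Group.IsSolvable G) (P : Sylow p G) (heven : Even (Nat.card (Subgroup.normalizer ((P : Subgroup G) : Set G)))) : MulAction.IsMultiplyPretransitive G α 3 := by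
  classical
  open CfsgLib.Perm CfsgLib.Perm.PermRep CfsgLib.Perm.PrimeDegree Pointwise in
  have hp : p.Prime := Fact.out
  have hα' : Nat.card α = p := by rw [Nat.card_eq_fintype_card]; exact hα
  have hp4 : 4 ≤ p := by
    by_contra h
    exact hG (isSolvable_of_le_three hα' (by omega) G)
  have h2 : MulAction.IsMultiplyPretransitive G α 2 :=
    (Cfsg.Agent.S0675.result (hα ▸ hp) G).resolve_left hG
  have hodd : Odd p := hp.odd_of_ne_two (by omega)
  haveI : Fact (Nat.Prime 2) := ⟨Nat.prime_two⟩
  obtain ⟨t, ht⟩ := exists_prime_orderOf_dvd_card' (G := Subgroup.normalizer ((P : Subgroup G) : Set G)) 2 heven.two_dvd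
  have ht' : orderOf (t : G) = 2 := by rw [Subgroup.orderOf_coe, ht]
  have hev : ∀ a : α, Even (Nat.card (MulAction.stabilizer G a)) := by
    intro a
    have h := CfsgLib.Perm.Basic.card_eq_mul_stabilizer (G := G) a
    have hd : 2 ∣ Nat.card G := ht' ▸ orderOf_dvd_natCard _
    rw [h, hα'] at hd
    rcases Nat.prime_two.dvd_mul.mp hd with hd | hd
    · exact absurd ((Nat.prime_dvd_prime_iff_eq Nat.prime_two hp).mp hd) (by omega)
    · exact even_iff_two_dvd.mpr hd
  obtain ⟨a⟩ : Nonempty α := Fintype.card_pos_iff.mp (hα ▸ hp.pos)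
  -- a generator `s` of the Sylow subgroup, inverted by `t`
  have hPc : Nat.card (P : Subgroup G) = p := by
    have hd : p ∣ Nat.card G := hα' ▸ (by
      have : Nonempty α := ⟨a⟩
      exact CfsgLib.Perm.Basic.card_dvd_card (G := G) (Ω := α))
    have h1 : Nat.card G ∣ p.factorial := by
      rw [← hα', ← Nat.card_perm]; exact Subgroup.card_subgroup_dvd_card G
    rw [P.card_eq_multiplicity]
    have h2 : (Nat.card G).factorization p ≤ 1 := by
      by_contra hlt
      have h3 : p ^ 2 ∣ p.factorial :=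
        ((pow_dvd_pow p (by omega : 2 ≤ (Nat.card G).factorization p)).trans
          (Nat.ordProj_dvd _ _)).trans h1
      rw [← Nat.mul_factorial_pred hp.ne_zero, pow_two] at h3
      have h4 := Nat.dvd_of_mul_dvd_mul_left hp.pos h3
      rw [hp.dvd_factorial] at h4
      omega
    have h5 := (Nat.Prime.dvd_iff_one_le_factorization hp Nat.card_pos.ne').mp hd
    rw [show (Nat.card G).factorization p = 1 by omega, pow_one]
  haveI : IsCyclic (P : Subgroup G) := isCyclic_of_prime_card hPc
  obtain ⟨s, hs⟩ := IsCyclic.exists_ofOrder_eq_natCard (α := (P : Subgroup G))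
  rw [hPc] at hs
  have hPtr := CfsgLib.Perm.Basic.sylow_isPretransitive (f := 1) (Ω := α) (by rw [hα', pow_one]) P
  have hgen : ∀ g : (P : Subgroup G), ∃ n : ℕ, s ^ n = g := fun g => by
    have : g ∈ Subgroup.zpowers s := mem_zpowers_of_prime_card hPc fun h => by
      rw [h, orderOf_one] at hs; exact hp.one_lt.ne hs
    exact (mem_powers_iff_mem_zpowers.mpr this)
  let s' : G := s
  have hstr : ∀ x y : α, ∃ n : ℕ, (s' ^ n) • x = y := fun x y => by
    obtain ⟨g, hg⟩ := MulAction.exists_smul_eq (P : Subgroup G) x y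
    obtain ⟨n, rfl⟩ := hgen g
    exact ⟨n, hg⟩
  have hts : (t : G) * s' * (t : G)⁻¹ = (s' : G)⁻¹ := by
    obtain ⟨k, hk⟩ := hgen ⟨(t : G) * s' * (t : G)⁻¹, (Subgroup.mem_normalizer_iff.mp t.2 _).mp s.2⟩
    have hk' : s' ^ k = (t : G) * s' * (t : G)⁻¹ := congrArg Subtype.val hk
    have ht2 : (t : G) * (t : G) = 1 := by
      rw [← pow_two, ← ht']; exact pow_orderOf_eq_one _
    have hsq : s' ^ (k * k) = s' := by
      have : (s' ^ k) ^ k = (t : G) * (s' ^ k) * (t : G)⁻¹ := by
        conv_lhs => rw [hk', conj_pow]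
      rw [pow_mul, this, hk']
      have hti : (t : G)⁻¹ = t := inv_eq_of_mul_eq_one_right ht2
      simp only [hti, ← mul_assoc, ht2, one_mul]
      rw [mul_assoc, ht2, mul_one]
    have hmod : k * k ≡ 1 [MOD p] := by
      have : s' ^ (k * k) = s' ^ 1 := by rw [hsq, pow_one]
      rwa [pow_eq_pow_iff_modEq, Subgroup.orderOf_coe, hs] at this
    have hz : ((k : ZMod p) - 1) * ((k : ZMod p) + 1) = 0 := by
      have : ((k * k : ℕ) : ZMod p) = ((1 : ℕ) : ZMod p) := (ZMod.natCast_eq_natCast_iff _ _ _).mpr hmod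
      push_cast at this
      linear_combination this
    rcases mul_eq_zero.mp hz with h0 | h0
    · exfalso
      have hcomm : (t : G) * s' * (t : G)⁻¹ = s' := by
        rw [← hk']
        conv_rhs => rw [← pow_one s']
        rw [pow_eq_pow_iff_modEq, Subgroup.orderOf_coe, hs, ← ZMod.natCast_eq_natCast_iff]
        simpa [sub_eq_zero] using h0
      have hc : Commute (t : G) s' := mul_inv_eq_iff_eq_mul.mp hcomm
      obtain ⟨x, hx⟩ : ∃ x : α, (t : G) • x = x := by
        obtain ⟨x, hx⟩ := (IsPGroup.of_card (G := Subgroup.zpowers (t : G)) (p := 2) (n := 1)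
          (by rw [Nat.card_zpowers, ht', pow_one])).nonempty_fixed_point_of_prime_not_dvd_card α
          (by rw [hα']; exact fun hd => absurd ((Nat.prime_dvd_prime_iff_eq Nat.prime_two hp).mp hd) (by omega))
        exact ⟨x, hx ⟨t, Subgroup.mem_zpowers _⟩⟩
      have : (t : G) = 1 := by
        apply Subtype.ext
        refine Equiv.ext fun y => ?_
        obtain ⟨n, rfl⟩ := hstr x y
        change (t : G) • (s' ^ n) • x = (1 : G) • (s' ^ n) • x
        rw [one_smul, smul_smul, (hc.pow_right n).eq, mul_smul, hx]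
      rw [this, orderOf_one] at ht'; omega
    · rw [← hk']
      apply eq_inv_of_mul_eq_one_left
      rw [← pow_succ, ← orderOf_dvd_iff_pow_eq_one, Subgroup.orderOf_coe, hs,
        ← ZMod.natCast_eq_zero_iff]
      push_cast
      exact h0
  obtain ⟨x₀, hx₀⟩ : ∃ x : α, (t : G) • x = x := by
    obtain ⟨x, hx⟩ := (IsPGroup.of_card (G := Subgroup.zpowers (t : G)) (p := 2) (n := 1)
      (by rw [Nat.card_zpowers, ht', pow_one])).nonempty_fixed_point_of_prime_not_dvd_card α
      (by rw [hα']; exact fun hd => absurd ((Nat.prime_dvd_prime_iff_eq Nat.prime_two hp).mp hd) (by omega))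
    exact ⟨x, hx ⟨t, Subgroup.mem_zpowers _⟩⟩
  let F : ZMod p → α := fun j => (s' ^ j.val) • x₀
  have hsp : ∀ n : ℕ, (s' ^ (n % p)) • x₀ = (s' ^ n) • x₀ := fun n => by
    rw [← hs, ← Subgroup.orderOf_coe, pow_mod_orderOf]
  have hF : Function.Bijective F := (Nat.bijective_iff_surjective_and_card F).mpr ⟨fun y => by
    obtain ⟨n, hn⟩ := hstr x₀ y
    exact ⟨n, by change s' ^ (n : ZMod p).val • x₀ = y; rw [ZMod.val_natCast, hsp, hn]⟩,
    by rw [Nat.card_zmod, hα']⟩
  let e := (Equiv.ofBijective F hF).symm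
  have he : ∀ j, e (F j) = j := fun j => (Equiv.ofBijective F hF).symm_apply_apply j
  have hFn : ∀ n : ℕ, F (n : ZMod p) = (s' ^ n) • x₀ := fun n => by
    change s' ^ (n : ZMod p).val • x₀ = _; rw [ZMod.val_natCast, hsp]
  have hes : ∀ x, e (s' • x) = e x + 1 := fun x => by
    obtain ⟨j, rfl⟩ := hF.2 x
    rw [he]
    have : s' • F j = F (j + 1) := by
      rw [show j + 1 = ((j.val + 1 : ℕ) : ZMod p) by simp, hFn, pow_succ', mul_smul]
    rw [this, he]
  have het : ∀ x, e ((t : G) • x) = - e x := fun x => by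
    obtain ⟨j, rfl⟩ := hF.2 x
    rw [he]
    have : (t : G) • F j = F (-j) := by
      have h1 : (t : G) • F j = ((t : G) * s' * (t : G)⁻¹) ^ j.val • x₀ := by
        have hi : (t : G)⁻¹ • x₀ = x₀ := by rw [inv_smul_eq_iff, hx₀]
        rw [conj_pow, mul_smul, mul_smul, hi]
      rw [h1, hts, show -j = (((p - 1) * j.val : ℕ) : ZMod p) by simp [Nat.cast_sub hp.one_le], hFn]
      congr 1
      have key : ∀ v : ℕ, v + (p - 1) * v = p * v := fun v => by
        calc v + (p - 1) * v = (p - 1 + 1) * v := by ring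
          _ = p * v := by rw [Nat.sub_add_cancel hp.one_le]
      have hsp1 : s' ^ p = 1 := by
        have := pow_orderOf_eq_one s
        rw [hs] at this
        exact congrArg Subtype.val this
      rw [inv_pow, inv_eq_iff_mul_eq_one, ← pow_add, key, pow_mul, hsp1, one_pow]
    rw [this, he]
  refine Cfsg.Agent.S0672.result (K := ZMod p) (p := p) h2 (hα ▸ dvd_rfl) hev fun f hf => ?_
  let X : α → ZMod p := fun x => e x
  have hXS : X ∈ (Cfsg.permSumZero (ZMod p) G α).toSubmodule := by
    rw [mem_permSumZero]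
    have := sum_pow_eq_zero (p := p) (K := ZMod p) (k := 1) (by omega)
    simp only [pow_one, ZMod.cast_id] at this
    exact (Fintype.sum_equiv e _ _ fun x => rfl).trans this
  let S := (Cfsg.permSumZero (ZMod p) G α).toRepresentation
  let R := Cfsg.permRep (ZMod p) G (Set.powersetCard α 2)
  have hint : ∀ g v, f (S g v) = R g (f v) := fun g v => LinearMap.congr_fun (f.isIntertwining' g) v
  have h1S : (fun _ => (1 : ZMod p)) ∈ (Cfsg.permSumZero (ZMod p) G α).toSubmodule := by
    rw [mem_permSumZero]; simp [hα]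
  let X' : (Cfsg.permSumZero (ZMod p) G α).toSubmodule := ⟨X, hXS⟩
  have hu1 : R s' (f X') = f X' := by
    rw [← hint, ← sub_eq_zero, ← map_sub]
    refine hf _ ?_
    refine mem_permConstants.mpr ⟨-1, funext fun x => ?_⟩
    change X ((s' : G)⁻¹ • x) - X x = -1
    have := hes ((s' : G)⁻¹ • x)
    rw [smul_inv_smul] at this
    simp only [X, this]; ring
  have hu2 : R (t : G) (f X') = - f X' := by
    rw [← hint, ← map_neg]
    congr 1
    refine Subtype.ext (funext fun x => ?_)
    change X ((t : G)⁻¹ • x) = - X x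
    have := het ((t : G)⁻¹ • x)
    rw [smul_inv_smul] at this
    simp only [X, this, neg_neg]
  have hu0 : f X' = 0 := by
    set u := f X'
    have hus : ∀ (n : ℕ) S', u ((s' ^ n) • S') = u S' := fun n => by
      induction n with
      | zero => simp
      | succ n ih =>
        intro S'
        rw [pow_succ', mul_smul]
        have := congrFun hu1 (s' • (s' ^ n • S'))
        rw [permRep_apply, inv_smul_smul] at this
        rw [← this, ih]
    funext S'
    obtain ⟨T, hT⟩ := S'
    obtain ⟨x, y, hxy, rfl⟩ := Finset.card_eq_two.mp (by simpa [Set.powersetCard.mem_iff] using hT)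
    obtain ⟨n, hn⟩ : ∃ n : ℕ, (n : ZMod p) = -(e x + e y) := ⟨_, ZMod.natCast_zmod_val _⟩
    have hpow : ∀ z, e ((s' ^ n) • z) = e z + n := fun z => by
      clear hn
      induction n with
      | zero => simp
      | succ n ih => rw [pow_succ', mul_smul, hes, ih, Nat.cast_succ, add_assoc]
    have himg : (s' ^ n) • (⟨{x, y}, hT⟩ : Set.powersetCard α 2) = (t : G)⁻¹ • ⟨{x, y}, hT⟩ := by
      rw [eq_inv_smul_iff]
      apply Subtype.ext
      change (t : G) • ((s' ^ n) • ({x, y} : Finset α)) = {x, y}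
      simp only [Finset.smul_finset_insert, Finset.smul_finset_singleton]
      have a1 : (t : G) • (s' ^ n) • x = y := e.injective (by rw [het, hpow, hn]; ring)
      have a2 : (t : G) • (s' ^ n) • y = x := e.injective (by rw [het, hpow, hn]; ring)
      rw [a1, a2, Finset.pair_comm]
    have e1 := congrFun hu2 ⟨{x, y}, hT⟩
    rw [permRep_apply, ← himg, hus, Pi.neg_apply] at e1
    have h2ne : (2 : ZMod p) ≠ 0 := by
      intro h
      have h' : ((2 : ℕ) : ZMod p) = 0 := by exact_mod_cast h
      rw [ZMod.natCast_eq_zero_iff] at h'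
      have := Nat.le_of_dvd (by norm_num) h'
      omega
    have : (2 : ZMod p) * u ⟨{x, y}, hT⟩ = 0 := by linear_combination e1
    exact (mul_eq_zero.mp this).resolve_left h2ne
  let N : Subrepresentation (Cfsg.permRep (ZMod p) G α) :=
    ⟨(LinearMap.ker f.toLinearMap).map (Cfsg.permSumZero (ZMod p) G α).toSubmodule.subtype, fun g v hv => by
      obtain ⟨w, hw, rfl⟩ := hv
      refine ⟨S g w, ?_, rfl⟩
      change f (S g w) = 0
      rw [hint, show f w = 0 from hw, map_zero]⟩
  have hCN : (Cfsg.permConstants (ZMod p) G α).toSubmodule ≤ N.toSubmodule := by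
    intro v hv
    obtain ⟨c, rfl⟩ := mem_permConstants.mp hv
    have hm : (fun _ => c) ∈ (Cfsg.permSumZero (ZMod p) G α).toSubmodule := by
      rw [mem_permSumZero]; simp [hα]
    exact ⟨⟨_, hm⟩, hf _ (mem_permConstants.mpr ⟨c, rfl⟩), rfl⟩
  rcases Cfsg.Agent.S0674.result hα G hG N hCN (Submodule.map_subtype_le _ _) with h | h
  · exfalso
    have : X ∈ N.toSubmodule := ⟨X', hu0, rfl⟩
    rw [h, mem_permConstants] at this
    obtain ⟨c, hc⟩ := this
    have e0 := congrFun hc (F 0)
    have e1 := congrFun hc (F 1)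
    simp only [X, he] at e0 e1
    exact one_ne_zero (e1.trans e0.symm)
  · refine Representation.IntertwiningMap.ext (LinearMap.ext fun v => ?_)
    have hv : (v : α → ZMod p) ∈ N.toSubmodule := by rw [h]; exact v.2
    obtain ⟨w, hw, hwv⟩ := hv
    rw [show v = w from Subtype.ext hwv.symm]
    exact hw

end Cfsg.Agent.S0676
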