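import Cfsg.Statements.S0206
import Cfsg.Agent.Lib.Involution.Dihedral
-- import your own Cfsg.Agent.* helpers here

set_option autoImplicit false
open Cfsg

namespace Cfsg.Agent.S0206

/-- Two distinct involutions x, y of a finite group generate a subgroup isomorphic to the dihedral group of order 2·|xy|. -/
theorem result {G : Type*} [Group G] [Finite G] (x y : G) (hx : orderOf x = 2) (hy : orderOf y = 2) (hxy : x ≠ y) : Nonempty (↥(Subgroup.closure ({x, y} : Set G)) ≃* DihedralGroup (orderOf (x * y))) := by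
  classical
  have hxy' := CfsgLib.Involution.Dihedral.conj_mul_left hx hy
  set a := x * y with ha
  set n := orderOf a with hn
  have hn0 : NeZero n := ⟨(orderOf_pos a).ne'⟩
  have hmod : ∀ i j : ℤ, (i : ZMod n) = (j : ZMod n) → a ^ i = a ^ j := fun i j h =>
    zpow_eq_zpow_iff_modEq.2 ((ZMod.intCast_eq_intCast_iff i j n).1 h)
  have hcast : ∀ i : ZMod n, ((i.val : ℤ) : ZMod n) = i := fun i => by simp
  let F : DihedralGroup n → G := fun d => match d with
    | .r i => a ^ (i.val : ℤ)
    | .sr i => x * a ^ (i.val : ℤ)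
  have hxx := CfsgLib.Involution.Dihedral.mul_self hx
  have hinvk := CfsgLib.Involution.Dihedral.zpow_mul_left hxy'
  let f : DihedralGroup n →* G := MonoidHom.mk' F (by
    rintro (i | i) (j | j) <;> simp only [DihedralGroup.r_mul_r, DihedralGroup.r_mul_sr,
      DihedralGroup.sr_mul_r, DihedralGroup.sr_mul_sr, F]
    · rw [← zpow_add]; exact hmod _ _ (by simp)
    · rw [← mul_assoc, hinvk, mul_assoc, ← zpow_add]
      exact congrArg (x * ·) (hmod _ _ (by simp [sub_eq_add_neg, add_comm]))
    · rw [mul_assoc, ← zpow_add]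
      exact congrArg (x * ·) (hmod _ _ (by simp))
    · rw [mul_assoc x, ← mul_assoc (a ^ (i.val : ℤ)), hinvk, mul_assoc x _ (a ^ (j.val : ℤ)),
        ← mul_assoc x x, hxx, one_mul, ← zpow_add]
      exact hmod _ _ (by simp [sub_eq_add_neg, add_comm]))
  have hinj : Function.Injective f := by
    rw [injective_iff_map_eq_one]
    rintro (i | i) h
    · have h' : a ^ (i.val : ℤ) = a ^ (0 : ℤ) := by rw [zpow_zero]; exact h
      have := (ZMod.intCast_eq_intCast_iff _ _ n).2 (zpow_eq_zpow_iff_modEq.1 h')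
      rw [hcast] at this
      rw [this, Int.cast_zero]; rfl
    · exact absurd h (CfsgLib.Involution.Dihedral.ne_one
        (CfsgLib.Involution.Dihedral.reflection_orderOf hx hy hxy (i.val : ℤ)))
  have hr : f.range = Subgroup.closure ({x, y} : Set G) := by
    ext d
    rw [CfsgLib.Involution.Dihedral.mem_closure_pair_iff hx hy]
    constructor
    · rintro ⟨i | i, rfl⟩
      · exact Or.inl ⟨_, rfl⟩
      · exact Or.inr ⟨_, rfl⟩
    · rintro (⟨k, rfl⟩ | ⟨k, rfl⟩)
      · exact ⟨.r k, hmod _ _ (hcast _)⟩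
      · exact ⟨.sr k, congrArg (x * ·) (hmod _ _ (hcast _))⟩
  exact ⟨((MonoidHom.ofInjective hinj).trans (MulEquiv.subgroupCongr hr)).symm⟩

end Cfsg.Agent.S0206
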