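import Cfsg.Statements.S0102
import Cfsg.Agent.Lib.Fusion.Abelian

set_option autoImplicit false
open Cfsg

namespace Cfsg.Agent.S0102

/-- A finite perfect group with cyclic Sylow p-subgroups has no perfect central extension whose kernel has order divisible by p. -/
theorem result {G : Type*} {H : Type*} [Group G] [Group H] [Finite G] [Finite H] (hG : commutator G = ⊤) {p : ℕ} [Fact p.Prime] (hcyc : ∀ P : Sylow p G, IsCyclic P) (σ : H →* G) (hσ : Function.Surjective σ) (hz : σ.ker ≤ Subgroup.center H) (hH : commutator H = ⊤) : ¬ p ∣ Nat.card σ.ker := by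
  intro hp
  have hz' := hz
  obtain ⟨z, hzo⟩ := exists_prime_orderOf_dvd_card' p hp
  have hZp : IsPGroup p (Subgroup.zpowers (z : H)) :=
    IsPGroup.of_card (n := 1) (by rw [Nat.card_zpowers, Subgroup.orderOf_coe, hzo, pow_one])
  obtain ⟨S, hS⟩ := hZp.exists_le_sylow
  let f : S →* G := σ.comp (S : Subgroup H).subtype
  have hcy : IsCyclic f.range := by
    have hle : f.range = (S.mapSurjective hσ : Subgroup G) := by
      rw [Sylow.coe_mapSurjective, MonoidHom.range_eq_map, ← Subgroup.map_map,
        ← MonoidHom.range_eq_map, Subgroup.range_subtype]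
    rw [hle]
    exact hcyc _
  have hab : IsMulCommutative S := by
    have hk : f.rangeRestrict.ker ≤ Subgroup.center S := by
      intro x hx
      rw [MonoidHom.ker_rangeRestrict] at hx
      rw [Subgroup.mem_center_iff]
      intro y
      exact Subtype.ext (Subgroup.mem_center_iff.mp (hz' (show (x : H) ∈ σ.ker from hx)) y)
    exact ⟨⟨commutative_of_cyclic_center_quotient f.rangeRestrict hk⟩⟩
  have h1 : (z : H) ∈ (S : Subgroup H) ⊓ commutator H ⊓ Subgroup.center H :=
    ⟨⟨hS (Subgroup.mem_zpowers _), hH ▸ Subgroup.mem_top _⟩, hz' z.2⟩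
  rw [CfsgLib.Fusion.Abelian.inf_commutator_inf_center _ hab S.card_coprime_index,
    Subgroup.mem_bot] at h1
  rw [Subtype.ext h1 (a2 := (1 : σ.ker)), orderOf_one] at hzo
  exact (Fact.out : p.Prime).ne_one hzo.symm


end Cfsg.Agent.S0102
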