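import Cfsg.Statements.S3946
import Cfsg.Agent.Lib.PGroup.Hughes
import Mathlib.GroupTheory.SemidirectProduct
import Mathlib.GroupTheory.Nilpotent

set_option autoImplicit false
open Cfsg

namespace Cfsg.Agent.S3946

/-- Call an automorphism α of order n of a group G splitting when x · α(x) · α²(x) ⋯ α^(n−1)(x) = 1 for every x ∈ G. A finite group admitting a splitting automorphism of prime order is nilpotent (this contains the case of a fixed-point-free automorphism of prime order). -/
theorem result {G : Type*} [Group G] [Finite G] (α : MulAut G) (hp : (orderOf α).Prime)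
    (hsplit : ∀ x : G, (((List.range (orderOf α)).map (fun i : ℕ => (α ^ i) x)).prod = 1)) : Group.IsNilpotent G := by
  classical
  set p := orderOf α with hpdef
  haveI := Fact.mk hp
  let C := Subgroup.zpowers α
  let a : C := ⟨α, Subgroup.mem_zpowers α⟩
  let X := G ⋊[C.subtype] C
  haveI : Finite X := Finite.of_equiv _ SemidirectProduct.equivProd.symm
  have hao : orderOf a = p := Subgroup.orderOf_mk α _
  have hpow : ∀ (g : G) (n : ℕ), (SemidirectProduct.inl g * SemidirectProduct.inr a : X) ^ n =
      SemidirectProduct.inl ((((List.range n).map fun i : ℕ => (α ^ i) g)).prod) * SemidirectProduct.inr (a ^ n) := by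
    intro g n
    induction n with
    | zero => simp
    | succ n ih =>
      rw [pow_succ, ih, List.range_succ, List.map_append, List.prod_append, map_mul, List.map_singleton,
        List.prod_singleton, pow_succ, map_mul]
      have h1 : (SemidirectProduct.inl ((α ^ n) g) : X) =
          SemidirectProduct.inr (a ^ n) * SemidirectProduct.inl g * SemidirectProduct.inr (a ^ n)⁻¹ := by
        rw [← SemidirectProduct.inl_aut]; rfl
      rw [h1, map_inv]; group
  have hone : ∀ g : G, (SemidirectProduct.inl g * SemidirectProduct.inr a : X) ^ p = 1 := fun g => by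
    rw [hpow, hsplit g, map_one, one_mul, ← hao, pow_orderOf_eq_one, map_one]
  let H := (SemidirectProduct.inl : G →* X).range
  have hH : H = (SemidirectProduct.rightHom : X →* C).ker := SemidirectProduct.range_inl_eq_ker_rightHom
  have hHn : H.Normal := by rw [hH]; infer_instance
  have hidx : H.index = p := by
    rw [hH, Subgroup.index_ker, MonoidHom.range_eq_top.mpr SemidirectProduct.rightHom_surjective,
      Subgroup.card_top, Nat.card_zpowers]
  have hout : ∀ x ∉ H, x ^ p = 1 := by
    intro x hx
    have hxr : x.right ≠ 1 := fun h => hx (by rw [hH]; exact h)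
    obtain ⟨i, hi⟩ : ∃ i : ℕ, a ^ i = x.right := by
      obtain ⟨j, hj⟩ := mem_powers_iff_mem_zpowers.mpr x.right.2
      exact ⟨j, Subtype.ext hj⟩
    obtain ⟨j, hj⟩ : ∃ j : ℕ, a ^ (i * j) = a := by
      have hnd : ¬ p ∣ i := fun h => hxr (by rw [← hi]; exact orderOf_dvd_iff_pow_eq_one.mp (hao ▸ h))
      obtain ⟨j, hj⟩ := exists_pow_eq_self_of_coprime (x := a) (n := i)
        (by rw [hao]; exact ((Nat.Prime.coprime_iff_not_dvd hp).mpr hnd).symm)
      exact ⟨j, by rw [pow_mul]; exact hj⟩
    let Φ : G → G := fun g => ((SemidirectProduct.inl g * SemidirectProduct.inr a : X) ^ i).left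
    have hΦ : Function.Injective Φ := by
      intro g g' h
      have e : ∀ u : G, (SemidirectProduct.inl u * SemidirectProduct.inr a : X) ^ (i * j) =
          SemidirectProduct.inl u * SemidirectProduct.inr a := fun u => by
        have h1 : i * j ≡ 1 [MOD p] := by rw [← hao, ← pow_eq_pow_iff_modEq, pow_one]; exact hj
        conv_rhs => rw [← pow_one (SemidirectProduct.inl u * SemidirectProduct.inr a : X)]
        rw [pow_eq_pow_iff_modEq]
        exact h1.of_dvd (orderOf_dvd_of_pow_eq_one (hone u))
      have h1 : (SemidirectProduct.inl g * SemidirectProduct.inr a : X) ^ i =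
          (SemidirectProduct.inl g' * SemidirectProduct.inr a : X) ^ i := by
        refine SemidirectProduct.ext h ?_
        show SemidirectProduct.rightHom _ = SemidirectProduct.rightHom _
        rw [map_pow, map_pow, map_mul, map_mul, SemidirectProduct.rightHom_inl, SemidirectProduct.rightHom_inl]
      have h2 := e g
      rw [pow_mul, h1, ← pow_mul, e g'] at h2
      exact (SemidirectProduct.inl_injective (mul_right_cancel h2)).symm
    obtain ⟨g, hg⟩ := Finite.injective_iff_surjective.mp hΦ x.left
    have hx' : x = (SemidirectProduct.inl g * SemidirectProduct.inr a : X) ^ i := by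
      refine SemidirectProduct.ext hg.symm ?_
      rw [hpow, SemidirectProduct.mul_right, SemidirectProduct.right_inl, SemidirectProduct.right_inr, one_mul, hi]
    rw [hx', ← pow_mul, mul_comm, pow_mul, hone, one_pow]
  haveI := CfsgLib.PGroup.Hughes.nilpotent_aux hp _ X rfl H hHn hidx hout
  exact Group.nilpotent_of_mulEquiv (MonoidHom.ofInjective (f := (SemidirectProduct.inl : G →* X)) SemidirectProduct.inl_injective).symm

end Cfsg.Agent.S3946
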