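import Mathlib
import Cfsg.Statements.S5029
import Cfsg.Agent.Lib.Perm.RootSet
-- import your own Cfsg.Agent.* helpers here

set_option autoImplicit false
open Cfsg

namespace Cfsg.Agent.S5029

/-- Let S be a set of abstract root subgroups of G, A ∈ S having a rank one partner in S, and B ∈ S with C = ⁅A, B⁆ ∈ S. Then the members of S contained in AC are the conjugates of A by elements of B together with C, they partition AC, the members of S inside AC partition AC so that A is a line partner of C, and for every non-identity a ∈ A the map b ↦ a⁻¹ b⁻¹ a b is an isomorphism from B onto C. -/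
theorem result {G : Type*} [Group G] {S : Set (Subgroup G)} (hS : Cfsg.IsRootSubgroupSet S)
    {A B : Subgroup G} (hA : ¬ Cfsg.IsIsolatedIn (Cfsg.FAdj S) S A) (hAS : A ∈ S) (hB : B ∈ S) (hC : ⁅A, B⁆ ∈ S) :
    Cfsg.membersIn S (A ⊔ ⁅A, B⁆) = (fun b : G => Cfsg.conjBy A b) '' (B : Set G) ∪ {⁅A, B⁆} ∧
    Cfsg.IsSubgroupPartition (A ⊔ ⁅A, B⁆) (Cfsg.membersIn S (A ⊔ ⁅A, B⁆)) ∧
    A ∈ Cfsg.linePartners S ⁅A, B⁆ ∧
    ∀ a ∈ A, a ≠ 1 → ∃ φ : ↥B ≃* ↥⁅A, B⁆, ∀ b : ↥B, (φ b : G) = a⁻¹ * (b : G)⁻¹ * a * b := by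
  open CfsgLib.Perm.RootSet CfsgLib.Perm.RankOne in
  obtain ⟨D, hD, h⟩ := exists_partner hA hAS
  have hCc := commCase_of_mem hS hAS hB hC
  have hcen : ∀ c ∈ ⁅A, B⁆, ∀ x ∈ A ⊔ B, c * x = x * c := hCc.2.1
  have hne : A ≠ ⁅A, B⁆ := left_ne_comm hCc hS _ rfl
  have hinf := inf_comm_eq_bot hS hD h hCc
  obtain ⟨a₀, ha₀, ha₀1⟩ := exists_ne_one (left_ne_bot h)
  -- conjugates of A lie in A C
  have hconj : ∀ b ∈ B, Cfsg.conjBy A b ≤ A ⊔ ⁅A, B⁆ := by
    rintro b hb _ ⟨a, ha, rfl⟩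
    have := comm_mem ha (B.inv_mem hb)
    rw [inv_inv] at this
    simp only [MulEquiv.coe_toMonoidHom, MulAut.conj_apply]
    rw [show b * a * b⁻¹ = a * (a⁻¹ * b * a * b⁻¹) by group]
    exact mul_mem (Subgroup.mem_sup_left ha) (Subgroup.mem_sup_right this)
  -- decomposition of elements of A C
  have hdec : ∀ x ∈ A ⊔ ⁅A, B⁆, ∃ a ∈ A, ∃ c ∈ ⁅A, B⁆, a * c = x := by
    intro x hx
    rw [Subgroup.sup_eq_closure] at hx
    induction hx using Subgroup.closure_induction with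
    | mem x hx =>
      rcases hx with hx | hx
      · exact ⟨x, hx, 1, one_mem _, mul_one x⟩
      · exact ⟨1, one_mem _, x, hx, one_mul x⟩
    | one => exact ⟨1, one_mem _, 1, one_mem _, one_mul 1⟩
    | mul x y _ _ hx hy =>
      obtain ⟨a, ha, c, hc, rfl⟩ := hx
      obtain ⟨a', ha', c', hc', rfl⟩ := hy
      refine ⟨a * a', mul_mem ha ha', c * c', mul_mem hc hc', ?_⟩
      have := hcen c hc a' (Subgroup.mem_sup_left ha')
      calc a * a' * (c * c') = a * (a' * c) * c' := by group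
        _ = a * (c * a') * c' := by rw [this]
        _ = a * c * (a' * c') := by group
    | inv x _ hx =>
      obtain ⟨a, ha, c, hc, rfl⟩ := hx
      refine ⟨a⁻¹, inv_mem ha, c⁻¹, inv_mem hc, ?_⟩
      rw [mul_inv_rev]
      exact (hcen c⁻¹ (inv_mem hc) a⁻¹ (Subgroup.mem_sup_left (inv_mem ha))).symm
  have hcover : ∀ x ∈ A ⊔ ⁅A, B⁆, x ≠ 1 →
      x ∈ ⁅A, B⁆ ∨ ∃ b ∈ B, x ∈ Cfsg.conjBy A b := by
    intro x hx hx1
    obtain ⟨a, ha, c, hc, rfl⟩ := hdec x hx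
    by_cases ha1 : a = 1
    · left; simpa [ha1] using hc
    · right
      obtain ⟨b, hb, rfl⟩ := comm_bij hS hAS hD h hCc ha ha1 hc
      refine ⟨b⁻¹, B.inv_mem hb, mem_conjBy.mpr ?_⟩
      simpa [mul_assoc] using ha
  have hmem : Cfsg.membersIn S (A ⊔ ⁅A, B⁆) =
      (fun b : G => Cfsg.conjBy A b) '' (B : Set G) ∪ {⁅A, B⁆} := by
    ext E
    constructor
    · rintro ⟨hE, hle⟩
      by_cases hEC : E ≤ ⁅A, B⁆
      · exact Or.inr (eq_comm_of_le hS hAS hD h hCc hE hEC)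
      · obtain ⟨x, hx, hxC⟩ := SetLike.not_le_iff_exists.mp hEC
        rcases hcover x (hle hx) (fun e => hxC (e ▸ one_mem _)) with h1 | ⟨b, hb, h1⟩
        · exact absurd h1 hxC
        · left
          refine ⟨b, hb, ?_⟩
          refine (inf_eq_bot_or_eq hS (hS.conj_mem D hD b) (pair_conj h b) hE).resolve_left ?_
          intro e
          have : x ∈ Cfsg.conjBy A b ⊓ E := ⟨h1, hx⟩
          rw [e, Subgroup.mem_bot] at this
          exact hxC (this ▸ one_mem _)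
    · rintro (⟨b, hb, rfl⟩ | rfl)
      · exact ⟨hS.conj_mem A hAS b, hconj b hb⟩
      · exact ⟨hC, le_sup_right⟩
  have hpart : Cfsg.IsSubgroupPartition (A ⊔ ⁅A, B⁆) (Cfsg.membersIn S (A ⊔ ⁅A, B⁆)) := by
    refine ⟨fun E hE => hE.2, fun x hx hx1 => ?_, ?_⟩
    · rw [hmem]
      rcases hcover x hx hx1 with h1 | ⟨b, hb, h1⟩
      · exact ⟨_, Or.inr rfl, h1⟩
      · exact ⟨_, Or.inl ⟨b, hb, rfl⟩, h1⟩
    · rw [hmem]
      have hCb : ∀ b ∈ B, Cfsg.conjBy A b ⊓ ⁅A, B⁆ = ⊥ := by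
        intro b hb
        refine (inf_eq_bot_or_eq hS (hS.conj_mem D hD b) (pair_conj h b) hC).resolve_right ?_
        intro e
        rw [conjBy_eq_iff] at e
        exact hne (e.trans (conjBy_of_comm fun c hc =>
          (hcen c hc b⁻¹ (Subgroup.mem_sup_right (B.inv_mem hb))).symm))
      rintro _ (⟨b, hb, rfl⟩ | rfl) _ (⟨b', hb', rfl⟩ | rfl) hne'
      · exact (inf_eq_bot_or_eq hS (hS.conj_mem D hD b) (pair_conj h b)
          (hS.conj_mem A hAS b')).resolve_right hne'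
      · exact hCb b hb
      · rw [inf_comm]; exact hCb b' hb'
      · exact absurd rfl hne'
  refine ⟨hmem, hpart, ⟨⟨hAS, hne, ?_⟩, ?_⟩, fun a ha ha1 => exists_comm_equiv hS hAS hD h hCc ha ha1⟩
  · exact bot_of_commute fun c hc a ha => hcen c hc a (Subgroup.mem_sup_left ha)
  · rw [sup_comm]; exact hpart

end Cfsg.Agent.S5029
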