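import Mathlib
import Cfsg.Statements.S5031
import Cfsg.Agent.Lib.Perm.RootSet
-- import your own Cfsg.Agent.* helpers here

set_option autoImplicit false
open Cfsg

namespace Cfsg.Agent.S5031

/-- Let S be a set of abstract root subgroups of G and let A, B ∈ S lie in different connected components of the graph of rank one pairs on S, each component having more than one member. Then B is not a line partner of A. -/
theorem result {G : Type*} [Group G] {S : Set (Subgroup G)} (hS : Cfsg.IsRootSubgroupSet S)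
    {A B : Subgroup G} (hA : A ∈ S) (hB : B ∈ S)
    (hne : Cfsg.componentOf (Cfsg.FAdj S) S A ≠ Cfsg.componentOf (Cfsg.FAdj S) S B)
    (hA2 : ∃ A' ∈ Cfsg.componentOf (Cfsg.FAdj S) S A, A' ≠ A) (hB2 : ∃ B' ∈ Cfsg.componentOf (Cfsg.FAdj S) S B, B' ≠ B) :
    B ∉ Cfsg.linePartners S A := by
  open CfsgLib.Perm.RootSet CfsgLib.Perm.RankOne in
  intro hlp
  obtain ⟨⟨-, hBA, hAB⟩, -, hcov, hdisj⟩ := hlp
  have hpart : ∀ {X : Subgroup G}, (∃ X' ∈ Cfsg.componentOf (Cfsg.FAdj S) S X, X' ≠ X) → X ∈ S →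
      ∃ D ∈ S, Cfsg.IsRankOnePair X D := by
    rintro X ⟨X', hX', hne'⟩ hXS
    rcases Relation.ReflTransGen.cases_head hX'.2 with e | ⟨D, hD, -⟩
    · exact absurd e.symm hne'
    · exact ⟨D, hD.2.1, hD.2.2⟩
  obtain ⟨D₁, hD₁, h₁⟩ := hpart hA2 hA
  obtain ⟨D₂, hD₂, h₂⟩ := hpart hB2 hB
  obtain ⟨a, ha, ha1⟩ := exists_ne_one (hS.ne_bot A hA)
  obtain ⟨b, hb, hb1⟩ := exists_ne_one (hS.ne_bot B hB)
  have hab : a * b ≠ 1 := fun e => by
    have hab' : b ∈ A := by
      rw [eq_inv_of_mul_eq_one_right e]; exact inv_mem ha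
    have : A ⊓ B = ⊥ := (inf_eq_bot_or_eq hS hD₁ h₁ hB).resolve_right (fun e' => hBA e'.symm)
    exact hb1 (Subgroup.mem_bot.mp (this ▸ ⟨hab', hb⟩))
  obtain ⟨C, hC, habC⟩ := hcov (a * b) (mul_mem (Subgroup.mem_sup_left ha) (Subgroup.mem_sup_right hb)) hab
  have hab' : a * b = b * a := commutes_of_bot hAB ha hb
  by_cases hCD : Cfsg.IsRankOnePair C D₁
  · refine not_product hS hB hA hC.1 hD₂ h₂ (a := b) (b := a⁻¹) (c := a * b) ?_ ?_ hb hb1
      (inv_mem ha) habC ?_ ?_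
    · exact fun e => hne (component_eq ((Relation.ReflTransGen.single ⟨hA, hD₂, e⟩).trans
        (Relation.ReflTransGen.single ⟨hD₂, hB, Cfsg.RankOnePair_symm h₂⟩)))
    · exact fun e => hne (component_eq
        ((((Relation.ReflTransGen.single ⟨hA, hD₁, h₁⟩).tail
          ⟨hD₁, hC.1, Cfsg.RankOnePair_symm hCD⟩).tail ⟨hC.1, hD₂, e⟩).tail
          ⟨hD₂, hB, Cfsg.RankOnePair_symm h₂⟩))
    · rw [hab', mul_inv_cancel_right]
    · rw [hab', mul_inv_cancel_right, ← hab', inv_mul_cancel_left]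
  · refine not_product hS hA hB hC.1 hD₁ h₁ (a := a) (b := b⁻¹) (c := a * b) ?_ hCD ha ha1
      (inv_mem hb) habC ?_ ?_
    · exact fun e => hne (component_eq ((Relation.ReflTransGen.single ⟨hA, hD₁, h₁⟩).trans
        (Relation.ReflTransGen.single ⟨hD₁, hB, Cfsg.RankOnePair_symm e⟩)))
    · rw [mul_inv_cancel_right]
    · rw [mul_inv_cancel_right, hab', inv_mul_cancel_left]

end Cfsg.Agent.S5031
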