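import Mathlib
import Cfsg.Statements.S5032
import Cfsg.Agent.Lib.Perm.RootSet
import Cfsg.Agent.S5029
import Cfsg.Agent.S5031
-- import your own Cfsg.Agent.* helpers here

set_option autoImplicit false
open Cfsg

namespace Cfsg.Agent.S5032

/-- Let S be a set of abstract root subgroups of G with more than one member. Then the graph of rank one pairs on S is connected if and only if S is a single conjugacy class of G and some member of S has a rank one partner in S. -/
theorem result {G : Type*} [Group G] {S : Set (Subgroup G)} (hS : Cfsg.IsRootSubgroupSet S) (h2 : ∃ A ∈ S, ∃ B ∈ S, A ≠ B) :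
    Cfsg.IsConnectedFamily (Cfsg.FAdj S) S ↔
      (Cfsg.IsConjClassOfSubgroups S ∧ ∃ A ∈ S, ¬ Cfsg.IsIsolatedIn (Cfsg.FAdj S) S A) := by
  open CfsgLib.Perm.RootSet CfsgLib.Perm.RankOne in
  have hconjR : ∀ {P Q : Subgroup G}, Relation.ReflTransGen (Cfsg.FAdj S) P Q → ∀ g : G,
      Relation.ReflTransGen (Cfsg.FAdj S) (Cfsg.conjBy P g) (Cfsg.conjBy Q g) := by
    intro P Q h g
    induction h with
    | refl => exact .refl
    | tail _ h ih =>
      exact ih.tail ⟨hS.conj_mem _ h.1 g, hS.conj_mem _ h.2.1 g, pair_conj h.2.2 g⟩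
  constructor
  · intro hc
    obtain ⟨A₀, hA₀, B₀, hB₀, hne⟩ := h2
    refine ⟨⟨⟨A₀, hA₀⟩, fun A hA B hB => ?_⟩, A₀, hA₀, ?_⟩
    · have key : ∀ {P}, Relation.ReflTransGen (Cfsg.FAdj S) A P → ∃ g : G, P = Cfsg.conjBy A g := by
        intro P h
        induction h with
        | refl => exact ⟨1, (conjBy_one A).symm⟩
        | tail _ h ih =>
          obtain ⟨g, rfl⟩ := ih
          obtain ⟨x, -, rfl⟩ := right_mem_unipotent h.2.2
          exact ⟨x * g, (conjBy_mul _ _ _).symm⟩
      exact key (hc A hA B hB)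
    · rcases Relation.ReflTransGen.cases_head (hc A₀ hA₀ B₀ hB₀) with e | ⟨D, hD, -⟩
      · exact absurd e hne
      · exact not_isolated hA₀ hD.2.1 hD.2.2
  · rintro ⟨⟨-, hclass⟩, A₀, hA₀, hiso⟩
    obtain ⟨D₀, hD₀, h₀⟩ := exists_partner hiso hA₀
    have hpart : ∀ A ∈ S, ∃ D ∈ S, Cfsg.IsRankOnePair A D := by
      intro A hA
      obtain ⟨g, rfl⟩ := hclass A₀ hA₀ A hA
      exact ⟨_, hS.conj_mem D₀ hD₀ g, pair_conj h₀ g⟩
    have hline : ∀ A ∈ S, ∀ E ∈ S, Cfsg.RootCommutatorCase S A E →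
        Relation.ReflTransGen (Cfsg.FAdj S) A ⁅A, E⁆ := by
      intro A hA E hE hC
      by_contra hno
      obtain ⟨D, hD, hAD⟩ := hpart A hA
      obtain ⟨D', hD', hCD⟩ := hpart _ hC.1
      have hlp := (Cfsg.Agent.S5029.result hS (not_isolated hA hD hAD) hA hE hC.1).2.2.1
      refine Cfsg.Agent.S5031.result hS hC.1 hA (fun e => hno ?_) ⟨D', ⟨hD', .single ⟨hC.1, hD', hCD⟩⟩,
        hCD.ne.symm⟩ ⟨D, ⟨hD, .single ⟨hA, hD, hAD⟩⟩, hAD.ne.symm⟩ hlp
      have : A ∈ Cfsg.componentOf (Cfsg.FAdj S) S ⁅A, E⁆ := e ▸ ⟨hA, .refl⟩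
      exact reach_symm this.2
    have hgen : ∀ E ∈ S, ∀ e ∈ E, ∀ A ∈ S,
        Relation.ReflTransGen (Cfsg.FAdj S) A (Cfsg.conjBy A e) := by
      intro E hE e he A hA
      rcases hS.pair A hA E hE with h | h | h
      · rw [conjBy_of_comm (fun a ha => (commutes_of_bot h ha he).symm)]
      · have h1 : Relation.ReflTransGen (Cfsg.FAdj S) A E := .single ⟨hA, hE, h⟩
        have h2 := hconjR h1 e
        rw [conjBy_of_mem he] at h2
        exact h1.trans (reach_symm h2)
      · have h1 := hline A hA E hE h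
        have h2 := hconjR h1 e
        rw [conjBy_of_comm (A := ⁅A, E⁆)
          (fun c hc => (h.2.1 c hc e (Subgroup.mem_sup_right he)).symm)] at h2
        exact h1.trans (reach_symm h2)
    have hall : ∀ g : G, ∀ A ∈ S, Relation.ReflTransGen (Cfsg.FAdj S) A (Cfsg.conjBy A g) := by
      intro g
      have hg : g ∈ Subgroup.closure {x | ∃ E ∈ S, x ∈ E} := by
        refine (iSup₂_le fun E hE x hx => Subgroup.subset_closure ⟨E, hE, hx⟩ :
          (⨆ E ∈ S, E) ≤ Subgroup.closure {x | ∃ E ∈ S, x ∈ E}) ?_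
        rw [hS.generates]; exact Subgroup.mem_top g
      induction hg using Subgroup.closure_induction with
      | mem x hx => obtain ⟨E, hE, hx⟩ := hx; exact hgen E hE x hx
      | one => intro A hA; rw [conjBy_one]
      | mul x y _ _ hx hy =>
        intro A hA
        rw [conjBy_mul]
        exact (hy A hA).trans (hx _ (hS.conj_mem A hA y))
      | inv x _ hx =>
        intro A hA
        have := hx _ (hS.conj_mem A hA x⁻¹)
        rw [conjBy_conjBy_inv] at this
        exact reach_symm this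
    intro A hA B hB
    obtain ⟨g, rfl⟩ := hclass A hA B hB
    exact hall g A hA

end Cfsg.Agent.S5032
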