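import Cfsg.Statements.S0744
import Cfsg.Agent.Lib.Perm.Transitivity

set_option autoImplicit false
open Cfsg

namespace Cfsg.Agent.S0744

/-- If for some `k > 1` the pointwise stabilisers of all `(k-1)`-subsets have the same order `> 1` and those of all `k`-subsets have the same order, then the group is `(k-1)`-transitive. -/
theorem result {α : Type*} [Fintype α] [DecidableEq α] (G : Subgroup (Equiv.Perm α)) {k : ℕ} (hk : 1 < k) (hkn : k ≤ Fintype.card α) (l m : ℕ) (hl : 1 < l) (hkm1 : ∀ s : Finset α, s.card = k - 1 → Nat.card (fixingSubgroup G (s : Set α)) = l) (hkm : ∀ s : Finset α, s.card = k → Nat.card (fixingSubgroup G (s : Set α)) = m) : MulAction.IsMultiplyPretransitive G α (k - 1) := by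
  classical
  obtain ⟨s₀, -, hs₀⟩ := Finset.exists_subset_card_eq (s := (Finset.univ : Finset α)) (n := k - 1)
    (by rw [Finset.card_univ]; omega)
  have horb : ∀ s : Finset α, s.card = k - 1 → ∀ x ∉ s,
      Nat.card (MulAction.orbit (fixingSubgroup G (s : Set α)) x) * m = l := by
    intro s hs x hx
    rw [← hkm (insert x s) (by rw [Finset.card_insert_of_notMem hx, hs]; omega), ← hkm1 s hs,
      Nat.card_coe_set_eq, ← MulAction.index_stabilizer, ← Subgroup.index_mul_card
      (MulAction.stabilizer (fixingSubgroup G (s : Set α)) x)]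
    congr 1
    refine Nat.card_congr
      { toFun := fun g => ⟨⟨(g : G), fun y => (mem_fixingSubgroup_iff G).mp g.2 y
            (Finset.mem_coe.mpr (Finset.mem_insert_of_mem y.2))⟩,
          (mem_fixingSubgroup_iff G).mp g.2 x (Finset.mem_coe.mpr (Finset.mem_insert_self x s))⟩
        invFun := fun g => ⟨((g : fixingSubgroup G (s : Set α)) : G), fun ⟨y, hy⟩ => ?_⟩
        left_inv := fun g => rfl
        right_inv := fun g => rfl }
    rcases Finset.mem_insert.mp (Finset.mem_coe.mp hy) with rfl | hy
    · exact g.2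
    · exact (g : fixingSubgroup G (s : Set α)).2 ⟨y, hy⟩
  have hml : ∃ q, 1 < q ∧ q * m = l := by
    by_contra hh
    push Not at hh
    have hfix : ∀ x : α, ∀ g : fixingSubgroup G (s₀ : Set α), (g : G) • x = x := by
      intro x g
      by_cases hx : x ∈ s₀
      · exact g.2 ⟨x, hx⟩
      have h1 := horb s₀ hs₀ x hx
      have h2 : Nat.card (MulAction.orbit (fixingSubgroup G (s₀ : Set α)) x) ≤ 1 := by
        by_contra hc
        exact hh _ (by omega) h1
      have := Finite.card_le_one_iff_subsingleton.mp h2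
      exact congrArg Subtype.val (this.elim (⟨g • x, MulAction.mem_orbit x g⟩ : MulAction.orbit (fixingSubgroup G (s₀ : Set α)) x) ⟨x, MulAction.mem_orbit_self x⟩)
    have h1 := hkm1 s₀ hs₀
    have : Nat.card (fixingSubgroup G (s₀ : Set α)) ≤ 1 := Finite.card_le_one_iff_subsingleton.mpr
      ⟨fun g g' => Subtype.ext (Subtype.ext (Equiv.ext fun x => (hfix x g).trans (hfix x g').symm))⟩
    omega
  obtain ⟨q, hq, hqm⟩ := hml
  refine CfsgLib.Perm.Transitivity.isMultiplyPretransitive_of_orbits hq (k - 1) (by omega) G α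
    (by rw [Nat.card_eq_fintype_card]; omega) fun s hs => ⟨fixingSubgroup G (s : Set α),
      fun x hx g hg => hg ⟨x, hx⟩, fun x hx => ?_⟩
  have h1 := horb s hs x hx
  rw [← hqm] at h1
  rcases Nat.eq_zero_or_pos m with hm | hm
  · rw [hm, mul_zero] at hqm; omega
  · rw [Nat.eq_of_mul_eq_mul_right hm h1]

end Cfsg.Agent.S0744
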