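import Cfsg.Statements.S1139
import Cfsg.Agent.Lib.RankOne.SuzukiTwoTypeA
-- import your own Cfsg.Agent.* helpers here

set_option autoImplicit false
open Cfsg

namespace Cfsg.Agent.S1139

section Helpers

open CfsgLib.RankOne.SuzukiTwoTypeA

universe u v

/-- Type A is invariant under field isomorphisms. -/
theorem typeA_congr {F : Type u} [Field F] {F' : Type v} [Field F'] [Fintype F] [Fintype F'] [CharP F 2]
    [CharP F' 2] (r : F' ≃+* F) (ψ : F ≃+* F) :
    Nonempty (Cfsg.suzukiTypeA F (ψ : F →+* F) ≃*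
      Cfsg.suzukiTypeA F' (((r.trans ψ).trans r.symm : F' ≃+* F') : F' →+* F')) := by
  let u : F → F → Cfsg.suzukiTypeA F (ψ : F →+* F) := fun x y =>
    ⟨unit _ x y, (mem_typeA _).mpr ⟨x, y, rfl⟩⟩
  let ψ' : F' ≃+* F' := (r.trans ψ).trans r.symm
  let u' : F' → F' → Cfsg.suzukiTypeA F' (ψ' : F' →+* F') := fun x y =>
    ⟨unit _ x y, (mem_typeA _).mpr ⟨x, y, rfl⟩⟩
  have hu : ∀ t, ∃ x y, t = u x y := fun t => by
    obtain ⟨x, y, h⟩ := (mem_typeA _).mp t.2
    exact ⟨x, y, Subtype.ext h⟩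
  choose a b hab using hu
  let f : Cfsg.suzukiTypeA F (ψ : F →+* F) →* Cfsg.suzukiTypeA F' (ψ' : F' →+* F') :=
    MonoidHom.mk' (fun t => u' (r.symm (a t)) (r.symm (b t))) fun s t => by
      have h : u (a (s * t)) (b (s * t)) = u (a s + a t) (b s + b t + ψ (a s) * a t) := by
        rw [← hab]
        conv_lhs => rw [hab s, hab t]
        exact Subtype.ext (unit_mul _ _ _ _ _)
      obtain ⟨h1, h2⟩ := unit_inj _ (congrArg Subtype.val h)
      refine Subtype.ext ?_
      change unit _ _ _ = unit _ _ _ * unit _ _ _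
      rw [unit_mul, h1, h2]
      simp [ψ', map_add, map_mul]
  refine ⟨MulEquiv.ofBijective f ⟨fun s t h => ?_, fun w => ?_⟩⟩
  · obtain ⟨h1, h2⟩ := unit_inj _ (congrArg Subtype.val h)
    rw [hab s, hab t, r.symm.injective h1, r.symm.injective h2]
  · obtain ⟨x, y, h⟩ := (mem_typeA _).mp w.2
    refine ⟨u (r x) (r y), Subtype.ext ?_⟩
    obtain ⟨h1, h2⟩ := unit_inj _ (congrArg Subtype.val (hab (u (r x) (r y))))
    change unit _ _ _ = (w : GL (Fin 3) F')
    rw [h, ← h1, ← h2, r.symm_apply_apply, r.symm_apply_apply]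

end Helpers

/-- A Suzuki 2-group `P` with `|P| = |Z(P)|²` is of type A: for some finite field `F` with `|F| = |Z(P)|` and some field automorphism `φ ≠ 1` of odd order, `P` is isomorphic to the group of lower unitriangular matrices with rows `(1,0,0)`, `(x,1,0)`, `(y, φ x, 1)`. -/
theorem result {P : Type*} [Group P] (hP : Cfsg.IsSuzukiTwoGroup P)
    (hcard : Nat.card P = Nat.card (Subgroup.center P) ^ 2) :
    ∃ (F : Type) (_ : Field F) (_ : Fintype F) (φ : F ≃+* F), Fintype.card F = Nat.card (Subgroup.center P) ∧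
      φ ≠ RingEquiv.refl F ∧ Odd (orderOf φ) ∧ Nonempty (P ≃* Cfsg.suzukiTypeA F (φ : F →+* F)) := by
  obtain ⟨hfin, hP2, hna, htwo, K, hK, htr⟩ := hP
  haveI := hfin
  letI : CommGroup K := IsCyclic.commGroup
  have hA : CfsgLib.RankOne.SuzukiTwo.Trans (K.subtype : K →* MulAut P) := fun x y hx hx2 hy hy2 =>
    (htr x y hx hx2 hy hy2).exists
  obtain ⟨F, iF, iFt, ψ, hF, hne, hodd, ⟨θ⟩⟩ :=
    CfsgLib.RankOne.SuzukiTwoTypeA.exists_typeA hP2 hA hna htwo hcard
  haveI : Fact (Nat.Prime 2) := ⟨Nat.prime_two⟩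
  obtain ⟨k, hk⟩ := IsPGroup.iff_card.mp (hP2.to_subgroup (Subgroup.center P))
  haveI : CharP F 2 := by
    refine charP_of_card_eq_prime_pow (f := k) ?_
    rw [hF, hk]
  have hk0 : k ≠ 0 := fun e => by
    have h := Fintype.one_lt_card (α := F)
    rw [hF, hk, e, pow_zero] at h
    exact lt_irrefl _ h
  haveI : Fintype (GaloisField 2 k) := Fintype.ofFinite _
  let r : GaloisField 2 k ≃+* F := FiniteField.ringEquivOfCardEq (by
    rw [← Nat.card_eq_fintype_card, GaloisField.card 2 k hk0, hF, hk])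
  obtain ⟨θ'⟩ := typeA_congr r ψ
  refine ⟨GaloisField 2 k, inferInstance, inferInstance, (r.trans ψ).trans r.symm, ?_, ?_, ?_,
    ⟨θ.trans θ'⟩⟩
  · rw [← Nat.card_eq_fintype_card, GaloisField.card 2 k hk0, hk]
  · intro h
    refine hne (RingEquiv.ext fun x => ?_)
    have := congrArg r (RingEquiv.congr_fun h (r.symm x))
    simpa using this
  · let f : (F ≃+* F) →* (GaloisField 2 k ≃+* GaloisField 2 k) :=
      { toFun := fun σ => (r.trans σ).trans r.symm
        map_one' := RingEquiv.ext fun x => r.symm_apply_apply x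
        map_mul' := fun σ τ => RingEquiv.ext fun x =>
          congrArg r.symm (congrArg σ (r.apply_symm_apply (τ (r x))).symm) }
    have hf : Function.Injective f := fun σ τ h => RingEquiv.ext fun x => by
      have := congrArg r (RingEquiv.congr_fun h (r.symm x))
      simpa [f] using this
    exact (orderOf_injective f hf ψ).symm ▸ hodd

end Cfsg.Agent.S1139
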