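import Cfsg.Statements.S0739
import Cfsg.Agent.Lib.Perm.ZGroup.Index

set_option autoImplicit false
open Cfsg

namespace Cfsg.Agent.S0739

/-- In a finite Zassenhaus group whose two-point stabiliser `H = G_{a,b}` has odd order `d`, and which has no normal `q`-complement for any prime `q ∣ d`, `H` is cyclic, `C_G(H) = H`, and every element swapping `a` and `b` inverts each element of `H`. -/
theorem result {G Ω : Type*} [Group G] [Finite G] [MulAction G Ω] [Fintype Ω] (hZ : Cfsg.IsZassenhausGroup G Ω) {a b : Ω} (hab : a ≠ b) (hodd : Odd (Nat.card ↥(MulAction.stabilizer G a ⊓ MulAction.stabilizer G b))) (hnil : ∀ q : ℕ, q.Prime → q ∣ Nat.card ↥(MulAction.stabilizer G a ⊓ MulAction.stabilizer G b) → ¬ ∃ N : Subgroup G, N.Normal ∧ N.index = q ^ (Nat.card G).factorization q) : IsCyclic ↥(MulAction.stabilizer G a ⊓ MulAction.stabilizer G b) ∧ Subgroup.centralizer ((MulAction.stabilizer G a ⊓ MulAction.stabilizer G b : Subgroup G) : Set G) = MulAction.stabilizer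 G a ⊓ MulAction.stabilizer G b ∧ ∀ s : G, s • a = b → s • b = a → ∀ h ∈ MulAction.stabilizer G a ⊓ MulAction.stabilizer G b, s * h * s⁻¹ = h⁻¹ := by
  open CfsgLib.Perm.ZGroup MulAction in
  classical
  obtain ⟨S⟩ := exists_setup hZ hab
  obtain ⟨t, ht, hta, htb⟩ := S.exists_involution
  letI := Fintype.ofFinite G
  rcases S.odd_dichotomy hodd ht hta htb with ⟨hinv, hcyc⟩ | ⟨q, hq, -, hqd, N, hN, hidx, -, -⟩
  swap
  · exact absurd ⟨N, hN, hidx⟩ (hnil q hq hqd)
  have hcomm := S.comm_H hta htb hinv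
  have hswap : ∀ s : G, s • a = b → s • b = a → ∀ h ∈ S.H, s * h * s⁻¹ = h⁻¹ := by
    intro s hsa hsb h hh
    have hk : t⁻¹ * s ∈ S.H := ⟨show (t⁻¹ * s) • a = a by rw [mul_smul, hsa, inv_smul_eq_iff, hta],
      show (t⁻¹ * s) • b = b by rw [mul_smul, hsb, inv_smul_eq_iff, htb]⟩
    have e : (t⁻¹ * s) * h * (t⁻¹ * s)⁻¹ = h := by
      have := congrArg Subtype.val (hcomm ⟨_, hk⟩ ⟨h, hh⟩)
      rw [show (t⁻¹ * s) * h = h * (t⁻¹ * s) from this, mul_inv_cancel_right]
    rw [← hinv h hh]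
    conv_rhs => rw [← e]
    group
  refine ⟨hcyc, le_antisymm (fun g hg => ?_) (fun g hg => ?_), hswap⟩
  · obtain ⟨h, hh, hh1⟩ : ∃ h ∈ S.H, h ≠ 1 := by
      by_contra hne
      push Not at hne
      have := S.one_lt_H
      rw [(Subgroup.eq_bot_iff_forall _).mpr hne, Subgroup.card_bot] at this
      omega
    have e : g * h * g⁻¹ = h := by
      rw [← Subgroup.mem_centralizer_iff.mp hg h hh, mul_inv_cancel_right]
    rcases S.fusion_H hh hh1 (e.symm ▸ hh) with hfix | hsw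
    · exact hfix
    exfalso
    have h2 := hswap g hsw.1 hsw.2 h hh
    rw [e, eq_inv_iff_mul_eq_one, ← pow_two] at h2
    have h3 : orderOf h ∣ 2 := orderOf_dvd_of_pow_eq_one h2
    have h4 : orderOf h ∣ Nat.card S.H := Subgroup.orderOf_dvd_natCard S.H hh
    rcases (Nat.dvd_prime Nat.prime_two).mp h3 with h5 | h5
    · exact hh1 (orderOf_eq_one_iff.mp h5)
    · exact Nat.not_even_iff_odd.mpr hodd (even_iff_two_dvd.mpr (h5 ▸ h4))
  · refine Subgroup.mem_centralizer_iff.mpr fun h hh => ?_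
    exact congrArg Subtype.val (hcomm ⟨h, hh⟩ ⟨g, hg⟩)

end Cfsg.Agent.S0739
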