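import Cfsg.Statements.S2769
import Cfsg.Agent.Lib.LocalEven.PushingUpCases

set_option autoImplicit false
open Cfsg
open scoped commutatorElement

namespace Cfsg.Agent.S2769

/-- Let G be a finite group and p a prime with C_G(O_p(G)) ≤ O_p(G), S a Sylow p-subgroup lying in exactly one maximal subgroup of G, and G/K ≅ PSL₂(p^n) for some normal K and n ≥ 1. Let J(S) be generated by the abelian subgroups of S of largest order. If [Z(J(S)), S] ≠ 1, then either [Z(J(S)), S] ∩ Z(S) is normal in G or C_S(Z(J(S))) is normal in G. -/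
theorem result {G : Type*} [Group G] [Finite G] {p : ℕ} [Fact p.Prime] (S : Sylow p G) (hE₁ : Subgroup.centralizer (Cfsg.pCore p G : Set G) ≤ Cfsg.pCore p G) (hE₂ : ∃! M : Subgroup G, IsCoatom M ∧ (S : Subgroup G) ≤ M) (K : Subgroup G) [K.Normal] (F : Type) [Field F] [Fintype F] (n : ℕ) (hn : 1 ≤ n) (hF : Fintype.card F = p ^ n) (hE₃ : Nonempty (G ⧸ K ≃* Matrix.ProjectiveSpecialLinearGroup (Fin 2) F)) (h : ⁅(Cfsg.centerThompsonAOf (S : Subgroup G)), (S : Subgroup G)⁆ ≠ ⊥) : (⁅(Cfsg.centerThompsonAOf (S : Subgroup G)), (S : Subgroup G)⁆ ⊓ ((S : Subgroup G) ⊓ Subgroup.centralizer ((S : Subgroup G) : Set G))).Normal ∨ (((S : Subgroup G) ⊓ Subgroup.centralizer (Cfsg.centerThompsonAOf (S : Subgroup G) : Set G))).Normal := by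
  refine CfsgLib.LocalEven.PushingUpCases.normal_or S ⟨hE₁, hE₂, K, inferInstance, F, inferInstance, inferInstance, n, hn, hF, hE₃⟩ _ inf_le_right fun W C₀ _ hC₀ hsplit => ?_
  refine inf_le_left.trans (Subgroup.commutator_le.2 fun z hz s hs => ?_)
  obtain ⟨w, -, hwS, c, hc, rfl⟩ := hsplit z hz
  have e : ⁅w * c, s⁆ = w * (c * (s * c⁻¹ * s⁻¹)) * w⁻¹ := by
    have e1 : w⁻¹ * s⁻¹ = s⁻¹ * w⁻¹ := ((show Commute s w from hwS s hs).inv_left.inv_right).eq.symm
    calc ⁅w * c, s⁆ = w * c * s * c⁻¹ * (w⁻¹ * s⁻¹) := by rw [commutatorElement_def]; group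
      _ = w * c * s * c⁻¹ * (s⁻¹ * w⁻¹) := by rw [e1]
      _ = _ := by group
  rw [e]
  exact hC₀.conj_mem _ (mul_mem hc (hC₀.conj_mem _ (inv_mem hc) s)) w

end Cfsg.Agent.S2769
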