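import Cfsg.Statements.S4179
import Cfsg.Agent.Lib.LinTwo.Main
import Cfsg.Agent.S0675

set_option autoImplicit false
open Cfsg

namespace Cfsg.Agent.S4179

open CfsgLib.LinTwo
open scoped commutatorElement

variable {V : Type*} [AddCommGroup V] [Module (ZMod 2) V] [Finite V]

/-- A solvable group acting faithfully and transitively on a set of prime size has a normal
subgroup of that order. -/
lemma exists_normal_card {H α : Type*} [Group H] [Finite H] [MulAction H α] [Finite α]
    [MulAction.IsPretransitive H α] [FaithfulSMul H α] {p : ℕ} (hp : p.Prime)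
    (hα : Nat.card α = p) (hs : Group.IsSolvable H) :
    ∃ A : Subgroup H, A.Normal ∧ Nat.card A = p := by
  classical
  obtain ⟨N, hN⟩ := hs.solvable
  haveI : Nontrivial α := Finite.one_lt_card_iff_nontrivial.1 (by rw [hα]; exact hp.one_lt)
  obtain ⟨v, w, hvw⟩ := exists_pair_ne α
  have hex : ∃ k, derivedSeries H k = ⊥ := ⟨N, hN⟩
  set k := Nat.find hex with hk
  have hk0 : k ≠ 0 := fun h0 => by
    have h := Nat.find_spec hex
    rw [← hk, h0, derivedSeries_zero] at h
    obtain ⟨g, hg⟩ := MulAction.exists_smul_eq H v w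
    have : g ∈ (⊤ : Subgroup H) := Subgroup.mem_top g
    rw [h, Subgroup.mem_bot] at this
    rw [this, one_smul] at hg
    exact hvw hg
  obtain ⟨j, hj⟩ := Nat.exists_eq_succ_of_ne_zero hk0
  set A := derivedSeries H j
  have hA : A ≠ ⊥ := Nat.find_min hex (by omega)
  haveI hn : A.Normal := derivedSeries_normal H j
  have hcomm : ∀ a ∈ A, ∀ b ∈ A, a * b = b * a := by
    intro a ha b hb
    have h : ⁅A, A⁆ = ⊥ := by
      have := Nat.find_spec hex
      rwa [← hk, hj, derivedSeries_succ] at this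
    have hc : ⁅a, b⁆ ∈ ⁅A, A⁆ := Subgroup.commutator_mem_commutator ha hb
    rw [h, Subgroup.mem_bot, commutatorElement_eq_one_iff_commute] at hc
    exact hc
  obtain ⟨a, ha, hane⟩ := A.ne_bot_iff_exists_ne_one.1 hA |> fun ⟨a, h⟩ =>
    (⟨a.1, a.2, fun e => h (Subtype.ext e)⟩ : ∃ a, a ∈ A ∧ a ≠ 1)
  obtain ⟨u, hu⟩ : ∃ u : α, a • u ≠ u := by
    by_contra hne
    push Not at hne
    exact hane (eq_of_smul_eq_smul fun x : α => by rw [hne x, one_smul])
  have horb : MulAction.orbit A u = Set.univ := by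
    have hd := (MulAction.IsBlock.orbit_of_normal (N := A) u).ncard_dvd_card ⟨u, MulAction.mem_orbit_self u⟩
    rw [hα] at hd
    rcases (Nat.dvd_prime hp).1 hd with h1 | h1
    · obtain ⟨b, hb⟩ := Set.ncard_eq_one.1 h1
      have m1 : a • u ∈ MulAction.orbit A u := ⟨⟨a, ha⟩, rfl⟩
      have m2 : u ∈ MulAction.orbit A u := MulAction.mem_orbit_self u
      rw [hb, Set.mem_singleton_iff] at m1 m2
      exact absurd (m1.trans m2.symm) hu
    · refine Set.eq_of_subset_of_ncard_le (Set.subset_univ _) ?_ (Set.toFinite _)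
      rw [h1, Set.ncard_univ, hα]
  refine ⟨A, hn, ?_⟩
  have hst : MulAction.stabilizer A u = ⊥ := by
    rw [eq_bot_iff]
    intro b hb
    rw [Subgroup.mem_bot]
    refine Subtype.ext (eq_of_smul_eq_smul fun x : α => ?_)
    obtain ⟨c, rfl⟩ : x ∈ MulAction.orbit A u := horb ▸ Set.mem_univ x
    show b.1 • c.1 • u = (1 : H) • c.1 • u
    rw [smul_smul, hcomm b.1 b.2 c.1 c.2, ← smul_smul, one_smul]
    congr 1
  have := MulAction.index_stabilizer A u
  rw [hst, Subgroup.index_bot, horb, Set.ncard_univ, hα] at this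
  exact this

/-- An element of prime order one less than the number of vectors is transitive on nonzero
vectors. -/
lemma zpowers_trans {p : ℕ} (hp : p.Prime) (hV : Nat.card V = p + 1)
    {g : V ≃ₗ[ZMod 2] V} (hord : orderOf g = p) :
    ∀ v w : V, v ≠ 0 → w ≠ 0 → ∃ k : ℤ, (g ^ k) v = w := by
  classical
  have hsize : ∀ z : V, (MulAction.orbit (Subgroup.zpowers g) z).ncard = 1 ∨
      (MulAction.orbit (Subgroup.zpowers g) z).ncard = p := by
    intro z
    rw [← MulAction.index_stabilizer (Subgroup.zpowers g) z]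
    refine (Nat.dvd_prime hp).1 ?_
    have := Subgroup.index_dvd_card (MulAction.stabilizer (Subgroup.zpowers g) z)
    rwa [Nat.card_zpowers, hord] at this
  have hfix : ∀ z : V, (MulAction.orbit (Subgroup.zpowers g) z).ncard = 1 → g z = z := by
    intro z h1
    obtain ⟨a, ha⟩ := Set.ncard_eq_one.1 h1
    have m1 : g z ∈ MulAction.orbit (Subgroup.zpowers g) z := ⟨⟨g, Subgroup.mem_zpowers g⟩, rfl⟩
    have m2 : z ∈ MulAction.orbit (Subgroup.zpowers g) z := MulAction.mem_orbit_self z
    rw [ha, Set.mem_singleton_iff] at m1 m2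
    exact m1.trans m2.symm
  intro v w hv hw
  have hmove : (MulAction.orbit (Subgroup.zpowers g) v).ncard = p := by
    refine (hsize v).resolve_left fun h1 => ?_
    have hgv := hfix v h1
    have hall : ∀ t : V, g t = t := by
      intro t
      by_contra ht
      have hp' := (hsize t).resolve_left fun h1' => ht (hfix t h1')
      have hsub : MulAction.orbit (Subgroup.zpowers g) t ⊆ ({0, v} : Set V)ᶜ := by
        rintro s ⟨⟨k, hk⟩, rfl⟩ hs
        obtain ⟨i, rfl⟩ := Subgroup.mem_zpowers_iff.1 hk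
        have hfs : g ((g ^ i) t) = (g ^ i) t := by
          rcases hs with hs | hs <;>
          · rw [show (g ^ i) t = _ from hs]
            first | exact map_zero _ | exact hgv
        rw [← LinearEquiv.mul_apply, (Commute.self_zpow g i).eq, LinearEquiv.mul_apply] at hfs
        exact ht ((g ^ i).injective hfs)
      have := Set.ncard_le_ncard hsub (Set.toFinite _)
      rw [hp', Set.ncard_compl, Set.ncard_pair (Ne.symm hv), hV] at this
      have := hp.two_le
      omega
    rw [show g = 1 from LinearEquiv.ext hall, orderOf_one] at hord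
    exact hp.ne_one hord.symm
  have heq : MulAction.orbit (Subgroup.zpowers g) v = ({0} : Set V)ᶜ := by
    refine Set.eq_of_subset_of_ncard_le ?_ ?_ (Set.toFinite _)
    · rintro s ⟨k, rfl⟩
      exact (LinearEquiv.map_ne_zero_iff k.1).2 hv
    · rw [hmove, Set.ncard_compl, Set.ncard_singleton, hV]; omega
  obtain ⟨⟨k, hk⟩, hkv⟩ : w ∈ MulAction.orbit (Subgroup.zpowers g) v := by rw [heq]; exact hw
  obtain ⟨i, rfl⟩ := Subgroup.mem_zpowers_iff.1 hk
  exact ⟨i, hkv⟩

/-- A group normalising a cyclic group of prime order `2 ^ n - 1` has order that prime times a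
divisor of `n`. -/
lemma card_of_normal {n p : ℕ} (hp : p.Prime) (hn : Nat.card V = 2 ^ n) (hpn : p + 1 = 2 ^ n)
    (H : Subgroup (V ≃ₗ[ZMod 2] V)) {g : V ≃ₗ[ZMod 2] V} (hg : g ∈ H) (hord : orderOf g = p)
    (hnorm : ∀ h ∈ H, h⁻¹ * g * h ∈ Subgroup.zpowers g) :
    ∃ d, d ∣ n ∧ Nat.card H = p * d := by
  classical
  have htr := zpowers_trans hp (hn.trans hpn.symm) hord
  let K : Subalgebra (ZMod 2) (Module.End (ZMod 2) V) :=
    Subalgebra.centralizer (ZMod 2) {(g : Module.End (ZMod 2) V)}
  have memK : ∀ f : Module.End (ZMod 2) V, f ∈ K ↔ ∀ v, g (f v) = f (g v) := by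
    intro f
    simp only [K, Subalgebra.mem_centralizer_iff, Set.mem_singleton_iff, forall_eq]
    exact ⟨fun h v => LinearMap.congr_fun h v, fun h => LinearMap.ext h⟩
  have hpowK : ∀ k : ℤ, ((g ^ k : V ≃ₗ[ZMod 2] V) : Module.End (ZMod 2) V) ∈ K := fun k =>
    (memK _).2 fun v => by
      show g ((g ^ k) v) = (g ^ k) (g v)
      rw [← LinearEquiv.mul_apply, (Commute.self_zpow g k).eq, LinearEquiv.mul_apply]
  have hcomm_pow : ∀ f ∈ K, ∀ (k : ℤ) (v : V), f ((g ^ k) v) = (g ^ k) (f v) := by
    intro f hf k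
    have hf' := (memK f).1 hf
    induction k using Int.induction_on with
    | zero => intro v; simp
    | succ i ih =>
      intro v
      rw [zpow_add, zpow_one, LinearEquiv.mul_apply, LinearEquiv.mul_apply, ih, hf' v]
    | pred i ih =>
      intro v
      rw [zpow_sub, zpow_one, LinearEquiv.mul_apply, LinearEquiv.mul_apply, ih]
      congr 1
      apply g.injective
      rw [hf', ← LinearEquiv.mul_apply, ← LinearEquiv.mul_apply, mul_inv_cancel]
      simp
  obtain ⟨v₀, hv₀⟩ : ∃ v : V, v ≠ 0 := by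
    by_contra hne
    push Not at hne
    haveI : Subsingleton V := ⟨fun a b => (hne a).trans (hne b).symm⟩
    rw [Nat.card_unique (α := V), ← hpn] at hn
    have := hp.two_le
    omega
  have hall : ∀ f ∈ K, f = 0 ∨ ∃ k : ℤ, f = ((g ^ k : V ≃ₗ[ZMod 2] V) : Module.End (ZMod 2) V) := by
    intro f hf
    by_cases h0 : f v₀ = 0
    · left
      refine LinearMap.ext fun w => ?_
      by_cases hw : w = 0
      · simp [hw]
      obtain ⟨i, rfl⟩ := htr v₀ w hv₀ hw
      rw [hcomm_pow f hf, h0, map_zero]; rfl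
    · right
      obtain ⟨k, hk⟩ := htr v₀ (f v₀) hv₀ h0
      refine ⟨k, LinearMap.ext fun w => ?_⟩
      by_cases hw : w = 0
      · simp [hw]
      obtain ⟨i, rfl⟩ := htr v₀ w hv₀ hw
      rw [hcomm_pow f hf, ← hk]
      show (g ^ i) ((g ^ k) v₀) = (g ^ k) ((g ^ i) v₀)
      rw [← LinearEquiv.mul_apply, ← LinearEquiv.mul_apply, ← zpow_add, ← zpow_add, add_comm]
  have hKcomm : ∀ a b : K, a * b = b * a := by
    rintro ⟨a, ha⟩ ⟨b, hb⟩
    refine Subtype.ext ?_
    show a * b = b * a
    rcases hall b hb with rfl | ⟨k, rfl⟩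
    · rw [mul_zero, zero_mul]
    · exact LinearMap.ext fun v => hcomm_pow a ha k v
  letI : CommRing K := { (inferInstance : Ring K) with mul_comm := hKcomm }
  haveI : Finite (Module.End (ZMod 2) V) :=
    Finite.of_injective (fun f => (f : V → V)) DFunLike.coe_injective
  haveI : Nontrivial K := ⟨⟨0, 1, fun h => hv₀ (by
    have := LinearMap.congr_fun (congrArg Subtype.val h) v₀
    exact this.symm)⟩⟩
  haveI : NoZeroDivisors K := ⟨fun {a b} h => by
    rcases hall a.1 a.2 with ha | ⟨k, hk⟩
    · exact Or.inl (Subtype.ext ha)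
    · refine Or.inr (Subtype.ext (LinearMap.ext fun v => ?_))
      have h' := LinearMap.congr_fun (congrArg Subtype.val h) v
      rw [show ((a * b : K) : Module.End (ZMod 2) V) = a.1 * b.1 from rfl, hk] at h'
      exact (LinearEquiv.map_eq_zero_iff (g ^ k)).1 h'⟩
  haveI : IsDomain K := NoZeroDivisors.to_isDomain K
  letI : Field K := (Finite.isField_of_domain K).toField
  have hKcard : Nat.card K = 2 ^ n := by
    rw [← hn]
    refine Nat.card_congr (Equiv.ofBijective (fun f : K => f.1 v₀) ⟨fun a b h => ?_, fun w => ?_⟩)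
    · rcases hall (a.1 - b.1) (K.sub_mem a.2 b.2) with h0 | ⟨k, hk⟩
      · exact Subtype.ext (sub_eq_zero.1 h0)
      · exfalso
        refine hv₀ ((LinearEquiv.map_eq_zero_iff (g ^ k)).1 ?_)
        have := LinearMap.congr_fun hk v₀
        rw [LinearMap.sub_apply] at this
        simp only at h
        rw [h, sub_self] at this
        exact this.symm
    · by_cases hw : w = 0
      · exact ⟨0, by simp [hw]⟩
      · obtain ⟨k, hk⟩ := htr v₀ w hv₀ hw
        exact ⟨⟨_, hpowK k⟩, hk⟩
  have hfin : Module.finrank (ZMod 2) K = n := by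
    have := Module.natCard_eq_pow_finrank (K := ZMod 2) (V := K)
    rw [Nat.card_zmod, hKcard] at this
    exact (Nat.pow_right_injective le_rfl this).symm
  -- conjugation
  have hconj : ∀ h ∈ H, ∀ f ∈ K,
      (h : Module.End (ZMod 2) V) * f * ((h⁻¹ : V ≃ₗ[ZMod 2] V) : Module.End (ZMod 2) V) ∈ K := by
    intro h hh f hf
    obtain ⟨k, hk⟩ := Subgroup.mem_zpowers_iff.1 (hnorm h hh)
    refine (memK _).2 fun v => ?_
    show g (h (f (h⁻¹ v))) = h (f (h⁻¹ (g v)))
    have e1 : h * g ^ k = g * h := by rw [hk, ← mul_assoc, ← mul_assoc, mul_inv_cancel, one_mul]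
    have e2 : g ^ k * h⁻¹ = h⁻¹ * g := by rw [hk, mul_assoc, mul_inv_cancel, mul_one]
    calc g (h (f (h⁻¹ v))) = (g * h) (f (h⁻¹ v)) := rfl
      _ = h ((g ^ k) (f (h⁻¹ v))) := by rw [← e1]; rfl
      _ = h (f ((g ^ k * h⁻¹) v)) := by rw [LinearEquiv.mul_apply, hcomm_pow f hf]
      _ = h (f (h⁻¹ (g v))) := by rw [e2]; rfl
  let cj : H →* (K ≃ₐ[ZMod 2] K) :=
    { toFun := fun h => AlgEquiv.ofRingEquiv (f :=
        { toFun := fun f => ⟨_, hconj h.1 h.2 f.1 f.2⟩
          invFun := fun f => ⟨_, hconj h.1⁻¹ (H.inv_mem h.2) f.1 f.2⟩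
          left_inv := fun f => by
            refine Subtype.ext (LinearMap.ext fun v => ?_)
            show h.1⁻¹ (h.1 (f.1 (h.1⁻¹ (h.1⁻¹⁻¹ v)))) = f.1 v
            simp [inv_inv, ← LinearEquiv.mul_apply]
          right_inv := fun f => by
            refine Subtype.ext (LinearMap.ext fun v => ?_)
            show h.1 (h.1⁻¹ (f.1 (h.1⁻¹⁻¹ (h.1⁻¹ v)))) = f.1 v
            simp [inv_inv, ← LinearEquiv.mul_apply]
          map_mul' := fun a b => by
            refine Subtype.ext (LinearMap.ext fun v => ?_)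
            show h.1 (a.1 (b.1 (h.1⁻¹ v))) = h.1 (a.1 (h.1⁻¹ (h.1 (b.1 (h.1⁻¹ v)))))
            simp [← LinearEquiv.mul_apply]
          map_add' := fun a b => by
            refine Subtype.ext (LinearMap.ext fun v => ?_)
            exact map_add h.1 (a.1 _) (b.1 _) }) (fun r => by
          refine Subtype.ext (LinearMap.ext fun v => ?_)
          show h.1 (r • (h.1⁻¹ v)) = r • v
          simp [← LinearEquiv.mul_apply])
      map_one' := AlgEquiv.ext fun f => Subtype.ext (LinearMap.ext fun v => rfl)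
      map_mul' := fun a b => AlgEquiv.ext fun f => Subtype.ext (LinearMap.ext fun v => by
        show (a * b).1 (f.1 ((a * b).1⁻¹ v)) = a.1 (b.1 (f.1 (b.1⁻¹ (a.1⁻¹ v))))
        rw [Subgroup.coe_mul, mul_inv_rev]
        rfl) }
  have hker : cj.ker = (Subgroup.zpowers g).subgroupOf H := by
    ext h
    rw [MonoidHom.mem_ker, Subgroup.mem_subgroupOf, Subgroup.mem_zpowers_iff]
    constructor
    · intro hh
      have h1 := LinearMap.congr_fun (congrArg Subtype.val
        (AlgEquiv.congr_fun hh ⟨_, hpowK 1⟩))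
      have hK : ((h.1 : V ≃ₗ[ZMod 2] V) : Module.End (ZMod 2) V) ∈ K := (memK _).2 fun v => by
        have := h1 (h.1 v)
        change h.1 ((g ^ (1 : ℤ)) (h.1⁻¹ (h.1 v))) = (g ^ (1 : ℤ)) (h.1 v) at this
        rw [zpow_one, ← LinearEquiv.mul_apply h.1⁻¹ h.1, inv_mul_cancel] at this
        exact this.symm
      rcases hall _ hK with h0 | ⟨k, hk⟩
      · exact absurd ((LinearEquiv.map_eq_zero_iff h.1).1 (LinearMap.congr_fun h0 v₀)) hv₀
      · exact ⟨k, LinearEquiv.ext fun v => (LinearMap.congr_fun hk v).symm⟩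
    · rintro ⟨k, hk⟩
      refine AlgEquiv.ext fun f => Subtype.ext (LinearMap.ext fun v => ?_)
      show h.1 (f.1 (h.1⁻¹ v)) = f.1 v
      rw [← hk, ← zpow_neg, hcomm_pow f.1 f.2, ← LinearEquiv.mul_apply, ← zpow_add, add_neg_cancel,
        zpow_zero]
      rfl
  haveI : Finite K := Nat.finite_of_card_ne_zero (by rw [hKcard]; positivity)
  haveI : Module.Finite (ZMod 2) K := Module.Finite.of_finite
  have hgal : Nat.card (K ≃ₐ[ZMod 2] K) = n := by
    rw [IsGalois.card_aut_eq_finrank, hfin]
  refine ⟨Nat.card cj.range, hgal ▸ cj.range.card_subgroup_dvd_card, ?_⟩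
  have h1 := Subgroup.index_mul_card cj.ker
  rw [Subgroup.index_ker, hker, Nat.card_congr (Subgroup.subgroupOfEquivOfLe
    ((Subgroup.zpowers_le.2 hg : Subgroup.zpowers g ≤ H))).toEquiv, Nat.card_zpowers, hord] at h1
  rw [← h1, mul_comm]

/-- Let V be a vector space of dimension n over the field with two elements with 2^n − 1 prime, and H a group of invertible linear maps of V. Then H is transitive on the non-zero vectors of V if and only if H is cyclic of order 2^n − 1, or H has order n·(2^n − 1) and contains a normal cyclic subgroup of order 2^n − 1, or H is the whole general linear group of V. -/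
theorem result {V : Type*} [AddCommGroup V] [Module (ZMod 2) V] [Finite V] (n : ℕ) (hn : Module.finrank (ZMod 2) V = n)
    (hprime : (2 ^ n - 1).Prime) (H : Subgroup (V ≃ₗ[ZMod 2] V)) :
    (∀ v w : V, v ≠ 0 → w ≠ 0 → ∃ h ∈ H, h v = w) ↔
      ((IsCyclic ↥H ∧ Nat.card ↥H = 2 ^ n - 1) ∨
       (Nat.card ↥H = n * (2 ^ n - 1) ∧ ∃ C : Subgroup (V ≃ₗ[ZMod 2] V), C ≤ H ∧ (C.subgroupOf H).Normal ∧
          IsCyclic ↥C ∧ Nat.card ↥C = 2 ^ n - 1) ∨
       H = ⊤) := by
  classical
  haveI : Module.Finite (ZMod 2) V := Module.Finite.of_finite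
  set p := 2 ^ n - 1
  have hpn : p + 1 = 2 ^ n := Nat.sub_add_cancel Nat.one_le_two_pow
  have hV : Nat.card V = 2 ^ n := by
    rw [Module.natCard_eq_pow_finrank (K := ZMod 2) (V := V), Nat.card_zmod, hn]
  have hn1 : n ≠ 1 := fun h => by
    subst h
    exact Nat.not_prime_one hprime
  have hnp : n.Prime := (Nat.prime_of_pow_sub_one_prime hn1 hprime).2
  have hmove : ∀ (C : Subgroup (V ≃ₗ[ZMod 2] V)), C ≤ H → IsCyclic C → Nat.card C = p →
      ∀ v w : V, v ≠ 0 → w ≠ 0 → ∃ h ∈ H, h v = w := by
    intro C hC _ hc v w hv hw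
    obtain ⟨⟨g, hg⟩, hgen⟩ := IsCyclic.exists_generator (α := C)
    have hord : orderOf g = p :=
      (Subgroup.orderOf_mk g hg).symm.trans ((orderOf_eq_card_of_forall_mem_zpowers hgen).trans hc)
    obtain ⟨k, hk⟩ := zpowers_trans hprime (hV.trans hpn.symm) hord v w hv hw
    exact ⟨g ^ k, C.zpow_mem hg k |> fun h => hC h, hk⟩
  constructor
  · intro htr
    let α := {v : V // v ≠ 0}
    letI : Fintype α := Fintype.ofFinite α
    have hα : Fintype.card α = p := by
      have h1 : ({0} : Set V)ᶜ.ncard = p := by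
        rw [Set.ncard_compl, Set.ncard_singleton, hV]
      rw [← Nat.card_eq_fintype_card, ← h1, ← Nat.card_coe_set_eq]
      exact Nat.card_congr (Equiv.subtypeEquivRight fun v => by simp)
    let φ : H →* Equiv.Perm α :=
      { toFun := fun h => (h.1.toEquiv).subtypeEquiv fun v =>
          (LinearEquiv.map_ne_zero_iff h.1).symm
        map_one' := Equiv.ext fun v => rfl
        map_mul' := fun a b => Equiv.ext fun v => rfl }
    have hφ : Function.Injective φ := by
      intro a b hab
      refine Subtype.ext (LinearEquiv.ext fun v => ?_)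
      by_cases hv : v = 0
      · simp [hv]
      · exact congrArg Subtype.val (Equiv.congr_fun hab ⟨v, hv⟩)
    haveI : MulAction.IsPretransitive φ.range α := ⟨fun x y => by
      obtain ⟨h, hh, hxy⟩ := htr x.1 y.1 x.2 y.2
      exact ⟨⟨φ ⟨h, hh⟩, ⟨_, rfl⟩⟩, Subtype.ext hxy⟩⟩
    rcases Cfsg.Agent.S0675.result (by rw [hα]; exact hprime) φ.range with hs | h2
    · obtain ⟨A, hAn, hAc⟩ := exists_normal_card (α := α) hprime (by rw [Nat.card_eq_fintype_card, hα]) hs
      let e := MonoidHom.ofInjective hφ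
      let B : Subgroup H := A.comap e.toMonoidHom
      haveI : B.Normal := hAn.comap _
      have hBc : Nat.card B = p := by
        rw [← hAc]
        exact Nat.card_congr (Equiv.subtypeEquiv e.toEquiv fun h => Iff.rfl)
      let C : Subgroup (V ≃ₗ[ZMod 2] V) := B.map H.subtype
      have hCH : C ≤ H := Subgroup.map_subtype_le B
      have hCc : Nat.card C = p := by rw [Subgroup.card_map_of_injective H.subtype_injective, hBc]
      haveI : Fact p.Prime := ⟨hprime⟩
      haveI hcyc : IsCyclic C := isCyclic_of_prime_card hCc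
      have hCn : (C.subgroupOf H).Normal := by
        rw [show C.subgroupOf H = B from Subgroup.comap_map_eq_self_of_injective H.subtype_injective B]
        infer_instance
      obtain ⟨⟨g, hg⟩, hgen⟩ := IsCyclic.exists_generator (α := C)
      have hord : orderOf g = p := (Subgroup.orderOf_mk g hg).symm.trans
        ((orderOf_eq_card_of_forall_mem_zpowers hgen).trans hCc)
      have hzC : Subgroup.zpowers g = C := Subgroup.eq_of_le_of_card_ge (Subgroup.zpowers_le.2 hg)
        (by rw [Nat.card_zpowers, hord, hCc])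
      obtain ⟨d, hd, hH⟩ := card_of_normal hprime hV hpn H (hCH hg) hord (fun h hh => by
        rw [hzC]
        have := hCn.conj_mem ⟨g, hCH hg⟩ hg ⟨h⁻¹, H.inv_mem hh⟩
        simpa [Subgroup.mem_subgroupOf] using this)
      rcases (Nat.dvd_prime hnp).1 hd with rfl | rfl
      · left
        rw [mul_one] at hH
        exact ⟨isCyclic_of_prime_card hH, hH⟩
      · exact Or.inr (Or.inl ⟨by rw [hH, mul_comm], C, hCH, hCn, hcyc, hCc⟩)
    · right; right
      rw [MulAction.is_two_pretransitive_iff] at h2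
      have hpairs : ∀ x y x' y' : V, Ind2 x y → Ind2 x' y' → ∃ g ∈ H, g x = x' ∧ g y = y' := by
        intro x y x' y' h h'
        obtain ⟨⟨_, ⟨g, rfl⟩⟩, g1, g2⟩ := h2 (a := (⟨x, h.1⟩ : α)) (b := ⟨y, h.2.1⟩)
          (c := ⟨x', h'.1⟩) (d := ⟨y', h'.2.1⟩) (fun e => h.2.2 (congrArg Subtype.val e))
          (fun e => h'.2.2 (congrArg Subtype.val e))
        exact ⟨g.1, g.2, congrArg Subtype.val g1, congrArg Subtype.val g2⟩
      by_cases h3 : 3 ≤ n
      · refine (eq_top_or_order_2520 n hn h3 H hpairs).resolve_right ?_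
        rintro ⟨rfl, -⟩
        exact absurd hprime (by decide)
      · have hn2 : n = 2 := by have := hnp.two_le; omega
        subst hn2
        rw [Subgroup.eq_top_iff']
        intro f
        obtain ⟨x, hx⟩ : ∃ x : V, x ≠ 0 := by
          by_contra hne
          push Not at hne
          haveI : Subsingleton V := ⟨fun a b => (hne a).trans (hne b).symm⟩
          rw [Nat.card_unique (α := V)] at hV
          norm_num at hV
        obtain ⟨y, hy⟩ := Duo.exists_not_mem_of_card (P := Submodule.span (ZMod 2) ({x} : Set V))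
          (by rw [Duo.card_span_one hx, hV]; norm_num)
        have hxy : Ind2 x y := (ind2_iff hx).2 hy
        obtain ⟨g, hg, g1, g2⟩ := hpairs x y (f x) (f y) hxy
          ⟨by simpa using hx, by simpa using hxy.2.1, fun e => hxy.2.2 (f.injective e)⟩
        suffices f = g by rw [this]; exact hg
        refine LinearEquiv.ext fun v => ?_
        have htop : Submodule.span (ZMod 2) ({x, y} : Set V) = ⊤ := eq_of_le_of_card le_top (by
          rw [card_top_submodule, Duo.card_span_two hxy, hV]; norm_num)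
        rcases mem_span_two.1 (htop ▸ Submodule.mem_top : v ∈ Submodule.span (ZMod 2) ({x, y} : Set V))
          with rfl | rfl | rfl | rfl <;> simp [g1, g2]
  · rintro (⟨hc, hcard⟩ | ⟨-, C, hCH, -, hc, hcard⟩ | rfl) v w hv hw
    · exact hmove H le_rfl hc hcard v w hv hw
    · exact hmove C hCH hc hcard v w hv hw
    · by_cases hvw : v = w
      · exact ⟨1, Subgroup.mem_top _, hvw⟩
      obtain ⟨l, hl, hlv⟩ : ∃ l : Module.Dual (ZMod 2) V, l (v + w) = 0 ∧ l v = 1 := by
        obtain ⟨l, h1, h2⟩ := (natural (⊤ : Subgroup (V ≃ₗ[ZMod 2] V))).exists_fun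
          (P := Submodule.span (ZMod 2) ({v + w} : Set V)) (z := v) (by
            rw [mem_span_one]
            rintro (e | e)
            · exact hv e
            · exact hw (by simpa using e))
        exact ⟨l, h1 _ (Submodule.mem_span_singleton_self _), h2⟩
      exact ⟨tv (v + w) l hl, Subgroup.mem_top _, by
        rw [tv_apply, hlv, one_smul, add_add_cancel_left']⟩

end Cfsg.Agent.S4179
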