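import Cfsg.Statements.S0340
import Cfsg.Agent.Lib.Perm.ZGroup.Suzuki
import Cfsg.Agent.Lib.Perm.ZGroup.Simple
import Cfsg.Agent.Lib.Perm.SharpThreeOdd
-- import your own Cfsg.Agent.* helpers here

set_option autoImplicit false
open Cfsg

namespace Cfsg.Agent.S0340

/-- Classification of Zassenhaus groups, simple case, order-level form: a finite simple Zassenhaus group is
isomorphic to `PSL₂(F)` for some finite field `F` or is simple of Suzuki order. -/
theorem result {G Ω : Type*} [Group G] [Finite G] [MulAction G Ω]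
    [Finite Ω] (hZ : Cfsg.IsZassenhausGroup G Ω) [IsSimpleGroup G] :
    (∃ (F : Type) (_ : Field F) (_ : Fintype F), Nonempty (G ≃* Matrix.ProjectiveSpecialLinearGroup (Fin 2) F)) ∨ Cfsg.IsSuzuki G := by
  classical
  letI := Fintype.ofFinite Ω
  haveI := hZ.1
  obtain ⟨g, hg, a, b, hab, -⟩ := hZ.2.2.2.1
  obtain ⟨S⟩ := CfsgLib.Perm.ZGroup.exists_setup hZ hab
  rcases S.simple_cases with ⟨hFab, -⟩ | ⟨hcyc, hodd, hbig, t, hta, htb, hinv⟩
  · refine Or.inl ?_
    rcases S.simple_abelian hFab with ⟨p, f, K, _, _, -, -, -, -, he⟩ | ⟨hoddΩ, hH, h3, hsharp⟩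
    · exact ⟨K, inferInstance, inferInstance, he⟩
    · have hinj : Function.Injective (MulAction.toPermHom G Ω) :=
        fun x y h => MulAction.toPerm_injective h
      let e := MonoidHom.ofInjective hinj
      haveI := h3
      have h3' : MulAction.IsMultiplyPretransitive (MulAction.toPermHom G Ω).range Ω 3 :=
        ⟨fun x y => by
          obtain ⟨k, hk⟩ := MulAction.exists_smul_eq G x y
          exact ⟨⟨MulAction.toPermHom G Ω k, k, rfl⟩, hk⟩⟩
      have hfree : ∀ (p : (MulAction.toPermHom G Ω).range) (x y z : Ω), x ≠ y → x ≠ z → y ≠ z →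
          p • x = x → p • y = y → p • z = z → p = 1 := by
        rintro ⟨_, k, rfl⟩ x y z hxy hxz hyz hx hy hz
        refine Subtype.ext ?_
        show MulAction.toPermHom G Ω k = 1
        rw [S.free hxy hxz hyz hx hy hz, map_one]
      have h1 := S.card_F
      have h2 := S.one_lt_H
      have h5 : 5 ≤ Fintype.card Ω := by
        obtain ⟨i, hi⟩ := hoddΩ
        omega
      obtain ⟨j, -, -, F, hF, hFt, -, ⟨e'⟩⟩ :=
        CfsgLib.Perm.SharpThreeOdd.exists_psl _ h3' hfree hoddΩ h5
      exact ⟨F, hF, hFt, ⟨e.trans e'⟩⟩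
  · letI := Fintype.ofFinite G
    obtain ⟨h2, hna, -⟩ := S.kernel_two_group hta htb hinv hcyc hodd hbig
    exact Or.inr (CfsgLib.Perm.ZGroup.Setup.IsTwoKernel.isSuzuki (S := S) ⟨h2, hna⟩)

end Cfsg.Agent.S0340
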