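import Cfsg.Statements.S0001
import Cfsg.Agent.Lib.Coprime.SchurZassenhaus

set_option autoImplicit false
open Pointwise
open Cfsg

namespace Cfsg.Agent.S0001

/-- Conjugacy half of the Schur–Zassenhaus Theorem, under a solvability assumption on the normal Hall subgroup or on its quotient. -/
theorem result {G : Type*} [Group G] [Finite G] (N : Subgroup G) [N.Normal]
    (hN : (Nat.card N).Coprime N.index) (hsolv : Group.IsSolvable N ∨ Group.IsSolvable (G ⧸ N))
    (H K : Subgroup G) (hH : Subgroup.IsComplement' N H) (hK : Subgroup.IsComplement' N K) :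
    ∃ g : G, MulAut.conj g • H = K := by
  have hc : Nat.card H = Nat.card K := by rw [← hH.symm.index_eq_card, ← hK.symm.index_eq_card]
  have hs : Group.IsSolvable N ∨ Group.IsSolvable H := hsolv.imp_right fun h => by
    have := h
    refine Group.isSolvable_of_isSolvable_injective
      (f := (QuotientGroup.mk' N).comp H.subtype) ?_
    refine (injective_iff_map_eq_one _).2 fun x hx => Subtype.ext ?_
    have : (x : G) ∈ N ⊓ H := ⟨(QuotientGroup.eq_one_iff _).1 hx, x.2⟩
    simpa [hH.disjoint.eq_bot] using this
  obtain ⟨n, -, h⟩ := CfsgLib.Coprime.exists_conj_eq hs Subgroup.le_normalizer_of_normal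
    Subgroup.le_normalizer_of_normal (by rw [hK.sup_eq_top]; exact le_top) hc
    (by rw [← hH.symm.index_eq_card]; exact hN)
  exact ⟨n, h⟩

end Cfsg.Agent.S0001
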