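import Cfsg.Statements.S0563
import Cfsg.Agent.Lib.Solvable.KegelWielandt
import Cfsg.Agent.S0561
-- import your own Cfsg.Agent.* helpers here

set_option autoImplicit false
open Pointwise
open Cfsg

namespace Cfsg.Agent.S0563

/-- If a finite group G is the product AB of two nilpotent subgroups of coprime orders, then G is solvable, and for every Sylow p-subgroup P of A and Sylow q-subgroup Q of B the product set PQ is a subgroup. -/
theorem result {G : Type*} [Group G] [Finite G] (A B : Subgroup G) (hA : Group.IsNilpotent A) (hB : Group.IsNilpotent B) (hcop : (Nat.card A).Coprime (Nat.card B)) (hAB : ∀ g : G, ∃ a ∈ A, ∃ b ∈ B, g = a * b) : Group.IsSolvable G ∧ ∀ (p q : ℕ) [Fact p.Prime] [Fact q.Prime] (P : Sylow p A) (Q : Sylow q B), ∃ S : Subgroup G, (S : Set G) = (((P : Subgroup A).map A.subtype : Subgroup G) : Set G) * (((Q : Subgroup B).map B.subtype : Subgroup G) : Set G) := by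
  haveI := CfsgLib.Solvable.KegelWielandt.isSolvable A B hA hB hAB
  refine ⟨inferInstance, fun p q hp hq P Q => ?_⟩
  have hcard : Nat.card G = Nat.card A * Nat.card B := by
    have hs : ((A ⊔ B : Subgroup G) : Set G) = (A : Set G) * (B : Set G) := by
      refine Set.Subset.antisymm (fun g _ => ?_) ?_
      · obtain ⟨a, ha, b, hb, e⟩ := hAB g
        exact ⟨a, ha, b, hb, e.symm⟩
      · rintro _ ⟨a, ha, b, hb, rfl⟩
        exact Subgroup.mul_mem_sup ha hb
    have h1 := CfsgLib.LocalEvenB.CentrallyLarge.card_of_set_mul hs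
    rw [Subgroup.inf_eq_bot_of_coprime hcop, Subgroup.card_bot, mul_one,
      show A ⊔ B = ⊤ from eq_top_iff.2 fun g _ => by
        obtain ⟨a, ha, b, hb, e⟩ := hAB g
        exact e ▸ Subgroup.mul_mem_sup ha hb, Subgroup.card_top] at h1
    exact h1
  have hall : ∀ (C D : Subgroup G), Nat.card G = Nat.card C * Nat.card D →
      (Nat.card C).Coprime (Nat.card D) → ∀ (r : ℕ) [Fact r.Prime] (R : Sylow r C),
      (Nat.card ↥((R : Subgroup C).map C.subtype)).Coprime ((R : Subgroup C).map C.subtype).index := by
    intro C D h1 h2 r _ R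
    have h3 : C.index = Nat.card D := by
      have := C.card_mul_index
      rw [h1] at this
      exact Nat.eq_of_mul_eq_mul_left Nat.card_pos this
    rw [Subgroup.index_map_subtype, h3, Subgroup.card_map_of_injective C.subtype_injective]
    exact R.card_coprime_index.mul_right (h2.coprime_dvd_left (Subgroup.card_subgroup_dvd_card _))
  haveI := hA
  haveI := hB
  have hn : ∀ (C : Subgroup G) [Group.IsNilpotent C] (r : ℕ) [Fact r.Prime] (R : Sylow r C),
      (((R : Subgroup C).map C.subtype).subgroupOf C).Normal := by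
    intro C _ r _ R
    rw [Subgroup.subgroupOf, Subgroup.comap_map_eq_self_of_injective C.subtype_injective]
    infer_instance
  obtain ⟨S, hS⟩ := Cfsg.Agent.S0561.result A B _ _ hAB (Subgroup.map_subtype_le _) (hn A p P)
    (Subgroup.map_subtype_le _) (hn B q Q) (hall A B hcard hcop p P)
    (hall B A (by rw [hcard, mul_comm]) hcop.symm q Q) 1 1
  exact ⟨S, by simpa using hS⟩

end Cfsg.Agent.S0563
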