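import Cfsg.Statements.S3633
import Cfsg.Agent.Lib.Derangements.PrimeGraph

set_option linter.style.haveILetI false

set_option autoImplicit false
open Cfsg

namespace Cfsg.Agent.S3633

/-- Let G be a finite group and ρ a set of at least three prime divisors of the order of G that are pairwise non-adjacent in the prime graph (no element of order rs for distinct r, s ∈ ρ). Then at most one prime of ρ divides the order of any given solvable normal subgroup of G; in particular G is not solvable. -/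
theorem result {G : Type*} [Group G] [Finite G] (ρ : Finset ℕ) (hρ : 3 ≤ ρ.card) (hc : ((∀ r ∈ ρ, r.Prime ∧ r ∣ Nat.card G) ∧ (∀ r ∈ ρ, ∀ s ∈ ρ, r ≠ s → ¬ ∃ x : G, orderOf x = r * s)))
    (K : Subgroup G) [K.Normal] (hK : Group.IsSolvable ↥K) :
    (∀ r ∈ ρ, ∀ s ∈ ρ, r ∣ Nat.card ↥K → s ∣ Nat.card ↥K → r = s) ∧ ¬ Group.IsSolvable G := by
  obtain ⟨hρp, hρn⟩ := hc
  have key : ∀ (L : Subgroup G) [L.Normal], Group.IsSolvable L → ∀ r ∈ ρ, ∀ s ∈ ρ,
      r ∣ Nat.card L → s ∣ Nat.card L → r = s := by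
    intro L _ hL r hr s hs hrL hsL
    haveI := hL
    by_contra hrs
    obtain ⟨t, ht, htr, hts⟩ : ∃ t ∈ ρ, t ≠ r ∧ t ≠ s := by
      have h1 := Finset.le_card_sdiff {r, s} ρ
      have h2 : ({r, s} : Finset ℕ).card ≤ 2 := Finset.card_le_two
      have h3 : 0 < (ρ \ {r, s}).card := by omega
      obtain ⟨t, ht⟩ := Finset.card_pos.1 h3
      simp only [Finset.mem_sdiff, Finset.mem_insert, Finset.mem_singleton, not_or] at ht
      exact ⟨t, ht.1, ht.2.1, ht.2.2⟩
    rcases CfsgLib.Derangements.PrimeGraph.exists_edge_solvable L r s t (hρp r hr).1 (hρp s hs).1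
      (hρp t ht).1 hrs htr.symm hts.symm hrL hsL (hρp t ht).2 with h | h | h
    · exact hρn r hr s hs hrs h
    · exact hρn r hr t ht htr.symm h
    · exact hρn s hs t ht hts.symm h
  refine ⟨key K hK, fun hG => ?_⟩
  haveI := hG
  obtain ⟨r, hr, s, hs, hrs⟩ := Finset.one_lt_card.1 (show 1 < ρ.card by omega)
  exact hrs (key ⊤ (solvable_of_surjective (f := (Subgroup.topEquiv : (⊤ : Subgroup G) ≃* G).symm.toMonoidHom)
    Subgroup.topEquiv.symm.surjective) r hr s hs
    (by rw [Subgroup.card_top]; exact (hρp r hr).2) (by rw [Subgroup.card_top]; exact (hρp s hs).2))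

end Cfsg.Agent.S3633
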