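import Cfsg.Statements.S3230
import Cfsg.Agent.Lib.Recognition.USixTwoOuter.Assemble
import Cfsg.Agent.Lib.Recognition.USixTwoOuter.Dichotomy

set_option autoImplicit false
open Cfsg

namespace Cfsg.Agent.S3230

/-- Let G be a finite group with an involution z, H = C_G(z), such that J = O₂(H) is extraspecial of order 2⁹ with C_H(J) ≤ J and H/J ≅ PSp₄(3). Then G ≅ U₆(2) or G = H·O(G). -/
theorem result {G : Type*} [Group G] [Finite G] (z : G) (hz : orderOf z = 2)
    {F : Type*} [Field F] [Fintype F] (hF : Fintype.card F = 3) {K : Type*} [Field K] [Fintype K] (hK : Fintype.card K = 4)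
    (hJ : Cfsg.IsExtraspecial 2 ↥(Cfsg.pCore 2 ↥(Subgroup.centralizer ({z} : Set G)))) (hJc : Nat.card ↥(Cfsg.pCore 2 ↥(Subgroup.centralizer ({z} : Set G))) = 2 ^ 9)
    (hCJ : Subgroup.centralizer ((Cfsg.pCore 2 ↥(Subgroup.centralizer ({z} : Set G))) : Set ↥(Subgroup.centralizer ({z} : Set G))) ≤ Cfsg.pCore 2 ↥(Subgroup.centralizer ({z} : Set G))) [hJn : (Cfsg.pCore 2 ↥(Subgroup.centralizer ({z} : Set G))).Normal]
    (e : (↥(Subgroup.centralizer ({z} : Set G)) ⧸ Cfsg.pCore 2 ↥(Subgroup.centralizer ({z} : Set G))) ≃* Cfsg.PSp 2 F) :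
    Nonempty (G ≃* Cfsg.PSU 6 K 2) ∨ Subgroup.centralizer ({z} : Set G) ⊔ Cfsg.oddCore G = ⊤ := by
  classical
  obtain ⟨j⟩ := CfsgLib.Recognition.USixTwoOuter.exists_iso40 hF
  set C := Subgroup.centralizer ({z} : Set G) with hC
  set P := Cfsg.pCore 2 ↥C with hP
  set φ : ↥C →* CfsgLib.Recognition.USixTwoOuter.P40 :=
    (CfsgLib.Recognition.USixTwoOuter.K40.subtype.comp (e.trans j).toMonoidHom).comp (QuotientGroup.mk' P) with hφ
  set J := CfsgLib.Recognition.USixTwoOuter.coreTwo z with hJdef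
  have hJC : J ≤ C := fun x hx => (CfsgLib.Recognition.USixTwoOuter.coreTwo_mem hx).1
  have hker : ∀ k : ↥C, φ k = 1 ↔ (k : G) ∈ J := by
    intro k
    have h1 : φ k = 1 ↔ k ∈ P := by
      rw [hφ]
      show ((e.trans j) (QuotientGroup.mk' P k) : CfsgLib.Recognition.USixTwoOuter.P40) = 1 ↔ _
      rw [OneMemClass.coe_eq_one, MulEquiv.map_eq_one_iff, QuotientGroup.mk'_apply, QuotientGroup.eq_one_iff]
    rw [h1]
    refine ⟨fun hk => ⟨k, hk, rfl⟩, fun hk => ?_⟩
    obtain ⟨_, hm⟩ := CfsgLib.Recognition.USixTwoOuter.coreTwo_mem hk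
    exact hm
  have hr : φ.range = CfsgLib.Recognition.USixTwoOuter.K40 := by
    refine le_antisymm ?_ fun p hp => ?_
    · rintro _ ⟨c, rfl⟩
      exact ((e.trans j) (QuotientGroup.mk' P c)).2
    · obtain ⟨q, hq⟩ := QuotientGroup.mk'_surjective P ((e.trans j).symm ⟨p, hp⟩)
      refine ⟨q, ?_⟩
      show ((e.trans j) (QuotientGroup.mk' P q) : CfsgLib.Recognition.USixTwoOuter.P40) = p
      rw [hq, MulEquiv.apply_symm_apply]
  have h := CfsgLib.Recognition.USixTwoOuter.hyp_of_core z hz hJ hJc hCJ C le_rfl hJC φ hr hker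
  obtain ⟨f⟩ : Nonempty (CfsgLib.ThreeTransp.ExtraspecialOut.Frame ↥J 8) := by
    obtain ⟨k, ⟨f⟩⟩ := CfsgLib.ThreeTransp.ExtraspecialOut.exists_frame h.extra.ext
    have hk8 : k = 8 := by
      have hk := CfsgLib.ThreeTransp.ExtraspecialOut.card_E f
      rw [h.card_J] at hk
      have : 2 ^ k = 2 ^ 8 := by omega
      exact Nat.pow_right_injective le_rfl this
    exact ⟨hk8 ▸ f⟩
  have hmem : ∀ c, c * z = z * c → c ∈ C := fun c hc => Subgroup.mem_centralizer_singleton_iff.2 hc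
  have hcc : ∀ c, c * z = z * c → (∀ a ∈ C, c * a * c⁻¹ * a⁻¹ ∈ J) → c ∈ J := by
    intro c hc hall
    refine (hker ⟨c, hmem c hc⟩).1 (CfsgLib.Recognition.USixTwoOuter.eq_one_of_comm fun v => ?_)
    obtain ⟨a, ha⟩ : ∃ a, φ a = CfsgLib.Recognition.USixTwoOuter.gc v :=
      MonoidHom.mem_range.1 (hr ▸ CfsgLib.Recognition.USixTwoOuter.gc_mem v)
    have h1 := (hker (⟨c, hmem c hc⟩ * a * (⟨c, hmem c hc⟩)⁻¹ * a⁻¹)).2 (hall a a.2)
    rw [map_mul, map_mul, map_mul, map_inv, map_inv, ha, mul_inv_eq_one, mul_inv_eq_iff_eq_mul] at h1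
    exact h1
  rcases CfsgLib.Recognition.USixTwoOuter.natural_or_supplement h f
      (fun c hc a ha => mul_mem (mul_mem (hmem c hc) ha) (inv_mem (hmem c hc)))
      (fun a b ha hb _ _ => mul_mem (hmem a ha) (hmem b hb))
      hcc with ⟨e', heq, hiso⟩ | hs
  · rcases CfsgLib.Recognition.USixTwoOuter.supplement_or_member hz with hs | hni
    · exact Or.inr hs
    · exact Or.inl (CfsgLib.Recognition.USixTwoOuter.natural_conclusion h f e' heq hiso hni hK)
  · exact Or.inr hs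

end Cfsg.Agent.S3230
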