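import Cfsg.Statements.S3231
import Cfsg.Agent.Lib.Recognition.USixTwoOuter.CoreAut
import Cfsg.Agent.Lib.Recognition.USixTwoOuter.OuterMain
import Cfsg.Agent.Lib.Recognition.USixTwoOuter.Dichotomy

set_option autoImplicit false
open Cfsg

namespace Cfsg.Agent.S3231

/-- Let G be a finite group with an involution z, H = C_G(z), such that J = O₂(H) is extraspecial of order 2⁹ with C_H(J) ≤ J and H/J ≅ Aut(PSp₄(3)). Then either G has a subgroup G₀ of index 2 with G₀ ≅ U₆(2) and C_G(G₀) = 1 (so that G embeds in Aut(G₀)), or G = H·O(G). -/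
theorem result {G : Type*} [Group G] [Finite G] (z : G) (hz : orderOf z = 2)
    {F : Type*} [Field F] [Fintype F] (hF : Fintype.card F = 3) {K : Type*} [Field K] [Fintype K] (hK : Fintype.card K = 4)
    (hJ : Cfsg.IsExtraspecial 2 ↥(Cfsg.pCore 2 ↥(Subgroup.centralizer ({z} : Set G)))) (hJc : Nat.card ↥(Cfsg.pCore 2 ↥(Subgroup.centralizer ({z} : Set G))) = 2 ^ 9)
    (hCJ : Subgroup.centralizer ((Cfsg.pCore 2 ↥(Subgroup.centralizer ({z} : Set G))) : Set ↥(Subgroup.centralizer ({z} : Set G))) ≤ Cfsg.pCore 2 ↥(Subgroup.centralizer ({z} : Set G))) [hJn : (Cfsg.pCore 2 ↥(Subgroup.centralizer ({z} : Set G))).Normal]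
    (e : (↥(Subgroup.centralizer ({z} : Set G)) ⧸ Cfsg.pCore 2 ↥(Subgroup.centralizer ({z} : Set G))) ≃* MulAut (Cfsg.PSp 2 F)) :
    (∃ G₀ : Subgroup G, G₀.index = 2 ∧ Nonempty (↥G₀ ≃* Cfsg.PSU 6 K 2) ∧ Subgroup.centralizer (G₀ : Set G) = ⊥) ∨
      Subgroup.centralizer ({z} : Set G) ⊔ Cfsg.oddCore G = ⊤ := by
  classical
  obtain ⟨K₀, φ, h, hn, hidx, hcc⟩ := CfsgLib.Recognition.USixTwoOuter.hyp_of_aut z hz hJ hJc hCJ hF e
  obtain ⟨f⟩ : Nonempty (CfsgLib.ThreeTransp.ExtraspecialOut.Frame ↥(CfsgLib.Recognition.USixTwoOuter.coreTwo z) 8) := by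
    obtain ⟨k, ⟨f⟩⟩ := CfsgLib.ThreeTransp.ExtraspecialOut.exists_frame h.extra.ext
    have hk8 : k = 8 := by
      have hk := CfsgLib.ThreeTransp.ExtraspecialOut.card_E f
      rw [h.card_J] at hk
      have : 2 ^ k = 2 ^ 8 := by omega
      exact Nat.pow_right_injective le_rfl this
    exact ⟨hk8 ▸ f⟩
  set C := Subgroup.centralizer ({z} : Set G)
  have hKC : K₀ ≤ C := fun k hk => Subgroup.mem_centralizer_singleton_iff.2 (h.K_le k hk)
  have htwo : (K₀.subgroupOf C).index = 2 := by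
    have h1 := (K₀.subgroupOf C).card_mul_index
    rw [Nat.card_congr (Subgroup.subgroupOfEquivOfLe hKC).toEquiv, hidx, mul_comm 2] at h1
    exact Nat.eq_of_mul_eq_mul_left Nat.card_pos h1
  have hprod : ∀ a b : G, a * z = z * a → b * z = z * b → a ∉ K₀ → b ∉ K₀ → a * b ∈ K₀ := fun a b ha hb ha' hb' =>
    (Subgroup.mul_mem_iff_of_index_two htwo (a := (⟨a, Subgroup.mem_centralizer_singleton_iff.2 ha⟩ : ↥C))
      (b := ⟨b, Subgroup.mem_centralizer_singleton_iff.2 hb⟩)).2 ⟨fun e => absurd e ha', fun e => absurd e hb'⟩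
  rcases CfsgLib.Recognition.USixTwoOuter.natural_or_supplement h f hn hprod hcc with ⟨e', heq, hiso⟩ | hs
  · rcases CfsgLib.Recognition.USixTwoOuter.supplement_or_member hz with hs | hni
    · exact Or.inr hs
    · obtain ⟨π, ψ, ho⟩ := CfsgLib.Recognition.USixTwoOuter.exists_outer h f e' heq hiso hn hidx hcc
      exact Or.inl (ho.exists_psu_index_two hni hK)
  · exact Or.inr hs

end Cfsg.Agent.S3231
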