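import Cfsg.Statements.S1475
import Cfsg.Agent.Lib.Solvable.Basic
import Cfsg.Agent.Lib.Coprime.SchurZassenhaus
import Mathlib.GroupTheory.SchurZassenhaus
import Mathlib.GroupTheory.Sylow

set_option autoImplicit false
open Cfsg
universe u
open scoped commutatorElement

namespace Cfsg.Agent.S1475

theorem isPrimePow_of_dvd {n m : ℕ} (h : IsPrimePow n) (hd : m ∣ n) : IsPrimePow m ∨ m = 1 := by
  by_cases hm : m = 1
  · exact Or.inr hm
  · exact Or.inl (h.dvd hd hm)

/-- A group `V⟨t⟩` in which every element of a nontrivial coset of `V` has order `r` cannot act fixed point freely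
on a finite abelian group of coprime order. -/
theorem no_fixed_point_free {G : Type*} [Group G] [Finite G] {N V : Subgroup G} [N.Normal] [IsMulCommutative N]
    (hN : N ≠ ⊥) (hV : V ≠ ⊥) (t : G) (r : ℕ) [Fact r.Prime] (htV : t ∈ Subgroup.normalizer (V : Set G))
    (hord : ∀ v ∈ V, (v * t) ^ r = 1 ∧ v * t ≠ 1) (htr : ∀ i, 0 < i → i < r → t ^ i ∉ V)
    (hcop : (Nat.card N).Coprime (Nat.card V))
    (hfpf : ∀ g : G, (g ∈ V ∨ ∃ v ∈ V, g = v * t) → g ≠ 1 → ∀ x ∈ N, g * x = x * g → x = 1) : False := by
  classical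
  haveI : Fintype V := Fintype.ofFinite V
  letI : CommGroup N := { (inferInstance : Group N) with mul_comm := fun a b => Std.Commutative.comm a b }
  let φ : G → N →* N := fun g =>
    { toFun := fun x => ⟨g * x * g⁻¹, ‹N.Normal›.conj_mem _ x.2 g⟩
      map_one' := by ext; simp
      map_mul' := fun a b => by ext; simp [mul_assoc] }
  have hφmul : ∀ (a b : G) (x : N), φ (a * b) x = φ a (φ b x) := fun a b x => by ext; simp [φ, mul_assoc]
  have hφ1 : ∀ x : N, φ 1 x = x := fun x => by ext; simp [φ]
  have hfix : ∀ g : G, (g ∈ V ∨ ∃ v ∈ V, g = v * t) → g ≠ 1 → ∀ y : N, φ g y = y → y = 1 := by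
    intro g hg hg1 y hy
    apply Subtype.ext
    refine hfpf g hg hg1 y y.2 ?_
    have := congrArg Subtype.val hy
    exact mul_inv_eq_iff_eq_mul.mp this
  have hsumV : ∀ x : N, ∏ v : V, φ v x = 1 := by
    intro x
    obtain ⟨v0, hv0, hv01⟩ := (Subgroup.bot_or_exists_ne_one V).resolve_left hV
    apply hfix v0 (Or.inl hv0) hv01
    rw [map_prod]
    exact Fintype.prod_equiv (Equiv.mulLeft (⟨v0, hv0⟩ : V)) _ _ fun v => by simp [hφmul]
  have hsumR : ∀ (v : V) (x : N), ∏ i ∈ Finset.range r, φ (((v : G) * t) ^ i) x = 1 := by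
    intro v x
    obtain ⟨h1, h2⟩ := hord v v.2
    apply hfix _ (Or.inr ⟨v, v.2, rfl⟩) h2
    set g := (v : G) * t with hg
    rw [map_prod]
    have e : ∀ i, φ g (φ (g ^ i) x) = φ (g ^ (i + 1)) x := fun i => by rw [← hφmul, pow_succ']
    simp only [e]
    have h3 := Finset.prod_range_succ' (fun i => φ (g ^ i) x) r
    rw [Finset.prod_range_succ (fun i => φ (g ^ i) x) r, h1] at h3
    simp only [pow_zero] at h3
    exact (mul_right_cancel h3).symm
  have hcoset : ∀ (i : ℕ) (v : V), ∃ w : V, ((v : G) * t) ^ i = w * t ^ i := by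
    intro i
    induction i with
    | zero => intro v; exact ⟨1, by simp⟩
    | succ i ih =>
      intro v
      obtain ⟨w, hw⟩ := ih v
      have hc : t ^ i * v * (t ^ i)⁻¹ ∈ V :=
        (Subgroup.mem_normalizer_iff.mp (pow_mem htV i) v).mp v.2
      refine ⟨⟨w * (t ^ i * v * (t ^ i)⁻¹), mul_mem w.2 hc⟩, ?_⟩
      rw [pow_succ, hw, pow_succ]
      simp [mul_assoc]
  have hzero : ∀ x : N, x ^ Nat.card V = 1 := by
    intro x
    have h1 : ∏ i ∈ Finset.range r, ∏ v : V, φ (((v : G) * t) ^ i) x = 1 := by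
      rw [Finset.prod_comm]; exact Finset.prod_eq_one fun v _ => hsumR v x
    rw [← Finset.prod_erase_mul _ _ (Finset.mem_range.mpr (Fact.out : r.Prime).pos)] at h1
    have h2 : ∏ i ∈ (Finset.range r).erase 0, ∏ v : V, φ (((v : G) * t) ^ i) x = 1 := by
      refine Finset.prod_eq_one fun i hi => ?_
      rw [Finset.mem_erase, Finset.mem_range] at hi
      choose w hw using hcoset i
      have hbij : Function.Bijective w := by
        refine Finite.injective_iff_bijective.mp fun v u e => ?_
        have e1 : ((v : G) * t) ^ i = ((u : G) * t) ^ i := by rw [hw, hw, e]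
        have hcopi : i.Coprime r := Nat.Coprime.symm
          (((Fact.out : r.Prime).coprime_iff_not_dvd).mpr (fun hd => absurd (Nat.le_of_dvd (by omega) hd) (by omega)))
        obtain ⟨j, hj⟩ := exists_pow_eq_self_of_coprime
          (n := i) (x := (v : G) * t) (hcopi.coprime_dvd_right (orderOf_dvd_of_pow_eq_one (hord v v.2).1))
        obtain ⟨j', hj'⟩ := exists_pow_eq_self_of_coprime
          (n := i) (x := (u : G) * t) (hcopi.coprime_dvd_right (orderOf_dvd_of_pow_eq_one (hord u u.2).1))
        have hvo := orderOf_eq_prime (hord v v.2).1 (hord v v.2).2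
        have huo := orderOf_eq_prime (hord u u.2).1 (hord u u.2).2
        have hjj : i * j ≡ 1 [MOD r] := by
          rw [← hvo, ← pow_eq_pow_iff_modEq, pow_mul, pow_one]; exact hj
        have e2 : ((u : G) * t) ^ (i * j) = (u : G) * t := by
          conv_rhs => rw [← pow_one ((u : G) * t)]
          rw [pow_eq_pow_iff_modEq, huo]; exact hjj
        rw [pow_mul, ← e1, hj] at e2
        exact Subtype.ext (mul_right_cancel e2)
      have e3 : ∏ v : V, φ (((v : G) * t) ^ i) x = ∏ v : V, φ v (φ (t ^ i) x) :=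
        Fintype.prod_equiv (Equiv.ofBijective w hbij) _ _ fun v => by
          rw [Equiv.ofBijective_apply, ← hφmul, ← hw]
      rw [e3]; exact hsumV _
    rw [h2, one_mul] at h1
    simpa [hφ1, Nat.card_eq_fintype_card] using h1
  obtain ⟨x, hx, hx1⟩ := (Subgroup.bot_or_exists_ne_one N).resolve_left hN
  apply hx1
  have h4 : (⟨x, hx⟩ : N) = 1 := by
    rw [← orderOf_eq_one_iff]
    exact Nat.eq_one_of_dvd_coprimes hcop (orderOf_dvd_natCard _) (orderOf_dvd_of_pow_eq_one (hzero _))
  exact congrArg Subtype.val h4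

theorem main (n : ℕ) : ∀ (G : Type u) [Group G] [Finite G] [Group.IsSolvable G], Nat.card G = n →
    (∀ g : G, IsPrimePow (orderOf g) ∨ g = 1) → (Nat.card G).primeFactors.card ≤ 2 := by
  induction n using Nat.strong_induction_on with
  | _ n ih =>
    intro G _ _ _ hn h
    classical
    by_cases htriv : Nontrivial G
    swap
    · haveI := not_nontrivial_iff_subsingleton.mp htriv
      simp
    obtain ⟨N, p, hp, hNn, hN1, -, hNc, hNp, -⟩ :=
      CfsgLib.Solvable.Basic.exists_minimal_normal_pgroup (H := (⊤ : Subgroup G)) top_ne_bot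
    haveI := hNn
    haveI := hNc
    haveI := Fact.mk hp
    have hQ : (Nat.card (G ⧸ N)).primeFactors.card ≤ 2 := by
      refine ih _ (hn ▸ CfsgLib.Solvable.Basic.card_quotient_lt N hN1) (G ⧸ N) rfl fun g => ?_
      obtain ⟨g, rfl⟩ := QuotientGroup.mk'_surjective N g
      rcases h g with h1 | h1
      · rcases isPrimePow_of_dvd h1 (orderOf_map_dvd (QuotientGroup.mk' N) g) with h2 | h2
        · exact Or.inl h2
        · exact Or.inr (orderOf_eq_one_iff.mp h2)
      · exact Or.inr (by rw [h1, map_one])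
    obtain ⟨k, hk⟩ := IsPGroup.iff_card.mp hNp
    have hk0 : k ≠ 0 := by rintro rfl; exact hN1 (Subgroup.card_eq_one.mp (by simpa using hk))
    have hfac : (Nat.card G).primeFactors = insert p (N.index).primeFactors := by
      rw [← N.card_mul_index, Nat.primeFactors_mul Nat.card_pos.ne' Subgroup.index_ne_zero_of_finite, hk,
        Nat.primeFactors_prime_pow hk0 hp, ← Finset.insert_eq]
    by_contra hcon
    rw [← Subgroup.index_eq_card] at hQ
    have hins := Finset.card_insert_le p (N.index).primeFactors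
    rw [hfac] at hcon
    have hpn : p ∉ (N.index).primeFactors := fun hmem => hcon (by rw [Finset.insert_eq_of_mem hmem]; exact hQ)
    have hcard2 : (N.index).primeFactors.card = 2 := by omega
    have hpidx : ¬ p ∣ N.index := fun hd =>
      hpn (Nat.mem_primeFactors.mpr ⟨hp, hd, Subgroup.index_ne_zero_of_finite⟩)
    have hcopN : (Nat.card N).Coprime N.index := by
      rw [hk]; exact Nat.Coprime.pow_left _ (hp.coprime_iff_not_dvd.mpr hpidx)
    obtain ⟨K, hK⟩ := Subgroup.exists_right_complement'_of_coprime hcopN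
    have hKcard : Nat.card K = N.index := hK.symm.index_eq_card.symm
    haveI : Nontrivial K := by
      rw [← Finite.one_lt_card_iff_nontrivial, hKcard]
      by_contra h1
      interval_cases N.index <;> simp_all
    obtain ⟨V, q, hq, hVn, hV1, -, -, hVq, -⟩ :=
      CfsgLib.Solvable.Basic.exists_minimal_normal_pgroup (H := (⊤ : Subgroup K)) top_ne_bot
    obtain ⟨r, hr, hrq⟩ := Finset.exists_mem_ne (by omega : 1 < (N.index).primeFactors.card) q
    have hrp := Nat.prime_of_mem_primeFactors hr
    haveI := Fact.mk hrp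
    haveI := Fact.mk hq
    obtain ⟨t, ht⟩ := exists_prime_orderOf_dvd_card' (G := K) r (hKcard ▸ Nat.dvd_of_mem_primeFactors hr)
    set V' := V.map K.subtype with hV'
    have hV'q : IsPGroup q V' := hVq.map K.subtype
    have hto : orderOf (t : G) = r := by rw [Subgroup.orderOf_coe, ht]
    have hV'1 : V' ≠ ⊥ := by rwa [hV', Ne, Subgroup.map_eq_bot_iff_of_injective _ K.subtype_injective]
    have htN : ∀ i, 0 < i → i < r → (t : G) ^ i ∉ V' := by
      intro i hi hir hmem
      obtain ⟨m, hm⟩ := hV'q ⟨_, hmem⟩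
      have h5 : ((t : G) ^ i) ^ q ^ m = 1 := congrArg Subtype.val hm
      rw [← pow_mul, ← orderOf_dvd_iff_pow_eq_one, hto] at h5
      rcases hrp.dvd_mul.mp h5 with h6 | h6
      · exact absurd (Nat.le_of_dvd hi h6) (by omega)
      · exact hrq ((Nat.prime_dvd_prime_iff_eq hrp hq).mp (hrp.dvd_of_dvd_pow h6))
    apply no_fixed_point_free (N := N) (V := V') hN1 hV'1 (t : G) r
    · refine CfsgLib.Coprime.mem_normalizer_of_conj_map_le ?_
      rintro _ ⟨v, hv, rfl⟩
      exact ⟨t * v * t⁻¹, hVn.conj_mem v hv t, rfl⟩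
    · rintro _ ⟨v, hv, rfl⟩
      haveI := hVn
      have hne : K.subtype v * (t : G) ≠ 1 := by
        intro e
        have : (t : G) ^ 1 ∈ V' := by
          rw [pow_one, eq_inv_of_mul_eq_one_right e]
          exact inv_mem ⟨v, hv, rfl⟩
        exact htN 1 one_pos hrp.one_lt this
      refine ⟨?_, hne⟩
      have hrd : r ∣ orderOf (v * t) := by
        have h7 := orderOf_map_dvd (QuotientGroup.mk' V) (v * t)
        rw [map_mul, QuotientGroup.mk'_apply, QuotientGroup.mk'_apply, (QuotientGroup.eq_one_iff v).mpr hv, one_mul] at h7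
        refine dvd_trans ?_ h7
        rw [orderOf_eq_prime (p := r)]
        · rw [← QuotientGroup.mk_pow, ← ht, pow_orderOf_eq_one]; rfl
        · intro e
          exact htN 1 one_pos hrp.one_lt ⟨t, (QuotientGroup.eq_one_iff t).mp e, by simp⟩
      have hvt : (v * t) ^ r ∈ V := by
        rw [← QuotientGroup.eq_one_iff, QuotientGroup.mk_pow, QuotientGroup.mk_mul,
          (QuotientGroup.eq_one_iff v).mpr hv, one_mul, ← QuotientGroup.mk_pow, ← ht, pow_orderOf_eq_one]
        rfl
      obtain ⟨m, hm⟩ := hVq ⟨_, hvt⟩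
      have h8 : orderOf (v * t) ∣ r * q ^ m := by
        apply orderOf_dvd_of_pow_eq_one
        rw [pow_mul]
        exact congrArg Subtype.val hm
      rcases h (K.subtype (v * t)) with h9 | h9
      · obtain ⟨s, j, hs, hj, e⟩ := h9
        rw [← Nat.prime_iff] at hs
        rw [orderOf_injective K.subtype K.subtype_injective] at e
        rw [← e] at h8 hrd
        have hsr : r = s := (Nat.prime_dvd_prime_iff_eq hrp hs).mp (hrp.dvd_of_dvd_pow hrd)
        subst hsr
        have h10 : r ^ j ∣ r := Nat.Coprime.dvd_of_dvd_mul_right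
          (Nat.Coprime.pow j m ((Nat.coprime_primes hrp hq).mpr hrq)) h8
        show ((((v * t) ^ r : K)) : G) = ((1 : K) : G)
        congr 1
        rw [← orderOf_dvd_iff_pow_eq_one, ← e]
        exact h10
      · exact absurd h9 hne
    · exact htN
    · rw [hk]
      obtain ⟨m, hm⟩ := IsPGroup.iff_card.mp hV'q
      rw [hm]
      refine Nat.Coprime.pow _ _ ((Nat.coprime_primes hp hq).mpr ?_)
      rintro rfl
      have h11 : Nat.card V' ∣ Nat.card K := Subgroup.card_dvd_of_le (Subgroup.map_subtype_le V)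
      rw [hKcard, hm] at h11
      have hm0 : m ≠ 0 := by rintro rfl; exact hV'1 (Subgroup.card_eq_one.mp (by simpa using hm))
      exact hpidx ((dvd_pow_self p hm0).trans h11)
    · intro g hg hg1 x hx hcomm
      by_contra hx1
      have hgK : g ∈ K := by
        rcases hg with hg | ⟨v, hv, rfl⟩
        · exact Subgroup.map_subtype_le V hg
        · exact mul_mem (Subgroup.map_subtype_le V hv) t.2
      have hc2 : (orderOf g).Coprime (orderOf x) := by
        refine (hcopN.symm.coprime_dvd_left ?_).coprime_dvd_right ?_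
        · rw [← hKcard]; simpa using (Subgroup.orderOf_coe (⟨g, hgK⟩ : K)) ▸ orderOf_dvd_natCard (⟨g, hgK⟩ : K)
        · simpa using (Subgroup.orderOf_coe (⟨x, hx⟩ : N)) ▸ orderOf_dvd_natCard (⟨x, hx⟩ : N)
      have hmul := Commute.orderOf_mul_eq_mul_orderOf_of_coprime hcomm hc2
      rcases h (g * x) with h12 | h12
      · rw [hmul] at h12
        rcases (Nat.Coprime.isPrimePow_dvd_mul hc2 h12).mp dvd_rfl with h13 | h13
        · exact hx1 (orderOf_eq_one_iff.mp (Nat.eq_one_of_dvd_coprimes hc2 (dvd_trans (Dvd.intro_left _ rfl) h13) dvd_rfl))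
        · exact hg1 (orderOf_eq_one_iff.mp (Nat.eq_one_of_dvd_coprimes hc2 dvd_rfl (dvd_trans (Dvd.intro _ rfl) h13)))
      · have h14 : orderOf g * orderOf x = 1 := by rw [← hmul, h12, orderOf_one]
        exact hg1 (orderOf_eq_one_iff.mp (Nat.eq_one_of_mul_eq_one_right h14))


/-- Let G be a finite solvable group such that the order of every element is a prime power (1 included). Then at most two distinct primes divide the order of G. -/
theorem result {G : Type*} [Group G] [Finite G] [Group.IsSolvable G] (h : ∀ g : G, IsPrimePow (orderOf g) ∨ g = 1) :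
    (Nat.card G).primeFactors.card ≤ 2 := by
  exact main (Nat.card G) G rfl h

end Cfsg.Agent.S1475
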