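import Cfsg.Statements.S0976
import Cfsg.Agent.Lib.SmallGroups.SelfInverse
-- import your own Cfsg.Agent.* helpers here

set_option autoImplicit false
open Cfsg

namespace Cfsg.Agent.S0976

/-- No finite simple group has order 4032 = 2^6 * 3^2 * 7. -/
theorem result {G : Type*} [Group G] [Finite G] [IsSimpleGroup G] : Nat.card G ≠ 4032 := by
  classical
  intro h
  have := Fintype.ofFinite G
  have : Fact (Nat.Prime 7) := ⟨by norm_num⟩
  have : Fact (Nat.Prime 3) := ⟨Nat.prime_three⟩
  have : Fact (Nat.Prime 2) := ⟨Nat.prime_two⟩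
  have hG : ¬ IsMulCommutative G := CfsgLib.SmallGroups.SimpleTools.not_comm_of_card (by rw [h]; norm_num)
  have hperf : commutator G = ⊤ := by
    rcases (inferInstance : (commutator G).Normal).eq_bot_or_eq_top with hb | hb
    · exact absurd ⟨⟨fun a b => commutatorElement_eq_one_iff_mul_comm.mp (Subgroup.mem_bot.mp
        (hb ▸ Subgroup.commutator_mem_commutator (Subgroup.mem_top a) (Subgroup.mem_top b)))⟩⟩ hG
    · exact hb
  have hd : 7 ∣ Nat.card G := by rw [h]; norm_num
  have hbound : ∀ H : Subgroup G, H ≠ ⊤ → 9 ≤ H.index := by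
    intro H hH
    by_contra hlt
    have h2 := CfsgLib.SmallGroups.SimpleTools.two_mul_card_dvd_factorial hG H hH
    rw [h] at h2
    have h8 : H.index = 8 := by
      by_contra hne
      have h3 := h2.trans (Nat.factorial_dvd_factorial (show H.index ≤ 7 by omega))
      norm_num [Nat.factorial] at h3
    obtain ⟨f, hf⟩ := CfsgLib.SmallGroups.SimpleTools.exists_embedding hG H hH
    revert f
    rw [h8]
    intro f hf
    have : IsSimpleGroup ↥(alternatingGroup (Fin 8)) := alternatingGroup.isSimpleGroup (by simp)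
    have hA : Nat.card ↥(alternatingGroup (Fin 8)) = 20160 := by
      have h1 := two_mul_nat_card_alternatingGroup (α := Fin 8)
      rw [Nat.card_perm, Nat.card_fin, show Nat.factorial 8 = 40320 by decide] at h1
      omega
    have hR : Nat.card f.range = 4032 := (Nat.card_congr (MonoidHom.ofInjective hf).toEquiv).symm.trans h
    have hidx : f.range.index = 5 := by
      have h1 := f.range.index_mul_card
      rw [hR, hA] at h1
      omega
    have h4 := CfsgLib.SmallGroups.SimpleTools.two_mul_card_dvd_factorial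
      (CfsgLib.SmallGroups.SimpleTools.not_comm_of_card (by rw [hA]; norm_num)) f.range
      (fun e => by rw [e, Subgroup.index_top] at hidx; omega)
    rw [hidx, hA] at h4
    norm_num [Nat.factorial] at h4
  have hne := CfsgLib.SmallGroups.SimpleTools.card_sylow_ne_one hG hd (p := 7)
  have hmem := CfsgLib.SmallGroups.SimpleTools.card_sylow_mem (G := G) (p := 7) (k := 1) (m := 576) (by rw [h]; norm_num) (by norm_num)
  rw [show (Nat.divisors 576).filter (fun n => n % 7 = 1) = {1, 8, 36, 64, 288} by decide +kernel] at hmem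
  simp only [Finset.mem_insert, Finset.mem_singleton] at hmem
  obtain ⟨P⟩ : Nonempty (Sylow 7 G) := inferInstance
  have hP : Nat.card (P : Subgroup G) = 7 :=
    (CfsgLib.SmallGroups.SimpleTools.card_sylow_subgroup (k := 1) (m := 576) (by rw [h]; norm_num) (by norm_num) P).trans (pow_one _)
  obtain ⟨e, k, he1, hed, hNc, hCc⟩ := CfsgLib.SmallGroups.LocalTools.exists_e hG P hP
  have hmul := CfsgLib.SmallGroups.SimpleTools.card_normalizer_mul P
  rw [h, hNc] at hmul
  have hed' : e ∣ 6 := hed
  have he6 := Nat.le_of_dvd (by norm_num) hed'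
  let N := Subgroup.normalizer ((P : Subgroup G) : Set G)
  rcases hmem with hn | hn | hn | hn | hn
  · exact hne hn
  · have := hbound _ (CfsgLib.SmallGroups.SimpleTools.normalizer_ne_top hG hd P)
    rw [show (Subgroup.normalizer ((P : Subgroup G) : Set G)).index = 8 from hn ▸ P.card_eq_index_normalizer.symm] at this
    omega
  · -- thirty-six Sylow seven-subgroups
    rw [hn] at hmul
    have hek : e * k = 16 := by nlinarith
    have hN : Nat.card N = 112 := by
      show Nat.card ↥(Subgroup.normalizer ((P : Subgroup G) : Set G)) = 112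
      rw [hNc, mul_left_comm e 7 k, hek]; norm_num
    have hk8 : k = 2 ^ 3 := by interval_cases e <;> omega
    rw [hk8] at hCc
    obtain ⟨K, hKC, hK, hKN⟩ := CfsgLib.SmallGroups.LocalTools.exists_complement P hP (by norm_num) hCc
    obtain ⟨S'⟩ : Nonempty (Sylow 2 ↥N) := inferInstance
    have hScard : Nat.card (S' : Subgroup ↥N) = 2 ^ 4 :=
      CfsgLib.SmallGroups.SimpleTools.card_sylow_subgroup (k := 4) (m := 7) (by rw [hN]; norm_num) (by norm_num) S'
    set S₀ := (S' : Subgroup N).map N.subtype
    have hS0 : Nat.card S₀ = 16 := by rw [Subgroup.card_map_of_injective N.subtype_injective, hScard]; norm_num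
    have hKN' : K ≤ N := hKC.trans (Subgroup.centralizer_le_normalizer _)
    have hnK : (K.subgroupOf N).Normal := Subgroup.normal_subgroupOf_of_le_normalizer hKN
    have hKS : K ≤ S₀ := by
      have hp : IsPGroup 2 ↥(K.subgroupOf N) := IsPGroup.of_card (n := 3) (by
        rw [Nat.card_congr (Subgroup.subgroupOfEquivOfLe hKN').toEquiv, hK])
      exact fun x hx => ⟨⟨x, hKN' hx⟩, hp.le_sylow_of_normal S' hx, rfl⟩
    have hSN : S₀ ≤ N := Subgroup.map_subtype_le _
    have hgen : N ≤ (P : Subgroup G) ⊔ S₀ := by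
      refine (Subgroup.eq_of_le_of_card_ge (sup_le Subgroup.le_normalizer hSN) ?_).ge
      rw [hN]
      have h7 := Subgroup.card_dvd_of_le (le_sup_left : (P : Subgroup G) ≤ (P : Subgroup G) ⊔ S₀)
      have h8 := Subgroup.card_dvd_of_le (le_sup_right : S₀ ≤ (P : Subgroup G) ⊔ S₀)
      rw [hP] at h7
      rw [hS0] at h8
      exact Nat.le_of_dvd Nat.card_pos (Nat.Coprime.mul_dvd_of_dvd_of_dvd (by decide : Nat.Coprime 7 16) h7 h8)
    obtain ⟨g, hg, hgN⟩ := CfsgLib.SmallGroups.LocalTools.exists_normalizing (q := 2) (a := 4) N S₀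
      (by rw [hS0]; norm_num) (by rw [h]; norm_num) (by rw [hN]; norm_num)
    obtain ⟨M, hM, hle⟩ := CfsgLib.SmallGroups.LocalTools.exists_large hG P hP K S₀ hKC hKN hSN hKS hgen
      (by rw [hS0, hK]; norm_num) hg hgN
    have := CfsgLib.SmallGroups.LocalTools.index_mul_le hbound h hM
    change (7 + 1) * Nat.card N ≤ Nat.card M at hle
    omega
  · -- sixty-four Sylow seven-subgroups
    rw [hn] at hmul
    have hek : e * k = 9 := by nlinarith
    have hN : Nat.card N = 63 := by
      show Nat.card ↥(Subgroup.normalizer ((P : Subgroup G) : Set G)) = 63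
      rw [hNc, mul_left_comm e 7 k, hek]; norm_num
    have hk3 : k = 3 ^ 1 := by interval_cases e <;> omega
    rw [hk3] at hCc
    obtain ⟨K, hKC, hK, hKN⟩ := CfsgLib.SmallGroups.LocalTools.exists_complement P hP (by norm_num) hCc
    have hKN' : K ≤ N := hKC.trans (Subgroup.centralizer_le_normalizer _)
    obtain ⟨⟨x, hxK⟩, hx⟩ := exists_prime_orderOf_dvd_card' (G := ↥K) 3 (dvd_of_eq (by rw [hK]; norm_num))
    rw [← Subgroup.orderOf_coe] at hx
    change orderOf x = 3 at hx
    have hxK' : Subgroup.zpowers x = K :=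
      Subgroup.eq_of_le_of_card_ge (Subgroup.zpowers_le.mpr hxK) (by rw [hK, Nat.card_zpowers, hx]; norm_num)
    have hx1 : x ≠ 1 := fun e => by rw [e, orderOf_one] at hx; omega
    have hNC : N ≤ Subgroup.centralizer ({x} : Set G) := fun g hg => by
      refine Subgroup.mem_centralizer_singleton_iff.mpr ?_
      have hm : g * x * g⁻¹ ∈ Subgroup.zpowers x := hxK'.symm ▸ (Subgroup.mem_normalizer_iff.mp (hKN hg) x).mp hxK
      rw [mem_zpowers_iff_mem_range_orderOf, hx] at hm
      obtain ⟨i, hi, hi'⟩ := Finset.mem_image.mp hm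
      rw [Finset.mem_range] at hi
      interval_cases i
      · rw [pow_zero] at hi'; exact absurd (conj_eq_one_iff.mp hi'.symm) hx1
      · rw [pow_one] at hi'; exact mul_inv_eq_iff_eq_mul.mp hi'.symm
      · exfalso
        have hinv : g * x * g⁻¹ = x⁻¹ := hi'.symm.trans (eq_inv_of_mul_eq_one_left (by
          rw [← pow_succ, show 2 + 1 = orderOf x by rw [hx], pow_orderOf_eq_one]))
        have hiter : ∀ j : ℕ, g ^ (2 * j + 1) * x * (g ^ (2 * j + 1))⁻¹ = x⁻¹ := by
          intro j
          induction j with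
          | zero => simpa using hinv
          | succ j ih =>
            have h2 : g * x⁻¹ * g⁻¹ = x := by rw [← conj_inv, hinv, inv_inv]
            calc g ^ (2 * (j + 1) + 1) * x * (g ^ (2 * (j + 1) + 1))⁻¹
                = g * (g * (g ^ (2 * j + 1) * x * (g ^ (2 * j + 1))⁻¹) * g⁻¹) * g⁻¹ := by group
              _ = x⁻¹ := by rw [ih, h2, hinv]
        have h63 : g ^ 63 = 1 :=
          orderOf_dvd_iff_pow_eq_one.mp ((N.orderOf_dvd_natCard hg).trans (dvd_of_eq hN))
        have h1 := hiter 31
        rw [show 2 * 31 + 1 = 63 by norm_num, h63] at h1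
        simp only [one_mul, inv_one, mul_one] at h1
        have h2 : orderOf x ∣ 2 := orderOf_dvd_of_pow_eq_one (by rw [pow_two]; exact mul_eq_one_iff_eq_inv.mpr h1)
        rw [hx] at h2; norm_num at h2
    set M := Subgroup.centralizer ({x} : Set G)
    have hMtop : M ≠ ⊤ := fun e => by
      refine hx1 (Subgroup.mem_bot.mp ?_)
      rw [← CfsgLib.SmallGroups.SimpleTools.center_eq_bot hG]
      exact Subgroup.mem_center_iff.mpr fun a =>
        Subgroup.mem_centralizer_singleton_iff.mp (show a ∈ M from e ▸ Subgroup.mem_top a)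
    have hPM : (P : Subgroup G) ≤ M := Subgroup.le_normalizer.trans hNC
    have hM63 : Nat.card M = 63 := by
      have hle := CfsgLib.SmallGroups.LocalTools.index_mul_le hbound h hMtop
      have hm7 := CfsgLib.SmallGroups.SimpleTools.card_normalizer_mul (P.subtype hPM)
      have hN' : 63 ≤ Nat.card ↥(Subgroup.normalizer ((P.subtype hPM : Subgroup ↥M) : Set ↥M)) := by
        rw [← hN, ← Nat.card_congr (Subgroup.subgroupOfEquivOfLe hNC).toEquiv]
        refine Subgroup.card_le_of_le fun a ha => ?_
        exact Subgroup.mem_normalizer_iff.mpr fun w => Subgroup.mem_normalizer_iff.mp ha (w : G)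
      have hN'' : Nat.card ↥(Subgroup.normalizer ((P.subtype hPM : Subgroup ↥M) : Set ↥M)) ≤ 63 := by
        rw [← hN, ← Subgroup.card_map_of_injective M.subtype_injective]
        refine Subgroup.card_le_of_le ?_
        rintro _ ⟨a, ha, rfl⟩
        refine Sylow.smul_eq_iff_mem_normalizer.mp (Sylow.subtype_injective (hP := Sylow.smul_le hPM a) (hQ := hPM) ?_)
        have hfix := Sylow.smul_eq_iff_mem_normalizer.mpr ha
        rw [Sylow.smul_subtype] at hfix
        exact hfix
      have hmod : Nat.card (Sylow 7 ↥M) % 7 = 1 := by rw [card_sylow_modEq_one 7 ↥M]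
      have h63 : Nat.card ↥(Subgroup.normalizer ((P.subtype hPM : Subgroup ↥M) : Set ↥M)) = 63 := by omega
      rw [h63] at hm7
      have hdvd : Nat.card M ∣ 4032 := h ▸ M.card_subgroup_dvd_card
      rw [← hm7] at hdvd
      have hs : Nat.card (Sylow 7 ↥M) ≤ 7 := by omega
      omega
    have hMN : M = N := (Subgroup.eq_of_le_of_card_ge hNC (by rw [hM63, hN])).symm
    have hNidx : N.index = 64 := hn ▸ P.card_eq_index_normalizer.symm
    have hcls : Nat.card {g : G // IsConj x g} = 64 := by
      rw [CfsgLib.SmallGroups.CosetFixed.card_class, ← hNidx]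
      exact congrArg Subgroup.index hMN
    -- a Sylow three-subgroup inside the normaliser
    obtain ⟨R, hR⟩ := (IsPGroup.of_card hK).exists_le_sylow
    have hRc : Nat.card (R : Subgroup G) = 9 :=
      (CfsgLib.SmallGroups.SimpleTools.card_sylow_subgroup (k := 2) (m := 448) (by rw [h]; norm_num) (by norm_num) R).trans (by norm_num)
    have hRab : IsMulCommutative ↥(R : Subgroup G) :=
      IsPGroup.isMulCommutative_of_card_eq_prime_sq (p := 3) (by rw [hRc]; norm_num)
    have hxR : x ∈ (R : Subgroup G) := hR hxK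
    have hRN : (R : Subgroup G) ≤ N := by
      rw [← hMN]
      exact fun a ha => Subgroup.mem_centralizer_singleton_iff.mpr
        (congrArg Subtype.val (hRab.is_comm.comm ⟨a, ha⟩ ⟨x, hxR⟩))
    set C := Subgroup.centralizer ((P : Subgroup G) : Set G)
    have hRC : ∀ a ∈ (R : Subgroup G), a ∈ C → a ∈ K := by
      intro a ha haC
      have hle : K ≤ (R : Subgroup G) ⊓ C := le_inf hR hKC
      have hd1 := Subgroup.card_dvd_of_le (inf_le_left : (R : Subgroup G) ⊓ C ≤ R)
      have hd2 := Subgroup.card_dvd_of_le (inf_le_right : (R : Subgroup G) ⊓ C ≤ C)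
      rw [hRc] at hd1
      rw [hCc] at hd2
      have hd3 : Nat.card ↥((R : Subgroup G) ⊓ C) ∣ 3 := by
        have := Nat.dvd_gcd hd1 hd2
        exact this
      exact (Subgroup.eq_of_le_of_card_ge hle (by rw [hK]; exact Nat.le_of_dvd (by norm_num) hd3)).symm ▸ ⟨ha, haC⟩
    set NR := Subgroup.normalizer ((R : Subgroup G) : Set G)
    have hmem3 := CfsgLib.SmallGroups.SimpleTools.card_sylow_mem (G := G) (p := 3) (k := 2) (m := 448) (by rw [h]; norm_num) (by norm_num)
    rw [show (Nat.divisors 448).filter (fun n => n % 3 = 1) = {1, 4, 7, 16, 28, 64, 112, 448} by decide +kernel] at hmem3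
    simp only [Finset.mem_insert, Finset.mem_singleton] at hmem3
    have hm3 := CfsgLib.SmallGroups.SimpleTools.card_normalizer_mul R
    rw [h] at hm3
    have hidxR : NR.index = Nat.card (Sylow 3 G) := R.card_eq_index_normalizer.symm
    have hNRtop : NR ≠ ⊤ := CfsgLib.SmallGroups.SimpleTools.normalizer_ne_top hG (by rw [h]; norm_num) R
    have h9 := hbound NR hNRtop
    -- the element is not central in the normaliser of `R`
    have hstab : NR ⊓ N = (R : Subgroup G) := by
      refine (Subgroup.eq_of_le_of_card_ge (le_inf Subgroup.le_normalizer hRN) ?_).symm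
      by_contra hlt
      rw [not_le, hRc] at hlt
      have hd1 := Subgroup.card_dvd_of_le (inf_le_right : NR ⊓ N ≤ N)
      have hd2 := Subgroup.card_dvd_of_le (le_inf Subgroup.le_normalizer hRN : (R : Subgroup G) ≤ NR ⊓ N)
      rw [hN] at hd1
      rw [hRc] at hd2
      have hle63 := Nat.le_of_dvd (by norm_num) hd1
      have h63 : Nat.card ↥(NR ⊓ N) = 63 := by
        generalize Nat.card ↥(NR ⊓ N) = c at *
        interval_cases c <;> omega
      have hN_NR : N ≤ NR := by
        rw [← Subgroup.eq_of_le_of_card_ge (inf_le_right : NR ⊓ N ≤ N) (by rw [h63, hN])]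
        exact inf_le_left
      have hPR : (R : Subgroup G) ≤ C := by
        intro a ha
        refine Subgroup.mem_centralizer_iff.mpr fun b hb => ?_
        have hc : b * a * b⁻¹ * a⁻¹ ∈ (R : Subgroup G) ⊓ (P : Subgroup G) := by
          refine ⟨(R : Subgroup G).mul_mem ((Subgroup.mem_normalizer_iff.mp (hN_NR (Subgroup.le_normalizer hb)) a).mp ha)
            ((R : Subgroup G).inv_mem ha), ?_⟩
          rw [show b * a * b⁻¹ * a⁻¹ = b * (a * b⁻¹ * a⁻¹) by group]
          exact (P : Subgroup G).mul_mem hb ((Subgroup.mem_normalizer_iff.mp (hRN ha) b⁻¹).mp ((P : Subgroup G).inv_mem hb))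
        rw [Subgroup.inf_eq_bot_of_coprime (by rw [hRc, hP]; decide), Subgroup.mem_bot, mul_inv_eq_one,
          mul_inv_eq_iff_eq_mul] at hc
        exact hc
      have hle3 := Subgroup.card_le_of_le (fun a ha => hRC a ha (hPR ha) : (R : Subgroup G) ≤ K)
      rw [hRc, hK] at hle3
      norm_num at hle3
    -- the orbit of `x` under the normaliser of `R`
    let O : Set G := (fun g => g * x * g⁻¹) '' (NR : Set G)
    have hNR36 : 36 ≤ Nat.card NR := by
      rw [← hidxR] at hm3 hmem3
      change NR.index * Nat.card NR = 4032 at hm3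
      rcases hmem3 with e | e | e | e | e | e | e | e <;> rw [e] at hm3 h9 <;> try omega
      exfalso
      have hReq : (R : Subgroup G) = NR := Subgroup.eq_of_le_of_card_ge Subgroup.le_normalizer (by rw [hRc]; omega)
      refine CfsgLib.SmallGroups.SimpleTools.not_normalizer_le hG (by rw [h]; norm_num) R ?_
      intro a ha
      have ha' : a ∈ (R : Subgroup G) := hReq.symm ▸ ha
      exact Subgroup.mem_centralizer_iff.mpr fun b hb => congrArg Subtype.val (hRab.is_comm.comm ⟨b, hb⟩ ⟨a, ha'⟩)
    have hO : 4 ≤ O.ncard := by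
      have hpre : ∀ v : O, ∃ g ∈ NR, g * x * g⁻¹ = (v : G) := fun v => v.2
      choose c hc hcv using hpre
      let F : NR → O × (R : Subgroup G) := fun g =>
        (⟨(g : G) * x * (g : G)⁻¹, g, g.2, rfl⟩, ⟨(c ⟨(g : G) * x * (g : G)⁻¹, g, g.2, rfl⟩)⁻¹ * g, by
          set q := c ⟨(g : G) * x * (g : G)⁻¹, g, g.2, rfl⟩
          have hq : q * x * q⁻¹ = (g : G) * x * (g : G)⁻¹ := hcv _
          have hmem : q⁻¹ * g ∈ NR ⊓ N := by
            refine ⟨NR.mul_mem (NR.inv_mem (hc _)) g.2, ?_⟩
            rw [← hMN]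
            refine Subgroup.mem_centralizer_singleton_iff.mpr ?_
            calc q⁻¹ * g * x = q⁻¹ * ((g : G) * x * (g : G)⁻¹) * g := by group
              _ = q⁻¹ * (q * x * q⁻¹) * g := by rw [hq]
              _ = x * (q⁻¹ * g) := by group
          exact hstab ▸ hmem⟩)
      have hF : Function.Injective F := by
        intro g g' hgg
        have e1 := congrArg Prod.fst hgg
        have e2 := congrArg (fun t : O × (R : Subgroup G) => (t.2 : G)) hgg
        simp only [F] at e1 e2
        rw [e1] at e2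
        exact Subtype.ext (mul_left_cancel e2)
      have := Nat.card_le_card_of_injective F hF
      rw [Nat.card_prod, hRc, Nat.card_coe_set_eq] at this
      omega
    have hOR : ∀ v ∈ O, v ∈ (R : Subgroup G) ∧ IsConj x v := by
      rintro _ ⟨g, hg, rfl⟩
      exact ⟨(Subgroup.mem_normalizer_iff.mp hg x).mp hxR, isConj_iff.mpr ⟨g, rfl⟩⟩
    obtain ⟨y, y', hy, hy', hyne⟩ : ∃ y y', y ∈ O \ (K : Set G) ∧ y' ∈ O \ (K : Set G) ∧ y ≠ y' := by
      have hsub : O ∩ (K : Set G) ⊆ {x, x⁻¹} := by
        rintro v ⟨hv, hvK⟩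
        have hv' : v ∈ Subgroup.zpowers x := hxK'.symm ▸ hvK
        rw [mem_zpowers_iff_mem_range_orderOf, hx] at hv'
        obtain ⟨i, hi, rfl⟩ := Finset.mem_image.mp hv'
        rw [Finset.mem_range] at hi
        interval_cases i
        · exfalso
          obtain ⟨c, hc⟩ := isConj_iff.mp (hOR _ hv).2
          rw [pow_zero] at hc
          exact hx1 (conj_eq_one_iff.mp hc)
        · exact Or.inl (pow_one x)
        · refine Or.inr (eq_inv_of_mul_eq_one_left ?_)
          rw [← pow_succ, show 2 + 1 = orderOf x by rw [hx], pow_orderOf_eq_one]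
      have h2 := (Set.ncard_le_ncard hsub).trans (Set.ncard_insert_le _ _)
      rw [Set.ncard_singleton] at h2
      have h3 := Set.ncard_inter_add_ncard_sdiff_eq_ncard O (K : Set G)
      obtain ⟨y, hy, y', hy', hne⟩ := (Set.one_lt_ncard (Set.toFinite _)).mp (show 1 < (O \ (K : Set G)).ncard by omega)
      exact ⟨y, y', hy, hy', hne⟩
    have hfree : ∀ v ∈ O \ (K : Set G), ∀ a ∈ (P : Subgroup G), a * v = v * a → a = 1 := by
      intro v hv a ha hav
      by_contra ha1
      apply hv.2
      refine hRC v (hOR v hv.1).1 (Subgroup.mem_centralizer_iff.mpr fun b hb => ?_)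
      have hao : orderOf a = 7 := ((Nat.dvd_prime (by norm_num : Nat.Prime 7)).mp
        (((P : Subgroup G).orderOf_dvd_natCard ha).trans (dvd_of_eq hP))).resolve_left
        (orderOf_eq_one_iff.not.mpr ha1)
      have hza : Subgroup.zpowers a = P :=
        Subgroup.eq_of_le_of_card_ge (Subgroup.zpowers_le.mpr ha) (by rw [hP, Nat.card_zpowers, hao])
      rw [← hza] at hb
      obtain ⟨i, rfl⟩ := Subgroup.mem_zpowers_iff.mp hb
      exact ((show Commute v a from hav.symm).zpow_right i).eq.symm
    have hbot : (R : Subgroup G) ⊓ (P : Subgroup G) = ⊥ := Subgroup.inf_eq_bot_of_coprime (by rw [hRc, hP]; decide)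
    have hcmem : ∀ v ∈ (R : Subgroup G), ∀ w ∈ (R : Subgroup G), ∀ a ∈ (P : Subgroup G),
        a * v * a⁻¹ = w → v = w := by
      intro v hv w hw a ha e
      have hm : w * v⁻¹ ∈ (R : Subgroup G) ⊓ (P : Subgroup G) := by
        refine ⟨(R : Subgroup G).mul_mem hw ((R : Subgroup G).inv_mem hv), ?_⟩
        rw [← e, show a * v * a⁻¹ * v⁻¹ = a * (v * a⁻¹ * v⁻¹) by group]
        exact (P : Subgroup G).mul_mem ha ((Subgroup.mem_normalizer_iff.mp (hRN hv) a⁻¹).mp ((P : Subgroup G).inv_mem ha))
      rw [hbot, Subgroup.mem_bot, mul_inv_eq_one] at hm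
      exact hm.symm
    have hxfix : ∀ a ∈ (P : Subgroup G), a * x * a⁻¹ = x := fun a ha =>
      mul_inv_eq_iff_eq_mul.mpr (Subgroup.mem_centralizer_iff.mp (hKC hxK) a ha)
    let T : Option (Bool × (P : Subgroup G)) → {g : G // IsConj x g ∧ g ∈ N} := fun t =>
      match t with
      | none => ⟨x, IsConj.refl x, hRN hxR⟩
      | some (i, a) => ⟨(a : G) * (if i then y else y') * (a : G)⁻¹, by
          have hyy : (if i then y else y') ∈ O := by split_ifs; exacts [hy.1, hy'.1]
          refine ⟨(hOR _ hyy).2.trans (isConj_iff.mpr ⟨(a : G), rfl⟩), ?_⟩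
          exact N.mul_mem (N.mul_mem (Subgroup.le_normalizer a.2) (hRN (hOR _ hyy).1))
            (N.inv_mem (Subgroup.le_normalizer a.2))⟩
    have hT : Function.Injective T := by
      have hyy : ∀ i : Bool, (if i then y else y') ∈ O \ (K : Set G) := fun i => by
        split_ifs; exacts [hy, hy']
      have hnx : ∀ (i : Bool) (a : (P : Subgroup G)), (a : G) * (if i then y else y') * (a : G)⁻¹ ≠ x := by
        intro i a e
        have h1 := hcmem _ (hOR _ (hyy i).1).1 x hxR a a.2 e
        exact (hyy i).2 (h1.symm ▸ hxK)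
      rintro (_ | ⟨i, a⟩) (_ | ⟨j, b⟩) e <;> have e' := congrArg Subtype.val e <;> simp only [T] at e'
      · rfl
      · exact absurd e'.symm (hnx j b)
      · exact absurd e' (hnx i a)
      · have hab : ((b : G)⁻¹ * a) * (if i then y else y') * ((b : G)⁻¹ * a)⁻¹ = (if j then y else y') := by
          calc ((b : G)⁻¹ * a) * (if i then y else y') * ((b : G)⁻¹ * a)⁻¹
              = (b : G)⁻¹ * ((a : G) * (if i then y else y') * (a : G)⁻¹) * b := by group
            _ = _ := by rw [e']; group
        have hba : (b : G)⁻¹ * a ∈ (P : Subgroup G) := (P : Subgroup G).mul_mem ((P : Subgroup G).inv_mem b.2) a.2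
        have hij := hcmem _ (hOR _ (hyy i).1).1 _ (hOR _ (hyy j).1).1 _ hba hab
        have hb1 := hfree _ (hyy i) _ hba (mul_inv_eq_iff_eq_mul.mp (hab.trans hij.symm))
        have hab' : a = b := Subtype.ext (inv_mul_eq_one.mp hb1).symm
        have : i = j := by
          cases i <;> cases j <;> simp at hij ⊢
          · exact hyne hij.symm
          · exact hyne hij
        rw [this, hab']
    have h15 := Nat.card_le_card_of_injective T hT
    rw [Finite.card_option, Nat.card_prod, hP, Nat.card_eq_fintype_card (α := Bool), Fintype.card_bool] at h15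
    -- but `y` fixes at most ten cosets
    have hyC : y ∉ C := fun hC => hy.2 (hRC y (hOR y hy.1).1 hC)
    have hfixle := CfsgLib.SmallGroups.CosetFixed.card_fixedBy_le P hP (hRN (hOR y hy.1).1) hyC
    have hburn : ∀ [Fintype (MulAction.orbitRel.Quotient ↥(P : Subgroup G) (G ⧸ N))],
        Fintype.card (MulAction.orbitRel.Quotient ↥(P : Subgroup G) (G ⧸ N)) = 10 := by
      intro _
      have := Fintype.ofFinite (G ⧸ N)
      have := Fintype.ofFinite ↥(P : Subgroup G)
      have hB := MulAction.sum_card_fixedBy_eq_card_orbits_mul_card_group ↥(P : Subgroup G) (G ⧸ N)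
      have hterm : ∀ a : ↥(P : Subgroup G), Fintype.card (MulAction.fixedBy (G ⧸ N) a) = if a = 1 then 64 else 1 := by
        intro a
        rw [← Nat.card_eq_fintype_card]
        split_ifs with ha
        · subst ha
          rw [← hNidx, Subgroup.index]
          exact Nat.card_congr (Equiv.subtypeUnivEquiv fun q => by simp)
        · exact CfsgLib.SmallGroups.CosetFixed.card_fixedBy_eq_one P hP (((Nat.dvd_prime (by norm_num : Nat.Prime 7)).mp
            (((P : Subgroup G).orderOf_dvd_natCard a.2).trans (dvd_of_eq hP))).resolve_left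
            (orderOf_eq_one_iff.not.mpr fun e => ha (Subtype.ext e)))
      rw [Finset.sum_congr rfl fun a _ => hterm a, Finset.sum_ite, Finset.sum_const, Finset.sum_const,
        Finset.filter_eq', if_pos (Finset.mem_univ _), Finset.card_singleton, Finset.filter_ne',
        Finset.card_erase_of_mem (Finset.mem_univ _), Finset.card_univ, ← Nat.card_eq_fintype_card (α := ↥(P : Subgroup G)), hP] at hB
      simp only [smul_eq_mul, ← Nat.card_eq_fintype_card] at hB
      rw [← Nat.card_eq_fintype_card]
      change 64 + _ = Nat.card (MulAction.orbitRel.Quotient ↥(P : Subgroup G) (G ⧸ N)) * 7 at hB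
      omega
    have := Fintype.ofFinite (MulAction.orbitRel.Quotient ↥(P : Subgroup G) (G ⧸ N))
    have hb10 : Nat.card (MulAction.orbitRel.Quotient ↥(P : Subgroup G) (G ⧸ N)) = 10 := by
      rw [Nat.card_eq_fintype_card]; exact hburn
    change Nat.card (MulAction.fixedBy (G ⧸ N) y) ≤ Nat.card (MulAction.orbitRel.Quotient ↥(P : Subgroup G) (G ⧸ N)) at hfixle
    rw [hb10] at hfixle
    have hxy : ∀ g : G, IsConj y g ↔ IsConj x g := fun g =>
      ⟨fun e => (hOR y hy.1).2.trans e, fun e => (hOR y hy.1).2.symm.trans e⟩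
    have hform := CfsgLib.SmallGroups.CosetFixed.card_fixedBy_mul N y
    rw [Nat.card_congr (Equiv.subtypeEquivRight hxy),
      Nat.card_congr (Equiv.subtypeEquivRight fun g => and_congr_left' (hxy g) :
        {g : G // IsConj y g ∧ g ∈ N} ≃ {g : G // IsConj x g ∧ g ∈ N}), hcls, hNidx] at hform
    change Nat.card (MulAction.fixedBy (G ⧸ N) y) ≤ 10 at hfixle
    omega
  · -- two hundred and eighty-eight
    rw [hn] at hmul
    have hek : e * k = 2 := by nlinarith
    have hk1 : k = 1 := by interval_cases e <;> omega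
    have hcyc : IsCyclic ↥(P : Subgroup G) := isCyclic_of_prime_card hP
    have hPC : (P : Subgroup G) ≤ Subgroup.centralizer ((P : Subgroup G) : Set G) := fun a ha =>
      Subgroup.mem_centralizer_iff.mpr fun b hb =>
        congrArg Subtype.val (hcyc.isMulCommutative.is_comm.comm ⟨b, hb⟩ ⟨a, ha⟩)
    have hyp : CfsgLib.SmallGroups.SelfInverse.Hyp P :=
      ⟨hP, (Subgroup.eq_of_le_of_card_ge hPC (by rw [hCc, hk1, hP])).symm, by rw [hNc, mul_left_comm, hek, mul_comm]⟩
    obtain ⟨⟨u, huN⟩, hu⟩ := exists_prime_orderOf_dvd_card' (G := ↥(Subgroup.normalizer ((P : Subgroup G) : Set G))) 2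
      (by rw [hyp.norm]; norm_num)
    rw [← Subgroup.orderOf_coe] at hu
    change orderOf u = 2 at hu
    have huu : u * u = 1 := by rw [← pow_two, ← hu, pow_orderOf_eq_one]
    have huP : u ∉ (P : Subgroup G) := fun hm => by
      have := (P : Subgroup G).orderOf_dvd_natCard hm
      rw [hP, hu] at this; norm_num at this
    obtain ⟨b, c, d, x, s, hd2, hx2, hdd, hxd, hb, hc, heq, hcong, heqn, -⟩ :=
      CfsgLib.SmallGroups.SelfInverse.involution_eq hyp (by norm_num) hperf huu huN huP
    have key : ∀ d ∈ Nat.divisors 4032, ∀ x ∈ Nat.divisors 4032, 2 ≤ d →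
        ((d + 1 = x ∧ d % 7 = 1) → d = 8) ∧ ¬ (x + 1 = d ∧ d % 7 = 6) := by decide +kernel
    have hk := key d (Nat.mem_divisors.mpr ⟨h ▸ hdd, by norm_num⟩) x (Nat.mem_divisors.mpr ⟨h ▸ hxd, by norm_num⟩) hd2
    have hd8 : d = 8 ∧ b = 1 := by rcases hb with rfl | rfl <;> rcases hc with rfl | rfl <;> omega
    obtain ⟨rfl, rfl⟩ := hd8
    rw [h] at heqn
    set Cu := (Nat.card (Subgroup.centralizer ({u} : Set G)) : ℤ)
    have hC2 : Cu * Cu = 8 * ((8 - s) * (8 - s)) := by push_cast at heqn; linarith
    have hpos : Cu ≠ 0 := Nat.cast_ne_zero.mpr (Nat.card_pos (α := Subgroup.centralizer ({u} : Set G))).ne'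
    have hz : (8 - s : ℤ) ≠ 0 := fun e => hpos (by rw [e] at hC2; simpa using hC2)
    have hsq : IsSquare ((8 : ℕ) : ℚ) := ⟨(Cu : ℚ) / ((8 - s : ℤ) : ℚ), by
      have hC2' : (Cu : ℚ) * Cu = 8 * (((8 - s : ℤ) : ℚ) * ((8 - s : ℤ) : ℚ)) := by exact_mod_cast hC2
      field_simp [Int.cast_ne_zero.mpr hz]
      linear_combination (norm := (push_cast; ring_nf)) -hC2'⟩
    rw [Rat.isSquare_natCast_iff] at hsq
    obtain ⟨r, hr⟩ := hsq
    have : r ≤ 2 := by nlinarith
    interval_cases r <;> omega

end Cfsg.Agent.S0976
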