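import Cfsg.Statements.S0223
import Mathlib
import Cfsg.Agent.Lib.Involution.Basic
-- import your own Cfsg.Agent.* helpers here

set_option autoImplicit false
open Cfsg

namespace Cfsg.Agent.S0223

/-- Let H be a proper subgroup of even order of the finite group G. Then H is strongly embedded if and only if (i) C_G(t) ≤ H for every involution t of H and (ii) H controls fusion of its involutions: involutions of H conjugate in G are conjugate in H. -/
theorem result {G : Type*} [Group G] [Finite G] (H : Subgroup G) (hH : H ≠ ⊤) (heven : Even (Nat.card H)) : Cfsg.IsStronglyEmbedded H ↔ ((∀ t ∈ H, orderOf t = 2 → Subgroup.centralizer ({t} : Set G) ≤ H) ∧ (∀ t ∈ H, ∀ s ∈ H, orderOf t = 2 → orderOf s = 2 → IsConj t s → ∃ h ∈ H, h * t * h⁻¹ = s)) := by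
  constructor
  · rintro ⟨-, -, hodd⟩
    have key : ∀ g t : G, t ∈ H → orderOf t = 2 → g * t * g⁻¹ ∈ H → g ∈ H := by
      intro g t ht h2 hgt
      by_contra hg
      have := CfsgLib.Involution.Basic.even_of_involution_mem
        (H ⊓ H.map (MulAut.conj g).toMonoidHom) (t := g * t * g⁻¹) ⟨hgt, t, ht, rfl⟩
        ((CfsgLib.Involution.Dihedral.orderOf_conj g t).trans h2)
      exact Nat.not_even_iff_odd.2 (hodd g hg) this
    refine ⟨fun t ht h2 c hc => key c t ht h2 ?_, fun t ht s hs h2 _ hts => ?_⟩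
    · rwa [Subgroup.mem_centralizer_singleton_iff.1 hc, mul_inv_cancel_right]
    · obtain ⟨g, hg⟩ := isConj_iff.1 hts
      exact ⟨g, key g t ht h2 (hg ▸ hs), hg⟩
  · rintro ⟨hC, hfus⟩
    refine ⟨hH, heven, fun g hg => Nat.not_even_iff_odd.1 fun he => hg ?_⟩
    obtain ⟨s, ⟨hs, t, ht, rfl⟩, hs2⟩ := CfsgLib.Involution.Basic.exists_involution_of_even _ he
    have hs2' : orderOf (g * t * g⁻¹) = 2 := hs2
    have ht2 : orderOf t = 2 := (CfsgLib.Involution.Dihedral.orderOf_conj g t).symm.trans hs2'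
    obtain ⟨h, hh, hht⟩ := hfus t ht (g * t * g⁻¹) hs ht2 hs2' (isConj_iff.2 ⟨g, rfl⟩)
    have : h⁻¹ * g ∈ H := hC t ht ht2 (Subgroup.mem_centralizer_singleton_iff.2 (by
      calc h⁻¹ * g * t = h⁻¹ * (g * t * g⁻¹) * g := by group
        _ = h⁻¹ * (h * t * h⁻¹) * g := by rw [hht]
        _ = t * (h⁻¹ * g) := by group))
    simpa using mul_mem hh this

end Cfsg.Agent.S0223
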