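import Cfsg.Statements.S3206
import Cfsg.Agent.Lib.Classical.Quat.Klein
import Cfsg.Agent.Lib.Classical.SL2Tori
import Cfsg.Agent.Lib.Classical.SLBasic
import Cfsg.Agent.Lib.Fusion.Abelian
import Cfsg.Agent.Lib.Involution.ZStar.Main
-- import your own Cfsg.Agent.* helpers here

set_option autoImplicit false
open Cfsg

namespace Cfsg.Agent.S3206

universe u

open Subgroup CfsgLib
open scoped MatrixGroups commutatorElement

section PSLFacts

variable {F : Type*} [Field F] [Fintype F]

local notation "PSL" => Matrix.ProjectiveSpecialLinearGroup (Fin 2) F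
local notation "π" => QuotientGroup.mk' (Subgroup.center SL(2, F))

theorem quat_two_pow_four : ∀ v : QuaternionGroup 2, v * v * (v * v) = 1 := by decide

/-- An abelian Sylow 2-subgroup of `PSL(2, q)`, `q` odd, is a four-group. -/
theorem psl_sylow_klein (hodd : Odd (Fintype.card F)) (h2 : (2 : F) ≠ 0) (P : Sylow 2 PSL)
    (hP : IsMulCommutative ↥(P : Subgroup PSL)) : IsKleinFour ↥(P : Subgroup PSL) := by
  classical
  haveI : Fact (Nat.Prime 2) := ⟨Nat.prime_two⟩
  have hsurj : Function.Surjective (π : SL(2, F) → PSL) := QuotientGroup.mk'_surjective _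
  have hker : IsPGroup 2 (π : SL(2, F) →* PSL).ker := by
    rw [QuotientGroup.ker_mk']
    exact IsPGroup.of_card (n := 1) (by rw [Classical.Quat.card_center_sl2 h2, pow_one])
  let S : Sylow 2 SL(2, F) := P.comapOfKerIsPGroup π hker
    (by rw [MonoidHom.range_eq_top.2 hsurj]; exact le_top)
  have hS : ∀ x, x ∈ (S : Subgroup SL(2, F)) ↔ π x ∈ (P : Subgroup PSL) := fun x => Iff.rfl
  have hmap : (S : Subgroup SL(2, F)).map π = P := by
    rw [show (S : Subgroup SL(2, F)) = (P : Subgroup PSL).comap π from rfl,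
      map_comap_eq_self_of_surjective hsurj]
  obtain ⟨k, hk1, -, ⟨e⟩⟩ := Classical.sl2_sylow_two hodd S
  haveI : NeZero (2 ^ k) := ⟨pow_ne_zero _ two_ne_zero⟩
  have hsq : ∀ x : (S : Subgroup SL(2, F)), π (x : SL(2, F)) = 1 → x * x = 1 := by
    intro x hx
    rw [← MonoidHom.mem_ker, QuotientGroup.ker_mk'] at hx
    apply Subtype.ext
    rcases Classical.sl2_center_eq hx with h | h
    · simp [h]
    · simp [h]
  -- `k = 1`
  have hk : k = 1 := by
    set x := e.symm (QuaternionGroup.a 1) with hx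
    set y := e.symm (QuaternionGroup.xa 0) with hy
    have hcom : π ((⁅y, x⁆ : (S : Subgroup SL(2, F))) : SL(2, F)) = 1 := by
      rw [commutatorElement_def]
      simp only [Subgroup.coe_mul, InvMemClass.coe_inv, map_mul, map_inv]
      have h := congrArg Subtype.val (hP.is_comm.comm ⟨π (y : SL(2, F)), (hS _).1 y.2⟩
        ⟨π (x : SL(2, F)), (hS _).1 x.2⟩)
      simp only [Subgroup.coe_mul] at h
      rw [h]; group
    have h1 := congrArg e (hsq _ hcom)
    have hinv : (QuaternionGroup.a 1 : QuaternionGroup (2 ^ k))⁻¹ = QuaternionGroup.a (-1) := rfl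
    have hc : e ⁅y, x⁆ = QuaternionGroup.a (-2) := by
      rw [map_commutatorElement, hx, hy, e.apply_symm_apply, e.apply_symm_apply,
        commutatorElement_def]
      have : (QuaternionGroup.xa 0 : QuaternionGroup (2 ^ k)) * QuaternionGroup.a 1 *
          (QuaternionGroup.xa 0)⁻¹ = QuaternionGroup.a (-1) := by
        rw [mul_inv_eq_iff_eq_mul, QuaternionGroup.xa_mul_a, QuaternionGroup.a_mul_xa]
        simp
      rw [this, hinv, QuaternionGroup.a_mul_a]
      norm_num
    rw [map_mul, hc, map_one, QuaternionGroup.a_mul_a, QuaternionGroup.one_def] at h1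
    have h4 : ((4 : ℕ) : ZMod (2 * 2 ^ k)) = 0 := by
      have h0 := QuaternionGroup.a.inj h1
      have h0' : (-2 + -2 : ZMod (2 * 2 ^ k)) = 0 := h0
      push_cast
      linear_combination (-1) * h0'
    rw [ZMod.natCast_eq_zero_iff] at h4
    have := Nat.le_of_dvd (by norm_num) h4
    have hk2 : 2 ^ k ≤ 2 ^ 1 := by rw [pow_one]; omega
    have := (Nat.pow_le_pow_iff_right (by norm_num : 1 < 2)).1 hk2
    omega
  subst hk
  have hcard : Nat.card ↥(S : Subgroup SL(2, F)) = 8 := by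
    rw [Nat.card_congr e.toEquiv, Nat.card_eq_fintype_card, QuaternionGroup.card]; norm_num
  refine ⟨?_, ?_⟩
  · have h := Subgroup.card_eq_card_quotient_mul_card_subgroup
      ((π : SL(2, F) →* PSL).ker.subgroupOf (S : Subgroup SL(2, F)))
    have hle : (π : SL(2, F) →* PSL).ker ≤ (S : Subgroup SL(2, F)) := fun x hx =>
      (hS x).2 (by rw [MonoidHom.mem_ker.1 hx]; exact one_mem _)
    rw [hcard, Nat.card_congr (Subgroup.subgroupOfEquivOfLe hle).toEquiv, QuotientGroup.ker_mk',
      Classical.Quat.card_center_sl2 h2] at h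
    have hq : Nat.card ↥(P : Subgroup PSL) =
        Nat.card (↥(S : Subgroup SL(2, F)) ⧸ ((π : SL(2, F) →* PSL).ker.subgroupOf (S : Subgroup SL(2, F)))) := by
      rw [← hmap, ← MonoidHom.domRestrict_range, ← MonoidHom.ker_domRestrict]
      exact Nat.card_congr (QuotientGroup.quotientKerEquivRange _).toEquiv.symm
    rw [QuotientGroup.ker_mk'] at hq
    omega
  · have hex : ∀ v : ↥(P : Subgroup PSL), v * v = 1 := by
      rintro ⟨v, hv⟩
      rw [← hmap] at hv
      obtain ⟨s, hs, rfl⟩ := hv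
      set s' : (S : Subgroup SL(2, F)) := ⟨s, hs⟩
      have h4 : s' * s' * (s' * s') = 1 := e.injective (by
        rw [map_mul, map_mul, map_one]; exact quat_two_pow_four _)
      apply Subtype.ext
      show π s * π s = 1
      rw [← map_mul, ← MonoidHom.mem_ker, QuotientGroup.ker_mk']
      by_cases h : s * s = 1
      · rw [h]; exact one_mem _
      · rw [Classical.sl2_eq_neg_one h2 h (congrArg Subtype.val h4)]
        exact Classical.sl2_neg_one_central
    haveI : Nontrivial ↥(P : Subgroup PSL) := by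
      rw [Subgroup.nontrivial_iff_ne_bot]
      intro h
      have h1 : (S : Subgroup SL(2, F)) ≤ (π : SL(2, F) →* PSL).ker := fun x hx =>
        MonoidHom.mem_ker.2 (Subgroup.mem_bot.1 (h ▸ (hS x).1 hx))
      have h2' := Subgroup.card_dvd_of_le h1
      rw [hcard, QuotientGroup.ker_mk', Classical.Quat.card_center_sl2 h2] at h2'
      omega
    exact Monoid.exponent_eq_prime_iff (G := ↥(P : Subgroup PSL)) Nat.prime_two |>.2 fun v hv =>
      orderOf_eq_prime (by rw [pow_two, hex v]) hv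

theorem psl_centralizer_klein (h2 : (2 : F) ≠ 0) (V : Subgroup PSL) (hV : IsKleinFour V)
    (a : PSL) (ha : ∀ v ∈ V, a * v = v * a) : a ∈ V := by
  obtain ⟨X, Y, h, rfl⟩ := Classical.Quat.exists_pair_of_klein h2 hV
  exact h.mem_four_of_commute h2 (ha _ (Or.inr (Or.inl rfl))) (ha _ (Or.inr (Or.inr (Or.inl rfl))))

end PSLFacts

section Four

variable {G : Type*} [Group G] [Finite G]

/-- An element of odd order normalising but not centralising a self-centralising four-group. -/
structure Turn (N V : Subgroup G) (g : G) : Prop where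
  mem : g ∈ N
  norm : ∀ v ∈ V, g * v * g⁻¹ ∈ V
  fpf : ∀ v ∈ V, g * v * g⁻¹ = v → v = 1
  surj : ∀ v ∈ V, ∃ w ∈ V, w * (g * w * g⁻¹) = v
  fix : ∀ (w : G), g * w = w * g → (∀ v ∈ V, v * w = w * v) →
    ∀ m ∈ N, (∀ v ∈ V, m * v * m⁻¹ ∈ V) → m * w = w * m

theorem odd_mem_zpowers_sq {g : G} (hg : Odd (orderOf g)) : g ∈ zpowers (g ^ 2) := by
  obtain ⟨j, hj⟩ := hg
  refine ⟨(j + 1 : ℕ), ?_⟩
  show (g ^ 2) ^ ((j + 1 : ℕ) : ℤ) = g
  rw [zpow_natCast, ← pow_mul, show 2 * (j + 1) = orderOf g + 1 by omega, pow_succ,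
    pow_orderOf_eq_one, one_mul]

theorem exists_turn (N V : Subgroup G) (hVN : V ≤ N) (hN : IsSimpleGroup N)
    (hNna : ¬ IsMulCommutative N) (P : Sylow 2 N) (hP : (P : Subgroup N) = V.subgroupOf N)
    (hK : IsKleinFour V) (hC : ∀ x ∈ N, (∀ v ∈ V, x * v = v * x) → x ∈ V) :
    ∃ g, Turn N V g := by
  classical
  haveI : Fact (Nat.Prime 2) := ⟨Nat.prime_two⟩
  haveI := Fintype.ofFinite G
  have hK2 : ∀ v ∈ V, v * v = 1 := fun v hv =>
    congrArg Subtype.val (IsKleinFour.mul_self (⟨v, hv⟩ : V))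
  have hKc : ∀ v ∈ V, ∀ w ∈ V, v * w = w * v := fun v hv w hw => by
    have h := hK2 _ (V.mul_mem hv hw)
    calc v * w = v * (v * w * (v * w)) * w := by rw [h, mul_one]
      _ = (v * v) * w * v * (w * w) := by group
      _ = w * v := by rw [hK2 v hv, hK2 w hw, one_mul, mul_one]
  -- some element of the normaliser does not centralise
  obtain ⟨g₀, hg₀n, hg₀c⟩ : ∃ g₀ ∈ normalizer ((P : Subgroup N) : Set N),
      g₀ ∉ centralizer ((P : Subgroup N) : Set N) := by
    by_contra h
    push Not at h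
    obtain ⟨P', K, hKn, hKc'⟩ := Fusion.Abelian.npc_of_normalizer_le_centralizer P h
    have hne : Nat.card ↥(P' : Subgroup N) = 4 := by
      rw [Sylow.card_eq_multiplicity, ← P.card_eq_multiplicity, hP,
        Nat.card_congr (Subgroup.subgroupOfEquivOfLe hVN).toEquiv, hK.card_four]
    rcases hN.eq_bot_or_eq_top_of_normal K hKn with rfl | rfl
    · apply hNna
      have h1 := hKc'.card_mul
      rw [Subgroup.card_bot, one_mul] at h1
      have htop : (P' : Subgroup N) = ⊤ := Subgroup.eq_top_of_card_eq _ h1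
      have htop' : (P : Subgroup N) = ⊤ := Subgroup.eq_top_of_card_eq _ (by
        rw [← h1, Sylow.card_eq_multiplicity, Sylow.card_eq_multiplicity])
      rw [hP, subgroupOf_eq_top] at htop'
      exact ⟨⟨fun a b => Subtype.ext (hKc _ (htop' a.2) _ (htop' b.2))⟩⟩
    · have h1 := hKc'.card_mul
      rw [Subgroup.card_top, hne] at h1
      have := (Nat.card_pos : 0 < Nat.card N)
      omega
  have hnV : ∀ m : N, m ∈ normalizer ((P : Subgroup N) : Set N) →
      ∀ v ∈ V, (m : G) * v * (m : G)⁻¹ ∈ V := fun m hm v hv => by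
    have h := (mem_normalizer_iff.1 hm ⟨v, hVN hv⟩).1 (by rw [hP]; exact hv)
    rw [hP] at h
    exact h
  have hVn : ∀ m : N, (∀ v ∈ V, (m : G) * v * (m : G)⁻¹ ∈ V) →
      m ∈ normalizer ((P : Subgroup N) : Set N) := fun m hm => by
    have hmap : (V.subgroupOf N).map (MulAut.conj m).toMonoidHom = V.subgroupOf N := by
      refine eq_of_le_of_card_ge (by rintro _ ⟨v, hv, rfl⟩; exact hm _ hv) ?_
      rw [card_map_of_injective (MulAut.conj m).injective]
    rw [hP]
    exact mem_normalizer_iff_map_conj_eq.2 hmap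
  -- two-elements normalising lie in `V`
  have h2V : ∀ m : N, m ∈ normalizer ((P : Subgroup N) : Set N) →
      IsPGroup 2 (zpowers m) → (m : G) ∈ V := fun m hm hm2 => by
    have hsup := P.2.to_sup_of_normal_left' hm2 (zpowers_le.2 hm)
    have hmP : m ∈ (P : Subgroup N) := by
      rw [← P.3 hsup le_sup_left]; exact mem_sup_right (mem_zpowers m)
    rw [hP] at hmP
    exact hmP
  obtain ⟨g, hgn, hgodd, hgc⟩ : ∃ g : N, g ∈ normalizer ((P : Subgroup N) : Set N) ∧
      Odd (orderOf g) ∧ g ∉ centralizer ((P : Subgroup N) : Set N) := by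
    obtain ⟨k, m, hm, hmk⟩ := Nat.exists_eq_pow_mul_and_not_dvd (orderOf_pos g₀).ne' 2 (by norm_num)
    have hodd : Odd (orderOf (g₀ ^ 2 ^ k)) := by
      rw [orderOf_pow_of_dvd (by positivity) (hmk ▸ dvd_mul_right _ _), hmk,
        Nat.mul_div_cancel_left _ (by positivity)]
      exact Nat.odd_iff.2 (Nat.two_dvd_ne_zero.1 hm)
    refine ⟨g₀ ^ 2 ^ k, pow_mem hg₀n _, hodd, fun hc => hg₀c ?_⟩
    have hV' : ((g₀ ^ 2 ^ k : N) : G) ∈ V := hC _ (g₀ ^ 2 ^ k).2 fun v hv =>
      (congrArg Subtype.val (mem_centralizer_iff.1 hc ⟨v, hVN hv⟩ (by rw [hP]; exact hv))).symm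
    have h1 : g₀ ^ 2 ^ k = 1 := by
      have hd : orderOf (g₀ ^ 2 ^ k) ∣ 2 := orderOf_dvd_of_pow_eq_one (Subtype.ext (by
        rw [pow_two]; exact hK2 _ hV'))
      rcases (Nat.dvd_prime Nat.prime_two).1 hd with h | h
      · exact orderOf_eq_one_iff.1 h
      · rw [h] at hodd; exact absurd hodd (by decide)
    have hp : IsPGroup 2 (zpowers g₀) := by
      obtain ⟨j, -, hj⟩ := (Nat.dvd_prime_pow Nat.prime_two).1 (orderOf_dvd_of_pow_eq_one h1)
      exact IsPGroup.of_card (by rw [Nat.card_zpowers, hj])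
    have hmem := h2V g₀ hg₀n hp
    exact mem_centralizer_iff.2 fun y hy => Subtype.ext
      (hKc _ (by rw [hP] at hy; exact hy) _ hmem)
  have hgV := hnV g hgn
  have hgoddG : Odd (orderOf (g : G)) := by rwa [orderOf_coe]
  have hsq : ∀ v : G, (g : G) ^ 2 * v = v * (g : G) ^ 2 → (g : G) * v = v * g := by
    intro v hv
    obtain ⟨i, hi⟩ := odd_mem_zpowers_sq hgoddG
    have hi' : ((g : G) ^ 2) ^ i = g := hi
    have := (show Commute ((g : G) ^ 2) v from hv).zpow_left i
    rw [hi'] at this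
    exact this.eq
  have hnotc : ∃ u ∈ V, (g : G) * u ≠ u * g := by
    by_contra h
    push Not at h
    exact hgc (mem_centralizer_iff.2 fun y hy => Subtype.ext
      (h y (by rw [hP] at hy; exact hy)).symm)
  have hfpf : ∀ v ∈ V, (g : G) * v * (g : G)⁻¹ = v → v = 1 := by
    intro v hv hgv
    by_contra hv1
    obtain ⟨u, hu, hgu⟩ := hnotc
    have hu1 : u ≠ 1 := fun h => hgu (by rw [h, mul_one, one_mul])
    have huv : u ≠ v := fun h => hgu (h ▸ mul_inv_eq_iff_eq_mul.1 hgv)
    have hcover : ∀ w : V, w = 1 ∨ w = ⟨v, hv⟩ ∨ w = ⟨u, hu⟩ ∨ w = ⟨v, hv⟩ * ⟨u, hu⟩ := by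
      intro w
      by_contra hw
      push Not at hw
      obtain ⟨w1, w2, w3, w4⟩ := hw
      haveI := Fintype.ofFinite V
      have hc : ({1, ⟨v, hv⟩, ⟨u, hu⟩, ⟨v, hv⟩ * ⟨u, hu⟩, w} : Finset V).card = 5 := by
        have a1 : (1 : V) ≠ ⟨v, hv⟩ := fun h => hv1 (congrArg Subtype.val h).symm
        have a2 : (1 : V) ≠ ⟨u, hu⟩ := fun h => hu1 (congrArg Subtype.val h).symm
        have a3 : (⟨v, hv⟩ : V) ≠ ⟨u, hu⟩ := fun h => huv (congrArg Subtype.val h).symm
        have a4 : (1 : V) ≠ ⟨v, hv⟩ * ⟨u, hu⟩ := fun h => a3 (by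
          rw [eq_inv_of_mul_eq_one_left h.symm, IsKleinFour.inv_eq_self])
        have a5 : (⟨v, hv⟩ : V) ≠ ⟨v, hv⟩ * ⟨u, hu⟩ := fun h => a2 (mul_eq_left.1 h.symm).symm
        have a6 : (⟨u, hu⟩ : V) ≠ ⟨v, hv⟩ * ⟨u, hu⟩ := fun h => a1 (mul_eq_right.1 h.symm).symm
        rw [Finset.card_insert_of_notMem (by
            simp only [Finset.mem_insert, Finset.mem_singleton, not_or]
            exact ⟨a1, a2, a4, w1.symm⟩),
          Finset.card_insert_of_notMem (by
            simp only [Finset.mem_insert, Finset.mem_singleton, not_or]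
            exact ⟨a3, a5, w2.symm⟩),
          Finset.card_insert_of_notMem (by
            simp only [Finset.mem_insert, Finset.mem_singleton, not_or]
            exact ⟨a6, w3.symm⟩),
          Finset.card_insert_of_notMem (by simp only [Finset.mem_singleton]; exact w4.symm),
          Finset.card_singleton]
      have := Finset.card_le_univ ({1, ⟨v, hv⟩, ⟨u, hu⟩, ⟨v, hv⟩ * ⟨u, hu⟩, w} : Finset V)
      rw [hc, ← Nat.card_eq_fintype_card, hK.card_four] at this
      omega
    have hu' := hgV u hu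
    apply hgu
    apply hsq
    have hgg : (g : G) * ((g : G) * u * (g : G)⁻¹) * (g : G)⁻¹ = u := by
      rcases hcover ⟨_, hu'⟩ with h | h | h | h
      · exact absurd (conj_eq_one_iff.1 (congrArg Subtype.val h)) hu1
      · have : (g : G) * u * (g : G)⁻¹ = g * v * (g : G)⁻¹ := (congrArg Subtype.val h).trans hgv.symm
        exact absurd (mul_left_cancel (mul_right_cancel this)) huv
      · have h' : (g : G) * u * (g : G)⁻¹ = u := congrArg Subtype.val h
        rw [h', h']
      · have h' : (g : G) * u * (g : G)⁻¹ = v * u := congrArg Subtype.val h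
        rw [h']
        calc (g : G) * (v * u) * (g : G)⁻¹ = (g * v * (g : G)⁻¹) * (g * u * (g : G)⁻¹) := by group
          _ = v * v * u := by rw [hgv, h', mul_assoc]
          _ = u := by rw [hK2 v hv, one_mul]
    calc (g : G) ^ 2 * u = (g * ((g : G) * u * (g : G)⁻¹) * (g : G)⁻¹) * (g : G) ^ 2 := by
          rw [pow_two]; group
      _ = u * (g : G) ^ 2 := by rw [hgg]
  have hsurj : ∀ v ∈ V, ∃ w ∈ V, w * ((g : G) * w * (g : G)⁻¹) = v := by
    let f : V → V := fun w => ⟨(w : G) * ((g : G) * w * (g : G)⁻¹), V.mul_mem w.2 (hgV _ w.2)⟩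
    have hf : Function.Injective f := by
      rintro ⟨a, ha⟩ ⟨b, hb⟩ h
      have h' : a * ((g : G) * a * (g : G)⁻¹) = b * (g * b * (g : G)⁻¹) := congrArg Subtype.val h
      have hab : (g : G) * (a * b) * (g : G)⁻¹ = a * b := by
        have ha' := hgV a ha
        have hb' := hgV b hb
        calc (g : G) * (a * b) * (g : G)⁻¹
            = (g * a * (g : G)⁻¹) * (g * b * (g : G)⁻¹) := by group
          _ = (a * a) * ((g * a * (g : G)⁻¹) * (g * b * (g : G)⁻¹)) := by rw [hK2 a ha, one_mul]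
          _ = a * (a * (g * a * (g : G)⁻¹)) * (g * b * (g : G)⁻¹) := by group
          _ = a * b * ((g * b * (g : G)⁻¹) * (g * b * (g : G)⁻¹)) := by rw [h']; group
          _ = a * b := by rw [hK2 _ hb', mul_one]
      have := hfpf _ (V.mul_mem ha hb) hab
      apply Subtype.ext
      show a = b
      rw [eq_inv_of_mul_eq_one_left this, inv_eq_of_mul_eq_one_right (hK2 b hb)]
    intro v hv
    obtain ⟨w, hw⟩ := (Finite.injective_iff_surjective.1 hf) ⟨v, hv⟩
    exact ⟨w, w.2, congrArg Subtype.val hw⟩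
  refine ⟨g, g.2, hgV, hfpf, hsurj, ?_⟩
  intro w hgw hVw m hm hmV
  obtain ⟨v0, hv0, hv01, -⟩ : ∃ v0 ∈ V, v0 ≠ 1 ∧ True := by
    obtain ⟨u, hu, hgu⟩ := hnotc
    exact ⟨u, hu, fun h => hgu (by rw [h, mul_one, one_mul]), trivial⟩
  set v1 := (g : G) * v0 * (g : G)⁻¹ with hv1d
  set v2 := (g : G) * v1 * (g : G)⁻¹ with hv2d
  have hv1 : v1 ∈ V := hgV _ hv0
  have hv2 : v2 ∈ V := hgV _ hv1
  have hv11 : v1 ≠ 1 := fun h => hv01 (conj_eq_one_iff.1 h)
  have hv21 : v2 ≠ 1 := fun h => hv11 (conj_eq_one_iff.1 h)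
  have h01 : v1 ≠ v0 := fun h => hv01 (hfpf _ hv0 h)
  have h12 : v2 ≠ v1 := fun h => hv11 (hfpf _ hv1 h)
  have h02 : v2 ≠ v0 := fun h => by
    refine hv01 (hfpf _ hv0 (mul_inv_eq_iff_eq_mul.2 (hsq v0 ?_)))
    calc (g : G) ^ 2 * v0 = v2 * (g : G) ^ 2 := by rw [hv2d, hv1d, pow_two]; group
      _ = v0 * (g : G) ^ 2 := by rw [h]
  have hmv := hmV v0 hv0
  have hmv1 : m * v0 * m⁻¹ ≠ 1 := fun h => hv01 (conj_eq_one_iff.1 h)
  have hcov : m * v0 * m⁻¹ = v0 ∨ m * v0 * m⁻¹ = v1 ∨ m * v0 * m⁻¹ = v2 := by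
    by_contra hne
    push Not at hne
    obtain ⟨e1, e2, e3⟩ := hne
    haveI := Fintype.ofFinite V
    have hc : ({1, ⟨v0, hv0⟩, ⟨v1, hv1⟩, ⟨v2, hv2⟩, ⟨_, hmv⟩} : Finset V).card = 5 := by
      rw [Finset.card_insert_of_notMem (by simp [Subtype.ext_iff, hv01.symm, hv11.symm, hv21.symm, hmv1.symm]),
        Finset.card_insert_of_notMem (by simp [Subtype.ext_iff, h01.symm, h02.symm, e1.symm]),
        Finset.card_insert_of_notMem (by simp [Subtype.ext_iff, h12.symm, e2.symm]),
        Finset.card_insert_of_notMem (by simp [Subtype.ext_iff, e3.symm]), Finset.card_singleton]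
    have := Finset.card_le_univ ({1, ⟨v0, hv0⟩, ⟨v1, hv1⟩, ⟨v2, hv2⟩, ⟨_, hmv⟩} : Finset V)
    rw [hc, ← Nat.card_eq_fintype_card, hK.card_four] at this
    omega
  -- an element fixing `v0` lies in `V`
  have key : ∀ q : N, (∀ v ∈ V, (q : G) * v * (q : G)⁻¹ ∈ V) →
      (q : G) * v0 * (q : G)⁻¹ = v0 → (q : G) * w = w * q := by
    intro q hq hq0
    have hq1 := hq v1 hv1
    have hq11 : (q : G) * v1 * (q : G)⁻¹ ≠ 1 := fun h => hv11 (conj_eq_one_iff.1 h)
    have hq10 : (q : G) * v1 * (q : G)⁻¹ ≠ v0 := fun h =>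
      h01 (mul_left_cancel (mul_right_cancel (h.trans hq0.symm)))
    have hq21 : (q : G) * v2 * (q : G)⁻¹ ≠ v0 := fun h =>
      h02 (mul_left_cancel (mul_right_cancel (h.trans hq0.symm)))
    have hsq1 : ∀ v ∈ V, (q : G) * ((q : G) * v * (q : G)⁻¹) * (q : G)⁻¹ = v := by
      have hcov' : ∀ x ∈ V, x = 1 ∨ x = v0 ∨ x = v1 ∨ x = v2 := by
        intro x hx
        by_contra hne
        push Not at hne
        obtain ⟨e0, e1, e2, e3⟩ := hne
        haveI := Fintype.ofFinite V
        have hc : ({1, ⟨v0, hv0⟩, ⟨v1, hv1⟩, ⟨v2, hv2⟩, ⟨x, hx⟩} : Finset V).card = 5 := by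
          rw [Finset.card_insert_of_notMem (by simp [Subtype.ext_iff, hv01.symm, hv11.symm, hv21.symm, e0.symm]),
            Finset.card_insert_of_notMem (by simp [Subtype.ext_iff, h01.symm, h02.symm, e1.symm]),
            Finset.card_insert_of_notMem (by simp [Subtype.ext_iff, h12.symm, e2.symm]),
            Finset.card_insert_of_notMem (by simp [Subtype.ext_iff, e3.symm]), Finset.card_singleton]
        have := Finset.card_le_univ ({1, ⟨v0, hv0⟩, ⟨v1, hv1⟩, ⟨v2, hv2⟩, ⟨x, hx⟩} : Finset V)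
        rw [hc, ← Nat.card_eq_fintype_card, hK.card_four] at this
        omega
      have hq21' : (q : G) * v2 * (q : G)⁻¹ ≠ 1 := fun h => hv21 (conj_eq_one_iff.1 h)
      intro v hv
      rcases hcov' v hv with rfl | rfl | rfl | rfl
      · group
      · rw [hq0, hq0]
      · rcases hcov' _ hq1 with h | h | h | h
        · exact absurd h hq11
        · exact absurd h hq10
        · rw [h, h]
        · rw [h]
          rcases hcov' _ (hq v2 hv2) with h' | h' | h' | h'
          · exact absurd h' hq21'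
          · exact absurd h' hq21
          · exact h'
          · exact absurd (mul_left_cancel (mul_right_cancel (h'.trans h.symm))) h12
      · rcases hcov' _ (hq v2 hv2) with h | h | h | h
        · exact absurd h hq21'
        · exact absurd h hq21
        · rw [h]
          rcases hcov' _ hq1 with h' | h' | h' | h'
          · exact absurd h' hq11
          · exact absurd h' hq10
          · exact absurd (mul_left_cancel (mul_right_cancel (h.trans h'.symm))) h12
          · exact h'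
        · rw [h, h]
    have hq2V : ((q ^ 2 : N) : G) ∈ V := hC _ (q ^ 2).2 fun v hv => by
      have h := hsq1 v hv
      calc ((q ^ 2 : N) : G) * v
          = ((q : G) * ((q : G) * v * (q : G)⁻¹) * (q : G)⁻¹) * ((q : G) * q) := by
            rw [pow_two]; push_cast; group
        _ = v * ((q ^ 2 : N) : G) := by rw [h, pow_two]; push_cast; rfl
    have hp : IsPGroup 2 (zpowers q) := by
      have h4 : q ^ (2 ^ 2) = 1 := by
        rw [show (2 : ℕ) ^ 2 = 2 * 2 from rfl, pow_mul, pow_two (q ^ 2)]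
        exact Subtype.ext (hK2 _ hq2V)
      obtain ⟨j, -, hj⟩ := (Nat.dvd_prime_pow Nat.prime_two).1 (orderOf_dvd_of_pow_eq_one h4)
      exact IsPGroup.of_card (by rw [Nat.card_zpowers, hj])
    exact hVw _ (h2V q (hVn q hq) hp)
  have hgcw : Commute (g : G) w := hgw
  have hginv : ∀ v ∈ V, (g : G)⁻¹ * v * (g : G) ∈ V := fun v hv => by
    have h := hnV g⁻¹ (inv_mem hgn) v hv
    simpa using h
  rcases hcov with h | h | h
  · exact key ⟨m, hm⟩ hmV h
  · have h' := key (g⁻¹ * ⟨m, hm⟩) (fun v hv => by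
        have := hginv _ (hmV v hv)
        push_cast
        simpa [mul_assoc] using this) (by
        calc ((g⁻¹ * ⟨m, hm⟩ : N) : G) * v0 * ((g⁻¹ * ⟨m, hm⟩ : N) : G)⁻¹
            = (g : G)⁻¹ * (m * v0 * m⁻¹) * g := by push_cast; group
          _ = v0 := by rw [h, hv1d]; group)
    have h'' := hgcw.mul_left (show Commute ((g⁻¹ * ⟨m, hm⟩ : N) : G) w from h')
    push_cast at h''
    rw [mul_inv_cancel_left] at h''
    exact h''.eq
  · have h' := key (g⁻¹ * (g⁻¹ * ⟨m, hm⟩)) (fun v hv => by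
        have := hginv _ (hginv _ (hmV v hv))
        push_cast
        simpa [mul_assoc] using this) (by
        calc ((g⁻¹ * (g⁻¹ * ⟨m, hm⟩) : N) : G) * v0 * ((g⁻¹ * (g⁻¹ * ⟨m, hm⟩) : N) : G)⁻¹
            = (g : G)⁻¹ * ((g : G)⁻¹ * (m * v0 * m⁻¹) * g) * g := by push_cast; simp [mul_assoc]
          _ = v0 := by rw [h, hv2d, hv1d]; group)
    have h'' := hgcw.mul_left (hgcw.mul_left
      (show Commute ((g⁻¹ * (g⁻¹ * ⟨m, hm⟩) : N) : G) w from h'))
    push_cast at h''
    rw [mul_inv_cancel_left, mul_inv_cancel_left] at h''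
    exact h''.eq

end Four

/-- An involution whose conjugates in a Sylow subgroup are itself centralises a simple normal
subgroup of even order. -/
theorem centralizes_of_isolated {H : Type u} [Group H] [Finite H] (M : Subgroup H) (hM : M.Normal)
    (hMs : IsSimpleGroup M) (hMe : Even (Nat.card M)) (P : Sylow 2 H) {z : H} (hz : orderOf z = 2)
    (hzP : z ∈ P) (hiso : ∀ g : H, g * z * g⁻¹ ∈ P → g * z * g⁻¹ = z) :
    z ∈ centralizer (M : Set H) := by
  obtain ⟨O, hOn, hOodd, hO⟩ := Involution.ZStar.exists_odd_normal_of_sylow P hz hzP hiso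
  have hOM : O.subgroupOf M = ⊥ := by
    haveI := hOn
    rcases hMs.eq_bot_or_eq_top_of_normal (O.subgroupOf M) inferInstance with h | h
    · exact h
    · exfalso
      have hd := card_dvd_of_le (subgroupOf_eq_top.1 h)
      exact Nat.not_even_iff_odd.2 (hOodd.of_dvd_nat hd) hMe
  refine mem_centralizer_iff.2 fun y hy => ?_
  have h1 : z * y * z⁻¹ * y⁻¹ ∈ M := M.mul_mem (hM.conj_mem y hy z) (M.inv_mem hy)
  have h2 : (⟨_, h1⟩ : M) ∈ O.subgroupOf M := hO y
  rw [hOM, mem_bot] at h2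
  exact (mul_inv_eq_iff_eq_mul.1 (mul_inv_eq_one.1 (congrArg Subtype.val h2))).symm

/-- An involution in the powers of a nontrivial 2-element. -/
theorem exists_involution_zpowers {H : Type*} [Group H] [Finite H] {x : H} (hx : x ≠ 1)
    (h2 : IsPGroup 2 (zpowers x)) : ∃ z ∈ zpowers x, orderOf z = 2 := by
  haveI : Fact (Nat.Prime 2) := ⟨Nat.prime_two⟩
  obtain ⟨k, hk⟩ := h2.exists_card_eq
  rw [Nat.card_zpowers] at hk
  rcases k with - | k
  · exact absurd (orderOf_eq_one_iff.1 (by rw [hk, pow_zero])) hx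
  · refine ⟨x ^ 2 ^ k, ⟨(2 ^ k : ℕ), zpow_natCast _ _⟩, ?_⟩
    rw [orderOf_pow_of_dvd (by positivity) (hk ▸ pow_dvd_pow 2 (Nat.le_succ k)), hk, pow_succ,
      Nat.mul_div_cancel_left _ (by positivity)]

variable {G : Type u} [Group G] [Finite G]

/-- A Sylow 2-subgroup `⟨t⟩ × V` with an element turning `V` and fixing `t`. -/
theorem structure_of_hyps [IsSimpleGroup G]
    (hab : ∀ S : Sylow 2 G, IsMulCommutative ↥(S : Subgroup G))
    (t : G) (ht : orderOf t = 2) (E : Subgroup G)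
    (hE : Cfsg.IsInternalDirectProduct (zpowers t) E (centralizer ({t} : Set G)))
    {F : Type*} [Field F] [Fintype F] (hFo : Odd (Fintype.card F)) (hF3 : 3 < Fintype.card F)
    (N : Subgroup ↥E) [N.Normal] (hN : Nonempty (↥N ≃* Matrix.ProjectiveSpecialLinearGroup (Fin 2) F))
    (hNc : centralizer (N : Set ↥E) = ⊥) :
    ∃ (S : Sylow 2 G) (V : Subgroup G) (g : G), t ∈ S ∧ V ≤ S ∧ (∀ s ∈ (S : Subgroup G), s ∈ V ∨ t * s ∈ V) ∧
      Nat.card ↥(S : Subgroup G) = 8 ∧ g * t * g⁻¹ = t ∧ (∀ v ∈ V, g * v * g⁻¹ ∈ V) ∧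
      (∀ v ∈ V, ∃ w ∈ V, w * (g * w * g⁻¹) = v) ∧ (∀ v ∈ V, v * v = 1) := by
  classical
  haveI : Fact (Nat.Prime 2) := ⟨Nat.prime_two⟩
  obtain ⟨hTC, hEC, hcomm, hinf, hsup⟩ := hE
  obtain ⟨e⟩ := hN
  have h2 : (2 : F) ≠ 0 := fun h => by
    obtain ⟨p, hp⟩ := CharP.exists F
    obtain ⟨n, hprime, hn⟩ := FiniteField.card F p
    have : p = 2 := (Nat.prime_dvd_prime_iff_eq hprime Nat.prime_two).1
      ((CharP.cast_eq_zero_iff F p 2).1 (by exact_mod_cast h))
    rw [hn, this] at hFo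
    exact Nat.not_odd_iff_even.2 (Nat.even_pow.2 ⟨even_two, n.ne_zero⟩) hFo
  haveI hpsl : IsSimpleGroup (Matrix.ProjectiveSpecialLinearGroup (Fin 2) F) :=
    Classical.psl_fin_isSimpleGroup le_rfl fun _ => hF3
  set C := centralizer ({t} : Set G) with hC
  have ht2 : t * t = 1 := by rw [← pow_two, ← ht, pow_orderOf_eq_one]
  have hdec : ∀ c ∈ C, c ∈ E ∨ t * c ∈ E := by
    intro c hc
    rw [← hsup, ← SetLike.mem_coe, coe_mul_of_right_le_normalizer_left (zpowers t) E
      (fun x hx => centralizer_le_normalizer _ (mem_centralizer_iff.2 fun a ha => hcomm a ha x hx))]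
      at hc
    obtain ⟨a, ⟨k, rfl⟩, x, hx, rfl⟩ := hc
    rcases Int.even_or_odd k with ⟨i, rfl⟩ | ⟨i, rfl⟩
    · left
      simp only
      rw [← two_mul, zpow_mul, zpow_ofNat, pow_two, ht2, one_zpow, one_mul]
      exact hx
    · right
      simp only
      rw [zpow_add, zpow_mul, zpow_ofNat, pow_two, ht2, one_zpow, one_mul, zpow_one, ← mul_assoc,
        ht2, one_mul]
      exact hx
  -- the Sylow subgroup
  obtain ⟨S, hS⟩ := IsPGroup.exists_le_sylow (p := 2) (P := zpowers t)
    (IsPGroup.of_card (n := 1) (by rw [Nat.card_zpowers, ht, pow_one]))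
  have htS : t ∈ S := hS (mem_zpowers t)
  have hSC : (S : Subgroup G) ≤ C := fun s hs => mem_centralizer_singleton_iff.2
    (congrArg Subtype.val ((hab S).is_comm.comm ⟨s, hs⟩ ⟨t, htS⟩))
  set M : Subgroup G := N.map E.subtype with hM
  have hME : M ≤ E := map_subtype_le N
  have hMC : M ≤ C := hME.trans hEC
  have eM : M ≃* Matrix.ProjectiveSpecialLinearGroup (Fin 2) F :=
    (N.equivMapOfInjective E.subtype E.subtype_injective).symm.trans e
  have hMconj : ∀ c ∈ C, ∀ x ∈ M, c * x * c⁻¹ ∈ M := by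
    have hEconj : ∀ c ∈ E, ∀ x ∈ M, c * x * c⁻¹ ∈ M := by
      rintro c hc _ ⟨x, hx, rfl⟩
      exact ⟨⟨c, hc⟩ * x * ⟨c, hc⟩⁻¹, ‹N.Normal›.conj_mem x hx _, rfl⟩
    intro c hc x hx
    rcases hdec c hc with h | h
    · exact hEconj c h x hx
    · have h1 := hEconj _ h x hx
      have hcm := hcomm t (mem_zpowers t) _ (hME h1)
      have : c * x * c⁻¹ = t⁻¹ * (t * c * x * (t * c)⁻¹) * t := by group
      rw [this, mul_assoc, ← hcm, inv_mul_cancel_left]
      exact h1
  set V : Subgroup G := (S : Subgroup G) ⊓ M with hV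
  -- `V` is a Sylow subgroup of `M`
  obtain ⟨P, hP⟩ : ∃ P : Sylow 2 M, (P : Subgroup M) = V.subgroupOf M := by
    have hVp : IsPGroup 2 (V.subgroupOf M) :=
      (S.2.to_le inf_le_left).comap_of_injective M.subtype M.subtype_injective
    obtain ⟨P, hP⟩ := hVp.exists_le_sylow
    refine ⟨P, (eq_of_le_of_card_ge hP ?_).symm⟩
    have hPC : IsPGroup 2 (((P : Subgroup M).map M.subtype).subgroupOf C) :=
      (P.2.map _).comap_of_injective C.subtype C.subtype_injective
    obtain ⟨Q, hQ⟩ := hPC.exists_le_sylow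
    obtain ⟨c, hc⟩ := MulAction.exists_smul_eq C Q (S.subtype hSC)
    have hinj : ∀ x : (P : Subgroup M),
        (c : G) * ((x : M) : G) * (c : G)⁻¹ ∈ V := by
      intro x
      refine ⟨?_, hMconj _ c.2 _ (x : M).2⟩
      have hxQ : (⟨((x : M) : G), hMC (x : M).2⟩ : C) ∈ (Q : Subgroup C) :=
        hQ ⟨(x : M), x.2, rfl⟩
      have : c * ⟨((x : M) : G), hMC (x : M).2⟩ * c⁻¹ ∈ ((S.subtype hSC : Sylow 2 C) : Subgroup C) := by
        rw [← hc]
        exact ⟨_, hxQ, rfl⟩
      exact this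
    rw [Nat.card_congr (Subgroup.subgroupOfEquivOfLe (inf_le_right : V ≤ M)).toEquiv]
    exact Nat.card_le_card_of_injective (fun x => (⟨_, hinj x⟩ : V)) fun a b h =>
      Subtype.ext (Subtype.ext (mul_left_cancel (mul_right_cancel (congrArg Subtype.val h))))
  let P' : Sylow 2 (Matrix.ProjectiveSpecialLinearGroup (Fin 2) F) :=
    P.mapSurjective (f := eM.toMonoidHom) eM.surjective
  have hP' : (P' : Subgroup _) = (P : Subgroup M).map eM.toMonoidHom := rfl
  haveI hPc : IsMulCommutative ↥(P : Subgroup M) := ⟨⟨fun a b => by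
    have ha : ((a : M) : G) ∈ S := ((hP ▸ a.2 : (a : M) ∈ V.subgroupOf M) : ((a : M) : G) ∈ V).1
    have hb : ((b : M) : G) ∈ S := ((hP ▸ b.2 : (b : M) ∈ V.subgroupOf M) : ((b : M) : G) ∈ V).1
    exact Subtype.ext (Subtype.ext (congrArg Subtype.val ((hab S).is_comm.comm ⟨_, ha⟩ ⟨_, hb⟩) :))⟩⟩
  have hK' : IsKleinFour ↥(P' : Subgroup (Matrix.ProjectiveSpecialLinearGroup (Fin 2) F)) := by
    refine psl_sylow_klein hFo h2 P' ⟨⟨?_⟩⟩
    rintro ⟨_, a, ha, rfl⟩ ⟨_, b, hb, rfl⟩
    exact Subtype.ext (show eM a * eM b = eM b * eM a by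
      rw [← map_mul, ← map_mul]
      exact congrArg eM (congrArg Subtype.val (hPc.is_comm.comm ⟨a, ha⟩ ⟨b, hb⟩)))
  have hK : IsKleinFour V := by
    have e' : V ≃* ↥(P' : Subgroup (Matrix.ProjectiveSpecialLinearGroup (Fin 2) F)) :=
      ((Subgroup.subgroupOfEquivOfLe (inf_le_right : V ≤ M)).symm.trans
        (MulEquiv.subgroupCongr hP.symm)).trans
        (((P : Subgroup M).equivMapOfInjective eM.toMonoidHom eM.injective).trans
          (MulEquiv.subgroupCongr hP'.symm))
    exact ⟨(Nat.card_congr e'.toEquiv).trans hK'.card_four,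
      (Monoid.exponent_eq_of_mulEquiv e').trans hK'.exponent_two⟩
  have hCM : ∀ x ∈ M, (∀ v ∈ V, x * v = v * x) → x ∈ V := by
    intro x hx hxv
    have h1 : eM ⟨x, hx⟩ ∈ (P' : Subgroup _) := psl_centralizer_klein h2 _ hK' _ (by
      rintro _ ⟨v, hv, rfl⟩
      show eM ⟨x, hx⟩ * eM v = eM v * eM ⟨x, hx⟩
      rw [← map_mul, ← map_mul]
      exact congrArg eM (Subtype.ext (hxv v (by rw [hP] at hv; exact hv))))
    obtain ⟨y, hy, hyx⟩ := h1
    rw [eM.injective hyx, hP] at hy
    exact hy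
  have hMs : IsSimpleGroup M := by
    haveI : Nontrivial M := eM.toEquiv.nontrivial
    exact IsSimpleGroup.isSimpleGroup_of_surjective eM.symm.toMonoidHom eM.symm.surjective
  have hMna : ¬ IsMulCommutative M := by
    intro h
    haveI := hMs
    letI : CommGroup M := { (inferInstance : Group M) with mul_comm := fun a b => h.is_comm.comm a b }
    have hp := (IsSimpleGroup.prime_card (α := M))
    have h4 : 4 ∣ Nat.card M := by rw [← hK.card_four]; exact card_dvd_of_le inf_le_right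
    rcases (Nat.dvd_prime hp).1 h4 with h' | h'
    · norm_num at h'
    · rw [← h'] at hp; exact absurd hp (by norm_num)
  obtain ⟨g, hg⟩ := exists_turn M V inf_le_right hMs hMna P hP hK hCM
  have hgt : g * t * g⁻¹ = t := by
    rw [← hcomm t (mem_zpowers t) g (hME hg.mem), mul_inv_cancel_right]
  have hK2 : ∀ v ∈ V, v * v = 1 := fun v hv =>
    congrArg Subtype.val (IsKleinFour.mul_self (⟨v, hv⟩ : V))
  -- `S ∩ E = V`
  have hSE : ∀ w ∈ (S : Subgroup G), w ∈ E → w ∈ V := by
    intro w hwS hwE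
    have hwV : ∀ v ∈ V, v * w = w * v := fun v hv =>
      congrArg Subtype.val ((hab S).is_comm.comm ⟨v, hv.1⟩ ⟨w, hwS⟩)
    have hcm : g * w * g⁻¹ * w⁻¹ ∈ V := by
      refine hCM _ ?_ fun v hv => ?_
      · rw [show g * w * g⁻¹ * w⁻¹ = g * (w * g⁻¹ * w⁻¹) by group]
        exact M.mul_mem hg.mem (hMconj w (hEC hwE) _ (M.inv_mem hg.mem))
      · have hgv : g⁻¹ * v * g ∈ V := by
          obtain ⟨u, hu⟩ := (Finite.injective_iff_surjective.1
            (show Function.Injective (fun u : V => (⟨g * u * g⁻¹, hg.norm u u.2⟩ : V)) from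
              fun a b h => Subtype.ext (mul_left_cancel (mul_right_cancel (congrArg Subtype.val h))))) ⟨v, hv⟩
          have hu' : g * (u : G) * g⁻¹ = v := congrArg Subtype.val hu
          rw [← hu']; simp [mul_assoc]
        have c1 : Commute (g * w * g⁻¹) v := by
          have h := congrArg (fun z => g * z * g⁻¹) (hwV _ hgv)
          show g * w * g⁻¹ * v = v * (g * w * g⁻¹)
          calc g * w * g⁻¹ * v = g * (w * (g⁻¹ * v * g)) * g⁻¹ := by group
            _ = g * ((g⁻¹ * v * g) * w) * g⁻¹ := by rw [hwV _ hgv]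
            _ = _ := by group
        exact (c1.mul_left ((show Commute v w from hwV v hv).symm.inv_left)).eq
    obtain ⟨v', hv', hv'e⟩ := hg.surj _ hcm
    set w0 := w * v' with hw0
    have hv'S : v' ∈ (S : Subgroup G) := hv'.1
    have hgw0 : g * w0 = w0 * g := by
      have hgv' := hg.norm v' hv'
      rw [← mul_inv_eq_iff_eq_mul, hw0]
      calc g * (w * v') * g⁻¹ = (g * w * g⁻¹ * w⁻¹) * w * (g * v' * g⁻¹) := by group
        _ = v' * (g * v' * g⁻¹) * w * (g * v' * g⁻¹) := by rw [hv'e]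
        _ = v' * w * ((g * v' * g⁻¹) * (g * v' * g⁻¹)) := by
            rw [mul_assoc v' (g * v' * g⁻¹) w, hwV _ hgv']; group
        _ = w * v' := by rw [hK2 _ hgv', mul_one, hwV v' hv']
    by_contra hw
    have hw01 : w0 ≠ 1 := fun h => hw (by rw [eq_inv_of_mul_eq_one_left h]; exact inv_mem hv')
    have hw0S : w0 ∈ (S : Subgroup G) := mul_mem hwS hv'S
    have hw0E : w0 ∈ E := mul_mem hwE (hME hv'.2)
    have hw0p : IsPGroup 2 (zpowers w0) := S.2.to_le (zpowers_le.2 hw0S)
    obtain ⟨w1, hw1, hw1o⟩ := exists_involution_zpowers hw01 hw0p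
    have hw1S : w1 ∈ (S : Subgroup G) := zpowers_le.2 hw0S hw1
    have hw1E : w1 ∈ E := zpowers_le.2 hw0E hw1
    have hgw1 : g * w1 = w1 * g := by
      obtain ⟨i, rfl⟩ := hw1
      exact ((show Commute g w0 from hgw0).zpow_right i).eq
    have hVw1 : ∀ v ∈ V, v * w1 = w1 * v := fun v hv =>
      congrArg Subtype.val ((hab S).is_comm.comm ⟨v, hv.1⟩ ⟨w1, hw1S⟩)
    let Y : Subgroup G := M ⊔ zpowers w1
    have hnw : zpowers w1 ≤ normalizer (M : Set G) := zpowers_le.2 (mem_normalizer_iff.2 fun x =>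
      ⟨hMconj w1 (hSC hw1S) x, fun h => by
        have := hMconj w1⁻¹ (inv_mem (hSC hw1S)) _ h
        simpa [mul_assoc] using this⟩)
    have hMY : M ≤ Y := le_sup_left
    have hYn : (M.subgroupOf Y).Normal :=
      (normal_subgroupOf_iff_le_normalizer hMY).2 (sup_le le_normalizer hnw)
    obtain ⟨Q, hQ⟩ := IsPGroup.exists_le_sylow (p := 2) (P := ((V ⊔ zpowers w1).subgroupOf Y))
      ((S.2.to_le (sup_le inf_le_left (zpowers_le.2 hw1S))).comap_of_injective Y.subtype Y.subtype_injective)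
    have hw1Y : w1 ∈ Y := mem_sup_right (mem_zpowers _)
    have hVQ : ∀ v (hv : v ∈ V), (⟨v, hMY hv.2⟩ : Y) ∈ (Q : Subgroup Y) := fun v hv =>
      hQ (mem_sup_left hv : v ∈ V ⊔ zpowers w1)
    have hw1Q : (⟨w1, hw1Y⟩ : Y) ∈ (Q : Subgroup Y) :=
      hQ (mem_sup_right (mem_zpowers _) : w1 ∈ V ⊔ zpowers w1)
    have hQab : IsMulCommutative ↥(Q : Subgroup Y) := by
      obtain ⟨T, hT⟩ := Sylow.exists_comap_subtype_eq Q
      refine ⟨⟨fun a b => Subtype.ext (Subtype.ext ?_)⟩⟩
      have ha : ((a : Y) : G) ∈ T := (SetLike.ext_iff.1 hT (a : Y)).2 a.2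
      have hb : ((b : Y) : G) ∈ T := (SetLike.ext_iff.1 hT (b : Y)).2 b.2
      exact (congrArg Subtype.val ((hab T).is_comm.comm ⟨_, ha⟩ ⟨_, hb⟩) :)
    have hQc : ∀ y ∈ (Q : Subgroup Y), (⟨w1, hw1Y⟩ : Y) * y = y * ⟨w1, hw1Y⟩ := fun y hy =>
      congrArg Subtype.val (hQab.is_comm.comm ⟨_, hw1Q⟩ ⟨y, hy⟩)
    -- elements of `Q` in `M` lie in `V`
    have hQM : ∀ y ∈ (Q : Subgroup Y), (y : G) ∈ M → (y : G) ∈ V := fun y hy hyM =>
      hCM _ hyM fun v hv => congrArg (fun z : Y => (z : G))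
        (congrArg Subtype.val (hQab.is_comm.comm ⟨y, hy⟩ ⟨_, hVQ v hv⟩))
    have hcent := centralizes_of_isolated (M.subgroupOf Y) hYn
      (by
        haveI : Nontrivial (M.subgroupOf Y) := (Subgroup.subgroupOfEquivOfLe hMY).toEquiv.nontrivial
        exact IsSimpleGroup.isSimpleGroup_of_surjective (Subgroup.subgroupOfEquivOfLe hMY).symm.toMonoidHom
          (Subgroup.subgroupOfEquivOfLe hMY).symm.surjective)
      (by
        rw [Nat.card_congr (Subgroup.subgroupOfEquivOfLe hMY).toEquiv, even_iff_two_dvd]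
        exact (show (2 : ℕ) ∣ 4 by norm_num).trans (hK.card_four ▸ card_dvd_of_le inf_le_right))
      Q (z := ⟨w1, hw1Y⟩) (by rw [← orderOf_coe]; exact hw1o) hw1Q (by
        intro y hy
        obtain ⟨n, hn, hne⟩ := Fusion.Transfer.burnside_central Q (x := ⟨w1, hw1Y⟩)
          (y := y * ⟨w1, hw1Y⟩ * y⁻¹) (mem_centralizer_iff.2 fun a ha => (hQc a ha).symm)
          (mem_centralizer_iff.2 fun a ha =>
            congrArg Subtype.val (hQab.is_comm.comm ⟨a, ha⟩ ⟨_, hy⟩)) ⟨y, rfl⟩
        rw [← hne]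
        have hnmem : (n : G) ∈ M ⊔ zpowers w1 := n.2
        rw [← SetLike.mem_coe, coe_mul_of_right_le_normalizer_left M (zpowers w1) hnw] at hnmem
        obtain ⟨m, hm, wi, ⟨i, rfl⟩, hmw⟩ := hnmem
        simp only at hmw
        have hwiQ : (⟨w1, hw1Y⟩ : Y) ^ i ∈ (Q : Subgroup Y) := zpow_mem hw1Q i
        have hmn : (⟨m, hMY hm⟩ : Y) ∈ normalizer ((Q : Subgroup Y) : Set Y) := by
          have : (⟨m, hMY hm⟩ : Y) = n * (⟨w1, hw1Y⟩ ^ i)⁻¹ := by
            apply Subtype.ext; push_cast; rw [← hmw]; group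
          rw [this]
          exact mul_mem hn (inv_mem (le_normalizer hwiQ))
        have hmV : ∀ v ∈ V, m * v * m⁻¹ ∈ V := fun v hv =>
          hQM _ ((mem_normalizer_iff.1 hmn _).1 (hVQ v hv))
            (M.mul_mem (M.mul_mem hm hv.2) (M.inv_mem hm))
        have hmw1 := hg.fix w1 hgw1 hVw1 m hm hmV
        apply Subtype.ext
        push_cast
        rw [← hmw]
        calc m * w1 ^ i * w1 * (m * w1 ^ i)⁻¹
            = m * (w1 ^ i * w1 * (w1 ^ i)⁻¹) * m⁻¹ := by group
          _ = m * w1 * m⁻¹ := by group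
          _ = w1 := by rw [hmw1, mul_inv_cancel_right])
    have h3 : (⟨w1, hw1E⟩ : E) ∈ centralizer (N : Set E) := mem_centralizer_iff.2 fun x hx =>
      Subtype.ext (congrArg (fun z : Y => (z : G))
        (mem_centralizer_iff.1 hcent ⟨(x : G), hMY ⟨x, hx, rfl⟩⟩ ⟨x, hx, rfl⟩))
    rw [hNc, mem_bot] at h3
    have h4 : w1 = 1 := congrArg Subtype.val h3
    rw [h4, orderOf_one] at hw1o
    omega
  have htE : t ∉ E := fun h => by
    have : t ∈ zpowers t ⊓ E := ⟨mem_zpowers t, h⟩
    rw [hinf, mem_bot] at this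
    rw [this, orderOf_one] at ht; omega
  have hdS : ∀ s ∈ (S : Subgroup G), s ∈ V ∨ t * s ∈ V := fun s hs => by
    rcases hdec s (hSC hs) with h | h
    · exact Or.inl (hSE s hs h)
    · exact Or.inr (hSE _ (mul_mem htS hs) h)
  refine ⟨S, V, g, htS, inf_le_left, hdS, ?_, hgt, hg.norm, hg.surj, hK2⟩
  have hidx : (V.subgroupOf (S : Subgroup G)).index = 2 := by
    rw [index_eq_two_iff']
    refine ⟨⟨t, htS⟩, fun s => ?_⟩
    rcases hdS s s.2 with h | h
    · refine Or.inr ⟨h, fun h' => htE (hME ?_)⟩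
      have := V.mul_mem (show ((⟨t, htS⟩ * s : (S : Subgroup G)) : G) ∈ V from h') (V.inv_mem h)
      simp at this
      exact this.2
    · refine Or.inl ⟨h, fun h' => htE (hME ?_)⟩
      have := V.mul_mem h (V.inv_mem h')
      simp at this
      exact this.2
  have h := (V.subgroupOf (S : Subgroup G)).card_mul_index
  rw [hidx, Nat.card_congr (Subgroup.subgroupOfEquivOfLe (inf_le_left : V ≤ _)).toEquiv, hK.card_four]
    at h
  omega

theorem center_eq_bot' [IsSimpleGroup G] (hG : ¬ IsMulCommutative G) : center G = ⊥ :=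
  (IsSimpleGroup.eq_bot_or_eq_top_of_normal (center G) inferInstance).resolve_right fun h =>
    hG ⟨⟨fun a b => mem_center_iff.1 (h ▸ mem_top b) a⟩⟩

/-- The first part. -/
theorem multiplier_part [IsSimpleGroup G] (hG : ¬ IsMulCommutative G)
    (hab : ∀ S : Sylow 2 G, IsMulCommutative ↥(S : Subgroup G)) {t : G} (ht : orderOf t = 2)
    (S : Sylow 2 G) (V : Subgroup G) (g : G) (htS : t ∈ S) (hVS : V ≤ S)
    (hdS : ∀ s ∈ (S : Subgroup G), s ∈ V ∨ t * s ∈ V) (hcard : Nat.card ↥(S : Subgroup G) = 8)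
    (hgt : g * t * g⁻¹ = t) (hgV : ∀ v ∈ V, g * v * g⁻¹ ∈ V)
    (hsurj : ∀ v ∈ V, ∃ w ∈ V, w * (g * w * g⁻¹) = v) (hV2 : ∀ v ∈ V, v * v = 1)
    {L : Type*} [Group L] [Finite L] (Z : Subgroup L) [Z.Normal] (hL : commutator L = ⊤)
    (hZ : Z ≤ center L) (hZ2 : IsPGroup 2 Z) (e : L ⧸ Z ≃* G) : Z = ⊥ := by
  classical
  haveI : Fact (Nat.Prime 2) := ⟨Nat.prime_two⟩
  set p : L →* G := e.toMonoidHom.comp (QuotientGroup.mk' Z) with hp
  have hps : Function.Surjective p := e.surjective.comp (QuotientGroup.mk'_surjective Z)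
  have hker : p.ker = Z := by
    ext x
    simp [hp, MonoidHom.mem_ker, QuotientGroup.eq_one_iff]
  have hkp : IsPGroup 2 p.ker := by rw [hker]; exact hZ2
  let SL : Sylow 2 L := S.comapOfKerIsPGroup p hkp (by rw [MonoidHom.range_eq_top.2 hps]; exact le_top)
  have hSLm : ∀ x, x ∈ (SL : Subgroup L) ↔ p x ∈ (S : Subgroup G) := fun x => Iff.rfl
  have hcent : ∀ a b : L, Commute (p a) (p b) → ⁅a, b⁆ ∈ center L := fun a b h => hZ (by
    rw [← hker, MonoidHom.mem_ker, map_commutatorElement, commutatorElement_eq_one_iff_mul_comm]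
    exact h.eq)
  have hScomm : ∀ a b : L, a ∈ (SL : Subgroup L) → b ∈ (SL : Subgroup L) → Commute (p a) (p b) :=
    fun a b ha hb => congrArg Subtype.val ((hab S).is_comm.comm ⟨_, (hSLm a).1 ha⟩ ⟨_, (hSLm b).1 hb⟩)
  have hbil : ∀ a b c : L, ⁅a, c⁆ ∈ center L → ⁅a, b * c⁆ = ⁅a, b⁆ * ⁅a, c⁆ := fun a b c h => by
    calc ⁅a, b * c⁆ = ⁅a, b⁆ * (b * ⁅a, c⁆ * b⁻¹) := by simp only [commutatorElement_def]; group
      _ = _ := by rw [mem_center_iff.1 h b, mul_inv_cancel_right]
  have hzc : ∀ a z : L, z ∈ center L → ⁅a, z⁆ = 1 := fun a z hz =>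
    commutatorElement_eq_one_iff_mul_comm.2 (mem_center_iff.1 hz a)
  have hkc : ∀ z, p z = 1 → z ∈ center L := fun z hz => hZ (hker ▸ MonoidHom.mem_ker.2 hz)
  obtain ⟨a, ha⟩ := hps t
  obtain ⟨ĝ, hĝ⟩ := hps g
  have haS : a ∈ (SL : Subgroup L) := (hSLm a).2 (by rw [ha]; exact htS)
  -- a lift of `t` commutes with the lifts of `V`
  have haV : ∀ b : L, p b ∈ V → ⁅a, b⁆ = 1 := by
    intro b hb
    obtain ⟨w, hw, hwe⟩ := hsurj _ hb
    obtain ⟨c, hc⟩ := hps w
    set c' := ĝ * c * ĝ⁻¹ with hc'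
    have hpc' : p c' = g * w * g⁻¹ := by rw [hc', map_mul, map_mul, map_inv, hĝ, hc]
    have hcS : c ∈ (SL : Subgroup L) := (hSLm c).2 (by rw [hc]; exact hVS hw)
    have hc'S : c' ∈ (SL : Subgroup L) := (hSLm c').2 (by rw [hpc']; exact hVS (hgV w hw))
    have h1 : ⁅a, c'⁆ = ⁅a, c⁆ := by
      have hz0 := hcent _ _ (hScomm a c haS hcS)
      have hconj : ĝ * ⁅a, c⁆ * ĝ⁻¹ = ⁅a, c⁆ := by
        rw [mem_center_iff.1 hz0 ĝ, mul_inv_cancel_right]
      have hd : ĝ * a * ĝ⁻¹ * a⁻¹ ∈ center L := hkc _ (by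
        simp only [map_mul, map_inv, hĝ, ha]; rw [hgt, mul_inv_cancel])
      set d := ĝ * a * ĝ⁻¹ * a⁻¹
      rw [← hconj, show ĝ * ⁅a, c⁆ * ĝ⁻¹ = ⁅d * a, c'⁆ by
        simp only [hc', d, commutatorElement_def]; group]
      calc ⁅a, c'⁆ = d * ⁅a, c'⁆ * d⁻¹ * ⁅d, c'⁆ := by
            rw [commutatorElement_eq_one_iff_mul_comm.2 ((mem_center_iff.1 hd c').symm), mul_one,
              ← mem_center_iff.1 hd, mul_inv_cancel_right]
        _ = ⁅d * a, c'⁆ := by simp only [commutatorElement_def]; group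
    have h2 : ⁅a, c⁆ * ⁅a, c⁆ = 1 := by
      rw [← hbil a c c (hcent _ _ (hScomm a c haS hcS))]
      exact hzc _ _ (hkc _ (by rw [map_mul, hc, hV2 w hw]))
    have hd : (c * c')⁻¹ * b ∈ center L := hkc _ (by
      rw [map_mul, map_inv, map_mul, hc, hpc', hwe, inv_mul_cancel])
    calc ⁅a, b⁆ = ⁅a, c * c' * ((c * c')⁻¹ * b)⁆ := by group
      _ = ⁅a, c * c'⁆ * ⁅a, (c * c')⁻¹ * b⁆ := hbil _ _ _ (by rw [hzc _ _ hd]; exact one_mem _)
      _ = 1 := by
          rw [hzc _ _ hd, mul_one, hbil _ _ _ (hcent _ _ (hScomm a c' haS hc'S)), h1, h2]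
  have hacen : ∀ b ∈ (SL : Subgroup L), a * b = b * a := by
    intro b hb
    rcases hdS _ ((hSLm b).1 hb) with h | h
    · exact commutatorElement_eq_one_iff_mul_comm.1 (haV b h)
    · have h' := commutatorElement_eq_one_iff_mul_comm.1 (haV (a * b) (by rw [map_mul, ha]; exact h))
      rw [mul_assoc a b a] at h'
      exact mul_left_cancel h'
  -- another central element
  obtain ⟨n, hn, hnt⟩ : ∃ n ∈ normalizer ((S : Subgroup G) : Set G), n * t * n⁻¹ ≠ t := by
    by_contra h
    push Not at h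
    have hiso : ∀ x : G, x * t * x⁻¹ ∈ S → x * t * x⁻¹ = t := by
      intro x hx
      have hc : ∀ z ∈ (S : Subgroup G), z ∈ centralizer ((S : Subgroup G) : Set G) := fun z hz =>
        mem_centralizer_iff.2 fun y hy => congrArg Subtype.val ((hab S).is_comm.comm ⟨y, hy⟩ ⟨z, hz⟩)
      obtain ⟨m, hm, hme⟩ := Fusion.Transfer.burnside_central S (hc t htS) (hc _ hx) ⟨x, rfl⟩
      rw [← hme, h m hm]
    obtain ⟨O, hOn, hOodd, hO⟩ := Involution.ZStar.exists_odd_normal_of_sylow S ht htS hiso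
    rcases IsSimpleGroup.eq_bot_or_eq_top_of_normal O hOn with rfl | rfl
    · have : t ∈ center G := mem_center_iff.2 fun y =>
        (mul_inv_eq_iff_eq_mul.1 (mul_inv_eq_one.1 (mem_bot.1 (hO y)))).symm
      rw [center_eq_bot' hG, mem_bot] at this
      rw [this, orderOf_one] at ht; omega
    · rw [Subgroup.card_top] at hOodd
      exact Nat.not_even_iff_odd.2 hOodd (even_iff_two_dvd.2 (ht ▸ orderOf_dvd_natCard t))
  set u := n * t * n⁻¹ with hu
  obtain ⟨nh, hnh⟩ := hps n
  set a' := nh * a * nh⁻¹ with ha'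
  have hpa' : p a' = u := by rw [ha', map_mul, map_mul, map_inv, hnh, ha]
  have ha'S : a' ∈ (SL : Subgroup L) := (hSLm a').2 (by
    rw [hpa']; exact (mem_normalizer_iff.1 hn t).1 htS)
  have ha'cen : ∀ b ∈ (SL : Subgroup L), a' * b = b * a' := by
    intro b hb
    have hb' : nh⁻¹ * b * nh ∈ (SL : Subgroup L) := (hSLm _).2 (by
      rw [map_mul, map_mul, map_inv, hnh]
      simpa using (mem_normalizer_iff.1 (inv_mem hn) (p b)).1 ((hSLm b).1 hb))
    calc a' * b = nh * (a * (nh⁻¹ * b * nh)) * nh⁻¹ := by rw [ha']; group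
      _ = nh * ((nh⁻¹ * b * nh) * a) * nh⁻¹ := by rw [hacen _ hb']
      _ = b * a' := by rw [ha']; group
  -- the Sylow subgroup of the extension is abelian
  have hSLab : IsMulCommutative ↥(SL : Subgroup L) := by
    set K := center ↥(SL : Subgroup L) with hK
    haveI := Fintype.ofFinite ↥(S : Subgroup G)
    let q : ↥(SL : Subgroup L) →* ↥(S : Subgroup G) :=
      (p.comp (SL : Subgroup L).subtype).codRestrict _ fun x => (hSLm x).1 x.2
    have hq : Function.Surjective q := fun s => by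
      obtain ⟨x, hx⟩ := hps s
      exact ⟨⟨x, (hSLm x).2 (by rw [hx]; exact s.2)⟩, Subtype.ext hx⟩
    set I := K.map q with hI
    have ht1 : t ≠ 1 := fun h => by rw [h, orderOf_one] at ht; omega
    have h4 : 4 ≤ Nat.card I := by
      have hta : (⟨t, htS⟩ : ↥(S : Subgroup G)) ∈ I :=
        ⟨⟨a, haS⟩, mem_center_iff.2 fun b => Subtype.ext (hacen b b.2).symm, Subtype.ext ha⟩
      have hua : (⟨u, (mem_normalizer_iff.1 hn t).1 htS⟩ : ↥(S : Subgroup G)) ∈ I :=
        ⟨⟨a', ha'S⟩, mem_center_iff.2 fun b => Subtype.ext (ha'cen b b.2).symm, Subtype.ext hpa'⟩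
      have hu1 : u ≠ 1 := fun h => ht1 (conj_eq_one_iff.1 h)
      by_contra hlt
      have hd : Nat.card I ∣ 2 ^ 3 := by rw [show (2:ℕ) ^ 3 = 8 from rfl, ← hcard]; exact I.card_subgroup_dvd_card
      obtain ⟨j, hj, hj'⟩ := (Nat.dvd_prime_pow Nat.prime_two).1 hd
      have h2 : Nat.card I ≤ 2 := by
        rw [hj'] at hlt ⊢
        rcases j with - | - | j
        · norm_num
        · norm_num
        · exact absurd (by
            calc 4 = 2 ^ 2 := rfl
              _ ≤ 2 ^ (j + 1 + 1) := Nat.pow_le_pow_right two_pos (by omega)) hlt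
      have : ({1, ⟨t, htS⟩, ⟨u, (mem_normalizer_iff.1 hn t).1 htS⟩} : Finset ↥(S : Subgroup G)).card = 3 := by
        rw [Finset.card_eq_three]
        exact ⟨_, _, _, fun h => ht1 (congrArg Subtype.val h).symm,
          fun h => hu1 (congrArg Subtype.val h).symm, fun h => hnt (congrArg Subtype.val h).symm, rfl⟩
      have hle := Finset.card_le_card (show ({1, ⟨t, htS⟩, ⟨u, (mem_normalizer_iff.1 hn t).1 htS⟩} :
          Finset ↥(S : Subgroup G)) ⊆ Finset.univ.filter (· ∈ I) from fun x hx => by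
        simp only [Finset.mem_insert, Finset.mem_singleton] at hx
        simp only [Finset.mem_filter, Finset.mem_univ, true_and]
        rcases hx with rfl | rfl | rfl
        · exact one_mem _
        · exact hta
        · exact hua)
      rw [this, ← Fintype.card_subtype, ← Nat.card_eq_fintype_card] at hle
      exact absurd (hle.trans h2) (by norm_num)
    haveI : I.Normal := by
      haveI := hab S
      infer_instance
    have hcyc : IsCyclic (↥(S : Subgroup G) ⧸ I) := by
      have h := I.card_eq_card_quotient_mul_card_subgroup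
      rw [hcard] at h
      have hle : Nat.card (↥(S : Subgroup G) ⧸ I) ≤ 2 := by
        have := Nat.mul_le_mul_left (Nat.card (↥(S : Subgroup G) ⧸ I)) h4
        omega
      rcases Nat.lt_or_eq_of_le hle with h' | h'
      · haveI : Subsingleton (↥(S : Subgroup G) ⧸ I) := by
          rw [← Finite.card_le_one_iff_subsingleton]; omega
        exact isCyclic_of_subsingleton
      · exact isCyclic_of_prime_card h'
    refine ⟨⟨fun x y => commutative_of_cyclic_center_quotient ((QuotientGroup.mk' I).comp q) ?_ x y⟩⟩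
    intro x hx
    rw [MonoidHom.mem_ker, MonoidHom.comp_apply, QuotientGroup.mk'_apply, QuotientGroup.eq_one_iff] at hx
    obtain ⟨y, hy, hyx⟩ := hx
    have hz : p ((y⁻¹ * x : ↥(SL : Subgroup L)) : L) = 1 := by
      have := congrArg Subtype.val hyx
      change p y = p x at this
      push_cast
      rw [map_mul, map_inv, this, inv_mul_cancel]
    have hz' : y⁻¹ * x ∈ center ↥(SL : Subgroup L) :=
      mem_center_iff.2 fun b => Subtype.ext (mem_center_iff.1 (hkc _ hz) b)
    rw [show x = y * (y⁻¹ * x) by group]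
    exact mul_mem hy hz'
  have hbot := Fusion.Abelian.inf_commutator_inf_center (SL : Subgroup L) hSLab SL.card_coprime_index
  rw [eq_bot_iff]
  intro z hz
  rw [← hbot]
  refine ⟨⟨(hSLm z).2 ?_, hL ▸ mem_top z⟩, hZ hz⟩
  rw [show p z = 1 from MonoidHom.mem_ker.1 (hker ▸ hz)]
  exact one_mem _

/-- The second part: a 2-automorphism fixing an abelian Sylow subgroup pointwise is inner. -/
theorem automorphism_part [IsSimpleGroup G] (hG : ¬ IsMulCommutative G)
    (hab : ∀ S : Sylow 2 G, IsMulCommutative ↥(S : Subgroup G)) (hev : Even (Nat.card G))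
    (φ : G ≃* G) (k : ℕ) (hφ : φ ^ (2 ^ k) = 1) (S : Sylow 2 G)
    (hS : ∀ s ∈ (S : Subgroup G), φ s = s) : ∃ g : G, ∀ x : G, φ x = g * x * g⁻¹ := by
  classical
  haveI : Fact (Nat.Prime 2) := ⟨Nat.prime_two⟩
  let c : G →* MulAut G := MulAut.conj
  have hcinj : Function.Injective c := by
    rw [← MonoidHom.ker_eq_bot_iff, eq_bot_iff]
    intro x hx
    rw [← center_eq_bot' hG, mem_center_iff]
    intro y
    have h := DFunLike.congr_fun (MonoidHom.mem_ker.1 hx) y
    change x * y * x⁻¹ = y at h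
    exact (mul_inv_eq_iff_eq_mul.1 h).symm
  set M := c.range with hM
  haveI : Finite (MulAut G) := Finite.of_injective (fun f => (f : G → G)) DFunLike.coe_injective
  have hMn : ∀ f : MulAut G, ∀ x : G, f * c x * f⁻¹ = c (f x) := fun f x => by
    ext y
    simp [c, MulAut.mul_apply, MulAut.conj_apply]
  let H : Subgroup (MulAut G) := M ⊔ zpowers φ
  have hMH : M ≤ H := le_sup_left
  have hφM : zpowers φ ≤ normalizer (M : Set (MulAut G)) := by
    refine le_trans le_top (le_of_eq ?_)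
    rw [eq_comm, normalizer_eq_top_iff]
    exact ⟨by rintro _ ⟨x, rfl⟩ f; exact ⟨f x, (hMn f x).symm⟩⟩
  have hMHn : (M.subgroupOf H).Normal :=
    (normal_subgroupOf_iff_le_normalizer hMH).2 (sup_le le_normalizer hφM)
  have hMsimp : IsSimpleGroup (M.subgroupOf H) := by
    let e : G ≃* (M.subgroupOf H) :=
      (MonoidHom.ofInjective hcinj).trans (Subgroup.subgroupOfEquivOfLe hMH).symm
    haveI : Nontrivial (M.subgroupOf H) := e.toEquiv.symm.nontrivial
    exact IsSimpleGroup.isSimpleGroup_of_surjective e.toMonoidHom e.surjective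
  have hMeven : Even (Nat.card (M.subgroupOf H)) := by
    rw [Nat.card_congr (Subgroup.subgroupOfEquivOfLe hMH).toEquiv,
      Nat.card_congr (MonoidHom.ofInjective hcinj).toEquiv.symm]
    exact hev
  have hφH : φ ∈ H := mem_sup_right (mem_zpowers φ)
  set φH : H := ⟨φ, hφH⟩ with hφHd
  let cH : G →* H := c.codRestrict H fun x => hMH ⟨x, rfl⟩
  have hcom : ∀ s ∈ (S : Subgroup G), φH * cH s = cH s * φH := fun s hs => by
    apply Subtype.ext
    show φ * c s = c s * φ
    rw [← mul_inv_eq_iff_eq_mul, hMn, hS s hs]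
  -- the abelian Sylow subgroup `S⟨φ⟩`
  set A : Subgroup H := (S : Subgroup G).map cH ⊔ zpowers φH with hA
  have hAc : IsMulCommutative A := by
    rw [hA, ← Subgroup.closure_eq ((S : Subgroup G).map cH), zpowers_eq_closure, ← Subgroup.closure_union]
    refine Subgroup.isMulCommutative_closure ?_
    rintro x (hx | hx) y (hy | hy)
    · obtain ⟨x, hx, rfl⟩ := hx
      obtain ⟨y, hy, rfl⟩ := hy
      rw [← map_mul, ← map_mul]
      exact congrArg cH (congrArg Subtype.val ((hab S).is_comm.comm ⟨x, hx⟩ ⟨y, hy⟩))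
    · obtain ⟨x, hx, rfl⟩ := hx
      rw [Set.mem_singleton_iff.1 hy]
      exact (hcom x hx).symm
    · obtain ⟨y, hy, rfl⟩ := hy
      rw [Set.mem_singleton_iff.1 hx]
      exact hcom y hy
    · rw [Set.mem_singleton_iff.1 hx, Set.mem_singleton_iff.1 hy]
  have hφ2 : IsPGroup 2 (zpowers φH) := by
    have h1 : φH ^ (2 ^ k) = 1 := Subtype.ext hφ
    obtain ⟨j, -, hj⟩ := (Nat.dvd_prime_pow Nat.prime_two).1 (orderOf_dvd_of_pow_eq_one h1)
    exact IsPGroup.of_card (by rw [Nat.card_zpowers, hj])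
  have hA2 : IsPGroup 2 A := (S.2.map cH).to_sup_of_normal_left' hφ2 (zpowers_le.2 (by
    have h : ∀ x ∈ (S : Subgroup G).map cH, φH * x * φH⁻¹ = x := by
      rintro _ ⟨x, hx, rfl⟩
      rw [hcom x hx, mul_inv_cancel_right]
    refine mem_normalizer_iff_map_conj_eq.2 (eq_of_le_of_card_ge ?_ (le_of_eq ?_))
    · rintro _ ⟨x, hx, rfl⟩
      show φH * x * φH⁻¹ ∈ _
      rw [h x hx]; exact hx
    · exact (card_map_of_injective (K := (S : Subgroup G).map cH)
        (f := (MulAut.conj φH).toMonoidHom) (MulAut.conj φH).injective).symm))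
  obtain ⟨Q, hQ⟩ : ∃ Q : Sylow 2 H, (Q : Subgroup H) = A := by
    refine ⟨hA2.toSylow ?_, rfl⟩
    intro hd
    -- every element is in `c(G)⟨φ⟩`, so the index divides that of `S` in `G`
    apply S.not_dvd_index
    have hcard : A.index ∣ (S : Subgroup G).index := by
      have hsurj : ∀ h : H, ∃ x : G, ∃ a ∈ A, h = cH x * a := by
        intro h
        have hh : (h : MulAut G) ∈ M ⊔ zpowers φ := h.2
        rw [← SetLike.mem_coe, coe_mul_of_right_le_normalizer_left M (zpowers φ) hφM] at hh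
        obtain ⟨_, ⟨x, rfl⟩, _, ⟨i, rfl⟩, hxe⟩ := hh
        exact ⟨x, φH ^ i, mem_sup_right ⟨i, rfl⟩, Subtype.ext (by push_cast; exact hxe.symm)⟩
      have h1 : A.index = A.relIndex cH.range := by
        let f : cH.range ⧸ A.subgroupOf cH.range → H ⧸ A := Quotient.map' Subtype.val fun a b h => by
          rw [QuotientGroup.leftRel_apply] at h ⊢
          exact h
        refine (Nat.card_congr (Equiv.ofBijective f ⟨?_, ?_⟩)).symm
        · intro a b
          induction a using QuotientGroup.induction_on with | H a =>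
          induction b using QuotientGroup.induction_on with | H b =>
          intro h
          exact QuotientGroup.eq.2 (QuotientGroup.eq.1 h :)
        · intro q
          induction q using QuotientGroup.induction_on with | H h =>
          obtain ⟨x, a, ha, rfl⟩ := hsurj h
          refine ⟨QuotientGroup.mk ⟨cH x, ⟨x, rfl⟩⟩, QuotientGroup.eq.2 ?_⟩
          simpa using ha
      rw [h1]
      refine dvd_trans ((Subgroup.relIndex_dvd_of_le_left _ (le_sup_left : (S : Subgroup G).map cH ≤ A))) ?_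
      rw [MonoidHom.range_eq_map, relIndex_map_map_of_injective _ _ fun a b h =>
        hcinj (congrArg Subtype.val h), relIndex_top_right]
    exact hd.trans hcard
  set Nm := normalizer (A : Set H) with hNm
  haveI hAn : (A.subgroupOf Nm).Normal := inferInstance
  have hHall : Nat.Coprime (Nat.card (A.subgroupOf Nm)) (A.subgroupOf Nm).index := by
    rw [Nat.card_congr (Subgroup.subgroupOfEquivOfLe (le_normalizer)).toEquiv]
    refine Nat.Coprime.coprime_dvd_right ?_ (hQ ▸ Q.card_coprime_index)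
    exact relIndex_dvd_index_of_le le_normalizer
  have hAcN : IsMulCommutative (A.subgroupOf Nm) := ⟨⟨fun a b => Subtype.ext (Subtype.ext
    (congrArg Subtype.val (hAc.is_comm.comm ⟨_, a.2⟩ ⟨_, b.2⟩) :))⟩⟩
  obtain ⟨-, -, hdec⟩ := Fusion.Abelian.normal_hall_decomp (A.subgroupOf Nm) hAcN hHall
  have hφA : φH ∈ A := mem_sup_right (mem_zpowers _)
  have hmem : (⟨φH, le_normalizer hφA⟩ : Nm) ∈
      (_root_.commutator Nm ⊓ A.subgroupOf Nm) ⊔ (center Nm ⊓ A.subgroupOf Nm) := by
    rw [hdec]; exact hφA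
  obtain ⟨s, hs, f, hf, hsf⟩ := mem_sup_of_normal_left.1 hmem
  -- commutators lie in `c(G)`
  have hab' : ∀ a b : H, ⁅a, b⁆ ∈ M.subgroupOf H := by
    intro a b
    rw [← QuotientGroup.eq_one_iff, ← QuotientGroup.mk'_apply, map_commutatorElement,
      commutatorElement_eq_one_iff_mul_comm]
    have hgen : ∀ z : H, ∃ i : ℤ, QuotientGroup.mk' (M.subgroupOf H) z =
        (QuotientGroup.mk' (M.subgroupOf H) φH) ^ i := by
      intro z
      have hh : (z : MulAut G) ∈ M ⊔ zpowers φ := z.2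
      rw [← SetLike.mem_coe, coe_mul_of_right_le_normalizer_left M (zpowers φ) hφM] at hh
      obtain ⟨m, hm, _, ⟨i, rfl⟩, hxe⟩ := hh
      refine ⟨i, ?_⟩
      rw [show z = ⟨m, hMH hm⟩ * φH ^ i from Subtype.ext (by push_cast; exact hxe.symm), map_mul,
        map_zpow, show QuotientGroup.mk' (M.subgroupOf H) ⟨m, hMH hm⟩ = 1 from
          (QuotientGroup.eq_one_iff _).2 hm, one_mul]
    obtain ⟨i, hi⟩ := hgen a
    obtain ⟨j, hj⟩ := hgen b
    rw [hi, hj]
    rw [← zpow_add, ← zpow_add, add_comm]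
  have hsM : ((s : H) : MulAut G) ∈ M := by
    have hle : _root_.commutator Nm ≤ (M.subgroupOf H).comap Nm.subtype := by
      rw [_root_.commutator_def, Subgroup.commutator_le]
      intro a _ b _
      rw [mem_comap, map_commutatorElement]
      exact hab' _ _
    exact hle hs.1
  -- the fixed part is trivial
  have hf1 : (f : H) = 1 := by
    by_contra hne
    have hfA : (f : H) ∈ A := hf.2
    obtain ⟨z, hz, hzo⟩ := exists_involution_zpowers hne (hA2.to_le (zpowers_le.2 hfA))
    have hzA : z ∈ A := zpowers_le.2 hfA hz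
    have hzc : ∀ m ∈ Nm, m * z * m⁻¹ = z := by
      intro m hm
      obtain ⟨i, rfl⟩ := hz
      have h : Commute (m : H) (f : H) := congrArg Subtype.val (mem_center_iff.1 hf.1 ⟨m, hm⟩)
      rw [(h.zpow_right i).eq, mul_inv_cancel_right]
    have hcent : ∀ y ∈ A, y ∈ centralizer ((Q : Subgroup H) : Set H) := fun y hy =>
      mem_centralizer_iff.2 fun w hw => congrArg Subtype.val (hAc.is_comm.comm ⟨w, hQ ▸ hw⟩ ⟨y, hy⟩)
    have hfix := centralizes_of_isolated (M.subgroupOf H) hMHn hMsimp hMeven Q hzo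
      (show z ∈ (Q : Subgroup H) by rw [hQ]; exact hzA) (fun g hg => by
        obtain ⟨m, hm, hme⟩ := Fusion.Transfer.burnside_central Q (hcent z hzA)
          (hcent _ (hQ ▸ hg)) ⟨g, rfl⟩
        rw [← hme]
        exact hzc m (by rw [hNm, ← hQ]; exact hm))
    have hz1 : z = 1 := by
      apply Subtype.ext
      show (z : MulAut G) = 1
      ext x
      have h1 : (cH x : H) ∈ M.subgroupOf H := ⟨x, rfl⟩
      have h2 := congrArg Subtype.val (mem_centralizer_iff.1 hfix _ h1)
      change c x * (z : MulAut G) = (z : MulAut G) * c x at h2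
      have h3 : c ((z : MulAut G) x) = c x := by
        rw [← hMn, ← h2, mul_inv_cancel_right]
      exact hcinj h3
    rw [hz1, orderOf_one] at hzo
    omega
  obtain ⟨g, hg⟩ := hsM
  refine ⟨g, fun x => ?_⟩
  have h := congrArg (fun z : Nm => ((z : H) : MulAut G)) hsf
  simp only [Subgroup.coe_mul, hf1] at h
  have h' : ((s : H) : MulAut G) = φ := by simpa [hφHd] using h
  rw [← h', ← hg]
  rfl

/-- Let G be a non-abelian finite simple group with abelian Sylow 2-subgroups, and let t be an involution of G whose centralizer is a maximal subgroup of G and is the direct product of the subgroup generated by t with a subgroup E having a normal subgroup isomorphic to PSL(2, q), q odd and greater than 3, with trivial centralizer in E. Then every finite perfect group having a central 2-subgroup with quotient isomorphic to G has that central subgroup trivial (G has no nontrivial perfect central extension by a 2-group), and every automorphism of G of 2-power order that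 fixes every element of some Sylow 2-subgroup of G is inner. -/
theorem result {G : Type*} [Group G] [Finite G] [IsSimpleGroup G]
    (hG : ¬ IsMulCommutative G) (hab : ∀ S : Sylow 2 G, IsMulCommutative ↥(S : Subgroup G))
    (t : G) (ht : orderOf t = 2) (hmax : IsCoatom (Subgroup.centralizer ({t} : Set G)))
    (E : Subgroup G) (hE : Cfsg.IsInternalDirectProduct (Subgroup.zpowers t) E (Subgroup.centralizer ({t} : Set G)))
    {F : Type*} [Field F] [Fintype F] (hFo : Odd (Fintype.card F)) (hF3 : 3 < Fintype.card F)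
    (N : Subgroup ↥E) [N.Normal] (hN : Nonempty (↥N ≃* Matrix.ProjectiveSpecialLinearGroup (Fin 2) F))
    (hNc : Subgroup.centralizer (N : Set ↥E) = ⊥) :
    (∀ (L : Type) (_ : Group L) (_ : Finite L) (Z : Subgroup L) (_ : Z.Normal), commutator L = ⊤ → Z ≤ Subgroup.center L →
        IsPGroup 2 ↥Z → Nonempty (L ⧸ Z ≃* G) → Z = ⊥) ∧
    (∀ (φ : G ≃* G) (k : ℕ), φ ^ (2 ^ k) = 1 → (∃ S : Sylow 2 G, ∀ s ∈ (S : Subgroup G), φ s = s) →
        ∃ g : G, ∀ x : G, φ x = g * x * g⁻¹) := by
  obtain ⟨S, V, g, htS, hVS, hdS, hcard, hgt, hgV, hsurj, hV2⟩ :=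
    structure_of_hyps hab t ht E hE hFo hF3 N hN hNc
  refine ⟨fun L _ _ Z _ hL hZ hZ2 ⟨e⟩ =>
    multiplier_part hG hab ht S V g htS hVS hdS hcard hgt hgV hsurj hV2 Z hL hZ hZ2 e, ?_⟩
  rintro φ k hφ ⟨T, hT⟩
  exact automorphism_part hG hab (even_iff_two_dvd.2 (ht ▸ _root_.orderOf_dvd_natCard t)) φ k hφ T hT

end Cfsg.Agent.S3206
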