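import Cfsg.Statements.S3992
import Cfsg.Agent.Lib.Solvable.Basic
import Cfsg.Agent.Lib.Solvable.Cores
import Cfsg.Agent.Lib.FrobRealize.FixedPointFree
import Cfsg.Agent.Lib.KnownA.AbelianSylow
import Cfsg.Agent.Lib.Frobenius.ThreePrimes
import Mathlib.GroupTheory.Sylow
import Mathlib.GroupTheory.SpecificGroups.Cyclic

set_option autoImplicit false
open Cfsg

namespace Cfsg.Agent.S3992

/-- Commuting elements of distinct prime orders do not exist. -/
theorem no_pair {W : Type*} [Group W] (hpp : ∀ g : W, g ≠ 1 → IsPrimePow (orderOf g)) {x y : W}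
    (hc : Commute x y) {p q : ℕ} (hp : p.Prime) (hq : q.Prime) (hpq : p ≠ q)
    (hx : orderOf x = p) (hy : orderOf y = q) : False := by
  have ho : orderOf (x * y) = p * q := by
    rw [hc.orderOf_mul_eq_mul_orderOf_of_coprime (by rw [hx, hy]; exact (Nat.coprime_primes hp hq).mpr hpq),
      hx, hy]
  have h1 : x * y ≠ 1 := fun h => by
    rw [h, orderOf_one] at ho
    exact absurd ho (Nat.ne_of_lt (Nat.one_lt_mul_iff.mpr ⟨hp.pos, hq.pos, Or.inl hp.one_lt⟩))
  obtain ⟨r, k, hr, -, hk⟩ := (isPrimePow_nat_iff _).mp (ho ▸ hpp _ h1)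
  have h2 : p = r := (Nat.prime_dvd_prime_iff_eq hp hr).mp
    (hp.dvd_of_dvd_pow (hk ▸ dvd_mul_right p q : p ∣ r ^ k))
  have h3 : q = r := (Nat.prime_dvd_prime_iff_eq hq hr).mp
    (hq.dvd_of_dvd_pow (hk ▸ dvd_mul_left q p : q ∣ r ^ k))
  exact hpq (h2.trans h3.symm)

theorem not_disjoint_commute {W : Type*} [Group W] [Finite W]
    (hpp : ∀ g : W, g ≠ 1 → IsPrimePow (orderOf g)) (A B : Subgroup W) (hA : A ≠ ⊥)
    (hB : ∀ p : ℕ, p.Prime → ¬ IsPGroup p B) (hc : ∀ a ∈ A, ∀ b ∈ B, Commute a b) : False := by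
  obtain ⟨p, hp, hpd⟩ := Nat.exists_prime_and_dvd (fun h => hA (Subgroup.card_eq_one.mp h))
  haveI := Fact.mk hp
  obtain ⟨a, ha⟩ := exists_prime_orderOf_dvd_card' p hpd
  obtain ⟨q, hq, hqd, hqp⟩ : ∃ q, q.Prime ∧ q ∣ Nat.card B ∧ q ≠ p := by
    by_contra h
    refine hB p hp (IsPGroup.of_card (n := (Nat.card B).primeFactorsList.length) ?_)
    refine Nat.eq_prime_pow_of_unique_prime_dvd Nat.card_pos.ne' fun {d} hd hdd => ?_
    by_contra hne
    exact h ⟨d, hd, hdd, hne⟩
  haveI := Fact.mk hq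
  obtain ⟨b, hb⟩ := exists_prime_orderOf_dvd_card' q hqd
  exact no_pair hpp (hc a a.2 b b.2) hp hq (Ne.symm hqp) ((Subgroup.orderOf_coe a).trans ha)
    ((Subgroup.orderOf_coe b).trans hb)

theorem solvable_comap {W : Type*} [Group W] (K : Subgroup W) [K.Normal] [Group.IsSolvable K]
    (L : Subgroup (W ⧸ K)) [Group.IsSolvable L] :
    Group.IsSolvable (L.comap (QuotientGroup.mk' K)) := by
  refine Group.isSolvable_of_ker_le_range
    (Subgroup.inclusion (QuotientGroup.le_comap_mk' K L)) ((QuotientGroup.mk' K).subgroupComap L) ?_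
  intro x hx
  have hxK : (x : W) ∈ K := (QuotientGroup.eq_one_iff _).mp (congrArg Subtype.val (MonoidHom.mem_ker.mp hx))
  exact ⟨⟨x, hxK⟩, Subtype.ext rfl⟩

theorem quotient_pp {W : Type*} [Group W] [Finite W] (K : Subgroup W) [K.Normal]
    (hpp : ∀ g : W, g ≠ 1 → IsPrimePow (orderOf g)) :
    ∀ g : W ⧸ K, g ≠ 1 → IsPrimePow (orderOf g) := by
  intro g hg
  obtain ⟨x, rfl⟩ := QuotientGroup.mk'_surjective K g
  exact (hpp x fun h => hg (by rw [h, map_one])).dvd (orderOf_map_dvd _ x)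
    (fun h => hg (orderOf_eq_one_iff.mp h))

/-- The solvable radical is a `p`-group. -/
theorem radical_pgroup {G : Type*} [Group G] [Finite G] (hns : ¬ Group.IsSolvable G)
    (hpp : ∀ g : G, g ≠ 1 → IsPrimePow (orderOf g))
    (R : Subgroup G) [R.Normal] (hRs : Group.IsSolvable ↥R) : ∃ p : ℕ, p.Prime ∧ IsPGroup p ↥R := by
  classical
  rcases eq_or_ne R ⊥ with rfl | hR
  · exact ⟨2, Nat.prime_two, IsPGroup.of_bot⟩
  haveI := hRs
  obtain ⟨N₀, hN₀n, hN₀, hN₀R, hmin⟩ := CfsgLib.Solvable.Basic.exists_minimal_normal_le hR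
  haveI : Group.IsSolvable N₀ := Group.isSolvable_of_isSolvable_injective (Subgroup.inclusion_injective hN₀R)
  obtain ⟨-, p, hp, -, hpN⟩ := CfsgLib.Solvable.Basic.minimal_normal_solvable N₀ hN₀ hmin
  haveI := Fact.mk hp
  refine ⟨p, hp, ?_⟩
  set K := Cfsg.pCore p G with hK
  have hK0 : K ≠ ⊥ := fun h => hN₀ (le_bot_iff.mp (h ▸ CfsgLib.Solvable.Cores.le_pCore hpN))
  have hKp : IsPGroup p K := CfsgLib.Solvable.Cores.isPGroup_pCore p
  suffices hRK : R ≤ K from hKp.to_le hRK
  by_contra hRK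
  set Rb := R.map (QuotientGroup.mk' K) with hRb
  haveI : Rb.Normal := Subgroup.Normal.map inferInstance _ (QuotientGroup.mk'_surjective K)
  have hRb0 : Rb ≠ ⊥ := by
    rw [hRb, Ne, Subgroup.map_eq_bot_iff, QuotientGroup.ker_mk']
    exact hRK
  haveI : Group.IsSolvable Rb :=
    Group.isSolvable_of_surjective ((QuotientGroup.mk' K).subgroupMap_surjective R)
  obtain ⟨L, hLn, hL0, hLR, hLmin⟩ := CfsgLib.Solvable.Basic.exists_minimal_normal_le hRb0
  haveI : Group.IsSolvable L := Group.isSolvable_of_isSolvable_injective (Subgroup.inclusion_injective hLR)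
  obtain ⟨hLc, q, hq, hLexp, hqL⟩ := CfsgLib.Solvable.Basic.minimal_normal_solvable L hL0 hLmin
  haveI := Fact.mk hq
  have hqp : q ≠ p := by
    rintro rfl
    obtain ⟨a, ha⟩ := IsPGroup.iff_card.mp hqL
    obtain ⟨b, hb⟩ := IsPGroup.iff_card.mp hKp
    have hM : IsPGroup q (L.comap (QuotientGroup.mk' K) : Subgroup G) := IsPGroup.of_card (n := a + b) (by
      rw [CfsgLib.Solvable.Basic.card_comap_mk, ha, hb, pow_add])
    haveI : (L.comap (QuotientGroup.mk' K)).Normal := hLn.comap _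
    have hle := CfsgLib.Solvable.Cores.le_pCore hM
    refine hL0 (le_bot_iff.mp fun y hy => ?_)
    obtain ⟨x, rfl⟩ := QuotientGroup.mk'_surjective K y
    exact Subgroup.mem_bot.mpr ((QuotientGroup.eq_one_iff x).mpr (hle hy))
  obtain ⟨Q, hQ, hQL⟩ := CfsgLib.KnownA.AbelianSylow.exists_pgroup_map_eq
    (QuotientGroup.mk'_surjective K) hqL
  have hQK : ∀ x ∈ Q, x ∈ K → x = 1 := by
    intro x hx hxK
    have hd : K ⊓ Q = ⊥ := disjoint_iff.mp (hKp.disjoint_of_ne p q (Ne.symm hqp) _ _ hQ)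
    have : x ∈ K ⊓ Q := ⟨hxK, hx⟩
    rwa [hd, Subgroup.mem_bot] at this
  have hQc : IsMulCommutative Q := by
    rw [CfsgLib.Solvable.Basic.isMulCommutative_subgroup_iff]
    intro a ha b hb
    refine mul_inv_eq_one.mp (hQK _ (mul_mem (mul_mem ha hb) (inv_mem (mul_mem hb ha))) ?_)
    have h1 := CfsgLib.Solvable.Basic.isMulCommutative_subgroup_iff.mp hLc _
      (hQL ▸ Subgroup.mem_map_of_mem _ ha) _ (hQL ▸ Subgroup.mem_map_of_mem _ hb)
    rw [← map_mul, ← map_mul] at h1
    refine (QuotientGroup.eq_one_iff _).mp ?_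
    show QuotientGroup.mk' K (a * b * (b * a)⁻¹) = 1
    rw [map_mul, h1, map_inv, mul_inv_cancel]
  have hfpf : ∀ a ∈ Q, a ≠ 1 → K ⊓ Subgroup.centralizer {a} = ⊥ := by
    intro a ha ha1
    by_contra h0
    obtain ⟨k, hk⟩ := hQ ⟨a, ha⟩
    have hqa : q ∣ Nat.card (Subgroup.zpowers a) := by
      rw [Nat.card_zpowers]
      obtain ⟨j, -, hj⟩ := (Nat.dvd_prime_pow hq).mp (orderOf_dvd_of_pow_eq_one
        (by simpa using congrArg Subtype.val hk : a ^ q ^ k = 1))
      rw [hj]
      refine dvd_pow_self q fun hj0 => ha1 ?_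
      rw [hj0, pow_zero] at hj
      exact orderOf_eq_one_iff.mp hj
    obtain ⟨c, hc⟩ := exists_prime_orderOf_dvd_card' q hqa
    have hpd : p ∣ Nat.card (K ⊓ Subgroup.centralizer {a} : Subgroup G) := by
      obtain ⟨j, hj⟩ := IsPGroup.iff_card.mp (hKp.to_le (inf_le_left : K ⊓ Subgroup.centralizer {a} ≤ K))
      rw [hj]
      refine dvd_pow_self p fun hj0 => h0 (Subgroup.card_eq_one.mp ?_)
      rw [hj, hj0, pow_zero]
    obtain ⟨d, hd⟩ := exists_prime_orderOf_dvd_card' p hpd
    obtain ⟨n, hn⟩ := Subgroup.mem_zpowers_iff.mp c.2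
    refine no_pair hpp (x := (d : G)) (y := (c : G)) ?_ hp hq (Ne.symm hqp)
      ((Subgroup.orderOf_coe d).trans hd) ((Subgroup.orderOf_coe c).trans hc)
    rw [← hn]
    exact Commute.zpow_right (Subgroup.mem_centralizer_singleton_iff.mp d.2.2) n
  have hQcyc : IsCyclic Q := CfsgLib.FrobRealize.FPF.isCyclic_of_comm hK0
    (by rw [Subgroup.normalizer_eq_top]; exact le_top) hfpf hQc
  have hLcyc : IsCyclic L := hQL ▸ isCyclic_of_surjective _
    ((QuotientGroup.mk' K).subgroupMap_surjective Q)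
  obtain ⟨g, hg⟩ := hLcyc.exists_generator
  have hLq : q ∣ Nat.card L := by
    obtain ⟨a, ha⟩ := IsPGroup.iff_card.mp hqL
    rw [ha]
    exact dvd_pow_self q fun h => hL0 (Subgroup.card_eq_one.mp (by rw [ha, h, pow_zero]))
  obtain ⟨y, hy⟩ := exists_prime_orderOf_dvd_card' q hLq
  set C := Subgroup.centralizer (L : Set (G ⧸ K)) with hC
  have hCq : IsPGroup q C := by
    rintro ⟨x, hx⟩
    rcases eq_or_ne x 1 with rfl | hx1
    · exact ⟨0, by simp⟩
    obtain ⟨r, k, hr, hk0, hk⟩ := (isPrimePow_nat_iff _).mp (quotient_pp K hpp x hx1)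
    rcases eq_or_ne r q with rfl | hrq
    · exact ⟨k, Subtype.ext (by simp [hk, pow_orderOf_eq_one])⟩
    exfalso
    have hx' : orderOf (x ^ r ^ (k - 1)) = r := by
      rw [orderOf_pow' _ (pow_ne_zero _ hr.ne_zero), ← hk,
        Nat.gcd_eq_right (pow_dvd_pow r (Nat.sub_le k 1)), Nat.pow_div (Nat.sub_le k 1) hr.pos]
      rw [Nat.sub_sub_self hk0, pow_one]
    exact no_pair (quotient_pp K hpp) (x := x ^ r ^ (k - 1)) (y := (y : G ⧸ K))
      (Commute.pow_left ((Subgroup.mem_centralizer_iff.mp hx _ y.2).symm : Commute x y) _)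
      hr hq hrq hx' ((Subgroup.orderOf_coe y).trans hy)
  haveI : Group.IsNilpotent C := hCq.isNilpotent
  haveI : Group.IsSolvable (MulAut L) := Group.isSolvable_of_comm fun a b =>
    (IsCyclic.mulAutMulEquiv L).injective (by rw [map_mul, map_mul, mul_comm])
  have hQs : Group.IsSolvable (G ⧸ K) := Group.isSolvable_of_ker_le_range C.subtype
    (MulAut.conjNormal : G ⧸ K →* MulAut L) (by
      rw [Subgroup.range_subtype]
      intro x hx
      refine Subgroup.mem_centralizer_iff.mpr fun l hl => ?_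
      have h1 := congrArg Subtype.val (DFunLike.congr_fun (MonoidHom.mem_ker.mp hx) ⟨l, hl⟩)
      simp only [MulAut.conjNormal_apply, MulAut.one_apply] at h1
      exact (mul_inv_eq_iff_eq_mul.mp h1).symm)
  haveI : Group.IsNilpotent K := hKp.isNilpotent
  exact hns (Group.isSolvable_of_ker_le_range K.subtype (QuotientGroup.mk' K) (by simp))

/-- Let G be a finite non-solvable group in which every element has prime-power order, and let R be its largest solvable normal subgroup. Then R is a p-group for some prime p; G/R has a non-abelian simple normal subgroup contained in every nontrivial normal subgroup of G/R (its unique minimal normal subgroup); and the order of every solvable subgroup of G has at most two prime divisors. -/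
theorem result {G : Type*} [Group G] [Finite G] (hns : ¬ Group.IsSolvable G) (hpp : ∀ g : G, g ≠ 1 → IsPrimePow (orderOf g))
    (R : Subgroup G) [R.Normal] (hRs : Group.IsSolvable ↥R) (hRmax : ∀ N : Subgroup G, N.Normal → Group.IsSolvable ↥N → N ≤ R) :
    (∃ p : ℕ, p.Prime ∧ IsPGroup p ↥R) ∧
      (∃ M : Subgroup (G ⧸ R), M.Normal ∧ IsSimpleGroup ↥M ∧ ¬ IsMulCommutative ↥M ∧
        ∀ N : Subgroup (G ⧸ R), N.Normal → N ≠ ⊥ → M ≤ N) ∧
      ∀ H : Subgroup G, Group.IsSolvable ↥H → (Nat.card ↥H).primeFactors.card ≤ 2 := by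
  classical
  refine ⟨radical_pgroup hns hpp R hRs, ?_, ?_⟩
  · haveI := hRs
    have hQ := quotient_pp R hpp
    have hrad : ∀ L : Subgroup (G ⧸ R), L.Normal → Group.IsSolvable L → L = ⊥ := by
      intro L hL hLs
      haveI := hLs
      have h1 := hRmax _ (hL.comap _) (solvable_comap R L)
      refine le_bot_iff.mp fun y hy => ?_
      obtain ⟨x, rfl⟩ := QuotientGroup.mk'_surjective R y
      exact Subgroup.mem_bot.mpr ((QuotientGroup.eq_one_iff x).mpr (h1 hy))
    have hnp : ∀ (L : Subgroup (G ⧸ R)), L.Normal → L ≠ ⊥ → ∀ p : ℕ, p.Prime → ¬ IsPGroup p L := by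
      intro L hL hL0 p hp hLp
      haveI := Fact.mk hp
      haveI := hLp.isNilpotent
      exact hL0 (hrad L hL inferInstance)
    have htop : (⊤ : Subgroup (G ⧸ R)) ≠ ⊥ := by
      intro h
      have hRtop : R = ⊤ := by
        refine eq_top_iff.mpr fun x _ => (QuotientGroup.eq_one_iff x).mp ?_
        have : QuotientGroup.mk' R x ∈ (⊥ : Subgroup (G ⧸ R)) := h ▸ Subgroup.mem_top _
        exact Subgroup.mem_bot.mp this
      subst hRtop
      exact hns (Group.isSolvable_of_surjective (f := (⊤ : Subgroup G).subtype)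
        fun x => ⟨⟨x, Subgroup.mem_top x⟩, rfl⟩)
    obtain ⟨M, hMn, hM0, -, hMmin⟩ := CfsgLib.Solvable.Basic.exists_minimal_normal_le htop
    have hMns : ¬ Group.IsSolvable M := fun h => hM0 (hrad M hMn h)
    refine ⟨M, hMn, ?_, fun h => hMns (Group.isSolvable_of_comm fun a b =>
      (isMulCommutative_iff.mp h) a b), ?_⟩
    · haveI : Nontrivial M := (Subgroup.nontrivial_iff_ne_bot M).mpr hM0
      refine ⟨fun K hK => ?_⟩
      by_contra hKne
      push Not at hKne
      obtain ⟨K₀, hK₀n, hK₀, hK₀K, hK₀min⟩ := CfsgLib.Solvable.Basic.exists_minimal_normal_le hKne.1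
      have hKp : ∀ p : ℕ, p.Prime → ¬ IsPGroup p K₀ := by
        intro p hp h
        haveI := Fact.mk hp
        have hle := CfsgLib.Solvable.Cores.le_pCore h
        set C := Cfsg.pCore p M
        have hCn : (C.map M.subtype).Normal := by infer_instance
        exact hnp _ hCn (fun h0 => hK₀ (le_bot_iff.mp (hle.trans
          (le_of_eq ((Subgroup.map_eq_bot_iff_of_injective _ M.subtype_injective).mp h0))))) p hp
          ((CfsgLib.Solvable.Cores.isPGroup_pCore p).map _)
      by_cases hfix : ∀ g : G ⧸ R, K₀.map (MulAut.conjNormal g : MulAut M).toMonoidHom = K₀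
      · have hn : (K₀.map M.subtype).Normal := ⟨by
          rintro _ ⟨k, hk, rfl⟩ g
          have : (MulAut.conjNormal g : MulAut M) k ∈ K₀ := by
            have h2 := Subgroup.mem_map_of_mem (MulAut.conjNormal g : MulAut M).toMonoidHom hk
            rwa [hfix g] at h2
          exact ⟨_, this, by simp [MulAut.conjNormal_apply]⟩⟩
        rcases hMmin _ hn (Subgroup.map_subtype_le K₀) with h | h
        · exact hK₀ ((Subgroup.map_eq_bot_iff_of_injective _ M.subtype_injective).mp h)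
        · apply hKne.2
          refine eq_top_iff.mpr (le_trans ?_ hK₀K)
          intro x _
          obtain ⟨y, hy, hyx⟩ : (x : G ⧸ R) ∈ K₀.map M.subtype := h.symm ▸ x.2
          exact Subtype.ext hyx ▸ hy
      · push Not at hfix
        obtain ⟨g, hg⟩ := hfix
        set e := (MulAut.conjNormal g : MulAut M)
        have hK₁n : (K₀.map e.toMonoidHom).Normal := hK₀n.map _ e.surjective
        rcases hK₀min (K₀ ⊓ K₀.map e.toMonoidHom) inferInstance inf_le_left with h | h
        · have hM' : ∀ x : M, x ≠ 1 → IsPrimePow (orderOf x) := fun x hx => by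
            rw [← Subgroup.orderOf_coe]; exact hQ _ fun h' => hx (Subtype.ext h')
          refine not_disjoint_commute hM' (K₀.map e.toMonoidHom) K₀
            (fun h0 => hK₀ ((Subgroup.map_eq_bot_iff_of_injective _ e.injective).mp h0)) hKp ?_
          intro a ha b hb
          exact (Subgroup.commute_of_normal_of_disjoint _ _ hK₀n hK₁n (disjoint_iff.mpr h) b a hb ha).symm
        · have hle : K₀ ≤ K₀.map e.toMonoidHom := inf_eq_left.mp h
          exact hg (Subgroup.eq_of_le_of_card_ge hle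
            (le_of_eq (Subgroup.card_map_of_injective e.injective))).symm
    · intro N hN hN0
      haveI := hMn; haveI := hN
      rcases hMmin (M ⊓ N) inferInstance inf_le_left with h | h
      · exact (not_disjoint_commute hQ M N hM0 (hnp N hN hN0) fun a ha b hb =>
          Subgroup.commute_of_normal_of_disjoint _ _ hMn hN (disjoint_iff.mpr h) a b ha hb).elim
      · exact inf_eq_left.mp h
  · intro H hH
    by_contra hlt
    push Not at hlt
    haveI := hH
    obtain ⟨S, hSsub, hS3⟩ := Finset.exists_subset_card_eq (n := 3) (by omega :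
      3 ≤ (Nat.card ↥H).primeFactors.card)
    have hSp : ∀ s ∈ S, s.Prime := fun s hs => Nat.prime_of_mem_primeFactors (hSsub hs)
    obtain ⟨s, hs, t, ht, hst, x, hx⟩ := CfsgLib.Frobenius.ThreePrimes.exists_orderOf S hSp hS3
      fun s hs => Nat.dvd_of_mem_primeFactors (hSsub hs)
    rw [← Subgroup.orderOf_coe] at hx
    have h1 : (x : G) ≠ 1 := fun h => by
      rw [h, orderOf_one] at hx
      exact absurd hx (Nat.ne_of_lt (Nat.one_lt_mul_iff.mpr
        ⟨(hSp s hs).pos, (hSp t ht).pos, Or.inl (hSp s hs).one_lt⟩))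
    obtain ⟨r, k, hr, -, hk⟩ := (isPrimePow_nat_iff _).mp (hx ▸ hpp _ h1)
    exact hst (((Nat.prime_dvd_prime_iff_eq (hSp s hs) hr).mp
      ((hSp s hs).dvd_of_dvd_pow (hk ▸ dvd_mul_right s t : s ∣ r ^ k))).trans
      ((Nat.prime_dvd_prime_iff_eq (hSp t ht) hr).mp
      ((hSp t ht).dvd_of_dvd_pow (hk ▸ dvd_mul_left t s : t ∣ r ^ k))).symm)

end Cfsg.Agent.S3992
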