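import Cfsg.Statements.S0190
import Cfsg.Agent.Lib.Char.Induced
-- import your own Cfsg.Agent.* helpers here

set_option autoImplicit false
open Cfsg

namespace Cfsg.Agent.S0190

/-- For a transitive action of a finite group on X, the permutation character g ↦ (number of fixed points of g) is the function induced from the principal character of the stabilizer of any point. -/
theorem result {G : Type*} [Group G] [Fintype G] (X : Type*) [MulAction G X] [Finite X] [MulAction.IsPretransitive G X] (x : X) : (fun g : G => (Nat.card (MulAction.fixedBy X g) : ℂ)) = Cfsg.indFun (MulAction.stabilizer G x) (fun _ => 1) := by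
  classical
  cases nonempty_fintype X
  ext g
  have hext : ∀ y : G, Cfsg.extendByZero (MulAction.stabilizer G x) (fun _ => 1) (y⁻¹ * g * y) =
      if g • (y • x) = y • x then 1 else 0 := by
    intro y
    have hiff : y⁻¹ * g * y ∈ MulAction.stabilizer G x ↔ g • (y • x) = y • x := by
      rw [MulAction.mem_stabilizer_iff, mul_smul, mul_smul, inv_smul_eq_iff]
    split_ifs with h
    · rw [CfsgLib.Char.extendByZero_apply_mem _ _ (hiff.mpr h)]
    · rw [CfsgLib.Char.extendByZero_apply_notMem _ _ fun hm => h (hiff.mp hm)]
  rw [CfsgLib.Char.indFun_def, Finset.sum_congr rfl fun y _ => hext y,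
    ← Finset.sum_fiberwise (Finset.univ : Finset G) fun y => y • x]
  have hfib : ∀ z : X, (Finset.univ.filter fun y : G => y • x = z).card =
      Nat.card (MulAction.stabilizer G x) := by
    intro z
    obtain ⟨y₀, rfl⟩ := MulAction.exists_smul_eq G x z
    rw [Nat.card_eq_fintype_card, Fintype.card_subtype]
    exact Finset.card_equiv (Equiv.mulLeft y₀⁻¹) fun y => by
      simp [mul_smul, inv_smul_eq_iff]
  rw [Finset.sum_congr rfl fun z _ => by
    rw [Finset.sum_congr rfl fun y hy => by rw [(Finset.mem_filter.mp hy).2],
      Finset.sum_const, hfib, nsmul_eq_mul]]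
  rw [← Finset.mul_sum, ← mul_assoc, inv_mul_cancel₀ (by exact_mod_cast Nat.card_pos.ne'),
    one_mul, Finset.sum_boole, ← Fintype.card_subtype, Nat.card_eq_fintype_card]
  rfl


end Cfsg.Agent.S0190
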