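import Cfsg.Statements.S0157
import Cfsg.Agent.Lib.Char.Induced
import Cfsg.Agent.Lib.Char.Linear
import Cfsg.Agent.S0190
-- import your own Cfsg.Agent.* helpers here

set_option autoImplicit false
open Cfsg

namespace Cfsg.Agent.S0157

open scoped ComplexConjugate

theorem iff_two_transitive {G : Type*} [Group G] [Fintype G] (X : Type*) [MulAction G X] [Fintype X]
    [MulAction.IsPretransitive G X] (hX : 2 ≤ Nat.card X) :
    Cfsg.IsIrrCharacter G (fun g => (Nat.card (MulAction.fixedBy X g) : ℂ) - 1) ↔
      MulAction.IsMultiplyPretransitive G X 2 := by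
  classical
  obtain ⟨x, y, hxy⟩ : ∃ x y : X, x ≠ y := by
    have : Nontrivial X := Finite.one_lt_card_iff_nontrivial.mp hX
    exact exists_pair_ne X
  set π : G → ℂ := fun g => (Nat.card (MulAction.fixedBy X g) : ℂ) with hπdef
  have hπ : π = Cfsg.indFun (MulAction.stabilizer G x) (fun _ => 1) :=
    Cfsg.Agent.S0190.result X x
  have hπc : Cfsg.IsCharacter G π := by
    rw [hπ]
    exact CfsgLib.Char.IsCharacter.indFun _ CfsgLib.Char.isCharacter_one
  have hone : Cfsg.classInner π (fun _ => 1) = 1 := by
    rw [hπ, CfsgLib.Char.classInner_indFun _ _ (fun _ _ => rfl)]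
    exact CfsgLib.Char.classInner_irr_self CfsgLib.Char.isIrrCharacter_one
  set q := Nat.card (MulAction.orbitRel.Quotient G (X × X)) with hq
  have hππ : Cfsg.classInner π π = (q : ℂ) := by
    have hB := MulAction.sum_card_fixedBy_eq_card_orbits_mul_card_group G (X × X)
    have hfix : ∀ g : G, Fintype.card (MulAction.fixedBy (X × X) g) =
        Nat.card (MulAction.fixedBy X g) * Nat.card (MulAction.fixedBy X g) := by
      intro g
      rw [← Nat.card_eq_fintype_card, ← Nat.card_prod]
      exact Nat.card_congr
        { toFun := fun p => (⟨p.1.1, congrArg Prod.fst p.2⟩, ⟨p.1.2, congrArg Prod.snd p.2⟩)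
          invFun := fun p => ⟨(p.1.1, p.2.1), Prod.ext p.1.2 p.2.2⟩
          left_inv := fun _ => rfl
          right_inv := fun _ => rfl }
    rw [Finset.sum_congr rfl fun g _ => hfix g, ← Nat.card_eq_fintype_card,
      ← Nat.card_eq_fintype_card] at hB
    have hB' := congrArg (Nat.cast : ℕ → ℂ) hB
    push_cast at hB'
    rw [Cfsg.classInner]
    simp only [hπdef, map_natCast]
    rw [hB', ← mul_assoc, mul_comm _ (q : ℂ), mul_assoc,
      inv_mul_cancel₀ CfsgLib.Char.card_ne_zero, mul_one]
  have hchar : Cfsg.IsCharacter G (fun g => π g - 1) := by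
    refine CfsgLib.Char.isCharacter_iff.mpr ⟨fun g h => ?_, fun ψ hψ => ?_⟩
    · simp only [CfsgLib.Char.IsCharacter.isClassFunction hπc g h]
    · obtain ⟨k, hk⟩ := CfsgLib.Char.IsCharacter.classInner_nat hπc
        (CfsgLib.Char.IsIrrCharacter.isCharacter hψ)
      have he : Cfsg.classInner (fun g => π g - 1) ψ = (k : ℂ) - if (fun _ => (1 : ℂ)) = ψ then 1 else 0 := by
        rw [show (fun g => π g - 1) = π - fun _ => 1 from rfl, CfsgLib.Char.classInner_sub_left,
          hk, CfsgLib.Char.classInner_irr CfsgLib.Char.isIrrCharacter_one hψ]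
      split_ifs at he with h1
      · subst h1
        rw [hone] at hk
        exact ⟨0, by rw [he, ← hk]; simp⟩
      · exact ⟨k, by rw [he, sub_zero]⟩
  have hnorm : Cfsg.classInner (fun g => π g - 1) (fun g => π g - 1) = (q : ℂ) - 1 := by
    rw [show (fun g => π g - 1) = π - fun _ => 1 from rfl, CfsgLib.Char.classInner_sub_left,
      CfsgLib.Char.classInner_sub_right, CfsgLib.Char.classInner_sub_right, hππ, hone,
      ← CfsgLib.Char.classInner_conj_symm π, hone,
      CfsgLib.Char.classInner_irr_self CfsgLib.Char.isIrrCharacter_one, map_one]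
    ring
  have hirr : Cfsg.IsIrrCharacter G (fun g => π g - 1) ↔ q = 2 := by
    constructor
    · intro h
      have := CfsgLib.Char.classInner_irr_self h
      rw [hnorm, sub_eq_iff_eq_add] at this
      exact_mod_cast this.trans (by norm_num : (1 : ℂ) + 1 = ((2 : ℕ) : ℂ))
    · intro h
      refine CfsgLib.Char.IsCharacter.isIrrCharacter_of_norm_one hchar ?_
      rw [hnorm, h]; norm_num
  let φ : MulAction.orbitRel.Quotient G (X × X) → Bool := fun o =>
    Quotient.liftOn o (fun p => decide (p.1 = p.2)) (by
      rintro a b ⟨g, rfl⟩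
      simp)
  have hsurj : Function.Surjective φ := fun b => by
    cases b
    · exact ⟨Quotient.mk _ (x, y), decide_eq_false hxy⟩
    · exact ⟨Quotient.mk _ (x, x), decide_eq_true rfl⟩
  rw [hirr, MulAction.is_two_pretransitive_iff]
  constructor
  · intro h2 a b c d hab hcd
    have hbij : Function.Bijective φ := (Nat.bijective_iff_surjective_and_card φ).mpr
      ⟨hsurj, by rw [← hq, h2, Nat.card_eq_fintype_card, Fintype.card_bool]⟩
    have := hbij.1 (a₁ := Quotient.mk _ (a, b)) (a₂ := Quotient.mk _ (c, d))
      ((decide_eq_false hab).trans (decide_eq_false hcd).symm)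
    obtain ⟨g, hg⟩ := Quotient.exact this
    refine ⟨g⁻¹, ?_, ?_⟩
    · rw [inv_smul_eq_iff]; exact (congrArg Prod.fst hg).symm
    · rw [inv_smul_eq_iff]; exact (congrArg Prod.snd hg).symm
  · intro h
    have hinj : Function.Injective φ := by
      intro o o'
      induction o using Quotient.inductionOn with
      | h p => induction o' using Quotient.inductionOn with
        | h p' =>
          intro he
          have he' : decide (p.1 = p.2) = decide (p'.1 = p'.2) := he
          refine Quotient.sound ?_
          by_cases hp : p.1 = p.2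
          · have hp' : p'.1 = p'.2 := by simpa [hp] using he'
            obtain ⟨g, hg⟩ := MulAction.exists_smul_eq G p'.1 p.1
            exact ⟨g, Prod.ext hg (by change g • p'.2 = p.2; rw [← hp', ← hp]; exact hg)⟩
          · have hp' : p'.1 ≠ p'.2 := by simpa [hp] using he'
            obtain ⟨g, hg1, hg2⟩ := h hp' hp
            exact ⟨g, Prod.ext hg1 hg2⟩
    rw [hq, Nat.card_congr (Equiv.ofBijective φ ⟨hinj, hsurj⟩), Nat.card_eq_fintype_card,
      Fintype.card_bool]

/-- For a transitive action of a finite group on a finite set with at least two points: the action is 2-transitive if and only if the function sending g to (number of fixed points of g) − 1 is an irreducible character. -/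
theorem result {G : Type*} [Group G] [Finite G] (X : Type*) [MulAction G X] [Finite X] [MulAction.IsPretransitive G X] (hX : 2 ≤ Nat.card X) : Cfsg.IsIrrCharacter G (fun g => (Nat.card (MulAction.fixedBy X g) : ℂ) - 1) ↔ MulAction.IsMultiplyPretransitive G X 2 := by
  classical
  cases nonempty_fintype G
  cases nonempty_fintype X
  exact iff_two_transitive X hX


end Cfsg.Agent.S0157
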