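import Cfsg.Statements.S4398
import Cfsg.Agent.Lib.TwoGroups.Classify

set_option autoImplicit false
open Cfsg

namespace Cfsg.Agent.S4398

open Subgroup
open CfsgLib.TwoGroups

universe u

/-- The properties of the dihedral and quaternion groups of order 8 that are used. -/
structure Eight {S : Type u} [Group S] (H : Subgroup S) : Prop where
  card : Nat.card H = 8
  nonab : ∃ x ∈ H, ∃ y ∈ H, x * y ≠ y * x
  pow_four : ∀ x ∈ H, x ^ 4 = 1
  sq_central : ∀ x ∈ H, ∀ y ∈ H, x * x * y = y * (x * x)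
  center_two : ∃ z ∈ H, z * z = 1 ∧ z ≠ 1 ∧ (∀ y ∈ H, z * y = y * z) ∧
    ∀ x ∈ H, (∀ y ∈ H, x * y = y * x) → x = 1 ∨ x = z

theorem eight_of_equiv {S : Type u} [Group S] {H : Subgroup S} {Q : Type} [Group Q] [Fintype Q]
    (e : Q ≃* H) (h1 : Fintype.card Q = 8) (h2 : ∃ x y : Q, x * y ≠ y * x)
    (h3 : ∀ x : Q, x * x * (x * x) = 1) (h4 : ∀ x y : Q, x * x * y = y * (x * x))
    (h5 : ∃ z : Q, z * z = 1 ∧ z ≠ 1 ∧ (∀ y, z * y = y * z) ∧ ∀ x, (∀ y, x * y = y * x) → x = 1 ∨ x = z) :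
    Eight H := by
  have hsurj : ∀ x ∈ H, ∃ q, (e q : S) = x := fun x hx => ⟨e.symm ⟨x, hx⟩, by simp⟩
  refine ⟨by rw [← Nat.card_congr e.toEquiv, Nat.card_eq_fintype_card, h1], ?_, ?_, ?_, ?_⟩
  · obtain ⟨x, y, hxy⟩ := h2
    refine ⟨e x, (e x).2, e y, (e y).2, fun h => hxy (e.injective (Subtype.ext ?_))⟩
    simpa using h
  · intro x hx
    obtain ⟨q, rfl⟩ := hsurj x hx
    have := congrArg (fun t => (e t : S)) (h3 q)
    simpa [pow_succ, mul_assoc] using this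
  · intro x hx y hy
    obtain ⟨q, rfl⟩ := hsurj x hx
    obtain ⟨q', rfl⟩ := hsurj y hy
    simpa using congrArg (fun t => (e t : S)) (h4 q q')
  · obtain ⟨z, hz1, hz2, hz3, hz4⟩ := h5
    refine ⟨e z, (e z).2, by simpa using congrArg (fun t => (e t : S)) hz1,
      fun h => hz2 (e.injective (Subtype.ext (by simpa using h))), fun y hy => ?_, fun x hx hc => ?_⟩
    · obtain ⟨q, rfl⟩ := hsurj y hy
      simpa using congrArg (fun t => (e t : S)) (hz3 q)
    · obtain ⟨q, rfl⟩ := hsurj x hx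
      rcases hz4 q (fun y => e.injective (Subtype.ext (by simpa using hc _ (e y).2))) with rfl | rfl
      · left; simp
      · right; rfl

theorem eight_of_hyp {S : Type u} [Group S] (H : Subgroup S)
    (h : Nonempty (↥H ≃* DihedralGroup 4) ∨ Nonempty (↥H ≃* QuaternionGroup 2)) : Eight H := by
  rcases h with ⟨⟨e⟩⟩ | ⟨⟨e⟩⟩
  · exact eight_of_equiv e.symm (by decide) (by decide) (by decide) (by decide) (by decide)
  · exact eight_of_equiv e.symm (by decide) (by decide) (by decide) (by decide) (by decide)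

variable {S : Type u} [Group S] [Finite S]

omit [Finite S] in
theorem conj_pw {g a : S} {r : ℤ} (h : g * a * g⁻¹ = a ^ r) (i : ℤ) :
    g * a ^ i * g⁻¹ = a ^ (r * i) := by
  rw [← conj_zpow, h, zpow_mul]

/-- A quotient of a subgroup of order at least 8 and exponent two contradicts sectional rank two. -/
theorem section_bound (hr : Cfsg.SectionalPRankLE 2 2 S) (W : Subgroup S) (N : Subgroup W) [N.Normal]
    (h8 : 8 * Nat.card N ≤ Nat.card W) (hsq : ∀ x : W, x * x ∈ N) : False := by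
  have hexp : ∀ q : W ⧸ N, q * q = 1 := fun q => by
    obtain ⟨x, rfl⟩ := QuotientGroup.mk_surjective q
    exact (QuotientGroup.eq_one_iff _).2 (hsq x)
  have h := hr W N ⊤ ⟨⟨fun x y => Subtype.ext (by
    have h1 := hexp (x.1 * y.1)
    calc (x : W ⧸ N) * y = (x : W ⧸ N) * ((x.1 * y.1) * (x.1 * y.1)) * y := by rw [h1, mul_one]
      _ = ((x : W ⧸ N) * x) * ((y : W ⧸ N) * x) * ((y : W ⧸ N) * y) := by simp only [mul_assoc]
      _ = (y : W ⧸ N) * x := by rw [hexp, hexp, one_mul, mul_one])⟩⟩ (fun q _ => by rw [sq]; exact hexp q)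
  rw [card_top] at h
  have h2 := N.card_eq_card_quotient_mul_card_subgroup
  have h3 : 0 < Nat.card N := Nat.card_pos
  nlinarith

/-- The centraliser of a subgroup of type `D8` or `Q8` lies in it. -/
theorem centralizer_le (h2 : IsPGroup 2 S) (hr : Cfsg.SectionalPRankLE 2 2 S) {H : Subgroup S}
    (hH : Eight H) (c : S) (hc : ∀ y ∈ H, c * y = y * c) : c ∈ H := by
  by_contra hcH
  obtain ⟨N0, hN0⟩ := IsPGroup.iff_orderOf.1 h2 c
  classical
  have hex : ∃ j, c ^ 2 ^ j ∈ H := ⟨N0, by rw [← hN0, pow_orderOf_eq_one]; exact one_mem _⟩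
  have hj := Nat.find_spec hex
  obtain ⟨j, hj'⟩ : ∃ j, Nat.find hex = j + 1 := Nat.exists_eq_succ_of_ne_zero fun e =>
    hcH (by simpa [e] using hj)
  set d := c ^ 2 ^ j with hd
  have hdH : d ∉ H := Nat.find_min hex (by omega)
  have hd2 : d * d ∈ H := by
    rw [hd, ← pow_add, ← two_mul, ← pow_succ', ← hj']
    exact hj
  have hdc : ∀ y ∈ H, Commute d y := fun y hy => (show Commute c y from hc y hy).pow_left _
  obtain ⟨z, hzH, hz2, hz1, hzc, hzu⟩ := hH.center_two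
  have hZ : zpowers z ≤ H := zpowers_le.2 hzH
  set W := H ⊔ zpowers d with hW
  have hWn : W ≤ Subgroup.centralizer ({z} : Set S) := by
    refine sup_le (fun y hy => mem_centralizer_singleton_iff.2 (hzc y hy).symm) (zpowers_le.2 ?_)
    exact mem_centralizer_singleton_iff.2 (hdc z hzH).eq
  have hNn : ((zpowers z).subgroupOf W).Normal := by
    refine ⟨fun x hx g => ?_⟩
    rw [mem_subgroupOf] at hx ⊢
    obtain ⟨i, hi⟩ := hx
    change z ^ i = (x : S) at hi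
    have h1 : Commute (g : S) z := mem_centralizer_singleton_iff.1 (hWn g.2)
    rw [Subgroup.coe_mul, Subgroup.coe_mul, Subgroup.coe_inv, ← hi, (h1.zpow_right i).eq,
      mul_inv_cancel_right]
    exact zpow_mem (mem_zpowers z) i
  have hsq : ∀ w ∈ W, ∃ h ∈ H, ∃ i : ℤ, w = h * d ^ i := by
    intro w hw
    have hnorm : zpowers d ≤ normalizer (H : Set S) := zpowers_le.2 (mem_normalizer_iff.2 fun y =>
      ⟨fun hy => by rwa [(hdc y hy).eq, mul_inv_cancel_right],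
       fun hy => by
        have h1 := (hdc _ hy).eq
        have e : d * y * d⁻¹ = y := by
          calc d * y * d⁻¹ = d⁻¹ * (d * (d * y * d⁻¹)) := by group
            _ = d⁻¹ * ((d * y * d⁻¹) * d) := by rw [h1]
            _ = y := by group
        rwa [e] at hy⟩)
    have hw' : w ∈ ((H ⊔ zpowers d : Subgroup S) : Set S) := hw
    rw [Subgroup.coe_mul_of_right_le_normalizer_left H (zpowers d) hnorm] at hw'
    obtain ⟨h, hh, e, ⟨i, rfl⟩, rfl⟩ := Set.mem_mul.1 hw'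
    exact ⟨h, hh, i, rfl⟩
  refine section_bound hr W ((zpowers z).subgroupOf W) ?_ ?_
  · rw [Nat.card_congr (subgroupOfEquivOfLe (hZ.trans le_sup_left)).toEquiv, Nat.card_zpowers,
      orderOf_eq_prime (by rw [sq]; exact hz2) hz1]
    have h1 : H < W := lt_of_le_not_ge le_sup_left fun h => hdH (h (mem_sup_right (mem_zpowers d)))
    obtain ⟨n, hn⟩ := (h2.to_subgroup W).exists_card_eq
    have h3 : Nat.card H < Nat.card W := by
      by_contra h4
      exact h1.ne (eq_of_le_of_card_ge h1.le (not_lt.1 h4))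
    rw [hH.card, hn] at h3
    rw [hn]
    have : 3 < n := (Nat.pow_lt_pow_iff_right one_lt_two).1 (by norm_num; exact h3)
    calc 8 * 2 = 2 ^ 4 := by norm_num
      _ ≤ 2 ^ n := Nat.pow_le_pow_right two_pos this
  · rintro ⟨w, hw⟩
    rw [mem_subgroupOf]
    show w * w ∈ zpowers z
    obtain ⟨h, hh, i, rfl⟩ := hsq w hw
    have hdi : Commute (d ^ i) h := (hdc h hh).zpow_left i
    rw [show h * d ^ i * (h * d ^ i) = h * h * (d * d) ^ i by
      rw [mul_assoc h, ← mul_assoc (d ^ i), hdi.eq, mul_assoc h, ← mul_assoc h h,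
        (Commute.refl d).mul_zpow]]
    refine mul_mem ?_ (zpow_mem ?_ i)
    · rcases hzu (h * h) (mul_mem hh hh) (fun y hy => hH.sq_central h hh y hy) with e | e <;> rw [e]
      exacts [one_mem _, mem_zpowers z]
    · rcases hzu (d * d) hd2 (fun y hy => ((hdc y hy).mul_left (hdc y hy)).eq) with e | e <;> rw [e]
      exacts [one_mem _, mem_zpowers z]

omit [Finite S] in
theorem zpow_eq {a : S} {n : ℕ} (ha : orderOf a = n) (i j : ℤ) : a ^ i = a ^ j ↔ (n : ℤ) ∣ i - j := by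
  rw [← ha, orderOf_dvd_iff_zpow_eq_one, zpow_sub, mul_inv_eq_one]

/-- Structure of a subgroup with a cyclic maximal subgroup containing such a subgroup. -/
theorem shape {H T : Subgroup S} (hH : Eight H) (hHT : H ≤ T) {a : S} (ha : a ∈ T) {k : ℕ}
    (hk : 2 ≤ k) (hT : Nat.card T = 2 ^ (k + 1)) (hao : orderOf a = 2 ^ k) :
    ∃ b ∈ T, b ∉ zpowers a ∧ (∀ x ∈ T, x ∈ zpowers a ∨ b⁻¹ * x ∈ zpowers a) ∧
      ((b * b = 1 ∧ b * a * b⁻¹ = a ^ (-1 : ℤ)) ∨ (b * b = a ^ 2 ^ (k - 1) ∧ b * a * b⁻¹ = a ^ (-1 : ℤ)) ∨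
        (3 ≤ k ∧ b * b = 1 ∧ b * a * b⁻¹ = a ^ ((2 : ℤ) ^ (k - 1) - 1))) := by
  have ha' : orderOf (⟨a, ha⟩ : T) = 2 ^ k := by rw [Subgroup.orderOf_mk]; exact hao
  obtain ⟨x, hx, y, hy, hxy⟩ := hH.nonab
  obtain ⟨⟨b, hbT⟩, hb, hcases⟩ := Classify.classify hk hT ha'
    ⟨⟨x, hHT hx⟩, ⟨y, hHT hy⟩, fun h => hxy (congrArg Subtype.val h)⟩
  have hz : ∀ v : S, ∀ hv : v ∈ T, (⟨v, hv⟩ : T) ∈ zpowers (⟨a, ha⟩ : T) ↔ v ∈ zpowers a := by
    intro v hv
    constructor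
    · rintro ⟨i, hi⟩; exact ⟨i, congrArg Subtype.val hi⟩
    · rintro ⟨i, hi⟩; exact ⟨i, Subtype.ext hi⟩
  have hcov : ∀ v ∈ T, v ∈ zpowers a ∨ b⁻¹ * v ∈ zpowers a := by
    intro v hv
    have hi := CyclicMax.index_zpowers hT ha'
    by_cases hva : v ∈ zpowers a
    · exact Or.inl hva
    · refine Or.inr ((hz _ (mul_mem (inv_mem hbT) hv)).1 ?_)
      exact (mul_mem_iff_of_index_two hi (a := (⟨b, hbT⟩ : T)⁻¹) (b := ⟨v, hv⟩)).2
        (iff_of_false (fun h => hb (by simpa using inv_mem h)) fun h => hva ((hz _ hv).1 h))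
  refine ⟨b, hbT, fun h => hb ((hz _ hbT).2 h), hcov, ?_⟩
  have hv : ∀ {u v : T}, u = v → (u : S) = v := fun h => congrArg Subtype.val h
  rcases hcases with ⟨h1, h2⟩ | ⟨h1, h2⟩ | ⟨h0, h1, h2⟩ | ⟨h0, h1, h2⟩
  · exact Or.inl ⟨by simpa [sq] using hv h1, by simpa using hv h2⟩
  · exact Or.inr (Or.inl ⟨by simpa [sq] using hv h1, by simpa using hv h2⟩)
  swap
  · refine Or.inr (Or.inr ⟨h0, by simpa [sq] using hv h1, ?_⟩)
    have h3 := hv h2
    simp only [Subgroup.coe_mul, Subgroup.coe_inv, SubmonoidClass.coe_pow] at h3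
    rw [h3, ← zpow_natCast, Nat.cast_sub (Nat.one_le_two_pow), Nat.cast_pow, Nat.cast_one, Nat.cast_ofNat]
  -- the modular group has no such subgroup
  exfalso
  have h3 := hv h2
  simp only [Subgroup.coe_mul, Subgroup.coe_inv, SubmonoidClass.coe_pow] at h3
  have hb2 : b * b = 1 := by simpa [sq] using hv h1
  obtain ⟨l, hl⟩ : ∃ l, k = l + 3 := ⟨k - 3, by omega⟩
  subst hl
  rw [show l + 3 - 1 = l + 2 by omega, ← zpow_natCast, Nat.cast_add, Nat.cast_pow, Nat.cast_one,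
    Nat.cast_ofNat] at h3
  set c := a ^ ((2 : ℤ) ^ (l + 1)) with hc
  have hbc : Commute b c := by
    refine mul_inv_eq_iff_eq_mul.1 ?_
    rw [hc, conj_pw h3, zpow_eq hao]
    refine ⟨(2 : ℤ) ^ l, ?_⟩
    push_cast
    ring
  have hmem : ∀ v ∈ H, ∃ i : ℤ, v = c ^ i ∨ v = b * c ^ i := by
    intro v hv
    have h4 := hH.pow_four v hv
    rcases hcov v (hHT hv) with ⟨i, hi⟩ | ⟨i, hi⟩
    · change a ^ i = v at hi
      rw [← hi, ← zpow_natCast, ← zpow_mul, ← orderOf_dvd_iff_zpow_eq_one, hao] at h4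
      push_cast at h4
      obtain ⟨t, ht⟩ : (2 : ℤ) ^ (l + 1) ∣ i := by
        rw [pow_add (2 : ℤ) l 3, pow_succ (2 : ℤ) l] at *
        obtain ⟨t, ht⟩ := h4
        exact ⟨t, by linarith⟩
      exact ⟨t, Or.inl (by rw [← hi, hc, ← zpow_mul, ← ht])⟩
    · change a ^ i = b⁻¹ * v at hi
      have hv' : v = b * a ^ i := by rw [hi, mul_inv_cancel_left]
      have hbi : b⁻¹ = b := inv_eq_of_mul_eq_one_left hb2
      have hsq : v * v = a ^ (i * ((2 : ℤ) ^ (l + 2) + 2)) := by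
        calc v * v = (b * a ^ i * b⁻¹) * ((b * b) * a ^ i) := by rw [hv']; group
          _ = a ^ (i * ((2 : ℤ) ^ (l + 2) + 2)) := by
            rw [hb2, one_mul, conj_pw h3, ← zpow_add]; congr 1; ring
      rw [show v ^ 4 = (v * v) * (v * v) by simp only [pow_succ, pow_zero, one_mul, mul_assoc], hsq,
        ← zpow_add, ← orderOf_dvd_iff_zpow_eq_one, hao] at h4
      push_cast at h4
      obtain ⟨t, ht⟩ : (2 : ℤ) ^ (l + 1) ∣ i := by
        have hcop : IsCoprime ((2 : ℤ) ^ (l + 1)) ((2 : ℤ) ^ (l + 1) + 1) :=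
          ⟨-1, 1, by ring⟩
        refine hcop.dvd_of_dvd_mul_right ?_
        obtain ⟨t, ht⟩ := h4
        refine ⟨t, ?_⟩
        rw [pow_add (2 : ℤ) l 3, pow_add (2 : ℤ) l 2] at ht
        rw [pow_succ (2 : ℤ) l]
        linarith
      exact ⟨t, Or.inr (by rw [hv', hc, ← zpow_mul, ← ht])⟩
  obtain ⟨i, hi⟩ := hmem x hx
  obtain ⟨j, hj⟩ := hmem y hy
  apply hxy
  have hcc : Commute (c ^ i) (c ^ j) := (Commute.refl c).zpow_zpow i j
  rcases hi with rfl | rfl <;> rcases hj with rfl | rfl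
  · exact hcc.eq
  · exact (((hbc.zpow_right i).symm).mul_right hcc).eq
  · exact ((hbc.zpow_right j).mul_left hcc).eq
  · exact ((((Commute.refl b).mul_left (hbc.zpow_right i).symm)).mul_right
      ((hbc.zpow_right j).mul_left hcc)).eq

/-- In the inductive step the maximal subgroup has a cyclic subgroup of index two normalised by `T`. -/
theorem exists_stable {H M : Subgroup S} (hH : Eight H) (hHM : H ≤ M) {a : S} (ha : a ∈ M) {k : ℕ}
    (hk : 2 ≤ k) (hM : Nat.card M = 2 ^ (k + 1)) (hao : orderOf a = 2 ^ k) {s : S}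
    (hsM : ∀ x ∈ M, s * x * s⁻¹ ∈ M) (hs2 : s * s ∈ M) :
    ∃ a' ∈ M, orderOf a' = 2 ^ k ∧ s * a' * s⁻¹ ∈ zpowers a' := by
  by_cases hca : s * a * s⁻¹ ∈ zpowers a
  · exact ⟨a, ha, hao, hca⟩
  set c := s * a * s⁻¹ with hc
  have hco : orderOf c = 2 ^ k := by rw [← hao]; exact (MulAut.conj s).orderOf_eq a
  obtain ⟨b, -, hb, hcov, hcases⟩ := shape hH hHM ha hk hM hao
  obtain ⟨i, hi⟩ := (hcov c (hsM a ha)).resolve_left hca
  change a ^ i = b⁻¹ * c at hi
  have hci : c = b * a ^ i := by rw [hi, mul_inv_cancel_left]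
  obtain ⟨l, rfl⟩ : ∃ l, k = l + 2 := ⟨k - 2, by omega⟩
  -- `b * b` centralises `a`, so `c` squares to `b * b` up to a twist
  have hbb : ∃ j : ℤ, b * b = a ^ j ∧ (2 : ℤ) ^ (l + 1) ∣ j := by
    rcases hcases with ⟨h1, -⟩ | ⟨h1, -⟩ | ⟨-, h1, -⟩
    · exact ⟨0, by rw [h1, zpow_zero], dvd_zero _⟩
    · exact ⟨((2 ^ (l + 1) : ℕ) : ℤ), by rw [h1, zpow_natCast]; rfl, by push_cast; exact dvd_rfl⟩
    · exact ⟨0, by rw [h1, zpow_zero], dvd_zero _⟩
  obtain ⟨j, hj, hjd⟩ := hbb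
  obtain ⟨r, hr, hrd⟩ : ∃ r : ℤ, b * a * b⁻¹ = a ^ r ∧
      (r = -1 ∨ (1 ≤ l ∧ r = 2 ^ (l + 1) - 1)) := by
    rcases hcases with ⟨-, h1⟩ | ⟨-, h1⟩ | ⟨h0, -, h1⟩
    · exact ⟨_, h1, Or.inl rfl⟩
    · exact ⟨_, h1, Or.inl rfl⟩
    · exact ⟨_, h1, Or.inr ⟨by omega, rfl⟩⟩
  have hcc : c * c = a ^ (r * i + j + i) := by
    calc c * c = (b * a ^ i * b⁻¹) * (b * b) * a ^ i := by rw [hci]; group
      _ = _ := by rw [conj_pw hr, hj, ← zpow_add, ← zpow_add]
  -- only possible in order eight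
  obtain rfl : l = 0 := by
    by_contra hl
    have h1 : (c * c) * (c * c) = 1 := by
      rw [hcc, ← zpow_add, ← orderOf_dvd_iff_zpow_eq_one, hao]
      push_cast
      obtain ⟨t, rfl⟩ := hjd
      rcases hrd with rfl | ⟨-, rfl⟩
      · exact ⟨t, by ring⟩
      · exact ⟨t + i, by ring⟩
    have h2 : orderOf c ∣ 4 := orderOf_dvd_of_pow_eq_one (by
      rw [← h1]; simp only [pow_succ, pow_zero, one_mul, mul_assoc])
    rw [hco, show (4 : ℕ) = 2 ^ 2 from rfl, Nat.pow_dvd_pow_iff_le_right one_lt_two] at h2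
    omega
  obtain rfl : r = -1 := by rcases hrd with h | ⟨h, -⟩ <;> omega
  have hcj : c * c = a ^ j := by rw [hcc]; congr 1; ring
  have hj2 : a ^ j = a ^ (2 : ℤ) := by
    obtain ⟨t, rfl⟩ := hjd
    rcases Int.even_or_odd' t with ⟨t, rfl | rfl⟩
    · exfalso
      have h1 : c ^ 2 = 1 := by
        rw [sq, hcj, ← orderOf_dvd_iff_zpow_eq_one, hao]
        exact ⟨t, by push_cast; ring⟩
      have h2 := orderOf_dvd_of_pow_eq_one h1
      rw [hco] at h2
      norm_num at h2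
    · rw [zpow_eq hao]
      exact ⟨t, by push_cast; ring⟩
  rw [hj2] at hcj
  have hca' : c * a * c⁻¹ = a⁻¹ := by
    calc c * a * c⁻¹ = b * a * b⁻¹ := by rw [hci]; group
      _ = a⁻¹ := by rw [hr, zpow_neg_one]
  have hcaj : c * a = a⁻¹ * c := mul_inv_eq_iff_eq_mul.1 hca'
  have haa : a * a * (a * a) = 1 := by
    rw [← pow_orderOf_eq_one a, hao]; simp [pow_succ, mul_assoc]
  refine ⟨a * c, mul_mem ha (hsM a ha), ?_, ?_⟩
  · have hsq : (a * c) * (a * c) = a * a := by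
      calc (a * c) * (a * c) = a * (c * a) * c := by group
        _ = c * c := by rw [hcaj]; group
        _ = a * a := by rw [hcj, zpow_two]
    refine orderOf_eq_prime_pow (p := 2) (n := 1) ?_ ?_
    · intro h
      rw [pow_one, sq, hsq, ← sq] at h
      have := orderOf_dvd_of_pow_eq_one h
      rw [hao] at this
      norm_num at this
    · rw [show (2 : ℕ) ^ (1 + 1) = 2 * 2 from rfl, pow_mul, sq, sq (a * c), hsq]
      exact haa
  · obtain ⟨e, he, hee⟩ : ∃ e : ℤ, s * c * s⁻¹ = a ^ e ∧ (e = 1 ∨ e = -1) := by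
      have h1 : s * c * s⁻¹ = (s * s) * a * (s * s)⁻¹ := by rw [hc]; group
      rcases hcov (s * s) hs2 with ⟨t, ht⟩ | ⟨t, ht⟩
      · change a ^ t = s * s at ht
        exact ⟨1, by rw [h1, ← ht, zpow_one, ((Commute.refl a).zpow_left t).eq, mul_inv_cancel_right],
          Or.inl rfl⟩
      · change a ^ t = b⁻¹ * (s * s) at ht
        refine ⟨-1, ?_, Or.inr rfl⟩
        rw [h1, show s * s = b * a ^ t by rw [ht, mul_inv_cancel_left], mul_inv_rev,
          show b * a ^ t * a * ((a ^ t)⁻¹ * b⁻¹) = b * a * b⁻¹ by group, hr]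
    have h2 : s * (a * c) * s⁻¹ = c * a ^ e := by
      rw [← he, hc]; group
    rw [h2]
    rcases hee with rfl | rfl
    · refine ⟨3, ?_⟩
      show (a * c) ^ (3 : ℤ) = c * a ^ (1 : ℤ)
      calc (a * c) ^ (3 : ℤ) = a * (c * a) * (c * a) * c := by
            simp only [zpow_ofNat, pow_succ, pow_zero, one_mul, mul_assoc]
        _ = c * a⁻¹ * (c * c) := by rw [hcaj]; group
        _ = c * a ^ (1 : ℤ) := by rw [hcj]; group
    · refine ⟨1, ?_⟩
      show (a * c) ^ (1 : ℤ) = c * a ^ (-1 : ℤ)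
      calc (a * c) ^ (1 : ℤ) = (c * a⁻¹ * c⁻¹) * c := by
            rw [zpow_one, show c * a⁻¹ * c⁻¹ = (c * a * c⁻¹)⁻¹ by group, hca', inv_inv]
        _ = c * a ^ (-1 : ℤ) := by group

/-- The inductive step. -/
theorem step (h2 : IsPGroup 2 S) (hr : Cfsg.SectionalPRankLE 2 2 S) {H M T : Subgroup S}
    (hH : Eight H) (hHM : H ≤ M) (hMT : M ≤ T) {a : S} (ha : a ∈ M) {k : ℕ}
    (hk : 2 ≤ k) (hM : Nat.card M = 2 ^ (k + 1)) (hao : orderOf a = 2 ^ k)
    (hT : Nat.card T = 2 ^ (k + 2)) : ∃ t ∈ T, orderOf t = 2 ^ (k + 1) := by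
  have hidx : (M.subgroupOf T).index = 2 := by
    have h1 := (M.subgroupOf T).card_mul_index
    rw [Nat.card_congr (subgroupOfEquivOfLe hMT).toEquiv, hM, hT, pow_succ 2 (k + 1)] at h1
    exact Nat.eq_of_mul_eq_mul_left (pow_pos two_pos _) h1
  have hmul : ∀ x ∈ T, ∀ y ∈ T, (x * y ∈ M ↔ (x ∈ M ↔ y ∈ M)) := fun x hx y hy => by
    simpa [mem_subgroupOf] using mul_mem_iff_of_index_two hidx (a := (⟨x, hx⟩ : T)) (b := ⟨y, hy⟩)
  obtain ⟨s0, hs0, hs0M⟩ : ∃ s ∈ T, s ∉ M := by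
    by_contra hne
    have : T ≤ M := fun x hx => by
      by_contra hx'
      exact hne ⟨x, hx, hx'⟩
    have h1 := card_le_of_le this
    rw [hM, hT] at h1
    exact absurd h1 (not_le.2 (Nat.pow_lt_pow_right one_lt_two (by omega)))
  have hconj : ∀ g ∈ T, ∀ x ∈ M, g * x * g⁻¹ ∈ M := by
    intro g hg x hx
    rw [hmul _ (mul_mem hg (hMT hx)) _ (inv_mem hg), hmul _ hg _ (hMT hx), inv_mem_iff]
    simp [hx]
  obtain ⟨A, hA, hAo, hAs⟩ := exists_stable hH hHM ha hk hM hao (hconj s0 hs0)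
    ((hmul _ hs0 _ hs0).2 Iff.rfl)
  obtain ⟨b, hbM, hbA, hcov, hcases⟩ := shape hH hHM hA hk hM hAo
  have hk1 : 2 ^ k = 2 * 2 ^ (k - 1) := by
    rw [← pow_succ', Nat.sub_add_cancel (by omega)]
  obtain ⟨m, hm, hm2⟩ : ∃ m : ℤ, m = 2 ^ (k - 1) ∧ (2 : ℤ) ∣ m :=
    ⟨_, rfl, dvd_pow_self _ (by omega)⟩
  have hAm : ((2 ^ k : ℕ) : ℤ) = 2 * m := by rw [hk1, hm]; push_cast; ring
  obtain ⟨r, hr', hr4, hrm⟩ : ∃ r : ℤ, b * A * b⁻¹ = A ^ r ∧ (4 : ℤ) ∣ r + 1 ∧ m ∣ r + 1 := by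
    rcases hcases with ⟨-, h1⟩ | ⟨-, h1⟩ | ⟨h0, -, h1⟩
    · exact ⟨_, h1, by norm_num, by norm_num⟩
    · exact ⟨_, h1, by norm_num, by norm_num⟩
    · refine ⟨_, h1, ?_, by rw [hm, sub_add_cancel]⟩
      rw [sub_add_cancel]
      exact (show (4 : ℤ) = 2 ^ 2 by norm_num) ▸ pow_dvd_pow 2 (by omega)
  obtain ⟨jb, hjb, hjbm⟩ : ∃ j : ℤ, b * b = A ^ j ∧ m ∣ j := by
    rcases hcases with ⟨h1, -⟩ | ⟨h1, -⟩ | ⟨-, h1, -⟩
    · exact ⟨0, by rw [h1, zpow_zero], dvd_zero _⟩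
    · exact ⟨((2 ^ (k - 1) : ℕ) : ℤ), by rw [h1, zpow_natCast], by rw [hm]; push_cast; exact dvd_rfl⟩
    · exact ⟨0, by rw [h1, zpow_zero], dvd_zero _⟩
  -- an element outside `M` acting with exponent `≡ 1 (mod 4)`
  obtain ⟨r0, hr0⟩ := mem_zpowers_iff.1 hAs
  have hodd : ∀ g : S, ∀ e : ℤ, g * A * g⁻¹ = A ^ e → ¬ (2 : ℤ) ∣ e := by
    rintro g e he ⟨t, rfl⟩
    have h1 : (A ^ (2 * t)) ^ m = 1 := by
      rw [← zpow_mul, ← orderOf_dvd_iff_zpow_eq_one, hAo, hAm]; exact ⟨t, by ring⟩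
    rw [← he, conj_zpow, conj_eq_one_iff, ← orderOf_dvd_iff_zpow_eq_one, hAo, hAm] at h1
    have hm0 : 0 < m := by rw [hm]; positivity
    obtain ⟨c, hc⟩ := h1
    rcases le_or_gt c 0 with h | h <;> nlinarith
  obtain ⟨s, hs, hsM, e, he, he4⟩ : ∃ s ∈ T, s ∉ M ∧ ∃ e : ℤ, s * A * s⁻¹ = A ^ e ∧ (4 : ℤ) ∣ e - 1 := by
    have hodd0 := hodd s0 r0 hr0.symm
    by_cases h4 : (4 : ℤ) ∣ r0 - 1
    · exact ⟨s0, hs0, hs0M, r0, hr0.symm, h4⟩
    · refine ⟨s0 * b, mul_mem hs0 (hMT hbM), fun h => hs0M (by simpa using mul_mem h (inv_mem hbM)),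
        r0 * r, ?_, ?_⟩
      · rw [show s0 * b * A * (s0 * b)⁻¹ = s0 * (b * A * b⁻¹) * s0⁻¹ by group, hr',
          conj_pw hr0.symm]
      · obtain ⟨t, ht⟩ := hr4
        obtain ⟨q, hq⟩ : (4 : ℤ) ∣ r0 + 1 := by omega
        refine ⟨4 * q * t - q - t, ?_⟩
        rw [show r0 = 4 * q - 1 by omega, show r = 4 * t - 1 by omega]
        ring
  -- its square lies in `⟨A⟩`
  obtain ⟨j, hj⟩ : ∃ j : ℤ, A ^ j = s * s := by
    rcases hcov _ ((hmul _ hs _ hs).2 Iff.rfl) with h | ⟨t, ht⟩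
    · exact h
    exfalso
    change A ^ t = b⁻¹ * (s * s) at ht
    have h1 : A ^ (e * e) = A ^ r := by
      rw [← conj_pw he e, ← he, show s * (s * A * s⁻¹) * s⁻¹ = (s * s) * A * (s * s)⁻¹ by group,
        show s * s = b * A ^ t by rw [ht, mul_inv_cancel_left], ← hr']
      group
    rw [zpow_eq hAo, hAm] at h1
    obtain ⟨u, hu⟩ := h1
    obtain ⟨q, hq⟩ := he4
    obtain ⟨v, hv⟩ := hr4
    obtain ⟨w, rfl⟩ := hm2
    have h5 : e * e - 1 = 4 * (4 * q * q + 2 * q) := by rw [show e = 4 * q + 1 by omega]; ring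
    have h6 : 2 * (2 * w) * u = 4 * (w * u) := by ring
    omega
  have he2 : (2 * m : ℤ) ∣ e * e - 1 := by
    rw [← hAm, ← zpow_eq hAo, zpow_one, ← conj_pw he e, ← he,
      show s * (s * A * s⁻¹) * s⁻¹ = (s * s) * A * (s * s)⁻¹ by group, ← hj,
      ((Commute.refl A).zpow_left j).eq, mul_inv_cancel_right]
  have hem : m ∣ e - 1 := by
    obtain ⟨q, hq⟩ := he4
    have h1 : IsCoprime m (2 * q + 1) := by
      rw [hm]; exact IsCoprime.pow_left ⟨-q, 1, by ring⟩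
    refine h1.dvd_of_dvd_mul_right ?_
    obtain ⟨c, hc⟩ := he2
    refine ⟨c, ?_⟩
    rw [show e = 4 * q + 1 by omega] at hc ⊢
    linarith
  -- conjugates of `A` by elements of `T`
  have hTconj : ∀ g ∈ T, ∃ f : ℤ, g * A * g⁻¹ = A ^ f := by
    have hMc : ∀ x ∈ M, ∃ f : ℤ, x * A * x⁻¹ = A ^ f := by
      intro x hx
      rcases hcov x hx with ⟨i, rfl⟩ | ⟨i, hi⟩
      · exact ⟨1, by rw [zpow_one]; exact mul_inv_eq_iff_eq_mul.2 ((Commute.refl A).zpow_left i).eq⟩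
      · refine ⟨r, ?_⟩
        change A ^ i = b⁻¹ * x at hi
        rw [show x = b * A ^ i by rw [hi, mul_inv_cancel_left], ← hr']
        group
    intro g hg
    by_cases hgM : g ∈ M
    · exact hMc g hgM
    · obtain ⟨f, hf⟩ := hMc (s⁻¹ * g) (by rw [hmul _ (inv_mem hs) _ hg, inv_mem_iff]; simp [hsM, hgM])
      refine ⟨e * f, ?_⟩
      rw [← conj_pw he, ← hf]
      group
  by_cases he1 : (2 * m : ℤ) ∣ e - 1
  · have hsc : Commute s A := by
      refine mul_inv_eq_iff_eq_mul.1 ?_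
      rw [he]
      conv_rhs => rw [← zpow_one A]
      rwa [zpow_eq hAo, hAm]
    rcases Int.even_or_odd' j with ⟨q, rfl | rfl⟩
    swap
    · refine ⟨s, hs, ?_⟩
      have h1 : orderOf (s ^ 2) = 2 ^ k := by
        rw [sq, ← hj, ← hAo]
        refine Nat.dvd_antisymm (orderOf_dvd_of_mem_zpowers (zpow_mem (mem_zpowers A) _))
          (orderOf_dvd_of_mem_zpowers ?_)
        obtain ⟨u, v, huv⟩ : IsCoprime (2 * q + 1) (2 * m) := by
          rw [← hAm]; push_cast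
          exact IsCoprime.pow_right ⟨1, -q, by ring⟩
        refine ⟨u, ?_⟩
        show (A ^ (2 * q + 1)) ^ u = A
        conv_rhs => rw [← zpow_one A]
        rw [← zpow_mul, zpow_eq hAo, hAm]
        exact ⟨-v, by linear_combination huv⟩
      obtain ⟨n, hn⟩ := IsPGroup.iff_orderOf.1 h2 s
      rw [orderOf_pow' s two_ne_zero, hn] at h1
      rcases Nat.eq_zero_or_pos n with rfl | hn0
      · exfalso
        exact hsM (by rw [pow_zero, orderOf_eq_one_iff] at hn; rw [hn]; exact one_mem _)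
      · rw [Nat.gcd_eq_right (dvd_pow_self 2 hn0.ne'), show 2 ^ n / 2 = 2 ^ (n - 1) by simpa using Nat.pow_div hn0 two_pos] at h1
        rw [hn, ← Nat.pow_right_injective le_rfl h1, Nat.sub_add_cancel hn0]
    exfalso
    set t := s * A ^ (-q) with ht
    have htT : t ∈ T := mul_mem hs (hMT (zpow_mem hA _))
    have htM : t ∉ M := fun h => hsM (by simpa [ht] using mul_mem h (zpow_mem hA q))
    have htA : Commute t A := hsc.mul_left ((Commute.refl A).zpow_left _)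
    have ht2 : t * t = 1 := by
      calc t * t = (s * s) * (A ^ (-q) * A ^ (-q)) := by
            rw [ht, mul_assoc s, ← mul_assoc (A ^ (-q)), ← (hsc.zpow_right (-q)).eq]; group
        _ = 1 := by rw [← hj]; group
    have hu : b * t * b⁻¹ * t⁻¹ ∈ M := by
      rw [mul_assoc, mul_assoc, ← mul_assoc t]
      exact mul_mem hbM (hconj t htT _ (inv_mem hbM))
    obtain ⟨l, hl⟩ : ∃ l : ℤ, A ^ l = b * t * b⁻¹ * t⁻¹ := by
      rcases hcov _ hu with h | ⟨i, hi⟩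
      · exact h
      exfalso
      change A ^ i = b⁻¹ * (b * t * b⁻¹ * t⁻¹) at hi
      have h1 : Commute (b * t * b⁻¹ * t⁻¹) A := by
        have h3 : Commute (b * t * b⁻¹) (A ^ r) := by
          show b * t * b⁻¹ * A ^ r = A ^ r * (b * t * b⁻¹)
          rw [← hr']
          calc b * t * b⁻¹ * (b * A * b⁻¹) = b * (t * A) * b⁻¹ := by group
            _ = b * (A * t) * b⁻¹ := by rw [htA.eq]
            _ = _ := by group
        obtain ⟨u, v, huv⟩ : IsCoprime r (2 * m) := by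
          rw [← hAm]; push_cast
          obtain ⟨q', hq'⟩ := hr4
          exact IsCoprime.pow_right ⟨-1, 2 * q', by linarith⟩
        have h4 : A = (A ^ r) ^ u := by
          conv_lhs => rw [← zpow_one A]
          rw [← zpow_mul, zpow_eq hAo, hAm]
          exact ⟨v, by linear_combination -huv⟩
        rw [h4]
        exact (h3.zpow_right u).mul_left ((h4 ▸ htA.inv_left :) )
      have h2' : b * A * b⁻¹ = A := by
        have h3 : b * A ^ i = b * t * b⁻¹ * t⁻¹ := by rw [hi, mul_inv_cancel_left]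
        rw [← h3] at h1
        calc b * A * b⁻¹ = (b * A ^ i) * A * (b * A ^ i)⁻¹ := by group
          _ = A := by rw [h1.eq, mul_inv_cancel_right]
      rw [hr'] at h2'
      conv_rhs at h2' => rw [← zpow_one A]
      rw [zpow_eq hAo, hAm] at h2'
      obtain ⟨c, hc⟩ := h2'
      obtain ⟨q', hq'⟩ := hr4
      obtain ⟨w, rfl⟩ := hm2
      have h6 : 2 * (2 * w) * c = 4 * (w * c) := by ring
      omega
    have hbt : b * t * b⁻¹ = A ^ l * t := by rw [hl, inv_mul_cancel_right]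
    have hl2 : (m : ℤ) ∣ l := by
      have h1 : (b * t * b⁻¹) * (b * t * b⁻¹) = 1 := by
        rw [show (b * t * b⁻¹) * (b * t * b⁻¹) = b * (t * t) * b⁻¹ by group, ht2]; group
      rw [hbt, mul_assoc, ← mul_assoc t, (htA.zpow_right l).eq, mul_assoc (A ^ l) t, ht2, mul_one,
        ← zpow_add, ← orderOf_dvd_iff_zpow_eq_one, hAo, hAm] at h1
      obtain ⟨c, hc⟩ := h1
      exact ⟨c, by linarith⟩
    obtain ⟨w, rfl⟩ := hm2
    obtain ⟨c, rfl⟩ := hl2
    -- an involution or element outside `M` centralising `M`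
    have key : ∀ p : ℤ, (2 * (2 * w) : ℤ) ∣ 2 * w * c + (r - 1) * p → ∀ x ∈ M, (t * A ^ p) * x = x * (t * A ^ p) := by
      intro p hp
      have h1 : Commute (t * A ^ p) A := htA.mul_left ((Commute.refl A).zpow_left p)
      have h3 : Commute (t * A ^ p) b := by
        refine Commute.symm (mul_inv_eq_iff_eq_mul.1 ?_)
        calc b * (t * A ^ p) * b⁻¹ = (b * t * b⁻¹) * (b * A ^ p * b⁻¹) := by group
          _ = t * A ^ (2 * w * c + r * p) := by
            rw [hbt, conj_pw hr', ← (htA.zpow_right _).eq, mul_assoc, ← zpow_add]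
          _ = t * A ^ p := by
            congr 1
            rw [zpow_eq hAo, hAm, show 2 * w * c + r * p - p = 2 * w * c + (r - 1) * p by ring]
            exact hp
      intro x hx
      rcases hcov x hx with ⟨i, rfl⟩ | ⟨i, hi⟩
      · exact (h1.zpow_right i).eq
      · change A ^ i = b⁻¹ * x at hi
        rw [show x = b * A ^ i by rw [hi, mul_inv_cancel_left]]
        exact (h3.mul_right (h1.zpow_right i)).eq
    obtain ⟨q', hq'⟩ := hr4
    have hp : (2 * (2 * w) : ℤ) ∣ 2 * w * c + (r - 1) * (c * w) :=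
      ⟨c * q', by rw [show r = 4 * q' - 1 by omega]; ring⟩
    have hmem := centralizer_le h2 hr hH (t * A ^ (c * w)) fun x hx => key _ hp x (hHM hx)
    exact htM (by simpa using mul_mem (hHM hmem) (zpow_mem hA (-(c * w))))
  -- the modular case
  exfalso
  obtain ⟨d, hd⟩ := hem
  have hdodd : ¬ (2 : ℤ) ∣ d := fun ⟨c, hc⟩ => he1 ⟨c, by rw [hd, hc]; ring⟩
  obtain ⟨w, rfl⟩ := hm2
  have hw2 : (2 : ℤ) ∣ w := by
    obtain ⟨q, hq⟩ := he4
    by_contra hw
    have h1 : (2 : ℤ) ∣ w * d := ⟨q, by linarith⟩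
    exact hdodd ((Int.prime_two.dvd_mul.1 h1).resolve_left hw)
  obtain ⟨w', rfl⟩ := hw2
  obtain ⟨j', rfl⟩ : (2 : ℤ) ∣ j := by
    have h1 : A ^ (e * j) = A ^ j := by
      rw [← conj_pw he, hj]; group
    rw [zpow_eq hAo, hAm, show e * j - j = 2 * (2 * w') * (d * j) by rw [← one_mul j, ← mul_assoc e, mul_one, ← sub_mul, hd]; ring] at h1
    have h3 : (2 : ℤ) ∣ d * j := by
      have h4 : (2 * (2 * w') : ℤ) ≠ 0 := by rw [hm]; positivity
      obtain ⟨c, hc⟩ := h1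
      exact ⟨c, mul_left_cancel₀ h4 (by linarith)⟩
    exact (Int.prime_two.dvd_mul.1 h3).resolve_left hdodd
  -- the exponent `u` of the square map
  set u := 1 + 2 * w' * d with hu
  have heu : e + 1 = 2 * u := by rw [hu]; linarith
  have huu : (2 * (2 * w') : ℤ) ∣ u * u - 1 := ⟨d + w' * d * d, by rw [hu]; ring⟩
  set g := s * A ^ (-(u * j')) with hg
  have hgT : g ∈ T := mul_mem hs (hMT (zpow_mem hA _))
  have hgM : g ∉ M := fun h => hsM (by simpa [hg] using mul_mem h (zpow_mem hA (u * j')))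
  have hge : g * A * g⁻¹ = A ^ e := by rw [hg, ← he]; group
  have hg2 : g * g = 1 := by
    calc g * g = (s * A ^ (-(u * j')) * s⁻¹) * (s * s) * A ^ (-(u * j')) := by rw [hg]; group
      _ = A ^ (e * (-(u * j')) + 2 * j' + -(u * j')) := by rw [conj_pw he, ← hj, ← zpow_add, ← zpow_add]
      _ = 1 := by
        rw [← orderOf_dvd_iff_zpow_eq_one, hAo, hAm]
        obtain ⟨c, hc⟩ := huu
        refine ⟨-(j' * c), ?_⟩
        rw [show e = 2 * u - 1 by linarith]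
        linear_combination (-2 * j') * hc
  have hbg : b * g * b⁻¹ * g⁻¹ ∈ M := by
    rw [mul_assoc, mul_assoc, ← mul_assoc g]
    exact mul_mem hbM (hconj g hgT _ (inv_mem hbM))
  obtain ⟨l, hl⟩ : ∃ l : ℤ, A ^ l = b * g * b⁻¹ * g⁻¹ := by
    rcases hcov _ hbg with h | ⟨i, hi⟩
    · exact h
    exfalso
    change A ^ i = b⁻¹ * (b * g * b⁻¹ * g⁻¹) at hi
    have h3 : b * A ^ i = b * g * b⁻¹ * g⁻¹ := by rw [hi, mul_inv_cancel_left]
    have hgi : g⁻¹ * A * g = A ^ e := by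
      rw [inv_eq_of_mul_eq_one_left hg2]
      conv_lhs => arg 2; rw [← inv_eq_of_mul_eq_one_left hg2]
      exact hge
    have h4 : b * A * b⁻¹ = b * g * b⁻¹ * g⁻¹ * A * (b * g * b⁻¹ * g⁻¹)⁻¹ := by rw [← h3]; group
    rw [show b * g * b⁻¹ * g⁻¹ * A * (b * g * b⁻¹ * g⁻¹)⁻¹ =
      b * (g * (b⁻¹ * (g⁻¹ * A * g) * b) * g⁻¹) * b⁻¹ by group, hgi] at h4
    obtain ⟨r', hr2⟩ : ∃ r' : ℤ, b⁻¹ * A * b⁻¹⁻¹ = A ^ r' := hTconj _ (inv_mem (hMT hbM))
    rw [inv_inv] at hr2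
    rw [show b⁻¹ * A ^ e * b = b⁻¹ * A ^ e * b⁻¹⁻¹ by group, conj_pw (by rwa [inv_inv]), conj_pw hge,
      conj_pw hr', hr'] at h4
    have h5 : A ^ (r * r') = A ^ (1 : ℤ) := by rw [← conj_pw hr', ← hr2]; group
    rw [zpow_eq hAo, hAm] at h4 h5
    obtain ⟨c, hc⟩ := h4
    obtain ⟨c', hc'⟩ := h5
    obtain ⟨c2, hc2⟩ := huu
    obtain ⟨q', hq'⟩ := hr4
    have h6 : r - 1 = 4 * (2 * w') * (c + c' * e * e) + 4 * u * d * (2 * w') := by
      have h7 : e * e - 1 = 4 * u * d * (2 * w') := by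
        rw [show e = 2 * u - 1 by linarith, hu]; ring
      linear_combination hc + (e * e) * hc' + h7
    have h8 : 4 * (2 * w') * (c + c' * e * e) + 4 * u * d * (2 * w') =
        4 * ((2 * w') * (c + c' * e * e) + u * d * (2 * w')) := by ring
    omega
  have hbgb : b * g * b⁻¹ = A ^ l * g := by rw [hl, inv_mul_cancel_right]
  obtain ⟨l', rfl⟩ : (2 : ℤ) ∣ l := by
    have h1 : (b * g * b⁻¹) * (b * g * b⁻¹) = 1 := by
      rw [show (b * g * b⁻¹) * (b * g * b⁻¹) = b * (g * g) * b⁻¹ by group, hg2]; group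
    have hgi : g⁻¹ = g := inv_eq_of_mul_eq_one_left hg2
    rw [hbgb, show A ^ l * g * (A ^ l * g) = A ^ l * (g * A ^ l * g⁻¹) * (g * g) by group, hg2,
      mul_one, conj_pw hge, ← zpow_add, ← orderOf_dvd_iff_zpow_eq_one, hAo, hAm] at h1
    obtain ⟨c, hc⟩ := h1
    obtain ⟨c2, hc2⟩ := huu
    refine ⟨w' * (2 * c * u - 2 * l * c2), ?_⟩
    have h9 : l * u * u = 2 * w' * (2 * c) * u := by
      have h10 : l * u = 2 * w' * (2 * c) := by
        rw [show e = 2 * u - 1 by linarith] at hc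
        linarith
      rw [h10]
    linear_combination h9 - l * hc2
  -- the section of rank three
  set Z := (zpowers (A ^ (2 : ℤ))).subgroupOf T with hZ
  have hZn : Z.Normal := by
    refine ⟨fun x hx y => ?_⟩
    rw [hZ, mem_subgroupOf] at hx ⊢
    obtain ⟨i, hi⟩ := hx
    change (A ^ (2 : ℤ)) ^ i = (x : S) at hi
    obtain ⟨f, hf⟩ := hTconj (y : S) y.2
    refine ⟨f * i, ?_⟩
    show (A ^ (2 : ℤ)) ^ (f * i) = (y : S) * x * (y : S)⁻¹
    rw [← hi, ← zpow_mul A 2 i, conj_pw hf, ← zpow_mul]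
    congr 1
    ring
  let q : T →* T ⧸ Z := QuotientGroup.mk' Z
  have hAT : A ∈ T := hMT hA
  have hbT : b ∈ T := hMT hbM
  have hq1 : ∀ (x : S) (hx : x ∈ T), (∃ i : ℤ, x = A ^ (2 * i)) → q ⟨x, hx⟩ = 1 := by
    rintro x hx ⟨i, rfl⟩
    refine (QuotientGroup.eq_one_iff _).2 ?_
    rw [hZ, mem_subgroupOf]
    exact ⟨i, by show (A ^ (2 : ℤ)) ^ i = _; rw [← zpow_mul]⟩
  set x1 := q ⟨A, hAT⟩
  set x2 := q ⟨b, hbT⟩
  set x3 := q ⟨g, hgT⟩
  have e1 : x1 * x1 = 1 := by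
    rw [← map_mul]; exact hq1 _ _ ⟨1, by rw [mul_one, zpow_two]⟩
  have e2 : x2 * x2 = 1 := by
    obtain ⟨c, hc⟩ := hjbm
    rw [← map_mul]; exact hq1 _ _ ⟨2 * w' * c, by
      show b * b = _; rw [hjb, hc]; congr 1; ring⟩
  have e3 : x3 * x3 = 1 := by
    rw [← map_mul]; exact hq1 _ _ ⟨0, by show g * g = _; rw [hg2, mul_zero, zpow_zero]⟩
  have hcomm : ∀ (x y : S) (hx : x ∈ T) (hy : y ∈ T),
      (∃ i : ℤ, x * y * x⁻¹ * y⁻¹ = A ^ (2 * i)) → Commute (q ⟨x, hx⟩) (q ⟨y, hy⟩) := by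
    intro x y hx hy hi
    have h1 := hq1 (x * y * x⁻¹ * y⁻¹)
      (mul_mem (mul_mem (mul_mem hx hy) (inv_mem hx)) (inv_mem hy)) hi
    rw [show (⟨x * y * x⁻¹ * y⁻¹, _⟩ : T) = (⟨x, hx⟩ : T) * ⟨y, hy⟩ * (⟨x, hx⟩ : T)⁻¹ * (⟨y, hy⟩ : T)⁻¹ from rfl,
      map_mul, map_mul, map_mul, map_inv, map_inv, mul_inv_eq_one, mul_inv_eq_iff_eq_mul] at h1
    exact h1
  have c21 : Commute x2 x1 := by
    refine hcomm _ _ _ _ ?_
    obtain ⟨q', hq'⟩ := hr4
    exact ⟨2 * q' - 1, by rw [hr', ← zpow_neg_one, ← zpow_add]; congr 1; omega⟩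
  have c31 : Commute x3 x1 := by
    refine hcomm _ _ _ _ ⟨u - 1, ?_⟩
    rw [hge, ← zpow_neg_one, ← zpow_add]; congr 1; linarith
  have c23 : Commute x2 x3 := hcomm _ _ _ _ ⟨l', hl.symm⟩
  have hgen : ∀ x : T, q x ∈ closure ({x1, x2, x3} : Set (T ⧸ Z)) := by
    have hMgen : ∀ (x : S) (hx : x ∈ T), x ∈ M → q ⟨x, hx⟩ ∈ closure ({x1, x2, x3} : Set (T ⧸ Z)) := by
      intro x hx hxM
      have hA1 : ∀ i : ℤ, q ⟨A ^ i, zpow_mem hAT i⟩ ∈ closure ({x1, x2, x3} : Set (T ⧸ Z)) := fun i => by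
        rw [show (⟨A ^ i, zpow_mem hAT i⟩ : T) = (⟨A, hAT⟩ : T) ^ i from rfl, map_zpow]
        exact zpow_mem (subset_closure (by simp [x1])) i
      rcases hcov x hxM with ⟨i, hi⟩ | ⟨i, hi⟩
      · change A ^ i = x at hi
        subst hi
        exact hA1 i
      · change A ^ i = b⁻¹ * x at hi
        obtain rfl : x = b * A ^ i := by rw [hi, mul_inv_cancel_left]
        rw [show (⟨b * A ^ i, hx⟩ : T) = (⟨b, hbT⟩ : T) * ⟨A ^ i, zpow_mem hAT i⟩ from rfl, map_mul]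
        exact mul_mem (subset_closure (by simp [x2])) (hA1 i)
    rintro ⟨x, hx⟩
    by_cases hxM : x ∈ M
    · exact hMgen x hx hxM
    · have h1 := hMgen (g⁻¹ * x) (mul_mem (inv_mem hgT) hx)
        (by rw [hmul _ (inv_mem hgT) _ hx, inv_mem_iff]; simp [hgM, hxM])
      rw [show (⟨x, hx⟩ : T) = (⟨g, hgT⟩ : T) * ⟨g⁻¹ * x, mul_mem (inv_mem hgT) hx⟩ from
        Subtype.ext (mul_inv_cancel_left g x).symm, map_mul]
      exact mul_mem (subset_closure (by simp [x3])) h1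
  have hcl : ∀ y ∈ closure ({x1, x2, x3} : Set (T ⧸ Z)), y * y = 1 := by
    have hc : IsMulCommutative (closure ({x1, x2, x3} : Set (T ⧸ Z))) := by
      refine isMulCommutative_closure ?_
      rintro x (rfl | rfl | rfl) y (rfl | rfl | rfl)
      exacts [rfl, c21.eq.symm, c31.eq.symm, c21.eq, rfl, c23.eq, c31.eq, c23.eq.symm, rfl]
    intro y hy
    induction hy using closure_induction with
    | mem z hz => rcases hz with rfl | rfl | rfl <;> assumption
    | one => exact mul_one _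
    | mul v v' hv hv' iv iv' =>
      have h1 : v' * v = v * v' := congrArg Subtype.val (hc.is_comm.comm ⟨v', hv'⟩ ⟨v, hv⟩)
      rw [mul_assoc v v', ← mul_assoc v' v v', h1, mul_assoc v v' v', iv', mul_one, iv]
    | inv v _ iv => rw [← mul_inv_rev, iv, inv_one]
  refine section_bound hr T Z ?_ fun x => ?_
  · rw [hZ, Nat.card_congr (subgroupOfEquivOfLe (zpowers_le.2 (zpow_mem hAT 2))).toEquiv,
      Nat.card_zpowers, zpow_ofNat, orderOf_pow' A two_ne_zero, hAo,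
      Nat.gcd_eq_right (dvd_pow_self 2 (by omega)), hk1, Nat.mul_div_cancel_left _ two_pos, hT,
      show k + 2 = (k - 1) + 3 by omega, pow_add 2 (k - 1) 3]
    linarith
  · rw [← QuotientGroup.eq_one_iff]
    show q (x * x) = 1
    rw [map_mul]
    exact hcl _ (hgen x)

theorem cyclic_max (h2 : IsPGroup 2 S) (hr : Cfsg.SectionalPRankLE 2 2 S) {H : Subgroup S}
    (hH : Eight H) : ∀ (n : ℕ) (T : Subgroup S), H ≤ T → Nat.card T = 2 ^ (n + 3) →
      ∃ a ∈ T, orderOf a = 2 ^ (n + 2) := by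
  have : Fact (Nat.Prime 2) := ⟨Nat.prime_two⟩
  intro n
  induction n with
  | zero =>
    intro T hHT hT
    obtain ⟨x, hx, y, hy, hxy⟩ := hH.nonab
    obtain ⟨C, hC, hi⟩ := Classify.cyclic_max_of_order_eight hT
      ⟨⟨x, hHT hx⟩, ⟨y, hHT hy⟩, fun h => hxy (congrArg Subtype.val h)⟩
    obtain ⟨⟨c, hc⟩, hgen⟩ := hC.exists_generator
    refine ⟨c, c.2, ?_⟩
    have h1 := C.card_mul_index
    rw [hi, hT] at h1
    rw [Subgroup.orderOf_coe]
    have h3 := orderOf_eq_card_of_forall_mem_zpowers hgen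
    rw [Subgroup.orderOf_mk] at h3
    norm_num at h1 ⊢
    omega
  | succ n ih =>
    intro T hHT hT
    obtain ⟨K, hK, hHK⟩ := Sylow.exists_subgroup_card_pow_prime_le (G := T) 2 (m := n + 3)
      (by rw [hT]; exact pow_dvd_pow 2 (by omega)) (H.subgroupOf T) (n := 3)
      (by rw [Nat.card_congr (subgroupOfEquivOfLe hHT).toEquiv, hH.card]; norm_num) (by omega)
    have hHM : H ≤ K.map T.subtype := fun x hx => ⟨⟨x, hHT hx⟩, hHK (mem_subgroupOf.2 hx), rfl⟩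
    have hM : Nat.card (K.map T.subtype) = 2 ^ (n + 3) := by
      rw [card_map_of_injective T.subtype_injective, hK]
    obtain ⟨a, ha, hao⟩ := ih _ hHM hM
    exact step h2 hr hH hHM (map_subtype_le K) ha (by omega) hM hao hT


/-- Let S be a finite 2-group of sectional 2-rank at most 2 that contains a subgroup isomorphic to the dihedral group of order 8 or to the quaternion group of order 8. Then S is dihedral of order at least 8, semidihedral of order at least 16 (order 2^(k+4) with an element a of order 2^(k+3) and an involution b with b a b⁻¹ = a^(2^(k+2)−1)), or generalized quaternion of order at least 8. -/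
theorem result {S : Type*} [Group S] [Finite S] (h2 : IsPGroup 2 S) (hr : Cfsg.SectionalPRankLE 2 2 S)
    (hsub : ∃ H : Subgroup S, Nonempty (↥H ≃* DihedralGroup 4) ∨ Nonempty (↥H ≃* QuaternionGroup 2)) :
    ((∃ k : ℕ, Nonempty (S ≃* DihedralGroup (2 ^ (k + 2)))) ∨
      (∃ k : ℕ, Nat.card S = 2 ^ (k + 4) ∧ ∃ a b : S, orderOf a = 2 ^ (k + 3) ∧ orderOf b = 2 ∧ b * a * b⁻¹ = a ^ (2 ^ (k + 2) - 1)) ∨
      (∃ k : ℕ, Nonempty (S ≃* QuaternionGroup (2 ^ (k + 1))))) := by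
  obtain ⟨H, hH⟩ := hsub
  have hE := eight_of_hyp H hH
  have : Fact (Nat.Prime 2) := ⟨Nat.prime_two⟩
  obtain ⟨N, hN⟩ := h2.exists_card_eq
  have hle : 8 ≤ Nat.card S := hE.card ▸ Nat.le_of_dvd Nat.card_pos (card_subgroup_dvd_card H)
  obtain ⟨n, rfl⟩ : ∃ n, N = n + 3 := ⟨N - 3, by
    have : 3 ≤ N := (Nat.pow_le_pow_iff_right one_lt_two).1 (by norm_num; omega)
    omega⟩
  obtain ⟨a, -, ha⟩ := cyclic_max h2 hr hE n ⊤ le_top (by rw [Subgroup.card_top, hN])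
  obtain ⟨b, -, hb, -, hcases⟩ := shape hE (T := ⊤) le_top (Subgroup.mem_top a) (k := n + 2) (by omega)
    (by rw [Subgroup.card_top, hN]) ha
  rcases hcases with ⟨h1, h3⟩ | ⟨h1, h3⟩ | ⟨h0, h1, h3⟩
  · refine Or.inl ⟨n, CfsgLib.TwoGroups.CyclicMax.dihedral_iso ha ?_ hb h1 (h3.trans (zpow_neg_one a))⟩
    rw [hN, ← pow_succ']
  · refine Or.inr (Or.inr ⟨n, CfsgLib.TwoGroups.CyclicMax.quaternion_iso (pow_ne_zero _ two_ne_zero)
      ?_ ?_ hb ?_ (h3.trans (zpow_neg_one a))⟩)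
    · rw [ha, ← pow_succ']
    · rw [hN, show (4 : ℕ) = 2 ^ 2 from rfl, ← pow_add]; congr 1; omega
    · simpa using h1
  · obtain ⟨j, rfl⟩ : ∃ j, n = j + 1 := ⟨n - 1, by omega⟩
    refine Or.inr (Or.inl ⟨j, by rw [hN], a, b, ha, orderOf_eq_prime (by rw [sq, h1])
      (fun e => hb (e ▸ one_mem _)), ?_⟩)
    rw [h3, ← zpow_natCast a, Nat.cast_sub Nat.one_le_two_pow]
    simp

end Cfsg.Agent.S4398
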