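import Cfsg.Statements.S2553
import Cfsg.Agent.Lib.PGroup.SubgroupsA8
import Cfsg.Agent.Lib.Sporadic.LinearEight
import Cfsg.Agent.Lib.Sporadic.SimpleIso168
import Cfsg.Agent.Lib.Classical.SLBasic
import Mathlib

set_option autoImplicit false
set_option linter.style.haveILetI false
open Cfsg

namespace Cfsg.Agent.S2553

open scoped Pointwise
open CfsgLib.PGroup.TrivialCores CfsgLib.PGroup.SubgroupsA8

theorem simple_gl3 : IsSimpleGroup (GL (Fin 3) (ZMod 2)) := by
  haveI := CfsgLib.Classical.psl_fin_isSimpleGroup (F := ZMod 2) (k := 3) (by norm_num) (by norm_num)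
  have hz : Subgroup.center (Matrix.SpecialLinearGroup (Fin 3) (ZMod 2)) = ⊥ := by
    refine eq_bot_iff.mpr fun A hA => ?_
    obtain ⟨r, hr, hrA⟩ := Matrix.SpecialLinearGroup.mem_center_iff.mp hA
    have h2 : ∀ a : ZMod 2, a ^ Fintype.card (Fin 3) = 1 → a = 1 := by decide
    rw [h2 r hr, map_one] at hrA
    exact Subgroup.mem_bot.mpr (Subtype.ext hrA.symm)
  let e0 := QuotientGroup.quotientBot (G := Matrix.SpecialLinearGroup (Fin 3) (ZMod 2))
  let e1 : Matrix.ProjectiveSpecialLinearGroup (Fin 3) (ZMod 2) ≃* Matrix.SpecialLinearGroup (Fin 3) (ZMod 2) :=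
    (QuotientGroup.quotientMulEquivOfEq hz).trans e0
  haveI : IsSimpleGroup (Matrix.SpecialLinearGroup (Fin 3) (ZMod 2)) := e1.symm.isSimpleGroup
  have hbij : Function.Bijective (Matrix.SpecialLinearGroup.toGL : Matrix.SpecialLinearGroup (Fin 3) (ZMod 2) →* GL (Fin 3) (ZMod 2)) := by
    refine ⟨fun A B h => Subtype.ext (congrArg Units.val h :), fun g => ?_⟩
    have hdet : (g : Matrix (Fin 3) (Fin 3) (ZMod 2)).det = 1 := by
      have h2 : ∀ a : ZMod 2, a ≠ 0 → a = 1 := by decide
      exact h2 _ ((Matrix.GeneralLinearGroup.det g).ne_zero)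
    exact ⟨⟨g.1, hdet⟩, Units.ext rfl⟩
  exact (MulEquiv.ofBijective _ hbij).symm.isSimpleGroup

theorem fixed_of_small_orbit {G Y : Type*} [Group G] [Finite G] [IsSimpleGroup G] [MulAction G Y] [Finite Y]
    (hG : Nat.card G = 1344) {x : Y} (hx : Nat.card (MulAction.orbit G x) ≤ 7) (g : G) : g • x = x := by
  rcases (inferInstance : (MulAction.toPermHom G (MulAction.orbit G x)).ker.Normal).eq_bot_or_eq_top with hb | ht
  · exfalso
    have hd := Subgroup.card_dvd_of_injective _ ((MonoidHom.ker_eq_bot_iff _).mp hb)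
    rw [hG, Nat.card_perm] at hd
    exact absurd (hd.trans (Nat.factorial_dvd_factorial hx)) (by decide)
  · have hg : g ∈ (MulAction.toPermHom G (MulAction.orbit G x)).ker := ht ▸ Subgroup.mem_top g
    exact congrArg Subtype.val (DFunLike.congr_fun (MonoidHom.mem_ker.mp hg) ⟨x, MulAction.mem_orbit_self x⟩)

theorem classes_card : ∀ v : Fin 4 → ZMod 2, v ≠ 0 →
    (((Finset.univ.erase 0).erase v).image (fun w => ({w, w + v} : Finset (Fin 4 → ZMod 2)))).card ≤ 7 := by
  decide +kernel

theorem not_simple_1344 (H : Subgroup (GL (Fin 4) (ZMod 2))) [IsSimpleGroup H] (hH : Nat.card H = 1344) : False := by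
  letI : MulAction H (Fin 4 → ZMod 2) :=
    { smul := fun g v => ((g : GL (Fin 4) (ZMod 2)) : Matrix (Fin 4) (Fin 4) (ZMod 2)).mulVec v
      one_smul := fun v => Matrix.one_mulVec v
      mul_smul := fun g h v => (Matrix.mulVec_mulVec v _ _).symm }
  have hadd : ∀ (g : H) (v w : Fin 4 → ZMod 2), g • (v + w) = g • v + g • w := fun g v w => Matrix.mulVec_add _ v w
  have hzero : ∀ g : H, g • (0 : Fin 4 → ZMod 2) = 0 := fun g => Matrix.mulVec_zero _
  have hfaith : ∀ g : H, (∀ v : Fin 4 → ZMod 2, g • v = v) → g = 1 := fun g hg => by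
    refine Subtype.ext (Units.ext ?_)
    exact Matrix.mulVec_injective (funext fun v => (hg v).trans (Matrix.one_mulVec v).symm)
  haveI : Finite H := inferInstance
  -- a vector fixed by a Sylow 2-subgroup
  haveI := Fact.mk Nat.prime_two
  let P : Sylow 2 H := default
  letI : MulAction P {v : Fin 4 → ZMod 2 // v ≠ 0} :=
    { smul := fun g v => ⟨(g : H) • v.1, fun h => v.2 (MulAction.injective (g : H) (h.trans (hzero _).symm))⟩
      one_smul := fun v => Subtype.ext (one_smul H v.1)
      mul_smul := fun g h v => Subtype.ext (mul_smul (g : H) (h : H) v.1) }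
  obtain ⟨⟨v, hv⟩, hvP⟩ := P.isPGroup'.nonempty_fixed_point_of_prime_not_dvd_card {v : Fin 4 → ZMod 2 // v ≠ 0}
    (by rw [Nat.card_eq_fintype_card, Fintype.card_subtype_compl, Fintype.card_subtype_eq, Fintype.card_fun, ZMod.card, Fintype.card_fin]; norm_num)
  have hle : (P : Subgroup H) ≤ MulAction.stabilizer H v := fun g hg => congrArg Subtype.val (hvP ⟨g, hg⟩)
  have hd21 : (MulAction.stabilizer H v).index ∣ 21 := by
    refine (Subgroup.index_dvd_of_le hle).trans ?_
    have hc := (P : Subgroup H).card_mul_index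
    have hP64 : Nat.card (P : Subgroup H) = 64 := by
      have h1 := P.card_eq_multiplicity
      rw [hH, show (1344 : ℕ) = 2 ^ 6 * 21 from rfl, Nat.factorization_mul_apply_of_coprime (by norm_num),
        Nat.Prime.factorization_pow Nat.prime_two, Finsupp.single_eq_same,
        Nat.factorization_eq_zero_of_not_dvd (by norm_num : ¬ 2 ∣ 21)] at h1
      exact h1
    rw [hP64, hH] at hc
    rw [show (P : Subgroup H).index = 21 by omega]
  rw [MulAction.index_stabilizer] at hd21
  have hlt : (MulAction.orbit H v).ncard ≤ 16 := by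
    refine (Set.ncard_le_card _).trans ?_
    simp [Nat.card_eq_fintype_card]
  have hvfix : ∀ g : H, g • v = v := fixed_of_small_orbit hH (by
    rw [Nat.card_coe_set_eq]
    have := Nat.le_of_dvd (by norm_num) hd21
    interval_cases h : (MulAction.orbit H v).ncard <;> omega)
  -- every pair `{w, w + v}` is fixed
  have hclass : ∀ w : Fin 4 → ZMod 2, w ≠ 0 → w ≠ v → ∀ g : H,
      g • ({w, w + v} : Finset (Fin 4 → ZMod 2)) = {w, w + v} := by
    intro w hw0 hwv
    refine fixed_of_small_orbit hH (le_trans ?_ (classes_card v hv))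
    rw [Nat.card_coe_set_eq, ← Set.ncard_coe_finset]
    refine Set.ncard_le_ncard ?_ (Finset.finite_toSet _)
    rintro _ ⟨g, rfl⟩
    rw [Finset.coe_image]
    refine ⟨g • w, ?_, ?_⟩
    · simp only [Finset.mem_coe, Finset.mem_erase, Finset.mem_univ, and_true]
      exact ⟨fun h => hwv (MulAction.injective g (h.trans (hvfix g).symm)),
        fun h => hw0 (MulAction.injective g (h.trans (hzero g).symm))⟩
    · simp only [Finset.smul_finset_insert, Finset.smul_finset_singleton, hadd, hvfix]
  have hsq : ∀ g : H, g * g = 1 := by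
    intro g
    refine hfaith _ fun w => ?_
    rw [mul_smul]
    by_cases hw0 : w = 0
    · rw [hw0, hzero, hzero]
    by_cases hwv : w = v
    · rw [hwv, hvfix, hvfix]
    have hm : g • w ∈ ({w, w + v} : Finset (Fin 4 → ZMod 2)) := by
      rw [← hclass w hw0 hwv g]
      exact Finset.smul_mem_smul_finset (Finset.mem_insert_self _ _)
    rw [Finset.mem_insert, Finset.mem_singleton] at hm
    rcases hm with h | h
    · rw [h, h]
    · rw [h, hadd, h, hvfix, add_assoc]
      have h2 : ∀ a : Fin 4 → ZMod 2, a + a = 0 := fun a => funext fun i => CharTwo.add_self_eq_zero (a i)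
      rw [h2, add_zero]
  have hab : ∀ a b : H, a * b = b * a := fun a b => by
    have hinv : ∀ x : H, x⁻¹ = x := fun x => inv_eq_of_mul_eq_one_right (hsq x)
    rw [← hinv (a * b), mul_inv_rev, hinv, hinv]
  letI : CommGroup H := { (inferInstance : Group H) with mul_comm := hab }
  have hp : (Nat.card H).Prime := IsSimpleGroup.prime_card
  rw [hH] at hp
  norm_num at hp

/-- Let H be a nontrivial subgroup of GL(4,2) (a group isomorphic to the alternating group of degree 8) whose largest normal 2-subgroup and largest normal subgroup of odd order are both trivial. Then H is isomorphic to an alternating group of degree n for some 5 ≤ n ≤ 8, to the symmetric group of degree 5 or 6, or to GL(3,2). -/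
theorem result (H : Subgroup (GL (Fin 4) (ZMod 2))) (hH : H ≠ ⊥) (hO : Cfsg.pPrimeCore 2 ↥H = ⊥) (hO2 : Cfsg.pCore 2 ↥H = ⊥) :
    (∃ n : ℕ, 5 ≤ n ∧ n ≤ 8 ∧ Nonempty (↥H ≃* alternatingGroup (Fin n))) ∨
    Nonempty (↥H ≃* Equiv.Perm (Fin 5)) ∨ Nonempty (↥H ≃* Equiv.Perm (Fin 6)) ∨ Nonempty (↥H ≃* GL (Fin 3) (ZMod 2)) := by
  obtain ⟨e⟩ := CfsgLib.Sporadic.LinearEight.gl_four_two (F := ZMod 2) (ZMod.card 2)
  let f : GL (Fin 4) (ZMod 2) →* Equiv.Perm (Fin 8) := (alternatingGroup (Fin 8)).subtype.comp e.toMonoidHom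
  have hf : Function.Injective f := Subtype.val_injective.comp e.injective
  let K := H.map f
  let eK : H ≃* K := H.equivMapOfInjective f hf
  have hK : K ≤ alternatingGroup (Fin 8) := by
    rintro _ ⟨g, -, rfl⟩
    exact (e g).2
  have hGood : Good H := ⟨fun h1 => hH (Subgroup.eq_bot_of_card_eq H h1), hO2, hO⟩
  rcases classification hK (hGood.of_equiv eK) with ⟨n, h5, h8, ⟨g⟩⟩ | ⟨⟨g⟩⟩ | ⟨⟨g⟩⟩ | ⟨hs, hc⟩
  · exact Or.inl ⟨n, h5, h8, ⟨eK.trans g⟩⟩
  · exact Or.inr (Or.inl ⟨eK.trans g⟩)
  · exact Or.inr (Or.inr (Or.inl ⟨eK.trans g⟩))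
  · haveI := hs
    haveI : IsSimpleGroup H := eK.isSimpleGroup
    rw [← Nat.card_congr eK.toEquiv] at hc
    rcases hc with hc | hc
    · haveI := simple_gl3
      refine Or.inr (Or.inr (Or.inr (CfsgLib.Sporadic.SimpleIso168.unique hc ?_)))
      rw [Matrix.card_GL_field, ZMod.card]
      decide +kernel
    · exact (not_simple_1344 H hc).elim

end Cfsg.Agent.S2553
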