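import Cfsg.Statements.S0498
import Cfsg.Agent.Lib.SmallGroups.PSLPrime

set_option autoImplicit false
open Cfsg

namespace Cfsg.Agent.S0498

/-- A simple group of order 660, respectively 1092, is isomorphic to the projective special linear group of dimension 2
over the field with 11, respectively 13, elements. -/
theorem result {G : Type*} [Group G] [Finite G] [IsSimpleGroup G] (p : ℕ)
    (hp : p = 11 ∨ p = 13) (h : 2 * Nat.card G = p * (p ^ 2 - 1)) {F : Type*} [Field F] [Fintype F]
    (hF : Fintype.card F = p) : Nonempty (G ≃* Matrix.ProjectiveSpecialLinearGroup (Fin 2) F) := by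
  rcases hp with rfl | rfl
  · have : Fact (Nat.Prime 11) := ⟨by norm_num⟩
    have hc : Nat.card G = 660 := by norm_num at h; omega
    refine CfsgLib.SmallGroups.PSLPrime.psl 11 5 (by rw [hc]) (by norm_num) (by norm_num) ?_ (fun k hk => ?_) hF
    · have hn : ¬ IsMulCommutative G := CfsgLib.SmallGroups.SimpleTools.not_comm_of_card (by rw [hc]; norm_num)
      have h1 := CfsgLib.SmallGroups.SimpleTools.card_sylow_ne_one (p := 11) hn (by rw [hc]; norm_num)
      have h2 := CfsgLib.SmallGroups.SimpleTools.card_sylow_mem (p := 11) (k := 1) (m := 60) (G := G) (by rw [hc]; norm_num) (by norm_num)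
      rw [show (60 : ℕ).divisors.filter (fun n => n % 11 = 1) = {1, 12} from by decide +kernel] at h2
      simp only [Finset.mem_insert, Finset.mem_singleton] at h2
      omega
    · rcases Nat.lt_or_ge k 5 with hk5 | hk5
      · interval_cases k <;> norm_num at hk
      · have := Nat.pow_le_pow_right (show 0 < 2 by norm_num) hk5
        omega
  · have : Fact (Nat.Prime 13) := ⟨by norm_num⟩
    have hc : Nat.card G = 1092 := by norm_num at h; omega
    refine CfsgLib.SmallGroups.PSLPrime.psl 13 6 (by rw [hc]) (by norm_num) (by norm_num) ?_ (fun k hk => ?_) hF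
    · have hn : ¬ IsMulCommutative G := CfsgLib.SmallGroups.SimpleTools.not_comm_of_card (by rw [hc]; norm_num)
      have h1 := CfsgLib.SmallGroups.SimpleTools.card_sylow_ne_one (p := 13) hn (by rw [hc]; norm_num)
      have h2 := CfsgLib.SmallGroups.SimpleTools.card_sylow_mem (p := 13) (k := 1) (m := 84) (G := G) (by rw [hc]; norm_num) (by norm_num)
      rw [show (84 : ℕ).divisors.filter (fun n => n % 13 = 1) = {1, 14} from by decide +kernel] at h2
      simp only [Finset.mem_insert, Finset.mem_singleton] at h2
      omega
    · rcases Nat.lt_or_ge k 5 with hk5 | hk5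
      · interval_cases k <;> norm_num at hk
      · have := Nat.pow_le_pow_right (show 0 < 2 by norm_num) hk5
        omega

end Cfsg.Agent.S0498
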