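import Cfsg.Statements.S1021
import Cfsg.Agent.Lib.SmallGroups.PSLPrime
-- import your own Cfsg.Agent.* helpers here

set_option autoImplicit false
open Cfsg

namespace Cfsg.Agent.S1021

/-- A simple group of order 3420 is isomorphic to the projective special linear group of dimension 2 over the field with 19 elements. -/
theorem result {G : Type*} [Group G] [Finite G] [IsSimpleGroup G] (h : Nat.card G = 3420) {F : Type*} [Field F] [Fintype F] (hF : Fintype.card F = 19) : Nonempty (G ≃* Matrix.ProjectiveSpecialLinearGroup (Fin 2) F) := by
  have : Fact (Nat.Prime 19) := ⟨by norm_num⟩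
  refine CfsgLib.SmallGroups.PSLPrime.psl 19 9 (by rw [h]) (by norm_num) (by norm_num) ?_ (fun k hk => ?_) hF
  · have hG : ¬ IsMulCommutative G := CfsgLib.SmallGroups.SimpleTools.not_comm_of_card (by rw [h]; norm_num)
    have h1 := CfsgLib.SmallGroups.SimpleTools.card_sylow_ne_one (p := 19) hG (by rw [h]; norm_num)
    have h2 := CfsgLib.SmallGroups.SimpleTools.card_sylow_mem (p := 19) (k := 1) (m := 180) (G := G) (by rw [h]; norm_num) (by norm_num)
    rw [show (180 : ℕ).divisors.filter (fun n => n % 19 = 1) = {1, 20} from by decide +kernel] at h2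
    simp only [Finset.mem_insert, Finset.mem_singleton] at h2
    omega
  · rcases Nat.lt_or_ge k 5 with hk5 | hk5
    · interval_cases k <;> norm_num at hk
    · have := Nat.pow_le_pow_right (show 0 < 2 by norm_num) hk5
      omega

end Cfsg.Agent.S1021
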