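import Cfsg.Statements.S4774
import Cfsg.Agent.Lib.DegreeTools.SL2Degrees
import Mathlib.FieldTheory.Finite.Basic

set_option autoImplicit false
open Cfsg CfsgLib.DegreeTools

namespace Cfsg.Agent.S4774

/-- Let F be a finite field of odd characteristic t with q > 5 elements and let S be isomorphic to PSL(2,F) or to SL(2,F). Then the vertices of the character degree graph of S are the primes dividing q(q²−1); the prime t is adjacent to no vertex; two distinct primes dividing q² − 1 are adjacent exactly when one of them is 2, or both divide q + 1, or both divide q − 1. -/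
theorem result (F : Type*) [Field F] [Fintype F] (t : ℕ) [Fact t.Prime] [CharP F t] (ht : t ≠ 2) (q : ℕ) (hq : Fintype.card F = q) (h5 : 5 < q) {S : Type*} [Group S] [Finite S] (hS : Nonempty (S ≃* Matrix.ProjectiveSpecialLinearGroup (Fin 2) F) ∨ Nonempty (S ≃* Matrix.SpecialLinearGroup (Fin 2) F)) : Cfsg.degreePrimes S = {r : ℕ | r.Prime ∧ r ∣ q * (q ^ 2 - 1)} ∧ ∀ r s : ℕ, (Cfsg.degreeGraph S).Adj r s ↔ (r ≠ s ∧ r.Prime ∧ s.Prime ∧ r ∣ q ^ 2 - 1 ∧ s ∣ q ^ 2 - 1 ∧ (r = 2 ∨ s = 2 ∨ (r ∣ q + 1 ∧ s ∣ q + 1) ∨ (r ∣ q - 1 ∧ s ∣ q - 1))) := by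
  classical
  subst hq
  obtain ⟨n, hp, hn⟩ := FiniteField.card F t
  have hodd : Odd (Fintype.card F) := by
    rw [hn]; exact (hp.odd_of_ne_two ht).pow
  obtain ⟨k, hk⟩ := hodd
  have h1 : ¬ Fintype.card F - 1 ∣ 4 := fun h => by
    have := Nat.le_of_dvd (by norm_num) h; omega
  have h2 : ¬ Fintype.card F + 1 ∣ 4 := fun h => by
    have := Nat.le_of_dvd (by norm_num) h; omega
  obtain ⟨hv, he⟩ := SL2Degrees.graph hS hp hn h1 h2
  refine ⟨hv, fun r s => (he r s).trans (and_congr_right fun hrs => and_congr_right fun hr =>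
    and_congr_right fun hs => ?_)⟩
  have hprod : Fintype.card F ^ 2 - 1 = (Fintype.card F + 1) * (Fintype.card F - 1) := by
    simpa using Nat.sq_sub_sq (Fintype.card F) 1
  have h2a : 2 ∣ Fintype.card F + 1 := ⟨k + 1, by omega⟩
  have h2b : 2 ∣ Fintype.card F - 1 := ⟨k, by omega⟩
  rw [hprod]
  constructor
  · rintro (h | h)
    · exact ⟨dvd_mul_of_dvd_left h.1 _, dvd_mul_of_dvd_left h.2 _, Or.inr (Or.inr (Or.inl h))⟩
    · exact ⟨dvd_mul_of_dvd_right h.1 _, dvd_mul_of_dvd_right h.2 _, Or.inr (Or.inr (Or.inr h))⟩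
  · rintro ⟨hr', hs', h | h | h | h⟩
    · subst h
      exact (hs.dvd_mul.mp hs').imp (fun h => ⟨h2a, h⟩) fun h => ⟨h2b, h⟩
    · subst h
      exact (hr.dvd_mul.mp hr').imp (fun h => ⟨h, h2a⟩) fun h => ⟨h, h2b⟩
    · exact Or.inl h
    · exact Or.inr h

end Cfsg.Agent.S4774
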