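import Cfsg.Statements.S0999
import Cfsg.Agent.Lib.Char.FewSylow.Cubed

set_option autoImplicit false
open Cfsg

namespace Cfsg.Agent.S0999

/-- Let G be a non-cyclic finite simple group and p a prime divisor of its order with p^3 > |G|. Then p > 3 and G is isomorphic to the projective special linear group of dimension 2 over the field with p elements, or p - 1 is a power of 2 and G is isomorphic to that group over the field with p - 1 elements. -/
theorem result {G : Type*} [Group G] [Finite G] [IsSimpleGroup G] (hG : ¬ IsCyclic G) (p : ℕ) (hp : p.Prime) (hdvd : p ∣ Nat.card G) (hbig : Nat.card G < p ^ 3) : (∃ (F : Type) (_ : Field F) (_ : Fintype F), Fintype.card F = p ∧ 3 < p ∧ Nonempty (G ≃* Matrix.ProjectiveSpecialLinearGroup (Fin 2) F)) ∨ (∃ (m : ℕ) (F : Type) (_ : Field F) (_ : Fintype F), Fintype.card F = 2 ^ m ∧ p = 2 ^ m + 1 ∧ 3 < p ∧ Nonempty (G ≃* Matrix.ProjectiveSpecialLinearGroup (Fin 2) F)) := by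
  haveI : Fact p.Prime := ⟨hp⟩
  have hperf : commutator G = ⊤ := by
    rcases Subgroup.Normal.eq_bot_or_eq_top (H := commutator G) inferInstance with h | h
    · exfalso
      have hab : ∀ a b : G, a * b = b * a := fun a b => commutatorElement_eq_one_iff_mul_comm.1 (by
        rw [← Subgroup.mem_bot, ← h, commutator_def]
        exact Subgroup.commutator_mem_commutator (Subgroup.mem_top _) (Subgroup.mem_top _))
      letI : CommGroup G := { (inferInstance : Group G) with mul_comm := hab }
      exact hG inferInstance
    · exact h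
  obtain ⟨P⟩ : Nonempty (Sylow p G) := inferInstance
  have hP : ¬ (P : Subgroup G).Normal := fun hn => by
    rcases hn.eq_bot_or_eq_top with h | h
    · have := P.pow_dvd_card_of_pow_dvd_card (n := 1) (by rwa [pow_one])
      rw [h, Subgroup.card_bot, pow_one, Nat.dvd_one] at this
      exact hp.one_lt.ne' this
    · haveI : Group.IsNilpotent G := (h ▸ P.2 : IsPGroup p (⊤ : Subgroup G)).of_equiv Subgroup.topEquiv |>.isNilpotent
      haveI : Group.IsSolvable G := inferInstance
      haveI : Nontrivial G := IsSimpleGroup.toNontrivial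
      exact absurd hperf (Group.IsSolvable.commutator_lt_top_of_nontrivial G).ne
  refine CfsgLib.Char.FewSylow.classification_cubed hperf p hdvd
    (CfsgLib.Char.FewSylow.not_sq_dvd_of_small p P hP hbig) hbig fun N hN h => ?_
  rcases hN.eq_bot_or_eq_top with rfl | rfl
  · rw [Subgroup.card_bot] at h; omega
  · rw [Subgroup.card_top] at h
    haveI : Fact (Nat.Prime 2) := ⟨Nat.prime_two⟩
    exact hG (isCyclic_of_prime_card h)

end Cfsg.Agent.S0999
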