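import Cfsg.Statements.S1015
import Cfsg.Agent.Lib.SmallGroups.SylowInter
import Cfsg.Agent.Lib.SmallGroups.SimpleTools
-- import your own Cfsg.Agent.* helpers here

set_option autoImplicit false
open Cfsg

namespace Cfsg.Agent.S1015

/-- No finite simple group has order 1200 = 2^4 * 3 * 5^2. -/
theorem result {G : Type*} [Group G] [Finite G] [IsSimpleGroup G] : Nat.card G ≠ 1200 := by
  intro h
  have : Fact (Nat.Prime 5) := ⟨by norm_num⟩
  have hG : ¬ IsMulCommutative G := CfsgLib.SmallGroups.SimpleTools.not_comm_of_card (by rw [h]; norm_num)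
  have hd : 5 ∣ Nat.card G := by rw [h]; norm_num
  have hne := CfsgLib.SmallGroups.SimpleTools.card_sylow_ne_one hG hd (p := 5)
  have hmem := CfsgLib.SmallGroups.SimpleTools.card_sylow_mem (G := G) (p := 5) (k := 2) (m := 48) (by rw [h]; norm_num) (by norm_num)
  rw [show (Nat.divisors 48).filter (fun n => n % 5 = 1) = {1, 6, 16} by decide] at hmem
  simp only [Finset.mem_insert, Finset.mem_singleton] at hmem
  have hbig : ∀ H : Subgroup G, H ≠ ⊤ → 10 ≤ H.index := by
    intro H hH
    by_contra hlt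
    have h2 := CfsgLib.SmallGroups.SimpleTools.two_mul_card_dvd_factorial hG H hH
    rw [h] at h2
    have h3 := h2.trans (Nat.factorial_dvd_factorial (show H.index ≤ 9 by omega))
    norm_num [Nat.factorial] at h3
  have hcard : ∀ P : Sylow 5 G, Nat.card (P : Subgroup G) = 25 := fun P => by
    rw [CfsgLib.SmallGroups.SimpleTools.card_sylow_subgroup (k := 2) (m := 48) (by rw [h]; norm_num) (by norm_num) P]
    norm_num
  rcases hmem with e | e | e
  · exact hne e
  · obtain ⟨P⟩ : Nonempty (Sylow 5 G) := inferInstance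
    have hi : (Subgroup.normalizer ((P : Subgroup G) : Set G)).index = 6 := e ▸ P.card_eq_index_normalizer.symm
    have := hbig _ (CfsgLib.SmallGroups.SimpleTools.normalizer_ne_top hG hd P)
    omega
  obtain ⟨P, R, hPR, hidx⟩ := CfsgLib.SmallGroups.SylowInter.exists_relIndex_le (G := G) (p := 5) 2
    (by rw [e]; decide)
  set D := (R : Subgroup G).subgroupOf (P : Subgroup G)
  have hDne : D ≠ ⊥ := by
    intro hb
    rw [hb, Subgroup.index_bot, hcard P] at hidx
    norm_num at hidx
  let D' := (R : Subgroup G) ⊓ (P : Subgroup G)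
  have hD' : D' ≠ ⊥ := fun hb => hDne (by
    show (R : Subgroup G).subgroupOf (P : Subgroup G) = ⊥
    rw [← Subgroup.inf_subgroupOf_right, show (R : Subgroup G) ⊓ (P : Subgroup G) = ⊥ from hb, Subgroup.bot_subgroupOf])
  have hab : ∀ S : Sylow 5 G, D' ≤ (S : Subgroup G) →
      (S : Subgroup G) ≤ Subgroup.normalizer (D' : Set G) := by
    intro S hS a ha
    have hc : IsMulCommutative ↥(S : Subgroup G) :=
      IsPGroup.isMulCommutative_of_card_eq_prime_sq (p := 5) (by rw [hcard S]; norm_num)
    refine Subgroup.centralizer_le_normalizer _ (Subgroup.mem_centralizer_iff.mpr fun d hd' => ?_)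
    exact congrArg Subtype.val (hc.is_comm.comm ⟨d, hS hd'⟩ ⟨a, ha⟩)
  set N := Subgroup.normalizer (D' : Set G)
  have hPN : (P : Subgroup G) ≤ N := hab P inf_le_right
  have hRN : (R : Subgroup G) ≤ N := hab R inf_le_left
  have hNtop : N ≠ ⊤ := by
    intro htop
    rcases (Subgroup.normalizer_eq_top_iff.mp htop).eq_bot_or_eq_top with hb | hb
    · exact hD' hb
    · have h25 := Subgroup.card_le_of_le (show D' ≤ (P : Subgroup G) from inf_le_right)
      rw [hb, Subgroup.card_top, h, hcard] at h25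
      norm_num at h25
  have hNi := hbig N hNtop
  have hmul := N.index_mul_card
  rw [h] at hmul
  have h25 : 25 ∣ Nat.card N := hcard P ▸ Subgroup.card_dvd_of_le hPN
  have h1N : Nat.card (Sylow 5 ↥N) ≠ 1 := by
    intro h1
    have : Subsingleton (Sylow 5 ↥N) := Finite.card_le_one_iff_subsingleton.mp h1.le
    exact hPR (Sylow.subtype_injective (Subsingleton.elim (P.subtype hPN) (R.subtype hRN)))
  obtain ⟨Q⟩ : Nonempty (Sylow 5 ↥N) := inferInstance
  have hQ : Nat.card (Sylow 5 ↥N) ∣ Nat.card N := ⟨_, (CfsgLib.SmallGroups.SimpleTools.card_normalizer_mul Q).symm⟩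
  have hmodN : Nat.card (Sylow 5 ↥N) % 5 = 1 := by rw [card_sylow_modEq_one 5 ↥N]
  obtain ⟨m, hm⟩ := h25
  have hm5 : m ≤ 4 := by
    rw [hm] at hmul
    nlinarith
  have hle := Nat.le_of_dvd Nat.card_pos hQ
  have hdm : Nat.card (Sylow 5 ↥N) ∣ m := by
    have hco : Nat.Coprime (Nat.card (Sylow 5 ↥N)) 25 := by
      have : Nat.Coprime (Nat.card (Sylow 5 ↥N)) 5 := Nat.Coprime.symm
        ((Nat.Prime.coprime_iff_not_dvd (by norm_num)).mpr (by omega))
      exact this.pow_right 2
    exact hco.dvd_of_dvd_mul_left (hm ▸ hQ)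
  have := Nat.le_of_dvd (by
    rcases Nat.eq_zero_or_pos m with rfl | h'
    · exact absurd (hm.trans (Nat.mul_zero 25)) Nat.card_pos.ne'
    · exact h') hdm
  omega

end Cfsg.Agent.S1015
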