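import Cfsg.Statements.S1016
import Cfsg.Agent.Lib.SmallGroups.LocalTools
-- import your own Cfsg.Agent.* helpers here

set_option autoImplicit false
open Cfsg

namespace Cfsg.Agent.S1016

/-- No finite simple group has order 1440 = 2^5 * 3^2 * 5. -/
theorem result {G : Type*} [Group G] [Finite G] [IsSimpleGroup G] : Nat.card G ≠ 1440 := by
  classical
  intro h
  have : Fact (Nat.Prime 5) := ⟨by norm_num⟩
  have : Fact (Nat.Prime 3) := ⟨Nat.prime_three⟩
  have : Fact (Nat.Prime 2) := ⟨Nat.prime_two⟩
  have hG : ¬ IsMulCommutative G := CfsgLib.SmallGroups.SimpleTools.not_comm_of_card (by rw [h]; norm_num)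
  have hd : 5 ∣ Nat.card G := by rw [h]; norm_num
  have hbound : ∀ H : Subgroup G, H ≠ ⊤ → 8 ≤ H.index := by
    intro H hH
    by_contra hlt
    have h2 := CfsgLib.SmallGroups.SimpleTools.two_mul_card_dvd_factorial hG H hH
    rw [h] at h2
    have h3 := h2.trans (Nat.factorial_dvd_factorial (show H.index ≤ 7 by omega))
    norm_num [Nat.factorial] at h3
  have hne := CfsgLib.SmallGroups.SimpleTools.card_sylow_ne_one hG hd (p := 5)
  have hmem := CfsgLib.SmallGroups.SimpleTools.card_sylow_mem (G := G) (p := 5) (k := 1) (m := 288) (by rw [h]; norm_num) (by norm_num)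
  rw [show (Nat.divisors 288).filter (fun n => n % 5 = 1) = {1, 6, 16, 36, 96} by decide +kernel] at hmem
  simp only [Finset.mem_insert, Finset.mem_singleton] at hmem
  obtain ⟨P⟩ : Nonempty (Sylow 5 G) := inferInstance
  have hP : Nat.card (P : Subgroup G) = 5 :=
    (CfsgLib.SmallGroups.SimpleTools.card_sylow_subgroup (k := 1) (m := 288) (by rw [h]; norm_num) (by norm_num) P).trans (pow_one _)
  have hmul := CfsgLib.SmallGroups.SimpleTools.card_normalizer_mul P
  obtain ⟨e, k, he1, hed, hNc, hCc⟩ := CfsgLib.SmallGroups.LocalTools.exists_e hG P hP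
  rw [h] at hmul
  have hed' : e ∣ 4 := hed
  have he4 := Nat.le_of_dvd (by norm_num) hed'
  let N := Subgroup.normalizer ((P : Subgroup G) : Set G)
  rcases hmem with hn | hn | hn | hn | hn
  · exact hne hn
  · have := hbound _ (CfsgLib.SmallGroups.SimpleTools.normalizer_ne_top hG hd P)
    rw [show (Subgroup.normalizer ((P : Subgroup G) : Set G)).index = 6 from hn ▸ P.card_eq_index_normalizer.symm] at this
    omega
  · -- sixteen Sylow five-subgroups
    rw [hn, hNc] at hmul
    have hek : e * k = 18 := by nlinarith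
    have hk9 : k = 3 ^ 2 := by interval_cases e <;> omega
    rw [hk9] at hCc
    obtain ⟨K, hKC, hK, hKN⟩ := CfsgLib.SmallGroups.LocalTools.exists_complement P hP (by norm_num) hCc
    obtain ⟨R, hR⟩ := (IsPGroup.of_card hK).exists_le_sylow
    have hRc : ∀ S : Sylow 3 G, Nat.card (S : Subgroup G) = 9 := fun S =>
      (CfsgLib.SmallGroups.SimpleTools.card_sylow_subgroup (k := 2) (m := 160) (by rw [h]; norm_num) (by norm_num) S).trans (by norm_num)
    have hKR : K = R := Subgroup.eq_of_le_of_card_ge hR (by rw [hRc R, hK]; norm_num)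
    have hn3 : Nat.card (Sylow 3 G) = 16 := by
      have hm := CfsgLib.SmallGroups.SimpleTools.card_normalizer_mul R
      have h90 := Subgroup.card_dvd_of_le hKN
      rw [hKR, hNc, show e * (5 * k) = 90 by nlinarith] at h90
      have hm3 := CfsgLib.SmallGroups.SimpleTools.card_sylow_mem (G := G) (p := 3) (k := 2) (m := 160) (by rw [h]; norm_num) (by norm_num)
      have h16 : Nat.card (Sylow 3 G) ∣ 16 := by
        obtain ⟨c, hc⟩ := h90
        change Nat.card ↥(Subgroup.normalizer ((R : Subgroup G) : Set G)) = 90 * c at hc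
        rw [hc, h] at hm
        exact ⟨c, by nlinarith⟩
      have hne3 := CfsgLib.SmallGroups.SimpleTools.card_sylow_ne_one hG (show 3 ∣ Nat.card G by rw [h]; norm_num)
      have hmod := (Finset.mem_filter.mp hm3).2
      have hle := Nat.le_of_dvd (by norm_num) h16
      have h4 : Nat.card (Sylow 3 G) ≠ 4 := fun e4 => by
        have := hbound _ (CfsgLib.SmallGroups.SimpleTools.normalizer_ne_top hG (show 3 ∣ Nat.card G by rw [h]; norm_num) R)
        rw [show (Subgroup.normalizer ((R : Subgroup G) : Set G)).index = 4 from e4 ▸ R.card_eq_index_normalizer.symm] at this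
        omega
      generalize Nat.card (Sylow 3 G) = n at *
      interval_cases n <;> omega
    obtain ⟨R1, R2, hne12, hidx⟩ := CfsgLib.SmallGroups.SylowInter.exists_relIndex_le (G := G) (p := 3) 2
      (by rw [hn3]; decide)
    obtain ⟨g, hg⟩ := MulAction.exists_smul_eq G R R1
    let P1 : Sylow 5 G := g • P
    have hN1 : Subgroup.normalizer ((P1 : Subgroup G) : Set G) ≤ Subgroup.normalizer ((R1 : Subgroup G) : Set G) := by
      have h1 : Subgroup.normalizer ((P : Subgroup G) : Set G) ≤ Subgroup.normalizer ((R : Subgroup G) : Set G) := by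
        rw [← hKR]; exact hKN
      have h2 := Subgroup.map_mono (f := (MulAut.conj g).toMonoidHom) h1
      rw [Subgroup.map_equiv_normalizer_eq, Subgroup.map_equiv_normalizer_eq] at h2
      rw [← hg]
      exact h2
    have hC1 : (R1 : Subgroup G) ≤ Subgroup.centralizer ((P1 : Subgroup G) : Set G) := by
      rw [← hg]
      rintro _ ⟨r, hr, rfl⟩
      refine Subgroup.mem_centralizer_iff.mpr ?_
      rintro _ ⟨b, hb, rfl⟩
      show (MulAut.conj g) b * (MulAut.conj g) r = (MulAut.conj g) r * (MulAut.conj g) b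
      rw [← map_mul, ← map_mul, Subgroup.mem_centralizer_iff.mp (hKC (hKR.symm ▸ hr)) b hb]
    set D := (R2 : Subgroup G) ⊓ (R1 : Subgroup G)
    have hDne : D ≠ ⊥ := fun hb => by
      rw [← Subgroup.inf_subgroupOf_right, show (R2 : Subgroup G) ⊓ (R1 : Subgroup G) = ⊥ from hb,
        Subgroup.bot_subgroupOf, Subgroup.index_bot, hRc R1] at hidx
      norm_num at hidx
    set M := Subgroup.centralizer (D : Set G)
    have hRM : ∀ S : Sylow 3 G, D ≤ (S : Subgroup G) → (S : Subgroup G) ≤ M := fun S hS a ha =>
      Subgroup.mem_centralizer_iff.mpr fun d hd' => congrArg Subtype.val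
        ((IsPGroup.isMulCommutative_of_card_eq_prime_sq (p := 3) (G := ↥(S : Subgroup G))
          (by rw [hRc S]; norm_num)).is_comm.comm ⟨d, hS hd'⟩ ⟨a, ha⟩)
    have hP1M : (P1 : Subgroup G) ≤ M := fun a ha => Subgroup.mem_centralizer_iff.mpr fun d hd' =>
      (Subgroup.mem_centralizer_iff.mp (hC1 hd'.2) a ha).symm
    have hMtop : M ≠ ⊤ := fun e => by
      refine hDne (le_bot_iff.mp ?_)
      rw [← CfsgLib.SmallGroups.SimpleTools.center_eq_bot hG]
      exact fun d hd' => Subgroup.mem_center_iff.mpr fun x =>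
        (Subgroup.mem_centralizer_iff.mp (show x ∈ M from e ▸ Subgroup.mem_top x) d hd').symm
    have h1 : Nat.card (Sylow 5 ↥M) ≠ 1 := by
      intro h1
      have hle : M ≤ Subgroup.normalizer ((P1 : Subgroup G) : Set G) := by
        intro m hm
        have hidx1 : Subgroup.normalizer ((P1.subtype hP1M : Sylow 5 ↥M) : Set ↥M) = ⊤ :=
          Subgroup.index_eq_one.mp (h1 ▸ (P1.subtype hP1M).card_eq_index_normalizer.symm)
        have hmn : (⟨m, hm⟩ : M) ∈ Subgroup.normalizer ((P1.subtype hP1M : Sylow 5 ↥M) : Set ↥M) := hidx1 ▸ Subgroup.mem_top _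
        refine Sylow.smul_eq_iff_mem_normalizer.mp (Sylow.subtype_injective (hP := ?_) (hQ := hP1M) ?_)
        · exact Sylow.smul_le hP1M ⟨m, hm⟩
        · have hfix := Sylow.smul_eq_iff_mem_normalizer.mpr hmn
          rw [Sylow.smul_subtype] at hfix
          exact hfix
      have h2 : (R2 : Subgroup G) ≤ Subgroup.normalizer ((R1 : Subgroup G) : Set G) :=
        ((hRM R2 inf_le_left).trans hle).trans hN1
      refine hne12 (Sylow.ext (Subgroup.eq_of_le_of_card_ge ?_ (by rw [hRc, hRc])).symm)
      intro a ha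
      have h3 := R2.isPGroup'.inf_normalizer_sylow R1
      have h4 : a ∈ (R2 : Subgroup G) ⊓ (R1 : Subgroup G) := h3 ▸ ⟨ha, h2 ha⟩
      exact h4.2
    have h6 : 6 ≤ Nat.card (Sylow 5 ↥M) := by
      have hmod : Nat.card (Sylow 5 ↥M) % 5 = 1 := by rw [card_sylow_modEq_one 5 ↥M]
      omega
    have hPR : 45 ≤ Nat.card ↥(Subgroup.normalizer ((P1.subtype hP1M : Subgroup ↥M) : Set ↥M)) := by
      have hle : ((P1 : Subgroup G) ⊔ (R1 : Subgroup G)).subgroupOf M ≤
          Subgroup.normalizer ((P1.subtype hP1M : Subgroup ↥M) : Set ↥M) := by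
        intro x hx
        refine Subgroup.mem_normalizer_iff.mpr fun z => ?_
        exact Subgroup.mem_normalizer_iff.mp ((sup_le Subgroup.le_normalizer
          (hC1.trans (Subgroup.centralizer_le_normalizer _))) hx) (z : G)
      refine le_trans ?_ (Subgroup.card_le_of_le hle)
      rw [Nat.card_congr (Subgroup.subgroupOfEquivOfLe (sup_le hP1M (hRM R1 inf_le_right))).toEquiv]
      have h5 := Subgroup.card_dvd_of_le (le_sup_left : (P1 : Subgroup G) ≤ (P1 : Subgroup G) ⊔ R1)
      have h9 := Subgroup.card_dvd_of_le (le_sup_right : (R1 : Subgroup G) ≤ (P1 : Subgroup G) ⊔ R1)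
      rw [Nat.card_congr (Sylow.equiv P1 P).toEquiv, hP] at h5
      rw [hRc R1] at h9
      exact Nat.le_of_dvd Nat.card_pos (Nat.Coprime.mul_dvd_of_dvd_of_dvd (by decide : Nat.Coprime 5 9) h5 h9)
    have hcardM := CfsgLib.SmallGroups.SimpleTools.card_normalizer_mul (P1.subtype hP1M)
    have hle := CfsgLib.SmallGroups.LocalTools.index_mul_le hbound h hMtop
    have := Nat.mul_le_mul h6 hPR
    omega
  · -- thirty-six Sylow five-subgroups
    rw [hn, hNc] at hmul
    have hek : e * k = 8 := by nlinarith
    have hN : Nat.card N = 40 := by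
      show Nat.card ↥(Subgroup.normalizer ((P : Subgroup G) : Set G)) = 40
      rw [hNc, mul_left_comm e 5 k, hek]; norm_num
    have he24 : e = 2 ∧ k = 2 ^ 2 ∨ e = 4 ∧ k = 2 ^ 1 := by interval_cases e <;> omega
    rcases he24 with ⟨-, hk4⟩ | ⟨-, hk2⟩
    · rw [hk4] at hCc
      obtain ⟨K, hKC, hK, hKN⟩ := CfsgLib.SmallGroups.LocalTools.exists_complement P hP (by norm_num) hCc
      obtain ⟨S'⟩ : Nonempty (Sylow 2 ↥N) := inferInstance
      have hScard : Nat.card (S' : Subgroup ↥N) = 2 ^ 3 :=
        CfsgLib.SmallGroups.SimpleTools.card_sylow_subgroup (k := 3) (m := 5) (by rw [hN]; norm_num) (by norm_num) S'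
      set S₀ := (S' : Subgroup N).map N.subtype
      have hS0 : Nat.card S₀ = 8 := by rw [Subgroup.card_map_of_injective N.subtype_injective, hScard]; norm_num
      have hKN' : K ≤ N := hKC.trans (Subgroup.centralizer_le_normalizer _)
      have hnK : (K.subgroupOf N).Normal := Subgroup.normal_subgroupOf_of_le_normalizer hKN
      have hKS : K ≤ S₀ := by
        have hp : IsPGroup 2 ↥(K.subgroupOf N) := IsPGroup.of_card (n := 2) (by
          rw [Nat.card_congr (Subgroup.subgroupOfEquivOfLe hKN').toEquiv, hK])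
        exact fun x hx => ⟨⟨x, hKN' hx⟩, hp.le_sylow_of_normal S' hx, rfl⟩
      have hSN : S₀ ≤ N := Subgroup.map_subtype_le _
      have hgen : N ≤ (P : Subgroup G) ⊔ S₀ := by
        refine (Subgroup.eq_of_le_of_card_ge (sup_le Subgroup.le_normalizer hSN) ?_).ge
        rw [hN]
        have h5 := Subgroup.card_dvd_of_le (le_sup_left : (P : Subgroup G) ≤ (P : Subgroup G) ⊔ S₀)
        have h8 := Subgroup.card_dvd_of_le (le_sup_right : S₀ ≤ (P : Subgroup G) ⊔ S₀)
        rw [hP] at h5
        rw [hS0] at h8
        exact Nat.le_of_dvd Nat.card_pos (Nat.Coprime.mul_dvd_of_dvd_of_dvd (by decide : Nat.Coprime 5 8) h5 h8)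
      obtain ⟨g, hg, hgN⟩ := CfsgLib.SmallGroups.LocalTools.exists_normalizing (q := 2) (a := 3) N S₀
        (by rw [hS0]; norm_num) (by rw [h]; norm_num) (by rw [hN]; norm_num)
      obtain ⟨M, hM, hle⟩ := CfsgLib.SmallGroups.LocalTools.exists_large hG P hP K S₀ hKC hKN hSN hKS hgen
        (by rw [hS0, hK]; norm_num) hg hgN
      have := CfsgLib.SmallGroups.LocalTools.index_mul_le hbound h hM
      change (5 + 1) * Nat.card N ≤ Nat.card M at hle
      omega
    · rw [hk2] at hCc
      obtain ⟨K, hKC, hK, hKN⟩ := CfsgLib.SmallGroups.LocalTools.exists_complement P hP (by norm_num) hCc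
      obtain ⟨⟨z, hzK⟩, hz⟩ := exists_prime_orderOf_dvd_card' (G := ↥K) 2 (dvd_of_eq (by rw [hK]; norm_num))
      rw [← Subgroup.orderOf_coe] at hz
      change orderOf z = 2 at hz
      have hz1 : z ≠ 1 := fun e => by rw [e, orderOf_one] at hz; omega
      have hKz : ∀ a ∈ K, a = 1 ∨ a = z := by
        intro a ha
        have he : Subgroup.zpowers z = K :=
          Subgroup.eq_of_le_of_card_ge (Subgroup.zpowers_le.mpr hzK) (by rw [hK, Nat.card_zpowers, hz]; norm_num)
        rw [← he, mem_zpowers_iff_mem_range_orderOf, hz] at ha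
        obtain ⟨i, hi, rfl⟩ := Finset.mem_image.mp ha
        rw [Finset.mem_range] at hi
        interval_cases i <;> simp
      have hNC : N ≤ Subgroup.centralizer ({z} : Set G) := fun x hx => by
        refine Subgroup.mem_centralizer_singleton_iff.mpr ?_
        rcases hKz _ ((Subgroup.mem_normalizer_iff.mp (hKN hx) z).mp hzK) with e | e
        · exact absurd (conj_eq_one_iff.mp e) hz1
        · exact mul_inv_eq_iff_eq_mul.mp e
      set M := Subgroup.centralizer ({z} : Set G)
      have hMtop : M ≠ ⊤ := fun e => by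
        refine hz1 (Subgroup.mem_bot.mp ?_)
        rw [← CfsgLib.SmallGroups.SimpleTools.center_eq_bot hG]
        exact Subgroup.mem_center_iff.mpr fun x =>
          Subgroup.mem_centralizer_singleton_iff.mp (show x ∈ M from e ▸ Subgroup.mem_top x)
      have hPM : (P : Subgroup G) ≤ M := Subgroup.le_normalizer.trans hNC
      have hM40 : Nat.card M = 40 := by
        have h40 := Subgroup.card_dvd_of_le hNC
        rw [hN] at h40
        have hle := CfsgLib.SmallGroups.LocalTools.index_mul_le hbound h hMtop
        have hm5 := CfsgLib.SmallGroups.SimpleTools.card_normalizer_mul (P.subtype hPM)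
        have hN' : Nat.card ↥(Subgroup.normalizer ((P.subtype hPM : Subgroup ↥M) : Set ↥M)) = 40 := by
          rw [← hN, ← Nat.card_congr (Subgroup.subgroupOfEquivOfLe hNC).toEquiv]
          refine congrArg (fun H : Subgroup ↥M => Nat.card ↥H) ?_
          ext x
          rw [Subgroup.mem_subgroupOf]
          constructor
          · intro hx
            refine Subgroup.mem_normalizer_iff.mpr fun w => ?_
            constructor
            · intro hw
              exact (Subgroup.mem_normalizer_iff.mp hx ⟨w, hPM hw⟩).mp hw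
            · intro hw
              have hwM : w ∈ M := by
                have h' := M.mul_mem (M.mul_mem (M.inv_mem x.2) (hPM hw)) x.2
                simpa [mul_assoc] using h'
              exact (Subgroup.mem_normalizer_iff.mp hx ⟨w, hwM⟩).mpr hw
          · intro hx
            exact Subgroup.mem_normalizer_iff.mpr fun w => Subgroup.mem_normalizer_iff.mp hx (w : G)
        rw [hN'] at hm5
        have hmod : Nat.card (Sylow 5 ↥M) % 5 = 1 := by rw [card_sylow_modEq_one 5 ↥M]
        omega
      have hMN : M = N := (Subgroup.eq_of_le_of_card_ge hNC (by rw [hM40, hN])).symm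
      have hzC : z ∈ Subgroup.centralizer ((P : Subgroup G) : Set G) := hKC hzK
      have hmod5 := CfsgLib.SmallGroups.LocalTools.card_fixedBy_modEq_one P hP hzC
      have hmod4 := CfsgLib.SmallGroups.LocalTools.card_fixedBy_mod_four hG N (s := z)
        (by rw [← pow_two, ← hz, pow_orderOf_eq_one])
      have hNidx : N.index = 36 := hn ▸ P.card_eq_index_normalizer.symm
      have hfix := CfsgLib.SmallGroups.CosetFixed.card_fixedBy_mul N z
      rw [CfsgLib.SmallGroups.CosetFixed.card_class, show Subgroup.centralizer ({z} : Set G) = N from hMN, hNidx] at hfix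
      -- at most eleven involutions in the normaliser
      obtain ⟨⟨y, hyP⟩, hy⟩ := exists_prime_orderOf_dvd_card' (G := ↥(P : Subgroup G)) 5 (dvd_of_eq hP.symm)
      rw [← Subgroup.orderOf_coe] at hy
      change orderOf y = 5 at hy
      set C := Subgroup.centralizer ((P : Subgroup G) : Set G)
      have hyz : Subgroup.zpowers y = P :=
        Subgroup.eq_of_le_of_card_ge (Subgroup.zpowers_le.mpr hyP) (by rw [hP, Nat.card_zpowers, hy])
      have hCy : ∀ x : G, x * y = y * x → x ∈ C := fun x hx => Subgroup.mem_centralizer_iff.mpr fun b hb => by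
        rw [← hyz] at hb
        obtain ⟨i, rfl⟩ := Subgroup.mem_zpowers_iff.mp hb
        exact ((show Commute x y from hx).zpow_right i).eq.symm
      have hsub : {g : G | IsConj z g ∧ g ∈ N} ⊆ {z} ∪ {g : G | g * y * g⁻¹ = y⁻¹} := by
        rintro g ⟨hgc, hgN⟩
        have hg2 : orderOf g = 2 := by
          obtain ⟨c, rfl⟩ := isConj_iff.mp hgc
          rw [show c * z * c⁻¹ = MulAut.conj c z from rfl, MulEquiv.orderOf_eq, hz]
        have hgg : g * g = 1 := by rw [← pow_two, ← hg2, pow_orderOf_eq_one]
        have hcy : g * y * g⁻¹ ∈ Subgroup.zpowers y := hyz.symm ▸ (Subgroup.mem_normalizer_iff.mp hgN y).mp hyP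
        rw [mem_zpowers_iff_mem_range_orderOf, hy] at hcy
        obtain ⟨i, hi, hi'⟩ := Finset.mem_image.mp hcy
        rw [Finset.mem_range] at hi
        have hii : y ^ (i * i) = y := by
          have hinv : g⁻¹ = g := inv_eq_of_mul_eq_one_right hgg
          rw [pow_mul]
          calc (y ^ i) ^ i = (g * y * g⁻¹) ^ i := by rw [← hi']
            _ = g * y ^ i * g⁻¹ := conj_pow
            _ = g * (g * y * g⁻¹) * g⁻¹ := by rw [← hi']
            _ = (g * g) * y * (g * g)⁻¹ := by group
            _ = y := by rw [hgg]; simp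
        have hmodi : i * i ≡ 1 [MOD 5] := hy ▸ pow_eq_pow_iff_modEq.mp (hii.trans (pow_one y).symm)
        have hcases : i = 1 ∨ i = 4 := by
          interval_cases i <;> simp [Nat.ModEq] at hmodi ⊢
        rcases hcases with rfl | rfl
        · left
          rw [pow_one] at hi'
          have hgC : g ∈ C := hCy g (mul_inv_eq_iff_eq_mul.mp hi'.symm)
          -- the only involution of `C` is `z`
          have hgK : g ∈ K := by
            have hKn : (K.subgroupOf C).Normal :=
              Subgroup.normal_subgroupOf_of_le_normalizer ((Subgroup.centralizer_le_normalizer _).trans hKN)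
            have hKp : IsPGroup 2 ↥(K.subgroupOf C) := IsPGroup.of_card (n := 1) (by
              rw [Nat.card_congr (Subgroup.subgroupOfEquivOfLe hKC).toEquiv, hK])
            obtain ⟨Q, hQ⟩ := (IsPGroup.of_card (n := 1) (by
              rw [Nat.card_zpowers, ← Subgroup.orderOf_coe, hg2, pow_one]) :
              IsPGroup 2 ↥(Subgroup.zpowers (⟨g, hgC⟩ : C))).exists_le_sylow
            have hQK : K.subgroupOf C = (Q : Subgroup C) := Subgroup.eq_of_le_of_card_ge (hKp.le_sylow_of_normal Q) (by
              rw [Nat.card_congr (Subgroup.subgroupOfEquivOfLe hKC).toEquiv, hK,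
                CfsgLib.SmallGroups.SimpleTools.card_sylow_subgroup (k := 1) (m := 5) (by
                  rw [hCc]; norm_num) (by norm_num) Q])
            have h' : (⟨g, hgC⟩ : C) ∈ K.subgroupOf C := hQK.symm ▸ hQ (Subgroup.mem_zpowers _)
            exact h'
          rcases hKz g hgK with e | e
          · rw [e, orderOf_one] at hg2; omega
          · exact e
        · right
          show g * y * g⁻¹ = y⁻¹
          rw [← hi']
          refine eq_inv_of_mul_eq_one_left ?_
          rw [← pow_succ, show 4 + 1 = orderOf y by rw [hy], pow_orderOf_eq_one]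
      have hinvc : Set.ncard {g : G | g * y * g⁻¹ = y⁻¹} ≤ 10 := by
        by_cases hex : ∃ g₀ : G, g₀ * y * g₀⁻¹ = y⁻¹
        · obtain ⟨g₀, hg₀⟩ := hex
          refine le_trans (Set.ncard_le_ncard (t := (fun x => g₀ * x) '' (C : Set G)) ?_) ?_
          · intro g hgy
            refine ⟨g₀⁻¹ * g, hCy _ ?_, by group⟩
            calc g₀⁻¹ * g * y = g₀⁻¹ * (g * y * g⁻¹) * g := by group
              _ = g₀⁻¹ * (g₀ * y * g₀⁻¹) * g := by rw [show g * y * g⁻¹ = y⁻¹ from hgy, hg₀]
              _ = y * (g₀⁻¹ * g) := by group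
          · refine (Set.ncard_image_le (Set.toFinite _)).trans ?_
            rw [← Nat.card_coe_set_eq, SetLike.coe_sort_coe, hCc]
            norm_num
        · push Not at hex
          rw [show {g : G | g * y * g⁻¹ = y⁻¹} = ∅ from Set.eq_empty_of_forall_notMem fun g hg => hex g hg]
          simp
      have hcount : Nat.card {g : G // IsConj z g ∧ g ∈ N} ≤ 11 := by
        show Nat.card ↥{g : G | IsConj z g ∧ g ∈ N} ≤ 11
        rw [Nat.card_coe_set_eq]
        refine (Set.ncard_le_ncard hsub).trans ((Set.ncard_union_le _ _).trans ?_)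
        rw [Set.ncard_singleton]
        omega
      rw [hNidx] at hmod4
      change Nat.card (MulAction.fixedBy (G ⧸ N) z) % 5 = 1 at hmod5
      omega
  · rw [hn, hNc] at hmul
    have hek : e * k = 3 := by nlinarith
    interval_cases e <;> omega

end Cfsg.Agent.S1016
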