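import Cfsg.Statements.S1017
import Cfsg.Agent.Lib.SmallGroups.LocalTools
-- import your own Cfsg.Agent.* helpers here

set_option autoImplicit false
open Cfsg

namespace Cfsg.Agent.S1017

/-- No finite simple group has order 2016 = 2^5 * 3^2 * 7. -/
theorem result {G : Type*} [Group G] [Finite G] [IsSimpleGroup G] : Nat.card G ≠ 2016 := by
  intro h
  have : Fact (Nat.Prime 7) := ⟨by norm_num⟩
  have : Fact (Nat.Prime 2) := ⟨Nat.prime_two⟩
  have hG : ¬ IsMulCommutative G := CfsgLib.SmallGroups.SimpleTools.not_comm_of_card (by rw [h]; norm_num)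
  have hd : 7 ∣ Nat.card G := by rw [h]; norm_num
  have hbound : ∀ H : Subgroup G, H ≠ ⊤ → 8 ≤ H.index := by
    intro H hH
    by_contra hlt
    have h2 := CfsgLib.SmallGroups.SimpleTools.two_mul_card_dvd_factorial hG H hH
    rw [h] at h2
    have h3 := h2.trans (Nat.factorial_dvd_factorial (show H.index ≤ 7 by omega))
    norm_num [Nat.factorial] at h3
  have hne := CfsgLib.SmallGroups.SimpleTools.card_sylow_ne_one hG hd (p := 7)
  have hmem := CfsgLib.SmallGroups.SimpleTools.card_sylow_mem (G := G) (p := 7) (k := 1) (m := 288) (by rw [h]; norm_num) (by norm_num)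
  rw [Finset.mem_filter, Nat.mem_divisors] at hmem
  have key' : ∀ n ∈ Nat.divisors 288, n % 7 = 1 → n = 1 ∨ n = 8 ∨ n = 36 ∨ n = 288 := by decide +kernel
  have key : ∀ n : ℕ, n ∣ 288 → n % 7 = 1 → n = 1 ∨ n = 8 ∨ n = 36 ∨ n = 288 := fun n hn hm =>
    key' n (Nat.mem_divisors.mpr ⟨hn, by norm_num⟩) hm
  obtain ⟨P⟩ : Nonempty (Sylow 7 G) := inferInstance
  have hP : Nat.card (P : Subgroup G) = 7 :=
    (CfsgLib.SmallGroups.SimpleTools.card_sylow_subgroup (k := 1) (m := 288) (by rw [h]; norm_num) (by norm_num) P).trans (pow_one _)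
  have hmul := CfsgLib.SmallGroups.SimpleTools.card_normalizer_mul P
  obtain ⟨e, k, he1, hed, hNc, hCc⟩ := CfsgLib.SmallGroups.LocalTools.exists_e hG P hP
  rw [h] at hmul
  have hed' : e ∣ 6 := hed
  have he6 := Nat.le_of_dvd (by norm_num) hed'
  rcases key _ hmem.1.1 hmem.2 with hn | hn | hn | hn
  · exact hne hn
  · have h2 := CfsgLib.SmallGroups.SimpleTools.card_normalizer_of_succ hG (by norm_num) P hP hn
    have := Nat.le_of_dvd (by norm_num) h2
    rw [hn] at hmul; omega
  · rw [hn, hNc] at hmul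
    have hek : e * k = 8 := by nlinarith
    have hN : Nat.card (Subgroup.normalizer ((P : Subgroup G) : Set G)) = 56 := by
      rw [hNc, mul_left_comm e 7 k, hek]; norm_num
    let N := Subgroup.normalizer ((P : Subgroup G) : Set G)
    have hk4 : k = 2 ^ 2 := by interval_cases e <;> omega
    rw [hk4] at hCc
    obtain ⟨K, hKC, hK, hKN⟩ := CfsgLib.SmallGroups.LocalTools.exists_complement P hP (by norm_num) hCc
    obtain ⟨S', hS'⟩ := Sylow.exists_subgroup_card_pow_prime (G := ↥N) 2 (n := 3) (by rw [show Nat.card N = 56 from hN]; norm_num)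
    obtain ⟨S, hS⟩ := (IsPGroup.of_card hS').exists_le_sylow
    have hScard : Nat.card (S : Subgroup ↥N) = 2 ^ 3 :=
      CfsgLib.SmallGroups.SimpleTools.card_sylow_subgroup (k := 3) (m := 7) (by rw [show Nat.card N = 56 from hN]; norm_num) (by norm_num) S
    set S₀ := (S : Subgroup N).map N.subtype
    have hS0 : Nat.card S₀ = 8 := by rw [Subgroup.card_map_of_injective N.subtype_injective, hScard]; norm_num
    have hKN' : K ≤ N := hKC.trans (Subgroup.centralizer_le_normalizer _)
    have hnK : (K.subgroupOf N).Normal := Subgroup.normal_subgroupOf_of_le_normalizer hKN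
    have hKS : K ≤ S₀ := by
      have hp : IsPGroup 2 ↥(K.subgroupOf N) := IsPGroup.of_card (n := 2) (by
        rw [Nat.card_congr (Subgroup.subgroupOfEquivOfLe hKN').toEquiv, hK])
      exact fun x hx => ⟨⟨x, hKN' hx⟩, hp.le_sylow_of_normal S hx, rfl⟩
    have hSN : S₀ ≤ N := Subgroup.map_subtype_le _
    have hgen : N ≤ (P : Subgroup G) ⊔ S₀ := by
      refine (Subgroup.eq_of_le_of_card_ge (sup_le Subgroup.le_normalizer hSN) ?_).ge
      rw [hN]
      have h7 := Subgroup.card_dvd_of_le (le_sup_left : (P : Subgroup G) ≤ (P : Subgroup G) ⊔ S₀)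
      have h8 := Subgroup.card_dvd_of_le (le_sup_right : S₀ ≤ (P : Subgroup G) ⊔ S₀)
      rw [hP] at h7
      rw [hS0] at h8
      exact Nat.le_of_dvd Nat.card_pos (Nat.Coprime.mul_dvd_of_dvd_of_dvd (by decide : Nat.Coprime 7 8) h7 h8)
    obtain ⟨g, hg, hgN⟩ := CfsgLib.SmallGroups.LocalTools.exists_normalizing (q := 2) (a := 3) N S₀
      (by rw [hS0]; norm_num) (by rw [h]; norm_num) (by rw [hN]; norm_num)
    obtain ⟨M, hM, hle⟩ := CfsgLib.SmallGroups.LocalTools.exists_large hG P hP K S₀ hKC hKN hSN hKS hgen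
      (by rw [hS0, hK]; norm_num) hg hgN
    have := CfsgLib.SmallGroups.LocalTools.index_mul_le hbound h hM
    rw [hN] at hle
    omega
  · rw [hn, hNc] at hmul
    have hek : e * k = 1 := by nlinarith
    exact he1 (Nat.eq_one_of_mul_eq_one_right hek)

end Cfsg.Agent.S1017
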