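import Cfsg.Statements.S0974
import Cfsg.Agent.Lib.SmallGroups.SelfInverse
-- import your own Cfsg.Agent.* helpers here

set_option autoImplicit false
open Cfsg

namespace Cfsg.Agent.S0974

/-- No finite simple group has order 3648 = 2^6 * 3 * 19. -/
theorem result {G : Type*} [Group G] [Finite G] [IsSimpleGroup G] : Nat.card G ≠ 3648 := by
  classical
  intro h
  have := Fintype.ofFinite G
  have : Fact (Nat.Prime 19) := ⟨by norm_num⟩
  have hG : ¬ IsMulCommutative G := CfsgLib.SmallGroups.SimpleTools.not_comm_of_card (by rw [h]; norm_num)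
  have hd : 19 ∣ Nat.card G := by rw [h]; norm_num
  have hne := CfsgLib.SmallGroups.SimpleTools.card_sylow_ne_one hG hd (p := 19)
  have hmem := CfsgLib.SmallGroups.SimpleTools.card_sylow_mem (G := G) (p := 19) (k := 1) (m := 192) (by rw [h]; norm_num) (by norm_num)
  rw [show (Nat.divisors 192).filter (fun n => n % 19 = 1) = {1, 96} by decide +kernel] at hmem
  simp only [Finset.mem_insert, Finset.mem_singleton] at hmem
  have hn := hmem.resolve_left hne
  obtain ⟨P⟩ : Nonempty (Sylow 19 G) := inferInstance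
  have hP : Nat.card (P : Subgroup G) = 19 :=
    (CfsgLib.SmallGroups.SimpleTools.card_sylow_subgroup (k := 1) (m := 192) (by rw [h]; norm_num) (by norm_num) P).trans (pow_one _)
  obtain ⟨e, k, he1, hed, hNc, hCc⟩ := CfsgLib.SmallGroups.LocalTools.exists_e hG P hP
  have hmul := CfsgLib.SmallGroups.SimpleTools.card_normalizer_mul P
  rw [hn, hNc, h] at hmul
  have hek : e * k = 2 := by nlinarith
  have hk1 : k = 1 := by
    have he2 : e ∣ 2 := ⟨k, hek.symm⟩
    rcases (Nat.dvd_prime Nat.prime_two).mp he2 with e' | e'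
    · exact absurd e' he1
    · rw [e'] at hek; omega
  have hcyc : IsCyclic ↥(P : Subgroup G) := isCyclic_of_prime_card hP
  have hPC : (P : Subgroup G) ≤ Subgroup.centralizer ((P : Subgroup G) : Set G) := fun a ha =>
    Subgroup.mem_centralizer_iff.mpr fun b hb =>
      congrArg Subtype.val (hcyc.isMulCommutative.is_comm.comm ⟨b, hb⟩ ⟨a, ha⟩)
  have hyp : CfsgLib.SmallGroups.SelfInverse.Hyp P := by
    refine ⟨hP, (Subgroup.eq_of_le_of_card_ge hPC (by rw [hCc, hk1, hP])).symm, ?_⟩
    rw [hNc, mul_left_comm, hek, mul_comm]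
  have hperf : commutator G = ⊤ := by
    rcases (inferInstance : (commutator G).Normal).eq_bot_or_eq_top with hb | hb
    · exact absurd ⟨⟨fun a b => commutatorElement_eq_one_iff_mul_comm.mp (Subgroup.mem_bot.mp
        (hb ▸ Subgroup.commutator_mem_commutator (Subgroup.mem_top a) (Subgroup.mem_top b)))⟩⟩ hG
    · exact hb
  obtain ⟨_, _, b, c, d, x, -, -, -, -, hd2, hx2, hdd, hxd, hb, hc, heq, hcong, -⟩ :=
    CfsgLib.SmallGroups.SelfInverse.degree_eq hyp (by norm_num) hperf
  have key : ∀ d ∈ Nat.divisors 3648, ∀ x ∈ Nat.divisors 3648, 2 ≤ d →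
      ¬ (d + 1 = x ∧ d % 19 = 1) ∧ ¬ (x + 1 = d ∧ d % 19 = 19 - 1) := by decide +kernel
  have hk := key d (Nat.mem_divisors.mpr ⟨h ▸ hdd, by norm_num⟩) x (Nat.mem_divisors.mpr ⟨h ▸ hxd, by norm_num⟩) hd2
  rcases hb with rfl | rfl <;> rcases hc with rfl | rfl <;> omega

end Cfsg.Agent.S0974
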