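import Cfsg.Statements.S0979
import Cfsg.Agent.Lib.SmallGroups.BlockDegrees
-- import your own Cfsg.Agent.* helpers here

set_option autoImplicit false
open Cfsg

namespace Cfsg.Agent.S0979

/-- No finite simple group has order 5472 = 2^5 * 3^2 * 19. -/
theorem result {G : Type*} [Group G] [Finite G] [IsSimpleGroup G] : Nat.card G ≠ 5472 := by
  classical
  intro h
  have := Fintype.ofFinite G
  have : Fact (Nat.Prime 19) := ⟨by norm_num⟩
  have hG : ¬ IsMulCommutative G := CfsgLib.SmallGroups.SimpleTools.not_comm_of_card (by rw [h]; norm_num)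
  have hne := CfsgLib.SmallGroups.SimpleTools.card_sylow_ne_one hG (p := 19) (by rw [h]; norm_num)
  have hmem := CfsgLib.SmallGroups.SimpleTools.card_sylow_mem (G := G) (p := 19) (k := 1) (m := 288) (by rw [h]; norm_num) (by norm_num)
  rw [show (Nat.divisors 288).filter (fun n => n % 19 = 1) = {1, 96} from by decide +kernel] at hmem
  simp only [Finset.mem_insert, Finset.mem_singleton] at hmem
  have hn := hmem.resolve_left hne
  obtain ⟨P⟩ : Nonempty (Sylow 19 G) := inferInstance
  have hP : Nat.card (P : Subgroup G) = 19 :=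
    (CfsgLib.SmallGroups.SimpleTools.card_sylow_subgroup (k := 1) (m := 288) (by rw [h]; norm_num) (by norm_num) P).trans (pow_one _)
  obtain ⟨e, k, he1, hed, hN, hC⟩ := CfsgLib.SmallGroups.LocalTools.exists_e hG P hP
  have hm := CfsgLib.SmallGroups.SimpleTools.card_normalizer_mul P
  rw [hn, hN, h] at hm
  have hek : e * k = 3 := by nlinarith
  obtain rfl : e = 3 := ((Nat.dvd_prime Nat.prime_three).1 (Dvd.intro k hek)).resolve_left he1
  obtain ⟨l, x, hl, hla, hxd, hxm, hx⟩ := CfsgLib.SmallGroups.BlockDegrees.degree_relation hG (by norm_num) P hP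
    (e := 3) (by rw [hN, hC]) (by norm_num)
  have key : ∀ d ∈ Nat.divisors 5472, 2 ≤ d → (d % 19 = 1 → d = 96) ∧ (d % 19 = 18 → d = 18) := by decide +kernel
  have keyx : ∀ d ∈ Nat.divisors 5472, (d % 19 = 3 → d = 3 ∨ d = 288) ∧ (d % 19 = 16 → d = 16) := by decide +kernel
  have hval : ∀ a ∈ l, a = 96 ∨ a = -18 := by
    intro a ha
    obtain ⟨hd, h2, hm'⟩ := hla a ha
    have hk := key a.natAbs (Nat.mem_divisors.mpr ⟨h ▸ hd, by norm_num⟩) h2
    rw [Int.ModEq] at hm'
    rcases Int.natAbs_eq a with h' | h' <;> omega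
  have hxval := keyx x.natAbs (Nat.mem_divisors.mpr ⟨h ▸ hxd, by norm_num⟩)
  rw [Int.ModEq] at hxm
  match l, hl, hval with
  | [a, b], _, hval =>
    have ha := hval a (by simp)
    have hb := hval b (by simp)
    simp only [List.sum_cons, List.sum_nil] at hx
    rcases Int.natAbs_eq x with h' | h' <;> omega

end Cfsg.Agent.S0979
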