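import Cfsg.Statements.S0980
import Cfsg.Agent.Lib.SmallGroups.SelfInverseInvolution
import Cfsg.Agent.Lib.SmallGroups.OrdersBelow1092
import Cfsg.Agent.S0904
-- import your own Cfsg.Agent.* helpers here

set_option autoImplicit false
open Cfsg

namespace Cfsg.Agent.S0980

/-- No finite simple group has order 5760 = 2^7 * 3^2 * 5. -/
theorem result {G : Type*} [Group G] [Finite G] [IsSimpleGroup G] : Nat.card G ≠ 5760 := by
  classical
  intro h
  have := Fintype.ofFinite G
  have : Fact (Nat.Prime 5) := ⟨by norm_num⟩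
  have : Fact (Nat.Prime 2) := ⟨Nat.prime_two⟩
  have hG : ¬ IsMulCommutative G := CfsgLib.SmallGroups.SimpleTools.not_comm_of_card (by rw [h]; norm_num)
  have hperf : commutator G = ⊤ := by
    rcases (inferInstance : (commutator G).Normal).eq_bot_or_eq_top with hb | hb
    · exact absurd ⟨⟨fun a b => commutatorElement_eq_one_iff_mul_comm.mp (Subgroup.mem_bot.mp
        (hb ▸ Subgroup.commutator_mem_commutator (Subgroup.mem_top a) (Subgroup.mem_top b)))⟩⟩ hG
    · exact hb
  obtain ⟨P, e, k, hP, he1, hed, hnek, hN, hC⟩ :=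
    CfsgLib.SmallGroups.OrdersBelow1092.prime_order_setup hG (p := 5) (m := 1152) (by rw [h]) (by norm_num) rfl
  have hself := Cfsg.Agent.S0904.result 2 3 5 7 2 Nat.prime_two Nat.prime_three (by norm_num) (by norm_num)
    (by norm_num) (by rw [h]; norm_num) P
  have hC' : Nat.card (Subgroup.centralizer ((P : Subgroup G) : Set G)) = 5 :=
    (congrArg (fun H : Subgroup G => Nat.card H) hself).trans hP
  obtain rfl : k = 1 := by omega
  have hmod := card_sylow_modEq_one 5 G
  rw [Nat.ModEq] at hmod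
  have he2 : e = 2 := by
    have he4 : e ≤ 4 := Nat.le_of_dvd (by norm_num) hed
    have he3 : e ≠ 3 := fun e3 => by rw [e3] at hed; norm_num at hed
    interval_cases e <;> omega
  subst he2
  have hyp : CfsgLib.SmallGroups.SelfInverse.Hyp P := ⟨hP, hself, by rw [hN]⟩
  -- a central involution of a Sylow 2-subgroup
  obtain ⟨S⟩ : Nonempty (Sylow 2 G) := inferInstance
  have hS : Nat.card (S : Subgroup G) = 2 ^ 7 :=
    CfsgLib.SmallGroups.SimpleTools.card_sylow_subgroup (m := 45) (by rw [h]; norm_num) (by norm_num) S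
  have : Nontrivial ↥(S : Subgroup G) := Finite.one_lt_card_iff_nontrivial.mp (by rw [hS]; norm_num)
  have : Nontrivial (Subgroup.center ↥(S : Subgroup G)) := S.isPGroup'.center_nontrivial
  obtain ⟨⟨⟨z, hzS⟩, hzc⟩, hz⟩ := exists_prime_orderOf_dvd_card' (G := Subgroup.center ↥(S : Subgroup G)) 2 (by
    obtain ⟨n, hn0, hn⟩ := (S.isPGroup'.to_subgroup _).nontrivial_iff_card.mp this
    rw [hn]; exact dvd_pow_self 2 (by omega))
  rw [← Subgroup.orderOf_coe, ← Subgroup.orderOf_coe] at hz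
  change orderOf z = 2 at hz
  have hzz : z * z = 1 := by rw [← pow_two, ← hz, pow_orderOf_eq_one]
  have hz1 : z ≠ 1 := fun e => by rw [e, orderOf_one] at hz; omega
  obtain ⟨g, hg⟩ := CfsgLib.SmallGroups.SelfInverse.exists_conj_mem hyp le_rfl hperf hzz hz1
  set u := g * z * g⁻¹ with hu
  have huu : u * u = 1 := by
    calc u * u = g * (z * z) * g⁻¹ := by rw [hu]; group
      _ = 1 := by rw [hzz]; group
  have huP : u ∉ (P : Subgroup G) := fun hm => by
    have h1 := (P : Subgroup G).orderOf_dvd_natCard hm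
    rw [hP, show orderOf u = 2 from (MulEquiv.orderOf_eq (MulAut.conj g) z).trans hz] at h1
    norm_num at h1
  obtain ⟨b, c, d, x, s, hd2, hx2, hdd, hxd, hb, hc, heq, hcong, heqn, hsd⟩ :=
    CfsgLib.SmallGroups.SelfInverse.involution_eq hyp le_rfl hperf huu hg huP
  have key : ∀ d ∈ Nat.divisors 5760, ∀ x ∈ Nat.divisors 5760, 2 ≤ d →
      ¬ (d + 1 = x ∧ d % 5 = 1) ∧ ((x + 1 = d ∧ d % 5 = 4) → d = 4 ∨ d = 9) := by decide +kernel
  have hk := key d (Nat.mem_divisors.mpr ⟨h ▸ hdd, by norm_num⟩) x (Nat.mem_divisors.mpr ⟨h ▸ hxd, by norm_num⟩) hd2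
  have hd49 : (d = 4 ∨ d = 9) ∧ b = -1 := by rcases hb with rfl | rfl <;> rcases hc with rfl | rfl <;> omega
  obtain ⟨hd49, rfl⟩ := hd49
  rw [h] at heqn
  have h128 : 128 ∣ Nat.card (Subgroup.centralizer ({u} : Set G)) := by
    have hle : (S : Subgroup G).map (MulAut.conj g).toMonoidHom ≤ Subgroup.centralizer ({u} : Set G) := by
      rintro _ ⟨w, hw, rfl⟩
      refine Subgroup.mem_centralizer_singleton_iff.mpr ?_
      have hcomm : w * z = z * w := congrArg Subtype.val (Subgroup.mem_center_iff.mp hzc ⟨w, hw⟩)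
      show g * w * g⁻¹ * u = u * (g * w * g⁻¹)
      calc g * w * g⁻¹ * u = g * (w * z) * g⁻¹ := by rw [hu]; group
        _ = g * (z * w) * g⁻¹ := by rw [hcomm]
        _ = u * (g * w * g⁻¹) := by rw [hu]; group
    have h1 := Subgroup.card_dvd_of_le hle
    rwa [← Nat.card_congr ((S : Subgroup G).equivMapOfInjective _ (MulAut.conj g).injective).toEquiv, hS] at h1
  obtain ⟨m, hm⟩ := h128
  have hm0 : m ≠ 0 := fun e => by rw [e, mul_zero] at hm; exact Nat.card_pos.ne' hm
  rw [hm] at heqn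
  push_cast at heqn
  have hsd' := abs_le.mp hsd
  have hm1 : (1 : ℤ) ≤ (m : ℤ) * m := by
    have : (1 : ℤ) ≤ m := by omega
    nlinarith
  rcases hd49 with rfl | rfl <;> push_cast at heqn hsd'
  · have h9 : (4 - s) * (4 - s) ≤ 64 := by nlinarith [hsd'.1, hsd'.2]
    nlinarith
  · have h9 : (9 - s) * (9 - s) ≤ 324 := by nlinarith [hsd'.1, hsd'.2]
    nlinarith

end Cfsg.Agent.S0980
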