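import Cfsg.Statements.S0983
import Cfsg.Agent.Lib.SmallGroups.OrdersMidCases
import Cfsg.Agent.Lib.SmallGroups.OrdersMidLines
import Cfsg.Agent.Lib.SmallGroups.OrdersMidSieve
import Cfsg.Agent.Lib.KGroups.NoSimple3960
import Cfsg.Agent.S0144
import Cfsg.Agent.S0499
import Cfsg.Agent.S0073
import Cfsg.Agent.S0974
import Cfsg.Agent.S0975
import Cfsg.Agent.S0976
import Cfsg.Agent.S0977
import Cfsg.Agent.S0978
import Cfsg.Agent.S0979
import Cfsg.Agent.S0980

set_option autoImplicit false
open Cfsg

namespace Cfsg.Agent.S0983

/-- A non-abelian finite simple group of order greater than 3640 and at most 6232 has order 4080, 5616, 6048 or 6072. -/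
theorem result {G : Type*} [Group G] [Finite G] [IsSimpleGroup G] (hG : ¬ IsMulCommutative G) (h1 : 3640 < Nat.card G) (h2 : Nat.card G ≤ 6232) : Nat.card G = 4080 ∨ Nat.card G = 5616 ∨ Nat.card G = 6048 ∨ Nat.card G = 6072 := by
  classical
  open CfsgLib.SmallGroups.SimpleTools CfsgLib.SmallGroups.LocalTools CfsgLib.SmallGroups.OrdersMid in
  have hn0 : Nat.card G ≠ 0 := Nat.card_pos.ne'
  have hnc : ∃ x y : G, x * y ≠ y * x := by
    by_contra hc
    push Not at hc
    exact hG ⟨⟨hc⟩⟩
  have hthree : 3 ≤ (Nat.card G).primeFactors.card := by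
    by_contra hlt
    obtain ⟨p, q, a, b, hp, hq, he⟩ : ∃ p q a b : ℕ, p.Prime ∧ q.Prime ∧ Nat.card G = p ^ a * q ^ b := by
      have hprod := Nat.prod_factorization_pow_eq_self hn0
      rw [Nat.prod_factorization_eq_prod_primeFactors] at hprod
      have hc : (Nat.card G).primeFactors.card = 0 ∨ (Nat.card G).primeFactors.card = 1 ∨
          (Nat.card G).primeFactors.card = 2 := by omega
      rcases hc with hc | hc | hc
      · exact ⟨2, 2, 0, 0, Nat.prime_two, Nat.prime_two, by
          rw [Finset.card_eq_zero.mp hc, Finset.prod_empty] at hprod; simpa using hprod.symm⟩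
      · obtain ⟨p, hp⟩ := Finset.card_eq_one.mp hc
        refine ⟨p, p, (Nat.card G).factorization p, 0, ?_, ?_, ?_⟩
        · exact Nat.prime_of_mem_primeFactors (hp ▸ Finset.mem_singleton_self p)
        · exact Nat.prime_of_mem_primeFactors (hp ▸ Finset.mem_singleton_self p)
        · rw [hp, Finset.prod_singleton] at hprod; simpa using hprod.symm
      · obtain ⟨p, q, hpq, hp⟩ := Finset.card_eq_two.mp hc
        refine ⟨p, q, (Nat.card G).factorization p, (Nat.card G).factorization q, ?_, ?_, ?_⟩
        · exact Nat.prime_of_mem_primeFactors (hp ▸ Finset.mem_insert_self p {q})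
        · exact Nat.prime_of_mem_primeFactors (hp ▸ Finset.mem_insert_of_mem (Finset.mem_singleton_self q))
        · rw [hp, Finset.prod_pair hpq] at hprod; exact hprod.symm
    have := Cfsg.Agent.S0144.result p q a b hp hq he
    exact hG ⟨⟨(IsSimpleGroup.comm_iff_isSolvable (G := G)).mpr this⟩⟩
  open CfsgLib.SmallGroups.SimpleTools CfsgLib.SmallGroups.LocalTools CfsgLib.SmallGroups.OrdersMid in
  have hsurv : surviveMid (Nat.card G) = true := by
    simp only [surviveMid, Bool.and_eq_true, decide_eq_true_eq, List.all_eq_true]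
    refine ⟨⟨?_, hthree.trans (card_primeFactors_le_mid _ (by omega))⟩, fun p hp => ?_⟩
    · unfold preMid
      by_cases h2 : Nat.card G % 2 = 0
      · rw [if_pos (by simpa using h2)]
        rcases Cfsg.Agent.S0499.result hG (Nat.even_iff.mpr h2) with h' | h' | h' <;>
          simp [Nat.mod_eq_zero_of_dvd h']
      · rw [if_neg (by simpa using h2)]
        have hd : (Nat.card G).minFac ^ 3 ∣ Nat.card G :=
          (Cfsg.Agent.S0073.result hnc).resolve_right fun h' =>
            h2 (Nat.mod_eq_zero_of_dvd ((show 2 ∣ 12 by norm_num).trans h'))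
        have hne1 : Nat.card G ≠ 1 := fun e => by rw [e] at hthree; simp at hthree
        have hpr := Nat.minFac_prime hne1
        have hle := Nat.le_of_dvd Nat.card_pos hd
        have h11 : (Nat.card G).minFac < 19 := by
          by_contra hge
          have := Nat.pow_le_pow_left (Nat.le_of_not_lt hge) 3
          omega
        have h3 : 3 ≤ (Nat.card G).minFac := by
          have := hpr.two_le
          rcases Nat.lt_or_ge (Nat.card G).minFac 3 with hl | hl
          · exact absurd (Nat.mod_eq_zero_of_dvd ((show (Nat.card G).minFac = 2 by omega) ▸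
              Nat.minFac_dvd (Nat.card G))) h2
          · exact hl
        rw [List.any_eq_true]
        refine ⟨(Nat.card G).minFac, List.mem_range.mpr h11, ?_⟩
        simp only [Bool.and_eq_true, decide_eq_true_eq, beq_iff_eq]
        exact ⟨h3, Nat.mod_eq_zero_of_dvd (by rw [pow_three, ← mul_assoc] at hd; exact hd)⟩
    · obtain ⟨hpp, hpd⟩ := prime_of_mem_mid hp
      have : Fact p.Prime := ⟨hpp⟩
      rw [goodMid, List.all_eq_true]
      intro a _
      simp only [Bool.or_eq_true, beq_iff_eq, Bool.not_eq_true', beq_eq_false_iff_ne]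
      by_cases ha : a = 0
      · exact Or.inl (Or.inl (Or.inl ha))
      by_cases hda : Nat.card G % p ^ a = 0
      · by_cases hda1 : Nat.card G % p ^ (a + 1) = 0
        · exact Or.inl (Or.inr hda1)
        · refine Or.inr ?_
          obtain ⟨m, hm⟩ := Nat.dvd_of_mod_eq_zero hda
          have hpm : ¬ p ∣ m := fun ⟨c, hc⟩ => hda1 (Nat.mod_eq_zero_of_dvd ⟨c, by rw [hm, hc]; ring⟩)
          have hm0 : m ≠ 0 := fun e => hpm (e ▸ dvd_zero p)
          have hmdiv : Nat.card G / p ^ a = m := by rw [hm, Nat.mul_div_cancel_left _ (pow_pos hpp.pos a)]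
          rw [hmdiv, CfsgLib.SmallGroups.OrdersSieve.cands, List.any_eq_true]
          have hmem := card_sylow_mem (p := p) (k := a) hm hm0
          obtain ⟨hk1, hkmod⟩ := Finset.mem_filter.mp hmem
          have hkd := (Nat.mem_divisors.mp hk1).1
          obtain ⟨P⟩ : Nonempty (Sylow p G) := inferInstance
          have hne := card_sylow_ne_one hG hpd (p := p)
          have hpos : 0 < Nat.card (Sylow p G) := Nat.card_pos
          have hfac : 2 * Nat.card G ∣ (Nat.card (Sylow p G)).factorial := by
            rw [P.card_eq_index_normalizer]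
            exact two_mul_card_dvd_factorial hG _ (normalizer_ne_top hG hpd P)
          refine ⟨Nat.card (Sylow p G), List.mem_range.mpr (Nat.lt_succ_of_le (Nat.le_of_dvd (Nat.pos_of_ne_zero hm0) hkd)), ?_⟩
          simp only [Bool.and_eq_true, decide_eq_true_eq, beq_iff_eq, Bool.or_eq_true, Bool.not_eq_true',
            beq_eq_false_iff_ne, List.any_eq_true, List.mem_range, CfsgLib.SmallGroups.OrdersSieve.fmod_eq]
          refine ⟨⟨⟨⟨by omega, Nat.mod_eq_zero_of_dvd hkd⟩, hkmod⟩, Nat.mod_eq_zero_of_dvd hfac⟩, ?_⟩
          by_cases ha1 : a = 1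
          · refine Or.inr ?_
            subst ha1
            have hP : Nat.card (P : Subgroup G) = p :=
              (card_sylow_subgroup (k := 1) hm hpm P).trans (pow_one p)
            obtain ⟨e, k, he1, hed, hN, -⟩ := exists_e hG P hP
            have hmul := card_normalizer_mul P
            have hdiv : Nat.card G / Nat.card (Sylow p G) = e * (p * k) := by
              rw [← hmul, Nat.mul_div_cancel_left _ hpos, hN]
            refine ⟨?_, e, ?_, ⟨⟨?_, Nat.mod_eq_zero_of_dvd hed⟩, ?_⟩⟩
            · by_cases hp2 : p = 2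
              · exact Or.inl (Or.inl hp2)
              by_cases hsucc : Nat.card (Sylow p G) = p + 1
              · refine Or.inr (Nat.mod_eq_zero_of_dvd ?_)
                have := card_normalizer_of_succ hG hp2 P hP hsucc
                rwa [hN, ← hdiv] at this
              · exact Or.inl (Or.inr hsucc)
            · have h2p := hpp.two_le
              have := Nat.le_of_dvd (by omega) hed
              omega
            · have he0 : e ≠ 0 := fun e0 => by
                rw [e0, zero_mul] at hN
                exact Nat.card_pos.ne' hN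
              omega
            · rw [hdiv, show e * (p * k) = p * (e * k) by ring, Nat.mul_div_cancel_left _ hpp.pos,
                Nat.mul_mod_right]
          · exact Or.inl ha1
      · exact Or.inl (Or.inl (Or.inr hda))
  have hcases := CfsgLib.SmallGroups.OrdersMid.survive_mid _ h1 h2 hsurv
  simp only [CfsgLib.SmallGroups.OrdersMid.survivors, List.mem_cons, List.not_mem_nil, or_false] at hcases
  rcases hcases with e | e | e | e | e | e | e | e | e | e | e | e | e | e | e | e | e | e | e | e | e | e | e | e | e | e | e | e | e | e | e | e | e | e | e | e | e | e | e | e | e | e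
  · exact absurd e Cfsg.Agent.S0974.result
  · have : Fact (Nat.Prime 11) := ⟨by norm_num⟩
    exact (CfsgLib.SmallGroups.OrdersMid.false_of_relation hG (p := 11) (m := 336) (by rw [e]) (by norm_num)
      (by norm_num) (by decide +kernel)).elim
  · exact absurd e Cfsg.Agent.S0975.result
  · exact (CfsgLib.SmallGroups.OrdersMid.ne_3780 hG e).elim
  · have : Fact (Nat.Prime 2) := ⟨by norm_num⟩
    exact (CfsgLib.SmallGroups.OrdersMid.false_of_meet hG (p := 2) (m := 15) (a := 8) (by rw [e]; norm_num)
      (by norm_num) (by norm_num) 11 (by rw [e]; decide +kernel) (by decide +kernel) (by decide +kernel)).elim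
  · have : Fact (Nat.Prime 11) := ⟨by norm_num⟩
    have h45 := CfsgLib.SmallGroups.OrdersBelow1092.sylow_count hG (p := 11) (k := 1) (m := 360)
      (by rw [e]; norm_num) (by norm_num) (by norm_num)
    rw [show ((Nat.divisors 360).filter (fun n => n % 11 = 1)).erase 1 = {12, 45} by decide +kernel] at h45
    simp only [Finset.mem_insert, Finset.mem_singleton] at h45
    rcases h45 with h45 | h45
    · obtain ⟨P⟩ : Nonempty (Sylow 11 G) := inferInstance
      have h2 := CfsgLib.SmallGroups.SimpleTools.card_normalizer_of_succ hG (p := 11) (by norm_num) P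
        ((CfsgLib.SmallGroups.SimpleTools.card_sylow_subgroup (k := 1) (m := 360) (by rw [e]; norm_num)
          (by norm_num) P).trans (pow_one 11)) h45
      have h3 := CfsgLib.SmallGroups.SimpleTools.card_normalizer_mul P
      rw [h45, e] at h3
      rw [show Nat.card (Subgroup.normalizer ((P : Subgroup G) : Set G)) = 330 by omega] at h2
      norm_num at h2
    · exact (CfsgLib.KGroups.NoSimple3960.false_of_simple hG (k := 4) (Or.inr rfl) (by rw [e]) h45).elim
  · exact absurd e Cfsg.Agent.S0976.result
  · exact Or.inl e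
  · have : Fact (Nat.Prime 13) := ⟨by norm_num⟩
    exact (CfsgLib.SmallGroups.OrdersMid.false_of_relation hG (p := 13) (m := 320) (by rw [e]) (by norm_num)
      (by norm_num) (by decide +kernel)).elim
  · exact (CfsgLib.SmallGroups.OrdersMid.ne_4200 hG e).elim
  · exact (CfsgLib.SmallGroups.OrdersMid.ne_4212 hG e).elim
  · exact absurd e Cfsg.Agent.S0977.result
  · have : Fact (Nat.Prime 11) := ⟨by norm_num⟩
    exact (CfsgLib.SmallGroups.OrdersMid.false_of_relation hG (p := 11) (m := 400) (by rw [e]) (by norm_num)
      (by norm_num) (by decide +kernel)).elim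
  · have : Fact (Nat.Prime 2) := ⟨by norm_num⟩
    exact (CfsgLib.SmallGroups.OrdersMid.false_of_meet hG (p := 2) (m := 35) (a := 7) (by rw [e]; norm_num)
      (by norm_num) (by norm_num) 9 (by rw [e]; decide +kernel) (by decide +kernel) (by decide +kernel)).elim
  · have : Fact (Nat.Prime 5) := ⟨by norm_num⟩
    exact (CfsgLib.SmallGroups.OrdersMid.false_of_meet hG (p := 5) (m := 36) (a := 3) (by rw [e]; norm_num)
      (by norm_num) (by norm_num) 14 (by rw [e]; decide +kernel) (by decide +kernel) (by decide +kernel)).elim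
  · exact (CfsgLib.SmallGroups.OrdersMid.ne_4536 hG e).elim
  · exact (CfsgLib.SmallGroups.OrdersMid.ne_4620 hG e).elim
  · have : Fact (Nat.Prime 13) := ⟨by norm_num⟩
    exact (CfsgLib.SmallGroups.OrdersMid.false_of_relation hG (p := 13) (m := 360) (by rw [e]) (by norm_num)
      (by norm_num) (by decide +kernel)).elim
  · have : Fact (Nat.Prime 5) := ⟨by norm_num⟩
    exact (CfsgLib.SmallGroups.OrdersMid.false_of_meet hG (p := 5) (m := 189) (a := 2) (by rw [e]; norm_num)
      (by norm_num) (by norm_num) 9 (by rw [e]; decide +kernel) (by decide +kernel) (by decide +kernel)).elim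
  · have : Fact (Nat.Prime 7) := ⟨by norm_num⟩
    exact (CfsgLib.SmallGroups.OrdersMid.false_of_relation hG (p := 7) (m := 680) (by rw [e]) (by norm_num)
      (by norm_num) (by decide +kernel)).elim
  · exact (CfsgLib.SmallGroups.OrdersMid.ne_4800 hG e).elim
  · have : Fact (Nat.Prime 11) := ⟨by norm_num⟩
    exact (CfsgLib.SmallGroups.OrdersMid.false_of_relation hG (p := 11) (m := 448) (by rw [e]) (by norm_num)
      (by norm_num) (by decide +kernel)).elim
  · have : Fact (Nat.Prime 31) := ⟨by norm_num⟩
    exact (CfsgLib.SmallGroups.OrdersMid.false_of_relation hG (p := 31) (m := 160) (by rw [e]) (by norm_num)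
      (by norm_num) (by decide +kernel)).elim
  · exact absurd e Cfsg.Agent.S0978.result
  · have : Fact (Nat.Prime 29) := ⟨by norm_num⟩
    exact (CfsgLib.SmallGroups.OrdersMid.false_of_relation hG (p := 29) (m := 176) (by rw [e]) (by norm_num)
      (by norm_num) (by decide +kernel)).elim
  · exact (CfsgLib.SmallGroups.OrdersMid.ne_5148 hG e).elim
  · have : Fact (Nat.Prime 13) := ⟨by norm_num⟩
    exact (CfsgLib.SmallGroups.OrdersMid.false_of_relation hG (p := 13) (m := 400) (by rw [e]) (by norm_num)
      (by norm_num) (by decide +kernel)).elim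
  · have : Fact (Nat.Prime 7) := ⟨by norm_num⟩
    exact (CfsgLib.SmallGroups.OrdersMid.false_of_meet hG (p := 7) (m := 108) (a := 2) (by rw [e]; norm_num)
      (by norm_num) (by norm_num) 13 (by rw [e]; decide +kernel) (by decide +kernel) (by decide +kernel)).elim
  · exact (CfsgLib.SmallGroups.OrdersMid.ne_5376 hG e).elim
  · exact (CfsgLib.SmallGroups.OrdersMid.ne_5400 hG e).elim
  · exact (CfsgLib.SmallGroups.OrdersMid.ne_5460 hG e).elim
  · exact absurd e Cfsg.Agent.S0979.result
  · have : Fact (Nat.Prime 7) := ⟨by norm_num⟩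
    exact (CfsgLib.SmallGroups.OrdersMid.false_of_relation hG (p := 7) (m := 800) (by rw [e]) (by norm_num)
      (by norm_num) (by decide +kernel)).elim
  · exact Or.inr (Or.inl e)
  · have : Fact (Nat.Prime 53) := ⟨by norm_num⟩
    exact (CfsgLib.SmallGroups.OrdersMid.false_of_relation hG (p := 53) (m := 108) (by rw [e]) (by norm_num)
      (by norm_num) (by decide +kernel)).elim
  · exact absurd e Cfsg.Agent.S0980.result
  · exact (CfsgLib.SmallGroups.OrdersMid.ne_5880 hG e).elim
  · exact (CfsgLib.SmallGroups.OrdersMid.ne_5940 hG e).elim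
  · have : Fact (Nat.Prime 5) := ⟨by norm_num⟩
    exact (CfsgLib.SmallGroups.OrdersMid.false_of_meet hG (p := 5) (m := 48) (a := 3) (by rw [e]; norm_num)
      (by norm_num) (by norm_num) 14 (by rw [e]; decide +kernel) (by decide +kernel) (by decide +kernel)).elim
  · exact Or.inr (Or.inr (Or.inl e))
  · exact Or.inr (Or.inr (Or.inr e))
  · have : Fact (Nat.Prime 7) := ⟨by norm_num⟩
    exact (CfsgLib.SmallGroups.OrdersMid.false_of_relation hG (p := 7) (m := 880) (by rw [e]) (by norm_num)
      (by norm_num) (by decide +kernel)).elim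

end Cfsg.Agent.S0983
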