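import Cfsg.Statements.S4345
import Cfsg.Agent.Lib.NumberTheory.SylowCount

set_option autoImplicit false
open Cfsg

namespace Cfsg.Agent.S4345

open CfsgLib.NT.SylowCount

theorem aux {p ℓ : ℕ} [Fact p.Prime] (hℓ : ℓ.Prime) : ∀ (n : ℕ) (G : Type*) [Group G] [Finite G]
    [Group.IsSolvable G], Nat.card G = n →
    ℓ ^ (Nat.card (Sylow p G)).factorization ℓ ≡ 1 [MOD p] := by
  intro n
  induction n using Nat.strong_induction_on with
  | _ n ih =>
    intro G _ _ _ hn
    rcases subsingleton_or_nontrivial G with hs | hnt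
    · have : Subsingleton (Sylow p G) := ⟨fun a b => Sylow.ext (Subsingleton.elim _ _)⟩
      rw [Nat.card_of_subsingleton (default : Sylow p G), Nat.factorization_one]
      rfl
    obtain ⟨K, r, hr, hKn, hK1, -, -, hKr, -⟩ :=
      CfsgLib.Solvable.Basic.exists_minimal_normal_pgroup (G := G) (H := ⊤) top_ne_bot
    have := hKn
    have := Fact.mk hr
    obtain ⟨P⟩ := (inferInstance : Nonempty (Sylow p G))
    have hlt : Nat.card (G ⧸ K) < n := hn ▸ CfsgLib.Solvable.Basic.card_quotient_lt K hK1
    have h1 := ih _ hlt (G ⧸ K) rfl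
    rw [card_sylow_eq_quotient_mul_sup P K,
      Nat.factorization_mul Nat.card_pos.ne' Nat.card_pos.ne', Finsupp.add_apply, pow_add]
    suffices h2 : ℓ ^ (Nat.card (Sylow p ↥((P : Subgroup G) ⊔ K))).factorization ℓ ≡ 1 [MOD p] by
      simpa using h1.mul h2
    by_cases hpr : r = p
    · subst hpr
      have hle : K ≤ (P : Subgroup G) := hKr.le_sylow_of_normal P
      have hL : IsPGroup r ↥((P : Subgroup G) ⊔ K) := by
        rw [sup_eq_left.2 hle]
        exact P.isPGroup'
      have : Subsingleton (Sylow r ↥((P : Subgroup G) ⊔ K)) := ⟨fun a b => Sylow.ext (by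
        rw [a.is_maximal' (Q := ⊤) (hL.to_subgroup ⊤) le_top |>.symm,
          b.is_maximal' (Q := ⊤) (hL.to_subgroup ⊤) le_top |>.symm])⟩
      rw [Nat.card_of_subsingleton (default : Sylow r ↥((P : Subgroup G) ⊔ K)), Nat.factorization_one]
      rfl
    · set L := (P : Subgroup G) ⊔ K with hL
      refine ordProj_modEq_of_coprime (P.subtype (le_sup_left : (P : Subgroup G) ≤ L))
        (K.subgroupOf L) ?_ ?_ hℓ
      · rw [Nat.card_congr (Subgroup.subgroupOfEquivOfLe (le_sup_right : K ≤ L)).toEquiv]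
        obtain ⟨k, hk⟩ := hKr.exists_card_eq
        rw [hk]
        exact fun h => hpr ((Nat.prime_dvd_prime_iff_eq Fact.out hr).1
          ((Fact.out : p.Prime).dvd_of_dvd_pow h)).symm
      · rw [Sylow.coe_subtype, ← Subgroup.subgroupOf_sup le_sup_left le_sup_right,
          Subgroup.subgroupOf_self]


/-- Let G be a finite solvable group and p, ℓ primes. Then the largest power of ℓ dividing the number of Sylow p-subgroups of G is congruent to 1 modulo p. -/
theorem result {G : Type*} [Group G] [Finite G]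
    (hG : Group.IsSolvable G) (p ℓ : ℕ) [Fact p.Prime] (hℓ : ℓ.Prime) :
    ℓ ^ (Nat.card (Sylow p G)).factorization ℓ ≡ 1 [MOD p] := by
  exact aux hℓ _ G rfl
end Cfsg.Agent.S4345
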