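import Cfsg.Statements.S0428
import Cfsg.Agent.Lib.SmallGroups.Steiner22
import Cfsg.Agent.Lib.SmallGroups.HSGraph

set_option autoImplicit false
open Cfsg CfsgLib.SmallGroups.Steiner CfsgLib.SmallGroups.Steiner22

namespace Cfsg.Agent.S0428

/-- The point-block graph of an S(3, 6, 22) is strongly regular with parameters (100, 22, 0, 6). -/
theorem result {α : Type*} [Fintype α] (hα : Fintype.card α = 22) {B : Set (Finset α)} (hB : Cfsg.IsSteinerSystem 3 6 B) [Fintype B] [DecidableRel (Cfsg.pointBlockGraph B).Adj] : (Cfsg.pointBlockGraph B).IsSRGWith 100 22 0 6 := by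
  classical
  have hne6 : ∀ v : B, ¬ Disjoint (v : Finset α) v := fun v h => by
    have h6 := hB.1 v v.2
    rw [Finset.disjoint_iff_inter_eq_empty, Finset.inter_self] at h
    simp [h] at h6
  have hsub : ∀ (P : Finset α → Prop) [DecidablePred P] [DecidablePred fun v : B => P v],
      (Finset.univ.filter fun v : B => P v).card = ((blocks B).filter P).card := fun P _ _ => by
    refine Finset.card_bij (fun v _ => (v : Finset α)) ?_ ?_ ?_
    · intro v hv; simp_all
    · exact fun v _ w _ h => Subtype.ext h
    · intro d hd
      rw [Finset.mem_filter, mem_blocks] at hd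
      exact ⟨⟨d, hd.1⟩, by simp [hd.2], rfl⟩
  -- the adjacency relation, case by case
  have ana : ∀ a, (pointBlockGraph B).Adj none (some (Sum.inl a)) := fun a => by
    simp [pointBlockGraph, pointBlockRel]
  have nnn : ¬ (pointBlockGraph B).Adj none none := (pointBlockGraph B).irrefl
  have anb : ∀ b, ¬ (pointBlockGraph B).Adj none (some (Sum.inr b)) := fun b => by
    simp [pointBlockGraph, pointBlockRel]
  have aaa : ∀ a a', ¬ (pointBlockGraph B).Adj (some (Sum.inl a)) (some (Sum.inl a')) := fun a a' => by
    simp [pointBlockGraph, pointBlockRel]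
  have aab : ∀ a b, (pointBlockGraph B).Adj (some (Sum.inl a)) (some (Sum.inr b)) ↔
      a ∈ (b : Finset α) := fun a b => by
    simp [pointBlockGraph, pointBlockRel]
  have abb : ∀ b c : B, (pointBlockGraph B).Adj (some (Sum.inr b)) (some (Sum.inr c)) ↔
      Disjoint (b : Finset α) c := fun b c => by
    simp only [pointBlockGraph, SimpleGraph.fromRel_adj, pointBlockRel, ne_eq]
    refine ⟨fun h => h.2.elim id fun h' => disjoint_comm.mp h', fun h => ⟨fun e => ?_, Or.inl h⟩⟩
    obtain rfl : b = c := by simpa using e
    exact hne6 b h
  have aan : ∀ a, (pointBlockGraph B).Adj (some (Sum.inl a)) none := fun a => (ana a).symm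
  have abn : ∀ b, ¬ (pointBlockGraph B).Adj (some (Sum.inr b)) none := fun b h => anb b h.symm
  have aba : ∀ b a, (pointBlockGraph B).Adj (some (Sum.inr b)) (some (Sum.inl a)) ↔
      a ∈ (b : Finset α) := fun b a => by rw [SimpleGraph.adj_comm, aab]
  have split : ∀ (P : Option (α ⊕ B) → Prop) [DecidablePred P], (Finset.univ.filter P).card =
      (if P none then 1 else 0) + (Finset.univ.filter fun a => P (some (Sum.inl a))).card +
        (Finset.univ.filter fun b => P (some (Sum.inr b))).card := fun P _ => by
    simp only [Finset.card_filter]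
    rw [Fintype.sum_option, Fintype.sum_sum_type, add_assoc]
  have hone : ∀ b : B, (Finset.univ.filter fun a => a ∈ (b : Finset α)).card = 6 := fun b => by
    rw [Finset.filter_mem_eq_inter, Finset.univ_inter, hB.1 b b.2]
  refine ⟨?_, fun v => ?_, fun v w h => ?_, fun v w hne h => ?_⟩
  · have e := card_blocks_mul hB
    rw [hα, show Nat.choose 6 3 = 20 from rfl, show Nat.choose 22 3 = 1540 from rfl] at e
    rw [Fintype.card_option, Fintype.card_sum, hα, ← Nat.card_eq_fintype_card, Nat.card_coe_set_eq,
      Set.ncard_eq_toFinset_card B]
    change 22 + (blocks B).card + 1 = 100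
    omega
  · rw [← SimpleGraph.card_neighborFinset_eq_degree, SimpleGraph.neighborFinset_eq_filter]
    match v with
    | none => rw [split]; simp [ana, anb, hα]
    | some (Sum.inl a) =>
      rw [split]
      simp only [aan, aaa, aab, if_true, Finset.filter_false, Finset.card_empty, add_zero]
      rw [hsub fun d => a ∈ d, card_through hα hB a]
    | some (Sum.inr b) =>
      rw [split]
      simp only [abn, aba, abb, if_false, zero_add, hone]
      rw [hsub fun d => Disjoint (b : Finset α) d, card_disjoint hα hB b.2]
  all_goals
    rw [← Nat.card_eq_fintype_card]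
    change Nat.card {u // (pointBlockGraph B).Adj v u ∧ (pointBlockGraph B).Adj w u} = _
    rw [Nat.card_eq_fintype_card, Fintype.card_subtype, split]
  · match v, w, h with
    | none, none, h => exact absurd h nnn
    | none, some (Sum.inr b), h => exact absurd h (anb b)
    | some (Sum.inr b), none, h => exact absurd h (abn b)
    | some (Sum.inl a), some (Sum.inl a'), h => exact absurd h (aaa a a')
    | none, some (Sum.inl a), _ => simp [nnn, ana, anb, aaa]
    | some (Sum.inl a), none, _ => simp [nnn, ana, anb, aaa]
    | some (Sum.inl a), some (Sum.inr b), h =>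
      simp only [aan, abn, aaa, aab, aba, abb, and_false, false_and, if_false, zero_add,
        Finset.filter_false, Finset.card_empty, Finset.card_eq_zero, Finset.filter_eq_empty_iff]
      exact fun c _ hc => Finset.disjoint_left.mp hc.2 ((aab a b).mp h) hc.1
    | some (Sum.inr b), some (Sum.inl a), h =>
      simp only [aan, abn, aaa, aab, aba, abb, and_false, false_and, if_false, zero_add,
        Finset.filter_false, Finset.card_empty, Finset.card_eq_zero, Finset.filter_eq_empty_iff]
      exact fun c _ hc => Finset.disjoint_left.mp hc.1 ((aba b a).mp h) hc.2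
    | some (Sum.inr b), some (Sum.inr c), h =>
      have hd := (abb b c).mp h
      simp only [abn, aba, abb, and_false, if_false, zero_add]
      have h0 : (Finset.univ.filter fun a => a ∈ (b : Finset α) ∧ a ∈ (c : Finset α)).card = 0 := by
        rw [Finset.card_eq_zero, Finset.filter_eq_empty_iff]
        exact fun a _ ha => Finset.disjoint_left.mp hd ha.1 ha.2
      rw [h0, zero_add, hsub fun d => Disjoint (b : Finset α) d ∧ Disjoint (c : Finset α) d,
        common_disjoint hα hB b.2 c.2 (fun e => hne6 b (by rw [← e]; simpa [e] using hd)), if_pos hd]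
  · match v, w, hne, h with
    | none, none, hne, _ => exact absurd rfl hne
    | none, some (Sum.inl a), _, h => exact absurd (ana a) h
    | some (Sum.inl a), none, _, h => exact absurd (aan a) h
    | none, some (Sum.inr b), _, _ => simp [nnn, ana, anb, abn, aba, hone, hB.1 b b.2]
    | some (Sum.inr b), none, _, _ => simp [nnn, ana, anb, abn, aba, hone, hB.1 b b.2]
    | some (Sum.inl a), some (Sum.inl a'), hne, _ =>
      simp only [aan, aaa, aab, and_self, if_true, Finset.filter_false, Finset.card_empty, add_zero]
      rw [hsub fun d => a ∈ d ∧ a' ∈ d, card_through_two hα hB (fun e => hne (by rw [e]))]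
    | some (Sum.inl a), some (Sum.inr b), _, h =>
      simp only [abn, aaa, aab, abb, and_false, false_and, if_false, zero_add, Finset.filter_false,
        Finset.card_empty]
      rw [hsub fun d => a ∈ d ∧ Disjoint (b : Finset α) d,
        card_through_disjoint hα hB b.2 (fun hm => h ((aab a b).mpr hm))]
    | some (Sum.inr b), some (Sum.inl a), _, h =>
      simp only [abn, aaa, aab, abb, and_false, false_and, if_false, zero_add, Finset.filter_false,
        Finset.card_empty]
      simp only [and_comm (a := Disjoint (b : Finset α) _)]
      rw [hsub fun d => a ∈ d ∧ Disjoint (b : Finset α) d,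
        card_through_disjoint hα hB b.2 (fun hm => h ((aba b a).mpr hm))]
    | some (Sum.inr b), some (Sum.inr c), hne, h =>
      have hd : ¬ Disjoint (b : Finset α) c := fun hd => h ((abb b c).mpr hd)
      have hcb : (c : Finset α) ≠ b := fun e => hne (by rw [Subtype.ext e])
      simp only [abn, aba, abb, and_false, if_false, zero_add]
      have h2 : (Finset.univ.filter fun a => a ∈ (b : Finset α) ∧ a ∈ (c : Finset α)).card = 2 := by
        have e : (Finset.univ.filter fun a => a ∈ (b : Finset α) ∧ a ∈ (c : Finset α)) =
            (c : Finset α) ∩ b := by ext a; simp [and_comm]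
        rw [e]
        rcases inter_cases hα hB b.2 c.2 hcb with h0 | h0
        · exact absurd (Finset.disjoint_iff_inter_eq_empty.mpr
            (by rw [Finset.inter_comm]; exact Finset.card_eq_zero.mp h0)) hd
        · exact h0
      rw [h2, hsub fun d => Disjoint (b : Finset α) d ∧ Disjoint (c : Finset α) d,
        common_disjoint hα hB b.2 c.2 hcb, if_neg hd]

end Cfsg.Agent.S0428
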