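import Cfsg.Statements.S1001
import Cfsg.Agent.S0904
import Cfsg.Agent.S0144

set_option autoImplicit false
open Cfsg

namespace Cfsg.Agent.S1001

/-- In a finite simple group whose order has the form p * 3^a * 2^b with p prime, the centralizer of any element of order p is the cyclic group it generates. -/
theorem result {G : Type*} [Group G] [Finite G] [IsSimpleGroup G] (p a b : ℕ) (hp : p.Prime) (hG : Nat.card G = p * 3 ^ a * 2 ^ b) (x : G) (hx : orderOf x = p) : Subgroup.centralizer ({x} : Set G) = Subgroup.zpowers x := by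
  have : Fact p.Prime := ⟨hp⟩
  by_cases hc : IsMulCommutative G
  · have hn : (Subgroup.zpowers x).Normal := ⟨fun y hy g => by rw [hc.is_comm.comm g y, mul_inv_cancel_right]; exact hy⟩
    have htop : Subgroup.zpowers x = ⊤ := hn.eq_bot_or_eq_top.resolve_left fun h => by
      have h1 := orderOf_eq_one_iff.2 (Subgroup.zpowers_eq_bot.1 h)
      rw [hx] at h1
      exact hp.one_lt.ne' h1
    rw [htop]
    exact eq_top_iff.2 fun y _ => Subgroup.mem_centralizer_singleton_iff.2 (hc.is_comm.comm y x)
  have hns : ¬ Group.IsSolvable G := fun h =>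
    hc ⟨⟨IsSimpleGroup.comm_iff_isSolvable.2 h⟩⟩
  have hp2 : p ≠ 2 := fun e => hns (Cfsg.Agent.S0144.result 3 2 a (b + 1) Nat.prime_three Nat.prime_two (by rw [hG, e]; ring))
  have hp3 : p ≠ 3 := fun e => hns (Cfsg.Agent.S0144.result 3 2 (a + 1) b Nat.prime_three Nat.prime_two (by rw [hG, e]; ring))
  obtain ⟨S, hS⟩ := (IsPGroup.of_card (n := 1) (by rw [Nat.card_zpowers, hx, pow_one]) :
    IsPGroup p ↥(Subgroup.zpowers x)).exists_le_sylow
  have hScard : Nat.card (S : Subgroup G) = p := by
    refine (CfsgLib.SmallGroups.SimpleTools.card_sylow_subgroup (k := 1) (m := 3 ^ a * 2 ^ b)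
      (by rw [hG]; ring) ?_ S).trans (pow_one p)
    intro h
    rcases (Nat.Prime.dvd_mul hp).1 h with h | h
    · exact hp3 ((Nat.prime_dvd_prime_iff_eq hp Nat.prime_three).1 (hp.dvd_of_dvd_pow h))
    · exact hp2 ((Nat.prime_dvd_prime_iff_eq hp Nat.prime_two).1 (hp.dvd_of_dvd_pow h))
  have hSx : Subgroup.zpowers x = (S : Subgroup G) :=
    Subgroup.eq_of_le_of_card_ge hS (by rw [hScard, Nat.card_zpowers, hx])
  have key := Cfsg.Agent.S0904.result 3 2 p a b Nat.prime_three Nat.prime_two (by norm_num) (Ne.symm hp3) (Ne.symm hp2)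
    (by rw [hG]; ring) S
  rw [← hSx] at key
  rw [← key]
  refine le_antisymm (fun y hy => Subgroup.mem_centralizer_iff.2 fun z hz => ?_) fun y hy =>
    Subgroup.mem_centralizer_singleton_iff.2 (Subgroup.mem_centralizer_iff.1 hy x (hS (Subgroup.mem_zpowers x))).symm
  obtain ⟨k, rfl⟩ := Subgroup.mem_zpowers_iff.1 (hSx.ge hz)
  exact ((show Commute x y from (Subgroup.mem_centralizer_singleton_iff.1 hy).symm).zpow_left k).eq

end Cfsg.Agent.S1001
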