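import Cfsg.Statements.S0132
import Cfsg.Agent.Lib.Fusion.Alperin
import Cfsg.Agent.Lib.OddOrder.Basic

set_option autoImplicit false
open Cfsg
open scoped commutatorElement

namespace Cfsg.Agent.S0132

/-- A minimal non-p-nilpotent finite group is a minimal non-nilpotent group with a normal Sylow p-subgroup. -/
theorem result {G : Type*} [Group G] [Finite G] {p : ℕ} [Fact p.Prime] (h1 : ¬ Cfsg.HasNormalPComplement p G) (h2 : ∀ H : Subgroup G, H ≠ ⊤ → Cfsg.HasNormalPComplement p H) : (∀ H : Subgroup G, H ≠ ⊤ → Group.IsNilpotent H) ∧ ¬ Group.IsNilpotent G ∧ ∀ P : Sylow p G, (P : Subgroup G).Normal := by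
  classical
  obtain ⟨P₀⟩ : Nonempty (Sylow p G) := inferInstance
  obtain ⟨Q, hQ, g, hg, hgo, hgc⟩ : ∃ Q : Subgroup G, Q ≤ (P₀ : Subgroup G) ∧
      ∃ g ∈ Subgroup.normalizer (Q : Set G), Nat.Coprime (orderOf g) p ∧
        g ∉ Subgroup.centralizer (Q : Set G) := by
    by_contra hc
    exact h1 (CfsgLib.Fusion.Alperin.npc_of_frobenius P₀ fun Q hQ g hg ho => by
      by_contra hgc
      exact hc ⟨Q, hQ, g, hg, ho, hgc⟩)
  have hQp : IsPGroup p Q := P₀.2.to_le hQ
  set H := Q ⊔ Subgroup.zpowers g with hH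
  have htop : H = ⊤ := by
    by_contra hne
    have hnpc := h2 H hne
    refine hgc fun q hq => ?_
    have hQH : Q ≤ H := le_sup_left
    have hgH : g ∈ H := Subgroup.mem_sup_right (Subgroup.mem_zpowers g)
    have := CfsgLib.Fusion.Alperin.centralizes_of_npc hnpc (Q := Q.subgroupOf H)
      (hQp.of_equiv (Subgroup.subgroupOfEquivOfLe hQH).symm) (g := ⟨g, hgH⟩)
      (Subgroup.le_normalizer_comap H.subtype (Subgroup.mem_comap.mpr hg))
      (by rwa [Subgroup.orderOf_mk]) ⟨q, hQH hq⟩ hq
    exact congrArg Subtype.val this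
  have hQn : Q.Normal := by
    rw [← Subgroup.normalizer_eq_top_iff, eq_top_iff, ← htop, hH]
    exact sup_le Subgroup.le_normalizer (Subgroup.zpowers_le.mpr hg)
  -- `G ⧸ Q` is cyclic, generated by the image of `g`
  have hgen : ∀ x : G, ∃ k : ℤ, ∃ q ∈ Q, x = q * g ^ k := by
    intro x
    have hx : x ∈ ((Q ⊔ Subgroup.zpowers g : Subgroup G) : Set G) := by
      rw [← hH, htop]; exact Subgroup.mem_top x
    rw [Subgroup.normal_mul] at hx
    obtain ⟨q, hq, _, ⟨k, rfl⟩, rfl⟩ := Set.mem_mul.mp hx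
    exact ⟨k, q, hq, rfl⟩
  have hindex : Q.index ∣ orderOf g := by
    have h3 : Q.relIndex H ∣ orderOf g := by
      rw [hH, sup_comm, Subgroup.relIndex_sup_right, ← Nat.card_zpowers]
      exact Subgroup.relIndex_dvd_card _ _
    rwa [htop, Subgroup.relIndex_top_right] at h3
  have hQi : ¬ p ∣ Q.index := fun hd =>
    (Fact.out : p.Prime).ne_one (Nat.eq_one_of_dvd_coprimes hgo (hd.trans hindex) dvd_rfl)
  have hnormal : ∀ P : Sylow p G, (P : Subgroup G).Normal := by
    intro P
    have hQP : Q ≤ (P : Subgroup G) := by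
      obtain ⟨d, hd⟩ := MulAction.exists_smul_eq G P₀ P
      intro x hx
      rw [← hd]
      exact ⟨d⁻¹ * x * d, hQ (by simpa using hQn.conj_mem x hx d⁻¹), by
        show d * (d⁻¹ * x * d) * d⁻¹ = x
        group⟩
    have hPQ : (P : Subgroup G) = Q := (hQp.toSylow hQi).3 P.2 hQP
    rw [hPQ]; exact hQn
  refine ⟨fun K hK => ?_, fun hnil => ?_, hnormal⟩
  · have hnpc := h2 K hK
    set A := Q.subgroupOf K with hA
    set B := Cfsg.pResidual p K with hB
    have hAp : IsPGroup p A := hQp.comap_of_injective K.subtype K.subtype_injective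
    have hAs : ¬ p ∣ A.index := fun hd => by
      haveI := hQn
      exact hQi (hd.trans (Subgroup.relIndex_dvd_index_of_normal Q K))
    have htopK : A ⊔ B = ⊤ := by
      rw [sup_comm]
      exact CfsgLib.Fusion.Basic.pResidual_sup_sylow (hAp.toSylow hAs)
    have hBc : IsMulCommutative B := by
      refine ⟨⟨fun a b => Subtype.ext (Subtype.ext ?_)⟩⟩
      have h5 : ⁅(a : K), (b : K)⁆ ∈ A ⊓ B := by
        refine ⟨?_, Subgroup.mul_mem _ (Subgroup.mul_mem _ (Subgroup.mul_mem _ a.2 b.2)
          (Subgroup.inv_mem _ a.2)) (Subgroup.inv_mem _ b.2)⟩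
        show ⁅((a : K) : G), ((b : K) : G)⁆ ∈ Q
        obtain ⟨i, q, hq, ha⟩ := hgen ((a : K) : G)
        obtain ⟨j, r, hr, hb⟩ := hgen ((b : K) : G)
        rw [← QuotientGroup.eq_one_iff, ← QuotientGroup.mk'_apply, map_commutatorElement, ha, hb,
          map_mul, map_mul, show QuotientGroup.mk' Q q = 1 from (QuotientGroup.eq_one_iff q).mpr hq,
          show QuotientGroup.mk' Q r = 1 from (QuotientGroup.eq_one_iff r).mpr hr, one_mul, one_mul,
          map_zpow, map_zpow, commutatorElement_eq_one_iff_mul_comm]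
        exact ((Commute.refl _).zpow_zpow i j).eq
      rw [CfsgLib.Fusion.Basic.inf_eq_bot_of_coprime hAp
        (CfsgLib.Fusion.Basic.npc_iff_coprime.mp hnpc), Subgroup.mem_bot,
        commutatorElement_eq_one_iff_mul_comm] at h5
      exact congrArg Subtype.val h5
    haveI : Group.IsNilpotent A := hAp.isNilpotent
    haveI : Group.IsNilpotent B := by
      letI : CommGroup B := { (inferInstance : Group B) with mul_comm := hBc.is_comm.comm }
      infer_instance
    have hAn : A.Normal := by haveI := hQn; exact Subgroup.Normal.subgroupOf inferInstance K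
    have hnilAB := CfsgLib.OddOrder.Basic.isNilpotent_sup_of_commute (A := A) (B := B)
      fun a ha b hb => (CfsgLib.Fusion.Alperin.centralizes_of_npc hnpc hAp
        (by rw [Subgroup.normalizer_eq_top_iff.mpr hAn]; exact Subgroup.mem_top b)
        ((CfsgLib.Fusion.Basic.mem_pResidual_iff hnpc).mp hb) a ha)
    rw [htopK] at hnilAB
    exact Group.nilpotent_of_mulEquiv (G := (⊤ : Subgroup K)) Subgroup.topEquiv
  · refine hgc fun q hq => ?_
    have hco : (orderOf q).Coprime (orderOf g) := by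
      obtain ⟨k, hk⟩ := hQp ⟨q, hq⟩
      have : orderOf q ∣ p ^ k := orderOf_dvd_of_pow_eq_one (by simpa using congrArg Subtype.val hk)
      exact (hgo.symm.pow_left k).coprime_dvd_left this
    exact CfsgLib.OddOrder.Basic.commute_of_coprime_orderOf hco


end Cfsg.Agent.S0132
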