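import Cfsg.Statements.S5360
import Cfsg.Agent.Lib.ThreeTransp.ReflThree
import Cfsg.Agent.Lib.Classical.OrthSimple
import Cfsg.Agent.Lib.Classical.OrthPOmega
import Cfsg.Agent.Lib.Components.GenFitting
import Cfsg.Agent.Lib.Sporadic.FischerPrimitive

set_option autoImplicit false
open scoped MatrixGroups commutatorElement
set_option maxHeartbeats 1600000
open Cfsg

open CfsgLib CfsgLib.Orth CfsgLib.Classical CfsgLib.ThreeTransp.ReflThree QuadraticMap Module
namespace Cfsg.Agent.S5360

/-- Let Q be a non-degenerate quadratic form on the n-dimensional coordinate space over the field with three elements, n ≥ 5, c a non-zero scalar, and R the subgroup of the isometry group generated by the reflections of norm c. Then the commutator subgroup of R is quasisimple of index at most 2, the generalized Fitting subgroup of R is the product of the centre and the commutator subgroup, and R acts primitively by conjugation on its reflections of norm c. -/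
theorem result (n : ℕ) (hn : 5 ≤ n) (Q : QuadraticForm (ZMod 3) (Fin n → ZMod 3)) (hQ : (QuadraticMap.polarBilin Q).Nondegenerate) (c : ZMod 3) (hc : c ≠ 0) : Cfsg.IsQuasisimple (commutator ↥(Cfsg.reflectionSubgroup (⇑Q) c)) ∧ (commutator ↥(Cfsg.reflectionSubgroup (⇑Q) c)).index ≤ 2 ∧ Cfsg.generalizedFittingSubgroup ↥(Cfsg.reflectionSubgroup (⇑Q) c) = Subgroup.center ↥(Cfsg.reflectionSubgroup (⇑Q) c) ⊔ commutator ↥(Cfsg.reflectionSubgroup (⇑Q) c) ∧ Cfsg.IsPrimitiveUnderConj {g : ↥(Cfsg.reflectionSubgroup (⇑Q) c) | (g : ↥(Cfsg.isometryGroup (ZMod 3) (⇑Q))) ∈ Cfsg.reflectionsOfNorm (⇑Q) c} := by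
  classical
  have h2 : (2 : ZMod 3) ≠ 0 := by decide
  have h4 : Good (ZMod 3) (Fin n → ZMod 3) := good_of_two_ne h2
  have hfin : 5 ≤ finrank (ZMod 3) (Fin n → ZMod 3) := by rw [Module.finrank_fin_fun]; exact hn
  obtain ⟨hp⟩ := exists_hypPairs hQ hfin
  set E := toOrth Q (fun _ => rfl) with hE
  set R := Cfsg.reflectionSubgroup (⇑Q) c with hR
  set ι : ↥R →* orthGroup Q := E.toMonoidHom.comp R.subtype with hι
  have hinj : Function.Injective ι := E.injective.comp Subtype.val_injective
  have hRc : R = (R0 Q c).comap E.toMonoidHom := reflectionSubgroup_eq Q c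
  have hmem : ∀ g, g ∈ R ↔ E g ∈ R0 Q c := fun g => by rw [hRc]; exact Iff.rfl
  have hrange : ι.range = R0 Q c := by
    refine le_antisymm ?_ fun g hg => ⟨⟨E.symm g, (hmem _).2 (by rwa [E.apply_symm_apply])⟩, E.apply_symm_apply g⟩
    rintro g ⟨x, rfl⟩
    exact (hmem _).1 x.2
  set D : Set ↥R := {g : ↥R | (g : ↥(Cfsg.isometryGroup (ZMod 3) (⇑Q))) ∈ Cfsg.reflectionsOfNorm (⇑Q) c} with hD
  have hDι : ∀ g : ↥R, g ∈ D ↔ ι g ∈ D0 Q c := fun g => by
    show (g : ↥(Cfsg.isometryGroup (ZMod 3) (⇑Q))) ∈ Cfsg.reflectionsOfNorm (⇑Q) c ↔ _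
    rw [reflectionsOfNorm_eq]
    exact Iff.rfl
  -- 3-transposition group, one class
  have hgen : Subgroup.closure D = ⊤ := by
    refine Subgroup.map_injective hinj ?_
    rw [MonoidHom.map_closure, ← MonoidHom.range_eq_map, hrange, R0]
    congr 1
    refine Set.Subset.antisymm ?_ fun g hg => ?_
    · rintro g ⟨x, hx, rfl⟩; exact (hDι x).1 hx
    · obtain ⟨x, rfl⟩ : g ∈ ι.range := hrange.symm ▸ Subgroup.subset_closure hg
      exact ⟨x, (hDι x).2 hg, rfl⟩
  have hG : Cfsg.IsThreeTranspositionGroup D := by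
    refine ⟨⟨fun d hd => ?_, fun d hd e he => ?_⟩, fun g d hd => ?_, hgen⟩
    · obtain ⟨v, hv, hve⟩ := (hDι d).1 hd
      rw [← orderOf_injective ι hinj, ← hve]
      exact refl_order (by rw [hv]; exact hc)
    · obtain ⟨v, hv, hve⟩ := (hDι d).1 hd
      obtain ⟨w, hw, hwe⟩ := (hDι e).1 he
      refine (product_cases hc hv hw).imp (fun h => hinj ?_) (fun h => hinj ?_) <;>
        rw [map_pow, map_mul, map_one, ← hve, ← hwe, h]
    · rw [hDι, map_mul, map_mul, map_inv]
      exact conj_mem_D0 _ ((hDι d).1 hd)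
  have hclass : ∀ a ∈ D, ∀ b ∈ D, ∃ g : ↥R, g * a * g⁻¹ = b := by
    intro a ha b hb
    obtain ⟨u, hu, hua⟩ := (hDι a).1 ha
    obtain ⟨v, hv, hvb⟩ := (hDι b).1 hb
    obtain ⟨x, hx, hxe⟩ := conjugate hQ hn hc hu hv
    obtain ⟨g, rfl⟩ : x ∈ ι.range := hrange.symm ▸ hx
    exact ⟨g, hinj (by rw [map_mul, map_mul, map_inv, ← hua, ← hvb, hxe])⟩
  obtain ⟨a₀, ha₀⟩ : ∃ a : Fin n → ZMod 3, Q a ≠ 0 := ⟨hp.e₀ + hp.f₀, by
    rw [quad_add', hp.he₀, hp.hf₀, hp.h00, add_zero, zero_add]; exact one_ne_zero⟩
  obtain ⟨u, -, -, hu⟩ := exists_perp_value hQ hn ha₀ a₀ c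
  obtain ⟨x, hux, -, hx⟩ := exists_perp_value hQ hn (a := u) (by rw [hu]; exact hc) u c
  have hlift : ∀ {v : Fin n → ZMod 3}, Q v = c → ∃ d ∈ D, ι d = refl Q v := fun {v} hv => by
    obtain ⟨d, hd⟩ : refl Q v ∈ ι.range := hrange.symm ▸ refl_mem hv
    exact ⟨d, (hDι d).2 ⟨v, hv, hd.symm⟩, hd⟩
  obtain ⟨d₀, hd₀, hd₀e⟩ := hlift hu
  obtain ⟨d₁, hd₁, hd₁e⟩ := hlift hx
  have hD2 : ∃ a ∈ D, ∃ b ∈ D, a ≠ b := ⟨d₀, hd₀, d₁, hd₁, fun h => by
    have h' : refl Q u = refl Q x := by rw [← hd₀e, ← hd₁e, h]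
    have e1 := refl_self Q (show Q x ≠ 0 by rw [hx]; exact hc)
    rw [← h', refl_fix Q hux, eq_neg_iff_add_eq_zero, ← two_smul (ZMod 3) x, smul_eq_zero] at e1
    rcases e1 with e1 | e1
    · exact h2 e1
    · exact hc (by rw [← hx, e1, QuadraticMap.map_zero])⟩
  -- the commutator subgroup
  have hR0 : commutator (orthGroup Q) ≤ R0 Q c := by
    have hi := index_eq_two hQ hn hc
    rw [commutator_def, Subgroup.commutator_le]
    intro g _ h _
    have h1 : ∀ a b, a * b ∈ R0 Q c ↔ (a ∈ R0 Q c ↔ b ∈ R0 Q c) := fun a b => Subgroup.mul_mem_iff_of_index_two hi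
    simp [commutatorElement_def, h1]
    tauto
  have hmap : (commutator ↥R).map ι = commutator (orthGroup Q) := by
    rw [commutator_def ↥R, Subgroup.map_commutator, ← MonoidHom.range_eq_map, hrange]
    exact le_antisymm (Subgroup.commutator_mono le_top le_top)
      ((commutator_perfect hQ h4 hp hfin).trans (Subgroup.commutator_mono hR0 hR0))
  have hperf : ⁅commutator (orthGroup Q), commutator (orthGroup Q)⁆ = commutator (orthGroup Q) :=
    le_antisymm (Subgroup.commutator_le_self _) (commutator_perfect hQ h4 hp hfin)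
  have hqs : Cfsg.IsQuasisimple (commutator ↥R) :=
    Components.IsQuasisimple.of_mulEquiv
      (⟨Subgroup.isPerfect_iff.2 hperf, commutator_quotient_simple hQ h4 hp hfin⟩ :
        Cfsg.IsQuasisimple (commutator (orthGroup Q)))
      ((Subgroup.equivMapOfInjective (commutator ↥R) ι hinj).trans (MulEquiv.subgroupCongr hmap)).symm
  have hcomp : Cfsg.IsComponent (commutator ↥R) :=
    ⟨Subgroup.Normal.isSubnormal inferInstance, hqs⟩
  have hidx : (commutator ↥R).index ≤ 2 := by
    set π := QuotientGroup.mk' (commutator ↥R) with hπ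
    have hcomm : ∀ a b, π a * π b = π b * π a := fun a b => by
      rw [← commutatorElement_eq_one_iff_mul_comm, ← map_commutatorElement, hπ, QuotientGroup.mk'_apply,
        QuotientGroup.eq_one_iff]
      exact Subgroup.commutator_mem_commutator trivial trivial
    have hsq : π d₀ * π d₀ = 1 := by
      rw [← map_mul, ← map_one π]
      congr 1
      have := pow_orderOf_eq_one d₀
      rwa [hG.1.1 d₀ hd₀, pow_two] at this
    have key : ∀ g : ↥R, π g = 1 ∨ π g = π d₀ := by
      intro g
      have hg : g ∈ Subgroup.closure D := hgen ▸ trivial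
      induction hg using Subgroup.closure_induction with
      | mem y hy =>
        obtain ⟨h, rfl⟩ := hclass d₀ hd₀ y hy
        right
        rw [map_mul, map_mul, hcomm (h : ↥R) d₀, mul_assoc, ← map_mul, mul_inv_cancel, map_one, mul_one]
      | one => exact Or.inl (map_one π)
      | mul a b _ _ ha hb =>
        rw [map_mul]
        rcases ha with ha | ha <;> rcases hb with hb | hb <;> rw [ha, hb]
        · exact Or.inl (one_mul 1)
        · exact Or.inr (one_mul _)
        · exact Or.inr (mul_one _)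
        · exact Or.inl hsq
      | inv a _ ha =>
        rw [map_inv]
        rcases ha with ha | ha <;> rw [ha]
        · exact Or.inl inv_one
        · exact Or.inr (inv_eq_of_mul_eq_one_right hsq)
    rw [Subgroup.index_eq_card]
    have hsurj : Function.Surjective (fun b : Bool => if b then π d₀ else 1) := by
      intro q
      obtain ⟨g, rfl⟩ := QuotientGroup.mk'_surjective (commutator ↥R) q
      rcases key g with h | h
      · exact ⟨false, h.symm⟩
      · exact ⟨true, h.symm⟩
    simpa using Nat.card_le_card_of_surjective _ hsurj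
  -- what commutes with the commutator subgroup is central
  have hcent : Subgroup.centralizer (commutator ↥R : Set ↥R) ≤ Subgroup.center ↥R := by
    intro g hg
    refine Subgroup.mem_center_iff.2 fun h => hinj ?_
    have := eq_one_or_negEl_of_commute hQ h2 hp (ι g) fun k hk => by
      obtain ⟨y, hy, rfl⟩ : k ∈ (commutator ↥R).map ι := hmap.symm ▸ hk
      rw [← map_mul, ← map_mul, Subgroup.mem_centralizer_iff.1 hg y hy]
    rw [map_mul, map_mul]
    rcases this with e | e <;> rw [e]
    · rw [mul_one, one_mul]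
    · exact negEl_comm _
  have hnil : ∀ N : Subgroup ↥R, N.Normal → Group.IsNilpotent N → N ≤ Subgroup.center ↥R := by
    intro N hN hnil
    have := IsNilpotent.to_isSolvable (G := ↥N)
    have h := Components.IsComponent.commutator_solvable_eq_bot hcomp (N := N)
      (by rw [Subgroup.normalizer_eq_top]; exact le_top)
    rw [Subgroup.commutator_comm, Subgroup.commutator_eq_bot_iff_le_centralizer] at h
    exact h.trans hcent
  have hlayer : Cfsg.layer ↥R = commutator ↥R := by
    refine le_antisymm (sSup_le fun K hK => ?_) (le_sSup hcomp)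
    by_contra hne
    have h := Components.IsComponent.commutator_eq_bot hK hcomp fun e => hne e.le
    rw [Subgroup.commutator_eq_bot_iff_le_centralizer] at h
    refine Components.IsComponent.not_le_centralizer hK fun k hk => ?_
    rw [Subgroup.mem_centralizer_iff]
    intro y _
    exact Subgroup.mem_center_iff.1 (hcent (h hk)) y
  have hfit : Cfsg.fittingSubgroup ↥R = Subgroup.center ↥R :=
    le_antisymm (sSup_le fun N hN => hnil N hN.1 hN.2)
      (le_sSup ⟨inferInstance, Components.isNilpotent_of_isMulCommutative _⟩)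
  have hcore : ∀ p : ℕ, p.Prime → Cfsg.pCore p ↥R ≤ Subgroup.center ↥R := fun p hp => by
    have := Fact.mk hp
    exact sSup_le fun N hN => hnil N hN.1 hN.2.isNilpotent
  refine ⟨hqs, hidx, ?_, Sporadic.FischerPrimitive.primitive_of_index hG hclass hD2 (hcore 2 Nat.prime_two)
    (hcore 3 Nat.prime_three) hcomp hidx⟩
  rw [Cfsg.generalizedFittingSubgroup, hlayer, hfit, sup_comm]

end Cfsg.Agent.S5360
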