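import Cfsg.Agent.Lib.Involution.Isolated
import Cfsg.Statements.S5363
-- import your own Cfsg.Agent.* helpers here

set_option autoImplicit false
open Cfsg

namespace Cfsg.Agent.S5363

open CfsgLib.Involution.Dihedral

/-- Let D be a conjugation-invariant set of involutions of a finite group G. Then every product of two members of D has odd order or order 2 if and only if, for every a in D and every b in D different from a and commuting with a, the members of D commuting with a b are exactly those commuting with both a and b. -/
theorem result {G : Type*} [Group G] [Finite G] {D : Set G} (hinv : ∀ d ∈ D, orderOf d = 2) (hconj : ∀ g : G, ∀ d ∈ D, g * d * g⁻¹ ∈ D) : (∀ a ∈ D, ∀ b ∈ D, Odd (orderOf (a * b)) ∨ orderOf (a * b) = 2) ↔ ∀ a ∈ D, ∀ b ∈ D, b ≠ a → Commute a b → {y : G | y ∈ D ∧ Commute (a * b) y} = {y : G | y ∈ D ∧ Commute a y} ∩ {y : G | y ∈ D ∧ Commute b y} := by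
  constructor
  · intro h a ha b hb hba hab
    have A := mul_self (hinv a ha)
    have B := mul_self (hinv b hb)
    ext y
    simp only [Set.mem_ofPred_eq, Set.mem_inter_iff]
    refine ⟨fun ⟨hy, hc⟩ => ?_, fun ⟨⟨hy, h1⟩, _, h2⟩ => ⟨hy, h1.mul_left h2⟩⟩
    have Y := mul_self (hinv y hy)
    set a' := y * a * y with ha'
    have ha'D : a' ∈ D := by simpa [inv_eq (hinv y hy)] using hconj y a ha
    have hA' := mul_self (hinv a' ha'D)
    set w := a * b with hw
    have W : w * w = 1 := by
      rw [hw, ← sq, hab.mul_pow, sq, sq, A, B, one_mul]
    have hwa : Commute w a := (Commute.refl a).mul_left hab.symm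
    have hwy : Commute w y := hc
    have hwa' : Commute w a' := by
      rw [ha']; exact (hwy.mul_right hwa).mul_right hwy
    have hw1 : w ≠ 1 := fun h => hba (by
      rw [hw, mul_eq_one_iff_eq_inv', inv_eq (hinv a ha)] at h; exact h)
    have hwr : Commute w (a' * a) := hwa'.mul_right hwa
    have hr2 : orderOf (a' * a) = 1 ∨ orderOf (a' * a) = 2 := by
      rcases h a' ha'D a ha with ho | ho
      · left
        have e : a' * b = w * (a' * a) := by
          rw [hwr.eq, hw, ← mul_assoc, mul_assoc a' a a, A, mul_one]
        have hco : (orderOf w).Coprime (orderOf (a' * a)) := by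
          rw [orderOf_eq_two W hw1]; exact Nat.coprime_two_left.2 ho
        have hord := hwr.orderOf_mul_eq_mul_orderOf_of_coprime hco
        rw [orderOf_eq_two W hw1, ← e] at hord
        rcases h a' ha'D b hb with h' | h'
        · rw [hord] at h'
          exact absurd h' (Nat.not_odd_iff_even.2 (even_two_mul _))
        · omega
      · exact Or.inr ho
    have hcomm : a' * a = a * a' := by
      have hsq : (a' * a) * (a' * a) = 1 := by
        rcases hr2 with h1 | h1
        · rw [orderOf_eq_one_iff.1 h1, one_mul]
        · exact mul_self h1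
      rw [mul_eq_one_iff_eq_inv, mul_inv_rev, inv_eq (hinv a ha), inv_eq (hinv a' ha'D)] at hsq
      exact hsq
    have hay : Commute a y := by
      rcases h a ha y hy with ho | ho
      · have h4 : (a * y) ^ 4 = 1 := by
          have e2 : (a * y) ^ 2 = a * a' := by
            rw [sq, ha']; simp only [mul_assoc]
          rw [show 4 = 2 * 2 from rfl, pow_mul, e2, (show Commute a a' from hcomm.symm).mul_pow,
            sq, sq, A, hA', one_mul]
        have h1 := orderOf_dvd_of_pow_eq_one h4
        have : orderOf (a * y) = 1 :=
          (Nat.Coprime.eq_one_of_dvd (Nat.Coprime.pow_right 2 (Nat.coprime_two_right.2 ho)) h1)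
        rw [orderOf_eq_one_iff, mul_eq_one_iff_eq_inv, inv_eq (hinv y hy)] at this
        rw [this]
      · have := mul_self ho
        rw [mul_eq_one_iff_eq_inv, mul_inv_rev, inv_eq (hinv a ha), inv_eq (hinv y hy)] at this
        exact this
    refine ⟨⟨hy, hay⟩, hy, ?_⟩
    have : Commute (a * w) y := hay.mul_left hwy
    rwa [hw, ← mul_assoc, A, one_mul] at this
  · intro h a ha b hb
    have A := hinv a ha
    have B := hinv b hb
    rcases Nat.even_or_odd (orderOf (a * b)) with heven | ho
    · right
      set w := (a * b) ^ (orderOf (a * b) / 2) with hw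
      have hwa : Commute w a := half_commute_left A B heven
      have hwb : Commute w b := half_commute_right A B heven
      have hw2 := half_orderOf heven
      have hne : a ≠ b := by
        rintro rfl
        rw [mul_self A, orderOf_one] at heven
        exact Nat.not_even_one heven
      have hawD : a * w ∈ D := by
        by_cases h4 : 4 ∣ orderOf (a * b)
        · obtain ⟨d, -, hd⟩ := (conj_half_iff A B heven).2 h4
          rw [hw, ← hd]; exact hconj d a ha
        · obtain ⟨d, hd⟩ := isConj_iff.1 (CfsgLib.Involution.Isolated.isConj_half A B hne (by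
            obtain ⟨m, hm⟩ := heven; omega))
          rw [hw, ← hd]; exact hconj d b hb
      have hcaw : Commute a (a * w) := (Commute.refl a).mul_right hwa.symm
      have hset := h a ha (a * w) hawD (fun e => ne_one hw2 (mul_eq_left.1 e)) hcaw
      rw [← mul_assoc, mul_self A, one_mul] at hset
      have hbm : b ∈ {y : G | y ∈ D ∧ Commute w y} := ⟨hb, hwb⟩
      rw [hset] at hbm
      have hab : Commute a b := hbm.1.2
      apply orderOf_eq_prime
      · rw [hab.mul_pow, sq, sq, mul_self A, mul_self B, one_mul]
      · intro h1
        exact hne ((mul_eq_one_iff_eq_inv.1 h1).trans (inv_eq B))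
    · exact Or.inl ho

end Cfsg.Agent.S5363
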