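import Cfsg.Agent.Lib.ThreeTransp.M24Six
import Cfsg.Statements.S5599
-- import your own Cfsg.Agent.* helpers here

set_option autoImplicit false
open scoped Pointwise
open Cfsg

namespace Cfsg.Agent.S5599
open CfsgLib.SmallGroups.M24Group CfsgLib.SmallGroups.Mathieu Cfsg.Spor
open scoped Pointwise
/-- The setwise stabiliser of the pair. -/
abbrev X : Subgroup (Equiv.Perm Cfsg.GolayPt) :=
  Cfsg.M24 ⊓ MulAction.stabilizer (Equiv.Perm Cfsg.GolayPt) ({none, some 0} : Finset Cfsg.GolayPt)

theorem mem_of_stab {x : Equiv.Perm Cfsg.GolayPt} {S : Finset Cfsg.GolayPt}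
    (hx : x ∈ MulAction.stabilizer (Equiv.Perm Cfsg.GolayPt) S) {p : Cfsg.GolayPt} (hp : p ∈ S) :
    x p ∈ S := by
  have := Finset.smul_mem_smul_finset (a := x) hp
  rwa [show x • S = S from hx] at this

theorem inj4 {α : Type*} {a b c d : α} (h1 : a ≠ b) (h2 : a ≠ c) (h3 : a ≠ d) (h4 : b ≠ c) (h5 : b ≠ d)
    (h6 : c ≠ d) : Function.Injective ![a, b, c, d] := by
  intro i j e
  fin_cases i <;> fin_cases j <;> simp_all [eq_comm]

theorem pair_fix {c : Equiv.Perm Cfsg.GolayPt} (h : ∀ x, x ≠ none → x ≠ some 0 → c x = x)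
    {o : Finset Cfsg.GolayPt} (hco : c • o = o) {p : Cfsg.GolayPt} (hp : p ∈ o)
    (hno : ¬ (none ∈ o ∧ some 0 ∈ o) := by assumption) : c p = p := by
  by_contra hne
  have hp' : p = none ∨ p = some 0 := by
    by_contra h'; push Not at h'; exact hne (h p h'.1 h'.2)
  have hcp : c p = none ∨ c p = some 0 := by
    by_contra h'; push Not at h'
    exact hne (c.injective (h _ h'.1 h'.2))
  have hcpo : c p ∈ o := mem_of_stab hco hp
  rcases hp' with rfl | rfl <;> rcases hcp with e | e <;> simp_all

theorem fix22 {c : Equiv.Perm Cfsg.GolayPt} (hc : c ∈ Cfsg.M24)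
    (h : ∀ x, x ≠ none → x ≠ some 0 → c x = x) : c = 1 := by
  obtain ⟨o, ho, hno'⟩ : ∃ o ∈ Cfsg.octads, ¬ (none ∈ o ∧ some 0 ∈ o) := by
    obtain ⟨o, ⟨ho, hso⟩, -⟩ := CfsgLib.SmallGroups.GolayOctads.octads_steiner.2
      ({none, some 1, some 2, some 3, some 4} : Finset Cfsg.GolayPt) (by decide)
    by_cases h0 : (some 0 : Cfsg.GolayPt) ∈ o
    · obtain ⟨o', ho', hd⟩ : ∃ o' ∈ Cfsg.octads, Disjoint o o' := by
        have h := CfsgLib.SmallGroups.Steiner.inter_card_count CfsgLib.SmallGroups.GolayOctads.octads_steiner ho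
          (fun T hT => CfsgLib.SmallGroups.Steiner.inter24 CfsgLib.SmallGroups.GolayOctads.card_golayPt
            CfsgLib.SmallGroups.GolayOctads.octads_steiner ho hT) 0
        obtain ⟨z, hz⟩ := Finset.card_pos.1 (show 0 < ((CfsgLib.SmallGroups.Steiner.blocks Cfsg.octads).filter
          fun c => (c ∩ o).card = 0).card by rw [h]; decide)
        rw [Finset.mem_filter, CfsgLib.SmallGroups.Steiner.mem_blocks, Finset.card_eq_zero,
          ← Finset.disjoint_iff_inter_eq_empty] at hz
        exact ⟨z, hz.1, hz.2.symm⟩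
      exact ⟨o', ho', fun hh => Finset.disjoint_left.1 hd h0 hh.2⟩
    · exact ⟨o, ho, fun hh => h0 hh.2⟩
  have hE : ((o \ {none, some 0}) : Finset Cfsg.GolayPt).card ≥ 5 := by
    have := Finset.le_card_sdiff ({none, some 0} : Finset Cfsg.GolayPt) o
    have : ({none, some 0} : Finset Cfsg.GolayPt).card ≤ 2 := Finset.card_le_two
    have := ho.2
    omega
  obtain ⟨E, hE1, hE2⟩ := Finset.exists_subset_card_eq hE
  have hfix : ∀ p ∈ E, c p = p := fun p hp => by
    have := hE1 hp
    simp only [Finset.mem_sdiff, Finset.mem_insert, Finset.mem_singleton, not_or] at this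
    exact h p this.2.1 this.2.2
  have hco := CfsgLib.ThreeTransp.M24Six.octad_fixed ho hc (T := E) (fun p hp => (Finset.mem_sdiff.1 (hE1 hp)).1) hE2.ge hfix
  obtain ⟨q, hq⟩ : ∃ q, q ∉ o ∪ {none, some 0} := by
    by_contra hcon
    push Not at hcon
    have := Finset.card_le_card (fun p (_ : p ∈ (Finset.univ : Finset Cfsg.GolayPt)) => hcon p)
    rw [Finset.card_univ, CfsgLib.SmallGroups.GolayOctads.card_golayPt] at this
    have := this.trans (Finset.card_union_le _ _)
    have : ({none, some 0} : Finset Cfsg.GolayPt).card ≤ 2 := Finset.card_le_two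
    have := ho.2
    omega
  simp only [Finset.mem_union, Finset.mem_insert, Finset.mem_singleton, not_or] at hq
  have hall : ∀ p ∈ o, c p = p := by
    intro p hp
    by_cases hp0 : p = none
    · subst hp0
      exact pair_fix h hco hp
    · by_cases hp1 : p = some 0
      · subst hp1
        exact pair_fix h hco hp
      · exact h p hp0 hp1
  have hb := CfsgLib.Sporadic.OctadStabilizer.inf_bot ho hq.1
  rw [Subgroup.eq_bot_iff_forall] at hb
  exact hb c ⟨CfsgLib.SmallGroups.MathieuSets.mem_ptStab.2 ⟨hc, hall⟩, ⟨hc, hco⟩, h q hq.2.1 hq.2.2⟩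

/-- In the automorphism group of the length-24 code, the two-point Mathieu group (permutations of the code's group fixing the extra point and the residue 0) has index 2 in the setwise stabiliser of that pair of points, and an element of the code's group interchanging the two points normalises the two-point group and induces on it, by conjugation, an automorphism that is not inner. -/
theorem result (g : Equiv.Perm Cfsg.GolayPt) (hg : g ∈ Cfsg.M24) (h₁ : g none = some 0) (h₂ : g (some 0) = none) : Cfsg.Spor.M22.relIndex (Cfsg.M24 ⊓ MulAction.stabilizer (Equiv.Perm Cfsg.GolayPt) ({none, some 0} : Finset Cfsg.GolayPt)) = 2 ∧ (∀ x ∈ Cfsg.Spor.M22, g * x * g⁻¹ ∈ Cfsg.Spor.M22) ∧ ¬ ∃ h ∈ Cfsg.Spor.M22, ∀ x ∈ Cfsg.Spor.M22, g * x * g⁻¹ = h * x * h⁻¹ := by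
  classical
  have hMX : M22 ≤ X := fun x hx => ⟨hx.1.1, by
    show x • ({none, some 0} : Finset Cfsg.GolayPt) = {none, some 0}
    rw [Finset.smul_finset_insert, Finset.smul_finset_singleton, show x • (none : Cfsg.GolayPt) = none from hx.1.2,
      show x • (some 0 : Cfsg.GolayPt) = some 0 from hx.2]⟩
  have hgX : g ∈ X := ⟨hg, by
    show g • ({none, some 0} : Finset Cfsg.GolayPt) = {none, some 0}
    rw [Finset.smul_finset_insert, Finset.smul_finset_singleton, Equiv.Perm.smul_def, Equiv.Perm.smul_def,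
      h₁, h₂, Finset.pair_comm]⟩
  have horb : MulAction.orbit X (none : Cfsg.GolayPt) = {none, some 0} := by
    refine Set.Subset.antisymm ?_ ?_
    · rintro _ ⟨x, rfl⟩
      show (x : Equiv.Perm Cfsg.GolayPt) none ∈ ({none, some 0} : Set Cfsg.GolayPt)
      have := mem_of_stab x.2.2 (p := none) (by simp)
      simpa using this
    · rintro p (rfl | rfl)
      · exact MulAction.mem_orbit_self _
      · exact ⟨⟨g, hgX⟩, h₁⟩
  have hsub : M22.subgroupOf X = MulAction.stabilizer X (none : Cfsg.GolayPt) := by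
    ext x
    rw [Subgroup.mem_subgroupOf]
    refine ⟨fun h => h.1.2, fun h => ⟨⟨x.2.1, h⟩, ?_⟩⟩
    have h0 : (x : Equiv.Perm Cfsg.GolayPt) none = none := h
    have := mem_of_stab x.2.2 (p := some 0) (by simp)
    simp only [Finset.mem_insert, Finset.mem_singleton] at this
    refine this.resolve_left fun e => ?_
    exact Option.some_ne_none _ ((x : Equiv.Perm Cfsg.GolayPt).injective (e.trans h0.symm))
  have hnorm : ∀ x ∈ M22, g * x * g⁻¹ ∈ M22 := by
    intro x hx
    have e0 : g⁻¹ (none : Cfsg.GolayPt) = some 0 := by rw [Equiv.Perm.inv_def, Equiv.symm_apply_eq, h₂]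
    have e1 : g⁻¹ (some 0 : Cfsg.GolayPt) = none := by rw [Equiv.Perm.inv_def, Equiv.symm_apply_eq, h₁]
    refine ⟨⟨Cfsg.M24.mul_mem (Cfsg.M24.mul_mem hg hx.1.1) (Cfsg.M24.inv_mem hg), ?_⟩, ?_⟩
    · show (g * x * g⁻¹) none = none
      rw [Equiv.Perm.mul_apply, Equiv.Perm.mul_apply, e0, show x (some 0) = some 0 from hx.2, h₂]
    · show (g * x * g⁻¹) (some 0) = some 0
      rw [Equiv.Perm.mul_apply, Equiv.Perm.mul_apply, e1, show x none = none from hx.1.2, h₁]
  refine ⟨?_, hnorm, ?_⟩
  · rw [Subgroup.relIndex]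
    show (M22.subgroupOf X).index = 2
    rw [hsub, MulAction.index_stabilizer, horb, Set.ncard_pair (Option.some_ne_none _).symm]
  · rintro ⟨h, hh, hconj⟩
    have hc : ∀ x ∈ M22, h⁻¹ * g * x = x * (h⁻¹ * g) := fun x hx => by
      have e := hconj x hx
      calc h⁻¹ * g * x = h⁻¹ * (g * x * g⁻¹) * g := by group
        _ = h⁻¹ * (h * x * h⁻¹) * g := by rw [e]
        _ = x * (h⁻¹ * g) := by group
    set c := h⁻¹ * g
    have hcM : c ∈ Cfsg.M24 := mul_mem (inv_mem hh.1.1) hg
    have hcX : c ∈ X := mul_mem (inv_mem (hMX hh)) hgX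
    have hfix : ∀ x : Cfsg.GolayPt, x ≠ none → x ≠ some 0 → c x = x := by
      intro x hx0 hx1
      by_contra hne
      have hy : c x ≠ none ∧ c x ≠ some 0 := by
        have h' : c x ∉ ({none, some 0} : Finset Cfsg.GolayPt) := fun hh' => by
          have := mem_of_stab (inv_mem (show c ∈ MulAction.stabilizer (Equiv.Perm Cfsg.GolayPt) ({none, some 0} : Finset Cfsg.GolayPt) from hcX.2)) hh'
          simp [hx0, hx1] at this
        simpa [not_or] using h'
      obtain ⟨z, hz⟩ : ∃ z, z ∉ ({none, some 0, x, c x} : Finset Cfsg.GolayPt) := by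
        by_contra hcon
        push Not at hcon
        have := Finset.card_le_card (fun p (_ : p ∈ (Finset.univ : Finset Cfsg.GolayPt)) => hcon p)
        rw [Finset.card_univ, CfsgLib.SmallGroups.GolayOctads.card_golayPt] at this
        have := this.trans Finset.card_le_four
        omega
      simp only [Finset.mem_insert, Finset.mem_singleton, not_or] at hz
      obtain ⟨m, hm, hmp⟩ := exists_map (n := 4) (by norm_num) ![none, some 0, x, c x] ![none, some 0, x, z]
        (inj4 (Option.some_ne_none _).symm hx0.symm hy.1.symm hx1.symm hy.2.symm (Ne.symm hne))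
        (inj4 (Option.some_ne_none _).symm hx0.symm (Ne.symm hz.1) hx1.symm (Ne.symm hz.2.1) (Ne.symm hz.2.2.1))
      have hm22 : m ∈ M22 := ⟨⟨hm, hmp 0⟩, hmp 1⟩
      have e := congrArg (fun f : Equiv.Perm Cfsg.GolayPt => f x) (hc m hm22)
      simp only [Equiv.Perm.mul_apply] at e
      have e2 : m x = x := hmp 2
      have e3 : m (c x) = z := hmp 3
      rw [e2, e3] at e
      exact hz.2.2.2 e.symm
    have hc1 : c = 1 := fix22 hcM hfix
    have : h = g := by
      have := congrArg (h * ·) hc1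
      simpa [c] using this.symm
    have hn : h (none : Cfsg.GolayPt) = none := hh.1.2
    rw [this, h₁] at hn
    exact Option.some_ne_none _ hn

end Cfsg.Agent.S5599
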