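import Cfsg.Statements.S2062
import Cfsg.Agent.Lib.Sporadic.MathieuOutTwo
import Cfsg.Agent.S5599

set_option autoImplicit false
open Cfsg

namespace Cfsg.Agent.S2062

open CfsgLib.Sporadic CfsgLib.SmallGroups.MathieuSimple
open scoped Pointwise

/-- The outer automorphism group of the Mathieu group M₂₂ (the permutations in the automorphism group of the length-24 binary code that fix each of two given points) has order 2. -/
theorem result : Nat.card (Cfsg.Out ↥Cfsg.Spor.M22) = 2 := by
  classical
  have hne : (none : Cfsg.GolayPt) ≠ some 0 := by simp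
  obtain ⟨g₀, h₁, h₂⟩ := exists_two (p := none) (q := some 0) (p' := some 0) (q' := none) hne hne.symm
  set g : Equiv.Perm Cfsg.GolayPt := (g₀ : Equiv.Perm Cfsg.GolayPt)
  have h₁' : g none = some 0 := h₁
  have h₂' : g (some 0) = none := h₂
  obtain ⟨-, hnorm, hout⟩ := Cfsg.Agent.S5599.result g g₀.2 h₁' h₂'
  obtain ⟨-, hnorm', -⟩ := Cfsg.Agent.S5599.result g⁻¹ (inv_mem g₀.2)
    (by rw [Equiv.Perm.inv_def, Equiv.symm_apply_eq, h₂']) (by rw [Equiv.Perm.inv_def, Equiv.symm_apply_eq, h₁'])
  let β : MulAut Cfsg.Spor.M22 :=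
    { toFun := fun x => ⟨g * x * g⁻¹, hnorm x x.2⟩
      invFun := fun x => ⟨g⁻¹ * x * g, by simpa using hnorm' x x.2⟩
      left_inv := fun x => Subtype.ext (by simp [mul_assoc])
      right_inv := fun x => Subtype.ext (by simp [mul_assoc])
      map_mul' := fun x y => Subtype.ext (by simp [mul_assoc]) }
  have hβ : β ∉ Cfsg.Inn Cfsg.Spor.M22 := by
    rintro ⟨h, hh⟩
    refine hout ⟨h, h.2, fun x hx => ?_⟩
    exact (congrArg Subtype.val (DFunLike.congr_fun hh ⟨x, hx⟩)).symm
  have hsurj : ∀ q : Cfsg.Out Cfsg.Spor.M22, q = 1 ∨ q = QuotientGroup.mk β := by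
    intro q
    obtain ⟨α, rfl⟩ := QuotientGroup.mk_surjective q
    obtain ⟨x, hx, hxp, hα⟩ := MathieuOutTwo.aut_induced α
    have hmem : ∀ p ∈ MathieuOutTwo.pair, x p ∈ MathieuOutTwo.pair := fun p hp => by
      have := Finset.smul_mem_smul_finset (a := x) hp
      rwa [hxp] at this
    have hn := hmem none (by simp)
    have h0 := hmem (some 0) (by simp)
    simp only [Finset.mem_insert, Finset.mem_singleton] at hn h0
    rcases hn with e | e
    · left
      refine (QuotientGroup.eq_one_iff _).2 ⟨⟨x, (MathieuOutTwo.mem_M22 x).2 ⟨hx, fun p hp => ?_⟩⟩,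
        MulEquiv.ext fun y => Subtype.ext (hα y).symm⟩
      simp only [Finset.mem_insert, Finset.mem_singleton] at hp
      rcases hp with rfl | rfl
      · exact e
      · exact h0.resolve_left fun e' => hne (x.injective (e.trans e'.symm))
    · right
      have e0 : x (some 0) = none := h0.resolve_right fun e' => hne (x.injective (e.trans e'.symm))
      refine (QuotientGroup.eq.2 ?_).symm
      refine ⟨⟨g⁻¹ * x, (MathieuOutTwo.mem_M22 _).2 ⟨mul_mem (inv_mem g₀.2) hx, fun p hp => ?_⟩⟩,
        MulEquiv.ext fun y => Subtype.ext ?_⟩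
      · simp only [Finset.mem_insert, Finset.mem_singleton] at hp
        rw [Equiv.Perm.mul_apply, Equiv.Perm.inv_def, Equiv.symm_apply_eq]
        rcases hp with rfl | rfl
        · rw [e, h₁']
        · rw [e0, h₂']
      · show g⁻¹ * x * (y : Equiv.Perm Cfsg.GolayPt) * (g⁻¹ * x)⁻¹ = g⁻¹ * (α y : Equiv.Perm Cfsg.GolayPt) * g
        rw [hα]
        group
  refine le_antisymm ?_ ?_
  · refine (Nat.card_le_card_of_surjective
      (fun b : Bool => if b then (1 : Cfsg.Out Cfsg.Spor.M22) else QuotientGroup.mk β) fun q => ?_).trans (by simp)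
    rcases hsurj q with rfl | rfl
    · exact ⟨true, rfl⟩
    · exact ⟨false, rfl⟩
  · have : Finite (Cfsg.Out Cfsg.Spor.M22) := Finite.of_surjective
      (fun b : Bool => if b then (1 : Cfsg.Out Cfsg.Spor.M22) else QuotientGroup.mk β) fun q => by
        rcases hsurj q with rfl | rfl
        · exact ⟨true, rfl⟩
        · exact ⟨false, rfl⟩
    have : Nontrivial (Cfsg.Out Cfsg.Spor.M22) :=
      nontrivial_of_ne (QuotientGroup.mk β) 1 fun h => hβ ((QuotientGroup.eq_one_iff _).1 h)
    exact Finite.one_lt_card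

end Cfsg.Agent.S2062
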