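import Cfsg.Agent.Lib.Sporadic.TernaryGolay
import Cfsg.Statements.S1593
-- import your own Cfsg.Agent.* helpers here

set_option autoImplicit false
open Cfsg

namespace Cfsg.Agent.S1593

open CfsgLib.Sporadic.TernaryGolay in
/-- Whether a sign pattern given by 12 bits preserves the basis. -/
def Preserves (m : ℕ) : Prop :=
  ∀ i, Eqs (fun p => (if m.testBit (pos p).val then (-1 : ZMod 3) else 1) * bvec i p)

open CfsgLib.Sporadic.TernaryGolay in
instance decPreserves (m : ℕ) : Decidable (Preserves m) := by unfold Preserves; infer_instance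

set_option maxRecDepth 4000 in
theorem preserves_cases : ∀ m : Fin 4096, Preserves m → m.val = 0 ∨ m.val = 4095 := by
  decide +kernel

theorem pos_injective : Function.Injective CfsgLib.Sporadic.TernaryGolay.pos := by decide

open CfsgLib.Sporadic.TernaryGolay in
theorem signs_kernel (c : ArrayPt → (ZMod 3)ˣ)
    (h : ∀ x ∈ ternaryGolayCode, monomialMap 1 c x ∈ ternaryGolayCode) :
    (∀ p, c p = 1) ∨ (∀ p, c p = -1) := by
  classical
  have hu : ∀ u : (ZMod 3)ˣ, u = 1 ∨ u = -1 := by decide
  let e : ArrayPt ≃ Fin 12 := Equiv.ofBijective pos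
    ((Fintype.bijective_iff_injective_and_card _).2 ⟨pos_injective, rfl⟩)
  let f : Fin 12 → Bool := fun k => decide (c (e.symm k) = -1)
  have hm : ∀ g : Fin 12 → Bool, ∃ m : Fin 4096, ∀ k : Fin 12, m.val.testBit k.val = g k := by
    intro g
    refine ⟨finFunctionFinEquiv (fun k : Fin 12 => if g k then (1 : Fin 2) else 0), fun k => ?_⟩
    have := finFunctionFinEquiv.symm_apply_apply (fun k : Fin 12 => if g k then (1 : Fin 2) else 0)
    have hk := congrArg Fin.val (congrFun this k)
    simp only [finFunctionFinEquiv_symm_apply_val] at hk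
    rw [Nat.testBit_eq_decide_div_mod_eq, hk]
    cases g k <;> rfl
  obtain ⟨m, hmf⟩ := hm f
  have hc : ∀ p, ((c p : ZMod 3)) = if m.val.testBit (pos p).val then -1 else 1 := by
    intro p
    have he : e.symm (pos p) = p := e.symm_apply_apply p
    rw [hmf (pos p)]
    show _ = if decide (c (e.symm (pos p)) = -1) = true then _ else _
    rw [he]
    rcases hu (c p) with hp | hp <;> rw [hp] <;> decide
  have hp : Preserves m := fun i => by
    have h2 := mem_code_iff_eqs.1 (h _ (bvec_mem i))
    have h3 : monomialMap 1 c (bvec i)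
        = fun p => (if m.val.testBit (pos p).val then (-1 : ZMod 3) else 1) * bvec i p := by
      funext p
      rw [← hc p]
      rfl
    rwa [h3] at h2
  rcases preserves_cases m hp with h0 | h0
  · exact Or.inl fun p => Units.ext (by rw [hc p, h0]; simp)
  · refine Or.inr fun p => Units.ext ?_
    rw [hc p, h0]
    have : ∀ k : Fin 12, (4095 : ℕ).testBit k.val = true := by decide
    rw [this]
    rfl

/-- The only sign changes preserving the length-12 ternary code are the identity and negation of all coordinates. -/
theorem result (c : Cfsg.ArrayPt → (ZMod 3)ˣ) (h : (∀ x ∈ Cfsg.ternaryGolayCode, Cfsg.monomialMap 1 c x ∈ Cfsg.ternaryGolayCode)) : (∀ p, c p = 1) ∨ (∀ p, c p = -1) := by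
  exact signs_kernel c h

end Cfsg.Agent.S1593
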