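import Cfsg.Agent.Lib.Sporadic.TernaryHexads
import Cfsg.Agent.S1593
import Cfsg.Statements.S1594
-- import your own Cfsg.Agent.* helpers here

set_option autoImplicit false
open Cfsg

namespace Cfsg.Agent.S1594

open CfsgLib.Sporadic.TernaryGolay CfsgLib.Sporadic.TernaryHexads
open scoped Pointwise

/-- The monomial automorphisms of the code. -/
def P (σ : Equiv.Perm ArrayPt) (c : ArrayPt → (ZMod 3)ˣ) : Prop :=
  ∀ x ∈ ternaryGolayCode, monomialMap σ c x ∈ ternaryGolayCode

theorem P_of_basis {σ : Equiv.Perm ArrayPt} {c : ArrayPt → (ZMod 3)ˣ}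
    (h : ∀ i, Eqs (monomialMap σ c (bvec i))) : P σ c := by
  intro x hx
  obtain ⟨v, rfl⟩ := mem_iff.1 hx
  have : monomialMap σ c (gen v) = ∑ i, v i • monomialMap σ c (bvec i) := by
    funext p
    simp only [monomialMap, gen, Finset.mul_sum, Finset.sum_apply, Pi.smul_apply, smul_eq_mul]
    exact Finset.sum_congr rfl fun i _ => by ring
  rw [this]
  exact Submodule.sum_mem _ fun i _ => Submodule.smul_mem _ _ (mem_code_iff_eqs.2 (h i))

theorem P_mul {σ τ : Equiv.Perm ArrayPt} {c d : ArrayPt → (ZMod 3)ˣ} (h1 : P σ c) (h2 : P τ d) :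
    P (σ * τ) (fun p => c p * d (σ.symm p)) := by
  intro x hx
  have := h1 _ (h2 x hx)
  convert this using 1
  funext p
  simp [monomialMap, Equiv.Perm.mul_def, mul_assoc]

theorem P_smul {σ : Equiv.Perm ArrayPt} {c : ArrayPt → (ZMod 3)ˣ} (u : (ZMod 3)ˣ) (h : P σ c) :
    P σ (fun p => u * c p) := by
  intro x hx
  have := Submodule.smul_mem ternaryGolayCode (u : ZMod 3) (h x hx)
  convert this using 1
  funext p
  simp [monomialMap, mul_assoc]

theorem P_one : P 1 (fun _ => 1) := by
  intro x hx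
  have he : monomialMap (1 : Equiv.Perm ArrayPt) (fun _ => (1 : (ZMod 3)ˣ)) x = x := by
    funext p; simp [monomialMap, Equiv.Perm.one_def]
  rwa [he]

/-- The permutation parts. -/
def permParts : Submonoid (Equiv.Perm ArrayPt) where
  carrier := {σ | ∃ c, P σ c}
  one_mem' := ⟨_, P_one⟩
  mul_mem' := fun ⟨_, hc⟩ ⟨_, hd⟩ => ⟨_, P_mul hc hd⟩

theorem smul_mem_hexads {σ : Equiv.Perm ArrayPt} {c : ArrayPt → (ZMod 3)ˣ} (h : P σ c)
    {b : Finset ArrayPt} (hb : b ∈ hexads) : σ • b ∈ hexads := by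
  obtain ⟨x, hx, rfl, hcard⟩ := hb
  refine ⟨_, h x hx, ?_, by rw [Finset.card_smul_finset]; exact hcard⟩
  ext p
  rw [← Finset.inv_smul_mem_iff, Equiv.Perm.smul_def, Equiv.Perm.inv_def]
  simp only [ternarySupport, Finset.mem_filter, Finset.mem_univ, true_and, monomialMap, ne_eq,
    mul_eq_zero, Units.ne_zero, false_or]

theorem mem_aut_iff {σ : Equiv.Perm ArrayPt} :
    σ ∈ setSystemAut hexads ↔ σ • hexads = hexads := MulAction.mem_stabilizer_iff

theorem permParts_le {σ : Equiv.Perm ArrayPt} (h : σ ∈ permParts) : σ ∈ setSystemAut hexads := by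
  obtain ⟨c, hc⟩ := h
  rw [mem_aut_iff]
  refine Set.eq_of_subset_of_ncard_le ?_ ?_ (Set.toFinite _)
  · rintro b ⟨a, ha, rfl⟩
    exact smul_mem_hexads hc ha
  · exact (Set.ncard_image_of_injective hexads (MulAction.injective σ)).ge

theorem aut_apply {σ : Equiv.Perm ArrayPt} (h : σ ∈ setSystemAut hexads) {b : Finset ArrayPt}
    (hb : b ∈ hexads) : σ • b ∈ hexads := by
  rw [← mem_aut_iff.1 h]
  exact Set.smul_mem_smul_set hb

/-- The first five points. -/
def base (i : Fin 5) : ArrayPt := unpos (Fin.castLE (by norm_num) i)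

theorem exists_on_base : ∀ k : ℕ, k ≤ 5 → ∀ f : Fin 5 → ArrayPt, Function.Injective f →
    ∃ σ ∈ permParts, ∀ i : Fin 5, i.val < k → σ (base i) = f i := by
  intro k
  induction k with
  | zero => exact fun _ f _ => ⟨1, one_mem _, fun i hi => absurd hi (Nat.not_lt_zero _)⟩
  | succ k ih =>
    intro hk f hf
    obtain ⟨σ, hσ, hσf⟩ := ih (by omega) f hf
    set y := σ.symm (f ⟨k, by omega⟩)
    have hy : ¬ (pos y).val < k := by
      intro hlt
      have h5 : (pos y).val < 5 := by omega
      have hbase : base ⟨(pos y).val, h5⟩ = y := by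
        show unpos _ = y
        exact unpos_pos y
      have := hσf ⟨(pos y).val, h5⟩ hlt
      rw [hbase, Equiv.apply_symm_apply] at this
      exact (Nat.ne_of_gt hlt) (congrArg Fin.val (hf this))
    obtain ⟨n, hfix, hmove⟩ := transversal ⟨k, by omega⟩ (pos y) (by show k < 5; omega)
      (by show k ≤ (pos y).val; omega)
    refine ⟨σ * tr n, mul_mem hσ ⟨_, P_of_basis (tr_good n)⟩, fun i hi => ?_⟩
    rw [Equiv.Perm.mul_apply]
    rcases Nat.lt_succ_iff_lt_or_eq.1 hi with h | h
    · show σ (tr n (unpos _)) = f i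
      rw [hfix _ h]
      exact hσf i h
    · have hik : i = ⟨k, by omega⟩ := Fin.ext h
      rw [hik]
      show σ (tr n (unpos ⟨k, _⟩)) = _
      rw [hmove, unpos_pos, Equiv.apply_symm_apply]

/-- The position numbers of the images. -/
def im (σ : Equiv.Perm ArrayPt) (i : Fin 12) : ℕ := (pos (σ (unpos i))).val

theorem aut_trivial {σ : Equiv.Perm ArrayPt} (h : σ ∈ setSystemAut hexads)
    (hfix : ∀ i : Fin 5, σ (base i) = base i) : σ = 1 := by
  classical
  obtain ⟨h63, hmem⟩ := first_hexad
  have hfix' : ∀ i : Fin 12, i.val < 5 → σ (unpos i) = unpos i := fun i hi => hfix ⟨i.val, hi⟩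
  have hb : σ • toSet 63 = toSet 63 := by
    refine (steiner.2 ((Finset.univ : Finset (Fin 5)).image base) ?_).unique
      ⟨aut_apply h h63, ?_⟩ ⟨h63, ?_⟩
    · rw [Finset.card_image_of_injective]
      · rfl
      · decide
    · intro p hp
      obtain ⟨i, -, rfl⟩ := Finset.mem_image.1 hp
      rw [← hfix i]
      exact Finset.smul_mem_smul_finset (a := σ) ((hmem _).2 (by simp; omega))
    · intro p hp
      obtain ⟨i, -, rfl⟩ := Finset.mem_image.1 hp
      exact (hmem _).2 (by simp; omega)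
  have hinv : ∀ i : Fin 12, i.val < 6 ↔ im σ i < 6 := by
    intro i
    rw [im, ← hmem i, ← hmem (pos (σ (unpos i))), unpos_pos]
    conv_rhs => rw [← hb, ← Equiv.Perm.smul_def, Finset.smul_mem_smul_finset_iff]
  have hinj : Function.Injective (im σ) := fun i j e => by
    have := congrArg pos (σ.injective ((Function.LeftInverse.injective unpos_pos) (Fin.ext e)))
    rwa [pos_unpos, pos_unpos] at this
  have hlow : ∀ i : Fin 12, i.val < 6 → im σ i = i.val := by
    intro i hi
    by_cases h5 : i.val < 5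
    · rw [im, hfix' i h5, pos_unpos]
    · have hlt := (hinv i).1 hi
      by_contra hne
      have h5' : im σ i < 5 := by omega
      have hj : im σ ⟨im σ i, by omega⟩ = im σ i := by
        show (pos (σ (unpos ⟨im σ i, by omega⟩))).val = _
        rw [hfix' ⟨im σ i, by omega⟩ h5', pos_unpos]
      have := congrArg Fin.val (hinj hj)
      simp at this
      omega
  have hcomp : ∀ i : Fin 12, 6 ≤ i.val → im σ i ∈ comp := by
    intro i hi
    have h1 : ¬ im σ i < 6 := fun hh => absurd ((hinv i).2 hh) (by omega)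
    have h2 : im σ i < 12 := (pos (σ (unpos i))).isLt
    simp [comp]
    omega
  have hpair : ∀ i j : Fin 12, 6 ≤ i.val → 6 ≤ j.val → pairOK i j (im σ i) (im σ j) = true := by
    intro i j hi hj
    refine List.all_eq_true.2 fun m hm => ?_
    rw [pairBlocks, List.mem_filter, beq_iff_eq] at hm
    have hlt := hexList_lt m hm.1
    have hmh : toSet m ∈ hexads := mem_hexads.2 (by rw [mask_toSet hlt]; exact hm.1)
    have hres := mem_hexads.1 (aut_apply h hmh)
    rw [List.contains_iff_mem]
    suffices he : mask (σ • toSet m) = (m &&& 63) ||| 1 <<< im σ i ||| 1 <<< im σ j by rwa [← he]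
    have h63' : ∀ k, (63 : ℕ).testBit k = decide (k < 6) := fun k => by
      rw [show (63 : ℕ) = 2 ^ 6 - 1 from rfl, Nat.testBit_two_pow_sub_one]
    have h4032 : ∀ k : Fin 12, (4032 : ℕ).testBit k.val = decide (6 ≤ k.val) := by decide
    have key : ∀ k : Fin 12, m.testBit k.val = true ↔
        (k.val < 6 ∧ m.testBit k.val = true) ∨ k = i ∨ k = j := by
      intro k
      have hk := congrArg (fun n => n.testBit k.val) hm.2
      simp only [Nat.testBit_and, h4032, Nat.testBit_or, Nat.one_shiftLeft, Nat.testBit_two_pow] at hk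
      constructor
      · intro hb'
        by_cases h6 : k.val < 6
        · exact Or.inl ⟨h6, hb'⟩
        · simp [hb', show 6 ≤ k.val by omega] at hk
          rcases hk with hk | hk
          · exact Or.inr (Or.inl (Fin.ext hk.symm))
          · exact Or.inr (Or.inr (Fin.ext hk.symm))
      · rintro (⟨-, hb'⟩ | rfl | rfl)
        · exact hb'
        · simp [hi] at hk; exact hk
        · simp [hj] at hk; exact hk
    refine Nat.eq_of_testBit_eq fun l => ?_
    by_cases hl : l < 12
    · rw [testBit_mask _ l hl, Bool.eq_iff_iff, decide_eq_true_iff]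
      obtain ⟨k, hk⟩ : ∃ k : Fin 12, σ (unpos k) = unpos ⟨l, hl⟩ :=
        ⟨pos (σ.symm (unpos ⟨l, hl⟩)), by rw [unpos_pos, Equiv.apply_symm_apply]⟩
      have hkl : im σ k = l := by rw [im, hk, pos_unpos]
      rw [← hk, ← Equiv.Perm.smul_def, Finset.smul_mem_smul_finset_iff]
      simp only [toSet, Finset.mem_filter, Finset.mem_univ, true_and, pos_unpos, Nat.testBit_or,
        Nat.testBit_and, h63', Nat.one_shiftLeft, Nat.testBit_two_pow, Bool.or_eq_true, Bool.and_eq_true,
        decide_eq_true_iff]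
      rw [key k]
      constructor
      · rintro (⟨h6, hb'⟩ | rfl | rfl)
        · have := hlow k h6
          refine Or.inl (Or.inl ⟨?_, by omega⟩)
          rwa [← hkl, this]
        · exact Or.inl (Or.inr hkl)
        · exact Or.inr hkl
      · rintro ((⟨hb', h6⟩ | he) | he)
        · have hk6 : k.val < 6 := (hinv k).2 (by omega)
          have := hlow k hk6
          exact Or.inl ⟨hk6, by rwa [← this, hkl]⟩
        · exact Or.inr (Or.inl (hinj (hkl.trans he.symm)))
        · exact Or.inr (Or.inr (hinj (hkl.trans he.symm)))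
    · have hbig : ∀ k : Fin 12, im σ k ≠ l := fun k => by
        have : im σ k < 12 := (pos (σ (unpos k))).isLt
        omega
      rw [testBit_big (mask_lt _) hl]
      simp only [Nat.testBit_or, Nat.testBit_and, Nat.one_shiftLeft, Nat.testBit_two_pow, hbig, h63', show ¬ l < 6 by omega, decide_false, Bool.and_false, Bool.or_self, Bool.false_or]
  have hne : ∀ i j : Fin 12, i ≠ j → im σ i ≠ im σ j := fun i j hij e => hij (hinj e)
  obtain ⟨e6, e7, e8, e9, e10, e11⟩ := rigid (hcomp 6 (by decide)) (hcomp 7 (by decide))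
    (hcomp 8 (by decide)) (hcomp 9 (by decide)) (hcomp 10 (by decide)) (hcomp 11 (by decide))
    (hne 6 7 (by decide)) (hpair 6 7 (by decide) (by decide))
    (hne 6 8 (by decide)) (hpair 6 8 (by decide) (by decide))
    (hne 7 8 (by decide)) (hpair 7 8 (by decide) (by decide))
    (hne 6 9 (by decide)) (hpair 6 9 (by decide) (by decide))
    (hne 7 9 (by decide)) (hpair 7 9 (by decide) (by decide))
    (hne 8 9 (by decide)) (hpair 8 9 (by decide) (by decide))
    (hne 6 10 (by decide)) (hpair 6 10 (by decide) (by decide))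
    (hne 7 10 (by decide)) (hpair 7 10 (by decide) (by decide))
    (hne 8 10 (by decide)) (hpair 8 10 (by decide) (by decide))
    (hne 9 10 (by decide)) (hpair 9 10 (by decide) (by decide))
    (hne 6 11 (by decide)) (hpair 6 11 (by decide) (by decide))
    (hne 7 11 (by decide)) (hpair 7 11 (by decide) (by decide))
    (hne 8 11 (by decide)) (hpair 8 11 (by decide) (by decide))
    (hne 9 11 (by decide)) (hpair 9 11 (by decide) (by decide))
    (hne 10 11 (by decide)) (hpair 10 11 (by decide) (by decide))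
  have hall : ∀ i : Fin 12, im σ i = i.val := by
    intro i
    fin_cases i
    iterate 6 exact hlow _ (by decide)
    exacts [e6, e7, e8, e9, e10, e11]
  ext p : 1
  have := hall (pos p)
  rw [im, unpos_pos] at this
  rw [← unpos_pos (σ p), Fin.ext this, unpos_pos]
  rfl

/-- Restriction to the base. -/
def onBase (σ : Equiv.Perm ArrayPt) : Fin 5 ↪ ArrayPt :=
  ⟨fun i => σ (base i), σ.injective.comp (by decide)⟩

theorem onBase_injOn {σ τ : Equiv.Perm ArrayPt} (hσ : σ ∈ setSystemAut hexads) (hτ : τ ∈ setSystemAut hexads)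
    (h : onBase σ = onBase τ) : σ = τ := by
  have h' := aut_trivial (mul_mem (inv_mem hτ) hσ) fun i => by
    have := congrArg (fun e : Fin 5 ↪ ArrayPt => e i) h
    show τ⁻¹ (σ (base i)) = base i
    rw [show σ (base i) = τ (base i) from this, Equiv.Perm.inv_def, Equiv.symm_apply_apply]
  exact (inv_mul_eq_one.1 h').symm

theorem onBase_surj (f : Fin 5 ↪ ArrayPt) : ∃ σ ∈ permParts, onBase σ = f := by
  obtain ⟨σ, hσ, h⟩ := exists_on_base 5 le_rfl f f.injective
  exact ⟨σ, hσ, Function.Embedding.ext fun i => h i i.isLt⟩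

theorem permParts_eq : (permParts : Set (Equiv.Perm ArrayPt)) = setSystemAut hexads := by
  refine Set.Subset.antisymm (fun σ h => permParts_le h) fun σ h => ?_
  obtain ⟨τ, hτ, he⟩ := onBase_surj (onBase σ)
  rwa [onBase_injOn h (permParts_le hτ) he.symm]

theorem card_permParts : Nat.card permParts = 95040 := by
  rw [Nat.card_eq_of_bijective (fun σ : permParts => onBase σ.1)
    ⟨fun σ τ h => Subtype.ext (onBase_injOn (permParts_le σ.2) (permParts_le τ.2) h),
      fun f => let ⟨σ, hσ, he⟩ := onBase_surj f; ⟨⟨σ, hσ⟩, he⟩⟩, Nat.card_eq_fintype_card,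
    Fintype.card_embedding_eq]
  rfl

/-- The diagonal part is the scalars. -/
theorem diag_scalar {c : ArrayPt → (ZMod 3)ˣ} (h : P 1 c) (p q : ArrayPt) : c p = c q := by
  rcases Cfsg.Agent.S1593.signs_kernel c h with h | h <;> rw [h p, h q]

/-- The monomial automorphism group of the length-12 ternary code has order 190080 and its permutation parts are exactly the automorphisms of its hexad system. -/
theorem result : Nat.card {f : Equiv.Perm Cfsg.ArrayPt × (Cfsg.ArrayPt → (ZMod 3)ˣ) // (∀ x ∈ Cfsg.ternaryGolayCode, Cfsg.monomialMap f.1 f.2 x ∈ Cfsg.ternaryGolayCode)} = 190080 ∧ {σ : Equiv.Perm Cfsg.ArrayPt | ∃ c : Cfsg.ArrayPt → (ZMod 3)ˣ, (∀ x ∈ Cfsg.ternaryGolayCode, Cfsg.monomialMap σ c x ∈ Cfsg.ternaryGolayCode)} = (Cfsg.setSystemAut {h : Finset Cfsg.ArrayPt | ∃ x ∈ Cfsg.ternaryGolayCode, Cfsg.ternarySupport x = h ∧ h.card = 6} : Set (Equiv.Perm Cfsg.ArrayPt)) := by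
  classical
  refine ⟨?_, permParts_eq⟩
  choose w hw using fun σ : permParts => σ.2
  let Φ : permParts × (ZMod 3)ˣ → {f : Equiv.Perm ArrayPt × (ArrayPt → (ZMod 3)ˣ) // P f.1 f.2} :=
    fun a => ⟨(a.1, fun p => a.2 * w a.1 p), P_smul _ (hw a.1)⟩
  have hΦ : Function.Bijective Φ := by
    refine ⟨fun a b h => ?_, fun ⟨⟨σ, c⟩, h⟩ => ?_⟩
    · have h1 : a.1 = b.1 := Subtype.ext (congrArg (fun z => z.1.1) h)
      have h2 : a.2 * w a.1 (0, 0) = b.2 * w b.1 (0, 0) := congrArg (fun z => z.1.2 (0, 0)) h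
      rw [h1] at h2
      exact Prod.ext h1 (mul_right_cancel h2)
    · let σ' : permParts := ⟨σ, c, h⟩
      refine ⟨(σ', c (0, 0) * (w σ' (0, 0))⁻¹), Subtype.ext (Prod.ext rfl (funext fun p => ?_))⟩
      obtain ⟨c', hc'⟩ : σ⁻¹ ∈ permParts := by
        rw [← SetLike.mem_coe, permParts_eq]
        exact inv_mem (permParts_le (σ := σ) ⟨c, h⟩)
      have h1 := P_mul h hc'
      have h2 := P_mul (hw σ') hc'
      simp only [σ', mul_inv_cancel] at h1 h2
      have e1 := diag_scalar h1 p (0, 0)
      have e2 := diag_scalar h2 p (0, 0)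
      show c (0, 0) * (w σ' (0, 0))⁻¹ * w σ' p = c p
      refine mul_right_cancel (b := c' (σ.symm p)) ?_
      calc c (0, 0) * (w σ' (0, 0))⁻¹ * w σ' p * c' (σ.symm p)
          = c (0, 0) * (w σ' (0, 0))⁻¹ * (w σ' p * c' (σ.symm p)) := mul_assoc _ _ _
        _ = c (0, 0) * (w σ' (0, 0))⁻¹ * (w σ' (0, 0) * c' (σ.symm (0, 0))) := by rw [e2]
        _ = c (0, 0) * c' (σ.symm (0, 0)) := by rw [mul_assoc, inv_mul_cancel_left]
        _ = c p * c' (σ.symm p) := e1.symm
  change Nat.card {f : Equiv.Perm ArrayPt × (ArrayPt → (ZMod 3)ˣ) // P f.1 f.2} = 190080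
  rw [← Nat.card_eq_of_bijective Φ hΦ, Nat.card_prod, card_permParts, Nat.card_units]
  simp

end Cfsg.Agent.S1594
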