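import Cfsg.Statements.S5354
import Cfsg.Agent.Lib.Sporadic.FischerPrimitive

set_option autoImplicit false
open Cfsg CfsgLib.Sporadic

namespace Cfsg.Agent.S5354

/-- Let D be a conjugation-invariant generating set of 3-transpositions of the finite group G on which G acts primitively by conjugation, and suppose two different members of D commute (width at least 2). Then G has a quasisimple normal subgroup L of index at most 2 with the generalized Fitting subgroup of G equal to L times the centre, the commuting graph of D is connected, and for d in D the subgroup generated by the members of D commuting with d is a maximal D-subgroup: it is proper, and every subgroup generated by members of D that contains it is either it or G. -/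
theorem result {G : Type*} [Group G] [Finite G] {D : Set G} (hD : Cfsg.IsThreeTranspositionGroup D) (hprim : Cfsg.IsPrimitiveUnderConj D) (hw : ∃ a ∈ D, ∃ b ∈ D, a ≠ b ∧ Commute a b) : (∃ L : Subgroup G, L.Normal ∧ Cfsg.IsQuasisimple L ∧ L.index ≤ 2 ∧ Cfsg.generalizedFittingSubgroup G = L ⊔ Subgroup.center G) ∧ (Cfsg.commutingGraph D).Connected ∧ ∀ d ∈ D, Subgroup.closure {y : G | y ∈ D ∧ Commute d y} ≠ ⊤ ∧ ∀ H : Subgroup G, Cfsg.IsDSubgroup D H → Subgroup.closure {y : G | y ∈ D ∧ Commute d y} ≤ H → H = Subgroup.closure {y : G | y ∈ D ∧ Commute d y} ∨ H = ⊤ := by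
  obtain ⟨h2, h3, hconn⟩ := FischerPrimitive.of_primitive hD hprim hw
  obtain ⟨hclass, hD2, -⟩ := hprim
  obtain ⟨L, hL⟩ := FischerLayer.exists_component hD hclass hD2 h2 h3
  have hi := FischerLayer.index_le_two hD hclass hD2 hL hconn
  have hperf := FischerPrimitive.derived_perfect hD hclass hD2 hL hi
  have hsol : ∀ N : Subgroup G, N.Normal → Group.IsSolvable ↥N → N ≤ commutator G →
      N ≤ Subgroup.center G := fun N hN hs _ =>
    FischerCores.solvable_normal_le_center hD h2 h3 N hN hs
  obtain ⟨a₀, ha₀, -⟩ := id hD2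
  refine ⟨⟨L, FischerLayer.component_normal hD hclass hD2 hL, hL.2, hi, ?_⟩,
    (FischerPrimitive.graph_connected_iff ⟨a₀, ha₀⟩).2 hconn, fun d hd => ?_⟩
  · rw [Cfsg.generalizedFittingSubgroup, FischerLayer.layer_eq hD hclass hD2 hL,
      FischerLayer.fitting_eq_center hD h2 h3]
  set M := Subgroup.closure {y : G | y ∈ D ∧ Commute d y} with hM
  obtain ⟨f₀, hf₀, hn₀⟩ := FischerLayer.exists_adj' hD hclass hD2 hd
  have hMc : ∀ g ∈ M, Commute d g := by
    intro g hg
    induction hg using Subgroup.closure_induction with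
    | mem z hz => exact hz.2
    | one => exact Commute.one_right _
    | mul _ _ _ _ h1 h2 => exact h1.mul_right h2
    | inv _ _ h => exact h.inv_right
  refine ⟨fun h => hn₀ (hMc f₀ (h ▸ Subgroup.mem_top f₀)), fun H hH hle => ?_⟩
  set S : Set G := {y | y ∈ D ∧ y ∈ H} with hS
  by_cases hall : ∀ y ∈ S, Commute d y
  · left
    refine le_antisymm ?_ hle
    rw [← (hH : Subgroup.closure S = H), Subgroup.closure_le]
    exact fun y hy => Subgroup.subset_closure ⟨hy.1, hall y hy⟩
  right
  push Not at hall
  obtain ⟨f, hfS, hdf⟩ := hall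
  have hdS : d ∈ S := ⟨hd, hle (Subgroup.subset_closure ⟨hd, Commute.refl d⟩)⟩
  have hNbS : FischerTransitivity.Nb D d ⊆ S := fun y hy =>
    ⟨hy.1, hle (Subgroup.subset_closure ⟨hy.1, hy.2.2⟩)⟩
  open Relation in
  have hbase : ∀ y ∈ FischerTransitivity.Nb D d,
      ReflTransGen (FischerTransitivity.Rel S) d y := by
    intro y hy
    obtain ⟨y₀, hy₀, hfy⟩ : ∃ y₀ ∈ FischerTransitivity.Nb D d, ¬ Commute f y₀ := by
      by_contra hno
      push Not at hno
      have hsub : FischerTransitivity.Nb D d ⊆ FischerTransitivity.Nb D f := fun z hz =>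
        ⟨hz.1, fun e => hdf (e ▸ hz.2.2), hno z hz⟩
      have heq : FischerTransitivity.Nb D d = FischerTransitivity.Nb D f := by
        refine Set.eq_of_subset_of_ncard_le hsub ?_ (Set.toFinite _)
        obtain ⟨g, rfl⟩ := hclass d hd f hfS.1
        rw [← FischerRankThree.nb_image hD, Set.ncard_image_of_injective _
          (fun p q h => mul_left_cancel (mul_right_cancel h))]
      exact hdf (FischerRankThree.eq_of_nb_eq hD hclass hsol hd hfS.1 heq ▸ Commute.refl d)
    have h1 : ReflTransGen (FischerTransitivity.Rel S) d y₀ :=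
      ((ReflTransGen.single (r := FischerTransitivity.Rel S) ⟨hdS, hfS, hdf⟩).tail
        ⟨hfS, hNbS hy₀, hfy⟩)
    exact h1.trans (ReflTransGen.mono (fun p q h => ⟨hNbS h.1, hNbS h.2.1, h.2.2⟩) y₀ y
      (FischerTransitivity.connected hD hclass hperf hsol hd hy₀ hy))
  open Relation in
  have hgood : ∀ x, ReflTransGen (FischerTransitivity.Rel S) d x →
      ∀ y ∈ FischerTransitivity.Nb D x, ReflTransGen (FischerTransitivity.Rel S) x y := by
    intro x hx
    induction hx with
    | refl => exact hbase
    | @tail p q _ hpq ih =>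
      obtain ⟨hp, hq, hn⟩ := hpq
      set k := FischerTransitivity.cj p q with hk
      have hkD : k ∈ D := FischerTransitivity.cj_mem hD hp.1 hq.1
      have hkH : k ∈ H := H.mul_mem (H.mul_mem hp.2 hq.2) hp.2
      have hkp : FischerTransitivity.cj k p = q := by
        rw [hk, FischerTransitivity.cj_cj_eq, FischerTransitivity.cj_self hD hp.1,
          FischerTransitivity.cj_comm hD hq.1 hp.1 (fun h => hn h.symm),
          FischerTransitivity.cj_cj hD hp.1]
      intro y hy
      have hy' : FischerTransitivity.cj k y ∈ FischerTransitivity.Nb D p := by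
        have h := FischerTransitivity.nb_conj hD k hy
        rw [← FischerTransitivity.cj_conj hD hkD, ← FischerTransitivity.cj_conj hD hkD, ← hkp,
          FischerTransitivity.cj_cj hD hkD] at h
        exact h
      have hmap := ReflTransGen.lift (r := FischerTransitivity.Rel S)
        (p := FischerTransitivity.Rel S) (FischerTransitivity.cj k)
        (fun a b h => ⟨⟨FischerTransitivity.cj_mem hD hkD h.1.1, H.mul_mem (H.mul_mem hkH h.1.2) hkH⟩,
          ⟨FischerTransitivity.cj_mem hD hkD h.2.1.1, H.mul_mem (H.mul_mem hkH h.2.1.2) hkH⟩,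
          fun hh => h.2.2 ((FischerTransitivity.commute_cj hD hkD a b).1 hh)⟩) _ _ (ih _ hy')
      change ReflTransGen (FischerTransitivity.Rel S) (FischerTransitivity.cj k p)
        (FischerTransitivity.cj k (FischerTransitivity.cj k y)) at hmap
      rw [hkp, FischerTransitivity.cj_cj hD hkD] at hmap
      exact hmap
  open Relation in
  have hreach : ∀ y, ReflTransGen (FischerTransitivity.CRel D) d y →
      ReflTransGen (FischerTransitivity.Rel S) d y := by
    intro y hy
    induction hy with
    | refl => exact ReflTransGen.refl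
    | @tail p q _ hpq ih =>
      by_cases e : q = p
      · exact e ▸ ih
      · exact ih.trans (hgood p ih q ⟨hpq.2.1, e, hpq.2.2⟩)
  rw [eq_top_iff, ← hD.2.2, Subgroup.closure_le]
  intro y hy
  rcases (hreach y (hconn d hd y hy)).cases_tail with h | ⟨p, -, hp⟩
  · exact h ▸ hdS.2
  · exact hp.2.1.2

end Cfsg.Agent.S5354
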