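import Cfsg.Statements.S5361
import Cfsg.Agent.Lib.Sporadic.FischerPrimitive

set_option autoImplicit false
open Cfsg CfsgLib.Sporadic
open scoped commutatorElement

namespace Cfsg.Agent.S5361

/-- Let D be a conjugacy class of 3-transpositions generating the finite group G, and suppose the centre of G is trivial and some two different members of D commute. Then the following are equivalent: (1) the commutator subgroup of G is simple (possibly of prime order); (2) G acts primitively on D by conjugation; (3) the largest normal 2-subgroup and the largest normal 3-subgroup of G are trivial and the commuting graph of D is connected. -/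
theorem result {G : Type*} [Group G] [Finite G] {D : Set G} (hD : Cfsg.IsThreeTranspositionClass D) (hZ : Subgroup.center G = ⊥) (hw : ∃ a ∈ D, ∃ b ∈ D, a ≠ b ∧ Commute a b) : (IsSimpleGroup (commutator G) ↔ Cfsg.IsPrimitiveUnderConj D) ∧ (Cfsg.IsPrimitiveUnderConj D ↔ (Cfsg.pCore 2 G = ⊥ ∧ Cfsg.pCore 3 G = ⊥ ∧ (Cfsg.commutingGraph D).Connected)) := by
  have hG := CfsgLib.ThreeTransp.Basic.class_isGroup hD
  have hclass : ∀ x ∈ D, ∀ y ∈ D, ∃ g : G, g * x * g⁻¹ = y := fun x hx y hy =>
    CfsgLib.ThreeTransp.Basic.class_conj hD hx hy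
  obtain ⟨a, ha, b, hb, hab, habc⟩ := id hw
  have hD2 : ∃ a ∈ D, ∃ b ∈ D, a ≠ b := ⟨a, ha, b, hb, hab⟩
  have hbot : ∀ N : Subgroup G, N ≤ Subgroup.center G → N = ⊥ := fun N h =>
    le_bot_iff.1 (hZ ▸ h)
  -- primitivity gives trivial cores and a connected graph
  have h23 : Cfsg.IsPrimitiveUnderConj D →
      (Cfsg.pCore 2 G = ⊥ ∧ Cfsg.pCore 3 G = ⊥ ∧ (Cfsg.commutingGraph D).Connected) := by
    intro hprim
    obtain ⟨h2, h3, hc⟩ := FischerPrimitive.of_primitive hG hprim hw
    exact ⟨hbot _ h2, hbot _ h3, (FischerPrimitive.graph_connected_iff ⟨a, ha⟩).2 hc⟩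
  have h3all : (Cfsg.pCore 2 G = ⊥ ∧ Cfsg.pCore 3 G = ⊥ ∧ (Cfsg.commutingGraph D).Connected) →
      IsSimpleGroup (commutator G) ∧ Cfsg.IsPrimitiveUnderConj D := by
    rintro ⟨h2, h3, hc⟩
    have h2' : Cfsg.pCore 2 G ≤ Subgroup.center G := h2.le.trans bot_le
    have h3' : Cfsg.pCore 3 G ≤ Subgroup.center G := h3.le.trans bot_le
    obtain ⟨L, hL⟩ := FischerLayer.exists_component hG hclass hD2 h2' h3'
    have hi := FischerLayer.index_le_two hG hclass hD2 hL
      ((FischerPrimitive.graph_connected_iff ⟨a, ha⟩).1 hc)
    refine ⟨?_, FischerPrimitive.primitive_of_index hG hclass hD2 h2' h3' hL hi⟩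
    haveI := FischerLayer.component_normal hG hclass hD2 hL
    haveI : ((Subgroup.center ↥L).map L.subtype).Normal := inferInstance
    have hzL : Subgroup.center ↥L = ⊥ := by
      haveI : Group.IsSolvable ↥((Subgroup.center ↥L).map L.subtype) :=
        Group.isSolvable_of_comm fun x y => by
          obtain ⟨x', hx', hxe⟩ := x.2
          obtain ⟨y', -, hye⟩ := y.2
          refine Subtype.ext ?_
          show (x : G) * y = y * x
          rw [← hxe, ← hye]
          exact (congrArg Subtype.val (Subgroup.mem_center_iff.1 hx' y')).symm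
      have h := hbot ((Subgroup.center ↥L).map L.subtype)
        (FischerCores.solvable_normal_le_center hG h2' h3' _ inferInstance inferInstance)
      rwa [Subgroup.map_eq_bot_iff_of_injective _ L.subtype_injective] at h
    rw [FischerPrimitive.commutator_eq hG hclass hD2 hL hi]
    haveI := CfsgLib.Components.IsQuasisimple.nontrivial hL.2
    refine ⟨fun N hN => ?_⟩
    rcases CfsgLib.Components.IsQuasisimple.normal_le_center_or_top hL.2 N with h | h
    · exact Or.inl (le_bot_iff.1 (hzL ▸ h))
    · exact Or.inr h
  have h13 : IsSimpleGroup (commutator G) →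
      (Cfsg.pCore 2 G = ⊥ ∧ Cfsg.pCore 3 G = ⊥ ∧ (Cfsg.commutingGraph D).Connected) := by
    intro hsimple
    have hna : ∃ x y : commutator G, x * y ≠ y * x := by
      by_contra hcomm
      push Not at hcomm
      letI : CommGroup ↥(commutator G) := { (inferInstance : Group ↥(commutator G)) with
        mul_comm := hcomm }
      haveI := hsimple
      have hp : (Nat.card ↥(commutator G)).Prime := IsSimpleGroup.prime_card
      obtain ⟨f, hf, hn⟩ := FischerLayer.exists_adj' hG hclass hD2 ha
      have h1 : ∀ x ∈ D, ∀ y ∈ D, orderOf (x * y) ∣ Nat.card ↥(commutator G) := fun x hx y hy => by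
        have hm := FischerTransitivity.mul_mem_commutator hG hclass hx hy
        rw [← Subgroup.orderOf_mk (x * y) hm]
        exact orderOf_dvd_natCard _
      have e3 := (Nat.prime_dvd_prime_iff_eq Nat.prime_three hp).1
        (CfsgLib.ThreeTransp.Basic.orderOf_mul_three hG.1 ha hf hn ▸ h1 a ha f hf)
      have e2 : orderOf (a * b) = 2 := by
        haveI := Fact.mk Nat.prime_two
        refine orderOf_eq_prime ((CfsgLib.ThreeTransp.Basic.commute_iff
          (FischerTransitivity.sq hG ha) (FischerTransitivity.sq hG hb)).1 habc) fun h => hab ?_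
        rw [eq_inv_of_mul_eq_one_left h, FischerTransitivity.inv_eq hG hb]
      have e2' := (Nat.prime_dvd_prime_iff_eq Nat.prime_two hp).1 (e2 ▸ h1 a ha b hb)
      omega
    obtain ⟨x, y, hxy⟩ := hna
    have hns : ¬ Group.IsSolvable ↥(commutator G) := fun hs =>
      hxy ((IsSimpleGroup.comm_iff_isSolvable (G := ↥(commutator G))).2 hs x y)
    have hcore : ∀ p : ℕ, p.Prime → Cfsg.pCore p G = ⊥ := by
      intro p hp
      haveI := Fact.mk hp
      haveI : (Cfsg.pCore p G).Normal := CfsgLib.Solvable.Cores.pCore_normal p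
      haveI := CfsgLib.Solvable.Cores.pCore_isNilpotent (G := G) p
      have hmeet : Cfsg.pCore p G ⊓ commutator G = ⊥ := by
        rcases hsimple.eq_bot_or_eq_top_of_normal ((Cfsg.pCore p G).subgroupOf (commutator G))
          (Subgroup.normal_subgroupOf) with h | h
        · rwa [Subgroup.subgroupOf_eq_bot, disjoint_iff] at h
        · rw [Subgroup.subgroupOf_eq_top] at h
          exact absurd (Group.isSolvable_of_isSolvable_injective (f := Subgroup.inclusion h)
            (Subgroup.inclusion_injective _)) hns
      refine hbot _ ?_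
      intro o ho
      rw [Subgroup.mem_center_iff]
      intro g
      have hmem : g * o * g⁻¹ * o⁻¹ ∈ Cfsg.pCore p G ⊓ commutator G :=
        ⟨(Cfsg.pCore p G).mul_mem ((CfsgLib.Solvable.Cores.pCore_normal p).conj_mem o ho g)
          ((Cfsg.pCore p G).inv_mem ho), by
          rw [commutator_def]
          simpa [commutatorElement_def] using
            Subgroup.commutator_mem_commutator (Subgroup.mem_top g) (Subgroup.mem_top o)⟩
      rw [hmeet, Subgroup.mem_bot] at hmem
      have := mul_inv_eq_one.1 hmem
      exact mul_inv_eq_iff_eq_mul.1 this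
    refine ⟨hcore 2 Nat.prime_two, hcore 3 Nat.prime_three,
      (FischerPrimitive.graph_connected_iff ⟨a, ha⟩).2 fun p hp q hq =>
        FischerTransitivity.commuting_connected hG hclass ?_ hp hq⟩
    rcases hsimple.eq_bot_or_eq_top_of_normal (commutator ↥(commutator G)) inferInstance with h | h
    · refine absurd ?_ hxy
      have hm : ⁅x, y⁆ ∈ commutator ↥(commutator G) :=
        Subgroup.commutator_mem_commutator (Subgroup.mem_top x) (Subgroup.mem_top y)
      rw [h, Subgroup.mem_bot, commutatorElement_eq_one_iff_mul_comm] at hm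
      exact hm
    · have h' := congrArg (Subgroup.map (commutator G).subtype) h
      rwa [commutator_def (↥(commutator G)), Subgroup.map_commutator, ← MonoidHom.range_eq_map,
        Subgroup.range_subtype] at h'
  exact ⟨⟨fun h => (h3all (h13 h)).2, fun h => (h3all (h23 h)).1⟩, ⟨h23, fun h => (h3all h).2⟩⟩

end Cfsg.Agent.S5361
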