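import Cfsg.Statements.S0296
import Cfsg.Agent.Lib.Classical.OrthSimple

set_option autoImplicit false
open Cfsg

namespace Cfsg.Agent.S0296

/-- PΩ^+_{2m}(q) is simple for m at least 4. -/
theorem result {F : Type*} [Field F] [Fintype F] (m : ℕ) (hm : 4 ≤ m) : IsSimpleGroup (Cfsg.POmega F (Cfsg.quadFormPlus m F)) := by
  classical
  have hn : Fintype.card (Fin m ⊕ Fin m) = 2 * m := by simp; omega
  exact CfsgLib.Classical.pomega_simple (CfsgLib.Orth.plusForm F m) (CfsgLib.Orth.plusForm_apply m)
    (CfsgLib.Orth.plusForm_nondeg m) (Or.inr (by rw [Module.finrank_pi, hn]; omega))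
    (CfsgLib.Classical.hypPairs_plus m (by omega)) (by rw [Module.finrank_pi, hn]; omega)

end Cfsg.Agent.S0296
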