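import Cfsg.Statements.S0011
import Cfsg.Agent.Lib.Solvable.FrattiniFitting
-- import your own Cfsg.Agent.* helpers here

set_option autoImplicit false
open Cfsg

namespace Cfsg.Agent.S0011

/-- If the Frattini quotient of a finite group is nilpotent then the group is nilpotent. -/
theorem result {G : Type*} [Group G] [Finite G]
    (h : Group.IsNilpotent (G ⧸ frattini G)) : Group.IsNilpotent G := by
  let f := (QuotientGroup.mk' (frattini G)).comp (⊤ : Subgroup G).subtype
  have hf : Function.Surjective f := fun x => by
    obtain ⟨y, rfl⟩ := QuotientGroup.mk'_surjective (frattini G) x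
    exact ⟨⟨y, Subgroup.mem_top y⟩, rfl⟩
  have hker : f.ker = (frattini G).subgroupOf ⊤ := by
    ext x
    simp [f, Subgroup.mem_subgroupOf]
  haveI : Group.IsNilpotent ((⊤ : Subgroup G) ⧸ (frattini G).subgroupOf ⊤) :=
    haveI := h
    Group.nilpotent_of_mulEquiv ((QuotientGroup.quotientKerEquivOfSurjective f hf).symm.trans
      (QuotientGroup.quotientMulEquivOfEq hker))
  exact Group.isNilpotent_top.mp
    (CfsgLib.Solvable.FrattiniFitting.isNilpotent_of_quotient_frattini ⊤ (frattini G) le_top le_rfl)

end Cfsg.Agent.S0011
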