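import Cfsg.Statements.S0012
import Cfsg.Agent.Lib.Solvable.FrattiniFitting
-- import your own Cfsg.Agent.* helpers here

set_option autoImplicit false
open Cfsg

namespace Cfsg.Agent.S0012

/-- In a finite p-group every commutator and every p-th power lies in the Frattini subgroup, so the Frattini quotient is elementary abelian. -/
theorem result {G : Type*} [Group G] [Finite G] (p : ℕ) [Fact p.Prime]
    (hG : IsPGroup p G) : commutator G ≤ frattini G ∧ ∀ x : G, x ^ p ∈ frattini G := by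
  haveI := hG.isNilpotent
  refine ⟨CfsgLib.Solvable.FrattiniFitting.commutator_le_frattini, fun x => ?_⟩
  refine Subgroup.mem_iInf.mpr fun M => Subgroup.mem_iInf.mpr fun hM => ?_
  haveI : M.Normal := Subgroup.NormalizerCondition.normal_of_coatom M
    Group.normalizerCondition_of_isNilpotent hM
  by_contra hx
  have htop : M ⊔ Subgroup.zpowers (x ^ p) = ⊤ :=
    hM.2 _ (left_lt_sup.mpr fun h => hx (h (Subgroup.mem_zpowers _)))
  have hmem : x ∈ ((M ⊔ Subgroup.zpowers (x ^ p) : Subgroup G) : Set G) := by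
    rw [htop]; trivial
  rw [Subgroup.normal_mul] at hmem
  obtain ⟨m, hm, z, hz, hxe⟩ := hmem
  obtain ⟨k, rfl⟩ := Subgroup.mem_zpowers_iff.mp hz
  set q := (x : G ⧸ M) with hq
  have h1 : q = q ^ ((p : ℤ) * k) := by
    calc q = ((m * (x ^ p) ^ k : G) : G ⧸ M) := by rw [hq]; exact congrArg _ hxe.symm
      _ = q ^ ((p : ℤ) * k) := by
        rw [QuotientGroup.mk_mul, (QuotientGroup.eq_one_iff m).mpr hm, one_mul,
          QuotientGroup.mk_zpow, QuotientGroup.mk_pow, zpow_mul, zpow_natCast]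
  obtain ⟨a, ha⟩ := (IsPGroup.iff_orderOf.mp (hG.to_quotient M)) q
  have h2 : (orderOf q : ℤ) ∣ (p : ℤ) * k - 1 := by
    rw [orderOf_dvd_iff_zpow_eq_one, zpow_sub, zpow_one, ← h1, mul_inv_cancel]
  rcases Nat.eq_zero_or_pos a with h0 | h0
  · subst h0
    rw [pow_zero, orderOf_eq_one_iff] at ha
    exact hx (pow_mem ((QuotientGroup.eq_one_iff x).mp ha) p)
  · rw [ha] at h2
    have h3 : (p : ℤ) ∣ (p : ℤ) * k - 1 := (by exact_mod_cast dvd_pow_self (p : ℤ) h0.ne' :
      (p : ℤ) ∣ ((p ^ a : ℕ) : ℤ)).trans h2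
    have h4 : (p : ℤ) ∣ 1 := by simpa using (dvd_mul_right (p : ℤ) k).sub h3
    exact (Fact.out : p.Prime).ne_one (Nat.dvd_one.mp (Int.natCast_dvd_natCast.mp (by simpa using h4)))

end Cfsg.Agent.S0012
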