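import Cfsg.Statements.S0014
import Cfsg.Agent.Lib.PGroup.Frattini
import Cfsg.Agent.Lib.Solvable.Basic
-- import your own Cfsg.Agent.* helpers here

set_option autoImplicit false
open Cfsg

namespace Cfsg.Agent.S0014

/-- Burnside's basis Theorem: in a finite p-group whose Frattini quotient has order p ^ n, every generating set contains n elements that already generate, and no set with fewer than n elements generates. -/
theorem result {G : Type*} [Group G] [Finite G] (p n : ℕ) [Fact p.Prime]
    (hG : IsPGroup p G) (hn : (frattini G).index = p ^ n) :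
    (∀ S : Finset G, Subgroup.closure (S : Set G) = ⊤ → ∃ T : Finset G, T ⊆ S ∧ T.card = n ∧ Subgroup.closure (T : Set G) = ⊤) ∧
    (∀ T : Finset G, Subgroup.closure (T : Set G) = ⊤ → n ≤ T.card) := by
  classical
  set Q := G ⧸ frattini G
  set q := QuotientGroup.mk' (frattini G)
  have hcQ : Nat.card Q = p ^ n := by rw [← hn, Subgroup.index_eq_card]
  have hnor : ∀ K : Subgroup Q, K.Normal := fun K => ⟨fun k hk g => by
    rw [CfsgLib.PGroup.Frattini.quotient_mul_comm hG g k, mul_inv_cancel_right]; exact hk⟩
  have step : ∀ (K : Subgroup Q) (x : Q), x ∉ K →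
      Nat.card (K ⊔ Subgroup.zpowers x : Subgroup Q) = Nat.card K * p := by
    intro K x hx
    haveI := hnor K
    have hx1 : x ≠ 1 := fun e => hx (e ▸ K.one_mem)
    have hox : orderOf x = p :=
      orderOf_eq_prime (CfsgLib.PGroup.Frattini.quotient_pow_eq_one hG x) hx1
    have hz : Nat.card (Subgroup.zpowers x) = p := by rw [Nat.card_zpowers, hox]
    have hd : K ⊓ Subgroup.zpowers x = ⊥ := by
      rcases (Nat.dvd_prime Fact.out).mp
        (hz ▸ Subgroup.card_dvd_of_le (inf_le_right : K ⊓ Subgroup.zpowers x ≤ _)) with h | h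
      · exact Subgroup.card_eq_one.mp h
      · exfalso
        have := Subgroup.eq_of_le_of_card_ge (inf_le_right : K ⊓ Subgroup.zpowers x ≤ _)
          (by rw [h, hz])
        exact hx (inf_le_left (α := Subgroup Q) (this.symm ▸ Subgroup.mem_zpowers x : x ∈ K ⊓ _))
    rw [sup_comm, CfsgLib.Solvable.Basic.card_sup_of_disjoint K _ hd, hz, mul_comm]
  have hins : ∀ (T : Finset G) (a : G), Subgroup.closure (q '' (insert a T : Finset G)) =
      Subgroup.closure (q '' (T : Set G)) ⊔ Subgroup.zpowers (q a) := by
    intro T a
    rw [Finset.coe_insert, Set.image_insert_eq, Subgroup.zpowers_eq_closure, sup_comm,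
      ← Subgroup.closure_union, Set.insert_eq]
  have greedy : ∀ S : Finset G, ∃ T : Finset G, T ⊆ S ∧
      Subgroup.closure (q '' (T : Set G)) = Subgroup.closure (q '' (S : Set G)) ∧
      Nat.card (Subgroup.closure (q '' (T : Set G))) = p ^ T.card := by
    intro S
    induction S using Finset.induction_on with
    | empty =>
      refine ⟨∅, le_rfl, rfl, ?_⟩
      rw [Finset.coe_empty, Set.image_empty, Subgroup.closure_empty, Subgroup.card_bot,
        Finset.card_empty, pow_zero]
    | @insert a S ha ih =>
      obtain ⟨T, hTS, hcl, hcard⟩ := ih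
      by_cases hm : q a ∈ Subgroup.closure (q '' (T : Set G))
      · refine ⟨T, hTS.trans (Finset.subset_insert a S), ?_, hcard⟩
        rw [hins, ← hcl, sup_eq_left.mpr (Subgroup.zpowers_le.mpr hm)]
      · refine ⟨insert a T, Finset.insert_subset_insert a hTS, by rw [hins, hins, hcl], ?_⟩
        have hcT : a ∉ T := fun h => hm (Subgroup.subset_closure (Set.mem_image_of_mem q h))
        rw [hins, step _ _ hm, hcard, Finset.card_insert_of_notMem hcT, pow_succ]
  have upper : ∀ T : Finset G, Nat.card (Subgroup.closure (q '' (T : Set G))) ≤ p ^ T.card := by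
    intro T
    induction T using Finset.induction_on with
    | empty =>
      rw [Finset.coe_empty, Set.image_empty, Subgroup.closure_empty, Subgroup.card_bot,
        Finset.card_empty, pow_zero]
    | @insert a T ha ih =>
      rw [hins, Finset.card_insert_of_notMem ha, pow_succ]
      by_cases hm : q a ∈ Subgroup.closure (q '' (T : Set G))
      · rw [sup_eq_left.mpr (Subgroup.zpowers_le.mpr hm)]
        exact ih.trans (Nat.le_mul_of_pos_right _ (Fact.out : p.Prime).pos)
      · rw [step _ _ hm]
        exact Nat.mul_le_mul_right p ih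
  have gen : ∀ T : Finset G, Subgroup.closure (T : Set G) = ⊤ ↔
      Subgroup.closure (q '' (T : Set G)) = ⊤ := by
    intro T
    rw [← MonoidHom.map_closure]
    constructor
    · intro h
      rw [h]; exact Subgroup.map_top_of_surjective _ (QuotientGroup.mk'_surjective _)
    · intro h
      apply frattini_nongenerating
      rw [← QuotientGroup.ker_mk' (frattini G), ← Subgroup.comap_map_eq, h, Subgroup.comap_top]
  constructor
  · intro S hS
    obtain ⟨T, hTS, hcl, hcard⟩ := greedy S
    rw [(gen S).mp hS] at hcl
    refine ⟨T, hTS, ?_, (gen T).mpr hcl⟩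
    rw [hcl, Subgroup.card_top, hcQ] at hcard
    exact (Nat.pow_right_injective (Fact.out : p.Prime).two_le hcard).symm
  · intro T hT
    have := upper T
    rw [(gen T).mp hT, Subgroup.card_top, hcQ] at this
    exact (Nat.pow_le_pow_iff_right (Fact.out : p.Prime).one_lt).mp this

end Cfsg.Agent.S0014
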