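import Cfsg.Statements.S0015
import Cfsg.Agent.Lib.Solvable.FrattiniFitting
-- import your own Cfsg.Agent.* helpers here

set_option autoImplicit false
open Cfsg

namespace Cfsg.Agent.S0015

/-- In a finite nilpotent group, an abelian normal subgroup that is maximal among abelian normal subgroups equals its own centralizer. -/
theorem result {G : Type*} [Group G] [Finite G] [Group.IsNilpotent G]
    (N : Subgroup G) [N.Normal] [IsMulCommutative N]
    (hmax : ∀ M : Subgroup G, M.Normal → IsMulCommutative M → N ≤ M → M = N) :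
    Subgroup.centralizer (N : Set G) = N := by
  set C := Subgroup.centralizer (N : Set G) with hC
  have hNC : N ≤ C := Subgroup.le_centralizer N
  refine le_antisymm ?_ hNC
  by_contra hne
  have hmap : C.map (QuotientGroup.mk' N) ≠ ⊥ := by
    rw [Ne, Subgroup.map_eq_bot_iff, QuotientGroup.ker_mk']; exact hne
  haveI : (C.map (QuotientGroup.mk' N)).Normal :=
    Subgroup.Normal.map inferInstance _ (QuotientGroup.mk'_surjective N)
  have hZ := CfsgLib.Solvable.FrattiniFitting.inf_center_ne_bot _ hmap
  obtain ⟨q, hq, hq1⟩ := (Subgroup.bot_or_exists_ne_one _).resolve_left hZ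
  obtain ⟨x, hxC, rfl⟩ := hq.1
  set M := (Subgroup.zpowers ((QuotientGroup.mk' N) x)).comap (QuotientGroup.mk' N) with hM
  have hZle : Subgroup.zpowers ((QuotientGroup.mk' N) x) ≤ Subgroup.center (G ⧸ N) := by
    rw [Subgroup.zpowers_le]; exact hq.2
  have hn : (Subgroup.zpowers ((QuotientGroup.mk' N) x)).Normal := by
    refine ⟨fun y hy g => ?_⟩
    rw [Subgroup.mem_center_iff.mp (hZle hy) g, mul_inv_cancel_right]; exact hy
  haveI : M.Normal := Subgroup.Normal.comap hn _
  have hMe : M = Subgroup.zpowers x ⊔ N := by
    rw [hM, ← MonoidHom.map_zpowers, Subgroup.comap_map_eq, QuotientGroup.ker_mk']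
  have hx_comm : ∀ y ∈ M, x * y = y * x := by
    intro y hy
    rw [hMe] at hy
    have : Subgroup.zpowers x ⊔ N ≤ Subgroup.centralizer {x} := by
      refine sup_le (Subgroup.zpowers_le.mpr ?_) ?_
      · exact Subgroup.mem_centralizer_singleton_iff.mpr rfl
      · intro n hn
        exact Subgroup.mem_centralizer_singleton_iff.mpr (Subgroup.mem_centralizer_iff.mp hxC n hn)
    exact (Subgroup.mem_centralizer_singleton_iff.mp (this hy)).symm
  have hMc : IsMulCommutative M := by
    rw [CfsgLib.Solvable.Basic.isMulCommutative_subgroup_iff]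
    have : M ≤ Subgroup.centralizer (M : Set G) := by
      conv_lhs => rw [hMe]
      refine sup_le (Subgroup.zpowers_le.mpr ?_) ?_
      · exact Subgroup.mem_centralizer_iff.mpr fun y hy => (hx_comm y hy).symm
      · rw [Subgroup.le_centralizer_iff, hMe]
        exact sup_le (Subgroup.zpowers_le.mpr hxC) hNC
    exact fun a ha b hb => (Subgroup.mem_centralizer_iff.mp (this ha) b hb).symm
  have hMN := hmax M inferInstance hMc (QuotientGroup.le_comap_mk' N _)
  apply hq1
  have : x ∈ M := Subgroup.mem_zpowers _
  rw [hMN] at this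
  exact (QuotientGroup.eq_one_iff x).mpr this

end Cfsg.Agent.S0015
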