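import Cfsg.Statements.S0031
import Cfsg.Agent.Lib.Solvable.Basic
-- import your own Cfsg.Agent.* helpers here

set_option autoImplicit false
open Cfsg
open scoped Pointwise

namespace Cfsg.Agent.S0031

/-- A fixed-point-free automorphism of a finite group maps some Sylow p-subgroup to itself. -/
theorem result {G : Type*} [Group G] [Finite G] (φ : G ≃* G)
    (hφ : MonoidHom.FixedPointFree (φ : G →* G)) (p : ℕ) [Fact p.Prime] :
    ∃ P : Sylow p G, (P : Subgroup G).map (φ : G →* G) = P := by
  obtain ⟨P⟩ : Nonempty (Sylow p G) := inferInstance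
  let P' : Sylow p G := P.mapSurjective (f := (φ : G →* G)) φ.surjective
  obtain ⟨g, hg⟩ := MulAction.exists_smul_eq G P P'
  obtain ⟨y, hy⟩ := hφ.commutatorMap_surjective g⁻¹
  refine ⟨y⁻¹ • P, ?_⟩
  have hg' : MulAut.conj g • (P : Subgroup G) = (P : Subgroup G).map (φ : G →* G) := by
    rw [← Sylow.coe_subgroup_smul, hg]; rfl
  rw [Sylow.coe_subgroup_smul, CfsgLib.Solvable.Basic.map_conj_smul, ← hg',
    CfsgLib.Solvable.Basic.conj_smul_conj_smul]
  congr 2
  rw [MonoidHom.commutatorMap_apply, div_eq_mul_inv] at hy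
  rw [← inv_inv g, ← hy, map_inv]
  group

end Cfsg.Agent.S0031
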