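import Cfsg.Statements.S0032
import Cfsg.Agent.Lib.Solvable.Basic
-- import your own Cfsg.Agent.* helpers here

set_option autoImplicit false
open Cfsg

namespace Cfsg.Agent.S0032

/-- If an automorphism of a finite group fixes only the identity and maps a normal subgroup N into itself, then the only cosets of N it fixes are those in N: a fixed coset xN forces x ∈ N. -/
theorem result {G : Type*} [Group G] [Finite G] (φ : G ≃* G)
    (hφ : MonoidHom.FixedPointFree (φ : G →* G)) (N : Subgroup G) [N.Normal] (hN : ∀ n ∈ N, φ n ∈ N)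
    (x : G) (hx : (φ x)⁻¹ * x ∈ N) : x ∈ N := by
  let ψ : N →* N := ((φ : G →* G).comp N.subtype).codRestrict N fun n => hN n n.2
  have hψ : MonoidHom.FixedPointFree ψ := fun n hn =>
    Subtype.ext (hφ n (congrArg Subtype.val hn))
  obtain ⟨n, hn⟩ := hψ.commutatorMap_surjective ⟨_, inv_mem hx⟩
  have hn' : (n : G) * (φ (n : G))⁻¹ = ((φ x)⁻¹ * x)⁻¹ := by
    have := congrArg Subtype.val hn
    simp only [MonoidHom.commutatorMap_apply, div_eq_mul_inv, Subgroup.coe_mul, Subgroup.coe_inv] at this
    exact this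
  have h1 : φ (x * (n : G)) = x * (n : G) := by
    rw [map_mul]
    calc φ x * φ (n : G) = φ x * ((n : G) * (φ (n : G))⁻¹)⁻¹ * n := by group
      _ = x * n := by rw [hn']; group
  have h2 := hφ _ h1
  rw [mul_eq_one_iff_eq_inv] at h2
  exact h2 ▸ inv_mem n.2

end Cfsg.Agent.S0032
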