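import Cfsg.Statements.S0034
import Cfsg.Agent.Lib.FrobRealize.Kernel
import Cfsg.Agent.Lib.PGroup.Frattini

set_option autoImplicit false
open Cfsg

namespace Cfsg.Agent.S0034

/-- For a Frobenius complement H, the set of elements lying in no conjugate of H, together with 1, has exactly as many elements as the index of H, and that index is congruent to 1 modulo the order of H. -/
theorem result {G : Type*} [Group G] [Finite G] (H : Subgroup G) (hH : Cfsg.IsFrobeniusComplement H) :
    Nat.card (Cfsg.frobeniusKernel H) = H.index ∧ H.index % Nat.card H = 1 % Nat.card H := by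
  refine ⟨CfsgLib.FrobRealize.Kernel.card_frobeniusKernel hH, ?_⟩
  let X := {c : G ⧸ H // c ≠ ((1 : G) : G ⧸ H)}
  let act : MulAction H X :=
    { smul := fun h c => ⟨(h : G) • c.1, fun e => c.2 (by
        rw [← inv_smul_smul (h : G) c.1, e, MulAction.Quotient.smul_coe, QuotientGroup.eq]
        simp)⟩
      one_smul := fun c => Subtype.ext (one_smul G c.1)
      mul_smul := fun a b c => Subtype.ext (mul_smul (a : G) (b : G) c.1) }
  have hfree : ∀ (a : H) (x : X), a • x = x → a = 1 := by
    intro a ⟨c, hc⟩ hx
    have h1 : (a : G) • c = c := congrArg Subtype.val hx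
    obtain ⟨g, rfl⟩ := QuotientGroup.mk_surjective c
    rw [MulAction.Quotient.smul_coe, QuotientGroup.eq, smul_eq_mul, mul_inv_rev] at h1
    by_contra ha
    have hg := CfsgLib.FrobRealize.Kernel.mem_of_mem_conj hH a.2
      (fun h => ha (Subtype.ext h)) (g := g) (by simpa [mul_assoc] using H.inv_mem h1)
    exact hc (QuotientGroup.eq.2 (by simpa using H.inv_mem hg))
  have hd := CfsgLib.PGroup.Frattini.card_dvd_of_free (A := H) (X := X) hfree
  have hX : Nat.card X + 1 = H.index := by
    classical
    have := Fintype.ofFinite (G ⧸ H)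
    rw [Subgroup.index_eq_card, Nat.card_eq_fintype_card, Nat.card_eq_fintype_card,
      Fintype.card_subtype_compl, Fintype.card_subtype_eq]
    have : 0 < Fintype.card (G ⧸ H) := Fintype.card_pos
    omega
  obtain ⟨k, hk⟩ := hd
  rw [← hX, hk, Nat.mul_add_mod]

end Cfsg.Agent.S0034
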