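import Cfsg.Statements.S0049
import Cfsg.Agent.Lib.Solvable.FrattiniFitting
-- import your own Cfsg.Agent.* helpers here

set_option autoImplicit false
open Cfsg

namespace Cfsg.Agent.S0049

/-- A prime divisor of the order of a finite group also divides the index of the Frattini subgroup. -/
theorem result {G : Type*} [Group G] [Finite G] (p : ℕ) (hp : p.Prime) (hdvd : p ∣ Nat.card G) :
    p ∣ (frattini G).index := by
  by_contra hn
  haveI := Fact.mk hp
  have hpΦ : p ∣ Nat.card (frattini G) :=
    (hp.dvd_mul.mp ((frattini G).card_mul_index.symm ▸ hdvd)).resolve_right hn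
  obtain ⟨Q⟩ : Nonempty (Sylow p (frattini G)) := inferInstance
  haveI := frattini_nilpotent (G := G)
  haveI : (Q : Subgroup (frattini G)).Characteristic := Q.characteristic_of_normal inferInstance
  set R : Subgroup G := (Q : Subgroup (frattini G)).map (frattini G).subtype with hR
  have hidx : R.index = (Q : Subgroup (frattini G)).index * (frattini G).index :=
    Subgroup.index_map_subtype _
  have hnd : ¬ p ∣ R.index := by
    rw [hidx]; exact fun h => (hp.dvd_mul.mp h).elim Q.not_dvd_index hn
  obtain ⟨k, hk⟩ := IsPGroup.iff_card.mp (Q.isPGroup'.map (frattini G).subtype)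
  have hcop : (Nat.card R).Coprime R.index := by
    rw [hR, hk]; exact (hp.coprime_iff_not_dvd.mpr hnd).pow_left k
  obtain ⟨H, hH⟩ := Subgroup.exists_right_complement'_of_coprime (N := R) hcop
  have h1 : H = ⊤ := frattini_nongenerating (top_le_iff.mp
    (hH.symm.sup_eq_top ▸ sup_le_sup_left (Subgroup.map_subtype_le _) H))
  apply Q.ne_bot_of_dvd_card hpΦ
  apply Subgroup.map_injective (frattini G).subtype_injective
  rw [Subgroup.map_bot, eq_bot_iff]
  intro x hx
  exact Subgroup.disjoint_def.mp hH.disjoint hx (h1 ▸ Subgroup.mem_top x) ▸ one_mem _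

end Cfsg.Agent.S0049
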