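import Cfsg.Statements.S0056
import Cfsg.Agent.Lib.Solvable.Basic
-- import your own Cfsg.Agent.* helpers here

set_option autoImplicit false
open Cfsg

namespace Cfsg.Agent.S0056

/-- A coprime action on an abelian group that fixes all elements of prime order is trivial. -/
theorem result {G : Type*} [Group G] [Finite G] (A V : Subgroup G) [IsMulCommutative V]
    (hAV : A ≤ Subgroup.normalizer (V : Set G)) (hcop : (Nat.card A).Coprime (Nat.card V))
    (hΩ : ∀ v ∈ V, (orderOf v).Prime → ∀ a ∈ A, a * v = v * a) : A ≤ Subgroup.centralizer (V : Set G) := by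
  intro a ha
  rw [Subgroup.mem_centralizer_iff]
  intro v
  induction hn : orderOf v using Nat.strong_induction_on generalizing v with
  | _ n ih =>
    intro hv
    by_cases hv1 : v = 1
    · simp [hv1]
    have hn1 : orderOf v ≠ 1 := mt orderOf_eq_one_iff.mp hv1
    set q := (orderOf v).minFac with hq
    have hqp : q.Prime := Nat.minFac_prime hn1
    have hlt : orderOf (v ^ q) < n := by
      rw [← hn, orderOf_pow_of_dvd hqp.ne_zero (Nat.minFac_dvd _)]
      exact Nat.div_lt_self (orderOf_pos v) hqp.one_lt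
    have hfix := ih _ hlt (v ^ q) rfl (pow_mem hv q)
    have hconj : a * v * a⁻¹ ∈ V :=
      (Subgroup.mem_normalizer_iff.mp (hAV ha) v).mp hv
    set c := a * v * a⁻¹ * v⁻¹ with hc
    have hcV : c ∈ V := mul_mem hconj (inv_mem hv)
    have hcomm : Commute (a * v * a⁻¹) v⁻¹ :=
      CfsgLib.Solvable.Basic.isMulCommutative_subgroup_iff.mp inferInstance _ hconj _ (inv_mem hv)
    have hcq : c ^ q = 1 := by
      rw [hc, hcomm.mul_pow, conj_pow, ← hfix, mul_inv_cancel_right, inv_pow, mul_inv_cancel]
    have hca : c * a = a * c := by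
      rcases (Nat.dvd_prime hqp).mp (orderOf_dvd_of_pow_eq_one hcq) with h | h
      · rw [orderOf_eq_one_iff.mp h, one_mul, mul_one]
      · exact (hΩ c hcV (h ▸ hqp) a ha).symm
    have hk : ∀ k : ℕ, a ^ k * v * (a ^ k)⁻¹ = c ^ k * v := by
      intro k
      induction k with
      | zero => simp
      | succ k ihk =>
        have hck : a * c ^ k * a⁻¹ = c ^ k := by
          rw [((show Commute c a from hca).pow_left k).symm.eq, mul_inv_cancel_right]
        calc a ^ (k + 1) * v * (a ^ (k + 1))⁻¹ = a * (a ^ k * v * (a ^ k)⁻¹) * a⁻¹ := by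
              rw [pow_succ']; group
          _ = (a * c ^ k * a⁻¹) * (a * v * a⁻¹) := by rw [ihk]; group
          _ = c ^ k * (c * v) := by rw [hck, hc, mul_assoc (a * v * a⁻¹) v⁻¹ v, inv_mul_cancel, mul_one]
          _ = c ^ (k + 1) * v := by rw [pow_succ]; exact (mul_assoc (c ^ k) c v).symm
    have h1 := hk (Nat.card A)
    rw [show a ^ Nat.card A = 1 from congrArg Subtype.val (pow_card_eq_one' (x := (⟨a, ha⟩ : A))),
      inv_one, mul_one, one_mul] at h1
    have h2 : c ^ Nat.card A = 1 := mul_eq_right.mp h1.symm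
    have h3 : c ^ Nat.card V = 1 :=
      congrArg Subtype.val (pow_card_eq_one' (x := (⟨c, hcV⟩ : V)))
    have h4 : c = 1 := by
      rw [← orderOf_eq_one_iff, ← Nat.dvd_one, ← hcop.gcd_eq_one]
      exact Nat.dvd_gcd (orderOf_dvd_of_pow_eq_one h2) (orderOf_dvd_of_pow_eq_one h3)
    rw [hc, mul_inv_eq_one, mul_inv_eq_iff_eq_mul] at h4
    exact h4.symm

end Cfsg.Agent.S0056
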