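import Cfsg.Statements.S0057
import Cfsg.Agent.Lib.Coprime.Sylow
import Cfsg.Agent.Lib.Fusion.Thompson
import Cfsg.Agent.Lib.Coprime.Abelian
import Mathlib.GroupTheory.SpecificGroups.Cyclic
-- import your own Cfsg.Agent.* helpers here

set_option autoImplicit false
open Cfsg

namespace Cfsg.Agent.S0057

/-- Under coprime action, if the centraliser of A in K has prime index p in K then the commutator subgroup [K, A] has order exactly p. -/
theorem result {G : Type*} [Group G] [Finite G] (A K : Subgroup G) (hAK : A ≤ Subgroup.normalizer (K : Set G))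
    (hcop : (Nat.card A).Coprime (Nat.card K)) (hsolv : Group.IsSolvable A ∨ Group.IsSolvable K)
    (p : ℕ) (hp : p.Prime) (hidx : (K ⊓ Subgroup.centralizer (A : Set G)).relIndex K = p) :
    Nat.card (⁅K, A⁆ : Subgroup G) = p := by
  have := Fact.mk hp
  set N : Subgroup G := ⁅K, A⁆ with hN
  have hNK : N ≤ K := Subgroup.le_normalizer_iff_commutator_le_left.1 hAK
  set C := K ⊓ Subgroup.centralizer (A : Set G) with hC
  have hsup : N ⊔ C = K := CfsgLib.Coprime.commutator_sup_centralizer hAK hcop hsolv
  have hNA : ⁅N, A⁆ = N := CfsgLib.Coprime.commutator_commutator_self hAK hcop hsolv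
  have hAN : A ≤ Subgroup.normalizer (N : Set G) :=
    Subgroup.le_normalizer_iff_commutator_le_left.2 hNA.le
  have hcopN : (Nat.card A).Coprime (Nat.card N) := CfsgLib.Coprime.coprime_of_le hcop le_rfl hNK
  set D := N ⊓ Subgroup.centralizer (A : Set G) with hD
  have hCN : C ≤ Subgroup.normalizer (N : Set G) := fun c hc => by
    refine Subgroup.mem_normalizer_iff_map_conj_eq.2 ?_
    show N.map (MulAut.conj c).toMonoidHom = N
    rw [hN, Subgroup.map_commutator, CfsgLib.Coprime.conj_map_eq_self_of_mem_normalizer (Subgroup.le_normalizer hc.1),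
      CfsgLib.Coprime.conj_map_eq_self_of_mem_normalizer]
    exact Subgroup.centralizer_le_normalizer _ hc.2
  have hDN : D.relIndex N = p := by
    rw [← hidx]
    have e1 : Nat.card K * Nat.card D = Nat.card N * Nat.card C := by
      have h1 := CfsgLib.Fusion.Thompson.card_sup_mul_card_inf hCN
      rw [hsup, hC, ← inf_assoc, inf_eq_left.2 hNK] at h1
      exact h1
    rw [← CfsgLib.Coprime.card_mul_relIndex' (inf_le_left : C ≤ K),
      ← CfsgLib.Coprime.card_mul_relIndex' (inf_le_left : D ≤ N)] at e1
    refine Nat.eq_of_mul_eq_mul_left (Nat.mul_pos Nat.card_pos Nat.card_pos : 0 < Nat.card C * Nat.card D) ?_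
    linarith
  have hNne : ¬ N ≤ D := fun h => hp.ne_one (by rw [← hDN]; exact Subgroup.relIndex_eq_one.2 h)
  -- `N` is a `p`-group
  obtain ⟨P, hAP⟩ := CfsgLib.Coprime.exists_invariant_sylow hAN hcopN
    (hsolv.imp_right (CfsgLib.Coprime.isSolvable_of_le hNK)) p
  set D' := D.subgroupOf N with hD'
  have hidx' : D'.index = p := hDN
  have hPD : ∀ n : N, ∃ g ∈ (P : Subgroup N), g⁻¹ * n ∈ D' := by
    have h1 : D'.relIndex (P : Subgroup N) = p := by
      obtain ⟨j, hj⟩ := (IsPGroup.iff_card.1 P.2 : ∃ j, Nat.card (P : Subgroup N) = p ^ j)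
      have hle : D'.relIndex (P : Subgroup N) ≤ p := (Subgroup.relIndex_le_of_le_right (le_top : (P : Subgroup N) ≤ ⊤) (by rw [Subgroup.relIndex_top_right, hidx']; exact hp.ne_zero)).trans (by rw [Subgroup.relIndex_top_right, hidx'])
      obtain ⟨i, -, hi⟩ := (Nat.dvd_prime_pow hp).1 (hj ▸ Subgroup.relIndex_dvd_card D' (P : Subgroup N))
      rcases Nat.lt_trichotomy i 1 with h | h | h
      · exfalso
        obtain rfl : i = 0 := by omega
        rw [pow_zero, Subgroup.relIndex_eq_one] at hi
        have h2 := Subgroup.index_dvd_of_le hi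
        rw [hidx'] at h2
        exact P.not_dvd_index h2
      · rw [hi, h, pow_one]
      · exfalso
        have := Nat.pow_lt_pow_right hp.one_lt h
        rw [pow_one, ← hi] at this
        omega
    intro n
    let f : (P : Subgroup N) ⧸ D'.subgroupOf P → N ⧸ D' := Quotient.map' (fun g => (g : N)) fun a b h => by
      rw [QuotientGroup.leftRel_apply] at h ⊢
      exact h
    have hinj : Function.Injective f := by
      intro a b
      induction a using Quotient.inductionOn' with | _ a =>
      induction b using Quotient.inductionOn' with | _ b =>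
      intro h
      simp only [f, Quotient.map'_mk''] at h
      rw [Quotient.eq'', QuotientGroup.leftRel_apply] at h
      rw [Quotient.eq'', QuotientGroup.leftRel_apply]
      exact h
    have hsurj := (hinj.bijective_of_nat_card_le (by
      rw [← Subgroup.index_eq_card, ← Subgroup.index_eq_card, hidx', ← Subgroup.relIndex, h1])).2
    obtain ⟨c, hc⟩ := hsurj (Quotient.mk'' n)
    induction c using Quotient.inductionOn' with | _ g =>
    simp only [f, Quotient.map'_mk''] at hc
    rw [Quotient.eq'', QuotientGroup.leftRel_apply] at hc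
    exact ⟨g, g.2, hc⟩
  have hNP : N ≤ (P : Subgroup N).map N.subtype := by
    conv_lhs => rw [← hNA]
    rw [Subgroup.commutator_le]
    intro n hn a ha
    obtain ⟨g, hg, hd⟩ := hPD ⟨n, hn⟩
    obtain ⟨d, hd', rfl⟩ : ∃ d ∈ Subgroup.centralizer (A : Set G), (g : G) * d = n :=
      ⟨(g : G)⁻¹ * n, (Subgroup.mem_subgroupOf.1 hd).2, by group⟩
    have hmem : (g : G) ∈ (P : Subgroup N).map N.subtype := ⟨g, hg, rfl⟩
    rw [commutatorElement_def, show (g : G) * d * a * ((g : G) * d)⁻¹ * a⁻¹ = (g : G) * (d * a * d⁻¹) * (g : G)⁻¹ * a⁻¹ by group,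
      ← Subgroup.mem_centralizer_iff.1 hd' a ha, mul_inv_cancel_right,
      show (g : G) * a * (g : G)⁻¹ * a⁻¹ = (g : G) * (a * (g : G)⁻¹ * a⁻¹) by group]
    exact mul_mem hmem ((Subgroup.mem_normalizer_iff.1 (hAP ha) _).1 (inv_mem hmem))
  have hNp : IsPGroup p N := (P.2.map N.subtype).to_le hNP
  -- `D` is normal in `N`
  have hD'n : D'.Normal := by
    have := hNp.isNilpotent
    have hlt : D' < ⊤ := lt_top_iff_ne_top.2 fun h => hp.ne_one (by rw [← hidx', h, Subgroup.index_top])
    have hgt := Group.normalizerCondition_of_isNilpotent D' hlt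
    refine Subgroup.normalizer_eq_top_iff.1 (Subgroup.index_eq_one.1 ?_)
    have h1 := Subgroup.relIndex_mul_index hgt.le
    rw [hidx'] at h1
    rcases (Nat.dvd_prime hp).1 (Dvd.intro_left _ h1) with h | h
    · exact h
    · rw [h] at h1
      exact absurd (Subgroup.relIndex_eq_one.1 ((mul_eq_right₀ hp.ne_zero).1 h1)) hgt.not_ge
  have hND : N ≤ Subgroup.normalizer (D : Set G) :=
    (Subgroup.normal_subgroupOf_iff_le_normalizer inf_le_left).1 hD'n
  -- `N` centralises `D`
  have hcent : N ≤ Subgroup.centralizer (D : Set G) := by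
    rw [← Subgroup.commutator_eq_bot_iff_le_centralizer]
    conv_lhs => arg 1; rw [← hNA]
    have hDA : ⁅D, A⁆ = ⊥ := Subgroup.commutator_eq_bot_iff_le_centralizer.2 inf_le_right
    refine Subgroup.commutator_commutator_eq_bot_of_rotate ?_ ?_
    · rw [Subgroup.commutator_comm A D, hDA, Subgroup.commutator_bot_left]
    · have hDN : ⁅D, N⁆ ≤ D := Subgroup.le_normalizer_iff_commutator_le_left.1 hND
      exact eq_bot_iff.2 ((Subgroup.commutator_mono hDN le_rfl).trans hDA.le)
  have hcomm : IsMulCommutative N := by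
    have hZ : D' ≤ Subgroup.center N := fun d hd => Subgroup.mem_center_iff.2 fun n =>
      Subtype.ext (Subgroup.mem_centralizer_iff.1 (hcent n.2) d (Subgroup.mem_subgroupOf.1 hd)).symm
    have : IsCyclic (N ⧸ D') := isCyclic_of_prime_card (p := p) (by rw [← Subgroup.index_eq_card, hidx'])
    exact ⟨⟨commutative_of_cyclic_center_quotient (QuotientGroup.mk' D') (by rwa [QuotientGroup.ker_mk'])⟩⟩
  have hbot : D = ⊥ := by
    have := hcomm
    have := CfsgLib.Coprime.centralizer_inf_commutator_eq_bot hAN hcopN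
    rw [hNA] at this
    rw [eq_bot_iff, ← this, hD]
    exact le_inf le_rfl inf_le_left
  rw [hbot, Subgroup.relIndex_bot_left] at hDN
  exact hDN

end Cfsg.Agent.S0057
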