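import Cfsg.Statements.S0059
import Cfsg.Agent.Lib.Coprime.Action

set_option autoImplicit false
open Cfsg

namespace Cfsg.Agent.S0059

/-- Let a finite group act on a set on which a normal subgroup K of coprime order and index is transitive, with K or the quotient solvable. Then any complement H of K has a fixed point, and any two H-fixed points are interchanged by an element of K centralising H. -/
theorem result {G : Type*} [Group G] [Finite G] {X : Type*} [Nonempty X] [MulAction G X]
    (K H : Subgroup G) [K.Normal] (hc : Subgroup.IsComplement' K H) (hcop : (Nat.card K).Coprime K.index)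
    (hsolv : Group.IsSolvable K ∨ Group.IsSolvable (G ⧸ K)) (htrans : MulAction.IsPretransitive K X) :
    (∃ x : X, ∀ h ∈ H, h • x = x) ∧
    ∀ x y : X, (∀ h ∈ H, h • x = x) → (∀ h ∈ H, h • y = y) → ∃ k ∈ K ⊓ Subgroup.centralizer (H : Set G), k • x = y := by
  have hH : Nat.card H = K.index := hc.symm.index_eq_card.symm
  have hsolv' : Group.IsSolvable H ∨ Group.IsSolvable K := hsolv.symm.imp (fun h => by
      have := h
      exact Group.isSolvable_of_isSolvable_injective
        (f := (QuotientGroup.mk' K).comp H.subtype) ((injective_iff_map_eq_one _).2 fun x hx => by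
          have hxx : (x : G) ∈ K ⊓ H := ⟨(QuotientGroup.eq_one_iff _).1 hx, x.2⟩
          rw [hc.disjoint.eq_bot, Subgroup.mem_bot] at hxx
          exact Subtype.ext hxx)) id
  have hn : H ≤ Subgroup.normalizer (K : Set G) := Subgroup.le_normalizer_of_normal
  have hcop' : (Nat.card H).Coprime (Nat.card K) := hH ▸ hcop.symm
  refine ⟨?_, fun x y hx hy => ?_⟩
  · obtain ⟨x⟩ := ‹Nonempty X›
    obtain ⟨y, -, h⟩ := CfsgLib.Coprime.exists_fixed_mem (A := H) (K := K) hn hcop' hsolv'
      (s := Set.univ) (x := x) trivial (fun _ _ _ _ => trivial) (fun _ _ _ _ => trivial)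
      (fun y _ => by
        obtain ⟨⟨k, hk⟩, e⟩ := htrans.exists_smul_eq x y
        exact ⟨k, hk, e⟩)
    exact ⟨y, h⟩
  · obtain ⟨⟨k, hk⟩, e⟩ := htrans.exists_smul_eq x y
    exact CfsgLib.Coprime.exists_centralizer_smul_eq hn hcop' hsolv' hx hy hk e

end Cfsg.Agent.S0059
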