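import Cfsg.Statements.S0063
import Cfsg.Agent.Lib.Solvable.Cores
-- import your own Cfsg.Agent.* helpers here

set_option autoImplicit false

open Cfsg

namespace Cfsg.Agent.S0063

universe u

theorem class_aux (p : ℕ) [Fact p.Prime] : ∀ (N : ℕ) (H : Type u) [Group H] [Finite H], Nat.card H = N →
    ∀ k, Nat.card H = p ^ k → Group.nilpotencyClass H ≤ max 1 (k - 1) := by
  intro N
  induction N using Nat.strong_induction_on with
  | _ N ih =>
    intro H _ _ hN k hk
    have hH : IsPGroup p H := IsPGroup.of_card hk
    haveI := hH.isNilpotent
    rcases subsingleton_or_nontrivial H with hs | hs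
    · rw [Group.nilpotencyClass_zero_iff_subsingleton.mpr hs]; exact Nat.zero_le _
    have hlt : Nat.card (H ⧸ Subgroup.center H) < N :=
      hN ▸ CfsgLib.Solvable.Basic.card_quotient_lt _ hH.bot_lt_center.ne'
    obtain ⟨j, hj⟩ := IsPGroup.iff_card.mp (hH.to_quotient (Subgroup.center H))
    rw [Group.nilpotencyClass_eq_quotient_center_plus_one]
    have h1 := ih _ hlt (H ⧸ Subgroup.center H) rfl j hj
    rcases Nat.lt_or_ge j 2 with hj2 | hj2
    · have hcyc : IsCyclic (H ⧸ Subgroup.center H) := by
        interval_cases j
        · haveI : Subsingleton (H ⧸ Subgroup.center H) :=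
            (Nat.card_eq_one_iff_unique.mp (by simpa using hj)).1
          infer_instance
        · exact isCyclic_of_prime_card (by simpa using hj : Nat.card _ = p)
      haveI := hcyc
      haveI := isMulCommutative_of_isCyclic_quotient_center_self (G := H)
      haveI : Subsingleton (H ⧸ Subgroup.center H) := by
        rw [QuotientGroup.subsingleton_iff, Subgroup.center_eq_top]
      rw [Group.nilpotencyClass_zero_iff_subsingleton.mpr inferInstance]
      exact le_max_left _ _
    · have hjk : j < k := by
        have : p ^ j < p ^ k := by rw [← hj, ← hk, hN]; exact hlt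
        exact (Nat.pow_lt_pow_iff_right (Fact.out : p.Prime).one_lt).mp this
      omega


/-- A finite group of prime-power order p ^ m with m > 1 is nilpotent of class at most m - 1. -/
theorem result {G : Type*} [Group G] [Finite G] (p m : ℕ) [Fact p.Prime]
    (hG : Nat.card G = p ^ m) (hm : 1 < m) : Group.nilpotencyClass G ≤ m - 1 := by
  have := class_aux p _ G rfl m hG
  omega

end Cfsg.Agent.S0063
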