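import Cfsg.Statements.S0064
import Cfsg.Agent.Lib.Solvable.Cores
-- import your own Cfsg.Agent.* helpers here

set_option autoImplicit false
open Cfsg

namespace Cfsg.Agent.S0064

/-- A finite group is nilpotent exactly when each of its subgroups is subnormal. -/
theorem result {G : Type*} [Group G] [Finite G] :
    Group.IsNilpotent G ↔ ∀ H : Subgroup G, H.IsSubnormal := by
  constructor
  · intro h H
    induction H using (wellFounded_gt (α := Subgroup G)).induction with
    | _ H ih =>
      by_cases hH : H = ⊤
      · rw [hH]; exact Subgroup.Normal.isSubnormal inferInstance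
      · have hlt : H < Subgroup.normalizer (H : Set G) :=
          Group.normalizerCondition_of_isNilpotent H (lt_top_iff_ne_top.mpr hH)
        exact Subgroup.IsSubnormal.trans hlt.le
          (Subgroup.Normal.isSubnormal Subgroup.normal_in_normalizer) (ih _ hlt)
  · intro h
    refine (Group.isNilpotent_of_finite_tfae.out 0 2).mpr fun M hM => ?_
    obtain h1 | ⟨K, hK, hle, hlt⟩ := (h M).lt_normal
    · exact absurd h1 hM.1
    · rcases eq_or_lt_of_le hle with h2 | h2
      · rwa [h2]
      · exact absurd (hM.2 K h2) hlt.ne

end Cfsg.Agent.S0064
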