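import Cfsg.Statements.S0078
import Cfsg.Agent.Lib.Fusion.Transfer

set_option autoImplicit false
open Cfsg

namespace Cfsg.Agent.S0078

/-- In a p-normal group, a Sylow p-subgroup P meets O^p(G) exactly where it meets O^p(V), for any subgroup V containing the normalizer of the centre of P. -/
theorem result {G : Type*} [Group G] [Finite G] {p : ℕ} [Fact p.Prime] (P : Sylow p G) (hn : ∀ Q : Sylow p G, (P : Subgroup G) ⊓ Subgroup.centralizer (P : Set G) ≤ (Q : Subgroup G) → (Q : Subgroup G) ⊓ Subgroup.centralizer (Q : Set G) = (P : Subgroup G) ⊓ Subgroup.centralizer (P : Set G)) (V : Subgroup G) (hV : Subgroup.normalizer (((P : Subgroup G) ⊓ Subgroup.centralizer (P : Set G) : Subgroup G) : Set G) ≤ V) : (P : Subgroup G) ⊓ Cfsg.pResidual p G = (P : Subgroup G) ⊓ (Cfsg.pResidual p V).map V.subtype := by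
  set Z : Subgroup G := (P : Subgroup G) ⊓ Subgroup.centralizer (P : Set G) with hZdef
  have hW : Cfsg.IsWeaklyClosed Z P := by
    refine ⟨inf_le_left, fun g hg => ?_⟩
    obtain ⟨Q, hQ⟩ : ∃ Q : Sylow p G, Q = g⁻¹ • P := ⟨_, rfl⟩
    have hmem : ∀ x, x ∈ (Q : Subgroup G) ↔ g * x * g⁻¹ ∈ (P : Subgroup G) := by
      intro x
      subst hQ
      rw [Sylow.coe_subgroup_smul, Subgroup.mem_pointwise_smul_iff_inv_smul_mem, MulAut.smul_def]
      simp [mul_assoc]
    have h1 : Z ≤ (Q : Subgroup G) := fun z hz => (hmem z).mpr (hg ⟨z, hz, rfl⟩)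
    have h2 := hn Q h1
    ext w
    simp only [Subgroup.mem_map, MulEquiv.coe_toMonoidHom, MulAut.conj_apply]
    constructor
    · rintro ⟨z, hz, rfl⟩
      have hz' : z ∈ (Q : Subgroup G) ⊓ Subgroup.centralizer (Q : Set G) := by rw [h2]; exact hz
      refine ⟨(hmem z).mp hz'.1, fun u hu => ?_⟩
      have h3 : g⁻¹ * u * g ∈ (Q : Subgroup G) := (hmem _).mpr (by rw [show g * (g⁻¹ * u * g) * g⁻¹ = u by group]; exact hu)
      have h4 := hz'.2 _ h3
      have := congrArg (fun t => g * t * g⁻¹) h4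
      simpa [mul_assoc] using this
    · intro hw
      refine ⟨g⁻¹ * w * g, ?_, by group⟩
      show g⁻¹ * w * g ∈ Z
      rw [← h2]
      refine ⟨(hmem _).mpr (by rw [show g * (g⁻¹ * w * g) * g⁻¹ = w by group]; exact hw.1), fun u hu => ?_⟩
      have h4 := hw.2 _ ((hmem u).mp hu)
      have := congrArg (fun t => g⁻¹ * t * g) h4
      simpa [mul_assoc] using this
  obtain ⟨h1, h2⟩ := CfsgLib.Fusion.Transfer.controls_of_weaklyClosed P inf_le_right hW
  exact CfsgLib.Fusion.Transfer.inf_pResidual_eq_of_controls P (h1.trans hV)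
    (fun x hx g hg => let ⟨n, hn', he⟩ := h2 x hx g hg; ⟨n, hV hn', he⟩)

end Cfsg.Agent.S0078
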