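import Cfsg.Statements.S0079
import Cfsg.Agent.Lib.Fusion.Abelian

set_option autoImplicit false
open Cfsg

namespace Cfsg.Agent.S0079

/-- A nilpotent Hall subgroup has a normal complement exactly when elements of it that are conjugate in the whole group are already conjugate inside it. -/
theorem result {G : Type*} [Group G] [Finite G] (H : Subgroup G) (hH : Group.IsNilpotent H) (hHall : Nat.Coprime (Nat.card H) H.index) : (∃ N : Subgroup G, N.Normal ∧ N.IsComplement' H) ↔ ∀ x ∈ H, ∀ y ∈ H, (∃ g : G, g * x * g⁻¹ = y) → ∃ h ∈ H, h * x * h⁻¹ = y := by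
  refine ⟨?_, CfsgLib.Fusion.Abelian.exists_complement_of_controls H hH hHall⟩
  rintro ⟨N, hN, hC⟩ x hx y hy ⟨g, hg⟩
  obtain ⟨⟨n, h⟩, he⟩ := hC.2 g
  refine ⟨h, h.2, ?_⟩
  have h1 : y * ((h : G) * x * (h : G)⁻¹)⁻¹ ∈ N := by
    rw [← hg, ← show (n : G) * h = g from he,
      show (n : G) * h * x * ((n : G) * h)⁻¹ * ((h : G) * x * (h : G)⁻¹)⁻¹ =
        (n : G) * (((h : G) * x * (h : G)⁻¹) * (n : G)⁻¹ * ((h : G) * x * (h : G)⁻¹)⁻¹) by group]
    exact mul_mem n.2 (hN.conj_mem _ (inv_mem n.2) _)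
  have h2 : y * ((h : G) * x * (h : G)⁻¹)⁻¹ ∈ N ⊓ H :=
    ⟨h1, H.mul_mem hy (H.inv_mem (H.mul_mem (H.mul_mem h.2 hx) (H.inv_mem h.2)))⟩
  rw [hC.disjoint.eq_bot, Subgroup.mem_bot, mul_inv_eq_one] at h2
  exact h2.symm


end Cfsg.Agent.S0079
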