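import Cfsg.Statements.S0082
import Cfsg.Agent.Lib.Fusion.Tate

set_option autoImplicit false
open Cfsg

namespace Cfsg.Agent.S0082

/-- With a cyclic Sylow p-subgroup, either there is a normal p-complement or the elements of order prime to p generate the whole group. -/
theorem result {G : Type*} [Group G] [Finite G] {p : ℕ} [Fact p.Prime] (P : Sylow p G) (hP : IsCyclic P) : Cfsg.HasNormalPComplement p G ∨ Cfsg.pResidual p G = ⊤ := by
  set O := Cfsg.pResidual p G
  by_cases hle : ((P : Subgroup G) ⊓ O) ≤ (frattini P).map (P : Subgroup G).subtype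
  · exact Or.inl (CfsgLib.Fusion.Tate.npc_of_inf_pResidual_le_frattini P hle)
  right
  -- in a cyclic group, an element outside the Frattini subgroup generates
  obtain ⟨x, hx, hxF⟩ := SetLike.not_le_iff_exists.mp hle
  let x' : P := ⟨x, hx.1⟩
  have hxF' : x' ∉ frattini P := fun h => hxF ⟨x', h, rfl⟩
  have hgen : Subgroup.zpowers x' = ⊤ := by
    obtain ⟨a, ha⟩ := IsCyclic.exists_generator (α := P)
    obtain ⟨e, he⟩ := P.2 a
    obtain ⟨k, hk : a ^ k = x'⟩ := mem_powers_iff_mem_zpowers.mpr (ha x')
    by_cases hpk : p ∣ k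
    · refine absurd ?_ hxF'
      obtain ⟨k', rfl⟩ := hpk
      rw [← hk, pow_mul]
      refine Subgroup.pow_mem _ ?_ k'
      -- `a ^ p` lies in every maximal subgroup
      rw [frattini, Order.radical]
      simp only [Subgroup.mem_iInf]
      intro M hM
      by_contra hmem
      have : M.Normal := by
        refine ⟨fun m hm g => ?_⟩
        obtain ⟨i, rfl⟩ := Subgroup.mem_zpowers_iff.mp (ha m)
        obtain ⟨j, rfl⟩ := Subgroup.mem_zpowers_iff.mp (ha g)
        rw [← zpow_neg, ← zpow_add, ← zpow_add]
        rwa [show j + i + -j = i by ring]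
      have htop : Subgroup.zpowers (a ^ p) ⊔ M = ⊤ :=
        hM.2 _ (lt_of_le_of_ne le_sup_right
          (fun h => hmem (h ▸ Subgroup.mem_sup_left (Subgroup.mem_zpowers _))))
      set q := QuotientGroup.mk' M with hq
      have hmem' : q a ∈ (Subgroup.zpowers (a ^ p) ⊔ M).map q :=
        Subgroup.mem_map_of_mem _ (htop ▸ Subgroup.mem_top a)
      rw [Subgroup.map_sup, QuotientGroup.map_mk'_self, sup_bot_eq, MonoidHom.map_zpowers,
        map_pow] at hmem'
      obtain ⟨j, hj : (q a ^ p) ^ j = q a⟩ := mem_powers_iff_mem_zpowers.mpr hmem'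
      have hiter : ∀ n, q a = q a ^ ((p * j) ^ n) := by
        intro n
        induction n with
        | zero => simp
        | succ n ih =>
          rw [pow_succ (p * j), pow_mul, ← ih, pow_mul]
          exact hj.symm
      have h1 : q a = 1 := by
        rw [hiter e, mul_pow, pow_mul, ← map_pow, he, map_one, one_pow]
      refine hM.1 (eq_top_iff.mpr fun y _ => ?_)
      obtain ⟨i, rfl⟩ := Subgroup.mem_zpowers_iff.mp (ha y)
      exact zpow_mem ((QuotientGroup.eq_one_iff a).mp h1) i
    · rw [eq_top_iff]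
      intro y _
      have hco : k.Coprime (orderOf a) :=
        Nat.Coprime.coprime_dvd_right (orderOf_dvd_of_pow_eq_one he)
          (((Fact.out : p.Prime).coprime_iff_not_dvd.mpr hpk).symm.pow_right e)
      obtain ⟨m, hm⟩ := exists_pow_eq_self_of_coprime hco
      rw [hk] at hm
      obtain ⟨i, rfl⟩ := Subgroup.mem_zpowers_iff.mp (ha y)
      rw [← hm]
      exact zpow_mem (Subgroup.npow_mem_zpowers x' m) i
  rw [← CfsgLib.Fusion.Basic.pResidual_sup_sylow P, eq_comm, sup_eq_left]
  intro u hu
  obtain ⟨k, hk⟩ := Subgroup.mem_zpowers_iff.mp (hgen ▸ Subgroup.mem_top (⟨u, hu⟩ : P))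
  have : (x : G) ^ k = u := by simpa [x'] using congrArg Subtype.val hk
  rw [← this]
  exact zpow_mem (K := O) hx.2 k

end Cfsg.Agent.S0082
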