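import Cfsg.Statements.S0083
import Cfsg.Agent.Lib.Fusion.Abelian

set_option autoImplicit false
open Cfsg

namespace Cfsg.Agent.S0083

/-- For an abelian Sylow p-subgroup P, a normal p-complement exists exactly when the normalizer of P is an internal direct product of P with some subgroup. -/
theorem result {G : Type*} [Group G] [Finite G] {p : ℕ} [Fact p.Prime] (P : Sylow p G) (hP : IsMulCommutative P) : Cfsg.HasNormalPComplement p G ↔ ∃ Q : Subgroup G, Q ≤ Subgroup.centralizer (P : Set G) ∧ Q ⊓ (P : Subgroup G) = ⊥ ∧ Q ⊔ (P : Subgroup G) = Subgroup.normalizer (P : Set G) := by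
  constructor
  · intro h
    have hPN : (P : Subgroup G) ≤ Subgroup.normalizer (P : Set G) := Subgroup.le_normalizer
    refine ⟨(Cfsg.pResidual p (Subgroup.normalizer (P : Set G))).map (Subgroup.normalizer (P : Set G)).subtype, ?_, ?_, ?_⟩
    · rintro _ ⟨w, hw, rfl⟩ u hu
      -- `[u, w]` lies in the Sylow subgroup and in the complement
      have hwO : (w : G) ∈ Cfsg.pResidual p G :=
        CfsgLib.Fusion.Basic.pResidual_map_subtype_le _ ⟨w, hw, rfl⟩
      have h1 : (u * (w : G) * u⁻¹ * (w : G)⁻¹) ∈ (P : Subgroup G) ⊓ Cfsg.pResidual p G := by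
        refine ⟨?_, (Cfsg.pResidual p G).mul_mem (CfsgLib.Fusion.Basic.pResidual_normal.conj_mem _ hwO u) ((Cfsg.pResidual p G).inv_mem hwO)⟩
        rw [mul_assoc, mul_assoc, ← mul_assoc (w : G)]
        exact (P : Subgroup G).mul_mem hu ((Subgroup.mem_normalizer_iff.mp w.2 _).mp ((P : Subgroup G).inv_mem hu))
      rw [(CfsgLib.Fusion.Basic.npc_iff_inf P).mp h, Subgroup.mem_bot, mul_inv_eq_one, mul_inv_eq_iff_eq_mul] at h1
      exact h1
    · rw [eq_bot_iff, ← (CfsgLib.Fusion.Basic.npc_iff_inf P).mp h, inf_comm]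
      exact inf_le_inf_left _ (CfsgLib.Fusion.Basic.pResidual_map_subtype_le _)
    · have h2 := congrArg (Subgroup.map (Subgroup.normalizer (P : Set G)).subtype)
        (CfsgLib.Fusion.Basic.pResidual_sup_sylow (P.subtype hPN))
      rw [Subgroup.map_sup, CfsgLib.Fusion.Transfer.map_sylow_subtype P hPN, ← MonoidHom.range_eq_map,
        Subgroup.range_subtype] at h2
      exact h2
  · rintro ⟨Q, hQ, -, h2⟩
    refine CfsgLib.Fusion.Abelian.npc_of_normalizer_le_centralizer P ?_
    rw [← h2]
    exact sup_le hQ (Subgroup.le_centralizer (P : Subgroup G))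


end Cfsg.Agent.S0083
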