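import Cfsg.Statements.S0084
import Cfsg.Agent.Lib.Fusion.Abelian

set_option autoImplicit false
open Cfsg

namespace Cfsg.Agent.S0084

/-- A group whose Sylow 2-subgroups are Klein four-groups and whose order is prime to 3 has a normal 2-complement. -/
theorem result {G : Type*} [Group G] [Finite G] (T : Sylow 2 G) (hT : IsKleinFour T) (h3 : ¬ 3 ∣ Nat.card G) : Cfsg.HasNormalPComplement 2 G := by
  have hab : IsMulCommutative T := by
    haveI := hT
    have := IsKleinFour.exponent_two (G := T)
    exact IsMulCommutative.of_comm fun a b => mul_comm_of_exponent_two this a b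
  refine CfsgLib.Fusion.Abelian.npc_of_arith T hab fun q hq hqG hq2 d hd hdlt hdiv => ?_
  rw [hT.card_four] at hd hdlt hdiv
  have hd' : d = 1 ∨ d = 2 := by
    have := Nat.le_of_dvd (by norm_num) hd
    interval_cases d <;> simp_all
  rcases hd' with rfl | rfl
  · exact h3 ((Nat.prime_dvd_prime_iff_eq hq Nat.prime_three).mp hdiv ▸ hqG)
  · exact hq2 ((Nat.prime_dvd_prime_iff_eq hq Nat.prime_two).mp hdiv)


end Cfsg.Agent.S0084
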