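import Cfsg.Statements.S0085
import Cfsg.Agent.Lib.Fusion.Abelian

set_option autoImplicit false
open Cfsg

namespace Cfsg.Agent.S0085

/-- A group whose Sylow 2-subgroups are elementary abelian of order 8 and whose order is prime to 3 and to 7 has a normal 2-complement. -/
theorem result {G : Type*} [Group G] [Finite G] (T : Sylow 2 G) (h8 : Nat.card T = 8) (he : ∀ x : T, x * x = 1) (h3 : ¬ 3 ∣ Nat.card G) (h7 : ¬ 7 ∣ Nat.card G) : Cfsg.HasNormalPComplement 2 G := by
  have hab : IsMulCommutative T := by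
    refine ⟨⟨fun a b => ?_⟩⟩
    have hinv : ∀ x : T, x⁻¹ = x := fun x => inv_eq_of_mul_eq_one_left (he x)
    calc a * b = (a * b)⁻¹ := (hinv _).symm
      _ = b * a := by rw [mul_inv_rev, hinv, hinv]
  refine CfsgLib.Fusion.Abelian.npc_of_arith T hab fun q hq hqG hq2 d hd hdlt hdiv => ?_
  rw [h8] at hd hdlt hdiv
  have hd' : d = 1 ∨ d = 2 ∨ d = 4 := by
    have := Nat.le_of_dvd (by norm_num) hd
    interval_cases d <;> simp_all
  rcases hd' with rfl | rfl | rfl
  · exact h7 ((Nat.prime_dvd_prime_iff_eq hq (by decide : Nat.Prime 7)).mp hdiv ▸ hqG)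
  · rcases hq.dvd_mul.mp (show q ∣ 2 * 3 from hdiv) with h | h
    · exact hq2 ((Nat.prime_dvd_prime_iff_eq hq Nat.prime_two).mp h)
    · exact h3 ((Nat.prime_dvd_prime_iff_eq hq Nat.prime_three).mp h ▸ hqG)
  · exact hq2 ((Nat.prime_dvd_prime_iff_eq hq Nat.prime_two).mp (hq.dvd_of_dvd_pow (show q ∣ 2 ^ 2 from hdiv)))


end Cfsg.Agent.S0085
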