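import Cfsg.Statements.S0086
import Cfsg.Agent.Lib.Fusion.Basic

set_option autoImplicit false
open Cfsg

namespace Cfsg.Agent.S0086

/-- A normal complement to a Sylow p-subgroup is exactly the set of elements of order prime to p. -/
theorem result {G : Type*} [Group G] [Finite G] {p : ℕ} [Fact p.Prime] (P : Sylow p G) (N : Subgroup G) [N.Normal] (hN : N.IsComplement' (P : Subgroup G)) (x : G) : x ∈ N ↔ Nat.Coprime (orderOf x) p := by
  have hnpc : Cfsg.HasNormalPComplement p G := ⟨P, N, inferInstance, hN⟩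
  rw [← CfsgLib.Fusion.Basic.mem_pResidual_iff hnpc]
  have h1 : Cfsg.pResidual p G ≤ N := by
    obtain ⟨k, hk⟩ := P.2.exists_card_eq
    exact CfsgLib.Fusion.Basic.pResidual_le_of_index_eq_pow (hN.symm.index_eq_card.trans hk)
  have h2 : N ≤ Cfsg.pResidual p G := fun g hg =>
    CfsgLib.Fusion.Basic.mem_pResidual_of_coprime (Nat.Coprime.coprime_dvd_left
      (Subgroup.orderOf_dvd_natCard N hg)
      ((Fact.out : p.Prime).coprime_iff_not_dvd.mpr (hN.index_eq_card ▸ P.not_dvd_index)).symm)
  exact ⟨fun h => h2 h, fun h => h1 h⟩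

end Cfsg.Agent.S0086
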