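import Cfsg.Statements.S0087
import Cfsg.Agent.Lib.Fusion.Abelian

set_option autoImplicit false
open Cfsg
open scoped IsMulCommutative

namespace Cfsg.Agent.S0087

/-- A Hall subgroup that is central in its normalizer has a normal complement. -/
theorem result {G : Type*} [Group G] [Finite G] (H : Subgroup G) (hHall : Nat.Coprime (Nat.card H) H.index) (h : Subgroup.normalizer (H : Set G) ≤ Subgroup.centralizer (H : Set G)) : ∃ N : Subgroup G, N.Normal ∧ N.IsComplement' H := by
  have hc : IsMulCommutative H :=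
    ⟨⟨fun a b => Subtype.ext (h (Subgroup.le_normalizer b.2) a a.2)⟩⟩
  refine CfsgLib.Fusion.Abelian.exists_complement_of_controls H
    (by haveI := hc; exact (inferInstance : Group.IsNilpotent H)) hHall fun x hx y hy hxy => ?_
  obtain ⟨g, hg⟩ := hxy
  set C := Subgroup.centralizer ({y} : Set G) with hC
  set H' := H.map (MulAut.conj g).toMonoidHom with hH'
  have hHC : H ≤ C := fun z hz => Subgroup.mem_centralizer_singleton_iff.mpr
    (congrArg Subtype.val (hc.is_comm.comm ⟨z, hz⟩ ⟨y, hy⟩) :)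
  have hH'C : H' ≤ C := by
    rintro _ ⟨z, hz, rfl⟩
    rw [Subgroup.mem_centralizer_singleton_iff]
    subst hg
    have : z * x = x * z := congrArg Subtype.val (hc.is_comm.comm ⟨z, hz⟩ ⟨x, hx⟩)
    show g * z * g⁻¹ * (g * x * g⁻¹) = g * x * g⁻¹ * (g * z * g⁻¹)
    rw [show g * z * g⁻¹ * (g * x * g⁻¹) = g * (z * x) * g⁻¹ by group, this]
    group
  have hc1 : IsMulCommutative (H.subgroupOf C) :=
    ⟨⟨fun a b => Subtype.ext (Subtype.ext
      (congrArg Subtype.val (hc.is_comm.comm ⟨_, a.2⟩ ⟨_, b.2⟩) :))⟩⟩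
  have hc2 : IsMulCommutative (H'.subgroupOf C) := by
    refine ⟨⟨fun a b => Subtype.ext (Subtype.ext ?_)⟩⟩
    obtain ⟨u, hu, hua⟩ := a.2
    obtain ⟨v, hv, hvb⟩ := b.2
    have huv : u * v = v * u := congrArg Subtype.val (hc.is_comm.comm ⟨u, hu⟩ ⟨v, hv⟩)
    show ((a : C) : G) * ((b : C) : G) = ((b : C) : G) * ((a : C) : G)
    rw [show ((a : C) : G) = (MulAut.conj g).toMonoidHom u from hua.symm,
      show ((b : C) : G) = (MulAut.conj g).toMonoidHom v from hvb.symm, ← map_mul, huv, map_mul]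
  have hcard : Nat.card (H'.subgroupOf C) = Nat.card (H.subgroupOf C) := by
    rw [Nat.card_congr (Subgroup.subgroupOfEquivOfLe hH'C).toEquiv,
      Nat.card_congr (Subgroup.subgroupOfEquivOfLe hHC).toEquiv, hH',
      Subgroup.card_map_of_injective (MulAut.conj g).injective]
  have hHall' : Nat.Coprime (Nat.card (H.subgroupOf C)) (H.subgroupOf C).index := by
    rw [Nat.card_congr (Subgroup.subgroupOfEquivOfLe hHC).toEquiv]
    exact hHall.coprime_dvd_right (Subgroup.relIndex_dvd_index_of_le hHC)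
  obtain ⟨c, hcc⟩ := CfsgLib.Fusion.Abelian.conj_of_abelian_hall (H.subgroupOf C) (H'.subgroupOf C)
    hc1 hc2 hHall' hcard
  have hn : g⁻¹ * (c : G) ∈ Subgroup.normalizer (H : Set G) := by
    rw [Subgroup.mem_normalizer_iff]
    intro z
    constructor
    · intro hz
      obtain ⟨w, hw, hwe⟩ := (hcc ⟨z, hHC hz⟩).mp hz
      have hwe' : g * w * g⁻¹ = (c : G) * z * (c : G)⁻¹ := hwe
      have : g⁻¹ * (c : G) * z * (g⁻¹ * (c : G))⁻¹ = w := by
        calc g⁻¹ * (c : G) * z * (g⁻¹ * (c : G))⁻¹ = g⁻¹ * ((c : G) * z * (c : G)⁻¹) * g := by group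
          _ = w := by rw [← hwe']; group
      rw [this]; exact hw
    · intro hz
      have hzC : (c : G) * z * (c : G)⁻¹ ∈ H' := ⟨_, hz, by
        show g * (g⁻¹ * (c : G) * z * (g⁻¹ * (c : G))⁻¹) * g⁻¹ = _
        group⟩
      have hzC' : z ∈ C := by
        have := mul_mem (mul_mem (inv_mem c.2) (hH'C hzC)) c.2
        simpa [mul_assoc] using this
      exact (hcc ⟨z, hzC'⟩).mpr hzC
  refine ⟨1, one_mem _, ?_⟩
  have hx' := h hn x hx
  have hcy : (c : G) * y = y * c := Subgroup.mem_centralizer_singleton_iff.mp c.2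
  -- `g⁻¹ c` centralises `x`, and `c` centralises `y = g x g⁻¹`
  have h1 : (c : G) * x = g * x * g⁻¹ * c := by
    calc (c : G) * x = g * ((g⁻¹ * (c : G)) * x) := by group
      _ = g * (x * (g⁻¹ * (c : G))) := by rw [← hx']
      _ = _ := by group
  rw [one_mul, inv_one, mul_one]
  exact mul_left_cancel (a := (c : G)) (by rw [h1, hg, hcy])


end Cfsg.Agent.S0087
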