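import Cfsg.Statements.S0089
import Cfsg.Agent.Lib.Fusion.Abelian

set_option autoImplicit false
open Cfsg

namespace Cfsg.Agent.S0089

/-- When all Sylow subgroups are abelian, the derived subgroup meets the centre trivially. -/
theorem result {G : Type*} [Group G] [Finite G] (h : ∀ p : ℕ, p.Prime → ∀ P : Sylow p G, IsMulCommutative P) : commutator G ⊓ Subgroup.center G = ⊥ := by
  by_contra hne
  obtain ⟨q, hq, hqd⟩ := Nat.exists_prime_and_dvd (fun h' => hne (Subgroup.eq_bot_of_card_eq _ h'))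
  have := Fact.mk hq
  obtain ⟨z, hz⟩ := exists_prime_orderOf_dvd_card' q hqd
  have hp : IsPGroup q (Subgroup.zpowers (z : G)) :=
    IsPGroup.of_card (n := 1) (by rw [Nat.card_zpowers, Subgroup.orderOf_coe, hz, pow_one])
  obtain ⟨P, hP⟩ := hp.exists_le_sylow
  have h1 : (z : G) ∈ (P : Subgroup G) ⊓ commutator G ⊓ Subgroup.center G :=
    ⟨⟨hP (Subgroup.mem_zpowers _), z.2.1⟩, z.2.2⟩
  rw [CfsgLib.Fusion.Abelian.inf_commutator_inf_center _ (h q hq P) P.card_coprime_index,
    Subgroup.mem_bot] at h1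
  rw [Subtype.ext h1 (a2 := (1 : (commutator G ⊓ Subgroup.center G : Subgroup G))), orderOf_one] at hz
  exact hq.ne_one hz.symm


end Cfsg.Agent.S0089
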