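import Cfsg.Statements.S0091
import Cfsg.Agent.Lib.Fusion.Transfer

set_option autoImplicit false
open Cfsg

namespace Cfsg.Agent.S0091

/-- If a nontrivial Sylow p-subgroup controls its own fusion then it is not contained in the derived subgroup. -/
theorem result {G : Type*} [Group G] [Finite G] {p : ℕ} [Fact p.Prime] (P : Sylow p G) (hp : p ∣ Nat.card G) (h : ∀ x ∈ P, ∀ y ∈ P, (∃ g : G, g * x * g⁻¹ = y) → ∃ z ∈ P, z * x * z⁻¹ = y) : ¬ (P : Subgroup G) ≤ commutator G := by
  intro hle
  have hc : CfsgLib.Fusion.Transfer.Controls (P : Subgroup G) P :=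
    fun x hx g hg => h x hx _ hg ⟨g, rfl⟩
  have h2 := CfsgLib.Fusion.Transfer.commutator_inf_eq_of_controls P le_rfl hc
  rw [inf_eq_right.mpr hle, inf_eq_left.mpr ((Subgroup.map_subtype_commutator _).symm.trans_le (Subgroup.map_subtype_le _))] at h2
  have hnt : Nontrivial P := by
    rw [Subgroup.nontrivial_iff_ne_bot]
    exact P.ne_bot_of_dvd_card hp
  have hnil : Group.IsNilpotent P := P.2.isNilpotent
  have h3 : (⊤ : Subgroup P) ≤ ⊥ := by
    apply CfsgLib.Fusion.Basic.le_of_le_commutator_sup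
    intro x _
    refine Subgroup.mem_sup_left ?_
    have hx : (x : G) ∈ ⁅(P : Subgroup G), (P : Subgroup G)⁆ := h2 ▸ x.2
    rw [← Subgroup.map_subtype_commutator] at hx
    obtain ⟨y, hy, he⟩ := hx
    exact (Subtype.ext he : y = x) ▸ hy
  exact bot_ne_top (top_le_iff.mp h3)

end Cfsg.Agent.S0091
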