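import Cfsg.Statements.S0092
import Cfsg.Agent.Lib.Fusion.Abelian
import Cfsg.Agent.Lib.Coprime.SchurZassenhaus

set_option autoImplicit false
open Cfsg
open scoped commutatorElement

namespace Cfsg.Agent.S0092

/-- If the Sylow p-subgroups of O^p(G) are abelian then G splits over O^p(G). -/
theorem result {G : Type*} [Group G] [Finite G] {p : ℕ} [Fact p.Prime] (h : ∀ Q : Sylow p (Cfsg.pResidual p G), IsMulCommutative Q) : ∃ K : Subgroup G, K.IsComplement' (Cfsg.pResidual p G) := by
  set K := Cfsg.pResidual p G with hK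
  obtain ⟨QK⟩ : Nonempty (Sylow p K) := inferInstance
  have hQc : IsMulCommutative QK := h QK
  set Q := (QK : Subgroup K).map K.subtype with hQdef
  set N := Subgroup.normalizer (Q : Set G) with hN
  have hKN : K ⊔ N = ⊤ := by
    rw [sup_comm]
    exact Sylow.normalizer_sup_eq_top QK
  -- `N_K(Q)`, with its normal Sylow subgroup and a complement
  set M : Subgroup K := Subgroup.normalizer (QK : Set K) with hMdef
  set M' := M.map K.subtype with hM'
  have hQM : (QK : Subgroup K) ≤ M := Subgroup.le_normalizer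
  let A : Subgroup M := (QK : Subgroup K).subgroupOf M
  have hAn : A.Normal := Subgroup.normal_in_normalizer
  have hAh : Nat.Coprime (Nat.card A) A.index := by
    rw [Nat.card_congr (Subgroup.subgroupOfEquivOfLe hQM).toEquiv]
    exact QK.card_coprime_index.coprime_dvd_right (Subgroup.relIndex_dvd_index_of_le hQM)
  obtain ⟨D₀, hD₀⟩ := Subgroup.exists_right_complement'_of_coprime hAh
  have hAc : IsMulCommutative A :=
    ⟨⟨fun a b => Subtype.ext (Subtype.ext
      (congrArg Subtype.val (hQc.is_comm.comm ⟨_, a.2⟩ ⟨_, b.2⟩) :))⟩⟩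
  -- `Q` has trivial centralizer in `D₀`
  have hfix : ∀ a ∈ A, (∀ d ∈ D₀, d * a = a * d) → a = 1 := by
    intro a ha hd
    have hcen : a ∈ Subgroup.center M := by
      rw [Subgroup.mem_center_iff]
      intro x
      obtain ⟨⟨q, d⟩, rfl⟩ := hD₀.2 x
      have h1 : (q : M) * a = a * q := congrArg Subtype.val (hAc.is_comm.comm q ⟨a, ha⟩)
      show (q : M) * (d : M) * a = a * ((q : M) * d)
      rw [mul_assoc, hd d d.2, ← mul_assoc, h1, mul_assoc]
    have hfocal : (a : K) ∈ (QK : Subgroup K).focalSubgroup := by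
      rw [← Subgroup.ker_transferFocal_inf_eq_focalSubgroup QK]
      refine ⟨?_, ha⟩
      have := CfsgLib.Fusion.Basic.pResidual_le_ker (QK : Subgroup K).transferFocal (QK.2.to_quotient _)
      rw [CfsgLib.Fusion.Basic.pResidual_pResidual] at this
      exact this (Subgroup.mem_top _)
    rw [← Subgroup.commutator_inf_eq_focalSubgroup QK,
      CfsgLib.Fusion.Transfer.commutator_inf_eq_of_controls QK hQM
        (CfsgLib.Fusion.Transfer.controls_normalizer_of_comm QK hQc),
      ← Subgroup.map_subtype_commutator] at hfocal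
    obtain ⟨⟨x, hx, hxa⟩, -⟩ := hfocal
    obtain rfl : x = a := Subtype.ext hxa
    have := (CfsgLib.Fusion.Abelian.normal_hall_decomp A hAc hAh).2.1
    exact this.le ⟨⟨hx, ha⟩, hcen, ha⟩
  -- move everything to `G`
  set D := (D₀.map M.subtype).map K.subtype with hD
  set L := Subgroup.normalizer (D : Set G) ⊓ N with hL
  obtain ⟨U₀⟩ : Nonempty (Sylow p L) := inferInstance
  set U := (U₀ : Subgroup L).map L.subtype with hU
  have hDN : D ≤ N := by
    rintro _ ⟨_, ⟨d, hd, rfl⟩, rfl⟩
    exact Subgroup.le_normalizer_map K.subtype ⟨_, d.2, rfl⟩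
  have hcop : (Nat.card Q).Coprime (Nat.card D) := by
    rw [hD, hQdef]
    simp only [Subgroup.card_map_of_injective K.subtype_injective,
      Subgroup.card_map_of_injective M.subtype_injective]
    rw [← Nat.card_congr (Subgroup.subgroupOfEquivOfLe hQM).toEquiv]
    exact hD₀.symm.index_eq_card ▸ hAh
  have hQsol : Group.IsSolvable Q := by
    haveI : Group.IsNilpotent Q := (QK.2.map K.subtype).isNilpotent
    infer_instance
  have hM'eq : ∀ x : G, x ∈ K → x ∈ N → x ∈ Q ⊔ D := by
    intro x hxK hxN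
    have hxM : (⟨x, hxK⟩ : K) ∈ M := by
      have h5 := Subgroup.le_normalizer_comap K.subtype (Subgroup.mem_comap.mpr
        (show K.subtype ⟨x, hxK⟩ ∈ N from hxN))
      rwa [hQdef, Subgroup.comap_map_eq_self_of_injective K.subtype_injective] at h5
    obtain ⟨⟨q, d⟩, hqd⟩ := hD₀.2 ⟨_, hxM⟩
    rw [show x = (((q : M) : K) : G) * (((d : M) : K) : G) from
      (congrArg (fun z : M => ((z : K) : G)) hqd).symm]
    exact Subgroup.mul_mem_sup ⟨_, q.2, rfl⟩ ⟨_, ⟨_, d.2, rfl⟩, rfl⟩
  have hKL : K ⊔ L = ⊤ := by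
    rw [eq_top_iff, ← hKN]
    refine sup_le le_sup_left fun n hn => ?_
    have hn' : n ∈ Subgroup.normalizer (Q : Set G) := hn
    set D' := D.map (MulAut.conj n).toMonoidHom with hD'
    obtain ⟨q, hq, hqD⟩ := CfsgLib.Coprime.exists_conj_eq_of_solvable (N := Q) (H := D') (K := D) hQsol
      (by
        rintro _ ⟨d, hd, rfl⟩
        exact mul_mem (mul_mem hn' (hDN hd)) (inv_mem hn'))
      hDN
      (by
        rintro _ ⟨d, hd, rfl⟩
        refine hM'eq _ (CfsgLib.Fusion.Basic.pResidual_normal.conj_mem d ?_ n) ?_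
        · exact Subgroup.map_subtype_le _ hd
        · exact mul_mem (mul_mem hn (hDN hd)) (inv_mem hn))
      (Subgroup.card_map_of_injective (K := D) (f := (MulAut.conj n).toMonoidHom) (MulAut.conj n).injective)
      (by rw [hD', Subgroup.card_map_of_injective (K := D) (f := (MulAut.conj n).toMonoidHom) (MulAut.conj n).injective]; exact hcop)
    have hqN : q ∈ N := Subgroup.le_normalizer hq
    have hqn : q * n ∈ L := by
      refine ⟨?_, mul_mem hqN hn⟩
      rw [hD', Subgroup.map_map] at hqD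
      refine Subgroup.mem_normalizer_iff.mpr fun z => ?_
      constructor
      · intro hz
        rw [← hqD]
        exact ⟨z, hz, by simp [mul_assoc]⟩
      · intro hz
        rw [← hqD] at hz
        obtain ⟨w, hw, hwe⟩ := hz
        have : w = z := by
          have h6 : q * n * w * (q * n)⁻¹ = q * n * z * (q * n)⁻¹ := by
            rw [← hwe]; simp [mul_assoc]
          exact mul_left_cancel (mul_right_cancel h6)
        exact this ▸ hw
    rw [show n = q⁻¹ * (q * n) by group]
    exact Subgroup.mul_mem_sup (inv_mem (Subgroup.map_subtype_le _ hq)) hqn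
  refine ⟨U, Subgroup.isComplement'_of_disjoint_and_mul_eq_univ ?_ ?_⟩
  · rw [disjoint_iff, eq_bot_iff]
    rintro u ⟨huU, huK⟩
    have huL : u ∈ L := Subgroup.map_subtype_le _ huU
    have hUp : IsPGroup p U := U₀.2.map _
    -- `u` is a `p`-element of `N_K(Q)`, so lies in `Q`
    have huM : (⟨u, huK⟩ : K) ∈ M := by
      have h5 := Subgroup.le_normalizer_comap K.subtype (Subgroup.mem_comap.mpr
        (show K.subtype ⟨u, huK⟩ ∈ N from huL.2))
      rwa [hQdef, Subgroup.comap_map_eq_self_of_injective K.subtype_injective] at h5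
    have hpu : IsPGroup p (Subgroup.zpowers (⟨⟨u, huK⟩, huM⟩ : M)) := by
      obtain ⟨k, hk⟩ := hUp ⟨u, huU⟩
      have hk' : (⟨⟨u, huK⟩, huM⟩ : M) ^ p ^ k = 1 :=
        Subtype.ext (Subtype.ext (by simpa using congrArg Subtype.val hk))
      obtain ⟨i, -, hi⟩ := (Nat.dvd_prime_pow Fact.out).mp (orderOf_dvd_of_pow_eq_one hk')
      exact IsPGroup.of_card (n := i) (by rw [Nat.card_zpowers, hi])
    have huA : (⟨⟨u, huK⟩, huM⟩ : M) ∈ A := by
      have hAs : ¬ p ∣ A.index := fun hd => QK.not_dvd_index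
        (hd.trans (Subgroup.relIndex_dvd_index_of_le hQM))
      have hAp : IsPGroup p A := QK.2.comap_of_injective M.subtype M.subtype_injective
      have h7 : A ⊔ Subgroup.zpowers (⟨⟨u, huK⟩, huM⟩ : M) = A :=
        (hAp.toSylow hAs).3 (hAp.to_sup_of_normal_left hpu) le_sup_left
      exact h7 ▸ Subgroup.mem_sup_right (Subgroup.mem_zpowers _)
    have h8 := hfix _ huA fun d hd => by
      -- `⁅d, u⁆ ∈ D ∩ Q = 1`
      set a : M := ⟨⟨u, huK⟩, huM⟩
      have hdD : (((d : M) : K) : G) ∈ D := ⟨_, ⟨_, hd, rfl⟩, rfl⟩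
      have h9 : a * d * a⁻¹ * d⁻¹ ∈ A ⊓ D₀ := by
        refine ⟨?_, ?_⟩
        · rw [show a * d * a⁻¹ * d⁻¹ = a * (d * a⁻¹ * d⁻¹) by group]
          exact A.mul_mem huA (hAn.conj_mem _ (A.inv_mem huA) d)
        · obtain ⟨_, ⟨w, hw, rfl⟩, hwe⟩ :=
            (Subgroup.mem_normalizer_iff.mp huL.1 _).mp hdD
          refine D₀.mul_mem ?_ (D₀.inv_mem hd)
          have : w = a * d * a⁻¹ := Subtype.ext (Subtype.ext hwe)
          exact this ▸ hw
      rw [hD₀.disjoint.eq_bot, Subgroup.mem_bot, mul_inv_eq_one, mul_inv_eq_iff_eq_mul] at h9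
      exact h9.symm
    simpa using congrArg (fun z : M => ((z : K) : G)) h8
  · rw [← Subgroup.mul_normal]
    suffices U ⊔ K = ⊤ by rw [this]; rfl
    rw [eq_top_iff, ← hKL]
    refine sup_le le_sup_right ?_
    have h1 := congrArg (Subgroup.map L.subtype) (CfsgLib.Fusion.Basic.pResidual_sup_sylow U₀)
    rw [Subgroup.map_sup, ← MonoidHom.range_eq_map, Subgroup.range_subtype] at h1
    rw [← h1]
    exact sup_le (le_trans (CfsgLib.Fusion.Basic.pResidual_map_subtype_le L) le_sup_right) le_sup_left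


end Cfsg.Agent.S0092
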