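import Cfsg.Statements.S0094
import Cfsg.Agent.Lib.PGroup.Frattini

set_option autoImplicit false
open Cfsg
open scoped commutatorElement

namespace Cfsg.Agent.S0094

/-- In a special p-group every central element has order dividing p. -/
theorem result {P : Type*} [Group P] [Finite P] {p : ℕ} [Fact p.Prime] (h : Cfsg.IsSpecial p P) (z : P) (hz : z ∈ Subgroup.center P) : z ^ p = 1 := by
  obtain ⟨hP, hF, hC⟩ := h
  let K : Subgroup P :=
    { carrier := {z | z ∈ Subgroup.center P ∧ z ^ p = 1}
      one_mem' := ⟨one_mem _, one_pow p⟩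
      mul_mem' := fun {a b} ha hb => ⟨mul_mem ha.1 hb.1, by
        rw [Commute.mul_pow (Subgroup.mem_center_iff.mp hb.1 a), ha.2, hb.2, one_mul]⟩
      inv_mem' := fun {a} ha => ⟨inv_mem ha.1, by rw [inv_pow, ha.2, inv_one]⟩ }
  have hle : commutator P ≤ K := by
    rw [commutator_def, Subgroup.commutator_le]
    intro a _ b _
    have hc : ⁅a, b⁆ ∈ Subgroup.center P :=
      hC ▸ Subgroup.commutator_mem_commutator (Subgroup.mem_top a) (Subgroup.mem_top b)
    refine ⟨hc, ?_⟩
    have hbp : b ^ p ∈ Subgroup.center P := hF ▸ CfsgLib.PGroup.Frattini.pow_mem_frattini hP b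
    have h1 : (a * b * a⁻¹) ^ p = b ^ p := by
      rw [conj_pow, Subgroup.mem_center_iff.mp hbp a, mul_inv_cancel_right]
    rw [show a * b * a⁻¹ = ⁅a, b⁆ * b by rw [commutatorElement_def]; group,
      Commute.mul_pow (Subgroup.mem_center_iff.mp hc b).symm] at h1
    exact mul_eq_right.mp h1
  exact (hle (hC ▸ hz)).2


end Cfsg.Agent.S0094
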