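import Cfsg.Statements.S0095

-- import your own Cfsg.Agent.* helpers here

set_option autoImplicit false
open Cfsg
open scoped commutatorElement

namespace Cfsg.Agent.S0095

/-- The order of an extraspecial p-group is an odd power p^(2n+1) of p with n ≥ 1. -/
theorem result {P : Type*} [Group P] [Finite P] {p : ℕ} [Fact p.Prime] (h : Cfsg.IsExtraspecial p P) : ∃ n : ℕ, 1 ≤ n ∧ Nat.card P = p ^ (2 * n + 1) := by
  obtain ⟨⟨hP, -, hcomm⟩, hZ⟩ := h
  have hp : p.Prime := Fact.out
  have hmem : ∀ g x : P, ⁅g, x⁆ ∈ Subgroup.center P := fun g x =>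
    hcomm ▸ Subgroup.commutator_mem_commutator (Subgroup.mem_top g) (Subgroup.mem_top x)
  -- centralisers of noncentral elements inside a subgroup have index `p`
  have hidx : ∀ (C : Subgroup P) (x : P), (∃ y ∈ C, y * x ≠ x * y) →
      Nat.card C = p * Nat.card (C ⊓ Subgroup.centralizer {x} : Subgroup P) := by
    rintro C x ⟨y, hy, hyx⟩
    let f : C →* Subgroup.center P :=
      { toFun := fun g => ⟨⁅(g : P), x⁆, hmem _ _⟩
        map_one' := Subtype.ext (commutatorElement_one_left _)
        map_mul' := fun g k => Subtype.ext (by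
          show ⁅(g : P) * k, x⁆ = ⁅(g : P), x⁆ * ⁅(k : P), x⁆
          rw [commutatorElement_mul_left_eq_conj_mul, Subgroup.mem_center_iff.1 (hmem (k : P) x) g,
            mul_inv_cancel_right, Subgroup.mem_center_iff.1 (hmem (g : P) x)]) }
    have hker : f.ker = (C ⊓ Subgroup.centralizer {x}).subgroupOf C := by
      ext g
      rw [MonoidHom.mem_ker, Subgroup.mem_subgroupOf, Subgroup.mem_inf]
      constructor
      · intro hg
        have := congrArg Subtype.val hg
        exact ⟨g.2, Subgroup.mem_centralizer_singleton_iff.2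
          (commutatorElement_eq_one_iff_mul_comm.1 this)⟩
      · intro hg
        exact Subtype.ext (commutatorElement_eq_one_iff_mul_comm.2
          (Subgroup.mem_centralizer_singleton_iff.1 hg.2))
    have hr : Nat.card f.range = p := by
      have h1 := Subgroup.card_subgroup_dvd_card f.range
      rw [hZ] at h1
      refine (hp.eq_one_or_self_of_dvd _ h1).resolve_left fun h1 => hyx ?_
      have : f ⟨y, hy⟩ ∈ f.range := ⟨_, rfl⟩
      rw [Subgroup.eq_bot_of_card_eq _ h1, Subgroup.mem_bot] at this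
      exact commutatorElement_eq_one_iff_mul_comm.1 (congrArg Subtype.val this)
    rw [← Subgroup.index_mul_card f.ker, Subgroup.index_ker, hr, hker,
      Nat.card_congr (Subgroup.subgroupOfEquivOfLe inf_le_left).toEquiv]
  have hmax : ∀ (A B : Subgroup P) (x : P), A ≤ B → x ∈ B → x ∉ A →
      Nat.card B = p * Nat.card A → A ⊔ Subgroup.zpowers x = B := by
    intro A B x hAB hxB hxA hc
    have hle : A ⊔ Subgroup.zpowers x ≤ B := sup_le hAB (Subgroup.zpowers_le.2 hxB)
    refine Subgroup.eq_of_le_of_card_ge hle ?_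
    obtain ⟨a, ha⟩ := IsPGroup.iff_card.1 (hP.to_subgroup A)
    obtain ⟨b, hb⟩ := IsPGroup.iff_card.1 (hP.to_subgroup (A ⊔ Subgroup.zpowers x))
    have hlt : Nat.card A < Nat.card (A ⊔ Subgroup.zpowers x : Subgroup P) := by
      refine lt_of_not_ge fun hge => hxA ?_
      rw [Subgroup.eq_of_le_of_card_ge le_sup_left hge]
      exact Subgroup.mem_sup_right (Subgroup.mem_zpowers x)
    rw [ha, hb, Nat.pow_lt_pow_iff_right hp.one_lt] at hlt
    rw [hc, ha, hb, ← pow_succ']
    exact Nat.pow_le_pow_right hp.pos hlt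
  have key : ∀ m, ∀ C : Subgroup P, Nat.card C = m → Subgroup.center P ≤ C →
      (∀ a ∈ C, (∀ c ∈ C, c * a = a * c) → a ∈ Subgroup.center P) →
      ∃ n : ℕ, Nat.card C = p ^ (2 * n + 1) := by
    intro m
    induction m using Nat.strong_induction_on with
    | _ m ih =>
      intro C hm hZC hC
      by_cases hCZ : C ≤ Subgroup.center P
      · exact ⟨0, by rw [le_antisymm hCZ hZC, hZ]; simp⟩
      obtain ⟨x, hxC, hxZ⟩ := SetLike.not_le_iff_exists.1 hCZ
      obtain ⟨y, hyC, hyx⟩ : ∃ y ∈ C, y * x ≠ x * y := by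
        by_contra hcon
        push Not at hcon
        exact hxZ (hC x hxC hcon)
      set C₁ := C ⊓ Subgroup.centralizer {x} with hC₁
      set C₂ := C₁ ⊓ Subgroup.centralizer {y} with hC₂
      have hxC₁ : x ∈ C₁ := ⟨hxC, Subgroup.mem_centralizer_singleton_iff.2 rfl⟩
      have hxC₂ : x ∉ C₂ := fun h => hyx (Subgroup.mem_centralizer_singleton_iff.1 h.2).symm
      have hyC₁ : y ∉ C₁ := fun h => hyx (Subgroup.mem_centralizer_singleton_iff.1 h.2)
      have h1 : Nat.card C = p * Nat.card C₁ := hidx C x ⟨y, hyC, hyx⟩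
      have h2 : Nat.card C₁ = p * Nat.card C₂ := hidx C₁ y ⟨x, hxC₁, Ne.symm hyx⟩
      have e1 := hmax C₂ C₁ x inf_le_left hxC₁ hxC₂ h2
      have e2 := hmax C₁ C y inf_le_left hyC hyC₁ h1
      have hZC₂ : Subgroup.center P ≤ C₂ := le_inf (le_inf hZC
        (Subgroup.center_le_centralizer _)) (Subgroup.center_le_centralizer _)
      have hlt : Nat.card C₂ < m := by
        rw [← hm, h1, h2]
        have := Nat.one_lt_mul_iff.2 ⟨hp.pos, hp.pos, Or.inl hp.one_lt⟩
        rw [← mul_assoc]
        exact lt_mul_left Nat.card_pos this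
      obtain ⟨n, hn⟩ := ih _ hlt C₂ rfl hZC₂ (fun a ha hac => by
        refine hC a ha.1.1 ?_
        have hle : C ≤ Subgroup.centralizer {a} := by
          rw [← e2, ← e1]
          refine sup_le (sup_le (fun c hc => Subgroup.mem_centralizer_singleton_iff.2 (hac c hc))
            (Subgroup.zpowers_le.2 (Subgroup.mem_centralizer_singleton_iff.2 ?_)))
            (Subgroup.zpowers_le.2 (Subgroup.mem_centralizer_singleton_iff.2 ?_))
          · exact (Subgroup.mem_centralizer_singleton_iff.1 ha.1.2).symm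
          · exact (Subgroup.mem_centralizer_singleton_iff.1 ha.2).symm
        exact fun c hc => Subgroup.mem_centralizer_singleton_iff.1 (hle hc))
      exact ⟨n + 1, by rw [h1, h2, hn]; ring⟩
  obtain ⟨n, hn⟩ := key _ ⊤ rfl le_top (fun a _ h => Subgroup.mem_center_iff.2 fun g => h g (Subgroup.mem_top g))
  rw [Subgroup.card_top] at hn
  refine ⟨n, Nat.pos_of_ne_zero fun h0 => ?_, hn⟩
  subst h0
  have htop : Subgroup.center P = ⊤ := Subgroup.eq_top_of_card_eq _ (by rw [hZ, hn]; simp)
  have hcbot : commutator P = ⊥ := (commutator_eq_bot_iff_center_eq_top P).2 htop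
  have := hcomm.symm.trans hcbot
  rw [this, Subgroup.card_bot] at hZ
  exact hp.one_lt.ne hZ

end Cfsg.Agent.S0095
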