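import Cfsg.Statements.S0096
import Cfsg.Agent.Lib.OddOrder.OmegaLemma

set_option autoImplicit false
open Cfsg
open scoped commutatorElement

namespace Cfsg.Agent.S0096

open CfsgLib.OddOrder.OmegaLemma in
theorem mul_pow_eq_one {P : Type*} [Group P] {p : ℕ} [Fact p.Prime] (hp : p ≠ 2)
    (hc : ∀ a b : P, ⁅a, b⁆ ∈ Subgroup.center P) {u v : P} (hu : u ^ p = 1) (hv : v ^ p = 1) :
    (u * v) ^ p = 1 := by
  have hz := Subgroup.mem_center_iff.mp (hc v u)
  have hzp : ⁅v, u⁆ ^ p = 1 := by
    have h1 : (v * u * v⁻¹) ^ p = 1 := by rw [conj_pow, hu, mul_one, mul_inv_cancel]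
    rw [show v * u * v⁻¹ = ⁅v, u⁆ * u by rw [commutatorElement_def]; group,
      Commute.mul_pow (hz u).symm, hu, mul_one] at h1
    exact h1
  rw [mul_pow_central (z := ⁅v, u⁆) (by rw [commutatorElement_def]; group) (hz v).symm (hz u).symm,
    hu, hv, one_mul, mul_one, ← Nat.div_mul_cancel ((Fact.out : p.Prime).dvd_choose_self two_ne_zero
      (lt_of_le_of_ne (Fact.out : p.Prime).two_le (Ne.symm hp))), pow_mul', hzp, one_pow]

/-- For odd p, in a p-group of class at most two the elements of order dividing p generate a subgroup of exponent dividing p. -/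
theorem result {P : Type*} [Group P] [Finite P] {p : ℕ} [Fact p.Prime] (hp : p ≠ 2) (hP : IsPGroup p P) (h2 : ⁅commutator P, (⊤ : Subgroup P)⁆ = ⊥) (g : P) (hg : g ∈ Subgroup.closure {x : P | x ^ p = 1}) : g ^ p = 1 := by
  have hc : ∀ a b : P, ⁅a, b⁆ ∈ Subgroup.center P := fun a b => Subgroup.mem_center_iff.mpr fun c =>
    (commutatorElement_eq_one_iff_mul_comm.mp (Subgroup.mem_bot.mp (h2 ▸
      Subgroup.commutator_mem_commutator
        (Subgroup.commutator_mem_commutator (Subgroup.mem_top a) (Subgroup.mem_top b))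
        (Subgroup.mem_top c)))).symm
  induction hg using Subgroup.closure_induction with
  | mem x hx => exact hx
  | one => exact one_pow p
  | mul x y _ _ hx hy => exact mul_pow_eq_one hp hc hx hy
  | inv x _ hx => rw [inv_pow, hx, inv_one]


end Cfsg.Agent.S0096
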