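import Cfsg.Statements.S0097
import Cfsg.Agent.Lib.OddOrder.OmegaLemma
import Cfsg.Agent.Lib.PGroup.Frattini

set_option autoImplicit false
open Cfsg
open scoped commutatorElement

namespace Cfsg.Agent.S0097

/-- For odd p and E extraspecial, the subgroup generated by the elements of order dividing p has exponent dividing p and index at most p. -/
theorem result {E : Type*} [Group E] [Finite E] {p : ℕ} [Fact p.Prime] (hp : p ≠ 2) (h : Cfsg.IsExtraspecial p E) : (Subgroup.closure {x : E | x ^ p = 1}).index ≤ p ∧ ∀ g ∈ Subgroup.closure {x : E | x ^ p = 1}, g ^ p = 1 := by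
  obtain ⟨⟨hP, hF, hC⟩, hcard⟩ := h
  have hc : ∀ a b : E, ⁅a, b⁆ ∈ Subgroup.center E := fun a b =>
    hC ▸ Subgroup.commutator_mem_commutator (Subgroup.mem_top a) (Subgroup.mem_top b)
  have hFc : ∀ a : E, a ^ p ∈ Subgroup.center E := fun a =>
    hF ▸ CfsgLib.PGroup.Frattini.pow_mem_frattini hP a
  have hodd : p ∣ p.choose 2 := (Fact.out : p.Prime).dvd_choose_self two_ne_zero
    (lt_of_le_of_ne (Fact.out : p.Prime).two_le (Ne.symm hp))
  have hmul : ∀ u v : E, (u * v) ^ p = u ^ p * v ^ p := by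
    intro u v
    have hz := Subgroup.mem_center_iff.mp (hc v u)
    have h1 : (v * u * v⁻¹) ^ p = u ^ p := by
      rw [conj_pow, Subgroup.mem_center_iff.mp (hFc u) v, mul_inv_cancel_right]
    rw [show v * u * v⁻¹ = ⁅v, u⁆ * u by rw [commutatorElement_def]; group,
      Commute.mul_pow (hz u).symm] at h1
    rw [CfsgLib.OddOrder.OmegaLemma.mul_pow_central (z := ⁅v, u⁆)
      (by rw [commutatorElement_def]; group) (hz v).symm (hz u).symm,
      ← Nat.div_mul_cancel hodd, pow_mul', mul_eq_right.mp h1, one_pow, one_mul]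
  let f : E →* E := MonoidHom.mk' (fun x => x ^ p) hmul
  have hker : Subgroup.closure {x : E | x ^ p = 1} = f.ker :=
    le_antisymm ((Subgroup.closure_le _).mpr fun x hx => hx) fun x hx => Subgroup.subset_closure hx
  rw [hker]
  refine ⟨?_, fun g hg => hg⟩
  rw [Subgroup.index_ker, ← hcard]
  refine Subgroup.card_le_of_le ?_
  rintro _ ⟨x, rfl⟩
  exact hFc x


end Cfsg.Agent.S0097
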