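import Cfsg.Statements.S0098
import Cfsg.Agent.Lib.Fusion.SymplecticBasis
-- import your own Cfsg.Agent.* helpers here

set_option autoImplicit false
open Cfsg
open CfsgLib.Fusion

namespace Cfsg.Agent.S0098

/-- For odd p, extraspecial p-groups of exponent p are determined up to isomorphism by their order. -/
theorem result {E₁ : Type*} {E₂ : Type*} [Group E₁] [Group E₂] [Finite E₁] [Finite E₂] {p : ℕ} [Fact p.Prime] (hp : p ≠ 2) (h₁ : Cfsg.IsExtraspecial p E₁) (h₂ : Cfsg.IsExtraspecial p E₂) (he₁ : Monoid.exponent E₁ = p) (he₂ : Monoid.exponent E₂ = p) (hc : Nat.card E₁ = Nat.card E₂) : Nonempty (E₁ ≃* E₂) := by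
  obtain ⟨z₁, hz₁, hn₁⟩ := SymplecticBasis.of_extraspecial h₁
  obtain ⟨z₂, hz₂, hn₂⟩ := SymplecticBasis.of_extraspecial h₂
  obtain ⟨n₁, hb₁⟩ := SymplecticBasis.exists_basis_exponent hz₁
    (fun g => he₁ ▸ Monoid.pow_exponent_eq_one g) ⊤ (Subgroup.mem_top _)
    (fun g _ h => hn₁ g fun k => h k (Subgroup.mem_top k))
  obtain ⟨n₂, hb₂⟩ := SymplecticBasis.exists_basis_exponent hz₂
    (fun g => he₂ ▸ Monoid.pow_exponent_eq_one g) ⊤ (Subgroup.mem_top _)
    (fun g _ h => hn₂ g fun k => h k (Subgroup.mem_top k))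
  obtain ⟨_, _, -, c₁, -⟩ := id hb₁
  obtain ⟨_, _, -, c₂, -⟩ := id hb₂
  rw [Subgroup.card_top] at c₁ c₂
  have hn : 2 * n₁ + 1 = 2 * n₂ + 1 :=
    Nat.pow_right_injective (Fact.out : p.Prime).two_le (c₁.symm.trans (hc.trans c₂))
  obtain rfl : n₁ = n₂ := by omega
  exact SymplecticBasis.nonempty_mulEquiv hz₁ hz₂ hb₁ hb₂

end Cfsg.Agent.S0098
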