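import Cfsg.Statements.S0099
import Cfsg.Agent.Lib.Fusion.SymplecticBasis
-- import your own Cfsg.Agent.* helpers here

set_option autoImplicit false
open Cfsg
open CfsgLib.Fusion

namespace Cfsg.Agent.S0099

/-- Among three extraspecial 2-groups of equal order, some two are isomorphic. -/
theorem result {E₁ : Type*} {E₂ : Type*} {E₃ : Type*} [Group E₁] [Group E₂] [Group E₃] [Finite E₁] [Finite E₂] [Finite E₃] (h₁ : Cfsg.IsExtraspecial 2 E₁) (h₂ : Cfsg.IsExtraspecial 2 E₂) (h₃ : Cfsg.IsExtraspecial 2 E₃) (h12 : Nat.card E₁ = Nat.card E₂) (h23 : Nat.card E₂ = Nat.card E₃) : Nonempty (E₁ ≃* E₂) ∨ Nonempty (E₂ ≃* E₃) ∨ Nonempty (E₁ ≃* E₃) := by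
  haveI : Fact (Nat.Prime 2) := ⟨Nat.prime_two⟩
  obtain ⟨z₁, hz₁, hn₁⟩ := SymplecticBasis.of_extraspecial h₁
  obtain ⟨z₂, hz₂, hn₂⟩ := SymplecticBasis.of_extraspecial h₂
  obtain ⟨z₃, hz₃, hn₃⟩ := SymplecticBasis.of_extraspecial h₃
  obtain ⟨n₁, t₁, hb₁⟩ := SymplecticBasis.exists_basis_two hz₁ ⊤ (Subgroup.mem_top _)
    (fun g _ h => hn₁ g fun k => h k (Subgroup.mem_top k))
  obtain ⟨n₂, t₂, hb₂⟩ := SymplecticBasis.exists_basis_two hz₂ ⊤ (Subgroup.mem_top _)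
    (fun g _ h => hn₂ g fun k => h k (Subgroup.mem_top k))
  obtain ⟨n₃, t₃, hb₃⟩ := SymplecticBasis.exists_basis_two hz₃ ⊤ (Subgroup.mem_top _)
    (fun g _ h => hn₃ g fun k => h k (Subgroup.mem_top k))
  obtain ⟨_, _, -, c₁, -⟩ := id hb₁
  obtain ⟨_, _, -, c₂, -⟩ := id hb₂
  obtain ⟨_, _, -, c₃, -⟩ := id hb₃
  rw [Subgroup.card_top] at c₁ c₂ c₃
  have e12 : 2 * n₁ + 1 = 2 * n₂ + 1 :=
    Nat.pow_right_injective le_rfl (c₁.symm.trans (h12.trans c₂))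
  have e23 : 2 * n₂ + 1 = 2 * n₃ + 1 :=
    Nat.pow_right_injective le_rfl (c₂.symm.trans (h23.trans c₃))
  obtain rfl : n₁ = n₂ := by omega
  obtain rfl : n₁ = n₃ := by omega
  rcases Bool.eq_or_eq_not t₁ t₂ with h | h
  · subst h
    exact Or.inl (SymplecticBasis.nonempty_mulEquiv hz₁ hz₂ hb₁ hb₂)
  · rcases Bool.eq_or_eq_not t₂ t₃ with h' | h'
    · subst h'
      exact Or.inr (Or.inl (SymplecticBasis.nonempty_mulEquiv hz₂ hz₃ hb₂ hb₃))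
    · have h'' : t₁ = t₃ := by rw [h, h', Bool.not_not]
      subst h''
      exact Or.inr (Or.inr (SymplecticBasis.nonempty_mulEquiv hz₁ hz₃ hb₁ hb₃))

end Cfsg.Agent.S0099
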