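import Cfsg.Statements.S0100
import Cfsg.Agent.Lib.OddOrder.SCN3
import Cfsg.Agent.Lib.Fusion.NormalRankTwo
import Cfsg.Agent.Lib.Fusion.Thompson
-- import your own Cfsg.Agent.* helpers here

set_option autoImplicit false
open Cfsg

namespace Cfsg.Agent.S0100

/-- For odd p, a p-group without normal elementary abelian subgroups of order p^3 has p-rank at most 2. -/
theorem result {P : Type*} [Group P] [Finite P] {p : ℕ} [Fact p.Prime] (hp : p ≠ 2) (hP : IsPGroup p P) (h : ∀ A : Subgroup P, A.Normal → IsMulCommutative A → (∀ a ∈ A, a ^ p = 1) → Nat.card A ≠ p ^ 3) (E : Subgroup P) (hE : IsMulCommutative E) (hEe : ∀ e ∈ E, e ^ p = 1) : Nat.card E ≤ p ^ 2 := by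
  by_contra hcon
  push Not at hcon
  obtain ⟨W, -, hWn, hWe, hW3⟩ := CfsgLib.OddOrder.SCN3.exists_normal_isEA hp hP
    (fun hr => absurd (hr E hE hEe) (Nat.not_le.2 hcon)) ⊥ CfsgLib.Fusion.Thompson.isEA_bot
  haveI := hWn
  obtain ⟨M, hMn, hMW, hM⟩ := CfsgLib.Fusion.NormalRankTwo.exists_normal_card hP (N := W) hW3
  exact h M hMn (CfsgLib.Solvable.Basic.isMulCommutative_subgroup_iff.2 fun a ha b hb =>
    CfsgLib.Solvable.Basic.isMulCommutative_subgroup_iff.1 hWe.1 a (hMW ha) b (hMW hb))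
    (fun a ha => hWe.2 a (hMW ha)) hM

end Cfsg.Agent.S0100
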