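import Cfsg.Statements.S0101
import Cfsg.Agent.Lib.Fusion.Abelian

set_option autoImplicit false
open Cfsg

namespace Cfsg.Agent.S0101

/-- In a perfect central extension, the kernel meets each Sylow p-subgroup P inside the Frattini subgroup of P. -/
theorem result {H : Type*} {G : Type*} [Group H] [Group G] [Finite H] (σ : H →* G) (hσ : Function.Surjective σ) (hc : σ.ker ≤ Subgroup.center H) (hH : commutator H = ⊤) {p : ℕ} [Fact p.Prime] (P : Sylow p H) : σ.ker ⊓ (P : Subgroup H) ≤ (frattini P).map (P : Subgroup H).subtype := by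
  rintro z ⟨hzk, hzP⟩
  refine ⟨⟨z, hzP⟩, ?_, rfl⟩
  change (⟨z, hzP⟩ : (P : Subgroup H)) ∈ frattini (P : Subgroup H)
  rw [frattini, Order.radical]
  simp only [Subgroup.mem_iInf]
  intro M hM
  have hnil : Group.IsNilpotent P := P.2.isNilpotent
  have hMn : M.Normal := Subgroup.NormalizerCondition.normal_of_coatom M
    Group.normalizerCondition_of_isNilpotent hM
  have hprime : Fact (Nat.Prime p) := inferInstance
  have : Nontrivial (P ⧸ M) := by
    obtain ⟨a, ha⟩ : ∃ a, a ∉ M := by
      by_contra hc'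
      simp only [not_exists, not_not] at hc'
      exact hM.1 ((Subgroup.eq_top_iff' M).mpr hc')
    exact ⟨⟨QuotientGroup.mk' M a, 1, fun h => ha ((QuotientGroup.eq_one_iff a).mp h)⟩⟩
  have hsimple : IsSimpleGroup (P ⧸ M) := by
    refine ⟨fun N _ => ?_⟩
    have hle : M ≤ N.comap (QuotientGroup.mk' M) := by
      intro m hm
      rw [Subgroup.mem_comap, show QuotientGroup.mk' M m = 1 from (QuotientGroup.eq_one_iff m).mpr hm]
      exact one_mem N
    have hsurj := QuotientGroup.mk'_surjective M
    rcases eq_or_lt_of_le hle with h | h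
    · left
      rw [← Subgroup.map_comap_eq_self_of_surjective hsurj N, ← h, QuotientGroup.map_mk'_self]
    · right
      rw [← Subgroup.map_comap_eq_self_of_surjective hsurj N, hM.2 _ h,
        Subgroup.map_top_of_surjective _ hsurj]
  have hq : IsPGroup p (P ⧸ M) := P.2.to_quotient M
  have hnilq : Group.IsNilpotent (P ⧸ M) := hq.isNilpotent
  have h1 := CfsgLib.Fusion.Transfer.transfer_eq_pow_of_central (QuotientGroup.mk' M)
    (x := (⟨z, hzP⟩ : P)) (hc hzk)
  have h2 : z ∈ (MonoidHom.transfer (QuotientGroup.mk' M)).ker :=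
    Abelianization.commutator_subset_ker _ (hH ▸ Subgroup.mem_top z)
  rw [MonoidHom.mem_ker.mp h2] at h1
  have h3 : QuotientGroup.mk' M ⟨z, hzP⟩ = 1 :=
    CfsgLib.Fusion.Basic.eq_one_of_isPGroup_of_coprime hq
      (Nat.Coprime.coprime_dvd_left (orderOf_dvd_of_pow_eq_one h1.symm)
        ((Fact.out : p.Prime).coprime_iff_not_dvd.mpr P.not_dvd_index).symm)
  exact (QuotientGroup.eq_one_iff _).mp h3


end Cfsg.Agent.S0101
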