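import Cfsg.Statements.S0103
import Cfsg.Agent.Lib.Fusion.Transfer

set_option autoImplicit false
open Cfsg

namespace Cfsg.Agent.S0103

/-- If a Sylow p-subgroup P intersects every distinct conjugate trivially, then its normalizer controls fusion in P. -/
theorem result {G : Type*} [Group G] [Finite G] {p : ℕ} [Fact p.Prime] (P : Sylow p G) (hTI : ∀ g : G, (P : Subgroup G).map (MulAut.conj g).toMonoidHom ≠ (P : Subgroup G) → (P : Subgroup G) ⊓ (P : Subgroup G).map (MulAut.conj g).toMonoidHom = ⊥) (x y : G) (hx : x ∈ P) (hy : y ∈ P) (hc : ∃ g : G, g * x * g⁻¹ = y) : ∃ n ∈ Subgroup.normalizer (P : Set G), n * x * n⁻¹ = y := by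
  obtain ⟨g, hg⟩ := hc
  by_cases hgN : (P : Subgroup G).map (MulAut.conj g).toMonoidHom = P
  · refine ⟨g, ?_, hg⟩
    change g ∈ Subgroup.normalizer ((P : Subgroup G) : Set G)
    rw [Subgroup.mem_normalizer_iff]
    intro u
    constructor
    · intro hu
      rw [← hgN]
      exact ⟨u, hu, rfl⟩
    · intro hu
      rw [← hgN] at hu
      obtain ⟨v, hv, he⟩ := hu
      have : v = u := by simpa using he
      exact this ▸ hv
  · have hy' : y ∈ (P : Subgroup G) ⊓ (P : Subgroup G).map (MulAut.conj g).toMonoidHom :=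
      ⟨hy, ⟨x, hx, hg⟩⟩
    rw [hTI g hgN, Subgroup.mem_bot] at hy'
    refine ⟨1, one_mem _, ?_⟩
    subst hy'
    simpa using hg

end Cfsg.Agent.S0103
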