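import Cfsg.Statements.S0104
import Cfsg.Agent.Lib.Fusion.Alperin
import Cfsg.Agent.Lib.Coprime.SchurZassenhaus

set_option autoImplicit false
open Cfsg
open scoped commutatorElement

namespace Cfsg.Agent.S0104

/-- A subgroup Z of a Sylow p-subgroup P that is normalized by N_G(P) is weakly closed in P exactly when it is normal in every Sylow p-subgroup containing it. -/
theorem result {G : Type*} [Group G] [Finite G] {p : ℕ} [Fact p.Prime] (P : Sylow p G) (Z : Subgroup G) (hZP : Z ≤ (P : Subgroup G)) (hZN : Subgroup.normalizer (P : Set G) ≤ Subgroup.normalizer (Z : Set G)) : Cfsg.IsWeaklyClosed Z P ↔ ∀ R : Sylow p G, Z ≤ (R : Subgroup G) → (R : Subgroup G) ≤ Subgroup.normalizer (Z : Set G) := by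
  have hPZ : (P : Subgroup G) ≤ Subgroup.normalizer (Z : Set G) :=
    (Subgroup.le_normalizer (H := (P : Subgroup G))).trans hZN
  constructor
  · intro hW R hR
    obtain ⟨g, rfl⟩ := MulAction.exists_smul_eq G P R
    have h1 : Z.map (MulAut.conj g⁻¹).toMonoidHom ≤ (P : Subgroup G) := by
      rintro _ ⟨z, hz, rfl⟩
      obtain ⟨u, hu, hue⟩ := hR hz
      subst hue
      show g⁻¹ * (g * u * g⁻¹) * g⁻¹⁻¹ ∈ (P : Subgroup G)
      rw [show g⁻¹ * (g * u * g⁻¹) * g⁻¹⁻¹ = u by group]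
      exact hu
    have h2 : g⁻¹ ∈ Subgroup.normalizer (Z : Set G) := by
      rw [Subgroup.mem_normalizer_iff]
      intro z
      conv_rhs => rw [← hW.2 g⁻¹ h1]
      exact ⟨fun hz => ⟨z, hz, rfl⟩, fun ⟨w, hw, he⟩ => by
        have : w = z := (MulAut.conj g⁻¹).injective he
        exact this ▸ hw⟩
    rintro _ ⟨u, hu, rfl⟩
    show g * u * g⁻¹ ∈ Subgroup.normalizer (Z : Set G)
    have hg : g ∈ Subgroup.normalizer (Z : Set G) := by simpa using inv_mem h2
    exact mul_mem (mul_mem hg (hPZ hu)) h2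
  · intro h
    refine ⟨hZP, fun g hg => ?_⟩
    -- `g⁻¹ P g` contains `Z`, hence normalises it
    have hR : Z ≤ ((g⁻¹ • P : Sylow p G) : Subgroup G) := fun z hz =>
      ⟨g * z * g⁻¹, hg ⟨z, hz, rfl⟩, by
        show g⁻¹ * (g * z * g⁻¹) * g⁻¹⁻¹ = z
        group⟩
    obtain ⟨c, hc, hcn⟩ := CfsgLib.Fusion.Transfer.exists_mem_mul_mem_normalizer P
      (Subgroup.normalizer (Z : Set G)) g⁻¹ hPZ
      (fun u hu => h _ hR ⟨u, hu, rfl⟩)
    have hg' : g⁻¹ ∈ Subgroup.normalizer (Z : Set G) := by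
      simpa using mul_mem (inv_mem hc) (hZN hcn)
    exact CfsgLib.Coprime.conj_map_eq_self_of_mem_normalizer (by simpa using inv_mem hg')


end Cfsg.Agent.S0104
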