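import Cfsg.Statements.S0105
import Cfsg.Agent.Lib.Fusion.Abelian

set_option autoImplicit false
open Cfsg

namespace Cfsg.Agent.S0105

/-- With an abelian Sylow p-subgroup P, some quotient of G is isomorphic to the part of P central in N_G(P). -/
theorem result {G : Type*} [Group G] [Finite G] {p : ℕ} [Fact p.Prime] (P : Sylow p G) (hP : IsMulCommutative P) : ∃ (N : Subgroup G) (hN : N.Normal), Nonempty (G ⧸ N ≃* ((P : Subgroup G) ⊓ Subgroup.centralizer (Subgroup.normalizer (P : Set G) : Set G) : Subgroup G)) := by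
  have hco : Nat.Coprime (P : Subgroup G).index
      ((⁅(P : Subgroup G), (P : Subgroup G)⁆).relIndex (P : Subgroup G)) :=
    (P.card_coprime_index.coprime_dvd_left (Subgroup.relIndex_dvd_card _ _)).symm
  refine ⟨(P : Subgroup G).transferFocal.ker, inferInstance, ?_⟩
  set K := Subgroup.normalizer (P : Set G) with hK
  have hPK : (P : Subgroup G) ≤ K := Subgroup.le_normalizer
  let A := (P : Subgroup G).subgroupOf K
  have hAc : IsMulCommutative A :=
    ⟨⟨fun a b => Subtype.ext (Subtype.ext
      (congrArg Subtype.val (hP.is_comm.comm ⟨_, a.2⟩ ⟨_, b.2⟩) :))⟩⟩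
  have hAn : A.Normal := Subgroup.normal_in_normalizer
  have hAh : Nat.Coprime (Nat.card A) A.index := by
    rw [Nat.card_congr (Subgroup.subgroupOfEquivOfLe hPK).toEquiv]
    exact P.card_coprime_index.coprime_dvd_right (Subgroup.relIndex_dvd_index_of_le hPK)
  obtain ⟨-, hbot, htop⟩ := CfsgLib.Fusion.Abelian.normal_hall_decomp A hAc hAh
  set Z : Subgroup G := (P : Subgroup G) ⊓ Subgroup.centralizer (K : Set G) with hZ
  have hfoc : (P : Subgroup G).focalSubgroup = (commutator K ⊓ A).map K.subtype := by
    rw [← Subgroup.commutator_inf_eq_focalSubgroup P,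
      CfsgLib.Fusion.Transfer.commutator_inf_eq_of_controls P hPK
        (CfsgLib.Fusion.Transfer.controls_normalizer_of_comm P hP),
      Subgroup.map_inf _ _ _ K.subtype_injective, Subgroup.map_subtype_commutator,
      Subgroup.map_subgroupOf_eq_of_le hPK]
  let F : Z →* (P : Subgroup G) ⧸ (P : Subgroup G).focalSubgroupOf :=
    (QuotientGroup.mk' _).comp (Subgroup.inclusion inf_le_left)
  have hF : Function.Bijective F := by
    constructor
    · rw [injective_iff_map_eq_one]
      intro x hx
      have h1 : (x : G) ∈ (P : Subgroup G).focalSubgroup := (QuotientGroup.eq_one_iff (N := (P : Subgroup G).focalSubgroupOf) (Subgroup.inclusion inf_le_left x)).mp hx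
      rw [hfoc] at h1
      obtain ⟨k, hk, hkx⟩ := h1
      have h2 : k ∈ (commutator K ⊓ A) ⊓ (Subgroup.center K ⊓ A) := by
        refine ⟨hk, Subgroup.mem_center_iff.mpr fun l => Subtype.ext ?_, hk.2⟩
        show (l : G) * (k : G) = (k : G) * (l : G)
        rw [show (k : G) = x from hkx]
        exact x.2.2 l l.2
      rw [hbot, Subgroup.mem_bot] at h2
      refine Subtype.ext ?_
      rw [← show (k : G) = x from hkx, h2]
      rfl
    · intro q
      induction q using QuotientGroup.induction_on with
      | H u =>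
        have hu : (⟨u, hPK u.2⟩ : K) ∈ ((commutator K ⊓ A) ⊔ (Subgroup.center K ⊓ A) : Subgroup K) := by
          rw [htop]; exact u.2
        have : (commutator K ⊓ A).Normal := inferInstance
        have hu' : (⟨u, hPK u.2⟩ : K) ∈
            (((commutator K ⊓ A) ⊔ (Subgroup.center K ⊓ A) : Subgroup K) : Set K) := hu
        rw [Subgroup.normal_mul] at hu'
        obtain ⟨a, ha, b, hb, hab⟩ := Set.mem_mul.mp hu'
        have hbZ : (b : G) ∈ Z :=
          ⟨hb.2, fun l hl => congrArg Subtype.val (Subgroup.mem_center_iff.mp hb.1 ⟨l, hl⟩)⟩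
        refine ⟨⟨b, hbZ⟩, (QuotientGroup.eq).mpr ?_⟩
        show (b : G)⁻¹ * (u : G) ∈ (P : Subgroup G).focalSubgroup
        rw [hfoc]
        refine ⟨b⁻¹ * a * b, ?_, ?_⟩
        · simpa using this.conj_mem a ha b⁻¹
        · show (b : G)⁻¹ * (a : G) * (b : G) = _
          rw [← show (a : G) * (b : G) = (u : G) from congrArg Subtype.val hab, mul_assoc]
  exact ⟨(Subgroup.transferFocal.quotientKerMulEquivQuotientFocalSubroupOf P).trans
    (MulEquiv.ofBijective F hF).symm⟩


end Cfsg.Agent.S0105
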