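import Cfsg.Statements.S0608
import Cfsg.Agent.Lib.Fusion.Thompson
import Cfsg.Agent.Lib.Fusion.Alperin

set_option autoImplicit false
open Cfsg
open scoped commutatorElement

namespace Cfsg.Agent.S0608

/-- With trivial p'-core, Thompson factorizability is equivalent to J(G) centralizing the subgroup generated by all Ω₁(Z(S)), S Sylow. -/
theorem result {G : Type*} [Group G] [Finite G] {p : ℕ} [Fact p.Prime] (hO : Cfsg.pPrimeCore p G = ⊥) : Cfsg.IsThompsonFactorizable p G ↔ Cfsg.thompsonSubgroup p G ≤ Subgroup.centralizer ((⨆ S : Sylow p G, Cfsg.omegaOne p (((S : Subgroup G)) ⊓ Subgroup.centralizer ((S : Subgroup G) : Set G)) : Subgroup G) : Set G) := by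
  set W := fun S : Sylow p G => Cfsg.omegaOne p ((S : Subgroup G) ⊓ Subgroup.centralizer ((S : Subgroup G) : Set G)) with hW
  show Cfsg.IsThompsonFactorizable p G ↔ Cfsg.thompsonSubgroup p G ≤ Subgroup.centralizer ((⨆ S, W S : Subgroup G) : Set G)
  constructor
  · intro h
    rw [Subgroup.le_centralizer_iff]
    refine iSup_le fun S => ?_
    rw [Subgroup.le_centralizer_iff, CfsgLib.Fusion.Thompson.thompsonSubgroup_eq_iSup]
    have hJ : Cfsg.thompsonSubgroupOf p (S : Subgroup G) ≤ Subgroup.centralizer (W S : Set G) := by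
      rw [Subgroup.le_centralizer_iff]
      refine (Subgroup.closure_le _).mpr fun x hx y hy => ?_
      exact hx.1.2 y (CfsgLib.Fusion.Thompson.thompsonSubgroupOf_le _ hy)
    refine iSup_le fun T => ?_
    obtain ⟨g, rfl⟩ := MulAction.exists_smul_eq G S T
    obtain ⟨x, hx, c, hc, n, hn, rfl⟩ := h S g
    rw [hO, Subgroup.mem_bot] at hx
    subst hx
    rw [CfsgLib.Fusion.Thompson.thompsonSubgroupOf_smul]
    rintro _ ⟨j, hj, rfl⟩
    show 1 * c * n * j * (1 * c * n)⁻¹ ∈ _
    have h2 : n * j * n⁻¹ ∈ Cfsg.thompsonSubgroupOf p (S : Subgroup G) :=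
      (Subgroup.mem_normalizer_iff.mp hn j).mp hj
    have h3 := mul_mem (mul_mem hc (hJ h2)) (inv_mem hc)
    rw [show 1 * c * n * j * (1 * c * n)⁻¹ = c * (n * j * n⁻¹) * c⁻¹ by group]
    exact h3
  · intro h S g
    set C := Subgroup.centralizer ((⨆ S, W S : Subgroup G) : Set G) with hC
    have hCn : C.Normal := by
      have hsup : (⨆ S, W S : Subgroup G).Normal := by
        refine ⟨fun x hx d => ?_⟩
        have hle : (⨆ S, W S) ≤ (⨆ S, W S).comap (MulAut.conj d).toMonoidHom := by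
          refine iSup_le fun T => le_trans ?_ (Subgroup.comap_mono (le_iSup W (d • T)))
          refine (Subgroup.closure_le _).mpr fun y hy => Subgroup.subset_closure ⟨⟨⟨y, hy.1.1, rfl⟩, ?_⟩, ?_⟩
          · rintro _ ⟨u, hu, rfl⟩
            show d * u * d⁻¹ * (d * y * d⁻¹) = d * y * d⁻¹ * (d * u * d⁻¹)
            rw [show d * u * d⁻¹ * (d * y * d⁻¹) = d * (u * y) * d⁻¹ by group, hy.1.2 u hu]
            group
          · show (d * y * d⁻¹) ^ p = 1
            rw [conj_pow, hy.2, mul_one, mul_inv_cancel]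
        exact hle hx
      exact Subgroup.normal_centralizer
    set SC := (S : Subgroup G) ⊓ C with hSC
    let U : Sylow p C := CfsgLib.Fusion.Basic.sylowSubgroupOf (inf_le_right : SC ≤ C)
      (S.2.to_le inf_le_left) (CfsgLib.Fusion.Basic.not_dvd_relIndex_of_normal S C)
    have htop := Sylow.normalizer_sup_eq_top U
    rw [CfsgLib.Fusion.Basic.map_sylowSubgroupOf] at htop
    obtain ⟨A₀, hA₀, hle⟩ := CfsgLib.Fusion.Thompson.exists_maxEA_le_sylow S
    have hJC : ∀ A ∈ Cfsg.maxElementaryAbelianSubgroups p G, A ≤ C := fun A hA => (le_sSup hA).trans h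
    have hJeq : Cfsg.thompsonSubgroupOf p SC = Cfsg.thompsonSubgroupOf p (S : Subgroup G) := by
      rw [CfsgLib.Fusion.Thompson.thompsonSubgroupOf_eq hA₀ (le_inf hle (hJC A₀ hA₀)),
        CfsgLib.Fusion.Thompson.thompsonSubgroupOf_eq hA₀ hle]
      congr 1
      ext A
      exact ⟨fun hA => ⟨hA.1, hA.2.trans inf_le_left⟩, fun hA => ⟨hA.1, le_inf hA.2 (hJC A hA.1)⟩⟩
    have hg : g ∈ ((C ⊔ Subgroup.normalizer (SC : Set G) : Subgroup G) : Set G) := by
      rw [sup_comm, htop]; exact Subgroup.mem_top g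
    rw [Subgroup.normal_mul] at hg
    obtain ⟨c, hc, n, hn, rfl⟩ := Set.mem_mul.mp hg
    refine ⟨1, one_mem _, c, Subgroup.centralizer_le (SetLike.coe_subset_coe.mpr (le_iSup W S)) hc, n, ?_, by rw [one_mul]⟩
    rw [← hJeq]
    exact CfsgLib.Fusion.Thompson.normalizer_le_normalizer_thompsonOf SC hn


end Cfsg.Agent.S0608
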