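import Cfsg.Statements.S0109
import Cfsg.Agent.S0608
import Cfsg.Agent.Lib.Fusion.ReplacementEA
import Cfsg.Agent.Lib.Fusion.QuadStable
import Cfsg.Agent.Lib.Fusion.PSolvable
import Cfsg.Agent.Lib.Solvable.Cores
-- import your own Cfsg.Agent.* helpers here

set_option autoImplicit false
open Cfsg

namespace Cfsg.Agent.S0109

/-- The Thompson factorization Theorem for solvable groups states that, with p odd (and abelian Sylow 2-subgroups when p = 3) and no nontrivial normal subgroup of order prime to p, every element of G is a product of an element normalizing J(P) and an element centralizing the elements of order dividing p in the centre of P. -/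
theorem result {G : Type*} [Group G] [Finite G] {p : ℕ} [Fact p.Prime] (hp : p ≠ 2) (hs : Group.IsSolvable G) (h3 : p = 3 → ∀ T : Sylow 2 G, IsMulCommutative T) (hF : ∀ N : Subgroup G, N.Normal → Nat.Coprime (Nat.card N) p → N = ⊥) (P : Sylow p G) (g : G) : ∃ a ∈ Subgroup.normalizer (Cfsg.thompsonSubgroupOf p (P : Subgroup G) : Set G), ∃ c ∈ Subgroup.centralizer {x : G | x ∈ (P : Subgroup G) ∧ (∀ y ∈ (P : Subgroup G), x * y = y * x) ∧ x ^ p = 1}, g = a * c := by
  classical
  have hO : Cfsg.pPrimeCore p G = ⊥ := le_bot_iff.1 (sSup_le fun N hN => (hF N hN.1 hN.2).le)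
  haveI : Group.IsSolvable G := hs
  have hsep : Cfsg.IsPSolvable p G := CfsgLib.Fusion.PSolvable.psolvable_of_solvable
  have hstab : Cfsg.IsActionPStable p G := by
    have hp2 : 2 ≤ p := (Fact.out : p.Prime).two_le
    have hp4 : p ≠ 4 := fun h => by
      have := (Fact.out : p.Prime)
      rw [h] at this
      exact absurd this (by decide)
    rcases Nat.lt_or_ge p 5 with hlt | hge
    · exact CfsgLib.Fusion.QuadStable.isActionPStable_of_abelian_sylow_two hp (h3 (by omega))
    · exact CfsgLib.Fusion.QuadStable.isActionPStable_of_psolvable hge hsep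
  set W := fun S : Sylow p G => Cfsg.omegaOne p ((S : Subgroup G) ⊓ Subgroup.centralizer ((S : Subgroup G) : Set G)) with hW
  set V : Subgroup G := ⨆ S, W S with hVdef
  have hWQ : ∀ S, W S ≤ Cfsg.pCore p G ⊓ Subgroup.centralizer (Cfsg.pCore p G : Set G) := by
    intro S
    refine (Subgroup.closure_le _).2 fun x hx => ?_
    have hxc : x ∈ Subgroup.centralizer (Cfsg.pCore p G : Set G) :=
      Subgroup.mem_centralizer_iff.2 fun y hy =>
        Subgroup.mem_centralizer_iff.1 hx.1.2 y (CfsgLib.Solvable.Cores.pCore_le_sylow S hy)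
    exact ⟨CfsgLib.Fusion.PSolvable.centralizer_pCore_le hsep hO hxc, hxc⟩
  have hVQ : V ≤ Cfsg.pCore p G ⊓ Subgroup.centralizer (Cfsg.pCore p G : Set G) := iSup_le hWQ
  have hVc : ∀ x ∈ V, ∀ y ∈ V, x * y = y * x := fun x hx y hy =>
    Subgroup.mem_centralizer_iff.1 (hVQ hy).2 x (hVQ hx).1
  have hVp : ∀ x ∈ V, x ^ p = 1 := by
    intro x hx
    rw [hVdef] at hx
    induction hx using Subgroup.iSup_induction' with
    | hp S x hx =>
      induction hx using Subgroup.closure_induction with
      | mem y hy => exact hy.2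
      | one => exact one_pow _
      | mul a b ha hb iha ihb =>
        rw [Commute.mul_pow (hVc a (Subgroup.mem_iSup_of_mem S ha) b (Subgroup.mem_iSup_of_mem S hb)),
          iha, ihb, one_mul]
      | inv a _ iha => rw [inv_pow, iha, inv_one]
    | h1 => exact one_pow _
    | hmul a b ha hb iha ihb => rw [Commute.mul_pow (hVc a ha b hb), iha, ihb, one_mul]
  have hV : Cfsg.IsElementaryAbelian p V :=
    ⟨CfsgLib.Solvable.Basic.isMulCommutative_subgroup_iff.2 hVc, hVp⟩
  haveI hVn : V.Normal := by
    refine ⟨fun x hx d => ?_⟩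
    have hle : V ≤ V.comap (MulAut.conj d).toMonoidHom := by
      refine iSup_le fun T => le_trans ?_ (Subgroup.comap_mono (le_iSup W (d • T)))
      refine (Subgroup.closure_le _).mpr fun y hy => Subgroup.subset_closure ⟨⟨⟨y, hy.1.1, rfl⟩, ?_⟩, ?_⟩
      · rintro _ ⟨u, hu, rfl⟩
        show d * u * d⁻¹ * (d * y * d⁻¹) = d * y * d⁻¹ * (d * u * d⁻¹)
        rw [show d * u * d⁻¹ * (d * y * d⁻¹) = d * (u * y) * d⁻¹ by group, hy.1.2 u hu]
        group
      · show (d * y * d⁻¹) ^ p = 1
        rw [conj_pow, hy.2, mul_one, mul_inv_cancel]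
    exact hle hx
  have hJ : Cfsg.thompsonSubgroup p G ≤ Subgroup.centralizer (V : Set G) := by
    refine sSup_le fun A hA => ?_
    by_contra hAC
    have hne : ⁅V, A⁆ ≠ ⊥ := fun h => hAC
      (Subgroup.le_centralizer_iff.1 (Subgroup.commutator_eq_bot_iff_le_centralizer.1 h))
    obtain ⟨-, hq, hne'⟩ := CfsgLib.Fusion.ReplacementEA.replacement hV hA
    set B := ⁅V, A⁆ ⊔ (A ⊓ Subgroup.centralizer ((⁅V, A⁆ : Subgroup G) : Set G))
    refine hne' hne ?_
    rw [Subgroup.commutator_eq_bot_iff_le_centralizer, Subgroup.le_centralizer_iff]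
    intro b hb
    have hb' := hstab.1 V hV b (le_bot_iff.1 ((Subgroup.commutator_mono
      (Subgroup.commutator_mono le_rfl (Subgroup.zpowers_le.2 hb)) (Subgroup.zpowers_le.2 hb)).trans hq.le))
    set C := Subgroup.centralizer (V : Set G)
    set U := (Cfsg.pCore p (G ⧸ C)).comap (QuotientGroup.mk' C) with hU
    have hUV : U ≤ C := by
      refine Subgroup.le_centralizer_iff.1 (iSup_le fun S => Subgroup.le_centralizer_iff.1 ?_)
      have hWS : C ⊔ (S : Subgroup G) ≤ Subgroup.centralizer (W S : Set G) := by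
        refine sup_le (Subgroup.centralizer_le (SetLike.coe_subset_coe.2 (le_iSup W S))) ?_
        rw [Subgroup.le_centralizer_iff]
        exact (Subgroup.closure_le _).2 fun x hx => hx.1.2
      refine le_trans ?_ hWS
      have h1 := CfsgLib.Solvable.Cores.pCore_le_sylow
        (S.mapSurjective (QuotientGroup.mk'_surjective C))
      rw [Sylow.coe_mapSurjective] at h1
      refine (Subgroup.comap_mono h1).trans (le_of_eq ?_)
      rw [Subgroup.comap_map_eq, QuotientGroup.ker_mk', sup_comm]
    exact hUV (show b ∈ U from hb')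
  obtain ⟨x, hx, c, hc, n, hn, he⟩ := (Cfsg.Agent.S0608.result hO).2 hJ P g⁻¹
  rw [hO, Subgroup.mem_bot] at hx
  subst hx
  refine ⟨n⁻¹, inv_mem hn, c⁻¹, inv_mem (Subgroup.mem_centralizer_iff.2 fun y hy => ?_),
    by rw [← inv_inv g, he]; group⟩
  refine Subgroup.mem_centralizer_iff.1 hc y (Subgroup.subset_closure ⟨⟨hy.1, ?_⟩, hy.2.2⟩)
  exact Subgroup.mem_centralizer_iff.2 fun u hu => (hy.2.1 u hu).symm

end Cfsg.Agent.S0109
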