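import Cfsg.Statements.S0110
import Cfsg.Agent.Lib.PGroup.Frattini

set_option autoImplicit false
open Cfsg
open scoped commutatorElement

namespace Cfsg.Agent.S0110

theorem card_hom_le {p : ℕ} [Fact p.Prime] {C : Type*} [CommGroup C] [Finite C]
    (hC : Nat.card C = p) : ∀ (n : ℕ) {A : Type*} [Group A] [Finite A], IsPGroup p A → Nat.card A = n →
      Nat.card (A →* C) ≤ n := by
  intro n
  induction n using Nat.strong_induction_on with
  | h n ih =>
  intro A _ _ hA hn
  rcases subsingleton_or_nontrivial A with hs | hs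
  · have : Subsingleton (A →* C) :=
      ⟨fun f g => MonoidHom.ext fun a => by rw [Subsingleton.elim a 1, map_one, map_one]⟩
    have h1 : Nat.card A = 1 := Nat.card_eq_one_iff_unique.mpr ⟨hs, ⟨1⟩⟩
    rw [Nat.card_eq_one_iff_unique.mpr ⟨this, ⟨1⟩⟩, ← hn, h1]
  · obtain ⟨M, hM⟩ := (eq_top_or_exists_le_coatom (⊥ : Subgroup A)).resolve_left bot_ne_top
    have hidx := CfsgLib.PGroup.Frattini.index_of_isCoatom hA hM.1
    obtain ⟨x, hx⟩ : ∃ x, x ∉ M := by
      by_contra hc
      simp only [not_exists, not_not] at hc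
      exact hM.1.1 ((Subgroup.eq_top_iff' M).mpr hc)
    have hmul := M.card_mul_index
    rw [hidx, hn] at hmul
    have hlt : Nat.card M < n := by
      rw [← hmul]
      exact lt_mul_of_one_lt_right Nat.card_pos (Fact.out : p.Prime).one_lt
    let r : (A →* C) → (M →* C) × C := fun f => (f.comp M.subtype, f x)
    have hr : Function.Injective r := by
      intro f g hfg
      have htop : f.eqLocus g = ⊤ := hM.1.2 _ (lt_of_le_of_ne
        (fun m hm => show f m = g m from DFunLike.congr_fun (congrArg Prod.fst hfg) ⟨m, hm⟩)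
        (fun he => hx (he ▸ (congrArg Prod.snd hfg : f x = g x))))
      exact MonoidHom.ext fun a => (htop ▸ Subgroup.mem_top a : a ∈ f.eqLocus g)
    haveI : Finite (M →* C) := Finite.of_injective _ DFunLike.coe_injective
    calc Nat.card (A →* C) ≤ Nat.card ((M →* C) × C) := Nat.card_le_card_of_injective r hr
      _ = Nat.card (M →* C) * Nat.card C := Nat.card_prod _ _
      _ ≤ Nat.card M * p := by
        rw [hC]; exact Nat.mul_le_mul_right p (ih _ hlt (hA.to_subgroup M) rfl)
      _ = n := hmul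

theorem exists_inner {p : ℕ} [Fact p.Prime] {E : Type*} [Group E] [Finite E] (hP : IsPGroup p E)
    (hC : commutator E = Subgroup.center E) (hcard : Nat.card (Subgroup.center E) = p)
    (φ : E →* Subgroup.center E) :
    ∃ e : E, ∀ a : E, (φ a : E) = ⁅e, a⁆ := by
  letI : CommGroup (Subgroup.center E) :=
    { (inferInstance : Group (Subgroup.center E)) with
      mul_comm := fun a b => Subtype.ext (Subgroup.mem_center_iff.mp b.2 a) }
  have hc : ∀ a b : E, ⁅a, b⁆ ∈ Subgroup.center E := fun a b =>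
    hC ▸ Subgroup.commutator_mem_commutator (Subgroup.mem_top a) (Subgroup.mem_top b)
  let ψ : E → (E →* Subgroup.center E) := fun e => MonoidHom.mk' (fun a => ⟨⁅e, a⁆, hc e a⟩)
    (fun a b => Subtype.ext (by
      show ⁅e, a * b⁆ = ⁅e, a⁆ * ⁅e, b⁆
      have := Subgroup.mem_center_iff.mp (hc e b) a
      calc ⁅e, a * b⁆ = ⁅e, a⁆ * (a * ⁅e, b⁆ * a⁻¹) := by simp only [commutatorElement_def]; group
        _ = _ := by rw [this, mul_inv_cancel_right]))
  let Ψ : E →* (E →* Subgroup.center E) := MonoidHom.mk' ψ (fun e f => MonoidHom.ext fun a =>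
    Subtype.ext (by
      show ⁅e * f, a⁆ = ⁅e, a⁆ * ⁅f, a⁆
      have h1 := Subgroup.mem_center_iff.mp (hc f a)
      calc ⁅e * f, a⁆ = e * ⁅f, a⁆ * e⁻¹ * ⁅e, a⁆ := by simp only [commutatorElement_def]; group
        _ = ⁅e, a⁆ * ⁅f, a⁆ := by rw [h1 e, mul_inv_cancel_right, h1]))
  haveI : Finite (E →* Subgroup.center E) := Finite.of_injective _ DFunLike.coe_injective
  have hker : Ψ.ker = Subgroup.center E := by
    ext e
    rw [MonoidHom.mem_ker, Subgroup.mem_center_iff]
    constructor
    · intro h a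
      have := congrArg Subtype.val (DFunLike.congr_fun h a)
      exact (commutatorElement_eq_one_iff_mul_comm.mp this).symm
    · intro h
      exact MonoidHom.ext fun a => Subtype.ext (commutatorElement_eq_one_iff_mul_comm.mpr (h a).symm)
  have hle : Nat.card (E →* Subgroup.center E) ≤ Nat.card Ψ.range := by
    rw [← Subgroup.index_ker Ψ, hker]
    have hk : ∀ f : E →* Subgroup.center E, Subgroup.center E ≤ f.ker := fun f z hz =>
      Abelianization.commutator_subset_ker f (by rw [hC]; exact hz)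
    haveI : Finite (E ⧸ Subgroup.center E →* Subgroup.center E) := Finite.of_injective _ DFunLike.coe_injective
    refine le_trans (Nat.card_le_card_of_injective (β := E ⧸ Subgroup.center E →* Subgroup.center E)
      (fun f => QuotientGroup.lift (Subgroup.center E) f (hk f)) fun f g hfg => ?_)
      (card_hom_le hcard _ (hP.to_quotient _) rfl)
    exact MonoidHom.ext fun a => DFunLike.congr_fun hfg (a : E ⧸ Subgroup.center E)
  have htop : Ψ.range = ⊤ := Subgroup.eq_top_of_le_card _ hle
  obtain ⟨e, he⟩ := MonoidHom.range_eq_top.mp htop φ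
  exact ⟨e, fun a => by rw [← he]; rfl⟩

/-- In a p-group G, an extraspecial subgroup E with [G, E] ≤ Z(E) satisfies G = E C_G(E). -/
theorem result {G : Type*} [Group G] [Finite G] {p : ℕ} [Fact p.Prime] (hG : IsPGroup p G) (E : Subgroup G) (hE : Cfsg.IsExtraspecial p E) (h : ⁅(⊤ : Subgroup G), E⁆ ≤ E ⊓ Subgroup.centralizer (E : Set G)) : E ⊔ Subgroup.centralizer (E : Set G) = ⊤ := by
  obtain ⟨⟨hP, hF, hC⟩, hcard⟩ := hE
  rw [eq_top_iff]
  intro g _
  have hmem : ∀ a : E, ⁅g, (a : G)⁆ ∈ E ⊓ Subgroup.centralizer (E : Set G) := fun a =>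
    h (Subgroup.commutator_mem_commutator (Subgroup.mem_top g) a.2)
  let φ : E →* Subgroup.center E := MonoidHom.mk'
    (fun a => ⟨⟨⁅g, (a : G)⁆, (hmem a).1⟩,
      Subgroup.mem_center_iff.mpr fun b => Subtype.ext ((hmem a).2 b b.2)⟩)
    (fun a b => Subtype.ext (Subtype.ext (by
      show ⁅g, (a : G) * b⁆ = ⁅g, (a : G)⁆ * ⁅g, (b : G)⁆
      have := (hmem b).2 a a.2
      calc ⁅g, (a : G) * b⁆ = ⁅g, (a : G)⁆ * ((a : G) * ⁅g, (b : G)⁆ * (a : G)⁻¹) := by
            simp only [commutatorElement_def]; group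
        _ = _ := by rw [this, mul_inv_cancel_right])))
  obtain ⟨e, he⟩ := exists_inner hP hC hcard φ
  have h2 : (e : G)⁻¹ * g ∈ Subgroup.centralizer (E : Set G) := by
    intro a ha
    have h3 : ⁅g, a⁆ = ⁅(e : G), a⁆ := congrArg Subtype.val (he ⟨a, ha⟩)
    simp only [commutatorElement_def] at h3
    have h4 : g * a * g⁻¹ = (e : G) * a * (e : G)⁻¹ := mul_right_cancel h3
    calc a * ((e : G)⁻¹ * g) = (e : G)⁻¹ * ((e : G) * a * (e : G)⁻¹) * g := by group
      _ = _ := by rw [← h4]; group
  rw [show g = (e : G) * ((e : G)⁻¹ * g) by group]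
  exact Subgroup.mul_mem_sup e.2 h2

end Cfsg.Agent.S0110
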