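import Cfsg.Statements.S0118
import Cfsg.Agent.Lib.Fusion.ZJFusion
-- import your own Cfsg.Agent.* helpers here

set_option autoImplicit false
open Cfsg

namespace Cfsg.Agent.S0118

/-- Glauberman's ZJ-Theorem, in the case of groups with no section isomorphic to SL(2,p), p odd: conjugation of subsets of a Sylow p-subgroup P inside P is always induced from the normalizer of Z(J(P)). -/
theorem result {G : Type*} [Group G] [Finite G] {p : ℕ} [Fact p.Prime] (hp : p ≠ 2) (hfree : ¬ ∃ (H K : Subgroup G) (hK : (K.subgroupOf H).Normal), Nonempty ((H ⧸ K.subgroupOf H) ≃* Matrix.SpecialLinearGroup (Fin 2) (ZMod p))) (P : Sylow p G) (A : Set G) (hA : A ⊆ (P : Set G)) (g : G) (hAg : (fun a => g⁻¹ * a * g) '' A ⊆ (P : Set G)) : ∃ n ∈ Subgroup.normalizer (Cfsg.centerThompsonOf p (P : Subgroup G) : Set G), ∀ a ∈ A, n⁻¹ * a * n = g⁻¹ * a * g := by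
  have hfree' : ¬ CfsgLib.Fusion.QdSections.HasQdSection p G := by
    intro h
    obtain ⟨L, f, hf⟩ := CfsgLib.Fusion.ZJFusion.hasSL2Section_of_hasQdSection h
    obtain ⟨K, L', hn, -, he⟩ := CfsgLib.Fusion.QuadSection.exists_section (H := (⊤ : Subgroup G))
      (L.comap (⊤ : Subgroup G).subtype) (f.comp ((⊤ : Subgroup G).subtype.subgroupComap L))
      (hf.comp fun y => ⟨⟨⟨(y : G), trivial⟩, y.2⟩, rfl⟩)
    exact hfree ⟨K, L', hn, he⟩
  obtain ⟨n, hn, hag⟩ := CfsgLib.Fusion.ZJFusion.controls hp hfree' P hA (g := g⁻¹) (by simpa using hAg)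
  exact ⟨n⁻¹, Subgroup.inv_mem _ hn, fun a ha => by simpa using hag a ha⟩

end Cfsg.Agent.S0118
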