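import Cfsg.Statements.S0119
import Cfsg.Agent.Lib.LocalEven.Residual
import Cfsg.Agent.Lib.Solvable.FrattiniFitting
import Cfsg.Agent.Lib.PGroup.Frattini

set_option autoImplicit false
open Cfsg
open scoped IsMulCommutative commutatorElement

namespace Cfsg.Agent.S0119

/-- If a p'-group A of automorphisms of a p-group G satisfies G = [G, A] and acts trivially on every characteristic abelian subgroup, then G is special with centre equal to the fixed points of A. -/
theorem result {G : Type*} [Group G] [Finite G] {p : ℕ} [Fact p.Prime] (hG : IsPGroup p G) (A : Subgroup (MulAut G)) (hA : Nat.Coprime (Nat.card A) p) (hGA : Subgroup.closure {x : G | ∃ g : G, ∃ a ∈ A, x = g⁻¹ * a g} = ⊤) (hchar : ∀ H : Subgroup G, H.Characteristic → IsMulCommutative H → ∀ a ∈ A, ∀ h ∈ H, a h = h) : Cfsg.IsSpecial p G ∧ (∀ g : G, (g ∈ Subgroup.center G ↔ ∀ a ∈ A, a g = g)) := by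
  classical
  haveI := hG.isNilpotent
  -- characteristic abelian subgroups are central
  have hcen : ∀ H : Subgroup G, H.Characteristic → IsMulCommutative H → H ≤ Subgroup.center G := by
    intro H hH hHab h hh
    rw [← Subgroup.centralizer_univ, Subgroup.mem_centralizer_iff]
    have hall : (⊤ : Subgroup G) ≤ Subgroup.centralizer ({h} : Set G) := by
      rw [← hGA, Subgroup.closure_le]
      rintro x ⟨g, a, ha, rfl⟩
      rw [SetLike.mem_coe, Subgroup.mem_centralizer_singleton_iff]
      have hn : g * h * g⁻¹ ∈ H := Subgroup.Normal.conj_mem (by haveI := hH; infer_instance) h hh g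
      have e1 := hchar H hH hHab a ha _ hn
      rw [map_mul, map_mul, map_inv, hchar H hH hHab a ha h hh] at e1
      calc g⁻¹ * a g * h = g⁻¹ * (a g * h * (a g)⁻¹) * a g := by group
        _ = g⁻¹ * (g * h * g⁻¹) * a g := by rw [e1]
        _ = h * (g⁻¹ * a g) := by group
    intro g _
    exact Subgroup.mem_centralizer_singleton_iff.mp (hall (Subgroup.mem_top g))
  have hZfix : ∀ z ∈ Subgroup.center G, ∀ a ∈ A, a z = z := fun z hz a ha =>
    hchar _ inferInstance inferInstance a ha z hz
  -- the derived subgroup is central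
  have hG'Z : ∀ x y : G, ⁅x, y⁆ ∈ Subgroup.center G := by
    by_contra hne
    have hle : ¬ commutator G ≤ Subgroup.center G := fun h => hne fun x y =>
      h (Subgroup.commutator_mem_commutator (Subgroup.mem_top x) (Subgroup.mem_top y))
    apply hle
    let Z2 := Subgroup.upperCentralSeries G 2
    haveI hZ2c : Z2.Characteristic := inferInstance
    have hZ2 : ∀ w ∈ Z2, ∀ g : G, ⁅w, g⁆ ∈ Subgroup.center G := fun w hw g => by
      have := Subgroup.mem_upperCentralSeries_succ_iff.mp hw g
      rwa [Subgroup.upperCentralSeries_one] at this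
    have hcomm : ⁅commutator G, Z2⁆ = ⊥ := by
      have h1 : ⁅⁅(⊤ : Subgroup G), Z2⁆, (⊤ : Subgroup G)⁆ = ⊥ := by
        rw [Subgroup.commutator_eq_bot_iff_le_centralizer, Subgroup.commutator_le]
        intro g _ w hw
        rw [← commutatorElement_inv]
        refine inv_mem ?_
        rw [Subgroup.mem_centralizer_iff]
        intro t _
        exact Subgroup.mem_center_iff.mp (hZ2 w hw g) t
      have h2 : ⁅⁅Z2, (⊤ : Subgroup G)⁆, (⊤ : Subgroup G)⁆ = ⊥ := by
        rwa [Subgroup.commutator_comm Z2]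
      exact Subgroup.commutator_commutator_eq_bot_of_rotate h1 h2
    have hWc : (commutator G ⊓ Z2).Characteristic := Subgroup.characteristic_iff_map_le.mpr fun φ => by
      rintro _ ⟨x, hx, rfl⟩
      exact ⟨Subgroup.characteristic_iff_map_le.mp inferInstance φ ⟨x, hx.1, rfl⟩,
        Subgroup.characteristic_iff_map_le.mp hZ2c φ ⟨x, hx.2, rfl⟩⟩
    have hW : commutator G ⊓ Z2 ≤ Subgroup.center G := hcen _ hWc ⟨⟨fun a b => Subtype.ext
      (Subgroup.mem_centralizer_iff.mp (Subgroup.commutator_eq_bot_iff_le_centralizer.mp hcomm a.2.1) b b.2.2).symm⟩⟩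
    let π := QuotientGroup.mk' (Subgroup.center G)
    by_contra hle'
    haveI : ((commutator G).map π).Normal :=
      Subgroup.Normal.map inferInstance π (QuotientGroup.mk'_surjective _)
    refine CfsgLib.Solvable.FrattiniFitting.inf_center_ne_bot ((commutator G).map π) ?_ ?_
    · rwa [Ne, Subgroup.map_eq_bot_iff, QuotientGroup.ker_mk']
    · rw [eq_bot_iff]
      rintro _ ⟨⟨x, hx, rfl⟩, hxc⟩
      rw [Subgroup.mem_bot, QuotientGroup.mk'_apply, QuotientGroup.eq_one_iff]
      refine hW ⟨hx, Subgroup.mem_upperCentralSeries_succ_iff.mpr fun g => ?_⟩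
      rw [Subgroup.upperCentralSeries_one, ← QuotientGroup.eq_one_iff, ← QuotientGroup.mk'_apply,
        map_commutatorElement, commutatorElement_eq_one_iff_mul_comm]
      exact (Subgroup.mem_center_iff.mp hxc _).symm
  have hmul : ∀ g x y : G, ⁅g, x * y⁆ = ⁅g, x⁆ * ⁅g, y⁆ := fun g x y => by
    have h1 : ⁅g, x * y⁆ = ⁅g, x⁆ * (x * ⁅g, y⁆ * x⁻¹) := by simp [commutatorElement_def, mul_assoc]
    rw [h1, Subgroup.mem_center_iff.mp (hG'Z g y) x, mul_inv_cancel_right]
  have hmull : ∀ g h x : G, ⁅g * h, x⁆ = ⁅g, x⁆ * ⁅h, x⁆ := fun g h x => by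
    rw [← commutatorElement_inv x (g * h), hmul, mul_inv_rev, commutatorElement_inv, commutatorElement_inv]
    exact Subgroup.mem_center_iff.mp (hG'Z g x) _
  -- fixed points are central
  have hfix : ∀ g : G, (∀ a ∈ A, a g = g) → g ∈ Subgroup.center G := by
    intro g hg
    rw [← Subgroup.centralizer_univ, Subgroup.mem_centralizer_iff]
    have hall : (⊤ : Subgroup G) ≤ Subgroup.centralizer ({g} : Set G) := by
      rw [← hGA, Subgroup.closure_le]
      rintro y ⟨x, a, ha, rfl⟩
      rw [SetLike.mem_coe, Subgroup.mem_centralizer_singleton_iff]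
      have e1 : ⁅g, a x⁆ = ⁅g, x⁆ := by
        rw [← hZfix _ (hG'Z g x) a ha, map_commutatorElement, hg a ha]
      have e2 : ⁅g, x⁆ * ⁅g, x⁻¹ * a x⁆ = ⁅g, x⁆ := by rw [← hmul, mul_inv_cancel_left, e1]
      rw [mul_eq_left, commutatorElement_eq_one_iff_mul_comm] at e2
      exact e2.symm
    intro x _
    exact Subgroup.mem_centralizer_singleton_iff.mp (hall (Subgroup.mem_top x))
  -- the centre is contained in the derived subgroup
  have hZG' : Subgroup.center G ≤ commutator G := by
    intro z hz
    haveI : Fintype A := Fintype.ofFinite A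
    let N : G →* Abelianization G := ∏ a : A, (Abelianization.of.comp (a : MulAut G).toMonoidHom)
    have hN : ∀ g : G, N g = ∏ a : A, Abelianization.of ((a : MulAut G) g) := fun g => by
      simp [N, MonoidHom.finsetProd_apply]
    have hN1 : ∀ g : G, N g = 1 := by
      have hk : (⊤ : Subgroup G) ≤ N.ker := by
        rw [← hGA, Subgroup.closure_le]
        rintro y ⟨x, a, ha, rfl⟩
        rw [SetLike.mem_coe, MonoidHom.mem_ker, map_mul, map_inv, inv_mul_eq_one, hN, hN]
        exact (Fintype.prod_equiv (Equiv.mulRight (⟨a, ha⟩ : A)) _ _ fun b => rfl).symm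
      exact fun g => hk (Subgroup.mem_top g)
    have hpow : (Abelianization.of z) ^ Nat.card A = 1 := by
      rw [← hN1 z, hN, Finset.prod_congr rfl (fun (b : A) _ => by rw [hZfix z hz b b.2]),
        Finset.prod_const, Finset.card_univ, Nat.card_eq_fintype_card]
    obtain ⟨k, hk⟩ := hG z
    have hpow2 : (Abelianization.of z) ^ p ^ k = 1 := by rw [← map_pow, hk, map_one]
    have hd : orderOf (Abelianization.of z) ∣ 1 := by
      rw [← (Nat.Coprime.pow_right k hA).gcd_eq_one]
      exact Nat.dvd_gcd (orderOf_dvd_of_pow_eq_one hpow) (orderOf_dvd_of_pow_eq_one hpow2)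
    rw [Nat.dvd_one, orderOf_eq_one_iff] at hd
    exact (QuotientGroup.eq_one_iff _).mp hd
  have hcZ : commutator G = Subgroup.center G :=
    le_antisymm (Subgroup.commutator_le.mpr fun x _ y _ => hG'Z x y) hZG'
  have hpowl : ∀ (n : ℕ) (g x : G), ⁅g ^ n, x⁆ = ⁅g, x⁆ ^ n := fun n g x => by
    induction n with
    | zero => simp [commutatorElement_def]
    | succ n ih => rw [pow_succ, hmull, ih, pow_succ]
  have hpowr : ∀ (n : ℕ) (g x : G), ⁅g, x ^ n⁆ = ⁅g, x⁆ ^ n := fun n g x => by
    rw [← commutatorElement_inv, hpowl, ← inv_pow, commutatorElement_inv]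
  -- `G / Z` has exponent `p`
  have hexp : ∀ x : G, x ^ p ∈ Subgroup.center G := by
    have hall : ∃ e, ∀ x : G, x ^ (p ^ e) ∈ Subgroup.center G := by
      obtain ⟨n, hn⟩ := IsPGroup.iff_card.mp hG
      exact ⟨n, fun x => by rw [← hn, pow_card_eq_one']; exact one_mem _⟩
    have hstep : ∀ e, 1 ≤ e → (∀ x : G, x ^ (p ^ (e + 1)) ∈ Subgroup.center G) →
        ∀ x : G, x ^ (p ^ e) ∈ Subgroup.center G := by
      intro e he hx
      let S : Set G := Set.range fun x : G => x ^ (p ^ e)
      have hScomm : ∀ u ∈ S, ∀ v ∈ S, u * v = v * u := by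
        rintro _ ⟨x, rfl⟩ _ ⟨y, rfl⟩
        rw [← commutatorElement_eq_one_iff_mul_comm, hpowr, ← hpowl, ← pow_mul, ← pow_add,
          commutatorElement_eq_one_iff_mul_comm]
        obtain ⟨j, hj⟩ := pow_dvd_pow p (show e + 1 ≤ e + e by omega)
        rw [hj, pow_mul]
        exact ((Subgroup.mem_center_iff.mp (pow_mem (hx x) j)) y).symm
      have hKc : (Subgroup.closure S).Characteristic := Subgroup.characteristic_iff_map_le.mpr fun φ => by
        rw [MonoidHom.map_closure]
        refine Subgroup.closure_mono ?_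
        rintro _ ⟨_, ⟨x, rfl⟩, rfl⟩
        exact ⟨φ x, (map_pow φ x _).symm⟩
      have := hcen _ hKc (Subgroup.isMulCommutative_closure hScomm)
      exact fun x => this (Subgroup.subset_closure ⟨x, rfl⟩)
    obtain ⟨e, he⟩ := hall
    induction e with
    | zero => intro x; simp only [pow_zero, pow_one] at he; exact he _
    | succ e ih =>
      rcases Nat.eq_zero_or_pos e with rfl | hepos
      · simpa using he
      · exact ih (hstep e hepos he)
  refine ⟨⟨hG, ?_, hcZ⟩, fun g => ⟨fun hg => hZfix g hg, hfix g⟩⟩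
  refine le_antisymm (CfsgLib.LocalEven.Residual.frattini_le (p := p) hG'Z hexp) ?_
  rw [← hcZ, commutator_def, Subgroup.commutator_le]
  exact fun x _ y _ => CfsgLib.PGroup.Frattini.commutatorElement_mem_frattini hG x y

end Cfsg.Agent.S0119
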