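import Cfsg.Statements.S0125
import Cfsg.Agent.Lib.Fusion.Abelian

set_option autoImplicit false
open Cfsg

namespace Cfsg.Agent.S0125

/-- The centralizer of a self-centralizing normal subgroup A of a Sylow p-subgroup is the direct product of A with a normal p'-subgroup. -/
theorem result {G : Type*} [Group G] [Finite G] {p : ℕ} [Fact p.Prime] (R : Sylow p G) (A : Subgroup G) (hAR : A ≤ (R : Subgroup G)) (hAn : (R : Subgroup G) ≤ Subgroup.normalizer (A : Set G)) (hC : (R : Subgroup G) ⊓ Subgroup.centralizer (A : Set G) = A) : ∃ H : Subgroup G, H ≤ Subgroup.centralizer (A : Set G) ∧ Nat.Coprime (Nat.card H) p ∧ Subgroup.centralizer (A : Set G) ≤ Subgroup.normalizer (H : Set G) ∧ H ⊓ A = ⊥ ∧ H ⊔ A = Subgroup.centralizer (A : Set G) := by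
  set C := Subgroup.centralizer (A : Set G) with hCdef
  have hC' : (R : Subgroup G) ⊓ C = A := hC
  have hAC : A ≤ C := by
    intro a ha
    have : a ∈ (R : Subgroup G) ⊓ C := by rw [hC']; exact ha
    exact this.2
  let M : Subgroup G := Subgroup.normalizer (A : Set G)
  have hA' : ¬ p ∣ A.relIndex C := by
    have hCM : C ≤ M := Subgroup.centralizer_le_normalizer _
    have : (C.subgroupOf M).Normal := by
      refine Subgroup.normal_subgroupOf_iff hCM |>.mpr fun c m hc hm a ha => ?_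
      have h1 : m⁻¹ * a * m ∈ A := by
        have := (Subgroup.mem_normalizer_iff.mp (M.inv_mem hm) a).mp ha
        simpa using this
      calc a * (m * c * m⁻¹) = m * ((m⁻¹ * a * m) * c) * m⁻¹ := by group
        _ = m * (c * (m⁻¹ * a * m)) * m⁻¹ := by rw [hc _ h1]
        _ = m * c * m⁻¹ * a := by group
    have h2 := CfsgLib.Fusion.Basic.not_dvd_relIndex_of_normal (R.subtype hAn) (C.subgroupOf M)
    rw [Sylow.coe_subtype, show (R : Subgroup G).subgroupOf M ⊓ C.subgroupOf M = A.subgroupOf M from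
      (Subgroup.comap_inf _ _ _).symm.trans (congrArg (Subgroup.comap M.subtype) hC')] at h2
    rwa [Subgroup.relIndex_subgroupOf hCM] at h2
  let S : Sylow p C := CfsgLib.Fusion.Basic.sylowSubgroupOf hAC (R.2.to_le hAR) hA'
  have hnpc : Cfsg.HasNormalPComplement p C := by
    refine CfsgLib.Fusion.Abelian.npc_of_normalizer_le_centralizer S fun c _ s hs => Subtype.ext ?_
    exact c.2 (s : G) hs
  refine ⟨(Cfsg.pResidual p C).map C.subtype, Subgroup.map_subtype_le _, ?_, ?_, ?_, ?_⟩
  · rw [Subgroup.card_map_of_injective C.subtype_injective]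
    exact CfsgLib.Fusion.Basic.npc_iff_coprime.mp hnpc
  · intro c hc
    rw [Subgroup.mem_normalizer_iff]
    refine fun x => ⟨?_, ?_⟩
    · rintro ⟨w, hw, rfl⟩
      exact ⟨⟨c, hc⟩ * w * ⟨c, hc⟩⁻¹, CfsgLib.Fusion.Basic.pResidual_normal.conj_mem w hw _, rfl⟩
    · rintro ⟨w, hw, hwe⟩
      refine ⟨⟨c, hc⟩⁻¹ * w * ⟨c, hc⟩⁻¹⁻¹, CfsgLib.Fusion.Basic.pResidual_normal.conj_mem w hw _, ?_⟩
      show c⁻¹ * (w : G) * c⁻¹⁻¹ = x
      rw [show (w : G) = c * x * c⁻¹ from hwe]
      group
  · rw [inf_comm]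
    refine CfsgLib.Fusion.Basic.inf_eq_bot_of_coprime (R.2.to_le hAR) ?_
    rw [Subgroup.card_map_of_injective C.subtype_injective]
    exact CfsgLib.Fusion.Basic.npc_iff_coprime.mp hnpc
  · have h2 := congrArg (Subgroup.map C.subtype) (CfsgLib.Fusion.Basic.pResidual_sup_sylow S)
    rw [Subgroup.map_sup, CfsgLib.Fusion.Basic.map_sylowSubgroupOf, ← MonoidHom.range_eq_map,
      Subgroup.range_subtype] at h2
    exact h2


end Cfsg.Agent.S0125
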