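import Cfsg.Statements.S0127
import Cfsg.Agent.Lib.Fusion.OmegaMetacyclic
import Cfsg.Agent.Lib.PGroup.Frattini

set_option autoImplicit false
open Cfsg

namespace Cfsg.Agent.S0127

/-- For odd p, in a non-cyclic p-group with a cyclic subgroup of index p, the elements of order dividing p generate an elementary abelian subgroup of order p^2. -/
theorem result {R : Type*} [Group R] [Finite R] {p : ℕ} [Fact p.Prime] (hp : p ≠ 2) (hR : IsPGroup p R) (hnc : ¬ IsCyclic R) (C : Subgroup R) (hC : IsCyclic C) (hCi : C.index = p) : Cfsg.IsElementaryAbelian p (Subgroup.closure {x : R | x ^ p = 1}) ∧ Nat.card (Subgroup.closure {x : R | x ^ p = 1}) = p ^ 2 := by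
  have hco : IsCoatom C := by
    refine ⟨fun h => (Fact.out : p.Prime).ne_one (by rw [← hCi, h, Subgroup.index_top]), fun K hK => ?_⟩
    have h1 : K.index ∣ p := hCi ▸ Subgroup.index_dvd_of_le hK.le
    rcases (Nat.dvd_prime Fact.out).mp h1 with h2 | h2
    · exact Subgroup.index_eq_one.mp h2
    · exfalso
      have hrel := Subgroup.relIndex_mul_index hK.le
      rw [hCi, h2] at hrel
      have h3 : C.relIndex K = 1 := Nat.eq_of_mul_eq_mul_right (Fact.out : p.Prime).pos (by rw [hrel, one_mul])
      exact hK.not_ge (Subgroup.relIndex_eq_one.mp h3)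
  haveI := CfsgLib.PGroup.Frattini.normal_of_isCoatom hR hco
  exact CfsgLib.Fusion.OmegaMetacyclic.omega_spec hR hp hnc hC (isCyclic_of_prime_card (p := p) hCi) rfl

end Cfsg.Agent.S0127
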