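import Cfsg.Statements.S0129
import Cfsg.Agent.Lib.PGroup.Frattini
import Cfsg.Agent.Lib.Fusion.Basic
import Cfsg.Agent.Lib.OddOrder.SelfCentralizing

set_option autoImplicit false
open Cfsg
open scoped commutatorElement

namespace Cfsg.Agent.S0129

theorem exists_normal_index_prime {G : Type*} [Group G] [Finite G] {p : ℕ} [Fact p.Prime]
    (hG : IsPGroup p G) (B : Subgroup G) [B.Normal] (hB : B ≠ ⊥) :
    ∃ B' : Subgroup G, B'.Normal ∧ B' ≤ B ∧ Nat.card B' * p = Nat.card B ∧
      ∀ b ∈ B, ∀ g : G, ⁅b, g⁆ ∈ B' := by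
  haveI : Group.IsNilpotent G := hG.isNilpotent
  let T : Subgroup B := (⁅B, (⊤ : Subgroup G)⁆).subgroupOf B
  have hTne : T ≠ ⊤ := fun hT => hB (le_bot_iff.mp
    (CfsgLib.Fusion.Basic.le_of_le_commutator_sup (S := ⊥)
      ((Subgroup.subgroupOf_eq_top.mp hT).trans le_sup_left)))
  obtain ⟨M, hM, hTM⟩ := (eq_top_or_exists_le_coatom T).resolve_left hTne
  have hidx := CfsgLib.PGroup.Frattini.index_of_isCoatom (hG.to_subgroup B) hM
  have hle : ⁅B, (⊤ : Subgroup G)⁆ ≤ M.map B.subtype := fun x hx =>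
    ⟨⟨x, Subgroup.commutator_le_left _ _ hx⟩, hTM hx, rfl⟩
  refine ⟨M.map B.subtype, ⟨fun x hx g => ?_⟩, Subgroup.map_subtype_le _, ?_,
    fun b hb g => hle (Subgroup.commutator_mem_commutator hb (Subgroup.mem_top g))⟩
  · have h1 := hle (Subgroup.commutator_mem_commutator (Subgroup.map_subtype_le M hx) (Subgroup.mem_top g))
    rw [show g * x * g⁻¹ = ⁅x, g⁆⁻¹ * x by rw [commutatorElement_def]; group]
    exact mul_mem (inv_mem h1) hx
  · rw [Subgroup.card_map_of_injective B.subtype_injective, ← hidx, M.card_mul_index]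

theorem index_centralizer_le {G : Type*} [Group G] [Finite G] {p : ℕ} [Fact p.Prime]
    (hG : IsPGroup p G) : ∀ (i : ℕ) (B : Subgroup G) [B.Normal], IsMulCommutative B →
      Nat.card B = p ^ i → (Subgroup.centralizer (B : Set G)).index ≤ p ^ (i * (i - 1) / 2) := by
  intro i
  induction i with
  | zero =>
    intro B _ _ hB
    rw [pow_zero] at hB
    have : Subgroup.centralizer (B : Set G) = ⊤ := by
      rw [Subgroup.eq_bot_of_card_eq B hB, eq_top_iff]
      intro g _ x hx
      rw [show x = 1 from hx]; simp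
    simp [this]
  | succ i ih =>
    intro B _ hab hB
    have hne : B ≠ ⊥ := fun h => by
      rw [h, Subgroup.card_bot] at hB
      exact (Nat.one_lt_pow i.succ_ne_zero (Fact.out : p.Prime).one_lt).ne hB
    obtain ⟨B', hB'n, hB'le, hcard, hcomm⟩ := exists_normal_index_prime hG B hne
    have hB'i : Nat.card B' = p ^ i := Nat.eq_of_mul_eq_mul_right (Fact.out : p.Prime).pos
      (by rw [hcard, hB, pow_succ])
    have h1 := ih B' ⟨⟨fun a b => Subtype.ext (congrArg Subtype.val
      (hab.is_comm.comm ⟨a, hB'le a.2⟩ ⟨b, hB'le b.2⟩) :)⟩⟩ hB'i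
    set C' := Subgroup.centralizer (B' : Set G) with hC'
    set C := Subgroup.centralizer (B : Set G) with hC
    have hCC' : C ≤ C' := Subgroup.centralizer_le hB'le
    obtain ⟨b, hb, hbB'⟩ := SetLike.exists_of_lt (lt_of_le_of_ne hB'le fun he => by
      rw [he, hB] at hB'i
      exact (Nat.pow_lt_pow_right (Fact.out : p.Prime).one_lt i.lt_succ_self).ne' hB'i)
    -- `c ↦ ⁅b, c⁆` is injective on cosets
    have hgen : ∀ g : G, (∀ x ∈ B', x * g = g * x) → b * g = g * b → g ∈ C := by
      intro g h1 h2 x hx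
      let K : Subgroup G := Subgroup.centralizer {g} ⊓ B
      have hB'K : B' < K := lt_of_le_of_ne
        (fun z hz => ⟨Subgroup.mem_centralizer_singleton_iff.mpr (h1 z hz), hB'le hz⟩)
        (fun he => hbB' (he ▸ ⟨Subgroup.mem_centralizer_singleton_iff.mpr h2, hb⟩))
      have hdvd : p ^ i < Nat.card K := by
        rw [← hB'i]
        by_contra hc
        exact hB'K.ne (Subgroup.eq_of_le_of_card_ge hB'K.le (not_lt.mp hc))
      have hKB : Nat.card K ∣ p ^ (i + 1) := hB ▸ Subgroup.card_dvd_of_le inf_le_right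
      obtain ⟨j, hj, hjK⟩ := (Nat.dvd_prime_pow (Fact.out : p.Prime)).mp hKB
      rw [hjK] at hdvd
      have hij : i < j := (Nat.pow_lt_pow_iff_right (Fact.out : p.Prime).one_lt).mp hdvd
      have hKeq : K = B := Subgroup.eq_of_le_of_card_ge inf_le_right
        (by rw [hjK, hB]; exact Nat.pow_le_pow_right (Fact.out : p.Prime).pos hij)
      exact Subgroup.mem_centralizer_singleton_iff.mp (hKeq ▸ hx : x ∈ K).1
    let f : C' ⧸ C.subgroupOf C' → B' := fun q => Quotient.liftOn' q
      (fun c => ⟨⁅b, (c : G)⁆, hcomm b hb c⟩) (fun c d hcd => Subtype.ext (by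
        have hk : (c : G)⁻¹ * d ∈ C := (QuotientGroup.leftRel_apply (s := C.subgroupOf C')).mp hcd
        have h2 : b * ((c : G)⁻¹ * d) = (c : G)⁻¹ * d * b := hk b hb
        have h2' : b⁻¹ * ((c : G)⁻¹ * d) = (c : G)⁻¹ * d * b⁻¹ := hk b⁻¹ (B.inv_mem hb)
        show ⁅b, (c : G)⁆ = ⁅b, (d : G)⁆
        calc ⁅b, (c : G)⁆ = b * c * (b⁻¹ * ((c : G)⁻¹ * d)) * (d : G)⁻¹ := by
              simp only [commutatorElement_def]; group
          _ = ⁅b, (d : G)⁆ := by rw [h2']; simp only [commutatorElement_def]; group))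
    have hf : Function.Injective f := by
      intro q r
      induction q using Quotient.inductionOn' with
      | h c =>
        induction r using Quotient.inductionOn' with
        | h d =>
          intro he
          have he' : ⁅b, (c : G)⁆ = ⁅b, (d : G)⁆ := congrArg Subtype.val he
          apply Quotient.sound'
          rw [QuotientGroup.leftRel_apply]
          refine hgen ((c : G)⁻¹ * d) (fun x hx => (C'.mul_mem (C'.inv_mem c.2) d.2) x hx) ?_
          have h3 : (c : G) * b⁻¹ * (c : G)⁻¹ = (d : G) * b⁻¹ * (d : G)⁻¹ := by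
            simp only [commutatorElement_def, mul_assoc] at he' ⊢
            exact mul_left_cancel he'
          have h4 : (c : G) * b * (c : G)⁻¹ = (d : G) * b * (d : G)⁻¹ := by
            have := congrArg (·⁻¹) h3; simpa [mul_assoc] using this
          calc b * ((c : G)⁻¹ * d) = (c : G)⁻¹ * ((c : G) * b * (c : G)⁻¹) * d := by group
            _ = _ := by rw [h4]; group
    have h2 : C.relIndex C' ≤ p ^ i := hB'i ▸ Nat.card_le_card_of_injective f hf
    have h3 : C.index = C.relIndex C' * C'.index := (Subgroup.relIndex_mul_index hCC').symm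
    rw [h3]
    refine (Nat.mul_le_mul h2 h1).trans ?_
    rw [← pow_add]
    refine Nat.pow_le_pow_right (Fact.out : p.Prime).pos ?_
    have : (i + 1) * (i + 1 - 1) = i * (i - 1) + 2 * i := by cases i <;> simp <;> ring
    omega

theorem card_le_of_maximal {G : Type*} [Group G] [Finite G] {p : ℕ} [Fact p.Prime]
    (hG : IsPGroup p G) (A : Subgroup G) [A.Normal] (hA : IsMulCommutative A)
    (hmax : ∀ B : Subgroup G, B.Normal → IsMulCommutative B → A ≤ B → B = A) (a : ℕ)
    (ha : Nat.card A = p ^ a) : Nat.card G ≤ p ^ (a * (a + 1) / 2) := by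
  haveI : Group.IsNilpotent G := hG.isNilpotent
  haveI := hA
  have hC : Subgroup.centralizer (A : Set G) = A :=
    CfsgLib.OddOrder.SelfCentralizing.centralizer_eq_of_maximal
      (fun B hB hcomm hAB => hmax B hB hcomm hAB)
  have h := index_centralizer_le hG a A hA ha
  rw [hC] at h
  rw [← A.card_mul_index, ha]
  refine (Nat.mul_le_mul_left _ h).trans ?_
  rw [← pow_add]
  refine Nat.pow_le_pow_right (Fact.out : p.Prime).pos ?_
  have : a * (a + 1) = a * (a - 1) + 2 * a := by cases a <;> simp <;> ring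
  omega

/-- The order of a p-group is bounded by p^(a(a+1)/2) when it has a maximal normal abelian subgroup of order p^a. -/
theorem result {G : Type*} [Group G] [Finite G] {p : ℕ} [Fact p.Prime] (hG : IsPGroup p G) (A : Subgroup G) [A.Normal] (hA : IsMulCommutative A) (hmax : ∀ B : Subgroup G, B.Normal → IsMulCommutative B → A ≤ B → B = A) (a : ℕ) (ha : Nat.card A = p ^ a) : Nat.card G ≤ p ^ (a * (a + 1) / 2) := by
  exact card_le_of_maximal hG A hA hmax a ha


end Cfsg.Agent.S0129
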