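import Cfsg.Statements.S0130
import Cfsg.Agent.Lib.Fusion.NormalRankTwo

set_option autoImplicit false
open Cfsg
open scoped commutatorElement IsMulCommutative

namespace Cfsg.Agent.S0130

/-- If A is maximal among the normal abelian subgroups of exponent dividing p^n of a p-group (p^n ≠ 2), then A contains every element of order dividing p^n in its centralizer. -/
theorem result {G : Type*} [Group G] [Finite G] {p : ℕ} [Fact p.Prime] (hG : IsPGroup p G) (n : ℕ) (hn : p ^ n ≠ 2) (A : Subgroup G) [A.Normal] (hA : IsMulCommutative A) (hAe : ∀ a ∈ A, a ^ p ^ n = 1) (hmax : ∀ B : Subgroup G, B.Normal → IsMulCommutative B → (∀ b ∈ B, b ^ p ^ n = 1) → A ≤ B → B = A) (x : G) (hx : x ∈ Subgroup.centralizer (A : Set G)) (hxn : x ^ p ^ n = 1) : x ∈ A := by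
  classical
  have hpp := (Fact.out : p.Prime)
  by_contra hxA
  set C := Subgroup.centralizer (A : Set G) with hC
  haveI : C.Normal := inferInstance
  have hAC : A ≤ C := A.le_centralizer
  have hcentral : ∀ a ∈ A, ∀ c ∈ C, c * a = a * c := fun a ha c hc =>
    (Subgroup.mem_centralizer_iff.mp hc a ha).symm
  -- minimal normal subgroup containing a counterexample
  obtain ⟨N, ⟨hNn, hAN, hNC, x, hxN, hxN', hxA⟩, hmin⟩ := Set.Finite.exists_minimal
    (Set.toFinite {N : Subgroup G | N.Normal ∧ A ≤ N ∧ N ≤ C ∧ ∃ x ∈ N, x ^ p ^ n = 1 ∧ x ∉ A})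
    ⟨C, inferInstance, hAC, le_rfl, x, hx, hxn, hxA⟩
  haveI := hNn
  -- a maximal normal subgroup below it
  obtain ⟨M, ⟨hMn, hAM, hMN, hne⟩, hMmax⟩ := Set.Finite.exists_maximal
    (Set.toFinite {M : Subgroup G | M.Normal ∧ A ≤ M ∧ M ≤ N ∧ ¬ N ≤ M})
    ⟨A, inferInstance, le_rfl, hAN, fun h => hxA (h hxN)⟩
  haveI := hMn
  obtain ⟨x0, hx0N, hx0M, hx0p, hx0c⟩ := CfsgLib.Fusion.NormalRankTwo.exists_central_of_lt hG hne
  haveI hn' := CfsgLib.Fusion.NormalRankTwo.sup_zpowers_normal hx0c
  have hNle : N ≤ M ⊔ Subgroup.zpowers x0 := by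
    by_contra hle
    exact hx0M (hMmax (y := M ⊔ Subgroup.zpowers x0) ⟨hn', hAM.trans le_sup_left,
      sup_le hMN (Subgroup.zpowers_le.mpr hx0N), hle⟩ le_sup_left
      (Subgroup.mem_sup_right (Subgroup.mem_zpowers x0)))
  let π := QuotientGroup.mk' M
  have hx0' : ∀ g, π g * π x0 = π x0 * π g := fun g => by
    rw [← commutatorElement_eq_one_iff_mul_comm, ← map_commutatorElement, QuotientGroup.mk'_apply,
      QuotientGroup.eq_one_iff]
    exact hx0c g
  obtain ⟨m, hm, w, hw, hmw⟩ := Subgroup.mem_sup_of_normal_left.mp (hNle hxN)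
  obtain ⟨k, rfl⟩ := Subgroup.mem_zpowers_iff.mp hw
  have hπm : π m = 1 := (QuotientGroup.eq_one_iff _).mpr hm
  have hxc : ∀ g, ⁅x, g⁆ ∈ M := fun g => by
    rw [← QuotientGroup.eq_one_iff, ← QuotientGroup.mk'_apply, map_commutatorElement,
      commutatorElement_eq_one_iff_mul_comm, ← hmw, map_mul, hπm, one_mul, map_zpow]
    exact ((Commute.zpow_right (hx0' g) k).eq).symm
  have hxp : x ^ p ∈ M := by
    have h0 : π x0 ^ p = 1 := by rw [← map_pow]; exact (QuotientGroup.eq_one_iff _).mpr hx0p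
    rw [← QuotientGroup.eq_one_iff, ← QuotientGroup.mk'_apply, map_pow, ← hmw, map_mul, hπm, one_mul,
      map_zpow, ← zpow_natCast, ← zpow_mul, mul_comm, zpow_mul, zpow_natCast, h0, one_zpow]
  have hMA : ∀ d ∈ M, d ^ p ^ n = 1 → d ∈ A := fun d hd hdn => by
    by_contra hdA
    exact hne (hmin (y := M) ⟨hMn, hAM, hMN.trans hNC, d, hd, hdn, hdA⟩ hMN)
  have hxC : x ∈ C := hNC hxN
  have hxpA : x ^ p ∈ A := hMA _ hxp (by rw [← pow_mul, mul_comm, pow_mul, hxN', one_pow])
  obtain ⟨c, hc⟩ := (hG.isNilpotent : Group.IsNilpotent G).nilpotent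
  have hdvd : p ∣ (p ^ n).choose 2 := by
    rcases Nat.eq_zero_or_pos n with rfl | hn0
    · simp [Nat.choose_eq_zero_of_lt]
    · have h3 : 2 < p ^ n := by
        rcases lt_or_eq_of_le (le_trans hpp.two_le (Nat.le_self_pow (Nat.pos_iff_ne_zero.mp hn0) p)) with h | h
        · exact h
        · exact absurd h.symm hn
      exact hpp.dvd_choose_pow two_ne_zero (Ne.symm (ne_of_gt h3))
  have hkey : ∀ i : ℕ, ∀ g ∈ (⊤ : Subgroup G).lowerCentralSeries i, ⁅x, g⁆ ∈ A := by
    have hclass : ∃ c : ℕ, (⊤ : Subgroup G).lowerCentralSeries c = ⊥ :=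
      Subgroup.nilpotent_iff_lowerCentralSeries.mp hG.isNilpotent
    obtain ⟨c, hc⟩ := hclass
    suffices ∀ j i : ℕ, c ≤ i + j → ∀ g ∈ (⊤ : Subgroup G).lowerCentralSeries i, ⁅x, g⁆ ∈ A from
      fun i => this c i (by omega)
    intro j
    induction j with
    | zero =>
      intro i hi g hg
      have : g ∈ (⊤ : Subgroup G).lowerCentralSeries c := Subgroup.lowerCentralSeries_antitone _ (show c ≤ i by omega) hg
      rw [hc, Subgroup.mem_bot] at this
      subst this
      simp
    | succ j ih =>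
      intro i hi g hg
      set d := ⁅x, g⁆ with hd
      have hd1 : d ∈ (⊤ : Subgroup G).lowerCentralSeries (i + 1) := by
        rw [hd, ← commutatorElement_inv]
        exact inv_mem (Subgroup.commutator_mem_commutator hg (Subgroup.mem_top x))
      have hdx : ⁅x, d⁆ ∈ A := ih (i + 1) (by omega) d hd1
      have hdM : d ∈ M := hxc g
      set y := g * x⁻¹ * g⁻¹ with hy
      have hyd : x * y = d := by rw [hd, hy]; simp [commutatorElement_def, mul_assoc]
      have hyC : y ∈ C := Subgroup.Normal.conj_mem inferInstance _ (inv_mem hxC) g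
      set e := ⁅y, x⁆ with he
      have hedx : e = ⁅x, d⁆⁻¹ := by
        have h1 : e = x⁻¹ * ⁅x, d⁆⁻¹ * x := by
          rw [he, show y = x⁻¹ * d by rw [← hyd]; group]
          simp [commutatorElement_def, mul_assoc]
        rw [h1, mul_assoc, ← hcentral _ (inv_mem hdx) x hxC, inv_mul_cancel_left]
      have heA : e ∈ A := hedx ▸ inv_mem hdx
      have hxe : x * e = e * x := hcentral e heA x hxC
      have hye : y * e = e * y := hcentral e heA y hyC
      have hep : e ^ p = 1 := by
        have hswap : x * y = e⁻¹ * y * x := by rw [he]; simp [commutatorElement_def, mul_assoc]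
        have hxk : ∀ k : ℕ, x ^ k * y = (e⁻¹) ^ k * y * x ^ k := by
          intro k
          induction k with
          | zero => simp
          | succ k ihk =>
            have hxe' : Commute x ((e⁻¹) ^ k) := (Commute.inv_right hxe).pow_right k
            calc x ^ (k + 1) * y = x * (x ^ k * y) := by rw [pow_succ', mul_assoc]
              _ = (x * (e⁻¹) ^ k) * y * x ^ k := by rw [ihk]; group
              _ = (e⁻¹) ^ k * (x * y) * x ^ k := by rw [hxe'.eq]; group
              _ = (e⁻¹) ^ (k + 1) * y * x ^ (k + 1) := by rw [hswap, pow_succ e⁻¹, pow_succ' x]; group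
        have h2 := hxk p
        rw [← hcentral _ hxpA y hyC] at h2
        rw [mul_left_inj, right_eq_mul, inv_pow, inv_eq_one] at h2
        exact h2
      refine hMA d hdM ?_
      rw [← hyd, CfsgLib.Fusion.ClassThree.mul_pow_eq (c := e) (a := 1) (b := 1)
        (CfsgLib.Fusion.ClassThree.swap_eq x y) (by rw [hxe, one_mul]) (by rw [hye, one_mul])
        (one_mem _) (one_mem _)]
      have hyn : y ^ p ^ n = 1 := by rw [hy, conj_pow, inv_pow, hxN']; simp
      obtain ⟨q, hq⟩ := hdvd
      rw [hxN', hyn, hq, pow_mul, hep]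
      simp
  have hxgA : ∀ g, ⁅x, g⁆ ∈ A := fun g => hkey 0 g (by simp)
  have hnorm : (A ⊔ Subgroup.zpowers x).Normal := CfsgLib.Fusion.NormalRankTwo.sup_zpowers_normal fun g => by
    rw [← commutatorElement_inv]; exact inv_mem (hxgA g)
  have hab : IsMulCommutative (A ⊔ Subgroup.zpowers x : Subgroup G) := by
    rw [← Subgroup.closure_eq A, Subgroup.zpowers_eq_closure, ← Subgroup.closure_union]
    refine Subgroup.isMulCommutative_closure ?_
    rintro a (ha | rfl) b (hb | rfl)
    · exact hcentral b hb a (hAC ha)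
    · exact (hcentral a ha _ hxC).symm
    · exact hcentral b hb _ hxC
    · rfl
  refine hxA ((hmax _ hnorm hab (fun b hb => ?_) le_sup_left) ▸
    Subgroup.mem_sup_right (Subgroup.mem_zpowers x))
  obtain ⟨a, ha, w, hw, rfl⟩ := Subgroup.mem_sup_of_normal_left.mp hb
  obtain ⟨k, rfl⟩ := Subgroup.mem_zpowers_iff.mp hw
  have hco : Commute a (x ^ k) := (show Commute a x from (hcentral a ha x hxC).symm).zpow_right k
  rw [hco.mul_pow, hAe a ha, one_mul, ← zpow_natCast, ← zpow_mul, mul_comm, zpow_mul, zpow_natCast, hxN',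
    one_zpow]

end Cfsg.Agent.S0130
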