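import Cfsg.Statements.S0131
import Cfsg.Agent.Lib.Fusion.Abelian

set_option autoImplicit false
open Cfsg
open scoped commutatorElement

namespace Cfsg.Agent.S0131

/-- P/P' has a normal complement in G exactly when the focal subgroup G' ∩ P is as small as possible, namely P'. -/
theorem result {G : Type*} [Group G] [Finite G] {p : ℕ} [Fact p.Prime] (P : Sylow p G) : (∃ N : Subgroup G, N.Normal ∧ N ⊓ (P : Subgroup G) = ⁅(P : Subgroup G), (P : Subgroup G)⁆ ∧ N ⊔ (P : Subgroup G) = ⊤) ↔ commutator G ⊓ (P : Subgroup G) = ⁅(P : Subgroup G), (P : Subgroup G)⁆ := by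
  constructor
  · rintro ⟨N, hN, h1, h2⟩
    refine le_antisymm ?_ (le_inf (Subgroup.commutator_mono le_top le_top)
      ((Subgroup.map_subtype_commutator _).symm.trans_le (Subgroup.map_subtype_le _)))
    rintro x ⟨hxc, hxP⟩
    rw [← h1]
    refine ⟨?_, hxP⟩
    -- `G ⧸ N` is abelian
    refine (?_ : commutator G ≤ N) hxc
    rw [commutator_def, Subgroup.commutator_le]
    intro a _ b _
    have hmem : ∀ g : G, ∃ u ∈ (P : Subgroup G), QuotientGroup.mk' N g = QuotientGroup.mk' N u := by
      intro g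
      have hg : g ∈ ((N ⊔ (P : Subgroup G) : Subgroup G) : Set G) := by rw [h2]; exact Subgroup.mem_top g
      rw [Subgroup.normal_mul] at hg
      obtain ⟨n, hn, u, hu, rfl⟩ := Set.mem_mul.mp hg
      exact ⟨u, hu, by rw [map_mul, show QuotientGroup.mk' N n = 1 from (QuotientGroup.eq_one_iff n).mpr hn, one_mul]⟩
    obtain ⟨u, hu, ha⟩ := hmem a
    obtain ⟨v, hv, hb⟩ := hmem b
    have h3 : (⁅u, v⁆ : G) ∈ N := (h1.ge (Subgroup.commutator_mem_commutator hu hv)).1
    rw [← QuotientGroup.eq_one_iff, ← QuotientGroup.mk'_apply, map_commutatorElement, ha, hb,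
      ← map_commutatorElement]
    exact (QuotientGroup.eq_one_iff _).mpr h3
  · intro h
    have hco : Nat.Coprime (P : Subgroup G).index
        ((⁅(P : Subgroup G), (P : Subgroup G)⁆).relIndex (P : Subgroup G)) :=
      (P.card_coprime_index.coprime_dvd_left (Subgroup.relIndex_dvd_card _ _)).symm
    obtain ⟨h1, h2⟩ := CfsgLib.Fusion.Abelian.focal_of_coprime (P : Subgroup G) hco
    exact ⟨_, inferInstance, by rw [CfsgLib.Fusion.Abelian.ker_transferFocal_inf _ hco, h1, h], h2⟩


end Cfsg.Agent.S0131
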