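import Cfsg.Statements.S0138
import Cfsg.Agent.Lib.Char.Basic
-- import your own Cfsg.Agent.* helpers here

set_option autoImplicit false
open Cfsg

namespace Cfsg.Agent.S0138

/-- A character value has absolute value equal to the degree exactly when the group element acts by a scalar. -/
theorem result {G : Type*} [Group G] [Finite G] {V : Type*} [AddCommGroup V] [Module ℂ V] [FiniteDimensional ℂ V] (ρ : Representation ℂ G V) (g : G) : ‖ρ.character g‖ = (Module.finrank ℂ V : ℝ) ↔ ∃ ω : ℂ, ρ g = ω • (LinearMap.id : V →ₗ[ℂ] V) := by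
  refine ⟨fun h => ?_, ?_⟩
  · obtain ⟨ω, -, hω, -⟩ := CfsgLib.Char.exists_scalar_of_norm_char_eq ρ g h
    exact ⟨ω, hω⟩
  · rintro ⟨ω, hω⟩
    have hc : ρ.character g = ω * (Module.finrank ℂ V : ℂ) := by
      simp [Representation.character, hω]
    rcases Nat.eq_zero_or_pos (Module.finrank ℂ V) with h0 | h0
    · simp [hc, h0]
    · obtain ⟨b, μ, hμ, hk⟩ := CfsgLib.Char.exists_eigenbasis ρ g
      let i : Fin (Module.finrank ℂ V) := ⟨0, h0⟩
      have h1 := hk 1 i
      rw [pow_one, pow_one, hω, LinearMap.smul_apply, LinearMap.id_apply] at h1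
      rw [hc, smul_left_injective ℂ (b.ne_zero i) h1, norm_mul,
        CfsgLib.Char.norm_eq_one_of_pow_orderOf (hμ i), one_mul, Complex.norm_natCast]
end Cfsg.Agent.S0138
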