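import Cfsg.Statements.S0145
import Cfsg.Agent.Lib.Char.Orth
-- import your own Cfsg.Agent.* helpers here

set_option autoImplicit false
open scoped ComplexConjugate
open Cfsg

namespace Cfsg.Agent.S0145

/-- Column orthogonality: the sum over the irreducible characters χ of χ g * conj (χ h) is the order of the centralizer of g if g and h are conjugate, and is 0 otherwise. -/
theorem result {G : Type*} [Group G] [Finite G] (g h : G) : (IsConj g h → ∑ᶠ χ : Cfsg.IrrCharacter G, (χ : G → ℂ) g * conj ((χ : G → ℂ) h) = (Nat.card (Subgroup.centralizer ({g} : Set G)) : ℂ)) ∧ (¬ IsConj g h → ∑ᶠ χ : Cfsg.IrrCharacter G, (χ : G → ℂ) g * conj ((χ : G → ℂ) h) = 0) := by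
  classical
  cases nonempty_fintype G
  rw [finsum_eq_sum_of_fintype, CfsgLib.Char.sum_irr_mul_conj]
  refine ⟨fun hgh => ?_, fun hgh => if_neg hgh⟩
  rw [if_pos hgh]
  congr 1
  have h1 := CfsgLib.Char.card_conjugates_mul g
  have h2 := CfsgLib.Char.card_conjugates_mul h
  have e : Nat.card {x : G // IsConj x g} = Nat.card {x : G // IsConj x h} :=
    Nat.card_congr (Equiv.subtypeEquivRight fun x => ⟨fun hx => hx.trans hgh, fun hx => hx.trans hgh.symm⟩)
  rw [e, ← h2] at h1
  have : Nonempty {x : G // IsConj x h} := ⟨⟨h, IsConj.refl h⟩⟩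
  exact Nat.eq_of_mul_eq_mul_left Nat.card_pos h1.symm
end Cfsg.Agent.S0145
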