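import Cfsg.Statements.S0149
import Cfsg.Agent.Lib.Char.Induced
-- import your own Cfsg.Agent.* helpers here

set_option autoImplicit false
open Cfsg

namespace Cfsg.Agent.S0149

theorem apply_of_mem {G : Type*} [Group G] [Fintype G] (T : Set G)
    (hTI : ∀ g : G, g ∉ Subgroup.normalizer T → ∀ t ∈ T, g * t * g⁻¹ ∈ T → t = 1)
    (ψ : Subgroup.normalizer T → ℂ) (hψ : Cfsg.IsClassFunction (Subgroup.normalizer T) ψ)
    (hψT : ∀ x : Subgroup.normalizer T, (x : G) ∉ T → ψ x = 0)
    (t : Subgroup.normalizer T) (htT : (t : G) ∈ T) (ht1 : t ≠ 1) :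
    Cfsg.indFun (Subgroup.normalizer T) ψ t = ψ t := by
  classical
  have h : ∀ x : G, Cfsg.extendByZero (Subgroup.normalizer T) ψ (x⁻¹ * (t : G) * x) =
      if x ∈ Subgroup.normalizer T then ψ t else 0 := by
    intro x
    split_ifs with hx
    · rw [CfsgLib.Char.extendByZero_apply_mem _ _
        (Subgroup.mul_mem _ (Subgroup.mul_mem _ (Subgroup.inv_mem _ hx) t.2) hx),
        ← hψ t ⟨x⁻¹, Subgroup.inv_mem _ hx⟩]
      exact congrArg ψ (Subtype.ext (by simp))
    · by_cases hm : x⁻¹ * (t : G) * x ∈ Subgroup.normalizer T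
      · rw [CfsgLib.Char.extendByZero_apply_mem _ _ hm]
        refine hψT _ fun hT => ht1 (Subtype.ext ?_)
        exact hTI x⁻¹ (fun hi => hx (inv_inv x ▸ Subgroup.inv_mem _ hi)) t htT (by simpa using hT)
      · exact CfsgLib.Char.extendByZero_apply_notMem _ _ hm
  rw [CfsgLib.Char.indFun_def, Finset.sum_congr rfl fun x _ => h x, ← Finset.sum_filter,
    Finset.sum_const, nsmul_eq_mul, ← mul_assoc,
    show ((Finset.univ.filter fun x => x ∈ Subgroup.normalizer T).card : ℂ) =
      (Nat.card (Subgroup.normalizer T) : ℂ) by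
      rw [Nat.card_eq_fintype_card, ← Fintype.card_subtype],
    inv_mul_cancel₀ (by exact_mod_cast Nat.card_pos.ne'), one_mul]

/-- Let T be a subset of G meeting each of its conjugates by elements outside its normalizer N only in the identity, and let ψ be a class function of N vanishing on N away from T. Then the function induced from ψ agrees with ψ at every non-identity element of T. -/
theorem result {G : Type*} [Group G] [Fintype G] (T : Set G) (hTI : ∀ g : G, g ∉ Subgroup.normalizer T → ∀ t ∈ T, g * t * g⁻¹ ∈ T → t = 1) (hTN : T ⊆ Subgroup.normalizer T) (ψ : Subgroup.normalizer T → ℂ) (hψ : Cfsg.IsClassFunction (Subgroup.normalizer T) ψ) (hψT : ∀ x : Subgroup.normalizer T, (x : G) ∉ T → ψ x = 0) (t : Subgroup.normalizer T) (htT : (t : G) ∈ T) (ht1 : t ≠ 1) : Cfsg.indFun (Subgroup.normalizer T) ψ t = ψ t := by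
  exact apply_of_mem T hTI ψ hψ hψT t htT ht1


end Cfsg.Agent.S0149
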