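import Cfsg.Statements.S0162
import Cfsg.Agent.Lib.Char.Integral
import Cfsg.Agent.S0161
-- import your own Cfsg.Agent.* helpers here

set_option autoImplicit false
open Cfsg

namespace Cfsg.Agent.S0162

theorem card_modEq {G : Type*} [Group G] [Finite G] (hodd : Odd (Nat.card G)) :
    Nat.card G ≡ Nat.card (ConjClasses G) [MOD 16] := by
  classical
  cases nonempty_fintype G
  choose d hd hdd using fun χ : Cfsg.IrrCharacter G =>
    CfsgLib.Char.IsIrrCharacter.apply_one_dvd_card χ.2
  have hG : ∑ χ, d χ ^ 2 = Nat.card G := by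
    have h := CfsgLib.Char.sum_sq_apply_one (G := G)
    simp only [hd] at h
    exact_mod_cast h
  rw [← CfsgLib.Char.card_irrCharacter, ← hG, Nat.card_eq_fintype_card,
    ← (ZMod.natCast_eq_natCast_iff _ _ 16)]
  push_cast
  have hsub : (∑ χ : Cfsg.IrrCharacter G, ((d χ : ZMod 16) ^ 2 - 1)) = 0 := by
    refine Finset.sum_involution
      (fun χ _ => ⟨_, CfsgLib.Char.IsIrrCharacter.conj' χ.2⟩) ?_ ?_ (fun _ _ => Finset.mem_univ _) ?_
    · intro χ _
      have hdc : d ⟨_, CfsgLib.Char.IsIrrCharacter.conj' χ.2⟩ = d χ := by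
        have h1 := hd ⟨_, CfsgLib.Char.IsIrrCharacter.conj' χ.2⟩
        simp only [hd χ, map_natCast] at h1
        exact_mod_cast h1.symm
      rw [hdc]
      have hoddd : d χ % 2 = 1 := Nat.odd_iff.mp (Odd.of_dvd_nat hodd (hdd χ))
      have key : ∀ x : ZMod 16, x.val % 2 = 1 → (x ^ 2 - 1) + (x ^ 2 - 1) = 0 := by decide
      refine key _ ?_
      rw [ZMod.val_natCast]
      omega
    · intro χ _ hne heq
      refine hne ?_
      have h1 := Cfsg.Agent.S0161.real_unique hodd χ fun g =>
        Complex.conj_eq_iff_im.mp (congrFun (congrArg Subtype.val heq) g)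
      have hd1 : d χ = 1 := by
        have h2 := hd χ
        rw [h1] at h2 ⊢
        have h3 : ((d ⟨_, CfsgLib.Char.isIrrCharacter_one⟩ : ℕ) : ℂ) = ((1 : ℕ) : ℂ) := by
          rw [← h2, Nat.cast_one]
        exact Nat.cast_injective h3
      rw [hd1]; simp
    · intro χ _
      ext g
      simp
  rw [Finset.sum_sub_distrib, sub_eq_zero] at hsub
  simpa using hsub

/-- If a finite group has odd order, its order is congruent to its number of conjugacy classes modulo 16. -/
theorem result {G : Type*} [Group G] [Finite G] (hodd : Odd (Nat.card G)) : Nat.card G ≡ Nat.card (ConjClasses G) [MOD 16] := by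
  exact card_modEq hodd


end Cfsg.Agent.S0162
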