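import Cfsg.Statements.S0163
import Cfsg.Agent.Lib.Char.Monomial
-- import your own Cfsg.Agent.* helpers here

set_option autoImplicit false
open Cfsg

namespace Cfsg.Agent.S0163

/-- Brauer's induction Theorem: every character of a finite group is a ℤ-linear combination of functions induced from linear characters (homomorphisms to ℂˣ) of elementary subgroups. -/
theorem result {G : Type*} [Group G] [Fintype G] (χ : G → ℂ) (hχ : Cfsg.IsCharacter G χ) : ∃ l : List ((E : Subgroup G) × ((E →* ℂˣ) × ℤ)), (∀ t ∈ l, ∃ p : ℕ, p.Prime ∧ Cfsg.IsElementary p t.1) ∧ χ = (l.map fun t => (t.2.2 : ℂ) • Cfsg.indFun t.1 (fun e => (t.2.1 e : ℂ))).sum := by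

  have h := CfsgLib.Char.brauer_induction (CfsgLib.Char.IsCharacter.isGeneralizedCharacter hχ)
  clear hχ
  induction h using AddSubgroup.closure_induction with
  | mem f hf =>
    obtain ⟨E, lam, p, hp, hE, rfl⟩ := hf
    exact ⟨[⟨E, lam, 1⟩], fun t ht => by rw [List.mem_singleton] at ht; subst ht; exact ⟨p, hp, hE⟩,
      by simp⟩
  | zero => exact ⟨[], fun t ht => absurd ht List.not_mem_nil, by simp⟩
  | add x y _ _ hx hy =>
    obtain ⟨l, hl, e⟩ := hx
    obtain ⟨l', hl', e'⟩ := hy
    exact ⟨l ++ l', fun t ht => (List.mem_append.mp ht).elim (hl t) (hl' t), by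
      rw [List.map_append, List.sum_append, ← e, ← e']⟩
  | neg x _ hx =>
    obtain ⟨l, hl, e⟩ := hx
    refine ⟨l.map fun t => ⟨t.1, t.2.1, -t.2.2⟩, fun t ht => ?_, ?_⟩
    · obtain ⟨s, hs, rfl⟩ := List.mem_map.mp ht
      exact hl s hs
    · rw [e, List.sum_neg, List.map_map, List.map_map]
      refine congrArg _ (List.map_congr_left fun t _ => ?_)
      simp [neg_smul]


end Cfsg.Agent.S0163
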