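import Cfsg.Statements.S0167
import Cfsg.Agent.Lib.Char.ClassSum
-- import your own Cfsg.Agent.* helpers here

set_option autoImplicit false
open Cfsg

namespace Cfsg.Agent.S0167

/-- An element g of a finite group is a commutator if and only if the sum over the irreducible characters χ of χ g / χ 1 is nonzero. -/
theorem result {G : Type*} [Group G] [Finite G] (g : G) : (∃ a b : G, g = a * b * a⁻¹ * b⁻¹) ↔ ∑ᶠ χ : Cfsg.IrrCharacter G, (χ : G → ℂ) g / (χ : G → ℂ) 1 ≠ 0 := by
  classical
  cases nonempty_fintype G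
  rw [finsum_eq_sum_of_fintype]
  have h := CfsgLib.Char.card_commutator_eq g
  have hiff : (∃ a b : G, g = a * b * a⁻¹ * b⁻¹) ↔
      Nat.card {p : G × G // p.1 * p.2 * p.1⁻¹ * p.2⁻¹ = g} ≠ 0 := by
    rw [Nat.card_ne_zero, and_iff_left (show Finite {p : G × G // p.1 * p.2 * p.1⁻¹ * p.2⁻¹ = g} from inferInstance), nonempty_subtype, Prod.exists]
    simp only [eq_comm]
  rw [hiff, ← Nat.cast_ne_zero (R := ℂ), h, mul_ne_zero_iff, and_iff_right CfsgLib.Char.card_ne_zero]


end Cfsg.Agent.S0167
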