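import Cfsg.Statements.S0168
import Cfsg.Agent.Lib.Char.Orth
-- import your own Cfsg.Agent.* helpers here

set_option autoImplicit false
open Cfsg

namespace Cfsg.Agent.S0168

open Polynomial in
theorem burnside_brauer {G : Type*} [Group G] [Fintype G] {V : Type*} [AddCommGroup V] [Module ℂ V]
    [FiniteDimensional ℂ V] (ρ : Representation ℂ G V) (hf : Function.Injective ρ) (ψ : G → ℂ)
    (hψ : Cfsg.IsIrrCharacter G ψ) :
    ∃ i : ℕ, i < Nat.card (Set.range ρ.character) ∧
      Cfsg.classInner (fun g => ρ.character g ^ i) ψ ≠ 0 := by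
  classical
  set R : Finset ℂ := Finset.univ.image ρ.character with hR
  have hm : Nat.card (Set.range ρ.character) = R.card := by
    rw [hR, ← Set.toFinset_range, Set.toFinset_card, Nat.card_eq_fintype_card]
  set d : ℂ := (Module.finrank ℂ V : ℂ) with hd
  set F : ℂ[X] := ∏ a ∈ R.erase d, (X - C a) with hF
  have hdR : d ∈ R := Finset.mem_image.mpr ⟨1, Finset.mem_univ _, ρ.char_one⟩
  have hdeg : F.natDegree < R.card := by
    rw [hF, Polynomial.natDegree_finsetProd_X_sub_C_eq_card, Finset.card_erase_of_mem hdR]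
    exact Nat.sub_lt (Finset.card_pos.mpr ⟨d, hdR⟩) one_pos
  by_contra hcon
  push Not at hcon
  have h0 : Cfsg.classInner (fun g => F.eval (ρ.character g)) ψ = 0 := by
    have : (fun g => F.eval (ρ.character g)) =
        ∑ i ∈ Finset.range R.card, F.coeff i • (fun g => ρ.character g ^ i) := by
      funext g
      rw [Polynomial.eval_eq_sum_range' hdeg]
      simp [Finset.sum_apply]
    rw [this, CfsgLib.Char.classInner_sum_left]
    refine Finset.sum_eq_zero fun i hi => ?_
    rw [CfsgLib.Char.classInner_smul_left, hcon i (hm ▸ Finset.mem_range.mp hi), mul_zero]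
  have hval : ∀ g : G, g ≠ 1 → F.eval (ρ.character g) = 0 := by
    intro g hg
    rw [hF, Polynomial.eval_prod]
    refine Finset.prod_eq_zero (i := ρ.character g) (Finset.mem_erase.mpr ⟨fun h => hg (hf ?_),
      Finset.mem_image.mpr ⟨g, Finset.mem_univ _, rfl⟩⟩) (by simp)
    rw [(CfsgLib.Char.char_eq_finrank_iff ρ g).mp h, map_one]
    rfl
  rw [Cfsg.classInner, Finset.sum_eq_single (1 : G) (fun g _ hg => by rw [hval g hg, zero_mul])
    (fun h => absurd (Finset.mem_univ _) h), mul_eq_zero, mul_eq_zero] at h0
  rcases h0 with h | h | h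
  · exact inv_ne_zero CfsgLib.Char.card_ne_zero h
  · rw [ρ.char_one, hF, Polynomial.eval_prod, Finset.prod_eq_zero_iff] at h
    obtain ⟨a, ha, ha0⟩ := h
    simp only [Polynomial.eval_sub, Polynomial.eval_X, Polynomial.eval_C, sub_eq_zero] at ha0
    exact (Finset.mem_erase.mp ha).1 ha0.symm
  · exact CfsgLib.Char.IsIrrCharacter.apply_one_ne_zero hψ (by simpa using congrArg (starRingEnd ℂ) h)

/-- The Burnside–Brauer Theorem. Let χ be the character of a faithful complex representation of a finite group, taking m distinct values. Then every irreducible character has nonzero inner product with χ ^ i for some i < m. -/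
theorem result {G : Type*} [Group G] [Fintype G] {V : Type*} [AddCommGroup V] [Module ℂ V] [FiniteDimensional ℂ V] (ρ : Representation ℂ G V) (hfaithful : Function.Injective ρ) (ψ : G → ℂ) (hψ : Cfsg.IsIrrCharacter G ψ) : ∃ i : ℕ, i < Nat.card (Set.range ρ.character) ∧ Cfsg.classInner (fun g => ρ.character g ^ i) ψ ≠ 0 := by
  exact burnside_brauer ρ hfaithful ψ hψ


end Cfsg.Agent.S0168
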