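import Cfsg.Statements.S0170
import Cfsg.Agent.Lib.Char.Virtual
import Cfsg.Agent.Lib.Char.TI
-- import your own Cfsg.Agent.* helpers here

set_option autoImplicit false
open Cfsg

namespace Cfsg.Agent.S0170

/-- Exceptional characters. Let S be a subset of a finite group contained in its normalizer N and meeting its conjugates by elements outside N only in the identity. Given n ≥ 2 distinct irreducible characters of N of equal degree that vanish on N away from S, there exist a sign ε and n distinct irreducible characters θ_i of G such that inducing χ_i − χ_j to G gives ε (θ_i − θ_j) for all i, j. -/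
theorem result {G : Type*} [Group G] [Fintype G] (S : Set G) (hSN : S ⊆ Subgroup.normalizer S) (hTI : ∀ g : G, g ∉ Subgroup.normalizer S → ∀ s ∈ S, g * s * g⁻¹ ∈ S → s = 1) (n : ℕ) (hn : 2 ≤ n) (χ : Fin n → (Subgroup.normalizer S → ℂ)) (hirr : ∀ i, Cfsg.IsIrrCharacter (Subgroup.normalizer S) (χ i)) (hinj : Function.Injective χ) (hvan : ∀ i, ∀ x : Subgroup.normalizer S, (x : G) ∉ S → χ i x = 0) (hdeg : ∀ i j, χ i 1 = χ j 1) : ∃ ε : ℂ, (ε = 1 ∨ ε = -1) ∧ ∃ θ : Fin n → (G → ℂ), (∀ i, Cfsg.IsIrrCharacter G (θ i)) ∧ Function.Injective θ ∧ ∀ i j, Cfsg.indFun (Subgroup.normalizer S) (χ i) - Cfsg.indFun (Subgroup.normalizer S) (χ j) = ε • (θ i - θ j) := by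

  classical
  cases nonempty_fintype ↥(Subgroup.normalizer S)
  have hTI' : ∀ x y : G, y ∈ S \ {1} → x * y * x⁻¹ ∈ S \ {1} → x ∈ (Subgroup.normalizer S) := by
    intro x y hy hxy
    by_contra hx
    exact hy.2 (hTI x hx y hy.1 hxy.1)
  let i₀ : Fin n := ⟨0, by omega⟩
  have hV : ∀ i j, ∀ x : (Subgroup.normalizer S), (x : G) ∉ S \ {1} → (χ i - χ j) x = 0 := by
    intro i j x hx
    by_cases h1 : (x : G) = 1
    · rw [show x = 1 from Subtype.ext h1, Pi.sub_apply, hdeg i j, sub_self]
    · rw [Pi.sub_apply, hvan i x fun h => hx ⟨h, h1⟩, hvan j x fun h => hx ⟨h, h1⟩, sub_self]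
  have hgen : ∀ i j, Cfsg.IsGeneralizedCharacter (Subgroup.normalizer S) (χ i - χ j) := fun i j =>
    ⟨_, _, CfsgLib.Char.IsIrrCharacter.isCharacter (hirr i),
      CfsgLib.Char.IsIrrCharacter.isCharacter (hirr j), rfl⟩
  have hcf : ∀ i j, Cfsg.IsClassFunction (Subgroup.normalizer S) (χ i - χ j) := fun i j =>
    CfsgLib.Char.IsGeneralizedCharacter.isClassFunction (hgen i j)
  obtain ⟨ε, hε, θ, hθ, hθi, hτ⟩ := CfsgLib.Char.exists_exceptional i₀
    (fun i => Cfsg.indFun (Subgroup.normalizer S) (χ i - χ i₀))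
    (by simp only [sub_self]; funext g; simp [CfsgLib.Char.indFun_def, Cfsg.extendByZero, Function.extend_def])
    (fun i => CfsgLib.Char.IsGeneralizedCharacter.indFun (Subgroup.normalizer S) (hgen i i₀))
    (fun i => by
      rw [CfsgLib.Char.indFun_one, Pi.sub_apply, hdeg i i₀, sub_self, mul_zero])
    (fun i j hi hj => by
      rw [CfsgLib.Char.classInner_indFun_of_ti hTI' (hV i i₀) (hcf j i₀) (hV j i₀),
        CfsgLib.Char.classInner_irr_sub (hirr i) (hirr i₀) (hirr j) (hirr i₀),
        if_neg (fun h => hi (hinj h)), if_neg (fun h => hj (hinj h).symm), if_pos rfl]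
      constructor
      · intro e; rw [if_pos (by rw [e])]; norm_num
      · intro e; rw [if_neg (fun h => e (hinj h))]; norm_num)
  refine ⟨ε, hε, θ, hθ, hθi, fun i j => ?_⟩
  have h1 := hτ i
  have h2 := hτ j
  simp only [CfsgLib.Char.indFun_sub] at h1 h2
  have h3 : Cfsg.indFun (Subgroup.normalizer S) (χ i) - Cfsg.indFun (Subgroup.normalizer S) (χ j) =
      (Cfsg.indFun (Subgroup.normalizer S) (χ i) - Cfsg.indFun (Subgroup.normalizer S) (χ i₀)) - (Cfsg.indFun (Subgroup.normalizer S) (χ j) - Cfsg.indFun (Subgroup.normalizer S) (χ i₀)) := by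
    abel
  rw [h3, h1, h2, ← smul_sub, sub_sub_sub_cancel_right]


end Cfsg.Agent.S0170
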