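import Cfsg.Statements.S0172
import Cfsg.Agent.Lib.Char.Frobenius
-- import your own Cfsg.Agent.* helpers here

set_option autoImplicit false
open Cfsg

namespace Cfsg.Agent.S0172

open CfsgLib.Char in
theorem classNumber {G : Type*} [Group G] [Finite G] (K H : Subgroup G) [K.Normal]
    (hKH : K ⊓ H = ⊥) (hKH' : K ⊔ H = ⊤)
    (hfpf : ∀ h ∈ H, h ≠ 1 → ∀ k ∈ K, h * k = k * h → k = 1) :
    Nat.card H * Nat.card (ConjClasses G) + 1 =
      Nat.card H * Nat.card (ConjClasses H) + Nat.card (ConjClasses K) := by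
  classical
  cases nonempty_fintype G
  have hC := frobenius_centralizer_le K H hKH hKH' hfpf
  have hbij : Function.Bijective ((QuotientGroup.mk' K).comp H.subtype) := by
    refine ⟨(injective_iff_map_eq_one _).mpr fun a ha => ?_, fun q => ?_⟩
    · have h1 : (a : G) ∈ K := (QuotientGroup.eq_one_iff _).mp ha
      have h2 : (a : G) ∈ K ⊓ H := ⟨h1, a.2⟩
      rw [hKH, Subgroup.mem_bot] at h2
      exact Subtype.ext h2
    · obtain ⟨g, rfl⟩ := QuotientGroup.mk'_surjective K q
      obtain ⟨a, ha, b, hb, rfl⟩ :=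
        Subgroup.mem_sup_of_normal_left.mp (hKH' ▸ Subgroup.mem_top g : g ∈ K ⊔ H)
      refine ⟨⟨b, hb⟩, ?_⟩
      rw [MonoidHom.comp_apply, map_mul, QuotientGroup.mk'_apply K a,
        (QuotientGroup.eq_one_iff a).mpr ha, one_mul]
      rfl
  let e : H ≃* G ⧸ K := MulEquiv.ofBijective _ hbij
  have hidx : Nat.card G = Nat.card H * Nat.card K := by
    rw [Nat.card_congr e.toEquiv, ← Subgroup.index_eq_card, Subgroup.index_mul_card]
  let P : Cfsg.IrrCharacter G → Prop := fun χ => ∀ k ∈ K, (χ : G → ℂ) k = (χ : G → ℂ) 1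
  have hP : Nat.card {χ // P χ} = Nat.card (ConjClasses H) := by
    have h1 : Nat.card {χ // P χ} = Nat.card (Cfsg.IrrCharacter (G ⧸ K)) :=
      Nat.card_congr (irrQuotientEquiv K).symm
    have : Fintype (G ⧸ K) := Fintype.ofFinite _
    have h2 : Nat.card (Cfsg.IrrCharacter (G ⧸ K)) = Nat.card (Cfsg.IrrCharacter H) :=
      Nat.card_congr
        { toFun := fun χ => ⟨(χ : G ⧸ K → ℂ) ∘ e, IsIrrCharacter.comp_equiv χ.2 e⟩
          invFun := fun χ => ⟨(χ : H → ℂ) ∘ e.symm, IsIrrCharacter.comp_equiv χ.2 e.symm⟩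
          left_inv := fun χ => Subtype.ext (funext fun q => by simp)
          right_inv := fun χ => Subtype.ext (funext fun q => by simp) }
    rw [h1, h2, card_irrCharacter]
  let one' : Cfsg.IrrCharacter K := ⟨_, isIrrCharacter_one⟩
  have hker : ∀ φ : Cfsg.IrrCharacter K, φ ≠ one' →
      ∀ hi : Cfsg.IsIrrCharacter G (Cfsg.indFun K φ), ¬ P ⟨_, hi⟩ := by
    intro φ hφ hi hPp
    refine hφ (Subtype.ext (funext fun k => ?_))
    have hc : Cfsg.IsCharacter K fun x : K => Cfsg.indFun K φ x :=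
      IsCharacter.restrict (IsIrrCharacter.isCharacter hi) K
    have h0 : Cfsg.classInner (fun x : K => Cfsg.indFun K φ x) φ ≠ 0 := by
      rw [← classInner_indFun_right K _ (IsIrrCharacter.isClassFunction hi),
        classInner_irr_self hi]
      exact one_ne_zero
    have hall : ∀ x : K, (φ : K → ℂ) x = (φ : K → ℂ) 1 := fun x =>
      IsCharacter.constituent_apply_eq_one hc φ.2 h0 (hPp x x.2)
    by_contra hne
    have h3 := classInner_irr_ne φ.2 isIrrCharacter_one fun h => hne (congrFun h k)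
    rw [classInner_fun_one_right, Finset.sum_congr rfl fun x _ => hall x] at h3
    simp [IsIrrCharacter.apply_one_ne_zero φ.2] at h3
  let F : {φ : Cfsg.IrrCharacter K // φ ≠ one'} → {χ // ¬ P χ} := fun φ =>
    ⟨⟨_, isIrr_indFun_of_frobenius K hC φ.1.2 fun h => φ.2 (Subtype.ext h)⟩, hker φ.1 φ.2 _⟩
  have hfib : ∀ χ : {χ // ¬ P χ}, (Finset.univ.filter fun φ => F φ = χ).card = Nat.card H := by
    intro χ
    obtain ⟨n, hn, hne⟩ : ∃ n ∈ K, (χ.1 : G → ℂ) n ≠ (χ.1 : G → ℂ) 1 := by simpa [P] using χ.2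
    obtain ⟨φ₀, hφ₀, hφ₀1, hχ⟩ := exists_eq_indFun_of_frobenius K hC χ.1.2 ⟨n, hn, hne⟩
    have himg : (Finset.univ.filter fun φ => F φ = χ).image (fun φ => (φ.1 : K → ℂ)) =
        Finset.univ.image fun g : G => conjG φ₀ g := by
      ext ψ
      simp only [Finset.mem_image, Finset.mem_filter, Finset.mem_univ, true_and]
      constructor
      · rintro ⟨φ, hφ, rfl⟩
        have hi : Cfsg.indFun K φ.1 = Cfsg.indFun K φ₀ :=
          (congrArg (fun x => (x.1 : G → ℂ)) hφ).trans hχ
        by_contra hno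
        push Not at hno
        have h0 := classInner_indFun_eq_zero φ.1.2 hφ₀ fun g hg => hno g hg.symm
        rw [hi, classInner_irr_self (isIrr_indFun_of_frobenius K hC hφ₀ hφ₀1)] at h0
        exact one_ne_zero h0
      · rintro ⟨g, rfl⟩
        refine ⟨⟨⟨_, IsIrrCharacter.conjG hφ₀ g⟩, fun h => hφ₀1 ?_⟩, ?_, rfl⟩
        · have h' : conjG φ₀ g = fun _ => (1 : ℂ) := congrArg Subtype.val h
          rw [← conjG_one φ₀, ← mul_inv_cancel g, ← conjG_mul, h']
          rfl
        · exact Subtype.ext (Subtype.ext ((indFun_conjG φ₀ g).trans hχ.symm))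
    rw [← Finset.card_image_of_injective _ (fun a b h => Subtype.ext (Subtype.ext h)), himg]
    have hst : Nat.card (stab φ₀) = Nat.card K := by
      refine Nat.card_congr (Equiv.subtypeEquivRight fun g => ⟨fun h => ?_, fun h => ?_⟩)
      · by_contra hg
        exact hφ₀1 (eq_one_of_conjG_eq K hC hg hφ₀ h)
      · exact le_stab (IsIrrCharacter.isClassFunction hφ₀) h
    have hc := Finset.card_eq_sum_card_fiberwise (f := fun g : G => conjG φ₀ g)
      (t := Finset.univ.image fun g : G => conjG φ₀ g) (s := Finset.univ)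
      fun g _ => Finset.mem_image_of_mem _ (Finset.mem_univ g)
    rw [Finset.card_univ, ← Nat.card_eq_fintype_card, Finset.sum_congr rfl fun ψ hψ => ?_,
      Finset.sum_const, smul_eq_mul, hidx] at hc
    · exact (Nat.eq_of_mul_eq_mul_right Nat.card_pos hc).symm
    · obtain ⟨g₀, -, rfl⟩ := Finset.mem_image.mp hψ
      rw [card_filter_conjG_eq, hst]
  have hK : Nat.card (ConjClasses K) = Nat.card {φ : Cfsg.IrrCharacter K // φ ≠ one'} + 1 := by
    rw [← card_irrCharacter, Nat.card_eq_fintype_card, Nat.card_eq_fintype_card,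
      Fintype.card_subtype_compl, Fintype.card_subtype_eq,
      Nat.sub_add_cancel (Fintype.card_pos_iff.mpr ⟨one'⟩)]
  have hF : Nat.card {φ : Cfsg.IrrCharacter K // φ ≠ one'} =
      Nat.card {χ // ¬ P χ} * Nat.card H := by
    rw [Nat.card_eq_fintype_card, ← Finset.card_univ,
      Finset.card_eq_sum_card_fiberwise (f := F) (t := Finset.univ) fun _ _ => Finset.mem_univ _,
      Finset.sum_congr rfl fun χ _ => hfib χ, Finset.sum_const, smul_eq_mul, Finset.card_univ,
      ← Nat.card_eq_fintype_card]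
  have hG : Nat.card (ConjClasses G) = Nat.card {χ // P χ} + Nat.card {χ // ¬ P χ} := by
    rw [← card_irrCharacter, ← Nat.card_sum]
    exact (Nat.card_congr (Equiv.sumCompl P)).symm
  rw [hG, hK, hF, hP]
  ring

/-- Class number of a Frobenius group: if G = K H with K normal, K ⊓ H trivial and no non-identity element of H commuting with a non-identity element of K, then |H| * k(G) + 1 = |H| * k(H) + k(K), where k denotes the number of conjugacy classes. -/
theorem result {G : Type*} [Group G] [Finite G] (K H : Subgroup G) [K.Normal] (hKH : K ⊓ H = ⊥) (hKH' : K ⊔ H = ⊤) (hfpf : ∀ h ∈ H, h ≠ 1 → ∀ k ∈ K, h * k = k * h → k = 1) : Nat.card H * Nat.card (ConjClasses G) + 1 = Nat.card H * Nat.card (ConjClasses H) + Nat.card (ConjClasses K) := by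
  exact classNumber K H hKH hKH' hfpf


end Cfsg.Agent.S0172
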