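import Cfsg.Statements.S0173
import Cfsg.Agent.Lib.Char.Perm
import Cfsg.Agent.Lib.Char.Quotient
-- import your own Cfsg.Agent.* helpers here

set_option autoImplicit false
open Cfsg

namespace Cfsg.Agent.S0173

/-- Brauer's permutation lemma for a single automorphism: the number of conjugacy classes mapped to themselves equals the number of irreducible complex characters χ with χ ∘ α = χ. -/
theorem result {G : Type*} [Group G] [Finite G] (α : G ≃* G) : Nat.card {C : ConjClasses G // ConjClasses.map α.toMonoidHom C = C} = Nat.card {χ : Cfsg.IrrCharacter G // (χ : G → ℂ) ∘ α = (χ : G → ℂ)} := by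
  cases nonempty_fintype G
  have h := CfsgLib.Char.card_fixed_irr_eq (G := G) α (fun a b hab => α.toMonoidHom.map_isConj hab)
    (fun χ hχ => CfsgLib.Char.IsIrrCharacter.comp_equiv hχ α)
  rw [h]
  refine Nat.card_congr (Equiv.subtypeEquivRight fun C => ?_)
  induction C using Quotient.inductionOn with
  | h g =>
    change ConjClasses.map α.toMonoidHom (ConjClasses.mk g) = ConjClasses.mk g ↔ _
    have hm : ConjClasses.map α.toMonoidHom (ConjClasses.mk g) = ConjClasses.mk (α g) := rfl
    rw [hm, ConjClasses.mk_eq_mk_iff_isConj]
    refine ⟨fun hg x hx => ?_, fun H => H g rfl⟩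
    have hc := ConjClasses.mk_eq_mk_iff_isConj.mp hx
    exact ((α.toMonoidHom.map_isConj hc).trans hg).trans hc.symm


end Cfsg.Agent.S0173
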