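import Cfsg.Statements.S0175
import Cfsg.Agent.Lib.Char.Constituent
import Cfsg.Agent.Lib.Char.Induced
import Cfsg.Agent.Lib.Char.Clifford
-- import your own Cfsg.Agent.* helpers here

set_option autoImplicit false
open Cfsg

namespace Cfsg.Agent.S0175

/-- Taketa's Theorem on M-groups: if every irreducible complex character of a finite group is induced from a linear character (a homomorphism to ℂˣ) of some subgroup, the group is solvable. -/
theorem result {G : Type*} [Group G] [Fintype G] (hM : ∀ χ : G → ℂ, Cfsg.IsIrrCharacter G χ → ∃ (H : Subgroup G) (lam : H →* ℂˣ), χ = Cfsg.indFun H (fun h => (lam h : ℂ))) : Group.IsSolvable G := by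

  classical
  have hanti : ∀ m n : ℕ, m ≤ n → derivedSeries G n ≤ derivedSeries G m := by
    intro m n h
    induction h with
    | refl => exact le_rfl
    | step _ ih => exact (Subgroup.commutator_le_left _ _).trans ih
  have main : ∀ d : ℕ, ∀ χ : G → ℂ, Cfsg.IsIrrCharacter G χ → χ 1 = d →
      ∀ g ∈ derivedSeries G d, χ g = χ 1 := by
    intro d
    induction d using Nat.strong_induction_on with
    | _ d ih =>
      intro χ hχ hd g hg
      obtain ⟨H, lam, rfl⟩ := hM χ hχ
      have hd' : d = H.index := by
        rw [CfsgLib.Char.indFun_one, map_one, Units.val_one, mul_one, Nat.cast_inj] at hd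
        exact hd.symm
      have hd0 : 0 < d := hd' ▸ Nat.pos_of_ne_zero H.index_ne_zero_of_finite
      have hH : derivedSeries G (d - 1) ≤ H := by
        intro x hx
        have hπc : Cfsg.IsCharacter G (Cfsg.indFun H (fun _ => 1)) :=
          CfsgLib.Char.IsCharacter.indFun H CfsgLib.Char.isCharacter_one
        obtain ⟨m, hm, hexp⟩ := CfsgLib.Char.IsCharacter.exists_multiplicity hπc
        let φ₀ : Cfsg.IrrCharacter G := ⟨fun _ => 1, CfsgLib.Char.isIrrCharacter_one⟩
        have hm0 : m φ₀ = 1 := by
          have h1 := hm φ₀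
          cases nonempty_fintype H
          rw [CfsgLib.Char.classInner_indFun H (fun _ => 1) (fun _ _ => rfl),
            CfsgLib.Char.classInner_irr_self CfsgLib.Char.isIrrCharacter_one] at h1
          exact_mod_cast h1.symm
        choose e he he' using fun φ : Cfsg.IrrCharacter G =>
          CfsgLib.Char.IsIrrCharacter.apply_one_eq φ.2
        have hsum : ∑ φ, m φ * e φ = d := by
          have h1 := hexp 1
          rw [CfsgLib.Char.indFun_one, mul_one, ← hd'] at h1
          have h2 : ((∑ φ, m φ * e φ : ℕ) : ℂ) = (d : ℂ) := by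
            rw [h1]
            push_cast
            exact Finset.sum_congr rfl fun φ _ => by rw [he' φ]
          exact_mod_cast h2
        have hx1 : Cfsg.indFun H (fun _ => 1) x = Cfsg.indFun H (fun _ => 1) 1 := by
          rw [hexp x, hexp 1]
          refine Finset.sum_congr rfl fun φ _ => ?_
          by_cases hz : m φ = 0
          · simp [hz]
          by_cases hφ : φ = φ₀
          · subst hφ; rfl
          have hlt : e φ < d := by
            have h2 : m φ * e φ + m φ₀ * e φ₀ ≤ d := by
              rw [← hsum, ← Finset.sum_pair (f := fun t => m t * e t) hφ]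
              exact Finset.sum_le_sum_of_subset (Finset.subset_univ _)
            have h3 : e φ ≤ m φ * e φ := Nat.le_mul_of_pos_left _ (Nat.pos_of_ne_zero hz)
            have h4 := he φ₀
            rw [hm0, one_mul] at h2
            omega
          rw [ih (e φ) hlt φ φ.2 (he' φ) x (hanti _ _ (by omega) hx)]
        rw [CfsgLib.Char.indFun_one, mul_one, CfsgLib.Char.indFun_def,
          inv_mul_eq_iff_eq_mul₀ (Nat.cast_ne_zero.mpr Nat.card_pos.ne')] at hx1
        by_contra hxH
        have hlt : (∑ y : G, Cfsg.extendByZero H (fun _ => (1 : ℂ)) (y⁻¹ * x * y)) =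
            ((Finset.univ.filter fun y : G => y⁻¹ * x * y ∈ H).card : ℂ) := by
          rw [← Finset.sum_boole]
          refine Finset.sum_congr rfl fun y _ => ?_
          split_ifs with hy
          · rw [CfsgLib.Char.extendByZero_apply_mem H _ hy]
          · rw [CfsgLib.Char.extendByZero_apply_notMem H _ hy]
        rw [hlt, ← Nat.cast_mul, Nat.cast_inj, mul_comm, H.index_mul_card] at hx1
        have huniv := (Finset.card_eq_iff_eq_univ _).mp (hx1.trans Nat.card_eq_fintype_card)
        have := (Finset.mem_filter.mp (huniv ▸ Finset.mem_univ (1 : G))).2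
        exact hxH (by simpa using this)
      have hker : ∀ y : G, ∀ h : y ∈ H, y ∈ derivedSeries G d → lam ⟨y, h⟩ = 1 := by
        intro y h hy
        have hsucc : derivedSeries G d = ⁅derivedSeries G (d - 1), derivedSeries G (d - 1)⁆ := by
          rw [← derivedSeries_succ, Nat.sub_add_cancel hd0]
        have hle : derivedSeries G d ≤ lam.ker.map H.subtype := by
          rw [hsucc]
          refine Subgroup.commutator_le.mpr fun a ha b hb => ?_
          refine ⟨(⟨a, hH ha⟩ : H) * ⟨b, hH hb⟩ * (⟨a, hH ha⟩ : H)⁻¹ * (⟨b, hH hb⟩ : H)⁻¹, ?_,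
            rfl⟩
          show lam _ = 1
          simp only [map_mul, map_inv]
          rw [mul_right_comm _ (lam ⟨b, hH hb⟩), mul_inv_cancel, one_mul, mul_inv_cancel]
        obtain ⟨w, hw, hwy⟩ := hle hy
        rw [show (⟨y, h⟩ : H) = w from Subtype.ext hwy.symm]
        exact hw
      have hval : ∀ y : G, Cfsg.extendByZero H (fun h => (lam h : ℂ)) (y⁻¹ * g * y) = 1 := by
        intro y
        have hy : y⁻¹ * g * y ∈ derivedSeries G d := by
          have := (derivedSeries_normal G d).conj_mem g hg y⁻¹
          rwa [inv_inv] at this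
        have hyH : y⁻¹ * g * y ∈ H := hH (hanti _ _ (by omega) hy)
        rw [CfsgLib.Char.extendByZero_apply_mem H _ hyH, hker _ hyH hy, Units.val_one]
      rw [CfsgLib.Char.indFun_one, map_one, Units.val_one, mul_one, CfsgLib.Char.indFun_def,
        Finset.sum_congr rfl fun y _ => hval y, Finset.sum_const, Finset.card_univ, nsmul_eq_mul,
        mul_one, ← Nat.card_eq_fintype_card,
        inv_mul_eq_iff_eq_mul₀ (Nat.cast_ne_zero.mpr Nat.card_pos.ne'), mul_comm]
      exact_mod_cast H.index_mul_card.symm
  choose e he he' using fun φ : Cfsg.IrrCharacter G =>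
    CfsgLib.Char.IsIrrCharacter.apply_one_eq φ.2
  refine ⟨⟨Finset.univ.sup e, ?_⟩⟩
  rw [eq_bot_iff]
  intro g hg
  rw [Subgroup.mem_bot]
  exact CfsgLib.Char.eq_one_of_forall_irr fun φ =>
    main (e φ) φ φ.2 (he' φ) g (hanti _ _ (Finset.le_sup (f := e) (Finset.mem_univ _)) hg)


end Cfsg.Agent.S0175
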