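import Cfsg.Statements.S0178
import Cfsg.Agent.Lib.Char.Constituent
import Cfsg.Agent.Lib.Char.Induced
-- import your own Cfsg.Agent.* helpers here

set_option autoImplicit false
open Cfsg

namespace Cfsg.Agent.S0178

theorem finrank_le_index {G : Type*} [Group G] [Finite G] {V : Type*} [AddCommGroup V] [Module ℂ V]
    [FiniteDimensional ℂ V] (ρ : Representation ℂ G V) [ρ.IsIrreducible] (A : Subgroup G)
    (hA : ∀ a ∈ A, ∀ b ∈ A, a * b = b * a) : Module.finrank ℂ V ≤ A.index := by
  classical
  cases nonempty_fintype G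
  have hχ := CfsgLib.Char.isIrrCharacter_of_rep ρ
  have hres : Cfsg.IsCharacter A fun a : A => ρ.character a :=
    CfsgLib.Char.IsCharacter.restrict (CfsgLib.Char.IsIrrCharacter.isCharacter hχ) A
  obtain ⟨lam, hlam, hne⟩ := CfsgLib.Char.IsCharacter.exists_constituent hres (fun h => by
    have := congrFun h 1
    simp [(CfsgLib.Char.irreducible_finrank_pos (ρ := ρ)).ne'] at this)
  have hlam1 := CfsgLib.Char.apply_one_eq_one_of_comm
    (fun a b : A => Subtype.ext (hA a a.2 b b.2)) hlam
  have hne' : Cfsg.classInner (Cfsg.indFun A lam) ρ.character ≠ 0 := by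
    rw [CfsgLib.Char.classInner_indFun A lam (CfsgLib.Char.IsIrrCharacter.isClassFunction hχ),
      CfsgLib.Char.IsCharacter.classInner_comm (CfsgLib.Char.IsIrrCharacter.isCharacter hlam) hres]
    exact hne
  obtain ⟨a, b, ha, hb, hab, -⟩ := CfsgLib.Char.IsCharacter.constituent_degree_le
    (CfsgLib.Char.IsCharacter.indFun A (CfsgLib.Char.IsIrrCharacter.isCharacter hlam)) hχ hne'
  rw [CfsgLib.Char.indFun_one, hlam1, mul_one, Nat.cast_inj] at hb
  rw [Representation.char_one, Nat.cast_inj] at ha
  omega

/-- The degree of an irreducible complex representation of a finite group is at most the index of any abelian subgroup. -/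
theorem result {G : Type*} [Group G] [Finite G] {V : Type*} [AddCommGroup V] [Module ℂ V] [FiniteDimensional ℂ V] (ρ : Representation ℂ G V) [ρ.IsIrreducible] (A : Subgroup G) (hA : ∀ a ∈ A, ∀ b ∈ A, a * b = b * a) : Module.finrank ℂ V ≤ A.index := by
  exact finrank_le_index ρ A hA


end Cfsg.Agent.S0178
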