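import Cfsg.Statements.S0179
import Cfsg.Agent.Lib.Char.Basic
import Cfsg.Agent.Lib.CharDeep.DegreeIndex
-- import your own Cfsg.Agent.* helpers here

set_option autoImplicit false
open Cfsg

namespace Cfsg.Agent.S0179

theorem finrank_dvd_center_index {G : Type*} [Group G] [Finite G] {V : Type*} [AddCommGroup V]
    [Module ℂ V] [FiniteDimensional ℂ V] (ρ : Representation ℂ G V) [ρ.IsIrreducible] :
    Module.finrank ℂ V ∣ (Subgroup.center G).index := by
  let φ : G →* (Module.End ℂ V)ˣ := ρ.toHomUnits
  let σ : Representation ℂ φ.range V := (Units.coeHom _).comp φ.range.subtype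
  let e : Subrepresentation σ ≃o Subrepresentation ρ :=
    { toFun := fun S => ⟨S.toSubmodule, fun g v hv => S.apply_mem_toSubmodule ⟨φ g, g, rfl⟩ hv⟩
      invFun := fun S => ⟨S.toSubmodule, fun h v hv => by
        obtain ⟨_, g, rfl⟩ := h
        exact S.apply_mem_toSubmodule g hv⟩
      left_inv := fun _ => rfl
      right_inv := fun _ => rfl
      map_rel_iff' := Iff.rfl }
  have : σ.IsIrreducible := e.isSimpleOrder_iff.mpr inferInstance
  have hfin : Finite φ.range := Finite.of_surjective _ φ.rangeRestrict_surjective
  have h := CfsgLib.CharDeep.DegreeIndex.finrank_dvd_index σ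
    (fun a b hab => Subtype.ext (Units.ext hab))
    ((Subgroup.center G).map φ.rangeRestrict) (by
      rintro z ⟨g, hg, rfl⟩
      obtain ⟨c, hc⟩ := CfsgLib.Char.exists_eigenbasis_of_pow_eq_one (σ (φ.rangeRestrict g))
        (orderOf_pos g).ne' (by rw [← map_pow, ← map_pow, pow_orderOf_eq_one, map_one, map_one])
      let i : Fin (Module.finrank ℂ V) := ⟨0, CfsgLib.Char.irreducible_finrank_pos (ρ := ρ)⟩
      obtain ⟨μ, hμ⟩ := hc
      refine ⟨μ i, ?_⟩
      by_contra hne
      set T : Module.End ℂ V := ρ g - μ i • 1 with hT
      let f : Representation.IntertwiningMap ρ ρ := ⟨T, fun x => by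
        have hx : x * g = g * x := (Subgroup.mem_center_iff.mp hg x)
        simp only [hT, ← Module.End.mul_eq_comp, sub_mul, mul_sub, smul_mul_assoc, mul_smul_comm,
          one_mul, mul_one, ← map_mul, hx]⟩
      rcases Representation.IsIrreducible.bijective_or_eq_zero f with hb | hb
      · refine c.ne_zero i (hb.1 ?_)
        change T (c i) = T 0
        rw [map_zero]
        exact sub_eq_zero.mpr (hμ i).1
      · exact hne (sub_eq_zero.mp (congrArg Representation.IntertwiningMap.toLinearMap hb)))
  exact h.trans (Subgroup.index_map_dvd _ φ.rangeRestrict_surjective)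

/-- The degree of an irreducible complex representation of a finite group divides the index of the centre. -/
theorem result {G : Type*} [Group G] [Finite G] {V : Type*} [AddCommGroup V] [Module ℂ V] [FiniteDimensional ℂ V] (ρ : Representation ℂ G V) [ρ.IsIrreducible] : Module.finrank ℂ V ∣ (Subgroup.center G).index := by
  exact finrank_dvd_center_index ρ


end Cfsg.Agent.S0179
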