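import Cfsg.Statements.S0180
import Cfsg.Agent.Lib.Char.Orth
import Cfsg.Agent.Lib.DegreeTools.CharTools
-- import your own Cfsg.Agent.* helpers here

set_option autoImplicit false
open Cfsg

namespace Cfsg.Agent.S0180

/-- Every irreducible complex character of a finite group takes only rational values if and only if g is conjugate to g ^ m for every element g and every m coprime to the group order. -/
theorem result {G : Type*} [Group G] [Finite G] : (∀ χ : Cfsg.IrrCharacter G, ∀ g : G, ∃ q : ℚ, (χ : G → ℂ) g = (q : ℂ)) ↔ ∀ m : ℕ, m.Coprime (Nat.card G) → ∀ g : G, IsConj g (g ^ m) := by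

  classical
  cases nonempty_fintype G
  set n := Nat.card G with hn'
  have hn : n ≠ 0 := Nat.card_pos.ne'
  obtain ⟨ω, hω⟩ : ∃ ω : ℂ, IsPrimitiveRoot ω n := ⟨_, Complex.isPrimitiveRoot_exp n hn⟩
  haveI : NeZero n := ⟨hn⟩
  haveI : IsCyclotomicExtension {n} ℚ (CyclotomicField n ℚ) :=
    CyclotomicField.isCyclotomicExtension n ℚ
  have hz := IsCyclotomicExtension.zeta_spec n ℚ (CyclotomicField n ℚ)
  set z := IsCyclotomicExtension.zeta n ℚ (CyclotomicField n ℚ)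
  haveI : FiniteDimensional ℚ (CyclotomicField n ℚ) :=
    IsCyclotomicExtension.finiteDimensional {n} ℚ (CyclotomicField n ℚ)
  haveI : IsGalois ℚ (CyclotomicField n ℚ) :=
    IsCyclotomicExtension.isGalois {n} ℚ (CyclotomicField n ℚ)
  let e := hz.embeddingsEquivPrimitiveRoots (C := ℂ)
    (Polynomial.cyclotomic.irreducible_rat (Nat.pos_of_ne_zero hn))
  have hemb : ∀ m : ℕ, m.Coprime n → ∃ τ : CyclotomicField n ℚ →ₐ[ℚ] ℂ, τ z = ω ^ m := by
    intro m hm
    obtain ⟨τ, hτ⟩ := e.surjective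
      ⟨ω ^ m, (mem_primitiveRoots (Nat.pos_of_ne_zero hn)).mpr (hω.pow_of_coprime m hm)⟩
    exact ⟨τ, (congrArg Subtype.val hτ : _)⟩
  have hval : ∀ (χ : Cfsg.IrrCharacter G) (g : G), ∃ x : CyclotomicField n ℚ,
      ∀ (m : ℕ) (τ : CyclotomicField n ℚ →ₐ[ℚ] ℂ), τ z = ω ^ m → τ x = (χ : G → ℂ) (g ^ m) := by
    intro χ g
    obtain ⟨d, ρ, -, hρ⟩ := χ.2
    refine ⟨∑ k ∈ Finset.range n,
      (CfsgLib.DegreeTools.Eigen.mult (ρ g) n (ω ^ k) : CyclotomicField n ℚ) * z ^ k,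
      fun m τ hτ => ?_⟩
    rw [← hρ, CfsgLib.DegreeTools.Eigen.char_pow_eq_sum ρ g hω hn pow_card_eq_one' m, map_sum]
    refine Finset.sum_congr rfl fun k _ => ?_
    rw [map_mul, map_pow, map_natCast, hτ, ← pow_mul, mul_comm m k]
  constructor
  · intro hrat m hm g
    refine (CfsgLib.Char.isConj_iff_forall_irr).mpr fun χ => ?_
    obtain ⟨x, hx⟩ := hval χ g
    obtain ⟨τ₀, hτ₀⟩ := hemb 1 (Nat.coprime_one_left n)
    obtain ⟨τ, hτ⟩ := hemb m hm
    obtain ⟨q, hq⟩ := hrat χ g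
    have h0 := hx 1 τ₀ hτ₀
    rw [pow_one, hq] at h0
    have hxq : x = algebraMap ℚ (CyclotomicField n ℚ) q :=
      τ₀.toRingHom.injective (h0.trans (by simp))
    have h1 := hx m τ hτ
    rw [hxq, AlgHom.commutes, eq_ratCast] at h1
    exact hq.trans h1
  · intro hconj χ g
    obtain ⟨x, hx⟩ := hval χ g
    obtain ⟨τ₀, hτ₀⟩ := hemb 1 (Nat.coprime_one_left n)
    have hfix : ∀ σ : CyclotomicField n ℚ ≃ₐ[ℚ] CyclotomicField n ℚ, σ x = x := by
      intro σ
      obtain ⟨i, -, hico, hi⟩ := hz.isPrimitiveRoot_iff.mp (hz.map_of_injective σ.injective)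
      apply τ₀.toRingHom.injective
      show τ₀ (σ x) = τ₀ x
      have hσ : τ₀.comp σ.toAlgHom z = ω ^ i := by
        show τ₀ (σ z) = ω ^ i
        rw [← hi, map_pow, hτ₀, pow_one]
      have h1 : τ₀ (σ x) = (χ : G → ℂ) (g ^ i) := hx i (τ₀.comp σ.toAlgHom) hσ
      rw [h1, hx 1 τ₀ hτ₀, pow_one]
      exact (CfsgLib.Char.IsClassFunction.apply_eq_of_isConj
        (CfsgLib.Char.IsIrrCharacter.isClassFunction χ.2) (hconj i hico g)).symm
    obtain ⟨q, hq⟩ := IntermediateField.mem_bot.mp ((IsGalois.mem_bot_iff_fixed x).mpr hfix)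
    refine ⟨q, ?_⟩
    have h0 := hx 1 τ₀ hτ₀
    rw [pow_one] at h0
    rw [← h0, ← hq, AlgHom.commutes, eq_ratCast]


end Cfsg.Agent.S0180
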