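import Cfsg.Statements.S0181
import Cfsg.Agent.Lib.Char.Orth
-- import your own Cfsg.Agent.* helpers here

set_option autoImplicit false
open Cfsg

namespace Cfsg.Agent.S0181

theorem vanish {G : Type*} [Group G] [Finite G] {V : Type*} [AddCommGroup V] [Module ℂ V]
    [FiniteDimensional ℂ V] (ρ : Representation ℂ G V) [ρ.IsIrreducible] (H : Subgroup G)
    [hN : H.Normal] (hker : ∃ h ∈ H, ρ h ≠ LinearMap.id) (g : G)
    (hg : ∀ h ∈ H, h * g = g * h → h = 1) : ρ.character g = 0 := by
  classical
  have := Fintype.ofFinite H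
  obtain ⟨h₀, hh₀, hne⟩ := hker
  set S : Module.End ℂ V := ∑ h : H, ρ h with hS
  obtain ⟨c, hc⟩ := CfsgLib.Char.exists_eq_smul_of_commute ρ S fun x => by
    rw [← Module.End.mul_eq_comp, ← Module.End.mul_eq_comp, hS, Finset.sum_mul, Finset.mul_sum]
    refine Fintype.sum_equiv (MulAut.conjNormal x⁻¹ : MulAut H).toEquiv _ _ fun h => ?_
    simp [← map_mul, mul_assoc]
  have hc0 : c = 0 := by
    by_contra hc0
    refine hne ?_
    have h1 : ρ h₀ * S = S := by
      rw [hS, Finset.mul_sum]
      exact Fintype.sum_equiv (Equiv.mulLeft ⟨h₀, hh₀⟩) _ _ fun h => by simp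
    rw [hc, ← Module.End.one_eq_id, mul_smul_comm, mul_one] at h1
    exact smul_right_injective _ hc0 h1
  let f : H → H := fun h => ⟨h * g * (h : G)⁻¹ * g⁻¹, by
    have := H.mul_mem h.2 (hN.conj_mem _ (H.inv_mem h.2) g)
    simpa [mul_assoc] using this⟩
  have hf : Function.Injective f := by
    intro a b hab
    have h1 : (a : G) * g * (a : G)⁻¹ = b * g * (b : G)⁻¹ :=
      mul_right_cancel (congrArg Subtype.val hab)
    have h2 : ((b : G)⁻¹ * a) * g = g * ((b : G)⁻¹ * a) := by
      calc ((b : G)⁻¹ * a) * g = (b : G)⁻¹ * (a * g * (a : G)⁻¹) * a := by simp [mul_assoc]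
        _ = g * ((b : G)⁻¹ * a) := by rw [h1]; simp [mul_assoc]
    exact Subtype.ext (inv_mul_eq_one.mp (hg _ (H.mul_mem (H.inv_mem b.2) a.2) h2)).symm
  have hsum : ∑ h : H, ρ.character ((h : G) * g) = (Nat.card H : ℂ) * ρ.character g := by
    rw [← (Equiv.ofBijective f (Finite.injective_iff_bijective.mp hf)).sum_comp,
      Finset.sum_congr rfl fun h _ => show ρ.character
          (((Equiv.ofBijective f (Finite.injective_iff_bijective.mp hf) h : H) : G) * g) =
          ρ.character g by
        simp only [Equiv.ofBijective_apply, f, inv_mul_cancel_right]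
        exact ρ.char_conj g h]
    simp
  have h0 : ∑ h : H, ρ.character ((h : G) * g) = 0 := by
    simp only [Representation.character, map_mul, ← map_sum, ← Finset.sum_mul]
    rw [← hS, hc, hc0]
    simp
  rw [hsum, mul_eq_zero] at h0
  exact h0.resolve_left (by exact_mod_cast Nat.card_pos.ne')

/-- Let H be a normal subgroup of a finite group G and ρ an irreducible complex representation whose kernel does not contain H. If g commutes with no non-identity element of H, then the character of ρ vanishes at g. -/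
theorem result {G : Type*} [Group G] [Finite G] {V : Type*} [AddCommGroup V] [Module ℂ V] [FiniteDimensional ℂ V] (ρ : Representation ℂ G V) [ρ.IsIrreducible] (H : Subgroup G) [H.Normal] (hker : ∃ h ∈ H, ρ h ≠ LinearMap.id) (g : G) (hg : ∀ h ∈ H, h * g = g * h → h = 1) : ρ.character g = 0 := by
  exact vanish ρ H hker g hg


end Cfsg.Agent.S0181
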