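import Cfsg.Statements.S0184
import Cfsg.Agent.Lib.Char.Linear
import Cfsg.Agent.Lib.Char.Constituent
-- import your own Cfsg.Agent.* helpers here

set_option autoImplicit false
open Cfsg

namespace Cfsg.Agent.S0184

theorem exists_eq_smul_one_of_central {G : Type*} [Group G] [Finite G] {n : ℕ}
    (ρ : Representation ℂ G (Fin n → ℂ)) [ρ.IsIrreducible] {z : G} (hz : z ∈ Subgroup.center G) :
    ∃ c : ℂ, ρ z = c • LinearMap.id :=
  CfsgLib.Char.exists_eq_smul_of_commute ρ (ρ z) fun x => by
    rw [← Module.End.mul_eq_comp, ← Module.End.mul_eq_comp, ← map_mul, ← map_mul,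
      (Subgroup.mem_center_iff.mp hz x)]

theorem faithful_iff {G : Type*} [Group G] [Finite G] (p : ℕ) [Fact p.Prime] (hG : IsPGroup p G) :
    (∃ (n : ℕ) (ρ : Representation ℂ G (Fin n → ℂ)), ρ.IsIrreducible ∧ Function.Injective ρ) ↔
      IsCyclic (Subgroup.center G) := by
  classical
  cases nonempty_fintype G
  constructor
  · rintro ⟨n, ρ, hρ, hinj⟩
    have hn : 0 < Module.finrank ℂ (Fin n → ℂ) := CfsgLib.Char.irreducible_finrank_pos (ρ := ρ)
    let f : Subgroup.center G →* ℂ :=
      { toFun := fun z => ρ.character z / (Module.finrank ℂ (Fin n → ℂ) : ℂ)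
        map_one' := by
          rw [OneMemClass.coe_one, ρ.char_one, div_self (by exact_mod_cast hn.ne')]
        map_mul' := fun a b => by
          obtain ⟨c, hc⟩ := exists_eq_smul_one_of_central ρ a.2
          obtain ⟨d, hd⟩ := exists_eq_smul_one_of_central ρ b.2
          simp only [Representation.character, Subgroup.coe_mul, map_mul, hc, hd,
            ← Module.End.one_eq_id, smul_mul_assoc, mul_smul_comm, mul_one, map_smul,
            LinearMap.trace_one, smul_eq_mul]
          field_simp }
    refine isCyclic_of_subgroup_isDomain f fun a b hab => ?_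
    obtain ⟨c, hc⟩ := exists_eq_smul_one_of_central ρ a.2
    obtain ⟨d, hd⟩ := exists_eq_smul_one_of_central ρ b.2
    simp only [f, MonoidHom.coe_mk, OneHom.coe_mk, Representation.character, hc, hd, map_smul,
      LinearMap.trace_id, smul_eq_mul] at hab
    have hn' : (Module.finrank ℂ (Fin n → ℂ) : ℂ) ≠ 0 := by exact_mod_cast hn.ne'
    rw [mul_div_cancel_right₀ _ hn', mul_div_cancel_right₀ _ hn'] at hab
    exact Subtype.ext (hinj (by rw [hc, hd, hab]))
  · intro hcyc
    rcases subsingleton_or_nontrivial G with hG1 | hG1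
    · obtain ⟨n, ρ, hρ, -⟩ := CfsgLib.Char.isIrrCharacter_one (G := G)
      exact ⟨n, ρ, hρ, fun a b _ => Subsingleton.elim a b⟩
    by_contra hno
    push Not at hno
    set Z := Subgroup.center G
    have : Nontrivial Z := hG.center_nontrivial
    have hZ : IsPGroup p Z := hG.to_subgroup Z
    obtain ⟨k, hk⟩ := IsPGroup.iff_card.mp hZ
    have hk0 : k ≠ 0 := by
      intro h0
      rw [h0, pow_zero] at hk
      exact not_subsingleton Z (Nat.card_eq_one_iff_unique.mp hk).1
    obtain ⟨z, hz⟩ := exists_prime_orderOf_dvd_card' p (hk ▸ dvd_pow_self p hk0)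
    have hz1 : (z : G) ≠ 1 := fun h => by
      rw [show z = 1 from Subtype.ext h, orderOf_one] at hz
      exact (Fact.out : p.Prime).ne_one hz.symm
    refine hz1 (CfsgLib.Char.eq_one_of_forall_irr fun χ => ?_)
    obtain ⟨n, ρ, hρ, hχ⟩ := χ.2
    have hmem : (z : G) ∈ MonoidHom.ker ρ := by
      have hne : MonoidHom.ker ρ ≠ ⊥ := fun h => hno n ρ hρ ((MonoidHom.ker_eq_bot_iff ρ).mp h)
      have hnn : Nontrivial (MonoidHom.ker ρ) := (Subgroup.nontrivial_iff_ne_bot _).mpr hne
      obtain ⟨x, hxK, hx1⟩ : ∃ x : Z, (x : G) ∈ MonoidHom.ker ρ ∧ x ≠ 1 := by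
        have hdvd : p ∣ Nat.card (MonoidHom.ker ρ) := by
          obtain ⟨m, hm⟩ := IsPGroup.iff_card.mp (hG.to_subgroup (MonoidHom.ker ρ))
          refine hm ▸ dvd_pow_self p fun h0 => ?_
          rw [h0, pow_zero] at hm
          exact not_subsingleton _ (Nat.card_eq_one_iff_unique.mp hm).1
        let act : MulAction G (MonoidHom.ker ρ) :=
          { smul := fun g x => ⟨g * x * g⁻¹, (MonoidHom.normal_ker ρ).conj_mem x x.2 g⟩
            one_smul := fun x => Subtype.ext (show (1 : G) * x * (1 : G)⁻¹ = x by simp)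
            mul_smul := fun a b x => Subtype.ext (show a * b * x * (a * b)⁻¹ =
              a * (b * x * b⁻¹) * a⁻¹ by simp [mul_assoc]) }
        obtain ⟨b, hb, hne1⟩ := hG.exists_fixed_point_of_prime_dvd_card_of_fixed_point
          (MonoidHom.ker ρ) hdvd (a := 1) (fun g => Subtype.ext (show g * 1 * g⁻¹ = 1 by simp))
        have hbc : (b : G) ∈ Z := Subgroup.mem_center_iff.mpr fun g =>
          mul_inv_eq_iff_eq_mul.mp (congrArg Subtype.val (hb g))
        exact ⟨⟨b, hbc⟩, b.2, fun h => hne1 (Subtype.ext (congrArg Subtype.val h).symm)⟩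
      let K : Subgroup Z := (MonoidHom.ker ρ).subgroupOf Z
      have hzK : z ∈ K := by
        have hKne : Nontrivial K := ⟨⟨⟨x, hxK⟩, 1, fun h => hx1 (congrArg Subtype.val h)⟩⟩
        obtain ⟨m, hm⟩ := IsPGroup.iff_card.mp (hZ.to_subgroup K)
        have hm0 : m ≠ 0 := by
          intro h0
          rw [h0, pow_zero] at hm
          exact not_subsingleton K (Nat.card_eq_one_iff_unique.mp hm).1
        obtain ⟨w, hw⟩ := exists_prime_orderOf_dvd_card' (G := K) p (hm ▸ dvd_pow_self p hm0)
        have hw' : orderOf (w : Z) = p := by rw [Subgroup.orderOf_coe]; exact hw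
        have hinc : (Subgroup.zpowers (w : Z) : Set Z).toFinset ⊆
            Finset.univ.filter fun x : Z => x ^ p = 1 := fun x hx => by
          rw [Set.mem_toFinset, SetLike.mem_coe] at hx
          obtain ⟨i, rfl⟩ := Subgroup.mem_zpowers_iff.mp hx
          rw [Finset.mem_filter, ← zpow_natCast, ← zpow_mul, mul_comm, zpow_mul, zpow_natCast,
            ← hw', pow_orderOf_eq_one, one_zpow]
          exact ⟨Finset.mem_univ _, rfl⟩
        have : z ∈ Subgroup.zpowers (w : Z) := by
          have heq := Finset.eq_of_subset_of_card_le hinc (by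
            refine (IsCyclic.card_pow_eq_one_le (Fact.out : p.Prime).pos).trans ?_
            rw [Set.toFinset_card, ← Nat.card_eq_fintype_card]
            exact ((Nat.card_zpowers (w : Z)).trans hw').ge)
          have hzS : z ∈ Finset.univ.filter fun x : Z => x ^ p = 1 :=
            Finset.mem_filter.mpr ⟨Finset.mem_univ _, by rw [← hz, pow_orderOf_eq_one]⟩
          rw [← heq, Set.mem_toFinset] at hzS
          exact hzS
        exact (Subgroup.zpowers_le.mpr w.2) this
      exact hzK
    rw [← hχ, ρ.char_one, CfsgLib.Char.char_eq_finrank_iff, MonoidHom.mem_ker.mp hmem]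
    rfl

/-- A finite p-group admits a faithful irreducible complex representation if and only if its centre is cyclic. -/
theorem result {G : Type*} [Group G] [Finite G] (p : ℕ) [Fact p.Prime] (hG : IsPGroup p G) : (∃ (n : ℕ) (ρ : Representation ℂ G (Fin n → ℂ)), ρ.IsIrreducible ∧ Function.Injective ρ) ↔ IsCyclic (Subgroup.center G) := by
  exact faithful_iff p hG


end Cfsg.Agent.S0184
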