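import Cfsg.Statements.S0185
import Cfsg.Agent.Lib.Char.Constituent
import Cfsg.Agent.Lib.Char.Integral
-- import your own Cfsg.Agent.* helpers here

set_option autoImplicit false
open Cfsg

namespace Cfsg.Agent.S0185

/-- If a finite group has a faithful complex representation of degree less than the smallest prime dividing its order, the group is abelian. -/
theorem result {G : Type*} [Group G] [Finite G] {V : Type*} [AddCommGroup V] [Module ℂ V] [FiniteDimensional ℂ V] (ρ : Representation ℂ G V) (hfaithful : Function.Injective ρ) (hdeg : ∀ p : ℕ, p.Prime → p ∣ Nat.card G → Module.finrank ℂ V < p) (a b : G) : a * b = b * a := by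
  cases nonempty_fintype G
  refine CfsgLib.Char.comm_of_faithful_of_linear ρ hfaithful (fun φ hφ hne => ?_) a b
  obtain ⟨x, y, hx, hy, hxy, -⟩ := CfsgLib.Char.IsCharacter.constituent_degree_le
    (CfsgLib.Char.isCharacter_of_rep ρ) hφ hne
  obtain ⟨m, hm, hmd⟩ := CfsgLib.Char.IsIrrCharacter.apply_one_dvd_card hφ
  rw [hx, Nat.cast_inj] at hm
  subst hm
  rw [Representation.char_one, Nat.cast_inj] at hy
  rw [hx, Nat.cast_eq_one]
  by_contra h1
  obtain ⟨p, hp, hpx⟩ := Nat.exists_prime_and_dvd h1
  have := hdeg p hp (hpx.trans hmd)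
  have : p ≤ x := Nat.le_of_dvd (by
    rcases Nat.eq_zero_or_pos x with h0 | h0
    · exact absurd (by rw [hx, h0, Nat.cast_zero]) (CfsgLib.Char.IsIrrCharacter.apply_one_ne_zero hφ)
    · exact h0) hpx
  omega


end Cfsg.Agent.S0185
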