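import Cfsg.Statements.S0186
import Cfsg.Agent.Lib.Char.Linear
import Cfsg.Agent.Lib.Char.Constituent
import Cfsg.Agent.Lib.Char.Integral
-- import your own Cfsg.Agent.* helpers here

set_option autoImplicit false
open Cfsg

namespace Cfsg.Agent.S0186

open scoped ComplexConjugate

theorem sylow_comm {G : Type*} [Group G] [Finite G] [IsSimpleGroup G] (p : ℕ) [Fact p.Prime]
    (hp : p ∣ Nat.card G) (hmany : Nat.card G < p ^ 2 * Nat.card (ConjClasses G)) (P : Sylow p G)
    (a b : G) (ha : a ∈ P) (hb : b ∈ P) : a * b = b * a := by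
  classical
  cases nonempty_fintype G
  have hp' : p.Prime := Fact.out
  by_contra hab
  obtain ⟨e, he⟩ := IsPGroup.iff_card.mp P.2
  have he3 : 3 ≤ e := by
    by_contra h
    refine hab ?_
    rcases (by omega : e = 0 ∨ e = 1 ∨ e = 2) with rfl | rfl | rfl
    · rw [pow_zero] at he
      have := (Nat.card_eq_one_iff_unique.mp he).1
      have h1 := congrArg Subtype.val (Subsingleton.elim (⟨a, ha⟩ : (P : Subgroup G)) 1)
      simp only [OneMemClass.coe_one] at h1
      rw [h1, one_mul, mul_one]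
    · rw [pow_one] at he
      have := isCyclic_of_prime_card (α := (P : Subgroup G)) he
      exact congrArg Subtype.val ((IsCyclic.isMulCommutative (α := (P : Subgroup G))).is_comm.comm ⟨a, ha⟩ ⟨b, hb⟩)
    · exact congrArg Subtype.val
        (IsPGroup.commutative_of_card_eq_prime_sq he (⟨a, ha⟩ : (P : Subgroup G)) ⟨b, hb⟩)
  have hnG : p ^ 3 ≤ Nat.card G := by
    refine le_trans (Nat.pow_le_pow_right hp'.pos he3) ?_
    rw [← he]
    exact Nat.le_of_dvd Nat.card_pos (Subgroup.card_subgroup_dvd_card _)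
  choose d hd hd' using fun χ : Cfsg.IrrCharacter G =>
    CfsgLib.Char.IsIrrCharacter.apply_one_eq χ.2
  let one' : Cfsg.IrrCharacter G := ⟨_, CfsgLib.Char.isIrrCharacter_one⟩
  obtain ⟨χ, hχ1, hχp⟩ : ∃ χ : Cfsg.IrrCharacter G, χ ≠ one' ∧ d χ ≤ p := by
    by_contra h
    push Not at h
    have hsum : ∑ χ, d χ ^ 2 = Nat.card G := by
      have h' := CfsgLib.Char.sum_sq_apply_one (G := G)
      simp only [hd'] at h'
      exact_mod_cast h'
    rw [← Finset.add_sum_erase _ _ (Finset.mem_univ one')] at hsum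
    have hone : d one' = 1 := by
      have := hd' one'
      change (1 : ℂ) = (d one' : ℂ) at this
      exact_mod_cast this.symm
    have hle : ((Finset.univ : Finset (Cfsg.IrrCharacter G)).erase one').card * (p + 1) ^ 2 ≤
        ∑ χ ∈ Finset.univ.erase one', d χ ^ 2 := by
      rw [← smul_eq_mul, ← Finset.sum_const]
      exact Finset.sum_le_sum fun χ hχ => Nat.pow_le_pow_left (h χ (Finset.mem_erase.mp hχ).1) 2
    rw [Finset.card_erase_of_mem (Finset.mem_univ _), Finset.card_univ,
      ← Nat.card_eq_fintype_card, CfsgLib.Char.card_irrCharacter] at hle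
    rw [hone, one_pow] at hsum
    set k := Nat.card (ConjClasses G)
    obtain ⟨j, hj⟩ : ∃ j, k = j + 1 := Nat.exists_eq_succ_of_ne_zero (by
      rintro hk
      rw [hk, mul_zero] at hmany
      omega)
    rw [hj, Nat.add_sub_cancel] at hle
    rw [hj] at hmany
    have hjp : p ≤ j := by nlinarith
    nlinarith
  obtain ⟨n, ρ, hρ, hρχ⟩ := χ.2
  have hinj : Function.Injective ρ := by
    rw [← MonoidHom.ker_eq_bot_iff]
    refine ((MonoidHom.normal_ker ρ).eq_bot_or_eq_top).resolve_right fun htop => hχ1 ?_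
    by_contra hne
    have := CfsgLib.Char.classInner_irr_ne χ.2 CfsgLib.Char.isIrrCharacter_one
      fun h => hne (Subtype.ext h)
    rw [CfsgLib.Char.classInner_fun_one_right, ← hρχ] at this
    have hval : ∀ x, ρ.character x = (Module.finrank ℂ (Fin n → ℂ) : ℂ) := fun x => by
      rw [CfsgLib.Char.char_eq_finrank_iff, MonoidHom.mem_ker.mp (htop ▸ Subgroup.mem_top x)]
      rfl
    simp [hval] at this
    exact (CfsgLib.Char.irreducible_finrank_pos (ρ := ρ)).ne' (by simpa using this)
  let σ : Representation ℂ (P : Subgroup G) (Fin n → ℂ) := MonoidHom.comp ρ (P : Subgroup G).subtype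
  have hσ : Function.Injective σ := hinj.comp (Subgroup.subtype_injective _)
  obtain ⟨φ, hφ, hne, hφ1⟩ : ∃ φ, Cfsg.IsIrrCharacter (P : Subgroup G) φ ∧
      Cfsg.classInner σ.character φ ≠ 0 ∧ φ 1 ≠ 1 := by
    by_contra h
    push Not at h
    exact hab (congrArg Subtype.val
      (CfsgLib.Char.comm_of_faithful_of_linear σ hσ h (⟨a, ha⟩ : (P : Subgroup G)) ⟨b, hb⟩))
  obtain ⟨x, y, hx, hy, hxy, heq⟩ := CfsgLib.Char.IsCharacter.constituent_degree_le
    (CfsgLib.Char.isCharacter_of_rep σ) hφ hne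
  obtain ⟨m, hm, hmd⟩ := CfsgLib.Char.IsIrrCharacter.apply_one_dvd_card hφ
  rw [hx, Nat.cast_inj] at hm
  subst hm
  obtain ⟨i, -, hi⟩ := (Nat.dvd_prime_pow hp').mp (he ▸ hmd)
  have hi0 : i ≠ 0 := fun h0 => hφ1 (by rw [hx, hi, h0, pow_zero, Nat.cast_one])
  have hyd : y = d χ := by
    have h1 : σ.character 1 = (χ : G → ℂ) 1 := by rw [← hρχ]; rfl
    rw [hy, hd' χ] at h1
    exact_mod_cast h1
  have hxp : p ≤ x := hi ▸ Nat.le_self_pow hi0 p
  have hsig : σ.character = φ := heq (by omega)
  obtain ⟨m, τ, hτ, hτφ⟩ := hφ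
  obtain ⟨eq⟩ := CfsgLib.Char.nonempty_equiv_of_char_eq τ σ (hτφ.trans hsig.symm)
  have : σ.IsIrreducible := CfsgLib.Char.isIrreducible_of_equiv eq
  have hPnt : Nontrivial (P : Subgroup G) :=
    ⟨⟨⟨a, ha⟩, ⟨b, hb⟩, fun h => hab (by rw [show a = b from congrArg Subtype.val h])⟩⟩
  have : Nontrivial (Subgroup.center (P : Subgroup G)) := P.2.center_nontrivial
  obtain ⟨z, hz⟩ := exists_ne (1 : Subgroup.center (P : Subgroup G))
  obtain ⟨c, hc⟩ := CfsgLib.Char.exists_eq_smul_of_commute σ (σ z.1) fun w => by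
    rw [← Module.End.mul_eq_comp, ← Module.End.mul_eq_comp, ← map_mul, ← map_mul,
      Subgroup.mem_center_iff.mp z.2 w]
  have hzc : ((z : (P : Subgroup G)) : G) ∈ Subgroup.center G :=
    Subgroup.mem_center_iff.mpr fun g => hinj (by
      rw [map_mul, map_mul, show ρ ((z : (P : Subgroup G)) : G) = c • LinearMap.id from hc]
      ext v
      simp)
  rcases IsSimpleGroup.eq_bot_or_eq_top_of_normal (Subgroup.center G) inferInstance with h | h
  · rw [h, Subgroup.mem_bot] at hzc
    exact hz (Subtype.ext (Subtype.ext hzc))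
  · exact hab (Subgroup.mem_center_iff.mp (h ▸ Subgroup.mem_top b) a)

/-- Let G be a finite simple group of order n and p a prime dividing n. If G has more than n / p^2 conjugacy classes, then every Sylow p-subgroup of G is abelian. -/
theorem result {G : Type*} [Group G] [Finite G] [IsSimpleGroup G] (p : ℕ) [Fact p.Prime] (hp : p ∣ Nat.card G) (hmany : Nat.card G < p ^ 2 * Nat.card (ConjClasses G)) (P : Sylow p G) (a b : G) (ha : a ∈ P) (hb : b ∈ P) : a * b = b * a := by
  exact sylow_comm p hp hmany P a b ha hb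


end Cfsg.Agent.S0186
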