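import Cfsg.Statements.S0189
import Cfsg.Agent.Lib.Char.Orth
import Cfsg.Agent.Lib.Char.Linear
-- import your own Cfsg.Agent.* helpers here

set_option autoImplicit false
open Cfsg

namespace Cfsg.Agent.S0189

/-- If a complex character of a finite group vanishes at every non-identity element of a Sylow p-subgroup P, then |P| divides its degree. -/
theorem result {G : Type*} [Group G] [Finite G] (p : ℕ) [Fact p.Prime] (P : Sylow p G) (χ : G → ℂ) (hχ : Cfsg.IsCharacter G χ) (hvan : ∀ g : G, g ∈ P → g ≠ 1 → χ g = 0) : ∃ k : ℕ, χ 1 = (Nat.card P : ℂ) * k := by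
  classical
  cases nonempty_fintype G
  obtain ⟨k, hk⟩ := CfsgLib.Char.IsCharacter.classInner_nat
    (CfsgLib.Char.IsCharacter.restrict hχ (P : Subgroup G)) CfsgLib.Char.isCharacter_one
  refine ⟨k, ?_⟩
  rw [CfsgLib.Char.classInner_fun_one_right, Finset.sum_eq_single (1 : (P : Subgroup G))
    (fun x _ hx => hvan x x.2 fun h => hx (Subtype.ext h))
    (fun h => absurd (Finset.mem_univ _) h)] at hk
  rw [← hk, ← mul_assoc, mul_inv_cancel₀ CfsgLib.Char.card_ne_zero, one_mul]
  rfl


end Cfsg.Agent.S0189
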