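import Cfsg.Statements.S0191
import Cfsg.Agent.Lib.DegreeTools.CharTools
-- import your own Cfsg.Agent.* helpers here

set_option autoImplicit false
open Cfsg

namespace Cfsg.Agent.S0191

/-- An irreducible complex representation of a finite group of degree greater than 1 has a character that vanishes somewhere. -/
theorem result {G : Type*} [Group G] [Finite G] {V : Type*} [AddCommGroup V] [Module ℂ V] [FiniteDimensional ℂ V] (ρ : Representation ℂ G V) [ρ.IsIrreducible] (hdeg : 1 < Module.finrank ℂ V) : ∃ g : G, ρ.character g = 0 := by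

  classical
  cases nonempty_fintype G
  by_contra h
  push Not at h
  have h1 := CfsgLib.DegreeTools.CharTools.card_le_sum_pow 2 ρ (Finset.univ.erase (1 : G))
    (fun g hg j hj => Finset.mem_erase.mpr ⟨fun he => (Finset.mem_erase.mp hg).1
      ((powCoprime hj).injective (by simpa using he)), Finset.mem_univ _⟩) (fun g _ => h g)
  have h2 := CfsgLib.DegreeTools.CharTools.sum_norm_sq ρ
  rw [← Finset.add_sum_erase _ _ (Finset.mem_univ (1 : G)), Representation.char_one,
    Complex.norm_natCast] at h2
  rw [Finset.card_erase_of_mem (Finset.mem_univ _), Finset.card_univ, ← Nat.card_eq_fintype_card,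
    Nat.cast_sub (Nat.one_le_iff_ne_zero.mpr Nat.card_pos.ne'), Nat.cast_one] at h1
  have h3 : (2 : ℝ) ≤ (Module.finrank ℂ V : ℝ) := by exact_mod_cast hdeg
  nlinarith


end Cfsg.Agent.S0191
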