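import Cfsg.Statements.S0192
import Cfsg.Agent.Lib.Char.Constituent
-- import your own Cfsg.Agent.* helpers here

set_option autoImplicit false
open Cfsg

namespace Cfsg.Agent.S0192

open scoped ComplexConjugate

theorem ne_top {G : Type*} [Group G] [Fintype G] [IsSimpleGroup G] (H₁ H₂ : Subgroup G)
    [Fintype H₁] [Fintype H₂] [Fintype ↥(H₁ ⊓ H₂)] (χ : G → ℂ) (hχ : Cfsg.IsIrrCharacter G χ)
    (hχ1 : χ ≠ fun _ => 1)
    (hlt : (Cfsg.classInner (fun x : ↥(H₁ ⊓ H₂) => χ x) (fun _ => 1)).re <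
      (Cfsg.classInner (fun x : H₁ => χ x) (fun _ => 1)).re +
      (Cfsg.classInner (fun x : H₂ => χ x) (fun _ => 1)).re) : H₁ ⊔ H₂ ≠ ⊤ := by
  classical
  intro htop
  have h0 := CfsgLib.Char.classInner_irr_ne hχ CfsgLib.Char.isIrrCharacter_one hχ1
  obtain ⟨n, ρ, -, rfl⟩ := hχ
  have key : ∀ (K : Subgroup G) [Fintype K],
      Cfsg.classInner (fun x : K => ρ.character x) (fun _ => 1) =
        (Module.finrank ℂ (Representation.invariants (MonoidHom.comp ρ K.subtype : Representation ℂ K (Fin n → ℂ))) : ℂ) := by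
    intro K _
    have : Invertible (Nat.card K : ℂ) := invertibleOfNonzero CfsgLib.Char.card_ne_zero
    rw [← Representation.card_inv_mul_sum_char_eq_finrank, CfsgLib.Char.classInner_fun_one_right]
    rfl
  rw [key, key, key, Complex.natCast_re, Complex.natCast_re, Complex.natCast_re] at hlt
  set W₁ := Representation.invariants (MonoidHom.comp ρ H₁.subtype : Representation ℂ H₁ (Fin n → ℂ))
  set W₂ := Representation.invariants (MonoidHom.comp ρ H₂.subtype : Representation ℂ H₂ (Fin n → ℂ))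
  set W := Representation.invariants
    (MonoidHom.comp ρ (H₁ ⊓ H₂).subtype : Representation ℂ ↥(H₁ ⊓ H₂) (Fin n → ℂ))
  have hlt' : Module.finrank ℂ W < Module.finrank ℂ W₁ + Module.finrank ℂ W₂ := by exact_mod_cast hlt
  have hle : W₁ ⊔ W₂ ≤ W := sup_le
    (fun v hv h => hv ⟨h.1, h.2.1⟩) (fun v hv h => hv ⟨h.1, h.2.2⟩)
  have hinf : W₁ ⊓ W₂ ≠ ⊥ := by
    intro hbot
    have h1 := Submodule.finrank_sup_add_finrank_inf_eq W₁ W₂
    rw [hbot, finrank_bot, add_zero] at h1
    have h2 := Submodule.finrank_mono hle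
    omega
  obtain ⟨v, hv, hv0⟩ := Submodule.exists_mem_ne_zero_of_ne_bot hinf
  have hfix : v ∈ Representation.invariants (MonoidHom.comp ρ (⊤ : Subgroup G).subtype :
      Representation ℂ (⊤ : Subgroup G) (Fin n → ℂ)) := by
    let S : Subgroup G :=
      { carrier := {g | ρ g v = v}
        one_mem' := by simp
        mul_mem' := fun {a b} ha hb => by
          simp only [Set.mem_ofPred_eq] at ha hb ⊢
          rw [map_mul, Module.End.mul_apply, hb, ha]
        inv_mem' := fun {a} ha => by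
          simp only [Set.mem_ofPred_eq] at ha ⊢
          nth_rewrite 1 [← ha]
          rw [← Module.End.mul_apply, ← map_mul, inv_mul_cancel, map_one, Module.End.one_apply] }
    have hS : H₁ ⊔ H₂ ≤ S := sup_le (fun g hg => hv.1 ⟨g, hg⟩) (fun g hg => hv.2 ⟨g, hg⟩)
    intro g
    exact hS (by rw [htop]; exact Subgroup.mem_top _)
  have h1 := key ⊤
  have hsum : ∑ x : (⊤ : Subgroup G), ρ.character x = ∑ g : G, ρ.character g :=
    Fintype.sum_equiv Subgroup.topEquiv.toEquiv _ _ fun x => rfl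
  rw [CfsgLib.Char.classInner_fun_one_right, hsum, Nat.card_congr Subgroup.topEquiv.toEquiv,
    ← CfsgLib.Char.classInner_fun_one_right, h0, eq_comm, Nat.cast_eq_zero,
    Submodule.finrank_eq_zero] at h1
  rw [h1, Submodule.mem_bot] at hfix
  exact hv0 hfix

/-- Brauer's generation criterion. Let G be a finite simple group, H₁ and H₂ subgroups, and χ a non-principal irreducible character. If the multiplicity of the principal character in χ restricted to H₁ ⊓ H₂ is less than the sum of the corresponding multiplicities for H₁ and H₂, then H₁ and H₂ do not generate G. -/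
theorem result {G : Type*} [Group G] [Fintype G] [IsSimpleGroup G] (H₁ H₂ : Subgroup G) [Fintype H₁] [Fintype H₂] [Fintype ↥(H₁ ⊓ H₂)] (χ : G → ℂ) (hχ : Cfsg.IsIrrCharacter G χ) (hχ1 : χ ≠ fun _ => 1) (hlt : (Cfsg.classInner (fun x : ↥(H₁ ⊓ H₂) => χ x) (fun _ => 1)).re < (Cfsg.classInner (fun x : H₁ => χ x) (fun _ => 1)).re + (Cfsg.classInner (fun x : H₂ => χ x) (fun _ => 1)).re) : H₁ ⊔ H₂ ≠ ⊤ := by
  exact ne_top H₁ H₂ χ hχ hχ1 hlt


end Cfsg.Agent.S0192
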