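import Cfsg.Statements.S0194
import Cfsg.Agent.Lib.Char.Clifford
import Cfsg.Agent.Lib.Char.Perm
import Cfsg.Agent.S0161
-- import your own Cfsg.Agent.* helpers here

set_option autoImplicit false
open scoped ComplexConjugate
open Cfsg

namespace Cfsg.Agent.S0194

open scoped ComplexConjugate

theorem orth_conj {G : Type*} [Group G] [Fintype G] (hodd : Odd (Nat.card G)) (H : Subgroup G)
    [H.Normal] (θ : H → ℂ) (hθ : Cfsg.IsIrrCharacter H θ) (hθ1 : θ ≠ fun _ => 1) :
    Cfsg.classInner (fun g => conj (Cfsg.indFun H θ g)) (Cfsg.indFun H θ) = 0 := by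
  classical
  rw [← CfsgLib.Char.indFun_conj]
  refine CfsgLib.Char.classInner_indFun_eq_zero (CfsgLib.Char.IsIrrCharacter.conj' hθ) hθ
    fun g hg => hθ1 ?_
  have h2 : CfsgLib.Char.conjG θ (g * g) = θ := by
    rw [← CfsgLib.Char.conjG_mul, ← hg]
    funext h
    change conj (CfsgLib.Char.conjG θ g h) = θ h
    rw [← hg]
    exact Complex.conj_conj _
  have hmem : g * g ∈ CfsgLib.Char.stab θ := h2
  obtain ⟨m, hm⟩ := hodd
  have hg' : g ∈ CfsgLib.Char.stab θ := by
    have := (CfsgLib.Char.stab θ).pow_mem hmem (m + 1)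
    rwa [← pow_two, ← pow_mul, show 2 * (m + 1) = Nat.card G + 1 by omega, pow_succ,
      pow_card_eq_one', one_mul] at this
  rw [CfsgLib.Char.mem_stab.mp hg'] at hg
  have hoH : Odd (Nat.card H) :=
    Odd.of_dvd_nat ⟨m, hm⟩ (Subgroup.card_subgroup_dvd_card H)
  exact congrArg Subtype.val (Cfsg.Agent.S0161.real_unique hoH ⟨θ, hθ⟩
    fun h => Complex.conj_eq_iff_im.mp (congrFun hg h))

/-- Let G have odd order, H be a normal subgroup and θ a non-principal irreducible character of H. Then the function induced from θ is orthogonal to its complex conjugate. -/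
theorem result {G : Type*} [Group G] [Fintype G] (hodd : Odd (Nat.card G)) (H : Subgroup G) [H.Normal] (θ : H → ℂ) (hθ : Cfsg.IsIrrCharacter H θ) (hθ1 : θ ≠ fun _ => 1) : Cfsg.classInner (fun g => conj (Cfsg.indFun H θ g)) (Cfsg.indFun H θ) = 0 := by
  exact orth_conj hodd H θ hθ hθ1


end Cfsg.Agent.S0194
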