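import Cfsg.Statements.S0196
import Mathlib
-- import your own Cfsg.Agent.* helpers here

set_option autoImplicit false
open Cfsg

namespace Cfsg.Agent.S0196

theorem index_dvd {G : Type*} [Group G] [Finite G] (A : Subgroup G)
    (hA : ∀ x ∈ A, x ≠ 1 → Subgroup.centralizer ({x} : Set G) = A) :
    (A.subgroupOf (Subgroup.normalizer (A : Set G))).index ∣ Nat.card A - 1 := by
  classical
  let N := Subgroup.normalizer (A : Set G)
  let X := {x : G // x ∈ A ∧ x ≠ 1}
  let act : MulAction N X :=
    { smul := fun n x => ⟨n * x * (n : G)⁻¹,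
        (Subgroup.mem_normalizer_iff.mp n.2 x).mp x.2.1, fun h => x.2.2 (by simpa using h)⟩
      one_smul := fun x => Subtype.ext (show ((1 : N) : G) * x * ((1 : N) : G)⁻¹ = x by simp)
      mul_smul := fun m n x => Subtype.ext (show ((m * n : N) : G) * x * ((m * n : N) : G)⁻¹ =
        m * (n * x * (n : G)⁻¹) * (m : G)⁻¹ by simp [mul_assoc]) }
  have hstab : ∀ x : X, MulAction.stabilizer N x = A.subgroupOf N := by
    intro x
    ext n
    rw [MulAction.mem_stabilizer_iff, Subgroup.mem_subgroupOf, ← hA x x.2.1 x.2.2,
      Subgroup.mem_centralizer_singleton_iff, Subtype.ext_iff]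
    exact mul_inv_eq_iff_eq_mul
  have hcard : Nat.card X = Nat.card A - 1 := by
    let e : X ≃ {a : A // a ≠ 1} :=
      { toFun := fun x => ⟨⟨x.1, x.2.1⟩, fun h => x.2.2 (congrArg Subtype.val h)⟩
        invFun := fun a => ⟨a.1.1, a.1.2, fun h => a.2 (Subtype.ext h)⟩
        left_inv := fun _ => rfl
        right_inv := fun _ => rfl }
    have := Fintype.ofFinite A
    rw [Nat.card_congr e, Nat.card_eq_fintype_card, Nat.card_eq_fintype_card,
      Fintype.card_subtype_compl, Fintype.card_subtype_eq]
  rw [← hcard, Nat.card_congr (MulAction.selfEquivSigmaOrbits N X)]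
  have : Finite X := Subtype.finite
  have := Fintype.ofFinite (Quotient (MulAction.orbitRel N X))
  rw [Nat.card_sigma]
  refine Finset.dvd_sum fun q _ => ?_
  rw [← hstab q.out, MulAction.index_stabilizer]
  rfl

/-- Let A be a subgroup of a finite group G that equals the centralizer of each of its non-identity elements, and let N be its normalizer. Then the index of A in N divides |A| − 1 (N/A permutes the non-identity elements of A in orbits of full length). -/
theorem result {G : Type*} [Group G] [Finite G] (A : Subgroup G) (hA : ∀ x ∈ A, x ≠ 1 → Subgroup.centralizer ({x} : Set G) = A) : (A.subgroupOf (Subgroup.normalizer (A : Set G))).index ∣ Nat.card A - 1 := by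
  classical
  exact index_dvd A hA


end Cfsg.Agent.S0196
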