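import Cfsg.Statements.S0197
import Cfsg.Agent.Lib.Char.GLTwoThreeCentralizer
import Cfsg.Agent.Lib.Char.GLTwoThreeFacts

set_option autoImplicit false
open Cfsg

namespace Cfsg.Agent.S0197

open CfsgLib.Char.GLTwoThree
open scoped commutatorElement

/-- If a finite simple group has an involution whose centralizer is isomorphic to the general linear group GL(2, 3), then the group has order 5616 or 7920. -/
theorem result {G : Type*} [Group G] [Finite G] [IsSimpleGroup G] (t : G) (ht : orderOf t = 2) (e : Subgroup.centralizer ({t} : Set G) ≃* Matrix.GeneralLinearGroup (Fin 2) (ZMod 3)) : Nat.card G = 5616 ∨ Nat.card G = 7920 := by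
  classical
  cases nonempty_fintype G
  set C := Subgroup.centralizer ({t} : Set G) with hC
  have hmem : ∀ x : G, x ∈ C ↔ x * t = t * x := fun x => Subgroup.mem_centralizer_singleton_iff
  let φ : C → M3 := fun x => ((e x : Matrix.GeneralLinearGroup (Fin 2) (ZMod 3)) : M3)
  have φmul : ∀ x y, φ (x * y) = φ x * φ y := fun x y => by simp [φ]
  have φone : φ 1 = 1 := by simp [φ]
  have φpow : ∀ x (n : ℕ), φ (x ^ n) = φ x ^ n := fun x n => by simp [φ]
  have φinj : Function.Injective φ := fun x y h => e.injective (Units.ext h)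
  have φdet : ∀ x, (φ x).det ≠ 0 := fun x =>
    ((Matrix.isUnit_iff_isUnit_det _).mp (e x).isUnit).ne_zero
  have φsurj : ∀ m : M3, m.det ≠ 0 → ∃ x, φ x = m := fun m hm =>
    ⟨e.symm (Matrix.GeneralLinearGroup.mkOfDetNeZero m hm), by simp [φ]⟩
  let t' : C := ⟨t, (hmem t).mpr rfl⟩
  have ht1 : t ≠ 1 := fun h => by rw [h, orderOf_one] at ht; omega
  have ht2 : t ^ 2 = 1 := by rw [← ht]; exact pow_orderOf_eq_one t
  have htφ : φ t' = -1 := by
    refine (center _ (φdet _) fun n hn => ?_).resolve_left fun h => ht1 ?_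
    · obtain ⟨x, rfl⟩ := φsurj n hn
      rw [← φmul, ← φmul]
      exact congrArg φ (Subtype.ext ((hmem x).mp x.2).symm)
    · exact congrArg Subtype.val (φinj (h.trans φone.symm))
  obtain ⟨da, du, dw, dv⟩ := dets
  obtain ⟨pa, pu, pne, pu2, -⟩ := pows
  obtain ⟨rw2, rw1, rwm, rwa', rvu⟩ := reflections
  obtain ⟨a', ha⟩ := φsurj ma da
  obtain ⟨u', hu⟩ := φsurj mu du
  obtain ⟨w', hw⟩ := φsurj mw dw
  obtain ⟨v', hv⟩ := φsurj mv dv
  have ha4' : a' ^ 4 = t' := φinj (by rw [φpow, ha, pa, htφ])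
  have hu3' : u' ^ 3 = t' := φinj (by rw [φpow, hu, pu, htφ])
  set a : G := (a' : G) with hadef
  set u : G := (u' : G) with hudef
  have ha4 : a ^ 4 = t := congrArg Subtype.val ha4'
  have hu3 : u ^ 3 = t := congrArg Subtype.val hu3'
  have ha8 : a ^ 8 = 1 := by rw [show 8 = 4 * 2 from rfl, pow_mul, ha4, ht2]
  have hu6 : u ^ 6 = 1 := by rw [show 6 = 3 * 2 from rfl, pow_mul, hu3, ht2]
  have hao : orderOf a = 8 := by
    have := orderOf_eq_prime_pow (x := a) (p := 2) (n := 2) (by norm_num; rw [ha4]; exact ht1)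
      (by norm_num; exact ha8)
    simpa using this
  have huo : orderOf u = 6 := by
    have hd := orderOf_dvd_of_pow_eq_one hu6
    have h2 : ¬ orderOf u ∣ 2 := fun h => pu2 (by
      have h' : u' ^ 2 = 1 := Subtype.ext (orderOf_dvd_iff_pow_eq_one.mp h)
      rw [← hu, ← φpow, h', φone])
    have h3 : ¬ orderOf u ∣ 3 := fun h => ht1 (by
      rw [← hu3]; exact orderOf_dvd_iff_pow_eq_one.mp h)
    have hle := Nat.le_of_dvd (by norm_num) hd
    interval_cases h : orderOf u <;> first | rfl | (exfalso; revert hd h2 h3; norm_num)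
  -- elements commuting with a root of `t` lie in `C`
  have hroot : ∀ (g : G) (n : ℕ), g ^ n = t → ∀ x : G, x * g = g * x → x ∈ C := by
    intro g n hg x hx
    rw [hmem, ← hg]
    exact (Commute.pow_right (show Commute x g from hx) n).eq
  -- transfer of counts to matrices
  have count : ∀ (p : G → Prop) (q : M3 → Prop) [DecidablePred q], (∀ x, p x → x ∈ C) →
      (∀ x : C, p x ↔ q (φ x)) →
      Nat.card {x : G // p x} = Fintype.card {m : M3 // m.det ≠ 0 ∧ q m} := by
    intro p q _ hpC hpq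
    rw [← Nat.card_eq_fintype_card]
    refine Nat.card_eq_of_bijective
      (fun x => ⟨φ ⟨x.1, hpC _ x.2⟩, φdet _, (hpq ⟨x.1, hpC _ x.2⟩).mp x.2⟩) ⟨fun x y h => ?_, fun m => ?_⟩
    · have h' := φinj (congrArg Subtype.val h)
      exact Subtype.ext (congrArg Subtype.val h' :)
    · obtain ⟨x, hx⟩ := φsurj m.1 m.2.1
      refine ⟨⟨x, (hpq x).mpr (hx ▸ m.2.2)⟩, Subtype.ext ?_⟩
      exact hx
  have hcomm : ∀ (g x : C), (x : G) * g = g * x ↔ φ x * φ g = φ g * φ x := fun g x => by
    rw [← φmul, ← φmul, φinj.eq_iff, Subtype.ext_iff]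
    rfl
  have hsemi : ∀ (g g' x : C), (x : G) * g = g' * x ↔ φ x * φ g = φ g' * φ x := fun g g' x => by
    rw [← φmul, ← φmul, φinj.eq_iff, Subtype.ext_iff]
    rfl
  have hCt : Nat.card C = 48 := by
    rw [← card_all, ← Nat.card_eq_fintype_card]
    refine Nat.card_eq_of_bijective (fun x => ⟨φ x, φdet x⟩)
      ⟨fun x y h => φinj (congrArg Subtype.val h), fun m => ?_⟩
    obtain ⟨x, hx⟩ := φsurj m.1 m.2
    exact ⟨x, Subtype.ext hx⟩
  obtain ⟨ci, ca, cu, cq⟩ := card_cent
  have hcent : ∀ g : G, Nat.card (Subgroup.centralizer ({g} : Set G)) =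
      Nat.card {x : G // x * g = g * x} := fun g =>
    Nat.card_congr (Equiv.subtypeEquivRight fun x => Subgroup.mem_centralizer_singleton_iff)
  have hCi : Nat.card (Subgroup.centralizer ({a ^ 2} : Set G)) = 8 := by
    rw [hcent, ← ci]
    exact count _ (fun m => m * ma ^ 2 = ma ^ 2 * m)
      (fun x hx => hroot (a ^ 2) 2 (by rw [← pow_mul]; exact ha4) x hx)
      (fun x => by rw [← ha, ← φpow, ← hcomm]; rfl)
  have hCa : Nat.card (Subgroup.centralizer ({a} : Set G)) = 8 := by
    rw [hcent, ← ca]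
    exact count _ (fun m => m * ma = ma * m) (fun x hx => hroot a 4 ha4 x hx)
      (fun x => by rw [← ha, ← hcomm])
  have hCu : Nat.card (Subgroup.centralizer ({u} : Set G)) = 6 := by
    rw [hcent, ← cu]
    exact count _ (fun m => m * mu = mu * m) (fun x hx => hroot u 3 hu3 x hx)
      (fun x => by rw [← hu, ← hcomm])
  have hwa : (w' : G) * a = a ^ 3 * w' := by
    have h : w' * a' = a' ^ 3 * w' := φinj (by rw [φmul, φmul, φpow, hw, ha, rwa'])
    exact congrArg Subtype.val h
  have ha3 : IsConj (a ^ 3) a := (isConj_iff.mpr ⟨w', by rw [hwa, mul_inv_cancel_right]⟩ :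
    IsConj a (a ^ 3)).symm
  have ha6 : IsConj (a ^ 6) (a ^ 2) := by
    have := ha3.pow 2
    rwa [← pow_mul] at this
  have hu5 : IsConj (u ^ 5) u := (isConj_iff.mpr ⟨v', by
    have h : v' * u' = u' ^ 5 * v' := φinj (by rw [φmul, φmul, φpow, hv, hu, rvu])
    rw [show (v' : G) * u = u ^ 5 * v' from congrArg Subtype.val h, mul_inv_cancel_right]⟩ :
    IsConj u (u ^ 5)).symm
  have hna : ¬ IsConj a⁻¹ a := by
    intro h
    obtain ⟨c, hc⟩ := isConj_iff.mp h
    have hi : a⁻¹ = a ^ 7 := inv_eq_of_mul_eq_one_right (by rw [← pow_succ']; exact ha8)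
    rw [hi] at hc
    have hc' : c * a ^ 7 = a * c := by
      calc c * a ^ 7 = c * a ^ 7 * c⁻¹ * c := by group
        _ = a * c := by rw [hc]
    have hti : a ^ (7 * 4) = t := by
      rw [show 7 * 4 = 8 * 3 + 4 from rfl, pow_add, pow_mul, ha8, one_pow, one_mul, ha4]
    have hcC : c ∈ C := by
      rw [hmem]
      have h4 : c * (a ^ 7) ^ 4 = a ^ 4 * c :=
        (SemiconjBy.pow_right (show SemiconjBy c (a ^ 7) a from hc') 4).eq
      rwa [← pow_mul, hti, ha4] at h4
    refine not_real (φ ⟨c, hcC⟩) (φdet _) ?_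
    rw [← ha, ← φpow, ← φmul, ← φmul]
    exact congrArg φ (Subtype.ext hc')
  -- the normaliser of `⟨a⟩` in `C` is a Sylow 2-subgroup
  have hqC : ∀ x : G, (x * a = a * x ∨ x * a = a ^ 3 * x) → x ∈ C := by
    rintro x (hx | hx)
    · exact hroot a 4 ha4 x hx
    · rw [hmem]
      have h4 : x * a ^ 4 = (a ^ 3) ^ 4 * x :=
        (SemiconjBy.pow_right (show SemiconjBy x a (a ^ 3) from hx) 4).eq
      rw [← pow_mul, show 3 * 4 = 8 + 4 from rfl, pow_add, ha8, one_mul, ha4] at h4
      exact h4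
  let Q : Subgroup G :=
    { carrier := {x | x * a = a * x ∨ x * a = a ^ 3 * x}
      one_mem' := Or.inl (by rw [one_mul, mul_one])
      mul_mem' := by
        intro x y hx hy
        have h9 : (a ^ 3) ^ 3 = a := by
          rw [← pow_mul, show 3 * 3 = 8 + 1 from rfl, pow_add, ha8, one_mul, pow_one]
        simp only [Set.mem_setOf_eq] at hx hy ⊢
        rcases hx with hx | hx <;> rcases hy with hy | hy
        · exact Or.inl (SemiconjBy.mul_left (show SemiconjBy x a a from hx) hy).eq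
        · exact Or.inr (SemiconjBy.mul_left
            (SemiconjBy.pow_right (show SemiconjBy x a a from hx) 3) hy).eq
        · exact Or.inr (SemiconjBy.mul_left (show SemiconjBy x a (a ^ 3) from hx) hy).eq
        · have h := (SemiconjBy.mul_left
            (SemiconjBy.pow_right (show SemiconjBy x a (a ^ 3) from hx) 3) hy).eq
          rw [h9] at h
          exact Or.inl h
      inv_mem' := by
        intro x hx
        have h9 : (a ^ 3) ^ 3 = a := by
          rw [← pow_mul, show 3 * 3 = 8 + 1 from rfl, pow_add, ha8, one_mul, pow_one]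
        simp only [Set.mem_setOf_eq] at hx ⊢
        rcases hx with hx | hx
        · exact Or.inl (SemiconjBy.inv_symm_left (show SemiconjBy x a a from hx)).eq
        · right
          have h3 : x * a ^ 3 = a * x := by
            have h := (SemiconjBy.pow_right (show SemiconjBy x a (a ^ 3) from hx) 3).eq
            rwa [h9] at h
          exact (SemiconjBy.inv_symm_left (show SemiconjBy x (a ^ 3) a from h3)).eq }
  have hQ16 : Nat.card Q = 16 := by
    rw [← cq]
    exact count (fun x => x * a = a * x ∨ x * a = a ^ 3 * x)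
      (fun m => m * ma = ma * m ∨ m * ma = ma ^ 3 * m) hqC (fun x => by
        rw [← ha, ← φpow, ← hsemi, ← hsemi]; rfl)
  have hQC : Q ≤ C := fun x hx => hqC x hx
  have haQ : a ∈ Q := Or.inl rfl
  have hwQ : (w' : G) ∈ Q := Or.inr hwa
  have hQ2 : IsPGroup 2 Q := IsPGroup.of_card (n := 4) (by rw [hQ16]; norm_num)
  obtain ⟨P, hP⟩ := hQ2.exists_le_sylow
  have htQ : t ∈ Q := ha4 ▸ pow_mem haQ 4
  have hPC : (P : Subgroup G) ≤ C := by
    intro x hx
    have : Nontrivial (P : Subgroup G) :=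
      ⟨⟨⟨t, hP htQ⟩, 1, fun h => ht1 (congrArg Subtype.val h)⟩⟩
    obtain ⟨z, hz, hz1⟩ := (Subgroup.nontrivial_iff_exists_ne_one _).mp
      P.isPGroup'.center_nontrivial
    have hzc := Subgroup.mem_center_iff.mp hz
    have hzC : (z : G) ∈ C := (hmem _).mpr (congrArg Subtype.val (hzc ⟨t, hP htQ⟩)).symm
    have hc : ∀ y ∈ Q, (z : G) * y = y * z := fun y hy =>
      (congrArg Subtype.val (hzc ⟨y, hP hy⟩)).symm
    have hzt : (⟨z, hzC⟩ : C) = t' := by
      refine φinj ?_
      rw [htφ]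
      refine (fix_two _ (φdet _) ?_ ?_).resolve_left fun h => hz1 ?_
      · rw [← ha, ← hcomm]; exact hc a haQ
      · rw [← hw, ← hcomm]; exact hc w' hwQ
      · exact Subtype.ext (congrArg Subtype.val (φinj (h.trans φone.symm)) : (z : G) = 1)
    rw [hmem, show t = (z : G) from (congrArg Subtype.val hzt).symm]
    exact congrArg Subtype.val (hzc ⟨x, hx⟩)
  have hP16 : Nat.card (P : Subgroup G) = 16 := by
    obtain ⟨n, hn⟩ := P.isPGroup'.exists_card_eq
    have h1 : 2 ^ n ∣ 48 := hn ▸ hCt ▸ Subgroup.card_dvd_of_le hPC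
    have h2 : 16 ∣ 2 ^ n := hn ▸ hQ16 ▸ Subgroup.card_dvd_of_le hP
    have h3 : n ≤ 4 := by
      by_contra h
      have := (pow_dvd_pow 2 (show 5 ≤ n by omega)).trans h1
      norm_num at this
    have h4 := Nat.le_of_dvd (by positivity) h2
    have : (2 : ℕ) ^ n ≤ 2 ^ 4 := Nat.pow_le_pow_right (by norm_num) h3
    omega
  have hodd : ∃ k, Nat.card G = 16 * k ∧ Odd k := by
    refine ⟨(P : Subgroup G).index, ?_, Nat.not_even_iff_odd.mp fun h =>
      P.not_dvd_index (even_iff_two_dvd.mp h)⟩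
    rw [← (P : Subgroup G).card_mul_index, hP16]
  have hperf : commutator G = ⊤ := by
    refine ((inferInstance : (commutator G).Normal).eq_bot_or_eq_top).resolve_left fun h => ?_
    have habel : ∀ x y : G, x * y = y * x := fun x y => by
      have : ⁅x, y⁆ ∈ commutator G :=
        Subgroup.commutator_mem_commutator (Subgroup.mem_top x) (Subgroup.mem_top y)
      rw [h, Subgroup.mem_bot, commutatorElement_eq_one_iff_mul_comm] at this
      exact this
    have h' : φ a' * φ w' = φ w' * φ a' := (hcomm w' a').mp (habel _ _)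
    rw [ha, hw] at h'
    exact absurd h' (by decide +kernel)
  -- all involutions of `C` are conjugate to `t`
  have hwt : IsConj (w' : G) t := by
    have hel : ∀ y ∈ Subgroup.zpowers a, y ≠ 1 → y ^ 2 = 1 → y = t := by
      intro y hy hy1 hy2
      obtain ⟨k, rfl⟩ := (mem_powers_iff_mem_zpowers).2 hy
      simp only at hy1 hy2 ⊢
      rw [← pow_mul] at hy2
      have h4 := orderOf_dvd_of_pow_eq_one hy2
      rw [hao] at h4
      rw [← pow_mod_orderOf, hao] at hy1 ⊢
      rcases (show k % 8 = 0 ∨ k % 8 = 4 by omega) with h | h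
      · exact absurd (by rw [h, pow_zero]) hy1
      · rw [h, ha4]
    have hAP : Subgroup.zpowers a ≤ (P : Subgroup G) := Subgroup.zpowers_le.mpr (hP haQ)
    have hQi : (Subgroup.zpowers a).relIndex (P : Subgroup G) = 2 := by
      have h := ((Subgroup.zpowers a).subgroupOf (P : Subgroup G)).card_mul_index
      rw [Nat.card_congr (Subgroup.subgroupOfEquivOfLe hAP).toEquiv, Nat.card_zpowers, hao,
        hP16] at h
      show ((Subgroup.zpowers a).subgroupOf (P : Subgroup G)).index = 2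
      omega
    have hw2 : (w' : G) ^ 2 = 1 := congrArg Subtype.val
      (φinj (by rw [φpow, hw, sq, rw2, φone]) : w' ^ 2 = 1)
    have hwne : (w' : G) ≠ 1 := fun h => rw1 (by rw [← hw, show w' = 1 from Subtype.ext h, φone])
    rcases CfsgLib.Fusion.ThompsonTransfer.thompson_transfer P (Subgroup.zpowers a) hAP hQi w'
      hw2 (hP hwQ) (fun h => rwm (by
        rw [← hw, show w' = t' from Subtype.ext (hel _ h hwne hw2), htφ])) with
      ⟨M, hMn, hMi, -⟩ | ⟨g, hg⟩
    · exfalso
      rcases hMn.eq_bot_or_eq_top with h | h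
      · rw [h, Subgroup.index_bot] at hMi
        obtain ⟨k, hk, -⟩ := hodd
        omega
      · rw [h, Subgroup.index_top] at hMi
        omega
    · refine isConj_iff.mpr ⟨g, hel _ hg (fun h => hwne ?_) ?_⟩
      · calc (w' : G) = g⁻¹ * (g * w' * g⁻¹) * g := by group
          _ = 1 := by rw [h]; group
      · rw [conj_pow, hw2]; group
  have hconj : ∀ x : C, φ x ≠ 1 ∧ φ x ^ 2 = 1 → IsConj (x : G) t := by
    rintro x ⟨h1, h2⟩
    by_cases hm : φ x = -1
    · rw [show x = t' from φinj (hm.trans htφ.symm)]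
    obtain ⟨n, hn, hnx⟩ := involution_conj _ h2 h1 hm
    obtain ⟨c, rfl⟩ := φsurj n hn
    rw [← hw, ← φmul, ← φmul] at hnx
    have h := congrArg Subtype.val (φinj hnx)
    refine (isConj_iff.mpr ⟨(c : G), ?_⟩ : IsConj (x : G) w').trans hwt
    rw [show (c : G) * x = w' * c from h, mul_inv_cancel_right]
  have hinv : ∀ x : G, IsConj x t → x ≠ 1 ∧ x ^ 2 = 1 := by
    intro x hx
    obtain ⟨c, hc⟩ := isConj_iff.mp hx
    have hx' : x = c⁻¹ * t * c := by rw [← hc]; group
    refine ⟨fun h => ht1 ?_, ?_⟩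
    · rw [h, mul_one, mul_inv_cancel] at hc
      exact hc.symm
    · rw [hx', show (c⁻¹ * t * c) ^ 2 = c⁻¹ * t ^ 2 * c by rw [sq, sq]; group, ht2]
      group
  have hpairs : ∀ (g' : C) (n : ℕ), (g' : G) ^ n = t →
      Nat.card {x : G // IsConj x t ∧ IsConj (x⁻¹ * g') t} =
        Fintype.card {m : M3 // m.det ≠ 0 ∧ (m ≠ 1 ∧ m ^ 2 = 1) ∧
          (m * φ g' ≠ 1 ∧ (m * φ g') ^ 2 = 1)} := by
    intro g' n hn
    refine count _ (fun m => (m ≠ 1 ∧ m ^ 2 = 1) ∧ (m * φ g' ≠ 1 ∧ (m * φ g') ^ 2 = 1))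
      (fun x hx => ?_) (fun x => ?_)
    · obtain ⟨-, h1⟩ := hinv x hx.1
      obtain ⟨-, h2⟩ := hinv _ hx.2
      have hxi : x⁻¹ = x := inv_eq_of_mul_eq_one_right (by rw [← sq, h1])
      rw [hxi, sq] at h2
      have hxg : SemiconjBy x (g' : G) (g' : G)⁻¹ := by
        show x * g' = (g' : G)⁻¹ * x
        calc x * g' = (x * g' * (x * g')) * ((g' : G)⁻¹ * x⁻¹) := by group
          _ = (g' : G)⁻¹ * x := by rw [h2, one_mul, hxi]
      have h := (hxg.pow_right n).eq
      rw [inv_pow, hn, show t⁻¹ = t from inv_eq_of_mul_eq_one_right (by rw [← sq, ht2])] at h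
      exact (hmem x).mpr h
    · have hiff : ∀ y : C, IsConj (y : G) t ↔ φ y ≠ 1 ∧ φ y ^ 2 = 1 := fun y => by
        refine ⟨fun h => ?_, hconj y⟩
        obtain ⟨h1, h2⟩ := hinv _ h
        refine ⟨fun h' => h1 ?_, ?_⟩
        · exact congrArg Subtype.val (φinj (h'.trans φone.symm))
        · rw [← φpow, show y ^ 2 = 1 from Subtype.ext h2, φone]
      constructor
      · rintro ⟨h1, h2⟩
        have hxi : x⁻¹ = x := inv_eq_of_mul_eq_one_right
          (Subtype.ext (by rw [← sq]; exact (hinv _ h1).2) : x * x = 1)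
        refine ⟨(hiff x).mp h1, ?_⟩
        rw [← φmul]
        refine (hiff _).mp ?_
        rw [← hxi]
        exact h2
      · rintro ⟨h1, h2⟩
        have hxi : x⁻¹ = x := inv_eq_of_mul_eq_one_right
          (φinj (by rw [φmul, ← sq, h1.2, φone]))
        refine ⟨(hiff x).mpr h1, ?_⟩
        rw [← φmul] at h2
        have h := (hiff _).mpr h2
        rw [← hxi] at h
        exact h
  have hpa : Nat.card {x : G // IsConj x t ∧ IsConj (x⁻¹ * a) t} = 0 := by
    rw [hpairs a' 4 ha4, ← card_pairs.1]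
    simp only [ha]
  have hpu : Nat.card {x : G // IsConj x t ∧ IsConj (x⁻¹ * u) t} = 6 := by
    rw [hpairs u' 3 hu3, ← card_pairs.2]
    simp only [hu]
  exact card_eq_of_data t a u ha4 hao hu3 huo hCt hCi hCa hCu ha3 ha6 hu5 hna hpa hpu hodd hperf

end Cfsg.Agent.S0197
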