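import Cfsg.Statements.S0212
import Mathlib
import Cfsg.Agent.Lib.Involution.BrauerFowler
-- import your own Cfsg.Agent.* helpers here

set_option autoImplicit false
open Cfsg

namespace Cfsg.Agent.S0212

/-- The Brauer–Fowler bound: if G is a finite simple group and t an involution of G whose centralizer has order n, then |G| ≤ (2n^2)!. -/
theorem result {G : Type*} [Group G] [Finite G] [IsSimpleGroup G] (t : G) (ht : orderOf t = 2) : Nat.card G ≤ Nat.factorial (2 * (Nat.card (Subgroup.centralizer ({t} : Set G))) ^ 2) := by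
  classical
  set n := Nat.card (Subgroup.centralizer ({t} : Set G)) with hn
  have hn0 : 0 < n := Nat.card_pos
  have hfac : 2 * n ^ 2 ≤ Nat.factorial (2 * n ^ 2) := Nat.self_le_factorial _
  by_cases hsmall : Nat.card G < 2 * n
  · have : n ≤ n ^ 2 := Nat.le_self_pow (by norm_num) n
    omega
  by_cases hcen : t ∈ Subgroup.center G
  · exfalso
    apply hsmall
    have : Subgroup.centralizer ({t} : Set G) = ⊤ := by
      rw [eq_top_iff]
      exact fun g _ => Subgroup.mem_centralizer_singleton_iff.2 (Subgroup.mem_center_iff.1 hcen g)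
    rw [hn, this, Subgroup.card_top]
    have := Nat.card_pos (α := G)
    omega
  have hZ : Subgroup.center G = ⊥ :=
    (IsSimpleGroup.eq_bot_or_eq_top_of_normal _ inferInstance).resolve_right
      fun h => hcen (h ▸ Subgroup.mem_top t)
  have hnc : ∀ x : G, x ≠ 1 → x ∉ Subgroup.center G := fun x hx h =>
    hx (Subgroup.mem_bot.1 (hZ ▸ h))
  obtain ⟨H, hH, hmax⟩ := Set.Finite.exists_maximalFor (fun H : Subgroup G => Nat.card H)
    {H : Subgroup G | H ≠ ⊤} (Set.toFinite _)
    ⟨_, CfsgLib.Involution.BrauerFowler.centralizer_ne_top hcen⟩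
  have hH' : H ≠ ⊤ := hH
  have hle : ∀ x : G, x ≠ 1 → Nat.card (Subgroup.centralizer ({x} : Set G)) ≤ Nat.card H := by
    intro x hx
    by_contra h
    exact h (hmax (CfsgLib.Involution.BrauerFowler.centralizer_ne_top (hnc x hx))
      (Nat.le_of_not_le h))
  have hb := CfsgLib.Involution.BrauerFowler.involutions_bound
    (fun x hx => (CfsgLib.Involution.Count.card_pairs_le x).trans (hle x hx))
    (fun x hx => (CfsgLib.Involution.BrauerFowler.pairs_involution_le hx).trans
      (hle x (CfsgLib.Involution.Dihedral.ne_one hx)))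
  have h1 := CfsgLib.Involution.BrauerFowler.card_involutions_mul t ht
  rw [← hn] at h1
  have hidx : Nat.card H * H.index = Nat.card G := H.card_mul_index
  have hg0 : 0 < Nat.card G := Nat.card_pos
  have hkey : H.index ≤ 2 * n ^ 2 := by
    by_contra hcon
    push Not at hcon
    set h := Nat.card H
    set N := Nat.card {u : G // orderOf u = 2}
    set g := Nat.card G
    have h2 : g * g ≤ N * N * n ^ 2 := by
      calc g * g ≤ (N * n) * (N * n) := Nat.mul_le_mul h1 h1
        _ = N * N * n ^ 2 := by ring
    have h3 : N * N ≤ g * h := le_trans (Nat.mul_le_mul_left _ (Nat.le_succ _))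
      (hb.trans (Nat.mul_le_mul_right _ (Nat.sub_le _ _)))
    have hh : 0 < h := Nat.card_pos
    have h4 : g * g ≤ g * (h * n ^ 2) := by
      calc g * g ≤ N * N * n ^ 2 := h2
        _ ≤ g * h * n ^ 2 := Nat.mul_le_mul_right _ h3
        _ = g * (h * n ^ 2) := by ring
    have h5 := Nat.le_of_mul_le_mul_left h4 hg0
    rw [← hidx] at h5
    have := Nat.le_of_mul_le_mul_left h5 hh
    omega
  have hinj : Function.Injective (MulAction.toPermHom G (G ⧸ H)) := by
    rw [← MonoidHom.ker_eq_bot_iff]
    refine (IsSimpleGroup.eq_bot_or_eq_top_of_normal _ inferInstance).resolve_right fun h => hH' ?_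
    rw [← Subgroup.normalCore_eq_ker] at h
    exact top_le_iff.1 (h ▸ Subgroup.normalCore_le H)
  refine (Nat.card_le_card_of_injective _ hinj).trans ?_
  rw [Nat.card_perm]
  exact Nat.factorial_le hkey

end Cfsg.Agent.S0212
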