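import Cfsg.Statements.S0213
import Mathlib
import Cfsg.Agent.Lib.Involution.Count
import Cfsg.Agent.Lib.Involution.Dihedral
-- import your own Cfsg.Agent.* helpers here

set_option autoImplicit false
open Cfsg

namespace Cfsg.Agent.S0213

/-- Thompson Order Formula, two-class case: if every involution of the finite group G is conjugate to exactly one of the non-conjugate involutions x₁, x₂, and nᵢ is the number of pairs (u, v) with u conjugate to x₁, v conjugate to x₂ and xᵢ in the cyclic group generated by uv, then |G| = |C(x₂)| n₁ + |C(x₁)| n₂. -/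
theorem result {G : Type*} [Group G] [Finite G] (x₁ x₂ : G) (h₁ : orderOf x₁ = 2) (h₂ : orderOf x₂ = 2) (hnc : ¬ IsConj x₁ x₂) (hall : ∀ t : G, orderOf t = 2 → IsConj x₁ t ∨ IsConj x₂ t) : Nat.card G = Nat.card (Subgroup.centralizer ({x₂} : Set G)) * Nat.card {p : G × G // IsConj x₁ p.1 ∧ IsConj x₂ p.2 ∧ x₁ ∈ Subgroup.zpowers (p.1 * p.2)} + Nat.card (Subgroup.centralizer ({x₁} : Set G)) * Nat.card {p : G × G // IsConj x₁ p.1 ∧ IsConj x₂ p.2 ∧ x₂ ∈ Subgroup.zpowers (p.1 * p.2)} := by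
  classical
  haveI := Fintype.ofFinite G
  let h : G × G → G := fun p => (p.1 * p.2) ^ (orderOf (p.1 * p.2) / 2)
  have hev : ∀ p : G × G, IsConj x₁ p.1 → IsConj x₂ p.2 → Even (orderOf (p.1 * p.2)) := by
    intro p hp1 hp2
    obtain ⟨a, ha⟩ := isConj_iff.1 hp1
    obtain ⟨b, hb⟩ := isConj_iff.1 hp2
    refine CfsgLib.Involution.Dihedral.even_of_not_isConj ?_ ?_
      fun hc => hnc ((hp1.trans hc).trans hp2.symm)
    · rw [← ha, CfsgLib.Involution.Dihedral.orderOf_conj, h₁]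
    · rw [← hb, CfsgLib.Involution.Dihedral.orderOf_conj, h₂]
  have huniq : ∀ (a c : G), Even (orderOf a) → orderOf c = 2 → c ∈ Subgroup.zpowers a →
      c = a ^ (orderOf a / 2) := by
    intro a c hev hc hca
    obtain ⟨i, rfl⟩ := Subgroup.mem_zpowers_iff.1 hca
    obtain ⟨m, hm⟩ := hev
    have h1 : a ^ (i * 2) = 1 := by
      rw [zpow_mul, zpow_two]
      exact CfsgLib.Involution.Dihedral.mul_self hc
    rw [← orderOf_dvd_iff_zpow_eq_one, hm] at h1
    obtain ⟨q, hq⟩ := h1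
    have hi : i = (m : ℤ) * q := by push_cast at hq; linarith
    have hne : a ^ i ≠ 1 := CfsgLib.Involution.Dihedral.ne_one hc
    rcases Int.even_or_odd q with ⟨j, hj⟩ | ⟨j, hj⟩
    · exfalso; apply hne
      rw [← orderOf_dvd_iff_zpow_eq_one, hm, hi, hj]
      exact ⟨j, by push_cast; ring⟩
    · rw [hi, hj, show orderOf a / 2 = m by omega, ← zpow_natCast a m]
      rw [show (m : ℤ) * (2 * j + 1) = (orderOf a : ℤ) * j + m by rw [hm]; push_cast; ring,
        zpow_add, zpow_mul, zpow_natCast, pow_orderOf_eq_one, one_zpow, one_mul]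
  have key : ∀ (x : G), orderOf x = 2 →
      Nat.card {p : G × G // (IsConj x₁ p.1 ∧ IsConj x₂ p.2) ∧ IsConj x (h p)} =
        Nat.card {c : G // IsConj x c} * Nat.card {p : G × G //
          IsConj x₁ p.1 ∧ IsConj x₂ p.2 ∧ x ∈ Subgroup.zpowers (p.1 * p.2)} := by
    intro x hx
    rw [← Nat.card_prod]
    have hch : ∀ c : {c : G // IsConj x c}, ∃ g : G, g * x * g⁻¹ = c.1 := fun c => isConj_iff.1 c.2
    choose g hg using hch
    let F : {c : G // IsConj x c} × {p : G × G //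
        IsConj x₁ p.1 ∧ IsConj x₂ p.2 ∧ x ∈ Subgroup.zpowers (p.1 * p.2)} → G × G :=
      fun cp => (g cp.1 * cp.2.1.1 * (g cp.1)⁻¹, g cp.1 * cp.2.1.2 * (g cp.1)⁻¹)
    have hF : ∀ cp, (IsConj x₁ (F cp).1 ∧ IsConj x₂ (F cp).2) ∧ h (F cp) = cp.1.1 := by
      rintro ⟨c, p, hp1, hp2, hpz⟩
      have hc1 : IsConj x₁ (g c * p.1 * (g c)⁻¹) := hp1.trans (isConj_iff.2 ⟨_, rfl⟩)
      have hc2 : IsConj x₂ (g c * p.2 * (g c)⁻¹) := hp2.trans (isConj_iff.2 ⟨_, rfl⟩)
      refine ⟨⟨hc1, hc2⟩, (huniq _ _ (hev _ hc1 hc2) ?_ ?_).symm⟩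
      · rw [← hg c, CfsgLib.Involution.Dihedral.orderOf_conj, hx]
      · rw [← hg c, show g c * p.1 * (g c)⁻¹ * (g c * p.2 * (g c)⁻¹) =
          MulAut.conj (g c) (p.1 * p.2) by simp [mul_assoc]]
        obtain ⟨i, hi⟩ := Subgroup.mem_zpowers_iff.1 hpz
        refine ⟨i, ?_⟩
        simp only
        rw [← map_zpow, hi]; rfl
    refine (Nat.card_eq_of_bijective (fun cp => (⟨F cp, (hF cp).1, (hF cp).2 ▸ cp.1.2⟩ :
      {p : G × G // (IsConj x₁ p.1 ∧ IsConj x₂ p.2) ∧ IsConj x (h p)})) ⟨?_, ?_⟩).symm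
    · intro a b hab
      have he : F a = F b := congrArg Subtype.val hab
      have h1 : a.1 = b.1 := Subtype.ext (by rw [← (hF a).2, he, (hF b).2])
      obtain ⟨a1, a2⟩ := a
      obtain ⟨b1, b2⟩ := b
      simp only at h1
      subst h1
      simp only [F, Prod.mk.injEq, mul_left_inj, mul_right_inj] at he
      exact Prod.ext rfl (Subtype.ext (Prod.ext he.1 he.2))
    · rintro ⟨p, ⟨hp1, hp2⟩, hpc⟩
      set c : {c : G // IsConj x c} := ⟨h p, hpc⟩ with hc
      refine ⟨(c, ⟨((g c)⁻¹ * p.1 * g c, (g c)⁻¹ * p.2 * g c), ?_, ?_, ?_⟩), ?_⟩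
      · exact hp1.trans (isConj_iff.2 ⟨(g c)⁻¹, by rw [inv_inv]⟩)
      · exact hp2.trans (isConj_iff.2 ⟨(g c)⁻¹, by rw [inv_inv]⟩)
      · have h3 := hg c
        rw [show ((g c)⁻¹ * p.1 * g c) * ((g c)⁻¹ * p.2 * g c) =
          MulAut.conj (g c)⁻¹ (p.1 * p.2) by simp [mul_assoc]]
        refine ⟨((orderOf (p.1 * p.2) / 2 : ℕ) : ℤ), ?_⟩
        simp only
        rw [zpow_natCast, ← map_pow]
        change (g c)⁻¹ * h p * (g c)⁻¹⁻¹ = x
        rw [show h p = c.1 from rfl, ← h3]; group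
      · exact Subtype.ext (Prod.ext (by simp [F, mul_assoc]) (by simp [F, mul_assoc]))
  have htot : Nat.card {c : G // IsConj x₁ c} * Nat.card {c : G // IsConj x₂ c} =
      Nat.card {p : G × G // (IsConj x₁ p.1 ∧ IsConj x₂ p.2) ∧ IsConj x₁ (h p)} +
      Nat.card {p : G × G // (IsConj x₁ p.1 ∧ IsConj x₂ p.2) ∧ IsConj x₂ (h p)} := by
    rw [← Nat.card_prod, ← Nat.card_sum]
    refine Nat.card_congr ((Equiv.subtypeProdEquivProd).symm.trans
      ((Equiv.subtypeEquivRight fun p => ⟨fun hp => ?_, fun hp => hp.elim (·.1) (·.1)⟩).trans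
        (subtypeOrEquiv _ _ ?_)))
    · rcases hall (h p) (CfsgLib.Involution.Dihedral.half_orderOf (hev p hp.1 hp.2)) with hh | hh
      · exact Or.inl ⟨hp, hh⟩
      · exact Or.inr ⟨hp, hh⟩
    · rw [Pi.disjoint_iff]
      intro p
      rw [Prop.disjoint_iff]
      simp only [not_and]
      exact fun hp1 _ hp2 => hnc (hp1.2.trans hp2.symm)
  rw [key x₁ h₁, key x₂ h₂] at htot
  have hcl : ∀ x : G, Nat.card G =
      Nat.card {c : G // IsConj x c} * Nat.card (Subgroup.centralizer ({x} : Set G)) := by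
    intro x
    rw [CfsgLib.Involution.Count.card_eq_class_mul x]
    congr 1
    rw [Nat.card_eq_fintype_card, Fintype.card_subtype]
  have hpos : 0 < Nat.card {c : G // IsConj x₁ c} * Nat.card {c : G // IsConj x₂ c} := by
    haveI : Nonempty {c : G // IsConj x₁ c} := ⟨⟨x₁, IsConj.refl _⟩⟩
    haveI : Nonempty {c : G // IsConj x₂ c} := ⟨⟨x₂, IsConj.refl _⟩⟩
    exact Nat.mul_pos Nat.card_pos Nat.card_pos
  refine Nat.eq_of_mul_eq_mul_left hpos ?_
  have e1 := hcl x₁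
  have e2 := hcl x₂
  generalize Nat.card {c : G // IsConj x₁ c} = k1 at *
  generalize Nat.card {c : G // IsConj x₂ c} = k2 at *
  generalize Nat.card (Subgroup.centralizer ({x₁} : Set G)) = c1 at *
  generalize Nat.card (Subgroup.centralizer ({x₂} : Set G)) = c2 at *
  generalize Nat.card {p : G × G // IsConj x₁ p.1 ∧ IsConj x₂ p.2 ∧
    x₁ ∈ Subgroup.zpowers (p.1 * p.2)} = n1 at *
  generalize Nat.card {p : G × G // IsConj x₁ p.1 ∧ IsConj x₂ p.2 ∧
    x₂ ∈ Subgroup.zpowers (p.1 * p.2)} = n2 at *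
  generalize Nat.card G = N at *
  calc k1 * k2 * N = k1 * n1 * N + k2 * n2 * N := by rw [← add_mul, ← htot]
    _ = k1 * n1 * (k2 * c2) + k2 * n2 * (k1 * c1) := by rw [← e2, ← e1]
    _ = k1 * k2 * (c2 * n1 + c1 * n2) := by ring

end Cfsg.Agent.S0213
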