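import Cfsg.Statements.S0214
import Mathlib
import Cfsg.Agent.Lib.Involution.StronglyEmbedded
-- import your own Cfsg.Agent.* helpers here

set_option autoImplicit false
open Cfsg

namespace Cfsg.Agent.S0214

/-- Let H be a proper subgroup of the finite group G and P a nontrivial Sylow 2-subgroup of H. Then H is strongly embedded in G if and only if N_G(X) ≤ H for every nontrivial subgroup X of P. -/
theorem result {G : Type*} [Group G] [Finite G] (H : Subgroup G) (hH : H ≠ ⊤) (P : Sylow 2 ↥H) (hP : (P : Subgroup ↥H) ≠ ⊥) : Cfsg.IsStronglyEmbedded H ↔ (∀ X : Subgroup ↥H, X ≤ (P : Subgroup ↥H) → X ≠ ⊥ → Subgroup.normalizer ((X.map H.subtype : Subgroup G) : Set G) ≤ H) := by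
  haveI : Fact (Nat.Prime 2) := ⟨Nat.prime_two⟩
  set PG : Subgroup G := (P : Subgroup ↥H).map H.subtype with hPG
  constructor
  · intro hse X hX hX1 g hg
    have hXev : Even (Nat.card X) := by
      obtain ⟨k, hk⟩ := (P.2.to_le hX).exists_card_eq
      rcases k with - | k
      · exact absurd (Subgroup.eq_bot_of_card_eq X (by rw [hk]; rfl)) hX1
      · rw [hk, pow_succ']; exact ⟨2 ^ k, two_mul _⟩
    obtain ⟨x, hx, hx2⟩ := CfsgLib.Involution.Basic.exists_involution_of_even X hXev
    have hx2' : orderOf (x : G) = 2 := by rw [Subgroup.orderOf_coe]; exact hx2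
    obtain ⟨y, hy, hyg⟩ := (Subgroup.mem_normalizer_iff.1 hg (x : G)).1 ⟨x, hx, rfl⟩
    exact CfsgLib.Involution.SE.mem_of_conj_mem hse x.2 hx2' (hyg ▸ y.2)
  · intro hN
    have hNle : ∀ Y : Subgroup G, Y ≤ PG → Y ≠ ⊥ → Subgroup.normalizer (Y : Set G) ≤ H := by
      intro Y hY hY1
      have e : (Y.subgroupOf H).map H.subtype = Y := by
        rw [Subgroup.subgroupOf_map_subtype, inf_eq_left]
        exact hY.trans (Subgroup.map_subtype_le _)
      refine e ▸ hN (Y.subgroupOf H) (fun a ha => ?_) (fun h0 => hY1 ?_)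
      · obtain ⟨b, hb, hba⟩ := hY (Subgroup.mem_subgroupOf.1 ha)
        exact (Subtype.ext hba : b = a) ▸ hb
      · rw [← e, h0, Subgroup.map_bot]
    have hPev : Even (Nat.card H) := by
      obtain ⟨k, hk⟩ := P.2.exists_card_eq
      rcases k with - | k
      · exact absurd (Subgroup.eq_bot_of_card_eq _ (by rw [hk]; rfl)) hP
      · have := Subgroup.card_subgroup_dvd_card (P : Subgroup ↥H)
        rw [hk, pow_succ'] at this
        exact even_iff_two_dvd.2 ((Dvd.intro _ rfl).trans this)
    refine ⟨hH, hPev, fun g hg => Nat.not_even_iff_odd.1 fun hev => hg ?_⟩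
    -- a Sylow 2-subgroup `X` of the intersection, moved into `P`
    set D := H ⊓ H.map (MulAut.conj g).toMonoidHom with hD
    let S : Sylow 2 D := default
    set X : Subgroup G := (S : Subgroup D).map D.subtype with hX
    have hX2 : IsPGroup 2 X := S.2.map _
    have hX1 : X ≠ ⊥ := by
      intro h
      have h1 : (S : Subgroup D) = ⊥ := by
        apply (Subgroup.map_eq_bot_iff_of_injective _ D.subtype_injective).1
        exact h
      have := S.dvd_card_of_dvd_card hev.two_dvd
      rw [h1, Subgroup.card_bot] at this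
      norm_num at this
    have hXH : X ≤ H := (Subgroup.map_subtype_le _).trans inf_le_left
    obtain ⟨a, ha⟩ := CfsgLib.Involution.Basic.exists_conj_le P
      (hX2.comap_of_injective H.subtype H.subtype_injective)
    have hXa : ∀ Y : Subgroup G, Y ≠ ⊥ → Y ≤ H → ∀ b : H,
        (∀ x ∈ Y.subgroupOf H, b * x * b⁻¹ ∈ P) → Subgroup.normalizer (Y : Set G) ≤ H := by
      intro Y hY1 hYH b hb z hz
      have hYb : Y.map (MulAut.conj (b : G)).toMonoidHom ≤ PG := by
        rintro _ ⟨y, hy, rfl⟩
        exact ⟨b * ⟨y, hYH hy⟩ * b⁻¹, hb ⟨y, hYH hy⟩ hy, rfl⟩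
      have := hNle _ hYb (fun h => hY1 ((Subgroup.map_eq_bot_iff_of_injective _
        (MulAut.conj (b : G)).injective).1 h))
      have hzb : (b : G) * z * (b : G)⁻¹ ∈ Subgroup.normalizer
          ((Y.map (MulAut.conj (b : G)).toMonoidHom : Subgroup G) : Set G) := by
        rw [Subgroup.mem_normalizer_iff]
        intro w
        rw [Subgroup.mem_map_equiv, Subgroup.mem_map_equiv, MulAut.conj_symm_apply,
          MulAut.conj_symm_apply]
        rw [show (b : G)⁻¹ * ((b : G) * z * (b : G)⁻¹ * w * ((b : G) * z * (b : G)⁻¹)⁻¹) * b =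
          z * ((b : G)⁻¹ * w * b) * z⁻¹ by group]
        exact Subgroup.mem_normalizer_iff.1 hz _
      have h2 := H.mul_mem (H.mul_mem (H.inv_mem b.2) (this hzb)) b.2
      rwa [show (b : G)⁻¹ * ((b : G) * z * (b : G)⁻¹) * b = z by group] at h2
    have hNX1 : Subgroup.normalizer (X : Set G) ≤ H := hXa X hX1 hXH a ha
    -- the conjugate `g⁻¹ X g` also lies in `H`
    set X' := X.map (MulAut.conj g⁻¹).toMonoidHom with hX'
    have hX'H : X' ≤ H := by
      rintro _ ⟨x, hx, rfl⟩
      obtain ⟨y, hy, hyx⟩ := (Subgroup.map_subtype_le (S : Subgroup D) hx).2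
      change g⁻¹ * x * g⁻¹⁻¹ ∈ H
      rw [← hyx]
      change g⁻¹ * (g * y * g⁻¹) * g⁻¹⁻¹ ∈ H
      simpa [mul_assoc] using hy
    obtain ⟨a', ha'⟩ := CfsgLib.Involution.Basic.exists_conj_le P
      ((hX2.map (MulAut.conj g⁻¹).toMonoidHom).comap_of_injective H.subtype H.subtype_injective)
    have hNX2 : Subgroup.normalizer (X' : Set G) ≤ H :=
      hXa X' (fun h => hX1 ((Subgroup.map_eq_bot_iff_of_injective _
        (MulAut.conj g⁻¹).injective).1 h)) hX'H a' ha'
    -- hence `X` is a Sylow subgroup of `H`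
    obtain ⟨R, hR⟩ := (hX2.comap_of_injective H.subtype H.subtype_injective).exists_le_sylow
    have hXR : X = (R : Subgroup H).map H.subtype := by
      have hle : X ≤ (R : Subgroup H).map H.subtype :=
        fun x hx => ⟨⟨x, hXH hx⟩, hR hx, rfl⟩
      by_contra hne
      haveI := (R.2.map H.subtype).isNilpotent
      have hlt : X.subgroupOf ((R : Subgroup H).map H.subtype) < ⊤ := by
        rw [lt_top_iff_ne_top, Ne, Subgroup.subgroupOf_eq_top]
        exact fun h => hne (le_antisymm hle h)
      obtain ⟨y, hy, hyX⟩ :=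
        SetLike.exists_of_lt (Group.normalizerCondition_of_isNilpotent (G := _) _ hlt)
      have hyN : (y : G) ∈ Subgroup.normalizer (X : Set G) := by
        rw [Subgroup.mem_normalizer_iff] at hy ⊢
        intro x
        constructor
        · exact fun hx => (hy ⟨x, hle hx⟩).1 hx
        · intro hx
          have hxK : x ∈ (R : Subgroup H).map H.subtype := by
            have := mul_mem (mul_mem (inv_mem y.2) (hle hx)) y.2
            rwa [show (y : G)⁻¹ * ((y : G) * x * (y : G)⁻¹) * y = x by group] at this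
          exact (hy ⟨x, hxK⟩).2 hx
      have hyN' : g⁻¹ * (y : G) * g ∈ H := by
        apply hNX2
        rw [Subgroup.mem_normalizer_iff]
        intro w
        rw [hX', Subgroup.mem_map_equiv, Subgroup.mem_map_equiv, MulAut.conj_symm_apply,
          MulAut.conj_symm_apply, inv_inv,
          show g * (g⁻¹ * (y : G) * g * w * (g⁻¹ * (y : G) * g)⁻¹) * g⁻¹ =
            (y : G) * (g * w * g⁻¹) * (y : G)⁻¹ by group]
        simpa using Subgroup.mem_normalizer_iff.1 hyN (g * w * g⁻¹)
      have hyD : (y : G) ∈ D := ⟨hNX1 hyN, g⁻¹ * (y : G) * g, hyN', by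
        change g * (g⁻¹ * (y : G) * g) * g⁻¹ = (y : G)
        group⟩
      have hp : IsPGroup 2 ↥(X ⊔ Subgroup.zpowers (y : G)) :=
        IsPGroup.to_sup_of_normal_left' hX2
          ((R.2.map H.subtype).to_le (Subgroup.zpowers_le.2 y.2)) (Subgroup.zpowers_le.2 hyN)
      have hSle : (S : Subgroup D) ≤ (X ⊔ Subgroup.zpowers (y : G)).subgroupOf D :=
        fun s hs => Subgroup.mem_sup_left ⟨s, hs, rfl⟩
      have := S.3 (hp.comap_of_injective D.subtype D.subtype_injective) hSle
      have hyS : (⟨(y : G), hyD⟩ : D) ∈ (S : Subgroup D) := by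
        have hm : (⟨(y : G), hyD⟩ : D) ∈ (X ⊔ Subgroup.zpowers (y : G)).subgroupOf D :=
          Subgroup.mem_sup_right (Subgroup.mem_zpowers _)
        rwa [← this]
      exact hyX ⟨⟨(y : G), hyD⟩, hyS, rfl⟩
    obtain ⟨h, hh⟩ := CfsgLib.Involution.Basic.exists_conj_le R
      ((hX2.map (MulAut.conj g⁻¹).toMonoidHom).comap_of_injective H.subtype H.subtype_injective)
    have hle : X'.map (MulAut.conj (h : G)).toMonoidHom ≤ X := by
      rintro _ ⟨x, hx, rfl⟩
      rw [hXR]
      exact ⟨h * ⟨x, hX'H hx⟩ * h⁻¹, hh ⟨x, hX'H hx⟩ hx, rfl⟩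
    have heq : X'.map (MulAut.conj (h : G)).toMonoidHom = X := by
      refine Subgroup.eq_of_le_of_card_ge hle (le_of_eq ?_)
      exact (Nat.card_congr (X.equivMapOfInjective _ (MulAut.conj g⁻¹).injective).toEquiv).trans
        (Nat.card_congr (X'.equivMapOfInjective _ (MulAut.conj (h : G)).injective).toEquiv)
    have hn : (h : G) * g⁻¹ ∈ Subgroup.normalizer (X : Set G) := by
      rw [Subgroup.mem_normalizer_iff]
      intro w
      have e : X.map (MulAut.conj ((h : G) * g⁻¹)).toMonoidHom = X := by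
        refine Eq.trans ?_ heq
        simp only [hX', hX, Subgroup.map_map]; congr 1; ext z; simp [mul_assoc]
      constructor
      · exact fun hw => e.le ⟨w, hw, rfl⟩
      · intro hw
        rw [← e] at hw
        obtain ⟨z, hz, hzw⟩ := hw
        exact ((MulAut.conj ((h : G) * g⁻¹)).injective hzw) ▸ hz
    have := H.mul_mem (H.inv_mem (hNX1 hn)) h.2
    simpa using this

end Cfsg.Agent.S0214
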