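import Cfsg.Statements.S0216
import Mathlib
import Cfsg.Agent.Lib.Involution.Isolated
-- import your own Cfsg.Agent.* helpers here

set_option autoImplicit false
open Cfsg

namespace Cfsg.Agent.S0216

/-- For an involution u in a Sylow 2-subgroup P of a finite group G, the following are equivalent: no G-conjugate of u other than u lies in P; every commutator of u with an element of G has odd order. -/
theorem result {G : Type*} [Group G] [Finite G] (P : Sylow 2 G) (u : G) (hu : orderOf u = 2) (huP : u ∈ P) : (∀ g : G, g * u * g⁻¹ ∈ P → g * u * g⁻¹ = u) ↔ (∀ g : G, Odd (orderOf (u * g * u⁻¹ * g⁻¹))) := by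
  rw [← CfsgLib.Involution.Isolated.isolated_iff_sylow hu huP]
  have key : ∀ g : G, u * g * u⁻¹ * g⁻¹ = u * (g * u * g⁻¹) := fun g => by
    rw [CfsgLib.Involution.Dihedral.inv_eq hu]; group
  constructor
  · intro h g
    rw [key]
    exact CfsgLib.Involution.Isolated.odd_of_isConj h (isConj_iff.2 ⟨g, rfl⟩)
  · intro h
    rw [CfsgLib.Involution.Isolated.isolated_iff_sylow hu huP]
    intro g hg
    haveI : Fact (Nat.Prime 2) := ⟨Nat.prime_two⟩
    obtain ⟨k, hk⟩ := IsPGroup.iff_orderOf.1 P.2 ⟨u * (g * u * g⁻¹), mul_mem huP hg⟩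
    rw [← Subgroup.orderOf_coe] at hk
    simp only at hk
    have ho := h g
    rw [key, hk] at ho
    rcases k with - | k
    · rw [pow_zero, orderOf_eq_one_iff, mul_eq_one_iff_inv_eq,
        CfsgLib.Involution.Dihedral.inv_eq hu] at hk
      exact hk.symm
    · rw [Nat.odd_iff, pow_succ'] at ho
      omega

end Cfsg.Agent.S0216
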