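import Cfsg.Statements.S0220
import Mathlib
import Cfsg.Agent.S0219
import Cfsg.Agent.Lib.Involution.Basic
-- import your own Cfsg.Agent.* helpers here

set_option autoImplicit false
open Cfsg

namespace Cfsg.Agent.S0220

/-- If x is an involution of a finite group G and a Sylow 2-subgroup of the centralizer of x is cyclic, then G has a subgroup of index 2; in particular G is not simple unless it has order 2. -/
theorem result {G : Type*} [Group G] [Finite G] (x : G) (hx : orderOf x = 2) (S : Sylow 2 ↥(Subgroup.centralizer ({x} : Set G))) (hS : IsCyclic (S : Subgroup ↥(Subgroup.centralizer ({x} : Set G)))) : ∃ H : Subgroup G, H.index = 2 := by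
  haveI : Fact (Nat.Prime 2) := ⟨Nat.prime_two⟩
  have hxC : x ∈ Subgroup.centralizer ({x} : Set G) := Subgroup.mem_centralizer_singleton_iff.2 rfl
  set Q : Subgroup G := (S : Subgroup ↥(Subgroup.centralizer ({x} : Set G))).map (Subgroup.centralizer ({x} : Set G)).subtype with hQ
  obtain ⟨P, hP⟩ := (S.2.map (Subgroup.centralizer ({x} : Set G)).subtype).exists_le_sylow
  have hxQ : x ∈ Q := by
    obtain ⟨g, hg⟩ := CfsgLib.Involution.Basic.exists_conj_mem S (x := ⟨x, hxC⟩)
      (by rw [← Subgroup.orderOf_coe]; exact hx)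
    refine ⟨_, hg, ?_⟩
    change (g : G) * x * (g : G)⁻¹ = x
    rw [Subgroup.mem_centralizer_singleton_iff.1 g.2, mul_inv_cancel_right]
  have hQeq : ∀ c ∈ P, Commute c x → c ∈ Q := by
    intro c hc hcx
    have hle : (S : Subgroup ↥(Subgroup.centralizer ({x} : Set G))) ≤ (P : Subgroup G).comap (Subgroup.centralizer ({x} : Set G)).subtype := fun s hs => hP ⟨s, hs, rfl⟩
    have := S.3 (P.2.comap_of_injective (Subgroup.centralizer ({x} : Set G)).subtype (Subgroup.centralizer ({x} : Set G)).subtype_injective) hle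
    refine ⟨⟨c, Subgroup.mem_centralizer_singleton_iff.2 hcx⟩, ?_, rfl⟩
    rw [SetLike.mem_coe, ← this]; exact hc
  haveI hQc : IsCyclic Q := by
    haveI : IsCyclic ↥(S : Subgroup ↥(Subgroup.centralizer ({x} : Set G))) := hS
    exact isCyclic_of_surjective
      ((S : Subgroup ↥(Subgroup.centralizer ({x} : Set G))).equivMapOfInjective (Subgroup.centralizer ({x} : Set G)).subtype (Subgroup.centralizer ({x} : Set G)).subtype_injective).toMonoidHom
      ((S : Subgroup ↥(Subgroup.centralizer ({x} : Set G))).equivMapOfInjective (Subgroup.centralizer ({x} : Set G)).subtype (Subgroup.centralizer ({x} : Set G)).subtype_injective).surjective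
  -- a central involution of `P` lies in the cyclic group `Q`, hence equals `x`
  have hPnt : Nontrivial (P : Subgroup G) :=
    ⟨⟨⟨x, hP hxQ⟩, 1, fun h => CfsgLib.Involution.Dihedral.ne_one hx (congrArg Subtype.val h)⟩⟩
  haveI := P.2.center_nontrivial
  have hev : 2 ∣ Nat.card (Subgroup.center (P : Subgroup G)) := by
    obtain ⟨e, he, hh⟩ := (P.2.to_subgroup (Subgroup.center (P : Subgroup G))).nontrivial_iff_card.1 inferInstance
    rw [hh]; exact dvd_pow_self 2 (by omega)
  obtain ⟨z, hz⟩ := exists_prime_orderOf_dvd_card' 2 hev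
  have hzo : orderOf (((z : (P : Subgroup G)) : G)) = 2 := by
    rw [Subgroup.orderOf_coe, Subgroup.orderOf_coe]; exact hz
  have hzx : ∀ c ∈ P, Commute c ((z : (P : Subgroup G)) : G) := fun c hc =>
    congrArg Subtype.val (Subgroup.mem_center_iff.1 z.2 ⟨c, hc⟩)
  have hzQ := hQeq _ z.1.2 (hzx x (hP hxQ)).symm
  have hzeq : ((z : (P : Subgroup G)) : G) = x := by
    classical
    haveI := Fintype.ofFinite Q
    have hfin := IsCyclic.card_pow_eq_one_le (α := Q) (n := 2) two_pos
    by_contra hne
    have h3 : ({⟨1, one_mem _⟩, ⟨x, hxQ⟩, ⟨_, hzQ⟩} : Finset Q).card ≤ 2 := by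
      refine le_trans (Finset.card_le_card fun a ha => ?_) hfin
      simp only [Finset.mem_insert, Finset.mem_singleton] at ha
      rw [Finset.mem_filter]
      refine ⟨Finset.mem_univ _, Subtype.ext ?_⟩
      rw [SubgroupClass.coe_pow]
      rcases ha with rfl | rfl | rfl
      · exact one_pow _
      · exact orderOf_dvd_iff_pow_eq_one.1 hx.dvd
      · exact orderOf_dvd_iff_pow_eq_one.1 hzo.dvd
    rw [Finset.card_insert_of_notMem, Finset.card_pair] at h3
    · omega
    · exact fun h => hne (congrArg Subtype.val h).symm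
    · simp only [Finset.mem_insert, Finset.mem_singleton, not_or]
      exact ⟨fun h => CfsgLib.Involution.Dihedral.ne_one hx (congrArg Subtype.val h).symm,
        fun h => CfsgLib.Involution.Dihedral.ne_one hzo (congrArg Subtype.val h).symm⟩
  have hPQ : (P : Subgroup G) = Q := le_antisymm (fun c hc => hQeq c hc (hzeq ▸ hzx c hc)) hP
  exact Cfsg.Agent.S0219.index_two_of_cyclic_sylow
    (by rw [even_iff_two_dvd, ← hx]; exact orderOf_dvd_natCard x) P (hPQ ▸ hQc)

end Cfsg.Agent.S0220
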