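import Cfsg.Statements.S0224
import Mathlib
import Cfsg.Agent.Lib.Involution.Basic
-- import your own Cfsg.Agent.* helpers here

set_option autoImplicit false
open Cfsg

namespace Cfsg.Agent.S0224

/-- Let H be a proper subgroup of even order of the finite group G. Then H is strongly embedded if and only if each involution of H fixes exactly one point (namely the coset H) in the action of G on the cosets of H. -/
theorem result {G : Type*} [Group G] [Finite G] (H : Subgroup G) (hH : H ≠ ⊤) (heven : Even (Nat.card H)) : Cfsg.IsStronglyEmbedded H ↔ ∀ t ∈ H, orderOf t = 2 → Nat.card {c : G ⧸ H // t • c = c} = 1 := by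
  have hfix : ∀ t g : G, t • (g : G ⧸ H) = g ↔ g⁻¹ * t * g ∈ H := by
    intro t g
    rw [MulAction.Quotient.smul_mk, smul_eq_mul, QuotientGroup.eq]
    rw [← H.inv_mem_iff]
    simp [mul_assoc]
  constructor
  · rintro ⟨-, -, hodd⟩ t ht h2
    rw [Nat.card_eq_one_iff_unique]
    refine ⟨⟨?_⟩, ⟨⟨((1 : G) : G ⧸ H), by rw [hfix]; simpa using ht⟩⟩⟩
    have key : ∀ c : G ⧸ H, t • c = c → c = ((1 : G) : G ⧸ H) := by
      intro c
      induction c using QuotientGroup.induction_on with
      | H g =>
        intro hc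
        rw [hfix] at hc
        rw [QuotientGroup.eq, mul_one, H.inv_mem_iff]
        by_contra hg
        have := CfsgLib.Involution.Basic.even_of_involution_mem
          (H ⊓ H.map (MulAut.conj g).toMonoidHom) (t := t)
          ⟨ht, _, hc, show g * (g⁻¹ * t * g) * g⁻¹ = t by group⟩ h2
        exact Nat.not_even_iff_odd.2 (hodd g hg) this
    exact fun a b => Subtype.ext ((key _ a.2).trans (key _ b.2).symm)
  · intro h
    refine ⟨hH, heven, fun g hg => Nat.not_even_iff_odd.1 fun he => hg ?_⟩
    obtain ⟨s, ⟨hs, t, ht, rfl⟩, hs2⟩ := CfsgLib.Involution.Basic.exists_involution_of_even _ he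
    have hs' : g * t * g⁻¹ ∈ H := hs
    have := Nat.card_eq_one_iff_unique.1 (h _ hs' hs2)
    haveI := this.1
    have e := Subsingleton.elim (α := {c : G ⧸ H // (g * t * g⁻¹) • c = c})
      ⟨((1 : G) : G ⧸ H), by rw [hfix]; simpa using hs'⟩
      ⟨(g : G ⧸ H), by rw [hfix, show g⁻¹ * (g * t * g⁻¹) * g = t by group]; exact ht⟩
    simpa [QuotientGroup.eq] using congrArg Subtype.val e

end Cfsg.Agent.S0224
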