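import Cfsg.Statements.S0228
import Mathlib
-- import your own Cfsg.Agent.* helpers here

set_option autoImplicit false
open Cfsg

namespace Cfsg.Agent.S0228

/-- A group of order 12 in which no involution is central is isomorphic to the alternating group on four letters. -/
theorem result {G : Type*} [Group G] [Finite G] (hG : Nat.card G = 12) (hz : ∀ z : G, orderOf z = 2 → z ∉ Subgroup.center G) : Nonempty (G ≃* alternatingGroup (Fin 4)) := by
  classical
  haveI h3 : Fact (Nat.Prime 3) := ⟨Nat.prime_three⟩
  haveI : Fact (Nat.Prime 2) := ⟨Nat.prime_two⟩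
  let P : Sylow 3 G := default
  have hPc : Nat.card P = 3 := by
    rw [P.card_eq_multiplicity, hG]
    have : (12 : ℕ).factorization 3 = 1 := by
      rw [show (12:ℕ) = 4 * 3 from rfl, Nat.factorization_mul (by norm_num) (by norm_num),
        Finsupp.add_apply, Nat.prime_three.factorization_self,
        Nat.factorization_eq_zero_of_not_dvd (by norm_num)]
    rw [this, pow_one]
  have hPi : (P : Subgroup G).index = 4 := by
    have := (P : Subgroup G).card_mul_index
    rw [hPc, hG] at this; omega
  have hn : Nat.card (Sylow 3 G) = 1 ∨ Nat.card (Sylow 3 G) = 4 := by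
    have h1 := card_sylow_modEq_one 3 G
    have h2 := P.card_dvd_index
    rw [hPi] at h2
    have h4 := Nat.le_of_dvd (by norm_num) h2
    rw [Nat.ModEq] at h1
    interval_cases h : Nat.card (Sylow 3 G) <;> omega
  rcases hn with hn | hn
  · exfalso
    haveI hPn : (P : Subgroup G).Normal := by
      rw [← Subgroup.normalizer_eq_top_iff]
      apply Subgroup.eq_top_of_card_eq
      have e : (Subgroup.normalizer ((P : Subgroup G) : Set G)).index = 1 :=
        P.card_eq_index_normalizer.symm.trans hn
      rw [← (Subgroup.normalizer ((P : Subgroup G) : Set G)).card_mul_index, e, mul_one]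
    -- the centraliser of `P` has even order and its involution is central
    set C := Subgroup.centralizer ((P : Subgroup G) : Set G) with hC
    haveI hCn : C.Normal := Subgroup.normal_centralizer
    have hPC : (P : Subgroup G) ≤ C := by
      haveI : IsCyclic (P : Subgroup G) := isCyclic_of_prime_card hPc
      intro a ha
      rw [hC, Subgroup.mem_centralizer_iff]
      intro b hb
      letI := IsCyclic.commGroup (α := (P : Subgroup G))
      exact congrArg Subtype.val (mul_comm (⟨b, hb⟩ : (P : Subgroup G)) ⟨a, ha⟩)
    let f : G →* MulAut (P : Subgroup G) := MulAut.conjNormal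
    have hf : f.ker ≤ C := by
      intro g hg
      rw [hC, Subgroup.mem_centralizer_iff]
      intro b hb
      have := congrArg Subtype.val (DFunLike.congr_fun (MonoidHom.mem_ker.1 hg) ⟨b, hb⟩)
      rw [MulAut.conjNormal_apply] at this
      exact (mul_inv_eq_iff_eq_mul.1 this).symm
    have hCi : C.index ≤ 2 := by
      haveI : IsCyclic (P : Subgroup G) := isCyclic_of_prime_card hPc
      have h1 : f.ker.index ≤ 2 := by
        rw [Subgroup.index_ker]
        refine (Subgroup.card_le_card_group _).trans ?_
        rw [IsCyclic.card_mulAut, hPc]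
        decide
      have h2 := Subgroup.index_dvd_of_le hf
      exact (Nat.le_of_dvd (Nat.pos_of_ne_zero f.ker.index_ne_zero_of_finite) h2).trans h1
    have hC6 : Nat.card C = 6 ∨ Nat.card C = 12 := by
      have := C.card_mul_index
      rw [hG] at this
      have := Nat.pos_of_ne_zero C.index_ne_zero_of_finite
      interval_cases h : C.index <;> omega
    -- the quotient `C / P` has even order
    obtain ⟨t, ht⟩ := exists_prime_orderOf_dvd_card' (G := C) 2 (by omega)
    rw [← Subgroup.orderOf_coe] at ht
    apply hz _ ht
    rw [Subgroup.mem_center_iff]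
    -- `t` is the unique involution of `C`
    rcases hC6 with h6 | h12
    · -- `C` is abelian of order six
      intro g
      haveI : Fintype C := Fintype.ofFinite C
      let S2 : Sylow 2 C := default
      have hS2c : Nat.card S2 = 2 := by
        rw [S2.card_eq_multiplicity, h6]
        have : (6 : ℕ).factorization 2 = 1 := by
          rw [show (6:ℕ) = 3 * 2 from rfl, Nat.factorization_mul (by norm_num) (by norm_num),
            Finsupp.add_apply, Nat.prime_two.factorization_self,
            Nat.factorization_eq_zero_of_not_dvd (by norm_num)]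
        rw [this, pow_one]
      have hcomm : ∀ a : C, Commute a t := by
        intro a
        have hPK : Nat.card ((P : Subgroup G).subgroupOf C) = 3 :=
          (Nat.card_congr (Subgroup.subgroupOfEquivOfLe hPC).toEquiv).trans hPc
        have hidx : ((P : Subgroup G).subgroupOf C).index = 2 := by
          have := ((P : Subgroup G).subgroupOf C).card_mul_index
          rw [hPK, h6] at this; omega
        have htn : t ∉ (P : Subgroup G).subgroupOf C := fun h => by
          have := ((P : Subgroup G).subgroupOf C).orderOf_dvd_natCard h
          rw [← Subgroup.orderOf_coe, ht, hPK] at this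
          norm_num at this
        have hPcomm : ∀ b : C, b ∈ (P : Subgroup G).subgroupOf C → Commute b t := fun b hb =>
          Subtype.ext (t.2 b.1 hb)
        by_cases ha : a ∈ (P : Subgroup G).subgroupOf C
        · exact hPcomm a ha
        · have := hPcomm (a * t) ((Subgroup.mul_mem_iff_of_index_two hidx).2 (iff_of_false ha htn))
          rw [commute_iff_eq, mul_assoc a t t] at this
          exact mul_right_cancel (b := t) (by rw [mul_assoc, this, mul_assoc])
      have hconj : g * t * g⁻¹ ∈ C := hCn.conj_mem _ t.2 g
      by_contra hne
      have hne' : g * (t : G) * g⁻¹ ≠ t := fun h => hne (mul_inv_eq_iff_eq_mul.1 h)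
      -- two commuting involutions give a subgroup of order four in a group of order six
      have hd : ∀ s : C, orderOf s = 2 → s = t := by
        intro s hs
        have hPK : Nat.card ((P : Subgroup G).subgroupOf C) = 3 :=
          (Nat.card_congr (Subgroup.subgroupOfEquivOfLe hPC).toEquiv).trans hPc
        have hidx : ((P : Subgroup G).subgroupOf C).index = 2 := by
          have := ((P : Subgroup G).subgroupOf C).card_mul_index
          rw [hPK, h6] at this; omega
        have hn : ∀ u : C, orderOf u = 2 → u ∉ (P : Subgroup G).subgroupOf C := fun u hu h => by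
          have := ((P : Subgroup G).subgroupOf C).orderOf_dvd_natCard h
          rw [hu, hPK] at this
          norm_num at this
        have hmem := (Subgroup.mul_mem_iff_of_index_two hidx).2
          (iff_of_false (hn s hs) (hn t (by rw [← Subgroup.orderOf_coe]; exact ht)))
        have h3 := ((P : Subgroup G).subgroupOf C).orderOf_dvd_natCard hmem
        rw [hPK] at h3
        have hsq : (s * t) * (s * t) = 1 := by
          have e := (hcomm s).eq
          rw [mul_assoc, ← mul_assoc t s, ← e, mul_assoc s t, ← mul_assoc s s]
          rw [← pow_two s, ← hs, pow_orderOf_eq_one, one_mul, ← pow_two]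
          exact Subtype.ext (by rw [SubgroupClass.coe_pow, ← ht]; exact pow_orderOf_eq_one _)
        have h2 : orderOf (s * t) ∣ 2 := orderOf_dvd_of_pow_eq_one (by rw [pow_two]; exact hsq)
        have := Nat.eq_one_of_dvd_one (Nat.dvd_gcd h3 h2)
        rw [orderOf_eq_one_iff, mul_eq_one_iff_eq_inv] at this
        rw [this]
        exact inv_eq_of_mul_eq_one_left (Subtype.ext (by
          rw [Subgroup.coe_mul, ← pow_two, ← ht]; exact pow_orderOf_eq_one _))
      exact hne' (congrArg Subtype.val (hd ⟨_, hconj⟩ (by
        rw [← Subgroup.orderOf_coe, ← ht]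
        exact orderOf_injective (MulAut.conj g).toMonoidHom (MulAut.conj g).injective _)))
    · -- `P` is central, so any Sylow 2-subgroup is normal and abelian
      intro g
      let S2 : Sylow 2 G := default
      have hS4 : Nat.card S2 = 4 := by
        rw [S2.card_eq_multiplicity, hG]
        have : (12 : ℕ).factorization 2 = 2 := by
          rw [show (12:ℕ) = 3 * 2 ^ 2 from rfl, Nat.factorization_mul (by norm_num) (by norm_num),
            Finsupp.add_apply, Nat.factorization_eq_zero_of_not_dvd (by norm_num),
            Nat.prime_two.factorization_pow, Finsupp.single_eq_same]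
        rw [this]; norm_num
      have hCtop : C = ⊤ := Subgroup.eq_top_of_card_eq _ (by rw [h12, hG])
      have hPcen : ∀ a ∈ P, ∀ b : G, b * a = a * b := fun a ha b => by
        have hb : b ∈ C := hCtop ▸ Subgroup.mem_top b
        exact ((Subgroup.mem_centralizer_iff.1 hb) a ha).symm
      obtain ⟨R, hR⟩ := (IsPGroup.of_card (p := 2) (n := 1)
        (G := Subgroup.zpowers (t : G)) (by rw [Nat.card_zpowers, ht, pow_one])).exists_le_sylow
      have hcompl : Subgroup.IsComplement' (P : Subgroup G) (R : Subgroup G) := by
        apply Subgroup.isComplement'_of_card_mul_and_disjoint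
        · rw [hPc, R.card_eq_multiplicity, ← S2.card_eq_multiplicity, hS4, hG]
        · rw [disjoint_iff]
          apply Subgroup.inf_eq_bot_of_coprime
          rw [hPc, R.card_eq_multiplicity, ← S2.card_eq_multiplicity, hS4]
          norm_num
      obtain ⟨⟨⟨a, ha⟩, ⟨r, hr⟩⟩, hgr, -⟩ :=
        hcompl.existsUnique g
      simp only at hgr
      have hR4 : Nat.card R = 2 ^ 2 := by rw [R.card_eq_multiplicity, ← S2.card_eq_multiplicity, hS4]; rfl
      letI := IsPGroup.commGroupOfCardEqPrimeSq hR4
      have hrt : r * (t : G) = t * r :=
        congrArg Subtype.val (mul_comm (⟨r, hr⟩ : R) ⟨t, hR (Subgroup.mem_zpowers _)⟩)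
      rw [← hgr, mul_assoc, hrt, ← mul_assoc, ← hPcen a ha (t : G), mul_assoc]
  · let φ : G →* Equiv.Perm (Sylow 3 G) := MulAction.toPermHom G (Sylow 3 G)
    have hNP : Subgroup.normalizer ((P : Subgroup G) : Set G) = P := by
      refine (Subgroup.eq_of_le_of_card_ge Subgroup.le_normalizer ?_).symm
      have := (Subgroup.normalizer ((P : Subgroup G) : Set G)).card_mul_index
      have e : (Subgroup.normalizer ((P : Subgroup G) : Set G)).index = 4 :=
        P.card_eq_index_normalizer.symm.trans hn
      rw [e, hG] at this
      rw [hPc]; omega
    have hker : φ.ker = ⊥ := by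
      have hle : ∀ Q : Sylow 3 G, φ.ker ≤ Subgroup.normalizer ((Q : Subgroup G) : Set G) := by
        intro Q g hg
        exact Sylow.smul_eq_iff_mem_normalizer.1 (DFunLike.congr_fun (MonoidHom.mem_ker.1 hg) Q)
      have hleP : φ.ker ≤ (P : Subgroup G) := hNP ▸ hle P
      rcases Nat.prime_three.eq_one_or_self_of_dvd _ (hPc ▸ Subgroup.card_dvd_of_le hleP) with h | h
      · exact Subgroup.eq_bot_of_card_eq _ h
      · exfalso
        have heq : φ.ker = (P : Subgroup G) :=
          Subgroup.eq_of_le_of_card_ge hleP (by rw [h, hPc])
        haveI : (P : Subgroup G).Normal := heq ▸ φ.normal_ker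
        have htop := Subgroup.normalizer_eq_top_iff.2 ‹(P : Subgroup G).Normal›
        rw [hNP] at htop
        rw [htop, Subgroup.card_top, hG] at hPc
        omega
    haveI : Fintype (Sylow 3 G) := Fintype.ofFinite _
    let e : Sylow 3 G ≃ Fin 4 :=
      (Fintype.equivFin _).trans (finCongr (by rw [← Nat.card_eq_fintype_card, hn]))
    let ψ : G →* Equiv.Perm (Fin 4) := e.permCongrHom.toMonoidHom.comp φ
    have hψ : Function.Injective ψ :=
      e.permCongrHom.injective.comp ((MonoidHom.ker_eq_bot_iff φ).1 hker)
    have hr : ψ.range = alternatingGroup (Fin 4) := by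
      apply Equiv.Perm.eq_alternatingGroup_of_index_eq_two
      have := ψ.range.card_mul_index
      rw [← Nat.card_congr (MonoidHom.ofInjective hψ).toEquiv, hG, Nat.card_perm,
        Nat.card_fin] at this
      norm_num [Nat.factorial] at this
      omega
    exact ⟨(MonoidHom.ofInjective hψ).trans (MulEquiv.subgroupCongr hr)⟩

end Cfsg.Agent.S0228
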