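import Cfsg.Statements.S0229
import Mathlib
import Cfsg.Agent.Lib.Involution.Isolated
-- import your own Cfsg.Agent.* helpers here

set_option autoImplicit false
open Cfsg

namespace Cfsg.Agent.S0229

/-- Let t be an involution of a Sylow 2-subgroup S of a finite group G, conjugate in G to no other element of S, and let s be an involution of G not conjugate to t. Then the order of st is twice an odd number. -/
theorem result {G : Type*} [Group G] [Finite G] (S : Sylow 2 G) (t : G) (ht : orderOf t = 2) (htS : t ∈ S) (hiso : ∀ g : G, g * t * g⁻¹ ∈ S → g * t * g⁻¹ = t) (s : G) (hs : orderOf s = 2) (hns : ¬ IsConj s t) : orderOf (s * t) % 4 = 2 := by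
  have hz := (CfsgLib.Involution.Isolated.isolated_iff_sylow ht htS).2 hiso
  have hne : t ≠ s := fun h => hns (h ▸ IsConj.refl _)
  have heven := CfsgLib.Involution.Dihedral.even_of_not_isConj ht hs (fun h => hns h.symm)
  have hord : orderOf (s * t) = orderOf (t * s) := by
    rw [← orderOf_inv, mul_inv_rev, CfsgLib.Involution.Dihedral.inv_eq ht,
      CfsgLib.Involution.Dihedral.inv_eq hs]
  rw [hord]
  have h4 : ¬ 4 ∣ orderOf (t * s) := by
    intro h4
    obtain ⟨d, -, hd⟩ := (CfsgLib.Involution.Dihedral.conj_half_iff ht hs heven).2 h4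
    have h := CfsgLib.Involution.Isolated.eq_of_isConj hz (isConj_iff.2 ⟨d, hd⟩)
      ((Commute.refl t).mul_right
        (CfsgLib.Involution.Dihedral.half_commute_left ht hs heven).symm)
    rw [mul_eq_left] at h
    exact CfsgLib.Involution.Dihedral.ne_one (CfsgLib.Involution.Dihedral.half_orderOf heven) h
  obtain ⟨m, hm⟩ := heven
  omega

end Cfsg.Agent.S0229
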