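import Cfsg.Statements.S0230
import Mathlib
import Cfsg.Agent.Lib.Involution.Basic
import Cfsg.Agent.Lib.Involution.Count
-- import your own Cfsg.Agent.* helpers here

set_option autoImplicit false
open Cfsg

namespace Cfsg.Agent.S0230

/-- Let G be a finite group with two non-conjugate involutions, and let t be an involution whose centralizer has maximal order among centralizers of involutions. Then |G| < |C_G(t)|^3. -/
theorem result {G : Type*} [Group G] [Finite G] (s t : G) (hs : orderOf s = 2) (ht : orderOf t = 2) (hnc : ¬ IsConj s t) (hmax : ∀ u : G, orderOf u = 2 → Nat.card (Subgroup.centralizer ({u} : Set G)) ≤ Nat.card (Subgroup.centralizer ({t} : Set G))) : Nat.card G < Nat.card (Subgroup.centralizer ({t} : Set G)) ^ 3 := by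
  classical
  haveI := Fintype.ofFinite G
  set Ct := Subgroup.centralizer ({t} : Set G) with hCt
  set n := Nat.card Ct with hn
  let I : G → Finset G := fun x => {u : G | orderOf u = 2 ∧ Commute u x}
  have hI : ∀ x : G, orderOf x = 2 → (I x).card < n := by
    intro x hx
    refine lt_of_lt_of_le ?_ (hmax x hx)
    rw [Nat.card_eq_fintype_card, Fintype.card_subtype]
    refine Finset.card_lt_card (Finset.ssubset_iff_of_subset ?_ |>.2 ⟨1, ?_, ?_⟩)
    · intro u hu
      simp only [I, Finset.mem_filter, Finset.mem_univ, true_and] at hu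
      simp only [Finset.mem_filter, Finset.mem_univ, true_and]
      exact Subgroup.mem_centralizer_singleton_iff.2 hu.2
    · simp [one_mem]
    · simp [I]
  let K : Finset G := {u : G | IsConj s u}
  have hK : K ⊆ (I t).biUnion I := by
    intro u hu
    simp only [K, Finset.mem_filter, Finset.mem_univ, true_and] at hu
    obtain ⟨g, rfl⟩ := isConj_iff.1 hu
    have hu2 : orderOf (g * s * g⁻¹) = 2 :=
      (CfsgLib.Involution.Dihedral.orderOf_conj g s).trans hs
    have heven := CfsgLib.Involution.Dihedral.even_of_not_isConj ht hu2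
      (fun h => hnc (hu.trans h.symm))
    have hw := CfsgLib.Involution.Dihedral.half_orderOf heven
    rw [Finset.mem_biUnion]
    refine ⟨(t * (g * s * g⁻¹)) ^ (orderOf (t * (g * s * g⁻¹)) / 2), ?_, ?_⟩
    · simp only [I, Finset.mem_filter, Finset.mem_univ, true_and]
      exact ⟨hw, CfsgLib.Involution.Dihedral.half_commute_left ht hu2 heven⟩
    · simp only [I, Finset.mem_filter, Finset.mem_univ, true_and]
      exact ⟨hu2, (CfsgLib.Involution.Dihedral.half_commute_right ht hu2 heven).symm⟩
  have hn0 : 0 < n := Nat.card_pos
  have hKlt : K.card < n * n := by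
    refine lt_of_le_of_lt (Finset.card_le_card hK) (lt_of_le_of_lt (Finset.card_biUnion_le) ?_)
    refine lt_of_le_of_lt (Finset.sum_le_card_nsmul _ _ n fun u hu => ?_) ?_
    · simp only [I, Finset.mem_filter, Finset.mem_univ, true_and] at hu
      exact (hI u hu.1).le
    · rw [smul_eq_mul]
      exact Nat.mul_lt_mul_of_pos_right (hI t ht) hn0
  have horb : Nat.card G = K.card * Nat.card (Subgroup.centralizer ({s} : Set G)) :=
    CfsgLib.Involution.Count.card_eq_class_mul s
  rw [horb]
  calc K.card * Nat.card (Subgroup.centralizer ({s} : Set G))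
      ≤ K.card * n := Nat.mul_le_mul_left _ (hmax s hs)
    _ < n * n * n := Nat.mul_lt_mul_of_pos_right hKlt hn0
    _ = n ^ 3 := by ring

end Cfsg.Agent.S0230
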