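import Cfsg.Statements.S0231
import Mathlib
import Cfsg.Agent.Lib.Involution.Basic
-- import your own Cfsg.Agent.* helpers here

set_option autoImplicit false
open scoped Pointwise
open Cfsg

namespace Cfsg.Agent.S0231

/-- Let T be a Sylow 2-subgroup of the finite group G which is not normal and which intersects every other Sylow 2-subgroup trivially. Then G has a single conjugacy class of involutions. -/
theorem result {G : Type*} [Group G] [Finite G] (T : Sylow 2 G) (hnn : ¬ (T : Subgroup G).Normal) (hTI : ∀ g : G, MulAut.conj g • (T : Subgroup G) ≠ T → MulAut.conj g • (T : Subgroup G) ⊓ T = ⊥) (s t : G) (hs : orderOf s = 2) (ht : orderOf t = 2) : IsConj s t := by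
  haveI : Fact (Nat.Prime 2) := ⟨Nat.prime_two⟩
  have hTI' : ∀ a b : G, ∀ x : G, x ≠ 1 → a * x * a⁻¹ ∈ T → b * x * b⁻¹ ∈ T →
      ∀ y ∈ T, (b * a⁻¹) * y * (b * a⁻¹)⁻¹ ∈ T := by
    intro a b x hx ha hb y hy
    set g := b * a⁻¹ with hg
    have hfix : MulAut.conj g • (T : Subgroup G) = T := by
      by_contra hne
      have hmem : b * x * b⁻¹ ∈ MulAut.conj g • (T : Subgroup G) ⊓ T := by
        refine ⟨?_, hb⟩
        change b * x * b⁻¹ ∈ MulAut.conj g • (T : Subgroup G)
        rw [Subgroup.mem_pointwise_smul_iff_inv_smul_mem, MulAut.smul_def,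
          ← map_inv, MulAut.conj_apply, inv_inv]
        rw [show g⁻¹ * (b * x * b⁻¹) * g = a * x * a⁻¹ by rw [hg]; group]
        exact ha
      rw [hTI g hne, Subgroup.mem_bot] at hmem
      exact hx (conj_eq_one_iff.1 hmem)
    rw [← MulAut.conj_apply, ← MulAut.smul_def]
    have := Subgroup.smul_mem_pointwise_smul y (MulAut.conj g) (T : Subgroup G) hy
    rwa [hfix] at this
  have hshare : ∀ u v : G, orderOf u = 2 → orderOf v = 2 → ¬ IsConj u v →
      ∀ a : G, a * u * a⁻¹ ∈ T → a * v * a⁻¹ ∈ T := by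
    intro u v hu hv huv a ha
    have heven := CfsgLib.Involution.Dihedral.even_of_not_isConj hu hv huv
    set w := (u * v) ^ (orderOf (u * v) / 2)
    have hw : orderOf w = 2 := CfsgLib.Involution.Dihedral.half_orderOf heven
    obtain ⟨b, hb1, hb2⟩ := CfsgLib.Involution.Basic.exists_conj_pair_mem T hw hu
      (CfsgLib.Involution.Dihedral.half_commute_left hu hv heven)
    obtain ⟨c, hc1, hc2⟩ := CfsgLib.Involution.Basic.exists_conj_pair_mem T hw hv
      (CfsgLib.Involution.Dihedral.half_commute_right hu hv heven)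
    have h1 : b * v * b⁻¹ ∈ T := by
      have := hTI' c b w (CfsgLib.Involution.Dihedral.ne_one hw) hc1 hb1 _ hc2
      rwa [show (b * c⁻¹) * (c * v * c⁻¹) * (b * c⁻¹)⁻¹ = b * v * b⁻¹ by group] at this
    have := hTI' b a u (CfsgLib.Involution.Dihedral.ne_one hu) hb2 ha _ h1
    rwa [show (a * b⁻¹) * (b * v * b⁻¹) * (a * b⁻¹)⁻¹ = a * v * a⁻¹ by group] at this
  by_contra hnc
  obtain ⟨a, ha⟩ := CfsgLib.Involution.Basic.exists_conj_mem T hs
  apply hnn
  refine ⟨fun y hy g => ?_⟩
  set t' := g⁻¹ * t * g with ht'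
  have hconj : IsConj t t' := isConj_iff.2 ⟨g⁻¹, by rw [ht']; group⟩
  have ht'2 : orderOf t' = 2 := by
    rw [ht', ← inv_inv g, inv_inv g⁻¹]
    simpa using (CfsgLib.Involution.Dihedral.orderOf_conj g⁻¹ t).trans ht
  -- the conjugate `a * t * a⁻¹` of `t` together with all its conjugates lies in `T`
  have hall : ∀ c : G, c * t * c⁻¹ ∈ T := by
    intro c
    have h := hshare s (a⁻¹ * c * t * (a⁻¹ * c)⁻¹) hs
      ((CfsgLib.Involution.Dihedral.orderOf_conj _ t).trans ht)
      (fun h => hnc (h.trans (isConj_iff.2 ⟨a⁻¹ * c, rfl⟩ : IsConj t _).symm)) a ha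
    rwa [show a * (a⁻¹ * c * t * (a⁻¹ * c)⁻¹) * a⁻¹ = c * t * c⁻¹ by group] at h
  have := hTI' 1 g t (CfsgLib.Involution.Dihedral.ne_one ht) (hall 1) (hall g) y hy
  change g * y * g⁻¹ ∈ (T : Subgroup G)
  rwa [inv_one, mul_one] at this

end Cfsg.Agent.S0231
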