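import Cfsg.Statements.S0234
import Mathlib
import Cfsg.Agent.Lib.Involution.BrauerFowler
-- import your own Cfsg.Agent.* helpers here

set_option autoImplicit false
open Cfsg

namespace Cfsg.Agent.S0234

/-- In a finite simple group G of even order greater than 2, the number n of involutions satisfies 3n < |G|. -/
theorem result {G : Type*} [Group G] [Finite G] [IsSimpleGroup G] (heven : Even (Nat.card G)) (hgt : 2 < Nat.card G) : 3 * Nat.card {t : G // orderOf t = 2} < Nat.card G := by
  classical
  have hnoidx : ∀ K : Subgroup G, K.index ≠ 2 := fun K hK => by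
    haveI := Subgroup.normal_of_index_eq_two hK
    rcases IsSimpleGroup.eq_bot_or_eq_top_of_normal K inferInstance with rfl | rfl
    · rw [Subgroup.index_bot] at hK; omega
    · rw [Subgroup.index_top] at hK; omega
  haveI : Fact (Nat.Prime 2) := ⟨Nat.prime_two⟩
  obtain ⟨t, ht⟩ := exists_prime_orderOf_dvd_card' (G := G) 2 heven.two_dvd
  have hZ : Subgroup.center G = ⊥ := by
    refine (IsSimpleGroup.eq_bot_or_eq_top_of_normal _ inferInstance).resolve_right fun h => ?_
    haveI hN : (Subgroup.zpowers t).Normal := ⟨fun x hx g => by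
      rw [Subgroup.mem_center_iff.1 (h ▸ Subgroup.mem_top x) g, mul_inv_cancel_right]; exact hx⟩
    have h2 : Nat.card (Subgroup.zpowers t) = 2 := by rw [Nat.card_zpowers, ht]
    rcases IsSimpleGroup.eq_bot_or_eq_top_of_normal _ hN with e | e
    · rw [e, Subgroup.card_bot] at h2; omega
    · rw [e, Subgroup.card_top] at h2; omega
  obtain ⟨H, hH, hb⟩ := CfsgLib.Involution.BrauerFowler.exists_index_bound heven
    (by rw [hZ, Subgroup.card_bot]; decide)
  have hb' := hb.resolve_left (hnoidx H)
  by_contra hcon
  push Not at hcon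
  set N := Nat.card {u : G // orderOf u = 2} with hN
  obtain ⟨g, hg⟩ : ∃ g, g = Nat.card G := ⟨_, rfl⟩
  rw [← hg] at hgt hcon hb' heven
  have hk6 : H.index < 6 := by
    by_contra hk
    push Not at hk
    have h1 : 12 * N ^ 2 ≤ 2 * H.index * N ^ 2 := Nat.mul_le_mul_right _ (by omega)
    have h2 : g * (g + N) ≤ (3 * N) * (3 * N + N) := Nat.mul_le_mul hcon (by omega)
    have h3 : (3 * N) * (3 * N + N) = 12 * N ^ 2 := by ring
    omega
  set φ := MulAction.toPermHom G (G ⧸ H) with hφ
  have hinj : Function.Injective φ := by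
    rw [← MonoidHom.ker_eq_bot_iff]
    refine (IsSimpleGroup.eq_bot_or_eq_top_of_normal _ inferInstance).resolve_right fun h => hH ?_
    rw [hφ, ← Subgroup.normalCore_eq_ker] at h
    exact top_le_iff.1 (h ▸ Subgroup.normalCore_le H)
  haveI := Fintype.ofFinite (G ⧸ H)
  haveI hnt : Nontrivial (G ⧸ H) := QuotientGroup.nontrivial_iff.2 hH
  have hlands : ∀ x : G, φ x ∈ alternatingGroup (G ⧸ H) := by
    intro x
    have hker : ((Equiv.Perm.sign).comp φ).ker = ⊤ := by
      refine (IsSimpleGroup.eq_bot_or_eq_top_of_normal _ inferInstance).resolve_left fun e => ?_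
      have := Nat.card_le_card_of_injective _ ((MonoidHom.ker_eq_bot_iff _).1 e)
      rw [Nat.card_eq_fintype_card (α := ℤˣ), Fintype.card_units_int, ← hg] at this
      omega
    have hx : x ∈ ((Equiv.Perm.sign).comp φ).ker := hker ▸ Subgroup.mem_top x
    exact hx
  let ψ : G →* alternatingGroup (G ⧸ H) := φ.codRestrict _ hlands
  have hψ : Function.Injective ψ := fun a b h => hinj (congrArg Subtype.val h)
  have hcard : g ∣ Nat.card (alternatingGroup (G ⧸ H)) := hg ▸ Subgroup.card_dvd_of_injective ψ hψ
  have hAcard := two_mul_nat_card_alternatingGroup (α := G ⧸ H)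
  have hAc : Nat.card (alternatingGroup (G ⧸ H)) * 2 = Nat.factorial H.index := by
    rw [mul_comm, hAcard, Nat.card_perm]; rfl
  have hk1 : H.index ≠ 1 := fun h => hH (Subgroup.index_eq_one.1 h)
  have hkdvd : H.index ∣ g := hg ▸ Subgroup.index_dvd_card H
  have hk0 : 0 < H.index := Nat.pos_of_ne_zero H.index_ne_zero_of_finite
  have h2g : 2 ∣ g := heven.two_dvd
  have hg4 : g % 4 ≠ 2 := fun h => by
    obtain ⟨K, hK⟩ := CfsgLib.Involution.BrauerFowler.exists_index_two_of_two_odd (G := G) (hg ▸ h)
    exact hnoidx K hK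
  obtain ⟨k, hk⟩ : ∃ k, H.index = k := ⟨_, rfl⟩
  rw [hk] at hk6 hk1 hk0 hkdvd hAc
  have hk2 := hnoidx H
  interval_cases k
  · exact hk1 rfl
  · exact hk2 hk
  · -- index three
    rw [show Nat.factorial 3 = 6 from rfl] at hAc
    have : Nat.card (alternatingGroup (G ⧸ H)) = 3 := by omega
    rw [this] at hcard
    have := Nat.le_of_dvd (by norm_num) hcard
    omega
  · rw [show Nat.factorial 4 = 24 from rfl] at hAc
    have hA : Nat.card (alternatingGroup (G ⧸ H)) = 12 := by omega
    rw [hA] at hcard
    have hle := Nat.le_of_dvd (by norm_num) hcard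
    have hg12 : g = 4 ∨ g = 12 := by
      interval_cases g <;> omega
    rcases hg12 with h4 | h12
    · have hp : IsPGroup 2 G := IsPGroup.of_card (n := 2) (by rw [← hg, h4]; norm_num)
      haveI : Nontrivial G := by
        rw [← Finite.one_lt_card_iff_nontrivial]; omega
      exact hp.bot_lt_center.ne' hZ
    · have hb4 : Nat.card (G ⧸ H) = 4 := hk
      have hψb : Function.Bijective ψ :=
        (Nat.bijective_iff_injective_and_card ψ).2 ⟨hψ, by rw [hA, ← hg, h12]⟩
      have hV : ((alternatingGroup.kleinFour (G ⧸ H)).comap ψ).Normal :=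
        (alternatingGroup.normal_kleinFour hb4).comap ψ
      have hVc : Nat.card ↥((alternatingGroup.kleinFour (G ⧸ H)).comap ψ) = 4 := by
        rw [← alternatingGroup.kleinFour_card_of_card_eq_four hb4]
        exact Nat.card_congr (Equiv.subtypeEquiv (Equiv.ofBijective ψ hψb) fun a => Iff.rfl)
      rcases IsSimpleGroup.eq_bot_or_eq_top_of_normal _ hV with e | e
      · rw [e, Subgroup.card_bot] at hVc; omega
      · rw [e, Subgroup.card_top] at hVc; omega
  · rw [show Nat.factorial 5 = 120 from rfl] at hAc
    have hA : Nat.card (alternatingGroup (G ⧸ H)) = 60 := by omega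
    rw [hA] at hcard
    have hle := Nat.le_of_dvd (by norm_num) hcard
    have hg2 : g = 20 ∨ g = 60 := by
      interval_cases g <;> omega
    rcases hg2 with h20 | h60
    · haveI : Fact (Nat.Prime 5) := ⟨by norm_num⟩
      let P : Sylow 5 G := default
      have hPc : Nat.card P = 5 := by
        rw [P.card_eq_multiplicity, ← hg, h20]
        have : (20 : ℕ).factorization 5 = 1 := by
          rw [show (20:ℕ) = 4 * 5 from rfl, Nat.factorization_mul (by norm_num) (by norm_num),
            Finsupp.add_apply, (by norm_num : Nat.Prime 5).factorization_self,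
            Nat.factorization_eq_zero_of_not_dvd (by norm_num)]
        rw [this, pow_one]
      have hPi : (P : Subgroup G).index = 4 := by
        have := (P : Subgroup G).card_mul_index
        rw [hPc, ← hg, h20] at this; omega
      have h1 := card_sylow_modEq_one 5 G
      have h2 := P.card_dvd_index
      rw [hPi] at h2
      have h4 := Nat.le_of_dvd (by norm_num) h2
      rw [Nat.ModEq] at h1
      have hn1 : Nat.card (Sylow 5 G) = 1 := by omega
      have hnorm : (P : Subgroup G).Normal := by
        rw [← Subgroup.normalizer_eq_top_iff, ← Subgroup.index_eq_one]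
        exact P.card_eq_index_normalizer.symm.trans hn1
      rcases IsSimpleGroup.eq_bot_or_eq_top_of_normal _ hnorm with e | e
      · rw [e, Subgroup.card_bot] at hPc; omega
      · rw [e, Subgroup.card_top] at hPc; omega
    · let e : G ⧸ H ≃ Fin 5 :=
        (Fintype.equivFin _).trans (finCongr (by rw [← Nat.card_eq_fintype_card]; exact hk))
      let θ : G →* Equiv.Perm (Fin 5) := e.permCongrHom.toMonoidHom.comp φ
      have hθ : Function.Injective θ := e.permCongrHom.injective.comp hinj
      have hsign : ∀ x, Equiv.Perm.sign (θ x) = 1 := fun x =>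
        (Equiv.Perm.sign_permCongr e (φ x)).trans (hlands x)
      have hN15 : N ≤ Nat.card {σ : Equiv.Perm (Fin 5) // σ * σ = 1 ∧ σ ≠ 1 ∧ Equiv.Perm.sign σ = 1} := by
        refine Nat.card_le_card_of_injective (fun u => ⟨θ u.1, ?_, ?_, hsign u.1⟩)
          (fun a b hab => Subtype.ext (hθ (Subtype.mk.inj hab)))
        · rw [← map_mul, CfsgLib.Involution.Dihedral.mul_self u.2, map_one]
        · rw [← map_one θ]
          exact fun h => CfsgLib.Involution.Dihedral.ne_one u.2 (hθ h)
      have h15 : Nat.card {σ : Equiv.Perm (Fin 5) // σ * σ = 1 ∧ σ ≠ 1 ∧ Equiv.Perm.sign σ = 1} = 15 := by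
        rw [Nat.card_eq_fintype_card, Fintype.card_subtype]
        decide +kernel
      omega

end Cfsg.Agent.S0234
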