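import Cfsg.Statements.S0239
import Cfsg.Agent.Lib.Involution.Dihedral
-- import your own Cfsg.Agent.* helpers here

set_option autoImplicit false
open Cfsg

namespace Cfsg.Agent.S0239

/-- If some nontrivial element x of a finite group G is conjugate to x⁻¹, then |G| is even. -/
theorem result {G : Type*} [Group G] [Finite G] (x : G) (hx : x ≠ 1) (hreal : IsConj x x⁻¹) : Even (Nat.card G) := by
  by_contra hodd
  rw [Nat.not_even_iff_odd] at hodd
  obtain ⟨g, hg⟩ := isConj_iff.1 hreal
  have ho : Odd (orderOf g) := hodd.of_dvd_nat (orderOf_dvd_natCard g)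
  obtain ⟨m, hm⟩ := ho
  have h2 : Commute (g ^ 2) x := by
    rw [commute_iff_eq, ← mul_inv_eq_iff_eq_mul, pow_two]
    calc g * g * x * (g * g)⁻¹ = g * (g * x * g⁻¹) * g⁻¹ := by group
      _ = (g * x * g⁻¹)⁻¹ := by rw [hg, ← conj_inv, hg]
      _ = x := by rw [hg, inv_inv]
  have h3 := h2.pow_left (m + 1)
  rw [← pow_mul, show 2 * (m + 1) = orderOf g + 1 by omega, pow_succ, pow_orderOf_eq_one,
    one_mul] at h3
  rw [h3.eq, mul_inv_cancel_right] at hg
  have : orderOf x = 2 := CfsgLib.Involution.Dihedral.orderOf_eq_two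
    (by nth_rewrite 2 [hg]; exact mul_inv_cancel x) hx
  have := hodd.of_dvd_nat (orderOf_dvd_natCard x)
  rw [Nat.odd_iff] at this
  omega

end Cfsg.Agent.S0239
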