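import Cfsg.Statements.S0240
import Cfsg.Agent.Lib.Involution.Dihedral
-- import your own Cfsg.Agent.* helpers here

set_option autoImplicit false
open Cfsg

namespace Cfsg.Agent.S0240

/-- Let G be a finite group with n involutions and H a subgroup with |H|·(n+1) > |G|. Then some nontrivial h ∈ H is strongly real in G: an involution t of G satisfies t h t⁻¹ = h⁻¹. -/
theorem result {G : Type*} [Group G] [Finite G] (H : Subgroup G) (hH : Nat.card G < Nat.card H * (Nat.card {t : G // orderOf t = 2} + 1)) : ∃ h : G, h ∈ H ∧ h ≠ 1 ∧ ∃ t : G, orderOf t = 2 ∧ t * h * t⁻¹ = h⁻¹ := by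
  classical
  haveI := Fintype.ofFinite G
  haveI := Fintype.ofFinite (G ⧸ H)
  set s : Finset G := insert 1 ({t : G | orderOf t = 2} : Finset G) with hs
  have hcard : Fintype.card (G ⧸ H) < s.card := by
    rw [hs, Finset.card_insert_of_notMem (by simp)]
    rw [← H.card_mul_index] at hH
    have := Nat.lt_of_mul_lt_mul_left hH
    rw [Subgroup.index, Nat.card_eq_fintype_card, Nat.card_eq_fintype_card,
      Fintype.card_subtype] at this
    exact this
  obtain ⟨a, ha, b, hb, hab, he⟩ := Finset.exists_ne_map_eq_of_card_lt_of_maps_to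
    (t := (Finset.univ : Finset (G ⧸ H))) (f := fun g => (g : G ⧸ H)) hcard
    (fun _ _ => Finset.mem_univ _)
  rw [QuotientGroup.eq] at he
  simp only [hs, Finset.mem_insert, Finset.mem_filter, Finset.mem_univ, true_and] at ha hb
  rcases ha with rfl | ha
  · rcases hb with rfl | hb
    · exact absurd rfl hab
    · refine ⟨b, by simpa using he, Ne.symm hab, b, hb, ?_⟩
      rw [mul_inv_cancel_right, CfsgLib.Involution.Dihedral.inv_eq hb]
  · rw [CfsgLib.Involution.Dihedral.inv_eq ha] at he
    refine ⟨a * b, he, ?_, a, ha, ?_⟩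
    · rw [Ne, mul_eq_one_iff_inv_eq, CfsgLib.Involution.Dihedral.inv_eq ha]; exact hab
    · rcases hb with rfl | hb
      · rw [mul_one, mul_inv_cancel_right, CfsgLib.Involution.Dihedral.inv_eq ha]
      · exact CfsgLib.Involution.Dihedral.conj_mul_left ha hb

end Cfsg.Agent.S0240
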