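import Cfsg.Statements.S0241
import Cfsg.Agent.Lib.Involution.Dihedral
-- import your own Cfsg.Agent.* helpers here

set_option autoImplicit false
open Cfsg

namespace Cfsg.Agent.S0241

/-- If x ≠ 1 is conjugate to x⁻¹ in a finite group G and |C_G(x)| is odd, then some involution t satisfies t x t⁻¹ = x⁻¹. -/
theorem result {G : Type*} [Group G] [Finite G] (x : G) (hx : x ≠ 1) (hreal : IsConj x x⁻¹) (hodd : Odd (Nat.card (Subgroup.centralizer ({x} : Set G)))) : ∃ t : G, orderOf t = 2 ∧ t * x * t⁻¹ = x⁻¹ := by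
  obtain ⟨g, hg⟩ := isConj_iff.1 hreal
  set C := Subgroup.centralizer ({x} : Set G) with hC
  obtain ⟨k, m, hm, hkm⟩ := Nat.exists_eq_two_pow_mul_odd (orderOf_pos g).ne'
  have h2 : g * g ∈ C := by
    rw [hC, Subgroup.mem_centralizer_singleton_iff, ← mul_inv_eq_iff_eq_mul]
    calc g * g * x * (g * g)⁻¹ = g * (g * x * g⁻¹) * g⁻¹ := by group
      _ = (g * x * g⁻¹)⁻¹ := by rw [hg, ← conj_inv, hg]
      _ = x := by rw [hg, inv_inv]
  obtain ⟨j, hj⟩ := hm
  have hgm : g ^ m * x * (g ^ m)⁻¹ = x⁻¹ := by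
    have h3 : g ^ (2 * j) ∈ C := by rw [pow_mul, pow_two]; exact pow_mem h2 j
    rw [hC, Subgroup.mem_centralizer_singleton_iff] at h3
    rw [hj, pow_succ', mul_assoc g, h3, ← mul_assoc, mul_assoc (g * x), mul_inv_rev,
      mul_inv_cancel_left]
    exact hg
  have hne : g ^ m ≠ 1 := by
    intro h1
    rw [h1, one_mul, inv_one, mul_one] at hgm
    have : orderOf x = 2 := CfsgLib.Involution.Dihedral.orderOf_eq_two
      (by nth_rewrite 2 [hgm]; exact mul_inv_cancel x) hx
    have hxC : x ∈ C := by rw [hC, Subgroup.mem_centralizer_singleton_iff]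
    have := hodd.of_dvd_nat (C.orderOf_dvd_natCard hxC)
    rw [Nat.odd_iff] at this
    omega
  refine ⟨g ^ m, CfsgLib.Involution.Dihedral.orderOf_eq_two ?_ hne, hgm⟩
  have hmem : g ^ m * g ^ m ∈ C := by
    rw [(Commute.refl g).mul_pow m |>.symm]; exact pow_mem h2 m
  have hd : orderOf (g ^ m * g ^ m) ∣ 2 ^ k := by
    apply orderOf_dvd_of_pow_eq_one
    rw [← pow_add, ← pow_mul, show (m + m) * 2 ^ k = orderOf g * 2 by rw [hkm]; ring, pow_mul,
      pow_orderOf_eq_one, one_pow]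
  obtain ⟨i, -, hi⟩ := (Nat.dvd_prime_pow Nat.prime_two).1 hd
  have := hodd.of_dvd_nat (C.orderOf_dvd_natCard hmem)
  rcases i with - | i
  · exact orderOf_eq_one_iff.1 (by simpa using hi)
  · rw [hi, Nat.odd_iff, pow_succ'] at this
    omega

end Cfsg.Agent.S0241
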