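import Cfsg.Statements.S0244

set_option autoImplicit false
open Cfsg

namespace Cfsg.Agent.S0244

/-- Sp_2 = SL_2: a matrix on Fin 1 ⊕ Fin 1 lies in Mathlib's symplectic group iff its determinant is 1. -/
theorem result {R : Type*} [CommRing R] (A : Matrix (Fin 1 ⊕ Fin 1) (Fin 1 ⊕ Fin 1) R) : A ∈ Matrix.symplecticGroup (Fin 1) R ↔ A.det = 1 := by
  rw [SymplecticGroup.mem_iff']
  have key : A.transpose * Matrix.J (Fin 1) R * A = A.det • Matrix.J (Fin 1) R := by
    let e : Fin 2 ≃ Fin 1 ⊕ Fin 1 := (finSumFinEquiv (m := 1) (n := 1)).symm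
    have hdet : A.det = A (.inl 0) (.inl 0) * A (.inr 0) (.inr 0) - A (.inl 0) (.inr 0) * A (.inr 0) (.inl 0) := by
      rw [← Matrix.det_submatrix_equiv_self e A, Matrix.det_fin_two]
      rfl
    rw [hdet]
    ext i j
    rcases i with i | i <;> rcases j with j | j <;>
      simp [Fin.fin_one_eq_zero i, Fin.fin_one_eq_zero j, Matrix.mul_apply, Matrix.J, Matrix.fromBlocks, Fintype.sum_sum_type] <;> ring
  rw [key]
  constructor
  · intro h
    have := congrFun (congrFun h (Sum.inr 0)) (Sum.inl 0)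
    simpa [Matrix.J] using this
  · intro h
    rw [h, one_smul]

end Cfsg.Agent.S0244
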