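import Cfsg.Statements.S0257
import Cfsg.Agent.Lib.Classical.SL2Fours
import Cfsg.Agent.Lib.KnownC.OrthTools

set_option autoImplicit false
open Cfsg

namespace Cfsg.Agent.S0257

/-- SL_2(3) has a normal subgroup of index 3 isomorphic to the quaternion group of order 8, and its centre has order 2. -/
theorem result {F : Type*} [Field F] [Fintype F] (hF : Fintype.card F = 3) : (∃ Q : Subgroup (Matrix.SpecialLinearGroup (Fin 2) F), Q.Normal ∧ Q.index = 3 ∧ Nonempty (Q ≃* QuaternionGroup 2)) ∧ Nat.card (Subgroup.center (Matrix.SpecialLinearGroup (Fin 2) F)) = 2 := by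
  classical
  have hodd : Odd (Fintype.card F) := by rw [hF]; decide
  have h2 : (2 : F) ≠ 0 := CfsgLib.KnownC.OrthTools.two_ne_zero_of_odd rfl hodd
  have h24 : Nat.card (Matrix.SpecialLinearGroup (Fin 2) F) = 24 := by rw [CfsgLib.Classical.card_sl2', hF]
  refine ⟨?_, by rw [CfsgLib.Classical.card_center_sl 2 (by norm_num), hF]; rfl⟩
  let P : Sylow 2 (Matrix.SpecialLinearGroup (Fin 2) F) := default
  obtain ⟨k, hk, hfac, ⟨e⟩⟩ := CfsgLib.Classical.sl2_sylow_two hodd P
  have h3 : (24 : ℕ).factorization 2 = 3 := by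
    rw [show (24 : ℕ) = 2 ^ 3 * 3 from rfl, Nat.factorization_mul (by norm_num) (by norm_num), Nat.factorization_pow,
      Finsupp.add_apply, Finsupp.smul_apply, Nat.prime_two.factorization_self,
      Nat.factorization_eq_zero_of_not_dvd (by norm_num)]
    rfl
  rw [h24, h3] at hfac
  obtain rfl : k = 1 := by omega
  have hP : Nat.card P = 8 := by rw [P.card_eq_multiplicity, h24, h3]; rfl
  -- the elements of exponent four form `P`
  set T : Set (Matrix.SpecialLinearGroup (Fin 2) F) := {g | g * g = -1} ∪ {1, -1} with hT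
  have hTcard : T.ncard ≤ 8 := by
    refine le_trans (Set.ncard_union_le _ _) ?_
    rw [← Nat.card_coe_set_eq, Set.coe_setOf, CfsgLib.Classical.sl2_card_trace_zero h2, hF]
    have : ({1, -1} : Set (Matrix.SpecialLinearGroup (Fin 2) F)).ncard ≤ 2 :=
      le_trans (Set.ncard_insert_le _ _) (by simp)
    simp
    omega
  have hsub : ∀ g : Matrix.SpecialLinearGroup (Fin 2) F, g ^ 4 = 1 → g ∈ T := by
    intro g hg
    have hgg : (g * g) * (g * g) = 1 := by rw [← hg]; simp [pow_succ, mul_assoc]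
    by_cases h1 : g * g = 1
    · right
      by_cases h : g = 1
      · exact Or.inl h
      · exact Or.inr (CfsgLib.Classical.sl2_eq_neg_one h2 h h1)
    · exact Or.inl (CfsgLib.Classical.sl2_eq_neg_one h2 h1 hgg)
  have hP4 : ∀ g ∈ (P : Subgroup (Matrix.SpecialLinearGroup (Fin 2) F)), g ^ 4 = 1 := by
    intro g hg
    have hex : ∀ x : QuaternionGroup (2 ^ 1), x ^ 4 = 1 := by decide
    have h := e.injective ((map_pow e ⟨g, hg⟩ 4).trans ((hex _).trans (map_one e).symm))
    exact congrArg Subtype.val h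
  have heq : ((P : Subgroup (Matrix.SpecialLinearGroup (Fin 2) F)) : Set (Matrix.SpecialLinearGroup (Fin 2) F)) = T :=
    Set.eq_of_subset_of_ncard_le (fun g hg => hsub g (hP4 g hg))
      (hTcard.trans (le_of_eq (by rw [← hP, ← Nat.card_coe_set_eq]; rfl))) (Set.toFinite _)
  refine ⟨P, ⟨fun g hg c => ?_⟩, ?_, ⟨e⟩⟩
  · have h4 : (c * g * c⁻¹) ^ 4 = 1 := by rw [conj_pow, hP4 g hg, mul_one, mul_inv_cancel]
    exact (Set.ext_iff.1 heq _).2 (hsub _ h4)
  · have h := (P : Subgroup (Matrix.SpecialLinearGroup (Fin 2) F)).card_mul_index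
    rw [hP, h24] at h
    omega

end Cfsg.Agent.S0257
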