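import Cfsg.Statements.S0268
import Cfsg.Agent.Lib.Classical.SL2Sylow

set_option autoImplicit false
open Cfsg

namespace Cfsg.Agent.S0268

/-- For q odd, -1 is the unique involution of SL_2(q). -/
theorem result {F : Type*} [Field F] [Fintype F] (hF : Odd (Fintype.card F)) (g : Matrix.SpecialLinearGroup (Fin 2) F) (h1 : g ≠ 1) (h2 : g * g = 1) : (g : Matrix (Fin 2) (Fin 2) F) = -1 := by
  refine CfsgLib.Classical.sl2_involution (fun h => ?_) g h1 h2
  have hc : ringChar F = 2 := by
    have hp : CharP F (ringChar F) := ringChar.charP F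
    have hd : ringChar F ∣ 2 := (CharP.cast_eq_zero_iff F (ringChar F) 2).1 (by exact_mod_cast h)
    rcases (Nat.dvd_prime Nat.prime_two).1 hd with h' | h'
    · exact absurd h' (CharP.ringChar_ne_one)
    · exact h'
  have := (FiniteField.even_card_iff_char_two (F := F)).1 hc
  rw [Nat.odd_iff] at hF
  omega

end Cfsg.Agent.S0268
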