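import Cfsg.Statements.S0273
import Cfsg.Agent.Lib.Classical.GL2Borel

set_option autoImplicit false
open Cfsg
open scoped Pointwise

namespace Cfsg.Agent.S0273

/-- In GL_2(q) the centraliser of a non-trivial element of a Sylow p-subgroup (p the characteristic) has order q (q-1): the Sylow subgroup times the scalars. -/
theorem result {F : Type*} [Field F] [Fintype F] {q : ℕ} (hF : Fintype.card F = q) (p : ℕ) [Fact p.Prime] [CharP F p] (P : Sylow p (Matrix.GeneralLinearGroup (Fin 2) F)) (a : Matrix.GeneralLinearGroup (Fin 2) F) (ha : a ∈ P) (ha1 : a ≠ 1) : Nat.card (Subgroup.centralizer ({a} : Set (Matrix.GeneralLinearGroup (Fin 2) F))) = q * (q - 1) := by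
  obtain ⟨x, hx⟩ := CfsgLib.Classical.sylowGL2_exists_conj P
  have ha' : a ∈ MulAut.conj x • CfsgLib.Classical.unipGL F := hx ▸ (show a ∈ (P : Subgroup (Matrix.GeneralLinearGroup (Fin 2) F)) from ha)
  obtain ⟨u, ⟨c, rfl⟩, hu⟩ := ha'
  obtain ⟨c, rfl⟩ := Multiplicative.ofAdd.surjective c
  have hc : c ≠ 0 := by
    rintro rfl
    apply ha1
    have hu' : MulAut.conj x (CfsgLib.Classical.uGL (Multiplicative.ofAdd 0)) = a := hu
    rw [← hu', ofAdd_zero, map_one, map_one]
  rw [← CfsgLib.Classical.card_centralizer_uGL hF hc]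
  refine Nat.card_congr (Equiv.subtypeEquiv (MulAut.conj x).symm.toEquiv fun g => ?_)
  have hu' : MulAut.conj x (CfsgLib.Classical.uGL (Multiplicative.ofAdd c)) = a := hu
  rw [MulAut.conj_apply] at hu'
  simp only [Subgroup.mem_centralizer_singleton_iff, MulEquiv.toEquiv_eq_coe, EquivLike.coe_coe,
    MulAut.conj_symm_apply, ← hu']
  constructor
  · intro h
    calc x⁻¹ * g * x * CfsgLib.Classical.uGL (Multiplicative.ofAdd c)
        = x⁻¹ * (g * (x * CfsgLib.Classical.uGL (Multiplicative.ofAdd c) * x⁻¹)) * x := by group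
      _ = x⁻¹ * ((x * CfsgLib.Classical.uGL (Multiplicative.ofAdd c) * x⁻¹) * g) * x := by rw [h]
      _ = _ := by group
  · intro h
    calc g * (x * CfsgLib.Classical.uGL (Multiplicative.ofAdd c) * x⁻¹)
        = x * (x⁻¹ * g * x * CfsgLib.Classical.uGL (Multiplicative.ofAdd c)) * x⁻¹ := by group
      _ = x * (CfsgLib.Classical.uGL (Multiplicative.ofAdd c) * (x⁻¹ * g * x)) * x⁻¹ := by rw [h]
      _ = _ := by group

end Cfsg.Agent.S0273
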