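import Cfsg.Statements.S0274
import Cfsg.Agent.Lib.Fusion.Dickson
import Mathlib.GroupTheory.Sylow
-- import your own Cfsg.Agent.* helpers here

set_option autoImplicit false
open Cfsg

namespace Cfsg.Agent.S0274

/-- Dickson's Theorem for SL_2: if p is odd and H is a subgroup of SL_2(q), q a power of p, with more than one Sylow p-subgroup, then H contains a copy of SL_2(p). -/
theorem result {F : Type*} [Field F] [Fintype F] (p : ℕ) [Fact p.Prime] [CharP F p] (hp : p ≠ 2) (H : Subgroup (Matrix.SpecialLinearGroup (Fin 2) F)) (hH : 1 < Nat.card (Sylow p H)) : ∃ K : Subgroup (Matrix.SpecialLinearGroup (Fin 2) F), K ≤ H ∧ Nonempty (K ≃* Matrix.SpecialLinearGroup (Fin 2) (ZMod p)) := by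
  haveI : Nontrivial (Sylow p H) := Finite.one_lt_card_iff_nontrivial.mp hH
  obtain ⟨P, Q, hPQ⟩ := exists_pair_ne (Sylow p H)
  obtain ⟨a, b, hap, hbp, hab⟩ : ∃ a b : H, (∃ n, a ^ p ^ n = 1) ∧ (∃ n, b ^ p ^ n = 1) ∧ a * b ≠ b * a := by
    by_contra hall
    push Not at hall
    -- otherwise the two Sylow subgroups generate a `p`-group
    have hle : (Q : Subgroup H) ≤ Subgroup.normalizer ((P : Subgroup H) : Set H) := by
      intro y hy
      rw [Subgroup.mem_normalizer_iff]
      intro z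
      obtain ⟨j, hj⟩ := Q.isPGroup' ⟨y, hy⟩
      have hy' : y ^ p ^ j = 1 := congrArg Subtype.val hj
      constructor
      · intro hz
        obtain ⟨i, hi⟩ := P.isPGroup' ⟨z, hz⟩
        rwa [hall y z ⟨j, hy'⟩ ⟨i, congrArg Subtype.val hi⟩, mul_inv_cancel_right]
      · intro hz
        obtain ⟨i, hi⟩ := P.isPGroup' ⟨_, hz⟩
        have h1 := hall y _ ⟨j, hy'⟩ ⟨i, congrArg Subtype.val hi⟩
        have h2 : y * (y * z * y⁻¹) * y⁻¹ = y * z * y⁻¹ := by rw [h1, mul_inv_cancel_right]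
        rwa [mul_left_cancel (mul_right_cancel h2)] at hz
    have hsup : IsPGroup p ↥((Q : Subgroup H) ⊔ (P : Subgroup H)) :=
      Q.isPGroup'.to_sup_of_normal_right' P.isPGroup' hle
    exact hPQ (Sylow.ext ((P.is_maximal' hsup le_sup_right).symm.trans (Q.is_maximal' hsup le_sup_left)))
  obtain ⟨ψ, hψ, hψle⟩ := CfsgLib.Fusion.Dickson.exists_slp_of_noncommuting hp (X := H) a.2 b.2
    (hap.imp fun n h => congrArg Subtype.val h) (hbp.imp fun n h => congrArg Subtype.val h)
    (fun e => hab (Subtype.ext e))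
  exact ⟨ψ.range, hψle, ⟨(MonoidHom.ofInjective hψ).symm⟩⟩

end Cfsg.Agent.S0274
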