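import Cfsg.Statements.S0276
import Cfsg.Agent.Lib.Classical.SL2Fours
import Cfsg.Agent.Lib.KnownC.OrthTools

set_option autoImplicit false
open Cfsg

namespace Cfsg.Agent.S0276

/-- For q = 3 or 5 mod 8 the Sylow 2-subgroups of PSL_2(q) are elementary abelian of order 4. -/
theorem result {F : Type*} [Field F] [Fintype F] {q : ℕ} (hF : Fintype.card F = q) (hq : q % 8 = 3 ∨ q % 8 = 5) (P : Sylow 2 (Matrix.ProjectiveSpecialLinearGroup (Fin 2) F)) : IsKleinFour (P : Subgroup (Matrix.ProjectiveSpecialLinearGroup (Fin 2) F)) := by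
  classical
  subst hF
  set q := Fintype.card F with hq'
  have hodd : Odd q := Nat.odd_iff.2 (by omega)
  obtain ⟨p, hp'⟩ := CharP.exists F
  obtain ⟨f, hp, hqp⟩ := FiniteField.card F p
  haveI : Fact p.Prime := ⟨hp⟩
  have hpodd : Odd p := (Nat.odd_pow_iff f.ne_zero).1 (hqp ▸ hodd)
  have h2 : (2 : F) ≠ 0 := CfsgLib.KnownC.OrthTools.two_ne_zero_of_odd rfl hodd
  obtain ⟨u, hu⟩ : ∃ u, (Nat.card (Matrix.SpecialLinearGroup (Fin 2) F)) = 8 * u ∧ Odd u := by
    rw [CfsgLib.Classical.card_sl2', ← hq']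
    rcases hq with h | h
    · obtain ⟨r, hr⟩ : ∃ r, q = 8 * r + 3 := ⟨q / 8, by omega⟩
      refine ⟨q * ((4 * r + 1) * (2 * r + 1)), ?_, hodd.mul (Odd.mul ⟨2 * r, by omega⟩ ⟨r, by omega⟩)⟩
      rw [hr, show 8 * r + 3 - 1 = 2 * (4 * r + 1) by omega]
      ring
    · obtain ⟨r, hr⟩ : ∃ r, q = 8 * r + 5 := ⟨q / 8, by omega⟩
      refine ⟨q * ((2 * r + 1) * (4 * r + 3)), ?_, hodd.mul (Odd.mul ⟨r, by omega⟩ ⟨2 * r + 1, by omega⟩)⟩
      rw [hr, show 8 * r + 5 - 1 = 4 * (2 * r + 1) by omega]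
      ring
  have hpsl := CfsgLib.Classical.card_psl_mul (F := F) rfl 2 (by norm_num)
  rw [← hq', hu.1, show Nat.gcd 2 (q - 1) = 2 by
    obtain ⟨r, hr⟩ := hodd
    rw [hr, Nat.add_sub_cancel]; exact Nat.gcd_eq_left ⟨r, rfl⟩] at hpsl
  have hcard : Nat.card (P : Subgroup (Matrix.ProjectiveSpecialLinearGroup (Fin 2) F)) = 4 := by
    rw [P.card_eq_multiplicity, show Nat.card (Matrix.ProjectiveSpecialLinearGroup (Fin 2) F) = 2 ^ 2 * u by omega,
      Nat.factorization_mul (by norm_num) (Nat.ne_of_gt hu.2.pos), Nat.factorization_pow, Finsupp.add_apply, Finsupp.smul_apply,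
      Nat.prime_two.factorization_self, Nat.factorization_eq_zero_of_not_dvd (fun h => Nat.not_even_iff_odd.2 hu.2 (even_iff_two_dvd.2 h))]
    rfl
  have hsq : ∀ x : (P : Subgroup (Matrix.ProjectiveSpecialLinearGroup (Fin 2) F)), x ^ 2 = 1 := by
    intro x
    obtain ⟨g, hg⟩ := QuotientGroup.mk'_surjective _ (x : Matrix.ProjectiveSpecialLinearGroup (Fin 2) F)
    have h4 : x ^ 4 = 1 := by rw [← hcard]; exact pow_card_eq_one'
    have h8 : g ^ 8 = 1 := by
      have h := congrArg Subtype.val h4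
      rw [SubmonoidClass.coe_pow, OneMemClass.coe_one, ← hg, ← map_pow, ← MonoidHom.mem_ker, QuotientGroup.ker_mk'] at h
      rw [show 8 = 4 + 4 from rfl, pow_add]
      rcases CfsgLib.Classical.sl2_center_eq h with e | e <;> simp [e]
    have hd : orderOf g ∣ 2 ^ 3 := orderOf_dvd_of_pow_eq_one h8
    obtain ⟨j, hj, hjo⟩ := (Nat.dvd_prime_pow Nat.prime_two).1 hd
    have hcop : (orderOf g).Coprime p := by rw [hjo]; exact Nat.Coprime.pow_left _ (Nat.coprime_two_left.2 hpodd)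
    have h44 : g ^ 4 = 1 := by
      apply orderOf_dvd_iff_pow_eq_one.1
      rw [hjo]
      refine dvd_trans (pow_dvd_pow 2 (show j ≤ 2 from ?_)) (by norm_num)
      by_contra hlt
      have hj3 : j = 3 := by omega
      subst hj3
      rcases CfsgLib.Classical.sl2_order_dvd p g hcop with h' | h' <;> rw [hjo, ← hq'] at h' <;>
        obtain ⟨w, hw⟩ := h' <;> omega
    have hgg : (g * g) * (g * g) = 1 := by rw [← h44]; simp [pow_succ, mul_assoc]
    apply Subtype.ext
    rw [SubmonoidClass.coe_pow, OneMemClass.coe_one, ← hg, ← map_pow, ← MonoidHom.mem_ker, QuotientGroup.ker_mk', pow_two]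
    by_cases h1 : g * g = 1
    · rw [h1]; exact one_mem _
    · rw [CfsgLib.Classical.sl2_eq_neg_one h2 h1 hgg]; exact CfsgLib.Classical.sl2_neg_one_central
  refine ⟨hcard, Nat.dvd_antisymm (Monoid.exponent_dvd_of_forall_pow_eq_one hsq) ?_⟩
  haveI : Nontrivial (P : Subgroup (Matrix.ProjectiveSpecialLinearGroup (Fin 2) F)) := by
    rw [← Finite.one_lt_card_iff_nontrivial, hcard]; norm_num
  obtain ⟨x, hx⟩ := exists_ne (1 : (P : Subgroup (Matrix.ProjectiveSpecialLinearGroup (Fin 2) F)))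
  have h := Monoid.order_dvd_exponent x
  rwa [orderOf_eq_prime (hsq x) hx] at h

end Cfsg.Agent.S0276
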