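import Cfsg.Statements.S0284
import Cfsg.Agent.Lib.Classical.HermMatrix

set_option autoImplicit false
open Cfsg

namespace Cfsg.Agent.S0284

/-- The standard Hermitian form on F^n, |F| = q^2, has exactly q^(n-1) (q^n - (-1)^n) vectors of norm 1. -/
theorem result {F : Type*} [Field F] [Fintype F] {q : ℕ} (hF : Fintype.card F = q ^ 2) (n : ℕ) : Nat.card {v : Fin n → F // Cfsg.hermForm n F q v v = 1} = (if Even n then q ^ (n - 1) * (q ^ n - 1) else q ^ (n - 1) * (q ^ n + 1)) := by
  obtain ⟨σ, hσ, hc⟩ := CfsgLib.Classical.exists_frob hF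
  have hq := CfsgLib.Classical.two_le_of_card_sq hF
  have e : Nat.card {v : Fin n → F // Cfsg.hermForm n F q v v = 1} = CfsgLib.Classical.lengthCount σ n 1 :=
    Nat.card_congr (Equiv.subtypeEquivRight fun v => by rw [CfsgLib.Classical.hermForm_eq_stdHerm hσ])
  rw [e]
  rcases n with _ | n
  · have h := (CfsgLib.Classical.lengthCount_closed hF hσ hc 0).1
    simp at h ⊢
    omega
  · rw [CfsgLib.Classical.lengthCount_one hF hσ hc n, Nat.add_sub_cancel]
    by_cases hn : Even n
    · rw [if_pos hn, if_neg (by simpa [Nat.even_add_one] using hn)]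
    · rw [if_neg hn, if_pos (Nat.even_add_one.2 hn)]

end Cfsg.Agent.S0284
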