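import Cfsg.Statements.S0285
import Cfsg.Agent.Lib.Classical.HermMatrix

set_option autoImplicit false
open Cfsg

namespace Cfsg.Agent.S0285

/-- The standard Hermitian form on F^n, |F| = q^2, has exactly (q^n - (-1)^n)(q^(n-1) + (-1)^n) non-zero isotropic vectors; counting the zero vector too: -/
theorem result {F : Type*} [Field F] [Fintype F] {q : ℕ} (hF : Fintype.card F = q ^ 2) (n : ℕ) : Nat.card {v : Fin n → F // Cfsg.hermForm n F q v v = 0} = (if Even n then (q ^ n - 1) * (q ^ (n - 1) + 1) else (q ^ n + 1) * (q ^ (n - 1) - 1)) + 1 := by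
  obtain ⟨σ, hσ, hc⟩ := CfsgLib.Classical.exists_frob hF
  have hq := CfsgLib.Classical.two_le_of_card_sq hF
  have e : Nat.card {v : Fin n → F // Cfsg.hermForm n F q v v = 0} = CfsgLib.Classical.lengthCount σ n 0 :=
    Nat.card_congr (Equiv.subtypeEquivRight fun v => by rw [CfsgLib.Classical.hermForm_eq_stdHerm hσ])
  rw [e]
  have h := (CfsgLib.Classical.lengthCount_closed hF hσ hc n).2
  rcases n with _ | n
  · simp at h ⊢
    exact_mod_cast mul_left_cancel₀ (show (q : ℤ) ≠ 0 by exact_mod_cast (by omega : q ≠ 0)) (h.trans (mul_one _).symm)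
  · refine Int.natCast_inj.1 (mul_left_cancel₀ (show (q : ℤ) ≠ 0 by exact_mod_cast (by omega : q ≠ 0)) ?_)
    rw [h, Nat.add_sub_cancel]
    have h1 : 1 ≤ q ^ n := Nat.one_le_pow _ _ (by omega)
    have h2 : 1 ≤ q ^ (n + 1) := Nat.one_le_pow _ _ (by omega)
    by_cases hn : Even (n + 1)
    · rw [if_pos hn, hn.neg_one_pow]
      push_cast [Nat.cast_sub h2]
      ring
    · rw [if_neg hn, (Nat.not_even_iff_odd.1 hn).neg_one_pow]
      push_cast [Nat.cast_sub h1]
      ring

end Cfsg.Agent.S0285
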