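import Cfsg.Statements.S0289
import Cfsg.Agent.Lib.Classical.OrthCount

set_option autoImplicit false
open Cfsg

namespace Cfsg.Agent.S0289

/-- The hyperbolic quadratic form on F^(2m), m at least 1, has q^(2m-1) + q^m - q^(m-1) zeros (that is, (q^m - 1)(q^(m-1) + 1) non-zero isotropic vectors). -/
theorem result {F : Type*} [Field F] [Fintype F] {q : ℕ} (hF : Fintype.card F = q) (m : ℕ) (hm : 1 ≤ m) : Nat.card {v : Fin m ⊕ Fin m → F // Cfsg.quadFormPlus m F v = 0} = q ^ (2 * m - 1) + q ^ m - q ^ (m - 1) := by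
  obtain ⟨k, rfl⟩ := Nat.exists_eq_add_of_le' hm
  rw [Nat.card_congr ((Equiv.refl _).subtypeEquiv fun v => by rw [CfsgLib.Orth.plusForm_apply]; rfl :
    {v // Cfsg.quadFormPlus (k + 1) F v = 0} ≃ {v // CfsgLib.Orth.plusForm F (k + 1) v = 0}), ← CfsgLib.Classical.zeroCount]
  have h := CfsgLib.Classical.zeroCount_plus hF (k + 1)
  have hq : 2 ≤ q := hF ▸ Fintype.one_lt_card
  have h1 : (CfsgLib.Classical.zeroCount (CfsgLib.Orth.plusForm F (k + 1)) : ℤ) =
      (q : ℤ) ^ (2 * k + 1) + (q : ℤ) ^ (k + 1) - (q : ℤ) ^ k :=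
    mul_left_cancel₀ (show (q : ℤ) ≠ 0 by omega) (by linear_combination h)
  have hle : q ^ k ≤ q ^ (2 * k + 1) + q ^ (k + 1) := le_add_left (Nat.pow_le_pow_right (by omega) (by omega))
  rw [show 2 * (k + 1) - 1 = 2 * k + 1 by omega, Nat.add_sub_cancel]
  exact Int.natCast_inj.1 (by rw [h1]; push_cast [Nat.cast_sub hle]; ring)

end Cfsg.Agent.S0289
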