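import Cfsg.Statements.S0304
import Cfsg.Agent.Lib.Classical.SympMatrix

set_option autoImplicit false
open Cfsg

namespace Cfsg.Agent.S0304

/-- In characteristic 2, O_{2m+1}(q) is isomorphic to Sp_{2m}(q). -/
theorem result {F : Type*} [Field F] [Fintype F] [CharP F 2] (m : ℕ) : Nonempty (Cfsg.isometryGroup F (Cfsg.quadFormOdd m F) ≃* Matrix.symplecticGroup (Fin m) F) := by
  classical
  let I := Fin m ⊕ Fin m
  let Q : (Unit ⊕ I → F) → F := Cfsg.quadFormOdd m F
  let Q0 : (I → F) → F := fun x => ∑ i : Fin m, x (.inl i) * x (.inr i)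
  let f : (I → F) → (I → F) → F := Cfsg.sympForm m F
  have hQ : ∀ (a : F) (x : I → F), Q (Sum.elim (fun _ => a) x) = a ^ 2 + Q0 x := fun a x => by
    simp [Q, Q0, Cfsg.quadFormOdd, I]
  have hQ' : ∀ v : Unit ⊕ I → F, Q v = v (.inl ()) ^ 2 + Q0 (fun i => v (.inr i)) := fun v => by
    simp [Q, Q0, Cfsg.quadFormOdd, I]
  have hQ0add : ∀ x y, Q0 (x + y) = Q0 x + Q0 y + f x y := fun x y => by
    simp only [Q0, f, CfsgLib.Classical.sympForm_eq, ← Finset.sum_add_distrib]
    refine Finset.sum_congr rfl fun i _ => ?_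
    simp only [Pi.add_apply, CharTwo.sub_eq_add]
    ring
  have hQ0smul : ∀ (c : F) x, Q0 (c • x) = c ^ 2 * Q0 x := fun c x => by
    simp only [Q0, Finset.mul_sum]
    exact Finset.sum_congr rfl fun i _ => by simp; ring
  have sqinj : ∀ a b : F, a ^ 2 = b ^ 2 → a = b := fun a b h => by
    have : (a + b) ^ 2 = 0 := by rw [CharTwo.add_sq, h, CharTwo.add_self_eq_zero]
    have h0 := sq_eq_zero_iff.1 this
    rw [eq_neg_of_add_eq_zero_left h0, CharTwo.neg_eq]
  have hQadd : ∀ u v : Unit ⊕ I → F, Q (u + v) = Q u + Q v + f (fun i => u (.inr i)) (fun i => v (.inr i)) := fun u v => by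
    rw [hQ', hQ', hQ', show (fun i => (u + v) (.inr i)) = (fun i => u (.inr i)) + (fun i => v (.inr i)) from rfl,
      hQ0add, Pi.add_apply, CharTwo.add_sq]
    ring
  let lin : (g : Matrix (Unit ⊕ I) (Unit ⊕ I) F) → (Unit ⊕ I → F) → (I → F) := fun g v i => (g.mulVec v) (.inr i)
  let e0 : Unit ⊕ I → F := Pi.single (.inl ()) 1
  have hmem : ∀ g : Matrix.GeneralLinearGroup (Unit ⊕ I) F, g ∈ Cfsg.isometryGroup F Q ↔ ∀ v, Q ((g : Matrix (Unit ⊕ I) (Unit ⊕ I) F).mulVec v) = Q v :=
    fun g => ⟨fun h x => h x x, fun h x _ => h x⟩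
  -- the radical vector is fixed
  have hfix : ∀ g : Cfsg.isometryGroup F Q, (g.1 : Matrix (Unit ⊕ I) (Unit ⊕ I) F).mulVec e0 = e0 := by
    intro g
    have hg := (hmem g.1).1 g.2
    have hrad : ∀ x : I → F, f (lin g.1 e0) x = 0 := by
      intro x
      have hsurj : ∃ w, (g.1 : Matrix (Unit ⊕ I) (Unit ⊕ I) F).mulVec w = Sum.elim (fun _ => 0) x :=
        ⟨((g.1⁻¹ : Matrix.GeneralLinearGroup (Unit ⊕ I) F) : Matrix (Unit ⊕ I) (Unit ⊕ I) F).mulVec (Sum.elim (fun _ => 0) x), by
          rw [Matrix.mulVec_mulVec, ← Units.val_mul, mul_inv_cancel, Units.val_one, Matrix.one_mulVec]⟩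
      obtain ⟨w, hw⟩ := hsurj
      have h1 := hg (e0 + w)
      rw [Matrix.mulVec_add, hQadd, hQadd, hg, hg, hw] at h1
      have h2 : f (fun i => e0 (.inr i)) (fun i => w (.inr i)) = 0 := by
        simp [f, e0, CfsgLib.Classical.sympForm_eq]
      rw [h2] at h1
      exact add_left_cancel h1
    have h0 : lin g.1 e0 = 0 := (CfsgLib.Classical.sympBil_nondegenerate (F := F) m).1 _ fun x => by
      rw [CfsgLib.Classical.sympBil_apply]; exact hrad x
    funext j
    rcases j with ⟨⟩ | i
    · have h1 := hg e0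
      rw [hQ', hQ'] at h1
      have : (fun i => ((g.1 : Matrix (Unit ⊕ I) (Unit ⊕ I) F).mulVec e0) (.inr i)) = 0 := h0
      rw [this] at h1
      have h2 : (fun i => e0 (.inr i)) = (0 : I → F) := by funext i; simp [e0]
      rw [h2] at h1
      exact sqinj _ _ (add_right_cancel h1)
    · have := congrFun h0 i
      simpa [lin, e0] using this
  have hblock : ∀ (g : Cfsg.isometryGroup F Q) (v : Unit ⊕ I → F),
      lin g.1 v = ((g.1 : Matrix (Unit ⊕ I) (Unit ⊕ I) F).toBlocks₂₂).mulVec (fun i => v (.inr i)) := by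
    intro g v
    funext i
    have hv : v = v (.inl ()) • e0 + Sum.elim (fun _ => 0) (fun i => v (.inr i)) := by
      funext j; rcases j with ⟨⟩ | i <;> simp [e0]
    simp only [lin]
    conv_lhs => rw [hv, Matrix.mulVec_add, Matrix.mulVec_smul, hfix g]
    simp [e0, Matrix.mulVec, dotProduct, Matrix.toBlocks₂₂]
  let φ : Cfsg.isometryGroup F Q → Matrix.symplecticGroup (Fin m) F := fun g => ⟨(g.1 : Matrix (Unit ⊕ I) (Unit ⊕ I) F).toBlocks₂₂, by
    rw [CfsgLib.Classical.mem_symplecticGroup_iff_preserves]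
    intro x y
    have hg := (hmem g.1).1 g.2
    have h1 := hg (Sum.elim (fun _ => 0) x + Sum.elim (fun _ => 0) y)
    rw [Matrix.mulVec_add, hQadd, hQadd, hg, hg] at h1
    have h2 := add_left_cancel h1
    have ex : ∀ x : I → F, (g.1 : Matrix (Unit ⊕ I) (Unit ⊕ I) F).toBlocks₂₂.mulVec x =
        lin g.1 (Sum.elim (fun _ => 0) x) := fun x => by rw [hblock]; rfl
    rw [ex, ex]
    exact h2⟩
  have φmul : ∀ g h, φ (g * h) = φ g * φ h := fun g h => by
    apply Subtype.ext
    refine Matrix.ext_iff_mulVec.2 fun x => ?_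
    change ((g * h).1 : Matrix (Unit ⊕ I) (Unit ⊕ I) F).toBlocks₂₂.mulVec x =
      ((g.1 : Matrix (Unit ⊕ I) (Unit ⊕ I) F).toBlocks₂₂ * (h.1 : Matrix (Unit ⊕ I) (Unit ⊕ I) F).toBlocks₂₂).mulVec x
    rw [← Matrix.mulVec_mulVec]
    have e := hblock (g * h) (Sum.elim (fun _ => 0) x)
    simp only [Sum.elim_inr] at e
    rw [← e]
    simp only [lin, Subgroup.coe_mul, Units.val_mul, ← Matrix.mulVec_mulVec]
    have e2 := hblock g ((h.1 : Matrix (Unit ⊕ I) (Unit ⊕ I) F).mulVec (Sum.elim (fun _ => 0) x))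
    have e3 : (fun i => ((h.1 : Matrix (Unit ⊕ I) (Unit ⊕ I) F).mulVec (Sum.elim (fun _ => 0) x)) (.inr i)) =
        (h.1 : Matrix (Unit ⊕ I) (Unit ⊕ I) F).toBlocks₂₂.mulVec x := by
      have := hblock h (Sum.elim (fun _ => 0) x)
      simpa [lin] using this
    rw [e3] at e2
    exact e2
  have φinj : Function.Injective φ := by
    intro g h hgh
    apply Subtype.ext
    refine Matrix.GeneralLinearGroup.ext fun i j => ?_
    have hM : (g.1 : Matrix (Unit ⊕ I) (Unit ⊕ I) F) = (h.1 : Matrix (Unit ⊕ I) (Unit ⊕ I) F) := by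
      refine Matrix.ext_iff_mulVec.2 fun v => ?_
      have hi : lin g.1 v = lin h.1 v := by
        rw [hblock, hblock]
        exact congrArg (fun A : Matrix.symplecticGroup (Fin m) F => A.1.mulVec (fun i => v (.inr i))) hgh
      funext j
      rcases j with ⟨⟩ | i
      · have h1 := ((hmem g.1).1 g.2 v).trans ((hmem h.1).1 h.2 v).symm
        rw [hQ', hQ'] at h1
        simp only [lin] at hi
        rw [hi] at h1
        exact sqinj _ _ (add_right_cancel h1)
      · exact congrFun hi i
    rw [hM]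
  have φsurj : Function.Surjective φ := by
    intro A
    let σ : F ≃+* F := frobeniusEquiv F 2
    have hσ : ∀ a, (σ.symm a) ^ 2 = a := fun a => frobeniusEquiv_symm_pow_p (R := F) (p := 2) a
    have hA : ∀ x y, f (A.1.mulVec x) (A.1.mulVec y) = f x y :=
      (CfsgLib.Classical.mem_symplecticGroup_iff_preserves m).1 A.2
    let ψ : (I → F) → F := fun x => σ.symm (Q0 x + Q0 (A.1.mulVec x))
    let L : (Unit ⊕ I → F) →ₗ[F] (Unit ⊕ I → F) :=
      { toFun := fun v => Sum.elim (fun _ => v (.inl ()) + ψ (fun i => v (.inr i))) (A.1.mulVec fun i => v (.inr i))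
        map_add' := fun u v => by
          funext j
          rcases j with ⟨⟩ | i
          · simp only [Sum.elim_inl, Pi.add_apply]
            have : ψ (fun i => u (.inr i) + v (.inr i)) = ψ (fun i => u (.inr i)) + ψ (fun i => v (.inr i)) := by
              apply sqinj
              simp only [ψ, CharTwo.add_sq, hσ]
              rw [show (fun i => u (.inr i) + v (.inr i)) = (fun i => u (.inr i)) + (fun i => v (.inr i)) from rfl,
                Matrix.mulVec_add, hQ0add, hQ0add, hA]
              linear_combination CharTwo.add_self_eq_zero (f (fun i => u (.inr i)) (fun i => v (.inr i)))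
            rw [this]; ring
          · simp only [Sum.elim_inr, Pi.add_apply]
            rw [show (fun i => u (.inr i) + v (.inr i)) = (fun i => u (.inr i)) + (fun i => v (.inr i)) from rfl,
              Matrix.mulVec_add, Pi.add_apply]
        map_smul' := fun c v => by
          funext j
          rcases j with ⟨⟩ | i
          · simp only [Sum.elim_inl, RingHom.id_apply, Pi.smul_apply, smul_eq_mul]
            have : ψ (fun i => c * v (.inr i)) = c * ψ (fun i => v (.inr i)) := by
              apply sqinj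
              simp only [ψ, mul_pow, hσ]
              rw [show (fun i => c * v (.inr i)) = c • (fun i => v (.inr i)) from rfl,
                Matrix.mulVec_smul, hQ0smul, hQ0smul]
              ring
            rw [this]; ring
          · simp only [Sum.elim_inr, RingHom.id_apply, Pi.smul_apply, smul_eq_mul]
            rw [show (fun i => c * v (.inr i)) = c • (fun i => v (.inr i)) from rfl,
              Matrix.mulVec_smul, Pi.smul_apply, smul_eq_mul] }
    have hL : Function.Injective L := by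
      rw [← LinearMap.ker_eq_bot, LinearMap.ker_eq_bot']
      intro v hv
      have hr : A.1.mulVec (fun i => v (.inr i)) = 0 := funext fun i => congrFun hv (.inr i)
      have hr' : (fun i => v (.inr i)) = (0 : I → F) := by
        have := congrArg (fun w => (A⁻¹ : Matrix.symplecticGroup (Fin m) F).1.mulVec w) hr
        simpa [Matrix.mulVec_mulVec, CfsgLib.Classical.sp_inv_mul] using this
      have hl := congrFun hv (.inl ())
      simp only [L, LinearMap.coe_mk, AddHom.coe_mk, Sum.elim_inl, hr'] at hl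
      funext j
      rcases j with ⟨⟩ | i
      · simpa [ψ, Q0] using hl
      · exact congrFun hr' i
    let e := LinearEquiv.ofInjectiveEndo L hL
    let g : Matrix.GeneralLinearGroup (Unit ⊕ I) F :=
      ⟨LinearMap.toMatrix' e.toLinearMap, LinearMap.toMatrix' e.symm.toLinearMap,
        by rw [← LinearMap.toMatrix'_comp]; simp, by rw [← LinearMap.toMatrix'_comp]; simp⟩
    have hge : ∀ v, (g : Matrix (Unit ⊕ I) (Unit ⊕ I) F).mulVec v = L v := fun v => by
      change (LinearMap.toMatrix' e.toLinearMap).mulVec v = L v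
      rw [LinearMap.toMatrix'_mulVec]
      rfl
    have hg : g ∈ Cfsg.isometryGroup F Q := (hmem g).2 fun v => by
      rw [hge, hQ', hQ']
      simp only [L, LinearMap.coe_mk, AddHom.coe_mk, Sum.elim_inl, Sum.elim_inr, ψ, CharTwo.add_sq, hσ]
      linear_combination CharTwo.add_self_eq_zero (Q0 (A.1.mulVec fun i => v (.inr i)))
    refine ⟨⟨g, hg⟩, Subtype.ext (Matrix.ext_iff_mulVec.2 fun x => ?_)⟩
    have h := hblock ⟨g, hg⟩ (Sum.elim (fun _ => 0) x)
    simp only [Sum.elim_inr] at h
    change (g : Matrix (Unit ⊕ I) (Unit ⊕ I) F).toBlocks₂₂.mulVec x = A.1.mulVec x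
    rw [← h]
    funext i
    simp only [lin, hge]
    rfl
  exact ⟨MulEquiv.ofBijective (MonoidHom.mk' φ φmul) ⟨φinj, φsurj⟩⟩

end Cfsg.Agent.S0304
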