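import Cfsg.Statements.S0310
import Cfsg.Agent.Lib.BNPair.Parabolic

set_option autoImplicit false
open Cfsg

open CfsgLib.BNPair.Exchange CfsgLib.BNPair.Basic CfsgLib.BNPair.Parabolic

namespace Cfsg.Agent.S0310

/-- For a set `J` of distinguished generators, the subgroup generated by `B` and `J` is exactly the union of
the double cosets `B n B` with `n` in the subgroup generated by `J` (so `B W_J B` is a subgroup). -/
theorem result {G : Type*} [Group G] (P : Cfsg.BNPair G) {J : Set G}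
    (hJ : J ⊆ P.S) (g : G) :
    g ∈ P.parabolic J ↔ ∃ n ∈ Subgroup.closure J, g ∈ DoubleCoset.doubleCoset n (P.B : Set G) P.B := by
  rw [parabolic_eq P hJ]
  constructor
  · rintro ⟨w, hw, hg⟩
    obtain ⟨n, hn, rfl⟩ := (mem_WJ_iff P hJ).mp hw
    exact ⟨n, hn, by rw [← cell_proj]; exact hg⟩
  · rintro ⟨n, hn, hg⟩
    have hnN := closure_le_N P hJ hn
    exact ⟨proj P ⟨n, hnN⟩, (mem_WJ_iff P hJ).mpr ⟨⟨n, hnN⟩, hn, rfl⟩,
      by rw [cell_proj]; exact hg⟩

end Cfsg.Agent.S0310
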