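import Cfsg.Statements.S0316
import Cfsg.Agent.Lib.BNPair.Parabolic

set_option autoImplicit false
open Cfsg

open CfsgLib.BNPair.Exchange CfsgLib.BNPair.Basic CfsgLib.BNPair.Parabolic

namespace Cfsg.Agent.S0316

/-- The map `J ↦ P_J` is a lattice isomorphism from the power set of the set of distinguished generators onto the
subgroups containing `B`. -/
theorem result {G : Type*} [Group G] (P : Cfsg.BNPair G) :
    ∃ e : Set P.S ≃o {M : Subgroup G // P.B ≤ M},
      ∀ J : Set P.S, ((e J : {M : Subgroup G // P.B ≤ M}) : Subgroup G) = P.parabolic (Subtype.val '' J) := by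
  have himg : ∀ J : Set P.S, Subtype.val '' J ⊆ P.S := fun J => by
    rintro _ ⟨x, _, rfl⟩; exact x.2
  refine ⟨{ toFun := fun J => ⟨P.parabolic (Subtype.val '' J), le_sup_left⟩
            invFun := fun M => {s | (s : G) ∈ M.1}
            left_inv := fun J => ?_
            right_inv := fun M => ?_
            map_rel_iff' := fun {J K} => ?_ }, fun J => rfl⟩
  · ext s
    constructor
    · intro hs
      have : (s : G) ∈ Subtype.val '' J := by
        rw [← inter_parabolic P (himg J)]; exact ⟨s.2, hs⟩
      obtain ⟨t, ht, hte⟩ := this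
      exact Subtype.ext hte ▸ ht
    · intro hs; exact Subgroup.mem_sup_right (Subgroup.subset_closure ⟨s, hs, rfl⟩)
  · apply Subtype.ext
    show P.parabolic _ = M.1
    conv_rhs => rw [eq_parabolic P M.2]
    congr 1
    ext x
    constructor
    · rintro ⟨s, hs, rfl⟩; exact ⟨s.2, hs⟩
    · rintro ⟨h1, h2⟩; exact ⟨⟨x, h1⟩, h2, rfl⟩
  · show P.parabolic _ ≤ P.parabolic _ ↔ _
    constructor
    · intro h s hs
      have : (s : G) ∈ Subtype.val '' K := by
        rw [← inter_parabolic P (himg K)]
        exact ⟨s.2, h (Subgroup.mem_sup_right (Subgroup.subset_closure ⟨s, hs, rfl⟩))⟩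
      obtain ⟨t, ht, hte⟩ := this
      exact Subtype.ext hte ▸ ht
    · intro h; exact parabolic_mono P (Set.image_mono h)

end Cfsg.Agent.S0316
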