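import Cfsg.Statements.S0321
import Cfsg.Agent.Lib.BNPair.Parabolic

set_option autoImplicit false
open Cfsg

open CfsgLib.BNPair.Exchange CfsgLib.BNPair.Basic CfsgLib.BNPair.Parabolic

namespace Cfsg.Agent.S0321

/-- For `n ∈ N` not in `B`, the union `B ∪ B n B` is (the underlying set of) a subgroup exactly when `n` agrees
modulo `B ⊓ N` with one of the distinguished representatives; thus the distinguished involutions are
determined by `B` and `N`. -/
theorem result {G : Type*} [Group G] (P : Cfsg.BNPair G) {n : G}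
    (hn : n ∈ P.N) (hnB : n ∉ P.B) :
    (∃ H : Subgroup G, (H : Set G) = (P.B : Set G) ∪ DoubleCoset.doubleCoset n (P.B : Set G) P.B) ↔ ∃ s ∈ P.S, s⁻¹ * n ∈ P.B := by
  constructor
  · rintro ⟨H, hH⟩
    have hB : P.B ≤ H := fun x hx => by
      show x ∈ (H : Set G); rw [hH]; exact .inl hx
    have hnH : n ∈ H := by
      show n ∈ (H : Set G); rw [hH]; exact .inr (DoubleCoset.mem_doubleCoset_self _ _ _)
    by_cases hJ : ∃ s ∈ P.S, s ∈ H
    · obtain ⟨s, hs, hsH⟩ := hJ
      refine ⟨s, hs, ?_⟩
      have : s ∈ (H : Set G) := hsH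
      rw [hH] at this
      rcases this with h | h
      · exact absurd h (notMem_B_of_mem_S P hs)
      · have := cell_inj P (mem_cell_proj P ⟨s, P.subset hs⟩)
          (by rw [cell_proj P ⟨n, hn⟩]; exact h : s ∈ cell P (proj P ⟨n, hn⟩))
        exact (proj_eq_iff P).mp this
    · exfalso
      apply hnB
      push Not at hJ
      have h0 : P.S ∩ (H : Set G) = ∅ := Set.eq_empty_of_forall_notMem fun x hx => hJ x hx.1 hx.2
      have := eq_parabolic P hB
      rw [h0, Cfsg.BNPair.parabolic, Subgroup.closure_empty, sup_bot_eq] at this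
      rwa [this] at hnH
  · rintro ⟨s, hs, hsn⟩
    refine ⟨P.parabolic {s}, ?_⟩
    have he : proj P ⟨n, hn⟩ = σ P ⟨s, hs⟩ := ((proj_eq_iff P).mpr hsn).symm
    ext g
    show g ∈ P.parabolic {s} ↔ _
    rw [parabolic_eq P (Set.singleton_subset_iff.mpr hs)]
    constructor
    · rintro ⟨w, hw, hg⟩
      obtain ⟨l, hl, rfl, hlJ⟩ := exists_reduced_WJ P hw
      match l, hl, hlJ, hg with
      | [], _, _, hg => exact .inl ((mem_cell_one P).mp hg)
      | [a], _, hlJ, hg =>
        right
        have : a = ⟨s, hs⟩ := Subtype.ext (hlJ a (by simp))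
        subst this
        rw [← cell_proj P ⟨n, hn⟩, he]
        simpa using hg
      | a :: b :: l, hl, hlJ, _ =>
        exfalso
        have ha : a = b := Subtype.ext ((hlJ a (by simp)).trans (hlJ b (by simp)).symm)
        subst ha
        have h2 : Reduced (isInvGen P) [a, a] := (reduced_append (isInvGen P) (l := [a, a]) hl).1
        unfold Reduced at h2
        simp [σ_mul_self, len_one] at h2
    · rintro (hg | hg)
      · exact ⟨1, one_mem _, (mem_cell_one P).mpr hg⟩
      · exact ⟨σ P ⟨s, hs⟩, Subgroup.subset_closure ⟨⟨s, hs⟩, rfl, rfl⟩,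
          by rw [← he, cell_proj]; exact hg⟩

end Cfsg.Agent.S0321
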