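import Cfsg.Statements.S0322
import Cfsg.Agent.Lib.BNPair.Parabolic

set_option autoImplicit false
open Cfsg

open CfsgLib.BNPair.Exchange CfsgLib.BNPair.Basic CfsgLib.BNPair.Parabolic

namespace Cfsg.Agent.S0322

/-- A group with a (B,N)-pair of rank one acts doubly transitively on the left cosets of `B`. -/
theorem result {G : Type*} [Group G] (P : Cfsg.BNPair G) (h : P.rank = 1) : MulAction.IsMultiplyPretransitive G (G ⧸ P.B) 2 := by
  obtain ⟨s, hs⟩ : ∃ s, P.S = {s} := by
    have h' : Nat.card P.S = 1 := h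
    obtain ⟨⟨a⟩, hsub⟩ := (Nat.card_eq_one_iff_unique.mp h').symm
    obtain ⟨hsub, -⟩ := Nat.card_eq_one_iff_unique.mp h'
    exact ⟨a, Set.ext fun x => ⟨fun hx => congrArg Subtype.val (hsub.elim ⟨x, hx⟩ a),
      fun hx => (Set.mem_singleton_iff.mp hx) ▸ a.2⟩⟩
  have hsS : s ∈ P.S := by rw [hs]; exact rfl
  -- every element outside `B` is in `B s B`
  have key : ∀ g : G, g ∉ P.B → ∃ a ∈ P.B, ∃ b ∈ P.B, g = a * s * b := by
    intro g hg
    have hgP : g ∈ P.parabolic P.S := by rw [parabolic_S]; trivial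
    obtain ⟨w, hw, hgw⟩ := (parabolic_eq P subset_rfl g).mp hgP
    obtain ⟨l, hl, rfl, -⟩ := exists_reduced_WJ P hw
    match l, hl, hgw with
    | [], _, hgw => exact absurd ((mem_cell_one P).mp hgw) hg
    | [a], _, hgw =>
      have ha : (a : G) = s := by
        have h2 := a.2
        simpa [hs] using h2
      rw [show ((([a] : List P.S).map (σ P)).prod) = proj P (sN P a) by simp [σ]] at hgw
      rw [cell_proj, DoubleCoset.mem_doubleCoset] at hgw
      obtain ⟨x, hx, y, hy, rfl⟩ := hgw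
      exact ⟨x, hx, y, hy, by rw [← ha]⟩
    | a :: b :: l, hl, _ =>
      exfalso
      have hab : a = b := Subtype.ext (by
        have h1 := a.2; have h2 := b.2
        simp only [hs, Set.mem_singleton_iff] at h1 h2
        rw [h1, h2])
      subst hab
      have h2 : Reduced (isInvGen P) [a, a] := (reduced_append (isInvGen P) (l := [a, a]) hl).1
      unfold Reduced at h2
      simp [σ_mul_self, len_one] at h2
  rw [MulAction.is_two_pretransitive_iff]
  have aux : ∀ a b : G ⧸ P.B, a ≠ b → ∃ g : G, g • ((1 : G) : G ⧸ P.B) = a ∧ g • (s : G ⧸ P.B) = b := by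
    intro a b hab
    obtain ⟨x, rfl⟩ := QuotientGroup.mk_surjective a
    obtain ⟨y, rfl⟩ := QuotientGroup.mk_surjective b
    obtain ⟨p, hp, q, hq, he⟩ := key (x⁻¹ * y) (fun h => hab (QuotientGroup.eq.mpr h))
    refine ⟨x * p, ?_, ?_⟩
    · show ((x * p * 1 : G) : G ⧸ P.B) = x
      rw [QuotientGroup.eq]; simpa using P.B.inv_mem hp
    · show ((x * p * s : G) : G ⧸ P.B) = y
      rw [QuotientGroup.eq, show (x * p * s)⁻¹ * y = q by
        rw [show y = x * (p * s * q) by rw [← he]; group]; group]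
      exact hq
  intro a b c d hab hcd
  obtain ⟨g, hg1, hg2⟩ := aux a b hab
  obtain ⟨g', hg1', hg2'⟩ := aux c d hcd
  refine ⟨g' * g⁻¹, ?_, ?_⟩
  · rw [← hg1, mul_smul, inv_smul_smul, hg1']
  · rw [← hg2, mul_smul, inv_smul_smul, hg2']

end Cfsg.Agent.S0322
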