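import Cfsg.Statements.S0328
import Cfsg.Agent.Lib.KnownB.SuzukiTransfer

set_option autoImplicit false
open Cfsg CfsgLib.KnownB.Suzuki CfsgLib.KnownB.SzElem

namespace Cfsg.Agent.S0328

/-- The stabiliser in the Suzuki group of the two ovoid points spanned by `(1,0,0,0)` and `(0,0,0,1)` is
isomorphic to the multiplicative group of the field (cyclic of order `q - 1`). -/
theorem result {F : Type*} [Field F] [Fintype F] {m : ℕ} (hm : 1 ≤ m)
    (hF : Fintype.card F = 2 ^ (2 * m + 1)) :
    Nonempty (↥(MulAction.stabilizer (Cfsg.Sz F m) (Cfsg.suzukiPointInfinity F) ⊓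
        MulAction.stabilizer (Cfsg.Sz F m) (Cfsg.suzukiPointZero F)) ≃* Fˣ) := by
  obtain ⟨he, φ, u, hu, hpt⟩ := exists_ovoid_equiv hm hF
  have hinf : (u (QuotientGroup.mk 1) : Projectivization F (Fin 4 → F)) =
      Cfsg.suzukiPointInfinity F := by
    rw [hpt, pt, Cfsg.suzukiPointInfinity]
    congr 1
    exact col0_one
  have hzero : (u (QuotientGroup.mk (W he)) : Projectivization F (Fin 4 → F)) =
      Cfsg.suzukiPointZero F := by
    rw [hpt, pt, Cfsg.suzukiPointZero]
    congr 1
    funext i
    rw [col0_apply, mat_W]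
    fin_cases i <;> simp [Jmat]
  let f : Fˣ →* Cfsg.Sz F m := φ.toMonoidHom.comp
    { toFun := H _ he, map_one' := H_one he, map_mul' := fun s t => (H_mul he s t).symm }
  have hf : Function.Injective f := φ.injective.comp (H_injective he)
  have heq : f.range = MulAction.stabilizer (Cfsg.Sz F m) (Cfsg.suzukiPointInfinity F) ⊓
      MulAction.stabilizer (Cfsg.Sz F m) (Cfsg.suzukiPointZero F) := by
    rw [← hinf, ← hzero]
    ext g
    simp only [Subgroup.mem_inf, MulAction.mem_stabilizer_iff, MonoidHom.mem_range]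
    obtain ⟨g, rfl⟩ := φ.surjective g
    constructor
    · rintro ⟨t, ht⟩
      have htg : H _ he t = g := φ.injective ht
      subst htg
      refine ⟨congrArg Subtype.val ((hu _ _).trans (congrArg u ?_)),
        congrArg Subtype.val ((hu _ _).trans (congrArg u ?_))⟩
      · exact (QuotientGroup.eq.2 (by simpa using H_mem_borel he t)).symm
      · rw [MulAction.Quotient.smul_mk, smul_eq_mul, H_conj_W]
        exact (QuotientGroup.eq.2 (by simpa using H_mem_borel he t⁻¹)).symm
    · rintro ⟨h1, h2⟩
      have h1' : g ∈ borel F (2 ^ (m + 1)) := by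
        have := (hu g _).symm.trans (Subtype.ext h1 : φ g • u (QuotientGroup.mk 1) = _)
        simpa using QuotientGroup.eq.1 (u.injective this).symm
      obtain ⟨a, b, t, rfl⟩ := exists_borel_eq he g h1'
      have h2' : (W he)⁻¹ * (P he a b * H _ he t * W he) ∈ borel F (2 ^ (m + 1)) := by
        have := (hu _ _).symm.trans (Subtype.ext h2 : φ _ • u (QuotientGroup.mk (W he)) = _)
        simpa using QuotientGroup.eq.1 (u.injective this).symm
      rw [mul_assoc (P he a b), H_conj_W, ← mul_assoc, ← mul_assoc,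
        Subgroup.mul_mem_cancel_right _ (H_mem_borel he _)] at h2'
      obtain ⟨h3, h4⟩ := P_W_P_mem_borel_iff he (a := 0) (b := 0) (c := a) (d := b)
        (by rwa [P_zero, one_mul, ← mul_assoc])
      subst h3 h4
      exact ⟨t, by rw [P_zero, one_mul]; rfl⟩
  exact ⟨((MonoidHom.ofInjective hf).trans (MulEquiv.subgroupCongr heq)).symm⟩

end Cfsg.Agent.S0328
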