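import Cfsg.Statements.S0329
import Cfsg.Agent.Lib.KnownB.SuzukiTransfer

set_option autoImplicit false
open Cfsg CfsgLib.KnownB.Suzuki CfsgLib.KnownB.SzElem

namespace Cfsg.Agent.S0329

/-- The stabiliser in the Suzuki group of the ovoid point spanned by `(1,0,0,0)` has order `q² (q - 1)`. -/
theorem result {F : Type*} [Field F] [Fintype F] {m : ℕ} (hm : 1 ≤ m)
    (hF : Fintype.card F = 2 ^ (2 * m + 1)) :
    Nat.card (MulAction.stabilizer (Cfsg.Sz F m) (Cfsg.suzukiPointInfinity F)) =
      (2 ^ (2 * m + 1)) ^ 2 * (2 ^ (2 * m + 1) - 1) := by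
  obtain ⟨he, φ, u, hu, hpt⟩ := exists_ovoid_equiv hm hF
  have hinf : (u (QuotientGroup.mk 1) : Projectivization F (Fin 4 → F)) =
      Cfsg.suzukiPointInfinity F := by
    rw [hpt, pt, Cfsg.suzukiPointInfinity]
    congr 1
    exact col0_one
  have heq : MulAction.stabilizer (Cfsg.Sz F m) (Cfsg.suzukiPointInfinity F) =
      (borel F (2 ^ (m + 1))).map φ.toMonoidHom := by
    ext g
    obtain ⟨g, rfl⟩ := φ.surjective g
    rw [MulAction.mem_stabilizer_iff, ← hinf, Subgroup.mem_map_equiv, φ.symm_apply_apply]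
    constructor
    · intro h
      have h2 : u (g • QuotientGroup.mk 1) = u (QuotientGroup.mk 1) := by
        rw [← hu]; exact Subtype.ext h
      simpa using QuotientGroup.eq.1 (u.injective h2).symm
    · intro h
      have h2 : g • (QuotientGroup.mk 1 : Cfsg.Lie.Sz F (2 ^ (m + 1)) ⧸ borel F _) =
          QuotientGroup.mk 1 := (QuotientGroup.eq.2 (by simpa using h)).symm
      exact congrArg Subtype.val ((hu g _).trans (congrArg u h2))
  rw [heq, Subgroup.card_map_of_injective φ.injective, card_borel he, hF]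

end Cfsg.Agent.S0329
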