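import Cfsg.Statements.S0330
import Cfsg.Agent.Lib.KnownB.SuzukiTransfer

set_option autoImplicit false
open Cfsg CfsgLib.KnownB.Suzuki CfsgLib.KnownB.SzElem

namespace Cfsg.Agent.S0330

/-- A Sylow 2-subgroup `P` of the Suzuki group (field with `q = 2^(2m+1)` elements, `m ≥ 1`) has order `q²` and
exponent `4`; its centre coincides with its commutator subgroup and has order `q`. -/
theorem result {F : Type*} [Field F] [Fintype F] {m : ℕ} (hm : 1 ≤ m)
    (hF : Fintype.card F = 2 ^ (2 * m + 1)) (P : Sylow 2 (Cfsg.Sz F m)) :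
    Nat.card P = (2 ^ (2 * m + 1)) ^ 2 ∧ Monoid.exponent P = 4 ∧
      Subgroup.center P = commutator P ∧ Nat.card (Subgroup.center P) = 2 ^ (2 * m + 1) := by
  obtain ⟨he, ψ, hP⟩ := exists_equiv_sylow hm hF P
  have hc := exists_pow_ne he hm hF
  let θ : uGroup he ≃* (P : Subgroup (Cfsg.Sz F m)) :=
    ((uGroup he).equivMapOfInjective ψ.toMonoidHom ψ.injective).trans (MulEquiv.subgroupCongr hP)
  have h2 := he.two
  refine ⟨?_, ?_, ?_, ?_⟩
  · rw [← Nat.card_congr θ.toEquiv, card_uGroup, Nat.card_eq_fintype_card, hF]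
  · rw [← Monoid.exponent_eq_of_mulEquiv θ]
    refine Nat.dvd_antisymm (Monoid.exponent_dvd_of_forall_pow_eq_one fun g =>
      Subtype.ext (by simpa using pow_four he g.2)) ?_
    have hord : orderOf (⟨CfsgLib.KnownB.Suzuki.P he 1 0, P_mem_uGroup he 1 0⟩ : uGroup he) = 4 := by
      have h0 : (0 : F) ^ (2 ^ (m + 1)) = 0 := zero_pow (by positivity)
      refine orderOf_eq_prime_pow (p := 2) (n := 1) ?_ (Subtype.ext (by
        simpa using pow_four he (P_mem_uGroup he 1 0)))
      rw [pow_one]
      intro h
      have h1 := congrArg Subtype.val h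
      rw [SubmonoidClass.coe_pow, Subgroup.coe_one, pow_two, P_mul, ← P_zero he] at h1
      exact one_ne_zero (α := F) (by simpa using (P_injective he h1).2)
    have := Monoid.order_dvd_exponent (⟨CfsgLib.KnownB.Suzuki.P he 1 0, P_mem_uGroup he 1 0⟩ : uGroup he)
    rwa [hord] at this
  · ext x
    obtain ⟨g, rfl⟩ := θ.surjective x
    constructor
    · intro hx
      have hg : g ∈ Subgroup.center (uGroup he) := by
        rw [Subgroup.mem_center_iff] at hx ⊢
        intro y
        apply θ.injective
        simpa using hx (θ y)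
      have h3 := (sylow_commutator he hc g).2 ((sylow_center he hc g).1 hg)
      have := Subgroup.mem_map_of_mem θ.toMonoidHom h3
      rw [commutator_def, Subgroup.map_commutator, Subgroup.map_top_of_surjective _ θ.surjective]
        at this
      exact this
    · intro hx
      have hg : g ∈ commutator (uGroup he) := by
        have hm' : θ g ∈ (commutator (uGroup he)).map θ.toMonoidHom := by
          rw [commutator_def, Subgroup.map_commutator,
            Subgroup.map_top_of_surjective _ θ.surjective]
          exact hx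
        obtain ⟨g', hg', he'⟩ := hm'
        rwa [← θ.injective he']
      have h3 := (sylow_center he hc g).2 ((sylow_commutator he hc g).1 hg)
      rw [Subgroup.mem_center_iff] at h3 ⊢
      intro y
      obtain ⟨y, rfl⟩ := θ.surjective y
      rw [← map_mul, ← map_mul, h3 y]
  · rw [← Nat.card_congr (Subgroup.centerCongr θ).toEquiv]
    rw [show 2 ^ (2 * m + 1) = Nat.card F by rw [Nat.card_eq_fintype_card, hF]]
    refine (Nat.card_congr (Equiv.ofBijective (fun b : F => (⟨⟨CfsgLib.KnownB.Suzuki.P he 0 b, P_mem_uGroup he 0 b⟩,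
      (sylow_center he hc _).2 ⟨b, rfl⟩⟩ : Subgroup.center (uGroup he))) ⟨?_, ?_⟩)).symm
    · intro a b h
      exact (P_injective he (congrArg (fun x => x.1.1) h)).2
    · intro g
      obtain ⟨b, hb⟩ := (sylow_center he hc g.1).1 g.2
      exact ⟨b, Subtype.ext (Subtype.ext hb.symm)⟩

end Cfsg.Agent.S0330
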