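import Cfsg.Statements.S0331
import Cfsg.Agent.Lib.KnownB.SuzukiStructure
-- import your own Cfsg.Agent.* helpers here

set_option autoImplicit false
open Cfsg

open CfsgLib.KnownB.Suzuki

namespace Cfsg.Agent.S0331

/-- For every odd prime `p` the Sylow `p`-subgroups of the Suzuki group are cyclic. -/
theorem result {F : Type*} [Field F] [Fintype F] {m : ℕ} (hm : 1 ≤ m)
    (hF : Fintype.card F = 2 ^ (2 * m + 1)) {p : ℕ} [Fact p.Prime] (hp : p ≠ 2)
    (P : Sylow p (Cfsg.Sz F m)) : IsCyclic P := by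
  rcases subsingleton_or_nontrivial (P : Subgroup (Cfsg.Sz F m)) with hs | hnt
  · exact isCyclic_of_subsingleton
  have := P.2.center_nontrivial
  obtain ⟨z, hz⟩ := exists_ne (1 : Subgroup.center (P : Subgroup (Cfsg.Sz F m)))
  set w := ((z : (P : Subgroup (Cfsg.Sz F m))) : Cfsg.Sz F m) with hw
  have hw1 : w ≠ 1 := fun h => hz (Subtype.ext (Subtype.ext h))
  have hPC : (P : Subgroup (Cfsg.Sz F m)) ≤ Subgroup.centralizer {w} := by
    intro s hs
    rw [Subgroup.mem_centralizer_singleton_iff]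
    exact congrArg Subtype.val (Subgroup.mem_center_iff.1 z.2 ⟨s, hs⟩)
  rcases (szPartition_ovoid hm hF).cases w hw1 with h | ⟨h, -, -⟩
  · exfalso
    obtain ⟨a, ha⟩ := IsPGroup.iff_card.1 (h.to_le hPC)
    obtain ⟨b, hb⟩ := IsPGroup.iff_card.1 P.2
    have hb0 : b ≠ 0 := by
      rintro rfl
      exact absurd hb (by rw [pow_zero]; exact Finite.one_lt_card.ne')
    exact hp ((Nat.prime_dvd_prime_iff_eq Fact.out Nat.prime_two).1
      ((Fact.out : p.Prime).dvd_of_dvd_pow (ha ▸ hb ▸ dvd_pow_self p hb0)))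
  · haveI := h
    exact isCyclic_of_injective (Subgroup.inclusion hPC) (Subgroup.inclusion_injective hPC)

end Cfsg.Agent.S0331
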