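import Cfsg.Statements.S0335
import Cfsg.Agent.Lib.KnownB.SuzukiTransfer

set_option autoImplicit false
open Cfsg CfsgLib.KnownB.Suzuki CfsgLib.KnownB.SzElem

namespace Cfsg.Agent.S0335

/-- The Suzuki–Tits point set is an ovoid: any three distinct points of it are projectively independent
(no line of projective 3-space meets it in more than two points). -/
theorem result {F : Type*} [Field F] [Fintype F] {m : ℕ} (hm : 1 ≤ m)
    (hF : Fintype.card F = 2 ^ (2 * m + 1)) (p : Fin 3 ↪ Cfsg.suzukiOvoid F m) :
    Projectivization.Independent (fun i => (p i : Projectivization F (Fin 4 → F))) := by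
  classical
  obtain ⟨he, -, -, -, -⟩ := exists_ovoid_equiv hm hF
  have hx : ∀ i, ∃ o, pt (cosetRep he o) = (p i : Projectivization F (Fin 4 → F)) := by
    intro i
    have h := (p i).2
    replace h := (range_ptQ he).symm.subset h
    obtain ⟨x, hx⟩ := h
    obtain ⟨o, rfl⟩ := (cosetRep_bijective he).2 x
    exact ⟨o, hx⟩
  choose o ho using hx
  -- move the first point to the point at infinity
  set g := cosetRep he (o 0) with hg
  have hc : ∀ i, ∃ o' : Option (F × F), pt (g⁻¹ * cosetRep he (o i)) = pt (cosetRep he o') := by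
    intro i
    obtain ⟨o', ho'⟩ := (cosetRep_bijective he).2 (QuotientGroup.mk (g⁻¹ * cosetRep he (o i)))
    exact ⟨o', (congrArg (ptQ F _) ho').symm⟩
  choose c hc using hc
  have hinj : ∀ i j, c i = c j → i = j := by
    intro i j hij
    apply p.injective
    apply Subtype.ext
    rw [← ho, ← ho, pt_eq_iff]
    have h : pt (g⁻¹ * cosetRep he (o i)) = pt (g⁻¹ * cosetRep he (o j)) := by rw [hc, hc, hij]
    rwa [pt_eq_iff, show (g⁻¹ * cosetRep he (o i))⁻¹ * (g⁻¹ * cosetRep he (o j)) =
      (cosetRep he (o i))⁻¹ * cosetRep he (o j) by group] at h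
  have h0 : c 0 = none := by
    have h := hc 0
    rw [← hg, inv_mul_cancel] at h
    have h' : (QuotientGroup.mk (cosetRep he none) : Cfsg.Lie.Sz F _ ⧸ borel F _) =
        QuotientGroup.mk (cosetRep he (c 0)) := ptQ_injective h
    exact ((cosetRep_bijective he).1 h').symm
  obtain ⟨a, ha⟩ : ∃ a, c 1 = some a := Option.ne_none_iff_exists'.1 fun h =>
    absurd (hinj 1 0 (h.trans h0.symm)) (by decide)
  obtain ⟨b, hb⟩ : ∃ b, c 2 = some b := Option.ne_none_iff_exists'.1 fun h =>
    absurd (hinj 2 0 (h.trans h0.symm)) (by decide)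
  have hab : a ≠ b := fun h => absurd (hinj 1 2 (by rw [ha, hb, h])) (by decide)
  let w : Fin 3 → Fin 4 → F :=
    ![![1, 0, 0, 0], ![nrm (2 ^ (m + 1)) a.1 a.2, a.2, a.1, 1],
      ![nrm (2 ^ (m + 1)) b.1 b.2, b.2, b.1, 1]]
  have hw : ∀ i, w i = col0 (cosetRep he (c i)) := by
    intro i
    fin_cases i
    · simp [w, h0, cosetRep, col0_one]
    · simp [w, ha, cosetRep, col0_P_W]
    · simp [w, hb, cosetRep, col0_P_W]
  have hli : LinearIndependent F w := by
    rw [Fintype.linearIndependent_iff]
    intro k hk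
    rw [Fin.sum_univ_three] at hk
    have e0 := congrFun hk 0
    have e1 := congrFun hk 1
    have e2 := congrFun hk 2
    have e3 := congrFun hk 3
    simp [w] at e0 e1 e2 e3
    have hk2 : k 2 = -k 1 := by linear_combination e3
    have hk1 : k 1 = 0 := by
      by_contra hne
      apply hab
      have f2 : k 1 * (a.1 - b.1) = 0 := by rw [hk2] at e2; linear_combination e2
      have f1 : k 1 * (a.2 - b.2) = 0 := by rw [hk2] at e1; linear_combination e1
      exact Prod.ext (sub_eq_zero.1 ((mul_eq_zero.1 f2).resolve_left hne))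
        (sub_eq_zero.1 ((mul_eq_zero.1 f1).resolve_left hne))
    rw [hk1, neg_zero] at hk2
    intro i
    fin_cases i
    · simpa [hk1, hk2] using e0
    · exact hk1
    · exact hk2
  -- move back
  have hlin : LinearIndependent F ((Matrix.mulVecLin (mat g)) ∘ w) := by
    refine hli.map' _ (LinearMap.ker_eq_bot.2 fun u v huv => ?_)
    have h := congrArg (fun z => Matrix.mulVec (mat g⁻¹) z) huv
    simp only [Matrix.mulVecLin_apply, Matrix.mulVec_mulVec, ← mat_mul, inv_mul_cancel] at h
    simpa [mat] using h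
  have hne : ∀ i, Matrix.mulVecLin (mat g) (w i) ≠ 0 := fun i => hlin.ne_zero i
  have heq : (fun i => (p i : Projectivization F (Fin 4 → F))) =
      fun i => Projectivization.mk F (Matrix.mulVecLin (mat g) (w i)) (hne i) := by
    funext i
    have h : pt (g * cosetRep he (c i)) = pt (cosetRep he (o i)) := by
      rw [pt_eq_iff, show (g * cosetRep he (c i))⁻¹ * cosetRep he (o i) =
        (cosetRep he (c i))⁻¹ * (g⁻¹ * cosetRep he (o i)) by group, ← pt_eq_iff]
      exact (hc i).symm
    rw [← ho, ← h, pt]
    congr 1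
    rw [col0_mul, ← hw]
    rfl
  rw [heq]
  exact Projectivization.Independent.mk _ hne hlin

end Cfsg.Agent.S0335
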