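import Cfsg.Statements.S0344
import Cfsg.Agent.Lib.Perm.ZGroup.Simple
-- import your own Cfsg.Agent.* helpers here

set_option autoImplicit false
open Cfsg

namespace Cfsg.Agent.S0344

/-- A finite simple Zassenhaus group with a two-point stabiliser of even order is isomorphic to `PSL₂(F)` for a finite
field `F` with more than three elements. -/
theorem result {G Ω : Type*} [Group G] [Finite G] [MulAction G Ω] [Finite Ω]
    (hZ : Cfsg.IsZassenhausGroup G Ω) [IsSimpleGroup G]
    {a b : Ω} (hab : a ≠ b) (heven : Even (Nat.card ↥(MulAction.stabilizer G a ⊓ MulAction.stabilizer G b))) :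
    ∃ (F : Type) (_ : Field F) (_ : Fintype F), 3 < Fintype.card F ∧ Nonempty (G ≃* Matrix.ProjectiveSpecialLinearGroup (Fin 2) F) := by
  classical
  letI := Fintype.ofFinite Ω
  obtain ⟨S⟩ := CfsgLib.Perm.ZGroup.exists_setup hZ hab
  have hle := CfsgLib.Perm.ZGroup.bound_of_even hZ hab heven
  obtain ⟨hFab, -⟩ := CfsgLib.Perm.ZGroup.kernel_elementary_abelian hZ hab hle S.F S.hle S.hnorm S.hreg
  rcases S.simple_abelian hFab with ⟨p, f, K, _, _, -, -, -, -, ⟨e⟩⟩ | ⟨hodd, hH, -, -⟩
  · exact ⟨K, inferInstance, inferInstance, CfsgLib.Perm.ZGroup.three_lt_of_simple_psl e, ⟨e⟩⟩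
  · exfalso
    have h1 := S.card_F
    have h2 : Even (Nat.card S.H) := heven
    have h3 := S.two_le_F
    obtain ⟨u, hu⟩ := hodd
    obtain ⟨v, hv⟩ := h2
    omega

end Cfsg.Agent.S0344
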