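import Cfsg.Statements.S0346
import Cfsg.Agent.Lib.Perm.ZGroup.Simple
import Cfsg.Agent.Lib.Perm.ZGroup.Feit
-- import your own Cfsg.Agent.* helpers here

set_option autoImplicit false
open Cfsg

namespace Cfsg.Agent.S0346

/-- The number of points of a finite simple Zassenhaus group is `p^k + 1` for some prime power `p^k` (the regular normal
subgroup of a point stabiliser is a `p`-group). -/
theorem result {G Ω : Type*} [Group G] [Finite G] [MulAction G Ω] [Fintype Ω]
    (hZ : Cfsg.IsZassenhausGroup G Ω) [IsSimpleGroup G] :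
    IsPrimePow (Fintype.card Ω - 1) := by
  classical
  obtain ⟨g, hg, a, b, hab, -⟩ := hZ.2.2.2.1
  obtain ⟨S⟩ := CfsgLib.Perm.ZGroup.exists_setup hZ hab
  obtain ⟨p, m, hp, hpm⟩ : ∃ p m : ℕ, p.Prime ∧ Nat.card S.F = p ^ m := by
    rcases S.simple_cases with ⟨-, h⟩ | ⟨hcyc, hodd, hbig, t, hta, htb, hinv⟩
    · exact h
    · cases nonempty_fintype G
      obtain ⟨p, m, hp, hpm, -⟩ := S.kernel_small hta htb hinv hcyc hodd hbig
      exact ⟨p, m, hp, hpm⟩
  have h1 := S.card_F
  have h2 := S.two_le_F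
  refine (isPrimePow_nat_iff _).mpr ⟨p, m, hp, Nat.pos_of_ne_zero fun h => ?_, by omega⟩
  rw [h, pow_zero] at hpm
  omega

end Cfsg.Agent.S0346
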