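import Cfsg.Statements.S0352
import Cfsg.Agent.Lib.SmallGroups.Steiner

set_option autoImplicit false
open Cfsg CfsgLib.SmallGroups.Steiner

namespace Cfsg.Agent.S0352

/-- In a Steiner system S(5, 8, 24), two distinct blocks intersect in 0, 2 or 4 points. -/
theorem result {α : Type*} [Fintype α] [DecidableEq α] (hα : Fintype.card α = 24) {B : Set (Finset α)} (hB : Cfsg.IsSteinerSystem 5 8 B) {b c : Finset α} (hb : b ∈ B) (hc : c ∈ B) (hbc : b ≠ c) : (b ∩ c).card = 0 ∨ (b ∩ c).card = 2 ∨ (b ∩ c).card = 4 := by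
  have h : ∀ i, mu24 i = 0 → (b ∩ c).card ≠ i := fun i hi => by
    rw [Finset.inter_comm]
    exact inter_card_ne hB hb hc (fun T hT => inter24 hα hB hb hT) hi
  have hk : (b ∩ c).card ≤ 8 := hB.1 b hb ▸ Finset.card_le_card Finset.inter_subset_left
  have hne : (b ∩ c).card < 5 := by
    by_contra hle
    exact hbc (eq_of_le_inter hB hb hc (not_lt.mp hle))
  have h1 := h 1 rfl
  have h3 := h 3 rfl
  omega

end Cfsg.Agent.S0352
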