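import Cfsg.Statements.S0353
import Cfsg.Agent.Lib.SmallGroups.Steiner
import Cfsg.Agent.S0352

set_option autoImplicit false
open Cfsg CfsgLib.SmallGroups.Steiner

namespace Cfsg.Agent.S0353

/-- In an S(5, 8, 24), the symmetric difference of two blocks meeting in four points is a block. -/
theorem result {α : Type*} [Fintype α] [DecidableEq α] (hα : Fintype.card α = 24) {B : Set (Finset α)} (hB : Cfsg.IsSteinerSystem 5 8 B) {b c : Finset α} (hb : b ∈ B) (hc : c ∈ B) (h4 : (b ∩ c).card = 4) : symmDiff b c ∈ B := by
  classical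
  have heven : ∀ e ∈ B, (e ∩ symmDiff b c).card % 2 = 0 := by
    intro e he
    have hev : ∀ f ∈ B, (e ∩ f).card % 2 = 0 := by
      intro f hf
      rcases eq_or_ne e f with rfl | hne
      · rw [Finset.inter_self, hB.1 e he]
      · rcases Cfsg.Agent.S0352.result hα hB he hf hne with h | h | h <;> omega
    have e1 : e ∩ symmDiff b c = ((e ∩ b) \ (e ∩ b ∩ c)) ∪ ((e ∩ c) \ (e ∩ b ∩ c)) := by
      ext x; simp [Finset.mem_symmDiff]; tauto
    have hd : Disjoint ((e ∩ b) \ (e ∩ b ∩ c)) ((e ∩ c) \ (e ∩ b ∩ c)) :=
      Finset.disjoint_left.mpr fun x => by simp; tauto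
    have s1 : e ∩ b ∩ c ⊆ e ∩ b := Finset.inter_subset_left
    have s2 : e ∩ b ∩ c ⊆ e ∩ c := fun x => by simp; tauto
    rw [e1, Finset.card_union_of_disjoint hd, Finset.card_sdiff_of_subset s1,
      Finset.card_sdiff_of_subset s2]
    have := hev b hb
    have := hev c hc
    have := Finset.card_le_card s1
    have := Finset.card_le_card s2
    omega
  have hD : (symmDiff b c).card = 8 := by
    have e1 : symmDiff b c = (b \ (b ∩ c)) ∪ (c \ (b ∩ c)) := by
      ext x; simp [Finset.mem_symmDiff]
    rw [e1, Finset.card_union_of_disjoint (Finset.disjoint_left.mpr fun x => by simp; tauto),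
      Finset.card_sdiff_of_subset Finset.inter_subset_left,
      Finset.card_sdiff_of_subset Finset.inter_subset_right, hB.1 b hb, hB.1 c hc, h4]
  by_contra hno
  -- the 56 five-subsets of the symmetric difference split according to their blocks, six by six
  have key : ((symmDiff b c).powersetCard 5).card =
      ∑ e ∈ (blocks B).filter (fun e => 5 ≤ (e ∩ symmDiff b c).card),
        ((e ∩ symmDiff b c).powersetCard 5).card := by
    rw [← Finset.card_biUnion]
    · congr 1
      ext s
      simp only [Finset.mem_biUnion, Finset.mem_filter, mem_blocks, Finset.mem_powersetCard,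
        Finset.subset_inter_iff]
      constructor
      · rintro ⟨hs, h5⟩
        obtain ⟨e, ⟨he, hse⟩, -⟩ := hB.2 s h5
        exact ⟨e, ⟨he, h5 ▸ Finset.card_le_card (Finset.subset_inter hse hs)⟩, ⟨hse, hs⟩, h5⟩
      · rintro ⟨e, -, hs, h5⟩
        exact ⟨hs.2, h5⟩
    · intro e he e' he' hne
      refine Finset.disjoint_left.mpr fun s hs hs' => hne ?_
      simp only [Finset.coe_filter, Set.mem_ofPred_eq, mem_blocks] at he he'
      simp only [Finset.mem_powersetCard, Finset.subset_inter_iff] at hs hs'
      exact (hB.2 s hs.2).unique ⟨he.1, hs.1.1⟩ ⟨he'.1, hs'.1.1⟩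
  have six : ∀ e ∈ (blocks B).filter (fun e => 5 ≤ (e ∩ symmDiff b c).card),
      ((e ∩ symmDiff b c).powersetCard 5).card = 6 := by
    intro e he
    simp only [Finset.mem_filter, mem_blocks] at he
    have h1 := heven e he.1
    have h2 : (e ∩ symmDiff b c).card ≤ 8 := hD ▸ Finset.card_le_card Finset.inter_subset_right
    have h3 : (e ∩ symmDiff b c).card ≠ 8 := fun h => hno <| by
      have a := Finset.eq_of_subset_of_card_le (Finset.inter_subset_left (s₁ := e) (s₂ := symmDiff b c))
        (by rw [h, hB.1 e he.1])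
      have a' := Finset.eq_of_subset_of_card_le (Finset.inter_subset_right (s₁ := e) (s₂ := symmDiff b c))
        (by rw [h, hD])
      rw [← a', a]; exact he.1
    rw [Finset.card_powersetCard, show (e ∩ symmDiff b c).card = 6 by omega]
    decide
  rw [Finset.card_powersetCard, hD, Finset.sum_congr rfl six, Finset.sum_const, smul_eq_mul,
    show Nat.choose 8 5 = 56 from rfl] at key
  omega

end Cfsg.Agent.S0353
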