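import Cfsg.Statements.S0357
import Cfsg.Agent.Lib.SmallGroups.Steiner

set_option autoImplicit false
open Cfsg CfsgLib.SmallGroups.Steiner

namespace Cfsg.Agent.S0357

/-- In a Steiner system S(5, 6, 12), the complement of every block is again a block. -/
theorem result {α : Type*} [Fintype α] [DecidableEq α] (hα : Fintype.card α = 12) {B : Set (Finset α)} (hB : Cfsg.IsSteinerSystem 5 6 B) {b : Finset α} (hb : b ∈ B) : bᶜ ∈ B := by
  classical
  have h := inter12 hα hB hb (Finset.empty_subset b)
  rw [show mu12 (∅ : Finset α).card = 1 from rfl, Finset.card_eq_one] at h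
  obtain ⟨c, hc⟩ := h
  have hc' : c ∈ (blocks B).filter fun c => c ∩ b = ∅ := hc ▸ Finset.mem_singleton_self c
  rw [Finset.mem_filter, mem_blocks] at hc'
  have e : c = bᶜ := Finset.eq_of_subset_of_card_le
    (fun x hx => Finset.mem_compl.mpr fun hxb =>
      Finset.notMem_empty x (hc'.2 ▸ Finset.mem_inter.mpr ⟨hx, hxb⟩))
    (by rw [Finset.card_compl, hα, hB.1 b hb, hB.1 c hc'.1])
  exact e ▸ hc'.1

end Cfsg.Agent.S0357
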