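import Cfsg.Statements.S0371
import Cfsg.Agent.Lib.SmallGroups.MathieuSets

set_option autoImplicit false
open Cfsg CfsgLib.SmallGroups.Golay CfsgLib.SmallGroups.GolayOctads CfsgLib.SmallGroups.M24Group
  CfsgLib.SmallGroups.Mathieu CfsgLib.SmallGroups.MathieuSimple CfsgLib.SmallGroups.MathieuSets
open scoped Pointwise

namespace Cfsg.Agent.S0371

/-- Multiplication by a nonzero square residue modulo 23, fixing the extra point, lies in the group of the length-24 code. -/
theorem result (u : (ZMod 23)ˣ) (hu : IsSquare u) : Equiv.optionCongr (Units.mulLeft u) ∈ Cfsg.M24 := by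
  refine mem_M24_of_basis (f := fun p => p.map fun x => (u : ZMod 23) * x) (fun p => by cases p <;> rfl) ?_
  have h : ∀ a : ZMod 23, (∃ r : ZMod 23, a = r * r ∧ r ≠ 0) → ∀ i < 12,
      isCW (mask fun p => word (bas i) (Option.map (fun x => a * x) p)) = true := by decide +kernel
  have : Fact (Nat.Prime 23) := ⟨by norm_num⟩
  obtain ⟨r, hr⟩ := hu
  exact h _ ⟨r, by rw [hr, Units.val_mul], r.ne_zero⟩

end Cfsg.Agent.S0371
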