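import Cfsg.Statements.S0386
import Cfsg.Agent.Lib.SmallGroups.MathieuSets

set_option autoImplicit false
open Cfsg CfsgLib.SmallGroups.Golay CfsgLib.SmallGroups.GolayOctads CfsgLib.SmallGroups.M24Group
  CfsgLib.SmallGroups.Mathieu CfsgLib.SmallGroups.MathieuSimple CfsgLib.SmallGroups.MathieuSets
open scoped Pointwise

namespace Cfsg.Agent.S0386

/-- For a fixed dodecad, 132 octads meet it in 6 points, 132 in 2 points and 495 in 4 points. -/
theorem result (d : Finset Cfsg.GolayPt) (hd : d ∈ Cfsg.dodecads) : {o : Finset Cfsg.GolayPt | o ∈ Cfsg.octads ∧ (o ∩ d).card = 6}.ncard = 132 ∧ {o : Finset Cfsg.GolayPt | o ∈ Cfsg.octads ∧ (o ∩ d).card = 2}.ncard = 132 ∧ {o : Finset Cfsg.GolayPt | o ∈ Cfsg.octads ∧ (o ∩ d).card = 4}.ncard = 495 := by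
  have hc : ((cwOfWeight 8).filter fun n => pc (n &&& dodB) == 6).length = 132 ∧
      ((cwOfWeight 8).filter fun n => pc (n &&& dodB) == 2).length = 132 ∧
      ((cwOfWeight 8).filter fun n => pc (n &&& dodB) == 4).length = 495 := by
    decide +kernel
  exact ⟨(count_inter_dodecad hd 8 6).trans hc.1, (count_inter_dodecad hd 8 2).trans hc.2.1,
    (count_inter_dodecad hd 8 4).trans hc.2.2⟩

end Cfsg.Agent.S0386
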