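import Cfsg.Statements.S0395
import Cfsg.Agent.Lib.SmallGroups.LeechCount

set_option autoImplicit false
open Cfsg

namespace Cfsg.Agent.S0395

/-- Exactly 16773120 lattice vectors have sum of squares 48. -/
theorem result : {x : Cfsg.GolayPt → ℤ | x ∈ Cfsg.leechLattice ∧ Cfsg.sqNorm x = 48}.ncard = 16773120 := by
  have h := CfsgLib.SmallGroups.LeechCount.count (fun _ => true) 48 12 3 (by norm_num) (by norm_num) (by norm_num)
  have hc : CfsgLib.SmallGroups.LeechCount.parityCount (fun _ => true) 0 12 +
      CfsgLib.SmallGroups.LeechCount.parityCount (fun _ => true) 1 3 = 16773120 := by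
    decide +kernel
  simpa [hc] using h

end Cfsg.Agent.S0395
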