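import Cfsg.Statements.S0427
import Cfsg.Agent.Lib.SmallGroups.Steiner22

set_option autoImplicit false
open Cfsg CfsgLib.SmallGroups.Steiner CfsgLib.SmallGroups.Steiner22

namespace Cfsg.Agent.S0427

/-- The block graph (adjacent = disjoint) of an S(3, 6, 22) is strongly regular with parameters (77, 16, 0, 4). -/
theorem result {α : Type*} [Fintype α] (hα : Fintype.card α = 22) {B : Set (Finset α)} (hB : Cfsg.IsSteinerSystem 3 6 B) [Fintype B] [DecidableRel (Cfsg.blockGraph B).Adj] : (Cfsg.blockGraph B).IsSRGWith 77 16 0 4 := by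
  classical
  have hadj : ∀ v w : B, (blockGraph B).Adj v w ↔ v ≠ w ∧ Disjoint (v : Finset α) w := fun v w => by
    simp [blockGraph, SimpleGraph.fromRel_adj, disjoint_comm]
  have hne6 : ∀ v : B, ¬ Disjoint (v : Finset α) v := fun v h => by
    have h6 := hB.1 v v.2
    rw [Finset.disjoint_iff_inter_eq_empty, Finset.inter_self] at h
    simp [h] at h6
  have hsub : ∀ (P : Finset α → Prop) [DecidablePred P] [DecidablePred fun v : B => P v],
      (Finset.univ.filter fun v : B => P v).card = ((blocks B).filter P).card := fun P _ _ => by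
    refine Finset.card_bij (fun v _ => (v : Finset α)) ?_ ?_ ?_
    · intro v hv; simp_all
    · exact fun v _ w _ h => Subtype.ext h
    · intro d hd
      rw [Finset.mem_filter, mem_blocks] at hd
      exact ⟨⟨d, hd.1⟩, by simp [hd.2], rfl⟩
  refine ⟨?_, fun v => ?_, fun v w h => ?_, fun v w hne h => ?_⟩
  · have e := card_blocks_mul hB
    rw [hα, show Nat.choose 6 3 = 20 from rfl, show Nat.choose 22 3 = 1540 from rfl] at e
    rw [← Nat.card_eq_fintype_card, Nat.card_coe_set_eq, Set.ncard_eq_toFinset_card B]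
    change (blocks B).card = 77
    omega
  · rw [← card_disjoint hα hB v.2, ← hsub, ← SimpleGraph.card_neighborFinset_eq_degree]
    congr 1
    ext w
    simp only [SimpleGraph.mem_neighborFinset, hadj, Finset.mem_filter, Finset.mem_univ, true_and]
    exact ⟨fun h => h.2, fun h => ⟨fun e => hne6 w (e ▸ h), h⟩⟩
  all_goals
    have hvw : (w : Finset α) ≠ v := fun e => by
      first
        | exact h.ne (Subtype.ext e.symm)
        | exact hne (Subtype.ext e.symm)
    have hc := common_disjoint hα hB v.2 w.2 hvw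
    rw [← hsub, ← Fintype.card_subtype] at hc
    rw [← Nat.card_eq_fintype_card, Nat.card_congr (Equiv.subtypeEquivRight (q := fun d : B =>
      Disjoint (v : Finset α) d ∧ Disjoint (w : Finset α) d) fun d => ?_), Nat.card_eq_fintype_card, hc]
  · rw [if_pos ((hadj v w).mp h).2]
  · simp only [SimpleGraph.mem_commonNeighbors, hadj]
    exact ⟨fun a => ⟨a.1.2, a.2.2⟩, fun a => ⟨⟨fun e => hne6 d (e ▸ a.1), a.1⟩,
      ⟨fun e => hne6 d (e ▸ a.2), a.2⟩⟩⟩
  · rw [if_neg fun hd => h ((hadj v w).mpr ⟨hne, hd⟩)]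
  · simp only [SimpleGraph.mem_commonNeighbors, hadj]
    exact ⟨fun a => ⟨a.1.2, a.2.2⟩, fun a => ⟨⟨fun e => hne6 d (e ▸ a.1), a.1⟩,
      ⟨fun e => hne6 d (e ▸ a.2), a.2⟩⟩⟩

end Cfsg.Agent.S0427
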