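import Cfsg.Statements.S0436
import Cfsg.Agent.Lib.ThreeTransp.Basic

set_option autoImplicit false
open Cfsg CfsgLib.ThreeTransp.Basic

namespace Cfsg.Agent.S0436

/-- For distinct commuting members a, b of a set of 3-transpositions E, a member e of E centralises the product a * b if and only if it centralises both a and b. -/
theorem result {G : Type*} [Group G] {E : Set G} (hE : Cfsg.IsThreeTranspositionSet E) {a b e : G} (ha : a ∈ E) (hb : b ∈ E) (he : e ∈ E) (hab : a ≠ b) (hcomm : Commute a b) : Commute e (a * b) ↔ (Commute e a ∧ Commute e b) := by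
  refine ⟨fun h => ?_, fun h => h.1.mul_right h.2⟩
  have A := sq_one (hE.1 a ha); have B := sq_one (hE.1 b hb); have X := sq_one (hE.1 e he)
  have key : Commute e a → Commute e b := fun h' => by
    simpa [← mul_assoc, A] using h'.mul_right h
  by_cases hea : Commute e a
  · exact ⟨hea, key hea⟩
  exfalso
  have heb : ¬ Commute e b := fun h' => hea (by
    simpa [mul_assoc, B] using h.mul_right h')
  have h1 := braid hE he ha hea
  have h2 := braid hE he hb heb
  have e0 : e * (a * b) * e = a * b := by rw [h.eq, mul_assoc, X, mul_one]
  have e1 : (a * e * a) * (b * e * b) = a * b := by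
    rw [← h1, ← h2]
    calc e * a * e * (e * b * e) = e * a * (e * e) * (b * e) := by simp only [mul_assoc]
      _ = e * (a * b) * e := by rw [X, mul_one]; simp only [mul_assoc]
      _ = a * b := e0
  have e2 : a * (e * (a * b) * e) * b = a * b := by simpa only [mul_assoc] using e1
  rw [e0] at e2
  have e3 : a * b = 1 := by
    rw [← e2, ← mul_assoc a a b, A, one_mul, B]
  exact hab ((inv_eq_of_mul_eq_one_right e3) ▸ (inv_self (hE.1 a ha)).symm)

end Cfsg.Agent.S0436
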