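import Cfsg.Statements.S0437
import Cfsg.Agent.Lib.ThreeTransp.Basic
import Cfsg.Agent.S0436

set_option autoImplicit false
open Cfsg CfsgLib.ThreeTransp.Basic

namespace Cfsg.Agent.S0437

/-- For three distinct, pairwise commuting members a, b, c of a set of 3-transpositions E, a member e of E centralises a * b * c if and only if it centralises each of a, b and c. -/
theorem result {G : Type*} [Group G] {E : Set G} (hE : Cfsg.IsThreeTranspositionSet E) {a b c e : G} (ha : a ∈ E) (hb : b ∈ E) (hc : c ∈ E) (he : e ∈ E) (hab : a ≠ b) (hac : a ≠ c) (hbc : b ≠ c) (h₁ : Commute a b) (h₂ : Commute a c) (h₃ : Commute b c) : Commute e (a * b * c) ↔ (Commute e a ∧ Commute e b ∧ Commute e c) := by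
  refine ⟨fun h => ?_, fun h => (h.1.mul_right h.2.1).mul_right h.2.2⟩
  have A := sq_one (hE.1 a ha); have B := sq_one (hE.1 b hb); have C := sq_one (hE.1 c hc)
  have X := sq_one (hE.1 e he)
  have two : ∀ {x y : G}, x ∈ E → y ∈ E → x ≠ y → Commute x y → Commute e (x * y) →
      Commute e x ∧ Commute e y := fun hx hy hxy hxy' h' =>
    (Cfsg.Agent.S0436.result hE hx hy he hxy hxy').mp h'
  by_cases hec : Commute e c
  · have : Commute e (a * b) := by simpa [mul_assoc, C] using h.mul_right hec
    exact ⟨(two ha hb hab h₁ this).1, (two ha hb hab h₁ this).2, hec⟩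
  by_cases hea : Commute e a
  · have : Commute e (b * c) := by simpa [← mul_assoc, A] using hea.mul_right h
    exact ⟨hea, two hb hc hbc h₃ this⟩
  by_cases heb : Commute e b
  · have e0 : a * b * c = b * (a * c) := by rw [h₁.eq, mul_assoc]
    rw [e0] at h
    have : Commute e (a * c) := by simpa [← mul_assoc, B] using heb.mul_right h
    exact ⟨(two ha hc hac h₂ this).1, heb, (two ha hc hac h₂ this).2⟩
  exfalso
  have i1 := braid hE he ha hea
  have i2 := braid hE he hb heb
  have i3 := braid hE he hc hec
  have e1 : (a * e * a) * (b * e * b) * (c * e * c) = a * b * c := by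
    rw [← i1, ← i2, ← i3]
    calc e * a * e * (e * b * e) * (e * c * e)
        = e * a * (e * e) * b * (e * e) * c * e := by simp only [mul_assoc]
      _ = e * (a * b * c) * e := by rw [X, mul_one, mul_one]; simp only [mul_assoc]
      _ = a * b * c := by rw [h.eq, mul_assoc, X, mul_one]
  have hcb : c * b * c = b := by rw [← h₃.eq, mul_assoc, C, mul_one]
  have e2 : e * a * b = a * b * c * e * c := by
    calc e * a * b = e * (a * b * c) * c := by simp only [mul_assoc, C, mul_one]
      _ = a * b * c * e * c := by rw [h.eq]
  have e3 : a * e = 1 := by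
    have step : (a * e * a) * (b * e * b) * (c * e * c) = a * (a * e * b * c) := by
      calc (a * e * a) * (b * e * b) * (c * e * c) = a * (e * a * b) * (e * b * c * e * c) := by
            simp only [mul_assoc]
        _ = a * (a * b * c * (e * c * e) * (b * c * e * c)) := by rw [e2]; simp only [mul_assoc]
        _ = a * (a * b * (c * c) * e * (c * b * c) * e * c) := by rw [i3]; simp only [mul_assoc]
        _ = a * (a * b * (e * b * e) * c) := by rw [C, mul_one, hcb]; simp only [mul_assoc]
        _ = a * (a * (b * b) * e * b * c) := by rw [i2]; simp only [mul_assoc]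
        _ = a * (a * e * b * c) := by rw [B, mul_one]
    have e4 := mul_left_cancel ((step.symm.trans e1).trans (mul_assoc a b c))
    exact mul_right_cancel ((mul_right_cancel e4).trans (one_mul b).symm)
  exact hea (by rw [← inv_eq_of_mul_eq_one_right e3, inv_self (hE.1 a ha)])

end Cfsg.Agent.S0437
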