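import Cfsg.Statements.S0439
import Cfsg.Agent.Lib.ThreeTransp.Basic

set_option autoImplicit false
open Cfsg CfsgLib.ThreeTransp.Basic

namespace Cfsg.Agent.S0439

/-- In the symmetric group of degree n ≥ 2, the set of transpositions is a conjugacy class of 3-transpositions which generates the group. -/
theorem result (n : ℕ) (hn : 2 ≤ n) : Cfsg.IsThreeTranspositionClass {σ : Equiv.Perm (Fin n) | σ.IsSwap} := by
  have hne : ∃ d : Equiv.Perm (Fin n), d.IsSwap :=
    ⟨Equiv.swap ⟨0, by omega⟩ ⟨1, by omega⟩, _, _, by simp, rfl⟩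
  obtain ⟨d, hd⟩ := hne
  refine ⟨⟨?_, ?_⟩, ⟨d, hd, ?_⟩, Equiv.Perm.closure_isSwap⟩
  · rintro σ ⟨x, y, hxy, rfl⟩
    exact orderOf_eq_prime (by rw [sq, Equiv.swap_mul_self]) (by simpa [Equiv.swap_eq_refl_iff] using hxy)
  · rintro σ hσ τ ⟨z, w, hzw, rfl⟩
    obtain ⟨x, y, hxy, rfl⟩ := hσ
    have key : ∀ p q r s : Fin n, p ≠ q → r ≠ s → q = r → p ≠ s →
        (Equiv.swap p q * Equiv.swap r s) ^ 3 = 1 := by
      intro p q r s hpq hrs hqr hps
      subst hqr
      have h := (Equiv.Perm.isThreeCycle_swap_mul_swap_same (a := q) (b := p) (c := s) hpq.symm hrs hps).orderOf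
      rw [Equiv.swap_comm q p] at h
      rw [← h, pow_orderOf_eq_one]
    by_cases hyz : y = z
    · by_cases hxw : x = w
      · left; rw [← hyz, ← hxw, Equiv.swap_comm y x, Equiv.swap_mul_self, one_pow]
      · exact Or.inr (key x y z w hxy hzw hyz hxw)
    by_cases hyw : y = w
    · by_cases hxz : x = z
      · left; rw [← hyw, ← hxz, Equiv.swap_mul_self, one_pow]
      · exact Or.inr (Equiv.swap_comm z w ▸ key x y w z hxy hzw.symm hyw hxz)
    by_cases hxz : x = z
    · exact Or.inr (Equiv.swap_comm x y ▸ key y x z w hxy.symm hzw hxz hyw)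
    by_cases hxw : x = w
    · exact Or.inr (Equiv.swap_comm x y ▸ Equiv.swap_comm z w ▸ key y x w z hxy.symm hzw.symm hxw hyz)
    · left
      rw [sq]
      have hc : Commute (Equiv.swap x y) (Equiv.swap z w) :=
        (Equiv.Perm.disjoint_iff_disjoint_support.mpr (by
          rw [Equiv.Perm.support_swap hxy, Equiv.Perm.support_swap hzw]
          simp [Ne.symm hxz, Ne.symm hxw, Ne.symm hyz, Ne.symm hyw])).commute
      calc Equiv.swap x y * Equiv.swap z w * (Equiv.swap x y * Equiv.swap z w)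
          = Equiv.swap x y * (Equiv.swap z w * Equiv.swap x y) * Equiv.swap z w := by simp only [mul_assoc]
        _ = 1 := by rw [← hc.eq, ← mul_assoc, Equiv.swap_mul_self, one_mul, Equiv.swap_mul_self]
  · ext σ
    obtain ⟨x, y, hxy, rfl⟩ := hd
    constructor
    · rintro ⟨z, w, hzw, rfl⟩
      exact Equiv.Perm.isConj_swap hxy hzw
    · intro hσ
      obtain ⟨g, rfl⟩ := isConj_iff.mp hσ
      exact ⟨g x, g y, fun e => hxy (g.injective e), Equiv.swap_apply_apply g x y |>.symm⟩

end Cfsg.Agent.S0439
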