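import Cfsg.Statements.S0441
import Cfsg.Agent.Lib.Sporadic.FischerRankThree

set_option autoImplicit false
open Cfsg CfsgLib.Sporadic
open scoped commutatorElement

namespace Cfsg.Agent.S0441

/-- Fischer's rank-three property. Let a finite group be generated by a conjugacy class D of 3-transpositions, with non-abelian simple commutator subgroup. Then for a in D there are members of D other than a commuting with a and members not commuting with a, and the centraliser of a acts transitively on each of these two sets. -/
theorem result {G : Type*} [Group G] [Finite G] {D : Set G} (hD : Cfsg.IsThreeTranspositionClass D) (hsimple : IsSimpleGroup (commutator G)) (hnonab : ∃ x y : commutator G, x * y ≠ y * x) {a : G} (ha : a ∈ D) : (∃ b ∈ D, b ≠ a ∧ Commute a b) ∧ (∃ c ∈ D, ¬ Commute a c) ∧ (∀ b ∈ D, ∀ b' ∈ D, b ≠ a → b' ≠ a → Commute a b → Commute a b' → ∃ g : G, Commute g a ∧ g * b * g⁻¹ = b') ∧ (∀ c ∈ D, ∀ c' ∈ D, ¬ Commute a c → ¬ Commute a c' → ∃ g : G, Commute g a ∧ g * c * g⁻¹ = c') := by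
  have hG := CfsgLib.ThreeTransp.Basic.class_isGroup hD
  have hclass : ∀ x ∈ D, ∀ y ∈ D, ∃ g : G, g * x * g⁻¹ = y := fun x hx y hy =>
    CfsgLib.ThreeTransp.Basic.class_conj hD hx hy
  obtain ⟨x, y, hxy⟩ := hnonab
  have hperf : ⁅commutator G, commutator G⁆ = commutator G := by
    rcases hsimple.eq_bot_or_eq_top_of_normal (commutator ↥(commutator G)) inferInstance with h | h
    · refine absurd ?_ hxy
      have hm : ⁅x, y⁆ ∈ commutator ↥(commutator G) :=
        Subgroup.commutator_mem_commutator (Subgroup.mem_top x) (Subgroup.mem_top y)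
      rw [h, Subgroup.mem_bot, commutatorElement_eq_one_iff_mul_comm] at hm
      exact hm
    · have h' := congrArg (Subgroup.map (commutator G).subtype) h
      rwa [commutator_def (↥(commutator G)), Subgroup.map_commutator, ← MonoidHom.range_eq_map,
        Subgroup.range_subtype] at h'
  have hsol : ∀ N : Subgroup G, N.Normal → Group.IsSolvable ↥N → N ≤ commutator G →
      N ≤ Subgroup.center G := by
    intro N hN hs hle
    rcases hsimple.eq_bot_or_eq_top_of_normal (N.subgroupOf (commutator G))
      (Subgroup.normal_subgroupOf) with h | h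
    · rw [Subgroup.subgroupOf_eq_bot] at h
      exact ((le_inf le_rfl hle).trans h.le_bot).trans bot_le
    · rw [Subgroup.subgroupOf_eq_top] at h
      have := le_antisymm hle h
      subst this
      haveI := hs
      exact absurd ((IsSimpleGroup.comm_iff_isSolvable (G := ↥(commutator G))).2 hs x y) hxy
  -- the class has more than one member
  have hone : (∀ b ∈ D, b = a) → False := by
    intro hall
    apply hxy
    have hm : ∀ g : G, g ∈ Subgroup.zpowers a := fun g => by
      have : g ∈ Subgroup.closure D := by rw [hD.2.2]; exact Subgroup.mem_top g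
      exact (Subgroup.closure_le _).2 (fun b hb => hall b hb ▸ Subgroup.mem_zpowers a) this
    obtain ⟨i, hi⟩ := hm x
    obtain ⟨j, hj⟩ := hm y
    exact Subtype.ext (show (x : G) * y = y * x by
      rw [← hi, ← hj]; exact ((Commute.refl a).zpow_zpow i j).eq)
  refine ⟨?_, ?_, ?_, ?_⟩
  · by_contra hno
    push Not at hno
    refine hone fun b hb => ?_
    have := FischerTransitivity.commuting_connected hG hclass hperf ha hb
    induction this with
    | refl => rfl
    | @tail p q _ h ih =>
      by_contra hq
      exact hno q h.2.1 hq ((ih h.1) ▸ h.2.2)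
  · by_contra hno
    push Not at hno
    refine hone fun b hb => ?_
    have := FischerTransitivity.noncommuting_connected hG hclass ha hb
    induction this with
    | refl => rfl
    | @tail p q _ h ih => exact absurd ((ih h.1).symm ▸ hno q h.2.1) h.2.2
  · intro b hb b' hb' hne hne' hc hc'
    obtain ⟨g, hg, hgb⟩ := FischerTransitivity.exists_conj hG hclass hperf hsol ha
      (y := b) (z := b') ⟨hb, hne, hc⟩ ⟨hb', hne', hc'⟩
    refine ⟨g, ?_, hgb⟩
    clear hgb
    induction hg using Subgroup.closure_induction with
    | mem z hz => exact hz.2.2.symm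
    | one => exact Commute.one_left _
    | mul _ _ _ _ h1 h2 => exact h1.mul_left h2
    | inv _ _ h => exact h.inv_left
  · intro c hc' c' hc'' hn hn'
    obtain ⟨g, hga, hgc⟩ :=
      FischerRankThree.adj_transitive hG hclass hperf hsol ha hc' hc'' hn hn'
    refine ⟨g, ?_, hgc⟩
    rw [commute_iff_eq, ← mul_inv_eq_iff_eq_mul]
    exact hga

end Cfsg.Agent.S0441
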