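import Mathlib
import Cfsg.Statements.S0442


set_option autoImplicit false
open Cfsg

namespace Cfsg.Agent.S0442

/-- A standard trick for producing elements of an involution centraliser: for an involution a and an element g, let b be the conjugate g⁻¹ * a * g. If a * b has odd order 2m + 1 then g * (a * b) ^ m commutes with a; if a * b has even order 2m then (a * b) ^ m and (a * (g * a * g⁻¹)) ^ m commute with a. -/
theorem result {G : Type*} [Group G] (a g : G) (ha : orderOf a = 2) : (∀ m : ℕ, orderOf (a * (g⁻¹ * a * g)) = 2 * m + 1 → Commute (g * (a * (g⁻¹ * a * g)) ^ m) a) ∧ (∀ m : ℕ, orderOf (a * (g⁻¹ * a * g)) = 2 * m → Commute ((a * (g⁻¹ * a * g)) ^ m) a ∧ Commute ((a * (g * a * g⁻¹)) ^ m) a) := by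
  have A : a * a = 1 := by rw [← sq, ← ha, pow_orderOf_eq_one]
  have ai : a⁻¹ = a := inv_eq_of_mul_eq_one_right A
  set z := a * (g⁻¹ * a * g) with hz
  have hB : (g⁻¹ * a * g) * (g⁻¹ * a * g) = 1 := by
    calc (g⁻¹ * a * g) * (g⁻¹ * a * g) = g⁻¹ * (a * a) * g := by group
      _ = 1 := by rw [A]; group
  have hzinv : z⁻¹ = (g⁻¹ * a * g) * a := by
    rw [hz, mul_inv_rev, ai, inv_eq_of_mul_eq_one_right hB]
  have hinv : ∀ k : ℕ, a * z ^ k * a = (z ^ k)⁻¹ := by
    intro k
    rw [← inv_pow]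
    induction k with
    | zero => simp [A]
    | succ k ih =>
      calc a * z ^ (k + 1) * a = (a * z ^ k * a) * (a * z * a) := by
            rw [pow_succ]
            calc a * (z ^ k * z) * a = a * z ^ k * ((a * a) * z * a) := by rw [A]; group
              _ = _ := by simp only [mul_assoc]
        _ = z⁻¹ ^ k * z⁻¹ := by
            rw [ih, hzinv, hz, ← mul_assoc a a, A, one_mul]
        _ = z⁻¹ ^ (k + 1) := (pow_succ _ _).symm
  have half : ∀ (y : G) (m : ℕ), orderOf y = 2 * m → (∀ k : ℕ, a * y ^ k * a = (y ^ k)⁻¹) →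
      Commute (y ^ m) a := by
    intro y m hm hy
    have h1 : (y ^ m)⁻¹ = y ^ m := inv_eq_of_mul_eq_one_right (by
      rw [← pow_add, show m + m = orderOf y by omega, pow_orderOf_eq_one])
    have h2 := (hy m).trans h1
    calc y ^ m * a = a * y ^ m * a * a := by rw [h2]
      _ = a * y ^ m := by rw [mul_assoc, A, mul_one]
  refine ⟨fun m hm => ?_, fun m hm => ⟨half z m hm hinv, ?_⟩⟩
  · have h1 : z ^ m * z ^ m = z⁻¹ := by
      rw [eq_inv_iff_mul_eq_one, ← pow_add, ← pow_succ, show m + m + 1 = orderOf z by omega,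
        pow_orderOf_eq_one]
    have h2 : z ^ m * a * (z ^ m)⁻¹ = g⁻¹ * a * g := by
      calc z ^ m * a * (z ^ m)⁻¹ = z ^ m * ((a * a) * z ^ m * a) := by
            rw [← hinv m]; simp only [mul_assoc]
        _ = z ^ m * z ^ m * a := by rw [A, one_mul, ← mul_assoc]
        _ = g⁻¹ * a * g := by rw [h1, hzinv, mul_assoc, A, mul_one]
    calc g * z ^ m * a = g * (z ^ m * a * (z ^ m)⁻¹) * z ^ m := by group
      _ = a * (g * z ^ m) := by rw [h2]; group
  · -- the second element is conjugate to the inverse of the first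
    have e : a * (g * a * g⁻¹) = g * z⁻¹ * g⁻¹ := by
      rw [hzinv]; group
    rw [e]
    have ho : orderOf (g * z⁻¹ * g⁻¹) = 2 * m := by
      rw [← MulAut.conj_apply, MulEquiv.orderOf_eq, orderOf_inv, hm]
    refine half _ m ho fun k => ?_
    have hstep : a * (g * z⁻¹ * g⁻¹) * a = (g * z⁻¹ * g⁻¹)⁻¹ := by
      have cinv : (g * a * g⁻¹)⁻¹ = g * a * g⁻¹ := by
        rw [mul_inv_rev, mul_inv_rev, inv_inv, ai, mul_assoc]
      rw [← e, mul_inv_rev, cinv, ai, ← mul_assoc a a, A, one_mul]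
    rw [← inv_pow, ← hstep]
    induction k with
    | zero => simp [A]
    | succ k ih =>
      rw [pow_succ (a * _ * a), ← ih, pow_succ]
      calc a * ((g * z⁻¹ * g⁻¹) ^ k * (g * z⁻¹ * g⁻¹)) * a
          = a * (g * z⁻¹ * g⁻¹) ^ k * ((a * a) * (g * z⁻¹ * g⁻¹) * a) := by rw [A]; group
        _ = _ := by simp only [mul_assoc]

end Cfsg.Agent.S0442
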