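import Cfsg.Statements.S0444
import Cfsg.Agent.Lib.ThreeTransp.Basic

set_option autoImplicit false
open Cfsg CfsgLib.ThreeTransp.Basic

namespace Cfsg.Agent.S0444

theorem closure_equiv_dihedral {G : Type*} [Group G] {E : Set G}
    (hE : Cfsg.IsThreeTranspositionSet E) {d e : G} (hd : d ∈ E) (he : e ∈ E) (h : ¬ Commute d e) :
    Nonempty (Subgroup.closure ({d, e} : Set G) ≃* DihedralGroup 3) := by
  have hz := orderOf_mul_three hE hd he h
  have D0 := sq_one (hE.1 d hd)
  set z := d * e with hzdef
  have p3 : ∀ a b : ZMod 3, z ^ a.val * z ^ b.val = z ^ (a + b).val := fun a b => by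
    rw [← pow_add, ← pow_mod_orderOf, hz, ZMod.val_add]
  have hflip : ∀ a : ZMod 3, z ^ a.val * d = d * z ^ (-a).val := by
    have E0 := sq_one (hE.1 e he)
    have h1 : z * d = d * z ^ 2 := by
      have hbr := braid hE hd he h
      rw [hzdef, sq]
      calc d * e * d = (d * d) * e * d * e := by rw [D0, one_mul, hbr]
        _ = d * (d * e * (d * e)) := by simp only [mul_assoc]
    have h2 : z ^ 2 * d = d * z := by
      rw [sq, mul_assoc, h1, ← mul_assoc, h1, mul_assoc, ← pow_add,
        show 2 + 2 = 3 + 1 from rfl, pow_succ, ← hz, pow_orderOf_eq_one, one_mul]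
    intro a
    obtain rfl | rfl | rfl : a = 0 ∨ a = 1 ∨ a = 2 := by revert a; decide
    · simp
    · rw [show (1 : ZMod 3).val = 1 from rfl, show (-1 : ZMod 3).val = 2 from rfl, pow_one]
      exact h1
    · rw [show (2 : ZMod 3).val = 2 from rfl, show (-2 : ZMod 3).val = 1 from rfl, pow_one]
      exact h2
  let F : DihedralGroup 3 → G
    | .r i => z ^ i.val
    | .sr i => d * z ^ i.val
  have hF : ∀ x y, F (x * y) = F x * F y := by
    rintro (a | a) (b | b) <;> simp only [F, DihedralGroup.r_mul_r, DihedralGroup.r_mul_sr,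
      DihedralGroup.sr_mul_r, DihedralGroup.sr_mul_sr]
    · rw [p3]
    · rw [← mul_assoc, hflip, mul_assoc, p3, show -a + b = b - a by ring]
    · rw [mul_assoc, p3]
    · rw [← mul_assoc, mul_assoc d (z ^ a.val) d, hflip, ← mul_assoc d d, D0, one_mul, p3,
        show -a + b = b - a by ring]
  let φ : DihedralGroup 3 →* G := MonoidHom.mk' F hF
  have hinj : Function.Injective φ := by
    rw [injective_iff_map_eq_one]
    rintro (a | a) ha
    · replace ha : z ^ a.val = 1 := ha
      have hdv := orderOf_dvd_of_pow_eq_one ha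
      rw [hz] at hdv
      have h0 : a.val = 0 := Nat.eq_zero_of_dvd_of_lt hdv a.val_lt
      rw [(ZMod.val_eq_zero a).mp h0]; rfl
    · exfalso
      replace ha : d * z ^ a.val = 1 := ha
      have h1 : z ^ a.val = d := by
        calc z ^ a.val = d * d * z ^ a.val := by rw [D0, one_mul]
          _ = d := by rw [mul_assoc, ha, mul_one]
      have h2 : orderOf d ∣ orderOf z := h1 ▸ orderOf_pow_dvd _
      rw [hE.1 d hd, hz] at h2
      norm_num at h2
  have hrange : φ.range = Subgroup.closure ({d, e} : Set G) := by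
    refine le_antisymm ?_ ((Subgroup.closure_le _).mpr ?_)
    · have dm : d ∈ Subgroup.closure ({d, e} : Set G) := Subgroup.subset_closure (Or.inl rfl)
      have zm : z ∈ Subgroup.closure ({d, e} : Set G) :=
        mul_mem dm (Subgroup.subset_closure (Or.inr rfl))
      rintro _ ⟨(a | a), rfl⟩
      · exact pow_mem zm _
      · exact mul_mem dm (pow_mem zm _)
    · rintro x (rfl | rfl)
      · exact ⟨.sr 0, by show x * z ^ (0 : ZMod 3).val = x; simp⟩
      · exact ⟨.sr 1, by
          show d * z ^ (1 : ZMod 3).val = x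
          rw [show (1 : ZMod 3).val = 1 from rfl, pow_one, hzdef, ← mul_assoc, D0, one_mul]⟩
  exact ⟨(MulEquiv.subgroupCongr hrange.symm).trans (MonoidHom.ofInjective hinj).symm⟩

/-- Two members of a set of 3-transpositions which do not commute generate a subgroup isomorphic to the symmetric group on three letters. -/
theorem result {G : Type*} [Group G] {E : Set G} (hE : Cfsg.IsThreeTranspositionSet E) {d e : G} (hd : d ∈ E) (he : e ∈ E) (h : ¬ Commute d e) : Nonempty (Subgroup.closure ({d, e} : Set G) ≃* Equiv.Perm (Fin 3)) := by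
  obtain ⟨f⟩ := closure_equiv_dihedral hE hd he h
  have hS : Cfsg.IsThreeTranspositionSet
      ({Equiv.swap 0 1, Equiv.swap 1 2} : Set (Equiv.Perm (Fin 3))) := by
    refine ⟨?_, ?_⟩
    · rintro x (rfl | rfl) <;> exact orderOf_eq_prime (by decide) (by decide)
    · rintro x (rfl | rfl) y (rfl | rfl) <;> first | (left; decide) | (right; decide)
  obtain ⟨f'⟩ := closure_equiv_dihedral hS (d := Equiv.swap 0 1) (e := Equiv.swap 1 2)
    (Or.inl rfl) (Or.inr rfl) (by
      intro h'
      exact absurd h'.eq (by decide))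
  have htop : Subgroup.closure ({Equiv.swap 0 1, Equiv.swap 1 2} : Set (Equiv.Perm (Fin 3))) = ⊤ := by
    refine Subgroup.eq_top_of_card_eq _ ?_
    rw [Nat.card_congr f'.toEquiv, DihedralGroup.nat_card, Nat.card_eq_fintype_card,
      Fintype.card_perm, Fintype.card_fin]
    rfl
  exact ⟨f.trans (f'.symm.trans ((MulEquiv.subgroupCongr htop).trans Subgroup.topEquiv))⟩

end Cfsg.Agent.S0444
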