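import Cfsg.Statements.S0447
import Cfsg.Agent.Lib.Schur.AlternatingMain
import Cfsg.Agent.Lib.Char.AltCover.Main
-- import your own Cfsg.Agent.* helpers here

set_option autoImplicit false
open Cfsg CfsgLib.Schur.Alternating Subgroup Equiv Equiv.Perm
open scoped commutatorElement

namespace Cfsg.Agent.S0447

set_option maxRecDepth 20000

variable {H : Type} [Group H] [Finite H] {n : ℕ}

/-- A product of two disjoint transpositions. -/
def IsDT (σ : alternatingGroup (Fin n)) : Prop := (σ : Perm (Fin n)).cycleType = {2, 2}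

theorem isDT_of_involution (hn : n ≤ 7) (σ : alternatingGroup (Fin n)) (h2 : σ ^ 2 = 1)
    (h1 : σ ≠ 1) : IsDT σ := by
  have h2' : (σ : Perm (Fin n)) ^ 2 = 1 := congrArg Subtype.val h2
  have h1' : (σ : Perm (Fin n)) ≠ 1 := fun h => h1 (Subtype.ext h)
  haveI : Fact (Nat.Prime 2) := ⟨Nat.prime_two⟩
  have ho : orderOf (σ : Perm (Fin n)) = 2 := orderOf_eq_prime h2' h1'
  obtain ⟨k, hk⟩ := cycleType_prime_order (σ := (σ : Perm (Fin n))) (by rw [ho]; exact Nat.prime_two)
  rw [ho] at hk
  have hsum := sum_cycleType_le (σ : Perm (Fin n))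
  have hsgn := (Perm.mem_alternatingGroup).1 σ.2
  rw [sign_of_cycleType, hk] at hsgn
  rw [hk] at hsum
  simp only [Multiset.sum_replicate, smul_eq_mul, Fintype.card_fin] at hsum
  have hk3 : k = 0 ∨ k = 1 ∨ k = 2 := by omega
  rcases hk3 with rfl | rfl | rfl
  · exact absurd hsgn (by decide)
  · exact hk
  · exact absurd hsgn (by decide)

theorem isConj_of_isDT {σ τ : alternatingGroup (Fin n)} (hσ : IsDT σ) (hτ : IsDT τ) : IsConj σ τ := by
  obtain ⟨π, hπ⟩ := isConj_iff.1 ((isConj_iff_cycleType_eq (σ := (σ : Perm (Fin n)))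
    (τ := (τ : Perm (Fin n)))).2 (hσ.trans hτ.symm))
  by_cases hπ' : π ∈ alternatingGroup (Fin n)
  · exact isConj_iff.2 ⟨⟨π, hπ'⟩, Subtype.ext hπ⟩
  obtain ⟨a, ha⟩ : ∃ a, (σ : Perm (Fin n)) a ≠ a := by
    by_contra h
    push Not at h
    have h0 : (σ : Perm (Fin n)) = 1 := Equiv.ext h
    rw [IsDT, h0, cycleType_one] at hσ
    exact absurd hσ (by decide)
  have h2 : (σ : Perm (Fin n)) ^ 2 = 1 := by
    rw [← orderOf_dvd_iff_pow_eq_one, ← lcm_cycleType, hσ]
    decide
  set c := swap a ((σ : Perm (Fin n)) a) with hc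
  have hcomm : c * (σ : Perm (Fin n)) * c⁻¹ = σ := by
    have h3 := mul_swap_eq_swap_mul (σ : Perm (Fin n)) a ((σ : Perm (Fin n)) a)
    rw [show (σ : Perm (Fin n)) ((σ : Perm (Fin n)) a) = a by
      rw [← Perm.mul_apply, ← sq, h2, Perm.one_apply], swap_comm ((σ : Perm (Fin n)) a) a] at h3
    rw [hc, swap_inv, ← h3, mul_assoc, swap_mul_self, mul_one]
  refine isConj_iff.2 ⟨⟨π * c, ?_⟩, Subtype.ext ?_⟩
  · rw [Perm.mem_alternatingGroup] at hπ' ⊢
    rcases Int.units_eq_one_or (sign π) with h | h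
    · exact absurd h hπ'
    · rw [map_mul, h, hc, sign_swap (Ne.symm ha)]; decide
  · show π * c * (σ : Perm (Fin n)) * (π * c)⁻¹ = τ
    rw [← hπ]
    conv_rhs => rw [← hcomm]
    group

theorem mem_commutator_of_nonsplit (ξ : H →* alternatingGroup (Fin n)) (hn : 3 ≤ n)
    (hker : ξ.ker = center H) (z : H) (hz : z ∈ center H) (hz1 : z ≠ 1)
    (hcen : ∀ w ∈ center H, w = 1 ∨ w = z) (hz2 : z * z = 1)
    (hns : ∀ L : Subgroup H, ¬ (center H).IsComplement' L) (hs : Function.Surjective ξ) :
    z ∈ commutator H := by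
  by_contra hzc
  let f : H →* Abelianization H := (powMonoidHom 3).comp Abelianization.of
  refine hns f.ker (isComplement'_of_disjoint_and_mul_eq_univ ?_ ?_)
  · rw [disjoint_iff, eq_bot_iff]
    rintro w ⟨hw, hw'⟩
    rcases hcen w hw with rfl | rfl
    · exact one_mem _
    · exfalso
      refine hzc ?_
      have h1 : Abelianization.of w ^ 3 = 1 := hw'
      rw [pow_succ, sq, ← map_mul, hz2, map_one, one_mul] at h1
      rw [← Abelianization.ker_of]; exact h1
  · rw [← Subgroup.normal_mul, Set.eq_univ_iff_forall]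
    suffices h : center H ⊔ f.ker = ⊤ by intro x; rw [h]; trivial
    rw [← hker, eq_top_iff, ← comap_top ξ, sup_comm, ← comap_map_eq]
    refine comap_mono ?_
    rw [← alternatingGroup.closure_isThreeCycles_eq_top (α := Fin n), closure_le]
    intro c hc
    obtain ⟨C, hC⟩ := hs c
    have hc3 : c ^ 3 = 1 := Subtype.ext (by
      show (c : Perm (Fin n)) ^ 3 = 1
      rw [← IsThreeCycle.orderOf hc, pow_orderOf_eq_one])
    have hC3 : C ^ 3 ∈ center H := by rw [← hker, MonoidHom.mem_ker, map_pow, hC, hc3]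
    have hC12 : (C ^ 4) ^ 3 = 1 := by
      rw [← pow_mul, show 4 * 3 = 3 * 4 from rfl, pow_mul]
      rcases hcen _ hC3 with h | h
      · rw [h, one_pow]
      · rw [h, show z ^ 4 = (z * z) * (z * z) by simp [pow_succ, mul_assoc], hz2, one_mul]
    refine ⟨C ^ 4, ?_, by rw [map_pow, hC, pow_succ, hc3, one_mul]⟩
    show Abelianization.of (C ^ 4) ^ 3 = 1
    rw [← map_pow, hC12, map_one]

/-- The dihedral configuration is impossible above an involution. -/
theorem no_involution (ξ : H →* alternatingGroup (Fin n)) (hn : n ≤ 7) (hs : Function.Surjective ξ)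
    (hker : ξ.ker = center H) (z : H) (hz : z ∈ center H) (hz1 : z ≠ 1)
    (hcen : ∀ w ∈ center H, w = 1 ∨ w = z) (hz2 : z * z = 1) (hzc : z ∈ commutator H)
    (a b : alternatingGroup (Fin n)) (m e c k : ℕ) (hm : 2 ≤ m) (ham : a ^ m = 1) (hb2 : b ^ 2 = 1)
    (hba : b * a = a ^ e * b)
    (hc : ((Finset.range m ×ˢ Finset.range 2).image (fun p => a ^ p.1 * b ^ p.2)).card = c)
    (hk : Nat.card (alternatingGroup (Fin n)) = c * k) (hc0 : c ≠ 0) (hkodd : Odd k)
    (hb : IsDT b) (hab : IsDT (a * b))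
    (ha : (IsDT a ∧ a ^ 2 = 1) ∨ (IsDT (a ^ 2) ∧ a ^ 2 ≠ 1))
    (x : H) (hx : x ^ 2 = 1) (hx1 : ξ x ≠ 1) : False := by
  have hk' : ξ.ker ≤ center H := hker.le
  have hxdt : IsDT (ξ x) := isDT_of_involution hn _ (by rw [← map_pow, hx, map_one]) hx1
  have hsq : ∀ w : H, IsDT (ξ w) → w * w = 1 := fun w hw => by
    obtain ⟨π, hπ⟩ := isConj_iff.1 (isConj_of_isDT hxdt hw)
    obtain ⟨g, rfl⟩ := hs π
    have hd : (g * x * g⁻¹)⁻¹ * w ∈ center H := by
      rw [← hker, MonoidHom.mem_ker]
      simp only [map_mul, map_inv, hπ, inv_mul_cancel]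
    have hg : (g * x * g⁻¹) * (g * x * g⁻¹) = 1 := by
      rw [show (g * x * g⁻¹) * (g * x * g⁻¹) = g * x ^ 2 * g⁻¹ by rw [sq]; group, hx]; group
    rcases hcen _ hd with h | h
    · rw [← inv_mul_eq_one.1 h]; exact hg
    · rw [inv_mul_eq_iff_eq_mul] at h
      subst h
      set y := g * x * g⁻¹
      calc y * z * (y * z) = y * (z * y) * z := by group
        _ = y * (y * z) * z := by rw [(mem_center_iff.1 hz y).symm]
        _ = y * y * (z * z) := by group
        _ = 1 := by rw [hg, hz2, one_mul]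
  obtain ⟨B, hB⟩ := hs b
  obtain ⟨B', hB'⟩ := hs (a * b)
  have hBB : B * B = 1 := hsq B (by rw [hB]; exact hb)
  have hB'B : B' * B' = 1 := hsq B' (by rw [hB']; exact hab)
  set A := B' * B with hA
  have hξA : ξ A = a := by
    rw [hA, map_mul, hB', hB, mul_assoc, ← sq, hb2, mul_one]
  have hconj : B * A * B⁻¹ = A⁻¹ := by
    rw [hA, mul_inv_rev, inv_eq_of_mul_eq_one_right hBB, inv_eq_of_mul_eq_one_right hB'B,
      mul_assoc, mul_assoc, hBB, mul_one]
  have hd : ⁅A, B⁆ = A * A := by
    rw [commutatorElement_def, mul_assoc, mul_assoc, ← mul_assoc B, show B * A⁻¹ * B⁻¹ = A by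
      rw [← hconj]; simp [inv_eq_of_mul_eq_one_right hBB, mul_assoc, hBB]
      rw [← mul_assoc, hBB, one_mul]]
  have hAA : (A * A) * (A * A) = 1 := by
    rcases ha with ⟨h, -⟩ | ⟨h, -⟩
    · rw [hsq A (by rw [hξA]; exact h), one_mul]
    · exact hsq (A * A) (by rw [map_mul, hξA, ← sq]; exact h)
  have hm1 : A * ⁅A, B⁆ * A⁻¹ ∈ zpowers ⁅A, B⁆ := by
    rw [hd, show A * (A * A) * A⁻¹ = A * A by group]; exact mem_zpowers _
  have hm2 : B * ⁅A, B⁆ * B⁻¹ ∈ zpowers ⁅A, B⁆ := by
    rw [hd, show B * (A * A) * B⁻¹ = (B * A * B⁻¹) * (B * A * B⁻¹) by group, hconj,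
      show A⁻¹ * A⁻¹ = (A * A)⁻¹ by group]
    exact inv_mem (mem_zpowers _)
  have h := pow_index_mem_pair ξ hs hk' hξA hB hm1 hm2 (by rw [hker]; exact hz) hzc
  rw [closure_index a b m 2 e c k hm le_rfl ham hb2 hba hc hk hc0, hd] at h
  obtain ⟨j, rfl⟩ := hkodd
  rw [pow_succ, pow_mul, sq, hz2, one_pow, one_mul] at h
  obtain ⟨i, hi⟩ := mem_zpowers_iff.1 h
  have hcase : z = 1 ∨ z = A * A := by
    rcases Int.even_or_odd' i with ⟨q, rfl | rfl⟩
    · left; rw [← hi, zpow_mul, zpow_two, hAA, one_zpow]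
    · right; rw [← hi, zpow_add, zpow_mul, zpow_two, hAA, one_zpow, one_mul, zpow_one]
  rcases hcase with h' | h'
  · exact hz1 h'
  · rcases ha with ⟨h₀, -⟩ | ⟨-, h₀⟩
    · exact hz1 (h'.trans (hsq A (by rw [hξA]; exact h₀)))
    · refine h₀ ?_
      rw [← hξA, ← map_pow, sq, ← h']
      rw [← MonoidHom.mem_ker, hker]; exact hz

theorem mk_pair (i j k l : Fin n) (hij : i ≠ j) (hkl : k ≠ l) :
    ∃ x : CfsgLib.AltCover.cover n,
      ((x : (CfsgLib.AltCover.Alg n)ˣ) : CfsgLib.AltCover.Alg n) =
        CfsgLib.AltCover.rootVec i j * CfsgLib.AltCover.rootVec k l := by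
  open CfsgLib.AltCover CliffordAlgebra in
  have h1 : rootVec i j * rootVec k l * (rootVec k l * rootVec i j) = 1 := by
    rw [mul_assoc, ← mul_assoc (rootVec k l), rootVec_sq hkl, one_mul, rootVec_sq hij]
  open CfsgLib.AltCover CliffordAlgebra in
  have h2 : rootVec k l * rootVec i j * (rootVec i j * rootVec k l) = 1 := by
    rw [mul_assoc, ← mul_assoc (rootVec i j), rootVec_sq hij, one_mul, rootVec_sq hkl]
  refine ⟨⟨⟨_, _, h1, h2⟩, ?_, ?_, Equiv.swap i j * Equiv.swap k l, ?_, fun m => ?_⟩, rfl⟩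
  · exact CliffordAlgebra.ι_mul_ι_mem_evenOdd_zero _ _ _
  · show CfsgLib.AltCover.rootVec i j * CfsgLib.AltCover.rootVec k l *
      CliffordAlgebra.reverse (CfsgLib.AltCover.rootVec i j * CfsgLib.AltCover.rootVec k l) = 1
    rw [CliffordAlgebra.reverse.map_mul, CfsgLib.AltCover.reverse_rootVec,
      CfsgLib.AltCover.reverse_rootVec, h1]
  · rw [map_mul, Equiv.Perm.sign_swap hij, Equiv.Perm.sign_swap hkl]; decide
  · show CfsgLib.AltCover.rootVec i j * CfsgLib.AltCover.rootVec k l * CfsgLib.AltCover.e m = _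
    rw [mul_assoc, CfsgLib.AltCover.rootVec_e hkl, mul_neg, ← mul_assoc,
      CfsgLib.AltCover.rootVec_e hij, neg_mul, neg_neg, mul_assoc, Equiv.Perm.mul_apply]

theorem anticomm (i j k l : Fin n) (hik : i ≠ k) (hil : i ≠ l) (hjk : j ≠ k) (hjl : j ≠ l) :
    CfsgLib.AltCover.rootVec k l * CfsgLib.AltCover.rootVec i j =
      -(CfsgLib.AltCover.rootVec i j * CfsgLib.AltCover.rootVec k l) := by
  refine eq_neg_of_add_eq_zero_left ?_
  show CliffordAlgebra.ι (CfsgLib.AltCover.sq n) _ * CliffordAlgebra.ι (CfsgLib.AltCover.sq n) _ +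
    CliffordAlgebra.ι (CfsgLib.AltCover.sq n) _ * CliffordAlgebra.ι (CfsgLib.AltCover.sq n) _ = 0
  rw [CliffordAlgebra.ι_mul_ι_add_swap, CfsgLib.AltCover.polar_sq,
    Finset.sum_eq_zero fun m _ => ?_, mul_zero, map_zero]
  rcases eq_or_ne m k with rfl | hmk
  · simp [hik.symm, hjk.symm]
  rcases eq_or_ne m l with rfl | hml
  · simp [hil.symm, hjl.symm]
  · simp [hmk, hml]


/-- Involutions in double covers of alternating groups: for n ≤ 7, a finite non-split double cover of the alternating group of degree n has exactly one element of order 2 (the central one); for degree 8 there is a non-split double cover with two distinct involutions. -/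
theorem result : (∀ (n : ℕ) (H : Type) (_ : Group H) (_ : Finite H), n ≤ 7 → Cfsg.IsNonsplitDoubleCover H (alternatingGroup (Fin n)) → ∀ x y : H, orderOf x = 2 → orderOf y = 2 → x = y) ∧ ∃ (H : Type) (_ : Group H) (_ : Finite H), Cfsg.IsNonsplitDoubleCover H (alternatingGroup (Fin 8)) ∧ ∃ x y : H, x ≠ y ∧ orderOf x = 2 ∧ orderOf y = 2 := by
  classical
  refine ⟨fun n H _ _ hn hH x y hx hy => ?_, ?_⟩
  · obtain ⟨hZ2, ⟨e⟩, hns⟩ := hH
    letI : Fintype (center H) := Fintype.ofFinite _
    let ξ : H →* alternatingGroup (Fin n) := e.toMonoidHom.comp (QuotientGroup.mk' (center H))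
    have hker : ξ.ker = center H := by
      ext w
      show e (QuotientGroup.mk' (center H) w) = 1 ↔ _
      rw [MulEquiv.map_eq_one_iff, QuotientGroup.mk'_apply, QuotientGroup.eq_one_iff]
    have hs : Function.Surjective ξ := e.surjective.comp (QuotientGroup.mk'_surjective _)
    suffices hkey : ∀ w : H, orderOf w = 2 → w ∈ center H by
      by_contra hne
      obtain ⟨u, v, -, huniv⟩ := Finset.card_eq_two.1
        (show (Finset.univ : Finset (center H)).card = 2 by
          rw [Finset.card_univ, ← Nat.card_eq_fintype_card, hZ2])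
      have hx1 : x ≠ 1 := fun h => by rw [h, orderOf_one] at hx; norm_num at hx
      have hy1 : y ≠ 1 := fun h => by rw [h, orderOf_one] at hy; norm_num at hy
      have hm : ∀ w : center H, w = u ∨ w = v := fun w => by
        have := Finset.mem_univ w
        rw [huniv] at this
        simpa using this
      rcases hm ⟨x, hkey x hx⟩ with h1 | h1 <;> rcases hm ⟨y, hkey y hy⟩ with h2 | h2 <;>
        rcases hm 1 with h3 | h3
      all_goals first
        | exact hne (congrArg Subtype.val (h1.trans h2.symm))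
        | exact hx1 (congrArg Subtype.val (h1.trans h3.symm))
        | exact hy1 (congrArg Subtype.val (h2.trans h3.symm))
    intro w hw
    by_contra hwc
    have hw1 : ξ w ≠ 1 := fun h => hwc (by rw [← hker]; exact h)
    have hn4 : 4 ≤ n := by
      by_contra h
      haveI : IsCyclic (alternatingGroup (Fin n)) :=
        alternatingGroup.isCyclic_of_card_le_three (by rw [Nat.card_eq_fintype_card, Fintype.card_fin]; omega)
      refine hwc (mem_center_iff.2 fun g => ?_)
      exact (ξ.isMulCommutative_of_isCyclic_of_ker_le_center hker.le).1.1 g w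
    obtain ⟨z, hz1, hcen⟩ : ∃ z : center H, z ≠ 1 ∧ ∀ u : center H, u = 1 ∨ u = z := by
      haveI : Nontrivial (center H) := Finite.one_lt_card_iff_nontrivial.1 (by omega)
      obtain ⟨z, hz⟩ := exists_ne (1 : center H)
      refine ⟨z, hz, fun u => ?_⟩
      by_contra hu
      push Not at hu
      have h3 : ({1, z, u} : Finset (center H)).card ≤ Fintype.card (center H) := Finset.card_le_univ _
      rw [← Nat.card_eq_fintype_card, hZ2, Finset.card_eq_three.2
        ⟨1, z, u, Ne.symm hz, Ne.symm hu.1, Ne.symm hu.2, rfl⟩] at h3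
      omega
    have hz2 : (z : H) * z = 1 := by
      rcases hcen (z * z) with h | h
      · exact congrArg Subtype.val h
      · exact absurd (mul_eq_left.1 h) hz1
    have hz1' : (z : H) ≠ 1 := fun h => hz1 (Subtype.ext h)
    have hcen' : ∀ u ∈ center H, u = 1 ∨ u = (z : H) := fun u hu => by
      rcases hcen ⟨u, hu⟩ with h | h
      · exact Or.inl (congrArg Subtype.val h)
      · exact Or.inr (congrArg Subtype.val h)
    have hzc := mem_commutator_of_nonsplit ξ (by omega) hker z z.2 hz1' hcen' hz2 hns hs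
    have hw2 : w ^ 2 = 1 := by rw [← hw]; exact pow_orderOf_eq_one w
    rcases (by omega : n = 4 ∨ n = 5 ∨ n = 6 ∨ n = 7) with rfl | rfl | rfl | rfl
    · exact no_involution ξ (by norm_num) hs hker z z.2 hz1' hcen' hz2 hzc
        ⟨swap 0 1 * swap 2 3, by rw [Perm.mem_alternatingGroup]; decide +kernel⟩
        ⟨swap 0 2 * swap 1 3, by rw [Perm.mem_alternatingGroup]; decide +kernel⟩ 2 1 4 3 le_rfl
        (by decide +kernel) (by decide +kernel) (by decide +kernel) (by decide +kernel)
        (by rw [card_alt 4 (by norm_num)]; decide +kernel) (by norm_num) (by decide)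
        (isDT_of_involution (by norm_num) _ (by decide +kernel) (by decide +kernel))
        (isDT_of_involution (by norm_num) _ (by decide +kernel) (by decide +kernel))
        (Or.inl ⟨isDT_of_involution (by norm_num) _ (by decide +kernel) (by decide +kernel),
          by decide +kernel⟩) w hw2 hw1
    · exact no_involution ξ (by norm_num) hs hker z z.2 hz1' hcen' hz2 hzc
        ⟨swap 0 1 * swap 2 3, by rw [Perm.mem_alternatingGroup]; decide +kernel⟩
        ⟨swap 0 2 * swap 1 3, by rw [Perm.mem_alternatingGroup]; decide +kernel⟩ 2 1 4 15 le_rfl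
        (by decide +kernel) (by decide +kernel) (by decide +kernel) (by decide +kernel)
        (by rw [card_alt 5 (by norm_num)]; decide +kernel) (by norm_num) (by decide)
        (isDT_of_involution (by norm_num) _ (by decide +kernel) (by decide +kernel))
        (isDT_of_involution (by norm_num) _ (by decide +kernel) (by decide +kernel))
        (Or.inl ⟨isDT_of_involution (by norm_num) _ (by decide +kernel) (by decide +kernel),
          by decide +kernel⟩) w hw2 hw1
    · exact no_involution ξ (by norm_num) hs hker z z.2 hz1' hcen' hz2 hzc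
        ⟨swap 0 1 * swap 1 2 * swap 2 3 * swap 4 5, by rw [Perm.mem_alternatingGroup]; decide +kernel⟩
        ⟨swap 1 3 * swap 4 5, by rw [Perm.mem_alternatingGroup]; decide +kernel⟩ 4 3 8 45 (by norm_num)
        (by decide +kernel) (by decide +kernel) (by decide +kernel) (by decide +kernel)
        (by rw [card_alt 6 (by norm_num)]; decide +kernel) (by norm_num) (by decide)
        (isDT_of_involution (by norm_num) _ (by decide +kernel) (by decide +kernel))
        (isDT_of_involution (by norm_num) _ (by decide +kernel) (by decide +kernel))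
        (Or.inr ⟨isDT_of_involution (by norm_num) _ (by decide +kernel) (by decide +kernel),
          by decide +kernel⟩) w hw2 hw1
    · exact no_involution ξ (by norm_num) hs hker z z.2 hz1' hcen' hz2 hzc
        ⟨swap 0 1 * swap 1 2 * swap 2 3 * swap 4 5, by rw [Perm.mem_alternatingGroup]; decide +kernel⟩
        ⟨swap 1 3 * swap 4 5, by rw [Perm.mem_alternatingGroup]; decide +kernel⟩ 4 3 8 315 (by norm_num)
        (by decide +kernel) (by decide +kernel) (by decide +kernel) (by decide +kernel)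
        (by rw [card_alt 7 (by norm_num)]; decide +kernel) (by norm_num) (by decide)
        (isDT_of_involution (by norm_num) _ (by decide +kernel) (by decide +kernel))
        (isDT_of_involution (by norm_num) _ (by decide +kernel) (by decide +kernel))
        (Or.inr ⟨isDT_of_involution (by norm_num) _ (by decide +kernel) (by decide +kernel),
          by decide +kernel⟩) w hw2 hw1
  · open CfsgLib.AltCover in
    have hfin : Finite (cover 8) := finite_cover
    haveI := hfin
    have hker8 := CfsgLib.AltCover.ker_proj (n := 8)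
    have hps := CfsgLib.AltCover.proj_surjective (n := 8)
    have hm := CfsgLib.AltCover.minusOne_mem_center (n := 8)
    have hzc := CfsgLib.AltCover.minusOne_mem_commutator (n := 8) (i := 0) (j := 1) (k := 2) (l := 3)
      (by decide) (by decide) (by decide) (by decide) (by decide) (by decide)
    have hcen : center (CfsgLib.AltCover.cover 8) = zpowers (CfsgLib.AltCover.minusOne 8) := by
      refine le_antisymm (fun w hw => ?_) (zpowers_le.2 hm)
      rw [← hker8, MonoidHom.mem_ker, ← mem_bot, ← alternatingGroup.center_eq_bot (α := Fin 8) (by simp),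
        mem_center_iff]
      intro g
      obtain ⟨g', rfl⟩ := hps g
      rw [← map_mul, ← map_mul, mem_center_iff.1 hw g']
    refine ⟨CfsgLib.AltCover.cover 8, inferInstance, hfin, ⟨?_, ⟨?_⟩, fun L hL => ?_⟩, ?_⟩
    · rw [hcen, Nat.card_zpowers, CfsgLib.AltCover.orderOf_minusOne]
    · exact (QuotientGroup.quotientMulEquivOfEq (hcen.trans hker8.symm)).trans
        (QuotientGroup.quotientKerEquivOfSurjective _ hps)
    · have hsup : L.subtype.range ⊔ center (CfsgLib.AltCover.cover 8) = ⊤ := by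
        rw [range_subtype, sup_comm]; exact hL.sup_eq_top
      obtain ⟨u, -, hu⟩ := CfsgLib.Schur.Basic.commutator_le_map_of_sup_center L.subtype hsup hzc
      have : CfsgLib.AltCover.minusOne 8 ∈ center (CfsgLib.AltCover.cover 8) ⊓ L :=
        ⟨hm, hu ▸ u.2⟩
      rw [disjoint_iff.1 hL.disjoint, mem_bot] at this
      exact CfsgLib.AltCover.minusOne_ne_one this
    · obtain ⟨p, hp⟩ := mk_pair (n := 8) 0 1 2 3 (by decide) (by decide)
      obtain ⟨q, hq⟩ := mk_pair (n := 8) 4 5 6 7 (by decide) (by decide)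
      have hsq : (p * q) * (p * q) = 1 := by
        refine Subtype.ext (Units.ext ?_)
        simp only [Subgroup.coe_mul, Units.val_mul, hp, hq, Subgroup.coe_one, Units.val_one]
        set r₁ := CfsgLib.AltCover.rootVec (0 : Fin 8) 1 with hr₁
        set r₂ := CfsgLib.AltCover.rootVec (2 : Fin 8) 3 with hr₂
        set r₃ := CfsgLib.AltCover.rootVec (4 : Fin 8) 5 with hr₃
        set r₄ := CfsgLib.AltCover.rootVec (6 : Fin 8) 7 with hr₄
        have s₁ : r₁ * r₁ = 1 := CfsgLib.AltCover.rootVec_sq (by decide)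
        have s₂ : r₂ * r₂ = 1 := CfsgLib.AltCover.rootVec_sq (by decide)
        have s₃ : r₃ * r₃ = 1 := CfsgLib.AltCover.rootVec_sq (by decide)
        have s₄ : r₄ * r₄ = 1 := CfsgLib.AltCover.rootVec_sq (by decide)
        have a₂₁ : r₂ * r₁ = -(r₁ * r₂) := anticomm _ _ _ _ (by decide) (by decide) (by decide) (by decide)
        have a₃₁ : r₃ * r₁ = -(r₁ * r₃) := anticomm _ _ _ _ (by decide) (by decide) (by decide) (by decide)
        have a₄₁ : r₄ * r₁ = -(r₁ * r₄) := anticomm _ _ _ _ (by decide) (by decide) (by decide) (by decide)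
        have a₃₂ : r₃ * r₂ = -(r₂ * r₃) := anticomm _ _ _ _ (by decide) (by decide) (by decide) (by decide)
        have a₄₂ : r₄ * r₂ = -(r₂ * r₄) := anticomm _ _ _ _ (by decide) (by decide) (by decide) (by decide)
        have a₄₃ : r₄ * r₃ = -(r₃ * r₄) := anticomm _ _ _ _ (by decide) (by decide) (by decide) (by decide)
        calc r₁ * r₂ * (r₃ * r₄) * (r₁ * r₂ * (r₃ * r₄))
            = r₁ * (r₂ * (r₃ * (r₄ * r₁))) * r₂ * (r₃ * r₄) := by simp only [mul_assoc]
          _ = -(r₁ * (r₂ * ((r₃ * r₁) * r₄)) * r₂ * (r₃ * r₄)) := by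
            rw [a₄₁]; simp only [mul_neg, neg_mul, mul_assoc]
          _ = r₁ * ((r₂ * r₁) * r₃ * r₄) * r₂ * (r₃ * r₄) := by
            rw [a₃₁]; simp only [mul_neg, neg_mul, mul_assoc, neg_neg]
          _ = -((r₁ * r₁) * (r₂ * (r₃ * (r₄ * r₂))) * (r₃ * r₄)) := by
            rw [a₂₁]; simp only [mul_neg, neg_mul, mul_assoc]
          _ = r₂ * ((r₃ * r₂) * r₄) * (r₃ * r₄) := by
            rw [a₄₂, s₁]; simp only [mul_neg, neg_mul, mul_assoc, neg_neg, one_mul]
          _ = -((r₂ * r₂) * (r₃ * (r₄ * r₃)) * r₄) := by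
            rw [a₃₂]; simp only [mul_neg, neg_mul, mul_assoc]
          _ = (r₃ * r₃) * (r₄ * r₄) := by
            rw [a₄₃, s₂]; simp only [mul_neg, neg_mul, mul_assoc, neg_neg, one_mul]
          _ = 1 := by rw [s₃, s₄, one_mul]
      have hne : p * q ≠ 1 ∧ p * q ≠ CfsgLib.AltCover.minusOne 8 := by
        have hval : ((CfsgLib.AltCover.proj 8 (p * q) : alternatingGroup (Fin 8)) : Perm (Fin 8)) =
            swap 0 1 * swap 2 3 * (swap 4 5 * swap 6 7) := by
          refine CfsgLib.AltCover.perm_unique (x := ((p * q : CfsgLib.AltCover.cover 8) : _))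
            (CfsgLib.AltCover.proj_spec _) (fun l => ?_)
          have hr : ∀ (i j k m : Fin 8), i ≠ j → k ≠ m → ∀ l,
              CfsgLib.AltCover.rootVec i j * CfsgLib.AltCover.rootVec k m * CfsgLib.AltCover.e l =
              CfsgLib.AltCover.e ((swap i j * swap k m) l) *
                (CfsgLib.AltCover.rootVec i j * CfsgLib.AltCover.rootVec k m) := by
            intro i j k m hij hkm l
            rw [mul_assoc, CfsgLib.AltCover.rootVec_e hkm, mul_neg, ← mul_assoc,
              CfsgLib.AltCover.rootVec_e hij, neg_mul, neg_neg, mul_assoc, Equiv.Perm.mul_apply]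
          simp only [Subgroup.coe_mul, Units.val_mul, hp, hq]
          rw [mul_assoc, hr 4 5 6 7 (by decide) (by decide), ← mul_assoc,
            hr 0 1 2 3 (by decide) (by decide), mul_assoc, Equiv.Perm.mul_apply]
          rfl
        have hne1 : CfsgLib.AltCover.proj 8 (p * q) ≠ 1 := fun h => by
          rw [h] at hval
          exact absurd hval (by decide +kernel)
        exact ⟨fun h => hne1 (by rw [h, map_one]), fun h => hne1 (by
          rw [h, ← MonoidHom.mem_ker, hker8]; exact mem_zpowers _)⟩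
      haveI : Fact (Nat.Prime 2) := ⟨Nat.prime_two⟩
      exact ⟨p * q, CfsgLib.AltCover.minusOne 8, hne.2,
        orderOf_eq_prime (by rw [_root_.sq]; exact hsq) hne.1, CfsgLib.AltCover.orderOf_minusOne⟩

end Cfsg.Agent.S0447
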