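import Cfsg.Statements.S0461
import Cfsg.Agent.Lib.Sporadic.J4Index.Simple

set_option autoImplicit false
open Cfsg

namespace Cfsg.Agent.S0461

/-- Janko's fourth group exists as a group of 112 × 112 matrices over the field with two elements: GL(112, 2) has a simple subgroup of order 86775571046077562880. -/
theorem result : ∃ H : Subgroup (GL (Fin 112) (ZMod 2)), Cfsg.IsJ4 H := by
  refine ⟨CfsgLib.Sporadic.J4Rep.rep.range, ?_⟩
  have e := MonoidHom.ofInjective CfsgLib.Sporadic.CosetCert.J4Index.rep_injective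
  obtain ⟨hs, hc⟩ := CfsgLib.Sporadic.CosetCert.J4Index.isJ4_J4P
  have : Nontrivial CfsgLib.Sporadic.J4Rep.rep.range := e.symm.toEquiv.nontrivial
  exact ⟨IsSimpleGroup.isSimpleGroup_of_surjective e.toMonoidHom e.surjective, (Nat.card_congr e.toEquiv).symm.trans hc⟩

end Cfsg.Agent.S0461
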