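import Cfsg.Statements.S0473
import Cfsg.Agent.Lib.Sporadic.Fi24Model.Instance
import Cfsg.Agent.Lib.Sporadic.Fi24Model.Held.Main
-- import your own Cfsg.Agent.* helpers here

set_option autoImplicit false
open Cfsg CfsgLib.Sporadic.Fi24Model

namespace Cfsg.Agent.S0473

/-- The largest Fischer 3-transposition group: a group of order 2 · 1255205709190661721292800 generated by a conjugacy class of 306936 3-transpositions, in which a transposition centraliser has order 2 · 4089470473293004800 and contains a simple subgroup of order 4089470473293004800; its subgroup of index 2 is simple and contains simple subgroups of orders 4089470473293004800 and 4030387200. -/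
theorem result : ∃ (G : Type) (_ : Group G) (_ : Finite G), Nat.card G = 2 * 1255205709190661721292800 ∧ ∃ D : Set G, Cfsg.IsThreeTranspositionClass D ∧ Nat.card D = 306936 ∧ (∀ d ∈ D, Nat.card (Subgroup.centralizer ({d} : Set G)) = 2 * 4089470473293004800 ∧ ∃ K : Subgroup G, K ≤ Subgroup.centralizer ({d} : Set G) ∧ Cfsg.IsFi23 K) ∧ ∃ H : Subgroup G, H.index = 2 ∧ Cfsg.IsFi24' H ∧ (∃ K : Subgroup H, Cfsg.IsFi23 K) ∧ (∃ K : Subgroup H, Cfsg.IsHe K) := by
  haveI := finite
  have isFi23 : ∀ {H : Type} [Group H] (e : Cfsg.Spor.Fi23 ≃* H), Cfsg.IsFi23 H := fun {H} _ e =>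
    ⟨by haveI := CfsgLib.Sporadic.CosetCert.Fi23P.isSimple; exact e.symm.isSimpleGroup,
      by rw [← Nat.card_congr e.toEquiv, CfsgLib.Sporadic.CosetCert.Fi23P.card_eq.1]⟩
  let e₀ : Cfsg.Spor.Fi23 ≃* ↥embFi.range := MonoidHom.ofInjective embFi_injective
  refine ⟨Cfsg.Spor.Fi24, inferInstance, finite, card_Fi24, classL, isThreeTranspositionClass, ?_,
    fun d hd => ?_, commutator Cfsg.Spor.Fi24, index_commutator,
    ⟨isSimple_commutator, card_commutator⟩, ?_, ?_⟩
  · rw [Nat.card_coe_set_eq, card_classL]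
  · obtain ⟨g, rfl⟩ := isConj_iff.1 hd
    have hmap : (Subgroup.centralizer ({gen 0} : Set Cfsg.Spor.Fi24)).map (MulAut.conj g).toMonoidHom =
        Subgroup.centralizer ({g * gen 0 * g⁻¹} : Set Cfsg.Spor.Fi24) :=
      (CfsgLib.Sporadic.Fi23Ten.map_centralizer (MulAut.conj g) (gen 0)).trans rfl
    refine ⟨?_, embFi.range.map (MulAut.conj g).toMonoidHom, ?_,
      isFi23 (e₀.trans (Subgroup.equivMapOfInjective _ _ (MulAut.conj g).injective))⟩
    · rw [← hmap, Subgroup.card_map_of_injective (MulAut.conj g).injective, centralizer_l, card_H]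
    · rw [← hmap, centralizer_l]
      refine Subgroup.map_mono ?_
      rintro _ ⟨x, rfl⟩
      exact embFi_mem_H x
  · have hle : embFi.range ≤ commutator Cfsg.Spor.Fi24 := by
      rintro _ ⟨x, rfl⟩
      rw [commutator_eq_ker, MonoidHom.mem_ker]
      exact signHom_embFi x
    exact ⟨embFi.range.subgroupOf _, isFi23 (e₀.trans (Subgroup.subgroupOfEquivOfLe hle).symm)⟩
  · obtain ⟨H, ⟨e⟩⟩ := Held.exists_he_of_injective hom_injective
    haveI := CfsgLib.Sporadic.CosetCert.HeP.isSimple
    have hle : H ≤ commutator Cfsg.Spor.Fi24 := by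
      let χ : Cfsg.Spor.He →* ℤˣ := signHom.comp (H.subtype.comp e.symm.toMonoidHom)
      have hχ : χ.ker = ⊤ := by
        refine (MonoidHom.normal_ker χ).eq_bot_or_eq_top.resolve_left fun h => ?_
        have h1 := Nat.card_le_card_of_injective χ ((MonoidHom.ker_eq_bot_iff χ).1 h)
        rw [CfsgLib.Sporadic.CosetCert.HeP.card_eq.1, Nat.card_eq_fintype_card,
          Fintype.card_units_int] at h1
        omega
      intro x hx
      rw [commutator_eq_ker, MonoidHom.mem_ker]
      have h2 : χ (e ⟨x, hx⟩) = 1 := MonoidHom.mem_ker.1 (hχ ▸ Subgroup.mem_top _)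
      simpa [χ] using h2
    let e₁ : ↥(H.subgroupOf (commutator Cfsg.Spor.Fi24)) ≃* Cfsg.Spor.He :=
      (Subgroup.subgroupOfEquivOfLe hle).trans e
    exact ⟨H.subgroupOf _, e₁.isSimpleGroup,
      by rw [Nat.card_congr e₁.toEquiv, CfsgLib.Sporadic.CosetCert.HeP.card_eq.1]⟩

end Cfsg.Agent.S0473
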