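import Cfsg.Statements.S0481


set_option autoImplicit false
open Cfsg

namespace Cfsg.Agent.S0481

/-- Large extraspecial subgroups: let z be an involution of a finite group G whose centraliser C contains a normal 2-subgroup Q with centre of order 2 and all squares central, such that every element of G centralising Q lies in Q. Then C contains a Sylow 2-subgroup of G, and any involution of G whose centraliser contains a Sylow 2-subgroup of G is conjugate to z. -/
theorem result {G : Type*} [Group G] [Finite G] (z : G) (hz : orderOf z = 2) (Q : Subgroup G) (hQC : Q ≤ Subgroup.centralizer ({z} : Set G)) (hQn : ∀ g ∈ Subgroup.centralizer ({z} : Set G), ∀ q ∈ Q, g * q * g⁻¹ ∈ Q) (hQ2 : IsPGroup 2 Q) (hZ : Nat.card (Subgroup.center Q) = 2) (hsq : ∀ x : Q, x ^ 2 ∈ Subgroup.center Q) (hlarge : Subgroup.centralizer (Q : Set G) ≤ Q) : (∃ P : Sylow 2 G, (P : Subgroup G) ≤ Subgroup.centralizer ({z} : Set G)) ∧ ∀ u : G, orderOf u = 2 → (∃ P : Sylow 2 G, (P : Subgroup G) ≤ Subgroup.centralizer ({u} : Set G)) → IsConj z u := by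
  have hzc : z ∈ Subgroup.centralizer (Q : Set G) := by
    rw [Subgroup.mem_centralizer_iff]
    exact fun q hq => (Subgroup.mem_centralizer_singleton_iff.mp (hQC hq))
  have hzQ := hlarge hzc
  have hcent : ∀ w : G, w ∈ Subgroup.centralizer (Q : Set G) → w = 1 ∨ w = z := by
    intro w hw
    have hwQ := hlarge hw
    have mk : ∀ v : G, ∀ hv : v ∈ Q, v ∈ Subgroup.centralizer (Q : Set G) →
        (⟨v, hv⟩ : Q) ∈ Subgroup.center Q := fun v hv hvc => by
      rw [Subgroup.mem_center_iff]
      exact fun q => Subtype.ext (Subgroup.mem_centralizer_iff.mp hvc q q.2)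
    obtain ⟨u, hu, huniq⟩ := (Nat.card_eq_two_iff' (1 : Subgroup.center Q)).mp hZ
    by_cases hw1 : w = 1
    · exact Or.inl hw1
    right
    have a := huniq ⟨_, mk w hwQ hw⟩ (fun e => hw1 (congrArg (fun v : Subgroup.center Q => ((v : Q) : G)) e))
    have b := huniq ⟨_, mk z hzQ hzc⟩ (fun e => by
      rw [show z = 1 from congrArg (fun v : Subgroup.center Q => ((v : Q) : G)) e] at hz
      simp at hz)
    exact congrArg (fun v : Subgroup.center Q => ((v : Q) : G)) (a.trans b.symm)
  obtain ⟨T, hT⟩ := hQ2.exists_le_sylow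
  refine ⟨⟨T, ?_⟩, fun u hu ⟨P, hP⟩ => ?_⟩
  · -- the centre of `T` is generated by `z`
    have hne : (T : Subgroup G) ≠ ⊥ := fun e => by
      have := hT hzQ
      rw [e, Subgroup.mem_bot] at this
      rw [this] at hz
      simp at hz
    have : Nontrivial (T : Subgroup G) := (Subgroup.nontrivial_iff_ne_bot _).mpr hne
    have : Nontrivial (Subgroup.center (T : Subgroup G)) := T.isPGroup'.center_nontrivial
    obtain ⟨w, hw⟩ := exists_ne (1 : Subgroup.center (T : Subgroup G))
    have hwT : ∀ x ∈ (T : Subgroup G), x * ((w : (T : Subgroup G)) : G) = ((w : (T : Subgroup G)) : G) * x :=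
      fun x hx => congrArg Subtype.val (Subgroup.mem_center_iff.mp w.2 ⟨x, hx⟩)
    rcases hcent _ (Subgroup.mem_centralizer_iff.mpr fun q hq => hwT q (hT hq)) with h | h
    · exact absurd (Subtype.ext (Subtype.ext h)) hw
    · intro x hx
      rw [Subgroup.mem_centralizer_singleton_iff]
      have := hwT x hx
      rw [h] at this
      exact this
  · obtain ⟨g, hg⟩ := MulAction.exists_smul_eq G P T
    refine (isConj_iff.mpr ⟨g, ?_⟩).symm
    have hc : g * u * g⁻¹ ∈ Subgroup.centralizer (Q : Set G) := by
      rw [Subgroup.mem_centralizer_iff]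
      intro q hq
      have hqT := hT hq
      rw [← hg, Sylow.coe_subgroup_smul, Subgroup.mem_pointwise_smul_iff_inv_smul_mem, ← map_inv,
        MulAut.smul_def, MulAut.conj_apply, inv_inv] at hqT
      have := Subgroup.mem_centralizer_singleton_iff.mp (hP hqT)
      calc q * (g * u * g⁻¹) = g * ((g⁻¹ * q * g) * u) * g⁻¹ := by group
        _ = g * (u * (g⁻¹ * q * g)) * g⁻¹ := by rw [this]
        _ = g * u * g⁻¹ * q := by group
    rcases hcent _ hc with h | h
    · exfalso
      rw [conj_eq_one_iff] at h
      rw [h] at hu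
      simp at hu
    · exact h

end Cfsg.Agent.S0481
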