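import Cfsg.Statements.S0504
import Cfsg.Agent.Lib.FTApps.CoreClosureEmbedded
-- import your own Cfsg.Agent.* helpers here

set_option autoImplicit false
open Cfsg

namespace Cfsg.Agent.S0504

/-- Let G be a finite group containing an elementary abelian subgroup of order 8, with no nontrivial normal subgroup of
odd order, not of component type, and with a Sylow 2-subgroup whose commuting graph of Klein four-subgroups is
connected. Then every 2-local subgroup H of G satisfies C_H(O₂(H)) ≤ O₂(H). -/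
theorem result {G : Type*} [Group G] [Finite G]
    (h3 : ¬ Cfsg.PRankLE 2 2 G) (hO : Cfsg.oddCore G = ⊥) (hc : ¬ Cfsg.IsComponentType G) (S : Sylow 2 G)
    (hS : Cfsg.IsFourConnected (S : Subgroup G)) : Cfsg.IsCharacteristicTwoType G := by
  classical
  haveI : Fact (Nat.Prime 2) := ⟨Nat.prime_two⟩
  have hL : ∀ t : G, orderOf t = 2 →
      Cfsg.pLayer 2 ↥(Subgroup.centralizer ({t} : Set G)) = ⊥ := fun t ht =>
    CfsgLib.Components.pLayer_eq_bot_iff.2 (CfsgLib.Components.layer_eq_bot_iff.2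
      fun L hLc => hc ⟨t, ht, L, hLc⟩)
  simp only [Cfsg.PRankLE, not_forall, not_le] at h3
  obtain ⟨C, hCc, hC2, hC8⟩ := h3
  have hC : Cfsg.IsElementaryAbelian 2 C := ⟨hCc, hC2⟩
  obtain ⟨n, hn⟩ := (CfsgLib.Components.Signalizer.isPGroup_of_elementary hC).exists_card_eq
  have hn3 : 3 ≤ n := (Nat.pow_lt_pow_iff_right (le_refl 2)).1 (hn ▸ hC8)
  obtain ⟨g, hg⟩ := CfsgLib.Involution.Basic.exists_conj_le S
    (CfsgLib.Components.Signalizer.isPGroup_of_elementary hC)
  have hE : Cfsg.IsElementaryAbelian 2 (C.map (MulAut.conj g).toMonoidHom) := by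
    refine ⟨⟨⟨?_⟩⟩, ?_⟩
    · rintro ⟨_, a, ha, rfl⟩ ⟨_, b, hb, rfl⟩
      refine Subtype.ext ?_
      simp only [Subgroup.coe_mul]
      rw [← map_mul, ← map_mul]
      exact congrArg _ (CfsgLib.Components.Signalizer.commute_of_mem hC ha hb)
    · rintro _ ⟨a, ha, rfl⟩
      rw [← map_pow, hC2 a ha, map_one]
  have hE8 : 2 ^ 3 ≤ Nat.card (C.map (MulAut.conj g).toMonoidHom) := by
    rw [Subgroup.card_map_of_injective (MulAut.conj g).injective, hn]
    exact Nat.pow_le_pow_right two_pos hn3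
  have hES : C.map (MulAut.conj g).toMonoidHom ≤ (S : Subgroup G) := by
    rintro _ ⟨x, hx, rfl⟩
    exact hg x hx
  refine CfsgLib.FTApps.CoreClosure.characteristicTwoType ?_ hL fun t ht =>
    CfsgLib.FTApps.CoreClosure.core_eq_bot hO hL S hES hE hE8 hS ht
  exact even_iff_two_dvd.2 ((hn ▸ dvd_pow_self 2 (by omega : n ≠ 0)).trans
    C.card_subgroup_dvd_card)

end Cfsg.Agent.S0504
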