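import Cfsg.Statements.S0505
import Cfsg.Agent.Lib.KGroups.CharP

set_option autoImplicit false
open Cfsg

namespace Cfsg.Agent.S0505

/-- Let G be a finite group of even order in which the centralizer of every involution is solvable and has trivial
core (no nontrivial normal subgroup of odd order). Then G is of characteristic 2 type. -/
theorem result {G : Type*} [Group G] [Finite G]
    (h2 : Even (Nat.card G))
    (hs : ∀ t : G, orderOf t = 2 → Group.IsSolvable (Subgroup.centralizer ({t} : Set G)))
    (hc : ∀ t : G, orderOf t = 2 → Cfsg.oddCore (Subgroup.centralizer ({t} : Set G)) = ⊥) :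
    Cfsg.IsCharacteristicTwoType G := by
  refine ⟨h2, fun T hT hne => ?_⟩
  haveI : Fact (Nat.Prime 2) := ⟨Nat.prime_two⟩
  haveI : Nontrivial T := (Subgroup.nontrivial_iff_ne_bot _).mpr hne
  obtain ⟨n, hn, hcard⟩ := hT.nontrivial_iff_card.mp inferInstance
  obtain ⟨z, hz⟩ := exists_prime_orderOf_dvd_card' (G := T) 2 (hcard ▸ dvd_pow_self 2 hn.ne')
  have hz' : orderOf (z : G) = 2 := by rwa [Subgroup.orderOf_coe]
  refine CfsgLib.KGroups.CharP.centralizer_pCore_normalizer_le hT z.2 ?_
  haveI := hs _ hz'
  have h := CfsgLib.Solvable.Cores.centralizer_fittingSubgroup_le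
    (G := ↥(Subgroup.centralizer ({(z : G)} : Set G)))
  rwa [CfsgLib.Solvable.Cores.fittingSubgroup_eq_pCore 2 (hc _ hz')] at h

end Cfsg.Agent.S0505
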