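import Cfsg.Statements.S0519
import Cfsg.Agent.Lib.TwoGroups.Classify
import Cfsg.Agent.Lib.Fusion.NormalRankTwo
-- import your own Cfsg.Agent.* helpers here

set_option autoImplicit false
open Cfsg

namespace Cfsg.Agent.S0519

open CfsgLib.TwoGroups.CyclicMax CfsgLib.TwoGroups.Classify

/-- A normal four-group is excluded. -/
theorem false_of_four {P : Type*} [Group P] [Finite P] (hn : ∀ A : Subgroup P, A.Normal → IsMulCommutative A → IsCyclic A)
    {u w : P} (hu : u ^ 2 = 1) (hw : w ^ 2 = 1) (hu1 : u ≠ 1) (hw1 : w ≠ 1) (huw : u ≠ w) (hc : Commute w u)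
    (hgw : ∀ g : P, g * w * g⁻¹ = w) (hgu : ∀ g : P, g * u * g⁻¹ = u ∨ g * u * g⁻¹ = w * u) : False := by
  set E := Subgroup.closure ({w, u} : Set P) with hE
  have hwE : w ∈ E := Subgroup.subset_closure (Or.inl rfl)
  have huE : u ∈ E := Subgroup.subset_closure (Or.inr rfl)
  have hnorm : E.Normal := ⟨fun x hx g => by
    have hle : E ≤ E.comap (MulAut.conj g).toMonoidHom := (Subgroup.closure_le _).mpr (by
      rintro y (rfl | rfl)
      · show g * y * g⁻¹ ∈ E
        rw [hgw g]; exact hwE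
      · show g * y * g⁻¹ ∈ E
        rcases hgu g with h | h
        · rw [h]; exact huE
        · rw [h]; exact mul_mem hwE huE)
    exact hle hx⟩
  have hab : IsMulCommutative E := Subgroup.isMulCommutative_closure (by
    rintro x (rfl | rfl) y (rfl | rfl)
    · rfl
    · exact hc.eq
    · exact hc.eq.symm
    · rfl)
  haveI := hn E hnorm hab
  classical
  haveI := Fintype.ofFinite E
  have h1 := IsCyclic.card_pow_eq_one_le (α := E) (n := 2) two_pos
  have h2 : ({1, ⟨w, hwE⟩, ⟨u, huE⟩} : Finset E) ⊆ Finset.univ.filter (fun a : E => a ^ 2 = 1) := by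
    intro a ha
    simp only [Finset.mem_insert, Finset.mem_singleton] at ha
    refine Finset.mem_filter.mpr ⟨Finset.mem_univ _, ?_⟩
    rcases ha with rfl | rfl | rfl
    · exact one_pow 2
    · exact Subtype.ext hw
    · exact Subtype.ext hu
  have h3 := (Finset.card_le_card h2).trans h1
  rw [Finset.card_insert_of_notMem (by
      simp only [Finset.mem_insert, Finset.mem_singleton, not_or]
      exact ⟨fun e => hw1 (congrArg Subtype.val e).symm, fun e => hu1 (congrArg Subtype.val e).symm⟩),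
    Finset.card_insert_of_notMem (by
      simp only [Finset.mem_singleton]
      exact fun e => huw (congrArg Subtype.val e).symm), Finset.card_singleton] at h3
  omega

/-- Let P be a finite p-group in which every abelian normal subgroup is cyclic, but which has a non-cyclic abelian
subgroup. Then p = 2 and P is generalized quaternion, dihedral of order at least 16, or quasi-dihedral. -/
theorem result {P : Type*} [Group P] [Finite P] (p : ℕ) [Fact p.Prime]
    (hP : IsPGroup p P) (hn : ∀ A : Subgroup P, A.Normal → IsMulCommutative A → IsCyclic A)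
    (hm : ∃ B : Subgroup P, IsMulCommutative B ∧ ¬ IsCyclic B) :
    p = 2 ∧ ((∃ n : ℕ, Nonempty (P ≃* QuaternionGroup n)) ∨ (∃ n : ℕ, 8 ≤ n ∧ Nonempty (P ≃* DihedralGroup n)) ∨
      Cfsg.IsQuasiDihedral P) := by
  classical
  -- the prime is two
  have hp2 : p = 2 := by
    by_contra hp2
    obtain ⟨B, hB, hBc⟩ := hm
    have htop : ¬ IsCyclic (⊤ : Subgroup P) := by
      intro hc
      haveI : IsCyclic P := isCyclic_of_surjective Subgroup.topEquiv Subgroup.topEquiv.surjective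
      exact hBc inferInstance
    obtain ⟨E, -, hEn, hE, hEc⟩ := CfsgLib.Fusion.NormalRankTwo.exists_normal_rankTwo hP hp2 htop
    haveI := hn E hEn hE.1
    obtain ⟨g, hg⟩ := IsCyclic.exists_generator (α := E)
    have hord : orderOf g = Nat.card E := orderOf_eq_card_of_forall_mem_zpowers hg
    have hdvd : orderOf g ∣ p := orderOf_dvd_of_pow_eq_one (Subtype.ext (hE.2 _ g.2))
    rw [hord, hEc] at hdvd
    have h1 := Nat.le_of_dvd (Fact.out : p.Prime).pos hdvd
    have h2 := (Fact.out : p.Prime).two_le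
    nlinarith
  subst hp2
  refine ⟨rfl, ?_⟩
  -- a maximal abelian normal subgroup
  obtain ⟨A, ⟨hAn, hAab⟩, hmax⟩ := Set.Finite.exists_maximal
    (Set.toFinite {A : Subgroup P | A.Normal ∧ IsMulCommutative A}) ⟨⊥, inferInstance, inferInstance⟩
  haveI := hAn
  haveI := hAab
  have hAcyc := hn A hAn hAab
  obtain ⟨a, hza⟩ : ∃ a : P, Subgroup.zpowers a = A := by
    obtain ⟨c, hc⟩ := hAcyc.exists_generator
    refine ⟨c, le_antisymm (Subgroup.zpowers_le.mpr c.2) fun g hg => ?_⟩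
    obtain ⟨i, hi⟩ := Subgroup.mem_zpowers_iff.mp (hc ⟨g, hg⟩)
    exact Subgroup.mem_zpowers_iff.mpr ⟨i, by simpa using congrArg Subtype.val hi⟩
  have haA : a ∈ A := hza ▸ Subgroup.mem_zpowers a
  have hCA : ∀ g : P, g * a * g⁻¹ = a → g ∈ A := by
    intro g hg
    by_contra hgA
    set C := Subgroup.centralizer (A : Set P) with hC
    have hgC : g ∈ C := by
      rw [hC, ← hza]
      refine Subgroup.mem_centralizer_iff.mpr ?_
      rintro _ ⟨i, rfl⟩
      exact ((show Commute g a from mul_inv_eq_iff_eq_mul.mp hg).zpow_right i).eq.symm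
    haveI : C.Normal := inferInstance
    obtain ⟨x, hxC, hxA, -, hxc⟩ :=
      CfsgLib.Fusion.NormalRankTwo.exists_central_of_lt (p := 2) hP (M := A) (N := C) (fun h => hgA (h hgC))
    have hTn := CfsgLib.Fusion.NormalRankTwo.sup_zpowers_normal hxc
    have hTab : IsMulCommutative (A ⊔ Subgroup.zpowers x : Subgroup P) := by
      rw [← Subgroup.closure_eq A, Subgroup.zpowers_eq_closure, ← Subgroup.closure_union]
      refine Subgroup.isMulCommutative_closure ?_
      rintro u (hu | rfl) v (hv | rfl)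
      · exact setLike_mul_comm hu hv
      · exact Subgroup.mem_centralizer_iff.mp hxC u hu
      · exact (Subgroup.mem_centralizer_iff.mp hxC v hv).symm
      · rfl
    exact hxA (hmax (y := A ⊔ Subgroup.zpowers x) ⟨hTn, hTab⟩ le_sup_left
      (Subgroup.mem_sup_right (Subgroup.mem_zpowers x)))
  obtain ⟨k, hk⟩ := IsPGroup.iff_orderOf.mp hP a
  have hk2 : 2 ≤ k := by
    by_contra hlt
    have hall : ∀ g : P, g * a * g⁻¹ = a := by
      intro g
      obtain ⟨i, hi⟩ : ∃ i : ℤ, a ^ i = g * a * g⁻¹ := by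
        have := hAn.conj_mem a haA g; rwa [← hza, Subgroup.mem_zpowers_iff] at this
      rcases (show k = 0 ∨ k = 1 by omega) with rfl | rfl
      · rw [pow_zero, orderOf_eq_one_iff] at hk; simp [hk]
      · rw [pow_one] at hk
        rcases Int.even_or_odd' i with ⟨t, rfl | rfl⟩
        · rw [zpow_mul, zpow_two, ← sq, ← hk, pow_orderOf_eq_one, one_zpow, eq_comm, mul_inv_eq_one,
            mul_eq_left] at hi
          rw [hi, orderOf_one] at hk; omega
        · rw [zpow_add, zpow_mul, zpow_two, ← sq, ← hk, pow_orderOf_eq_one, one_zpow, one_mul, zpow_one] at hi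
          exact hi.symm
    obtain ⟨B, -, hBc⟩ := hm
    apply hBc
    haveI : IsCyclic P := by
      refine ⟨⟨a, fun g => ?_⟩⟩
      show g ∈ Subgroup.zpowers a
      rw [hza]
      exact hCA g (hall g)
    infer_instance
  -- exponents
  have hexp : ∀ g : P, ∃ r : ℤ, g * a * g⁻¹ = a ^ r := fun g => by
    have h := hAn.conj_mem a haA g
    rw [← hza] at h
    obtain ⟨r, hr⟩ := Subgroup.mem_zpowers_iff.mp h
    exact ⟨r, hr.symm⟩
  have hcommA : ∀ g x : P, (g * x * g⁻¹ * x⁻¹) ∈ A := by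
    intro g x
    obtain ⟨r, hr⟩ := hexp g
    obtain ⟨q, hq⟩ := hexp x
    refine hCA _ ?_
    have h1 : g * x * a * (g * x)⁻¹ = a ^ (r * q) := by
      rw [show g * x * a * (g * x)⁻¹ = g * (x * a * x⁻¹) * g⁻¹ by group, hq, ← conj_zpow, hr, ← zpow_mul]
    have h2 : x * g * a * (x * g)⁻¹ = a ^ (q * r) := by
      rw [show x * g * a * (x * g)⁻¹ = x * (g * a * g⁻¹) * x⁻¹ by group, hr, ← conj_zpow, hq, ← zpow_mul]
    have h3 : g * x * a * (g * x)⁻¹ = x * g * a * (x * g)⁻¹ := by rw [h1, h2, mul_comm]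
    calc g * x * g⁻¹ * x⁻¹ * a * (g * x * g⁻¹ * x⁻¹)⁻¹
        = (g * x) * ((x * g)⁻¹ * a * (x * g)) * (g * x)⁻¹ := by group
      _ = a := by
          obtain ⟨t, ht⟩ := hexp (x * g)⁻¹
          rw [inv_inv] at ht
          rw [ht, ← conj_zpow, h3, conj_zpow, ← ht]
          group
  set w := a ^ (2 ^ (k - 1)) with hw
  have h2k : (2:ℕ) ^ k = 2 ^ (k - 1) * 2 := by rw [← pow_succ]; congr 1; omega
  have hw2 : w ^ 2 = 1 := by rw [hw, ← pow_mul, ← h2k, ← hk, pow_orderOf_eq_one]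
  have hw1 : w ≠ 1 := by
    intro h
    have := Nat.le_of_dvd (by positivity) (orderOf_dvd_of_pow_eq_one h)
    rw [hk, h2k] at this
    have := Nat.one_le_two_pow (n := k - 1)
    omega
  have hhalf : ∀ j : ℤ, (a ^ j) ^ 2 = 1 → a ^ j = 1 ∨ a ^ j = w := by
    intro j hj
    rw [← zpow_natCast (a ^ j), ← zpow_mul, ← orderOf_dvd_iff_zpow_eq_one, hk, h2k] at hj
    push_cast at hj
    obtain ⟨t, ht⟩ := Int.dvd_of_mul_dvd_mul_right two_ne_zero hj
    subst ht
    rcases Int.even_or_odd' t with ⟨i, rfl | rfl⟩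
    · left
      rw [← orderOf_dvd_iff_zpow_eq_one, hk, h2k]
      exact ⟨i, by push_cast; ring⟩
    · right
      rw [mul_add, zpow_add, mul_one, show (a ^ ((2:ℤ) ^ (k - 1) * (2 * i)) : P) = 1 by
        rw [← orderOf_dvd_iff_zpow_eq_one, hk, h2k]; exact ⟨i, by push_cast; ring⟩, one_mul, hw]
      rw [← zpow_natCast]; push_cast; rfl
  have hgw : ∀ g : P, g * w * g⁻¹ = w := by
    intro g
    have hmem : g * w * g⁻¹ ∈ Subgroup.zpowers a := hza ▸ hAn.conj_mem w (pow_mem haA _) g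
    obtain ⟨j, hj⟩ := Subgroup.mem_zpowers_iff.mp hmem
    rcases hhalf j (by rw [hj, conj_pow, hw2, mul_one, mul_inv_cancel]) with h | h
    · rw [hj, mul_inv_eq_one, mul_eq_left] at h; exact absurd h hw1
    · rw [← hj, h]
  -- the modular type is excluded
  have hmod : 3 ≤ k → ∀ y : P, y * y ∈ A → y * a * y⁻¹ ≠ a ^ (1 + 2 ^ (k - 1)) := by
    intro hk3 y hy2 hy
    have hyA : y ∉ A := by
      intro h
      have hc : y * a * y⁻¹ = a := by
        rw [show y * a = a * y from setLike_mul_comm h haA, mul_inv_cancel_right]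
      rw [hc, pow_add, pow_one, left_eq_mul] at hy
      exact hw1 hy
    obtain ⟨s, hs⟩ : ∃ s : ℤ, a ^ s = y * y := Subgroup.mem_zpowers_iff.mp (hza ▸ hy2)
    have hpush : ∀ i : ℤ, y * a ^ i * y⁻¹ = a ^ ((1 + 2 ^ (k - 1)) * i : ℤ) := fun i => by
      rw [← conj_zpow, hy, ← zpow_natCast, ← zpow_mul]; push_cast; rfl
    have hseven : ∃ s', s = 2 * s' := by
      have h := hpush s
      rw [hs, show y * (y * y) * y⁻¹ = y * y by group, ← hs] at h
      have h2 : a ^ ((1 + 2 ^ (k - 1)) * s - s : ℤ) = 1 := by rw [zpow_sub, ← h, mul_inv_cancel]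
      rw [← orderOf_dvd_iff_zpow_eq_one, hk, h2k, show ((1 + 2 ^ (k - 1)) * s - s : ℤ) = 2 ^ (k - 1) * s by ring] at h2
      push_cast at h2
      exact Int.dvd_of_mul_dvd_mul_left (by positivity) h2
    obtain ⟨s', rfl⟩ := hseven
    obtain ⟨m, hm⟩ : ∃ m, k - 1 = m + 1 := ⟨k - 2, by omega⟩
    have hsq : ∀ i : ℤ, (a ^ i * y) ^ 2 = a ^ (2 * ((1 + 2 ^ m) * i + s')) := fun i => by
      rw [sq, show a ^ i * y * (a ^ i * y) = a ^ i * (y * a ^ i * y⁻¹) * (y * y) by group, hpush, ← hs, ← zpow_add,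
        ← zpow_add, hm]
      congr 1; ring
    have hcop : IsCoprime ((1 + 2 ^ m : ℤ)) ((2 : ℤ) ^ (k - 1)) := by
      refine IsCoprime.pow_right (Int.isCoprime_iff_gcd_eq_one.mpr ?_)
      have : (1 + 2 ^ m : ℤ) = 1 + 2 * 2 ^ (m - 1) := by rw [← pow_succ']; congr 2; omega
      rw [this, Int.gcd_comm]
      exact (Int.prime_two.coprime_iff_not_dvd.mpr (by omega) |> Int.isCoprime_iff_gcd_eq_one.mp)
    obtain ⟨c, d, hcd⟩ := hcop
    set u := a ^ (-(c * s')) * y with hu
    have hu2 : u ^ 2 = 1 := by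
      rw [hu, hsq, ← orderOf_dvd_iff_zpow_eq_one, hk, h2k]
      push_cast
      exact ⟨d * s', by linear_combination (-(2 : ℤ) * s') * hcd⟩
    have huA : u ∉ A := fun h => hyA (by
      have := mul_mem (inv_mem (show a ^ (-(c * s')) ∈ A from hza ▸ Subgroup.zpow_mem _ (Subgroup.mem_zpowers a) _)) h
      rwa [hu, inv_mul_cancel_left] at this)
    refine false_of_four hn hu2 hw2 (fun h => huA (h ▸ one_mem A)) hw1 (fun h => huA (h ▸ pow_mem haA _))
      (mul_inv_eq_iff_eq_mul.mp (hgw u)).symm hgw fun g => ?_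
    obtain ⟨j, hj⟩ : ∃ j : ℤ, a ^ j = g * u * g⁻¹ * u⁻¹ := Subgroup.mem_zpowers_iff.mp (hza ▸ hcommA g u)
    have hconj : g * u * g⁻¹ = a ^ j * u := by rw [hj]; group
    have h1 : (a ^ (j + -(c * s')) * y) ^ 2 = 1 := by
      rw [zpow_add, mul_assoc, ← hu, ← hconj, conj_pow, hu2, mul_one, mul_inv_cancel]
    rw [hsq, ← orderOf_dvd_iff_zpow_eq_one, hk] at h1
    have h0 : ((2 ^ k : ℕ) : ℤ) ∣ 2 * ((1 + 2 ^ m) * -(c * s') + s') := by
      rw [← hk, orderOf_dvd_iff_zpow_eq_one, ← hsq]; exact hu2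
    have h4 : (2:ℤ) ^ (k - 1) ∣ (1 + 2 ^ m) * j := by
      have h5 := dvd_sub h1 h0
      rw [h2k] at h5
      push_cast at h5
      exact Int.dvd_of_mul_dvd_mul_right two_ne_zero (h5.trans (by rw [show ((2:ℤ) * ((1 + 2 ^ m) * (j + -(c * s')) + s') -
        2 * ((1 + 2 ^ m) * -(c * s') + s')) = (1 + 2 ^ m) * j * 2 by ring]))
    have h5 : (2:ℤ) ^ (k - 1) ∣ j :=
      (IsCoprime.dvd_of_dvd_mul_left (⟨d, c, by linear_combination hcd⟩ : IsCoprime ((2:ℤ) ^ (k - 1)) (1 + 2 ^ m)) h4)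
    rcases hhalf j (by
      obtain ⟨t, rfl⟩ := h5
      rw [← zpow_natCast (a ^ _), ← zpow_mul, ← orderOf_dvd_iff_zpow_eq_one, hk, h2k]
      exact ⟨t, by push_cast; ring⟩) with h | h
    · left; rw [hconj, h, one_mul]
    · right; rw [hconj, h]
  -- the possible exponents
  have hcases : ∀ y : P, y * y ∈ A → y * a * y⁻¹ = a ∨ y * a * y⁻¹ = a⁻¹ ∨
      (3 ≤ k ∧ y * a * y⁻¹ = a ^ (2 ^ (k - 1) - 1)) := by
    intro y hy2
    obtain ⟨r, hr⟩ := hexp y
    have hd : (2:ℤ) ^ k ∣ (r - 1) * (r + 1) := by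
      have : a ^ ((r - 1) * (r + 1)) = 1 := by
        rw [show (r - 1) * (r + 1) = r * r + -1 by ring, zpow_add, zpow_neg_one, mul_inv_eq_one, zpow_mul, ← hr,
          conj_zpow, ← hr, show y * (y * a * y⁻¹) * y⁻¹ = (y * y) * a * (y * y)⁻¹ by group,
          show y * y * a = a * (y * y) from setLike_mul_comm hy2 haA,
          mul_inv_cancel_right]
      have h := orderOf_dvd_iff_zpow_eq_one.mpr this
      rw [hk] at h; exact_mod_cast h
    rcases sq_one_exponent hk2 hd with h | h | h | h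
    · left; rw [hr]; conv_rhs => rw [← zpow_one a]
      rw [zpow_eq_iff hk, h, Int.cast_one]
    · right; left; rw [hr, ← zpow_neg_one, zpow_eq_iff hk, h]; simp
    · have he : y * a * y⁻¹ = a ^ (1 + 2 ^ (k - 1)) := by
        rw [hr, ← zpow_natCast, zpow_eq_iff hk, h]; push_cast; rfl
      rcases (show k = 2 ∨ 3 ≤ k by omega) with rfl | hk3
      · right; left
        rw [he, eq_inv_iff_mul_eq_one, ← pow_succ]
        show a ^ 4 = 1
        rw [show (4:ℕ) = 2 ^ 2 by norm_num, ← hk, pow_orderOf_eq_one]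
      · exact absurd he (hmod hk3 y hy2)
    · have he : y * a * y⁻¹ = a ^ (2 ^ (k - 1) - 1) := by
        rw [hr, ← zpow_natCast, zpow_eq_iff hk, h, Int.cast_natCast, Nat.cast_sub Nat.one_le_two_pow]
        push_cast; rfl
      rcases (show k = 2 ∨ 3 ≤ k by omega) with rfl | hk3
      · left; simpa using he
      · exact Or.inr (Or.inr ⟨hk3, he⟩)
  -- every square lies in A
  have hsqA : ∀ y : P, y * y ∈ A := by
    intro y
    by_contra hy
    obtain ⟨n, hn'⟩ := hP y
    have hex : ∃ i, y ^ 2 ^ i ∈ A := ⟨n, hn'.symm ▸ one_mem A⟩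
    obtain ⟨j, hj, hjmin⟩ : ∃ j, y ^ 2 ^ j ∈ A ∧ ∀ i < j, y ^ 2 ^ i ∉ A :=
      ⟨Nat.find hex, Nat.find_spec hex, fun i hi => Nat.find_min hex hi⟩
    have hj2 : 2 ≤ j := by
      by_contra h
      rcases (show j = 0 ∨ j = 1 by omega) with rfl | rfl
      · exact hy (by rw [pow_zero, pow_one] at hj; exact mul_mem hj hj)
      · exact hy (by rwa [pow_one, pow_two] at hj)
    set z := y ^ 2 ^ (j - 2) with hz
    have hz2 : z * z = y ^ 2 ^ (j - 1) := by
      rw [hz, ← pow_add, ← two_mul, ← pow_succ']; congr 2; omega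
    have hz4 : (z * z) * (z * z) ∈ A := by
      rw [hz2, ← pow_add, ← two_mul, ← pow_succ', show j - 1 + 1 = j by omega]; exact hj
    have hzA : z * z ∉ A := hz2 ▸ hjmin _ (by omega)
    obtain ⟨r, hr⟩ := hexp z
    have hrr : z * z * a * (z * z)⁻¹ = a ^ (r * r) := by
      rw [show z * z * a * (z * z)⁻¹ = z * (z * a * z⁻¹) * z⁻¹ by group, hr, ← conj_zpow, hr, ← zpow_mul]
    rcases hcases _ hz4 with h | h | ⟨hk3, h⟩
    · exact hzA (hCA _ h)
    · rw [hrr, ← zpow_neg_one, zpow_eq_iff hk] at h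
      have h4 := congrArg (ZMod.castHom (show (4:ℕ) ∣ 2 ^ k from pow_dvd_pow 2 hk2) (ZMod 4)) h
      simp only [Int.cast_mul, Int.cast_neg, Int.cast_one, map_mul, map_neg, map_one, map_intCast] at h4
      revert h4
      generalize (r : ZMod 4) = x
      revert x; decide
    · rw [hrr, ← zpow_natCast a, zpow_eq_iff hk] at h
      have h4 := congrArg (ZMod.castHom (show (4:ℕ) ∣ 2 ^ k from pow_dvd_pow 2 hk2) (ZMod 4)) h
      simp only [Int.cast_mul, Int.cast_natCast, map_mul, map_intCast, map_natCast] at h4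
      have e4 : ((2 ^ (k - 1) - 1 : ℕ) : ZMod 4) = -1 := by
        rw [Nat.cast_sub Nat.one_le_two_pow, show k - 1 = 2 + (k - 3) by omega, pow_add, Nat.cast_mul,
          show (((2:ℕ) ^ 2 : ℕ) : ZMod 4) = 0 by decide, zero_mul, zero_sub, Nat.cast_one]
      rw [e4] at h4
      revert h4
      generalize (r : ZMod 4) = x
      revert x; decide
  -- index two
  obtain ⟨b, hb⟩ : ∃ b : P, b ∉ A := by
    by_contra hall
    push Not at hall
    obtain ⟨B, -, hBc⟩ := hm
    apply hBc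
    haveI : IsCyclic P := ⟨⟨a, fun g => show g ∈ Subgroup.zpowers a from hza ▸ hall g⟩⟩
    infer_instance
  have hidx : A.index = 2 := by
    refine Subgroup.index_eq_two_iff.mpr ⟨b, fun g => ?_⟩
    by_cases hg : g ∈ A
    · exact Or.inr ⟨hg, fun h => hb (by simpa using mul_mem (inv_mem hg) h)⟩
    refine Or.inl ⟨?_, hg⟩
    refine hCA _ ?_
    have hgb : ∀ e, g * a * g⁻¹ = a ^ (e : ℤ) → b * a * b⁻¹ = a ^ (e : ℤ) → g * b * a * (g * b)⁻¹ = a ^ (e * e : ℤ) :=
      fun e h1 h2 => by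
        rw [show g * b * a * (g * b)⁻¹ = g * (b * a * b⁻¹) * g⁻¹ by group, h2, ← conj_zpow, h1, ← zpow_mul]
    rcases hcases g (hsqA g) with h1 | h1 | ⟨hk3, h1⟩
    · exact absurd (hCA g h1) hg
    · rcases hcases b (hsqA b) with h2 | h2 | ⟨hk3, h2⟩
      · exact absurd (hCA b h2) hb
      · rw [hgb (-1) (by rw [h1, zpow_neg_one]) (by rw [h2, zpow_neg_one])]; norm_num
      · exfalso
        refine hmod hk3 (g * b) (hsqA _) ?_
        rw [show g * b * a * (g * b)⁻¹ = g * (b * a * b⁻¹) * g⁻¹ by group, h2, ← conj_pow, h1, inv_pow,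
          inv_eq_iff_mul_eq_one, ← pow_add]
        have := Nat.one_le_two_pow (n := k - 1)
        rw [show 2 ^ (k - 1) - 1 + (1 + 2 ^ (k - 1)) = orderOf a by rw [hk, h2k]; omega, pow_orderOf_eq_one]
    · rcases hcases b (hsqA b) with h2 | h2 | ⟨-, h2⟩
      · exact absurd (hCA b h2) hb
      · exfalso
        refine hmod hk3 (g * b) (hsqA _) ?_
        rw [show g * b * a * (g * b)⁻¹ = g * (b * a * b⁻¹) * g⁻¹ by group, h2,
          show g * a⁻¹ * g⁻¹ = (g * a * g⁻¹)⁻¹ by group, h1, inv_eq_iff_mul_eq_one, ← pow_add]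
        have := Nat.one_le_two_pow (n := k - 1)
        rw [show 2 ^ (k - 1) - 1 + (1 + 2 ^ (k - 1)) = orderOf a by rw [hk, h2k]; omega, pow_orderOf_eq_one]
      · rw [hgb _ (h1.trans (zpow_natCast a _).symm) (h2.trans (zpow_natCast a _).symm)]
        conv_rhs => rw [← zpow_one a]
        rw [zpow_eq_iff hk]
        push_cast [Nat.cast_sub Nat.one_le_two_pow]
        have e2 : ((2 : ZMod (2 ^ k)) ^ (k - 1)) * 2 = 0 := by
          have := ZMod.natCast_self (2 ^ k)
          rw [h2k] at this ⊢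
          exact_mod_cast this
        obtain ⟨m, hm⟩ : ∃ m, k - 1 = m + 1 := ⟨k - 2, by omega⟩
        rw [hm] at e2 ⊢
        linear_combination (2 ^ m - 1 : ZMod (2 ^ k)) * e2
  have hG : Nat.card P = 2 ^ (k + 1) := by
    rw [← A.card_mul_index, hidx, ← hza, Nat.card_zpowers, hk, pow_succ]
  obtain ⟨c, hcA, hcase⟩ := classify hk2 hG hk ⟨b, a, fun h => hb (hCA b (mul_inv_eq_iff_eq_mul.mpr h))⟩
  rcases hcase with ⟨hc2, hcc⟩ | ⟨hc2, hcc⟩ | ⟨hk3, -, hcc⟩ | ⟨hk3, hc2, hcc⟩
  · rcases (show k = 2 ∨ 3 ≤ k by omega) with rfl | hk3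
    · exfalso
      have hca : c ∉ A := hza ▸ hcA
      refine false_of_four hn hc2 hw2 (fun h => hca (h ▸ one_mem A)) hw1 (fun h => hca (h ▸ pow_mem haA _))
        (mul_inv_eq_iff_eq_mul.mp (hgw c)).symm hgw fun g => ?_
      obtain ⟨j, hj⟩ : ∃ j : ℤ, a ^ j = g * c * g⁻¹ * c⁻¹ := Subgroup.mem_zpowers_iff.mp (hza ▸ hcommA g c)
      have hgcases : g ∈ A ∨ ∃ a₀ ∈ A, g = a₀ * c := by
        by_cases hg : g ∈ A
        · exact Or.inl hg
        · exact Or.inr ⟨g * c⁻¹, (Subgroup.mul_mem_iff_of_index_two hidx).mpr (iff_of_false hg (by simpa using hca)), by group⟩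
      have hA2 : ∀ a₀ ∈ A, a₀ * c * a₀⁻¹ = c ∨ a₀ * c * a₀⁻¹ = w * c := by
        intro a₀ h0
        obtain ⟨i, rfl⟩ := Subgroup.mem_zpowers_iff.mp (hza ▸ h0)
        have h1 : a ^ i * c * (a ^ i)⁻¹ = a ^ (2 * i) * c := by
          have h2 : c * (a ^ i)⁻¹ * c⁻¹ = a ^ i := by
            rw [← zpow_neg, ← conj_zpow, hcc, inv_zpow', neg_neg]
          calc a ^ i * c * (a ^ i)⁻¹ = a ^ i * (c * (a ^ i)⁻¹ * c⁻¹) * c := by group
            _ = a ^ (2 * i) * c := by rw [h2, ← zpow_add, two_mul]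
        rw [h1]
        rcases hhalf (2 * i) (by
          rw [← zpow_natCast (a ^ _), ← zpow_mul, ← orderOf_dvd_iff_zpow_eq_one, hk]
          exact ⟨i, by push_cast; ring⟩) with h | h
        · left; rw [h, one_mul]
        · right; rw [h]
      rcases hgcases with hg | ⟨a₀, h0, rfl⟩
      · exact hA2 g hg
      · rw [show a₀ * c * c * (a₀ * c)⁻¹ = a₀ * c * a₀⁻¹ by group]; exact hA2 a₀ h0
    · refine Or.inr (Or.inl ⟨2 ^ k, ?_, dihedral_iso hk (by rw [hG, pow_succ']) hcA (by rwa [← sq]) hcc⟩)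
      calc 8 = 2 ^ 3 := by norm_num
        _ ≤ 2 ^ k := Nat.pow_le_pow_right two_pos hk3
  · refine Or.inl ⟨2 ^ (k - 1), quaternion_iso (by positivity) (by rw [hk, h2k, mul_comm]) (by
      rw [hG, pow_succ, h2k]; ring) hcA (by rwa [← sq]) hcc⟩
  · exact absurd hcc (hmod hk3 c (hsqA c))
  · refine Or.inr (Or.inr ⟨k, hk3, hG, a, c, hk, ?_, hcc⟩)
    refine orderOf_eq_prime hc2 fun h => hcA (h ▸ one_mem _)

end Cfsg.Agent.S0519
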