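import Cfsg.Statements.S0520
import Cfsg.Agent.Lib.KGroups.Functor.Basic
-- import your own Cfsg.Agent.* helpers here

set_option autoImplicit false
open Cfsg

namespace Cfsg.Agent.S0520

variable {G : Type*} [Group G] [Finite G]

/-- One step in the commuting graph of four-subgroups. -/
def Adj (A B : Subgroup G) : Prop :=
  IsKleinFour A ∧ IsKleinFour B ∧ ∀ a ∈ A, ∀ b ∈ B, a * b = b * a

theorem isKleinFour_map {H K : Type*} [Group H] [Group K] {f : H →* K} (hf : Function.Injective f)
    {A : Subgroup H} (hA : IsKleinFour A) : IsKleinFour ↥(A.map f) := by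
  let e := A.equivMapOfInjective f hf
  exact ⟨(Nat.card_congr e.toEquiv).symm.trans hA.card_four,
    (Monoid.exponent_eq_of_mulEquiv e).symm.trans hA.exponent_two⟩

theorem Adj.map {H K : Type*} [Group H] [Group K] {f : H →* K} (hf : Function.Injective f) {A B : Subgroup H}
    (h : Adj A B) : Adj (A.map f) (B.map f) := by
  refine ⟨isKleinFour_map hf h.1, isKleinFour_map hf h.2.1, ?_⟩
  rintro _ ⟨a, ha, rfl⟩ _ ⟨b, hb, rfl⟩
  rw [← map_mul, ← map_mul, h.2.2 a ha b hb]

theorem path_map {H K : Type*} [Group H] [Group K] {f : H →* K} (hf : Function.Injective f) {A B : Subgroup H}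
    (h : Relation.ReflTransGen Adj A B) : Relation.ReflTransGen Adj (A.map f) (B.map f) :=
  h.lift (fun A => A.map f) (fun _ _ => Adj.map hf)

omit [Finite G] in
theorem path_symm {A B : Subgroup G} (h : Relation.ReflTransGen Adj A B) : Relation.ReflTransGen Adj B A := by
  induction h with
  | refl => exact .refl
  | tail _ h ih => exact ih.head ⟨h.2.1, h.1, fun a ha b hb => (h.2.2 b hb a ha).symm⟩

omit [Finite G] in
theorem four_sq {A : Subgroup G} (hA : IsKleinFour A) : ∀ a ∈ A, a ^ 2 = 1 := fun a ha => by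
  have h := Monoid.pow_exponent_eq_one (⟨a, ha⟩ : A)
  rw [hA.exponent_two] at h
  exact congrArg Subtype.val h

theorem rank_of_four {Q A : Subgroup G} (hA : IsKleinFour A) (hle : A ≤ Q) : ¬ Cfsg.PRankLE 2 1 Q := by
  intro h
  have h1 := h (A.subgroupOf Q) ⟨⟨fun a b => by
    have := (IsKleinFour.isMulCommutative (G := A)).is_comm.comm ⟨a.1.1, a.2⟩ ⟨b.1.1, b.2⟩
    apply Subtype.ext; apply Subtype.ext
    simpa using congrArg Subtype.val this⟩⟩ (fun a ha => Subtype.ext (four_sq hA a.1 ha))
  rw [Nat.card_congr (Subgroup.subgroupOfEquivOfLe hle).toEquiv, hA.card_four] at h1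
  norm_num at h1

theorem exists_four {Q : Subgroup G} (h : ¬ Cfsg.PRankLE 2 1 Q) : ∃ A : Subgroup G, A ≤ Q ∧ IsKleinFour A := by
  have : Fact (Nat.Prime 2) := ⟨Nat.prime_two⟩
  simp only [Cfsg.PRankLE, not_forall, not_le] at h
  obtain ⟨A, hA, hA2, hc⟩ := h
  have hp : IsPGroup 2 A := fun a => ⟨1, by rw [pow_one]; exact Subtype.ext (hA2 a a.2)⟩
  obtain ⟨n, hn⟩ := hp.exists_card_eq
  have hn2 : 2 ≤ n := by
    by_contra h'
    have := Nat.pow_le_pow_right (show 1 ≤ 2 by norm_num) (show n ≤ 1 by omega)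
    omega
  obtain ⟨K, hK⟩ := Sylow.exists_subgroup_card_pow_prime 2 (G := A) (n := 2) (by rw [hn]; exact pow_dvd_pow 2 hn2)
  have hnt : Nontrivial K := Finite.one_lt_card_iff_nontrivial.mp (by rw [hK]; norm_num)
  have h4 : IsKleinFour K := ⟨hK, (Monoid.exponent_eq_prime_iff Nat.prime_two).mpr fun g hg =>
      orderOf_eq_prime (Subtype.ext (Subtype.ext (hA2 g.1 g.1.2))) hg⟩
  exact ⟨(K.map A.subtype).map Q.subtype,
    Subgroup.map_subtype_le _,
    isKleinFour_map Q.subtype_injective (isKleinFour_map A.subtype_injective h4)⟩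

omit [Finite G] in
theorem connected_in {S : Subgroup G} (hS : Cfsg.IsFourConnected S) {U V : Subgroup G} (hU : U ≤ S) (hV : V ≤ S)
    (hU4 : IsKleinFour U) (hV4 : IsKleinFour V) : Relation.ReflTransGen Adj U V := by
  have h4 : ∀ {W : Subgroup G}, W ≤ S → IsKleinFour W → IsKleinFour (W.subgroupOf S) := fun {W} hW hW4 => by
    let e := Subgroup.subgroupOfEquivOfLe hW
    exact ⟨(Nat.card_congr e.toEquiv).trans hW4.card_four, (Monoid.exponent_eq_of_mulEquiv e).trans hW4.exponent_two⟩
  have h := path_map S.subtype_injective (hS _ _ (h4 hU hU4) (h4 hV hV4))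
  rwa [Subgroup.map_subgroupOf_eq_of_le hU, Subgroup.map_subgroupOf_eq_of_le hV] at h


/-- Let G be a finite group of 2-rank at least 2 and S a Sylow 2-subgroup whose commuting graph of Klein four-subgroups is
connected. Then the commuting graph of Klein four-subgroups of G is disconnected if and only if the 2-generated core — the
subgroup generated by the normalizers N_G(Q) of the subgroups Q of S that contain a Klein four-group — is a proper
subgroup of G. -/
theorem result {G : Type*} [Group G] [Finite G] (h2 : ¬ Cfsg.PRankLE 2 1 G)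
    (S : Sylow 2 G) (hS : Cfsg.IsFourConnected (S : Subgroup G)) :
    ¬ Cfsg.IsFourConnected G ↔
      (⨆ Q : {Q : Subgroup G // Q ≤ (S : Subgroup G) ∧ ¬ Cfsg.PRankLE 2 1 Q},
          Subgroup.normalizer ((Q : Subgroup G) : Set G)) ≠ ⊤ := by
  have : Fact (Nat.Prime 2) := ⟨Nat.prime_two⟩
  set C := (⨆ Q : {Q : Subgroup G // Q ≤ (S : Subgroup G) ∧ ¬ Cfsg.PRankLE 2 1 Q},
          Subgroup.normalizer ((Q : Subgroup G) : Set G)) with hC
  have hN : ∀ Q : Subgroup G, Q ≤ (S : Subgroup G) → ¬ Cfsg.PRankLE 2 1 Q → Subgroup.normalizer (Q : Set G) ≤ C :=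
    fun Q h1 h3 => le_iSup (fun Q : {Q : Subgroup G // Q ≤ (S : Subgroup G) ∧ ¬ Cfsg.PRankLE 2 1 Q} =>
      Subgroup.normalizer ((Q : Subgroup G) : Set G)) ⟨Q, h1, h3⟩
  obtain ⟨U, hUS, hU⟩ : ∃ U : Subgroup G, U ≤ (S : Subgroup G) ∧ IsKleinFour U := by
    simp only [Cfsg.PRankLE, not_forall, not_le] at h2
    obtain ⟨A, hA, hA2, hc⟩ := h2
    have hp : IsPGroup 2 A := fun a => ⟨1, by rw [pow_one]; exact Subtype.ext (hA2 a a.2)⟩
    obtain ⟨P, hAP⟩ := hp.exists_le_sylow
    obtain ⟨x, rfl⟩ := MulAction.exists_smul_eq G S P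
    obtain ⟨W, hW, hW4⟩ := exists_four (Q := A) fun h => by
      have h1 := h ⊤ ⟨⟨fun a b => Subtype.ext (hA.is_comm.comm a.1 b.1)⟩⟩ (fun a _ => Subtype.ext (hA2 a a.2))
      rw [Subgroup.card_top] at h1
      omega
    refine ⟨W.map (MulAut.conj x⁻¹).toMonoidHom, ?_, isKleinFour_map (MulAut.conj x⁻¹).injective hW4⟩
    rintro _ ⟨w, hw, rfl⟩
    have h1 : w ∈ ((x • S : Sylow 2 G) : Subgroup G) := hAP (hW hw)
    rw [Sylow.coe_subgroup_smul, Subgroup.mem_pointwise_smul_iff_inv_smul_mem] at h1
    simpa using h1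
  have hSC : (S : Subgroup G) ≤ C := Subgroup.le_normalizer.trans (hN _ le_rfl (rank_of_four hU hUS))
  -- the normaliser of a 2-subgroup of `C` of rank at least two lies in `C`
  have hkey : ∀ T : Subgroup G, T ≤ C → IsPGroup 2 T → ∀ W ≤ T, IsKleinFour W →
      Subgroup.normalizer (T : Set G) ≤ C := by
    intro T hTC hT W hWT hW n hn
    obtain ⟨P, hP⟩ := (hT.comap_of_injective C.subtype C.subtype_injective).exists_le_sylow
    obtain ⟨c, hc⟩ := MulAction.exists_smul_eq C P (S.subtype hSC)
    have hTS : T.map (MulAut.conj (c : G)).toMonoidHom ≤ (S : Subgroup G) := by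
      rintro _ ⟨t, ht, rfl⟩
      have h1 : c * ⟨t, hTC ht⟩ * c⁻¹ ∈ ((c • P : Sylow 2 C) : Subgroup C) := by
        rw [Sylow.coe_subgroup_smul]
        exact Subgroup.smul_mem_pointwise_smul _ (MulAut.conj c) _ (hP ht)
      rw [hc] at h1
      exact h1
    have h := hN _ hTS (rank_of_four (isKleinFour_map (MulAut.conj (c : G)).injective hW) (Subgroup.map_mono hWT))
    have h1 : (c : G) * n * (c : G)⁻¹ ∈ C := h <| by
      rw [← Subgroup.map_equiv_normalizer_eq]
      exact ⟨n, hn, rfl⟩
    exact (C.mul_mem_cancel_left c.2).mp ((C.mul_mem_cancel_right (inv_mem c.2)).mp h1)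
  constructor
  · intro hdis hC'
    apply hdis
    let H : Subgroup G :=
      { carrier := {g | Relation.ReflTransGen Adj U (U.map (MulAut.conj g).toMonoidHom)}
        one_mem' := by
          have : U.map (MulAut.conj (1 : G)).toMonoidHom = U := by ext; simp
          simp only [Set.mem_setOf_eq, this]
          exact .refl
        mul_mem' := fun {a b} ha hb => by
          have h := path_map (MulAut.conj a).injective (f := (MulAut.conj a).toMonoidHom) hb
          rw [Subgroup.map_map] at h
          have he : (MulAut.conj a).toMonoidHom.comp (MulAut.conj b).toMonoidHom = (MulAut.conj (a * b)).toMonoidHom := by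
            ext; simp [mul_assoc]
          rw [he] at h
          exact ha.trans h
        inv_mem' := fun {a} ha => by
          have h := path_symm (path_map (MulAut.conj a⁻¹).injective (f := (MulAut.conj a⁻¹).toMonoidHom) ha)
          rw [Subgroup.map_map] at h
          have he : (MulAut.conj a⁻¹).toMonoidHom.comp (MulAut.conj a).toMonoidHom = MonoidHom.id G := by
            ext; simp [mul_assoc]
          rw [he, Subgroup.map_id] at h
          exact h }
    have hH : ⊤ ≤ H := by
      rw [← hC']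
      refine iSup_le fun ⟨Q, hQS, hQ⟩ => fun n hn => ?_
      obtain ⟨W, hWQ, hW⟩ := exists_four hQ
      have hW' : W.map (MulAut.conj n).toMonoidHom ≤ (S : Subgroup G) := by
        rintro _ ⟨w, hw, rfl⟩
        exact hQS ((Subgroup.mem_normalizer_iff.mp hn w).mp (hWQ hw))
      exact (connected_in hS hUS hW' hU (isKleinFour_map (MulAut.conj n).injective hW)).trans
        (path_map (MulAut.conj n).injective (f := (MulAut.conj n).toMonoidHom)
          (connected_in hS (hWQ.trans hQS) hUS hW hU))
    intro V W hV hW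
    have hgo : ∀ V : Subgroup G, IsKleinFour V → Relation.ReflTransGen Adj U V := by
      intro V hV
      have hp : IsPGroup 2 V := fun a => ⟨1, by rw [pow_one]; exact Subtype.ext (four_sq hV a a.2)⟩
      obtain ⟨P, hVP⟩ := hp.exists_le_sylow
      obtain ⟨x, rfl⟩ := MulAction.exists_smul_eq G S P
      have hV' : V.map (MulAut.conj x⁻¹).toMonoidHom ≤ (S : Subgroup G) := by
        rintro _ ⟨w, hw, rfl⟩
        have h1 : w ∈ ((x • S : Sylow 2 G) : Subgroup G) := hVP hw
        rw [Sylow.coe_subgroup_smul, Subgroup.mem_pointwise_smul_iff_inv_smul_mem] at h1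
        simpa using h1
      have h := path_map (MulAut.conj x).injective (f := (MulAut.conj x).toMonoidHom)
        (connected_in hS hUS hV' hU (isKleinFour_map (MulAut.conj x⁻¹).injective hV))
      rw [Subgroup.map_map] at h
      have he : (MulAut.conj x).toMonoidHom.comp (MulAut.conj x⁻¹).toMonoidHom = MonoidHom.id G := by
        ext; simp [mul_assoc]
      rw [he, Subgroup.map_id] at h
      exact (hH (Subgroup.mem_top x)).trans h
    exact (path_symm (hgo V hV)).trans (hgo W hW)
  · intro hne hcon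
    apply hne
    refine eq_top_iff.mpr fun g _ => ?_
    have hcomp : ∀ W : Subgroup G, Relation.ReflTransGen Adj U W → IsKleinFour W ∧ W ≤ C := by
      intro W h
      induction h with
      | refl => exact ⟨hU, hUS.trans hSC⟩
      | @tail A B _ hAB ih =>
        refine ⟨hAB.2.1, fun b hb => hkey A ih.2 (fun a => ⟨1, by rw [pow_one]; exact Subtype.ext (four_sq ih.1 a a.2)⟩)
          A le_rfl ih.1 ?_⟩
        exact Subgroup.centralizer_le_normalizer (A : Set G) (Subgroup.mem_centralizer_iff.mpr fun a ha => hAB.2.2 a ha b hb)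
    set P : Subgroup G := (S : Subgroup G).map (MulAut.conj g).toMonoidHom with hP
    have hW := isKleinFour_map (MulAut.conj g).injective (f := (MulAut.conj g).toMonoidHom) hU
    have hWC := (hcomp _ (hcon U _ hU hW)).2
    have hPp : IsPGroup 2 P := S.2.map _
    have hTC : P ⊓ C = P := by
      have hPS : ((g • S : Sylow 2 G) : Subgroup G) = P := by rw [Sylow.coe_subgroup_smul]; rfl
      have h := CfsgLib.KGroups.Functor.eq_sylow_of_inf_normalizer (g • S) (T := P ⊓ C) (hPS ▸ inf_le_left)
        (hPS.symm ▸ le_inf inf_le_left (inf_le_right.trans <| hkey _ inf_le_right (hPp.to_le inf_le_left) _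
          (le_inf (Subgroup.map_mono hUS) hWC) hW))
      exact h.trans hPS
    have hPC : P ≤ C := hTC.ge.trans inf_le_right
    obtain ⟨P', hP'⟩ := (hPp.comap_of_injective C.subtype C.subtype_injective).exists_le_sylow
    obtain ⟨c, hc⟩ := MulAction.exists_smul_eq C P' (S.subtype hSC)
    have h1 : (c : G) * g ∈ Subgroup.normalizer ((S : Subgroup G) : Set G) := by
      have hle : (S : Subgroup G).map (MulAut.conj ((c : G) * g)).toMonoidHom ≤ (S : Subgroup G) := by
        rintro _ ⟨s, hs, rfl⟩
        have hm : g * s * g⁻¹ ∈ P := ⟨s, hs, rfl⟩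
        have h1 : c * ⟨g * s * g⁻¹, hPC hm⟩ * c⁻¹ ∈ ((c • P' : Sylow 2 C) : Subgroup C) := by
          rw [Sylow.coe_subgroup_smul]
          exact Subgroup.smul_mem_pointwise_smul _ (MulAut.conj c) _ (hP' hm)
        rw [hc] at h1
        have h2 : ((c * ⟨g * s * g⁻¹, hPC hm⟩ * c⁻¹ : C) : G) ∈ (S : Subgroup G) := Subgroup.mem_subgroupOf.mp h1
        simpa [mul_assoc] using h2
      have heq : (S : Subgroup G).map (MulAut.conj ((c : G) * g)).toMonoidHom = (S : Subgroup G) :=
        Subgroup.eq_of_le_of_card_ge hle (Subgroup.card_map_of_injective (MulAut.conj _).injective).ge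
      refine Subgroup.mem_normalizer_iff.mpr fun s => ⟨fun hs => hle ⟨s, hs, rfl⟩, fun hs => ?_⟩
      rw [← heq] at hs
      obtain ⟨t, ht, h⟩ := hs
      have : t = s := (MulAut.conj ((c : G) * g)).injective h
      exact this ▸ ht
    exact (C.mul_mem_cancel_left c.2).mp (hN _ le_rfl (rank_of_four hU hUS) h1)

end Cfsg.Agent.S0520
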