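import Cfsg.Statements.S0521
import Mathlib
import Cfsg.Agent.Lib.Fusion.QuadStable
import Cfsg.Agent.Lib.Coprime.Action
import Cfsg.Agent.Lib.PGroup.Frattini
import Cfsg.Agent.Lib.LocalEven.Residual
import Cfsg.Agent.Lib.Components.PComponents
import Cfsg.Agent.Lib.Solvable.Cores

set_option autoImplicit false
open Cfsg

namespace Cfsg.Agent.S0521

open scoped commutatorElement
open CfsgLib

/-- A `p`-element normalizing a subgroup of exponent `p` inside a cyclic group centralizes it. -/
theorem centralizes_cyclic {R : Type*} [Group R] [Finite R] {p : ℕ} [Fact p.Prime] {W : Subgroup R}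
    (hcy : IsCyclic W) (hexp : ∀ w ∈ W, w ^ p = 1) {s : R} (hs : ∃ k, s ^ p ^ k = 1)
    (hsW : s ∈ Subgroup.normalizer (W : Set R)) : ∀ w ∈ W, s * w * s⁻¹ = w := by
  have hp : p.Prime := Fact.out
  obtain ⟨k, hk⟩ := hs
  have hdvd : Nat.card W ∣ p := by
    obtain ⟨w, hw⟩ := hcy.exists_generator
    rw [← orderOf_eq_card_of_forall_mem_zpowers hw]
    exact orderOf_dvd_of_pow_eq_one (Subtype.ext (hexp w w.2))
  have hone : W.normalizerMonoidHom ⟨s, hsW⟩ = 1 := by
    refine orderOf_eq_one_iff.mp ?_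
    have h1 : orderOf (W.normalizerMonoidHom ⟨s, hsW⟩) ∣ p ^ k := orderOf_dvd_of_pow_eq_one (by
      rw [← map_pow, ← map_one W.normalizerMonoidHom]
      exact congrArg _ (Subtype.ext hk))
    rcases (Nat.dvd_prime hp).mp hdvd with h | h
    · haveI : Subsingleton W := (Nat.card_eq_one_iff_unique.mp h).1
      rw [orderOf_eq_one_iff]
      exact MulEquiv.ext fun c => Subsingleton.elim _ _
    · have h2 : orderOf (W.normalizerMonoidHom ⟨s, hsW⟩) ∣ Nat.card (MulAut W) := orderOf_dvd_natCard _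
      haveI := hcy
      rw [IsCyclic.card_mulAut, h, Nat.totient_prime hp] at h2
      refine Nat.eq_one_of_dvd_coprimes (Nat.Coprime.pow_right k ?_) h2 h1
      refine (hp.coprime_iff_not_dvd.mpr fun hd => ?_).symm
      have := Nat.le_of_dvd (Nat.sub_pos_of_lt hp.one_lt) hd
      have := hp.one_lt
      omega
  intro w hw
  simpa using congrArg Subtype.val (DFunLike.congr_fun hone ⟨w, hw⟩)

/-- The reduced form. -/
theorem le_pCore {R : Type*} [Group R] [Finite R] [Group.IsSolvable R] {p : ℕ} [Fact p.Prime] (hp : p ≠ 2)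
    (hodd : Odd (Nat.card R)) (hO : Cfsg.pPrimeCore p R = ⊥) (T : Subgroup R) (hT : IsPGroup p T)
    (hQT : Cfsg.pCore p R ≤ T) (hcy : IsCyclic ↥⁅T, T⁆) : T ≤ Cfsg.pCore p R := by
  haveI : Fact (Nat.Prime 2) := ⟨Nat.prime_two⟩
  set Q := Cfsg.pCore p R with hQdef
  have hQp : IsPGroup p Q := Solvable.Cores.isPGroup_pCore p
  haveI hQn : Q.Normal := Subgroup.sSup_normal _ fun _ h => h.1
  have hCQ : Subgroup.centralizer (Q : Set R) ≤ Q := by
    have h := Solvable.Cores.centralizer_fittingSubgroup_le (G := R)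
    rwa [Solvable.Cores.fittingSubgroup_eq_pCore p hO] at h
  set N := (frattini ↥Q).map Q.subtype with hN
  haveI : N.Normal := inferInstance
  set π := QuotientGroup.mk' N with hπ
  have hπs := QuotientGroup.mk'_surjective N
  set V := Q.map π with hV
  haveI : V.Normal := Subgroup.Normal.map inferInstance π hπs
  have hVEA : Cfsg.IsElementaryAbelian p V := by
    refine ⟨Solvable.Basic.isMulCommutative_subgroup_iff.mpr ?_, ?_⟩
    · rintro _ ⟨x, hx, rfl⟩ _ ⟨y, hy, rfl⟩
      rw [← commutatorElement_eq_one_iff_mul_comm, ← map_commutatorElement]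
      exact (QuotientGroup.eq_one_iff _).mpr ⟨⁅(⟨x, hx⟩ : Q), ⟨y, hy⟩⁆,
        CfsgLib.PGroup.Frattini.commutatorElement_mem_frattini hQp _ _, rfl⟩
    · rintro _ ⟨x, hx, rfl⟩
      rw [← map_pow]
      exact (QuotientGroup.eq_one_iff _).mpr ⟨(⟨x, hx⟩ : Q) ^ p,
        CfsgLib.PGroup.Frattini.pow_mem_frattini hQp _, rfl⟩
  set C := Subgroup.centralizer (V : Set (R ⧸ N)) with hC
  haveI : C.Normal := inferInstance
  let θ : R →* (R ⧸ N) ⧸ C := (QuotientGroup.mk' C).comp π
  have hθs : Function.Surjective θ := (QuotientGroup.mk'_surjective C).comp hπs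
  have hker : θ.ker ≤ Q := by
    haveI : θ.ker.Normal := MonoidHom.normal_ker θ
    refine Solvable.Cores.le_pCore (LocalEven.Residual.isPGroup_of_forall_coprime fun b hb hbo => ?_)
    have hbC : π b ∈ C := (QuotientGroup.eq_one_iff (π b)).mp hb
    have hbQ : b ∈ Subgroup.centralizer (Q : Set R) := by
      refine (Coprime.le_centralizer_of_frattini (A := Subgroup.zpowers b) (K := Q)
        (by rw [Subgroup.normalizer_eq_top]; exact le_top) ?_ ?_) (Subgroup.mem_zpowers b)
      · obtain ⟨j, hj⟩ := IsPGroup.iff_card.mp (hQp.to_subgroup (frattini Q))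
        rw [Nat.card_zpowers, hj]
        exact hbo.pow_right j
      · intro c hc' y hy
        obtain ⟨j, rfl⟩ := hc'
        have hcj : π (b ^ j) ∈ C := by rw [map_zpow]; exact C.zpow_mem hbC j
        rw [← hN, ← QuotientGroup.eq_one_iff]
        show π ⁅b ^ j, y⁆ = 1
        rw [map_commutatorElement, commutatorElement_eq_one_iff_mul_comm]
        exact (Subgroup.mem_centralizer_iff.mp hcj _ (Subgroup.mem_map_of_mem _ hy)).symm
    obtain ⟨k, hk⟩ := hQp ⟨b, hCQ hbQ⟩
    exact orderOf_eq_one_iff.mp (Nat.eq_one_of_dvd_coprimes (Nat.Coprime.pow_right k hbo) dvd_rfl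
      (orderOf_dvd_of_pow_eq_one (congrArg Subtype.val hk)))
  have hcore : ∀ x : R, θ x ∈ Cfsg.pCore p ((R ⧸ N) ⧸ C) → x ∈ Q := by
    intro x hx
    haveI : (Cfsg.pCore p ((R ⧸ N) ⧸ C)).Normal := Subgroup.sSup_normal _ fun _ h => h.1
    haveI : ((Cfsg.pCore p ((R ⧸ N) ⧸ C)).comap θ).Normal := Subgroup.Normal.comap inferInstance θ
    refine Solvable.Cores.le_pCore ?_ (show x ∈ (Cfsg.pCore p ((R ⧸ N) ⧸ C)).comap θ from hx)
    exact (Solvable.Cores.isPGroup_pCore (G := (R ⧸ N) ⧸ C) p).comap_of_ker_isPGroup θ (hQp.to_le hker)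
  have hoddH : Odd (Nat.card ((R ⧸ N) ⧸ C)) := by
    refine hodd.of_dvd_nat ?_
    exact Subgroup.card_dvd_of_surjective θ hθs
  have hst : Cfsg.IsPStableOn p V := by
    refine Fusion.QuadStable.isPStableOn_of_quadInCore V hVEA fun W _ _ hW ρ hρ a ha => ?_
    by_contra hna
    obtain ⟨T₂⟩ := (inferInstance : Nonempty (Sylow 2 ((R ⧸ N) ⧸ C)))
    refine Fusion.QuadStable.sylow_two_not_comm_of_not_mem_pCore hp hW ρ hρ ha hna T₂ ?_
    obtain ⟨k, hk⟩ := IsPGroup.iff_card.mp T₂.2
    have hk0 : k = 0 := by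
      by_contra hk0
      have h2 : 2 ∣ Nat.card ((R ⧸ N) ⧸ C) := (dvd_pow_self 2 hk0).trans (hk ▸ Subgroup.card_subgroup_dvd_card _)
      exact Nat.not_even_iff_odd.mpr hoddH (even_iff_two_dvd.mpr h2)
    haveI : Subsingleton (T₂ : Subgroup ((R ⧸ N) ⧸ C)) := (Nat.card_eq_one_iff_unique.mp (by rw [hk, hk0, pow_zero])).1
    exact ⟨⟨fun _ _ => Subsingleton.elim _ _⟩⟩
  intro s hs
  refine hcore s (hst (π s) ?_)
  set D := ⁅V, Subgroup.zpowers (π s)⁆ with hD
  have hDV : D ≤ V := Subgroup.commutator_le_left _ _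
  have hDT : D ≤ ⁅T, T⁆.map π := by
    rw [Subgroup.map_commutator, hD]
    refine Subgroup.commutator_mono (Subgroup.map_mono hQT) ?_
    rw [Subgroup.zpowers_le]
    exact Subgroup.mem_map_of_mem π hs
  haveI := hcy
  have hDcy : IsCyclic D := by
    haveI : IsCyclic (⁅T, T⁆.map π) := isCyclic_of_surjective (π.subgroupMap ⁅T, T⁆) (π.subgroupMap_surjective _)
    exact isCyclic_of_injective (Subgroup.inclusion hDT) (Subgroup.inclusion_injective hDT)
  have hsD : π s ∈ Subgroup.normalizer (D : Set (R ⧸ N)) := by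
    refine Subgroup.mem_normalizer_iff.mpr ?_
    have hle : ∀ a ∈ Subgroup.zpowers (π s), ∀ d ∈ D, a * d * a⁻¹ ∈ D := fun a ha d hd => by
      have hz : D.map (MulAut.conj a).toMonoidHom = D := by
        rw [hD, Subgroup.map_commutator,
          show (Subgroup.zpowers (π s)).map (MulAut.conj a).toMonoidHom = Subgroup.zpowers (π s) from ?_,
          show V.map (MulAut.conj a).toMonoidHom = V from ?_]
        · refine Subgroup.eq_of_le_of_card_ge ?_ (Subgroup.card_map_of_injective (MulAut.conj a).injective).ge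
          rintro _ ⟨v, hv, rfl⟩
          exact (inferInstance : V.Normal).conj_mem v hv a
        · obtain ⟨j, rfl⟩ := Subgroup.mem_zpowers_iff.mp ha
          rw [MonoidHom.map_zpowers]
          congr 1
          show (π s) ^ j * π s * ((π s) ^ j)⁻¹ = π s
          group
      exact hz.le ⟨d, hd, rfl⟩
    intro d
    refine ⟨fun hd => hle _ (Subgroup.mem_zpowers _) d hd, fun hd => ?_⟩
    simpa [mul_assoc] using hle _ (inv_mem (Subgroup.mem_zpowers (π s))) _ hd
  have hsp : ∃ k, π s ^ p ^ k = 1 := by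
    obtain ⟨k, hk⟩ := hT ⟨s, hs⟩
    exact ⟨k, by rw [← map_pow, show s ^ p ^ k = 1 from congrArg Subtype.val hk, map_one]⟩
  have hfix := centralizes_cyclic hDcy (fun w hw => hVEA.2 w (hDV hw)) hsp hsD
  rw [Subgroup.commutator_eq_bot_iff_le_centralizer]
  intro d hd
  refine Subgroup.mem_centralizer_iff.mpr fun z hz => ?_
  obtain ⟨j, rfl⟩ := Subgroup.mem_zpowers_iff.mp hz
  exact ((show Commute (π s) d from mul_inv_eq_iff_eq_mul.mp (hfix d hd)).zpow_left j).eq

/-- Let X be a finite solvable group of odd order, p a prime and S a Sylow p-subgroup of X whose commutator subgroup is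
cyclic. Then the product of the largest normal subgroup of X of order prime to p with S is a normal subgroup of X. -/
theorem result {X : Type*} [Group X] [Finite X] [Group.IsSolvable X]
    (hX : Odd (Nat.card X)) (p : ℕ) [Fact p.Prime] (S : Sylow p X) (hS : IsCyclic (commutator (S : Subgroup X))) :
    (Cfsg.pPrimeCore p X ⊔ (S : Subgroup X)).Normal := by
  have hp : p.Prime := Fact.out
  by_cases hp2 : p = 2
  · subst hp2
    have h1 : Cfsg.pPrimeCore 2 X = ⊤ := eq_top_iff.mpr
      (Solvable.Cores.le_pPrimeCore (by rw [Subgroup.card_top]; exact Nat.coprime_two_right.mpr hX))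
    rw [h1, top_sup_eq]
    infer_instance
  set O := Cfsg.pPrimeCore p X with hOdef
  haveI : O.Normal := Solvable.Cores.pPrimeCore_normal p
  set π := QuotientGroup.mk' O with hπ
  have hπs := QuotientGroup.mk'_surjective O
  have hT : IsPGroup p ((S : Subgroup X).map π) := S.2.map π
  have hQT : Cfsg.pCore p (X ⧸ O) ≤ (S : Subgroup X).map π :=
    Solvable.Cores.pCore_le_sylow (S.mapSurjective hπs)
  have hodd : Odd (Nat.card (X ⧸ O)) := hX.of_dvd_nat (Subgroup.card_quotient_dvd_card O)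
  haveI : Group.IsSolvable (X ⧸ O) := Group.isSolvable_of_surjective hπs
  have hcy : IsCyclic ↥⁅(S : Subgroup X).map π, (S : Subgroup X).map π⁆ := by
    rw [← Subgroup.map_commutator]
    haveI : IsCyclic ↥⁅(S : Subgroup X), (S : Subgroup X)⁆ := by
      rw [← Subgroup.map_subtype_commutator]
      haveI := hS
      exact isCyclic_of_surjective ((S : Subgroup X).subtype.subgroupMap _) (MonoidHom.subgroupMap_surjective _ _)
    exact isCyclic_of_surjective (π.subgroupMap _) (MonoidHom.subgroupMap_surjective _ _)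
  have hle := le_pCore hp2 hodd (CfsgLib.Components.pPrimeCore_quotient_eq_bot) _ hT hQT hcy
  have heq : (S : Subgroup X).map π = Cfsg.pCore p (X ⧸ O) := le_antisymm hle hQT
  have h2 : O ⊔ (S : Subgroup X) = (Cfsg.pCore p (X ⧸ O)).comap π := by
    rw [← heq, Subgroup.comap_map_eq, QuotientGroup.ker_mk', sup_comm]
  rw [h2]
  haveI : (Cfsg.pCore p (X ⧸ O)).Normal := Subgroup.sSup_normal _ fun _ h => h.1
  infer_instance

end Cfsg.Agent.S0521
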