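import Cfsg.Statements.S0522
import Cfsg.Agent.S1480
import Cfsg.Agent.Lib.Components.Signalizer.Balance

set_option autoImplicit false
open Cfsg

namespace Cfsg.Agent.S0522

/-- Transitivity Theorem (odd-order setting). Let X be a finite group of odd order in which the normalizer of every
nontrivial p-subgroup is solvable, P a Sylow p-subgroup, and B an abelian subgroup of P, normalized by P, with
C_P(B) = B and containing an elementary abelian subgroup of order p^3. Then for every prime q ≠ p, any two q-subgroups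
that are maximal among the q-subgroups normalized by B are conjugate by an element of the centralizer of B. -/
theorem result {X : Type*} [Group X] [Finite X] (hX : Odd (Nat.card X)) (p : ℕ)
    [Fact p.Prime] (hloc : ∀ T : Subgroup X, IsPGroup p T → T ≠ ⊥ → Group.IsSolvable (Subgroup.normalizer (T : Set X)))
    (P : Sylow p X) (B : Subgroup X) (hBP : B ≤ (P : Subgroup X))
    (hBn : ∀ x ∈ (P : Subgroup X), ∀ b ∈ B, x * b * x⁻¹ ∈ B) (hBa : IsMulCommutative B)
    (hBc : (P : Subgroup X) ⊓ Subgroup.centralizer (B : Set X) = B)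
    (hB3 : ∃ E : Subgroup X, E ≤ B ∧ (∀ e ∈ E, e ^ p = 1) ∧ p ^ 3 ≤ Nat.card E)
    (q : ℕ) [Fact q.Prime] (hqp : q ≠ p) (Q₁ Q₂ : Subgroup X)
    (h₁ : IsPGroup q Q₁ ∧ B ≤ Subgroup.normalizer (Q₁ : Set X) ∧
      ∀ R : Subgroup X, IsPGroup q R → B ≤ Subgroup.normalizer (R : Set X) → Q₁ ≤ R → R = Q₁)
    (h₂ : IsPGroup q Q₂ ∧ B ≤ Subgroup.normalizer (Q₂ : Set X) ∧
      ∀ R : Subgroup X, IsPGroup q R → B ≤ Subgroup.normalizer (R : Set X) → Q₂ ≤ R → R = Q₂) :
    ∃ c ∈ Subgroup.centralizer (B : Set X), Q₂ = Q₁.map (MulAut.conj c).toMonoidHom := by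
  classical
  have hBp : IsPGroup p B := P.isPGroup'.to_le hBP
  obtain ⟨E, hEB, hEe, hE3⟩ := hB3
  have hp : p.Prime := Fact.out
  have hp2 : p ≠ 2 := by
    rintro rfl
    obtain ⟨n, hn⟩ := (hBp.to_le hEB).exists_card_eq
    have hn0 : n ≠ 0 := by rintro rfl; simp [hn] at hE3
    have h2 : 2 ∣ Nat.card X :=
      ((hn ▸ dvd_pow_self 2 hn0 : 2 ∣ Nat.card E)).trans (Subgroup.card_subgroup_dvd_card E)
    obtain ⟨k, hk⟩ := hX
    omega
  have hlocc : ∀ T : Subgroup X, IsPGroup p T → T ≠ ⊥ →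
      Cfsg.IsPConstrained p ↥(Subgroup.normalizer (T : Set X)) := fun T hT hT1 => by
    haveI := hloc T hT hT1
    rw [CfsgLib.Components.isPConstrained_iff]
    exact CfsgLib.Components.Signalizer.pLayer_eq_bot_of_isSolvable
  have hrk : ¬ Cfsg.PRankLE p 2 B := by
    intro h
    haveI := hBa
    have h1 := h (E.subgroupOf B) inferInstance (fun a ha => Subtype.ext (by simpa using hEe _ ha))
    rw [Nat.card_congr (Subgroup.subgroupOfEquivOfLe hEB).toEquiv] at h1
    exact absurd (hE3.trans h1) (not_le.mpr (Nat.pow_lt_pow_right hp.one_lt (by norm_num)))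
  have hfull : ∀ x ∈ Subgroup.centralizer (B : Set X), IsPGroup p (Subgroup.zpowers x) → x ∈ B := by
    intro x hx hxp
    set N := Subgroup.normalizer (B : Set X) with hN
    set C := Subgroup.centralizer (B : Set X) with hC
    set Z := B ⊔ Subgroup.zpowers x
    have hxB : Subgroup.zpowers x ≤ C := Subgroup.zpowers_le.mpr hx
    haveI := hBa
    have hZC : Z ≤ C := sup_le B.le_centralizer hxB
    have hZp : IsPGroup p Z :=
      hBp.to_sup_of_normal_left' hxp (hxB.trans (Subgroup.centralizer_le_normalizer _))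
    have hPN : (P : Subgroup X) ≤ N := Subgroup.le_normalizer_iff.mpr hBn
    have hZN : Z ≤ N := hZC.trans (Subgroup.centralizer_le_normalizer _)
    obtain ⟨S, hS⟩ := (hZp.of_equiv (Subgroup.subgroupOfEquivOfLe hZN).symm).exists_le_sylow
    obtain ⟨g, hg⟩ := MulAction.exists_smul_eq N S (P.subtype hPN)
    have hle : Z.map (MulAut.conj (g : X)).toMonoidHom ≤ B := by
      rintro _ ⟨z, hz, rfl⟩
      rw [← hBc]
      refine ⟨?_, ?_⟩
      · have h1 : (MulAut.conj g) ⟨z, hZN hz⟩ ∈ (P.subtype hPN : Subgroup N) := by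
          rw [← hg, Sylow.coe_subgroup_smul]
          exact Subgroup.mem_map_of_mem (MulAut.conj g).toMonoidHom (hS hz)
        exact h1
      · show (g : X) * z * (g : X)⁻¹ ∈ C
        rw [hC, Subgroup.mem_centralizer_iff]
        intro b hb
        have hb' : (g : X)⁻¹ * b * g ∈ B := (Subgroup.mem_normalizer_iff''.mp g.2 b).mp hb
        have h2 := Subgroup.mem_centralizer_iff.mp (hZC hz) _ hb'
        calc b * ((g : X) * z * (g : X)⁻¹) = g * (((g : X)⁻¹ * b * g) * z) * (g : X)⁻¹ := by group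
          _ = g * (z * ((g : X)⁻¹ * b * g)) * (g : X)⁻¹ := by rw [h2]
          _ = g * z * (g : X)⁻¹ * b := by group
    have hcard : Nat.card Z ≤ Nat.card B := by
      rw [← Subgroup.card_map_of_injective (K := Z) (f := (MulAut.conj (g : X)).toMonoidHom)
        (MulAut.conj (g : X)).injective]
      exact Subgroup.card_le_of_le hle
    rw [Subgroup.eq_of_le_of_card_ge (le_sup_left : B ≤ Z) hcard]
    exact (le_sup_right : _ ≤ Z) (Subgroup.mem_zpowers x)
  have hmax : ∀ Q : Subgroup X, (IsPGroup q Q ∧ B ≤ Subgroup.normalizer (Q : Set X) ∧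
      ∀ R : Subgroup X, IsPGroup q R → B ≤ Subgroup.normalizer (R : Set X) → Q ≤ R → R = Q) →
      Q ∈ Cfsg.maxInvSubgroups ⊤ B {q} := fun Q h =>
    ⟨(CfsgLib.OddOrder.Transitivity.mem_inv_top Fact.out).mpr ⟨h.1, h.2.1⟩, fun R hR hQR => by
      obtain ⟨h1, h2⟩ := (CfsgLib.OddOrder.Transitivity.mem_inv_top Fact.out).mp hR
      exact h.2.2 R h1 h2 hQR⟩
  obtain ⟨k, hk, e⟩ := Cfsg.Agent.S1480.result p hlocc (fun h => absurd h hp2) B hBp hBa hrk hfull
    q hqp Q₁ (hmax Q₁ h₁) Q₂ (hmax Q₂ h₂)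
  exact ⟨k, CfsgLib.OddOrder.Transitivity.piCoreOf_le _ _ hk, e⟩

end Cfsg.Agent.S0522
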