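import Cfsg.Statements.S0548
import Cfsg.Agent.Lib.Solvable.Primitive
-- import your own Cfsg.Agent.* helpers here

set_option autoImplicit false
open Cfsg

namespace Cfsg.Agent.S0548

/-- Let a finite solvable group G act faithfully and primitively on a set, let M be a minimal normal subgroup and H the stabilizer of a point. Then H is a complement to M, no non-identity element of H centralizes M, and the only subgroups of M normalized by H are the trivial subgroup and M. -/
theorem result {G : Type*} [Group G] [Finite G] [Group.IsSolvable G] {Ω : Type*} [MulAction G Ω] [FaithfulSMul G Ω] (hprim : MulAction.IsPreprimitive G Ω) (M : Subgroup G) [M.Normal] (hM : M ≠ ⊥) (hmin : ∀ K : Subgroup G, K.Normal → K ≤ M → K = ⊥ ∨ K = M) (ω : Ω) : Subgroup.IsComplement' M (MulAction.stabilizer G ω) ∧ MulAction.stabilizer G ω ⊓ Subgroup.centralizer (M : Set G) = ⊥ ∧ ∀ K : Subgroup G, K ≤ M → MulAction.stabilizer G ω ≤ Subgroup.normalizer (K : Set G) → K = ⊥ ∨ K = M := by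
  haveI : Nonempty Ω := ⟨ω⟩
  obtain ⟨ht, hst, -⟩ := CfsgLib.Solvable.Primitive.minimal_normal_regular hprim M hM hmin
  set H := MulAction.stabilizer G ω
  have hdis : M ⊓ H = ⊥ := by
    rw [eq_bot_iff]
    intro x hx
    have : (⟨x, hx.1⟩ : M) ∈ MulAction.stabilizer M ω := hx.2
    rw [hst ω, Subgroup.mem_bot] at this
    exact congrArg Subtype.val this
  have hsup : ∀ g : G, ∃ m ∈ M, ∃ h ∈ H, g = m * h := by
    intro g
    obtain ⟨m, hm⟩ := MulAction.exists_smul_eq M ω (g • ω)
    have hm' : (m : G) • ω = g • ω := hm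
    refine ⟨m, m.2, (m : G)⁻¹ * g, ?_, by group⟩
    rw [MulAction.mem_stabilizer_iff, mul_smul, ← hm', inv_smul_smul]
  refine ⟨Subgroup.isComplement'_of_disjoint_and_mul_eq_univ (disjoint_iff.mpr hdis)
    (Set.eq_univ_of_forall fun g => ?_), ?_, fun K hKM hKN => ?_⟩
  · obtain ⟨m, hm, h, hh, rfl⟩ := hsup g
    exact Set.mul_mem_mul hm hh
  · rw [eq_bot_iff]
    intro x hx
    rw [Subgroup.mem_bot]
    refine eq_of_smul_eq_smul (α := Ω) fun y => ?_
    rw [one_smul]
    obtain ⟨m, rfl⟩ := MulAction.exists_smul_eq M ω y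
    show x • (m : G) • ω = (m : G) • ω
    rw [smul_smul, ← Subgroup.mem_centralizer_iff.mp hx.2 m m.2, ← smul_smul,
      MulAction.mem_stabilizer_iff.mp hx.1]
  · refine hmin K ?_ hKM
    obtain ⟨hc, -⟩ := CfsgLib.Solvable.Basic.minimal_normal_solvable M hM hmin
    have hMn : M ≤ Subgroup.normalizer (K : Set G) := by
      intro m hm
      rw [Subgroup.mem_normalizer_iff]
      intro y
      have key : ∀ z ∈ M, m * z * m⁻¹ = z := fun z hz => by
        rw [CfsgLib.Solvable.Basic.isMulCommutative_subgroup_iff.mp hc m hm z hz,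
          mul_inv_cancel_right]
      constructor
      · intro hy; rwa [key y (hKM hy)]
      · intro hy
        have hyM : y ∈ M := by
          simpa [mul_assoc] using (inferInstance : M.Normal).conj_mem _ (hKM hy) m⁻¹
        rwa [key y hyM] at hy
    rw [← Subgroup.normalizer_eq_top_iff, eq_top_iff]
    intro g _
    obtain ⟨m, hm, h, hh, rfl⟩ := hsup g
    exact Subgroup.mul_mem _ (hMn hm) (hKN hh)

end Cfsg.Agent.S0548
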