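import Cfsg.Statements.S0549
import Cfsg.Agent.Lib.Solvable.Basic
-- import your own Cfsg.Agent.* helpers here

set_option autoImplicit false
open Cfsg

namespace Cfsg.Agent.S0549

/-- Let U be a maximal subgroup of a finite group G whose normal core is trivial, and N a nontrivial normal subgroup with centralizer C. Then C ∩ U = 1, and either C = 1 or C is a minimal normal subgroup of G. -/
theorem result {G : Type*} [Group G] [Finite G] (U : Subgroup G) (hU : IsCoatom U) (hcore : U.normalCore = ⊥) (N : Subgroup G) [N.Normal] (hN : N ≠ ⊥) : Subgroup.centralizer (N : Set G) ⊓ U = ⊥ ∧ (Subgroup.centralizer (N : Set G) = ⊥ ∨ (Subgroup.centralizer (N : Set G) ≠ ⊥ ∧ ∀ K : Subgroup G, K.Normal → K ≤ Subgroup.centralizer (N : Set G) → K = ⊥ ∨ K = Subgroup.centralizer (N : Set G))) := by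
  set C := Subgroup.centralizer (N : Set G) with hC
  have hNU : ¬ N ≤ U := by
    intro h
    exact hN (le_bot_iff.mp (hcore ▸ Subgroup.normal_le_normalCore.mpr h))
  have hsup : N ⊔ U = ⊤ := hU.2 _ (right_lt_sup.mpr hNU)
  have hn : (C ⊓ U).Normal := by
    rw [← Subgroup.normalizer_eq_top_iff, eq_top_iff, ← hsup]
    refine sup_le (fun n hn => ?_) (fun u hu => ?_)
    · rw [Subgroup.mem_normalizer_iff]
      intro y
      have key : ∀ z ∈ C, n * z * n⁻¹ = z := fun z hz => by
        rw [Subgroup.mem_centralizer_iff.mp hz n hn, mul_inv_cancel_right]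
      constructor
      · intro hy; rw [key y hy.1]; exact hy
      · intro hy
        have hyC : y ∈ C := by
          simpa [mul_assoc] using (inferInstance : C.Normal).conj_mem _ hy.1 n⁻¹
        rwa [key y hyC] at hy
    · rw [Subgroup.mem_normalizer_iff]
      intro y
      constructor
      · intro hy
        exact ⟨(inferInstance : C.Normal).conj_mem _ hy.1 u, U.mul_mem (U.mul_mem hu hy.2) (U.inv_mem hu)⟩
      · intro hy
        exact ⟨by simpa [mul_assoc] using (inferInstance : C.Normal).conj_mem _ hy.1 u⁻¹,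
          by simpa [mul_assoc] using U.mul_mem (U.mul_mem (U.inv_mem hu) hy.2) hu⟩
  have hbot : C ⊓ U = ⊥ := le_bot_iff.mp (hcore ▸ (Subgroup.normal_le_normalCore (hN := hn)).mpr inf_le_right)
  refine ⟨hbot, ?_⟩
  by_cases hC0 : C = ⊥
  · exact Or.inl hC0
  refine Or.inr ⟨hC0, fun K hK hKC => ?_⟩
  by_cases hK0 : K = ⊥
  · exact Or.inl hK0
  right
  have hKU : ¬ K ≤ U := fun h => hK0 (le_bot_iff.mp (hbot ▸ le_inf hKC h))
  haveI := hK
  refine le_antisymm hKC fun x hx => ?_
  have hmem : x ∈ ((K ⊔ U : Subgroup G) : Set G) := by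
    rw [hU.2 _ (right_lt_sup.mpr hKU)]; trivial
  rw [Subgroup.normal_mul] at hmem
  obtain ⟨k, hk, u, hu, rfl⟩ := hmem
  have huC : u ∈ C := by simpa using C.mul_mem (C.inv_mem (hKC hk)) hx
  have : u ∈ C ⊓ U := ⟨huC, hu⟩
  rw [hbot, Subgroup.mem_bot] at this
  simpa [this] using hk

end Cfsg.Agent.S0549
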