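import Cfsg.Statements.S0552
import Cfsg.Agent.Lib.Solvable.Cores
-- import your own Cfsg.Agent.* helpers here

set_option autoImplicit false
open Cfsg

namespace Cfsg.Agent.S0552

/-- Let σ be an automorphism of a finite solvable group G fixing every element of the Fitting subgroup. If σ is not the identity then the order of σ and the order of G have a common prime factor. -/
theorem result {G : Type*} [Group G] [Finite G] [Group.IsSolvable G] (σ : G ≃* G) (hσ : ∀ x ∈ Cfsg.fittingSubgroup G, σ x = x) (hne : σ ≠ MulEquiv.refl G) : ¬ (orderOf σ).Coprime (Nat.card G) := by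
  intro hcop
  apply hne
  ext x
  set F := Cfsg.fittingSubgroup G
  set c := x⁻¹ * σ x with hc
  have hcC : c ∈ Subgroup.centralizer (F : Set G) := by
    rw [Subgroup.mem_centralizer_iff]
    intro f hf
    have h1 := hσ _ (CfsgLib.Solvable.Cores.fittingSubgroup_normal.conj_mem f hf x)
    rw [map_mul, map_mul, map_inv, hσ f hf] at h1
    calc f * c = x⁻¹ * (x * f * x⁻¹) * σ x := by rw [hc]; group
      _ = x⁻¹ * (σ x * f * (σ x)⁻¹) * σ x := by rw [h1]
      _ = c * f := by rw [hc]; group
  have hfix : σ c = c := hσ c (CfsgLib.Solvable.Cores.centralizer_fittingSubgroup_le hcC)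
  have hpow : ∀ k : ℕ, (σ ^ k : G ≃* G) x = x * c ^ k := by
    intro k
    induction k with
    | zero => simp
    | succ k ih =>
      rw [pow_succ', MulAut.mul_apply, ih, map_mul, map_pow, hfix, pow_succ', ← mul_assoc]
      congr 1
      rw [hc]; group
  have h1 := hpow (orderOf σ)
  rw [pow_orderOf_eq_one, MulAut.one_apply, eq_comm, mul_eq_left] at h1
  have h2 : orderOf c ∣ 1 :=
    hcop ▸ Nat.dvd_gcd (orderOf_dvd_of_pow_eq_one h1) (orderOf_dvd_natCard c)
  rw [Nat.dvd_one, orderOf_eq_one_iff, hc, inv_mul_eq_one] at h2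
  simpa using h2.symm

end Cfsg.Agent.S0552
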