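import Cfsg.Statements.S0555
import Cfsg.Agent.Lib.Solvable.Basic
-- import your own Cfsg.Agent.* helpers here

set_option autoImplicit false
open Cfsg
open scoped commutatorElement

namespace Cfsg.Agent.S0555

/-- Let i ≥ 1. If in the derived series of a group the quotient of the i-th term by the (i+1)-st and the quotient of the (i+1)-st by the (i+2)-nd are both cyclic, then the (i+1)-st and (i+2)-nd terms coincide. -/
theorem result {G : Type*} [Group G] (i : ℕ) (hi : 1 ≤ i) (h₁ : IsCyclic (↥(derivedSeries G i) ⧸ (derivedSeries G (i + 1)).subgroupOf (derivedSeries G i))) (h₂ : IsCyclic (↥(derivedSeries G (i + 1)) ⧸ (derivedSeries G (i + 2)).subgroupOf (derivedSeries G (i + 1)))) : derivedSeries G (i + 1) = derivedSeries G (i + 2) := by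
  set D1 := derivedSeries G i with hD1
  set D2 := derivedSeries G (i + 1) with hD2
  set D3 := derivedSeries G (i + 2) with hD3
  haveI : D3.Normal := derivedSeries_normal G _
  haveI : D2.Normal := derivedSeries_normal G _
  have h32 : D3 ≤ D2 := derivedSeries_antitone G (by omega)
  have h21 : D2 ≤ D1 := derivedSeries_antitone G (by omega)
  refine le_antisymm ?_ h32
  obtain ⟨y, hy⟩ := h₁.exists_generator
  obtain ⟨z, hz⟩ := h₂.exists_generator
  obtain ⟨y, rfl⟩ := QuotientGroup.mk'_surjective _ y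
  obtain ⟨z, rfl⟩ := QuotientGroup.mk'_surjective _ z
  set q := QuotientGroup.mk' D3
  have hgen2 : ∀ d ∈ D2, ∃ k : ℤ, q d = q (z : G) ^ k := by
    intro d hd
    obtain ⟨k, hk⟩ := Subgroup.mem_zpowers_iff.mp (hz (QuotientGroup.mk' _ ⟨d, hd⟩))
    refine ⟨k, ?_⟩
    rw [← map_zpow, QuotientGroup.mk'_apply, QuotientGroup.mk'_apply, QuotientGroup.eq,
      Subgroup.mem_subgroupOf] at hk
    rw [← map_zpow]
    symm
    exact QuotientGroup.eq.mpr hk
  have hc2 : ∀ d ∈ D1, ∀ e ∈ D2, Commute (q d) (q e) := by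
    intro d hd e he
    have hd' : d ∈ commutator G := by
      rw [← derivedSeries_one]; exact derivedSeries_antitone G hi hd
    have : commutator G ≤ (Subgroup.centralizer {q (z : G)}).comap q := by
      rw [commutator_def, Subgroup.commutator_le]
      intro g _ h _
      rw [Subgroup.mem_comap, Subgroup.mem_centralizer_singleton_iff]
      obtain ⟨a, ha⟩ := hgen2 _ (Subgroup.Normal.conj_mem ‹D2.Normal› _ z.2 g⁻¹)
      obtain ⟨b, hb⟩ := hgen2 _ (Subgroup.Normal.conj_mem ‹D2.Normal› _ z.2 h⁻¹)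
      simp only [map_mul, map_inv, inv_inv] at ha hb
      set Z := q (z : G)
      set A := q g⁻¹ with hA
      set B := q h⁻¹ with hB
      have hg : q g = A⁻¹ := by rw [hA, map_inv, inv_inv]
      have hh : q h = B⁻¹ := by rw [hB, map_inv, inv_inv]
      rw [hg] at ha
      rw [hh] at hb
      rw [inv_inv] at ha hb
      rw [map_commutatorElement, hg, hh]
      have hab : A * B * Z * (A * B)⁻¹ = Z ^ (a * b) := by
        rw [show A * B * Z * (A * B)⁻¹ = A * (B * Z * B⁻¹) * A⁻¹ by group, hb, ← conj_zpow, ha,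
          ← zpow_mul]
      have hba : B * A * Z * (B * A)⁻¹ = Z ^ (a * b) := by
        rw [show B * A * Z * (B * A)⁻¹ = B * (A * Z * A⁻¹) * B⁻¹ by group, ha, ← conj_zpow, hb,
          ← zpow_mul, mul_comm]
      calc ⁅A⁻¹, B⁻¹⁆ * Z = (B * A)⁻¹ * (A * B * Z * (A * B)⁻¹) * (A * B) := by
            rw [commutatorElement_def]; group
        _ = (B * A)⁻¹ * (B * A * Z * (B * A)⁻¹) * (A * B) := by rw [hab, hba]
        _ = Z * ⁅A⁻¹, B⁻¹⁆ := by rw [commutatorElement_def]; group
    have hz' : Commute (q d) (q (z : G)) := Subgroup.mem_centralizer_singleton_iff.mp (this hd')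
    obtain ⟨k, hk⟩ := hgen2 e he
    rw [hk]
    exact hz'.zpow_right k
  have hgen1 : ∀ d ∈ D1, ∃ k : ℤ, ∃ e ∈ D2, q d = q (y : G) ^ k * q e := by
    intro d hd
    obtain ⟨k, hk⟩ := Subgroup.mem_zpowers_iff.mp (hy (QuotientGroup.mk' _ ⟨d, hd⟩))
    rw [← map_zpow, QuotientGroup.mk'_apply, QuotientGroup.mk'_apply, QuotientGroup.eq,
      Subgroup.mem_subgroupOf] at hk
    refine ⟨k, _, hk, ?_⟩
    rw [← map_zpow, ← map_mul]
    congr 1
    simp
  rw [hD2, derivedSeries_succ, Subgroup.commutator_le]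
  intro d hd d' hd'
  obtain ⟨k, e, he, hk⟩ := hgen1 d hd
  obtain ⟨k', e', he', hk'⟩ := hgen1 d' hd'
  rw [← QuotientGroup.eq_one_iff]
  show q ⁅d, d'⁆ = 1
  rw [map_commutatorElement, commutatorElement_eq_one_iff_mul_comm, hk, hk']
  have h1 : Commute (q (y : G) ^ k) (q (y : G) ^ k') := Commute.zpow_zpow_self _ _ _
  have h2 : ∀ (j : ℤ), ∀ x ∈ D2, Commute (q (y : G) ^ j) (q x) := fun j x hx =>
    (hc2 y y.2 x hx).zpow_left j
  have h3 : Commute (q e) (q e') := hc2 e (h21 he) e' he'
  exact ((h1.mul_right (h2 k e' he')).mul_left ((h2 k' e he).symm.mul_right h3)).eq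

end Cfsg.Agent.S0555
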