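import Cfsg.Statements.S0567
import Cfsg.Agent.Lib.Solvable.Basic
-- import your own Cfsg.Agent.* helpers here

set_option autoImplicit false
open Cfsg
open scoped commutatorElement

namespace Cfsg.Agent.S0567

/-- A subgroup H of a group G is subnormal exactly when, for some m, the subgroup obtained from G by taking the commutator with H m times in succession is contained in H. -/
theorem result {G : Type*} [Group G] (H : Subgroup G) : H.IsSubnormal ↔ ∃ m : ℕ, (fun K : Subgroup G => ⁅K, H⁆)^[m] ⊤ ≤ H := by
  have mono : ∀ {A B C D : Subgroup G}, A ≤ C → B ≤ D → ⁅A, B⁆ ≤ ⁅C, D⁆ :=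
    fun h1 h2 => Subgroup.commutator_mono h1 h2
  constructor
  · intro hH
    induction hH with
    | top => exact ⟨0, le_rfl⟩
    | step H K hle _ hN ih =>
      obtain ⟨m, hm⟩ := ih
      refine ⟨m + 1, ?_⟩
      have h1 : ∀ k, (fun L : Subgroup G => ⁅L, H⁆)^[k] ⊤ ≤ (fun L : Subgroup G => ⁅L, K⁆)^[k] ⊤ := by
        intro k
        induction k with
        | zero => exact le_rfl
        | succ k ihk =>
          rw [Function.iterate_succ_apply', Function.iterate_succ_apply']
          exact mono ihk hle
      rw [Function.iterate_succ_apply']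
      refine (mono ((h1 m).trans hm) le_rfl).trans (Subgroup.commutator_le.mpr fun k hk h hh => ?_)
      have hn := (Subgroup.normal_subgroupOf_iff_le_normalizer hle).mp hN hk
      rw [commutatorElement_def]
      exact H.mul_mem ((Subgroup.mem_normalizer_iff.mp hn h).mp hh) (H.inv_mem hh)
  · rintro ⟨m, hm⟩
    set K := fun i => (fun L : Subgroup G => ⁅L, H⁆)^[i] ⊤ with hK
    have key : ∀ i, (K i ⊔ H).IsSubnormal := by
      intro i
      induction i with
      | zero =>
        rw [show K 0 = ⊤ from rfl, top_sup_eq]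
        exact Subgroup.IsSubnormal.top
      | succ i ihi =>
        set X := K i with hX
        have hs : K (i + 1) = ⁅X, H⁆ := Function.iterate_succ_apply' _ _ _
        rw [hs]
        have hle : ⁅X, H⁆ ⊔ H ≤ X ⊔ H := by
          refine sup_le (Subgroup.commutator_le.mpr fun x hx h hh => ?_) le_sup_right
          rw [commutatorElement_def]
          exact mul_mem (mul_mem (mul_mem (Subgroup.mem_sup_left hx) (Subgroup.mem_sup_right hh))
            (inv_mem (Subgroup.mem_sup_left hx))) (inv_mem (Subgroup.mem_sup_right hh))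
        refine Subgroup.IsSubnormal.step _ _ hle ihi ?_
        rw [Subgroup.normal_subgroupOf_iff_le_normalizer hle]
        have conjX : ∀ x ∈ X, ∀ z ∈ ⁅X, H⁆ ⊔ H, x * z * x⁻¹ ∈ ⁅X, H⁆ ⊔ H := by
          intro x hx
          suffices h : ⁅X, H⁆ ⊔ H ≤ (⁅X, H⁆ ⊔ H).comap (MulAut.conj x).toMonoidHom from
            fun z hz => h hz
          refine sup_le (Subgroup.commutator_le.mpr fun x₂ hx₂ h hh => ?_) fun h hh => ?_
          · show x * ⁅x₂, h⁆ * x⁻¹ ∈ (⁅X, H⁆ ⊔ H : Subgroup G)
            have e : x * ⁅x₂, h⁆ * x⁻¹ = ⁅x * x₂, h⁆ * ⁅x, h⁆⁻¹ := by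
              simp only [commutatorElement_def]; group
            rw [e]
            exact Subgroup.mem_sup_left (mul_mem (Subgroup.commutator_mem_commutator
              (mul_mem hx hx₂) hh) (inv_mem (Subgroup.commutator_mem_commutator hx hh)))
          · show x * h * x⁻¹ ∈ (⁅X, H⁆ ⊔ H : Subgroup G)
            have e : x * h * x⁻¹ = ⁅x, h⁆ * h := by rw [commutatorElement_def]; group
            rw [e]
            exact Subgroup.mul_mem_sup (Subgroup.commutator_mem_commutator hx hh) hh
        refine sup_le (fun x hx => ?_) ((le_sup_right : H ≤ ⁅X, H⁆ ⊔ H).trans Subgroup.le_normalizer)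
        rw [Subgroup.mem_normalizer_iff]
        intro z
        refine ⟨conjX x hx z, fun hz => ?_⟩
        simpa [mul_assoc] using conjX x⁻¹ (inv_mem hx) _ hz
    have := key m
    rwa [sup_eq_right.mpr hm] at this

end Cfsg.Agent.S0567
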