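import Cfsg.Statements.S0570
import Cfsg.Agent.Lib.Solvable.Carter
-- import your own Cfsg.Agent.* helpers here

set_option autoImplicit false
open Cfsg

namespace Cfsg.Agent.S0570

/-- Let G be a finite group with a nilpotent normal subgroup F such that G modulo F is nilpotent (nilpotent length at most two). Then a subgroup of G is a Carter subgroup if and only if it is the system normalizer of some Hall complement system. -/
theorem result {G : Type*} [Group G] [Finite G] (F : Subgroup G) [F.Normal] (hF : Group.IsNilpotent F) (hGF : Group.IsNilpotent (G ⧸ F)) (C : Subgroup G) : Cfsg.IsCarterSubgroup C ↔ ∃ K : Nat.Primes → Subgroup G, Cfsg.IsComplementSystem K ∧ C = Cfsg.systemNormalizer K := by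
  haveI := hF
  haveI := hGF
  haveI : Group.IsSolvable G := Group.isSolvable_of_ker_le_range F.subtype (QuotientGroup.mk' F)
    (by rw [QuotientGroup.ker_mk', Subgroup.range_subtype])
  constructor
  · intro hC
    obtain ⟨K, hK, hred⟩ := CfsgLib.Solvable.Carter.exists_reduces hC.1
    exact ⟨K, hK, CfsgLib.Solvable.Carter.carter_eq_systemNormalizer F hF hGF hC hK hred⟩
  · rintro ⟨K, hK, rfl⟩
    obtain ⟨C, hC⟩ := CfsgLib.Solvable.Carter.exists_carter (G := G)
    obtain ⟨K₀, hK₀, hred⟩ := CfsgLib.Solvable.Carter.exists_reduces hC.1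
    have he := CfsgLib.Solvable.Carter.carter_eq_systemNormalizer F hF hGF hC hK₀ hred
    obtain ⟨D, hD, hle⟩ := CfsgLib.Solvable.Carter.exists_carter_ge hK
    obtain ⟨g, hg⟩ := CfsgLib.Solvable.HallSystem.conj_systems hK₀ hK
    suffices Cfsg.systemNormalizer K = D from this ▸ hD
    refine Subgroup.eq_of_le_of_card_ge hle ?_
    obtain ⟨x, hx⟩ := CfsgLib.Solvable.Carter.conj_eq hC hD
    rw [← hx, CfsgLib.Solvable.Basic.card_conj_smul, he,
      ← CfsgLib.Solvable.Basic.card_conj_smul g (Cfsg.systemNormalizer K₀)]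
    refine Nat.le_of_dvd Nat.card_pos (Subgroup.card_dvd_of_le ?_)
    intro d hd
    rw [CfsgLib.Solvable.Basic.mem_conj_smul] at hd
    simp only [Cfsg.systemNormalizer, Subgroup.mem_iInf] at hd ⊢
    intro p
    rw [← hg p, CfsgLib.Solvable.Basic.conj_smul_eq_map, ← Subgroup.map_equiv_normalizer_eq,
      ← CfsgLib.Solvable.Basic.conj_smul_eq_map, CfsgLib.Solvable.Basic.mem_conj_smul]
    exact hd p

end Cfsg.Agent.S0570
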