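import Cfsg.Statements.S0578
import Cfsg.Agent.Lib.Solvable.Cores
-- import your own Cfsg.Agent.* helpers here

set_option autoImplicit false
open Cfsg

namespace Cfsg.Agent.S0578

/-- If in a finite group the normalizer of each abelian subgroup coincides with its centralizer, then the group is abelian. -/
theorem result {G : Type*} [Group G] [Finite G] (h : ∀ A : Subgroup G, IsMulCommutative A → Subgroup.normalizer (A : Set G) = Subgroup.centralizer (A : Set G)) : IsMulCommutative G := by
  haveI := Fintype.ofFinite G
  have hsyl : ∀ (p : ℕ) [Fact p.Prime] (P : Sylow p G),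
      IsMulCommutative (P : Subgroup G) := by
    intro p _ P
    obtain ⟨A, -, hA, hmax⟩ := Finite.exists_le_maximal
      (p := fun A : Subgroup G => A ≤ (P : Subgroup G) ∧ (P : Subgroup G) ≤ Subgroup.normalizer (A : Set G)
        ∧ IsMulCommutative A) (a := ⊥)
      ⟨bot_le, by rw [Subgroup.normalizer_eq_top_iff.mpr Subgroup.normal_bot]; exact le_top,
        CfsgLib.Solvable.Basic.isMulCommutative_subgroup_iff.mpr fun a ha b hb => by
          rw [Subgroup.mem_bot] at ha hb; rw [ha, hb]⟩
    have hPC : (P : Subgroup G) ≤ Subgroup.centralizer (A : Set G) := (h A hA.2.2) ▸ hA.2.1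
    have hAP : A = (P : Subgroup G) := by
      by_contra hne
      haveI : (A.subgroupOf P).Normal := by
        rw [Subgroup.normal_subgroupOf_iff_le_normalizer hA.1]; exact hA.2.1
      haveI := P.isPGroup'.isNilpotent
      have hmap : (⊤ : Subgroup ((P : Subgroup G) ⧸ A.subgroupOf P)) ≠ ⊥ := by
        intro e
        apply hne
        refine le_antisymm hA.1 fun y hy => ?_
        have hm : ((⟨y, hy⟩ : (P : Subgroup G)) : (P : Subgroup G) ⧸ A.subgroupOf P) ∈
            (⊥ : Subgroup ((P : Subgroup G) ⧸ A.subgroupOf P)) := e ▸ Subgroup.mem_top _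
        rw [Subgroup.mem_bot, QuotientGroup.eq_one_iff] at hm
        exact hm
      haveI : Nontrivial ((P : Subgroup G) ⧸ A.subgroupOf P) :=
        (Subgroup.nontrivial_iff).mp (nontrivial_of_ne _ _ hmap)
      obtain ⟨q, hq, hq1⟩ := (Subgroup.bot_or_exists_ne_one _).resolve_left
        (Group.IsNilpotent.center_ne_bot (G := (P : Subgroup G) ⧸ A.subgroupOf P))
      obtain ⟨y, rfl⟩ := QuotientGroup.mk'_surjective _ q
      set M := A ⊔ Subgroup.zpowers (y : G)
      have hy : (y : G) ∉ A := fun e => hq1 ((QuotientGroup.eq_one_iff y).mpr e)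
      have hMP : M ≤ (P : Subgroup G) := sup_le hA.1 (Subgroup.zpowers_le.mpr y.2)
      have hMc : IsMulCommutative M := by
        rw [CfsgLib.Solvable.Basic.isMulCommutative_subgroup_iff]
        have h1 : M ≤ Subgroup.centralizer (M : Set G) := by
          refine sup_le ?_ ?_
          · rw [Subgroup.le_centralizer_iff]; exact hMP.trans hPC
          · rw [Subgroup.zpowers_le, ← SetLike.mem_coe]
            rw [SetLike.mem_coe, Subgroup.mem_centralizer_iff]
            intro m hm
            have : M ≤ Subgroup.centralizer {(y : G)} := sup_le (fun a ha =>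
              Subgroup.mem_centralizer_singleton_iff.mpr
                (Subgroup.mem_centralizer_iff.mp (hPC y.2) a ha))
              (Subgroup.zpowers_le.mpr (Subgroup.mem_centralizer_singleton_iff.mpr rfl))
            exact Subgroup.mem_centralizer_singleton_iff.mp (this hm)
        exact fun a ha b hb => (Subgroup.mem_centralizer_iff.mp (h1 ha) b hb).symm
      have hPM : (P : Subgroup G) ≤ Subgroup.normalizer (M : Set G) := by
        have hn : (M.subgroupOf (P : Subgroup G)).Normal := by
          refine ⟨fun m hm g => ?_⟩
          have h2 : (g * m * g⁻¹) * m⁻¹ ∈ A.subgroupOf P := by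
            have hZ : ((m : (P : Subgroup G)) : (P : Subgroup G) ⧸ A.subgroupOf P) ∈
                Subgroup.center ((P : Subgroup G) ⧸ A.subgroupOf P) := by
              have hMle : M.subgroupOf (P : Subgroup G) ≤
                  (Subgroup.center ((P : Subgroup G) ⧸ A.subgroupOf P)).comap
                    (QuotientGroup.mk' (A.subgroupOf P)) := by
                rw [Subgroup.subgroupOf_sup hA.1 (Subgroup.zpowers_le.mpr y.2)]
                refine sup_le (fun a ha => ?_) (fun a ha => ?_)
                · rw [Subgroup.mem_comap, show (QuotientGroup.mk' (A.subgroupOf P)) a = 1 from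
                    (QuotientGroup.eq_one_iff a).mpr ha]
                  exact one_mem _
                · obtain ⟨i, hi⟩ := Subgroup.mem_zpowers_iff.mp ha
                  have : a = y ^ i := Subtype.ext (by rw [Subgroup.coe_zpow]; exact hi.symm)
                  rw [this, Subgroup.mem_comap, map_zpow]
                  exact zpow_mem hq i
              exact hMle hm
            rw [← QuotientGroup.eq_one_iff, QuotientGroup.mk_mul, QuotientGroup.mk_mul,
              QuotientGroup.mk_mul, Subgroup.mem_center_iff.mp hZ, QuotientGroup.mk_inv,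
              QuotientGroup.mk_inv]
            group
          have h3 : M.subgroupOf (P : Subgroup G) = M.subgroupOf (P : Subgroup G) := rfl
          simpa using Subgroup.mul_mem _
            (show (g * m * g⁻¹) * m⁻¹ ∈ M.subgroupOf (P : Subgroup G) from
              (le_sup_left : A ≤ M) h2) hm
        exact (Subgroup.normal_subgroupOf_iff_le_normalizer hMP).mp hn
      exact hy (hmax ⟨hMP, hPM, hMc⟩ le_sup_left
        ((le_sup_right : Subgroup.zpowers (y : G) ≤ M) (Subgroup.mem_zpowers _)))
    exact hAP ▸ hA.2.2
  have key : ∀ (p : ℕ), p.Prime → ∀ x ∈ commutator G, ¬ p ∣ orderOf x := by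
    intro p hp x hx hd
    haveI := Fact.mk hp
    obtain ⟨P⟩ : Nonempty (Sylow p G) := inferInstance
    have hP : Subgroup.normalizer ((P : Subgroup G) : Set G) ≤
        Subgroup.centralizer ((P : Subgroup G) : Set G) := (h _ (hsyl p P)).le
    have hK := MonoidHom.ker_transferSylow_isComplement' P hP
    have hxK : x ∈ (MonoidHom.transferSylow P hP).ker := by
      haveI := hsyl p P
      refine (?_ : commutator G ≤ _) hx
      rw [commutator_def, Subgroup.commutator_le]
      intro a _ b _
      rw [MonoidHom.mem_ker, map_commutatorElement, commutatorElement_eq_one_iff_mul_comm]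
      exact mul_comm' _ _
    exact MonoidHom.not_dvd_card_ker_transferSylow P hP
      (hd.trans (Subgroup.orderOf_dvd_natCard _ hxK))
  have hbot : commutator G = ⊥ := by
    rw [eq_bot_iff]
    intro x hx
    rw [Subgroup.mem_bot, ← orderOf_eq_one_iff]
    exact Nat.eq_one_iff_not_exists_prime_dvd.mpr fun p hp => key p hp x hx
  rw [isMulCommutative_iff]
  intro a b
  rw [← commutatorElement_eq_one_iff_mul_comm, ← Subgroup.mem_bot, ← hbot]
  exact Subgroup.commutator_mem_commutator (Subgroup.mem_top a) (Subgroup.mem_top b)

end Cfsg.Agent.S0578
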