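import Cfsg.Statements.S0587
import Cfsg.Agent.Lib.Solvable.FrattiniFitting
import Cfsg.Agent.Lib.PGroup.Frattini
-- import your own Cfsg.Agent.* helpers here

set_option autoImplicit false
open Cfsg
open scoped Pointwise commutatorElement

namespace Cfsg.Agent.S0587

/-- Let G be a finite group whose largest normal p-subgroup L is nontrivial, and M a maximal subgroup of G with trivial normal core. Then L is elementary abelian, M is a complement to L, L is a minimal normal subgroup of G, the centralizer of L is L, and for every prime q such that the largest normal q-subgroup of M is nontrivial, the order of L is congruent to 1 modulo q and q ≠ p. -/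
theorem result {G : Type*} [Group G] [Finite G] (p : ℕ) [Fact p.Prime] (hL : Cfsg.pCore p G ≠ ⊥) (M : Subgroup G) (hM : IsCoatom M) (hcore : M.normalCore = ⊥) : Cfsg.IsElementaryAbelian p (Cfsg.pCore p G) ∧ Subgroup.IsComplement' (Cfsg.pCore p G) M ∧ (∀ K : Subgroup G, K.Normal → K ≤ Cfsg.pCore p G → K = ⊥ ∨ K = Cfsg.pCore p G) ∧ Subgroup.centralizer ((Cfsg.pCore p G : Subgroup G) : Set G) = Cfsg.pCore p G ∧ ∀ (q : ℕ) [Fact q.Prime], Cfsg.pCore q ↥M ≠ ⊥ → Nat.card (Cfsg.pCore p G) % q = 1 % q ∧ q ≠ p := by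
  set L := Cfsg.pCore p G with hLdef
  have hLU : ¬ L ≤ M := fun h =>
    hL (le_bot_iff.mp (hcore ▸ Subgroup.normal_le_normalCore.mpr h))
  have hsup : L ⊔ M = ⊤ := hM.2 _ (right_lt_sup.mpr hLU)
  have hΦ : frattini G = ⊥ :=
    le_bot_iff.mp (hcore ▸ Subgroup.normal_le_normalCore.mpr (frattini_le_coatom hM))
  have hLp : IsPGroup p L := CfsgLib.Solvable.Cores.isPGroup_pCore p
  have hΦL : frattini L = ⊥ := by
    have := CfsgLib.Solvable.FrattiniFitting.frattini_subtype_le L
    rw [hΦ, le_bot_iff, Subgroup.map_eq_bot_iff_of_injective _ L.subtype_injective] at this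
    exact this
  have hel : Cfsg.IsElementaryAbelian p L := by
    refine ⟨CfsgLib.Solvable.Basic.isMulCommutative_subgroup_iff.mpr fun a ha b hb => ?_,
      fun a ha => ?_⟩
    · have h1 := CfsgLib.PGroup.Frattini.commutatorElement_mem_frattini hLp
        (⟨a, ha⟩ : L) ⟨b, hb⟩
      rw [hΦL, Subgroup.mem_bot, commutatorElement_eq_one_iff_mul_comm] at h1
      exact congrArg Subtype.val h1
    · have h1 := CfsgLib.PGroup.Frattini.pow_mem_frattini hLp (⟨a, ha⟩ : L)
      rw [hΦL, Subgroup.mem_bot] at h1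
      exact congrArg Subtype.val h1
  haveI hI := CfsgLib.Solvable.FrattiniFitting.inf_normal_of_abelian hel.1 hsup
  have hbot : L ⊓ M = ⊥ :=
    le_bot_iff.mp (hcore ▸ Subgroup.normal_le_normalCore.mpr (inf_le_right : L ⊓ M ≤ M))
  have hmem : ∀ N : Subgroup G, N.Normal → N ≠ ⊥ → ∀ x : G, ∃ a ∈ N, ∃ b ∈ M, x = a * b := by
    intro N hN hN0 x
    haveI := hN
    have hNU : ¬ N ≤ M := fun h => hN0 (le_bot_iff.mp (hcore ▸ Subgroup.normal_le_normalCore.mpr h))
    have : x ∈ ((N ⊔ M : Subgroup G) : Set G) := by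
      rw [hM.2 _ (right_lt_sup.mpr hNU)]; trivial
    rw [Subgroup.normal_mul] at this
    obtain ⟨a, ha, b, hb, rfl⟩ := this
    exact ⟨a, ha, b, hb, rfl⟩
  have hmin : ∀ K : Subgroup G, K.Normal → K ≤ L → K = ⊥ ∨ K = L := by
    intro K hK hKL
    by_cases h0 : K = ⊥
    · exact Or.inl h0
    refine Or.inr (le_antisymm hKL fun x hx => ?_)
    obtain ⟨a, ha, b, hb, rfl⟩ := hmem K hK h0 x
    have : b ∈ L ⊓ M := ⟨by simpa using L.mul_mem (L.inv_mem (hKL ha)) hx, hb⟩
    rw [hbot, Subgroup.mem_bot] at this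
    rwa [this, mul_one]
  have hcent : Subgroup.centralizer (L : Set G) = L := by
    set C := Subgroup.centralizer (L : Set G)
    have hLC : L ≤ C := fun a ha => Subgroup.mem_centralizer_iff.mpr fun b hb =>
      CfsgLib.Solvable.Basic.isMulCommutative_subgroup_iff.mp hel.1 b hb a ha
    have hCn : (C ⊓ M).Normal := by
      rw [← Subgroup.normalizer_eq_top_iff, eq_top_iff]
      intro g _
      obtain ⟨a, ha, b, hb, rfl⟩ := hmem L inferInstance hL g
      refine Subgroup.mul_mem _ ?_ ?_
      · rw [Subgroup.mem_normalizer_iff]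
        intro y
        have key : ∀ z ∈ C, a * z * a⁻¹ = z := fun z hz => by
          rw [Subgroup.mem_centralizer_iff.mp hz a ha, mul_inv_cancel_right]
        constructor
        · intro hy; rwa [key y hy.1]
        · intro hy
          have hyC : y ∈ C := by
            simpa [mul_assoc] using (inferInstance : C.Normal).conj_mem _ hy.1 a⁻¹
          rwa [key y hyC] at hy
      · rw [Subgroup.mem_normalizer_iff]
        intro y
        constructor
        · intro hy
          exact ⟨(inferInstance : C.Normal).conj_mem _ hy.1 b,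
            M.mul_mem (M.mul_mem hb hy.2) (M.inv_mem hb)⟩
        · intro hy
          exact ⟨by simpa [mul_assoc] using (inferInstance : C.Normal).conj_mem _ hy.1 b⁻¹,
            by simpa [mul_assoc] using M.mul_mem (M.mul_mem (M.inv_mem hb) hy.2) hb⟩
    haveI := hCn
    have hCM : C ⊓ M = ⊥ :=
      le_bot_iff.mp (hcore ▸ Subgroup.normal_le_normalCore.mpr (inf_le_right : C ⊓ M ≤ M))
    refine le_antisymm (fun x hx => ?_) hLC
    obtain ⟨a, ha, b, hb, rfl⟩ := hmem L inferInstance hL x
    have : b ∈ C ⊓ M := ⟨by simpa using C.mul_mem (C.inv_mem (hLC ha)) hx, hb⟩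
    rw [hCM, Subgroup.mem_bot] at this
    rwa [this, mul_one]
  refine ⟨hel, CfsgLib.Solvable.FrattiniFitting.isComplement'_of_sup_inf hsup hbot, hmin, hcent, ?_⟩
  intro q _ hQ
  set Q := (Cfsg.pCore q M).map M.subtype with hQdef
  have hQM : Q ≤ M := Subgroup.map_subtype_le _
  have hQ0 : Q ≠ ⊥ := fun h => hQ ((Subgroup.map_eq_bot_iff_of_injective _ M.subtype_injective).mp h)
  have hQp : IsPGroup q Q := (CfsgLib.Solvable.Cores.isPGroup_pCore q).map _
  have hMQ : M ≤ Subgroup.normalizer (Q : Set G) := by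
    have h1 : (Q.subgroupOf M).Normal := by
      rw [hQdef, Subgroup.subgroupOf, Subgroup.comap_map_eq_self_of_injective M.subtype_injective]
      infer_instance
    exact (Subgroup.normal_subgroupOf_iff_le_normalizer hQM).mp h1
  -- the fixed points of Q on L
  set F := L ⊓ Subgroup.centralizer (Q : Set G) with hF
  have hFn : F.Normal := by
    rw [← Subgroup.normalizer_eq_top_iff, eq_top_iff]
    intro g _
    obtain ⟨a, ha, b, hb, rfl⟩ := hmem L inferInstance hL g
    refine Subgroup.mul_mem _ ?_ ?_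
    · rw [Subgroup.mem_normalizer_iff]
      intro y
      have key : ∀ z ∈ L, a * z * a⁻¹ = z := fun z hz => by
        rw [CfsgLib.Solvable.Basic.isMulCommutative_subgroup_iff.mp hel.1 a ha z hz,
          mul_inv_cancel_right]
      constructor
      · intro hy; rwa [key y hy.1]
      · intro hy
        have hyL : y ∈ L := by
          simpa [mul_assoc] using L.mul_mem (L.mul_mem (L.inv_mem ha) hy.1) ha
        rwa [key y hyL] at hy
    · have conjb : ∀ z ∈ F, ∀ c ∈ M, c * z * c⁻¹ ∈ F := by
        intro z hz c hc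
        refine ⟨(inferInstance : L.Normal).conj_mem z hz.1 c, Subgroup.mem_centralizer_iff.mpr ?_⟩
        intro w hw
        have hw' : c⁻¹ * w * c ∈ Q := by
          simpa using (Subgroup.mem_normalizer_iff.mp (hMQ (M.inv_mem hc)) w).mp hw
        have := Subgroup.mem_centralizer_iff.mp hz.2 _ hw'
        calc w * (c * z * c⁻¹) = c * ((c⁻¹ * w * c) * z) * c⁻¹ := by group
          _ = c * (z * (c⁻¹ * w * c)) * c⁻¹ := by rw [this]
          _ = c * z * c⁻¹ * w := by group
      rw [Subgroup.mem_normalizer_iff]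
      intro y
      refine ⟨fun hy => conjb y hy b hb, fun hy => ?_⟩
      simpa [mul_assoc] using conjb _ hy b⁻¹ (M.inv_mem hb)
  have hF0 : F = ⊥ := by
    refine (hmin F hFn inf_le_left).resolve_right fun h => hQ0 ?_
    have h1 : L ≤ Subgroup.centralizer (Q : Set G) := h ▸ inf_le_right
    rw [Subgroup.le_centralizer_iff, hcent] at h1
    exact le_bot_iff.mp (hbot ▸ le_inf h1 hQM)
  have hmod : Nat.card L ≡ 1 [MOD q] := by
    letI : MulAction Q L := MulAction.compHom L ((MulAut.conjNormal (H := L)).comp Q.subtype)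
    have h1 := hQp.card_modEq_card_fixedPoints (α := L)
    have h2 : Nat.card (MulAction.fixedPoints Q L) = 1 := by
      rw [Nat.card_eq_one_iff_unique]
      refine ⟨⟨fun a b => ?_⟩, ⟨⟨1, fun c => map_one (MulAut.conjNormal (H := L) (c : G))⟩⟩⟩
      have hone : ∀ a : MulAction.fixedPoints Q L, ((a : L) : G) = 1 := by
        intro a
        have : ((a : L) : G) ∈ F := by
          refine ⟨(a : L).2, Subgroup.mem_centralizer_iff.mpr fun w hw => ?_⟩
          have h3 : w * ((a : L) : G) * w⁻¹ = ((a : L) : G) :=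
            congrArg Subtype.val (a.2 ⟨w, hw⟩)
          exact mul_inv_eq_iff_eq_mul.mp h3
        rwa [hF0, Subgroup.mem_bot] at this
      exact Subtype.ext (Subtype.ext ((hone a).trans (hone b).symm))
    rwa [h2] at h1
  refine ⟨hmod, fun hqp => ?_⟩
  subst hqp
  obtain ⟨k, hk⟩ := IsPGroup.iff_card.mp hLp
  have hk0 : k ≠ 0 := by
    rintro rfl; exact hL (Subgroup.card_eq_one.mp (by simpa using hk))
  have h1 : q ∣ Nat.card L := hk ▸ dvd_pow_self q hk0
  have h2 : 1 ≡ 0 [MOD q] := hmod.symm.trans (Nat.modEq_zero_iff_dvd.mpr h1)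
  exact (Fact.out : q.Prime).ne_one (Nat.dvd_one.mp (Nat.modEq_zero_iff_dvd.mp h2))

end Cfsg.Agent.S0587
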