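import Cfsg.Statements.S0588
import Cfsg.Agent.Lib.Solvable.Cores
-- import your own Cfsg.Agent.* helpers here

set_option autoImplicit false
open Cfsg

namespace Cfsg.Agent.S0588

/-- If a subgroup H of a finite group G contains the centralizer of every non-identity element of H, then the order of H is coprime to its index. -/
theorem result {G : Type*} [Group G] [Finite G] (H : Subgroup G) (h : ∀ x ∈ H, x ≠ 1 → Subgroup.centralizer ({x} : Set G) ≤ H) : (Nat.card H).Coprime H.index := by
  refine Nat.coprime_of_dvd fun p hp hpH hpI => ?_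
  haveI := Fact.mk hp
  obtain ⟨P⟩ : Nonempty (Sylow p H) := inferInstance
  obtain ⟨S, hPS⟩ := IsPGroup.exists_le_sylow (P.isPGroup'.map H.subtype)
  obtain ⟨x₀, hx⟩ := (Subgroup.ne_bot_iff_exists_ne_one).mp (P.ne_bot_of_dvd_card hpH)
  have hxS : ((x₀ : H) : G) ∈ (S : Subgroup G) := hPS (Subgroup.mem_map_of_mem _ x₀.2)
  haveI : Nontrivial (S : Subgroup G) :=
    (Subgroup.nontrivial_iff_ne_bot _).mpr (S.ne_bot_of_dvd_card (hpH.trans H.card_subgroup_dvd_card))
  obtain ⟨z, hz, hz1⟩ := (Subgroup.bot_or_exists_ne_one _).resolve_left (S.isPGroup'.bot_lt_center.ne')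
  have hzH : (z : G) ∈ H := by
    refine h _ (x₀ : H).2 (fun e => hx (Subtype.ext (Subtype.ext e))) ?_
    rw [Subgroup.mem_centralizer_singleton_iff]
    exact congrArg Subtype.val (Subgroup.mem_center_iff.mp hz ⟨_, hxS⟩).symm
  have hSH : (S : Subgroup G) ≤ H := by
    intro y hy
    refine h _ hzH (fun e => hz1 (Subtype.ext e)) ?_
    rw [Subgroup.mem_centralizer_singleton_iff]
    exact congrArg Subtype.val (Subgroup.mem_center_iff.mp hz ⟨y, hy⟩)
  exact S.not_dvd_index (hpI.trans (Subgroup.index_dvd_of_le hSH))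

end Cfsg.Agent.S0588
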