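import Cfsg.Statements.S0589
import Cfsg.Agent.Lib.FrobRealize.Conjugate

set_option autoImplicit false
open Pointwise
open Cfsg

namespace Cfsg.Agent.S0589

open scoped Pointwise
open Subgroup CfsgLib.FrobRealize

theorem aux {G : Type*} [Group G] [Finite G] {H : Subgroup G}
    (hH : Cfsg.IsFrobeniusComplement H) (L : Subgroup G) (hL : Nat.card L ∣ Nat.card H) :
    ∃ x : G, L ≤ MulAut.conj x • H := by
  obtain ⟨N, hNn, hN1, hHN, hfpf, hcompl, hset⟩ := FPF.exists_fpf_kernel hH
  have := hNn
  have hcop : (Nat.card N).Coprime (Nat.card L) :=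
    Nat.Coprime.coprime_dvd_right hL (FPF.coprime_card hHN hfpf).symm
  have hLN : L ≤ normalizer (N : Set G) := by rw [normalizer_eq_top]; exact le_top
  have hdis : Disjoint N L := disjoint_iff.2 (inf_eq_bot_of_coprime hcop)
  set V := (N ⊔ L) ⊓ H with hV
  have hVN : V ≤ normalizer (N : Set G) := inf_le_right.trans hHN
  have hsup : L ≤ N ⊔ V := by
    intro x hx
    obtain ⟨⟨n, h⟩, hnh⟩ := hcompl.2 x
    rw [← hnh]
    refine mul_mem_sup n.2 (mem_inf.2 ⟨?_, h.2⟩)
    have : (h : G) = (n : G)⁻¹ * x := by rw [← hnh]; simp [mul_assoc]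
    rw [this]
    exact mul_mem (mem_sup_left (inv_mem n.2)) (mem_sup_right hx)
  have hcard : Nat.card L = Nat.card V := by
    have e : N ⊔ V = N ⊔ L :=
      le_antisymm (sup_le le_sup_left inf_le_left) (sup_le le_sup_left hsup)
    have h1 := CfsgLib.Coprime.card_sup_of_le_normalizer hLN hdis
    rw [← e, CfsgLib.Coprime.card_sup_of_le_normalizer hVN
      (hcompl.disjoint.mono_right inf_le_right)] at h1
    exact (Nat.eq_of_mul_eq_mul_left Nat.card_pos h1).symm
  have hsolv : Group.IsSolvable N ∨ Group.IsSolvable L := by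
    by_cases h2 : 2 ∣ Nat.card H
    · exact Or.inl (Group.isSolvable_of_comm fun a b =>
        Subtype.ext (Conjugate.kernel_comm_of_even hH h2 hset a a.2 b b.2))
    · have := Conjugate.isSolvable_of_odd hH h2
      have hsurj : Function.Surjective ((QuotientGroup.mk' N).comp H.subtype) := fun y => by
        obtain ⟨y', rfl⟩ := QuotientGroup.mk'_surjective N y
        obtain ⟨⟨n, h⟩, hnh⟩ := hcompl.2 y'
        refine ⟨h, ?_⟩
        rw [← hnh]
        show QuotientGroup.mk' N (h : G) = QuotientGroup.mk' N ((n : G) * h)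
        rw [map_mul, show QuotientGroup.mk' N (n : G) = 1 from
          (QuotientGroup.eq_one_iff _).2 n.2, one_mul]
      have := Group.isSolvable_of_surjective (f := (QuotientGroup.mk' N).comp H.subtype) hsurj
      refine Or.inr (Group.isSolvable_of_isSolvable_injective
        (f := (QuotientGroup.mk' N).comp L.subtype) ((MonoidHom.ker_eq_bot_iff _).1 ?_))
      rw [eq_bot_iff]
      intro x hx
      have hxN : (x : G) ∈ N := (QuotientGroup.eq_one_iff (x : G)).1 hx
      exact mem_bot.2 (Subtype.ext (mem_bot.1 (hdis.le_bot (mem_inf.2 ⟨hxN, x.2⟩))))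
  obtain ⟨n, -, hn⟩ := CfsgLib.Coprime.exists_conj_eq hsolv hLN hVN hsup hcard hcop
  refine ⟨n⁻¹, fun x hx => Kernel.mem_conj_smul.2 ?_⟩
  rw [inv_inv]
  exact ((le_of_eq hn).trans inf_le_right) ⟨x, hx, rfl⟩


/-- Let H be a Frobenius complement in a finite group G and L a subgroup of G whose order divides the order of H. Then L is contained in some conjugate of H. -/
theorem result {G : Type*} [Group G] [Finite G] (H : Subgroup G) (hH : Cfsg.IsFrobeniusComplement H) (L : Subgroup G) (hL : Nat.card L ∣ Nat.card H) : ∃ x : G, L ≤ MulAut.conj x • H := by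
  exact aux hH L hL
end Cfsg.Agent.S0589
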