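import Cfsg.Statements.S0590
import Cfsg.Agent.Lib.Fusion.Thompson
import Cfsg.Agent.Lib.OddOrder.Stabilize

set_option autoImplicit false
open Cfsg
open scoped commutatorElement

namespace Cfsg.Agent.S0590

/-- Quadratic action on an elementary abelian p-group forces the acting group modulo the kernel of the action to be elementary abelian. -/
theorem result {G : Type*} [Group G] [Finite G] {p : ℕ} [Fact p.Prime] (V H : Subgroup G) (hV : Cfsg.IsElementaryAbelian p V) (hHV : H ≤ Subgroup.normalizer (V : Set G)) (hq : ⁅⁅V, H⁆, H⁆ = ⊥) : ⁅H, H⁆ ≤ Subgroup.centralizer (V : Set G) ∧ ∀ a ∈ H, a ^ p ∈ Subgroup.centralizer (V : Set G) := by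
  refine ⟨?_, fun a ha => ?_⟩
  · rw [← Subgroup.commutator_eq_bot_iff_le_centralizer]
    refine Subgroup.commutator_commutator_eq_bot_of_rotate ?_ ?_
    · rw [Subgroup.commutator_comm H V]; exact hq
    · exact hq
  · intro v hv
    set c := v⁻¹ * a * v * a⁻¹ with hc
    have hcV : c ∈ V := by
      rw [hc, show v⁻¹ * a * v * a⁻¹ = v⁻¹ * (a * v * a⁻¹) by group]
      exact V.mul_mem (V.inv_mem hv) ((Subgroup.mem_normalizer_iff.mp (hHV ha) v).mp hv)
    have hcc : Commute a c := by
      have h1 : c ∈ ⁅V, H⁆ := by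
        rw [show c = ⁅v⁻¹, a⁆ by rw [hc, commutatorElement_def]; group]
        exact Subgroup.commutator_mem_commutator (V.inv_mem hv) ha
      have h2 := Subgroup.commutator_mem_commutator h1 ha
      rw [hq, Subgroup.mem_bot, commutatorElement_eq_one_iff_mul_comm] at h2
      exact h2.symm
    have h3 := CfsgLib.OddOrder.Stabilize.conj_pow_eq_mul_pow (a := a) (h := v) (c := c)
      (by rw [hc]; group) hcc p
    rw [hV.2 c hcV, mul_one] at h3
    calc v * a ^ p = a ^ p * v * (a ^ p)⁻¹ * a ^ p := by rw [h3]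
      _ = a ^ p * v := by group


end Cfsg.Agent.S0590
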