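import Cfsg.Statements.S0591
import Cfsg.Agent.Lib.Fusion.Thompson

set_option autoImplicit false
open Cfsg
open scoped commutatorElement

namespace Cfsg.Agent.S0591

/-- For a quadratically acting element a on an elementary abelian p-group V, the fixed points C_V(a) have order at least the square root of the order of V. -/
theorem result {G : Type*} [Group G] [Finite G] {p : ℕ} [Fact p.Prime] (V : Subgroup G) (hV : Cfsg.IsElementaryAbelian p V) (a : G) (ha : a ∈ Subgroup.normalizer (V : Set G)) (hq : ⁅⁅V, Subgroup.zpowers a⁆, Subgroup.zpowers a⁆ = ⊥) : Nat.card V ≤ Nat.card ↥(V ⊓ Subgroup.centralizer (Subgroup.zpowers a : Set G)) ^ 2 := by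
  set C := V ⊓ Subgroup.centralizer (Subgroup.zpowers a : Set G) with hC
  have hmem : ∀ v ∈ V, ⁅v, a⁆ ∈ C := by
    intro v hv
    have h1 : ⁅v, a⁆ ∈ ⁅V, Subgroup.zpowers a⁆ :=
      Subgroup.commutator_mem_commutator hv (Subgroup.mem_zpowers a)
    refine ⟨?_, fun b hb => ?_⟩
    · rw [show ⁅v, a⁆ = v * (a * v⁻¹ * a⁻¹) by rw [commutatorElement_def]; group]
      exact V.mul_mem hv ((Subgroup.mem_normalizer_iff.mp ha v⁻¹).mp (V.inv_mem hv))
    · have h2 := Subgroup.commutator_mem_commutator h1 hb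
      rw [hq, Subgroup.mem_bot, commutatorElement_eq_one_iff_mul_comm] at h2
      exact h2.symm
  let f : V →* C := MonoidHom.mk' (fun v => ⟨⁅(v : G), a⁆, hmem v v.2⟩) (fun v w => Subtype.ext (by
    show ⁅(v : G) * w, a⁆ = ⁅(v : G), a⁆ * ⁅(w : G), a⁆
    have h1 := CfsgLib.Fusion.Thompson.mul_comm_of_isEA hV v.2 (hmem w w.2).1
    have h2 := CfsgLib.Fusion.Thompson.mul_comm_of_isEA hV (hmem v v.2).1 (hmem w w.2).1
    calc ⁅(v : G) * w, a⁆ = (v : G) * ⁅(w : G), a⁆ * (v : G)⁻¹ * ⁅(v : G), a⁆ := by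
          simp only [commutatorElement_def]; group
      _ = ⁅(w : G), a⁆ * ⁅(v : G), a⁆ := by rw [h1, mul_inv_cancel_right]
      _ = _ := h2.symm))
  have hker : Nat.card f.ker ≤ Nat.card C := by
    have hle : f.ker.map V.subtype ≤ C := by
      rintro _ ⟨v, hv, rfl⟩
      refine ⟨v.2, ?_⟩
      have h1 : (v : G) * a = a * v :=
        commutatorElement_eq_one_iff_mul_comm.mp (congrArg Subtype.val hv)
      rw [Subgroup.zpowers_eq_closure, Subgroup.centralizer_closure]
      exact Subgroup.mem_centralizer_singleton_iff.mpr h1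
    calc Nat.card f.ker = Nat.card (f.ker.map V.subtype) :=
          (Subgroup.card_map_of_injective V.subtype_injective).symm
      _ ≤ _ := Subgroup.card_le_of_le hle
  rw [← f.ker.card_mul_index, Subgroup.index_ker, sq]
  exact Nat.mul_le_mul hker (Subgroup.card_le_card_group _)


end Cfsg.Agent.S0591
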