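import Cfsg.Statements.S0592
import Cfsg.Agent.Lib.Fusion.QuadSplit
import Cfsg.Agent.Lib.Fusion.QuadSection

set_option autoImplicit false
open Cfsg

namespace Cfsg.Agent.S0592

/-- Two quadratically acting generators of a linear group that is not a p-group, with the p'-part of the order of their product dividing q - 1, give a homomorphism onto a subgroup of SL(2, q) that is not a p-group. -/
theorem result {K : Type*} [Field K] [Fintype K] {p : ℕ} [Fact p.Prime] [CharP K p] {W : Type*} [AddCommGroup W] [Module K W] [FiniteDimensional K W] [Finite W] [Nontrivial W] (H : Subgroup (W ≃ₗ[K] W)) (a b : W ≃ₗ[K] W) (hH : H = Subgroup.closure {a, b}) (ha : ∀ w : W, a (a w - w) = a w - w) (hb : ∀ w : W, b (b w - w) = b w - w) (hnp : ¬ IsPGroup p H) (hk : ∃ e k : ℕ, orderOf (a * b) = p ^ e * k ∧ k ∣ Fintype.card K - 1) : ∃ φ : H →* Matrix.SpecialLinearGroup (Fin 2) K, ¬ IsPGroup p φ.range := by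
  haveI : Finite (W ≃ₗ[K] W) := Finite.of_injective (fun e => (e : W → W)) DFunLike.coe_injective
  have haH : a ∈ H := hH ▸ Subgroup.subset_closure (Or.inl rfl)
  have hbH : b ∈ H := hH ▸ Subgroup.subset_closure (Or.inr rfl)
  let ρ : H →* Module.End K W := (DistribMulAction.toModuleEnd K W).comp H.subtype
  have hgen : Subgroup.closure ({⟨a, haH⟩, ⟨b, hbH⟩} : Set H) = ⊤ :=
    CfsgLib.Fusion.QuadSection.closure_pair_top hH haH hbH
  obtain ⟨c, hc, hc1⟩ := CfsgLib.Fusion.QuadStable.exists_coprime_ne_one (p := p) hnp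
  obtain ⟨e, k, hord, hkq⟩ := hk
  obtain ⟨φ, hφ⟩ := CfsgLib.Fusion.QuadSplit.exists_hom (p := p) (⟨a, haH⟩ : H) ⟨b, hbH⟩ hgen
    ⟨e, k, by rw [← Subgroup.orderOf_coe]; exact hord.dvd, hkq⟩ (Nat.card W) W rfl ρ ha hb c hc
    (fun e' => hc1 (Subtype.ext (LinearEquiv.ext fun w => by
      have := LinearMap.congr_fun e' w
      exact this)))
  refine ⟨φ, fun hp' => hφ ?_⟩
  have h1 := CfsgLib.Fusion.Basic.eq_one_of_isPGroup_of_coprime hp' (x := φ.rangeRestrict c)
    (Nat.Coprime.coprime_dvd_left (orderOf_map_dvd _ c) hc)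
  exact congrArg Subtype.val h1

end Cfsg.Agent.S0592
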