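import Cfsg.Statements.S0594
import Cfsg.Agent.Lib.Fusion.QuadSection

set_option autoImplicit false
open Cfsg
open scoped IsMulCommutative

namespace Cfsg.Agent.S0594

/-- For odd p, two quadratic generators of a faithful group that is not a p-group, one of which acts nontrivially on a normal subgroup of order prime to p, force p = 3 and a section isomorphic to SL(2,3). -/
theorem result {G : Type*} [Group G] [Finite G] {p : ℕ} [Fact p.Prime] (hp : p ≠ 2) (V H : Subgroup G) (hV : Cfsg.IsElementaryAbelian p V) (hHV : H ≤ Subgroup.normalizer (V : Set G)) (hf : H ⊓ Subgroup.centralizer (V : Set G) = ⊥) (a b : G) (hab : H = Subgroup.closure {a, b}) (ha : ⁅⁅V, Subgroup.zpowers a⁆, Subgroup.zpowers a⁆ = ⊥) (hb : ⁅⁅V, Subgroup.zpowers b⁆, Subgroup.zpowers b⁆ = ⊥) (hnp : ¬ IsPGroup p H) (Q : Subgroup G) (hQH : Q ≤ H) (hQn : H ≤ Subgroup.normalizer (Q : Set G)) (hQ : (Nat.card Q).Coprime p) (hQa : ⁅Q, Subgroup.zpowers a⁆ ≠ ⊥) : p = 3 ∧ ∃ (K L : Subgroup G) (hL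 : (L.subgroupOf K).Normal), K ≤ H ∧ Nonempty ((K ⧸ L.subgroupOf K) ≃* Matrix.SpecialLinearGroup (Fin 2) (ZMod 3)) := by
  haveI := hV.1
  have hρ := CfsgLib.Fusion.QuadStable.conjEnd_injective hHV hf
  have hW := CfsgLib.Fusion.QuadStable.additive_exponent hV
  have haH : a ∈ H := hab ▸ Subgroup.subset_closure (Or.inl rfl)
  have hbH : b ∈ H := hab ▸ Subgroup.subset_closure (Or.inr rfl)
  have hgen := CfsgLib.Fusion.QuadSection.closure_pair_top hab haH hbH
  obtain ⟨q, hq, hqc⟩ : ∃ q ∈ Q, q * a ≠ a * q := by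
    by_contra hall
    push Not at hall
    refine hQa (Subgroup.commutator_eq_bot_iff_le_centralizer.mpr fun q hq => ?_)
    rw [Subgroup.mem_centralizer_iff]
    intro y hy
    obtain ⟨i, rfl⟩ := Subgroup.mem_zpowers_iff.mp hy
    exact ((show Commute q a from hall q hq).zpow_right i).eq.symm
  haveI : (Q.subgroupOf H).Normal := Subgroup.normal_subgroupOf_of_le_normalizer hQn
  obtain ⟨h3, L, f, hfs⟩ := CfsgLib.Fusion.QuadStable.section_of_pair_normal hp hW _ hρ _ _ hgen
    (CfsgLib.Fusion.QuadStable.conjEnd_isQuad hHV haH ha)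
    (CfsgLib.Fusion.QuadStable.conjEnd_isQuad hHV hbH hb) (Q.subgroupOf H)
    (by rwa [Nat.card_congr (Subgroup.subgroupOfEquivOfLe hQH).toEquiv]) (q := ⟨q, hQH hq⟩) hq
    (fun e => hqc (congrArg Subtype.val e))
  exact ⟨h3, CfsgLib.Fusion.QuadSection.exists_section L f hfs⟩

end Cfsg.Agent.S0594
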