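import Cfsg.Statements.S0597
import Cfsg.Agent.Lib.Fusion.SubnormalJoin
import Cfsg.Agent.Lib.LocalEven.Residual
-- import your own Cfsg.Agent.* helpers here

set_option autoImplicit false
open Cfsg
open scoped commutatorElement

namespace Cfsg.Agent.S0597

/-- If two subnormal subgroups of a faithful group on an elementary abelian p-group satisfy [V, E₁, E₂] = 1, then their commutator lies in the largest normal p-subgroup. -/
theorem result {G : Type*} [Group G] [Finite G] {p : ℕ} [Fact p.Prime] (V H : Subgroup G) (hV : Cfsg.IsElementaryAbelian p V) (hHV : H ≤ Subgroup.normalizer (V : Set G)) (hf : H ⊓ Subgroup.centralizer (V : Set G) = ⊥) (E₁ E₂ : Subgroup G) (h₁ : E₁ ≤ H) (h₂ : E₂ ≤ H) (hs₁ : (E₁.subgroupOf H).IsSubnormal) (hs₂ : (E₂.subgroupOf H).IsSubnormal) (hc : ⁅⁅V, E₁⁆, E₂⁆ = ⊥) : ⁅E₁, E₂⁆ ≤ (Cfsg.pCore p H).map H.subtype := by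
  obtain ⟨hVc, hVp⟩ := hV
  set W : Subgroup G := ⁅V, E₁⁆ with hW
  have hE₁V : E₁ ≤ Subgroup.normalizer (V : Set G) := h₁.trans hHV
  have hE₂V : E₂ ≤ Subgroup.normalizer (V : Set G) := h₂.trans hHV
  have hWV : W ≤ V := Subgroup.le_normalizer_iff_commutator_le_left.1 hE₁V
  have hE₁W : E₁ ≤ Subgroup.normalizer (W : Set G) := (Subgroup.normalizer_commutator_ge_right _ _)
  have hE₂W : E₂ ≤ Subgroup.normalizer (W : Set G) := by
    rw [Subgroup.le_normalizer_iff_commutator_le_left, hc]; exact bot_le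
  -- `D` centralises `W`
  have hDW : ⁅⁅E₁, E₂⁆, W⁆ = ⊥ := by
    refine Subgroup.commutator_commutator_eq_bot_of_rotate ?_ ?_
    · rw [Subgroup.commutator_comm E₂ W, hc, Subgroup.commutator_bot_left]
    · exact le_bot_iff.1 ((Subgroup.commutator_mono
        (Subgroup.le_normalizer_iff_commutator_le_left.1 hE₁W) le_rfl).trans hc.le)
  -- elements acting trivially on `V / W`
  let Q : Subgroup G :=
    { carrier := {h | h ∈ Subgroup.normalizer (V : Set G) ∧ h ∈ Subgroup.normalizer (W : Set G) ∧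
        ∀ v ∈ V, h * v * h⁻¹ * v⁻¹ ∈ W}
      one_mem' := ⟨one_mem _, one_mem _, fun v _ => by simp [W.one_mem]⟩
      mul_mem' := by
        rintro a b ⟨haV, haW, ha⟩ ⟨hbV, hbW, hb⟩
        refine ⟨mul_mem haV hbV, mul_mem haW hbW, fun v hv => ?_⟩
        have e : a * b * v * (a * b)⁻¹ * v⁻¹ =
            (a * (b * v * b⁻¹ * v⁻¹) * a⁻¹) * (a * v * a⁻¹ * v⁻¹) := by group
        rw [e]
        exact mul_mem ((Subgroup.mem_normalizer_iff.1 haW _).1 (hb v hv)) (ha v hv)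
      inv_mem' := by
        rintro a ⟨haV, haW, ha⟩
        refine ⟨inv_mem haV, inv_mem haW, fun v hv => ?_⟩
        have e : a⁻¹ * v * a⁻¹⁻¹ * v⁻¹ = a⁻¹ * (a * v * a⁻¹ * v⁻¹)⁻¹ * a⁻¹⁻¹ := by group
        rw [e]
        exact (Subgroup.mem_normalizer_iff.1 (inv_mem haW) _).1 (inv_mem (ha v hv)) }
  have hE₁Q : E₁ ≤ Q := fun a ha => ⟨hE₁V ha, hE₁W ha, fun v hv => by
    have h := W.inv_mem (Subgroup.commutator_mem_commutator hv ha)
    rw [commutatorElement_inv] at h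
    exact h⟩
  have hDQ : ⁅E₁, E₂⁆ ≤ Q := by
    rw [Subgroup.commutator_le]
    intro a ha b hb
    have e : ⁅a, b⁆ = a * (b * a⁻¹ * b⁻¹) := by
      rw [commutatorElement_def]; group
    rw [e]
    refine Q.mul_mem (hE₁Q ha) ?_
    obtain ⟨hqV, hqW, hq⟩ := hE₁Q (inv_mem ha)
    refine ⟨mul_mem (mul_mem (hE₂V hb) hqV) (inv_mem (hE₂V hb)),
      mul_mem (mul_mem (hE₂W hb) hqW) (inv_mem (hE₂W hb)), fun v hv => ?_⟩
    have hu : b⁻¹ * v * b⁻¹⁻¹ ∈ V :=
      (Subgroup.mem_normalizer_iff.1 (inv_mem (hE₂V hb)) v).1 hv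
    have e2 : b * a⁻¹ * b⁻¹ * v * (b * a⁻¹ * b⁻¹)⁻¹ * v⁻¹ =
        b * (a⁻¹ * (b⁻¹ * v * b⁻¹⁻¹) * a⁻¹⁻¹ * (b⁻¹ * v * b⁻¹⁻¹)⁻¹) * b⁻¹ := by group
    rw [e2]
    exact (Subgroup.mem_normalizer_iff.1 (hE₂W hb) _).1 (hq _ hu)
  have hDH : ⁅E₁, E₂⁆ ≤ H :=
    (Subgroup.commutator_mono h₁ h₂).trans (Subgroup.commutator_le_self H)
  have hpow : ∀ d ∈ ⁅E₁, E₂⁆, d ^ p = 1 := by
    intro d hd
    obtain ⟨hdV, -, hd'⟩ := hDQ hd
    have hcen := Subgroup.commutator_eq_bot_iff_le_centralizer.1 hDW hd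
    have hmem : d ^ p ∈ H ⊓ Subgroup.centralizer (V : Set G) := by
      refine ⟨pow_mem (hDH hd) p, Subgroup.mem_centralizer_iff.2 fun v hv => ?_⟩
      have hwW := hd' v hv
      set w := d * v * d⁻¹ * v⁻¹ with hw
      have hdw : d * w = w * d := ((Subgroup.mem_centralizer_iff.1 hcen) w hwW).symm
      have key : ∀ k : ℕ, d ^ k * v = w ^ k * v * d ^ k := by
        intro k
        induction k with
        | zero => simp
        | succ k ih =>
          have hcomm : d * w ^ k = w ^ k * d := (Commute.pow_right (show Commute d w from hdw) k)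
          have e1 : d * v = w * v * d := by rw [hw]; group
          rw [pow_succ', mul_assoc, ih, ← mul_assoc, ← mul_assoc, hcomm, mul_assoc (w ^ k) d v, e1,
            pow_succ w k]
          group
      have := key p
      rw [hVp w (hWV hwW), one_mul] at this
      exact this.symm
    rw [hf] at hmem
    exact Subgroup.mem_bot.1 hmem
  -- subnormality
  have hsn := CfsgLib.Fusion.SubnormalJoin.sup_isSubnormal hs₁ hs₂
  rw [← Subgroup.subgroupOf_sup h₁ h₂] at hsn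
  have hle : ⁅E₁, E₂⁆ ≤ E₁ ⊔ E₂ := Subgroup.commutator_le_sup _ _
  have hDsn : (⁅E₁, E₂⁆.subgroupOf H).IsSubnormal := by
    have hle' : ⁅E₁, E₂⁆.subgroupOf H ≤ (E₁ ⊔ E₂).subgroupOf H := Subgroup.comap_mono hle
    refine Subgroup.IsSubnormal.step _ _ hle' hsn ?_
    rw [Subgroup.normal_subgroupOf_iff_le_normalizer hle']
    intro x hx
    have hx' : (x : G) ∈ Subgroup.normalizer ((⁅E₁, E₂⁆ : Subgroup G) : Set G) :=
      sup_le (Subgroup.normalizer_commutator_ge_left _ _) (Subgroup.normalizer_commutator_ge_right _ _) hx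
    rw [Subgroup.mem_normalizer_iff] at hx' ⊢
    exact fun y => hx' y
  have hDp : IsPGroup p (⁅E₁, E₂⁆.subgroupOf H) := fun x =>
    ⟨1, Subtype.ext (Subtype.ext (by simpa using hpow _ x.2))⟩
  have hfin := CfsgLib.LocalEven.Residual.le_pCore_of_isSubnormal hDsn hDp
  intro d hd
  exact ⟨⟨d, hDH hd⟩, hfin (show (⟨d, hDH hd⟩ : H) ∈ ⁅E₁, E₂⁆.subgroupOf H from hd), rfl⟩

end Cfsg.Agent.S0597
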