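import Cfsg.Statements.S0600
import Cfsg.Agent.Lib.Fusion.Basic
import Cfsg.Agent.Lib.Solvable.Cores

set_option autoImplicit false
open Cfsg
open scoped commutatorElement

namespace Cfsg.Agent.S0600

/-- A normal elementary abelian p-subgroup generated by the fixed points of the Sylow p-subgroups admits no nontrivial normal p-subgroup of G modulo its centralizer. -/
theorem result {G : Type*} [Group G] [Finite G] {p : ℕ} [Fact p.Prime] (V : Subgroup G) [V.Normal] (hV : Cfsg.IsElementaryAbelian p V) (hgen : V = ⨆ S : Sylow p G, V ⊓ Subgroup.centralizer ((S : Subgroup G) : Set G)) : Cfsg.pCore p (G ⧸ Subgroup.centralizer (V : Set G)) = ⊥ := by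
  set C := Subgroup.centralizer (V : Set G) with hC
  have hCn : C.Normal := Subgroup.normal_centralizer
  set q := QuotientGroup.mk' C with hq
  set D := (Cfsg.pCore p (G ⧸ C)).comap q with hD
  suffices D ≤ C by
    rw [eq_bot_iff]
    intro x hx
    obtain ⟨g, rfl⟩ := QuotientGroup.mk'_surjective C x
    exact (QuotientGroup.eq_one_iff g).mpr (this hx)
  intro d hd
  rw [hC]
  intro v hv
  refine (?_ : V ≤ Subgroup.centralizer {d}) hv |> Subgroup.mem_centralizer_singleton_iff.mp
  rw [hgen]
  refine iSup_le fun S => fun w hw => Subgroup.mem_centralizer_singleton_iff.mpr ?_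
  have hDn : D.Normal := inferInstance
  let U : Sylow p D := CfsgLib.Fusion.Basic.sylowSubgroupOf (inf_le_right : (S : Subgroup G) ⊓ D ≤ D)
    (S.2.to_le inf_le_left) (CfsgLib.Fusion.Basic.not_dvd_relIndex_of_normal S D)
  obtain ⟨c, hc, u, hu, he⟩ := CfsgLib.Fusion.Basic.exists_eq_pResidual_mul U (⟨d, hd⟩ : D)
  let f : D →* Cfsg.pCore p (G ⧸ C) :=
    (q.comp D.subtype).codRestrict _ fun x => x.2
  have hc' : (c : G) ∈ C := by
    have := CfsgLib.Fusion.Basic.pResidual_le_ker f (CfsgLib.Solvable.Cores.isPGroup_pCore p) hc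
    exact (QuotientGroup.eq_one_iff (c : G)).mp (congrArg Subtype.val this)
  have hu' : (u : G) ∈ (S : Subgroup G) := (show (u : G) ∈ (S : Subgroup G) ⊓ D from hu).1
  rw [show d = (c : G) * u from congrArg Subtype.val he]
  exact ((show Commute w (c : G) from hc' w hw.1).mul_right
    (show Commute w (u : G) from (hw.2 _ hu').symm)).eq


end Cfsg.Agent.S0600
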