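import Cfsg.Statements.S0601
import Cfsg.Agent.Lib.LocalEven.PReduced
import Cfsg.Agent.Lib.Fusion.Basic
import Cfsg.Agent.Lib.Solvable.Cores

set_option autoImplicit false
open Cfsg

namespace Cfsg.Agent.S0601

/-- When O_p(G) contains its centralizer, the normal closure of Ω₁(Z(S)) is elementary abelian and G has no nontrivial normal p-subgroup modulo its centralizer. -/
theorem result {G : Type*} [Group G] [Finite G] {p : ℕ} [Fact p.Prime] (hc : Subgroup.centralizer (Cfsg.pCore p G : Set G) ≤ Cfsg.pCore p G) : (⨆ S : Sylow p G, Cfsg.omegaOne p (((S : Subgroup G)) ⊓ Subgroup.centralizer ((S : Subgroup G) : Set G))).Normal ∧ Cfsg.IsElementaryAbelian p (⨆ S : Sylow p G, Cfsg.omegaOne p (((S : Subgroup G)) ⊓ Subgroup.centralizer ((S : Subgroup G) : Set G))) ∧ ∀ D : Subgroup G, D.Normal → Subgroup.centralizer ((⨆ S : Sylow p G, Cfsg.omegaOne p (((S : Subgroup G)) ⊓ Subgroup.centralizer ((S : Subgroup G) : Set G)) : Subgroup G) : Set G) ≤ D → (∃ k : ℕ, (Subgroup.centralizer ((⨆ S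 : Sylow p G, Cfsg.omegaOne p (((S : Subgroup G)) ⊓ Subgroup.centralizer ((S : Subgroup G) : Set G)) : Subgroup G) : Set G)).relIndex D = p ^ k) → D = Subgroup.centralizer ((⨆ S : Sylow p G, Cfsg.omegaOne p (((S : Subgroup G)) ⊓ Subgroup.centralizer ((S : Subgroup G) : Set G)) : Subgroup G) : Set G) := by
  set Ω : Sylow p G → Subgroup G := fun S =>
    CfsgLib.LocalEven.SylowIn.omegaCenter p (S : Subgroup G) with hΩ
  set V : Subgroup G := ⨆ S, Ω S with hV
  have hΩle : ∀ S : Sylow p G, Ω S ≤ Cfsg.pCore p G ⊓ Subgroup.centralizer (Cfsg.pCore p G : Set G) := by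
    intro S
    have h1 : Ω S ≤ Subgroup.centralizer (Cfsg.pCore p G : Set G) :=
      (CfsgLib.LocalEven.SylowIn.omegaCenter_le_centralizer _).trans
        (Subgroup.centralizer_le (CfsgLib.Solvable.Cores.pCore_le_sylow S))
    exact le_inf (h1.trans hc) h1
  have hEA : Cfsg.IsElementaryAbelian p
      (Cfsg.omegaOne p (Cfsg.pCore p G ⊓ Subgroup.centralizer (Cfsg.pCore p G : Set G))) :=
    CfsgLib.LocalEven.PReduced.elab_omegaOne (inf_le_right.trans (Subgroup.centralizer_le inf_le_left))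
  have hVle : V ≤ Cfsg.omegaOne p (Cfsg.pCore p G ⊓ Subgroup.centralizer (Cfsg.pCore p G : Set G)) :=
    iSup_le fun S x hx => Subgroup.subset_closure
      ⟨hΩle S hx, (CfsgLib.LocalEven.PReduced.elab_omegaCenter (S : Subgroup G)).2 x hx⟩
  have hVn : V.Normal := by
    refine ⟨fun x hx g => ?_⟩
    have hle : V ≤ V.comap (MulAut.conj g).toMonoidHom := by
      refine iSup_le fun S => ?_
      rw [← Subgroup.map_le_iff_le_comap]
      refine le_trans (le_of_eq ?_) (le_iSup Ω (g • S))
      exact CfsgLib.LocalEven.SylowIn.omegaCenter_map _ g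
    exact hle hx
  refine ⟨hVn, CfsgLib.LocalEven.PReduced.elab_of_le hEA hVle, ?_⟩
  intro D hD hCD hk
  change Subgroup.centralizer (V : Set G) ≤ D at hCD
  change ∃ k : ℕ, (Subgroup.centralizer (V : Set G)).relIndex D = p ^ k at hk
  change D = Subgroup.centralizer (V : Set G)
  obtain ⟨k, hk⟩ := hk
  haveI := hVn
  haveI := hD
  refine le_antisymm ?_ hCD
  rw [Subgroup.le_centralizer_iff, hV]
  refine iSup_le fun S => ?_
  rw [Subgroup.le_centralizer_iff]
  have hsup : Subgroup.centralizer (V : Set G) ⊔ ((S : Subgroup G) ⊓ D) = D := by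
    refine le_antisymm (sup_le hCD inf_le_right) ?_
    rw [← Subgroup.relIndex_eq_one]
    apply Nat.eq_one_of_dvd_coprimes
      (((Fact.out : p.Prime).coprime_iff_not_dvd.mpr
        (CfsgLib.Fusion.Basic.not_dvd_relIndex_of_normal S D)).pow_left k)
    · rw [← hk]; exact Subgroup.relIndex_dvd_of_le_left D le_sup_left
    · exact Subgroup.relIndex_dvd_of_le_left D le_sup_right
  rw [← hsup]
  refine sup_le (Subgroup.centralizer_le (le_iSup Ω S)) ?_
  exact inf_le_left.trans (Subgroup.le_centralizer_iff.mp (CfsgLib.LocalEven.SylowIn.omegaCenter_le_centralizer _))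

end Cfsg.Agent.S0601
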