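import Cfsg.Statements.S0602
import Cfsg.Agent.Lib.Fusion.Thompson

set_option autoImplicit false
open Cfsg
open scoped commutatorElement

namespace Cfsg.Agent.S0602

/-- The Thompson subgroup is characteristic, and nontrivial as soon as p divides the group order. -/
theorem result {G : Type*} [Group G] [Finite G] {p : ℕ} [Fact p.Prime] : (Cfsg.thompsonSubgroup p G).Characteristic ∧ (p ∣ Nat.card G → Cfsg.thompsonSubgroup p G ≠ ⊥) := by
  refine ⟨inferInstance, fun hp hbot => ?_⟩
  obtain ⟨A, hA⟩ := CfsgLib.Fusion.Thompson.exists_maxEA (p := p) (G := G)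
  obtain ⟨z, hz⟩ := exists_prime_orderOf_dvd_card' p hp
  have hEA : Cfsg.IsElementaryAbelian p (Subgroup.zpowers z) :=
    ⟨IsMulCommutative.of_comm fun a b => mul_comm' a b, fun b hb => by
      obtain ⟨k, rfl⟩ := Subgroup.mem_zpowers_iff.mp hb
      rw [← zpow_natCast, zpow_comm, zpow_natCast, ← hz, pow_orderOf_eq_one, one_zpow]⟩
  have h1 := hA.2 _ hEA
  rw [Nat.card_zpowers, hz] at h1
  have h2 : A ≤ ⊥ := hbot ▸ le_sSup hA
  rw [le_bot_iff.mp h2, Subgroup.card_bot] at h1
  exact absurd h1 (not_le.mpr (Fact.out : p.Prime).one_lt)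


end Cfsg.Agent.S0602
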