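import Cfsg.Statements.S0609
import Cfsg.Agent.Lib.Fusion.Quotient

set_option autoImplicit false
open Cfsg

namespace Cfsg.Agent.S0609

/-- Thompson factorizability passes to and from the quotient by the largest normal subgroup of order prime to p. -/
theorem result {G : Type*} [Group G] [Finite G] {p : ℕ} [Fact p.Prime] : Cfsg.IsThompsonFactorizable p G ↔ Cfsg.IsThompsonFactorizable p (G ⧸ Cfsg.pPrimeCore p G) := by
  have hN : (Nat.card (Cfsg.pPrimeCore p G)).Coprime p := CfsgLib.Solvable.Cores.coprime_card_pPrimeCore p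
  have hsurj := QuotientGroup.mk'_surjective (Cfsg.pPrimeCore p G)
  let π := QuotientGroup.mk' (Cfsg.pPrimeCore p G)
  have hbot : Cfsg.pPrimeCore p (G ⧸ Cfsg.pPrimeCore p G) = ⊥ := CfsgLib.Components.pPrimeCore_quotient_eq_bot
  constructor
  · intro h S' y
    obtain ⟨S, rfl⟩ := Sylow.mapSurjective_surjective hsurj p S'
    obtain ⟨g, rfl⟩ := hsurj y
    obtain ⟨x, hx, c, hc, n, hn, rfl⟩ := h S g
    refine ⟨1, one_mem _, π c, ?_, π n, ?_, ?_⟩
    · rw [Sylow.coe_mapSurjective, CfsgLib.Fusion.Quotient.omegaCenter_map hN S.isPGroup']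
      rw [Subgroup.mem_centralizer_iff]
      rintro _ ⟨w, hw, rfl⟩
      rw [← map_mul, ← map_mul, Subgroup.mem_centralizer_iff.mp hc w hw]
    · rw [Sylow.coe_mapSurjective, CfsgLib.Fusion.Quotient.thompsonSubgroupOf_map hN S.isPGroup']
      exact Subgroup.le_normalizer_map _ ⟨n, hn, rfl⟩
    · rw [one_mul, map_mul, map_mul, show π x = 1 from (QuotientGroup.eq_one_iff x).mpr hx, one_mul]
  · intro h S g
    obtain ⟨x, hx, c, hc, n, hn, hg⟩ := h (S.mapSurjective hsurj) (π g)
    rw [hbot, Subgroup.mem_bot] at hx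
    rw [Sylow.coe_mapSurjective] at hc hn
    rw [CfsgLib.Fusion.Quotient.omegaCenter_map hN S.isPGroup', CfsgLib.Components.centralizer_map_mk hN
      (R := Cfsg.omegaOne p ((S : Subgroup G) ⊓ Subgroup.centralizer ((S : Subgroup G) : Set G))) (S.isPGroup'.to_le ((Subgroup.closure_le _).mpr fun z hz => hz.1.1))] at hc
    rw [CfsgLib.Fusion.Quotient.thompsonSubgroupOf_map hN S.isPGroup', CfsgLib.Fusion.Quotient.normalizer_map hN
      (S.isPGroup'.to_le (CfsgLib.Fusion.Thompson.thompsonSubgroupOf_le _))] at hn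
    obtain ⟨c, hc, rfl⟩ := hc
    obtain ⟨n, hn, rfl⟩ := hn
    refine ⟨g * n⁻¹ * c⁻¹, ?_, c, hc, n, hn, by group⟩
    rw [← QuotientGroup.eq_one_iff]
    show π (g * n⁻¹ * c⁻¹) = 1
    rw [map_mul, map_mul, map_inv, map_inv, hg, hx, one_mul, mul_inv_cancel_right, mul_inv_cancel]

end Cfsg.Agent.S0609
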