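import Cfsg.Statements.S0614
import Cfsg.Agent.Lib.Fusion.OffenderFamily
import Cfsg.Agent.Lib.Fusion.QuaternionSL23
-- import your own Cfsg.Agent.* helpers here

set_option autoImplicit false
open Cfsg
open CfsgLib.Fusion CfsgLib.Fusion.OffenderTv CfsgLib.Fusion.OffenderPlane
open scoped commutatorElement MatrixGroups

namespace Cfsg.Agent.S0614

/-- The commutator of the p'-core with a minimal nontrivially-acting best offender is a 3-group (when p = 2) or a non-abelian 2-group (when p = 3). -/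
theorem result {G : Type*} [Group G] [Finite G] {p : ℕ} [Fact p.Prime] (V H : Subgroup G) (hV : Cfsg.IsElementaryAbelian p V) (hHV : H ≤ Subgroup.normalizer (V : Set G)) (hf : H ⊓ Subgroup.centralizer (V : Set G) = ⊥) (hS1 : Subgroup.centralizer (Cfsg.pPrimeCore p ↥H : Set ↥H) ≤ Cfsg.pPrimeCore p ↥H) (hS3 : H = ⨆ A : {A : Subgroup G // A ≤ H ∧ Cfsg.IsBestOffenderOn p V A}, (A : Subgroup G)) (hH1 : H ≠ ⊥) (A : Subgroup G) (hAH : A ≤ H) (hA : Cfsg.IsBestOffenderOn p V A) (hAV : ⁅V, A⁆ ≠ ⊥) (hmin : ∀ B : Subgroup G, B ≤ A → Cfsg.IsBestOffenderOn p V B → ⁅V, B⁆ ≠ ⊥ → B = A) : (p = 2 ∧ IsPGroup 3 ↥(⁅((Cfsg.pPrimeCore p ↥H).map H.subtype), A⁆)) ∨ (p = 3 ∧ IsPGroup 2 ↥(⁅((Cfsg.pPrimeCore p ↥H).map H.subtype), A⁆) ∧ ¬ IsMulCommutative ↥(⁅((Cfsg.pPrimeCore p ↥H).map H.subtype), A⁆)) := by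
  have S := OffenderBasic.Setup.of_pPrimeCore hV hHV hf hS1
  obtain ⟨a, ha, rfl⟩ := OffenderFamily.exists_tv_of_min S hAH hA hAV hmin
  set K := (Cfsg.pPrimeCore p ↥H).map H.subtype
  obtain ⟨φ, -⟩ := OffenderMain.exists_equiv S ha
  have hc := OffenderMain.card_eGrp S ha
  rw [Nat.card_congr φ.toEquiv, Nat.card_eq_fintype_card] at hc
  rcases OffenderMain.prime_cases S ha with rfl | rfl
  · left
    rw [show Fintype.card SL(2, ZMod 2) = 6 by decide] at hc
    exact ⟨rfl, IsPGroup.of_card (p := 3) (n := 1) (by rw [pow_one]; omega)⟩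
  · right
    rw [show Fintype.card SL(2, ZMod 3) = 24 by decide] at hc
    have h8 : Nat.card ↥(⁅K, Subgroup.zpowers a⁆) = 8 := by omega
    refine ⟨rfl, IsPGroup.of_card (p := 2) (n := 3) (by rw [h8]; norm_num), fun hcomm => ?_⟩
    have key : ∀ x : SL(2, ZMod 3), x ^ 8 = 1 → x ^ 4 = 1 := by decide
    let f : ↥(⁅K, Subgroup.zpowers a⁆) → {x : SL(2, ZMod 3) // x ^ 4 = 1} := fun d =>
      ⟨φ ⟨d, Subgroup.mem_sup_left d.2⟩, key _ (by
        have hd : (d : G) ^ 8 = 1 := by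
          rw [← h8, ← Subgroup.coe_pow, pow_card_eq_one', Subgroup.coe_one]
        rw [← map_pow, show (⟨(d : G), Subgroup.mem_sup_left d.2⟩ : eGrp K a) ^ 8 = 1 from Subtype.ext hd,
          map_one])⟩
    have hf : Function.Injective f := fun d e h => by
      have := φ.injective (congrArg Subtype.val h)
      exact Subtype.ext (congrArg (fun z : eGrp K a => (z : G)) this :)
    have hb := (Nat.bijective_iff_injective_and_card f).2 ⟨hf, by
      rw [h8, Nat.card_eq_fintype_card]; decide⟩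
    obtain ⟨u, v, hu, hv, huv⟩ : ∃ u v : SL(2, ZMod 3), u ^ 4 = 1 ∧ v ^ 4 = 1 ∧ u * v ≠ v * u :=
      ⟨QuaternionSL23.sA, QuaternionSL23.sB, by decide, by decide, by decide⟩
    obtain ⟨d, hd⟩ := hb.2 ⟨u, hu⟩
    obtain ⟨e, he⟩ := hb.2 ⟨v, hv⟩
    have hd' : φ ⟨d, Subgroup.mem_sup_left d.2⟩ = u := congrArg Subtype.val hd
    have he' : φ ⟨e, Subgroup.mem_sup_left e.2⟩ = v := congrArg Subtype.val he
    apply huv
    rw [← hd', ← he', ← map_mul, ← map_mul]
    exact congrArg φ (Subtype.ext (show (d : G) * e = e * d from congrArg Subtype.val (hcomm.is_comm.comm d e)))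

end Cfsg.Agent.S0614
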