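import Cfsg.Statements.S0615
import Cfsg.Agent.Lib.Fusion.SubnormalPair
-- import your own Cfsg.Agent.* helpers here

set_option autoImplicit false
open Cfsg
open CfsgLib.Fusion.SubnormalPair
open scoped commutatorElement

namespace Cfsg.Agent.S0615

/-- Two subnormal subgroups acting irreducibly on their incomparable commutator modules, in a faithful group with trivial largest normal p-subgroup, generate their direct product, and the commutator module splits accordingly. -/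
theorem result {G : Type*} [Group G] [Finite G] {p : ℕ} [Fact p.Prime] (V E E₁ E₂ : Subgroup G) (hV : Cfsg.IsElementaryAbelian p V) (hEV : E ≤ Subgroup.normalizer (V : Set G)) (hf : E ⊓ Subgroup.centralizer (V : Set G) = ⊥) (hgen : E = E₁ ⊔ E₂) (hs₁ : (E₁.subgroupOf E).IsSubnormal) (hs₂ : (E₂.subgroupOf E).IsSubnormal) (hOp : Cfsg.pCore p ↥E = ⊥) (hirr₁ : (∀ U : Subgroup G, U ≤ ⁅V, E₁⁆ → E₁ ≤ Subgroup.normalizer (U : Set G) → U = ⊥ ∨ U = ⁅V, E₁⁆)) (hirr₂ : (∀ U : Subgroup G, U ≤ ⁅V, E₂⁆ → E₂ ≤ Subgroup.normalizer (U : Set G) → U = ⊥ ∨ U = ⁅V, E₂⁆)) (h12 : ¬ ⁅V, E₁⁆ ≤ ⁅V, E₂⁆) (h21 : ¬ ⁅V, E₂⁆ ≤ ⁅V, E₁⁆) (hc₁ : 2 < Nat.card E₁) (hc₂ : 2 < Nat.card E₂) : ⁅E₁, E₂⁆ = ⊥ ∧ E₁ ⊓ E₂ = ⊥ ∧ ⁅V, E₁⁆ ⊓ ⁅V, E₂⁆ = ⊥ ∧ ⁅V, E⁆ = ⁅V, E₁⁆ ⊔ ⁅V, E₂⁆ := by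
  have hl1 : E₁ ≤ E := hgen ▸ le_sup_left
  have hl2 : E₂ ≤ E := hgen ▸ le_sup_right
  have P1 : Piece V E E₁ := ⟨hl1, hs₁, hirr₁, hc₁⟩
  have P2 : Piece V E E₂ := ⟨hl2, hs₂, hirr₂, hc₂⟩
  have hcomm : ⁅E₁, E₂⁆ = ⊥ := key (Nat.card E) E le_rfl hV hEV hf hOp E₁ E₂ P1 P2 h12 h21
  have hVc := CfsgLib.Solvable.Basic.isMulCommutative_subgroup_iff.1 hV.1
  have hn12 : E₁ ≤ Subgroup.normalizer ((⁅V, E₂⁆ : Subgroup G) : Set G) := by
    intro e he
    rw [Subgroup.mem_normalizer_iff_map_conj_eq]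
    show (⁅V, E₂⁆).map (MulAut.conj e).toMonoidHom = ⁅V, E₂⁆
    rw [map_commutator_conj hEV E₂ (hl1 he), show E₂.map (MulAut.conj e).toMonoidHom = E₂ from
      Subgroup.mem_normalizer_iff_map_conj_eq.1 (Subgroup.centralizer_le_normalizer _
        (Subgroup.commutator_eq_bot_iff_le_centralizer.1 hcomm he))]
  obtain ⟨hinf, h21'⟩ := fixes_of_normalizes hEV P1 P2 hn12 h12
  refine ⟨hcomm, ?_, by rw [inf_comm]; exact hinf, ?_⟩
  · rw [Subgroup.eq_bot_iff_forall]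
    rintro x ⟨hx1, hx2⟩
    have hmem : x ∈ E ⊓ Subgroup.centralizer (V : Set G) := by
      refine Subgroup.mem_inf.2 ⟨hl1 hx1, Subgroup.mem_centralizer_iff.2 fun v hv => ?_⟩
      exact commutatorElement_eq_one_iff_mul_comm.1 (Subgroup.mem_bot.1 (hinf ▸ Subgroup.mem_inf.2
        ⟨Subgroup.commutator_mem_commutator hv hx2, Subgroup.commutator_mem_commutator hv hx1⟩))
    rwa [hf, Subgroup.mem_bot] at hmem
  · refine le_antisymm ?_ (sup_le (Subgroup.commutator_mono le_rfl hl1) (Subgroup.commutator_mono le_rfl hl2))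
    set U := ⁅V, E₁⁆ ⊔ ⁅V, E₂⁆ with hU
    have hUV : U ≤ V := sup_le (commutator_le hEV hl1) (commutator_le hEV hl2)
    have hgmem : ∀ X : Subgroup G, ⁅V, X⁆ ≤ U → X ≤ E → ∀ v ∈ V, ∀ x ∈ X, ⁅v, x⁆ ∈ U :=
      fun X hX _ v hv x hx => hX (Subgroup.commutator_mem_commutator hv hx)
    let Q : Subgroup G :=
      { carrier := {e | e ∈ E ∧ ∀ v ∈ V, ⁅v, e⁆ ∈ U}
        one_mem' := ⟨one_mem E, fun v _ => by simp [U.one_mem]⟩
        mul_mem' := by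
          rintro a b ⟨ha, haU⟩ ⟨hb, hbU⟩
          refine ⟨mul_mem ha hb, fun v hv => ?_⟩
          rw [commutatorElement_mul_right_eq_mul_conj, mul_assoc ⁅v, a⁆ a, mul_assoc ⁅v, a⁆]
          refine mul_mem (haU v hv) ?_
          have h := haU _ (inv_mem (hUV (hbU v hv)))
          have e : a * ⁅v, b⁆ * a⁻¹ = ⁅v, b⁆ * ⁅⁅v, b⁆⁻¹, a⁆ := by
            simp only [commutatorElement_def]; group
          rw [e]
          exact mul_mem (hbU v hv) h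
        inv_mem' := by
          rintro a ⟨ha, haU⟩
          refine ⟨inv_mem ha, fun v hv => ?_⟩
          have hu : a⁻¹ * v * a ∈ V := by
            have := (Subgroup.mem_normalizer_iff.1 (inv_mem (hEV ha)) v).1 hv
            rwa [inv_inv] at this
          have e2 : ⁅v, a⁻¹⁆ = a⁻¹ * (⁅v, a⁆⁻¹) * a := by simp only [commutatorElement_def]; group
          rw [e2]
          have h := haU _ (show a⁻¹ * ⁅v, a⁆⁻¹ * a ∈ V by
            have := (Subgroup.mem_normalizer_iff.1 (inv_mem (hEV ha)) _).1 (inv_mem (hUV (haU v hv)))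
            rwa [inv_inv] at this)
          have e3 : a⁻¹ * ⁅v, a⁆⁻¹ * a = ⁅a⁻¹ * ⁅v, a⁆⁻¹ * a, a⁆ * ⁅v, a⁆⁻¹ := by
            simp only [commutatorElement_def]; group
          rw [e3]
          exact mul_mem h (inv_mem (haU v hv)) }
    have hEQ : E ≤ Q := by
      rw [hgen]
      exact sup_le (fun x hx => ⟨hl1 hx, fun v hv => hgmem E₁ le_sup_left hl1 v hv x hx⟩)
        (fun x hx => ⟨hl2 hx, fun v hv => hgmem E₂ le_sup_right hl2 v hv x hx⟩)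
    rw [Subgroup.commutator_le]
    exact fun v hv x hx => (hEQ hx).2 v hv

end Cfsg.Agent.S0615
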