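import Cfsg.Statements.S0617
import Cfsg.Agent.Lib.Fusion.OffenderFamily
-- import your own Cfsg.Agent.* helpers here

set_option autoImplicit false
open Cfsg
open CfsgLib.Fusion CfsgLib.Fusion.OffenderTv CfsgLib.Fusion.OffenderPlane
open scoped commutatorElement

namespace Cfsg.Agent.S0617

/-- Structure Theorem for failure of factorization: a faithful group generated by best offenders, with self-centralizing p'-core, is a direct product of copies of SL(2, p) (p = 2 or 3), each acting on its own plane in V, which is the direct product of these planes and C_V(H). -/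
theorem result {G : Type*} [Group G] [Finite G] {p : ℕ} [Fact p.Prime] (V H : Subgroup G) (hV : Cfsg.IsElementaryAbelian p V) (hHV : H ≤ Subgroup.normalizer (V : Set G)) (hf : H ⊓ Subgroup.centralizer (V : Set G) = ⊥) (hS1 : Subgroup.centralizer (Cfsg.pPrimeCore p ↥H : Set ↥H) ≤ Cfsg.pPrimeCore p ↥H) (hS3 : H = ⨆ A : {A : Subgroup G // A ≤ H ∧ Cfsg.IsBestOffenderOn p V A}, (A : Subgroup G)) (hH1 : H ≠ ⊥) : (p = 2 ∨ p = 3) ∧ (∀ E : {E : Subgroup G // ∃ A : Subgroup G, A ≤ H ∧ Cfsg.IsBestOffenderOn p V A ∧ ⁅V, A⁆ ≠ ⊥ ∧ (∀ B : Subgroup G, B ≤ A → Cfsg.IsBestOffenderOn p V B → ⁅V, B⁆ ≠ ⊥ → B = A) ∧ E = ⁅((Cfsg.pPrimeCore p ↥H).map H.subtype), A⁆ ⊔ A}, H ≤ Subgroup.normalizer ((E : Subgroup G) : Set G) ∧ Nonempty (↥(E : Subgroup G) ≃* Matrix.SpecialLinearGroup (Fin 2) (ZMod p)) ∧ Nat.card ↥(⁅V, (E : Subgroup G)⁆) = p ^ 2) ∧ iSupIndep (fun E : {E : Subgroup G // ∃ A : Subgroup G, A ≤ H ∧ Cfsg.IsBestOffenderOn p V A ∧ ⁅V, A⁆ ≠ ⊥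 ∧ (∀ B : Subgroup G, B ≤ A → Cfsg.IsBestOffenderOn p V B → ⁅V, B⁆ ≠ ⊥ → B = A) ∧ E = ⁅((Cfsg.pPrimeCore p ↥H).map H.subtype), A⁆ ⊔ A} => (E : Subgroup G)) ∧ (⨆ E : {E : Subgroup G // ∃ A : Subgroup G, A ≤ H ∧ Cfsg.IsBestOffenderOn p V A ∧ ⁅V, A⁆ ≠ ⊥ ∧ (∀ B : Subgroup G, B ≤ A → Cfsg.IsBestOffenderOn p V B → ⁅V, B⁆ ≠ ⊥ → B = A) ∧ E = ⁅((Cfsg.pPrimeCore p ↥H).map H.subtype), A⁆ ⊔ A}, (E : Subgroup G)) = H ∧ iSupIndep (fun o : Option {E : Subgroup G // ∃ A : Subgroup G, A ≤ H ∧ Cfsg.IsBestOffenderOn p V A ∧ ⁅V, A⁆ ≠ ⊥ ∧ (∀ B : Subgroup G, B ≤ A → Cfsg.IsBestOffenderOn p V B → ⁅V, B⁆ ≠ ⊥ → B = A) ∧ E = ⁅((Cfsg.pPrimeCore p ↥H).map H.subtype), A⁆ ⊔ A} => o.elim (V ⊓ Subgroup.centralizer (H : Set G)) (fun E => ⁅V, (E : Subgroup G)⁆)) ∧ (V ⊓ Subgroup.centralizer (H : Set G)) ⊔ (⨆ E : {E : Subgroup G // ∃ A : Subgroup G, A ≤ H ∧ Cfsg.IsBestOffenderOn p V A ∧ ⁅V, A⁆ ≠ ⊥ ∧ (∀ B : Subgroup G, B ≤ A → Cfsg.IsBestOffenderOn p V B → ⁅V,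 B⁆ ≠ ⊥ → B = A) ∧ E = ⁅((Cfsg.pPrimeCore p ↥H).map H.subtype), A⁆ ⊔ A}, ⁅V, (E : Subgroup G)⁆) = V := by
  classical
  have S := OffenderBasic.Setup.of_pPrimeCore hV hHV hf hS1
  have hgen := OffenderFamily.gen_of_offenders S hS3
  set K := (Cfsg.pPrimeCore p ↥H).map H.subtype with hK
  set ι := {E : Subgroup G // ∃ A : Subgroup G, A ≤ H ∧ Cfsg.IsBestOffenderOn p V A ∧ ⁅V, A⁆ ≠ ⊥ ∧
    (∀ B : Subgroup G, B ≤ A → Cfsg.IsBestOffenderOn p V B → ⁅V, B⁆ ≠ ⊥ → B = A) ∧ E = ⁅K, A⁆ ⊔ A}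
  haveI : Fintype ι := Fintype.ofFinite ι
  have hrep : ∀ E : ι, ∃ a, Tv p V H a ∧ (E : Subgroup G) = eGrp K a := by
    rintro ⟨E, A, h1, h2, h3, h4, rfl⟩
    obtain ⟨a, ha, rfl⟩ := OffenderFamily.exists_tv_of_min S h1 h2 h3 h4
    exact ⟨a, ha, rfl⟩
  choose r hr hE using hrep
  have hmemι : ∀ {c}, Tv p V H c → ∃ E : ι, c ∈ (E : Subgroup G) := fun {c} hc =>
    ⟨⟨eGrp K c, Subgroup.zpowers c, Subgroup.zpowers_le.2 hc.mem, (isBest_zpowers S hc).1,
      OffenderFamily.ctr_ne_bot S hc, fun B hB _ hne => OffenderFamily.min_zpowers S hc hB hne, rfl⟩,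
      mem_eGrp_self K c⟩
  obtain ⟨a₀, ha₀⟩ : ∃ a, Tv p V H a := by
    by_contra hcon
    push Not at hcon
    refine hH1 (le_bot_iff.1 (hgen.trans ?_))
    rw [Subgroup.closure_le]
    exact fun c hc => absurd hc (hcon c)
  have hother : ∀ E F : ι, F ≠ E →
      (F : Subgroup G) ≤ H ⊓ Subgroup.centralizer ((⁅V, (E : Subgroup G)⁆ : Subgroup G) : Set G) := by
    intro E F hne
    rw [hE E, hE F]
    exact OffenderFamily.factor_le S hgen (hr E) (hr F) fun h => hne (Subtype.ext (by rw [hE F, hE E, h]))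
  have hWC : ∀ E F : ι, F ≠ E → ⁅V, (F : Subgroup G)⁆ ≤ V ⊓ Subgroup.centralizer ((E : Subgroup G) : Set G) := by
    intro E F hne
    refine (Subgroup.commutator_mono le_rfl (hother E F hne)).trans ?_
    rw [hE E]
    exact (OffenderMain.decomp S hgen (hr E)).2.2.2.2
  have hWV : ∀ E : ι, ⁅V, (E : Subgroup G)⁆ ≤ V := fun E => by rw [hE E]; exact (plane S (hr E)).2.2.2
  have hcap : ∀ E : ι, ∀ x ∈ ⁅V, (E : Subgroup G)⁆,
      x ∈ V ⊓ Subgroup.centralizer ((E : Subgroup G) : Set G) → x = 1 := by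
    intro E x hx hx'
    rw [hE E] at hx hx'
    exact Subgroup.mem_bot.1 ((plane S (hr E)).1 ▸ Subgroup.mem_inf.2 ⟨hx, hx'⟩)
  have hsupH : (⨆ E : ι, (E : Subgroup G)) = H := by
    refine le_antisymm (iSup_le fun E => hE E ▸ eGrp_le S (hr E)) (hgen.trans ?_)
    rw [Subgroup.closure_le]
    intro c hc
    obtain ⟨E, hcE⟩ := hmemι hc
    exact Subgroup.mem_iSup_of_mem E hcE
  refine ⟨OffenderMain.prime_cases S ha₀, fun E => ?_, ?_, hsupH, ?_, ?_⟩
  · rw [hE E]
    obtain ⟨φ, -⟩ := OffenderMain.exists_equiv S (hr E)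
    exact ⟨(OffenderMain.decomp S hgen (hr E)).1, ⟨φ⟩, (plane S (hr E)).2.2.1⟩
  · intro E
    rw [disjoint_iff]
    refine le_bot_iff.1 ((inf_le_inf_left _ (iSup₂_le fun F hF => hother E F hF)).trans ?_)
    show (E : Subgroup G) ⊓ _ ≤ ⊥
    rw [hE E]
    exact ((OffenderMain.decomp S hgen (hr E)).2.2.1).le
  · -- independence in `V`
    intro o
    rw [disjoint_iff, Subgroup.eq_bot_iff_forall]
    rintro x ⟨hx, hx'⟩
    cases o with
    | some E =>
      refine hcap E x hx ((iSup₂_le fun o ho => ?_ : (⨆ (o : Option ι) (_ : o ≠ some E),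
        o.elim (V ⊓ Subgroup.centralizer (H : Set G)) (fun F : ι => ⁅V, (F : Subgroup G)⁆)) ≤
          V ⊓ Subgroup.centralizer ((E : Subgroup G) : Set G)) hx')
      cases o with
      | none => exact inf_le_inf_left _ (Subgroup.centralizer_le (SetLike.coe_subset_coe.2
          (hE E ▸ eGrp_le S (hr E))))
      | some F => exact hWC E F fun h => ho (congrArg some h)
    | none =>
      have key : ∀ s : Finset ι, (V ⊓ Subgroup.centralizer (H : Set G)) ⊓
          s.sup (fun F => ⁅V, (F : Subgroup G)⁆) = ⊥ := by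
        intro s
        induction s using Finset.induction with
        | empty => simp
        | @insert E s hEs ih =>
          rw [Finset.sup_insert, Subgroup.eq_bot_iff_forall]
          rintro u ⟨hu, hu'⟩
          have hsC : s.sup (fun F => ⁅V, (F : Subgroup G)⁆) ≤
              V ⊓ Subgroup.centralizer ((E : Subgroup G) : Set G) :=
            Finset.sup_le fun F hF => hWC E F fun h => hEs (h ▸ hF)
          obtain ⟨w, hw, z, hz, rfl⟩ := mul_of_mem_sup S (hWV E) (hsC.trans inf_le_left) hu'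
          have huE : w * z ∈ V ⊓ Subgroup.centralizer ((E : Subgroup G) : Set G) :=
            inf_le_inf_left V (Subgroup.centralizer_le (SetLike.coe_subset_coe.2
              (hE E ▸ eGrp_le S (hr E)))) hu
          have hw1 : w = 1 := hcap E w hw (by simpa using mul_mem huE (inv_mem (hsC hz)))
          subst hw1
          rw [one_mul] at hu ⊢
          exact Subgroup.mem_bot.1 (ih ▸ Subgroup.mem_inf.2 ⟨hu, hz⟩)
      refine Subgroup.mem_bot.1 (key Finset.univ ▸ Subgroup.mem_inf.2 ⟨hx, ?_⟩)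
      refine (iSup₂_le fun o ho => ?_ : (⨆ (o : Option ι) (_ : o ≠ none),
        o.elim (V ⊓ Subgroup.centralizer (H : Set G)) (fun F : ι => ⁅V, (F : Subgroup G)⁆)) ≤
          Finset.univ.sup (fun F : ι => ⁅V, (F : Subgroup G)⁆)) hx'
      cases o with
      | none => exact absurd rfl ho
      | some F => exact Finset.le_sup (f := fun F : ι => ⁅V, (F : Subgroup G)⁆) (Finset.mem_univ F)
  · -- spanning
    refine le_antisymm (sup_le inf_le_left (iSup_le hWV)) ?_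
    have key : ∀ s : Finset ι, ∀ v ∈ V, ∃ z ∈ s.sup (fun F => ⁅V, (F : Subgroup G)⁆),
        ∃ f ∈ V, (∀ F ∈ s, ∀ e ∈ (F : Subgroup G), e * f = f * e) ∧ z * f = v := by
      intro s
      induction s using Finset.induction with
      | empty => intro v hv; exact ⟨1, one_mem _, v, hv, by simp, one_mul v⟩
      | @insert E s hEs ih =>
        intro v hv
        obtain ⟨z, hz, f, hf, hfix, rfl⟩ := ih v hv
        have hsup := (plane S (hr E)).2.1
        rw [← hE E] at hsup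
        obtain ⟨w, hw, c, hc, hwc⟩ := mul_of_mem_sup S (hWV E) inf_le_left (hsup ▸ hf)
        refine ⟨z * w, mul_mem (SetLike.le_def.1 (Finset.sup_mono (Finset.subset_insert E s)) hz)
          (Finset.le_sup (f := fun F : ι => ⁅V, (F : Subgroup G)⁆) (Finset.mem_insert_self E s) hw),
          c, hc.1, ?_, by rw [mul_assoc, hwc]⟩
        intro F hF e he
        rcases Finset.mem_insert.1 hF with rfl | hF'
        · exact Subgroup.mem_centralizer_iff.1 hc.2 e he
        · have hne : F ≠ E := fun h => hEs (h ▸ hF')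
          have h1 : Commute e w :=
            (Subgroup.mem_centralizer_iff.1 (hother E F hne he).2 w hw).symm
          have h2 : Commute e f := hfix F hF' e he
          rw [show c = w⁻¹ * f by rw [← hwc, inv_mul_cancel_left]]
          exact (h1.inv_right.mul_right h2).eq
    intro v hv
    obtain ⟨z, hz, f, hf, hfix, rfl⟩ := key Finset.univ v hv
    refine mul_mem (Subgroup.mem_sup_right ?_) (Subgroup.mem_sup_left ⟨hf, Subgroup.mem_centralizer_iff.2 ?_⟩)
    · exact (Finset.sup_le fun F _ => le_iSup (fun F : ι => ⁅V, (F : Subgroup G)⁆) F) hz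
    · have hle : H ≤ Subgroup.centralizer {f} := by
        rw [← hsupH]
        exact iSup_le fun F e he => Subgroup.mem_centralizer_singleton_iff.2 (hfix F (Finset.mem_univ F) e he)
      exact fun h hh => Subgroup.mem_centralizer_singleton_iff.1 (hle hh)

end Cfsg.Agent.S0617
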