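import Cfsg.Statements.S0618
import Cfsg.Agent.Lib.Fusion.FailureFactor
import Cfsg.Agent.Lib.Fusion.OmegaCenter
import Cfsg.Agent.S0608
-- import your own Cfsg.Agent.* helpers here

set_option autoImplicit false
open Cfsg
open CfsgLib.Fusion

namespace Cfsg.Agent.S0618

/-- A p-separable group with trivial p'-core in which the Thompson factorization fails has p = 2 or 3, and J(G) induces on the normal closure of Ω₁(Z(S)) a group containing a normal SL(2, p). -/
theorem result {G : Type*} [Group G] [Finite G] {p : ℕ} [Fact p.Prime] (hsep : Cfsg.IsPSolvable p G) (hO : Cfsg.pPrimeCore p G = ⊥) (hnf : ¬ Cfsg.IsThompsonFactorizable p G) : (p = 2 ∨ p = 3) ∧ ∃ E : Subgroup G, Subgroup.centralizer ((⨆ S : Sylow p G, Cfsg.omegaOne p ((S : Subgroup G) ⊓ Subgroup.centralizer ((S : Subgroup G) : Set G))) : Set G) ≤ E ∧ E ≤ Cfsg.thompsonSubgroup p G ⊔ Subgroup.centralizer ((⨆ S : Sylow p G, Cfsg.omegaOne p ((S : Subgroup G) ⊓ Subgroup.centralizer ((S : Subgroup G) : Set G))) : Set G) ∧ Cfsg.thompsonSubgroup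 p G ⊔ Subgroup.centralizer ((⨆ S : Sylow p G, Cfsg.omegaOne p ((S : Subgroup G) ⊓ Subgroup.centralizer ((S : Subgroup G) : Set G))) : Set G) ≤ Subgroup.normalizer (E : Set G) ∧ ∃ hn : ((Subgroup.centralizer ((⨆ S : Sylow p G, Cfsg.omegaOne p ((S : Subgroup G) ⊓ Subgroup.centralizer ((S : Subgroup G) : Set G))) : Set G)).subgroupOf E).Normal, Nonempty ((↥E ⧸ (Subgroup.centralizer ((⨆ S : Sylow p G, Cfsg.omegaOne p ((S : Subgroup G) ⊓ Subgroup.centralizer ((S : Subgroup G) : Set G))) : Set G)).subgroupOf E) ≃* Matrix.SpecialLinearGroup (Fin 2) (ZMod p)) := by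
  haveI := OmegaCenter.normal (p := p) (G := G)
  have hset : Subgroup.centralizer ((⨆ S : Sylow p G, Cfsg.omegaOne p ((S : Subgroup G) ⊓ Subgroup.centralizer ((S : Subgroup G) : Set G))) : Set G) = Subgroup.centralizer (OmegaCenter.closureOmega p G : Set G) := by
    refine le_antisymm ?_ (Subgroup.centralizer_le ?_)
    · rw [Subgroup.le_centralizer_iff]
      refine iSup_le fun S => ?_
      rw [Subgroup.le_centralizer_iff]
      exact Subgroup.centralizer_le (le_iSup (fun S : Sylow p G => ((Cfsg.omegaOne p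
        ((S : Subgroup G) ⊓ Subgroup.centralizer ((S : Subgroup G) : Set G)) : Subgroup G) : Set G)) S)
    · exact iSup_le fun S => SetLike.coe_subset_coe.2 (le_iSup (fun S : Sylow p G => Cfsg.omegaOne p
        ((S : Subgroup G) ⊓ Subgroup.centralizer ((S : Subgroup G) : Set G))) S)
  rw [hset]
  set V := OmegaCenter.closureOmega p G
  set C := Subgroup.centralizer (V : Set G)
  have hV := OmegaCenter.isEA hsep hO
  have hOq := OmegaCenter.pCore_quotient (p := p) (G := G)
  set J := Cfsg.thompsonSubgroup p G with hJ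
  have hJC : ¬ J ≤ C := fun h => hnf ((Cfsg.Agent.S0608.result hO).2 h)
  set H := J.map (FailureFactor.rho V) with hH
  set K := (Cfsg.pPrimeCore p ↥H).map H.subtype
  have S : OffenderBasic.Setup p (FailureFactor.vv V) H K := FailureFactor.setup V hsep hV hOq J
  obtain ⟨A, hA, hAC⟩ : ∃ A ∈ Cfsg.maxElementaryAbelianSubgroups p G, ¬ A ≤ C := by
    by_contra hcon
    push Not at hcon
    exact hJC (sSup_le hcon)
  have hAH : A.map (FailureFactor.rho V) ≤ H := Subgroup.map_mono (le_sSup hA)
  have hne : A.map (FailureFactor.rho V) ≠ ⊥ := by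
    rw [Ne, Subgroup.map_eq_bot_iff, FailureFactor.ker_rho]
    exact hAC
  obtain ⟨a, -, ha⟩ := OffenderFamily.exists_tv_of_ne S hAH (FailureFactor.image_isBest V hV hA) hne
  set Eb := OffenderPlane.eGrp K a with hEb
  have hS3 : H ≤ Subgroup.closure {c | OffenderTv.Tv p (FailureFactor.vv V) H c} := by
    rw [hH, Subgroup.map_le_iff_le_comap]
    refine sSup_le fun B hB => Subgroup.map_le_iff_le_comap.1
      ((OffenderTv.le_closure_tv S (Subgroup.map_mono (le_sSup hB))
        (FailureFactor.image_isBest V hV hB)).trans (Subgroup.closure_mono fun c hc => hc.2))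
  have hnorm := (OffenderMain.decomp S hS3 ha).1
  have hEH : Eb ≤ H := by
    refine sup_le ?_ (Subgroup.zpowers_le.2 ha.mem)
    rw [Subgroup.commutator_le]
    intro k hk z hz
    have hz' := (Subgroup.zpowers_le.2 ha.mem) hz
    exact mul_mem (mul_mem (mul_mem (S.KH hk) hz') (inv_mem (S.KH hk))) (inv_mem hz')
  obtain ⟨φ, -⟩ := OffenderMain.exists_equiv S ha
  refine ⟨OffenderMain.prime_cases S ha, Eb.comap (FailureFactor.rho V), ?_, ?_, ?_, ?_⟩
  · intro c hc
    show FailureFactor.rho V c ∈ Eb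
    rw [(FailureFactor.rho_eq_one V).2 hc]
    exact one_mem _
  · intro g hg
    obtain ⟨j, hj, hjg⟩ := hEH hg
    rw [show g = j * (j⁻¹ * g) by group]
    refine Subgroup.mul_mem_sup hj ((FailureFactor.rho_eq_one V).1 ?_)
    rw [map_mul, map_inv, hjg, inv_mul_cancel]
  · refine sup_le ?_ ?_
    · intro g hg
      have := hnorm (Subgroup.mem_map_of_mem (FailureFactor.rho V) hg)
      rw [Subgroup.mem_normalizer_iff] at this ⊢
      intro x
      rw [Subgroup.mem_comap, Subgroup.mem_comap, map_mul, map_mul, map_inv]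
      exact this (FailureFactor.rho V x)
    · intro g hg
      rw [Subgroup.mem_normalizer_iff]
      intro x
      rw [Subgroup.mem_comap, Subgroup.mem_comap, map_mul, map_mul, map_inv,
        (FailureFactor.rho_eq_one V).2 hg, one_mul, inv_one, mul_one]
  · have hker : C.subgroupOf (Eb.comap (FailureFactor.rho V)) =
        ((FailureFactor.rho V).subgroupComap Eb).ker := by
      ext x
      rw [MonoidHom.mem_ker, Subgroup.mem_subgroupOf, Subtype.ext_iff]
      exact (FailureFactor.rho_eq_one V).symm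
    have hn : (C.subgroupOf (Eb.comap (FailureFactor.rho V))).Normal := hker ▸ MonoidHom.normal_ker _
    refine ⟨hn, ⟨((QuotientGroup.quotientMulEquivOfEq hker).trans
      (QuotientGroup.quotientKerEquivOfSurjective _ ?_)).trans φ⟩⟩
    rintro ⟨y, hy⟩
    obtain ⟨g, -, rfl⟩ := hEH hy
    exact ⟨⟨g, hy⟩, rfl⟩

end Cfsg.Agent.S0618
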