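import Cfsg.Statements.S0619
import Cfsg.Agent.Lib.Fusion.FailureFactor
-- import your own Cfsg.Agent.* helpers here

set_option autoImplicit false
open Cfsg
open CfsgLib.Fusion
open scoped commutatorElement

namespace Cfsg.Agent.S0619

/-- For a p-separable group and a normal elementary abelian p-subgroup V with no nontrivial normal p-subgroup modulo its centralizer C, the Thompson subgroup J(G) moves Ω₁(Z(J(C))) only inside V. -/
theorem result {G : Type*} [Group G] [Finite G] {p : ℕ} [Fact p.Prime] (hsep : Cfsg.IsPSolvable p G) (V : Subgroup G) [V.Normal] (hV : Cfsg.IsElementaryAbelian p V) (hO : Cfsg.pCore p (G ⧸ Subgroup.centralizer (V : Set G)) = ⊥) : ⁅Cfsg.omegaOne p (Cfsg.centerThompsonOf p (Subgroup.centralizer (V : Set G))), Cfsg.thompsonSubgroup p G⁆ ≤ V := by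
  set C := Subgroup.centralizer (V : Set G) with hC
  have hVc := CfsgLib.Solvable.Basic.isMulCommutative_subgroup_iff.1 hV.1
  have key : ∀ A ∈ Cfsg.maxElementaryAbelianSubgroups p G,
      Cfsg.omegaOne p (Cfsg.centerThompsonOf p C) ≤ (A ⊓ C) ⊔ V := by
    intro A hA
    have hw := OffenderBasic.wt_eq (FailureFactor.setup V hsep hV hO ⊤)
      (Subgroup.map_mono le_top) (FailureFactor.image_isBest V hV hA)
    rw [ReplacementEA.wt, FailureFactor.card_fix, FailureFactor.card_vv] at hw
    have hAV : V ⊓ Subgroup.centralizer (A : Set G) = A ⊓ C ⊓ V := by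
      refine le_antisymm (fun x hx => ?_) (fun x hx => ?_)
      · exact Subgroup.mem_inf.2 ⟨Subgroup.mem_inf.2
          ⟨Thompson.mem_of_pow_eq_one_of_centralizes hA hx.2 (hV.2 x hx.1),
            Subgroup.mem_centralizer_iff.2 fun v hv => hVc v hv x hx.1⟩, hx.1⟩
      · exact Subgroup.mem_inf.2 ⟨hx.2, Subgroup.mem_centralizer_iff.2 fun a ha =>
          Thompson.mul_comm_of_isEA hA.1 ha hx.1.1⟩
    have h1 := Thompson.card_sup_mul_card_inf (N := A ⊓ C) (K := V)
      (le_trans (fun v hv => Subgroup.mem_centralizer_iff.2 fun a ha =>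
        ((Subgroup.mem_centralizer_iff.1 (Subgroup.mem_inf.1 ha).2) v hv).symm)
        (Subgroup.centralizer_le_normalizer _))
    have h2 := FailureFactor.card_map_mul V A
    have hcard : Nat.card A ≤ Nat.card ↥((A ⊓ C) ⊔ V) := by
      refine Nat.le_of_mul_le_mul_right (le_of_eq ?_) (Nat.card_pos (α := (A ⊓ C ⊓ V : Subgroup G)))
      rw [h1, ← h2, ← hw, hAV]
      ring
    have hEA : Cfsg.IsElementaryAbelian p ((A ⊓ C) ⊔ V : Subgroup G) :=
      CfsgLib.Solvable.ThompsonReplacement.isEA_sup (Thompson.isEA_le hA.1 inf_le_left) hV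
        fun a ha v hv => (Subgroup.mem_centralizer_iff.1 (Subgroup.mem_inf.1 ha).2 v hv).symm
    have hmax : ((A ⊓ C) ⊔ V : Subgroup G) ∈ Cfsg.maxElementaryAbelianSubgroups p G :=
      ⟨hEA, fun B hB => (hA.2 B hB).trans hcard⟩
    have hle : ((A ⊓ C) ⊔ V : Subgroup G) ≤ C :=
      sup_le inf_le_right fun v hv => Subgroup.mem_centralizer_iff.2 fun w hw' => hVc w hw' v hv
    refine (Subgroup.closure_le _).2 fun x hx => Thompson.mem_of_pow_eq_one_of_centralizes hmax ?_ hx.2
    refine Subgroup.centralizer_le (SetLike.coe_subset_coe.2 ?_) hx.1.2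
    rw [Thompson.thompsonSubgroupOf_eq hmax hle]
    exact le_sSup ⟨hmax, hle⟩
  rw [Subgroup.commutator_comm, Cfsg.thompsonSubgroup, Subgroup.commutator_le]
  intro x hx z hz
  let Q : Subgroup G :=
    { carrier := {g | ∀ z ∈ Cfsg.omegaOne p (Cfsg.centerThompsonOf p C), ⁅g, z⁆ ∈ V}
      one_mem' := fun z _ => by simp [V.one_mem]
      mul_mem' := by
        intro a b ha hb z hz
        rw [commutatorElement_mul_left_eq_conj_mul]
        exact mul_mem (Subgroup.Normal.conj_mem inferInstance _ (hb z hz) a) (ha z hz)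
      inv_mem' := by
        intro a ha z hz
        rw [commutatorElement_inv_left]
        have h := inv_mem (ha z hz)
        rw [commutatorElement_inv] at h
        have := Subgroup.Normal.conj_mem (inferInstance : V.Normal) _ h a⁻¹
        simpa [mul_assoc] using this }
  refine (sSup_le fun A hA => ?_ : sSup (Cfsg.maxElementaryAbelianSubgroups p G) ≤ Q) hx z hz
  intro a ha w hw
  have hw' := key A hA hw
  rw [← SetLike.mem_coe, Subgroup.mul_normal] at hw'
  obtain ⟨c, hc, v, hv, rfl⟩ := Set.mem_mul.1 hw'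
  rw [commutatorElement_mul_right_eq_mul_conj,
    commutatorElement_eq_one_iff_mul_comm.2 (Thompson.mul_comm_of_isEA hA.1 ha (Subgroup.mem_inf.1 hc).1),
    one_mul]
  refine Subgroup.Normal.conj_mem inferInstance _ ?_ c
  rw [commutatorElement_def]
  exact mul_mem (Subgroup.Normal.conj_mem inferInstance v hv a) (inv_mem hv)

end Cfsg.Agent.S0619
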