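import Cfsg.Statements.S0620
import Cfsg.Agent.Lib.Fusion.OffenderAction
-- import your own Cfsg.Agent.* helpers here

set_option autoImplicit false
open Cfsg
open CfsgLib.Fusion

namespace Cfsg.Agent.S0620

/-- Under coprime action of an elementary abelian q-group X on a p-separable group K with trivial p'-core, K is generated by the normalizer of J(S), the centralizer of Ω₁(Z(S)) and the fixed points of X. -/
theorem result {G : Type*} [Group G] [Finite G] {p : ℕ} [Fact p.Prime] {q : ℕ} [Fact q.Prime] (K X : Subgroup G) (hXK : X ≤ Subgroup.normalizer (K : Set G)) (hX : Cfsg.IsElementaryAbelian q X) (hq : ¬ q ∣ Nat.card K) (hsep : Cfsg.IsPSolvable p ↥K) (hO : Cfsg.pPrimeCore p ↥K = ⊥) (S : Sylow p ↥K) : (Subgroup.normalizer (Cfsg.thompsonSubgroupOf p (S : Subgroup ↥K) : Set ↥K) ⊔ Subgroup.centralizer (Cfsg.omegaOne p ((S : Subgroup ↥K) ⊓ Subgroup.centralizer ((S : Subgroup ↥K) : Set ↥K)) : Set ↥K) ⊔ (Subgroup.centralizer (X : Set G)).subgroupOf K)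 = ⊤ := by
  let σ : X →* MulAut ↥K := (Subgroup.normalizerMonoidHom K).comp (Subgroup.inclusion hXK)
  have hexp : ∀ x : X, x ^ q = 1 := fun x => Subtype.ext (by simpa using hX.2 x x.2)
  have hXp : IsPGroup q X := fun x => ⟨1, by rw [pow_one]; exact hexp x⟩
  haveI := OmegaCenter.normal (p := p) (G := ↥K)
  set V := OmegaCenter.closureOmega p ↥K with hVdef
  set C := Subgroup.centralizer (V : Set ↥K) with hCdef
  set qq := QuotientGroup.mk' C with hqq
  set L : Subgroup ↥K := Subgroup.normalizer (Cfsg.thompsonSubgroupOf p (S : Subgroup ↥K) : Set ↥K) ⊔ Subgroup.centralizer (Cfsg.omegaOne p ((S : Subgroup ↥K) ⊓ Subgroup.centralizer ((S : Subgroup ↥K) : Set ↥K)) : Set ↥K) ⊔ (Subgroup.centralizer (X : Set G)).subgroupOf K with hL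
  have hCL : C ≤ L := le_trans (Subgroup.centralizer_le (SetLike.coe_subset_coe.2
    (le_iSup (fun T : Sylow p ↥K => Cfsg.omegaOne p ((T : Subgroup ↥K) ⊓
      Subgroup.centralizer ((T : Subgroup ↥K) : Set ↥K))) S))) (le_sup_right.trans le_sup_left)
  have hNL : Subgroup.normalizer (Cfsg.thompsonSubgroupOf p (S : Subgroup ↥K) : Set ↥K) ≤ L :=
    le_sup_left.trans le_sup_left
  have hSL : (S : Subgroup ↥K) ≤ L :=
    Subgroup.le_normalizer.trans ((Thompson.normalizer_le_normalizer_thompsonOf _).trans hNL)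
  have hfixL : ∀ k : ↥K, (∀ x, σ x k = k) → k ∈ L := by
    intro k hk
    refine Subgroup.mem_sup_right (Subgroup.mem_subgroupOf.2 (Subgroup.mem_centralizer_iff.2 fun x hx => ?_))
    have h : x * (k : G) * x⁻¹ = k := congrArg Subtype.val (hk ⟨x, hx⟩)
    exact mul_inv_eq_iff_eq_mul.1 h
  have htv : ∀ a : ↥K ⧸ C, OffenderAction.IsTv a → a ∈ L.map qq := by
    intro a ha
    obtain ⟨h, hh, u, hu, he⟩ := OffenderAction.exists_conj_sylow hsep hO ha S
    have hgen : ∀ f ∈ OffenderAction.egroup a, f * (h * a * h⁻¹) * f⁻¹ ∈ L.map qq := by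
      intro f hf
      obtain ⟨k, hk, z, -, hz, hkz⟩ := OffenderAction.exists_fixed hsep hO σ hXp hexp hq ha hf
        (M := ⊤) (fun _ _ _ => le_top)
      have hmem : h * a * h⁻¹ ∈ OffenderAction.egroup a := Subgroup.subset_closure ⟨h, hh, rfl⟩
      have h1 : qq k * qq u * (qq k)⁻¹ ∈ L.map qq := by
        rw [← map_inv, ← map_mul, ← map_mul]
        exact Subgroup.mem_map_of_mem qq (mul_mem (mul_mem (hfixL k hk) (hSL hu)) (inv_mem (hfixL k hk)))
      rw [he, hkz] at h1
      rwa [show f * z * (h * a * h⁻¹) * (f * z)⁻¹ = f * (z * (h * a * h⁻¹)) * z⁻¹ * f⁻¹ by group,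
        hz _ hmem, show f * (h * a * h⁻¹ * z) * z⁻¹ * f⁻¹ = f * (h * a * h⁻¹) * f⁻¹ by group] at h1
    obtain ⟨e, hea, hee⟩ := OffenderAction.exists_conj_mem hsep hO ha hh
    have h2 := hgen e⁻¹ (inv_mem hea)
    rwa [hee, show e⁻¹ * (e * a * e⁻¹) * e⁻¹⁻¹ = a by group] at h2
  have hN : (OffenderAction.jq p ↥K).comap qq ≤ L := by
    refine (Subgroup.comap_mono ((OffenderAction.jq_le_closure hsep hO).trans
      ((Subgroup.closure_le _).2 htv))).trans ?_
    rw [Subgroup.comap_map_eq, QuotientGroup.ker_mk']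
    exact sup_le le_rfl hCL
  set N := (OffenderAction.jq p ↥K).comap qq with hNdef
  haveI : (OffenderAction.jq p ↥K).Normal :=
    (inferInstance : (Cfsg.thompsonSubgroup p ↥K).Normal).map _ (QuotientGroup.mk'_surjective _)
  haveI : N.Normal := Subgroup.Normal.comap inferInstance _
  let U : Sylow p N := Basic.sylowSubgroupOf (inf_le_right : (S : Subgroup ↥K) ⊓ N ≤ N)
    (S.2.to_le inf_le_left) (Basic.not_dvd_relIndex_of_normal S N)
  have htop := Sylow.normalizer_sup_eq_top U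
  rw [Basic.map_sylowSubgroupOf] at htop
  obtain ⟨A₀, hA₀, hle⟩ := Thompson.exists_maxEA_le_sylow S
  have hJN : ∀ A ∈ Cfsg.maxElementaryAbelianSubgroups p ↥K, A ≤ N := fun A hA =>
    (le_sSup hA).trans fun g hg => Subgroup.mem_map_of_mem qq hg
  have hJeq : Cfsg.thompsonSubgroupOf p ((S : Subgroup ↥K) ⊓ N) =
      Cfsg.thompsonSubgroupOf p (S : Subgroup ↥K) := by
    rw [Thompson.thompsonSubgroupOf_eq hA₀ (le_inf hle (hJN A₀ hA₀)),
      Thompson.thompsonSubgroupOf_eq hA₀ hle]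
    congr 1
    ext A
    exact ⟨fun hA => ⟨hA.1, hA.2.trans inf_le_left⟩, fun hA => ⟨hA.1, le_inf hA.2 (hJN A hA.1)⟩⟩
  rw [eq_top_iff, ← htop]
  refine sup_le ?_ hN
  refine le_trans ?_ hNL
  rw [← hJeq]
  exact Thompson.normalizer_le_normalizer_thompsonOf _

end Cfsg.Agent.S0620
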