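import Cfsg.Statements.S0621
import Cfsg.Agent.Lib.Fusion.OffenderFixed
import Cfsg.Agent.S0608
-- import your own Cfsg.Agent.* helpers here

set_option autoImplicit false
open Cfsg
open CfsgLib.Fusion

namespace Cfsg.Agent.S0621

/-- Let K be p-separable with O_p'(K) = 1, normalized by an elementary abelian q-group X for a prime q not dividing the order of K. If the Thompson factorization fails in K, then p is 2 or 3 and the fixed points of X contain a plane W of order p² and a subgroup inducing SL(2, p) on it. -/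
theorem result {G : Type*} [Group G] [Finite G] {p : ℕ} [Fact p.Prime] {q : ℕ} [Fact q.Prime] (K X : Subgroup G) (hXK : X ≤ Subgroup.normalizer (K : Set G)) (hX : Cfsg.IsElementaryAbelian q X) (hq : ¬ q ∣ Nat.card K) (hsep : Cfsg.IsPSolvable p ↥K) (hO : Cfsg.pPrimeCore p ↥K = ⊥) (hnf : ¬ Cfsg.IsThompsonFactorizable p ↥K) : (p = 2 ∨ p = 3) ∧ ∃ W D : Subgroup G, W ≤ K ⊓ Subgroup.centralizer (X : Set G) ∧ D ≤ K ⊓ Subgroup.centralizer (X : Set G) ∧ Cfsg.IsElementaryAbelian p W ∧ Nat.card W = p ^ 2 ∧ D ≤ Subgroup.normalizer (W : Set G) ∧ ∃ hn : ((Subgroup.centralizer (W : Set G)).subgroupOf D).Normal, Nonempty ((↥D ⧸ (Subgroup.centralizer (W : Set G)).subgroupOf D) ≃* Matrix.SpecialLinearGroup (Fin 2) (ZMod p)) := by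
  let σ : X →* MulAut ↥K := (Subgroup.normalizerMonoidHom K).comp (Subgroup.inclusion hXK)
  have hexp : ∀ x : X, x ^ q = 1 := fun x => Subtype.ext (by simpa using hX.2 x x.2)
  have hXp : IsPGroup q X := fun x => ⟨1, by rw [pow_one]; exact hexp x⟩
  haveI := OmegaCenter.normal (p := p) (G := ↥K)
  set V := OmegaCenter.closureOmega p ↥K with hVdef
  set C := Subgroup.centralizer (V : Set ↥K) with hCdef
  set qq := QuotientGroup.mk' C with hqq
  obtain ⟨a, ha⟩ := OffenderAction.exists_isTv hsep hO fun h => hnf ((Cfsg.Agent.S0608.result hO).2 h)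
  set P := OffenderFixed.plane a with hP
  obtain ⟨N, hNinj, hNV, hNfix, hNeq⟩ := OffenderFixed.exists_norm_hom hsep hO σ hXp hq ha
  set W : Subgroup G := N.range.map K.subtype with hW
  set NJ := (OffenderAction.jq p ↥K).comap qq with hNJ
  set D' : Subgroup ↥K := NJ ⊓ (Subgroup.centralizer (X : Set G)).subgroupOf K with hD'
  have hfix : ∀ k : ↥K, (∀ x, σ x k = k) ↔ (k : G) ∈ Subgroup.centralizer (X : Set G) := by
    intro k
    constructor
    · exact fun hk => Subgroup.mem_centralizer_iff.2 fun x hx =>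
        mul_inv_eq_iff_eq_mul.1 (congrArg Subtype.val (hk ⟨x, hx⟩))
    · exact fun hk x => Subtype.ext (mul_inv_eq_iff_eq_mul.2 (Subgroup.mem_centralizer_iff.1 hk x x.2))
  let θ : NJ →* MulAut P := (Subgroup.normalizerMonoidHom P).comp
    (Subgroup.inclusion fun g hg => OffenderFixed.normalizer_plane hg)
  have hθ : ∀ (g : NJ) (w : P), ((θ g w : P) : ↥K) = (g : ↥K) * w * (g : ↥K)⁻¹ := fun _ _ => rfl
  have hsmul : ∀ k : NJ, (∀ x, σ x k = k) → ∀ w : P, N (θ k w) = (k : ↥K) * N w * (k : ↥K)⁻¹ :=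
    fun k hk w => hNeq k hk w (θ k w) rfl
  refine ⟨OffenderAction.prime_cases hsep hO ha, W, D'.map K.subtype, ?_, ?_, ⟨?_, ?_⟩, ?_, ?_, ?_⟩
  · rintro _ ⟨_, ⟨w, rfl⟩, rfl⟩
    exact ⟨(N w).2, (hfix _).1 fun x => hNfix x w⟩
  · rintro _ ⟨k, hk, rfl⟩
    exact ⟨k.2, hk.2⟩
  · refine CfsgLib.Solvable.Basic.isMulCommutative_subgroup_iff.2 ?_
    rintro _ ⟨_, ⟨u, rfl⟩, rfl⟩ _ ⟨_, ⟨v, rfl⟩, rfl⟩
    exact congrArg K.subtype (CfsgLib.Solvable.Basic.isMulCommutative_subgroup_iff.1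
      (OmegaCenter.isEA hsep hO).1 _ (hNV u) _ (hNV v))
  · rintro _ ⟨_, ⟨u, rfl⟩, rfl⟩
    rw [← map_pow, (OmegaCenter.isEA hsep hO).2 _ (hNV u), map_one]
  · rw [Subgroup.card_map_of_injective K.subtype_injective,
      ← Nat.card_congr (MonoidHom.ofInjective hNinj).toEquiv, OffenderFixed.card_plane hsep hO ha]
  · have hmap : ∀ k ∈ D', ∀ y ∈ W, (k : G) * y * (k : G)⁻¹ ∈ W := by
      rintro k hk _ ⟨_, ⟨w, rfl⟩, rfl⟩
      refine ⟨_, ⟨θ ⟨k, hk.1⟩ w, rfl⟩, ?_⟩
      rw [hsmul ⟨k, hk.1⟩ ((hfix k).2 hk.2)]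
      rfl
    rintro _ ⟨k, hk, rfl⟩
    rw [Subgroup.mem_normalizer_iff]
    intro y
    refine ⟨fun hy => hmap k hk y hy, fun hy => ?_⟩
    have h2 := hmap k⁻¹ (inv_mem hk) _ hy
    change ((k : G))⁻¹ * ((k : G) * y * (k : G)⁻¹) * ((k : G))⁻¹⁻¹ ∈ W at h2
    rwa [show ((k : G))⁻¹ * ((k : G) * y * (k : G)⁻¹) * ((k : G))⁻¹⁻¹ = y by group] at h2
  · let e₁ := D'.equivMapOfInjective K.subtype K.subtype_injective
    let ψ : ↥(D'.map K.subtype) →* MulAut P :=
      θ.comp ((Subgroup.inclusion (inf_le_left : D' ≤ NJ)).comp e₁.symm.toMonoidHom)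
    have hker : (Subgroup.centralizer (W : Set G)).subgroupOf (D'.map K.subtype) = ψ.ker := by
      ext d
      obtain ⟨⟨k, hk⟩, rfl⟩ := e₁.surjective d
      have hψ : ψ (e₁ ⟨k, hk⟩) = θ ⟨k, hk.1⟩ := by
        show θ (Subgroup.inclusion (inf_le_left : D' ≤ NJ) (e₁.symm (e₁ _))) = _
        rw [MulEquiv.symm_apply_apply]; rfl
      rw [MonoidHom.mem_ker, hψ, Subgroup.mem_subgroupOf]
      constructor
      · intro h
        refine MulEquiv.ext fun w => hNinj ?_
        rw [hsmul ⟨k, hk.1⟩ ((hfix k).2 hk.2)]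
        show k * N w * k⁻¹ = N w
        refine Subtype.ext (mul_inv_eq_iff_eq_mul.2 ?_)
        exact (Subgroup.mem_centralizer_iff.1 h _ ⟨N w, ⟨w, rfl⟩, rfl⟩).symm
      · intro h
        refine Subgroup.mem_centralizer_iff.2 ?_
        rintro _ ⟨_, ⟨w, rfl⟩, rfl⟩
        have h1 := hsmul ⟨k, hk.1⟩ ((hfix k).2 hk.2) w
        rw [h] at h1
        have h2 : ((k : ↥K) : G) * (N w : G) * (k : G)⁻¹ = (N w : G) := (congrArg Subtype.val h1).symm
        exact (mul_inv_eq_iff_eq_mul.1 h2).symm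
    have hEJ : (OffenderAction.egroup a).comap qq ≤ NJ :=
      Subgroup.comap_mono (OffenderAction.egroup_le ha)
    let θE := θ.comp (Subgroup.inclusion hEJ)
    have hrange : ψ.range = θE.range := by
      refine le_antisymm ?_ ?_
      · rintro _ ⟨d, rfl⟩
        obtain ⟨g', hg', hg''⟩ := OffenderFixed.exists_component hsep hO ha
          ((e₁.symm d).2.1 : qq ((e₁.symm d : ↥D') : ↥K) ∈ _)
        exact ⟨⟨g', hg'⟩, MulEquiv.ext fun w => Subtype.ext (hg'' w w.2).symm⟩
      · rintro _ ⟨⟨g, hg⟩, rfl⟩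
        have hM : ∀ c, OffenderAction.IsTv c → OffenderAction.egroup c ≠ OffenderAction.egroup a →
            OffenderAction.egroup c ≤ (Subgroup.centralizer (P : Set ↥K) ⊓ NJ).map qq := by
          intro c hc hne e he
          obtain ⟨g, rfl⟩ := QuotientGroup.mk'_surjective C e
          refine Subgroup.mem_map_of_mem qq (Subgroup.mem_inf.2
            ⟨Subgroup.mem_centralizer_iff.2 fun w hw => ?_, OffenderAction.egroup_le hc he⟩)
          exact (OffenderFixed.plane_le_fixed hsep hO hc ha (Ne.symm hne) hw he).symm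
        obtain ⟨k, hk, z, ⟨g'', hg'', rfl⟩, -, hkz⟩ :=
          OffenderAction.exists_fixed hsep hO σ hXp hexp hq ha hg hM
        rw [← map_mul] at hkz
        have hkJ : k ∈ NJ := by
          show qq k ∈ OffenderAction.jq p ↥K
          rw [hkz, map_mul]
          exact mul_mem (OffenderAction.egroup_le ha hg) hg''.2
        have hkC : (g * g'')⁻¹ * k ∈ C := (QuotientGroup.eq_one_iff _).1 (by
          show qq ((g * g'')⁻¹ * k) = 1
          rw [map_mul, map_inv, hkz, inv_mul_cancel])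
        refine ⟨e₁ ⟨k, ⟨hkJ, (hfix k).1 hk⟩⟩, MulEquiv.ext fun w => Subtype.ext ?_⟩
        show ((e₁.symm (e₁ ⟨k, _⟩) : ↥D') : ↥K) * w * ((e₁.symm (e₁ ⟨k, _⟩) : ↥D') : ↥K)⁻¹ = g * w * g⁻¹
        rw [MulEquiv.symm_apply_apply]
        have h1 := Subgroup.mem_centralizer_iff.1 hkC _ (OffenderFixed.plane_le a w.2)
        have h2 := Subgroup.mem_centralizer_iff.1 hg''.1 _ w.2
        calc k * (w : ↥K) * k⁻¹ = g * g'' * ((g * g'')⁻¹ * k * w) * k⁻¹ := by group
          _ = g * g'' * (w * ((g * g'')⁻¹ * k)) * k⁻¹ := by rw [h1]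
          _ = g * (g'' * w) * g''⁻¹ * g⁻¹ := by group
          _ = g * w * g⁻¹ := by rw [← h2]; group
    have hkerE : θE.ker = (qq.subgroupComap (OffenderAction.egroup a)).ker := by
      ext ⟨g, hg⟩
      rw [MonoidHom.mem_ker, MonoidHom.mem_ker]
      constructor
      · intro h
        exact Subtype.ext (OffenderFixed.eq_one_of_fixes hsep hO ha hg fun w hw =>
          mul_inv_eq_iff_eq_mul.1 (congrArg (fun f : MulAut P => ((f ⟨w, hw⟩ : P) : ↥K)) h))
      · intro h
        refine MulEquiv.ext fun w => Subtype.ext ?_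
        have hgC : g ∈ C := (QuotientGroup.eq_one_iff g).1 (congrArg Subtype.val h)
        exact mul_inv_eq_iff_eq_mul.2
          (Subgroup.mem_centralizer_iff.1 hgC _ (OffenderFixed.plane_le a w.2)).symm
    have hsurj : Function.Surjective (qq.subgroupComap (OffenderAction.egroup a)) := by
      rintro ⟨y, hy⟩
      obtain ⟨g, rfl⟩ := QuotientGroup.mk'_surjective C y
      exact ⟨⟨g, hy⟩, rfl⟩
    obtain ⟨φ⟩ := OffenderAction.exists_equiv hsep hO ha
    haveI hn : ((Subgroup.centralizer (W : Set G)).subgroupOf (D'.map K.subtype)).Normal :=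
      hker ▸ MonoidHom.normal_ker _
    exact ⟨hn, ⟨(((QuotientGroup.quotientMulEquivOfEq hker).trans
      (QuotientGroup.quotientKerEquivRange ψ)).trans ((MulEquiv.subgroupCongr hrange).trans
        ((QuotientGroup.quotientKerEquivRange θE).symm.trans
          ((QuotientGroup.quotientMulEquivOfEq hkerE).trans
            (QuotientGroup.quotientKerEquivOfSurjective _ hsurj))))).trans φ⟩⟩

end Cfsg.Agent.S0621
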