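import Cfsg.Statements.S0622
import Cfsg.Agent.Lib.Fusion.Thompson
import Cfsg.Agent.Lib.LocalEven.SylowIn

set_option autoImplicit false
universe u
open Cfsg

namespace Cfsg.Agent.S0622

theorem map_omegaOne {G H : Type*} [Group G] [Group H] {p : ℕ} (f : G →* H) (hf : Function.Injective f)
    (K : Subgroup G) : (Cfsg.omegaOne p K).map f = Cfsg.omegaOne p (K.map f) := by
  rw [Cfsg.omegaOne, Cfsg.omegaOne, MonoidHom.map_closure]
  congr 1
  ext x
  constructor
  · rintro ⟨y, hy, rfl⟩
    exact ⟨⟨y, hy.1, rfl⟩, by rw [← map_pow, hy.2, map_one]⟩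
  · rintro ⟨⟨y, hy, rfl⟩, hp⟩
    exact ⟨y, ⟨hy, hf (by rw [map_pow, hp, map_one])⟩, rfl⟩

theorem map_inf_centralizer {G H : Type*} [Group G] [Group H] (f : G →* H) (hf : Function.Injective f)
    (J : Subgroup G) : (J ⊓ Subgroup.centralizer (J : Set G)).map f =
      J.map f ⊓ Subgroup.centralizer ((J.map f : Subgroup H) : Set H) := by
  ext x
  constructor
  · rintro ⟨y, ⟨hy, hyc⟩, rfl⟩
    refine ⟨⟨y, hy, rfl⟩, Subgroup.mem_centralizer_iff.mpr ?_⟩
    rintro _ ⟨j, hj, rfl⟩
    rw [← map_mul, ← map_mul, Subgroup.mem_centralizer_iff.mp hyc j hj]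
  · rintro ⟨⟨y, hy, rfl⟩, hc⟩
    refine ⟨y, ⟨hy, Subgroup.mem_centralizer_iff.mpr fun j hj => hf ?_⟩, rfl⟩
    rw [map_mul, map_mul]
    exact Subgroup.mem_centralizer_iff.mp hc _ ⟨j, hj, rfl⟩

theorem normal_map_omegaCenterThompson {S H : Type*} [Group S] [Group H] {p : ℕ} (τ : S →* H)
    (hτ : Function.Injective τ) (hJ : ((Cfsg.thompsonSubgroup p S).map τ).Normal) :
    ((Cfsg.omegaCenterThompson p S).map τ).Normal := by
  haveI := hJ
  rw [Cfsg.omegaCenterThompson, map_omegaOne τ hτ, map_inf_centralizer τ hτ]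
  set Z := (Cfsg.thompsonSubgroup p S).map τ ⊓ Subgroup.centralizer
    (((Cfsg.thompsonSubgroup p S).map τ : Subgroup H) : Set H) with hZ
  haveI : Z.Normal := inferInstance
  refine ⟨fun x hx g => ?_⟩
  have h1 : (Cfsg.omegaOne p Z).map (MulAut.conj g).toMonoidHom = Cfsg.omegaOne p Z := by
    rw [map_omegaOne _ (MulAut.conj g).injective]
    congr 1
    exact Subgroup.Normal.map_conj_eq Z g
  rw [← h1]
  exact ⟨x, hx, rfl⟩

theorem isStable_comp {S S' H : Type u} [Group S] [Group S'] [Group H] {p : ℕ} (η : S ≃* S') (τ : S' →* H)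
    (h : Cfsg.IsStableEmbedding p τ) : Cfsg.IsStableEmbedding p (τ.comp η.toMonoidHom) := by
  obtain ⟨h1, h2, ⟨P, hP⟩, h4, h5, h6⟩ := h
  have hJ : (Cfsg.thompsonSubgroup p S).map (τ.comp η.toMonoidHom) = (Cfsg.thompsonSubgroup p S').map τ := by
    rw [← Subgroup.map_map, CfsgLib.Fusion.Thompson.map_thompson_equiv]
  have hO : (Cfsg.omegaCenterThompson p S).map (τ.comp η.toMonoidHom) = (Cfsg.omegaCenterThompson p S').map τ := by
    rw [← Subgroup.map_map, Cfsg.omegaCenterThompson, Cfsg.omegaCenterThompson, map_omegaOne _ η.injective,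
      map_inf_centralizer _ η.injective, CfsgLib.Fusion.Thompson.map_thompson_equiv]
  refine ⟨h1.comp η.injective, h2, ⟨P, ?_⟩, h4, by rw [hJ]; exact h5, fun V hV hVW => h6 V (hO ▸ hVW)⟩
  rw [hP, MonoidHom.range_comp, show η.toMonoidHom.range = ⊤ from MonoidHom.range_eq_top.mpr η.surjective,
    MonoidHom.range_eq_map]

theorem map_stableNormalClosure {S S' : Type u} [Group S] [Group S'] {p : ℕ} (η : S ≃* S') :
    (Cfsg.stableNormalClosure p S).map η.toMonoidHom = Cfsg.stableNormalClosure p S' := by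
  have key : ∀ {S S' : Type u} [Group S] [Group S'] (η : S ≃* S'),
      Cfsg.stableNormalClosure p S' ≤ (Cfsg.stableNormalClosure p S).map η.toMonoidHom := by
    intro S S' _ _ η
    rw [show (Cfsg.stableNormalClosure p S).map η.toMonoidHom =
      (Cfsg.stableNormalClosure p S).comap η.symm.toMonoidHom from Subgroup.map_equiv_eq_comap_symm η _]
    intro x hx
    rw [Subgroup.mem_comap, Cfsg.stableNormalClosure, Subgroup.mem_sInf]
    intro W hW
    have hmem : W.map η.toMonoidHom ∈ {W : Subgroup S' | Cfsg.omegaOne p (Subgroup.center S') ≤ W ∧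
        ∀ (H : Type u) [Group H] (τ : S' →* H), Cfsg.IsStableEmbedding p τ → (W.map τ).Normal} := by
      refine ⟨?_, fun H _ τ hτ => ?_⟩
      · rw [Cfsg.omegaOne, Subgroup.closure_le]
        rintro z ⟨hz, hzp⟩
        refine ⟨η.symm z, hW.1 (Subgroup.subset_closure ⟨?_, ?_⟩), η.apply_symm_apply z⟩
        · rw [Subgroup.mem_center_iff]
          intro g
          apply η.injective
          rw [map_mul, map_mul, η.apply_symm_apply]
          exact Subgroup.mem_center_iff.mp hz (η g)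
        · rw [← map_pow, hzp, map_one]
      · rw [Subgroup.map_map]
        exact hW.2 H _ (isStable_comp η τ hτ)
    obtain ⟨w, hw, hwx⟩ := Subgroup.mem_sInf.mp hx _ hmem
    rw [← hwx]
    show η.symm (η w) ∈ W
    rw [η.symm_apply_apply]
    exact hw
  refine le_antisymm ?_ (key η)
  intro x hx
  obtain ⟨w, hw, rfl⟩ := hx
  obtain ⟨v, hv, hvw⟩ := key η.symm hw
  rw [← hvw]
  show η (η.symm v) ∈ _
  rw [η.apply_symm_apply]
  exact hv


/-- Basic properties of the stable normal closure W(S) of Ω₁(Z(S)) in a finite p-group: characteristic, squeezed between Ω₁(Z(S)) and Ω₁(Z(J(S))), nontrivial for S ≠ 1, and transported by group isomorphisms. -/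
theorem result {S : Type u} [Group S] [Finite S] {p : ℕ} [Fact p.Prime] (hS : IsPGroup p S) : (Cfsg.stableNormalClosure p S).Characteristic ∧ Cfsg.omegaOne p (Subgroup.center S) ≤ Cfsg.stableNormalClosure p S ∧ Cfsg.stableNormalClosure p S ≤ Cfsg.omegaCenterThompson p S ∧ (Nontrivial S → Cfsg.stableNormalClosure p S ≠ ⊥) ∧ ∀ (S' : Type u) [Group S'] (η : S ≃* S'), (Cfsg.stableNormalClosure p S).map η.toMonoidHom = Cfsg.stableNormalClosure p S' := by
  have hW0 : Cfsg.omegaCenterThompson p S ∈ {W : Subgroup S | Cfsg.omegaOne p (Subgroup.center S) ≤ W ∧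
      ∀ (H : Type u) [Group H] (τ : S →* H), Cfsg.IsStableEmbedding p τ → (W.map τ).Normal} := by
    refine ⟨?_, fun H _ τ hτ => normal_map_omegaCenterThompson τ hτ.1 hτ.2.2.2.2.1⟩
    rw [Cfsg.omegaOne, Subgroup.closure_le]
    rintro z ⟨hz, hzp⟩
    have hzc : ∀ T : Set S, z ∈ Subgroup.centralizer T := fun T => Subgroup.center_le_centralizer T hz
    obtain ⟨A, hA⟩ := CfsgLib.Fusion.Thompson.exists_maxEA (p := p) (G := S)
    exact Subgroup.subset_closure ⟨⟨le_sSup hA
      (CfsgLib.Fusion.Thompson.mem_of_mem_centralizer_thompson hA (hzc _) hzp), hzc _⟩, hzp⟩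
  refine ⟨?_, ?_, sInf_le hW0, ?_, fun S' _ η => map_stableNormalClosure η⟩
  · exact Subgroup.characteristic_iff_map_eq.mpr fun η => map_stableNormalClosure η
  · exact le_sInf fun W hW => hW.1
  · intro hS1 hbot
    haveI := hS1
    obtain ⟨m, hm, hc⟩ := (hS.to_subgroup (Subgroup.center S)).nontrivial_iff_card.mp hS.center_nontrivial
    obtain ⟨z, hz⟩ := exists_prime_orderOf_dvd_card' (G := Subgroup.center S) p
      (by rw [hc]; exact dvd_pow_self p hm.ne')
    rw [← Subgroup.orderOf_coe] at hz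
    have hzW : (z : S) ∈ Cfsg.stableNormalClosure p S := by
      have hle : Cfsg.omegaOne p (Subgroup.center S) ≤ Cfsg.stableNormalClosure p S := le_sInf fun W hW => hW.1
      exact hle (Subgroup.subset_closure ⟨z.2, by rw [← hz, pow_orderOf_eq_one]⟩)
    rw [hbot, Subgroup.mem_bot] at hzW
    rw [hzW, orderOf_one] at hz
    exact (Fact.out : p.Prime).ne_one hz.symm

end Cfsg.Agent.S0622
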