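import Cfsg.Statements.S0627
import Cfsg.Agent.Lib.Fusion.QuadStable

set_option autoImplicit false
open Cfsg

namespace Cfsg.Agent.S0627

/-- In a p-separable group with p at least 5, the normalizer of W(S) supplements the largest normal subgroup of order prime to p. -/
theorem result {G : Type*} [Group G] [Finite G] {p : ℕ} [Fact p.Prime] (hp : 5 ≤ p) (hsep : Cfsg.IsPSolvable p G) (S : Sylow p G) : Cfsg.pPrimeCore p G ⊔ Subgroup.normalizer (((Cfsg.stableNormalClosure p ↥(S : Subgroup G)).map (S : Subgroup G).subtype) : Set G) = ⊤ := by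
  set O := Cfsg.pPrimeCore p G with hO
  set π := QuotientGroup.mk' O with hπ
  have hsurj := QuotientGroup.mk'_surjective O
  have hOc : (Nat.card O).Coprime p := CfsgLib.Solvable.Cores.coprime_card_pPrimeCore p
  have hsepq := CfsgLib.Fusion.PSolvable.psolvable_quotient hsep O
  have hst := CfsgLib.Fusion.QuadStable.isActionPStable_of_psolvable hp hsepq
  have hc := CfsgLib.Fusion.PSolvable.centralizer_pCore_le hsepq CfsgLib.Components.pPrimeCore_quotient_eq_bot
  have hn := CfsgLib.Fusion.StableClosure.stableClosure_normal hc hst.1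
    (CfsgLib.Fusion.StableClosure.mem_pCore_of_section hc hst.2.1) (S.mapSurjective hsurj)
    (hst.2.2 (S.mapSurjective hsurj))
  have e := (CfsgLib.Fusion.GlaubermanThompson.zFunW (p := p)).map_quotient hOc S.isPGroup'
  simp only [CfsgLib.Fusion.GlaubermanThompson.zFunW] at e
  rw [Sylow.coe_mapSurjective, e, ← Subgroup.normalizer_eq_top_iff,
    CfsgLib.Fusion.Quotient.normalizer_map hOc (S.isPGroup'.to_le (Subgroup.map_subtype_le _))] at hn
  rw [eq_top_iff]
  intro g _
  obtain ⟨w, hw, hwg⟩ := (hn ▸ Subgroup.mem_top (π g) :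
    π g ∈ (Subgroup.normalizer (((Cfsg.stableNormalClosure p ↥(S : Subgroup G)).map
      (S : Subgroup G).subtype : Subgroup G) : Set G)).map π)
  rw [show g = (g * w⁻¹) * w by group]
  refine mul_mem (Subgroup.mem_sup_left ?_) (Subgroup.mem_sup_right hw)
  rw [← QuotientGroup.eq_one_iff]
  show π (g * w⁻¹) = 1
  rw [map_mul, map_inv, hwg, mul_inv_cancel]

end Cfsg.Agent.S0627
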