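import Cfsg.Statements.S0629
import Cfsg.Agent.Lib.Fusion.PSolvable

set_option autoImplicit false
open Cfsg

namespace Cfsg.Agent.S0629

/-- A group in which the centralizer of a Sylow p-subgroup of O_{p',p}(G) is p-solvable is p-constrained. -/
theorem result {G : Type*} [Group G] [Finite G] {p : ℕ} [Fact p.Prime] (P : Sylow p ↥(Cfsg.pPrimePCore p G)) (hsol : Cfsg.IsPSolvable p ↥(Subgroup.centralizer (((P : Subgroup ↥(Cfsg.pPrimePCore p G)).map (Cfsg.pPrimePCore p G).subtype : Subgroup G) : Set G))) : Cfsg.IsPConstrained p G := by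
  open CfsgLib.Components in
  rw [isPConstrained_iff, pLayer_eq_bot_iff, layer_eq_bot_iff]
  intro L hL
  set C := Subgroup.centralizer (((P : Subgroup ↥(Cfsg.pPrimePCore p G)).map (Cfsg.pPrimePCore p G).subtype : Subgroup G) : Set G) with hC
  haveI := (CfsgLib.Solvable.Cores.isPGroup_pCore (G := G ⧸ Cfsg.pPrimeCore p G) p).isNilpotent
  have h1 := CfsgLib.Components.IsComponent.commutator_solvable_eq_bot hL
    (N := Cfsg.pCore p (G ⧸ Cfsg.pPrimeCore p G)) (by rw [Subgroup.normalizer_eq_top]; exact le_top)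
  rw [Subgroup.commutator_eq_bot_iff_le_centralizer, ← CfsgLib.Components.sylow_pPrimePCore_map P,
    CfsgLib.Components.centralizer_map_mk (CfsgLib.Solvable.Cores.coprime_card_pPrimeCore p)
      (P.2.map _)] at h1
  have h2 : Cfsg.IsPSolvable p L :=
    CfsgLib.Fusion.PSolvable.psolvable_of_le h1 (CfsgLib.Fusion.PSolvable.psolvable_of_surjective
      ((QuotientGroup.mk' (Cfsg.pPrimeCore p G)).subgroupMap C) (MonoidHom.subgroupMap_surjective _ C) hsol)
  exact (Fact.out : p.Prime).coprime_iff_not_dvd.mp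
    (CfsgLib.Fusion.PSolvable.coprime_of_quasisimple h2 hL.2).symm
    (CfsgLib.Components.component_quotient_dvd_card hL)


end Cfsg.Agent.S0629
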