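import Cfsg.Statements.S0631
import Cfsg.Agent.Lib.Components.Constrained

set_option autoImplicit false
open Cfsg

namespace Cfsg.Agent.S0631

/-- In a p-constrained group the normalizer and the centralizer of any p-subgroup are again p-constrained. -/
theorem result {G : Type*} [Group G] [Finite G] {p : ℕ} [Fact p.Prime] (hG : Cfsg.IsPConstrained p G) (P : Subgroup G) (hP : IsPGroup p P) : Cfsg.IsPConstrained p ↥(Subgroup.normalizer (P : Set G)) ∧ Cfsg.IsPConstrained p ↥(Subgroup.centralizer (P : Set G)) := by
  have hL := CfsgLib.Components.isPConstrained_iff.mp hG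
  have hN := (CfsgLib.Components.normalizer_of_pLayer_eq_bot hL hP).1
  refine ⟨CfsgLib.Components.isPConstrained_iff.mpr hN, ?_⟩
  rw [CfsgLib.Components.isPConstrained_iff, CfsgLib.Components.pLayer_eq_bot_iff]
  set N := Subgroup.normalizer (P : Set G) with hNdef
  set C := Subgroup.centralizer (P : Set G) with hCdef
  have hCN : C ≤ N := Subgroup.centralizer_le_normalizer _
  let f : C →* ↥N ⧸ Cfsg.pPrimeCore p ↥N :=
    (QuotientGroup.mk' (Cfsg.pPrimeCore p ↥N)).comp (Subgroup.inclusion hCN)
  have hRn : f.range.Normal := by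
    have h1 : f.range = (C.subgroupOf N).map (QuotientGroup.mk' (Cfsg.pPrimeCore p ↥N)) := by
      rw [MonoidHom.range_eq_map, ← Subgroup.map_map, ← MonoidHom.range_eq_map,
        Subgroup.inclusion_range]
    rw [h1]
    have : (C.subgroupOf N).Normal := (Subgroup.normal_subgroupOf_iff_le_normalizer hCN).mpr (by
      intro n hn
      rw [Subgroup.mem_normalizer_iff]
      have key : ∀ m ∈ N, ∀ c ∈ C, m * c * m⁻¹ ∈ C := fun m hm c hc x hx => by
        have h1 : m⁻¹ * x * m ∈ P := by
          have := (Subgroup.mem_normalizer_iff.mp (N.inv_mem hm) x).mp hx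
          simpa using this
        calc x * (m * c * m⁻¹) = m * ((m⁻¹ * x * m) * c) * m⁻¹ := by group
          _ = m * (c * (m⁻¹ * x * m)) * m⁻¹ := by rw [hc _ h1]
          _ = _ := by group
      refine fun c => ⟨key n hn c, fun h => ?_⟩
      have := key n⁻¹ (inv_mem hn) _ h
      simpa [mul_assoc] using this)
    exact Subgroup.Normal.map this _ (QuotientGroup.mk'_surjective _)
  have hO : Cfsg.pPrimeCore p f.range = ⊥ := by
    have := CfsgLib.Components.pPrimeCore_map_subtype_eq (p := p) hRn.isSubnormal
    rw [CfsgLib.Components.pPrimeCore_quotient_eq_bot, bot_inf_eq] at this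
    exact (Subgroup.map_eq_bot_iff_of_injective _ f.range.subtype_injective).mp this
  have hker : f.ker = Cfsg.pPrimeCore p C := by
    refine le_antisymm (CfsgLib.Solvable.Cores.le_pPrimeCore ?_) ?_
    · refine (CfsgLib.Solvable.Cores.coprime_card_pPrimeCore (G := ↥N) p).coprime_dvd_left ?_
      rw [← Subgroup.card_map_of_injective (K := f.ker) (Subgroup.inclusion_injective hCN)]
      refine Subgroup.card_dvd_of_le ?_
      rintro _ ⟨x, hx, rfl⟩
      exact (QuotientGroup.eq_one_iff _).mp hx
    · rw [← MonoidHom.ker_rangeRestrict f]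
      intro x hx
      have h1 := CfsgLib.Components.pPrimeCore_map_le p f.rangeRestrict f.rangeRestrict_surjective
        (Subgroup.mem_map_of_mem _ hx)
      rw [hO, Subgroup.mem_bot] at h1
      exact h1
  let e : ↥C ⧸ Cfsg.pPrimeCore p ↥C ≃* f.range :=
    (QuotientGroup.quotientMulEquivOfEq hker.symm).trans (QuotientGroup.quotientKerEquivRange f)
  have hlayer : Cfsg.layer f.range = ⊥ := by
    have h2 := CfsgLib.Components.layer_map_subtype_le (hH := hRn.isSubnormal)
    rw [CfsgLib.Components.pLayer_eq_bot_iff.mp hN, le_bot_iff] at h2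
    exact (Subgroup.map_eq_bot_iff_of_injective _ f.range.subtype_injective).mp h2
  have h3 := CfsgLib.Components.layer_map_mulEquiv e
  rw [hlayer] at h3
  exact (Subgroup.map_eq_bot_iff_of_injective _ e.injective).mp h3


end Cfsg.Agent.S0631
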