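import Cfsg.Statements.S0632
import Cfsg.Agent.Lib.Fusion.StableClosure

set_option autoImplicit false
open Cfsg
open scoped commutatorElement

namespace Cfsg.Agent.S0632

/-- For a group with a nontrivial normal p-subgroup, p-stability passes to and from the quotient by the largest normal subgroup of order prime to p. -/
theorem result {G : Type*} [Group G] [Finite G] {p : ℕ} [Fact p.Prime] (hO : Cfsg.pCore p G ≠ ⊥) : Cfsg.IsPStable p G ↔ Cfsg.IsPStable p (G ⧸ Cfsg.pPrimeCore p G) := by
  set O := Cfsg.pPrimeCore p G with hOdef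
  set π := QuotientGroup.mk' O with hπ
  have hπs := QuotientGroup.mk'_surjective O
  have hOc : (Nat.card O).Coprime p := CfsgLib.Solvable.Cores.coprime_card_pPrimeCore p
  haveI : (Cfsg.pCore p G).Normal := Subgroup.sSup_normal _ fun _ h => h.1
  have hbot : Cfsg.pPrimeCore p (G ⧸ O) = ⊥ := CfsgLib.Components.pPrimeCore_quotient_eq_bot
  have hcore : Cfsg.pCore p (G ⧸ O) ≠ ⊥ := by
    intro e
    refine hO ?_
    haveI : ((Cfsg.pCore p G).map π).Normal := Subgroup.Normal.map inferInstance π hπs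
    have h1 : (Cfsg.pCore p G).map π = ⊥ := le_bot_iff.mp
      (e ▸ CfsgLib.Solvable.Cores.le_pCore ((CfsgLib.Solvable.Cores.isPGroup_pCore p).map π))
    rw [Subgroup.map_eq_bot_iff, QuotientGroup.ker_mk'] at h1
    rw [eq_bot_iff, ← CfsgLib.Fusion.Basic.inf_eq_bot_of_coprime (CfsgLib.Solvable.Cores.isPGroup_pCore p) hOc]
    exact le_inf le_rfl h1
  constructor
  · intro hs
    refine ⟨hs.1, hcore, fun A B hA hB hAB _ hn hq => ?_⟩
    haveI hBn : B.Normal := by rwa [hbot, bot_sup_eq] at hn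
    have hst := CfsgLib.Fusion.ZJConstrained.isPStableOn_quotient hs B hB
    set N := Subgroup.normalizer (B : Set (G ⧸ O)) with hN
    have hNt : N = ⊤ := by rw [hN, Subgroup.normalizer_eq_top]
    let φ : G ⧸ O →* ↥N ⧸ (Subgroup.centralizer (B : Set (G ⧸ O))).subgroupOf N :=
      (QuotientGroup.mk' _).comp ((MulEquiv.subgroupCongr hNt).trans Subgroup.topEquiv).symm.toMonoidHom
    have hk : Subgroup.centralizer (B : Set (G ⧸ O)) ≤ φ.ker := by
      intro g hg
      rw [MonoidHom.mem_ker]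
      exact (QuotientGroup.eq_one_iff _).mpr hg
    let g := QuotientGroup.lift _ φ hk
    have hgs : Function.Surjective g := fun z => by
      obtain ⟨w, rfl⟩ := QuotientGroup.mk'_surjective _ z
      exact ⟨QuotientGroup.mk (w : G ⧸ O), rfl⟩
    haveI : (Cfsg.pCore p ((G ⧸ O) ⧸ Subgroup.centralizer (B : Set (G ⧸ O)))).Normal :=
      Subgroup.sSup_normal _ fun _ h => h.1
    haveI := Subgroup.Normal.map (inferInstance :
      (Cfsg.pCore p ((G ⧸ O) ⧸ Subgroup.centralizer (B : Set (G ⧸ O)))).Normal) g hgs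
    rintro _ ⟨w, hw, rfl⟩
    refine CfsgLib.Solvable.Cores.le_pCore ((CfsgLib.Solvable.Cores.isPGroup_pCore p).map g) ?_
    refine ⟨QuotientGroup.mk (w : G ⧸ O), hst _ ?_, rfl⟩
    exact le_bot_iff.mp ((Subgroup.commutator_mono (Subgroup.commutator_mono le_rfl (Subgroup.zpowers_le.mpr (show (w : G ⧸ O) ∈ A from hw)))
      (Subgroup.zpowers_le.mpr (show (w : G ⧸ O) ∈ A from hw))).trans hq.le)
  · intro hs
    refine ⟨hs.1, hO, fun A P hA hP hAP hPle hn hq => ?_⟩
    set Pb := P.map π with hPb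
    haveI hPbn : Pb.Normal := by
      have := hn.map π hπs
      rwa [Subgroup.map_sup, QuotientGroup.map_mk'_self, bot_sup_eq] at this
    have hPbp : IsPGroup p Pb := hP.map π
    have hPb2 : Pb ≤ Cfsg.pPrimePCore p (G ⧸ O) := fun x hx => by
      have : (⊥ : Subgroup (G ⧸ O)) = Cfsg.pPrimeCore p (G ⧸ O) := hbot.symm
      haveI : (Pb.map (QuotientGroup.mk' (Cfsg.pPrimeCore p (G ⧸ O)))).Normal :=
        Subgroup.Normal.map inferInstance _ (QuotientGroup.mk'_surjective _)
      exact CfsgLib.Solvable.Cores.le_pCore (hPbp.map _)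
        (Subgroup.mem_map_of_mem (QuotientGroup.mk' (Cfsg.pPrimeCore p (G ⧸ O))) hx)
    have himg := hs.2.2 (A.map π) Pb (hA.map π) hPbp (fun a _ x hx => hPbn.conj_mem x hx a) hPb2
      (by rw [hbot, bot_sup_eq]; exact hPbn) (by rw [hPb, ← Subgroup.map_commutator, ← Subgroup.map_commutator, hq, Subgroup.map_bot])
    set N := Subgroup.normalizer (P : Set G) with hN
    set Nb := Subgroup.normalizer (Pb : Set (G ⧸ O)) with hNb
    have hNbeq : Nb = N.map π := CfsgLib.Fusion.Quotient.normalizer_map hOc hP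
    let f : ↥N →* ↥Nb ⧸ (Subgroup.centralizer (Pb : Set (G ⧸ O))).subgroupOf Nb :=
      (QuotientGroup.mk' _).comp ((π.comp N.subtype).codRestrict Nb (fun n => hNbeq ▸ Subgroup.mem_map_of_mem π n.2))
    have hker : f.ker = (Subgroup.centralizer (P : Set G)).subgroupOf N := by
      ext w
      rw [MonoidHom.mem_ker, Subgroup.mem_subgroupOf]
      refine ⟨fun h => ?_, fun h => ?_⟩
      · have hc : π (w : G) ∈ Subgroup.centralizer (Pb : Set (G ⧸ O)) :=
          (QuotientGroup.eq_one_iff (⟨π (w : G), hNbeq ▸ Subgroup.mem_map_of_mem π w.2⟩ : Nb)).mp h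
        rw [Subgroup.mem_centralizer_iff]
        intro x hx
        have hmem : ⁅x, (w : G)⁆ ∈ P ⊓ O := by
          refine ⟨?_, ?_⟩
          · rw [commutatorElement_def, show x * w * x⁻¹ * (w : G)⁻¹ = x * ((w : G) * x⁻¹ * (w : G)⁻¹) by group]
            exact P.mul_mem hx ((Subgroup.mem_normalizer_iff.mp w.2 _).mp (P.inv_mem hx))
          · show ⁅x, (w : G)⁆ ∈ O
            rw [← QuotientGroup.eq_one_iff]
            show π ⁅x, (w : G)⁆ = 1
            rw [map_commutatorElement, commutatorElement_eq_one_iff_mul_comm]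
            exact Subgroup.mem_centralizer_iff.mp hc _ (Subgroup.mem_map_of_mem π hx)
        rw [CfsgLib.Fusion.Basic.inf_eq_bot_of_coprime hP hOc, Subgroup.mem_bot] at hmem
        exact commutatorElement_eq_one_iff_mul_comm.mp hmem
      · refine (QuotientGroup.eq_one_iff _).mpr ?_
        show π (w : G) ∈ Subgroup.centralizer (Pb : Set (G ⧸ O))
        rw [Subgroup.mem_centralizer_iff]
        rintro _ ⟨x, hx, rfl⟩
        rw [← map_mul, ← map_mul, Subgroup.mem_centralizer_iff.mp h x hx]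
    let g := QuotientGroup.lift ((Subgroup.centralizer (P : Set G)).subgroupOf N) f hker.ge
    have hginj : Function.Injective g := by
      rw [injective_iff_map_eq_one]
      intro z hz
      obtain ⟨w, rfl⟩ := QuotientGroup.mk'_surjective _ z
      exact (QuotientGroup.eq_one_iff w).mpr (hker.le hz)
    haveI : (Cfsg.pCore p (↥Nb ⧸ (Subgroup.centralizer (Pb : Set (G ⧸ O))).subgroupOf Nb)).Normal :=
      Subgroup.sSup_normal _ fun _ h => h.1
    rintro _ ⟨w, hw, rfl⟩
    refine CfsgLib.Solvable.Cores.le_pCore ((CfsgLib.Solvable.Cores.isPGroup_pCore p).comap_of_injective g hginj)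
      (Subgroup.mem_comap.mpr ?_)
    exact himg ⟨_, Subgroup.mem_map_of_mem π hw, rfl⟩

end Cfsg.Agent.S0632
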