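import Cfsg.Statements.S0633
import Cfsg.Agent.Lib.Solvable.FPFOperators.HallHigmanB
import Cfsg.Agent.Lib.Fusion.FailureFactor
-- import your own Cfsg.Agent.* helpers here

set_option autoImplicit false
open Cfsg

namespace Cfsg.Agent.S0633

/-- Theorem B of Hall and Higman on the minimal polynomial of a p-element of order p^n in a p-solvable linear group on a nonzero vector space in characteristic p with no nontrivial normal p-subgroup: its degree is p^n, except when some p^n₀ - 1 (n₀ ≤ n) is a power of a prime q for which the Sylow q-subgroups are non-abelian, in which case the degree is at least p^(n-n₀)(p^n₀ - 1). -/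
theorem result {F : Type*} [Field F] {p : ℕ} [Fact p.Prime] [CharP F p] {V : Type*} [AddCommGroup V] [Module F V] [FiniteDimensional F V] [Nontrivial V] (H : Subgroup (V ≃ₗ[F] V)) [Finite H] (hsol : Cfsg.IsPSolvable p H) (hOp : Cfsg.pCore p H = ⊥) (x : V ≃ₗ[F] V) (hx : x ∈ H) (n : ℕ) (hn : orderOf x = p ^ n) (r : ℕ) (hr : minpoly F (x : Module.End F V) = (Polynomial.X - 1) ^ r) : r = p ^ n ∨ ∃ n₀ q m : ℕ, 1 ≤ n₀ ∧ n₀ ≤ n ∧ q.Prime ∧ 1 ≤ m ∧ p ^ n₀ - 1 = q ^ m ∧ (∀ Q : Sylow q H, ¬ IsMulCommutative Q) ∧ p ^ (n - n₀) * (p ^ n₀ - 1) ≤ r := by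
  classical
  have hp : p.Prime := Fact.out
  set f : Module.End F V := (x : Module.End F V) with hf
  have haev : ∀ k : ℕ, Polynomial.aeval f ((Polynomial.X - 1 : Polynomial F) ^ k) = (f - 1) ^ k := fun k => by simp
  have hrk : (f - 1) ^ r = 0 := by rw [← haev r, ← hr, minpoly.aeval]
  let φ : (V ≃ₗ[F] V) →* Module.End F V :=
    { toFun := fun e => (e : Module.End F V), map_one' := rfl, map_mul' := fun _ _ => rfl }
  have hφx : φ x = f := rfl
  haveI : CharP (Module.End F V) p := charP_of_injective_algebraMap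
    (FaithfulSMul.algebraMap_injective F (Module.End F V)) p
  have hle : r ≤ p ^ n := by
    have h1 : (f - 1) ^ p ^ n = 0 := by
      rw [sub_pow_char_pow_of_commute p n (Commute.one_right f), one_pow, ← hφx, ← map_pow, ← hn,
        pow_orderOf_eq_one, map_one, sub_self]
    have h2 := minpoly.dvd F f ((haev _).trans h1)
    rw [hr] at h2
    have hX : (Polynomial.X - 1 : Polynomial F).natDegree = 1 := by
      rw [← Polynomial.C_1, Polynomial.natDegree_X_sub_C]
    have h3 := Polynomial.natDegree_le_of_dvd h2 (pow_ne_zero _ (by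
      rw [← Polynomial.C_1]; exact Polynomial.X_sub_C_ne_zero 1))
    rwa [Polynomial.natDegree_pow, Polynomial.natDegree_pow, hX, mul_one, mul_one] at h3
  rcases n with _ | n
  · left
    rcases Nat.eq_zero_or_pos r with h0 | h0
    · rw [h0, pow_zero] at hrk
      exact absurd hrk one_ne_zero
    · rw [pow_zero] at hle ⊢; omega
  -- a prime `q` and an invariant `q`-subgroup
  set xH : H := ⟨x, hx⟩ with hxH
  have hxHo : xH ^ p ^ (n + 1) = 1 := Subtype.ext (show x ^ p ^ (n + 1) = 1 by rw [← hn, pow_orderOf_eq_one])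
  set τ := xH ^ p ^ n with hτ
  have hτ1 : τ ≠ 1 := by
    intro h
    have h1 := Nat.le_of_dvd (pow_pos hp.pos n) (orderOf_dvd_of_pow_eq_one
      (show x ^ p ^ n = 1 from congrArg Subtype.val h))
    rw [hn] at h1
    exact absurd h1 (not_le.2 (Nat.pow_lt_pow_right hp.one_lt (Nat.lt_succ_self n)))
  set R := Cfsg.pPrimeCore p H with hR
  haveI : R.Normal := CfsgLib.Solvable.Cores.pPrimeCore_normal p
  have hRcop : (Nat.card R).Coprime p := CfsgLib.Solvable.Cores.coprime_card_pPrimeCore p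
  have hτR : ¬ ∀ y ∈ R, y * τ = τ * y := fun hall => by
    have h1 : τ ∈ R := CfsgLib.Fusion.FailureFactor.centralizer_pPrimeCore_le hsol hOp
      (Subgroup.mem_centralizer_iff.2 hall)
    have h2 : orderOf τ ∣ Nat.card R := by
      rw [← Subgroup.orderOf_mk τ h1]; exact orderOf_dvd_natCard _
    have h3 : orderOf τ ∣ p := orderOf_dvd_of_pow_eq_one (by rw [hτ, ← pow_mul, ← pow_succ, hxHo])
    exact hτ1 (orderOf_eq_one_iff.1 (Nat.eq_one_of_dvd_coprimes hRcop h2 h3))
  have hcop : (Nat.card (Subgroup.zpowers xH)).Coprime (Nat.card R) :=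
    Nat.Coprime.coprime_dvd_left (Nat.card_zpowers xH ▸ orderOf_dvd_of_pow_eq_one hxHo)
      ((hRcop.symm).pow_left _)
  obtain ⟨q, hq, Qq, hQq, y₀, hy₀, hy₀ne⟩ : ∃ (q : ℕ) (_ : q.Prime) (Qq : Sylow q R),
      xH ∈ Subgroup.normalizer (((Qq : Subgroup R).map R.subtype : Subgroup H) : Set H) ∧
      ∃ y ∈ (Qq : Subgroup R).map R.subtype, τ * y ≠ y * τ := by
    by_contra hno
    push Not at hno
    suffices hsuff : R ≤ Subgroup.centralizer ({τ} : Set H) from
      hτR fun y hy => Subgroup.mem_centralizer_singleton_iff.1 (hsuff hy)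
    have h5 : R ⊓ Subgroup.centralizer ({τ} : Set H) = R := by
      refine Subgroup.eq_of_le_of_card_ge inf_le_left (Nat.le_of_dvd Nat.card_pos ?_)
      refine (Nat.dvd_iff_prime_pow_dvd_dvd _ _).2 fun q k hq hqk => ?_
      haveI : Fact q.Prime := ⟨hq⟩
      obtain ⟨Qq, hQq⟩ := CfsgLib.Coprime.exists_invariant_sylow (A := Subgroup.zpowers xH) (K := R)
        (by rw [Subgroup.normalizer_eq_top]; exact le_top) hcop
        (Or.inl (CfsgLib.Coprime.isSolvable_zpowers xH)) q
      have h2 := hno q hq Qq (hQq (Subgroup.mem_zpowers xH))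
      have h3 : (Qq : Subgroup R).map R.subtype ≤ R ⊓ Subgroup.centralizer ({τ} : Set H) := fun y hy =>
        ⟨Subgroup.map_subtype_le _ hy, Subgroup.mem_centralizer_singleton_iff.2 (h2 y hy).symm⟩
      refine (Qq.pow_dvd_card_of_pow_dvd_card hqk).trans ?_
      have h4 := Subgroup.card_dvd_of_le h3
      rwa [Subgroup.card_map_of_injective R.subtype_injective] at h4
    exact h5 ▸ inf_le_right
  haveI : Fact q.Prime := ⟨hq⟩
  set Q := (Qq : Subgroup R).map R.subtype with hQdef
  have hQ : IsPGroup q Q := Qq.isPGroup'.map _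
  have hqp : q ≠ p := by
    rintro rfl
    have hb : Qq.toSubgroup = ⊥ := by
      obtain ⟨i, hi⟩ := IsPGroup.iff_card.mp Qq.isPGroup'
      refine Subgroup.eq_bot_of_card_eq _ (Nat.eq_one_of_dvd_coprimes (hRcop.pow_right i)
        (Subgroup.card_subgroup_dvd_card _) (dvd_of_eq hi))
    obtain ⟨z, hz, rfl⟩ := hy₀
    rw [SetLike.mem_coe, hb, Subgroup.mem_bot] at hz
    rw [hz, map_one, mul_one, one_mul] at hy₀ne
    exact hy₀ne rfl
  let K := AlgebraicClosure F
  haveI : CharP K p := charP_of_injective_algebraMap (algebraMap F K).injective p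
  let bc := Module.End.baseChangeHom F K V
  have hbc : Function.Injective bc := LinearMap.baseChangeHom_injective F V K
  let ρ : H →* Module.End K (TensorProduct F K V) := (bc.toMonoidHom.comp φ).comp H.subtype
  have hinj : Function.Injective ρ := fun a b h =>
    H.subtype_injective (LinearEquiv.toLinearMap_injective (hbc h))
  have hρr : (ρ xH - 1) ^ r = 0 := by
    show (bc f - 1) ^ r = 0
    rw [← map_one bc]
    exact (congrArg (· ^ r) (map_sub bc f 1).symm).trans ((map_pow bc _ r).symm.trans (by rw [hrk, map_zero]))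
  rcases CfsgLib.Solvable.FPFOperators.theoremB (n := n) hqp Q ρ hQq hQ hxHo
      ⟨y₀, hy₀, fun h => hy₀ne (hinj h)⟩ hρr with h | ⟨n₀, m, h1, h2, h3, h4, h5, a, ha, b, hb, hab⟩
  · left; omega
  · right
    refine ⟨n₀, q, m, h1, h2, hq, h3, h4, fun S hS => hab ?_, h5⟩
    obtain ⟨S', hS'⟩ := hQ.exists_le_sylow
    obtain ⟨e⟩ := Sylow.equiv S' S |> fun e => Nonempty.intro e
    have h6 : e ⟨a, hS' ha⟩ * e ⟨b, hS' hb⟩ = e ⟨b, hS' hb⟩ * e ⟨a, hS' ha⟩ :=
      isMulCommutative_iff.1 hS _ _
    rw [← map_mul e, ← map_mul e] at h6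
    exact congrArg ρ (congrArg Subtype.val (e.injective h6))

end Cfsg.Agent.S0633
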