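import Cfsg.Statements.S0634
import Cfsg.Agent.Lib.Fusion.PSolvable
import Cfsg.Agent.Lib.OddOrder.PLengthOne

set_option autoImplicit false
open Cfsg

namespace Cfsg.Agent.S0634

/-- In a p-soluble group each p-factor of the upper p-series contains its own centralizer in the corresponding quotient. -/
theorem result {G : Type*} [Group G] [Finite G] {p : ℕ} [Fact p.Prime] (hsol : Cfsg.IsPSolvable p G) (k : ℕ) : Subgroup.centralizer ((((Cfsg.upperPSeries p G (2 * k + 2)).1.map (QuotientGroup.mk' (Cfsg.upperPSeries p G (2 * k + 1)).1)) : Subgroup (G ⧸ (Cfsg.upperPSeries p G (2 * k + 1)).1)) : Set (G ⧸ (Cfsg.upperPSeries p G (2 * k + 1)).1)) ≤ (Cfsg.upperPSeries p G (2 * k + 2)).1.map (QuotientGroup.mk' (Cfsg.upperPSeries p G (2 * k + 1)).1) := by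
  obtain ⟨U, hU⟩ : ∃ U, U = Cfsg.upperPSeries p G (2 * k + 1) := ⟨_, rfl⟩
  haveI : (Cfsg.upperPSeries p G (2 * k)).1.Normal := (Cfsg.upperPSeries p G (2 * k)).2
  haveI : (Cfsg.upperPSeries p G (2 * k + 1)).1.Normal := (Cfsg.upperPSeries p G (2 * k + 1)).2
  have h1 : (Cfsg.upperPSeries p G (2 * k + 1)).1 =
      (Cfsg.pPrimeCore p (G ⧸ (Cfsg.upperPSeries p G (2 * k)).1)).comap (QuotientGroup.mk' _) := by
    rw [Cfsg.upperPSeries]
    simp
  have h2 : (Cfsg.upperPSeries p G (2 * k + 2)).1 =
      (Cfsg.pCore p (G ⧸ (Cfsg.upperPSeries p G (2 * k + 1)).1)).comap (QuotientGroup.mk' _) := by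
    conv_lhs => rw [Cfsg.upperPSeries]
    simp [Nat.not_even_iff_odd]
  rw [h2, Subgroup.map_comap_eq_self_of_surjective (QuotientGroup.mk'_surjective _)]
  refine CfsgLib.Fusion.PSolvable.centralizer_pCore_le
    (CfsgLib.Fusion.PSolvable.psolvable_quotient hsol _) ?_
  set A := (Cfsg.upperPSeries p G (2 * k)).1 with hA
  set B := (Cfsg.upperPSeries p G (2 * k + 1)).1 with hB
  set qA := QuotientGroup.mk' A
  set qB := QuotientGroup.mk' B
  set M := (Cfsg.pPrimeCore p (G ⧸ B)).comap qB with hM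
  have hBM : B ≤ M := fun b hb => by
    refine Subgroup.mem_comap.mpr ?_
    rw [show qB b = 1 from (QuotientGroup.eq_one_iff b).mpr hb]
    exact one_mem _
  have hMA : M.map qA ≤ Cfsg.pPrimeCore p (G ⧸ A) := by
    haveI : (M.map qA).Normal := Subgroup.Normal.map inferInstance qA (QuotientGroup.mk'_surjective A)
    refine CfsgLib.Solvable.Cores.le_pPrimeCore ?_
    have hB' : B.map qA = Cfsg.pPrimeCore p (G ⧸ A) := by
      rw [h1, Subgroup.map_comap_eq_self_of_surjective (QuotientGroup.mk'_surjective A)]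
    have hidx : (B.map qA).relIndex (M.map qA) ∣ B.relIndex M := by
      rw [Subgroup.relIndex_map_map]
      have hle : qA.ker ≤ B := by
        rw [QuotientGroup.ker_mk', h1]
        intro a ha
        refine Subgroup.mem_comap.mpr ?_
        rw [show QuotientGroup.mk' A a = 1 from (QuotientGroup.eq_one_iff a).mpr ha]
        exact one_mem _
      rw [sup_eq_left.mpr hle, sup_eq_left.mpr (hle.trans hBM)]
    have hBM' : B.relIndex M = Nat.card (Cfsg.pPrimeCore p (G ⧸ B)) := by
      have hker : B = (⊥ : Subgroup (G ⧸ B)).comap qB := by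
        rw [MonoidHom.comap_bot]; exact (QuotientGroup.ker_mk' B).symm
      calc B.relIndex M = ((⊥ : Subgroup (G ⧸ B)).comap qB).relIndex M := by rw [← hker]
        _ = _ := by
          rw [Subgroup.relIndex_comap, hM,
            Subgroup.map_comap_eq_self_of_surjective (QuotientGroup.mk'_surjective B),
            Subgroup.relIndex_bot_left]
    have hle' : B.map qA ≤ M.map qA := Subgroup.map_mono hBM
    rw [← Subgroup.card_mul_index ((B.map qA).subgroupOf (M.map qA)),
      Nat.card_congr (Subgroup.subgroupOfEquivOfLe hle').toEquiv]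
    refine Nat.Coprime.mul_left ?_ ?_
    · rw [hB']; exact CfsgLib.Solvable.Cores.coprime_card_pPrimeCore p
    · refine Nat.Coprime.coprime_dvd_left (hBM' ▸ hidx) ?_
      exact CfsgLib.Solvable.Cores.coprime_card_pPrimeCore p
  have hMB : M ≤ B := by
    rw [h1]
    exact Subgroup.map_le_iff_le_comap.mp hMA
  rw [eq_bot_iff, ← Subgroup.map_comap_eq_self_of_surjective (QuotientGroup.mk'_surjective B)
    (Cfsg.pPrimeCore p (G ⧸ B)), ← hM]
  refine (Subgroup.map_mono hMB).trans ?_
  rw [QuotientGroup.map_mk'_self]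


end Cfsg.Agent.S0634
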