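import Cfsg.Statements.S0635
import Cfsg.Agent.Lib.Fusion.PSolvable
import Cfsg.Agent.Lib.OddOrder.PLengthOne
-- import your own Cfsg.Agent.* helpers here

set_option autoImplicit false
open Cfsg
open scoped commutatorElement

namespace Cfsg.Agent.S0635

/-- The p-length of a p-soluble group is at most the nilpotency class of its Sylow p-subgroups. -/
theorem result {G : Type*} [Group G] [Finite G] {p : ℕ} [Fact p.Prime] (hsol : Cfsg.IsPSolvable p G) (S : Sylow p G) : Cfsg.PLengthLE p (Group.nilpotencyClass ↥(S : Subgroup G)) G := by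
  classical
  set c := Group.nilpotencyClass ↥(S : Subgroup G) with hc
  haveI : Group.IsNilpotent ↥(S : Subgroup G) := S.2.isNilpotent
  let U : ℕ → Subgroup G := fun n => (Cfsg.upperPSeries p G n).1
  have hodd : ∀ i, U (2 * i + 1) = (Cfsg.pPrimeCore p (G ⧸ U (2 * i))).comap (QuotientGroup.mk' (U (2 * i))) := by
    intro i
    show (Cfsg.upperPSeries p G (2 * i + 1)).1 = _
    rw [Cfsg.upperPSeries, if_pos (even_two_mul i)]
  have heven : ∀ i, U (2 * i + 2) = (Cfsg.pCore p (G ⧸ U (2 * i + 1))).comap (QuotientGroup.mk' (U (2 * i + 1))) := by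
    intro i
    show (Cfsg.upperPSeries p G (2 * i + 1 + 1)).1 = _
    rw [Cfsg.upperPSeries, if_neg (Nat.not_even_two_mul_add_one i)]
  have hcore : ∀ i, Cfsg.pPrimeCore p (G ⧸ U (2 * i + 1)) = ⊥ := by
    intro i
    set A := U (2 * i) with hA
    set B := U (2 * i + 1) with hB
    haveI : A.Normal := (Cfsg.upperPSeries p G _).2
    haveI : B.Normal := (Cfsg.upperPSeries p G _).2
    set R := Cfsg.pPrimeCore p (G ⧸ B)
    haveI : R.Normal := CfsgLib.Solvable.Cores.pPrimeCore_normal p
    set M := R.comap (QuotientGroup.mk' B)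
    have hBM : B ≤ M := fun x hx => by
      show QuotientGroup.mk' B x ∈ R
      rw [show QuotientGroup.mk' B x = 1 from (QuotientGroup.eq_one_iff x).2 hx]
      exact one_mem R
    have hAB : A ≤ B := fun x hx => by
      rw [hB, hodd]
      show QuotientGroup.mk' A x ∈ Cfsg.pPrimeCore p (G ⧸ A)
      rw [show QuotientGroup.mk' A x = 1 from (QuotientGroup.eq_one_iff x).2 hx]
      exact one_mem _
    have h1 : A.relIndex B = Nat.card (Cfsg.pPrimeCore p (G ⧸ A)) := by
      have hk : A = (⊥ : Subgroup (G ⧸ A)).comap (QuotientGroup.mk' A) := by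
        rw [MonoidHom.comap_bot]; exact (QuotientGroup.ker_mk' _).symm
      calc A.relIndex B = ((⊥ : Subgroup (G ⧸ A)).comap (QuotientGroup.mk' A)).relIndex
            ((Cfsg.pPrimeCore p (G ⧸ A)).comap (QuotientGroup.mk' A)) := by rw [← hk, hB, hodd]
        _ = _ := by
          rw [Subgroup.relIndex_comap, Subgroup.map_comap_eq_self_of_surjective
            (QuotientGroup.mk'_surjective A), Subgroup.relIndex_bot_left]
    have h2 : B.relIndex M = Nat.card R := by
      have hk : B = (⊥ : Subgroup (G ⧸ B)).comap (QuotientGroup.mk' B) := by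
        rw [MonoidHom.comap_bot]; exact (QuotientGroup.ker_mk' _).symm
      calc B.relIndex M = ((⊥ : Subgroup (G ⧸ B)).comap (QuotientGroup.mk' B)).relIndex M := by rw [← hk]
        _ = _ := by
          rw [Subgroup.relIndex_comap, Subgroup.map_comap_eq_self_of_surjective
            (QuotientGroup.mk'_surjective B), Subgroup.relIndex_bot_left]
    have h3 : (A.relIndex M).Coprime p := by
      rw [← Subgroup.relIndex_mul_relIndex A B M hAB hBM, h1, h2]
      exact (CfsgLib.Solvable.Cores.coprime_card_pPrimeCore p).mul_left (CfsgLib.Solvable.Cores.coprime_card_pPrimeCore p)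
    haveI : (M.map (QuotientGroup.mk' A)).Normal :=
      Subgroup.Normal.map inferInstance _ (QuotientGroup.mk'_surjective A)
    have h4 : M.map (QuotientGroup.mk' A) ≤ Cfsg.pPrimeCore p (G ⧸ A) := by
      refine CfsgLib.Solvable.Cores.le_pPrimeCore ?_
      rwa [show Nat.card (M.map (QuotientGroup.mk' A)) = A.relIndex M by
        rw [← Subgroup.relIndex_ker, QuotientGroup.ker_mk']]
    have h5 : M ≤ B := by
      rw [hB, hodd]
      exact Subgroup.map_le_iff_le_comap.1 h4
    rw [eq_bot_iff]
    intro x hx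
    obtain ⟨g, rfl⟩ := QuotientGroup.mk'_surjective B x
    exact Subgroup.mem_bot.2 ((QuotientGroup.eq_one_iff g).2 (h5 hx))
  have hkey : ∀ i ≤ c, ∀ x ∈ (⊤ : Subgroup ↥(S : Subgroup G)).lowerCentralSeries (c - i), (x : G) ∈ U (2 * i) := by
    intro i
    induction i with
    | zero =>
      intro _ x hx
      have hlcs : (⊤ : Subgroup ↥(S : Subgroup G)).lowerCentralSeries c = ⊥ := by
        rw [hc, ← lowerCentralSeries_length_eq_nilpotencyClass]
        exact Nat.find_spec (nilpotent_iff_lowerCentralSeries.mp ‹_›)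
      rw [Nat.sub_zero, hlcs, Subgroup.mem_bot] at hx
      rw [hx]
      exact one_mem _
    | succ i ih =>
      intro hi x hx
      set V := U (2 * i + 1) with hV
      haveI : V.Normal := (Cfsg.upperPSeries p G _).2
      have hUV : U (2 * i) ≤ V := fun y hy => by
        haveI : (U (2 * i)).Normal := (Cfsg.upperPSeries p G _).2
        rw [hV, hodd]
        show QuotientGroup.mk' (U (2 * i)) y ∈ Cfsg.pPrimeCore p (G ⧸ U (2 * i))
        rw [show QuotientGroup.mk' (U (2 * i)) y = 1 from (QuotientGroup.eq_one_iff y).2 hy]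
        exact one_mem _
      rw [show 2 * (i + 1) = 2 * i + 2 by ring, heven]
      show QuotientGroup.mk' V (x : G) ∈ Cfsg.pCore p (G ⧸ V)
      refine CfsgLib.Fusion.PSolvable.centralizer_pCore_le
        (CfsgLib.Fusion.PSolvable.psolvable_quotient hsol V) (hcore i) ?_
      refine Subgroup.mem_centralizer_iff.2 fun y hy => ?_
      have hy' := CfsgLib.Solvable.Cores.pCore_le_sylow (S.mapSurjective (QuotientGroup.mk'_surjective V)) hy
      rw [Sylow.coe_mapSurjective] at hy'
      obtain ⟨t, ht, rfl⟩ := hy'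
      have hmem : ⁅x, (⟨t, ht⟩ : ↥(S : Subgroup G))⁆ ∈ (⊤ : Subgroup ↥(S : Subgroup G)).lowerCentralSeries (c - i) := by
        rw [show c - i = c - (i + 1) + 1 by omega]
        exact Subgroup.commutator_mem_commutator hx (Subgroup.mem_top _)
      have h1 := hUV (ih (by omega) _ hmem)
      have h2 : ⁅QuotientGroup.mk' V (x : G), QuotientGroup.mk' V t⁆ = 1 := by
        rw [← map_commutatorElement]
        exact (QuotientGroup.eq_one_iff _).2 h1
      exact (commutatorElement_eq_one_iff_mul_comm.1 h2).symm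
  show U (2 * c + 1) = ⊤
  have hS : (S : Subgroup G) ≤ U (2 * c) := fun s hs => hkey c le_rfl ⟨s, hs⟩ (by
    rw [Nat.sub_self, Subgroup.lowerCentralSeries_zero]; exact Subgroup.mem_top _)
  set A := U (2 * c) with hA
  haveI : A.Normal := (Cfsg.upperPSeries p G _).2
  have hcop : (Nat.card (⊤ : Subgroup (G ⧸ A))).Coprime p := by
    rw [Subgroup.card_top, ← Subgroup.index_eq_card]
    refine ((Fact.out : p.Prime).coprime_iff_not_dvd.2 fun h => ?_).symm
    exact S.not_dvd_index (h.trans (Subgroup.index_dvd_of_le hS))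
  rw [hodd, eq_top_iff]
  exact fun g _ => CfsgLib.Solvable.Cores.le_pPrimeCore hcop (Subgroup.mem_top _)

end Cfsg.Agent.S0635
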