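import Cfsg.Statements.S0640
import Cfsg.Agent.Lib.OddOrder.CharOmega
import Cfsg.Agent.Lib.Fusion.AutCoprime
import Cfsg.Agent.Lib.Fusion.Thompson
import Cfsg.Agent.Lib.Solvable.ThompsonReplacement
-- import your own Cfsg.Agent.* helpers here

set_option autoImplicit false
open Cfsg
open CfsgLib.Fusion
open scoped commutatorElement

namespace Cfsg.Agent.S0640

/-- For odd p, a prime q ≠ p dividing the order of the automorphism group of a p-group of rank at most 2 divides p² - 1 and is less than p. -/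
theorem result {R : Type*} [Group R] [Finite R] {p : ℕ} [Fact p.Prime] (hp : p ≠ 2) (hR : IsPGroup p R) (hrk : Cfsg.PRankLE p 2 R) (q : ℕ) (hq : q.Prime) (hqp : q ≠ p) (hdvd : q ∣ Nat.card (MulAut R)) : q ∣ p ^ 2 - 1 ∧ q < p := by
  haveI : Fact q.Prime := ⟨hq⟩
  have hp' : p.Prime := Fact.out
  suffices h : q ∣ p ^ 2 - 1 by
    refine ⟨h, ?_⟩
    rw [show p ^ 2 - 1 = (p + 1) * (p - 1) by rw [← Nat.sq_sub_sq, one_pow]] at h
    have h2 := hp'.two_le
    rcases hq.eq_two_or_odd with rfl | hqo
    · omega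
    rcases hq.dvd_mul.1 h with h' | h' <;> have h3 := Nat.le_of_dvd (by omega) h'
    · have hodd := hp'.eq_two_or_odd.resolve_left hp
      rcases Nat.lt_or_ge q p with h4 | h4
      · exact h4
      · exfalso; omega
    · omega
  -- orbit counting on a group of order at most `p ^ 2`
  have count : ∀ {M : Type u_1} [Group M] [Finite M] (β : MulAut M), IsPGroup p M → Nat.card M ≤ p ^ 2 →
      β ^ q = 1 → β ≠ 1 → q ∣ p ^ 2 - 1 := by
    intro M _ _ β hM hcard hβq hβ
    have hqg : IsPGroup q (Subgroup.zpowers β) := by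
      rintro ⟨b, hb⟩
      obtain ⟨i, rfl⟩ := Subgroup.mem_zpowers_iff.1 hb
      refine ⟨1, Subtype.ext ?_⟩
      show (β ^ i) ^ q ^ 1 = 1
      rw [pow_one, ← zpow_natCast, ← zpow_mul, mul_comm, zpow_mul, zpow_natCast, hβq, one_zpow]
    have h1 := hqg.card_modEq_card_fixedPoints M
    let F : Subgroup M := MonoidHom.eqLocus β.toMonoidHom (MonoidHom.id M)
    have hF : Nat.card (MulAction.fixedPoints (Subgroup.zpowers β) M) = Nat.card F :=
      Nat.card_congr ⟨fun x => ⟨x.1, x.2 ⟨β, Subgroup.mem_zpowers β⟩⟩,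
        fun x => ⟨x.1, fun b => AutCoprime.fix_of_zpowers x.2 b b.2⟩, fun _ => rfl, fun _ => rfl⟩
    rw [hF] at h1
    obtain ⟨a, ha⟩ := hM.exists_card_eq
    obtain ⟨b, hb⟩ := (hM.to_subgroup F).exists_card_eq
    have hlt : b < a := by
      refine (Nat.pow_lt_pow_iff_right hp'.one_lt).1 (ha ▸ hb ▸ lt_of_le_of_ne (Subgroup.card_le_card_group F) fun he => hβ ?_)
      have := Subgroup.eq_top_of_card_eq F he
      exact MulEquiv.ext fun x => (this.ge (Subgroup.mem_top x) : x ∈ F)
    rw [ha] at hcard h1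
    rw [hb] at h1
    have ha2 := (Nat.pow_le_pow_iff_right hp'.one_lt).1 hcard
    have hqd : q ∣ p ^ a - p ^ b := (Nat.modEq_iff_dvd' (Nat.pow_le_pow_right hp'.pos hlt.le)).1 h1.symm
    have hnp : ¬ q ∣ p := fun h => hqp ((Nat.prime_dvd_prime_iff_eq hq hp').1 h)
    have hs : (p - 1) ∣ p ^ 2 - 1 := by simpa using Nat.sub_dvd_pow_sub_pow p 1 2
    interval_cases a <;> interval_cases b
    · exact (by simpa using hqd : q ∣ p - 1).trans hs
    · simpa using hqd
    · rw [show p ^ 2 - p ^ 1 = p * (p - 1) by rw [pow_one, pow_two, Nat.mul_sub, mul_one]] at hqd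
      exact ((hq.dvd_mul.1 hqd).resolve_left hnp).trans hs
  obtain ⟨α, hα⟩ := exists_prime_orderOf_dvd_card' (G := MulAut R) q hdvd
  obtain ⟨T, hTc, ⟨hTp, hT2⟩, hmax⟩ := CfsgLib.OddOrder.CharOmega.exists_maximal hp hR
  haveI := hTc
  let r : MulAut R →* MulAut T :=
    { toFun := fun e => (e.subgroupMap T).trans (MulEquiv.subgroupCongr
        (Subgroup.characteristic_iff_map_eq.1 hTc e))
      map_one' := MulEquiv.ext fun x => Subtype.ext rfl
      map_mul' := fun e f => MulEquiv.ext fun x => Subtype.ext rfl }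
  have hαq : α ^ q = 1 := hα ▸ pow_orderOf_eq_one α
  have hrq : r α ^ q = 1 := by rw [← map_pow, hαq, map_one]
  have hr1 : r α ≠ 1 := by
    intro h
    have hfix : ∀ t ∈ T, α t = t := fun t ht => by
      exact (congrArg (fun e : MulAut T => ((e ⟨t, ht⟩ : T) : R)) h :)
    haveI := CfsgLib.OddOrder.CharOmega.centralizer_characteristic T
    set C := Subgroup.centralizer (T : Set R)
    let r' : MulAut R →* MulAut C :=
      { toFun := fun e => (e.subgroupMap C).trans (MulEquiv.subgroupCongr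
          (Subgroup.characteristic_iff_map_eq.1 inferInstance e))
        map_one' := MulEquiv.ext fun x => Subtype.ext rfl
        map_mul' := fun e f => MulEquiv.ext fun x => Subtype.ext rfl }
    have hcop : (Nat.card (Subgroup.zpowers (r' α))).Coprime p := by
      rw [Nat.card_zpowers]
      refine Nat.Coprime.coprime_dvd_left ?_ ((Nat.coprime_primes hq hp').2 hqp)
      exact orderOf_dvd_of_pow_eq_one (by rw [← map_pow, hαq, map_one])
    have hC := AutCoprime.eq_bot_of_fix_orderP (A := Subgroup.zpowers (r' α)) hp (hR.to_subgroup C) hcop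
      (fun b hb g hg => AutCoprime.fix_of_zpowers
        (Subtype.ext (hfix g (hmax g g.2 (congrArg Subtype.val hg))) : r' α g = g) b hb)
    rw [Subgroup.zpowers_eq_bot] at hC
    have hfixC : ∀ c ∈ C, α c = c := fun c hc => by
      exact (congrArg (fun e : MulAut C => ((e ⟨c, hc⟩ : C) : R)) hC :)
    have hone : α = 1 := by
      refine MulEquiv.ext fun x => ?_
      show α x = x
      have hc : x⁻¹ * α x ∈ C := by
        refine Subgroup.mem_centralizer_iff.2 fun t ht => ?_
        have h1 : x * t * x⁻¹ ∈ T := (inferInstance : T.Normal).conj_mem t ht x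
        have h2 := hfix _ h1
        rw [map_mul, map_mul, map_inv, hfix t ht] at h2
        calc t * (x⁻¹ * α x) = x⁻¹ * (x * t * x⁻¹) * α x := by group
          _ = x⁻¹ * (α x * t * (α x)⁻¹) * α x := by rw [h2]
          _ = _ := by group
      have hn : ∀ n : ℕ, (α ^ n) x = x * (x⁻¹ * α x) ^ n := by
        intro n
        induction n with
        | zero => simp
        | succ n ih =>
          rw [pow_succ', MulAut.mul_apply, ih, map_mul, map_pow, hfixC _ hc, pow_succ', ← mul_assoc,
            mul_inv_cancel_left]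
      have hq1 := hn q
      rw [hαq, MulAut.one_apply, left_eq_mul] at hq1
      obtain ⟨k, hk⟩ := IsPGroup.iff_orderOf.1 hR (x⁻¹ * α x)
      have hd := orderOf_dvd_of_pow_eq_one hq1
      rw [hk] at hd
      rcases (Nat.dvd_prime hq).1 hd with h0 | h0
      · have h3 : x⁻¹ * α x = 1 := by rw [← orderOf_eq_one_iff, hk, h0]
        exact (inv_mul_eq_one.1 h3).symm
      · rcases Nat.eq_zero_or_pos k with rfl | hk0
        · rw [pow_zero] at h0; exact absurd h0.symm hq.ne_one
        · exact absurd ((Nat.prime_dvd_prime_iff_eq hp' hq).1 (h0 ▸ dvd_pow_self p hk0.ne')).symm hqp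
    rw [hone, orderOf_one] at hα
    exact hq.ne_one hα.symm
  have hTrk : ∀ E : Subgroup T, Cfsg.IsElementaryAbelian p E → Nat.card E ≤ p ^ 2 := by
    intro E hE
    have hE' := Thompson.isEA_map T.subtype hE
    have := hrk _ hE'.1 hE'.2
    rwa [Subgroup.card_map_of_injective T.subtype_injective] at this
  have hTP : IsPGroup p T := hR.to_subgroup T
  by_cases hab : ∀ a b : T, a * b = b * a
  · refine count (r α) hTP ?_ hrq hr1
    have := hTrk ⊤ ⟨⟨⟨fun a b => Subtype.ext (hab a b)⟩⟩, fun x _ => Subtype.ext (hTp x x.2)⟩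
    rwa [Subgroup.card_top] at this
  push Not at hab
  obtain ⟨a, b, hab⟩ := hab
  set Z := Subgroup.center T with hZ
  have hcomm : ∀ u v : T, ⁅u, v⁆ ∈ Z := fun u v => Subgroup.mem_center_iff.2 fun w =>
    Subtype.ext (Subgroup.mem_centralizer_iff.1 (hT2 u u.2 v v.2) w w.2)
  have hexp : ∀ x : T, x ^ p = 1 := fun x => Subtype.ext (hTp x x.2)
  have hzp : ∀ g : T, Cfsg.IsElementaryAbelian p (Subgroup.zpowers g) := fun g => ⟨inferInstance, fun x _ => hexp x⟩
  have hZea : Cfsg.IsElementaryAbelian p Z := ⟨inferInstance, fun x _ => hexp x⟩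
  have hZa : Cfsg.IsElementaryAbelian p (Z ⊔ Subgroup.zpowers a : Subgroup T) :=
    CfsgLib.Solvable.ThompsonReplacement.isEA_sup hZea (hzp a) fun z hz x _ => (Subgroup.mem_center_iff.1 hz x).symm
  have haZ : a ∉ Z := fun h => hab (Subgroup.mem_center_iff.1 h b).symm
  have hlt : Z < Z ⊔ Subgroup.zpowers a := lt_of_le_of_ne le_sup_left fun h =>
    haZ (h ▸ Subgroup.mem_sup_right (Subgroup.mem_zpowers a))
  have hZp : Nat.card Z ≤ p := by
    obtain ⟨i, hi⟩ := (hTP.to_subgroup Z).exists_card_eq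
    obtain ⟨j, hj⟩ := (hTP.to_subgroup (Z ⊔ Subgroup.zpowers a : Subgroup T)).exists_card_eq
    have h1 : Nat.card Z < Nat.card (Z ⊔ Subgroup.zpowers a : Subgroup T) :=
      Set.ncard_lt_ncard (SetLike.coe_ssubset_coe.mpr hlt)
    have h2 := hTrk _ hZa
    rw [hi, hj] at h1
    rw [hj] at h2
    have h1' := (Nat.pow_lt_pow_iff_right hp'.one_lt).1 h1
    have h2' := (Nat.pow_le_pow_iff_right hp'.one_lt).1 h2
    rw [hi]
    exact le_trans (Nat.pow_le_pow_right hp'.pos (show i ≤ 1 by omega)) (pow_one p).le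
  -- the centraliser of `a` is `Z ⊔ ⟨a⟩`, of index at most `p`
  have hCa : Subgroup.centralizer ({a} : Set T) ≤ Z ⊔ Subgroup.zpowers a := by
    intro y hy
    have hy' := Subgroup.mem_centralizer_singleton_iff.1 hy
    have hE : Cfsg.IsElementaryAbelian p (Z ⊔ Subgroup.zpowers a ⊔ Subgroup.zpowers y : Subgroup T) := by
      refine CfsgLib.Solvable.ThompsonReplacement.isEA_sup hZa (hzp y) fun u hu x hx => ?_
      have hle : Z ⊔ Subgroup.zpowers a ≤ Subgroup.centralizer {y} :=
        sup_le (fun z hz => Subgroup.mem_centralizer_singleton_iff.2 (Subgroup.mem_center_iff.1 hz y).symm)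
          (Subgroup.zpowers_le.2 (Subgroup.mem_centralizer_singleton_iff.2 hy'.symm))
      obtain ⟨k, rfl⟩ := Subgroup.mem_zpowers_iff.1 hx
      exact ((show Commute u y from Subgroup.mem_centralizer_singleton_iff.1 (hle hu)).zpow_right k).eq
    have hcard : p ^ 2 ≤ Nat.card (Z ⊔ Subgroup.zpowers a : Subgroup T) := by
      obtain ⟨i, hi⟩ := (hTP.to_subgroup Z).exists_card_eq
      obtain ⟨j, hj⟩ := (hTP.to_subgroup (Z ⊔ Subgroup.zpowers a : Subgroup T)).exists_card_eq
      have h1 : Nat.card Z < Nat.card (Z ⊔ Subgroup.zpowers a : Subgroup T) :=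
        Set.ncard_lt_ncard (SetLike.coe_ssubset_coe.mpr hlt)
      have hZ1 : 1 < Nat.card Z := by
        haveI : Nontrivial T := ⟨⟨a, 1, fun h => haZ (h ▸ one_mem Z)⟩⟩
        haveI := hTP.center_nontrivial
        exact Finite.one_lt_card
      rw [hi] at h1 hZ1
      rw [hj] at h1 ⊢
      have h1' := (Nat.pow_lt_pow_iff_right hp'.one_lt).1 h1
      refine Nat.pow_le_pow_right hp'.pos ?_
      rcases Nat.eq_zero_or_pos i with rfl | hi0
      · simp at hZ1
      · omega
    rw [Subgroup.eq_of_le_of_card_ge (le_sup_left : Z ⊔ Subgroup.zpowers a ≤ _ ⊔ Subgroup.zpowers y)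
      ((hTrk _ hE).trans hcard)]
    exact Subgroup.mem_sup_right (Subgroup.mem_zpowers y)
  have hcardT : Nat.card T ≤ p ^ 2 * Nat.card Z := by
    let f : T ⧸ Subgroup.centralizer ({a} : Set T) → Z := fun x => ⟨⁅a, x.out⁆, hcomm a x.out⟩
    have hinj : Function.Injective f := by
      intro x y hxy
      rw [← Quotient.out_eq x, ← Quotient.out_eq y]
      refine QuotientGroup.eq.mpr (Subgroup.mem_centralizer_singleton_iff.2 ?_)
      have h : ⁅a, x.out⁆ = ⁅a, y.out⁆ := congrArg Subtype.val hxy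
      simp only [commutatorElement_def] at h
      set u := x.out
      set v := y.out
      have h2 : u * a⁻¹ * u⁻¹ = v * a⁻¹ * v⁻¹ := by simpa [mul_assoc] using h
      have h3 : u * a * u⁻¹ = v * a * v⁻¹ := by
        have := congrArg (·⁻¹) h2
        simpa [mul_assoc] using this
      calc u⁻¹ * v * a = u⁻¹ * (v * a * v⁻¹) * v := by group
        _ = u⁻¹ * (u * a * u⁻¹) * v := by rw [h3]
        _ = _ := by group
    rw [Subgroup.card_eq_card_quotient_mul_card_subgroup (Subgroup.centralizer ({a} : Set T)), mul_comm (p ^ 2)]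
    exact Nat.mul_le_mul (Nat.card_le_card_of_injective f hinj)
      ((Subgroup.card_le_of_le hCa).trans (hTrk _ hZa))
  have hmapZ : Z.map (r α).toMonoidHom = Z := Subgroup.characteristic_iff_map_eq.1 inferInstance (r α)
  set β := QuotientGroup.congr Z Z (r α) hmapZ with hβ
  have hβn : ∀ n : ℕ, ∀ u : T, (β ^ n) (QuotientGroup.mk u) = QuotientGroup.mk ((r α ^ n) u) := by
    intro n
    induction n with
    | zero => intro u; rfl
    | succ n ih =>
      intro u
      rw [pow_succ', pow_succ', MulAut.mul_apply, ih]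
      rfl
  refine count β (hTP.to_quotient Z) ?_ ?_ ?_
  · refine Nat.le_of_mul_le_mul_right ?_ (Nat.card_pos (α := Z))
    rw [← Subgroup.card_eq_card_quotient_mul_card_subgroup Z]
    exact hcardT
  · refine MulEquiv.ext fun u => ?_
    obtain ⟨u, rfl⟩ := QuotientGroup.mk'_surjective Z u
    show (β ^ q) (QuotientGroup.mk u) = QuotientGroup.mk u
    rw [hβn, hrq]
    rfl
  · intro h
    apply hr1
    have htriv : ∀ u : T, u⁻¹ * r α u ∈ Z := fun u => QuotientGroup.eq.1
      (DFunLike.congr_fun h (QuotientGroup.mk u : T ⧸ Z)).symm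
    have hc : ⁅r α a, r α b⁆ = ⁅a, b⁆ := by
      have ha1 := Subgroup.mem_center_iff.1 (htriv a)
      have hb1 := Subgroup.mem_center_iff.1 (htriv b)
      set c := a⁻¹ * r α a with hcdef
      set d := b⁻¹ * r α b with hddef
      rw [show r α a = a * c by rw [hcdef]; group, show r α b = b * d by rw [hddef]; group]
      simp only [commutatorElement_def, mul_inv_rev]
      calc a * c * (b * d) * (c⁻¹ * a⁻¹) * (d⁻¹ * b⁻¹)
          = a * (c * (b * d)) * c⁻¹ * a⁻¹ * d⁻¹ * b⁻¹ := by group
        _ = a * b * (d * a⁻¹) * d⁻¹ * b⁻¹ := by rw [← ha1 (b * d)]; group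
        _ = a * b * a⁻¹ * b⁻¹ := by rw [← hb1 a⁻¹]; group
    have hne : ⁅a, b⁆ ≠ 1 := fun e => hab (commutatorElement_eq_one_iff_mul_comm.1 e)
    have hfixz : ∀ w ∈ Z, r α w = w := by
      have hle : Z ≤ Subgroup.zpowers ⁅a, b⁆ := by
        refine (Subgroup.eq_of_le_of_card_ge (Subgroup.zpowers_le.2 (hcomm a b)) ?_).ge
        rw [Nat.card_zpowers, orderOf_eq_prime (hexp _) hne]
        exact hZp
      intro w hw
      obtain ⟨k, rfl⟩ := Subgroup.mem_zpowers_iff.1 (hle hw)
      rw [map_zpow, map_commutatorElement, hc]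
    refine MulEquiv.ext fun u => ?_
    show r α u = u
    set c := u⁻¹ * r α u with hcdef
    have hn : ∀ n : ℕ, (r α ^ n) u = u * c ^ n := by
      intro n
      induction n with
      | zero => simp
      | succ n ih =>
        rw [pow_succ', MulAut.mul_apply, ih, map_mul, map_pow, hfixz c (htriv u), pow_succ', ← mul_assoc]
        congr 1
        rw [hcdef]; group
    have hq1 := hn q
    rw [hrq, MulAut.one_apply, left_eq_mul] at hq1
    have hc1 : c = 1 := by
      rw [← orderOf_eq_one_iff]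
      exact Nat.eq_one_of_dvd_coprimes ((Nat.coprime_primes hq hp').2 hqp)
        (orderOf_dvd_of_pow_eq_one hq1) (orderOf_dvd_of_pow_eq_one (hexp c))
    rw [hcdef, inv_mul_eq_one] at hc1
    exact hc1.symm

end Cfsg.Agent.S0640
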