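import Cfsg.Statements.S0641
import Cfsg.Agent.Lib.Fusion.Basic

set_option autoImplicit false
open Cfsg
open scoped commutatorElement

namespace Cfsg.Agent.S0641

/-- Regularity of a p-group passes to quotient groups. -/
theorem result {G : Type*} [Group G] {p : ℕ} [Fact p.Prime] (hG : Cfsg.IsRegularPGroup p G) (N : Subgroup G) [N.Normal] : Cfsg.IsRegularPGroup p (G ⧸ N) := by
  obtain ⟨hP, h⟩ := hG
  refine ⟨hP.to_quotient N, fun a b n => ?_⟩
  obtain ⟨a', rfl⟩ := QuotientGroup.mk'_surjective N a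
  obtain ⟨b', rfl⟩ := QuotientGroup.mk'_surjective N b
  obtain ⟨c, hc, he⟩ := h a' b' n
  refine ⟨QuotientGroup.mk' N c, ?_, ?_⟩
  · have hmap : (Cfsg.powerClosure p n ⁅Subgroup.closure ({a', b'} : Set G), Subgroup.closure ({a', b'} : Set G)⁆).map (QuotientGroup.mk' N) ≤ Cfsg.powerClosure p n ⁅Subgroup.closure ({QuotientGroup.mk' N a', QuotientGroup.mk' N b'} : Set (G ⧸ N)), Subgroup.closure ({QuotientGroup.mk' N a', QuotientGroup.mk' N b'} : Set (G ⧸ N))⁆ := by
      rw [Cfsg.powerClosure, MonoidHom.map_closure]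
      refine Subgroup.closure_mono ?_
      rintro _ ⟨_, ⟨x, hx, rfl⟩, rfl⟩
      refine ⟨QuotientGroup.mk' N x, ?_, map_pow _ _ _⟩
      have := Subgroup.mem_map_of_mem (QuotientGroup.mk' N) hx
      rwa [Subgroup.map_commutator, MonoidHom.map_closure, Set.image_pair] at this
    exact hmap ⟨c, hc, rfl⟩
  · rw [← map_mul, ← map_pow, he, map_mul, map_mul, map_pow, map_pow]


end Cfsg.Agent.S0641
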