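import Cfsg.Statements.S0642
import Cfsg.Agent.Lib.PGroup.Frattini
import Mathlib

set_option autoImplicit false
open Cfsg
open scoped commutatorElement

namespace Cfsg.Agent.S0642

theorem commutator_closure_le {G : Type*} [Group G] (S : Set G) (N : Subgroup G)
    (hn : Subgroup.closure S ≤ Subgroup.normalizer (N : Set G)) (h : ∀ x ∈ S, ∀ y ∈ S, ⁅x, y⁆ ∈ N) :
    ⁅Subgroup.closure S, Subgroup.closure S⁆ ≤ N := by
  have key : ∀ g : G, (∀ y ∈ S, ⁅g, y⁆ ∈ N) → ∀ k ∈ Subgroup.closure S, ⁅g, k⁆ ∈ N := by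
    intro g hg k hk
    induction hk using Subgroup.closure_induction with
    | mem y hy => exact hg y hy
    | one => simp [commutatorElement_def]
    | mul k l hk hl ihk ihl =>
      rw [show ⁅g, k * l⁆ = ⁅g, k⁆ * (k * ⁅g, l⁆ * k⁻¹) by simp [commutatorElement_def, mul_assoc]]
      exact mul_mem ihk ((Subgroup.mem_normalizer_iff.mp (hn hk) _).mp ihl)
    | inv k hk ihk =>
      rw [show ⁅g, k⁻¹⁆ = k⁻¹ * ⁅g, k⁆⁻¹ * (k⁻¹)⁻¹ by simp [commutatorElement_def, mul_assoc]]
      exact (Subgroup.mem_normalizer_iff.mp (inv_mem (hn hk)) _).mp (inv_mem ihk)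
  rw [Subgroup.commutator_le]
  intro g hg k hk
  refine key g (fun y hy => ?_) k hk
  rw [← commutatorElement_inv]
  exact inv_mem (key y (h y hy) g hg)

/-- Among finite 2-groups the regular ones are exactly the abelian ones. -/
theorem result {G : Type*} [Group G] [Finite G] (hG : IsPGroup 2 G) : Cfsg.IsRegularPGroup 2 G ↔ ∀ a b : G, a * b = b * a := by
  constructor
  · rintro ⟨-, hreg⟩ a b
    set K := Subgroup.closure ({a, b} : Set G) with hK
    set D := ⁅K, K⁆ with hD
    set N := Cfsg.powerClosure 2 1 D with hN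
    have hKD : K ≤ Subgroup.normalizer (D : Set G) := Subgroup.normalizer_commutator_ge_left K K
    have hKN : K ≤ Subgroup.normalizer (N : Set G) := by
      intro k hk
      have hgen : ∀ g ∈ Subgroup.normalizer (D : Set G), ∀ y ∈ N, g * y * g⁻¹ ∈ N := by
        intro g hg y hy
        have : y ∈ N.comap (MulAut.conj g).toMonoidHom := by
          refine (Subgroup.closure_le _).mpr ?_ hy
          rintro _ ⟨x, hx, rfl⟩
          refine Subgroup.subset_closure ⟨g * x * g⁻¹, (Subgroup.mem_normalizer_iff.mp hg x).mp hx, ?_⟩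
          show g * x ^ 2 ^ 1 * g⁻¹ = _
          rw [conj_pow]
        exact this
      rw [Subgroup.mem_normalizer_iff]
      intro y
      refine ⟨hgen k (hKD hk) y, fun hy => ?_⟩
      have := hgen k⁻¹ (inv_mem (hKD hk)) _ hy
      simpa [mul_assoc] using this
    have haK : a ∈ K := Subgroup.subset_closure (by simp)
    have hbK : b ∈ K := Subgroup.subset_closure (by simp)
    obtain ⟨d, hd, he⟩ := hreg a b 1
    have hc : ⁅b, a⁆ ∈ N := by
      rw [Subgroup.mem_normalizer_iff.mp (hKN (inv_mem haK)) ⁅b, a⁆]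
      have e1 : a⁻¹ * ⁅b, a⁆ * a⁻¹⁻¹ = b ^ 2 * d * (b ^ 2)⁻¹ := by
        have e2 : (a * b) ^ 2 ^ 1 = a ^ 2 * (a⁻¹ * ⁅b, a⁆ * a⁻¹⁻¹) * b ^ 2 := by
          simp [commutatorElement_def, pow_two, mul_assoc]
        rw [e2, show (2 : ℕ) ^ 1 = 2 from rfl, mul_assoc (a ^ 2), mul_assoc (a ^ 2)] at he
        rw [← mul_left_cancel he, mul_inv_cancel_right]
      rw [e1]
      exact (Subgroup.mem_normalizer_iff.mp (hKN (pow_mem hbK 2)) d).mp hd
    have hDN : D ≤ N := by
      refine commutator_closure_le _ _ hKN ?_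
      rintro x (rfl | rfl) y (rfl | rfl)
      · simp [commutatorElement_def]
      · rw [← commutatorElement_inv]; exact inv_mem hc
      · exact hc
      · simp [commutatorElement_def]
    have hD1 : D = ⊥ := by
      by_contra hne
      haveI : Nontrivial D := (Subgroup.nontrivial_iff_ne_bot D).mpr hne
      have hle : N ≤ (frattini D).map D.subtype := by
        rw [hN, Cfsg.powerClosure, Subgroup.closure_le]
        rintro _ ⟨x, hx, rfl⟩
        exact ⟨⟨x, hx⟩ ^ 2 ^ 1, by simpa using CfsgLib.PGroup.Frattini.pow_mem_frattini (p := 2) (hG.to_subgroup D) ⟨x, hx⟩, rfl⟩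
      have htop : frattini D = ⊤ := by
        rw [eq_top_iff]
        intro x _
        obtain ⟨z, hz, hzx⟩ := hle (hDN x.2)
        exact Subtype.ext hzx ▸ hz
      rcases eq_top_or_exists_le_coatom (⊥ : Subgroup D) with h | ⟨M, hM, -⟩
      · exact bot_ne_top h
      · exact hM.1 (top_le_iff.mp (htop ▸ frattini_le_coatom hM))
    have h1 : ⁅a, b⁆ ∈ D := Subgroup.commutator_mem_commutator haK hbK
    rw [hD1, Subgroup.mem_bot] at h1
    exact commutatorElement_eq_one_iff_mul_comm.mp h1
  · intro hab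
    refine ⟨hG, fun a b n => ⟨1, one_mem _, ?_⟩⟩
    rw [mul_one, (show Commute a b from hab a b).mul_pow]

end Cfsg.Agent.S0642
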