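import Cfsg.Statements.S0645
import Cfsg.Agent.Lib.Fusion.OmegaMetacyclic
import Cfsg.Agent.Lib.PGroup.Frattini

set_option autoImplicit false
open Cfsg
open scoped commutatorElement IsMulCommutative

namespace Cfsg.Agent.S0645

/-- Classification of p-groups with a cyclic maximal subgroup, odd p: a non-abelian one of order p^n has generators a of order p^(n-1) and b of order p, b outside the cyclic subgroup generated by a, with b a b⁻¹ = a^(1 + p^(n-2)). -/
theorem result {G : Type*} [Group G] [Finite G] {p : ℕ} [Fact p.Prime] (hp : p ≠ 2) (n : ℕ) (hn : 3 ≤ n) (hG : Nat.card G = p ^ n) (C : Subgroup G) (hC : IsCyclic C) (hCi : C.index = p) (hna : ∃ x y : G, x * y ≠ y * x) : ∃ a b : G, orderOf a = p ^ (n - 1) ∧ orderOf b = p ∧ b ∉ Subgroup.zpowers a ∧ b * a * b⁻¹ = a ^ (1 + p ^ (n - 2)) := by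
  have hpp := (Fact.out : p.Prime)
  have hR : IsPGroup p G := IsPGroup.of_card hG
  obtain ⟨u, v, huv⟩ := hna
  have hnc : ¬ IsCyclic G := fun h => by
    haveI : IsMulCommutative G := IsCyclic.isMulCommutative
    exact huv (mul_comm u v)
  have hco : IsCoatom C := by
    refine ⟨fun h => hpp.ne_one (by rw [← hCi, h, Subgroup.index_top]), fun K hK => ?_⟩
    have h1 : K.index ∣ p := hCi ▸ Subgroup.index_dvd_of_le hK.le
    rcases (Nat.dvd_prime hpp).mp h1 with h2 | h2
    · exact Subgroup.index_eq_one.mp h2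
    · exfalso
      have hrel := Subgroup.relIndex_mul_index hK.le
      rw [hCi, h2] at hrel
      have h3 : C.relIndex K = 1 := Nat.eq_of_mul_eq_mul_right hpp.pos (by rw [hrel, one_mul])
      exact hK.not_ge (Subgroup.relIndex_eq_one.mp h3)
  haveI hCn := CfsgLib.PGroup.Frattini.normal_of_isCoatom hR hco
  haveI := hC
  haveI : IsMulCommutative C := IsCyclic.isMulCommutative
  obtain ⟨E, hEab, hEcard, hEall⟩ :=
    CfsgLib.Fusion.OmegaMetacyclic.exists_eq_omega hR hp hnc hC (isCyclic_of_prime_card (p := p) hCi)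
  obtain ⟨g, hg⟩ := hC.exists_generator
  set a : G := (g : G) with ha
  have hgC : Subgroup.zpowers a = C := by
    refine le_antisymm (Subgroup.zpowers_le.mpr g.2) fun w hw => ?_
    obtain ⟨k, hk⟩ := Subgroup.mem_zpowers_iff.mp (hg ⟨w, hw⟩)
    exact Subgroup.mem_zpowers_iff.mpr ⟨k, (Subgroup.coe_zpow C g k).symm.trans (congrArg Subtype.val hk)⟩
  have hcardC : Nat.card C = p ^ (n - 1) := by
    have h1 := Subgroup.card_mul_index C
    rw [hCi, hG, show n = n - 1 + 1 by omega, pow_succ] at h1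
    exact Nat.eq_of_mul_eq_mul_right hpp.pos h1
  have hoa : orderOf a = p ^ (n - 1) := by rw [← hcardC, ← Nat.card_zpowers, hgC]
  set z := a ^ p ^ (n - 2) with hz
  have hzp : z ^ p = 1 := by
    rw [hz, ← pow_mul, ← pow_succ, show n - 2 + 1 = n - 1 by omega, ← hoa, pow_orderOf_eq_one]
  have hzC : z ∈ C := pow_mem g.2 _
  -- an element of order `p` outside `C`
  obtain ⟨b, hbE, hbC⟩ : ∃ b ∈ E, b ∉ C := by
    by_contra hno
    have hle : E ≤ Subgroup.zpowers z := by
      intro w hw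
      have hwC : w ∈ C := by by_contra h; exact hno ⟨w, hw, h⟩
      rw [← hgC] at hwC
      obtain ⟨i, rfl⟩ := mem_powers_iff_mem_zpowers.mpr hwC
      have h1 := hEab.2 _ hw
      simp only [← pow_mul] at h1
      rw [← orderOf_dvd_iff_pow_eq_one, hoa, show n - 1 = n - 2 + 1 by omega, pow_succ] at h1
      obtain ⟨q, rfl⟩ := Nat.dvd_of_mul_dvd_mul_right hpp.pos h1
      show a ^ (p ^ (n - 2) * q) ∈ _
      rw [pow_mul]
      exact Subgroup.npow_mem_zpowers z q
    have h2 := Subgroup.card_le_of_le hle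
    rw [hEcard, Nat.card_zpowers] at h2
    have h3 : orderOf z ≤ p := Nat.le_of_dvd hpp.pos (orderOf_dvd_of_pow_eq_one hzp)
    nlinarith [hpp.two_le]
  have hbp : b ^ p = 1 := hEab.2 b hbE
  haveI := hEab.1
  -- the commutator `[b, a]` is a power of `z`
  set c := ⁅b, a⁆ with hc
  have hcC : c ∈ C := mul_mem (Subgroup.Normal.conj_mem hCn a g.2 b) (inv_mem g.2)
  have haE : a * b * a⁻¹ ∈ E := hEall _ (by rw [conj_pow, hbp]; simp)
  have hcp : c ^ p = 1 := by
    refine hEab.2 c ?_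
    rw [hc, show ⁅b, a⁆ = b * (a * b * a⁻¹)⁻¹ by simp [commutatorElement_def, mul_assoc]]
    exact mul_mem hbE (inv_mem haE)
  obtain ⟨q, hq⟩ : ∃ q : ℕ, c = z ^ q := by
    rw [← hgC] at hcC
    obtain ⟨i, hi⟩ := mem_powers_iff_mem_zpowers.mpr hcC
    simp only at hi
    rw [← hi, ← pow_mul, ← orderOf_dvd_iff_pow_eq_one, hoa, show n - 1 = n - 2 + 1 by omega, pow_succ] at hcp
    obtain ⟨q, rfl⟩ := Nat.dvd_of_mul_dvd_mul_right hpp.pos hcp
    exact ⟨q, by rw [← hi, pow_mul]⟩
  have hpq : ¬ p ∣ q := by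
    rintro ⟨q', rfl⟩
    have hc1 : c = 1 := by rw [hq, pow_mul, hzp, one_pow]
    have hcomm : b * a = a * b := commutatorElement_eq_one_iff_mul_comm.mp hc1
    have htop : Subgroup.closure ({a, b} : Set G) = ⊤ := by
      refine hco.2 _ (lt_of_le_of_ne ?_ ?_)
      · rw [← hgC, Subgroup.zpowers_le]; exact Subgroup.subset_closure (by simp)
      · intro h; exact hbC (h.symm ▸ Subgroup.subset_closure (by simp))
    have hab : IsMulCommutative (Subgroup.closure ({a, b} : Set G)) := by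
      refine Subgroup.isMulCommutative_closure ?_
      rintro s (rfl | rfl) t (rfl | rfl)
      · rfl
      · exact hcomm.symm
      · exact hcomm
      · rfl
    haveI := hab
    exact huv (congrArg Subtype.val (mul_comm (⟨u, htop ▸ Subgroup.mem_top u⟩ : Subgroup.closure ({a, b} : Set G))
      ⟨v, htop ▸ Subgroup.mem_top v⟩))
  obtain ⟨i, hi⟩ : ∃ i : ℕ, q * i ≡ 1 [MOD p] := by
    obtain ⟨m, -, hm⟩ := Nat.exists_mul_mod_eq_one_of_coprime
      ((hpp.coprime_iff_not_dvd.mpr hpq).symm) hpp.one_lt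
    exact ⟨m, by rw [Nat.ModEq, Nat.mod_eq_of_lt hpp.one_lt]; exact hm⟩
  have hpi : ¬ p ∣ i := fun h => by
    have h0 : q * i ≡ 0 [MOD p] := Nat.modEq_zero_iff_dvd.mpr (h.mul_left q)
    exact hpp.ne_one (Nat.dvd_one.mp (Nat.modEq_zero_iff_dvd.mp (hi.symm.trans h0)))
  have hbi : b ^ i ∉ C := fun h => by
    have ho : orderOf b = p := orderOf_eq_prime hbp fun h1 => hbC (h1 ▸ one_mem C)
    obtain ⟨m, hm⟩ := exists_pow_eq_self_of_coprime (x := b) (n := i)
      (ho ▸ (hpp.coprime_iff_not_dvd.mpr hpi).symm)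
    exact hbC (hm ▸ pow_mem h m)
  have hbz : Commute b z := by
    -- `z` lies in `E`
    exact congrArg Subtype.val (mul_comm (⟨b, hbE⟩ : E) ⟨z, hEall z hzp⟩)
  refine ⟨a, b ^ i, hoa, orderOf_eq_prime (by rw [← pow_mul, mul_comm, pow_mul, hbp, one_pow])
    (fun h => hbi (h ▸ one_mem C)), hgC.symm ▸ hbi, ?_⟩
  have hconj : ∀ k : ℕ, b ^ k * a * (b ^ k)⁻¹ = (z ^ q) ^ k * a := by
    intro k
    induction k with
    | zero => simp
    | succ k ihk =>
      have h1 : b * a * b⁻¹ = z ^ q * a := by rw [← hq, hc]; simp [commutatorElement_def]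
      have h2 : b * (z ^ q) ^ k * b⁻¹ = (z ^ q) ^ k := by
        rw [((hbz.pow_right q).pow_right k).eq, mul_inv_cancel_right]
      calc b ^ (k + 1) * a * (b ^ (k + 1))⁻¹ = b * (b ^ k * a * (b ^ k)⁻¹) * b⁻¹ := by
            rw [pow_succ']; group
        _ = (b * (z ^ q) ^ k * b⁻¹) * (b * a * b⁻¹) := by rw [ihk]; group
        _ = (z ^ q) ^ (k + 1) * a := by rw [h1, h2, pow_succ, mul_assoc]
  rw [hconj, ← pow_mul, show z ^ (q * i) = z ^ 1 from ?_, pow_one, hz, ← pow_succ, add_comm 1]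
  have hoz : orderOf z ∣ p := orderOf_dvd_of_pow_eq_one hzp
  exact pow_eq_pow_iff_modEq.mpr (hi.of_dvd hoz)

end Cfsg.Agent.S0645
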