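import Cfsg.Statements.S0647
import Cfsg.Agent.Lib.Fusion.Thompson

set_option autoImplicit false
open Cfsg
open scoped commutatorElement

namespace Cfsg.Agent.S0647

/-- For a nonempty family of maximal abelian subgroups of a finite group, the intersection of the family is the centre of the subgroup it generates, which is also the full centralizer of that subgroup. -/
theorem result {S : Type*} [Group S] [Finite S] (𝒜 : Set (Subgroup S)) (hne : 𝒜.Nonempty) (hab : ∀ A ∈ 𝒜, IsMulCommutative A) (hmax : ∀ A ∈ 𝒜, ∀ B : Subgroup S, IsMulCommutative B → A ≤ B → B = A) : sInf 𝒜 = sSup 𝒜 ⊓ Subgroup.centralizer ((sSup 𝒜 : Subgroup S) : Set S) ∧ sInf 𝒜 = Subgroup.centralizer ((sSup 𝒜 : Subgroup S) : Set S) := by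
  have h1 : sInf 𝒜 = Subgroup.centralizer ((sSup 𝒜 : Subgroup S) : Set S) := by
    refine le_antisymm ?_ (le_sInf fun A hA x hx => ?_)
    · rw [Subgroup.le_centralizer_iff]
      refine sSup_le fun A hA => Subgroup.le_centralizer_iff.mpr ?_
      intro x hx a ha
      haveI := hab A hA
      exact congrArg Subtype.val (mul_comm' (⟨a, ha⟩ : A) ⟨x, (Subgroup.mem_sInf.mp hx) A hA⟩)
    · -- `A ⊔ ⟨x⟩` is abelian
      haveI := hab A hA
      have hxA : ∀ a ∈ A, Commute a x := fun a ha => hx a (le_sSup hA ha)
      have hB : IsMulCommutative (A ⊔ Subgroup.zpowers x : Subgroup S) := by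
        rw [Subgroup.zpowers_eq_closure]
        have hle : A ⊔ Subgroup.closure {x} = Subgroup.closure ((A : Set S) ∪ {x}) := by
          rw [Subgroup.closure_union, Subgroup.closure_eq]
        rw [hle]
        refine Subgroup.isMulCommutative_closure ?_
        rintro a (ha | ha) b (hb | hb)
        · exact congrArg Subtype.val (mul_comm' (⟨a, ha⟩ : A) ⟨b, hb⟩)
        · rw [show b = x from hb]; exact hxA a ha
        · rw [show a = x from ha]; exact (hxA b hb).symm
        · rw [show a = x from ha, show b = x from hb]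
      rw [← hmax A hA _ hB le_sup_left]
      exact Subgroup.mem_sup_right (Subgroup.mem_zpowers x)
  refine ⟨le_antisymm (le_inf ?_ h1.le) (inf_le_right.trans h1.ge), h1⟩
  obtain ⟨A, hA⟩ := hne
  exact (sInf_le hA).trans (le_sSup hA)


end Cfsg.Agent.S0647
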