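import Cfsg.Statements.S0648

-- import your own Cfsg.Agent.* helpers here

set_option autoImplicit false
open Cfsg
open scoped commutatorElement

namespace Cfsg.Agent.S0648

/-- If A acts on B centralizing [B, B], then [B, A] has derived subgroup central in B, and for abelian A and b ∈ B with [[b, A], A, A] = 1 the derived subgroup of the subgroup [b, A] generated by the commutators of b with A has exponent dividing 2. -/
theorem result {G : Type*} [Group G] [Finite G] (A B : Subgroup G) (hAB : A ≤ Subgroup.normalizer (B : Set G)) (hc : ⁅⁅B, B⁆, A⁆ = ⊥) : ⁅⁅B, A⁆, ⁅B, A⁆⁆ ≤ B ⊓ Subgroup.centralizer (B : Set G) ∧ (IsMulCommutative A → ∀ b ∈ B, ⁅⁅(Subgroup.closure {g : G | ∃ a ∈ A, g = b⁻¹ * a * b * a⁻¹}), A⁆, A⁆ = ⊥ → ∀ w ∈ ⁅(Subgroup.closure {g : G | ∃ a ∈ A, g = b⁻¹ * a * b * a⁻¹}), (Subgroup.closure {g : G | ∃ a ∈ A, g = b⁻¹ * a * b * a⁻¹})⁆, w ^ 2 = 1) := by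
  set D : Subgroup G := ⁅B, A⁆ with hD
  have hDB : D ≤ B := Subgroup.le_normalizer_iff_commutator_le_left.1 hAB
  have hB'B : ⁅B, B⁆ ≤ B := Subgroup.commutator_le_self B
  have hDB' : ⁅⁅B, B⁆, D⁆ = ⊥ := by
    rw [Subgroup.commutator_comm]
    refine Subgroup.commutator_commutator_eq_bot_of_rotate ?_ ?_
    · rw [Subgroup.commutator_comm A ⁅B, B⁆, hc, Subgroup.commutator_bot_left]
    · refine le_bot_iff.1 ((Subgroup.commutator_mono ?_ le_rfl).trans hc.le)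
      exact Subgroup.commutator_mono hB'B le_rfl
  have hfirst : ⁅D, D⁆ ≤ B ⊓ Subgroup.centralizer (B : Set G) := by
    refine le_inf ((Subgroup.commutator_le_self D).trans hDB) ?_
    rw [← Subgroup.commutator_eq_bot_iff_le_centralizer]
    refine Subgroup.commutator_commutator_eq_bot_of_rotate ?_ ?_
    · exact le_bot_iff.1 ((Subgroup.commutator_mono (Subgroup.commutator_mono hDB le_rfl) le_rfl).trans
        hDB'.le)
    · exact le_bot_iff.1 ((Subgroup.commutator_mono (Subgroup.commutator_mono le_rfl hDB) le_rfl).trans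
        hDB'.le)
  refine ⟨hfirst, fun hA b hb hKAA w hw => ?_⟩
  set K : Subgroup G := Subgroup.closure {g : G | ∃ a ∈ A, g = b⁻¹ * a * b * a⁻¹} with hK
  have hcmem : ∀ a ∈ A, b⁻¹ * a * b * a⁻¹ ∈ D := fun a ha => by
    have := Subgroup.commutator_mem_commutator (inv_mem hb) ha
    rw [commutatorElement_def, inv_inv] at this
    exact this
  have hKD : K ≤ D := by
    rw [hK, Subgroup.closure_le]
    rintro _ ⟨a, ha, rfl⟩
    exact hcmem a ha
  have hAD : A ≤ Subgroup.normalizer (D : Set G) := Subgroup.normalizer_commutator_ge_right _ _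
  -- centrality, bilinearity and invariance
  have hcent : ∀ g ∈ D, ∀ h ∈ D, ∀ u ∈ B, u * ⁅g, h⁆ = ⁅g, h⁆ * u := fun g hg h hh u hu =>
    Subgroup.mem_centralizer_iff.1 (hfirst (Subgroup.commutator_mem_commutator hg hh)).2 u hu
  have hB'D : ∀ g ∈ B, ∀ h ∈ B, ∀ d ∈ D, d * ⁅g, h⁆ = ⁅g, h⁆ * d := fun g hg h hh d hd =>
    Subgroup.mem_centralizer_iff.1 (Subgroup.commutator_eq_bot_iff_le_centralizer.1 hDB'
      (Subgroup.commutator_mem_commutator hg hh)) d hd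
  have hB'A : ∀ g ∈ B, ∀ h ∈ B, ∀ a ∈ A, ⁅a * g * a⁻¹, a * h * a⁻¹⁆ = ⁅g, h⁆ := by
    intro g hg h hh a ha
    rw [← conjugate_commutatorElement, mul_inv_eq_iff_eq_mul]
    exact Subgroup.mem_centralizer_iff.1 (Subgroup.commutator_eq_bot_iff_le_centralizer.1 hc
      (Subgroup.commutator_mem_commutator hg hh)) a ha
  have hbl : ∀ g ∈ D, ∀ h ∈ D, ∀ k ∈ D, ⁅g * h, k⁆ = ⁅g, k⁆ * ⁅h, k⁆ := by
    intro g hg h hh k hk
    rw [commutatorElement_mul_left_eq_conj_mul, hcent h hh k hk g (hDB hg), mul_inv_cancel_right]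
    exact hcent g hg k hk _ (hB'B (Subgroup.commutator_mem_commutator (hDB hh) (hDB hk)))
  have hbr : ∀ g ∈ B, ∀ h ∈ D, ∀ k ∈ B, ⁅g, h * k⁆ = ⁅g, h⁆ * ⁅g, k⁆ := by
    intro g hg h hh k hk
    rw [commutatorElement_mul_right_eq_mul_conj, mul_assoc _ h _, hB'D g hg k hk h hh,
      mul_assoc ⁅g, h⁆, mul_inv_cancel_right]
  have hAc : ∀ a ∈ A, ∀ a' ∈ A, a * a' = a' * a := fun a ha a' ha' =>
    congrArg Subtype.val (hA.is_comm.comm ⟨a, ha⟩ ⟨a', ha'⟩)
  set c : G → G := fun a => b⁻¹ * a * b * a⁻¹ with hcdef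
  set δ : G → G → G := fun a l => l⁻¹ * (a * l * a⁻¹) with hδdef
  have hcD : ∀ a ∈ A, c a ∈ D := hcmem
  have hcjD : ∀ a ∈ A, ∀ l ∈ D, a * l * a⁻¹ ∈ D := fun a ha l hl =>
    (Subgroup.mem_normalizer_iff.1 (hAD ha) l).1 hl
  have hδD : ∀ a ∈ A, ∀ l ∈ D, δ a l ∈ D := fun a ha l hl =>
    mul_mem (inv_mem hl) (hcjD a ha l hl)
  have hδfix : ∀ a ∈ A, ∀ l ∈ K, ∀ a' ∈ A, a' * δ a l * a'⁻¹ = δ a l := by
    intro a ha l hl a' ha'
    rw [mul_inv_eq_iff_eq_mul]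
    have hmem : δ a l ∈ ⁅K, A⁆ := by
      have := Subgroup.commutator_mem_commutator (inv_mem hl) ha
      rw [commutatorElement_def, inv_inv, mul_assoc (l⁻¹ * a), mul_assoc l⁻¹, ← mul_assoc a] at this
      exact this
    exact Subgroup.mem_centralizer_iff.1
      (Subgroup.commutator_eq_bot_iff_le_centralizer.1 hKAA hmem) a' ha'
  -- the invariance of `⁅b, l⁆`
  have hR : ∀ a ∈ A, ∀ l ∈ D, ⁅c a, a * l * a⁻¹⁆ * ⁅b, δ a l⁆ = 1 := by
    intro a ha l hl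
    have h1 : ⁅b * c a, a * l * a⁻¹⁆ = ⁅b, l⁆ := by
      have e : b * c a = a * b * a⁻¹ := by rw [hcdef]; group
      rw [e]
      exact hB'A b hb l (hDB hl) a ha
    rw [commutatorElement_mul_left_eq_conj_mul, hcent (c a) (hcD a ha) _ (hcjD a ha l hl) b hb,
      mul_inv_cancel_right] at h1
    have h2 : a * l * a⁻¹ = l * δ a l := by rw [hδdef]; group
    have h3 := hbr b hb l hl (δ a l) (hDB (hδD a ha l hl))
    rw [← h2] at h3
    rw [h3, ← mul_assoc, hcent (c a) (hcD a ha) _ (hcjD a ha l hl) ⁅b, l⁆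
      (hB'B (Subgroup.commutator_mem_commutator hb (hDB hl))) |>.symm, mul_assoc] at h1
    exact mul_eq_left.1 h1
  -- `c a` commutes with `δ a' l`
  have hzero : ∀ a ∈ A, ∀ a' ∈ A, ∀ l ∈ K, ⁅c a, δ a' l⁆ = 1 := by
    intro a ha a' ha' l hl
    have hl' := hKD hl
    have hf := hδD a' ha' l hl'
    have hLa := hcjD a ha l hl'
    have hLa' := hcjD a' ha' l hl'
    have hx := hcD a ha
    have hy := hcD a' ha'
    have e1 : c (a * a') = c a * (a * c a' * a⁻¹) := by rw [hcdef]; group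
    have e2 : a * a' * l * (a * a')⁻¹ = a * l * a⁻¹ * δ a' l := by
      calc a * a' * l * (a * a')⁻¹ = a * (l * δ a' l) * a⁻¹ := by rw [hδdef]; group
        _ = a * l * a⁻¹ * (a * δ a' l * a⁻¹) := by group
        _ = _ := by rw [hδfix a' ha' l hl a ha]
    have e3 : δ (a * a') l = δ a l * δ a' l := by
      rw [hδdef] at e2 ⊢
      simp only at e2 ⊢
      rw [e2]; group
    have e4 : a * a' * l * (a * a')⁻¹ = a * (a' * l * a'⁻¹) * a⁻¹ := by group
    have H := hR (a * a') (mul_mem ha ha') l hl'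
    have hfirstpart : ⁅c (a * a'), a * a' * l * (a * a')⁻¹⁆ =
        ⁅c a, a * l * a⁻¹⁆ * ⁅c a, δ a' l⁆ * ⁅c a', a' * l * a'⁻¹⁆ := by
      rw [e1, hbl _ hx _ (hcjD a ha _ hy) _ (hcjD (a * a') (mul_mem ha ha') l hl'), e4,
        hB'A (c a') (hDB hy) (a' * l * a'⁻¹) (hDB hLa') a ha, ← e4, e2,
        hbr (c a) (hDB hx) _ hLa _ (hDB hf)]
    rw [hfirstpart, e3, hbr b hb _ (hδD a ha l hl') _ (hDB hf),
      eq_inv_of_mul_eq_one_right (hR a ha l hl'), eq_inv_of_mul_eq_one_right (hR a' ha' l hl')] at H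
    have u3 : ⁅c a', a' * l * a'⁻¹⁆ ∈ B :=
      hB'B (Subgroup.commutator_mem_commutator (hDB hy) (hDB hLa'))
    have u2 : ⁅c a, δ a' l⁆ ∈ B := hB'B (Subgroup.commutator_mem_commutator (hDB hx) (hDB hf))
    have k1 := hcent (c a) hx (a * l * a⁻¹) hLa _ u3
    have k2 := hcent (c a) hx (a * l * a⁻¹) hLa _ u2
    calc ⁅c a, δ a' l⁆ = ⁅c a, δ a' l⁆ * (⁅c a', a' * l * a'⁻¹⁆ * ⁅c a, a * l * a⁻¹⁆ *
          ⁅c a, a * l * a⁻¹⁆⁻¹ * ⁅c a', a' * l * a'⁻¹⁆⁻¹) := by group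
      _ = ⁅c a, δ a' l⁆ * ⁅c a, a * l * a⁻¹⁆ * ⁅c a', a' * l * a'⁻¹⁆ *
          (⁅c a, a * l * a⁻¹⁆⁻¹ * ⁅c a', a' * l * a'⁻¹⁆⁻¹) := by rw [k1]; group
      _ = 1 := by rw [k2]; exact H
  -- the generators of the derived subgroup are of order at most `2`
  have hgen : ∀ a ∈ A, ∀ a' ∈ A, ⁅c a, c a'⁆ ^ 2 = 1 := by
    intro a ha a' ha'
    have hx := hcD a ha
    have hy := hcD a' ha'
    have hxK : c a ∈ K := Subgroup.subset_closure ⟨a, ha, rfl⟩
    have hyK : c a' ∈ K := Subgroup.subset_closure ⟨a', ha', rfl⟩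
    have hz : ∀ a₁ ∈ A, ∀ a₂ ∈ A, ⁅c a₁, c a₂⁆ * ⁅b, δ a₁ (c a₂)⁆ = 1 := by
      intro a₁ h1 a₂ h2
      have hy2K : c a₂ ∈ K := Subgroup.subset_closure ⟨a₂, h2, rfl⟩
      have h := hR a₁ h1 (c a₂) (hcD a₂ h2)
      have e : a₁ * c a₂ * a₁⁻¹ = c a₂ * δ a₁ (c a₂) := by rw [hδdef]; group
      rw [e, hbr (c a₁) (hDB (hcD a₁ h1)) _ (hcD a₂ h2) _ (hDB (hδD a₁ h1 _ (hcD a₂ h2))),
        hzero a₁ h1 a₁ h1 (c a₂) hy2K, mul_one] at h
      exact h
    have es : δ a' (c a) = ⁅(c a)⁻¹, (c a')⁻¹⁆ * δ a (c a') := by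
      have e : c a * (a * c a' * a⁻¹) = c a' * (a' * c a * a'⁻¹) := by
        calc c a * (a * c a' * a⁻¹) = c (a * a') := by rw [hcdef]; group
          _ = c (a' * a) := by rw [hAc a ha a' ha']
          _ = _ := by rw [hcdef]; group
      calc δ a' (c a) = (c a)⁻¹ * (c a')⁻¹ * (c a' * (a' * c a * a'⁻¹)) := by rw [hδdef]; group
        _ = (c a)⁻¹ * (c a')⁻¹ * (c a * (a * c a' * a⁻¹)) := by rw [e]
        _ = _ := by rw [hδdef, commutatorElement_def]; group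
    have ez : ⁅b, δ a' (c a)⁆ = ⁅b, δ a (c a')⁆ := by
      have hzD : ⁅(c a)⁻¹, (c a')⁻¹⁆ ∈ D := by
        rw [commutatorElement_def]
        exact mul_mem (mul_mem (mul_mem (inv_mem hx) (inv_mem hy)) (inv_mem (inv_mem hx))) (inv_mem (inv_mem hy))
      rw [es, hbr b hb _ hzD _ (hDB (hδD a ha _ hy)),
        commutatorElement_eq_one_iff_mul_comm.2 (hcent _ (inv_mem hx) _ (inv_mem hy) b hb), one_mul]
    have h1 := eq_inv_of_mul_eq_one_left (hz a ha a' ha')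
    have h2 := eq_inv_of_mul_eq_one_left (hz a' ha' a ha)
    rw [ez, ← h1, ← commutatorElement_inv (c a) (c a')] at h2
    rw [sq]
    nth_rewrite 1 [← h2]
    exact inv_mul_cancel _
  -- bilinearity
  have step : ∀ h ∈ D, (∀ a ∈ A, ⁅c a, h⁆ ^ 2 = 1) → ∀ g ∈ K, ⁅g, h⁆ ^ 2 = 1 := by
    intro h hh hgh g hg
    induction hg using Subgroup.closure_induction with
    | mem x hx => obtain ⟨a, ha, rfl⟩ := hx; exact hgh a ha
    | one => simp
    | mul x y hx hy ihx ihy =>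
      rw [hbl x (hKD hx) y (hKD hy) h hh, Commute.mul_pow, ihx, ihy, one_mul]
      exact (hcent y (hKD hy) h hh _ (hB'B (Subgroup.commutator_mem_commutator (hDB (hKD hx)) (hDB hh))))
    | inv x hx ihx =>
      have h' := hbl x (hKD hx) x⁻¹ (inv_mem (hKD hx)) h hh
      rw [mul_inv_cancel, commutatorElement_one_left] at h'
      rw [eq_inv_of_mul_eq_one_right h'.symm, inv_pow, ihx, inv_one]
  have hall : ∀ g ∈ K, ∀ h ∈ K, ⁅g, h⁆ ^ 2 = 1 := fun g hg h hh =>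
    step h (hKD hh) (fun a ha => by
      rw [← commutatorElement_inv h (c a), inv_pow,
        step (c a) (hcD a ha) (fun a' ha' => hgen a' ha' a ha) h hh, inv_one]) g hg
  rw [Subgroup.commutator_def] at hw
  have hKsub : ∀ x : G, x ∈ Subgroup.closure {g | ∃ g₁ ∈ K, ∃ g₂ ∈ K, ⁅g₁, g₂⁆ = g} → x ∈ ⁅D, D⁆ := by
    intro x hx
    have h1 : x ∈ ⁅K, K⁆ := by rw [Subgroup.commutator_def]; exact hx
    exact Subgroup.commutator_mono hKD hKD h1
  induction hw using Subgroup.closure_induction with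
  | mem x hx => obtain ⟨g, hg, h, hh, rfl⟩ := hx; exact hall g hg h hh
  | one => simp
  | mul x y hx hy ihx ihy =>
    rw [Commute.mul_pow, ihx, ihy, one_mul]
    exact (Subgroup.mem_centralizer_iff.1 (hfirst (hKsub y hy)).2 x (hfirst (hKsub x hx)).1)
  | inv x hx ihx => rw [inv_pow, ihx, inv_one]

end Cfsg.Agent.S0648
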