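import Cfsg.Statements.S0649
import Cfsg.Agent.Lib.Fusion.Basic

set_option autoImplicit false
open Cfsg
open scoped commutatorElement

namespace Cfsg.Agent.S0649

/-- In the Glauberman replacement situation, if B does not normalize A then some element of B normalizes N_S(A) without normalizing A. -/
theorem result {S : Type*} [Group S] [Finite S] {p : ℕ} [Fact p.Prime] (hS : IsPGroup p S) (B : Subgroup S) [B.Normal] (hB2 : p = 2 → IsMulCommutative B) (A : Subgroup S) (hA : IsMulCommutative A) (hBA : ⁅B, B⁆ ≤ A) (hnot : ¬ B ≤ Subgroup.normalizer (A : Set S)) : ∃ b ∈ B, b ∈ Subgroup.normalizer ((Subgroup.normalizer (A : Set S)) : Set S) ∧ b ∉ Subgroup.normalizer (A : Set S) := by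
  set M := Subgroup.normalizer (A : Set S) with hM
  haveI : Group.IsNilpotent S := hS.isNilpotent
  have hlt : M.subgroupOf (B ⊔ M) < ⊤ := by
    rw [lt_top_iff_ne_top, Ne, Subgroup.subgroupOf_eq_top]
    exact fun h => hnot (le_sup_left.trans h)
  obtain ⟨u, hu, hu'⟩ := SetLike.exists_of_lt
    (Group.normalizerCondition_of_isNilpotent (M.subgroupOf (B ⊔ M)) hlt)
  have hu2 : (u : S) ∈ ((B ⊔ M : Subgroup S) : Set S) := u.2
  rw [Subgroup.normal_mul] at hu2
  obtain ⟨b, hb, m, hm, hbm⟩ := Set.mem_mul.mp hu2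
  have huN : (u : S) ∈ Subgroup.normalizer (M : Set S) := by
    refine Subgroup.mem_normalizer_iff.mpr fun z => ?_
    constructor
    · intro hz
      exact (Subgroup.mem_normalizer_iff.mp hu ⟨z, Subgroup.mem_sup_right hz⟩).mp hz
    · intro hz
      have hz' : z ∈ B ⊔ M := by
        have := mul_mem (mul_mem (inv_mem u.2) (show (u : S) * z * (u : S)⁻¹ ∈ B ⊔ M from Subgroup.mem_sup_right hz)) u.2
        rwa [show (u : S)⁻¹ * ((u : S) * z * (u : S)⁻¹) * u = z by group] at this
      exact (Subgroup.mem_normalizer_iff.mp hu ⟨z, hz'⟩).mpr hz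
  have hbe : b = (u : S) * m⁻¹ := by rw [← hbm, mul_inv_cancel_right]
  refine ⟨b, hb, ?_, fun h => hu' ?_⟩
  · rw [hbe]; exact mul_mem huN (inv_mem (Subgroup.le_normalizer hm))
  · show (u : S) ∈ M
    rw [← hbm]
    exact mul_mem h hm


end Cfsg.Agent.S0649
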