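import Cfsg.Statements.S0650
import Cfsg.Agent.Lib.Fusion.Replacement

set_option autoImplicit false
open Cfsg

namespace Cfsg.Agent.S0650

/-- The Glauberman replacement Theorem: from an abelian A ⊇ [B, B] not normalized by the normal subgroup B and a suitable b ∈ B one gets the abelian subgroup A* = (A ∩ b⁻¹Ab)[A, b] of the same order, containing [B, B], meeting B strictly more than A does but not containing B, mutually normalizing with A, with strictly larger normalizer containing b, and (p odd) of no larger exponent. -/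
theorem result {S : Type*} [Group S] [Finite S] {p : ℕ} [Fact p.Prime] (hS : IsPGroup p S) (B : Subgroup S) [B.Normal] (hB2 : p = 2 → IsMulCommutative B) (A : Subgroup S) (hA : IsMulCommutative A) (hBA : ⁅B, B⁆ ≤ A) (hnot : ¬ B ≤ Subgroup.normalizer (A : Set S)) (b : S) (hb : b ∈ B) (hbN : b ∈ Subgroup.normalizer ((Subgroup.normalizer (A : Set S)) : Set S)) (hbA : b ∉ Subgroup.normalizer (A : Set S)) : Nat.card ↥((A ⊓ A.map (MulAut.conj (b⁻¹)).toMonoidHom) ⊔ Subgroup.closure {g : S | ∃ a ∈ A, g = a * b⁻¹ * a⁻¹ * b}) = Nat.card A ∧ IsMulCommutative ↥((A ⊓ A.map (MulAut.conj (b⁻¹)).toMonoidHom) ⊔ Subgroup.closure {g : S | ∃ a ∈ A, g = a * b⁻¹ * a⁻¹ * b}) ∧ ⁅B, B⁆ ≤ ((A ⊓ A.map (MulAut.conj (b⁻¹)).toMonoidHom) ⊔ Subgroup.closure {g : S | ∃ a ∈ A, g = a * b⁻¹ * a⁻¹ * b}) ∧ A ⊓ B < ((A ⊓ A.map (MulAut.conj (b⁻¹)).toMonoidHom) ⊔ Subgroup.closure {g : S | ∃ a ∈ A, g = a * b⁻¹ * a⁻¹ * b}) ⊓ B ∧ ((A ⊓ A.map (MulAut.conj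 (b⁻¹)).toMonoidHom) ⊔ Subgroup.closure {g : S | ∃ a ∈ A, g = a * b⁻¹ * a⁻¹ * b}) ⊓ B < B ∧ A ≤ Subgroup.normalizer (((A ⊓ A.map (MulAut.conj (b⁻¹)).toMonoidHom) ⊔ Subgroup.closure {g : S | ∃ a ∈ A, g = a * b⁻¹ * a⁻¹ * b} : Subgroup S) : Set S) ∧ ((A ⊓ A.map (MulAut.conj (b⁻¹)).toMonoidHom) ⊔ Subgroup.closure {g : S | ∃ a ∈ A, g = a * b⁻¹ * a⁻¹ * b}) ≤ Subgroup.normalizer (A : Set S) ∧ b ∈ Subgroup.normalizer (((A ⊓ A.map (MulAut.conj (b⁻¹)).toMonoidHom) ⊔ Subgroup.closure {g : S | ∃ a ∈ A, g = a * b⁻¹ * a⁻¹ * b} : Subgroup S) : Set S) ∧ Subgroup.normalizer (A : Set S) < Subgroup.normalizer (((A ⊓ A.map (MulAut.conj (b⁻¹)).toMonoidHom) ⊔ Subgroup.closure {g : S | ∃ a ∈ A, g = a * b⁻¹ * a⁻¹ * b} : Subgroup S) : Set S) ∧ (p ≠ 2 → Monoid.exponent ↥((A ⊓ A.map (MulAut.conj (b⁻¹)).toMonoidHom) ⊔ Subgroup.closure {g : S | ∃ a ∈ A, g = a * b⁻¹ * a⁻¹ * b}) ∣ Monoid.exponent A) := by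
  set x := b⁻¹ with hxdef
  have hxN : x ∈ Subgroup.normalizer ((Subgroup.normalizer (A : Set S)) : Set S) := inv_mem hbN
  have hx : CfsgLib.Fusion.Replacement.Setup p B A x :=
    { two := hB2
      pgroup := hS.to_subgroup B
      abelian := hA
      derived := hBA
      mem := inv_mem hb
      notMem := fun h => hbA (by simpa [hxdef] using inv_mem h)
      norm₁ := fun a ha => (Subgroup.mem_normalizer_iff.mp hxN a).mp (Subgroup.le_normalizer ha)
      norm₂ := fun a ha => (Subgroup.mem_normalizer_iff''.mp hxN a).mp (Subgroup.le_normalizer ha) }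
  have heq : (A ⊓ A.map (MulAut.conj x).toMonoidHom) ⊔ Subgroup.closure {g : S | ∃ a ∈ A, g = a * x * a⁻¹ * b} =
      CfsgLib.Fusion.Replacement.star A x := by
    have hb' : b = x⁻¹ := (inv_inv b).symm
    rw [hb']
    rfl
  rw [heq]
  refine ⟨hx.card_star, hx.star_comm, hx.derived_le_star, hx.inf_lt, ?_, hx.le_normalizer_star,
    hx.star_le_normalizer, ?_, ?_, fun hp => ?_⟩
  · exact lt_of_le_not_ge inf_le_right fun h => hx.not_le_star (h.trans inf_le_left)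
  · simpa [hxdef] using inv_mem hx.mem_normalizer_star
  · refine lt_of_le_not_ge (hx.normalizer_le_normalizer_star hxN) fun h => hx.notMem (h hx.mem_normalizer_star)
  · have hodd : Odd (Monoid.exponent A) := by
      obtain ⟨k, hk⟩ := IsPGroup.iff_card.mp (hS.to_subgroup A)
      obtain ⟨j, -, hj⟩ := (Nat.dvd_prime_pow (Fact.out : p.Prime)).mp (hk ▸ (Group.exponent_dvd_nat_card (G := A)))
      rw [hj]; exact ((Fact.out : p.Prime).odd_of_ne_two hp).pow
    refine Monoid.exponent_dvd_of_forall_pow_eq_one fun z => Subtype.ext ?_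
    exact hx.star_pow hodd (fun a ha => congrArg Subtype.val (Monoid.pow_exponent_eq_one (⟨a, ha⟩ : A))) z z.2

end Cfsg.Agent.S0650
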