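import Cfsg.Statements.S0651
import Cfsg.Agent.Lib.Fusion.Replacement

set_option autoImplicit false
open Cfsg

namespace Cfsg.Agent.S0651

/-- For odd p and D normal in the p-group S, the abelian subgroups of D of largest order satisfy the replacement property: a class-2 normal subgroup B of S with a member containing [B, B] but not B normalizes some such member. -/
theorem result {S : Type*} [Group S] [Finite S] {p : ℕ} [Fact p.Prime] (hS : IsPGroup p S) (hp : p ≠ 2) (D : Subgroup S) [D.Normal] : ∀ (B : Subgroup S) [B.Normal], ⁅⁅B, B⁆, B⁆ = ⊥ → (∃ U ∈ (Set.image (fun A : Subgroup ↥D => A.map D.subtype) (Cfsg.maxAbelianSubgroups ↥D)), ⁅B, B⁆ ≤ U ∧ ¬ B ≤ U) → ∃ A ∈ (Set.image (fun A : Subgroup ↥D => A.map D.subtype) (Cfsg.maxAbelianSubgroups ↥D)), ⁅B, B⁆ ≤ A ∧ ¬ B ≤ A ∧ B ≤ Subgroup.normalizer (A : Set S) := by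
  intro B _ _ h0
  refine CfsgLib.Fusion.Replacement.exists_normalized hS hp
    (fun A => A ∈ Set.image (fun A : Subgroup ↥D => A.map D.subtype) (Cfsg.maxAbelianSubgroups ↥D))
    (by rintro A ⟨A', hA', rfl⟩; haveI := hA'.1; infer_instance) (fun A x hA hx => ?_) h0
  obtain ⟨A', hA', rfl⟩ := hA
  have hle : CfsgLib.Fusion.Replacement.star (A'.map D.subtype) x ≤ D :=
    CfsgLib.Fusion.Replacement.star_le_normal (Subgroup.map_subtype_le A') x
  refine ⟨(CfsgLib.Fusion.Replacement.star (A'.map D.subtype) x).subgroupOf D, ⟨?_, fun C hC => ?_⟩,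
    Subgroup.map_subgroupOf_eq_of_le hle⟩
  · haveI := hx.star_comm
    infer_instance
  · rw [Nat.card_congr (Subgroup.subgroupOfEquivOfLe hle).toEquiv, hx.card_star,
      Subgroup.card_map_of_injective D.subtype_injective]
    exact hA'.2 C hC

end Cfsg.Agent.S0651
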