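import Cfsg.Statements.S0655
import Cfsg.Agent.Lib.Fusion.Thompson

set_option autoImplicit false
open Cfsg
open scoped commutatorElement

namespace Cfsg.Agent.S0655

/-- In a p-group the intersection of all elementary abelian subgroups of largest order is the subgroup generated by the elements of order dividing p in the centre (equivalently the centralizer) of the elementary-version Thompson subgroup. -/
theorem result {S : Type*} [Group S] [Finite S] {p : ℕ} [Fact p.Prime] (hS : IsPGroup p S) : sInf (Cfsg.maxElementaryAbelianSubgroups p S) = Cfsg.omegaCenterThompson p S ∧ Cfsg.omegaCenterThompson p S = Cfsg.omegaOne p (Subgroup.centralizer (Cfsg.thompsonSubgroup p S : Set S)) := by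
  obtain ⟨A₀, hA₀⟩ := CfsgLib.Fusion.Thompson.exists_maxEA (p := p) (G := S)
  have h1 : sInf (Cfsg.maxElementaryAbelianSubgroups p S) ≤ Cfsg.omegaCenterThompson p S := by
    intro x hx
    rw [Subgroup.mem_sInf] at hx
    refine Subgroup.subset_closure ⟨⟨le_sSup hA₀ (hx A₀ hA₀), ?_⟩, hA₀.1.2 x (hx A₀ hA₀)⟩
    have : Cfsg.thompsonSubgroup p S ≤ Subgroup.centralizer {x} :=
      sSup_le fun A hA a ha => Subgroup.mem_centralizer_singleton_iff.mpr
        (CfsgLib.Fusion.Thompson.mul_comm_of_isEA hA.1 ha (hx A hA))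
    exact fun a ha => Subgroup.mem_centralizer_singleton_iff.mp (this ha)
  have h2 : Cfsg.omegaCenterThompson p S ≤
      Cfsg.omegaOne p (Subgroup.centralizer (Cfsg.thompsonSubgroup p S : Set S)) :=
    Subgroup.closure_mono fun x hx => ⟨hx.1.2, hx.2⟩
  have h3 : Cfsg.omegaOne p (Subgroup.centralizer (Cfsg.thompsonSubgroup p S : Set S)) ≤
      sInf (Cfsg.maxElementaryAbelianSubgroups p S) :=
    le_sInf fun A hA => (Subgroup.closure_le _).mpr fun x hx =>
      CfsgLib.Fusion.Thompson.mem_of_mem_centralizer_thompson hA hx.1 hx.2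
  exact ⟨le_antisymm h1 (h2.trans h3), le_antisymm h2 (h3.trans h1)⟩


end Cfsg.Agent.S0655
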