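import Cfsg.Statements.S0657
import Cfsg.Agent.Lib.Fusion.SL2Sections
-- import your own Cfsg.Agent.* helpers here

set_option autoImplicit false
open Cfsg

namespace Cfsg.Agent.S0657

/-- For odd p, a group that fails to be p-stable modulo its largest normal subgroup of order prime to p, and whose upper p-series does not stop there, has a section isomorphic to SL(2, p). -/
theorem result {G : Type*} [Group G] [Finite G] {p : ℕ} [Fact p.Prime] (hp : p ≠ 2) (hO : Cfsg.pPrimeCore p G < Cfsg.pPrimePCore p G) (hns : ¬ Cfsg.IsPStable p (G ⧸ Cfsg.pPrimeCore p G)) : ∃ (K L : Subgroup G) (hL : (L.subgroupOf K).Normal), K ≤ ⊤ ∧ Nonempty ((K ⧸ L.subgroupOf K) ≃* Matrix.SpecialLinearGroup (Fin 2) (ZMod p)) := by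
  by_contra hno
  have hfree : ¬ CfsgLib.Fusion.SL2Sections.HasSL2Section p G := by
    rintro ⟨L, f, hf⟩
    obtain ⟨K, L', hn, -, he⟩ := CfsgLib.Fusion.QuadSection.exists_section (H := (⊤ : Subgroup G))
      (L.comap (⊤ : Subgroup G).subtype) (f.comp ((⊤ : Subgroup G).subtype.subgroupComap L))
      (hf.comp fun y => ⟨⟨⟨(y : G), trivial⟩, y.2⟩, rfl⟩)
    exact hno ⟨K, L', hn, le_top, he⟩
  haveI : (Cfsg.pPrimeCore p G).Normal := Subgroup.sSup_normal _ fun _ h => h.1
  refine hns (CfsgLib.Fusion.SL2Sections.isPStable_of_free hp ?_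
    CfsgLib.Components.pPrimeCore_quotient_eq_bot ?_)
  · exact fun h => hfree (h.of_surjective (QuotientGroup.mk' _) (QuotientGroup.mk'_surjective _))
  · intro e
    refine hO.not_ge fun x hx => ?_
    rw [Cfsg.pPrimePCore, Subgroup.mem_comap] at hx
    rw [e, Subgroup.mem_bot] at hx
    exact (QuotientGroup.eq_one_iff x).mp hx

end Cfsg.Agent.S0657
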