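import Cfsg.Statements.S0658
import Cfsg.Agent.Lib.Fusion.GlaubermanThompson

set_option autoImplicit false
open Cfsg

namespace Cfsg.Agent.S0658

/-- In a group of characteristic p type all of whose p-locals are p-stable (p odd), the normalizer of Z(J(P)) contains the normalizer of every nontrivial subgroup of the Sylow p-subgroup P. -/
theorem result {G : Type*} [Group G] [Finite G] {p : ℕ} [Fact p.Prime] (hp : p ≠ 2) (hloc : ∀ Q : Subgroup G, IsPGroup p Q → Q ≠ ⊥ → Cfsg.pPrimeCore p ↥(Subgroup.normalizer (Q : Set G)) = ⊥ ∧ Cfsg.IsPConstrained p ↥(Subgroup.normalizer (Q : Set G)) ∧ Cfsg.IsPStable p ↥(Subgroup.normalizer (Q : Set G))) (P : Sylow p G) (Q : Subgroup G) (hQP : Q ≤ (P : Subgroup G)) (hQ1 : Q ≠ ⊥) : Subgroup.normalizer (Q : Set G) ≤ Subgroup.normalizer (Cfsg.centerThompsonAOf ((P : Subgroup G)) : Set G) := by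
  set m := Nat.card (P : Subgroup G) with hmdef
  have hm : Odd m := CfsgLib.Fusion.ZJBridge.odd_card_sylow hp P
  have hpm : p ∣ m := by
    obtain ⟨k, hk⟩ := IsPGroup.iff_card.mp P.isPGroup'
    rw [hmdef, hk]
    refine dvd_pow_self p fun h0 => hQ1 (le_bot_iff.mp (hQP.trans (le_of_eq ?_)))
    exact Subgroup.card_eq_one.mp (by rw [hk, h0, pow_zero])
  rw [CfsgLib.Fusion.ZJBridge.centerThompsonAOf_eq_Z (CfsgLib.Fusion.ZJBridge.sylow_pow_card P)]
  set L := Subgroup.normalizer (CfsgLib.Fusion.ZJGeneral.Z m (P : Subgroup G) : Set G) with hL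
  have hPL : (P : Subgroup G) ≤ L :=
    Subgroup.le_normalizer.trans (CfsgLib.Fusion.ZJGeneral.normalizer_le_normalizer_Z _)
  -- every local lies in the normalizer of `Z(J)` of a Sylow subgroup of it
  have hlocal : ∀ X : Subgroup G, IsPGroup p X → X ≠ ⊥ → ∀ S : Sylow p ↥(Subgroup.normalizer (X : Set G)),
      Subgroup.normalizer (X : Set G) ≤ Subgroup.normalizer (CfsgLib.Fusion.ZJGeneral.Z m
        ((S : Subgroup ↥(Subgroup.normalizer (X : Set G))).map
          (Subgroup.normalizer (X : Set G)).subtype) : Set G) := by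
    intro X hX hX1 S
    obtain ⟨hO, hc, hs⟩ := hloc X hX hX1
    have h := CfsgLib.Fusion.ZJConstrained.sup_normalizer_eq_top hp hm hc hs S
    rw [hO, bot_sup_eq] at h
    have h2 := Subgroup.le_normalizer_map (Subgroup.normalizer (X : Set G)).subtype
      (H := CfsgLib.Fusion.ZJGeneral.Z m (S : Subgroup ↥(Subgroup.normalizer (X : Set G))))
    rwa [h, ← CfsgLib.Fusion.ZJConstrained.Z_map_inj _ (Subgroup.subtype_injective _),
      ← MonoidHom.range_eq_map, Subgroup.range_subtype] at h2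
  suffices main : ∀ n : ℕ, ∀ X : Subgroup G, X ≤ (P : Subgroup G) → X ≠ ⊥ →
      m - Nat.card ↥((P : Subgroup G) ⊓ Subgroup.normalizer (X : Set G)) = n →
      Subgroup.normalizer (X : Set G) ≤ L from main _ Q hQP hQ1 rfl
  intro n
  induction n using Nat.strong_induction_on with
  | _ n ih =>
  intro X hXP hX1 hn
  set N := Subgroup.normalizer (X : Set G) with hN
  set T := (P : Subgroup G) ⊓ N with hT
  have hXp : IsPGroup p X := P.isPGroup'.to_le hXP
  have hXT : X ≤ T := le_inf hXP Subgroup.le_normalizer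
  have hTp : IsPGroup p T := P.isPGroup'.to_le inf_le_left
  obtain ⟨S, hTS⟩ := (hTp.comap_subtype (K := N)).exists_le_sylow
  set S₀ := (S : Subgroup N).map N.subtype with hS₀
  have hS₀p : IsPGroup p S₀ := S.isPGroup'.map _
  have hTS₀ : T ≤ S₀ := by
    have h := Subgroup.map_mono (f := N.subtype) hTS
    rwa [Subgroup.map_comap_eq_self (by rw [Subgroup.range_subtype]; exact inf_le_right)] at h
  have hS₀N : S₀ ≤ N := Subgroup.map_subtype_le _
  by_cases hTP : T = (P : Subgroup G)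
  · have hSP : S₀ = (P : Subgroup G) := P.3 hS₀p (hTP ▸ hTS₀)
    have h := hlocal X hXp hX1 S
    rwa [← hS₀, hSP] at h
  have hlt : T < (P : Subgroup G) := lt_of_le_of_ne inf_le_left hTP
  have hgrow := CfsgLib.Coprime.lt_normalizer_inf_of_lt P.isPGroup' hlt
  have hTm : Nat.card T < m := by
    by_contra hge
    exact hlt.ne (Subgroup.eq_of_le_of_card_ge hlt.le (not_lt.mp hge))
  have hT1 : T ≠ ⊥ := fun e => hX1 (le_bot_iff.mp (e ▸ hXT))
  -- a subgroup with a larger normalizer in `P` is already controlled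
  have hbig : ∀ Y : Subgroup G, Y ≤ (P : Subgroup G) → Y ≠ ⊥ →
      Nat.card T < Nat.card ↥((P : Subgroup G) ⊓ Subgroup.normalizer (Y : Set G)) →
      Subgroup.normalizer (Y : Set G) ≤ L := fun Y hY hY1 hlt' =>
    ih _ (by omega) Y hY hY1 rfl
  have hcard2 : Nat.card T < Nat.card ↥((P : Subgroup G) ⊓ Subgroup.normalizer (T : Set G)) := by
    by_contra hge
    exact hgrow.ne (Subgroup.eq_of_le_of_card_ge hgrow.le (not_lt.mp hge))
  have hNT : Subgroup.normalizer (T : Set G) ≤ L := hbig T inf_le_left hT1 hcard2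
  by_cases hS : S₀ = T
  · have h := hlocal X hXp hX1 S
    rw [← hS₀, hS] at h
    refine h.trans (hbig _ ((CfsgLib.Fusion.ZJGeneral.Z_le T).trans inf_le_left)
      (CfsgLib.Fusion.GlaubermanThompson.zFunZ.Z_ne_bot hpm hTp hT1) (lt_of_lt_of_le hcard2 ?_))
    exact Subgroup.card_le_of_le
      (inf_le_inf_left _ (CfsgLib.Fusion.ZJGeneral.normalizer_le_normalizer_Z T))
  -- enlarge `T` inside `L`
  have hgrow2 := CfsgLib.Coprime.lt_normalizer_inf_of_lt hS₀p (lt_of_le_of_ne hTS₀ (Ne.symm hS))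
  set T₁ := S₀ ⊓ L with hT₁
  have hTT₁ : T < T₁ := lt_of_lt_of_le hgrow2 (inf_le_inf_left _ hNT)
  have hT₁p : IsPGroup p T₁ := hS₀p.to_le inf_le_left
  obtain ⟨R, hR⟩ := (hT₁p.comap_subtype (K := L)).exists_le_sylow
  obtain ⟨l, hl⟩ := MulAction.exists_smul_eq L R (P.subtype hPL)
  have hconj : ∀ y ∈ T₁, (l : G) * y * (l : G)⁻¹ ∈ (P : Subgroup G) := by
    intro y hy
    have h1 : (⟨y, hy.2⟩ : L) ∈ (R : Subgroup L) := hR hy
    have h2 : l * ⟨y, hy.2⟩ * l⁻¹ ∈ ((P.subtype hPL : Sylow p L) : Subgroup L) := by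
      rw [← hl, Sylow.coe_subgroup_smul]
      exact ⟨_, h1, rfl⟩
    exact h2
  set c := (MulAut.conj (l : G)).toMonoidHom with hc
  have hXT₁ : X ≤ T₁ := hXT.trans hTT₁.le
  have hX'P : X.map c ≤ (P : Subgroup G) := by
    rintro _ ⟨y, hy, rfl⟩
    exact hconj y (hXT₁ hy)
  have hX'1 : X.map c ≠ ⊥ := by
    rw [Ne, Subgroup.map_eq_bot_iff_of_injective _ (MulAut.conj (l : G)).injective]
    exact hX1
  have hN' : N.map c ≤ Subgroup.normalizer ((X.map c : Subgroup G) : Set G) :=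
    Subgroup.le_normalizer_map _
  have hlt' : Nat.card T < Nat.card ↥((P : Subgroup G) ⊓ Subgroup.normalizer ((X.map c : Subgroup G) : Set G)) := by
    have h1 : T₁.map c ≤ (P : Subgroup G) ⊓ Subgroup.normalizer ((X.map c : Subgroup G) : Set G) := by
      refine le_inf ?_ ((Subgroup.map_mono (inf_le_left.trans hS₀N)).trans hN')
      rintro _ ⟨y, hy, rfl⟩
      exact hconj y hy
    refine lt_of_lt_of_le ?_ (Subgroup.card_le_of_le h1)
    rw [Subgroup.card_map_of_injective (MulAut.conj (l : G)).injective]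
    by_contra hge
    exact hTT₁.ne (Subgroup.eq_of_le_of_card_ge hTT₁.le (not_lt.mp hge))
  have hX'L := hbig _ hX'P hX'1 hlt'
  intro y hy
  have hy' : (l : G) * y * (l : G)⁻¹ ∈ L := hX'L (hN' ⟨y, hy, rfl⟩)
  have := L.mul_mem (L.mul_mem (L.inv_mem l.2) hy') l.2
  simpa [mul_assoc] using this

end Cfsg.Agent.S0658
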