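import Cfsg.Statements.S0659
import Cfsg.Agent.Lib.Fusion.GlaubermanThompson

set_option autoImplicit false
open Cfsg

namespace Cfsg.Agent.S0659

/-- Glauberman's normal p-complement Theorem with the abelian-version Thompson subgroup: for odd p, G has a normal p-complement whenever the normalizer of Z(J(P)) does. -/
theorem result {G : Type*} [Group G] [Finite G] {p : ℕ} [Fact p.Prime] (hp : p ≠ 2) (P : Sylow p G) (hN : Cfsg.HasNormalPComplement p ↥(Subgroup.normalizer (Cfsg.centerThompsonAOf ((P : Subgroup G)) : Set G))) : Cfsg.HasNormalPComplement p G := by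
  by_cases hd : p ∣ Nat.card (P : Subgroup G)
  · refine CfsgLib.Fusion.GlaubermanThompson.npc_aux
      (CfsgLib.Fusion.GlaubermanThompson.zFunZ hp (Nat.card (P : Subgroup G))
        (CfsgLib.Fusion.ZJBridge.odd_card_sylow hp P) hd) hp _ G rfl P ?_
    show Cfsg.HasNormalPComplement p _
    rw [CfsgLib.Fusion.ZJBridge.centerThompsonAOf_eq_Z (CfsgLib.Fusion.ZJBridge.sylow_pow_card P)] at hN
    exact hN
  · have hP : (P : Subgroup G) = ⊥ := by
      obtain ⟨k, hk⟩ := IsPGroup.iff_card.mp P.isPGroup'
      rcases Nat.eq_zero_or_pos k with rfl | hk0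
      · exact Subgroup.card_eq_one.mp (by simpa using hk)
      · exact absurd (hk ▸ dvd_pow_self p hk0.ne') hd
    have htop : Subgroup.normalizer (Cfsg.centerThompsonAOf ((P : Subgroup G)) : Set G) = ⊤ := by
      have h0 : Cfsg.centerThompsonAOf ((P : Subgroup G)) = ⊥ := le_bot_iff.mp
        (inf_le_left.trans ((Subgroup.map_subtype_le _).trans hP.le))
      rw [h0, Subgroup.normalizer_eq_top]
    rw [htop] at hN
    exact (CfsgLib.Fusion.Basic.npc_congr Subgroup.topEquiv).mp hN

end Cfsg.Agent.S0659
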