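import Cfsg.Statements.S0660
import Mathlib

set_option autoImplicit false
open Cfsg
open scoped IsMulCommutative

namespace Cfsg.Agent.S0660

/-- Under a coprime action on an abelian group, an invariant subgroup that is complemented admits an invariant complement. -/
theorem result {G : Type*} [Group G] [Finite G] (V A U : Subgroup G) (hVab : IsMulCommutative V) (hAV : A ≤ Subgroup.normalizer (V : Set G)) (hcop : (Nat.card A).Coprime (Nat.card V)) (hUV : U ≤ V) (hAU : A ≤ Subgroup.normalizer (U : Set G)) (W : Subgroup G) (hWV : W ≤ V) (hUW : U ⊓ W = ⊥) (hUWV : U ⊔ W = V) : ∃ W' : Subgroup G, W' ≤ V ∧ A ≤ Subgroup.normalizer (W' : Set G) ∧ U ⊓ W' = ⊥ ∧ U ⊔ W' = V := by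
  haveI := hVab
  haveI : Fintype A := Fintype.ofFinite A
  let U' : Subgroup V := U.subgroupOf V
  let W₀ : Subgroup V := W.subgroupOf V
  have hdisj : ∀ x : V, x ∈ U' → x ∈ W₀ → x = 1 := fun x hx hy => Subtype.ext
    (Subgroup.mem_bot.mp (hUW ▸ Subgroup.mem_inf.mpr ⟨hx, hy⟩ : (x : G) ∈ (⊥ : Subgroup G)))
  let f : U' × W₀ →* V := U'.subtype.coprod W₀.subtype
  have hsup : U' ⊔ W₀ = ⊤ := by
    rw [← Subgroup.subgroupOf_sup hUV hWV, hUWV, Subgroup.subgroupOf_self]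
  have hf : Function.Bijective f := by
    refine ⟨fun x y h => ?_, fun v => ?_⟩
    · have h' : (x.1 : V) * x.2 = y.1 * y.2 := h
      have h1 : (y.1 : V)⁻¹ * x.1 = y.2 * (x.2 : V)⁻¹ := by
        rw [inv_mul_eq_iff_eq_mul, ← mul_assoc, ← h', mul_inv_cancel_right]
      have h2 : (y.1 : V)⁻¹ * x.1 = 1 := hdisj _ (mul_mem (inv_mem y.1.2) x.1.2)
        (by rw [h1]; exact mul_mem y.2.2 (inv_mem x.2.2))
      have h3 : (x.1 : V) = y.1 := (inv_mul_eq_one.mp h2).symm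
      rw [h3] at h'
      exact Prod.ext (Subtype.ext h3) (Subtype.ext (mul_left_cancel h'))
    · obtain ⟨u, hu, w, hw, huw⟩ := Subgroup.mem_sup.mp (hsup ▸ Subgroup.mem_top v : v ∈ U' ⊔ W₀)
      exact ⟨(⟨u, hu⟩, ⟨w, hw⟩), huw⟩
  let e : U' × W₀ ≃* V := MulEquiv.ofBijective f hf
  let π : V →* V := U'.subtype.comp ((MonoidHom.fst U' W₀).comp e.symm.toMonoidHom)
  have hπu : ∀ v, v ∈ U' → π v = v := by
    intro v hv
    have h : e (⟨v, hv⟩, 1) = v := by
      show v * ((1 : W₀) : V) = v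
      rw [Subgroup.coe_one, mul_one]
    show ((e.symm v).1 : V) = v
    rw [show e.symm v = (⟨v, hv⟩, 1) from (e.symm_apply_eq).mpr h.symm]
  let φ : A → (V →* V) := fun a => MonoidHom.mk'
    (fun v => ⟨(a : G) * v * (a : G)⁻¹, (Subgroup.mem_normalizer_iff.mp (hAV a.2) _).mp v.2⟩)
    fun x y => Subtype.ext (by simp [mul_assoc])
  have hφU : ∀ (a : A) (v : V), v ∈ U' → φ a v ∈ U' :=
    fun a v hv => (Subgroup.mem_normalizer_iff.mp (hAU a.2) _).mp hv
  have hφm : ∀ (a b : A) (v : V), φ (a * b) v = φ a (φ b v) := fun a b v => Subtype.ext (by simp [φ, mul_assoc])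
  let P : V →* V := ∏ a : A, (φ a).comp (π.comp (φ a⁻¹))
  have hP : ∀ v, P v = ∏ a : A, φ a (π (φ a⁻¹ v)) := fun v => by simp [P, MonoidHom.finsetProd_apply]
  have hPU : ∀ v, P v ∈ U' := fun v => by
    rw [hP]; exact Subgroup.prod_mem _ fun a _ => hφU a _ ((e.symm _).1).2
  have hPu : ∀ v, v ∈ U' → P v = v ^ Nat.card A := fun v hv => by
    rw [hP, Finset.prod_congr rfl (fun a _ => show φ a (π (φ a⁻¹ v)) = v by
      rw [hπu _ (hφU a⁻¹ v hv), ← hφm, mul_inv_cancel]; exact Subtype.ext (by simp [φ])),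
      Finset.prod_const, Finset.card_univ, Nat.card_eq_fintype_card]
  have hPb : ∀ (b : A) (v : V), P (φ b v) = φ b (P v) := fun b v => by
    rw [hP, hP, map_prod]
    refine (Fintype.prod_equiv (Equiv.mulLeft b) _ _ fun a => ?_).symm
    show φ b (φ a (π (φ a⁻¹ v))) = φ (b * a) (π (φ (b * a)⁻¹ (φ b v)))
    rw [← hφm, ← hφm (b * a)⁻¹ b v, mul_inv_rev, inv_mul_cancel_right]
  refine ⟨P.ker.map V.subtype, Subgroup.map_subtype_le _, ?_, ?_, ?_⟩
  · rw [Subgroup.le_normalizer_iff]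
    rintro a ha _ ⟨v, hv, rfl⟩
    exact ⟨φ ⟨a, ha⟩ v, by rw [SetLike.mem_coe, MonoidHom.mem_ker, hPb, MonoidHom.mem_ker.mp hv, map_one], rfl⟩
  · rw [eq_bot_iff]
    rintro _ ⟨hxU, v, hv, rfl⟩
    have h1 : v ^ Nat.card A = 1 := by rw [← hPu v hxU]; exact hv
    have h2 : orderOf v ∣ 1 := hcop.gcd_eq_one ▸
      Nat.dvd_gcd (orderOf_dvd_of_pow_eq_one h1) (orderOf_dvd_natCard v)
    rw [Nat.dvd_one, orderOf_eq_one_iff] at h2
    simp [h2]
  · refine le_antisymm (sup_le hUV (Subgroup.map_subtype_le _)) fun x hx => ?_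
    obtain ⟨m, hm⟩ := exists_pow_eq_self_of_coprime (x := P ⟨x, hx⟩)
      (hcop.coprime_dvd_right (orderOf_dvd_natCard _))
    set u := (P ⟨x, hx⟩) ^ m with hu
    have huU : u ∈ U' := pow_mem (hPU _) m
    have hPu' : P u = P ⟨x, hx⟩ := by
      rw [hPu u huU, hu, ← pow_mul, mul_comm, pow_mul]
      exact hm
    have hker : u⁻¹ * ⟨x, hx⟩ ∈ P.ker := by rw [MonoidHom.mem_ker, map_mul, map_inv, hPu', inv_mul_cancel]
    rw [show x = (u : G) * ((u : G)⁻¹ * x) by group]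
    exact mul_mem (Subgroup.mem_sup_left huU) (Subgroup.mem_sup_right ⟨_, hker, rfl⟩)

end Cfsg.Agent.S0660
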