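import Cfsg.Statements.S0666
import Cfsg.Agent.Lib.FrobRealize.Theorem
-- import your own Cfsg.Agent.* helpers here

set_option autoImplicit false
open Cfsg

namespace Cfsg.Agent.S0666

/-- A Frobenius group acting on a nontrivial abelian group of order prime to that of its kernel, with the kernel acting without nontrivial fixed points, has a complement with a nontrivial fixed point. -/
theorem result {G : Type*} [Group G] [Finite G] (V F : Subgroup G) (hVab : IsMulCommutative V) (hV1 : V ≠ ⊥) (hFV : F ≤ Subgroup.normalizer (V : Set G)) (H : Subgroup ↥F) (hH : Cfsg.IsFrobeniusComplement H) (hcop : (Nat.card V).Coprime (Nat.card (Cfsg.frobeniusKernel H))) (hCK : V ⊓ Subgroup.centralizer (Subtype.val '' Cfsg.frobeniusKernel H : Set G) = ⊥) : V ⊓ Subgroup.centralizer ((H.map F.subtype : Subgroup G) : Set G) ≠ ⊥ := by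
  intro hCH
  classical
  obtain ⟨N, hNset, hNn, hcompl⟩ := CfsgLib.FrobRealize.exists_normal_kernel hH
  rw [← hNset] at hcop hCK
  haveI := Fintype.ofFinite F
  have hVc : ∀ u v : V, u * v = v * u := fun u v => hVab.is_comm.comm u v
  let _ : CommGroup V := { (inferInstance : Group V) with mul_comm := hVc }
  let φ : F →* AddMonoid.End (Additive V) :=
    { toFun := fun g => MonoidHom.toAdditive
        (Subgroup.normalizerMonoidHom V (Subgroup.inclusion hFV g)).toMonoidHom
      map_one' := by
        refine AddMonoidHom.ext fun v => ?_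
        apply Additive.toMul.injective
        refine Subtype.ext ?_
        show (1 : G) * ((Additive.toMul v : V) : G) * (1 : G)⁻¹ = ((Additive.toMul v : V) : G)
        simp
      map_mul' := fun g h => by
        refine AddMonoidHom.ext fun v => ?_
        apply Additive.toMul.injective
        refine Subtype.ext ?_
        show ((g : G) * h) * ((Additive.toMul v : V) : G) * ((g : G) * h)⁻¹ =
          (g : G) * ((h : G) * ((Additive.toMul v : V) : G) * (h : G)⁻¹) * (g : G)⁻¹
        group }
  -- the sum over a subgroup without fixed points vanishes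
  have hzero : ∀ (D : Subgroup F),
      V ⊓ Subgroup.centralizer (Subtype.val '' (D : Set F) : Set G) = ⊥ →
      ∀ v : Additive V, ∑ d : D, φ (d : F) v = 0 := by
    intro D hD v
    set S := ∑ e : D, φ (e : F) v with hS
    have hfix : ∀ d : D, φ d S = S := by
      intro d
      rw [hS, map_sum]
      refine Fintype.sum_equiv (Equiv.mulLeft d) _ _ fun e => ?_
      show φ d (φ (e : F) v) = φ ((d : F) * (e : F)) v
      rw [map_mul]
      rfl
    have h3 : ((Additive.toMul S : V) : G) ∈
        V ⊓ Subgroup.centralizer (Subtype.val '' (D : Set F) : Set G) := by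
      refine ⟨(Additive.toMul S : V).2, Subgroup.mem_centralizer_iff.2 ?_⟩
      rintro _ ⟨d, hd, rfl⟩
      have h2 : (d : G) * ((Additive.toMul S : V) : G) * (d : G)⁻¹ = (Additive.toMul S : V) :=
        congrArg (fun w : Additive V => ((Additive.toMul w : V) : G)) (hfix ⟨d, hd⟩)
      exact mul_inv_eq_iff_eq_mul.1 h2
    rw [hD, Subgroup.mem_bot] at h3
    exact Additive.toMul.injective (Subtype.ext h3)
  have hH0 := hzero H (by
    rw [Subgroup.coe_map] at hCH
    exact hCH)
  have hN0 := hzero N hCK
  refine hV1 ((Subgroup.eq_bot_iff_forall _).2 fun v hv => ?_)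
  set w : Additive V := Additive.ofMul ⟨v, hv⟩ with hw
  have hsum : ∑ c : H, ∑ b : N, φ ((b : F) * c * (b : F)⁻¹) w = 0 := by
    rw [Finset.sum_comm]
    refine Finset.sum_eq_zero fun b _ => ?_
    have h2 := congrArg (φ (b : F)) (hH0 (φ ((b : F)⁻¹) w))
    rw [map_zero, map_sum] at h2
    rw [← h2]
    refine Finset.sum_congr rfl fun c _ => ?_
    rw [map_mul, map_mul]
    rfl
  rw [Finset.sum_eq_single (1 : H)] at hsum
  · simp only [OneMemClass.coe_one, mul_one, mul_inv_cancel, map_one, Finset.sum_const,
      Finset.card_univ, ← Nat.card_eq_fintype_card] at hsum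
    have h1 : Nat.card N • w = 0 := hsum
    have h2 : (⟨v, hv⟩ : V) ^ Nat.card N = 1 := congrArg Additive.toMul h1
    exact congrArg Subtype.val (orderOf_eq_one_iff.1
      (Nat.eq_one_of_dvd_coprimes hcop (orderOf_dvd_natCard _) (orderOf_dvd_of_pow_eq_one h2)))
  · intro c _ hc
    have hmem : ∀ b : N, (b : F) * c * (b : F)⁻¹ * (c : F)⁻¹ ∈ N := fun b => by
      have h2 := mul_mem b.2 (hNn.conj_mem _ (inv_mem b.2) (c : F))
      simpa [mul_assoc] using h2
    let f : N → N := fun b => ⟨_, hmem b⟩
    have hf : Function.Bijective f := Finite.injective_iff_bijective.1 fun a b hab => by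
      have e : (a : F) * c * (a : F)⁻¹ * (c : F)⁻¹ = (b : F) * c * (b : F)⁻¹ * (c : F)⁻¹ :=
        congrArg Subtype.val hab
      rw [mul_left_inj] at e
      have hmemH : ((b : F)⁻¹ * (a : F))⁻¹ * (c : F) * ((b : F)⁻¹ * (a : F)) ∈ H := by
        have e2 : ((b : F)⁻¹ * (a : F))⁻¹ * (c : F) * ((b : F)⁻¹ * (a : F)) = c := by
          calc _ = (a : F)⁻¹ * ((b : F) * c * (b : F)⁻¹) * a := by group
            _ = (a : F)⁻¹ * ((a : F) * c * (a : F)⁻¹) * a := by rw [← e]
            _ = _ := by group
        rw [e2]
        exact c.2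
      have hgH := CfsgLib.FrobRealize.Kernel.mem_of_mem_conj hH c.2
        (fun h => hc (Subtype.ext h)) hmemH
      have h1 := Subgroup.disjoint_def.1 hcompl.disjoint
        (N.mul_mem (N.inv_mem b.2) a.2) hgH
      exact (inv_mul_eq_one.1 (Subtype.ext h1 : b⁻¹ * a = 1)).symm
    calc ∑ b : N, φ ((b : F) * c * (b : F)⁻¹) w
        = ∑ b : N, φ ((f b : N) : F) (φ (c : F) w) := by
          refine Finset.sum_congr rfl fun b _ => ?_
          show φ ((b : F) * c * (b : F)⁻¹) w =
            φ ((b : F) * c * (b : F)⁻¹ * (c : F)⁻¹) (φ (c : F) w)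
          conv_lhs => rw [← inv_mul_cancel_right ((b : F) * c * (b : F)⁻¹) (c : F), map_mul]
          rfl
      _ = ∑ b : N, φ ((b : N) : F) (φ (c : F) w) :=
          hf.sum_comp (fun b => φ ((b : N) : F) (φ (c : F) w))
      _ = 0 := hN0 _
  · intro h
    exact absurd (Finset.mem_univ _) h

end Cfsg.Agent.S0666
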