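import Cfsg.Statements.S0668
import Cfsg.Agent.Lib.Perm.PermRep

set_option autoImplicit false
open Cfsg

namespace Cfsg.Agent.S0668

/-- The equivariant linear maps between the permutation modules of two finite `G`-sets form a space whose dimension is the number of `G`-orbits on the product of the two sets. -/
theorem result {G : Type*} [Group G] {K : Type*} [Field K] {Ω₁ Ω₂ : Type*} [Fintype Ω₁] [Fintype Ω₂] [MulAction G Ω₁] [MulAction G Ω₂] : Module.finrank K ((Cfsg.permRep K G Ω₁).linHom (Cfsg.permRep K G Ω₂)).invariants = Nat.card (MulAction.orbitRel.Quotient G (Ω₁ × Ω₂)) := by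
  classical
  have : Finite (MulAction.orbitRel.Quotient G (Ω₁ × Ω₂)) := Quotient.finite _
  letI : Fintype (MulAction.orbitRel.Quotient G (Ω₁ × Ω₂)) := Fintype.ofFinite _
  set S := ((Cfsg.permRep K G Ω₁).linHom (Cfsg.permRep K G Ω₂)).invariants with hS
  have hinv : ∀ (f : (Ω₁ → K) →ₗ[K] (Ω₂ → K)), f ∈ S → ∀ (g : G) (a : Ω₁) (b : Ω₂),
      f (Pi.single (g • a) 1) (g • b) = f (Pi.single a 1) b := by
    intro f hf g a b
    have h := congrArg (fun φ : (Ω₁ → K) →ₗ[K] (Ω₂ → K) => φ (Pi.single (g • a) 1) (g • b)) (hf g)
    simp only [Representation.linHom_apply, LinearMap.coe_comp, Function.comp_apply,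
      CfsgLib.Perm.PermRep.permRep_apply, CfsgLib.Perm.PermRep.permRep_single,
      inv_smul_smul] at h
    exact h.symm
  let toFun : S → (MulAction.orbitRel.Quotient G (Ω₁ × Ω₂) → K) := fun f q =>
    Quotient.liftOn' q (fun x => f.1 (Pi.single x.1 1) x.2) (by
      rintro x y ⟨g, rfl⟩
      exact hinv f.1 f.2 g y.1 y.2)
  let e : S ≃ₗ[K] (MulAction.orbitRel.Quotient G (Ω₁ × Ω₂) → K) :=
    { toFun := toFun
      map_add' := fun f g => funext fun q => Quotient.inductionOn' q fun x => rfl
      map_smul' := fun c f => funext fun q => Quotient.inductionOn' q fun x => rfl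
      invFun := fun c => ⟨{ toFun := fun v b => ∑ a, c (Quotient.mk'' (a, b)) * v a
                            map_add' := fun v w => funext fun b => by
                              simp [mul_add, Finset.sum_add_distrib]
                            map_smul' := fun r v => funext fun b => by
                              simp [Finset.mul_sum, mul_left_comm] }, by
          intro g
          refine LinearMap.ext fun v => funext fun b => ?_
          simp only [Representation.linHom_apply, LinearMap.coe_comp, Function.comp_apply,
            CfsgLib.Perm.PermRep.permRep_apply, LinearMap.coe_mk, AddHom.coe_mk, inv_inv]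
          refine Fintype.sum_equiv (MulAction.toPerm g) _ _ fun a => ?_
          simp only [MulAction.toPerm_apply]
          congr 2
          exact Quotient.sound' ⟨g⁻¹, by simp⟩⟩
      left_inv := fun f => by
        apply Subtype.ext
        refine (Pi.basisFun K Ω₁).ext fun a => funext fun b => ?_
        simp only [Pi.basisFun_apply, LinearMap.coe_mk, AddHom.coe_mk]
        rw [Finset.sum_eq_single a]
        · simp only [Pi.single_eq_same, mul_one]
          rfl
        · intro x _ hx
          rw [Pi.single_eq_of_ne hx, mul_zero]
        · intro h; exact absurd (Finset.mem_univ a) h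
      right_inv := fun c => funext fun q => Quotient.inductionOn' q fun x => by
        change ∑ a, c (Quotient.mk'' (a, x.2)) * (Pi.single x.1 1 : Ω₁ → K) a = _
        rw [Finset.sum_eq_single x.1]
        · simp
        · intro y _ hy
          rw [Pi.single_eq_of_ne hy, mul_zero]
        · intro h; exact absurd (Finset.mem_univ _) h }
  rw [LinearEquiv.finrank_eq e, Module.finrank_fintype_fun_eq_card, Nat.card_eq_fintype_card]

end Cfsg.Agent.S0668
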