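import Cfsg.Statements.S0669


set_option autoImplicit false
open Cfsg

namespace Cfsg.Agent.S0669

/-- The rank of a transitive action: orbits on ordered pairs correspond to orbits of a point stabiliser. -/
theorem result {G : Type*} [Group G] {Ω : Type*} [Finite Ω] [MulAction G Ω] [MulAction.IsPretransitive G Ω] (a : Ω) : Nat.card (MulAction.orbitRel.Quotient G (Ω × Ω)) = Nat.card (MulAction.orbitRel.Quotient (MulAction.stabilizer G a) Ω) := by
  symm
  let f : MulAction.orbitRel.Quotient (MulAction.stabilizer G a) Ω →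
      MulAction.orbitRel.Quotient G (Ω × Ω) := fun q =>
    Quotient.liftOn' q (fun x => Quotient.mk'' (a, x)) (by
      rintro x y ⟨h, rfl⟩
      refine Quotient.sound' ⟨(h : G), ?_⟩
      change ((h : G) • a, (h : G) • y) = (a, (h : G) • y)
      rw [MulAction.mem_stabilizer_iff.mp h.2])
  refine Nat.card_congr (Equiv.ofBijective f ⟨?_, ?_⟩)
  · intro q r
    refine Quotient.inductionOn₂' q r fun x y h => ?_
    obtain ⟨g, hg⟩ := Quotient.exact' h
    have h1 : g • a = a := congrArg Prod.fst hg
    exact Quotient.sound' ⟨⟨g, h1⟩, congrArg Prod.snd hg⟩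
  · intro q
    refine Quotient.inductionOn' q fun z => ?_
    obtain ⟨g, hg⟩ := MulAction.exists_smul_eq G z.1 a
    refine ⟨Quotient.mk'' (g • z.2), Quotient.sound' ⟨g, ?_⟩⟩
    change (g • z.1, g • z.2) = (a, g • z.2)
    rw [hg]

end Cfsg.Agent.S0669
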