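import Cfsg.Statements.S0677
import Mathlib
import Cfsg.Agent.S0675
import Cfsg.Agent.Lib.Frobenius.PrimeDegreeInverting

set_option autoImplicit false
open Cfsg
open scoped Pointwise

namespace Cfsg.Agent.S0677

/-- In a transitive permutation group of prime degree `p` whose Sylow `p`-normaliser has even order, the point stabilisers are the only subgroups of index `p`. -/
theorem result {α : Type*} [Fintype α] [DecidableEq α] {p : ℕ} [Fact p.Prime] (hα : Fintype.card α = p) (G : Subgroup (Equiv.Perm α)) [MulAction.IsPretransitive G α] (P : Sylow p G) (heven : Even (Nat.card (Subgroup.normalizer ((P : Subgroup G) : Set G)))) (H : Subgroup G) (hH : H.index = p) : ∃ a : α, H = MulAction.stabilizer G a := by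
  classical
  have hp : p.Prime := Fact.out
  have hα' : Nat.card α = p := by rw [Nat.card_eq_fintype_card]; exact hα
  haveI hne : Nonempty α := Fintype.card_pos_iff.mp (hα ▸ hp.pos)
  obtain ⟨a0⟩ := id hne
  have hstab : ∀ a : α, (MulAction.stabilizer G a).index = p := fun a => by
    rw [MulAction.index_stabilizer_of_transitive G a, hα']
  have hcardH : Nat.card G = Nat.card H * p := by rw [← H.card_mul_index, hH]
  have heq : ∀ a : α, H ≤ MulAction.stabilizer G a → H = MulAction.stabilizer G a := fun a hle => by
    refine Subgroup.eq_of_le_of_card_ge hle ?_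
    have h1 := (MulAction.stabilizer G a).card_mul_index
    rw [hstab a, hcardH] at h1
    exact (Nat.eq_of_mul_eq_mul_right hp.pos h1).le
  have hdiv : Nat.card G ∣ p.factorial := by
    rw [← hα', ← Nat.card_perm]; exact Subgroup.card_subgroup_dvd_card G
  have hpH : ¬ p ∣ Nat.card H := by
    intro hd
    have h3 : p * p ∣ p.factorial := (Nat.mul_dvd_mul_right hd p).trans (hcardH ▸ hdiv)
    rw [← Nat.mul_factorial_pred hp.ne_zero] at h3
    have h4 := Nat.dvd_of_mul_dvd_mul_left hp.pos h3
    rw [hp.dvd_factorial] at h4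
    have := hp.two_le
    omega
  by_cases hp2 : p = 2
  · refine ⟨a0, heq a0 ?_⟩
    have h1 : Nat.card H ∣ 1 := by
      have h5 : Nat.card H * p ∣ 1 * p := by
        rw [← hcardH, one_mul]; subst hp2; simpa using hdiv
      exact Nat.dvd_of_mul_dvd_mul_right hp.pos h5
    rw [Subgroup.card_eq_one.mp (Nat.dvd_one.mp h1)]
    exact bot_le
  have hp3 : 3 ≤ p := by have := hp.two_le; omega
  obtain ⟨s, t, e, hPs, hs, hes, het⟩ :=
    CfsgLib.Frobenius.PrimeDegree.exists_coord_neg hα hp3 G P heven
  have hesn : ∀ (n : ℕ) (x : α), e (s ^ n • x) = e x + n := fun n => by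
    induction n with
    | zero => simp
    | succ n ih => intro x; rw [pow_succ', mul_smul, hes, ih]; push_cast; ring
  have hext : ∀ g g' : G, (∀ x, e (g • x) = e (g' • x)) → g = g' := fun g g' h =>
    Subtype.ext (Equiv.ext fun x => e.injective (h x))
  by_cases hsolv : Group.IsSolvable G
  · -- affine case
    have hPnorm : (P : Subgroup G).Normal := by
      haveI : Nontrivial G := ⟨s, 1, fun h => hp.one_lt.ne' (by rw [← hs, h, orderOf_one])⟩
      haveI := hsolv
      obtain ⟨A, hA, hAn, hAc⟩ : ∃ A : Subgroup G, A ≠ ⊥ ∧ A.Normal ∧ IsMulCommutative A := by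
        have hex : ∃ n, derivedSeries G n = ⊥ := hsolv.solvable
        obtain ⟨m, hm⟩ : ∃ m, Nat.find hex = m + 1 := ⟨Nat.find hex - 1, by
          have : Nat.find hex ≠ 0 := fun h0 => by
            have := Nat.find_spec hex
            rw [h0, derivedSeries_zero] at this
            exact bot_ne_top this.symm
          omega⟩
        refine ⟨derivedSeries G m, Nat.find_min hex (by omega), derivedSeries_normal G m, ⟨⟨fun u v => ?_⟩⟩⟩
        have h0 : derivedSeries G (m + 1) = ⊥ := hm ▸ Nat.find_spec hex
        rw [derivedSeries_succ, Subgroup.commutator_eq_bot_iff_le_centralizer] at h0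
        exact Subtype.ext (h0 v.2 u u.2).symm |>.symm
      haveI := hAn
      haveI : MulAction.IsPreprimitive G α :=
        MulAction.IsPreprimitive.of_prime_card (hα' ▸ hp)
      have hfix : ∀ x : G, (∀ a : α, x • a = a) → x = 1 := fun x hx =>
        Subtype.ext (Equiv.ext hx)
      have htr : MulAction.IsPretransitive A α := by
        refine MulAction.IsQuasiPreprimitive.isPretransitive_of_normal (G := G) fun hu => hA ?_
        refine A.eq_bot_iff_forall.mpr fun x hx => hfix x fun a => ?_
        have h5 : a ∈ MulAction.fixedPoints A α := hu ▸ Set.mem_univ a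
        exact h5 ⟨x, hx⟩
      have hreg : MulAction.stabilizer A a0 = ⊥ := by
        refine (MulAction.stabilizer A a0).eq_bot_iff_forall.mpr fun x hx => ?_
        refine Subtype.ext (hfix x fun a => ?_)
        obtain ⟨y, rfl⟩ := MulAction.exists_smul_eq A a0 a
        have hxy : (x : A) * y = y * x := hAc.1.comm x y
        change x • y • a0 = y • a0
        rw [smul_smul, hxy, mul_smul, MulAction.mem_stabilizer_iff.mp hx]
      have hAcard : Nat.card A = p := by
        have := (MulAction.stabilizer A a0).index_mul_card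
        rw [hreg, Subgroup.card_bot, mul_one, ← hreg,
          MulAction.index_stabilizer_of_transitive A a0, hα'] at this
        exact this.symm
      have hPcard : Nat.card (P : Subgroup G) = p := by rw [hPs, Nat.card_zpowers, hs]
      have hAP : A ≤ (P : Subgroup G) := by
        obtain ⟨Q, hQ⟩ := (IsPGroup.of_card (n := 1) (by rw [hAcard, pow_one]) : IsPGroup p A).exists_le_sylow
        obtain ⟨g, hg⟩ := MulAction.exists_smul_eq G Q P
        intro x hx
        rw [← hg]
        have h6 : g⁻¹ * x * g⁻¹⁻¹ ∈ A := hAn.conj_mem x hx g⁻¹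
        refine ⟨g⁻¹ * x * g⁻¹⁻¹, hQ h6, ?_⟩
        simp [mul_assoc]
      have hAeq : A = (P : Subgroup G) := Subgroup.eq_of_le_of_card_ge hAP (by rw [hAcard, hPcard])
      exact hAeq ▸ hAn
    have haff : ∀ h : G, ∃ a b : ZMod p, ∀ x, e (h • x) = a * e x + b := fun h => by
      have hmem : h * s * h⁻¹ ∈ Subgroup.zpowers s :=
        hPs ▸ hPnorm.conj_mem s (hPs ▸ Subgroup.mem_zpowers s) h
      obtain ⟨a, ha⟩ : ∃ a : ℕ, s ^ a = h * s * h⁻¹ := mem_powers_iff_mem_zpowers.mpr hmem
      refine ⟨a, e (h • e.symm 0), fun x => ?_⟩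
      have hcast : ((e x).val : ZMod p) = e x := ZMod.natCast_zmod_val (e x)
      have hx : x = s ^ (e x).val • e.symm 0 := e.injective (by rw [hesn, e.apply_symm_apply, hcast, zero_add])
      have key : h • x = s ^ (a * (e x).val) • h • e.symm 0 := by
        rw [pow_mul, ha, conj_pow, mul_smul, mul_smul, inv_smul_smul, ← hx]
      rw [key, hesn]
      push_cast
      rw [hcast]
      ring
    choose A B hAB using haff
    have hA : ∀ g : G, ∀ a b : ZMod p, (∀ x, e (g • x) = a * e x + b) → A g = a := fun g a b hab => by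
      have h0 := (hAB g (e.symm 0)).symm.trans (hab (e.symm 0))
      have h1 := (hAB g (e.symm 1)).symm.trans (hab (e.symm 1))
      simp only [Equiv.apply_symm_apply, mul_zero, zero_add, mul_one] at h0 h1
      rwa [h0, add_left_inj] at h1
    let φ : H →* ZMod p :=
      { toFun := fun h => A h
        map_one' := hA 1 1 0 fun x => by simp
        map_mul' := fun g g' => hA _ _ (A g * B g' + B g) fun x => by
          change e (((g : G) * g') • x) = _
          rw [mul_smul, hAB, hAB]; ring }
    have hker : φ.toHomUnits.ker = ⊥ := by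
      refine φ.toHomUnits.ker.eq_bot_iff_forall.mpr fun h hh => ?_
      have h1 : A h = 1 := congrArg Units.val (MonoidHom.mem_ker.mp hh)
      have heqs : (h : G) = s ^ (B h).val := hext _ _ fun x => by
        rw [hesn, ZMod.natCast_zmod_val, hAB, h1, one_mul]
      have hsp : s ^ p = 1 := by
        have h7 := pow_orderOf_eq_one s
        rwa [hs] at h7
      have hhp : (h : G) ^ p = 1 := by
        rw [heqs, ← pow_mul, mul_comm, pow_mul, hsp, one_pow]
      rcases (Nat.dvd_prime hp).mp (orderOf_dvd_of_pow_eq_one hhp) with h2 | h2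
      · exact Subtype.ext (orderOf_eq_one_iff.mp h2)
      · exact absurd (h2 ▸ (Subgroup.orderOf_coe h).symm ▸ orderOf_dvd_natCard h) hpH
    haveI : IsCyclic H := isCyclic_of_injective φ.toHomUnits ((MonoidHom.ker_eq_bot_iff _).mp hker)
    obtain ⟨g, hg⟩ := IsCyclic.exists_generator (α := H)
    by_cases hA1 : A g = 1
    · have : g = 1 := by
        have : g ∈ φ.toHomUnits.ker := MonoidHom.mem_ker.mpr (Units.ext hA1)
        rwa [hker, Subgroup.mem_bot] at this
      refine ⟨a0, heq a0 fun h hh => ?_⟩
      have h8 := hg ⟨h, hh⟩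
      rw [this, Subgroup.zpowers_one_eq_bot, Subgroup.mem_bot] at h8
      rw [show h = 1 from congrArg Subtype.val h8]
      exact one_mem _
    · let q := e.symm (B g / (1 - A g))
      refine ⟨q, heq q fun h hh => ?_⟩
      have h8 := hg ⟨h, hh⟩
      have hgq : (g : G) • q = q := e.injective (by
        rw [hAB, e.apply_symm_apply]
        have : (1 : ZMod p) - A g ≠ 0 := sub_ne_zero.mpr (Ne.symm hA1)
        field_simp
        ring)
      obtain ⟨k, hk⟩ := h8
      rw [MulAction.mem_stabilizer_iff, show h = (g : G) ^ k from (congrArg Subtype.val hk).symm]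
      exact (Subgroup.zpowers_le.mpr (MulAction.mem_stabilizer_iff.mpr hgq)
        (⟨k, rfl⟩ : (g : G) ^ k ∈ Subgroup.zpowers (g : G)) : _)
  have h2t : MulAction.IsMultiplyPretransitive G α 2 :=
    (Cfsg.Agent.S0675.result (hα ▸ hp) G).resolve_left hsolv
  exact CfsgLib.Frobenius.PrimeDegree.exists_eq_stabilizer G h2t H hpH s t e hs hes het (fun n => hesn n) heq hH

end Cfsg.Agent.S0677
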