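import Cfsg.Statements.S0678
import Mathlib
import Cfsg.Agent.S0675
import Cfsg.Agent.S0676
import Cfsg.Agent.Lib.SmallGroups.Simplicity
import Cfsg.Agent.Lib.Frobenius.PrimeDegreeInverting

set_option autoImplicit false
open Cfsg

namespace Cfsg.Agent.S0678

/-- A non-solvable transitive permutation group on 7 points that does not contain the alternating group is a simple group of order 168. -/
theorem result {α : Type*} [Fintype α] [DecidableEq α] (hα : Fintype.card α = 7) (G : Subgroup (Equiv.Perm α)) [MulAction.IsPretransitive G α] (hG : ¬ Group.IsSolvable G) (hA : ¬ alternatingGroup α ≤ G) : Nat.card G = 168 ∧ IsSimpleGroup G := by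
  classical
  haveI hp7 : Fact (Nat.Prime 7) := ⟨by decide⟩
  haveI : Fact (Nat.Prime 2) := ⟨Nat.prime_two⟩
  have hα' : Nat.card α = 7 := by rw [Nat.card_eq_fintype_card]; exact hα
  obtain ⟨a₀⟩ : Nonempty α := Fintype.card_pos_iff.mp (by omega)
  have hdiv : Nat.card G ∣ 5040 := by
    have := G.card_subgroup_dvd_card
    rwa [Nat.card_perm, hα', show Nat.factorial 7 = 5040 by rfl] at this
  have h7 : 7 ∣ Nat.card G := hα' ▸ (by
    haveI : Nonempty α := ⟨a₀⟩
    exact CfsgLib.Perm.Basic.card_dvd_card (G := G) (Ω := α))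
  -- no large proper subgroup
  have hidx : Nat.card G * 7 ≤ 5040 := by
    by_contra hlt
    apply hA
    have hc := G.card_mul_index
    rw [Nat.card_perm, hα', show Nat.factorial 7 = 5040 by rfl] at hc
    have hi : G.index ≤ 6 := by
      by_contra hi
      have h5 := Nat.mul_le_mul_left (Nat.card G) (show 7 ≤ G.index by omega)
      omega
    haveI : G.normalCore.Normal := G.normalCore_normal
    refine (Equiv.Perm.alternatingGroup_le_of_normal (by omega) (N := G.normalCore) ?_).trans G.normalCore_le
    rw [Subgroup.nontrivial_iff_ne_bot, Subgroup.normalCore_eq_ker]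
    intro hk
    have hinj : Function.Injective (MulAction.toPermHom (Equiv.Perm α) (Equiv.Perm α ⧸ G)) :=
      (MonoidHom.ker_eq_bot_iff _).mp hk
    have h6 := Nat.card_le_card_of_injective _ hinj
    rw [Nat.card_perm, Nat.card_perm, hα', ← G.index_eq_card, show Nat.factorial 7 = 5040 by rfl] at h6
    have h8 : Nat.factorial G.index ≤ Nat.factorial 6 := Nat.factorial_le hi
    rw [show Nat.factorial 6 = 720 by rfl] at h8
    omega
  let P : Sylow 7 G := Classical.arbitrary _
  have hPc : Nat.card (P : Subgroup G) = 7 := by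
    rw [P.card_eq_multiplicity]
    have h2 : (Nat.card G).factorization 7 ≤ 1 := by
      by_contra hlt
      have h3 : 7 ^ 2 ∣ 5040 :=
        ((pow_dvd_pow 7 (by omega : 2 ≤ (Nat.card G).factorization 7)).trans
          (Nat.ordProj_dvd _ _)).trans hdiv
      norm_num at h3
    have h5 := (Nat.Prime.dvd_iff_one_le_factorization hp7.out Nat.card_pos.ne').mp h7
    rw [show (Nat.card G).factorization 7 = 1 by omega, pow_one]
  haveI : IsCyclic (P : Subgroup G) := isCyclic_of_prime_card hPc
  let N := Subgroup.normalizer ((P : Subgroup G) : Set G)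
  have hnn : ¬ (P : Subgroup G).Normal := by
    intro hn
    obtain ⟨s, hs⟩ := IsCyclic.exists_ofOrder_eq_natCard (α := (P : Subgroup G))
    have hPtr := CfsgLib.Perm.Basic.sylow_isPretransitive (f := 1) (Ω := α) (by rw [hα', pow_one]) P
    -- the kernel of the conjugation action is `P`
    let φ : G →* MulAut (P : Subgroup G) := MulAut.conjNormal
    have hcomm : ∀ u v : MulAut (P : Subgroup G), u * v = v * u :=
      CfsgLib.Frobenius.PrimeDegree.mulAut_comm (P : Subgroup G)
    haveI hsolvAut : Group.IsSolvable (MulAut (P : Subgroup G)) := Group.isSolvable_of_comm hcomm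
    have hker : φ.ker ≤ (P : Subgroup G) := by
      intro g hg
      have hc : ∀ x : (P : Subgroup G), g * x = (x : G) * g := fun x => by
        have h9 := congrArg Subtype.val (DFunLike.congr_fun (MonoidHom.mem_ker.mp hg) x)
        simp [φ, MulAut.conjNormal_apply] at h9
        exact mul_inv_eq_iff_eq_mul.mp h9
      obtain ⟨y, hy⟩ := MulAction.exists_smul_eq (P : Subgroup G) a₀ (g • a₀)
      have hgy : g = (y : G) := Subtype.ext (Equiv.ext fun a => by
        obtain ⟨x, rfl⟩ := MulAction.exists_smul_eq (P : Subgroup G) a₀ a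
        have hxy : (x : G) * y = (y : G) * x := by
          obtain ⟨i, rfl⟩ := (mem_powers_iff_mem_zpowers.mpr
            (mem_zpowers_of_prime_card hPc (fun h => by rw [h, orderOf_one, hPc] at hs; omega) : x ∈ Subgroup.zpowers s))
          obtain ⟨j, rfl⟩ := (mem_powers_iff_mem_zpowers.mpr
            (mem_zpowers_of_prime_card hPc (fun h => by rw [h, orderOf_one, hPc] at hs; omega) : y ∈ Subgroup.zpowers s))
          simp only [Subgroup.coe_pow, ← pow_add, add_comm]
        change g • (x : G) • a₀ = (y : G) • (x : G) • a₀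
        rw [smul_smul, hc, mul_smul, ← hy, smul_smul, ← hxy, mul_smul]
        rfl)
      rw [hgy]; exact y.2
    haveI : Group.IsSolvable (P : Subgroup G) := by
      haveI := P.isPGroup'.isNilpotent
      infer_instance
    exact hG (Group.isSolvable_of_ker_le_range (P : Subgroup G).subtype φ (by
      rw [Subgroup.range_subtype]; exact hker))
  have hns : Nat.card (Sylow 7 G) ≡ 1 [MOD 7] := card_sylow_modEq_one 7 G
  have hnN : Nat.card (Sylow 7 G) = N.index := P.card_eq_index_normalizer
  have hGN : Nat.card N * N.index = Nat.card G := N.card_mul_index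
  have hPN : (P : Subgroup G) ≤ N := Subgroup.le_normalizer
  have hn1 : N.index ≠ 1 := fun h => hnn (Subgroup.normalizer_eq_top_iff.mp (Subgroup.index_eq_one.mp h))
  let d := (P : Subgroup G).relIndex N
  have hNd : Nat.card N = 7 * d := by
    have h := ((P : Subgroup G).subgroupOf N).card_mul_index
    rw [Nat.card_congr (Subgroup.subgroupOfEquivOfLe hPN).toEquiv, hPc] at h
    exact h.symm
  have hd6 : d ∣ 6 := CfsgLib.Frobenius.PrimeDegree.relIndex_dvd G hα' P hPc
  -- `d` is not `1`
  have hd1 : d ≠ 1 := by
    intro hd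
    have hle : N ≤ Subgroup.centralizer ((P : Subgroup G) : Set G) := by
      have hNP : N ≤ (P : Subgroup G) := Subgroup.relIndex_eq_one.mp hd
      exact hNP.trans (Subgroup.le_centralizer (P : Subgroup G))
    have hK := MonoidHom.ker_transferSylow_isComplement' P hle
    have hndvd := MonoidHom.not_dvd_card_ker_transferSylow P hle
    haveI : MulAction.IsPreprimitive G α := MulAction.IsPreprimitive.of_prime_card (hα' ▸ hp7.out)
    by_cases hbot : (MonoidHom.transferSylow P hle).ker = ⊥
    · rw [hbot] at hK
      exact hnn (by rw [Subgroup.isComplement'_bot_left.mp hK]; infer_instance)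
    · apply hndvd
      have h := CfsgLib.SmallGroups.Simplicity.card_dvd_card_normal_of_primitive (X := α) _ inferInstance hbot
      rwa [hα'] at h
  -- an even `d` gives triple transitivity
  have h210 : Even d → 210 ∣ Nat.card G := by
    intro he
    have h3 := Cfsg.Agent.S0676.result hα G hG P (by rw [hNd]; exact he.mul_left 7)
    obtain ⟨e⟩ : Nonempty (Fin 3 ↪ α) := Function.Embedding.nonempty_of_card_le (by simp [hα])
    have := @CfsgLib.Perm.Basic.card_dvd_card G _ (Fin 3 ↪ α) _ h3 ⟨e⟩
    rwa [Nat.card_eq_fintype_card, Fintype.card_embedding_eq, hα, Fintype.card_fin,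
      show (7 : ℕ).descFactorial 3 = 210 by rfl] at this
  have h4 : ¬ (Nat.card G % 4 = 2) ∧ ¬ Odd (Nat.card G) := by
    have hodd : ∀ H : Subgroup (Equiv.Perm α), Odd (Nat.card H) → H ≤ G →
        MulAction.IsPretransitive H α → Group.IsSolvable H := by
      intro H hodd _ htr
      rcases Cfsg.Agent.S0675.result (hα ▸ hp7.out) H with h | h
      · exact h
      · exfalso
        obtain ⟨e⟩ : Nonempty (Fin 2 ↪ α) := Function.Embedding.nonempty_of_card_le (by simp [hα])
        have h2 := @CfsgLib.Perm.Basic.card_dvd_card H _ (Fin 2 ↪ α) _ h ⟨e⟩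
        rw [Nat.card_eq_fintype_card, Fintype.card_embedding_eq, hα, Fintype.card_fin,
          show (7 : ℕ).descFactorial 2 = 42 by rfl] at h2
        exact Nat.not_even_iff_odd.mpr hodd (even_iff_two_dvd.mpr ((show 2 ∣ 42 by decide).trans h2))
    refine ⟨fun h4 => ?_, fun ho => hG (hodd G ho le_rfl inferInstance)⟩
    let S : Sylow 2 G := Classical.arbitrary _
    have hSc : Nat.card (S : Subgroup G) = 2 := by
      rw [S.card_eq_multiplicity]
      have h2 : (Nat.card G).factorization 2 ≤ 1 := by
        by_contra hlt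
        have h3 : 2 ^ 2 ∣ Nat.card G :=
          (pow_dvd_pow 2 (by omega : 2 ≤ (Nat.card G).factorization 2)).trans (Nat.ordProj_dvd _ _)
        omega
      have h5 := (Nat.Prime.dvd_iff_one_le_factorization Nat.prime_two Nat.card_pos.ne').mp
        (show 2 ∣ Nat.card G by omega)
      rw [show (Nat.card G).factorization 2 = 1 by omega, pow_one]
    have hScyc : IsCyclic (S : Subgroup G) := isCyclic_of_prime_card hSc
    have hmin : (Nat.card G).minFac = 2 := (Nat.minFac_eq_two_iff _).mpr (by omega)
    have hK := IsCyclic.isComplement' hmin hScyc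
    set K := (MonoidHom.transferSylow S (IsCyclic.normalizer_le_centralizer hmin hScyc)).ker with hKdef
    have hKc : Nat.card K * 2 = Nat.card G := hSc ▸ hK.card_mul
    haveI hKn : K.Normal := MonoidHom.normal_ker _
    haveI : MulAction.IsPreprimitive G α := MulAction.IsPreprimitive.of_prime_card (hα' ▸ hp7.out)
    have hKtr : MulAction.IsPretransitive K α := by
      refine MulAction.IsQuasiPreprimitive.isPretransitive_of_normal (G := G) fun hu => ?_
      have hbot : K = ⊥ := K.eq_bot_iff_forall.mpr fun g hg => Subtype.ext (Equiv.ext fun a => by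
        have hy : a ∈ MulAction.fixedPoints K α := hu ▸ Set.mem_univ a
        exact hy ⟨g, hg⟩)
      rw [hbot, Subgroup.card_bot] at hKc
      omega
    let K' : Subgroup (Equiv.Perm α) := K.map G.subtype
    have htr' : MulAction.IsPretransitive K' α := ⟨fun a b => by
      obtain ⟨g, hg⟩ := MulAction.exists_smul_eq K a b
      exact ⟨⟨_, Subgroup.mem_map_of_mem _ g.2⟩, hg⟩⟩
    have hcK : Nat.card K' = Nat.card K := Subgroup.card_map_of_injective G.subtype_injective
    have hs := hodd K' (by rw [hcK, Nat.odd_iff]; omega) (Subgroup.map_subtype_le K) htr'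
    haveI : Group.IsSolvable K :=
      Group.isSolvable_of_isSolvable_injective (f := (K.equivMapOfInjective _ G.subtype_injective).toMonoidHom)
        (MulEquiv.injective _)
    haveI : Group.IsSolvable (S : Subgroup G) :=
      Group.isSolvable_of_comm (IsCyclic.commGroup (α := (S : Subgroup G))).mul_comm
    exact hG (Group.isSolvable_of_ker_le_range K.subtype (MonoidHom.transferSylow S (IsCyclic.normalizer_le_centralizer hmin hScyc))
      (by rw [Subgroup.range_subtype]))
  -- only order `168` survives
  have hm7 : N.index % 7 = 1 := by rw [← hnN]; exact hns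
  have hcard : Nat.card G = 7 * d * N.index := by rw [← hGN, hNd]
  have hkey : d = 3 ∧ Nat.card G = 168 := by
    have hdivd : 7 * d * N.index ∣ 5040 := hcard ▸ hdiv
    have hnle : N.index ≤ 720 := by
      have : 7 * N.index ∣ 7 * 720 := ((Nat.mul_dvd_mul_right (dvd_mul_right 7 d) N.index).trans hdivd).trans (by norm_num)
      exact Nat.le_of_dvd (by norm_num) (Nat.dvd_of_mul_dvd_mul_left (by norm_num) this)
    have hn720 : N.index ∣ 720 := by
      have : 7 * N.index ∣ 7 * 720 := ((Nat.mul_dvd_mul_right (dvd_mul_right 7 d) N.index).trans hdivd).trans (by norm_num)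
      exact Nat.dvd_of_mul_dvd_mul_left (by norm_num) this
    have hn : N.index = 8 ∨ N.index = 15 ∨ N.index = 36 ∨ N.index = 120 := by
      have key : ∀ n ∈ Nat.divisors 720, n % 7 = 1 → n ≠ 1 → n = 8 ∨ n = 15 ∨ n = 36 ∨ n = 120 := by
        decide +kernel
      exact key _ (Nat.mem_divisors.mpr ⟨hn720, by norm_num⟩) hm7 hn1
    have hd : d = 2 ∨ d = 3 ∨ d = 6 := by
      have key : ∀ n ∈ Nat.divisors 6, n ≠ 1 → n = 2 ∨ n = 3 ∨ n = 6 := by decide +kernel
      exact key _ (Nat.mem_divisors.mpr ⟨hd6, by norm_num⟩) hd1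
    obtain ⟨h4a, h4b⟩ := h4
    rw [Nat.odd_iff] at h4b
    rw [hcard] at hidx h4a h4b ⊢
    rw [hcard] at h210
    rcases hd with hd | hd | hd <;> rcases hn with hn | hn | hn | hn <;> simp only [hd, hn] at hdivd hidx h4a h4b h210 ⊢ <;>
      first
        | trivial
        | omega
        | exact absurd hdivd (by decide)
        | exact absurd (h210 (by decide)) (by decide)
  obtain ⟨hd3, h168⟩ := hkey
  exact ⟨h168, CfsgLib.SmallGroups.Simplicity.isSimple_of_prime_degree (X := α) hα' P hPc hnn
    (by rw [show (P : Subgroup G).relIndex (Subgroup.normalizer ((P : Subgroup G) : Set G)) = 3 from hd3]; decide)⟩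

end Cfsg.Agent.S0678
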