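import Mathlib
import Cfsg.Agent.Lib.Perm.DegreeEleven.Main
import Cfsg.Statements.S0679

set_option autoImplicit false
open Cfsg

namespace Cfsg.Agent.S0679

open Equiv MulAction CfsgLib.Perm.DegreeEleven

variable {α : Type*} [Fintype α] [DecidableEq α]

/-- Such a group consists of even permutations. -/
theorem le_alternating {G : Subgroup (Perm α)} (h : Ctx G) (hns : ¬ Group.IsSolvable G) :
    G ≤ alternatingGroup α := by
  classical
  by_contra hev
  haveI := h.prim
  haveI := h.prim.toIsPretransitive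
  obtain ⟨s, hsG, hs⟩ := SetLike.not_le_iff_exists.1 hev
  let σ : G →* ℤˣ := Perm.sign.comp G.subtype
  set G₀ := G ⊓ alternatingGroup α with hG₀
  have hker : ∀ g : G, g ∈ σ.ker ↔ (g : Perm α) ∈ G₀ :=
    fun g => ⟨fun hg => ⟨g.2, hg⟩, fun hg => hg.2⟩
  have hmap : σ.ker.map G.subtype = G₀ := by
    ext g
    exact ⟨fun ⟨w, hw, e⟩ => e ▸ (hker w).1 hw, fun hg => ⟨⟨g, hg.1⟩, (hker ⟨g, hg.1⟩).2 hg, rfl⟩⟩
  have hcard : Nat.card G = 2 * Nat.card G₀ := by
    have h1 := σ.ker.index_mul_card
    rw [Subgroup.index_ker, MonoidHom.range_eq_top.2 (fun u => ?_), Subgroup.card_top,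
      ← Subgroup.card_map_of_injective G.subtype_injective (K := σ.ker), hmap] at h1
    · rw [← h1, Nat.card_eq_fintype_card (α := ℤˣ), Fintype.card_units_int]
    · rcases Int.units_eq_one_or u with rfl | rfl
      · exact ⟨1, map_one σ⟩
      · exact ⟨⟨s, hsG⟩, (Int.units_eq_one_or _).resolve_left hs⟩
  have hns₀ : ¬ Group.IsSolvable G₀ := by
    intro hsol
    haveI : Group.IsSolvable σ.ker :=
      Group.isSolvable_of_isSolvable_injective (f := ((σ.ker.equivMapOfInjective _ G.subtype_injective).trans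
        (MulEquiv.subgroupCongr hmap)).toMonoidHom) (MulEquiv.injective _)
    exact hns (Group.isSolvable_of_ker_le_range σ.ker.subtype σ (by rw [Subgroup.range_subtype]))
  have hne : σ.ker ≠ ⊥ := by
    intro hb
    have : Subsingleton G₀ := by
      rw [← hmap, hb, Subgroup.map_bot]
      infer_instance
    exact hns₀ (Group.isSolvable_of_comm fun a b => Subsingleton.elim _ _)
  haveI : IsPretransitive σ.ker α := by
    refine IsQuasiPreprimitive.isPretransitive_of_normal (G := G) fun hu => hne ?_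
    refine (Subgroup.eq_bot_iff_forall _).2 fun g hg => Subtype.ext (Perm.ext fun a => ?_)
    have hy : a ∈ fixedPoints σ.ker α := hu ▸ Set.mem_univ a
    exact hy ⟨g, hg⟩
  haveI htr₀ : IsPretransitive G₀ α := ⟨fun a b => by
    obtain ⟨g, hg⟩ := exists_smul_eq σ.ker a b
    exact ⟨⟨_, (hker g.1).1 g.2⟩, hg⟩⟩
  have h₀ : Ctx G₀ := ⟨h.card,
    IsPreprimitive.of_prime_card (by rw [Nat.card_eq_fintype_card, h.card]; norm_num),
    fun hle => h.notAlt (hle.trans inf_le_left)⟩
  have hord := h₀.order_even hns₀ inf_le_right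
  -- the normaliser in the whole group has order 110
  obtain ⟨P⟩ : Nonempty (Sylow 11 G) := inferInstance
  obtain ⟨d, hd, hN, hGc⟩ := normalizer_data h.card P
  have hd10 : d = 10 := by
    have hn : Nat.card (Sylow 11 G) % 11 = 1 := card_sylow_modEq_one 11 G
    have key : ∀ d ∈ (10 : ℕ).divisors, d = 10 ∨ (∀ n ∈ ({120 / d, 1440 / d} : Finset ℕ), n % 11 ≠ 1) := by
      decide +kernel
    refine (key d (Nat.mem_divisors.2 ⟨hd, by norm_num⟩)).resolve_right fun hk => hk _ ?_ hn
    have hd0 : 0 < d := Nat.pos_of_dvd_of_pos hd (by norm_num)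
    simp only [Finset.mem_insert, Finset.mem_singleton]
    rcases hord with ⟨-, e⟩ | ⟨-, e⟩
    · left; rw [show 120 = d * Nat.card (Sylow 11 G) by rw [hcard, e, mul_assoc] at hGc; omega,
        Nat.mul_div_cancel_left _ hd0]
    · right; rw [show 1440 = d * Nat.card (Sylow 11 G) by rw [hcard, e, mul_assoc] at hGc; omega,
        Nat.mul_div_cancel_left _ hd0]
  have h3 := Cfsg.Agent.S0676.result h.card G hns P (by rw [hN, hd10]; decide)
  have h990 := descFactorial_dvd (k := 3) h.card (by norm_num) h3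
  obtain ⟨hn₀, hG₀c⟩ : Nat.card (Sylow 11 G₀) = 144 ∧ Nat.card G₀ = 7920 := by
    refine hord.resolve_left fun ⟨_, e⟩ => ?_
    rw [hcard, e] at h990
    norm_num [Nat.descFactorial] at h990
  have h4₀ := h₀.four_pretransitive hns₀ inf_le_right hG₀c hn₀
  obtain ⟨x⟩ : Nonempty (Fin 4 ↪ α) := Function.Embedding.nonempty_of_card_le (by simp [h.card])
  have h4 : IsMultiplyPretransitive G α 4 := ⟨fun y z => by
    obtain ⟨g, hg⟩ := @exists_smul_eq G₀ _ _ h4₀ y z
    exact ⟨⟨g, g.2.1⟩, hg⟩⟩
  have hstab : ∀ y : Fin 4 ↪ α, Nat.card (stabilizer G y) = 2 := by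
    intro y
    have h1 := (stabilizer G y).index_mul_card
    rw [index_stabilizer] at h1
    erw [show orbit G y = Set.univ from Set.eq_univ_of_forall fun z => h4.exists_smul_eq y z] at h1
    rw [Set.ncard_univ, Nat.card_eq_fintype_card,
      Fintype.card_embedding_eq, h.card, Fintype.card_fin, hcard, hG₀c,
      show Nat.descFactorial 11 4 = 7920 by rfl] at h1
    rw [Nat.card_eq_fintype_card] at h1 ⊢
    omega
  obtain ⟨t, ht1, ht⟩ : ∃ t : G, t ≠ 1 ∧ t ∈ stabilizer G x := by
    by_contra hc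
    push Not at hc
    have : stabilizer G x = ⊥ := (Subgroup.eq_bot_iff_forall _).2 fun g hg => by
      by_contra hne; exact hc g hne hg
    have h2 := hstab x
    rw [this, Subgroup.card_bot] at h2
    omega
  have huniq : ∀ {y : Fin 4 ↪ α} {u : G}, u ∈ stabilizer G y → t ∈ stabilizer G y → u ≠ 1 → u = t := by
    intro y u hu hty hu1
    obtain ⟨w, hw, hwu⟩ := (Nat.card_eq_two_iff' (1 : stabilizer G y)).1 (hstab y)
    exact congrArg Subtype.val ((hwu ⟨u, hu⟩ fun e => hu1 (congrArg Subtype.val e)).trans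
      (hwu ⟨t, hty⟩ fun e => ht1 (congrArg Subtype.val e)).symm)
  have hsharp : ∀ {y : Fin 4 ↪ α} (g : Perm α), g ∈ G₀ → (∀ i, g (y i) = y i) → g = 1 := by
    intro y g hg hgy
    exact congrArg Subtype.val ((Subgroup.eq_bot_iff_forall _).1 (h₀.stabilizer_four hns₀ inf_le_right hG₀c hn₀ y)
      ⟨g, hg⟩ (Function.Embedding.ext hgy))
  have htx : ∀ i, (t : Perm α) (x i) = x i := fun i => DFunLike.congr_fun (mem_stabilizer_iff.1 ht) i
  have htsg : Perm.sign (t : Perm α) = -1 := by
    refine (Int.units_eq_one_or _).resolve_left fun e => ht1 (Subtype.ext ?_)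
    exact hsharp _ ⟨t.2, e⟩ htx
  have hto : orderOf (t : Perm α) = 2 := by
    rw [Subgroup.orderOf_coe]
    refine orderOf_eq_prime ?_ ht1
    have h5 := pow_card_eq_one' (x := (⟨t, ht⟩ : stabilizer G x))
    rw [hstab x] at h5
    exact congrArg Subtype.val h5
  obtain ⟨m, hm1, -, hms, hsg⟩ := prime_type Nat.prime_two hto
  have hfixcard : 4 + (t : Perm α).support.card ≤ 11 := by
    have h5 := Finset.card_le_card (show Finset.univ.map x ⊆ (t : Perm α).supportᶜ from fun y hy => by
      obtain ⟨i, -, rfl⟩ := Finset.mem_map.1 hy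
      exact Finset.mem_compl.2 (Perm.notMem_support.2 (htx i)))
    rw [Finset.card_map, Finset.card_univ, Fintype.card_fin, Finset.card_compl, h.card] at h5
    omega
  have hm : m = 3 := by
    rcases (show m = 1 ∨ m = 2 ∨ m = 3 by omega) with rfl | rfl | rfl
    · exact (h.no_single t.2 Nat.prime_two hto (by norm_num) (by omega)).elim
    · rw [htsg] at hsg; exact absurd hsg (by decide)
    · rfl
  subst hm
  set B := (t : Perm α).supportᶜ with hB
  have hB5 : B.card = 5 := by rw [hB, Finset.card_compl, h.card, hms]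
  have hmemB : ∀ y, y ∈ B ↔ (t : Perm α) y = y := fun y => by simp [hB]
  let e5 := (B.equivFinOfCardEq hB5).symm
  let pt : Fin 5 ↪ α := e5.toEmbedding.trans (Function.Embedding.subtype _)
  have hpt : ∀ i, (t : Perm α) (pt i) = pt i := fun i => (hmemB _).1 (e5 i).2
  have hsurj : ∀ y ∈ B, ∃ i, pt i = y := fun y hy => ⟨e5.symm ⟨y, hy⟩, by simp [pt]⟩
  let u1 : Fin 4 ↪ α := Fin.castSuccEmb.trans pt
  let u2 : Fin 4 ↪ α := (Fin.succEmb 4).trans pt
  obtain ⟨g, hg⟩ := @exists_smul_eq G₀ _ _ h4₀ u1 u2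
  set g' : G := ⟨g, g.2.1⟩
  have hgv : ∀ i : Fin 4, (g : Perm α) (pt i.castSucc) = pt i.succ := fun i => DFunLike.congr_fun hg i
  have hcomm : g' * t * g'⁻¹ = t := by
    refine huniq (y := u2) ?_ ?_ fun e => ht1 (by
      rw [mul_inv_eq_one] at e; exact mul_left_cancel (e.trans (mul_one g').symm))
    · refine Function.Embedding.ext fun i => ?_
      show (g : Perm α) ((t : Perm α) ((g : Perm α)⁻¹ (pt i.succ))) = pt i.succ
      rw [show (g : Perm α)⁻¹ (pt i.succ) = pt i.castSucc by rw [← hgv]; simp, hpt, hgv]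
    · exact Function.Embedding.ext fun i => hpt _
  have hgt : ∀ y, (g : Perm α) ((t : Perm α) y) = (t : Perm α) ((g : Perm α) y) := fun y =>
    congrArg (fun w : G => (w : Perm α) y) (mul_inv_eq_iff_eq_mul.1 hcomm)
  have hlast : (g : Perm α) (pt 4) = pt 0 := by
    obtain ⟨i, hi⟩ := hsurj ((g : Perm α) (pt 4)) ((hmemB _).2 (by rw [← hgt, hpt]))
    have hne' : ∀ j : Fin 4, i ≠ j.succ := fun j e => by
      have := (g : Perm α).injective ((hgv j).trans (e ▸ hi))
      have := pt.injective this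
      exact absurd (congrArg Fin.val this) (by simp; omega)
    rw [← hi]
    congr 1
    fin_cases i <;> first | rfl | exact absurd rfl (hne' 0) | exact absurd rfl (hne' 1) | exact absurd rfl (hne' 2) | exact absurd rfl (hne' 3)
  have hstep : ∀ i : Fin 5, (g : Perm α) (pt i) = pt (i + 1) := by
    intro i
    fin_cases i
    · exact hgv 0
    · exact hgv 1
    · exact hgv 2
    · exact hgv 3
    · exact hlast
  have hg5 : (g : Perm α) ^ 5 = 1 := hsharp (y := u1) _ (pow_mem g.2 5) fun i => by
    show ((g : Perm α) ^ 5) (pt i.castSucc) = pt i.castSucc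
    simp only [pow_succ, pow_zero, one_mul, Perm.mul_apply, hstep]
    congr 1
    exact (show ∀ j : Fin 5, j + 1 + 1 + 1 + 1 + 1 = j by decide) _
  have hgne : ∀ i, (g : Perm α) (pt i) ≠ pt i := fun i e => by
    rw [hstep] at e
    exact (show ∀ j : Fin 5, j + 1 ≠ j by decide) i (pt.injective e)
  have hgo : orderOf (g : Perm α) = 5 := by
    haveI : Fact (Nat.Prime 5) := ⟨by norm_num⟩
    exact orderOf_eq_prime hg5 fun e => hgne 0 (by rw [e]; rfl)
  obtain ⟨k, hk1, -, hks, -⟩ := prime_type (by norm_num : Nat.Prime 5) hgo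
  have hk : k = 2 := by
    have := (g : Perm α).support.card_le_univ
    rw [h.card, hks] at this
    rcases (show k = 1 ∨ k = 2 by omega) with rfl | rfl
    · exact (h.no_single g.2.1 (by norm_num) hgo le_rfl (by omega)).elim
    · rfl
  subst hk
  obtain ⟨w, hw⟩ := Finset.card_eq_one.1 (show (g : Perm α).supportᶜ.card = 1 by
    rw [Finset.card_compl, h.card, hks])
  have hwfix : (g : Perm α) w = w := Perm.notMem_support.1 (Finset.mem_compl.1 (hw ▸ Finset.mem_singleton_self w))
  have htw : (t : Perm α) w ∈ (g : Perm α).supportᶜ := by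
    rw [Finset.mem_compl, Perm.notMem_support, hgt, hwfix]
  rw [hw, Finset.mem_singleton] at htw
  obtain ⟨i, hi⟩ := hsurj w ((hmemB w).2 htw)
  exact hgne i (hi.symm ▸ hwfix)

/-- A non-solvable transitive permutation group on 11 points that does not contain the alternating group is either sharply 4-transitive (of order 7920) or isomorphic to the projective special linear group of degree 2 over the field with 11 elements. -/
theorem result {α : Type*} [Fintype α] [DecidableEq α] (hα : Fintype.card α = 11) (G : Subgroup (Equiv.Perm α)) [MulAction.IsPretransitive G α] (hG : ¬ Group.IsSolvable G) (hA : ¬ alternatingGroup α ≤ G) : (MulAction.IsMultiplyPretransitive G α 4 ∧ ∀ x : Fin 4 ↪ α, MulAction.stabilizer G x = ⊥) ∨ Nonempty (G ≃* Matrix.ProjectiveSpecialLinearGroup (Fin 2) (ZMod 11)) := by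
  have h : Ctx G := ⟨hα, IsPreprimitive.of_prime_card (by rw [Nat.card_eq_fintype_card, hα]; norm_num), hA⟩
  have hev := le_alternating h hG
  rcases h.order_even hG hev with ⟨hn, hc⟩ | ⟨hn, hc⟩
  · exact Or.inr (h.psl hc hn)
  · exact Or.inl ⟨h.four_pretransitive hG hev hc hn, h.stabilizer_four hG hev hc hn⟩

end Cfsg.Agent.S0679
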