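import Cfsg.Statements.S0680
import Cfsg.Agent.Lib.Perm.Sharp2

set_option autoImplicit false
open Cfsg

namespace Cfsg.Agent.S0680

/-- A finite sharply doubly transitive permutation group has degree a prime power `p ^ j`; a Sylow `p`-subgroup is normal, elementary abelian and regular, and consists of the identity together with the elements without fixed points. (Frobenius' Theorem is not needed.) -/
theorem result {α : Type*} [Fintype α] [DecidableEq α] (G : Subgroup (Equiv.Perm α)) [MulAction.IsMultiplyPretransitive G α 2] (hsharp : ∀ x : Fin 2 ↪ α, MulAction.stabilizer G x = ⊥) (h2 : 2 ≤ Fintype.card α) : ∃ p j : ℕ, p.Prime ∧ 1 ≤ j ∧ Fintype.card α = p ^ j ∧ ∀ (hp : Fact p.Prime) (P : Sylow p G), (P : Subgroup G).Normal ∧ IsMulCommutative (P : Subgroup G) ∧ (∀ x ∈ (P : Subgroup G), x ^ p = 1) ∧ MulAction.IsPretransitive (P : Subgroup G) α ∧ (∀ a : α, MulAction.stabilizer (P : Subgroup G) a = ⊥) ∧ ∀ g : G, g ∈ (P : Subgroup G) ↔ g = 1 ∨ ∀ a : α, g • a ≠ a := by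
  have hn : 2 ≤ Nat.card α := by rw [Nat.card_eq_fintype_card]; exact h2
  obtain ⟨p, j, K, hp, hj, hcard, hnorm, hcomm, hexp, htr, hreg, hKS, hcK, hG⟩ :=
    CfsgLib.Perm.Sharp2.structure_thm (G := G) (Ω := α) inferInstance
      (fun g a b hab ha hb => CfsgLib.Perm.Sharp2.pairwise_free hsharp hab ha hb) hn
  refine ⟨p, j, hp, hj, by rw [← Nat.card_eq_fintype_card]; exact hcard, fun hpf P => ?_⟩
  have hPK : (P : Subgroup G) = K := by
    have hKp : IsPGroup p K := IsPGroup.of_card (n := j) (hcK.trans hcard)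
    have hdiv : ¬ p ∣ Nat.card α - 1 := fun h => by
      have h1 := Nat.dvd_sub (hcard ▸ dvd_pow_self p (by omega : j ≠ 0)) h
      rw [show Nat.card α - (Nat.card α - 1) = 1 by omega] at h1
      exact hp.not_dvd_one h1
    have hidx : K.index = Nat.card α - 1 := by
      have h := K.card_mul_index
      rw [hcK, hG] at h
      exact Nat.eq_of_mul_eq_mul_left (by omega) h
    have hS : (hKp.toSylow (hidx ▸ hdiv) : Subgroup G) = K := rfl
    obtain ⟨g, hg⟩ := MulAction.exists_smul_eq G (hKp.toSylow (hidx ▸ hdiv)) P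
    rw [← hg, Sylow.coe_subgroup_smul, hS]
    exact Subgroup.Normal.conjAct hnorm (ConjAct.toConjAct g)
  rw [hPK]
  exact ⟨hnorm, hcomm, hexp, htr, hreg, hKS⟩

end Cfsg.Agent.S0680
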