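import Cfsg.Statements.S0681


set_option autoImplicit false
open Cfsg

namespace Cfsg.Agent.S0681

/-- The affine maps `x ↦ x * a + b`, `a ≠ 0`, of a near-field form a sharply doubly transitive permutation group. -/
theorem result {F : Type*} [Cfsg.NearField F] : ∃ H : Subgroup (Equiv.Perm F), (∀ σ : Equiv.Perm F, σ ∈ H ↔ ∃ a b : F, a ≠ 0 ∧ ∀ x : F, σ x = x * a + b) ∧ MulAction.IsMultiplyPretransitive H F 2 ∧ ∀ x : Fin 2 ↪ F, MulAction.stabilizer H x = ⊥ := by
  have hz : ∀ a : F, (0 : F) * a = 0 := fun a => by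
    have h := Cfsg.NearField.right_distrib (0 : F) 0 a
    rw [add_zero] at h
    exact left_eq_add.mp h
  have h01 : (0 : F) ≠ 1 := Cfsg.NearField.zero_ne_one
  have hmul : ∀ a c : F, a ≠ 0 → c ≠ 0 → a * c ≠ 0 := fun a c ha hc h => by
    obtain ⟨a', ha', ha''⟩ := Cfsg.NearField.exists_inv a ha
    have : c = 0 := by
      rw [← one_mul c, ← ha'', mul_assoc, h, Cfsg.NearField.mul_zero]
    exact hc this
  let H : Subgroup (Equiv.Perm F) :=
    { carrier := {σ | ∃ a b : F, a ≠ 0 ∧ ∀ x : F, σ x = x * a + b}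
      one_mem' := ⟨1, 0, h01.symm, fun x => by simp⟩
      mul_mem' := by
        rintro σ τ ⟨a, b, ha, hσ⟩ ⟨c, d, hc, hτ⟩
        refine ⟨c * a, d * a + b, hmul c a hc ha, fun x => ?_⟩
        rw [Equiv.Perm.mul_apply, hσ, hτ, Cfsg.NearField.right_distrib, mul_assoc, add_assoc]
      inv_mem' := by
        rintro σ ⟨a, b, ha, hσ⟩
        obtain ⟨a', ha', ha''⟩ := Cfsg.NearField.exists_inv a ha
        refine ⟨a', (-b) * a', fun h => h01 ?_, fun x => ?_⟩
        · rw [← ha', h, Cfsg.NearField.mul_zero]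
        · apply σ.injective
          rw [Equiv.Perm.inv_def, Equiv.apply_symm_apply, hσ, ← Cfsg.NearField.right_distrib,
            mul_assoc, ha'', mul_one, add_assoc, neg_add_cancel, add_zero] }
  have key : ∀ x y : F, x ≠ y → ∃ g : H, g • (0 : F) = x ∧ g • (1 : F) = y := by
    intro x y hxy
    have ha : y + -x ≠ 0 := fun h => hxy (by
      rw [← sub_eq_add_neg, sub_eq_zero] at h; exact h.symm)
    obtain ⟨a', ha', ha''⟩ := Cfsg.NearField.exists_inv (y + -x) ha
    let σ : Equiv.Perm F :=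
      ⟨fun z => z * (y + -x) + x, fun z => (z + -x) * a',
        fun z => by simp [mul_assoc, ha'],
        fun z => by simp [mul_assoc, ha'', add_assoc]⟩
    refine ⟨⟨σ, y + -x, x, ha, fun z => rfl⟩, ?_, ?_⟩
    · change (0 : F) * (y + -x) + x = x
      rw [hz, zero_add]
    · change (1 : F) * (y + -x) + x = y
      rw [one_mul, neg_add_cancel_right]
  refine ⟨H, fun σ => Iff.rfl, MulAction.is_two_pretransitive_iff.mpr ?_, ?_⟩
  · intro a b c d hab hcd
    obtain ⟨g, hg0, hg1⟩ := key a b hab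
    obtain ⟨g', hg0', hg1'⟩ := key c d hcd
    refine ⟨g' * g⁻¹, ?_, ?_⟩
    · rw [mul_smul, inv_smul_eq_iff.mpr hg0.symm, hg0']
    · rw [mul_smul, inv_smul_eq_iff.mpr hg1.symm, hg1']
  · intro x
    rw [Subgroup.eq_bot_iff_forall]
    intro g hg
    obtain ⟨a, b, ha, hσ⟩ := g.2
    have h0 : x 0 * a + b = x 0 := (hσ (x 0)).symm.trans (DFunLike.congr_fun hg 0)
    have h1 : x 1 * a + b = x 1 := (hσ (x 1)).symm.trans (DFunLike.congr_fun hg 1)
    have hne : x 0 + -(x 1) ≠ 0 := fun h => by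
      rw [← sub_eq_add_neg, sub_eq_zero] at h
      exact absurd (x.injective h) (by decide)
    have hneg : ∀ u w : F, (-u) * w = -(u * w) := fun u w => by
      refine eq_neg_of_add_eq_zero_left ?_
      rw [← Cfsg.NearField.right_distrib, neg_add_cancel, hz]
    have h2 : (x 0 + -(x 1)) * a = x 0 + -(x 1) := by
      rw [Cfsg.NearField.right_distrib, hneg]
      have e0 : x 0 * a = x 0 + -b := eq_add_neg_of_add_eq h0
      have e1 : x 1 * a = x 1 + -b := eq_add_neg_of_add_eq h1
      rw [e0, e1, neg_add_rev, neg_neg, add_assoc, neg_add_cancel_left]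
    obtain ⟨u, hu, hu'⟩ := Cfsg.NearField.exists_inv _ hne
    have ha1 : a = 1 := by
      have := congrArg (u * ·) h2
      simp only [← mul_assoc, hu', one_mul] at this
      exact this
    have hb : b = 0 := by rw [ha1, mul_one] at h0; exact add_eq_left.mp h0
    apply Subtype.ext
    refine Equiv.ext fun z => ?_
    rw [hσ, ha1, hb, mul_one, add_zero]
    rfl

end Cfsg.Agent.S0681
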