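import Cfsg.Statements.S0682
import Mathlib


set_option autoImplicit false
open Cfsg

namespace Cfsg.Agent.S0682

/-- A finite near-field has prime-power order; its additive group is commutative of prime exponent. -/
theorem result {F : Type*} [Cfsg.NearField F] [Finite F] : ∃ p j : ℕ, p.Prime ∧ 1 ≤ j ∧ Nat.card F = p ^ j ∧ (∀ x y : F, x + y = y + x) ∧ ∀ x : F, p • x = 0 := by
  classical
  have hz : ∀ a : F, (0 : F) * a = 0 := fun a => by
    have h := Cfsg.NearField.right_distrib (0 : F) 0 a
    rw [add_zero] at h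
    exact left_eq_add.mp h
  let R : F → (F →+ F) := fun c =>
    { toFun := fun x => x * c, map_zero' := hz c,
      map_add' := fun x y => Cfsg.NearField.right_distrib x y c }
  have htrans : ∀ x y : F, x ≠ 0 → ∃ c, R c x = y := fun x y hx => by
    obtain ⟨x', hx1, hx2⟩ := Cfsg.NearField.exists_inv x hx
    exact ⟨x' * y, by change x * (x' * y) = y; rw [← mul_assoc, hx1, one_mul]⟩
  have h01 : (0 : F) ≠ 1 := Cfsg.NearField.zero_ne_one
  have : Nontrivial F := ⟨⟨0, 1, h01⟩⟩
  have hgt : 1 < Nat.card F := Finite.one_lt_card_iff_nontrivial.mpr this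
  obtain ⟨p, hp, hpd⟩ := Nat.exists_prime_and_dvd (n := Nat.card F) (by omega)
  haveI : Fact p.Prime := ⟨hp⟩
  obtain ⟨x, hx⟩ := exists_prime_addOrderOf_dvd_card' (G := F) p hpd
  have hx0 : x ≠ 0 := fun h => by rw [h, addOrderOf_zero] at hx; exact hp.one_lt.ne hx
  have hexp : ∀ y : F, p • y = 0 := fun y => by
    obtain ⟨c, rfl⟩ := htrans x y hx0
    rw [← map_nsmul, ← hx, addOrderOf_nsmul_eq_zero, map_zero]
  have hP : IsPGroup p (Multiplicative F) := fun y => ⟨1, by
    rw [pow_one]; exact hexp y.toAdd⟩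
  obtain ⟨j, hj⟩ := IsPGroup.iff_card.mp hP
  have hj' : Nat.card F = p ^ j := by rw [← hj]; rfl
  refine ⟨p, j, hp, ?_, hj', ?_, hexp⟩
  · rcases Nat.eq_zero_or_pos j with h | h
    · rw [h, pow_zero] at hj'; omega
    · exact h
  · have : Nontrivial (Multiplicative F) := Multiplicative.ofAdd.surjective.nontrivial
    obtain ⟨z, hzne⟩ := (Subgroup.nontrivial_iff_exists_ne_one _).mp hP.center_nontrivial
    have hzc : ∀ w : F, w + (Multiplicative.toAdd z) = Multiplicative.toAdd z + w := fun w =>
      congrArg Multiplicative.toAdd ((Subgroup.mem_center_iff.mp hzne.1) (Multiplicative.ofAdd w))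
    intro u v
    rcases eq_or_ne u 0 with rfl | hu
    · simp
    have hz0 : Multiplicative.toAdd z ≠ 0 := fun h => hzne.2 h
    obtain ⟨c, rfl⟩ := htrans _ u hz0
    obtain ⟨e, he⟩ := htrans _ (Multiplicative.toAdd z) hu
    have hinj : Function.Injective (R c) := fun s t h => by
      have hc0 : c ≠ 0 := fun h0 => hu (by subst h0; exact Cfsg.NearField.mul_zero _)
      obtain ⟨c', hc1, hc2⟩ := Cfsg.NearField.exists_inv c hc0
      have h' := congrArg (· * c') h
      simp only [R, AddMonoidHom.coe_mk, ZeroHom.coe_mk, mul_assoc, hc1, mul_one] at h'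
      exact h'
    obtain ⟨w, rfl⟩ := (Finite.injective_iff_surjective.mp hinj) v
    rw [← map_add, ← map_add, hzc]

end Cfsg.Agent.S0682
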