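import Cfsg.Statements.S0683
import Cfsg.Agent.Lib.Perm.Sharp2

set_option autoImplicit false
open Cfsg

namespace Cfsg.Agent.S0683

/-- A finite sharply doubly transitive permutation group is the affine group of a near-field: the permuted set carries a near-field structure for which the group consists exactly of the maps `x ↦ x * a + b` with `a ≠ 0`. -/
theorem result {α : Type*} [Fintype α] [DecidableEq α] (H : Subgroup (Equiv.Perm α)) [MulAction.IsMultiplyPretransitive H α 2] (hsharp : ∀ x : Fin 2 ↪ α, MulAction.stabilizer H x = ⊥) (h2 : 2 ≤ Fintype.card α) : ∃ _ : Cfsg.NearField α, ∀ σ : Equiv.Perm α, σ ∈ H ↔ ∃ a b : α, a ≠ 0 ∧ ∀ x : α, σ x = x * a + b := by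
  classical
  have hfree : ∀ (g : H) (a b : α), a ≠ b → g • a = a → g • b = b → g = 1 :=
    fun g a b hab ha hb => CfsgLib.Perm.Sharp2.pairwise_free hsharp hab ha hb
  obtain ⟨p, j, K, hp, hj, hcard, hnorm, hcomm, hexp, htr, hreg, hKS, hcK, hG⟩ :=
    CfsgLib.Perm.Sharp2.structure_thm (G := H) (Ω := α) inferInstance hfree
      (by rw [Nat.card_eq_fintype_card]; exact h2)
  have : Nontrivial α := Fintype.one_lt_card_iff_nontrivial.mp h2
  obtain ⟨o, e, hoe⟩ := exists_pair_ne α
  choose k hk using fun x => MulAction.exists_smul_eq K o x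
  have kuniq : ∀ (g : K) x, g • o = x → k x = g := fun g x hg => by
    have : g⁻¹ * k x ∈ MulAction.stabilizer K o := by
      rw [MulAction.mem_stabilizer_iff, mul_smul, hk, ← hg, inv_smul_smul]
    rw [hreg, Subgroup.mem_bot, inv_mul_eq_one] at this
    exact this.symm
  have hex : ∀ y : α, ∃ g : H, g • o = o ∧ (y ≠ o → g • e = y) := fun y => by
    by_cases hy : y = o
    · exact ⟨1, one_smul _ _, fun h => absurd hy h⟩
    · obtain ⟨g, h1, h2⟩ := CfsgLib.Perm.Sharp2.pair_transitive (G := H) inferInstance hoe (Ne.symm hy)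
      exact ⟨g, h1, fun _ => h2⟩
  choose h hho hhe using hex
  have huniq : ∀ (g : H) y, y ≠ o → g • o = o → g • e = y → h y = g := fun g y hy h1 h2 => by
    have := hfree (g⁻¹ * h y) o e hoe
      (by rw [mul_smul, hho, inv_smul_eq_iff, h1]) (by rw [mul_smul, hhe y hy, inv_smul_eq_iff, h2])
    exact (inv_mul_eq_one.mp this).symm
  let addf : α → α → α := fun x y => k y • k x • o
  let mulf : α → α → α := fun x y => if y = o then o else h y • x
  have kadd : ∀ x y, k (addf x y) = k y * k x := fun x y => kuniq _ _ (mul_smul _ _ _)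
  have ko : k o = 1 := kuniq _ _ (one_smul _ _)
  have hh1 : h e = 1 := huniq _ _ hoe.symm (one_smul _ _) (one_smul _ _)
  have hmulo : ∀ y z, y ≠ o → z ≠ o → mulf y z ≠ o := fun y z hy hz hh => by
    simp only [mulf, if_neg hz] at hh
    exact hy (MulAction.injective (h z) (hh.trans (hho z).symm))
  letI : Add α := ⟨addf⟩
  letI : Zero α := ⟨o⟩
  letI : Neg α := ⟨fun x => (k x)⁻¹ • o⟩
  letI I : AddGroup α :=
    { add := addf
      zero := o
      neg := fun x => (k x)⁻¹ • o
      add_assoc := fun x y z => by
        change k z • k (addf x y) • o = k (addf y z) • k x • o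
        rw [kadd, kadd, mul_smul, mul_smul]
      zero_add := fun x => by
        change k x • k o • o = x
        rw [ko, one_smul, hk]
      add_zero := fun x => by
        change k o • k x • o = x
        rw [ko, one_smul, hk]
      neg_add_cancel := fun x => by
        change k x • k ((k x)⁻¹ • o) • o = o
        rw [kuniq (k x)⁻¹ _ rfl, smul_inv_smul]
      nsmul := nsmulRec
      zsmul := zsmulRec }
  letI : Mul α := ⟨mulf⟩
  letI : One α := ⟨e⟩
  letI M : Monoid α :=
    { mul := mulf
      one := e
      mul_assoc := fun x y z => by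
        change mulf (mulf x y) z = mulf x (mulf y z)
        by_cases hz : z = o
        · simp [mulf, hz]
        by_cases hy : y = o
        · simp [mulf, hy, hho, hz]
        rw [show mulf x (mulf y z) = h (mulf y z) • x from if_neg (hmulo y z hy hz)]
        rw [huniq (h z * h y) (mulf y z) (hmulo y z hy hz) (by rw [mul_smul, hho, hho])
          (by rw [mul_smul, hhe y hy]; exact (if_neg hz).symm), mul_smul]
        simp only [mulf, if_neg hy, if_neg hz]
      one_mul := fun x => by
        change mulf e x = x
        by_cases hx : x = o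
        · simp [mulf, hx]
        · simp only [mulf, if_neg hx, hhe x hx]
      mul_one := fun x => by
        change mulf x e = x
        simp only [mulf, if_neg hoe.symm, hh1, one_smul]
      npow := npowRec }
  refine ⟨{ I, M with
    right_distrib := fun x y z => ?_
    mul_zero := fun x => if_pos rfl
    zero_ne_one := hoe
    exists_inv := fun x hx => ?_ }, fun σ => ?_⟩
  · change mulf (addf x y) z = addf (mulf x z) (mulf y z)
    by_cases hz : z = o
    · simp only [mulf, if_pos hz, addf]
      rw [ko, one_smul, one_smul]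
    simp only [mulf, if_neg hz, addf]
    have hconj : ∀ w, ((k (h z • w)) : H) = h z * (k w : H) * (h z)⁻¹ := fun w => by
      have := kuniq ⟨h z * (k w : H) * (h z)⁻¹, hnorm.conj_mem _ (k w).2 _⟩ (h z • w) (by
        change (h z * (k w : H) * (h z)⁻¹) • o = h z • w
        rw [mul_smul, mul_smul, inv_smul_eq_iff.mpr (hho z).symm]
        exact congrArg (h z • ·) (hk w))
      rw [this]
    change h z • (k y : H) • (k x : H) • o = (k (h z • y) : H) • (k (h z • x) : H) • o
    rw [hconj, hconj]
    simp only [mul_smul, inv_smul_eq_iff.mpr (hho z).symm, inv_smul_smul]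
  · have hx' : x ≠ o := hx
    refine ⟨(h x)⁻¹ • e, ?_, ?_⟩
    · change mulf x ((h x)⁻¹ • e) = e
      have hne : (h x)⁻¹ • e ≠ o := fun hh => hoe.symm (by
        rw [inv_smul_eq_iff, hho] at hh; exact hh)
      simp only [mulf, if_neg hne]
      rw [huniq (h x)⁻¹ _ hne (by rw [inv_smul_eq_iff, hho]) rfl, inv_smul_eq_iff, hhe x hx']
    · change mulf ((h x)⁻¹ • e) x = e
      simp only [mulf, if_neg hx', smul_inv_smul]
  · change σ ∈ H ↔ ∃ a b : α, a ≠ o ∧ ∀ x, σ x = addf (mulf x a) b
    constructor
    · intro hσ
      let g : H := ⟨σ, hσ⟩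
      let g₀ : H := ((k (g • o) : H))⁻¹ * g
      have h0 : g₀ • o = o := by
        change ((k (g • o) : H)⁻¹ * g) • o = o
        rw [mul_smul, inv_smul_eq_iff]
        exact (hk (g • o)).symm
      have hne : g₀ • e ≠ o := fun hh => hoe.symm (MulAction.injective g₀ (hh.trans h0.symm))
      refine ⟨g₀ • e, g • o, hne, fun x => ?_⟩
      have hg : h (g₀ • e) = g₀ := huniq _ _ hne h0 rfl
      simp only [mulf, if_neg hne, addf, hk, hg]
      change g • x = (k (g • o) : H) • g₀ • x
      simp only [g₀, mul_smul, smul_inv_smul]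
    · rintro ⟨a, b, ha, hσ⟩
      have : σ = (((k b : H) * h a : H) : Equiv.Perm α) := Equiv.ext fun x => by
        rw [hσ]
        simp only [mulf, if_neg ha, addf, hk]
        rfl
      rw [this]
      exact ((k b : H) * h a).2

end Cfsg.Agent.S0683
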