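import Mathlib
import Cfsg.Statements.S0684
import Cfsg.Agent.Lib.Perm.RegularLinear
-- import your own Cfsg.Agent.* helpers here

set_option autoImplicit false
open Cfsg

namespace Cfsg.Agent.S0684

open CfsgLib.Recognition.NearField CfsgLib.Perm.RegularLinear

/-- Point stabiliser of a sharply doubly transitive group not of semilinear type: a maximal normal abelian subgroup `A` of a linear group `H` that is regular on non-zero vectors and has no irreducible cyclic normal subgroup is cyclic and reducible, and the order of `A` divides `p ^ k - 1` for `k` the dimension of a minimal `A`-invariant subspace. -/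
theorem result {p : ℕ} [Fact p.Prime] {V : Type*} [AddCommGroup V] [Module (ZMod p) V] [Finite V] (H : Subgroup (V ≃ₗ[ZMod p] V)) (hreg : ∀ v w : V, v ≠ 0 → w ≠ 0 → ∃! h : H, (h : V ≃ₗ[ZMod p] V) v = w) (hI : ∀ A : Subgroup H, A.Normal → IsCyclic A → ∃ W : Submodule (ZMod p) V, W ≠ ⊥ ∧ W ≠ ⊤ ∧ ∀ a ∈ A, ∀ v ∈ W, ((a : H) : V ≃ₗ[ZMod p] V) v ∈ W) (A : Subgroup H) (hAn : A.Normal) (hAc : IsMulCommutative A) (hAmax : ∀ B : Subgroup H, B.Normal → IsMulCommutative B → A ≤ B → B = A) : IsCyclic A ∧ ∃ W : Submodule (ZMod p) V, W ≠ ⊥ ∧ W ≠ ⊤ ∧ (∀ a ∈ A, ∀ v ∈ W, ((a : H) : V ≃ₗ[ZMod p] V) v ∈ W) ∧ (∀ W' : Submodule (ZMod p) V, W' ≤ W → (∀ a ∈ A, ∀ v ∈ W', ((a : H) : V ≃ₗ[ZMod p] V) v ∈ W') → W' = ⊥ ∨ W' = W) ∧ Nat.card A ∣ p ^ Module.finrank (ZMod p) W - 1 := by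
  classical
  haveI := finite_aut (p := p) (V := V)
  haveI := nontrivial hI
  have h := fpf hreg
  have hA : ∀ a ∈ A, ∀ b ∈ A, a * b = b * a := fun a ha b hb =>
    congrArg Subtype.val (hAc.is_comm.comm (⟨a, ha⟩ : A) ⟨b, hb⟩)
  have hcyc := isCyclic_of_comm h A hA
  obtain ⟨W0, hW0, hW0t, hinv0⟩ := hI A hAn hcyc
  haveI : Finite (Submodule (ZMod p) V) :=
    Finite.of_injective (fun W : Submodule (ZMod p) V => (W : Set V)) SetLike.coe_injective
  let S : Set (Submodule (ZMod p) V) :=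
    {W | W ≠ ⊥ ∧ W ≤ W0 ∧ ∀ a ∈ A, ∀ v ∈ W, ((a : H) : V ≃ₗ[ZMod p] V) v ∈ W}
  obtain ⟨W, ⟨hW, hWle, hinv⟩, hmin⟩ :=
    Set.Finite.exists_minimal (Set.toFinite S) ⟨W0, hW0, le_rfl, hinv0⟩
  refine ⟨hcyc, W, hW, fun e => hW0t (top_le_iff.mp (e ▸ hWle)), hinv, fun W' hW' hinv' => ?_, ?_⟩
  · by_contra hne
    rw [not_or] at hne
    exact hne.2 (le_antisymm hW' (hmin ⟨hne.1, hW'.trans hWle, hinv'⟩ hW'))
  · letI : MulAction A {v : W // v ≠ 0} :=
      { smul := fun a v => ⟨⟨((a : H) : V ≃ₗ[ZMod p] V) (v.1 : V), hinv a a.2 _ v.1.2⟩, fun e => v.2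
          (Subtype.ext ((LinearEquiv.map_eq_zero_iff _).mp (congrArg Subtype.val e)))⟩
        one_smul := fun v => rfl
        mul_smul := fun a b v => rfl }
    have hfree : ∀ v : {v : W // v ≠ 0}, MulAction.stabilizer A v = ⊥ := by
      intro v
      rw [eq_bot_iff]
      intro a ha
      have hav : ((a : H) : V ≃ₗ[ZMod p] V) (v.1 : V) = (v.1 : V) :=
        congrArg (fun w : {v : W // v ≠ 0} => (w.1 : V)) ha
      exact Subgroup.mem_bot.mpr (Subtype.ext (h (a : H) _ (fun e => v.2 (Subtype.ext e)) hav))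
    have hcard : Nat.card {v : W // v ≠ 0} = p ^ Module.finrank (ZMod p) W - 1 := by
      haveI := Fintype.ofFinite W
      rw [Nat.card_eq_fintype_card, Fintype.card_subtype_compl, Fintype.card_subtype_eq,
        Module.card_eq_pow_finrank (K := ZMod p), ZMod.card]
    rw [← hcard, Nat.card_congr (MulAction.selfEquivSigmaOrbits A {v : W // v ≠ 0})]
    haveI := Fintype.ofFinite (MulAction.orbitRel.Quotient A {v : W // v ≠ 0})
    rw [Nat.card_sigma]
    refine Finset.dvd_sum fun c _ => ?_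
    rw [Nat.card_congr (MulAction.orbitEquivQuotientStabilizer A c.out), hfree]
    exact (Subgroup.index_bot (G := A)).symm.dvd

end Cfsg.Agent.S0684
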