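import Mathlib
import Cfsg.Statements.S0688
import Cfsg.Agent.Lib.Perm.RegularLinear
-- import your own Cfsg.Agent.* helpers here

set_option autoImplicit false
open Cfsg

namespace Cfsg.Agent.S0688

open CfsgLib.Recognition.NearField CfsgLib.Perm.RegularLinear

/-- Degrees of the soluble exceptional sharply doubly transitive groups: if a solvable linear group over the prime field is regular on the non-zero vectors of `V` and has no irreducible cyclic normal subgroup, then `V` has 25, 49, 121 or 529 elements. -/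
theorem result {p : ℕ} [Fact p.Prime] {V : Type*} [AddCommGroup V] [Module (ZMod p) V] [Finite V] (H : Subgroup (V ≃ₗ[ZMod p] V)) (hreg : ∀ v w : V, v ≠ 0 → w ≠ 0 → ∃! h : H, (h : V ≃ₗ[ZMod p] V) v = w) (hI : ∀ A : Subgroup H, A.Normal → IsCyclic A → ∃ W : Submodule (ZMod p) V, W ≠ ⊥ ∧ W ≠ ⊤ ∧ ∀ a ∈ A, ∀ v ∈ W, ((a : H) : V ≃ₗ[ZMod p] V) v ∈ W) (hsolv : Group.IsSolvable H) : Nat.card V = 25 ∨ Nat.card V = 49 ∨ Nat.card V = 121 ∨ Nat.card V = 529 := by
  classical
  haveI := finite_aut (p := p) (V := V)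
  haveI := nontrivial hI
  haveI := hsolv
  have h := fpf hreg
  have hno : ∀ B : Subgroup H, B.Normal → IsCyclic B → Subgroup.centralizer (B : Set H) ≠ B :=
    fun B hn hc => by haveI := hn; exact centralizer_ne hreg hI B hc
  obtain ⟨B, -, hBn, hBc, hC | ⟨Q, -, hQn, ⟨e⟩⟩⟩ := dichotomy h (⊤ : Subgroup H)
  · exact absurd (by rw [top_inf_eq] at hC; exact hC) (hno B hBn hBc)
  · haveI := hQn
    simpa using (case_quaternion h (card_eq hreg) hno e).1

end Cfsg.Agent.S0688
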