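import Cfsg.Statements.S0691
import Cfsg.Agent.Lib.Perm.Regular2

set_option autoImplicit false
open Cfsg

namespace Cfsg.Agent.S0691

/-- An exceptional sharply doubly transitive group of degree 5^2: the listed matrices generate a subgroup of GL(2,5) of order 24 acting regularly on the non-zero vectors. -/
theorem result (A : Matrix.GeneralLinearGroup (Fin 2) (ZMod 5)) (B : Matrix.GeneralLinearGroup (Fin 2) (ZMod 5)) (C : Matrix.GeneralLinearGroup (Fin 2) (ZMod 5)) (hA : (A : Matrix (Fin 2) (Fin 2) (ZMod 5)) = !![2, 0; 0, -2]) (hB : (B : Matrix (Fin 2) (Fin 2) (ZMod 5)) = !![0, -1; 1, 0]) (hC : (C : Matrix (Fin 2) (Fin 2) (ZMod 5)) = !![1, 2; 1, -2]) : Nat.card (Subgroup.closure ({A, B, C} : Set (Matrix.GeneralLinearGroup (Fin 2) (ZMod 5)))) = 24 ∧ ∀ v w : Fin 2 → ZMod 5, v ≠ 0 → w ≠ 0 → ∃! h : Subgroup.closure ({A, B, C} : Set (Matrix.GeneralLinearGroup (Fin 2) (ZMod 5))), Matrix.mulVec ((h : Matrix.GeneralLinearGroup (Fin 2) (ZMod 5)) : Matrix (Fin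 2) (Fin 2) (ZMod 5)) v = w := by
  haveI : Fact (Nat.Prime 5) := ⟨by norm_num⟩
  refine CfsgLib.Perm.Regular2.regular (p := 5) [(2,0,0,3),(0,4,1,0),(1,2,1,3)] 1 1 4 (by norm_num) (by decide +kernel) _ ?_
    ⟨1, one_mem _, by simp⟩ ?_
  · intro g hg
    simp only [List.mem_cons, List.not_mem_nil, or_false] at hg
    rcases hg with rfl | rfl | rfl
    · exact ⟨A, by simp, by rw [hA]; decide +kernel⟩
    · exact ⟨B, by simp, by rw [hB]; decide +kernel⟩
    · exact ⟨C, by simp, by rw [hC]; decide +kernel⟩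
  · intro x hx
    simp only [Set.mem_insert_iff, Set.mem_singleton_iff] at hx
    rcases hx with rfl | rfl | rfl
    · exact Or.inl ⟨_, List.mem_cons_self, by rw [hA]; decide +kernel⟩
    · exact Or.inl ⟨_, (List.mem_cons_of_mem _ List.mem_cons_self), by rw [hB]; decide +kernel⟩
    · exact Or.inl ⟨_, (List.mem_cons_of_mem _ (List.mem_cons_of_mem _ List.mem_cons_self)), by rw [hC]; decide +kernel⟩

end Cfsg.Agent.S0691
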