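import Cfsg.Statements.S0694
import Mathlib

set_option autoImplicit false
open Cfsg

namespace Cfsg.Agent.S0694

/-- Lifting the exponent, upper direction, valid for every prime. -/
theorem pow_val_dvd {p : ℕ} (hp : p.Prime) {q : ℕ} (hq2 : 2 ≤ q) {i : ℕ} (hi : 0 < i)
    (hpq : p ∣ q - 1) {e : ℕ} (he : e ≤ padicValNat p i) :
    p ^ (e + padicValNat p (q - 1)) ∣ q ^ i - 1 := by
  haveI := Fact.mk hp
  have hdvd : p ^ e ∣ i := (padicValNat_dvd_iff_le hi.ne').mpr he
  refine dvd_trans ?_ (Nat.pow_sub_one_dvd_pow_sub_one q hdvd)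
  have hv : 1 ≤ padicValNat p (q - 1) := one_le_padicValNat_of_dvd (by omega) hpq
  clear hdvd he
  induction e with
  | zero => rw [zero_add, pow_zero, pow_one]; exact pow_padicValNat_dvd
  | succ e ih =>
    have h1 : 1 ≤ q ^ p ^ e := Nat.one_le_pow _ _ (by omega)
    have hpdvd : p ∣ q ^ p ^ e - 1 := (dvd_pow_self p (by omega)).trans ih
    have h : p ∣ ∑ i ∈ Finset.range p, (q ^ p ^ e) ^ i := by
      have hone : ((q ^ p ^ e : ℕ) : ZMod p) = 1 := by
        rw [← Nat.sub_add_cancel h1, Nat.cast_add, (ZMod.natCast_eq_zero_iff _ _).mpr hpdvd,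
          Nat.cast_one, zero_add]
      refine (ZMod.natCast_eq_zero_iff _ _).mp ?_
      push_cast
      simp only [Nat.cast_pow] at hone
      simp [hone]
    have hgeom : (q ^ p ^ e - 1) * (∑ i ∈ Finset.range p, (q ^ p ^ e) ^ i) = q ^ p ^ (e + 1) - 1 := by
      rw [pow_succ, pow_mul]
      have := geom_sum_mul_add (q ^ p ^ e - 1) p
      rw [Nat.sub_add_cancel h1] at this
      rw [mul_comm]; omega
    rw [← hgeom, show e + 1 + padicValNat p (q - 1) = e + padicValNat p (q - 1) + 1 by omega, pow_succ]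
    exact mul_dvd_mul ih h

/-- Lifting the exponent, lower direction. -/
theorem val_lower {r q i k : ℕ} (hr : r.Prime) (hq2 : 2 ≤ q) (hi : i ≠ 0) (hrq : r ∣ q - 1)
    (h4 : r = 2 → 2 ≤ k → 4 ∣ q - 1)
    (hd : r ^ (k + padicValNat r (q - 1)) ∣ q ^ i - 1) : r ^ k ∣ i := by
  haveI := Fact.mk hr
  rcases Nat.eq_zero_or_pos k with rfl | hk0
  · simp
  have hne : q ^ i - 1 ≠ 0 := by
    have := Nat.one_lt_pow hi (show 1 < q by omega)
    omega
  have hle := (padicValNat_dvd_iff_le hne).mp hd
  have hrq' : ¬ r ∣ q := fun h => by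
    have h3 := Nat.dvd_sub h hrq
    rw [Nat.sub_sub_self (by omega)] at h3
    exact hr.one_lt.ne' (Nat.dvd_one.mp h3)
  refine (padicValNat_dvd_iff_le hi).mpr ?_
  rcases eq_or_ne r 2 with hr2 | hr2
  · subst hr2
    by_cases hev : Even i
    · have h := padicValNat.pow_two_sub_one (x := q) (n := i) (by omega) hrq' hi hev
      rcases Nat.lt_or_ge k 2 with hk2 | hk2
      · have := one_le_padicValNat_of_dvd hi hev.two_dvd
        omega
      · have h4' := h4 rfl hk2
        have h5 : padicValNat 2 (q + 1) < 2 := by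
          by_contra hge
          have := (padicValNat_dvd_iff_le (p := 2) (n := 2) (by omega : q + 1 ≠ 0)).mpr (not_lt.mp hge)
          norm_num at this
          omega
        omega
    · exfalso
      -- for odd `i` the valuation does not grow
      obtain ⟨j, rfl⟩ := Nat.not_even_iff_odd.mp hev
      have hgeom : (q - 1) * (∑ l ∈ Finset.range (2 * j + 1), q ^ l) = q ^ (2 * j + 1) - 1 := by
        have := geom_sum_mul_add (q - 1) (2 * j + 1)
        rw [Nat.sub_add_cancel (by omega : 1 ≤ q)] at this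
        rw [mul_comm]; omega
      have hodd : ¬ 2 ∣ ∑ l ∈ Finset.range (2 * j + 1), q ^ l := by
        rw [← even_iff_two_dvd, Nat.not_even_iff_odd]
        have hqo : Odd q := Nat.not_even_iff_odd.mp fun h => hrq' h.two_dvd
        rw [Nat.odd_iff, Finset.sum_nat_mod]
        simp [Nat.pow_mod, Nat.odd_iff.mp hqo, Nat.odd_iff.mp (odd_two_mul_add_one j)]
      rw [← hgeom, padicValNat.mul (by omega) (fun h => hodd (by rw [h]; exact dvd_zero 2)),
        padicValNat.eq_zero_of_not_dvd hodd] at hle
      omega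
  · have h := padicValNat.pow_sub_pow (p := r) (x := q) (y := 1) (hr.odd_of_ne_two hr2) (by omega) hrq hrq' hi
    rw [one_pow] at h
    omega

/-- The Dickson pair condition: for a prime power `q` and `n > 1`, (every prime factor of `n` divides `q - 1`, and `4 ∣ n → 4 ∣ q - 1`) holds exactly when `q ^ n ≡ 1` modulo `n * (q - 1)` but `q ^ i` is not, for `0 < i < n`. -/
theorem result (q n : ℕ) (hq : IsPrimePow q) (hn : 1 < n) : ((∀ r : ℕ, r.Prime → r ∣ n → r ∣ q - 1) ∧ (4 ∣ n → 4 ∣ q - 1)) ↔ (q ^ n ≡ 1 [MOD n * (q - 1)] ∧ ∀ i : ℕ, 0 < i → i < n → ¬ q ^ i ≡ 1 [MOD n * (q - 1)]) := by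
  have hq2 : 2 ≤ q := hq.two_le
  have hN : ∀ i : ℕ, q ^ i ≡ 1 [MOD n * (q - 1)] ↔ n * (q - 1) ∣ q ^ i - 1 := fun i => by
    rw [Nat.ModEq.comm, Nat.modEq_iff_dvd' (Nat.one_le_pow _ _ (by omega))]
  constructor
  · rintro ⟨hp, h4⟩
    have hN0 : n * (q - 1) ≠ 0 := Nat.mul_ne_zero (by omega) (by omega)
    refine ⟨(hN n).mpr ?_, fun i hi hin h => ?_⟩
    · refine (Nat.dvd_iff_prime_pow_dvd_dvd _ _).mpr fun p k hp' hk => ?_
      haveI := Fact.mk hp'
      have hle : k ≤ padicValNat p n + padicValNat p (q - 1) := by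
        rw [← padicValNat.mul (by omega) (by omega)]
        exact (padicValNat_dvd_iff_le hN0).mp hk
      refine (Nat.pow_dvd_pow p hle).trans ?_
      by_cases hpn : p ∣ n
      · exact pow_val_dvd hp' hq2 (by omega) (hp p hp' hpn) le_rfl
      · rw [padicValNat.eq_zero_of_not_dvd hpn, zero_add]
        refine pow_padicValNat_dvd.trans ?_
        simpa using Nat.sub_dvd_pow_sub_pow q 1 n
    · suffices hni : n ∣ i by
        have := Nat.le_of_dvd hi hni
        omega
      have hd := (hN i).mp h
      refine (Nat.dvd_iff_prime_pow_dvd_dvd _ _).mpr fun r k hr hk => ?_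
      rcases Nat.eq_zero_or_pos k with rfl | hk0
      · simp
      haveI := Fact.mk hr
      have hrn : r ∣ n := (dvd_pow_self r hk0.ne').trans hk
      have hrq : r ∣ q - 1 := hp r hr hrn
      have hd' : r ^ (k + padicValNat r (q - 1)) ∣ q ^ i - 1 := by
        rw [pow_add]
        exact (mul_dvd_mul hk pow_padicValNat_dvd).trans hd
      refine val_lower hr hq2 hi.ne' hrq (fun hr2 h2k => ?_) hd'
      refine h4 ?_
      subst hr2
      exact (show (4 : ℕ) ∣ 2 ^ k from (show (4 : ℕ) = 2 ^ 2 by norm_num) ▸ Nat.pow_dvd_pow 2 h2k).trans hk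
  · rintro ⟨hn1, hmin⟩
    have hd := (hN n).mp hn1
    have hcop : ∀ p : ℕ, p.Prime → p ∣ n → ¬ p ∣ q := by
      intro p hp hpn hpq
      have h1 : p ∣ q ^ n - 1 := hpn.trans ((dvd_mul_right n (q - 1)).trans hd)
      have h2 : p ∣ q ^ n := hpq.trans (dvd_pow_self q (by omega))
      have h3 := Nat.dvd_sub h2 h1
      rw [Nat.sub_sub_self (Nat.one_le_pow _ _ (by omega))] at h3
      exact hp.one_lt.ne' (Nat.dvd_one.mp h3)
    -- a maximal exponent can be removed
    have key : ∀ r : ℕ, r.Prime → r ∣ n → (∀ p : ℕ, p.Prime → p ∣ n * (q - 1) → ∃ M : ℕ,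
        p ^ (padicValNat p n + padicValNat p (q - 1)) ∣ q ^ M - 1 ∧
          ¬ r ^ padicValNat r n ∣ M) → False := by
      intro r hr hrn hM
      haveI := Fact.mk hr
      obtain ⟨n', rfl⟩ := hrn
      have hn'0 : 0 < n' := by
        rcases Nat.eq_zero_or_pos n' with h | h
        · simp [h] at hn
        · exact h
      refine hmin n' hn'0 (lt_mul_of_one_lt_left hn'0 hr.one_lt) ((hN n').mpr ?_)
      refine (Nat.dvd_iff_prime_pow_dvd_dvd _ _).mpr fun p k hp hk => ?_
      rcases Nat.eq_zero_or_pos k with rfl | hk0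
      · simp
      haveI := Fact.mk hp
      have hN0 : r * n' * (q - 1) ≠ 0 := Nat.mul_ne_zero (by omega) (by omega)
      have hle : k ≤ padicValNat p (r * n') + padicValNat p (q - 1) := by
        rw [← padicValNat.mul (by omega) (by omega)]
        exact (padicValNat_dvd_iff_le hN0).mp hk
      obtain ⟨M, hM1, hM2⟩ := hM p hp ((dvd_pow_self p hk0.ne').trans hk)
      have h1 : p ^ k ∣ q ^ M - 1 := (Nat.pow_dvd_pow p hle).trans hM1
      have h2 : p ^ k ∣ q ^ (r * n') - 1 := hk.trans hd
      have h3 := Nat.dvd_gcd h1 h2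
      rw [Nat.pow_sub_one_gcd_pow_sub_one] at h3
      refine h3.trans ?_
      have hg : M.gcd (r * n') ∣ n' := by
        refine (Nat.dvd_iff_prime_pow_dvd_dvd _ _).mpr fun s j hs hj => ?_
        have hjn : s ^ j ∣ r * n' := hj.trans (Nat.gcd_dvd_right _ _)
        by_cases hsr : s = r
        · subst hsr
          have hjM : s ^ j ∣ M := hj.trans (Nat.gcd_dvd_left _ _)
          have hlt : j < padicValNat s (s * n') := by
            by_contra hge
            exact hM2 ((Nat.pow_dvd_pow s (not_lt.mp hge)).trans hjM)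
          have : j ≤ padicValNat s n' := by
            rw [padicValNat.mul hs.ne_zero hn'0.ne', padicValNat.self hs.one_lt] at hlt
            omega
          exact (padicValNat_dvd_iff_le hn'0.ne').mpr this
        · exact (Nat.Coprime.dvd_mul_left (Nat.Coprime.pow_left _
            ((Nat.coprime_primes hs hr).mpr hsr))).mp hjn
      exact Nat.pow_sub_one_dvd_pow_sub_one q hg
    have hgood : ∀ r : ℕ, r.Prime → r ∣ n → r ∣ q - 1 := by
      by_contra! hbad
      let P := n.primeFactors.filter fun r => ¬ r ∣ q - 1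
      obtain ⟨r₀, hr₀, hr₀n, hr₀q⟩ := hbad
      have hP : P.Nonempty := ⟨r₀, by simp [P, hr₀, hr₀n, hr₀q, (show n ≠ 0 by omega)]⟩
      set r := P.max' hP with hr
      have hrP := P.max'_mem hP
      rw [← hr] at hrP
      simp only [P, Finset.mem_filter, Nat.mem_primeFactors] at hrP
      obtain ⟨⟨hrp, hrn, -⟩, hrq⟩ := hrP
      haveI := Fact.mk hrp
      refine key r hrp hrn fun p hp hpN => ?_
      haveI := Fact.mk hp
      have he : 0 < padicValNat r n := one_le_padicValNat_of_dvd (by omega) hrn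
      by_cases hpn : p ∣ n
      · by_cases hpq : p ∣ q - 1
        · have hpr : r ≠ p := fun h => hrq (h ▸ hpq)
          refine ⟨p ^ padicValNat p n, pow_val_dvd hp hq2 (pow_pos hp.pos _) hpq (le_of_eq ?_), fun h => ?_⟩
          · rw [padicValNat.prime_pow]
          · exact hpr ((Nat.prime_dvd_prime_iff_eq hrp hp).mp
              (hrp.dvd_of_dvd_pow ((dvd_pow_self r he.ne').trans h)))
        · rw [padicValNat.eq_zero_of_not_dvd hpq, add_zero]
          have hf : 0 < padicValNat p n := one_le_padicValNat_of_dvd (by omega) hpn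
          refine ⟨Nat.totient (p ^ padicValNat p n), ?_, fun h => ?_⟩
          · refine (Nat.modEq_iff_dvd' (Nat.one_le_pow _ _ (by omega))).mp ?_
            exact (Nat.ModEq.pow_totient (Nat.Coprime.pow_right _
              ((Nat.Prime.coprime_iff_not_dvd hp).mpr (hcop p hp hpn)).symm)).symm
          · rw [Nat.totient_prime_pow hp hf] at h
            have hle : p ≤ r := P.le_max' p (by simp [P, hp, hpn, hpq, (show n ≠ 0 by omega)])
            have hp2 := hp.two_le
            have hnd : ¬ r ∣ p - 1 := fun h' => by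
              have := Nat.le_of_dvd (by omega) h'
              omega
            have h' := (Nat.Coprime.dvd_mul_right (Nat.Coprime.pow_left _
              ((Nat.Prime.coprime_iff_not_dvd hrp).mpr hnd))).mp h
            rcases eq_or_ne p r with he' | hne
            · rw [he'] at h' hf
              have := (Nat.pow_dvd_pow_iff_le_right hrp.one_lt).mp h'
              omega
            · exact hne ((Nat.prime_dvd_prime_iff_eq hrp hp).mp
                (hrp.dvd_of_dvd_pow ((dvd_pow_self r he.ne').trans h'))).symm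
      · refine ⟨1, ?_, fun h => hrp.one_lt.ne' (Nat.dvd_one.mp ((dvd_pow_self r he.ne').trans h))⟩
        rw [padicValNat.eq_zero_of_not_dvd hpn, zero_add, pow_one]
        exact pow_padicValNat_dvd
    refine ⟨hgood, fun h4 => ?_⟩
    by_contra hq4
    have h2n : 2 ∣ n := (show (2 : ℕ) ∣ 4 by norm_num).trans h4
    have h2q := hgood 2 Nat.prime_two h2n
    haveI := Fact.mk Nat.prime_two
    have he : 2 ≤ padicValNat 2 n := (padicValNat_dvd_iff_le (by omega)).mp (show 2 ^ 2 ∣ n by norm_num [h4])
    refine key 2 Nat.prime_two h2n fun p hp hpN => ?_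
    haveI := Fact.mk hp
    by_cases hpn : p ∣ n
    · rcases eq_or_ne p 2 with rfl | hp2
      · refine ⟨2 ^ (padicValNat 2 n - 1), ?_, fun h => ?_⟩
        · have h := padicValNat.pow_two_sub_one (x := q) (n := 2 ^ (padicValNat 2 n - 1)) (by omega)
            (by omega) (by positivity) (by
              rw [Nat.even_pow]; exact ⟨even_two, by omega⟩)
          rw [padicValNat.prime_pow] at h
          have h4' : 2 ≤ padicValNat 2 (q + 1) :=
            (padicValNat_dvd_iff_le (by omega)).mp (show 2 ^ 2 ∣ q + 1 by norm_num; omega)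
          refine (padicValNat_dvd_iff_le ?_).mpr (by omega)
          have : 1 < q ^ (2 ^ (padicValNat 2 n - 1)) := Nat.one_lt_pow (by positivity) (by omega)
          omega
        · have := (Nat.pow_dvd_pow_iff_le_right (by norm_num)).mp h
          omega
      · refine ⟨p ^ padicValNat p n, pow_val_dvd hp hq2 (pow_pos hp.pos _) (hgood p hp hpn) (le_of_eq ?_),
          fun h => hp2 ?_⟩
        · rw [padicValNat.prime_pow]
        · exact ((Nat.prime_dvd_prime_iff_eq Nat.prime_two hp).mp
            (Nat.prime_two.dvd_of_dvd_pow ((dvd_pow_self 2 (by omega)).trans h))).symm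
    · refine ⟨1, ?_, fun h => ?_⟩
      · rw [padicValNat.eq_zero_of_not_dvd hpn, zero_add, pow_one]
        exact pow_padicValNat_dvd
      · have := Nat.dvd_one.mp ((dvd_pow_self 2 (by omega)).trans h)
        omega

end Cfsg.Agent.S0694
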