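import Cfsg.Statements.S0699
import Cfsg.Agent.Lib.Perm.Transitivity

set_option autoImplicit false
open Cfsg

namespace Cfsg.Agent.S0699

/-- Wagner's Theorem: a non-trivial normal subgroup of a triply transitive permutation group of odd degree at least 5 is triply transitive. -/
theorem result {α : Type*} [Fintype α] [DecidableEq α] (G : Subgroup (Equiv.Perm α)) (hodd : Odd (Fintype.card α)) (h5 : 5 ≤ Fintype.card α) (hG : MulAction.IsMultiplyPretransitive G α 3) (N : Subgroup G) [N.Normal] (hN : N ≠ ⊥) : MulAction.IsMultiplyPretransitive N α 3 := by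
  classical
  open CfsgLib.Perm.Transitivity CfsgLib.Perm.Normal in
  have hn : Nat.card α = Fintype.card α := Nat.card_eq_fintype_card
  haveI : MulAction.IsPretransitive N α :=
    isPretransitive_normal' (k := 3) (by norm_num) (by omega) hG N hN
  obtain ⟨a⟩ : Nonempty α := Fintype.card_pos_iff.mp (by omega)
  rcases jordan_normal 3 (by norm_num) G α (by omega) hG N hN with hN2 | ⟨-, hc, he⟩
  swap
  · exfalso
    have hcard := regular_card N (fun x => stabilizer_eq_bot_of_comm (Ω := α) N hc x) a
    obtain ⟨m, hm⟩ := IsPGroup.iff_card.mp (fun n => ⟨1, Subtype.ext (by simpa using he n n.2)⟩ : IsPGroup 2 N)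
    rw [← hn, ← hcard, hm] at hodd h5
    rcases Nat.eq_zero_or_pos m with h | h
    · rw [h, pow_zero] at h5; omega
    · exact absurd hodd (by rw [Nat.not_odd_iff_even]; exact (Nat.even_pow).mpr ⟨even_two, h.ne'⟩)
  have h3 : ∀ {x y z x' y' z' : α}, x ≠ y → x ≠ z → y ≠ z → x' ≠ y' → x' ≠ z' → y' ≠ z' →
      ∃ g : G, g • x = x' ∧ g • y = y' ∧ g • z = z' := by
    intro x y z x' y' z' h1 h2 h3 h4 h5 h6
    obtain ⟨g, hg⟩ := MulAction.exists_smul_eq G
      (⟨![x, y, z], by intro i j h; fin_cases i <;> fin_cases j <;> simp_all⟩ : Fin 3 ↪ α)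
      ⟨![x', y', z'], by intro i j h; fin_cases i <;> fin_cases j <;> simp_all⟩
    exact ⟨g, DFunLike.congr_fun hg 0, DFunLike.congr_fun hg 1, DFunLike.congr_fun hg 2⟩
  have h2N : ∀ {x y x' y' : α}, x ≠ y → x' ≠ y' → ∃ g : N, g • x = x' ∧ g • y = y' :=
    fun {x y x' y'} h h' => (MulAction.is_two_pretransitive_iff.mp hN2) h h'
  haveI : Fact (Nat.Prime 2) := ⟨Nat.prime_two⟩
  have main : ∀ {u v c d : α}, u ≠ v → c ≠ u → c ≠ v → d ≠ u → d ≠ v →
      ∃ h : N, h • u = u ∧ h • v = v ∧ h • c = d := by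
    intro u v c d huv hcu hcv hdu hdv
    -- the setwise stabiliser in `N` of `{u, v}` and the pointwise one
    let M : Subgroup N :=
      { carrier := {g | (g • u = u ∧ g • v = v) ∨ (g • u = v ∧ g • v = u)}
        one_mem' := Or.inl ⟨one_smul _ _, one_smul _ _⟩
        mul_mem' := by
          rintro g h (⟨g1, g2⟩ | ⟨g1, g2⟩) (⟨h1, h2⟩ | ⟨h1, h2⟩)
          · exact Or.inl ⟨by rw [mul_smul, h1, g1], by rw [mul_smul, h2, g2]⟩
          · exact Or.inr ⟨by rw [mul_smul, h1, g2], by rw [mul_smul, h2, g1]⟩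
          · exact Or.inr ⟨by rw [mul_smul, h1, g1], by rw [mul_smul, h2, g2]⟩
          · exact Or.inl ⟨by rw [mul_smul, h1, g2], by rw [mul_smul, h2, g1]⟩
        inv_mem' := by
          rintro g (⟨g1, g2⟩ | ⟨g1, g2⟩)
          · exact Or.inl ⟨inv_smul_eq_iff.mpr g1.symm, inv_smul_eq_iff.mpr g2.symm⟩
          · exact Or.inr ⟨inv_smul_eq_iff.mpr g2.symm, inv_smul_eq_iff.mpr g1.symm⟩ }
    let M0 : Subgroup N := MulAction.stabilizer N u ⊓ MulAction.stabilizer N v
    have hM0le : M0 ≤ M := fun g hg => Or.inl ⟨hg.1, hg.2⟩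
    obtain ⟨s, hs1, hs2⟩ := h2N huv huv.symm
    have hidx : M0.relIndex M = 2 := by
      rw [Subgroup.relIndex, Subgroup.index_eq_two_iff]
      refine ⟨⟨s, Or.inr ⟨hs1, hs2⟩⟩, fun b => ?_⟩
      simp only [Subgroup.mem_subgroupOf, Subgroup.coe_mul]
      rcases b.2 with ⟨b1, b2⟩ | ⟨b1, b2⟩
      · refine Or.inr ⟨⟨b1, b2⟩, fun hb => huv ?_⟩
        have := hb.1
        change ((b : N) * s) • u = u at this
        rw [mul_smul, hs1, b2] at this
        exact this.symm
      · refine Or.inl ⟨?_, fun hb => huv (hb.1.symm.trans b1)⟩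
        constructor
        · change ((b : N) * s) • u = u
          rw [mul_smul, hs1, b2]
        · change ((b : N) * s) • v = v
          rw [mul_smul, hs2, b1]
    have hMcard : Nat.card M = 2 * Nat.card M0 := by
      rw [← Subgroup.card_mul_index (M0.subgroupOf M)]
      change Nat.card (M0.subgroupOf M) * M0.relIndex M = _
      rw [hidx, Nat.card_congr (Subgroup.subgroupOfEquivOfLe hM0le).toEquiv, mul_comm]
    -- Sylow 2-subgroups of `M` fix exactly one point
    have huniq : ∀ R : Sylow 2 M, ∀ x y : α, x ≠ u → x ≠ v → y ≠ u → y ≠ v →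
        (∀ r ∈ (R : Subgroup M), (r : N) • x = x) → (∀ r ∈ (R : Subgroup M), (r : N) • y = y) → x = y := by
      intro R x y hxu hxv hyu hyv hx hy
      by_contra hxy
      have hle : (R : Subgroup M).map M.subtype ≤ MulAction.stabilizer N x ⊓ MulAction.stabilizer N y := by
        rintro _ ⟨r, hr, rfl⟩
        exact ⟨hx r hr, hy r hr⟩
      have hcard : Nat.card (MulAction.stabilizer N x ⊓ MulAction.stabilizer N y : Subgroup N) = Nat.card M0 := by
        obtain ⟨k, hk1, hk2⟩ := h2N huv hxy
        symm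
        refine Nat.card_congr ((MulAut.conj k).toEquiv.subtypeEquiv fun g => ?_)
        change (g • u = u ∧ g • v = v) ↔ ((k * g * k⁻¹) • x = x ∧ (k * g * k⁻¹) • y = y)
        rw [← hk1, ← hk2]
        simp [mul_smul, smul_left_cancel_iff]
      have hdvd := Subgroup.card_dvd_of_le hle
      rw [Subgroup.card_map_of_injective M.subtype_injective, R.card_eq_multiplicity, hMcard, hcard,
        Nat.factorization_mul (by norm_num) Nat.card_pos.ne', Finsupp.add_apply,
        Nat.prime_two.factorization_self, add_comm] at hdvd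
      exact Nat.pow_succ_factorization_not_dvd Nat.card_pos.ne' Nat.prime_two hdvd
    obtain ⟨R⟩ : Nonempty (Sylow 2 M) := inferInstance
    obtain ⟨x₀, hx₀⟩ := R.isPGroup'.nonempty_fixed_point_of_prime_not_dvd_card α
      (by rw [hn]; exact fun h => (Nat.not_even_iff_odd.mpr hodd) (even_iff_two_dvd.mpr h))
    have hfix₀ : ∀ r ∈ (R : Subgroup M), (r : N) • x₀ = x₀ := fun r hr => hx₀ ⟨r, hr⟩
    have hx₀uv : x₀ ≠ u ∧ x₀ ≠ v := by
      by_contra hh
      have hle : (R : Subgroup M) ≤ M0.subgroupOf M := by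
        intro r hr
        have h := hfix₀ r hr
        rcases r.2 with ⟨r1, r2⟩ | ⟨r1, r2⟩
        · exact ⟨r1, r2⟩
        · exfalso
          by_cases hu : x₀ = u
          · rw [hu, r1] at h; exact huv h.symm
          · have hv : x₀ = v := by by_contra hv; exact hh ⟨hu, hv⟩
            rw [hv, r2] at h; exact huv h
      have hdvd := Subgroup.card_dvd_of_le hle
      rw [R.card_eq_multiplicity, Nat.card_congr (Subgroup.subgroupOfEquivOfLe hM0le).toEquiv, hMcard,
        Nat.factorization_mul (by norm_num) Nat.card_pos.ne', Finsupp.add_apply,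
        Nat.prime_two.factorization_self, add_comm] at hdvd
      exact Nat.pow_succ_factorization_not_dvd Nat.card_pos.ne' Nat.prime_two hdvd
    -- every point outside `{u, v}` is fixed by some Sylow 2-subgroup of `M`
    have hall : ∀ e, e ≠ u → e ≠ v → ∃ R' : Sylow 2 M, ∀ r ∈ (R' : Subgroup M), (r : N) • e = e := by
      intro e heu hev
      obtain ⟨g, g1, g2, g3⟩ := h3 huv hx₀uv.1.symm hx₀uv.2.symm huv heu.symm hev.symm
      let c : MulAut M :=
        { toFun := fun r => ⟨⟨g * (r : N) * g⁻¹, (inferInstance : N.Normal).conj_mem _ (r : N).2 g⟩, ?_⟩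
          invFun := fun r => ⟨⟨g⁻¹ * (r : N) * g, by simpa using (inferInstance : N.Normal).conj_mem _ (r : N).2 g⁻¹⟩, ?_⟩
          left_inv := fun r => by ext1; ext1; simp [mul_assoc]
          right_inv := fun r => by ext1; ext1; simp [mul_assoc]
          map_mul' := fun r s => by ext1; ext1; simp [mul_assoc] }
      rotate_left
      · rcases r.2 with ⟨r1, r2⟩ | ⟨r1, r2⟩
        · left
          exact ⟨by change (g * ((r : N) : G) * g⁻¹) • u = u
                    rw [mul_smul, mul_smul, inv_smul_eq_iff.mpr g1.symm]; exact (congrArg (g • ·) r1).trans g1,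
                 by change (g * ((r : N) : G) * g⁻¹) • v = v
                    rw [mul_smul, mul_smul, inv_smul_eq_iff.mpr g2.symm]; exact (congrArg (g • ·) r2).trans g2⟩
        · right
          exact ⟨by change (g * ((r : N) : G) * g⁻¹) • u = v
                    rw [mul_smul, mul_smul, inv_smul_eq_iff.mpr g1.symm]; exact (congrArg (g • ·) r1).trans g2,
                 by change (g * ((r : N) : G) * g⁻¹) • v = u
                    rw [mul_smul, mul_smul, inv_smul_eq_iff.mpr g2.symm]; exact (congrArg (g • ·) r2).trans g1⟩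
      · rcases r.2 with ⟨r1, r2⟩ | ⟨r1, r2⟩
        · left
          exact ⟨by change (g⁻¹ * ((r : N) : G) * g) • u = u
                    rw [mul_smul, mul_smul, g1, inv_smul_eq_iff, g1]; exact r1,
                 by change (g⁻¹ * ((r : N) : G) * g) • v = v
                    rw [mul_smul, mul_smul, g2, inv_smul_eq_iff, g2]; exact r2⟩
        · right
          exact ⟨by change (g⁻¹ * ((r : N) : G) * g) • u = v
                    rw [mul_smul, mul_smul, g1, inv_smul_eq_iff, g2]; exact r1,
                 by change (g⁻¹ * ((r : N) : G) * g) • v = u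
                    rw [mul_smul, mul_smul, g2, inv_smul_eq_iff, g1]; exact r2⟩
      refine ⟨Sylow.ofCard ((R : Subgroup M).map c.toMonoidHom) ?_, fun r hr => ?_⟩
      · rw [Subgroup.card_map_of_injective c.injective, R.card_eq_multiplicity]
      · rw [Sylow.coe_ofCard] at hr
        obtain ⟨r₀, hr₀, rfl⟩ := hr
        change (g * ((r₀ : N) : G) * g⁻¹) • e = e
        rw [mul_smul, mul_smul, inv_smul_eq_iff.mpr g3.symm]
        exact (congrArg (g • ·) (hfix₀ r₀ hr₀)).trans g3
    obtain ⟨R₁, hR₁⟩ := hall c hcu hcv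
    obtain ⟨R₂, hR₂⟩ := hall d hdu hdv
    obtain ⟨m, hm⟩ := MulAction.exists_smul_eq M R₁ R₂
    have hmc : (m : N) • c ≠ u ∧ (m : N) • c ≠ v := by
      rcases m.2 with ⟨m1, m2⟩ | ⟨m1, m2⟩
      · exact ⟨fun h => hcu (MulAction.injective (m : N) (h.trans m1.symm)),
          fun h => hcv (MulAction.injective (m : N) (h.trans m2.symm))⟩
      · exact ⟨fun h => hcv (MulAction.injective (m : N) (h.trans m2.symm)),
          fun h => hcu (MulAction.injective (m : N) (h.trans m1.symm))⟩
    have hmd : (m : N) • c = d := by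
      refine huniq R₂ _ _ hmc.1 hmc.2 hdu hdv (fun r hr => ?_) hR₂
      rw [← hm, Sylow.coe_subgroup_smul] at hr
      obtain ⟨r₀, hr₀, rfl⟩ := hr
      change ((m : N) * (r₀ : N) * (m : N)⁻¹) • (m : N) • c = (m : N) • c
      rw [mul_smul, mul_smul, inv_smul_smul, hR₁ r₀ hr₀]
    rcases m.2 with ⟨m1, m2⟩ | ⟨m1, m2⟩
    · exact ⟨m, m1, m2, hmd⟩
    · have : ∃ r ∈ (R₂ : Subgroup M), (r : N) • u = v := by
        by_contra hh
        push Not at hh
        have hle : (R₂ : Subgroup M) ≤ M0.subgroupOf M := fun r hr => by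
          rcases r.2 with h | ⟨r1, -⟩
          · exact h
          · exact absurd r1 (hh r hr)
        have hdvd := Subgroup.card_dvd_of_le hle
        rw [R₂.card_eq_multiplicity, Nat.card_congr (Subgroup.subgroupOfEquivOfLe hM0le).toEquiv, hMcard,
          Nat.factorization_mul (by norm_num) Nat.card_pos.ne', Finsupp.add_apply,
          Nat.prime_two.factorization_self, add_comm] at hdvd
        exact Nat.pow_succ_factorization_not_dvd Nat.card_pos.ne' Nat.prime_two hdvd
      obtain ⟨r, hr, hru⟩ := this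
      have hrv : (r : N) • v = u := by
        rcases r.2 with ⟨r1, -⟩ | ⟨-, r2⟩
        · exact absurd (r1.symm.trans hru) huv
        · exact r2
      exact ⟨(r : N) * m, by rw [mul_smul, m1, hrv], by rw [mul_smul, m2, hru],
        by rw [mul_smul, hmd, hR₂ r hr]⟩
  rw [MulAction.isMultiplyPretransitive_iff]
  intro X Y
  have hX : ∀ {i j : Fin 3}, i ≠ j → X i ≠ X j := fun hij h => hij (X.injective h)
  have hY : ∀ {i j : Fin 3}, i ≠ j → Y i ≠ Y j := fun hij h => hij (Y.injective h)
  obtain ⟨k, hk1, hk2⟩ := h2N (hX (i := 0) (j := 1) (by decide)) (hY (i := 0) (j := 1) (by decide))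
  obtain ⟨h, h1, h2, h3'⟩ := main (hY (i := 0) (j := 1) (by decide)) (c := k • X 2) (d := Y 2)
    (fun e => hX (i := 2) (j := 0) (by decide) (MulAction.injective k (e.trans hk1.symm)))
    (fun e => hX (i := 2) (j := 1) (by decide) (MulAction.injective k (e.trans hk2.symm)))
    (hY (by decide)) (hY (by decide))
  refine ⟨h * k, Function.Embedding.ext fun i => ?_⟩
  rw [Function.Embedding.smul_apply, mul_smul]
  fin_cases i
  · change h • k • X 0 = Y 0; rw [hk1, h1]
  · change h • k • X 1 = Y 1; rw [hk2, h2]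
  · exact h3'

end Cfsg.Agent.S0699
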