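import Cfsg.Statements.S0700
import Cfsg.Agent.Lib.Perm.Normal
import Cfsg.Agent.Lib.FrobRealize.Theorem

set_option autoImplicit false
set_option linter.style.haveILetI false
open Cfsg

namespace Cfsg.Agent.S0700

open MulAction in
open scoped Pointwise in
/-- A transitive normal subgroup of a two transitive group which fixes lines is Frobenius or primitive. -/
theorem free_of_block {G : Type*} [Group G] {Ω : Type*} [MulAction G Ω] [Finite Ω]
    (h2 : ∀ a b c d : Ω, a ≠ b → c ≠ d → ∃ g : G, g • a = c ∧ g • b = d)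
    (N : Subgroup G) [N.Normal] [IsPretransitive N Ω] (B : Set Ω) (hB : IsBlock N B)
    (hBs : ¬ B.Subsingleton) (hBu : B ≠ Set.univ) :
    ∀ (n : N) (a b : Ω), a ≠ b → n • a = a → n • b = b → ∀ c : Ω, n • c = c := by
  obtain ⟨Δ, ⟨hΔ, hΔ2, hΔu⟩, hmin⟩ := Set.exists_min_image
    {D : Set Ω | IsBlock N D ∧ ¬ D.Subsingleton ∧ D ≠ Set.univ} (fun D => D.ncard)
    (Set.toFinite _) ⟨B, hB, hBs, hBu⟩
  -- translates of the block
  have hblk : ∀ g : G, IsBlock N (g • Δ) := by
    intro g
    rw [isBlock_iff_smul_eq_of_nonempty]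
    intro n hn
    let m : N := ⟨g⁻¹ * n * g, by simpa using ‹N.Normal›.conj_mem _ n.2 g⁻¹⟩
    have he : n • (g • Δ) = g • (m • Δ) := by
      change (n : G) • (g • Δ) = g • ((m : G) • Δ)
      rw [smul_smul, smul_smul]
      congr 1
      simp only [m]; group
    rw [he] at hn ⊢
    obtain ⟨x, hx1, hx2⟩ := hn
    rw [hΔ.smul_eq_of_nonempty ⟨g⁻¹ • x, Set.mem_smul_set_iff_inv_smul_mem.mp hx1,
      Set.mem_smul_set_iff_inv_smul_mem.mp hx2⟩]
  have huniq : ∀ (g h : G) (x y : Ω), x ≠ y → x ∈ g • Δ → y ∈ g • Δ → x ∈ h • Δ → y ∈ h • Δ →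
      g • Δ = h • Δ := by
    intro g h x y hxy hxg hyg hxh hyh
    have key : ∀ g h : G, x ∈ g • Δ → y ∈ g • Δ → x ∈ h • Δ → y ∈ h • Δ → g • Δ ⊆ h • Δ := by
      intro g h hxg hyg hxh hyh
      by_contra hns
      -- pulling the intersection back gives a smaller block
      let D : Set Ω := Δ ∩ (g⁻¹ * h) • Δ
      have hDblk : IsBlock N D := hΔ.inter (hblk _)
      have hD : ∀ z, z ∈ g • Δ → z ∈ h • Δ → g⁻¹ • z ∈ D := fun z h1 h2 =>
        ⟨Set.mem_smul_set_iff_inv_smul_mem.mp h1, by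
          rw [mul_smul]; exact Set.smul_mem_smul_set h2⟩
      have hD2 : ¬ D.Subsingleton := fun hs =>
        hxy (MulAction.injective g⁻¹ (hs (hD x hxg hxh) (hD y hyg hyh)))
      have hDlt : D ⊂ Δ := by
        refine ⟨Set.inter_subset_left, fun hsub => hns fun z hz => ?_⟩
        have := (hsub (Set.mem_smul_set_iff_inv_smul_mem.mp hz)).2
        rw [mul_smul, Set.smul_mem_smul_set_iff] at this
        exact this
      have hDu : D ≠ Set.univ := fun hu =>
        hΔu (Set.eq_univ_of_univ_subset (hu ▸ hDlt.subset))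
      exact absurd (hmin D ⟨hDblk, hD2, hDu⟩) (not_le.mpr (Set.ncard_lt_ncard hDlt))
    exact Set.Subset.antisymm (key g h hxg hyg hxh hyh) (key h g hxh hyh hxg hyg)
  obtain ⟨p, hp, q, hq, hpq⟩ := Set.not_subsingleton_iff.mp hΔ2
  have hline : ∀ x y : Ω, x ≠ y → ∃ g : G, x ∈ g • Δ ∧ y ∈ g • Δ := by
    intro x y hxy
    obtain ⟨g, rfl, rfl⟩ := h2 p q x y hpq hxy
    exact ⟨g, Set.smul_mem_smul_set hp, Set.smul_mem_smul_set hq⟩
  have hfix : ∀ (n : N) (g : G) (x : Ω), n • x = x → x ∈ g • Δ → ∀ z ∈ g • Δ, n • z ∈ g • Δ := by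
    intro n g x hnx hx z hz
    rw [← (hblk g).smul_eq_of_mem hx (a := x) (by rw [hnx]; exact hx)]
    exact Set.smul_mem_smul_set hz
  intro n a b hab hna hnb
  obtain ⟨l, hal, hbl⟩ := hline a b hab
  have houtside : ∀ (u v : Ω) (m : G), u ≠ v → n • u = u → n • v = v → u ∈ m • Δ → v ∈ m • Δ →
      ∀ c, c ∉ m • Δ → n • c = c := by
    intro u v m huv hnu hnv hum hvm c hc
    have hcu : u ≠ c := fun h => hc (h ▸ hum)
    have hcv : v ≠ c := fun h => hc (h ▸ hvm)
    obtain ⟨g, hug, hcg⟩ := hline u c hcu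
    obtain ⟨h, hvh, hch⟩ := hline v c hcv
    by_contra hne
    have he : g • Δ = h • Δ :=
      huniq g h c (n • c) (Ne.symm hne) hcg (hfix n g u hnu hug c hcg) hch (hfix n h v hnv hvh c hch)
    rw [← he] at hvh
    exact hc (huniq g m u v huv hug hvh hum hvm ▸ hcg)
  intro d
  by_cases hd : d ∈ l • Δ
  · by_cases hda : d = a
    · rw [hda]; exact hna
    obtain ⟨c, hc⟩ : ∃ c, c ∉ l • Δ := by
      by_contra! hall
      refine hΔu (Set.eq_univ_of_forall fun z => ?_)
      exact Set.smul_mem_smul_set_iff.mp (hall (l • z))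
    have hnc := houtside a b l hab hna hnb hal hbl c hc
    have hac : a ≠ c := fun h => hc (h ▸ hal)
    obtain ⟨m, ham, hcm⟩ := hline a c hac
    refine houtside a c m hac hna hnc ham hcm d fun hdm => hc ?_
    exact huniq m l a d (Ne.symm hda) ham hdm hal hd ▸ hcm
  · exact houtside a b l hab hna hnb hal hbl d hd

open MulAction in
/-- A primitive group whose point stabiliser has equally sized orbits on the other points cannot
have two commuting minimal normal subgroups which generate it. -/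
theorem no_double {N : Type*} [Group N] [Finite N] {Ω : Type*} [MulAction N Ω] [FaithfulSMul N Ω]
    (T U : Subgroup N) [IsPretransitive T Ω] [IsPretransitive U Ω]
    (hcomm : ∀ t ∈ T, ∀ u ∈ U, t * u = u * t) (htop : ∀ h : N, ∃ t ∈ T, ∃ u ∈ U, t * u = h)
    (a : Ω) (heq : ∀ b c : Ω, b ≠ a → c ≠ a →
      (orbit (stabilizer N a) b).ncard = (orbit (stabilizer N a) c).ncard) :
    ∀ x ∈ T, ∀ y ∈ T, x * y = y * x := by
  have hTinj : ∀ t t' : T, (t : N) • a = (t' : N) • a → t = t' := by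
    intro t t' h
    have h1 : ((t'⁻¹ * t : T) : N) • a = a := by
      rw [Subgroup.coe_mul, mul_smul, Subgroup.coe_inv, inv_smul_eq_iff]; exact h
    have h2 : ((t'⁻¹ * t : T) : N) = 1 := by
      refine eq_of_smul_eq_smul (α := Ω) fun x => ?_
      rw [one_smul]
      refine CfsgLib.Perm.Basic.eq_self_of_commute (G := U)
        (c := fun z => ((t'⁻¹ * t : T) : N) • z) (fun u z => ?_) (a := a) h1 x
      change ((t'⁻¹ * t : T) : N) • (u : N) • z = (u : N) • ((t'⁻¹ * t : T) : N) • z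
      rw [smul_smul, smul_smul, hcomm _ (t'⁻¹ * t).2 _ u.2]
    exact (inv_mul_eq_one.mp (Subtype.ext h2 : t'⁻¹ * t = 1)).symm
  have horb : ∀ t : T, orbit (stabilizer N a) ((t : N) • a) =
      (fun x : T => (x : N) • a) '' (ConjClasses.mk t).carrier := by
    intro t
    ext z
    simp only [Set.mem_image, ConjClasses.mem_carrier_iff_mk_eq, ConjClasses.mk_eq_mk_iff_isConj,
      isConj_iff, mem_orbit_iff]
    constructor
    · rintro ⟨⟨h, hh⟩, rfl⟩
      obtain ⟨x, hx, u, hu, rfl⟩ := htop h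
      refine ⟨⟨x, hx⟩ * t * ⟨x, hx⟩⁻¹, ⟨⟨x, hx⟩⁻¹, by group⟩, ?_⟩
      change (x * (t : N) * x⁻¹) • a = (x * u) • (t : N) • a
      rw [mem_stabilizer_iff] at hh
      rw [smul_smul, mul_assoc x u, ← hcomm _ t.2 u hu, mul_assoc x (t : N) x⁻¹,
        mul_smul x, mul_smul (t : N), mul_smul x, mul_smul (t : N)]
      congr 2
      rw [inv_smul_eq_iff, smul_smul]
      exact hh.symm
    · rintro ⟨y, ⟨x, hx⟩, rfl⟩
      obtain ⟨u, hu⟩ := exists_smul_eq U a ((x : N) • a)
      have hu' : (u : N) • a = (x : N) • a := hu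
      refine ⟨⟨(x : N)⁻¹ * u, ?_⟩, ?_⟩
      · rw [mem_stabilizer_iff, mul_smul, hu', inv_smul_smul]
      · change ((x : N)⁻¹ * u) • (t : N) • a = (y : N) • a
        have hy : y = x⁻¹ * t * x := by rw [← hx]; group
        rw [hy, smul_smul, mul_assoc, ← hcomm _ t.2 _ u.2, mul_smul, mul_smul (t : N), hu',
          smul_smul, smul_smul]
        simp [mul_assoc]
  have hsize : ∀ t : T, Nat.card (ConjClasses.mk t).carrier =
      (orbit (stabilizer N a) ((t : N) • a)).ncard := by
    intro t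
    rw [horb t, Set.ncard_image_of_injective _ fun x y h => hTinj x y h, Nat.card_coe_set_eq]
  by_contra hcon
  push Not at hcon
  obtain ⟨x, hx, y, hy, hxy⟩ := hcon
  let x₀ : T := ⟨x, hx⟩
  have hxc : x₀ ∉ Subgroup.center T := fun h =>
    hxy (congrArg Subtype.val (Subgroup.mem_center_iff.mp h ⟨y, hy⟩)).symm
  have hx1 : x₀ ≠ 1 := fun h => hxc (h ▸ Subgroup.one_mem _)
  have hne : ∀ t : T, t ≠ 1 → (t : N) • a ≠ a := fun t ht h =>
    ht (hTinj t 1 (by rw [Subgroup.coe_one, one_smul]; exact h))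
  set s := Nat.card (ConjClasses.mk x₀).carrier with hs
  have hall : ∀ t : T, t ≠ 1 → Nat.card (ConjClasses.mk t).carrier = s := fun t ht => by
    rw [hs, hsize t, hsize x₀, heq _ _ (hne t ht) (hne x₀ hx1)]
  have hmemc : ∀ t : T, t ∈ Subgroup.center T ↔ Nat.card (ConjClasses.mk t).carrier = 1 := by
    intro t
    rw [Nat.card_coe_set_eq, Set.ncard_eq_one]
    constructor
    · intro ht
      refine ⟨t, Set.ext fun z => ?_⟩
      rw [ConjClasses.mem_carrier_iff_mk_eq, ConjClasses.mk_eq_mk_iff_isConj, isConj_comm,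
        isConj_iff, Set.mem_singleton_iff]
      constructor
      · rintro ⟨c, rfl⟩
        rw [Subgroup.mem_center_iff.mp ht c, mul_inv_cancel_right]
      · rintro rfl
        exact ⟨1, by group⟩
    · rintro ⟨w, hw⟩
      rw [Subgroup.mem_center_iff]
      intro c
      have h1 : c * t * c⁻¹ ∈ (ConjClasses.mk t).carrier := by
        rw [ConjClasses.mem_carrier_iff_mk_eq, ConjClasses.mk_eq_mk_iff_isConj, isConj_comm, isConj_iff]
        exact ⟨c, rfl⟩
      have h2 : t ∈ (ConjClasses.mk t).carrier := ConjClasses.mem_carrier_mk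
      rw [hw, Set.mem_singleton_iff] at h1 h2
      exact mul_inv_eq_iff_eq_mul.mp (h1.trans h2.symm)
  have hcen : Nat.card (Subgroup.center T) = 1 := by
    rw [Subgroup.card_eq_one, Subgroup.eq_bot_iff_forall]
    intro t ht
    by_contra ht1
    exact hxc ((hmemc x₀).mpr (((hall t ht1).symm).trans ((hmemc t).mp ht)))
  have hclass := Group.nat_card_center_add_sum_card_noncenter_eq_card T
  rw [hcen] at hclass
  have hdvd : s ∣ ∑ᶠ c ∈ ConjClasses.noncenter T, Nat.card c.carrier := by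
    rw [finsum_mem_eq_finite_toFinset_sum _ (Set.toFinite _)]
    refine Finset.dvd_sum fun c hc => ?_
    obtain ⟨t, rfl⟩ := ConjClasses.exists_rep c
    rw [Set.Finite.mem_toFinset, ConjClasses.mem_noncenter] at hc
    rw [hall t]
    rintro rfl
    refine Set.not_subsingleton_iff.mpr hc fun u hu v hv => ?_
    rw [ConjClasses.mem_carrier_iff_mk_eq, ConjClasses.mk_eq_mk_iff_isConj, isConj_one_left] at hu hv
    rw [hu, hv]
  have hsT : s ∣ Nat.card T := by
    have h := Subgroup.index_dvd_card (MulAction.stabilizer (ConjAct T) x₀)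
    rw [MulAction.index_stabilizer, ConjAct.orbit_eq_carrier_conjClasses, ← Nat.card_coe_set_eq] at h
    exact h
  have h1 : s ∣ 1 := (Nat.dvd_add_left hdvd).mp (hclass ▸ hsT)
  exact hxc ((hmemc x₀).mpr (Nat.dvd_one.mp h1))

/-- Burnside's Theorem on doubly transitive groups: a minimal normal subgroup of a finite doubly transitive permutation group is elementary abelian and regular, or simple and primitive. -/
theorem result {α : Type*} [Fintype α] [DecidableEq α] (G : Subgroup (Equiv.Perm α)) (hG : MulAction.IsMultiplyPretransitive G α 2) (N : Subgroup G) [N.Normal] (hN : N ≠ ⊥) (hmin : ∀ M : Subgroup G, M.Normal → M ≤ N → M = ⊥ ∨ M = N) : (IsMulCommutative N ∧ (∃ p : ℕ, p.Prime ∧ ∀ n ∈ N, n ^ p = 1) ∧ ∀ a : α, MulAction.stabilizer N a = ⊥) ∨ (IsSimpleGroup N ∧ MulAction.IsPreprimitive N α) := by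
  open MulAction in
  classical
  have h2 : ∀ a b c d : α, a ≠ b → c ≠ d → ∃ g : G, g • a = c ∧ g • b = d := fun a b c d hab hcd =>
    CfsgLib.Perm.Sharp2.pair_transitive hG hab hcd
  haveI : IsPreprimitive G α := isPreprimitive_of_is_two_pretransitive hG
  haveI hNt : IsPretransitive N α := CfsgLib.Perm.Normal.isPretransitive_normal N hN
  obtain ⟨n₀, hn₀, hn₀1⟩ := (Subgroup.bot_or_exists_ne_one N).resolve_left hN
  obtain ⟨a₀, ha₀⟩ : ∃ a : α, n₀ • a ≠ a := by
    by_contra! h
    exact hn₀1 (eq_of_smul_eq_smul (α := α) fun x => by rw [h x, one_smul])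
  haveI : Nontrivial α := ⟨⟨_, _, ha₀⟩⟩
  haveI : Nontrivial N := (Subgroup.nontrivial_iff_ne_bot N).2 hN
  -- invariant subgroups of N are trivial
  have hchar : ∀ K : Subgroup N, (∀ g : G, ∀ n ∈ K, MulAut.conjNormal g n ∈ K) → K = ⊥ ∨ K = ⊤ := by
    intro K hK
    have hnorm : (K.map N.subtype).Normal := ⟨by
      rintro _ ⟨n, hn, rfl⟩ g
      exact ⟨MulAut.conjNormal g n, hK g n hn, MulAut.conjNormal_apply g n⟩⟩
    rcases hmin _ hnorm (Subgroup.map_subtype_le K) with h | h
    · exact Or.inl ((Subgroup.map_eq_bot_iff_of_injective _ N.subtype_injective).1 h)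
    · refine Or.inr ((Subgroup.eq_top_iff' K).2 fun n => ?_)
      obtain ⟨m, hm, hmn⟩ : (n : G) ∈ K.map N.subtype := by rw [h]; exact n.2
      rwa [← Subtype.ext hmn]
  by_cases hreg : ∀ a : α, stabilizer N a = ⊥
  · left
    have hconj : ∀ x y : N, x ≠ 1 → y ≠ 1 → ∃ g : G, MulAut.conjNormal g x = y := by
      intro x y hx hy
      have hne : ∀ z : N, z ≠ 1 → a₀ ≠ z • a₀ := fun z hz h => hz (by
        have : z ∈ stabilizer N a₀ := h.symm
        rwa [hreg, Subgroup.mem_bot] at this)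
      obtain ⟨g, hga, hgx⟩ := h2 a₀ (x • a₀) a₀ (y • a₀) (hne x hx) (hne y hy)
      refine ⟨g, CfsgLib.Perm.Normal.regular_inj hreg (x := a₀) ?_⟩
      rw [MulAut.conjNormal_apply, mul_smul, mul_smul, inv_smul_eq_iff.mpr hga.symm]
      exact hgx
    obtain ⟨p, hp, hpd⟩ := Nat.exists_prime_and_dvd (Finite.one_lt_card (α := N)).ne'
    haveI := Fact.mk hp
    obtain ⟨z, hz⟩ := exists_prime_orderOf_dvd_card' p hpd
    have hz1 : z ≠ 1 := fun h => hp.one_lt.ne' (by rw [← hz, h, orderOf_one])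
    have hord : ∀ n : N, n ^ p = 1 := by
      intro n
      rcases eq_or_ne n 1 with rfl | hn
      · exact one_pow p
      · obtain ⟨g, rfl⟩ := hconj z n hz1 hn
        rw [← map_pow, ← hz, pow_orderOf_eq_one, map_one]
    have hP : IsPGroup p N := fun n => ⟨1, by rw [pow_one]; exact hord n⟩
    haveI := hP.center_nontrivial
    have htop : Subgroup.center N = ⊤ := by
      refine (hchar _ fun g n hn => ?_).resolve_left ((Subgroup.nontrivial_iff_ne_bot _).1 inferInstance)
      have h := (inferInstance : (Subgroup.center N).Characteristic).fixed (MulAut.conjNormal g)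
      rw [← h] at hn
      exact hn
    refine ⟨⟨⟨fun x y => ?_⟩⟩, ⟨p, hp, fun n hn => congrArg Subtype.val (hord ⟨n, hn⟩)⟩, hreg⟩
    have hy : y ∈ Subgroup.center N := htop ▸ Subgroup.mem_top y
    exact (Subgroup.mem_center_iff.mp hy x)
  right
  push Not at hreg
  obtain ⟨a, hHne⟩ := hreg
  -- primitivity
  haveI hprim : IsPreprimitive N α := by
    refine ⟨fun {B} hB => ?_⟩
    by_contra hBt
    simp only [IsTrivialBlock, not_or] at hBt
    have hfree := free_of_block (G := G) h2 N B hB hBt.1 hBt.2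
    have hH : Cfsg.IsFrobeniusComplement (stabilizer N a) := by
      refine ⟨hHne, fun htop => ?_, fun g hg => ?_⟩
      · obtain ⟨b, hb⟩ := exists_ne a
        obtain ⟨m, rfl⟩ := exists_smul_eq N a b
        exact hb (htop ▸ Subgroup.mem_top m : m ∈ stabilizer N a)
      · rw [Subgroup.eq_bot_iff_forall]
        rintro x ⟨hx, hx'⟩
        replace hx' := CfsgLib.FrobRealize.Kernel.mem_conj_smul.mp hx'
        refine eq_of_smul_eq_smul (α := α) fun z => ?_
        rw [one_smul]
        refine hfree x a (g • a) (fun h => hg h.symm) hx ?_ z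
        rw [mem_stabilizer_iff, mul_smul, mul_smul, inv_smul_eq_iff] at hx'
        exact hx'
    obtain ⟨K, hKset, -, hKc⟩ := CfsgLib.FrobRealize.exists_normal_kernel hH
    have hmemK : ∀ x : N, x ∈ K ↔ x = 1 ∨ ∀ z : α, x • z ≠ z := by
      intro x
      rw [← SetLike.mem_coe, hKset]
      refine or_congr Iff.rfl ⟨fun h z hz => ?_, fun h g hg => ?_⟩
      · obtain ⟨m, rfl⟩ := exists_smul_eq N a z
        refine h m (CfsgLib.FrobRealize.Kernel.mem_conj_smul.mpr ?_)
        rw [mem_stabilizer_iff, mul_smul, mul_smul, hz, inv_smul_smul]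
      · rw [CfsgLib.FrobRealize.Kernel.mem_conj_smul, mem_stabilizer_iff, mul_smul, mul_smul,
          inv_smul_eq_iff] at hg
        exact h (g • a) hg
    rcases hchar K (fun g x hx => by
        rw [hmemK] at hx ⊢
        rcases hx with rfl | hx
        · exact Or.inl (map_one _)
        refine Or.inr fun z hz => hx (g⁻¹ • z) ?_
        change (MulAut.conjNormal g x : G) • z = z at hz
        rw [MulAut.conjNormal_apply, mul_smul, mul_smul] at hz
        exact eq_inv_smul_iff.mpr hz) with h | h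
    · subst h
      exact hH.2.1 (Subgroup.isComplement'_bot_left.mp hKc)
    · subst h
      exact hH.1 (Subgroup.isComplement'_top_left.mp hKc)
  refine ⟨?_, hprim⟩
  refine ⟨fun L hL => ?_⟩
  by_contra hLt
  push Not at hLt
  obtain ⟨T, hTm⟩ := (Set.toFinite {K : Subgroup N | K.Normal ∧ K ≠ ⊥}).exists_le_minimal
    (show L ∈ {K : Subgroup N | K.Normal ∧ K ≠ ⊥} from ⟨hL, hLt.1⟩)
  obtain ⟨hTL, ⟨hTn, hTb⟩, hTmin⟩ : T ≤ L ∧ (T.Normal ∧ T ≠ ⊥) ∧
      ∀ K : Subgroup N, K.Normal → K ≠ ⊥ → K ≤ T → T ≤ K :=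
    ⟨hTm.1, hTm.2.1, fun K h1 h2 h3 => hTm.2.2 ⟨h1, h2⟩ h3⟩
  haveI := hTn
  haveI hTt : IsPretransitive T α := CfsgLib.Perm.Normal.isPretransitive_normal T hTb
  have hTtop : T ≠ ⊤ := fun h => hLt.2 (top_le_iff.mp (h ▸ hTL))
  obtain ⟨g, n, hn, hgn⟩ : ∃ g : G, ∃ n ∈ T, MulAut.conjNormal g n ∉ T := by
    by_contra! h
    rcases hchar T h with h' | h'
    · exact hTb h'
    · exact hTtop h'
  let U : Subgroup N := T.map (MulAut.conjNormal g).toMonoidHom
  haveI hUn : U.Normal := hTn.map _ (MulAut.conjNormal g).surjective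
  have hUb : U ≠ ⊥ := fun h => hTb ((Subgroup.map_eq_bot_iff_of_injective _ (MulAut.conjNormal g).injective).1 h)
  haveI hUt : IsPretransitive U α := CfsgLib.Perm.Normal.isPretransitive_normal U hUb
  -- conjugates of T are minimal
  have hmin' : ∀ (k : G) (K : Subgroup N), K.Normal → K ≤ T.map (MulAut.conjNormal k).toMonoidHom →
      K = ⊥ ∨ K = T.map (MulAut.conjNormal k).toMonoidHom := by
    intro k K hK hle
    by_cases hb : K = ⊥
    · exact Or.inl hb
    refine Or.inr (le_antisymm hle ?_)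
    rintro _ ⟨t, ht, rfl⟩
    exact hTmin (K.comap (MulAut.conjNormal k).toMonoidHom) (hK.comap _)
      (fun h => hb (by rw [← Subgroup.map_comap_eq_self_of_surjective
        (f := (MulAut.conjNormal k).toMonoidHom) (MulAut.conjNormal k).surjective K, h, Subgroup.map_bot]))
      (fun x hx => by
        obtain ⟨t', ht', he⟩ := hle hx
        exact (MulAut.conjNormal k).injective he ▸ ht') ht
  have hdis : T ⊓ U = ⊥ := by
    rcases hmin' g (T ⊓ U) inferInstance inf_le_right with h | h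
    · exact h
    exfalso
    refine hgn ?_
    have : MulAut.conjNormal g n ∈ T ⊓ U := h.symm ▸ Subgroup.mem_map_of_mem _ hn
    exact this.1
  have hcomm : ∀ t ∈ T, ∀ u ∈ U, t * u = u * t := fun t ht u hu =>
    Subgroup.commute_of_normal_of_disjoint T U hTn hUn (disjoint_iff.2 hdis) t u ht hu
  have hUinj : ∀ c : N, (∀ t ∈ T, t * c = c * t) → c • a = a → c = 1 := fun c hc h =>
    eq_of_smul_eq_smul (α := α) fun x => by
      rw [one_smul]
      refine CfsgLib.Perm.Basic.eq_self_of_commute (G := T) (c := fun z => c • z) (fun t z => ?_) (a := a) h x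
      change c • (t : N) • z = (t : N) • c • z
      rw [smul_smul, smul_smul, hc t t.2]
  -- the centraliser of T is U
  have hcent : ∀ c : N, (∀ t ∈ T, t * c = c * t) → c ∈ U := by
    intro c hc
    obtain ⟨⟨u, hu⟩, hu'⟩ := exists_smul_eq U a (c • a)
    have h1 : u • a = c • a := hu'
    have h2 : u⁻¹ * c = 1 := by
      refine hUinj _ (fun t ht => ?_) (by rw [mul_smul, inv_smul_eq_iff, h1])
      rw [← mul_assoc, hcomm t ht _ (U.inv_mem hu), mul_assoc, hc t ht, mul_assoc]
    rwa [← inv_mul_eq_one.mp h2]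
  have hTnc : ¬ ∀ x ∈ T, ∀ y ∈ T, x * y = y * x := fun h => by
    refine hTb ((Subgroup.eq_bot_iff_forall T).2 fun t ht => ?_)
    have : t ∈ T ⊓ U := ⟨ht, hcent t fun x hx => h x hx t ht⟩
    rw [hdis] at this
    exact this
  have htop : T ⊔ U = ⊤ := by
    refine (hchar _ fun k m hm => ?_).resolve_left fun h => hTb (le_bot_iff.mp (h ▸ le_sup_left))
    have himg : ∀ h : G, T.map (MulAut.conjNormal h).toMonoidHom ≤ T ⊔ U := by
      intro h
      haveI : (T.map (MulAut.conjNormal h).toMonoidHom).Normal :=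
        hTn.map _ (MulAut.conjNormal h).surjective
      rcases hmin' h (T ⊓ T.map (MulAut.conjNormal h).toMonoidHom) inferInstance inf_le_right with h' | h'
      · exact le_sup_of_le_right fun x hx => hcent x fun t ht =>
          Subgroup.commute_of_normal_of_disjoint T _ hTn inferInstance (disjoint_iff.2 h') t x ht hx
      · exact le_sup_of_le_left (h' ▸ inf_le_left)
    obtain ⟨t, ht, u, hu, rfl⟩ := Subgroup.mem_sup_of_normal_right.mp hm
    obtain ⟨u', hu', rfl⟩ := hu
    rw [map_mul]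
    refine mul_mem (himg k ⟨t, ht, rfl⟩) (himg (k * g) ⟨u', hu', ?_⟩)
    rw [map_mul]
    rfl
  apply hTnc
  refine no_double T U hcomm (fun h => Subgroup.mem_sup_of_normal_right.mp (htop ▸ Subgroup.mem_top h)) a ?_
  intro b c hb hc
  obtain ⟨k, hka, hkb⟩ := h2 a b a c hb.symm hc.symm
  rw [← Set.ncard_image_of_injective (orbit (stabilizer N a) b) (MulAction.injective k)]
  congr 1
  ext z
  simp only [Set.mem_image, mem_orbit_iff]
  constructor
  · rintro ⟨_, ⟨⟨h, hh⟩, rfl⟩, rfl⟩
    refine ⟨⟨MulAut.conjNormal k h, ?_⟩, ?_⟩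
    · change (MulAut.conjNormal k h : G) • a = a
      rw [MulAut.conjNormal_apply, mul_smul, mul_smul, inv_smul_eq_iff.mpr hka.symm]
      change k • h • a = a
      rw [mem_stabilizer_iff.mp hh, hka]
    · change (MulAut.conjNormal k h : G) • c = k • (h : G) • b
      rw [MulAut.conjNormal_apply, mul_smul, mul_smul, inv_smul_eq_iff.mpr hkb.symm]
  · rintro ⟨⟨h, hh⟩, rfl⟩
    refine ⟨_, ⟨⟨MulAut.conjNormal k⁻¹ h, ?_⟩, rfl⟩, ?_⟩
    · change (MulAut.conjNormal k⁻¹ h : G) • a = a
      rw [MulAut.conjNormal_apply, mul_smul, mul_smul, inv_inv, hka]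
      change k⁻¹ • h • a = a
      rw [mem_stabilizer_iff.mp hh, inv_smul_eq_iff, hka]
    · change k • (MulAut.conjNormal k⁻¹ h : G) • b = (h : G) • c
      rw [MulAut.conjNormal_apply, mul_smul, mul_smul, inv_inv, hkb, smul_inv_smul]

end Cfsg.Agent.S0700
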