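import Cfsg.Statements.S0701
import Cfsg.Agent.Lib.Perm.Basic

set_option autoImplicit false
open Cfsg

namespace Cfsg.Agent.S0701

/-- The centraliser in the full symmetric group of a transitive permutation group `G` is semiregular, and it is transitive if and only if `G` is regular. -/
theorem result {α : Type*} (G : Subgroup (Equiv.Perm α)) [MulAction.IsPretransitive G α] : (∀ c ∈ Subgroup.centralizer (G : Set (Equiv.Perm α)), ∀ a : α, c a = a → c = 1) ∧ (MulAction.IsPretransitive (Subgroup.centralizer (G : Set (Equiv.Perm α))) α ↔ ∀ a : α, MulAction.stabilizer G a = ⊥) := by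
  have comm : ∀ c ∈ Subgroup.centralizer (G : Set (Equiv.Perm α)), ∀ (g : G) (x : α),
      c (g • x) = g • c x := fun c hc g x =>
    (congrArg (fun σ : Equiv.Perm α => σ x) (Subgroup.mem_centralizer_iff.mp hc g g.2)).symm
  have hsemi : ∀ c ∈ Subgroup.centralizer (G : Set (Equiv.Perm α)), ∀ a : α, c a = a → c = 1 :=
    fun c hc a ha => Equiv.ext fun x =>
      CfsgLib.Perm.Basic.eq_self_of_commute (G := G) (c := c) (comm c hc) ha x
  refine ⟨hsemi, ⟨fun ht a => ?_, fun hreg => ⟨fun a b => ?_⟩⟩⟩
  · rw [Subgroup.eq_bot_iff_forall]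
    intro g hg
    apply Subtype.ext
    refine Equiv.ext fun x => ?_
    obtain ⟨⟨c, hc⟩, rfl⟩ :=
      MulAction.exists_smul_eq (Subgroup.centralizer (G : Set (Equiv.Perm α))) a x
    change g • c a = c a
    rw [← comm c hc, MulAction.mem_stabilizer_iff.mp hg]
  · have huniq : ∀ {x : α} {g g' : G}, g • x = g' • x → g = g' := fun {x g g'} h => by
      have : g'⁻¹ * g ∈ MulAction.stabilizer G x := by
        rw [MulAction.mem_stabilizer_iff, mul_smul, h, inv_smul_smul]
      rw [hreg, Subgroup.mem_bot, inv_mul_eq_one] at this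
      exact this.symm
    have hbij : ∀ z : α, Function.Bijective (fun g : G => g • z) := fun z =>
      ⟨fun g g' h => huniq h, fun y => MulAction.exists_smul_eq G z y⟩
    let e : α ≃ α := (Equiv.ofBijective _ (hbij a)).symm.trans (Equiv.ofBijective _ (hbij b))
    have he : ∀ g : G, e (g • a) = g • b := fun g => by
      change (Equiv.ofBijective _ (hbij b)) ((Equiv.ofBijective _ (hbij a)).symm
        ((Equiv.ofBijective _ (hbij a)) g)) = _
      rw [Equiv.symm_apply_apply]; rfl
    refine ⟨⟨e, Subgroup.mem_centralizer_iff.mpr fun g hg => Equiv.ext fun x => ?_⟩, ?_⟩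
    · obtain ⟨k, rfl⟩ := MulAction.exists_smul_eq G a x
      change g (e (k • a)) = e ((⟨g, hg⟩ : G) • k • a)
      rw [smul_smul, he, he, mul_smul]
      rfl
    · change e a = b
      simpa using he 1

end Cfsg.Agent.S0701
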