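import Cfsg.Statements.S0702
import Cfsg.Agent.Lib.Perm.Basic

set_option autoImplicit false
open Cfsg

namespace Cfsg.Agent.S0702

/-- For a transitive permutation group `G` on a finite set, the centraliser of `G` in the symmetric group is isomorphic to `N_G(G_ω)/G_ω`, and its orbit of `ω` is the set of fixed points of `G_ω`. -/
theorem result {α : Type*} [Finite α] (G : Subgroup (Equiv.Perm α)) [MulAction.IsPretransitive G α] (a : α) : Nonempty (Subgroup.centralizer (G : Set (Equiv.Perm α)) ≃* Subgroup.normalizer ((MulAction.stabilizer G a : Subgroup G) : Set G) ⧸ (MulAction.stabilizer G a).subgroupOf (Subgroup.normalizer ((MulAction.stabilizer G a : Subgroup G) : Set G))) ∧ MulAction.orbit (Subgroup.centralizer (G : Set (Equiv.Perm α))) a = MulAction.fixedPoints (MulAction.stabilizer G a) α := by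
  classical
  set A := MulAction.stabilizer G a with hA
  set N := Subgroup.normalizer ((A : Subgroup G) : Set G) with hN
  set C := Subgroup.centralizer (G : Set (Equiv.Perm α)) with hC
  have comm : ∀ c ∈ C, ∀ (g : G) (x : α), c (g • x) = g • c x := fun c hc g x =>
    (congrArg (fun σ : Equiv.Perm α => σ x) (Subgroup.mem_centralizer_iff.mp hc g g.2)).symm
  choose t ht using fun x => MulAction.exists_smul_eq G a x
  have key : ∀ (n : N) (g g' : G), g • a = g' • a →
      g • ((n : G)⁻¹ • a) = g' • ((n : G)⁻¹ • a) := by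
    intro n g g' h
    have h1 : g'⁻¹ * g ∈ A := by
      rw [hA, MulAction.mem_stabilizer_iff, mul_smul, h, inv_smul_smul]
    have h2 : (n : G) * (g'⁻¹ * g) * (n : G)⁻¹ ∈ A := (Subgroup.mem_normalizer_iff.mp n.2 _).mp h1
    rw [hA, MulAction.mem_stabilizer_iff, mul_smul, mul_smul, ← eq_inv_smul_iff, mul_smul,
      inv_smul_eq_iff] at h2
    exact h2
  let F : N → α → α := fun n x => t x • ((n : G)⁻¹ • a)
  have hF : ∀ (n : N) (g : G), F n (g • a) = g • ((n : G)⁻¹ • a) := fun n g =>
    key n _ _ (ht _)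
  have hFmul : ∀ (n m : N) (x : α), F n (F m x) = F (n * m) x := fun n m x => by
    obtain ⟨g, rfl⟩ := MulAction.exists_smul_eq G a x
    rw [hF, hF, smul_smul, hF, mul_smul, Subgroup.coe_mul, mul_inv_rev, mul_smul]
  have hF1 : ∀ x : α, F 1 x = x := fun x => by
    obtain ⟨g, rfl⟩ := MulAction.exists_smul_eq G a x
    rw [hF]; simp
  let P : N → Equiv.Perm α := fun n =>
    ⟨F n, F n⁻¹, fun x => by rw [hFmul, inv_mul_cancel, hF1],
      fun x => by rw [hFmul, mul_inv_cancel, hF1]⟩
  have hPC : ∀ n, P n ∈ C := fun n => Subgroup.mem_centralizer_iff.mpr fun g hg =>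
    Equiv.ext fun x => by
      obtain ⟨k, rfl⟩ := MulAction.exists_smul_eq G a x
      change (⟨g, hg⟩ : G) • F n (k • a) = F n ((⟨g, hg⟩ : G) • k • a)
      rw [hF, ← mul_smul (⟨g, hg⟩ : G) k a, hF, mul_smul]
  let φ : N →* C :=
    { toFun := fun n => ⟨P n, hPC n⟩
      map_one' := Subtype.ext (Equiv.ext hF1)
      map_mul' := fun n m => Subtype.ext (Equiv.ext fun x => (hFmul n m x).symm) }
  have hsurj : ∀ c ∈ C, ∀ k : G, k • a = c a → ∃ n : N, (n : G) = k⁻¹ ∧ P n = c := by
    intro c hc k hk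
    have hfix : ∀ h : G, h ∈ A ↔ h • (k • a) = k • a := by
      intro h
      rw [hk, ← comm c hc, hA, MulAction.mem_stabilizer_iff]
      exact ⟨fun h' => by rw [h'], fun h' => c.injective h'⟩
    have hn : k⁻¹ ∈ N := by
      rw [hN, Subgroup.mem_normalizer_iff]
      intro h
      rw [hfix h, hA, MulAction.mem_stabilizer_iff, inv_inv, mul_smul, mul_smul, inv_smul_eq_iff]
    refine ⟨⟨k⁻¹, hn⟩, rfl, Equiv.ext fun x => ?_⟩
    obtain ⟨g, rfl⟩ := MulAction.exists_smul_eq G a x
    change F _ (g • a) = c (g • a)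
    rw [hF, comm c hc, inv_inv, hk]
  have hφsurj : Function.Surjective φ := fun c => by
    obtain ⟨k, hk⟩ := MulAction.exists_smul_eq G a (c.1 a)
    obtain ⟨n, -, hn⟩ := hsurj c.1 c.2 k hk
    exact ⟨n, Subtype.ext hn⟩
  have hker : φ.ker = A.subgroupOf N := by
    ext n
    rw [MonoidHom.mem_ker, Subgroup.mem_subgroupOf]
    constructor
    · intro h
      have := congrArg (fun σ : C => σ.1 ((1 : G) • a)) h
      change F n ((1 : G) • a) = (1 : G) • a at this
      rw [hF, one_smul, inv_smul_eq_iff] at this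
      exact this.symm
    · intro h
      refine Subtype.ext (Equiv.ext fun x => ?_)
      obtain ⟨g, rfl⟩ := MulAction.exists_smul_eq G a x
      change F n (g • a) = g • a
      rw [hF, MulAction.mem_stabilizer_iff.mp (A.inv_mem h)]
  refine ⟨⟨((QuotientGroup.quotientMulEquivOfEq hker.symm).trans
    (QuotientGroup.quotientKerEquivOfSurjective φ hφsurj)).symm⟩, ?_⟩
  ext b
  rw [MulAction.mem_orbit_iff, MulAction.mem_fixedPoints]
  constructor
  · rintro ⟨c, rfl⟩ h
    change (h : G) • c.1 a = c.1 a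
    rw [← comm c.1 c.2, MulAction.mem_stabilizer_iff.mp h.2]
  · intro hb
    obtain ⟨k, rfl⟩ := MulAction.exists_smul_eq G a b
    have hle : A.map (MulAut.conj k⁻¹).toMonoidHom ≤ A := by
      rintro x ⟨h, hh, rfl⟩
      have := hb ⟨h, hh⟩
      change h • k • a = k • a at this
      rw [hA, MulAction.mem_stabilizer_iff]
      simp only [MulEquiv.coe_toMonoidHom, MulAut.conj_apply, inv_inv, mul_smul, this,
        inv_smul_smul]
    have heq : A.map (MulAut.conj k⁻¹).toMonoidHom = A :=
      Subgroup.eq_of_le_of_card_ge hle (le_of_eq (Subgroup.card_map_of_injective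
        (MulAut.conj k⁻¹).injective).symm)
    have hn : k⁻¹ ∈ N := by
      rw [hN, Subgroup.mem_normalizer_iff]
      intro h
      constructor
      · intro hh
        exact heq ▸ ⟨h, hh, rfl⟩
      · intro hh
        rw [← heq] at hh
        obtain ⟨y, hy, hyy⟩ := hh
        exact (MulAut.conj k⁻¹).injective hyy ▸ hy
    refine ⟨φ ⟨k⁻¹, hn⟩, ?_⟩
    change F ⟨k⁻¹, hn⟩ a = k • a
    conv_lhs => rw [← one_smul G a]
    rw [hF, one_smul, inv_inv]

end Cfsg.Agent.S0702
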