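import Cfsg.Statements.S0703
import Cfsg.Agent.Lib.Perm.Normal

set_option autoImplicit false
open Cfsg

namespace Cfsg.Agent.S0703

/-- An abelian transitive minimal normal subgroup `M` of a permutation group on a finite set is self-centralising in the symmetric group, regular, elementary abelian, and is the unique minimal normal subgroup. -/
theorem result {α : Type*} [Finite α] (G : Subgroup (Equiv.Perm α)) (M : Subgroup G) [M.Normal] (hM : M ≠ ⊥) (hmin : ∀ L : Subgroup G, L.Normal → L ≤ M → L = ⊥ ∨ L = M) (hab : IsMulCommutative M) (htrans : MulAction.IsPretransitive M α) : Subgroup.centralizer ((M.map G.subtype : Subgroup (Equiv.Perm α)) : Set (Equiv.Perm α)) = M.map G.subtype ∧ (∀ a : α, MulAction.stabilizer M a = ⊥) ∧ (∃ p : ℕ, p.Prime ∧ ∀ m ∈ M, m ^ p = 1) ∧ ∀ L : Subgroup G, L.Normal → L ≠ ⊥ → (∀ L' : Subgroup G, L'.Normal → L' ≤ L → L' = ⊥ ∨ L' = L) → L = M := by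
  classical
  open CfsgLib.Perm.Normal in
  have hreg : ∀ a : α, MulAction.stabilizer M a = ⊥ := stabilizer_eq_bot_of_comm M hab
  haveI := htrans
  rcases isEmpty_or_nonempty α with he | ⟨⟨a⟩⟩
  · exfalso
    apply hM
    rw [Subgroup.eq_bot_iff_forall]
    exact fun m _ => Subtype.ext (Subsingleton.elim _ _)
  have hC : Subgroup.centralizer ((M.map G.subtype : Subgroup (Equiv.Perm α)) : Set (Equiv.Perm α)) = M.map G.subtype := by
    refine le_antisymm (fun c hc => ?_) ?_
    · obtain ⟨m, hm⟩ := MulAction.exists_smul_eq M a (c a)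
      refine ⟨(m : G), m.2, Equiv.ext fun x => ?_⟩
      obtain ⟨k, rfl⟩ := MulAction.exists_smul_eq M a x
      have h1 := congrArg (fun σ : Equiv.Perm α => σ a)
        (Subgroup.mem_centralizer_iff.mp hc _ ⟨(k : G), k.2, rfl⟩)
      change k • c a = c (k • a) at h1
      change m • k • a = c (k • a)
      rw [← h1, ← hm, smul_smul, smul_smul, hab.1.comm]
    · rintro _ ⟨m, hm, rfl⟩
      rw [Subgroup.mem_centralizer_iff]
      rintro _ ⟨k, hk, rfl⟩
      exact congrArg (fun z : M => (((z : G) : Equiv.Perm α))) (hab.1.comm ⟨k, hk⟩ ⟨m, hm⟩)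
  refine ⟨hC, hreg, ?_, fun L hL hL0 hLmin => ?_⟩
  · haveI : Nontrivial M := (Subgroup.nontrivial_iff_ne_bot M).mpr hM
    obtain ⟨p, hp, hpd⟩ := Nat.exists_prime_and_dvd (n := Nat.card M) Finite.one_lt_card.ne'
    haveI : Fact p.Prime := ⟨hp⟩
    obtain ⟨x, hx⟩ := exists_prime_orderOf_dvd_card' (G := M) p hpd
    let L : Subgroup G :=
      { carrier := {g | g ∈ M ∧ g ^ p = 1}
        one_mem' := ⟨M.one_mem, one_pow p⟩
        mul_mem' := fun {g h} hg hh => ⟨M.mul_mem hg.1 hh.1, by
          rw [(show Commute g h from congrArg Subtype.val (hab.1.comm ⟨g, hg.1⟩ ⟨h, hh.1⟩)).mul_pow, hg.2, hh.2, one_mul]⟩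
        inv_mem' := fun {g} hg => ⟨M.inv_mem hg.1, by rw [inv_pow, hg.2, inv_one]⟩ }
    have hLn : L.Normal := ⟨fun g hg h => ⟨(inferInstance : M.Normal).conj_mem g hg.1 h, by rw [conj_pow, hg.2]; simp⟩⟩
    rcases hmin L hLn (fun g hg => hg.1) with hL | hL
    · exfalso
      have : (x : G) ∈ L := ⟨x.2, by rw [← Subgroup.coe_pow, ← hx, pow_orderOf_eq_one]; rfl⟩
      rw [hL, Subgroup.mem_bot, OneMemClass.coe_eq_one] at this
      rw [this, orderOf_one] at hx
      exact hp.one_lt.ne hx
    · exact ⟨p, hp, fun m hm => (hL.symm ▸ hm : m ∈ L).2⟩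
  · rcases hmin (L ⊓ M) inferInstance inf_le_right with h | h
    · exfalso
      have hLM : L.map G.subtype ≤ M.map G.subtype := by
        rw [← hC]
        rintro _ ⟨l, hl, rfl⟩
        rw [Subgroup.mem_centralizer_iff]
        rintro _ ⟨m, hm, rfl⟩
        exact congrArg Subtype.val ((Subgroup.commute_of_normal_of_disjoint L M hL inferInstance (disjoint_iff.mpr h) l m hl hm).symm.eq)
      rw [Subgroup.map_le_map_iff_of_injective G.subtype_injective] at hLM
      rw [inf_eq_left.mpr hLM] at h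
      exact hL0 h
    · rcases hLmin M inferInstance (h ▸ inf_le_left) with h' | h'
      · exact absurd h' hM
      · exact h'.symm

end Cfsg.Agent.S0703
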