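import Cfsg.Statements.S0704
import Cfsg.Agent.Lib.Perm.Normal

set_option autoImplicit false
open Cfsg

namespace Cfsg.Agent.S0704

/-- Two distinct transitive minimal normal subgroups `M`, `N` of a permutation group are regular, non-abelian, isomorphic, each other's centraliser in the symmetric group, and the only minimal normal subgroups. -/
theorem result {α : Type*} (G : Subgroup (Equiv.Perm α)) (M N : Subgroup G) [M.Normal] [N.Normal] (hM : M ≠ ⊥) (hN : N ≠ ⊥) (hMmin : ∀ L : Subgroup G, L.Normal → L ≤ M → L = ⊥ ∨ L = M) (hNmin : ∀ L : Subgroup G, L.Normal → L ≤ N → L = ⊥ ∨ L = N) (hMN : M ≠ N) (hMt : MulAction.IsPretransitive M α) (hNt : MulAction.IsPretransitive N α) : (∀ a : α, MulAction.stabilizer M a = ⊥) ∧ (∀ a : α, MulAction.stabilizer N a = ⊥) ∧ ¬ IsMulCommutative M ∧ Nonempty (M ≃* N) ∧ Subgroup.centralizer ((M.map G.subtype : Subgroup (Equiv.Perm α)) : Set (Equiv.Perm α)) = N.map G.subtype ∧ Subgroup.centralizer ((N.map G.subtype : Subgroup (Equiv.Perm α)) : Set (Equiv.Perm α)) = M.map G.subtype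 ∧ ∀ L : Subgroup G, L.Normal → L ≠ ⊥ → (∀ L' : Subgroup G, L'.Normal → L' ≤ L → L' = ⊥ ∨ L' = L) → L = M ∨ L = N := by
  classical
  open CfsgLib.Perm.Normal in
  haveI := hMt
  haveI := hNt
  have hdis : Disjoint M N := by
    rw [disjoint_iff]
    rcases hMmin (M ⊓ N) inferInstance inf_le_left with h | h
    · exact h
    · rcases hNmin M inferInstance (h ▸ inf_le_right) with h' | h'
      · exact absurd h' hM
      · exact absurd h' hMN
  have hcomm : ∀ m ∈ M, ∀ n ∈ N, (m : G) * n = n * m := fun m hm n hn =>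
    (Subgroup.commute_of_normal_of_disjoint M N inferInstance inferInstance hdis m n hm hn).eq
  have hsemi : ∀ (A B : Subgroup G), MulAction.IsPretransitive B α → (∀ a ∈ A, ∀ b ∈ B, (a : G) * b = b * a) →
      ∀ x : α, MulAction.stabilizer A x = ⊥ := by
    intro A B hB hAB x
    rw [Subgroup.eq_bot_iff_forall]
    intro a ha
    apply Subtype.ext
    refine eq_of_smul_eq_smul (α := α) fun y => ?_
    rw [Subgroup.coe_one, one_smul]
    refine CfsgLib.Perm.Basic.eq_self_of_commute (G := B) (c := fun z => (a : G) • z) (fun b z => ?_) (a := x) ha y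
    change (a : G) • (b : G) • z = (b : G) • (a : G) • z
    rw [smul_smul, smul_smul, hAB a a.2 b b.2]
  have hMreg := hsemi M N hNt hcomm
  have hNreg := hsemi N M hMt (fun n hn m hm => (hcomm m hm n hn).symm)
  have hcent : ∀ (A B : Subgroup G), MulAction.IsPretransitive A α → MulAction.IsPretransitive B α →
      (∀ a ∈ A, ∀ b ∈ B, (a : G) * b = b * a) →
      Subgroup.centralizer ((A.map G.subtype : Subgroup (Equiv.Perm α)) : Set (Equiv.Perm α)) = B.map G.subtype := by
    intro A B hA hB hAB
    refine le_antisymm (fun c hc => ?_) ?_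
    · rcases isEmpty_or_nonempty α with he | ⟨⟨a⟩⟩
      · exact ⟨1, B.one_mem, Subsingleton.elim _ _⟩
      obtain ⟨b, hb⟩ := MulAction.exists_smul_eq B a (c a)
      refine ⟨(b : G), b.2, Equiv.ext fun x => ?_⟩
      obtain ⟨k, rfl⟩ := MulAction.exists_smul_eq A a x
      have h1 := congrArg (fun σ : Equiv.Perm α => σ a)
        (Subgroup.mem_centralizer_iff.mp hc _ ⟨(k : G), k.2, rfl⟩)
      change (k : G) • c a = c ((k : G) • a) at h1
      change (b : G) • (k : G) • a = c ((k : G) • a)
      rw [← h1, ← hb, smul_smul, ← hAB k k.2 b b.2, mul_smul]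
      rfl
    · rintro _ ⟨b, hb, rfl⟩
      rw [Subgroup.mem_centralizer_iff]
      rintro _ ⟨a, ha, rfl⟩
      exact congrArg Subtype.val (hAB a ha b hb)
  have hCM := hcent M N hMt hNt hcomm
  have hCN := hcent N M hNt hMt (fun n hn m hm => (hcomm m hm n hn).symm)
  obtain ⟨a⟩ : Nonempty α := by
    by_contra he
    rw [not_nonempty_iff] at he
    apply hM
    rw [Subgroup.eq_bot_iff_forall]
    exact fun m _ => Subtype.ext (Subsingleton.elim _ _)
  refine ⟨hMreg, hNreg, fun hab => ?_, ?_, hCM, hCN, fun L hL hL0 hLmin => ?_⟩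
  · have hle : M.map G.subtype ≤ N.map G.subtype := by
      rw [← hCM]
      rintro _ ⟨m, hm, rfl⟩
      rw [Subgroup.mem_centralizer_iff]
      rintro _ ⟨m', hm', rfl⟩
      exact congrArg (fun z : M => ((z : G) : Equiv.Perm α)) (hab.1.comm ⟨m', hm'⟩ ⟨m, hm⟩)
    rw [Subgroup.map_le_map_iff_of_injective G.subtype_injective] at hle
    exact hM (by rw [← inf_eq_left.mpr hle, disjoint_iff.mp hdis])
  · choose f hf using fun m : M => MulAction.exists_smul_eq N a (m⁻¹ • a)
    have hmul : ∀ m m', f (m * m') = f m * f m' := fun m m' => by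
      refine regular_inj hNreg (x := a) ?_
      change f (m * m') • a = (f m * f m') • a
      have hc : ∀ (n : N) (k : M) (x : α), n • k • x = k • n • x := fun n k x => by
        change (n : G) • (k : G) • x = (k : G) • (n : G) • x
        rw [smul_smul, smul_smul, hcomm k k.2 n n.2]
      rw [hf, mul_smul, hf, hc, hf, mul_inv_rev, mul_smul]
    let φ : M →* N := MonoidHom.mk' f hmul
    refine ⟨MulEquiv.ofBijective φ ⟨fun m m' h => inv_injective (regular_inj hMreg (x := a) ?_), fun n => ?_⟩⟩
    · change m⁻¹ • a = m'⁻¹ • a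
      rw [← hf m, ← hf m']
      exact congrArg (fun z : N => z • a) h
    · obtain ⟨m, hm⟩ := MulAction.exists_smul_eq M a (n • a)
      refine ⟨m⁻¹, regular_inj hNreg (x := a) ?_⟩
      change f m⁻¹ • a = n • a
      rw [hf, inv_inv, hm]
  · rcases hLmin (L ⊓ M) inferInstance inf_le_left with h | h
    · right
      have hLN : L.map G.subtype ≤ N.map G.subtype := by
        rw [← hCM]
        rintro _ ⟨l, hl, rfl⟩
        rw [Subgroup.mem_centralizer_iff]
        rintro _ ⟨m, hm, rfl⟩
        exact congrArg Subtype.val ((Subgroup.commute_of_normal_of_disjoint L M hL inferInstance (disjoint_iff.mpr h) l m hl hm).symm.eq)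
      rw [Subgroup.map_le_map_iff_of_injective G.subtype_injective] at hLN
      exact (hNmin L hL hLN).resolve_left hL0
    · left
      exact (hMmin L hL (h ▸ inf_le_right)).resolve_left hL0

end Cfsg.Agent.S0704
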