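import Cfsg.Statements.S0705
import Mathlib

set_option autoImplicit false
open scoped Pointwise
open Cfsg

namespace Cfsg.Agent.S0705

/-- A generously `k`-transitive permutation group (every `(k+1)`-subset has its full symmetric group induced by the setwise stabiliser) of degree greater than `k` is `k`-transitive, and for a `k`-subset the setwise and pointwise stabilisers have the same orbits outside it. -/
theorem result {α : Type*} [Fintype α] [DecidableEq α] (G : Subgroup (Equiv.Perm α)) {k : ℕ} (hk : k < Fintype.card α) (hgen : ∀ s : Finset α, s.card = k + 1 → ∀ σ : Equiv.Perm ↥s, ∃ g ∈ G, ∀ x : ↥s, g (x : α) = σ x) : MulAction.IsMultiplyPretransitive G α k ∧ ∀ s : Finset α, s.card = k → ∀ a b : α, a ∉ s → b ∉ s → (∃ g ∈ G, g • s = s ∧ g a = b) → ∃ g ∈ G, (∀ x ∈ s, g x = x) ∧ g a = b := by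
  classical
  open Pointwise in
  have hswap : ∀ (t : Finset α) (u v : α), t.card < k → u ∉ t → v ∉ t →
      ∃ g ∈ G, (∀ x ∈ t, g x = x) ∧ g u = v := by
    intro t u v ht hu hv
    by_cases huv : u = v
    · exact ⟨1, G.one_mem, fun x _ => rfl, huv⟩
    obtain ⟨s, hts, hs⟩ := Finset.exists_superset_card_eq (s := insert u (insert v t)) (n := k + 1)
      (by have := Finset.card_insert_le u (insert v t); have := Finset.card_insert_le v t; omega) (by omega)
    obtain ⟨g, hg, hgs⟩ := hgen s hs (Equiv.swap ⟨u, hts (by simp)⟩ ⟨v, hts (by simp)⟩)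
    refine ⟨g, hg, fun x hx => ?_, ?_⟩
    · have := hgs ⟨x, hts (by simp [hx])⟩
      rw [Equiv.swap_apply_of_ne_of_ne (fun e => hu (by
          have e' : x = u := congrArg Subtype.val e
          exact e' ▸ hx))
        (fun e => hv (by
          have e' : x = v := congrArg Subtype.val e
          exact e' ▸ hx))] at this
      exact this
    · simpa using hgs ⟨u, hts (by simp)⟩
  refine ⟨(MulAction.isMultiplyPretransitive_iff).mpr fun x y => ?_, ?_⟩
  · suffices ∀ i, i ≤ k → ∃ g : G, ∀ j : Fin k, (j : ℕ) < i → g • x j = y j by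
      obtain ⟨g, hg⟩ := this k le_rfl
      exact ⟨g, Function.Embedding.ext fun j => hg j j.2⟩
    intro i hi
    induction i with
    | zero => exact ⟨1, fun j hj => absurd hj (Nat.not_lt_zero _)⟩
    | succ i ih =>
      obtain ⟨g, hg⟩ := ih (by omega)
      let t : Finset α := (Finset.univ.filter fun j : Fin k => (j : ℕ) < i).map y
      have hnot : ∀ z : α, (∀ j : Fin k, (j : ℕ) < i → z ≠ y j) → z ∉ t := fun z hz hm => by
        simp only [t, Finset.mem_map, Finset.mem_filter, Finset.mem_univ, true_and] at hm
        obtain ⟨j, hj, e⟩ := hm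
        exact hz j hj e.symm
      obtain ⟨h, hh, hht, hhi⟩ := hswap t (g • x ⟨i, by omega⟩) (y ⟨i, by omega⟩) (by
          have hc : t.card ≤ i := by
            rw [Finset.card_map, Fin.card_filter_val_lt]; omega
          omega)
        (hnot _ fun j hj e => by
          rw [← hg j hj] at e
          have := congrArg Fin.val (x.injective (MulAction.injective g e))
          simp at this; omega)
        (hnot _ fun j hj e => by
          have := congrArg Fin.val (y.injective e)
          simp at this; omega)
      refine ⟨⟨h, hh⟩ * g, fun j hj => ?_⟩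
      rw [mul_smul]
      rcases Nat.lt_or_ge (j : ℕ) i with hji | hji
      · rw [hg j hji]
        exact hht _ (Finset.mem_map_of_mem _ (by simp [hji]))
      · have : j = ⟨i, by omega⟩ := Fin.ext (by simp; omega)
        rw [this]; exact hhi
  · rintro s hs a b ha hb ⟨g, hg, hgs, hgab⟩
    have hcard : (insert b s).card = k + 1 := by rw [Finset.card_insert_of_notMem hb, hs]
    have hmem : ∀ x, x ∈ s ↔ g x ∈ s := fun x => by
      constructor
      · intro hx
        rw [← hgs]
        exact Finset.smul_mem_smul_finset hx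
      · intro hx
        rw [← hgs, Finset.mem_smul_finset] at hx
        obtain ⟨y, hy, e⟩ := hx
        exact g.injective e ▸ hy
    have hσ : ∀ x, x ∈ insert b s ↔ (Equiv.swap a b * g⁻¹) x ∈ insert b s := by
      intro x
      have hsb : g.symm b = a := by rw [← hgab, Equiv.symm_apply_apply]
      by_cases hx : x = b
      · subst hx
        simp [Equiv.Perm.inv_def, hsb]
      have hxa : g⁻¹ x ≠ a := fun e => hx (by rw [← hgab, ← e]; simp)
      by_cases hxb : g⁻¹ x = b
      · have hxs : x ∉ s := fun h => hb (hxb ▸ (hmem (g⁻¹ x)).mpr (by simpa using h))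
        have hab' : a ≠ b := fun e => hx (by rw [← hgab, e, ← hxb]; simp)
        simp only [Equiv.Perm.mul_apply, hxb, Equiv.swap_apply_right, Finset.mem_insert, hx, hxs,
          false_or, ha, hab']
      rw [Equiv.Perm.mul_apply, Equiv.swap_apply_of_ne_of_ne hxa hxb]
      simp only [Finset.mem_insert, hx, hxb, false_or]
      rw [hmem (g⁻¹ x)]
      simp
    obtain ⟨h, hh, hhs⟩ := hgen _ hcard ((Equiv.swap a b * g⁻¹).subtypePerm fun x => (hσ x).symm)
    refine ⟨h * g, G.mul_mem hh hg, fun x hx => ?_, ?_⟩
    · rw [Equiv.Perm.mul_apply]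
      rw [hhs ⟨g x, Finset.mem_insert_of_mem ((hmem x).mp hx)⟩]
      simp [Equiv.swap_apply_of_ne_of_ne (show x ≠ a from fun e => ha (e ▸ hx)) (show x ≠ b from fun e => hb (e ▸ hx))]
    · rw [Equiv.Perm.mul_apply, hgab, hhs ⟨b, Finset.mem_insert_self b s⟩]
      simp [Equiv.Perm.inv_def, show g.symm b = a by rw [← hgab, Equiv.symm_apply_apply]]

end Cfsg.Agent.S0705
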