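import Cfsg.Statements.S0706
import Mathlib
import Cfsg.Agent.Lib.Coprime.Generation
import Cfsg.Agent.Lib.Fusion.Thompson

set_option autoImplicit false
open Cfsg
open scoped Pointwise

namespace Cfsg.Agent.S0706

/-- In a generously `k`-transitive permutation group, for a prime `p ≤ k` and a `k`-set `Γ`, there are no `p` points outside `Γ` lying in distinct orbits of the pointwise stabiliser of `Γ` all of length prime to `p` (at most `p - 1` such orbits). -/
theorem result {α : Type*} [Fintype α] [DecidableEq α] (G : Subgroup (Equiv.Perm α)) {k : ℕ} (hk : k < Fintype.card α) (hgen : ∀ s : Finset α, s.card = k + 1 → ∀ σ : Equiv.Perm ↥s, ∃ g ∈ G, ∀ x : ↥s, g (x : α) = σ x) {p : ℕ} (hp : p.Prime) (hpk : p ≤ k) (Γ : Finset α) (hΓ : Γ.card = k) (f : Fin p → α) (hf : ∀ i, f i ∉ Γ) (hdist : ∀ i j, i ≠ j → f j ∉ MulAction.orbit (fixingSubgroup G (Γ : Set α)) (f i)) : ∃ i, p ∣ Nat.card (MulAction.orbit (fixingSubgroup G (Γ : Set α)) (f i)) := by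
  classical
  haveI := Fact.mk hp
  let H : Subgroup G := fixingSubgroup G (Γ : Set α)
  have hmemH : ∀ (h : G), h ∈ H ↔ ∀ a ∈ Γ, h • a = a := fun h => by
    simp [H, mem_fixingSubgroup_iff]
  let R : Subgroup G := MulAction.stabilizer G Γ
  have hRΓ : ∀ r ∈ R, ∀ a ∈ Γ, r • a ∈ Γ := fun r hr a ha => by
    have h1 : r • Γ = Γ := hr
    rw [← h1]
    exact Finset.smul_mem_smul_finset ha
  have hmemR : ∀ r : G, (∀ a ∈ Γ, r • a ∈ Γ) → r ∈ R := fun r hr => by
    refine MulAction.mem_stabilizer_iff.mpr (Finset.eq_of_subset_of_card_le ?_ (Finset.card_smul_finset r Γ).ge)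
    intro b hb
    obtain ⟨a, ha, rfl⟩ := Finset.mem_smul_finset.mp hb
    exact hr a ha
  -- permutations of a `(k+1)`-set containing `Γ` are induced
  have hext : ∀ (x : α), x ∉ Γ → ∀ c : Equiv.Perm α, (∀ a, a ∈ insert x Γ ↔ c a ∈ insert x Γ) →
      ∃ g : G, ∀ a ∈ insert x Γ, g • a = c a := by
    intro x hx c hc
    obtain ⟨g, hg, hga⟩ := hgen (insert x Γ) (by rw [Finset.card_insert_of_notMem hx, hΓ])
      (c.subtypePerm fun a => (hc a).symm)
    exact ⟨⟨g, hg⟩, fun a ha => hga ⟨a, ha⟩⟩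
  -- the orbits of `H` are invariant under `R`
  have horb : ∀ r ∈ R, ∀ x, x ∉ Γ → ∀ y ∈ MulAction.orbit H x, r • y ∈ MulAction.orbit H x := by
    intro r hr x hx y hy
    obtain ⟨h, rfl⟩ := hy
    have hr' : ∀ a, a ∈ Γ ↔ r • a ∈ Γ := fun a => ⟨hRΓ r hr a, fun ha => by
      have := hRΓ r⁻¹ (inv_mem hr) _ ha
      rwa [inv_smul_smul] at this⟩
    let c : Equiv.Perm α := Equiv.swap (r • x) x * MulAction.toPerm r
    have hcx : c x = x := by simp [c]
    have hcΓ : ∀ a ∈ Γ, c a = r • a := fun a ha => by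
      have h1 : r • a ≠ r • x := fun e => hx (smul_left_cancel r e ▸ ha)
      have h2 : r • a ≠ x := fun e => hx (e ▸ hRΓ r hr a ha)
      simp [c, Equiv.swap_apply_of_ne_of_ne h1 h2]
    obtain ⟨g, hg⟩ := hext x hx c (by
      have hfwd : ∀ a, a ∈ insert x Γ → c a ∈ insert x Γ := by
        intro a ha
        rcases Finset.mem_insert.mp ha with rfl | ha
        · rw [hcx]; exact Finset.mem_insert_self _ _
        · rw [hcΓ a ha]; exact Finset.mem_insert_of_mem (hRΓ r hr a ha)
      intro a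
      refine ⟨hfwd a, fun ha => ?_⟩
      have himg : (insert x Γ).image c = insert x Γ :=
        Finset.eq_of_subset_of_card_le (Finset.image_subset_iff.mpr hfwd)
          (Finset.card_image_of_injective _ c.injective).ge
      rw [← himg] at ha
      obtain ⟨b, hb, hbe⟩ := Finset.mem_image.mp ha
      rwa [← c.injective hbe])
    have hgx : g • x = x := by rw [hg x (Finset.mem_insert_self _ _), hcx]
    -- `r = (r g⁻¹) g` with `r g⁻¹ ∈ H`
    have hgΓ : ∀ a ∈ Γ, g • a = r • a := fun a ha => by rw [hg a (Finset.mem_insert_of_mem ha), hcΓ a ha]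
    have hgR : g ∈ R := hmemR g fun a ha => by rw [hgΓ a ha]; exact hRΓ r hr a ha
    have h1 : r * g⁻¹ ∈ H := by
      rw [hmemH]
      intro a ha
      have hb : g⁻¹ • a ∈ Γ := hRΓ g⁻¹ (inv_mem hgR) a ha
      rw [mul_smul, ← hgΓ _ hb, smul_inv_smul]
    have h2 : g * (h : G) * g⁻¹ ∈ H := by
      rw [hmemH]
      intro a ha
      have hb : g⁻¹ • a ∈ Γ := hRΓ g⁻¹ (inv_mem hgR) a ha
      rw [mul_smul, mul_smul, (hmemH h).mp h.2 _ hb, smul_inv_smul]
    refine ⟨⟨_, mul_mem h1 h2⟩, ?_⟩
    change (r * g⁻¹ * (g * (h : G) * g⁻¹)) • x = r • (h : G) • x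
    simp only [mul_smul, inv_smul_smul]
    rw [show g⁻¹ • x = x from inv_smul_eq_iff.mpr hgx.symm]
  -- all fixing subgroups of `k`-sets are conjugate
  have hmove : ∀ n (Δ : Finset α), Δ.card = k → (Δ \ Γ).card = n → ∃ g : G, g • Γ = Δ := by
    intro n
    induction n using Nat.strong_induction_on with
    | _ n ih =>
      intro Δ hΔ hn
      by_cases hn0 : Δ \ Γ = ∅
      · refine ⟨1, ?_⟩
        rw [one_smul]
        exact (Finset.eq_of_subset_of_card_le (Finset.sdiff_eq_empty_iff_subset.mp hn0) (by omega)).symm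
      obtain ⟨b, hb⟩ := Finset.nonempty_iff_ne_empty.mpr hn0
      rw [Finset.mem_sdiff] at hb
      obtain ⟨a, ha⟩ : (Γ \ Δ).Nonempty := by
        by_contra h
        rw [Finset.not_nonempty_iff_eq_empty, Finset.sdiff_eq_empty_iff_subset] at h
        exact hb.2 (Finset.eq_of_subset_of_card_le h (by omega) ▸ hb.1)
      rw [Finset.mem_sdiff] at ha
      let Δ' := insert a (Δ.erase b)
      have hnot : a ∉ Δ.erase b := fun h => ha.2 (Finset.mem_of_mem_erase h)
      have hΔ' : Δ'.card = k := by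
        rw [Finset.card_insert_of_notMem hnot, Finset.card_erase_of_mem hb.1]
        have : 0 < Δ.card := Finset.card_pos.mpr ⟨b, hb.1⟩
        omega
      have hlt : (Δ' \ Γ).card < n := by
        rw [← hn]
        apply Finset.card_lt_card
        refine ⟨fun x hx => ?_, fun h => ?_⟩
        · rw [Finset.mem_sdiff, Finset.mem_insert] at hx
          rcases hx.1 with rfl | hx'
          · exact absurd ha.1 hx.2
          · exact Finset.mem_sdiff.mpr ⟨Finset.mem_of_mem_erase hx', hx.2⟩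
        · have := h (Finset.mem_sdiff.mpr hb)
          rw [Finset.mem_sdiff, Finset.mem_insert] at this
          rcases this.1 with rfl | h'
          · exact hb.2 ha.1
          · exact (Finset.mem_erase.mp h').1 rfl
      obtain ⟨g, hg⟩ := ih _ hlt Δ' hΔ' rfl
      -- swap `a` and `b` on `insert b Δ'`, pulled back to a set containing `Γ`
      have hbΔ' : b ∉ Δ' := by
        intro h
        rcases Finset.mem_insert.mp h with rfl | h
        · exact hb.2 ha.1
        · exact (Finset.mem_erase.mp h).1 rfl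
      have hx : g⁻¹ • b ∉ Γ := fun h => hbΔ' (by
        have := Finset.smul_mem_smul_finset (a := g) h
        rwa [smul_inv_smul, hg] at this)
      have hag : g⁻¹ • a ∈ Γ := by
        have := Finset.smul_mem_smul_finset (a := g⁻¹) (hg.ge (Finset.mem_insert_self a _))
        rwa [inv_smul_smul] at this
      let c := Equiv.swap (g⁻¹ • a) (g⁻¹ • b)
      obtain ⟨u, hu⟩ := hext _ hx c (fun z => by
        simp only [c, Equiv.swap_apply_def, Finset.mem_insert]
        split_ifs with h1 h2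
        · simp [h1, hag]
        · simp [h2, hag]
        · rfl)
      refine ⟨g * u, Finset.eq_of_subset_of_card_le ?_ (by rw [Finset.card_smul_finset]; omega)⟩
      intro z hz
      obtain ⟨w, hw, rfl⟩ := Finset.mem_smul_finset.mp hz
      rw [mul_smul, hu w (Finset.mem_insert_of_mem hw)]
      by_cases hwa : w = g⁻¹ • a
      · simp [c, hwa, hb.1]
      · have hwb : w ≠ g⁻¹ • b := fun e => hx (e ▸ hw)
        simp only [c, Equiv.swap_apply_of_ne_of_ne hwa hwb]
        have h3 : g • w ∈ Δ' := hg ▸ Finset.smul_mem_smul_finset hw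
        rcases Finset.mem_insert.mp h3 with h4 | h4
        · exact absurd (by rw [← h4, inv_smul_smul]) hwa
        · exact Finset.mem_of_mem_erase h4
  by_contra hcon
  push Not at hcon
  -- a `p`-element of `R` moving `p` points of `Γ` in a cycle
  obtain ⟨B, hBΓ, hB⟩ := Finset.exists_subset_card_eq (hpk.trans hΓ.ge)
  let e : Fin p ≃ {a // a ∈ B} := (Fintype.equivFinOfCardEq (by simp [hB])).symm
  let c : Equiv.Perm α := (finRotate p).extendDomain e
  have hcfix : ∀ a, a ∉ B → c a = a := fun a ha => Equiv.Perm.extendDomain_apply_not_subtype _ _ ha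
  have hcB : ∀ a ∈ B, c a ∈ B := fun a ha => by
    simp only [c]
    rw [Equiv.Perm.extendDomain_apply_subtype (finRotate p) e ha]
    exact Subtype.coe_prop _
  have hco : orderOf c = p := by
    have h1 : orderOf (finRotate p) = p := by
      obtain ⟨m, rfl⟩ : ∃ m, p = m + 2 := ⟨p - 2, by have := hp.two_le; omega⟩
      rw [(isCycle_finRotate).orderOf, support_finRotate, Finset.card_univ, Fintype.card_fin]
    exact (orderOf_injective (Equiv.Perm.extendDomainHom e) (Equiv.Perm.extendDomainHom_injective e) _).trans h1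
  obtain ⟨x0, hx0⟩ : ∃ x, x ∉ Γ := ⟨f ⟨0, hp.pos⟩, hf _⟩
  obtain ⟨g0, hg0⟩ := hext x0 hx0 c (by
    have hfwd : ∀ a, a ∈ insert x0 Γ → c a ∈ insert x0 Γ := by
      intro a ha
      by_cases haB : a ∈ B
      · exact Finset.mem_insert_of_mem (hBΓ (hcB a haB))
      · rw [hcfix a haB]; exact ha
    intro a
    refine ⟨hfwd a, fun ha => ?_⟩
    have himg : (insert x0 Γ).image c = insert x0 Γ :=
      Finset.eq_of_subset_of_card_le (Finset.image_subset_iff.mpr hfwd)
        (Finset.card_image_of_injective _ c.injective).ge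
    rw [← himg] at ha
    obtain ⟨b, hb, hbe⟩ := Finset.mem_image.mp ha
    rwa [← c.injective hbe])
  have hg0Γ : ∀ a ∈ Γ, g0 • a = c a := fun a ha => hg0 a (Finset.mem_insert_of_mem ha)
  have hcΓ : ∀ a ∈ Γ, c a ∈ Γ := fun a ha => by
    by_cases haB : a ∈ B
    · exact hBΓ (hcB a haB)
    · rw [hcfix a haB]; exact ha
  have hpow : ∀ n : ℕ, ∀ a ∈ Γ, g0 ^ n • a = (c ^ n) a ∧ (c ^ n) a ∈ Γ := by
    intro n
    induction n with
    | zero => intro a ha; simp [ha]
    | succ n ih =>
      intro a ha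
      obtain ⟨h1, h2⟩ := ih a ha
      rw [pow_succ', pow_succ', mul_smul, h1, Equiv.Perm.mul_apply]
      exact ⟨hg0Γ _ h2, hcΓ _ h2⟩
  let m := orderOf g0 / p ^ (orderOf g0).factorization p
  have hm : ¬ p ∣ m := Nat.not_dvd_ordCompl hp (orderOf_pos g0).ne'
  let q := g0 ^ m
  have hqR : q ∈ R := hmemR q fun a ha => by rw [(hpow m a ha).1]; exact (hpow m a ha).2
  have hqp : IsPGroup p (Subgroup.zpowers (⟨q, hqR⟩ : R)) := by
    obtain ⟨i, _, hi⟩ := (Nat.dvd_prime_pow hp (m := (orderOf g0).factorization p)).mp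
      (orderOf_dvd_of_pow_eq_one (x := q) (n := p ^ (orderOf g0).factorization p) (by
        rw [← pow_mul, mul_comm, Nat.ordProj_mul_ordCompl_eq_self, pow_orderOf_eq_one]))
    exact IsPGroup.of_card (n := i) (by rw [Nat.card_zpowers, ← Subgroup.orderOf_coe]; exact hi)
  obtain ⟨Q, hQ⟩ := hqp.exists_le_sylow
  -- its intersection with `H` has the full `p`-part
  let H' : Subgroup R := H.subgroupOf R
  have hHR : H ≤ R := fun h hh => hmemR h fun a ha => by rw [(hmemH h).mp hh a ha]; exact ha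
  haveI : H'.Normal := ⟨fun h hh r => by
    rw [Subgroup.mem_subgroupOf, hmemH]
    intro a ha
    have hb : ((r : G))⁻¹ • a ∈ Γ := hRΓ _ (inv_mem r.2) a ha
    rw [Subgroup.coe_mul, Subgroup.coe_mul, Subgroup.coe_inv, mul_smul, mul_smul,
      (hmemH h).mp hh _ hb, smul_inv_smul]⟩
  have hcoprime : ∃ j : ℕ, Nat.card H' = Nat.card ↥((Q : Subgroup R) ⊓ H') * j ∧ ¬ p ∣ j := by
    refine ⟨((Q : Subgroup R) ⊓ H').relIndex H', ?_, fun hd => Q.not_dvd_index ?_⟩
    · exact (CfsgLib.Coprime.card_mul_relIndex' inf_le_right).symm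
    · refine hd.trans ?_
      set i := ((Q : Subgroup R) ⊓ H').relIndex H' with hi
      have h1 : Nat.card ↥((Q : Subgroup R) ⊓ H') * i = Nat.card H' := CfsgLib.Coprime.card_mul_relIndex' inf_le_right
      have h2 := CfsgLib.Fusion.Thompson.card_sup_mul_card_inf (N := H') (K := (Q : Subgroup R))
        (by rw [Subgroup.normalizer_eq_top]; exact le_top)
      rw [inf_comm H', ← h1] at h2
      have h3 : Nat.card ↥(H' ⊔ (Q : Subgroup R)) = Nat.card (Q : Subgroup R) * i := by
        refine Nat.eq_of_mul_eq_mul_right (Nat.card_pos (α := ↥((Q : Subgroup R) ⊓ H'))) ?_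
        rw [h2]; ring
      have h4 := (Q : Subgroup R).card_mul_index
      rw [← (H' ⊔ (Q : Subgroup R)).card_mul_index, h3, mul_assoc] at h4
      exact ⟨_, Nat.eq_of_mul_eq_mul_left Nat.card_pos h4⟩
  obtain ⟨j, hj, hpj⟩ := hcoprime
  -- fixed points of `Q` in each orbit
  have hfix : ∀ i, ∃ y ∈ MulAction.orbit H (f i), ∀ r ∈ (Q : Subgroup R), (r : G) • y = y := by
    intro i
    letI : MulAction (Q : Subgroup R) (MulAction.orbit H (f i)) :=
      { smul := fun r y => ⟨((r : R) : G) • (y : α), horb _ (r : R).2 _ (hf i) _ y.2⟩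
        one_smul := fun y => Subtype.ext (one_smul G (y : α))
        mul_smul := fun r r' y => Subtype.ext (mul_smul ((r : R) : G) ((r' : R) : G) (y : α)) }
    obtain ⟨y, hy⟩ := Q.isPGroup'.nonempty_fixed_point_of_prime_not_dvd_card (MulAction.orbit H (f i)) (hcon i)
    exact ⟨y, y.2, fun r hr => congrArg Subtype.val (hy ⟨r, hr⟩)⟩
  choose y hyo hyf using hfix
  have hyinj : Function.Injective y := fun i i' h => by
    by_contra hne
    refine hdist i i' hne ?_
    have h1 : MulAction.orbit H (f i) = MulAction.orbit H (y i) := (MulAction.orbit_eq_iff.mpr (hyo i)).symm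
    have h2 : MulAction.orbit H (f i') = MulAction.orbit H (y i') := (MulAction.orbit_eq_iff.mpr (hyo i')).symm
    rw [show MulAction.orbit (fixingSubgroup G (Γ : Set α)) (f i) = MulAction.orbit H (f i) from rfl, h1, h, ← h2]
    exact MulAction.mem_orbit_self _
  have hyΓ : ∀ i, y i ∉ Γ := fun i hi => by
    obtain ⟨h, hh⟩ := hyo i
    have h1 : (h : G)⁻¹ • y i = y i := (hmemH _).mp (inv_mem h.2) _ hi
    have h2 : (h : G)⁻¹ • y i = f i := inv_smul_eq_iff.mpr hh.symm
    exact hf i ((h2.symm.trans h1) ▸ hi)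
  let Δ : Finset α := (Γ \ B) ∪ Finset.univ.image y
  have hΔ : Δ.card = k := by
    rw [Finset.card_union_of_disjoint, Finset.card_sdiff_of_subset hBΓ, hΓ, hB,
      Finset.card_image_of_injective _ hyinj, Finset.card_univ, Fintype.card_fin]
    · omega
    · rw [Finset.disjoint_left]
      intro a ha ha'
      obtain ⟨i, -, rfl⟩ := Finset.mem_image.mp ha'
      exact hyΓ i (Finset.mem_sdiff.mp ha).1
  obtain ⟨g, hg⟩ := hmove _ Δ hΔ rfl
  let Q1 : Subgroup R := (Q : Subgroup R) ⊓ (fixingSubgroup G ((Γ \ B : Finset α) : Set α)).subgroupOf R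
  have hQ1Δ : ∀ r ∈ Q1, ∀ a ∈ Δ, (r : G) • a = a := by
    intro r hr a ha
    rcases Finset.mem_union.mp ha with h | h
    · exact (mem_fixingSubgroup_iff G).mp (Subgroup.mem_subgroupOf.mp hr.2) a h
    · obtain ⟨i, -, rfl⟩ := Finset.mem_image.mp h
      exact hyf i r hr.1
  let φ : R →* G := (MulAut.conj g⁻¹).toMonoidHom.comp R.subtype
  have hmap : Q1.map φ ≤ H := by
    rintro _ ⟨r, hr, rfl⟩
    rw [hmemH]
    intro a ha
    have hga : g • a ∈ Δ := hg ▸ Finset.smul_mem_smul_finset ha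
    simp only [φ, MonoidHom.comp_apply, Subgroup.subtype_apply, MulEquiv.coe_toMonoidHom, MulAut.conj_apply,
      inv_inv, mul_smul]
    rw [hQ1Δ r hr _ hga, inv_smul_smul]
  have hcard : Nat.card Q1 ∣ Nat.card ↥((Q : Subgroup R) ⊓ H') := by
    have hinj : Function.Injective φ := fun r r' h => Subtype.coe_injective ((MulAut.conj g⁻¹).injective h)
    have h1 : Nat.card Q1 ∣ Nat.card H' := by
      rw [Nat.card_congr (Subgroup.subgroupOfEquivOfLe hHR).toEquiv, ← Subgroup.card_map_of_injective hinj (K := Q1)]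
      exact Subgroup.card_dvd_of_le hmap
    rw [hj] at h1
    obtain ⟨t, ht⟩ := (Q.isPGroup'.to_le (inf_le_left : Q1 ≤ _)).exists_card_eq
    rw [ht] at h1 ⊢
    exact (((hp.coprime_iff_not_dvd).mpr hpj).pow_left t).dvd_of_dvd_mul_right h1
  have hle : (Q : Subgroup R) ⊓ H' ≤ Q1 := fun r hr => ⟨hr.1, Subgroup.mem_subgroupOf.mpr
    ((mem_fixingSubgroup_iff G).mpr fun a ha =>
      (hmemH _).mp (Subgroup.mem_subgroupOf.mp hr.2) a (Finset.sdiff_subset ha))⟩
  have heq := Subgroup.eq_of_le_of_card_ge hle (Nat.le_of_dvd Nat.card_pos hcard)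
  have hqQ1 : (⟨q, hqR⟩ : R) ∈ Q1 := by
    refine ⟨hQ (Subgroup.mem_zpowers _), Subgroup.mem_subgroupOf.mpr ((mem_fixingSubgroup_iff G).mpr fun a ha => ?_)⟩
    rw [Finset.mem_coe, Finset.mem_sdiff] at ha
    change q • a = a
    rw [(hpow m a ha.1).1]
    have : ∀ n : ℕ, (c ^ n) a = a := fun n => by
      induction n with
      | zero => rfl
      | succ n ih => rw [pow_succ', Equiv.Perm.mul_apply, ih, hcfix a ha.2]
    exact this m
  rw [← heq] at hqQ1
  have hqH : q ∈ H := Subgroup.mem_subgroupOf.mp hqQ1.2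
  have hcm : c ^ m = 1 := by
    ext a
    rw [Equiv.Perm.one_apply]
    by_cases ha : a ∈ Γ
    · rw [← (hpow m a ha).1]; exact (hmemH q).mp hqH a ha
    · have hfa : c a = a := hcfix a fun h => ha (hBΓ h)
      exact Equiv.Perm.pow_apply_eq_self_of_apply_eq_self hfa m
  exact hm (hco ▸ orderOf_dvd_of_pow_eq_one hcm)

end Cfsg.Agent.S0706
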