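import Cfsg.Statements.S0707
import Mathlib


set_option autoImplicit false
open Cfsg

namespace Cfsg.Agent.S0707

/-- In a primitive permutation group, distinct points have distinct stabilisers unless the group is regular of prime degree. -/
theorem result {α : Type*} (G : Subgroup (Equiv.Perm α)) [MulAction.IsPreprimitive G α] (h : ¬ (Nat.card α).Prime ∨ ∃ a : α, MulAction.stabilizer G a ≠ ⊥) {a b : α} (hab : a ≠ b) : MulAction.stabilizer G a ≠ MulAction.stabilizer G b := by
  intro heq
  have : Nontrivial α := ⟨⟨a, b, hab⟩⟩
  have hmax : IsCoatom (MulAction.stabilizer G a) :=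
    MulAction.IsPreprimitive.isCoatom_stabilizer_of_isPreprimitive (G := G) a
  obtain ⟨g, hg⟩ := MulAction.exists_smul_eq G a b
  have hb : MulAction.stabilizer G b = (MulAction.stabilizer G a).map (MulAut.conj g).toMonoidHom := by
    rw [← hg, MulAction.stabilizer_smul_eq_stabilizer_map_conj]
  have hgN : g ∈ Subgroup.normalizer ((MulAction.stabilizer G a : Subgroup G) : Set G) := by
    rw [Subgroup.mem_normalizer_iff]
    intro h
    constructor
    · intro hh
      rw [heq, hb]
      exact ⟨h, hh, by simp⟩
    · intro hh
      rw [heq, hb] at hh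
      obtain ⟨k, hk, hk'⟩ := hh
      simp only [MulEquiv.coe_toMonoidHom, MulAut.conj_apply] at hk'
      have : k = h := mul_left_cancel (mul_right_cancel hk')
      exact this ▸ hk
  have hgA : g ∉ MulAction.stabilizer G a := fun h => hab (h.symm.trans hg)
  have hnorm : (MulAction.stabilizer G a).Normal := by
    refine Subgroup.normalizer_eq_top_iff.mp (hmax.2 _ ?_)
    exact lt_of_le_of_ne Subgroup.le_normalizer fun h => hgA (by rw [h]; exact hgN)
  have hbot : ∀ c : α, MulAction.stabilizer G c = ⊥ := by
    have hall : ∀ c : α, MulAction.stabilizer G c = MulAction.stabilizer G a := by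
      intro c
      obtain ⟨k, rfl⟩ := MulAction.exists_smul_eq G a c
      rw [MulAction.stabilizer_smul_eq_stabilizer_map_conj]
      exact Subgroup.ext fun x => by
        constructor
        · rintro ⟨y, hy, rfl⟩
          exact hnorm.conj_mem y hy k
        · intro hx
          exact ⟨k⁻¹ * x * k, by simpa using hnorm.conj_mem x hx k⁻¹, by
            simp [mul_assoc]⟩
    intro c
    rw [Subgroup.eq_bot_iff_forall]
    intro x hx
    apply Subtype.ext
    refine Equiv.ext fun d => ?_
    have : x ∈ MulAction.stabilizer G d := by rw [hall d, ← hall c]; exact hx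
    exact this
  rcases h with hp | ⟨c, hc⟩
  · apply hp
    rw [hbot a] at hmax
    have hG : (Nat.card G).Prime := by
      have : IsSimpleOrder (Subgroup G) := by
        refine { exists_pair_ne := ⟨⊥, ⊤, hmax.1⟩, eq_bot_or_eq_top := fun H => ?_ }
        rcases eq_or_ne H ⊥ with hH | hH
        · exact Or.inl hH
        · exact Or.inr (hmax.2 H (bot_lt_iff_ne_bot.mpr hH))
      obtain ⟨x, hx⟩ : ∃ x : G, x ≠ 1 := ⟨g, fun h => hgA (h ▸ one_mem _)⟩
      have htop : Subgroup.zpowers x = ⊤ :=
        (eq_bot_or_eq_top _).resolve_left (by simpa using hx)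
      have : IsCyclic G := isCyclic_iff_exists_zpowers_eq_top.mpr ⟨x, htop⟩
      letI : CommGroup G := { (inferInstance : Group G) with
        mul_comm := fun u v => by
          obtain ⟨i, rfl⟩ := Subgroup.mem_zpowers_iff.mp (htop ▸ Subgroup.mem_top u)
          obtain ⟨j, rfl⟩ := Subgroup.mem_zpowers_iff.mp (htop ▸ Subgroup.mem_top v)
          rw [← zpow_add, ← zpow_add, add_comm] }
      have : IsSimpleGroup G :=
        { exists_pair_ne := ⟨x, 1, hx⟩
          eq_bot_or_eq_top_of_normal := fun H _ => eq_bot_or_eq_top H }
      exact IsSimpleGroup.prime_card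
    have := Nat.card_congr (MulAction.orbitEquivQuotientStabilizer G a)
    rw [hbot a, MulAction.orbit_eq_univ] at this
    rw [Nat.card_congr (Equiv.Set.univ α)] at this
    rw [this, ← Subgroup.index, Subgroup.index_bot]
    exact hG
  · exact hc (hbot c)

end Cfsg.Agent.S0707
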