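import Cfsg.Statements.S0708
import Cfsg.Agent.Lib.Perm.SetStab.Semiregular

set_option autoImplicit false
open Cfsg

namespace Cfsg.Agent.S0708

open MulAction

variable {G : Type*} [Group G] {Ω : Type*} [MulAction G Ω]

/-- Four distinct points as a tuple. -/
theorem exists_tuple {a b c d : Ω} (hab : a ≠ b) (hac : a ≠ c) (had : a ≠ d) (hbc : b ≠ c)
    (hbd : b ≠ d) (hcd : c ≠ d) : ∃ t : Fin 4 ↪ Ω, t 0 = a ∧ t 1 = b ∧ t 2 = c ∧ t 3 = d := by
  refine ⟨⟨![a, b, c, d], fun i j e => ?_⟩, rfl, rfl, rfl, rfl⟩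
  fin_cases i <;> fin_cases j <;>
    first
      | rfl
      | simp [hab, hac, had, hbc, hbd, hcd, hab.symm, hac.symm, had.symm, hbc.symm, hbd.symm, hcd.symm] at e

theorem eq_one_of_four (hsharp : ∀ x : Fin 4 ↪ Ω, stabilizer G x = ⊥) {g : G} {a b c d : Ω}
    (hab : a ≠ b) (hac : a ≠ c) (had : a ≠ d) (hbc : b ≠ c) (hbd : b ≠ d) (hcd : c ≠ d)
    (ha : g • a = a) (hb : g • b = b) (hc : g • c = c) (hd : g • d = d) : g = 1 := by
  obtain ⟨t, h0, h1, h2, h3⟩ := exists_tuple hab hac had hbc hbd hcd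
  have h : g ∈ stabilizer G t := by
    refine mem_stabilizer_iff.mpr (Function.Embedding.ext fun i => ?_)
    rw [Function.Embedding.smul_apply]
    fin_cases i
    · show g • t 0 = t 0
      rw [h0, ha]
    · show g • t 1 = t 1
      rw [h1, hb]
    · show g • t 2 = t 2
      rw [h2, hc]
    · show g • t 3 = t 3
      rw [h3, hd]
  rwa [hsharp, Subgroup.mem_bot] at h

theorem exists_map_four (h4 : IsMultiplyPretransitive G Ω 4) {a b c d a' b' c' d' : Ω}
    (hab : a ≠ b) (hac : a ≠ c) (had : a ≠ d) (hbc : b ≠ c) (hbd : b ≠ d) (hcd : c ≠ d)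
    (hab' : a' ≠ b') (hac' : a' ≠ c') (had' : a' ≠ d') (hbc' : b' ≠ c') (hbd' : b' ≠ d')
    (hcd' : c' ≠ d') : ∃ g : G, g • a = a' ∧ g • b = b' ∧ g • c = c' ∧ g • d = d' := by
  obtain ⟨t, h0, h1, h2, h3⟩ := exists_tuple hab hac had hbc hbd hcd
  obtain ⟨t', h0', h1', h2', h3'⟩ := exists_tuple hab' hac' had' hbc' hbd' hcd'
  obtain ⟨g, hg⟩ := h4.exists_smul_eq t t'
  have hi : ∀ i, g • t i = t' i := fun i => congrArg (fun e : Fin 4 ↪ Ω => e i) hg
  exact ⟨g, by rw [← h0, hi, h0'], by rw [← h1, hi, h1'], by rw [← h2, hi, h2'], by rw [← h3, hi, h3']⟩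

/-- The centraliser of two commuting involutions bounds the degree. -/
theorem card_le_eleven (h4 : IsMultiplyPretransitive G Ω 4)
    (hsharp : ∀ x : Fin 4 ↪ Ω, stabilizer G x = ⊥) (hne : Nonempty (Fin 4 ↪ Ω)) :
    Finite Ω ∧ Nat.card Ω ≤ 11 := by
  classical
  obtain ⟨q⟩ := hne
  have hne' : ∀ i j : Fin 4, i ≠ j → q i ≠ q j := fun i j h e => h (q.injective e)
  set a := q 0
  set b := q 1
  set c := q 2
  set d := q 3
  have hab : a ≠ b := hne' 0 1 (by decide)
  have hac : a ≠ c := hne' 0 2 (by decide)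
  have had : a ≠ d := hne' 0 3 (by decide)
  have hbc : b ≠ c := hne' 1 2 (by decide)
  have hbd : b ≠ d := hne' 1 3 (by decide)
  have hcd : c ≠ d := hne' 2 3 (by decide)
  have huniq : ∀ g h : G, g • a = h • a → g • b = h • b → g • c = h • c → g • d = h • d → g = h := by
    intro g h e1 e2 e3 e4
    refine (inv_mul_eq_one.mp (eq_one_of_four hsharp hab hac had hbc hbd hcd ?_ ?_ ?_ ?_)).symm <;>
      rw [mul_smul, inv_smul_eq_iff] <;> assumption
  obtain ⟨t, ta, tb, tc, td⟩ := exists_map_four h4 hab hac had hbc hbd hcd hab.symm hbc hbd hac had hcd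
  obtain ⟨s, sa, sb, sc, sd⟩ := exists_map_four h4 hab hac had hbc hbd hcd hab had hac hbd hbc hcd.symm
  have ht2' : t * t = 1 :=
    huniq _ _ (by rw [mul_smul, ta, tb, one_smul]) (by rw [mul_smul, tb, ta, one_smul])
      (by rw [mul_smul, tc, tc, one_smul]) (by rw [mul_smul, td, td, one_smul])
  have hs2' : s * s = 1 :=
    huniq _ _ (by rw [mul_smul, sa, sa, one_smul]) (by rw [mul_smul, sb, sb, one_smul])
      (by rw [mul_smul, sc, sd, one_smul]) (by rw [mul_smul, sd, sc, one_smul])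
  have ht2 : ∀ x : Ω, t • t • x = x := fun x => by rw [← mul_smul, ht2', one_smul]
  have hs2 : ∀ x : Ω, s • s • x = x := fun x => by rw [← mul_smul, hs2', one_smul]
  have hts : t * s = s * t :=
    huniq _ _ (by rw [mul_smul, mul_smul, sa, ta, sb]) (by rw [mul_smul, mul_smul, sb, tb, sa])
      (by rw [mul_smul, mul_smul, sc, td, tc, sc]) (by rw [mul_smul, mul_smul, sd, tc, td, sd])
  have hts' : ∀ x : Ω, t • s • x = s • t • x := fun x => by rw [← mul_smul, ← mul_smul, hts]
  have ht1 : t ≠ 1 := fun e => hab.symm (by rw [← ta, e, one_smul])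
  have hs1 : s ≠ 1 := fun e => hcd.symm (by rw [← sc, e, one_smul])
  -- the points fixed by `t` but not by `s`, and the other way round
  have key : ∀ (t s : G) (a b c d : Ω), t ≠ 1 → t • c = c → t • d = d → s • c = d → s • d = c → c ≠ d →
      (∀ x : Ω, t • s • x = s • t • x) → (∀ x : Ω, s • s • x = x) → ∀ x : Ω, t • x = x → s • x ≠ x →
      x = c ∨ x = d := by
    intro t s a b c d ht1 tc td sc sd hcd hts' hs2 x hx hx'
    by_contra hne
    push Not at hne
    refine ht1 (eq_one_of_four hsharp hcd hne.1.symm ?_ hne.2.symm ?_ (Ne.symm hx') tc td hx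
      (by rw [hts', hx]))
    · intro e
      exact hne.2 (by rw [← hs2 x, ← e, sc])
    · intro e
      exact hne.1 (by rw [← hs2 x, ← e, sd])
  have hFt := key t s a b c d ht1 tc td sc sd hcd hts' hs2
  have hFs := key s t c d a b hs1 sa sb ta tb hab (fun x => (hts' x).symm) ht2
  -- the centraliser of both has order at most four
  let Cen := {g : G // g * t = t * g ∧ g * s = s * g}
  have hcen : ∀ g : Cen, ∀ x : Ω, (g : G) • t • x = t • (g : G) • x ∧ (g : G) • s • x = s • (g : G) • x :=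
    fun g x => ⟨by rw [← mul_smul, ← mul_smul, g.2.1], by rw [← mul_smul, ← mul_smul, g.2.2]⟩
  have hga : ∀ g : Cen, (g : G) • a = a ∨ (g : G) • a = b := by
    intro g
    refine hFs _ (by rw [← (hcen g a).2, sa]) fun e => ?_
    rw [← (hcen g a).1, ta] at e
    exact hab.symm (MulAction.injective (g : G) e)
  have hgc : ∀ g : Cen, (g : G) • c = c ∨ (g : G) • c = d := by
    intro g
    refine hFt _ (by rw [← (hcen g c).1, tc]) fun e => ?_
    rw [← (hcen g c).2, sc] at e
    exact hcd.symm (MulAction.injective (g : G) e)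
  have hCinj : Function.Injective fun g : Cen =>
      ((decide ((g : G) • a = a), decide ((g : G) • c = c)) : Bool × Bool) := by
    intro g h e
    simp only [Prod.mk.injEq, decide_eq_decide] at e
    have e1 : (g : G) • a = (h : G) • a := by
      rcases hga g with h1 | h1 <;> rcases hga h with h2 | h2
      · rw [h1, h2]
      · exact absurd (e.1.mp h1) (by rw [h2]; exact hab.symm)
      · exact absurd (e.1.mpr h2) (by rw [h1]; exact hab.symm)
      · rw [h1, h2]
    have e3 : (g : G) • c = (h : G) • c := by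
      rcases hgc g with h1 | h1 <;> rcases hgc h with h2 | h2
      · rw [h1, h2]
      · exact absurd (e.2.mp h1) (by rw [h2]; exact hcd.symm)
      · exact absurd (e.2.mpr h2) (by rw [h1]; exact hcd.symm)
      · rw [h1, h2]
    refine Subtype.ext (huniq _ _ e1 ?_ e3 ?_)
    · rw [← ta, (hcen g a).1, (hcen h a).1, e1]
    · rw [← sc, (hcen g c).2, (hcen h c).2, e3]
  haveI : Finite Cen := Finite.of_injective _ hCinj
  have hCcard : Nat.card Cen ≤ 4 := by
    have := Nat.card_le_card_of_injective _ hCinj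
    rwa [Nat.card_prod, Nat.card_eq_fintype_card (α := Bool), Fintype.card_bool] at this
  -- the regular orbits
  let M : Set Ω := {x | t • x ≠ x ∧ s • x ≠ x ∧ (t * s) • x ≠ x}
  have hM : Finite M ∧ Nat.card M ≤ 4 := by
    by_cases hMe : M = ∅
    · rw [hMe]
      exact ⟨inferInstance, by simp⟩
    obtain ⟨y, hy⟩ := Set.nonempty_iff_ne_empty.mpr hMe
    have hmap : ∀ x : M, ∃ g : Cen, (g : G) • y = x := by
      rintro ⟨x, hx⟩
      have hd : ∀ z : Ω, z ∈ M → z ≠ t • z ∧ z ≠ s • z ∧ z ≠ t • s • z ∧ t • z ≠ s • z ∧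
          t • z ≠ t • s • z ∧ s • z ≠ t • s • z := by
        rintro z ⟨h1, h2, h3⟩
        rw [mul_smul] at h3
        refine ⟨h1.symm, h2.symm, h3.symm, fun e => h3 ?_, fun e => h2 ?_, fun e => h1 ?_⟩
        · rw [← e, ht2]
        · exact (MulAction.injective t e).symm
        · apply MulAction.injective s
          show s • t • z = s • z
          rw [← hts']; exact e.symm
      obtain ⟨d1, d2, d3, d4, d5, d6⟩ := hd y hy
      obtain ⟨e1, e2, e3, e4, e5, e6⟩ := hd x hx
      obtain ⟨g, g1, g2, g3, g4⟩ := exists_map_four h4 d1 d2 d3 d4 d5 d6 e1 e2 e3 e4 e5 e6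
      have huy : ∀ g h : G, g • y = h • y → g • t • y = h • t • y → g • s • y = h • s • y →
          g • t • s • y = h • t • s • y → g = h := by
        intro g h f1 f2 f3 f4
        refine (inv_mul_eq_one.mp (eq_one_of_four hsharp d1 d2 d3 d4 d5 d6 ?_ ?_ ?_ ?_)).symm <;>
          rw [mul_smul, inv_smul_eq_iff] <;> assumption
      refine ⟨⟨g, ?_, ?_⟩, g1⟩
      · refine huy _ _ ?_ ?_ ?_ ?_ <;> simp only [mul_smul]
        · rw [g2, g1]
        · rw [ht2, g1, g2, ht2]
        · rw [g4, g3]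
        · rw [ht2, g3, g4, ht2]
      · refine huy _ _ ?_ ?_ ?_ ?_ <;> simp only [mul_smul]
        · rw [g3, g1]
        · rw [← hts', g4, g2, hts']
        · rw [hs2, g1, g3, hs2]
        · rw [← hts', hs2, g2, g4, ← hts', hs2]
    choose f hf using hmap
    have hfinj : Function.Injective f := fun x x' e => Subtype.ext (by rw [← hf x, e, hf x'])
    haveI : Finite M := Finite.of_injective f hfinj
    exact ⟨inferInstance, (Nat.card_le_card_of_injective f hfinj).trans hCcard⟩
  -- the points fixed by the product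
  have hw1 : t * s ≠ 1 := fun e => hab.symm (by rw [← ta, ← sa, ← mul_smul, sa, e, one_smul])
  let W : Set Ω := {x | (t * s) • x = x}
  have hW : W.Finite ∧ W.ncard ≤ 3 := by
    by_contra hc
    have hex : ∃ S : Finset Ω, S.card = 4 ∧ (S : Set Ω) ⊆ W := by
      by_cases hf : W.Finite
      · rw [not_and_or, not_le] at hc
        have hc' : 3 < W.ncard := hc.resolve_left (fun h => h hf)
        rw [Set.ncard_eq_toFinset_card W hf] at hc'
        obtain ⟨S, hS, hSc⟩ := Finset.exists_subset_card_eq (show 4 ≤ hf.toFinset.card by omega)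
        exact ⟨S, hSc, fun x hx => hf.mem_toFinset.mp (hS hx)⟩
      · obtain ⟨S, hS, hSc⟩ := Set.Infinite.exists_subset_card_eq hf 4
        exact ⟨S, hSc, hS⟩
    obtain ⟨S, hSc, hS⟩ := hex
    let e := (S.equivFinOfCardEq hSc).symm
    have he : ∀ i j : Fin 4, i ≠ j → (e i : Ω) ≠ e j := fun i j h h' => h (e.injective (Subtype.ext h'))
    exact hw1 (eq_one_of_four hsharp (he 0 1 (by decide)) (he 0 2 (by decide)) (he 0 3 (by decide))
      (he 1 2 (by decide)) (he 1 3 (by decide)) (he 2 3 (by decide))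
      (hS (e 0).2) (hS (e 1).2) (hS (e 2).2) (hS (e 3).2))
  have hcover : (Set.univ : Set Ω) ⊆ ({a, b, c, d} : Set Ω) ∪ W ∪ M := by
    intro x _
    by_cases hxt : t • x = x
    · by_cases hxs : s • x = x
      · exact Or.inl (Or.inr (show (t * s) • x = x by rw [mul_smul, hxs, hxt]))
      · rcases hFt x hxt hxs with rfl | rfl <;> exact Or.inl (Or.inl (by simp))
    · by_cases hxs : s • x = x
      · rcases hFs x hxs hxt with rfl | rfl <;> exact Or.inl (Or.inl (by simp))
      · by_cases hxw : (t * s) • x = x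
        · exact Or.inl (Or.inr hxw)
        · exact Or.inr ⟨hxt, hxs, hxw⟩
  haveI := hM.1
  have hfin4 : ({a, b, c, d} : Set Ω).Finite := Set.toFinite _
  have hfinall := (hfin4.union hW.1).union (Set.toFinite M)
  refine ⟨Finite.of_finite_univ (hfinall.subset hcover), ?_⟩
  rw [← Set.ncard_univ]
  refine (Set.ncard_le_ncard hcover hfinall).trans ((Set.ncard_union_le _ _).trans ?_)
  have h1 := Set.ncard_union_le ({a, b, c, d} : Set Ω) W
  have h2 : ({a, b, c, d} : Set Ω).ncard ≤ 4 := by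
    have e1 := Set.ncard_insert_le a ({b, c, d} : Set Ω)
    have e2 := Set.ncard_insert_le b ({c, d} : Set Ω)
    have e3 := Set.ncard_insert_le c ({d} : Set Ω)
    have e4 := Set.ncard_singleton d
    omega
  have h3 : M.ncard ≤ 4 := hM.2
  have h5 := hW.2
  omega


/-- Tits' argument: a sharply 4-transitive group (no finiteness assumed) has finite degree at most 11, and at most 6 when the degree is even. -/
theorem result {G : Type*} [Group G] {Ω : Type*} [MulAction G Ω] (h4 : MulAction.IsMultiplyPretransitive G Ω 4) (hsharp : ∀ x : Fin 4 ↪ Ω, MulAction.stabilizer G x = ⊥) (hne : Nonempty (Fin 4 ↪ Ω)) : Finite Ω ∧ Nat.card Ω ≤ 11 ∧ (Even (Nat.card Ω) → Nat.card Ω ≤ 6) := by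
  classical
  obtain ⟨hfin, h11⟩ := card_le_eleven h4 hsharp hne
  refine ⟨hfin, h11, fun heven => ?_⟩
  obtain ⟨q⟩ := hne
  letI := Fintype.ofFinite Ω
  have hn4 : 4 ≤ Fintype.card Ω := by simpa using Fintype.card_le_of_embedding q
  set G' := (MulAction.toPermHom G Ω).range with hG'
  have hG4 : MulAction.IsMultiplyPretransitive G' Ω 4 := ⟨fun u v => by
    obtain ⟨g, hg⟩ := h4.exists_smul_eq u v
    exact ⟨⟨_, g, rfl⟩, by rw [← hg]; exact Function.Embedding.ext fun _ => rfl⟩⟩
  have hbot : ∀ u : Fin 4 ↪ Ω, CfsgLib.Perm.SetStab.ptStab G' u = ⊥ := by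
    intro u
    rw [Subgroup.eq_bot_iff_forall]
    intro x hx
    obtain ⟨⟨g, rfl⟩, hxu⟩ := CfsgLib.Perm.SetStab.mem_ptStab.mp hx
    have hg : g ∈ MulAction.stabilizer G u :=
      MulAction.mem_stabilizer_iff.mpr (Function.Embedding.ext hxu)
    rw [hsharp, Subgroup.mem_bot] at hg
    rw [hg, map_one]
  have hfree : ∀ g ∈ G', ∀ t : Fin (4 + 1) ↪ Ω, (∀ i, g (t i) = t i) → g = 1 := by
    intro g hg t hgt
    have : g ∈ CfsgLib.Perm.SetStab.ptStab G' ((Fin.castSuccEmb).trans t) :=
      CfsgLib.Perm.SetStab.mem_ptStab.mpr ⟨hg, fun i => hgt _⟩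
    rwa [hbot, Subgroup.mem_bot] at this
  have := CfsgLib.Perm.SetStab.sub_le_two_mul_of_even_diff hG4 hfree le_rfl
    (fun u => by rw [hbot, Subgroup.card_bot]; exact odd_one)
    (by rw [Nat.card_eq_fintype_card] at heven; exact heven.tsub (by decide)) q
  rw [hbot, Subgroup.card_bot] at this
  rw [Nat.card_eq_fintype_card]
  omega

end Cfsg.Agent.S0708
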