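import Cfsg.Statements.S0709
-- import your own Cfsg.Agent.* helpers here

set_option autoImplicit false
open Cfsg

namespace Cfsg.Agent.S0709

variable {β : Type*} [Group β]

theorem conj_mem_of_sq {B : Subgroup β} {H : Subgroup β} (hHB : H ≤ B) {x y : β} (hx : x ∈ B)
    (hy : y ^ 2 ∈ H) (hxy : (x * y) ^ 2 ∈ H) : y * x * y⁻¹ ∈ B := by
  have e : y * x * y⁻¹ = x⁻¹ * (x * y) ^ 2 * (y ^ 2)⁻¹ := by
    simp only [pow_two]; group
  rw [e]
  exact mul_mem (mul_mem (inv_mem hx) (hHB hxy)) (inv_mem (hHB hy))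

/-- The double coset step. -/
theorem double_coset_step {B C H : Subgroup β} (hHB : H ≤ B) (hBC : B ≤ C) {r s : β} (hr : r ∈ C)
    (hC : ∀ g ∈ C, g ∈ B ∨ ∃ x ∈ B, ∃ y ∈ B, g = x * r * y) (hs2 : s ^ 2 ∈ H)
    (hbr : (r * s) ^ 3 ∈ H) (hnorm : ∀ g ∈ B, s * g * s⁻¹ ∈ B) :
    ∀ g ∈ C ⊔ Subgroup.zpowers s, g ∈ C ∨ ∃ x ∈ C, ∃ y ∈ C, g = x * s * y := by
  have hHC : H ≤ C := hHB.trans hBC
  set U : Set β := {g | g ∈ C ∨ ∃ x ∈ C, ∃ y ∈ C, g = x * s * y} with hU
  have hCU : ∀ c ∈ C, ∀ u ∈ U, c * u ∈ U := by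
    rintro c hc u (h | ⟨x, hx, y, hy, rfl⟩)
    · exact Or.inl (mul_mem hc h)
    · exact Or.inr ⟨c * x, mul_mem hc hx, y, hy, by simp only [mul_assoc]⟩
  have hUC : ∀ c ∈ C, ∀ u ∈ U, u * c ∈ U := by
    rintro c hc u (h | ⟨x, hx, y, hy, rfl⟩)
    · exact Or.inl (mul_mem h hc)
    · exact Or.inr ⟨x, hx, y * c, mul_mem hy hc, by simp only [mul_assoc]⟩
  have hconj : ∀ g ∈ C, s * g * s⁻¹ ∈ U := by
    intro g hg
    rcases hC g hg with h | ⟨x, hx, y, hy, rfl⟩
    · exact Or.inl (hBC (hnorm g h))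
    have e : s * r * s⁻¹ = (r⁻¹ * (r * s) ^ 3 * (s ^ 2)⁻¹) * s * (r⁻¹ * (s ^ 2)⁻¹) := by
      simp only [pow_three, pow_two]; group
    have h1 : s * r * s⁻¹ ∈ U := Or.inr ⟨_, mul_mem (mul_mem (inv_mem hr) (hHC hbr)) (inv_mem (hHC hs2)),
      _, mul_mem (inv_mem hr) (inv_mem (hHC hs2)), e⟩
    rw [show s * (x * r * y) * s⁻¹ = (s * x * s⁻¹) * (s * r * s⁻¹) * (s * y * s⁻¹) by group]
    exact hUC _ (hBC (hnorm y hy)) _ (hCU _ (hBC (hnorm x hx)) _ h1)
  have hUs : ∀ u ∈ U, u * s ∈ U := by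
    rintro u (h | ⟨x, hx, y, hy, rfl⟩)
    · exact Or.inr ⟨u, h, 1, one_mem _, (mul_one _).symm⟩
    rw [show x * s * y * s = x * (s * y * s⁻¹) * s ^ 2 by simp only [pow_two]; group]
    exact hUC _ (hHC hs2) _ (hCU _ hx _ (hconj y hy))
  have hUinv : ∀ u ∈ U, u * s⁻¹ ∈ U := by
    intro u hu
    rw [show u * s⁻¹ = u * s * (s ^ 2)⁻¹ by simp only [pow_two]; group]
    exact hUC _ (inv_mem (hHC hs2)) _ (hUs u hu)
  intro g hg
  rw [← Subgroup.closure_eq C, Subgroup.zpowers_eq_closure, ← Subgroup.closure_union] at hg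
  have : ∀ u ∈ U, u * g ∈ U := by
    induction hg using Subgroup.closure_induction'' with
    | mem x hx =>
      rcases hx with hx | hx
      · exact hUC x hx
      · rw [Set.mem_singleton_iff] at hx
        rw [hx]; exact hUs
    | inv_mem x hx =>
      rcases hx with hx | hx
      · exact hUC x⁻¹ (inv_mem hx)
      · rw [Set.mem_singleton_iff] at hx
        rw [hx]; exact hUinv
    | one => exact fun u hu => by rwa [mul_one]
    | mul x y _ _ hx hy => exact fun u hu => by rw [← mul_assoc]; exact hy _ (hx u hu)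
  have h := this 1 (Or.inl (one_mem C))
  rw [one_mul] at h
  exact h


/-- Witt's Lemma for constructing transitive extensions. Points `q 1, …, q t` (`t ≥ 2`) of a finite set are given; `G` fixes `q i` for `i ≥ 3` and is doubly transitive on the remaining points; `s 1 ∈ G` swaps `q 1, q 2`; for `2 ≤ i ≤ t-1`, `s i` swaps `q i, q (i+1)` and fixes the other `q j`; with `H` the stabiliser of `q 1, q 2` in `G`: `s i ^ 2 ∈ H`, `(s i * s (i+1)) ^ 3 ∈ H`, `(s i * s j) ^ 2 ∈ H` for `j ≥ i + 2`, and `s i` (`i ≥ 2`) normalises the stabiliser of `q 2` in `G`. Then `G` and the `s i` generate a `t`-transitive group whose pointwise stabiliser of the `q`'s is `H`. -/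
theorem result {α : Type*} [Fintype α] [DecidableEq α] (t : ℕ) (ht : 2 ≤ t) (q : ℕ → α) (hq : ∀ i j : ℕ, 1 ≤ i → i ≤ t → 1 ≤ j → j ≤ t → q i = q j → i = j) (G : Subgroup (Equiv.Perm α)) (hfix : ∀ g ∈ G, ∀ i : ℕ, 3 ≤ i → i ≤ t → g (q i) = q i) (h2 : ∀ a b c d : α, (∀ i, 3 ≤ i → i ≤ t → a ≠ q i ∧ b ≠ q i ∧ c ≠ q i ∧ d ≠ q i) → a ≠ b → c ≠ d → ∃ g ∈ G, g a = c ∧ g b = d) (s : ℕ → Equiv.Perm α) (hs1 : s 1 ∈ G) (hs1q : s 1 (q 1) = q 2 ∧ s 1 (q 2) = q 1) (hsq : ∀ i : ℕ, 2 ≤ i → i + 1 ≤ t → s i (q i) = q (i + 1) ∧ s i (q (i + 1)) = q i ∧ ∀ j : ℕ, 1 ≤ j → j ≤ t → j ≠ i → j ≠ i + 1 → s i (q j) = q j) (H : Subgroup (Equiv.Perm α)) (hH : H = G ⊓ MulAction.stabilizer (Equiv.Perm α) (q 1) ⊓ MulAction.stabilizer (Equiv.Perm α) (q 2)) (hsq2 : ∀ i : ℕ, 1 ≤ i → i + 1 ≤ t → s i ^ 2 ∈ H) (hbraid : ∀ i : ℕ, 1 ≤ i → i + 2 ≤ t → (s i * s (i + 1)) ^ 3 ∈ H) (hcomm : ∀ i j : ℕ, 1 ≤ i → i + 2 ≤ j → j + 1 ≤ t → (s i * s j) ^ 2 ∈ H ∧ (s j * s i) ^ 2 ∈ H) (hnorm : ∀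 i : ℕ, 2 ≤ i → i + 1 ≤ t → ∀ g ∈ G ⊓ MulAction.stabilizer (Equiv.Perm α) (q 2), s i * g * (s i)⁻¹ ∈ G ⊓ MulAction.stabilizer (Equiv.Perm α) (q 2)) : MulAction.IsMultiplyPretransitive ↥(Subgroup.closure ((G : Set (Equiv.Perm α)) ∪ {x | ∃ i : ℕ, 2 ≤ i ∧ i + 1 ≤ t ∧ x = s i})) α t ∧ Subgroup.closure ((G : Set (Equiv.Perm α)) ∪ {x | ∃ i : ℕ, 2 ≤ i ∧ i + 1 ≤ t ∧ x = s i}) ⊓ fixingSubgroup (Equiv.Perm α) {x | ∃ i : ℕ, 1 ≤ i ∧ i ≤ t ∧ x = q i} = H := by
  classical
  set G₁ : Subgroup (Equiv.Perm α) := G ⊓ MulAction.stabilizer (Equiv.Perm α) (q 2) with hG₁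
  let W : ℕ → Subgroup (Equiv.Perm α) := fun k =>
    G₁ ⊔ Subgroup.closure {x | ∃ i : ℕ, 1 ≤ i ∧ i < k ∧ x = s i}
  have hW1 : W 1 = G₁ := by
    refine le_antisymm (sup_le le_rfl ((Subgroup.closure_le _).mpr ?_)) le_sup_left
    rintro x ⟨i, h1, h2', -⟩
    omega
  have hWs : ∀ i k, 1 ≤ i → i < k → s i ∈ W k := fun i k h1 h2' =>
    Subgroup.mem_sup_right (Subgroup.subset_closure ⟨i, h1, h2', rfl⟩)
  have hWsucc : ∀ k, 1 ≤ k → W (k + 1) = W k ⊔ Subgroup.zpowers (s k) := by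
    intro k hk
    apply le_antisymm
    · refine sup_le (le_sup_left.trans le_sup_left) ((Subgroup.closure_le _).mpr ?_)
      rintro x ⟨i, h1, h2', rfl⟩
      rcases Nat.lt_succ_iff_lt_or_eq.mp h2' with h | rfl
      · exact Subgroup.mem_sup_left (hWs i k h1 h)
      · exact Subgroup.mem_sup_right (Subgroup.mem_zpowers _)
    · refine sup_le (sup_le le_sup_left ((Subgroup.closure_le _).mpr ?_)) ?_
      · rintro x ⟨i, h1, h2', rfl⟩
        exact hWs i _ h1 (by omega)
      · rw [Subgroup.zpowers_le]; exact hWs k _ hk (by omega)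
  have hmono : ∀ k, 1 ≤ k → W k ≤ W (k + 1) := fun k hk => (hWsucc k hk).symm ▸ le_sup_left
  have hHG₁ : H ≤ G₁ := hH ▸ le_inf (inf_le_left.trans inf_le_left) inf_le_right
  have hHW : ∀ k, H ≤ W k := fun k => hHG₁.trans le_sup_left
  have hqne : ∀ i j, 1 ≤ i → i ≤ t → 1 ≤ j → j ≤ t → i ≠ j → q i ≠ q j := fun i j a b c d e h =>
    e (hq i j a b c d h)
  have hsk : ∀ k, 1 ≤ k → k + 1 ≤ t → s k (q k) = q (k + 1) ∧ s k (q (k + 1)) = q k := by
    intro k h1 hk
    rcases eq_or_lt_of_le h1 with rfl | h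
    · exact hs1q
    · exact ⟨(hsq k h hk).1, (hsq k h hk).2.1⟩
  have hW2G : W 2 ≤ G := by
    refine sup_le inf_le_left ((Subgroup.closure_le _).mpr ?_)
    rintro x ⟨i, h1, h2', rfl⟩
    obtain rfl : i = 1 := by omega
    exact hs1
  -- the points fixed by `W k`
  have hFix : ∀ k, 1 ≤ k → ∀ g ∈ W k, ∀ i, k < i → i ≤ t → g (q i) = q i := by
    intro k hk g hg i hki hit
    suffices h : W k ≤ MulAction.stabilizer (Equiv.Perm α) (q i) from h hg
    refine sup_le ?_ ((Subgroup.closure_le _).mpr ?_)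
    · rcases eq_or_lt_of_le (show 2 ≤ i by omega) with rfl | h
      · exact inf_le_right
      · exact inf_le_left.trans fun g hg => hfix g hg i h hit
    · rintro x ⟨j, hj1, hjk, rfl⟩
      rcases eq_or_lt_of_le hj1 with rfl | hj
      · exact hfix _ hs1 i (by omega) hit
      · exact (hsq j hj (by omega)).2.2 i (by omega) hit (by omega) (by omega)
  -- `G = W 2`
  have hdec2 : ∀ g ∈ G, g ∈ W 1 ∨ ∃ x ∈ W 1, ∃ y ∈ W 1, g = x * s 1 * y := by
    intro g hg
    by_cases hg2 : g (q 2) = q 2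
    · left; rw [hW1]; exact ⟨hg, hg2⟩
    have hout : ∀ i, 3 ≤ i → i ≤ t → g (q 2) ≠ q i := fun i hi hit e =>
      hqne 2 i (by omega) (by omega) (by omega) hit (by omega) (g.injective (e.trans (hfix g hg i hi hit).symm))
    obtain ⟨y, hy, hy2, hy1⟩ := h2 (q 2) (q 1) (q 2) (g (q 2)) (fun i hi hit =>
      ⟨hqne 2 i (by omega) (by omega) (by omega) hit (by omega),
       hqne 1 i le_rfl (by omega) (by omega) hit (by omega),
       hqne 2 i (by omega) (by omega) (by omega) hit (by omega), hout i hi hit⟩)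
      (hqne 2 1 (by omega) (by omega) le_rfl (by omega) (by omega)) (fun e => hg2 e.symm)
    refine Or.inr ⟨y, by rw [hW1]; exact ⟨hy, hy2⟩, (y * s 1)⁻¹ * g, ?_, by group⟩
    rw [hW1]
    refine Subgroup.mem_inf.mpr ⟨mul_mem (inv_mem (mul_mem hy hs1 : y * s 1 ∈ G)) hg, ?_⟩
    show ((y * s 1)⁻¹ * g) (q 2) = q 2
    rw [Equiv.Perm.mul_apply, Equiv.Perm.inv_eq_iff_eq, Equiv.Perm.mul_apply, hs1q.2, hy1]
  have hGW2 : G ≤ W 2 := by
    intro g hg
    rcases hdec2 g hg with h | ⟨x, hx, y, hy, rfl⟩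
    · exact hmono 1 le_rfl h
    · exact mul_mem (mul_mem (hmono 1 le_rfl hx) (hWs 1 2 le_rfl one_lt_two)) (hmono 1 le_rfl hy)
  -- the double coset decompositions
  have hdec : ∀ k, 1 ≤ k → k + 1 ≤ t → ∀ g ∈ W (k + 1), g ∈ W k ∨ ∃ x ∈ W k, ∃ y ∈ W k, g = x * s k * y := by
    intro k hk
    induction k, hk using Nat.le_induction with
    | base => exact fun _ g hg => hdec2 g (hW2G hg)
    | succ k hk ih =>
      intro hkt g hg
      rw [hWsucc (k + 1) (by omega)] at hg
      refine double_coset_step (hHW k) (hmono k hk) (hWs k (k + 1) hk (by omega)) (ih (by omega))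
        (hsq2 (k + 1) (by omega) hkt) (hbraid k hk hkt) ?_ g hg
      intro x hx
      suffices h : W k ≤ (W k).comap (MulAut.conj (s (k + 1))).toMonoidHom from h hx
      refine sup_le ?_ ((Subgroup.closure_le _).mpr ?_)
      · exact fun x hx => Subgroup.mem_sup_left (hnorm (k + 1) (by omega) hkt x hx)
      · rintro x ⟨i, hi, hik, rfl⟩
        exact conj_mem_of_sq (hHW k) (hWs i k hi hik) (hsq2 (k + 1) (by omega) hkt)
          (hcomm i (k + 1) hi (by omega) hkt).1
  have hstab : ∀ k, 1 ≤ k → k + 1 ≤ t → ∀ g ∈ W (k + 1), g (q (k + 1)) = q (k + 1) → g ∈ W k := by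
    intro k hk hkt g hg hgq
    rcases hdec k hk hkt g hg with h | ⟨x, hx, y, hy, rfl⟩
    · exact h
    rw [Equiv.Perm.mul_apply, Equiv.Perm.mul_apply, hFix k hk y hy (k + 1) (by omega) hkt,
      (hsk k hk hkt).2, ← hFix k hk x hx (k + 1) (by omega) hkt] at hgq
    exact absurd (hq _ _ hk (by omega) (by omega) hkt (x.injective hgq)) (by omega)
  -- transitivity
  have htrans : ∀ k, 2 ≤ k → k ≤ t → ∀ f : ℕ → α,
      (∀ i j, 1 ≤ i → i ≤ k → 1 ≤ j → j ≤ k → f i = f j → i = j) →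
      (∀ i j, 1 ≤ i → i ≤ k → k < j → j ≤ t → f i ≠ q j) →
      ∃ g ∈ W k, ∀ i, 1 ≤ i → i ≤ k → g (f i) = q i := by
    intro k hk
    induction k, hk using Nat.le_induction with
    | base =>
      intro _ f hf hout
      obtain ⟨g, hg, h1, h2'⟩ := h2 (f 1) (f 2) (q 1) (q 2) (fun i hi hit =>
        ⟨hout 1 i le_rfl one_le_two (by omega) hit, hout 2 i one_le_two le_rfl (by omega) hit,
         hqne 1 i le_rfl (by omega) (by omega) hit (by omega),
         hqne 2 i (by omega) (by omega) (by omega) hit (by omega)⟩)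
        (fun e => absurd (hf 1 2 le_rfl one_le_two one_le_two le_rfl e) (by omega))
        (hqne 1 2 le_rfl (by omega) (by omega) (by omega) (by omega))
      refine ⟨g, hGW2 hg, fun i h1' h2'' => ?_⟩
      interval_cases i <;> assumption
    | succ k hk ih =>
      intro hkt f hf hout
      -- move one point to `q (k + 1)`
      obtain ⟨g₁, hg₁, hg₁q⟩ : ∃ g₁ ∈ W (k + 1), g₁ (f (k + 1)) = q (k + 1) := by
        by_cases hfq : f (k + 1) = q (k + 1)
        · exact ⟨1, one_mem _, hfq⟩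
        have hbig : ∀ j, k < j → j ≤ t → f (k + 1) ≠ q j := fun j hj hjt => by
          rcases eq_or_lt_of_le (show k + 1 ≤ j by omega) with rfl | h
          · exact hfq
          · exact hout (k + 1) j (by omega) le_rfl h hjt
        let f' : ℕ → α := fun i => if i = k then f (k + 1) else
          Equiv.swap (q k) (f (k + 1)) (q i)
        obtain ⟨g, hg, hgf⟩ := ih (by omega) f' (fun i j hi hik hj hjk e => by
          have hfi : ∀ l, 1 ≤ l → l ≤ k → f' l = Equiv.swap (q k) (f (k + 1)) (q l) := by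
            intro l hl hlk
            by_cases hlk' : l = k
            · simp only [f', if_pos hlk']; rw [hlk', Equiv.swap_apply_left]
            · simp only [f', if_neg hlk']
          rw [hfi i hi hik, hfi j hj hjk] at e
          exact hq i j hi (by omega) hj (by omega) ((Equiv.injective _) e))
          (fun i j hi hik hj hjt => by
            by_cases hik' : i = k
            · simp only [f', if_pos hik']; exact hbig j hj hjt
            · simp only [f', if_neg hik']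
              intro e
              have e' := congrArg (Equiv.swap (q k) (f (k + 1))) e
              rw [Equiv.swap_apply_self, Equiv.swap_apply_of_ne_of_ne
                (hqne j k (by omega) hjt (by omega) (by omega) (by omega)) (hbig j hj hjt).symm] at e'
              exact hqne i j hi (by omega) (by omega) hjt (by omega) e')
        have h := hgf k (by omega) le_rfl
        simp only [f', if_true] at h
        exact ⟨s k * g, mul_mem (hWs k (k + 1) (by omega) (by omega)) (hmono k (by omega) hg),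
          by rw [Equiv.Perm.mul_apply, h, (hsk k (by omega) hkt).1]⟩
      obtain ⟨g₂, hg₂, hg₂f⟩ := ih (by omega) (fun i => g₁ (f i))
        (fun i j hi hik hj hjk e => hf i j hi (by omega) hj (by omega) (g₁.injective e))
        (fun i j hi hik hj hjt e => by
          rcases eq_or_lt_of_le (show k + 1 ≤ j by omega) with rfl | h
          · exact absurd (hf i (k + 1) hi (by omega) (by omega) le_rfl
              (g₁.injective (e.trans hg₁q.symm))) (by omega)
          · rw [← hFix (k + 1) (by omega) g₁ hg₁ j h hjt] at e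
            exact hout i j hi (by omega) h hjt (g₁.injective e))
      refine ⟨g₂ * g₁, mul_mem (hmono k (by omega) hg₂) hg₁, fun i hi hik => ?_⟩
      rw [Equiv.Perm.mul_apply]
      rcases eq_or_lt_of_le hik with rfl | h
      · rw [hg₁q]; exact hFix k (by omega) g₂ hg₂ (k + 1) (by omega) hkt
      · exact hg₂f i hi (by omega)
  -- the generated group
  have hL : Subgroup.closure ((G : Set (Equiv.Perm α)) ∪ {x | ∃ i : ℕ, 2 ≤ i ∧ i + 1 ≤ t ∧ x = s i}) = W t := by
    apply le_antisymm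
    · rw [Subgroup.closure_le]
      rintro x (hx | ⟨i, hi, hit, rfl⟩)
      · have h : W 2 ≤ W t := sup_le le_sup_left ((Subgroup.closure_le _).mpr (by
          rintro y ⟨i, h1, h2', rfl⟩
          exact hWs i t h1 (by omega)))
        exact h (hGW2 hx)
      · exact hWs i t (by omega) (by omega)
    · refine sup_le (fun x hx => Subgroup.subset_closure (Or.inl hx.1)) ((Subgroup.closure_le _).mpr ?_)
      rintro x ⟨i, hi, hit, rfl⟩
      rcases eq_or_lt_of_le hi with rfl | h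
      · exact Subgroup.subset_closure (Or.inl hs1)
      · exact Subgroup.subset_closure (Or.inr ⟨i, h, hit, rfl⟩)
  rw [hL]
  constructor
  · refine ⟨fun u v => ?_⟩
    have key : ∀ u : Fin t ↪ α, ∃ g : W t, ∀ i : Fin t, g • u i = q (i + 1) := by
      intro u
      obtain ⟨g, hg, hgu⟩ := htrans t ht le_rfl
        (fun i => if h : 1 ≤ i ∧ i ≤ t then u ⟨i - 1, by omega⟩ else q 1)
        (fun i j hi hit hj hjt e => by
          rw [dif_pos ⟨hi, hit⟩, dif_pos ⟨hj, hjt⟩] at e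
          have := congrArg Fin.val (u.injective e)
          simp at this; omega)
        (fun i j _ _ hj hjt => absurd hj (by omega))
      refine ⟨⟨g, hg⟩, fun i => ?_⟩
      have h := hgu (i + 1) (by omega) (by omega)
      rw [dif_pos ⟨by omega, by omega⟩] at h
      exact h
    obtain ⟨g, hg⟩ := key u
    obtain ⟨g', hg'⟩ := key v
    refine ⟨g'⁻¹ * g, Function.Embedding.ext fun i => ?_⟩
    rw [Function.Embedding.smul_apply, mul_smul, hg, ← hg', inv_smul_smul]
  · apply le_antisymm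
    · rintro g ⟨hg, hgq⟩
      have hgq' : ∀ i, 1 ≤ i → i ≤ t → g (q i) = q i := fun i hi hit =>
        (mem_fixingSubgroup_iff _).mp hgq (q i) ⟨i, hi, hit, rfl⟩
      have hdown : ∀ k, 2 ≤ k → k ≤ t → g ∈ W k → g ∈ W 2 := by
        intro k hk
        induction k, hk using Nat.le_induction with
        | base => exact fun _ h => h
        | succ k hk ih =>
          exact fun hkt h => ih (by omega) (hstab k (by omega) hkt g h (hgq' _ (by omega) hkt))
      rw [hH]
      exact ⟨⟨hW2G (hdown t ht le_rfl hg), hgq' 1 le_rfl (by omega)⟩, hgq' 2 one_le_two ht⟩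
    · refine le_inf (hHW t) fun g hg => (mem_fixingSubgroup_iff _).mpr ?_
      rintro _ ⟨i, hi, hit, rfl⟩
      rw [hH] at hg
      rcases eq_or_lt_of_le hi with rfl | h
      · exact hg.1.2
      rcases eq_or_lt_of_le (show 2 ≤ i by omega) with rfl | h'
      · exact hg.2
      · exact hfix g hg.1.1 i h' hit

end Cfsg.Agent.S0709
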