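import Cfsg.Statements.S0710
import Cfsg.Agent.Lib.Perm.Basic

set_option autoImplicit false
open Cfsg

namespace Cfsg.Agent.S0710

/-- No transitive permutation group on 13 points has order `13 * 12 * 11 * 10 * 9 * 8`. -/
theorem result {α : Type*} [Fintype α] [DecidableEq α] (hα : Fintype.card α = 13) (G : Subgroup (Equiv.Perm α)) [MulAction.IsPretransitive G α] : Nat.card G ≠ 13 * 12 * 11 * 10 * 9 * 8 := by
  intro hG
  have hα' : Nat.card α = 13 := by rw [Nat.card_eq_fintype_card]; exact hα
  haveI : Fact (Nat.Prime 13) := ⟨by norm_num⟩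
  obtain ⟨P⟩ := (inferInstance : Nonempty (Sylow 13 G))
  have h1 := card_sylow_modEq_one 13 G
  have hP := P.card_eq_multiplicity
  have hfac : (Nat.card G).factorization 13 = 1 := by
    rw [hG]
    rw [show 13 * 12 * 11 * 10 * 9 * 8 = 13 * 95040 by norm_num]
    rw [Nat.factorization_mul (by norm_num) (by norm_num), Finsupp.add_apply,
      Nat.Prime.factorization_self (by norm_num),
      Nat.factorization_eq_zero_of_not_dvd (by norm_num)]
  rw [hfac, pow_one] at hP
  have htr : MulAction.IsPretransitive (P : Subgroup G) α :=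
    CfsgLib.Perm.Basic.sylow_isPretransitive (p := 13) (f := 1) (by rw [hα']; norm_num) P
  haveI : IsCyclic (P : Subgroup G) := isCyclic_of_prime_card (p := 13) hP
  obtain ⟨a⟩ : Nonempty α := (Fintype.card_pos_iff.mp (by omega))
  set N := Subgroup.normalizer ((P : Subgroup G) : Set G) with hN
  have hPN : (P : Subgroup G) ≤ N := Subgroup.le_normalizer
  haveI : MulAction.IsPretransitive N α := by
    constructor
    intro x y
    obtain ⟨g, hg⟩ := MulAction.exists_smul_eq (P : Subgroup G) x y
    exact ⟨⟨g, hPN g.2⟩, hg⟩
  have hcardN := CfsgLib.Perm.Basic.card_eq_mul_stabilizer (G := N) a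
  let φ : MulAction.stabilizer N a →* MulAut (P : Subgroup G) :=
    ((P : Subgroup G).normalizerMonoidHom).comp (MulAction.stabilizer N a).subtype
  have hφ : Function.Injective φ := by
    rw [injective_iff_map_eq_one]
    intro x hx
    have hker : (x : N) ∈ (P : Subgroup G).normalizerMonoidHom.ker := hx
    rw [Subgroup.normalizerMonoidHom_ker, Subgroup.mem_subgroupOf,
      Subgroup.mem_centralizer_iff] at hker
    have hfix : ∀ z : α, ((x : N) : G) • z = z := fun z =>
      CfsgLib.Perm.Basic.eq_self_of_commute (G := (P : Subgroup G))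
        (c := fun z => ((x : N) : G) • z)
        (fun g w => by
          change ((x : N) : G) • (g : G) • w = (g : G) • ((x : N) : G) • w
          rw [smul_smul, smul_smul, hker g g.2])
        (a := a) x.2 z
    apply Subtype.ext; apply Subtype.ext; apply Subtype.ext
    exact Equiv.Perm.ext hfix
  have hd : Nat.card (MulAction.stabilizer N a) ∣ 12 := by
    have h := Subgroup.card_dvd_of_injective φ hφ
    rw [IsCyclic.card_mulAut, hP, Nat.totient_prime (by norm_num)] at h
    simpa using h
  have h2 : Nat.card (Sylow 13 G) * (13 * Nat.card (MulAction.stabilizer N a)) = 13 * 95040 := by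
    rw [Sylow.card_eq_index_normalizer P]
    change N.index * _ = _
    rw [hα'] at hcardN
    rw [← hcardN, Subgroup.index_mul_card, hG]
  have h3 : Nat.card (Sylow 13 G) * Nat.card (MulAction.stabilizer N a) = 95040 := by
    rw [Nat.mul_left_comm] at h2
    exact Nat.eq_of_mul_eq_mul_left (by norm_num) h2
  have hle := Nat.le_of_dvd (by norm_num) hd
  unfold Nat.ModEq at h1
  have hmul : (Nat.card (Sylow 13 G) * Nat.card (MulAction.stabilizer N a)) % 13 = 95040 % 13 := by
    rw [h3]
  rw [Nat.mul_mod, h1] at hmul
  simp only [show 1 % 13 = 1 by norm_num, one_mul, Nat.mod_mod] at hmul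
  generalize Nat.card (MulAction.stabilizer N a) = d at hd hle hmul
  interval_cases d <;> first | omega | (norm_num at hd)

end Cfsg.Agent.S0710
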