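import Mathlib
import Cfsg.Statements.S0711
-- import your own Cfsg.Agent.* helpers here

set_option autoImplicit false
open Cfsg

namespace Cfsg.Agent.S0711

open Equiv MulAction

variable {α : Type*} [Fintype α] [DecidableEq α]

theorem exists_map {G : Subgroup (Equiv.Perm α)} {k : ℕ} (hkn : k ≤ Fintype.card α)
    (hG : IsMultiplyPretransitive G α k) (S : Finset α) (hS : S.card ≤ k) (f : α → α)
    (hf : Set.InjOn f S) : ∃ x ∈ G, ∀ a ∈ S, x a = f a := by
  have : IsMultiplyPretransitive G α S.card :=
    isMultiplyPretransitive_of_le hS (by simpa using hkn)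
  let e := S.equivFin.symm
  let u : Fin S.card ↪ α := ⟨fun i => (e i : α), fun i j h => e.injective (Subtype.ext h)⟩
  let v : Fin S.card ↪ α :=
    ⟨fun i => f (e i), fun i j h => e.injective (Subtype.ext (hf (e i).2 (e j).2 h))⟩
  obtain ⟨x, hx⟩ := exists_smul_eq G u v
  refine ⟨x, x.2, fun a ha => ?_⟩
  have h := DFunLike.congr_fun hx (e.symm ⟨a, ha⟩)
  change (x : Equiv.Perm α) ((e (e.symm ⟨a, ha⟩)) : α) = f (e (e.symm ⟨a, ha⟩)) at h
  rwa [Equiv.apply_symm_apply] at h

theorem exists_segments (g : Equiv.Perm α) : ∀ j, j ≤ g.support.card →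
    ∃ K : Finset α, K ⊆ g.support ∧ K.card = j ∧ (K.filter (fun a => g a ∉ K)).card ≤ 1 := by
  intro j
  induction j with
  | zero => exact fun _ => ⟨∅, by simp, rfl, by simp⟩
  | succ j ih =>
    intro hj
    obtain ⟨K, hK, hc, hE⟩ := ih (by omega)
    by_cases hex : ∃ a ∈ K, g a ∉ K
    · obtain ⟨a, ha, hga⟩ := hex
      refine ⟨insert (g a) K, Finset.insert_subset ?_ hK, by simp [hga, hc], ?_⟩
      · exact Equiv.Perm.apply_mem_support.mpr (hK ha)
      · rw [Finset.card_le_one]
        have huniq := Finset.card_le_one.mp hE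
        have : ∀ x, x ∈ (insert (g a) K).filter (fun b => g b ∉ insert (g a) K) → x = g a := by
          intro x hx
          simp only [Finset.mem_filter, Finset.mem_insert, not_or] at hx
          rcases hx.1 with h | h
          · exact h
          · have : x = a := huniq x (by simp [h, hx.2.2]) a (by simp [ha, hga])
            exact absurd (by rw [this]) hx.2.1
        intro x hx y hy
        rw [this x hx, this y hy]
    · push Not at hex
      obtain ⟨b, hb, hbK⟩ : ∃ b ∈ g.support, b ∉ K := by
        apply Finset.exists_mem_notMem_of_card_lt_card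
        omega
      refine ⟨insert b K, Finset.insert_subset hb hK, by simp [hbK, hc], ?_⟩
      rw [Finset.card_le_one]
      have : ∀ x, x ∈ (insert b K).filter (fun a => g a ∉ insert b K) → x = b := by
        intro x hx
        simp only [Finset.mem_filter, Finset.mem_insert, not_or] at hx
        rcases hx.1 with h | h
        · exact h
        · exact absurd (hex x h) hx.2.2
      intro x hx y hy
      rw [this x hx, this y hy]

/-- Support bound for `g⁻¹ * (x g x⁻¹)` when `x` fixes `K` pointwise. -/
theorem bound (g x : Equiv.Perm α) (K T : Finset α) (hK : ∀ a ∈ K, x a = a) (hKs : K ⊆ g.support)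
    (hT : T ⊆ g.support ∩ g.support.map x.toEmbedding) :
    (g⁻¹ * (x * g * x⁻¹)).support.card + (K.filter (fun a => g a ∈ K)).card + T.card
        ≤ 2 * g.support.card ∧
      (g⁻¹ * (x * g * x⁻¹)).support.card + (K.filter (fun a => g a ∈ K)).card
        ≤ Fintype.card α := by
  have hdisj : Disjoint (g⁻¹ * (x * g * x⁻¹)).support (K.filter (fun a => g a ∈ K)) := by
    rw [Finset.disjoint_right]
    intro a ha
    rw [Finset.mem_filter] at ha
    rw [Equiv.Perm.notMem_support]
    have h1 : x⁻¹ a = a := by
      conv_lhs => rw [← hK a ha.1]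
      simp
    rw [Equiv.Perm.mul_apply, Equiv.Perm.mul_apply, Equiv.Perm.mul_apply, h1, hK _ ha.2]
    simp
  constructor
  · have hsub : (g⁻¹ * (x * g * x⁻¹)).support ∪ K.filter (fun a => g a ∈ K) ⊆
        g.support ∪ g.support.map x.toEmbedding := by
      refine Finset.union_subset ?_ ?_
      · refine (Equiv.Perm.support_mul_le _ _).trans ?_
        rw [Equiv.Perm.support_inv, Equiv.Perm.support_conj]
        exact le_rfl
      · exact (Finset.filter_subset _ _).trans (hKs.trans Finset.subset_union_left)
    have h1 := Finset.card_le_card hsub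
    rw [Finset.card_union_of_disjoint hdisj] at h1
    have h2 := Finset.card_union_add_card_inter g.support (g.support.map x.toEmbedding)
    have h3 := Finset.card_le_card hT
    rw [Finset.card_map] at h2
    omega
  · rw [← Finset.card_union_of_disjoint hdisj]
    exact Finset.card_le_univ _

theorem outside {G : Subgroup (Equiv.Perm α)} {k : ℕ} (hkn : k ≤ Fintype.card α)
    (hG : IsMultiplyPretransitive G α k) (g : Equiv.Perm α) (hg : g ∈ G) (K : Finset α)
    (hKs : K ⊆ g.support) (hKk : K.card < k) (hKm : K.card < g.support.card)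
    (hmn : g.support.card < Fintype.card α) :
    ∃ h ∈ G, h ≠ 1 ∧
      h.support.card + (K.filter (fun a => g a ∈ K)).card + K.card ≤ 2 * g.support.card := by
  obtain ⟨b, hb, hbK⟩ : ∃ b ∈ g.support, b ∉ K := Finset.exists_mem_notMem_of_card_lt_card hKm
  obtain ⟨c, -, hc⟩ : ∃ c ∈ (Finset.univ : Finset α), c ∉ g.support :=
    Finset.exists_mem_notMem_of_card_lt_card (by simpa using hmn)
  obtain ⟨x, hxG, hx⟩ := exists_map hkn hG (insert b K) (by simp [hbK]; omega)
    (Function.update id b c) (by
      intro u hu v hv huv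
      simp only [Finset.coe_insert, Set.mem_insert_iff, Finset.mem_coe] at hu hv
      rcases hu with rfl | hu <;> rcases hv with rfl | hv
      · rfl
      · rw [Function.update_self, Function.update_of_ne (by grind)] at huv
        simp only [id_eq] at huv; exact absurd (hKs hv) (huv ▸ hc)
      · rw [Function.update_self, Function.update_of_ne (by grind)] at huv
        simp only [id_eq] at huv; exact absurd (hKs hu) (huv ▸ hc)
      · rwa [Function.update_of_ne (by grind), Function.update_of_ne (by grind)] at huv)
  have hxK : ∀ a ∈ K, x a = a := fun a ha => by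
    rw [hx a (Finset.mem_insert_of_mem ha), Function.update_of_ne (by grind)]; rfl
  have hxb : x b = c := by rw [hx b (Finset.mem_insert_self _ _), Function.update_self]
  refine ⟨g⁻¹ * (x * g * x⁻¹),
    G.mul_mem (G.inv_mem hg) (G.mul_mem (G.mul_mem hxG hg) (G.inv_mem hxG)), ?_, ?_⟩
  · intro h
    rw [inv_mul_eq_one] at h
    have h1 : c ∈ (x * g * x⁻¹).support := by
      rw [Equiv.Perm.support_conj, Finset.mem_map]; exact ⟨b, hb, hxb⟩
    rw [← h] at h1
    exact hc h1
  · have := (bound g x K K hxK hKs (fun a ha => by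
      rw [Finset.mem_inter, Finset.mem_map]
      exact ⟨hKs ha, a, hKs ha, hxK a ha⟩)).1
    exact this

theorem inside {G : Subgroup (Equiv.Perm α)} {k : ℕ} (hkn : k ≤ Fintype.card α)
    (hG : IsMultiplyPretransitive G α k) (g : Equiv.Perm α) (hg : g ∈ G) (K : Finset α)
    (hKs : K ⊆ g.support) (hKk : K.card < k) (hKm : K.card + 1 < g.support.card)
    (a : α) (ha : a ∈ K) (hga : g a ∉ K) :
    ∃ h ∈ G, h ≠ 1 ∧
      h.support.card + (K.filter (fun a => g a ∈ K)).card + (K.card + 1) ≤ 2 * g.support.card ∧
      h.support.card + (K.filter (fun a => g a ∈ K)).card ≤ Fintype.card α := by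
  have hgas : g a ∈ g.support := Equiv.Perm.apply_mem_support.mpr (hKs ha)
  obtain ⟨b', hb', hb'n⟩ : ∃ b' ∈ g.support, b' ∉ insert (g a) K :=
    Finset.exists_mem_notMem_of_card_lt_card (by simp [hga]; omega)
  simp only [Finset.mem_insert, not_or] at hb'n
  obtain ⟨x, hxG, hx⟩ := exists_map hkn hG (insert (g a) K) (by simp [hga]; omega)
    (Function.update id (g a) b') (by
      intro u hu v hv huv
      simp only [Finset.coe_insert, Set.mem_insert_iff, Finset.mem_coe] at hu hv
      rcases hu with rfl | hu <;> rcases hv with rfl | hv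
      · rfl
      · rw [Function.update_self, Function.update_of_ne (by grind)] at huv
        simp only [id_eq] at huv; exact absurd hv (huv ▸ hb'n.2)
      · rw [Function.update_self, Function.update_of_ne (by grind)] at huv
        simp only [id_eq] at huv; exact absurd hu (huv ▸ hb'n.2)
      · rwa [Function.update_of_ne (by grind), Function.update_of_ne (by grind)] at huv)
  have hxK : ∀ y ∈ K, x y = y := fun y hy => by
    rw [hx y (Finset.mem_insert_of_mem hy), Function.update_of_ne (by grind)]; rfl
  have hxb : x (g a) = b' := by rw [hx _ (Finset.mem_insert_self _ _), Function.update_self]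
  refine ⟨g⁻¹ * (x * g * x⁻¹),
    G.mul_mem (G.inv_mem hg) (G.mul_mem (G.mul_mem hxG hg) (G.inv_mem hxG)), ?_, ?_⟩
  · intro h
    rw [inv_mul_eq_one] at h
    have h1 : x⁻¹ a = a := by
      conv_lhs => rw [← hxK a ha]
      simp
    have h2 : (x * g * x⁻¹) a = b' := by
      rw [Equiv.Perm.mul_apply, Equiv.Perm.mul_apply, h1, hxb]
    rw [← h] at h2
    exact hb'n.1 h2.symm
  · have := bound g x K (insert b' K) hxK hKs (fun y hy => by
      rw [Finset.mem_inter, Finset.mem_map]
      rcases Finset.mem_insert.mp hy with rfl | hy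
      · exact ⟨hb', g a, hgas, hxb⟩
      · exact ⟨hKs hy, y, hKs hy, hxK y hy⟩)
    rw [Finset.card_insert_of_notMem hb'n.2] at this
    exact this

theorem smaller {G : Subgroup (Equiv.Perm α)} {k : ℕ} (hk : 3 ≤ k) (hkn : k ≤ Fintype.card α)
    (hG : IsMultiplyPretransitive G α k) (g : Equiv.Perm α) (hg : g ∈ G)
    (hlt : g.support.card < 2 * k - 2) (h4 : 4 ≤ g.support.card) :
    ∃ h ∈ G, h ≠ 1 ∧ h.support.card < g.support.card := by
  have hmn : g.support.card ≤ Fintype.card α := Finset.card_le_univ _
  have hfilt : ∀ K : Finset α,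
      (K.filter (fun a => g a ∈ K)).card + (K.filter (fun a => g a ∉ K)).card = K.card :=
    fun K => Finset.card_filter_add_card_filter_not _
  by_cases hmk : g.support.card ≤ k
  · by_cases hn : g.support.card < Fintype.card α
    · obtain ⟨K, hKs, hKc, hKE⟩ := exists_segments g (g.support.card - 1) (by omega)
      obtain ⟨h, hh, hh1, hb⟩ := outside hkn hG g hg K hKs (by omega) (by omega) hn
      refine ⟨h, hh, hh1, ?_⟩
      have := hfilt K
      omega
    · obtain ⟨a, ha⟩ : g.support.Nonempty := Finset.card_pos.mp (by omega)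
      have hne : g a ≠ a := Equiv.Perm.mem_support.mp ha
      obtain ⟨x, hxG, hx⟩ := exists_map hkn hG Finset.univ (by simp; omega)
        (Equiv.swap a (g a)) ((Equiv.swap a (g a)).injective.injOn)
      have : x = Equiv.swap a (g a) := Equiv.ext fun y => hx y (Finset.mem_univ _)
      subst this
      refine ⟨_, hxG, fun h => hne ?_, ?_⟩
      · exact (Equiv.swap_eq_one_iff.mp h).symm
      · rw [Equiv.Perm.support_swap (Ne.symm hne), Finset.card_pair (Ne.symm hne)]; omega
  · obtain ⟨K, hKs, hKc, hKE⟩ := exists_segments g (k - 1) (by omega)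
    have hf := hfilt K
    by_cases hex : ∃ a ∈ K, g a ∉ K
    · obtain ⟨a, ha, hga⟩ := hex
      obtain ⟨h, hh, hh1, hb, -⟩ := inside hkn hG g hg K hKs (by omega) (by omega) a ha hga
      exact ⟨h, hh, hh1, by omega⟩
    · push Not at hex
      have hall : K.filter (fun a => g a ∈ K) = K := Finset.filter_true_of_mem hex
      by_cases hn : g.support.card < Fintype.card α
      · obtain ⟨h, hh, hh1, hb⟩ := outside hkn hG g hg K hKs (by omega) (by omega) hn
        rw [hall] at hb
        exact ⟨h, hh, hh1, by omega⟩
      · -- no fixed point: perturb `K` to create an exception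
        obtain ⟨a, ha⟩ : K.Nonempty := Finset.card_pos.mp (by omega)
        obtain ⟨b, hb, hbK⟩ : ∃ b ∈ g.support, b ∉ K :=
          Finset.exists_mem_notMem_of_card_lt_card (by omega)
        obtain ⟨a0, ha0, hga0⟩ : ∃ a0 ∈ K, g a0 = a := by
          have himg : K.image g = K := Finset.eq_of_subset_of_card_le
            (Finset.image_subset_iff.mpr hex) (by rw [Finset.card_image_of_injective _ g.injective])
          rw [← himg, Finset.mem_image] at ha
          exact ha
        have ha0a : a0 ≠ a := by
          rintro rfl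
          exact Equiv.Perm.mem_support.mp (hKs ha0) hga0
        obtain ⟨d, hd, hdn⟩ : ∃ d ∈ K, d ∉ ({a, a0} : Finset α) :=
          Finset.exists_mem_notMem_of_card_lt_card (lt_of_le_of_lt Finset.card_le_two (by omega))
        simp only [Finset.mem_insert, Finset.mem_singleton, not_or] at hdn
        obtain ⟨h, hh, hh1, -, hb2⟩ := inside hkn hG g hg (insert b (K.erase a))
          (Finset.insert_subset hb ((Finset.erase_subset _ _).trans hKs))
          (by rw [Finset.card_insert_of_notMem (by simp [hbK]), Finset.card_erase_of_mem ha]; omega)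
          (by rw [Finset.card_insert_of_notMem (by simp [hbK]), Finset.card_erase_of_mem ha]; omega)
          a0 (by simp [ha0, ha0a]) (by
            rw [hga0]
            simp only [Finset.mem_insert, Finset.mem_erase, ne_eq, not_true, false_and, or_false]
            exact fun h => hbK (h ▸ ha))
        refine ⟨h, hh, hh1, ?_⟩
        have hpos : 0 < ((insert b (K.erase a)).filter
            (fun y => g y ∈ insert b (K.erase a))).card := by
          apply Finset.card_pos.mpr
          refine ⟨d, Finset.mem_filter.mpr ⟨by simp [hd, hdn.1], ?_⟩⟩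
          refine Finset.mem_insert_of_mem (Finset.mem_erase.mpr ⟨?_, hex d hd⟩)
          rw [← hga0]
          exact fun h => hdn.2 (g.injective h)
        omega

/-- A `k`-transitive permutation group (`k ≥ 3`) with a non-identity element of support smaller than `2k - 2` contains a non-identity element of support at most 3, and therefore contains the alternating group. -/
theorem result {α : Type*} [Fintype α] [DecidableEq α] (G : Subgroup (Equiv.Perm α)) {k : ℕ} (hk : 3 ≤ k) (hkn : k ≤ Fintype.card α) (hG : MulAction.IsMultiplyPretransitive G α k) (g : Equiv.Perm α) (hg : g ∈ G) (hg1 : g ≠ 1) (hsupp : g.support.card < 2 * k - 2) : (∃ h : Equiv.Perm α, h ∈ G ∧ h ≠ 1 ∧ h.support.card ≤ 3) ∧ alternatingGroup α ≤ G := by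
  have key : ∀ m (f : Equiv.Perm α), f ∈ G → f ≠ 1 → f.support.card = m → m < 2 * k - 2 →
      ∃ h : Equiv.Perm α, h ∈ G ∧ h ≠ 1 ∧ h.support.card ≤ 3 := by
    intro m
    induction m using Nat.strong_induction_on with
    | _ m ih =>
      intro f hf hf1 hfm hm
      by_cases h4 : 4 ≤ m
      · obtain ⟨h, hh, hh1, hlt⟩ := smaller hk hkn hG f hf (by omega) (by omega)
        exact ih _ (by omega) h hh hh1 rfl (by omega)
      · exact ⟨f, hf, hf1, by omega⟩
  obtain ⟨h, hh, hh1, hh3⟩ := key _ g hg hg1 rfl hsupp
  refine ⟨⟨h, hh, hh1, hh3⟩, ?_⟩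
  have h2 : IsMultiplyPretransitive G α 2 :=
    isMultiplyPretransitive_of_le (n := k) (by omega) (by simpa using hkn)
  have hprim : IsPreprimitive G α := isPreprimitive_of_is_two_pretransitive h2
  have hne0 : h.support.card ≠ 0 := by simp [Equiv.Perm.support_eq_empty_iff, hh1]
  have hne1 : h.support.card ≠ 1 := Equiv.Perm.card_support_ne_one h
  rcases (show h.support.card = 2 ∨ h.support.card = 3 by omega) with e | e
  · rw [Equiv.Perm.subgroup_eq_top_of_isPreprimitive_of_isSwap_mem hprim h
      (Equiv.Perm.card_support_eq_two.mp e) hh]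
    exact le_top
  · exact Equiv.Perm.alternatingGroup_le_of_isPreprimitive_of_isThreeCycle_mem hprim
      (card_support_eq_three_iff.mp e) hh

end Cfsg.Agent.S0711
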