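import Cfsg.Statements.S0712


set_option autoImplicit false
open Cfsg

namespace Cfsg.Agent.S0712

/-- Jordan: a primitive group in which the pointwise stabiliser of a set `s` is doubly transitive on the complement of `s` (which has at least 2 points) is `(|s| + 2)`-transitive. -/
theorem result {α : Type*} [Fintype α] [DecidableEq α] (G : Subgroup (Equiv.Perm α)) (hG : MulAction.IsPreprimitive G α) (s : Set α) {m : ℕ} (hsm : s.ncard = m) (hm : m + 2 ≤ Fintype.card α) (h2 : MulAction.IsMultiplyPretransitive (fixingSubgroup G s) (SubMulAction.ofFixingSubgroup G s) 2) : MulAction.IsMultiplyPretransitive G α (m + 2) := by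
  have hα : Nat.card α = Fintype.card α := Nat.card_eq_fintype_card
  rcases Nat.eq_zero_or_pos m with hm0 | hm0
  · subst hm0
    have hs : s = ∅ := by rwa [Set.ncard_eq_zero (Set.toFinite s)] at hsm
    subst hs
    rw [MulAction.isMultiplyPretransitive_iff]
    intro x y
    have hmem : ∀ z : α, z ∈ SubMulAction.ofFixingSubgroup G (∅ : Set α) := fun z => by
      simp [SubMulAction.mem_ofFixingSubgroup_iff]
    let lift : (Fin 2 ↪ α) → (Fin 2 ↪ SubMulAction.ofFixingSubgroup G (∅ : Set α)) := fun x =>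
      ⟨fun i => ⟨x i, hmem _⟩, fun i j h => x.injective (congrArg Subtype.val h)⟩
    obtain ⟨g, hg⟩ := MulAction.exists_smul_eq (fixingSubgroup G (∅ : Set α)) (lift x) (lift y)
    refine ⟨(g : G), Function.Embedding.ext fun i => ?_⟩
    exact congrArg Subtype.val (DFunLike.congr_fun hg i)
  obtain ⟨n, rfl⟩ : ∃ n, m = n + 1 := ⟨m - 1, by omega⟩
  have hprim := MulAction.isPreprimitive_of_is_two_pretransitive h2
  have hmp := hG.isMultiplyPreprimitive hsm (by omega) hprim
  have ht : MulAction.IsMultiplyPretransitive G α (n + 2) :=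
    hmp.isMultiplyPretransitive
  rw [MulAction.isMultiplyPretransitive_iff]
  intro x y
  obtain ⟨e⟩ : Nonempty (Fin (n + 1) ≃ s) := Finite.card_eq.mp (by
    rw [Nat.card_fin, Nat.card_coe_set_eq, hsm])
  have h1 : MulAction.IsMultiplyPretransitive G α (n + 1) :=
    MulAction.isMultiplyPretransitive_of_le' (n := n + 2) (Nat.le_succ _) (by
      rw [ENat.card_eq_coe_fintype_card]; exact_mod_cast (by omega))
  let ι : Fin (n + 1) ↪ Fin (n + 1 + 2) := Fin.castAddEmb 2
  let base : Fin (n + 1) ↪ α := e.toEmbedding.trans (Function.Embedding.subtype _)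
  obtain ⟨g₁, hg₁⟩ := MulAction.exists_smul_eq G (ι.trans x) base
  obtain ⟨g₂, hg₂⟩ := MulAction.exists_smul_eq G (ι.trans y) base
  have hout : ∀ (z : Fin (n + 1 + 2) ↪ α) (g : G), g • (ι.trans z) = base → ∀ i : Fin 2,
      g • z (Fin.natAdd (n + 1) i) ∈ SubMulAction.ofFixingSubgroup G s := by
    intro z g hg i
    rw [SubMulAction.mem_ofFixingSubgroup_iff]
    intro hmem
    obtain ⟨j, hj⟩ := e.surjective ⟨_, hmem⟩
    have h' : g • z (ι j) = g • z (Fin.natAdd (n + 1) i) := by
      have := DFunLike.congr_fun hg j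
      simp only [Function.Embedding.smul_apply, Function.Embedding.trans_apply, base] at this
      rw [this]
      simp [hj]
    have := z.injective (smul_left_cancel g h')
    simp [ι, Fin.ext_iff] at this
    omega
  let lift : ∀ (z : Fin (n + 1 + 2) ↪ α) (g : G), g • (ι.trans z) = base →
      (Fin 2 ↪ SubMulAction.ofFixingSubgroup G s) := fun z g hg =>
    ⟨fun i => ⟨_, hout z g hg i⟩, fun i j h =>
      Fin.natAdd_injective 2 (n + 1) (z.injective (smul_left_cancel g (congrArg Subtype.val h)))⟩
  obtain ⟨k, hk⟩ := MulAction.exists_smul_eq (fixingSubgroup G s) (lift x g₁ hg₁) (lift y g₂ hg₂)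
  refine ⟨g₂⁻¹ * (k : G) * g₁, Function.Embedding.ext fun i => ?_⟩
  rw [Function.Embedding.smul_apply, mul_smul, mul_smul, inv_smul_eq_iff]
  refine Fin.addCases (fun j => ?_) (fun j => ?_) i
  · have e1 : g₁ • x (Fin.castAdd 2 j) = base j := DFunLike.congr_fun hg₁ j
    have e2 : g₂ • y (Fin.castAdd 2 j) = base j := DFunLike.congr_fun hg₂ j
    rw [e1, e2]
    exact (mem_fixingSubgroup_iff G).mp k.2 _ (e j).2
  · exact congrArg Subtype.val (DFunLike.congr_fun hk j)

end Cfsg.Agent.S0712
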