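import Cfsg.Statements.S0714
import Cfsg.Agent.Lib.Perm.PermRep

set_option autoImplicit false
open Cfsg

namespace Cfsg.Agent.S0714

/-- Over any field, the permutation module of the alternating group of degree at least 5 has exactly four invariant subspaces: zero, the constant functions, the functions with coordinate sum zero, and everything. -/
theorem result {α : Type*} [Fintype α] [DecidableEq α] (hα : 5 ≤ Fintype.card α) {K : Type*} [Field K] (W : Subrepresentation (Cfsg.permRep K (alternatingGroup α) α)) : W.toSubmodule = ⊥ ∨ W = Cfsg.permConstants K (alternatingGroup α) α ∨ W = Cfsg.permSumZero K (alternatingGroup α) α ∨ W.toSubmodule = ⊤ := by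
  classical
  open CfsgLib.Perm.PermRep in
  by_cases hconst : ∀ v ∈ W.toSubmodule, ∀ x y : α, v x = v y
  · by_cases hbot : W.toSubmodule = ⊥
    · exact Or.inl hbot
    refine Or.inr (Or.inl (subrep_ext (le_antisymm (fun v hv => ?_) ?_)))
    · rcases isEmpty_or_nonempty α with he | ⟨⟨a⟩⟩
      · exact mem_permConstants.mpr ⟨0, funext fun x => isEmptyElim x⟩
      · exact mem_permConstants.mpr ⟨v a, funext fun x => hconst v hv x a⟩
    · obtain ⟨v, hv, hv0⟩ := Submodule.exists_mem_ne_zero_of_ne_bot hbot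
      obtain ⟨a, ha⟩ := Function.ne_iff.mp hv0
      intro w hw
      obtain ⟨c, rfl⟩ := mem_permConstants.mp hw
      convert W.toSubmodule.smul_mem (c / v a) hv using 1
      funext x
      simp only [Pi.smul_apply, smul_eq_mul, hconst v hv x a]
      exact (div_mul_cancel₀ _ ha).symm
  push Not at hconst
  obtain ⟨v, hv, a, b, hab⟩ := hconst
  have hne : a ≠ b := fun h => hab (h ▸ rfl)
  have hthird : ∀ s : Finset α, s.card ≤ 4 → ∃ c, c ∉ s := fun s hs => by
    by_contra hh
    push Not at hh
    have : s = Finset.univ := Finset.eq_univ_of_forall hh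
    rw [this, Finset.card_univ] at hs; omega
  obtain ⟨c, hc⟩ := hthird {a, b} (le_trans Finset.card_le_two (by norm_num))
  obtain ⟨d, hd⟩ := hthird {a, b, c} (le_trans Finset.card_le_three (by norm_num))
  obtain ⟨e, he⟩ := hthird {a, b, c, d} Finset.card_le_four
  simp only [Finset.mem_insert, Finset.mem_singleton, not_or] at hc hd he
  have hdist : List.Nodup [a, b, c, d, e] := by
    simp [hne, Ne.symm hc.1, Ne.symm hc.2, Ne.symm hd.1, Ne.symm hd.2.1, Ne.symm hd.2.2, Ne.symm he.1,
      Ne.symm he.2.1, Ne.symm he.2.2.1, Ne.symm he.2.2.2]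
  have act : ∀ (g : Equiv.Perm α), g ∈ alternatingGroup α → ∀ w ∈ W.toSubmodule,
      (fun x => w (g⁻¹ x)) ∈ W.toSubmodule := fun g hg w hw => W.apply_mem_toSubmodule ⟨g, hg⟩ hw
  have dmem : ∀ x y z u : α, x ≠ y → z ≠ u →
      Equiv.swap x y * Equiv.swap z u ∈ alternatingGroup α := fun x y z u hxy hzu => by
    simp [Equiv.Perm.mem_alternatingGroup, Equiv.Perm.sign_mul, Equiv.Perm.sign_swap hxy,
      Equiv.Perm.sign_swap hzu]
  have h2 : ∀ x y x' y' : α, x ≠ y → x' ≠ y' →
      ∃ g ∈ alternatingGroup α, g x = x' ∧ g y = y' := by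
    intro x y x' y' hxy hxy'
    have := alternatingGroup.isMultiplyPretransitive α
    have h22 : MulAction.IsMultiplyPretransitive (alternatingGroup α) α 2 :=
      MulAction.isMultiplyPretransitive_of_le' (n := Nat.card α - 2)
        (by rw [Nat.card_eq_fintype_card]; omega) (by
          rw [ENat.card_eq_coe_fintype_card, Nat.card_eq_fintype_card]; exact_mod_cast Nat.sub_le _ _)
    obtain ⟨g, h1, h2⟩ := (MulAction.is_two_pretransitive_iff.mp h22) hxy hxy'
    exact ⟨g, g.2, h1, h2⟩
  obtain ⟨i, j, hij, hd'⟩ : ∃ i j : α, i ≠ j ∧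
      (Pi.single i 1 - Pi.single j 1 : α → K) ∈ W.toSubmodule := by
    let t := Equiv.swap a b * Equiv.swap c d
    let u : α → K := (fun x => v (t⁻¹ x)) - v
    have hu : u ∈ W.toSubmodule := W.toSubmodule.sub_mem (act t (dmem a b c d hne (Ne.symm hd.2.2)) v hv) hv
    let σ := Equiv.swap a e * Equiv.swap c d
    let r : α → K := u + fun x => u (σ⁻¹ x)
    have hr : r ∈ W.toSubmodule :=
      W.toSubmodule.add_mem hu (act σ (dmem a e c d (Ne.symm he.1) (Ne.symm hd.2.2)) u hu)
    let g := Equiv.swap c e * Equiv.swap c d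
    let q : α → K := r - fun x => r (g⁻¹ x)
    have hq : q ∈ W.toSubmodule :=
      W.toSubmodule.sub_mem hr (act g (dmem c e c d (Ne.symm he.2.2.1) (Ne.symm hd.2.2)) r hr)
    have hα0 : v b - v a ≠ 0 := sub_ne_zero.mpr (Ne.symm hab)
    simp only [List.nodup_cons, List.mem_cons, List.not_mem_nil, or_false, not_or, List.nodup_nil,
      not_false_iff, and_true] at hdist
    obtain ⟨⟨hab', hac, had, hae⟩, ⟨hbc, hbd, hbe⟩, ⟨hcd, hce⟩, hde⟩ := hdist
    by_cases hβ : v d - v c = 0
    · refine ⟨a, b, hab', ?_⟩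
      have : u = (v b - v a) • (Pi.single a 1 - Pi.single b 1 : α → K) := by
        funext x
        simp only [u, t, mul_inv_rev, Equiv.swap_inv, Equiv.Perm.mul_apply, Pi.sub_apply, Pi.smul_apply, smul_eq_mul]
        rcases eq_or_ne x a with rfl | hxa
        · simp [Equiv.swap_apply_of_ne_of_ne hbc hbd, Pi.single_eq_of_ne hab']
        rcases eq_or_ne x b with rfl | hxb
        · simp [Equiv.swap_apply_of_ne_of_ne hac had, Pi.single_eq_of_ne hxa]
        rcases eq_or_ne x c with rfl | hxc
        · simp [Equiv.swap_apply_of_ne_of_ne hxa hxb, Equiv.swap_apply_of_ne_of_ne (Ne.symm had) (Ne.symm hbd),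
            Pi.single_eq_of_ne hxa, Pi.single_eq_of_ne hxb, hβ]
        rcases eq_or_ne x d with rfl | hxd
        · simp [Equiv.swap_apply_of_ne_of_ne hxa hxb, Equiv.swap_apply_of_ne_of_ne (Ne.symm hac) (Ne.symm hbc),
            Pi.single_eq_of_ne hxa, Pi.single_eq_of_ne hxb, sub_eq_zero.mp hβ]
        simp [Equiv.swap_apply_of_ne_of_ne hxa hxb, Equiv.swap_apply_of_ne_of_ne hxc hxd,
            Pi.single_eq_of_ne hxa, Pi.single_eq_of_ne hxb]
      have h' := W.toSubmodule.smul_mem (v b - v a)⁻¹ hu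
      rwa [this, smul_smul, inv_mul_cancel₀ hα0, one_smul] at h'
    · refine ⟨e, c, Ne.symm hce, ?_⟩
      have : q = (v b - v a) • (Pi.single e 1 - Pi.single c 1 : α → K) := by
        funext x
        simp only [q, r, u, g, σ, t, mul_inv_rev, Equiv.swap_inv, Equiv.Perm.mul_apply, Pi.sub_apply,
          Pi.add_apply, Pi.smul_apply, smul_eq_mul, Equiv.swap_apply_def, Pi.single_apply]
        grind
      have h' := W.toSubmodule.smul_mem (v b - v a)⁻¹ hq
      rwa [this, smul_smul, inv_mul_cancel₀ hα0, one_smul] at h'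
  have hall : ∀ x y : α, (Pi.single x 1 - Pi.single y 1 : α → K) ∈ W.toSubmodule := by
    intro x y
    rcases eq_or_ne x y with rfl | hxy
    · simp
    obtain ⟨g, hg, h1, h2⟩ := h2 i j x y hij hxy
    have := W.apply_mem_toSubmodule ⟨g, hg⟩ hd'
    rw [map_sub, permRep_single, permRep_single] at this
    have e1 : (⟨g, hg⟩ : alternatingGroup α) • i = x := h1
    have e2 : (⟨g, hg⟩ : alternatingGroup α) • j = y := h2
    rwa [e1, e2] at this
  have hrep : ∀ w : α → K, w = (∑ x, w x) • Pi.single a 1 +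
      ∑ x, w x • (Pi.single x 1 - Pi.single a 1 : α → K) := fun w => by
    funext y
    simp [Finset.sum_apply, mul_sub, Finset.sum_sub_distrib, Pi.single_apply, ← Finset.sum_mul]
  have hS : (Cfsg.permSumZero K (alternatingGroup α) α).toSubmodule ≤ W.toSubmodule := by
    intro w hw
    have h0 : ∑ x, w x = 0 := hw
    rw [hrep w, h0, zero_smul, zero_add]
    exact Submodule.sum_mem _ fun x _ => W.toSubmodule.smul_mem _ (hall x a)
  by_cases hle : W.toSubmodule ≤ (Cfsg.permSumZero K (alternatingGroup α) α).toSubmodule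
  · exact Or.inr (Or.inr (Or.inl (subrep_ext (le_antisymm hle hS))))
  obtain ⟨w, hw, hw'⟩ := SetLike.not_le_iff_exists.mp hle
  have hda : (Pi.single a 1 : α → K) ∈ W.toSubmodule := by
    have h1 : (∑ x, w x) • (Pi.single a 1 : α → K) ∈ W.toSubmodule := by
      rw [eq_sub_of_add_eq (hrep w).symm]
      exact W.toSubmodule.sub_mem hw (Submodule.sum_mem _ fun x _ => W.toSubmodule.smul_mem _ (hall x a))
    have h2 := W.toSubmodule.smul_mem (∑ x, w x)⁻¹ h1
    rwa [smul_smul, inv_mul_cancel₀ (fun h => hw' h), one_smul] at h2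
  refine Or.inr (Or.inr (Or.inr (eq_top_iff.mpr fun z _ => ?_)))
  rw [hrep z]
  exact W.toSubmodule.add_mem (W.toSubmodule.smul_mem _ hda)
    (Submodule.sum_mem _ fun x _ => W.toSubmodule.smul_mem _ (hall x a))

end Cfsg.Agent.S0714
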