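import Cfsg.Statements.S0716
import Cfsg.Agent.Lib.Perm.Suborbits

set_option autoImplicit false
open Cfsg

namespace Cfsg.Agent.S0716

/-- (a) If all non-principal irreducible constituents of the permutation character of a transitive group have the same degree `f`, the character is multiplicity-free and all non-trivial subdegrees equal `f`. (b) A transitive group of rank at most 5 has multiplicity-free permutation character. -/
theorem result {G : Type*} [Group G] [Fintype G] {Ω : Type*} [Fintype Ω] [MulAction G Ω] [MulAction.IsPretransitive G Ω] (a : Ω) : ((f : ℕ) → (∀ χ : G → ℂ, Cfsg.IsIrrCharacter G χ → χ ≠ (fun _ => 1) → Cfsg.classInner (fun g : G => (Nat.card (MulAction.fixedBy Ω g) : ℂ)) χ ≠ 0 → χ 1 = f) → (∀ χ : G → ℂ, Cfsg.IsIrrCharacter G χ → Cfsg.classInner (fun g : G => (Nat.card (MulAction.fixedBy Ω g) : ℂ)) χ = 0 ∨ Cfsg.classInner (fun g : G => (Nat.card (MulAction.fixedBy Ω g) : ℂ)) χ = 1) ∧ ∀ b : Ω, b ≠ a → Nat.card (MulAction.orbit (MulAction.stabilizer G a)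 b) = f) ∧ (Nat.card (MulAction.orbitRel.Quotient (MulAction.stabilizer G a) Ω) ≤ 5 → ∀ χ : G → ℂ, Cfsg.IsIrrCharacter G χ → Cfsg.classInner (fun g : G => (Nat.card (MulAction.fixedBy Ω g) : ℂ)) χ = 0 ∨ Cfsg.classInner (fun g : G => (Nat.card (MulAction.fixedBy Ω g) : ℂ)) χ = 1) := by
  open CfsgLib.Perm.CentralizerRing CfsgLib.Perm.Suborbits MulAction in
  classical
  haveI : Nonempty Ω := ⟨a⟩
  set ρ := Cfsg.permRep ℂ G Ω with hρ
  have hcases : ∀ χ : G → ℂ, Cfsg.IsIrrCharacter G χ → (∀ φ, mult ρ φ ≤ 1) →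
      Cfsg.classInner (fun g : G => (Nat.card (fixedBy Ω g) : ℂ)) χ = 0 ∨
        Cfsg.classInner (fun g : G => (Nat.card (fixedBy Ω g) : ℂ)) χ = 1 := by
    intro χ hχ h
    rw [← character_fun_eq, classInner_eq_mult (Cfsg.permRep ℂ G Ω) ⟨χ, hχ⟩]
    rcases Nat.le_one_iff_eq_zero_or_eq_one.mp (h ⟨χ, hχ⟩) with h' | h'
    · exact Or.inl (by exact_mod_cast h')
    · exact Or.inr (by exact_mod_cast h')
  -- degree equation
  have hdeg : ((Fintype.card Ω : ℕ) : ℂ) =
      1 + ∑ φ ∈ Finset.univ.erase (trivChar G), (mult ρ φ : ℂ) * (φ : G → ℂ) 1 := by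
    have h := congrFun (CfsgLib.Char.IsClassFunction.eq_sum_irr
      (CfsgLib.Char.IsCharacter.isClassFunction (CfsgLib.Char.isCharacter_of_rep ρ))) 1
    simp only [Finset.sum_apply, Pi.smul_apply, smul_eq_mul, classInner_eq_mult] at h
    rw [Representation.char_one, Module.finrank_fintype_fun_eq_card,
      ← Finset.add_sum_erase _ _ (Finset.mem_univ (trivChar G)), hρ, mult_trivChar, Nat.cast_one,
      one_mul] at h
    exact h
  have hr : Nat.card (orbitRel.Quotient (stabilizer G a) Ω) =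
      1 + ∑ φ ∈ Finset.univ.erase (trivChar G), mult ρ φ ^ 2 := by
    rw [rank_eq a, ← Finset.add_sum_erase _ _ (Finset.mem_univ (trivChar G)), mult_trivChar, one_pow]
  -- the first assertion
  have part : ∀ f : ℕ, (∀ φ, φ ≠ trivChar G → mult ρ φ ≠ 0 → (φ : G → ℂ) 1 = f) →
      (∀ φ, mult ρ φ ≤ 1) ∧ ∀ b : Ω, b ≠ a → Nat.card (orbit (stabilizer G a) b) = f := by
    intro f hf
    have hdvd : ∀ b : Ω, b ≠ a → f ∣ Nat.card (orbit (stabilizer G a) b) := fun b hb =>
      dvd_card_orbit f (fun φ h1 h2 => ⟨1, by rw [hf φ h1 h2, Nat.cast_one, mul_one]⟩) hb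
    have hn : Fintype.card Ω = 1 + f * ∑ φ ∈ Finset.univ.erase (trivChar G), mult ρ φ := by
      have : ((Fintype.card Ω : ℕ) : ℂ) =
          ((1 + f * ∑ φ ∈ Finset.univ.erase (trivChar G), mult ρ φ : ℕ) : ℂ) := by
        rw [hdeg, Finset.mul_sum, Nat.cast_add, Nat.cast_one, Nat.cast_sum]
        congr 1
        refine Finset.sum_congr rfl fun φ hφ => ?_
        by_cases h : mult ρ φ = 0
        · simp [h]
        · rw [hf φ (Finset.mem_erase.mp hφ).1 h, Nat.cast_mul, mul_comm]
      exact_mod_cast this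
    let Q := orbitRel.Quotient (stabilizer G a) Ω
    have hsum : Fintype.card Ω = ∑ q : Q, Nat.card (orbit (stabilizer G a) q.out) := by
      rw [← Nat.card_eq_fintype_card, Nat.card_congr (selfEquivSigmaOrbits (stabilizer G a) Ω),
        Nat.card_sigma]
    set q₀ : Q := Quotient.mk'' a with hq₀
    have horba : orbit (stabilizer G a) a = {a} := by
      ext x
      simp only [mem_orbit_iff, Set.mem_singleton_iff]
      exact ⟨fun ⟨g, hg⟩ => hg ▸ g.2, fun hx => ⟨1, hx ▸ one_smul _ _⟩⟩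
    have hq₀' : ∀ q : Q, q.out = a ↔ q = q₀ := fun q =>
      ⟨fun h => (Quotient.out_eq' q).symm.trans (congrArg Quotient.mk'' h), fun h => by
        have hmem : q.out ∈ orbit (stabilizer G a) a := by
          rw [← orbitRel_apply]
          exact Quotient.exact' (by rw [Quotient.out_eq', h])
        rwa [horba, Set.mem_singleton_iff] at hmem⟩
    rw [← Finset.add_sum_erase _ _ (Finset.mem_univ q₀), (hq₀' q₀).mpr rfl, horba,
      Nat.card_eq_fintype_card (α := ({a} : Set Ω))] at hsum
    simp only [Set.card_singleton] at hsum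
    have hcardQ : (Finset.univ.erase q₀).card =
        ∑ φ ∈ Finset.univ.erase (trivChar G), mult ρ φ ^ 2 := by
      rw [Finset.card_erase_of_mem (Finset.mem_univ _), Finset.card_univ, ← Nat.card_eq_fintype_card,
        hr, Nat.add_sub_cancel_left]
    have horb_pos : ∀ b : Ω, 0 < Nat.card (orbit (stabilizer G a) b) := fun b => by
      haveI : Nonempty (orbit (stabilizer G a) b) := ⟨⟨b, mem_orbit_self b⟩⟩
      exact Nat.card_pos
    have hge : ∀ q ∈ Finset.univ.erase q₀, f ≤ Nat.card (orbit (stabilizer G a) q.out) := fun q hq =>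
      Nat.le_of_dvd (horb_pos _) (hdvd _ fun h => (Finset.mem_erase.mp hq).1 ((hq₀' q).mp h))
    rcases Nat.eq_zero_or_pos f with hf0 | hf0
    · subst hf0
      refine ⟨fun φ => ?_, fun b hb => ?_⟩
      · by_cases h : φ = trivChar G
        · rw [h, hρ, mult_trivChar]
        · by_contra hh
          exact CfsgLib.Char.IsIrrCharacter.apply_one_ne_zero φ.2
            (by rw [hf φ h (by omega), Nat.cast_zero])
      · exfalso
        haveI : Nontrivial Ω := ⟨⟨b, a, hb⟩⟩
        have := Fintype.one_lt_card (α := Ω)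
        omega
    have hle : ∀ φ ∈ Finset.univ.erase (trivChar G), mult ρ φ ≤ mult ρ φ ^ 2 := fun φ _ =>
      Nat.le_self_pow two_ne_zero _
    have h1 : ∑ q ∈ Finset.univ.erase q₀, f ≤
        ∑ q ∈ Finset.univ.erase q₀, Nat.card (orbit (stabilizer G a) q.out) := Finset.sum_le_sum hge
    rw [Finset.sum_const, smul_eq_mul, hcardQ] at h1
    have h2 := Finset.sum_le_sum hle
    have h3 : ∑ φ ∈ Finset.univ.erase (trivChar G), mult ρ φ =
        ∑ φ ∈ Finset.univ.erase (trivChar G), mult ρ φ ^ 2 :=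
      le_antisymm h2 (le_of_mul_le_mul_right (a := f) (by
        rw [mul_comm (∑ φ ∈ Finset.univ.erase (trivChar G), mult ρ φ) f]
        omega) hf0)
    refine ⟨fun φ => ?_, fun b hb => ?_⟩
    · by_cases h : φ = trivChar G
      · rw [h, hρ, mult_trivChar]
      · have he := (Finset.sum_eq_sum_iff_of_le hle).mp h3 φ
          (Finset.mem_erase.mpr ⟨h, Finset.mem_univ _⟩)
        by_contra hh
        nlinarith
    · have heq : ∑ q ∈ Finset.univ.erase q₀, f =
          ∑ q ∈ Finset.univ.erase q₀, Nat.card (orbit (stabilizer G a) q.out) := by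
        rw [Finset.sum_const, smul_eq_mul, hcardQ, ← h3, mul_comm]
        omega
      set q : Q := Quotient.mk'' b with hq
      have hout : orbit (stabilizer G a) q.out = orbit (stabilizer G a) b := by
        rw [orbit_eq_iff, ← orbitRel_apply]
        exact Quotient.exact' (Quotient.out_eq' q)
      rw [← hout]
      refine ((Finset.sum_eq_sum_iff_of_le hge).mp heq q ?_).symm
      refine Finset.mem_erase.mpr ⟨fun h => hb ?_, Finset.mem_univ _⟩
      have hmem : b ∈ orbit (stabilizer G a) a := by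
        rw [← orbitRel_apply]
        exact Quotient.exact' h
      rwa [horba, Set.mem_singleton_iff] at hmem
  refine ⟨fun f hf => ?_, fun h5 χ hχ => ?_⟩
  · have hf' : ∀ φ, φ ≠ trivChar G → mult ρ φ ≠ 0 → (φ : G → ℂ) 1 = f := fun φ h1 h2 =>
      hf φ φ.2 (fun h => h1 (Subtype.ext h))
        (by rw [← character_fun_eq, classInner_eq_mult]; exact_mod_cast h2)
    exact ⟨fun χ hχ => hcases χ hχ (part f hf').1, (part f hf').2⟩
  · refine hcases χ hχ fun φ₀ => ?_
    by_contra hh
    have hne : φ₀ ≠ trivChar G := fun h => hh (by rw [h, hρ, mult_trivChar])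
    have hsplit := Finset.add_sum_erase (Finset.univ.erase (trivChar G)) (fun φ => mult ρ φ ^ 2)
      (Finset.mem_erase.mpr ⟨hne, Finset.mem_univ φ₀⟩)
    have h4 : 4 ≤ mult ρ φ₀ ^ 2 := by
      calc 4 = 2 ^ 2 := by norm_num
        _ ≤ _ := Nat.pow_le_pow_left (by omega) 2
    obtain ⟨d, -, hd⟩ := CfsgLib.Char.IsIrrCharacter.apply_one_eq φ₀.2
    refine hh ((part d fun φ h1 h2 => ?_).1 φ₀)
    suffices φ = φ₀ by rw [this, hd]
    by_contra h3
    have := Finset.single_le_sum (f := fun φ => mult ρ φ ^ 2) (fun _ _ => Nat.zero_le _)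
      (Finset.mem_erase.mpr ⟨h3, Finset.mem_erase.mpr ⟨h1, Finset.mem_univ φ⟩⟩)
    have hpos : 0 < mult ρ φ ^ 2 := Nat.pow_pos (by omega)
    omega

end Cfsg.Agent.S0716
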