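import Cfsg.Statements.S0717
import Cfsg.Agent.Lib.Perm.Suborbits

set_option autoImplicit false
open Cfsg

namespace Cfsg.Agent.S0717

/-- All suborbits of a transitive group are self-paired (every pair of points is interchanged by some group element) if and only if the permutation character is multiplicity-free and each of its irreducible constituents is real-valued. -/
theorem result {G : Type*} [Group G] [Fintype G] {Ω : Type*} [Fintype Ω] [MulAction G Ω] [MulAction.IsPretransitive G Ω] : (∀ a b : Ω, ∃ g : G, g • a = b ∧ g • b = a) ↔ ∀ χ : G → ℂ, Cfsg.IsIrrCharacter G χ → Cfsg.classInner (fun g : G => (Nat.card (MulAction.fixedBy Ω g) : ℂ)) χ ≠ 0 → Cfsg.classInner (fun g : G => (Nat.card (MulAction.fixedBy Ω g) : ℂ)) χ = 1 ∧ ∀ g : G, (starRingEnd ℂ) (χ g) = χ g := by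
  open CfsgLib.Perm.CentralizerRing CfsgLib.Perm.Suborbits MulAction ComplexConjugate in
  classical
  simp only [← character_fun_eq]
  set ρ := Cfsg.permRep ℂ G Ω with hρ
  constructor
  · intro hsw χ hχ hne
    have hsym : ∀ X : Module.End ℂ (Ω → ℂ), (∀ g, X * ρ g = ρ g * X) →
        (LinearMap.toMatrix' X).transpose = LinearMap.toMatrix' X := by
      intro X hX
      ext i j
      obtain ⟨g, hg1, hg2⟩ := hsw i j
      have := (commute_iff X).mp hX g i j
      rwa [hg1, hg2] at this
    have hm : ∀ φ, mult ρ φ ≤ 1 := mult_le_one_of_commute ρ fun X Y hX hY => by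
      apply LinearMap.toMatrix'.injective
      have hXY : ∀ g, X * Y * ρ g = ρ g * (X * Y) := fun g => by
        rw [mul_assoc, hY, ← mul_assoc, hX, mul_assoc]
      rw [← hsym _ hXY, LinearMap.toMatrix'_mul, LinearMap.toMatrix'_mul, Matrix.transpose_mul,
        hsym X hX, hsym Y hY]
    have hm1 : mult ρ ⟨χ, hχ⟩ = 1 := by
      refine le_antisymm (hm _) (Nat.pos_of_ne_zero fun h0 => hne ?_)
      rw [classInner_eq_mult ρ ⟨χ, hχ⟩, h0, Nat.cast_zero]
    refine ⟨by rw [classInner_eq_mult ρ ⟨χ, hχ⟩, hm1, Nat.cast_one], ?_⟩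
    have hc := CfsgLib.Char.IsIrrCharacter.conj' hχ
    have heq : proj ρ χ = proj ρ fun g => conj (χ g) := by
      apply LinearMap.toMatrix'.injective
      rw [← hsym _ (proj_equivariant ρ (CfsgLib.Char.IsIrrCharacter.isClassFunction hχ)),
        hρ, toMatrix_proj_transpose hχ]
    have hne0 : proj ρ χ ≠ 0 := fun h => by
      have ht := trace_proj ρ χ
      rw [h, map_zero, classInner_eq_mult ρ ⟨χ, hχ⟩, hm1, Nat.cast_one, mul_one] at ht
      exact CfsgLib.Char.IsIrrCharacter.apply_one_ne_zero hχ ht.symm
    have hmul := proj_mul ρ hχ hc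
    rw [← heq, proj_mul ρ hχ hχ, if_pos rfl] at hmul
    intro g
    by_cases hh : χ = fun g => conj (χ g)
    · exact (congrFun hh g).symm
    · rw [if_neg hh] at hmul
      exact absurd hmul hne0
  · intro h a b
    have hm : ∀ φ, mult ρ φ ≤ 1 := fun φ => by
      by_contra hh
      have h1 := (h φ φ.2 (by rw [classInner_eq_mult]; exact Nat.cast_ne_zero.mpr (by omega))).1
      rw [classInner_eq_mult, Nat.cast_eq_one] at h1
      omega
    have hsym : (LinearMap.toMatrix' (orbitalMap G a b)).transpose =
        LinearMap.toMatrix' (orbitalMap G a b) := by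
      have hs := span_proj ρ hm (orbitalMap_commute (G := G) a b)
      generalize orbitalMap G a b = T at hs
      induction hs using Submodule.span_induction with
      | mem Z hZ =>
        obtain ⟨φ, rfl⟩ := hZ
        show (LinearMap.toMatrix' (proj (Cfsg.permRep ℂ G Ω) (φ.1 : G → ℂ))).transpose =
          LinearMap.toMatrix' (proj (Cfsg.permRep ℂ G Ω) (φ.1 : G → ℂ))
        rw [toMatrix_proj_transpose φ.1.2]
        congr
        funext g
        exact (h φ.1 φ.1.2 (by rw [classInner_eq_mult]; exact Nat.cast_ne_zero.mpr φ.2)).2 g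
      | zero => rw [map_zero, Matrix.transpose_zero]
      | add A B _ _ hA hB => rw [map_add, Matrix.transpose_add, hA, hB]
      | smul c A _ hA => rw [map_smul, Matrix.transpose_smul, hA]
    have h2 := congrFun (congrFun hsym a) b
    rw [Matrix.transpose_apply, toMatrix_orbitalMap, toMatrix_orbitalMap,
      if_pos (show InOrbital G a b a b from ⟨1, one_smul _ _, one_smul _ _⟩)] at h2
    by_cases hb : InOrbital G a b b a
    · exact hb
    · rw [if_neg hb] at h2
      exact absurd h2 zero_ne_one

end Cfsg.Agent.S0717
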