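import Cfsg.Statements.S0718
import Cfsg.Agent.Lib.Perm.CentralizerRing

set_option autoImplicit false
open Cfsg

namespace Cfsg.Agent.S0718

/-- Multiplicity-freeness of the permutation character is equivalent to commutativity of the centraliser ring, i.e. of the algebra of `G`-equivariant endomorphisms of the complex permutation module. -/
theorem result {G : Type*} [Group G] [Fintype G] {Ω : Type*} [Fintype Ω] [MulAction G Ω] : (∀ χ : G → ℂ, Cfsg.IsIrrCharacter G χ → Cfsg.classInner (fun g : G => (Nat.card (MulAction.fixedBy Ω g) : ℂ)) χ = 0 ∨ Cfsg.classInner (fun g : G => (Nat.card (MulAction.fixedBy Ω g) : ℂ)) χ = 1) ↔ ∀ S T : (Ω → ℂ) →ₗ[ℂ] (Ω → ℂ), S ∈ ((Cfsg.permRep ℂ G Ω).linHom (Cfsg.permRep ℂ G Ω)).invariants → T ∈ ((Cfsg.permRep ℂ G Ω).linHom (Cfsg.permRep ℂ G Ω)).invariants → S ∘ₗ T = T ∘ₗ S := by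
  open CfsgLib.Perm.CentralizerRing in
  classical
  simp only [mem_invariants_iff, ← Module.End.mul_eq_comp, ← character_fun_eq]
  constructor
  · intro h S T hS hT
    refine commute_of_mult_le_one _ (fun φ => ?_) hS hT
    rcases h φ φ.2 with h' | h' <;> rw [classInner_eq_mult] at h'
    · exact (Nat.cast_eq_zero.mp h').le.trans zero_le_one
    · exact (Nat.cast_eq_one.mp h').le
  · intro h χ hχ
    rw [classInner_eq_mult _ ⟨χ, hχ⟩]
    rcases Nat.le_one_iff_eq_zero_or_eq_one.mp
      (mult_le_one_of_commute (Cfsg.permRep ℂ G Ω) h ⟨χ, hχ⟩) with h' | h'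
    · exact Or.inl (by exact_mod_cast h')
    · exact Or.inr (by exact_mod_cast h')

end Cfsg.Agent.S0718
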