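import Cfsg.Statements.S0719
import Cfsg.Agent.Lib.Perm.Suborbits
import Cfsg.Agent.S0717

set_option autoImplicit false
set_option maxHeartbeats 1000000
set_option linter.style.haveILetI false
open Cfsg

namespace Cfsg.Agent.S0719

/-- Arithmetic core: two suborbit lengths and two integral eigenvalues. -/
theorem arith {m k l : ℕ} (hm : 2 ≤ m) (hk : 2 ≤ k) (hl : 2 ≤ l) (hkl : k + l + 1 = 2 * m)
    {α β : ℂ} (hα : IsIntegral ℤ α) (hβ : IsIntegral ℤ β)
    (h1 : (k : ℂ) + ((m : ℂ) - 1) * α + (m : ℂ) * β = 0)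
    (h2 : (k : ℂ) ^ 2 + ((m : ℂ) - 1) * α ^ 2 + (m : ℂ) * β ^ 2 = 2 * (m : ℂ) * k) :
    ∃ a : ℕ, 0 < a ∧ m = 2 * a ^ 2 + 2 * a + 1 ∧
      ((k = a * (2 * a + 1) ∧ l = (a + 1) * (2 * a + 1)) ∨
       (l = a * (2 * a + 1) ∧ k = (a + 1) * (2 * a + 1))) := by
  have hl' : (l : ℂ) = 2 * m - 1 - k := by
    have h := congrArg (Nat.cast : ℕ → ℂ) hkl
    push_cast at h
    linear_combination h
  have hm1 : ((m : ℂ) - 1) ≠ 0 := by
    rw [sub_ne_zero]
    exact_mod_cast (show m ≠ 1 by omega)
  have h2m : (2 * (m : ℂ) - 1) ≠ 0 := by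
    rw [sub_ne_zero]
    exact_mod_cast (show 2 * m ≠ 1 by omega)
  have hm0 : (m : ℂ) ≠ 0 := by exact_mod_cast (show m ≠ 0 by omega)
  set δ := β - α with hδ
  have hδi : IsIntegral ℤ δ := hβ.sub hα
  have hα' : (2 * (m : ℂ) - 1) * α = -((k : ℂ) + m * δ) := by
    rw [hδ]; linear_combination h1
  have key : ((m : ℂ) - 1) * δ ^ 2 = 2 * k * l := by
    have h : (m : ℂ) * ((m - 1) * δ ^ 2 - 2 * k * l) = 0 := by
      rw [hδ, hl']
      linear_combination (2 * (m : ℂ) - 1) * h2 - (((m : ℂ) - 1) * α + m * β - k) * h1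
    exact sub_eq_zero.mp ((mul_eq_zero.mp h).resolve_left hm0)
  -- the square of the difference is an integer
  obtain ⟨D, hD⟩ := CfsgLib.Char.exists_int_of_isIntegral_rat (hδi.pow 2)
    (q := (2 * k * l : ℚ) / ((m : ℚ) - 1)) (by
      push_cast
      rw [eq_div_iff hm1]
      linear_combination key)
  by_cases hrat : ∃ z : ℤ, δ = z
  swap
  · exfalso
    -- a conjugate of α is also an algebraic integer
    have hsq : IsSquare D → False := by
      rintro ⟨z, rfl⟩
      have hz : (δ - z) * (δ + z) = 0 := by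
        push_cast at hD
        linear_combination hD
      rcases mul_eq_zero.mp hz with h | h
      · exact hrat ⟨z, sub_eq_zero.mp h⟩
      · exact hrat ⟨-z, by push_cast; exact eq_neg_of_add_eq_zero_left h⟩
    obtain ⟨P, hP⟩ : ∃ P, P = minpoly ℚ δ := ⟨_, rfl⟩
    have hirr : Irreducible (Polynomial.X ^ 2 - Polynomial.C (D : ℚ)) := by
      refine X_pow_sub_C_irreducible_of_prime Nat.prime_two fun b hb => hsq ?_
      have h1 : IsSquare (D : ℚ) := ⟨b, by rw [← hb, sq]⟩
      exact Rat.isSquare_intCast_iff.mp h1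
    have hroot : Polynomial.aeval δ (Polynomial.X ^ 2 - Polynomial.C (D : ℚ)) = 0 := by
      simp [hD]
    have hroot' : Polynomial.aeval (-δ) (Polynomial.X ^ 2 - Polynomial.C (D : ℚ)) = 0 := by
      simp [hD]
    have hmin : minpoly ℚ δ = Polynomial.X ^ 2 - Polynomial.C (D : ℚ) :=
      (minpoly.eq_of_irreducible_of_monic hirr hroot (Polynomial.monic_X_pow_sub_C _ two_ne_zero)).symm
    obtain ⟨Q, hQm, hQ⟩ := hα
    let R : Polynomial ℚ := (Q.map (algebraMap ℤ ℚ)).comp
      (Polynomial.C (-1 / (2 * (m : ℚ) - 1)) * (Polynomial.C (k : ℚ) + Polynomial.C (m : ℚ) * Polynomial.X))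
    have hR : ∀ x : ℂ, Polynomial.aeval x R =
        Polynomial.aeval (-((k : ℂ) + m * x) / (2 * (m : ℂ) - 1)) Q := by
      intro x
      simp only [R, Polynomial.aeval_comp, Polynomial.aeval_map_algebraMap, map_mul, map_add,
        Polynomial.aeval_C, Polynomial.aeval_X, eq_ratCast, Rat.cast_div, Rat.cast_neg,
        Rat.cast_one, Rat.cast_sub, Rat.cast_mul, Rat.cast_ofNat, Rat.cast_natCast]
      congr 1
      ring
    have hR0 : Polynomial.aeval δ R = 0 := by
      rw [hR, show -((k : ℂ) + m * δ) / (2 * (m : ℂ) - 1) = α by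
        rw [div_eq_iff h2m, ← hα']; ring, Polynomial.aeval_def]
      exact hQ
    obtain ⟨S, hS⟩ := minpoly.dvd ℚ δ hR0
    have hconj : IsIntegral ℤ (-((k : ℂ) + m * (-δ)) / (2 * (m : ℂ) - 1)) := by
      refine ⟨Q, hQm, ?_⟩
      have h : Polynomial.aeval (-δ) R = 0 := by rw [hS, map_mul, hmin, hroot', zero_mul]
      rw [hR, Polynomial.aeval_def] at h
      exact h
    have hsum : IsIntegral ℤ ((-2 * k : ℂ) / (2 * (m : ℂ) - 1)) := by
      have := (show IsIntegral ℤ α from ⟨Q, hQm, hQ⟩).add hconj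
      have e : α + -((k : ℂ) + m * (-δ)) / (2 * (m : ℂ) - 1) = (-2 * k : ℂ) / (2 * (m : ℂ) - 1) := by
        rw [show α = -((k : ℂ) + m * δ) / (2 * (m : ℂ) - 1) by rw [eq_div_iff h2m]; linear_combination hα',
          ← add_div]
        congr 1
        ring
      rwa [e] at this
    obtain ⟨z, hz⟩ := CfsgLib.Char.exists_int_of_isIntegral_rat hsum
      (q := (-2 * k : ℚ) / (2 * (m : ℚ) - 1)) (by push_cast; ring)
    rw [div_eq_iff h2m] at hz
    have hzi : (-2 * k : ℤ) = z * (2 * m - 1) := by exact_mod_cast hz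
    have hlt : -2 < z ∧ z < 0 := by
      constructor <;> nlinarith
    have : z = -1 := by omega
    subst this
    omega
  obtain ⟨z, hz⟩ := hrat
  have hαi : ∃ w : ℤ, α = w := by
    refine CfsgLib.Char.exists_int_of_isIntegral_rat hα
      (q := -((k : ℚ) + m * z) / (2 * (m : ℚ) - 1)) ?_
    push_cast
    rw [eq_div_iff h2m, ← hz]
    linear_combination hα'
  obtain ⟨w, hw⟩ := hαi
  rw [hw, hz] at hα'
  rw [hz] at key
  have hα'' : (2 * (m : ℤ) - 1) * w = -((k : ℤ) + m * z) := by exact_mod_cast hα'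
  have key' : ((m : ℤ) - 1) * z ^ 2 = 2 * k * l := by exact_mod_cast key
  have hkl' : (k : ℤ) + l + 1 = 2 * m := by exact_mod_cast hkl
  have hkZ : (2 : ℤ) ≤ k := by exact_mod_cast hk
  have hlZ : (2 : ℤ) ≤ l := by exact_mod_cast hl
  have hmZ : (2 : ℤ) ≤ m := by exact_mod_cast hm
  -- 2 k + z is a multiple of 2 m - 1
  set j := -(2 * w) - z with hj
  have hjk : 2 * (k : ℤ) + z = j * (2 * m - 1) := by rw [hj]; linear_combination 2 * hα''
  have hzb : z ^ 2 < (2 * (m : ℤ) - 1) ^ 2 := by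
    have h4 : ((m : ℤ) - 1) * (2 * z ^ 2) ≤ (2 * (m : ℤ) - 1) ^ 2 := by
      nlinarith [sq_nonneg ((k : ℤ) - l)]
    nlinarith
  obtain ⟨hzl, hzu⟩ := abs_lt_of_sq_lt_sq' hzb (by omega)
  have hjlo : -1 < j := by nlinarith
  have hjhi : j < 3 := by nlinarith
  interval_cases j
  · exfalso
    have hz' : z = -2 * k := by omega
    subst hz'
    have h' : (2 * (m : ℤ) - 1) * (k - 1) * k = 0 := by nlinarith
    rcases mul_eq_zero.mp h' with h | h
    · rcases mul_eq_zero.mp h with h | h <;> omega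
    · omega
  · -- the two admissible cases
    have hfin : ∀ (b : ℤ) (k l : ℤ), 2 ≤ k → 2 ≤ l → k + l + 1 = 2 * m → 2 * k = 2 * m - 1 + (2 * b + 1) →
        0 ≤ b → ((m : ℤ) - 1) * (2 * b + 1) ^ 2 = 2 * k * l →
        0 < b ∧ (m : ℤ) = 2 * b ^ 2 + 2 * b + 1 ∧ k = (b + 1) * (2 * b + 1) ∧ l = b * (2 * b + 1) := by
      intro b k l _ _ hsum hk2 hb he
      have hk' : k = m + b := by omega
      have hl' : l = m - 1 - b := by omega
      subst hk' hl'
      have h' : (2 * (m : ℤ) - 1) * (2 * b * (b + 1) - ((m : ℤ) - 1)) = 0 := by linear_combination he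
      have hu : (m : ℤ) = 2 * b ^ 2 + 2 * b + 1 := by
        have := (mul_eq_zero.mp h').resolve_left (by omega)
        linarith
      exact ⟨by nlinarith, hu, by rw [hu]; ring, by rw [hu]; ring⟩
    obtain ⟨b, hb⟩ : Odd z := by
      refine Int.odd_iff.mpr ?_
      omega
    rcases le_or_gt 0 z with hpos | hneg
    · obtain ⟨hb0, hmv, hlv, hkv⟩ := hfin b l k hlZ hkZ (by omega) (by omega) (by omega)
        (by rw [← hb]; linear_combination key')
      lift b to ℕ using hb0.le
      exact ⟨b, by omega, by exact_mod_cast hmv, Or.inl ⟨by exact_mod_cast hkv, by exact_mod_cast hlv⟩⟩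
    · obtain ⟨hb0, hmv, hkv, hlv⟩ := hfin (-b - 1) k l hkZ hlZ hkl' (by omega) (by omega)
        (by rw [show (2 * (-b - 1) + 1) ^ 2 = z ^ 2 by rw [hb]; ring]; exact key')
      obtain ⟨c, hc⟩ := Int.eq_ofNat_of_zero_le hb0.le
      rw [hc] at hb0 hmv hkv hlv
      exact ⟨c, by omega, by exact_mod_cast hmv, Or.inr ⟨by exact_mod_cast hlv, by exact_mod_cast hkv⟩⟩
  · exfalso
    have hz' : z = 2 * l := by omega
    subst hz'
    have h' : (2 * (m : ℤ) - 1) * (l - 1) * l = 0 := by nlinarith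
    rcases mul_eq_zero.mp h' with h | h
    · rcases mul_eq_zero.mp h with h | h <;> omega
    · omega

open CfsgLib.Perm.CentralizerRing CfsgLib.Perm.Suborbits in
/-- The eigenvalue of an integral commuting endomorphism on a central idempotent. -/
theorem eigen_integral {G : Type*} [Group G] [Fintype G] {V : Type*} [AddCommGroup V] [Module ℂ V]
    {X E : Module.End ℂ V} (hX : IsIntegral ℤ X) {c : ℂ} (hXE : X * E = c • E) (hE : E ≠ 0) :
    IsIntegral ℤ c := by
  obtain ⟨Q, hQm, hQ⟩ := hX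
  refine ⟨Q, hQm, ?_⟩
  have hp : ∀ n : ℕ, X ^ n * E = c ^ n • E := by
    intro n
    induction n with
    | zero => rw [pow_zero, one_mul, pow_zero, one_smul]
    | succ n ih => rw [pow_succ, mul_assoc, hXE, mul_smul_comm, ih, smul_smul, pow_succ']
  have h := congrArg (· * E) hQ
  simp only [Polynomial.eval₂_eq_sum_range, Finset.sum_mul, zero_mul, mul_assoc, hp] at h
  have h' : (Polynomial.eval₂ (algebraMap ℤ ℂ) c Q) • E = 0 := by
    rw [Polynomial.eval₂_eq_sum_range, Finset.sum_smul, ← h]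
    refine Finset.sum_congr rfl fun i _ => ?_
    rw [← Algebra.smul_def, eq_intCast, smul_assoc, zsmul_eq_mul]
  exact (smul_eq_zero.mp h').resolve_right hE

/-- Groups of Wielandt type: if a primitive group of degree `2m` has rank 3 and permutation character `1 + χ₁ + χ₂` with irreducible `χ₁, χ₂` of degrees `m - 1` and `m`, then `m = 2a² + 2a + 1` for some positive integer `a` and the two non-trivial subdegrees are `a(2a+1)` and `(a+1)(2a+1)`. -/
theorem result {G : Type*} [Group G] [Fintype G] {Ω : Type*} [Fintype Ω] [MulAction G Ω] (hprim : MulAction.IsPreprimitive G Ω) {m : ℕ} (hm : Fintype.card Ω = 2 * m) (a₀ : Ω) (hrank : Nat.card (MulAction.orbitRel.Quotient (MulAction.stabilizer G a₀) Ω) = 3) (χ₁ χ₂ : G → ℂ) (h₁ : Cfsg.IsIrrCharacter G χ₁) (h₂ : Cfsg.IsIrrCharacter G χ₂) (hπ : (fun g : G => (Nat.card (MulAction.fixedBy Ω g) : ℂ)) = fun g => 1 + χ₁ g + χ₂ g) (hd₁ : χ₁ 1 = (m : ℂ) - 1) (hd₂ : χ₂ 1 = m) : ∃ a : ℕ, 0 < a ∧ m = 2 * a ^ 2 + 2 * a + 1 ∧ ∀ b : Ω, b ≠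 a₀ → Nat.card (MulAction.orbit (MulAction.stabilizer G a₀) b) = a * (2 * a + 1) ∨ Nat.card (MulAction.orbit (MulAction.stabilizer G a₀) b) = (a + 1) * (2 * a + 1) := by
  open CfsgLib.Perm.CentralizerRing CfsgLib.Perm.Suborbits MulAction ComplexConjugate in
  classical
  haveI := hprim
  haveI : IsPretransitive G Ω := hprim.toIsPretransitive
  haveI : Nonempty Ω := ⟨a₀⟩
  set ρ := Cfsg.permRep ℂ G Ω with hρ
  obtain ⟨φ₁, rfl⟩ : ∃ φ : Cfsg.IrrCharacter G, χ₁ = φ := ⟨⟨χ₁, h₁⟩, rfl⟩
  obtain ⟨φ₂, rfl⟩ : ∃ φ : Cfsg.IrrCharacter G, χ₂ = φ := ⟨⟨χ₂, h₂⟩, rfl⟩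
  have hne12 : φ₁ ≠ φ₂ := fun h => by
    rw [h, hd₂] at hd₁
    exact one_ne_zero (sub_eq_self.mp hd₁.symm)
  have hmult : ∀ φ : Cfsg.IrrCharacter G, (mult ρ φ : ℂ) =
      (if trivChar G = φ then 1 else 0) + (if φ₁ = φ then 1 else 0) + (if φ₂ = φ then 1 else 0) := by
    intro φ
    rw [← classInner_eq_mult, hρ, character_fun_eq, hπ,
      show (fun g : G => 1 + (φ₁ : G → ℂ) g + (φ₂ : G → ℂ) g) =
        (trivChar G : G → ℂ) + (φ₁ : G → ℂ) + (φ₂ : G → ℂ) from rfl,
      CfsgLib.Char.classInner_add_left, CfsgLib.Char.classInner_add_left,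
      CfsgLib.Char.classInner_irrCharacter, CfsgLib.Char.classInner_irrCharacter,
      CfsgLib.Char.classInner_irrCharacter]
  have ht : mult ρ (trivChar G) = 1 := mult_trivChar
  have hne01 : φ₁ ≠ trivChar G := fun h => by
    have := hmult (trivChar G)
    rw [ht, if_pos rfl, if_pos h, if_neg (fun h' => hne12 (h.trans h'.symm))] at this
    norm_num at this
  have hne02 : φ₂ ≠ trivChar G := fun h => by
    have := hmult (trivChar G)
    rw [ht, if_pos rfl, if_pos h, if_neg (fun h' => hne12 (h'.trans h.symm))] at this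
    norm_num at this
  have hle : ∀ φ, mult ρ φ ≤ 1 := fun φ => by
    have := hmult φ
    by_cases a : trivChar G = φ
    · subst a; rw [ht]
    rw [if_neg a] at this
    by_cases b : φ₁ = φ
    · subst b
      rw [if_pos rfl, if_neg hne12.symm] at this
      norm_num at this
      rw [this]
    rw [if_neg b] at this
    split_ifs at this <;> norm_num at this <;> omega
  have hsupp : ∀ φ, mult ρ φ ≠ 0 → φ = trivChar G ∨ φ = φ₁ ∨ φ = φ₂ := fun φ h => by
    by_contra hh
    push Not at hh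
    have := hmult φ
    rw [if_neg hh.1.symm, if_neg hh.2.1.symm, if_neg hh.2.2.symm] at this
    norm_num at this
    exact h this
  have hm1 : mult ρ φ₁ = 1 ∧ mult ρ φ₂ = 1 := by
    have a := hmult φ₁
    have b := hmult φ₂
    rw [if_neg hne01.symm, if_pos rfl, if_neg hne12.symm] at a
    rw [if_neg hne02.symm, if_neg hne12, if_pos rfl] at b
    norm_num at a b
    exact ⟨a, b⟩
  have hm2 : 2 ≤ m := by
    obtain ⟨d, hd0, hd⟩ := CfsgLib.Char.IsIrrCharacter.apply_one_eq φ₁.2
    rw [hd₁, sub_eq_iff_eq_add] at hd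
    have : m = d + 1 := by exact_mod_cast hd
    omega
  -- all constituents are real, so all orbitals are self paired
  have hpair : ∀ a b : Ω, ∃ g : G, g • a = b ∧ g • b = a := by
    refine (Cfsg.Agent.S0717.result (G := G) (Ω := Ω)).mpr fun χ hχ hne => ?_
    rw [← character_fun_eq, classInner_eq_mult ρ ⟨χ, hχ⟩] at hne ⊢
    have hne' : mult ρ ⟨χ, hχ⟩ ≠ 0 := fun h => hne (by rw [h, Nat.cast_zero])
    refine ⟨by rw [le_antisymm (hle _) (Nat.pos_of_ne_zero hne'), Nat.cast_one], ?_⟩
    let ψ : Cfsg.IrrCharacter G := ⟨fun g => conj (χ g), CfsgLib.Char.IsIrrCharacter.conj' hχ⟩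
    have hψ : mult ρ ψ ≠ 0 := fun h => by
      have h1 := classInner_eq_mult ρ ψ
      rw [h, Nat.cast_zero] at h1
      have h2 := congrArg conj h1
      simp only [Cfsg.classInner, hρ, character_fun_eq, ψ, map_mul, map_inv₀, map_sum,
        Complex.conj_natCast, Complex.conj_conj, map_zero] at h2
      apply hne
      rw [← classInner_eq_mult ρ ⟨χ, hχ⟩, hρ, character_fun_eq]
      exact h2
    intro g
    have hdegψ : (ψ : G → ℂ) 1 = χ 1 := by
      obtain ⟨d, -, hd⟩ := CfsgLib.Char.IsIrrCharacter.apply_one_eq hχ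
      change conj (χ 1) = χ 1
      rw [hd, Complex.conj_natCast]
    have hψe : ψ = ⟨χ, hχ⟩ := by
      rcases hsupp _ hne' with h | h | h <;> rcases hsupp _ hψ with h' | h' | h'
      · rw [h, h']
      · exfalso
        have h3 := congrArg Subtype.val h
        change χ = fun _ => (1 : ℂ) at h3
        exact hne01 (h'.symm.trans (Subtype.ext (show (fun g => conj (χ g)) = fun _ => (1 : ℂ) by
          rw [h3]; simp)))
      · exfalso
        have h3 := congrArg Subtype.val h
        change χ = fun _ => (1 : ℂ) at h3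
        exact hne02 (h'.symm.trans (Subtype.ext (show (fun g => conj (χ g)) = fun _ => (1 : ℂ) by
          rw [h3]; simp)))
      · exfalso
        have h3 : (fun g => conj (χ g)) = fun _ => (1 : ℂ) := congrArg Subtype.val h'
        exact hne01 (h.symm.trans (Subtype.ext (funext fun g => by
          have := congrArg conj (congrFun h3 g)
          simpa [trivChar] using this)))
      · rw [h, h']
      · exfalso
        rw [h'] at hdegψ
        have h3 : χ = (φ₁ : G → ℂ) := congrArg Subtype.val h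
        rw [h3, hd₁, hd₂] at hdegψ
        exact one_ne_zero (sub_eq_self.mp hdegψ.symm)
      · exfalso
        have h3 : (fun g => conj (χ g)) = fun _ => (1 : ℂ) := congrArg Subtype.val h'
        exact hne02 (h.symm.trans (Subtype.ext (funext fun g => by
          have := congrArg conj (congrFun h3 g)
          simpa [trivChar] using this)))
      · exfalso
        rw [h'] at hdegψ
        have h3 : χ = (φ₂ : G → ℂ) := congrArg Subtype.val h
        rw [h3, hd₁, hd₂] at hdegψ
        exact one_ne_zero (sub_eq_self.mp hdegψ)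
      · rw [h, h']
    exact congrFun (congrArg Subtype.val hψe) g
  -- the suborbits
  let Q := orbitRel.Quotient (stabilizer G a₀) Ω
  have horba : orbit (stabilizer G a₀) a₀ = {a₀} := by
    ext x
    simp only [mem_orbit_iff, Set.mem_singleton_iff]
    exact ⟨fun ⟨g, hg⟩ => hg ▸ g.2, fun hx => ⟨1, hx ▸ one_smul _ _⟩⟩
  have hQ3 : Fintype.card Q = 3 := by rw [← Nat.card_eq_fintype_card]; exact hrank
  have hbig : ∀ b : Ω, b ≠ a₀ → 2 ≤ Nat.card (orbit (stabilizer G a₀) b) := by
    intro b hb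
    by_contra hh
    haveI : Nonempty (orbit (stabilizer G a₀) b) := ⟨⟨b, mem_orbit_self b⟩⟩
    have h1 : Nat.card (orbit (stabilizer G a₀) b) = 1 := by
      have := Nat.card_pos (α := orbit (stabilizer G a₀) b)
      omega
    haveI := (Nat.card_eq_one_iff_unique.mp h1).1
    have hfix : stabilizer G a₀ ≤ stabilizer G b := fun g hg =>
      congrArg Subtype.val (Subsingleton.elim (⟨g • b, ⟨⟨g, hg⟩, rfl⟩⟩ : orbit (stabilizer G a₀) b)
        ⟨b, mem_orbit_self b⟩)
    haveI : Nontrivial Ω := ⟨⟨b, a₀, hb⟩⟩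
    have hco := IsPreprimitive.isCoatom_stabilizer_of_isPreprimitive (G := G) a₀
    obtain ⟨g, hg⟩ := exists_smul_eq G a₀ b
    have heq : stabilizer G a₀ = stabilizer G b :=
      (eq_or_lt_of_le hfix).resolve_right fun h => by
        have := hco.2 _ h
        obtain ⟨g', hg'⟩ := exists_smul_eq G b a₀
        exact hb (((this ▸ Subgroup.mem_top g' : g' ∈ stabilizer G b) : g' • b = b).symm.trans hg')
    have hgN : g ∈ Subgroup.normalizer (stabilizer G a₀ : Set G) := by
      rw [Subgroup.mem_normalizer_iff]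
      intro h
      nth_rewrite 2 [heq]
      rw [← hg, mem_stabilizer_iff, mem_stabilizer_iff, mul_smul, mul_smul, inv_smul_smul,
        smul_left_cancel_iff]
    have hN : Subgroup.normalizer (stabilizer G a₀ : Set G) = ⊤ := by
      refine hco.2 _ (lt_of_le_of_ne Subgroup.le_normalizer fun h => hb ?_)
      rw [← h] at hgN
      rw [← hg]; exact hgN
    haveI : (stabilizer G a₀).Normal := Subgroup.normalizer_eq_top_iff.mp hN
    have htriv : ∀ x : Ω, orbit (stabilizer G a₀) x = {x} := by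
      intro x
      obtain ⟨h, rfl⟩ := exists_smul_eq G a₀ x
      ext y
      simp only [mem_orbit_iff, Set.mem_singleton_iff]
      refine ⟨?_, fun hy => ⟨1, hy ▸ one_smul _ _⟩⟩
      rintro ⟨⟨c, hc⟩, rfl⟩
      have h2 : h⁻¹ * c * h ∈ stabilizer G a₀ := by
        simpa using (inferInstance : (stabilizer G a₀).Normal).conj_mem c hc h⁻¹
      rw [mem_stabilizer_iff, mul_smul, mul_smul, inv_smul_eq_iff] at h2
      exact h2
    have hn : Fintype.card Ω = 3 := by
      rw [← hQ3, ← Nat.card_eq_fintype_card, ← Nat.card_eq_fintype_card]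
      refine Nat.card_congr ((selfEquivSigmaOrbits (stabilizer G a₀) Ω).trans ?_)
      haveI : ∀ q : Q, Subsingleton (orbit (stabilizer G a₀) q.out) := fun q => by
        rw [htriv]; infer_instance
      haveI : ∀ q : Q, Nonempty (orbit (stabilizer G a₀) q.out) := fun q => ⟨⟨_, mem_orbit_self _⟩⟩
      exact ⟨Sigma.fst, fun q => ⟨q, Classical.arbitrary _⟩, fun x => by
        rcases x with ⟨q, o⟩
        exact congrArg (Sigma.mk q) (Subsingleton.elim _ _), fun q => rfl⟩
    omega
  have hsum : Fintype.card Ω = ∑ q : Q, Nat.card (orbit (stabilizer G a₀) q.out) := by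
    rw [← Nat.card_eq_fintype_card, Nat.card_congr (selfEquivSigmaOrbits (stabilizer G a₀) Ω),
      Nat.card_sigma]
  -- every suborbit gives two equations
  have hmain : ∀ b : Ω, b ≠ a₀ → ∃ α β : ℂ, IsIntegral ℤ α ∧ IsIntegral ℤ β ∧
      (Nat.card (orbit (stabilizer G a₀) b) : ℂ) + ((m : ℂ) - 1) * α + (m : ℂ) * β = 0 ∧
      (Nat.card (orbit (stabilizer G a₀) b) : ℂ) ^ 2 + ((m : ℂ) - 1) * α ^ 2 + (m : ℂ) * β ^ 2 =
        2 * (m : ℂ) * Nat.card (orbit (stabilizer G a₀) b) := by
    intro b hb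
    set k := Nat.card (orbit (stabilizer G a₀) b) with hk
    set X := orbitalMap G a₀ b with hX
    have hXc : ∀ g, X * ρ g = ρ g * X := orbitalMap_commute a₀ b
    set E : Cfsg.IrrCharacter G → Module.End ℂ (Ω → ℂ) := fun φ => proj ρ (φ : G → ℂ) with hE
    obtain ⟨c, hc⟩ := (Submodule.mem_span_range_iff_exists_fun ℂ).mp (span_proj ρ hle hXc)
    let C : Cfsg.IrrCharacter G → ℂ := fun φ => if h : mult ρ φ ≠ 0 then c ⟨φ, h⟩ else 0
    have hXsum : X = C (trivChar G) • E (trivChar G) + C φ₁ • E φ₁ + C φ₂ • E φ₂ := by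
      rw [← hc]
      have e : ∑ φ ∈ ({trivChar G, φ₁, φ₂} : Finset (Cfsg.IrrCharacter G)), C φ • E φ =
          ∑ i, c i • proj ρ (i.1 : G → ℂ) := by
        rw [Finset.sum_subtype (p := fun φ => mult ρ φ ≠ 0)
          ({trivChar G, φ₁, φ₂} : Finset (Cfsg.IrrCharacter G)) (fun φ => ?_)]
        · exact Fintype.sum_congr _ _ fun i => by simp [C, E, i.2]
        · simp only [Finset.mem_insert, Finset.mem_singleton]
          refine ⟨?_, hsupp φ⟩
          rintro (rfl | rfl | rfl) <;> simp [ht, hm1.1, hm1.2]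
      rw [← e, Finset.sum_insert (by simp [hne01.symm, hne02.symm]), Finset.sum_pair hne12, add_assoc]
    have hEE : ∀ φ ψ, E φ * E ψ = if φ = ψ then E φ else 0 := fun φ ψ => by
      simp only [E, proj_mul ρ φ.2 ψ.2, ← Subtype.ext_iff]
    have htrE : ∀ φ, LinearMap.trace ℂ (Ω → ℂ) (E φ) = (φ : G → ℂ) 1 * mult ρ φ := fun φ => by
      simp only [E, trace_proj, classInner_eq_mult]
    have hEne : ∀ φ, mult ρ φ ≠ 0 → E φ ≠ 0 := fun φ h0 he => by
      have h := htrE φ
      rw [he, map_zero] at h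
      rcases mul_eq_zero.mp h.symm with h' | h'
      · exact CfsgLib.Char.IsIrrCharacter.apply_one_ne_zero φ.2 h'
      · exact h0 (Nat.cast_eq_zero.mp h')
    have hXE : ∀ φ, φ = trivChar G ∨ φ = φ₁ ∨ φ = φ₂ → X * E φ = C φ • E φ := by
      intro φ hφ
      rw [hXsum]
      simp only [add_mul, smul_mul_assoc, hEE]
      rcases hφ with rfl | rfl | rfl
      · simp [hne01, hne02]
      · simp [hne01.symm, hne12.symm]
      · simp [hne02.symm, hne12]
    -- the trivial eigenvalue
    have hrow : ∀ i : Ω, ∑ j, (if InOrbital G a₀ b i j then (1 : ℂ) else 0) = k := by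
      intro i
      obtain ⟨h, rfl⟩ := exists_smul_eq G a₀ i
      rw [← Equiv.sum_comp (MulAction.toPerm h)]
      simp only [MulAction.toPerm_apply, inOrbital_smul, Finset.sum_boole]
      rw [hk, Nat.card_eq_fintype_card (α := orbit (stabilizer G a₀) b), ← Set.toFinset_card]
      congr 2
      ext j
      simp [inOrbital_left_iff]
    have hC0 : C (trivChar G) = k := by
      have hE1 : E (trivChar G) (fun _ => 1) = fun _ => 1 := by
        funext x
        simp only [E, proj, trivChar, map_one, one_smul, LinearMap.smul_apply, LinearMap.sum_apply,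
          Pi.smul_apply, Finset.sum_apply, hρ, CfsgLib.Perm.PermRep.permRep_apply,
          Finset.sum_const, Finset.card_univ, ← Nat.card_eq_fintype_card, nsmul_eq_mul, mul_one,
          smul_eq_mul, one_div]
        exact inv_mul_cancel₀ CfsgLib.Char.card_ne_zero
      have h := congrFun (LinearMap.congr_fun (hXE _ (Or.inl rfl)) (fun _ => 1)) a₀
      rw [Module.End.mul_apply, LinearMap.smul_apply, hE1, Pi.smul_apply, smul_eq_mul, mul_one, hX,
        orbitalMap, Matrix.toLin'_apply, Matrix.mulVec, dotProduct] at h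
      simp only [Matrix.of_apply, mul_one] at h
      rw [← h, hrow]
    refine ⟨C φ₁, C φ₂, eigen_integral (G := G) (orbitalMap_isIntegral a₀ b) (hXE _ (Or.inr (Or.inl rfl)))
        (hEne _ (by omega)), eigen_integral (G := G) (orbitalMap_isIntegral a₀ b)
        (hXE _ (Or.inr (Or.inr rfl))) (hEne _ (by omega)), ?_, ?_⟩
    · have h : LinearMap.trace ℂ (Ω → ℂ) X = 0 := by
        rw [LinearMap.trace_eq_matrix_trace ℂ (Pi.basisFun ℂ Ω), LinearMap.toMatrix_eq_toMatrix',
          Matrix.trace]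
        refine Finset.sum_eq_zero fun i _ => ?_
        rw [Matrix.diag_apply, hX, toMatrix_orbitalMap, if_neg]
        rintro ⟨g, h1, h2⟩
        exact hb (MulAction.injective g (h2.trans h1.symm))
      rw [hXsum, map_add, map_add, map_smul, map_smul, map_smul, htrE, htrE, htrE, ht, hm1.1, hm1.2,
        hC0, hd₁, hd₂] at h
      simp only [trivChar, Nat.cast_one, smul_eq_mul, mul_one] at h
      linear_combination h
    · have hXX : X * X = (C (trivChar G)) ^ 2 • E (trivChar G) + (C φ₁) ^ 2 • E φ₁ +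
          (C φ₂) ^ 2 • E φ₂ := by
        nth_rewrite 2 [hXsum]
        rw [mul_add, mul_add, mul_smul_comm, mul_smul_comm, mul_smul_comm, hXE _ (Or.inl rfl),
          hXE _ (Or.inr (Or.inl rfl)), hXE _ (Or.inr (Or.inr rfl)), smul_smul, smul_smul, smul_smul,
          sq, sq, sq]
      have h : LinearMap.trace ℂ (Ω → ℂ) (X * X) = 2 * (m : ℂ) * k := by
        rw [LinearMap.trace_eq_matrix_trace ℂ (Pi.basisFun ℂ Ω), LinearMap.toMatrix_eq_toMatrix',
          LinearMap.toMatrix'_mul, Matrix.trace]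
        have : ∀ i : Ω, (LinearMap.toMatrix' X * LinearMap.toMatrix' X).diag i = k := by
          intro i
          rw [Matrix.diag_apply, Matrix.mul_apply, ← hrow i]
          refine Finset.sum_congr rfl fun j _ => ?_
          rw [hX, toMatrix_orbitalMap, toMatrix_orbitalMap]
          obtain ⟨g, hg1, hg2⟩ := hpair i j
          have : InOrbital G a₀ b j i ↔ InOrbital G a₀ b i j := by
            rw [← inOrbital_smul a₀ b g, hg1, hg2]
          by_cases hh : InOrbital G a₀ b i j <;> simp [this, hh]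
        rw [Finset.sum_congr rfl fun i _ => this i, Finset.sum_const, Finset.card_univ, hm,
          nsmul_eq_mul]
        push_cast
        ring
      rw [hXX, map_add, map_add, map_smul, map_smul, map_smul, htrE, htrE, htrE, ht, hm1.1, hm1.2,
        hC0, hd₁, hd₂] at h
      simp only [trivChar, Nat.cast_one, smul_eq_mul, mul_one] at h
      linear_combination h
  -- three classes
  set q₀ : Q := Quotient.mk'' a₀ with hq₀
  obtain ⟨q₁, q₂, hq12, hqs⟩ : ∃ q₁ q₂, q₁ ≠ q₂ ∧ Finset.univ.erase q₀ = {q₁, q₂} :=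
    Finset.card_eq_two.mp (by rw [Finset.card_erase_of_mem (Finset.mem_univ _), Finset.card_univ, hQ3])
  have hout : ∀ b : Ω, orbit (stabilizer G a₀) (Quotient.mk'' b : Q).out = orbit (stabilizer G a₀) b := by
    intro b
    rw [orbit_eq_iff, ← orbitRel_apply]
    exact Quotient.exact' (Quotient.out_eq' _)
  have hne : ∀ q : Q, q ≠ q₀ → q.out ≠ a₀ := fun q hq h =>
    hq ((Quotient.out_eq' q).symm.trans (congrArg Quotient.mk'' h))
  have hmem1 : q₁ ∈ Finset.univ.erase q₀ := by rw [hqs]; simp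
  have hmem2 : q₂ ∈ Finset.univ.erase q₀ := by rw [hqs]; simp
  have hn1 := hne q₁ (Finset.mem_erase.mp hmem1).1
  have hn2 := hne q₂ (Finset.mem_erase.mp hmem2).1
  have hkl : Nat.card (orbit (stabilizer G a₀) q₁.out) + Nat.card (orbit (stabilizer G a₀) q₂.out) + 1 = 2 * m := by
    rw [← hm, hsum, ← Finset.add_sum_erase _ _ (Finset.mem_univ q₀), hqs, Finset.sum_pair hq12, hout,
      horba, Nat.card_eq_fintype_card (α := ({a₀} : Set Ω)), Set.card_singleton]
    ring
  obtain ⟨α, β, hα, hβ, e1, e2⟩ := hmain _ hn1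
  obtain ⟨a, ha, hma, hcase⟩ := arith hm2 (hbig _ hn1) (hbig _ hn2) hkl hα hβ e1 e2
  refine ⟨a, ha, hma, fun b hb => ?_⟩
  have hbq : (Quotient.mk'' b : Q) ∈ Finset.univ.erase q₀ := by
    refine Finset.mem_erase.mpr ⟨fun h => hb ?_, Finset.mem_univ _⟩
    have hmem : b ∈ orbit (stabilizer G a₀) a₀ := by
      rw [← orbitRel_apply]
      exact Quotient.exact' h
    rwa [horba, Set.mem_singleton_iff] at hmem
  rw [← hout b]
  rw [hqs, Finset.mem_insert, Finset.mem_singleton] at hbq
  rcases hbq with h | h <;> rw [h] <;> rcases hcase with ⟨h3, h4⟩ | ⟨h3, h4⟩ <;>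
    first | exact Or.inl h3 | exact Or.inl h4 | exact Or.inr h3 | exact Or.inr h4

end Cfsg.Agent.S0719
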