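import Mathlib
import Cfsg.Agent.Lib.Perm.TwoP.Main
import Cfsg.Agent.Lib.SmallGroups.JordanCycle
import Cfsg.Statements.S0720

/-! Wielandt's theorem on primitive groups of degree twice a prime. -/

set_option autoImplicit false
open Cfsg

namespace Cfsg.Agent.S0720

/-- Wielandt's Theorem on primitive groups of degree `2p`: such a group is doubly transitive, or it has rank 3, `p = 2a² + 2a + 1`, and subdegrees `a(2a+1)` and `(a+1)(2a+1)`. -/
theorem result {α : Type*} [Fintype α] [DecidableEq α] {p : ℕ} (hp : p.Prime) (hα : Fintype.card α = 2 * p) (G : Subgroup (Equiv.Perm α)) (hG : MulAction.IsPreprimitive G α) (a₀ : α) : MulAction.IsMultiplyPretransitive G α 2 ∨ (Nat.card (MulAction.orbitRel.Quotient (MulAction.stabilizer G a₀) α) = 3 ∧ ∃ a : ℕ, 0 < a ∧ p = 2 * a ^ 2 + 2 * a + 1 ∧ ∀ b : α, b ≠ a₀ → Nat.card (MulAction.orbit (MulAction.stabilizer G a₀) b) = a * (2 * a + 1) ∨ Nat.card (MulAction.orbit (MulAction.stabilizer G a₀) b) = (a + 1) * (2 * a + 1)) := by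
  classical
  haveI := Fact.mk hp
  haveI := hG.toIsPretransitive
  have hαn : Nat.card α = 2 * p := by rw [Nat.card_eq_fintype_card, hα]
  have hdvd : p ∣ Nat.card G := by
    refine (dvd_mul_left p 2).trans (hαn ▸ ?_)
    rw [← MulAction.index_stabilizer_of_transitive G a₀]
    exact Subgroup.index_dvd_card _
  obtain ⟨g, hg⟩ := exists_prime_orderOf_dvd_card' (G := G) p hdvd
  set x : Equiv.Perm α := g.1 with hx
  have hord : orderOf x = p := by rw [hx, Subgroup.orderOf_coe, hg]
  obtain ⟨n, hn⟩ := Equiv.Perm.cycleType_prime_order (hord ▸ hp : (orderOf x).Prime)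
  have hsum : x.support.card = (n + 1) * p := by
    rw [← Equiv.Perm.sum_cycleType, hn, Multiset.sum_replicate, smul_eq_mul, hord]
  have hle : x.support.card ≤ 2 * p := hα ▸ Finset.card_le_univ _
  have hn1 : n = 0 ∨ n = 1 := by
    have : n + 1 ≤ 2 := Nat.le_of_mul_le_mul_right (hsum ▸ hle) hp.pos
    omega
  rcases hn1 with rfl | rfl
  · left
    have hc : x.IsCycle := Equiv.Perm.card_cycleType_eq_one.1 (by rw [hn, Multiset.card_replicate])
    rw [zero_add, one_mul] at hsum
    have hA : alternatingGroup α ≤ G :=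
      CfsgLib.SmallGroups.JordanCycle.alternatingGroup_le hG hc g.2 (hsum ▸ hp) (by omega)
    have h4 : 4 ≤ Nat.card α := by have := hp.two_le; omega
    haveI := alternatingGroup.isMultiplyPretransitive α
    haveI h2 : MulAction.IsMultiplyPretransitive (alternatingGroup α) α 2 :=
      MulAction.isMultiplyPretransitive_of_le (n := Nat.card α - 2) (by omega) (by omega)
    rw [MulAction.is_two_pretransitive_iff] at h2 ⊢
    intro a b c d hab hcd
    obtain ⟨k, hk1, hk2⟩ := h2 hab hcd
    exact ⟨⟨k.1, hA k.2⟩, hk1, hk2⟩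
  · have hfree : ∀ v, x v ≠ v := fun v => Equiv.Perm.mem_support.1 <| by
      rw [Finset.eq_univ_of_card x.support (by rw [hsum, hα])]; exact Finset.mem_univ v
    have hxp : x ^ p = 1 := hord ▸ pow_orderOf_eq_one x
    have hpm : ∀ m : ℕ, x ^ (m % p) = x ^ m := fun m => hord ▸ pow_mod_orderOf x m
    let f : α → ZMod p → α := fun a d => (x ^ d.val) a
    have hfs : ∀ a d, f a (d + 1) = x (f a d) := by
      intro a d
      show (x ^ (d + 1).val) a = x ((x ^ d.val) a)
      rw [ZMod.val_add, hpm, ZMod.val_one, ← Equiv.Perm.mul_apply, ← pow_succ']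
    have hadd : ∀ a (d d' : ZMod p), f a (d + d') = f (f a d') d := by
      intro a d d'
      show (x ^ (d + d').val) a = (x ^ d.val) ((x ^ d'.val) a)
      rw [ZMod.val_add, hpm, ← Equiv.Perm.mul_apply, ← pow_add]
    have hinj : ∀ a (d : ZMod p), f a d = a → d = 0 := by
      intro a d h
      by_contra hd
      have hall : ∀ e : ZMod p, f a (e * d) = a := by
        intro e
        rw [← ZMod.natCast_zmod_val e]
        induction e.val with
        | zero => simp [f]
        | succ m ih => rw [Nat.cast_succ, add_mul, one_mul, hadd, h, ih]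
      refine hfree a ?_
      have h1 := hall d⁻¹
      rw [inv_mul_cancel₀ hd] at h1
      simpa [f, ZMod.val_one] using h1
    obtain ⟨b, hb⟩ : ∃ b, b ∉ Finset.univ.image (f a₀) := by
      by_contra hc
      push Not at hc
      have h1 := Finset.card_le_card (fun v _ => hc v : (Finset.univ : Finset α) ⊆ _)
      have h2 := (Finset.univ : Finset (ZMod p)).card_image_le (f := f a₀)
      rw [Finset.card_univ, hα] at h1
      rw [Finset.card_univ, ZMod.card] at h2
      have := hp.two_le
      omega
    have hcross : ∀ d d', f b d' ≠ f a₀ d := by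
      intro d d' h
      refine hb (Finset.mem_image.2 ⟨-d' + d, Finset.mem_univ _, ?_⟩)
      rw [hadd, ← h, ← hadd, neg_add_cancel]
      simp [f]
    have hbij : Function.Bijective fun q : Fin 2 × ZMod p => f (if q.1 = 0 then a₀ else b) q.2 := by
      rw [Fintype.bijective_iff_injective_and_card]
      refine ⟨?_, by rw [Fintype.card_prod, Fintype.card_fin, ZMod.card, hα]⟩
      have key : ∀ a (d d' : ZMod p), f a d = f a d' → d = d' := by
        intro a d d' h
        have h1 := hadd a (d - d') d'
        rw [sub_add_cancel, h] at h1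
        exact sub_eq_zero.1 (hinj _ _ h1.symm)
      rintro ⟨i, d⟩ ⟨j, d'⟩ h
      fin_cases i <;> fin_cases j <;> simp at h ⊢
      · exact key _ _ _ h
      · exact hcross _ _ h.symm
      · exact hcross _ _ h
      · exact key _ _ _ h
    let C : CfsgLib.Perm.TwoP.Coords p α := ⟨Equiv.ofBijective _ hbij⟩
    have hshift : C.shift = x := by
      refine Equiv.ext fun v => ?_
      obtain ⟨⟨i, d⟩, rfl⟩ := C.e.surjective v
      rw [C.shift_apply]
      show f _ (d + 1) = x (f _ d)
      exact hfs _ _
    exact CfsgLib.Perm.TwoP.wielandt ⟨G, C, hG, hshift ▸ g.2⟩ a₀ hα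

end Cfsg.Agent.S0720
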