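import Cfsg.Statements.S0723
import Cfsg.Agent.S0722
import Cfsg.Agent.Lib.SymMax.CharSimple
import Cfsg.Agent.Lib.Perm.Diagonal

set_option autoImplicit false
set_option linter.style.haveILetI false
open Cfsg

namespace Cfsg.Agent.S0723

/-- The core of the O'Nan–Scott Theorem. Let `H` be a primitive permutation group on a finite set whose unique minimal normal subgroup `N` is non-abelian, and `K` a point stabiliser. Then there are a non-abelian simple group `T` and an isomorphism `N ≃* T^m` (`m ≥ 1`) under which `K ⊓ N` becomes either a product `∏ K_i` of proper subgroups `K_i < T`, or the set of functions constant on each block of a partition of the index set into blocks of one common size `k ≥ 2`. -/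
theorem result {α : Type*} [Finite α] (H : Subgroup (Equiv.Perm α)) [MulAction.IsPreprimitive H α] (N : Subgroup H) [N.Normal] (hN : N ≠ ⊥) (hmin : ∀ M : Subgroup H, M.Normal → M ≤ N → M = ⊥ ∨ M = N) (huniq : ∀ L : Subgroup H, L.Normal → L ≠ ⊥ → (∀ M : Subgroup H, M.Normal → M ≤ L → M = ⊥ ∨ M = L) → L = N) (hnab : ¬ IsMulCommutative N) (a : α) : ∃ (T : Type) (_ : Group T) (m : ℕ) (e : N ≃* (Fin m → T)), IsSimpleGroup T ∧ ¬ IsMulCommutative T ∧ 0 < m ∧ ((∃ K : Fin m → Subgroup T, (∀ i, K i ≠ ⊤) ∧ ∀ n : N, (n : H) ∈ MulAction.stabilizer H a ↔ ∀ i, e n i ∈ K i) ∨ (∃ (k : ℕ) (c : Fin m → Fin m), 2 ≤ k ∧ (∀ j : Fin m, Nat.card {i : Fin m // c i = j} = k ∨ Nat.card {i : Fin m // c i = j} = 0) ∧ ∀ n : N, (n : H) ∈ MulAction.stabilizer H a ↔ ∀ i j : Fin m, c i = c j → e n i = e n j)) := by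
  classical
  obtain ⟨v, hv⟩ : ∃ v : N, v ≠ 1 := by
    haveI := (Subgroup.nontrivial_iff_ne_bot N).2 hN
    exact exists_ne 1
  haveI : Nontrivial N := ⟨v, 1, hv⟩
  obtain ⟨S, hS, hSs, m, hm, ⟨e₀⟩⟩ := CfsgLib.SymMax.CharSimple.exists_pow_type
    (CfsgLib.SymMax.CharSimple.charSimple_of_minimal hmin)
  haveI := hSs
  haveI : Finite (Fin m → S) := Finite.of_equiv _ e₀.toEquiv
  haveI : Finite S := Finite.of_injective (fun t : S => (fun _ : Fin m => t))
    fun x y h => congrFun h ⟨0, hm⟩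
  have hSna : ¬ IsMulCommutative S := by
    intro hc
    refine hnab ⟨⟨fun x y => e₀.injective (funext fun i => ?_)⟩⟩
    rw [map_mul, map_mul]
    exact hc.is_comm.comm _ _
  obtain ⟨t0, ht0⟩ := exists_ne (1 : S)
  haveI : Nontrivial α := by
    rcases subsingleton_or_nontrivial α with hs | hs
    · exact absurd (Subtype.ext (Subtype.ext (Subsingleton.elim _ _))) hv
    · exact hs
  let K := MulAction.stabilizer H a
  have hNK : ¬ N ≤ K := by
    intro hle
    apply hN
    rw [Subgroup.eq_bot_iff_forall]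
    intro n hn
    refine Subtype.ext (Equiv.ext fun x => ?_)
    obtain ⟨g, rfl⟩ := MulAction.exists_smul_eq H a x
    have h1 : g⁻¹ * n * g ∈ K := hle (by
      simpa using (inferInstance : N.Normal).conj_mem n hn g⁻¹)
    have h2 : (g⁻¹ * n * g) • a = a := h1
    rw [mul_smul, mul_smul, inv_smul_eq_iff] at h2
    exact h2
  have hcoatom : IsCoatom K :=
    MulAction.IsPreprimitive.isCoatom_stabilizer_of_isPreprimitive (G := H) a
  let φ : H → ((Fin m → S) ≃* (Fin m → S)) := fun g =>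
    (e₀.symm.trans (MulAut.conjNormal g : N ≃* N)).trans e₀
  have hφ : ∀ (g : H) (n : N), φ g (e₀ n) = e₀ (MulAut.conjNormal g n) := fun g n => by
    simp [φ]
  have hφmul : ∀ (g g' : H) f, φ (g * g') f = φ g (φ g' f) := fun g g' f => by
    simp [φ, map_mul]
  have hφone : ∀ f, φ 1 f = f := fun f => by simp [φ]
  have hφinv : ∀ (g : H) f, φ g (φ g⁻¹ f) = f := fun g f => by
    rw [← hφmul, mul_inv_cancel, hφone]
  choose σ A hσ hσs hσf using fun g => CfsgLib.Perm.Diagonal.aut_perm hSna (φ g)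
  have hσmul : ∀ g g' i, σ (g * g') i = σ g (σ g' i) := by
    intro g g' i
    have h := hσs (g * g') i t0
    rw [hφmul, hσs, hσs] at h
    by_contra hne
    have h' := congrFun h (σ g (σ g' i))
    rw [Pi.mulSingle_eq_same, Pi.mulSingle_eq_of_ne (Ne.symm hne),
      map_eq_one_iff _ (A g _).injective, map_eq_one_iff _ (A g' _).injective] at h'
    exact ht0 h'
  have hσone : ∀ i, σ 1 i = i := by
    intro i
    have h := hσmul 1 1 i
    rw [one_mul] at h
    exact ((hσ 1).1 h).symm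
  -- the point stabiliser part of N
  let D : Subgroup (Fin m → S) := (K.comap N.subtype).map e₀.toMonoidHom
  have hDmem : ∀ n : N, (n : H) ∈ K ↔ e₀ n ∈ D := fun n =>
    ⟨fun h => ⟨n, h, rfl⟩, fun ⟨n', h, h'⟩ => e₀.injective h' ▸ h⟩
  have hDinv : ∀ k ∈ K, ∀ d ∈ D, φ k d ∈ D := by
    rintro k hk _ ⟨n, hn, rfl⟩
    rw [MulEquiv.coe_toMonoidHom, hφ, ← hDmem, MulAut.conjNormal_apply]
    exact K.mul_mem (K.mul_mem hk hn) (K.inv_mem hk)
  have hmax : ∀ P : Subgroup (Fin m → S), D ≤ P → (∀ k ∈ K, ∀ x ∈ P, φ k x ∈ P) →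
      P = D ∨ P = ⊤ := by
    intro P hDP hP
    let X : Subgroup H := (P.comap e₀.toMonoidHom).map N.subtype
    have hXN : X ≤ N := Subgroup.map_subtype_le _
    have hmemX : ∀ n : N, (n : H) ∈ X ↔ e₀ n ∈ P := fun n =>
      ⟨fun ⟨n', h, h'⟩ => Subtype.ext h' ▸ h, fun h => ⟨n, h, rfl⟩⟩
    have hKX : MulAction.stabilizer H a ⊓ N ≤ X := by
      rintro x ⟨hx, hxN⟩
      exact (hmemX ⟨x, hxN⟩).2 (hDP ((hDmem ⟨x, hxN⟩).1 hx))
    have hconj : ∀ k ∈ K, ∀ x ∈ X, k * x * k⁻¹ ∈ X := by
      rintro k hk _ ⟨n, hn, rfl⟩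
      have := (hmemX (MulAut.conjNormal k n)).2 (by rw [← hφ]; exact hP k hk _ hn)
      rwa [MulAut.conjNormal_apply] at this
    have hinv : MulAction.stabilizer H a ≤ Subgroup.normalizer (X : Set H) := by
      intro k hk
      rw [Subgroup.mem_normalizer_iff]
      refine fun x => ⟨hconj k hk x, fun h => ?_⟩
      have := hconj k⁻¹ (K.inv_mem hk) _ h
      simpa [mul_assoc] using this
    rcases Cfsg.Agent.S0722.result H N hN hmin a X hXN hKX hinv with h | h
    · left
      refine le_antisymm (fun x hx => ?_) hDP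
      obtain ⟨n, rfl⟩ := e₀.surjective x
      have := (hmemX n).2 hx
      rw [h] at this
      exact (hDmem n).1 this.1
    · right
      rw [eq_top_iff]
      intro x _
      obtain ⟨n, rfl⟩ := e₀.surjective x
      exact (hmemX n).1 (h.symm ▸ n.2)
  -- the stabiliser permutes the factors transitively
  have htrans : ∀ i j, ∃ k ∈ K, σ k i = j := by
    intro i
    by_contra hcon
    push Not at hcon
    obtain ⟨j, hj⟩ := hcon
    let P : Subgroup N :=
      { carrier := {n | ∀ l, (∀ k ∈ K, σ k i ≠ l) → e₀ n l = 1}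
        mul_mem' := fun {x y} hx hy l hl => by
          rw [map_mul, Pi.mul_apply, hx l hl, hy l hl, one_mul]
        one_mem' := fun l _ => by rw [map_one, Pi.one_apply]
        inv_mem' := fun {x} hx l hl => by rw [map_inv, Pi.inv_apply, hx l hl, inv_one] }
    let X : Subgroup H := P.map N.subtype
    have hK : ∀ k ∈ K, ∀ x ∈ X, k * x * k⁻¹ ∈ X := by
      rintro k hk _ ⟨n, hn, rfl⟩
      refine ⟨MulAut.conjNormal k n, fun l hl => ?_, MulAut.conjNormal_apply k n⟩
      obtain ⟨l', rfl⟩ := (hσ k).2 l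
      rw [← hφ, hσf, map_eq_one_iff _ (A k l').injective]
      refine hn l' fun k' hk' h => hl (k * k') (K.mul_mem hk hk') ?_
      rw [hσmul, h]
    have hN' : ∀ n' ∈ N, ∀ x ∈ X, n' * x * n'⁻¹ ∈ X := by
      rintro n' hn' _ ⟨n, hn, rfl⟩
      refine ⟨⟨n', hn'⟩ * n * ⟨n', hn'⟩⁻¹, fun l hl => ?_, rfl⟩
      rw [map_mul, map_mul, Pi.mul_apply, Pi.mul_apply, hn l hl, map_inv, Pi.inv_apply, mul_one,
        mul_inv_cancel]
    have hnorm : ∀ g : H, g ∈ Subgroup.normalizer (X : Set H) := by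
      have hle : K ⊔ N ≤ Subgroup.normalizer (X : Set H) := by
        refine sup_le (fun k hk => ?_) (fun n hn => ?_)
        · rw [Subgroup.mem_normalizer_iff]
          refine fun x => ⟨hK k hk x, fun h => ?_⟩
          simpa [mul_assoc] using hK k⁻¹ (K.inv_mem hk) _ h
        · rw [Subgroup.mem_normalizer_iff]
          refine fun x => ⟨hN' n hn x, fun h => ?_⟩
          simpa [mul_assoc] using hN' n⁻¹ (N.inv_mem hn) _ h
      have htop : K ⊔ N = ⊤ :=
        hcoatom.2 _ (lt_of_le_of_ne le_sup_left fun h => hNK (h ▸ le_sup_right))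
      exact fun g => hle (htop ▸ Subgroup.mem_top g)
    have hXn : X.Normal := ⟨fun x hx g => ((Subgroup.mem_normalizer_iff.1 (hnorm g)) x).1 hx⟩
    rcases hmin X hXn (Subgroup.map_subtype_le P) with h | h
    · have h1 : e₀.symm (Pi.mulSingle i t0) ∈ P := fun l hl => by
        rw [e₀.apply_symm_apply,
          Pi.mulSingle_eq_of_ne (fun h => hl 1 K.one_mem ((hσone i).trans h.symm))]
      rw [Subgroup.map_eq_bot_iff_of_injective _ N.subtype_injective] at h
      rw [h, Subgroup.mem_bot, map_eq_one_iff _ e₀.symm.injective] at h1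
      exact ht0 (by simpa using congrFun h1 i)
    · obtain ⟨n, hn, hnj⟩ : ((e₀.symm (Pi.mulSingle j t0) : N) : H) ∈ X := by
        rw [h]; exact SetLike.coe_mem _
      have h1 := hn j hj
      rw [Subtype.ext hnj, e₀.apply_symm_apply, Pi.mulSingle_eq_same] at h1
      exact ht0 h1
  by_cases hsub : ∀ i t, ∃ d ∈ D, d i = t
  · obtain ⟨c, ψ, hcc, hiff, hψid, hDf⟩ := CfsgLib.Perm.Diagonal.scott hSna D hsub
    let e : N ≃* (Fin m → S) := e₀.trans (MulEquiv.piCongrRight fun i => (ψ i).symm)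
    have he : ∀ n i, e n i = (ψ i).symm (e₀ n i) := fun n i => rfl
    have hchar : ∀ n : N, (n : H) ∈ MulAction.stabilizer H a ↔
        ∀ i j, c i = c j → e n i = e n j := by
      intro n
      refine (hDmem n).trans ((hDf _).trans ⟨fun h i j hij => ?_, fun h i => ?_⟩)
      · rw [he, he, h i, h j, MulEquiv.symm_apply_apply, MulEquiv.symm_apply_apply, hij]
      · have h1 := h i (c i) (hcc i).symm
        have h2 : (ψ (c i)).symm (e₀ n (c i)) = e₀ n (c i) := by
          rw [MulEquiv.symm_apply_eq, hψid _ _ (hcc i)]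
        rw [he, he, h2, MulEquiv.symm_apply_eq] at h1
        exact h1
    have hpres : ∀ k ∈ K, ∀ i j, c i = c j → c (σ k i) = c (σ k j) := by
      intro k hk i j hij
      rw [hiff] at hij ⊢
      intro d hd hd1
      have hd' := hDinv k⁻¹ (K.inv_mem hk) d hd
      rw [← hφinv k d, hσf, map_eq_one_iff _ (A k i).injective] at hd1
      rw [← hφinv k d, hσf, hij _ hd' hd1, map_one]
    let F : Fin m → ℕ := fun i => Nat.card {l : Fin m // c l = c i}
    have hF : ∀ i j, F i ≤ F j := by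
      intro i j
      obtain ⟨k, hk, rfl⟩ := htrans i j
      exact Nat.card_le_card_of_injective
        (fun l : {l : Fin m // c l = c i} =>
          (⟨σ k l.1, hpres k hk _ _ l.2⟩ : {l : Fin m // c l = c (σ k i)}))
        fun x y h => Subtype.ext ((hσ k).1 (congrArg Subtype.val h))
    let i0 : Fin m := ⟨0, hm⟩
    refine ⟨S, hS, m, e, hSs, hSna, hm, Or.inr ⟨F i0, c, ?_, fun j => ?_, hchar⟩⟩
    · by_contra hlt
      have hone : ∀ i, F i ≤ 1 := fun i => (hF i i0).trans (by omega)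
      refine hNK fun x hx => (hchar ⟨x, hx⟩).2 fun i j hij => ?_
      haveI := Finite.card_le_one_iff_subsingleton.1 (hone i)
      have := Subsingleton.elim (⟨i, rfl⟩ : {l : Fin m // c l = c i}) ⟨j, hij.symm⟩
      rw [Subtype.mk.injEq] at this
      rw [this]
    · by_cases hj : ∃ i, c i = j
      · obtain ⟨i, rfl⟩ := hj
        exact Or.inl (le_antisymm (hF i i0) (hF i0 i))
      · right
        haveI : IsEmpty {i : Fin m // c i = j} := ⟨fun i => hj ⟨i.1, i.2⟩⟩
        exact Nat.card_of_isEmpty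
  · let Q : Fin m → Subgroup S := fun i => D.map (Pi.evalMonoidHom (fun _ : Fin m => S) i)
    have hQ : ∀ k ∈ K, ∀ i, ∀ t ∈ Q i, A k i t ∈ Q (σ k i) := by
      rintro k hk i _ ⟨d, hd, rfl⟩
      exact ⟨φ k d, hDinv k hk d hd, hσf k d i⟩
    have hQne : ∀ i, Q i ≠ ⊤ := by
      intro i hi
      refine hsub fun j t => ?_
      obtain ⟨k, hk, rfl⟩ := htrans i j
      have h : t ∈ Q (σ k i) := by
        have := hQ k hk i ((A k i).symm t) (hi ▸ Subgroup.mem_top _)
        rwa [MulEquiv.apply_symm_apply] at this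
      exact h
    have hP := hmax (Subgroup.pi Set.univ Q) (fun d hd i _ => ⟨d, hd, rfl⟩) (fun k hk x hx => by
      intro l _
      obtain ⟨l', rfl⟩ := (hσ k).2 l
      rw [hσf]
      exact hQ k hk l' _ (hx l' trivial))
    refine ⟨S, hS, m, e₀, hSs, hSna, hm, Or.inl ⟨Q, hQne, fun n => ?_⟩⟩
    rcases hP with hP | hP
    · refine (hDmem n).trans ?_
      rw [← hP]
      exact ⟨fun h i => h i trivial, fun h i _ => h i⟩
    · exfalso
      apply hQne ⟨0, hm⟩
      rw [eq_top_iff]
      intro t _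
      have h : (fun _ => t : Fin m → S) ∈ Subgroup.pi Set.univ Q := hP ▸ Subgroup.mem_top _
      exact h ⟨0, hm⟩ trivial

end Cfsg.Agent.S0723
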