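import Cfsg.Statements.S0724
import Mathlib


set_option autoImplicit false
open Cfsg

namespace Cfsg.Agent.S0724

/-- Blichfeldt's Theorem: if a finite set `L` of natural numbers contains the number of fixed points of every non-identity element of a permutation group `G` of degree `n`, then the order of `G` divides `∏ (n - l)` over `l ∈ L`. -/
theorem result {α : Type*} [Fintype α] [DecidableEq α] (G : Subgroup (Equiv.Perm α)) (L : Finset ℕ) (hL : ∀ g ∈ G, g ≠ 1 → Nat.card (MulAction.fixedBy α g) ∈ L) : Nat.card G ∣ ∏ l ∈ L, (Fintype.card α - l) := by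
  classical
  have key : ∀ j : ℕ, (Nat.card G : ℤ) ∣
      ∑ g : G, (Nat.card (MulAction.fixedBy α g) : ℤ) ^ j := by
    intro j
    letI : ∀ g : G, Fintype (MulAction.fixedBy (Fin j → α) g) := fun g => Fintype.ofFinite _
    letI : Fintype (MulAction.orbitRel.Quotient G (Fin j → α)) := Fintype.ofFinite _
    have h := MulAction.sum_card_fixedBy_eq_card_orbits_mul_card_group G (Fin j → α)
    have h2 : ∀ g : G, Fintype.card (MulAction.fixedBy (Fin j → α) g) =
        (Nat.card (MulAction.fixedBy α g)) ^ j := by
      intro g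
      have e : MulAction.fixedBy (Fin j → α) g ≃ (Fin j → MulAction.fixedBy α g) :=
        { toFun := fun f i => ⟨f.1 i, congrFun f.2 i⟩
          invFun := fun f => ⟨fun i => (f i).1, funext fun i => (f i).2⟩
          left_inv := fun f => rfl
          right_inv := fun f => rfl }
      rw [← Nat.card_eq_fintype_card, Nat.card_congr e, Nat.card_fun, Nat.card_fin]
    simp only [h2] at h
    refine ⟨(Fintype.card (MulAction.orbitRel.Quotient G (Fin j → α)) : ℤ), ?_⟩
    rw [mul_comm, Nat.card_eq_fintype_card, ← Nat.cast_mul, ← h, Nat.cast_sum]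
    simp only [Nat.cast_pow]
  let P : Polynomial ℤ := ∏ l ∈ L, (Polynomial.X - Polynomial.C (l : ℤ))
  have hsum : (Nat.card G : ℤ) ∣ ∑ g : G, P.eval (Nat.card (MulAction.fixedBy α g) : ℤ) := by
    simp only [Polynomial.eval_eq_sum_range]
    rw [Finset.sum_comm]
    refine Finset.dvd_sum fun j _ => ?_
    rw [← Finset.mul_sum]
    exact Dvd.dvd.mul_left (key j) _
  have hone : Nat.card (MulAction.fixedBy α (1 : G)) = Fintype.card α := by
    rw [MulAction.fixedBy_one_eq_univ, Nat.card_coe_set_eq, Set.ncard_univ,
      Nat.card_eq_fintype_card]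
  rw [Finset.sum_eq_single (1 : G), hone] at hsum
  · by_cases hz : ∀ l ∈ L, l ≤ Fintype.card α
    · have : P.eval (Fintype.card α : ℤ) = ((∏ l ∈ L, (Fintype.card α - l) : ℕ) : ℤ) := by
        simp only [P, Polynomial.eval_prod, Polynomial.eval_sub, Polynomial.eval_X,
          Polynomial.eval_C, Nat.cast_prod]
        exact Finset.prod_congr rfl fun l hl => (Nat.cast_sub (hz l hl)).symm
      rw [this] at hsum
      exact_mod_cast hsum
    · push Not at hz
      obtain ⟨l, hl, hlt⟩ := hz
      rw [Finset.prod_eq_zero hl (Nat.sub_eq_zero_of_le hlt.le)]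
      exact dvd_zero _
  · intro g _ hg
    have hmem := hL g g.2 (fun h => hg (Subtype.ext h))
    simp only [P, Polynomial.eval_prod]
    refine Finset.prod_eq_zero hmem ?_
    rw [show MulAction.fixedBy α g = MulAction.fixedBy α (g : Equiv.Perm α) from rfl]
    simp
  · intro h
    exact absurd (Finset.mem_univ _) h

end Cfsg.Agent.S0724
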