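import Cfsg.Statements.S0727
import Cfsg.Agent.Lib.Perm.SharpThreeOdd

set_option autoImplicit false
open Cfsg

namespace Cfsg.Agent.S0727

open CfsgLib.Perm

/-- A sharply triply transitive permutation group of degree `2^f + 1` is isomorphic to the projective general linear group of degree 2 over the field with `2^f` elements. -/
theorem result {α : Type*} [Fintype α] [DecidableEq α] {f : ℕ} (hf : 1 ≤ f) (hα : Fintype.card α = 2 ^ f + 1) (G : Subgroup (Equiv.Perm α)) (h3 : MulAction.IsMultiplyPretransitive G α 3) (hsharp : ∀ x : Fin 3 ↪ α, MulAction.stabilizer G x = ⊥) : ∃ (F : Type) (_ : Field F) (_ : Fintype F), Fintype.card F = 2 ^ f ∧ Nonempty (G ≃* Matrix.ProjGenLinGroup (Fin 2) F) := by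
  have hfree := SharpThreeOdd.free_of_sharp G hsharp
  by_cases hf1 : f = 1
  · subst hf1
    refine ⟨ZMod 2, inferInstance, inferInstance, by simp, ?_⟩
    have hm3 : Fintype.card α = 3 := by rw [hα]; norm_num
    obtain ⟨e₁⟩ := SharpThreeOdd.perm_three_equiv (α := α) hm3
    exact ⟨(MulEquiv.subgroupCongr (SharpThreeOdd.eq_top_of_card_three G h3 hm3)).trans (Subgroup.topEquiv.trans e₁)⟩
  have h4 : 2 ^ 2 ≤ 2 ^ f := Nat.pow_le_pow_right two_pos (by omega)
  obtain ⟨j, -, hcard, F, hF, hFin, hFc, ⟨e⟩⟩ := SharpThreeOdd.exists_psl G h3 hfree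
    (hα ▸ Even.add_one ((Nat.even_pow).2 ⟨even_two, by omega⟩)) (by rw [hα]; omega)
  refine ⟨F, hF, hFin, by omega, ?_⟩
  haveI : CharP F 2 := charP_of_card_eq_prime_pow (f := j) hFc
  obtain ⟨e'⟩ := SharpThreeOdd.psl_equiv_pgl (F := F)
  exact ⟨e.trans e'⟩

end Cfsg.Agent.S0727
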