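import Cfsg.Statements.S0728
import Cfsg.Agent.Lib.Perm.SharpThreeFrame

set_option autoImplicit false
open Cfsg

namespace Cfsg.Agent.S0728

/-- In a sharply triply transitive group of even degree at least 6 (degree `q + 1`, `q` odd), a two-point stabiliser has at most one subgroup of order 3. -/
theorem result {α : Type*} [Fintype α] [DecidableEq α] (heven : Even (Fintype.card α)) (h6 : 6 ≤ Fintype.card α) (G : Subgroup (Equiv.Perm α)) (h3 : MulAction.IsMultiplyPretransitive G α 3) (hsharp : ∀ x : Fin 3 ↪ α, MulAction.stabilizer G x = ⊥) {a b : α} (hab : a ≠ b) (A B : Subgroup G) (hA : A ≤ MulAction.stabilizer G a ⊓ MulAction.stabilizer G b) (hB : B ≤ MulAction.stabilizer G a ⊓ MulAction.stabilizer G b) (hA3 : Nat.card A = 3) (hB3 : Nat.card B = 3) : A = B := by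
  obtain ⟨c, hca, hcb⟩ : ∃ c : α, c ≠ a ∧ c ≠ b := by
    have h2 : ({a, b} : Finset α) ≠ Finset.univ := by
      intro h
      have := congrArg Finset.card h
      rw [Finset.card_pair hab, Finset.card_univ] at this
      omega
    obtain ⟨c, hc⟩ : ∃ c, c ∉ ({a, b} : Finset α) := by
      by_contra hc
      push Not at hc
      exact h2 (Finset.eq_univ_iff_forall.mpr hc)
    simp only [Finset.mem_insert, Finset.mem_singleton, not_or] at hc
    exact ⟨c, hc⟩
  obtain ⟨s, hsa, hsb, hsc⟩ := CfsgLib.Perm.SharpThreeFrame.exists_swap G h3 hab hca.symm hcb.symm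
  obtain ⟨D⟩ := CfsgLib.Perm.SharpThreeFrame.exists_frame heven (by omega) G h3 hsharp hab hca.symm
    hcb.symm s hsa hsb hsc
  haveI : Fact (Nat.Prime 3) := ⟨Nat.prime_three⟩
  haveI : IsCyclic A := isCyclic_of_prime_card hA3
  obtain ⟨x, hx⟩ := IsCyclic.exists_generator (α := A)
  have hxo : orderOf (x : G) = 3 := by
    rw [Subgroup.orderOf_coe, orderOf_eq_card_of_forall_mem_zpowers hx, hA3]
  have hAx : A = Subgroup.zpowers (x : G) := by
    apply le_antisymm
    · intro g hg
      obtain ⟨i, hi⟩ := Subgroup.mem_zpowers_iff.mp (hx ⟨g, hg⟩)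
      exact Subgroup.mem_zpowers_iff.mpr ⟨i, by rw [← SubgroupClass.coe_zpow, hi]⟩
    · exact Subgroup.zpowers_le.mpr x.2
  haveI : Finite B := Nat.finite_of_card_ne_zero (by rw [hB3]; norm_num)
  refine (Subgroup.eq_of_le_of_card_ge ?_ (by rw [hA3, hB3])).symm
  intro w hw
  have hw3 : w ^ 3 = 1 := by
    have := pow_card_eq_one' (x := (⟨w, hw⟩ : B))
    rw [hB3] at this
    exact congrArg Subtype.val this
  rw [hAx]
  exact D.mem_zpowers_of_order_three (hA x.2) (hB hw) hxo hw3

end Cfsg.Agent.S0728
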