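import Cfsg.Statements.S0730
import Cfsg.Agent.Lib.Perm.SharpThreePGL

set_option autoImplicit false
open Cfsg

namespace Cfsg.Agent.S0730

/-- A sharply triply transitive group of degree `p^f + 1`, `p` an odd prime and `f` odd, is isomorphic to the projective general linear group of degree 2 over the field with `p^f` elements (for even `f` there is a second, twisted, group). -/
theorem result {α : Type*} [Fintype α] [DecidableEq α] {p f : ℕ} (hp : p.Prime) (hp2 : p ≠ 2) (hfo : Odd f) (hα : Fintype.card α = p ^ f + 1) (G : Subgroup (Equiv.Perm α)) (h3 : MulAction.IsMultiplyPretransitive G α 3) (hsharp : ∀ x : Fin 3 ↪ α, MulAction.stabilizer G x = ⊥) : ∃ (F : Type) (_ : Field F) (_ : Fintype F), Fintype.card F = p ^ f ∧ Nonempty (G ≃* Matrix.ProjGenLinGroup (Fin 2) F) := by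
  have hf0 : 0 < f := hfo.pos
  have hodd : Odd (p ^ f) := (hp.odd_of_ne_two hp2).pow
  have h4 : 4 ≤ Fintype.card α := by
    have := Nat.le_self_pow hf0.ne' p
    have := hp.two_le
    omega
  have heven : Even (Fintype.card α) := hα ▸ hodd.add_one
  obtain ⟨a, b, c, hab, hac, hbc⟩ := Fintype.two_lt_card_iff.mp (show 2 < Fintype.card α by omega)
  obtain ⟨s, hsa, hsb, hsc⟩ := CfsgLib.Perm.SharpThreeFrame.exists_swap G h3 hab hac hbc
  obtain ⟨D⟩ := CfsgLib.Perm.SharpThreeFrame.exists_frame heven h4 G h3 hsharp hab hac hbc s hsa hsb hsc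
  have hpow : D.p ^ D.f = p ^ f := by have := D.hcard; omega
  have hDp : D.p = p := (Nat.prime_dvd_prime_iff_eq D.hp hp).mp
    (D.hp.dvd_of_dvd_pow (n := f) (hpow ▸ dvd_pow_self _ D.hf.ne'))
  have hDf : D.f = f := Nat.pow_right_injective hp.two_le (by rw [← hDp] at hpow ⊢; exact hpow)
  obtain ⟨F, hF, hFt, hFc, e⟩ := D.nonempty_equiv_pgl h3 (hDf ▸ hfo)
  exact ⟨F, hF, hFt, by rw [hFc, hpow], e⟩

end Cfsg.Agent.S0730
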