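import Cfsg.Statements.S0733
import Mathlib

set_option autoImplicit false
open Cfsg

namespace Cfsg.Agent.S0733

/-- A permutation group of affine type — generated by the translations of a finite vector space `V` over `ZMod p` together with a group `G₀` of linear automorphisms — is primitive on `V` if and only if `G₀` is irreducible on `V`. -/
theorem result {p : ℕ} [Fact p.Prime] {V : Type*} [AddCommGroup V] [Module (ZMod p) V] [Finite V] [Nontrivial V] (G₀ : Subgroup (V ≃ₗ[ZMod p] V)) (G : Subgroup (Equiv.Perm V)) (hG : ∀ σ : Equiv.Perm V, σ ∈ G ↔ ∃ g ∈ G₀, ∃ b : V, ∀ x : V, σ x = (g : V ≃ₗ[ZMod p] V) x + b) : MulAction.IsPreprimitive G V ↔ ∀ W : Submodule (ZMod p) V, (∀ g ∈ G₀, ∀ v ∈ W, (g : V ≃ₗ[ZMod p] V) v ∈ W) → W = ⊥ ∨ W = ⊤ := by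
  classical
  open Pointwise in
  have htrans : ∀ v : V, ∃ g : G, ∀ x : V, g • x = x + v := fun v =>
    ⟨⟨Equiv.addRight v, (hG _).mpr ⟨1, G₀.one_mem, v, fun x => rfl⟩⟩, fun x => rfl⟩
  haveI : MulAction.IsPretransitive G V := by
    constructor
    intro x y
    obtain ⟨g, hg⟩ := htrans (-x + y)
    exact ⟨g, by rw [hg, add_neg_cancel_left]⟩
  constructor
  · intro hp W hW
    have hblock : MulAction.IsBlock G (W : Set V) := by
      rw [MulAction.isBlock_iff_smul_eq_or_disjoint]
      intro g
      obtain ⟨φ, hφ, b, hσ⟩ := (hG _).mp g.2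
      have hmem : ∀ x, x ∈ g • (W : Set V) ↔ x - b ∈ W := by
        intro x
        rw [Set.mem_smul_set]
        constructor
        · rintro ⟨w, hw, rfl⟩
          change (g : Equiv.Perm V) w - b ∈ W
          rw [hσ, add_sub_cancel_right]
          exact hW φ hφ w hw
        · intro hx
          refine ⟨φ⁻¹.1 (x - b), hW _ (G₀.inv_mem hφ) _ hx, ?_⟩
          change (g : Equiv.Perm V) _ = x
          rw [hσ]
          simp
      by_cases hb : b ∈ W
      · left
        ext x
        rw [hmem]
        exact W.sub_mem_iff_left hb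
      · right
        rw [Set.disjoint_left]
        intro x hx hx'
        rw [hmem] at hx
        exact hb (by simpa using W.sub_mem hx' hx)
    rcases hp.isTrivialBlock_of_isBlock hblock with h | h
    · exact Or.inl ((Submodule.eq_bot_iff W).mpr fun x hx => h hx W.zero_mem)
    · exact Or.inr (SetLike.coe_injective (by simpa using h))
  · intro hirr
    refine MulAction.IsPreprimitive.of_isTrivialBlock_base (0 : V) fun {B} h0 hB => ?_
    have hsub : ∀ v ∈ B, (fun x => x + v) '' B = B := by
      intro v hv
      obtain ⟨g, hg⟩ := htrans v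
      have := hB.smul_eq_of_nonempty (g := g) ⟨v, ⟨0, h0, (hg 0).trans (zero_add v)⟩, hv⟩
      rw [← Set.image_smul] at this
      simpa [hg] using this
    let A : AddSubgroup V :=
      { carrier := B
        zero_mem' := h0
        add_mem' := fun {x y} hx hy => by
          have : x + y ∈ (fun z => z + y) '' B := ⟨x, hx, rfl⟩
          rwa [hsub y hy] at this
        neg_mem' := fun {x} hx => by
          have : (0 : V) ∈ (fun z => z + x) '' B := by rw [hsub x hx]; exact h0
          obtain ⟨z, hz, hz0⟩ := this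
          rwa [eq_neg_of_add_eq_zero_left hz0] at hz }
    have hinvA : ∀ φ ∈ G₀, ∀ v ∈ AddSubgroup.toZModSubmodule p A, φ v ∈ AddSubgroup.toZModSubmodule p A := by
      intro φ hφ v hv
      let g : G := ⟨φ.toEquiv, (hG _).mpr ⟨φ, hφ, 0, fun x => (add_zero _).symm⟩⟩
      have hg : g • B = B := hB.smul_eq_of_nonempty ⟨0, ⟨0, h0, map_zero φ⟩, h0⟩
      change φ v ∈ B
      rw [← hg]
      exact ⟨v, hv, rfl⟩
    rcases hirr (AddSubgroup.toZModSubmodule p A) hinvA with h | h
    · left
      intro x hx y hy
      have hb : ∀ z ∈ B, z = 0 := fun z hz => by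
        have : z ∈ AddSubgroup.toZModSubmodule p A := hz
        rwa [h, Submodule.mem_bot] at this
      rw [hb x hx, hb y hy]
    · right
      refine Set.eq_univ_of_forall fun x => ?_
      have : x ∈ AddSubgroup.toZModSubmodule p A := h ▸ Submodule.mem_top
      exact this
end Cfsg.Agent.S0733
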