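import Cfsg.Statements.S0734
import Mathlib

set_option autoImplicit false
open Cfsg

namespace Cfsg.Agent.S0734

/-- Higman's criterion for primitivity: a transitive action on a finite set is primitive if and only if every non-trivial orbital graph (edges = images of a fixed pair of distinct points) is connected. -/
theorem result {G : Type*} [Group G] {Ω : Type*} [Finite Ω] [MulAction G Ω] [MulAction.IsPretransitive G Ω] [Nontrivial Ω] : MulAction.IsPreprimitive G Ω ↔ ∀ a b : Ω, a ≠ b → (SimpleGraph.fromRel fun x y : Ω => ∃ g : G, g • a = x ∧ g • b = y).Connected := by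
  classical
  open Pointwise in
  constructor
  · intro hp a b hab
    set Γ := SimpleGraph.fromRel fun x y : Ω => ∃ g : G, g • a = x ∧ g • b = y with hΓ
    have hinv : ∀ (g : G) {x y : Ω}, Γ.Adj x y → Γ.Adj (g • x) (g • y) := by
      intro g x y h
      rw [hΓ, SimpleGraph.fromRel_adj] at h ⊢
      refine ⟨fun e => h.1 (MulAction.injective g e), ?_⟩
      rcases h.2 with ⟨k, k1, k2⟩ | ⟨k, k1, k2⟩
      · exact Or.inl ⟨g * k, by rw [mul_smul, k1], by rw [mul_smul, k2]⟩
      · exact Or.inr ⟨g * k, by rw [mul_smul, k1], by rw [mul_smul, k2]⟩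
    have hreach : ∀ (g : G) {x y : Ω}, Γ.Reachable x y → Γ.Reachable (g • x) (g • y) := by
      intro g x y h
      exact h.map ⟨fun z => g • z, fun h => hinv g h⟩
    let B : Set Ω := {x | Γ.Reachable a x}
    have hB : MulAction.IsBlock G B := by
      rw [MulAction.isBlock_iff_smul_eq_or_disjoint]
      intro g
      have hmem : ∀ x, x ∈ g • B ↔ Γ.Reachable (g • a) x := by
        intro x
        rw [Set.mem_smul_set]
        constructor
        · rintro ⟨y, hy, rfl⟩; exact hreach g hy
        · intro h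
          exact ⟨g⁻¹ • x, show Γ.Reachable a (g⁻¹ • x) by simpa using hreach g⁻¹ h, smul_inv_smul g x⟩
      by_cases h : Γ.Reachable a (g • a)
      · left
        ext x
        rw [hmem]
        exact ⟨fun h' => h.trans h', fun h' => h.symm.trans h'⟩
      · right
        rw [Set.disjoint_left]
        exact fun x hx hx' => h (SimpleGraph.Reachable.trans hx' ((hmem x).mp hx).symm)
    have hb : Γ.Adj a b := by
      rw [hΓ, SimpleGraph.fromRel_adj]
      exact ⟨hab, Or.inl ⟨1, one_smul _ _, one_smul _ _⟩⟩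
    have huniv := (hp.isTrivialBlock_of_isBlock hB).resolve_left
      fun hs => hab (hs (SimpleGraph.Reachable.refl a) hb.reachable)
    have : Nonempty Ω := ⟨a⟩
    refine ⟨fun x y => ?_⟩
    have hx : x ∈ B := huniv ▸ Set.mem_univ x
    have hy : y ∈ B := huniv ▸ Set.mem_univ y
    exact hx.symm.trans hy
  · intro h
    obtain ⟨o⟩ : Nonempty Ω := inferInstance
    refine MulAction.IsPreprimitive.of_isTrivialBlock_base o fun {B} ho hB => ?_
    by_cases hs : B.Subsingleton
    · exact Or.inl hs
    right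
    rw [Set.not_subsingleton_iff] at hs
    obtain ⟨a, ha, b, hb, hab⟩ := hs
    refine Set.eq_univ_of_forall fun x => ?_
    have key : ∀ u v : Ω, u ∈ B → (∃ g : G, (g • a = u ∧ g • b = v) ∨ (g • a = v ∧ g • b = u)) → v ∈ B := by
      rintro u v hu ⟨g, hg⟩
      have hg' : g • B = B := by
        refine hB.smul_eq_of_nonempty ⟨u, ?_, hu⟩
        rcases hg with ⟨h1, -⟩ | ⟨-, h2⟩
        · exact ⟨a, ha, h1⟩
        · exact ⟨b, hb, h2⟩
      rw [← hg']
      rcases hg with ⟨-, h2⟩ | ⟨h1, -⟩
      · exact ⟨b, hb, h2⟩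
      · exact ⟨a, ha, h1⟩
    obtain ⟨w⟩ := (h a b hab).preconnected a x
    have : ∀ {u v : Ω}, (SimpleGraph.fromRel fun x y : Ω => ∃ g : G, g • a = x ∧ g • b = y).Walk u v → u ∈ B → v ∈ B := by
      intro u v w
      induction w with
      | nil => exact fun hu => hu
      | cons hadj _ ih =>
        intro hu
        rw [SimpleGraph.fromRel_adj] at hadj
        refine ih (key _ _ hu ?_)
        rcases hadj.2 with ⟨g, g1, g2⟩ | ⟨g, g1, g2⟩
        · exact ⟨g, Or.inl ⟨g1, g2⟩⟩
        · exact ⟨g, Or.inr ⟨g1, g2⟩⟩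
    exact this w ha

end Cfsg.Agent.S0734
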