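import Cfsg.Statements.S0735
import Mathlib

set_option autoImplicit false
open Cfsg

namespace Cfsg.Agent.S0735

/-- A 2-homogeneous permutation group (transitive on 2-subsets) of even order is doubly transitive; a non-trivial 2-homogeneous group is primitive. -/
theorem result {α : Type*} [Fintype α] [DecidableEq α] (G : Subgroup (Equiv.Perm α)) (h2 : MulAction.IsPretransitive G (Set.powersetCard α 2)) (hα : 3 ≤ Fintype.card α) : (Even (Nat.card G) → MulAction.IsMultiplyPretransitive G α 2) ∧ (G ≠ ⊥ → MulAction.IsPreprimitive G α) := by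
  classical
  open Pointwise in
  have h2' : ∀ {a b c d : α}, a ≠ b → c ≠ d → ∃ g : G, (g • a = c ∧ g • b = d) ∨ (g • a = d ∧ g • b = c) := by
    intro a b c d hab hcd
    obtain ⟨g, hg⟩ := MulAction.exists_smul_eq G
      (⟨{a, b}, Finset.card_pair hab⟩ : Set.powersetCard α 2) ⟨{c, d}, Finset.card_pair hcd⟩
    have hg' : g • ({a, b} : Finset α) = {c, d} := congrArg Subtype.val hg
    simp only [Finset.smul_finset_insert, Finset.smul_finset_singleton] at hg'
    have hne : g • a ≠ g • b := fun e => hab (MulAction.injective g e)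
    have h1 : g • a ∈ ({c, d} : Finset α) := hg' ▸ by simp
    have h2 : g • b ∈ ({c, d} : Finset α) := hg' ▸ by simp
    simp only [Finset.mem_insert, Finset.mem_singleton] at h1 h2
    exact ⟨g, by grind⟩
  obtain ⟨a₀, b₀, c₀, hab₀, hac₀, hbc₀⟩ := Fintype.two_lt_card_iff.mp hα
  refine ⟨fun heven => ?_, fun hne => ?_⟩
  · rw [MulAction.is_two_pretransitive_iff]
    intro a b c d hab hcd
    haveI : Fact (Nat.Prime 2) := ⟨Nat.prime_two⟩
    obtain ⟨t, ht⟩ := exists_prime_orderOf_dvd_card' (G := G) 2 heven.two_dvd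
    obtain ⟨u, hu⟩ : ∃ u : α, t • u ≠ u := by
      by_contra hh
      push Not at hh
      have : t = 1 := Subtype.ext (Equiv.ext hh)
      rw [this, orderOf_one] at ht; omega
    have ht2 : t • t • u = u := by
      rw [smul_smul, ← pow_two, ← ht, pow_orderOf_eq_one, one_smul]
    obtain ⟨g, hg⟩ := h2' hab hu.symm
    obtain ⟨k, hk⟩ := h2' hu.symm hcd
    rcases hg with ⟨g1, g2⟩ | ⟨g1, g2⟩ <;> rcases hk with ⟨k1, k2⟩ | ⟨k1, k2⟩
    · exact ⟨k * g, by rw [mul_smul, g1, k1], by rw [mul_smul, g2, k2]⟩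
    · exact ⟨k * t * g, by rw [mul_smul, mul_smul, g1, k2], by rw [mul_smul, mul_smul, g2, ht2, k1]⟩
    · exact ⟨k * t * g, by rw [mul_smul, mul_smul, g1, ht2, k1], by rw [mul_smul, mul_smul, g2, k2]⟩
    · exact ⟨k * g, by rw [mul_smul, g1, k2], by rw [mul_smul, g2, k1]⟩
  · obtain ⟨g₀, hg₀, hg₁⟩ : ∃ g, g ∈ G ∧ g ≠ 1 := by
      by_contra hh
      push Not at hh
      exact hne ((Subgroup.eq_bot_iff_forall G).mpr hh)
    obtain ⟨u, hu⟩ : ∃ u : α, g₀ u ≠ u := by
      by_contra hh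
      push Not at hh
      exact hg₁ (Equiv.ext hh)
    haveI : MulAction.IsPretransitive G α := by
      have key : ∀ v, v ∈ MulAction.orbit G u := by
        intro v
        by_contra hv
        have hw : g₀ u ∈ MulAction.orbit G u := ⟨⟨g₀, hg₀⟩, rfl⟩
        obtain ⟨g, hg⟩ := h2' (Ne.symm hu) (show u ≠ v from fun e => hv (e ▸ MulAction.mem_orbit_self u))
        apply hv
        rcases hg with ⟨-, g2⟩ | ⟨g1, -⟩
        · obtain ⟨k, hk⟩ := hw
          exact ⟨g * k, by rw [← g2, ← show k • u = g₀ u from hk]; exact mul_smul g k u⟩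
        · exact ⟨g, g1⟩
      constructor
      intro x y
      obtain ⟨gx, hx⟩ := key x
      obtain ⟨gy, hy⟩ := key y
      exact ⟨gy * gx⁻¹, by rw [mul_smul, ← show gx • u = x from hx, inv_smul_smul]; exact hy⟩
    refine MulAction.IsPreprimitive.of_isTrivialBlock_base a₀ fun {B} h0 hB => ?_
    by_cases hs : B.Subsingleton
    · exact Or.inl hs
    right
    rw [Set.not_subsingleton_iff] at hs
    obtain ⟨x, hx, y, hy, hxy⟩ := hs
    refine Set.eq_univ_of_forall fun z => ?_
    by_contra hz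
    obtain ⟨g, hg⟩ := h2' hxy (show x ≠ z from fun e => hz (e ▸ hx))
    have hgB : g • B = B := by
      refine hB.smul_eq_of_nonempty ⟨x, ?_, hx⟩
      rcases hg with ⟨g1, -⟩ | ⟨-, g2⟩
      · exact ⟨x, hx, g1⟩
      · exact ⟨y, hy, g2⟩
    apply hz
    rw [← hgB]
    rcases hg with ⟨-, g2⟩ | ⟨g1, -⟩
    · exact ⟨y, hy, g2⟩
    · exact ⟨x, hx, g1⟩

end Cfsg.Agent.S0735
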