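import Cfsg.Statements.S0736
import Mathlib

set_option autoImplicit false
open Cfsg
open scoped Pointwise

namespace Cfsg.Agent.S0736

/-- A `k`-homogeneous permutation group of degree `n`, `k ≥ 2`, with `k + q - 1 ≤ n` for every prime power `q` dividing `k`, is `(k-1)`-homogeneous. -/
theorem result {α : Type*} [Fintype α] [DecidableEq α] (G : Subgroup (Equiv.Perm α)) {k : ℕ} (hk : 2 ≤ k) (hG : MulAction.IsPretransitive G (Set.powersetCard α k)) (hq : ∀ q : ℕ, IsPrimePow q → q ∣ k → k + q - 1 ≤ Fintype.card α) : MulAction.IsPretransitive G (Set.powersetCard α (k - 1)) := by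
  classical
  open Finset in
  set n := Fintype.card α with hn
  have hkn : k < n := by
    have hpp := Nat.minFac_prime (show k ≠ 1 by omega)
    have h1 := hq k.minFac hpp.isPrimePow (Nat.minFac_dvd k)
    have := hpp.two_le
    omega
  have hext : ∀ T : Finset α, T.card = k - 1 → ∃ S : Finset α, T ⊆ S ∧ S.card = k := by
    intro T hT
    obtain ⟨S, hTS, -, hS⟩ := Finset.exists_subsuperset_card_eq (Finset.subset_univ T)
      (show T.card ≤ k by omega) (by rw [Finset.card_univ]; omega)
    exact ⟨S, hTS, hS⟩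
  refine ⟨fun x y => ?_⟩
  -- the orbit of `x`
  let O : Finset (Finset α) := Finset.univ.filter fun T => ∃ g : G, g • (x : Finset α) = T
  have hOcard : ∀ T ∈ O, T.card = k - 1 := by
    intro T hT
    obtain ⟨g, rfl⟩ := (Finset.mem_filter.mp hT).2
    rw [Finset.card_smul_finset]
    exact x.2
  have hOinv : ∀ (g : G) (T : Finset α), T ∈ O → g • T ∈ O := by
    intro g T hT
    obtain ⟨h, rfl⟩ := (Finset.mem_filter.mp hT).2
    exact Finset.mem_filter.mpr ⟨Finset.mem_univ _, g * h, mul_smul g h _⟩
  let f : Finset α → ℕ := fun S => (O.filter fun T => T ⊆ S).card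
  have hf : ∀ (g : G) (S : Finset α), f (g • S) = f S := by
    intro g S
    refine (Finset.card_bij (fun T _ => g • T) ?_ ?_ ?_).symm
    · intro T hT
      rw [Finset.mem_filter] at hT ⊢
      exact ⟨hOinv g T hT.1, Finset.smul_finset_subset_smul_finset hT.2⟩
    · intro T _ T' _ h
      exact smul_left_cancel g h
    · intro T hT
      rw [Finset.mem_filter] at hT
      refine ⟨g⁻¹ • T, ?_, smul_inv_smul g T⟩
      rw [Finset.mem_filter]
      refine ⟨hOinv g⁻¹ T hT.1, ?_⟩
      have := Finset.smul_finset_subset_smul_finset (a := g⁻¹) hT.2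
      rwa [inv_smul_smul] at this
  obtain ⟨S0, hxS0, hS0⟩ := hext (x : Finset α) x.2
  have hconst : ∀ S : Finset α, S.card = k → f S = f S0 := by
    intro S hS
    obtain ⟨g, hg⟩ := hG.exists_smul_eq ⟨S0, hS0⟩ ⟨S, hS⟩
    have hg' : g • S0 = S := congrArg Subtype.val hg
    rw [← hg', hf]
  have hxO : (x : Finset α) ∈ O := Finset.mem_filter.mpr ⟨Finset.mem_univ _, 1, one_smul _ _⟩
  have hpos : 0 < f S0 := Finset.card_pos.mpr ⟨_, Finset.mem_filter.mpr ⟨hxO, hxS0⟩⟩
  have hsub : ∀ S : Finset α, S.card = k → O.filter (fun T => T ⊆ S) ⊆ S.powersetCard (k - 1) := by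
    intro S _ T hT
    rw [Finset.mem_filter] at hT
    exact Finset.mem_powersetCard.mpr ⟨hT.2, hOcard T hT.1⟩
  have hchk : k.choose (k - 1) = k := by
    obtain ⟨j, rfl⟩ : ∃ j, k = j + 1 := ⟨k - 1, by omega⟩
    simp
  have hle : f S0 ≤ k := by
    refine (Finset.card_le_card (hsub S0 hS0)).trans ?_
    rw [Finset.card_powersetCard, hS0, hchk]
  -- `f S0` is divisible by `k`
  have hdvd : k ∣ f S0 := by
    rw [← Nat.factorization_prime_le_iff_dvd (by omega) (by omega)]
    intro p hp
    by_cases hpk : p ∣ k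
    swap
    · rw [Nat.factorization_eq_zero_of_not_dvd hpk]; exact Nat.zero_le _
    set a := k.factorization p with ha
    have ha1 : 1 ≤ a := (hp.dvd_iff_one_le_factorization (by omega)).mp hpk
    set q := p ^ a with hqdef
    have hqk : q ∣ k := Nat.ordProj_dvd k p
    have hq1 : 0 < q := pow_pos hp.pos a
    have hqn : k + q - 1 ≤ n := hq q (hp.isPrimePow.pow (by omega)) hqk
    obtain ⟨X, -, hX⟩ := Finset.exists_subset_card_eq (show k + q - 1 ≤ (Finset.univ : Finset α).card by
      rw [Finset.card_univ]; omega)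
    let A := X.powersetCard k
    let B := O.filter (fun T => T ⊆ X)
    have key : ∑ S ∈ A, f S = ∑ T ∈ B, (A.filter fun S => T ⊆ S).card := by
      have hL : ∀ S ∈ A, f S = ∑ T ∈ B, if T ⊆ S then 1 else 0 := by
        intro S hS
        rw [← Finset.card_filter]
        refine congrArg Finset.card (Finset.ext fun T => ?_)
        simp only [B, Finset.mem_filter]
        exact ⟨fun h => ⟨⟨h.1, h.2.trans (Finset.mem_powersetCard.mp hS).1⟩, h.2⟩, fun h => ⟨h.1.1, h.2⟩⟩
      rw [Finset.sum_congr rfl hL, Finset.sum_comm]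
      exact Finset.sum_congr rfl fun T _ => (Finset.card_filter _ _).symm
    have hR : ∀ T ∈ B, (A.filter fun S => T ⊆ S).card = q := by
      intro T hT
      rw [Finset.mem_filter] at hT
      have hTc := hOcard T hT.1
      have hXT : (X \ T).card = q := by
        rw [Finset.card_sdiff_of_subset hT.2, hX, hTc]; omega
      rw [← hXT]
      refine (Finset.card_bij (fun v _ => insert v T) ?_ ?_ ?_).symm
      · intro v hv
        rw [Finset.mem_sdiff] at hv
        rw [Finset.mem_filter, Finset.mem_powersetCard]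
        refine ⟨⟨Finset.insert_subset hv.1 hT.2, ?_⟩, Finset.subset_insert v T⟩
        rw [Finset.card_insert_of_notMem hv.2, hTc]; omega
      · intro v hv w _ h
        rw [Finset.mem_sdiff] at hv
        have : v ∈ insert w T := h ▸ Finset.mem_insert_self v T
        exact (Finset.mem_insert.mp this).resolve_right hv.2
      · intro S hS
        rw [Finset.mem_filter, Finset.mem_powersetCard] at hS
        obtain ⟨v, hv⟩ : ∃ v, S \ T = {v} := Finset.card_eq_one.mp (by
          rw [Finset.card_sdiff_of_subset hS.2, hS.1.2, hTc]; omega)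
        have hvS : v ∈ S \ T := hv ▸ Finset.mem_singleton_self v
        rw [Finset.mem_sdiff] at hvS
        refine ⟨v, Finset.mem_sdiff.mpr ⟨hS.1.1 hvS.1, hvS.2⟩, ?_⟩
        rw [Finset.insert_eq, ← hv, Finset.sdiff_union_of_subset hS.2]
    have heq : (k + q - 1).choose k * f S0 = B.card * q := by
      have h1 : ∑ S ∈ A, f S = A.card * f S0 := by
        rw [Finset.sum_congr rfl fun S hS => hconst S (Finset.mem_powersetCard.mp hS).2,
          Finset.sum_const, smul_eq_mul]
      have h2 : ∑ T ∈ B, (A.filter fun S => T ⊆ S).card = B.card * q := by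
        rw [Finset.sum_congr rfl hR, Finset.sum_const, smul_eq_mul]
      rw [← h2, ← key, h1, Finset.card_powersetCard, hX]
    have hcop : ((q - 1 + k).choose k).factorization p = 0 := by
      rw [Nat.factorization_choose' hp (Nat.lt_succ_self _), Finset.card_eq_zero, Finset.filter_eq_empty_iff]
      intro i _
      rw [not_le]
      rcases Nat.lt_or_ge a i with h | h
      · have h1 : q ∣ p ^ i := pow_dvd_pow p h.le
        have h2 : q ∣ k % p ^ i := (Nat.dvd_mod_iff h1).mpr hqk
        have h3 : k % p ^ i < p ^ i := Nat.mod_lt _ (pow_pos hp.pos i)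
        have h4 : k % p ^ i + q ≤ p ^ i := by
          obtain ⟨u, hu⟩ := h2; obtain ⟨w, hw⟩ := h1
          rw [hu, hw] at h3 ⊢
          have : u + 1 ≤ w := Nat.lt_of_mul_lt_mul_left h3
          nlinarith
        have h5 : (q - 1) % p ^ i ≤ q - 1 := Nat.mod_le _ _
        omega
      · have h1 : k % p ^ i = 0 := Nat.mod_eq_zero_of_dvd ((pow_dvd_pow p h).trans hqk)
        have h2 : (q - 1) % p ^ i < p ^ i := Nat.mod_lt _ (pow_pos hp.pos i)
        omega
    have hd : p ^ a ∣ (k + q - 1).choose k * f S0 := heq ▸ dvd_mul_left q B.card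
    have hne : (k + q - 1).choose k ≠ 0 := (Nat.choose_pos (by omega)).ne'
    have := (hp.pow_dvd_iff_le_factorization (mul_ne_zero hne hpos.ne')).mp hd
    rw [Nat.factorization_mul hne hpos.ne', Finsupp.add_apply, show k + q - 1 = q - 1 + k by omega, hcop] at this
    omega
  have hall : ∀ T : Finset α, T.card = k - 1 → T ∈ O := by
    intro T hT
    obtain ⟨S, hTS, hS⟩ := hext T hT
    have hfk : f S = k := le_antisymm (hconst S hS ▸ hle) (hconst S hS ▸ Nat.le_of_dvd hpos hdvd)
    have heqset : O.filter (fun T => T ⊆ S) = S.powersetCard (k - 1) :=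
      Finset.eq_of_subset_of_card_le (hsub S hS) (by rw [Finset.card_powersetCard, hS, hchk]; exact hfk.ge)
    have : T ∈ O.filter (fun T => T ⊆ S) := heqset ▸ Finset.mem_powersetCard.mpr ⟨hTS, hT⟩
    exact (Finset.mem_filter.mp this).1
  obtain ⟨g, hg⟩ := (Finset.mem_filter.mp (hall (y : Finset α) y.2)).2
  exact ⟨g, Subtype.ext hg⟩

end Cfsg.Agent.S0736
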