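import Cfsg.Statements.S0742
import Cfsg.Agent.Lib.Perm.ZGroup.PSL

set_option autoImplicit false
open Cfsg

namespace Cfsg.Agent.S0742

/-- A finite Zassenhaus group of degree `n + 1` with two-point stabilisers of even order `d` satisfying `2d ≤ n - 1` has `n = p^f` for an odd prime `p` and is isomorphic to `PSL(2, p^f)`. -/
theorem result {G Ω : Type*} [Group G] [Finite G] [MulAction G Ω] [Fintype Ω] (hZ : Cfsg.IsZassenhausGroup G Ω) {a b : Ω} (hab : a ≠ b) (heven : Even (Nat.card ↥(MulAction.stabilizer G a ⊓ MulAction.stabilizer G b))) (hd : 2 * Nat.card ↥(MulAction.stabilizer G a ⊓ MulAction.stabilizer G b) ≤ Fintype.card Ω - 2) : ∃ (p f : ℕ) (K : Type) (_ : Field K) (_ : Fintype K), p.Prime ∧ p ≠ 2 ∧ Fintype.card K = p ^ f ∧ Fintype.card Ω = p ^ f + 1 ∧ Nonempty (G ≃* Matrix.ProjectiveSpecialLinearGroup (Fin 2) K) := by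
  open CfsgLib.Perm.ZGroup MulAction in
  classical
  obtain ⟨S⟩ := exists_setup hZ hab
  have hle : Fintype.card Ω - 2 ≤ 2 * Nat.card S.H := bound_of_even hZ hab heven
  have hd' : 2 * Nat.card S.H ≤ Fintype.card Ω - 2 := hd
  have hcF := S.card_F
  have hcH := S.one_lt_H
  -- an involution of the two-point stabiliser inverts the kernel
  obtain ⟨z, hz⟩ := exists_prime_orderOf_dvd_card' (G := S.H) 2 (even_iff_two_dvd.mp heven)
  have hz1 : (z : G) ≠ 1 := fun e => by
    have h : z = 1 := Subtype.ext e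
    rw [h, orderOf_one] at hz
    omega
  have hfpf : MonoidHom.FixedPointFree (S.cF z) := fun u hu => by
    by_contra hne
    exact hz1 (S.eq_one_of_conj_eq z.2 u.2 (fun e => hne (Subtype.ext e)) (congrArg Subtype.val hu))
  have hinvol : Function.Involutive (S.cF z) := fun u => by
    rw [S.cF_cF, show z * z = 1 by rw [← pow_two, ← hz, pow_orderOf_eq_one], S.cF_one]
  have hFab : IsMulCommutative S.F :=
    ⟨⟨fun u v => hfpf.commute_all_of_involutive hinvol u v⟩⟩
  exact psl_of_half S hFab (by omega)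

end Cfsg.Agent.S0742
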