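import Cfsg.Statements.S0745
import Cfsg.Agent.Lib.Perm.SetStab.LivingstoneWagner

set_option autoImplicit false
open Cfsg

namespace Cfsg.Agent.S0745

/-- Let `G` have degree `n` and `3 ≤ k ≤ n`; suppose `G` is `(k-2)`-transitive but not `(k-1)`-transitive, and is `(k-1)`-homogeneous and `k`-homogeneous. Then `k = n` and `G` is the alternating group, or `n = 5, k = 4, |G| = 20`, or `n = 6, k = 5, |G| = 120`, or `n = 9, k = 5, |G| ∈ {504, 1512}`. -/
theorem result {α : Type*} [Fintype α] [DecidableEq α] (G : Subgroup (Equiv.Perm α)) {k : ℕ} (hk : 3 ≤ k) (hkn : k ≤ Fintype.card α) (ht : MulAction.IsMultiplyPretransitive G α (k - 2)) (hnt : ¬ MulAction.IsMultiplyPretransitive G α (k - 1)) (hh1 : MulAction.IsPretransitive G (Set.powersetCard α (k - 1))) (hh : MulAction.IsPretransitive G (Set.powersetCard α k)) : (k = Fintype.card α ∧ G = alternatingGroup α) ∨ (Fintype.card α = 5 ∧ k = 4 ∧ Nat.card G = 20) ∨ (Fintype.card α = 6 ∧ k = 5 ∧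 Nat.card G = 120) ∨ (Fintype.card α = 9 ∧ k = 5 ∧ (Nat.card G = 504 ∨ Nat.card G = 1512)) := by
  open CfsgLib.Perm.SetStab MulAction in
  classical
  obtain ⟨i, rfl⟩ : ∃ i, k = i + 2 := ⟨k - 2, by omega⟩
  rw [show i + 2 - 2 = i from rfl] at ht
  rw [show i + 2 - 1 = i + 1 from rfl] at hnt hh1
  rcases eq_or_lt_of_le hkn with hk' | hk'
  · refine Or.inl ⟨hk', eq_alternating_of_ne_top ?_ ?_⟩
    · refine IsMultiplyPretransitive.alternatingGroup_le α G ?_
      rw [Nat.card_eq_fintype_card, ← hk']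
      exact ht
    · rintro rfl
      refine hnt ⟨fun u v => ?_⟩
      obtain ⟨g, hg⟩ := (Equiv.Perm.isMultiplyPretransitive α (i + 1)).exists_smul_eq u v
      exact ⟨⟨g, Subgroup.mem_top g⟩, hg⟩
  refine Or.inr ?_
  rcases Nat.lt_or_ge i 4 with hi4 | hi4
  · rcases small_cases (by omega) hk' ht hnt hh1 hh (by omega) with ⟨h1, h2, h3⟩ | ⟨h1, h2, h3⟩ | ⟨h1, h2, h3⟩
    · exact Or.inl ⟨h1, by omega, h3⟩
    · exact Or.inr (Or.inl ⟨h1, by omega, h3⟩)
    · exact Or.inr (Or.inr ⟨h1, by omega, h3⟩)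
  · have := degree_le_of_homogeneous hi4 (by omega) ht hh1 hnt
    omega

end Cfsg.Agent.S0745
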