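import Cfsg.Statements.S0746
import Cfsg.Agent.Lib.Perm.SetStab.LivingstoneWagner
import Cfsg.Agent.S0736
import Cfsg.Agent.S0745

set_option autoImplicit false
open Cfsg

namespace Cfsg.Agent.S0746

/-- The Livingstone–Wagner Theorem, first form: a `k`-homogeneous group of degree `n` with `4 ≤ 2k ≤ n` is `(k-1)`-transitive. -/
theorem result {α : Type*} [Fintype α] [DecidableEq α] (G : Subgroup (Equiv.Perm α)) {k : ℕ} (hk : 2 ≤ k) (hkn : 2 * k ≤ Fintype.card α) (hh : MulAction.IsPretransitive G (Set.powersetCard α k)) : MulAction.IsMultiplyPretransitive G α (k - 1) := by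
  open CfsgLib.Perm.SetStab MulAction in
  classical
  induction k, hk using Nat.le_induction with
  | base =>
    have h1 := Cfsg.Agent.S0736.result G le_rfl hh (fun q _ hqd => by
      have := Nat.le_of_dvd two_pos hqd
      omega)
    obtain ⟨t⟩ : Nonempty (Fin (2 - 1) ↪ α) :=
      Function.Embedding.nonempty_of_card_le (by rw [Fintype.card_fin]; omega)
    exact transitive_of_top h1 (t := t) (eq_top_iff.mpr fun σ _ => by
      haveI : Subsingleton (Fin (2 - 1)) := inferInstanceAs (Subsingleton (Fin 1))
      rw [Subsingleton.elim σ 1]; exact one_mem _)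
  | succ k hk ih =>
    have h1 := Cfsg.Agent.S0736.result G (show 2 ≤ k + 1 by omega) hh (fun q _ hqd => by
      have := Nat.le_of_dvd (by omega) hqd
      omega)
    have ht := ih (by omega) h1
    by_contra hnt
    rcases Cfsg.Agent.S0745.result G (k := k + 1) (by omega) (by omega) ht hnt h1 hh with
      ⟨h, -⟩ | ⟨h, h', -⟩ | ⟨h, h', -⟩ | ⟨h, h', -⟩ <;> omega

end Cfsg.Agent.S0746
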