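import Cfsg.Statements.S0747
import Cfsg.Agent.Lib.Perm.SetStab.Main

set_option autoImplicit false
open scoped Pointwise
open Cfsg

namespace Cfsg.Agent.S0747

/-- In a `k`-transitive permutation group with `4 ≤ k < n`, some `(k+1)`-subset `Δ` has the property that every even permutation of `Δ` is induced by an element of the group stabilising `Δ`. -/
theorem result {α : Type*} [Fintype α] [DecidableEq α] (G : Subgroup (Equiv.Perm α)) {k : ℕ} (hk : 4 ≤ k) (hkn : k < Fintype.card α) (hG : MulAction.IsMultiplyPretransitive G α k) : ∃ Δ : Finset α, Δ.card = k + 1 ∧ ∀ σ : Equiv.Perm ↥Δ, σ ∈ alternatingGroup ↥Δ → ∃ g ∈ G, ∀ x : ↥Δ, g (x : α) = σ x := by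
  classical
  obtain ⟨t, ht⟩ := CfsgLib.Perm.SetStab.exists_alternating _ G hk hkn hG rfl
  refine ⟨Finset.univ.map t, by rw [Finset.card_map, Finset.card_univ, Fintype.card_fin], fun σ hσ => ?_⟩
  let e : Fin (k + 1) ≃ ↥(Finset.univ.map t) := Equiv.ofBijective
    (fun i => ⟨t i, Finset.mem_map_of_mem t (Finset.mem_univ i)⟩)
    ⟨fun i j h => t.injective (congrArg Subtype.val h), fun ⟨x, hx⟩ => by
      obtain ⟨i, -, rfl⟩ := Finset.mem_map.mp hx
      exact ⟨i, rfl⟩⟩
  have hs : e.symm.permCongr σ ∈ alternatingGroup (Fin (k + 1)) := by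
    rw [Equiv.Perm.mem_alternatingGroup] at hσ ⊢
    rw [Equiv.Perm.sign_permCongr, hσ]
  obtain ⟨g, hg, hgt⟩ := CfsgLib.Perm.SetStab.mem_induced.mp (ht hs)
  refine ⟨g, hg, fun x => ?_⟩
  obtain ⟨i, rfl⟩ := e.surjective x
  refine (hgt i).trans ?_
  show ((e ((e.symm.permCongr σ) i)) : α) = _
  rw [Equiv.permCongr_apply, Equiv.symm_symm, Equiv.apply_symm_apply]

end Cfsg.Agent.S0747
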