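import Cfsg.Statements.S0752
import Cfsg.Agent.Lib.Classical.SympBasic

set_option autoImplicit false
open Cfsg

namespace Cfsg.Agent.S0752

/-- Classification of alternating forms: for an alternating bilinear form B on a finite-dimensional space over any field there is a basis indexed by (Fin m ⊕ Fin m) ⊕ Fin k such that B (e_i, f_j) = δ_ij, the e's are pairwise orthogonal, the f's are pairwise orthogonal, and the last k basis vectors are orthogonal to everything (they span the radical). -/
theorem result {F V : Type*} [Field F] [AddCommGroup V] [Module F V] [FiniteDimensional F V] (B : LinearMap.BilinForm F V) (hA : B.IsAlt) : ∃ (m k : ℕ) (b : Module.Basis ((Fin m ⊕ Fin m) ⊕ Fin k) F V), (∀ i j : Fin m, B (b (Sum.inl (Sum.inl i))) (b (Sum.inl (Sum.inr j))) = if i = j then 1 else 0) ∧ (∀ i j : Fin m, B (b (Sum.inl (Sum.inl i))) (b (Sum.inl (Sum.inl j))) = 0) ∧ (∀ i j : Fin m, B (b (Sum.inl (Sum.inr i))) (b (Sum.inl (Sum.inr j))) = 0) ∧ (∀ (j : Fin k) (v : V), B (b (Sum.inr j)) v = 0) := by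
  classical
  set K : Submodule F V := LinearMap.ker B with hK
  obtain ⟨W, hW⟩ := Submodule.exists_isCompl K
  have hKr : ∀ x ∈ K, ∀ v, B x v = 0 := fun x hx v => by
    rw [LinearMap.mem_ker.1 hx]; rfl
  have hsep : (CfsgLib.Classical.restrictForm B W).SeparatingLeft := by
    intro w hw
    apply Subtype.ext
    have : (w : V) ∈ K := LinearMap.mem_ker.2 <| LinearMap.ext fun v => by
      obtain ⟨k, hk, x, hx, rfl⟩ := Submodule.mem_sup.1 (hW.sup_eq_top ▸ Submodule.mem_top (x := v))
      rw [map_add, hA.isRefl _ _ (hKr k hk w), zero_add]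
      exact hw ⟨x, hx⟩
    exact Submodule.disjoint_def.1 hW.disjoint _ this w.2
  have hAW : (CfsgLib.Classical.restrictForm B W).IsAlt := fun x => hA (x : V)
  obtain ⟨m, b, hb⟩ := CfsgLib.Classical.exists_sympBasis hAW
    ⟨hsep, fun x hx => hsep x fun y => hAW.isRefl _ _ (hx y)⟩
  refine ⟨m, Module.finrank F K, (b.prod (Module.finBasis F K)).map (Submodule.prodEquivOfIsCompl W K hW.symm), ?_, ?_, ?_, ?_⟩
  · intro i j
    simpa using hb.1 i j
  · intro i j
    simpa using hb.2.1 i j
  · intro i j
    simpa using hb.2.2 i j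
  · intro j v
    simpa using hKr _ (Module.finBasis F K j).2 v

end Cfsg.Agent.S0752
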