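import Cfsg.Statements.S0753

set_option autoImplicit false
open Cfsg

namespace Cfsg.Agent.S0753

/-- If σ is a ring endomorphism of the field F other than the identity and B is a σ-sesquilinear conjugate-symmetric form with B v v = 0 for every v, then B = 0. -/
theorem result {F V : Type*} [Field F] [AddCommGroup V] [Module F V] (σ : F →+* F) (hσ : σ ≠ RingHom.id F) (B : V →ₛₗ[σ] V →ₗ[F] F) (hS : B.IsSymm) (h0 : ∀ v : V, B v v = 0) : B = 0 := by
  by_contra hB
  have hswap : ∀ x y : V, B y x = - B x y := fun x y => by
    have h := h0 (x + y)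
    simp only [map_add, LinearMap.add_apply, h0] at h
    linear_combination h
  obtain ⟨x, y, hxy⟩ : ∃ x y, B x y ≠ 0 := by
    by_contra h
    push Not at h
    exact hB (LinearMap.ext fun x => LinearMap.ext fun y => h x y)
  have hneg : ∀ x y : V, σ (B x y) = - B x y := fun x y => (hS.eq x y).trans (hswap x y)
  apply hσ
  refine RingHom.ext fun a => ?_
  have h1 := hneg x (a • y)
  rw [map_smul, smul_eq_mul, map_mul, hneg x y] at h1
  have : σ a * B x y = a * B x y := by linear_combination -h1
  exact mul_right_cancel₀ hxy this

end Cfsg.Agent.S0753
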