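import Cfsg.Statements.S0754

set_option autoImplicit false
open Cfsg

namespace Cfsg.Agent.S0754

/-- In a field F with q^2 elements, every non-zero μ with μ^q = μ (that is, μ in the subfield of order q) has exactly q + 1 solutions λ of λ^(q+1) = μ. -/
theorem result {F : Type*} [Field F] [Fintype F] {q : ℕ} (hF : Fintype.card F = q ^ 2) (μ : F) (hμ : μ ≠ 0) (hμq : μ ^ q = μ) : Nat.card {x : F // x ^ (q + 1) = μ} = q + 1 := by
  classical
  have hq : 2 ≤ q := by
    by_contra h
    interval_cases q <;> simp at hF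
    exact absurd hF (Fintype.one_lt_card (α := F)).ne'
  have hN : Nat.card Fˣ = (q - 1) * (q + 1) := by
    rw [Nat.card_units, Nat.card_eq_fintype_card, hF]
    obtain ⟨k, rfl⟩ : ∃ k, q = k + 1 := ⟨q - 1, by omega⟩
    rw [Nat.add_sub_cancel]
    rw [Nat.sub_eq_iff_eq_add (Nat.one_le_pow 2 (k + 1) (by omega))]
    ring
  let φ : Fˣ →* Fˣ := powMonoidHom (q + 1)
  have hker : Nat.card φ.ker = q + 1 := by
    rw [IsCyclic.card_powMonoidHom_ker, hN, Nat.gcd_eq_right (Dvd.intro_left _ rfl)]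
  have hrange : Nat.card φ.range = q - 1 := by
    rw [IsCyclic.card_powMonoidHom_range, hN, Nat.gcd_eq_right (Dvd.intro_left _ rfl), Nat.mul_div_cancel _ (by omega)]
  have heq : φ.range = (powMonoidHom (q - 1) : Fˣ →* Fˣ).ker := by
    refine Subgroup.eq_of_le_of_card_ge ?_ ?_
    · rintro _ ⟨x, rfl⟩
      rw [MonoidHom.mem_ker]
      simp only [φ, powMonoidHom_apply]
      rw [← pow_mul, mul_comm, ← hN]
      exact pow_card_eq_one'
    · rw [hrange, IsCyclic.card_powMonoidHom_ker, hN, Nat.gcd_eq_right (Dvd.intro _ rfl)]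
  obtain ⟨x₀, hx₀⟩ : Units.mk0 μ hμ ∈ φ.range := by
    rw [heq, MonoidHom.mem_ker]
    apply Units.ext
    simp only [powMonoidHom_apply, Units.val_pow_eq_pow_val, Units.val_mk0, Units.val_one]
    apply mul_left_cancel₀ hμ
    rw [← pow_succ', Nat.sub_add_cancel (by omega : 1 ≤ q), hμq, mul_one]
  have hx₀' : (x₀ : F) ^ (q + 1) = μ := by simpa [φ] using congrArg Units.val hx₀
  refine Eq.trans ?_ hker
  refine Nat.card_congr
    { toFun := fun x => ⟨Units.mk0 x.1 (fun h => hμ (by rw [← x.2, h, zero_pow (by omega)])) * x₀⁻¹, ?_⟩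
      invFun := fun k => ⟨((k.1 * x₀ : Fˣ) : F), ?_⟩
      left_inv := fun x => Subtype.ext (by simp)
      right_inv := fun k => Subtype.ext (Units.ext (by simp)) }
  · rw [MonoidHom.mem_ker]
    apply Units.ext
    simp [φ, mul_pow, x.2, hx₀', hμ]
  · have hk : ((k.1 : Fˣ) : F) ^ (q + 1) = 1 := by simpa [φ] using congrArg Units.val (MonoidHom.mem_ker.1 k.2)
    simp [mul_pow, hk, hx₀']

end Cfsg.Agent.S0754
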