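import Cfsg.Statements.S0756
import Cfsg.Agent.Lib.Orth.Isometry

set_option autoImplicit false
open Cfsg

namespace Cfsg.Agent.S0756

/-- Classification of symmetric bilinear forms over finite fields of odd characteristic: if B is non-degenerate symmetric on V of dimension n + 1 and α is a fixed non-square of F, there is an orthogonal basis b_0, ..., b_n with B(b_i, b_i) = 1 for i < n and B(b_n, b_n) ∈ {1, α}. -/
theorem result {F V : Type*} [Field F] [Finite F] [AddCommGroup V] [Module F V] [FiniteDimensional F V] (h2 : (2 : F) ≠ 0) (B : LinearMap.BilinForm F V) (hS : B.IsSymm) (hB : B.Nondegenerate) {n : ℕ} (hn : Module.finrank F V = n + 1) (α : F) (hα : ¬ IsSquare α) : ∃ b : Module.Basis (Fin (n + 1)) F V, (∀ i j, i ≠ j → B (b i) (b j) = 0) ∧ (∀ i, i ≠ Fin.last n → B (b i) (b i) = 1) ∧ (B (b (Fin.last n)) (b (Fin.last n)) = 1 ∨ B (b (Fin.last n)) (b (Fin.last n)) = α) := by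
  classical
  haveI : Fintype F := Fintype.ofFinite F
  set Q : QuadraticForm F V := B.toQuadraticMap with hQdef
  have hQv : ∀ v, Q v = B v v := fun v => rfl
  have hpol : ∀ u v, QuadraticMap.polar ⇑Q u v = 2 * B u v := fun u v => by
    simp only [QuadraticMap.polar, hQv, map_add, LinearMap.add_apply, hS.eq v u]
    ring
  have hnd : (QuadraticMap.polarBilin Q).Nondegenerate := by
    constructor
    · intro v hv
      refine hB.1 v fun w => ?_
      have := hv w
      rw [QuadraticMap.polarBilin_apply_apply, hpol] at this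
      exact (mul_eq_zero.1 this).resolve_left h2
    · intro v hv
      refine hB.2 v fun w => ?_
      have := hv w
      rw [QuadraticMap.polarBilin_apply_apply, hpol] at this
      exact (mul_eq_zero.1 this).resolve_left h2
  obtain ⟨δ, e, hδ, he⟩ := CfsgLib.Orth.exists_diag h2 hnd hn
  obtain ⟨s, hs0, t, ht, hts⟩ : ∃ s : F, s ≠ 0 ∧ ∃ t, (t = 1 ∨ t = α) ∧ s * s * δ = t := by
    by_cases hd : IsSquare δ
    · obtain ⟨r, hr⟩ := hd
      have hr0 : r ≠ 0 := fun h => hδ (by rw [hr, h, mul_zero])
      exact ⟨r⁻¹, inv_ne_zero hr0, 1, Or.inl rfl, by rw [hr]; field_simp⟩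
    · have hα0 : α ≠ 0 := fun h => hα (h ▸ IsSquare.zero)
      obtain ⟨r, hr⟩ : IsSquare (δ / α) := by
        rw [← quadraticChar_one_iff_isSquare (div_ne_zero hδ hα0), div_eq_mul_inv, map_mul,
          quadraticChar_neg_one_iff_not_isSquare.2 hd, quadraticChar_neg_one_iff_not_isSquare.2
            (fun h => hα (by simpa using h.inv))]
        norm_num
      have hr0 : r ≠ 0 := fun h => div_ne_zero hδ hα0 (by rw [hr, h, mul_zero])
      refine ⟨r⁻¹, inv_ne_zero hr0, α, Or.inr rfl, ?_⟩
      rw [div_eq_iff hα0] at hr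
      rw [hr]; field_simp
  let c : Fin (n + 1) → F := fun i => if i = Fin.last n then s else 1
  have hc : ∀ i, IsUnit (c i) := fun i => by
    refine Ne.isUnit ?_
    simp only [c]; split_ifs
    · exact hs0
    · exact one_ne_zero
  let b := ((Pi.basisFun F (Fin (n + 1))).map e).isUnitSMul hc
  have hb : ∀ i, b i = e (Pi.single i (c i)) := fun i => by
    rw [Module.Basis.isUnitSMul_apply, Module.Basis.map_apply, Pi.basisFun_apply, ← map_smul, ← Pi.single_smul,
      smul_eq_mul, mul_one]
  have hBe : ∀ u v, 2 * B (e u) (e v) = QuadraticMap.polar ⇑(CfsgLib.Orth.diagForm n δ) u v := fun u v => by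
    rw [← hpol]
    simp only [QuadraticMap.polar, ← map_add, he]
  have hself : ∀ i, B (b i) (b i) = c i * c i * (if i = Fin.last n then δ else 1) := fun i => by
    rw [← hQv, hb, he, CfsgLib.Orth.diagForm, QuadraticMap.weightedSumSquares_apply,
      Finset.sum_eq_single i (fun j _ hj => by simp [hj]) (by simp)]
    simp only [Pi.single_eq_same, smul_eq_mul]
    ring
  refine ⟨b, fun i j hij => ?_, fun i hi => ?_, ?_⟩
  · refine (mul_eq_zero.1 (?_ : (2 : F) * _ = 0)).resolve_left h2
    rw [hb, hb, hBe]
    simp only [QuadraticMap.polar, CfsgLib.Orth.diagForm, QuadraticMap.weightedSumSquares_apply,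
      ← Finset.sum_sub_distrib]
    refine Finset.sum_eq_zero fun k _ => ?_
    rcases eq_or_ne k i with rfl | hk
    · simp [Pi.single_eq_of_ne hij]
    · simp [Pi.single_eq_of_ne hk]
  · rw [hself]; simp [c, hi]
  · rw [hself]
    simp only [c, if_pos]
    rcases ht with rfl | rfl
    · exact Or.inl hts
    · exact Or.inr hts

end Cfsg.Agent.S0756
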