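import Cfsg.Statements.S0757

set_option autoImplicit false
open Cfsg

namespace Cfsg.Agent.S0757

/-- The two diagonal forms Σ x_i^2 and Σ_(i<n) x_i^2 + α x_n^2 on F^(n+1), with α a non-square and 2 ≠ 0 in F, are inequivalent quadratic forms (so over a finite field of odd order there are exactly two classes of non-singular symmetric bilinear forms in each dimension). -/
theorem result {F : Type*} [Field F] (h2 : (2 : F) ≠ 0) (n : ℕ) (α : F) (hα : ¬ IsSquare α) : ¬ (QuadraticMap.weightedSumSquares F (fun _ : Fin (n + 1) => (1 : F))).Equivalent (QuadraticMap.weightedSumSquares F (fun i : Fin (n + 1) => if i = Fin.last n then α else (1 : F))) := by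
  rintro ⟨e⟩
  haveI : Invertible (2 : F) := invertibleOfNonzero h2
  let w : Fin (n + 1) → F := fun i => if i = Fin.last n then α else (1 : F)
  let P : Matrix (Fin (n + 1)) (Fin (n + 1)) F := LinearMap.toMatrix' e.toLinearEquiv.toLinearMap
  have hpolar : ∀ (u : Fin (n + 1) → F) (x y : Fin (n + 1) → F),
      QuadraticMap.polar (⇑(QuadraticMap.weightedSumSquares F u)) x y = 2 * ∑ i, u i * (x i * y i) := by
    intro u x y
    simp only [QuadraticMap.polar, QuadraticMap.weightedSumSquares_apply, smul_eq_mul, Pi.add_apply,
      Finset.mul_sum, ← Finset.sum_sub_distrib]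
    exact Finset.sum_congr rfl fun i _ => by ring
  have hP : P.transpose * Matrix.diagonal w * P = 1 := by
    ext i j
    have h := hpolar w (e (Pi.single i 1)) (e (Pi.single j 1))
    have h' : QuadraticMap.polar (⇑(QuadraticMap.weightedSumSquares F w)) (e (Pi.single i 1)) (e (Pi.single j 1)) =
        QuadraticMap.polar (⇑(QuadraticMap.weightedSumSquares F (fun _ : Fin (n + 1) => (1 : F))))
          (Pi.single i 1) (Pi.single j 1) := by
      simp only [QuadraticMap.polar, ← map_add, QuadraticMap.IsometryEquiv.map_app, w]
    rw [h', hpolar] at h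
    have h'' := mul_left_cancel₀ h2 h
    simp only [Pi.single_apply, one_mul, mul_ite, mul_one, mul_zero, ite_mul, zero_mul] at h''
    rw [Matrix.mul_assoc, Matrix.mul_apply]
    simp only [Matrix.diagonal_mul, Matrix.transpose_apply, P, LinearMap.toMatrix'_apply]
    rw [Matrix.one_apply]
    refine Eq.trans ?_ (h''.symm.trans ?_)
    · exact Finset.sum_congr rfl fun k _ => by simp [← Pi.single_apply]; ring
    · split_ifs with hij <;> simp [hij, eq_comm]
  have hdet := congrArg Matrix.det hP
  rw [Matrix.det_mul, Matrix.det_mul, Matrix.det_transpose, Matrix.det_diagonal, Matrix.det_one] at hdet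
  have hw : ∏ i, w i = α := by simp [w, Finset.prod_ite_eq']
  rw [hw] at hdet
  have hP0 : P.det ≠ 0 := fun h => by rw [h] at hdet; simp at hdet
  exact hα ⟨P.det⁻¹, by field_simp; linear_combination hdet⟩

end Cfsg.Agent.S0757
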