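import Cfsg.Statements.S0758

set_option autoImplicit false
open Cfsg

namespace Cfsg.Agent.S0758

/-- For a finite field F of odd order q and a non-square α: the form x² + y² is isotropic iff q ≡ 1 mod 4, and the form x² + α y² is isotropic iff q ≡ 3 mod 4. -/
theorem result {F : Type*} [Field F] [Fintype F] (h2 : (2 : F) ≠ 0) (α : F) (hα : ¬ IsSquare α) : ((∃ x y : F, (x ≠ 0 ∨ y ≠ 0) ∧ x ^ 2 + y ^ 2 = 0) ↔ Fintype.card F % 4 = 1) ∧ ((∃ x y : F, (x ≠ 0 ∨ y ≠ 0) ∧ x ^ 2 + α * y ^ 2 = 0) ↔ Fintype.card F % 4 = 3) := by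
  classical
  have hchar : ringChar F ≠ 2 := fun h => h2 (by
    haveI := ringChar.of_eq h
    exact CharTwo.two_eq_zero)
  have hodd := FiniteField.odd_card_of_char_ne_two hchar
  have hneg := FiniteField.isSquare_neg_one_iff (F := F)
  have hα0 : α ≠ 0 := fun h => hα ⟨0, by simp [h]⟩
  have key : ∀ β : F, β ≠ 0 → ((∃ x y : F, (x ≠ 0 ∨ y ≠ 0) ∧ x ^ 2 + β * y ^ 2 = 0) ↔ IsSquare (-β)) := by
    intro β hβ
    constructor
    · rintro ⟨x, y, hxy, h⟩
      have hy : y ≠ 0 := by
        intro hy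
        have hx : x = 0 := by simpa [hy] using h
        simp [hx, hy] at hxy
      exact ⟨x / y, by field_simp; linear_combination -h⟩
    · rintro ⟨r, hr⟩
      exact ⟨r, 1, Or.inr one_ne_zero, by linear_combination -hr⟩
  have hprod : IsSquare (-α) ↔ ¬ IsSquare (-1 : F) := by
    have hna : quadraticChar F (-α) = quadraticChar F (-1) * quadraticChar F α := by
      rw [← map_mul, neg_one_mul]
    rw [quadraticChar_neg_one_iff_not_isSquare.2 hα, mul_neg_one] at hna
    rw [← quadraticChar_neg_one_iff_not_isSquare, ← quadraticChar_one_iff_isSquare (neg_ne_zero.2 hα0), hna,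
      neg_eq_iff_eq_neg]
  refine ⟨?_, ?_⟩
  · have h := key 1 one_ne_zero
    simp only [one_mul] at h
    rw [h, hneg]
    omega
  · rw [key α hα0, hprod, hneg]
    omega

end Cfsg.Agent.S0758
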