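import Cfsg.Statements.S0759
import Cfsg.Agent.Lib.Classical.OrthApps2

set_option autoImplicit false
open Cfsg

namespace Cfsg.Agent.S0759

/-- Type of the orthonormal form: over a finite field of odd order q and for m ≥ 1, the quadratic form Σ_(i<2m) x_i² on F^(2m) admits an m-dimensional subspace on which it vanishes identically if and only if it is not the case that q ≡ 3 (mod 4) and m is odd. -/
theorem result {F : Type*} [Field F] [Fintype F] (h2 : (2 : F) ≠ 0) (m : ℕ) (hm : 1 ≤ m) : (∃ W : Submodule F (Fin (2 * m) → F), Module.finrank F W = m ∧ ∀ w ∈ W, ∑ i, w i ^ 2 = 0) ↔ ¬ (Fintype.card F % 4 = 3 ∧ Odd m) := by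
  classical
  set Q : QuadraticForm F (Fin (2 * m) → F) := QuadraticMap.weightedSumSquares F (fun _ => (1 : F)) with hQdef
  have hQv : ∀ w : Fin (2 * m) → F, Q w = ∑ i, w i ^ 2 := fun w => by
    simp [Q, QuadraticMap.weightedSumSquares_apply, pow_two]
  have hpol : ∀ v w, QuadraticMap.polar ⇑Q v w = 2 * ∑ i, v i * w i := fun v w => by
    simp only [QuadraticMap.polar, hQv, Pi.add_apply, Finset.mul_sum, ← Finset.sum_sub_distrib]
    exact Finset.sum_congr rfl fun i _ => by ring
  have hQ : (QuadraticMap.polarBilin Q).Nondegenerate := CfsgLib.Orth.nondegenerate_of_left fun v hv => by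
    funext i
    simpa [hpol, Pi.single_apply, h2] using hv (Pi.single i 1)
  have hq : Fintype.card F % 2 = 1 := by
    refine Nat.mod_two_ne_zero.1 fun h => h2 ?_
    haveI : CharP F 2 := ringChar.eq_iff.1 (FiniteField.even_card_iff_char_two.2 h)
    exact CharTwo.two_eq_zero
  have harith : Fintype.card F ^ m % 4 = 1 ↔ ¬ (Fintype.card F % 4 = 3 ∧ Odd m) := by
    rcases (by omega : Fintype.card F % 4 = 1 ∨ Fintype.card F % 4 = 3) with h | h
    · simp [Nat.pow_mod, h]
    · rcases Nat.even_or_odd m with ⟨k, rfl⟩ | ⟨k, rfl⟩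
      · simp [Nat.pow_mod, h, ← two_mul, pow_mul]
      · simp [Nat.pow_mod, h, Nat.mul_mod, pow_add, pow_mul]
  rw [← harith, ← CfsgLib.KnownC.OrthTools.isSquare_neg_one_pow_iff (F := F) rfl (Nat.odd_iff.2 hq) m]
  have hV : Module.finrank F (Fin (2 * m) → F) = 2 * m := Module.finrank_fin_fun F
  have hunit : ∀ {V : Type _} [AddCommGroup V] [Module F V] [FiniteDimensional F V] [Finite V]
      (R : QuadraticForm F V) (hR : (QuadraticMap.polarBilin R).Nondegenerate)
      (e : V ≃ₗ[F] (Fin (2 * m) → F)), (∀ v, Q (e v) = R v) →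
      CfsgLib.Classical.negEl R ∈ commutator (CfsgLib.Orth.orthGroup R) := by
    intro V _ _ _ _ R hR e he
    refine CfsgLib.Classical.negEl_mem_of_unit_basis hR h2 (even_two_mul m)
      ((Pi.basisFun F (Fin (2 * m))).map e.symm) (fun i => ?_) (fun i j hij => ?_)
    · rw [← he, Module.Basis.map_apply, LinearEquiv.apply_symm_apply, hQv]
      simp [Pi.single_apply]
    · simp only [QuadraticMap.polar, ← he, map_add, Module.Basis.map_apply, LinearEquiv.apply_symm_apply]
      change QuadraticMap.polar ⇑Q _ _ = 0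
      simp [hpol, Pi.single_apply, hij.symm]
  rcases CfsgLib.Orth.classify_even hQ hV with ⟨e, he⟩ | ⟨-, e, ζ, hζ, he⟩
  · refine iff_of_true ?_ ((CfsgLib.Classical.negEl_plus_iff h2 m).1
      (hunit _ (CfsgLib.Orth.plusForm_nondeg m) e he))
    let f : (Fin m → F) →ₗ[F] (Fin (2 * m) → F) := e.toLinearMap.comp
      (LinearMap.pi (Sum.elim (fun i => LinearMap.proj i) (fun _ => 0)))
    refine ⟨LinearMap.range f, ?_, ?_⟩
    · rw [LinearMap.finrank_range_of_inj fun x y h => funext fun i => ?_, Module.finrank_fin_fun]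
      simpa using congrFun (e.injective h) (Sum.inl i)
    · rintro _ ⟨x, rfl⟩
      rw [← hQv]
      change Q (e _) = 0
      rw [he, ← CfsgLib.Orth.plusForm_apply]
      simp [Cfsg.quadFormPlus]
  · have hab := CfsgLib.Orth.anisotropic_of_no_root hζ
    have hneg := (CfsgLib.Classical.negEl_minus_iff h2 (m - 1) 1 ζ hab).1
      (hunit _ (CfsgLib.Orth.minusForm_nondeg (m - 1) 1 ζ hab) e he)
    rw [Nat.sub_add_cancel hm] at hneg
    refine iff_of_false ?_ hneg
    rintro ⟨W, hW, hW0⟩
    set R := CfsgLib.Orth.minusForm F (m - 1) 1 ζ with hR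
    have hRn := CfsgLib.Orth.minusForm_nondeg (m - 1) 1 ζ hab
    let g : (Fin (m - 1) → F) →ₗ[F] ((Fin (m - 1) ⊕ Fin (m - 1)) ⊕ Fin 2 → F) :=
      LinearMap.pi (Sum.elim (Sum.elim (fun i => LinearMap.proj i) (fun _ => 0)) (fun _ => 0))
    let U := LinearMap.range g
    have hU0 : ∀ u ∈ U, R u = 0 := by
      rintro _ ⟨x, rfl⟩
      simp [R, g, ← CfsgLib.Orth.minusForm_apply, Cfsg.quadFormMinus]
    have hmax : ∀ S, U ≤ S → (∀ u ∈ S, R u = 0) → S = U := by
      intro S hUS hS
      refine le_antisymm (fun s hs => ⟨fun i => s (Sum.inl (Sum.inl i)), ?_⟩) hUS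
      have hy : ∀ i, s (Sum.inl (Sum.inr i)) = 0 := fun i => by
        have hu : (Pi.single (Sum.inl (Sum.inl i)) 1 : (Fin (m - 1) ⊕ Fin (m - 1)) ⊕ Fin 2 → F) ∈ S :=
          hUS ⟨Pi.single i 1, by funext k; rcases k with (k | k) | k <;> simp [g, Pi.single_apply]⟩
        have h0 : QuadraticMap.polar ⇑R (Pi.single (Sum.inl (Sum.inl i)) 1) s = 0 := by
          simp [QuadraticMap.polar, hS _ (S.add_mem hu hs), hS _ hu, hS _ hs]
        simpa [R, CfsgLib.Orth.minusForm_polar, Pi.single_apply] using h0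
      have h0 := hS s hs
      rw [hR, ← CfsgLib.Orth.minusForm_apply] at h0
      obtain ⟨hz0, hz1⟩ := hab (s (Sum.inr 0)) (s (Sum.inr 1)) (by simpa [Cfsg.quadFormMinus, hy] using h0)
      funext k
      rcases k with (k | k) | k
      · simp [g]
      · simp [g, hy]
      · fin_cases k <;> simp [g, hz0, hz1]
    have hWT : ∀ w ∈ W.map (e.symm : (Fin (2 * m) → F) →ₗ[F] _), R w = 0 := by
      rintro _ ⟨w, hw, rfl⟩
      change R (e.symm w) = 0
      rw [← he, LinearEquiv.apply_symm_apply, hQv, hW0 w hw]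
    have h1 := CfsgLib.Classical.max_ts_le hRn hU0 hWT hmax
    have h3 : Module.finrank F U ≤ m - 1 := le_trans (LinearMap.finrank_range_le g) (by rw [Module.finrank_fin_fun])
    rw [LinearEquiv.finrank_map_eq, hW] at h1
    omega

end Cfsg.Agent.S0759
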