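import Cfsg.Statements.S0761

set_option autoImplicit false
open Cfsg

namespace Cfsg.Agent.S0761

/-- Hyperbolic partners: let B be a non-degenerate bilinear form on a finite-dimensional space, either alternating, or symmetric with 2 ≠ 0. If Z is a subspace on which B vanishes, x ∉ Z is isotropic and orthogonal to Z, then there is an isotropic y with B x y = 1 which is orthogonal to Z. -/
theorem result {F V : Type*} [Field F] [AddCommGroup V] [Module F V] [FiniteDimensional F V] (B : LinearMap.BilinForm F V) (hB : B.Nondegenerate) (hform : B.IsAlt ∨ (B.IsSymm ∧ (2 : F) ≠ 0)) (x : V) (Z : Submodule F V) (hxZ : x ∉ Z) (hx : B x x = 0) (hxz : ∀ z ∈ Z, B x z = 0) (hZ : ∀ z ∈ Z, ∀ z' ∈ Z, B z z' = 0) : ∃ y : V, B y y = 0 ∧ B x y = 1 ∧ ∀ z ∈ Z, B z y = 0 := by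
  have hsymm : ∀ a b : V, B a b = 0 → B b a = 0 := by
    rcases hform with h | ⟨h, -⟩
    · exact fun a b hab => by rw [← LinearMap.IsAlt.neg h a b, hab, neg_zero]
    · exact fun a b hab => by rw [h.eq, hab]
  obtain ⟨f, hfx, hfZ⟩ := Submodule.exists_dual_map_eq_bot_of_notMem hxZ inferInstance
  have hsurj : Function.Surjective (LinearMap.flip B) := by
    refine (LinearMap.injective_iff_surjective_of_finrank_eq_finrank (Subspace.dual_finrank_eq).symm).1 ?_
    rw [← LinearMap.ker_eq_bot, LinearMap.ker_eq_bot']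
    intro a ha
    exact hB.2 a fun w => LinearMap.congr_fun ha w
  obtain ⟨y₀, hy₀⟩ := hsurj ((f x)⁻¹ • f)
  have hy : ∀ w, B w y₀ = (f x)⁻¹ * f w := fun w => LinearMap.congr_fun hy₀ w
  have hyx : B x y₀ = 1 := by rw [hy, inv_mul_cancel₀ hfx]
  have hyZ : ∀ z ∈ Z, B z y₀ = 0 := fun z hz => by
    rw [hy, show f z = 0 from (Submodule.mem_bot F).1 (hfZ ▸ Submodule.mem_map_of_mem hz), mul_zero]
  rcases hform with h | ⟨h, h2⟩
  · exact ⟨y₀, h y₀, hyx, hyZ⟩
  · refine ⟨y₀ + (-(B y₀ y₀) / 2) • x, ?_, ?_, fun z hz => ?_⟩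
    · have hyx' : B y₀ x = 1 := by rw [h.eq, hyx]
      simp only [map_add, map_smul, LinearMap.add_apply, LinearMap.smul_apply, smul_eq_mul, hyx, hyx', hx]
      field_simp
      ring
    · simp [map_add, map_smul, hyx, hx]
    · simp [map_add, map_smul, hyZ z hz, hsymm _ _ (hxz z hz)]

end Cfsg.Agent.S0761
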