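import Cfsg.Statements.S0762

set_option autoImplicit false
open Cfsg

namespace Cfsg.Agent.S0762

/-- In characteristic two over a finite field, a quadratic form on a space of dimension at least 3 vanishes on some non-zero vector. -/
theorem result {F V : Type*} [Field F] [Finite F] [CharP F 2] [AddCommGroup V] [Module F V] [FiniteDimensional F V] (Q : QuadraticForm F V) (h3 : 3 ≤ Module.finrank F V) : ∃ v : V, v ≠ 0 ∧ Q v = 0 := by
  classical
  haveI := Fintype.ofFinite F
  have hsq : ∀ a : F, IsSquare a := FiniteField.isSquare_of_char_two (ringChar.eq F 2)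
  haveI : Nontrivial V := Module.finrank_pos_iff.1 (show 0 < Module.finrank F V by omega)
  obtain ⟨v, hv⟩ := exists_ne (0 : V)
  by_cases hQv : Q v = 0
  · exact ⟨v, hv, hQv⟩
  let φ : V →ₗ[F] F := QuadraticMap.polarBilin Q v
  have hdim := φ.finrank_range_add_finrank_ker
  have hr : Module.finrank F (LinearMap.range φ) ≤ 1 := (Submodule.finrank_le _).trans (Module.finrank_self F).le
  obtain ⟨w, hw, hwv⟩ : ∃ w ∈ LinearMap.ker φ, w ∉ Submodule.span F {v} := by
    by_contra h
    push Not at h
    have := Submodule.finrank_mono (show LinearMap.ker φ ≤ Submodule.span F {v} from h)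
    rw [finrank_span_singleton hv] at this
    omega
  obtain ⟨t, ht⟩ := hsq (Q w / Q v)
  refine ⟨w + t • v, fun h0 => hwv (Submodule.mem_span_singleton.2 ⟨-t, ?_⟩), ?_⟩
  · rw [neg_smul]
    exact (eq_neg_of_add_eq_zero_left h0).symm
  · have hp : QuadraticMap.polar (⇑Q) v w = 0 := by simpa [φ] using hw
    have h1 : Q (w + t • v) = Q w + t * t * Q v + t * QuadraticMap.polar (⇑Q) w v := by
      have := QuadraticMap.polar_smul_right Q t w v
      simp only [QuadraticMap.polar, QuadraticMap.map_smul, smul_eq_mul] at this ⊢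
      linear_combination this
    rw [h1, QuadraticMap.polar_comm, hp, mul_zero, add_zero, ← ht, div_mul_cancel₀ _ hQv]
    exact CharTwo.add_self_eq_zero _

end Cfsg.Agent.S0762
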