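import Cfsg.Statements.S0763
import Cfsg.Agent.Lib.Orth.Basic

set_option autoImplicit false
open Cfsg

namespace Cfsg.Agent.S0763

/-- Binary quadratic forms in characteristic two over a finite field: if Q is a quadratic form on a 2-dimensional space whose polar form is non-degenerate, then either there are vectors v, w with Q v = Q w = 0 and polar value 1 (Q is xy in these coordinates), or there are v, w and μ with Q v = 1, Q w = μ, polar value 1 and x² + x + μ without roots in F (Q is x² + xy + μy²). -/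
theorem result {F V : Type*} [Field F] [Finite F] [CharP F 2] [AddCommGroup V] [Module F V] (Q : QuadraticForm F V) (h2 : Module.finrank F V = 2) (hQ : (QuadraticMap.polarBilin Q).Nondegenerate) : (∃ v w : V, LinearIndependent F ![v, w] ∧ Q v = 0 ∧ Q w = 0 ∧ QuadraticMap.polar Q v w = 1) ∨ (∃ (v w : V) (μ : F), LinearIndependent F ![v, w] ∧ (∀ x : F, x ^ 2 + x + μ ≠ 0) ∧ Q v = 1 ∧ Q w = μ ∧ QuadraticMap.polar Q v w = 1) := by
  classical
  haveI : FiniteDimensional F V := FiniteDimensional.of_finrank_pos (by omega)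
  have hz : (2 : F) = 0 := CharTwo.two_eq_zero
  have hself : ∀ v : V, QuadraticMap.polar ⇑Q v v = 0 := fun v => by
    rw [CfsgLib.Orth.polar_self', hz, zero_mul]
  have hind : ∀ v w : V, QuadraticMap.polar ⇑Q v w = 1 → LinearIndependent F ![v, w] := by
    intro v w h
    rw [LinearIndependent.pair_iff]
    intro s t hst
    have e1 := congrArg (fun u => QuadraticMap.polar ⇑Q u w) hst
    have e2 := congrArg (fun u => QuadraticMap.polar ⇑Q v u) hst
    simp only [QuadraticMap.polar_add_left, QuadraticMap.polar_add_right, QuadraticMap.polar_smul_left,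
      QuadraticMap.polar_smul_right, QuadraticMap.polar_zero_left, QuadraticMap.polar_zero_right, hself, h,
      smul_eq_mul, mul_one, mul_zero, add_zero, zero_add] at e1 e2
    exact ⟨e1, e2⟩
  have hdual : ∀ v : V, v ≠ 0 → ∃ w, QuadraticMap.polar ⇑Q v w = 1 := by
    intro v hv
    obtain ⟨w, hw⟩ : ∃ w, QuadraticMap.polar ⇑Q v w ≠ 0 := by
      by_contra! h
      exact hv (hQ.1 v h)
    exact ⟨(QuadraticMap.polar ⇑Q v w)⁻¹ • w, by
      rw [QuadraticMap.polar_smul_right, smul_eq_mul, inv_mul_cancel₀ hw]⟩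
  by_cases hiso : ∃ v : V, v ≠ 0 ∧ Q v = 0
  · obtain ⟨v, hv, hQv⟩ := hiso
    obtain ⟨w, hw⟩ := hdual v hv
    left
    have hp : QuadraticMap.polar ⇑Q v (w + Q w • v) = 1 := by
      rw [QuadraticMap.polar_add_right, QuadraticMap.polar_smul_right, hself, smul_zero, add_zero, hw]
    refine ⟨v, w + Q w • v, hind _ _ hp, hQv, ?_, hp⟩
    rw [CfsgLib.Orth.quad_add', CfsgLib.Orth.quad_smul', QuadraticMap.polar_smul_right,
      QuadraticMap.polar_comm _ w v, hw, hQv, smul_eq_mul]
    linear_combination (Q w) * hz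
  · push Not at hiso
    right
    haveI : Nontrivial V := Module.nontrivial_of_finrank_pos (R := F) (by omega)
    obtain ⟨v, hv⟩ := exists_ne (0 : V)
    obtain ⟨s, hs⟩ : IsSquare (Q v) := FiniteField.isSquare_of_char_two (ringChar.eq F 2) (Q v)
    have hs0 : s ≠ 0 := fun h => hiso v hv (by rw [hs, h, mul_zero])
    obtain ⟨w, hw⟩ := hdual (s⁻¹ • v) (smul_ne_zero (inv_ne_zero hs0) hv)
    have hQ1 : Q (s⁻¹ • v) = 1 := by rw [CfsgLib.Orth.quad_smul', hs]; field_simp
    refine ⟨s⁻¹ • v, w, Q w, hind _ _ hw, fun x h => ?_, hQ1, rfl, hw⟩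
    refine hiso (x • s⁻¹ • v + w) (fun h0 => ?_) ?_
    · have := LinearIndependent.pair_iff.1 (hind _ _ hw) x 1 (by rw [one_smul]; exact h0)
      exact one_ne_zero this.2
    · rw [CfsgLib.Orth.quad_add', CfsgLib.Orth.quad_smul', QuadraticMap.polar_smul_left, hw, hQ1, smul_eq_mul]
      linear_combination h

end Cfsg.Agent.S0763
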