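import Cfsg.Statements.S0767
import Cfsg.Agent.Lib.Classical.SympMatrix

set_option autoImplicit false
open Cfsg

namespace Cfsg.Agent.S0767

/-- The root group of a point: T_v(c) T_v(d) = T_v(c + d), and for A in the symplectic group with A v = a v, the conjugate A T_v(c) A⁻¹ is again some T_v(d). -/
theorem result {F : Type*} [Field F] (m : ℕ) (v : Fin m ⊕ Fin m → F) : (∀ c d : F, Cfsg.sympTransvection m v c * Cfsg.sympTransvection m v d = Cfsg.sympTransvection m v (c + d)) ∧ ∀ (A : Matrix (Fin m ⊕ Fin m) (Fin m ⊕ Fin m) F) (a : F), A ∈ Matrix.symplecticGroup (Fin m) F → A.mulVec v = a • v → ∀ c : F, ∃ d : F, A * Cfsg.sympTransvection m v c * A⁻¹ = Cfsg.sympTransvection m v d := by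
  refine ⟨fun c d => ?_, fun A a hA hAv c => ⟨a * a * c, ?_⟩⟩
  · rw [CfsgLib.Classical.sympTransvection_eq, CfsgLib.Classical.sympTransvection_eq,
      CfsgLib.Classical.sympTransvection_eq, ← Submonoid.coe_mul, ← map_mul, CfsgLib.Classical.tv_mul]
  · have hu : IsUnit A.det := SymplecticGroup.symplectic_det hA
    have h : A * Cfsg.sympTransvection m v c = Cfsg.sympTransvection m v (a * a * c) * A := by
      refine Matrix.ext_of_mulVec_single fun i => ?_
      have hf := fun x => (CfsgLib.Classical.mem_symplecticGroup_iff_preserves m).1 hA x v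
      simp only [hAv] at hf
      rw [← Matrix.mulVec_mulVec, ← Matrix.mulVec_mulVec, CfsgLib.Classical.sympTransvection_mulVec,
        CfsgLib.Classical.sympTransvection_mulVec, CfsgLib.Classical.tv_apply, CfsgLib.Classical.tv_apply,
        Matrix.mulVec_add, Matrix.mulVec_smul, hAv]
      conv_lhs => rw [CfsgLib.Classical.sympBil_apply, ← hf, ← CfsgLib.Classical.sympBil_apply, map_smul]
      simp only [smul_smul, smul_eq_mul]
      congr 2
      ring
    rw [h, Matrix.mul_assoc, Matrix.mul_nonsing_inv _ hu, Matrix.mul_one]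

end Cfsg.Agent.S0767
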