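import Cfsg.Statements.S0769
import Cfsg.Agent.Lib.Classical.GL2Borel

set_option autoImplicit false
open Cfsg

namespace Cfsg.Agent.S0769

/-- Order of the Borel subgroup of GL_n(q): the invertible lower-triangular n × n matrices over a field with q elements number q^(n(n-1)/2) (q-1)^n (unitriangular part times the diagonal torus). -/
theorem result {F : Type*} [Field F] [Fintype F] {q : ℕ} (hF : Fintype.card F = q) (n : ℕ) : Nat.card {g : Matrix.GeneralLinearGroup (Fin n) F // ∀ i j : Fin n, i < j → (g : Matrix (Fin n) (Fin n) F) i j = 0} = q ^ (n * (n - 1) / 2) * (q - 1) ^ n := by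
  classical
  let e : {g : Matrix.GeneralLinearGroup (Fin n) F // ∀ i j : Fin n, i < j → (g : Matrix (Fin n) (Fin n) F) i j = 0} ≃
      (Fin n → Fˣ) × ({x : Fin n × Fin n // x.2 < x.1} → F) :=
    { toFun := fun g => (fun i => Units.mk0 ((g.1 : Matrix (Fin n) (Fin n) F) i i) (by
          have h := (Matrix.isUnits_det_units g.1).ne_zero
          rw [Matrix.det_of_lowerTriangular _ (fun i j hij => g.2 i j hij)] at h
          exact fun h0 => h (Finset.prod_eq_zero (Finset.mem_univ i) h0)),
        fun x => (g.1 : Matrix (Fin n) (Fin n) F) x.1.1 x.1.2)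
      invFun := fun dx => ⟨Matrix.GeneralLinearGroup.mkOfDetNeZero
          (Matrix.of fun i j => if h : j < i then dx.2 ⟨(i, j), h⟩ else if i = j then (dx.1 i : F) else 0)
          (by
            rw [Matrix.det_of_lowerTriangular _ (fun i j (hij : i < j) => by simp [hij.not_gt, hij.ne])]
            exact Finset.prod_ne_zero_iff.2 fun i _ => by simp),
        fun i j hij => by simp [Matrix.GeneralLinearGroup.mkOfDetNeZero, hij.not_gt, hij.ne]⟩
      left_inv := fun g => by
        apply Subtype.ext
        apply Units.ext
        ext i j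
        rcases lt_trichotomy j i with h | h | h
        · simp [Matrix.GeneralLinearGroup.mkOfDetNeZero, h]
        · subst h; simp [Matrix.GeneralLinearGroup.mkOfDetNeZero]
        · simp [Matrix.GeneralLinearGroup.mkOfDetNeZero, h.not_gt, h.ne, g.2 i j h]
      right_inv := fun dx => by
        refine Prod.ext (funext fun i => Units.ext ?_) (funext fun x => ?_)
        · simp [Matrix.GeneralLinearGroup.mkOfDetNeZero]
        · simp [Matrix.GeneralLinearGroup.mkOfDetNeZero, x.2] }
  have hc : Fintype.card {x : Fin n × Fin n // x.2 < x.1} = n * (n - 1) / 2 := by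
    rw [← Finset.sum_range_id, ← Fin.sum_univ_eq_sum_range, Fintype.card_congr
      (Equiv.subtypeProdEquivSigmaSubtype fun (i j : Fin n) => j < i), Fintype.card_sigma]
    refine Finset.sum_congr rfl fun i _ => ?_
    rw [Fintype.card_subtype, Finset.filter_gt_eq_Iio, Fin.card_Iio]
  rw [Nat.card_congr e, Nat.card_prod, Nat.card_fun, Nat.card_fun, Nat.card_units, Nat.card_fin,
    Nat.card_eq_fintype_card, Nat.card_eq_fintype_card, hF, hc]
  ring

end Cfsg.Agent.S0769
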