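import Cfsg.Statements.S0770

set_option autoImplicit false
open Cfsg

namespace Cfsg.Agent.S0770

/-- For a field with at least 3 elements, an invertible matrix normalises the subgroup of invertible diagonal matrices of GL_n if and only if it is monomial (exactly one non-zero entry in each row). -/
theorem result {F : Type*} [Field F] (hF : ∃ a : F, a ≠ 0 ∧ a ≠ 1) (n : ℕ) (g : Matrix.GeneralLinearGroup (Fin n) F) : g ∈ Subgroup.normalizer ((Units.map (Matrix.diagonalRingHom (Fin n) F).toMonoidHom).range : Subgroup (Matrix.GeneralLinearGroup (Fin n) F)) ↔ ∀ i : Fin n, ∃! j : Fin n, (g : Matrix (Fin n) (Fin n) F) i j ≠ 0 := by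
  classical
  let D : Subgroup (Matrix.GeneralLinearGroup (Fin n) F) :=
    (Units.map (Matrix.diagonalRingHom (Fin n) F).toMonoidHom).range
  have hmem : ∀ h : Matrix.GeneralLinearGroup (Fin n) F, h ∈ D ↔
      ∃ d : Fin n → F, (∀ i, d i ≠ 0) ∧ (h : Matrix (Fin n) (Fin n) F) = Matrix.diagonal d := by
    intro h
    constructor
    · rintro ⟨u, rfl⟩
      refine ⟨(u : Fin n → F), fun i hi => ?_, rfl⟩
      have := congrFun u.mul_inv i
      simp [hi] at this
    · rintro ⟨d, hd, hh⟩
      exact ⟨⟨d, fun i => (d i)⁻¹, funext fun i => mul_inv_cancel₀ (hd i), funext fun i => inv_mul_cancel₀ (hd i)⟩,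
        Units.ext hh.symm⟩
  constructor
  · intro hg i
    obtain ⟨j, hj⟩ : ∃ j, (g : Matrix (Fin n) (Fin n) F) i j ≠ 0 := by
      by_contra hc
      push Not at hc
      exact g.det_ne_zero (Matrix.det_eq_zero_of_row_eq_zero i hc)
    refine ⟨j, hj, fun j' hj' => ?_⟩
    by_contra hne
    obtain ⟨a, ha0, ha1⟩ := hF
    let d : Fin n → F := Function.update 1 j a
    have hd : ∀ l, d l ≠ 0 := fun l => by
      by_cases hl : l = j <;> simp [d, hl, ha0]
    let h : Matrix.GeneralLinearGroup (Fin n) F := Matrix.GeneralLinearGroup.mkOfDetNeZero (Matrix.diagonal d)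
      (by rw [Matrix.det_diagonal]; exact Finset.prod_ne_zero_iff.2 fun l _ => hd l)
    have hh : h ∈ D := (hmem h).2 ⟨d, hd, rfl⟩
    obtain ⟨d', -, hd'⟩ := (hmem _).1 ((Subgroup.mem_normalizer_iff.1 hg h).1 hh)
    have e : (g : Matrix (Fin n) (Fin n) F) * Matrix.diagonal d = Matrix.diagonal d' * (g : Matrix (Fin n) (Fin n) F) := by
      rw [← hd', ← Units.val_mul, inv_mul_cancel_right]
      rfl
    have e1 := congrFun (congrFun e i) j
    have e2 := congrFun (congrFun e i) j'
    rw [Matrix.mul_diagonal, Matrix.diagonal_mul, mul_comm] at e1 e2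
    have h1 := mul_right_cancel₀ hj e1
    have h2 := mul_right_cancel₀ hj' e2
    simp [d, hne] at h1 h2
    exact ha1 (h1.trans h2.symm)
  · intro hg
    choose σ hσ hσu using hg
    have hsurj : Function.Surjective σ := fun j => by
      by_contra hc
      push Not at hc
      exact g.det_ne_zero (Matrix.det_eq_zero_of_column_eq_zero j fun i => by
        by_contra h
        exact hc i (hσu i j h).symm)
    let e := Equiv.ofBijective σ (Finite.surjective_iff_bijective.1 hsurj |>.1 |> fun hi => ⟨hi, hsurj⟩)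
    have key : ∀ d : Fin n → F, (g : Matrix (Fin n) (Fin n) F) * Matrix.diagonal d =
        Matrix.diagonal (d ∘ σ) * (g : Matrix (Fin n) (Fin n) F) := fun d => by
      ext i j
      rw [Matrix.mul_diagonal, Matrix.diagonal_mul]
      by_cases h : (g : Matrix (Fin n) (Fin n) F) i j = 0
      · simp [h]
      · rw [hσu i j h, mul_comm]; rfl
    refine Subgroup.mem_normalizer_iff.2 fun h => ⟨fun hh => ?_, fun hh => ?_⟩
    · obtain ⟨d, hd, hdh⟩ := (hmem h).1 hh
      refine (hmem _).2 ⟨d ∘ σ, fun i => hd _, ?_⟩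
      rw [Units.val_mul, Units.val_mul, hdh, key, Matrix.mul_assoc, ← Units.val_mul, mul_inv_cancel, Units.val_one,
        Matrix.mul_one]
    · obtain ⟨d', hd', hdh⟩ := (hmem _).1 hh
      refine (hmem h).2 ⟨d' ∘ e.symm, fun i => hd' _, ?_⟩
      have h1 : (g : Matrix (Fin n) (Fin n) F) * (h : Matrix (Fin n) (Fin n) F) =
          Matrix.diagonal d' * (g : Matrix (Fin n) (Fin n) F) := by
        rw [← hdh, ← Units.val_mul, ← Units.val_mul, inv_mul_cancel_right]
      have h2 := key (d' ∘ e.symm)
      rw [show (d' ∘ e.symm) ∘ σ = d' from funext fun i => congrArg d' (e.symm_apply_apply i), ← h1] at h2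
      have h3 := congrArg (fun A => ((g⁻¹ : Matrix.GeneralLinearGroup (Fin n) F) : Matrix (Fin n) (Fin n) F) * A) h2
      simp only [← Matrix.mul_assoc, ← Units.val_mul, inv_mul_cancel, Units.val_one, Matrix.one_mul] at h3
      rw [inv_mul_cancel_left] at h3
      exact h3.symm

end Cfsg.Agent.S0770
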