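import Cfsg.Statements.S0772
import Cfsg.Agent.Lib.Classical.ParabolicCoord

set_option autoImplicit false
open Cfsg

namespace Cfsg.Agent.S0772

/-- Maximal parabolics are maximal: over a finite field, for 0 < k < n the stabiliser in GL_n of the span of the first k coordinate vectors is a maximal proper subgroup. -/
theorem result {F : Type*} [Field F] [Finite F] (n k : ℕ) (hk0 : 0 < k) (hkn : k < n) : IsCoatom (Cfsg.stabilizing (Cfsg.glToMat (Fin n) F) {v : Fin n → F | ∀ i : Fin n, k ≤ (i : ℕ) → v i = 0}) := by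
  let W := CfsgLib.Classical.coordSub F n k
  have h0 : W ≠ ⊥ := CfsgLib.Classical.coordSub_ne_bot hk0 (by omega)
  have h1 : W ≠ ⊤ := CfsgLib.Classical.coordSub_ne_top hkn
  change IsCoatom (Cfsg.Geo.subspaceStabilizer W)
  constructor
  · intro ht
    obtain ⟨g, -, hg⟩ := CfsgLib.Classical.exists_sl_not_mem_stab h0 h1
    exact hg (ht ▸ Subgroup.mem_top g)
  intro M hM
  obtain ⟨g, hg, hgW⟩ := SetLike.exists_of_lt hM
  have hSL := CfsgLib.Classical.sl_le_of_stab_le M (inf_le_left.trans hM.le) hg hgW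
  rw [eq_top_iff]
  intro t _
  let i₀ : Fin n := ⟨0, by omega⟩
  let d : Matrix.GeneralLinearGroup (Fin n) F := Matrix.GeneralLinearGroup.mkOfDetNeZero
    (Matrix.diagonal (Function.update 1 i₀ (t : Matrix (Fin n) (Fin n) F).det))
    (by simp [Matrix.det_diagonal, Finset.prod_update_of_mem, t.det_ne_zero])
  have hd : d ∈ M := hM.le (CfsgLib.Classical.mem_coordStab_iff.2 fun i j hi hj => by
    refine Matrix.diagonal_apply_ne _ fun h => ?_
    subst h
    omega)
  have hs : d⁻¹ * t ∈ Cfsg.Geo.specialLinear (Fin n) F := by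
    refine MonoidHom.mem_ker.2 ?_
    rw [map_mul, map_inv, inv_mul_eq_one]
    refine Units.ext ?_
    change (Matrix.diagonal _).det = (t : Matrix (Fin n) (Fin n) F).det
    simp [Matrix.det_diagonal, Finset.prod_update_of_mem]
  simpa using M.mul_mem hd (hSL hs)

end Cfsg.Agent.S0772
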