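import Cfsg.Statements.S0773
import Cfsg.Agent.Lib.Classical.ParabolicCoord

set_option autoImplicit false
open Cfsg

namespace Cfsg.Agent.S0773

/-- The stabilisers in GL_n(F), F finite, of the coordinate subspaces of dimensions k and n − k are isomorphic groups, but when 2k ≠ n (and 0 < k < n) no element of GL_n conjugates one onto the other. -/
theorem result {F : Type*} [Field F] [Finite F] (n k : ℕ) (hk0 : 0 < k) (hkn : k < n) (h2 : 2 * k ≠ n) : Nonempty (↥(Cfsg.stabilizing (Cfsg.glToMat (Fin n) F) {v : Fin n → F | ∀ i : Fin n, k ≤ (i : ℕ) → v i = 0}) ≃* ↥(Cfsg.stabilizing (Cfsg.glToMat (Fin n) F) {v : Fin n → F | ∀ i : Fin n, n - k ≤ (i : ℕ) → v i = 0})) ∧ ∀ g : Matrix.GeneralLinearGroup (Fin n) F, (Cfsg.stabilizing (Cfsg.glToMat (Fin n) F) {v : Fin n → F | ∀ i : Fin n, k ≤ (i : ℕ) → v i = 0}).map (MulAut.conj g).toMonoidHom ≠ Cfsg.stabilizing (Cfsg.glToMat (Fin n) F) {v : Fin n → F | ∀ i : Fin n, n - k ≤ (i : ℕ) → v i = 0} := by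
  refine ⟨⟨((CfsgLib.Classical.revDual (F := F) (n := n)).subgroupMap _).trans
    (MulEquiv.subgroupCongr (CfsgLib.Classical.map_revDual_stab (F := F) (n := n) hkn.le))⟩, fun g hg => h2 ?_⟩
  let W := CfsgLib.Classical.coordSub F n k
  change (Cfsg.Geo.subspaceStabilizer W).map (MulAut.conj g).toMonoidHom =
    Cfsg.Geo.subspaceStabilizer (CfsgLib.Classical.coordSub F n (n - k)) at hg
  rw [CfsgLib.Classical.map_conj_subspaceStabilizer] at hg
  have hinj : Function.Injective (Matrix.toLin' (g : Matrix (Fin n) (Fin n) F)) := by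
    intro a b hab
    have := congrArg (fun y => ((g⁻¹ : Matrix.GeneralLinearGroup (Fin n) F) : Matrix (Fin n) (Fin n) F).mulVec y) hab
    simpa [Matrix.mulVec_mulVec, ← Units.val_mul] using this
  have hb : W.map (Matrix.toLin' (g : Matrix (Fin n) (Fin n) F)) ≠ ⊥ := by
    rw [Ne, ← Submodule.map_bot (Matrix.toLin' (g : Matrix (Fin n) (Fin n) F))]
    exact fun h => CfsgLib.Classical.coordSub_ne_bot hk0 (by omega) (Submodule.map_injective_of_injective hinj h)
  have he := CfsgLib.Classical.stab_sl_le_imp hb (CfsgLib.Classical.coordSub_ne_bot (by omega) (by omega))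
    (CfsgLib.Classical.coordSub_ne_top (by omega)) (inf_le_left.trans hg.le)
  have hfr : ∀ l, l ≤ n → Module.finrank F (CfsgLib.Classical.coordSub F n l) = l := fun l hl => by
    rw [LinearEquiv.finrank_eq (?_ : CfsgLib.Classical.coordSub F n l ≃ₗ[F] (Fin l → F)), Module.finrank_fin_fun]
    exact
      { toFun := fun v i => v.1 (Fin.castLE hl i)
        map_add' := fun _ _ => rfl
        map_smul' := fun _ _ => rfl
        invFun := fun w => ⟨fun i => if h : (i : ℕ) < l then w ⟨i, h⟩ else 0, fun i hi => dif_neg (by omega)⟩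
        left_inv := fun v => Subtype.ext (funext fun i => by
          by_cases h : (i : ℕ) < l
          · simp [h]
          · simp [h, v.2 i (by omega)])
        right_inv := fun w => funext fun i => by simp }
  have h3 := congrArg (fun X : Submodule F (Fin n → F) => Module.finrank F X) he
  simp only [(Submodule.equivMapOfInjective _ hinj W).finrank_eq.symm, W] at h3
  rw [hfr k hkn.le, hfr (n - k) (Nat.sub_le _ _)] at h3
  omega

end Cfsg.Agent.S0773
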