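import Cfsg.Statements.S0774
import Mathlib.LinearAlgebra.Matrix.NonsingularInverse
import Mathlib.LinearAlgebra.Matrix.Block

set_option autoImplicit false
open Cfsg

namespace Cfsg.Agent.S0774

open Matrix

variable {F : Type*} [Field F] [Fintype F] {m : ℕ}

/-- The triangular shape of the elements of the Borel subgroup. -/
def IsBorelShape (M : Matrix (Fin m ⊕ Fin m) (Fin m ⊕ Fin m) F) : Prop :=
  M.toBlocks₂₁ = 0 ∧ ∀ i j : Fin m, j < i → M.toBlocks₁₁ i j = 0

theorem mem_inf_stabilizing_iff (M : Matrix.symplecticGroup (Fin m) F) :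
    M ∈ (⨅ k : Fin m, Cfsg.stabilizing (Cfsg.spToMat m F) {v : Fin m ⊕ Fin m → F |
      (∀ i : Fin m, (k : ℕ) < (i : ℕ) → v (Sum.inl i) = 0) ∧ ∀ i : Fin m, v (Sum.inr i) = 0}) ↔
      IsBorelShape M.1 := by
  classical
  simp only [Subgroup.mem_iInf]
  constructor
  · intro h
    have key : ∀ j : Fin m, (∀ i : Fin m, (j : ℕ) < (i : ℕ) → M.1 (.inl i) (.inl j) = 0) ∧
        ∀ i : Fin m, M.1 (.inr i) (.inl j) = 0 := by
      intro j
      have h1 := (h j (Pi.single (.inl j) 1)).1 ⟨fun i hi => by
        rw [Pi.single_apply, if_neg]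
        intro he
        rw [Sum.inl.injEq] at he
        subst he
        omega, fun i => by simp⟩
      simpa [Matrix.mulVec_single_one, Matrix.col] using h1
    exact ⟨Matrix.ext fun i j => (key j).2 i, fun i j hji => (key j).1 i hji⟩
  · intro h k
    let S : Set (Fin m ⊕ Fin m → F) := {v | (∀ i : Fin m, (k : ℕ) < (i : ℕ) → v (Sum.inl i) = 0) ∧
      ∀ i : Fin m, v (Sum.inr i) = 0}
    have hmap : ∀ v ∈ S, M.1 *ᵥ v ∈ S := by
      rintro v ⟨h1, h2⟩
      refine ⟨fun i hi => ?_, fun i => ?_⟩
      · rw [Matrix.mulVec, dotProduct, Fintype.sum_sum_type]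
        simp only [h2, mul_zero, Finset.sum_const_zero, add_zero]
        refine Finset.sum_eq_zero fun j _ => ?_
        by_cases hj : (k : ℕ) < (j : ℕ)
        · rw [h1 j hj, mul_zero]
        · have hji : j < i := by rw [Fin.lt_def]; omega
          rw [show M.1 (.inl i) (.inl j) = 0 from h.2 i j hji, zero_mul]
      · rw [Matrix.mulVec, dotProduct, Fintype.sum_sum_type]
        simp only [h2, mul_zero, Finset.sum_const_zero, add_zero]
        refine Finset.sum_eq_zero fun j _ => ?_
        rw [show M.1 (.inr i) (.inl j) = 0 from congrFun (congrFun h.1 i) j, zero_mul]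
    have hinj : Function.Injective fun v => M.1 *ᵥ v := by
      intro v w hvw
      have h1 := congrArg (fun x => (M⁻¹).1 *ᵥ x) hvw
      simpa [Matrix.mulVec_mulVec, show (M⁻¹).1 * M.1 = 1 from
        congrArg Subtype.val (inv_mul_cancel M)] using h1
    intro v
    refine ⟨hmap v, fun hv => ?_⟩
    have hsurj : Function.Surjective fun w : S => (⟨M.1 *ᵥ w.1, hmap w.1 w.2⟩ : S) :=
      Finite.injective_iff_surjective.1 fun a b hab => Subtype.ext (hinj (congrArg Subtype.val hab))
    obtain ⟨w, hw⟩ := hsurj ⟨_, hv⟩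
    rw [← hinj (congrArg Subtype.val hw)]
    exact w.2

theorem borel_iff {A B D : Matrix (Fin m) (Fin m) F} :
    fromBlocks A B 0 D ∈ symplecticGroup (Fin m) F ↔ Aᵀ * D = 1 ∧ (Dᵀ * B).IsSymm := by
  rw [SymplecticGroup.fromBlocks_mem_iff]
  simp [Matrix.IsSymm, Matrix.transpose_mul, and_comm]

/-- Triangular matrices with nonzero diagonal. -/
abbrev Tri (F : Type*) [Field F] (m : ℕ) :=
  {A : Matrix (Fin m) (Fin m) F // (∀ i j, j < i → A i j = 0) ∧ ∀ i, A i i ≠ 0}

theorem tri_isUnit (A : Tri F m) : IsUnit A.1.det := by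
  rw [Matrix.det_of_isUpperTriangular (fun i j hij => A.2.1 i j hij)]
  exact isUnit_iff_ne_zero.2 (Finset.prod_ne_zero_iff.2 fun i _ => A.2.2 i)

/-- Symmetric matrices. -/
abbrev Symm (F : Type*) [Field F] (m : ℕ) := {A : Matrix (Fin m) (Fin m) F // A.IsSymm}

theorem card_tri : Nat.card (Tri F m) = (Fintype.card F - 1) ^ m *
    Fintype.card F ^ Nat.card {p : Fin m × Fin m // p.1 < p.2} := by
  classical
  let e : Tri F m ≃ (Fin m → Fˣ) × ({p : Fin m × Fin m // p.1 < p.2} → F) :=
    { toFun := fun A => (fun i => Units.mk0 _ (A.2.2 i), fun p => A.1 p.1.1 p.1.2)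
      invFun := fun x => ⟨Matrix.of fun i j =>
          if h : i < j then x.2 ⟨(i, j), h⟩ else if i = j then (x.1 i : F) else 0,
        fun i j hji => by
          simp only [Matrix.of_apply]
          rw [dif_neg (by omega), if_neg (by omega)],
        fun i => by simp⟩
      left_inv := fun A => by
        apply Subtype.ext
        ext i j
        simp only [Matrix.of_apply, Units.val_mk0]
        split_ifs with h1 h2
        · rfl
        · rw [h2]
        · exact (A.2.1 i j (by omega)).symm
      right_inv := fun x => by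
        ext p
        · simp
        · simp [p.2] }
  rw [Nat.card_congr e, Nat.card_prod, Nat.card_fun, Nat.card_fun, Nat.card_units]
  simp [Nat.card_eq_fintype_card]

theorem card_symm : Nat.card (Symm F m) =
    Fintype.card F ^ Nat.card {p : Fin m × Fin m // ¬ p.1 < p.2} := by
  classical
  let e : Symm F m ≃ ({p : Fin m × Fin m // ¬ p.1 < p.2} → F) :=
    { toFun := fun A p => A.1 p.1.1 p.1.2
      invFun := fun x => ⟨Matrix.of fun i j =>
          if h : i < j then x ⟨(j, i), not_lt.2 h.le⟩ else x ⟨(i, j), h⟩, by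
        ext i j
        simp only [Matrix.transpose_apply, Matrix.of_apply]
        split_ifs with h1 h2 h3
        · omega
        · rfl
        · rfl
        · obtain rfl : i = j := by omega
          rfl⟩
      left_inv := fun A => by
        apply Subtype.ext
        ext i j
        simp only [Matrix.of_apply]
        split_ifs with h
        · exact A.2.apply i j
        · rfl
      right_inv := fun x => by
        funext p
        simp [p.2] }
  rw [Nat.card_congr e, Nat.card_fun, Nat.card_eq_fintype_card (α := F)]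


/-- Borel subgroup of the symplectic group: the elements of Sp_2m(q) stabilising each of the totally isotropic coordinate subspaces ⟨e_0, ..., e_k⟩ (k < m) form a subgroup of order q^(m²) (q − 1)^m. -/
theorem result {F : Type*} [Field F] [Fintype F] {q : ℕ} (hF : Fintype.card F = q) (m : ℕ) : Nat.card ↥(⨅ k : Fin m, Cfsg.stabilizing (Cfsg.spToMat m F) {v : Fin m ⊕ Fin m → F | (∀ i : Fin m, (k : ℕ) < (i : ℕ) → v (Sum.inl i) = 0) ∧ ∀ i : Fin m, v (Sum.inr i) = 0}) = q ^ (m ^ 2) * (q - 1) ^ m := by
  classical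
  subst hF
  let e : ↥(⨅ k : Fin m, Cfsg.stabilizing (Cfsg.spToMat m F) {v : Fin m ⊕ Fin m → F |
      (∀ i : Fin m, (k : ℕ) < (i : ℕ) → v (Sum.inl i) = 0) ∧ ∀ i : Fin m, v (Sum.inr i) = 0}) ≃
      Tri F m × Symm F m :=
    { toFun := fun M =>
        have hs := (mem_inf_stabilizing_iff M.1).1 M.2
        have hb : M.1.1.toBlocks₁₁ᵀ * M.1.1.toBlocks₂₂ = 1 ∧
            (M.1.1.toBlocks₂₂ᵀ * M.1.1.toBlocks₁₂).IsSymm := by
          rw [← borel_iff, ← hs.1, Matrix.fromBlocks_toBlocks]
          exact M.1.2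
        (⟨M.1.1.toBlocks₁₁, hs.2, fun i => by
            have hu := Matrix.isUnit_det_of_right_inverse hb.1
            rw [Matrix.det_transpose, Matrix.det_of_isUpperTriangular (fun a b hab => hs.2 a b hab)] at hu
            exact fun h0 => hu.ne_zero (Finset.prod_eq_zero (Finset.mem_univ i) h0)⟩,
          ⟨_, hb.2⟩)
      invFun := fun x => ⟨⟨fromBlocks x.1.1 (x.1.1 * x.2.1) 0 (x.1.1⁻¹)ᵀ, borel_iff.2 ⟨by
          rw [← Matrix.transpose_mul, Matrix.nonsing_inv_mul _ (tri_isUnit x.1),
            Matrix.transpose_one], by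
          rw [Matrix.transpose_transpose, ← Matrix.mul_assoc,
            Matrix.nonsing_inv_mul _ (tri_isUnit x.1), Matrix.one_mul]
          exact x.2.2⟩⟩, (mem_inf_stabilizing_iff _).2 ⟨Matrix.toBlocks_fromBlocks₂₁ _ _ _ _,
            fun i j h => by rw [Matrix.toBlocks_fromBlocks₁₁]; exact x.1.2.1 i j h⟩⟩
      left_inv := fun M => by
        have hs := (mem_inf_stabilizing_iff M.1).1 M.2
        have hb : M.1.1.toBlocks₁₁ᵀ * M.1.1.toBlocks₂₂ = 1 ∧
            (M.1.1.toBlocks₂₂ᵀ * M.1.1.toBlocks₁₂).IsSymm := by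
          rw [← borel_iff, ← hs.1, Matrix.fromBlocks_toBlocks]
          exact M.1.2
        apply Subtype.ext
        apply Subtype.ext
        conv_rhs => rw [← Matrix.fromBlocks_toBlocks M.1.1]
        simp only
        have h1 : M.1.1.toBlocks₁₁ * M.1.1.toBlocks₂₂ᵀ = 1 := by
          have := congrArg Matrix.transpose (mul_eq_one_comm.1 hb.1)
          simpa [Matrix.transpose_mul] using this
        rw [hs.1, ← Matrix.mul_assoc, h1, Matrix.one_mul, Matrix.inv_eq_right_inv h1,
          Matrix.transpose_transpose]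
      right_inv := fun x => by
        refine Prod.ext (Subtype.ext ?_) (Subtype.ext ?_)
        · simp
        · simp only [Matrix.toBlocks_fromBlocks₁₂, Matrix.toBlocks_fromBlocks₂₂,
            Matrix.transpose_transpose]
          rw [← Matrix.mul_assoc, Matrix.nonsing_inv_mul _ (tri_isUnit x.1), Matrix.one_mul] }
  rw [Nat.card_congr e, Nat.card_prod, card_tri, card_symm, mul_assoc, ← pow_add, ← Nat.card_sum,
    Nat.card_congr (Equiv.sumCompl _), Nat.card_prod, Nat.card_fin, ← sq, mul_comm]

end Cfsg.Agent.S0774
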