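import Cfsg.Statements.S0775
import Cfsg.Agent.Lib.Classical.SympMatrix
import Cfsg.Agent.Lib.Classical.SympWitt
import Mathlib.GroupTheory.GroupAction.Quotient
import Mathlib.LinearAlgebra.Matrix.GeneralLinearGroup.Card

set_option autoImplicit false
open Cfsg

namespace Cfsg.Agent.S0775

open Module CfsgLib.Classical

variable {F : Type*} [Field F] {V : Type*} [AddCommGroup V] [Module F V] [FiniteDimensional F V]
  {B : V →ₗ[F] V →ₗ[F] F}

variable (B) in
/-- The isometries fixing `W` pointwise. -/
def fixer (W : Submodule F V) : Subgroup (isomGroup B) where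
  carrier := {g | ∀ w ∈ W, g.1 w = w}
  one_mem' := fun w _ => rfl
  mul_mem' := fun {a b} ha hb w hw => by
    show a.1 (b.1 w) = w
    rw [hb w hw, ha w hw]
  inv_mem' := fun {a} ha w hw => by
    show a.1.symm w = w
    conv_lhs => rw [← ha w hw]
    exact a.1.symm_apply_apply w

theorem finrank_perp_add (hN : B.Nondegenerate) (W : Submodule F V) :
    finrank F (perp B W) + finrank F W = finrank F V := by
  let Φ : V →ₗ[F] (W →ₗ[F] F) := (LinearMap.lcomp F F W.subtype).comp B.flip
  have hs : Function.Surjective Φ := by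
    intro f
    obtain ⟨g, hg⟩ := LinearMap.exists_extend f
    obtain ⟨z, hz⟩ := exists_form_eq hN.2 g
    exact ⟨z, LinearMap.ext fun w => by
      show B (W.subtype w) z = f w
      rw [hz, ← hg, LinearMap.comp_apply]⟩
  have hk : LinearMap.ker Φ = perp B W := by
    ext z
    rw [LinearMap.mem_ker, mem_perp]
    exact ⟨fun h w hw => LinearMap.congr_fun h ⟨w, hw⟩, fun h => LinearMap.ext fun w => h _ w.2⟩
  have h := LinearMap.finrank_range_add_finrank_ker Φ
  rw [LinearMap.range_eq_top.2 hs, finrank_top, hk, Subspace.dual_finrank_eq] at h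
  omega

theorem apply_mem_perp_iff {W : Submodule F V} {g : isomGroup B} (hg : g ∈ fixer B W) {x : V} :
    g.1 x ∈ perp B W ↔ x ∈ perp B W := by
  simp only [mem_perp]
  refine forall₂_congr fun w hw => ?_
  conv_lhs => rw [← hg w hw, g.2]

variable [Fintype F]

theorem card_step (hA : B.IsAlt) (hN : B.Nondegenerate) {W : Submodule F V}
    (hW : ∀ a ∈ W, ∀ b ∈ W, B a b = 0) {x : V} (hx : x ∈ perp B W) (hxW : x ∉ W) :
    (Fintype.card F ^ (finrank F V - finrank F W) - Fintype.card F ^ finrank F W) *
      Nat.card (fixer B (W ⊔ Submodule.span F {x})) = Nat.card (fixer B W) := by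
  classical
  have : Finite V := Module.finite_of_finite F
  let act : MulAction (fixer B W) V :=
    { smul := fun g v => g.1.1 v
      one_smul := fun v => rfl
      mul_smul := fun g h v => rfl }
  have hsmul : ∀ (g : fixer B W) (v : V), g • v = g.1.1 v := fun g v => rfl
  have hle : W ≤ perp B W := fun b hb => mem_perp.2 fun a ha => hW a ha b hb
  have horb : MulAction.orbit (fixer B W) x = (perp B W : Set V) \ (W : Set V) := by
    ext y
    constructor
    · rintro ⟨g, rfl⟩
      refine ⟨(apply_mem_perp_iff g.2).2 hx, fun h => hxW ?_⟩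
      have h1 : g.1.1 (g.1.1 x) = g.1.1 x := g.2 _ h
      rwa [← g.1.1.injective h1]
    · rintro ⟨hy, hyW⟩
      obtain ⟨t, ht, htx⟩ := witt_step hA hN hxW hyW
        (fun w hw => by rw [mem_perp.1 hx w hw, mem_perp.1 hy w hw])
      exact ⟨⟨t, ht⟩, htx⟩
  have hstab : Nat.card (MulAction.stabilizer (fixer B W) x) =
      Nat.card (fixer B (W ⊔ Submodule.span F {x})) := by
    refine Nat.card_congr
      { toFun := fun g => ⟨g.1.1, fun z hz => ?_⟩
        invFun := fun g => ⟨⟨g.1, fun w hw => g.2 w (Submodule.mem_sup_left hw)⟩,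
          g.2 x (Submodule.mem_sup_right (Submodule.mem_span_singleton_self x))⟩
        left_inv := fun g => rfl
        right_inv := fun g => rfl }
    obtain ⟨w, hw, u, hu, rfl⟩ := Submodule.mem_sup.1 hz
    obtain ⟨c, rfl⟩ := Submodule.mem_span_singleton.1 hu
    rw [map_add, map_smul, g.1.2 w hw, show g.1.1.1 x = x from g.2]
  have key := Nat.card_congr (MulAction.orbitProdStabilizerEquivGroup (fixer B W) x)
  rw [Nat.card_prod, hstab] at key
  rw [← key, horb, Nat.card_coe_set_eq, Set.ncard_sdiff (fun v hv => hle hv),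
    ← Nat.card_coe_set_eq, ← Nat.card_coe_set_eq, SetLike.coe_sort_coe, SetLike.coe_sort_coe,
    Module.natCard_eq_pow_finrank (K := F) (V := perp B W),
    Module.natCard_eq_pow_finrank (K := F) (V := W), Nat.card_eq_fintype_card (α := F)]
  have := finrank_perp_add hN W
  rw [show finrank F V - finrank F W = finrank F (perp B W) by omega]

theorem card_fixer (hA : B.IsAlt) (hN : B.Nondegenerate) : ∀ (k : ℕ) (W : Submodule F V),
    finrank F W = k → (∀ a ∈ W, ∀ b ∈ W, B a b = 0) →
    (∏ i ∈ Finset.range k, (Fintype.card F ^ (finrank F V - i) - Fintype.card F ^ i)) *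
      Nat.card (fixer B W) = Nat.card (isomGroup B) := by
  intro k
  induction k with
  | zero =>
    intro W hk _
    have hW : W = ⊥ := Submodule.finrank_eq_zero.1 hk
    subst hW
    rw [Finset.prod_range_zero, one_mul]
    refine Nat.card_congr
      { toFun := fun g => g.1
        invFun := fun g => ⟨g, fun w hw => by
          rw [(Submodule.mem_bot F).1 hw, map_zero]⟩
        left_inv := fun g => rfl
        right_inv := fun g => rfl }
  | succ k ih =>
    intro W hk hW
    let b := Module.finBasisOfFinrankEq F W hk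
    let W' : Submodule F V := Submodule.span F (Set.range fun i : Fin k => (b i.castSucc : V))
    let x : V := b (Fin.last k)
    have hli : LinearIndependent F fun i => (b i : V) :=
      b.linearIndependent.map' W.subtype (Submodule.ker_subtype W)
    have hle : W' ≤ W := Submodule.span_le.2 (by rintro _ ⟨i, rfl⟩; exact (b i.castSucc).2)
    have hk' : finrank F W' = k :=
      (finrank_span_eq_card (hli.comp _ (Fin.castSucc_injective k))).trans (Fintype.card_fin k)
    have hxW' : x ∉ W' := by
      intro hx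
      have h1 := hli.notMem_span_image (s := Set.range (Fin.castSucc (n := k)))
        (x := Fin.last k) (by rintro ⟨i, hi⟩; exact Fin.castSucc_ne_last i hi)
      apply h1
      rwa [← Set.range_comp]
    have hsup : W' ⊔ Submodule.span F {x} = W := by
      refine Submodule.eq_of_le_of_finrank_le (sup_le hle ((Submodule.span_singleton_le_iff_mem _ _).2 (b _).2)) ?_
      rw [hk]
      have hlt : W' < W' ⊔ Submodule.span F {x} := lt_of_le_of_ne le_sup_left fun h =>
        hxW' (h ▸ Submodule.mem_sup_right (Submodule.mem_span_singleton_self x))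
      have := Submodule.finrank_lt_finrank_of_lt hlt
      omega
    have hW' : ∀ a ∈ W', ∀ c ∈ W', B a c = 0 := fun a ha c hc => hW a (hle ha) c (hle hc)
    have hxp : x ∈ perp B W' := mem_perp.2 fun w hw => hW w (hle hw) x (b _).2
    rw [Finset.prod_range_succ, mul_assoc, ← ih W' hk' hW']
    congr 1
    rw [← card_step hA hN hW' hxp hxW', hk', hsup]

theorem card_isomStab (hA : B.IsAlt) (hN : B.Nondegenerate) {k : ℕ} (W : Submodule F V)
    (hk : finrank F W = k) (hW : ∀ a ∈ W, ∀ b ∈ W, B a b = 0) :
    Nat.card (isomStab B W) =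
      Nat.card (fixer B W) * ∏ i : Fin k, (Fintype.card F ^ k - Fintype.card F ^ (i : ℕ)) := by
  classical
  have : Finite V := Module.finite_of_finite F
  have hmem : ∀ g : isomStab B W, ∀ w ∈ W, g.1.1 w ∈ W := fun g w hw =>
    (mem_isomStab.1 g.2).le (Submodule.mem_map_of_mem hw)
  let r : isomStab B W →* Module.End F W :=
    { toFun := fun g => g.1.1.toLinearMap.restrict (hmem g)
      map_one' := LinearMap.ext fun w => Subtype.ext rfl
      map_mul' := fun g h => LinearMap.ext fun w => Subtype.ext rfl }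
  let ρ : isomStab B W →* LinearMap.GeneralLinearGroup F W := r.toHomUnits
  have hρ : Function.Surjective ρ := by
    intro u
    obtain ⟨g, hg⟩ := witt_alt hA hN W (W.subtype.comp u.1)
      (W.injective_subtype.comp ((Module.End.isUnit_iff _).1 u.isUnit).injective)
      (fun a b => by
        show B ((u.1 a : W) : V) ((u.1 b : W) : V) = _
        rw [hW _ (u.1 a).2 _ (u.1 b).2, hW _ a.2 _ b.2])
    have hgW : g ∈ isomStab B W := by
      rw [mem_isomStab]
      refine Submodule.eq_of_le_of_finrank_le ?_ (Submodule.equivMapOfInjective _ g.1.injective W).finrank_eq.le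
      rintro _ ⟨w, hw, rfl⟩
      exact (hg ⟨w, hw⟩).symm ▸ (u.1 ⟨w, hw⟩).2
    exact ⟨⟨g, hgW⟩, Units.ext (LinearMap.ext fun w => Subtype.ext (hg w))⟩
  have hker : Nat.card ρ.ker = Nat.card (fixer B W) := by
    refine Nat.card_congr
      { toFun := fun g => ⟨g.1.1, fun w hw => congrArg Subtype.val
          (LinearMap.congr_fun (congrArg Units.val (MonoidHom.mem_ker.1 g.2)) ⟨w, hw⟩)⟩
        invFun := fun g => ⟨⟨g.1, mem_isomStab.2 (Submodule.ext fun v => ⟨fun ⟨w, hw, he⟩ => by
            rw [← he]; exact (g.2 w hw).symm ▸ hw, fun hv => ⟨v, hv, g.2 v hv⟩⟩)⟩,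
          MonoidHom.mem_ker.2 (Units.ext (LinearMap.ext fun w => Subtype.ext (g.2 w w.2)))⟩
        left_inv := fun g => rfl
        right_inv := fun g => rfl }
  rw [Subgroup.card_eq_card_quotient_mul_card_subgroup ρ.ker,
    Nat.card_congr (QuotientGroup.quotientKerEquivOfSurjective ρ hρ).toEquiv, hker, mul_comm]
  congr 1
  rw [← Matrix.card_GL_field (n := k) (𝔽 := F)]
  refine Nat.card_congr ?_
  exact ((Units.mapEquiv (LinearMap.toMatrixAlgEquiv (Module.finBasisOfFinrankEq F W hk)).toMulEquiv).toEquiv)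

theorem prod_split (q m : ℕ) : ∀ k, k ≤ m →
    (∏ i ∈ Finset.range m, (q ^ (2 * (i + 1)) - 1)) =
      (∏ i ∈ Finset.range (m - k), (q ^ (2 * (i + 1)) - 1)) *
        ∏ i ∈ Finset.range k, (q ^ (2 * (m - i)) - 1) := by
  intro k
  induction k with
  | zero => simp
  | succ k ih =>
    intro hk
    rw [ih (by omega), Finset.prod_range_succ (fun i => q ^ (2 * (m - i)) - 1),
      show m - k = (m - (k + 1)) + 1 by omega, Finset.prod_range_succ]
    ring

theorem prod_step (q m : ℕ) : ∀ k, k ≤ m →
    (∏ i ∈ Finset.range k, (q ^ (2 * m - i) - q ^ i)) =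
      q ^ (k * (k - 1) / 2) * ∏ i ∈ Finset.range k, (q ^ (2 * (m - i)) - 1) := by
  intro k
  induction k with
  | zero => simp
  | succ k ih =>
    intro hk
    rw [Finset.prod_range_succ, Finset.prod_range_succ, ih (by omega),
      show 2 * m - k = 2 * (m - k) + k by omega, pow_add,
      show (k + 1) * (k + 1 - 1) / 2 = k * (k - 1) / 2 + k by
        rcases Nat.eq_zero_or_pos k with rfl | h
        · simp
        · rw [show (k + 1) * (k + 1 - 1) = k * (k - 1) + k * 2 by
            obtain ⟨j, rfl⟩ : ∃ j, k = j + 1 := ⟨k - 1, by omega⟩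
            simp only [Nat.add_sub_cancel]
            ring, Nat.add_mul_div_right _ _ (by norm_num)],
      pow_add, ← Nat.sub_one_mul]
    ring


/-- Maximal parabolics of the symplectic group: if W is a k-dimensional subspace of F^(2m) on which the symplectic form vanishes identically, its stabiliser in Sp_2m(q) has order q^(k(k+1)/2 + 2k(m−k)) · |Sp_(2m−2k)(q)| · |GL_k(q)|. -/
theorem result {F : Type*} [Field F] [Fintype F] {q : ℕ} (hF : Fintype.card F = q) (m k : ℕ) (hk : k ≤ m) (W : Submodule F (Fin m ⊕ Fin m → F)) (hWk : Module.finrank F W = k) (hW : ∀ u ∈ W, ∀ v ∈ W, Cfsg.sympForm m F u v = 0) : Nat.card ↥(Cfsg.stabilizing (Cfsg.spToMat m F) (W : Set (Fin m ⊕ Fin m → F))) = q ^ (k * (k + 1) / 2 + 2 * k * (m - k)) * (q ^ ((m - k) ^ 2) * ∏ i ∈ Finset.range (m - k), (q ^ (2 * (i + 1)) - 1)) * ∏ i : Fin k, (q ^ k - q ^ (i : ℕ)) := by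
  classical
  subst hF
  have hA := sympBil_isAlt (F := F) m
  have hN := sympBil_nondegenerate (F := F) m
  have hWB : ∀ a ∈ W, ∀ b ∈ W, sympBil F m a b = 0 := fun a ha b hb => by
    rw [sympBil_apply]; exact hW a ha b hb
  have hdim : finrank F (Fin m ⊕ Fin m → F) = 2 * m := by
    rw [Module.finrank_pi, Fintype.card_sum, Fintype.card_fin]; omega
  have hmap : (Cfsg.stabilizing (Cfsg.spToMat m F) (W : Set (Fin m ⊕ Fin m → F))).map
      (spEquiv (F := F) m).toMonoidHom = isomStab (sympBil F m) W := by
    ext g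
    obtain ⟨A, rfl⟩ := (spEquiv (F := F) m).surjective g
    rw [mem_isomStab]
    refine Iff.trans (Subgroup.mem_map_iff_mem (spEquiv (F := F) m).injective) ?_
    change (∀ v, v ∈ (W : Set (Fin m ⊕ Fin m → F)) ↔ A.1.mulVec v ∈ (W : Set (Fin m ⊕ Fin m → F))) ↔ _
    constructor
    · intro h
      refine Submodule.eq_of_le_of_finrank_le ?_ (Submodule.equivMapOfInjective _ (spEquiv m A).1.injective W).finrank_eq.le
      rintro _ ⟨x, hx, rfl⟩
      simpa using (h x).1 hx
    · intro h v
      rw [← spEquiv_apply]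
      constructor
      · intro hv
        exact h ▸ Submodule.mem_map_of_mem (f := (spEquiv m A).1.toLinearMap) hv
      · intro hv
        obtain ⟨x, hx, hxv⟩ := (h.symm ▸ hv : (spEquiv m A).1 v ∈ W.map (spEquiv m A).1.toLinearMap)
        rwa [← (spEquiv m A).1.injective hxv]
  rw [Nat.card_congr ((spEquiv (F := F) m).subgroupMap _).toEquiv]
  change Nat.card ↥((Cfsg.stabilizing (Cfsg.spToMat m F) (W : Set (Fin m ⊕ Fin m → F))).map
    (spEquiv (F := F) m).toMonoidHom) = _
  rw [hmap, card_isomStab hA hN W hWk hWB]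
  congr 1
  have h := card_fixer hA hN k W hWk hWB
  rw [hdim, prod_step _ _ k hk, card_isom_alt hA hN m hdim, prod_split _ m k hk] at h
  have hq := Fintype.one_lt_card (α := F)
  have hpos : 0 < Fintype.card F ^ (k * (k - 1) / 2) *
      ∏ i ∈ Finset.range k, (Fintype.card F ^ (2 * (m - i)) - 1) := by
    refine Nat.mul_pos (pow_pos (by omega) _) (Finset.prod_pos fun i hi => ?_)
    rw [Finset.mem_range] at hi
    have : 1 < Fintype.card F ^ (2 * (m - i)) := Nat.one_lt_pow (by omega) hq
    omega
  refine Nat.eq_of_mul_eq_mul_left hpos (h.trans ?_)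
  have hexp : m ^ 2 = k * (k - 1) / 2 + (k * (k + 1) / 2 + 2 * k * (m - k)) + (m - k) ^ 2 := by
    obtain ⟨l, rfl⟩ : ∃ l, m = k + l := ⟨m - k, by omega⟩
    rw [Nat.add_sub_cancel_left]
    obtain ⟨a, ha⟩ := Nat.even_mul_pred_self k
    obtain ⟨b, hb⟩ := Nat.even_mul_succ_self k
    rw [show k * (k - 1) / 2 = a by omega, show k * (k + 1) / 2 = b by omega]
    rcases Nat.eq_zero_or_pos k with rfl | hk0
    · obtain rfl : a = 0 := by omega
      obtain rfl : b = 0 := by omega
      ring
    · obtain ⟨j, rfl⟩ : ∃ j, k = j + 1 := ⟨k - 1, by omega⟩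
      simp only [Nat.add_sub_cancel] at ha
      nlinarith
  rw [hexp, pow_add, pow_add]
  ring

end Cfsg.Agent.S0775
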