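import Cfsg.Statements.S0776
import Cfsg.Agent.Lib.Classical.SympModels

set_option autoImplicit false
open Cfsg

namespace Cfsg.Agent.S0776

/-- If W ≤ F^(2m) is a 2k-dimensional subspace on which the symplectic form is non-degenerate, then the stabiliser of W in Sp_2m(F) is isomorphic to Sp_2k(F) × Sp_(2m−2k)(F). -/
theorem result {F : Type*} [Field F] (m k : ℕ) (hk : k ≤ m) (W : Submodule F (Fin m ⊕ Fin m → F)) (hWk : Module.finrank F W = 2 * k) (hW : ∀ u ∈ W, (∀ v ∈ W, Cfsg.sympForm m F u v = 0) → u = 0) : Nonempty (↥(Cfsg.stabilizing (Cfsg.spToMat m F) (W : Set (Fin m ⊕ Fin m → F))) ≃* Matrix.symplecticGroup (Fin k) F × Matrix.symplecticGroup (Fin (m - k)) F) := by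
  classical
  have hA := CfsgLib.Classical.sympBil_isAlt (F := F) m
  have hN := CfsgLib.Classical.sympBil_nondegenerate (F := F) m
  have hR := hA.isRefl
  have hWn : CfsgLib.Classical.NondegOn (CfsgLib.Classical.sympBil F m) W := by
    rw [CfsgLib.Classical.nondegOn_iff]
    intro x hx hx'
    refine hW x hx fun v hv => ?_
    rw [← CfsgLib.Classical.sympBil_apply]
    exact hR _ _ (hx' v hv)
  have hperp : Module.finrank F (CfsgLib.Classical.perp (CfsgLib.Classical.sympBil F m) W) = 2 * (m - k) := by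
    have h := hWn.finrank_perp
    rw [hWk, Module.finrank_pi, Fintype.card_sum, Fintype.card_fin] at h
    omega
  obtain ⟨e1⟩ := CfsgLib.Classical.isom_alt_equiv_sp (CfsgLib.Classical.restrictForm_isAlt hA W)
    (CfsgLib.Classical.restrictForm_nondegenerate hR hWn) k hWk
  obtain ⟨e2⟩ := CfsgLib.Classical.isom_alt_equiv_sp (CfsgLib.Classical.restrictForm_isAlt hA _)
    (CfsgLib.Classical.restrictForm_nondegenerate hR (CfsgLib.Classical.nondegOn_perp hN.2 hWn)) (m - k) hperp
  refine ⟨(((CfsgLib.Classical.spEquiv (F := F) m).subgroupMap _).trans (MulEquiv.subgroupCongr ?_)).trans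
    ((CfsgLib.Classical.isomStabEquiv hR hWn).symm.trans (MulEquiv.prodCongr e1 e2))⟩
  ext g
  obtain ⟨A, rfl⟩ := (CfsgLib.Classical.spEquiv (F := F) m).surjective g
  rw [CfsgLib.Classical.mem_isomStab]
  refine Iff.trans (Subgroup.mem_map_iff_mem (CfsgLib.Classical.spEquiv (F := F) m).injective) ?_
  change (∀ v, v ∈ (W : Set (Fin m ⊕ Fin m → F)) ↔ A.1.mulVec v ∈ (W : Set (Fin m ⊕ Fin m → F))) ↔ _
  constructor
  · intro h
    ext y
    constructor
    · rintro ⟨x, hx, rfl⟩
      simpa using (h x).1 hx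
    · intro hy
      refine ⟨(CfsgLib.Classical.spEquiv m A).1.symm y, ?_, by simp⟩
      refine (h _).2 ?_
      rw [← CfsgLib.Classical.spEquiv_apply]
      simpa using hy
  · intro h v
    rw [← CfsgLib.Classical.spEquiv_apply]
    constructor
    · intro hv
      exact h ▸ Submodule.mem_map_of_mem (f := (CfsgLib.Classical.spEquiv m A).1.toLinearMap) hv
    · intro hv
      obtain ⟨x, hx, hxv⟩ := (h.symm ▸ hv : (CfsgLib.Classical.spEquiv m A).1 v ∈
        W.map (CfsgLib.Classical.spEquiv m A).1.toLinearMap)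
      rwa [← (CfsgLib.Classical.spEquiv m A).1.injective hxv]

end Cfsg.Agent.S0776
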