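import Cfsg.Statements.S0777
import Mathlib.RingTheory.IntegralDomain
import Mathlib.GroupTheory.Perm.Basic

set_option autoImplicit false
open Cfsg

namespace Cfsg.Agent.S0777

open Matrix

variable {F : Type*} [Field F] {m : ℕ}

theorem J_eq_zero_of_ne {x y : Fin m ⊕ Fin m} (h : Matrix.J (Fin m) F x y ≠ 0) : y = x.swap := by
  rcases x with i | i <;> rcases y with j | j <;>
    simp [Matrix.J, Matrix.one_apply] at h ⊢ <;> exact h.symm

theorem J_swap_ne_zero (x : Fin m ⊕ Fin m) : Matrix.J (Fin m) F x x.swap ≠ 0 := by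
  rcases x with i | i <;> simp [Matrix.J, Matrix.one_apply]

theorem monomial_sandwich {M : Matrix (Fin m ⊕ Fin m) (Fin m ⊕ Fin m) F}
    {τ : Fin m ⊕ Fin m → Fin m ⊕ Fin m} (h : ∀ r c, r ≠ τ c → M r c = 0) (x y : Fin m ⊕ Fin m) :
    (Mᵀ * Matrix.J (Fin m) F * M) x y =
      M (τ x) x * Matrix.J (Fin m) F (τ x) (τ y) * M (τ y) y := by
  rw [Matrix.mul_apply, Finset.sum_eq_single (τ y) (fun r _ hr => by rw [h r y hr, mul_zero])
    (by simp), Matrix.mul_apply, Finset.sum_eq_single (τ x)
    (fun r _ hr => by rw [Matrix.transpose_apply, h r x hr, zero_mul]) (by simp), Matrix.transpose_apply]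

variable (F m) in
/-- The diagonal torus. -/
def torus : Subgroup (Matrix.symplecticGroup (Fin m) F) :=
  ⨅ i : Fin m ⊕ Fin m, Cfsg.stabilizing (Cfsg.spToMat m F)
    ((Submodule.span F {(Pi.single i (1 : F) : Fin m ⊕ Fin m → F)} :
      Submodule F (Fin m ⊕ Fin m → F)) : Set (Fin m ⊕ Fin m → F))

theorem mem_torus_iff [Finite F] {M : Matrix.symplecticGroup (Fin m) F} :
    M ∈ torus F m ↔ ∀ r c, r ≠ c → M.1 r c = 0 := by
  classical
  simp only [torus, Subgroup.mem_iInf]
  constructor
  · intro h r c hrc
    have h1 := (h c (Pi.single c 1)).1 (Submodule.mem_span_singleton_self _)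
    obtain ⟨a, ha⟩ := Submodule.mem_span_singleton.1 h1
    have h2 := congrFun ha r
    change _ = (M.1 *ᵥ Pi.single c 1) r at h2
    simpa [Matrix.mulVec_single_one, Matrix.col, hrc] using h2.symm
  · intro h i
    let S : Set (Fin m ⊕ Fin m → F) := ((Submodule.span F {(Pi.single i (1 : F) :
      Fin m ⊕ Fin m → F)} : Submodule F (Fin m ⊕ Fin m → F)) : Set (Fin m ⊕ Fin m → F))
    have hmap : ∀ v ∈ S, M.1 *ᵥ v ∈ S := by
      intro v hv
      obtain ⟨a, rfl⟩ := Submodule.mem_span_singleton.1 hv
      refine Submodule.mem_span_singleton.2 ⟨a * M.1 i i, funext fun r => ?_⟩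
      rw [Matrix.mulVec_smul, Matrix.mulVec_single_one]
      by_cases hr : r = i
      · subst hr; simp [Matrix.col]
      · simp [Matrix.col, hr, h r i hr]
    have hinj : Function.Injective fun v => M.1 *ᵥ v := by
      intro v w hvw
      have h1 := congrArg (fun x => (M⁻¹).1 *ᵥ x) hvw
      simpa [Matrix.mulVec_mulVec, show (M⁻¹).1 * M.1 = 1 from
        congrArg Subtype.val (inv_mul_cancel M)] using h1
    intro v
    refine ⟨hmap v, fun hv => ?_⟩
    have hsurj : Function.Surjective fun w : S => (⟨M.1 *ᵥ w.1, hmap w.1 w.2⟩ : S) :=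
      Finite.injective_iff_surjective.1 fun a b hab => Subtype.ext (hinj (congrArg Subtype.val hab))
    obtain ⟨w, hw⟩ := hsurj ⟨_, hv⟩
    rw [← hinj (congrArg Subtype.val hw)]
    exact w.2

theorem diagonal_mem_sp {d : Fin m ⊕ Fin m → F} (hd : ∀ x, d x * d x.swap = 1) :
    Matrix.diagonal d ∈ symplecticGroup (Fin m) F := by
  rw [SymplecticGroup.mem_iff']
  ext x y
  rw [monomial_sandwich (M := Matrix.diagonal d) (τ := id) (fun r c h => Matrix.diagonal_apply_ne _ h)]
  simp only [id, Matrix.diagonal_apply_eq]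
  by_cases hJ : Matrix.J (Fin m) F x y = 0
  · simp [hJ]
  · obtain rfl := J_eq_zero_of_ne hJ
    rw [mul_comm (d x), mul_assoc, hd x, mul_one]

/-- A diagonal symplectic matrix. -/
def diagSp (d : Fin m ⊕ Fin m → F) (hd : ∀ x, d x * d x.swap = 1) :
    Matrix.symplecticGroup (Fin m) F := ⟨Matrix.diagonal d, diagonal_mem_sp hd⟩

theorem diag_prod [Finite F] {t : Matrix.symplecticGroup (Fin m) F} (ht : t ∈ torus F m)
    (x : Fin m ⊕ Fin m) : t.1 x x * t.1 x.swap x.swap = 1 := by
  have h1 := congrFun (congrFun (SymplecticGroup.mem_iff'.1 t.2) x) x.swap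
  rw [monomial_sandwich (τ := id) (fun r c h => mem_torus_iff.1 ht r c h)] at h1
  simp only [id] at h1
  refine mul_right_cancel₀ (J_swap_ne_zero (F := F) x) ?_
  rw [one_mul, mul_right_comm, h1]

theorem torus_eq_diagonal [Finite F] {t : Matrix.symplecticGroup (Fin m) F} (ht : t ∈ torus F m) :
    t.1 = Matrix.diagonal fun x => t.1 x x := by
  ext r c
  by_cases h : r = c
  · subst h; simp
  · rw [Matrix.diagonal_apply_ne _ h, mem_torus_iff.1 ht r c h]

theorem exists_sep [Fintype F] (hq : 4 ≤ Fintype.card F) {x y : Fin m ⊕ Fin m} (hxy : x ≠ y) :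
    ∃ t ∈ torus F m, t.1 x x ≠ t.1 y y := by
  classical
  obtain ⟨g, hg⟩ := IsCyclic.exists_ofOrder_eq_natCard (α := Fˣ)
  rw [Nat.card_eq_fintype_card, Fintype.card_units] at hg
  have hg2 : g ^ 2 ≠ 1 := fun h => by
    have := Nat.le_of_dvd (by norm_num) (orderOf_dvd_of_pow_eq_one h)
    omega
  have hsw : x.swap ≠ x := by cases x <;> simp
  let d : Fin m ⊕ Fin m → F := fun z =>
    if z = x then (g : F) else if z = x.swap then (g⁻¹ : Fˣ) else 1
  have hd : ∀ z, d z * d z.swap = 1 := by
    intro z
    by_cases h1 : z = x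
    · subst h1
      simp [d, hsw]
    · by_cases h2 : z = x.swap
      · subst h2
        simp [d, hsw]
      · have h3 : z.swap ≠ x := fun h => h2 (by rw [← h, Sum.swap_swap])
        have h4 : z.swap ≠ x.swap := fun h => h1 (by
          have := congrArg Sum.swap h
          rwa [Sum.swap_swap, Sum.swap_swap] at this)
        simp [d, h1, h2, h3, h4]
  refine ⟨diagSp d hd, mem_torus_iff.2 fun r c h => Matrix.diagonal_apply_ne _ h, ?_⟩
  intro h
  simp only [diagSp, Matrix.diagonal_apply_eq, d, if_pos] at h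
  rw [if_neg hxy.symm] at h
  split_ifs at h
  · apply hg2
    have h' : g = g⁻¹ := Units.ext h
    rw [sq]
    exact mul_eq_one_iff_eq_inv.2 h'
  · exact hg2 (by rw [Units.val_eq_one.1 h, one_pow])

/-- Signed permutations with scalars. -/
abbrev Data (F : Type*) [Field F] (m : ℕ) := Equiv.Perm (Fin m) × (Fin m → Bool) × (Fin m → Fˣ)

/-- The permutation of the axes. -/
def dPos (D : Data F m) : Fin m ⊕ Fin m → Fin m ⊕ Fin m
  | .inl i => if D.2.1 i then .inr (D.1 i) else .inl (D.1 i)
  | .inr i => if D.2.1 i then .inl (D.1 i) else .inr (D.1 i)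

/-- The scalars. -/
def dVal (D : Data F m) : Fin m ⊕ Fin m → F
  | .inl i => (D.2.2 i : F)
  | .inr i => if D.2.1 i then -((D.2.2 i)⁻¹ : Fˣ) else ((D.2.2 i)⁻¹ : Fˣ)

/-- The monomial matrix. -/
def dMat (D : Data F m) : Matrix (Fin m ⊕ Fin m) (Fin m ⊕ Fin m) F :=
  Matrix.of fun r c => if r = dPos D c then dVal D c else 0

theorem dPos_swap (D : Data F m) (x : Fin m ⊕ Fin m) : dPos D x.swap = (dPos D x).swap := by
  rcases x with i | i <;> by_cases h : D.2.1 i <;> simp [dPos, h]

theorem dPos_injective (D : Data F m) : Function.Injective (dPos D) := by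
  intro x y h
  rcases x with i | i <;> rcases y with j | j <;> simp only [dPos] at h <;>
    cases hi : D.2.1 i <;> cases hj : D.2.1 j <;> simp [hi, hj] at h <;> (subst h; simp_all)

theorem dVal_ne_zero (D : Data F m) (x : Fin m ⊕ Fin m) : dVal D x ≠ 0 := by
  rcases x with i | i <;> by_cases h : D.2.1 i <;> simp [dVal, h]

theorem dMat_mem (D : Data F m) : dMat D ∈ symplecticGroup (Fin m) F := by
  rw [SymplecticGroup.mem_iff']
  ext x y
  rw [monomial_sandwich (τ := dPos D) (fun r c h => by simp [dMat, h])]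
  rcases x with i | i <;> rcases y with j | j <;> by_cases hij : i = j <;>
    (try subst hij) <;> cases hi : D.2.1 i <;> (try cases hj : D.2.1 j) <;>
    simp_all [dMat, dPos, dVal, Matrix.J, Matrix.one_apply]


/-- Weyl group of type C_m: for q ≥ 4 the diagonal matrices of Sp_2m(q) form a torus T ≅ (C_(q−1))^m (the elements stabilising every coordinate axis), and the normaliser of T in Sp_2m(q) has order 2^m · m! · (q − 1)^m. -/
theorem result {F : Type*} [Field F] [Fintype F] {q : ℕ} (hF : Fintype.card F = q) (hq : 4 ≤ q) (m : ℕ) : Nat.card ↥(Subgroup.normalizer (⨅ i : Fin m ⊕ Fin m, Cfsg.stabilizing (Cfsg.spToMat m F) ((Submodule.span F {(Pi.single i (1 : F) : Fin m ⊕ Fin m → F)} : Submodule F (Fin m ⊕ Fin m → F)) : Set (Fin m ⊕ Fin m → F)) : Set (Matrix.symplecticGroup (Fin m) F))) = 2 ^ m * Nat.factorial m * (q - 1) ^ m := by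
  classical
  subst hF
  simp only [Set.iInf_eq_iInter, ← Subgroup.coe_iInf]
  change Nat.card ↥(Subgroup.normalizer (torus F m : Set (Matrix.symplecticGroup (Fin m) F))) = _
  let f : Data F m → ↥(Subgroup.normalizer (torus F m : Set (Matrix.symplecticGroup (Fin m) F))) :=
    fun D => ⟨⟨dMat D, dMat_mem D⟩, by
      rw [Subgroup.mem_normalizer_iff_map_conj_eq]
      refine Subgroup.eq_of_le_of_card_ge ?_ (le_of_eq ?_)
      · rintro _ ⟨t, ht, rfl⟩
        let e := Equiv.ofBijective (dPos D) (Finite.injective_iff_bijective.1 (dPos_injective D))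
        have hes : ∀ x, e.symm x.swap = (e.symm x).swap := fun x => by
          rw [Equiv.symm_apply_eq]
          change _ = dPos D _
          rw [dPos_swap]
          exact congrArg Sum.swap (e.apply_symm_apply x).symm
        let t' := diagSp (fun x => t.1 (e.symm x) (e.symm x))
          (fun x => by rw [hes]; exact diag_prod ht _)
        have h1 : (⟨dMat D, dMat_mem D⟩ : Matrix.symplecticGroup (Fin m) F) * t =
            t' * ⟨dMat D, dMat_mem D⟩ := by
          apply Subtype.ext
          change dMat D * t.1 = Matrix.diagonal _ * dMat D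
          conv_lhs => rw [torus_eq_diagonal ht]
          ext r c
          rw [Matrix.mul_diagonal, Matrix.diagonal_mul]
          simp only [dMat, Matrix.of_apply]
          split_ifs with h
          · subst h
            rw [show e.symm (dPos D c) = c from e.symm_apply_apply c, mul_comm]
          · simp
        change _ * t * _⁻¹ ∈ torus F m
        rw [h1, mul_inv_cancel_right]
        exact mem_torus_iff.2 fun r c h => Matrix.diagonal_apply_ne _ h
      · exact (Subgroup.card_map_of_injective (MulEquiv.injective _)).symm⟩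
  have hval : ∀ (D : Data F m) r c, (f D).1.1 r c = if r = dPos D c then dVal D c else 0 :=
    fun D r c => rfl
  have hinj : Function.Injective f := by
    intro D E h
    have h1 : ∀ c, dPos D c = dPos E c ∧ dVal D c = dVal E c := by
      intro c
      have h2 := congrFun (congrFun (congrArg (fun z => z.1.1) h) (dPos D c)) c
      simp only [hval, if_pos] at h2
      by_cases h3 : dPos D c = dPos E c
      · rw [if_pos h3] at h2
        exact ⟨h3, h2⟩
      · rw [if_neg h3] at h2
        exact absurd h2 (dVal_ne_zero D c)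
    have hs : D.2.1 = E.2.1 := funext fun i => by
      have := (h1 (.inl i)).1
      cases hi : D.2.1 i <;> cases hj : E.2.1 i <;> simp [dPos, hi, hj] at this ⊢
    refine Prod.ext (Equiv.ext fun i => ?_) (Prod.ext hs (funext fun i => Units.ext (h1 (.inl i)).2))
    have := (h1 (.inl i)).1
    cases hi : E.2.1 i <;> simpa [dPos, hs, hi] using this
  have hsurj : Function.Surjective f := by
    rintro ⟨M, hM⟩
    have hcol : ∀ c, ∃ r, M.1 r c ≠ 0 := by
      intro c
      by_contra h
      push Not at h
      have h2 : M.1 *ᵥ Pi.single c 1 = 0 := by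
        funext r
        simp [Matrix.mulVec_single_one, Matrix.col, h r]
      have h3 := congrArg (fun v => (M⁻¹).1 *ᵥ v) h2
      rw [Matrix.mulVec_mulVec, show (M⁻¹).1 * M.1 = 1 from
        congrArg Subtype.val (inv_mul_cancel M), Matrix.one_mulVec, Matrix.mulVec_zero] at h3
      simpa using congrFun h3 c
    choose τ hτ using hcol
    have huniq : ∀ r c, r ≠ τ c → M.1 r c = 0 := by
      intro r c hr
      by_contra hne
      obtain ⟨t, ht, hts⟩ := exists_sep hq hr
      have ht' : M⁻¹ * t * M ∈ torus F m := (Subgroup.mem_normalizer_iff''.1 hM t).1 ht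
      have key : ∀ r', M.1 r' c ≠ 0 → t.1 r' r' = (M⁻¹ * t * M).1 c c := by
        intro r' hr'
        have h1 : (M * (M⁻¹ * t * M)).1 = (t * M).1 := by
          rw [← mul_assoc, ← mul_assoc, mul_inv_cancel, one_mul]
        change M.1 * (M⁻¹ * t * M).1 = t.1 * M.1 at h1
        rw [torus_eq_diagonal ht', torus_eq_diagonal ht] at h1
        have h2 := congrFun (congrFun h1 r') c
        rw [Matrix.mul_diagonal, Matrix.diagonal_mul, mul_comm] at h2
        exact (mul_right_cancel₀ hr' h2).symm
      exact hts ((key r hne).trans (key _ (hτ c)).symm)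
    have hJ : ∀ x y, M.1 (τ x) x * Matrix.J (Fin m) F (τ x) (τ y) * M.1 (τ y) y =
        Matrix.J (Fin m) F x y := fun x y => by
      rw [← monomial_sandwich huniq, SymplecticGroup.mem_iff'.1 M.2]
    have hswap : ∀ x, τ x.swap = (τ x).swap := by
      intro x
      apply J_eq_zero_of_ne (F := F)
      intro h0
      apply J_swap_ne_zero (F := F) x
      rw [← hJ x x.swap, h0, mul_zero, zero_mul]
    have hτinj : Function.Injective τ := by
      intro x y hxy
      have h1 := hJ y x.swap
      rw [← hxy, hswap] at h1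
      have h2 : Matrix.J (Fin m) F y x.swap ≠ 0 := by
        rw [← h1]
        exact mul_ne_zero (mul_ne_zero (by rw [hxy]; exact hτ y) (J_swap_ne_zero _))
          (by rw [← hswap]; exact hτ _)
      have h3 := congrArg Sum.swap (J_eq_zero_of_ne h2)
      rwa [Sum.swap_swap, Sum.swap_swap] at h3
    have hπ : Function.Injective fun i => Sum.elim id id (τ (.inl i)) := by
      intro i j hij
      have h : τ (.inl i) = τ (.inl j) ∨ τ (.inl i) = τ (.inr j) := by
        rw [show (Sum.inr j : Fin m ⊕ Fin m) = (Sum.inl j : Fin m ⊕ Fin m).swap from rfl, hswap]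
        revert hij
        simp only
        generalize τ (.inl i) = a
        generalize τ (.inl j) = b
        rcases a with a | a <;> rcases b with b | b <;> simp
      rcases h with h | h
      · exact Sum.inl_injective (hτinj h)
      · exact absurd (hτinj h) (by simp)
    let D : Data F m := (Equiv.ofBijective _ (Finite.injective_iff_bijective.1 hπ),
      fun i => (τ (.inl i)).isRight, fun i => Units.mk0 _ (hτ (.inl i)))
    have hl : ∀ i, dPos D (.inl i) = τ (.inl i) := by
      intro i
      simp only [dPos, D, Equiv.ofBijective_apply]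
      cases τ (.inl i) <;> simp
    have hpos : ∀ c, dPos D c = τ c := by
      rintro (i | i)
      · exact hl i
      · rw [show (Sum.inr i : Fin m ⊕ Fin m) = (Sum.inl i : Fin m ⊕ Fin m).swap from rfl,
          dPos_swap, hswap, hl]
    refine ⟨D, Subtype.ext (Subtype.ext (Matrix.ext fun r c => ?_))⟩
    rw [hval, hpos]
    split_ifs with h
    · subst h
      rcases c with i | i
      · rfl
      · have h1 := hJ (.inl i) (.inr i)
        rw [show (Sum.inr i : Fin m ⊕ Fin m) = (Sum.inl i : Fin m ⊕ Fin m).swap from rfl, hswap] at h1 ⊢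
        change dVal D (.inr i) = _
        have h0 := hτ (.inl i)
        generalize hz : M.1 (τ (.inl i)).swap (Sum.inl i : Fin m ⊕ Fin m).swap = z at h1 ⊢
        simp only [dVal, D, Units.val_inv_eq_inv_val, Units.val_mk0]
        generalize M.1 (τ (.inl i)) (.inl i) = a at h0 h1 ⊢
        obtain ⟨x, hx⟩ : ∃ x, τ (.inl i) = x := ⟨_, rfl⟩
        simp only [hx] at h1 ⊢
        rcases x with x | x <;> simp [Matrix.J, Matrix.one_apply] at h1 ⊢ <;>
          field_simp <;> linear_combination -h1
    · exact (huniq r c h).symm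
  rw [← Nat.card_congr (Equiv.ofBijective f ⟨hinj, hsurj⟩), Nat.card_prod, Nat.card_prod,
    Nat.card_perm, Nat.card_fun, Nat.card_fun, Nat.card_units]
  simp [Nat.card_eq_fintype_card]
  ring

end Cfsg.Agent.S0777
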