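import Cfsg.Statements.S0778
import Cfsg.Agent.Lib.Classical.SympMatrix

set_option autoImplicit false
open Cfsg

namespace Cfsg.Agent.S0778

/-- The elements of Sp_2m(F) stabilising both W = ⟨e_1..e_m⟩ and U = ⟨f_1..f_m⟩ form a subgroup isomorphic to GL_m(F) (block-diagonal matrices diag(X, X^(−ᵀ)) up to the sign convention of J), for m ≥ 1 or m = 0 alike. -/
theorem result {F : Type*} [Field F] (m : ℕ) : Nonempty (↥(Cfsg.stabilizing (Cfsg.spToMat m F) {v : Fin m ⊕ Fin m → F | ∀ i : Fin m, v (Sum.inr i) = 0} ⊓ Cfsg.stabilizing (Cfsg.spToMat m F) {v : Fin m ⊕ Fin m → F | ∀ i : Fin m, v (Sum.inl i) = 0}) ≃* Matrix.GeneralLinearGroup (Fin m) F) := by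
  refine ⟨(MulEquiv.symm ?_)⟩
  have key : ∀ g : Matrix.GeneralLinearGroup (Fin m) F,
      Matrix.fromBlocks (g : Matrix (Fin m) (Fin m) F) 0 0 ((g⁻¹ : Matrix.GeneralLinearGroup (Fin m) F) : Matrix (Fin m) (Fin m) F).transpose ∈
        Matrix.symplecticGroup (Fin m) F := by
    intro g
    rw [SymplecticGroup.mem_iff]
    simp [Matrix.J, Matrix.fromBlocks_transpose, Matrix.fromBlocks_multiply, ← Matrix.transpose_mul, ← Units.val_mul]
  have hmem : ∀ g : Matrix.GeneralLinearGroup (Fin m) F,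
      (⟨_, key g⟩ : Matrix.symplecticGroup (Fin m) F) ∈
        Cfsg.stabilizing (Cfsg.spToMat m F) {v : Fin m ⊕ Fin m → F | ∀ i : Fin m, v (Sum.inr i) = 0} ⊓
          Cfsg.stabilizing (Cfsg.spToMat m F) {v : Fin m ⊕ Fin m → F | ∀ i : Fin m, v (Sum.inl i) = 0} := by
    intro g
    have hinj : ∀ M : Matrix.GeneralLinearGroup (Fin m) F, Function.Injective ((M : Matrix (Fin m) (Fin m) F).mulVec) := fun M =>
      Matrix.mulVec_injective_iff_isUnit.2 M.isUnit
    have hz : ∀ (M : Matrix (Fin m) (Fin m) F) (_ : Function.Injective M.mulVec) (x : Fin m → F), (∀ i, x i = 0) ↔ ∀ i, M.mulVec x i = 0 := by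
      intro M hM x
      constructor
      · intro h i; rw [show x = 0 from funext h, Matrix.mulVec_zero]; rfl
      · intro h i
        rw [show x = 0 from hM ((funext h : M.mulVec x = 0).trans (Matrix.mulVec_zero M).symm)]; rfl
    have hT : Function.Injective (((g⁻¹ : Matrix.GeneralLinearGroup (Fin m) F) : Matrix (Fin m) (Fin m) F).transpose.mulVec) :=
      Matrix.mulVec_injective_iff_isUnit.2 (((Matrix.isUnit_transpose _)).2 (g⁻¹).isUnit)
    constructor <;> intro v
    · simpa [Matrix.fromBlocks_mulVec] using hz _ hT (v ∘ Sum.inr)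
    · simpa [Matrix.fromBlocks_mulVec] using hz _ (hinj g) (v ∘ Sum.inl)
  let f : Matrix.GeneralLinearGroup (Fin m) F →* ↥(Cfsg.stabilizing (Cfsg.spToMat m F) {v : Fin m ⊕ Fin m → F | ∀ i : Fin m, v (Sum.inr i) = 0} ⊓
      Cfsg.stabilizing (Cfsg.spToMat m F) {v : Fin m ⊕ Fin m → F | ∀ i : Fin m, v (Sum.inl i) = 0}) :=
    { toFun := fun g => ⟨⟨_, key g⟩, hmem g⟩
      map_one' := by
        apply Subtype.ext
        apply Subtype.ext
        simp
      map_mul' := fun a b => by
        apply Subtype.ext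
        apply Subtype.ext
        simp [Matrix.fromBlocks_multiply, ← Matrix.transpose_mul] }
  refine MulEquiv.ofBijective f ⟨?_, ?_⟩
  · intro a b h
    have h' := congrArg (fun x : ↥(Cfsg.stabilizing (Cfsg.spToMat m F) {v : Fin m ⊕ Fin m → F | ∀ i : Fin m, v (Sum.inr i) = 0} ⊓
      Cfsg.stabilizing (Cfsg.spToMat m F) {v : Fin m ⊕ Fin m → F | ∀ i : Fin m, v (Sum.inl i) = 0}) =>
        ((x : Matrix.symplecticGroup (Fin m) F) : Matrix (Fin m ⊕ Fin m) (Fin m ⊕ Fin m) F).toBlocks₁₁) h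
    exact Units.ext (by simpa [f] using h')
  · rintro ⟨⟨A, hA⟩, hW, hU⟩
    obtain ⟨P, Q, R, S, rfl⟩ : ∃ P Q R S, A = Matrix.fromBlocks P Q R S :=
      ⟨_, _, _, _, (Matrix.fromBlocks_toBlocks A).symm⟩
    have hR : R = 0 := by
      refine Matrix.ext_of_mulVec_single fun j => funext fun i => ?_
      have := (hW (Sum.elim (Pi.single j 1) 0)).1 (fun i => rfl) i
      simpa [Matrix.fromBlocks_mulVec] using this
    have hQ : Q = 0 := by
      refine Matrix.ext_of_mulVec_single fun j => funext fun i => ?_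
      have := (hU (Sum.elim 0 (Pi.single j 1))).1 (fun i => rfl) i
      simpa [Matrix.fromBlocks_mulVec] using this
    subst hR hQ
    have h := (SymplecticGroup.mem_iff).1 hA
    simp [Matrix.J, Matrix.fromBlocks_transpose, Matrix.fromBlocks_multiply, Matrix.fromBlocks_inj] at h
    have hPS : P * S.transpose = 1 := h.1
    refine ⟨⟨P, S.transpose, hPS, mul_eq_one_comm.1 hPS⟩, ?_⟩
    apply Subtype.ext
    apply Subtype.ext
    change Matrix.fromBlocks P 0 0 S.transpose.transpose = Matrix.fromBlocks P 0 0 S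
    rw [Matrix.transpose_transpose]

end Cfsg.Agent.S0778
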