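import Cfsg.Statements.S0779

set_option autoImplicit false
open Cfsg

namespace Cfsg.Agent.S0779

/-- Unitary transvections: let |F| = q², h the standard Hermitian form Σ x_i y_i^q and v ≠ 0 with h(v, v) = 0. The linear map x ↦ x + c h(x, v) v is an isometry of h if and only if c = 0 or c^(q−1) = −1. -/
theorem result {F : Type*} [Field F] [Fintype F] {q : ℕ} (hF : Fintype.card F = q ^ 2) (n : ℕ) (v : Fin n → F) (hv : v ≠ 0) (hv0 : Cfsg.hermForm n F q v v = 0) (c : F) : (∀ x y : Fin n → F, Cfsg.hermForm n F q ((Cfsg.unitaryTransvection n q v c).mulVec x) ((Cfsg.unitaryTransvection n q v c).mulVec y) = Cfsg.hermForm n F q x y) ↔ (c = 0 ∨ c ^ (q - 1) = -1) := by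
  classical
  obtain ⟨p, hchar, ⟨N, hN⟩, hp, hcard⟩ := FiniteField.card' F
  haveI := hchar
  haveI := Fact.mk hp
  haveI : ExpChar F p := ExpChar.prime hp
  obtain ⟨k, -, hk⟩ : ∃ k ≤ N, q = p ^ k := by
    refine (Nat.dvd_prime_pow hp).1 ?_
    rw [show p ^ N = q ^ 2 from hcard.symm.trans hF]
    exact dvd_pow_self q two_ne_zero
  let τ : F →+* F := iterateFrobenius F p k
  have hτ : ∀ a : F, τ a = a ^ q := fun a => by rw [hk]; exact iterateFrobenius_def ..
  have hττ : ∀ a : F, τ (τ a) = a := fun a => by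
    rw [hτ, hτ, ← pow_mul, ← pow_two, ← hF, FiniteField.pow_card]
  have hq : 1 ≤ q := hk ▸ Nat.one_le_pow _ _ hp.pos
  have herm : ∀ x y : Fin n → F, Cfsg.hermForm n F q x y = ∑ i, x i * τ (y i) := fun x y => by simp [Cfsg.hermForm, hτ]
  let H : (Fin n → F) → (Fin n → F) → F := fun x y => ∑ i, x i * τ (y i)
  have hconj : ∀ x y, τ (H x y) = H y x := fun x y => by
    simp only [H, map_sum, map_mul, hττ]
    exact Finset.sum_congr rfl fun i _ => mul_comm _ _
  have hT : ∀ x, (Cfsg.unitaryTransvection n q v c).mulVec x = x + (c * H x v) • v := fun x => by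
    rw [Cfsg.unitaryTransvection, Matrix.add_mulVec, Matrix.one_mulVec, Matrix.smul_mulVec, Matrix.vecMulVec_mulVec,
      op_smul_eq_smul, smul_smul]
    congr 2
    simp [H, dotProduct, hτ, mul_comm]
  have hv0' : H v v = 0 := by rw [← hv0, herm]
  have hexp : ∀ x y, H (x + (c * H x v) • v) (y + (c * H y v) • v) = H x y + (c + τ c) * (H x v * τ (H y v)) := by
    intro x y
    have e : ∀ a b, H (x + a • v) (y + b • v) = H x y + τ b * H x v + a * H v y + a * τ b * H v v := by
      intro a b
      simp only [H, Finset.mul_sum, ← Finset.sum_add_distrib]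
      refine Finset.sum_congr rfl fun i _ => ?_
      simp only [Pi.add_apply, Pi.smul_apply, smul_eq_mul, map_add, map_mul]
      ring
    rw [e, hv0', ← hconj y v, map_mul]
    ring
  simp only [hT, herm]
  change (∀ x y, H (x + (c * H x v) • v) (y + (c * H y v) • v) = H x y) ↔ _
  simp only [hexp, add_eq_left]
  have hc : c + τ c = 0 ↔ (c = 0 ∨ c ^ (q - 1) = -1) := by
    rw [hτ, show c ^ q = c * c ^ (q - 1) by rw [← pow_succ', Nat.sub_add_cancel hq],
      show c + c * c ^ (q - 1) = c * (1 + c ^ (q - 1)) by ring, mul_eq_zero, add_eq_zero_iff_neg_eq, eq_comm (a := (-1 : F))]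
  rw [← hc]
  constructor
  · intro h
    obtain ⟨i, hi⟩ := Function.ne_iff.1 hv
    have hx : H (Pi.single i 1) v ≠ 0 := by
      simpa [H, Pi.single_apply, Finset.sum_ite_eq', map_eq_zero] using hi
    exact (mul_eq_zero.1 (h (Pi.single i 1) (Pi.single i 1))).resolve_right
      (mul_ne_zero hx ((map_ne_zero τ).2 hx))
  · intro h x y
    rw [h, zero_mul]

end Cfsg.Agent.S0779
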