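import Cfsg.Statements.S0780
import Cfsg.Agent.Lib.Classical.HermMatrixSimple

set_option autoImplicit false
open Cfsg CfsgLib.Classical

namespace Cfsg.Agent.S0780

/-- Generation of SU_n(q), n ≥ 3, (n, q) ≠ (3, 2), by unitary transvections: the subgroup generated by the elements whose matrix is x ↦ x + c h(x, v) v with v isotropic is all of SU_n(q). -/
theorem result {F : Type*} [Field F] [Fintype F] {q : ℕ} (hF : Fintype.card F = q ^ 2) (n : ℕ) (hn : 3 ≤ n) (h32 : ¬ (n = 3 ∧ q = 2)) : Subgroup.closure {A : ↥(Cfsg.SU n F q) | ∃ (v : Fin n → F) (c : F), Cfsg.hermForm n F q v v = 0 ∧ ((A : Matrix.SpecialLinearGroup (Fin n) F) : Matrix (Fin n) (Fin n) F) = Cfsg.unitaryTransvection n q v c} = ⊤ := by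
  obtain ⟨σ, hσ, hc⟩ := exists_frob hF
  have hB := stdHerm_isHermitian hc n
  have hN := stdHerm_sepRight (σ := σ) n
  have hq := two_le_of_card_sq hF
  rw [eq_top_iff]
  intro A _
  have hA : (suEquiv hσ A).1 ∈ tGroup (stdHerm σ n) := by
    rw [← hB.sIsom_eq_tGroup hN fun _ => ?_]
    · exact (suEquiv hσ A).2
    · rw [Module.finrank_fin_fun]
      by_cases h4 : 4 ≤ n
      · exact Or.inr h4
      · exact Or.inl (bigFixed_of_le hF hσ hc (by omega))
  set S := {A : ↥(Cfsg.SU n F q) | ∃ (v : Fin n → F) (c : F), Cfsg.hermForm n F q v v = 0 ∧ ((A : Matrix.SpecialLinearGroup (Fin n) F) : Matrix (Fin n) (Fin n) F) = Cfsg.unitaryTransvection n q v c}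
  have hle : tGroup (stdHerm σ n) ≤
      (Subgroup.closure S).map ((sIsom (stdHerm σ n)).subtype.comp (suEquiv hσ).toMonoidHom) := by
    refine (Subgroup.closure_le _).2 ?_
    rintro g ⟨v, c, hg⟩
    obtain ⟨B, hB', h1, h2⟩ := exists_SU_transvection hσ (g := ⟨g, MonoidHom.mem_ker.2 (hB.idet_uTv hg)⟩) hg
    exact ⟨B, Subgroup.subset_closure ⟨v, c, h1, h2⟩, congrArg Subtype.val hB'⟩
  obtain ⟨B, hB', e⟩ := hle hA
  have : B = A := (suEquiv hσ).injective (Subtype.ext e)
  exact this ▸ hB'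

end Cfsg.Agent.S0780
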