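import Cfsg.Statements.S0781
import Cfsg.Agent.Lib.Classical.HermMatrixSimple

set_option autoImplicit false
open Cfsg CfsgLib.Classical

namespace Cfsg.Agent.S0781

/-- In SU_n(q) with n ≥ 4, or n = 3 and q > 2, every element whose matrix is a unitary transvection x ↦ x + c h(x, v) v (v isotropic) is a commutator ⁅B, C⁆ of two elements of SU_n(q). -/
theorem result {F : Type*} [Field F] [Fintype F] {q : ℕ} (hF : Fintype.card F = q ^ 2) (n : ℕ) (hn : 4 ≤ n ∨ (n = 3 ∧ 3 ≤ q)) (A : ↥(Cfsg.SU n F q)) (v : Fin n → F) (c : F) (hv0 : Cfsg.hermForm n F q v v = 0) (hA : ((A : Matrix.SpecialLinearGroup (Fin n) F) : Matrix (Fin n) (Fin n) F) = Cfsg.unitaryTransvection n q v c) : A ∈ commutatorSet ↥(Cfsg.SU n F q) := by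
  obtain ⟨σ, hσ, hc⟩ := exists_frob hF
  have hB := stdHerm_isHermitian hc n
  have hN := stdHerm_sepRight (σ := σ) n
  obtain ⟨c', hc', hA'⟩ : ∃ c', c' + σ c' = 0 ∧ (A.1 : Matrix (Fin n) (Fin n) F) = Cfsg.unitaryTransvection n q v c' := by
    rcases trace_zero_of_eq hσ hc hv0 hA with rfl | h
    · exact ⟨0, by simp, by rw [hA]; simp [Cfsg.unitaryTransvection]⟩
    · exact ⟨c, h, hA⟩
  have hd : BigFixed σ ∧ 3 ≤ Module.finrank F (Fin n → F) ∨ 4 ≤ Module.finrank F (Fin n → F) := by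
    rw [Module.finrank_fin_fun]
    rcases hn with h | ⟨h, hq⟩
    · exact Or.inr h
    · exact Or.inl ⟨bigFixed_of_le hF hσ hc hq, by omega⟩
  obtain ⟨x, y, hxy⟩ := hB.uTv_mem_commutatorSet hN hd (suEquiv hσ A) ((isUTv_suEquiv_iff hσ).2 ⟨hv0, hc', hA'⟩)
  refine ⟨(suEquiv hσ).symm x, (suEquiv hσ).symm y, ?_⟩
  rw [← map_commutatorElement, hxy, MulEquiv.symm_apply_apply]

end Cfsg.Agent.S0781
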