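import Cfsg.Statements.S0783
import Cfsg.Agent.Lib.Classical.HermMatrix

set_option autoImplicit false
open Cfsg

namespace Cfsg.Agent.S0783

/-- PGU_n(q)/PSU_n(q) is cyclic of order (n, q+1): for n ≥ 2 and |F| = q² there is a surjective homomorphism from GU_n(q) onto the cyclic group of order gcd(n, q + 1) whose kernel is generated by the determinant-one elements together with the centre. -/
theorem result {F : Type*} [Field F] [Fintype F] {q : ℕ} (hF : Fintype.card F = q ^ 2) (n : ℕ) (hn : 2 ≤ n) : ∃ φ : ↥(Cfsg.GU n F q) →* Multiplicative (ZMod (Nat.gcd n (q + 1))), Function.Surjective φ ∧ φ.ker = (Matrix.GeneralLinearGroup.det : Matrix.GeneralLinearGroup (Fin n) F →* Fˣ).ker.subgroupOf (Cfsg.GU n F q) ⊔ Subgroup.center ↥(Cfsg.GU n F q) := by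
  classical
  obtain ⟨σ, hσ, hc⟩ := CfsgLib.Classical.exists_frob hF
  set K := (CfsgLib.Classical.normHom σ).ker with hK
  have hKc : Nat.card K = q + 1 := (CfsgLib.Classical.frob_cards hF hσ hc).2
  set d := Nat.gcd n (q + 1) with hd
  have : NeZero d := ⟨(Nat.gcd_pos_of_pos_left _ (by omega)).ne'⟩
  let e := zmodCyclicMulEquiv (inferInstance : IsCyclic K)
  let cast : Multiplicative (ZMod (Nat.card K)) →* Multiplicative (ZMod d) :=
    (ZMod.castHom (by rw [hKc]; exact Nat.gcd_dvd_right _ _) (ZMod d)).toAddMonoidHom.toMultiplicative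
  let ψ : K →* Multiplicative (ZMod d) := cast.comp e.symm.toMonoidHom
  have hψ : Function.Surjective ψ := by
    intro y
    obtain ⟨x, hx⟩ := ZMod.castHom_surjective
      (show d ∣ Nat.card K by rw [hKc]; exact Nat.gcd_dvd_right _ _) (Multiplicative.toAdd y)
    refine ⟨e (Multiplicative.ofAdd x), ?_⟩
    change cast (e.symm (e (Multiplicative.ofAdd x))) = y
    rw [MulEquiv.symm_apply_apply]
    exact congrArg Multiplicative.ofAdd hx
  have hpow : (powMonoidHom n : K →* K).range = ψ.ker := by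
    refine Subgroup.eq_of_le_of_card_ge ?_ (le_of_eq ?_)
    · rintro _ ⟨x, rfl⟩
      obtain ⟨k, hk⟩ := Nat.gcd_dvd_left n (q + 1)
      have h1 : ψ x ^ d = 1 := by
        have := pow_card_eq_one' (x := ψ x)
        rwa [Nat.card_congr Multiplicative.toAdd, Nat.card_zmod] at this
      rw [MonoidHom.mem_ker, powMonoidHom_apply, map_pow]
      exact (congrArg (ψ x ^ ·) hk).trans (by simp only [pow_mul]; rw [h1, one_pow])
    · have h1 := (powMonoidHom n : K →* K).ker.card_mul_index
      rw [Subgroup.index_ker, IsCyclic.card_powMonoidHom_ker, hKc, Nat.gcd_comm] at h1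
      have h2 := ψ.ker.card_mul_index
      rw [Subgroup.index_ker, MonoidHom.range_eq_top.2 hψ, Subgroup.card_top, Nat.card_congr Multiplicative.toAdd,
        Nat.card_zmod, hKc, ← h1, mul_comm] at h2
      exact Nat.eq_of_mul_eq_mul_left (Nat.pos_of_ne_zero (NeZero.ne d)) h2
  refine ⟨ψ.comp (CfsgLib.Classical.guDet hσ), hψ.comp (CfsgLib.Classical.guDet_surjective hσ (by omega)), ?_⟩
  refine le_antisymm (fun g hg => ?_) (sup_le ?_ ?_)
  · have hg' : CfsgLib.Classical.guDet hσ g ∈ (powMonoidHom n : K →* K).range := by rw [hpow]; exact hg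
    obtain ⟨x, hx⟩ := hg'
    let s : Cfsg.GU n F q := ⟨CfsgLib.Classical.diagGL fun _ => (x : Fˣ),
      CfsgLib.Classical.diagGL_mem_GU hσ _ fun _ => x.2⟩
    have hs : s ∈ Subgroup.center (Cfsg.GU n F q) := by
      refine Subgroup.mem_center_iff.2 fun A => Subtype.ext (Units.ext ?_)
      change (A.1 : Matrix (Fin n) (Fin n) F) * Matrix.diagonal (fun _ => ((x : Fˣ) : F)) =
        Matrix.diagonal (fun _ => ((x : Fˣ) : F)) * (A.1 : Matrix (Fin n) (Fin n) F)
      exact (Matrix.scalar_commute _ (fun r => Commute.all _ r) _).symm.eq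
    rw [show g = g * s⁻¹ * s by group]
    refine mul_mem (Subgroup.mem_sup_left ?_) (Subgroup.mem_sup_right hs)
    rw [Subgroup.mem_subgroupOf, MonoidHom.mem_ker, Subgroup.coe_mul, Subgroup.coe_inv, map_mul, map_inv,
      mul_inv_eq_one]
    have h1 : Matrix.GeneralLinearGroup.det (g : Matrix.GeneralLinearGroup (Fin n) F) = ((x : Fˣ)) ^ n :=
      (congrArg Subtype.val hx).symm.trans (by simp)
    rw [h1]
    change _ = Matrix.GeneralLinearGroup.det (CfsgLib.Classical.diagGL fun _ => (x : Fˣ))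
    rw [CfsgLib.Classical.diagGL_det, Finset.prod_const, Finset.card_univ, Fintype.card_fin]
  · intro g hg
    have h1 : CfsgLib.Classical.guDet hσ g = 1 := (CfsgLib.Classical.guDet_eq_one_iff hσ g).2 hg
    rw [MonoidHom.mem_ker, MonoidHom.comp_apply, h1, map_one]
  · intro g hg
    obtain ⟨c, hc'⟩ := CfsgLib.Classical.gu_center_scalar hF hn hg
    have hdet : ((CfsgLib.Classical.guDet hσ g : Fˣ) : F) = c ^ n := by
      change (g.1 : Matrix (Fin n) (Fin n) F).det = _
      rw [hc', Matrix.det_smul, Matrix.det_one, Fintype.card_fin, mul_one]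
    have hc0 : c ≠ 0 := fun h0 => by
      have := Units.ne_zero (CfsgLib.Classical.guDet hσ g : Fˣ)
      rw [hdet, h0, zero_pow (by omega)] at this
      exact this rfl
    have hcK : Units.mk0 c hc0 ∈ K := by
      refine MonoidHom.mem_ker.2 (Units.ext ?_)
      have h := (CfsgLib.Classical.mem_GU_iff hσ).1 g.2 (Pi.single (⟨0, by omega⟩ : Fin n) 1)
        (Pi.single (⟨0, by omega⟩ : Fin n) 1)
      rw [hc', Matrix.smul_mulVec, Matrix.one_mulVec, map_smul, map_smulₛₗ, LinearMap.smul_apply,
        CfsgLib.Classical.stdHerm_single, Pi.single_eq_same, smul_eq_mul, smul_eq_mul, mul_one] at h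
      exact h
    rw [MonoidHom.mem_ker, MonoidHom.comp_apply, ← MonoidHom.mem_ker, ← hpow]
    exact ⟨⟨Units.mk0 c hc0, hcK⟩, Subtype.ext (Units.ext (by simp [hdet]))⟩

end Cfsg.Agent.S0783
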