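import Cfsg.Statements.S0785
import Cfsg.Agent.Lib.Classical.QuadBasic

set_option autoImplicit false
open Cfsg

namespace Cfsg.Agent.S0785

/-- det(I) = {±1}: for a quadratic form on F^n whose polar form is non-degenerate, every element of the isometry group has determinant 1 or −1, and as soon as Q takes a non-zero value some isometry has determinant −1. -/
theorem result {F : Type*} [Field F] {n : ℕ} (Q : QuadraticForm F (Fin n → F)) (hQ : (QuadraticMap.polarBilin Q).Nondegenerate) : (∀ g : ↥(Cfsg.isometryGroup F ⇑Q), ((g : Matrix.GeneralLinearGroup (Fin n) F) : Matrix (Fin n) (Fin n) F).det = 1 ∨ ((g : Matrix.GeneralLinearGroup (Fin n) F) : Matrix (Fin n) (Fin n) F).det = -1) ∧ ((∃ v, Q v ≠ 0) → ∃ g : ↥(Cfsg.isometryGroup F ⇑Q), ((g : Matrix.GeneralLinearGroup (Fin n) F) : Matrix (Fin n) (Fin n) F).det = -1) := by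
  constructor
  · intro g
    set A : Matrix (Fin n) (Fin n) F := ((g : Matrix.GeneralLinearGroup (Fin n) F) : Matrix (Fin n) (Fin n) F) with hA
    have hg := (CfsgLib.Classical.mem_isometryGroup_iff (⇑Q) (g : Matrix.GeneralLinearGroup (Fin n) F)).1 g.2
    set M := LinearMap.BilinForm.toMatrix' (QuadraticMap.polarBilin Q) with hM
    have hcomp : LinearMap.BilinForm.comp (QuadraticMap.polarBilin Q) (Matrix.toLin' A) (Matrix.toLin' A) =
        QuadraticMap.polarBilin Q := by
      apply LinearMap.ext fun x => LinearMap.ext fun y => ?_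
      simp only [LinearMap.BilinForm.comp_apply, Matrix.toLin'_apply, QuadraticMap.polarBilin_apply_apply,
        QuadraticMap.polar, ← Matrix.mulVec_add, hA, hg]
    have h := congrArg LinearMap.BilinForm.toMatrix' hcomp
    rw [LinearMap.BilinForm.toMatrix'_comp, LinearMap.toMatrix'_toLin'] at h
    have hdet : M.det ≠ 0 := by
      rw [← LinearMap.BilinForm.nondegenerate_toBilin'_iff_det_ne_zero, hM, Matrix.toBilin'_toMatrix']
      exact hQ
    have h2 := congrArg Matrix.det h
    rw [Matrix.det_mul, Matrix.det_mul, Matrix.det_transpose] at h2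
    refine mul_self_eq_one_iff.1 (mul_left_cancel₀ hdet ?_)
    linear_combination h2
  · rintro ⟨v, hv⟩
    have hd := CfsgLib.Classical.det_reflection Q v hv
    refine ⟨⟨Matrix.GeneralLinearGroup.mkOfDetNeZero (Cfsg.reflectionMatrix (⇑Q) v) (by rw [hd]; norm_num), ?_⟩, hd⟩
    exact (CfsgLib.Classical.mem_isometryGroup_iff _ _).2 fun x => CfsgLib.Classical.reflection_preserves Q v hv x

end Cfsg.Agent.S0785
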