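import Cfsg.Statements.S0786
import Cfsg.Agent.Lib.Classical.OrthApps

set_option autoImplicit false
open Cfsg

namespace Cfsg.Agent.S0786

/-- Generation by reflections: if F is finite, Q is a quadratic form on F^n with non-degenerate polar form, and (|F|, n) ≠ (2, 4), then the isometry group of Q is generated by the reflections r_v, Q(v) ≠ 0. -/
theorem result {F : Type*} [Field F] [Fintype F] {n : ℕ} (Q : QuadraticForm F (Fin n → F)) (hQ : (QuadraticMap.polarBilin Q).Nondegenerate) (h : Fintype.card F ≠ 2 ∨ n ≠ 4) : Subgroup.closure {g : ↥(Cfsg.isometryGroup F ⇑Q) | ∃ v : Fin n → F, Q v ≠ 0 ∧ ((g : Matrix.GeneralLinearGroup (Fin n) F) : Matrix (Fin n) (Fin n) F) = Cfsg.reflectionMatrix ⇑Q v} = ⊤ := by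
  classical
  have h4 : CfsgLib.Orth.Good F (Fin n → F) := CfsgLib.Orth.good_of (by rw [Module.finrank_fin_fun]; exact h)
  let e := CfsgLib.Orth.toOrth (Qf := ⇑Q) Q (fun _ => rfl)
  rw [eq_top_iff]
  intro g _
  have hg : e g ∈ CfsgLib.Orth.reflGroup Q := by rw [CfsgLib.Orth.reflGroup_eq_top hQ h4]; trivial
  suffices H : ∀ x ∈ CfsgLib.Orth.reflGroup Q, e.symm x ∈ Subgroup.closure {g : ↥(Cfsg.isometryGroup F ⇑Q) |
      ∃ v : Fin n → F, Q v ≠ 0 ∧ ((g : Matrix.GeneralLinearGroup (Fin n) F) : Matrix (Fin n) (Fin n) F) =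
        Cfsg.reflectionMatrix ⇑Q v} by
    simpa using H _ hg
  intro x hx
  induction hx using Subgroup.closure_induction with
  | mem y hy =>
    obtain ⟨a, rfl⟩ := hy
    by_cases ha : Q a = 0
    · rw [CfsgLib.Classical.refl_eq_one ha, map_one]; exact one_mem _
    · exact Subgroup.subset_closure ⟨a, ha, by
        rw [CfsgLib.Orth.toOrth_symm_coe, CfsgLib.Orth.matOf_refl]⟩
  | one => rw [map_one]; exact one_mem _
  | mul x y _ _ hx hy => rw [map_mul]; exact mul_mem hx hy
  | inv x _ hx => rw [map_inv]; exact inv_mem hx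

end Cfsg.Agent.S0786
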