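import Cfsg.Statements.S0787
import Cfsg.Agent.Lib.Classical.OrthApps

set_option autoImplicit false
open Cfsg

namespace Cfsg.Agent.S0787

/-- Existence and uniqueness of Ω: if F is finite, n ≥ 2, Q is a quadratic form on F^n with non-degenerate polar form and (|F|, n) ≠ (2, 4), then the group of isometries of determinant one has a unique subgroup of index 2. -/
theorem result {F : Type*} [Field F] [Fintype F] {n : ℕ} (hn : 2 ≤ n) (Q : QuadraticForm F (Fin n → F)) (hQ : (QuadraticMap.polarBilin Q).Nondegenerate) (h : Fintype.card F ≠ 2 ∨ n ≠ 4) : ∃! H : Subgroup ↥(Cfsg.specialIsometryGroup F ⇑Q), H.index = 2 := by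
  classical
  have h4 : CfsgLib.Orth.Good F (Fin n → F) := CfsgLib.Orth.good_of (by rw [Module.finrank_fin_fun]; exact h)
  let e := CfsgLib.Orth.toOrth (Qf := ⇑Q) Q (fun _ => rfl)
  have hK : Cfsg.specialIsometryGroup F ⇑Q = (CfsgLib.Classical.detKer Q).comap e.toMonoidHom := by
    ext g
    change _ ↔ LinearMap.det ((e g).1 : (Fin n → F) →ₗ[F] (Fin n → F)) = 1
    rw [CfsgLib.Orth.det_toOrth]
    exact Units.val_inj.symm.trans (by simp)
  have hM : (Cfsg.specialIsometryGroup F ⇑Q).map (e : _ →* CfsgLib.Orth.orthGroup Q) =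
      CfsgLib.Classical.detKer Q := by
    rw [hK]
    exact Subgroup.map_comap_eq_self_of_surjective (f := e.toMonoidHom) e.surjective _
  refine CfsgLib.Classical.existsUnique_index_congr
    ((e.subgroupMap _).trans (MulEquiv.subgroupCongr hM)) ?_
  exact CfsgLib.Classical.detKer_unique_index_two hQ (by rw [Module.finrank_fin_fun]; exact hn) h4

end Cfsg.Agent.S0787
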