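import Cfsg.Statements.S0790
import Cfsg.Agent.Lib.Classical.OrthApps2

set_option autoImplicit false
open Cfsg

namespace Cfsg.Agent.S0790

/-- −1 ∈ Ω⁺_2m(q) iff q^m ≡ 1 (mod 4), for q odd and m ≥ 1 (so that in the other case SO⁺_2m(q) = 2 × Ω⁺_2m(q)). -/
theorem result {F : Type*} [Field F] [Fintype F] {q : ℕ} (hF : Fintype.card F = q) (hodd : Odd q) (m : ℕ) (hm : 1 ≤ m) : (∃ g : ↥(Cfsg.isometryGroup F (Cfsg.quadFormPlus m F)), g ∈ Cfsg.Omega F (Cfsg.quadFormPlus m F) ∧ ((g : Matrix.GeneralLinearGroup (Fin m ⊕ Fin m) F) : Matrix (Fin m ⊕ Fin m) (Fin m ⊕ Fin m) F) = -1) ↔ q ^ m % 4 = 1 := by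
  classical
  have h2 := CfsgLib.KnownC.OrthTools.two_ne_zero_of_odd hF hodd
  rw [CfsgLib.KnownC.OrthTools.exists_omega_iff (CfsgLib.Orth.plusForm F m) (CfsgLib.Orth.plusForm_apply m)
    (CfsgLib.Classical.negEl _) (-1) ?_, CfsgLib.Classical.negEl_plus_iff h2,
    CfsgLib.KnownC.OrthTools.isSquare_neg_one_pow_iff hF hodd]
  apply Matrix.toLin'.injective
  refine LinearMap.ext fun v => ?_
  rw [Matrix.toLin'_apply, Matrix.toLin'_apply, CfsgLib.Orth.matOf_mulVec, CfsgLib.Classical.negEl_apply,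
    Matrix.neg_mulVec, Matrix.one_mulVec]

end Cfsg.Agent.S0790
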