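import Cfsg.Statements.S0791
import Cfsg.Agent.Lib.Classical.OrthApps2

set_option autoImplicit false
open Cfsg

namespace Cfsg.Agent.S0791

/-- −1 ∈ Ω⁻_2m(q) iff q^m ≡ −1 (mod 4), for q odd and m ≥ 1; for the minus-type form quadFormMinus (m−1) with anisotropic binary part. -/
theorem result {F : Type*} [Field F] [Fintype F] {q : ℕ} (hF : Fintype.card F = q) (hodd : Odd q) (m : ℕ) (hm : 1 ≤ m) (a b : F) (hab : ∀ z₁ z₂ : F, z₁ ^ 2 + a * z₁ * z₂ + b * z₂ ^ 2 = 0 → z₁ = 0 ∧ z₂ = 0) : (∃ g : ↥(Cfsg.isometryGroup F (Cfsg.quadFormMinus (m - 1) F a b)), g ∈ Cfsg.Omega F (Cfsg.quadFormMinus (m - 1) F a b) ∧ ((g : Matrix.GeneralLinearGroup ((Fin (m - 1) ⊕ Fin (m - 1)) ⊕ Fin 2) F) : Matrix ((Fin (m - 1) ⊕ Fin (m - 1)) ⊕ Fin 2) ((Fin (m - 1) ⊕ Fin (m - 1)) ⊕ Fin 2) F) = -1) ↔ q ^ m % 4 = 3 := by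
  classical
  have h2 := CfsgLib.KnownC.OrthTools.two_ne_zero_of_odd hF hodd
  rw [CfsgLib.KnownC.OrthTools.exists_omega_iff (CfsgLib.Orth.minusForm F (m - 1) a b)
    (CfsgLib.Orth.minusForm_apply (m - 1) a b) (CfsgLib.Classical.negEl _) (-1) ?_,
    CfsgLib.Classical.negEl_minus_iff h2 _ _ _ hab,
    CfsgLib.KnownC.OrthTools.isSquare_neg_one_pow_iff hF hodd, Nat.sub_add_cancel hm]
  · have h1 : q ^ m % 2 = 1 := Nat.odd_iff.1 hodd.pow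
    omega
  apply Matrix.toLin'.injective
  refine LinearMap.ext fun v => ?_
  rw [Matrix.toLin'_apply, Matrix.toLin'_apply, CfsgLib.Orth.matOf_mulVec, CfsgLib.Classical.negEl_apply,
    Matrix.neg_mulVec, Matrix.one_mulVec]

end Cfsg.Agent.S0791
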