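import Cfsg.Statements.S0792
import Cfsg.Agent.Lib.Classical.OrthApps

set_option autoImplicit false
open Cfsg

namespace Cfsg.Agent.S0792

/-- For q odd and Q with non-degenerate polar form on F^n, the determinant-one isometries form the subgroup generated by all products r_u r_v of two reflections (Q(u), Q(v) ≠ 0). -/
theorem result {F : Type*} [Field F] [Fintype F] (h2 : (2 : F) ≠ 0) {n : ℕ} (Q : QuadraticForm F (Fin n → F)) (hQ : (QuadraticMap.polarBilin Q).Nondegenerate) : Cfsg.specialIsometryGroup F ⇑Q = Subgroup.closure {g : ↥(Cfsg.isometryGroup F ⇑Q) | ∃ u v : Fin n → F, Q u ≠ 0 ∧ Q v ≠ 0 ∧ ((g : Matrix.GeneralLinearGroup (Fin n) F) : Matrix (Fin n) (Fin n) F) = Cfsg.reflectionMatrix ⇑Q u * Cfsg.reflectionMatrix ⇑Q v} := by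
  classical
  have h4 : CfsgLib.Orth.Good F (Fin n → F) := CfsgLib.Orth.good_of_two_ne h2
  let e := CfsgLib.Orth.toOrth (Qf := ⇑Q) Q (fun _ => rfl)
  have hdet : ∀ g, g ∈ Cfsg.specialIsometryGroup F ⇑Q ↔
      LinearMap.det ((e g).1 : (Fin n → F) →ₗ[F] (Fin n → F)) = 1 := fun g => by
    rw [CfsgLib.Orth.det_toOrth]
    exact Units.val_inj.symm.trans (by simp)
  refine le_antisymm (fun g hg => ?_) ((Subgroup.closure_le _).2 ?_)
  · set T := Subgroup.closure {g : ↥(Cfsg.isometryGroup F ⇑Q) | ∃ u v : Fin n → F, Q u ≠ 0 ∧ Q v ≠ 0 ∧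
      ((g : Matrix.GeneralLinearGroup (Fin n) F) : Matrix (Fin n) (Fin n) F) =
        Cfsg.reflectionMatrix ⇑Q u * Cfsg.reflectionMatrix ⇑Q v} with hT
    have hpair : ∀ a b, Q a ≠ 0 → Q b ≠ 0 →
        e.symm (CfsgLib.Orth.refl Q a * CfsgLib.Orth.refl Q b) ∈ T := fun a b ha hb =>
      Subgroup.subset_closure ⟨a, b, ha, hb, by
        rw [CfsgLib.Orth.toOrth_symm_coe, CfsgLib.Orth.matOf_mul, CfsgLib.Orth.matOf_refl,
          CfsgLib.Orth.matOf_refl]⟩
    have key : ∀ x ∈ CfsgLib.Orth.reflGroup Q, e.symm x ∈ T ∨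
        ∃ a, Q a ≠ 0 ∧ e.symm (x * CfsgLib.Orth.refl Q a) ∈ T := by
      have hstep : ∀ x y : CfsgLib.Orth.orthGroup Q, y ∈ Set.range (CfsgLib.Orth.refl Q) →
          (e.symm x ∈ T ∨ ∃ a, Q a ≠ 0 ∧ e.symm (x * CfsgLib.Orth.refl Q a) ∈ T) →
          (e.symm (x * y) ∈ T ∨ ∃ a, Q a ≠ 0 ∧ e.symm (x * y * CfsgLib.Orth.refl Q a) ∈ T) := by
        rintro x _ ⟨b, rfl⟩ h
        by_cases hb : Q b = 0
        · rwa [CfsgLib.Classical.refl_eq_one hb, mul_one]
        rcases h with h | ⟨a, ha, h⟩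
        · refine Or.inr ⟨b, hb, ?_⟩
          rw [mul_assoc]
          have : CfsgLib.Orth.refl Q b * CfsgLib.Orth.refl Q b = 1 := by
            rw [mul_eq_one_iff_eq_inv, CfsgLib.Orth.refl_inv]
          rwa [this, mul_one]
        · refine Or.inl ?_
          have h' := mul_mem h (hpair a b ha hb)
          rw [← map_mul, mul_assoc, ← mul_assoc (CfsgLib.Orth.refl Q a) (CfsgLib.Orth.refl Q a)] at h'
          have : CfsgLib.Orth.refl Q a * CfsgLib.Orth.refl Q a = 1 := by
            rw [mul_eq_one_iff_eq_inv, CfsgLib.Orth.refl_inv]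
          rwa [this, one_mul] at h'
      intro x hx
      induction hx using Subgroup.closure_induction_right with
      | one => left; rw [map_one]; exact one_mem _
      | mul_right x _ y hy ih => exact hstep x y hy ih
      | mul_inv_cancel x _ y hy ih =>
        obtain ⟨b, rfl⟩ := hy
        rw [CfsgLib.Orth.refl_inv]
        exact hstep x _ ⟨b, rfl⟩ ih
    have hgen : e g ∈ CfsgLib.Orth.reflGroup Q := by rw [CfsgLib.Orth.reflGroup_eq_top hQ h4]; trivial
    rcases key _ hgen with h | ⟨a, ha, h⟩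
    · simpa using h
    exfalso
    have hle : ∀ z ∈ T, LinearMap.det ((e z).1 : (Fin n → F) →ₗ[F] (Fin n → F)) = 1 := by
      intro z hz
      induction hz using Subgroup.closure_induction with
      | mem z hz =>
        obtain ⟨u, v, hu, hv, hz⟩ := hz
        have : e z = CfsgLib.Orth.refl Q u * CfsgLib.Orth.refl Q v := by
          rw [← MulEquiv.eq_symm_apply]
          refine Subtype.ext (Units.ext ?_)
          rw [hz, CfsgLib.Orth.toOrth_symm_coe, CfsgLib.Orth.matOf_mul, CfsgLib.Orth.matOf_refl,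
            CfsgLib.Orth.matOf_refl]
        rw [this]
        exact CfsgLib.Classical.refl_mul_mem_detKer hQ u v hu hv
      | one => rw [map_one]; exact LinearMap.det_id
      | mul x y _ _ hx hy => rw [map_mul]; exact (CfsgLib.Classical.detKer Q).mul_mem hx hy
      | inv x _ hx => rw [map_inv]; exact (CfsgLib.Classical.detKer Q).inv_mem hx
    have h1 : LinearMap.det (((e g).1 : (Fin n → F) →ₗ[F] (Fin n → F)) *
        ((CfsgLib.Orth.refl Q a).1 : (Fin n → F) →ₗ[F] (Fin n → F))) = 1 := by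
      have := hle _ h
      rw [MulEquiv.apply_symm_apply] at this
      exact this
    rw [map_mul, (hdet g).1 hg, CfsgLib.Orth.det_refl Q ha] at h1
    exact h2 (by linear_combination -h1)
  · rintro z ⟨u, v, hu, hv, hz⟩
    rw [SetLike.mem_coe, hdet]
    have : e z = CfsgLib.Orth.refl Q u * CfsgLib.Orth.refl Q v := by
      rw [← MulEquiv.eq_symm_apply]
      refine Subtype.ext (Units.ext ?_)
      rw [hz, CfsgLib.Orth.toOrth_symm_coe, CfsgLib.Orth.matOf_mul, CfsgLib.Orth.matOf_refl,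
        CfsgLib.Orth.matOf_refl]
    rw [this]
    exact CfsgLib.Classical.refl_mul_mem_detKer hQ u v hu hv

end Cfsg.Agent.S0792
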