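import Cfsg.Statements.S0793
import Cfsg.Agent.Lib.Classical.QuadBasic

set_option autoImplicit false
open Cfsg

namespace Cfsg.Agent.S0793

/-- Root elements: if Q(u) = Q(v) = 0 and f(u, v) = 0 (f the polar form), then for every c the Siegel matrix T_(u,v)(c) preserves Q, fixes u and v, and T(c) T(d) = T(c + d). -/
theorem result {F : Type*} [Field F] {n : ℕ} (Q : QuadraticForm F (Fin n → F)) (u v : Fin n → F) (hu : Q u = 0) (hv : Q v = 0) (huv : QuadraticMap.polar ⇑Q u v = 0) : (∀ c x, Q ((Cfsg.siegelMatrix ⇑Q u v c).mulVec x) = Q x) ∧ (∀ c, (Cfsg.siegelMatrix ⇑Q u v c).mulVec u = u ∧ (Cfsg.siegelMatrix ⇑Q u v c).mulVec v = v) ∧ ∀ c d, Cfsg.siegelMatrix ⇑Q u v c * Cfsg.siegelMatrix ⇑Q u v d = Cfsg.siegelMatrix ⇑Q u v (c + d) := by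
  have huu : QuadraticMap.polar (⇑Q) u u = 0 := by rw [CfsgLib.Classical.polar_self_field, hu, mul_zero]
  have hvv : QuadraticMap.polar (⇑Q) v v = 0 := by rw [CfsgLib.Classical.polar_self_field, hv, mul_zero]
  have hvu : QuadraticMap.polar (⇑Q) v u = 0 := by rw [QuadraticMap.polar_comm]; exact huv
  refine ⟨fun c x => ?_, fun c => ⟨?_, ?_⟩, fun c d => ?_⟩
  · rw [CfsgLib.Classical.siegelMatrix_mulVec]
    simp only [CfsgLib.Classical.quad_add, CfsgLib.Classical.quad_smul, QuadraticMap.polar_add_right,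
      CfsgLib.Classical.polar_smul_r, CfsgLib.Classical.polar_smul_l, hu, hv, hvu]
    rw [QuadraticMap.polar_comm (⇑Q) x v, QuadraticMap.polar_comm (⇑Q) x u]
    ring
  · rw [CfsgLib.Classical.siegelMatrix_mulVec]; simp [huu, hvu]
  · rw [CfsgLib.Classical.siegelMatrix_mulVec]; simp [huv, hvv]
  · refine Matrix.ext_iff_mulVec.2 fun x => ?_
    rw [← Matrix.mulVec_mulVec, CfsgLib.Classical.siegelMatrix_mulVec, CfsgLib.Classical.siegelMatrix_mulVec,
      CfsgLib.Classical.siegelMatrix_mulVec]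
    simp only [QuadraticMap.polar_add_right, CfsgLib.Classical.polar_smul_r, huu, hvv, huv, hvu]
    module

end Cfsg.Agent.S0793
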