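import Cfsg.Statements.S0794
import Cfsg.Agent.Lib.Classical.OrthSimple

set_option autoImplicit false
open Cfsg

namespace Cfsg.Agent.S0794

/-- For q odd, n ≥ 5 and Q with non-degenerate polar form: an isometry whose matrix is a Siegel transformation T_(u,v)(c) (u, v singular and orthogonal) is a commutator in the isometry group, so lies in Ω. -/
theorem result {F : Type*} [Field F] [Fintype F] (h2 : (2 : F) ≠ 0) {n : ℕ} (hn : 5 ≤ n) (Q : QuadraticForm F (Fin n → F)) (hQ : (QuadraticMap.polarBilin Q).Nondegenerate) (u v : Fin n → F) (hu : Q u = 0) (hv : Q v = 0) (huv : QuadraticMap.polar ⇑Q u v = 0) (c : F) (g : ↥(Cfsg.isometryGroup F ⇑Q)) (hg : ((g : Matrix.GeneralLinearGroup (Fin n) F) : Matrix (Fin n) (Fin n) F) = Cfsg.siegelMatrix ⇑Q u v c) : g ∈ commutatorSet ↥(Cfsg.isometryGroup F ⇑Q) ∧ g ∈ Cfsg.Omega F ⇑Q := by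
  classical
  have hfr : 5 ≤ Module.finrank F (Fin n → F) := by rw [Module.finrank_fin_fun]; exact hn
  have hs := CfsgLib.Classical.isSiegel_siegelMatrix Q hu hv huv c g hg
  suffices h : g ∈ commutatorSet ↥(Cfsg.isometryGroup F ⇑Q) by
    refine ⟨h, ?_⟩
    obtain ⟨a, b, rfl⟩ := h
    exact Subgroup.commutator_mem_commutator trivial trivial
  by_cases hx : c • v ∈ Submodule.span F ({u} : Set (Fin n → F))
  · obtain ⟨a, ha⟩ := Submodule.mem_span_singleton.1 hx
    rw [← ha] at hs
    have h1 : CfsgLib.Orth.toOrth Q (fun _ => rfl) g = CfsgLib.Orth.toOrth Q (fun _ => rfl) 1 :=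
      (hs.unique (CfsgLib.Classical.isSiegel_one_smul hu a)).trans (map_one _).symm
    refine ⟨1, 1, ?_⟩
    rw [(CfsgLib.Orth.toOrth Q fun _ => rfl).injective h1, commutatorElement_one_left]
  · obtain ⟨h, s, -, -, hc⟩ := CfsgLib.Classical.exists_siegel_comm hQ hfr hu
      (x := c • v) (by rw [CfsgLib.Orth.quad_smul', hv, mul_zero])
      (by rw [CfsgLib.Orth.polar_smul_r', huv, mul_zero]) hx
    refine ⟨(CfsgLib.Orth.toOrth Q fun _ => rfl).symm h, (CfsgLib.Orth.toOrth Q fun _ => rfl).symm s, ?_⟩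
    apply (CfsgLib.Orth.toOrth Q fun _ => rfl).injective
    rw [map_commutatorElement, MulEquiv.apply_symm_apply, MulEquiv.apply_symm_apply]
    exact hc.unique hs

end Cfsg.Agent.S0794
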