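import Cfsg.Statements.S0795
import Cfsg.Agent.Lib.Classical.OrthSimple

set_option autoImplicit false
open Cfsg

namespace Cfsg.Agent.S0795

/-- Generation of Ω by root elements: for q odd, n ≥ 5 and Q with non-degenerate polar form on F^n, the commutator subgroup of the isometry group equals the subgroup generated by the isometries whose matrices are Siegel transformations T_(u,v)(c) with u, v singular and orthogonal. -/
theorem result {F : Type*} [Field F] [Fintype F] (h2 : (2 : F) ≠ 0) {n : ℕ} (hn : 5 ≤ n) (Q : QuadraticForm F (Fin n → F)) (hQ : (QuadraticMap.polarBilin Q).Nondegenerate) : Cfsg.Omega F ⇑Q = Subgroup.closure {g : ↥(Cfsg.isometryGroup F ⇑Q) | ∃ (u v : Fin n → F) (c : F), Q u = 0 ∧ Q v = 0 ∧ QuadraticMap.polar ⇑Q u v = 0 ∧ ((g : Matrix.GeneralLinearGroup (Fin n) F) : Matrix (Fin n) (Fin n) F) = Cfsg.siegelMatrix ⇑Q u v c} := by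
  classical
  have hfr : 5 ≤ Module.finrank F (Fin n → F) := by rw [Module.finrank_fin_fun]; exact hn
  obtain ⟨hp⟩ := CfsgLib.Classical.exists_hypPairs hQ hfr
  have h4 : CfsgLib.Orth.Good F (Fin n → F) := CfsgLib.Orth.good_of_two_ne h2
  let e := CfsgLib.Orth.toOrth (Qf := ⇑Q) Q (fun _ => rfl)
  refine le_antisymm ?_ ((Subgroup.closure_le _).2 ?_)
  swap
  · rintro g ⟨u, v, c, hu, hv, huv, hg⟩
    exact (CfsgLib.Orth.mem_Omega_iff Q (fun _ => rfl) g).2
      ((CfsgLib.Classical.isSiegel_siegelMatrix Q hu hv huv c g hg).mem_commutator hQ h4 hp hfr)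
  intro g hg
  have hg' := (CfsgLib.Orth.mem_Omega_iff Q (fun _ => rfl) g).1 hg
  rw [CfsgLib.Classical.commutator_eq_siegelGroup hQ h4 hp hfr] at hg'
  set S : Set ↥(Cfsg.isometryGroup F ⇑Q) := {g | ∃ (u v : Fin n → F) (c : F), Q u = 0 ∧ Q v = 0 ∧
    QuadraticMap.polar ⇑Q u v = 0 ∧
    ((g : Matrix.GeneralLinearGroup (Fin n) F) : Matrix (Fin n) (Fin n) F) = Cfsg.siegelMatrix ⇑Q u v c}
  have hle : CfsgLib.Classical.siegelGroup Q ≤ (Subgroup.closure S).map e.toMonoidHom := by
    refine (Subgroup.closure_le _).2 ?_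
    rintro k ⟨d, u, hk⟩
    by_cases hd : d = 0
    · subst hd
      have : k = 1 := Subtype.ext (LinearEquiv.ext fun v => by rw [hk.2.2]; show _ = v; simp)
      rw [this]
      exact one_mem _
    refine CfsgLib.Classical.siegelIn_of_singular hQ hp hk.1 hd ?_ hk.2.1 k hk
    intro w hdw hw k' hk'
    exact ⟨e.symm k', Subgroup.subset_closure ⟨d, w, 1, hk.1, hw, hdw,
      CfsgLib.Classical.siegelMatrix_of_isSiegel Q hw (e.symm k') (by simpa [e] using hk')⟩, e.apply_symm_apply k'⟩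
  obtain ⟨y, hy, hye⟩ := hle hg'
  exact e.injective hye ▸ hy

end Cfsg.Agent.S0795
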