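import Cfsg.Statements.S0796

set_option autoImplicit false
open Cfsg

namespace Cfsg.Agent.S0796

/-- If G is finite and acts faithfully and primitively on X, H is the stabiliser of a point, A is a normal subgroup of H whose normal closure in G is G, then for every non-trivial normal subgroup K of G the quotient G ⧸ K is isomorphic to A ⧸ B for some normal subgroup B of A. -/
theorem result {G X : Type*} [Group G] [Finite G] [MulAction G X] [FaithfulSMul G X] (hprim : MulAction.IsPreprimitive G X) (x : X) (A : Subgroup G) (hA : A ≤ MulAction.stabilizer G x) (hAn : (A.subgroupOf (MulAction.stabilizer G x)).Normal) (hgen : Subgroup.normalClosure (A : Set G) = ⊤) (K : Subgroup G) [K.Normal] (hK : K ≠ ⊥) : ∃ (B : Subgroup A) (_ : B.Normal), Nonempty (G ⧸ K ≃* A ⧸ B) := by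
  classical
  haveI := hprim
  have htr : MulAction.IsPretransitive K X := by
    refine MulAction.IsQuasiPreprimitive.isPretransitive_of_normal fun h => hK ?_
    rw [eq_bot_iff]
    intro k hk
    rw [Subgroup.mem_bot]
    refine eq_of_smul_eq_smul (α := X) fun a => ?_
    rw [one_smul]
    exact (h ▸ Set.mem_univ a : a ∈ MulAction.fixedPoints K X) ⟨k, hk⟩
  have hnorm : ∀ (g : G) (a : G), a ∈ A → g * a * g⁻¹ ∈ K ⊔ A := by
    intro g a ha
    obtain ⟨k, hk⟩ := htr.exists_smul_eq x (g • x)
    have hh : (k : G)⁻¹ * g ∈ MulAction.stabilizer G x := by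
      rw [MulAction.mem_stabilizer_iff, mul_smul, ← hk, Subgroup.smul_def, inv_smul_smul]
    set h' := (k : G)⁻¹ * g with hh'
    have e : g * a * g⁻¹ = (k : G) * (h' * a * h'⁻¹) * (k : G)⁻¹ := by
      rw [show g = (k : G) * h' by simp [hh']]
      group
    rw [e]
    have hm : h' * a * h'⁻¹ ∈ A := hAn.conj_mem ⟨a, hA ha⟩ ha ⟨h', hh⟩
    exact mul_mem (mul_mem (Subgroup.mem_sup_left k.2) (Subgroup.mem_sup_right hm))
      (inv_mem (Subgroup.mem_sup_left k.2))
  have htop : K ⊔ A = ⊤ := by
    rw [eq_top_iff, ← hgen, Subgroup.normalClosure, Subgroup.closure_le]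
    intro y hy
    obtain ⟨a, ha, hay⟩ := Group.mem_conjugatesOfSet_iff.1 hy
    obtain ⟨g, rfl⟩ := isConj_iff.1 hay
    exact hnorm g a ha
  let φ : A →* G ⧸ K := (QuotientGroup.mk' K).comp A.subtype
  have hsurj : Function.Surjective φ := by
    rw [← MonoidHom.range_eq_top]
    rw [show φ.range = A.map (QuotientGroup.mk' K) by simp [φ, MonoidHom.range_comp]]
    have : (K ⊔ A).map (QuotientGroup.mk' K) = ⊤ := by
      rw [htop, ← MonoidHom.range_eq_map, MonoidHom.range_eq_top]
      exact QuotientGroup.mk'_surjective K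
    rwa [Subgroup.map_sup, show K.map (QuotientGroup.mk' K) = ⊥ by simp, bot_sup_eq] at this
  exact ⟨φ.ker, inferInstance, ⟨(QuotientGroup.quotientKerEquivOfSurjective φ hsurj).symm⟩⟩

end Cfsg.Agent.S0796
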