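import Cfsg.Statements.S0799
import Cfsg.Agent.Lib.Classical.Dickson.PSL

set_option autoImplicit false
open Cfsg

namespace Cfsg.Agent.S0799

open CfsgLib.Classical.Dickson Matrix

/-- Dickson's classification of the subgroups of PSL_2(q), q a power of the prime p, d = gcd(2, q − 1): every subgroup H is (a) cyclic or dihedral with k dividing (q+1)/d or (q−1)/d (cyclic of order k, or dihedral of order 2k), (b) isomorphic to a subgroup of the normaliser of a Sylow p-subgroup, (c) isomorphic to A_4, S_4 or A_5, or (d) isomorphic to PSL_2(K) or PGL_2(K) for a finite field K with |K|^m = q. -/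
theorem result {F : Type*} [Field F] [Fintype F] {q : ℕ} (hF : Fintype.card F = q) (p : ℕ) [Fact p.Prime] [CharP F p] (H : Subgroup (Matrix.ProjectiveSpecialLinearGroup (Fin 2) F)) : (∃ k : ℕ, (k ∣ (q + 1) / Nat.gcd 2 (q - 1) ∨ k ∣ (q - 1) / Nat.gcd 2 (q - 1)) ∧ ((IsCyclic H ∧ Nat.card H = k) ∨ Nonempty (H ≃* DihedralGroup k))) ∨ (∃ (P : Sylow p (Matrix.ProjectiveSpecialLinearGroup (Fin 2) F)) (K : Subgroup (Matrix.ProjectiveSpecialLinearGroup (Fin 2) F)), K ≤ Subgroup.normalizer ((P : Subgroup (Matrix.ProjectiveSpecialLinearGroup (Fin 2) F)) : Set (Matrix.ProjectiveSpecialLinearGroup (Fin 2) F)) ∧ Nonempty (H ≃* K)) ∨ Nonempty (H ≃* alternatingGroup (Fin 4)) ∨ Nonempty (H ≃* Equiv.Perm (Fin 4)) ∨ Nonempty (H ≃* alternatingGroup (Fin 5)) ∨ (∃ (K : Type) (_ : Field K) (_ : Fintype K) (m : ℕ), Fintype.card K ^ m = q ∧ (Nonempty (H ≃* Matrix.ProjectiveSpecialLinearGroup (Fin 2) K) ∨ Nonempty (H ≃* Matrix.ProjGenLinGroup (Fin 2) K))) := by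
  classical
  subst hF
  let G := inPGL H
  let e := inPGLEquiv H
  cases kind p G with
  | fixed x h =>
    obtain ⟨P, hP⟩ := exists_sylow_of_fixed p x H h
    exact Or.inr (Or.inl ⟨P, H, hP, ⟨MulEquiv.refl H⟩⟩)
  | cyclic c hc hp =>
    left
    have hcG : c ∈ G := hc ▸ Subgroup.mem_zpowers c
    obtain ⟨a, -, ha⟩ := hcG
    have hord : orderOf a = orderOf c := by
      rw [← ha, orderOf_injective _ ProjectiveSpecialLinearGroup.toPGL_injective]
    refine ⟨orderOf a, (psl_order_dvd p (hord ▸ hp)).symm, Or.inl ⟨?_, ?_⟩⟩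
    · haveI : IsCyclic G := hc ▸ Subgroup.isCyclic_zpowers c
      exact isCyclic_of_surjective e.symm e.symm.surjective
    · rw [hord, Nat.card_congr e.toEquiv, ← Nat.card_zpowers, ← hc]
  | dihedral c hc hp h2 hG =>
    left
    obtain ⟨a, -, ha⟩ := hc
    have hord : orderOf a = orderOf c := by
      rw [← ha, orderOf_injective _ ProjectiveSpecialLinearGroup.toPGL_injective]
    refine ⟨orderOf a, (psl_order_dvd p (hord ▸ hp)).symm, Or.inr ?_⟩
    obtain ⟨f⟩ := hG
    exact ⟨hord ▸ e.trans f⟩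
  | a4 h => exact Or.inr (Or.inr (Or.inl ⟨e.trans h.some⟩))
  | s4 h => exact Or.inr (Or.inr (Or.inr (Or.inl ⟨e.trans h.some⟩)))
  | a5 h => exact Or.inr (Or.inr (Or.inr (Or.inr (Or.inl ⟨e.trans h.some⟩))))
  | pgl A h hG =>
    refine Or.inr (Or.inr (Or.inr (Or.inr (Or.inr ?_))))
    obtain ⟨K, iK, iF, hK, ⟨r⟩⟩ := exists_small_field A
    have hinj : Function.Injective (ProjGenLinGroup.map (n := Fin 2) A.subtype) := by
      rw [injective_iff_map_eq_one]
      intro g hg
      refine eq_one_of_fix_all fun x => Option.map_injective A.subtype.injective ?_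
      show OnePoint.map A.subtype (g • x) = OnePoint.map A.subtype x
      induction g using ProjGenLinGroup.induction_on with | mk g =>
      rw [mk_smul, OnePoint.map_smul, ← mk_smul, ← ProjGenLinGroup.map_mk, hg, one_smul]
    refine ⟨K, iK, iF, Module.finrank A F, ?_, Or.inr ⟨?_⟩⟩
    · rw [hK, ← Module.natCard_eq_pow_finrank, Nat.card_eq_fintype_card]
    · exact ((e.trans (Subgroup.equivMapOfInjective _ _ (MulEquiv.injective (MulAut.conj h)))).trans
        (MulEquiv.subgroupCongr hG)).trans ((MonoidHom.ofInjective hinj).symm.trans (pglCongr r))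
  | psl A _ h hG =>
    refine Or.inr (Or.inr (Or.inr (Or.inr (Or.inr ?_))))
    obtain ⟨K, iK, iF, hK, ⟨r⟩⟩ := exists_small_field A
    have hinj : Function.Injective (ProjGenLinGroup.map (n := Fin 2) A.subtype) := by
      rw [injective_iff_map_eq_one]
      intro g hg
      refine eq_one_of_fix_all fun x => Option.map_injective A.subtype.injective ?_
      show OnePoint.map A.subtype (g • x) = OnePoint.map A.subtype x
      induction g using ProjGenLinGroup.induction_on with | mk g =>
      rw [mk_smul, OnePoint.map_smul, ← mk_smul, ← ProjGenLinGroup.map_mk, hg, one_smul]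
    refine ⟨K, iK, iF, Module.finrank A F, ?_, Or.inl ⟨?_⟩⟩
    · rw [hK, ← Module.natCard_eq_pow_finrank, Nat.card_eq_fintype_card]
    · exact ((e.trans (Subgroup.equivMapOfInjective _ _ (MulEquiv.injective (MulAut.conj h)))).trans
        (MulEquiv.subgroupCongr (hG.trans (MonoidHom.range_comp _ _)))).trans
          ((Subgroup.equivMapOfInjective _ _ hinj).symm.trans (psl_congr r).some)

end Cfsg.Agent.S0799
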