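import Cfsg.Statements.S0802
import Cfsg.Agent.Lib.Classical.Quat.Subfields

set_option autoImplicit false
open Cfsg
open scoped CfsgLib.Classical.Dickson

namespace Cfsg.Agent.S0802

/-- PSL_2(p^n) has a subgroup isomorphic to A_4 if and only if it is not the case that p = 2 and n is odd. -/
theorem result {F : Type*} [Field F] [Fintype F] (p n : ℕ) [Fact p.Prime] [CharP F p] (hF : Fintype.card F = p ^ n) : (∃ H : Subgroup (Matrix.ProjectiveSpecialLinearGroup (Fin 2) F), Nonempty (H ≃* alternatingGroup (Fin 4))) ↔ ¬ (p = 2 ∧ Odd n) := by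
  classical
  constructor
  · rintro ⟨H, ⟨e⟩⟩ ⟨rfl, hn⟩
    let ι : alternatingGroup (Fin 4) →* Matrix.ProjGenLinGroup (Fin 2) F :=
      Matrix.ProjectiveSpecialLinearGroup.toPGL.comp (H.subtype.comp e.symm.toMonoidHom)
    have hι : Function.Injective ι :=
      Matrix.ProjectiveSpecialLinearGroup.toPGL_injective.comp (Subtype.val_injective.comp e.symm.injective)
    let v : alternatingGroup (Fin 4) := ⟨Equiv.swap 0 1 * Equiv.swap 2 3, Equiv.Perm.mem_alternatingGroup.2 (by decide +kernel)⟩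
    let s : alternatingGroup (Fin 4) := ⟨Equiv.swap 0 1 * Equiv.swap 1 2, Equiv.Perm.mem_alternatingGroup.2 (by decide +kernel)⟩
    have hv : v * v = 1 := by decide +kernel
    have hs : s * s * s = 1 := by decide +kernel
    have hs1 : s * s ≠ 1 := by decide +kernel
    have hw1 : s * v * s⁻¹ ≠ 1 := by decide +kernel
    have hvw : v * (s * v * s⁻¹) = (s * v * s⁻¹) * v := by decide +kernel
    have hv1 : v ≠ 1 := by decide +kernel
    have hne : ∀ a, a ≠ 1 → ι a ≠ 1 := fun a ha h => ha (hι (h.trans (map_one ι).symm))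
    have hu : ι v ^ 2 = 1 := by rw [pow_two, ← map_mul, hv, map_one]
    obtain ⟨x, hx⟩ := CfsgLib.Classical.Dickson.exists_fixed_of_unip (F := F) 2 hu
    set w := s * v * s⁻¹ with hw
    have hwu : ι w ^ 2 = 1 := by rw [hw, map_mul, map_mul, map_inv, conj_pow, hu]; simp
    have hwx : ι w • x = x := CfsgLib.Classical.Dickson.fix_of_unip 2 (hne v hv1) hu hx (by
      rw [← mul_smul, ← map_mul, hvw, map_mul, mul_smul, hx])
    have hsx : ι s • x = x := CfsgLib.Classical.Dickson.fix_of_unip 2 (hne w hw1) hwu hwx (by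
      rw [← mul_smul, ← map_mul, hw, show s * v * s⁻¹ * s = s * v by group, map_mul, mul_smul, hx])
    obtain ⟨m, hm⟩ := CfsgLib.Classical.Dickson.exists_to_infty x
    obtain ⟨a, b, hab⟩ := CfsgLib.Classical.Dickson.exists_aff (g := m⁻¹ * ι s * m⁻¹⁻¹) (by
      rw [inv_inv, mul_smul, mul_smul, hm, hsx, ← hm, inv_smul_smul])
    have h3 : (m⁻¹ * ι s * m⁻¹⁻¹) ^ 3 = 1 := by
      rw [conj_pow, pow_succ, pow_two, ← map_mul, ← map_mul, hs, map_one]; simp
    obtain ⟨c, hc, -⟩ := CfsgLib.Classical.Dickson.aff_pow a 3 b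
    rw [hab, hc, CfsgLib.Classical.Dickson.aff_eq_one_iff] at h3
    have ha1 : a ≠ 1 := fun ha => hs1 (hι (by
      have h2 := (CfsgLib.Classical.Dickson.aff_pow_char_eq_one_iff 2 a b).2 ha
      rw [← hab, conj_pow, conj_eq_one_iff] at h2
      rw [map_mul, ← pow_two, h2, map_one]))
    have hord : orderOf a = 3 := orderOf_eq_prime h3.1 ha1
    have hdvd : 3 ∣ 2 ^ n - 1 := by
      rw [← hord, ← hF, ← Fintype.card_units]; exact orderOf_dvd_card
    obtain ⟨k, rfl⟩ := hn
    have h4 : 2 ^ (2 * k + 1) % 3 = 2 := by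
      rw [pow_succ, pow_mul, Nat.mul_mod, Nat.pow_mod]; norm_num
    have hge : 1 ≤ 2 ^ (2 * k + 1) := Nat.one_le_pow _ _ two_pos
    generalize 2 ^ (2 * k + 1) = N at h4 hge hdvd
    obtain ⟨j, hj⟩ := hdvd
    omega
  · intro h
    by_cases hp : p = 2
    · subst hp
      rcases Nat.even_or_odd n with ⟨k, hk⟩ | hn
      · have hk1 : 1 ≤ k := by
          rcases Nat.eq_zero_or_pos k with rfl | hk'
          · have := Fintype.one_lt_card (α := F)
            rw [hF, hk] at this; simp at this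
          · exact hk'
        obtain ⟨φ, hφ⟩ := CfsgLib.Classical.Quat.exists_a5_of_card_four_pow (F := F) hk1 (by
          rw [hF, hk, show (4 : ℕ) = 2 ^ 2 by norm_num, ← pow_mul]; ring_nf)
        obtain ⟨ψ, hψ⟩ := CfsgLib.Classical.Quat.exists_a4_of_a5
        exact ⟨(φ.comp ψ).range, ⟨(MonoidHom.ofInjective (f := φ.comp ψ) (hφ.comp hψ)).symm⟩⟩
      · exact absurd ⟨rfl, hn⟩ h
    · have h2 : (2 : F) ≠ 0 := fun h2 => hp ((Nat.prime_dvd_prime_iff_eq Fact.out Nat.prime_two).1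
        ((CharP.cast_eq_zero_iff F p 2).1 (by exact_mod_cast h2)))
      obtain ⟨X, Y, hXY⟩ := CfsgLib.Classical.Quat.exists_pair h2
      obtain ⟨φ, hφ, -⟩ := CfsgLib.Classical.Quat.exists_a4_normalizer h2 hXY
      exact ⟨φ.range, ⟨(MonoidHom.ofInjective hφ).symm⟩⟩

end Cfsg.Agent.S0802
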