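import Cfsg.Statements.S0803
import Cfsg.Agent.Lib.Classical.Quat.Subfields
import Cfsg.Agent.Lib.KnownC.OrthTools

set_option autoImplicit false
open Cfsg

namespace Cfsg.Agent.S0803

/-- PSL_2(q) has a subgroup isomorphic to S_4 iff q² ≡ 1 (mod 16). -/
theorem result {F : Type*} [Field F] [Fintype F] {q : ℕ} (hF : Fintype.card F = q) : (∃ H : Subgroup (Matrix.ProjectiveSpecialLinearGroup (Fin 2) F), Nonempty (H ≃* Equiv.Perm (Fin 4))) ↔ q ^ 2 % 16 = 1 := by
  classical
  subst hF
  constructor
  · rintro ⟨H, ⟨e⟩⟩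
    rcases Nat.even_or_odd (Fintype.card F) with hev | hodd
    · exfalso
      obtain ⟨p, hp'⟩ := CharP.exists F
      obtain ⟨f, hp, hq⟩ := FiniteField.card F p
      haveI : Fact p.Prime := ⟨hp⟩
      have hp2 : p = 2 := by
        rw [hq] at hev
        exact hp.eq_two_or_odd'.resolve_right fun ho => Nat.not_odd_iff_even.2 hev ho.pow
      subst hp2
      haveI : CharP F 2 := hp'
      let c : Equiv.Perm (Fin 4) := finRotate 4
      have h2 : c * c ≠ 1 := by decide +kernel
      have h4 : (c * c) * (c * c) = 1 := by decide +kernel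
      set x := e.symm c
      have hx : (x : Matrix.ProjectiveSpecialLinearGroup (Fin 2) F) * x ≠ 1 := fun h => h2 (e.symm.injective (by
        rw [map_mul, map_one]; exact Subtype.ext h))
      obtain ⟨g, hg⟩ := QuotientGroup.mk'_surjective (Subgroup.center (Matrix.SpecialLinearGroup (Fin 2) F))
        (x : Matrix.ProjectiveSpecialLinearGroup (Fin 2) F)
      have hc : ∀ z ∈ Subgroup.center (Matrix.SpecialLinearGroup (Fin 2) F), z = 1 := by
        intro z hz
        rcases CfsgLib.Classical.sl2_center_eq hz with rfl | rfl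
        · rfl
        · apply CfsgLib.Classical.sl2_ext
          ext i j
          fin_cases i <;> fin_cases j <;> simp [CharTwo.neg_eq]
      have hg4 : (g * g) * (g * g) = 1 := hc _ (by
        rw [← QuotientGroup.eq_one_iff]
        show (QuotientGroup.mk' _) ((g * g) * (g * g)) = 1
        rw [map_mul, map_mul, hg, ← Subgroup.coe_mul, ← Subgroup.coe_mul, ← map_mul, ← map_mul, h4, map_one,
          Subgroup.coe_one])
      refine hx ?_
      have hgg : g * g = 1 := by
        have hg4' : g ^ 4 = 1 := by rw [← hg4]; simp [pow_succ, mul_assoc]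
        rw [← pow_two]
        refine CfsgLib.Classical.sl2_pow_char 2 g ?_
        have e2 : (2 : Matrix (Fin 2) (Fin 2) F) = 0 := by
          ext i j
          fin_cases i <;> fin_cases j <;> simp [CharTwo.two_eq_zero, Matrix.ofNat_apply]
        have e4 : ((g : Matrix (Fin 2) (Fin 2) F) * g) * (g * g) = 1 := by
          rw [← CfsgLib.Classical.sl2_coe_mul, ← CfsgLib.Classical.sl2_coe_mul, hg4]; rfl
        set M := (g : Matrix (Fin 2) (Fin 2) F)
        have e5 : ((M - 1) * (M - 1)) * ((M - 1) * (M - 1)) = 0 := by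
          have hsq : (M - 1) * (M - 1) = M * M + 1 := by
            calc (M - 1) * (M - 1) = M * M + 1 - 2 * M := by noncomm_ring
              _ = M * M + 1 := by rw [e2, zero_mul, sub_zero]
          rw [hsq]
          calc (M * M + 1) * (M * M + 1) = (M * M) * (M * M) + 2 * (M * M) + 1 := by noncomm_ring
            _ = 2 := by rw [e4, e2, zero_mul, add_zero, one_add_one_eq_two (R := Matrix (Fin 2) (Fin 2) F), e2]
            _ = 0 := e2
        have := congrArg Matrix.det e5
        rw [Matrix.det_mul, Matrix.det_mul, Matrix.det_zero] at this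
        exact mul_self_eq_zero.1 (mul_self_eq_zero.1 this)
      rw [← hg, ← map_mul, hgg, map_one]
    · have hdvd : 24 ∣ Nat.card (Matrix.ProjectiveSpecialLinearGroup (Fin 2) F) := by
        have h := Subgroup.card_subgroup_dvd_card H
        rwa [Nat.card_congr e.toEquiv, Nat.card_perm, Nat.card_fin] at h
      have h2 : (2 : F) ≠ 0 := CfsgLib.KnownC.OrthTools.two_ne_zero_of_odd rfl hodd
      have hs := CfsgLib.Classical.Quat.two_mul_card_psl h2
      rw [CfsgLib.Classical.card_sl2'] at hs
      set q := Fintype.card F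
      obtain ⟨k, hk⟩ := hdvd
      rw [hk] at hs
      have h16 : 16 ∣ q * ((q - 1) * (q + 1)) := ⟨3 * k, by rw [← hs]; ring⟩
      have hco : Nat.Coprime 16 q := by
        rw [show 16 = 2 ^ 4 by norm_num]
        exact (Nat.coprime_two_left.2 hodd).pow_left 4
      have h := hco.dvd_of_dvd_mul_left h16
      have hq1 : 1 ≤ q := Fintype.card_pos
      have e : q ^ 2 = (q - 1) * (q + 1) + 1 := by
        obtain ⟨r, hr⟩ : ∃ r, q = r + 1 := ⟨q - 1, by omega⟩
        rw [hr]; simp; ring
      rw [e]; omega
  · intro h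
    set q := Fintype.card F with hq
    have hodd : Odd q := by
      rcases Nat.even_or_odd q with ⟨r, hr⟩ | ho
      · exfalso; rw [hr] at h; ring_nf at h; omega
      · exact ho
    have h2 : (2 : F) ≠ 0 := CfsgLib.KnownC.OrthTools.two_ne_zero_of_odd rfl hodd
    obtain ⟨r, hr⟩ : IsSquare (2 : F) := by
      rw [FiniteField.isSquare_two_iff, ← hq]
      rw [Nat.pow_mod] at h
      constructor <;> intro hm
      · have : q % 16 = 3 ∨ q % 16 = 11 := by omega
        rcases this with e | e <;> rw [e] at h <;> norm_num at h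
      · have : q % 16 = 5 ∨ q % 16 = 13 := by omega
        rcases this with e | e <;> rw [e] at h <;> norm_num at h
    obtain ⟨X, Y, hXY⟩ := CfsgLib.Classical.Quat.exists_pair h2
    obtain ⟨φ, hφ, -⟩ := CfsgLib.Classical.Quat.exists_s4_normalizer h2 hr.symm hXY
    exact ⟨φ.range, ⟨(MonoidHom.ofInjective hφ).symm⟩⟩

end Cfsg.Agent.S0803
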