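import Cfsg.Statements.S0805
import Cfsg.Agent.Lib.Classical.Quat.Subfields
import Cfsg.Agent.Lib.KnownC.OrthTools

set_option autoImplicit false
open Cfsg

namespace Cfsg.Agent.S0805

/-- Subfield subgroups: let F be a finite field of odd order q and K a finite field with |K|^m = q, m ≥ 1. Then PSL_2(F) has a subgroup isomorphic to PSL_2(K), and has a subgroup isomorphic to PGL_2(K) if and only if m is even. -/
theorem result {F K : Type*} [Field F] [Fintype F] [Field K] [Fintype K] {q : ℕ} (hF : Fintype.card F = q) (hodd : Odd q) (m : ℕ) (hm : 1 ≤ m) (hK : Fintype.card K ^ m = q) : (∃ H : Subgroup (Matrix.ProjectiveSpecialLinearGroup (Fin 2) F), Nonempty (H ≃* Matrix.ProjectiveSpecialLinearGroup (Fin 2) K)) ∧ ((∃ H : Subgroup (Matrix.ProjectiveSpecialLinearGroup (Fin 2) F), Nonempty (H ≃* Matrix.ProjGenLinGroup (Fin 2) K)) ↔ Even m) := by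
  classical
  subst hF
  obtain ⟨ι⟩ := CfsgLib.Classical.Quat.exists_ringHom_of_card_pow (K := K) (F := F) hm hK
  refine ⟨?_, ?_, ?_⟩
  · obtain ⟨φ, hφ⟩ := CfsgLib.Classical.Quat.exists_psl_mono ι
    exact ⟨φ.range, ⟨(MonoidHom.ofInjective hφ).symm⟩⟩
  · rintro ⟨H, ⟨e⟩⟩
    by_contra hmo
    rw [Nat.not_even_iff_odd] at hmo
    have h2 : (2 : F) ≠ 0 := CfsgLib.KnownC.OrthTools.two_ne_zero_of_odd rfl hodd
    have h := Subgroup.card_subgroup_dvd_card H
    rw [Nat.card_congr e.toEquiv, CfsgLib.Classical.Dickson.card_pgl2, Nat.card_eq_fintype_card (α := K)] at h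
    have hs := CfsgLib.Classical.Quat.two_mul_card_psl h2
    rw [CfsgLib.Classical.card_sl2'] at hs
    set q := Fintype.card F
    set s := Fintype.card K
    have hs1 : 1 < s := Fintype.one_lt_card
    have hso : Odd s := by
      rw [← hK] at hodd
      exact (Nat.odd_pow_iff (by omega)).1 hodd
    obtain ⟨j, hj⟩ := h
    rw [hj] at hs
    -- pass to integers
    obtain ⟨T, hT, hTo⟩ : ∃ T : ℤ, (q : ℤ) ^ 2 - 1 = ((s : ℤ) ^ 2 - 1) * T ∧ Odd T := by
      refine ⟨∑ i ∈ Finset.range m, ((s : ℤ) ^ 2) ^ i, ?_, ?_⟩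
      · rw [mul_comm, geom_sum_mul, ← pow_mul, mul_comm 2 m, pow_mul, ← hK]
        push_cast
        ring
      · rw [Int.odd_iff, Finset.sum_int_mod, Finset.sum_congr rfl (g := fun _ => (1 : ℤ)) (fun i _ => ?_)]
        · rw [Finset.sum_const, Finset.card_range, nsmul_eq_mul, mul_one]
          exact Int.odd_iff.1 (by exact_mod_cast hmo)
        · exact Int.odd_iff.1 (((Int.odd_coe_nat s).2 hso).pow.pow)
    have hsZ : 2 * ((((s : ℤ) + 1) * s * (s - 1)) * j) = (q : ℤ) * (((q : ℤ) - 1) * (q + 1)) := by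
      have hq1 : 1 ≤ q := Fintype.card_pos
      have := congrArg (fun n : ℕ => (n : ℤ)) hs
      push_cast [Nat.cast_sub hq1, Nat.cast_sub (le_of_lt hs1)] at this
      linear_combination this
    have hne : (s : ℤ) ^ 2 - 1 ≠ 0 := by
      have : (2 : ℤ) ≤ s := by exact_mod_cast hs1
      nlinarith
    have heq : 2 * ((s : ℤ) * j) = (q : ℤ) * T := mul_left_cancel₀ hne (by linear_combination hsZ + (q : ℤ) * hT)
    have : Odd ((q : ℤ) * T) := ((Int.odd_coe_nat q).2 hodd).mul hTo
    rw [← heq, Int.odd_iff] at this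
    omega
  · intro hme
    have hsq : ∀ c : Kˣ, ∃ r : Fˣ, r * r = Units.map ι.toMonoidHom c := by
      intro c
      have h2 : ringChar F ≠ 2 := fun h => CfsgLib.KnownC.OrthTools.two_ne_zero_of_odd rfl hodd (by
        haveI := ringChar.of_eq h
        exact CharTwo.two_eq_zero)
      have hsqr : IsSquare (Units.map ι.toMonoidHom c) := by
        rw [FiniteField.unit_isSquare_iff h2, ← map_pow]
        obtain ⟨k, rfl⟩ := hme
        have hdvd : (Fintype.card K - 1) ∣ Fintype.card F / 2 := by
          set s := Fintype.card K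
          have hso : Odd s := by
            rw [← hK] at hodd
            exact (Nat.odd_pow_iff (by omega)).1 hodd
          have h1 : s - 1 ∣ s ^ k - 1 := by simpa using Nat.sub_dvd_pow_sub_pow s 1 k
          obtain ⟨t, ht⟩ : Odd (s ^ k) := hso.pow
          obtain ⟨a, ha⟩ := h1
          rw [← hK, show s ^ (k + k) = s ^ k * s ^ k from pow_add s k k, ht]
          rw [ht, Nat.add_sub_cancel] at ha
          refine ⟨a * (t + 1), ?_⟩
          rw [show (2 * t + 1) * (2 * t + 1) = 2 * (2 * t * (t + 1)) + 1 by ring, ← mul_assoc (s - 1), ← ha]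
          omega
        obtain ⟨a, ha⟩ := hdvd
        rw [ha, pow_mul, ← Fintype.card_units (α := K), pow_card_eq_one, one_pow, map_one]
      obtain ⟨r, hr⟩ := hsqr
      exact ⟨r, hr.symm⟩
    let φ : Matrix.ProjGenLinGroup (Fin 2) K →* Matrix.ProjGenLinGroup (Fin 2) F := Matrix.ProjGenLinGroup.map ι
    have hφ : Function.Injective φ := by
      letI := CfsgLib.Classical.Dickson.moebiusAction (K := K)
      letI := CfsgLib.Classical.Dickson.moebiusAction (K := F)
      rw [injective_iff_map_eq_one]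
      intro g hg
      refine CfsgLib.Classical.Dickson.eq_one_of_fix_all fun x => Option.map_injective ι.injective ?_
      show OnePoint.map ι (g • x) = OnePoint.map ι x
      induction g using Matrix.ProjGenLinGroup.induction_on with | mk g =>
      rw [CfsgLib.Classical.Dickson.mk_smul, OnePoint.map_smul, ← CfsgLib.Classical.Dickson.mk_smul,
        ← Matrix.ProjGenLinGroup.map_mk]
      show φ (Matrix.ProjGenLinGroup.mk g) • OnePoint.map ι x = _
      rw [hg, one_smul]
    have hle : φ.range ≤ (Matrix.ProjectiveSpecialLinearGroup.toPGL (n := Fin 2) (R := F)).range := by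
      rintro _ ⟨g, rfl⟩
      induction g using Matrix.ProjGenLinGroup.induction_on with | mk g =>
      obtain ⟨r, hr⟩ := hsq (Matrix.GeneralLinearGroup.det g)
      let G := Matrix.GeneralLinearGroup.map ι g
      have hdet : ((r⁻¹ : Fˣ) • (G : Matrix (Fin 2) (Fin 2) F)).det = 1 := by
        have hG : (G : Matrix (Fin 2) (Fin 2) F).det = ((r * r : Fˣ) : F) := by
          rw [hr]
          show ((g : Matrix (Fin 2) (Fin 2) K).map ι).det = ι ((g : Matrix (Fin 2) (Fin 2) K).det)
          exact (ι.map_det _).symm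
        rw [Units.smul_def, Matrix.det_smul, hG, Fintype.card_fin, Units.val_mul, ← pow_two, ← mul_pow,
          Units.inv_mul, one_pow]
      let S₀ : Matrix.SpecialLinearGroup (Fin 2) F := ⟨_, hdet⟩
      refine ⟨(S₀ : Matrix.ProjectiveSpecialLinearGroup (Fin 2) F), ?_⟩
      show Matrix.ProjGenLinGroup.mk _ = Matrix.ProjGenLinGroup.map ι (Matrix.ProjGenLinGroup.mk g)
      rw [Matrix.ProjGenLinGroup.map_mk]
      have e : Matrix.SpecialLinearGroup.toGL S₀ =
          Matrix.GeneralLinearGroup.scalar (Fin 2) r⁻¹ * G := by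
        apply Units.ext
        ext i j
        show ((r⁻¹ : Fˣ) • (G : Matrix (Fin 2) (Fin 2) F)) i j = _
        simp [Units.smul_def, Matrix.GeneralLinearGroup.scalar, Matrix.scalar_apply, Matrix.diagonal_mul]
      rw [e, map_mul, Matrix.ProjGenLinGroup.mk_scalar, one_mul]
    refine ⟨φ.range.comap Matrix.ProjectiveSpecialLinearGroup.toPGL, ⟨?_⟩⟩
    exact ((Subgroup.equivMapOfInjective _ _ Matrix.ProjectiveSpecialLinearGroup.toPGL_injective).trans
      (MulEquiv.subgroupCongr (Subgroup.map_comap_eq_self hle))).trans (MonoidHom.ofInjective hφ).symm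

end Cfsg.Agent.S0805
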