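import Cfsg.Statements.S0806
import Cfsg.Agent.Lib.Classical.Dickson.DihedralMax

set_option autoImplicit false
open Cfsg

namespace Cfsg.Agent.S0806

/-- Minimal index (Galois): if q ∉ {2, 3, 5, 7, 9, 11} then every proper subgroup of PSL_2(q) has index ≥ q + 1, and some subgroup has index exactly q + 1. -/
theorem result {F : Type*} [Field F] [Fintype F] {q : ℕ} (hF : Fintype.card F = q) (hq : q ∉ ({2, 3, 5, 7, 9, 11} : Finset ℕ)) : (∀ H : Subgroup (Matrix.ProjectiveSpecialLinearGroup (Fin 2) F), H ≠ ⊤ → q + 1 ≤ H.index) ∧ ∃ H : Subgroup (Matrix.ProjectiveSpecialLinearGroup (Fin 2) F), H.index = q + 1 := by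
  classical
  obtain ⟨p, hp'⟩ := CharP.exists F
  obtain ⟨f, hp, hqp⟩ := FiniteField.card F p
  haveI : Fact p.Prime := ⟨hp⟩
  subst hF
  let ι := Matrix.ProjectiveSpecialLinearGroup.toPGL (n := Fin 2) (R := F)
  have hι : Function.Injective ι := Matrix.ProjectiveSpecialLinearGroup.toPGL_injective
  have hr : ι.range = CfsgLib.Classical.Dickson.sln F := CfsgLib.Classical.Dickson.range_toPGL'
  have hG : Nat.card (CfsgLib.Classical.Dickson.sln F) = Nat.card (Matrix.ProjectiveSpecialLinearGroup (Fin 2) F) := by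
    rw [← hr]; exact (Nat.card_congr (MonoidHom.ofInjective hι).toEquiv).symm
  have key : ∀ H : Subgroup (Matrix.ProjectiveSpecialLinearGroup (Fin 2) F), H ≠ ⊤ →
      Nat.card H * (Fintype.card F + 1) ≤ Nat.card (CfsgLib.Classical.Dickson.sln F) := by
    intro H hH
    have hle : H.map ι ≤ CfsgLib.Classical.Dickson.sln F := (Subgroup.map_le_range ι H).trans_eq hr
    have hne : H.map ι ≠ CfsgLib.Classical.Dickson.sln F := fun e => hH (Subgroup.map_injective hι (by
      rw [e, ← hr, MonoidHom.range_eq_map]))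
    obtain ⟨M, hHM, hM⟩ := CfsgLib.Classical.Dickson.exists_maxIn_ge hle hne
    refine le_trans (Nat.mul_le_mul_right _ ?_) (CfsgLib.Classical.Dickson.card_maxIn_le p hq hM)
    rw [← Subgroup.card_map_of_injective (K := H) hι]
    exact Subgroup.card_le_of_le hHM
  refine ⟨fun H hH => ?_, ?_⟩
  · have h := key H hH
    rw [hG, ← H.index_mul_card, mul_comm (Nat.card H)] at h
    exact Nat.le_of_mul_le_mul_right h Nat.card_pos
  · refine ⟨(CfsgLib.Classical.Dickson.stabIn (CfsgLib.Classical.Dickson.sln F) OnePoint.infty).comap ι, ?_⟩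
    set S := CfsgLib.Classical.Dickson.stabIn (CfsgLib.Classical.Dickson.sln F) OnePoint.infty
    have hS : (S.comap ι).map ι = S := Subgroup.map_comap_eq_self (inf_le_left.trans_eq hr.symm)
    have hc : Nat.card (S.comap ι) = Nat.card S := by
      rw [← Subgroup.card_map_of_injective (K := S.comap ι) hι, hS]
    have h := (S.comap ι).index_mul_card
    rw [hc, ← hG, ← CfsgLib.Classical.Dickson.card_stabIn le_rfl OnePoint.infty, mul_comm] at h
    exact Nat.eq_of_mul_eq_mul_left Nat.card_pos h

end Cfsg.Agent.S0806
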