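import Cfsg.Statements.S0808
import Cfsg.Agent.Lib.Classical.Quat.Klein
import Cfsg.Agent.Lib.KnownC.OrthTools

set_option autoImplicit false
open Cfsg

namespace Cfsg.Agent.S0808

/-- Conjugacy classes of four-groups in PSL_2(q), q odd: if q ≡ 3 or 5 (mod 8) all Klein four-subgroups are conjugate; if q ≡ 1 or 7 (mod 8) there are two Klein four-subgroups which are not conjugate, and every Klein four-subgroup is conjugate to one of them. -/
theorem result {F : Type*} [Field F] [Fintype F] {q : ℕ} (hF : Fintype.card F = q) (hodd : Odd q) : ((q % 8 = 3 ∨ q % 8 = 5) → ∀ V W : Subgroup (Matrix.ProjectiveSpecialLinearGroup (Fin 2) F), IsKleinFour V → IsKleinFour W → ∃ g : Matrix.ProjectiveSpecialLinearGroup (Fin 2) F, W = V.map (MulAut.conj g).toMonoidHom) ∧ ((q % 8 = 1 ∨ q % 8 = 7) → ∃ V₁ V₂ : Subgroup (Matrix.ProjectiveSpecialLinearGroup (Fin 2) F), IsKleinFour V₁ ∧ IsKleinFour V₂ ∧ (¬ ∃ g : Matrix.ProjectiveSpecialLinearGroup (Fin 2) F, V₂ = V₁.map (MulAut.conj g).toMonoidHom) ∧ ∀ W : Subgroup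 (Matrix.ProjectiveSpecialLinearGroup (Fin 2) F), IsKleinFour W → (∃ g : Matrix.ProjectiveSpecialLinearGroup (Fin 2) F, W = V₁.map (MulAut.conj g).toMonoidHom) ∨ (∃ g : Matrix.ProjectiveSpecialLinearGroup (Fin 2) F, W = V₂.map (MulAut.conj g).toMonoidHom)) := by
  classical
  subst hF
  have h2 : (2 : F) ≠ 0 := CfsgLib.KnownC.OrthTools.two_ne_zero_of_odd rfl hodd
  set q := Fintype.card F with hq
  have hsl := CfsgLib.Classical.Quat.two_mul_card_psl h2
  rw [CfsgLib.Classical.card_sl2', ← hq] at hsl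
  have h12 := CfsgLib.Classical.Quat.twelve_mul_card_four h2
  have hpos : 0 < Nat.card (Matrix.ProjectiveSpecialLinearGroup (Fin 2) F) := Nat.card_pos
  have hclass : ∀ V : Subgroup (Matrix.ProjectiveSpecialLinearGroup (Fin 2) F), IsKleinFour V →
      ∀ W, (∃ g, W = V.map (MulAut.conj g).toMonoidHom) → IsKleinFour W := by
    rintro V hV W ⟨g, rfl⟩
    let e := V.equivMapOfInjective (MulAut.conj g).toMonoidHom (MulAut.conj g).injective
    exact ⟨(Nat.card_congr e.toEquiv).symm.trans hV.card_four,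
      (Monoid.exponent_eq_of_mulEquiv e).symm.trans hV.exponent_two⟩
  refine ⟨fun h8 V W hV hW => ?_, fun h8 => ?_⟩
  · obtain ⟨X, Y, h, rfl⟩ := CfsgLib.Classical.Quat.exists_pair_of_klein h2 hV
    obtain ⟨φ, hφ, hN⟩ := CfsgLib.Classical.Quat.exists_a4_normalizer h2 h
    set N := Subgroup.normalizer (h.four : Set (Matrix.ProjectiveSpecialLinearGroup (Fin 2) F))
    have h12N : 12 ∣ Nat.card N := by
      have e := Subgroup.card_dvd_of_le hN
      rwa [← Nat.card_congr (MonoidHom.ofInjective hφ).toEquiv, nat_card_alternatingGroup, Nat.card_fin] at e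
    have hle := CfsgLib.Classical.Quat.card_normalizer_four_le h2 hV
    have hN12 : Nat.card N = 12 := by
      obtain ⟨k, hk⟩ := h12N
      have hkpos : 0 < Nat.card N := Nat.card_pos
      have hk2 : k = 1 ∨ k = 2 := by
        change Nat.card N ≤ 24 at hle
        omega
      rcases hk2 with rfl | rfl
      · omega
      · exfalso
        obtain ⟨j, hj⟩ := Subgroup.card_subgroup_dvd_card N
        rw [hk] at hj
        rw [hj] at hsl
        have h16 : 16 ∣ q * ((q - 1) * (q + 1)) := ⟨3 * j, by rw [← hsl]; ring⟩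
        have hm : q % 16 = 3 ∨ q % 16 = 5 ∨ q % 16 = 11 ∨ q % 16 = 13 := by omega
        rw [Nat.dvd_iff_mod_eq_zero, Nat.mul_mod, Nat.mul_mod (q - 1), Nat.add_mod] at h16
        have hm1 : (q - 1) % 16 = q % 16 - 1 := by omega
        rw [hm1] at h16
        rcases hm with e | e | e | e <;> rw [e] at h16 <;> norm_num at h16
    have hconj := CfsgLib.Classical.Quat.card_conjugates h.four
    rw [show Nat.card (Subgroup.normalizer (h.four : Set (Matrix.ProjectiveSpecialLinearGroup (Fin 2) F))) = 12 from hN12] at hconj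
    let f : {W // ∃ g, W = h.four.map (MulAut.conj g).toMonoidHom} →
        {V : Subgroup (Matrix.ProjectiveSpecialLinearGroup (Fin 2) F) // IsKleinFour V} :=
      fun W => ⟨W.1, hclass _ hV _ W.2⟩
    have hf : Function.Bijective f := by
      haveI := Fintype.ofFinite {W // ∃ g, W = h.four.map (MulAut.conj g).toMonoidHom}
      haveI := Fintype.ofFinite {V : Subgroup (Matrix.ProjectiveSpecialLinearGroup (Fin 2) F) // IsKleinFour V}
      rw [Fintype.bijective_iff_injective_and_card]
      refine ⟨fun a b e => Subtype.ext (congrArg (fun t : {V : Subgroup (Matrix.ProjectiveSpecialLinearGroup (Fin 2) F) // IsKleinFour V} => t.1) e), ?_⟩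
      rw [← Nat.card_eq_fintype_card, ← Nat.card_eq_fintype_card]
      omega
    obtain ⟨⟨W', g, hg⟩, e⟩ := hf.2 ⟨W, hW⟩
    exact ⟨g, (congrArg Subtype.val e).symm.trans hg⟩
  · obtain ⟨r, hr⟩ : IsSquare (2 : F) := by
      rw [FiniteField.isSquare_two_iff, ← hq]; omega
    have hsize : ∀ V : Subgroup (Matrix.ProjectiveSpecialLinearGroup (Fin 2) F), IsKleinFour V →
        Nat.card {W // ∃ g, W = V.map (MulAut.conj g).toMonoidHom} * 24 =
          Nat.card (Matrix.ProjectiveSpecialLinearGroup (Fin 2) F) := by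
      intro V hV
      obtain ⟨X, Y, h, rfl⟩ := CfsgLib.Classical.Quat.exists_pair_of_klein h2 hV
      obtain ⟨φ, hφ, hN⟩ := CfsgLib.Classical.Quat.exists_s4_normalizer h2 hr.symm h
      set N := Subgroup.normalizer (h.four : Set (Matrix.ProjectiveSpecialLinearGroup (Fin 2) F))
      have e := Subgroup.card_le_of_le hN
      rw [← Nat.card_congr (MonoidHom.ofInjective hφ).toEquiv, Nat.card_perm, Nat.card_fin] at e
      have hle := CfsgLib.Classical.Quat.card_normalizer_four_le h2 hV
      have hN24 : Nat.card N = 24 := by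
        change Nat.card N ≤ 24 at hle
        rw [show Nat.factorial 4 = 24 by norm_num [Nat.factorial]] at e
        omega
      have hc := CfsgLib.Classical.Quat.card_conjugates h.four
      change _ * Nat.card N = _ at hc
      rwa [hN24] at hc
    let K := {V : Subgroup (Matrix.ProjectiveSpecialLinearGroup (Fin 2) F) | IsKleinFour V}
    let cl := fun V : Subgroup (Matrix.ProjectiveSpecialLinearGroup (Fin 2) F) =>
      {W : Subgroup (Matrix.ProjectiveSpecialLinearGroup (Fin 2) F) | ∃ g, W = V.map (MulAut.conj g).toMonoidHom}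
    have hK : 12 * K.ncard = Nat.card (Matrix.ProjectiveSpecialLinearGroup (Fin 2) F) := by
      rw [← Nat.card_coe_set_eq]; exact h12
    have hcl : ∀ V ∈ K, (cl V).ncard * 24 = Nat.card (Matrix.ProjectiveSpecialLinearGroup (Fin 2) F) ∧ cl V ⊆ K := by
      intro V hV
      refine ⟨?_, fun W hW => hclass V hV W hW⟩
      rw [← Nat.card_coe_set_eq]; exact hsize V hV
    have hKne : K.Nonempty := Set.nonempty_of_ncard_ne_zero (by omega)
    obtain ⟨V₁, hV₁⟩ := hKne
    obtain ⟨V₂, hV₂, hV₂n⟩ := Set.exists_mem_notMem_of_ncard_lt_ncard (s := cl V₁) (t := K) (by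
      have := (hcl V₁ hV₁).1
      omega)
    refine ⟨V₁, V₂, hV₁, hV₂, hV₂n, fun W hW => ?_⟩
    have hdis : Disjoint (cl V₁) (cl V₂) := by
      rw [Set.disjoint_left]
      rintro U ⟨g, rfl⟩ ⟨k, hk⟩
      refine hV₂n ⟨k⁻¹ * g, ?_⟩
      have := congrArg (fun U => Subgroup.map (MulAut.conj k⁻¹).toMonoidHom U) hk
      simp only [Subgroup.map_map] at this
      have e1 : (MulAut.conj k⁻¹).toMonoidHom.comp (MulAut.conj k).toMonoidHom = MonoidHom.id _ :=
        MonoidHom.ext fun x => by simp [mul_assoc]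
      have e2 : (MulAut.conj k⁻¹).toMonoidHom.comp (MulAut.conj g).toMonoidHom =
          (MulAut.conj (k⁻¹ * g)).toMonoidHom := MonoidHom.ext fun x => by simp [mul_assoc]
      rw [e1, e2, Subgroup.map_id] at this
      exact this.symm
    have hall : cl V₁ ∪ cl V₂ = K := by
      refine Set.eq_of_subset_of_ncard_le (Set.union_subset (hcl V₁ hV₁).2 (hcl V₂ hV₂).2) ?_
      rw [Set.ncard_union_eq hdis]
      have := (hcl V₁ hV₁).1
      have := (hcl V₂ hV₂).1
      omega
    have hW' : W ∈ cl V₁ ∪ cl V₂ := by rw [hall]; exact hW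
    exact hW'

end Cfsg.Agent.S0808
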