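import Cfsg.Statements.S0809
import Cfsg.Agent.Lib.Classical.SL2Fours
import Cfsg.Agent.Lib.KnownC.OrthTools

set_option autoImplicit false
open Cfsg

namespace Cfsg.Agent.S0809

/-- In SL_2(q), q odd: any two subgroups of order 4 are conjugate, and the normaliser of a subgroup of order 4 has order 2(q − 1) if q ≡ 1 (mod 4) and 2(q + 1) if q ≡ 3 (mod 4); consequently all involutions of PSL_2(q) are conjugate. -/
theorem result {F : Type*} [Field F] [Fintype F] {q : ℕ} (hF : Fintype.card F = q) (hodd : Odd q) (A : Subgroup (Matrix.SpecialLinearGroup (Fin 2) F)) (hA : Nat.card A = 4) : (∀ B : Subgroup (Matrix.SpecialLinearGroup (Fin 2) F), Nat.card B = 4 → ∃ g : Matrix.SpecialLinearGroup (Fin 2) F, B = A.map (MulAut.conj g).toMonoidHom) ∧ (q % 4 = 1 → Nat.card ↥(Subgroup.normalizer (A : Set (Matrix.SpecialLinearGroup (Fin 2) F))) = 2 * (q - 1)) ∧ (q % 4 = 3 → Nat.card ↥(Subgroup.normalizer (A : Set (Matrix.SpecialLinearGroup (Fin 2) F))) = 2 * (q + 1)) ∧ (∀ x y : Matrix.ProjectiveSpecialLinearGroup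 (Fin 2) F, orderOf x = 2 → orderOf y = 2 → IsConj x y) := by
  classical
  subst hF
  have h2 : (2 : F) ≠ 0 := CfsgLib.KnownC.OrthTools.two_ne_zero_of_odd rfl hodd
  obtain ⟨x, hx, rfl⟩ := CfsgLib.Classical.sl2_four_subgroup h2 A hA
  have hinv : x⁻¹ = -x := CfsgLib.Classical.sl2_inv_eq_neg hx
  refine ⟨fun B hB => ?_, ?_⟩
  · obtain ⟨y, hy, rfl⟩ := CfsgLib.Classical.sl2_four_subgroup h2 B hB
    obtain ⟨g, hg⟩ := CfsgLib.Classical.sl2_trace_zero_conj h2 hx hy
    exact ⟨g, by rw [MonoidHom.map_zpowers]; simp [hg]⟩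
  have hN : Nat.card ↥(Subgroup.normalizer ((Subgroup.zpowers x : Subgroup (Matrix.SpecialLinearGroup (Fin 2) F)) :
      Set (Matrix.SpecialLinearGroup (Fin 2) F))) =
      2 * Nat.card (Subgroup.centralizer ({x} : Set (Matrix.SpecialLinearGroup (Fin 2) F))) := by
    set N := Subgroup.normalizer ((Subgroup.zpowers x : Subgroup (Matrix.SpecialLinearGroup (Fin 2) F)) :
      Set (Matrix.SpecialLinearGroup (Fin 2) F))
    set C := Subgroup.centralizer ({x} : Set (Matrix.SpecialLinearGroup (Fin 2) F))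
    obtain ⟨w, -, hw⟩ := CfsgLib.Classical.sl2_exists_inverter h2 x (by
      rw [(CfsgLib.Classical.sl2_mul_self_eq_neg_one_iff x).1 hx]
      intro h4
      exact mul_ne_zero h2 h2 (by linear_combination -h4))
    have hx4 : orderOf x = 4 := by
      rw [← hA, Nat.card_zpowers]
    have hmem : ∀ g, g ∈ N ↔ g * x * g⁻¹ = x ∨ g * x * g⁻¹ = x⁻¹ := by
      intro g
      constructor
      · intro hg
        have hmem' := (Subgroup.mem_normalizer_iff.1 hg x).1 (Subgroup.mem_zpowers x)
        obtain ⟨i, hi⟩ := Subgroup.mem_zpowers_iff.1 hmem'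
        have hord : orderOf (g * x * g⁻¹) = 4 := by
          rw [show g * x * g⁻¹ = MulAut.conj g x from rfl, MulEquiv.orderOf_eq, hx4]
        rw [← hi, ← zpow_mod_orderOf] at hord ⊢
        rw [hx4] at hord ⊢
        have h0 : 0 ≤ i % ((4 : ℕ) : ℤ) := Int.emod_nonneg _ (by norm_num)
        have h1 : i % ((4 : ℕ) : ℤ) < 4 := Int.emod_lt_of_pos _ (by norm_num)
        obtain ⟨j, hj⟩ := Int.eq_ofNat_of_zero_le h0
        rw [hj, zpow_natCast] at hord ⊢
        rw [hj] at h1
        have hj4 : j < 4 := by exact_mod_cast h1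
        rw [orderOf_pow, hx4] at hord
        interval_cases j
        · simp at hord
        · left; rw [pow_one]
        · simp at hord
        · right
          rw [eq_inv_iff_mul_eq_one, ← pow_succ, show 3 + 1 = orderOf x by omega, pow_orderOf_eq_one]
      · intro hg
        have key : ∀ h ∈ Subgroup.zpowers x, g * h * g⁻¹ ∈ Subgroup.zpowers x ∧ g⁻¹ * h * g ∈ Subgroup.zpowers x := by
          intro h hh
          obtain ⟨i, rfl⟩ := Subgroup.mem_zpowers_iff.1 hh
          rcases hg with hg | hg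
          · have hg' : g⁻¹ * x * g⁻¹⁻¹ = x := by nth_rewrite 1 [← hg]; group
            constructor
            · rw [← conj_zpow, hg]; exact zpow_mem (Subgroup.mem_zpowers x) i
            · rw [show g⁻¹ * x ^ i * g = (g⁻¹ * x * g⁻¹⁻¹) ^ i by rw [conj_zpow, inv_inv], hg']
              exact zpow_mem (Subgroup.mem_zpowers x) i
          · have hg' : g⁻¹ * x * g⁻¹⁻¹ = x⁻¹ := by
              rw [show x⁻¹ = g⁻¹ * (g * x⁻¹ * g⁻¹) * g⁻¹⁻¹ by group]
              congr 2
              rw [show g * x⁻¹ * g⁻¹ = (g * x * g⁻¹)⁻¹ by group, hg, inv_inv]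
            constructor
            · rw [← conj_zpow, hg]; exact zpow_mem (inv_mem (Subgroup.mem_zpowers x)) i
            · rw [show g⁻¹ * x ^ i * g = (g⁻¹ * x * g⁻¹⁻¹) ^ i by rw [conj_zpow, inv_inv], hg']
              exact zpow_mem (inv_mem (Subgroup.mem_zpowers x)) i
        rw [Subgroup.mem_normalizer_iff]
        intro h
        refine ⟨fun hh => (key h hh).1, fun hh => ?_⟩
        have := (key _ hh).2
        rwa [show g⁻¹ * (g * h * g⁻¹) * g = h by group] at this
    have hC : ∀ g, g ∈ C ↔ g * x * g⁻¹ = x := fun g => by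
      rw [Subgroup.mem_centralizer_singleton_iff, mul_inv_eq_iff_eq_mul]
    have hne : x⁻¹ ≠ x := fun e => by
      rw [inv_eq_iff_mul_eq_one, hx] at e
      exact CfsgLib.Classical.sl2_neg_ne_one h2 e
    have hwC : ∀ c, c ∈ C → (w * c) * x * (w * c)⁻¹ = x⁻¹ := fun c hc => by
      rw [show w * c * x * (w * c)⁻¹ = w * (c * x * c⁻¹) * w⁻¹ by group, (hC c).1 hc, hw]
    let e : N ≃ C ⊕ C :=
      { toFun := fun g => if h : (g : Matrix.SpecialLinearGroup (Fin 2) F) * x * (g : Matrix.SpecialLinearGroup (Fin 2) F)⁻¹ = x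
          then Sum.inl ⟨g, (hC _).2 h⟩
          else Sum.inr ⟨w⁻¹ * g, (hC _).2 (by
            have h' := ((hmem _).1 g.2).resolve_left h
            rw [show w⁻¹ * (g : Matrix.SpecialLinearGroup (Fin 2) F) * x * (w⁻¹ * g)⁻¹ =
              w⁻¹ * ((g : Matrix.SpecialLinearGroup (Fin 2) F) * x * (g : Matrix.SpecialLinearGroup (Fin 2) F)⁻¹) * w by group,
              h', ← hw]
            group)⟩
        invFun := fun s => match s with
          | Sum.inl c => ⟨c, (hmem _).2 (Or.inl ((hC _).1 c.2))⟩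
          | Sum.inr c => ⟨w * c, (hmem _).2 (Or.inr (hwC _ c.2))⟩
        left_inv := fun g => by
          by_cases h : (g : Matrix.SpecialLinearGroup (Fin 2) F) * x * (g : Matrix.SpecialLinearGroup (Fin 2) F)⁻¹ = x
          · simp [h]
          · simp [h]
        right_inv := fun s => by
          rcases s with c | c
          · simp [(hC _).1 c.2]
          · have h' := hwC _ c.2
            simp only
            rw [dif_neg (fun h => hne (h'.symm.trans h))]
            simp }
    rw [Nat.card_congr e, Nat.card_sum]; ring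
  rw [hN, CfsgLib.Classical.sl2_card_centralizer h2 hx]
  refine ⟨fun h => by rw [if_pos h], fun h => by rw [if_neg (by omega)], fun y z hy hz => ?_⟩
  obtain ⟨g, rfl⟩ := QuotientGroup.mk'_surjective _ y
  obtain ⟨k, rfl⟩ := QuotientGroup.mk'_surjective _ z
  obtain ⟨c, hc⟩ := CfsgLib.Classical.sl2_trace_zero_conj h2
    (CfsgLib.Classical.psl2_involution_lift h2 g hy) (CfsgLib.Classical.psl2_involution_lift h2 k hz)
  rw [isConj_iff]
  exact ⟨QuotientGroup.mk' _ c, by rw [← map_mul, ← map_inv, ← map_mul, hc]⟩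

end Cfsg.Agent.S0809
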