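import Cfsg.Statements.S0810
import Cfsg.Agent.Lib.Classical.Dickson.MinimalSimple
import Cfsg.Agent.S0804

set_option autoImplicit false
open Cfsg

namespace Cfsg.Agent.S0810

/-- PSL_2(q) is minimal simple iff q is 2^r (r prime), 3^r (r an odd prime), a prime greater than 5 congruent to 2 or 3 mod 5, or 5. -/
theorem result {F : Type*} [Field F] [Fintype F] {q : ℕ} (hF : Fintype.card F = q) : Cfsg.IsMinimalSimple (Matrix.ProjectiveSpecialLinearGroup (Fin 2) F) ↔ ((∃ r : ℕ, r.Prime ∧ q = 2 ^ r) ∨ (∃ r : ℕ, r.Prime ∧ r ≠ 2 ∧ q = 3 ^ r) ∨ (q.Prime ∧ 5 < q ∧ (q % 5 = 2 ∨ q % 5 = 3)) ∨ q = 5) := by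
  classical
  obtain ⟨p, hp'⟩ := CharP.exists F
  obtain ⟨f, hp, hqp⟩ := FiniteField.card F p
  haveI : Fact p.Prime := ⟨hp⟩
  subst hF
  set n : ℕ := (f : ℕ)
  have hn1 : 1 ≤ n := f.pos
  have hp2 := hp.two_le
  constructor
  · intro hmin
    have h4 : 4 ≤ Fintype.card F := by
      by_contra hlt
      have hq1 : 1 < Fintype.card F := Fintype.one_lt_card
      have hcases : Fintype.card F = 2 ∨ Fintype.card F = 3 := by omega
      have hsol : Group.IsSolvable (Matrix.ProjectiveSpecialLinearGroup (Fin 2) F) := by
        rcases hcases with h | h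
        · obtain ⟨e⟩ := Cfsg.Agent.S0250.result (F := F) h
          haveI := CfsgLib.Classical.Dickson.solvable_perm_four
          haveI : Group.IsSolvable (Equiv.Perm (Fin 3)) :=
            solvable_of_solvable_injective (f := Equiv.Perm.viaEmbeddingHom (Fin.castSuccEmb : Fin 3 ↪ Fin 4))
              (Equiv.Perm.viaEmbeddingHom_injective _)
          haveI : Group.IsSolvable (Matrix.SpecialLinearGroup (Fin 2) F) :=
            solvable_of_solvable_injective (f := e.toMonoidHom) e.injective
          exact solvable_of_surjective (f := QuotientGroup.mk' (Subgroup.center (Matrix.SpecialLinearGroup (Fin 2) F)))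
            (QuotientGroup.mk'_surjective _)
        · obtain ⟨e⟩ := Cfsg.Agent.S0251.result (F := F) h
          haveI := CfsgLib.Classical.Dickson.solvable_alt_four
          exact solvable_of_solvable_injective (f := e.toMonoidHom) e.injective
      haveI := hmin.1
      exact hmin.2.1 ⟨⟨IsSimpleGroup.comm_iff_isSolvable.2 hsol⟩⟩
    by_contra hcon
    push Not at hcon
    obtain ⟨hc2, hc3, hcp, hc5⟩ := hcon
    have hfive : 5 ∣ Fintype.card F * (Fintype.card F ^ 2 - 1) → Fintype.card F ≠ 4 → False := by
      intro h5 h4'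
      obtain ⟨H, ⟨e⟩⟩ := (Cfsg.Agent.S0804.result (F := F) rfl).2 h5
      refine CfsgLib.Classical.Dickson.not_minimal_of_five h5 ⟨h4', hc5⟩
        ⟨H.subtype.comp e.symm.toMonoidHom, Subtype.val_injective.comp e.symm.injective⟩ ?_ hmin
      intro h60
      have hq := CfsgLib.Classical.Dickson.card_sln (F := F)
      have hG : Nat.card (CfsgLib.Classical.Dickson.sln F) = 60 := by
        rw [← CfsgLib.Classical.Dickson.range_toPGL', ← h60]
        exact (Nat.card_congr (MonoidHom.ofInjective Matrix.ProjectiveSpecialLinearGroup.toPGL_injective).toEquiv).symm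
      rw [hG] at hq
      set q := Fintype.card F
      have hq6 : 6 ≤ q := by omega
      have : 7 * 6 * 5 ≤ (q + 1) * q * (q - 1) := Nat.mul_le_mul (Nat.mul_le_mul (by omega) hq6) (by omega)
      rcases CfsgLib.Classical.Dickson.dd_cases (F := F) with ⟨e, -⟩ | ⟨e, -⟩ <;> rw [e] at hq <;> omega
    have hfield : ∀ a : ℕ, a ∣ n → a ≠ n → 4 ≤ p ^ a → False := by
      rintro a ⟨m, hm⟩ hne h4a
      have ha0 : a ≠ 0 := fun e => by rw [e] at h4a; simp at h4a
      haveI : Fintype (GaloisField p a) := Fintype.ofFinite _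
      have hK : Fintype.card (GaloisField p a) = p ^ a := by
        rw [← Nat.card_eq_fintype_card, GaloisField.card p a ha0]
      have hm1 : 1 < m := by
        rcases m with _ | _ | m
        · omega
        · omega
        · omega
      exact CfsgLib.Classical.Dickson.not_minimal_of_subfield (F := F) (K := GaloisField p a) hm1 (by omega)
        (by rw [hK, hqp, ← pow_mul, ← hm]) hmin
    by_cases hp2' : p = 2
    · subst hp2'
      have hnp : ¬ n.Prime := fun h => hc2 n h hqp
      have hn2 : 2 ≤ n := by
        by_contra h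
        rw [show n = 1 by omega] at hqp
        omega
      obtain ⟨a, ha, ha2, han⟩ := Nat.exists_dvd_of_not_prime2 hn2 hnp
      exact hfield a ha (by omega) ((Nat.pow_le_pow_right (by norm_num) ha2).trans' (by norm_num))
    by_cases hp3 : p = 3
    · subst hp3
      rcases Nat.even_or_odd n with ⟨k, hk⟩ | hno
      · refine hfive (Dvd.dvd.mul_left ?_ _) ?_
        · rw [hqp, hk, ← pow_mul, show (k + k) * 2 = 4 * k by ring, pow_mul]
          have h80 := (show 5 ∣ 81 - 1 by norm_num).trans (Nat.sub_dvd_pow_sub_pow 81 1 k)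
          rw [one_pow] at h80
          simpa using h80
        · rw [hqp]; intro e
          have : 3 ∣ 3 ^ n := dvd_pow_self 3 (by omega)
          rw [e] at this; omega
      · have hn3 : 3 ≤ n := by
          by_contra h
          obtain ⟨k, hk⟩ := hno
          rw [show n = 1 by omega] at hqp
          omega
        have hnp : ¬ n.Prime := fun h => hc3 n h (fun e => by rw [e] at hno; exact absurd hno (by decide)) hqp
        obtain ⟨a, ha, ha2, han⟩ := Nat.exists_dvd_of_not_prime2 (by omega) hnp
        exact hfield a ha (by omega) ((Nat.pow_le_pow_right (by norm_num) ha2).trans' (by norm_num))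
    by_cases hn : n = 1
    · rw [hn, pow_one] at hqp
      have hqprime : (Fintype.card F).Prime := by rw [hqp]; exact hp
      have hp4 : p ≠ 4 := fun e => by rw [e] at hp; norm_num at hp
      have hm := hcp hqprime (by omega)
      have hnd : p % 5 ≠ 0 := fun e => by
        have := (Nat.prime_dvd_prime_iff_eq (by norm_num : Nat.Prime 5) hp).1 (Nat.dvd_of_mod_eq_zero e)
        omega
      refine hfive (Dvd.dvd.mul_left ?_ _) (by omega)
      rw [hqp] at hm ⊢
      have h14 : p % 5 = 1 ∨ p % 5 = 4 := by omega
      have : p ^ 2 % 5 = 1 := by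
        rw [Nat.pow_mod]
        rcases h14 with e | e <;> rw [e]
      have : 1 ≤ p ^ 2 := Nat.one_le_pow _ _ (by omega)
      omega
    · rcases eq_or_ne p 5 with rfl | hp5
      · refine hfive (Dvd.dvd.mul_right ?_ _) ?_
        · rw [hqp]; exact dvd_pow_self 5 (by omega)
        · rw [hqp]; intro e
          have : 5 ∣ 5 ^ n := dvd_pow_self 5 (by omega)
          rw [e] at this; omega
      · exact hfield 1 (one_dvd _) (fun e => hn e.symm) (by rw [pow_one]; omega)
  · intro h
    have hpow : ∀ {a b : ℕ}, a.Prime → Fintype.card F = a ^ b → b ≠ 0 → p = a := by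
      intro a b ha e hb
      refine ((Nat.prime_dvd_prime_iff_eq ha hp).1 (ha.dvd_of_dvd_pow (n := n) ?_)).symm
      rw [← hqp, e]; exact dvd_pow_self a hb
    have hsub : 4 ≤ Fintype.card F ∧ ¬ (Fintype.card F % 10 = 1 ∨ Fintype.card F % 10 = 9) ∧
        ∀ s r : ℕ, r.Prime → 3 ≤ s → Fintype.card F = s ^ r → s = 3 ∧ Odd r := by
      have key : ∀ a b : ℕ, a.Prime → b.Prime → ∀ s r : ℕ, r.Prime → a ^ b = s ^ r → s = a ∧ r = b := by
        intro a b ha hb s r hr e
        obtain ⟨i, -, rfl⟩ := (Nat.dvd_prime_pow ha).1 (e ▸ dvd_pow_self s hr.ne_zero : s ∣ a ^ b)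
        rw [← pow_mul] at e
        have e' := Nat.pow_right_injective ha.two_le e
        rcases (Nat.dvd_prime hb).1 (show r ∣ b from ⟨i, by rw [e']; ring⟩) with h1 | h1
        · exact absurd h1 hr.ne_one
        · subst h1
          have : i = 1 := by
            have := Nat.eq_of_mul_eq_mul_right hb.pos (show i * r = 1 * r by omega)
            exact this
          subst this
          exact ⟨pow_one a, rfl⟩
      rcases h with ⟨r, hr, e⟩ | ⟨r, hr, hr2, e⟩ | ⟨hpr, h5, hm⟩ | e
      · refine ⟨by rw [e]; exact (Nat.pow_le_pow_right (by norm_num) hr.two_le).trans' (by norm_num), ?_, ?_⟩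
        · have : 2 ∣ 2 ^ r := dvd_pow_self 2 hr.ne_zero
          omega
        · intro s r' hr' hs e'
          have := key 2 r Nat.prime_two hr s r' hr' (e.symm.trans e')
          omega
      · have hro : Odd r := hr.odd_of_ne_two hr2
        refine ⟨by rw [e]; exact (Nat.pow_le_pow_right (by norm_num) hr.two_le).trans' (by norm_num), ?_, ?_⟩
        · obtain ⟨k, rfl⟩ := hro
          rw [e, pow_succ, pow_mul, Nat.mul_mod, Nat.pow_mod]
          norm_num
          have h9 : 9 ^ k % 10 = 1 ∨ 9 ^ k % 10 = 9 := by
            clear hr hr2 e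
            induction k with
            | zero => simp
            | succ k ih =>
              rw [pow_succ, Nat.mul_mod]
              rcases ih with e | e <;> rw [e] <;> norm_num
          rcases h9 with e' | e' <;> omega
        · intro s r' hr' hs e'
          obtain ⟨h1, h2⟩ := key 3 r Nat.prime_three hr s r' hr' (e.symm.trans e')
          exact ⟨h1, h2 ▸ hro⟩
      · refine ⟨by omega, by omega, fun s r hr hs e => ?_⟩
        exfalso
        rw [e] at hpr
        exact (Nat.Prime.not_prime_pow hr.two_le) hpr
      · refine ⟨by omega, by omega, fun s r hr hs e' => ?_⟩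
        exfalso
        have hpr : (5 : ℕ).Prime := by norm_num
        rw [← e, e'] at hpr
        exact (Nat.Prime.not_prime_pow hr.two_le) hpr
    obtain ⟨h4, h10, hs⟩ := hsub
    haveI := CfsgLib.Classical.psl_fin_isSimpleGroup (F := F) (le_refl 2) (fun _ => h4)
    refine ⟨inferInstance, fun hc => ?_, fun H hH => CfsgLib.Classical.Dickson.isSolvable_proper p h4 h10 hs H hH⟩
    exact CfsgLib.Classical.Dickson.not_solvable_psl (K := F) h4 (IsSimpleGroup.comm_iff_isSolvable.1 hc.is_comm.comm)

end Cfsg.Agent.S0810
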