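import Cfsg.Statements.S0811
import Cfsg.Agent.Lib.Classical.Dickson.DihedralMax
import Cfsg.Agent.Lib.Classical.Quat.Klein
import Cfsg.Agent.Lib.KnownC.OrthTools

set_option autoImplicit false
open Cfsg

namespace Cfsg.Agent.S0811

/-- For q ∉ {2, 7, 9}, PSL_2(q) has a maximal subgroup isomorphic to the dihedral group of order 2(q + 1)/d, d = gcd(2, q − 1). -/
theorem result {F : Type*} [Field F] [Fintype F] {q : ℕ} (hF : Fintype.card F = q) (hq : q ∉ ({2, 7, 9} : Finset ℕ)) : ∃ H : Subgroup (Matrix.ProjectiveSpecialLinearGroup (Fin 2) F), IsCoatom H ∧ Nonempty (H ≃* DihedralGroup ((q + 1) / Nat.gcd 2 (q - 1))) := by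
  classical
  obtain ⟨p, hp'⟩ := CharP.exists F
  obtain ⟨f, hp, hqp⟩ := FiniteField.card F p
  haveI : Fact p.Prime := ⟨hp⟩
  subst hF
  have hd := CfsgLib.Classical.Dickson.dd_cases (F := F)
  by_cases h3 : Fintype.card F = 3
  · have h2 : (2 : F) ≠ 0 := CfsgLib.KnownC.OrthTools.two_ne_zero_of_odd h3 (by decide)
    obtain ⟨X, Y, hXY⟩ := CfsgLib.Classical.Quat.exists_pair h2
    haveI hV := hXY.isKleinFour h2
    refine ⟨hXY.four, ?_, ?_⟩
    · have hsl := CfsgLib.Classical.Quat.two_mul_card_psl h2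
      rw [CfsgLib.Classical.card_sl2', h3] at hsl
      have hi := hXY.four.index_mul_card
      rw [hV.card_four] at hi
      have hidx : hXY.four.index = 3 := by omega
      refine ⟨fun e => by rw [e, Subgroup.index_top] at hidx; omega, fun K hK => ?_⟩
      by_contra hne
      have h4 := Subgroup.relIndex_mul_index hK.le
      rw [hidx] at h4
      rcases (Nat.dvd_prime Nat.prime_three).1 ⟨hXY.four.relIndex K, by rw [← h4, mul_comm]⟩ with e | e
      · exact hne (Subgroup.index_eq_one.1 e)
      · rw [e] at h4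
        exact hK.not_ge (Subgroup.relIndex_eq_one.1 (by omega))
    · haveI : IsKleinFour (DihedralGroup 2) := inferInstance
      rw [h3]
      exact IsKleinFour.nonempty_mulEquiv
  · have hq1 : 1 < Fintype.card F := Fintype.one_lt_card
    have hk : (Fintype.card F + 1) / Nat.gcd 2 (Fintype.card F - 1) * CfsgLib.Classical.Dickson.dd F = Fintype.card F + 1 := by
      show _ / CfsgLib.Classical.Dickson.dd F * _ = _
      rcases hd with ⟨e, he⟩ | ⟨e, he⟩ <;> rw [e] <;> omega
    obtain ⟨S, hS, hiso⟩ := CfsgLib.Classical.Dickson.dihedral_maxIn (F := F) p (n := Fintype.card F + 1)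
      (Or.inl ⟨rfl, by simp at hq ⊢; omega⟩) hk
    exact CfsgLib.Classical.Dickson.exists_coatom_psl hS hiso

end Cfsg.Agent.S0811
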