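import Cfsg.Statements.S0812
import Cfsg.Agent.Lib.Classical.Dickson.DihedralMax

set_option autoImplicit false
open Cfsg

namespace Cfsg.Agent.S0812

/-- For q ∉ {2, 3, 5, 7, 9, 11}, PSL_2(q) has a maximal subgroup isomorphic to the dihedral group of order 2(q − 1)/d, d = gcd(2, q − 1). -/
theorem result {F : Type*} [Field F] [Fintype F] {q : ℕ} (hF : Fintype.card F = q) (hq : q ∉ ({2, 3, 5, 7, 9, 11} : Finset ℕ)) : ∃ H : Subgroup (Matrix.ProjectiveSpecialLinearGroup (Fin 2) F), IsCoatom H ∧ Nonempty (H ≃* DihedralGroup ((q - 1) / Nat.gcd 2 (q - 1))) := by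
  classical
  obtain ⟨p, hp'⟩ := CharP.exists F
  obtain ⟨f, hp, hqp⟩ := FiniteField.card F p
  haveI : Fact p.Prime := ⟨hp⟩
  subst hF
  have hd := CfsgLib.Classical.Dickson.dd_cases (F := F)
  have hk : (Fintype.card F - 1) / Nat.gcd 2 (Fintype.card F - 1) * CfsgLib.Classical.Dickson.dd F = Fintype.card F - 1 := by
    show _ / CfsgLib.Classical.Dickson.dd F * _ = _
    rcases hd with ⟨e, he⟩ | ⟨e, he⟩ <;> rw [e] <;> omega
  obtain ⟨S, hS, hiso⟩ := CfsgLib.Classical.Dickson.dihedral_maxIn (F := F) p (n := Fintype.card F - 1)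
    (Or.inr ⟨rfl, hq⟩) hk
  exact CfsgLib.Classical.Dickson.exists_coatom_psl hS hiso

end Cfsg.Agent.S0812
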