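import Cfsg.Statements.S2601
import Cfsg.Agent.Lib.KnownC.AutPSL.Outer

set_option autoImplicit false
open Cfsg

namespace Cfsg.Agent.S2601

open CfsgLib.KnownC.AutPSL

/-- Structure of the outer automorphism group of PSL_n(q), n ≥ 3, q = p^f: it has a normal cyclic subgroup of order gcd(n, q − 1) (the diagonal automorphisms) whose quotient is the direct product of a cyclic group of order f (field automorphisms) and a group of order 2 (the inverse-transpose graph automorphism). -/
theorem result {F : Type*} [Field F] [Fintype F] {p f n : ℕ} [Fact p.Prime] (hf : 1 ≤ f) (hF : Fintype.card F = p ^ f) (hn : 3 ≤ n) : ∃ φ : Cfsg.Out (Matrix.ProjectiveSpecialLinearGroup (Fin n) F) →* Multiplicative (ZMod f × ZMod 2), Function.Surjective φ ∧ IsCyclic φ.ker ∧ Nat.card φ.ker = Nat.gcd n (p ^ f - 1) := by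
  classical
  obtain ⟨e⟩ := ringAut_cyclic (F := F) hF
  have h0 : Finite F := inferInstance
  have hex : ∀ α : MulAut (Matrix.ProjectiveSpecialLinearGroup (Fin n) F), ∃ (σ : F ≃+* F) (ε : ZMod 2), ∃ A : GL (Fin n) F,
      α = semiAut A σ * itAut ^ ε.val := fun α => by
    obtain ⟨A, σ, h | h⟩ := exists_semi (by omega : 2 ≤ n) α
    · exact ⟨σ, 0, A, by rw [h, ZMod.val_zero, pow_zero, mul_one]⟩
    · exact ⟨σ, 1, A, by rw [h, ZMod.val_one, pow_one]⟩
  have huniq : ∀ (A B : GL (Fin n) F) (σ τ : F ≃+* F) (a b : ZMod 2),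
      semiAut A σ * itAut ^ a.val = semiAut B τ * itAut ^ b.val → σ = τ ∧ a = b := by
    intro A B σ τ a b h
    have h01 : ∀ x : ZMod 2, x = 0 ∨ x = 1 := by decide
    rcases h01 a with rfl | rfl <;> rcases h01 b with rfl | rfl <;>
      simp only [ZMod.val_zero, ZMod.val_one, pow_zero, pow_one, mul_one] at h
    · exact ⟨((semi_eq_iff (by omega)).1 h).1, rfl⟩
    · exfalso
      rw [← inv_mul_eq_iff_eq_mul, semiAut_inv, semiAut_mul] at h
      exact it_ne_semi hn _ _ h.symm
    · exfalso
      rw [eq_comm, ← inv_mul_eq_iff_eq_mul, semiAut_inv, semiAut_mul] at h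
      exact it_ne_semi hn _ _ h.symm
    · exact ⟨((semi_eq_iff (by omega)).1 (mul_right_cancel h)).1, rfl⟩
  choose sg ep Am hA using hex
  have hchar : ∀ α A σ (a : ZMod 2), α = semiAut A σ * itAut ^ a.val → sg α = σ ∧ ep α = a := fun α A σ a h =>
    huniq _ _ _ _ _ _ ((hA α).symm.trans h)
  have hval : ∀ a b : ZMod 2, (itAut : MulAut (Matrix.ProjectiveSpecialLinearGroup (Fin n) F)) ^ (a + b).val =
      itAut ^ a.val * itAut ^ b.val := fun a b => by
    have h01 : ∀ x : ZMod 2, x = 0 ∨ x = 1 := by decide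
    rcases h01 a with rfl | rfl <;> rcases h01 b with rfl | rfl
    · simp
    · simp [ZMod.val_one]
    · simp [ZMod.val_one]
    · rw [show ((1 : ZMod 2) + 1) = 0 from rfl, ZMod.val_zero, pow_zero, ZMod.val_one, pow_one, itAut_sq]
  have hcomm : ∀ (a : ZMod 2) (B : GL (Fin n) F) (τ : F ≃+* F), ∃ C,
      itAut ^ a.val * semiAut B τ = semiAut C τ * itAut ^ a.val := fun a B τ => by
    have h01 : ∀ x : ZMod 2, x = 0 ∨ x = 1 := by decide
    rcases h01 a with rfl | rfl
    · exact ⟨B, by simp⟩
    · exact ⟨itGL B, by rw [ZMod.val_one, pow_one, it_semi]⟩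
  let φ : MulAut (Matrix.ProjectiveSpecialLinearGroup (Fin n) F) →* Multiplicative (ZMod f × ZMod 2) :=
    MonoidHom.mk' (fun α => Multiplicative.ofAdd (Multiplicative.toAdd (e (sg α)), ep α)) (fun α β => by
      obtain ⟨C, hC⟩ := hcomm (ep α) (Am β) (sg β)
      have h : α * β = semiAut (Am α * Matrix.GeneralLinearGroup.map (sg α).toRingHom C) (sg α * sg β) *
          itAut ^ (ep α + ep β).val := by
        conv_lhs => rw [hA α, hA β]
        rw [hval, mul_assoc, ← mul_assoc (itAut ^ _), hC, mul_assoc (semiAut C _), ← mul_assoc, semiAut_mul]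
        rfl
      obtain ⟨h1, h2⟩ := hchar _ _ _ _ h
      rw [h1, h2, map_mul]
      rfl)
  have hsurj : Function.Surjective φ := by
    intro y
    obtain ⟨h1, h2⟩ := hchar _ 1 (e.symm (Multiplicative.ofAdd (Multiplicative.toAdd y).1)) (Multiplicative.toAdd y).2 rfl
    refine ⟨semiAut 1 (e.symm (Multiplicative.ofAdd (Multiplicative.toAdd y).1)) *
      itAut ^ (Multiplicative.toAdd y).2.val, ?_⟩
    show Multiplicative.ofAdd _ = y
    rw [h1, h2, MulEquiv.apply_symm_apply]
    rfl
  have hker : φ.ker = Cfsg.inndiagPSL n F := by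
    ext α
    rw [MonoidHom.mem_ker, inndiag_iff_mem]
    constructor
    · intro h
      have h' : (Multiplicative.toAdd (e (sg α)), ep α) = (0, 0) := h
      rw [Prod.mk.injEq] at h'
      refine ⟨Am α, ?_⟩
      conv_lhs => rw [hA α]
      have hs : sg α = 1 := e.injective (by rw [map_one]; exact Multiplicative.toAdd.injective h'.1)
      rw [hs, h'.2, ZMod.val_zero, pow_zero, mul_one]
      rfl
    · rintro ⟨A, rfl⟩
      obtain ⟨h1, h2⟩ := hchar _ A (RingEquiv.refl F) 0 (by rw [ZMod.val_zero, pow_zero, mul_one])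
      show Multiplicative.ofAdd _ = 1
      rw [h1, h2, show (RingEquiv.refl F) = (1 : F ≃+* F) from rfl, map_one]
      rfl
  simpa [hF] using out_structure (by omega) φ hsurj hker
end Cfsg.Agent.S2601
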