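import Cfsg.Statements.S0813
import Cfsg.Agent.S2601
import Cfsg.Agent.S2602
import Cfsg.Agent.Lib.Classical.SLOrders
import Cfsg.Agent.Lib.Classical.SLBasic

set_option autoImplicit false
open Cfsg

namespace Cfsg.Agent.S0813

open Matrix

theorem psl_center_bot {F : Type*} [Field F] [Fintype F] {n : ℕ} (hn : 2 ≤ n) (h : n = 2 → 4 ≤ Fintype.card F) :
    Subgroup.center (ProjectiveSpecialLinearGroup (Fin n) F) = ⊥ := by
  haveI := CfsgLib.Classical.psl_fin_isSimpleGroup (F := F) hn h
  refine (IsSimpleGroup.eq_bot_or_eq_top_of_normal _ inferInstance).resolve_right fun htop => ?_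
  set i : Fin n := ⟨0, by omega⟩
  set j : Fin n := ⟨1, by omega⟩
  have hij : i ≠ j := by simp [i, j, Fin.ext_iff]
  set a : SpecialLinearGroup (Fin n) F := SpecialLinearGroup.transvection hij 1
  set b : SpecialLinearGroup (Fin n) F := SpecialLinearGroup.transvection hij.symm 1
  have hc : ((b * a : SpecialLinearGroup (Fin n) F) : ProjectiveSpecialLinearGroup (Fin n) F) =
      (a * b : SpecialLinearGroup (Fin n) F) := by
    rw [QuotientGroup.mk_mul, QuotientGroup.mk_mul]
    exact Subgroup.mem_center_iff.mp (htop ▸ Subgroup.mem_top _) _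
  rw [QuotientGroup.eq, Matrix.SpecialLinearGroup.mem_center_iff] at hc
  obtain ⟨r, -, hr⟩ := hc
  have hab : (a * b : SpecialLinearGroup (Fin n) F) =
      (b * a) * ((b * a)⁻¹ * (a * b)) := by group
  have hm : ((a * b : SpecialLinearGroup (Fin n) F) : Matrix (Fin n) (Fin n) F) =
      ((b * a : SpecialLinearGroup (Fin n) F) : Matrix (Fin n) (Fin n) F) *
        (((b * a)⁻¹ * (a * b) : SpecialLinearGroup (Fin n) F) : Matrix (Fin n) (Fin n) F) := by
    rw [← Matrix.SpecialLinearGroup.coe_mul]
    exact congrArg Subtype.val hab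
  rw [← hr, Matrix.SpecialLinearGroup.coe_mul, Matrix.SpecialLinearGroup.coe_mul] at hm
  have ha : (a : Matrix (Fin n) (Fin n) F) = 1 + Matrix.single i j 1 := rfl
  have hb : (b : Matrix (Fin n) (Fin n) F) = 1 + Matrix.single j i 1 := rfl
  rw [ha, hb, Matrix.scalar_apply] at hm
  have e1 := congrFun (congrFun hm i) j
  have e2 := congrFun (congrFun hm i) i
  simp [Matrix.mul_diagonal, add_mul, mul_add, Matrix.add_apply, Matrix.single_apply, Matrix.one_apply,
    hij, hij.symm] at e1 e2
  rw [← e1] at e2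
  simp at e2

/-- |Aut(PSL_n(q))|, q = p^f: for n ≥ 3 it is 2 f |PGL_n(q)|, and for n = 2 (q ≥ 4) it is f |PGL_2(q)|. -/
theorem result {F : Type*} [Field F] [Fintype F] (p f : ℕ) [Fact p.Prime] (hf : 1 ≤ f) (hF : Fintype.card F = p ^ f) (n : ℕ) (hn : 2 ≤ n) (h2 : n = 2 → 4 ≤ p ^ f) : Nat.card (MulAut (Matrix.ProjectiveSpecialLinearGroup (Fin n) F)) = (if n = 2 then 1 else 2) * f * Nat.card (Matrix.ProjGenLinGroup (Fin n) F) := by
  classical
  set G := ProjectiveSpecialLinearGroup (Fin n) F
  have hcF : n = 2 → 4 ≤ Fintype.card F := fun e => hF ▸ h2 e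
  have hinn : Nat.card (Cfsg.Inn G) = Nat.card G := by
    refine (Nat.card_congr (MonoidHom.ofInjective ?_).toEquiv).symm
    refine (injective_iff_map_eq_one _).mpr fun g hg => ?_
    have : g ∈ Subgroup.center G := Subgroup.mem_center_iff.mpr fun x => by
      have := MulEquiv.congr_fun hg x
      simp only [MulAut.conj_apply, MulAut.one_apply] at this
      exact (mul_inv_eq_iff_eq_mul.mp this).symm
    rw [psl_center_bot hn hcF] at this
    exact Subgroup.mem_bot.mp this
  have hout : Nat.card (Cfsg.Out G) = (if n = 2 then 1 else 2) * f * Nat.gcd n (p ^ f - 1) := by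
    rcases eq_or_ne n 2 with rfl | hne
    · obtain ⟨φ, hs, -, hk⟩ := Cfsg.Agent.S2602.result hf hF (h2 rfl)
      have := φ.ker.card_mul_index
      rw [hk, Subgroup.index_ker, MonoidHom.range_eq_top.mpr hs, Subgroup.card_top] at this
      simp only [Nat.card_congr Multiplicative.toAdd, Nat.card_zmod] at this
      rw [← this, if_pos rfl]; ring
    · obtain ⟨φ, hs, -, hk⟩ := Cfsg.Agent.S2601.result hf hF (show 3 ≤ n by omega)
      have := φ.ker.card_mul_index
      rw [hk, Subgroup.index_ker, MonoidHom.range_eq_top.mpr hs, Subgroup.card_top] at this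
      simp only [Nat.card_congr Multiplicative.toAdd, Nat.card_prod, Nat.card_zmod] at this
      rw [← this, if_neg hne]; ring
  have hpgl : Nat.card (ProjGenLinGroup (Fin n) F) = Nat.gcd n (p ^ f - 1) * Nat.card G := by
    haveI : NeZero n := ⟨by omega⟩
    rw [CfsgLib.Classical.card_psl_mul hF n (by omega)]
    have h1 := CfsgLib.Classical.card_pgl_mul (n := Fin n) (F := F)
    rw [← CfsgLib.Classical.card_units_mul_card_sl, mul_comm] at h1
    exact Nat.eq_of_mul_eq_mul_left Nat.card_pos h1
  rw [Subgroup.card_eq_card_quotient_mul_card_subgroup (Cfsg.Inn G), hinn, hpgl, ← mul_assoc]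
  congr 1

end Cfsg.Agent.S0813
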