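import Cfsg.Statements.S0814
import Cfsg.Agent.Lib.KnownC.AutPSp.Outer
-- import your own Cfsg.Agent.* helpers here

set_option autoImplicit false
open Cfsg

namespace Cfsg.Agent.S0814

/-- |Aut(PSp_2m(q))| = gcd(2, q−1) · f · |PSp_2m(q)| for q = p^f, m ≥ 2, (m, q) ≠ (2, 2), with an extra factor 2 exactly when m = 2 and p = 2. -/
theorem result {F : Type*} [Field F] [Fintype F] (p f : ℕ) [Fact p.Prime] (hf : 1 ≤ f) (hF : Fintype.card F = p ^ f) (m : ℕ) (hm : 2 ≤ m) (h22 : m = 2 → 3 ≤ p ^ f) : Nat.card (MulAut (Cfsg.PSp m F)) = (if m = 2 ∧ p = 2 then 2 else 1) * Nat.gcd 2 (p ^ f - 1) * f * Nat.card (Cfsg.PSp m F) := by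
  have hcast : (2 : F) = 0 ↔ p = 2 := by
    have h : ((Fintype.card F : ℕ) : F) = 0 := Nat.cast_card_eq_zero F
    rw [hF, Nat.cast_pow, pow_eq_zero_iff (by omega)] at h
    constructor
    · intro h2
      by_contra hne
      obtain ⟨a, ha⟩ := (Fact.out : p.Prime).odd_of_ne_two hne
      rw [ha, Nat.cast_add, Nat.cast_mul, Nat.cast_ofNat, h2, zero_mul, zero_add, Nat.cast_one] at h
      exact one_ne_zero h
    · rintro rfl
      exact_mod_cast h
  by_cases hc : m = 2 ∧ p = 2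
  · obtain ⟨rfl, rfl⟩ := hc
    rw [if_pos ⟨rfl, rfl⟩, CfsgLib.KnownC.AutPSp.card_aut_exc hF (hcast.2 rfl)]
  · rw [if_neg hc, one_mul,
      CfsgLib.KnownC.AutPSp.card_aut_semi hF hm (fun h h2 => hc ⟨h, hcast.1 h2⟩)]

end Cfsg.Agent.S0814
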