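import Cfsg.Statements.S0818
import Cfsg.Agent.Lib.KnownC.AutPOmega.MinusOut
-- import your own Cfsg.Agent.* helpers here

set_option autoImplicit false
open Cfsg

namespace Cfsg.Agent.S0818

/-- |Aut(PΩ⁻_2m(q))| for q = p^f, m ≥ 4 (form quadFormMinus (m−1) with anisotropic binary part): |PΩ⁻_2m(q)| times f, times 2 if p = 2, and times 4 or 8 if p is odd according as m(q−1)/2 is even or odd. -/
theorem result {F : Type*} [Field F] [Fintype F] (p f : ℕ) [Fact p.Prime] (hf : 1 ≤ f) (hF : Fintype.card F = p ^ f) (m : ℕ) (hm : 4 ≤ m) (a b : F) (hab : ∀ z₁ z₂ : F, z₁ ^ 2 + a * z₁ * z₂ + b * z₂ ^ 2 = 0 → z₁ = 0 ∧ z₂ = 0) : Nat.card (MulAut (Cfsg.POmega F (Cfsg.quadFormMinus (m - 1) F a b))) = (if p = 2 then 2 else (if Even (m * (p ^ f - 1) / 2) then 4 else 8)) * f * Nat.card (Cfsg.POmega F (Cfsg.quadFormMinus (m - 1) F a b)) := by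
  haveI := CfsgLib.KnownC.AutPOmega.octx_minus (F := F) (m := m - 1) (by omega) hab
  rw [(CfsgLib.KnownC.AutPOmega.card_out_minus (m - 1) hab hF).2]
  congr 2
  by_cases hp : p = 2
  · rw [if_pos hp]
    subst hp
    haveI : CharP F 2 := by
      obtain ⟨c, hc⟩ := CharP.exists F
      obtain ⟨n, hcp, hcn⟩ := FiniteField.card F c
      rw [hcn] at hF
      rwa [← (Nat.prime_dvd_prime_iff_eq hcp Nat.prime_two).1 (hcp.dvd_of_dvd_pow (hF ▸ dvd_pow_self c n.pos.ne'))]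
    exact (CfsgLib.KnownC.AutPOmega.minus_two (m - 1) hab).1
  · rw [if_neg hp]
    have hq : Odd (p ^ f) := ((Fact.out : p.Prime).odd_of_ne_two hp).pow
    rw [CfsgLib.KnownC.AutPOmega.minus_odd_relIndex (m - 1) hab (by rw [hF]; exact hq) (by omega), hF]
    have e : Even (m * (p ^ f - 1) / 2) ↔ ¬ (Even (m - 1) ∧ p ^ f % 4 = 3) := by
      obtain ⟨t, ht⟩ := hq
      rw [ht, show m * (2 * t + 1 - 1) / 2 = m * t from by
        rw [show 2 * t + 1 - 1 = 2 * t from by omega, mul_left_comm, Nat.mul_div_cancel_left _ two_pos],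
        Nat.even_mul, Nat.even_iff, Nat.even_iff, Nat.even_iff]
      omega
    by_cases hc : Even (m - 1) ∧ p ^ f % 4 = 3
    · rw [if_pos hc, if_neg (fun h => e.1 h hc)]
    · rw [if_neg hc, if_pos (e.2 hc)]

end Cfsg.Agent.S0818
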