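import Cfsg.Statements.S2362
import Cfsg.Agent.Lib.Orth.SingerUnipotent
import Cfsg.Agent.Lib.Classical.SympSinger
import Cfsg.Agent.Lib.Orth.Standard

set_option autoImplicit false
open Cfsg

namespace Cfsg.Agent.S2362

/-- Let F be a finite field of odd order and n ≥ 3. The simple orthogonal group PΩ(2n+1, F) (type B_n) and the projective symplectic group PSp(2n, F) (type C_n), which have the same order, do not have the same set of element orders. -/
theorem result {F : Type*} [Field F] [Fintype F] (hodd : Odd (Fintype.card F)) (n : ℕ) (hn : 3 ≤ n) :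
    Set.range (orderOf : Cfsg.POmega F (Cfsg.quadFormOdd n F) → ℕ) ≠ Set.range (orderOf : Cfsg.PSp n F → ℕ) := by
  intro heq
  obtain ⟨p, hpc⟩ := CharP.exists F
  obtain ⟨k, hpp, hk⟩ := FiniteField.card F p
  haveI : Fact p.Prime := ⟨hpp⟩
  have h2 : (2 : F) ≠ 0 := by
    intro h
    have h' : p ∣ 2 := (CharP.cast_eq_zero_iff F p 2).1 (by exact_mod_cast h)
    rw [(Nat.prime_dvd_prime_iff_eq hpp Nat.prime_two).1 h'] at hk
    rw [hk] at hodd
    exact Nat.not_even_iff_odd.2 hodd (Nat.even_pow.2 ⟨even_two, k.ne_zero⟩)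
  obtain ⟨m, rfl⟩ : ∃ m, n = m + 1 := ⟨n - 1, by omega⟩
  obtain ⟨x, hx⟩ := CfsgLib.Classical.SympSinger.exists_element (p := p) h2 (m := m) (by omega)
  have hmem : p * (Fintype.card F ^ m + 1) ∈
      Set.range (orderOf : Cfsg.POmega F (Cfsg.quadFormOdd (m + 1) F) → ℕ) := by
    rw [heq]; exact ⟨x, hx⟩
  obtain ⟨y, hy⟩ := hmem
  obtain ⟨g, rfl⟩ := QuotientGroup.mk_surjective y
  have hd : p * (Fintype.card F ^ m + 1) ∣ orderOf g := hy ▸ orderOf_map_dvd (QuotientGroup.mk' _) g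
  have hfin : IsOfFinOrder g := isOfFinOrder_of_finite g
  have hg' : orderOf (g ^ (orderOf g / (p * (Fintype.card F ^ m + 1)))) = p * (Fintype.card F ^ m + 1) := by
    rw [orderOf_pow' g (Nat.div_ne_zero_iff_of_dvd hd |>.2 ⟨hfin.orderOf_pos.ne', by
      exact Nat.mul_ne_zero hpp.ne_zero (Nat.succ_ne_zero _)⟩),
      Nat.gcd_eq_right (Nat.div_dvd_of_dvd hd), Nat.div_div_self hd hfin.orderOf_pos.ne']
  set g' := g ^ (orderOf g / (p * (Fintype.card F ^ m + 1)))
  let Q := CfsgLib.Orth.oddForm F (m + 1)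
  let e := CfsgLib.Orth.toOrth Q (Qf := Cfsg.quadFormOdd (m + 1) F) (CfsgLib.Orth.oddForm_apply (m + 1))
  refine CfsgLib.Orth.SingerUnipotent.orderOf_ne (p := p) h2 (CfsgLib.Orth.oddForm_nondeg (m + 1) h2)
    (m := m) (by omega) (by simp; omega) (e g'.1) ?_ ?_
  · exact (CfsgLib.Orth.mem_Omega_iff Q (CfsgLib.Orth.oddForm_apply (m + 1)) g'.1).1 g'.2
  · rw [MulEquiv.orderOf_eq, Subgroup.orderOf_coe, hg']

end Cfsg.Agent.S2362
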