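import Cfsg.Statements.S0823
import Cfsg.Agent.Lib.Classical.PermModels
import Cfsg.Agent.Lib.Classical.OrthCount
-- import your own Cfsg.Agent.* helpers here

set_option autoImplicit false
open Cfsg

namespace Cfsg.Agent.S0823

/-- SO_3(3) ≅ S_4: the determinant-one isometries of the form x_0² + x_1y_1 over the field with 3 elements form a group isomorphic to the symmetric group on 4 letters. -/
theorem result {F : Type*} [Field F] [Fintype F] (hF : Fintype.card F = 3) : Nonempty (↥(Cfsg.specialIsometryGroup F (Cfsg.quadFormOdd 1 F)) ≃* Equiv.Perm (Fin 4)) := by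
  classical
  let φ : ZMod 3 ≃+* F := ZMod.ringEquivOfPrime F Nat.prime_three hF
  let e := CfsgLib.Classical.PermModel.congrField φ (Qk := Cfsg.quadFormOdd 1 (ZMod 3))
    (Qf' := Cfsg.quadFormOdd 1 F) (fun v => by simp only [Cfsg.quadFormOdd, Function.comp_apply, map_add, map_mul, map_pow, map_sum])
  let f := e.toMonoidHom.comp (CfsgLib.Classical.PermModel.toIsom CfsgLib.Classical.PermModel.fourModel)
  have hinj : Function.Injective f :=
    e.injective.comp (CfsgLib.Classical.PermModel.toIsom_injective _ (Or.inr ⟨le_rfl, by decide⟩))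
  have h2 : (2 : F) ≠ 0 := fun h => by
    have h' : φ 2 = φ 0 := by rw [map_zero, map_ofNat]; exact h
    exact absurd (φ.injective h') (by decide)
  have hS : ∀ σ, f σ ∈ Cfsg.specialIsometryGroup F (Cfsg.quadFormOdd 1 F) := fun σ => by
    refine MonoidHom.mem_ker.2 (Units.ext ?_)
    show Matrix.det (φ.mapMatrix (CfsgLib.Classical.PermModel.mat CfsgLib.Classical.PermModel.fourModel σ)) = 1
    rw [← RingEquiv.map_det, CfsgLib.Classical.PermModel.det_fourModel, map_one]
  let f' := f.codRestrict (Cfsg.specialIsometryGroup F (Cfsg.quadFormOdd 1 F)) hS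
  have hinj' : Function.Injective f' := fun a b h => hinj (congrArg Subtype.val h)
  have hc : Nat.card ↥(Cfsg.isometryGroup F (Cfsg.quadFormOdd 1 F)) = 48 := by
    rw [Nat.card_congr (CfsgLib.Orth.toOrth _ (CfsgLib.Orth.oddForm_apply (F := F) 1)).toEquiv,
      CfsgLib.Classical.card_orth_odd hF h2 1]
    decide
  have hne : Cfsg.specialIsometryGroup F (Cfsg.quadFormOdd 1 F) ≠ ⊤ := fun htop => h2 (by
    have hm := htop.symm ▸ Subgroup.mem_top (⟨-1, fun u _ => by simp [Cfsg.quadFormOdd, Matrix.neg_mulVec]⟩ :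
      ↥(Cfsg.isometryGroup F (Cfsg.quadFormOdd 1 F)))
    have h := congrArg Units.val (MonoidHom.mem_ker.1 hm)
    change Matrix.det (-1 : Matrix (Unit ⊕ (Fin 1 ⊕ Fin 1)) (Unit ⊕ (Fin 1 ⊕ Fin 1)) F) = 1 at h
    rw [Matrix.det_neg, Matrix.det_one, mul_one] at h
    norm_num at h
    linear_combination -h)
  have hle : Nat.card ↥(Cfsg.specialIsometryGroup F (Cfsg.quadFormOdd 1 F)) ≤ 24 := by
    set S := Cfsg.specialIsometryGroup F (Cfsg.quadFormOdd 1 F)
    have hi := Subgroup.one_lt_index_of_ne_top hne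
    have hm := S.card_mul_index
    rw [hc] at hm
    by_contra hlt
    have : 48 < Nat.card S * S.index := lt_of_lt_of_le (by omega) (Nat.mul_le_mul_left (Nat.card S) hi)
    omega
  exact ⟨(MulEquiv.ofBijective f' (hinj'.bijective_of_nat_card_le (by
    rw [Nat.card_perm, Nat.card_fin]; exact hle))).symm⟩

end Cfsg.Agent.S0823
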