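import Cfsg.Statements.S0825
import Cfsg.Agent.Lib.Classical.PermModels
import Cfsg.Agent.Lib.Classical.OrthCount
-- import your own Cfsg.Agent.* helpers here

set_option autoImplicit false
open Cfsg

namespace Cfsg.Agent.S0825

/-- O⁺_6(2) ≅ S_8: the isometry group of the hyperbolic form x_1y_1 + x_2y_2 + x_3y_3 over the field with 2 elements is isomorphic to the symmetric group on 8 letters. -/
theorem result {F : Type*} [Field F] [Fintype F] (hF : Fintype.card F = 2) : Nonempty (↥(Cfsg.isometryGroup F (Cfsg.quadFormPlus 3 F)) ≃* Equiv.Perm (Fin 8)) := by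
  classical
  let φ : ZMod 2 ≃+* F := ZMod.ringEquivOfPrime F Nat.prime_two hF
  let e := CfsgLib.Classical.PermModel.congrField φ (Qk := Cfsg.quadFormPlus 3 (ZMod 2))
    (Qf' := Cfsg.quadFormPlus 3 F) (fun v => by simp [Cfsg.quadFormPlus])
  let f := e.toMonoidHom.comp (CfsgLib.Classical.PermModel.toIsom CfsgLib.Classical.PermModel.eightModel)
  have hinj : Function.Injective f :=
    e.injective.comp (CfsgLib.Classical.PermModel.toIsom_injective _ (Or.inl (by norm_num)))
  have hc : Nat.card ↥(Cfsg.isometryGroup F (Cfsg.quadFormPlus 3 F)) = 40320 := by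
    rw [Nat.card_congr (CfsgLib.Orth.toOrth _ (CfsgLib.Orth.plusForm_apply (F := F) 3)).toEquiv,
      CfsgLib.Classical.card_orth_plus hF 2]
    decide
  exact ⟨(MulEquiv.ofBijective f (hinj.bijective_of_nat_card_le (by
    rw [hc, Nat.card_perm, Nat.card_fin]; decide))).symm⟩

end Cfsg.Agent.S0825
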