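import Cfsg.Statements.S0828
import Cfsg.Agent.Lib.Classical.SympModels

set_option autoImplicit false
open Cfsg

namespace Cfsg.Agent.S0828

/-- The symplectic generalised quadrangle over a field with q elements: the number of 2-dimensional subspaces of F^4 on which the symplectic form vanishes is (q + 1)(q² + 1), and every non-zero vector lies in exactly q + 1 of them. -/
theorem result {F : Type*} [Field F] [Fintype F] {q : ℕ} (hF : Fintype.card F = q) : Nat.card {W : Submodule F (Fin 2 ⊕ Fin 2 → F) // Module.finrank F W = 2 ∧ ∀ u ∈ W, ∀ v ∈ W, Cfsg.sympForm 2 F u v = 0} = (q + 1) * (q ^ 2 + 1) ∧ ∀ v : Fin 2 ⊕ Fin 2 → F, v ≠ 0 → Nat.card {W : Submodule F (Fin 2 ⊕ Fin 2 → F) // Module.finrank F W = 2 ∧ v ∈ W ∧ ∀ u ∈ W, ∀ w ∈ W, Cfsg.sympForm 2 F u w = 0} = q + 1 := by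
  classical
  subst hF
  set q := Fintype.card F with hq
  have hA := CfsgLib.Classical.sympBil_isAlt (F := F) 2
  have hN := CfsgLib.Classical.sympBil_nondegenerate (F := F) 2
  let B := CfsgLib.Classical.sympBil F 2
  let L := {W : Submodule F (Fin 2 ⊕ Fin 2 → F) // Module.finrank F W = 2 ∧
    ∀ u ∈ W, ∀ v ∈ W, Cfsg.sympForm 2 F u v = 0}
  haveI : Finite (Submodule F (Fin 2 ⊕ Fin 2 → F)) := Finite.of_injective _ SetLike.coe_injective
  haveI : Fintype L := Fintype.ofFinite _
  have hq2 : 2 ≤ q := Fintype.one_lt_card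
  have hdim : Module.finrank F (Fin 2 ⊕ Fin 2 → F) = 4 := by simp
  have hcW : ∀ W : L, Nat.card W.1 = q ^ 2 := fun W => by
    rw [Module.natCard_eq_pow_finrank (K := F), W.2.1, Nat.card_eq_fintype_card]
  have hthrough : ∀ v : Fin 2 ⊕ Fin 2 → F, v ≠ 0 →
      (Finset.univ.filter fun W : L => v ∈ W.1).card = q + 1 := by
    intro v hv
    let S := Finset.univ.filter fun w : Fin 2 ⊕ Fin 2 → F => B v w = 0 ∧ w ∉ Submodule.span F {v}
    have hS : S.card + q = q ^ 3 := by
      have hker : Nat.card {w : Fin 2 ⊕ Fin 2 → F // B v w = 0} = q ^ 3 := by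
        rw [CfsgLib.Classical.card_linearMap_fibre (B v) ?_ 0, hdim]
        intro h
        exact hv (hN.1 v fun y => by simp [B] at h; simp [h])
      have hspan : Nat.card (Submodule.span F {v}) = q := by
        rw [Module.natCard_eq_pow_finrank (K := F), finrank_span_singleton hv, pow_one, Nat.card_eq_fintype_card]
      rw [Nat.card_eq_fintype_card, Fintype.card_subtype] at hker hspan
      have hsplit := Finset.card_filter_add_card_filter_not
        (s := Finset.univ.filter fun w : Fin 2 ⊕ Fin 2 → F => B v w = 0)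
        (p := fun w => w ∈ Submodule.span F {v})
      rw [Finset.filter_filter, Finset.filter_filter, hker] at hsplit
      have he : (Finset.univ.filter fun w : Fin 2 ⊕ Fin 2 → F => B v w = 0 ∧ w ∈ Submodule.span F {v}) =
          Finset.univ.filter fun w : Fin 2 ⊕ Fin 2 → F => w ∈ Submodule.span F {v} := by
        refine Finset.filter_congr fun w _ => ⟨fun h => h.2, fun h => ⟨?_, h⟩⟩
        obtain ⟨a, rfl⟩ := Submodule.mem_span_singleton.1 h
        simp [B, hA v]
      rw [he] at hsplit
      change (Finset.univ.filter _).card + q = _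
      omega
    let T := Finset.univ.filter fun W : L => v ∈ W.1
    have hspanle : ∀ W : L, v ∈ W.1 → Submodule.span F {v} ≤ W.1 := fun W hW =>
      Submodule.span_le.2 (Set.singleton_subset_iff.2 hW)
    have huniq : ∀ w, w ∉ Submodule.span F {v} → ∀ W : L, v ∈ W.1 → w ∈ W.1 →
        W.1 = Submodule.span F {v, w} := fun w hw W hvW hwW => by
      refine (Submodule.eq_of_le_of_finrank_le (Submodule.span_le.2 ?_) ?_).symm
      · rintro x (rfl | rfl)
        · exact hvW
        · exact hwW
      · rw [W.2.1]
        have hi : LinearIndependent F ![v, w] := by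
          rw [LinearIndependent.pair_iff' hv]
          exact fun a h => hw (Submodule.mem_span_singleton.2 ⟨a, h⟩)
        have := finrank_span_eq_card hi
        rw [Matrix.range_cons_cons_empty, Fintype.card_fin] at this
        rw [this]
    have hbi : S = T.biUnion fun W => Finset.univ.filter fun w => w ∈ W.1 ∧ w ∉ Submodule.span F {v} := by
      ext w
      simp only [S, T, Finset.mem_filter, Finset.mem_univ, true_and, Finset.mem_biUnion]
      constructor
      · rintro ⟨h1, h2⟩
        have hi : LinearIndependent F ![v, w] := by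
          rw [LinearIndependent.pair_iff' hv]
          exact fun a h => h2 (Submodule.mem_span_singleton.2 ⟨a, h⟩)
        have hfr := finrank_span_eq_card hi
        rw [Matrix.range_cons_cons_empty, Fintype.card_fin] at hfr
        refine ⟨⟨Submodule.span F {v, w}, hfr, ?_⟩, Submodule.subset_span (Set.mem_insert _ _),
          Submodule.subset_span (Set.mem_insert_of_mem _ rfl), h2⟩
        intro a ha b hb
        obtain ⟨a1, a2, rfl⟩ := Submodule.mem_span_pair.1 ha
        obtain ⟨b1, b2, rfl⟩ := Submodule.mem_span_pair.1 hb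
        rw [← CfsgLib.Classical.sympBil_apply]
        have h1' : CfsgLib.Classical.sympBil F 2 w v = 0 := hA.isRefl _ _ h1
        have h1'' : CfsgLib.Classical.sympBil F 2 v w = 0 := h1
        simp [hA v, hA w, h1', h1'']
      · rintro ⟨W, hvW, hwW, h2⟩
        exact ⟨(CfsgLib.Classical.sympBil_apply 2 v w).trans (W.2.2 v hvW w hwW), h2⟩
    have hper : ∀ W ∈ T, (Finset.univ.filter fun w => w ∈ W.1 ∧ w ∉ Submodule.span F {v}).card + q = q ^ 2 := by
      intro W hW
      have hvW : v ∈ W.1 := (Finset.mem_filter.1 hW).2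
      have hspan : Nat.card (Submodule.span F {v}) = q := by
        rw [Module.natCard_eq_pow_finrank (K := F), finrank_span_singleton hv, pow_one, Nat.card_eq_fintype_card]
      have h := hcW W
      rw [Nat.card_eq_fintype_card, Fintype.card_subtype] at h hspan
      have hsplit := Finset.card_filter_add_card_filter_not
        (s := Finset.univ.filter fun w : Fin 2 ⊕ Fin 2 → F => w ∈ W.1)
        (p := fun w => w ∈ Submodule.span F {v})
      rw [Finset.filter_filter, Finset.filter_filter, h] at hsplit
      have he : (Finset.univ.filter fun w : Fin 2 ⊕ Fin 2 → F => w ∈ W.1 ∧ w ∈ Submodule.span F {v}) =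
          Finset.univ.filter fun w : Fin 2 ⊕ Fin 2 → F => w ∈ Submodule.span F {v} :=
        Finset.filter_congr fun w _ => ⟨fun h => h.2, fun h => ⟨hspanle W hvW h, h⟩⟩
      rw [he] at hsplit
      omega
    rw [hbi, Finset.card_biUnion] at hS
    · have hsum : ∑ W ∈ T, ((Finset.univ.filter fun w => w ∈ W.1 ∧ w ∉ Submodule.span F {v}).card + q) = T.card * q ^ 2 := by
        rw [Finset.sum_congr rfl hper, Finset.sum_const, smul_eq_mul]
      rw [Finset.sum_add_distrib, Finset.sum_const, smul_eq_mul] at hsum
      change T.card = q + 1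
      zify at hS hsum ⊢
      have hq0 : (q : ℤ) * (q - 1) ≠ 0 := by
        have : (2 : ℤ) ≤ q := by exact_mod_cast hq2
        exact mul_ne_zero (by omega) (by omega)
      refine mul_right_cancel₀ hq0 ?_
      linear_combination hS - hsum
    · intro W₁ h₁ W₂ h₂ hne
      rw [Function.onFun, Finset.disjoint_left]
      intro w hw₁ hw₂
      simp only [Finset.mem_filter, Finset.mem_univ, true_and] at hw₁ hw₂
      exact hne (Subtype.ext ((huniq w hw₁.2 W₁ (Finset.mem_filter.1 h₁).2 hw₁.1).trans
        (huniq w hw₁.2 W₂ (Finset.mem_filter.1 h₂).2 hw₂.1).symm))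
  refine ⟨?_, fun v hv => ?_⟩
  · have hdc := Finset.sum_card_bipartiteAbove_eq_sum_card_bipartiteBelow
      (r := fun (W : L) (v : Fin 2 ⊕ Fin 2 → F) => v ∈ W.1)
      (s := Finset.univ) (t := Finset.univ.filter fun v : Fin 2 ⊕ Fin 2 → F => v ≠ 0)
    simp only [Finset.bipartiteAbove, Finset.bipartiteBelow] at hdc
    rw [Finset.sum_congr rfl fun v hv => hthrough v (Finset.mem_filter.1 hv).2, Finset.sum_const, smul_eq_mul,
      Finset.filter_ne', Finset.card_erase_of_mem (Finset.mem_univ _), Finset.card_univ, Fintype.card_fun] at hdc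
    have hW : ∀ W : L, ((Finset.univ.erase (0 : Fin 2 ⊕ Fin 2 → F)).filter fun v => v ∈ W.1).card = q ^ 2 - 1 := fun W => by
      rw [Finset.filter_erase, Finset.card_erase_of_mem (by simp), ← Fintype.card_subtype, ← Nat.card_eq_fintype_card, hcW]
    rw [Finset.sum_congr rfl fun W _ => hW W, Finset.sum_const, smul_eq_mul, Finset.card_univ] at hdc
    change Nat.card L = _
    rw [Nat.card_eq_fintype_card]
    simp only [Fintype.card_sum, Fintype.card_fin] at hdc
    change Fintype.card L * (q ^ 2 - 1) = (q ^ (2 + 2) - 1) * (q + 1) at hdc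
    have h1 : 1 ≤ q ^ 2 := Nat.one_le_pow _ _ (by omega)
    have h2 : 1 ≤ q ^ (2 + 2) := Nat.one_le_pow _ _ (by omega)
    zify [h1, h2] at hdc ⊢
    have hne : (q : ℤ) ^ 2 - 1 ≠ 0 := by
      have : (2 : ℤ) ≤ q := by exact_mod_cast hq2
      nlinarith
    refine mul_right_cancel₀ hne ?_
    linear_combination hdc
  · rw [← hthrough v hv, ← Fintype.card_subtype, ← Nat.card_eq_fintype_card]
    exact Nat.card_congr
      { toFun := fun W => ⟨⟨W.1, W.2.1, W.2.2.2⟩, W.2.2.1⟩
        invFun := fun W => ⟨W.1.1, W.1.2.1, W.2, W.1.2.2⟩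
        left_inv := fun W => rfl
        right_inv := fun W => rfl }

end Cfsg.Agent.S0828
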