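import Cfsg.Statements.S0829
import Cfsg.Agent.Lib.Classical.HermMatrixTS

set_option autoImplicit false
open Cfsg

namespace Cfsg.Agent.S0829

/-- The unitary quadrangle of PSU_4(q): with |F| = q², the number of 2-dimensional subspaces of F^4 on which the Hermitian form Σ x_i y_i^q vanishes is (q + 1)(q³ + 1). -/
theorem result {F : Type*} [Field F] [Fintype F] {q : ℕ} (hF : Fintype.card F = q ^ 2) : Nat.card {W : Submodule F (Fin 4 → F) // Module.finrank F W = 2 ∧ ∀ u ∈ W, ∀ v ∈ W, Cfsg.hermForm 4 F q u v = 0} = (q + 1) * (q ^ 3 + 1) := by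
  have key := CfsgLib.Classical.card_hermTS_mul (n := 4) hF 2 0 rfl
  have hq := CfsgLib.Classical.two_le_of_card_sq hF
  simp only [Finset.prod_range_succ, Finset.prod_range_zero, Fin.prod_univ_two, Nat.reduceMul, Nat.reduceAdd,
    Nat.reduceDiv, Nat.reduceSub, Nat.reduceEqDiff, Nat.even_iff, Nat.reduceMod, if_true, if_false, one_ne_zero,
    ↓reduceIte, Fin.val_zero, Fin.val_one, pow_zero, pow_one, one_mul, mul_one] at key
  rw [show (q ^ 2) ^ 2 = q ^ 4 by ring, show q ^ 4 - q ^ 2 = q ^ 2 * (q ^ 2 - 1) by rw [Nat.mul_sub]; ring_nf] at key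
  have h2 : 1 < q ^ 2 := Nat.one_lt_pow two_ne_zero (by omega)
  have h4 : 1 < q ^ 4 := Nat.one_lt_pow (by omega) (by omega)
  have hne : 0 < q ^ 6 * (q ^ 2 - 1) * (q ^ 4 - 1) :=
    Nat.mul_pos (Nat.mul_pos (pow_pos (by omega) 6) (by omega)) (by omega)
  refine Nat.eq_of_mul_eq_mul_right hne ?_
  linear_combination key

end Cfsg.Agent.S0829
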