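import Cfsg.Statements.S0831
import Cfsg.Agent.Lib.Classical.OrthApps2

set_option autoImplicit false
open Cfsg

namespace Cfsg.Agent.S0831

/-- The two families of maximal totally singular subspaces of the hyperbolic quadric: for the form Σ x_i y_i on F^(2m), m ≥ 1, and m-dimensional subspaces U, W, X on which it vanishes, the parities of m − dim(U ∩ W), m − dim(W ∩ X) and m − dim(U ∩ X) sum to an even number (so 'even codimension of the intersection' is an equivalence relation), and there exist two such subspaces meeting in codimension 1 (so there are exactly two classes). -/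
theorem result {F : Type*} [Field F] (m : ℕ) (hm : 1 ≤ m) : (∀ U W X : Submodule F (Fin m ⊕ Fin m → F), (Module.finrank F U = m ∧ ∀ w ∈ U, Cfsg.quadFormPlus m F w = 0) → (Module.finrank F W = m ∧ ∀ w ∈ W, Cfsg.quadFormPlus m F w = 0) → (Module.finrank F X = m ∧ ∀ w ∈ X, Cfsg.quadFormPlus m F w = 0) → Even ((m - Module.finrank F ↥(U ⊓ W)) + (m - Module.finrank F ↥(W ⊓ X)) + (m - Module.finrank F ↥(U ⊓ X)))) ∧ ∃ U W : Submodule F (Fin m ⊕ Fin m → F), (Module.finrank F U = m ∧ ∀ w ∈ U, Cfsg.quadFormPlus m F w = 0) ∧ (Module.finrank F W = m ∧ ∀ w ∈ W, Cfsg.quadFormPlus m F w = 0) ∧ Module.finrank F ↥(U ⊓ W) + 1 = m := by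
  classical
  set Q := CfsgLib.Orth.plusForm F m with hQdef
  have hQ := CfsgLib.Orth.plusForm_nondeg (F := F) m
  have hV : Module.finrank F (Fin m ⊕ Fin m → F) = 2 * m := by
    rw [Module.finrank_fintype_fun_eq_card, Fintype.card_sum, Fintype.card_fin]; omega
  have hlag : ∀ U : Submodule F (Fin m ⊕ Fin m → F),
      (Module.finrank F U = m ∧ ∀ w ∈ U, Cfsg.quadFormPlus m F w = 0) → CfsgLib.Orth.IsLagrangian Q U := fun U hU =>
    CfsgLib.Orth.isLagrangian_of_finrank hQ (fun u hu => (CfsgLib.Orth.plusForm_apply m u).symm.trans (hU.2 u hu))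
      (by rw [hV, hU.1])
  constructor
  · intro U W X hU hW hX
    have h := CfsgLib.Classical.lag_even_sum hQ U (hlag U hU) _ W X (hlag W hW) (hlag X hX) rfl
    simp only [CfsgLib.Orth.lagDist, hU.1, hW.1] at h
    rw [Nat.even_iff] at h ⊢
    omega
  · let f : (Fin m → F) →ₗ[F] (Fin m ⊕ Fin m → F) :=
      LinearMap.pi (Sum.elim (fun i => LinearMap.proj i) (fun _ => 0))
    let U := LinearMap.range f
    have hU : Module.finrank F U = m ∧ ∀ w ∈ U, Cfsg.quadFormPlus m F w = 0 := by
      refine ⟨?_, ?_⟩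
      · rw [LinearMap.finrank_range_of_inj fun x y h => funext fun i => ?_, Module.finrank_fin_fun]
        simpa [f] using congrFun h (Sum.inl i)
      · rintro _ ⟨x, rfl⟩
        simp [f, Cfsg.quadFormPlus]
    let i₀ : Fin m := ⟨0, hm⟩
    let a : Fin m ⊕ Fin m → F := Pi.single (Sum.inl i₀) 1 + Pi.single (Sum.inr i₀) 1
    have ha : Q a ≠ 0 := by simp [Q, a, ← CfsgLib.Orth.plusForm_apply, Cfsg.quadFormPlus, Pi.single_apply]
    let W := U.map ((CfsgLib.Orth.refl Q a).1 : (Fin m ⊕ Fin m → F) →ₗ[F] (Fin m ⊕ Fin m → F))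
    have hL := hlag U hU
    have hLW : CfsgLib.Orth.IsLagrangian Q W := CfsgLib.Orth.isLagrangian_map hL _
    have hW : Module.finrank F W = m ∧ ∀ w ∈ W, Cfsg.quadFormPlus m F w = 0 :=
      ⟨(LinearEquiv.finrank_map_eq _ _).trans hU.1, fun w hw => (CfsgLib.Orth.plusForm_apply m w).trans (hLW.1 w hw)⟩
    refine ⟨U, W, hU, hW, ?_⟩
    obtain ⟨k, hk⟩ := (CfsgLib.Orth.lagDist_refl hQ hL hL ha).2
    change CfsgLib.Orth.lagDist U U + CfsgLib.Orth.lagDist U W = _ at hk
    rw [CfsgLib.Orth.lagDist_self] at hk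
    simp only [CfsgLib.Orth.lagDist, hU.1] at hk
    have hP : U ⊓ LinearMap.ker (QuadraticMap.polarBilin Q a) ≤ U ⊓ W := fun v hv =>
      ⟨hv.1, ⟨v, hv.1, CfsgLib.Orth.refl_fix Q hv.2⟩⟩
    have h1 := Submodule.finrank_mono hP
    have h3 := Submodule.finrank_sup_add_finrank_inf_eq U (LinearMap.ker (QuadraticMap.polarBilin Q a))
    have h4 := LinearMap.finrank_range_add_finrank_ker (QuadraticMap.polarBilin Q a)
    have h5 := Submodule.finrank_le (LinearMap.range (QuadraticMap.polarBilin Q a))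
    have h6 := Submodule.finrank_le (U ⊔ LinearMap.ker (QuadraticMap.polarBilin Q a))
    rw [Module.finrank_self] at h5
    rw [hU.1] at h3
    have h7 := CfsgLib.Classical.lag_finrank_le (U := U) (W := W)
    rw [hU.1] at h7
    omega

end Cfsg.Agent.S0831
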