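import Cfsg.Statements.S0832
import Cfsg.Agent.Lib.Classical.OrthApps2

set_option autoImplicit false
open Cfsg

namespace Cfsg.Agent.S0832

/-- For the form Σ x_i y_i on F^(2m) over a finite field, m ≥ 1: an (m−1)-dimensional subspace on which the form vanishes is contained in exactly two m-dimensional subspaces on which it vanishes. -/
theorem result {F : Type*} [Field F] [Finite F] (m : ℕ) (hm : 1 ≤ m) (U : Submodule F (Fin m ⊕ Fin m → F)) (hU : Module.finrank F U + 1 = m ∧ ∀ u ∈ U, Cfsg.quadFormPlus m F u = 0) : Nat.card {W : Submodule F (Fin m ⊕ Fin m → F) // Module.finrank F W = m ∧ (∀ w ∈ W, Cfsg.quadFormPlus m F w = 0) ∧ U ≤ W} = 2 := by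
  classical
  set Q := CfsgLib.Orth.plusForm F m with hQdef
  have hQ := CfsgLib.Orth.plusForm_nondeg (F := F) m
  have hV : Module.finrank F (Fin m ⊕ Fin m → F) = 2 * m := by
    rw [Module.finrank_fintype_fun_eq_card, Fintype.card_sum, Fintype.card_fin]; omega
  let f : (Fin m → F) →ₗ[F] (Fin m ⊕ Fin m → F) :=
    LinearMap.pi (Sum.elim (fun i => LinearMap.proj i) (fun _ => 0))
  let X := LinearMap.range f
  have hX : Module.finrank F X = m := by
    rw [LinearMap.finrank_range_of_inj fun x y h => funext fun i => ?_, Module.finrank_fin_fun]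
    simpa [f] using congrFun h (Sum.inl i)
  have hX0 : ∀ w ∈ X, Q w = 0 := by
    rintro _ ⟨x, rfl⟩
    simp [Q, f, ← CfsgLib.Orth.plusForm_apply, Cfsg.quadFormPlus]
  have hU0 : ∀ u ∈ U, Q u = 0 := fun u hu => (CfsgLib.Orth.plusForm_apply m u).symm.trans (hU.2 u hu)
  obtain ⟨M, hUM, hM, hmax⟩ := CfsgLib.Classical.exists_max_ts_ge U hU0
  have h1 := CfsgLib.Classical.max_ts_le hQ hM hX0 hmax
  have h2 := CfsgLib.Classical.ts_finrank_le hQ hM
  have hL : CfsgLib.Orth.IsLagrangian Q M := CfsgLib.Orth.isLagrangian_of_finrank hQ hM (by omega)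
  rw [← CfsgLib.Classical.lag_through_two hQ hL hUM (by have := hU.1; omega)]
  refine Nat.card_congr (Equiv.subtypeEquivRight fun W => ⟨fun h => ⟨?_, h.2.2⟩, fun h => ?_⟩)
  · exact CfsgLib.Orth.isLagrangian_of_finrank hQ
      (fun w hw => (CfsgLib.Orth.plusForm_apply m w).symm.trans (h.2.1 w hw)) (by rw [hV, h.1])
  · have := CfsgLib.Orth.finrank_of_isLagrangian hQ h.1
    exact ⟨by omega, fun w hw => (CfsgLib.Orth.plusForm_apply m w).trans (h.1.1 w hw), h.2⟩

end Cfsg.Agent.S0832
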