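import Cfsg.Statements.S0833
import Cfsg.Agent.Lib.Classical.TensorForms
import Cfsg.Agent.Lib.Classical.SympBasic

set_option autoImplicit false
open Cfsg

namespace Cfsg.Agent.S0833

/-- If B₁, B₂ are non-degenerate alternating forms on U (dim 2k) and W (dim 2l), then B₁ ⊗ B₂ on U ⊗ W is symmetric, non-degenerate, and vanishes identically on some subspace of dimension 2kl (half of dim U ⊗ W). -/
theorem result {F U W : Type*} [Field F] [Fintype F] [AddCommGroup U] [Module F U] [FiniteDimensional F U] [AddCommGroup W] [Module F W] [FiniteDimensional F W] (B₁ : LinearMap.BilinForm F U) (B₂ : LinearMap.BilinForm F W) (h₁ : B₁.Nondegenerate) (h₂ : B₂.Nondegenerate) (hA₁ : B₁.IsAlt) (hA₂ : B₂.IsAlt) (k l : ℕ) (hU : Module.finrank F U = 2 * k) (hW : Module.finrank F W = 2 * l) : (B₁.tmul B₂).IsSymm ∧ (B₁.tmul B₂).Nondegenerate ∧ (∃ X : Submodule F (TensorProduct F U W), Module.finrank F X = 2 * k * l ∧ ∀ x ∈ X, ∀ y ∈ X, (B₁.tmul B₂) x y = 0) := by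
  classical
  have hs : (B₁.tmul B₂).IsSymm := ⟨fun x y => by
    induction x using TensorProduct.induction_on with
    | zero => simp
    | add x x' hx hx' => simp only [RingHom.id_apply] at hx hx' ⊢; rw [map_add, map_add, LinearMap.add_apply, hx, hx']
    | tmul u w =>
      induction y using TensorProduct.induction_on with
      | zero => simp
      | add y y' hy hy' => simp only [RingHom.id_apply] at hy hy' ⊢; rw [map_add, map_add, LinearMap.add_apply, hy, hy']
      | tmul u' w' =>
        rw [RingHom.id_apply, CfsgLib.Classical.TensorForms.tmul_apply, CfsgLib.Classical.TensorForms.tmul_apply,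
          ← LinearMap.IsAlt.neg hA₁ u u', ← LinearMap.IsAlt.neg hA₂ w w']
        ring⟩
  refine ⟨hs, CfsgLib.Classical.TensorForms.tmul_nondegenerate h₁ h₂ hs, ?_⟩
  obtain ⟨m, b, hb⟩ := CfsgLib.Classical.exists_sympBasis hA₁ h₁
  have hm : m = k := by
    have := Module.finrank_eq_card_basis b
    rw [hU] at this
    simp at this
    omega
  obtain ⟨X, hX, hXi⟩ := CfsgLib.Classical.TensorForms.exists_isotropic_tmul B₁ B₂
    (Submodule.span F (Set.range fun i => b (.inl i))) (fun x hx y hy => by
      obtain ⟨c, rfl⟩ := (Submodule.mem_span_range_iff_exists_fun F).1 hx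
      obtain ⟨d, rfl⟩ := (Submodule.mem_span_range_iff_exists_fun F).1 hy
      simp [map_sum, hb.2.1])
  refine ⟨X, hX.trans ?_, hXi⟩
  have hli : LinearIndependent F (fun i => b (.inl i)) := b.linearIndependent.comp Sum.inl Sum.inl_injective
  rw [finrank_span_eq_card hli, Fintype.card_fin, hW, hm]
  ring

end Cfsg.Agent.S0833
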