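import Cfsg.Statements.S0834
import Cfsg.Agent.Lib.Classical.Discriminant
-- import your own Cfsg.Agent.* helpers here

set_option autoImplicit false
open Cfsg

namespace Cfsg.Agent.S0834

/-- Over a finite field with 2 ≠ 0: if B₁ on U (dim 2k, k ≥ 1) and B₂ on W (dim 2l, l ≥ 1) are non-degenerate symmetric forms admitting no totally isotropic subspaces of dimensions k, resp. l (minus type), then B₁ ⊗ B₂ admits a totally isotropic subspace of dimension 2kl (plus type). -/
theorem result {F U W : Type*} [Field F] [Fintype F] [AddCommGroup U] [Module F U] [FiniteDimensional F U] [AddCommGroup W] [Module F W] [FiniteDimensional F W] (h2 : (2 : F) ≠ 0) (B₁ : LinearMap.BilinForm F U) (B₂ : LinearMap.BilinForm F W) (h₁ : B₁.Nondegenerate) (h₂ : B₂.Nondegenerate) (hS₁ : B₁.IsSymm) (hS₂ : B₂.IsSymm) (k l : ℕ) (hk : 1 ≤ k) (hl : 1 ≤ l) (hU : Module.finrank F U = 2 * k) (hW : Module.finrank F W = 2 * l) (hm₁ : ¬ (∃ X : Submodule F (U), Module.finrank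 F X = k ∧ ∀ x ∈ X, ∀ y ∈ X, (B₁) x y = 0)) (hm₂ : ¬ (∃ X : Submodule F (W), Module.finrank F X = l ∧ ∀ x ∈ X, ∀ y ∈ X, (B₂) x y = 0)) : (∃ X : Submodule F (TensorProduct F U W), Module.finrank F X = 2 * k * l ∧ ∀ x ∈ X, ∀ y ∈ X, (B₁.tmul B₂) x y = 0) := by
  classical
  let b := Module.finBasisOfFinrankEq F U hU
  let c := Module.finBasisOfFinrankEq F W hW
  have hd₁ := (LinearMap.BilinForm.nondegenerate_iff_det_ne_zero b).1 h₁
  have hd₂ := (LinearMap.BilinForm.nondegenerate_iff_det_ne_zero c).1 h₂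
  have hS : LinearMap.BilinForm.IsSymm (B₁.tmul B₂) :=
    ⟨fun x y => (LinearMap.IsSymm.tmul (B₁ := B₁) (B₂ := B₂) ⟨fun a a' => hS₁.eq a a'⟩ ⟨fun a a' => hS₂.eq a a'⟩).eq x y⟩
  refine CfsgLib.Classical.Discriminant.exists_lagrangian_of_isSquare h2 _
    (CfsgLib.Classical.TensorForms.tmul_nondegenerate h₁ h₂ ⟨fun x y => hS.eq x y⟩) hS
    (by rw [Module.finrank_tensorProduct, hU, hW]; ring) (b.tensorProduct c) ?_
  rw [CfsgLib.Classical.Discriminant.toMatrix_tmul, Matrix.det_kronecker, Fintype.card_fin, Fintype.card_fin,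
    show 2 * k * l = 2 * (k * l) by ring, pow_mul, neg_one_sq, one_pow, one_mul]
  exact ⟨(LinearMap.BilinForm.toMatrix b B₁).det ^ l * (LinearMap.BilinForm.toMatrix c B₂).det ^ k, by ring⟩

end Cfsg.Agent.S0834
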