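import Cfsg.Statements.S0835
import Cfsg.Agent.Lib.Classical.Discriminant
-- import your own Cfsg.Agent.* helpers here

set_option autoImplicit false
open Cfsg

namespace Cfsg.Agent.S0835

/-- Over a finite field with 2 ≠ 0: if B₁ on U (dim 2k, k ≥ 1) is non-degenerate symmetric of minus type (no totally isotropic k-subspace) and B₂ on W (dim 2l + 1) is non-degenerate symmetric, then B₁ ⊗ B₂ (dimension 2k(2l+1)) admits no totally isotropic subspace of dimension k(2l+1) (minus type). -/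
theorem result {F U W : Type*} [Field F] [Fintype F] [AddCommGroup U] [Module F U] [FiniteDimensional F U] [AddCommGroup W] [Module F W] [FiniteDimensional F W] (h2 : (2 : F) ≠ 0) (B₁ : LinearMap.BilinForm F U) (B₂ : LinearMap.BilinForm F W) (h₁ : B₁.Nondegenerate) (h₂ : B₂.Nondegenerate) (hS₁ : B₁.IsSymm) (hS₂ : B₂.IsSymm) (k l : ℕ) (hk : 1 ≤ k) (hU : Module.finrank F U = 2 * k) (hW : Module.finrank F W = 2 * l + 1) (hm₁ : ¬ (∃ X : Submodule F (U), Module.finrank F X = k ∧ ∀ x ∈ X, ∀ y ∈ X, (B₁) x y = 0)) : ¬ (∃ X : Submodule F (TensorProduct F U W), Module.finrank F X = k * (2 * l + 1) ∧ ∀ x ∈ X, ∀ y ∈ X, (B₁.tmul B₂) x y = 0) := by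
  classical
  let b := Module.finBasisOfFinrankEq F U hU
  let c := Module.finBasisOfFinrankEq F W hW
  have hd₁ := (LinearMap.BilinForm.nondegenerate_iff_det_ne_zero b).1 h₁
  have hd₂ := (LinearMap.BilinForm.nondegenerate_iff_det_ne_zero c).1 h₂
  have hS : LinearMap.BilinForm.IsSymm (B₁.tmul B₂) :=
    ⟨fun x y => (LinearMap.IsSymm.tmul (B₁ := B₁) (B₂ := B₂) ⟨fun a a' => hS₁.eq a a'⟩ ⟨fun a a' => hS₂.eq a a'⟩).eq x y⟩
  rintro ⟨X, hX, hiso⟩
  have h := CfsgLib.Classical.Discriminant.isSquare_of_lagrangian _ hS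
    (by rw [Module.finrank_tensorProduct, hU, hW]; ring) X hX hiso (b.tensorProduct c)
  rw [CfsgLib.Classical.Discriminant.toMatrix_tmul, Matrix.det_kronecker, Fintype.card_fin, Fintype.card_fin] at h
  obtain ⟨r, hr⟩ := h
  refine hm₁ (CfsgLib.Classical.Discriminant.exists_lagrangian_of_isSquare h2 B₁ h₁ hS₁ hU b ?_)
  set x := (LinearMap.BilinForm.toMatrix b B₁).det with hx
  set y := (LinearMap.BilinForm.toMatrix c B₂).det with hy
  set s := (-1 : F) ^ (k * l) * x ^ l * y ^ k with hsdef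
  have hs : s ≠ 0 := mul_ne_zero (mul_ne_zero (pow_ne_zero _ (neg_ne_zero.2 one_ne_zero)) (pow_ne_zero _ hd₁)) (pow_ne_zero _ hd₂)
  refine ⟨r / s, ?_⟩
  field_simp
  rw [hsdef, pow_two r]
  linear_combination hr

end Cfsg.Agent.S0835
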