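import Cfsg.Statements.S0837
import Cfsg.Agent.Lib.Classical.HermMatrix

set_option autoImplicit false
open Cfsg

namespace Cfsg.Agent.S0837

/-- If W ≤ F^n (|F| = q²) is a k-dimensional subspace on which the Hermitian form Σ x_i y_i^q is non-degenerate, then the stabiliser of W in GU_n(q) is isomorphic to GU_k(q) × GU_(n−k)(q). -/
theorem result {F : Type*} [Field F] [Fintype F] {q : ℕ} (hF : Fintype.card F = q ^ 2) (n k : ℕ) (hk : k ≤ n) (W : Submodule F (Fin n → F)) (hWk : Module.finrank F W = k) (hW : ∀ u ∈ W, (∀ v ∈ W, Cfsg.hermForm n F q u v = 0) → u = 0) : Nonempty (↥((Cfsg.stabilizing (Cfsg.glToMat (Fin n) F) (W : Set (Fin n → F))).subgroupOf (Cfsg.GU n F q)) ≃* ↥(Cfsg.GU k F q) × ↥(Cfsg.GU (n - k) F q)) := by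
  obtain ⟨σ, hσ, hc⟩ := CfsgLib.Classical.exists_frob hF
  set B := CfsgLib.Classical.stdHerm σ n with hB
  have hH := CfsgLib.Classical.stdHerm_isHermitian hc n
  have hnd : CfsgLib.Classical.NondegOn B W := CfsgLib.Classical.nondegOn_iff.2 fun x hx hxw =>
    hW x hx fun v hv => by rw [CfsgLib.Classical.hermForm_eq_stdHerm hσ]; exact hxw v hv
  have hndp := CfsgLib.Classical.nondegOn_perp (CfsgLib.Classical.stdHerm_sepRight n) hnd
  obtain ⟨e₁, he₁⟩ := (hH.restrict W).exists_isometry (CfsgLib.Classical.stdHerm_isHermitian hc k)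
    (CfsgLib.Classical.restrictForm_separatingRight hnd) (CfsgLib.Classical.stdHerm_sepRight k)
    (by rw [Module.finrank_fin_fun, hWk])
  obtain ⟨e₂, he₂⟩ := (hH.restrict (CfsgLib.Classical.perp B W)).exists_isometry
    (CfsgLib.Classical.stdHerm_isHermitian hc (n - k))
    (CfsgLib.Classical.restrictForm_separatingRight hndp) (CfsgLib.Classical.stdHerm_sepRight (n - k))
    (by have := hnd.finrank_perp; rw [Module.finrank_fin_fun, hWk] at this; rw [Module.finrank_fin_fun]; omega)
  let E := CfsgLib.Classical.guEquiv (n := n) hσ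
  have hS : (Cfsg.stabilizing (Cfsg.glToMat (Fin n) F) (W : Set (Fin n → F))).subgroupOf (Cfsg.GU n F q) =
      (CfsgLib.Classical.isomStab B W).comap E.toMonoidHom := by
    ext g
    rw [Subgroup.mem_comap, CfsgLib.Classical.mem_isomStab]
    constructor
    · intro h
      refine le_antisymm ?_ fun y hy => ⟨(E g).1.symm y, ?_, (E g).1.apply_symm_apply y⟩
      · rintro _ ⟨y, hy, rfl⟩
        exact (h y).1 hy
      · refine (h _).2 ?_
        change (E g).1 ((E g).1.symm y) ∈ W
        rw [LinearEquiv.apply_symm_apply]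
        exact hy
    · intro h v
      change v ∈ W ↔ (E g).1 v ∈ W
      refine ⟨fun hv => h.le ⟨v, hv, rfl⟩, fun hv => ?_⟩
      obtain ⟨w, hw, e⟩ := h.ge hv
      rwa [(E g).1.injective e] at hw
  exact ⟨((MulEquiv.subgroupCongr hS).trans ((E.subgroupMap _).trans (MulEquiv.subgroupCongr
    (Subgroup.map_comap_eq_self_of_surjective (f := E.toMonoidHom) E.surjective _)))).trans
    ((CfsgLib.Classical.isomStabEquiv hH.isRefl hnd).symm.trans
      (((CfsgLib.Classical.isomGroupCongr e₁ he₁).trans (CfsgLib.Classical.guEquiv hσ).symm).prodCongr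
        ((CfsgLib.Classical.isomGroupCongr e₂ he₂).trans (CfsgLib.Classical.guEquiv hσ).symm)))⟩

end Cfsg.Agent.S0837
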