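import Cfsg.Statements.S0838
import Cfsg.Agent.Lib.Orth.Isometry

set_option autoImplicit false
open Cfsg

namespace Cfsg.Agent.S0838

/-- Over a finite field with 2 ≠ 0 and n odd: two quadratic forms Q₁, Q₂ on F^n with non-degenerate polar forms are similar — there are an invertible linear map g and a scalar c ≠ 0 with Q₂ (g v) = c · Q₁ v for all v. -/
theorem result {F : Type*} [Field F] [Fintype F] (h2 : (2 : F) ≠ 0) {n : ℕ} (hn : Odd n) (Q₁ Q₂ : QuadraticForm F (Fin n → F)) (h₁ : (QuadraticMap.polarBilin Q₁).Nondegenerate) (h₂ : (QuadraticMap.polarBilin Q₂).Nondegenerate) : ∃ (g : (Fin n → F) ≃ₗ[F] (Fin n → F)) (c : F), c ≠ 0 ∧ ∀ v, Q₂ (g v) = c * Q₁ v := by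
  classical
  obtain ⟨j, rfl⟩ := hn
  obtain ⟨δ₁, e₁, hδ₁, he₁⟩ := CfsgLib.Orth.exists_diag h2 h₁ (Module.finrank_fin_fun F)
  obtain ⟨δ₂, e₂, hδ₂, he₂⟩ := CfsgLib.Orth.exists_diag h2 h₂ (Module.finrank_fin_fun F)
  set c := δ₂ / δ₁ with hc
  have hc0 : c ≠ 0 := div_ne_zero hδ₂ hδ₁
  obtain ⟨a, b, hab⟩ : ∃ a b : F, a ^ 2 + b ^ 2 = c := by
    obtain ⟨a, b, hab⟩ := FiniteField.exists_root_sum_quadratic (R := F) (f := Polynomial.X ^ 2)
      (g := Polynomial.X ^ 2 - Polynomial.C c) (Polynomial.degree_X_pow 2)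
      (Polynomial.degree_X_pow_sub_C (by omega) c)
      (by
        refine Nat.mod_two_ne_zero.1 fun h => ?_
        exact h2 (by
          haveI : CharP F 2 := ringChar.eq_iff.1 (FiniteField.even_card_iff_char_two.2 h)
          exact CharTwo.two_eq_zero))
    exact ⟨a, b, by simpa [Polynomial.eval_sub, sub_eq_zero, ← add_sub_assoc] using hab⟩
  let E : Fin (2 * j) ≃ Fin j ⊕ Fin j := ((finCongr (two_mul j)).trans finSumFinEquiv.symm)
  let L : (Fin (2 * j + 1) → F) →ₗ[F] (Fin (2 * j + 1) → F) :=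
    LinearMap.pi fun k => Fin.lastCases (motive := fun _ => (Fin (2 * j + 1) → F) →ₗ[F] F)
      (LinearMap.proj (Fin.last _))
      (fun k => match E k with
        | Sum.inl i => a • LinearMap.proj (E.symm (Sum.inl i)).castSucc - b • LinearMap.proj (E.symm (Sum.inr i)).castSucc
        | Sum.inr i => b • LinearMap.proj (E.symm (Sum.inl i)).castSucc + a • LinearMap.proj (E.symm (Sum.inr i)).castSucc) k
  have hL : ∀ v, CfsgLib.Orth.diagForm (2 * j) δ₂ (L v) = c * CfsgLib.Orth.diagForm (2 * j) δ₁ v := by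
    intro v
    rw [CfsgLib.Orth.diagForm_apply, CfsgLib.Orth.diagForm_apply, ← E.symm.sum_comp, ← E.symm.sum_comp,
      Fintype.sum_sum_type, Fintype.sum_sum_type, ← Finset.sum_add_distrib, ← Finset.sum_add_distrib, mul_add,
      Finset.mul_sum]
    congr 1
    · refine Finset.sum_congr rfl fun i _ => ?_
      simp [L, LinearMap.pi_apply]
      rw [← hab]
      ring
    · simp [L, LinearMap.pi_apply, hc]
      field_simp
  have hinj : Function.Injective L := by
    rw [injective_iff_map_eq_zero]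
    intro v hv
    refine e₁.injective ((h₁.1 (e₁ v) fun w => ?_).trans (map_zero e₁).symm)
    obtain ⟨u, rfl⟩ := e₁.surjective w
    have key : ∀ x, c * Q₁ (e₁ x) = Q₂ (e₂ (L x)) := fun x => by rw [he₁, he₂, hL]
    refine (mul_eq_zero.1 (?_ : c * _ = 0)).resolve_left hc0
    rw [QuadraticMap.polarBilin_apply_apply]
    rw [QuadraticMap.polar, mul_sub, mul_sub, ← map_add e₁, key, key, key, map_add L, hv, zero_add, map_zero,
      QuadraticMap.map_zero]
    ring
  let g := e₁.symm.trans ((LinearEquiv.ofInjectiveEndo L hinj).trans e₂)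
  refine ⟨g, c, hc0, fun v => ?_⟩
  change Q₂ (e₂ (L (e₁.symm v))) = _
  rw [he₂, hL, ← he₁, LinearEquiv.apply_symm_apply]

end Cfsg.Agent.S0838
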