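import Cfsg.Statements.S0839
import Cfsg.Agent.Lib.Classical.SLBasic

set_option autoImplicit false
open Cfsg

namespace Cfsg.Agent.S0839

/-- Every transvection t ∈ SL_(n+2)(F) (rank(t − 1) = 1, (t − 1)² = 0) is conjugate in SL_(n+2)(F) to 1 + v·e_0ᵀ for some column vector v with v_0 = 0 (the group A of matrices that are the identity except in the first column below the diagonal); the dimension is written n + 2 ≥ 2. -/
theorem result {F : Type*} [Field F] (n : ℕ) (t : Matrix.SpecialLinearGroup (Fin (n + 2)) F) (ht : Cfsg.IsTransvection (t : Matrix (Fin (n + 2)) (Fin (n + 2)) F)) : ∃ (g : Matrix.SpecialLinearGroup (Fin (n + 2)) F) (v : Fin (n + 2) → F), v 0 = 0 ∧ ((g⁻¹ * t * g : Matrix.SpecialLinearGroup (Fin (n + 2)) F) : Matrix (Fin (n + 2)) (Fin (n + 2)) F) = 1 + Matrix.vecMulVec v (Pi.single 0 1) := by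
  classical
  obtain ⟨hr, hsq⟩ := ht
  set M : Matrix (Fin (n + 2)) (Fin (n + 2)) F := (t : Matrix (Fin (n + 2)) (Fin (n + 2)) F) - 1 with hM
  obtain ⟨⟨w, hw⟩, hw0, hspan⟩ := finrank_eq_one_iff'.1 (show Module.finrank F (LinearMap.range M.mulVecLin) = 1 from hr)
  have hw0' : w ≠ 0 := fun h => hw0 (Subtype.ext h)
  choose φ hφ using fun j : Fin (n + 2) => hspan ⟨M.mulVec (Pi.single j 1), ⟨_, rfl⟩⟩
  have hMw : M = Matrix.vecMulVec w φ := by
    ext i j
    have := congrArg (fun x : LinearMap.range M.mulVecLin => (x : Fin (n + 2) → F) i) (hφ j)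
    simp [Matrix.vecMulVec_apply, Matrix.mulVec_single] at this ⊢
    rw [← this, mul_comm]
  have hφ0 : φ ≠ 0 := by
    intro h
    rw [hMw, h] at hr
    simp at hr
  have horth : φ ⬝ᵥ w = 0 := by
    rw [hMw, Matrix.vecMulVec_mul_vecMulVec] at hsq
    obtain ⟨i, hi⟩ := Function.ne_iff.1 hw0'
    obtain ⟨j, hj⟩ := Function.ne_iff.1 hφ0
    have := congrFun (congrFun hsq i) j
    simp_all [Matrix.vecMulVec_apply]
  have he : (Pi.single 0 1 : Fin (n + 2) → F) ≠ 0 := Pi.single_ne_zero_iff.2 one_ne_zero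
  obtain ⟨s, hs⟩ := MulAction.exists_smul_eq (Matrix.SpecialLinearGroup (Fin (n + 2)) F)
    (Projectivization.mk F _ he) (Projectivization.mk F φ hφ0)
  rw [Projectivization.smul_mk, Projectivization.mk_eq_mk_iff'] at hs
  obtain ⟨c, hc⟩ := hs
  change c • φ = (s : Matrix (Fin (n + 2)) (Fin (n + 2)) F).mulVec (Pi.single 0 1) at hc
  have hc0 : c ≠ 0 := by
    rintro rfl
    rw [zero_smul] at hc
    have hinj := Matrix.mulVec_injective_iff_isUnit.2 ((Matrix.isUnit_iff_isUnit_det _).2 (by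
      rw [s.2]; exact isUnit_one))
    exact he (hinj (a₁ := Pi.single 0 1) (a₂ := 0) (by simpa using hc.symm))
  let h : Matrix.SpecialLinearGroup (Fin (n + 2)) F := ⟨(s : Matrix (Fin (n + 2)) (Fin (n + 2)) F).transpose, by rw [Matrix.det_transpose]; exact s.2⟩
  set H : Matrix (Fin (n + 2)) (Fin (n + 2)) F := (s : Matrix (Fin (n + 2)) (Fin (n + 2)) F).transpose
  refine ⟨h⁻¹, c⁻¹ • H.mulVec w, ?_, ?_⟩
  · have : (H.mulVec w) 0 = c * (φ ⬝ᵥ w) := by
      rw [← smul_eq_mul, ← smul_dotProduct, hc, Matrix.mulVec_single_one]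
      rfl
    simp [this, horth]
  · have hdet : H.det = 1 := h.2
    have hinv : H * H.adjugate = 1 := by rw [Matrix.mul_adjugate, hdet, one_smul]
    rw [inv_inv]
    change H * (t : Matrix (Fin (n + 2)) (Fin (n + 2)) F) * H.adjugate = _
    have ht : (t : Matrix (Fin (n + 2)) (Fin (n + 2)) F) = 1 + Matrix.vecMulVec w φ := by
      rw [← hMw, hM, add_sub_cancel]
    have hrow : Matrix.vecMul φ H.adjugate = c⁻¹ • (Pi.single 0 1 : Fin (n + 2) → F) := by
      have h2 : Matrix.vecMul (Pi.single 0 1) H = c • φ := by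
        rw [hc, Matrix.vecMul_transpose]
      have : φ = c⁻¹ • Matrix.vecMul (Pi.single 0 1) H := by
        rw [h2, inv_smul_smul₀ hc0]
      rw [this, Matrix.smul_vecMul, Matrix.vecMul_vecMul, hinv, Matrix.vecMul_one]
    rw [ht, Matrix.mul_add, Matrix.mul_one, Matrix.add_mul, hinv, Matrix.mul_vecMulVec,
      Matrix.vecMulVec_mul, hrow, Matrix.vecMulVec_smul, Matrix.smul_vecMulVec]

end Cfsg.Agent.S0839
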