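import Cfsg.Statements.S0841
import Mathlib.GroupTheory.Commutator.Basic
import Mathlib.Tactic


set_option autoImplicit false
open Cfsg
open scoped commutatorElement

namespace Cfsg.Agent.S0841

/-- If the commutator subgroup of G lies in the centre, then for all x, y in G and every natural number n one has (x * y) ^ n = x ^ n * y ^ n * c ^ (n * (n - 1) / 2) with c = y⁻¹ * x⁻¹ * y * x. -/
theorem result {G : Type*} [Group G] (hG : commutator G ≤ Subgroup.center G) (x y : G) (n : ℕ) : (x * y) ^ n = x ^ n * y ^ n * (y⁻¹ * x⁻¹ * y * x) ^ (n * (n - 1) / 2) := by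
  set c := y⁻¹ * x⁻¹ * y * x with hc
  have hcz : c ∈ Subgroup.center G := hG <| by
    have h : c = ⁅y⁻¹, x⁻¹⁆ := by simp [hc, commutatorElement_def]
    rw [h, commutator_def]
    exact Subgroup.commutator_mem_commutator (Subgroup.mem_top _) (Subgroup.mem_top _)
  have hcc : ∀ (g : G) (k : ℕ), Commute g (c ^ k) := fun g k =>
    Subgroup.mem_center_iff.1 (pow_mem hcz k) g
  have hyx : y * x = x * y * c := by simp [hc, mul_assoc]
  have hyn : ∀ k : ℕ, y ^ k * x = x * y ^ k * c ^ k := by
    intro k
    induction k with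
    | zero => simp
    | succ k ih =>
      rw [pow_succ' y, mul_assoc, ih, ← mul_assoc, ← mul_assoc, hyx, pow_succ' c]
      have := hcc (y ^ k) 1
      rw [pow_one] at this
      simp only [mul_assoc]
      rw [← mul_assoc c, ← this.eq, mul_assoc]
  induction n with
  | zero => simp
  | succ k ih =>
    have hk : (k + 1) * (k + 1 - 1) / 2 = k * (k - 1) / 2 + k := by
      obtain _ | j := k
      · simp
      · have : (j + 1 + 1) * (j + 1 + 1 - 1) = (j + 1) * (j + 1 - 1) + (j + 1) * 2 := by
          simp only [Nat.add_sub_cancel]; ring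
        rw [this, Nat.add_mul_div_right _ _ (by norm_num : 0 < 2)]
    rw [pow_succ (x * y), ih, hk, pow_succ x, pow_succ y, pow_add]
    have e1 := hcc x (k * (k - 1) / 2)
    have e2 := hcc y (k * (k - 1) / 2)
    have e3 := hcc y k
    calc x ^ k * y ^ k * c ^ (k * (k - 1) / 2) * (x * y)
        = x ^ k * (y ^ k * x) * y * c ^ (k * (k - 1) / 2) := by
          simp only [mul_assoc]
          rw [← mul_assoc (c ^ (k * (k - 1) / 2)) x, ← e1.eq, mul_assoc, ← e2.eq]
      _ = _ := by
          rw [hyn]
          simp only [mul_assoc]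
          rw [← mul_assoc (c ^ k) y, ← e3.eq, mul_assoc]
          rw [(hcc (c ^ k) (k * (k - 1) / 2)).eq]

end Cfsg.Agent.S0841
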