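import Cfsg.Statements.S0842
import Cfsg.Agent.Lib.BrauerSuzuki.Derived
import Cfsg.Agent.Lib.BrauerSuzuki.Main
import Cfsg.Agent.Lib.Involution.ZStar.Main

set_option autoImplicit false
open Cfsg

namespace Cfsg.Agent.S0842

/-- Suppose a Sylow 2-subgroup S of the finite group G is generalized quaternion of order at least 16, and let D be the commutator subgroup of S, C its centralizer and N its normalizer in G. Then there is a subgroup K of odd order, contained in C and normalized by N, with K ⊔ S = N and K ⊔ (S ⊓ C) = C, and C has index 2 in N. -/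
theorem result {G : Type*} [Group G] [Finite G] (S : Sylow 2 G) (n : ℕ) (e : (S : Subgroup G) ≃* QuaternionGroup (2 ^ (n + 2))) (D : Subgroup G) (hD : D = ⁅(S : Subgroup G), (S : Subgroup G)⁆) : ∃ K : Subgroup G, Odd (Nat.card K) ∧ K ≤ Subgroup.centralizer (D : Set G) ∧ Subgroup.normalizer (D : Set G) ≤ Subgroup.normalizer (K : Set G) ∧ K ⊔ (S : Subgroup G) = Subgroup.normalizer (D : Set G) ∧ K ⊔ ((S : Subgroup G) ⊓ Subgroup.centralizer (D : Set G)) = Subgroup.centralizer (D : Set G) ∧ ((Subgroup.centralizer (D : Set G)).subgroupOf (Subgroup.normalizer (D : Set G))).index = 2 := by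
  classical
  haveI := Fact.mk Nat.prime_two
  set N := Subgroup.normalizer (D : Set G)
  set C := Subgroup.centralizer (D : Set G)
  have hCN : C ≤ N := Subgroup.centralizer_le_normalizer _
  have hcyc := CfsgLib.BrauerSuzuki.isCyclic_derived S e hD
  haveI := hcyc
  have hcard := CfsgLib.BrauerSuzuki.card_derived S e hD
  have hDS : D ≤ (S : Subgroup G) := by rw [hD]; exact Subgroup.commutator_le_self _
  have hSN : (S : Subgroup G) ≤ N := by
    intro s hs
    refine Subgroup.mem_normalizer_iff_map_conj_eq.mpr ?_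
    refine Subgroup.eq_of_le_of_card_ge ?_ (Subgroup.card_map_of_injective (MulAut.conj s).injective).ge
    rintro _ ⟨d, hd, rfl⟩
    show s * d * s⁻¹ ∈ D
    rw [show s * d * s⁻¹ = (s * d * s⁻¹ * d⁻¹) * d by group]
    exact mul_mem (hD ▸ Subgroup.commutator_mem_commutator hs (hDS hd)) hd
  have hnpc := CfsgLib.BrauerSuzuki.normalizer_derived_npc S e hD
  let K : Subgroup G := (Cfsg.pResidual 2 ↥N).map N.subtype
  have hodd : Odd (Nat.card K) := by
    show Odd (Nat.card ↥((Cfsg.pResidual 2 ↥N).map N.subtype))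
    rw [Subgroup.card_map_of_injective N.subtype_injective]
    exact Nat.coprime_two_right.mp (CfsgLib.Fusion.Basic.npc_iff_coprime.mp hnpc)
  have hKN : K ≤ N := Subgroup.map_subtype_le _
  have hKC : K ≤ C := by
    intro k hk
    refine CfsgLib.BrauerSuzuki.cyclic_fixed (IsPGroup.of_card hcard) (hKN hk) ?_
    refine hodd.of_dvd_nat ?_
    rw [← Subgroup.orderOf_mk k hk]
    exact orderOf_dvd_natCard _
  have hnorm : N ≤ Subgroup.normalizer (K : Set G) := by
    intro g hg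
    refine Subgroup.mem_normalizer_iff_map_conj_eq.mpr ?_
    refine Subgroup.eq_of_le_of_card_ge ?_ (Subgroup.card_map_of_injective (MulAut.conj g).injective).ge
    rintro _ ⟨_, ⟨k, hk, rfl⟩, rfl⟩
    exact ⟨⟨g, hg⟩ * k * ⟨g, hg⟩⁻¹, (inferInstance : (Cfsg.pResidual 2 ↥N).Normal).conj_mem k hk _, rfl⟩
  have hfac : ∀ g ∈ N, ∃ k ∈ K, ∃ s ∈ (S : Subgroup G), g = k * s := by
    intro g hg
    obtain ⟨c, hc, s, hs, he⟩ := CfsgLib.Fusion.Basic.exists_eq_pResidual_mul (S.subtype hSN) (⟨g, hg⟩ : ↥N)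
    exact ⟨c, ⟨c, hc, rfl⟩, s, hs, congrArg Subtype.val he⟩
  refine ⟨K, hodd, hKC, hnorm, ?_, ?_, ?_⟩
  · refine le_antisymm (sup_le hKN hSN) fun g hg => ?_
    obtain ⟨k, hk, s, hs, rfl⟩ := hfac g hg
    exact Subgroup.mul_mem_sup hk hs
  · refine le_antisymm (sup_le hKC inf_le_right) fun g hg => ?_
    obtain ⟨k, hk, s, hs, rfl⟩ := hfac g (hCN hg)
    exact Subgroup.mul_mem_sup hk ⟨hs, by simpa using mul_mem (inv_mem (hKC hk)) hg⟩
  · rw [Subgroup.index_eq_two_iff]
    set x : ↥(S : Subgroup G) := e.symm (QuaternionGroup.xa 0)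
    have hiff : ∀ (k : G) (_ : k ∈ K) (s : G) (hs : s ∈ (S : Subgroup G)),
        k * s ∈ C ↔ e ⟨s, hs⟩ ∈ CfsgLib.BrauerSuzuki.cyclicPart (2 ^ (n + 2)) := fun k hk s hs => by
      rw [← CfsgLib.BrauerSuzuki.mem_centralizer_derived_iff S e hD hs]
      exact C.mul_mem_cancel_left (hKC hk)
    refine ⟨⟨x, hSN x.2⟩, fun b => ?_⟩
    obtain ⟨k, hk, s, hs, hb⟩ := hfac b b.2
    show Xor' ((b : G) * (x : G) ∈ C) ((b : G) ∈ C)
    rw [hb, mul_assoc, hiff k hk _ (mul_mem hs x.2), hiff k hk s hs]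
    have he : e ⟨s * (x : G), mul_mem hs x.2⟩ = e ⟨s, hs⟩ * QuaternionGroup.xa 0 := by
      rw [show (⟨s * (x : G), mul_mem hs x.2⟩ : ↥(S : Subgroup G)) = ⟨s, hs⟩ * x from rfl, map_mul, e.apply_symm_apply]
    rw [he]
    rcases e ⟨s, hs⟩ with i | i
    · exact Or.inr ⟨CfsgLib.BrauerSuzuki.a_mem_cyclicPart i, by
        rw [QuaternionGroup.a_mul_xa]; exact CfsgLib.BrauerSuzuki.xa_notMem_cyclicPart _⟩
    · exact Or.inl ⟨by rw [QuaternionGroup.xa_mul_xa]; exact CfsgLib.BrauerSuzuki.a_mem_cyclicPart _,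
        CfsgLib.BrauerSuzuki.xa_notMem_cyclicPart i⟩

end Cfsg.Agent.S0842
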