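import Cfsg.Statements.S0843
import Cfsg.Agent.Lib.BrauerSuzuki.Derived
import Cfsg.Agent.Lib.BrauerSuzuki.Main
import Cfsg.Agent.Lib.Involution.ZStar.Main

set_option autoImplicit false
open Cfsg

namespace Cfsg.Agent.S0843

/-- Suppose a Sylow 2-subgroup S of the finite group G is generalized quaternion of order at least 16; let D be the commutator subgroup of S and X the set of elements of the centralizer of D whose order is divisible by the order of D. Then D is contained in the cyclic subgroup generated by any element of X; an element of G conjugating some element of X into the centralizer of D normalizes D; and the normalizer of D maps X to itself under conjugation. -/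
theorem result {G : Type*} [Group G] [Finite G] (S : Sylow 2 G) (n : ℕ) (e : (S : Subgroup G) ≃* QuaternionGroup (2 ^ (n + 2))) (D : Subgroup G) (hD : D = ⁅(S : Subgroup G), (S : Subgroup G)⁆) : (∀ y : G, y ∈ Subgroup.centralizer (D : Set G) → Nat.card D ∣ orderOf y → D ≤ Subgroup.zpowers y) ∧ (∀ g y : G, y ∈ Subgroup.centralizer (D : Set G) → Nat.card D ∣ orderOf y → g * y * g⁻¹ ∈ Subgroup.centralizer (D : Set G) → g ∈ Subgroup.normalizer (D : Set G)) ∧ (∀ g y : G, g ∈ Subgroup.normalizer (D : Set G) → y ∈ Subgroup.centralizer (D : Set G) → Nat.card D ∣ orderOf y → g * y * g⁻¹ ∈ Subgroup.centralizer (D : Set G) ∧ Nat.card D ∣ orderOf (g * y * g⁻¹)) := by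
  haveI := CfsgLib.BrauerSuzuki.isCyclic_derived S e hD
  refine ⟨fun y => CfsgLib.BrauerSuzuki.derived_le_zpowers S e hD, fun g y hy hd hg => ?_, fun g y hg hy hd => ?_⟩
  · have h1 := CfsgLib.BrauerSuzuki.derived_le_zpowers S e hD hy hd
    have hd' : Nat.card D ∣ orderOf (g * y * g⁻¹) := by rwa [CfsgLib.BrauerSuzuki.orderOf_conj']
    have h2 := CfsgLib.BrauerSuzuki.derived_le_zpowers S e hD hg hd'
    refine Subgroup.mem_normalizer_iff_map_conj_eq.mpr ?_
    haveI : IsCyclic ↥(Subgroup.zpowers (g * y * g⁻¹)) := Subgroup.isCyclic_zpowers _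
    refine CfsgLib.BrauerSuzuki.eq_of_card_eq_of_le_cyclic (R := Subgroup.zpowers (g * y * g⁻¹)) ?_ h2
      (Subgroup.card_map_of_injective (MulAut.conj g).injective)
    rintro _ ⟨d, hd'', rfl⟩
    obtain ⟨i, rfl⟩ := Subgroup.mem_zpowers_iff.mp (h1 hd'')
    refine Subgroup.mem_zpowers_iff.mpr ⟨i, ?_⟩
    show (g * y * g⁻¹) ^ i = g * y ^ i * g⁻¹
    rw [conj_zpow]
  · refine ⟨Subgroup.mem_centralizer_iff.mpr fun d hd' => ?_, by rwa [CfsgLib.BrauerSuzuki.orderOf_conj']⟩
    have hd'' : g⁻¹ * d * g ∈ D := by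
      have := (Subgroup.mem_normalizer_iff.mp (inv_mem hg) d).mp hd'
      rwa [inv_inv] at this
    have := Subgroup.mem_centralizer_iff.mp hy _ hd''
    calc d * (g * y * g⁻¹) = g * ((g⁻¹ * d * g) * y) * g⁻¹ := by group
      _ = g * (y * (g⁻¹ * d * g)) * g⁻¹ := by rw [this]
      _ = _ := by group

end Cfsg.Agent.S0843
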