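import Cfsg.Statements.S0844
import Cfsg.Agent.Lib.BrauerSuzuki.Main

set_option autoImplicit false
open Cfsg

namespace Cfsg.Agent.S0844

/-- Suppose a Sylow 2-subgroup S of the finite group G is generalized quaternion of order at least 16. Then G has two non-principal irreducible characters χ₁ and χ₂ with χ₁ 1 = χ₂ 1 + 1 such that χ₁ g - χ₂ g = 1 for every element g whose order is not divisible by 4. -/
theorem result {G : Type*} [Group G] [Fintype G] (S : Sylow 2 G) (n : ℕ) (e : (S : Subgroup G) ≃* QuaternionGroup (2 ^ (n + 2))) : ∃ χ₁ χ₂ : G → ℂ, Cfsg.IsIrrCharacter G χ₁ ∧ Cfsg.IsIrrCharacter G χ₂ ∧ χ₁ ≠ (fun _ => 1) ∧ χ₂ ≠ (fun _ => 1) ∧ χ₁ 1 = χ₂ 1 + 1 ∧ ∀ g : G, ¬ 4 ∣ orderOf g → χ₁ g - χ₂ g = 1 := by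
  obtain ⟨θ, A, B, hθ, hA, hB, -, hcA, hcB, hzero, hexp⟩ := CfsgLib.BrauerSuzuki.exists_theta16
    (k := 2 ^ (n + 1)) (pow_succ' 2 (n + 1)) ⟨2 ^ n, by rw [pow_succ, pow_succ]; ring⟩ ⟨n + 2, rfl⟩ S e
  have hv : ∀ g : G, ¬ 4 ∣ orderOf g →
      (1 : ℂ) + ((CfsgLib.BrauerSuzuki.coeff θ A : ℂ) * (A : G → ℂ) g + (CfsgLib.BrauerSuzuki.coeff θ B : ℂ) * (B : G → ℂ) g) = 0 := by
    intro g hg
    have h := CfsgLib.BrauerSuzuki.eq_sum_coeff hθ g
    rw [hzero g hg, hexp fun χ => (χ : G → ℂ) g] at h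
    exact h.symm
  have h1 := hv 1 (by rw [orderOf_one]; norm_num)
  rw [CfsgLib.Blocks.irr_one_eq, CfsgLib.Blocks.irr_one_eq] at h1
  have hdA := CfsgLib.Blocks.charDegree_pos A
  have hdB := CfsgLib.Blocks.charDegree_pos B
  have hne : ∀ χ : Cfsg.IrrCharacter G, χ ≠ CfsgLib.Blocks.trivChar G → (χ : G → ℂ) ≠ fun _ => 1 :=
    fun χ h h' => h (Subtype.ext h')
  have h1' : (1 : ℤ) + (CfsgLib.BrauerSuzuki.coeff θ A * (Cfsg.charDegree (A : G → ℂ) : ℤ) +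
      CfsgLib.BrauerSuzuki.coeff θ B * (Cfsg.charDegree (B : G → ℂ) : ℤ)) = 0 := by exact_mod_cast h1
  rcases hcA with ha | ha <;> rcases hcB with hb | hb <;> rw [ha, hb] at h1' hv
  · omega
  · refine ⟨(B : G → ℂ), (A : G → ℂ), B.2, A.2, hne B hB, hne A hA, ?_, fun g hg => ?_⟩
    · rw [CfsgLib.Blocks.irr_one_eq, CfsgLib.Blocks.irr_one_eq]
      have h' : Cfsg.charDegree (B : G → ℂ) = Cfsg.charDegree (A : G → ℂ) + 1 := by omega
      exact_mod_cast h'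
    · have := hv g hg
      push_cast at this
      linear_combination -this
  · refine ⟨(A : G → ℂ), (B : G → ℂ), A.2, B.2, hne A hA, hne B hB, ?_, fun g hg => ?_⟩
    · rw [CfsgLib.Blocks.irr_one_eq, CfsgLib.Blocks.irr_one_eq]
      have h' : Cfsg.charDegree (A : G → ℂ) = Cfsg.charDegree (B : G → ℂ) + 1 := by omega
      exact_mod_cast h'
    · have := hv g hg
      push_cast at this
      linear_combination -this
  · omega

end Cfsg.Agent.S0844
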