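import Cfsg.Statements.S0845
import Cfsg.Agent.Lib.BrauerSuzuki.Derived
import Cfsg.Agent.Lib.BrauerSuzuki.Main
import Cfsg.Agent.Lib.Involution.ZStar.Main

set_option autoImplicit false
open Cfsg

namespace Cfsg.Agent.S0845

/-- Suppose a Sylow 2-subgroup S of the finite group G is generalized quaternion of order at least 16. Then G has a normal subgroup M of even order such that G / M is non-abelian, that is, M does not contain the commutator subgroup of G. -/
theorem result {G : Type*} [Group G] [Finite G] (S : Sylow 2 G) (n : ℕ) (e : (S : Subgroup G) ≃* QuaternionGroup (2 ^ (n + 2))) : ∃ M : Subgroup G, M.Normal ∧ Even (Nat.card M) ∧ ¬ commutator G ≤ M := by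
  haveI := Fact.mk Nat.prime_two
  set O := Cfsg.oddCore G
  haveI hOn : O.Normal := CfsgLib.Involution.ZStar.oddCore_normal
  set M := (Subgroup.center (G ⧸ O)).comap (QuotientGroup.mk' O)
  obtain ⟨v, hv⟩ : ∃ v : G, orderOf v = 2 := exists_prime_orderOf_dvd_card' 2 (by
    refine dvd_trans ?_ (Subgroup.card_subgroup_dvd_card (S : Subgroup G))
    rw [Nat.card_congr e.toEquiv, Nat.card_eq_fintype_card, QuaternionGroup.card]
    exact ⟨2 * 2 ^ (n + 2), by ring⟩)
  have hU := CfsgLib.BrauerSuzuki.uniqueInv_of_quaternion S e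
  have hvM : v ∈ M := by
    show QuotientGroup.mk' O v ∈ Subgroup.center (G ⧸ O)
    rw [Subgroup.mem_center_iff]
    intro q
    obtain ⟨g, rfl⟩ := QuotientGroup.mk'_surjective O q
    have h := CfsgLib.Involution.ZStar.starCentral G v
      ⟨hv, fun x hx => hU _ _ (by rw [CfsgLib.BrauerSuzuki.orderOf_conj', hv]) hv hx.symm⟩ g
    have h' : QuotientGroup.mk' O (v * g * v⁻¹ * g⁻¹) = 1 := (QuotientGroup.eq_one_iff _).mpr h
    rw [map_mul, map_mul, map_mul, map_inv, map_inv, mul_inv_eq_one, mul_inv_eq_iff_eq_mul] at h'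
    exact h'.symm
  refine ⟨M, inferInstance, ?_, fun hle => ?_⟩
  · rw [even_iff_two_dvd, ← hv, ← Subgroup.orderOf_mk v hvM]
    exact orderOf_dvd_natCard _
  -- otherwise the derived subgroup of `S` would be central in `S`
  set D := ⁅(S : Subgroup G), (S : Subgroup G)⁆ with hD
  have hDS : D ≤ (S : Subgroup G) := Subgroup.commutator_le_self _
  have hcen : ∀ d ∈ D, ∀ s ∈ (S : Subgroup G), d * s = s * d := by
    intro d hd s hs
    have hdM : d ∈ M := hle (by
      rw [_root_.commutator_def]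
      exact Subgroup.commutator_mono le_top le_top hd)
    have hc : QuotientGroup.mk' O d ∈ Subgroup.center (G ⧸ O) := hdM
    have hmem : s * d * s⁻¹ * d⁻¹ ∈ O := by
      apply (QuotientGroup.eq_one_iff _).mp
      show QuotientGroup.mk' O (s * d * s⁻¹ * d⁻¹) = 1
      rw [map_mul, map_mul, map_mul, map_inv, map_inv, Subgroup.mem_center_iff.mp hc, mul_inv_cancel_right,
        mul_inv_cancel]
    have hS : s * d * s⁻¹ * d⁻¹ ∈ (S : Subgroup G) :=
      (S : Subgroup G).mul_mem ((S : Subgroup G).mul_mem ((S : Subgroup G).mul_mem hs (hDS hd)) (inv_mem hs)) (inv_mem (hDS hd))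
    have hbot : (S : Subgroup G) ⊓ O = ⊥ := CfsgLib.Fusion.Basic.inf_eq_bot_of_coprime S.2
      (Nat.coprime_two_right.mpr CfsgLib.Involution.ZStar.odd_card_oddCore)
    have h1 : s * d * s⁻¹ * d⁻¹ ∈ (S : Subgroup G) ⊓ O := ⟨hS, hmem⟩
    rw [hbot, Subgroup.mem_bot, mul_inv_eq_one, mul_inv_eq_iff_eq_mul] at h1
    exact h1.symm
  have hx : ((e.symm (QuaternionGroup.xa 0) : ↥(S : Subgroup G)) : G) ∈ Subgroup.centralizer (D : Set G) :=
    Subgroup.mem_centralizer_iff.mpr fun d hd => hcen d hd _ (e.symm _).2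
  rw [CfsgLib.BrauerSuzuki.mem_centralizer_derived_iff S e hD (e.symm _).2] at hx
  simp only [Subtype.coe_eta, MulEquiv.apply_symm_apply] at hx
  exact CfsgLib.BrauerSuzuki.xa_notMem_cyclicPart _ hx

end Cfsg.Agent.S0845
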