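import Cfsg.Statements.S0846
import Cfsg.Agent.Lib.BrauerSuzuki.Derived
import Cfsg.Agent.Lib.BrauerSuzuki.Main
import Cfsg.Agent.Lib.Involution.ZStar.Main

set_option autoImplicit false
open Cfsg

namespace Cfsg.Agent.S0846

/-- Suppose a Sylow 2-subgroup S of the finite group G is generalized quaternion of order at least 16. Then every Sylow 2-subgroup of the subgroup generated by the involutions of G is cyclic. -/
theorem result {G : Type*} [Group G] [Finite G] (S : Sylow 2 G) (n : ℕ) (e : (S : Subgroup G) ≃* QuaternionGroup (2 ^ (n + 2))) (Q : Sylow 2 ↥(Subgroup.closure {g : G | orderOf g = 2})) : IsCyclic Q := by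
  haveI := Fintype.ofFinite G
  haveI := Fact.mk Nat.prime_two
  set O := Cfsg.oddCore G
  haveI hOn : O.Normal := CfsgLib.Involution.ZStar.oddCore_normal
  revert Q
  generalize hW : Subgroup.closure {g : G | orderOf g = 2} = W
  intro Q
  obtain ⟨v, hv⟩ : ∃ v : G, orderOf v = 2 := exists_prime_orderOf_dvd_card' 2 (by
    refine dvd_trans ?_ (Subgroup.card_subgroup_dvd_card (S : Subgroup G))
    rw [Nat.card_congr e.toEquiv, Nat.card_eq_fintype_card, QuaternionGroup.card]
    exact ⟨2 * 2 ^ (n + 2), by ring⟩)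
  have hU := CfsgLib.BrauerSuzuki.uniqueInv_of_quaternion S e
  let f : ↥W →* G ⧸ O := (QuotientGroup.mk' O).comp W.subtype
  have hle : W ≤ (Subgroup.zpowers (QuotientGroup.mk' O v)).comap (QuotientGroup.mk' O) := by
    rw [← hW, Subgroup.closure_le]
    intro w hw
    obtain ⟨y, hy⟩ := CfsgLib.BrauerSuzuki.exists_conj_mem_sylow S (R := Subgroup.zpowers v)
      (IsPGroup.of_card (n := 1) (by rw [Nat.card_zpowers, hv, pow_one]))
    obtain ⟨g, hg⟩ := CfsgLib.BrauerSuzuki.exists_conj_involution S e hw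
      (show orderOf (y * v * y⁻¹) = 2 by rw [CfsgLib.BrauerSuzuki.orderOf_conj', hv]) (hy v (Subgroup.mem_zpowers v))
    have h := CfsgLib.Involution.ZStar.starCentral G v
      ⟨hv, fun x hx => hU _ _ (by rw [CfsgLib.BrauerSuzuki.orderOf_conj', hv]) hv hx.symm⟩ (g⁻¹ * y)
    have hwv : w = (g⁻¹ * y) * v * (g⁻¹ * y)⁻¹ := by
      rw [show (g⁻¹ * y) * v * (g⁻¹ * y)⁻¹ = g⁻¹ * (y * v * y⁻¹) * g by group, ← hg]; group
    show QuotientGroup.mk' O w ∈ Subgroup.zpowers (QuotientGroup.mk' O v)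
    have h' : QuotientGroup.mk' O (v * (g⁻¹ * y) * v⁻¹ * (g⁻¹ * y)⁻¹) = 1 := (QuotientGroup.eq_one_iff _).mpr h
    rw [map_mul, map_mul, map_mul, map_inv, map_inv, mul_inv_eq_one, mul_inv_eq_iff_eq_mul] at h'
    rw [hwv, map_mul, map_mul, map_inv, ← h', mul_inv_cancel_right]
    exact Subgroup.mem_zpowers _
  let F : ↥(Q : Subgroup ↥W) →* ↥(Subgroup.zpowers (QuotientGroup.mk' O v)) :=
    (f.comp (Q : Subgroup ↥W).subtype).codRestrict _ fun q => hle (q : ↥W).2
  refine isCyclic_of_injective F ?_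
  rw [← MonoidHom.ker_eq_bot_iff, eq_bot_iff]
  intro q hq
  have h1 : ((q : ↥W) : G) ∈ ((Q : Subgroup ↥W).map W.subtype) ⊓ O :=
    ⟨⟨_, q.2, rfl⟩, (QuotientGroup.eq_one_iff _).mp (congrArg Subtype.val hq)⟩
  rw [CfsgLib.Fusion.Basic.inf_eq_bot_of_coprime (Q.2.map W.subtype)
    (Nat.coprime_two_right.mpr CfsgLib.Involution.ZStar.odd_card_oddCore), Subgroup.mem_bot] at h1
  exact Subgroup.mem_bot.mpr (Subtype.ext (Subtype.ext h1))

end Cfsg.Agent.S0846
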