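import Cfsg.Statements.S0849
import Cfsg.Agent.Lib.Char.Induced

set_option autoImplicit false
open Cfsg

namespace Cfsg.Agent.S0849

/-- Let H be a subgroup of a finite group G and S a subset of H that is mapped to itself under conjugation by H, is disjoint from its conjugate by any element outside H, and is closed under inverses. Let φ be a class function of H vanishing on H away from S, and let u, v be involutions of G. Then the sum of the induced function of φ over all products a * b with a conjugate to u and b conjugate to v equals the index of H times the sum of φ (a * b) over such pairs with a and b in H. -/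
theorem result {G : Type*} [Group G] [Fintype G] (H : Subgroup G) (S : Set G) (hSH : S ⊆ H) (hHS : ∀ h ∈ H, ∀ s ∈ S, h * s * h⁻¹ ∈ S) (hTI : ∀ g : G, g ∉ H → ∀ s ∈ S, g * s * g⁻¹ ∉ S) (hinv : ∀ s ∈ S, s⁻¹ ∈ S) (φ : H → ℂ) (hφ : Cfsg.IsClassFunction H φ) (hφS : ∀ x : H, (x : G) ∉ S → φ x = 0) (u v : G) (hu : orderOf u = 2) (hv : orderOf v = 2) : ∑ᶠ p ∈ {p : G × G | IsConj u p.1 ∧ IsConj v p.2}, Cfsg.indFun H φ (p.1 * p.2) = (H.index : ℂ) * ∑ᶠ p ∈ {p : H × H | IsConj u (p.1 : G) ∧ IsConj v (p.2 : G)}, φ (p.1 * p.2) := by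
  classical
  cases nonempty_fintype H
  set A := (Finset.univ : Finset (G × G)).filter fun p => IsConj u p.1 ∧ IsConj v p.2 with hA
  set B := (Finset.univ : Finset (H × H)).filter
    fun p => IsConj u (p.1 : G) ∧ IsConj v (p.2 : G) with hB
  rw [finsum_mem_eq_finite_toFinset_sum _ (Set.toFinite _),
    finsum_mem_eq_finite_toFinset_sum _ (Set.toFinite _),
    show (Set.toFinite {p : G × G | IsConj u p.1 ∧ IsConj v p.2}).toFinset = A by ext p; simp [hA],
    show (Set.toFinite {p : H × H | IsConj u (p.1 : G) ∧ IsConj v (p.2 : G)}).toFinset = B by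
      ext p; simp [hB]]
  have hinvol : ∀ w a : G, orderOf w = 2 → IsConj w a → a⁻¹ = a := by
    intro w a hw hwa
    obtain ⟨c, rfl⟩ := isConj_iff.mp hwa
    have h2 : w * w = 1 := by rw [← pow_two, ← hw, pow_orderOf_eq_one]
    rw [mul_inv_rev, mul_inv_rev, inv_inv, inv_eq_of_mul_eq_one_right h2, mul_assoc]
  -- pairs with product in `S` lie in `H`
  have key : ∑ p ∈ A, Cfsg.extendByZero H φ (p.1 * p.2) = ∑ p ∈ B, φ (p.1 * p.2) := by
    have hpair : ∀ p ∈ A, Cfsg.extendByZero H φ (p.1 * p.2) ≠ 0 → p.1 ∈ H ∧ p.2 ∈ H := by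
      intro p hp hne
      simp only [hA, Finset.mem_filter, Finset.mem_univ, true_and] at hp
      have hm : p.1 * p.2 ∈ H := by
        by_contra h
        exact hne (CfsgLib.Char.extendByZero_apply_notMem H φ h)
      have hS : p.1 * p.2 ∈ S := by
        by_contra h
        exact hne (by rw [CfsgLib.Char.extendByZero_apply_mem H φ hm]; exact hφS ⟨_, hm⟩ h)
      have h1 : p.1 ∈ H := by
        by_contra h
        refine hTI p.1 h _ hS ?_
        rw [show p.1 * (p.1 * p.2) * p.1⁻¹ = (p.1 * p.2)⁻¹ by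
          rw [mul_inv_rev, hinvol u p.1 hu hp.1, hinvol v p.2 hv hp.2]
          calc p.1 * (p.1 * p.2) * p.1 = (p.1 * p.1) * (p.2 * p.1) := by group
            _ = p.2 * p.1 := by
              rw [show p.1 * p.1 = 1 by
                nth_rw 1 [← hinvol u p.1 hu hp.1]; exact inv_mul_cancel _, one_mul]]
        exact hinv _ hS
      exact ⟨h1, by simpa using H.mul_mem (H.inv_mem h1) hm⟩
    symm
    refine Finset.sum_bij_ne_zero (fun p _ _ => ((p.1 : G), (p.2 : G))) (fun p hp _ => ?_)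
      (fun p _ _ q _ _ h => ?_) (fun p hp hne => ?_) fun p hp hne => ?_
    · simpa [hA, hB] using hp
    · exact Prod.ext (Subtype.ext (congrArg Prod.fst h)) (Subtype.ext (congrArg Prod.snd h))
    · obtain ⟨h1, h2⟩ := hpair p hp hne
      refine ⟨(⟨p.1, h1⟩, ⟨p.2, h2⟩), by simpa [hA, hB] using hp, ?_, rfl⟩
      rwa [CfsgLib.Char.extendByZero_apply_mem H φ (H.mul_mem h1 h2)] at hne
    · rw [← Subgroup.coe_mul, CfsgLib.Char.extendByZero_coe]
  simp only [CfsgLib.Char.indFun_def]
  rw [← Finset.mul_sum, Finset.sum_comm]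
  have hconj : ∀ x : G, ∑ p ∈ A, Cfsg.extendByZero H φ (x⁻¹ * (p.1 * p.2) * x) =
      ∑ p ∈ A, Cfsg.extendByZero H φ (p.1 * p.2) := by
    intro x
    refine Finset.sum_bij' (fun p _ => (x⁻¹ * p.1 * x, x⁻¹ * p.2 * x))
      (fun p _ => (x * p.1 * x⁻¹, x * p.2 * x⁻¹)) (fun p hp => ?_) (fun p hp => ?_)
      (fun p _ => by simp [mul_assoc]) (fun p _ => by simp [mul_assoc]) fun p _ => by
        congr 1; group
    · simp only [hA, Finset.mem_filter, Finset.mem_univ, true_and] at hp ⊢
      exact ⟨hp.1.trans (isConj_iff.mpr ⟨x⁻¹, by simp⟩),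
        hp.2.trans (isConj_iff.mpr ⟨x⁻¹, by simp⟩)⟩
    · simp only [hA, Finset.mem_filter, Finset.mem_univ, true_and] at hp ⊢
      exact ⟨hp.1.trans (isConj_iff.mpr ⟨x, rfl⟩), hp.2.trans (isConj_iff.mpr ⟨x, rfl⟩)⟩
  rw [Finset.sum_congr rfl fun x _ => hconj x, Finset.sum_const, Finset.card_univ, nsmul_eq_mul,
    ← Nat.card_eq_fintype_card, key, ← Subgroup.index_mul_card H]
  have : (Nat.card H : ℂ) ≠ 0 := Nat.cast_ne_zero.mpr Nat.card_pos.ne'
  push_cast
  field_simp

end Cfsg.Agent.S0849
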