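import Cfsg.Statements.S0850
import Cfsg.Agent.Lib.Char.Induced
import Mathlib.GroupTheory.Sylow
import Mathlib.GroupTheory.Nilpotent
import Cfsg.Agent.Lib.Solvable.FrattiniFitting

set_option autoImplicit false
open Cfsg CfsgLib

namespace Cfsg.Agent.S0850

/-- Let K be a subgroup of the finite group G that meets each conjugate by an element outside its normalizer N trivially, is properly contained in N, and contains the centralizer of each of its non-identity elements (a T.I. subgroup with Frobenius normalizer). Then no element of N outside K is conjugate in G to an element of K, and for every class function ϑ of N that vanishes on N away from K and at the identity, the function induced from ϑ to G agrees with ϑ on all of N. -/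
theorem result {G : Type*} [Group G] [Fintype G] (K : Subgroup G) (hTI : ∀ g : G, g ∉ Subgroup.normalizer (K : Set G) → ∀ k ∈ K, g * k * g⁻¹ ∈ K → k = 1) (hlt : K < Subgroup.normalizer (K : Set G)) (hC : ∀ k ∈ K, k ≠ 1 → Subgroup.centralizer ({k} : Set G) ≤ K) : (∀ x ∈ Subgroup.normalizer (K : Set G), x ∉ K → ∀ g : G, g * x * g⁻¹ ∉ K) ∧ ∀ (ϑ : Subgroup.normalizer (K : Set G) → ℂ), Cfsg.IsClassFunction (Subgroup.normalizer (K : Set G)) ϑ → (∀ x : Subgroup.normalizer (K : Set G), (x : G) ∉ K → ϑ x = 0) → ϑ 1 = 0 → ∀ x : Subgroup.normalizer (K : Set G), Cfsg.indFun (Subgroup.normalizer (K : Set G)) ϑ x = ϑ x := by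
  classical
  set N := Subgroup.normalizer (K : Set G) with hNdef
  have hKN : K ≤ N := Subgroup.le_normalizer
  have hcop : Nat.Coprime (Nat.card K) (K.relIndex N) := by
    refine Nat.coprime_of_dvd fun q hq hqK hqI => ?_
    have : Fact q.Prime := ⟨hq⟩
    obtain ⟨S⟩ : Nonempty (Sylow q N) := inferInstance
    have hKn : (K.subgroupOf N).Normal :=
      (Subgroup.normal_subgroupOf_iff_le_normalizer hKN).2 le_rfl
    set A := (K.subgroupOf N).subgroupOf (S : Subgroup N) with hA
    have hAn : A.Normal := Subgroup.normal_subgroupOf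
    have hAne : A ≠ ⊥ := by
      intro h
      rw [hA, Subgroup.subgroupOf_eq_bot, disjoint_iff] at h
      have hqK' : q ∣ Nat.card (K.subgroupOf N) := by
        rwa [Nat.card_congr (Subgroup.subgroupOfEquivOfLe hKN).toEquiv]
      obtain ⟨a, ha⟩ := exists_prime_orderOf_dvd_card' q hqK'
      obtain ⟨T, hT⟩ := (IsPGroup.of_card (p := q) (n := 1)
        (by rw [Nat.card_zpowers, orderOf_submonoid a |>.trans ha, pow_one]) :
        IsPGroup q (Subgroup.zpowers (a : N))).exists_le_sylow
      obtain ⟨c, hc⟩ := MulAction.exists_smul_eq N T S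
      have h1 : c * (a : N) * c⁻¹ ∈ K.subgroupOf N ⊓ (S : Subgroup N) :=
        ⟨hKn.conj_mem _ a.2 c, hc ▸ ⟨(a : N), hT (Subgroup.mem_zpowers _), rfl⟩⟩
      rw [h, Subgroup.mem_bot] at h1
      have h2 : (a : N) = 1 := by simpa using h1
      rw [show a = 1 from Subtype.ext h2, orderOf_one] at ha
      exact hq.ne_one ha.symm
    obtain ⟨z, ⟨hzA, hzc⟩, hz1⟩ : ∃ z ∈ A ⊓ Subgroup.center (S : Subgroup N), z ≠ 1 := by
      have hnil : Group.IsNilpotent (S : Subgroup N) := S.2.isNilpotent
      have hne : A ⊓ Subgroup.center (S : Subgroup N) ≠ ⊥ :=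
        CfsgLib.Solvable.FrattiniFitting.inf_center_ne_bot A hAne
      obtain ⟨z', hz'⟩ := Subgroup.ne_bot_iff_exists_ne_one.1 hne
      exact ⟨z'.1, z'.2, fun h => hz' (Subtype.ext h)⟩
    have hzK : ((z : N) : G) ∈ K := hzA
    have hzG : ((z : N) : G) ≠ 1 := fun h => hz1 (Subtype.ext (Subtype.ext h))
    have hSK : (S : Subgroup N) ≤ K.subgroupOf N := by
      intro s hs
      refine hC _ hzK hzG (Subgroup.mem_centralizer_singleton_iff.2 ?_)
      have := Subgroup.mem_center_iff.1 hzc ⟨s, hs⟩
      exact congrArg (fun w : (S : Subgroup N) => ((w : N) : G)) this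
    exact S.not_dvd_index (hqI.trans (Subgroup.index_dvd_of_le hSK))
  have hfus : ∀ x ∈ N, x ∉ K → ∀ g : G, g * x * g⁻¹ ∉ K := by
    intro x hx hxK g hgx
    refine hxK ?_
    have ho : orderOf x ∣ Nat.card K := by
      have h1 := orderOf_injective (MulAut.conj g).toMonoidHom (MulAut.conj g).injective x
      simp only [MulEquiv.coe_toMonoidHom, MulAut.conj_apply] at h1
      rw [← h1]
      exact K.orderOf_dvd_natCard hgx
    have : (K.subgroupOf N).Normal :=
      (Subgroup.normal_subgroupOf_iff_le_normalizer hKN).2 le_rfl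
    have hpow : x ^ K.relIndex N ∈ K := (K.subgroupOf N).pow_index_mem ⟨x, hx⟩
    obtain ⟨t, ht⟩ := exists_pow_eq_self_of_coprime (x := x) (hcop.coprime_dvd_left ho).symm
    exact ht ▸ K.pow_mem hpow t
  refine ⟨hfus, fun ϑ hϑ hsupp h1 x => ?_⟩
  rw [Char.indFun_def]
  have hterm : ∀ y : G, Cfsg.extendByZero N ϑ (y⁻¹ * (x : G) * y) =
      if y ∈ N then ϑ x else 0 := by
    intro y
    by_cases hy : y ∈ N
    · have hm : y⁻¹ * (x : G) * y ∈ N := N.mul_mem (N.mul_mem (N.inv_mem hy) x.2) hy
      rw [if_pos hy, Char.extendByZero_apply_mem N ϑ hm]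
      have h := hϑ x (⟨y, hy⟩⁻¹ : N)
      rw [← h]
      congr 1
      exact Subtype.ext (by simp)
    · rw [if_neg hy]
      by_cases hm : y⁻¹ * (x : G) * y ∈ N
      · rw [Char.extendByZero_apply_mem N ϑ hm]
        by_cases hK : y⁻¹ * (x : G) * y ∈ K
        · by_cases hxK : (x : G) ∈ K
          · have hx1 : (x : G) = 1 := hTI y⁻¹ (fun h => hy (by simpa using N.inv_mem h)) x hxK
              (by simpa using hK)
            rw [show (⟨y⁻¹ * (x : G) * y, hm⟩ : N) = 1 from Subtype.ext (by simp [hx1]), h1]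
          · exact absurd (by simpa using hK) (hfus x x.2 hxK y⁻¹)
        · exact hsupp _ hK
      · exact Char.extendByZero_apply_notMem N ϑ hm
  rw [Finset.sum_congr rfl fun y _ => hterm y, Finset.sum_ite, Finset.sum_const_zero, add_zero,
    Finset.sum_const, nsmul_eq_mul, ← Fintype.card_subtype, ← Nat.card_eq_fintype_card]
  rw [inv_mul_cancel_left₀ (show (Nat.card N : ℂ) ≠ 0 by simp [Nat.card_pos.ne'])]

end Cfsg.Agent.S0850
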