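import Cfsg.Statements.S0851
import Cfsg.Agent.Lib.Char.TIKernelAbelian

set_option autoImplicit false
open Cfsg

namespace Cfsg.Agent.S0851

/-- Let K be a subgroup of the finite group G that meets each conjugate by an element outside its normalizer N trivially, is properly contained in N, and contains the centralizer of each of its non-identity elements (a T.I. subgroup with Frobenius normalizer). Suppose K is abelian, let e be the index of K in N, and call an irreducible character of N relevant when it takes at some element of K a value different from its degree. Then either there is exactly one relevant character and K is an elementary abelian p-group of order e + 1 for some prime p, or there are a sign ε and an injective map f from the relevant characters to the irreducible characters of G such that inducing χ - ξ to G gives ε (f χ - f ξ) for all relevant χ and ξ. -/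
theorem result {G : Type*} [Group G] [Fintype G] (K : Subgroup G) (hTI : ∀ g : G, g ∉ Subgroup.normalizer (K : Set G) → ∀ k ∈ K, g * k * g⁻¹ ∈ K → k = 1) (hlt : K < Subgroup.normalizer (K : Set G)) (hC : ∀ k ∈ K, k ≠ 1 → Subgroup.centralizer ({k} : Set G) ≤ K) (hab : ∀ a ∈ K, ∀ b ∈ K, a * b = b * a) : (Nat.card {χ : Cfsg.IrrCharacter (Subgroup.normalizer (K : Set G)) // ∃ k : Subgroup.normalizer (K : Set G), (k : G) ∈ K ∧ (χ : ↥(Subgroup.normalizer (K : Set G)) → ℂ) k ≠ (χ : ↥(Subgroup.normalizer (K : Set G)) → ℂ) 1} = 1 ∧ ∃ p : ℕ, p.Prime ∧ Cfsg.IsElementaryAbelian p K ∧ Nat.card K = (K.subgroupOf (Subgroup.normalizer (K : Set G))).index + 1) ∨ ∃ (ε : ℂ) (f : {χ : Cfsg.IrrCharacter (Subgroup.normalizer (K : Set G)) // ∃ k : Subgroup.normalizer (K : Set G), (k : G) ∈ K ∧ (χ : ↥(Subgroup.normalizer (K : Set G)) → ℂ) k ≠ (χ : ↥(Subgroup.normalizer (K : Set G)) → ℂ) 1} → Cfsg.IrrCharacter G), (ε = 1 ∨ ε = -1) ∧ Function.Injective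 f ∧ ∀ χ ξ, Cfsg.indFun (Subgroup.normalizer (K : Set G)) ((χ.1 : ↥(Subgroup.normalizer (K : Set G)) → ℂ) - (ξ.1 : ↥(Subgroup.normalizer (K : Set G)) → ℂ)) = ε • ((f χ : G → ℂ) - (f ξ : G → ℂ)) := by
  classical
  have h : CfsgLib.Char.TIKernel.IsTIKernel K := ⟨hTI, hlt, hC⟩
  set N := Subgroup.normalizer (K : Set G) with hN
  cases nonempty_fintype N
  cases nonempty_fintype (K.subgroupOf N)
  set ι := {χ : Cfsg.IrrCharacter N // ∃ k : N, (k : G) ∈ K ∧ (χ : N → ℂ) k ≠ (χ : N → ℂ) 1}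
  have hab' : ∀ a ∈ K.subgroupOf N, ∀ b ∈ K.subgroupOf N, a * b = b * a :=
    fun a ha b hb => Subtype.ext (hab _ ha _ hb)
  have hrel : ∀ χ : ι, ∃ φ, Cfsg.IsIrrCharacter (K.subgroupOf N) φ ∧ φ ≠ (fun _ => 1) ∧
      (χ.1 : N → ℂ) = Cfsg.indFun (K.subgroupOf N) φ :=
    fun χ => (CfsgLib.Char.TIKernel.mem_iff _ h.centralizer_le).mp ⟨χ.1.2, χ.2⟩
  by_cases hone : Nat.card ι = 1
  · refine Or.inl ⟨hone, ?_⟩
    obtain ⟨hsub, ⟨χ₁⟩⟩ := Nat.card_eq_one_iff_unique.mp hone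
    have hKb : K.subgroupOf N ≠ ⊥ := by
      intro hb
      obtain ⟨k, hk, hne⟩ := χ₁.2
      exact hne (by rw [Subgroup.mem_bot.mp ((SetLike.ext_iff.mp hb k).mp hk)])
    obtain ⟨hc, p, hp, hexp⟩ := CfsgLib.Char.TIKernel.of_unique _ h.centralizer_le hab' hKb
      fun η ξ hη hξ => congrArg (fun χ : ι => (χ.1 : N → ℂ))
        (Subsingleton.elim (⟨⟨η, hη.1⟩, hη.2⟩ : ι) ⟨⟨ξ, hξ.1⟩, hξ.2⟩)
    refine ⟨p, hp, ⟨⟨⟨fun a b => Subtype.ext (hab _ a.2 _ b.2)⟩⟩, fun a ha => ?_⟩, ?_⟩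
    · exact congrArg Subtype.val (hexp ⟨a, hlt.le ha⟩ ha)
    · rw [← hc, Nat.card_congr (Subgroup.subgroupOfEquivOfLe hlt.le).toEquiv]
  rcases isEmpty_or_nonempty ι with he | ⟨⟨i₀⟩⟩
  · exact Or.inr ⟨1, fun χ => he.elim χ, Or.inl rfl, fun a => he.elim a, fun a => he.elim a⟩
  refine Or.inr ?_
  have hd : ∀ χ : ι, (χ.1 : N → ℂ) 1 = ((K.subgroupOf N).index : ℂ) := by
    intro χ
    obtain ⟨φ, hφ, -, e⟩ := hrel χ
    rw [e, CfsgLib.Char.indFun_one, CfsgLib.Char.apply_one_eq_one_of_comm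
      (fun a b : K.subgroupOf N => Subtype.ext (hab' _ a.2 _ b.2)) hφ, mul_one]
  have hout : ∀ (χ : ι) (n : N), (n : G) ∉ K → (χ.1 : N → ℂ) n = 0 := by
    intro χ n hn
    obtain ⟨φ, -, -, e⟩ := hrel χ
    rw [e]
    exact CfsgLib.Char.indFun_eq_zero_of_normal _ _ fun hn' => hn hn'
  have hcl : ∀ χ : ι, Cfsg.IsClassFunction N (χ.1 : N → ℂ) :=
    fun χ => CfsgLib.Char.IsIrrCharacter.isClassFunction χ.1.2
  obtain ⟨ε, hε, μ, hμ, hinj, hτ⟩ := CfsgLib.Char.exists_exceptional i₀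
    (fun i => Cfsg.indFun N ((i₀.1 : N → ℂ) - (i.1 : N → ℂ)))
    (show Cfsg.indFun N ((i₀.1 : N → ℂ) - (i₀.1 : N → ℂ)) = 0 by
      rw [CfsgLib.Char.indFun_sub, sub_self])
    (fun i => CfsgLib.Char.IsGeneralizedCharacter.indFun N
      (CfsgLib.Char.IsGeneralizedCharacter.sub
        (CfsgLib.Char.IsCharacter.isGeneralizedCharacter
          (CfsgLib.Char.IsIrrCharacter.isCharacter i₀.1.2))
        (CfsgLib.Char.IsCharacter.isGeneralizedCharacter
          (CfsgLib.Char.IsIrrCharacter.isCharacter i.1.2))))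
    (fun i => by rw [CfsgLib.Char.indFun_one, Pi.sub_apply, hd, hd, sub_self, mul_zero])
    (fun i j hi hj => by
      have hcf : ∀ i : ι, Cfsg.IsClassFunction N ((i₀.1 : N → ℂ) - (i.1 : N → ℂ)) :=
        fun i a b => by simp only [Pi.sub_apply, hcl i₀ a b, hcl i a b]
      have h1 : ∀ i : ι, ((i₀.1 : N → ℂ) - (i.1 : N → ℂ)) 1 = 0 :=
        fun i => by rw [Pi.sub_apply, hd, hd, sub_self]
      have h0 : ∀ (i : ι) (n : N), (n : G) ∉ K → ((i₀.1 : N → ℂ) - (i.1 : N → ℂ)) n = 0 :=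
        fun i n hn => by rw [Pi.sub_apply, hout i₀ n hn, hout i n hn, sub_self]
      have hv : ∀ {a b : ι}, a ≠ b → (a.1 : N → ℂ) ≠ (b.1 : N → ℂ) :=
        fun hab e => hab (Subtype.ext (Subtype.ext e))
      rw [h.isometry (hcf j) (h1 i) (h1 j) (h0 i) (h0 j), CfsgLib.Char.classInner_irr_sub i₀.1.2
        i.1.2 i₀.1.2 j.1.2, if_pos rfl, if_neg (hv hj.symm), if_neg (hv hi)]
      refine ⟨fun e => ?_, fun e => ?_⟩
      · rw [if_pos (by rw [e])]; norm_num
      · rw [if_neg (hv e)]; norm_num)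
  refine ⟨-ε, fun i => ⟨μ i, hμ i⟩, ?_, fun a b e => hinj (congrArg Subtype.val e), fun χ ξ => ?_⟩
  · rcases hε with rfl | rfl <;> norm_num
  · have e : (χ.1 : N → ℂ) - (ξ.1 : N → ℂ) =
        ((i₀.1 : N → ℂ) - (ξ.1 : N → ℂ)) - ((i₀.1 : N → ℂ) - (χ.1 : N → ℂ)) := by
      abel
    rw [e, CfsgLib.Char.indFun_sub, hτ ξ, hτ χ]
    funext x
    simp only [Pi.sub_apply, Pi.smul_apply, smul_eq_mul]
    ring

end Cfsg.Agent.S0851
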