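import Cfsg.Statements.S0855
import Cfsg.Agent.S4456
import Cfsg.Agent.Lib.DegreeTools.PDegree

set_option autoImplicit false
open Cfsg
open CfsgLib

namespace Cfsg.Agent.S0855

/-- For a finite group G and a prime p: every irreducible character of G has degree a power of p if and only if G has an abelian normal subgroup whose order is prime to p and whose index is a power of p. -/
theorem result {G : Type*} [Group G] [Finite G] (p : ℕ) (hp : p.Prime) : (∀ χ : Cfsg.IrrCharacter G, ∃ k : ℕ, (χ : G → ℂ) 1 = (p : ℂ) ^ k) ↔ ∃ A : Subgroup G, A.Normal ∧ (∀ a ∈ A, ∀ b ∈ A, a * b = b * a) ∧ Nat.Coprime (Nat.card A) p ∧ ∃ k : ℕ, A.index = p ^ k := by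
  classical
  have : Fact p.Prime := ⟨hp⟩
  have := Fintype.ofFinite G
  constructor
  · intro h
    obtain ⟨N, hN, hNp, hidx⟩ := Cfsg.Agent.S4456.result p hp (fun χ hne => by
      obtain ⟨k, hk⟩ := h χ
      rw [← DegreeTools.deg_cast] at hk
      have hk' : Cfsg.charDegree (χ : G → ℂ) = p ^ k := by exact_mod_cast hk
      rcases k with _ | k
      · exact absurd hk' hne
      · rw [hk', pow_succ]; exact dvd_mul_left p _)
    refine ⟨N, hN, ?_, hNp, hidx⟩
    have := Fintype.ofFinite N
    have hlin : ∀ θ : Cfsg.IrrCharacter N, (θ : N → ℂ) 1 = 1 := by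
      intro θ
      have hθc := Char.isCharacter_irr θ
      obtain ⟨χ, hχ, hχne⟩ := Char.IsCharacter.exists_constituent
        (Char.IsCharacter.indFun N hθc) (fun h0 => by
          have := congrFun h0 1
          rw [Char.indFun_one, Pi.zero_apply, mul_eq_zero] at this
          rcases this with h1 | h1
          · exact Subgroup.index_ne_zero_of_finite (Nat.cast_eq_zero.1 h1)
          · exact Char.IsIrrCharacter.apply_one_ne_zero θ.2 h1)
      rw [Char.classInner_indFun N _ (Char.IsIrrCharacter.isClassFunction hχ),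
        Char.IsCharacter.classInner_comm hθc
          (Char.IsCharacter.restrict (Char.IsIrrCharacter.isCharacter hχ) N)] at hχne
      have hd := (Cfsg.Agent.S0887.result N χ hχ (θ : N → ℂ) θ.2 hχne (Cfsg.charDegree χ)
        (Cfsg.charDegree (θ : N → ℂ))
        (DegreeTools.deg_cast (⟨χ, hχ⟩ : Cfsg.IrrCharacter G)).symm
        (DegreeTools.deg_cast θ).symm).1
      obtain ⟨k, hk⟩ := h ⟨χ, hχ⟩
      rw [← DegreeTools.deg_cast] at hk
      have hk' : Cfsg.charDegree χ = p ^ k := Nat.cast_injective (R := ℂ) (hk.trans (Nat.cast_pow p k).symm)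
      rw [hk'] at hd
      obtain ⟨d', -, hd'⟩ := Char.IsIrrCharacter.apply_one_eq θ.2
      have hdvd := Char.IsIrrCharacter.apply_one_dvd_card θ.2
      obtain ⟨m, hm1, hm2⟩ := hdvd
      have hm : Cfsg.charDegree (θ : N → ℂ) = m := Nat.cast_injective (R := ℂ) (by
        rw [DegreeTools.deg_cast, hm1])
      rw [hm] at hd
      have := Nat.eq_one_of_dvd_coprimes (hNp.pow_right k) hm2 hd
      rw [hm1, this, Nat.cast_one]
    intro a ha b hb
    exact congrArg Subtype.val (Char.comm_iff_forall_linear.2 hlin ⟨a, ha⟩ ⟨b, hb⟩)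
  · rintro ⟨A, hA, hab, -, k, hk⟩ χ
    have hd := DegreeTools.deg_dvd_index A (fun a b => Subtype.ext (hab a a.2 b b.2)) χ
    rw [hk] at hd
    obtain ⟨i, -, hi⟩ := (Nat.dvd_prime_pow hp).1 hd
    exact ⟨i, by rw [← DegreeTools.deg_cast, hi, Nat.cast_pow]⟩

end Cfsg.Agent.S0855
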