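import Cfsg.Statements.S0856
import Cfsg.Agent.Lib.CharDeep.Clifford

set_option autoImplicit false
open Cfsg CfsgLib CfsgLib.CharDeep
open scoped ComplexConjugate

namespace Cfsg.Agent.S0856

/-- Let N be a normal subgroup of the finite group G and φ, ϑ irreducible characters of N that are invariant under conjugation by G, such that the pointwise product φ * ϑ is irreducible and ϑ is the restriction of an irreducible character χ of G. Then multiplication by χ is a bijection from the set of irreducible characters of G having nonzero inner product with the function induced from φ onto the set of those having nonzero inner product with the function induced from φ * ϑ. -/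
theorem result {G : Type*} [Group G] [Fintype G] (N : Subgroup G) [hN : N.Normal] (φ ϑ : N → ℂ) (hφ : Cfsg.IsIrrCharacter N φ) (hϑ : Cfsg.IsIrrCharacter N ϑ) (hφinv : ∀ (g : G) (n : N), φ ⟨g * n * g⁻¹, hN.conj_mem (n : G) n.2 g⟩ = φ n) (hϑinv : ∀ (g : G) (n : N), ϑ ⟨g * n * g⁻¹, hN.conj_mem (n : G) n.2 g⟩ = ϑ n) (hprod : Cfsg.IsIrrCharacter N (φ * ϑ)) (χ : G → ℂ) (hχ : Cfsg.IsIrrCharacter G χ) (hext : ∀ n : N, χ n = ϑ n) : Set.BijOn (fun β : G → ℂ => β * χ) {β : G → ℂ | Cfsg.IsIrrCharacter G β ∧ Cfsg.classInner (Cfsg.indFun N φ) β ≠ 0} {ψ : G → ℂ | Cfsg.IsIrrCharacter G ψ ∧ Cfsg.classInner (Cfsg.indFun N (φ * ϑ)) ψ ≠ 0} := by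
  classical
  have hcN : (Nat.card N : ℂ) ≠ 0 := Char.card_ne_zero
  have hGN : (Nat.card G : ℂ) = (Nat.card N : ℂ) * N.index := by
    rw [← Nat.cast_mul, N.card_mul_index]
  have hχc := Char.IsIrrCharacter.isCharacter hχ
  -- norm of a function induced from an invariant irreducible character
  have hnorm : ∀ θ : N → ℂ, Cfsg.IsIrrCharacter N θ →
      (∀ (g : G) (n : N), θ ⟨g * n * g⁻¹, hN.conj_mem (n : G) n.2 g⟩ = θ n) →
      Cfsg.classInner (Cfsg.indFun N θ) (Cfsg.indFun N θ) = N.index := by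
    intro θ hθ hinv
    rw [Char.classInner_indFun N θ (Char.indFun_isClassFunction N θ)]
    have h : (fun n : N => Cfsg.indFun N θ n) = (N.index : ℂ) • θ := funext fun n => by
      rw [Pi.smul_apply, smul_eq_mul, Char.indFun_apply_of_normal]
      simp only [hinv, Finset.sum_const, Finset.card_univ, nsmul_eq_mul,
        ← Nat.card_eq_fintype_card]
      rw [hGN]
      field_simp
    rw [h, Char.classInner_smul_right, Char.classInner_irr_self hθ, mul_one, Complex.conj_natCast]
  have hI : Cfsg.IsCharacter G (Cfsg.indFun N φ) :=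
    Char.IsCharacter.indFun N (Char.IsIrrCharacter.isCharacter hφ)
  choose e he using fun β : Cfsg.IrrCharacter G =>
    Char.IsCharacter.classInner_nat hI (Char.isCharacter_irr β)
  have hexp : Cfsg.indFun N φ = ∑ β : Cfsg.IrrCharacter G, (e β : ℂ) • (β : G → ℂ) := by
    conv_lhs => rw [Char.IsClassFunction.eq_sum_irr (Char.IsCharacter.isClassFunction hI)]
    simp only [he]
  have hprodI : Cfsg.indFun N (φ * ϑ) =
      ∑ β : Cfsg.IrrCharacter G, (e β : ℂ) • ((β : G → ℂ) * χ) := by
    have h : Cfsg.indFun N (φ * ϑ) = Cfsg.indFun N φ * χ := funext fun g => by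
      rw [Pi.mul_apply]
      by_cases hg : g ∈ N
      · rw [show g = ((⟨g, hg⟩ : N) : G) from rfl, Char.indFun_apply_of_normal,
          Char.indFun_apply_of_normal, mul_assoc, Finset.sum_mul]
        congr 1
        refine Finset.sum_congr rfl fun x _ => ?_
        rw [Pi.mul_apply, hϑinv, hext]
      · rw [Char.indFun_eq_zero_of_normal N _ hg, Char.indFun_eq_zero_of_normal N _ hg, zero_mul]
    rw [h, hexp, Finset.sum_mul]
    simp only [smul_mul_assoc]
  have hS : ∑ β : Cfsg.IrrCharacter G, (e β : ℂ) * e β = N.index := by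
    rw [← hnorm φ hφ hφinv]
    conv_rhs => rw [hexp]
    simp only [Char.classInner_sum_left, Char.classInner_sum_right, Char.classInner_smul_left,
      Char.classInner_smul_right, Complex.conj_natCast, Char.classInner_irrCharacter, mul_ite,
      mul_one, mul_zero, Finset.sum_ite_eq, Finset.sum_ite_eq', Finset.mem_univ, if_true]
  choose k hk using fun β γ : Cfsg.IrrCharacter G => Char.IsCharacter.classInner_nat
    (Char.IsCharacter.mul (Char.isCharacter_irr β) hχc)
    (Char.IsCharacter.mul (Char.isCharacter_irr γ) hχc)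
  have hk' : ∀ β γ : Cfsg.IrrCharacter G,
      Cfsg.classInner ((β : G → ℂ) * χ) ((γ : G → ℂ) * χ) = k β γ := hk
  have hkd : ∀ β, 1 ≤ k β β := by
    intro β
    refine Nat.one_le_iff_ne_zero.2 fun h0 => ?_
    have h := hk' β β
    rw [h0, Nat.cast_zero, Char.classInner_self_eq_zero] at h
    have h1 := congrFun h 1
    simp only [Pi.mul_apply, Pi.zero_apply, mul_eq_zero] at h1
    rcases h1 with h1 | h1
    · exact Char.IsIrrCharacter.apply_one_ne_zero β.2 h1
    · exact Char.IsIrrCharacter.apply_one_ne_zero hχ h1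
  have hprodinv : ∀ (g : G) (n : N),
      (φ * ϑ) ⟨g * n * g⁻¹, hN.conj_mem (n : G) n.2 g⟩ = (φ * ϑ) n :=
    fun g n => by simp [hφinv, hϑinv]
  have hT : ∑ β : Cfsg.IrrCharacter G, ∑ γ : Cfsg.IrrCharacter G, e β * e γ * k β γ =
      ∑ β : Cfsg.IrrCharacter G, e β * e β := by
    apply Nat.cast_injective (R := ℂ)
    push_cast
    rw [hS, ← hnorm (φ * ϑ) hprod hprodinv, hprodI]
    simp only [Char.classInner_sum_left, Char.classInner_sum_right, Char.classInner_smul_left,
      Char.classInner_smul_right, Complex.conj_natCast, hk', Finset.mul_sum]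
    rw [Finset.sum_comm]
    exact Finset.sum_congr rfl fun β _ => Finset.sum_congr rfl fun γ _ => by ring
  have hrow : ∀ β, e β * e β ≤ ∑ γ : Cfsg.IrrCharacter G, e β * e γ * k β γ := fun β =>
    le_trans (Nat.le_mul_of_pos_right _ (hkd β))
      (Finset.single_le_sum (f := fun γ => e β * e γ * k β γ) (fun _ _ => Nat.zero_le _)
        (Finset.mem_univ β))
  have heq := fun β => (Finset.sum_eq_sum_iff_of_le fun β _ => hrow β).1 hT.symm β
    (Finset.mem_univ β)
  have hdiag : ∀ β, e β ≠ 0 → k β β = 1 ∧ ∀ γ, γ ≠ β → e γ ≠ 0 → k β γ = 0 := by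
    intro β hβ
    have h := heq β
    rw [← Finset.add_sum_erase _ _ (Finset.mem_univ β)] at h
    have h1 : e β * e β * 1 ≤ e β * e β * k β β := Nat.mul_le_mul_left _ (hkd β)
    have h2 : ∑ γ ∈ Finset.univ.erase β, e β * e γ * k β γ = 0 := by omega
    have h3 : e β * e β * k β β = e β * e β * 1 := by omega
    refine ⟨Nat.eq_of_mul_eq_mul_left (Nat.pos_of_ne_zero (mul_ne_zero hβ hβ)) h3,
      fun γ hγ hγ0 => ?_⟩
    have h4 := Finset.sum_eq_zero_iff.1 h2 γ (Finset.mem_erase.2 ⟨hγ, Finset.mem_univ γ⟩)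
    simpa [hβ, hγ0] using h4
  refine ⟨fun β hβ => ?_, fun β hβ γ hγ hβγ => ?_, fun ψ hψ => ?_⟩
  · obtain ⟨hβi, hβne⟩ := hβ
    show β * χ ∈ {ψ : G → ℂ | _}
    set b : Cfsg.IrrCharacter G := ⟨β, hβi⟩
    have hb : e b ≠ 0 := fun h0 => hβne (by
      rw [show β = (b : G → ℂ) from rfl, he, h0, Nat.cast_zero])
    have hirr : Cfsg.IsIrrCharacter G (β * χ) := Char.IsCharacter.isIrrCharacter_of_norm_one
      (Char.IsCharacter.mul (Char.isCharacter_irr b) hχc)
      (by rw [← Nat.cast_one, ← (hdiag b hb).1]; exact hk b b)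
    refine ⟨hirr, ?_⟩
    rw [hprodI, Char.classInner_sum_left, Finset.sum_eq_single b]
    · rw [Char.classInner_smul_left, show β * χ = (b : G → ℂ) * χ from rfl, hk', (hdiag b hb).1,
        Nat.cast_one, mul_one]
      exact_mod_cast hb
    · intro γ _ hγ
      rw [Char.classInner_smul_left, show β * χ = (b : G → ℂ) * χ from rfl, hk']
      by_cases hg0 : e γ = 0
      · simp [hg0]
      · rw [(hdiag γ hg0).2 b (Ne.symm hγ) hb]; simp
    · simp
  · obtain ⟨hβi, hβne⟩ := hβ
    obtain ⟨hγi, hγne⟩ := hγ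
    by_contra hne
    set b : Cfsg.IrrCharacter G := ⟨β, hβi⟩
    set c : Cfsg.IrrCharacter G := ⟨γ, hγi⟩
    have hb : e b ≠ 0 := fun h0 => hβne (by
      rw [show β = (b : G → ℂ) from rfl, he, h0, Nat.cast_zero])
    have hc : e c ≠ 0 := fun h0 => hγne (by
      rw [show γ = (c : G → ℂ) from rfl, he, h0, Nat.cast_zero])
    have h1 := hk' b c
    rw [(hdiag b hb).2 c (fun h => hne (congrArg Subtype.val h).symm) hc,
      show (c : G → ℂ) * χ = (b : G → ℂ) * χ from hβγ.symm, hk', (hdiag b hb).1] at h1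
    norm_num at h1
  · obtain ⟨hψi, hψne⟩ := hψ
    rw [hprodI, Char.classInner_sum_left] at hψne
    obtain ⟨b, -, hb⟩ := Finset.exists_ne_zero_of_sum_ne_zero hψne
    rw [Char.classInner_smul_left] at hb
    have hb0 : e b ≠ 0 := by
      intro h0
      simp [h0] at hb
    refine ⟨b, ⟨b.2, by rw [he]; exact_mod_cast hb0⟩, ?_⟩
    have hirr : Cfsg.IsIrrCharacter G ((b : G → ℂ) * χ) :=
      Char.IsCharacter.isIrrCharacter_of_norm_one
        (Char.IsCharacter.mul (Char.isCharacter_irr b) hχc)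
        (by rw [← Nat.cast_one, ← (hdiag b hb0).1]; exact hk b b)
    by_contra hne
    exact right_ne_zero_of_mul hb (Char.classInner_irr_ne hirr hψi hne)

end Cfsg.Agent.S0856
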