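import Cfsg.Statements.S0857
import Cfsg.Agent.Lib.CharDeep.RelativeSteps
-- import your own Cfsg.Agent.* helpers here

set_option autoImplicit false
open Cfsg CfsgLib.Char CfsgLib.CharDeep CfsgLib.CharDeep.Relative
open scoped commutatorElement

namespace Cfsg.Agent.S0857

/-- Let L < K be normal subgroups of the finite group G with no normal subgroup of G strictly between them and with K / L abelian (the commutator subgroup of K lies in L). Let ϑ be an irreducible character of K invariant under conjugation by G. Then the restriction of ϑ to L is irreducible; or it equals e times an irreducible character of L with e ^ 2 equal to the index of L in K; or it is the sum of a family of pairwise distinct irreducible characters of L indexed by a set whose size is the index of L in K. -/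
theorem result {G : Type*} [Group G] [Fintype G] (K L : Subgroup G) [hK : K.Normal] [L.Normal] (hLK : L < K) (hchief : ∀ M : Subgroup G, M.Normal → L ≤ M → M ≤ K → M = L ∨ M = K) (hab : ⁅K, K⁆ ≤ L) (ϑ : K → ℂ) (hϑ : Cfsg.IsIrrCharacter K ϑ) (hinv : ∀ (g : G) (n : K), ϑ ⟨g * n * g⁻¹, hK.conj_mem (n : G) n.2 g⟩ = ϑ n) : Cfsg.IsIrrCharacter L (fun x : L => ϑ ⟨(x : G), hLK.le x.2⟩) ∨ (∃ (φ : L → ℂ) (e : ℕ), Cfsg.IsIrrCharacter L φ ∧ (fun x : L => ϑ ⟨(x : G), hLK.le x.2⟩) = (e : ℂ) • φ ∧ e ^ 2 = L.relIndex K) ∨ (∃ F : Finset (L → ℂ), (∀ φ ∈ F, Cfsg.IsIrrCharacter L φ) ∧ F.card = L.relIndex K ∧ (fun x : L => ϑ ⟨(x : G), hLK.le x.2⟩) = ∑ φ ∈ F, φ) := by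

  classical
  haveI : Fintype K := Fintype.ofFinite K
  haveI : Fintype L := Fintype.ofFinite L
  set L' := L.subgroupOf K
  haveI : Fintype L' := Fintype.ofFinite L'
  let ε : L' ≃* L := Subgroup.subgroupOfEquivOfLe hLK.le
  set ϑL : L → ℂ := fun x => ϑ ⟨(x : G), hLK.le x.2⟩ with hϑLdef
  have hϑLc : IsCharacter L ϑL :=
    IsCharacter.comp (IsIrrCharacter.isCharacter hϑ) (Subgroup.inclusion hLK.le)
  obtain ⟨φ, hφ, hne⟩ := IsCharacter.exists_constituent hϑLc fun h0 =>
    IsIrrCharacter.apply_one_ne_zero hϑ (congrFun h0 1)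
  have hφ' : IsIrrCharacter L' (φ ∘ ε) := IsIrrCharacter.comp_equiv hφ ε
  have hne' : ∀ ψ : L → ℂ, classInner (fun x : L' => ϑ x) (ψ ∘ ε) = classInner ϑL ψ := fun ψ =>
    classInner_reindex ε ϑL ψ
  have hLst : L ≤ stab φ := le_stab (IsIrrCharacter.isClassFunction hφ)
  have hU : (K ⊓ stab φ).Normal := by
    refine ⟨fun k hk g => ⟨hK.conj_mem k hk.1 g, ?_⟩⟩
    have hgne : classInner ϑL (conjG φ g) ≠ 0 := by
      rw [← show conjG ϑL g = ϑL from funext fun x => hinv g ⟨(x : G), hLK.le x.2⟩, classInner_conjG]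
      exact hne
    obtain ⟨k₀, hk₀⟩ := Clifford.exists_conj_of_constituent L' hϑ hφ'
      (IsIrrCharacter.comp_equiv (IsIrrCharacter.conjG hφ g) ε)
      (by rw [hne']; exact hne) (by rw [hne']; exact hgne)
    have hgk : conjG φ g = conjG φ (k₀ : G) := funext fun x => by
      have h1 := congrFun hk₀ (ε.symm x)
      simp only [Clifford.conjFun_apply, Function.comp_apply, MulEquiv.apply_symm_apply] at h1
      exact h1.trans (congrArg φ (Subtype.ext rfl))
    have ha : g * (k₀ : G)⁻¹ ∈ stab φ := by
      rw [mem_stab, ← conjG_mul, hgk, conjG_mul, mul_inv_cancel, conjG_one]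
    have hm : (k₀ : G) * k * (k₀ : G)⁻¹ ∈ stab φ := by
      rw [show (k₀ : G) * k * (k₀ : G)⁻¹ = ⁅(k₀ : G), k⁆ * k by simp [commutatorElement_def]]
      exact mul_mem (hLst (hab (Subgroup.commutator_mem_commutator k₀.2 hk.1))) hk.2
    rw [show g * k * g⁻¹
      = (g * (k₀ : G)⁻¹) * ((k₀ : G) * k * (k₀ : G)⁻¹) * (g * (k₀ : G)⁻¹)⁻¹ by group]
    exact (stab φ).mul_mem ((stab φ).mul_mem ha hm) ((stab φ).inv_mem ha)
  rcases hchief _ hU (le_inf hLK.le hLst) inf_le_left with hUL | hUK
  · right; right
    have hI : IsInertia (H := L') (φ ∘ ε) L' := by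
      intro k
      constructor
      · intro hk h
        exact (congrFun (mem_stab.1 (hLst hk)) (ε h) :)
      · intro h
        show (k : G) ∈ L
        rw [← hUL]
        refine ⟨k.2, mem_stab.2 (funext fun x => ?_)⟩
        have h1 := h (ε.symm x)
        simp only [Function.comp_apply, MulEquiv.apply_symm_apply] at h1
        exact h1
    obtain ⟨ψ, hψ, hψne, hψe⟩ :=
      exists_eq_indFun_inertia (le_refl L') hφ' hI hϑ (by rw [hne']; exact hne)
    obtain rfl : ψ = φ ∘ ε := by
      by_contra hd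
      exact hψne (classInner_irr_ne hψ hφ' hd)
    let c : K → (L → ℂ) := fun k => conjG φ (k : G)
    refine ⟨Finset.univ.image c, fun μ hμ => ?_, ?_, ?_⟩
    · obtain ⟨k, -, rfl⟩ := Finset.mem_image.1 hμ
      exact IsIrrCharacter.conjG hφ _
    all_goals
      have hfib : ∀ k₀ : K, (Finset.univ.filter fun k : K => c k = c k₀).card = Nat.card L' := by
        intro k₀
        rw [Nat.card_eq_fintype_card, ← Fintype.card_coe]
        refine Fintype.card_congr
          { toFun := fun k => ⟨(k : K) * k₀⁻¹, ?_⟩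
            invFun := fun u => ⟨(u : K) * k₀, ?_⟩
            left_inv := fun k => by simp
            right_inv := fun u => by simp }
        · show (((k : K) * k₀⁻¹ : K) : G) ∈ L
          refine (SetLike.ext_iff.1 hUL _).1 ⟨SetLike.coe_mem _, mem_stab.2 ?_⟩
          have h1 := (Finset.mem_filter.1 k.2).2
          simp only [c] at h1
          rw [Subgroup.coe_mul, Subgroup.coe_inv, ← conjG_mul, h1, conjG_mul, mul_inv_cancel,
            conjG_one]
        · refine Finset.mem_filter.2 ⟨Finset.mem_univ _, ?_⟩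
          show conjG φ (((u : K) * k₀ : K) : G) = conjG φ (k₀ : G)
          rw [Subgroup.coe_mul, ← conjG_mul, mem_stab.1 (hLst (show ((u : K) : G) ∈ L from u.2))]
    · have h1 := Finset.card_eq_sum_card_fiberwise (f := c) (s := Finset.univ)
        (t := Finset.univ.image c) (fun k _ => Finset.mem_image_of_mem _ (Finset.mem_univ k))
      rw [Finset.sum_congr rfl (g := fun _ => Nat.card L') fun μ hμ => by
        obtain ⟨k, -, rfl⟩ := Finset.mem_image.1 hμ
        exact hfib k, Finset.sum_const, smul_eq_mul, Finset.card_univ, ← Nat.card_eq_fintype_card,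
        ← Subgroup.index_mul_card L'] at h1
      exact (Nat.eq_of_mul_eq_mul_right Nat.card_pos h1).symm
    · funext x
      have h1 := congrFun hψe (ε.symm x : K)
      rw [indFun_apply_of_normal] at h1
      rw [Finset.sum_apply]
      refine h1.trans ?_
      have h2 : ∀ k : K, (φ ∘ ε) ⟨k * (ε.symm x : K) * k⁻¹,
          (inferInstance : L'.Normal).conj_mem _ (ε.symm x).2 k⟩ = c k x := fun k =>
        congrArg φ (Subtype.ext (by show _ = (k : G) * (x : G) * (k : G)⁻¹; rfl))
      rw [Finset.sum_congr rfl fun k _ => h2 k,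
        ← Finset.sum_fiberwise_of_maps_to (g := c) (t := Finset.univ.image c)
          (fun k _ => Finset.mem_image_of_mem _ (Finset.mem_univ k)), Finset.mul_sum]
      refine Finset.sum_congr rfl fun μ hμ => ?_
      rw [Finset.sum_congr rfl (g := fun _ => μ x) fun k hk => congrFun (Finset.mem_filter.1 hk).2 x,
        Finset.sum_const, nsmul_eq_mul]
      obtain ⟨k₀, -, rfl⟩ := Finset.mem_image.1 hμ
      rw [hfib k₀, ← mul_assoc, inv_mul_cancel₀ CfsgLib.Char.card_ne_zero, one_mul]
  · obtain ⟨e, -, -, hres⟩ := Clifford.restrict_eq_smul L' hϑ hφ' (by rw [hne']; exact hne)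
      fun k n => by
        have hk : (k : G) ∈ stab φ := ((hUK.symm ▸ k.2 : (k : G) ∈ K ⊓ stab φ)).2
        exact (congrFun (mem_stab.1 hk) (ε n) :)
    have he : ϑL = (e : ℂ) • φ := funext fun x => by
      have h1 := congrFun hres (ε.symm x)
      simp only [Pi.smul_apply, Function.comp_apply, MulEquiv.apply_symm_apply] at h1
      exact h1
    rcases chief_homogeneous hLK.le hchief hab hϑ hinv hφ he with h1 | h2
    · left
      show IsIrrCharacter L ϑL
      rw [he, h1, Nat.cast_one, one_smul]
      exact hφ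
    · right; left
      exact ⟨φ, e, hφ, he, h2⟩


end Cfsg.Agent.S0857
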