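import Cfsg.Statements.S0858
import Cfsg.Agent.Lib.CharDeep.RelativeSteps
-- import your own Cfsg.Agent.* helpers here

set_option autoImplicit false
open Cfsg CfsgLib.Char CfsgLib.CharDeep CfsgLib.CharDeep.Relative

namespace Cfsg.Agent.S0858

/-- Let N be a normal subgroup of the finite group G with G / N solvable, and suppose that for every subgroup H containing N and all subgroups L < K between N and H that are normal in H with no subgroup normal in H strictly between them, the index of L in K is not a perfect square. Then every irreducible character χ of G is induced from an irreducible character ψ of some subgroup H containing N such that the restriction of ψ to N is irreducible. -/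
theorem result {G : Type*} [Group G] [Fintype G] (N : Subgroup G) [N.Normal] (hsolv : Group.IsSolvable (G ⧸ N)) (hchief : ∀ (H K L : Subgroup G), N ≤ L → L < K → K ≤ H → (∀ h ∈ H, ∀ k ∈ K, h * k * h⁻¹ ∈ K) → (∀ h ∈ H, ∀ l ∈ L, h * l * h⁻¹ ∈ L) → (∀ M : Subgroup G, L ≤ M → M ≤ K → (∀ h ∈ H, ∀ m ∈ M, h * m * h⁻¹ ∈ M) → M = L ∨ M = K) → ¬ IsSquare (L.relIndex K)) (χ : G → ℂ) (hχ : Cfsg.IsIrrCharacter G χ) : ∃ (H : Subgroup G) (hNH : N ≤ H) (ψ : H → ℂ), Cfsg.IsIrrCharacter H ψ ∧ Cfsg.indFun H ψ = χ ∧ Cfsg.IsIrrCharacter N (fun n : N => ψ ⟨(n : G), hNH n.2⟩) := by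

  classical
  haveI := hsolv
  suffices H : ∀ m : ℕ, ∀ (T : Subgroup G), Nat.card T = m → N ≤ T → ∀ (η : T → ℂ),
      IsIrrCharacter T η → ∃ (H : Subgroup G) (hNH : N ≤ H) (ψ : H → ℂ), IsIrrCharacter H ψ ∧
        indFun H ψ = indFun T η ∧ IsIrrCharacter N (fun n : N => ψ ⟨(n : G), hNH n.2⟩) by
    obtain ⟨H, hNH, ψ, h1, h2, h3⟩ := H _ ⊤ rfl le_top (fun t => χ t)
      (IsIrrCharacter.comp_equiv hχ Subgroup.topEquiv)
    exact ⟨H, hNH, ψ, h1, h2.trans (indFun_top (IsIrrCharacter.isClassFunction hχ)), h3⟩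
  intro m
  induction m using Nat.strong_induction_on with
  | _ m IH =>
    intro T hm hNT η hη
    haveI : Fintype T := Fintype.ofFinite T
    set N' := N.subgroupOf T
    by_cases hhom : ∀ M : Subgroup T, M.Normal → N' ≤ M → Homogeneous η M
    · haveI : Fintype N' := Fintype.ofFinite _
      refine ⟨T, hNT, η, hη, rfl, ?_⟩
      have hle0 : N' ≤ Subgroup.comap T.subtype N := le_rfl
      have hN'solv : Group.IsSolvable (T ⧸ N') := by
        refine Group.isSolvable_of_isSolvable_injective
          (f := QuotientGroup.map N' N T.subtype hle0) ?_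
        rw [← MonoidHom.ker_eq_bot_iff, eq_bot_iff]
        intro q hq
        obtain ⟨t, rfl⟩ := QuotientGroup.mk'_surjective N' q
        rw [MonoidHom.mem_ker, QuotientGroup.map_mk'] at hq
        exact Subgroup.mem_bot.2 ((QuotientGroup.eq_one_iff t).2
          (show t ∈ N' from (QuotientGroup.eq_one_iff (T.subtype t)).1 hq))
      have h1 := irr_restrict_of_homogeneous hη N' hN'solv (fun L K hL hK hNL hLK hchiefT => by
        have hinj := T.subtype_injective
        rw [← Subgroup.relIndex_map_map_of_injective L K hinj]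
        refine hchief T (K.map T.subtype) (L.map T.subtype) ?_
          (Subgroup.map_lt_map_iff_of_injective hinj |>.2 hLK) (Subgroup.map_subtype_le K) ?_ ?_ ?_
        · exact (Subgroup.map_subgroupOf_eq_of_le hNT) ▸ Subgroup.map_mono hNL
        · rintro h hh _ ⟨k, hk, rfl⟩
          exact ⟨⟨h, hh⟩ * k * ⟨h, hh⟩⁻¹, hK.conj_mem k hk _, rfl⟩
        · rintro h hh _ ⟨k, hk, rfl⟩
          exact ⟨⟨h, hh⟩ * k * ⟨h, hh⟩⁻¹, hL.conj_mem k hk _, rfl⟩
        · intro M hLM hMK hMn
          have hMT : M ≤ T := hMK.trans (Subgroup.map_subtype_le K)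
          rw [← Subgroup.map_subgroupOf_eq_of_le hMT] at hLM hMK ⊢
          rcases hchiefT (M.subgroupOf T) ⟨fun x hx t => hMn t t.2 x hx⟩
            ((Subgroup.map_le_map_iff_of_injective hinj).1 hLM)
            ((Subgroup.map_le_map_iff_of_injective hinj).1 hMK) with h | h
          · exact Or.inl (by rw [h])
          · exact Or.inr (by rw [h])) hhom
      exact IsIrrCharacter.comp_equiv h1 (Subgroup.subgroupOfEquivOfLe hNT).symm
    · push Not at hhom
      obtain ⟨M, hM, hNM, hnot⟩ := hhom
      obtain ⟨T', ξ, hMT', hT', hξ, hind⟩ := exists_induced_of_not_homogeneous hη M hnot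
      set T₁ := T'.map T.subtype
      have hle : T₁ ≤ T := Subgroup.map_subtype_le T'
      have hT₁ : T₁.subgroupOf T = T' := Subgroup.comap_map_eq_self_of_injective T.subtype_injective T'
      have hlt : Nat.card T₁ < m := by
        rw [← hm, Subgroup.card_map_of_injective T.subtype_injective]
        exact CfsgLib.Solvable.Basic.card_subgroup_lt T' hT'
      let e : T' ≃* T₁ := T'.equivMapOfInjective T.subtype T.subtype_injective
      obtain ⟨H, hNH, ψ, h1, h2, h3⟩ := IH _ hlt T₁ rfl
        (fun n hn => ⟨⟨n, hNT hn⟩, hMT' (hNM hn), rfl⟩) (ξ ∘ e.symm)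
        (IsIrrCharacter.comp_equiv hξ e.symm)
      refine ⟨H, hNH, ψ, h1, h2.trans ?_, h3⟩
      rw [← indFun_indFun T₁ (ξ ∘ e.symm) T hle, ← hind]
      congr 1
      have key : ∀ (S : Subgroup T) (hS : S = T') (α : S → ℂ),
          (∀ x : S, α x = ξ ⟨(x : T), hS ▸ x.2⟩) → indFun S α = indFun T' ξ := by
        rintro S rfl α hα
        rw [show α = ξ from funext hα]
      refine key _ hT₁ _ fun x => congrArg ξ (e.injective ?_)
      rw [MulEquiv.apply_symm_apply]
      exact Subtype.ext rfl


end Cfsg.Agent.S0858
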