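import Cfsg.Statements.S0859
import Cfsg.Agent.Lib.CharDeep.RelativeSteps
-- import your own Cfsg.Agent.* helpers here

set_option autoImplicit false
open Cfsg CfsgLib.Char CfsgLib.CharDeep CfsgLib.CharDeep.Relative
open scoped commutatorElement

namespace Cfsg.Agent.S0859

/-- Let G be a finite solvable group and N a normal subgroup such that for every prime p every Sylow p-subgroup of N is abelian. Suppose every irreducible character of G is induced from an irreducible character of some subgroup containing N whose restriction to N is irreducible. Then every irreducible character of G is induced from a character of degree 1 of some subgroup. -/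
theorem result {G : Type*} [Group G] [Fintype G] [Group.IsSolvable G] (N : Subgroup G) [N.Normal] (hab : ∀ (p : ℕ) [Fact p.Prime] (P : Sylow p N), ∀ a ∈ P, ∀ b ∈ P, a * b = b * a) (hrel : ∀ χ : G → ℂ, Cfsg.IsIrrCharacter G χ → ∃ (H : Subgroup G) (hNH : N ≤ H) (ψ : H → ℂ), Cfsg.IsIrrCharacter H ψ ∧ Cfsg.indFun H ψ = χ ∧ Cfsg.IsIrrCharacter N (fun n : N => ψ ⟨(n : G), hNH n.2⟩)) (χ : G → ℂ) (hχ : Cfsg.IsIrrCharacter G χ) : ∃ (U : Subgroup G) (lam : U → ℂ), Cfsg.IsCharacter U lam ∧ lam 1 = 1 ∧ Cfsg.indFun U lam = χ := by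

  classical
  obtain ⟨H, hNH, ψ, hψ, rfl, hψN⟩ := hrel χ hχ
  suffices key : ∀ m : ℕ, ∀ (H : Subgroup G) (ψ : H → ℂ), Nat.card H = m → IsIrrCharacter H ψ →
      IsIrrCharacter (N.subgroupOf H) (fun x : N.subgroupOf H => ψ x) →
      ∃ (U : Subgroup G) (lam : U → ℂ), IsCharacter U lam ∧ lam 1 = 1 ∧
        indFun U lam = indFun H ψ from
    key _ H ψ rfl hψ (IsIrrCharacter.comp_equiv hψN (Subgroup.subgroupOfEquivOfLe hNH))
  clear hNH hψN hψ ψ H hχ hrel
  intro m
  induction m using Nat.strong_induction_on with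
  | _ m IH =>
    intro H ψ hm hψ hψN
    by_cases h1 : ψ 1 = 1
    · exact ⟨H, ψ, IsIrrCharacter.isCharacter hψ, h1, rfl⟩
    set N' := N.subgroupOf H
    haveI : Fintype H := Fintype.ofFinite H
    haveI : Fintype N' := Fintype.ofFinite N'
    obtain ⟨n, ρ, hρ, hρψ⟩ := id hψ
    let f := ρ.toHomUnits.rangeRestrict
    set Z := N' ⊓ (Subgroup.center ρ.toHomUnits.range).comap f
    have hker : ∀ x : H, f x = 1 → ψ x = ψ 1 := fun x hx => by
      have hx' : ρ x = 1 := congrArg (fun u : ρ.toHomUnits.range => ((u : (Module.End ℂ (Fin n → ℂ))ˣ) : Module.End ℂ (Fin n → ℂ))) hx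
      rw [← hρψ]
      simp [Representation.character, hx']
    have hlin : ∀ (S : Subgroup H) [Fintype S], IsIrrCharacter S (fun s : S => ψ s) →
        (∀ a ∈ S, ∀ b ∈ S, f a * f b = f b * f a) → ψ 1 = 1 := by
      intro S _ hS hcomm
      set K₀ := f.ker.subgroupOf S
      obtain ⟨χ₀, hχ₀, he⟩ := IsIrrCharacter.exists_deflate hS K₀ fun s hs => hker s hs
      haveI : Fintype (S ⧸ K₀) := Fintype.ofFinite _
      have h2 := apply_one_eq_one_of_comm (fun a b => by
        obtain ⟨a, rfl⟩ := QuotientGroup.mk'_surjective K₀ a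
        obtain ⟨b, rfl⟩ := QuotientGroup.mk'_surjective K₀ b
        rw [← commutatorElement_eq_one_iff_mul_comm, ← map_commutatorElement]
        refine (QuotientGroup.eq_one_iff _).2 ?_
        show f ((⁅a, b⁆ : S) : H) = 1
        rw [show ((⁅a, b⁆ : S) : H) = ⁅(a : H), (b : H)⁆ from map_commutatorElement S.subtype a b,
          map_commutatorElement, commutatorElement_eq_one_iff_mul_comm]
        exact hcomm _ a.2 _ b.2) hχ₀
      have h3 := congrFun he 1
      simp only [Function.comp_apply, map_one] at h3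
      exact h3.trans h2
    have hZlt : Z < N' := lt_of_le_of_ne inf_le_left fun hZ => h1 (hlin N' hψN fun a ha b _ =>
      ((Subgroup.mem_center_iff.1 (hZ.symm ▸ ha : a ∈ Z).2) (f b)).symm)
    obtain ⟨A, hAn, hZA, hAN, hchief⟩ := exists_chief hZlt
    obtain ⟨hab', -⟩ := chief_solvable inferInstance hZA hchief
    set A' := A.map f with hA'
    have hfA : ∀ a ∈ A, ∀ b ∈ A, f a * f b = f b * f a := by
      have hcomm : commutator A' ≤ Subgroup.center A' := by
        rw [commutator_def, Subgroup.commutator_le]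
        rintro ⟨_, a, ha, rfl⟩ - ⟨_, b, hb, rfl⟩ -
        refine Subgroup.mem_center_iff.2 fun y => Subtype.ext ?_
        have hc : f ⁅a, b⁆ ∈ Subgroup.center ρ.toHomUnits.range :=
          (hab' (Subgroup.commutator_mem_commutator ha hb)).2
        rw [map_commutatorElement] at hc
        simp only [Subgroup.coe_mul]
        rw [show ((⁅(⟨f a, a, ha, rfl⟩ : A'), ⟨f b, b, hb, rfl⟩⁆ : A') : ρ.toHomUnits.range)
          = ⁅f a, f b⁆ from map_commutatorElement A'.subtype _ _]
        exact Subgroup.mem_center_iff.1 hc _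
      haveI : Group.IsNilpotent A' := by
        letI : Group.IsNilpotent (Abelianization A') := inferInstance
        exact Subgroup.isNilpotent_of_ker_le_center (Abelianization.of : A' →* Abelianization A')
          (le_trans (le_of_eq (Abelianization.ker_of A')) hcomm)
      have hsyl : ∀ (p : ℕ), p.Prime → ∀ P : Sylow p A', ∀ a ∈ P, ∀ b ∈ P, a * b = b * a := by
        intro p hp P
        haveI := Fact.mk hp
        obtain ⟨Q, hQ⟩ := Sylow.mapSurjective_surjective (f := f.subgroupMap A)
          (f.subgroupMap_surjective A) p P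
        let ι : A →* N :=
          { toFun := fun a => ⟨((a : H) : G), hAN a.2⟩, map_one' := rfl, map_mul' := fun _ _ => rfl }
        obtain ⟨R, hR⟩ := (Q.isPGroup'.map ι).exists_le_sylow
        rintro a ha b hb
        rw [← hQ] at ha hb
        change a ∈ (Q : Subgroup A).map (f.subgroupMap A) at ha
        change b ∈ (Q : Subgroup A).map (f.subgroupMap A) at hb
        obtain ⟨a, ha, rfl⟩ := ha
        obtain ⟨b, hb, rfl⟩ := hb
        rw [← map_mul, ← map_mul]
        congr 1
        have := hab p R (ι a) (hR ⟨a, ha, rfl⟩) (ι b) (hR ⟨b, hb, rfl⟩)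
        refine Subtype.ext (Subtype.ext ?_)
        have h2 := congrArg (fun z : N => (z : G)) this
        exact h2
      have hA'comm : ∀ a b : A', a * b = b * a := by
        let e := Sylow.directProductOfNormal (G := A') (fun {p} [Fact p.Prime] P => inferInstance)
        intro a b
        obtain ⟨x, rfl⟩ := e.surjective a
        obtain ⟨y, rfl⟩ := e.surjective b
        rw [← map_mul, ← map_mul]
        congr 1
        funext ⟨p, hp⟩ P
        exact Subtype.ext (hsyl p (Nat.prime_of_mem_primeFactors hp) P _ (x ⟨p, hp⟩ P).2 _ (y ⟨p, hp⟩ P).2)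
      intro a ha b hb
      exact congrArg Subtype.val (hA'comm ⟨f a, a, ha, rfl⟩ ⟨f b, b, hb, rfl⟩)
    haveI : Fintype A := Fintype.ofFinite A
    have hnot : ¬ Homogeneous ψ A := by
      rintro ⟨φ, e, hφ, he⟩
      have hke : ∀ a : A, f a = 1 → φ a = φ 1 := fun a ha => by
        have h2 := congrFun he a
        have h3 := congrFun he 1
        simp only [Pi.smul_apply, smul_eq_mul] at h2 h3
        rw [hker _ ha] at h2
        exact mul_left_cancel₀ (Nat.cast_ne_zero.2 (mult_ne_zero hψ he)) (h2.symm.trans h3)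
      obtain ⟨φ₀, hφ₀, heφ⟩ := IsIrrCharacter.exists_deflate hφ (f.ker.subgroupOf A)
        fun a ha => hke a ha
      haveI : Fintype (A ⧸ f.ker.subgroupOf A) := Fintype.ofFinite _
      have hq : ∀ a b : A ⧸ f.ker.subgroupOf A, a * b = b * a := fun a b => by
        obtain ⟨a, rfl⟩ := QuotientGroup.mk'_surjective _ a
        obtain ⟨b, rfl⟩ := QuotientGroup.mk'_surjective _ b
        rw [← commutatorElement_eq_one_iff_mul_comm, ← map_commutatorElement]
        refine (QuotientGroup.eq_one_iff _).2 ?_
        show f ((⁅a, b⁆ : A) : H) = 1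
        rw [show ((⁅a, b⁆ : A) : H) = ⁅(a : H), (b : H)⁆ from map_commutatorElement A.subtype a b,
          map_commutatorElement, commutatorElement_eq_one_iff_mul_comm]
        exact hfA _ a.2 _ b.2
      obtain ⟨μ, hμ⟩ := exists_hom_of_apply_one_eq_one (IsIrrCharacter.isCharacter hφ₀)
        (apply_one_eq_one_of_comm hq hφ₀)
      refine hZA.not_ge fun a ha => ⟨hAN ha, Subgroup.mem_comap.2 ?_⟩
      have hnorm : ‖ψ a‖ = n := by
        have h2 := congrFun he ⟨a, ha⟩
        have h3 := congrFun he 1
        simp only [Pi.smul_apply, smul_eq_mul, heφ, hμ, Function.comp_apply, map_one, Units.val_one,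
          mul_one, OneMemClass.coe_one] at h2 h3
        rw [h2, norm_mul, Complex.norm_natCast, norm_eq_one_of_pow_orderOf (g := QuotientGroup.mk' _ (⟨a, ha⟩ : A))
          (by rw [← Units.val_pow_eq_pow_val, ← map_pow, pow_orderOf_eq_one, map_one, Units.val_one]),
          mul_one]
        have h4 : ψ 1 = n := by rw [← hρψ, Representation.char_one, Module.finrank_fin_fun]
        exact_mod_cast h3.symm.trans h4
      obtain ⟨c, -, hc, -⟩ := exists_scalar_of_norm_char_eq ρ a (by rw [hρψ, Module.finrank_fin_fun]; exact hnorm)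
      refine Subgroup.mem_center_iff.2 fun y => ?_
      obtain ⟨y, rfl⟩ := f.range_eq_top.mpr ρ.toHomUnits.rangeRestrict_surjective ▸ Subgroup.mem_top y
      refine Subtype.ext (Units.ext ?_)
      show ρ y * ρ a = ρ a * ρ y
      rw [hc]
      refine LinearMap.ext fun v => ?_
      simp
    obtain ⟨T, ξ, -, hT, hξ, hind⟩ := exists_induced_of_not_homogeneous hψ A hnot
    haveI : Fintype T := Fintype.ofFinite T
    have hξc := IsIrrCharacter.isCharacter hξ
    have hψc := IsIrrCharacter.isCharacter hψ
    have hsup : N' ⊔ T = ⊤ := by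
      set S := N' ⊔ T
      haveI : Fintype S := Fintype.ofFinite S
      set ξ' : S → ℂ := indFun (T.subgroupOf S) fun x => ξ ⟨(x : S), Subgroup.mem_subgroupOf.mp x.2⟩
      have hξ'c : IsCharacter S ξ' := IsCharacter.indFun _
        (IsCharacter.comp hξc (Subgroup.subgroupOfEquivOfLe (le_sup_right : T ≤ S)).toMonoidHom)
      have hI : indFun S ξ' = ψ := (indFun_indFun T ξ S le_sup_right).trans hind
      have hξ' : IsIrrCharacter S ξ' := irr_of_indFun_irr S hξ'c (hI.symm ▸ hψ)
      have hinner : classInner (fun s : S => ψ s) ξ' ≠ 0 := by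
        rw [IsCharacter.classInner_comm (IsCharacter.restrict hψc S) hξ'c,
          ← classInner_indFun S ξ' (IsIrrCharacter.isClassFunction hψ), hI, classInner_irr_self hψ]
        exact one_ne_zero
      have hle : N' ≤ S := le_sup_left
      obtain ⟨μ, hμ, hμne⟩ := IsCharacter.exists_constituent
        (IsCharacter.comp hξ'c (Subgroup.inclusion hle)) fun h0 =>
          IsIrrCharacter.apply_one_ne_zero hξ' (congrFun h0 1)
      have hμψ : (fun x : N' => ψ x) = μ := by
        by_contra hd
        exact Clifford.classInner_ne_zero_trans (IsCharacter.restrict hψc S) hξ' hinner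
          (Subgroup.inclusion hle) (IsIrrCharacter.isCharacter hμ) hμne
          (classInner_irr_ne hψN hμ hd)
      obtain ⟨a, b, ha, hb, hab2, -⟩ := IsCharacter.constituent_degree_le
        (IsCharacter.comp hξ'c (Subgroup.inclusion hle)) hμ hμne
      rw [← hμψ] at ha
      simp only [Function.comp_apply, map_one, OneMemClass.coe_one] at ha hb
      rw [← hI, indFun_one, hb] at ha
      have e1 : S.index * b = a := by exact_mod_cast ha
      have hb0 : 0 < b := by
        rcases Nat.eq_zero_or_pos b with rfl | h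
        · exact absurd (by rw [hb, Nat.cast_zero]) (IsIrrCharacter.apply_one_ne_zero hξ')
        · exact h
      refine Subgroup.index_eq_one.1 (le_antisymm (Nat.le_of_mul_le_mul_right (c := b) ?_ hb0)
        (Nat.one_le_iff_ne_zero.2 Subgroup.index_ne_zero_of_finite))
      omega
    have hres := indFun_restrict_of_sup hsup (IsIrrCharacter.isClassFunction hξ)
    rw [hind] at hres
    haveI : Fintype (T.subgroupOf N') := Fintype.ofFinite _
    let toT : T.subgroupOf N' →* T :=
      { toFun := fun j => ⟨((j : N') : H), j.2⟩, map_one' := rfl, map_mul' := fun _ _ => rfl }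
    have hξN : IsIrrCharacter (T.subgroupOf N') fun j : T.subgroupOf N' => ξ ⟨((j : N') : H), j.2⟩ :=
      irr_of_indFun_irr _ (IsCharacter.comp hξc toT) (hres ▸ hψN)
    set T₁ := T.map H.subtype
    have hle : T₁ ≤ H := Subgroup.map_subtype_le T
    have hT₁ : T₁.subgroupOf H = T := Subgroup.comap_map_eq_self_of_injective H.subtype_injective T
    let e : T ≃* T₁ := T.equivMapOfInjective H.subtype H.subtype_injective
    haveI : Fintype (N.subgroupOf T₁) := Fintype.ofFinite _
    let e₂ : N.subgroupOf T₁ ≃* T.subgroupOf N' :=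
      { toFun := fun x => ⟨⟨⟨((x : T₁) : G), hle (x : T₁).2⟩, x.2⟩, by
          obtain ⟨t, ht, hte⟩ := (x : T₁).2
          show (⟨((x : T₁) : G), hle (x : T₁).2⟩ : H) ∈ T
          rwa [show (⟨((x : T₁) : G), hle (x : T₁).2⟩ : H) = t from Subtype.ext hte.symm]⟩
        invFun := fun j => ⟨⟨(((j : N') : H) : G), ⟨_, j.2, rfl⟩⟩, (j : N').2⟩
        left_inv := fun x => rfl
        right_inv := fun j => rfl
        map_mul' := fun x y => rfl }
    obtain ⟨U, lam, hl, hl1, hlind⟩ := IH _
      (by
        rw [← hm, Subgroup.card_map_of_injective H.subtype_injective]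
        exact CfsgLib.Solvable.Basic.card_subgroup_lt T hT) T₁ (ξ ∘ e.symm) rfl
      (IsIrrCharacter.comp_equiv hξ e.symm)
      (by
        refine (show (fun x : N.subgroupOf T₁ => (ξ ∘ e.symm) x)
          = (fun j : T.subgroupOf N' => ξ ⟨((j : N') : H), j.2⟩) ∘ e₂ from funext fun x =>
            congrArg ξ (e.injective ?_)) ▸ IsIrrCharacter.comp_equiv hξN e₂
        rw [MulEquiv.apply_symm_apply]
        exact Subtype.ext rfl)
    refine ⟨U, lam, hl, hl1, hlind.trans ?_⟩
    rw [← indFun_indFun T₁ (ξ ∘ e.symm) H hle, ← hind]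
    congr 1
    have key : ∀ (S : Subgroup H) (hS : S = T) (α : S → ℂ),
        (∀ x : S, α x = ξ ⟨(x : H), hS ▸ x.2⟩) → indFun S α = indFun T ξ := by
      rintro S rfl α hα
      rw [show α = ξ from funext hα]
    refine key _ hT₁ _ fun x => congrArg ξ (e.injective ?_)
    rw [MulEquiv.apply_symm_apply]
    exact Subtype.ext rfl


end Cfsg.Agent.S0859
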