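import Cfsg.Statements.S0860
import Cfsg.Agent.Lib.Char.Perm

set_option autoImplicit false
open Cfsg
open CfsgLib

namespace Cfsg.Agent.S0860

/-- Let a group A act on the set of irreducible characters and on the set of conjugacy classes of a finite group G in such a way that (a • χ) evaluated on the class a • C equals χ evaluated on C, for all a, χ and C. Then every element of A fixes exactly as many irreducible characters as it fixes conjugacy classes. -/
theorem result {G : Type*} [Group G] [Finite G] {A : Type*} [Group A] [MulAction A (Cfsg.IrrCharacter G)] [MulAction A (ConjClasses G)] (hcompat : ∀ (a : A) (χ : Cfsg.IrrCharacter G) (g g' : G), ConjClasses.mk g' = a • ConjClasses.mk g → ((a • χ : Cfsg.IrrCharacter G) : G → ℂ) g' = (χ : G → ℂ) g) (a : A) : Nat.card {χ : Cfsg.IrrCharacter G // a • χ = χ} = Nat.card {C : ConjClasses G // a • C = C} := by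
  classical
  haveI := Fintype.ofFinite G
  let f : G → G := fun g => (a⁻¹ • ConjClasses.mk g).exists_rep.choose
  have hf : ∀ g, ConjClasses.mk (f g) = a⁻¹ • ConjClasses.mk g := fun g =>
    (a⁻¹ • ConjClasses.mk g).exists_rep.choose_spec
  have hχ : ∀ χ : Cfsg.IrrCharacter G, ((a • χ : Cfsg.IrrCharacter G) : G → ℂ) = (χ : G → ℂ) ∘ f :=
    fun χ => funext fun g => hcompat a χ (f g) g (by rw [hf, smul_inv_smul])
  have key := CfsgLib.Char.card_fixed_irr_eq f
    (fun x y h => ConjClasses.mk_eq_mk_iff_isConj.1 (by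
      rw [hf, hf, ConjClasses.mk_eq_mk_iff_isConj.2 h]))
    (fun χ h => hχ ⟨χ, h⟩ ▸ (a • (⟨χ, h⟩ : Cfsg.IrrCharacter G)).2)
  rw [Nat.card_congr (Equiv.subtypeEquivRight fun χ : Cfsg.IrrCharacter G =>
    show a • χ = χ ↔ (χ : G → ℂ) ∘ f = (χ : G → ℂ) by rw [Subtype.ext_iff, hχ]), key]
  refine Nat.card_congr (Equiv.subtypeEquivRight fun C => ?_)
  obtain ⟨g, rfl⟩ := C.exists_rep
  constructor
  · intro h
    have h1 := ConjClasses.mk_eq_mk_iff_isConj.2 (h g rfl)
    rw [hf] at h1
    exact (inv_smul_eq_iff.1 h1).symm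
  · intro h g' hg'
    refine ConjClasses.mk_eq_mk_iff_isConj.1 ?_
    rw [hf, hg', inv_smul_eq_iff, h]

end Cfsg.Agent.S0860
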