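import Cfsg.Statements.S0861
import Cfsg.Agent.Lib.DegreeTools.PDegree
import Cfsg.Agent.Lib.DegreeTools.CharTools
import Cfsg.Agent.Lib.Char.Linear

set_option autoImplicit false
open Cfsg
open scoped ComplexConjugate
open CfsgLib

namespace Cfsg.Agent.S0861

/-- Let P be a normal abelian Sylow p-subgroup of the finite group G and suppose some element g of P has centralizer exactly P. Then the number of irreducible characters of G is at most the order of P, and if equality holds then G / P is abelian (the commutator subgroup lies in P). -/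
theorem result {G : Type*} [Group G] [Finite G] (p : ℕ) [Fact p.Prime] (P : Sylow p G) [(P : Subgroup G).Normal] (hab : ∀ a ∈ P, ∀ b ∈ P, a * b = b * a) (g : G) (hg : g ∈ P) (hC : Subgroup.centralizer ({g} : Set G) = P) : Nat.card (Cfsg.IrrCharacter G) ≤ Nat.card P ∧ (Nat.card (Cfsg.IrrCharacter G) = Nat.card P → commutator G ≤ P) := by
  classical
  haveI := Fintype.ofFinite G
  set S : Finset G := Finset.univ.filter fun h => Subgroup.zpowers h = Subgroup.zpowers g with hSdef
  have hgS : g ∈ S := by simp [hSdef]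
  have hS : ∀ h ∈ S, ∀ j : ℕ, (Nat.card G).Coprime j → h ^ j ∈ S := by
    intro h hh j hj
    simp only [hSdef, Finset.mem_filter, Finset.mem_univ, true_and] at hh ⊢
    rw [← hh]
    refine Subgroup.eq_of_le_of_card_ge
      (Subgroup.zpowers_le.2 (Subgroup.pow_mem _ (Subgroup.mem_zpowers h) j)) ?_
    rw [Nat.card_zpowers, Nat.card_zpowers,
      Nat.Coprime.orderOf_pow (Nat.Coprime.coprime_dvd_left (orderOf_dvd_natCard h) hj)]
  have hcent : ∀ h ∈ S, Subgroup.centralizer ({h} : Set G) = (P : Subgroup G) := by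
    intro h hh
    simp only [hSdef, Finset.mem_filter, Finset.mem_univ, true_and] at hh
    rw [← hC, ← Subgroup.centralizer_closure, ← Subgroup.zpowers_eq_closure, hh,
      Subgroup.zpowers_eq_closure, Subgroup.centralizer_closure]
  have hPab : ∀ a b : (P : Subgroup G), a * b = b * a := fun a b => Subtype.ext (hab a a.2 b b.2)
  have hne : ∀ (χ : Cfsg.IrrCharacter G), ∀ h ∈ S, (χ : G → ℂ) h ≠ 0 := by
    intro χ h hh
    refine CfsgLib.DegreeTools.apply_ne_zero_of_not_dvd p χ
      (fun hd => P.not_dvd_index (hd.trans (CfsgLib.DegreeTools.deg_dvd_index _ hPab χ))) h ?_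
    simp only [hSdef, Finset.mem_filter, Finset.mem_univ, true_and] at hh
    have hhP : h ∈ (P : Subgroup G) := by
      have : h ∈ Subgroup.zpowers g := hh ▸ Subgroup.mem_zpowers h
      exact (Subgroup.zpowers_le.2 hg) this
    obtain ⟨k, hk⟩ := IsPGroup.iff_orderOf.1 P.2 ⟨h, hhP⟩
    exact ⟨k, by rw [← hk, Subgroup.orderOf_mk]⟩
  have hle : ∀ χ : Cfsg.IrrCharacter G, (S.card : ℝ) ≤ ∑ h ∈ S, ‖(χ : G → ℂ) h‖ ^ 2 := by
    intro χ
    obtain ⟨n, ρ, -, hρ⟩ := χ.2
    have h := CfsgLib.DegreeTools.CharTools.card_le_sum_pow 2 ρ S hS fun h hh => by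
      rw [congrFun hρ h]; exact hne χ h hh
    simpa [hρ] using h
  have htot : ∑ χ : Cfsg.IrrCharacter G, ∑ h ∈ S, ‖(χ : G → ℂ) h‖ ^ 2 =
      (S.card : ℝ) * Nat.card P := by
    rw [Finset.sum_comm, ← nsmul_eq_mul, ← Finset.sum_const]
    refine Finset.sum_congr rfl fun h hh => ?_
    have h1 := Char.sum_irr_mul_conj h h
    rw [if_pos (IsConj.refl h), hcent h hh] at h1
    apply Complex.ofReal_injective
    push_cast
    refine Eq.trans (Finset.sum_congr rfl fun χ _ => ?_) h1
    rw [Complex.mul_conj, Complex.normSq_eq_norm_sq]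
    push_cast
    rfl
  have hScard : (0 : ℝ) < S.card := by exact_mod_cast Finset.card_pos.2 ⟨g, hgS⟩
  have hsum := Finset.sum_le_sum (s := Finset.univ) fun χ _ => hle χ
  rw [htot, Finset.sum_const, Finset.card_univ, nsmul_eq_mul, mul_comm,
    ← Nat.card_eq_fintype_card] at hsum
  refine ⟨by exact_mod_cast le_of_mul_le_mul_left hsum hScard, fun heq => ?_⟩
  have heq' : ∑ χ : Cfsg.IrrCharacter G, (S.card : ℝ) =
      ∑ χ : Cfsg.IrrCharacter G, ∑ h ∈ S, ‖(χ : G → ℂ) h‖ ^ 2 := by
    rw [htot, Finset.sum_const, Finset.card_univ, nsmul_eq_mul, mul_comm,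
      ← Nat.card_eq_fintype_card, heq]
  have hall := (Finset.sum_eq_sum_iff_of_le fun χ _ => hle χ).1 heq'
  have hlin : ∀ ψ : Cfsg.IrrCharacter (G ⧸ (P : Subgroup G)),
      (ψ : G ⧸ (P : Subgroup G) → ℂ) 1 = 1 := by
    intro ψ
    let χ : Cfsg.IrrCharacter G := ⟨(ψ : G ⧸ (P : Subgroup G) → ℂ) ∘ QuotientGroup.mk' (P : Subgroup G),
      Char.IsIrrCharacter.comp_surjective ψ.2 _ (QuotientGroup.mk'_surjective _)⟩
    obtain ⟨d, hd, hd1⟩ := Char.IsIrrCharacter.apply_one_eq ψ.2
    have hval : ∀ h ∈ S, ‖(χ : G → ℂ) h‖ ^ 2 = (d : ℝ) ^ 2 := by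
      intro h hh
      have hhP : h ∈ (P : Subgroup G) := by
        rw [← hcent h hh]; exact Subgroup.mem_centralizer_singleton_iff.2 rfl
      show ‖(ψ : G ⧸ (P : Subgroup G) → ℂ) (QuotientGroup.mk' _ h)‖ ^ 2 = _
      rw [QuotientGroup.mk'_apply, (QuotientGroup.eq_one_iff h).2 hhP, hd1, Complex.norm_natCast]
    have h1 := hall χ (Finset.mem_univ χ)
    rw [Finset.sum_congr rfl hval, Finset.sum_const, nsmul_eq_mul] at h1
    have h2 : ((d : ℝ)) ^ 2 = 1 := by
      have := mul_left_cancel₀ hScard.ne' ((mul_one _).trans h1)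
      exact this.symm
    have h3 : d ^ 2 = 1 := by exact_mod_cast h2
    rw [hd1, (Nat.pow_eq_one.1 h3).resolve_right two_ne_zero, Nat.cast_one]
  have hcomm := Char.comm_iff_forall_linear.2 hlin
  rw [commutator_def, Subgroup.commutator_le]
  intro a _ b _
  rw [← QuotientGroup.eq_one_iff, commutatorElement_def]
  simp only [QuotientGroup.mk_mul, QuotientGroup.mk_inv, hcomm (a : G ⧸ (P : Subgroup G)) b,
    mul_inv_cancel_right, mul_inv_cancel]

end Cfsg.Agent.S0861
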