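import Cfsg.Statements.S0862
import Cfsg.Agent.Lib.CharDeep.DetExt

set_option autoImplicit false
open Cfsg CfsgLib.CharDeep

namespace Cfsg.Agent.S0862

/-- Let N be a normal subgroup of the finite group G and ϑ an irreducible character of N of degree d coprime to the index of N, which is the restriction of some irreducible character of G. Let μ be a character of G of degree 1 whose restriction to N is the determinantal character of ϑ. Then there is exactly one irreducible character χ of G restricting to ϑ whose determinantal character is μ. -/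
theorem result {G : Type*} [Group G] [Finite G] (N : Subgroup G) [N.Normal] (ϑ : N → ℂ) (hϑ : Cfsg.IsIrrCharacter N ϑ) (d : ℕ) (hd : ϑ 1 = d) (hcop : Nat.Coprime N.index d) (hext : ∃ η : G → ℂ, Cfsg.IsIrrCharacter G η ∧ (∀ n : N, η n = ϑ n)) (μ : G → ℂ) (hμ : Cfsg.IsCharacter G μ ∧ μ 1 = 1) (hμN : ∀ n : N, μ n = Cfsg.detChar ϑ n) : ∃! χ : G → ℂ, Cfsg.IsIrrCharacter G χ ∧ (∀ n : N, χ n = ϑ n) ∧ Cfsg.detChar χ = μ := by
  obtain ⟨η, ⟨m, π, hπ, rfl⟩, hη⟩ := hext
  obtain ⟨k, ρ, hρ, rfl⟩ := hϑ
  obtain ⟨f, hf⟩ := IrrTools.exists_hom_of_degree_one hμ.1 hμ.2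
  rw [DetExt.detChar_character] at hμN
  rw [Representation.char_one] at hd
  obtain rfl : Module.finrank ℂ (Fin k → ℂ) = d := by exact_mod_cast hd
  have hinv : ProjExt.Invariant ρ := fun g n => by
    rw [← hη, ← hη]
    simp
  obtain ⟨σ, hσN, hσd⟩ := DetExt.exists_extension_det ρ hinv hcop f fun n =>
    Units.ext ((hf _).symm.trans (hμN n))
  have := DetExt.isIrreducible_of_extends ρ σ hσN
  refine ⟨σ.character, ⟨IrrTools.isIrrCharacter_character σ,
    fun n => congrArg (LinearMap.trace ℂ _) (hσN n), ?_⟩, ?_⟩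
  · rw [DetExt.detChar_character]
    funext g
    rw [hf, ← hσd]
    rfl
  · rintro χ ⟨⟨l, τ, hτ, rfl⟩, hτN, hτd⟩
    rw [DetExt.detChar_character] at hτd
    refine DetExt.character_eq_of_det_eq ρ hcop σ hσN τ hτN (MonoidHom.ext fun g => Units.ext ?_)
    rw [hσd, DetExt.coe_detHom, ← hf]
    exact congrFun hτd g

end Cfsg.Agent.S0862
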