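import Cfsg.Statements.S0865
import Cfsg.Agent.Lib.CharDeep.CentralExt
import Cfsg.Agent.Lib.CharDeep.IrrTools

set_option autoImplicit false
open Cfsg

namespace Cfsg.Agent.S0865

/-- Let N be a normal subgroup of the finite group G and λ a character of N of degree 1, invariant under conjugation by G, whose order (under pointwise multiplication) is coprime to the index of N. Then there is a character μ of G of degree 1 restricting to λ with the same order as λ, and μ is the only degree-1 character of G restricting to λ whose order is coprime to the index of N. -/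
theorem result {G : Type*} [Group G] [Finite G] (N : Subgroup G) [hN : N.Normal] (lam : N → ℂ) (hlam : Cfsg.IsCharacter N lam ∧ lam 1 = 1) (hinv : ∀ (g : G) (n : N), lam ⟨g * n * g⁻¹, hN.conj_mem (n : G) n.2 g⟩ = lam n) (hcop : Nat.Coprime N.index (orderOf lam)) : ∃ μ : G → ℂ, (Cfsg.IsCharacter G μ ∧ μ 1 = 1 ∧ (∀ n : N, μ n = lam n) ∧ orderOf μ = orderOf lam) ∧ ∀ μ' : G → ℂ, Cfsg.IsCharacter G μ' ∧ μ' 1 = 1 → (∀ n : N, μ' n = lam n) → Nat.Coprime N.index (orderOf μ') → μ' = μ := by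
  obtain ⟨f, hf⟩ := CfsgLib.CharDeep.IrrTools.exists_hom_of_degree_one hlam.1 hlam.2
  obtain rfl : lam = fun n => (f n : ℂ) := funext hf
  simp only [CfsgLib.CharDeep.IrrTools.orderOf_coe_hom] at hcop ⊢
  have ho : ∀ n, f n ^ orderOf f = 1 := fun n => by
    rw [← MonoidHom.pow_apply, pow_orderOf_eq_one, MonoidHom.one_apply]
  obtain ⟨F, hF⟩ := CfsgLib.CharDeep.CentralExt.exists_extension_of_pow_eq_one f
    (fun g n => Units.ext (hinv g n)) (orderOf f) ho fun p hp hpo =>
    ⟨N, le_rfl, fun h => hp.ne_one (Nat.eq_one_of_dvd_coprimes hcop h hpo), f,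
      fun n _ => rfl⟩
  have key : ∀ Φ : G →* ℂˣ, (∀ n : N, Φ n = 1) → Φ ^ N.index = 1 := fun Φ h =>
    MonoidHom.ext fun g => by
      rw [MonoidHom.pow_apply, ← map_pow, MonoidHom.one_apply]
      exact h ⟨_, N.pow_index_mem g⟩
  obtain ⟨a, ha1, ha2⟩ := Nat.chineseRemainder hcop 0 1
  set μ : G →* ℂˣ := F ^ a with hμdef
  have hμN : ∀ n : N, μ n = f n := fun n => by
    rw [hμdef, MonoidHom.pow_apply, hF, pow_eq_pow_mod a (ho n), ha2,
      ← pow_eq_pow_mod 1 (ho n), pow_one]
  have hμg : ∀ g, μ g ^ orderOf f = 1 := fun g => by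
    obtain ⟨t, ht⟩ := Nat.modEq_zero_iff_dvd.1 ha1
    have h1 : F g ^ (N.index * orderOf f) = 1 := by
      rw [pow_mul, ← map_pow, hF ⟨_, N.pow_index_mem g⟩, ho]
    rw [hμdef, MonoidHom.pow_apply, ← pow_mul, ht,
      show N.index * t * orderOf f = N.index * orderOf f * t by ring, pow_mul, h1, one_pow]
  have hμo : μ ^ orderOf f = 1 := MonoidHom.ext fun g => by
    rw [MonoidHom.pow_apply, hμg, MonoidHom.one_apply]
  refine ⟨fun g => (μ g : ℂ), ⟨CfsgLib.CharDeep.IrrTools.isCharacter_of_hom μ, by simp,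
    fun n => by simp [hμN n], ?_⟩, ?_⟩
  · rw [CfsgLib.CharDeep.IrrTools.orderOf_coe_hom]
    refine Nat.dvd_antisymm (orderOf_dvd_of_pow_eq_one hμo) (orderOf_dvd_of_pow_eq_one ?_)
    refine MonoidHom.ext fun n => ?_
    rw [MonoidHom.pow_apply, ← hμN, ← MonoidHom.pow_apply, pow_orderOf_eq_one]
    rfl
  · rintro μ' ⟨h1, h2⟩ hres hcop'
    obtain ⟨φ, hφ⟩ := CfsgLib.CharDeep.IrrTools.exists_hom_of_degree_one h1 h2
    obtain rfl : μ' = fun g => (φ g : ℂ) := funext hφ
    rw [CfsgLib.CharDeep.IrrTools.orderOf_coe_hom] at hcop'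
    have hd : ∀ g, φ g / μ g = 1 := fun g => by
      have h1 : (φ g / μ g) ^ N.index = 1 := by
        rw [div_pow, ← map_pow, ← map_pow, hμN ⟨_, N.pow_index_mem g⟩,
          show φ (g ^ N.index) = f ⟨_, N.pow_index_mem g⟩ from
            Units.ext (hres ⟨_, N.pow_index_mem g⟩), div_self']
      have h2 : (φ g / μ g) ^ (orderOf φ * orderOf f) = 1 := by
        rw [div_pow, pow_mul, ← MonoidHom.pow_apply φ, pow_orderOf_eq_one, MonoidHom.one_apply,
          one_pow, mul_comm (orderOf φ), pow_mul, hμg, one_pow, div_one]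
      rw [← orderOf_eq_one_iff]
      exact Nat.eq_one_of_dvd_coprimes (hcop'.mul_right hcop)
        (orderOf_dvd_of_pow_eq_one h1) (orderOf_dvd_of_pow_eq_one h2)
    exact funext fun g => by rw [div_eq_one.1 (hd g)]

end Cfsg.Agent.S0865
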