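import Cfsg.Statements.S0866
import Cfsg.Agent.Lib.CharDeep.DetExt

set_option autoImplicit false
open Cfsg CfsgLib.CharDeep

namespace Cfsg.Agent.S0866

/-- Let N be a normal subgroup of the finite group G and ϑ an irreducible character of N, invariant under conjugation by G, of degree d coprime to the index of N. Then ϑ is the restriction of an irreducible character of G if and only if the determinantal character of ϑ is the restriction of a character of G of degree 1. -/
theorem result {G : Type*} [Group G] [Finite G] (N : Subgroup G) [hN : N.Normal] (ϑ : N → ℂ) (hϑ : Cfsg.IsIrrCharacter N ϑ) (hinv : ∀ (g : G) (n : N), ϑ ⟨g * n * g⁻¹, hN.conj_mem (n : G) n.2 g⟩ = ϑ n) (d : ℕ) (hd : ϑ 1 = d) (hcop : Nat.Coprime N.index d) : (∃ χ : G → ℂ, Cfsg.IsIrrCharacter G χ ∧ (∀ n : N, χ n = ϑ n)) ↔ ∃ μ : G → ℂ, Cfsg.IsCharacter G μ ∧ μ 1 = 1 ∧ ∀ n : N, μ n = Cfsg.detChar ϑ n := by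
  obtain ⟨k, ρ, hρ, rfl⟩ := hϑ
  rw [Representation.char_one] at hd
  obtain rfl : Module.finrank ℂ (Fin k → ℂ) = d := by exact_mod_cast hd
  rw [DetExt.detChar_character]
  constructor
  · rintro ⟨χ, ⟨m, π, hπ, rfl⟩, hπN⟩
    obtain ⟨φ⟩ := IrrTools.nonempty_equiv_of_character_eq ρ (π.comp N.subtype) (funext hπN)
    refine ⟨fun g => (DetExt.detHom π g : ℂ), IrrTools.isCharacter_of_hom _, by simp, fun n => ?_⟩
    show LinearMap.det (π n) = LinearMap.det (ρ n)
    rw [← LinearMap.det_conj (ρ n) φ.toLinearEquiv]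
    congr 1
    refine LinearMap.ext fun v => ?_
    simp only [LinearMap.coe_comp, LinearEquiv.coe_coe, Function.comp_apply]
    refine Eq.trans ?_ (LinearMap.congr_fun (φ.toIntertwiningMap.isIntertwining' n)
      (φ.toLinearEquiv.symm v)).symm
    show π n v = π n (φ.toLinearEquiv (φ.toLinearEquiv.symm v))
    rw [LinearEquiv.apply_symm_apply]
  · rintro ⟨μ, hμ, hμ1, hμN⟩
    obtain ⟨f, hf⟩ := IrrTools.exists_hom_of_degree_one hμ hμ1
    obtain ⟨σ, hσN, -⟩ := DetExt.exists_extension_det ρ hinv hcop f fun n =>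
      Units.ext ((hf _).symm.trans (hμN n))
    exact ProjExt.exists_character_of_extension ρ σ hσN

end Cfsg.Agent.S0866
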