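import Cfsg.Statements.S0868
import Cfsg.Agent.Lib.CharDeep.Clifford
import Cfsg.Agent.Lib.Char.Linear

set_option autoImplicit false
open scoped ComplexConjugate
open Cfsg CfsgLib CfsgLib.CharDeep
open scoped ComplexConjugate

namespace Cfsg.Agent.S0868

/-- Let N be a normal subgroup of the finite group G, χ an irreducible character of G whose restriction ϑ to N is irreducible, and ψ an irreducible character of G. Define η on G by η g = (1 / order of N) * Σ over n in N of ψ (n * g) * conj (χ (n * g)). Then: if the restriction of ψ to N has nonzero inner product with ϑ, η is an irreducible character of G; if that inner product is zero, η vanishes identically; and if ψ = χ then η is identically 1. -/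
theorem result {G : Type*} [Group G] [Fintype G] (N : Subgroup G) [N.Normal] [Fintype N] (χ : G → ℂ) (hχ : Cfsg.IsIrrCharacter G χ) (hχN : Cfsg.IsIrrCharacter N (fun n : N => χ n)) (ψ : G → ℂ) (hψ : Cfsg.IsIrrCharacter G ψ) (η : G → ℂ) (hη : η = fun g => (Nat.card N : ℂ)⁻¹ * ∑ n : N, ψ ((n : G) * g) * conj (χ ((n : G) * g))) : (Cfsg.classInner (fun n : N => ψ n) (fun n : N => χ n) ≠ 0 → Cfsg.IsIrrCharacter G η) ∧ (Cfsg.classInner (fun n : N => ψ n) (fun n : N => χ n) = 0 → η = 0) ∧ (ψ = χ → η = fun _ => 1) := by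
  classical
  have hχc := Char.IsIrrCharacter.isCharacter hχ
  have hψc := Char.IsIrrCharacter.isCharacter hψ
  have hN' : (Nat.card N : ℂ) ≠ 0 := Char.card_ne_zero
  let F : G → ℂ := fun g => ψ g * conj (χ g)
  have hF : Cfsg.IsCharacter G F := Char.IsCharacter.mul hψc (Char.IsCharacter.conj' hχc)
  have hηF : η = fun g => (Nat.card N : ℂ)⁻¹ * ∑ n : N, F ((n : G) * g) := hη
  -- averaging an irreducible character over the cosets of `N`
  have havg : ∀ β : Cfsg.IrrCharacter G,
      (∀ g, (Nat.card N : ℂ)⁻¹ * ∑ n : N, (β : G → ℂ) ((n : G) * g) = (β : G → ℂ) g) ∨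
        (∀ g, (Nat.card N : ℂ)⁻¹ * ∑ n : N, (β : G → ℂ) ((n : G) * g) = 0) := by
    intro β
    obtain ⟨k, ρ, hρ, hβ⟩ := β.2
    let P : Module.End ℂ (Fin k → ℂ) := (Nat.card N : ℂ)⁻¹ • ∑ n : N, ρ n
    have hfix : ∀ m : N, ρ m * P = P := fun m => by
      simp only [P, mul_smul_comm, Finset.mul_sum, ← map_mul]
      congr 1
      exact Fintype.sum_equiv (Equiv.mulLeft m) _ _ fun n => rfl
    have hcomm : ∀ g : G, P * ρ g = ρ g * P := fun g => by
      simp only [P, smul_mul_assoc, mul_smul_comm, Finset.mul_sum, Finset.sum_mul, ← map_mul]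
      congr 1
      refine Fintype.sum_equiv (MulAut.conjNormal g⁻¹ : MulAut N).toEquiv _ _ fun n => ?_
      congr 1
      simp [mul_assoc]
    obtain ⟨c, hc⟩ := IrrTools.exists_smul_of_commute ρ P hcomm
    have hPP : P * P = P := by
      conv_lhs => arg 1; simp only [P]
      rw [smul_mul_assoc, Finset.sum_mul]
      simp only [hfix, Finset.sum_const, Finset.card_univ, ← Nat.cast_smul_eq_nsmul ℂ, smul_smul,
        ← Nat.card_eq_fintype_card]
      rw [inv_mul_cancel₀ hN', one_smul]
    have hval : ∀ g, (Nat.card N : ℂ)⁻¹ * ∑ n : N, (β : G → ℂ) ((n : G) * g) =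
        c * (β : G → ℂ) g := by
      intro g
      rw [← hβ]
      unfold Representation.character
      rw [← smul_eq_mul c, ← map_smul, ← one_mul (ρ g), ← smul_mul_assoc, ← hc]
      simp only [P, smul_mul_assoc, Finset.sum_mul, map_smul, map_sum, smul_eq_mul, ← map_mul]
    have := IrrTools.apply_ne_zero_of_isIrreducible ρ
    rw [hc, smul_mul_smul_comm, one_mul] at hPP
    have hc2 : c * c = c := smul_left_injective ℂ (one_ne_zero (α := Module.End ℂ (Fin k → ℂ))) hPP
    rcases eq_or_ne c 0 with h0 | h0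
    · exact Or.inr fun g => by rw [hval, h0, zero_mul]
    · exact Or.inl fun g => by rw [hval, mul_eq_left₀ h0 |>.1 hc2, one_mul]
  have hηc : Cfsg.IsCharacter G η ∧ ∀ β : Cfsg.IrrCharacter G,
      Cfsg.classInner η β ≠ 0 → Cfsg.classInner F β ≠ 0 := by
    let s := Finset.univ.filter (fun β : Cfsg.IrrCharacter G =>
      ∀ g, (Nat.card N : ℂ)⁻¹ * ∑ n : N, (β : G → ℂ) ((n : G) * g) = (β : G → ℂ) g)
    have hexp : η = ∑ β ∈ s, Cfsg.classInner F β • (β : G → ℂ) := by
      rw [hηF]
      funext g
      have hFe := Char.IsClassFunction.eq_sum_irr (Char.IsCharacter.isClassFunction hF)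
      conv_lhs => rw [hFe]
      simp only [Finset.sum_apply, Pi.smul_apply, smul_eq_mul]
      rw [Finset.sum_comm, Finset.mul_sum, Finset.sum_filter]
      refine Finset.sum_congr rfl fun β _ => ?_
      rw [← Finset.mul_sum, mul_left_comm]
      split_ifs with h
      · rw [h g]
      · rw [((havg β).resolve_left h) g, mul_zero]
    constructor
    · rw [hexp]
      refine Char.isCharacter_sum _ _ fun β _ => ?_
      obtain ⟨m, hm⟩ := Char.IsCharacter.classInner_nat hF (Char.isCharacter_irr β)
      rw [hm, Nat.cast_smul_eq_nsmul]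
      exact Char.IsCharacter.nsmul (Char.isCharacter_irr β) m
    · intro β hβ
      rw [hexp, Char.classInner_sum_left] at hβ
      obtain ⟨γ, -, hγ⟩ := Finset.exists_ne_zero_of_sum_ne_zero hβ
      rw [Char.classInner_smul_left] at hγ
      have hγβ : γ = β := by
        by_contra h
        exact right_ne_zero_of_mul hγ
          (Char.classInner_irr_ne γ.2 β.2 fun h' => h (Subtype.ext h'))
      exact hγβ ▸ left_ne_zero_of_mul hγ
  have hη1 : η 1 = Cfsg.classInner (fun n : N => ψ n) (fun n : N => χ n) := by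
    rw [hηF]
    simp only [mul_one]
    rfl
  refine ⟨fun hne => ?_, fun h0 => Clifford.eq_zero_of_apply_one_eq_zero hηc.1 (hη1.trans h0),
    fun heq => ?_⟩
  · have hinv : ∀ (g : G) (n : N),
        (fun n : N => χ n) ⟨g * n * g⁻¹, Subgroup.Normal.conj_mem inferInstance (n : G) n.2 g⟩ =
          (fun n : N => χ n) n :=
      fun g n => Char.IsIrrCharacter.isClassFunction hχ n g
    obtain ⟨e, he0, he, hres⟩ := Clifford.restrict_eq_smul N hψ hχN hne hinv
    have hψ1 : ψ 1 = η 1 * χ 1 := by
      rw [hη1, he]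
      simpa using congrFun hres 1
    obtain ⟨β, hβ, -⟩ := Clifford.exists_constituent (ψ := η)
      (Char.IsCharacter.isClassFunction hηc.1) (fun h => he0 (by
        rw [Char.classInner_self_eq_zero] at h
        rw [h, Pi.zero_apply, he] at hη1
        exact_mod_cast hη1.symm))
    have hβψ : Cfsg.classInner (fun g => (β : G → ℂ) g * χ g) ψ ≠ 0 := by
      have h1 := hηc.2 β hβ
      have hbc : Cfsg.IsCharacter G (fun g => (β : G → ℂ) g * χ g) :=
        Char.IsCharacter.mul (Char.isCharacter_irr β) hχc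
      rw [Char.IsCharacter.classInner_comm hbc hψc]
      convert h1 using 1
      simp only [Cfsg.classInner, F, map_mul, mul_assoc]
      congr 1
      exact Finset.sum_congr rfl fun g _ => by ring
    obtain ⟨r, hr⟩ := Char.IsCharacter.apply_one_eq (Clifford.isCharacter_sub_of_constituent
      (Char.IsCharacter.mul (Char.isCharacter_irr β) hχc) hψ hβψ)
    obtain ⟨s, hs⟩ := Char.IsCharacter.apply_one_eq
      (Clifford.isCharacter_sub_of_constituent hηc.1 β.2 hβ)
    obtain ⟨dχ, hdχ⟩ := Char.IsCharacter.apply_one_eq hχc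
    rw [Pi.sub_apply] at hr hs
    have hr' : (β : G → ℂ) 1 * χ 1 - ψ 1 = (r : ℂ) := hr
    rw [hψ1, hdχ] at hr'
    have hsum : (r : ℂ) + (s : ℂ) * dχ = 0 := by rw [← hr', ← hs]; ring
    have hsum' : r + s * dχ = 0 := by exact_mod_cast hsum
    have hdχ0 : dχ ≠ 0 := fun h0 =>
      Char.IsIrrCharacter.apply_one_ne_zero hχ (by rw [hdχ, h0, Nat.cast_zero])
    have hs0 : s = 0 := by
      rcases mul_eq_zero.1 (Nat.eq_zero_of_add_eq_zero_left hsum') with h | h
      · exact h
      · exact absurd h hdχ0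
    rw [hs0, Nat.cast_zero, sub_eq_zero] at hs
    rw [Clifford.eq_of_constituent_of_apply_one_eq hηc.1 β.2 hβ hs]
    exact β.2
  · refine Clifford.eq_of_constituent_of_apply_one_eq hηc.1 Char.isIrrCharacter_one ?_ ?_
    · have h1 : Cfsg.classInner η (fun _ => 1) = Cfsg.classInner ψ χ := by
        have hF1 : Cfsg.classInner η (fun _ => 1) =
            (Nat.card G : ℂ)⁻¹ * ((Nat.card N : ℂ)⁻¹ * ∑ n : N, ∑ g : G, F ((n : G) * g)) := by
          rw [hηF, Finset.sum_comm, Finset.mul_sum Finset.univ _ ((Nat.card N : ℂ)⁻¹)]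
          simp [Cfsg.classInner]
        rw [hF1, Finset.sum_congr rfl (fun (n : N) _ =>
          Fintype.sum_equiv (Equiv.mulLeft (n : G)) (fun g => F ((n : G) * g)) F fun g => rfl),
          Finset.sum_const, Finset.card_univ, nsmul_eq_mul, ← Nat.card_eq_fintype_card,
          inv_mul_cancel_left₀ hN']
        rfl
      rw [h1, heq, Char.classInner_irr_self hχ]
      exact one_ne_zero
    · rw [hη1, heq, Char.classInner_irr_self hχN]

end Cfsg.Agent.S0868
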