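import Cfsg.Statements.S0869
import Mathlib.Tactic
import Mathlib.Data.Fintype.Pi
import Mathlib.Algebra.Group.Subgroup.Map
import Mathlib.Algebra.Group.Int.Units
import Mathlib.RingTheory.Int.Basic
import Mathlib.Data.Fintype.EquivFin


set_option autoImplicit false
open Cfsg

namespace Cfsg.Agent.S0869

/-- Let S be a nonempty finite type and R an additive subgroup of the integer-valued functions on S that is closed under pointwise multiplication. If the constant function 1 is not in R, then there exist a point x of S and a prime p such that p divides f x for every f in R. -/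
theorem result {S : Type*} [Finite S] [Nonempty S] (R : AddSubgroup (S → ℤ)) (hmul : ∀ f ∈ R, ∀ g ∈ R, f * g ∈ R) (h1 : (1 : S → ℤ) ∉ R) : ∃ (x : S) (p : ℕ), p.Prime ∧ ∀ f ∈ R, (p : ℤ) ∣ f x := by
  classical
  have := Fintype.ofFinite S
  by_contra hne
  push_neg at hne
  have hev : ∀ x : S, ∃ f ∈ R, f x = 1 := by
    intro x
    obtain ⟨a, ha⟩ := Int.subgroup_cyclic (R.map (Pi.evalAddMonoidHom (fun _ : S => ℤ) x))
    rw [← AddSubgroup.zmultiples_eq_closure] at ha
    by_cases hu : IsUnit a
    · have h1 : (1 : ℤ) ∈ R.map (Pi.evalAddMonoidHom (fun _ : S => ℤ) x) := by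
        rw [ha, Int.mem_zmultiples_iff]
        exact hu.dvd
      obtain ⟨f, hf, hfx⟩ := h1
      exact ⟨f, hf, hfx⟩
    · obtain ⟨p, hp, hpd⟩ := Nat.exists_prime_and_dvd (mt Int.isUnit_iff_natAbs_eq.2 hu)
      obtain ⟨f, hf, hfd⟩ := hne x p hp
      refine absurd ?_ hfd
      have h1 : f x ∈ R.map (Pi.evalAddMonoidHom (fun _ : S => ℤ) x) := ⟨f, hf, rfl⟩
      rw [ha, Int.mem_zmultiples_iff] at h1
      exact (Int.natCast_dvd.2 hpd).trans h1
  have key : ∀ s : Finset S, ∃ f ∈ R, ∀ x ∈ s, f x = 1 := by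
    intro s
    induction s using Finset.induction_on with
    | empty => exact ⟨0, R.zero_mem, by simp⟩
    | insert a t _ ih =>
      obtain ⟨f, hf, hfs⟩ := ih
      obtain ⟨g, hg, hga⟩ := hev a
      refine ⟨f + g - f * g, R.sub_mem (R.add_mem hf hg) (hmul f hf g hg), fun x hx => ?_⟩
      rcases Finset.mem_insert.1 hx with rfl | hx
      · simp [hga]
      · simp [hfs x hx]
  obtain ⟨f, hf, hf1⟩ := key Finset.univ
  exact h1 ((show (1 : S → ℤ) = f from funext fun x => (hf1 x (Finset.mem_univ x)).symm) ▸ hf)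

end Cfsg.Agent.S0869
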