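import Cfsg.Statements.S0874
import Cfsg.Agent.Lib.CharDeep.Brauer

set_option autoImplicit false
open Cfsg CfsgLib.CharDeep

namespace Cfsg.Agent.S0874

/-- For a finite group G and a prime p there are an integer m not divisible by p and a list of triples (E, φ, c), with E a p-elementary subgroup, φ a character of E and c an integer, such that the constant function m on G equals the sum of the c • (function induced from φ). -/
theorem result {G : Type*} [Group G] [Fintype G] (p : ℕ) (hp : p.Prime) : ∃ (m : ℤ) (l : List ((E : Subgroup G) × ((E → ℂ) × ℤ))), ¬ (p : ℤ) ∣ m ∧ (∀ t ∈ l, Cfsg.IsElementary p t.1 ∧ Cfsg.IsCharacter t.1 t.2.1) ∧ (fun _ : G => (m : ℂ)) = (l.map fun t => (t.2.2 : ℂ) • Cfsg.indFun t.1 t.2.1).sum := by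
  have : Fact p.Prime := ⟨hp⟩
  obtain ⟨m, hm, hmem⟩ := Brauer.exists_const_mem_span' (G := G) p
  suffices h : ∀ f ∈ Brauer.span' G p,
      ∃ l : List ((E : Subgroup G) × ((E → ℂ) × ℤ)),
        (∀ t ∈ l, Cfsg.IsElementary p t.1 ∧ Cfsg.IsCharacter t.1 t.2.1) ∧
          f = (l.map fun t => (t.2.2 : ℂ) • Cfsg.indFun t.1 t.2.1).sum by
    obtain ⟨l, hl, heq⟩ := h _ hmem
    exact ⟨m, l, hm, hl, heq⟩
  intro f hf
  induction hf using AddSubgroup.closure_induction with
  | mem a ha =>
    obtain ⟨E, φ, hE, hφ, rfl⟩ := ha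
    refine ⟨[⟨E, φ, 1⟩], fun t ht => ?_, by simp⟩
    rw [List.mem_singleton] at ht
    subst ht
    exact ⟨hE, hφ⟩
  | zero => exact ⟨[], by simp, by simp⟩
  | add x y _ _ hx hy =>
    obtain ⟨l, hl, rfl⟩ := hx
    obtain ⟨l', hl', rfl⟩ := hy
    refine ⟨l ++ l', fun t ht => ?_, by simp⟩
    rcases List.mem_append.1 ht with h | h
    · exact hl t h
    · exact hl' t h
  | neg x _ hx =>
    obtain ⟨l, hl, rfl⟩ := hx
    refine ⟨l.map fun t => ⟨t.1, t.2.1, -t.2.2⟩, fun t ht => ?_, ?_⟩
    · obtain ⟨u, hu, rfl⟩ := List.mem_map.1 ht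
      exact hl u hu
    · have key : ∀ l : List ((E : Subgroup G) × ((E → ℂ) × ℤ)),
          -(l.map fun t => (t.2.2 : ℂ) • Cfsg.indFun t.1 t.2.1).sum =
            ((l.map fun t => (⟨t.1, t.2.1, -t.2.2⟩ :
              (E : Subgroup G) × ((E → ℂ) × ℤ))).map
                fun t => (t.2.2 : ℂ) • Cfsg.indFun t.1 t.2.1).sum := fun l => by
        induction l with
        | nil => simp
        | cons a l ih =>
          simp only [List.map_cons, List.sum_cons, neg_add, Int.cast_neg, neg_smul]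
          rw [ih]
      exact key l

end Cfsg.Agent.S0874
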