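import Cfsg.Statements.S0875
import Cfsg.Agent.Lib.CharDeep.BrauerInt
import Cfsg.Agent.Lib.CharDeep.PartHom
import Cfsg.Agent.Lib.Blocks.Defect

set_option autoImplicit false
open Cfsg
open CfsgLib CfsgLib.CharDeep

namespace Cfsg.Agent.S0875

theorem isIntegral_average {E : Type*} [Group E] [Fintype E] (y : E) (K : Subgroup E) [Fintype K]
    (hy : ∀ x ∈ K, Commute y x) {ψ : E → ℂ} (hψ : Cfsg.IsCharacter E ψ) :
    IsIntegral ℤ ((Nat.card K : ℂ)⁻¹ * ∑ k : K, ψ (y * k)) := by
  rw [Char.IsClassFunction.eq_sum_irr (Char.IsCharacter.isClassFunction hψ)]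
  simp only [Finset.sum_apply, Pi.smul_apply, smul_eq_mul]
  rw [Finset.sum_comm, Finset.mul_sum]
  refine IsIntegral.sum _ fun χ _ => ?_
  obtain ⟨m, hm⟩ := Char.IsCharacter.classInner_nat hψ (Char.isCharacter_irr χ)
  rw [hm, ← Finset.mul_sum, mul_left_comm]
  refine IsIntegral.mul (map_natCast (algebraMap ℤ ℂ) m ▸ isIntegral_algebraMap) ?_
  have h := Blocks.isIntegral_average_coset y K hy χ
  convert h
  rfl


/-- Let G be a finite group of order m * n with m and n coprime, and g an element whose order is coprime to m. Every x in G factors uniquely as x = u * v with u, v commuting, the order of u coprime to n and the order of v coprime to m; let ϑ be the function on G equal to n at those x whose factor v is conjugate to g and equal to 0 elsewhere. Then ϑ is a linear combination of the irreducible characters of G with algebraic-integer coefficients. -/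
theorem result {G : Type*} [Group G] [Fintype G] (m n : ℕ) (hmn : Nat.card G = m * n) (hcop : Nat.Coprime m n) (g : G) (hg : Nat.Coprime (orderOf g) m) (ϑ : G → ℂ) (hϑ1 : ∀ x : G, (∃ v : G, IsConj v g ∧ (∃ u : G, x = u * v ∧ Commute u v ∧ Nat.Coprime (orderOf u) n ∧ Nat.Coprime (orderOf v) m)) → ϑ x = n) (hϑ0 : ∀ x : G, (¬ ∃ v : G, IsConj v g ∧ (∃ u : G, x = u * v ∧ Commute u v ∧ Nat.Coprime (orderOf u) n ∧ Nat.Coprime (orderOf v) m)) → ϑ x = 0) : ∃ c : Cfsg.IrrCharacter G → ℂ, (∀ χ, c χ ∈ Cfsg.AlgInt) ∧ ϑ = ∑ᶠ χ : Cfsg.IrrCharacter G, c χ • (χ : G → ℂ) := by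
  classical
  obtain ⟨e, he0, he1, hee⟩ := PartHom.exists_exponent hcop
  obtain ⟨e', he'0, he'1, hee'⟩ := PartHom.exists_exponent hcop.symm
  rw [← hmn] at hee
  rw [mul_comm n m, ← hmn] at hee'
  have hsum : e + e' ≡ 1 [MOD Nat.card G] := by
    rw [hmn]
    exact (Nat.modEq_and_modEq_iff_modEq_mul hcop).1
      ⟨(he0.add he'1).trans (by simp [Nat.ModEq]), (he1.add he'0).trans (by simp [Nat.ModEq])⟩
  have hsplit : ∀ x : G, x ^ e' * x ^ e = x := fun x => by
    rw [← pow_add, add_comm]
    conv_rhs => rw [← pow_one x]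
    exact pow_eq_pow_iff_modEq.2 (hsum.of_dvd (orderOf_dvd_natCard x))
  have hiff : ∀ x : G, (∃ v : G, IsConj v g ∧ (∃ u : G, x = u * v ∧ Commute u v ∧
      Nat.Coprime (orderOf u) n ∧ Nat.Coprime (orderOf v) m)) ↔ IsConj (x ^ e) g := by
    intro x
    constructor
    · rintro ⟨v, hv, u, rfl, huv, hu, hvo⟩
      rwa [huv.mul_pow,
        PartHom.pow_exponent_eq_one he0
          (PartHom.orderOf_dvd_of_coprime (hmn.trans (mul_comm m n)) hu),
        PartHom.pow_exponent_eq_self he1 (PartHom.orderOf_dvd_of_coprime hmn hvo), one_mul]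
    · intro h
      exact ⟨x ^ e, h, x ^ e', (hsplit x).symm, (Commute.refl x).pow_pow _ _,
        hcop.coprime_dvd_left
          (PartHom.orderOf_pow_exponent_dvd (hmn.trans (mul_comm m n)) he'0 x),
        hcop.symm.coprime_dvd_left (PartHom.orderOf_pow_exponent_dvd hmn he0 x)⟩
  have hϑ : ∀ x : G, ϑ x = (n : ℂ) * if IsConj (x ^ e) g then 1 else 0 := by
    intro x
    split_ifs with h
    · rw [mul_one]; exact hϑ1 x ((hiff x).2 h)
    · rw [mul_zero]; exact hϑ0 x fun h' => h ((hiff x).1 h')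
  have hcf : Cfsg.IsClassFunction G ϑ := fun x y => by
    have h : IsConj (x ^ e) ((y * x * y⁻¹) ^ e) := isConj_iff.2 ⟨y, by rw [conj_pow]⟩
    rw [hϑ, hϑ]
    exact congrArg _ (if_congr ⟨fun h' => h.trans h', fun h' => h.symm.trans h'⟩ rfl rfl)
  refine ⟨fun χ => Cfsg.classInner ϑ χ, fun χ => ?_, Char.IsClassFunction.eq_finsum_irr hcf⟩
  rw [mem_integralClosure_iff]
  refine BrauerInt.isIntegral_classInner_of_elementary hcf
    (Char.IsIrrCharacter.isClassFunction χ.2) fun q hq E _ hE φ hφ => ?_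
  have := PartHom.isNilpotent_of_isElementary hq hE
  have hd : Nat.card E ∣ Nat.card G := Subgroup.card_subgroup_dvd_card E
  let π := PartHom.powHom (G := E) e (hee.of_dvd hd)
  let π' := PartHom.powHom (G := E) e' (hee'.of_dvd hd)
  have hsplitE : ∀ x : E, x ^ e' * x ^ e = x := fun x => Subtype.ext (by simpa using hsplit x)
  have hfix : ∀ y : π.range, (y : E) ^ e = y := by
    rintro ⟨_, x, rfl⟩
    simp only [π, PartHom.powHom_apply, ← pow_mul]
    exact pow_eq_pow_iff_modEq.2 ((hee.of_dvd hd).of_dvd (orderOf_dvd_natCard x))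
  have hy1 : ∀ y : π.range, (y : E) ^ e' = 1 := fun y => by
    have h := hsplitE y
    rw [hfix y] at h
    simpa using h
  have hk1 : ∀ k : π.ker, (k : E) ^ e = 1 := fun k => k.2
  have hcomm : ∀ (y : π.range) (k : π.ker), Commute (y : E) k := by
    intro y k
    rw [← commutatorElement_eq_one_iff_commute, commutatorElement_def,
      ← hsplitE ((y : E) * k * (y : E)⁻¹ * (k : E)⁻¹)]
    have h1 : π ((y : E) * k * (y : E)⁻¹ * (k : E)⁻¹) = 1 := by
      simp only [map_mul, map_inv, show π (k : E) = 1 from k.2]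
      simp
    have h2 : π' ((y : E) * k * (y : E)⁻¹ * (k : E)⁻¹) = 1 := by
      simp only [map_mul, map_inv, show π' (y : E) = 1 from hy1 y]
      simp
    rw [show ((y : E) * k * (y : E)⁻¹ * (k : E)⁻¹) ^ e = 1 from h1,
      show ((y : E) * k * (y : E)⁻¹ * (k : E)⁻¹) ^ e' = 1 from h2, one_mul]
  have hbij : Function.Bijective fun t : π.range × π.ker => ((t.1 : E) * t.2) := by
    refine ⟨fun a b hab => ?_, fun x => ?_⟩
    · have h : (a.1 : E) = b.1 := by
        have h := congrArg π hab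
        simp only [map_mul, show π (a.2 : E) = 1 from a.2.2, show π (b.2 : E) = 1 from b.2.2,
          mul_one] at h
        rwa [show π (a.1 : E) = a.1 from hfix a.1, show π (b.1 : E) = b.1 from hfix b.1] at h
      simp only [h] at hab
      exact Prod.ext (Subtype.ext h) (Subtype.ext (mul_left_cancel hab))
    · refine ⟨(⟨x ^ e, x, rfl⟩, ⟨x ^ e', ?_⟩), ?_⟩
      · show (x ^ e') ^ e = 1
        rw [← pow_mul]
        refine orderOf_dvd_iff_pow_eq_one.1 (((orderOf_dvd_natCard x).trans hd).trans ?_)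
        rw [hmn, mul_comm e']
        exact mul_dvd_mul (Nat.modEq_zero_iff_dvd.1 he0) (Nat.modEq_zero_iff_dvd.1 he'0)
      · show x ^ e * x ^ e' = x
        rw [((Commute.refl x).pow_pow e e').eq]
        exact hsplitE x
  have hR : Nat.card π.range ∣ n := by
    refine PartHom.card_dvd_of_forall_orderOf
      (((Subgroup.card_subgroup_dvd_card _).trans hd).trans hmn.dvd) hcop fun y => ?_
    rw [← Subgroup.orderOf_coe, ← hfix y, ← Subgroup.orderOf_coe, SubmonoidClass.coe_pow]
    exact PartHom.orderOf_pow_exponent_dvd hmn he0 _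
  obtain ⟨r, hr⟩ := hR
  have hcard : (Nat.card E : ℂ) = (Nat.card π.range : ℂ) * Nat.card π.ker := by
    rw [← Nat.cast_mul, ← Nat.card_prod, Nat.card_eq_of_bijective _ hbij]
  set ψ : E → ℂ := fun x => φ x * (starRingEnd ℂ) ((χ : G → ℂ) x) with hψdef
  have hψ : Cfsg.IsCharacter E ψ := Char.IsCharacter.mul hφ
    (Char.IsCharacter.restrict (Char.IsCharacter.conj' (Char.isCharacter_irr χ)) E)
  have key : Cfsg.classInner (fun x : E => ϑ x * φ x) (fun x : E => (χ : G → ℂ) x) =
      ∑ y : π.range, (r : ℂ) * (if IsConj ((y : E) : G) g then 1 else 0) *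
        ((Nat.card π.ker : ℂ)⁻¹ * ∑ k : π.ker, ψ ((y : E) * k)) := by
    have hRne : (Nat.card π.range : ℂ) ≠ 0 := Char.card_ne_zero
    have hKne : (Nat.card π.ker : ℂ) ≠ 0 := Char.card_ne_zero
    unfold Cfsg.classInner
    rw [← Function.Bijective.sum_comp hbij, Fintype.sum_prod_type, Finset.mul_sum]
    refine Finset.sum_congr rfl fun y _ => ?_
    rw [Finset.mul_sum, Finset.mul_sum, Finset.mul_sum]
    refine Finset.sum_congr rfl fun k _ => ?_
    have h1 : (((y : E) * k : E) : G) ^ e = ((y : E) : G) := by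
      rw [← SubmonoidClass.coe_pow, (hcomm y k).mul_pow, hfix y, hk1 k, mul_one]
    dsimp only
    rw [hϑ, h1, hcard, show (n : ℂ) = (Nat.card π.range : ℂ) * r by rw [hr, Nat.cast_mul]]
    simp only [hψdef]
    field_simp
  rw [key]
  refine IsIntegral.sum _ fun y _ => IsIntegral.mul (IsIntegral.mul ?_ ?_) ?_
  · exact map_natCast (algebraMap ℤ ℂ) r ▸ isIntegral_algebraMap
  · split_ifs
    exacts [isIntegral_one, isIntegral_zero]
  · exact isIntegral_average (y : E) π.ker (fun x hx => hcomm y ⟨x, hx⟩) hψ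

end Cfsg.Agent.S0875
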