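import Cfsg.Statements.S0876
import Cfsg.Agent.S0875
import Cfsg.Agent.Lib.Blocks.Eigen

set_option autoImplicit false
open Cfsg
open CfsgLib CfsgLib.CharDeep CfsgLib.Blocks

namespace Cfsg.Agent.S0876

/-- Let G be a finite group, p a prime and M a maximal ideal of the ring of algebraic integers containing p. Let x, y be elements with p-parts a and b (so a⁻¹ * x and b⁻¹ * y are their p-regular parts). Then a⁻¹ * x and b⁻¹ * y are conjugate in G if and only if, for every irreducible character χ, the difference χ x - χ y lies in the local ideal at M. -/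
theorem result {G : Type*} [Group G] [Finite G] (p : ℕ) (M : Ideal Cfsg.AlgInt) (hM : Cfsg.IsPModular p M) (x y a b : G) (ha : Cfsg.IsPPart p x a) (hb : Cfsg.IsPPart p y b) : IsConj (a⁻¹ * x) (b⁻¹ * y) ↔ ∀ χ : Cfsg.IrrCharacter G, Cfsg.MemLocalIdeal M ((χ : G → ℂ) x - (χ : G → ℂ) y) := by
  classical
  have hp : p.Prime := hM.1
  haveI := Fintype.ofFinite G
  obtain ⟨a', hax, hac, ⟨ka, hka⟩, hao⟩ := ha
  obtain ⟨b', hby, hbc, ⟨kb, hkb⟩, hbo⟩ := hb
  rw [← hax, inv_mul_cancel_left, ← hby, inv_mul_cancel_left]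
  have hcong : ∀ (χ : Cfsg.IrrCharacter G) (u v : G) (k : ℕ), orderOf u = p ^ k → Commute u v →
      Cfsg.MemLocalIdeal M ((χ : G → ℂ) (u * v) - (χ : G → ℂ) v) := by
    intro χ u v k hu huv
    obtain ⟨d, ρ, -, hρ⟩ := χ.2
    rw [← congrFun hρ, ← congrFun hρ]
    exact character_mul_congr hM ρ hu huv
  constructor
  · intro h χ
    refine LI.trans hM (hcong χ a a' ka hka hac) ?_
    rw [Char.IsClassFunction.apply_eq_of_isConj (Char.IsIrrCharacter.isClassFunction χ.2) h]
    exact LI.sub_comm (hcong χ b b' kb hkb hbc)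
  · intro h
    by_contra hne
    obtain ⟨i, n, hn, hcard⟩ :=
      Nat.exists_eq_pow_mul_and_not_dvd (Nat.card_pos (α := G)).ne' p hp.ne_one
    have hcop : Nat.Coprime (p ^ i) n := Nat.Coprime.pow_left _ (hp.coprime_iff_not_dvd.2 hn)
    have hreg : ∀ v : G, ¬ p ∣ orderOf v → Nat.Coprime (orderOf v) (p ^ i) := fun v hv =>
      Nat.Coprime.pow_right _ ((hp.coprime_iff_not_dvd.2 hv).symm)
    have hpel : ∀ (u : G) (k : ℕ), orderOf u = p ^ k → Nat.Coprime (orderOf u) n := fun u k hu =>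
      hu ▸ Nat.Coprime.pow_left _ (hp.coprime_iff_not_dvd.2 hn)
    let ϑ : G → ℂ := fun z => if (∃ v : G, IsConj v a' ∧ (∃ u : G, z = u * v ∧ Commute u v ∧
      Nat.Coprime (orderOf u) n ∧ Nat.Coprime (orderOf v) (p ^ i))) then (n : ℂ) else 0
    obtain ⟨c, hc, hϑ⟩ := Cfsg.Agent.S0875.result (p ^ i) n hcard hcop a' (hreg a' hao) ϑ
      (fun z hz => if_pos hz) (fun z hz => if_neg hz)
    have h1 : ϑ (a * a') = n :=
      if_pos ⟨a', IsConj.refl a', a, rfl, hac, hpel a ka hka, hreg a' hao⟩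
    have h2 : ϑ (b * b') = 0 := by
      refine if_neg ?_
      rintro ⟨v, hv, u, huv, hcomm, hu, hvo⟩
      obtain ⟨e, he0, he1, -⟩ := PartHom.exists_exponent hcop
      have hn' : Nat.card G = n * p ^ i := hcard.trans (mul_comm _ _)
      have h3 := congrArg (fun z => z ^ e) huv
      rw [hbc.mul_pow, hcomm.mul_pow,
        PartHom.pow_exponent_eq_one he0 (PartHom.orderOf_dvd_of_coprime hn' (hpel b kb hkb)),
        PartHom.pow_exponent_eq_one he0 (PartHom.orderOf_dvd_of_coprime hn' hu),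
        PartHom.pow_exponent_eq_self he1 (PartHom.orderOf_dvd_of_coprime hcard (hreg b' hbo)),
        PartHom.pow_exponent_eq_self he1 (PartHom.orderOf_dvd_of_coprime hcard hvo),
        one_mul, one_mul] at h3
      exact hne (h3 ▸ hv.symm)
    refine hn ((LI.natCast_iff hM n).1 ?_)
    rw [← sub_zero (n : ℂ), ← h1, ← h2, hϑ, finsum_eq_sum_of_fintype, Finset.sum_apply,
      Finset.sum_apply, ← Finset.sum_sub_distrib]
    refine LI.sum hM fun χ _ => ?_
    rw [Pi.smul_apply, Pi.smul_apply, smul_eq_mul, smul_eq_mul, ← mul_sub]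
    refine LI.mul_left hM (LR.of_algInt hM ⟨c χ, hc χ⟩) ?_
    exact h χ

end Cfsg.Agent.S0876
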