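import Cfsg.Statements.S0878
import Cfsg.Agent.Lib.CharDeep.Zassenhaus

set_option autoImplicit false
open Cfsg
open MulAction CfsgLib.CharDeep

namespace Cfsg.Agent.S0878

/-- Let G be a Zassenhaus group on the finite set Ω, a a point, and let H be the subgroup of the stabilizer of a consisting of the identity and the elements fixing no point other than a (given here as a subgroup of the stabilizer of order one less than the number of points whose non-identity elements fix only a; it is the Frobenius kernel of the stabilizer). Then an element outside the stabilizer of a conjugates no non-identity element of H into H, and the normalizer of H is exactly the stabilizer of a. -/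
theorem result {G Ω : Type*} [Group G] [Finite G] [MulAction G Ω] [Fintype Ω] (hZ : Cfsg.IsZassenhausGroup G Ω) (a : Ω) (H : Subgroup G) (hHa : H ≤ MulAction.stabilizer G a) (hHcard : Nat.card H + 1 = Fintype.card Ω) (hHfix : ∀ u ∈ H, u ≠ 1 → ∀ c : Ω, u • c = c → c = a) : (∀ g : G, g ∉ MulAction.stabilizer G a → ∀ u ∈ H, g * u * g⁻¹ ∈ H → u = 1) ∧ Subgroup.normalizer (H : Set G) = MulAction.stabilizer G a := by
  classical
  have key : ∀ g : G, ∀ u ∈ H, u ≠ 1 → g * u * g⁻¹ ∈ H → g ∈ stabilizer G a := by
    intro g u hu hu1 hgu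
    refine hHfix _ hgu (fun h => hu1 (conj_eq_one_iff.1 h)) (g • a) ?_
    rw [← mul_smul, inv_mul_cancel_right, mul_smul]
    exact congrArg _ (hHa hu)
  refine ⟨fun g hg u hu hgu => by_contra fun hu1 => hg (key g u hu hu1 hgu),
    le_antisymm (fun g hg => ?_) fun g hg => ?_⟩
  · have hH : H ≠ ⊥ := by
      intro h
      have h3 := Zassenhaus.three_le_card hZ
      rw [h, Subgroup.card_bot] at hHcard
      rw [Nat.card_eq_fintype_card] at h3
      omega
    obtain ⟨⟨u, hu⟩, hu1⟩ := (Subgroup.ne_bot_iff_exists_ne_one).1 hH
    exact key g u hu (fun h => hu1 (Subtype.ext h))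
      ((Subgroup.mem_normalizer_iff.1 hg u).1 hu)
  · let K : Type _ := {u : stabilizer G a // u = 1 ∨ ∀ c : Ω, (u : G) • c = c → c = a}
    let i : H → K := fun h => ⟨⟨h, hHa h.2⟩, by
      by_cases h1 : (h : G) = 1
      · exact Or.inl (Subtype.ext h1)
      · exact Or.inr (hHfix _ h.2 h1)⟩
    have hi : Function.Injective i := fun x y hxy =>
      Subtype.ext (congrArg (fun t : K => ((t.1 : stabilizer G a) : G)) hxy)
    have hb : Function.Bijective i :=
      (Nat.bijective_iff_injective_and_card i).2 ⟨hi, by
        have := Zassenhaus.card_fix_only hZ a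
        show Nat.card H = Nat.card {u : stabilizer G a // u = 1 ∨ ∀ c : Ω, (u : G) • c = c → c = a}
        omega⟩
    refine Subgroup.mem_normalizer_iff.2 fun u => ?_
    have step : ∀ t : G, t • a = a → ∀ v ∈ H, t * v * t⁻¹ ∈ H := by
      intro t ht v hv
      by_cases hv1 : v = 1
      · simp [hv1, H.one_mem]
      · have hta : t * v * t⁻¹ ∈ stabilizer G a :=
          (stabilizer G a).mul_mem ((stabilizer G a).mul_mem ht (hHa hv))
            ((stabilizer G a).inv_mem ht)
        obtain ⟨w, hw⟩ := hb.2 ⟨⟨_, hta⟩, Or.inr fun c hc => by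
          rw [mul_smul, mul_smul] at hc
          have h1 : v • (t⁻¹ • c) = t⁻¹ • c := by
            conv_rhs => rw [← hc]
            rw [inv_smul_smul]
          rw [← smul_inv_smul t c, hHfix v hv hv1 _ h1, ht]⟩
        have h2 : (w : G) = t * v * t⁻¹ :=
          congrArg (fun s : K => ((s.1 : stabilizer G a) : G)) hw
        exact h2 ▸ w.2
    refine ⟨step g hg u, fun h => ?_⟩
    have := step g⁻¹ ((stabilizer G a).inv_mem hg) _ h
    simpa [mul_assoc] using this

end Cfsg.Agent.S0878
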