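import Cfsg.Statements.S0879
import Cfsg.Agent.Lib.CharDeep.Zassenhaus

set_option autoImplicit false
open Cfsg
open MulAction CfsgLib.CharDeep

namespace Cfsg.Agent.S0879

/-- Let G be a Zassenhaus group on the finite set Ω and E the stabilizer of two distinct points a, b. Then an element outside the normalizer of E conjugates no non-identity element of E into E, and E has index 2 in its normalizer. -/
theorem result {G Ω : Type*} [Group G] [Finite G] [MulAction G Ω] [Fintype Ω] (hZ : Cfsg.IsZassenhausGroup G Ω) {a b : Ω} (hab : a ≠ b) : (∀ g : G, g ∉ Subgroup.normalizer ((MulAction.stabilizer G a ⊓ MulAction.stabilizer G b : Subgroup G) : Set G) → ∀ x ∈ (MulAction.stabilizer G a ⊓ MulAction.stabilizer G b : Subgroup G), g * x * g⁻¹ ∈ (MulAction.stabilizer G a ⊓ MulAction.stabilizer G b : Subgroup G) → x = 1) ∧ ((MulAction.stabilizer G a ⊓ MulAction.stabilizer G b : Subgroup G).subgroupOf (Subgroup.normalizer ((MulAction.stabilizer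 G a ⊓ MulAction.stabilizer G b : Subgroup G) : Set G))).index = 2 := by
  classical
  set E : Subgroup G := stabilizer G a ⊓ stabilizer G b with hEdef
  have hswap : ∀ g : G, (g • a = a ∧ g • b = b ∨ g • a = b ∧ g • b = a) →
      ∀ x ∈ E, g * x * g⁻¹ ∈ E := by
    intro g hg x hx
    have hxa : x • a = a := hx.1
    have hxb : x • b = b := hx.2
    have h1 : ∀ c d : Ω, g • c = d → x • c = c → (g * x * g⁻¹) • d = d := by
      rintro c d rfl hc
      rw [← mul_smul, inv_mul_cancel_right, mul_smul, hc]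
    rcases hg with ⟨h2, h3⟩ | ⟨h2, h3⟩
    · exact ⟨h1 a a h2 hxa, h1 b b h3 hxb⟩
    · exact ⟨h1 b a h3 hxb, h1 a b h2 hxa⟩
  have key : ∀ g : G, ∀ x ∈ E, x ≠ 1 → g * x * g⁻¹ ∈ E →
      (g • a = a ∧ g • b = b ∨ g • a = b ∧ g • b = a) := by
    intro g x hx hx1 hgx
    have h1 : ∀ c : Ω, x • c = c → (g * x * g⁻¹) • (g • c) = g • c := fun c hc => by
      rw [← mul_smul, inv_mul_cancel_right, mul_smul, hc]
    have hne : g * x * g⁻¹ ≠ 1 := fun h => hx1 (conj_eq_one_iff.1 h)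
    have hga := Zassenhaus.eq_or_eq hZ hne hab hgx.1 hgx.2 (h1 a hx.1)
    have hgb := Zassenhaus.eq_or_eq hZ hne hab hgx.1 hgx.2 (h1 b hx.2)
    rcases hga with h2 | h2 <;> rcases hgb with h3 | h3
    · exact absurd (smul_left_cancel g (h2.trans h3.symm)) hab
    · exact Or.inl ⟨h2, h3⟩
    · exact Or.inr ⟨h2, h3⟩
    · exact absurd (smul_left_cancel g (h2.trans h3.symm)) hab
  have hnorm : ∀ g : G, g ∈ Subgroup.normalizer (E : Set G) ↔
      (g • a = a ∧ g • b = b ∨ g • a = b ∧ g • b = a) := by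
    intro g
    constructor
    · intro hg
      obtain ⟨x, hx1, hxa, hxb⟩ := Zassenhaus.exists_ne_one_fixing hZ hab
      exact key g x ⟨hxa, hxb⟩ hx1 ((Subgroup.mem_normalizer_iff.1 hg x).1 ⟨hxa, hxb⟩)
    · intro hg
      refine Subgroup.mem_normalizer_iff.2 fun x => ⟨hswap g hg x, fun h => ?_⟩
      have hg' : g⁻¹ • a = a ∧ g⁻¹ • b = b ∨ g⁻¹ • a = b ∧ g⁻¹ • b = a := by
        simp only [inv_smul_eq_iff]
        rcases hg with ⟨h1, h2⟩ | ⟨h1, h2⟩
        · exact Or.inl ⟨h1.symm, h2.symm⟩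
        · exact Or.inr ⟨h2.symm, h1.symm⟩
      have := hswap g⁻¹ hg' _ h
      simpa [mul_assoc] using this
  refine ⟨fun g hg x hx hgx => by_contra fun hx1 => hg ((hnorm g).2 (key g x hx hx1 hgx)), ?_⟩
  obtain ⟨t, hta, htb⟩ := Zassenhaus.exists_map_pair hZ hab hab.symm
  rw [Subgroup.index_eq_two_iff']
  refine ⟨⟨t, (hnorm t).2 (Or.inr ⟨hta, htb⟩)⟩, fun s => ?_⟩
  have hmem : ∀ g : G, g ∈ E ↔ g • a = a ∧ g • b = b := fun g => Iff.rfl
  simp only [Subgroup.mem_subgroupOf, Subgroup.coe_mul, hmem, mul_smul]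
  rcases (hnorm s).1 s.2 with ⟨h1, h2⟩ | ⟨h1, h2⟩
  · exact Or.inr ⟨⟨h1, h2⟩, fun h => hab (by rw [h1, hta] at h; exact h.1.symm)⟩
  · exact Or.inl ⟨⟨by rw [h1, htb], by rw [h2, hta]⟩, fun h => hab (h1 ▸ h.1).symm⟩

end Cfsg.Agent.S0879
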