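import Cfsg.Statements.S0880
import Cfsg.Agent.Lib.Solvable.ZassenhausOdd

set_option autoImplicit false
open Cfsg

namespace Cfsg.Agent.S0880

/-- Let G be a finite simple Zassenhaus group on Ω with n points whose two-point stabilizer E has odd order less than n - 2. Then there are two elements of G, each fixing no point of Ω, that are not conjugate. -/
theorem result {G Ω : Type*} [Group G] [Finite G] [MulAction G Ω] [Fintype Ω] (hZ : Cfsg.IsZassenhausGroup G Ω) {a b : Ω} (hab : a ≠ b) [IsSimpleGroup G] (hodd : Odd (Nat.card ↥(MulAction.stabilizer G a ⊓ MulAction.stabilizer G b : Subgroup G))) (hlt : Nat.card ↥(MulAction.stabilizer G a ⊓ MulAction.stabilizer G b : Subgroup G) < Fintype.card Ω - 2) : ∃ x y : G, (∀ c : Ω, x • c ≠ c) ∧ (∀ c : Ω, y • c ≠ c) ∧ ¬ IsConj x y := by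
  classical
  haveI := hZ.1
  haveI := Fintype.ofFinite G
  open CfsgLib.Solvable MulAction in
  set e := Nat.card ↥(stabilizer G a ⊓ stabilizer G b) with he
  have hG := ZassenhausOdd.card_group hZ hab
  rw [← he] at hG
  have he3 : 3 ≤ e := by
    obtain ⟨x, hx1, hxa, hxb⟩ := CfsgLib.CharDeep.Zassenhaus.exists_ne_one_fixing hZ hab
    have h1 : 1 < e := by
      refine (Subgroup.one_lt_card_iff_ne_bot _).mpr fun h => hx1 ?_
      exact Subgroup.mem_bot.mp (h ▸ Subgroup.mem_inf.mpr ⟨hxa, hxb⟩)
    obtain ⟨k, hk⟩ := hodd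
    omega
  set n := Fintype.card Ω with hn
  have hn3 : 3 ≤ n := by
    have := CfsgLib.CharDeep.Zassenhaus.three_le_card hZ
    rwa [Nat.card_eq_fintype_card] at this
  -- count fixed points
  let fx : G → Finset Ω := fun g => Finset.univ.filter fun c => g • c = c
  have hsum1 : ∑ g : G, (fx g).card = Nat.card G := by
    simp only [fx, Finset.card_filter]
    rw [Finset.sum_comm]
    simp only [← Finset.card_filter]
    have hstab : ∀ c : Ω, (Finset.univ.filter fun g : G => g • c = c).card * n = Nat.card G := by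
      intro c
      haveI : MulAction.IsPretransitive G Ω := by
        obtain ⟨S⟩ := CfsgLib.Perm.ZGroup.exists_setup hZ hab
        exact S.isPretransitive
      rw [← Fintype.card_subtype, ← Nat.card_eq_fintype_card, hn, ← Nat.card_eq_fintype_card,
        ← MulAction.index_stabilizer_of_transitive G c]
      exact (MulAction.stabilizer G c).card_mul_index
    refine Nat.eq_of_mul_eq_mul_right (by omega : 0 < n) ?_
    rw [Finset.sum_mul, Finset.sum_congr rfl fun c _ => hstab c, Finset.sum_const, smul_eq_mul,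
      Finset.card_univ, mul_comm]
  have hsum2 : ∑ g : G, (fx g).offDiag.card = n * (n - 1) * e := by
    have hoff : ∀ g : G, (fx g).offDiag =
        (Finset.univ : Finset Ω).offDiag.filter fun p => g • p.1 = p.1 ∧ g • p.2 = p.2 := by
      intro g; ext p; simp [fx, Finset.mem_offDiag]; tauto
    simp only [hoff, Finset.card_filter]
    rw [Finset.sum_comm]
    simp only [← Finset.card_filter]
    have hpair : ∀ p ∈ (Finset.univ : Finset Ω).offDiag,
        (Finset.univ.filter fun g : G => g • p.1 = p.1 ∧ g • p.2 = p.2).card = e := by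
      rintro ⟨c, d⟩ hp
      have hcd : c ≠ d := (Finset.mem_offDiag.mp hp).2.2
      obtain ⟨g, hga, hgb⟩ := CfsgLib.CharDeep.Zassenhaus.exists_map_pair hZ hcd hab
      rw [← Fintype.card_subtype, ← Nat.card_eq_fintype_card, he]
      refine Nat.card_congr ((MulAut.conj g).toEquiv.subtypeEquiv fun x => ?_)
      simp only [Subgroup.mem_inf, MulAction.mem_stabilizer_iff, MulEquiv.toEquiv_eq_coe, MulEquiv.coe_toEquiv,
        MulAut.conj_apply]
      rw [← hga, ← hgb]
      simp [mul_smul]
    rw [Finset.sum_congr rfl hpair, Finset.sum_const, smul_eq_mul, Finset.offDiag_card, Finset.card_univ,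
      ← hn, Nat.mul_sub, mul_one]
  -- the fixed point free elements
  set Z := Finset.univ.filter fun g : G => ∀ c : Ω, g • c ≠ c with hZdef
  have hone : (fx 1) = Finset.univ := by ext; simp [fx]
  have hbound : ∀ g : G, g ≠ 1 → (fx g).card ≤ 2 := by
    intro g hg
    by_contra! h3
    obtain ⟨x, y, z, hx, hy, hz, hxy, hxz, hyz⟩ := Finset.two_lt_card_iff.mp h3
    simp only [fx, Finset.mem_filter, Finset.mem_univ, true_and] at hx hy hz
    exact hg (hZ.2.2.1 g x y z hxy hyz hxz hx hy hz)
  have hkey : ∀ g ∈ Finset.univ.erase (1 : G),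
      2 + (fx g).offDiag.card = 2 * (if g ∈ Z then 1 else 0) + 2 * (fx g).card := by
    intro g hg
    have hmem : g ∈ Z ↔ (fx g).card = 0 := by
      simp [hZdef, fx, Finset.filter_eq_empty_iff]
    simp only [hmem]
    rw [Finset.offDiag_card]
    have := hbound g (Finset.mem_erase.mp hg).1
    interval_cases (fx g).card <;> simp
  have h1Z : (1 : G) ∉ Z := fun hmem => (Finset.mem_filter.mp hmem).2 a (one_smul G a)
  have hcount : 2 * Z.card + (n - 1) * (n - 2) = Nat.card G := by
    have h := Finset.sum_congr rfl hkey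
    rw [Finset.sum_add_distrib, Finset.sum_add_distrib, Finset.sum_const, smul_eq_mul, ← Finset.mul_sum,
      ← Finset.mul_sum, Finset.sum_ite_mem,
      Finset.inter_eq_right.mpr (fun g hg => Finset.mem_erase.mpr ⟨ne_of_mem_of_not_mem hg h1Z, Finset.mem_univ _⟩),
      ← Finset.card_eq_sum_ones, Finset.card_erase_of_mem (Finset.mem_univ _), Finset.card_univ,
      ← Nat.card_eq_fintype_card] at h
    rw [← Finset.add_sum_erase _ _ (Finset.mem_univ (1 : G)), hone, Finset.card_univ, ← hn] at hsum1
    rw [← Finset.add_sum_erase _ _ (Finset.mem_univ (1 : G)), hone, Finset.offDiag_card, Finset.card_univ,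
      ← hn] at hsum2
    obtain ⟨m, hm⟩ : ∃ m, n = m + 3 := ⟨n - 3, by omega⟩
    rw [hm] at hsum1 hsum2 hG ⊢
    simp only [show m + 3 - 1 = m + 2 by omega, show m + 3 - 2 = m + 1 by omega] at hsum2 hG ⊢
    rw [show (m + 3) * (m + 3) - (m + 3) = (m + 3) * (m + 2) by
      rw [← Nat.mul_sub_one]; congr 1] at hsum2
    have hG1 : 1 ≤ Nat.card G := Nat.card_pos
    obtain ⟨G', hG'⟩ : ∃ G', Nat.card G = G' + 1 := ⟨_, (Nat.sub_add_cancel hG1).symm⟩
    rw [hG'] at h hsum1 hG ⊢
    simp only [Nat.add_sub_cancel] at h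
    nlinarith [h, hsum1, hsum2, hG]
  by_contra hcon
  push Not at hcon
  -- a single class
  obtain ⟨x, hx⟩ : Z.Nonempty := by
    rw [← Finset.card_pos]
    by_contra h0
    rw [Nat.eq_zero_of_not_pos h0, hG] at hcount
    have h2 : (n - 1) * (n - 2) < n * ((n - 1) * e) := by
      calc (n - 1) * (n - 2) < (n - 1) * (n * e) := by
            refine Nat.mul_lt_mul_of_pos_left ?_ (by omega)
            have := Nat.le_mul_of_pos_right n (by omega : 0 < e)
            omega
        _ = n * ((n - 1) * e) := by ring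
    omega
  simp only [hZdef, Finset.mem_filter, Finset.mem_univ, true_and] at hx
  have hclass : Z = Finset.univ.filter fun g => IsConj x g := by
    ext g
    simp only [hZdef, Finset.mem_filter, Finset.mem_univ, true_and]
    constructor
    · exact fun hg => hcon x g hx hg
    · intro hg c hc
      obtain ⟨k, rfl⟩ := isConj_iff.mp hg
      exact hx (k⁻¹ • c) (eq_inv_smul_iff.mpr (by rwa [← mul_smul, ← mul_smul, ← mul_assoc] at *))
  have hcard : Z.card * Nat.card (Subgroup.centralizer ({x} : Set G)) = Nat.card G := by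
    rw [hclass, ← Fintype.card_subtype, ← Nat.card_eq_fintype_card]
    rw [Subgroup.centralizer_eq_comap_stabilizer]
    have h1 := MulAction.index_stabilizer (ConjAct G) x
    have h2 := Subgroup.card_mul_index (MulAction.stabilizer (ConjAct G) x)
    rw [h1, ← Nat.card_coe_set_eq] at h2
    rw [show Nat.card G = Nat.card (ConjAct G) from rfl, ← h2, mul_comm]
    congr 1
    refine Nat.card_congr (Equiv.subtypeEquivRight fun g => ?_)
    rw [ConjAct.mem_orbit_conjAct]
    exact isConj_comm
  set c := Nat.card (Subgroup.centralizer ({x} : Set G))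
  obtain ⟨m, hm⟩ : ∃ m, n = m + 3 := ⟨n - 3, by omega⟩
  rw [hm, show m + 3 - 1 = m + 2 by omega, show m + 3 - 2 = m + 1 by omega] at hcount
  rw [hm, show m + 3 - 1 = m + 2 by omega] at hG
  rcases Nat.lt_or_ge c 3 with hc | hc
  · interval_cases c <;> nlinarith [hcount, hcard]
  · have h3 : 3 * Z.card ≤ Nat.card G := by
      rw [← hcard, mul_comm Z.card]; exact Nat.mul_le_mul_right _ hc
    have h4 : (m + 3) * ((m + 2) * 3) ≤ Nat.card G := by
      rw [hG]; exact Nat.mul_le_mul_left _ (Nat.mul_le_mul_left _ he3)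
    nlinarith [hcount, h3, h4]

end Cfsg.Agent.S0880
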