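import Cfsg.Statements.S0882
import Cfsg.Agent.Lib.Solvable.ZassenhausOdd

set_option autoImplicit false
open Cfsg

namespace Cfsg.Agent.S0882

/-- Let G be a finite simple Zassenhaus group on Ω with n = h + 1 points whose two-point stabilizer E has odd order e with 2e < h - 1. Then any two involutions of G are conjugate, and the number of involutions is e * (h + 1) if h is even and e * h if h is odd. -/
theorem result {G Ω : Type*} [Group G] [Finite G] [MulAction G Ω] [Fintype Ω] (hZ : Cfsg.IsZassenhausGroup G Ω) {a b : Ω} (hab : a ≠ b) [IsSimpleGroup G] (h e : ℕ) (hh : Fintype.card Ω = h + 1) (he : Nat.card ↥(MulAction.stabilizer G a ⊓ MulAction.stabilizer G b : Subgroup G) = e) (hodd : Odd e) (hlt : 2 * e < h - 1) : (∀ x y : G, orderOf x = 2 → orderOf y = 2 → IsConj x y) ∧ Nat.card {x : G // orderOf x = 2} = (if Even h then e * (h + 1) else e * h) := by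
  open CfsgLib.Solvable in
  subst he
  refine ⟨fun x y hx hy => ZassenhausOdd.involutions_conj hZ hab hodd hx hy, ?_⟩
  have hc := ZassenhausOdd.card_involutions hZ hab hodd
  rw [hh, Nat.add_sub_cancel] at hc
  by_cases hev : Even h
  · have hodd1 : Odd (h + 1) := hev.add_one
    rw [if_pos hodd1, Nat.add_sub_cancel] at hc
    rw [if_pos hev]
    refine Nat.eq_of_mul_eq_mul_right (by omega : 0 < h) ?_
    rw [hc]; ring
  · have hodd1 : ¬ Odd (h + 1) := by
      rw [Nat.odd_add_one]; exact fun hh' => hh' (Nat.not_even_iff_odd.mp hev)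
    rw [if_neg hodd1, Nat.sub_zero] at hc
    rw [if_neg hev]
    refine Nat.eq_of_mul_eq_mul_right (by omega : 0 < h + 1) ?_
    rw [hc]; ring

end Cfsg.Agent.S0882
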