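import Cfsg.Statements.S0883
import Cfsg.Agent.Lib.Solvable.ZassenhausOdd
import Cfsg.Agent.Lib.TwoGroups.Classify
import Cfsg.Agent.S0878

set_option autoImplicit false
open Cfsg

namespace Cfsg.Agent.S0883

/-- Let G be a finite simple Zassenhaus group on Ω with h + 1 points whose two-point stabilizer E has odd order e with 2e < h - 1, and let H be the subgroup of the stabilizer of a consisting of the identity and the elements fixing no point other than a (given here as a subgroup of the stabilizer of order one less than the number of points whose non-identity elements fix only a; it is the Frobenius kernel of the stabilizer). If a non-identity element u of H is a product of two involutions of G, then u is an involution. -/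
theorem result {G Ω : Type*} [Group G] [Finite G] [MulAction G Ω] [Fintype Ω] (hZ : Cfsg.IsZassenhausGroup G Ω) {a b : Ω} (hab : a ≠ b) [IsSimpleGroup G] (h e : ℕ) (hh : Fintype.card Ω = h + 1) (he : Nat.card ↥(MulAction.stabilizer G a ⊓ MulAction.stabilizer G b : Subgroup G) = e) (hodd : Odd e) (hlt : 2 * e < h - 1) (H : Subgroup G) (hHa : H ≤ MulAction.stabilizer G a) (hHcard : Nat.card H + 1 = Fintype.card Ω) (hHfix : ∀ u ∈ H, u ≠ 1 → ∀ c : Ω, u • c = c → c = a) (u : G) (hu : u ∈ H) (hu1 : u ≠ 1) (x y : G) (hx : orderOf x = 2) (hy : orderOf y = 2) (hxy : x * y = u) : orderOf u = 2 := by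
  classical
  haveI := hZ.1
  haveI : Fact (Nat.Prime 2) := ⟨Nat.prime_two⟩
  haveI := Fintype.ofFinite G
  open CfsgLib.Solvable MulAction in
  have hxx : x * x = 1 := by rw [← sq, ← hx, pow_orderOf_eq_one]
  have hyy : y * y = 1 := by rw [← sq, ← hy, pow_orderOf_eq_one]
  have hxi : x⁻¹ = x := inv_eq_of_mul_eq_one_right hxx
  have hyi : y⁻¹ = y := inv_eq_of_mul_eq_one_right hyy
  set A := MulAction.stabilizer G a with hA
  have hkey : ∀ g : G, g * u * g⁻¹ ∈ H → g ∈ A := fun g hg => by
    by_contra hgA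
    exact hu1 ((Cfsg.Agent.S0878.result hZ a H hHa hHcard hHfix).1 g hgA u hu hg)
  have hxa : x • a = a := hkey x (by
    rw [hxi, show x * u * x = u⁻¹ by rw [← hxy, mul_inv_rev, hxi, hyi, ← mul_assoc, hxx, one_mul]]
    exact inv_mem hu)
  have hya : y • a = a := hkey y (by
    rw [hyi, show y * u * y = u⁻¹ by rw [← hxy, mul_inv_rev, hxi, hyi, mul_assoc y, mul_assoc x, hyy, mul_one]]
    exact inv_mem hu)
  subst he
  have hev : Odd (Fintype.card Ω) := by
    by_contra hev
    have h0 := ZassenhausOdd.involution_fixed hZ hab hodd hx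
    rw [if_neg hev] at h0
    haveI : Nonempty (MulAction.fixedBy Ω x) := ⟨⟨a, hxa⟩⟩
    exact (Nat.card_pos (α := MulAction.fixedBy Ω x)).ne' h0
  have hsingle : ∀ z : G, orderOf z = 2 → z • a = a → ∀ c : Ω, z • c = c → c = a := by
    intro z hz hza c hc
    have h1 := ZassenhausOdd.involution_fixed hZ hab hodd hz
    rw [if_pos hev] at h1
    exact congrArg Subtype.val ((Nat.card_eq_one_iff_unique.mp h1).1.elim (⟨c, hc⟩ : MulAction.fixedBy Ω z) ⟨a, hza⟩)
  -- elements of `A` fixing only `a` lie in `H`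
  have hinH : ∀ z : G, z • a = a → (∀ c : Ω, z • c = c → c = a) → z ∈ H := by
    intro z hza hz
    let K : Type _ := {v : A // v = 1 ∨ ∀ c : Ω, (v : G) • c = c → c = a}
    let i : H → K := fun v => ⟨⟨v, hHa v.2⟩, by
      by_cases h1 : (v : G) = 1
      · exact Or.inl (Subtype.ext h1)
      · exact Or.inr (hHfix _ v.2 h1)⟩
    have hi : Function.Injective i := fun v w hvw =>
      Subtype.ext (congrArg (fun t : K => ((t.1 : A) : G)) hvw)
    have hb : Function.Bijective i :=
      (Nat.bijective_iff_injective_and_card i).2 ⟨hi, by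
        exact Nat.add_right_cancel (hHcard.trans (CfsgLib.CharDeep.Zassenhaus.card_fix_only hZ a).symm)⟩
    obtain ⟨v, hv⟩ := hb.2 ⟨⟨z, hza⟩, Or.inr hz⟩
    have : (v : G) = z := congrArg (fun t : K => ((t.1 : A) : G)) hv
    exact this ▸ v.2
  set e := Nat.card ↥(MulAction.stabilizer G a ⊓ MulAction.stabilizer G b) with he
  -- there are `e` involutions in `A`
  have hI : Nat.card {z : G // orderOf z = 2 ∧ z • a = a} = e := by
    have hc := ZassenhausOdd.card_involutions hZ hab hodd
    rw [if_pos hev, hh, Nat.add_sub_cancel, ← he] at hc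
    have htot : Nat.card {z : G // orderOf z = 2} = (h + 1) * e :=
      Nat.eq_of_mul_eq_mul_right (by omega : 0 < h) (by rw [hc]; ring)
    let f : (Σ c : Ω, {z : G // orderOf z = 2 ∧ z • c = c}) → {z : G // orderOf z = 2} := fun p => ⟨p.2.1, p.2.2.1⟩
    have hf : Function.Bijective f := by
      constructor
      · rintro ⟨c, z, hz, hzc⟩ ⟨d, w, hw, hwd⟩ hzw
        obtain rfl : z = w := congrArg Subtype.val hzw
        have h1 := ZassenhausOdd.involution_fixed hZ hab hodd hz
        rw [if_pos hev] at h1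
        obtain rfl : c = d := congrArg Subtype.val ((Nat.card_eq_one_iff_unique.mp h1).1.elim
          (⟨c, hzc⟩ : MulAction.fixedBy Ω z) ⟨d, hwd⟩)
        rfl
      · rintro ⟨z, hz⟩
        have h1 := ZassenhausOdd.involution_fixed hZ hab hodd hz
        rw [if_pos hev] at h1
        obtain ⟨⟨c, hc⟩⟩ := (Nat.card_eq_one_iff_unique.mp h1).2
        exact ⟨⟨c, z, hz, hc⟩, rfl⟩
    have hfib : ∀ c : Ω, Nat.card {z : G // orderOf z = 2 ∧ z • c = c} = Nat.card {z : G // orderOf z = 2 ∧ z • a = a} := by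
      intro c
      obtain ⟨g, hg⟩ : ∃ g : G, g • c = a := by
        by_cases hca : c = a
        · exact ⟨1, by rw [one_smul, hca]⟩
        · obtain ⟨g, hg, -⟩ := CfsgLib.CharDeep.Zassenhaus.exists_map_pair hZ hca hab
          exact ⟨g, hg⟩
      refine Nat.card_congr ((MulAut.conj g).toEquiv.subtypeEquiv fun z => ?_)
      simp only [MulEquiv.toEquiv_eq_coe, MulEquiv.coe_toEquiv, MulEquiv.orderOf_eq]
      simp only [MulAut.conj_apply]
      rw [← hg]
      simp [mul_smul]
    have hcc := Nat.card_congr (Equiv.ofBijective f hf)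
    rw [Nat.card_sigma, Finset.sum_congr rfl fun c _ => hfib c, Finset.sum_const, smul_eq_mul,
      Finset.card_univ, hh, htot] at hcc
    exact Nat.eq_of_mul_eq_mul_left (by omega) hcc
  -- a Sylow 2-subgroup of `H` and its normalizer in `A`
  set H' := H.subgroupOf A with hH'
  haveI : H'.Normal := Subgroup.normal_subgroupOf_iff_le_normalizer hHa |>.mpr
    (Cfsg.Agent.S0878.result hZ a H hHa hHcard hHfix).2.ge
  have hcH' : Nat.card H' = h := by
    rw [hH', Nat.card_congr (Subgroup.subgroupOfEquivOfLe hHa).toEquiv]; omega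
  have hiH' : H'.index = e := by
    have hG := ZassenhausOdd.card_group hZ hab
    rw [← he, hh, Nat.add_sub_cancel] at hG
    have hA' : Nat.card A * Fintype.card Ω = Nat.card G := by
      haveI : MulAction.IsPretransitive G Ω := by
        obtain ⟨S⟩ := CfsgLib.Perm.ZGroup.exists_setup hZ hab
        exact S.isPretransitive
      rw [← Nat.card_eq_fintype_card, ← MulAction.index_stabilizer_of_transitive G a]
      exact Subgroup.card_mul_index _
    rw [hG, hh, mul_comm] at hA'
    have hcA := Nat.eq_of_mul_eq_mul_left (by omega : 0 < h + 1) hA'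
    have hm := H'.card_mul_index
    rw [hcA, hcH'] at hm
    exact Nat.eq_of_mul_eq_mul_left (by omega) hm
  obtain ⟨P⟩ : Nonempty (Sylow 2 H') := inferInstance
  set PA : Subgroup A := (P : Subgroup H').map H'.subtype with hPA
  have hfr : Subgroup.normalizer (PA : Set A) ⊔ H' = ⊤ := Sylow.normalizer_sup_eq_top P
  set N := Subgroup.normalizer (PA : Set A) with hN
  have hrel : H'.relIndex N = e := by
    rw [← Subgroup.relIndex_sup_right, hfr, Subgroup.relIndex_top_right, hiH']
  have hxH : x ∈ H := hinH x hxa (hsingle x hx hxa)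
  have hyH : y ∈ H := hinH y hya (hsingle y hy hya)
  have hPne : (⊤ : Subgroup PA) ≠ ⊥ := by
    intro h0
    have h2 : 2 ∣ Nat.card H' := by
      have hd : orderOf (⟨⟨x, hxa⟩, hxH⟩ : H') ∣ Nat.card H' := orderOf_dvd_natCard _
      rw [← Subgroup.orderOf_coe, ← Subgroup.orderOf_coe] at hd
      exact hx ▸ hd
    have hP2 := P.dvd_card_of_dvd_card h2
    have h1 : Nat.card PA = 1 := by
      rw [← Subgroup.card_top (G := PA), h0, Subgroup.card_bot]
    rw [hPA, Subgroup.card_map_of_injective H'.subtype_injective] at h1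
    rw [h1] at hP2
    exact absurd hP2 (by norm_num)
  obtain ⟨z, -, hz2, hzc⟩ := CfsgLib.TwoGroups.Classify.exists_central_involution
    (P.isPGroup'.map H'.subtype) (⊤ : Subgroup PA) hPne
  have hzH : ((z : A) : G) ∈ H := (Subgroup.map_subtype_le (H := H') (P : Subgroup H') z.2 : (z : A) ∈ H')
  have hzo : orderOf ((z : A) : G) = 2 := by rwa [Subgroup.orderOf_coe, Subgroup.orderOf_coe]
  have hcent : ∀ g : A, (g : G) * ((z : A) : G) = ((z : A) : G) * (g : G) → g ∈ H' := by
    intro g hg
    by_contra hgH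
    have hex : ∃ c : Ω, (g : G) • c = c ∧ c ≠ a := by
      by_contra! hall
      exact hgH (hinH g g.2 hall)
    obtain ⟨c, hc, hca⟩ := hex
    have hzne : ((z : A) : G) ≠ 1 := fun h0 => by simp [h0] at hzo
    have hzca : ((z : A) : G) • c ≠ a := fun h0 => hca (MulAction.injective ((z : A) : G) (h0.trans (z : A).2.symm))
    have hzcc : ((z : A) : G) • c ≠ c := fun h0 => hca (hHfix _ hzH hzne c h0)
    refine hgH ?_
    have : (g : G) = 1 := hZ.2.2.1 g a c (((z : A) : G) • c) (Ne.symm hca) (Ne.symm hzcc) (Ne.symm hzca) g.2 hc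
      (by rw [← mul_smul, hg, mul_smul, hc])
    show (g : G) ∈ H
    rw [this]
    exact H.one_mem
  have hPmem : ∀ g : N, (g : A) * (z : A) * (g : A)⁻¹ ∈ PA := fun g =>
    (Subgroup.mem_normalizer_iff.mp g.2 _).mp z.2
  let F : (N ⧸ H'.subgroupOf N) → {w : G // orderOf w = 2 ∧ w • a = a} := fun q =>
    ⟨((((q.out : N) : A) * (z : A) * ((q.out : N) : A)⁻¹ : A) : G), by
      refine ⟨?_, (((q.out : N) : A) * (z : A) * ((q.out : N) : A)⁻¹).2⟩
      rw [Subgroup.coe_mul, Subgroup.coe_mul, Subgroup.coe_inv]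
      rw [← MulAut.conj_apply, MulEquiv.orderOf_eq, hzo]⟩
  have hF : Function.Bijective F := by
    refine (Nat.bijective_iff_injective_and_card F).mpr ⟨?_, by rw [hI]; exact hrel⟩
    intro q q' hqq
    rw [← q.out_eq, ← q'.out_eq]
    refine QuotientGroup.eq.mpr ?_
    rw [Subgroup.mem_subgroupOf]
    apply hcent
    have h1 : ((q.out : N) : A) * (z : A) * ((q.out : N) : A)⁻¹ = ((q'.out : N) : A) * (z : A) * ((q'.out : N) : A)⁻¹ :=
      Subtype.ext (show (F q).1 = (F q').1 from congrArg (fun w => w.1) hqq)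
    set g := ((q.out : N) : A)
    set g' := ((q'.out : N) : A)
    have h2 : (g⁻¹ * g') * (z : A) = (z : A) * (g⁻¹ * g') := by
      calc (g⁻¹ * g') * (z : A) = g⁻¹ * (g' * (z : A) * g'⁻¹) * g' := by group
        _ = g⁻¹ * (g * (z : A) * g⁻¹) * g' := by rw [h1]
        _ = _ := by group
    exact congrArg Subtype.val h2
  have hcentral : ∀ w : G, orderOf w = 2 → w • a = a → ∃ hw : w • a = a, (⟨w, hw⟩ : A) ∈ PA ∧
      ∀ p ∈ PA, (⟨w, hw⟩ : A) * p = p * ⟨w, hw⟩ := by
    intro w hw hwa
    obtain ⟨q, hq⟩ := hF.2 ⟨w, hw, hwa⟩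
    refine ⟨hwa, ?_⟩
    have hq' : (⟨w, hwa⟩ : A) = ((q.out : N) : A) * (z : A) * ((q.out : N) : A)⁻¹ :=
      Subtype.ext (congrArg Subtype.val hq).symm
    rw [hq']
    refine ⟨hPmem q.out, fun p hp => ?_⟩
    set g := ((q.out : N) : A)
    have hp' : g⁻¹ * p * g ∈ PA := (Subgroup.mem_normalizer_iff''.mp (q.out : N).2 p).mp hp
    have h3 : (g⁻¹ * p * g) * (z : A) = (z : A) * (g⁻¹ * p * g) :=
      congrArg Subtype.val (Subgroup.mem_center_iff.mp hzc ⟨_, hp'⟩)
    calc g * (z : A) * g⁻¹ * p = g * ((z : A) * (g⁻¹ * p * g)) * g⁻¹ := by group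
      _ = g * ((g⁻¹ * p * g) * (z : A)) * g⁻¹ := by rw [h3]
      _ = _ := by group
  obtain ⟨_, -, hxc⟩ := hcentral x hx hxa
  obtain ⟨_, hyP, -⟩ := hcentral y hy hya
  have hcomm : x * y = y * x := congrArg Subtype.val (hxc _ hyP)
  rw [← hxy]
  refine orderOf_eq_prime ?_ (hxy ▸ hu1)
  rw [sq]
  calc x * y * (x * y) = x * y * (y * x) := by rw [hcomm]
    _ = x * (y * y) * x := by group
    _ = 1 := by rw [hyy, mul_one, hxx]

end Cfsg.Agent.S0883
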