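import Cfsg.Statements.S0884
import Cfsg.Agent.S0882
import Cfsg.Agent.Lib.Solvable.ZassenhausOdd
import Cfsg.Agent.Lib.CharDeep.Zassenhaus

set_option autoImplicit false
open Cfsg

namespace Cfsg.Agent.S0884

open MulAction CfsgLib.Solvable in
/-- Let G be a finite simple Zassenhaus group on Ω with h + 1 points whose two-point stabilizer E has odd order e with 2e < h - 1, and let H be the subgroup of the stabilizer of a consisting of the identity and the elements fixing no point other than a (given here as a subgroup of the stabilizer of order one less than the number of points whose non-identity elements fix only a; it is the Frobenius kernel of the stabilizer). Then at least e conjugacy classes of G contain no element of H. -/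
theorem result {G Ω : Type*} [Group G] [Finite G] [MulAction G Ω] [Fintype Ω] (hZ : Cfsg.IsZassenhausGroup G Ω) {a b : Ω} (hab : a ≠ b) [IsSimpleGroup G] (h e : ℕ) (hh : Fintype.card Ω = h + 1) (he : Nat.card ↥(MulAction.stabilizer G a ⊓ MulAction.stabilizer G b : Subgroup G) = e) (hodd : Odd e) (hlt : 2 * e < h - 1) (H : Subgroup G) (hHa : H ≤ MulAction.stabilizer G a) (hHcard : Nat.card H + 1 = Fintype.card Ω) (hHfix : ∀ u ∈ H, u ≠ 1 → ∀ c : Ω, u • c = c → c = a) : e ≤ Nat.card {C : ConjClasses G // ∀ g : G, ConjClasses.mk g = C → g ∉ H} := by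
  classical
  haveI := hZ.1
  haveI := Fintype.ofFinite G
  haveI := Fintype.ofFinite (ConjClasses G)
  obtain ⟨hconj, hN⟩ := Cfsg.Agent.S0882.result hZ hab h e hh he hodd hlt
  have hcG : Nat.card G = (h + 1) * (h * e) := by
    rw [ZassenhausOdd.card_group hZ hab, hh, he, Nat.add_sub_cancel]
  -- two-point stabilisers have order `e`
  have hcong : ∀ {c d : Ω}, c ≠ d → Nat.card ↥(stabilizer G c ⊓ stabilizer G d) = e := by
    intro c d hcd
    obtain ⟨g, hga, hgb⟩ := CfsgLib.CharDeep.Zassenhaus.exists_map_pair hZ hcd hab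
    rw [← he]
    refine Nat.card_congr ((MulAut.conj g).toEquiv.subtypeEquiv fun x => ?_)
    simp only [Subgroup.mem_inf, mem_stabilizer_iff, MulEquiv.toEquiv_eq_coe, MulEquiv.coe_toEquiv,
      MulAut.conj_apply]
    rw [← hga, ← hgb]
    simp [mul_smul]
  set I := Finset.univ.filter fun s : G => orderOf s = 2 with hI
  have hmemI : ∀ {s : G}, s ∈ I ↔ orderOf s = 2 := fun {s} => by simp [hI]
  have hsq : ∀ {s : G}, orderOf s = 2 → s * s = 1 := fun {s} hs => by rw [← sq, ← hs, pow_orderOf_eq_one]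
  have hIN : I.card = if Even h then e * (h + 1) else e * h := by
    rw [← hN, Nat.card_eq_fintype_card, Fintype.card_subtype, hI]
  have hOdd : Odd (Fintype.card Ω) ↔ Even h := by rw [hh, Nat.odd_add_one, Nat.not_odd_iff_even]
  -- exchanging involutions
  set W := fun p : Ω × Ω => I.filter fun s => s • p.1 = p.2 ∧ s • p.2 = p.1 with hW
  have hWc : ∀ p : Ω × Ω, p.1 ≠ p.2 → (W p).card = e := by
    intro p hp
    have h1 := (ZassenhausOdd.swappers hZ hp ((hcong hp).symm ▸ hodd)).1
    rw [hcong hp, Nat.card_eq_fintype_card, Fintype.card_subtype] at h1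
    rw [← h1]; simp only [hW, hI, Finset.filter_filter]
  -- involutions fixing a point
  set V := fun c : Ω => I.filter fun s => s • c = c with hV
  have hVsum : ∑ c : Ω, (V c).card = if Even h then I.card else 0 := by
    rw [show ∑ c : Ω, (V c).card = ∑ s ∈ I, (Finset.univ.filter fun c : Ω => s • c = c).card from
      (Finset.sum_card_bipartiteAbove_eq_sum_card_bipartiteBelow (s := I) (t := Finset.univ)
        (fun (s : G) (c : Ω) => s • c = c)).symm]
    have hf : ∀ s ∈ I, (Finset.univ.filter fun c : Ω => s • c = c).card = if Even h then 1 else 0 := by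
      intro s hs
      have h1 := ZassenhausOdd.involution_fixed hZ hab (he.symm ▸ hodd) (hmemI.1 hs)
      rw [Nat.card_eq_fintype_card] at h1
      rw [← Fintype.card_subtype, ← (if_congr hOdd rfl rfl : (if Odd (Fintype.card Ω) then 1 else 0) = _), ← h1]
      rfl
    rw [Finset.sum_congr rfl hf, Finset.sum_const, smul_eq_mul]
    split_ifs <;> simp
  have hVc : ∀ c : Ω, (V c).card = if Even h then e else 0 := by
    intro c
    have hconst : ∀ d : Ω, (V d).card = (V c).card := by
      intro d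
      obtain ⟨g, hg⟩ : ∃ g : G, g • d = c := by
        by_cases hdc : d = c
        · exact ⟨1, by rw [one_smul, hdc]⟩
        · obtain ⟨g, hg, -⟩ := CfsgLib.CharDeep.Zassenhaus.exists_map_pair hZ hdc (Ne.symm hdc)
          exact ⟨g, hg⟩
      refine Finset.card_bijective (fun s => g * s * g⁻¹) (MulAut.conj g).bijective fun s => ?_
      simp only [hV, hI, Finset.mem_filter, Finset.mem_univ, true_and]
      rw [show g * s * g⁻¹ = MulAut.conj g s from rfl, MulEquiv.orderOf_eq, MulAut.conj_apply, mul_smul,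
        mul_smul, show g⁻¹ • c = d from inv_smul_eq_iff.2 hg.symm, ← hg]
      exact ⟨fun hs => ⟨hs.1, by rw [hs.2]⟩, fun hs => ⟨hs.1, MulAction.injective g hs.2⟩⟩
    rw [Finset.sum_congr rfl fun d _ => hconst d, Finset.sum_const, Finset.card_univ, hh, smul_eq_mul,
      hIN] at hVsum
    split_ifs at hVsum ⊢
    · exact Nat.eq_of_mul_eq_mul_left (by omega : 0 < h + 1) (hVsum.trans (mul_comm _ _))
    · exact (Nat.mul_eq_zero.1 hVsum).resolve_left (by omega)
  -- an inverted element and its fixed points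
  have hinvfix : ∀ s t : G, orderOf s = 2 → orderOf t = 2 → ∀ c : Ω, (s * t) • c = c →
      t • c = s • c ∧ (s * t) • (s • c) = s • c := by
    intro s t hs ht c hc
    have h1 : t • c = s • c := by
      conv_rhs => rw [← hc, ← mul_smul, ← mul_assoc, hsq hs, one_mul]
    refine ⟨h1, ?_⟩
    rw [← h1, ← mul_smul, mul_assoc, hsq ht, mul_one, h1]
  let Two : G → Prop := fun g => g ≠ 1 ∧ ∃ c d : Ω, c ≠ d ∧ g • c = c ∧ g • d = d
  let Free : G → Prop := fun g => ∀ c : Ω, g • c ≠ c
  set P := I ×ˢ I with hP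
  set P0 := P.filter fun p => Free (p.1 * p.2) with hP0
  set P1 := P.filter fun p => p.1 ≠ p.2 ∧ ∃ c : Ω, p.1 • c = c ∧ p.2 • c = c with hP1
  set P2 := P.filter fun p => Two (p.1 * p.2) with hP2
  have hsplit : P.card ≤ I.card + P2.card + P1.card + P0.card := by
    have hsub : P ⊆ ((I.diag ∪ P2) ∪ P1) ∪ P0 := by
      rintro ⟨s, t⟩ hp
      obtain ⟨hs, ht⟩ := Finset.mem_product.1 hp
      simp only [Finset.mem_union, Finset.mem_diag, hP0, hP1, hP2, Finset.mem_filter]
      by_cases hst : s = t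
      · exact Or.inl (Or.inl (Or.inl ⟨hs, hst⟩))
      by_cases hf : Free (s * t)
      · exact Or.inr ⟨hp, hf⟩
      by_cases h2 : Two (s * t)
      · exact Or.inl (Or.inl (Or.inr ⟨hp, h2⟩))
      obtain ⟨c, hc⟩ : ∃ c : Ω, (s * t) • c = c := by simpa [Free] using hf
      obtain ⟨h1, h3⟩ := hinvfix s t (hmemI.1 hs) (hmemI.1 ht) c hc
      have hsc : s • c = c := by
        by_contra hne
        exact h2 ⟨fun e1 => hst (by
          have := inv_eq_of_mul_eq_one_right e1
          rwa [inv_eq_of_mul_eq_one_right (hsq (hmemI.1 hs))] at this), s • c, c, hne, h3, hc⟩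
      exact Or.inl (Or.inr ⟨hp, hst, c, hsc, h1.trans hsc⟩)
    refine (Finset.card_le_card hsub).trans ((Finset.card_union_le _ _).trans (Nat.add_le_add_right
      ((Finset.card_union_le _ _).trans (Nat.add_le_add_right ((Finset.card_union_le _ _).trans ?_) _)) _))
    rw [Finset.diag_card]
  -- products fixing two points
  set O := (Finset.univ : Finset Ω).offDiag with hO
  have hOc : O.card = (h + 1) * h := by
    rw [hO, Finset.offDiag_card, Finset.card_univ, hh, Nat.mul_succ, Nat.add_sub_cancel]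
  have hP2c : P2.card * 2 ≤ O.card * (e * e - e) := by
    refine Finset.card_mul_le_card_mul (fun p q => p.1 ∈ W q ∧ p.2 ∈ W q) (fun p hp => ?_) fun q hq => ?_
    · obtain ⟨hpP, hne1, c, d, hcd, hc, hd⟩ := Finset.mem_filter.1 hp
      obtain ⟨hs, ht⟩ := Finset.mem_product.1 hpP
      set s := p.1
      set t := p.2
      have hs' := hmemI.1 hs
      obtain ⟨htc, hsc⟩ := hinvfix s t hs' (hmemI.1 ht) c hc
      obtain ⟨htd, hsd⟩ := hinvfix s t hs' (hmemI.1 ht) d hd
      have hxe : ∀ y : Ω, (s * t) • y = y → y = c ∨ y = d := fun y hy =>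
        CfsgLib.CharDeep.Zassenhaus.eq_or_eq hZ hne1 hcd hc hd hy
      have hnot : ¬ (s • c = c ∧ s • d = d) := fun hh' => by
        have h1 := Subgroup.orderOf_dvd_natCard (stabilizer G c ⊓ stabilizer G d)
          (show s ∈ stabilizer G c ⊓ stabilizer G d from ⟨hh'.1, hh'.2⟩)
        rw [hs', hcong hcd] at h1
        exact Nat.not_even_iff_odd.2 hodd (even_iff_two_dvd.2 h1)
      have hscd : s • c = d ∧ s • d = c := by
        rcases hxe _ hsc with h1 | h1 <;> rcases hxe _ hsd with h2 | h2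
        · exact absurd (MulAction.injective s (h1.trans h2.symm)) hcd
        · exact absurd ⟨h1, h2⟩ hnot
        · exact ⟨h1, h2⟩
        · exact absurd (MulAction.injective s (h1.trans h2.symm)) hcd
      calc 2 = ({(c, d), (d, c)} : Finset (Ω × Ω)).card := (Finset.card_pair (by simp [hcd])).symm
        _ ≤ _ := Finset.card_le_card fun q hq => by
          rw [Finset.mem_insert, Finset.mem_singleton] at hq
          rw [Finset.mem_bipartiteAbove, hO, Finset.mem_offDiag]
          rcases hq with rfl | rfl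
          · exact ⟨⟨Finset.mem_univ _, Finset.mem_univ _, hcd⟩,
              Finset.mem_filter.2 ⟨hs, hscd⟩, Finset.mem_filter.2 ⟨ht, htc.trans hscd.1, htd.trans hscd.2⟩⟩
          · exact ⟨⟨Finset.mem_univ _, Finset.mem_univ _, hcd.symm⟩, Finset.mem_filter.2 ⟨hs, hscd.symm⟩,
              Finset.mem_filter.2 ⟨ht, htd.trans hscd.2, htc.trans hscd.1⟩⟩
    · have hq' : q.1 ≠ q.2 := (Finset.mem_offDiag.1 hq).2.2
      calc (Finset.bipartiteBelow _ P2 q).card ≤ (W q).offDiag.card := Finset.card_le_card fun p hp => by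
            rw [Finset.mem_bipartiteBelow] at hp
            refine Finset.mem_offDiag.2 ⟨hp.2.1, hp.2.2, fun e1 => ?_⟩
            obtain ⟨hpP, hne1, -⟩ := Finset.mem_filter.1 hp.1
            rw [e1] at hne1
            exact hne1 (hsq (hmemI.1 (Finset.mem_product.1 hpP).2))
        _ = e * e - e := by rw [Finset.offDiag_card, hWc q hq']
  -- products fixing one point
  have hP1c : P1.card * 1 ≤ (Finset.univ : Finset Ω).card * (if Even h then e * e - e else 0) := by
    refine Finset.card_mul_le_card_mul (fun p c => p.1 ∈ V c ∧ p.2 ∈ V c) (fun p hp => ?_) fun c _ => ?_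
    · obtain ⟨hpP, -, c, hc1, hc2⟩ := Finset.mem_filter.1 hp
      obtain ⟨hs, ht⟩ := Finset.mem_product.1 hpP
      refine Finset.card_pos.2 ⟨c, (Finset.mem_bipartiteAbove _).2 ⟨Finset.mem_univ _,
        Finset.mem_filter.2 ⟨hs, hc1⟩, Finset.mem_filter.2 ⟨ht, hc2⟩⟩⟩
    · calc (Finset.bipartiteBelow _ P1 c).card ≤ (V c).offDiag.card := Finset.card_le_card fun p hp => by
            rw [Finset.mem_bipartiteBelow] at hp
            exact Finset.mem_offDiag.2 ⟨hp.2.1, hp.2.2, (Finset.mem_filter.1 hp.1).2.1⟩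
        _ = _ := by
            rw [Finset.offDiag_card, hVc]
            split_ifs <;> simp
  -- products without fixed points
  set U0 := Finset.univ.filter fun C : ConjClasses G => ∃ g, ConjClasses.mk g = C ∧ Free g with hU0
  have hP0c : P0.card ≤ Nat.card G * U0.card := by
    refine Finset.card_le_mul_card_image_of_maps_to (f := fun p => ConjClasses.mk (p.1 * p.2)) (fun p hp => ?_) _ fun C _ => ?_
    · exact Finset.mem_filter.2 ⟨Finset.mem_univ _, _, rfl, (Finset.mem_filter.1 hp).2⟩
    · obtain ⟨x₀, rfl⟩ := ConjClasses.exists_rep C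
      set Fib := P0.filter fun p => ConjClasses.mk (p.1 * p.2) = ConjClasses.mk x₀
      -- a witness for every element of the class
      have hk : ∀ x : G, ∃ k : G × G, (∃ p ∈ Fib, p.1 * p.2 = x) →
          k.1 * x₀ * k.1⁻¹ = x ∧ orderOf k.2 = 2 ∧ k.2 * x * k.2⁻¹ = x⁻¹ := by
        intro x
        by_cases hx : ∃ p ∈ Fib, p.1 * p.2 = x
        · obtain ⟨p, hp, rfl⟩ := hx
          obtain ⟨hp0, hpc⟩ := Finset.mem_filter.1 hp
          obtain ⟨g, hg⟩ := isConj_iff.1 (ConjClasses.mk_eq_mk_iff_isConj.1 hpc).symm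
          obtain ⟨hs, ht⟩ := Finset.mem_product.1 (Finset.mem_filter.1 hp0).1
          refine ⟨(g, p.1), fun _ => ⟨hg, hmemI.1 hs, ?_⟩⟩
          rw [mul_inv_rev, inv_eq_of_mul_eq_one_right (hsq (hmemI.1 hs)),
            inv_eq_of_mul_eq_one_right (hsq (hmemI.1 ht)), ← mul_assoc, hsq (hmemI.1 hs), one_mul]
        · exact ⟨1, fun h' => absurd h' hx⟩
      choose k hk using hk
      rw [Nat.card_eq_fintype_card]
      refine Finset.card_le_card_of_injOn (fun p => p.1 * (k (p.1 * p.2)).2 * (k (p.1 * p.2)).1)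
        (fun _ _ => Finset.mem_univ _) ?_
      have hrec : ∀ p ∈ Fib, (p.1 * (k (p.1 * p.2)).2 * (k (p.1 * p.2)).1) * x₀ *
          (p.1 * (k (p.1 * p.2)).2 * (k (p.1 * p.2)).1)⁻¹ = p.1 * p.2 := by
        intro p hp
        obtain ⟨e1, -, e3⟩ := hk _ ⟨p, hp, rfl⟩
        obtain ⟨hs, ht⟩ := Finset.mem_product.1 (Finset.mem_filter.1 (Finset.mem_filter.1 hp).1).1
        generalize (k (p.1 * p.2)).1 = g at e1 ⊢
        generalize (k (p.1 * p.2)).2 = r at e3 ⊢
        calc p.1 * r * g * x₀ * (p.1 * r * g)⁻¹ = p.1 * (r * (g * x₀ * g⁻¹) * r⁻¹) * p.1⁻¹ := by group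
          _ = p.1 * (p.1 * p.2)⁻¹ * p.1⁻¹ := by rw [e1, e3]
          _ = p.1 * p.2⁻¹ * (p.1⁻¹ * p.1⁻¹) := by group
          _ = p.1 * p.2 := by
            rw [inv_eq_of_mul_eq_one_right (hsq (hmemI.1 ht)), inv_eq_of_mul_eq_one_right (hsq (hmemI.1 hs)),
              hsq (hmemI.1 hs), mul_one]
      intro p hp q hq hpq
      have hx : p.1 * p.2 = q.1 * q.2 := by
        rw [← hrec p hp, ← hrec q hq]
        exact congrArg (fun y => y * x₀ * y⁻¹) hpq
      simp only [hx] at hpq
      have h1 : p.1 = q.1 := mul_right_cancel (mul_right_cancel hpq)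
      exact Prod.ext h1 (mul_left_cancel (h1 ▸ hx))
  -- elements fixing two points
  set U2 := Finset.univ.filter fun C : ConjClasses G => ∃ g, ConjClasses.mk g = C ∧ Two g with hU2
  set E' := Finset.univ.filter fun g : G => (g • a = a ∧ g • b = b) ∧ g ≠ 1 with hE'
  have hE'c : E'.card = e - 1 := by
    have h1 : (Finset.univ.filter fun g : G => g • a = a ∧ g • b = b).card = e := by
      rw [← he, Nat.card_eq_fintype_card, ← Fintype.card_subtype]
      exact Fintype.card_congr (Equiv.refl _)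
    rw [show E' = (Finset.univ.filter fun g : G => g • a = a ∧ g • b = b).erase 1 from
      Finset.ext fun g => by simp [hE', and_comm], Finset.card_erase_of_mem (by simp), h1]
  have hinv := ZassenhausOdd.swap_inverts hZ hab (he.symm ▸ hodd)
  obtain ⟨w, hwa, hwb⟩ : ∃ w : G, w • a = b ∧ w • b = a :=
    CfsgLib.CharDeep.Zassenhaus.exists_map_pair hZ hab (Ne.symm hab)
  have hEcomm : ∀ x ∈ stabilizer G a ⊓ stabilizer G b, ∀ y ∈ stabilizer G a ⊓ stabilizer G b, x * y = y * x := by
    intro x hx y hy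
    have h1 := hinv w hwa hwb _ (mul_mem hx hy)
    rw [show w * (x * y) * w⁻¹ = (w * x * w⁻¹) * (w * y * w⁻¹) by group, hinv w hwa hwb x hx,
      hinv w hwa hwb y hy, ← mul_inv_rev] at h1
    exact inv_injective h1.symm
  have hU2c : E'.card ≤ 2 * U2.card := by
    refine Finset.card_le_mul_card_image_of_maps_to (f := ConjClasses.mk) (fun x hx => ?_) _ fun C _ => ?_
    · obtain ⟨⟨hxa, hxb⟩, hx1⟩ := (Finset.mem_filter.1 hx).2
      exact Finset.mem_filter.2 ⟨Finset.mem_univ _, x, rfl, hx1, a, b, hab, hxa, hxb⟩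
    · by_cases hC : ∃ x ∈ E', ConjClasses.mk x = C
      swap
      · rw [Finset.filter_eq_empty_iff.2 fun x hx hxC => hC ⟨x, hx, hxC⟩]; simp
      obtain ⟨x, hx, rfl⟩ := hC
      refine (Finset.card_le_card ?_).trans (Finset.card_le_two (a := x) (b := x⁻¹))
      intro y hy
      obtain ⟨hyE, hyc⟩ := Finset.mem_filter.1 hy
      obtain ⟨⟨hxa, hxb⟩, hx1⟩ := (Finset.mem_filter.1 hx).2
      obtain ⟨⟨hya, hyb⟩, hy1⟩ := (Finset.mem_filter.1 hyE).2
      obtain ⟨g, rfl⟩ := isConj_iff.1 (ConjClasses.mk_eq_mk_iff_isConj.1 hyc).symm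
      have hg : ∀ {c : Ω}, (g * x * g⁻¹) • c = c → x • (g⁻¹ • c) = g⁻¹ • c := fun {c} hc => by
        rw [mul_smul, mul_smul, ← eq_inv_smul_iff] at hc
        exact hc
      rw [Finset.mem_insert, Finset.mem_singleton]
      have hne : g⁻¹ • a ≠ g⁻¹ • b := fun e1 => hab (MulAction.injective g⁻¹ e1)
      rcases CfsgLib.CharDeep.Zassenhaus.eq_or_eq hZ hx1 hab hxa hxb (hg hya) with h1 | h1 <;>
        rcases CfsgLib.CharDeep.Zassenhaus.eq_or_eq hZ hx1 hab hxa hxb (hg hyb) with h2 | h2
      · exact absurd (h1.trans h2.symm) hne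
      · refine Or.inl ?_
        rw [hEcomm g ⟨(inv_smul_eq_iff.1 h1).symm, (inv_smul_eq_iff.1 h2).symm⟩ x ⟨hxa, hxb⟩, mul_inv_cancel_right]
      · exact Or.inr (hinv g (inv_smul_eq_iff.1 h2).symm (inv_smul_eq_iff.1 h1).symm x ⟨hxa, hxb⟩)
      · exact absurd (h1.trans h2.symm) hne
  -- both kinds of classes avoid `H`
  have hTwo : ∀ g g' : G, IsConj g g' → g' ∈ H → ¬ Two g ∧ ¬ Free g := by
    intro g g' hgg hg'
    obtain ⟨k, rfl⟩ := isConj_iff.1 hgg
    refine ⟨fun ⟨hg1, c, d, hcd, hc, hd⟩ => ?_, fun hf => hf (k⁻¹ • a) ?_⟩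
    · have hne : k * g * k⁻¹ ≠ 1 := fun e1 => hg1 (conj_eq_one_iff.1 e1)
      refine hcd (MulAction.injective k ?_)
      show k • c = k • d
      rw [hHfix _ hg' hne (k • c) (by rw [mul_smul, inv_smul_smul, mul_smul, hc]),
        hHfix _ hg' hne (k • d) (by rw [mul_smul, inv_smul_smul, mul_smul, hd])]
    · have h1 : (k * g * k⁻¹) • a = a := hHa hg'
      rw [mul_smul, mul_smul, ← eq_inv_smul_iff] at h1
      exact h1
  have hdisj : Disjoint U0 U2 := by
    rw [Finset.disjoint_filter]
    rintro C - ⟨g, rfl, hgf⟩ ⟨g', hg', -, c, d, -, hc, -⟩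
    obtain ⟨k, rfl⟩ := isConj_iff.1 (ConjClasses.mk_eq_mk_iff_isConj.1 hg')
    exact hgf (k • c) (by rw [mul_smul, inv_smul_smul, mul_smul, hc])
  have htarget : U0.card + U2.card ≤ Nat.card {C : ConjClasses G // ∀ g : G, ConjClasses.mk g = C → g ∉ H} := by
    rw [Nat.card_eq_fintype_card, Fintype.card_subtype, ← Finset.card_union_of_disjoint hdisj]
    refine Finset.card_le_card fun C hC => Finset.mem_filter.2 ⟨Finset.mem_univ _, fun g' hg' hH' => ?_⟩
    rcases Finset.mem_union.1 hC with hC | hC <;> obtain ⟨g, hg, hgp⟩ := (Finset.mem_filter.1 hC).2 <;>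
      have h1 := hTwo g g' (ConjClasses.mk_eq_mk_iff_isConj.1 (hg.trans hg'.symm)) hH'
    · exact h1.2 hgp
    · exact h1.1 hgp
  refine le_trans ?_ htarget
  suffices hkey : e + 1 ≤ 2 * U0.card by omega
  obtain ⟨r, hr⟩ := hodd
  by_contra hlt0
  have hU : U0.card ≤ r := by omega
  rw [hcG] at hP0c
  have hP0' := hP0c.trans (Nat.mul_le_mul_left _ hU)
  rw [Finset.card_product] at hsplit
  rw [hOc] at hP2c
  rw [Finset.card_univ, hh, mul_one] at hP1c
  have hee : e * e - e = 2 * r * e := by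
    rw [hr]; exact Nat.sub_eq_of_eq_add (by ring)
  rw [hee] at hP2c hP1c
  have hh2 : e + 1 ≤ h := by omega
  split_ifs at hP1c hIN with hev <;> rw [hIN] at hsplit
  · have h2 : e * (h + 1) * (e * (h + 1)) ≤ e * (h + 1) * (1 + 2 * r * (h + 1)) := by linarith
    have h3 := Nat.le_of_mul_le_mul_left h2 (Nat.mul_pos (by omega) (by omega))
    rw [hr] at h3
    linarith
  · have h2 : e * h * (e * h) ≤ e * h * (1 + 2 * r * (h + 1)) := by linarith
    have h3 := Nat.le_of_mul_le_mul_left h2 (Nat.mul_pos (by omega) (by omega))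
    rw [hr] at h3
    linarith

end Cfsg.Agent.S0884
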