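import Cfsg.Statements.S0889
import Cfsg.Agent.Lib.CharDeep.ImprimitiveStep
-- import your own Cfsg.Agent.* helpers here

set_option autoImplicit false
open Cfsg CfsgLib.Char CfsgLib.CharDeep.Relative
open scoped Classical commutatorElement

namespace Cfsg.Agent.S0889

/-- Induction from a proper subgroup refines to induction from a maximal subgroup. -/
theorem exists_coatom_induced {G : Type*} [Group G] [Fintype G] {χ : G → ℂ}
    (hχ : Cfsg.IsIrrCharacter G χ) {T : Subgroup G} (hT : T ≠ ⊤) {ψ : T → ℂ}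
    (hψ : Cfsg.IsCharacter T ψ) (he : Cfsg.indFun T ψ = χ) :
    ∃ H : Subgroup G, T ≤ H ∧ IsCoatom H ∧
      ∃ ϑ : H → ℂ, Cfsg.IsIrrCharacter H ϑ ∧ Cfsg.indFun H ϑ = χ := by
  obtain ⟨H, hH, hTH⟩ := (eq_top_or_exists_le_coatom T).resolve_left hT
  refine ⟨H, hTH, hH, _, ?_, (CfsgLib.Char.indFun_indFun T ψ H hTH).trans he⟩
  exact irr_of_indFun_irr H (CfsgLib.Char.IsCharacter.indFun _
    (CfsgLib.Char.IsCharacter.comp hψ (Subgroup.subgroupOfEquivOfLe hTH).toMonoidHom))
    (((CfsgLib.Char.indFun_indFun T ψ H hTH).trans he).symm ▸ hχ)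


/-- Let G be a finite solvable group and χ an irreducible character of G such that for every normal subgroup N the restriction of χ to N is a natural-number multiple of one irreducible character of N. Then χ is not induced from a character of any proper subgroup. -/
theorem result {G : Type*} [Group G] [Fintype G] [Group.IsSolvable G] (χ : G → ℂ) (hχ : Cfsg.IsIrrCharacter G χ) (hqp : ∀ (N : Subgroup G), N.Normal → ∃ (ϑ : N → ℂ) (e : ℕ), Cfsg.IsIrrCharacter N ϑ ∧ (fun n : N => χ n) = (e : ℂ) • ϑ) (K : Subgroup G) (hK : K ≠ ⊤) (ψ : K → ℂ) (hψ : Cfsg.IsCharacter K ψ) : Cfsg.indFun K ψ ≠ χ := by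
  intro hind0
  obtain ⟨H₀, -, hH₀⟩ := exists_coatom_induced hχ hK hψ hind0
  obtain ⟨C, -, ⟨H, hCdef, hmax, ϑ, hϑ, hind⟩, hCmax⟩ := Finite.exists_le_maximal
    (p := fun C : Subgroup G => ∃ H : Subgroup G, H.normalCore = C ∧ IsCoatom H ∧
      ∃ ϑ : H → ℂ, Cfsg.IsIrrCharacter H ϑ ∧ Cfsg.indFun H ϑ = χ)
    ⟨H₀, rfl, hH₀⟩
  subst hCdef
  set C := H.normalCore with hCdef
  have hCH : C ≤ H := H.normalCore_le
  have hhom : ∀ M : Subgroup G, M.Normal → Homogeneous χ M := hqp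
  have hsolv : ∀ L : Subgroup G, [L.Normal] → Group.IsSolvable (G ⧸ L) := fun L _ =>
    Group.isSolvable_of_surjective (f := QuotientGroup.mk' L) (QuotientGroup.mk'_surjective L)
  have hϑc := IsIrrCharacter.isCharacter hϑ
  have hχH : Cfsg.classInner (fun h : H => χ h) ϑ = 1 := by
    rw [IsCharacter.classInner_comm (IsCharacter.restrict (IsIrrCharacter.isCharacter hχ) H) hϑc,
      ← classInner_indFun H ϑ (IsIrrCharacter.isClassFunction hχ), hind, classInner_irr_self hχ]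
  obtain ⟨θ, e, hθ, hχC⟩ := hhom C inferInstance
  have hϑCc : Cfsg.IsCharacter C (fun c : C => ϑ ⟨(c : G), hCH c.2⟩) :=
    IsCharacter.comp hϑc (Subgroup.inclusion hCH)
  obtain ⟨a, ha⟩ : ∃ a : ℕ, (fun c : C => ϑ ⟨(c : G), hCH c.2⟩) = (a : ℂ) • θ := by
    obtain ⟨k, hk, hexp⟩ := IsCharacter.exists_multiplicity hϑCc
    refine ⟨k ⟨θ, hθ⟩, funext fun c => (hexp c).trans ?_⟩
    beta_reduce
    rw [Finset.sum_eq_single (⟨θ, hθ⟩ : Cfsg.IrrCharacter C)]
    · rfl
    · intro μ _ hμ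
      suffices hk0 : k μ = 0 by rw [hk0, Nat.cast_zero, zero_mul]
      by_contra hk0
      have h1 : Cfsg.classInner (fun c : C => χ c) μ ≠ 0 :=
        CfsgLib.CharDeep.Clifford.classInner_ne_zero_trans
          (IsCharacter.restrict (IsIrrCharacter.isCharacter hχ) H) hϑ
          (by rw [hχH]; exact one_ne_zero) (Subgroup.inclusion hCH) (isCharacter_irr μ)
          (by
            show Cfsg.classInner (fun c : C => ϑ ⟨(c : G), hCH c.2⟩) μ ≠ 0
            rw [hk]
            exact Nat.cast_ne_zero.2 hk0)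
      rw [hχC, classInner_smul_left, classInner_irr_ne hθ μ.2 fun h => hμ (Subtype.ext h.symm),
        mul_zero] at h1
      exact h1 rfl
    · exact fun h => absurd (Finset.mem_univ _) h
  have hϑC : ∀ c : C, ϑ ⟨(c : G), hCH c.2⟩ = (a : ℂ) * θ c := fun c => congrFun ha c
  set n := H.index with hndef
  have hθ1 := IsIrrCharacter.apply_one_ne_zero hθ
  have hen : (e : ℂ) = (n : ℂ) * a := by
    have h1 := congrFun hχC 1
    simp only [Pi.smul_apply, smul_eq_mul, OneMemClass.coe_one] at h1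
    rw [← hind, indFun_one, show (1 : H) = ⟨((1 : C) : G), hCH (1 : C).2⟩ from rfl, hϑC,
      ← mul_assoc] at h1
    exact (mul_right_cancel₀ hθ1 h1).symm
  have hCtop : C < ⊤ := lt_top_iff_ne_top.2 fun h => hmax.1 (top_le_iff.1 (h ▸ hCH))
  obtain ⟨K, hKn, hCK, -, hchief⟩ := exists_chief hCtop
  obtain ⟨hab, p, d, hp, hpd⟩ := chief_solvable (hsolv C) hCK hchief
  have hKH' : ¬ K ≤ H := fun h => hCK.not_ge ((Subgroup.normal_le_normalCore (H := H) (N := K)).2 h)
  have hsupKH : K ⊔ H = ⊤ := hmax.2 _ (lt_of_le_of_ne le_sup_right fun h => hKH' (h ▸ le_sup_left))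
  have hKnorm : K ≤ Subgroup.normalizer ((K ⊓ H : Subgroup G) : Set G) := by
    intro k hk
    refine mem_normalizer_of_conj fun x hx => ?_
    have h1 : ⁅k, x⁆ ∈ C := hab (Subgroup.commutator_mem_commutator hk hx.1)
    rw [show k * x * k⁻¹ = ⁅k, x⁆ * x by simp [commutatorElement_def]]
    exact ⟨K.mul_mem (hCK.le h1) hx.1, H.mul_mem (hCH h1) hx.2⟩
  have hKHn : (K ⊓ H).Normal := by
    rw [← Subgroup.normalizer_eq_top_iff, ← top_le_iff, ← hsupKH]
    refine sup_le hKnorm fun h hh => mem_normalizer_of_conj fun y hy => ?_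
    exact ⟨hKn.conj_mem y hy.1 h, H.mul_mem (H.mul_mem hh hy.2) (H.inv_mem hh)⟩
  have hKC : K ⊓ H = C := le_antisymm ((Subgroup.normal_le_normalCore).2 inf_le_right)
    (le_inf hCK.le hCH)
  have hnK : C.relIndex K = n := by
    rw [← hKC, Subgroup.inf_relIndex_left, hndef, ← Subgroup.relIndex_top_right (H := H), ← hsupKH]
    exact (relIndex_sup_left' K H).symm
  by_cases hKtop : K = ⊤
  · have hHC : H = C := by rw [← hKC, hKtop, top_inf_eq]
    have h1 : Cfsg.classInner (fun h : H => χ h) ϑ = n := by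
      rw [show (fun h : H => χ h) = (n : ℂ) • ϑ from funext fun h => by
        have h2 := congrFun hχC ⟨(h : G), hHC ▸ h.2⟩
        simp only [Pi.smul_apply, smul_eq_mul] at h2 ⊢
        rw [h2, hen, mul_assoc, ← hϑC],
        classInner_smul_left, classInner_irr_self hϑ, mul_one]
    rw [hχH] at h1
    exact hmax.1 (Subgroup.index_eq_one.1 (by exact_mod_cast h1.symm))
  obtain ⟨φ, f, hφ, hχK⟩ := hhom K hKn
  have hf0 : (f : ℂ) ≠ 0 := Nat.cast_ne_zero.2 (mult_ne_zero hχ hχK)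
  have hχK' : ∀ k : K, χ k = (f : ℂ) * φ k := fun k => congrFun hχK k
  have hvan : ∀ k : K, (k : G) ∉ C → φ k = 0 := fun k hkC => by
    refine (mul_eq_zero.1 ((hχK' k).symm.trans ?_)).resolve_left hf0
    rw [← hind]
    refine indFun_eq_zero_of_forall H ϑ fun x hx => hkC ?_
    have h1 : x⁻¹ * k * x ∈ C := hKC ▸ ⟨by simpa using hKn.conj_mem k k.2 x⁻¹, hx⟩
    have h2 := (inferInstance : C.Normal).conj_mem _ h1 x
    simpa [mul_assoc] using h2
  have hφCc : Cfsg.IsCharacter C (fun c : C => φ ⟨(c : G), hCK.le c.2⟩) :=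
    IsCharacter.comp (IsIrrCharacter.isCharacter hφ) (Subgroup.inclusion hCK.le)
  have hφC' : (fun c : C => φ ⟨(c : G), hCK.le c.2⟩) = ((e : ℂ) / f) • θ := funext fun c => by
    have h2 := congrFun hχC c
    simp only [Pi.smul_apply, smul_eq_mul] at h2 ⊢
    rw [div_mul_eq_mul_div, eq_div_iff hf0, mul_comm, ← h2]
    exact (hχK' ⟨(c : G), hCK.le c.2⟩).symm
  obtain ⟨g, hg⟩ := IsCharacter.classInner_nat hφCc (IsIrrCharacter.isCharacter hθ)
  have hg' : (g : ℂ) = (e : ℂ) / f := by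
    rw [← hg, hφC', classInner_smul_left, classInner_irr_self hθ, mul_one]
  have hφC : ∀ c : C, φ ⟨(c : G), hCK.le c.2⟩ = (g : ℂ) * θ c := fun c => by
    rw [hg']; exact congrFun hφC' c
  have hgn : g * g = n := by
    let ε : C.subgroupOf K ≃* C := Subgroup.subgroupOfEquivOfLe hCK.le
    have h1 := norm_restrict_of_vanish hφ (C.subgroupOf K) fun k hk => hvan k fun h => hk h
    rw [show (fun x : C.subgroupOf K => φ x) = (g : ℂ) • (θ ∘ ε) from funext fun x => hφC (ε x),
      classInner_smul_self (IsIrrCharacter.comp_equiv hθ ε),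
      ← Subgroup.index_mul_card (C.subgroupOf K), ← Subgroup.relIndex, hnK, Nat.cast_mul,
      mul_comm (n : ℂ) (Nat.card (C.subgroupOf K) : ℂ)] at h1
    exact_mod_cast mul_left_cancel₀ CfsgLib.Char.card_ne_zero h1
  obtain ⟨M, hMn, hKM, -, hchiefM⟩ := exists_chief (lt_top_iff_ne_top.2 hKtop)
  obtain ⟨habM, q, b, hq, hqb⟩ := chief_solvable (hsolv K) hKM hchiefM
  have hdecM : ∀ m ∈ M, ∃ k ∈ K, ∃ j ∈ M ⊓ H, k * j = m := by
    intro m hm
    obtain ⟨k, hk, h, hh, rfl⟩ := Subgroup.mem_sup_of_normal_left.1 (hsupKH ▸ Subgroup.mem_top m)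
    exact ⟨k, hk, h, ⟨by simpa using M.mul_mem (M.inv_mem (hKM.le hk)) hm, hh⟩, rfl⟩
  have hCJ : C ≤ M ⊓ H := le_inf (hCK.le.trans hKM.le) hCH
  have hfinish : K ≤ Subgroup.normalizer ((M ⊓ H : Subgroup G) : Set G) → False := by
    intro hJn
    have hJnorm : (M ⊓ H).Normal := by
      rw [← Subgroup.normalizer_eq_top_iff, ← top_le_iff, ← hsupKH]
      refine sup_le hJn fun h hh => mem_normalizer_of_conj fun y hy => ?_
      exact ⟨hMn.conj_mem y hy.1 h, H.mul_mem (H.mul_mem hh hy.2) (H.inv_mem hh)⟩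
    have hJC : M ⊓ H ≤ C := (Subgroup.normal_le_normalCore).2 inf_le_right
    refine hKM.not_ge fun m hm => ?_
    obtain ⟨k, hk, j, hj, rfl⟩ := hdecM m hm
    exact K.mul_mem hk (hCK.le (hJC hj))
  have hcentral : (∀ j ∈ M ⊓ H, ∀ k ∈ K, ⁅j, k⁆ ∈ C) → False := fun h => hfinish fun k hk =>
    mem_normalizer_of_conj fun y hy => by
      rw [show k * y * k⁻¹ = ⁅k, y⁆ * y by simp [commutatorElement_def], ← commutatorElement_inv]
      exact (M ⊓ H).mul_mem (hCJ (C.inv_mem (h y hy k hk))) hy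
  by_cases hpq : q = p
  · subst hpq
    have := Fact.mk hq
    let π := QuotientGroup.mk' C
    have hcardM : Nat.card (M.map π) = q ^ (d + b) := by
      rw [← Subgroup.relIndex_ker, QuotientGroup.ker_mk',
        ← Subgroup.relIndex_mul_relIndex C K M hCK.le hKM.le, hpd, hqb, pow_add]
    haveI : Group.IsNilpotent (M.map π) := (IsPGroup.of_card hcardM).isNilpotent
    haveI : (K.map π).Normal := hKn.map π (QuotientGroup.mk'_surjective C)
    haveI : (M.map π).Normal := hMn.map π (QuotientGroup.mk'_surjective C)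
    have hKMle : K.map π ≤ M.map π := Subgroup.map_mono hKM.le
    have hne : (K.map π).subgroupOf (M.map π) ≠ ⊥ := fun h0 => by
      have h1 := Subgroup.map_subgroupOf_eq_of_le hKMle
      rw [h0, Subgroup.map_bot, eq_comm, Subgroup.map_eq_bot_iff, QuotientGroup.ker_mk'] at h1
      exact hCK.not_ge h1
    have h1 := CfsgLib.Solvable.FrattiniFitting.inf_center_ne_bot _ hne
    set Z := (K ⊓ (Subgroup.centralizer ((M.map π : Subgroup (G ⧸ C)) : Set (G ⧸ C))).comap π)
    have hZn : Z.Normal := inferInstance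
    rcases hchief Z hZn (le_inf hCK.le fun c hc => by
      rw [Subgroup.mem_comap, show π c = 1 from (QuotientGroup.eq_one_iff c).2 hc]
      exact one_mem _) inf_le_left with hZ | hZ
    · refine h1 (eq_bot_iff.2 fun x hx => ?_)
      obtain ⟨hxK, hxc⟩ := hx
      obtain ⟨k, hk, hke⟩ := (hxK : (x : G ⧸ C) ∈ K.map π)
      have hkZ : k ∈ Z := ⟨hk, Subgroup.mem_comap.2 (Subgroup.mem_centralizer_iff.2 fun y hy => by
        rw [hke]
        exact congrArg Subtype.val (Subgroup.mem_center_iff.1 hxc ⟨y, hy⟩))⟩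
      rw [hZ] at hkZ
      refine Subgroup.mem_bot.2 (Subtype.ext ?_)
      exact hke.symm.trans ((QuotientGroup.eq_one_iff k).2 hkZ)
    · refine hcentral fun y hy k hk => ?_
      have h2 : π y * π k = π k * π y :=
        Subgroup.mem_centralizer_iff.1 (Subgroup.mem_comap.1 (hZ.symm ▸ hk : k ∈ Z).2) _
          ⟨y, hy.1, rfl⟩
      rw [← QuotientGroup.eq_one_iff]
      show π ⁅y, k⁆ = 1
      rw [map_commutatorElement, commutatorElement_eq_one_iff_mul_comm, h2]
  have hJidx : C.relIndex (M ⊓ H) = q ^ b := by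
    have hKJ : K ⊔ (M ⊓ H) = M := le_antisymm (sup_le hKM.le inf_le_left) fun m hm => by
      obtain ⟨k, hk, j, hj, rfl⟩ := hdecM m hm
      exact Subgroup.mul_mem_sup hk hj
    have hCeq : C = K ⊓ (M ⊓ H) := by rw [← inf_assoc, inf_eq_left.2 hKM.le, hKC]
    rw [hCeq, Subgroup.inf_relIndex_right, ← hqb]
    conv_rhs => rw [← hKJ]
    exact (Subgroup.relIndex_sup_left (M ⊓ H) K).symm
  obtain ⟨_, π, hπi, hπc⟩ := id hχ
  obtain ⟨_, σ, hσi, hσc⟩ := id hφ
  obtain ⟨_, ρ, hρi, hρc⟩ := id hθ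
  obtain ⟨_, τ, hτi, hτc⟩ := id hϑ
  rcases CfsgLib.CharDeep.Imprimitive.induced_or_commutator_le π σ ρ τ hCK.le hCH hKC hsupKH
    (by rw [hπc, hτc, hind]) (f := f) (g := g) (a := a)
    (fun k => by rw [hπc, hσc]; exact hχK' k)
    (fun c => by
      show σ.character (Subgroup.inclusion hCK.le c) = _
      rw [hσc, hρc]; exact hφC c)
    (fun c => by
      show τ.character (Subgroup.inclusion hCH c) = _
      rw [hτc, hρc]; exact hϑC c)
    (fun k hk => by rw [hσc]; exact hvan k hk) hgn (J := M ⊓ H)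
    (fun h hh j => ⟨fun hj => ⟨hMn.conj_mem j hj.1 h, H.mul_mem (H.mul_mem hh hj.2) (H.inv_mem hh)⟩,
      fun hj => by
        have h1 := hMn.conj_mem _ hj.1 h⁻¹
        have h2 := H.mul_mem (H.mul_mem (H.inv_mem hh) hj.2) hh
        simp only [mul_assoc, inv_inv, inv_mul_cancel_left, inv_mul_cancel, mul_one] at h1 h2
        exact ⟨h1, h2⟩⟩)
    (fun i hi j hj => hKC ▸ ⟨habM (Subgroup.commutator_mem_commutator hi.1 hj.1),
      H.mul_mem (H.mul_mem (H.mul_mem hi.2 hj.2) (H.inv_mem hi.2)) (H.inv_mem hj.2)⟩)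
    (by
      rw [hJidx, ← hndef, ← hnK, hpd]
      exact ((Nat.coprime_primes hq hp).2 hpq).pow b d)
    with ⟨T, ψ', hKT, hT, hψ', hψe⟩ | hcomm
  · obtain ⟨H', hTH', hH'⟩ :=
      exists_coatom_induced hχ hT (IsIrrCharacter.isCharacter hψ') (hψe.trans hπc)
    have hK' : K ≤ H'.normalCore := (Subgroup.normal_le_normalCore (H := H') (N := K)).2 (hKT.trans hTH')
    exact hCK.not_ge (hK'.trans (hCmax ⟨H', rfl, hH'⟩ (hCK.le.trans hK')))
  · exact hcentral hcomm

end Cfsg.Agent.S0889
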