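import Cfsg.Statements.S0891
import Cfsg.Agent.Lib.Char.AltCover.Main

set_option autoImplicit false
open Cfsg

namespace Cfsg.Agent.S0891

/-- For every n ≥ 4 there are a finite group Γ and a central element z of Γ of order 2 lying in the commutator subgroup of Γ such that the quotient of Γ by the (normal) subgroup generated by z is isomorphic to the alternating group on n letters. -/
theorem result (n : ℕ) (hn : 4 ≤ n) : ∃ (Γ : Type) (_ : Group Γ) (_ : Finite Γ) (z : Γ) (hz : z ∈ Subgroup.center Γ), orderOf z = 2 ∧ z ∈ commutator Γ ∧ ∃ _ : (Subgroup.zpowers z).Normal, Nonempty (Γ ⧸ Subgroup.zpowers z ≃* alternatingGroup (Fin n)) := by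
  have hN : (Subgroup.zpowers (CfsgLib.AltCover.minusOne n)).Normal :=
    CfsgLib.AltCover.ker_proj (n := n) ▸ inferInstance
  refine ⟨CfsgLib.AltCover.cover n, inferInstance, CfsgLib.AltCover.finite_cover,
    CfsgLib.AltCover.minusOne n, CfsgLib.AltCover.minusOne_mem_center,
    CfsgLib.AltCover.orderOf_minusOne,
    CfsgLib.AltCover.minusOne_mem_commutator (i := ⟨0, by omega⟩) (j := ⟨1, by omega⟩)
      (k := ⟨2, by omega⟩) (l := ⟨3, by omega⟩) (by simp) (by simp) (by simp) (by simp) (by simp)
      (by simp), hN, ⟨?_⟩⟩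
  exact (QuotientGroup.quotientMulEquivOfEq CfsgLib.AltCover.ker_proj.symm).trans
    (QuotientGroup.quotientKerEquivOfSurjective _ CfsgLib.AltCover.proj_surjective)

end Cfsg.Agent.S0891
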