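import Cfsg.Statements.S0892
import Cfsg.Agent.Lib.Schur.AlternatingMain
-- import your own Cfsg.Agent.* helpers here

set_option autoImplicit false
open Cfsg CfsgLib.Schur.Alternating Subgroup Equiv

namespace Cfsg.Agent.S0892

set_option maxRecDepth 20000

universe v

variable {X : Type v} [Group X] [Finite X]

/-- Every central kernel element in the commutator subgroup lies in a subgroup of order two. -/
def Small {n : ℕ} (ξ : X →* alternatingGroup (Fin n)) : Prop :=
  ∃ W : Subgroup X, Nat.card W ≤ 2 ∧ ξ.ker ⊓ commutator X ≤ W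

theorem small_four (ξ : X →* alternatingGroup (Fin 4)) (hs : Function.Surjective ξ)
    (hk : ξ.ker ≤ center X) : Small ξ := by
  let a : alternatingGroup (Fin 4) := ⟨swap 0 1 * swap 2 3, by rw [Perm.mem_alternatingGroup]; decide +kernel⟩
  let b : alternatingGroup (Fin 4) := ⟨swap 0 2 * swap 1 3, by rw [Perm.mem_alternatingGroup]; decide +kernel⟩
  let c : alternatingGroup (Fin 4) := ⟨swap 0 1 * swap 1 2, by rw [Perm.mem_alternatingGroup]; decide +kernel⟩
  obtain ⟨W, hW, hW'⟩ := four_bound ξ hs hk a b (by decide +kernel) (by decide +kernel)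
  have hi : (closure ({a, b} : Set (alternatingGroup (Fin 4)))).index = 3 :=
    closure_index a b 2 2 1 4 3 le_rfl le_rfl (by decide +kernel) (by decide +kernel)
      (by decide +kernel) (by decide +kernel)
      (by rw [card_alt 4 (by norm_num)]; decide) (by norm_num)
  rw [hi] at hW'
  exact ⟨W, hW, fun z hz => mem_of_pow_mem (hW' z hz)
    (pow_eq_one_of_elt ξ hs hk (by norm_num) c 3 4 (by norm_num) (by decide +kernel) (by decide +kernel) (by decide +kernel) hz)
    (by norm_num)⟩

theorem small_five (ξ : X →* alternatingGroup (Fin 5)) (hs : Function.Surjective ξ)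
    (hk : ξ.ker ≤ center X) : Small ξ := by
  let a : alternatingGroup (Fin 5) := ⟨swap 0 1 * swap 2 3, by rw [Perm.mem_alternatingGroup]; decide +kernel⟩
  let b : alternatingGroup (Fin 5) := ⟨swap 0 2 * swap 1 3, by rw [Perm.mem_alternatingGroup]; decide +kernel⟩
  let c : alternatingGroup (Fin 5) := ⟨swap 0 1 * swap 1 2, by rw [Perm.mem_alternatingGroup]; decide +kernel⟩
  let c' : alternatingGroup (Fin 5) := ⟨swap 0 1 * swap 1 2 * swap 2 3 * swap 3 4, by rw [Perm.mem_alternatingGroup]; decide +kernel⟩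
  obtain ⟨W, hW, hW'⟩ := four_bound ξ hs hk a b (by decide +kernel) (by decide +kernel)
  have hi : (closure ({a, b} : Set (alternatingGroup (Fin 5)))).index = 15 :=
    closure_index a b 2 2 1 4 15 le_rfl le_rfl (by decide +kernel) (by decide +kernel)
      (by decide +kernel) (by decide +kernel)
      (by rw [card_alt 5 (by norm_num)]; decide) (by norm_num)
  rw [hi] at hW'
  refine ⟨W, hW, fun z hz => mem_of_pow_mem (hW' z hz) (m := 4) ?_ (by norm_num)⟩
  have h3 := pow_eq_one_of_elt ξ hs hk (by norm_num) c 3 20 (by norm_num) (by decide +kernel) (by decide +kernel)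
    (by decide +kernel) hz
  have h5 := pow_eq_one_of_elt ξ hs hk (by norm_num) c' 5 12 (by norm_num) (by decide +kernel) (by decide +kernel)
    (by decide +kernel) hz
  exact pow_gcd_eq_one.2 ⟨h3, h5⟩

theorem weak_seven (ξ : X →* alternatingGroup (Fin 7)) (hs : Function.Surjective ξ)
    (hk : ξ.ker ≤ center X) :
    ∃ W : Subgroup X, Nat.card W ≤ 2 ∧ ∀ z ∈ ξ.ker ⊓ commutator X, z ^ 315 ∈ W := by
  let a : alternatingGroup (Fin 7) := ⟨swap 0 1 * swap 1 2 * swap 2 3 * swap 4 5, by rw [Perm.mem_alternatingGroup]; decide +kernel⟩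
  let b : alternatingGroup (Fin 7) := ⟨swap 1 3 * swap 4 5, by rw [Perm.mem_alternatingGroup]; decide +kernel⟩
  obtain ⟨W, hW, hW'⟩ := eight_bound ξ hs hk a b
    ((orderOf_eq_iff (by norm_num)).2 (by decide +kernel)) (by decide +kernel)
  have hi : (closure ({a, b} : Set (alternatingGroup (Fin 7)))).index = 315 :=
    closure_index a b 4 2 3 8 315 (by norm_num) le_rfl (by decide +kernel) (by decide +kernel)
      (by decide +kernel) (by decide +kernel)
      (by rw [card_alt 7 (by norm_num)]; decide) (by norm_num)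
  rw [hi] at hW'
  exact ⟨W, hW, hW'⟩

theorem small_eight (ξ : X →* alternatingGroup (Fin 8)) (hs : Function.Surjective ξ)
    (hk : ξ.ker ≤ center X) : Small ξ := by
  obtain ⟨Y, η, hηs, hηk, hle⟩ := exists_smaller ξ (m := 7) rfl (by norm_num) hs hk
  obtain ⟨W, hW, hW'⟩ := weak_seven η hηs hηk
  refine ⟨W.map Y.subtype, ?_, fun z hz => ?_⟩
  · rwa [← Nat.card_congr (W.equivMapOfInjective Y.subtype Y.subtype_injective).toEquiv]
  obtain ⟨y, hy, rfl⟩ := hle hz
  let a : alternatingGroup (Fin 8) := ⟨swap 0 1 * swap 1 2, by rw [Perm.mem_alternatingGroup]; decide +kernel⟩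
  let b : alternatingGroup (Fin 8) := ⟨swap 3 4 * swap 4 5, by rw [Perm.mem_alternatingGroup]; decide +kernel⟩
  let g : alternatingGroup (Fin 8) := ⟨swap 0 1 * swap 6 7, by rw [Perm.mem_alternatingGroup]; decide +kernel⟩
  let c : alternatingGroup (Fin 8) := ⟨swap 0 1 * swap 1 2 * swap 2 3 * swap 3 4, by rw [Perm.mem_alternatingGroup]; decide +kernel⟩
  let c' : alternatingGroup (Fin 8) :=
    ⟨swap 0 1 * swap 1 2 * swap 2 3 * swap 3 4 * swap 4 5 * swap 5 6, by rw [Perm.mem_alternatingGroup]; decide +kernel⟩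
  have hi : (closure ({a, b} : Set (alternatingGroup (Fin 8)))).index = 2240 :=
    closure_index a b 3 3 1 9 2240 (by norm_num) (by norm_num) (by decide +kernel) (by decide +kernel)
      (by decide +kernel) (by decide +kernel)
      (by rw [card_alt 8 (by norm_num)]; decide) (by norm_num)
  have h9 := nine_bound ξ hs hk a b g (by decide +kernel) (by decide +kernel) (by decide +kernel) (by decide +kernel) _ hz
  rw [hi] at h9
  have h5 := pow_eq_one_of_elt ξ hs hk (by norm_num) c 5 4032 (by norm_num) (by decide +kernel) (by decide +kernel)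
    (by decide +kernel) hz
  have h7 := pow_eq_one_of_elt ξ hs hk (by norm_num) c' 7 2880 (by norm_num) (by decide +kernel) (by decide +kernel)
    (by decide +kernel) hz
  have h := pow_gcd_eq_one.2 ⟨pow_gcd_eq_one.2 ⟨h9, h5⟩, h7⟩
  refine mem_of_pow_mem (k := 315) (m := 64) ?_ h (by norm_num)
  exact ⟨y ^ 315, hW' y hy, map_pow _ _ _⟩


/-- Let n ≥ 4 with n ≠ 6 and n ≠ 7, and let Γ be a finite group with a subgroup Z contained in both the centre and the commutator subgroup of Γ such that Γ / Z is isomorphic to the alternating group on n letters. Then Z has order at most 2. -/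
theorem result (n : ℕ) (hn : 4 ≤ n) (h6 : n ≠ 6) (h7 : n ≠ 7) {Γ : Type*} [Group Γ] [Finite Γ] (Z : Subgroup Γ) [Z.Normal] (hZc : Z ≤ Subgroup.center Γ) (hZd : Z ≤ commutator Γ) (e : Γ ⧸ Z ≃* alternatingGroup (Fin n)) : Nat.card Z ≤ 2 := by
  classical
  let ξ : Γ →* alternatingGroup (Fin n) := e.toMonoidHom.comp (QuotientGroup.mk' Z)
  have hker : ξ.ker = Z := by
    ext x
    show e (QuotientGroup.mk' Z x) = 1 ↔ _
    rw [MulEquiv.map_eq_one_iff, QuotientGroup.mk'_apply, QuotientGroup.eq_one_iff]
  have key : ∀ m : ℕ, 8 ≤ m → ∀ (X : Type _) [Group X] [Finite X]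
      (η : X →* alternatingGroup (Fin m)), Function.Surjective η → η.ker ≤ center X → Small η := by
    intro m hm
    induction m, hm using Nat.le_induction with
    | base => exact fun X _ _ η h1 h2 => small_eight η h1 h2
    | succ m hm ih =>
      intro X _ _ η h1 h2
      obtain ⟨Y, θ, hθs, hθk, hle⟩ := exists_smaller η (m := m) rfl (by omega) h1 h2
      obtain ⟨W, hW, hW'⟩ := ih Y θ hθs hθk
      refine ⟨W.map Y.subtype, ?_, hle.trans (map_mono hW')⟩
      rwa [← Nat.card_congr (W.equivMapOfInjective Y.subtype Y.subtype_injective).toEquiv]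
  have hξs : Function.Surjective ξ := e.surjective.comp (QuotientGroup.mk'_surjective Z)
  have hξk : ξ.ker ≤ center Γ := by rw [hker]; exact hZc
  obtain ⟨W, hW, hW'⟩ : Small ξ := by
    rcases (by omega : n = 4 ∨ n = 5 ∨ 8 ≤ n) with h | h | h
    · subst h; exact small_four ξ hξs hξk
    · subst h; exact small_five ξ hξs hξk
    · exact key n h Γ ξ hξs hξk
  have hle : Z ≤ W := fun z hz => hW' ⟨by rw [hker]; exact hz, hZd hz⟩
  exact (Nat.card_le_card_of_injective (inclusion hle) (inclusion_injective hle)).trans hW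

end Cfsg.Agent.S0892
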