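import Cfsg.Statements.S0893
import Cfsg.Agent.Lib.CharDeep.CentralTrick

set_option autoImplicit false
open Cfsg
open scoped ComplexConjugate
open CfsgLib CfsgLib.CharDeep

namespace Cfsg.Agent.S0893

theorem exists_translate {P : Type*} [Group P] (p : ℕ) (hP : Cfsg.IsExtraspecial p P) {x : P}
    (hx : x ∉ Subgroup.center P) :
    ∃ y z, z ∈ Subgroup.center P ∧ z ≠ 1 ∧ y * x * y⁻¹ = x * z := by
  obtain ⟨y, hy⟩ : ∃ y, y * x ≠ x * y := by
    by_contra h
    push Not at h
    exact hx (Subgroup.mem_center_iff.2 h)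
  refine ⟨y, x⁻¹ * (y * x * y⁻¹), ?_, fun h => hy ?_, by group⟩
  · rw [← hP.1.2.2]
    have h1 := Subgroup.commutator_mem_commutator (Subgroup.mem_top x⁻¹) (Subgroup.mem_top y)
    rw [commutatorElement_def, inv_inv] at h1
    rw [commutator_def, show x⁻¹ * (y * x * y⁻¹) = x⁻¹ * y * x * y⁻¹ by group]
    exact h1
  · rwa [inv_mul_eq_one, eq_mul_inv_iff_mul_eq, eq_comm] at h

theorem zpowers_eq_center {P : Type*} [Group P] [Finite P] (p : ℕ) [Fact p.Prime]
    (hP : Cfsg.IsExtraspecial p P) {z : P} (hz : z ∈ Subgroup.center P) (hz1 : z ≠ 1) :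
    Subgroup.zpowers z = Subgroup.center P := by
  refine Subgroup.eq_of_le_of_card_ge (Subgroup.zpowers_le.2 hz) ?_
  have h := Subgroup.card_dvd_of_le (Subgroup.zpowers_le.2 hz)
  rw [hP.2] at h ⊢
  rcases (Nat.dvd_prime Fact.out).1 h with h1 | h1
  · exact absurd (Subgroup.zpowers_eq_bot.1 (Subgroup.card_eq_one.1 h1)) hz1
  · rw [h1]


/-- Let P be an extraspecial p-group of order p ^ (2 * n + 1), A an abelian subgroup of order p ^ (n + 1), and λ a character of A of degree 1 that is not identically 1 on the elements of A lying in the centre of P. Then the function induced from λ to P is an irreducible character of P and vanishes at every element outside the centre. -/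
theorem result {P : Type*} [Group P] [Fintype P] (p n : ℕ) [Fact p.Prime] (hP : Cfsg.IsExtraspecial p P) (hcard : Nat.card P = p ^ (2 * n + 1)) (A : Subgroup P) (hab : ∀ a ∈ A, ∀ b ∈ A, a * b = b * a) (hA : Nat.card A = p ^ (n + 1)) (lam : A → ℂ) (hlam : Cfsg.IsCharacter A lam ∧ lam 1 = 1) (hZ : ∃ a : A, (a : P) ∈ Subgroup.center P ∧ lam a ≠ 1) : Cfsg.IsIrrCharacter P (Cfsg.indFun A lam) ∧ ∀ x : P, x ∉ Subgroup.center P → Cfsg.indFun A lam x = 0 := by
  classical
  obtain ⟨a, haZ, ha1⟩ := hZ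
  obtain ⟨f, hf⟩ := IrrTools.exists_hom_of_degree_one hlam.1 hlam.2
  have ha0 : (a : P) ≠ 1 := fun h => ha1 (by
    rw [show a = 1 from Subtype.ext h]; exact hlam.2)
  have hZeq := zpowers_eq_center p hP haZ ha0
  have hZA : Subgroup.center P ≤ A := hZeq ▸ Subgroup.zpowers_le.2 a.2
  have htrans : ∀ (z : P) (hz : z ∈ Subgroup.center P) (x : P),
      Cfsg.indFun A lam (x * z) = lam ⟨z, hZA hz⟩ * Cfsg.indFun A lam x := by
    intro z hz x
    rw [Char.indFun_def, Char.indFun_def, Finset.mul_sum, Finset.mul_sum, Finset.mul_sum]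
    refine Finset.sum_congr rfl fun g _ => ?_
    have hx : g⁻¹ * (x * z) * g = g⁻¹ * x * g * z := by
      rw [mul_assoc _ (x * z) g, mul_assoc x z g, ← Subgroup.mem_center_iff.1 hz g]
      simp [mul_assoc]
    rw [hx]
    by_cases hm : g⁻¹ * x * g ∈ A
    · rw [Char.extendByZero_apply_mem A _ (A.mul_mem hm (hZA hz)),
        Char.extendByZero_apply_mem A _ hm, hf, hf, hf,
        show (⟨g⁻¹ * x * g * z, A.mul_mem hm (hZA hz)⟩ : A) = ⟨_, hm⟩ * ⟨z, hZA hz⟩ from rfl,
        map_mul, Units.val_mul]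
      ring
    · rw [Char.extendByZero_apply_notMem A _ hm,
        Char.extendByZero_apply_notMem A _ fun h => hm ((A.mul_mem_cancel_right (hZA hz)).1 h)]
      simp
  have hne : ∀ (z : P) (hz : z ∈ Subgroup.center P), z ≠ 1 → lam ⟨z, hZA hz⟩ ≠ 1 := by
    intro z hz hz1 h
    have ha : (a : P) ∈ Subgroup.zpowers z := (zpowers_eq_center p hP hz hz1).symm ▸ haZ
    obtain ⟨i, hi⟩ := Subgroup.mem_zpowers_iff.1 ha
    refine ha1 ?_
    rw [hf] at h ⊢
    rw [show a = (⟨z, hZA hz⟩ : A) ^ i from Subtype.ext (by simpa using hi.symm), map_zpow,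
      Units.val_eq_one.1 h, one_zpow, Units.val_one]
  have hv : ∀ x : P, x ∉ Subgroup.center P → Cfsg.indFun A lam x = 0 := by
    intro x hx
    obtain ⟨y, z, hz, hz1, hyx⟩ := exists_translate p hP hx
    exact CentralTrick.eq_zero_of_conj_translate (Char.indFun_isClassFunction A lam) hyx
      (htrans z hz x) (hne z hz hz1)
  refine ⟨?_, hv⟩
  have hidx : A.index = p ^ n := by
    have h := Subgroup.card_mul_index A
    rw [hA, hcard, show p ^ (2 * n + 1) = p ^ (n + 1) * p ^ n by ring] at h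
    exact Nat.eq_of_mul_eq_mul_left (pow_pos (Nat.Prime.pos Fact.out) _) h
  refine Char.IsCharacter.isIrrCharacter_of_norm_one (Char.IsCharacter.indFun A hlam.1) ?_
  rw [Cfsg.classInner, ← Finset.sum_filter_of_ne (p := fun x => x ∈ Subgroup.center P)
    (fun x _ hx => by_contra fun h => hx (by rw [hv x h, zero_mul]))]
  have hterm : ∀ x ∈ Finset.univ.filter (fun x => x ∈ Subgroup.center P),
      Cfsg.indFun A lam x * conj (Cfsg.indFun A lam x) = ((p : ℂ) ^ n) ^ 2 := by
    intro x hx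
    have hx' := (Finset.mem_filter.1 hx).2
    rw [show x = 1 * x from (one_mul x).symm, htrans x hx', Char.indFun_one, hlam.2, hidx, hf,
      map_mul, mul_mul_mul_comm, Complex.mul_conj, Complex.normSq_eq_norm_sq,
      Char.norm_eq_one_of_pow_orderOf (g := (⟨x, hZA hx'⟩ : A))
        (by rw [← Units.val_pow_eq_pow_val, ← map_pow, pow_orderOf_eq_one, map_one, Units.val_one])]
    simp [sq]
  rw [Finset.sum_congr rfl hterm, Finset.sum_const, ← Fintype.card_subtype,
    ← Nat.card_eq_fintype_card, hP.2, hcard, nsmul_eq_mul]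
  have : (p : ℂ) ≠ 0 := Nat.cast_ne_zero.2 (Nat.Prime.ne_zero Fact.out)
  push_cast
  field_simp
  ring

end Cfsg.Agent.S0893
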