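import Cfsg.Statements.S0894
import Cfsg.Agent.Lib.CharDeep.CentralTrick

set_option autoImplicit false
open Cfsg
open scoped ComplexConjugate
open CfsgLib CfsgLib.CharDeep

namespace Cfsg.Agent.S0894

theorem exists_translate {P : Type*} [Group P] (p : ℕ) (hP : Cfsg.IsExtraspecial p P) {x : P}
    (hx : x ∉ Subgroup.center P) :
    ∃ y z, z ∈ Subgroup.center P ∧ z ≠ 1 ∧ y * x * y⁻¹ = x * z := by
  obtain ⟨y, hy⟩ : ∃ y, y * x ≠ x * y := by
    by_contra h
    push Not at h
    exact hx (Subgroup.mem_center_iff.2 h)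
  refine ⟨y, x⁻¹ * (y * x * y⁻¹), ?_, fun h => hy ?_, by group⟩
  · rw [← hP.1.2.2]
    have h1 := Subgroup.commutator_mem_commutator (Subgroup.mem_top x⁻¹) (Subgroup.mem_top y)
    rw [commutatorElement_def, inv_inv] at h1
    rw [commutator_def, show x⁻¹ * (y * x * y⁻¹) = x⁻¹ * y * x * y⁻¹ by group]
    exact h1
  · rwa [inv_mul_eq_one, eq_mul_inv_iff_mul_eq, eq_comm] at h

theorem zpowers_eq_center {P : Type*} [Group P] [Finite P] (p : ℕ) [Fact p.Prime]
    (hP : Cfsg.IsExtraspecial p P) {z : P} (hz : z ∈ Subgroup.center P) (hz1 : z ≠ 1) :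
    Subgroup.zpowers z = Subgroup.center P := by
  refine Subgroup.eq_of_le_of_card_ge (Subgroup.zpowers_le.2 hz) ?_
  have h := Subgroup.card_dvd_of_le (Subgroup.zpowers_le.2 hz)
  rw [hP.2] at h ⊢
  rcases (Nat.dvd_prime Fact.out).1 h with h1 | h1
  · exact absurd (Subgroup.zpowers_eq_bot.1 (Subgroup.card_eq_one.1 h1)) hz1
  · rw [h1]


/-- Let P be an extraspecial p-group of order p ^ (2 * n + 1). Then every irreducible character of P has degree 1 or p ^ n, and exactly p - 1 of them have degree p ^ n. -/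
theorem result {P : Type*} [Group P] [Finite P] (p n : ℕ) [Fact p.Prime] (hP : Cfsg.IsExtraspecial p P) (hcard : Nat.card P = p ^ (2 * n + 1)) : (∀ χ : Cfsg.IrrCharacter P, (χ : P → ℂ) 1 = 1 ∨ (χ : P → ℂ) 1 = (p : ℂ) ^ n) ∧ Nat.card {χ : Cfsg.IrrCharacter P // (χ : P → ℂ) 1 = (p : ℂ) ^ n} = p - 1 := by
  classical
  haveI := Fintype.ofFinite P
  have hp : p.Prime := Fact.out
  have hp0 : (p : ℂ) ≠ 0 := Nat.cast_ne_zero.2 hp.ne_zero
  have hn : n ≠ 0 := by
    rintro rfl
    have htop : Subgroup.center P = ⊤ :=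
      Subgroup.eq_top_of_card_eq _ (by rw [hP.2, hcard]; simp)
    have hab : commutator P = ⊥ := by
      rw [commutator_def, Subgroup.commutator_eq_bot_iff_le_centralizer, Subgroup.coe_top,
        Subgroup.centralizer_univ, htop]
    have := hP.2
    rw [← hP.1.2.2, hab, Subgroup.card_bot] at this
    exact hp.ne_one this.symm
  have key : ∀ χ : Cfsg.IrrCharacter P, (χ : P → ℂ) 1 = 1 ∨
      (χ : P → ℂ) 1 = (p : ℂ) ^ n ∧ (χ : P → ℂ) 1 ≠ 1 := by
    intro χ
    obtain ⟨d, hd, hd1⟩ := Char.IsIrrCharacter.apply_one_eq χ.2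
    by_cases hker : ∀ z ∈ Subgroup.center P, (χ : P → ℂ) z = (χ : P → ℂ) 1
    · left
      obtain ⟨m, ρ, hρ, hχ⟩ := χ.2
      have : ρ.IsIrreducible := hρ
      have hone : ∀ z ∈ Subgroup.center P, ρ z = 1 := fun z hz => by
        have h := hker z hz
        rw [← hχ, Representation.char_one] at h
        exact (Char.char_eq_finrank_iff ρ z).1 h
      have hcomm : ∀ g h : P, ρ g * ρ h = ρ h * ρ g := fun g h => by
        have hc : h⁻¹ * g⁻¹ * h * g ∈ Subgroup.center P := by
          rw [← hP.1.2.2, commutator_def]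
          have h1 := Subgroup.commutator_mem_commutator (Subgroup.mem_top h⁻¹)
            (Subgroup.mem_top g⁻¹)
          rwa [commutatorElement_def, inv_inv, inv_inv] at h1
        calc ρ g * ρ h = ρ (g * h * (h⁻¹ * g⁻¹ * h * g)) := by
              rw [map_mul _ (g * h), hone _ hc, mul_one, map_mul]
          _ = ρ h * ρ g := by rw [← map_mul]; congr 1; group
      have hscal : ∀ g, ∃ c : ℂ, ρ g = c • 1 := fun g =>
        IrrTools.exists_smul_of_commute ρ (ρ g) fun h => hcomm g h
      have : Nontrivial (Fin m → ℂ) := IrrTools.apply_ne_zero_of_isIrreducible ρ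
      have hm : m = 1 := by
        obtain ⟨v, hv⟩ := exists_ne (0 : Fin m → ℂ)
        have hU := IrrTools.eq_bot_or_top_of_invariant ρ (ℂ ∙ v) fun g u hu => by
          obtain ⟨c, hc⟩ := hscal g
          rw [hc]; exact Submodule.smul_mem _ c hu
        rcases hU with h | h
        · exact absurd (Submodule.span_singleton_eq_bot.1 h) hv
        · have := finrank_span_singleton (K := ℂ) hv
          rw [h, finrank_top, Module.finrank_fin_fun] at this
          exact this
      rw [← hχ, Representation.char_one, Module.finrank_fin_fun, hm, Nat.cast_one]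
    · right
      push Not at hker
      obtain ⟨z₀, hz₀, hz₀'⟩ := hker
      have hsc : ∀ z ∈ Subgroup.center P, z ≠ 1 → ∃ c : ℂ,
          (∀ x, (χ : P → ℂ) (x * z) = c * (χ : P → ℂ) x) ∧ c ≠ 1 := by
        intro z hz hz1
        obtain ⟨c, hc, hc'⟩ := CentralTrick.exists_scalar_center χ.2 hz
        refine ⟨c, hc, fun h => hz₀' ?_⟩
        have hz0 : z₀ ∈ Subgroup.zpowers z := (zpowers_eq_center p hP hz hz1).symm ▸ hz₀
        have hK : z ∈ Char.charKer (Char.isCharacter_irr χ) := hc' h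
        exact (Subgroup.zpowers_le.2 hK) hz0
      have hv : ∀ x : P, x ∉ Subgroup.center P → (χ : P → ℂ) x = 0 := by
        intro x hx
        obtain ⟨y, z, hz, hz1, hyx⟩ := exists_translate p hP hx
        obtain ⟨c, hc, hc1⟩ := hsc z hz hz1
        exact CentralTrick.eq_zero_of_conj_translate (Char.IsIrrCharacter.isClassFunction χ.2) hyx
          (hc x) hc1
      have hnorm := Char.classInner_irr_self χ.2
      rw [Cfsg.classInner, ← Finset.sum_filter_of_ne (p := fun x => x ∈ Subgroup.center P)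
        (fun x _ hx => by_contra fun h => hx (by rw [hv x h, zero_mul]))] at hnorm
      have hterm : ∀ x ∈ Finset.univ.filter (fun x => x ∈ Subgroup.center P),
          (χ : P → ℂ) x * conj ((χ : P → ℂ) x) = (d : ℂ) ^ 2 := by
        intro x hx
        have hx' := (Finset.mem_filter.1 hx).2
        obtain ⟨m, ρ, hρ, hχ⟩ := χ.2
        have : ρ.IsIrreducible := hρ
        obtain ⟨c, hc⟩ := IrrTools.exists_smul_of_commute ρ (ρ x) fun g => by
          rw [← map_mul, ← map_mul, Subgroup.mem_center_iff.1 hx' g]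
        have h1 : (χ : P → ℂ) x = c * d := by
          rw [← hd1, ← hχ]
          show LinearMap.trace ℂ _ (ρ x) = c * LinearMap.trace ℂ _ (ρ 1)
          rw [hc, map_smul, smul_eq_mul, map_one ρ]
        have : Nontrivial (Fin m → ℂ) := IrrTools.apply_ne_zero_of_isIrreducible ρ
        have h2 : ∀ k : ℕ, ρ (x ^ k) = c ^ k • (1 : Module.End ℂ (Fin m → ℂ)) := fun k => by
          rw [map_pow, hc, smul_pow, one_pow]
        have hcn : c ^ orderOf x = 1 := by
          have h3 := h2 (orderOf x)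
          rw [pow_orderOf_eq_one, map_one] at h3
          exact smul_left_injective ℂ (one_ne_zero (α := Module.End ℂ (Fin m → ℂ)))
            (h3.symm.trans (one_smul ℂ _).symm)
        rw [h1, map_mul, map_natCast, mul_mul_mul_comm, Complex.mul_conj,
          Complex.normSq_eq_norm_sq, Char.norm_eq_one_of_pow_orderOf hcn]
        simp [sq]
      rw [Finset.sum_congr rfl hterm, Finset.sum_const, ← Fintype.card_subtype,
        ← Nat.card_eq_fintype_card, hP.2, nsmul_eq_mul, hcard,
        inv_mul_eq_one₀ (Nat.cast_ne_zero.2 (pow_ne_zero _ hp.ne_zero))] at hnorm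
      have h2 : p ^ (2 * n + 1) = p * d ^ 2 := by exact_mod_cast hnorm
      rw [show p ^ (2 * n + 1) = p * (p ^ n) ^ 2 by ring] at h2
      have h3 := Nat.pow_left_injective two_ne_zero (Nat.eq_of_mul_eq_mul_left hp.pos h2)
      have h4 : p ^ n ≠ 1 := (Nat.one_lt_pow hn hp.one_lt).ne'
      rw [hd1]
      exact ⟨by rw [← h3, Nat.cast_pow], by rw [← h3]; exact_mod_cast h4⟩
  refine ⟨fun χ => (key χ).imp_right And.left, ?_⟩
  have hlin := Char.card_linear (G := P)
  rw [hP.1.2.2] at hlin
  have hidx : (Subgroup.center P).index = p ^ (2 * n) := by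
    have h := Subgroup.card_mul_index (Subgroup.center P)
    rw [hP.2, hcard, show p ^ (2 * n + 1) = p * p ^ (2 * n) by ring] at h
    exact Nat.eq_of_mul_eq_mul_left hp.pos h
  have hsum := Char.sum_sq_apply_one (G := P)
  have hterm : ∀ χ : Cfsg.IrrCharacter P, (χ : P → ℂ) 1 ^ 2 =
      (if (χ : P → ℂ) 1 = 1 then (1 : ℂ) else 0) +
      (if (χ : P → ℂ) 1 = (p : ℂ) ^ n then ((p : ℂ) ^ n) ^ 2 else 0) := by
    intro χ
    rcases key χ with h | ⟨h, h'⟩
    · have : (1 : ℂ) ≠ (p : ℂ) ^ n := by exact_mod_cast (Nat.one_lt_pow hn hp.one_lt).ne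
      rw [h, if_pos rfl, if_neg this]; simp
    · rw [if_neg h', if_pos h, h, zero_add]
  rw [Finset.sum_congr rfl fun χ _ => hterm χ, Finset.sum_add_distrib, Finset.sum_boole,
    ← Finset.sum_filter, Finset.sum_const, ← Fintype.card_subtype, ← Nat.card_eq_fintype_card,
    hlin, hidx, hcard, nsmul_eq_mul, ← Fintype.card_subtype, ← Nat.card_eq_fintype_card] at hsum
  have h2 : p ^ (2 * n) + Nat.card {χ : Cfsg.IrrCharacter P // (χ : P → ℂ) 1 = (p : ℂ) ^ n} *
      (p ^ n) ^ 2 = p ^ (2 * n + 1) := by exact_mod_cast hsum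
  set k := Nat.card {χ : Cfsg.IrrCharacter P // (χ : P → ℂ) 1 = (p : ℂ) ^ n}
  rw [show (p ^ n) ^ 2 = p ^ (2 * n) by ring, show p ^ (2 * n + 1) = p * p ^ (2 * n) by ring,
    show p ^ (2 * n) + k * p ^ (2 * n) = (1 + k) * p ^ (2 * n) by ring] at h2
  have := Nat.eq_of_mul_eq_mul_right (pow_pos hp.pos _) h2
  omega

end Cfsg.Agent.S0894
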