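import Cfsg.Statements.S0895
import Cfsg.Agent.Lib.Char.FS
import Cfsg.Agent.Lib.CharDeep.IrrTools
import Mathlib.LinearAlgebra.Matrix.ToLinearEquiv

set_option autoImplicit false
open Cfsg
open CfsgLib CfsgLib.CharDeep

namespace Cfsg.Agent.S0895

/-- Let χ be a real-valued irreducible character of a finite group G whose degree is an odd natural number. Then the average over s in G of χ (s * s) equals 1. -/
theorem result {G : Type*} [Group G] [Fintype G] (χ : G → ℂ) (hχ : Cfsg.IsIrrCharacter G χ) (hreal : ∀ g : G, (χ g).im = 0) (d : ℕ) (hd : χ 1 = d) (hodd : Odd d) : (Nat.card G : ℂ)⁻¹ * ∑ s : G, χ (s * s) = 1 := by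
  classical
  obtain ⟨n, ρ, hρ, hχρ⟩ := hχ
  have : ρ.IsIrreducible := hρ
  have hn : n = d := by
    have h := hd
    rw [← hχρ, Representation.char_one, Module.finrank_fin_fun] at h
    exact_mod_cast h
  let M : G →* Matrix (Fin n) (Fin n) ℂ :=
    { toFun := fun g => LinearMap.toMatrix' (ρ g)
      map_one' := by rw [map_one]; exact LinearMap.toMatrix'_one
      map_mul' := fun g h => by rw [map_mul]; exact LinearMap.toMatrix'_mul _ _ }
  have hM : ∀ g, (M g).trace = χ g := fun g => by
    rw [← congrFun hχρ g]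
    show (LinearMap.toMatrix' (ρ g)).trace = LinearMap.trace ℂ _ (ρ g)
    rw [LinearMap.trace_eq_matrix_trace ℂ (Pi.basisFun ℂ (Fin n)), LinearMap.toMatrix_eq_toMatrix']
  have hinj : ∀ h : G, Function.Injective fun x => (M h).mulVec x := fun h x y hxy => by
    have := congrArg (fun z => (M h⁻¹).mulVec z) hxy
    simpa [Matrix.mulVec_mulVec, ← map_mul] using this
  by_contra hne
  let τ : G → Module.End ℂ (Matrix (Fin n) (Fin n) ℂ) := fun g =>
    (LinearMap.mulLeft ℂ (M g).transpose).comp (LinearMap.mulRight ℂ (M g))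
  let T : Module.End ℂ (Matrix (Fin n) (Fin n) ℂ) :=
    (Matrix.transposeLinearEquiv (Fin n) (Fin n) ℂ ℂ).toLinearMap
  let F : Module.End ℂ (Matrix (Fin n) (Fin n) ℂ) := ∑ g : G, (τ g - τ g * T)
  have hnorm : ∑ g : G, χ g * χ g = (Nat.card G : ℂ) := by
    have h := Char.classInner_irr_self (G := G) ⟨n, ρ, hρ, hχρ⟩
    rw [Cfsg.classInner, inv_mul_eq_one₀ Char.card_ne_zero] at h
    rw [h]
    exact Finset.sum_congr rfl fun g _ => by rw [Complex.conj_eq_iff_im.2 (hreal g)]
  have hF : LinearMap.trace ℂ _ F ≠ 0 := by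
    intro h0
    refine hne ?_
    simp only [F, map_sum, map_sub] at h0
    rw [Finset.sum_congr rfl fun g _ => by
      rw [show LinearMap.trace ℂ _ (τ g) = (M g).trace * (M g).trace from
          Char.trace_transpose_mul_mul _,
        show LinearMap.trace ℂ _ (τ g * T) = (M g * M g).trace from Char.trace_swap_mul_mul _,
        hM, ← map_mul, hM],
      Finset.sum_sub_distrib, hnorm, sub_eq_zero] at h0
    rw [← h0, inv_mul_cancel₀ Char.card_ne_zero]
  obtain ⟨X, hX⟩ : ∃ X, F X ≠ 0 := by
    by_contra h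
    push Not at h
    exact hF (by rw [show F = 0 from LinearMap.ext h, map_zero])
  set v := F X with hv
  have hvdef : v = ∑ g : G, (M g).transpose * (X - X.transpose) * M g := by
    simp [hv, F, τ, T, mul_sub, sub_mul, mul_assoc]
  have hskew : v.transpose = -v := by
    rw [hvdef, Matrix.transpose_sum, ← Finset.sum_neg_distrib]
    refine Finset.sum_congr rfl fun g _ => ?_
    simp [Matrix.transpose_mul, Matrix.transpose_sub, mul_sub, sub_mul, mul_assoc]
  have hinv : ∀ h : G, (M h).transpose * v * M h = v := by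
    intro h
    rw [hvdef, Finset.mul_sum, Finset.sum_mul]
    exact Fintype.sum_equiv (Equiv.mulRight h) _ _ fun g => by
      simp [Matrix.transpose_mul, mul_assoc]
  have hdet : v.det = 0 := by
    have h1 := congrArg Matrix.det hskew
    rw [Matrix.det_transpose, Matrix.det_neg, Fintype.card_fin, (show Odd n by rw [hn]; exact hodd).neg_one_pow] at h1
    linear_combination h1 / 2
  obtain ⟨x, hx0, hx⟩ := Matrix.exists_mulVec_eq_zero_iff.2 hdet
  rcases IrrTools.eq_bot_or_top_of_invariant ρ (LinearMap.ker (Matrix.toLin' v)) (fun g u hu => by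
    rw [LinearMap.mem_ker, Matrix.toLin'_apply] at hu ⊢
    rw [← LinearMap.toMatrix'_mulVec]
    refine hinj g⁻¹ ?_
    show (M g⁻¹).mulVec (v.mulVec ((M g).mulVec u)) = (M g⁻¹).mulVec 0
    have h1 : (M g).transpose.mulVec (v.mulVec ((M g).mulVec u)) = 0 := by
      rw [Matrix.mulVec_mulVec, Matrix.mulVec_mulVec, hinv g]
      exact hu
    have h2 := congrArg (fun z => (M g⁻¹).transpose.mulVec z) h1
    rw [Matrix.mulVec_mulVec, ← Matrix.transpose_mul, ← map_mul, mul_inv_cancel, map_one,
      Matrix.transpose_one, Matrix.one_mulVec, Matrix.mulVec_zero] at h2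
    rw [h2]) with h | h
  · exact hx0 ((Submodule.eq_bot_iff _).1 h x (by rw [LinearMap.mem_ker, Matrix.toLin'_apply, hx]))
  · exact hX (Matrix.toLin'.map_eq_zero_iff.1 (LinearMap.ker_eq_top.1 h))

end Cfsg.Agent.S0895
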