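import Cfsg.Statements.S0896
import Cfsg.Agent.Lib.CharDeep.Brauer
import Cfsg.Agent.Lib.Blocks.BrauerMap
import Cfsg.Agent.Lib.Blocks.Eigen

set_option autoImplicit false
open scoped ComplexConjugate
open Cfsg
open CfsgLib CfsgLib.CharDeep CfsgLib.Blocks

namespace Cfsg.Agent.S0896

theorem memLocalIdeal_inner {p : ℕ} {M : Ideal Cfsg.AlgInt} (hM : Cfsg.IsPModular p M)
    {E : Type*} [Group E] {K : Type*} [Group K] [Fintype K] (σ : E →* MulAut K)
    (z : E) (hz : σ z = 1) (hzc : z ∈ Subgroup.center E) (hidx : ∃ k, (Subgroup.zpowers z).index = p ^ k)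
    {θ η : K → ℂ} (hθ : Cfsg.IsCharacter K θ) (hη : Cfsg.IsCharacter K η)
    (hθi : ∀ (g : E) (x : K), θ (σ g x) = θ x) (hηi : ∀ (g : E) (x : K), η (σ g x) = η x)
    (hdiv : ∀ ψ : Cfsg.IrrCharacter K, (∀ (g : E) (x : K), (ψ : K → ℂ) (σ g x) = (ψ : K → ℂ) x) →
      Cfsg.MemLocalIdeal M (Cfsg.classInner θ ψ)) :
    Cfsg.MemLocalIdeal M (Cfsg.classInner (fun x => θ x * η x) θ) := by
  classical
  have : Fact p.Prime := ⟨hM.1⟩
  let act : E →* Equiv.Perm (Cfsg.IrrCharacter K) :=
    { toFun := fun g =>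
        { toFun := fun ψ => ⟨(ψ : K → ℂ) ∘ σ g⁻¹,
            Char.IsIrrCharacter.comp_surjective ψ.2 (σ g⁻¹).toMonoidHom (σ g⁻¹).surjective⟩
          invFun := fun ψ => ⟨(ψ : K → ℂ) ∘ σ g,
            Char.IsIrrCharacter.comp_surjective ψ.2 (σ g).toMonoidHom (σ g).surjective⟩
          left_inv := fun ψ => Subtype.ext (funext fun x => by simp)
          right_inv := fun ψ => Subtype.ext (funext fun x => by simp) }
      map_one' := Equiv.ext fun ψ => Subtype.ext (funext fun x => by simp)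
      map_mul' := fun g h => Equiv.ext fun ψ => Subtype.ext (funext fun x => by
        simp [mul_inv_rev, MulAut.mul_apply]) }
  have hP : IsPGroup p act.range := by
    obtain ⟨k, hk⟩ := hidx
    have h1 : act.ker.index ∣ p ^ k := hk ▸ Subgroup.index_dvd_of_le (Subgroup.zpowers_le.2 (by
      refine Equiv.ext fun ψ => Subtype.ext (funext fun x => ?_)
      simp [act, -map_inv, show σ z⁻¹ = 1 by rw [map_inv, hz, inv_one]]))
    obtain ⟨i, -, hi⟩ := (Nat.dvd_prime_pow hM.1).1 h1
    exact IsPGroup.of_card (n := i) (by rw [← Subgroup.index_ker, hi])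
  let F : Cfsg.IrrCharacter K × Cfsg.IrrCharacter K → ℂ := fun t =>
    Cfsg.classInner θ t.1 * Cfsg.classInner θ t.2 *
      Cfsg.classInner (fun x => (t.1 : K → ℂ) x * η x) t.2
  have hsum : Cfsg.classInner (fun x => θ x * η x) θ = ∑ t, F t := by
    have h1 : (fun x => θ x * η x) = ∑ ψ : Cfsg.IrrCharacter K,
        Cfsg.classInner θ ψ • (fun x => (ψ : K → ℂ) x * η x) := by
      funext x
      conv_lhs => rw [Char.IsClassFunction.eq_sum_irr (Char.IsCharacter.isClassFunction hθ)]
      simp [Finset.sum_mul, mul_assoc]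
    rw [h1, Char.classInner_sum_left, Fintype.sum_prod_type]
    refine Finset.sum_congr rfl fun ψ _ => ?_
    rw [Char.classInner_smul_left, Char.classInner_eq_sum_irr (Char.IsCharacter.isClassFunction
      (Char.IsCharacter.mul (Char.isCharacter_irr ψ) hη) : Cfsg.IsClassFunction K
        fun x => (ψ : K → ℂ) x * η x), Finset.mul_sum]
    refine Finset.sum_congr rfl fun φ _ => ?_
    simp only [F]
    rw [Char.IsCharacter.classInner_comm (Char.isCharacter_irr φ) hθ]
    ring
  have hR : ∀ t, Cfsg.MemLocalRing M (F t) := by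
    intro t
    obtain ⟨a, ha⟩ := Char.IsCharacter.classInner_nat hθ (Char.isCharacter_irr t.1)
    obtain ⟨b, hb⟩ := Char.IsCharacter.classInner_nat hθ (Char.isCharacter_irr t.2)
    obtain ⟨c, hc⟩ := Char.IsCharacter.classInner_nat
      (Char.IsCharacter.mul (Char.isCharacter_irr t.1) hη) (Char.isCharacter_irr t.2)
    have hc' : Cfsg.classInner (fun x => (t.1 : K → ℂ) x * η x) t.2 = (c : ℂ) := hc
    simp only [F, ha, hb, hc', ← Nat.cast_mul]
    exact LR.natCast hM _
  have hinv : ∀ (u : act.range) t, F (u • t) = F t := by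
    rintro ⟨_, g, rfl⟩ ⟨ψ, φ⟩
    have hc : ∀ (f : K → ℂ) (χ : Cfsg.IrrCharacter K), (∀ x, f (σ g⁻¹ x) = f x) →
        Cfsg.classInner f (act g χ : Cfsg.IrrCharacter K) = Cfsg.classInner f χ := by
      intro f χ hf
      rw [show f = f ∘ (σ g⁻¹) from (funext hf).symm]
      exact (Char.classInner_reindex (σ g⁻¹) f χ).trans
        (by rw [show f ∘ (σ g⁻¹) = f from funext hf])
    show Cfsg.classInner θ (act g ψ : Cfsg.IrrCharacter K) *
      Cfsg.classInner θ (act g φ : Cfsg.IrrCharacter K) *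
      Cfsg.classInner (fun x => (ψ : K → ℂ) (σ g⁻¹ x) * η x) (act g φ : Cfsg.IrrCharacter K) = _
    rw [hc θ ψ (hθi _), hc θ φ (hθi _)]
    refine congrArg _ ?_
    rw [show (fun x => (ψ : K → ℂ) (σ g⁻¹ x) * η x) =
      (fun x => (ψ : K → ℂ) x * η x) ∘ σ g⁻¹ from funext fun x => by
        simp only [Function.comp, hηi]]
    exact Char.classInner_reindex (σ g⁻¹) _ _
  have h := sum_congr_fixedPoints hM hP F hR hinv
  rw [hsum]
  have h2 : Cfsg.MemLocalIdeal M
      (∑ t with t ∈ MulAction.fixedPoints act.range (Cfsg.IrrCharacter K × Cfsg.IrrCharacter K),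
        F t) := by
    refine LI.sum hM fun t ht => ?_
    have ht' := (Finset.mem_filter.1 ht).2
    refine LI.mul_right hM (LI.mul_right hM (hdiv t.1 fun g x => ?_) ?_) ?_
    · have h1 : act g⁻¹ t.1 = t.1 := congrArg Prod.fst (ht' ⟨act g⁻¹, g⁻¹, rfl⟩)
      have h2 := congrFun (congrArg Subtype.val h1) x
      simpa [act] using h2
    · obtain ⟨b, hb⟩ := Char.IsCharacter.classInner_nat hθ (Char.isCharacter_irr t.2)
      rw [hb]; exact LR.natCast hM b
    · obtain ⟨b, hb⟩ := Char.IsCharacter.classInner_nat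
        (Char.IsCharacter.mul (Char.isCharacter_irr t.1) hη) (Char.isCharacter_irr t.2)
      exact hb ▸ LR.natCast hM b
  have := LI.add hM h h2
  rwa [sub_add_cancel] at this


/-- Let N be a normal subgroup of the finite group G with the index of N a power of the prime p, and ϑ an irreducible character of N invariant under conjugation by G. Then there are a p-elementary subgroup E of G with E ⊔ N = ⊤ and an irreducible character φ of the subgroup E ⊓ N, invariant under conjugation by E, such that the inner product of the restriction of ϑ to E ⊓ N with φ is an integer not divisible by p. -/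
theorem result {G : Type*} [Group G] [Fintype G] (p : ℕ) (hp : p.Prime) (N : Subgroup G) [hN : N.Normal] (hind : ∃ k : ℕ, N.index = p ^ k) (ϑ : N → ℂ) (hϑ : Cfsg.IsIrrCharacter N ϑ) (hinv : ∀ (g : G) (n : N), ϑ ⟨g * n * g⁻¹, hN.conj_mem (n : G) n.2 g⟩ = ϑ n) : ∃ (E : Subgroup G) (φ : ↥(E ⊓ N) → ℂ), Cfsg.IsElementary p E ∧ E ⊔ N = ⊤ ∧ Cfsg.IsIrrCharacter ↥(E ⊓ N) φ ∧ (∀ (g : G) (hg : g ∈ E) (x : ↥(E ⊓ N)), φ ⟨g * x * g⁻¹, ⟨(E.mul_mem (E.mul_mem hg x.2.1) (E.inv_mem hg)), hN.conj_mem (x : G) x.2.2 g⟩⟩ = φ x) ∧ ∃ m : ℕ, ¬ p ∣ m ∧ (Nat.card ↥(E ⊓ N) : ℂ)⁻¹ * ∑ᶠ x : ↥(E ⊓ N), ϑ ⟨(x : G), x.2.2⟩ * conj (φ x) = (m : ℂ) := by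
  classical
  have : Fact p.Prime := ⟨hp⟩
  obtain ⟨M, hM⟩ := exists_isPModular hp
  obtain ⟨k, hk⟩ := hind
  have hϑc := Char.IsIrrCharacter.isCharacter hϑ
  have conv : ∀ {K : Subgroup G} [Fintype K] (f g : K → ℂ),
      (Nat.card K : ℂ)⁻¹ * ∑ᶠ x : K, f x * conj (g x) = Cfsg.classInner f g := fun f g => by
    rw [finsum_eq_sum_of_fintype]; rfl
  by_contra hcon
  push Not at hcon
  let av : (G → ℂ) → ℂ := fun f => (Nat.card N : ℂ)⁻¹ * ∑ x : N, f x * (ϑ x * conj (ϑ x))
  have key : ∀ f ∈ Brauer.span' G p, Cfsg.MemLocalIdeal M (av f) := by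
    intro f hf
    induction hf using AddSubgroup.closure_induction with
    | zero => simpa [av] using LI.zero hM
    | add a b _ _ ha hb =>
      have h := LI.add hM ha hb
      simpa [av, add_mul, Finset.sum_add_distrib, mul_add] using h
    | neg a _ ha => simpa [av] using LI.neg ha
    | mem a ha =>
      obtain ⟨E, φ, hE, hφ, rfl⟩ := ha
      obtain ⟨z, hzc, hzo, j, hzj⟩ := hE
      set K := E ⊓ N with hKdef
      -- coefficient
      have hcard : Nat.card (E ⊔ N : Subgroup G) * Nat.card K = Nat.card E * Nat.card N := by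
        rw [← Subgroup.card_mul_index (N.subgroupOf (E ⊔ N)),
          ← Subgroup.card_mul_index (K.subgroupOf E),
          Nat.card_congr (Subgroup.subgroupOfEquivOfLe (le_sup_right : N ≤ E ⊔ N)).toEquiv,
          Nat.card_congr (Subgroup.subgroupOfEquivOfLe (inf_le_left : K ≤ E)).toEquiv]
        show Nat.card N * N.relIndex (E ⊔ N) * Nat.card K =
          Nat.card K * K.relIndex E * Nat.card N
        rw [hKdef, Subgroup.inf_relIndex_left, Subgroup.relIndex_sup_right]
        ring
      let θ : K → ℂ := fun x => ϑ ⟨(x : G), x.2.2⟩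
      let η : K → ℂ := fun x => φ ⟨(x : G), x.2.1⟩
      have hθ : Cfsg.IsCharacter K θ :=
        Char.IsCharacter.comp hϑc (Subgroup.inclusion (inf_le_right : K ≤ N))
      have hη : Cfsg.IsCharacter K η :=
        Char.IsCharacter.comp hφ (Subgroup.inclusion (inf_le_left : K ≤ E))
      have hsum : ∑ x : N, Cfsg.indFun E φ x * (ϑ x * conj (ϑ x)) =
          (Nat.card E : ℂ)⁻¹ * ((Nat.card G : ℂ) * ∑ x : K, θ x * η x * conj (θ x)) := by
        have h1 : ∀ g : G, ∑ x : N, Cfsg.extendByZero E φ (g⁻¹ * x * g) * (ϑ x * conj (ϑ x)) =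
            ∑ x : K, θ x * η x * conj (θ x) := by
          intro g
          let cg : N ≃ N :=
            { toFun := fun x => ⟨g * x * g⁻¹, hN.conj_mem x x.2 g⟩
              invFun := fun x => ⟨g⁻¹ * x * g, by simpa using hN.conj_mem x x.2 g⁻¹⟩
              left_inv := fun x => Subtype.ext (by group)
              right_inv := fun x => Subtype.ext (by group) }
          rw [← Equiv.sum_comp cg]
          have h2 : ∀ x : N, g⁻¹ * ((cg x : N) : G) * g = (x : G) := fun x => by
            show g⁻¹ * (g * x * g⁻¹) * g = x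
            group
          have h3 : ∀ x : N, ϑ (cg x) = ϑ x := fun x => hinv g x
          simp only [h2, h3]
          rw [← Finset.sum_filter_of_ne (p := fun x : N => (x : G) ∈ E) (fun x _ hx => by
            by_contra h
            simp [Char.extendByZero_apply_notMem E φ h] at hx)]
          symm
          refine Finset.sum_bij (fun (x : K) _ => (⟨(x : G), x.2.2⟩ : N)) ?_ ?_ ?_ ?_
          · intro x _; simpa using x.2.1
          · intro x _ y _ h; exact Subtype.ext (congrArg (fun v : N => (v : G)) h)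
          · intro y hy; exact ⟨⟨(y : G), (Finset.mem_filter.1 hy).2, y.2⟩, Finset.mem_univ _, rfl⟩
          · intro x _
            simp only [Char.extendByZero_apply_mem E φ x.2.1, θ, η]
            ring
        rw [Finset.sum_congr rfl fun (x : N) _ => show Cfsg.indFun E φ x * (ϑ x * conj (ϑ x)) =
          (Nat.card E : ℂ)⁻¹ * ∑ g : G, Cfsg.extendByZero E φ (g⁻¹ * x * g) * (ϑ x * conj (ϑ x))
          by rw [Char.indFun_def, mul_assoc, Finset.sum_mul]]
        rw [← Finset.mul_sum, Finset.sum_comm, Finset.sum_congr rfl fun g _ => h1 g,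
          Finset.sum_const, Finset.card_univ, nsmul_eq_mul, ← Nat.card_eq_fintype_card]
      have hav : av (Cfsg.indFun E φ) = ((E ⊔ N).index : ℂ) *
          Cfsg.classInner (fun x => θ x * η x) θ := by
        have hG : (Nat.card G : ℂ) = (Nat.card (E ⊔ N : Subgroup G) : ℂ) * ((E ⊔ N).index : ℂ) := by
          rw [← Nat.cast_mul, Subgroup.card_mul_index]
        have hc : (Nat.card (E ⊔ N : Subgroup G) : ℂ) =
            (Nat.card E : ℂ) * Nat.card N / Nat.card K := by
          rw [eq_div_iff Char.card_ne_zero]; exact_mod_cast hcard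
        have hE0 : (Nat.card E : ℂ) ≠ 0 := Char.card_ne_zero
        have hN0 : (Nat.card N : ℂ) ≠ 0 := Char.card_ne_zero
        have hK0 : (Nat.card K : ℂ) ≠ 0 := Char.card_ne_zero
        simp only [av, hsum, Cfsg.classInner, hG, hc]
        field_simp
      rw [hav]
      by_cases hEN : E ⊔ N = ⊤
      swap
      · obtain ⟨b, hb⟩ := Char.IsCharacter.classInner_nat (Char.IsCharacter.mul hθ hη) hθ
        refine LI.mul_right hM ((LI.natCast_iff hM _).2 ?_) (hb ▸ LR.natCast hM b)
        obtain ⟨i, -, hi⟩ := (Nat.dvd_prime_pow hp).1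
          (hk ▸ Subgroup.index_dvd_of_le (le_sup_right : N ≤ E ⊔ N))
        rcases i with _ | i
        · exact absurd (Subgroup.index_eq_one.1 (hi.trans (pow_zero p))) hEN
        · rw [hi, pow_succ]; exact dvd_mul_left p _
      refine LI.mul_left hM (LR.natCast hM _) ?_
      have hKn : (K.subgroupOf E).Normal := ⟨fun x hx g =>
        ⟨(g * x * g⁻¹).2, hN.conj_mem _ hx.2 (g : G)⟩⟩
      let e := Subgroup.subgroupOfEquivOfLe (inf_le_left : K ≤ E)
      let σ : E →* MulAut K :=
        (MulEquiv.toMonoidHom (MulAut.congr e)).comp (MulAut.conjNormal : E →* MulAut (K.subgroupOf E))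
      have hσ : ∀ (g : E) (x : K), ((σ g x : K) : G) = (g : G) * x * (g : G)⁻¹ := fun g x => rfl
      refine memLocalIdeal_inner hM σ z ?_ hzc ⟨j, hzj⟩ hθ hη ?_ ?_ ?_
      · refine MulEquiv.ext fun x => Subtype.ext ?_
        rw [hσ]
        have h := congrArg Subtype.val (Subgroup.mem_center_iff.1 hzc ⟨(x : G), x.2.1⟩)
        simp only [Subgroup.coe_mul] at h
        rw [← h, mul_inv_cancel_right]
        rfl
      · intro g x
        show ϑ _ = ϑ _
        rw [← hinv g ⟨(x : G), x.2.2⟩]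
        exact congrArg ϑ (Subtype.ext (hσ g x))
      · intro g x
        show φ _ = φ _
        rw [← Char.IsCharacter.isClassFunction hφ ⟨(x : G), x.2.1⟩ g]
        exact congrArg φ (Subtype.ext (hσ g x))
      · intro ψ hψ
        obtain ⟨d, hd⟩ := Char.IsCharacter.classInner_nat hθ (Char.isCharacter_irr ψ)
        rw [hd, LI.natCast_iff hM]
        by_contra hpd
        refine hcon E (ψ : K → ℂ) ⟨z, hzc, hzo, j, hzj⟩ hEN ψ.2 (fun g hg x => ?_) d hpd ?_
        · rw [← hψ ⟨g, hg⟩ x]
          exact congrArg (ψ : K → ℂ) (Subtype.ext (hσ ⟨g, hg⟩ x).symm)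
        · exact (conv θ ψ).trans hd
  obtain ⟨m, hm, hmem⟩ := Brauer.exists_const_mem_span' (G := G) p
  have h1 := key _ hmem
  have h2 : av (fun _ => (m : ℂ)) = (m : ℂ) * Cfsg.classInner ϑ ϑ := by
    simp only [av, Cfsg.classInner]
    rw [← Finset.mul_sum]; ring
  rw [h2, Char.classInner_irr_self hϑ, mul_one, LI.intCast_iff hM] at h1
  exact hm h1

end Cfsg.Agent.S0896
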