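import Cfsg.Statements.S0897
import Cfsg.Agent.S0896
import Cfsg.Agent.Lib.CharDeep.ProjExtEigen
import Cfsg.Agent.Lib.Char.Linear
import Mathlib.GroupTheory.FiniteAbelian.Duality

set_option autoImplicit false
open Cfsg
open scoped ComplexConjugate
open CfsgLib CfsgLib.CharDeep

namespace Cfsg.Agent.S0897

theorem exists_extend_hom {A : Type*} [Group A] [Finite A] (hA : ∀ a b : A, a * b = b * a)
    (H : Subgroup A) (f : H →* ℂˣ) : ∃ F : A →* ℂˣ, ∀ h : H, F h = f h := by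
  letI : CommGroup A := { (inferInstance : Group A) with mul_comm := hA }
  have : NeZero (Monoid.exponent A : ℂ) :=
    ⟨by exact_mod_cast Monoid.exponent_ne_zero_of_finite⟩
  obtain ⟨F, hF⟩ := MonoidHom.domRestrict_surjective ℂ H f
  exact ⟨F, fun h => DFunLike.congr_fun hF h⟩


/-- Let N be a normal subgroup of the finite group G with the index of N a power of the prime p, and P a Sylow p-subgroup of G such that P ⊓ N lies in the centre of P and every character of degree 1 of P ⊓ N is the restriction of a character of degree 1 of P. Then every irreducible character of N invariant under conjugation by G is the restriction of an irreducible character of G. -/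
theorem result {G : Type*} [Group G] [Fintype G] (p : ℕ) [Fact p.Prime] (N : Subgroup G) [hN : N.Normal] (hind : ∃ k : ℕ, N.index = p ^ k) (P : Sylow p G) (hcent : ∀ x ∈ (P : Subgroup G) ⊓ N, ∀ y ∈ (P : Subgroup G), x * y = y * x) (hlin : ∀ lam : ↥((P : Subgroup G) ⊓ N) → ℂ, Cfsg.IsCharacter ↥((P : Subgroup G) ⊓ N) lam → lam 1 = 1 → ∃ μ : ↥(P : Subgroup G) → ℂ, Cfsg.IsCharacter ↥(P : Subgroup G) μ ∧ μ 1 = 1 ∧ ∀ x : ↥((P : Subgroup G) ⊓ N), μ ⟨(x : G), x.2.1⟩ = lam x) (ϑ : N → ℂ) (hϑ : Cfsg.IsIrrCharacter N ϑ) (hinv : ∀ (g : G) (n : N), ϑ ⟨g * n * g⁻¹, hN.conj_mem (n : G) n.2 g⟩ = ϑ n) : ∃ χ : G → ℂ, Cfsg.IsIrrCharacter G χ ∧ ∀ n : N, χ n = ϑ n := by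
  classical
  have hp : p.Prime := Fact.out
  obtain ⟨E, φ, hE, hEN, hφ, -, d, hpd, hd⟩ :=
    Cfsg.Agent.S0896.result p hp N hind ϑ hϑ hinv
  obtain ⟨k, hk⟩ := hind
  obtain ⟨z, hzc, hzo, j, hzj⟩ := hE
  -- the central `p'`-part lies in `N`
  have hzN : (z : G) ∈ N := by
    have h1 : orderOf ((z : G) : G ⧸ N) ∣ p ^ k := by
      rw [← hk, Subgroup.index_eq_card]; exact orderOf_dvd_natCard _
    have h2 : orderOf ((z : G) : G ⧸ N) ∣ orderOf z :=
      (orderOf_map_dvd (QuotientGroup.mk' N) (z : G)).trans (Subgroup.orderOf_coe z).dvd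
    have h3 : orderOf ((z : G) : G ⧸ N) = 1 :=
      Nat.eq_one_of_dvd_coprimes (Nat.Coprime.pow_right k hzo) h2 h1
    exact (QuotientGroup.eq_one_iff _).1 (orderOf_eq_one_iff.1 h3)
  -- a Sylow subgroup of `E` inside a conjugate of `P`
  obtain ⟨RE⟩ : Nonempty (Sylow p E) := inferInstance
  obtain ⟨Q, hQ⟩ := (RE.2.map E.subtype).exists_le_sylow
  obtain ⟨g, hg⟩ := MulAction.exists_smul_eq G P Q
  have hQmem : ∀ y : G, y ∈ (Q : Subgroup G) ↔ g⁻¹ * y * g ∈ (P : Subgroup G) := by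
    intro y
    rw [← hg, Sylow.coe_subgroup_smul, Subgroup.mem_pointwise_smul_iff_inv_smul_mem]
    simp
  have hzR : Subgroup.zpowers z ⊔ (RE : Subgroup E) = ⊤ := by
    rw [← Subgroup.index_eq_one]
    have h1 : (Subgroup.zpowers z ⊔ (RE : Subgroup E)).index ∣ p ^ j :=
      hzj ▸ Subgroup.index_dvd_of_le le_sup_left
    obtain ⟨i, -, hi⟩ := (Nat.dvd_prime_pow hp).1 h1
    rcases i with _ | i
    · simpa using hi
    · exfalso
      refine RE.not_dvd_index (Dvd.dvd.trans ?_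
        (Subgroup.index_dvd_of_le (le_sup_right (a := Subgroup.zpowers z))))
      rw [hi, pow_succ]
      exact dvd_mul_left _ _
  have hzn : (Subgroup.zpowers z).Normal := ⟨fun w hw a => by
    rw [Subgroup.mem_center_iff.1 (Subgroup.zpowers_le.2 hzc hw) a, mul_inv_cancel_right]
    exact hw⟩
  have hdec : ∀ x : E, ∃ r ∈ (RE : Subgroup E), ∃ w ∈ Subgroup.zpowers z, x = r * w := by
    intro x
    have hx : x ∈ (RE : Subgroup E) ⊔ Subgroup.zpowers z := by
      rw [sup_comm, hzR]; exact Subgroup.mem_top x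
    rw [← SetLike.mem_coe, Subgroup.mul_normal, Set.mem_mul] at hx
    obtain ⟨r, hr, w, hw, rfl⟩ := hx
    exact ⟨r, hr, w, hw, rfl⟩
  have hwN : ∀ w ∈ Subgroup.zpowers z, (w : G) ∈ N := by
    rintro w ⟨i, rfl⟩
    simpa using N.zpow_mem hzN i
  have hRQ : ∀ r ∈ (RE : Subgroup E), (r : G) ∈ (Q : Subgroup G) := fun r hr => hQ ⟨r, hr, rfl⟩
  have hcQ : ∀ x : G, x ∈ (Q : Subgroup G) → x ∈ N → ∀ y ∈ (Q : Subgroup G), x * y = y * x := by
    intro x hx hxN y hy
    have h := hcent (g⁻¹ * x * g) ⟨(hQmem x).1 hx, by simpa using hN.conj_mem x hxN g⁻¹⟩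
      _ ((hQmem y).1 hy)
    calc x * y = g * (g⁻¹ * x * g * (g⁻¹ * y * g)) * g⁻¹ := by group
      _ = y * x := by rw [h]; group
  have hMc : ∀ x : ↥(E ⊓ N), ∀ y : E, (x : G) * y = y * x := by
    intro x y
    obtain ⟨r, hr, w, hw, hx⟩ := hdec ⟨x, x.2.1⟩
    have hxG : (x : G) = (r : G) * w := congrArg Subtype.val hx
    have hwc : ∀ a : E, a * w = w * a :=
      Subgroup.mem_center_iff.1 (Subgroup.zpowers_le.2 hzc hw)
    have hrN : (r : G) ∈ N := by
      have : (r : G) = (x : G) * (w : G)⁻¹ := by rw [hxG, mul_inv_cancel_right]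
      rw [this]; exact N.mul_mem x.2.2 (N.inv_mem (hwN w hw))
    obtain ⟨r', hr', w', hw', rfl⟩ := hdec y
    have hwc' : ∀ a : E, a * w' = w' * a :=
      Subgroup.mem_center_iff.1 (Subgroup.zpowers_le.2 hzc hw')
    have hrr : r * r' = r' * r := Subtype.ext (hcQ _ (hRQ r hr) hrN _ (hRQ r' hr'))
    rw [hxG]
    exact congrArg Subtype.val (show r * w * (r' * w') = r' * w' * (r * w) by
      calc r * w * (r' * w') = r * (w * r') * w' := by group
        _ = r * r' * w * w' := by rw [← hwc r']; group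
        _ = r' * r * (w' * w) := by rw [hrr, mul_assoc (r' * r), ← hwc w']
        _ = r' * (r * w') * w := by group
        _ = r' * w' * (r * w) := by rw [hwc' r]; group)
  have hMab : ∀ a b : ↥(E ⊓ N), a * b = b * a := fun a b =>
    Subtype.ext (hMc a ⟨(b : G), b.2.1⟩)
  obtain ⟨fM, hfM⟩ := IrrTools.exists_hom_of_degree_one (Char.IsIrrCharacter.isCharacter hφ)
    (Char.apply_one_eq_one_of_comm hMab hφ)
  -- extend to `Q`, hence to the Sylow subgroup of `E`
  have hPab : ∀ a b : ↥((P : Subgroup G) ⊓ N), a * b = b * a := fun a b =>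
    Subtype.ext (hcent a a.2 b b.2.1)
  let cg : G ≃* G := MulAut.conj g
  let S : Subgroup ↥((P : Subgroup G) ⊓ N) :=
    ((RE : Subgroup E).map E.subtype).comap
      (cg.toMonoidHom.comp ((P : Subgroup G) ⊓ N).subtype)
  have hS : ∀ x : S, g * (((x : ↥((P : Subgroup G) ⊓ N)) : G)) * g⁻¹ ∈ E ⊓ N := by
    intro x
    refine ⟨?_, hN.conj_mem _ x.1.2.2 g⟩
    obtain ⟨r, -, hre⟩ := x.2
    have : (r : G) = g * (((x : ↥((P : Subgroup G) ⊓ N)) : G)) * g⁻¹ := hre
    exact this ▸ r.2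
  let fS : S →* ℂˣ := fM.comp (((cg.toMonoidHom.comp ((P : Subgroup G) ⊓ N).subtype).comp
    S.subtype).codRestrict (E ⊓ N) hS)
  obtain ⟨F₀, hF₀⟩ := exists_extend_hom hPab S fS
  obtain ⟨μP, hμPc, hμP1, hμP⟩ := hlin _ (IrrTools.isCharacter_of_hom F₀) (by simp)
  obtain ⟨fP, hfP⟩ := IrrTools.exists_hom_of_degree_one hμPc hμP1
  let μR : (RE : Subgroup E) →* ℂˣ := fP.comp
    ((cg.symm.toMonoidHom.comp (E.subtype.comp (RE : Subgroup E).subtype)).codRestrict
      (P : Subgroup G) fun r => (hQmem _).1 (hRQ r r.2))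
  have hμR : ∀ (r : (RE : Subgroup E)) (hr : ((r : E) : G) ∈ N),
      μR r = fM ⟨((r : E) : G), (r : E).2, hr⟩ := by
    intro r hr
    have hmemPN : g⁻¹ * ((r : E) : G) * g ∈ (P : Subgroup G) ⊓ N :=
      ⟨(hQmem _).1 (hRQ r r.2), by simpa using hN.conj_mem _ hr g⁻¹⟩
    let x : ↥((P : Subgroup G) ⊓ N) := ⟨_, hmemPN⟩
    have hxS : x ∈ S := ⟨(r : E), r.2, by simp [x, cg, mul_assoc]⟩
    have h1 : fS ⟨x, hxS⟩ = fM ⟨((r : E) : G), (r : E).2, hr⟩ :=
      congrArg fM (Subtype.ext (by simp [x, cg, mul_assoc]))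
    have h2 : μR r = fP ⟨(x : G), x.2.1⟩ := congrArg fP (Subtype.ext (by simp [x, cg]))
    rw [← h1, ← hF₀, h2]
    exact Units.ext ((hfP _).symm.trans (hμP x))
  let fZ : Subgroup.zpowers z →* ℂˣ := fM.comp
    ((E.subtype.comp (Subgroup.zpowers z).subtype).codRestrict (E ⊓ N)
      fun w => ⟨(w : E).2, hwN w w.2⟩)
  obtain ⟨μ, hμZ, hμR'⟩ := ProjExtEigen.exists_glue (H := (RE : Subgroup E))
    (N := Subgroup.zpowers z) ((sup_comm _ _).trans hzR) μR fZ
    (fun a w => congrArg fM (Subtype.ext (congrArg Subtype.val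
      (show a * (w : E) * a⁻¹ = w by
        rw [Subgroup.mem_center_iff.1 (Subgroup.zpowers_le.2 hzc w.2) a,
          mul_inv_cancel_right]) :)))
    (fun r hr => hμR r (hwN _ hr))
  have hμM : ∀ x : ↥(E ⊓ N), μ ⟨(x : G), x.2.1⟩ = fM x := by
    intro x
    obtain ⟨r, hr, w, hw, hx⟩ := hdec ⟨x, x.2.1⟩
    have hxG : (x : G) = (r : G) * w := congrArg Subtype.val hx
    have hrN : (r : G) ∈ N := by
      have : (r : G) = (x : G) * (w : G)⁻¹ := by rw [hxG, mul_inv_cancel_right]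
      rw [this]; exact N.mul_mem x.2.2 (N.inv_mem (hwN w hw))
    rw [hx, map_mul, hμR' ⟨r, hr⟩, hμZ ⟨w, hw⟩, hμR ⟨r, hr⟩ hrN]
    show fM _ * fM _ = fM x
    rw [← map_mul]
    exact congrArg fM (Subtype.ext hxG.symm)
  obtain ⟨n, ρ, hρ, hρc⟩ := hϑ
  have : ρ.IsIrreducible := hρ
  let ρM : Representation ℂ ↥(E ⊓ N) (Fin n → ℂ) :=
    ρ.comp (Subgroup.inclusion (inf_le_right : E ⊓ N ≤ N))
  let e : Representation.IntertwiningMap (Char.linRep fM) ρM ≃ₗ[ℂ]
      ProjExtEigen.eigen ρ E μ :=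
    { toFun := fun T => ⟨T.toLinearMap 1, fun x hx => by
        have h := LinearMap.congr_fun (T.isIntertwining' ⟨(x : G), hx, x.2⟩) 1
        simp only [LinearMap.comp_apply] at h
        have h' : T.toLinearMap ((fM ⟨(x : G), hx, x.2⟩ : ℂ) • (1 : ℂ)) = ρ x (T.toLinearMap 1) := h
        rw [← h', map_smul]
        exact congrArg (fun c : ℂˣ => (c : ℂ) • T.toLinearMap 1) (hμM ⟨(x : G), hx, x.2⟩).symm⟩
      map_add' := fun _ _ => rfl
      map_smul' := fun _ _ => rfl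
      invFun := fun w => (LinearMap.toSpanSingleton ℂ _ (w : Fin n → ℂ)).intertwiningMap_of_isIntertwiningMap _ _
        fun x v => by
          show ((fM x : ℂ) • v) • (w : Fin n → ℂ) = ρ ⟨(x : G), x.2.2⟩ (v • (w : Fin n → ℂ))
          rw [map_smul, w.2 ⟨(x : G), x.2.2⟩ x.2.1, hμM x, smul_smul, smul_eq_mul,
            mul_comm]
      left_inv := fun T => by
        ext1
        refine LinearMap.ext_ring ?_
        show (1 : ℂ) • T.toLinearMap 1 = T.toLinearMap 1
        rw [one_smul]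
      right_inv := fun w => Subtype.ext (one_smul ℂ _) }
  have hdim : Module.finrank ℂ (ProjExtEigen.eigen ρ E μ) = d := by
    have h := IrrTools.classInner_eq_finrank (Char.linRep fM) ρM
    rw [← LinearEquiv.finrank_eq e]
    have h2 : Cfsg.classInner ρM.character (Char.linRep fM).character = (d : ℂ) := by
      rw [← hd, finsum_eq_sum_of_fintype, Cfsg.classInner]
      congr 1
      refine Finset.sum_congr rfl fun x _ => ?_
      rw [Char.linRep_character, hfM x, ← hρc]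
      rfl
    exact_mod_cast h.symm.trans h2
  obtain ⟨σ, hσ⟩ := ProjExtEigen.exists_extension_of_eigen ρ
    (fun a m => by
      rw [hρc, ← hinv a m]
      exact congrArg ϑ (Subtype.ext (by simp)))
    hEN μ hp ⟨k, hk⟩ (hdim ▸ hpd)
  obtain ⟨χ, hχ, hχe⟩ := ProjExt.exists_character_of_extension ρ σ hσ
  exact ⟨χ, hχ, fun m => (hχe m).trans (congrFun hρc m)⟩

end Cfsg.Agent.S0897
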