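import Cfsg.Statements.S0900
import Cfsg.Agent.Lib.CharDeep.Clifford

set_option autoImplicit false
open Cfsg CfsgLib CfsgLib.CharDeep
open scoped ComplexConjugate

namespace Cfsg.Agent.S0900

/-- Let N be a normal subgroup of the finite group G, χ an irreducible character of G and ϑ an irreducible character of N having nonzero inner product with the restriction of χ. Consider: (a) the restriction of χ to N is e • ϑ for a natural number e with e ^ 2 equal to the index of N; (b) χ vanishes outside N and ϑ is invariant under conjugation by G; (c) ϑ is invariant and every irreducible character of G having nonzero inner product with the function induced from ϑ equals χ. Then (a) ↔ (b) and (a) ↔ (c). -/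
theorem result {G : Type*} [Group G] [Fintype G] (N : Subgroup G) [hN : N.Normal] [Fintype N] (χ : G → ℂ) (hχ : Cfsg.IsIrrCharacter G χ) (ϑ : N → ℂ) (hϑ : Cfsg.IsIrrCharacter N ϑ) (hcon : Cfsg.classInner (fun n : N => χ n) ϑ ≠ 0) : ((∃ e : ℕ, (fun n : N => χ n) = (e : ℂ) • ϑ ∧ e ^ 2 = N.index) ↔ ((∀ g : G, g ∉ N → χ g = 0) ∧ ∀ (g : G) (n : N), ϑ ⟨g * n * g⁻¹, hN.conj_mem (n : G) n.2 g⟩ = ϑ n)) ∧ ((∃ e : ℕ, (fun n : N => χ n) = (e : ℂ) • ϑ ∧ e ^ 2 = N.index) ↔ (∀ (g : G) (n : N), ϑ ⟨g * n * g⁻¹, hN.conj_mem (n : G) n.2 g⟩ = ϑ n ∧ ∀ ψ : G → ℂ, Cfsg.IsIrrCharacter G ψ → Cfsg.classInner (Cfsg.indFun N ϑ) ψ ≠ 0 → ψ = χ)) := by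
  classical
  have hd : ϑ 1 ≠ 0 := Char.IsIrrCharacter.apply_one_ne_zero hϑ
  have hχcf := Char.IsIrrCharacter.isClassFunction hχ
  have hcN : (Nat.card N : ℂ) ≠ 0 := Char.card_ne_zero
  have hGN : (Nat.card G : ℂ) = (Nat.card N : ℂ) * N.index := by
    rw [← Nat.cast_mul, N.card_mul_index]
  -- the norm of `χ` splits into the part on `N` and the part outside
  have hsplit : ∀ e : ℕ, (fun n : N => χ n) = (e : ℂ) • ϑ →
      (Nat.card G : ℂ) = (Nat.card N : ℂ) * ((e : ℂ) ^ 2) +
        ∑ g ∈ Finset.univ.filter (fun g : G => g ∉ N), χ g * conj (χ g) := by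
    intro e he
    have h1 : ∑ g : G, χ g * conj (χ g) = Nat.card G := by
      have h := Char.classInner_irr_self hχ
      unfold Cfsg.classInner at h
      exact ((inv_mul_eq_one₀ Char.card_ne_zero).1 h).symm
    have h2 : ∑ n : N, χ n * conj (χ n) = (Nat.card N : ℂ) * ((e : ℂ) ^ 2) := by
      have h : Cfsg.classInner (fun n : N => χ n) (fun n : N => χ n) = (e : ℂ) ^ 2 := by
        rw [he, Char.classInner_smul_left, Char.classInner_smul_right, Char.classInner_irr_self hϑ,
          Complex.conj_natCast]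
        ring
      unfold Cfsg.classInner at h
      rw [← h, mul_inv_cancel_left₀ hcN]
    rw [← h1, ← h2, ← Finset.sum_filter_add_sum_filter_not Finset.univ (fun g : G => g ∈ N)]
    congr 1
    exact Finset.sum_subtype _ (fun g => by simp) _
  have hinv : ∀ e : ℕ, (fun n : N => χ n) = (e : ℂ) • ϑ →
      ∀ (g : G) (n : N), ϑ ⟨g * n * g⁻¹, hN.conj_mem (n : G) n.2 g⟩ = ϑ n := by
    intro e he g n
    have he0 : (e : ℂ) ≠ 0 := fun h0 =>
      Char.IsIrrCharacter.apply_one_ne_zero hχ (by
        have := congrFun he 1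
        simpa [h0] using this)
    have h1 := congrFun he ⟨g * n * g⁻¹, hN.conj_mem (n : G) n.2 g⟩
    have h2 := congrFun he n
    simp only [Pi.smul_apply, smul_eq_mul] at h1 h2
    refine mul_left_cancel₀ he0 ?_
    rw [← h1, ← h2]
    exact hχcf n g
  have hab : (∃ e : ℕ, (fun n : N => χ n) = (e : ℂ) • ϑ ∧ e ^ 2 = N.index) ↔
      ((∀ g : G, g ∉ N → χ g = 0) ∧
        ∀ (g : G) (n : N), ϑ ⟨g * n * g⁻¹, hN.conj_mem (n : G) n.2 g⟩ = ϑ n) := by
    constructor
    · rintro ⟨e, he, he2⟩
      refine ⟨fun g hg => ?_, hinv e he⟩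
      have h := hsplit e he
      rw [hGN, ← he2, Nat.cast_pow, left_eq_add] at h
      have h3 := (Finset.sum_eq_zero_iff_of_nonneg
        (f := fun g : G => Complex.normSq (χ g)) (fun _ _ => Complex.normSq_nonneg _)).1 (by
          apply Complex.ofReal_injective
          rw [Complex.ofReal_sum, Complex.ofReal_zero, ← h]
          exact Finset.sum_congr rfl fun x _ => (Complex.mul_conj (χ x)).symm) g (by simp [hg])
      exact Complex.normSq_eq_zero.1 h3
    · rintro ⟨hvan, hiv⟩
      obtain ⟨e, -, -, he⟩ := Clifford.restrict_eq_smul N hχ hϑ hcon hiv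
      refine ⟨e, he, ?_⟩
      have h := hsplit e he
      rw [Finset.sum_eq_zero (fun g hg => by rw [hvan g (Finset.mem_filter.1 hg).2, zero_mul]),
        add_zero, hGN] at h
      exact_mod_cast (mul_left_cancel₀ hcN h).symm
  refine ⟨hab, ?_, fun h => ?_⟩
  · intro ha g n
    obtain ⟨hvan, hiv⟩ := hab.1 ha
    refine ⟨hiv g n, fun ψ hψ hne => ?_⟩
    obtain ⟨e, he, he2⟩ := ha
    have hI : Cfsg.indFun N ϑ = (e : ℂ) • χ := by
      funext x
      rw [Pi.smul_apply, smul_eq_mul]
      by_cases hx : x ∈ N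
      · have h1 := congrFun he ⟨x, hx⟩
        simp only [Pi.smul_apply, smul_eq_mul] at h1
        rw [show x = ((⟨x, hx⟩ : N) : G) from rfl, Char.indFun_apply_of_normal]
        rw [Finset.sum_congr rfl fun y _ => hiv y ⟨x, hx⟩, Finset.sum_const, Finset.card_univ,
          nsmul_eq_mul, ← Nat.card_eq_fintype_card, h1, hGN, ← he2]
        push_cast
        field_simp
      · rw [Char.indFun_eq_zero_of_normal N ϑ hx, hvan x hx, mul_zero]
    rw [hI, Char.classInner_smul_left] at hne
    by_contra hne'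
    exact right_ne_zero_of_mul hne (Char.classInner_irr_ne hχ hψ (Ne.symm hne'))
  · have hiv : ∀ (g : G) (n : N), ϑ ⟨g * n * g⁻¹, hN.conj_mem (n : G) n.2 g⟩ = ϑ n :=
      fun g n => (h g n).1
    obtain ⟨e, -, hee, he⟩ := Clifford.restrict_eq_smul N hχ hϑ hcon hiv
    refine ⟨e, he, ?_⟩
    have hI : Cfsg.indFun N ϑ = (e : ℂ) • χ := by
      rw [Char.IsClassFunction.eq_sum_irr (Char.indFun_isClassFunction N ϑ),
        Finset.sum_eq_single (⟨χ, hχ⟩ : Cfsg.IrrCharacter G)]
      · congr 1
        rw [Char.classInner_indFun N ϑ hχcf, Char.IsCharacter.classInner_comm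
          (Char.IsIrrCharacter.isCharacter hϑ)
          (Char.IsCharacter.restrict (Char.IsIrrCharacter.isCharacter hχ) N), hee]
      · intro ψ _ hne
        have : Cfsg.classInner (Cfsg.indFun N ϑ) ψ = 0 := by
          by_contra h'
          exact hne (Subtype.ext ((h 1 1).2 ψ ψ.2 h'))
        rw [this, zero_smul]
      · simp
    have h1 := congrFun hI 1
    have h2 := congrFun he 1
    simp only [Pi.smul_apply, smul_eq_mul, OneMemClass.coe_one] at h1 h2
    rw [Char.indFun_one, h2, ← mul_assoc] at h1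
    have h3 : (N.index : ℂ) = (e : ℂ) * e := mul_right_cancel₀ hd h1
    rw [sq]
    exact_mod_cast h3.symm

end Cfsg.Agent.S0900
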