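import Cfsg.Statements.S0901
import Mathlib

set_option autoImplicit false
open Cfsg

namespace Cfsg.Agent.S0901

/-- Let M be a maximal ideal of the ring of algebraic integers containing the prime p, and let U be the set of complex roots of unity of order prime to p. Then reduction modulo M is injective on U, and every algebraic integer not in M is congruent modulo M to an element of U (so U maps bijectively onto the nonzero residues). -/
theorem result (p : ℕ) [Fact p.Prime] (M : Ideal Cfsg.AlgInt) (hM : Cfsg.IsPModular p M) : (∀ ε₁ ε₂ : Cfsg.AlgInt, (∃ m : ℕ, ¬ p ∣ m ∧ (ε₁ : ℂ) ^ m = 1) → (∃ m : ℕ, ¬ p ∣ m ∧ (ε₂ : ℂ) ^ m = 1) → ε₁ - ε₂ ∈ M → ε₁ = ε₂) ∧ (∀ a : Cfsg.AlgInt, a ∉ M → ∃ ε : Cfsg.AlgInt, (∃ m : ℕ, ¬ p ∣ m ∧ (ε : ℂ) ^ m = 1) ∧ a - ε ∈ M) := by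
  have hp : p.Prime := Fact.out
  have hMp : M.IsPrime := hM.2.1.isPrime
  have hunit : ∀ (m : ℕ), ¬ p ∣ m → (m : Cfsg.AlgInt) ∉ M := fun m hm h => by
    obtain ⟨u, v, huv⟩ := Nat.Coprime.isCoprime (hp.coprime_iff_not_dvd.2 hm)
    refine hMp.ne_top ((Ideal.eq_top_iff_one M).2 ?_)
    have h2 : ((u * p + v * m : ℤ) : Cfsg.AlgInt) ∈ M := by
      push_cast
      exact M.add_mem (M.mul_mem_left _ hM.2.2) (M.mul_mem_left _ h)
    rwa [huv, Int.cast_one] at h2
  constructor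
  · rintro ε₁ ε₂ ⟨m₁, hm₁, h₁⟩ ⟨m₂, hm₂, h₂⟩ hmem
    have hm₂0 : m₂ ≠ 0 := fun h => hm₂ (h ▸ dvd_zero p)
    have e₁ : ε₁ ^ m₁ = 1 := Subtype.ext (by simpa using h₁)
    have e₂ : ε₂ ^ m₂ = 1 := Subtype.ext (by simpa using h₂)
    set ζ := ε₁ * ε₂ ^ (m₂ - 1) with hζ
    have hε : ζ * ε₂ = ε₁ := by
      rw [hζ, mul_assoc, ← pow_succ, Nat.sub_add_cancel (Nat.pos_of_ne_zero hm₂0), e₂, mul_one]
    have hζm : ζ ^ (m₁ * m₂) = 1 := by
      rw [hζ, mul_pow, pow_mul, e₁, one_pow, one_mul, ← pow_mul, mul_comm, mul_assoc, mul_comm m₁,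
        mul_assoc, pow_mul, e₂, one_pow]
    have hζ1 : ζ - 1 ∈ M := by
      have h : ζ - 1 = (ε₁ - ε₂) * ε₂ ^ (m₂ - 1) := by
        rw [sub_mul, ← pow_succ', Nat.sub_add_cancel (Nat.pos_of_ne_zero hm₂0), e₂]
      exact h ▸ M.mul_mem_right _ hmem
    rcases eq_or_ne ζ 1 with h | h
    · rw [← hε, h, one_mul]
    exfalso
    have hgeom : ∑ i ∈ Finset.range (m₁ * m₂), ζ ^ i = 0 := by
      have h0 := geom_sum_mul ζ (m₁ * m₂)
      rw [hζm, sub_self, mul_eq_zero] at h0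
      exact h0.resolve_right (sub_ne_zero.2 h)
    refine hunit (m₁ * m₂) (fun hd => (hp.dvd_mul.1 hd).elim hm₁ hm₂) ?_
    have hsum : (∑ i ∈ Finset.range (m₁ * m₂), (1 - ζ ^ i)) ∈ M := by
      refine Ideal.sum_mem M fun i _ => ?_
      have h1 : (1 : Cfsg.AlgInt) - ζ ^ i = -((ζ - 1) * ∑ j ∈ Finset.range i, ζ ^ j) := by
        rw [mul_geom_sum, neg_sub]
      rw [h1]
      exact M.neg_mem (M.mul_mem_right _ hζ1)
    rw [Finset.sum_sub_distrib, hgeom, sub_zero, Finset.sum_const, Finset.card_range,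
      nsmul_one] at hsum
    exact hsum
  · intro a ha
    have := hM.2.1
    let k := Cfsg.AlgInt ⧸ M
    letI : Field k := Ideal.Quotient.field M
    have hchar : CharP k p := by
      rw [CharP.charP_iff_prime_eq_zero hp]
      exact (map_natCast (Ideal.Quotient.mk M) p).symm.trans
        (Ideal.Quotient.eq_zero_iff_mem.2 hM.2.2)
    letI : Algebra (ZMod p) k := ZMod.algebra k p
    set x : k := Ideal.Quotient.mk M a
    have hx0 : x ≠ 0 := fun h => ha (Ideal.Quotient.eq_zero_iff_mem.1 h)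
    have ha' : IsIntegral ℤ a :=
      (isIntegral_algebraMap_iff (B := ℂ) (FaithfulSMul.algebraMap_injective Cfsg.AlgInt ℂ)).1 a.2
    have hxi : IsIntegral (ZMod p) x := (ha'.map (Ideal.Quotient.mk M).toIntAlgHom).tower_top
    have hfin : Finite (Algebra.adjoin (ZMod p) ({x} : Set k)) := by
      have := Module.Finite.iff_fg.2 hxi.fg_adjoin_singleton
      exact Module.finite_of_finite (ZMod p)
    have hfo : IsOfFinOrder x := by
      let f : ℕ → Algebra.adjoin (ZMod p) ({x} : Set k) := fun i =>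
        ⟨x, Algebra.self_mem_adjoin_singleton _ _⟩ ^ i
      obtain ⟨i, j, hij, hne⟩ := Finite.exists_ne_map_eq_of_infinite f
      have h2 : x ^ i = x ^ j := by simpa [f] using congrArg Subtype.val hne
      rw [isOfFinOrder_iff_pow_eq_one]
      rcases lt_or_gt_of_ne hij with h | h
      · refine ⟨j - i, Nat.sub_pos_of_lt h, ?_⟩
        apply mul_left_cancel₀ (pow_ne_zero i hx0)
        rw [← pow_add, Nat.add_sub_cancel' h.le, mul_one, h2]
      · refine ⟨i - j, Nat.sub_pos_of_lt h, ?_⟩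
        apply mul_left_cancel₀ (pow_ne_zero j hx0)
        rw [← pow_add, Nat.add_sub_cancel' h.le, mul_one, h2]
    set m := orderOf x
    have hm0 : m ≠ 0 := hfo.orderOf_pos.ne'
    have hpm : ¬ p ∣ m := by
      rintro ⟨c, hc⟩
      have h1 : (x ^ c - 1) ^ p = 0 := by
        rw [sub_pow_char, ← pow_mul, one_pow, mul_comm, ← hc, pow_orderOf_eq_one, sub_self]
      have h2 : x ^ c = 1 := sub_eq_zero.1 (eq_zero_of_pow_eq_zero h1)
      have hc0 : c ≠ 0 := fun h => hm0 (by rw [hc, h, mul_zero])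
      have h3 : p * c ∣ c := hc ▸ orderOf_dvd_of_pow_eq_one h2
      have h4 := Nat.le_of_dvd (Nat.pos_of_ne_zero hc0) h3
      have h5 : 2 * c ≤ p * c := Nat.mul_le_mul_right c hp.two_le
      omega
    obtain ⟨z, hz⟩ : ∃ z : ℂ, IsPrimitiveRoot z m :=
      ⟨_, Complex.isPrimitiveRoot_exp m hm0⟩
    let Z : Cfsg.AlgInt := ⟨z, IsIntegral.of_pow (Nat.pos_of_ne_zero hm0)
      (by rw [hz.pow_eq_one]; exact isIntegral_one)⟩
    have hZ : IsPrimitiveRoot Z m :=
      IsPrimitiveRoot.of_map_of_injective (f := Cfsg.AlgInt.val) hz Subtype.val_injective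
    have hprod : ∏ ε ∈ Polynomial.nthRootsFinset m (1 : Cfsg.AlgInt), (a - ε) ∈ M := by
      have h := congrArg (Polynomial.eval a)
        (Polynomial.X_pow_sub_one_eq_prod (Nat.pos_of_ne_zero hm0) hZ)
      simp only [Polynomial.eval_sub, Polynomial.eval_pow, Polynomial.eval_X, Polynomial.eval_one,
        Polynomial.eval_prod, Polynomial.eval_C] at h
      rw [← h, ← Ideal.Quotient.eq_zero_iff_mem, map_sub, map_pow, map_one, pow_orderOf_eq_one,
        sub_self]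
    obtain ⟨ε, hε, hεM⟩ := (Ideal.IsPrime.prod_mem_iff).1 hprod
    refine ⟨ε, ⟨m, hpm, ?_⟩, hεM⟩
    have h1 := (Polynomial.mem_nthRootsFinset (Nat.pos_of_ne_zero hm0) _).1 hε
    simpa using congrArg Subtype.val h1

end Cfsg.Agent.S0901
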