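import Cfsg.Statements.S0902
import Cfsg.Agent.Lib.Blocks.FirstMain
-- import your own Cfsg.Agent.* helpers here

set_option autoImplicit false
open Cfsg

namespace Cfsg.Agent.S0902

/-- If two irreducible characters of a finite group lie in the same block relative to one maximal ideal M of the algebraic integers containing the prime p, then at every element the difference of their central characters is an algebraic integer lying in every maximal ideal containing p; in particular they lie in the same block relative to any such ideal. -/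
theorem result {G : Type*} [Group G] [Finite G] (p : ℕ) [Fact p.Prime] (M : Ideal Cfsg.AlgInt) (hM : Cfsg.IsPModular p M) (χ ψ : Cfsg.IrrCharacter G) (h : Cfsg.SameBlock M (χ : G → ℂ) (ψ : G → ℂ)) (M' : Ideal Cfsg.AlgInt) (hM' : Cfsg.IsPModular p M') (g : G) : ∃ r : Cfsg.AlgInt, r ∈ M' ∧ (r : ℂ) = Cfsg.centralChar (χ : G → ℂ) g - Cfsg.centralChar (ψ : G → ℂ) g := by
  classical
  letI : Fintype G := Fintype.ofFinite G
  obtain ⟨a, b, ha, hb, hab⟩ := CfsgLib.Blocks.sameBlock_of_sameBlock hM hM' h g
  have hint : IsIntegral ℤ (Cfsg.centralChar (χ : G → ℂ) g - Cfsg.centralChar (ψ : G → ℂ) g) :=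
    (CfsgLib.Blocks.isIntegral_centralChar χ g).sub (CfsgLib.Blocks.isIntegral_centralChar ψ g)
  refine ⟨⟨_, hint⟩, ?_, rfl⟩
  have hb0 : (b : ℂ) ≠ 0 := CfsgLib.Blocks.coe_ne_zero_of_notMem hb
  have e : (⟨_, hint⟩ : Cfsg.AlgInt) * b = a := Subtype.ext (by
    show (Cfsg.centralChar (χ : G → ℂ) g - Cfsg.centralChar (ψ : G → ℂ) g) * (b : ℂ) = a
    rw [← hab, div_mul_cancel₀ _ hb0])
  exact (hM'.2.1.isPrime.mem_or_mem (e ▸ ha)).resolve_right hb

end Cfsg.Agent.S0902
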