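import Cfsg.Statements.S0903
import Mathlib

set_option autoImplicit false
open Cfsg

namespace Cfsg.Agent.S0903

/-- Let P be a p-subgroup of the finite group G, let c centralize P and let g, h ∈ G. The number of pairs (x, y) with x conjugate to g, y conjugate to h and x * y = c is congruent modulo p to the number of such pairs in which x and y both centralize P. (This is why the Brauer map on class sums is multiplicative.) -/
theorem result {G : Type*} [Group G] [Finite G] (p : ℕ) [Fact p.Prime] (P : Subgroup G) (hP : IsPGroup p P) (c : G) (hc : c ∈ Subgroup.centralizer (P : Set G)) (g h : G) : Nat.card {xy : G × G // IsConj g xy.1 ∧ IsConj h xy.2 ∧ xy.1 * xy.2 = c} ≡ Nat.card {xy : G × G // IsConj g xy.1 ∧ IsConj h xy.2 ∧ xy.1 * xy.2 = c ∧ xy.1 ∈ Subgroup.centralizer (P : Set G) ∧ xy.2 ∈ Subgroup.centralizer (P : Set G)} [MOD p] := by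
  classical
  let X := {xy : G × G // IsConj g xy.1 ∧ IsConj h xy.2 ∧ xy.1 * xy.2 = c}
  have hmem : ∀ (u : P) (xy : X), IsConj g ((u : G) * xy.1.1 * (u : G)⁻¹) ∧
      IsConj h ((u : G) * xy.1.2 * (u : G)⁻¹) ∧
      ((u : G) * xy.1.1 * (u : G)⁻¹) * ((u : G) * xy.1.2 * (u : G)⁻¹) = c := fun u xy =>
    ⟨xy.2.1.trans (isConj_iff.2 ⟨u, rfl⟩), xy.2.2.1.trans (isConj_iff.2 ⟨u, rfl⟩), by
      have h1 : (u : G) * c * (u : G)⁻¹ = c := by
        rw [Subgroup.mem_centralizer_iff.1 hc u u.2, mul_inv_cancel_right]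
      conv_rhs => rw [← h1, ← xy.2.2.2]
      group⟩
  letI : MulAction P X :=
    { smul := fun u xy =>
        ⟨((u : G) * xy.1.1 * (u : G)⁻¹, (u : G) * xy.1.2 * (u : G)⁻¹), hmem u xy⟩
      one_smul := fun xy => Subtype.ext (Prod.ext (by
          show ((1 : P) : G) * xy.1.1 * ((1 : P) : G)⁻¹ = xy.1.1; simp) (by
          show ((1 : P) : G) * xy.1.2 * ((1 : P) : G)⁻¹ = xy.1.2; simp))
      mul_smul := fun u v xy => Subtype.ext (Prod.ext (by
          show ((u * v : P) : G) * xy.1.1 * ((u * v : P) : G)⁻¹ =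
            (u : G) * ((v : G) * xy.1.1 * (v : G)⁻¹) * (u : G)⁻¹
          simp [mul_assoc]) (by
          show ((u * v : P) : G) * xy.1.2 * ((u * v : P) : G)⁻¹ =
            (u : G) * ((v : G) * xy.1.2 * (v : G)⁻¹) * (u : G)⁻¹
          simp [mul_assoc])) }
  refine (hP.card_modEq_card_fixedPoints X).trans (Eq.congr_right ?_ |>.1 rfl)
  congr 1
  refine Nat.card_congr
    { toFun := fun z => ⟨z.1.1, z.1.2.1, z.1.2.2.1, z.1.2.2.2, ?_, ?_⟩
      invFun := fun z => ⟨⟨z.1, z.2.1, z.2.2.1, z.2.2.2.1⟩, ?_⟩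
      left_inv := fun z => rfl
      right_inv := fun z => rfl }
  · exact Subgroup.mem_centralizer_iff.2 fun u hu =>
      mul_inv_eq_iff_eq_mul.1 (congrArg (fun w : X => w.1.1) (z.2 ⟨u, hu⟩))
  · exact Subgroup.mem_centralizer_iff.2 fun u hu =>
      mul_inv_eq_iff_eq_mul.1 (congrArg (fun w : X => w.1.2) (z.2 ⟨u, hu⟩))
  · intro u
    refine Subtype.ext (Prod.ext ?_ ?_)
    · exact mul_inv_eq_iff_eq_mul.2 (Subgroup.mem_centralizer_iff.1 z.2.2.2.2.1 u u.2)
    · exact mul_inv_eq_iff_eq_mul.2 (Subgroup.mem_centralizer_iff.1 z.2.2.2.2.2 u u.2)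

end Cfsg.Agent.S0903
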