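import Cfsg.Statements.S0905
import Mathlib
import Cfsg.Agent.Lib.Solvable.Cores

set_option autoImplicit false
open Cfsg
open MonoidAlgebra

namespace Cfsg.Agent.S0905

variable {G : Type*} [Group G] [Finite G] {p : ℕ} [Fact p.Prime] {F : Type*} [Field F] [CharP F p]

/-- A subspace stable under a `p`-group has a nonzero fixed vector. -/
theorem exists_fixed {P : Subgroup G} (hP : IsPGroup p P) (N : Submodule F (MonoidAlgebra F G))
    (hN : ∀ u ∈ P, ∀ v ∈ N, single u (1 : F) * v ∈ N) {v : MonoidAlgebra F G} (hv : v ∈ N)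
    (hv0 : v ≠ 0) : ∃ w ∈ N, w ≠ 0 ∧ ∀ u ∈ P, single u (1 : F) * w = w := by
  classical
  have := Fintype.ofFinite P
  let φ : (P → ZMod p) →+ MonoidAlgebra F G :=
    { toFun := fun f => ∑ u : P, (ZMod.castHom dvd_rfl F (f u)) • (single (u : G) (1 : F) * v)
      map_zero' := by simp
      map_add' := fun f f' => by
        rw [← Finset.sum_add_distrib]
        refine Finset.sum_congr rfl fun u _ => ?_
        rw [Pi.add_apply, map_add, add_smul] }
  have hmem : ∀ f, φ f ∈ N := fun f =>
    N.sum_mem fun u _ => N.smul_mem _ (hN u u.2 v hv)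
  have hshift : ∀ (a : P) (f : P → ZMod p),
      single (a : G) (1 : F) * φ f = φ fun u => f (a⁻¹ * u) := by
    intro a f
    show single (a : G) (1 : F) * ∑ u : P, _ = ∑ u : P, _
    rw [Finset.mul_sum]
    refine Fintype.sum_equiv (Equiv.mulLeft a) _ _ fun u => ?_
    dsimp only [Equiv.coe_mulLeft]
    rw [inv_mul_cancel_left, mul_smul_comm, ← mul_assoc, single_mul_single,
      one_mul, Subgroup.coe_mul]
  letI : MulAction P φ.range :=
    { smul := fun a w => ⟨single (a : G) (1 : F) * (w : MonoidAlgebra F G), by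
        obtain ⟨f, hf⟩ := w.2
        exact ⟨_, (hshift a f).symm.trans (congrArg _ hf)⟩⟩
      one_smul := fun w => Subtype.ext (by
        show single ((1 : P) : G) (1 : F) * (w : MonoidAlgebra F G) = w
        rw [OneMemClass.coe_one, ← one_def, one_mul])
      mul_smul := fun a b w => Subtype.ext (by
        show single ((a * b : P) : G) (1 : F) * (w : MonoidAlgebra F G) =
          single (a : G) 1 * (single (b : G) 1 * (w : MonoidAlgebra F G))
        rw [← mul_assoc, single_mul_single, one_mul, Subgroup.coe_mul]) }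
  have hv' : v ∈ φ.range := ⟨Pi.single 1 1, by
    show ∑ u : P, _ = v
    rw [Finset.sum_eq_single 1 (fun u _ hu => by simp [Pi.single_eq_of_ne hu]) (by simp)]
    simp [← one_def]⟩
  have : Finite φ.range := Finite.of_surjective φ.rangeRestrict φ.rangeRestrict_surjective
  have hcard : p ∣ Nat.card φ.range := by
    have h1 : Nat.card φ.range ∣ Nat.card (P → ZMod p) := AddSubgroup.card_range_dvd φ
    rw [Nat.card_fun, Nat.card_zmod] at h1
    obtain ⟨i, -, hi⟩ := (Nat.dvd_prime_pow Fact.out).1 h1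
    rcases i with _ | i
    · exfalso
      refine hv0 ?_
      have h2 := (Nat.card_eq_one_iff_unique.1 (hi.trans (pow_zero p))).1
      exact congrArg Subtype.val
        (Subsingleton.elim (⟨v, hv'⟩ : φ.range) ⟨0, φ.range.zero_mem⟩)
    · rw [hi, pow_succ]; exact dvd_mul_left p _
  have h0 : (0 : φ.range) ∈ MulAction.fixedPoints P φ.range := fun a => Subtype.ext (mul_zero _)
  obtain ⟨w, hw, hw0⟩ := hP.exists_fixed_point_of_prime_dvd_card_of_fixed_point φ.range hcard h0
  obtain ⟨f, hf⟩ := w.2
  exact ⟨w, hf ▸ hmem f, fun h => hw0 (Subtype.ext h).symm,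
    fun u hu => congrArg Subtype.val (hw ⟨u, hu⟩)⟩


/-- Let F be a field of characteristic p and let g be an element of the finite group G no conjugate of which centralizes O_p(G). Then the class sum of g is a nilpotent element of the group algebra F[G]. -/
theorem result {G : Type*} [Group G] [Finite G] (p : ℕ) [Fact p.Prime] (F : Type*) [Field F] [CharP F p] (g : G) (hg : ∀ x : G, IsConj g x → x ∉ Subgroup.centralizer (Cfsg.pCore p G : Set G)) : IsNilpotent (∑ᶠ x ∈ ConjClasses.carrier (ConjClasses.mk g), MonoidAlgebra.single x (1 : F) : MonoidAlgebra F G) := by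
  classical
  haveI := Fintype.ofFinite G
  set P := Cfsg.pCore p G
  have hP : IsPGroup p P := CfsgLib.Solvable.Cores.isPGroup_pCore p
  have hPn : P.Normal := CfsgLib.Solvable.Cores.pCore_normal p
  set s : Finset G := Finset.univ.filter fun x => IsConj g x with hsdef
  set K : MonoidAlgebra F G := ∑ᶠ x ∈ ConjClasses.carrier (ConjClasses.mk g), single x (1 : F)
  have hK : K = ∑ x ∈ s, single x (1 : F) :=
    finsum_mem_eq_finite_toFinset_sum _ (Set.toFinite _) |>.trans (Finset.sum_congr (by
      ext x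
      simp only [hsdef, Set.Finite.mem_toFinset, ConjClasses.mem_carrier_iff_mk_eq,
        ConjClasses.mk_eq_mk_iff_isConj, Finset.mem_filter, Finset.mem_univ, true_and]
      exact isConj_comm) fun _ _ => rfl)
  have hconj : ∀ a x : G, IsConj g x ↔ IsConj g (a * x * a⁻¹) := fun a x =>
    ⟨fun h => h.trans (isConj_iff.2 ⟨a, rfl⟩), fun h => h.trans (isConj_iff.2 ⟨a⁻¹, by group⟩)⟩
  have hcomm : ∀ a : G, single a (1 : F) * K = K * single a (1 : F) := by
    intro a
    rw [hK, Finset.mul_sum, Finset.sum_mul]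
    simp only [single_mul_single, one_mul]
    refine Finset.sum_nbij' (fun x => a * x * a⁻¹) (fun x => a⁻¹ * x * a) ?_ ?_ ?_ ?_ ?_
    · intro x hx
      simp only [Finset.mem_coe, hsdef, Finset.mem_filter, Finset.mem_univ, true_and] at hx ⊢
      exact (hconj a x).1 hx
    · intro x hx
      simp only [Finset.mem_coe, hsdef, Finset.mem_filter, Finset.mem_univ, true_and] at hx ⊢
      have := (hconj a⁻¹ x).1 hx
      rwa [inv_inv] at this
    · intro x _; group
    · intro x _; group
    · intro x _; simp [mul_assoc]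
  have hkill : ∀ w : MonoidAlgebra F G, (∀ u ∈ P, single u (1 : F) * w = w) → K * w = 0 := by
    intro w hw
    rw [hK, Finset.sum_mul,
      ← Finset.sum_fiberwise s (fun x : G => (x : G ⧸ P)) fun x => single x (1 : F) * w]
    refine Finset.sum_eq_zero fun q _ => ?_
    obtain ⟨x₀, rfl⟩ := QuotientGroup.mk_surjective (s := P) q
    have hconst : ∀ x ∈ s.filter (fun x : G => (x : G ⧸ P) = (x₀ : G ⧸ P)),
        single x (1 : F) * w = single x₀ (1 : F) * w := by
      intro x hx
      have h1 : x₀⁻¹ * x ∈ P := QuotientGroup.eq.1 (Finset.mem_filter.1 hx).2.symm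
      have h3 := congrArg (single x₀ (1 : F) * ·) (hw _ h1)
      simpa [← mul_assoc] using h3
    rw [Finset.sum_congr rfl hconst, Finset.sum_const]
    letI : MulAction P {x : G // IsConj g x ∧ (x : G ⧸ P) = (x₀ : G ⧸ P)} :=
      { smul := fun u x => ⟨u * x * (u : G)⁻¹, (hconj u x).1 x.2.1, by
          rw [QuotientGroup.mk_mul, QuotientGroup.mk_mul, QuotientGroup.mk_inv,
            (QuotientGroup.eq_one_iff (u : G)).2 u.2, one_mul, inv_one, mul_one, x.2.2]⟩
        one_smul := fun x => Subtype.ext (by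
          show ((1 : P) : G) * x * ((1 : P) : G)⁻¹ = x
          simp)
        mul_smul := fun a b x => Subtype.ext (by
          show ((a * b : P) : G) * x * ((a * b : P) : G)⁻¹ =
            (a : G) * (b * x * (b : G)⁻¹) * (a : G)⁻¹
          rw [Subgroup.coe_mul]; group) }
    have h2 := hP.card_modEq_card_fixedPoints {x : G // IsConj g x ∧ (x : G ⧸ P) = (x₀ : G ⧸ P)}
    have : IsEmpty (MulAction.fixedPoints P {x : G // IsConj g x ∧ (x : G ⧸ P) = (x₀ : G ⧸ P)}) :=
      ⟨fun ⟨x, hx⟩ => hg x x.2.1 fun u hu => by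
        exact mul_inv_eq_iff_eq_mul.1 (congrArg Subtype.val (hx ⟨u, hu⟩))⟩
    rw [Nat.card_of_isEmpty (α := MulAction.fixedPoints P
      {x : G // IsConj g x ∧ (x : G ⧸ P) = (x₀ : G ⧸ P)}), Nat.modEq_zero_iff_dvd, Nat.card_eq_fintype_card,
      Fintype.card_subtype] at h2
    rw [hsdef, Finset.filter_filter, ← Nat.cast_smul_eq_nsmul F,
      (CharP.cast_eq_zero_iff F p _).2 h2, zero_smul]
  let f : Module.End F (MonoidAlgebra F G) := LinearMap.mulLeft F K
  have hf : ∀ (n : ℕ) (z : MonoidAlgebra F G), (f ^ n) z = K ^ n * z := fun n z => by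
    simp [f, LinearMap.pow_mulLeft]
  obtain ⟨m, hm⟩ := Filter.eventually_atTop.1 f.eventually_isCompl_ker_pow_range_pow
  refine ⟨m + 1, ?_⟩
  by_contra hne
  have hmemN : ∀ u ∈ P, ∀ z ∈ LinearMap.range (f ^ (m + 1)),
      single u (1 : F) * z ∈ LinearMap.range (f ^ (m + 1)) := by
    rintro u - _ ⟨z, rfl⟩
    refine ⟨single u (1 : F) * z, ?_⟩
    rw [hf, hf, ← mul_assoc, ← mul_assoc, ((Commute.pow_right (hcomm u) (m + 1))).eq]
  obtain ⟨w, hwN, hw0, hw⟩ := exists_fixed hP _ hmemN
    (⟨1, by rw [hf, mul_one]⟩ : K ^ (m + 1) ∈ LinearMap.range (f ^ (m + 1))) hne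
  refine hw0 (Submodule.disjoint_def.1 (hm (m + 1) (Nat.le_succ m)).disjoint w ?_ hwN)
  rw [LinearMap.mem_ker, hf, pow_succ, mul_assoc, hkill w hw, mul_zero]

end Cfsg.Agent.S0905
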