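import Cfsg.Statements.S0910
import Cfsg.Agent.Lib.Blocks.Local
import Cfsg.Agent.Lib.DegreeTools.Basic
import Cfsg.Agent.Lib.Char.Linear
-- import your own Cfsg.Agent.* helpers here

set_option autoImplicit false
open Cfsg

namespace Cfsg.Agent.S0910

/-- Let G be a non-abelian finite simple group and p a prime. If an irreducible character χ lies in the principal block (relative to a maximal ideal of the algebraic integers containing p) and χ 1 is a power of p, then χ is the principal character. -/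
theorem result {G : Type*} [Group G] [Finite G] (p : ℕ) [Fact p.Prime] (M : Ideal Cfsg.AlgInt) (hM : Cfsg.IsPModular p M) [IsSimpleGroup G] (hna : ∃ a b : G, a * b ≠ b * a) (χ : Cfsg.IrrCharacter G) (hχ : χ ∈ Cfsg.principalBlock M G) (k : ℕ) (hdeg : (χ : G → ℂ) 1 = (p : ℂ) ^ k) : (χ : G → ℂ) = fun _ => 1 := by
  classical
  letI : Fintype G := Fintype.ofFinite G
  by_contra hne
  have hint : ∀ g : G, (χ : G → ℂ) g = (χ : G → ℂ) 1 → g = 1 := by
    intro g hg
    by_contra hg1
    let K := CfsgLib.Char.charKer (CfsgLib.Char.isCharacter_irr χ)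
    haveI : K.Normal := CfsgLib.Char.charKer_normal (CfsgLib.Char.isCharacter_irr χ)
    rcases IsSimpleGroup.eq_bot_or_eq_top_of_normal K inferInstance with h | h
    · exact hg1 (Subgroup.mem_bot.1 (h ▸ (CfsgLib.Char.mem_charKer _).2 hg))
    · have hall : ∀ x : G, (χ : G → ℂ) x = (χ : G → ℂ) 1 := fun x =>
        (CfsgLib.Char.mem_charKer _).1 (h ▸ Subgroup.mem_top x : x ∈ K)
      have htriv : χ = CfsgLib.Blocks.trivChar G := by
        by_contra hn
        have h2 := CfsgLib.Char.classInner_irr_ne χ.2 (CfsgLib.Blocks.trivChar G).2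
          fun e => hn (Subtype.ext e)
        simp [Cfsg.classInner, hall, CfsgLib.Blocks.irr_one_ne_zero χ] at h2
      exact hne (by rw [htriv]; rfl)
  have hscal : ∀ g : G, ‖(χ : G → ℂ) g‖ = Cfsg.charDegree (χ : G → ℂ) → g = 1 := by
    intro g hg
    obtain ⟨n, ρ, hρ, he⟩ := χ.2
    haveI := hρ
    have hd : (Cfsg.charDegree (χ : G → ℂ) : ℝ) = Module.finrank ℂ (Fin n → ℂ) := by
      have h := CfsgLib.Blocks.irr_one_eq χ
      rw [← he, Representation.char_one] at h
      have h' := Nat.cast_injective h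
      rw [← he, ← h']
    rw [← he] at hg hd
    obtain ⟨ω, -, hω, -⟩ := CfsgLib.Char.exists_scalar_of_norm_char_eq ρ g (hg.trans hd)
    have hcomm : ∀ x : G, g * x = x * g := fun x => by
      have h1 : g * x * g⁻¹ * x⁻¹ = 1 := hint _ (by
        rw [← he]
        show LinearMap.trace ℂ _ (ρ (g * x * g⁻¹ * x⁻¹)) = LinearMap.trace ℂ _ (ρ 1)
        congr 1
        have h2 : Commute (ρ g) (ρ x) := by
          rw [hω]
          exact LinearMap.ext fun v => by simp
        rw [map_mul, map_mul, map_mul, h2.eq, mul_assoc (ρ x), ← map_mul, mul_inv_cancel,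
          map_one, mul_one, ← map_mul, mul_inv_cancel, map_one])
      have h3 := mul_inv_eq_one.1 h1
      exact mul_inv_eq_iff_eq_mul.1 h3
    have hc : g ∈ Subgroup.center G := Subgroup.mem_center_iff.2 fun x => (hcomm x).symm
    rcases IsSimpleGroup.eq_bot_or_eq_top_of_normal (Subgroup.center G) inferInstance with h | h
    · exact Subgroup.mem_bot.1 (h ▸ hc)
    · obtain ⟨a, b, hab⟩ := hna
      exact absurd ((Subgroup.mem_center_iff.1 (h ▸ Subgroup.mem_top b : b ∈ Subgroup.center G)) a) hab
  by_cases hpG : p ∣ Nat.card G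
  swap
  · have h0 : CfsgLib.Blocks.degVal p (CfsgLib.Blocks.trivChar G)
        = (Nat.card G).factorization p := by
      have := CfsgLib.Blocks.degVal_le (p := p) (CfsgLib.Blocks.trivChar G)
      rw [Nat.factorization_eq_zero_of_not_dvd hpG] at this ⊢
      omega
    have hb := (CfsgLib.Blocks.blockOf_eq_singleton_iff hM _).2 h0
    have hm : χ ∈ Cfsg.blockOf M (CfsgLib.Blocks.trivChar G : G → ℂ) := hχ
    rw [hb, Set.mem_singleton_iff] at hm
    exact hne (by rw [hm]; rfl)
  obtain ⟨P⟩ : Nonempty (Sylow p G) := inferInstance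
  haveI hPnt : Nontrivial (P : Subgroup G) := by
    rw [← Finite.one_lt_card_iff_nontrivial, P.card_eq_multiplicity]
    exact Nat.one_lt_pow (Nat.Prime.factorization_pos_of_dvd hM.1 Nat.card_pos.ne' hpG).ne' hM.1.one_lt
  haveI := IsPGroup.center_nontrivial P.isPGroup'
  obtain ⟨z, hz⟩ := exists_ne (1 : Subgroup.center (P : Subgroup G))
  set g : G := ((z : (P : Subgroup G)) : G)
  have hg1 : g ≠ 1 := fun h => hz (Subtype.ext (Subtype.ext h))
  have hidx : ¬ p ∣ (Subgroup.centralizer ({g} : Set G)).index := fun h => by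
    refine P.not_dvd_index (h.trans (Subgroup.index_dvd_of_le fun u hu =>
      Subgroup.mem_centralizer_singleton_iff.2 ?_))
    exact congrArg Subtype.val (Subgroup.mem_center_iff.1 z.2 ⟨u, hu⟩)
  have hd : Cfsg.charDegree (χ : G → ℂ) = p ^ k := by
    apply Nat.cast_injective (R := ℂ)
    rw [← CfsgLib.Blocks.irr_one_eq, hdeg, Nat.cast_pow]
  have h0 : (χ : G → ℂ) g = 0 := by
    rcases CfsgLib.DegreeTools.eq_zero_or_norm_eq_of_coprime χ g
      (hd ▸ Nat.Coprime.pow_right k (hM.1.coprime_iff_not_dvd.2 hidx).symm) with h | h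
    · exact h
    · exact absurd (hscal g h) hg1
  have h1 := CfsgLib.Blocks.IsPBlock.sameBlock hM CfsgLib.Blocks.isPBlock_principalBlock hχ
    (CfsgLib.Blocks.trivChar_mem_principalBlock hM) g
  simp [Cfsg.centralChar, h0] at h1
  exact hidx ((CfsgLib.Blocks.LI.natCast_iff hM _).1 (by simpa using CfsgLib.Blocks.LI.neg h1))

end Cfsg.Agent.S0910
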