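import Cfsg.Statements.S0911
import Cfsg.Agent.Lib.Blocks.Local
-- import your own Cfsg.Agent.* helpers here

set_option autoImplicit false
open Cfsg

namespace Cfsg.Agent.S0911

/-- The min–max Theorem for defect classes. Let B be a block of the finite group G relative to a maximal ideal M of the algebraic integers containing the prime p, let g represent a defect class of B and let D be a Sylow p-subgroup of the centralizer of g (viewed in G). For any h: (a) if the idempotent coefficient of B at h is a local integer outside the local ideal, then some conjugate of D contains a Sylow p-subgroup of the centralizer of h; (b) if the central character of some member of B at h is outside the local ideal, then some conjugate of D is contained in a Sylow p-subgroup of the centralizer of h. -/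
theorem result {G : Type*} [Group G] [Finite G] (p : ℕ) [Fact p.Prime] (M : Ideal Cfsg.AlgInt) (hM : Cfsg.IsPModular p M) (B : Set (Cfsg.IrrCharacter G)) (hB : Cfsg.IsPBlock M B) (g : G) (hg : Cfsg.IsDefectClass M B g) (D : Sylow p (Subgroup.centralizer ({g} : Set G))) (h : G) : (Cfsg.MemLocalRing M (Cfsg.blockCoeff B h) → ¬ Cfsg.MemLocalIdeal M (Cfsg.blockCoeff B h) → ∃ (x : G) (Q : Sylow p (Subgroup.centralizer ({h} : Set G))), (Q : Subgroup (Subgroup.centralizer ({h} : Set G))).map (Subgroup.centralizer ({h} : Set G)).subtype ≤ ((D : Subgroup (Subgroup.centralizer ({g} : Set G))).map (Subgroup.centralizer ({g} : Set G)).subtype).map (MulAut.conj x).toMonoidHom) ∧ ((∃ χ ∈ B, ¬ Cfsg.MemLocalIdeal M (Cfsg.centralChar (χ : G → ℂ) h)) → ∃ (x : G) (Q : Sylow p (Subgroup.centralizer ({h} : Set G))), ((D : Subgroup (Subgroup.centralizer ({g} : Set G))).map (Subgroup.centralizer ({g} : Set G)).subtype).map (MulAut.conj x).toMonoidHom ≤ (Q : Subgroup (Subgroup.centralizer ({h} : Set G))).map (Subgroup.centralizer ({h} : Set G)).subtype) := by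
  classical
  letI : Fintype G := Fintype.ofFinite G
  have hD : Cfsg.IsDefectGroup p M B
      ((D : Subgroup (Subgroup.centralizer ({g} : Set G))).map
        (Subgroup.centralizer ({g} : Set G)).subtype) := ⟨g, hg, D, rfl⟩
  constructor
  · intro _ hne
    obtain ⟨Q⟩ : Nonempty (Sylow p (Subgroup.centralizer ({h} : Set G))) := inferInstance
    have hcent : h ∈ Subgroup.centralizer
        (((Q : Subgroup (Subgroup.centralizer ({h} : Set G))).map
          (Subgroup.centralizer ({h} : Set G)).subtype : Subgroup G) : Set G) :=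
      Subgroup.mem_centralizer_iff.2 fun u hu => by
        obtain ⟨⟨v, hv⟩, -, rfl⟩ := hu
        exact Subgroup.mem_centralizer_singleton_iff.1 hv
    obtain ⟨E, hE, hle⟩ := CfsgLib.Blocks.exists_isDefectGroup_ge hM hB
      (IsPGroup.map Q.isPGroup' _) hcent hne
    obtain ⟨y, hy⟩ := CfsgLib.Blocks.exists_conj_eq_defectGroup hM hB hD hE
    exact ⟨y, Q, hy ▸ hle⟩
  · rintro ⟨χ, hχ, hne⟩
    obtain ⟨h', hh', hcent⟩ :=
      CfsgLib.Blocks.exists_conj_centralizes_defectGroup hM hB hD hχ hne
    obtain ⟨y, rfl⟩ := isConj_iff.1 hh'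
    set D' := (D : Subgroup (Subgroup.centralizer ({g} : Set G))).map
      (Subgroup.centralizer ({g} : Set G)).subtype
    have hD'p : IsPGroup p (D'.map (MulAut.conj y⁻¹).toMonoidHom) :=
      IsPGroup.map (CfsgLib.Blocks.isPGroup_defectGroup hD) _
    have hle : D'.map (MulAut.conj y⁻¹).toMonoidHom ≤ Subgroup.centralizer ({h} : Set G) := by
      rintro _ ⟨u, hu, rfl⟩
      have h1 := Subgroup.mem_centralizer_iff.1 hcent u hu
      have h2 := congrArg (fun z => y⁻¹ * z * y) h1
      refine Subgroup.mem_centralizer_singleton_iff.2 ?_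
      simpa [mul_assoc] using h2
    obtain ⟨Q, hQ⟩ := (hD'p.comap_subtype (K := Subgroup.centralizer ({h} : Set G))).exists_le_sylow
    exact ⟨y⁻¹, Q, fun u hu => ⟨⟨u, hle hu⟩, hQ hu, rfl⟩⟩

end Cfsg.Agent.S0911
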