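import Cfsg.Statements.S0915
import Cfsg.Agent.Lib.Blocks.PrincipalType
-- import your own Cfsg.Agent.* helpers here

set_option autoImplicit false
open Cfsg CfsgLib.Blocks CfsgLib.Blocks.FongReynolds

namespace Cfsg.Agent.S0915

/-- Let G be a finite p-solvable group with trivial largest normal subgroup of order prime to p. Then any two irreducible characters of G lie in the same block relative to every maximal ideal M of the algebraic integers containing p: G has a single p-block. -/
theorem result {G : Type*} [Group G] [Finite G] (p : ℕ) [Fact p.Prime] (M : Ideal Cfsg.AlgInt) (hM : Cfsg.IsPModular p M) (hsolv : Cfsg.IsPSolvable p G) (hcore : Cfsg.pPrimeCore p G = ⊥) (χ ψ : Cfsg.IrrCharacter G) : Cfsg.SameBlock M (χ : G → ℂ) (ψ : G → ℂ) := by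
  classical
  letI : Fintype G := Fintype.ofFinite G
  have := Fact.mk hM.1
  haveI : (Cfsg.pPrimePCore p G).Normal := Subgroup.Normal.comap inferInstance _
  set K := Cfsg.pPrimeCore p G with hKdef
  letI : Fintype K := Fintype.ofFinite K
  have hK1 : Nat.card K = 1 := by rw [hcore]; exact Subgroup.card_bot
  have hsub : ∀ k : K, k = 1 := fun k => Subtype.ext (Subgroup.mem_bot.1 (hcore ▸ k.2 : (k : G) ∈ (⊥ : Subgroup G)))
  have hK' : ¬ p ∣ Nat.card K := by rw [hK1]; exact hM.1.not_dvd_one
  have hKL : K ≤ Cfsg.pPrimePCore p G := hcore.le.trans bot_le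
  obtain ⟨k, hk⟩ : ∃ k, K.relIndex (Cfsg.pPrimePCore p G) = p ^ k := by
    obtain ⟨k, hk⟩ := (CfsgLib.Solvable.Cores.isPGroup_pCore (G := G ⧸ Cfsg.pPrimeCore p G) p).exists_card_eq
    refine ⟨k, ?_⟩
    rw [← hk, ← Subgroup.relIndex_bot_left]
    conv_rhs => rw [← Subgroup.map_comap_eq_self_of_surjective
      (QuotientGroup.mk'_surjective (Cfsg.pPrimeCore p G)) (Cfsg.pCore p _), ← Subgroup.relIndex_comap,
      MonoidHom.comap_bot, QuotientGroup.ker_mk']
    rfl
  obtain ⟨P⟩ : Nonempty (Sylow p ↥(Cfsg.pPrimePCore p G)) := inferInstance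
  have hθ : ∀ g : G, conjIrr g (trivChar K) = trivChar K := fun g => Subtype.ext rfl
  have hover : ∀ φ : IrrCharacter G,
      classInner (fun n : K => (φ : G → ℂ) n) (trivChar K : K → ℂ) ≠ 0 := by
    intro φ h
    have : ∑ n : K, (φ : G → ℂ) n * (starRingEnd ℂ) ((trivChar K : K → ℂ) n) = 0 := by
      simpa [Cfsg.classInner, hK1] using h
    rw [Finset.sum_eq_single (1 : K) (fun k _ hk => absurd (hsub k) hk) (by simp)] at this
    simp [trivChar, irr_one_ne_zero φ] at this
  obtain ⟨hB, -, -⟩ := PrincipalType.block_over hM hK' hKL hk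
    (Q := (P : Subgroup ↥(Cfsg.pPrimePCore p G)).map (Cfsg.pPrimePCore p G).subtype)
    (Subgroup.map_subtype_le _) (P.isPGroup'.map _)
    (by
      rw [Subgroup.relIndex, Subgroup.subgroupOf, Subgroup.comap_map_eq_self_of_injective
        (Cfsg.pPrimePCore p G).subtype_injective]
      exact P.not_dvd_index)
    (CfsgLib.Fusion.PSolvable.isPConstrained hsolv P) hθ
    (B := Set.univ) (fun φ => ⟨fun _ => hover φ, fun _ => Set.mem_univ _⟩)
  exact IsPBlock.sameBlock hM hB (Set.mem_univ χ) (Set.mem_univ ψ)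

end Cfsg.Agent.S0915
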