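import Cfsg.Statements.S0916
import Mathlib

set_option autoImplicit false
open Cfsg

namespace Cfsg.Agent.S0916

/-- Let P be a p-subgroup of the finite group G, C its centralizer and N its normalizer. Say that a conjugacy class (of G, or of N) has defect group P when P is a Sylow p-subgroup of the centralizer (in G, respectively in N) of some element of the class. Then: (i) if the class of g in G has defect group P, the elements of that class lying in C form a single N-class, again with defect group P; (ii) every N-class with defect group P arises this way from exactly one G-class with defect group P. -/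
theorem result {G : Type*} [Group G] [Finite G] (p : ℕ) [Fact p.Prime] (P : Subgroup G) (hP : IsPGroup p P) : (∀ g : G, (∃ S : Sylow p (Subgroup.centralizer ({g} : Set G)), (S : Subgroup (Subgroup.centralizer ({g} : Set G))).map (Subgroup.centralizer ({g} : Set G)).subtype = P) → (∃ c : G, IsConj g c ∧ c ∈ Subgroup.centralizer (P : Set G)) ∧ (∀ c₁ c₂ : G, IsConj g c₁ → IsConj g c₂ → c₁ ∈ Subgroup.centralizer (P : Set G) → c₂ ∈ Subgroup.centralizer (P : Set G) → ∃ n ∈ Subgroup.normalizer (P : Set G), n * c₁ * n⁻¹ = c₂)) ∧ (∀ c : G, c ∈ Subgroup.centralizer (P : Set G) → (∃ S : Sylow p (Subgroup.centralizer ({c} : Set G) ⊓ Subgroup.normalizer (P : Set G) : Subgroup G), (S : Subgroup ↥(Subgroup.centralizer ({c} : Set G) ⊓ Subgroup.normalizer (P : Set G))).map (Subgroup.centralizer ({c} : Set G) ⊓ Subgroup.normalizer (P : Set G)).subtype = P) → ∃ S : Sylow p (Subgroup.centralizer ({c} : Set G)), (S : Subgroup (Subgroup.centralizer ({c} : Set G))).map (Subgroup.centralizer ({c} : Set G)).subtype = P) := by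
  classical
  have hcent : ∀ g : G, (∃ S : Sylow p (Subgroup.centralizer ({g} : Set G)),
      (S : Subgroup (Subgroup.centralizer ({g} : Set G))).map
        (Subgroup.centralizer ({g} : Set G)).subtype = P) →
      g ∈ Subgroup.centralizer (P : Set G) := by
    rintro g ⟨S, rfl⟩
    refine Subgroup.mem_centralizer_iff.2 ?_
    rintro _ ⟨u, -, rfl⟩
    exact Subgroup.mem_centralizer_singleton_iff.1 u.2
  have hcardC : ∀ g c : G, IsConj g c → Nat.card (Subgroup.centralizer ({g} : Set G)) =
      Nat.card (Subgroup.centralizer ({c} : Set G)) := by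
    intro g c hgc
    obtain ⟨x, rfl⟩ := isConj_iff.1 hgc
    refine Nat.card_congr ((MulAut.conj x).toEquiv.subtypeEquiv fun y => ?_)
    simp only [Subgroup.mem_centralizer_singleton_iff, MulEquiv.toEquiv_eq_coe, EquivLike.coe_coe]
    rw [← MulAut.conj_apply x g, ← map_mul, ← map_mul, (MulAut.conj x).injective.eq_iff]
  refine ⟨fun g hg => ⟨⟨g, IsConj.refl g, hcent g hg⟩, fun c₁ c₂ h₁ h₂ hc₁ hc₂ => ?_⟩, ?_⟩
  · obtain ⟨S, hS⟩ := hg
    have hSc : Nat.card P = p ^ (Nat.card (Subgroup.centralizer ({c₁} : Set G))).factorization p := by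
      rw [← hS, Subgroup.card_map_of_injective (Subgroup.subtype_injective _),
        Sylow.card_eq_multiplicity, hcardC g c₁ h₁]
    obtain ⟨x, hx⟩ := isConj_iff.1 (h₁.symm.trans h₂)
    set C := Subgroup.centralizer ({c₁} : Set G)
    have hPC : P ≤ C := fun u hu => Subgroup.mem_centralizer_singleton_iff.2
      (Subgroup.mem_centralizer_iff.1 hc₁ u hu)
    set Q := P.map (MulAut.conj x⁻¹).toMonoidHom with hQ
    have hQC : Q ≤ C := by
      rintro _ ⟨u, hu, rfl⟩
      refine Subgroup.mem_centralizer_singleton_iff.2 ?_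
      have h := Subgroup.mem_centralizer_iff.1 hc₂ u hu
      rw [← hx] at h
      simp only [MulEquiv.coe_toMonoidHom, MulAut.conj_apply, inv_inv]
      have h' := congrArg (fun z => x⁻¹ * z * x) h
      simpa [mul_assoc] using h'
    let S₁ : Sylow p C := Sylow.ofCard (P.subgroupOf C) (by
      rw [Nat.card_congr (Subgroup.subgroupOfEquivOfLe hPC).toEquiv, hSc])
    let S₂ : Sylow p C := Sylow.ofCard (Q.subgroupOf C) (by
      rw [Nat.card_congr (Subgroup.subgroupOfEquivOfLe hQC).toEquiv, hQ,
        Subgroup.card_map_of_injective (MulEquiv.injective _), hSc])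
    obtain ⟨y, hy⟩ := MulAction.exists_smul_eq C S₁ S₂
    have hy' : ∀ u ∈ P, (y : G) * u * (y : G)⁻¹ ∈ Q := by
      intro u hu
      have h1 : y * ⟨u, hPC hu⟩ * y⁻¹ ∈ (y • S₁ : Sylow p C) := ⟨⟨u, hPC hu⟩, hu, rfl⟩
      rw [hy] at h1
      exact h1
    have hle : P.map (MulAut.conj (x * y)).toMonoidHom ≤ P := by
      rintro _ ⟨u, hu, rfl⟩
      obtain ⟨w, hw, hwu⟩ := hy' u hu
      simp only [MulEquiv.coe_toMonoidHom, MulAut.conj_apply] at hwu ⊢
      rw [show x * (y : G) * u * (x * (y : G))⁻¹ = x * ((y : G) * u * (y : G)⁻¹) * x⁻¹ by group,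
        ← hwu]
      simpa [mul_assoc] using hw
    have heq := Subgroup.eq_of_le_of_card_ge hle
      (Subgroup.card_map_of_injective (MulEquiv.injective _)).ge
    refine ⟨x * y, ?_, ?_⟩
    · rw [Subgroup.mem_normalizer_iff]
      intro z
      constructor
      · intro hz
        exact hle ⟨z, hz, by simp [mul_assoc]⟩
      · intro hz
        obtain ⟨w, hw, hwz⟩ := heq.ge hz
        simp only [MulEquiv.coe_toMonoidHom, MulAut.conj_apply, mul_right_cancel_iff,
          mul_left_cancel_iff] at hwz
        exact hwz ▸ hw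
    · rw [mul_inv_rev, ← hx]
      have := Subgroup.mem_centralizer_singleton_iff.1 y.2
      simp only [mul_assoc]
      rw [← mul_assoc (y : G) c₁, this, mul_assoc, mul_inv_cancel_left]
  · rintro c hc hex
    set C := Subgroup.centralizer ({c} : Set G)
    obtain ⟨S, hS⟩ := hex
    have hPC : P ≤ C := fun u hu => Subgroup.mem_centralizer_singleton_iff.2
      (Subgroup.mem_centralizer_iff.1 hc u hu)
    obtain ⟨T, hT⟩ := (hP.comap_of_injective C.subtype C.subtype_injective :
      IsPGroup p (P.subgroupOf C)).exists_le_sylow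
    refine ⟨T, ?_⟩
    rcases eq_or_lt_of_le hT with h | h
    · rw [← h]
      exact Subgroup.map_subgroupOf_eq_of_le hPC
    exfalso
    set Q := P.subgroupOf C
    have hTn : Group.IsNilpotent (T : Subgroup C) := T.2.isNilpotent
    have hlt : Q.subgroupOf T < ⊤ := by
      rw [lt_top_iff_ne_top, Ne, Subgroup.subgroupOf_eq_top]
      exact fun h' => h.not_ge h'
    have hgrow := normalizerCondition_of_isNilpotent (G := (T : Subgroup C)) (Q.subgroupOf T) hlt
    obtain ⟨z, hz, hzQ⟩ := SetLike.exists_of_lt hgrow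
    let D := Subgroup.centralizer ({c} : Set G) ⊓ Subgroup.normalizer (P : Set G)
    have hzD : ((z : C) : G) ∈ D := by
      refine ⟨(z : C).2, Subgroup.mem_normalizer_iff.2 fun u => ?_⟩
      constructor
      · intro hu
        exact (Subgroup.mem_normalizer_iff.1 hz ⟨⟨u, hPC hu⟩, h.le hu⟩).1 hu
      · intro hu
        have huC : u ∈ C := by
          have h1 := C.mul_mem (C.mul_mem (C.inv_mem (z : C).2) (hPC hu)) (z : C).2
          simpa [mul_assoc] using h1
        have huT : (⟨u, huC⟩ : C) ∈ (T : Subgroup C) := by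
          have h1 : (z : C) * ⟨u, huC⟩ * (z : C)⁻¹ ∈ T :=
            h.le (show (z : C) * ⟨u, huC⟩ * (z : C)⁻¹ ∈ Q from hu)
          have h2 := T.1.mul_mem (T.1.mul_mem (T.1.inv_mem z.2) h1) z.2
          simpa [mul_assoc] using h2
        exact (Subgroup.mem_normalizer_iff.1 hz ⟨⟨u, huC⟩, huT⟩).2 hu
    have hPD : P ≤ D := le_inf hPC Subgroup.le_normalizer
    set R : Subgroup G := P ⊔ Subgroup.zpowers ((z : C) : G)
    have hRD : R ≤ D := sup_le hPD ((Subgroup.zpowers_le).2 hzD)
    have hRT : R ≤ (T : Subgroup C).map C.subtype :=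
      sup_le (fun u hu => ⟨⟨u, hPC hu⟩, h.le hu, rfl⟩)
        ((Subgroup.zpowers_le).2 ⟨(z : C), z.2, rfl⟩)
    have hR : IsPGroup p R := (T.2.map C.subtype).to_le hRT
    have hSR : (S : Subgroup D) ≤ R.subgroupOf D := fun s hs => by
      exact Subgroup.mem_sup_left (hS.le ⟨s, hs, rfl⟩)
    have h3 := S.3 (hR.comap_of_injective D.subtype D.subtype_injective) hSR
    refine hzQ ?_
    have h4 : (⟨((z : C) : G), hzD⟩ : D) ∈ (S : Subgroup D) := by
      rw [← h3]
      exact Subgroup.mem_sup_right (Subgroup.mem_zpowers _)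
    exact hS.le ⟨_, h4, rfl⟩

end Cfsg.Agent.S0916
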