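import Cfsg.Statements.S0922
import Cfsg.Agent.Lib.Blocks.SecondMainBlocks
import Cfsg.Agent.Lib.Blocks.Parts
-- import your own Cfsg.Agent.* helpers here

set_option autoImplicit false
open Cfsg

namespace Cfsg.Agent.S0922

/-- Let H be a subgroup of the finite group G and let the block b of H induce the block B of G (relative to a maximal ideal M of the algebraic integers containing the prime p). Let h ∈ H be such that the centralizer in G of the p-part of h lies in H, and let χ be an irreducible character of G not in B. Then the sum over k ∈ H of (the idempotent coefficient of b at k) times χ (k * h) vanishes; that is, χ annihilates f_b h where f_b is the sum of the central idempotents of the members of b. -/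
theorem result {G : Type*} [Group G] [Finite G] (p : ℕ) [Fact p.Prime] (M : Ideal Cfsg.AlgInt) (hM : Cfsg.IsPModular p M) (H : Subgroup G) (b : Set (Cfsg.IrrCharacter H)) (B : Set (Cfsg.IrrCharacter G)) (hind : Cfsg.IsInducedBlock M H b B) (h : H) (hC : ∀ z : G, Cfsg.IsPPart p (h : G) z → Subgroup.centralizer ({z} : Set G) ≤ H) (χ : Cfsg.IrrCharacter G) (hχ : χ ∉ B) : ∑ᶠ k : H, Cfsg.blockCoeff b k * (χ : G → ℂ) ((k : G) * (h : G)) = 0 := by
  classical
  cases nonempty_fintype G
  obtain ⟨x, y, hpart, hxy, hcomm, hy, ⟨k, hk⟩, hxm, hym⟩ :=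
    CfsgLib.Blocks.exists_isPPart (G := G) hM.1 (h : G)
  have hle : Subgroup.zpowers (h : G) ≤ H := by rw [Subgroup.zpowers_le]; exact h.2
  set B' := Cfsg.blockOf M (χ : G → ℂ)
  have hB' : Cfsg.IsPBlock M B' := CfsgLib.Blocks.isPBlock_blockOf χ
  have hχ' : χ ∈ B' := CfsgLib.Blocks.SameBlock_refl hM _
  have hker : ∀ ξ ∈ b, Cfsg.MemLocalIdeal M
      (CfsgLib.Blocks.omega (ξ : H → ℂ) fun z : H => Cfsg.blockCoeff B' z) := by
    intro ξ hξ
    obtain ⟨χ₀, hχ₀⟩ := CfsgLib.Blocks.IsPBlock.nonempty hM hind.2.1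
    have h1 := CfsgLib.Blocks.IsInducedBlock.omega_congr hM hind hξ hχ₀
      (CfsgLib.Blocks.blockCoeff_isClassFunction B') (CfsgLib.Blocks.blockCoeff_LR hM hB')
    rw [CfsgLib.Blocks.omega_blockCoeff, CfsgLib.Blocks.blockInd_of_notMem fun h' =>
      hχ (CfsgLib.Blocks.IsPBlock.eq_of_mem hM hB' hind.2.1 h' hχ₀ ▸ hχ'), sub_zero] at h1
    exact h1
  have := CfsgLib.Blocks.second_main_core hM hk hy hcomm (hle hxm) (hle hym) (hC x hpart)
    hind.1 hB' hχ' hker
  rw [finsum_eq_sum_of_fintype, ← this]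
  refine Finset.sum_congr rfl fun z _ => ?_
  rw [CfsgLib.Blocks.irr_mul_comm χ (z : G) (h : G), ← hxy]

end Cfsg.Agent.S0922
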