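import Cfsg.Statements.S0925
import Cfsg.Agent.Lib.Blocks.Section
-- import your own Cfsg.Agent.* helpers here

set_option autoImplicit false
open Cfsg

namespace Cfsg.Agent.S0925

/-- (i) Let ϑ be a class function on the finite group G and x a p-element, and suppose ϑ vanishes at every element whose p-part is conjugate to x. Then for every block B (relative to a maximal ideal M of the algebraic integers containing p) the B-part of ϑ — the sum over χ ∈ B of the inner product of ϑ with χ, times χ — also vanishes at every such element. (ii) Block orthogonality, its corollary: if the p-parts of g and h are not conjugate, then the sum over χ ∈ B of χ g * χ h⁻¹ is zero for every block B. -/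
theorem result {G : Type*} [Group G] [Finite G] (p : ℕ) [Fact p.Prime] (M : Ideal Cfsg.AlgInt) (hM : Cfsg.IsPModular p M) : (∀ (ϑ : G → ℂ), Cfsg.IsClassFunction G ϑ → ∀ x : G, (∃ k : ℕ, orderOf x = p ^ k) → (∀ u z : G, Cfsg.IsPPart p u z → IsConj x z → ϑ u = 0) → ∀ B : Set (Cfsg.IrrCharacter G), Cfsg.IsPBlock M B → ∀ u z : G, Cfsg.IsPPart p u z → IsConj x z → Cfsg.blockPart B ϑ u = 0) ∧ (∀ g h x y : G, Cfsg.IsPPart p g x → Cfsg.IsPPart p h y → ¬ IsConj x y → ∀ B : Set (Cfsg.IrrCharacter G), Cfsg.IsPBlock M B → ∑ᶠ χ ∈ B, (χ : G → ℂ) g * (χ : G → ℂ) h⁻¹ = 0) := by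
  classical
  cases nonempty_fintype G
  have key : ∀ g h x y : G, Cfsg.IsPPart p g x → Cfsg.IsPPart p h y → ¬ IsConj x y →
      ∀ B : Set (Cfsg.IrrCharacter G), Cfsg.IsPBlock M B →
      ∑ χ : Cfsg.IrrCharacter G, CfsgLib.Blocks.blockInd B χ *
        ((χ : G → ℂ) g * (χ : G → ℂ) h⁻¹) = 0 :=
    fun g h x y hg hh hne B hB => CfsgLib.Blocks.sum_block_mul_eq_zero hM hB hg hh hne
  refine ⟨fun ϑ _ x _ hvan B hB u z huz hxz => ?_, fun g h x y hg hh hne B hB => ?_⟩
  · have hterm : ∀ w : G, ϑ w * ∑ χ : Cfsg.IrrCharacter G, CfsgLib.Blocks.blockInd B χ *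
        ((χ : G → ℂ) u * (χ : G → ℂ) w⁻¹) = 0 := by
      intro w
      obtain ⟨z', -, hw, -⟩ := CfsgLib.Blocks.exists_isPPart (G := G) hM.1 w
      by_cases hc : IsConj z z'
      · rw [hvan w z' hw (hxz.trans hc), zero_mul]
      · rw [key u w z z' huz hw hc B hB, mul_zero]
    have h0 : ∑ w : G, (Nat.card G : ℂ)⁻¹ * (ϑ w * ∑ χ : Cfsg.IrrCharacter G,
        CfsgLib.Blocks.blockInd B χ * ((χ : G → ℂ) u * (χ : G → ℂ) w⁻¹)) = 0 :=
      Finset.sum_eq_zero fun w _ => by rw [hterm w, mul_zero]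
    rw [← h0, CfsgLib.Blocks.blockPart_eq_sum]
    simp only [Cfsg.classInner, CfsgLib.Blocks.conj_irr, Finset.mul_sum, Finset.sum_mul]
    rw [Finset.sum_comm]
    exact Finset.sum_congr rfl fun w _ => Finset.sum_congr rfl fun χ _ => by ring
  · rw [finsum_mem_eq_toFinset_sum, ← key g h x y hg hh hne B hB]
    refine (Finset.sum_congr rfl fun φ hφ => ?_).trans
      (Finset.sum_subset (Finset.subset_univ _) fun φ _ hφ => ?_)
    · rw [CfsgLib.Blocks.blockInd_of_mem (Set.mem_toFinset.1 hφ), one_mul]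
    · rw [CfsgLib.Blocks.blockInd_of_notMem (by simpa using hφ), zero_mul]

end Cfsg.Agent.S0925
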