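import Cfsg.Statements.S0926
import Cfsg.Agent.Lib.Blocks.DefectCenter
-- import your own Cfsg.Agent.* helpers here

set_option autoImplicit false
open Cfsg

namespace Cfsg.Agent.S0926

/-- Let B be a block of the finite group G with defect group D (relative to a maximal ideal M of the algebraic integers containing p), let χ ∈ B have height zero, and let x be a p-element. Then some conjugate of x lies in D if and only if χ does not vanish on the whole p-section of x (the elements whose p-part is conjugate to x). -/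
theorem result {G : Type*} [Group G] [Finite G] (p : ℕ) [Fact p.Prime] (M : Ideal Cfsg.AlgInt) (hM : Cfsg.IsPModular p M) (B : Set (Cfsg.IrrCharacter G)) (hB : Cfsg.IsPBlock M B) (D : Subgroup G) (hD : Cfsg.IsDefectGroup p M B D) (χ : Cfsg.IrrCharacter G) (hχ : χ ∈ B) (h0 : Cfsg.blockHeight p B (χ : G → ℂ) = 0) (x : G) (hx : ∃ k : ℕ, orderOf x = p ^ k) : (∃ g : G, g * x * g⁻¹ ∈ D) ↔ ∃ u : G, (∃ z : G, Cfsg.IsPPart p u z ∧ IsConj x z) ∧ (χ : G → ℂ) u ≠ 0 := by
  cases nonempty_fintype G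
  have h0' := (CfsgLib.Blocks.blockHeight_eq_zero_iff hχ).1 h0
  obtain ⟨k, hk⟩ := hx
  constructor
  · rintro ⟨g, hg⟩
    obtain ⟨y, hy, S, hS⟩ := hD
    rw [hS] at hg
    obtain ⟨⟨v, hv⟩, hvS, hve⟩ := hg
    have hyreg : ¬ p ∣ orderOf y := CfsgLib.Blocks.isPRegular_of_not_LI hM hB hy.2.1
    have hcomm : Commute (g * x * g⁻¹) y := by
      rw [← hve]
      exact Subgroup.mem_centralizer_singleton_iff.1 hv
    have hord : orderOf (g * x * g⁻¹) = p ^ k := ((MulAut.conj g).orderOf_eq x).trans hk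
    refine ⟨(g * x * g⁻¹) * y, ⟨g * x * g⁻¹, CfsgLib.Blocks.isPPart_mul hcomm hord hyreg,
      isConj_iff.2 ⟨g, rfl⟩⟩, fun h => ?_⟩
    exact CfsgLib.Blocks.not_LI_apply_mul_defectClass hM hB hy hcomm hord hχ h0'
      (h ▸ CfsgLib.Blocks.LI.zero hM)
  · rintro ⟨u, ⟨z, hz, hxz⟩, hne⟩
    by_contra hcon
    push Not at hcon
    refine hne (CfsgLib.Blocks.char_eq_zero_of_not_mem_defectGroup hM hB hχ hz fun D' hD' hzD' => ?_)
    obtain ⟨w, rfl⟩ := CfsgLib.Blocks.exists_conj_eq_defectGroup hM hB hD hD'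
    obtain ⟨d, hd, hdz⟩ := hzD'
    obtain ⟨t, ht⟩ := isConj_iff.1 hxz
    refine hcon (w⁻¹ * t) ?_
    have : d = w⁻¹ * t * x * (w⁻¹ * t)⁻¹ := by
      have h1 : w * d * w⁻¹ = t * x * t⁻¹ := hdz.trans ht.symm
      calc d = w⁻¹ * (w * d * w⁻¹) * w := by simp [mul_assoc]
        _ = _ := by rw [h1]; simp [mul_assoc]
    exact this ▸ hd

end Cfsg.Agent.S0926
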