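import Cfsg.Statements.S0927
import Cfsg.Agent.Lib.Blocks.DefectCenter
-- import your own Cfsg.Agent.* helpers here

set_option autoImplicit false
open Cfsg

namespace Cfsg.Agent.S0927

/-- Let B be a block of the finite group G relative to a maximal ideal M of the algebraic integers containing p, let y represent a defect class of B and let P be a Sylow p-subgroup of the centralizer of y. (a) If x ∈ P and χ ∈ B has height zero, then χ (x * y) is not in the local ideal at M. (b) If x lies in the centre of P, then for every χ ∈ B the central character of χ at x * y is not in the local ideal at M. -/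
theorem result {G : Type*} [Group G] [Finite G] (p : ℕ) [Fact p.Prime] (M : Ideal Cfsg.AlgInt) (hM : Cfsg.IsPModular p M) (B : Set (Cfsg.IrrCharacter G)) (hB : Cfsg.IsPBlock M B) (y : G) (hy : Cfsg.IsDefectClass M B y) (P : Sylow p (Subgroup.centralizer ({y} : Set G))) (x : Subgroup.centralizer ({y} : Set G)) (hx : x ∈ (P : Subgroup (Subgroup.centralizer ({y} : Set G)))) : (∀ χ ∈ B, Cfsg.blockHeight p B (χ : G → ℂ) = 0 → ¬ Cfsg.MemLocalIdeal M ((χ : G → ℂ) ((x : G) * y))) ∧ ((∀ w ∈ (P : Subgroup (Subgroup.centralizer ({y} : Set G))), x * w = w * x) → ∀ χ ∈ B, ¬ Cfsg.MemLocalIdeal M (Cfsg.centralChar (χ : G → ℂ) ((x : G) * y))) := by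
  classical
  cases nonempty_fintype G
  haveI := Fact.mk hM.1
  have hxy : Commute (x : G) y := Subgroup.mem_centralizer_singleton_iff.1 x.2
  obtain ⟨k, hk⟩ := (IsPGroup.iff_orderOf.1 P.isPGroup') ⟨x, hx⟩
  rw [← Subgroup.orderOf_coe] at hk
  have hk' : orderOf (x : G) = p ^ k := by rw [Subgroup.orderOf_coe]; exact hk
  refine ⟨fun χ hχ h0 => CfsgLib.Blocks.not_LI_apply_mul_defectClass hM hB hy hxy hk' hχ
    ((CfsgLib.Blocks.blockHeight_eq_zero_iff hχ).1 h0), fun hc χ hχ =>
    CfsgLib.Blocks.not_LI_centralChar_mul_defectClass hM hB hy hxy hk' ?_ hχ⟩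
  have hle : (P : Subgroup (Subgroup.centralizer ({y} : Set G))).map
      (Subgroup.centralizer ({y} : Set G)).subtype
      ≤ Subgroup.centralizer ({(x : G) * y} : Set G) := by
    rintro _ ⟨u, hu, rfl⟩
    refine Subgroup.mem_centralizer_singleton_iff.2 ?_
    exact (Commute.mul_right (show Commute (u : G) (x : G) from congrArg Subtype.val (hc u hu).symm)
      (Subgroup.mem_centralizer_singleton_iff.1 u.2)).eq
  have h1 := Subgroup.card_dvd_of_le hle
  rw [Subgroup.card_map_of_injective (Subgroup.subtype_injective _), P.card_eq_multiplicity] at h1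
  exact (hM.1.pow_dvd_iff_le_factorization Nat.card_pos.ne').1 h1

end Cfsg.Agent.S0927
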