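import Cfsg.Statements.S0932
import Cfsg.Agent.Lib.CharDeep.Clifford

set_option autoImplicit false
open Cfsg CfsgLib CfsgLib.CharDeep

namespace Cfsg.Agent.S0932

/-- Let H be a subgroup of the finite group G and ξ a character of H. For every g ∈ G, the sum of ξ h / ξ 1 over the elements h ∈ H that are conjugate in G to g equals the central character at g of the character of G induced from ξ (class size times value divided by degree). -/
theorem result {G : Type*} [Group G] [Fintype G] (H : Subgroup G) (ξ : H → ℂ) (hξ : Cfsg.IsCharacter H ξ) (g : G) : Cfsg.inducedCentralChar H ξ g = Cfsg.centralChar (Cfsg.indFun H ξ) g := by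
  classical
  rcases eq_or_ne (ξ 1) 0 with h1 | h1
  · have hξ0 : ξ = 0 := Clifford.eq_zero_of_apply_one_eq_zero hξ h1
    subst hξ0
    rw [Char.indFun_zero]
    simp [Cfsg.inducedCentralChar, Cfsg.centralChar]
  have hval : Cfsg.indFun H ξ g = (Nat.card H : ℂ)⁻¹ *
      ((Nat.card (Subgroup.centralizer ({g} : Set G)) : ℂ) *
        ∑ h ∈ Finset.univ.filter (fun h : H => IsConj g (h : G)), ξ h) := by
    rw [Char.indFun_def]
    congr 1
    rw [Finset.sum_comp (fun y => Cfsg.extendByZero H ξ y) (fun x => x⁻¹ * g * x)]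
    have hfib : ∀ y ∈ Finset.univ.image (fun x : G => x⁻¹ * g * x),
        (Finset.univ.filter fun x : G => x⁻¹ * g * x = y).card =
          Nat.card (Subgroup.centralizer ({g} : Set G)) := by
      intro y hy
      obtain ⟨x₀, -, rfl⟩ := Finset.mem_image.1 hy
      rw [← Fintype.card_subtype, ← Nat.card_eq_fintype_card]
      refine Nat.card_congr
        { toFun := fun x => ⟨x.1 * x₀⁻¹, Subgroup.mem_centralizer_singleton_iff.2 ?_⟩
          invFun := fun c => ⟨c * x₀, ?_⟩
          left_inv := fun x => by simp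
          right_inv := fun c => by simp }
      · have h := congrArg (fun z => x.1 * z * x₀⁻¹) x.2
        simp only [mul_assoc, mul_inv_cancel_left, mul_inv_cancel, mul_one] at h
        rw [mul_assoc]
        exact h.symm
      · have h : (c : G) * g = g * c := Subgroup.mem_centralizer_singleton_iff.1 c.2
        have h2 : (c : G)⁻¹ * g * c = g := by rw [mul_assoc, ← h, inv_mul_cancel_left]
        rw [mul_inv_rev, show x₀⁻¹ * (c : G)⁻¹ * g * ((c : G) * x₀) =
          x₀⁻¹ * ((c : G)⁻¹ * g * c) * x₀ by simp [mul_assoc], h2]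
    rw [Finset.sum_congr rfl fun y hy => by rw [hfib y hy], ← Finset.smul_sum, nsmul_eq_mul]
    congr 1
    refine Eq.symm ?_
    refine Finset.sum_bij_ne_zero (fun h _ _ => (h : G)) ?_ ?_ ?_ ?_
    · intro h hh _
      obtain ⟨c, hc⟩ := isConj_iff.1 (Finset.mem_filter.1 hh).2
      exact Finset.mem_image.2 ⟨c⁻¹, Finset.mem_univ _, by simpa using hc⟩
    · intro a _ _ b _ _ hab
      exact Subtype.ext hab
    · intro y hy hy0
      have hyH : y ∈ H := by
        by_contra hyH
        exact hy0 (Char.extendByZero_apply_notMem H ξ hyH)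
      obtain ⟨x, -, rfl⟩ := Finset.mem_image.1 hy
      refine ⟨⟨_, hyH⟩, Finset.mem_filter.2 ⟨Finset.mem_univ _, isConj_iff.2 ⟨x⁻¹, by simp⟩⟩,
        ?_, rfl⟩
      rwa [Char.extendByZero_apply_mem H ξ hyH] at hy0
    · intro a _ _
      exact (Char.extendByZero_coe H ξ a).symm
  have hinv : Cfsg.inducedCentralChar H ξ g =
      (∑ h ∈ Finset.univ.filter (fun h : H => IsConj g (h : G)), ξ h) / ξ 1 := by
    rw [Cfsg.inducedCentralChar, finsum_mem_eq_finite_toFinset_sum _ (Set.toFinite _),
      Finset.sum_div]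
    exact Finset.sum_congr (by ext h; simp) fun h _ => rfl
  rw [hinv, Cfsg.centralChar, hval, Char.indFun_one]
  have e1 : ((Subgroup.centralizer ({g} : Set G)).index : ℂ) *
      Nat.card (Subgroup.centralizer ({g} : Set G)) = (H.index : ℂ) * Nat.card H := by
    rw [← Nat.cast_mul, ← Nat.cast_mul, Subgroup.index_mul_card, Subgroup.index_mul_card]
  have hH : (Nat.card H : ℂ) ≠ 0 := by simp [Nat.card_pos.ne']
  have hi : (H.index : ℂ) ≠ 0 := by simp [Subgroup.index_ne_zero_of_finite]
  generalize (∑ h ∈ Finset.univ.filter (fun h : H => IsConj g (h : G)), ξ h) = S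
  field_simp
  linear_combination (-S) * e1

end Cfsg.Agent.S0932
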