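import Cfsg.Statements.S0933
import Cfsg.Agent.Lib.Blocks.InducedBlock
import Cfsg.Agent.Lib.Blocks.Defect2
-- import your own Cfsg.Agent.* helpers here

set_option autoImplicit false
open Cfsg

namespace Cfsg.Agent.S0933

/-- Let H be a subgroup of the finite group G and ξ an irreducible character of H such that the induced function ξ^G is an irreducible character of G. Then, relative to any maximal ideal M of the algebraic integers containing the prime p, the block of ξ induces the block of ξ^G. -/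
theorem result {G : Type*} [Group G] [Fintype G] (p : ℕ) [Fact p.Prime] (M : Ideal Cfsg.AlgInt) (hM : Cfsg.IsPModular p M) (H : Subgroup G) (ξ : Cfsg.IrrCharacter H) (hind : Cfsg.IsIrrCharacter G (Cfsg.indFun H (ξ : H → ℂ))) : Cfsg.IsInducedBlock M H (Cfsg.blockOf M (ξ : H → ℂ)) (Cfsg.blockOf M (Cfsg.indFun H (ξ : H → ℂ))) := by
  classical
  have key : ∀ g : G, Cfsg.inducedCentralChar H (ξ : H → ℂ) g
      = Cfsg.centralChar (Cfsg.indFun H (ξ : H → ℂ)) g := by
    intro g
    rw [CfsgLib.Blocks.inducedCentralChar_eq]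
    have hcl : Cfsg.IsClassFunction G (CfsgLib.Blocks.classInd g) :=
      CfsgLib.Blocks.classInd_isClassFunction g
    have h := CfsgLib.Char.classInner_indFun H (ξ : H → ℂ) hcl
    have hreal : ∀ x : G, (starRingEnd ℂ) (CfsgLib.Blocks.classInd g x)
        = CfsgLib.Blocks.classInd g x := fun x => by
      unfold CfsgLib.Blocks.classInd; split <;> simp
    simp only [Cfsg.classInner, hreal] at h
    rw [CfsgLib.Blocks.omega, Cfsg.centralChar, CfsgLib.Char.indFun_one,
      ← CfsgLib.Blocks.sum_class_mul g (CfsgLib.Char.IsIrrCharacter.isClassFunction hind)]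
    simp only [mul_comm (CfsgLib.Blocks.classInd g _)] at h ⊢
    rw [inv_mul_eq_iff_eq_mul₀ CfsgLib.Char.card_ne_zero] at h
    rw [h, ← Subgroup.card_mul_index H, Nat.cast_mul]
    have h0 : (Nat.card H : ℂ) ≠ 0 := CfsgLib.Char.card_ne_zero
    have h1 : (H.index : ℂ) ≠ 0 := Nat.cast_ne_zero.2 Subgroup.index_ne_zero_of_finite
    have h3 := CfsgLib.Blocks.irr_one_ne_zero ξ
    field_simp
  refine ⟨CfsgLib.Blocks.isPBlock_blockOf ξ,
    CfsgLib.Blocks.isPBlock_blockOf ⟨_, hind⟩, fun ξ' hξ' χ' hχ' g => ?_⟩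
  have hR : ∀ x : H, Cfsg.MemLocalRing M (CfsgLib.Blocks.classInd g (x : G)) := fun x => by
    unfold CfsgLib.Blocks.classInd; split
    · exact CfsgLib.Blocks.LR.one hM
    · exact CfsgLib.Blocks.LR.zero hM
  refine CfsgLib.Blocks.LI.trans hM ?_ (hχ' g)
  rw [← key, CfsgLib.Blocks.inducedCentralChar_eq, CfsgLib.Blocks.inducedCentralChar_eq]
  exact CfsgLib.Blocks.omega_congr hM (CfsgLib.Blocks.SameBlock_symm hξ')
    (CfsgLib.Blocks.resFun_isClassFunction H (CfsgLib.Blocks.classInd_isClassFunction g)) hR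

end Cfsg.Agent.S0933
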