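import Cfsg.Statements.S0934
import Cfsg.Agent.Lib.Blocks.InducedBlock
import Cfsg.Agent.Lib.Blocks.Defect2
-- import your own Cfsg.Agent.* helpers here

set_option autoImplicit false
open Cfsg

namespace Cfsg.Agent.S0934

/-- Let H be a subgroup of the finite group G and fix a maximal ideal M of the algebraic integers containing the prime p. If the block b of H induces the block B of G and ξ ∈ b, then there is χ ∈ B whose restriction to H has nonzero inner product with ξ. -/
theorem result {G : Type*} [Group G] [Fintype G] (p : ℕ) [Fact p.Prime] (M : Ideal Cfsg.AlgInt) (hM : Cfsg.IsPModular p M) (H : Subgroup G) [Fintype H] (b : Set (Cfsg.IrrCharacter H)) (B : Set (Cfsg.IrrCharacter G)) (hind : Cfsg.IsInducedBlock M H b B) (ξ : Cfsg.IrrCharacter H) (hξ : ξ ∈ b) : ∃ χ ∈ B, Cfsg.classInner (fun h : H => (χ : G → ℂ) h) (ξ : H → ℂ) ≠ 0 := by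
  classical
  obtain rfl := Subsingleton.elim ‹Fintype H› (Subgroup.instFintypeSubtypeMemOfDecidablePred H)
  by_contra hcon
  push Not at hcon
  obtain ⟨χ₀, hχ₀⟩ := CfsgLib.Blocks.IsPBlock.nonempty hM hind.2.1
  have h0 : Cfsg.blockPart B (Cfsg.indFun H (ξ : H → ℂ)) 1 = 0 := by
    rw [Cfsg.blockPart, Subsingleton.elim (Fintype.ofFinite G) ‹Fintype G›,
      finsum_mem_eq_toFinset_sum]
    refine Finset.sum_eq_zero fun ψ hψ => ?_
    rw [CfsgLib.Char.classInner_indFun H _ (CfsgLib.Char.IsIrrCharacter.isClassFunction ψ.2),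
      CfsgLib.Char.IsCharacter.classInner_comm (CfsgLib.Char.isCharacter_irr ξ)
        (CfsgLib.Char.IsCharacter.restrict (CfsgLib.Char.isCharacter_irr ψ) H),
      hcon ψ (Set.mem_toFinset.1 hψ), zero_mul]
  rw [CfsgLib.Blocks.blockPart_indFun_one] at h0
  have hω : CfsgLib.Blocks.omega (ξ : H → ℂ) (fun h : H => Cfsg.blockCoeff B h) = 0 := by
    refine (mul_eq_zero.1 h0).resolve_left ?_
    exact mul_ne_zero (Nat.cast_ne_zero.2 Subgroup.index_ne_zero_of_finite)
      (CfsgLib.Blocks.irr_one_ne_zero ξ)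
  have hcong := CfsgLib.Blocks.IsInducedBlock.omega_congr hM hind hξ hχ₀
    (CfsgLib.Blocks.blockCoeff_isClassFunction B) (CfsgLib.Blocks.blockCoeff_LR hM hind.2.1)
  rw [hω, CfsgLib.Blocks.omega_blockCoeff, CfsgLib.Blocks.blockInd_of_mem hχ₀, zero_sub] at hcong
  have := CfsgLib.Blocks.LI.neg hcong
  rw [neg_neg] at this
  exact CfsgLib.Blocks.LI.not_one hM this

end Cfsg.Agent.S0934
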