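import Cfsg.Statements.S0938
import Cfsg.Agent.Lib.Blocks.Kernel
import Cfsg.Agent.Lib.Blocks.Defect
-- import your own Cfsg.Agent.* helpers here

set_option autoImplicit false
open Cfsg

namespace Cfsg.Agent.S0938

/-- Let B be a block of the finite group G relative to a maximal ideal M of the algebraic integers containing the prime p, and let χ ∈ B. Then the kernel of B (the set of g with ψ g = ψ 1 for all ψ ∈ B) is a normal subgroup of order prime to p contained in the kernel of χ, and it contains every normal subgroup of order prime to p on which χ takes the value χ(1); that is, it is O_p' of the kernel of χ. -/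
theorem result {G : Type*} [Group G] [Finite G] (p : ℕ) [Fact p.Prime] (M : Ideal Cfsg.AlgInt) (hM : Cfsg.IsPModular p M) (B : Set (Cfsg.IrrCharacter G)) (hB : Cfsg.IsPBlock M B) (χ : Cfsg.IrrCharacter G) (hχ : χ ∈ B) : ∃ K : Subgroup G, K.Normal ∧ (K : Set G) = Cfsg.blockKer B ∧ ¬ p ∣ Nat.card K ∧ (∀ g ∈ K, (χ : G → ℂ) g = (χ : G → ℂ) 1) ∧ ∀ N : Subgroup G, N.Normal → ¬ p ∣ Nat.card N → (∀ g ∈ N, (χ : G → ℂ) g = (χ : G → ℂ) 1) → N ≤ K := by
  classical
  cases nonempty_fintype G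
  set K : Subgroup G := ⨅ ψ : B, CfsgLib.Blocks.irrKer (ψ : Cfsg.IrrCharacter G) with hKdef
  have hKle : ∀ ψ ∈ B, K ≤ CfsgLib.Blocks.irrKer ψ := fun ψ hψ => iInf_le_of_le ⟨ψ, hψ⟩ le_rfl
  have hmem : ∀ g, g ∈ K ↔ ∀ ψ ∈ B, (ψ : G → ℂ) g = (ψ : G → ℂ) 1 := fun g => by
    simp [K, Subgroup.mem_iInf, CfsgLib.Blocks.mem_irrKer]
  refine ⟨K, Subgroup.normal_iInf_normal fun ψ => CfsgLib.Blocks.irrKer_normal _, ?_,
    CfsgLib.Blocks.not_dvd_card_of_le_kernels hM hB hKle, fun g hg => (hmem g).1 hg χ hχ,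
    fun N hN hcop htriv g hg => (hmem g).2 fun ψ hψ => ?_⟩
  · ext g
    exact hmem g
  · exact CfsgLib.Blocks.le_irrKer_of_sameBlock hM hN hcop
      (CfsgLib.Blocks.IsPBlock.sameBlock hM hB hχ hψ) (fun n hn => htriv n hn) hg

end Cfsg.Agent.S0938
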