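import Cfsg.Statements.S0939
import Cfsg.Agent.Lib.Blocks.Kernel
import Cfsg.Agent.Lib.Solvable.Cores
import Cfsg.Agent.Lib.Blocks.Parts
-- import your own Cfsg.Agent.* helpers here

set_option autoImplicit false
open Cfsg

namespace Cfsg.Agent.S0939

/-- Let G be a finite group with a normal p-complement (the largest normal subgroup O_p'(G) of order prime to p has p-power index). Then, relative to any maximal ideal M of the algebraic integers containing p, the principal block of G is the set of irreducible characters χ with χ n = χ 1 for every n ∈ O_p'(G). -/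
theorem result {G : Type*} [Group G] [Finite G] (p : ℕ) [Fact p.Prime] (M : Ideal Cfsg.AlgInt) (hM : Cfsg.IsPModular p M) (hnc : ∃ k : ℕ, (Cfsg.pPrimeCore p G).index = p ^ k) : Cfsg.principalBlock M G = {χ : Cfsg.IrrCharacter G | ∀ n ∈ Cfsg.pPrimeCore p G, (χ : G → ℂ) n = (χ : G → ℂ) 1} := by
  classical
  cases nonempty_fintype G
  set N := Cfsg.pPrimeCore p G
  have hN : N.Normal := CfsgLib.Solvable.Cores.pPrimeCore_normal p
  have hcop : ¬ p ∣ Nat.card N := by
    have h := CfsgLib.Solvable.Cores.coprime_card_pPrimeCore (G := G) p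
    exact (Fact.out : p.Prime).coprime_iff_not_dvd.1 (Nat.Coprime.symm h)
  have hB : Cfsg.IsPBlock M (Cfsg.principalBlock M G) := CfsgLib.Blocks.isPBlock_principalBlock
  have htriv := CfsgLib.Blocks.trivChar_mem_principalBlock (G := G) hM
  ext χ
  constructor
  · intro hχ n hn
    exact CfsgLib.Blocks.le_irrKer_of_sameBlock hM hN hcop
      (CfsgLib.Blocks.IsPBlock.sameBlock hM hB htriv hχ) (fun m _ => rfl) hn
  · intro hχ
    obtain ⟨k, hk⟩ := hnc
    have hreg : ∀ g : G, ¬ p ∣ orderOf g → g ∈ N := by
      intro g hg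
      have h1 : orderOf (QuotientGroup.mk' N g) ∣ orderOf g := orderOf_map_dvd _ g
      have h2 : orderOf (QuotientGroup.mk' N g) ∣ p ^ k := by
        rw [← hk]; exact orderOf_dvd_natCard _
      obtain ⟨j, -, hj⟩ := (Nat.dvd_prime_pow Fact.out).1 h2
      refine (QuotientGroup.eq_one_iff g).1 ?_
      rcases j with - | j
      · rw [pow_zero, orderOf_eq_one_iff] at hj; exact hj
      · exact absurd ((hj ▸ dvd_pow_self p (Nat.succ_ne_zero j)).trans h1) hg
    have h1 : CfsgLib.Blocks.blockInd (Cfsg.principalBlock M G) χ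
        = CfsgLib.Blocks.blockInd (Cfsg.principalBlock M G) (CfsgLib.Blocks.trivChar G) := by
      rw [← CfsgLib.Blocks.omega_blockCoeff, ← CfsgLib.Blocks.omega_blockCoeff,
        CfsgLib.Blocks.omega, CfsgLib.Blocks.omega, Finset.sum_div, Finset.sum_div]
      refine Finset.sum_congr rfl fun g _ => ?_
      by_cases hg : p ∣ orderOf g
      · rw [CfsgLib.Blocks.IsPBlock.blockCoeff_eq_zero hM hB hg, zero_mul, zero_mul, zero_div,
          zero_div]
      · rw [hχ g (hreg g hg)]
        simp [CfsgLib.Blocks.irr_one_ne_zero χ]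
    rw [CfsgLib.Blocks.blockInd_of_mem htriv] at h1
    by_contra hne
    rw [CfsgLib.Blocks.blockInd_of_notMem hne] at h1
    exact zero_ne_one h1

end Cfsg.Agent.S0939
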