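import Cfsg.Statements.S0940
import Cfsg.Agent.Lib.Blocks.Height
import Cfsg.Agent.Lib.Blocks.BrauerHom
import Cfsg.Agent.Lib.Blocks.Parts
import Cfsg.Agent.Lib.Blocks.Defect2
-- import your own Cfsg.Agent.* helpers here

set_option autoImplicit false
open Cfsg

namespace Cfsg.Agent.S0940

/-- Let G be a finite group and M a maximal ideal of the algebraic integers containing the prime p. For every p-regular g, the idempotent coefficient of the principal block at g (the inverse of the group order times the sum over χ in the principal block of χ 1 * conj (χ g)) is congruent modulo the local ideal at M to N / R, where N is the number of pairs (x, y) with x of p-power order, y of order prime to p and x * y = g, and R is the number of elements of G of order prime to p. -/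
theorem result {G : Type*} [Group G] [Finite G] (p : ℕ) [Fact p.Prime] (M : Ideal Cfsg.AlgInt) (hM : Cfsg.IsPModular p M) (g : G) (hg : ¬ p ∣ orderOf g) : Cfsg.MemLocalIdeal M (Cfsg.blockCoeff (Cfsg.principalBlock M G) g - (Nat.card {xy : G × G // (∃ k : ℕ, orderOf xy.1 = p ^ k) ∧ ¬ p ∣ orderOf xy.2 ∧ xy.1 * xy.2 = g} : ℂ) / (Nat.card {y : G // ¬ p ∣ orderOf y} : ℂ)) := by
  classical
  cases nonempty_fintype G
  haveI := Fact.mk hM.1
  set B := Cfsg.principalBlock M G with hBdef
  have hB : Cfsg.IsPBlock M B := CfsgLib.Blocks.isPBlock_principalBlock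
  have htriv := CfsgLib.Blocks.trivChar_mem_principalBlock (G := G) hM
  set τ := CfsgLib.Blocks.trivChar G
  set q : ℂ := (CfsgLib.Blocks.pPartCard p G : ℂ)
  have hq0 : q ≠ 0 := CfsgLib.Blocks.pPartCard_ne_zero hM.1
  have hG0 : (Nat.card G : ℂ) ≠ 0 := CfsgLib.Char.card_ne_zero
  set r : G → ℂ := fun x => if Cfsg.IsPRegular p x then 1 else 0
  set u : G → ℂ := fun x => if ∃ k : ℕ, orderOf x = p ^ k then 1 else 0
  have hord : ∀ x g : G, orderOf (g * x * g⁻¹) = orderOf x := fun x g => (MulAut.conj g).orderOf_eq x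
  have hr : Cfsg.IsClassFunction G r := fun x g => by
    exact if_congr (by simp only [Cfsg.IsPRegular, hord]) rfl rfl
  have hu : Cfsg.IsClassFunction G u := fun x g => by
    simp only [u, hord]
  set w : Cfsg.IrrCharacter G → ℂ := fun χ =>
    CfsgLib.Blocks.omega (χ : G → ℂ) (CfsgLib.Blocks.regClassFun p (τ : G → ℂ)) with hwdef
  have hωr : ∀ χ : Cfsg.IrrCharacter G,
      CfsgLib.Blocks.omega (χ : G → ℂ) r = (Nat.card G : ℂ) * q⁻¹ * w χ := by
    intro χ
    simp only [w, CfsgLib.Blocks.omega, mul_div, Finset.mul_sum]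
    congr 1
    refine Finset.sum_congr rfl fun x _ => ?_
    simp only [r, CfsgLib.Blocks.regClassFun]
    split
    · simp only [τ, CfsgLib.Blocks.trivChar_apply]
      field_simp
      simp [q]
    · simp
  have hw0 : ∀ χ : Cfsg.IrrCharacter G, χ ∉ B → w χ = 0 := by
    intro χ hχ
    simp only [w, CfsgLib.Blocks.omega_regClassFun,
      CfsgLib.Blocks.IsPBlock.regInner_eq_zero hM hB htriv hχ, zero_div]
  set R := Nat.card {y : G // ¬ p ∣ orderOf y}
  have hR : (R : ℂ) = (Nat.card G : ℂ) * q⁻¹ * w τ := by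
    rw [← hωr, CfsgLib.Blocks.omega]
    simp only [τ, CfsgLib.Blocks.trivChar_apply, mul_one, div_one, r, Finset.sum_boole]
    rw [Nat.cast_inj]
    simp only [R, Nat.card_eq_fintype_card, Fintype.card_subtype]
    exact congrArg Finset.card (Finset.filter_congr fun x _ => Iff.rfl)
  have hgq : (Nat.card G : ℂ) * q⁻¹
      = ((Nat.card G / p ^ (Nat.card G).factorization p : ℕ) : ℂ) := by
    rw [← inv_inv ((Nat.card G / p ^ (Nat.card G).factorization p : ℕ) : ℂ),
      ← CfsgLib.Blocks.pPartCard_div hM.1, mul_inv, inv_inv, mul_comm]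
  have hwτ : ¬ Cfsg.MemLocalIdeal M (w τ) := by
    refine CfsgLib.Blocks.not_LI_omega_of_min hM hB htriv ?_ htriv
    have h : CfsgLib.Blocks.minDegVal p B ≤ CfsgLib.Blocks.degVal p τ :=
      CfsgLib.Blocks.minDegVal_le htriv
    have h0 : CfsgLib.Blocks.degVal p τ = 0 := by
      simp [τ, CfsgLib.Blocks.degVal, Cfsg.charDegree]
    omega
  have hwLR : ∀ χ, Cfsg.MemLocalRing M (w χ) := fun χ => CfsgLib.Blocks.omega_LR hM χ
    (CfsgLib.Blocks.regClassFun_isClassFunction (CfsgLib.Char.IsIrrCharacter.isClassFunction τ.2))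
    (CfsgLib.Blocks.regClassFun_LR hM τ)
  have hRI : ¬ Cfsg.MemLocalIdeal M (R : ℂ) := by
    rw [hR, hgq]
    exact CfsgLib.Blocks.not_LI_mul hM (CfsgLib.Blocks.LR.natCast hM _) (hwLR _)
      (fun h => Nat.not_dvd_ordCompl hM.1 Nat.card_pos.ne'
        ((CfsgLib.Blocks.LI.natCast_iff hM _).1 h)) hwτ
  set N := Nat.card {xy : G × G // (∃ k : ℕ, orderOf xy.1 = p ^ k) ∧ ¬ p ∣ orderOf xy.2 ∧
    xy.1 * xy.2 = g}
  set U : Cfsg.IrrCharacter G → ℂ := fun χ => ∑ x : G, u x * (χ : G → ℂ) x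
  have hN : (N : ℂ) = (Nat.card G : ℂ)⁻¹ * ∑ χ : Cfsg.IrrCharacter G,
      CfsgLib.Blocks.omega (χ : G → ℂ) r * (U χ * (χ : G → ℂ) g⁻¹) := by
    have h1 : (N : ℂ) = ∑ x : G, u x * r (x⁻¹ * g) := by
      have e : ∀ x : G, u x * r (x⁻¹ * g)
          = if (∃ k : ℕ, orderOf x = p ^ k) ∧ ¬ p ∣ orderOf (x⁻¹ * g) then 1 else 0 := by
        intro x
        by_cases h1 : ∃ k : ℕ, orderOf x = p ^ k <;> by_cases h2 : p ∣ orderOf (x⁻¹ * g) <;>
          simp [u, r, Cfsg.IsPRegular, h1, h2]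
      rw [Finset.sum_congr rfl fun x _ => e x, Finset.sum_boole, Nat.cast_inj]
      simp only [N, Nat.card_eq_fintype_card, Fintype.card_subtype]
      refine Finset.card_bij' (fun xy _ => xy.1) (fun x _ => (x, x⁻¹ * g)) ?_ ?_ ?_ ?_
      · intro xy hxy
        simp only [Finset.mem_filter, Finset.mem_univ, true_and] at hxy ⊢
        refine ⟨hxy.1, ?_⟩
        rw [show xy.1⁻¹ * g = xy.2 by rw [← hxy.2.2, inv_mul_cancel_left]]
        exact hxy.2.1
      · intro x hx
        simp only [Finset.mem_filter, Finset.mem_univ, true_and] at hx ⊢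
        exact ⟨hx.1, hx.2, mul_inv_cancel_left x g⟩
      · intro xy hxy
        simp only [Finset.mem_filter, Finset.mem_univ, true_and] at hxy
        exact Prod.ext rfl (by rw [← hxy.2.2, inv_mul_cancel_left])
      · intro x _; rfl
    rw [h1, ← CfsgLib.Blocks.fourierInv_omega hu, ← CfsgLib.Blocks.fourierInv_omega hr,
      CfsgLib.Blocks.fourierInv_mul, CfsgLib.Blocks.fourierInv]
    congr 1
    refine Finset.sum_congr rfl fun χ _ => ?_
    simp only [CfsgLib.Blocks.fourierInv_omega hu, CfsgLib.Blocks.fourierInv_omega hr]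
    rw [CfsgLib.Blocks.omega]
    have := CfsgLib.Blocks.irr_one_ne_zero χ
    simp only [U]
    field_simp
  have he : Cfsg.blockCoeff B g = (Nat.card G : ℂ)⁻¹ * ∑ χ : Cfsg.IrrCharacter G,
      CfsgLib.Blocks.blockInd B χ * (U χ * (χ : G → ℂ) g⁻¹) := by
    rw [CfsgLib.Blocks.blockCoeff_eq_fourierInv, CfsgLib.Blocks.fourierInv]
    congr 1
    simp only [U, Finset.sum_mul, Finset.mul_sum]
    symm
    rw [Finset.sum_comm, Finset.sum_eq_single (1 : G)]
    · refine Finset.sum_congr rfl fun χ _ => ?_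
      have h1 : u 1 = 1 := if_pos ⟨0, by simp⟩
      rw [h1, one_mul]
    · intro x _ hx
      by_cases hxp : ∃ k : ℕ, orderOf x = p ^ k
      · obtain ⟨k, hk⟩ := hxp
        have hsing : p ∣ orderOf x := by
          rw [hk]
          refine dvd_pow_self p fun h => hx ?_
          rwa [h, pow_zero, orderOf_eq_one_iff] at hk
        have h := CfsgLib.Blocks.IsPBlock.sum_mul_eq_zero hM hB hsing (h := g⁻¹)
          (by rwa [orderOf_inv])
        rw [← h]
        refine Finset.sum_congr rfl fun χ _ => ?_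
        rw [show u x = 1 from if_pos ⟨k, hk⟩, one_mul]
      · refine Finset.sum_eq_zero fun χ _ => ?_
        simp [show u x = 0 from if_neg hxp]
    · simp
  have hU : ∀ χ : Cfsg.IrrCharacter G, Cfsg.MemLocalRing M (U χ / q) := by
    intro χ
    obtain ⟨n, ρ, hρ, hχe⟩ := χ.2
    have h := CfsgLib.Blocks.isIntegral_sum_qElements (q := p) ρ 1 one_pos (one_pow 1)
      (fun _ => by rw [one_mul, mul_one])
    refine CfsgLib.Blocks.LR.of_isIntegral hM ?_
    convert h using 2
    · simp only [U, ← hχe]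
      rw [Finset.sum_filter]
      refine Finset.sum_congr rfl fun x _ => ?_
      by_cases hx : ∃ k : ℕ, orderOf x = p ^ k
      · obtain ⟨k, hk⟩ := hx
        rw [show u x = 1 from if_pos ⟨k, hk⟩, one_mul,
          if_pos (CfsgLib.Blocks.dvd_ordProj_of_pow hM.1 hk), one_mul]
        rfl
      · rw [show u x = 0 from if_neg hx, zero_mul, if_neg]
        intro hd
        obtain ⟨k, -, hk⟩ := (Nat.dvd_prime_pow hM.1).1 hd
        exact hx ⟨k, hk⟩
    · simp [q, CfsgLib.Blocks.pPartCard]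
  have hdiff : Cfsg.MemLocalIdeal M ((N : ℂ) - (R : ℂ) * Cfsg.blockCoeff B g) := by
    rw [hN, he, mul_left_comm (R : ℂ), ← mul_sub, Finset.mul_sum (a := (R : ℂ)),
      ← Finset.sum_sub_distrib, Finset.mul_sum]
    refine CfsgLib.Blocks.LI.sum hM fun χ _ => ?_
    by_cases hχ : χ ∈ B
    · rw [CfsgLib.Blocks.blockInd_of_mem hχ, hωr, hR, one_mul]
      have e : (Nat.card G : ℂ)⁻¹ * ((Nat.card G : ℂ) * q⁻¹ * w χ * (U χ * (χ : G → ℂ) g⁻¹)
          - (Nat.card G : ℂ) * q⁻¹ * w τ * (U χ * (χ : G → ℂ) g⁻¹))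
          = (w χ - w τ) * (U χ / q * (χ : G → ℂ) g⁻¹) := by
        field_simp
      rw [e]
      exact CfsgLib.Blocks.LI.mul_right hM (CfsgLib.Blocks.omega_regClassFun_congr hM τ
        (CfsgLib.Blocks.IsPBlock.sameBlock hM hB hχ htriv))
        (CfsgLib.Blocks.LR.mul hM (hU χ)
          (CfsgLib.Blocks.LR.of_isIntegral hM (CfsgLib.Blocks.irr_isIntegral χ _)))
    · rw [CfsgLib.Blocks.blockInd_of_notMem hχ, hωr, hw0 χ hχ]
      simpa using CfsgLib.Blocks.LI.zero hM
  have hR0 := CfsgLib.Blocks.ne_zero_of_not_LI hM hRI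
  have e : Cfsg.blockCoeff B g - (N : ℂ) / (R : ℂ)
      = -((R : ℂ)⁻¹ * ((N : ℂ) - (R : ℂ) * Cfsg.blockCoeff B g)) := by
    field_simp
    ring
  rw [e]
  exact CfsgLib.Blocks.LI.neg (CfsgLib.Blocks.LI.mul_left hM
    (CfsgLib.Blocks.LR.inv hM (CfsgLib.Blocks.LR.natCast hM _) hRI) hdiff)

end Cfsg.Agent.S0940
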