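import Cfsg.Statements.S0944
import Cfsg.Agent.Lib.CharDeep.Clifford

set_option autoImplicit false
open Cfsg CfsgLib CfsgLib.CharDeep

namespace Cfsg.Agent.S0944

/-- Let χ be an irreducible character of the finite group G and u an involution. Then χ u is a rational integer n with n ≡ χ 1 (mod 2). -/
theorem result {G : Type*} [Group G] [Finite G] (χ : Cfsg.IrrCharacter G) (u : G) (hu : orderOf u = 2) : ∃ n : ℤ, (χ : G → ℂ) u = (n : ℂ) ∧ (2 : ℤ) ∣ (Cfsg.charDegree (χ : G → ℂ) : ℤ) - n := by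
  obtain ⟨n, ρ, hρ, hχ⟩ := χ.2
  let P : Module.End ℂ (Fin n → ℂ) := (2 : ℂ)⁻¹ • (1 + ρ u)
  have hu2 : ρ u * ρ u = 1 := by
    rw [← map_mul, ← sq, ← hu, pow_orderOf_eq_one, map_one]
  have hPP : IsIdempotentElem P := by
    show P * P = P
    simp only [P, smul_mul_smul_comm, add_mul, mul_add, one_mul, mul_one, hu2]
    module
  have htr : LinearMap.trace ℂ _ P = (Module.finrank ℂ (LinearMap.range P) : ℂ) :=
    (LinearMap.isProj_range_iff_isIdempotentElem P |>.2 hPP).trace
  set r := Module.finrank ℂ (LinearMap.range P)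
  have hd : (χ : G → ℂ) 1 = (n : ℂ) := by
    rw [← hχ, Representation.char_one, Module.finrank_fin_fun]
  have hdeg : Cfsg.charDegree (χ : G → ℂ) = n := by simp [Cfsg.charDegree, hd]
  have hval : (χ : G → ℂ) u = 2 * (r : ℂ) - n := by
    rw [← htr, ← hχ, Representation.character]
    simp only [P, map_smul, map_add, LinearMap.trace_one, Module.finrank_fin_fun, smul_eq_mul]
    ring
  refine ⟨2 * (r : ℤ) - n, by rw [hval]; push_cast; ring, ?_⟩
  rw [hdeg]
  exact ⟨(n : ℤ) - r, by ring⟩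

end Cfsg.Agent.S0944
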