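import Cfsg.Statements.S0945
import Cfsg.Agent.Lib.CharDeep.Homocyclic

set_option autoImplicit false
open Cfsg
open CfsgLib.CharDeep

namespace Cfsg.Agent.S0945

/-- Let P be a Sylow 2-subgroup of the finite group G isomorphic to Z/2^m × Z/2^m with m ≥ 1. Then (i) the index of C_G(P) in N_G(P) is 1 or 3, and (ii) if it is not 1, then for every z ≠ 1 in P, C_G(z) ∩ N_G(P) = C_G(P). -/
theorem result {G : Type*} [Group G] [Finite G] (P : Sylow 2 G) (m : ℕ) (hm : 1 ≤ m) (e : (P : Subgroup G) ≃* Multiplicative (ZMod (2 ^ m) × ZMod (2 ^ m))) : ((Subgroup.centralizer (P : Set G)).relIndex (Subgroup.normalizer (P : Set G)) = 1 ∨ (Subgroup.centralizer (P : Set G)).relIndex (Subgroup.normalizer (P : Set G)) = 3) ∧ ((Subgroup.centralizer (P : Set G)).relIndex (Subgroup.normalizer (P : Set G)) ≠ 1 → ∀ z ∈ (P : Subgroup G), z ≠ 1 → Subgroup.centralizer ({z} : Set G) ⊓ Subgroup.normalizer (P : Set G) = Subgroup.centralizer (P : Set G)) := by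
  obtain ⟨h1, h2, -⟩ := Homocyclic.normalizer_structure P m hm e
  refine ⟨h1, fun _ z hz hz1 => le_antisymm (fun n hn => ?_) (le_inf ?_ ?_)⟩
  · by_contra hnC
    have hcomm : Commute n z := Subgroup.mem_centralizer_singleton_iff.1 hn.1
    obtain ⟨k, hk⟩ : ∃ k, orderOf z = 2 ^ k := by
      obtain ⟨k, hk⟩ := IsPGroup.iff_orderOf.1 P.2 ⟨z, hz⟩
      exact ⟨k, by rw [← hk, Subgroup.orderOf_mk]⟩
    obtain ⟨j, rfl⟩ : ∃ j, k = j + 1 := ⟨k - 1, by
      rcases Nat.eq_zero_or_pos k with rfl | h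
      · exact absurd (orderOf_eq_one_iff.1 (hk.trans (pow_zero 2))) hz1
      · omega⟩
    have hord : orderOf (z ^ 2 ^ j) = 2 := by
      rw [orderOf_pow' z (by positivity), hk, Nat.gcd_eq_right (pow_dvd_pow 2 (Nat.le_succ j)),
        pow_succ, Nat.mul_div_cancel_left _ (Nat.two_pow_pos j)]
    exact h2 n hn.2 hnC (z ^ 2 ^ j) ((P : Subgroup G).pow_mem hz _) hord (hcomm.pow_right _)
  · exact Subgroup.centralizer_le (Set.singleton_subset_iff.2 hz)
  · exact Subgroup.centralizer_le_normalizer (P : Set G)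

end Cfsg.Agent.S0945
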