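import Cfsg.Statements.S0946
import Cfsg.Agent.Lib.CharDeep.Homocyclic
import Mathlib.GroupTheory.Transfer

set_option autoImplicit false
open Cfsg
open CfsgLib.CharDeep

namespace Cfsg.Agent.S0946

/-- Let P be a Sylow 2-subgroup of the finite group G isomorphic to Z/2^m × Z/2^m with m ≥ 1. Then either P has a normal complement in G, or all involutions of G are conjugate. -/
theorem result {G : Type*} [Group G] [Finite G] (P : Sylow 2 G) (m : ℕ) (hm : 1 ≤ m) (e : (P : Subgroup G) ≃* Multiplicative (ZMod (2 ^ m) × ZMod (2 ^ m))) : (∃ N : Subgroup G, N.Normal ∧ Subgroup.IsComplement' N (P : Subgroup G)) ∨ ∀ s t : G, orderOf s = 2 → orderOf t = 2 → IsConj s t := by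
  classical
  obtain ⟨-, -, h3⟩ := Homocyclic.normalizer_structure P m hm e
  by_cases hNC : Subgroup.normalizer (P : Set G) ≤ Subgroup.centralizer (P : Set G)
  · exact Or.inl ⟨_, inferInstance, MonoidHom.ker_transferSylow_isComplement' P hNC⟩
  · right
    intro s t hs ht
    have key : ∀ r : G, orderOf r = 2 → ∃ g : G, g⁻¹ * r * g ∈ (P : Subgroup G) := by
      intro r hr
      have hZ : IsPGroup 2 (Subgroup.zpowers r) :=
        IsPGroup.of_card (n := 1) (by rw [Nat.card_zpowers, hr, pow_one])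
      obtain ⟨Q, hQ⟩ := hZ.exists_le_sylow
      obtain ⟨g, hg⟩ := MulAction.exists_smul_eq G P Q
      refine ⟨g, ?_⟩
      have h := hQ (Subgroup.mem_zpowers r)
      rw [← hg, Sylow.coe_subgroup_smul, Subgroup.mem_pointwise_smul_iff_inv_smul_mem] at h
      simpa using h
    obtain ⟨g, hg⟩ := key s hs
    obtain ⟨g', hg'⟩ := key t ht
    have ho : ∀ (r g : G), orderOf r = 2 → orderOf (g⁻¹ * r * g) = 2 := fun r g hr => by
      have h := (MulAut.conj g⁻¹).orderOf_eq r
      simpa [hr] using h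
    obtain ⟨n, -, hn⟩ := h3 (fun h => hNC (Subgroup.relIndex_eq_one.1 h)) _ _ hg hg'
      (ho s g hs) (ho t g' ht)
    exact isConj_iff.2 ⟨g' * n * g⁻¹, by
      calc g' * n * g⁻¹ * s * (g' * n * g⁻¹)⁻¹ = g' * (n * (g⁻¹ * s * g) * n⁻¹) * g'⁻¹ := by group
        _ = t := by rw [hn]; group⟩

end Cfsg.Agent.S0946
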