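import Cfsg.Statements.S0947
import Cfsg.Agent.S0936
import Cfsg.Agent.Lib.Blocks.Section
import Cfsg.Agent.Lib.Blocks.InducedBlock
import Cfsg.Agent.Lib.Blocks.Complement
import Cfsg.Agent.Lib.Involution.ZStar.PrincipalBlock
import Cfsg.Agent.Lib.Solvable.Cores
import Cfsg.Agent.Lib.Char.Quotient
-- import your own Cfsg.Agent.* helpers here

set_option autoImplicit false
open Cfsg

namespace Cfsg.Agent.S0947

/-- Let z ≠ 1 be a p-element of the finite group G with centralizer H, and fix a maximal ideal M of the algebraic integers containing p. (i) For every y ∈ H of order prime to p, the sum over ζ in the principal block of G of |ζ (z * y)|² equals the sum over χ in the principal block of H of |χ y|². (ii) If moreover H has a normal p-complement (its largest normal subgroup of order prime to p has p-power index), that common value is the largest power of p dividing the order of H. -/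
theorem result {G : Type*} [Group G] [Finite G] (p : ℕ) [Fact p.Prime] (M : Ideal Cfsg.AlgInt) (hM : Cfsg.IsPModular p M) (z : G) (hz : ∃ k : ℕ, orderOf z = p ^ k) (hz1 : z ≠ 1) (y : Subgroup.centralizer ({z} : Set G)) (hy : ¬ p ∣ orderOf y) : (∑ᶠ ζ ∈ Cfsg.principalBlock M G, ‖(ζ : G → ℂ) (z * (y : G))‖ ^ 2 = ∑ᶠ χ ∈ Cfsg.principalBlock M (Subgroup.centralizer ({z} : Set G)), ‖(χ : Subgroup.centralizer ({z} : Set G) → ℂ) y‖ ^ 2) ∧ ((∃ k : ℕ, (Cfsg.pPrimeCore p (Subgroup.centralizer ({z} : Set G))).index = p ^ k) → ∑ᶠ ζ ∈ Cfsg.principalBlock M G, ‖(ζ : G → ℂ) (z * (y : G))‖ ^ 2 = ((p ^ (Nat.card (Subgroup.centralizer ({z} : Set G))).factorization p : ℕ) : ℝ)) := by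
  classical
  letI : Fintype G := Fintype.ofFinite G
  let K : Subgroup G := Subgroup.centralizer ({z} : Set G)
  have hK : K = Subgroup.centralizer ({z} : Set G) := rfl
  have hB : Cfsg.IsPBlock M (Cfsg.principalBlock M G) := CfsgLib.Blocks.isPBlock_principalBlock
  have hS : ∀ ψ : Cfsg.IrrCharacter K,
      CfsgLib.Blocks.blockInd (CfsgLib.Blocks.sectionSet M K (Cfsg.principalBlock M G)) ψ
        = CfsgLib.Blocks.blockInd (Cfsg.principalBlock M K) ψ := fun ψ => by
    obtain ⟨B', hB'⟩ := CfsgLib.Blocks.exists_isInducedBlock_centralizer_singleton hM hz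
      (CfsgLib.Blocks.isPBlock_blockOf (M := M) ψ)
    rw [CfsgLib.Blocks.blockInd_sectionSet]
    by_cases hm : ψ ∈ Cfsg.principalBlock M K
    · rw [if_pos, CfsgLib.Blocks.blockInd_of_mem hm]
      exact (Cfsg.Agent.S0936.result p M hM K _ ⟨B', hB'⟩).2
        (CfsgLib.Blocks.IsPBlock.eq_blockOf hM CfsgLib.Blocks.isPBlock_principalBlock hm).symm
    · rw [if_neg, CfsgLib.Blocks.blockInd_of_notMem hm]
      exact fun h => hm ((Cfsg.Agent.S0936.result p M hM K _ ⟨B', hB'⟩).1 h ▸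
        CfsgLib.Blocks.SameBlock_refl hM _)
  have hnorm : ∀ (H : Type _) [Group H] [Finite H] (χ : Cfsg.IrrCharacter H) (g : H),
      ((‖(χ : H → ℂ) g‖ ^ 2 : ℝ) : ℂ) = (χ : H → ℂ) g * (χ : H → ℂ) g⁻¹ := fun H _ _ χ g => by
    letI : Fintype H := Fintype.ofFinite H
    rw [← CfsgLib.Blocks.conj_irr, Complex.mul_conj, Complex.normSq_eq_norm_sq]
  have key : ∑ᶠ ζ ∈ Cfsg.principalBlock M G, ‖(ζ : G → ℂ) (z * (y : G))‖ ^ 2
      = ∑ᶠ χ ∈ Cfsg.principalBlock M K, ‖(χ : K → ℂ) y‖ ^ 2 := by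
    apply Complex.ofReal_injective
    rw [finsum_mem_eq_toFinset_sum, finsum_mem_eq_toFinset_sum, Complex.ofReal_sum,
      Complex.ofReal_sum]
    have h := CfsgLib.Blocks.sum_block_section hM hK hz hB (s := y) (t := y) hy hy
    rw [CfsgLib.Blocks.blockKernel] at h
    simp only [hS] at h
    rw [Finset.sum_congr rfl fun i _ => hnorm G i _, Finset.sum_congr rfl fun i _ => hnorm K i _]
    refine Eq.trans ?_ (h.trans ?_)
    · refine (Finset.sum_congr rfl fun χ hχ => ?_).trans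
        (Finset.sum_subset (Finset.subset_univ _) fun χ _ hχ => ?_)
      · rw [CfsgLib.Blocks.blockInd_of_mem (Set.mem_toFinset.1 hχ), one_mul]
      · rw [CfsgLib.Blocks.blockInd_of_notMem (by simpa using hχ), zero_mul]
    · refine Eq.symm ((Finset.sum_congr rfl fun χ hχ => ?_).trans
        (Finset.sum_subset (Finset.subset_univ _) fun χ _ hχ => ?_))
      · rw [CfsgLib.Blocks.blockInd_of_mem (Set.mem_toFinset.1 hχ), one_mul, mul_comm]
      · rw [CfsgLib.Blocks.blockInd_of_notMem (by simpa using hχ), zero_mul]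
  refine ⟨key, fun hidx => ?_⟩
  rw [key]
  set O := Cfsg.pPrimeCore p K
  have hO : ¬ p ∣ Nat.card O := fun hd => (Fact.out : p.Prime).not_dvd_one
    ((CfsgLib.Solvable.Cores.coprime_card_pPrimeCore (G := K) p).gcd_eq_one ▸ Nat.dvd_gcd hd dvd_rfl)
  obtain ⟨j, hj⟩ := hidx
  have hmem : ∀ ψ : Cfsg.IrrCharacter K, ψ ∈ Cfsg.principalBlock M K
      ↔ ∀ n ∈ O, (ψ : K → ℂ) n = (ψ : K → ℂ) 1 := fun ψ => by
    refine ⟨fun h n hn => CfsgLib.Involution.ZStar.apply_eq_one_of_mem hM h inferInstance hO hn,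
      fun h => ?_⟩
    refine CfsgLib.Blocks.mem_blockOf.2 ?_
    refine CfsgLib.Blocks.sameBlock_of_over hM (N := O) ⟨j, hj⟩
      (χ := CfsgLib.Blocks.trivChar K) (θ := CfsgLib.Blocks.trivChar O) ?_ ?_
    · simp [Cfsg.classInner, CfsgLib.Char.card_ne_zero]
    · simp [Cfsg.classInner, fun n : O => h n n.2, CfsgLib.Blocks.irr_one_ne_zero,
        CfsgLib.Char.card_ne_zero]
  have hyO : y ∈ O := by
    rw [← QuotientGroup.eq_one_iff, ← orderOf_eq_one_iff]
    have h1 : orderOf (QuotientGroup.mk' O y) ∣ p ^ j := by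
      rw [← hj, Subgroup.index_eq_card]; exact orderOf_dvd_natCard _
    obtain ⟨i, -, hi⟩ := (Nat.dvd_prime_pow (Fact.out : p.Prime)).1 h1
    rcases Nat.eq_zero_or_pos i with h0 | h0
    · rw [h0, pow_zero] at hi; exact hi
    · exact absurd ((dvd_pow_self p h0.ne').trans (hi ▸ orderOf_map_dvd (QuotientGroup.mk' O) y)) hy
  have hpp : p ^ (Nat.card K).factorization p = Nat.card (K ⧸ O) := by
    rw [← Subgroup.index_eq_card, hj]
    congr 1
    rw [← Subgroup.card_mul_index O, hj, Nat.factorization_mul Nat.card_pos.ne'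
      (pow_ne_zero _ (Fact.out : p.Prime).ne_zero), Finsupp.add_apply,
      Nat.factorization_eq_zero_of_not_dvd hO, Nat.Prime.factorization_pow Fact.out,
      Finsupp.single_eq_same, zero_add]
  rw [hpp]
  haveI : Fintype (K ⧸ O) := Fintype.ofFinite _
  apply Complex.ofReal_injective
  rw [Complex.ofReal_natCast, ← CfsgLib.Char.sum_sq_apply_one, finsum_mem_eq_toFinset_sum,
    Complex.ofReal_sum]
  rw [Finset.sum_subtype (p := fun ψ => ψ ∈ Cfsg.principalBlock M K) _ (fun ψ => Set.mem_toFinset)]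
  refine (Fintype.sum_equiv ((CfsgLib.Char.irrQuotientEquiv O).trans
    (Equiv.subtypeEquivRight fun ψ => (hmem ψ).symm)) _ _ fun θ => ?_).symm
  set ψ := ((CfsgLib.Char.irrQuotientEquiv O θ).1 : Cfsg.IrrCharacter K)
  have hone : (ψ : K → ℂ) y = (ψ : K → ℂ) 1 := (CfsgLib.Char.irrQuotientEquiv O θ).2 y hyO
  show ((θ : K ⧸ O → ℂ) 1) ^ 2 = ((‖(ψ : K → ℂ) y‖ ^ 2 : ℝ) : ℂ)
  rw [hnorm K ψ y, hone, show (ψ : K → ℂ) y⁻¹ = (ψ : K → ℂ) 1 from
    (CfsgLib.Char.irrQuotientEquiv O θ).2 _ (inv_mem hyO), sq]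
  rfl

end Cfsg.Agent.S0947
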