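import Cfsg.Statements.S0950
import Cfsg.Agent.Lib.Fusion.Alperin
import Mathlib.GroupTheory.SpecificGroups.Quaternion

set_option autoImplicit false
open Cfsg
open Subgroup

namespace Cfsg.Agent.S0950

variable {G : Type*} [Group G]

theorem pow_smul_fixed {g x : G} (hg : g * (g * x * g⁻¹) * g⁻¹ = x) (hodd : Odd (orderOf g)) :
    g * x * g⁻¹ = x := by
  obtain ⟨k, hk⟩ := hodd
  have h : ∀ j : ℕ, g ^ (2 * j) * x * (g ^ (2 * j))⁻¹ = x := by
    intro j
    induction j with
    | zero => simp
    | succ j ih =>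
      calc g ^ (2 * (j + 1)) * x * (g ^ (2 * (j + 1)))⁻¹
          = g * (g * (g ^ (2 * j) * x * (g ^ (2 * j))⁻¹) * g⁻¹) * g⁻¹ := by
            rw [show 2 * (j + 1) = 1 + (1 + 2 * j) by ring, pow_add, pow_add, pow_one]; group
        _ = x := by rw [ih, hg]
  have h1 := h k
  have h2 : g ^ (2 * k) = g⁻¹ := by
    rw [eq_inv_iff_mul_eq_one, ← pow_succ, ← hk, pow_orderOf_eq_one]
  rw [h2, inv_inv] at h1
  conv_lhs => rw [← h1]
  group

theorem commute_of_normalize {g x : G} (hodd : Odd (orderOf g)) (hx : x ^ 4 = 1)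
    (h : g * x * g⁻¹ = x ∨ g * x * g⁻¹ = x ^ 3) : g * x * g⁻¹ = x := by
  rcases h with h | h
  · exact h
  · refine pow_smul_fixed ?_ hodd
    rw [h, show g * x ^ 3 * g⁻¹ = (g * x * g⁻¹) ^ 3 from conj_pow.symm, h, ← pow_mul,
      show x ^ (3 * 3) = (x ^ 4) ^ 2 * x by rw [← pow_mul, ← pow_succ], hx, one_pow, one_mul]

def r : Fin 3 → QuaternionGroup 2 :=
  ![QuaternionGroup.a 1, QuaternionGroup.xa 0, QuaternionGroup.xa 1]


/-- Let S be a Sylow 2-subgroup of the finite group G that is isomorphic to the quaternion group of order 8, and suppose S has no normal complement in G. Then any two subgroups of order 4 of S are conjugate by an element of the normalizer of S. -/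
theorem result {G : Type*} [Group G] [Finite G] (S : Sylow 2 G) (e : (S : Subgroup G) ≃* QuaternionGroup 2) (hnc : ∀ N : Subgroup G, N.Normal → ¬ Subgroup.IsComplement' N (S : Subgroup G)) (A B : Subgroup G) (hA : A ≤ S) (hB : B ≤ S) (hA4 : Nat.card A = 4) (hB4 : Nat.card B = 4) : ∃ n ∈ Subgroup.normalizer ((S : Subgroup G) : Set G), B = A.map (MulAut.conj n).toMonoidHom := by
  classical
  have hcard : Nat.card (S : Subgroup G) = 8 := by
    rw [Nat.card_congr e.toEquiv, Nat.card_eq_fintype_card, QuaternionGroup.card]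
  have hnpc : ¬ Cfsg.HasNormalPComplement 2 G := by
    rintro ⟨P, N, hN, hc⟩
    have hPS : Nat.card (P : Subgroup G) = Nat.card (S : Subgroup G) := by
      rw [Sylow.card_eq_multiplicity, Sylow.card_eq_multiplicity]
    refine hnc N hN (Subgroup.isComplement'_of_coprime (by rw [← hPS]; exact hc.card_mul) ?_)
    have hNi : Nat.card N = (S : Subgroup G).index := by
      have h1 := hc.card_mul
      rw [hPS, mul_comm, ← Subgroup.card_mul_index (S : Subgroup G)] at h1
      exact Nat.eq_of_mul_eq_mul_left Nat.card_pos h1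
    rw [hNi, hcard, show 8 = 2 ^ 3 by norm_num]
    exact Nat.Coprime.pow_right _ ((Nat.prime_two.coprime_iff_not_dvd.2 S.not_dvd_index).symm)
  -- the three cyclic subgroups of order four
  let v : Fin 3 → G := fun i => ((e.symm (r i) : (S : Subgroup G)) : G)
  have hvS : ∀ i, v i ∈ (S : Subgroup G) := fun i => SetLike.coe_mem _
  have hv4 : ∀ i, orderOf (v i) = 4 := by
    intro i
    rw [Subgroup.orderOf_coe, MulEquiv.orderOf_eq]
    haveI : Fact (Nat.Prime 2) := ⟨Nat.prime_two⟩
    refine orderOf_eq_prime_pow (n := 1) (p := 2) ?_ ?_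
    · revert i; decide
    · revert i; decide
  have hex : ∀ A : Subgroup G, A ≤ S → Nat.card A = 4 → ∃ i, A = zpowers (v i) := by
    intro A hA hA4
    obtain ⟨x, hx⟩ : ∃ x : A, (e ⟨x, hA x.2⟩) ^ 2 ≠ 1 := by
      by_contra h
      push Not at h
      let f : A → {q : QuaternionGroup 2 // q ^ 2 = 1} := fun x => ⟨e ⟨x, hA x.2⟩, h x⟩
      have hf : Function.Injective f := fun a b hab => by
        have := e.injective (congrArg Subtype.val hab)
        exact Subtype.ext (congrArg (fun z : (S : Subgroup G) => (z : G)) this)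
      have h1 := Nat.card_le_card_of_injective f hf
      have h2 : Nat.card {q : QuaternionGroup 2 // q ^ 2 = 1} = 2 := by
        rw [Nat.card_eq_fintype_card]; decide
      omega
    have hd : ∀ q : QuaternionGroup 2, q ^ 2 ≠ 1 → ∃ i, q = r i ∨ q = r i ^ 3 := by decide
    obtain ⟨i, hi⟩ := hd _ hx
    refine ⟨i, ?_⟩
    have hxv : (x : G) ∈ zpowers (v i) := by
      have h1 : (x : G) = ((e.symm (e ⟨x, hA x.2⟩) : (S : Subgroup G)) : G) := by simp
      rw [h1]
      rcases hi with h | h
      · rw [h]; exact mem_zpowers _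
      · rw [h, map_pow, SubmonoidClass.coe_pow]; exact pow_mem (mem_zpowers _) 3
    have hxo : Nat.card (zpowers (x : G)) = 4 := by
      rw [Nat.card_zpowers, show (x : G) = ((⟨x, hA x.2⟩ : (S : Subgroup G)) : G) from rfl,
        Subgroup.orderOf_coe, ← e.orderOf_eq]
      haveI : Fact (Nat.Prime 2) := ⟨Nat.prime_two⟩
      have h8 : ∀ q : QuaternionGroup 2, q ^ 4 = 1 := by decide
      refine orderOf_eq_prime_pow (n := 1) (p := 2) hx ?_
      exact h8 _
    have e1 : zpowers (x : G) = A := Subgroup.eq_of_le_of_card_ge (zpowers_le.2 x.2)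
      (by rw [hA4, hxo])
    have e2 : zpowers (x : G) = zpowers (v i) := Subgroup.eq_of_le_of_card_ge (zpowers_le.2 hxv)
      (by rw [Nat.card_zpowers (v i), hv4, hxo])
    exact e1.symm.trans e2
  have hinj : ∀ i j, v i ∈ zpowers (v j) → i = j := by
    intro i j h
    rw [mem_zpowers_iff_mem_range_orderOf, hv4 j, Finset.mem_image] at h
    obtain ⟨k, hk, hke⟩ := h
    have hd : ∀ (i j : Fin 3), ∀ k < 4, r j ^ k = r i → i = j := by decide
    refine hd i j k (Finset.mem_range.1 hk) (e.symm.injective (Subtype.ext ?_))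
    rw [map_pow, SubmonoidClass.coe_pow]
    exact hke
  -- a noncentral element of odd order in the normalizer
  obtain ⟨g, hgS, hgodd, hgC⟩ : ∃ g ∈ normalizer ((S : Subgroup G) : Set G), Odd (orderOf g) ∧
      g ∉ centralizer ((S : Subgroup G) : Set G) := by
    by_contra h
    push Not at h
    refine hnpc (CfsgLib.Fusion.Alperin.npc_of_frobenius S fun Q hQ g hg ho => ?_)
    have hodd : Odd (orderOf g) :=
      Nat.not_even_iff_odd.1 fun he => by
        have := Nat.Coprime.coprime_dvd_left (even_iff_two_dvd.1 he) ho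
        norm_num at this
    have hd : Nat.card Q ∣ 2 ^ 3 := by
      have := Subgroup.card_dvd_of_le hQ
      rw [hcard] at this
      norm_num
      exact this
    obtain ⟨k, hk, hk'⟩ := (Nat.dvd_prime_pow Nat.prime_two).1 hd
    refine mem_centralizer_iff.2 fun q hq => ?_
    have hgq : ∀ y ∈ Q, g * y * g⁻¹ ∈ Q := fun y hy => (mem_normalizer_iff.1 hg y).1 hy
    refine (mul_inv_eq_iff_eq_mul.1 ?_).symm
    interval_cases k
    · rw [Subgroup.card_eq_one.1 (hk'.trans (pow_zero 2))] at hq
      simp [mem_bot.1 hq]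
    · by_contra hne
      have h2 : Nat.card Q = 2 := by simpa using hk'
      obtain ⟨a, b, hab, hQ2⟩ := Nat.card_eq_two_iff.1 h2
      have hmem : ∀ y : Q, y = a ∨ y = b := fun y => by
        have : y ∈ (Set.univ : Set Q) := trivial
        rw [← hQ2] at this
        simpa using this
      have hq1 : q ≠ 1 := fun h => hne (by simp [h])
      have hc1 : g * q * g⁻¹ ≠ 1 := fun h => hq1 (conj_eq_one_iff.1 h)
      refine hne ?_
      rcases hmem ⟨q, hq⟩ with h3 | h3 <;> rcases hmem ⟨_, hgq q hq⟩ with h4 | h4 <;>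
        rcases hmem 1 with h5 | h5 <;>
        simp only [← h3, ← h4, Subtype.ext_iff, OneMemClass.coe_one] at h5 hab ⊢ <;>
        first
          | exact absurd h5.symm hq1
          | exact absurd h5.symm hc1
          | exact (congrArg Subtype.val (h4.trans h3.symm))
    · obtain ⟨i, rfl⟩ := hex Q hQ (by simpa using hk')
      obtain ⟨j, hj⟩ := Subgroup.mem_zpowers_iff.1 hq
      have hfix : g * v i * g⁻¹ = v i := by
        refine commute_of_normalize hodd (by rw [← hv4 i]; exact pow_orderOf_eq_one _) ?_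
        have h1 := hgq _ (mem_zpowers (v i))
        have hne : ∀ k : ℕ, k ∣ 2 → (g * v i * g⁻¹) ^ k ≠ 1 := by
          intro k hk h2
          rw [conj_pow, conj_eq_one_iff] at h2
          have := Nat.le_of_dvd (by norm_num) ((orderOf_dvd_of_pow_eq_one h2).trans hk)
          rw [hv4 i] at this
          omega
        rw [mem_zpowers_iff_mem_range_orderOf, hv4 i, Finset.mem_image] at h1
        obtain ⟨k, hk, hke⟩ := h1
        rw [Finset.mem_range] at hk
        interval_cases k
        · exact absurd (by rw [← hke, pow_zero, one_pow]) (hne 1 (by norm_num))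
        · exact Or.inl (by rw [← hke, pow_one])
        · exact absurd (by rw [← hke, ← pow_mul, show 2 * 2 = 4 from rfl, ← hv4 i, pow_orderOf_eq_one]) (hne 2 dvd_rfl)
        · exact Or.inr hke.symm
      rw [← hj, ← conj_zpow, hfix]
    · have hQS : Q = (S : Subgroup G) := Subgroup.eq_of_le_of_card_ge hQ (by rw [hk', hcard]; norm_num)
      subst hQS
      exact (mul_inv_eq_iff_eq_mul).2 (mem_centralizer_iff.1 (h g hg hodd) q hq).symm
  have hstep : ∀ i, ∃ j, (zpowers (v i)).map (MulAut.conj g).toMonoidHom = zpowers (v j) := by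
    intro i
    refine hex _ ?_ ?_
    · rintro _ ⟨y, hy, rfl⟩
      exact (mem_normalizer_iff.1 hgS y).1 (zpowers_le.2 (hvS i) hy)
    · rw [Subgroup.card_map_of_injective (MulAut.conj g).injective, Nat.card_zpowers, hv4]
  choose σ hσ using hstep
  have hpow : ∀ (n : ℕ) (i : Fin 3),
      (zpowers (v i)).map (MulAut.conj (g ^ n)).toMonoidHom = zpowers (v (σ^[n] i)) := by
    intro n
    induction n with
    | zero =>
      intro i
      ext y
      simp
    | succ n ih =>
      intro i
      rw [Function.iterate_succ_apply', ← hσ, ← ih, Subgroup.map_map]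
      congr 1
      ext y
      simp [pow_succ', mul_assoc]
  have hper : ∀ i, σ^[orderOf g] i = i := fun i => by
    have h := hpow (orderOf g) i
    rw [pow_orderOf_eq_one] at h
    exact (hinj _ _ (h ▸ ⟨v i, mem_zpowers _, by simp⟩)).symm
  have hnofix : ∀ i, σ i ≠ i := by
    intro i hi
    refine hgC (mem_centralizer_iff.2 fun y hy => ?_)
    have hinjσ : Function.Injective σ := fun a b hab => by
      refine hinj _ _ ?_
      have h := (hσ a).trans ((congrArg (fun k => zpowers (v k)) hab).trans (hσ b).symm)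
      have h' := Subgroup.map_injective (MulAut.conj g).injective h
      rw [← h']; exact mem_zpowers _
    have hd : ∀ f : Fin 3 → Fin 3, Function.Injective f → ∀ i, f i = i → ∀ j, f (f j) = j := by
      decide
    have h2 : ∀ (k : ℕ) j, σ^[2 * k] j = j := by
      intro k
      induction k with
      | zero => intro j; rfl
      | succ k ih =>
        intro j
        rw [show 2 * (k + 1) = 2 * k + 2 by ring, Function.iterate_add_apply]
        exact (congrArg _ (hd σ hinjσ i hi j)).trans (ih j)
    obtain ⟨k, hk⟩ := hgodd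
    have hfix : ∀ j, σ j = j := fun j => by
      have := hper j
      rw [hk, show 2 * k + 1 = (2 * k).succ from rfl, Function.iterate_succ_apply'] at this
      rwa [h2 k j] at this
    have hcv : ∀ j, g * v j * g⁻¹ = v j := by
      intro j
      refine commute_of_normalize ⟨k, hk⟩ (by rw [← hv4 j]; exact pow_orderOf_eq_one _) ?_
      have hm : g * v j * g⁻¹ ∈ zpowers (v j) := by
        have := hσ j
        rw [hfix j] at this
        rw [← this]
        exact ⟨v j, mem_zpowers _, rfl⟩
      have hne : ∀ k : ℕ, k ∣ 2 → (g * v j * g⁻¹) ^ k ≠ 1 := by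
        intro k hk h2
        rw [conj_pow, conj_eq_one_iff] at h2
        have := Nat.le_of_dvd (by norm_num) ((orderOf_dvd_of_pow_eq_one h2).trans hk)
        rw [hv4 j] at this
        omega
      rw [mem_zpowers_iff_mem_range_orderOf, hv4 j, Finset.mem_image] at hm
      obtain ⟨k, hk, hke⟩ := hm
      rw [Finset.mem_range] at hk
      interval_cases k
      · exact absurd (by rw [← hke, pow_zero, one_pow]) (hne 1 (by norm_num))
      · exact Or.inl (by rw [← hke, pow_one])
      · exact absurd (by rw [← hke, ← pow_mul, show 2 * 2 = 4 from rfl, ← hv4 j, pow_orderOf_eq_one]) (hne 2 dvd_rfl)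
      · exact Or.inr hke.symm
    have hall : ∀ q : QuaternionGroup 2, ∃ (i j : Fin 3) (a b : Fin 4),
        q = r i ^ (a : ℕ) * r j ^ (b : ℕ) := by decide
    obtain ⟨i1, j1, a, b, hab⟩ := hall (e ⟨y, hy⟩)
    have hy' : y = v i1 ^ (a : ℕ) * v j1 ^ (b : ℕ) := by
      have h := congrArg (fun q => ((e.symm q : (S : Subgroup G)) : G)) hab
      simpa [v] using h
    have hc : ∀ j, Commute g (v j) := fun j => mul_inv_eq_iff_eq_mul.1 (hcv j)
    rw [hy']
    exact (((hc i1).pow_right _).mul_right ((hc j1).pow_right _)).eq.symm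
  obtain ⟨i, rfl⟩ := hex A hA hA4
  obtain ⟨j, rfl⟩ := hex B hB hB4
  have hd : ∀ f : Fin 3 → Fin 3, Function.Injective f → (∀ i, f i ≠ i) → ∀ i j,
      j = i ∨ j = f i ∨ j = f (f i) := by decide
  have hinjσ : Function.Injective σ := fun a b hab => by
    refine hinj _ _ ?_
    have h := (hσ a).trans ((congrArg (fun k => zpowers (v k)) hab).trans (hσ b).symm)
    have h' := Subgroup.map_injective (MulAut.conj g).injective h
    rw [← h']; exact mem_zpowers _
  rcases hd σ hinjσ hnofix i j with rfl | rfl | rfl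
  · exact ⟨g ^ 0, (normalizer _).pow_mem hgS 0, (hpow 0 _).symm⟩
  · exact ⟨g ^ 1, (normalizer _).pow_mem hgS 1, (hpow 1 _).symm⟩
  · exact ⟨g ^ 2, (normalizer _).pow_mem hgS 2, (hpow 2 _).symm⟩

end Cfsg.Agent.S0950
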