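import Cfsg.Statements.S0952
import Cfsg.Agent.Lib.Blocks.Local
-- import your own Cfsg.Agent.* helpers here

set_option autoImplicit false
open scoped ComplexConjugate
open Cfsg

namespace Cfsg.Agent.S0952

/-- Let χ and ψ be irreducible characters of the finite group G lying in different blocks relative to a maximal ideal M of the algebraic integers containing the prime p. Then the sum of χ x * conj (ψ x) over the elements x of order prime to p is zero. -/
theorem result {G : Type*} [Group G] [Finite G] (p : ℕ) [Fact p.Prime] (M : Ideal Cfsg.AlgInt) (hM : Cfsg.IsPModular p M) (χ ψ : Cfsg.IrrCharacter G) (h : ¬ Cfsg.SameBlock M (χ : G → ℂ) (ψ : G → ℂ)) : ∑ᶠ x ∈ {x : G | ¬ p ∣ orderOf x}, (χ : G → ℂ) x * conj ((ψ : G → ℂ) x) = 0 := by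
  classical
  letI : Fintype G := Fintype.ofFinite G
  have hne : ψ ∉ Cfsg.blockOf M (χ : G → ℂ) := fun hm => h (CfsgLib.Blocks.mem_blockOf.1 hm)
  have h0 := CfsgLib.Blocks.IsPBlock.regInner_eq_zero hM (CfsgLib.Blocks.isPBlock_blockOf χ)
    (CfsgLib.Blocks.SameBlock_refl hM _) hne
  rw [CfsgLib.Blocks.regInner] at h0
  have h1 := (mul_eq_zero.1 h0).resolve_left
    (mul_ne_zero (CfsgLib.Blocks.pPartCard_ne_zero hM.1) (inv_ne_zero CfsgLib.Char.card_ne_zero))
  rw [finsum_mem_eq_toFinset_sum, ← h1]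
  refine Finset.sum_congr (by ext x; exact ⟨fun hx => Finset.mem_filter.2 ⟨Finset.mem_univ _, Set.mem_toFinset.1 hx⟩, fun hx => Set.mem_toFinset.2 (Finset.mem_filter.1 hx).2⟩) fun x _ => ?_
  rw [CfsgLib.Blocks.conj_irr]

end Cfsg.Agent.S0952
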