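import Cfsg.Statements.S0953
import Cfsg.Agent.Lib.Blocks.FirstMain
import Cfsg.Agent.Lib.Blocks.NormalSylow
-- import your own Cfsg.Agent.* helpers here

set_option autoImplicit false
open Cfsg

namespace Cfsg.Agent.S0953

/-- Let P be a Sylow p-subgroup of the finite group G with normalizer N, and fix a maximal ideal M of the algebraic integers containing p. The number of blocks of G having P as a defect group equals the number of conjugacy classes of N consisting of elements of order prime to p that centralize P. -/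
theorem result {G : Type*} [Group G] [Finite G] (p : ℕ) [Fact p.Prime] (M : Ideal Cfsg.AlgInt) (hM : Cfsg.IsPModular p M) (P : Sylow p G) : Nat.card {B : Set (Cfsg.IrrCharacter G) // Cfsg.IsPBlock M B ∧ Cfsg.IsDefectGroup p M B (P : Subgroup G)} = Nat.card {C : ConjClasses (Subgroup.normalizer ((P : Subgroup G) : Set G)) // ∀ n : Subgroup.normalizer ((P : Subgroup G) : Set G), ConjClasses.mk n = C → ¬ p ∣ orderOf n ∧ (n : G) ∈ Subgroup.centralizer ((P : Subgroup G) : Set G)} := by
  classical
  letI : Fintype G := Fintype.ofFinite G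
  set N := Subgroup.normalizer ((P : Subgroup G) : Set G)
  haveI : ((P : Subgroup G).subgroupOf N).Normal :=
    CfsgLib.Blocks.normal_subgroupOf_of_le_normalizer Subgroup.le_normalizer le_rfl
  have hPN : IsPGroup p ((P : Subgroup G).subgroupOf N) :=
    CfsgLib.Blocks.isPGroup_subgroupOf_normalizer P.isPGroup'
  have hidx : ¬ p ∣ ((P : Subgroup G).subgroupOf N).index := fun h =>
    P.not_dvd_index (h.trans (Subgroup.relIndex_dvd_index_of_le Subgroup.le_normalizer))
  have hdg : ∀ b : Set (Cfsg.IrrCharacter N), Cfsg.IsPBlock M b →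
      Cfsg.IsDefectGroup p M b ((P : Subgroup G).subgroupOf N) := fun b hb => by
    obtain ⟨E, hE⟩ := CfsgLib.Blocks.exists_isDefectGroup hM hb
    have hle := CfsgLib.Blocks.le_defectGroup_of_normal hM hb hPN hE
    obtain ⟨k, hk⟩ := IsPGroup.iff_card.1 (CfsgLib.Blocks.isPGroup_defectGroup hE)
    rwa [Subgroup.eq_of_le_of_card_ge hle ?_]
    rw [hk, Nat.card_congr (Subgroup.subgroupOfEquivOfLe Subgroup.le_normalizer).toEquiv,
      P.card_eq_multiplicity]
    exact Nat.pow_le_pow_right hM.1.pos ((hM.1.pow_dvd_iff_le_factorization Nat.card_pos.ne').1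
      (hk ▸ ((Subgroup.card_subgroup_dvd_card E).trans (Subgroup.card_subgroup_dvd_card N))))
  have hC : ∀ n : N, n ∈ Subgroup.centralizer (((P : Subgroup G).subgroupOf N : Subgroup N) : Set N)
      ↔ (n : G) ∈ Subgroup.centralizer ((P : Subgroup G) : Set G) :=
    CfsgLib.Blocks.mem_centralizer_subgroupOf Subgroup.le_normalizer
  refine Eq.trans ?_ ((CfsgLib.Blocks.card_blocks_of_normal_sylow hM hPN hidx).trans
    (Nat.card_congr (Equiv.subtypeEquivRight fun C => forall₂_congr fun n _ => by rw [hC])))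
  refine (Nat.card_eq_of_bijective (fun b : {b : Set (Cfsg.IrrCharacter N) // Cfsg.IsPBlock M b} =>
    (⟨(CfsgLib.Blocks.exists_isInducedBlock_local hM P.isPGroup' Subgroup.le_normalizer
        (CfsgLib.Blocks.centralizer_le_normalizer _) le_rfl b.2).choose, ?_⟩ :
      {B : Set (Cfsg.IrrCharacter G) //
        Cfsg.IsPBlock M B ∧ Cfsg.IsDefectGroup p M B (P : Subgroup G)})) ⟨?_, ?_⟩).symm
  · have h := (CfsgLib.Blocks.exists_isInducedBlock_local hM P.isPGroup' Subgroup.le_normalizer
      (CfsgLib.Blocks.centralizer_le_normalizer _) le_rfl b.2).choose_spec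
    exact ⟨h.2.1, CfsgLib.Blocks.isDefectGroup_of_induced_normalizer hM P.isPGroup' (hdg _ b.2) h⟩
  · intro b b' h
    have h1 := (CfsgLib.Blocks.exists_isInducedBlock_local hM P.isPGroup' Subgroup.le_normalizer
      (CfsgLib.Blocks.centralizer_le_normalizer _) le_rfl b.2).choose_spec
    have h2 := (CfsgLib.Blocks.exists_isInducedBlock_local hM P.isPGroup' Subgroup.le_normalizer
      (CfsgLib.Blocks.centralizer_le_normalizer _) le_rfl b'.2).choose_spec
    have h' := congrArg Subtype.val h
    simp only [] at h'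
    rw [← h'] at h2
    exact Subtype.ext ((CfsgLib.Blocks.existsUnique_correspondent hM h1.2.1
      (CfsgLib.Blocks.isDefectGroup_of_induced_normalizer hM P.isPGroup' (hdg _ b.2) h1)).unique
        ⟨b.2, hdg _ b.2, h1⟩ ⟨b'.2, hdg _ b'.2, h2⟩)
  · intro B
    obtain ⟨b, ⟨hb, -, hind⟩, -⟩ := CfsgLib.Blocks.existsUnique_correspondent hM B.2.1 B.2.2
    exact ⟨⟨b, hb⟩, Subtype.ext (CfsgLib.Blocks.IsInducedBlock.unique hM
      (CfsgLib.Blocks.exists_isInducedBlock_local hM P.isPGroup' Subgroup.le_normalizer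
        (CfsgLib.Blocks.centralizer_le_normalizer _) le_rfl hb).choose_spec hind)⟩

end Cfsg.Agent.S0953
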