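import Cfsg.Statements.S0955
import Cfsg.Agent.Lib.Blocks.Local
import Cfsg.Agent.Lib.Solvable.Cores
-- import your own Cfsg.Agent.* helpers here

set_option autoImplicit false
open Cfsg

namespace Cfsg.Agent.S0955

/-- Let D be a defect group of a block of the finite group G relative to a maximal ideal M of the algebraic integers containing the prime p. Then D is the largest normal p-subgroup of its own normalizer: O_p(N_G(D)) = D. -/
theorem result {G : Type*} [Group G] [Finite G] (p : ℕ) [Fact p.Prime] (M : Ideal Cfsg.AlgInt) (hM : Cfsg.IsPModular p M) (B : Set (Cfsg.IrrCharacter G)) (hB : Cfsg.IsPBlock M B) (D : Subgroup G) (hD : Cfsg.IsDefectGroup p M B D) : (Cfsg.pCore p (Subgroup.normalizer (D : Set G))).map (Subgroup.normalizer (D : Set G)).subtype = D := by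
  classical
  letI : Fintype G := Fintype.ofFinite G
  set K := Subgroup.normalizer (D : Set G)
  have hDK : D ≤ K := Subgroup.le_normalizer
  refine CfsgLib.Blocks.le_defectGroup_of_normalizer hM hB hD
    (IsPGroup.map (CfsgLib.Solvable.Cores.isPGroup_pCore p) _) ?_ (Subgroup.map_subtype_le _) ?_
  · haveI : (D.subgroupOf K).Normal :=
      CfsgLib.Blocks.normal_subgroupOf_of_le_normalizer hDK le_rfl
    intro u hu
    refine ⟨⟨u, hDK hu⟩, CfsgLib.Solvable.Cores.le_pCore (N := D.subgroupOf K)
      ((CfsgLib.Blocks.isPGroup_defectGroup hD).of_injective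
        (Subgroup.subgroupOfEquivOfLe hDK).toMonoidHom
        (Subgroup.subgroupOfEquivOfLe hDK).injective) hu, rfl⟩
  · refine (Subgroup.normal_subgroupOf_iff_le_normalizer (Subgroup.map_subtype_le _)).1 ?_
    rw [Subgroup.subgroupOf, Subgroup.comap_map_eq_self_of_injective (Subgroup.subtype_injective _)]
    infer_instance

end Cfsg.Agent.S0955
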