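import Cfsg.Statements.S0956
import Cfsg.Agent.Lib.Blocks.TrivialIntersection
-- import your own Cfsg.Agent.* helpers here

set_option autoImplicit false
open Cfsg

namespace Cfsg.Agent.S0956

/-- Let D be a defect group of a block of the finite group G (relative to a maximal ideal M of the algebraic integers containing the prime p) and P a Sylow p-subgroup containing D. Then there is an element x of order prime to p such that D is a Sylow p-subgroup of the centralizer of x and D = P ∩ x P x⁻¹. -/
theorem result {G : Type*} [Group G] [Finite G] (p : ℕ) [Fact p.Prime] (M : Ideal Cfsg.AlgInt) (hM : Cfsg.IsPModular p M) (B : Set (Cfsg.IrrCharacter G)) (hB : Cfsg.IsPBlock M B) (D : Subgroup G) (hD : Cfsg.IsDefectGroup p M B D) (P : Sylow p G) (hDP : D ≤ P) : ∃ x : G, ¬ p ∣ orderOf x ∧ (∃ S : Sylow p (Subgroup.centralizer ({x} : Set G)), (S : Subgroup (Subgroup.centralizer ({x} : Set G))).map (Subgroup.centralizer ({x} : Set G)).subtype = D) ∧ (P : Subgroup G) ⊓ (P : Subgroup G).map (MulAut.conj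 x).toMonoidHom = D := by
  classical
  letI : Fintype G := Fintype.ofFinite G
  have hp : p.Prime := Fact.out
  have hDp := CfsgLib.Blocks.isPGroup_defectGroup hD
  set N := Subgroup.normalizer (D : Set G) with hN
  have hDN : D ≤ N := Subgroup.le_normalizer
  obtain ⟨bN, ⟨hbN, hbD, -⟩, -⟩ := CfsgLib.Blocks.existsUnique_correspondent hM hB hD
  haveI : (D.subgroupOf N).Normal :=
    CfsgLib.Blocks.normal_subgroupOf_of_le_normalizer hDN le_rfl
  obtain ⟨S, hS⟩ := (P.isPGroup'.comap_subtype (K := N)).exists_le_sylow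
  obtain ⟨y, hyreg, hyC, hycard, hyint⟩ := CfsgLib.Blocks.exists_sylow_inter_eq hM hbN hbD S
  have hyC' : (y : G) ∈ Subgroup.centralizer (D : Set G) :=
    (CfsgLib.Blocks.mem_centralizer_subgroupOf hDN y).1 hyC
  rw [Nat.card_congr (Subgroup.subgroupOfEquivOfLe hDN).toEquiv] at hycard
  obtain ⟨-, hsyl⟩ := CfsgLib.Blocks.centExp_eq_of_normalizer hp hDp hyC' hycard
  refine ⟨(y : G), by simpa [Cfsg.IsPRegular, Subgroup.orderOf_coe] using hyreg, ?_, ?_⟩
  · set C := Subgroup.centralizer ({(y : G)} : Set G)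
    have hDC : D ≤ C := fun u hu =>
      Subgroup.mem_centralizer_singleton_iff.2 (Subgroup.mem_centralizer_iff.1 hyC' u hu)
    obtain ⟨T, hT⟩ := (hDp.comap_subtype (K := C)).exists_le_sylow
    have he : D.subgroupOf C = T := Subgroup.eq_of_le_of_card_ge hT (by
      rw [Nat.card_congr (Subgroup.subgroupOfEquivOfLe hDC).toEquiv]; exact (hsyl T).le)
    exact ⟨T, by rw [← he, Subgroup.map_subgroupOf_eq_of_le hDC]⟩
  · set E := (P : Subgroup G) ⊓ (P : Subgroup G).map (MulAut.conj (y : G)).toMonoidHom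
    have hDE : D ≤ E := le_inf hDP fun u hu => ⟨u, hDP hu, by
      show (y : G) * u * (y : G)⁻¹ = u
      rw [← Subgroup.mem_centralizer_iff.1 hyC' u hu, mul_inv_cancel_right]⟩
    by_contra hne
    have hEp : IsPGroup p E := P.isPGroup'.to_le inf_le_left
    have hlt : D.subgroupOf E < ⊤ := lt_top_iff_ne_top.2 fun h =>
      hne (le_antisymm (Subgroup.subgroupOf_eq_top.1 h) hDE)
    haveI : Group.IsNilpotent E := hEp.isNilpotent
    obtain ⟨u, hu, huD⟩ := SetLike.exists_of_lt (Group.normalizerCondition_of_isNilpotent _ hlt)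
    have huN : (u : G) ∈ N := by
      refine Subgroup.mem_normalizer_iff.2 fun w => ⟨fun hw => ?_, fun hw => ?_⟩
      · simpa [Subgroup.mem_subgroupOf] using
          (Subgroup.mem_normalizer_iff.1 hu ⟨w, hDE hw⟩).1 hw
      · have hwE : w ∈ E := by
          simpa [mul_assoc] using E.mul_mem (E.mul_mem (inv_mem u.2) (hDE hw)) u.2
        have := (Subgroup.mem_normalizer_iff.1 hu ⟨w, hwE⟩).2
        simp [Subgroup.mem_subgroupOf] at this
        exact this hw
    obtain ⟨v, hv, hve⟩ := (Subgroup.mem_inf.1 u.2).2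
    change (y : G) * v * (y : G)⁻¹ = (u : G) at hve
    have hvN : v ∈ N := by
      have h1 := N.mul_mem (N.mul_mem (inv_mem y.2) huN) y.2
      rw [← hve] at h1
      simpa [mul_assoc] using h1
    have hmem : (⟨(u : G), huN⟩ : N) ∈
        (S : Subgroup N) ⊓ (S : Subgroup N).map (MulAut.conj y).toMonoidHom :=
      ⟨hS (Subgroup.mem_inf.1 u.2).1, ⟨v, hvN⟩, hS hv, Subtype.ext (by simpa using hve)⟩
    rw [hyint] at hmem
    exact huD hmem

end Cfsg.Agent.S0956
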