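import Cfsg.Statements.S0957
import Mathlib

set_option autoImplicit false
open Cfsg

namespace Cfsg.Agent.S0957

/-- Let P be a Sylow p-subgroup of the finite group G, let g, h ∈ G and let p ^ d be the order of a Sylow p-subgroup of the centralizer of g. Then the number of pairs (y, z) with y conjugate to g, z conjugate to h and z * y⁻¹ ∈ P is divisible by the order of P divided by p ^ d. -/
theorem result {G : Type*} [Group G] [Finite G] (p : ℕ) [Fact p.Prime] (P : Sylow p G) (g h : G) (S : Sylow p (Subgroup.centralizer ({g} : Set G))) : Nat.card P / Nat.card S ∣ Nat.card {yz : G × G // IsConj g yz.1 ∧ IsConj h yz.2 ∧ yz.2 * yz.1⁻¹ ∈ (P : Subgroup G)} := by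
  classical
  have hp : p.Prime := Fact.out
  let X := {yz : G × G // IsConj g yz.1 ∧ IsConj h yz.2 ∧ yz.2 * yz.1⁻¹ ∈ (P : Subgroup G)}
  have hmem : ∀ (u : (P : Subgroup G)) (yz : X), IsConj g ((u : G) * yz.1.1 * (u : G)⁻¹) ∧
      IsConj h ((u : G) * yz.1.2 * (u : G)⁻¹) ∧
      ((u : G) * yz.1.2 * (u : G)⁻¹) * ((u : G) * yz.1.1 * (u : G)⁻¹)⁻¹ ∈ (P : Subgroup G) :=
    fun u yz => ⟨yz.2.1.trans (isConj_iff.2 ⟨u, rfl⟩), yz.2.2.1.trans (isConj_iff.2 ⟨u, rfl⟩), by
      rw [show ((u : G) * yz.1.2 * (u : G)⁻¹) * ((u : G) * yz.1.1 * (u : G)⁻¹)⁻¹ =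
        (u : G) * (yz.1.2 * yz.1.1⁻¹) * (u : G)⁻¹ by group]
      exact mul_mem (mul_mem u.2 yz.2.2.2) (inv_mem u.2)⟩
  letI : MulAction (P : Subgroup G) X :=
    { smul := fun u yz =>
        ⟨((u : G) * yz.1.1 * (u : G)⁻¹, (u : G) * yz.1.2 * (u : G)⁻¹), hmem u yz⟩
      one_smul := fun yz => Subtype.ext (Prod.ext (by
          show ((1 : (P : Subgroup G)) : G) * yz.1.1 * ((1 : (P : Subgroup G)) : G)⁻¹ = yz.1.1
          simp) (by
          show ((1 : (P : Subgroup G)) : G) * yz.1.2 * ((1 : (P : Subgroup G)) : G)⁻¹ = yz.1.2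
          simp))
      mul_smul := fun u v yz => Subtype.ext (Prod.ext (by
          show ((u * v : (P : Subgroup G)) : G) * yz.1.1 * ((u * v : (P : Subgroup G)) : G)⁻¹ =
            (u : G) * ((v : G) * yz.1.1 * (v : G)⁻¹) * (u : G)⁻¹
          simp [mul_assoc]) (by
          show ((u * v : (P : Subgroup G)) : G) * yz.1.2 * ((u * v : (P : Subgroup G)) : G)⁻¹ =
            (u : G) * ((v : G) * yz.1.2 * (v : G)⁻¹) * (u : G)⁻¹
          simp [mul_assoc])) }
  have : Fintype (Quotient (MulAction.orbitRel (P : Subgroup G) X)) := Fintype.ofFinite _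
  rw [Nat.card_congr (MulAction.selfEquivSigmaOrbitsQuotientStabilizer (P : Subgroup G) X),
    Nat.card_sigma]
  refine Finset.dvd_sum fun ω _ => ?_
  set yz : X := ω.out
  have hK : Nat.card (MulAction.stabilizer (P : Subgroup G) yz) ∣
      Nat.card (S : Subgroup (Subgroup.centralizer ({g} : Set G))) := by
    set C := Subgroup.centralizer ({g} : Set G)
    obtain ⟨c, hc⟩ := isConj_iff.1 yz.2.1
    let f : MulAction.stabilizer (P : Subgroup G) yz →* G :=
      (MulAut.conj c⁻¹).toMonoidHom.comp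
        ((P : Subgroup G).subtype.comp (MulAction.stabilizer (P : Subgroup G) yz).subtype)
    have hf : Function.Injective f :=
      (MulAut.conj c⁻¹).injective.comp ((Subgroup.subtype_injective _).comp
        (Subgroup.subtype_injective _))
    have hfC : f.range ≤ C := by
      rintro _ ⟨u, rfl⟩
      refine Subgroup.mem_centralizer_singleton_iff.2 ?_
      have h1 : ((u : (P : Subgroup G)) : G) * yz.1.1 * ((u : (P : Subgroup G)) : G)⁻¹ = yz.1.1 :=
        congrArg (fun w : X => w.1.1) u.2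
      rw [← hc] at h1
      have h2 := congrArg (fun z => c⁻¹ * z * c) (mul_inv_eq_iff_eq_mul.1 h1)
      simpa [f, mul_assoc] using h2
    rw [Nat.card_congr (MonoidHom.ofInjective hf).toEquiv]
    obtain ⟨k, hk⟩ := (P.2.to_subgroup (MulAction.stabilizer (P : Subgroup G) yz)).exists_card_eq
    rw [Nat.card_congr (MonoidHom.ofInjective hf).toEquiv] at hk
    rw [hk, Sylow.card_eq_multiplicity]
    refine pow_dvd_pow p ((hp.pow_dvd_iff_le_factorization Nat.card_pos.ne').1 ?_)
    rw [← hk]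
    exact Subgroup.card_dvd_of_le hfC
  obtain ⟨i, hi⟩ := hK
  have hPS : Nat.card (MulAction.stabilizer (P : Subgroup G) yz) *
      (MulAction.stabilizer (P : Subgroup G) yz).index = Nat.card P := Subgroup.card_mul_index _
  rw [← Subgroup.index_eq_card]
  by_cases hdvd : Nat.card S ∣ Nat.card P
  · obtain ⟨j, hj⟩ := hdvd
    have hSpos : 0 < Nat.card S := Nat.card_pos
    rw [hj, Nat.mul_div_cancel_left _ hSpos]
    refine ⟨i, ?_⟩
    have hstab : 0 < Nat.card (MulAction.stabilizer (P : Subgroup G) yz) := Nat.card_pos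
    apply Nat.eq_of_mul_eq_mul_left hstab
    rw [hPS, hj, hi]
    ring
  · exfalso
    refine hdvd ?_
    rw [Sylow.card_eq_multiplicity, Sylow.card_eq_multiplicity]
    exact pow_dvd_pow p ((hp.pow_dvd_iff_le_factorization Nat.card_pos.ne').1
      ((Nat.ordProj_dvd _ _).trans (Subgroup.card_subgroup_dvd_card _)))

end Cfsg.Agent.S0957
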