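import Cfsg.Statements.S0958
import Cfsg.Agent.Lib.Blocks.Local
-- import your own Cfsg.Agent.* helpers here

set_option autoImplicit false
open Cfsg

namespace Cfsg.Agent.S0958

/-- Let P be a p-subgroup of the finite group G and H a subgroup with P ⊔ C_G(P) ≤ H ≤ N_G(P); fix a maximal ideal M of the algebraic integers containing p. Then a block B of G is induced by some block of H if and only if some conjugate of P is contained in a defect group of B. -/
theorem result {G : Type*} [Group G] [Finite G] (p : ℕ) [Fact p.Prime] (M : Ideal Cfsg.AlgInt) (hM : Cfsg.IsPModular p M) (P H : Subgroup G) (hP : IsPGroup p P) (hPH : P ⊔ Subgroup.centralizer (P : Set G) ≤ H) (hHN : H ≤ Subgroup.normalizer (P : Set G)) (B : Set (Cfsg.IrrCharacter G)) (hB : Cfsg.IsPBlock M B) : (∃ b : Set (Cfsg.IrrCharacter H), Cfsg.IsInducedBlock M H b B) ↔ ∃ D : Subgroup G, Cfsg.IsDefectGroup p M B D ∧ ∃ x : G, P.map (MulAut.conj x).toMonoidHom ≤ D := by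
  classical
  letI : Fintype G := Fintype.ofFinite G
  have hPH' : P ≤ H := le_sup_left.trans hPH
  have hCH : Subgroup.centralizer (P : Set G) ≤ H := le_sup_right.trans hPH
  constructor
  · rintro ⟨b, hb⟩
    obtain ⟨c, hc, hne⟩ := CfsgLib.Blocks.exists_coeff_of_induced hM hP hPH' hHN hb
    obtain ⟨D, hD, hle⟩ := CfsgLib.Blocks.exists_isDefectGroup_ge hM hB hP hc hne
    exact ⟨D, hD, 1, fun u hu => by
      obtain ⟨v, hv, rfl⟩ := hu
      simpa using hle hv⟩
  · rintro ⟨D, hD, x, hx⟩
    obtain ⟨c, hc, hcl⟩ := CfsgLib.Blocks.exists_unit_coeff_centralizer hM hD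
    refine CfsgLib.Blocks.exists_inducing_block_local hM hB hP hPH' hCH hHN (c := x⁻¹ * c * x) ?_ ?_
    · rw [Subgroup.mem_centralizer_iff]
      intro u hu
      have h := Subgroup.mem_centralizer_iff.1 hc (x * u * x⁻¹) (hx ⟨u, hu, by simp⟩)
      have h2 := congrArg (fun z => x⁻¹ * z * x) h
      simpa [mul_assoc] using h2
    · have h := CfsgLib.Blocks.blockCoeff_isClassFunction B c x⁻¹
      simp only [inv_inv] at h
      rw [h]; exact hcl.2.1

end Cfsg.Agent.S0958
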