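import Cfsg.Statements.S0959
import Cfsg.Agent.Lib.Blocks.Local
-- import your own Cfsg.Agent.* helpers here

set_option autoImplicit false
open Cfsg

namespace Cfsg.Agent.S0959

/-- Let B be a block of the finite group G with defect group D (relative to a maximal ideal M of the algebraic integers containing the prime p), and let P be a p-subgroup. Then there is an element g whose idempotent coefficient for B is a local integer outside the local ideal at M and which has a conjugate centralizing P, if and only if some conjugate of P is contained in D. -/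
theorem result {G : Type*} [Group G] [Finite G] (p : ℕ) [Fact p.Prime] (M : Ideal Cfsg.AlgInt) (hM : Cfsg.IsPModular p M) (B : Set (Cfsg.IrrCharacter G)) (hB : Cfsg.IsPBlock M B) (D : Subgroup G) (hD : Cfsg.IsDefectGroup p M B D) (P : Subgroup G) (hP : IsPGroup p P) : (∃ g : G, Cfsg.MemLocalRing M (Cfsg.blockCoeff B g) ∧ ¬ Cfsg.MemLocalIdeal M (Cfsg.blockCoeff B g) ∧ ∃ c : G, IsConj g c ∧ c ∈ Subgroup.centralizer (P : Set G)) ↔ ∃ x : G, P.map (MulAut.conj x).toMonoidHom ≤ D := by
  classical
  letI : Fintype G := Fintype.ofFinite G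
  constructor
  · rintro ⟨g, -, hne, c, hgc, hc⟩
    have hne' : ¬ Cfsg.MemLocalIdeal M (Cfsg.blockCoeff B c) := by
      obtain ⟨y, rfl⟩ := isConj_iff.1 hgc
      have h : Cfsg.blockCoeff B (y * g * y⁻¹) = Cfsg.blockCoeff B g :=
        CfsgLib.Blocks.blockCoeff_isClassFunction B g y
      rw [h]; exact hne
    obtain ⟨E, hE, hle⟩ := CfsgLib.Blocks.exists_isDefectGroup_ge hM hB hP hc hne'
    obtain ⟨y, hy⟩ := CfsgLib.Blocks.exists_conj_eq_defectGroup hM hB hE hD
    exact ⟨y, hy ▸ Subgroup.map_mono hle⟩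
  · rintro ⟨x, hx⟩
    obtain ⟨c, hc, hcl⟩ := CfsgLib.Blocks.exists_unit_coeff_centralizer hM hD
    refine ⟨c, hcl.1, hcl.2.1, x⁻¹ * c * x, isConj_iff.2 ⟨x⁻¹, by simp⟩, ?_⟩
    rw [Subgroup.mem_centralizer_iff]
    intro u hu
    have h := Subgroup.mem_centralizer_iff.1 hc (x * u * x⁻¹) (hx ⟨u, hu, by simp⟩)
    have h2 := congrArg (fun z => x⁻¹ * z * x) h
    simpa [mul_assoc] using h2

end Cfsg.Agent.S0959
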