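import Cfsg.Statements.S0961
import Cfsg.Agent.Lib.CharDeep.Brauer
import Cfsg.Agent.Lib.CharDeep.PartHom

set_option autoImplicit false
open Cfsg
open CfsgLib CfsgLib.CharDeep

namespace Cfsg.Agent.S0961

/-- Let χ be an irreducible character of the finite group G and let p ^ a be the largest power of the prime p dividing the order of G. Then the function equal to p ^ a * χ x at elements x of order prime to p and to 0 elsewhere is a generalized character (a difference of characters). -/
theorem result {G : Type*} [Group G] [Finite G] (p : ℕ) [Fact p.Prime] (χ : Cfsg.IrrCharacter G) : Cfsg.IsGeneralizedCharacter G (fun x : G => if p ∣ orderOf x then 0 else ((p ^ (Nat.card G).factorization p : ℕ) : ℂ) * (χ : G → ℂ) x) := by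
  classical
  have := Fintype.ofFinite G
  have hp : p.Prime := Fact.out
  set a := (Nat.card G).factorization p with hadef
  set f : G → ℂ := fun x : G =>
    if p ∣ orderOf x then 0 else ((p ^ a : ℕ) : ℂ) * (χ : G → ℂ) x with hfdef
  have hcf : Cfsg.IsClassFunction G f := fun g h => by
    have ho : orderOf (h * g * h⁻¹) = orderOf g := (MulAut.conj h).orderOf_eq g
    simp only [hfdef, ho]
    split_ifs with h1
    · rfl
    · rw [Char.IsIrrCharacter.isClassFunction χ.2 g h]
  refine Brauer.isGeneralizedCharacter_of_elementary hcf fun q hq E hE => ?_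
  have := PartHom.isNilpotent_of_isElementary hq hE
  obtain ⟨i, c, hc, hcard⟩ :=
    Nat.exists_eq_pow_mul_and_not_dvd (Nat.card_pos (α := E)).ne' p hp.ne_one
  have hco : Nat.Coprime c (p ^ i) :=
    Nat.Coprime.pow_right _ ((hp.coprime_iff_not_dvd.2 hc).symm)
  obtain ⟨e, he0, he1, hee⟩ := PartHom.exists_exponent hco
  have hcard' : Nat.card E = c * p ^ i := by rw [hcard, mul_comm]
  rw [← hcard'] at hee
  let φ := PartHom.powHom (G := E) e hee
  have hker : ∀ x : E, x ∈ φ.ker ↔ ¬ p ∣ orderOf x := by
    intro x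
    rw [MonoidHom.mem_ker, PartHom.powHom_apply]
    constructor
    · intro h hpx
      have h1 : p ∣ e := hpx.trans (orderOf_dvd_of_pow_eq_one h)
      have h2 : p ∣ p ^ i := by
        rcases Nat.eq_zero_or_pos i with rfl | hi
        · exact absurd ((show Nat.card E = c by simpa using hcard) ▸ hpx.trans (orderOf_dvd_natCard x)) hc
        · exact dvd_pow_self p hi.ne'
      exact hp.not_dvd_one ((Nat.ModEq.dvd_iff he1 h2).1 h1)
    · intro h
      exact PartHom.pow_exponent_eq_one he0
        (PartHom.orderOf_dvd_of_coprime (m := p ^ i) hcard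
          (Nat.Coprime.pow_right _ ((hp.coprime_iff_not_dvd.2 h).symm)))
  have hrange : φ.ker.index ∣ p ^ a := by
    rw [Subgroup.index_ker]
    have h1 : Nat.card φ.range ∣ c * p ^ i := hcard' ▸ Subgroup.card_subgroup_dvd_card _
    have h2 : Nat.card φ.range ∣ p ^ i :=
      PartHom.card_dvd_of_forall_orderOf h1 hco (fun y => by
        obtain ⟨x, hx⟩ := y.2
        rw [← Subgroup.orderOf_coe, ← hx, PartHom.powHom_apply]
        exact PartHom.orderOf_pow_exponent_dvd hcard' he0 x)
    refine h2.trans (pow_dvd_pow p ((hp.pow_dvd_iff_le_factorization Nat.card_pos.ne').1 ?_))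
    exact (Dvd.intro c hcard.symm).trans (Subgroup.card_subgroup_dvd_card E)
  obtain ⟨r, hr⟩ := hrange
  have hψ : Cfsg.IsCharacter E (((r : ℕ) : ℂ) • ((fun x : E => (χ : G → ℂ) x) *
      Cfsg.indFun φ.ker (fun _ => 1))) := by
    rw [Nat.cast_smul_eq_nsmul]
    exact Char.IsCharacter.nsmul (Char.IsCharacter.mul
      (Char.IsCharacter.restrict (Char.isCharacter_irr χ) E)
      (Char.IsCharacter.indFun _ Char.isCharacter_one)) r
  convert Char.IsCharacter.isGeneralizedCharacter hψ using 1
  funext x
  simp only [hfdef, Pi.smul_apply, Pi.mul_apply, smul_eq_mul, Subgroup.orderOf_coe]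
  by_cases hx : p ∣ orderOf x
  · rw [if_pos hx, Char.indFun_eq_zero_of_normal _ _ fun h => (hker x).1 h hx, mul_zero, mul_zero]
  · have hi1 : Cfsg.indFun φ.ker (fun _ => (1 : ℂ)) x = (φ.ker.index : ℂ) := by
      rw [show x = ((⟨x, (hker x).2 hx⟩ : φ.ker) : E) from rfl, Char.indFun_apply_of_normal]
      rw [Finset.sum_const, Finset.card_univ, nsmul_one, ← Nat.card_eq_fintype_card]
      rw [← Subgroup.index_mul_card φ.ker, Nat.cast_mul]
      field_simp [Char.card_ne_zero]
      rw [mul_div_cancel_left₀ _ Char.card_ne_zero]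
    rw [if_neg hx, hi1, hr]
    push_cast
    ring

end Cfsg.Agent.S0961
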