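import Cfsg.Statements.S0963
import Cfsg.Agent.Lib.CharDeep.Clifford
import Cfsg.Agent.S0932

set_option autoImplicit false
open Cfsg CfsgLib CfsgLib.CharDeep

namespace Cfsg.Agent.S0963

/-- Let N be a normal subgroup of the finite group G, χ an irreducible character of G and θ an irreducible character of N. Then θ occurs in the restriction of χ to N if and only if, for every n ∈ N, the central character of χ at n (class size in G times χ n over χ 1) equals the sum of θ m / θ 1 over the elements m of N conjugate in G to n. -/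
theorem result {G : Type*} [Group G] [Fintype G] (N : Subgroup G) [N.Normal] [Fintype N] (χ : Cfsg.IrrCharacter G) (θ : Cfsg.IrrCharacter N) : Cfsg.classInner (fun n : N => (χ : G → ℂ) n) (θ : N → ℂ) ≠ 0 ↔ ∀ n : N, Cfsg.centralChar (χ : G → ℂ) (n : G) = Cfsg.inducedCentralChar N (θ : N → ℂ) (n : G) := by
  classical
  have hχc := Char.isCharacter_irr χ
  have hθc := Char.isCharacter_irr θ
  have hθ1 : (θ : N → ℂ) 1 ≠ 0 := Char.IsIrrCharacter.apply_one_ne_zero θ.2
  have hχ1 : (χ : G → ℂ) 1 ≠ 0 := Char.IsIrrCharacter.apply_one_ne_zero χ.2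
  set I := Cfsg.indFun N (θ : N → ℂ) with hI
  have hcc : ∀ n : N, Cfsg.inducedCentralChar N (θ : N → ℂ) (n : G) =
      Cfsg.centralChar I (n : G) := fun n =>
    Cfsg.Agent.S0932.result N (θ : N → ℂ) hθc n
  have hidx : ∀ g : G, ((Subgroup.centralizer ({g} : Set G)).index : ℂ) ≠ 0 := fun g => by
    simp [Subgroup.index_ne_zero_of_finite]
  have hI1 : I 1 ≠ 0 := by
    rw [hI, Char.indFun_one]
    exact mul_ne_zero (by simp [Subgroup.index_ne_zero_of_finite]) hθ1
  constructor
  · intro hne n
    have hN : ∀ (g : G) (m : N), (χ : G → ℂ) (g * m * g⁻¹) = (χ : G → ℂ) m :=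
      fun g m => Char.IsCharacter.isClassFunction hχc m g
    have hexp := Char.IsClassFunction.eq_sum_irr
      (Char.IsCharacter.isClassFunction (Char.IsCharacter.restrict hχc N))
    set c := ∑ φ : Cfsg.IrrCharacter N, Cfsg.classInner (fun m : N => (χ : G → ℂ) m) φ
    have key : ∀ m : N, (Nat.card G : ℂ) * (χ : G → ℂ) m = c * ((Nat.card N : ℂ) * I m) := by
      intro m
      rw [hI, Char.indFun_apply_of_normal, mul_inv_cancel_left₀ Char.card_ne_zero,
        Finset.sum_mul]
      have e1 : ∑ g : G, (χ : G → ℂ) (g * m * g⁻¹) = (Nat.card G : ℂ) * (χ : G → ℂ) m := by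
        simp only [hN, Finset.sum_const, Finset.card_univ, nsmul_eq_mul,
          ← Nat.card_eq_fintype_card]
      rw [← e1, Finset.sum_congr rfl fun g _ =>
        congrFun hexp ⟨g * m * g⁻¹, Subgroup.Normal.conj_mem inferInstance (m : G) m.2 g⟩]
      simp only [Finset.sum_apply, Pi.smul_apply, smul_eq_mul]
      rw [Finset.sum_comm]
      refine Finset.sum_congr rfl fun φ _ => ?_
      rw [← Finset.mul_sum]
      by_cases h0 : Cfsg.classInner (fun m : N => (χ : G → ℂ) m) φ = 0
      · simp [h0]
      congr 1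
      obtain ⟨x, hx⟩ := Clifford.exists_conj_of_constituent N χ.2 θ.2 φ.2 hne h0
      refine Fintype.sum_equiv (Equiv.mulLeft x) _ _ fun g => ?_
      rw [hx, Clifford.conjFun_apply]
      exact congrArg (θ : N → ℂ) (Subtype.ext (by simp [mul_assoc]))
    have h1 := key 1
    have hn := key n
    rw [OneMemClass.coe_one] at h1
    rw [hcc, Cfsg.centralChar, Cfsg.centralChar]
    have hG : (Nat.card G : ℂ) ≠ 0 := Char.card_ne_zero
    field_simp
    apply mul_left_cancel₀ hG
    linear_combination ((Subgroup.centralizer ({(n : G)} : Set G)).index : ℂ) * I 1 * hn -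
      ((Subgroup.centralizer ({(n : G)} : Set G)).index : ℂ) * I (n : G) * h1
  · intro h
    have hk : (fun m : N => (χ : G → ℂ) m) =
        ((χ : G → ℂ) 1 / I 1) • (fun m : N => I m) := by
      funext m
      have h2 := h m
      rw [hcc, Cfsg.centralChar, Cfsg.centralChar] at h2
      field_simp at h2
      rw [Pi.smul_apply, smul_eq_mul, eq_comm, div_mul_eq_mul_div, div_eq_iff hI1]
      apply mul_left_cancel₀ (hidx (m : G))
      linear_combination (-1 : ℂ) * h2
    rw [hk, Char.classInner_smul_left]
    refine mul_ne_zero (div_ne_zero hχ1 hI1) ?_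
    rw [Char.IsCharacter.classInner_comm
      (Char.IsCharacter.restrict (Char.IsCharacter.indFun N hθc) N) hθc,
      ← Char.classInner_indFun N _ (Char.indFun_isClassFunction N (θ : N → ℂ))]
    rw [Ne, Char.classInner_self_eq_zero]
    exact fun h0 => hI1 (congrFun h0 1)

end Cfsg.Agent.S0963
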