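import Cfsg.Statements.S0967
import Cfsg.Agent.Lib.Blocks.Kernel
import Cfsg.Agent.Lib.Char.Quotient
-- import your own Cfsg.Agent.* helpers here

set_option autoImplicit false
open Cfsg CfsgLib.Blocks

namespace Cfsg.Agent.S0967

/-- Let N be a normal subgroup of the finite group G of order prime to p and fix a maximal ideal M of the algebraic integers containing p. If χ is an irreducible character of G ⧸ N and ψ lies in the block of its inflation χ ∘ (quotient map), then ψ is itself inflated from an irreducible character ψ' of G ⧸ N lying in the block of χ. (Over a normal p'-subgroup, blocks of the quotient are whole blocks of G.) -/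
theorem result {G : Type*} [Group G] [Finite G] (p : ℕ) [Fact p.Prime] (M : Ideal Cfsg.AlgInt) (hM : Cfsg.IsPModular p M) (N : Subgroup G) [N.Normal] (hN : ¬ p ∣ Nat.card N) (χ : Cfsg.IrrCharacter (G ⧸ N)) (ψ : Cfsg.IrrCharacter G) (hψ : ψ ∈ Cfsg.blockOf M ((χ : G ⧸ N → ℂ) ∘ QuotientGroup.mk)) : ∃ ψ' : Cfsg.IrrCharacter (G ⧸ N), (ψ : G → ℂ) = (ψ' : G ⧸ N → ℂ) ∘ QuotientGroup.mk ∧ Cfsg.SameBlock M (χ : G ⧸ N → ℂ) (ψ' : G ⧸ N → ℂ) := by
  classical
  letI : Fintype G := Fintype.ofFinite G
  letI : Fintype (G ⧸ N) := Fintype.ofFinite _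
  have := Fact.mk hM.1
  have hχi := CfsgLib.Char.IsIrrCharacter.comp_surjective χ.2 _ (QuotientGroup.mk'_surjective N)
  set χG : IrrCharacter G := ⟨_, hχi⟩
  have hs : SameBlock M (χG : G → ℂ) (ψ : G → ℂ) := hψ
  have hker : N ≤ irrKer χG := fun n hn => mem_irrKer.2 (by
    show (χ : G ⧸ N → ℂ) (QuotientGroup.mk' N n) = (χ : G ⧸ N → ℂ) (QuotientGroup.mk' N 1)
    rw [map_one, show QuotientGroup.mk' N n = 1 from (QuotientGroup.eq_one_iff n).2 hn])
  obtain ⟨ψ', hψ', he⟩ := CfsgLib.Char.IsIrrCharacter.exists_deflate ψ.2 N fun n hn =>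
    mem_irrKer.1 (le_irrKer_of_sameBlock hM inferInstance hN hs hker hn)
  refine ⟨⟨ψ', hψ'⟩, he, fun q => ?_⟩
  -- a lift of `q` whose centralizer has index prime to `p` in the preimage of the centralizer
  obtain ⟨g₀, rfl⟩ := QuotientGroup.mk'_surjective N q
  set X := (Subgroup.centralizer ({QuotientGroup.mk' N g₀} : Set (G ⧸ N))).comap (QuotientGroup.mk' N)
  obtain ⟨P⟩ : Nonempty (Sylow p X) := inferInstance
  let act : MulAction (P : Subgroup X) {x : G // QuotientGroup.mk' N x = QuotientGroup.mk' N g₀} :=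
    { smul := fun u x => ⟨((u : X) : G) * x.1 * ((u : X) : G)⁻¹, by
        rw [map_mul, map_mul, map_inv, x.2]
        have hu := Subgroup.mem_centralizer_singleton_iff.1 ((u : X).2 :
          QuotientGroup.mk' N ((u : X) : G) ∈ Subgroup.centralizer ({QuotientGroup.mk' N g₀} : Set (G ⧸ N)))
        rw [hu, mul_inv_cancel_right]⟩
      one_smul := fun x => Subtype.ext (show (1 : G) * x.1 * (1 : G)⁻¹ = x.1 by simp)
      mul_smul := fun u v x => Subtype.ext
        (show ((u : X) : G) * ((v : X) : G) * x.1 * (((u : X) : G) * ((v : X) : G))⁻¹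
          = ((u : X) : G) * (((v : X) : G) * x.1 * ((v : X) : G)⁻¹) * ((u : X) : G)⁻¹ by
          simp [mul_assoc]) }
  letI := act
  have hcard : Nat.card {x : G // QuotientGroup.mk' N x = QuotientGroup.mk' N g₀} = Nat.card N :=
    Nat.card_congr
      { toFun := fun x => ⟨g₀⁻¹ * x.1, QuotientGroup.eq.1 x.2.symm⟩
        invFun := fun n => ⟨g₀ * n.1, by
          rw [map_mul, show QuotientGroup.mk' N n.1 = 1 from (QuotientGroup.eq_one_iff _).2 n.2,
            mul_one]⟩
        left_inv := fun x => Subtype.ext (by simp)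
        right_inv := fun n => Subtype.ext (by simp) }
  obtain ⟨⟨g, hg⟩, hfix⟩ := P.isPGroup'.nonempty_fixed_point_of_prime_not_dvd_card
    (α := {x : G // QuotientGroup.mk' N x = QuotientGroup.mk' N g₀}) (by rwa [hcard])
  rw [← hg]
  have hCX : Subgroup.centralizer ({g} : Set G) ≤ X := fun z hz => by
    refine Subgroup.mem_centralizer_singleton_iff.2 ?_
    rw [← hg, ← map_mul, ← map_mul, Subgroup.mem_centralizer_singleton_iff.1 hz]
  set m := (Subgroup.centralizer ({g} : Set G)).relIndex X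
  have hm : ¬ p ∣ m := by
    refine fun h => P.not_dvd_index (h.trans (Subgroup.index_dvd_of_le fun u hu => ?_))
    show ((u : X) : G) ∈ Subgroup.centralizer ({g} : Set G)
    refine Subgroup.mem_centralizer_singleton_iff.2 (mul_inv_eq_iff_eq_mul.1 ?_)
    exact congrArg Subtype.val (hfix ⟨u, hu⟩)
  have hidx : (Subgroup.centralizer ({g} : Set G)).index
      = m * (Subgroup.centralizer ({QuotientGroup.mk' N g} : Set (G ⧸ N))).index := by
    rw [← Subgroup.relIndex_mul_index hCX, hg,
      Subgroup.index_comap_of_surjective _ (QuotientGroup.mk'_surjective N)]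
  have hval : ∀ φ : G ⧸ N → ℂ, centralChar (φ ∘ QuotientGroup.mk' N) g
      = (m : ℂ) * centralChar φ (QuotientGroup.mk' N g) := fun φ => by
    simp only [centralChar, Function.comp_apply, map_one, hidx]
    push_cast
    ring
  have h := hs g
  rw [show (χG : G → ℂ) = (χ : G ⧸ N → ℂ) ∘ QuotientGroup.mk' N from rfl, he, hval, hval,
    ← mul_sub] at h
  refine (LI.mem_or_mem hM (LR.natCast hM m) (LR.sub hM (centralChar_LR hM χ _)
    (centralChar_LR hM (⟨ψ', hψ'⟩ : IrrCharacter (G ⧸ N)) _)) h).resolve_left fun h' => hm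
    ((LI.natCast_iff hM m).1 h')

end Cfsg.Agent.S0967
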