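import Cfsg.Statements.S0968
import Cfsg.Agent.Lib.Blocks.PCentralizer
-- import your own Cfsg.Agent.* helpers here

set_option autoImplicit false
open Cfsg

namespace Cfsg.Agent.S0968

/-- Let P be a p-subgroup of the finite group G with P ⊔ C_G(P) = G, and let B be a block with defect group P relative to a maximal ideal M of the algebraic integers containing p. Then there is exactly one θ ∈ B with θ x = θ 1 for all x ∈ P; for this θ the exponent of p in θ(1) equals the exponent of p in the index of P; and the number of members of B equals the number of conjugacy classes of P. -/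
theorem result {G : Type*} [Group G] [Finite G] (p : ℕ) [Fact p.Prime] (M : Ideal Cfsg.AlgInt) (hM : Cfsg.IsPModular p M) (P : Subgroup G) (hP : IsPGroup p P) (hG : P ⊔ Subgroup.centralizer (P : Set G) = ⊤) (B : Set (Cfsg.IrrCharacter G)) (hB : Cfsg.IsPBlock M B) (hD : Cfsg.IsDefectGroup p M B P) : (∃! θ : Cfsg.IrrCharacter G, θ ∈ B ∧ ∀ x ∈ P, (θ : G → ℂ) x = (θ : G → ℂ) 1) ∧ (∀ θ ∈ B, (∀ x ∈ P, (θ : G → ℂ) x = (θ : G → ℂ) 1) → (Cfsg.charDegree (θ : G → ℂ)).factorization p = P.index.factorization p) ∧ Nat.card B = Nat.card (ConjClasses P) := by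
  classical
  letI : Fintype G := Fintype.ofFinite G
  haveI : P.Normal := Subgroup.normalizer_eq_top_iff.1 (top_le_iff.1 (hG ▸
    sup_le Subgroup.le_normalizer (CfsgLib.Blocks.centralizer_le_normalizer P)))
  have hp : p.Prime := Fact.out
  obtain ⟨ψ, hψB, hψ, hex, hall⟩ := CfsgLib.Blocks.exists_canonical hM hP hG hB hD
  set θ : G → ℂ := ((CfsgLib.Blocks.inflate P ψ : Cfsg.IrrCharacter G) : G → ℂ)
  have hθ1 : θ 1 ≠ 0 := CfsgLib.Blocks.irr_one_ne_zero _
  have hval : ∀ (ζ : P → ℂ) (u : P), CfsgLib.Blocks.prodChar p P ζ θ u = ζ u * θ 1 := fun ζ u => by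
    have := CfsgLib.Blocks.prodChar_mul (ψ := ψ) (ζ := ζ) hp hP u (s := 1)
      (by simp [hp.ne_one]) (Commute.one_right _)
    rwa [mul_one] at this
  choose f hfB hf using hex
  have huniq : ∀ χ ∈ B, (∀ x ∈ P, (χ : G → ℂ) x = (χ : G → ℂ) 1) →
      χ = CfsgLib.Blocks.inflate P ψ := by
    intro χ hχ hker
    obtain ⟨ζ, hζ⟩ := hall χ hχ
    have hc : ∀ u : P, (ζ : P → ℂ) u = (ζ : P → ℂ) 1 := fun u => by
      have h1 := hker u u.2
      rw [hζ, hval, show (1 : G) = ((1 : P) : G) from rfl, hval] at h1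
      exact mul_right_cancel₀ hθ1 h1
    have hone : (ζ : P → ℂ) 1 = 1 := by
      have h := CfsgLib.Char.classInner_irr_self ζ.2
      rw [Cfsg.classInner] at h
      simp only [hc, Finset.sum_const, Finset.card_univ, nsmul_eq_mul, ← Nat.card_eq_fintype_card,
        ← mul_assoc, inv_mul_cancel₀ CfsgLib.Char.card_ne_zero, one_mul,
        CfsgLib.Blocks.irr_one_eq, Complex.conj_natCast] at h
      have hd : Cfsg.charDegree (ζ : P → ℂ) * Cfsg.charDegree (ζ : P → ℂ) = 1 := by exact_mod_cast h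
      rw [CfsgLib.Blocks.irr_one_eq, Nat.dvd_one.1 ⟨_, hd.symm⟩, Nat.cast_one]
    refine Subtype.ext (hζ.trans (funext fun g => ?_))
    by_cases hg : CfsgLib.Blocks.pPart p g ∈ P
    · rw [CfsgLib.Blocks.prodChar, dif_pos hg, hc, hone, one_mul]
    · rw [CfsgLib.Blocks.prodChar, dif_neg hg]
      exact (CfsgLib.Blocks.inflate_eq_zero hM hψ hg).symm
  refine ⟨⟨_, ⟨hψB, fun x hx => CfsgLib.Blocks.inflate_ker ψ hx⟩,
    fun χ hχ => huniq χ hχ.1 hχ.2⟩, fun χ hχ hker => ?_, ?_⟩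
  · rw [huniq χ hχ hker]
    exact (CfsgLib.Blocks.degVal_inflate ψ).trans hψ
  · rw [← CfsgLib.Char.card_irrCharacter]
    refine (Nat.card_eq_of_bijective (fun ζ : Cfsg.IrrCharacter P => (⟨f ζ, hfB ζ⟩ : B))
      ⟨fun a b h => ?_, fun χ => ?_⟩).symm
    · have h' : (f a : G → ℂ) = f b := congrArg (fun z : B => ((z : Cfsg.IrrCharacter G) : G → ℂ)) h
      rw [hf, hf] at h'
      refine Subtype.ext (funext fun u => mul_right_cancel₀ hθ1 ?_)
      rw [← hval, ← hval, h']
    · obtain ⟨ζ, hζ⟩ := hall χ χ.2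
      exact ⟨ζ, Subtype.ext (Subtype.ext ((hf ζ).trans hζ.symm))⟩

end Cfsg.Agent.S0968
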