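import Cfsg.Statements.S0970
import Cfsg.Agent.Lib.Blocks.CoverDefect
-- import your own Cfsg.Agent.* helpers here

set_option autoImplicit false
open Cfsg CfsgLib.Blocks CfsgLib.Blocks.FongReynolds CfsgLib.Blocks.CoverDefect

namespace Cfsg.Agent.S0970

/-- Let N be a normal subgroup of the finite group G and fix a maximal ideal M of the algebraic integers containing the prime p. Let b be a block of N that is invariant under conjugation by G, and B a block of G covering b (some χ ∈ B has a constituent in b) whose defect is at least that of every block covering b. If P is a defect group of B, then p does not divide the index of P ⊔ N, the subgroup P ∩ N of N is a defect group of b, and the defect of B equals the defect of b plus the exponent of p in the index of N. -/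
theorem result {G : Type*} [Group G] [Fintype G] (p : ℕ) [Fact p.Prime] (M : Ideal Cfsg.AlgInt) (hM : Cfsg.IsPModular p M) (N : Subgroup G) [hN : N.Normal] [Fintype N] (b : Set (Cfsg.IrrCharacter N)) (hb : Cfsg.IsPBlock M b) (hinv : ∀ g : G, ∀ θ ∈ b, ∀ θ' : Cfsg.IrrCharacter N, (∀ n : N, (θ' : N → ℂ) n = (θ : N → ℂ) ⟨g * n * g⁻¹, hN.conj_mem n n.2 g⟩) → θ' ∈ b) (B : Set (Cfsg.IrrCharacter G)) (hB : Cfsg.IsPBlock M B) (hcov : ∃ χ ∈ B, ∃ θ ∈ b, Cfsg.classInner (fun n : N => (χ : G → ℂ) n) (θ : N → ℂ) ≠ 0) (hmax : ∀ B' : Set (Cfsg.IrrCharacter G), Cfsg.IsPBlock M B' → (∃ χ ∈ B', ∃ θ ∈ b, Cfsg.classInner (fun n : N => (χ : G → ℂ) n) (θ : N → ℂ) ≠ 0) → Cfsg.blockDefect p B' ≤ Cfsg.blockDefect p B) (P : Subgroup G) (hP : Cfsg.IsDefectGroup p M B P) : ¬ p ∣ (P ⊔ N).index ∧ Cfsg.IsDefectGroup p M b ((P ⊓ N).subgroupOf N) ∧ Cfsg.blockDefect p B = Cfsg.blockDefect p b + N.index.factorization p := by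
  classical
  have := Fact.mk hM.1
  set T := stabilizer hM hb
  let _ : Fintype T := Fintype.ofFinite T
  have hT := mem_stabilizer hM hb
  have hNT : N ≤ T := le_stabilizer hM hb
  have htop : ∀ g : G, g ∈ T := fun g θ hθ => hinv g θ hθ _ fun n =>
    congrArg (θ : N → ℂ) (Subtype.ext (MulAut.conjNormal_apply g n))
  have hcardT : Nat.card T = Nat.card G :=
    Subgroup.card_eq_iff_eq_top T |>.2 ((Subgroup.eq_top_iff' T).2 htop)
  obtain ⟨B', hB', hcov', hind⟩ := exists_inducing hNT hM hb hT hB hcov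
  have hdg := (defectGroup_and_height hNT hM hb hT hB' hcov' hind).1
  have hdef : blockDefect p B = blockDefect p B' := by
    obtain ⟨D, hD⟩ := exists_isDefectGroup hM hB'
    have h1 := card_defectGroup hM hB (hdg D hD)
    rw [Subgroup.card_map_of_injective T.subtype_injective, card_defectGroup hM hB' hD] at h1
    exact (Nat.pow_right_injective hM.1.two_le h1).symm
  obtain ⟨ψ, hψB, hψ⟩ := hcov'
  obtain ⟨B₀, hB₀, hall, hmax₀⟩ := exists_maximal hNT hM hb hT hψ
  obtain ⟨χ₀, hχ₀⟩ := IsPBlock.nonempty hM hB₀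
  obtain ⟨B₁, hind₁, hcov₁, -, -⟩ := exists_induced hNT hM hb hT hB₀ ⟨χ₀, hχ₀, hall χ₀ hχ₀⟩
  have hdef₁ : blockDefect p B₁ = blockDefect p B₀ := by
    obtain ⟨D, hD⟩ := exists_isDefectGroup hM hB₀
    have h1 := card_defectGroup hM hind₁.2.1
      ((defectGroup_and_height hNT hM hb hT hB₀ ⟨χ₀, hχ₀, hall χ₀ hχ₀⟩ hind₁).1 D hD)
    rw [Subgroup.card_map_of_injective T.subtype_injective, card_defectGroup hM hB₀ hD] at h1
    exact (Nat.pow_right_injective hM.1.two_le h1).symm
  have hle := blockDefect_add_le hNT hM hb hT hB' hψB hψ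
  have hge := hmax B₁ hind₁.2.1 hcov₁
  have hidx : (Nat.card G).factorization p
      = N.index.factorization p + (Nat.card N).factorization p := by
    rw [← Subgroup.index_mul_card N, Nat.factorization_mul Subgroup.index_ne_zero_of_finite
      Nat.card_pos.ne', Finsupp.add_apply]
  rw [hcardT] at hle hmax₀
  have hd : blockDefect p B = blockDefect p b + N.index.factorization p := by omega
  obtain ⟨D₀, hD₀⟩ := exists_isDefectGroup hM hB'
  obtain ⟨y, hy⟩ := exists_conj_eq_defectGroup hM hB (hdg D₀ hD₀) hP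
  set D := D₀.map (MulAut.conj (⟨y, htop y⟩ : T)).toMonoidHom
  have hPD : P = D.map T.subtype := by
    rw [hy, Subgroup.map_map, Subgroup.map_map]
    congr 1
  have hD : IsDefectGroup p M B' D := isDefectGroup_conj hD₀ _
  have hcomap : (P ⊓ N).subgroupOf N = D.comap (Subgroup.inclusion hNT) := by
    ext n
    simp only [Subgroup.mem_subgroupOf, Subgroup.mem_inf, Subgroup.mem_comap, hPD]
    constructor
    · rintro ⟨⟨t, ht, he⟩, -⟩
      rwa [show Subgroup.inclusion hNT n = t from Subtype.ext he.symm]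
    · exact fun h => ⟨⟨_, h, rfl⟩, n.2⟩
  have hQ : IsDefectGroup p M b ((P ⊓ N).subgroupOf N) :=
    hcomap ▸ isDefectGroup_comap hNT hM hb hT hB' hψB hψ hD
  refine ⟨fun hdvd => ?_, hQ, hd⟩
  have h1 := card_defectGroup hM hB hP
  have h2 := card_defectGroup hM hb hQ
  rw [Nat.card_congr (Subgroup.subgroupOfEquivOfLe inf_le_right).toEquiv] at h2
  have h3 : Nat.card (P ⊔ N : Subgroup G) * Nat.card (P ⊓ N : Subgroup G)
      = Nat.card P * Nat.card N := by
    have e1 := (N.subgroupOf (P ⊔ N)).index_mul_card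
    have e2 := ((P ⊓ N).subgroupOf P).index_mul_card
    rw [Nat.card_congr (Subgroup.subgroupOfEquivOfLe (le_sup_right : N ≤ P ⊔ N)).toEquiv] at e1
    rw [Nat.card_congr (Subgroup.subgroupOfEquivOfLe (inf_le_left : P ⊓ N ≤ P)).toEquiv] at e2
    have e3 : (N.subgroupOf (P ⊔ N)).index = ((P ⊓ N).subgroupOf P).index := by
      show N.relIndex (P ⊔ N) = (P ⊓ N).relIndex P
      rw [Subgroup.inf_relIndex_left, Subgroup.relIndex_sup_right]
    rw [← e1, ← e2, e3]
    ring
  rw [h1, h2] at h3
  have h4 := congrArg (fun k => Nat.factorization k p) h3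
  simp only [Nat.factorization_mul Nat.card_pos.ne' (pow_ne_zero _ hM.1.ne_zero),
    Nat.factorization_mul (pow_ne_zero _ hM.1.ne_zero) Nat.card_pos.ne', Finsupp.add_apply,
    hM.1.factorization_pow, Finsupp.single_eq_same] at h4
  have h5 : (Nat.card G).factorization p = (P ⊔ N).index.factorization p
      + (Nat.card (P ⊔ N : Subgroup G)).factorization p := by
    rw [← Subgroup.index_mul_card (P ⊔ N), Nat.factorization_mul Subgroup.index_ne_zero_of_finite
      Nat.card_pos.ne', Finsupp.add_apply]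
  have h6 := hM.1.factorization_pos_of_dvd Subgroup.index_ne_zero_of_finite hdvd
  omega

end Cfsg.Agent.S0970
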