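import Cfsg.Statements.S0971
import Cfsg.Agent.Lib.Blocks.CoverBasics
import Cfsg.Agent.Lib.Blocks.Local
-- import your own Cfsg.Agent.* helpers here

set_option autoImplicit false
open Cfsg CfsgLib.Blocks CfsgLib.Blocks.FongReynolds

namespace Cfsg.Agent.S0971

/-- Let Q be a normal p-subgroup of the finite group G, let N = Q ⊔ C_G(Q) (a normal subgroup) and let b be a block of N relative to a maximal ideal M of the algebraic integers containing p. Then b induces some block of G, and every block B of G containing a character whose restriction to N has a constituent in b is induced by b. -/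
theorem result {G : Type*} [Group G] [Fintype G] (p : ℕ) [Fact p.Prime] (M : Ideal Cfsg.AlgInt) (hM : Cfsg.IsPModular p M) (Q : Subgroup G) [Q.Normal] (hQ : IsPGroup p Q) [Fintype ↥(Q ⊔ Subgroup.centralizer (Q : Set G))] (b : Set (Cfsg.IrrCharacter ↥(Q ⊔ Subgroup.centralizer (Q : Set G)))) (hb : Cfsg.IsPBlock M b) : Cfsg.InducedBlockDefined M (Q ⊔ Subgroup.centralizer (Q : Set G)) b ∧ ∀ B : Set (Cfsg.IrrCharacter G), Cfsg.IsPBlock M B → (∃ χ ∈ B, ∃ θ ∈ b, Cfsg.classInner (fun n : ↥(Q ⊔ Subgroup.centralizer (Q : Set G)) => (χ : G → ℂ) n) (θ : ↥(Q ⊔ Subgroup.centralizer (Q : Set G)) → ℂ) ≠ 0) → Cfsg.IsInducedBlock M (Q ⊔ Subgroup.centralizer (Q : Set G)) b B := by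
  classical
  have hn : Q ≤ Subgroup.normalizer (Q : Set G) := Subgroup.le_normalizer
  have hle : Q ⊔ Subgroup.centralizer (Q : Set G) ≤ Subgroup.normalizer (Q : Set G) :=
    sup_le hn (centralizer_le_normalizer Q)
  haveI hNn : (Q ⊔ Subgroup.centralizer (Q : Set G)).Normal := inferInstance
  obtain ⟨B₀, h₀⟩ := exists_isInducedBlock_local hM hQ le_sup_left le_sup_right hle
    (b := b) (by convert hb)
  refine ⟨⟨B₀, by convert h₀⟩, fun B hB hcov => ⟨hb, hB, fun ξ hξ χ hχ g => ?_⟩⟩
  by_cases hg : g ∈ Q ⊔ Subgroup.centralizer (Q : Set G)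
  · exact LI.sub_comm ((CoverBasics.covers_iff hM hB hb).1 hcov χ hχ ξ hξ ⟨g, hg⟩)
  · have h1 := centralChar_LI_of_notMem hM hQ χ fun h => hg (Subgroup.mem_sup_right h)
    rw [CoverBasics.inducedCentralChar_eq',
      show (fun n : ↥(Q ⊔ Subgroup.centralizer (Q : Set G)) => classInd g (n : G)) = fun _ => 0 from
        funext fun n => if_neg fun h => hg (by
          obtain ⟨c, hc⟩ := isConj_iff.1 h.symm
          exact hc ▸ Subgroup.Normal.conj_mem hNn _ n.2 c),
      show ∀ φ : ↥(Q ⊔ Subgroup.centralizer (Q : Set G)) → ℂ, omega φ (fun _ => (0 : ℂ)) = 0 from fun φ => by simp [omega], zero_sub]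
    exact LI.neg h1

end Cfsg.Agent.S0971
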