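import Cfsg.Statements.S0987
import Cfsg.Agent.Lib.SmallGroups.SimpleOrders
-- import your own Cfsg.Agent.* helpers here

set_option autoImplicit false
open Cfsg
open Subgroup

namespace Cfsg.Agent.S0987

/-- If a finite group has order pqr for primes p < q < r, then its Sylow r-subgroups are normal. -/
theorem result {G : Type*} [Group G] [Finite G] (p q r : ℕ) (hp : p.Prime) (hq : q.Prime) [Fact r.Prime] (hpq : p < q) (hqr : q < r) (hG : Nat.card G = p * q * r) (R : Sylow r G) : (R : Subgroup G).Normal := by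
  classical
  have := Fact.mk hp
  have hpr : p ≠ r := by omega
  have hdp : p ∣ Nat.card G := ⟨q * r, by rw [hG]; ring⟩
  have hmin : (Nat.card G).minFac = p := CfsgLib.SmallGroups.SimpleOrders.minFac_eq hp hdp fun s hs hd => by
    rw [hG, hs.dvd_mul, hs.dvd_mul] at hd
    rcases hd with (hd | hd) | hd
    · exact ((Nat.prime_dvd_prime_iff_eq hs hp).mp hd).ge
    · exact ((Nat.prime_dvd_prime_iff_eq hs hq).mp hd) ▸ hpq.le
    · exact ((Nat.prime_dvd_prime_iff_eq hs (Fact.out : r.Prime)).mp hd) ▸ (hpq.trans hqr).le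
  have hr : r.Prime := Fact.out
  obtain ⟨P⟩ : Nonempty (Sylow p G) := inferInstance
  have hpn : ¬ p ∣ q * r := by
    rw [hp.dvd_mul, not_or]
    exact ⟨fun hd => hpq.ne ((Nat.prime_dvd_prime_iff_eq hp hq).mp hd),
      fun hd => hpr ((Nat.prime_dvd_prime_iff_eq hp hr).mp hd)⟩
  have hP : Nat.card (P : Subgroup G) = p := by
    rw [CfsgLib.SmallGroups.SimpleTools.card_sylow_subgroup (k := 1) (m := q * r) (by rw [hG]; ring) hpn P, pow_one]
  have hcyc : IsCyclic ↥(P : Subgroup G) := isCyclic_of_prime_card hP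
  have hc := MonoidHom.ker_transferSylow_isComplement' P (hcyc.normalizer_le_centralizer hmin)
  set K := (MonoidHom.transferSylow P (hcyc.normalizer_le_centralizer hmin)).ker
  have : K.Normal := inferInstanceAs (MonoidHom.ker _).Normal
  have hK : Nat.card K = r * q := by
    have h1 := hc.card_mul
    rw [hP, hG] at h1
    exact Nat.eq_of_mul_eq_mul_right hp.pos (h1.trans (by ring))
  have hidx : K.index = p := by
    have h1 := K.index_mul_card
    rw [hK, hG] at h1
    exact Nat.eq_of_mul_eq_mul_right (Nat.mul_pos hr.pos hq.pos) (h1.trans (by ring))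
  have hrn : ¬ r ∣ p * q := by
    rw [hr.dvd_mul, not_or]
    exact ⟨fun hd => hpr ((Nat.prime_dvd_prime_iff_eq hr hp).mp hd).symm,
      fun hd => hqr.ne' ((Nat.prime_dvd_prime_iff_eq hr hq).mp hd)⟩
  have hle : ∀ S : Sylow r G, (S : Subgroup G) ≤ K := by
    intro S a ha
    have hS : Nat.card (S : Subgroup G) = r := by
      rw [CfsgLib.SmallGroups.SimpleTools.card_sylow_subgroup (k := 1) (m := p * q) (by rw [hG]; ring) hrn S, pow_one]
    have h1 : orderOf (a : G ⧸ K) ∣ r :=
      (orderOf_map_dvd (QuotientGroup.mk' K) a).trans (hS ▸ (S : Subgroup G).orderOf_dvd_natCard ha)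
    have h2 : orderOf (a : G ⧸ K) ∣ p := hidx ▸ orderOf_dvd_natCard _
    have h3 := Nat.eq_one_of_dvd_coprimes ((Nat.coprime_primes hp hr).mpr hpr) h2 h1
    exact (QuotientGroup.eq_one_iff a).mp (orderOf_eq_one_iff.mp h3)
  have hK1 : Nat.card (Sylow r ↥K) = 1 := by
    have hmem := Finset.mem_filter.mp
      (CfsgLib.SmallGroups.SimpleTools.card_sylow_mem (G := ↥K) (k := 1) (by rw [hK, pow_one]) hq.ne_zero (p := r))
    rcases (Nat.dvd_prime hq).mp (Nat.mem_divisors.mp hmem.1).1 with e | e
    · exact e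
    · rw [e, Nat.mod_eq_of_lt hqr] at hmem; exact absurd hmem.2 hq.one_lt.ne'
  have hone : Nat.card (Sylow r G) = 1 := by
    refine le_antisymm ?_ Nat.card_pos
    exact (Nat.card_le_card_of_injective (fun S : Sylow r G => S.subtype (hle S))
      fun a b e => Sylow.subtype_injective e).trans hK1.le
  refine normalizer_eq_top_iff.mp (Subgroup.index_eq_one.mp ?_)
  rw [← hone, R.card_eq_index_normalizer]
  rfl

end Cfsg.Agent.S0987
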