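import Cfsg.Statements.S0994
import Cfsg.Agent.Lib.SmallGroups.SimpleTools
-- import your own Cfsg.Agent.* helpers here

set_option autoImplicit false
open Cfsg

namespace Cfsg.Agent.S0994

/-- No finite simple group has order 1188 = 2^2 * 3^3 * 11. -/
theorem result {G : Type*} [Group G] [Finite G] [IsSimpleGroup G] : Nat.card G ≠ 1188 := by
  intro h
  have : Fact (Nat.Prime 11) := ⟨by norm_num⟩
  have hG : ¬ IsMulCommutative G := CfsgLib.SmallGroups.SimpleTools.not_comm_of_card (by rw [h]; norm_num)
  have hd : 11 ∣ Nat.card G := by rw [h]; norm_num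
  have hne := CfsgLib.SmallGroups.SimpleTools.card_sylow_ne_one hG hd (p := 11)
  have hmem := CfsgLib.SmallGroups.SimpleTools.card_sylow_mem (G := G) (p := 11) (k := 1) (m := 108) (by rw [h]; norm_num) (by norm_num)
  rw [show (Nat.divisors 108).filter (fun n => n % 11 = 1) = {1, 11 + 1} by decide] at hmem
  simp only [Finset.mem_insert, Finset.mem_singleton] at hmem
  have hn := hmem.resolve_left hne
  obtain ⟨P⟩ : Nonempty (Sylow 11 G) := inferInstance
  have hP : Nat.card (P : Subgroup G) = 11 :=
    (CfsgLib.SmallGroups.SimpleTools.card_sylow_subgroup (k := 1) (m := 108) (by rw [h]; norm_num) (by norm_num) P).trans (pow_one _)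
  have h2 := CfsgLib.SmallGroups.SimpleTools.card_normalizer_of_succ hG (by norm_num) P hP hn
  have h3 := CfsgLib.SmallGroups.SimpleTools.card_normalizer_mul P
  rw [hn, h] at h3
  have := Nat.le_of_dvd (by norm_num) h2
  generalize Nat.card (Subgroup.normalizer ((P : Subgroup G) : Set G)) = x at *
  norm_num at *
  have hx : x = 108 * 11 / (11 + 1) := by omega
  norm_num at hx
  subst hx
  norm_num at *

end Cfsg.Agent.S0994
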