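import Cfsg.Statements.S1006
import Cfsg.Agent.Lib.SmallGroups.Order168Klein
-- import your own Cfsg.Agent.* helpers here

set_option autoImplicit false
open Cfsg

namespace Cfsg.Agent.S1006

/-- In a simple group of order 168 there are 56 elements of order 3, all conjugate; 42 elements of order 4, all conjugate; and 48 elements of order 7 falling into two conjugacy classes of size 24, an element of order 7 not being conjugate to its inverse. -/
theorem result {G : Type*} [Group G] [Finite G] [IsSimpleGroup G] (h : Nat.card G = 168) : Nat.card {g : G // orderOf g = 3} = 56 ∧ (∀ s t : G, orderOf s = 3 → orderOf t = 3 → IsConj s t) ∧ Nat.card {g : G // orderOf g = 4} = 42 ∧ (∀ s t : G, orderOf s = 4 → orderOf t = 4 → IsConj s t) ∧ Nat.card {g : G // orderOf g = 7} = 48 ∧ ∀ x : G, orderOf x = 7 → Nat.card {g : G // IsConj x g} = 24 ∧ ¬ IsConj x x⁻¹ := by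
  obtain ⟨-, h4, -, hc4⟩ := CfsgLib.SmallGroups.Order168.classes h
  have h3 := CfsgLib.SmallGroups.Order168.card_three_elements h
  refine ⟨h3, ?_, h4, hc4, CfsgLib.SmallGroups.Order168.card_seven_elements h, ?_⟩
  · intro s t hs ht
    have hcls : Nat.card {g : G // IsConj s g} = 56 := by
      rw [CfsgLib.SmallGroups.CosetFixed.card_class]
      have h1 := (Subgroup.centralizer ({s} : Set G)).index_mul_card
      rw [CfsgLib.SmallGroups.Order168.card_centralizer_three h hs, h] at h1
      omega
    have hsub : {g : G | IsConj s g} ⊆ {g : G | orderOf g = 3} := fun g hg =>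
      (CfsgLib.SmallGroups.Order168.orderOf_of_isConj hg).trans hs
    have he := Set.eq_of_subset_of_ncard_le hsub (by
      rw [← Nat.card_coe_set_eq, ← Nat.card_coe_set_eq]
      exact h3.trans_le hcls.ge)
    have : t ∈ {g : G | IsConj s g} := he.symm ▸ ht
    exact this
  intro x hx
  refine ⟨?_, fun hxi => ?_⟩
  · rw [CfsgLib.SmallGroups.CosetFixed.card_class]
    have h1 := (Subgroup.centralizer ({x} : Set G)).index_mul_card
    rw [CfsgLib.SmallGroups.Order168.card_centralizer_seven h hx, h] at h1
    omega
  obtain ⟨g, hg⟩ := isConj_iff.mp hxi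
  have hg2 : g * g * x = x * (g * g) := by
    have h2 : g * x⁻¹ * g⁻¹ = x := by
      rw [← conj_inv, hg, inv_inv]
    refine mul_inv_eq_iff_eq_mul.mp ?_
    calc g * g * x * (g * g)⁻¹ = g * (g * x * g⁻¹) * g⁻¹ := by group
      _ = x := by rw [hg, h2]
  have hd := (Subgroup.centralizer ({x} : Set G)).orderOf_dvd_natCard
    (Subgroup.mem_centralizer_singleton_iff.mpr hg2)
  rw [CfsgLib.SmallGroups.Order168.card_centralizer_seven h hx, ← pow_two] at hd
  have hgx : g * x ≠ x * g := fun e => by
    have h1 : x = x⁻¹ := by rw [← hg, e, mul_inv_cancel_right]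
    have h2 : x ^ 2 = 1 := by rw [pow_two]; exact mul_eq_one_iff_eq_inv.mpr h1
    have := orderOf_dvd_of_pow_eq_one h2
    rw [hx] at this
    norm_num at this
  rcases CfsgLib.SmallGroups.Order168.orderOf_mem h g with e | e | e | e | e
  · exact hgx (by rw [orderOf_eq_one_iff.mp e, one_mul, mul_one])
  · have hgc : orderOf g = 2 := e
    have h2 : g ^ 2 = 1 := hgc ▸ pow_orderOf_eq_one g
    -- an element of order seven would commute with an involution or be inverted by it
    have hxn : ∀ P : Sylow 7 G, x ∈ (P : Subgroup G) → g ∈ Subgroup.normalizer ((P : Subgroup G) : Set G) := by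
      intro P hP
      have : Fact (Nat.Prime 7) := ⟨by norm_num⟩
      have he : Subgroup.zpowers x = P := Subgroup.eq_of_le_of_card_ge (Subgroup.zpowers_le.mpr hP)
        (by rw [CfsgLib.SmallGroups.Order168.card_seven h P, Nat.card_zpowers, hx])
      refine Subgroup.mem_normalizer_iff_map_conj_eq.mpr ?_
      show (P : Subgroup G).map (MulAut.conj g).toMonoidHom = P
      rw [← he, MonoidHom.map_zpowers]
      show Subgroup.zpowers (g * x * g⁻¹) = _
      rw [hg, Subgroup.zpowers_inv]
    have : Fact (Nat.Prime 7) := ⟨by norm_num⟩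
    obtain ⟨P, hP⟩ := (IsPGroup.of_card (n := 1) (by rw [Nat.card_zpowers, hx, pow_one]) :
      IsPGroup 7 ↥(Subgroup.zpowers x)).exists_le_sylow
    have h21 := (Subgroup.normalizer ((P : Subgroup G) : Set G)).orderOf_dvd_natCard (hxn P (hP (Subgroup.mem_zpowers x)))
    rw [CfsgLib.SmallGroups.Order168.card_normalizer_seven h P, hgc] at h21
    norm_num at h21
  all_goals
    rw [orderOf_pow' g two_ne_zero, e] at hd
    norm_num at hd
  · -- `g` of order seven with `g ^ 2` centralising `x` centralises `x`
    apply hgx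
    have hmem : g ∈ Subgroup.centralizer ({x} : Set G) := by
      have h8 : g = (g ^ 2) ^ 4 := by
        rw [← pow_mul, show 2 * 4 = 7 + 1 by norm_num, pow_succ, ← e, pow_orderOf_eq_one, one_mul]
      rw [h8]
      exact Subgroup.pow_mem _ (Subgroup.mem_centralizer_singleton_iff.mpr (by rw [pow_two]; exact hg2)) 4
    exact Subgroup.mem_centralizer_singleton_iff.mp hmem

end Cfsg.Agent.S1006
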