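import Cfsg.Statements.S1007
import Cfsg.Agent.Lib.SmallGroups.Order168Max
-- import your own Cfsg.Agent.* helpers here

set_option autoImplicit false
open Cfsg

namespace Cfsg.Agent.S1007

/-- Let G be a simple group of order 168 and T a Sylow 2-subgroup. Then T contains exactly two subgroups that are Klein four-groups; they are not conjugate in G; and the normalizer of every Klein four-subgroup of G is isomorphic to the symmetric group of degree 4. -/
theorem result {G : Type*} [Group G] [Finite G] [IsSimpleGroup G] (h : Nat.card G = 168) (T : Sylow 2 G) : Nat.card {U : Subgroup G // U ≤ (T : Subgroup G) ∧ IsKleinFour ↥U} = 2 ∧ (∀ U W : Subgroup G, U ≤ (T : Subgroup G) → W ≤ (T : Subgroup G) → IsKleinFour ↥U → IsKleinFour ↥W → U ≠ W → ∀ g : G, U.map (MulAut.conj g).toMonoidHom ≠ W) ∧ ∀ U : Subgroup G, IsKleinFour ↥U → Nonempty (↥(Subgroup.normalizer (U : Set G)) ≃* Equiv.Perm (Fin 4)) := by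
  obtain ⟨U₀, W₀, hne, hU, hW, hkU, hkW, hall⟩ := CfsgLib.SmallGroups.Order168.klein_in_sylow h T
  refine ⟨?_, fun U W hU' hW' hkU' hkW' hne' g => CfsgLib.SmallGroups.Order168.klein_not_conj h hU' hW' hkU' hkW' hne' g,
    fun U hk => CfsgLib.SmallGroups.Order168.normalizer_klein_iso h hk⟩
  have e : {U : Subgroup G | U ≤ (T : Subgroup G) ∧ IsKleinFour ↥U} = {U₀, W₀} := by
    ext V
    simp only [Set.mem_ofPred_eq, Set.mem_insert_iff, Set.mem_singleton_iff]
    refine ⟨fun hV => hall V hV.1 hV.2, ?_⟩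
    rintro (rfl | rfl)
    · exact ⟨hU, hkU⟩
    · exact ⟨hW, hkW⟩
  show Nat.card ↥{U : Subgroup G | U ≤ (T : Subgroup G) ∧ IsKleinFour ↥U} = 2
  rw [Nat.card_coe_set_eq, e, Set.ncard_pair hne]

end Cfsg.Agent.S1007
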