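import Cfsg.Statements.S1008
import Cfsg.Agent.Lib.SmallGroups.Order168Max
-- import your own Cfsg.Agent.* helpers here

set_option autoImplicit false
open Cfsg

namespace Cfsg.Agent.S1008

/-- In a simple group of order 168 every maximal subgroup is either isomorphic to the symmetric group of degree 4 or non-abelian of order 21; the maximal subgroups of order 21 form one conjugacy class and those isomorphic to the symmetric group of degree 4 form exactly two conjugacy classes. -/
theorem result {G : Type*} [Group G] [Finite G] [IsSimpleGroup G] (h : Nat.card G = 168) : (∀ M : Subgroup G, IsCoatom M → Nonempty (↥M ≃* Equiv.Perm (Fin 4)) ∨ (Nat.card ↥M = 21 ∧ ¬ IsMulCommutative ↥M)) ∧ (∀ M M' : Subgroup G, IsCoatom M → IsCoatom M' → Nat.card ↥M = 21 → Nat.card ↥M' = 21 → ∃ g : G, M' = M.map (MulAut.conj g).toMonoidHom) ∧ ∃ M₁ M₂ : Subgroup G, IsCoatom M₁ ∧ IsCoatom M₂ ∧ Nonempty (↥M₁ ≃* Equiv.Perm (Fin 4)) ∧ Nonempty (↥M₂ ≃* Equiv.Perm (Fin 4)) ∧ (∀ g : G, M₂ ≠ M₁.map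 (MulAut.conj g).toMonoidHom) ∧ ∀ M : Subgroup G, IsCoatom M → Nonempty (↥M ≃* Equiv.Perm (Fin 4)) → ∃ g : G, M = M₁.map (MulAut.conj g).toMonoidHom ∨ M = M₂.map (MulAut.conj g).toMonoidHom := by
  have : Fact (Nat.Prime 2) := ⟨Nat.prime_two⟩
  have : Fact (Nat.Prime 7) := ⟨by norm_num⟩
  have hcases := fun (M : Subgroup G) (hM : IsCoatom M) => CfsgLib.SmallGroups.Order168.coatom_cases h hM
  refine ⟨fun M hM => ?_, fun M M' hM hM' h21 h21' => ?_, ?_⟩
  · rcases hcases M hM with ⟨U, hk, rfl⟩ | ⟨_, P, rfl⟩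
    · exact Or.inl (CfsgLib.SmallGroups.Order168.normalizer_klein_iso h hk)
    · refine Or.inr ⟨CfsgLib.SmallGroups.Order168.card_normalizer_seven h P, fun hc => ?_⟩
      exact CfsgLib.SmallGroups.SimpleTools.not_normalizer_le (CfsgLib.SmallGroups.Order168.not_comm h)
        (by rw [h]; norm_num) P fun a ha => Subgroup.mem_centralizer_iff.mpr fun b hb =>
          congrArg Subtype.val (hc.is_comm.comm ⟨b, Subgroup.le_normalizer hb⟩ ⟨a, ha⟩)
  · rcases hcases M hM with ⟨U, hk, rfl⟩ | ⟨_, P, rfl⟩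
    · rw [CfsgLib.SmallGroups.Order168.card_normalizer_klein h hk] at h21; omega
    rcases hcases M' hM' with ⟨U, hk, rfl⟩ | ⟨_, P', rfl⟩
    · rw [CfsgLib.SmallGroups.Order168.card_normalizer_klein h hk] at h21'; omega
    obtain ⟨g, rfl⟩ := MulAction.exists_smul_eq G P P'
    exact ⟨g, (CfsgLib.SmallGroups.Order168.map_conj_normalizer (P : Subgroup G) g).symm⟩
  obtain ⟨T⟩ : Nonempty (Sylow 2 G) := inferInstance
  obtain ⟨U, W, hne, hU, hW, hkU, hkW, hall⟩ := CfsgLib.SmallGroups.Order168.klein_in_sylow h T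
  refine ⟨Subgroup.normalizer (U : Set G), Subgroup.normalizer (W : Set G),
    CfsgLib.SmallGroups.Order168.isCoatom_normalizer_klein h hkU,
    CfsgLib.SmallGroups.Order168.isCoatom_normalizer_klein h hkW,
    CfsgLib.SmallGroups.Order168.normalizer_klein_iso h hkU,
    CfsgLib.SmallGroups.Order168.normalizer_klein_iso h hkW, fun g hg => ?_, fun M hM hiso => ?_⟩
  · rw [CfsgLib.SmallGroups.Order168.map_conj_normalizer] at hg
    set V := U.map (MulAut.conj g).toMonoidHom
    have hkV : IsKleinFour ↥V := CfsgLib.SmallGroups.Order168.klein_map _ (MulAut.conj g).injective U hkU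
    have hVW : V ≠ W := CfsgLib.SmallGroups.Order168.klein_not_conj h hU hW hkU hkW hne g
    -- two distinct normal four-groups generate a normal 2-subgroup
    have hVN : V ≤ Subgroup.normalizer (W : Set G) := hg ▸ Subgroup.le_normalizer
    have hsup : ∀ x ∈ Subgroup.normalizer (W : Set G), ∀ y ∈ W ⊔ V, x * y * x⁻¹ ∈ W ⊔ V := by
      intro x hx y hy
      have h1 : W.map (MulAut.conj x).toMonoidHom = W := Subgroup.mem_normalizer_iff_map_conj_eq.mp hx
      have h2 : V.map (MulAut.conj x).toMonoidHom = V := Subgroup.mem_normalizer_iff_map_conj_eq.mp (hg ▸ hx)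
      have h3 : (W ⊔ V).map (MulAut.conj x).toMonoidHom = W ⊔ V := by rw [Subgroup.map_sup, h1, h2]
      exact h3 ▸ Subgroup.mem_map.mpr ⟨y, hy, rfl⟩
    have hp : IsPGroup 2 ↥(W ⊔ V) :=
      IsPGroup.to_sup_of_normal_left' (IsPGroup.of_card (n := 2) hkW.card_four)
        (IsPGroup.of_card (n := 2) hkV.card_four) hVN
    obtain ⟨S, hS⟩ := hp.exists_le_sylow
    have hlt : W < W ⊔ V := lt_of_le_of_ne le_sup_left fun e => hVW (Subgroup.eq_of_le_of_card_ge
      (e ▸ le_sup_right) (by rw [hkV.card_four, hkW.card_four]))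
    have h4 : 4 < Nat.card ↥(W ⊔ V) := hkW.card_four ▸ Set.ncard_lt_ncard hlt
    obtain ⟨n, hn⟩ := hp.exists_card_eq
    have h8 : Nat.card ↥(W ⊔ V) = 8 := by
      have hle := Subgroup.card_le_of_le hS
      rw [CfsgLib.SmallGroups.Order168.card_two h S, hn] at hle
      rw [hn] at h4
      have hn2 : 2 < n := (Nat.pow_lt_pow_iff_right (by norm_num : 1 < 2)).mp (show 2 ^ 2 < 2 ^ n from h4)
      have hn3 : n ≤ 3 := (Nat.pow_le_pow_iff_right (by norm_num : 1 < 2)).mp (show 2 ^ n ≤ 2 ^ 3 from hle)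
      rw [hn, show n = 3 by omega]; norm_num
    have hWS : W ⊔ V = (S : Subgroup G) :=
      Subgroup.eq_of_le_of_card_ge hS (by rw [CfsgLib.SmallGroups.Order168.card_two h S, h8])
    have hle : Subgroup.normalizer (W : Set G) ≤ Subgroup.normalizer ((S : Subgroup G) : Set G) := by
      rw [← hWS]
      intro x hx
      refine Subgroup.mem_normalizer_iff.mpr fun y => ⟨hsup x hx y, fun hy => ?_⟩
      have := hsup x⁻¹ (inv_mem hx) _ hy
      simpa [mul_assoc] using this
    have h24 := Subgroup.card_le_of_le hle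
    rw [CfsgLib.SmallGroups.Order168.normalizer_two h S, CfsgLib.SmallGroups.Order168.card_normalizer_klein h hkW,
      CfsgLib.SmallGroups.Order168.card_two h S] at h24
    omega
  · obtain ⟨e⟩ := hiso
    have h24 : Nat.card M = 24 := by rw [Nat.card_congr e.toEquiv, Nat.card_perm, Nat.card_fin]; rfl
    rcases hcases M hM with ⟨V, hk, rfl⟩ | ⟨_, P, rfl⟩
    · obtain ⟨g, hg | hg⟩ := CfsgLib.SmallGroups.Order168.klein_conj_cases h hne hall hk
      · exact ⟨g, Or.inl (by rw [hg, CfsgLib.SmallGroups.Order168.map_conj_normalizer])⟩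
      · exact ⟨g, Or.inr (by rw [hg, CfsgLib.SmallGroups.Order168.map_conj_normalizer])⟩
    · rw [CfsgLib.SmallGroups.Order168.card_normalizer_seven h P] at h24; omega

end Cfsg.Agent.S1008
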