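import Cfsg.Statements.S1013
import Cfsg.Agent.Lib.SmallGroups.Simplicity
-- import your own Cfsg.Agent.* helpers here

set_option autoImplicit false
open Cfsg

namespace Cfsg.Agent.S1013

/-- Let G be a transitive permutation group of prime degree p having more than one Sylow p-subgroup, and suppose a Sylow p-subgroup P has prime index in its normalizer. Then G is simple. -/
theorem result {α : Type*} [Fintype α] [DecidableEq α] {p : ℕ} [Fact p.Prime] (hα : Fintype.card α = p) (G : Subgroup (Equiv.Perm α)) [MulAction.IsPretransitive ↥G α] (P : Sylow p ↥G) (hn : 1 < Nat.card (Sylow p ↥G)) (ht : (((P : Subgroup ↥G).subgroupOf (Subgroup.normalizer ((P : Subgroup ↥G) : Set ↥G))).index).Prime) : IsSimpleGroup ↥G := by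
  have hp : p.Prime := Fact.out
  have hX : Nat.card α = p := by rw [Nat.card_eq_fintype_card, hα]
  have hGd : p ∣ Nat.card ↥G := by
    obtain ⟨a⟩ : Nonempty α := Fintype.card_pos_iff.mp (hα ▸ hp.pos)
    rw [← hX, ← MulAction.index_stabilizer_of_transitive ↥G a]
    exact Subgroup.index_dvd_card _
  have hP : Nat.card (P : Subgroup ↥G) = p := by
    have hdvd : Nat.card (P : Subgroup ↥G) ∣ p.factorial := by
      refine (Subgroup.card_subgroup_dvd_card _).trans ((Subgroup.card_subgroup_dvd_card G).trans ?_)
      rw [Nat.card_perm, hX]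
    obtain ⟨n, hn⟩ := P.isPGroup'.exists_card_eq
    rcases Nat.lt_or_ge n 2 with h | h
    · interval_cases n
      · exfalso
        exact P.ne_bot_of_dvd_card hGd (Subgroup.eq_bot_of_card_eq _ (hn.trans (pow_zero p)))
      · exact hn.trans (pow_one p)
    · exfalso
      have h2 : p ^ 2 ∣ p.factorial := (pow_dvd_pow p h).trans (hn ▸ hdvd)
      obtain ⟨q, hq⟩ : ∃ q, p = q + 1 := ⟨p - 1, by have := hp.one_le; omega⟩
      rw [pow_two, show p.factorial = p * q.factorial by rw [hq, Nat.factorial_succ]] at h2
      have h3 := hp.dvd_factorial.mp (Nat.dvd_of_mul_dvd_mul_left hp.pos h2)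
      omega
  refine CfsgLib.SmallGroups.Simplicity.isSimple_of_prime_degree hX P hP (fun hN => ?_) ht
  rw [P.card_eq_index_normalizer] at hn
  have htop : Subgroup.normalizer ((P : Subgroup ↥G) : Set ↥G) = ⊤ := Subgroup.normalizer_eq_top_iff.mpr hN
  exact hn.ne' (Subgroup.index_eq_one.mpr htop)

end Cfsg.Agent.S1013
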