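import Cfsg.Statements.S1028
import Cfsg.Agent.Lib.Chevalley.Tables
import Cfsg.Agent.Lib.Chevalley.PosProduct
-- import your own Cfsg.Agent.* helpers here

set_option autoImplicit false
open Cfsg

namespace Cfsg.Agent.S1028

/-- Elements of `U` (the subgroup generated by the root elements of the positive roots) are unipotent linear maps: `(u - 1)^n = 0` with `n = rank + nroots` the dimension of the module. -/
theorem result {F : Type*} [Field F] (D : Cfsg.Lie.ChevalleyDatum) (hD : D ∈ [Cfsg.Lie.chevG2, Cfsg.Lie.chevB2, Cfsg.Lie.chevD4, Cfsg.Lie.chevF4, Cfsg.Lie.chevE6, Cfsg.Lie.chevE7, Cfsg.Lie.chevE8]) (g : GL D.Idx F) (hg : g ∈ D.posUnipotent F) :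
    ((g : Matrix D.Idx D.Idx F) - 1) ^ (D.rank + D.nroots) = 0 := by
  obtain ⟨T, hT, hC, rfl⟩ := CfsgLib.Chevalley.exists_tbl hD
  rw [CfsgLib.Chevalley.Tbl.posUnipotent_rootGen hT] at hg
  have h := CfsgLib.Chevalley.Tbl.pow_sub_one_eq_zero hT (CfsgLib.Chevalley.Tbl.pos_le_uniSub hT hg).1
  by_cases hn : T.n = 0
  · haveI : IsEmpty (Fin T.n) := by rw [hn]; infer_instance
    have hrk : T.datum.rank + T.datum.nroots = T.rank := by
      show T.rank + T.n = T.rank
      omega
    rw [hrk]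
    rcases Nat.eq_zero_or_pos T.rank with h0 | h0
    · haveI : IsEmpty (Fin T.rank) := by rw [h0]; infer_instance
      exact Subsingleton.elim _ _
    · exact pow_eq_zero_of_le (show T.n + 1 ≤ T.rank by omega) h
  · obtain ⟨i, hi, -⟩ := CfsgLib.Chevalley.Tbl.cv_coprime hT (r := 0) (by omega)
    exact pow_eq_zero_of_le (show T.n + 1 ≤ T.rank + T.n by omega) h

end Cfsg.Agent.S1028
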