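import Cfsg.Statements.S1033
import Cfsg.Agent.Lib.Chevalley.Tables
import Cfsg.Agent.Lib.Chevalley.Words
import Cfsg.Agent.Lib.Chevalley.Basic
-- import your own Cfsg.Agent.* helpers here

set_option autoImplicit false
open Cfsg

namespace Cfsg.Agent.S1033

/-- `h_p(c)` (for a fundamental root `p = p_{i+1}` and `c ≠ 0`) is diagonal: it fixes each `h_{p_j}` and scales `e_s` by `c^{A_{p,s}}`. -/
theorem result {F : Type*} [Field F] (D : Cfsg.Lie.ChevalleyDatum) (hD : D ∈ [Cfsg.Lie.chevG2, Cfsg.Lie.chevB2, Cfsg.Lie.chevD4, Cfsg.Lie.chevF4, Cfsg.Lie.chevE6, Cfsg.Lie.chevE7, Cfsg.Lie.chevE8]) (i : ℕ) (hi : i < D.rank) (c : F) (hc : c ≠ 0) :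
    D.hMat F (D.simple i) c = Matrix.diagonal (Sum.elim (fun _ => (1 : F)) (fun s : Fin D.nroots => c ^ (D.cartan i s))) := by
  obtain ⟨T, hT, hC, rfl⟩ := CfsgLib.Chevalley.exists_tbl hD
  have hp := CfsgLib.Chevalley.Tbl.simple_lt hT hi
  have h := CfsgLib.Chevalley.Tbl.hU_eq (F := F) hT hp (Units.mk0 c hc)
  rw [Units.val_mk0] at h
  rw [CfsgLib.Chevalley.Tbl.datum_simple hi, CfsgLib.Chevalley.Tbl.hMat_eq hT hp, h,
    CfsgLib.Chevalley.Tbl.dU_val]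
  refine congrArg _ (funext fun x => ?_)
  rcases x with j | s
  · simp [CfsgLib.Chevalley.Tbl.scale]
  · simp [CfsgLib.Chevalley.Tbl.scale, CfsgLib.Chevalley.Tbl.hCh,
      CfsgLib.Chevalley.Tbl.datum_cartan hi s.2, CfsgLib.Chevalley.Tbl.pair_simple hT hi]

end Cfsg.Agent.S1033
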