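import Cfsg.Statements.S1035
import Cfsg.Agent.Lib.Chevalley.Data.SmithCerts
import Cfsg.Agent.Lib.Chevalley.Tables
import Cfsg.Agent.Lib.Chevalley.Orders
-- import your own Cfsg.Agent.* helpers here

set_option autoImplicit false
open Cfsg

namespace Cfsg.Agent.S1035

/-- `d · |H| = (q - 1)^rank` over a field with `q` elements, with `d = 1` (G₂, F₄, E₈), `gcd(3, q-1)` (E₆), `gcd(2, q-1)` (E₇, B₂), `gcd(2, q-1)²` (D₄). -/
theorem result {F : Type*} [Field F] [Fintype F] {q : ℕ} (hq : Fintype.card F = q)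
    (p : Cfsg.Lie.ChevalleyDatum × ℕ)
    (hp : p ∈ [(Cfsg.Lie.chevG2, 1), (Cfsg.Lie.chevF4, 1), (Cfsg.Lie.chevE8, 1), (Cfsg.Lie.chevE6, Nat.gcd 3 (q - 1)),
      (Cfsg.Lie.chevE7, Nat.gcd 2 (q - 1)), (Cfsg.Lie.chevB2, Nat.gcd 2 (q - 1)), (Cfsg.Lie.chevD4, Nat.gcd 2 (q - 1) ^ 2)]) :
    p.2 * Nat.card (p.1.diagonalSubgroup F) = (q - 1) ^ p.1.rank := by
  simp only [List.mem_cons, List.not_mem_nil, or_false] at hp
  rcases hp with rfl | rfl | rfl | rfl | rfl | rfl | rfl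
  · have h := CfsgLib.Chevalley.Tbl.diag_order (F := F) CfsgLib.Chevalley.Data.G2.valid hq CfsgLib.Chevalley.Data.G2.chkSmith
    rw [CfsgLib.Chevalley.Data.G2.datum_eq, show CfsgLib.Chevalley.Data.G2.tbl.rank = 2 from rfl] at h
    simp [Fin.prod_univ_succ, mul_assoc] at h
    show _ * Nat.card (Cfsg.Lie.chevG2.diagonalSubgroup F) = (q - 1) ^ 2
    simpa [Nat.gcd_comm _ (q - 1), pow_two, mul_assoc] using h
  · have h := CfsgLib.Chevalley.Tbl.diag_order (F := F) CfsgLib.Chevalley.Data.F4.valid hq CfsgLib.Chevalley.Data.F4.chkSmith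
    rw [CfsgLib.Chevalley.Data.F4.datum_eq, show CfsgLib.Chevalley.Data.F4.tbl.rank = 4 from rfl] at h
    simp [Fin.prod_univ_succ, mul_assoc] at h
    show _ * Nat.card (Cfsg.Lie.chevF4.diagonalSubgroup F) = (q - 1) ^ 4
    simpa [Nat.gcd_comm _ (q - 1), pow_two, mul_assoc] using h
  · have h := CfsgLib.Chevalley.Tbl.diag_order (F := F) CfsgLib.Chevalley.Data.E8.valid hq CfsgLib.Chevalley.Data.E8.chkSmith
    rw [CfsgLib.Chevalley.Data.E8.datum_eq, show CfsgLib.Chevalley.Data.E8.tbl.rank = 8 from rfl] at h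
    simp [Fin.prod_univ_succ, mul_assoc] at h
    show _ * Nat.card (Cfsg.Lie.chevE8.diagonalSubgroup F) = (q - 1) ^ 8
    simpa [Nat.gcd_comm _ (q - 1), pow_two, mul_assoc] using h
  · have h := CfsgLib.Chevalley.Tbl.diag_order (F := F) CfsgLib.Chevalley.Data.E6.valid hq CfsgLib.Chevalley.Data.E6.chkSmith
    rw [CfsgLib.Chevalley.Data.E6.datum_eq, show CfsgLib.Chevalley.Data.E6.tbl.rank = 6 from rfl] at h
    simp [Fin.prod_univ_succ, mul_assoc] at h
    show _ * Nat.card (Cfsg.Lie.chevE6.diagonalSubgroup F) = (q - 1) ^ 6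
    simpa [Nat.gcd_comm _ (q - 1), pow_two, mul_assoc] using h
  · have h := CfsgLib.Chevalley.Tbl.diag_order (F := F) CfsgLib.Chevalley.Data.E7.valid hq CfsgLib.Chevalley.Data.E7.chkSmith
    rw [CfsgLib.Chevalley.Data.E7.datum_eq, show CfsgLib.Chevalley.Data.E7.tbl.rank = 7 from rfl] at h
    simp [Fin.prod_univ_succ, mul_assoc] at h
    show _ * Nat.card (Cfsg.Lie.chevE7.diagonalSubgroup F) = (q - 1) ^ 7
    simpa [Nat.gcd_comm _ (q - 1), pow_two, mul_assoc] using h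
  · have h := CfsgLib.Chevalley.Tbl.diag_order (F := F) CfsgLib.Chevalley.Data.B2.valid hq CfsgLib.Chevalley.Data.B2.chkSmith
    rw [CfsgLib.Chevalley.Data.B2.datum_eq, show CfsgLib.Chevalley.Data.B2.tbl.rank = 2 from rfl] at h
    simp [Fin.prod_univ_succ, mul_assoc] at h
    show _ * Nat.card (Cfsg.Lie.chevB2.diagonalSubgroup F) = (q - 1) ^ 2
    simpa [Nat.gcd_comm _ (q - 1), pow_two, mul_assoc] using h
  · have h := CfsgLib.Chevalley.Tbl.diag_order (F := F) CfsgLib.Chevalley.Data.D4.valid hq CfsgLib.Chevalley.Data.D4.chkSmith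
    rw [CfsgLib.Chevalley.Data.D4.datum_eq, show CfsgLib.Chevalley.Data.D4.tbl.rank = 4 from rfl] at h
    simp [Fin.prod_univ_succ, mul_assoc] at h
    show _ * Nat.card (Cfsg.Lie.chevD4.diagonalSubgroup F) = (q - 1) ^ 4
    simpa [Nat.gcd_comm _ (q - 1), pow_two, mul_assoc] using h

end Cfsg.Agent.S1035
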