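import Cfsg.Statements.S1041
import Cfsg.Agent.Lib.Chevalley.Tables
import Cfsg.Agent.Lib.Chevalley.Words
import Cfsg.Agent.Lib.Chevalley.Basic
-- import your own Cfsg.Agent.* helpers here

set_option autoImplicit false
open Cfsg

namespace Cfsg.Agent.S1041

/-- `U` and `V` generate the whole Chevalley group. -/
theorem result {F : Type*} [Field F] (D : Cfsg.Lie.ChevalleyDatum) (hD : D ∈ [Cfsg.Lie.chevG2, Cfsg.Lie.chevB2, Cfsg.Lie.chevD4, Cfsg.Lie.chevF4, Cfsg.Lie.chevE6, Cfsg.Lie.chevE7, Cfsg.Lie.chevE8]) : D.posUnipotent F ⊔ D.negUnipotent F = D.group F := by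
  obtain ⟨T, hT, hC, rfl⟩ := CfsgLib.Chevalley.exists_tbl hD
  rw [CfsgLib.Chevalley.Tbl.posUnipotent_eq hT, CfsgLib.Chevalley.Tbl.negUnipotent_eq hT,
    CfsgLib.Chevalley.Tbl.group_eq hT, ← Subgroup.closure_union]
  congr 1
  ext g
  constructor
  · rintro (⟨r, hr, -, t, h⟩ | ⟨r, hr, -, t, h⟩) <;> exact ⟨r, hr, t, h⟩
  · rintro ⟨r, hr, t, h⟩
    cases hp : T.isPos r
    · exact Or.inr ⟨r, hr, hp, t, h⟩
    · exact Or.inl ⟨r, hr, hp, t, h⟩

end Cfsg.Agent.S1041
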