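import Cfsg.Statements.S1058
import Cfsg.Agent.Lib.Chevalley.Natural.NatInst
import Cfsg.Agent.S1060

set_option autoImplicit false
set_option linter.style.haveILetI false
open Cfsg

namespace Cfsg.Agent.S1058

open Equiv CfsgLib.Chevalley CfsgLib.Chevalley.Natural

/-- The images of the root involutions in the symmetric group of degree six. -/
def tau : ℕ → Equiv.Perm (Fin 6)
  | 0 => swap 4 5
  | 1 => swap 0 2 * swap 1 3 * swap 4 5
  | 2 => swap 0 1 * swap 2 3 * swap 4 5
  | 3 => swap 1 3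
  | 4 => swap 0 1
  | 5 => swap 0 5 * swap 1 3 * swap 2 4
  | 6 => swap 0 1 * swap 2 4 * swap 3 5
  | 7 => swap 2 4
  | _ => 1

/-- The image of `x_r(t)` over the field with two elements. -/
def img (r : ℕ) (t : ZMod 2) : Equiv.Perm (Fin 6) := if t = 0 then 1 else tau r

theorem add_rel : ∀ r < 8, ∀ t u : ZMod 2, img r t * img r u = img r (t + u) := by decide +kernel

theorem comm_rel : ∀ t u : ZMod 2, ∀ r < 8, ∀ s < 8, ¬ (s = r ∨ s = Cfsg.Lie.chevB2.neg r) →
    (img s u)⁻¹ * (img r t)⁻¹ * img s u * img r t =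
      ((Cfsg.Lie.chevB2.commTerms r s).map
        fun c => img c.1 ((c.2.1 : ZMod 2) * (-t) ^ c.2.2.1 * u ^ c.2.2.2)).prod := by decide +kernel

theorem tor_rel : ∀ r < 8, ((Cfsg.Lie.chevB2.hWord r (1 : ZMod 2)).map fun p => img p.1 p.2).prod = 1 := by
  decide +kernel

theorem eq_one_of_comm : ∀ z : Equiv.Perm (Fin 6), (∀ r < 8, tau r * z = z * tau r) → z = 1 := by
  decide +kernel

theorem range_top {G : Type*} [Group G] (f : G →* Equiv.Perm (Fin 6)) (h : ∀ r < 8, tau r ∈ f.range) :
    f.range = ⊤ := by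
  have h4 : swap (0 : Fin 6) 1 ∈ f.range := h 4 (by norm_num)
  have h3 : swap (1 : Fin 6) 3 ∈ f.range := h 3 (by norm_num)
  have h7 : swap (2 : Fin 6) 4 ∈ f.range := h 7 (by norm_num)
  have h0 : swap (4 : Fin 6) 5 ∈ f.range := h 0 (by norm_num)
  have hc : swap (1 : Fin 6) 5 ∈ f.range := by
    have e : swap (1 : Fin 6) 5 = tau 6 * swap 1 3 * (swap 0 1 * tau 6 * swap 1 3 * tau 6 * swap 0 1) * swap 1 3 * tau 6 ∨
        swap (1 : Fin 6) 5 = swap 0 1 * (tau 5 * swap 0 1 * tau 5) * swap 0 1 ∨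
        swap (1 : Fin 6) 5 = swap 0 1 * (tau 6 * swap 1 3 * tau 6) * swap 0 1 := by decide +kernel
    rcases e with e | e | e <;> rw [e]
    · exact mul_mem (mul_mem (mul_mem (mul_mem (h 6 (by norm_num)) h3) (mul_mem (mul_mem (mul_mem (mul_mem h4
        (h 6 (by norm_num))) h3) (h 6 (by norm_num))) h4)) h3) (h 6 (by norm_num))
    · exact mul_mem (mul_mem h4 (mul_mem (mul_mem (h 5 (by norm_num)) h4) (h 5 (by norm_num)))) h4
    · exact mul_mem (mul_mem h4 (mul_mem (mul_mem (h 6 (by norm_num)) h3) (h 6 (by norm_num)))) h4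
  rw [eq_top_iff, ← Equiv.Perm.closure_isSwap (α := Fin 6), Subgroup.closure_le]
  rintro σ ⟨a, b, hab, rfl⟩
  have star : ∀ c : Fin 6, swap (1 : Fin 6) c ∈ f.range := by
    have h12 : swap (1 : Fin 6) 4 ∈ f.range := by
      have e : swap (1 : Fin 6) 4 = swap 1 5 * swap 4 5 * swap 1 5 := by decide +kernel
      rw [e]; exact mul_mem (mul_mem hc h0) hc
    intro c
    fin_cases c
    · show swap (1 : Fin 6) 0 ∈ f.range
      rw [Equiv.swap_comm]; exact h4
    · show swap (1 : Fin 6) 1 ∈ f.range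
      rw [Equiv.swap_self]; exact one_mem _
    · show swap (1 : Fin 6) 2 ∈ f.range
      have e : swap (1 : Fin 6) 2 = swap 1 4 * swap 2 4 * swap 1 4 := by decide +kernel
      rw [e]; exact mul_mem (mul_mem h12 h7) h12
    · exact h3
    · exact h12
    · exact hc
  have key : swap a b = swap 1 a * swap 1 b * swap 1 a ∨ swap a b = swap 1 b ∨ swap a b = swap 1 a := by
    revert a b
    decide +kernel
  rcases key with e | e | e <;> rw [SetLike.mem_coe, e]
  · exact mul_mem (mul_mem (star a) (star b)) (star a)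
  · exact star b
  · exact star a

/-- B₂(2) ≅ S₆. -/
theorem result {F : Type*} [Field F] [Fintype F] (hF : Fintype.card F = 2) :
    Nonempty (↥(Cfsg.Lie.chevB2.group F) ≃* Equiv.Perm (Fin 6)) := by
  classical
  haveI : CharP F 2 := charP_of_card_eq_prime hF
  have e : F ≃+* ZMod 2 := (ZMod.ringEquivOfPrime F Nat.prime_two hF).symm
  have hn : Cfsg.Lie.chevB2.nroots = 8 := rfl
  set f : Fin Cfsg.Lie.chevB2.nroots × F → Equiv.Perm (Fin 6) := fun p => img p.1.val (e p.2) with hf
  have hX : ∀ r < 8, ∀ t : F, FreeGroup.lift f (Cfsg.Lie.chevB2.stX r t) = img r (e t) := by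
    intro r hr t
    rw [Cfsg.Lie.ChevalleyDatum.stX, dif_pos (show r < Cfsg.Lie.chevB2.nroots from hr), FreeGroup.lift_apply_of]
  have hW : ∀ w : List (ℕ × F), (∀ p ∈ w, p.1 < 8) →
      FreeGroup.lift f (Cfsg.Lie.chevB2.stWord w) = (w.map fun p => img p.1 (e p.2)).prod := by
    intro w hw
    rw [Cfsg.Lie.ChevalleyDatum.stWord, map_list_prod, List.map_map]
    exact congrArg List.prod (List.map_congr_left fun p hp => hX p.1 (hw p hp) p.2)
  have hlt : ∀ r < 8, ∀ s < 8, ∀ c ∈ Cfsg.Lie.chevB2.commTerms r s, c.1 < 8 := by decide +kernel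
  have hneg : ∀ r < 8, Cfsg.Lie.chevB2.neg r < 8 := by decide +kernel
  have one_of : ∀ t : F, t ≠ 0 → t = 1 := fun t ht => e.injective (by
    have h2 : ∀ z : ZMod 2, z ≠ 0 → z = 1 := by decide
    rw [map_one]
    exact h2 _ (fun h => ht (e.injective (by rw [h, map_zero]))))
  let φ : Cfsg.Lie.chevB2.SteinbergGroup F →* Equiv.Perm (Fin 6) := PresentedGroup.toGroup (f := f) (by
    rintro g ((⟨r, t₁, t₂, hr, rfl⟩ | ⟨r, s, t, u, hr, hs, hrs, hng, rfl⟩) | ⟨r, t₁, t₂, hr, h₁, h₂, rfl⟩)
    · rw [map_mul, map_mul, map_inv, hX r hr, hX r hr, hX r hr, map_add, add_rel r hr, mul_inv_cancel]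
    · rw [map_mul, map_mul, map_mul, map_mul, map_inv, map_inv, map_inv, hX r hr, hX s hs, hW _ (by
        intro p hp
        simp only [Cfsg.Lie.ChevalleyDatum.commWord, List.mem_map] at hp
        obtain ⟨c, hc, rfl⟩ := hp
        exact hlt r hr s hs c hc), comm_rel (e t) (e u) r hr s hs (fun h => h.elim hrs hng), mul_inv_eq_one]
      rw [Cfsg.Lie.ChevalleyDatum.commWord, List.map_map]
      refine congrArg List.prod (List.map_congr_left fun c _ => ?_)
      simp [Function.comp_def]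
    · have hh : FreeGroup.lift f (Cfsg.Lie.chevB2.stH r (1 : F)) = 1 := by
        rw [Cfsg.Lie.ChevalleyDatum.stH, hW _ (by
          have := hneg r hr
          simp [Cfsg.Lie.ChevalleyDatum.hWord, Cfsg.Lie.ChevalleyDatum.nWord]
          tauto)]
        rw [← tor_rel r hr]
        simp [Cfsg.Lie.ChevalleyDatum.hWord, Cfsg.Lie.ChevalleyDatum.nWord]
      rw [one_of _ h₁, one_of _ h₂, one_mul, map_mul, map_mul, map_inv, hh]
      simp)
  have hφ : Function.Surjective φ := by
    rw [← MonoidHom.range_eq_top]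
    refine range_top φ fun r hr => ?_
    refine ⟨PresentedGroup.of (⟨r, hr⟩, (1 : F)), ?_⟩
    show PresentedGroup.toGroup _ (PresentedGroup.of _) = _
    rw [PresentedGroup.toGroup.of]
    show img r (e 1) = tau r
    rw [map_one, img, if_neg one_ne_zero]
  have hcardG : Nat.card ↥(Cfsg.Lie.chevB2.group F) = 720 := by
    have h := Cfsg.Agent.S1060.result hF
    norm_num at h
    rw [Nat.card_eq_fintype_card]
    exact h
  clear_value φ
  revert φ hcardG
  clear hW hX hf f hlt hneg hn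
  rw [← Data.B2.datum_eq]
  intro φ hφ hcardG
  set π := Tbl.stProj (F := F) natB2_nat.st
  have hπs : Function.Surjective π := Tbl.stProj_surjective natB2_nat.st
  have hπk : π.ker = Subgroup.center _ := Tbl.stProj_ker natB2_nat.st
  have hle : π.ker ≤ φ.ker := by
    rw [hπk]
    intro z hz
    rw [MonoidHom.mem_ker]
    have hcomm : ∀ σ : Equiv.Perm (Fin 6), σ * φ z = φ z * σ := fun σ => by
      obtain ⟨y, rfl⟩ := hφ σ
      rw [← map_mul, ← map_mul, Subgroup.mem_center_iff.mp hz y]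
    exact eq_one_of_comm (φ z) fun r _ => hcomm (tau r)
  have hi1 : π.ker.index = 720 := by
    rw [Subgroup.index_ker, MonoidHom.range_eq_top.mpr hπs, Subgroup.card_top, hcardG]
  have hi2 : φ.ker.index = 720 := by
    rw [Subgroup.index_ker, MonoidHom.range_eq_top.mpr hφ, Subgroup.card_top, Nat.card_perm, Nat.card_fin]
    norm_num [Nat.factorial]
  have hker : π.ker = φ.ker := by
    refine le_antisymm hle ?_
    rw [← Subgroup.relIndex_eq_one]
    have := Subgroup.relIndex_mul_index hle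
    rw [hi1, hi2] at this
    omega
  exact ⟨((QuotientGroup.quotientKerEquivOfSurjective π hπs).symm.trans
    (QuotientGroup.quotientMulEquivOfEq hker)).trans (QuotientGroup.quotientKerEquivOfSurjective φ hφ)⟩

end Cfsg.Agent.S1058
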