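import Cfsg.Statements.S1075
import Cfsg.Agent.Lib.Chevalley.ReeThree.Simple
import Cfsg.Agent.Lib.SmallGroups.Order504

set_option autoImplicit false
open Cfsg

namespace Cfsg.Agent.S1075

/-- The derived subgroup of ²G₂(3) (θ = identity over the field with three elements) has order 504 = 1512/3 and is isomorphic to PSL₂ over the field with eight elements. -/
theorem result {L : Type*} [Field L] [Fintype L] (hL : Fintype.card L = 8) :
    Nat.card ↥(commutator ↥(Cfsg.Lie.twistedG2 (ZMod 3) 1)) = 504 ∧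
      Nonempty (↥(commutator ↥(Cfsg.Lie.twistedG2 (ZMod 3) 1)) ≃* Matrix.ProjectiveSpecialLinearGroup (Fin 2) L) := by
  have key : Nat.card ↥(commutator ↥(CfsgLib.Chevalley.Twist.G2.S CfsgLib.Chevalley.ReeThree.hK3).fix) = 504 ∧
      Nonempty (↥(commutator ↥(CfsgLib.Chevalley.Twist.G2.S CfsgLib.Chevalley.ReeThree.hK3).fix) ≃*
        Matrix.ProjectiveSpecialLinearGroup (Fin 2) L) := by
    haveI := CfsgLib.Chevalley.ReeThree.isSimpleGroup_commutator
    exact ⟨CfsgLib.Chevalley.ReeThree.card_commutator,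
      CfsgLib.SmallGroups.Order504.psl CfsgLib.Chevalley.ReeThree.card_commutator hL⟩
  have h := CfsgLib.Chevalley.Twist.G2.transfer CfsgLib.Chevalley.ReeThree.hK3
    (fun _ G => Nat.card ↥(commutator ↥G) = 504 ∧
      Nonempty (↥(commutator ↥G) ≃* Matrix.ProjectiveSpecialLinearGroup (Fin 2) L)) key
  simpa using h

end Cfsg.Agent.S1075
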