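import Cfsg.Statements.S1078
import Cfsg.Agent.Lib.Chevalley.TablesSt
import Cfsg.Agent.Lib.Chevalley.SteinbergTorus
import Cfsg.Agent.Lib.Chevalley.Data.SmithCerts
-- import your own Cfsg.Agent.* helpers here

set_option autoImplicit false
open Cfsg

namespace Cfsg.Agent.S1078

/-- For G₂, F₄, E₈ the presented group has trivial centre (the universal and adjoint groups coincide). -/
theorem result {K : Type*} [Field K] (D : Cfsg.Lie.ChevalleyDatum) (hD : D ∈ [Cfsg.Lie.chevG2, Cfsg.Lie.chevF4, Cfsg.Lie.chevE8]) :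
    Subgroup.center (D.SteinbergGroup K) = ⊥ := by
  simp only [List.mem_cons, List.not_mem_nil, or_false] at hD
  open CfsgLib.Chevalley in
  rcases hD with rfl | rfl | rfl
  · rw [← Data.G2.datum_eq]
    exact Tbl.center_eq_bot ⟨Data.G2.valid, Data.G2.chkComm, Data.G2.chkSorted, Data.G2.chkSplit⟩
      (Tbl.torusHom_injective_of_smith Data.G2.valid Data.G2.chkSmith (by decide))
  · rw [← Data.F4.datum_eq]
    exact Tbl.center_eq_bot ⟨Data.F4.valid, Data.F4.chkComm, Data.F4.chkSorted, Data.F4.chkSplit⟩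
      (Tbl.torusHom_injective_of_smith Data.F4.valid Data.F4.chkSmith (by decide))
  · rw [← Data.E8.datum_eq]
    exact Tbl.center_eq_bot ⟨Data.E8.valid, Data.E8.chkComm, Data.E8.chkSorted, Data.E8.chkSplit⟩
      (Tbl.torusHom_injective_of_smith Data.E8.valid Data.E8.chkSmith (by decide))

end Cfsg.Agent.S1078
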