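import Cfsg.Statements.S1079
import Cfsg.Agent.Lib.KnownA.SteinbergCert.Emb
import Cfsg.Agent.Lib.Chevalley.TablesSt
import Cfsg.Agent.Lib.Chevalley.Data.SmithCerts
-- import your own Cfsg.Agent.* helpers here

set_option autoImplicit false
open Cfsg CfsgLib.Chevalley CfsgLib.KnownA.SteinbergUniv

namespace Cfsg.Agent.S1079

/-- `|Z(Ḡ)| = gcd(3, q-1)` for E₆ and `gcd(2, q-1)` for E₇ over a field with `q` elements (the centre is dual to the weight lattice modulo the root lattice). -/
theorem result {K : Type*} [Field K] [Fintype K] {q : ℕ} (hq : Fintype.card K = q)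
    (p : Cfsg.Lie.ChevalleyDatum × ℕ) (hp : p ∈ [(Cfsg.Lie.chevE6, 3), (Cfsg.Lie.chevE7, 2)]) :
    Nat.card (Subgroup.center (p.1.SteinbergGroup K)) = Nat.gcd p.2 (q - 1) := by
  simp only [List.mem_cons, List.not_mem_nil, or_false] at hp
  rcases hp with rfl | rfl
  · have hO : Data.E6.tbl.StOk :=
      ⟨Data.E6.valid, Data.E6.chkComm, Data.E6.chkSorted, Data.E6.chkSplit⟩
    simp only
    rw [← Data.E6.datum_eq, card_center hq hO
      (sTorus_injective hO Data.E7.valid Data.E7.chkComm embE6 leftE6) Data.E6.chkSmith,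
      Nat.gcd_comm 3 (q - 1)]
    show (∏ i : Fin 6, _) = _
    simp [Fin.prod_univ_succ]
  · have hO : Data.E7.tbl.StOk :=
      ⟨Data.E7.valid, Data.E7.chkComm, Data.E7.chkSorted, Data.E7.chkSplit⟩
    simp only
    rw [← Data.E7.datum_eq, card_center hq hO
      (sTorus_injective hO Data.E8.valid Data.E8.chkComm embE7 leftE7) Data.E7.chkSmith,
      Nat.gcd_comm 2 (q - 1)]
    show (∏ i : Fin 7, _) = _
    simp [Fin.prod_univ_succ]

end Cfsg.Agent.S1079
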