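import Cfsg.Statements.S1081
import Cfsg.Agent.Lib.Chevalley.GraphAut
-- import your own Cfsg.Agent.* helpers here

set_option autoImplicit false
open Cfsg

namespace Cfsg.Agent.S1081

/-- Graph automorphisms: for E₆ with ρ = (p₁ p₆)(p₃ p₅) and for D₄ with ρ the 3-cycle on the outer nodes there is a group automorphism sending `x_p(t) ↦ x_{ρ(p)}(t)` and `x_{-p}(t) ↦ x_{-ρ(p)}(t)` for every fundamental root `p`. -/
theorem result {F : Type*} [Field F] (p : Cfsg.Lie.ChevalleyDatum × List ℕ)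
    (hp : p ∈ [(Cfsg.Lie.chevE6, [5, 1, 4, 3, 2, 0]), (Cfsg.Lie.chevD4, [2, 1, 3, 0]), (Cfsg.Lie.chevD4, [3, 1, 0, 2])]) :
    ∃ α : ↥(p.1.group F) ≃* ↥(p.1.group F), ∀ (g : ↥(p.1.group F)) (i : ℕ) (t : F), i < p.1.rank →
      (((g : GL p.1.Idx F) : Matrix p.1.Idx p.1.Idx F) = p.1.x F (p.1.simple i) t →
        ((α g : GL p.1.Idx F) : Matrix p.1.Idx p.1.Idx F) = p.1.x F (p.1.simple (p.2.getD i 0)) t) ∧
      (((g : GL p.1.Idx F) : Matrix p.1.Idx p.1.Idx F) = p.1.x F (p.1.neg (p.1.simple i)) t →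
        ((α g : GL p.1.Idx F) : Matrix p.1.Idx p.1.Idx F) = p.1.x F (p.1.neg (p.1.simple (p.2.getD i 0))) t) := by
  simp only [List.mem_cons, List.not_mem_nil, or_false] at hp
  open CfsgLib.Chevalley in
  rcases hp with rfl | rfl | rfl
  · show ∃ α : ↥(Cfsg.Lie.chevE6.group F) ≃* ↥(Cfsg.Lie.chevE6.group F), _
    rw [← Data.E6.datum_eq]
    obtain ⟨α, hα⟩ := Tbl.exists_graph_aut (F := F) ⟨Data.E6.valid, Data.E6.chkComm, Data.E6.chkSorted,
      Data.E6.chkSplit⟩ (p := 0) (Or.inl rfl) Data.E6.chk_graph Data.E6.chk_graph Data.E6.chk_graph_inv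
      (fun _ => ⟨0, Or.inr rfl⟩)
    have key : ∀ i < Data.E6.tbl.rank,
        (Data.E6.tbl.datum.simple i < Data.E6.tbl.n ∧
          Data.E6.tbl.datum.simple ([5, 1, 4, 3, 2, 0].getD i 0) = Data.E6.graph.ρ (Data.E6.tbl.datum.simple i) ∧
          Data.E6.graph.ε (Data.E6.tbl.datum.simple i) = 1 ∧ 1 = Data.E6.graph.lam (Data.E6.tbl.datum.simple i)) ∧
        (Data.E6.tbl.datum.neg (Data.E6.tbl.datum.simple i) < Data.E6.tbl.n ∧
          Data.E6.tbl.datum.neg (Data.E6.tbl.datum.simple ([5, 1, 4, 3, 2, 0].getD i 0)) =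
            Data.E6.graph.ρ (Data.E6.tbl.datum.neg (Data.E6.tbl.datum.simple i)) ∧
          Data.E6.graph.ε (Data.E6.tbl.datum.neg (Data.E6.tbl.datum.simple i)) = 1 ∧
          1 = Data.E6.graph.lam (Data.E6.tbl.datum.neg (Data.E6.tbl.datum.simple i))) := by
      decide +kernel
    refine ⟨α, fun g i t hi => ?_⟩
    obtain ⟨⟨a1, a2, a3, a4⟩, ⟨b1, b2, b3, b4⟩⟩ := key i hi
    refine ⟨fun h => ?_, fun h => ?_⟩
    · simpa using hα g _ _ 1 t a1 a2 a3 a4 h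
    · simpa using hα g _ _ 1 t b1 b2 b3 b4 h
  · show ∃ α : ↥(Cfsg.Lie.chevD4.group F) ≃* ↥(Cfsg.Lie.chevD4.group F), _
    rw [← Data.D4.datum_eq]
    obtain ⟨α, hα⟩ := Tbl.exists_graph_aut (F := F) ⟨Data.D4.valid, Data.D4.chkComm, Data.D4.chkSorted,
      Data.D4.chkSplit⟩ (p := 0) (Or.inl rfl) Data.D4.chk_graph Data.D4.chk_graph2 Data.D4.chk_graph_inv
      (fun _ => ⟨0, Or.inr rfl⟩)
    have key : ∀ i < Data.D4.tbl.rank,
        (Data.D4.tbl.datum.simple i < Data.D4.tbl.n ∧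
          Data.D4.tbl.datum.simple ([2, 1, 3, 0].getD i 0) = Data.D4.graph.ρ (Data.D4.tbl.datum.simple i) ∧
          Data.D4.graph.ε (Data.D4.tbl.datum.simple i) = 1 ∧ 1 = Data.D4.graph.lam (Data.D4.tbl.datum.simple i)) ∧
        (Data.D4.tbl.datum.neg (Data.D4.tbl.datum.simple i) < Data.D4.tbl.n ∧
          Data.D4.tbl.datum.neg (Data.D4.tbl.datum.simple ([2, 1, 3, 0].getD i 0)) =
            Data.D4.graph.ρ (Data.D4.tbl.datum.neg (Data.D4.tbl.datum.simple i)) ∧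
          Data.D4.graph.ε (Data.D4.tbl.datum.neg (Data.D4.tbl.datum.simple i)) = 1 ∧
          1 = Data.D4.graph.lam (Data.D4.tbl.datum.neg (Data.D4.tbl.datum.simple i))) := by
      decide +kernel
    refine ⟨α, fun g i t hi => ?_⟩
    obtain ⟨⟨a1, a2, a3, a4⟩, ⟨b1, b2, b3, b4⟩⟩ := key i hi
    refine ⟨fun h => ?_, fun h => ?_⟩
    · simpa using hα g _ _ 1 t a1 a2 a3 a4 h
    · simpa using hα g _ _ 1 t b1 b2 b3 b4 h
  · show ∃ α : ↥(Cfsg.Lie.chevD4.group F) ≃* ↥(Cfsg.Lie.chevD4.group F), _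
    rw [← Data.D4.datum_eq]
    obtain ⟨α, hα⟩ := Tbl.exists_graph_aut (F := F) ⟨Data.D4.valid, Data.D4.chkComm, Data.D4.chkSorted,
      Data.D4.chkSplit⟩ (p := 0) (Or.inl rfl) Data.D4.chk_graph2 Data.D4.chk_graph Data.D4.chk_graph2_inv
      (fun _ => ⟨0, Or.inr rfl⟩)
    have key : ∀ i < Data.D4.tbl.rank,
        (Data.D4.tbl.datum.simple i < Data.D4.tbl.n ∧
          Data.D4.tbl.datum.simple ([3, 1, 0, 2].getD i 0) = Data.D4.graph2.ρ (Data.D4.tbl.datum.simple i) ∧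
          Data.D4.graph2.ε (Data.D4.tbl.datum.simple i) = 1 ∧ 1 = Data.D4.graph2.lam (Data.D4.tbl.datum.simple i)) ∧
        (Data.D4.tbl.datum.neg (Data.D4.tbl.datum.simple i) < Data.D4.tbl.n ∧
          Data.D4.tbl.datum.neg (Data.D4.tbl.datum.simple ([3, 1, 0, 2].getD i 0)) =
            Data.D4.graph2.ρ (Data.D4.tbl.datum.neg (Data.D4.tbl.datum.simple i)) ∧
          Data.D4.graph2.ε (Data.D4.tbl.datum.neg (Data.D4.tbl.datum.simple i)) = 1 ∧
          1 = Data.D4.graph2.lam (Data.D4.tbl.datum.neg (Data.D4.tbl.datum.simple i))) := by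
      decide +kernel
    refine ⟨α, fun g i t hi => ?_⟩
    obtain ⟨⟨a1, a2, a3, a4⟩, ⟨b1, b2, b3, b4⟩⟩ := key i hi
    refine ⟨fun h => ?_, fun h => ?_⟩
    · simpa using hα g _ _ 1 t a1 a2 a3 a4 h
    · simpa using hα g _ _ 1 t b1 b2 b3 b4 h

end Cfsg.Agent.S1081
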