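import Cfsg.Statements.S1087
import Cfsg.Agent.Lib.Chevalley.Twist.InstD4
-- import your own Cfsg.Agent.* helpers here

set_option autoImplicit false
open Cfsg CfsgLib.Chevalley CfsgLib.Chevalley.Twist.D4

namespace Cfsg.Agent.S1087

/-- ³D₄(q) has a (B,N)-pair: B¹ = G¹ ∩ B and N¹ = G¹ ∩ N, intersections with the ambient Chevalley group's B = UH and N. -/
theorem result {K : Type*} [Field K] [Fintype K] {q : ℕ} (hq : IsPrimePow q) (hK : Fintype.card K = q ^ 3) :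
    ∃ P : Cfsg.BNPair ↥(Cfsg.Lie.twistedD4 K q),
      P.B = (Cfsg.Lie.chevD4.borelSubgroup K ⊓ Cfsg.Lie.twistedD4 K q).subgroupOf (Cfsg.Lie.twistedD4 K q) ∧
      P.N = (Cfsg.Lie.chevD4.monomialSubgroup K ⊓ Cfsg.Lie.twistedD4 K q).subgroupOf (Cfsg.Lie.twistedD4 K q) := by
  have hK' : Nat.card K = q ^ 3 := Nat.card_eq_fintype_card.trans hK
  exact transfer hq hK' (fun D G => ∃ P : Cfsg.BNPair ↥G, P.B = (D.borelSubgroup K ⊓ G).subgroupOf G ∧
    P.N = (D.monomialSubgroup K ⊓ G).subgroupOf G) ⟨Tbl.Twist.pair (setup hq hK').hV, rfl, rfl⟩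

end Cfsg.Agent.S1087
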