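import Cfsg.Statements.S1097
import Cfsg.Agent.Lib.Chevalley.TablesSt
-- import your own Cfsg.Agent.* helpers here

set_option autoImplicit false
open Cfsg

namespace Cfsg.Agent.S1097

/-- Any homomorphism from the presented group to the Chevalley group with `x̄_r(t) ↦ x_r(t)` has kernel contained in `H̄ = ⟨h̄_p(t) : p fundamental, t ≠ 0⟩`. -/
theorem result {K : Type*} [Field K] (D : Cfsg.Lie.ChevalleyDatum) (hD : D ∈ [Cfsg.Lie.chevG2, Cfsg.Lie.chevB2, Cfsg.Lie.chevD4, Cfsg.Lie.chevF4, Cfsg.Lie.chevE6, Cfsg.Lie.chevE7, Cfsg.Lie.chevE8]) (θ : D.SteinbergGroup K →* ↥(D.group K))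
    (hθ : ∀ (r : ℕ) (t : K), r < D.nroots → ((θ (D.stGen K r t) : GL D.Idx K) : Matrix D.Idx D.Idx K) = D.x K r t) :
    θ.ker ≤ Subgroup.closure {h | ∃ (i : ℕ) (t : K), i < D.rank ∧ t ≠ 0 ∧ h = PresentedGroup.mk (D.steinbergRels K) (D.stH (D.simple i) t)} := by
  obtain ⟨T, hO, rfl⟩ := CfsgLib.Chevalley.exists_tbl_st hD
  have e : θ = CfsgLib.Chevalley.Tbl.stProj hO := by
    refine PresentedGroup.ext fun p => Subtype.ext ?_
    obtain ⟨⟨r, hr⟩, t⟩ := p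
    have h := hθ r t hr
    rw [Cfsg.Lie.ChevalleyDatum.stGen, Cfsg.Lie.ChevalleyDatum.stX, dif_pos hr] at h
    have h2 := CfsgLib.Chevalley.Tbl.hom_sX hO hr t
    rw [CfsgLib.Chevalley.Tbl.sX, Cfsg.Lie.ChevalleyDatum.stGen, Cfsg.Lie.ChevalleyDatum.stX,
      dif_pos hr] at h2
    exact ((CfsgLib.Chevalley.Tbl.eq_x_iff hO.valid hr t _).mp h).trans h2.symm
  intro k hk
  rw [e, MonoidHom.mem_ker] at hk
  refine (Subgroup.closure_le _).mpr ?_ (CfsgLib.Chevalley.Tbl.ker_le_sDiag hO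
    (MonoidHom.mem_ker.mpr (congrArg Subtype.val hk)))
  rintro _ ⟨i, hi, u, hu, rfl⟩
  refine Subgroup.subset_closure ⟨i, u, hi, hu, ?_⟩
  rw [CfsgLib.Chevalley.Tbl.datum_simple hi, CfsgLib.Chevalley.Tbl.mk_stH hO.valid
    (CfsgLib.Chevalley.Tbl.simple_lt hO.valid hi)]

end Cfsg.Agent.S1097
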