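import Cfsg.Statements.S1098
import Cfsg.Agent.Lib.Chevalley.GraphAut
-- import your own Cfsg.Agent.* helpers here

set_option autoImplicit false
open Cfsg

namespace Cfsg.Agent.S1098

/-- Graph automorphisms in characteristic 2 (K perfect): for B₂ (a short, b long) `x_a(t) ↦ x_b(t²)`, `x_b(t) ↦ x_a(t)`, and for F₄ (p₁, p₂ short, p₃, p₄ long) `x_{p₁}(t) ↦ x_{p₄}(t²)`, `x_{p₂}(t) ↦ x_{p₃}(t²)`, `x_{p₃}(t) ↦ x_{p₂}(t)`, `x_{p₄}(t) ↦ x_{p₁}(t)`, likewise on the negatives, extend to an automorphism of the group. -/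
theorem result {K : Type*} [Field K] [CharP K 2] (hperf : ∀ x : K, ∃ y : K, y ^ 2 = x)
    (p : Cfsg.Lie.ChevalleyDatum × List (ℕ × ℕ))
    (hp : p ∈ [(Cfsg.Lie.chevB2, [(1, 2), (0, 1)]), (Cfsg.Lie.chevF4, [(3, 2), (2, 2), (1, 1), (0, 1)])]) :
    ∃ α : ↥(p.1.group K) ≃* ↥(p.1.group K), ∀ (g : ↥(p.1.group K)) (i : ℕ) (t : K), i < p.1.rank →
      (((g : GL p.1.Idx K) : Matrix p.1.Idx p.1.Idx K) = p.1.x K (p.1.simple i) t →
        ((α g : GL p.1.Idx K) : Matrix p.1.Idx p.1.Idx K) = p.1.x K (p.1.simple (p.2.getD i (0, 1)).1) (t ^ (p.2.getD i (0, 1)).2)) ∧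
      (((g : GL p.1.Idx K) : Matrix p.1.Idx p.1.Idx K) = p.1.x K (p.1.neg (p.1.simple i)) t →
        ((α g : GL p.1.Idx K) : Matrix p.1.Idx p.1.Idx K) = p.1.x K (p.1.neg (p.1.simple (p.2.getD i (0, 1)).1)) (t ^ (p.2.getD i (0, 1)).2)) := by
  simp only [List.mem_cons, List.not_mem_nil, or_false] at hp
  have hper : ∀ x : K, ∃ y : K, y ^ 2 = x ∨ (2 : ℕ) = 0 := fun x => (hperf x).imp fun _ h => Or.inl h
  open CfsgLib.Chevalley in
  rcases hp with rfl | rfl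
  · show ∃ α : ↥(Cfsg.Lie.chevB2.group K) ≃* ↥(Cfsg.Lie.chevB2.group K), _
    rw [← Data.B2.datum_eq]
    obtain ⟨α, hα⟩ := Tbl.exists_graph_aut (F := K) ⟨Data.B2.valid, Data.B2.chkComm, Data.B2.chkSorted,
      Data.B2.chkSplit⟩ (p := 2) (Or.inr ⟨Nat.prime_two, inferInstance⟩) Data.B2.chk_graph
      Data.B2.chk_graph Data.B2.chk_graph_inv hper
    have key : ∀ i < Data.B2.tbl.rank,
        (Data.B2.tbl.datum.simple i < Data.B2.tbl.n ∧
          Data.B2.tbl.datum.simple ([(1, 2), (0, 1)].getD i (0, 1)).1 = Data.B2.graph.ρ (Data.B2.tbl.datum.simple i) ∧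
          Data.B2.graph.ε (Data.B2.tbl.datum.simple i) = 1 ∧
          ([(1, 2), (0, 1)].getD i (0, 1)).2 = Data.B2.graph.lam (Data.B2.tbl.datum.simple i)) ∧
        (Data.B2.tbl.datum.neg (Data.B2.tbl.datum.simple i) < Data.B2.tbl.n ∧
          Data.B2.tbl.datum.neg (Data.B2.tbl.datum.simple ([(1, 2), (0, 1)].getD i (0, 1)).1) =
            Data.B2.graph.ρ (Data.B2.tbl.datum.neg (Data.B2.tbl.datum.simple i)) ∧
          Data.B2.graph.ε (Data.B2.tbl.datum.neg (Data.B2.tbl.datum.simple i)) = 1 ∧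
          ([(1, 2), (0, 1)].getD i (0, 1)).2 =
            Data.B2.graph.lam (Data.B2.tbl.datum.neg (Data.B2.tbl.datum.simple i))) := by
      decide +kernel
    refine ⟨α, fun g i t hi => ?_⟩
    obtain ⟨⟨a1, a2, a3, a4⟩, ⟨b1, b2, b3, b4⟩⟩ := key i hi
    exact ⟨fun h => hα g _ _ _ t a1 a2 a3 a4 h, fun h => hα g _ _ _ t b1 b2 b3 b4 h⟩
  · show ∃ α : ↥(Cfsg.Lie.chevF4.group K) ≃* ↥(Cfsg.Lie.chevF4.group K), _
    rw [← Data.F4.datum_eq]
    obtain ⟨α, hα⟩ := Tbl.exists_graph_aut (F := K) ⟨Data.F4.valid, Data.F4.chkComm, Data.F4.chkSorted,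
      Data.F4.chkSplit⟩ (p := 2) (Or.inr ⟨Nat.prime_two, inferInstance⟩) Data.F4.chk_graph
      Data.F4.chk_graph Data.F4.chk_graph_inv hper
    have key : ∀ i < Data.F4.tbl.rank,
        (Data.F4.tbl.datum.simple i < Data.F4.tbl.n ∧
          Data.F4.tbl.datum.simple ([(3, 2), (2, 2), (1, 1), (0, 1)].getD i (0, 1)).1 = Data.F4.graph.ρ (Data.F4.tbl.datum.simple i) ∧
          Data.F4.graph.ε (Data.F4.tbl.datum.simple i) = 1 ∧
          ([(3, 2), (2, 2), (1, 1), (0, 1)].getD i (0, 1)).2 = Data.F4.graph.lam (Data.F4.tbl.datum.simple i)) ∧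
        (Data.F4.tbl.datum.neg (Data.F4.tbl.datum.simple i) < Data.F4.tbl.n ∧
          Data.F4.tbl.datum.neg (Data.F4.tbl.datum.simple ([(3, 2), (2, 2), (1, 1), (0, 1)].getD i (0, 1)).1) =
            Data.F4.graph.ρ (Data.F4.tbl.datum.neg (Data.F4.tbl.datum.simple i)) ∧
          Data.F4.graph.ε (Data.F4.tbl.datum.neg (Data.F4.tbl.datum.simple i)) = 1 ∧
          ([(3, 2), (2, 2), (1, 1), (0, 1)].getD i (0, 1)).2 =
            Data.F4.graph.lam (Data.F4.tbl.datum.neg (Data.F4.tbl.datum.simple i))) := by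
      decide +kernel
    refine ⟨α, fun g i t hi => ?_⟩
    obtain ⟨⟨a1, a2, a3, a4⟩, ⟨b1, b2, b3, b4⟩⟩ := key i hi
    exact ⟨fun h => hα g _ _ _ t a1 a2 a3 a4 h, fun h => hα g _ _ _ t b1 b2 b3 b4 h⟩

end Cfsg.Agent.S1098
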