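import Cfsg.Statements.S1101
import Cfsg.Agent.Lib.Chevalley.Twist.InstG2
-- import your own Cfsg.Agent.* helpers here

set_option autoImplicit false
open Cfsg CfsgLib.Chevalley CfsgLib.Chevalley.Twist.G2

namespace Cfsg.Agent.S1101

/-- For ²G₂ over `K` with `|K| = 3^(2m+1)`, `θ = 3^m`: `U¹ = G¹ ∩ U` consists exactly of the elements `x_a(t^θ) x_b(t) x_{a+b}(t^{θ+1}+u^θ) x_{2a+b}(t^{2θ+1}+v^θ) x_{3a+b}(u) x_{3a+2b}(v)`, `t, u, v ∈ K`, and it has `|K|³` elements. -/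
theorem result {K : Type*} [Field K] [Fintype K] {m : ℕ} (hK : Fintype.card K = 3 ^ (2 * m + 1)) :
    (∀ g : GL Cfsg.Lie.chevG2.Idx K, g ∈ Cfsg.Lie.chevG2.posUnipotent K ⊓ Cfsg.Lie.twistedG2 K (3 ^ m) ↔
      ∃ t u v : K, (g : Matrix Cfsg.Lie.chevG2.Idx Cfsg.Lie.chevG2.Idx K) = Cfsg.Lie.chevG2.wordMat K (Cfsg.Lie.reeWordU (3 ^ m) t u v)) ∧
    Nat.card ↥(Cfsg.Lie.chevG2.posUnipotent K ⊓ Cfsg.Lie.twistedG2 K (3 ^ m)) = (3 ^ (2 * m + 1)) ^ 3 := by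
  have hK' : Nat.card K = 3 ^ (2 * m + 1) := Nat.card_eq_fintype_card.trans hK
  refine transfer hK' (fun D G => (∀ g : GL D.Idx K, g ∈ D.posUnipotent K ⊓ G ↔
    ∃ t u v : K, (g : Matrix D.Idx D.Idx K) = D.wordMat K (Cfsg.Lie.reeWordU (3 ^ m) t u v)) ∧
    Nat.card ↥(D.posUnipotent K ⊓ G) = (3 ^ (2 * m + 1)) ^ 3) ⟨fun g => ?_, card_Upos hK'⟩
  rw [pos_eq_Uw hK']
  constructor
  · intro hg
    obtain ⟨t, u, v, rfl⟩ := exists_ree hK' hg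
    refine ⟨t, u, v, ?_⟩
    rw [← word_eq hK' t u v, Tbl.gprod_wordMat Data.G2.valid (word_lt _ t u v)]
  · rintro ⟨t, u, v, e⟩
    rw [Tbl.gprod_wordMat Data.G2.valid (word_lt _ t u v)] at e
    rw [Units.ext e, word_eq hK']
    exact ree_mem_Uw hK' t u v

end Cfsg.Agent.S1101
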