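import Cfsg.Statements.S1106
import Cfsg.Agent.Lib.Chevalley.Twist.InstD4
-- import your own Cfsg.Agent.* helpers here

set_option autoImplicit false
open Cfsg CfsgLib.Chevalley CfsgLib.Chevalley.Twist.D4

namespace Cfsg.Agent.S1106

/-- `|H¹| = |G¹ ∩ H|`: `|H¹| = (q - 1) ^ 2 * (q ^ 2 + q + 1)` for ³D₄(q). -/
theorem result {K : Type*} [Field K] [Fintype K] {q : ℕ} (hq : IsPrimePow q) (hK : Fintype.card K = q ^ 3) :
    Nat.card ↥(Cfsg.Lie.chevD4.diagonalSubgroup K ⊓ Cfsg.Lie.twistedD4 K q) = (q - 1) ^ 2 * (q ^ 2 + q + 1) := by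
  have hK' : Nat.card K = q ^ 3 := Nat.card_eq_fintype_card.trans hK
  refine transfer hq hK' (fun D G => Nat.card ↥(D.diagonalSubgroup K ⊓ G) = _) ?_
  rw [card_diag hq hK']
  have h1 : 1 ≤ q ^ 3 := Nat.one_le_pow _ _ (one_le hq)
  have h2 : 1 ≤ q := one_le hq
  apply Nat.cast_injective (R := ℤ)
  push_cast [h1, h2]
  ring

end Cfsg.Agent.S1106
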