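import Cfsg.Statements.S1107
import Cfsg.Agent.Lib.Chevalley.Twist.InstD4
-- import your own Cfsg.Agent.* helpers here

set_option autoImplicit false
open Cfsg CfsgLib.Chevalley CfsgLib.Chevalley.Twist.D4

namespace Cfsg.Agent.S1107

/-- `N¹/H¹ ≅ W¹`: a surjective homomorphism from `N¹ = G¹ ∩ N` onto the Coxeter group of type G₂ (dihedral of order 12) with kernel `H¹`. -/
theorem result {K : Type*} [Field K] [Fintype K] {q : ℕ} (hq : IsPrimePow q) (hK : Fintype.card K = q ^ 3) :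
    ∃ φ : ↥(Cfsg.Lie.chevD4.monomialSubgroup K ⊓ Cfsg.Lie.twistedD4 K q) →* (CoxeterMatrix.G₂).Group, Function.Surjective φ ∧
      φ.ker = (Cfsg.Lie.chevD4.diagonalSubgroup K ⊓ Cfsg.Lie.twistedD4 K q).subgroupOf (Cfsg.Lie.chevD4.monomialSubgroup K ⊓ Cfsg.Lie.twistedD4 K q) := by
  have hK' : Nat.card K = q ^ 3 := Nat.card_eq_fintype_card.trans hK
  exact transfer hq hK' (fun D G => ∃ φ : ↥(D.monomialSubgroup K ⊓ G) →* CoxeterMatrix.G₂.Group,
    Function.Surjective φ ∧ φ.ker = (D.diagonalSubgroup K ⊓ G).subgroupOf (D.monomialSubgroup K ⊓ G))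
    (weylHom hq hK')

end Cfsg.Agent.S1107
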