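import Cfsg.Statements.S1108
import Cfsg.Agent.Lib.Chevalley.Twist.InstD4
-- import your own Cfsg.Agent.* helpers here

set_option autoImplicit false
open Cfsg CfsgLib.Chevalley CfsgLib.Chevalley.Twist.D4

namespace Cfsg.Agent.S1108

/-- ³D₄(q) equals its derived subgroup. -/
theorem result {K : Type*} [Field K] [Fintype K] {q : ℕ} (hq : IsPrimePow q) (hK : Fintype.card K = q ^ 3) : commutator ↥(Cfsg.Lie.twistedD4 K q) = ⊤ := by
  have hK' : Nat.card K = q ^ 3 := Nat.card_eq_fintype_card.trans hK
  refine transfer hq hK' (fun _ G => commutator ↥G = ⊤) ?_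
  rw [← G_eq hq hK']
  exact perfect hq hK'

end Cfsg.Agent.S1108
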