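import Cfsg.Statements.S1118
import Cfsg.Agent.Lib.RankOne.Basic

set_option autoImplicit false
open Cfsg

namespace Cfsg.Agent.S1118

/-- In the rank-one set-up (`G` finite and doubly transitive on `Ω`, `t` an involution moving `a`, `Q` normal in `G_a` with `G_a = Q D`, `Q ⊓ D = 1` for the two-point stabiliser `D = G_a ⊓ G_{t • a}`, `|Q|` even, `|D|` odd), the normaliser of a subset of `Q` containing a non-identity element lies in `G_a`; consequently `N_G(Q) = N_G(G_a) = G_a`. -/
theorem result {G Ω : Type*} [Group G] [Finite G] [MulAction G Ω] {a : Ω} {t : G} {Q : Subgroup G}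
    (hS : Cfsg.IsRankOneSetup G Ω a t Q) :
    (∀ X : Set G, X ⊆ (Q : Set G) → (∃ x ∈ X, x ≠ 1) → Subgroup.normalizer X ≤ MulAction.stabilizer G a) ∧
      Subgroup.normalizer (Q : Set G) = MulAction.stabilizer G a ∧
      Subgroup.normalizer (MulAction.stabilizer G a : Set G) = MulAction.stabilizer G a := by
  have key : ∀ g x : G, x ∈ Q → x ≠ 1 → g * x * g⁻¹ ∈ MulAction.stabilizer G a →
      g ∈ MulAction.stabilizer G a := by
    intro g x hx hx1 h
    by_contra hg
    have hne : g⁻¹ • a ≠ a := fun e => hg ((inv_mem_iff).mp (e : g⁻¹ ∈ MulAction.stabilizer G a))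
    refine hx1 (CfsgLib.RankOne.eq_one_of_fix hS hx hne ?_)
    have h' : (g * x * g⁻¹) • a = a := h
    rw [mul_smul, mul_smul, smul_eq_iff_eq_inv_smul] at h'
    exact h'
  obtain ⟨q, hq, hq1⟩ := CfsgLib.RankOne.q_nontrivial hS
  have hQ : ∀ X : Set G, X ⊆ (Q : Set G) → (∃ x ∈ X, x ≠ 1) →
      Subgroup.normalizer X ≤ MulAction.stabilizer G a := by
    rintro X hX ⟨x, hx, hx1⟩ g hg
    exact key g x (hX hx) hx1 (hS.le (hX (((Subgroup.mem_set_normalizer_iff.mp hg) x).mp hx)))
  refine ⟨hQ, le_antisymm (hQ _ subset_rfl ⟨q, hq, hq1⟩) fun g hg => ?_, le_antisymm (fun g hg => ?_) Subgroup.le_normalizer⟩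
  · refine Subgroup.mem_normalizer_iff.mpr fun x => ⟨hS.conj_mem g hg x, fun hx => ?_⟩
    have := CfsgLib.RankOne.conj_mem' hS hg hx
    simpa [mul_assoc] using this
  · exact key g q hq hq1 ((Subgroup.mem_normalizer_iff.mp hg q).mp (hS.le hq))

end Cfsg.Agent.S1118
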