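import Cfsg.Statements.S1151
import Cfsg.Agent.Lib.Chevalley.Twist.G2Action
-- import your own Cfsg.Agent.* helpers here

set_option autoImplicit false
open Cfsg CfsgLib.Chevalley CfsgLib.Chevalley.Twist.G2

namespace Cfsg.Agent.S1151

/-- In the small Ree group ²G₂(q), q = 3^(2m+1), realised as G¹ inside the Chevalley group G₂ over the field with q elements (θ the 3^m-th power map), with H¹ = G¹ ∩ H and U¹ = G¹ ∩ U the intersections with the ambient diagonal and positive unipotent subgroups: `H¹` has exactly `(q - 1)/2` elements of odd order, and each non-identity one centralises no non-identity element of `U¹`. -/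
theorem result {K : Type*} [Field K] [Fintype K] {m : ℕ} (hK : Fintype.card K = 3 ^ (2 * m + 1)) :
    2 * Nat.card {h : ↥(Cfsg.Lie.chevG2.diagonalSubgroup K ⊓ Cfsg.Lie.twistedG2 K (3 ^ m)) // Odd (orderOf h)} = 3 ^ (2 * m + 1) - 1 ∧
      ∀ h ∈ (Cfsg.Lie.chevG2.diagonalSubgroup K ⊓ Cfsg.Lie.twistedG2 K (3 ^ m)), h ≠ 1 → Odd (orderOf h) →
        (Cfsg.Lie.chevG2.posUnipotent K ⊓ Cfsg.Lie.twistedG2 K (3 ^ m)) ⊓ Subgroup.centralizer {h} = ⊥ := by
  have hK' : Nat.card K = 3 ^ (2 * m + 1) := Nat.card_eq_fintype_card.trans hK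
  refine transfer hK' (fun D G => 2 * Nat.card {h : ↥(D.diagonalSubgroup K ⊓ G) // Odd (orderOf h)} = _ ∧
    ∀ h ∈ (D.diagonalSubgroup K ⊓ G), h ≠ 1 → Odd (orderOf h) →
      (D.posUnipotent K ⊓ G) ⊓ Subgroup.centralizer {h} = ⊥) ⟨?_, ?_⟩
  · obtain ⟨k, hk⟩ := half_card m
    have hu : Nat.card Kˣ = 2 * (2 * k + 1) := by rw [Nat.card_units, hK', hk]
    let e : ↥(powMonoidHom (α := Kˣ) (2 * k + 1)).ker →
        {h : ↥((Data.G2.tbl).datum.diagonalSubgroup K ⊓ (S hK').fix) // Odd (orderOf h)} := fun c =>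
      ⟨⟨hd hK' c.1, hd_mem hK' c.1⟩, by
        rw [← orderOf_injective (Subgroup.subtype _) Subtype.val_injective]
        show Odd (orderOf (hd hK' c.1))
        rw [orderOf_hd]
        exact Odd.of_dvd_nat ⟨k, rfl⟩ (orderOf_dvd_of_pow_eq_one c.2)⟩
    have he : Function.Bijective e := by
      refine ⟨fun a b h => Subtype.ext (hd_inj hK' (congrArg (fun z => z.1.1) h)), ?_⟩
      rintro ⟨⟨x, hx⟩, ho⟩
      obtain ⟨c, rfl⟩ := exists_hd hK' hx
      refine ⟨⟨c, ?_⟩, rfl⟩
      rw [← orderOf_injective (Subgroup.subtype _) Subtype.val_injective] at ho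
      change Odd (orderOf (hd hK' c)) at ho
      rw [orderOf_hd] at ho
      have h1 : orderOf c ∣ 2 * (2 * k + 1) := hu ▸ orderOf_dvd_natCard c
      exact orderOf_dvd_iff_pow_eq_one.mp ((Nat.Coprime.dvd_mul_left ho.coprime_two_right).mp h1)
    rw [← Nat.card_eq_of_bijective e he, IsCyclic.card_powMonoidHom_ker, hu, hk,
      Nat.gcd_eq_right (dvd_mul_left _ _)]
  · intro h hh hne hodd
    obtain ⟨c, rfl⟩ := exists_hd hK' hh
    rw [orderOf_hd] at hodd
    have hc : c * c ≠ 1 := fun e => hne (by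
      rw [← pow_two] at e
      have h1 : orderOf c = 1 :=
        Nat.eq_one_of_dvd_coprimes hodd.coprime_two_right dvd_rfl (orderOf_dvd_of_pow_eq_one e)
      rw [orderOf_eq_one_iff.mp h1, map_one])
    rw [eq_bot_iff]
    rintro x ⟨hx, hxc⟩
    obtain ⟨t, u, v, rfl⟩ := exists_pos hK' hx
    refine Subgroup.mem_bot.mpr (fpf hK' hc ?_)
    have hcomm := Subgroup.mem_centralizer_iff.mp hxc _ rfl
    rw [hcomm, mul_inv_cancel_right]

end Cfsg.Agent.S1151
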