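import Cfsg.Statements.S1154
import Cfsg.Agent.Lib.Chevalley.Twist.G2Action
-- import your own Cfsg.Agent.* helpers here

set_option autoImplicit false
open Cfsg CfsgLib.Chevalley CfsgLib.Chevalley.Twist.G2

namespace Cfsg.Agent.S1154

/-- In the small Ree group ²G₂(q), q = 3^(2m+1) with m ≥ 1, realised as G¹ inside the Chevalley group G₂ over the field with q elements (θ the 3^m-th power map), with `U¹ = G¹ ∩ U` (U the positive unipotent subgroup of the ambient G₂): `U¹` has exactly `q² - 1` elements of order 3. -/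
theorem result {K : Type*} [Field K] [Fintype K] {m : ℕ} (hm : 1 ≤ m) (hK : Fintype.card K = 3 ^ (2 * m + 1)) :
    Nat.card {u : ↥(Cfsg.Lie.chevG2.posUnipotent K ⊓ Cfsg.Lie.twistedG2 K (3 ^ m)) // orderOf u = 3} = (3 ^ (2 * m + 1)) ^ 2 - 1 := by
  have hK' : Nat.card K = 3 ^ (2 * m + 1) := Nat.card_eq_fintype_card.trans hK
  refine transfer hK' (fun D G => Nat.card {u : ↥(D.posUnipotent K ⊓ G) // orderOf u = 3} = _) ?_
  have : Fact (Nat.Prime 3) := ⟨Nat.prime_three⟩
  let e : {p : K × K // p ≠ 0} →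
      {u : ↥((Data.G2.tbl).datum.posUnipotent K ⊓ (S hK').fix) // orderOf u = 3} := fun p =>
    ⟨⟨ree m 0 p.1.1 p.1.2, ree_mem_pos hK' _ _ _⟩, orderOf_eq_prime
      (Subtype.ext (by simpa using (ree_cube hK' 0 p.1.1 p.1.2).mpr rfl)) fun h => p.2 (by
        have h2 := congrArg Subtype.val h
        simp only [OneMemClass.coe_one, ← ree0_one hK'] at h2
        obtain ⟨-, h3, h4⟩ := ree_inj hK' h2
        exact Prod.ext h3 h4)⟩
  have he : Function.Bijective e := by
    refine ⟨fun a b h => ?_, ?_⟩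
    · obtain ⟨-, h3, h4⟩ := ree_inj hK' (congrArg (fun z => z.1.1) h)
      exact Subtype.ext (Prod.ext h3 h4)
    · rintro ⟨⟨x, hx⟩, ho⟩
      obtain ⟨t, u, v, rfl⟩ := exists_pos hK' hx
      have h3 := pow_orderOf_eq_one (⟨ree m t u v, hx⟩ : ↥((Data.G2.tbl).datum.posUnipotent K ⊓ (S hK').fix))
      rw [ho] at h3
      obtain rfl := (ree_cube hK' t u v).mp (by simpa using congrArg Subtype.val h3)
      refine ⟨⟨(u, v), fun e => ?_⟩, rfl⟩
      obtain ⟨rfl, rfl⟩ := Prod.mk.inj e
      rw [orderOf_eq_one_iff.mpr (Subtype.ext (ree0_one hK'))] at ho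
      omega
  rw [← Nat.card_eq_of_bijective e he]
  classical
  have : Fintype K := Fintype.ofFinite K
  rw [Nat.card_eq_fintype_card, Fintype.card_subtype_compl, Fintype.card_subtype_eq, Fintype.card_prod,
    ← Nat.card_eq_fintype_card, hK', pow_two]

end Cfsg.Agent.S1154
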