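import Cfsg.Statements.S1155
import Cfsg.Agent.Lib.Chevalley.Twist.G2Action
-- import your own Cfsg.Agent.* helpers here

set_option autoImplicit false
open Cfsg CfsgLib.Chevalley CfsgLib.Chevalley.Twist.G2

namespace Cfsg.Agent.S1155

/-- In the small Ree group ²G₂(q), q = 3^(2m+1) with m ≥ 1, realised as G¹ inside the Chevalley group G₂ over the field with q elements (θ the 3^m-th power map): distinct Sylow 3-subgroups of `G¹` meet trivially. -/
theorem result {K : Type*} [Field K] [Fintype K] {m : ℕ} (hm : 1 ≤ m) (hK : Fintype.card K = 3 ^ (2 * m + 1))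
    (P Q : Sylow 3 ↥(Cfsg.Lie.twistedG2 K (3 ^ m))) (hPQ : P ≠ Q) : (P : Subgroup ↥(Cfsg.Lie.twistedG2 K (3 ^ m))) ⊓ (Q : Subgroup ↥(Cfsg.Lie.twistedG2 K (3 ^ m))) = ⊥ := by
  have hK' : Nat.card K = 3 ^ (2 * m + 1) := Nat.card_eq_fintype_card.trans hK
  have : Fact (Nat.Prime 3) := ⟨Nat.prime_three⟩
  revert P Q
  refine transfer hK' (fun _ G => ∀ P Q : Sylow 3 ↥G, P ≠ Q → (P : Subgroup ↥G) ⊓ (Q : Subgroup ↥G) = ⊥) ?_
  set G := (S hK').fix
  set U := ((Data.G2.tbl).datum.posUnipotent K ⊓ G).subgroupOf G with hU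
  have hcU : Nat.card ↥U = 3 ^ (3 * (2 * m + 1)) := by
    rw [Nat.card_congr (Subgroup.subgroupOfEquivOfLe inf_le_right).toEquiv, card_Upos hK', ← pow_mul]
    ring_nf
  have hcG : Nat.card ↥G = 3 ^ (3 * (2 * m + 1)) * ((3 ^ (2 * m + 1) - 1) * ((3 ^ (2 * m + 1)) ^ 3 + 1)) := by
    have h := card_eq hK'
    rw [grp_eq_fix hK', mul_assoc, ← pow_mul, mul_comm (2 * m + 1) 3] at h
    rw [show Nat.card ↥G = _ from h, ← pow_mul, mul_comm (2 * m + 1) 3]
  have hfac : (Nat.card ↥G).factorization 3 = 3 * (2 * m + 1) := by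
    have h1 : 1 < 3 ^ (2 * m + 1) := Nat.one_lt_pow (by omega) (by norm_num)
    have h3 : 3 ∣ 3 ^ (2 * m + 1) := dvd_pow_self 3 (by omega)
    have hn : ¬ 3 ∣ (3 ^ (2 * m + 1) - 1) * ((3 ^ (2 * m + 1)) ^ 3 + 1) := by
      rw [Nat.prime_three.dvd_mul]
      rintro (h | h)
      · have := Nat.dvd_sub h3 h
        rw [show 3 ^ (2 * m + 1) - (3 ^ (2 * m + 1) - 1) = 1 by omega] at this
        exact absurd this (by norm_num)
      · exact absurd ((Nat.dvd_add_right (dvd_pow h3 (by norm_num))).mp h) (by norm_num)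
    rw [hcG, Nat.factorization_mul (by positivity) (fun h => hn (by rw [h]; exact dvd_zero 3))]
    simp [Nat.prime_three, Nat.factorization_eq_zero_of_not_dvd hn]
  let P0 : Sylow 3 ↥G := Sylow.ofCard U (by rw [hcU, hfac])
  intro P Q hPQ
  obtain ⟨x, rfl⟩ := MulAction.exists_smul_eq ↥G P0 P
  obtain ⟨y, rfl⟩ := MulAction.exists_smul_eq ↥G P0 Q
  rw [eq_bot_iff]
  rintro _ ⟨⟨a, ha, rfl⟩, b, hb, e⟩
  rw [Subgroup.mem_bot]
  by_contra hne
  apply hPQ
  have hg : ∀ g : ↥G, ∀ z ∈ U, (g : GL _ K) ∈ (Data.G2.tbl).datum.borelSubgroup K → g * z * g⁻¹ ∈ U := by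
    intro g z hz hgB
    rw [hU, Subgroup.mem_subgroupOf] at hz ⊢
    exact ⟨borel_normalizes hgB hz.1, (g * z * g⁻¹).2⟩
  simp only [MulDistribMulAction.toMonoidEnd_apply, MulDistribMulAction.toMonoidHom_apply, MulAut.smul_def,
    MulAut.conj_apply] at e hne
  have hyx : ((y⁻¹ * x : ↥G) : GL _ K) ∈ (Data.G2.tbl).datum.borelSubgroup K := by
    have hb2 : b = y⁻¹ * x * a * (y⁻¹ * x)⁻¹ := by
      rw [show y⁻¹ * x * a * (y⁻¹ * x)⁻¹ = y⁻¹ * (x * a * x⁻¹) * y by group, ← e]; group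
    refine ti hK' (y⁻¹ * x).2 (x := (a : GL _ K)) ha.1 (fun h => hne ?_) ?_
    · rw [show a = 1 from Subtype.ext h]; group
    · have := (show b ∈ U from hb).1
      rw [hb2] at this
      simpa [mul_assoc] using this
  have hst : (y⁻¹ * x) • P0 = P0 := by
    refine Sylow.ext (Subgroup.eq_of_le_of_card_ge ?_ (le_of_eq ?_))
    · rintro _ ⟨z, hz, rfl⟩
      exact hg _ z hz hyx
    · exact Nat.card_congr (Sylow.equiv P0 ((y⁻¹ * x) • P0)).toEquiv
  rw [mul_smul] at hst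
  exact (inv_smul_eq_iff.mp hst)

end Cfsg.Agent.S1155
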