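import Cfsg.Statements.S1162
import Cfsg.Agent.Lib.KnownB.SuzukiSylow

set_option autoImplicit false
open Cfsg CfsgLib.KnownB.Suzuki CfsgLib.KnownB.SzElem

namespace Cfsg.Agent.S1162

/-- For the Suzuki group Sz(q), q = 2^(2m+1) ≥ 8, realised as the elements g of Sp₄(F) with g* = g^θ (θ the 2^(m+1)-th power map, so that θ² is squaring): `Sz(q)` is a simple group. -/
theorem result {F : Type*} [Field F] [Fintype F] {m : ℕ} (hm : 1 ≤ m) (hF : Fintype.card F = 2 ^ (2 * m + 1)) :
    IsSimpleGroup ↥(Cfsg.Lie.Sz F (2 ^ (m + 1))) := by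
  have he := twist_of_card hF
  have hq : ∃ u : Fˣ, u ≠ 1 := by
    classical
    have h8 : 3 ≤ Fintype.card F := by
      rw [hF]; calc 3 ≤ 2 ^ 3 := by norm_num
        _ ≤ 2 ^ (2 * m + 1) := Nat.pow_le_pow_right two_pos (by omega)
    have : Nontrivial Fˣ := Fintype.one_lt_card_iff_nontrivial.1 (by rw [Fintype.card_units]; omega)
    exact exists_ne 1
  exact isSimpleGroup he hq

end Cfsg.Agent.S1162
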