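import Cfsg.Statements.S1167
import Cfsg.Agent.Lib.Perm.ZGroup.Index
-- import your own Cfsg.Agent.* helpers here

set_option autoImplicit false
open Cfsg

namespace Cfsg.Agent.S1167

/-- Let `G` be a finite simple Zassenhaus group on `Ω`, `U` a normal subgroup of `G_a` regular on `Ω` minus `a` which is an abelian 2-group, and `v` an involution with `v • a ≠ a`. Then there is a unique `u₀ ∈ U`, `u₀ ≠ 1`, with `v u₀ v = u₀ v u₀`. -/
theorem result {G Ω : Type*} [Group G] [Finite G] [MulAction G Ω] [Finite Ω]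
    (hZ : Cfsg.IsZassenhausGroup G Ω) [IsSimpleGroup G] {a : Ω}
    (U : Subgroup G) (hUle : U ≤ MulAction.stabilizer G a)
    (hUn : ∀ h ∈ MulAction.stabilizer G a, ∀ u ∈ U, h * u * h⁻¹ ∈ U)
    (hreg : ∀ c d : Ω, c ≠ a → d ≠ a → ∃! u : U, (u : G) • c = d)
    (hU2 : IsPGroup 2 U) (hUab : ∀ u ∈ U, ∀ u' ∈ U, u * u' = u' * u)
    (v : G) (hv1 : v ≠ 1) (hv2 : v * v = 1) (hva : v • a ≠ a) :
    ∃! u₀ : G, u₀ ∈ U ∧ u₀ ≠ 1 ∧ v * u₀ * v = u₀ * v * u₀ := by
  classical
  letI := Fintype.ofFinite Ω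
  set b := v • a with hb
  have hvb : v • b = a := by rw [hb, smul_smul, hv2, one_smul]
  have hvinv : v⁻¹ = v := inv_eq_of_mul_eq_one_right hv2
  let S : CfsgLib.Perm.ZGroup.Setup G Ω a b :=
    { hZ := hZ, hab := Ne.symm hva, F := U, hle := hUle
      hnorm := ⟨fun u hu g => hUn g g.2 _ hu⟩
      hreg := hreg }
  have hfab : IsMulCommutative S.F := ⟨⟨fun x y => Subtype.ext (hUab x x.2 y y.2)⟩⟩
  have hFeven : 2 ∣ Nat.card S.F := by
    obtain ⟨k, hk⟩ := hU2.exists_card_eq
    have h2 := S.two_le_F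
    have hk' : Nat.card S.F = 2 ^ k := hk
    rcases k with _ | k
    · rw [pow_zero] at hk'; omega
    · rw [hk']; exact dvd_pow_self 2 k.succ_ne_zero
  have hH : Nat.card S.H = Nat.card S.F - 1 := by
    have h2 := S.two_le_F
    rcases CfsgLib.Perm.ZGroup.small_index _ S hfab rfl with h | h
    · exact h
    · omega
  -- `U` is elementary abelian
  have hsq : ∀ u ∈ U, u * u = 1 := by
    obtain ⟨w, hw⟩ : ∃ w : S.F, orderOf w = 2 := by
      haveI : Fact (Nat.Prime 2) := ⟨Nat.prime_two⟩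
      exact exists_prime_orderOf_dvd_card' 2 hFeven
    have hw1 : w ≠ 1 := fun e => by rw [e, orderOf_one] at hw; omega
    have hww : (w : G) * w = 1 := by
      have h := pow_orderOf_eq_one w
      rw [hw, pow_two] at h
      exact congrArg Subtype.val h
    let φ : S.H → {u : S.F // u ≠ 1} := fun h => ⟨⟨(h : G) * w * (h : G)⁻¹, S.F_conj h.2.1 w.2⟩,
      fun e => hw1 (Subtype.ext (conj_eq_one_iff.1 (congrArg Subtype.val e)))⟩
    have hφ : Function.Injective φ := fun h k e => by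
      have e' : (h : G) * w * (h : G)⁻¹ = k * w * (k : G)⁻¹ :=
        congrArg (fun u : {u : S.F // u ≠ 1} => ((u : S.F) : G)) e
      have h1 : (k : G)⁻¹ * h = 1 := S.eq_one_of_conj_eq (mul_mem (S.H.inv_mem k.2) h.2) w.2
        (fun e => hw1 (Subtype.ext e)) (by
          calc (k : G)⁻¹ * h * w * ((k : G)⁻¹ * h)⁻¹ = (k : G)⁻¹ * (h * w * (h : G)⁻¹) * k := by group
            _ = (k : G)⁻¹ * (k * w * (k : G)⁻¹) * k := by rw [e']
            _ = w := by group)
      exact Subtype.ext (inv_mul_eq_one.1 h1).symm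
    have hb' : Function.Bijective φ := (Nat.bijective_iff_injective_and_card φ).2 ⟨hφ, by
      letI := Fintype.ofFinite S.F
      rw [Nat.card_eq_fintype_card (α := {u : S.F // u ≠ 1}), Fintype.card_subtype_compl, Fintype.card_subtype_eq,
        ← Nat.card_eq_fintype_card, hH]⟩
    intro u hu
    by_cases hu1 : u = 1
    · rw [hu1, one_mul]
    obtain ⟨h, hh⟩ := hb'.2 ⟨⟨u, hu⟩, fun e => hu1 (congrArg Subtype.val e)⟩
    have e : (h : G) * w * (h : G)⁻¹ = u :=
      congrArg (fun u : {u : S.F // u ≠ 1} => ((u : S.F) : G)) hh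
    rw [← e]
    calc (h : G) * w * (h : G)⁻¹ * ((h : G) * w * (h : G)⁻¹) = h * (w * w) * (h : G)⁻¹ := by group
      _ = 1 := by rw [hww]; group
  -- `v` has exactly one fixed point
  have hodd : Odd (Fintype.card Ω) := by
    rw [← S.card_F]; obtain ⟨k, hk⟩ := hFeven; exact ⟨k, by omega⟩
  haveI : Fact (Nat.Prime 2) := ⟨Nat.prime_two⟩
  obtain ⟨w, hw⟩ := Equiv.Perm.exists_fixed_point_of_prime (p := 2) (n := 1)
    (α := Ω) (by obtain ⟨k, hk⟩ := hodd; omega) (σ := MulAction.toPerm v) (by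
      ext x; simp [pow_succ, smul_smul, hv2])
  have hw' : v • w = w := hw
  have huniq : ∀ y : Ω, v • y = y → y = w := by
    intro y hy
    by_contra hne
    obtain ⟨k, hk1, hk2⟩ := S.pair hne S.hab
    have hmem : k * v * k⁻¹ ∈ S.H := by
      constructor
      · show (k * v * k⁻¹) • a = a
        rw [← hk1, smul_smul, inv_mul_cancel_right, mul_smul, hy]
      · show (k * v * k⁻¹) • b = b
        rw [← hk2, smul_smul, inv_mul_cancel_right, mul_smul, hw']
    have h2 : orderOf (k * v * k⁻¹) = 2 := by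
      refine orderOf_eq_prime ?_ fun e => hv1 (conj_eq_one_iff.1 e)
      rw [pow_two]
      calc k * v * k⁻¹ * (k * v * k⁻¹) = k * (v * v) * k⁻¹ := by group
        _ = 1 := by rw [hv2]; group
    have h3 := Subgroup.orderOf_dvd_natCard _ hmem
    rw [h2, hH] at h3
    have h4 := S.two_le_F
    omega
  have hwa : w ≠ a := by
    intro e
    rw [e] at hw'
    exact hva (hb.trans hw')
  have hwb : w ≠ b := by
    intro e
    rw [e] at hw'
    exact hva (hw'.symm.trans hvb)
  have hbraid : ∀ u ∈ U, v * u * v = u * v * u ↔ v * u * (v * u) * (v * u) = 1 := by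
    intro u hu
    have hui : u⁻¹ = u := inv_eq_of_mul_eq_one_right (hsq u hu)
    constructor
    · intro e
      calc v * u * (v * u) * (v * u) = (v * u * v) * (u * v * u) := by group
        _ = (u * v * u) * (u * v * u) := by rw [e]
        _ = u * v * (u * u) * v * u := by group
        _ = u * (v * v) * u := by rw [hsq u hu]; group
        _ = 1 := by rw [hv2, mul_one, hsq u hu]
    · intro e
      calc v * u * v = (v * u * (v * u) * (v * u)) * (u⁻¹ * v⁻¹ * u⁻¹) := by group
        _ = u * v * u := by rw [e, one_mul, hvinv, hui]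
  obtain ⟨u₀, hu₀, hu₀b⟩ := S.F_exists (y := w) hwa
  have hU : ∀ u ∈ U, u • a = a := fun u hu => hUle hu
  refine ⟨u₀, ⟨hu₀, fun e => hwb (by rw [← hu₀b, e, one_smul]), ?_⟩, fun u ⟨hu, hu1, he⟩ => ?_⟩
  · rw [hbraid u₀ hu₀]
    have h1 : u₀ • w = b := by rw [← hu₀b, smul_smul, hsq u₀ hu₀, one_smul]
    have ea : (v * u₀) • a = b := by rw [mul_smul, hU u₀ hu₀, hb]
    have eb : (v * u₀) • b = w := by rw [mul_smul, hu₀b, hw']
    have ew : (v * u₀) • w = a := by rw [mul_smul, h1, hvb]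
    refine S.free S.hab (Ne.symm hwa) (Ne.symm hwb) ?_ ?_ ?_ <;> simp only [mul_smul] at ea eb ew ⊢
    · rw [ea, eb, ew]
    · rw [eb, ew, ea]
    · rw [ew, ea, eb]
  · have h3 := (hbraid u hu).1 he
    have h1 : (v * u * (v * u) * (v * u)) • a = a := by rw [h3, one_smul]
    simp only [mul_smul, hU u hu, ← hb] at h1
    -- `v (u (v (u b))) = a`
    have h4 : u • v • u • b = b := by
      have := (smul_eq_iff_eq_inv_smul v).1 h1
      rwa [hvinv, ← hb] at this
    have h5 : v • u • b = u • b := by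
      have := congrArg (u • ·) h4
      simpa [smul_smul, ← mul_assoc, hsq u hu] using this
    exact S.F_eq_of_smul hu hu₀ ((huniq _ h5).trans hu₀b.symm)

end Cfsg.Agent.S1167
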