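import Cfsg.Statements.S1176
import Mathlib
import Cfsg.Agent.Lib.Involution.Isolated
-- import your own Cfsg.Agent.* helpers here

set_option autoImplicit false
open Cfsg

namespace Cfsg.Agent.S1176
open scoped commutatorElement

/-- Let x₀ be an involution of the finite group G and D its conjugacy class. Assume (a) for each x ∈ D the subgroup W(x) generated by the members of D commuting with x is a 2-group of nilpotency class at most 2, and (b) the product of two distinct commuting members of D again lies in D. Then for all x, y ∈ D, if xy has even order greater than 2, its order is 4. -/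
theorem result {G : Type*} [Group G] [Finite G] (x₀ : G) (hx₀ : orderOf x₀ = 2) (ha : ∀ x : G, IsConj x₀ x → IsPGroup 2 ↥(Subgroup.closure {y : G | IsConj x₀ y ∧ Commute y x}) ∧ ⁅⁅Subgroup.closure {y : G | IsConj x₀ y ∧ Commute y x}, Subgroup.closure {y : G | IsConj x₀ y ∧ Commute y x}⁆, Subgroup.closure {y : G | IsConj x₀ y ∧ Commute y x}⁆ = ⊥) (hb : ∀ x y : G, IsConj x₀ x → IsConj x₀ y → x ≠ y → Commute x y → IsConj x₀ (x * y)) (x y : G) (hx : IsConj x₀ x) (hy : IsConj x₀ y) (heven : Even (orderOf (x * y))) (hgt : 2 < orderOf (x * y)) : orderOf (x * y) = 4 := by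
  set n := orderOf (x * y) with hn
  have hx2 : orderOf x = 2 := by
    obtain ⟨g, rfl⟩ := isConj_iff.1 hx; exact (CfsgLib.Involution.Dihedral.orderOf_conj g x₀).trans hx₀
  have hy2 : orderOf y = 2 := by
    obtain ⟨g, rfl⟩ := isConj_iff.1 hy; exact (CfsgLib.Involution.Dihedral.orderOf_conj g x₀).trans hx₀
  set w := (x * y) ^ (n / 2) with hwdef
  have hw : orderOf w = 2 := CfsgLib.Involution.Dihedral.half_orderOf heven
  have hwx : Commute w x := CfsgLib.Involution.Dihedral.half_commute_left hx2 hy2 heven
  have hwy : Commute w y := CfsgLib.Involution.Dihedral.half_commute_right hx2 hy2 heven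
  have hxw : IsConj x₀ (x * w) := by
    by_cases h4 : 4 ∣ n
    · obtain ⟨d, -, hd⟩ := (CfsgLib.Involution.Dihedral.conj_half_iff hx2 hy2 heven).2 h4
      exact hx.trans (isConj_iff.2 ⟨d, hd⟩)
    · have hne : x ≠ y := by
        rintro rfl
        rw [hn, CfsgLib.Involution.Dihedral.mul_self hx2, orderOf_one] at hgt
        omega
      obtain ⟨m, hm⟩ := heven
      exact hy.trans (CfsgLib.Involution.Isolated.isConj_half hx2 hy2 hne (by omega))
  have hwD : IsConj x₀ w := by
    have := hb x (x * w) hx hxw (fun h => CfsgLib.Involution.Dihedral.ne_one hw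
        (mul_eq_left.1 h.symm))
      ((Commute.refl x).mul_right hwx.symm)
    rwa [← mul_assoc, CfsgLib.Involution.Dihedral.mul_self hx2, one_mul] at this
  obtain ⟨hW2, hW3⟩ := ha w hwD
  set W := Subgroup.closure {z : G | IsConj x₀ z ∧ Commute z w}
  have hxW : x ∈ W := Subgroup.subset_closure ⟨hx, hwx.symm⟩
  have hyW : y ∈ W := Subgroup.subset_closure ⟨hy, hwy.symm⟩
  have hcc := Subgroup.commutator_mem_commutator (Subgroup.commutator_mem_commutator hxW hyW) hxW
  rw [hW3, Subgroup.mem_bot, commutatorElement_eq_one_iff_commute] at hcc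
  have hc : ⁅x, y⁆ = (x * y) ^ 2 := by
    rw [commutatorElement_def, CfsgLib.Involution.Dihedral.inv_eq hx2,
      CfsgLib.Involution.Dihedral.inv_eq hy2, pow_two]; group
  rw [hc] at hcc
  have h2 := CfsgLib.Involution.Dihedral.conj_pow
    (CfsgLib.Involution.Dihedral.conj_mul_left hx2 hy2) 2
  rw [← hcc.eq, mul_inv_cancel_right] at h2
  have h4 : (x * y) ^ 4 = 1 := by
    rw [show (4 : ℕ) = 2 + 2 from rfl, pow_add]
    nth_rewrite 1 [h2]
    exact inv_mul_cancel _
  have h4' : n ∣ 4 := orderOf_dvd_of_pow_eq_one h4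
  have := Nat.le_of_dvd (by norm_num) h4'
  obtain ⟨m, hm⟩ := heven
  omega

end Cfsg.Agent.S1176
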