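import Cfsg.Statements.S1177
import Mathlib
import Cfsg.Agent.Lib.Involution.Dihedral
-- import your own Cfsg.Agent.* helpers here

set_option autoImplicit false
open Cfsg

namespace Cfsg.Agent.S1177

/-- Let A be a nontrivial elementary abelian 2-subgroup of a finite group G which is a T.I. set (each conjugate of A meets A trivially or equals A) and which does not commute elementwise with any conjugate of A other than A itself. Then for every a ∈ A, a ≠ 1, every conjugate of A contained in C_G(a) is equal to A (A is weakly closed in C_G(a)). -/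
theorem result {G : Type*} [Group G] [Finite G] (A : Subgroup G) (hA : Cfsg.IsElementaryAbelian 2 A) (hA1 : A ≠ ⊥) (hTI : ∀ g : G, A.map (MulAut.conj g).toMonoidHom ⊓ A = ⊥ ∨ A.map (MulAut.conj g).toMonoidHom = A) (hb : ∀ g : G, (∀ a ∈ A, ∀ b ∈ A.map (MulAut.conj g).toMonoidHom, a * b = b * a) → A.map (MulAut.conj g).toMonoidHom = A) (a : G) (ha : a ∈ A) (ha1 : a ≠ 1) (g : G) (hg : A.map (MulAut.conj g).toMonoidHom ≤ Subgroup.centralizer ({a} : Set G)) : A.map (MulAut.conj g).toMonoidHom = A := by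
  classical
  set B := A.map (MulAut.conj g).toMonoidHom with hB
  by_contra hne
  have hBel : ∀ b ∈ B, b ^ 2 = 1 := by
    rintro _ ⟨x, hx, rfl⟩; rw [← map_pow, hA.2 x hx, map_one]
  have hdis : ∀ x, x ∈ B → x ∈ A → x = 1 := by
    intro x h1 h2
    have h3 := (hTI g).resolve_right hne
    exact Subgroup.mem_bot.1 (h3 ▸ ⟨h1, h2⟩)
  have hAc : ∀ x ∈ A, ∀ y ∈ A, x * y = y * x := fun x hx y hy =>
    congrArg Subtype.val (hA.1.is_comm.comm ⟨x, hx⟩ ⟨y, hy⟩)
  -- `B` normalises `A`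
  have hnorm : ∀ b ∈ B, ∀ x ∈ A, b * x * b⁻¹ ∈ A := by
    intro b hb x hx
    rcases hTI b with h | h
    · have hba : b * a * b⁻¹ = a := by
        rw [Subgroup.mem_centralizer_singleton_iff.1 (hg hb), mul_inv_cancel_right]
      have : a ∈ A.map (MulAut.conj b).toMonoidHom ⊓ A := ⟨⟨a, ha, hba⟩, ha⟩
      rw [h] at this
      exact absurd (Subgroup.mem_bot.1 this) ha1
    · exact h ▸ ⟨x, hx, rfl⟩
  have hinv : ∀ b ∈ B, b⁻¹ = b := fun b hb =>
    inv_eq_of_mul_eq_one_left (by rw [← pow_two]; exact hBel b hb)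
  have hAinv : ∀ x ∈ A, x⁻¹ = x := fun x hx =>
    inv_eq_of_mul_eq_one_left (by rw [← pow_two]; exact hA.2 x hx)
  -- an element of `A` centralising one nontrivial `b` normalises, hence centralises, `B`
  have hfull : ∀ x ∈ A, ∀ b ∈ B, b ≠ 1 → Commute x b → ∀ b' ∈ B, Commute x b' := by
    intro x hx b hb hb1 hxb b' hb'
    have hxB : x * b' * x⁻¹ ∈ B := by
      have key : (A.map (MulAut.conj (g⁻¹ * x * g)).toMonoidHom) = A := by
        refine (hTI _).resolve_left fun h => hb1 ?_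
        obtain ⟨y, hy, hyb⟩ := hb
        have hyb' : g * y * g⁻¹ = b := hyb
        have : y ∈ A.map (MulAut.conj (g⁻¹ * x * g)).toMonoidHom ⊓ A := by
          refine ⟨⟨y, hy, ?_⟩, hy⟩
          change g⁻¹ * x * g * y * (g⁻¹ * x * g)⁻¹ = y
          calc g⁻¹ * x * g * y * (g⁻¹ * x * g)⁻¹ = g⁻¹ * (x * (g * y * g⁻¹) * x⁻¹) * g := by group
            _ = g⁻¹ * (g * y * g⁻¹) * g := by rw [hyb', hxb.eq, mul_inv_cancel_right]
            _ = y := by group
        rw [h, Subgroup.mem_bot] at this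
        rw [← hyb', this]; group
      obtain ⟨y, hy, rfl⟩ := hb'
      refine ⟨g⁻¹ * x * g * y * (g⁻¹ * x * g)⁻¹, key.le ⟨y, hy, rfl⟩, ?_⟩
      change g * (g⁻¹ * x * g * y * (g⁻¹ * x * g)⁻¹) * g⁻¹ = x * (g * y * g⁻¹) * x⁻¹
      group
    have h1 : x * b' * x⁻¹ * b'⁻¹ ∈ B := B.mul_mem hxB (B.inv_mem hb')
    have h2 : x * b' * x⁻¹ * b'⁻¹ ∈ A := by
      have := A.mul_mem hx (hnorm b' hb' _ (A.inv_mem hx))
      simpa [mul_assoc] using this
    have := hdis _ h1 h2
    rw [mul_inv_eq_one, mul_inv_eq_iff_eq_mul] at this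
    exact this
  let C : Subgroup G :=
    { carrier := {x | x ∈ A ∧ ∀ b ∈ B, Commute x b}
      mul_mem' := fun h1 h2 => ⟨A.mul_mem h1.1 h2.1, fun b hb => (h1.2 b hb).mul_left (h2.2 b hb)⟩
      one_mem' := ⟨A.one_mem, fun b _ => Commute.one_left b⟩
      inv_mem' := fun h => ⟨A.inv_mem h.1, fun b hb => (h.2 b hb).inv_left⟩ }
  have hCA : C ≤ A := fun x hx => hx.1
  have hCne : ∃ x ∈ A, x ∉ C := by
    by_contra h
    push_neg at h
    exact hne (hb g fun x hx b hb => (h x hx).2 b hb)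
  obtain ⟨x, hx, hxC⟩ := hCne
  let f : B → C := fun b => ⟨x * (b.1 * x * b.1), by
    have hm : b.1 * x * b.1 ∈ A := by
      have := hnorm b.1 b.2 x hx; rwa [hinv b.1 b.2] at this
    refine ⟨A.mul_mem hx hm, ?_⟩
    by_cases hb1 : b.1 = 1
    · intro b' hb'
      simp only [hb1, one_mul, mul_one]
      rw [← pow_two, hA.2 x hx]; exact Commute.one_left _
    · refine hfull _ (A.mul_mem hx hm) b.1 b.2 hb1 ?_
      have e := hAc x hx _ hm
      rw [commute_iff_eq]
      calc x * (b.1 * x * b.1) * b.1 = x * b.1 * x * (b.1 * b.1) := by group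
        _ = x * b.1 * x := by rw [← pow_two, hBel b.1 b.2, mul_one]
        _ = (b.1 * b.1) * x * b.1 * x := by rw [← pow_two, hBel b.1 b.2, one_mul]
        _ = b.1 * (b.1 * x * b.1 * x) := by group
        _ = b.1 * (x * (b.1 * x * b.1)) := by rw [e]⟩
  have hf : Function.Injective f := by
    intro b b' h
    by_contra hbb
    have e : b.1 * x * b.1 = b'.1 * x * b'.1 := mul_left_cancel (congrArg Subtype.val h)
    have hd : (b.1 * b'.1) ≠ 1 := fun h1 => hbb (Subtype.ext (by
      rw [mul_eq_one_iff_eq_inv, hinv _ b'.2] at h1; exact h1))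
    refine hxC ⟨hx, hfull x hx _ (B.mul_mem b.2 b'.2) hd ?_⟩
    rw [commute_iff_eq]
    calc x * (b.1 * b'.1) = (b.1 * b.1) * (x * b.1) * b'.1 := by
          rw [← pow_two, hBel b.1 b.2, one_mul, mul_assoc]
      _ = b.1 * (b.1 * x * b.1) * b'.1 := by group
      _ = b.1 * (b'.1 * x * b'.1) * b'.1 := by rw [e]
      _ = b.1 * b'.1 * x * (b'.1 * b'.1) := by group
      _ = b.1 * b'.1 * x := by rw [← pow_two, hBel b'.1 b'.2, mul_one]
  have h1 := Nat.card_le_card_of_injective f hf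
  have h2 : Nat.card C < Nat.card A :=
    lt_of_le_of_ne (Subgroup.card_le_of_le hCA) fun h => hxC
      ((Subgroup.eq_of_le_of_card_ge hCA h.ge).symm ▸ hx)
  have h3 : Nat.card B = Nat.card A :=
    (Nat.card_congr (A.equivMapOfInjective _ (MulAut.conj g).injective).toEquiv).symm
  omega

end Cfsg.Agent.S1177
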