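import Cfsg.Statements.S1178
import Mathlib
import Cfsg.Agent.Lib.Involution.Basic
-- import your own Cfsg.Agent.* helpers here

set_option autoImplicit false
open Cfsg

namespace Cfsg.Agent.S1178

/-- Let A be a subgroup of a Sylow 2-subgroup S of the finite group G which is weakly closed in S. If a conjugate g A g⁻¹ commutes elementwise with A, then g A g⁻¹ = A. -/
theorem result {G : Type*} [Group G] [Finite G] (S : Sylow 2 G) (A : Subgroup G) (hW : Cfsg.IsWeaklyClosed A (S : Subgroup G)) (g : G) (hc : ∀ a ∈ A, ∀ b ∈ A.map (MulAut.conj g).toMonoidHom, a * b = b * a) : A.map (MulAut.conj g).toMonoidHom = A := by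
  haveI : Fact (Nat.Prime 2) := ⟨Nat.prime_two⟩
  have hAp : IsPGroup 2 A := S.2.to_le hW.1
  have hBp : IsPGroup 2 (A.map (MulAut.conj g).toMonoidHom) := hAp.map _
  have hsup : IsPGroup 2 ↥(A ⊔ A.map (MulAut.conj g).toMonoidHom) := by
    refine IsPGroup.to_sup_of_normal_left' hAp hBp fun b hb => ?_
    rw [Subgroup.mem_normalizer_iff]
    intro x
    refine ⟨fun hx => by rwa [← hc x hx b hb, mul_inv_cancel_right], fun hx => ?_⟩
    have h := hc _ hx b hb
    have e : x = b * x * b⁻¹ := by
      calc x = b⁻¹ * (b * x * b⁻¹ * b) := by group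
        _ = b⁻¹ * (b * (b * x * b⁻¹)) := by rw [h]
        _ = b * x * b⁻¹ := by group
    rw [e]; exact hx
  obtain ⟨a, ha⟩ := CfsgLib.Involution.Basic.exists_conj_le S hsup
  have h1 : A.map (MulAut.conj a).toMonoidHom = A := hW.2 a (by
    rintro _ ⟨x, hx, rfl⟩; exact ha x (Subgroup.mem_sup_left hx))
  have h2 : A.map (MulAut.conj (a * g)).toMonoidHom = A := hW.2 _ (by
    rintro _ ⟨x, hx, rfl⟩
    have : a * (g * x * g⁻¹) * a⁻¹ ∈ (S : Subgroup G) :=
      ha (g * x * g⁻¹) (Subgroup.mem_sup_right ⟨x, hx, rfl⟩)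
    simpa [mul_assoc] using this)
  have h3 : (A.map (MulAut.conj g).toMonoidHom).map (MulAut.conj a).toMonoidHom =
      A.map (MulAut.conj (a * g)).toMonoidHom := by
    rw [Subgroup.map_map]; congr 1; ext x; simp [mul_assoc]
  rw [h2] at h3
  nth_rewrite 2 [← h1] at h3
  exact Subgroup.map_injective (MulAut.conj a).injective h3

end Cfsg.Agent.S1178
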