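import Cfsg.Statements.S1184
import Mathlib
import Cfsg.Agent.Lib.Involution.Isolated
-- import your own Cfsg.Agent.* helpers here

set_option autoImplicit false
open Cfsg

namespace Cfsg.Agent.S1184

/-- Let z be an isolated involution of the finite group G. If s and t are distinct conjugates of z, then st does not commute with z. -/
theorem result {G : Type*} [Group G] [Finite G] (z : G) (hz : Cfsg.IsIsolatedInvolution z) (g h : G) (hne : g * z * g⁻¹ ≠ h * z * h⁻¹) : ¬ Commute (g * z * g⁻¹ * (h * z * h⁻¹)) z := by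
  intro hcomm
  set s := g * z * g⁻¹ with hs
  set t := h * z * h⁻¹ with ht
  have hsI : Cfsg.IsIsolatedInvolution s := CfsgLib.Involution.Isolated.conj_isolated hz g
  have ht2 : orderOf t = 2 := (CfsgLib.Involution.Dihedral.orderOf_conj h z).trans hz.1
  have hst : IsConj s t :=
    (isConj_iff.2 ⟨g, rfl⟩ : IsConj z s).symm.trans (isConj_iff.2 ⟨h, rfl⟩)
  have hinv := CfsgLib.Involution.Dihedral.conj_mul_left hsI.1 ht2
  have hodd := CfsgLib.Involution.Isolated.odd_of_isConj hsI hst
  set H := Subgroup.normalizer (Subgroup.zpowers (s * t) : Set G)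
  have hzH : z ∈ H := by
    rw [Subgroup.mem_normalizer_iff]
    intro x
    constructor
    · rintro ⟨k, rfl⟩
      refine ⟨k, ?_⟩
      rw [← (hcomm.zpow_left k).eq, mul_inv_cancel_right]
    · rintro ⟨k, hk⟩
      refine ⟨k, ?_⟩
      calc (s * t) ^ k = z⁻¹ * (z * (s * t) ^ k) := by group
        _ = z⁻¹ * ((s * t) ^ k * z) := by rw [← (hcomm.zpow_left k).eq]
        _ = z⁻¹ * (z * x * z⁻¹ * z) := by rw [← hk]
        _ = x := by group
  have hsH : s ∈ H := by
    rw [Subgroup.mem_normalizer_iff]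
    intro x
    constructor
    · rintro ⟨k, rfl⟩
      exact ⟨-k, (CfsgLib.Involution.Dihedral.conj_zpow hinv k).symm⟩
    · rintro ⟨k, hk⟩
      refine ⟨-k, ?_⟩
      calc (s * t) ^ (-k) = s * (s * t) ^ k * s⁻¹ :=
            (CfsgLib.Involution.Dihedral.conj_zpow hinv k).symm
        _ = s * (s * x * s⁻¹) * s⁻¹ := by rw [← hk]
        _ = (s * s) * x * (s * s)⁻¹ := by group
        _ = x := by rw [CfsgLib.Involution.Dihedral.mul_self hsI.1]; group
  obtain ⟨d, hd, he⟩ :=
    CfsgLib.Involution.Isolated.exists_conj_in hz hzH (isConj_iff.2 ⟨g, rfl⟩) hsH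
  obtain ⟨k, hk⟩ := (Subgroup.mem_normalizer_iff.1 (H.inv_mem hd) (s * t)).1
    (Subgroup.mem_zpowers _)
  have hk' : (s * t) ^ k = d⁻¹ * (s * t) * d := by simpa using hk
  have hfix : s * (s * t) * s⁻¹ = s * t := by
    change s * (s * t) * s⁻¹ = s * t
    have he' : d * z * d⁻¹ = s := he
    conv_lhs => arg 1; arg 1; rw [← he']
    conv_lhs => arg 2; rw [← he']
    calc d * z * d⁻¹ * (s * t) * (d * z * d⁻¹)⁻¹
        = d * (z * (d⁻¹ * (s * t) * d) * z⁻¹) * d⁻¹ := by group
      _ = d * ((s * t) ^ k) * d⁻¹ := by rw [← hk', ← (hcomm.zpow_left k).eq, mul_inv_cancel_right]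
      _ = s * t := by rw [hk']; group
  have hsq : (s * t) ^ 2 = 1 := by
    rw [hinv] at hfix
    calc (s * t) ^ 2 = s * t * (s * t)⁻¹ := by rw [hfix, pow_two]
      _ = 1 := mul_inv_cancel _
  have h2 := orderOf_dvd_of_pow_eq_one hsq
  have h1 : orderOf (s * t) = 1 := by
    rcases Nat.prime_two.eq_one_or_self_of_dvd _ h2 with h | h
    · exact h
    · rw [h, Nat.odd_iff] at hodd; omega
  rw [orderOf_eq_one_iff, mul_eq_one_iff_inv_eq, CfsgLib.Involution.Dihedral.inv_eq hsI.1] at h1
  exact hne h1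

end Cfsg.Agent.S1184
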