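import Cfsg.Statements.S1185
import Mathlib
import Cfsg.Agent.Lib.Involution.Isolated
-- import your own Cfsg.Agent.* helpers here

set_option autoImplicit false
open Cfsg

namespace Cfsg.Agent.S1185

/-- Let z be an isolated involution of the finite group G with centralizer C. Then for every g ∈ G there is exactly one element k in the coset gC that has odd order and is inverted by z. -/
theorem result {G : Type*} [Group G] [Finite G] (z : G) (hz : Cfsg.IsIsolatedInvolution z) (g : G) : ∃! k : G, (Odd (orderOf k) ∧ z * k * z⁻¹ = k⁻¹) ∧ g⁻¹ * k ∈ Subgroup.centralizer ({z} : Set G) := by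
  have hz1 := hz.1
  set c := g * z * g⁻¹ with hc
  have hc2 : orderOf c = 2 := (CfsgLib.Involution.Dihedral.orderOf_conj g z).trans hz1
  obtain ⟨m, hm⟩ := CfsgLib.Involution.Isolated.odd_of_isConj hz
    (c := c) (isConj_iff.2 ⟨g, rfl⟩)
  have hinvz := CfsgLib.Involution.Dihedral.conj_mul_left hz1 hc2
  have hzz := CfsgLib.Involution.Dihedral.mul_self hz1
  have hcen : ∀ k : G, g⁻¹ * k ∈ Subgroup.centralizer ({z} : Set G) ↔ k * z * k⁻¹ = c := by
    intro k
    rw [Subgroup.mem_centralizer_singleton_iff, hc, mul_inv_eq_iff_eq_mul]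
    constructor <;> intro h
    · calc k * z = g * (g⁻¹ * k * z) := by group
        _ = g * (z * (g⁻¹ * k)) := by rw [h]
        _ = g * z * g⁻¹ * k := by group
    · calc g⁻¹ * k * z = g⁻¹ * (k * z) := by group
        _ = g⁻¹ * (g * z * g⁻¹ * k) := by rw [h]
        _ = z * (g⁻¹ * k) := by group
  refine ⟨(z * c) ^ m, ⟨⟨?_, CfsgLib.Involution.Dihedral.conj_pow hinvz m⟩, ?_⟩, ?_⟩
  · exact Odd.of_dvd_nat ⟨m, hm⟩ (orderOf_pow_dvd m)
  · rw [hcen, ← zpow_natCast, CfsgLib.Involution.Dihedral.conj_zpow_reflection hinvz,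
      show (-(2 * (m : ℤ))) = -((2 * m + 1 : ℕ) : ℤ) + 1 by push_cast; ring, zpow_add, zpow_neg,
      zpow_natCast, ← hm, pow_orderOf_eq_one, inv_one, one_mul, zpow_one, ← mul_assoc, hzz, one_mul]
  · rintro k ⟨⟨⟨j, hj⟩, hk⟩, hk2⟩
    rw [hcen] at hk2
    have hk3 : k ^ 2 = c * z := by
      rw [← hk2, pow_two]
      calc k * k = k * (z * k⁻¹ * z⁻¹) := by rw [← conj_inv, hk, inv_inv]
        _ = k * z * k⁻¹ * z := by rw [CfsgLib.Involution.Dihedral.inv_eq hz1]; group
    have hkp : k = (c * z) ^ (j + 1) := by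
      rw [← hk3, ← pow_mul, show 2 * (j + 1) = orderOf k + 1 by omega, pow_succ,
        pow_orderOf_eq_one, one_mul]
    have e : c * z = (z * c)⁻¹ := by
      rw [mul_inv_rev, CfsgLib.Involution.Dihedral.inv_eq hz1,
        CfsgLib.Involution.Dihedral.inv_eq hc2]
    rw [e] at hkp hk3
    rw [hkp, ← zpow_natCast, ← zpow_natCast, inv_zpow', zpow_eq_zpow_iff_modEq, hm]
    have hmem : ((z * c)⁻¹) ^ (orderOf k) = 1 := by
      rw [← hk3, ← pow_mul, mul_comm, pow_mul, pow_orderOf_eq_one, one_pow]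
    have hdvd : (2 * m + 1) ∣ (2 * j + 1) := by
      have := orderOf_dvd_of_pow_eq_one hmem
      rw [orderOf_inv, hm, hj] at this; exact this
    obtain ⟨q, hq⟩ := hdvd
    have hq2 : q % 2 = 1 := by
      by_contra hq2
      obtain ⟨r, hr⟩ : 2 ∣ q := by omega
      rw [hr, mul_left_comm] at hq; omega
    obtain ⟨r, hr⟩ : ∃ r, q = 2 * r + 1 := ⟨q / 2, by omega⟩
    subst hr
    rw [Int.modEq_iff_dvd]
    exact ⟨(r : ℤ) + 1, by push_cast; nlinarith [congrArg (fun x : ℕ => (x : ℤ)) hq]⟩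

end Cfsg.Agent.S1185
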