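import Cfsg.Statements.S1189
import Mathlib
import Cfsg.Agent.Lib.Involution.QuasiDihedral
-- import your own Cfsg.Agent.* helpers here

set_option autoImplicit false
open Cfsg

namespace Cfsg.Agent.S1189

open CfsgLib.Involution in
/-- A quasi-dihedral 2-group has exactly two conjugacy classes of elements of order 2 and exactly two conjugacy classes of elements of order 4. -/
theorem result {S : Type*} [Group S] [Finite S] (hS : Cfsg.IsQuasiDihedral S) : Nat.card {C : ConjClasses S // ∃ t : S, orderOf t = 2 ∧ ConjClasses.mk t = C} = 2 ∧ Nat.card {C : ConjClasses S // ∃ t : S, orderOf t = 4 ∧ ConjClasses.mk t = C} = 2 := by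
  obtain ⟨K, x, y, h, -⟩ := QuasiDihedral.exists_gen hS
  have hfin := QuasiDihedral.finite h
  have hyo : orderOf y = 2 := h.ordy
  have hclass : ∀ i i' : ℤ, (2 : ℤ) ∣ i' - i → ConjClasses.mk (x ^ i * y) = ConjClasses.mk (x ^ i' * y) := by
    intro i i' hii
    obtain ⟨j, hj⟩ := QuasiDihedral.exists_conj_shift h hii
    exact ConjClasses.mk_eq_mk_iff_isConj.2 (isConj_iff.2 ⟨_, hj⟩)
  have hne : ∀ a : ℤ, ∀ b : S, b ∉ Subgroup.zpowers x → ConjClasses.mk (x ^ a) ≠ ConjClasses.mk b := by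
    intro a b hb he
    obtain ⟨c, rfl⟩ := isConj_iff.1 (ConjClasses.mk_eq_mk_iff_isConj.1 he)
    exact hb ((Subgroup.normal_of_index_eq_two (QuasiDihedral.index_two h)).conj_mem _
      (Subgroup.zpow_mem _ (Subgroup.mem_zpowers x) a) c)
  constructor
  · have hset : {C : ConjClasses S | ∃ t : S, orderOf t = 2 ∧ ConjClasses.mk t = C} =
        {ConjClasses.mk (x ^ (4 * (K : ℤ))), ConjClasses.mk y} := by
      ext C
      constructor
      · rintro ⟨t, ht, rfl⟩
        rcases (QuasiDihedral.orderOf_two_iff h t).1 ht with rfl | ⟨m, rfl⟩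
        · exact Or.inl rfl
        · refine Or.inr ?_
          simpa using (hclass 0 (2 * m) ⟨m, by ring⟩).symm
      · rintro (rfl | rfl)
        · exact ⟨_, QuasiDihedral.orderOf_z h, rfl⟩
        · exact ⟨_, hyo, rfl⟩
    change Nat.card ↥{C : ConjClasses S | ∃ t : S, orderOf t = 2 ∧ ConjClasses.mk t = C} = 2
    rw [hset, Nat.card_coe_set_eq, Set.ncard_pair (hne _ _ (QuasiDihedral.y_not_mem h))]
  · have hset : {C : ConjClasses S | ∃ t : S, orderOf t = 4 ∧ ConjClasses.mk t = C} =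
        {ConjClasses.mk (x ^ (2 * (K : ℤ))), ConjClasses.mk (x ^ (1 : ℤ) * y)} := by
      ext C
      constructor
      · rintro ⟨t, ht, rfl⟩
        rcases (QuasiDihedral.orderOf_four_iff h t).1 ht with rfl | rfl | ⟨m, rfl⟩
        · exact Or.inl rfl
        · refine Or.inl (ConjClasses.mk_eq_mk_iff_isConj.2 (isConj_iff.2 ⟨y, ?_⟩))
          rw [QuasiDihedral.conj_zpow h, QuasiDihedral.zpow_eq_iff h]
          exact ⟨-(K : ℤ), by ring⟩
        · exact Or.inr (hclass 1 (2 * m + 1) ⟨m, by ring⟩).symm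
      · rintro (rfl | rfl)
        · exact ⟨_, QuasiDihedral.orderOf_two_K h, rfl⟩
        · exact ⟨_, (QuasiDihedral.orderOf_four_iff h _).2 (Or.inr (Or.inr ⟨0, by norm_num⟩)), rfl⟩
    change Nat.card ↥{C : ConjClasses S | ∃ t : S, orderOf t = 4 ∧ ConjClasses.mk t = C} = 2
    rw [hset, Nat.card_coe_set_eq, Set.ncard_pair (hne _ _ (QuasiDihedral.xy_not_mem h 1))]

end Cfsg.Agent.S1189
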