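import Cfsg.Statements.S1190
import Mathlib
import Cfsg.Agent.Lib.Involution.QuasiDihedral
-- import your own Cfsg.Agent.* helpers here

set_option autoImplicit false
open Cfsg

namespace Cfsg.Agent.S1190

open CfsgLib.Involution in
/-- In a quasi-dihedral 2-group S, any two Klein four-subgroups are conjugate, and every Klein four-subgroup T satisfies C_S(T) = T and |N_S(T) : T| = 2. -/
theorem result {S : Type*} [Group S] [Finite S] (hS : Cfsg.IsQuasiDihedral S) : (∀ T₁ T₂ : Subgroup S, IsKleinFour T₁ → IsKleinFour T₂ → ∃ s : S, T₁.map (MulAut.conj s).toMonoidHom = T₂) ∧ (∀ T : Subgroup S, IsKleinFour T → Subgroup.centralizer (T : Set S) = T ∧ T.relIndex (Subgroup.normalizer (T : Set S)) = 2) := by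
  obtain ⟨K, x, y, h, -⟩ := QuasiDihedral.exists_gen hS
  have hz := QuasiDihedral.z_mem_center h
  refine ⟨fun T₁ T₂ h₁ h₂ => ?_, fun T hT => ?_⟩
  · obtain ⟨hz₁, m₁, ht₁, hall₁⟩ := QuasiDihedral.four_structure h h₁
    obtain ⟨hz₂, m₂, ht₂, hall₂⟩ := QuasiDihedral.four_structure h h₂
    obtain ⟨j, hj⟩ := QuasiDihedral.exists_conj_shift h (i := 2 * m₁) (i' := 2 * m₂)
      ⟨m₂ - m₁, by ring⟩
    refine ⟨x ^ j, ?_⟩
    have hfin := QuasiDihedral.finite h
    refine TwoGroupLifts.map_conj_eq (fun g hg => ?_) (by rw [h₁.card_four, h₂.card_four])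
    have hzc : x ^ j * x ^ (4 * (K : ℤ)) * (x ^ j)⁻¹ = x ^ (4 * (K : ℤ)) := by group
    rcases hall₁ g hg with rfl | rfl | rfl | rfl
    · simp
    · rw [hzc]; exact hz₂
    · rw [hj]; exact ht₂
    · rw [← conj_mul, hzc, hj]
      exact mul_mem hz₂ ht₂
  · obtain ⟨hzT, m, htT, hall⟩ := QuasiDihedral.four_structure h hT
    have hC : ∀ g, g * (x ^ (2 * m) * y) = (x ^ (2 * m) * y) * g → g ∈ T := by
      intro g hg
      rcases QuasiDihedral.centralizer_xy h hg with rfl | rfl | rfl | rfl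
      · exact one_mem _
      · exact hzT
      · exact htT
      · exact mul_mem hzT htT
    refine ⟨le_antisymm (fun g hg => hC g (Subgroup.mem_centralizer_iff.1 hg _ htT).symm)
      (fun g hg => Subgroup.mem_centralizer_iff.2 fun k hk =>
        TwoGroupLifts.commute_of_isKleinFour hT hk hg), ?_⟩
    have ha : x ^ (2 * (K : ℤ)) * (x ^ (2 * m) * y) * (x ^ (2 * (K : ℤ)))⁻¹ =
        x ^ (4 * (K : ℤ)) * (x ^ (2 * m) * y) := by
      rw [QuasiDihedral.conj_shift h, ← mul_assoc (x ^ (4 * (K : ℤ))), ← zpow_add, mul_left_inj,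
        QuasiDihedral.zpow_eq_iff h]
      exact ⟨-(K : ℤ), by ring⟩
    have hzfix : ∀ g : S, g * x ^ (4 * (K : ℤ)) * g⁻¹ = x ^ (4 * (K : ℤ)) := fun g => by
      rw [Subgroup.mem_center_iff.1 hz g, mul_inv_cancel_right]
    have hzz : x ^ (4 * (K : ℤ)) * x ^ (4 * (K : ℤ)) = 1 :=
      TwoGroupLifts.mul_self_of_isKleinFour hT hzT
    rw [Subgroup.relIndex_eq_two_iff_exists_notMem_and]
    have hfin := QuasiDihedral.finite h
    refine ⟨x ^ (2 * (K : ℤ)), ?_, ?_, fun b hb => ?_⟩
    · refine TwoGroupLifts.mem_normalizer_of_conj_mem fun g hg => ?_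
      rcases hall g hg with rfl | rfl | rfl | rfl
      · simp
      · rw [hzfix]; exact hzT
      · rw [ha]; exact mul_mem hzT htT
      · rw [← conj_mul, hzfix, ha, ← mul_assoc, hzz, one_mul]; exact htT
    · intro hmem
      rcases hall _ hmem with he | he | he | he
      · have := QuasiDihedral.orderOf_two_K h
        rw [he, orderOf_one] at this; omega
      · have := QuasiDihedral.orderOf_two_K h
        rw [he, QuasiDihedral.orderOf_z h] at this; omega
      · exact QuasiDihedral.xy_ne_zpow h _ _ he.symm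
      · rw [← mul_assoc, ← zpow_add] at he
        exact QuasiDihedral.xy_ne_zpow h _ _ he.symm
    · rcases hall _ ((Subgroup.mem_normalizer_iff.1 hb _).1 htT) with he | he | he | he
      · exact absurd (mul_inv_eq_one.1 he) (fun h1 => QuasiDihedral.xy_ne_zpow h (2 * m) 0 (by
          rw [zpow_zero]; exact mul_left_cancel (a := b) (by rw [h1, mul_one])))
      · exfalso
        refine QuasiDihedral.xy_ne_zpow h (2 * m) (4 * (K : ℤ)) (mul_left_cancel (a := b) ?_)
        rw [mul_inv_eq_iff_eq_mul.1 he, Subgroup.mem_center_iff.1 hz b]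
      · exact Or.inr (hC b (mul_inv_eq_iff_eq_mul.1 he))
      · refine Or.inl (hC _ (mul_inv_eq_iff_eq_mul.1 ?_))
        rw [mul_inv_rev, mul_assoc b, mul_assoc b, ← mul_assoc _ _ b⁻¹, ha, ← mul_assoc b, ← conj_mul,
          hzfix, he, ← mul_assoc, hzz, one_mul]

end Cfsg.Agent.S1190
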