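import Cfsg.Statements.S1191
import Mathlib
import Cfsg.Agent.Lib.Involution.QuasiDihedral
-- import your own Cfsg.Agent.* helpers here

set_option autoImplicit false
open Cfsg

namespace Cfsg.Agent.S1191

open CfsgLib.Involution in
/-- In a quasi-dihedral 2-group S, any two subgroups isomorphic to the quaternion group of order 8 are conjugate, and each such subgroup Q satisfies C_S(Q) = Z(Q) and |N_S(Q) : Q| = 2. -/
theorem result {S : Type*} [Group S] [Finite S] (hS : Cfsg.IsQuasiDihedral S) : (∀ Q₁ Q₂ : Subgroup S, Nonempty (Q₁ ≃* QuaternionGroup 2) → Nonempty (Q₂ ≃* QuaternionGroup 2) → ∃ s : S, Q₁.map (MulAut.conj s).toMonoidHom = Q₂) ∧ (∀ Q : Subgroup S, Nonempty (Q ≃* QuaternionGroup 2) → Subgroup.centralizer (Q : Set S) = (Subgroup.center Q).map Q.subtype ∧ Q.relIndex (Subgroup.normalizer (Q : Set S)) = 2) := by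
  obtain ⟨K, x, y, h, -⟩ := QuasiDihedral.exists_gen hS
  have hfin := QuasiDihedral.finite h
  have hcard : ∀ Q : Subgroup S, Nonempty (Q ≃* QuaternionGroup 2) → Nat.card Q = 8 := by
    rintro Q ⟨e⟩
    rw [Nat.card_congr e.toEquiv, Nat.card_eq_fintype_card, QuaternionGroup.card]
  refine ⟨fun Q₁ Q₂ h₁ h₂ => ?_, fun Q hQ => ?_⟩
  · obtain ⟨hz₁, i₁, hg₁, hall₁⟩ := QuasiDihedral.quat_structure h h₁.some
    obtain ⟨hz₂, i₂, hg₂, hall₂⟩ := QuasiDihedral.quat_structure h h₂.some
    obtain ⟨j, hj⟩ := QuasiDihedral.exists_conj_shift h (i := 2 * i₁ + 1) (i' := 2 * i₂ + 1)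
      ⟨i₂ - i₁, by ring⟩
    refine ⟨x ^ j, TwoGroupLifts.map_conj_eq (fun g hg => ?_) (by rw [hcard _ h₁, hcard _ h₂])⟩
    have hzc : ∀ q : ℤ, x ^ j * x ^ (2 * (K : ℤ) * q) * (x ^ j)⁻¹ = x ^ (2 * (K : ℤ) * q) :=
      fun q => by group
    obtain ⟨q, rfl | rfl⟩ := hall₁ g hg
    · rw [hzc, zpow_mul]; exact zpow_mem hz₂ q
    · rw [zpow_add, mul_assoc (x ^ (2 * (K : ℤ) * q)), ← conj_mul, hzc, hj, zpow_mul]
      exact mul_mem (zpow_mem hz₂ q) hg₂
  · obtain ⟨hz, i, hg, hall⟩ := QuasiDihedral.quat_structure h hQ.some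
    have hzz : ∀ q : ℤ, x ^ (2 * (K : ℤ) * q) ∈ Q := fun q => by
      rw [zpow_mul]; exact zpow_mem hz q
    have hcoset : ∀ q : ℤ, x ^ (2 * (K : ℤ) * q + (2 * i + 1)) * y ∈ Q := fun q => by
      rw [zpow_add, mul_assoc]; exact mul_mem (hzz q) hg
    refine ⟨TwoGroupLifts.centralizer_eq_center_map fun c hc => ?_, ?_⟩
    · rcases QuasiDihedral.centralizer_xy h (Subgroup.mem_centralizer_iff.1 hc _ hg).symm with
        h1 | h1 | h1 | h1 <;> rw [h1]
      · exact one_mem _
      · rw [show 4 * (K : ℤ) = 2 * K * 2 by ring]; exact hzz 2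
      · exact hg
      · rw [show 4 * (K : ℤ) = 2 * K * 2 by ring]; exact mul_mem (hzz 2) hg
    · have hN : ∀ m : ℤ, x ^ ((K : ℤ) * m) ∈ Subgroup.normalizer (Q : Set S) := fun m => by
        refine TwoGroupLifts.mem_normalizer_of_conj_mem fun g hg' => ?_
        obtain ⟨q, rfl | rfl⟩ := hall g hg'
        · convert hzz q using 1; group
        · rw [QuasiDihedral.conj_shift h]
          convert hcoset (q + m * (1 - 2 * K)) using 3; ring
      have hK : x ^ (K : ℤ) ∈ Subgroup.normalizer (Q : Set S) := by simpa using hN 1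
      rw [Subgroup.relIndex_eq_two_iff_exists_notMem_and]
      refine ⟨x ^ (K : ℤ), hK, ?_, fun b hb => ?_⟩
      · intro hmem
        obtain ⟨q, hq | hq⟩ := hall _ hmem
        · rw [QuasiDihedral.zpow_eq_iff h] at hq
          obtain ⟨r, hr⟩ := hq
          have := QuasiDihedral.pos h
          have h2 : (K : ℤ) * (1 - 2 * q - 8 * r) = 0 := by linarith
          rcases mul_eq_zero.1 h2 with h3 | h3 <;> omega
        · exact QuasiDihedral.xy_ne_zpow h _ _ hq.symm
      have hpow : ∀ j : ℤ, x ^ j ∈ Subgroup.normalizer (Q : Set S) →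
          x ^ j ∈ Q ∨ x ^ j * x ^ (K : ℤ) ∈ Q := by
        intro j hj
        have h1 := (Subgroup.mem_normalizer_iff.1 hj _).1 hg
        rw [QuasiDihedral.conj_shift h] at h1
        obtain ⟨q, hq | hq⟩ := hall _ h1
        · exact absurd hq (QuasiDihedral.xy_ne_zpow h _ _)
        rw [mul_left_inj, QuasiDihedral.zpow_eq_iff h] at hq
        obtain ⟨r, hr⟩ := hq
        obtain ⟨m, rfl⟩ := QuasiDihedral.dvd_of_dvd_unit_mul h (d := (K : ℤ)) (j := j)
          ⟨8, by ring⟩ ⟨q + 4 * r, by linarith⟩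
        obtain ⟨s, rfl | rfl⟩ := Int.even_or_odd' m
        · left; convert hzz s using 2; ring
        · right; rw [← zpow_add]; convert hzz (s + 1) using 2; ring
      rcases QuasiDihedral.normal_form h b with ⟨j, rfl⟩ | ⟨j, rfl⟩
      · exact (hpow j hb).symm
      · have he : x ^ j * y = x ^ (j - (2 * i + 1)) * (x ^ (2 * i + 1) * y) := by
          rw [← mul_assoc, ← zpow_add, sub_add_cancel]
        rw [he] at hb ⊢
        have hgN : x ^ (2 * i + 1) * y ∈ Subgroup.normalizer (Q : Set S) := Subgroup.le_normalizer hg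
        rcases hpow _ ((Subgroup.mul_mem_cancel_right _ hgN).1 hb) with h1 | h1
        · exact Or.inr (mul_mem h1 hg)
        · left
          have h2 := (Subgroup.mem_normalizer_iff''.1 hK _).1 hg
          have h3 := mul_mem h1 h2
          convert h3 using 1; group

end Cfsg.Agent.S1191
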