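import Cfsg.Statements.S1192
import Mathlib
import Cfsg.Agent.Lib.Involution.QuasiDihedral
-- import your own Cfsg.Agent.* helpers here

set_option autoImplicit false
open Cfsg

namespace Cfsg.Agent.S1192

open CfsgLib.Involution in
/-- A quasi-dihedral group S of order 2^(n+1) has exactly three maximal subgroups; one is cyclic, one is isomorphic to the generalized quaternion group of order 2^n and one to the dihedral group of order 2^n. -/
theorem result {S : Type*} [Group S] [Finite S] (hS : Cfsg.IsQuasiDihedral S) (n : ℕ) (hn : Nat.card S = 2 ^ (n + 1)) : ∃ M₁ M₂ M₃ : Subgroup S, IsCoatom M₁ ∧ IsCoatom M₂ ∧ IsCoatom M₃ ∧ M₁ ≠ M₂ ∧ M₁ ≠ M₃ ∧ M₂ ≠ M₃ ∧ (∀ M : Subgroup S, IsCoatom M → M = M₁ ∨ M = M₂ ∨ M = M₃) ∧ IsCyclic M₁ ∧ Nonempty (M₂ ≃* QuaternionGroup (2 ^ (n - 2))) ∧ Nonempty (M₃ ≃* DihedralGroup (2 ^ (n - 1))) := by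
  obtain ⟨K, x, y, h, hn'⟩ := QuasiDihedral.exists_gen hS
  obtain ⟨hn1, hn2⟩ := hn' n hn
  rw [hn1, hn2]
  have : NeZero K := ⟨(QuasiDihedral.pos h).ne'⟩
  have hy : y ∈ (QuasiDihedral.dHom h).range := by
    rw [QuasiDihedral.mem_dHom_range]; exact ⟨0, Or.inr (by simp)⟩
  have hxy : x ^ (1 : ℤ) * y ∈ (QuasiDihedral.qHom h).range := by
    rw [QuasiDihedral.mem_qHom_range]; exact ⟨0, Or.inr (by simp)⟩
  refine ⟨Subgroup.zpowers x, (QuasiDihedral.qHom h).range, (QuasiDihedral.dHom h).range,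
    TwoGroupLifts.isCoatom_of_index_two (QuasiDihedral.index_two h),
    TwoGroupLifts.isCoatom_of_index_two (QuasiDihedral.qHom_index h),
    TwoGroupLifts.isCoatom_of_index_two (QuasiDihedral.dHom_index h), ?_, ?_, ?_,
    fun M hM => QuasiDihedral.coatom_cases h hM, inferInstance,
    ⟨(MonoidHom.ofInjective (QuasiDihedral.qHom_injective h)).symm⟩,
    ⟨(MonoidHom.ofInjective (QuasiDihedral.dHom_injective h)).symm⟩⟩
  · intro he; exact QuasiDihedral.xy_not_mem h 1 (he ▸ hxy)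
  · intro he; exact QuasiDihedral.y_not_mem h (he ▸ hy)
  · intro he; exact QuasiDihedral.y_notMem_qHom h (he ▸ hy)

end Cfsg.Agent.S1192
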