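import Cfsg.Statements.S1193
import Mathlib
import Cfsg.Agent.Lib.Involution.QuasiDihedral
-- import your own Cfsg.Agent.* helpers here

set_option autoImplicit false
open Cfsg

namespace Cfsg.Agent.S1193

open CfsgLib.Involution in
/-- Let S be quasi-dihedral of order 2^(n+1). Then S' = Φ(S) is cyclic of order 2^(n-1), the centre of S has order 2, and the subgroup generated by the involutions of S is dihedral of order 2^n. -/
theorem result {S : Type*} [Group S] [Finite S] (hS : Cfsg.IsQuasiDihedral S) (n : ℕ) (hn : Nat.card S = 2 ^ (n + 1)) : commutator S = frattini S ∧ IsCyclic (commutator S) ∧ Nat.card (commutator S) = 2 ^ (n - 1) ∧ Nat.card (Subgroup.center S) = 2 ∧ Nonempty (↥(Subgroup.closure {x : S | orderOf x = 2}) ≃* DihedralGroup (2 ^ (n - 1))) := by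
  obtain ⟨K, x, y, h, hn'⟩ := QuasiDihedral.exists_gen hS
  obtain ⟨hn1, -⟩ := hn' n hn
  rw [hn1]
  have : NeZero K := ⟨(QuasiDihedral.pos h).ne'⟩
  refine ⟨by rw [QuasiDihedral.commutator_eq h, QuasiDihedral.frattini_eq h], ?_, ?_, ?_, ?_⟩
  · rw [QuasiDihedral.commutator_eq h]; infer_instance
  · rw [QuasiDihedral.commutator_eq h, Nat.card_zpowers, QuasiDihedral.orderOf_xsq h]
  · rw [QuasiDihedral.center_eq h, Nat.card_zpowers, QuasiDihedral.orderOf_z h]
  · exact ⟨(MulEquiv.subgroupCongr (QuasiDihedral.closure_involutions h)).trans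
      (MonoidHom.ofInjective (QuasiDihedral.dHom_injective h)).symm⟩

end Cfsg.Agent.S1193
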