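import Cfsg.Statements.S1194
import Mathlib
import Cfsg.Agent.Lib.Involution.QuasiDihedral
-- import your own Cfsg.Agent.* helpers here

set_option autoImplicit false
open Cfsg

namespace Cfsg.Agent.S1194

open CfsgLib.Involution in
/-- In a quasi-dihedral 2-group S, every proper normal subgroup is either a maximal subgroup or a cyclic subgroup contained in the derived subgroup S'. -/
theorem result {S : Type*} [Group S] [Finite S] (hS : Cfsg.IsQuasiDihedral S) (N : Subgroup S) [N.Normal] (hN : N ≠ ⊤) : IsCoatom N ∨ (IsCyclic N ∧ N ≤ commutator S) := by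
  obtain ⟨K, x, y, h, -⟩ := QuasiDihedral.exists_gen hS
  have : NeZero K := ⟨(QuasiDihedral.pos h).ne'⟩
  by_cases hle : N ≤ Subgroup.zpowers x
  · by_cases hc : N ≤ commutator S
    · exact Or.inr ⟨Subgroup.isCyclic_of_le hle, hc⟩
    · obtain ⟨g, hg, hgc⟩ := SetLike.not_le_iff_exists.1 hc
      obtain ⟨i, hi⟩ := hle hg
      have hi' : x ^ i = g := hi
      subst hi'
      obtain ⟨m, rfl | rfl⟩ := Int.even_or_odd' i
      · refine absurd ?_ hgc
        rw [QuasiDihedral.commutator_eq h]
        exact ⟨m, by simp only; rw [← zpow_natCast, ← zpow_mul]; rfl⟩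
      · left
        rw [le_antisymm hle (Subgroup.zpowers_le.2 (QuasiDihedral.mem_of_odd_zpow h hg))]
        exact TwoGroupLifts.isCoatom_of_index_two (QuasiDihedral.index_two h)
  left
  obtain ⟨g, hg, hgx⟩ := SetLike.not_le_iff_exists.1 hle
  rcases QuasiDihedral.normal_form h g with ⟨i, rfl⟩ | ⟨i, rfl⟩
  · exact absurd (Subgroup.zpow_mem _ (Subgroup.mem_zpowers x) i) hgx
  have h2 : ∀ j : ℤ, x ^ (2 * j * (1 - 2 * (K : ℤ))) ∈ N := by
    intro j
    have h3 := mul_mem ((inferInstance : N.Normal).conj_mem _ hg (x ^ j)) (inv_mem hg)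
    rw [QuasiDihedral.conj_shift h] at h3
    convert h3 using 1; group
  have hsq : ∀ m : ℤ, x ^ (2 * m) ∈ N := by
    intro m
    convert h2 (m * (1 + 2 * K) * (1 + 4 * (K : ℤ) ^ 2)) using 1
    rw [QuasiDihedral.zpow_eq_iff h]
    exact ⟨4 * m * (K : ℤ) ^ 3, by ring⟩
  obtain ⟨m, rfl | rfl⟩ := Int.even_or_odd' i
  · have hsub : (QuasiDihedral.dHom h).range ≤ N := by
      intro k hk
      obtain ⟨q, rfl | rfl⟩ := (QuasiDihedral.mem_dHom_range h k).1 hk
      · exact hsq q
      · convert mul_mem (hsq (q - m)) hg using 1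
        rw [← mul_assoc, ← zpow_add]; congr 2; ring
    rcases hsub.eq_or_lt with he | hlt
    · exact he ▸ TwoGroupLifts.isCoatom_of_index_two (QuasiDihedral.dHom_index h)
    · exact absurd ((TwoGroupLifts.isCoatom_of_index_two (QuasiDihedral.dHom_index h)).2 N hlt) hN
  · have hsub : (QuasiDihedral.qHom h).range ≤ N := by
      intro k hk
      obtain ⟨q, rfl | rfl⟩ := (QuasiDihedral.mem_qHom_range h k).1 hk
      · exact hsq q
      · convert mul_mem (hsq (q - m)) hg using 1
        rw [← mul_assoc, ← zpow_add]; congr 2; ring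
    rcases hsub.eq_or_lt with he | hlt
    · exact he ▸ TwoGroupLifts.isCoatom_of_index_two (QuasiDihedral.qHom_index h)
    · exact absurd ((TwoGroupLifts.isCoatom_of_index_two (QuasiDihedral.qHom_index h)).2 N hlt) hN

end Cfsg.Agent.S1194
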