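import Cfsg.Statements.S1195
import Mathlib
import Cfsg.Agent.Lib.Involution.Wreathed
-- import your own Cfsg.Agent.* helpers here

set_option autoImplicit false
open Cfsg

namespace Cfsg.Agent.S1195

open CfsgLib.Involution CfsgLib.Involution.Wreathed in
/-- A wreathed 2-group has exactly three conjugacy classes of elements of order 2. -/
theorem result {S : Type*} [Group S] [Finite S] (hS : Cfsg.IsWreathed S) : Nat.card {C : ConjClasses S // ∃ t : S, orderOf t = 2 ∧ ConjClasses.mk t = C} = 3 := by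
  obtain ⟨K, x, y, z, h, -⟩ := Wreathed.exists_gen hS
  have := Wreathed.finite h
  have hz : W x y 0 (-0) * z = z := by rw [neg_zero, Wreathed.W_zero h, one_mul]
  have hset : {C : ConjClasses S | ∃ t : S, orderOf t = 2 ∧ ConjClasses.mk t = C} =
      {ConjClasses.mk (W x y (2 * K) 0), ConjClasses.mk (W x y (2 * K) (2 * K)), ConjClasses.mk z} := by
    ext C
    constructor
    · rintro ⟨t, ht, rfl⟩
      rcases (Wreathed.orderOf_two_iff h t).1 ht with rfl | rfl | rfl | ⟨a, rfl⟩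
      · exact Or.inl rfl
      · exact Or.inl (ConjClasses.mk_eq_mk_iff_isConj.2 (isConj_iff.2 ⟨z, Wreathed.conj_W h _ _⟩))
      · exact Or.inr (Or.inl rfl)
      · refine Or.inr (Or.inr (ConjClasses.mk_eq_mk_iff_isConj.2 (isConj_iff.2 ⟨W x y (0 - a) 0, ?_⟩)))
        rw [Wreathed.invol_conj h a 0, hz]
    · rintro (rfl | rfl | rfl)
      · exact ⟨_, (Wreathed.orderOf_two_iff h _).2 (Or.inl rfl), rfl⟩
      · exact ⟨_, (Wreathed.orderOf_two_iff h _).2 (Or.inr (Or.inr (Or.inl rfl))), rfl⟩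
      · exact ⟨_, h.ordz, rfl⟩
  have hzb : ∀ a b : ℤ, ConjClasses.mk (W x y a b) ≠ ConjClasses.mk z := by
    intro a b he
    obtain ⟨c, hc⟩ := isConj_iff.1 (ConjClasses.mk_eq_mk_iff_isConj.1 he)
    exact Wreathed.z_notMem h (hc ▸ (Subgroup.normal_of_index_eq_two (Wreathed.base_index h)).conj_mem _
      (Wreathed.W_mem_base h a b) c)
  change Nat.card ↥{C : ConjClasses S | ∃ t : S, orderOf t = 2 ∧ ConjClasses.mk t = C} = 3
  rw [hset, Nat.card_coe_set_eq, Set.ncard_eq_three]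
  refine ⟨_, _, _, ?_, hzb _ _, hzb _ _, rfl⟩
  intro he
  obtain ⟨c, hc⟩ := isConj_iff.1 (ConjClasses.mk_eq_mk_iff_isConj.1 he.symm)
  rw [Subgroup.mem_center_iff.1 (Wreathed.diag_mem_center h _ _ (by simp)) c, mul_inv_cancel_right] at hc
  apply Wreathed.W_half_ne h _ _ (Or.inl ⟨rfl, rfl⟩)
  obtain ⟨-, h2⟩ := (Wreathed.W_eq_iff h _ _ _ _).1 hc
  convert h2 using 1

end Cfsg.Agent.S1195
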