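import Cfsg.Statements.S1196
import Mathlib
import Cfsg.Agent.Lib.Involution.Wreathed
-- import your own Cfsg.Agent.* helpers here

set_option autoImplicit false
open Cfsg

namespace Cfsg.Agent.S1196

open CfsgLib.Involution CfsgLib.Involution.Wreathed in
/-- A wreathed 2-group S of order 2^(2n+1) has a unique commutative subgroup of order 2^(2n), and this subgroup is isomorphic to the direct product of two cyclic groups of order 2^n. -/
theorem result {S : Type*} [Group S] [Finite S] (hS : Cfsg.IsWreathed S) (n : ℕ) (hn : Nat.card S = 2 ^ (2 * n + 1)) : (∃! U : Subgroup S, IsMulCommutative U ∧ Nat.card U = 2 ^ (2 * n)) ∧ ∀ U : Subgroup S, IsMulCommutative U → Nat.card U = 2 ^ (2 * n) → Nonempty (U ≃* Multiplicative (ZMod (2 ^ n) × ZMod (2 ^ n))) := by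
  obtain ⟨K, x, y, z, h, hn'⟩ := Wreathed.exists_gen hS
  obtain ⟨hn1, -, -, -, hn5⟩ := hn' n hn
  rw [hn1, hn5]
  have := Wreathed.finite h
  have := Wreathed.neZero h
  have hK := Wreathed.pos h
  have huniq : ∀ U : Subgroup S, IsMulCommutative U → Nat.card U = 16 * K ^ 2 →
      U = Wreathed.base h := by
    intro U hU hc
    have hcomm : ∀ g ∈ U, ∀ k ∈ U, g * k = k * g := fun g hg k hk =>
      congrArg Subtype.val (mul_comm' (⟨g, hg⟩ : U) ⟨k, hk⟩)
    refine Subgroup.eq_of_le_of_card_ge ?_ (by rw [hc, Wreathed.base_card h])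
    by_contra hle
    obtain ⟨w, hw, hwb⟩ := SetLike.not_le_iff_exists.1 hle
    rcases Wreathed.normal_form h w with ⟨a, b, rfl⟩ | ⟨a, b, rfl⟩
    · exact hwb (Wreathed.W_mem_base h a b)
    have hsub : U ⊓ Wreathed.base h ≤ Subgroup.center S := by
      rintro g ⟨hgU, ⟨c, d, rfl⟩⟩
      exact Wreathed.diag_mem_center h c d ((Wreathed.commute_iff h a b c d).1 (hcomm _ hgU _ hw))
    have h1 := Subgroup.card_le_of_le hsub
    rw [Wreathed.center_eq h, Nat.card_zpowers, Wreathed.orderOf_W_one h] at h1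
    have h3 : (Wreathed.base h).relIndex U ≤ 2 := by
      have := Subgroup.normal_of_index_eq_two (Wreathed.base_index h)
      refine Nat.le_of_dvd two_pos ?_
      have := Subgroup.relIndex_dvd_index_of_normal (Wreathed.base h) U
      rwa [Wreathed.base_index h] at this
    have h4 := Subgroup.relIndex_mul_relIndex (⊥ : Subgroup S) (U ⊓ Wreathed.base h) U bot_le inf_le_left
    rw [Subgroup.relIndex_bot_left, Subgroup.relIndex_bot_left, Subgroup.inf_relIndex_left, hc] at h4
    nlinarith [Nat.mul_le_mul h1 h3]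
  refine ⟨⟨Wreathed.base h, ⟨⟨⟨fun g k => Subtype.ext (Wreathed.base_comm h g.2 k.2)⟩⟩,
    Wreathed.base_card h⟩, fun U hU => huniq U hU.1 hU.2⟩, fun U hU hc => ?_⟩
  obtain rfl := huniq U hU hc
  exact ⟨(MulEquiv.subgroupCongr (Wreathed.base_eq_range h)).trans
    (MonoidHom.ofInjective (Wreathed.uHom_injective h)).symm⟩

end Cfsg.Agent.S1196
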