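import Cfsg.Statements.S1197
import Mathlib
import Cfsg.Agent.Lib.Involution.Wreathed
-- import your own Cfsg.Agent.* helpers here

set_option autoImplicit false
open Cfsg

namespace Cfsg.Agent.S1197

open CfsgLib.Involution CfsgLib.Involution.Wreathed in
/-- Let S be a wreathed 2-group of order 2^(2n+1). Then Z(S) is cyclic of order 2^n, the derived subgroup S' is cyclic of order 2^n, and S/Z(S) is isomorphic to the dihedral group of order 2^(n+1). -/
theorem result {S : Type*} [Group S] [Finite S] (hS : Cfsg.IsWreathed S) (n : ℕ) (hn : Nat.card S = 2 ^ (2 * n + 1)) : IsCyclic (Subgroup.center S) ∧ Nat.card (Subgroup.center S) = 2 ^ n ∧ IsCyclic (commutator S) ∧ Nat.card (commutator S) = 2 ^ n ∧ Nonempty (S ⧸ Subgroup.center S ≃* DihedralGroup (2 ^ n)) := by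
  obtain ⟨K, x, y, z, h, hn'⟩ := Wreathed.exists_gen hS
  obtain ⟨hn1, -⟩ := hn' n hn
  rw [hn1]
  have := Wreathed.finite h
  have := Wreathed.neZero h
  have hK := Wreathed.pos h
  have hcard : Nat.card (Subgroup.center S) = 4 * K := by
    rw [Wreathed.center_eq h, Nat.card_zpowers, Wreathed.orderOf_W_one h]
  refine ⟨by rw [Wreathed.center_eq h]; infer_instance, hcard,
    by rw [Wreathed.commutator_eq h]; infer_instance,
    by rw [Wreathed.commutator_eq h, Nat.card_zpowers, Wreathed.orderOf_W_one h], ?_⟩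
  let π := QuotientGroup.mk' (Subgroup.center S)
  have hr : π (W x y 1 0) ^ (4 * K) = 1 := by
    rw [← map_pow, ← Wreathed.orderOf_W_one h 0, pow_orderOf_eq_one, map_one]
  have hs : π z * π z = 1 := by rw [← map_mul, Wreathed.zz h, map_one]
  have hconj : π z * π (W x y 1 0) * (π z)⁻¹ = (π (W x y 1 0))⁻¹ := by
    rw [← map_inv, ← map_mul, ← map_mul, Wreathed.conj_W h, eq_inv_iff_mul_eq_one, ← map_mul,
      Wreathed.W_mul h]
    exact (QuotientGroup.eq_one_iff _).2 ((Wreathed.mem_center_iff h _).2 ⟨1, by norm_num⟩)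
  have hinj : Function.Injective (TwoGroupLifts.dihedralHom _ _ hr hs hconj) := by
    refine TwoGroupLifts.dihedralHom_injective hr hs hconj ?_ ?_
    · rw [orderOf_eq_iff (by omega)]
      refine ⟨hr, fun m hm hm0 he => ?_⟩
      rw [← map_pow] at he
      obtain ⟨a, ha⟩ := (Wreathed.mem_center_iff h _).1 ((QuotientGroup.eq_one_iff _).1 he)
      rw [← zpow_natCast, Wreathed.W_zpow h, Wreathed.W_eq_iff h] at ha
      have h1 : 4 * (K : ℤ) ∣ (m : ℤ) := by
        convert Int.dvd_sub ha.1 ha.2 using 1; ring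
      have h2 : 4 * K ∣ m := by exact_mod_cast h1
      have := Nat.le_of_dvd hm0 h2
      omega
    · rintro ⟨i, hi⟩
      have hi' : π (W x y 1 0) ^ i = π z := hi
      rw [← map_zpow] at hi'
      have h1 := QuotientGroup.eq.1 hi'
      obtain ⟨a, ha⟩ := (Wreathed.mem_center_iff h _).1 h1
      rw [Wreathed.W_zpow h, Wreathed.W_inv h] at ha
      exact Wreathed.W_ne_Wz h _ _ _ _ ha.symm
  refine ⟨(MulEquiv.ofBijective _ ((Nat.bijective_iff_injective_and_card _).2 ⟨hinj, ?_⟩)).symm⟩
  have h5 := (Subgroup.center S).card_eq_card_quotient_mul_card_subgroup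
  rw [h.card, hcard] at h5
  rw [DihedralGroup.nat_card]
  refine Nat.eq_of_mul_eq_mul_right (show 0 < 4 * K by omega) ?_
  rw [← h5]; ring

end Cfsg.Agent.S1197
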