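import Cfsg.Statements.S1198
import Mathlib
import Cfsg.Agent.Lib.Involution.Wreathed
-- import your own Cfsg.Agent.* helpers here

set_option autoImplicit false
open Cfsg

namespace Cfsg.Agent.S1198

open CfsgLib.Involution CfsgLib.Involution.Wreathed in
/-- A wreathed 2-group S has a normal Klein four-subgroup T such that every Klein four-subgroup of S other than T is conjugate in S to any other such subgroup; in particular S has exactly two conjugacy classes of Klein four-subgroups. -/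
theorem result {S : Type*} [Group S] [Finite S] (hS : Cfsg.IsWreathed S) : ∃ T : Subgroup S, IsKleinFour T ∧ T.Normal ∧ (∃ T₀ : Subgroup S, IsKleinFour T₀ ∧ T₀ ≠ T) ∧ ∀ T₁ T₂ : Subgroup S, IsKleinFour T₁ → IsKleinFour T₂ → T₁ ≠ T → T₂ ≠ T → ∃ s : S, T₁.map (MulAut.conj s).toMonoidHom = T₂ := by
  obtain ⟨K, x, y, z, h, -⟩ := Wreathed.exists_gen hS
  have := Wreathed.finite h
  have hK := Wreathed.pos h
  have ha1 := Wreathed.W_ne_one_of h (a := 2 * K) (b := 0) (Or.inl ⟨rfl, Or.inl rfl⟩)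
  have hb1 := Wreathed.W_ne_one_of h (a := 0) (b := 2 * K) (Or.inr ⟨rfl, rfl⟩)
  have hz1 := Wreathed.W_ne_one_of h (a := 2 * K) (b := 2 * K) (Or.inl ⟨rfl, Or.inr rfl⟩)
  have haa : W x y (2 * K) 0 * W x y (2 * K) 0 = 1 := (Wreathed.W_sq_eq_one_iff h _ _).2 (by simp)
  have hbb : W x y 0 (2 * K) * W x y 0 (2 * K) = 1 := (Wreathed.W_sq_eq_one_iff h _ _).2 (by simp)
  have hzz : W x y (2 * K) (2 * K) * W x y (2 * K) (2 * K) = 1 :=
    (Wreathed.W_sq_eq_one_iff h _ _).2 (by simp)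
  have hab := Wreathed.base_comm h (Wreathed.W_mem_base h (2 * K) 0) (Wreathed.W_mem_base h 0 (2 * K))
  have hprod : W x y (2 * K) 0 * W x y 0 (2 * K) = W x y (2 * K) (2 * K) := by
    rw [Wreathed.W_mul h, add_zero, zero_add]
  have hne : W x y (2 * K) 0 ≠ W x y 0 (2 * K) := fun he => by
    rw [← hprod, ← he] at hz1; exact hz1 haa
  let T := TwoGroupLifts.fourGroup _ _ haa hbb hab
  have hT : IsKleinFour T := TwoGroupLifts.isKleinFour_of_four ha1 hb1 hne haa hbb hab fun g => Iff.rfl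
  have hcz : W x y (2 * K) (2 * K) ∈ Subgroup.center S := Wreathed.diag_mem_center h _ _ (by simp)
  have hzc : W x y (2 * K) (2 * K) * z = z * W x y (2 * K) (2 * K) :=
    (Subgroup.mem_center_iff.1 hcz z).symm
  let T₀ := TwoGroupLifts.fourGroup _ _ hzz (Wreathed.zz h) hzc
  have hz0 : z ≠ 1 := fun he => by have := h.ordz; rw [he, orderOf_one] at this; omega
  have hT₀ : IsKleinFour T₀ := TwoGroupLifts.isKleinFour_of_four hz1 hz0
    (fun he => Wreathed.z_notMem h (he ▸ Wreathed.W_mem_base h _ _)) hzz (Wreathed.zz h) hzc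
    fun g => Iff.rfl
  have hTb : T ≤ Wreathed.base h := by
    rintro g (rfl | rfl | rfl | rfl)
    · exact one_mem _
    · exact Wreathed.W_mem_base h _ _
    · exact Wreathed.W_mem_base h _ _
    · exact mul_mem (Wreathed.W_mem_base h _ _) (Wreathed.W_mem_base h _ _)
  refine ⟨T, hT, ⟨fun g hg k => ?_⟩, ⟨T₀, hT₀, fun he => ?_⟩, fun T₁ T₂ h₁ h₂ n₁ n₂ => ?_⟩
  · have hb' : k * g * k⁻¹ ∈ Wreathed.base h :=
      (Subgroup.normal_of_index_eq_two (Wreathed.base_index h)).conj_mem _ (hTb hg) k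
    obtain ⟨a, b, hab'⟩ := hb'
    rw [TwoGroupLifts.mem_fourGroup, hab', hprod]
    refine Wreathed.base_sq_eq_one h ?_
    rw [← hab', conj_mul, TwoGroupLifts.mul_self_of_isKleinFour hT hg, mul_one, mul_inv_cancel]
  · have hzT : z ∈ T₀ := Or.inr (Or.inr (Or.inl rfl))
    rw [he] at hzT
    exact Wreathed.z_notMem h (hTb hzT)
  · have key : ∀ T' : Subgroup S, IsKleinFour T' → T' ≠ T → ¬ T' ≤ Wreathed.base h := by
      intro T' h' hne' hle
      refine hne' (Subgroup.eq_of_le_of_card_ge (fun g hg => ?_) ?_)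
      · rw [TwoGroupLifts.mem_fourGroup, hprod]
        exact Wreathed.four_in_base h h' hle g hg
      · rw [h'.card_four, hT.card_four]
    obtain ⟨hz₁, a₁, hw₁, hall₁⟩ := Wreathed.four_outside h h₁ (key _ h₁ n₁)
    obtain ⟨hz₂, a₂, hw₂, hall₂⟩ := Wreathed.four_outside h h₂ (key _ h₂ n₂)
    refine ⟨W x y (a₂ - a₁) 0,
      TwoGroupLifts.map_conj_eq (fun g hg => ?_) (by rw [h₁.card_four, h₂.card_four])⟩
    have hfix : W x y (a₂ - a₁) 0 * W x y (2 * K) (2 * K) * (W x y (a₂ - a₁) 0)⁻¹ =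
        W x y (2 * K) (2 * K) := by
      rw [Subgroup.mem_center_iff.1 hcz, mul_inv_cancel_right]
    rcases hall₁ g hg with rfl | rfl | rfl | rfl
    · simp
    · rw [hfix]; exact hz₂
    · rw [Wreathed.invol_conj h]; exact hw₂
    · rw [← conj_mul, hfix, Wreathed.invol_conj h]; exact mul_mem hz₂ hw₂

end Cfsg.Agent.S1198
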