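import Cfsg.Statements.S1199
import Mathlib
import Cfsg.Agent.Lib.Involution.Wreathed
-- import your own Cfsg.Agent.* helpers here

set_option autoImplicit false
open Cfsg

namespace Cfsg.Agent.S1199

open CfsgLib.Involution CfsgLib.Involution.Wreathed in
/-- A wreathed 2-group S of order 2^(2n+1) has exactly one subgroup of order 2^(n+1) isomorphic to a generalized quaternion group, and that subgroup is normal in S. -/
theorem result {S : Type*} [Group S] [Finite S] (hS : Cfsg.IsWreathed S) (n : ℕ) (hn : Nat.card S = 2 ^ (2 * n + 1)) : (∃! Y : Subgroup S, Nat.card Y = 2 ^ (n + 1) ∧ Nonempty (Y ≃* QuaternionGroup (2 ^ (n - 1)))) ∧ ∀ Y : Subgroup S, Nat.card Y = 2 ^ (n + 1) → Nonempty (Y ≃* QuaternionGroup (2 ^ (n - 1))) → Y.Normal := by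
  obtain ⟨K, x, y, z, h, hn'⟩ := Wreathed.exists_gen hS
  obtain ⟨-, hn2, hn3, -⟩ := hn' n hn
  rw [hn2, hn3]
  have := Wreathed.finite h
  have hK := Wreathed.pos h
  have : NeZero K := ⟨hK.ne'⟩
  have hsq : ∀ d : QuaternionGroup (2 * K), d * d = 1 → ∀ e, d * e = e * d := by
    rintro (i | i) hd (j | j)
    · simp [add_comm]
    · rw [QuaternionGroup.a_mul_a, QuaternionGroup.one_def, QuaternionGroup.a.injEq] at hd
      rw [QuaternionGroup.a_mul_xa, QuaternionGroup.xa_mul_a, QuaternionGroup.xa.injEq,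
        sub_eq_iff_eq_add, add_assoc, hd, add_zero]
    all_goals
      rw [QuaternionGroup.xa_mul_xa, QuaternionGroup.one_def, QuaternionGroup.a.injEq,
        add_sub_assoc, sub_self, add_zero, ZMod.natCast_eq_zero_iff] at hd
      have := Nat.le_of_dvd (by omega) hd
      omega
  have hcen : ∀ d : QuaternionGroup (2 * K), (∀ e, d * e = e * d) → d * d = 1 := by
    rintro (i | i) hd
    · have h1 := hd (QuaternionGroup.xa 0)
      rw [QuaternionGroup.a_mul_xa, QuaternionGroup.xa_mul_a, QuaternionGroup.xa.injEq, zero_sub,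
        zero_add, neg_eq_iff_add_eq_zero] at h1
      rw [QuaternionGroup.a_mul_a, h1]; exact QuaternionGroup.a_zero
    · have h1 := hd (QuaternionGroup.a 1)
      rw [QuaternionGroup.a_mul_xa, QuaternionGroup.xa_mul_a, QuaternionGroup.xa.injEq,
        eq_sub_iff_add_eq, add_assoc, add_eq_left, one_add_one_eq_two,
        show (2 : ZMod (2 * (2 * K))) = ((2 : ℕ) : ZMod (2 * (2 * K))) by norm_num,
        ZMod.natCast_eq_zero_iff] at h1
      have := Nat.le_of_dvd (by omega) h1
      omega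
  have huniq : ∀ Y : Subgroup S, Nonempty (Y ≃* QuaternionGroup (2 * K)) →
      Y = (Wreathed.qHom h).range := by
    rintro Y ⟨e⟩
    have hY : ¬ IsMulCommutative Y := by
      intro hc
      have h1 := congrArg e (mul_comm' (e.symm (QuaternionGroup.xa 0)) (e.symm (QuaternionGroup.a 1)))
      simp only [map_mul, MulEquiv.apply_symm_apply, QuaternionGroup.a_mul_xa,
        QuaternionGroup.xa_mul_a, QuaternionGroup.xa.injEq, zero_sub, zero_add] at h1
      rw [eq_neg_iff_add_eq_zero, one_add_one_eq_two,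
        show (2 : ZMod (2 * (2 * K))) = ((2 : ℕ) : ZMod (2 * (2 * K))) by norm_num,
        ZMod.natCast_eq_zero_iff] at h1
      have := Nat.le_of_dvd (by omega) h1
      omega
    have hcenY : ∀ g ∈ Y, (∀ k ∈ Y, g * k = k * g) → g * g = 1 := by
      intro g hg hcom
      have h1 : (⟨g, hg⟩ : Y) * ⟨g, hg⟩ = 1 := by
        apply e.injective
        rw [map_mul, map_one]
        refine hcen _ fun d => ?_
        obtain ⟨k, rfl⟩ := e.surjective d
        rw [← map_mul, ← map_mul]
        exact congrArg e (Subtype.ext (hcom k k.2))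
      exact congrArg Subtype.val h1
    have hsqY : ∀ g ∈ Y, g * g = 1 → ∀ k ∈ Y, g * k = k * g := by
      intro g hg hgg k hk
      have h1 : e ⟨g, hg⟩ * e ⟨g, hg⟩ = 1 := by
        rw [← map_mul, ← map_one e]; exact congrArg e (Subtype.ext hgg)
      have h2 := hsq _ h1 (e ⟨k, hk⟩)
      rw [← map_mul, ← map_mul] at h2
      exact congrArg Subtype.val (e.injective h2)
    have hcenS : ∀ g ∈ Y, g ∉ Wreathed.base h → ¬ ∀ k ∈ Y, g * k = k * g := by
      intro g hg hgb hcom
      obtain ⟨a, ha⟩ := (Wreathed.mem_center_iff h g).1 (Wreathed.center_le_of_nonabelian h hY hg hcom)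
      exact hgb (ha ▸ Wreathed.W_mem_base h a a)
    have hout : ∀ a b : ℤ, W x y a b * z ∈ Y → 4 * (K : ℤ) ∣ a + b - 2 * K := by
      intro a b hg
      have h2 : (W x y a b * z) * (W x y a b * z) ∈ Y := mul_mem hg hg
      rw [Wreathed.Wz_sq h] at h2
      have h4 := hcenY _ h2 fun k _ =>
        (Subgroup.mem_center_iff.1 (Wreathed.diag_mem_center h _ _ (by simp)) k).symm
      obtain ⟨hh, -⟩ := (Wreathed.W_sq_eq_one_iff h _ _).1 h4
      rcases Wreathed.half_cases h hh with h5 | h5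
      · rw [sub_zero] at h5
        exact absurd (hsqY _ hg ((Wreathed.Wz_sq_eq_one_iff h a b).2 h5))
          (hcenS _ hg (Wreathed.Wz_notMem h a b))
      · exact h5
    have hq : ∃ a b : ℤ, W x y a b * z ∈ Y := by
      by_contra hne
      push Not at hne
      apply hY
      have hle : ∀ g ∈ Y, g ∈ Wreathed.base h := by
        intro g hg
        rcases Wreathed.normal_form h g with ⟨a, b, rfl⟩ | ⟨a, b, rfl⟩
        · exact Wreathed.W_mem_base h a b
        · exact absurd hg (hne a b)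
      exact ⟨⟨fun g k => Subtype.ext (Wreathed.base_comm h (hle g g.2) (hle k k.2))⟩⟩
    obtain ⟨p, q, hpq⟩ := hq
    refine Subgroup.eq_of_le_of_card_ge (fun g hg => ?_) ?_
    · rw [Wreathed.mem_qHom_range]
      rcases Wreathed.normal_form h g with ⟨a, b, rfl⟩ | ⟨a, b, rfl⟩
      · have h1 := mul_mem hg hpq
        rw [Wreathed.W_mul_Wz h] at h1
        have h2 := Int.dvd_sub (hout _ _ h1) (hout _ _ hpq)
        refine ⟨a, Or.inl ((Wreathed.W_eq_iff h _ _ _ _).2 ⟨by simp, ?_⟩)⟩
        convert h2 using 1; ring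
      · refine ⟨a, Or.inr ?_⟩
        rw [mul_left_inj, Wreathed.W_eq_iff h]
        refine ⟨by simp, ?_⟩
        convert hout _ _ hg using 1; ring
    · rw [Wreathed.card_qHom_range h, Nat.card_congr e.toEquiv, Nat.card_eq_fintype_card,
        QuaternionGroup.card]
      omega
  refine ⟨⟨(Wreathed.qHom h).range, ⟨Wreathed.card_qHom_range h,
    ⟨(MonoidHom.ofInjective (Wreathed.qHom_injective h)).symm⟩⟩, fun Y hY => huniq Y hY.2⟩,
    fun Y hc hY => ?_⟩
  rw [huniq Y hY]
  refine ⟨fun g hg k => ?_⟩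
  rw [Wreathed.mem_qHom_range] at hg
  have hzc : ∀ a : ℤ, ∀ g, (g = W x y a (-a) ∨ g = W x y a (2 * K - a) * z) →
      ∃ b : ℤ, z * g * z⁻¹ = W x y b (-b) ∨ z * g * z⁻¹ = W x y b (2 * K - b) * z := by
    rintro a g (rfl | rfl)
    · exact ⟨-a, Or.inl (by rw [Wreathed.conj_W h]; congr 1; ring)⟩
    · exact ⟨2 * K - a, Or.inr (by rw [Wreathed.z_conj_Wz h]; congr 2; ring)⟩
  have hWc : ∀ c d a : ℤ, ∀ g, (g = W x y a (-a) ∨ g = W x y a (2 * K - a) * z) →
      ∃ b : ℤ, W x y c d * g * (W x y c d)⁻¹ = W x y b (-b) ∨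
        W x y c d * g * (W x y c d)⁻¹ = W x y b (2 * K - b) * z := by
    rintro c d a g (rfl | rfl)
    · refine ⟨a, Or.inl ?_⟩
      rw [Wreathed.W_inv h, Wreathed.W_mul h, Wreathed.W_mul h]; congr 1 <;> ring
    · exact ⟨a + c - d, Or.inr (by rw [Wreathed.W_conj_Wz h]; congr 2; ring)⟩
  rw [Wreathed.mem_qHom_range]
  obtain ⟨a, ha⟩ := hg
  rcases Wreathed.normal_form h k with ⟨c, d, rfl⟩ | ⟨c, d, rfl⟩
  · exact hWc c d a g ha
  · obtain ⟨b, hb⟩ := hzc a g ha
    have he : W x y c d * z * g * (W x y c d * z)⁻¹ = W x y c d * (z * g * z⁻¹) * (W x y c d)⁻¹ := by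
      group
    rw [he]; exact hWc c d b _ hb

end Cfsg.Agent.S1199
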