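import Cfsg.Statements.S1200
import Mathlib
import Cfsg.Agent.Lib.Involution.Wreathed
-- import your own Cfsg.Agent.* helpers here

set_option autoImplicit false
open Cfsg

namespace Cfsg.Agent.S1200

open CfsgLib.Involution CfsgLib.Involution.Wreathed in
/-- Let S be a wreathed 2-group of order 2^(2n+1) and Ω the subgroup generated by its involutions. Then Ω has order 2^(n+2) and S/Ω is cyclic: some s ∈ S together with Ω generates S. -/
theorem result {S : Type*} [Group S] [Finite S] (hS : Cfsg.IsWreathed S) (n : ℕ) (hn : Nat.card S = 2 ^ (2 * n + 1)) : Nat.card (Subgroup.closure {x : S | orderOf x = 2}) = 2 ^ (n + 2) ∧ ∃ s : S, Subgroup.closure {x : S | orderOf x = 2} ⊔ Subgroup.zpowers s = ⊤ := by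
  obtain ⟨K, x, y, z, h, hn'⟩ := Wreathed.exists_gen hS
  obtain ⟨-, -, -, hn4, -⟩ := hn' n hn
  rw [hn4, Wreathed.closure_involutions h]
  exact ⟨Wreathed.omega_card h, x, Wreathed.omega_sup h⟩

end Cfsg.Agent.S1200
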