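import Cfsg.Statements.S1201
import Mathlib
import Cfsg.Agent.Lib.Involution.Wreathed
-- import your own Cfsg.Agent.* helpers here

set_option autoImplicit false
open Cfsg

namespace Cfsg.Agent.S1201

open CfsgLib.Involution CfsgLib.Involution.Wreathed in
/-- If X is a non-commutative subgroup of a wreathed 2-group S, then Z(X) ≤ Z(S). -/
theorem result {S : Type*} [Group S] [Finite S] (hS : Cfsg.IsWreathed S) (X : Subgroup S) (hX : ¬ IsMulCommutative X) : (Subgroup.center X).map X.subtype ≤ Subgroup.center S := by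
  obtain ⟨K, x, y, z, h, -⟩ := Wreathed.exists_gen hS
  rintro _ ⟨⟨c, hc⟩, hcc, rfl⟩
  rw [SetLike.mem_coe, Subgroup.mem_center_iff] at hcc
  exact Wreathed.center_le_of_nonabelian h hX hc fun g hg =>
    (congrArg Subtype.val (hcc ⟨g, hg⟩)).symm

end Cfsg.Agent.S1201
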