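import Cfsg.Statements.S1202
import Mathlib
import Cfsg.Agent.Lib.Involution.WreathedAut
-- import your own Cfsg.Agent.* helpers here

set_option autoImplicit false
open Cfsg

namespace Cfsg.Agent.S1202

open CfsgLib.Involution CfsgLib.Involution.Wreathed in
/-- Let S be a wreathed 2-group of order 2^(2n+1) and X a subgroup with C_S(X) ≤ X such that Aut(X) is not a 2-group. Then |N_S(X) : X| = 2, and either X is the commutative subgroup of order 2^(2n), or X = Q·Z(S) for some subgroup Q ≅ Q₈; in the latter case any two such subgroups are conjugate in S. -/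
theorem result {S : Type*} [Group S] [Finite S] (hS : Cfsg.IsWreathed S) (n : ℕ) (hn : Nat.card S = 2 ^ (2 * n + 1)) (X : Subgroup S) (hC : Subgroup.centralizer (X : Set S) ≤ X) (hA : ¬ IsPGroup 2 (MulAut X)) : X.relIndex (Subgroup.normalizer (X : Set S)) = 2 ∧ ((IsMulCommutative X ∧ Nat.card X = 2 ^ (2 * n)) ∨ ∃ Q : Subgroup S, Nonempty (Q ≃* QuaternionGroup 2) ∧ X = Q ⊔ Subgroup.center S) ∧ ∀ X' : Subgroup S, Subgroup.centralizer (X' : Set S) ≤ X' → ¬ IsPGroup 2 (MulAut X') → ¬ IsMulCommutative X → ¬ IsMulCommutative X' → ∃ s : S, X.map (MulAut.conj s).toMonoidHom = X' := by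
  obtain ⟨K, x, y, z, h, hn'⟩ := Wreathed.exists_gen hS
  obtain ⟨-, -, -, -, hn5⟩ := hn' n hn
  rw [hn5]
  have := Wreathed.finite h
  have hK := Wreathed.pos h
  have hbase : ∀ Y : Subgroup S, Y = Wreathed.base h → IsMulCommutative Y := by
    rintro Y rfl
    exact ⟨⟨fun g k => Subtype.ext (Wreathed.base_comm h g.2 k.2)⟩⟩
  rcases WreathedAut.cases_of_aut h hC hA with hXb | ⟨t, rfl⟩
  · refine ⟨?_, Or.inl ⟨hbase X hXb, by rw [hXb, Wreathed.base_card h]⟩,
      fun X' _ _ hne => absurd (hbase X hXb) hne⟩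
    rw [hXb]
    have := Subgroup.normal_of_index_eq_two (Wreathed.base_index h)
    rw [Subgroup.normalizer_eq_top, Subgroup.relIndex_top_right, Wreathed.base_index h]
  refine ⟨?_, Or.inr ?_, fun X' hC' hA' _ hne' => ?_⟩
  · rw [Subgroup.relIndex_eq_two_iff_exists_notMem_and]
    refine ⟨W x y (K : ℤ) 0, ?_, ?_, fun b hb => ?_⟩
    · refine TwoGroupLifts.mem_normalizer_of_conj_mem fun g hg => ?_
      obtain ⟨c, d, ⟨hcd, rfl⟩ | ⟨hcd, rfl⟩⟩ := hg
      · rw [Wreathed.W_inv h, Wreathed.W_mul h, Wreathed.W_mul h, WreathedAut.W_mem_sub_iff h]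
        convert hcd using 1; ring
      · rw [Wreathed.W_conj_Wz h, WreathedAut.Wz_mem_sub_iff h]
        convert Int.dvd_add hcd (dvd_refl (2 * (K : ℤ))) using 1; ring
    · rw [WreathedAut.W_mem_sub_iff h]
      rintro ⟨q, hq⟩
      have h2 : (K : ℤ) * (1 - 2 * q) = 0 := by linarith
      rcases mul_eq_zero.1 h2 with h3 | h3 <;> omega
    · have key : ∀ c d : ℤ, W x y c d ∈ Subgroup.normalizer (WreathedAut.sub h t : Set S) →
          W x y c d * W x y (K : ℤ) 0 ∈ WreathedAut.sub h t ∨ W x y c d ∈ WreathedAut.sub h t := by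
        intro c d hcd
        have hw : W x y t (-t) * z ∈ WreathedAut.sub h t :=
          (WreathedAut.Wz_mem_sub_iff h _ _ _).2 (by simp [two_mul])
        have h1 := (Subgroup.mem_normalizer_iff.1 hcd _).1 hw
        rw [Wreathed.W_conj_Wz h, WreathedAut.Wz_mem_sub_iff h] at h1
        obtain ⟨q, hq⟩ := h1
        rw [Wreathed.W_mul h, WreathedAut.W_mem_sub_iff h, WreathedAut.W_mem_sub_iff h]
        obtain ⟨r, rfl | rfl⟩ := Int.even_or_odd' q
        · exact Or.inr ⟨r, by linarith⟩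
        · exact Or.inl ⟨r + 1, by linarith⟩
      rcases Wreathed.normal_form h b with ⟨c, d, rfl⟩ | ⟨c, d, rfl⟩
      · exact key c d hb
      · have hw : W x y t (-t) * z ∈ WreathedAut.sub h t :=
          (WreathedAut.Wz_mem_sub_iff h _ _ _).2 (by simp [two_mul])
        have h1 := mul_mem hb (Subgroup.le_normalizer hw)
        rw [Wreathed.Wz_mul_Wz h] at h1
        rcases key _ _ h1 with h2 | h2
        · left
          rw [Wreathed.W_mul h, WreathedAut.W_mem_sub_iff h] at h2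
          rw [Wreathed.Wz_mul_W h, WreathedAut.Wz_mem_sub_iff h]
          convert Int.dvd_sub h2 (dvd_refl (2 * (K : ℤ))) using 1; ring
        · right
          rw [WreathedAut.W_mem_sub_iff h] at h2
          rw [WreathedAut.Wz_mem_sub_iff h]
          convert h2 using 1; ring
  · have hr : W x y (K : ℤ) (-K) ^ (2 * 2) = 1 := by
      rw [← zpow_natCast, Wreathed.W_zpow h, Wreathed.W_eq_one_iff h]
      exact ⟨⟨1, by norm_num⟩, ⟨-1, by norm_num⟩⟩
    have hs : W x y (t + K) (K - t) * z * (W x y (t + K) (K - t) * z) = W x y (K : ℤ) (-K) ^ 2 := by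
      rw [Wreathed.Wz_sq h, ← zpow_natCast, Wreathed.W_zpow h, Wreathed.W_eq_iff h]
      exact ⟨⟨0, by push_cast; ring⟩, ⟨1, by push_cast; ring⟩⟩
    have hconj : W x y (t + K) (K - t) * z * W x y (K : ℤ) (-K) * (W x y (t + K) (K - t) * z)⁻¹ =
        (W x y (K : ℤ) (-K))⁻¹ := by
      rw [Wreathed.Wz_inv h, Wreathed.Wz_mul_W h, Wreathed.Wz_mul_Wz h, Wreathed.W_inv h]
      congr 1 <;> ring
    have hord : orderOf (W x y (K : ℤ) (-K)) = 2 * 2 := by
      have : Fact (Nat.Prime 2) := ⟨Nat.prime_two⟩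
      refine orderOf_eq_prime_pow (p := 2) (n := 1) ?_ (by simpa using hr)
      rw [pow_one, ← zpow_natCast, Wreathed.W_zpow h, Wreathed.W_eq_one_iff h]
      rintro ⟨⟨q, hq⟩, -⟩
      have h2 : (K : ℤ) * (1 - 2 * q) = 0 := by push_cast at hq; linarith
      rcases mul_eq_zero.1 h2 with h3 | h3 <;> omega
    have hinj := TwoGroupLifts.quaternionHom_injective (m := 2) hr hs hconj hord
      (Wreathed.Wz_notMem_zpowers h _ _ _ _)
    refine ⟨(TwoGroupLifts.quaternionHom (m := 2) _ _ hr hs hconj).range,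
      ⟨(MonoidHom.ofInjective hinj).symm⟩, le_antisymm ?_ ?_⟩
    · have hrmem : ∀ k : ℤ, W x y (K : ℤ) (-K) ^ k ∈
          (TwoGroupLifts.quaternionHom (m := 2) _ _ hr hs hconj).range := fun k =>
        ⟨QuaternionGroup.a (k : ℤ), TwoGroupLifts.zp_intCast hr k⟩
      have hsmem : W x y (t + K) (K - t) * z ∈
          (TwoGroupLifts.quaternionHom (m := 2) _ _ hr hs hconj).range :=
        ⟨QuaternionGroup.xa 0, by
          change W x y (t + K) (K - t) * z *
            TwoGroupLifts.zp (W x y (K : ℤ) (-K)) (0 : ZMod (2 * 2)) = _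
          rw [TwoGroupLifts.zp_zero, mul_one]⟩
      have hV : ∀ c d : ℤ, 2 * (K : ℤ) ∣ c - d → W x y c d ∈
          (TwoGroupLifts.quaternionHom (m := 2) _ _ hr hs hconj).range ⊔ Subgroup.center S := by
        rintro c d ⟨q, hq⟩
        have he : W x y c d = W x y (K : ℤ) (-K) ^ q * W x y (c - K * q) (c - K * q) := by
          rw [Wreathed.W_zpow h, Wreathed.W_mul h]; congr 1 <;> linarith
        rw [he]
        exact mul_mem (Subgroup.mem_sup_left (hrmem q))
          (Subgroup.mem_sup_right ((Wreathed.mem_center_iff h _).2 ⟨_, rfl⟩))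
      rintro _ ⟨c, d, ⟨hcd, rfl⟩ | ⟨hcd, rfl⟩⟩
      · exact hV c d hcd
      · have he : W x y c d * z = W x y (c - (t + K)) (d - (K - t)) * (W x y (t + K) (K - t) * z) := by
          rw [Wreathed.W_mul_Wz h]; congr 2 <;> ring
        rw [he]
        exact mul_mem (hV _ _ (by convert hcd using 1; ring)) (Subgroup.mem_sup_left hsmem)
    · refine sup_le ?_ fun g hg => ?_
      · rintro _ ⟨d, rfl⟩
        have hrX : W x y (K : ℤ) (-K) ∈ WreathedAut.sub h t :=
          (WreathedAut.W_mem_sub_iff h _ _ _).2 ⟨1, by ring⟩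
        rcases d with i | i
        · exact pow_mem hrX _
        · exact mul_mem ((WreathedAut.Wz_mem_sub_iff h _ _ _).2 ⟨0, by ring⟩) (pow_mem hrX _)
      · obtain ⟨a, rfl⟩ := (Wreathed.mem_center_iff h g).1 hg
        exact (WreathedAut.W_mem_sub_iff h _ _ _).2 ⟨0, by ring⟩
  · rcases WreathedAut.cases_of_aut h hC' hA' with hXb | ⟨t', rfl⟩
    · exact absurd (hbase X' hXb) hne'
    refine ⟨W x y (t' - t) 0, le_antisymm ?_ ?_⟩
    · rintro _ ⟨g, hg, rfl⟩
      obtain ⟨c, d, ⟨hcd, rfl⟩ | ⟨hcd, rfl⟩⟩ := hg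
      · refine ⟨c, d, Or.inl ⟨hcd, ?_⟩⟩
        simp only [MulEquiv.coe_toMonoidHom, MulAut.conj_apply, Wreathed.W_inv h, Wreathed.W_mul h]
        congr 1 <;> ring
      · refine ⟨_, _, Or.inr ⟨?_, Wreathed.W_conj_Wz h c d _ _⟩⟩
        convert hcd using 1; ring
    · rintro _ ⟨c, d, ⟨hcd, rfl⟩ | ⟨hcd, rfl⟩⟩
      · refine ⟨W x y c d, (WreathedAut.W_mem_sub_iff h _ _ _).2 hcd, ?_⟩
        simp only [MulEquiv.coe_toMonoidHom, MulAut.conj_apply, Wreathed.W_inv h, Wreathed.W_mul h]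
        congr 1 <;> ring
      · refine ⟨W x y (c - (t' - t)) (d + (t' - t)) * z,
          (WreathedAut.Wz_mem_sub_iff h _ _ _).2 (by convert hcd using 1; ring), ?_⟩
        simp only [MulEquiv.coe_toMonoidHom, MulAut.conj_apply]
        rw [Wreathed.W_conj_Wz h]
        congr 2 <;> ring

end Cfsg.Agent.S1202
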