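import Cfsg.Statements.S1212
import Mathlib
import Cfsg.Agent.Lib.Involution.WreathedFusionTheorems
-- import your own Cfsg.Agent.* helpers here

set_option autoImplicit false
open Cfsg

namespace Cfsg.Agent.S1212

/-- Let G be a finite group whose Sylow 2-subgroup S is wreathed of order 2^(2n+1), U the commutative subgroup of index 2 in S, Q a quaternion subgroup of order 8 of S and V = Q Z(S). If |N_G(U) : C_G(U)| = 2 and |N_G(V) : V C_G(V)| = 2, then G has a normal 2-complement and exactly three conjugacy classes of involutions. -/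
theorem result {G : Type*} [Group G] [Finite G] (S : Sylow 2 G) (hS : Cfsg.IsWreathed (S : Subgroup G)) (n : ℕ) (hn : Nat.card S = 2 ^ (2 * n + 1)) (U : Subgroup G) (hUS : U ≤ S) (hUab : IsMulCommutative U) (hUcard : Nat.card U = 2 ^ (2 * n)) (Q : Subgroup G) (hQS : Q ≤ S) (eQ : Q ≃* QuaternionGroup 2) (h₁ : (Subgroup.centralizer (U : Set G)).relIndex (Subgroup.normalizer (U : Set G)) = 2) (h₂ : ((Q ⊔ ((Subgroup.center (S : Subgroup G)).map (S : Subgroup G).subtype)) ⊔ Subgroup.centralizer ((Q ⊔ ((Subgroup.center (S : Subgroup G)).map (S : Subgroup G).subtype) : Subgroup G) : Set G)).relIndex (Subgroup.normalizer ((Q ⊔ ((Subgroup.center (S : Subgroup G)).map (S : Subgroup G).subtype) : Subgroup G) : Set G)) = 2) : Cfsg.HasNormalPComplement 2 G ∧ Nat.card {C : ConjClasses G // ∃ t : G, orderOf t = 2 ∧ ConjClasses.mk t = C} = 3 := by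
  obtain ⟨K, x, y, z, h, hcalc⟩ := CfsgLib.Involution.Wreathed.exists_gen hS
  haveI : NeZero K := ⟨(CfsgLib.Involution.Wreathed.pos h).ne'⟩
  obtain rfl : U = CfsgLib.Involution.WreathedFusion.ub h := CfsgLib.Involution.WreathedFusion.eq_ub h hUS
    (fun a ha b hb => congrArg Subtype.val (hUab.is_comm.comm ⟨a, ha⟩ ⟨b, hb⟩))
    (hUcard.trans (hcalc n hn).2.2.2.2)
  rw [CfsgLib.Involution.WreathedFusion.center_map h] at *
  have hU : ¬ CfsgLib.Involution.WreathedFusion.FusedU x y K := fun hf => by
    have := (CfsgLib.Involution.WreathedFusion.u_index h).2.2 hf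
    omega
  have hV : ¬ CfsgLib.Involution.WreathedFusion.FusedV x y z K := fun hf => by
    have := (CfsgLib.Involution.WreathedFusion.v_index h eQ hQS).2.1.2 hf
    omega
  exact ⟨CfsgLib.Involution.WreathedFusion.nilpotent_case h hU hV, CfsgLib.Involution.WreathedFusion.three_classes h hU hV⟩

end Cfsg.Agent.S1212
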