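import Cfsg.Statements.S1219
import Mathlib
import Cfsg.Agent.Lib.Involution.PSL3Involution
-- import your own Cfsg.Agent.* helpers here

set_option autoImplicit false
open scoped MatrixGroups
open Cfsg

namespace Cfsg.Agent.S1219

/-- Let F be a finite field of odd order q and t an involution of PSL(3,F). Then C(t) is isomorphic to the quotient of GL(2,F) by a central subgroup of order gcd(q−1, 3). -/
theorem result {F : Type*} [Field F] [Fintype F] (hF : Odd (Fintype.card F)) (t : Matrix.ProjectiveSpecialLinearGroup (Fin 3) F) (ht : orderOf t = 2) : ∃ (Z : Subgroup (GL (Fin 2) F)) (_ : Z.Normal), Z ≤ Subgroup.center (GL (Fin 2) F) ∧ Nat.card Z = Nat.gcd (Fintype.card F - 1) 3 ∧ Nonempty (↥(Subgroup.centralizer ({t} : Set (Matrix.ProjectiveSpecialLinearGroup (Fin 3) F))) ≃* GL (Fin 2) F ⧸ Z) := by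
  refine CfsgLib.Involution.PSL3Involution.centralizer_iso ?_ t ht
  intro h
  have h1 : ringChar F ∣ 2 := ringChar.dvd (R := F) (by exact_mod_cast h)
  have h2 : ringChar F = 2 := ((Nat.dvd_prime Nat.prime_two).1 h1).resolve_left CharP.ringChar_ne_one
  obtain ⟨n, -, hn⟩ := FiniteField.card F (ringChar F)
  rw [hn, h2] at hF
  exact Nat.not_odd_iff_even.2 (even_two.pow_of_ne_zero n.ne_zero) hF

end Cfsg.Agent.S1219
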