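import Cfsg.Statements.S1226
import Mathlib
import Cfsg.Agent.Lib.Involution.Basic
-- import your own Cfsg.Agent.* helpers here

set_option autoImplicit false
open Cfsg

namespace Cfsg.Agent.S1226

/-- Let G be a finite group with a Sylow 2-subgroup T that is neither cyclic nor normal, such that the centralizer of every involution is an elementary abelian 2-group. Then N_G(T) is a strongly embedded subgroup of G. -/
theorem result {G : Type*} [Group G] [Finite G] (T : Sylow 2 G) (hnc : ¬ IsCyclic (T : Subgroup G)) (hnn : ¬ (T : Subgroup G).Normal) (hC : ∀ t : G, orderOf t = 2 → IsMulCommutative (Subgroup.centralizer ({t} : Set G)) ∧ ∀ c ∈ Subgroup.centralizer ({t} : Set G), c ^ 2 = 1) : Cfsg.IsStronglyEmbedded (Subgroup.normalizer ((T : Subgroup G) : Set G)) := by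
  haveI : Fact (Nat.Prime 2) := ⟨Nat.prime_two⟩
  have hT1 : Nontrivial (T : Subgroup G) := by
    by_contra h
    rw [not_nontrivial_iff_subsingleton] at h
    exact hnc (isCyclic_of_subsingleton)
  haveI := T.2.center_nontrivial
  have hev : 2 ∣ Nat.card (Subgroup.center (T : Subgroup G)) := by
    obtain ⟨e, he, hh⟩ :=
      (T.2.to_subgroup (Subgroup.center (T : Subgroup G))).nontrivial_iff_card.1 inferInstance
    rw [hh]; exact dvd_pow_self 2 (by omega)
  obtain ⟨z, hz⟩ := exists_prime_orderOf_dvd_card' 2 hev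
  have hzo : orderOf (((z : (T : Subgroup G)) : G)) = 2 := by
    rw [Subgroup.orderOf_coe, Subgroup.orderOf_coe]; exact hz
  have hTz : ∀ c ∈ T, c ∈ Subgroup.centralizer ({((z : (T : Subgroup G)) : G)} : Set G) :=
    fun c hc => Subgroup.mem_centralizer_singleton_iff.2
      (congrArg Subtype.val (Subgroup.mem_center_iff.1 z.2 ⟨c, hc⟩))
  obtain ⟨hzc, hzsq⟩ := hC _ hzo
  have hTcomm : ∀ a ∈ T, ∀ b ∈ T, a * b = b * a := fun a ha b hb =>
    congrArg Subtype.val (hzc.is_comm.comm ⟨a, hTz a ha⟩ ⟨b, hTz b hb⟩)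
  -- the centraliser of an involution of `T` is `T`
  have hCT : ∀ t ∈ T, orderOf t = 2 → Subgroup.centralizer ({t} : Set G) = (T : Subgroup G) := by
    intro t ht ht2
    refine T.3 ?_ fun c hc => Subgroup.mem_centralizer_singleton_iff.2 (hTcomm c hc t ht)
    intro c
    exact ⟨1, Subtype.ext (by rw [SubgroupClass.coe_pow, pow_one]; exact (hC t ht2).2 c.1 c.2)⟩
  have hNT : ∀ s ∈ Subgroup.normalizer ((T : Subgroup G) : Set G), orderOf s = 2 → s ∈ T := by
    intro s hs hs2
    have hsup : IsPGroup 2 ↥((T : Subgroup G) ⊔ Subgroup.zpowers s) :=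
      IsPGroup.to_sup_of_normal_left' T.2 (CfsgLib.Involution.Basic.isPGroup_zpowers_of_two hs2)
        (Subgroup.zpowers_le.2 hs)
    have := T.3 hsup le_sup_left
    have hm : s ∈ (T : Subgroup G) ⊔ Subgroup.zpowers s := Subgroup.mem_sup_right (Subgroup.mem_zpowers s)
    rwa [this] at hm
  refine ⟨fun h => hnn (Subgroup.normalizer_eq_top_iff.1 h), ?_, fun g hg => ?_⟩
  · exact CfsgLib.Involution.Basic.even_of_involution_mem _ (Subgroup.le_normalizer z.1.2) hzo
  · refine Nat.not_even_iff_odd.1 fun he => hg ?_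
    obtain ⟨s, ⟨hs, t, ht, rfl⟩, hs2⟩ := CfsgLib.Involution.Basic.exists_involution_of_even _ he
    have hs2' : orderOf (g * t * g⁻¹) = 2 := hs2
    have ht2 : orderOf t = 2 := (CfsgLib.Involution.Dihedral.orderOf_conj g t).symm.trans hs2'
    have h1 := hCT _ (hNT _ hs hs2') hs2'
    have h2 := hCT t (hNT t ht ht2) ht2
    rw [Subgroup.mem_normalizer_iff]
    intro x
    change x ∈ (T : Subgroup G) ↔ g * x * g⁻¹ ∈ (T : Subgroup G)
    conv_lhs => rw [← h2]
    conv_rhs => rw [← h1]
    rw [Subgroup.mem_centralizer_singleton_iff, Subgroup.mem_centralizer_singleton_iff]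
    change x * t = t * x ↔ g * x * g⁻¹ * (g * t * g⁻¹) = g * t * g⁻¹ * (g * x * g⁻¹)
    constructor <;> intro h
    · calc g * x * g⁻¹ * (g * t * g⁻¹) = g * (x * t) * g⁻¹ := by group
        _ = g * (t * x) * g⁻¹ := by rw [h]
        _ = g * t * g⁻¹ * (g * x * g⁻¹) := by group
    · calc x * t = g⁻¹ * (g * x * g⁻¹ * (g * t * g⁻¹)) * g := by group
        _ = g⁻¹ * (g * t * g⁻¹ * (g * x * g⁻¹)) * g := by rw [h]
        _ = t * x := by group

end Cfsg.Agent.S1226
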