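import Cfsg.Statements.S1233
import Cfsg.Agent.Lib.LocalEvenB.SelfCentralEight.QuaternionPair

set_option autoImplicit false
open Cfsg

namespace Cfsg.Agent.S1233

open CfsgLib.LocalEvenB.SelfCentralEight.QuaternionPair

theorem quat_facts : ∀ x y : QuaternionGroup 2,
    (x * y * x⁻¹ * y⁻¹ = 1 ∨ x * y * x⁻¹ * y⁻¹ = QuaternionGroup.a 2) ∧
    QuaternionGroup.a 2 * x = x * QuaternionGroup.a 2 ∧
    ((∀ w, x * w = w * x) → x = 1 ∨ x = QuaternionGroup.a 2) := by
  decide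

theorem quat_rel : (QuaternionGroup.a 1 : QuaternionGroup 2) * QuaternionGroup.a 1 = QuaternionGroup.a 2 ∧
    (QuaternionGroup.xa 0 : QuaternionGroup 2) * QuaternionGroup.xa 0 = QuaternionGroup.a 2 ∧
    (QuaternionGroup.a 2 : QuaternionGroup 2) * QuaternionGroup.a 2 = 1 ∧
    (QuaternionGroup.a 2 : QuaternionGroup 2) ≠ 1 ∧
    (QuaternionGroup.xa 0 : QuaternionGroup 2) * QuaternionGroup.a 1 =
      QuaternionGroup.a 2 * QuaternionGroup.a 1 * QuaternionGroup.xa 0 ∧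
    (QuaternionGroup.a 1 : QuaternionGroup 2) ≠ QuaternionGroup.xa 0 ∧
    (QuaternionGroup.a 1 : QuaternionGroup 2) ≠ QuaternionGroup.a 2 * QuaternionGroup.xa 0 ∧
    (QuaternionGroup.a 1 : QuaternionGroup 2) ≠ QuaternionGroup.a 1 * QuaternionGroup.xa 0 ∧
    (QuaternionGroup.a 1 : QuaternionGroup 2) ≠ QuaternionGroup.a 2 * (QuaternionGroup.a 1 * QuaternionGroup.xa 0) := by
  decide

theorem setup {S : Type*} [Group S] [Finite S] (Q Q₁ Q₂ : Subgroup S) (e₁ : Q₁ ≃* QuaternionGroup 2)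
    (e₂ : Q₂ ≃* QuaternionGroup 2) (hcomm : ∀ a ∈ Q₁, ∀ b ∈ Q₂, a * b = b * a) (hQ : Q₁ ⊔ Q₂ = Q)
    (hQ32 : Nat.card Q = 32) :
    ∃ z i j k l : Q, z ≠ 1 ∧ Pairs z i j k l ∧ Pairs z i j l (k * l) ∧
      ((i : S) ∉ ({(j : S), (z : S) * j} : Set S)) ∧
      ((i : S) ∉ ({(i : S) * j, (z : S) * ((i : S) * j)} : Set S)) ∧
      (j : S) * i = z * i * j := by
  obtain ⟨r1, r2, r3, r4, r5, r6, r7, r8, r9⟩ := quat_rel
  have hQ1 : Q₁ ≤ Q := hQ ▸ le_sup_left
  have hQ2 : Q₂ ≤ Q := hQ ▸ le_sup_right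
  let f1 : QuaternionGroup 2 →* Q := (Subgroup.inclusion hQ1).comp e₁.symm.toMonoidHom
  let f2 : QuaternionGroup 2 →* Q := (Subgroup.inclusion hQ2).comp e₂.symm.toMonoidHom
  have hf1 : Function.Injective f1 := (Subgroup.inclusion_injective hQ1).comp e₁.symm.injective
  have hf2 : Function.Injective f2 := (Subgroup.inclusion_injective hQ2).comp e₂.symm.injective
  have hc : ∀ x y, f1 x * f2 y = f2 y * f1 x := fun x y =>
    Subtype.ext (hcomm _ (e₁.symm x).2 _ (e₂.symm y).2)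
  have hgen : f1.range ⊔ f2.range = ⊤ := by
    refine Subgroup.map_injective Q.subtype_injective ?_
    rw [Subgroup.map_sup, ← MonoidHom.range_eq_map, Q.range_subtype]
    refine le_antisymm (sup_le ?_ ?_) (le_trans hQ.ge (sup_le_sup ?_ ?_))
    · rintro _ ⟨_, ⟨x, rfl⟩, rfl⟩; exact (f1 x).2
    · rintro _ ⟨_, ⟨x, rfl⟩, rfl⟩; exact (f2 x).2
    · intro x hx; exact ⟨f1 (e₁ ⟨x, hx⟩), ⟨_, rfl⟩, by simp [f1]⟩
    · intro x hx; exact ⟨f2 (e₂ ⟨x, hx⟩), ⟨_, rfl⟩, by simp [f2]⟩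
  let F : QuaternionGroup 2 × QuaternionGroup 2 →* Q :=
    { toFun := fun p => f1 p.1 * f2 p.2
      map_one' := by simp
      map_mul' := fun p q => by
        simp only [Prod.fst_mul, Prod.snd_mul, map_mul]
        calc f1 p.1 * f1 q.1 * (f2 p.2 * f2 q.2) = f1 p.1 * (f1 q.1 * f2 p.2) * f2 q.2 := by group
          _ = _ := by rw [hc]; group }
  have hsur : Function.Surjective F := by
    intro q
    have hle : f1.range ⊔ f2.range ≤ F.range := sup_le
      (by rintro _ ⟨x, rfl⟩; exact ⟨(x, 1), by simp [F]⟩)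
      (by rintro _ ⟨x, rfl⟩; exact ⟨(1, x), by simp [F]⟩)
    rw [hgen] at hle
    exact hle (Subgroup.mem_top q)
  have hninj : ¬ Function.Injective F := fun h => by
    have h1 := Nat.card_le_card_of_injective F h
    rw [hQ32, Nat.card_prod, Nat.card_eq_fintype_card, QuaternionGroup.card] at h1
    omega
  obtain ⟨x, y, hxy, hxy1⟩ : ∃ x y, f1 x = f2 y ∧ x ≠ 1 := by
    rw [← MonoidHom.ker_eq_bot_iff, Subgroup.eq_bot_iff_forall] at hninj
    push_neg at hninj
    obtain ⟨p, hp, hp1⟩ := hninj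
    have hp' : f1 p.1 * f2 p.2 = 1 := hp
    refine ⟨p.1, p.2⁻¹, by rw [map_inv]; exact eq_inv_of_mul_eq_one_left hp', fun h => hp1 ?_⟩
    rw [h, map_one, one_mul] at hp'
    exact Prod.ext h (hf2 (by rw [hp']; exact (map_one f2).symm))
  have hx : x = QuaternionGroup.a 2 :=
    ((quat_facts x x).2.2 (fun w => hf1 (by rw [map_mul, map_mul, hxy]; exact (hc w y).symm))).resolve_left hxy1
  have hy1 : y ≠ 1 := fun h => hxy1 (hf1 (by rw [hxy, h, map_one, map_one]))
  have hy : y = QuaternionGroup.a 2 :=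
    ((quat_facts y y).2.2 (fun w => hf2 (by rw [map_mul, map_mul, ← hxy]; exact hc x w))).resolve_left hy1
  subst hx; subst hy
  set z : Q := f1 (QuaternionGroup.a 2) with hz
  have hcomm' : ∀ g h : Q, g * h * g⁻¹ * h⁻¹ ∈ Subgroup.zpowers z := by
    intro g h
    obtain ⟨⟨g1, g2⟩, rfl⟩ := hsur g
    obtain ⟨⟨h1, h2⟩, rfl⟩ := hsur h
    have he : F (g1, g2) * F (h1, h2) * (F (g1, g2))⁻¹ * (F (h1, h2))⁻¹ =
        f1 (g1 * h1 * g1⁻¹ * h1⁻¹) * f2 (g2 * h2 * g2⁻¹ * h2⁻¹) := by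
      rw [← map_inv, ← map_inv, ← map_mul, ← map_mul, ← map_mul]
      rfl
    rw [he]
    refine mul_mem ?_ ?_
    · rcases (quat_facts g1 h1).1 with h | h <;> rw [h]
      · rw [map_one]; exact one_mem _
      · exact Subgroup.mem_zpowers z
    · rcases (quat_facts g2 h2).1 with h | h <;> rw [h]
      · rw [map_one]; exact one_mem _
      · rw [← hxy]; exact Subgroup.mem_zpowers z
  have hzc : ∀ g : Q, g * z = z * g := by
    intro g
    obtain ⟨⟨g1, g2⟩, rfl⟩ := hsur g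
    show f1 g1 * f2 g2 * z = z * (f1 g1 * f2 g2)
    rw [mul_assoc, hz, ← hc, ← mul_assoc, ← map_mul, ← (quat_facts g1 g1).2.1, map_mul, mul_assoc]
  have hne : z ≠ 1 := fun h => r4 (hf1 (by rw [map_one]; exact h))
  have hzz : z * z = 1 := by rw [hz, ← map_mul, r3, map_one]
  have P : Pairs z (f1 (.a 1)) (f1 (.xa 0)) (f2 (.a 1)) (f2 (.xa 0)) :=
    ⟨hzz, hne, hzc, hcomm', by rw [← map_mul, r1], by rw [← map_mul, r2],
      by rw [← map_mul, r1, hxy], by rw [← map_mul, r2, hxy],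
      by rw [hz, ← map_mul, ← map_mul, ← map_mul, r5],
      by rw [hxy, ← map_mul, ← map_mul, ← map_mul, r5], hc _ _, hc _ _, hc _ _, hc _ _⟩
  refine ⟨z, f1 (.a 1), f1 (.xa 0), f2 (.a 1), f2 (.xa 0), hne, P,
    ⟨hzz, hne, hzc, hcomm', P.ii, P.jj, P.ll, ?_, P.ji, ?_, hc _ _, ?_, hc _ _, ?_⟩, ?_, ?_,
    congrArg Subtype.val P.ji⟩
  · rw [← map_mul, ← map_mul, hxy]
    exact congrArg f2 (by decide)
  · rw [hxy, ← map_mul, ← map_mul, ← map_mul, ← map_mul]
    exact congrArg f2 (by decide)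
  · rw [← map_mul]; exact hc _ _
  · rw [← map_mul]; exact hc _ _
  · rintro (h | h)
    · exact r6 (hf1 (Subtype.ext h))
    · exact r7 (hf1 (Subtype.ext (by rw [map_mul]; exact h)))
  · rintro (h | h)
    · exact r8 (hf1 (Subtype.ext (by rw [map_mul]; exact h)))
    · exact r9 (hf1 (Subtype.ext (by rw [map_mul, map_mul]; exact h)))

theorem cycle {S : Type*} [Group S] [Finite S] (h2 : IsPGroup 2 S) {z i j k l t1 t2 : S}
    (hzz : z * z = 1) (hzi : i * z = z * i) (hzj : j * z = z * j) (hzk : k * z = z * k) (hzl : l * z = z * l)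
    (hii : i * i = z) (hjj : j * j = z) (hji : j * i = z * i * j) (hnotj : i ∉ ({j, z * j} : Set S))
    (hnotij : i ∉ ({i * j, z * (i * j)} : Set S)) (ht1 : t1 * z = z * t1)
    (hi1 : ∃ c ∈ Subgroup.zpowers z, t1 * i * t1⁻¹ = c * k) (hj1 : ∃ c ∈ Subgroup.zpowers z, t1 * j * t1⁻¹ = c * l)
    (ht2 : t2 * z = z * t2)
    (hi2 : ∃ c ∈ Subgroup.zpowers z, t2 * i * t2⁻¹ = c * l)
    (hj2 : ∃ c ∈ Subgroup.zpowers z, t2 * j * t2⁻¹ = c * (k * l)) : False := by
  have hZ : ∀ c ∈ Subgroup.zpowers z, c = 1 ∨ c = z := by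
    intro c hc
    obtain ⟨n, rfl⟩ := Subgroup.mem_zpowers_iff.mp hc
    rcases Int.even_or_odd' n with ⟨t, rfl | rfl⟩
    · left; rw [zpow_mul, zpow_two, hzz, one_zpow]
    · right; rw [zpow_add_one, zpow_mul, zpow_two, hzz, one_zpow, one_mul]
  let rel : S → S → Prop := fun x y => x = y ∨ x = z * y
  have hsym : ∀ {x y}, rel x y → rel y x := fun {x y} h => h.elim (fun h => Or.inl h.symm)
    (fun h => Or.inr (by rw [h, ← mul_assoc, hzz, one_mul]))
  have htr : ∀ {x y w}, rel x y → rel y w → rel x w := fun {x y w} h h' => by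
    rcases h with rfl | rfl
    · exact h'
    · rcases h' with rfl | rfl
      · exact Or.inr rfl
      · exact Or.inl (by rw [← mul_assoc, hzz, one_mul])
  have hconj : ∀ (g : S), g * z = z * g → ∀ {x y}, rel x y → rel (g * x * g⁻¹) (g * y * g⁻¹) := by
    intro g hg x y h
    rcases h with rfl | rfl
    · exact Or.inl rfl
    · exact Or.inr (by rw [← mul_assoc g z y, hg]; group)
  have hmul : ∀ {x x' y y'}, y * z = z * y → rel x y → rel x' y' → rel (x * x') (y * y') := by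
    intro x x' y y' hy h h'
    rcases h with rfl | rfl <;> rcases h' with rfl | rfl
    · exact Or.inl rfl
    · exact Or.inr (by rw [← mul_assoc, hy]; group)
    · exact Or.inr (by rw [mul_assoc])
    · exact Or.inl (by rw [show z * y * (z * y') = z * (y * z) * y' by group, hy,
        show z * (z * y) * y' = z * z * (y * y') by group, hzz, one_mul])
  have hof : ∀ {t x y : S}, (∃ c ∈ Subgroup.zpowers z, t * x * t⁻¹ = c * y) → rel (t * x * t⁻¹) y := by
    rintro t x y ⟨c, hc, h⟩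
    rcases hZ c hc with rfl | rfl
    · exact Or.inl (by rw [h, one_mul])
    · exact Or.inr h
  let g := t1⁻¹ * t2
  have ht1' : t1⁻¹ * z = z * t1⁻¹ := (show Commute t1 z from ht1).inv_left
  have hgz : g * z = z * g := by
    show t1⁻¹ * t2 * z = z * (t1⁻¹ * t2)
    rw [mul_assoc, ht2, ← mul_assoc, ht1', mul_assoc]
  have hback : ∀ {x y : S}, rel (t1 * x * t1⁻¹) y → rel (t1⁻¹ * y * t1) x := fun {x y} h => by
    have h1 := hconj t1⁻¹ ht1' (hsym h)
    rw [inv_inv] at h1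
    simpa [mul_assoc] using h1
  have hg : ∀ {x y w : S}, rel (t2 * x * t2⁻¹) y → rel (t1⁻¹ * y * t1) w → rel (g * x * g⁻¹) w := by
    intro x y w h h'
    have h1 := hconj t1⁻¹ ht1' h
    rw [inv_inv] at h1
    have h3 : g * x * g⁻¹ = t1⁻¹ * (t2 * x * t2⁻¹) * t1 := by simp only [g]; group
    rw [h3]
    exact htr h1 h'
  have gi : rel (g * i * g⁻¹) j := hg (hof hi2) (hback (hof hj1))
  have gj : rel (g * j * g⁻¹) (i * j) := by
    refine hg (hof hj2) (hback ?_)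
    rw [show t1 * (i * j) * t1⁻¹ = (t1 * i * t1⁻¹) * (t1 * j * t1⁻¹) by group]
    exact hmul hzk (hof hi1) (hof hj1)
  have gij : rel (g * (i * j) * g⁻¹) i := by
    rw [show g * (i * j) * g⁻¹ = (g * i * g⁻¹) * (g * j * g⁻¹) by group]
    refine htr (hmul hzj gi gj) (Or.inl ?_)
    rw [show j * (i * j) = (j * i) * j by group, hji]
    calc z * i * j * j = z * i * (j * j) := by group
      _ = z * (i * z) := by rw [hjj]; group
      _ = _ := by rw [hzi, ← mul_assoc, hzz, one_mul]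
  have hstep : ∀ n : ℕ, rel (g ^ n * i * (g ^ n)⁻¹) (if n % 3 = 0 then i else if n % 3 = 1 then j else i * j) := by
    intro n
    induction n with
    | zero => exact Or.inl (by simp)
    | succ n ih =>
      have h1 := hconj g hgz ih
      have h3 : g ^ (n + 1) * i * (g ^ (n + 1))⁻¹ = g * (g ^ n * i * (g ^ n)⁻¹) * g⁻¹ := by
        rw [pow_succ']; group
      rw [h3]
      refine htr h1 ?_
      rcases (show n % 3 = 0 ∨ n % 3 = 1 ∨ n % 3 = 2 by omega) with h | h | h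
      · simp only [h, show (n + 1) % 3 = 1 by omega]; exact gi
      · simp only [h, show (n + 1) % 3 = 2 by omega]; exact gj
      · simp only [h, show (n + 1) % 3 = 0 by omega]; exact gij
  obtain ⟨m, hm⟩ := h2 g
  have h1 := hstep (2 ^ m)
  rw [hm, one_mul, inv_one, mul_one] at h1
  have h3 : 2 ^ m % 3 ≠ 0 := fun h =>
    absurd (Nat.prime_three.dvd_of_dvd_pow (Nat.dvd_of_mod_eq_zero h)) (by norm_num)
  rw [if_neg h3] at h1
  split_ifs at h1 with h4
  · exact hnotj h1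
  · exact hnotij h1

/-- Let S be a finite 2-group and Q a subgroup of order 32 generated by two elementwise-commuting subgroups Q₁, Q₂ each isomorphic to the quaternion group of order 8 (so Q = Q₁ ∗ Q₂). If C_S(Q) ≤ Q, then every section of S has 2-rank at most 4. -/
theorem result {S : Type*} [Group S] [Finite S] (hS : IsPGroup 2 S) (Q Q₁ Q₂ : Subgroup S) (e₁ : Q₁ ≃* QuaternionGroup 2) (e₂ : Q₂ ≃* QuaternionGroup 2) (hcomm : ∀ a ∈ Q₁, ∀ b ∈ Q₂, a * b = b * a) (hQ : Q₁ ⊔ Q₂ = Q) (hQ32 : Nat.card Q = 32) (hC : Subgroup.centralizer (Q : Set S) ≤ Q) : Cfsg.SectionalPRankLE 2 4 S := by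
  obtain ⟨z, i, j, k, l, hne', P, P', hnotj, hnotij, hji⟩ := setup Q Q₁ Q₂ e₁ e₂ hcomm hQ hQ32
  rcases CfsgLib.LocalEvenB.SelfCentralEight.QuaternionPair.pairing hS Q hQ32 hC P with h | ⟨t1, ht1z, hi1, hj1⟩
  · exact h
  rcases CfsgLib.LocalEvenB.SelfCentralEight.QuaternionPair.pairing hS Q hQ32 hC P' with h | ⟨t2, ht2z, hi2, hj2⟩
  · exact h
  exfalso
  exact cycle hS (z := (z : S)) (i := (i : S)) (j := (j : S)) (k := (k : S)) (l := (l : S))
    (congrArg Subtype.val P.zz) (congrArg Subtype.val (P.zc i)) (congrArg Subtype.val (P.zc j))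
    (congrArg Subtype.val (P.zc k)) (congrArg Subtype.val (P.zc l)) (congrArg Subtype.val P.ii) (congrArg Subtype.val P.jj) hji
    hnotj hnotij ht1z hi1 hj1 ht2z hi2 hj2

end Cfsg.Agent.S1233
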