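import Cfsg.Statements.S1234
import Cfsg.Agent.Lib.LocalEvenB.SelfCentralEight.Main

set_option autoImplicit false
open Cfsg

namespace Cfsg.Agent.S1234

/-- Let S be a finite 2-group and Q ≤ S a subgroup of order 32 having an elementary abelian subgroup E of order 16 and an involution s ∉ E whose centralizer in E has order 4 (so Q ≅ (Z₂ × Z₂) ≀ Z₂). If C_S(Z(Q)) = Q, then every section of S has 2-rank at most 4. -/
theorem result {S : Type*} [Group S] [Finite S] (hS : IsPGroup 2 S) (Q E : Subgroup S) (hEQ : E ≤ Q) (hE : Cfsg.IsElementaryAbelian 2 E) (hE16 : Nat.card E = 16) (hQ32 : Nat.card Q = 32) (s : S) (hsQ : s ∈ Q) (hsE : s ∉ E) (hs : orderOf s = 2) (hfix : Nat.card ↥(E ⊓ Subgroup.centralizer ({s} : Set S)) = 4) (hC : Subgroup.centralizer (((Subgroup.center Q).map Q.subtype : Subgroup S) : Set S) = Q) : Cfsg.SectionalPRankLE 2 4 S := by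
  obtain ⟨hEc, hE2⟩ := hE
  have hss : s * s = 1 := by rw [← pow_two, ← hs, pow_orderOf_eq_one]
  have hcE : ∀ x ∈ E, ∀ y ∈ E, x * y = y * x := fun x hx y hy =>
    congrArg Subtype.val (hEc.is_comm.comm ⟨x, hx⟩ ⟨y, hy⟩)
  have hidx : (E.subgroupOf Q).index = 2 := by
    have h := CfsgLib.LocalEvenB.SelfCentralEight.Sections.relIndex_mul_card hEQ
    rw [hE16, hQ32] at h
    show E.relIndex Q = 2
    omega
  let A : Subgroup S := Q ⊓ Subgroup.centralizer ({s} : Set S)
  have hsA : s ∈ A := Subgroup.mem_inf.mpr ⟨hsQ, Subgroup.mem_centralizer_singleton_iff.mpr rfl⟩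
  have hcases : ∀ q ∈ A, q ∈ E ⊓ Subgroup.centralizer ({s} : Set S) ∨
      q * s ∈ E ⊓ Subgroup.centralizer ({s} : Set S) := by
    intro q hq
    obtain ⟨hqQ, hqs⟩ := Subgroup.mem_inf.mp hq
    by_cases hqE : q ∈ E
    · exact Or.inl (Subgroup.mem_inf.mpr ⟨hqE, hqs⟩)
    · refine Or.inr (Subgroup.mem_inf.mpr ⟨?_, Subgroup.mul_mem _ hqs (Subgroup.mem_inf.mp hsA).2⟩)
      exact (Subgroup.mul_mem_iff_of_index_two hidx (a := ⟨q, hqQ⟩) (b := ⟨s, hsQ⟩)).mpr
        (iff_of_false (fun h => hqE h) (fun h => hsE h))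
  have hsplit : ∀ q : S, q = q * s * s := fun q => by rw [mul_assoc, hss, mul_one]
  have hcs : ∀ q ∈ A, Commute q s := fun q hq =>
    Subgroup.mem_centralizer_singleton_iff.mp (Subgroup.mem_inf.mp hq).2
  have hcx : ∀ x ∈ A, ∀ u ∈ E ⊓ Subgroup.centralizer ({s} : Set S), Commute x u := by
    intro x hx u hu
    obtain ⟨huE, hus⟩ := Subgroup.mem_inf.mp hu
    rcases hcases x hx with h | h
    · exact hcE x (Subgroup.mem_inf.mp h).1 u huE
    · rw [hsplit x]
      exact Commute.mul_left (hcE _ (Subgroup.mem_inf.mp h).1 u huE)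
        (show Commute u s from Subgroup.mem_centralizer_singleton_iff.mp hus).symm
  have hAc : ∀ x ∈ A, ∀ y ∈ A, x * y = y * x := by
    intro x hx y hy
    rcases hcases y hy with h | h
    · exact hcx x hx y h
    · rw [hsplit y]
      exact Commute.mul_right (hcx x hx _ h) (hcs x hx)
  have hA2 : ∀ x ∈ A, x * x = 1 := by
    intro x hx
    rcases hcases x hx with h | h
    · exact (pow_two x).symm.trans (hE2 x (Subgroup.mem_inf.mp h).1)
    · have h1 := (pow_two (x * s)).symm.trans (hE2 _ (Subgroup.mem_inf.mp h).1)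
      have h2 : x * s * (x * s) = x * x * (s * s) := by
        calc x * s * (x * s) = x * (s * x) * s := by group
          _ = x * (x * s) * s := by rw [(hcs x hx).eq]
          _ = _ := by group
      rwa [h2, hss, mul_one] at h1
  have hA8 : Nat.card A = 8 := by
    have hle : E ⊓ Subgroup.centralizer ({s} : Set S) ≤ A := inf_le_inf_right _ hEQ
    have hi : (E ⊓ Subgroup.centralizer ({s} : Set S)).relIndex A = 2 := by
      refine Subgroup.index_eq_two_iff.mpr ⟨⟨s, hsA⟩, fun q => ?_⟩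
      simp only [Subgroup.mem_subgroupOf, Subgroup.coe_mul]
      rcases hcases q.1 q.2 with h | h
      · refine Or.inr ⟨h, fun h' => hsE ?_⟩
        simpa using E.mul_mem (E.inv_mem (Subgroup.mem_inf.mp h).1) (Subgroup.mem_inf.mp h').1
      · refine Or.inl ⟨h, fun h' => hsE ?_⟩
        simpa using E.mul_mem (E.inv_mem (Subgroup.mem_inf.mp h').1) (Subgroup.mem_inf.mp h).1
    have h := CfsgLib.LocalEvenB.SelfCentralEight.Sections.relIndex_mul_card hle
    rw [hi, hfix] at h
    omega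
  refine CfsgLib.LocalEvenB.SelfCentralEight.Main.sectional_le_four hS A hAc hA2 hA8 fun u hu => ?_
  refine Subgroup.mem_inf.mpr ⟨?_, Subgroup.mem_centralizer_singleton_iff.mpr
    (Subgroup.mem_centralizer_iff.mp hu s hsA).symm⟩
  rw [← hC]
  refine Subgroup.mem_centralizer_iff.mpr fun v hv => Subgroup.mem_centralizer_iff.mp hu v ?_
  obtain ⟨w, hw, rfl⟩ := Subgroup.mem_map.mp hv
  exact Subgroup.mem_inf.mpr ⟨w.2, Subgroup.mem_centralizer_singleton_iff.mpr
    (congrArg Subtype.val (Subgroup.mem_center_iff.mp hw ⟨s, hsQ⟩)).symm⟩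

end Cfsg.Agent.S1234
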