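import Cfsg.Statements.S1235
import Cfsg.Agent.Lib.LocalEvenB.SelfCentralEight.Product

set_option autoImplicit false
open Cfsg

namespace Cfsg.Agent.S1235

theorem klein_sq {G : Type*} [Group G] (B : Subgroup G) [IsKleinFour B] (x : G) (hx : x ∈ B) :
    x * x = 1 :=
  congrArg Subtype.val (IsKleinFour.mul_self (⟨x, hx⟩ : B))

theorem klein_comm {G : Type*} [Group G] (B : Subgroup G) [IsKleinFour B] (x : G) (hx : x ∈ B)
    (y : G) (hy : y ∈ B) : x * y = y * x := by
  have h1 := klein_sq B _ (mul_mem hx hy)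
  have h2 := eq_inv_of_mul_eq_one_right h1
  rw [h2, mul_inv_rev, inv_eq_of_mul_eq_one_right (klein_sq B x hx), inv_eq_of_mul_eq_one_right (klein_sq B y hy)]

theorem cyclic_half {G : Type*} [Group G] [Finite G] (D : Subgroup G)
    (hD : (∃ m : ℕ, 2 ≤ m ∧ Nonempty (D ≃* DihedralGroup m)) ∨ Cfsg.IsQuasiDihedral D) :
    ∃ R : Subgroup D, IsCyclic R ∧ R.index ≤ 2 := by
  have key : ∀ (r : D) (k : ℕ), orderOf r = k → 0 < k → Nat.card D = 2 * k →
      ∃ R : Subgroup D, IsCyclic R ∧ R.index ≤ 2 := by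
    intro r k hr hk hc
    refine ⟨Subgroup.zpowers r, inferInstance, ?_⟩
    have h := (Subgroup.zpowers r).card_mul_index
    rw [Nat.card_zpowers, hr, hc] at h
    exact (Nat.eq_of_mul_eq_mul_left hk (h.trans (mul_comm 2 k))).le
  rcases hD with ⟨m, hm, ⟨e⟩⟩ | ⟨n, hn, hc, x, y, hx, -, -⟩
  · refine key (e.symm (DihedralGroup.r 1)) m ?_ (by omega) ?_
    · rw [MulEquiv.orderOf_eq, DihedralGroup.orderOf_r_one]
    · rw [Nat.card_congr e.toEquiv, DihedralGroup.nat_card]
  · exact key x _ hx (by positivity) (by rw [hc, pow_succ, mul_comm])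

theorem abelian_case {G : Type*} [Group G] [Finite G] (D : Subgroup G)
    (hD : (∃ m : ℕ, 2 ≤ m ∧ Nonempty (D ≃* DihedralGroup m)) ∨ Cfsg.IsQuasiDihedral D)
    (hc : ∀ p q : D, p * q = q * p) : Nat.card D = 4 ∧ ∀ x : D, x * x = 1 := by
  rcases hD with ⟨m, hm, ⟨e⟩⟩ | ⟨n, hn, -, x, y, hx, -, hxy⟩
  · have h := congrArg e (hc (e.symm (DihedralGroup.sr 0)) (e.symm (DihedralGroup.r 1)))
    simp only [map_mul, MulEquiv.apply_symm_apply, DihedralGroup.sr_mul_r, DihedralGroup.r_mul_sr,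
      DihedralGroup.sr.injEq] at h
    have h2 : ((2 : ℕ) : ZMod m) = 0 := by
      push_cast
      linear_combination h
    have hm2 : m = 2 := le_antisymm (Nat.le_of_dvd (by norm_num) ((ZMod.natCast_eq_zero_iff 2 m).mp h2)) hm
    subst hm2
    refine ⟨by rw [Nat.card_congr e.toEquiv, DihedralGroup.nat_card], fun w => e.injective ?_⟩
    rw [map_mul, map_one]
    exact (by decide : ∀ g : DihedralGroup 2, g * g = 1) _
  · exfalso
    have hyx : y * x * y⁻¹ = x := by rw [hc y x, mul_inv_cancel_right]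
    rw [hyx] at hxy
    have h1 : x ^ (2 ^ (n - 1) - 1 - 1) = 1 := by
      have hle : 1 ≤ 2 ^ (n - 1) - 1 := by
        have : 2 ^ 1 ≤ 2 ^ (n - 1) := Nat.pow_le_pow_right (by norm_num) (by omega)
        omega
      rw [show 2 ^ (n - 1) - 1 = (2 ^ (n - 1) - 1 - 1) + 1 by omega, pow_succ] at hxy
      exact mul_eq_right.mp hxy.symm
    have h2 := orderOf_dvd_of_pow_eq_one h1
    have h3 : 2 ^ 2 ≤ 2 ^ (n - 1) := Nat.pow_le_pow_right (by norm_num) (by omega)
    have h4 := Nat.le_of_dvd (by omega) h2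
    rw [hx] at h4
    have : 2 ^ (n - 1) ≤ 2 ^ n := Nat.pow_le_pow_right (by norm_num) (by omega)
    omega

theorem centralizer_le {G : Type*} [Group G] [Finite G] {T S : Subgroup G} (hTS : T ≤ S) (hS : IsPGroup 2 S)
    {b : G} (hb : T ≤ Subgroup.centralizer ({b} : Set G) ∧ Odd (T.relIndex (Subgroup.centralizer ({b} : Set G))))
    {g : G} (hgb : g * b = b * g) (hgS : g ∈ S) : g ∈ T := by
  haveI : Fact (Nat.Prime 2) := ⟨Nat.prime_two⟩
  set C : Subgroup G := Subgroup.centralizer ({b} : Set G) with hC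
  have hle : T ≤ S ⊓ C := le_inf hTS hb.1
  obtain ⟨n, hn⟩ := (hS.to_le (inf_le_left : S ⊓ C ≤ S)).index (T.subgroupOf (S ⊓ C))
  have hdvd : T.relIndex (S ⊓ C) ∣ T.relIndex C :=
    ⟨(S ⊓ C).relIndex C, (Subgroup.relIndex_mul_relIndex T (S ⊓ C) C hle inf_le_right).symm⟩
  have hodd := hb.2.of_dvd_nat hdvd
  have hn0 : T.relIndex (S ⊓ C) = 2 ^ n := hn
  rw [hn0] at hodd
  have hn1 : n = 0 := by
    by_contra h
    exact (Nat.not_even_iff_odd.mpr hodd) ((Nat.even_pow).mpr ⟨even_two, h⟩)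
  rw [hn1, pow_zero, Subgroup.relIndex_eq_one] at hn0
  exact hn0 (Subgroup.mem_inf.mpr ⟨hgS, Subgroup.mem_centralizer_singleton_iff.mpr hgb⟩)

/-- Let G be a finite group, x an involution and T ≤ G a Sylow 2-subgroup of C_G(x) (T ≤ C_G(x) with |C_G(x) : T| odd) which is the internal direct product of a subgroup D that is dihedral (of order ≥ 4) or quasi-dihedral and a Klein four-subgroup B. Suppose that for every involution b ∈ B, T ≤ C_G(b) with |C_G(b) : T| odd. Then every section of G has 2-rank at most 4. -/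
theorem result {G : Type*} [Group G] [Finite G] (x : G) (hx : orderOf x = 2) (T D B : Subgroup G) (hT : IsPGroup 2 T) (hTx : T ≤ Subgroup.centralizer ({x} : Set G)) (hTxi : Odd (T.relIndex (Subgroup.centralizer ({x} : Set G)))) (hprod : Cfsg.IsInternalDirectProduct D B T) (hD : (∃ m : ℕ, 2 ≤ m ∧ Nonempty (D ≃* DihedralGroup m)) ∨ Cfsg.IsQuasiDihedral D) (hB : IsKleinFour B) (hTb : ∀ b ∈ B, orderOf b = 2 → T ≤ Subgroup.centralizer ({b} : Set G) ∧ Odd (T.relIndex (Subgroup.centralizer ({b} : Set G)))) : Cfsg.SectionalPRankLE 2 4 G := by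
  obtain ⟨hDT, hBT, hcomm, hdis, hsup⟩ := hprod
  haveI := hB
  obtain ⟨S, hTS⟩ := hT.exists_le_sylow
  refine CfsgLib.LocalEvenB.SelfCentralEight.Product.boundBy_of_sylow S ?_
  let S' : Subgroup G := (S : Subgroup G)
  show CfsgLib.LocalEvenB.SelfCentralEight.Sections.BoundBy S' 16
  have hS2 : IsPGroup 2 S' := S.2
  have hDS : D ≤ S' := hDT.trans hTS
  have hBS : B ≤ S' := hBT.trans hTS
  refine CfsgLib.LocalEvenB.SelfCentralEight.Product.two_group hS2 (T.subgroupOf S') (D.subgroupOf S')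
    (B.subgroupOf S') (Subgroup.comap_mono hDT) (Subgroup.comap_mono hBT)
    (fun a ha b hb => Subtype.ext (hcomm _ ha _ hb)) ?_ ?_
    (fun x hx y hy => Subtype.ext (klein_comm B _ hx _ hy)) (fun x hx => Subtype.ext (klein_sq B _ hx)) ?_ ?_ ?_ ?_
  · refine (Subgroup.eq_bot_iff_forall _).mpr fun x hx => Subtype.ext ?_
    have h : (x : G) ∈ D ⊓ B := Subgroup.mem_inf.mpr ⟨(Subgroup.mem_inf.mp hx).1, (Subgroup.mem_inf.mp hx).2⟩
    rwa [hdis, Subgroup.mem_bot] at h
  · rw [← Subgroup.subgroupOf_sup hDS hBS, hsup]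
  · rw [Nat.card_congr (Subgroup.subgroupOfEquivOfLe hBS).toEquiv, IsKleinFour.card_four]
  · obtain ⟨R, hRc, hRi⟩ := cyclic_half D hD
    refine ⟨R.comap (Subgroup.subgroupOfEquivOfLe hDS).toMonoidHom, ?_, ?_⟩
    · exact isCyclic_of_injective ((Subgroup.subgroupOfEquivOfLe hDS).toMonoidHom.subgroupComap R)
        (fun p q h => Subtype.ext ((Subgroup.subgroupOfEquivOfLe hDS).injective (congrArg Subtype.val h)))
    · rw [Subgroup.index_comap_of_surjective _ (Subgroup.subgroupOfEquivOfLe hDS).surjective]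
      exact hRi
  · intro hc
    obtain ⟨h4, h2'⟩ := abelian_case D hD (fun p q => Subtype.ext (show (p : G) * q = q * p by
      have h := hc ⟨(p : G), hDS p.2⟩ p.2 ⟨(q : G), hDS q.2⟩ q.2
      exact congrArg (fun w : S' => (w : G)) h))
    exact ⟨by rw [Nat.card_congr (Subgroup.subgroupOfEquivOfLe hDS).toEquiv, h4],
      fun x hx => Subtype.ext (show (x : G) * x = 1 from congrArg (fun w : D => (w : G)) (h2' ⟨(x : G), hx⟩))⟩
  · intro b hb hb1 g hg
    have hord : orderOf (b : G) = 2 :=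
      orderOf_eq_prime ((pow_two (b : G)).trans (klein_sq B _ hb)) (fun e => hb1 (Subtype.ext e))
    exact centralizer_le hTS hS2 (hTb b hb hord) (congrArg Subtype.val (Subgroup.mem_centralizer_singleton_iff.mp hg)) g.2

end Cfsg.Agent.S1235
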