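import Cfsg.Statements.S1236
import Mathlib
import Cfsg.Agent.Lib.Involution.FourCentralizer
-- import your own Cfsg.Agent.* helpers here

set_option autoImplicit false
open Cfsg

namespace Cfsg.Agent.S1236

/-- Let R be a finite group, t a central involution of R such that R ⧸ ⟨t⟩ is dihedral (of order ≥ 4) or quasi-dihedral, and A ≤ R an elementary abelian subgroup of order 8 containing t. Then C_R(A) = A. -/
theorem result {R : Type*} [Group R] [Finite R] (t : R) (ht : orderOf t = 2) (htz : t ∈ Subgroup.center R) [(Subgroup.zpowers t).Normal] (hq : (∃ m : ℕ, 2 ≤ m ∧ Nonempty (R ⧸ Subgroup.zpowers t ≃* DihedralGroup m)) ∨ Cfsg.IsQuasiDihedral (R ⧸ Subgroup.zpowers t)) (A : Subgroup R) (hA : Cfsg.IsElementaryAbelian 2 A) (hA8 : Nat.card A = 8) (htA : t ∈ A) : Subgroup.centralizer (A : Set R) = A := by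
  refine CfsgLib.Involution.FourCentralizer.centralizer_eq ht (fun T hT => ?_) hA hA8 htA
  rcases hq with ⟨m, hm, ⟨e⟩⟩ | hq
  · haveI : NeZero m := ⟨by omega⟩
    haveI := hT
    have hT' : IsKleinFour (T.map e.toMonoidHom : Subgroup (DihedralGroup m)) := by
      set f := T.equivMapOfInjective e.toMonoidHom e.injective
      exact ⟨by rw [← Nat.card_congr f.toEquiv, IsKleinFour.card_four],
        by rw [← Monoid.exponent_eq_of_mulEquiv f, IsKleinFour.exponent_two]⟩
    intro g hg
    have h1 : e g ∈ T.map e.toMonoidHom := by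
      refine CfsgLib.Involution.FourCentralizer.dihedral hT' (Subgroup.mem_centralizer_iff.2 ?_)
      rintro _ ⟨a, ha, rfl⟩
      show e a * e g = e g * e a
      rw [← map_mul, ← map_mul, Subgroup.mem_centralizer_iff.1 hg a ha]
    obtain ⟨a, ha, he⟩ := h1
    exact e.injective he ▸ ha
  · exact CfsgLib.Involution.FourCentralizer.quasiDihedral hq hT

end Cfsg.Agent.S1236
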