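import Cfsg.Statements.S1239
import Mathlib
import Cfsg.Agent.Lib.Involution.InvolutionCentralizerQW
-- import your own Cfsg.Agent.* helpers here

set_option autoImplicit false
open Cfsg

namespace Cfsg.Agent.S1239

/-- Let X be a finite group whose Sylow 2-subgroup S is quasi-dihedral or wreathed, and suppose some involution of S is isolated in X. Then the product of the largest normal odd-order subgroup O(X) with the centre of S is normal in X. -/
theorem result {X : Type*} [Group X] [Finite X] (S : Sylow 2 X) (hS : Cfsg.IsQuasiDihedral (S : Subgroup X) ∨ Cfsg.IsWreathed (S : Subgroup X)) (z : X) (hzS : z ∈ S) (hz : Cfsg.IsIsolatedInvolution z) : (Cfsg.oddCore X ⊔ (Subgroup.center (S : Subgroup X)).map (S : Subgroup X).subtype).Normal := by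
  set Z := (Subgroup.center (S : Subgroup X)).map (S : Subgroup X).subtype
  have hO : (Cfsg.oddCore X).Normal := CfsgLib.Involution.ZStar.oddCore_normal
  refine Subgroup.normalizer_eq_top_iff.1 (top_le_iff.1 fun g _ => ?_)
  refine CfsgLib.Involution.TwoGroupLifts.mem_normalizer_of_conj_mem fun w hw => ?_
  rw [← SetLike.mem_coe, Subgroup.normal_mul] at hw
  obtain ⟨o, ho, u, hu, rfl⟩ := hw
  have h1 := CfsgLib.Involution.CentralizerQW.center_comm_mem hS hzS hz hu g
  have e : g * (o * u) * g⁻¹ = (g * o * g⁻¹ * (u * g * u⁻¹ * g⁻¹)⁻¹) * u := by group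
  show g * (o * u) * g⁻¹ ∈ _
  rw [e]
  exact Subgroup.mul_mem_sup (mul_mem (hO.conj_mem o ho g) (inv_mem h1)) hu

end Cfsg.Agent.S1239
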