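import Cfsg.Statements.S1243
import Mathlib
import Cfsg.Agent.Lib.Involution.Basic
-- import your own Cfsg.Agent.* helpers here

set_option autoImplicit false
open Cfsg

namespace Cfsg.Agent.S1243

/-- Let T be a Sylow p-subgroup of the finite group G and W ≤ T a subgroup weakly closed in T. If d and g d g⁻¹ both centralize W, then g d g⁻¹ = h d h⁻¹ for some h ∈ N_G(W). -/
theorem result {G : Type*} [Group G] [Finite G] {p : ℕ} [Fact p.Prime] (T : Sylow p G) (W : Subgroup G) (hW : Cfsg.IsWeaklyClosed W (T : Subgroup G)) (d g : G) (hd : d ∈ Subgroup.centralizer (W : Set G)) (hgd : g * d * g⁻¹ ∈ Subgroup.centralizer (W : Set G)) : ∃ h ∈ Subgroup.normalizer (W : Set G), h * d * h⁻¹ = g * d * g⁻¹ := by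
  set X := Subgroup.centralizer ({g * d * g⁻¹} : Set G) with hX
  set B := W.map (MulAut.conj g).toMonoidHom with hB
  have hW1 : W ≤ X := fun w hw => Subgroup.mem_centralizer_singleton_iff.2 (hgd w hw)
  have hW2 : B ≤ X := by
    rintro _ ⟨w, hw, rfl⟩
    rw [Subgroup.mem_centralizer_singleton_iff]
    change g * w * g⁻¹ * _ = _ * (g * w * g⁻¹)
    calc g * w * g⁻¹ * (g * d * g⁻¹) = g * (w * d) * g⁻¹ := by group
      _ = g * (d * w) * g⁻¹ := by rw [hd w hw]
      _ = g * d * g⁻¹ * (g * w * g⁻¹) := by group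
  have hWp : IsPGroup p W := T.2.to_le hW.1
  obtain ⟨R, hR⟩ := (hWp.comap_of_injective X.subtype X.subtype_injective).exists_le_sylow
  obtain ⟨x, hx⟩ := CfsgLib.Involution.Basic.exists_conj_le R
    ((hWp.map (MulAut.conj g).toMonoidHom).comap_of_injective X.subtype X.subtype_injective)
  obtain ⟨a, ha⟩ := CfsgLib.Involution.Basic.exists_conj_le T (R.2.map X.subtype)
  have h1 : W.map (MulAut.conj a).toMonoidHom = W := hW.2 a (by
    rintro _ ⟨w, hw, rfl⟩
    exact ha w ⟨⟨w, hW1 hw⟩, hR hw, rfl⟩)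
  have h2 : W.map (MulAut.conj (a * (x * g))).toMonoidHom = W := hW.2 _ (by
    rintro _ ⟨w, hw, rfl⟩
    have hm : g * w * g⁻¹ ∈ B := ⟨w, hw, rfl⟩
    have : a * ((x : G) * (g * w * g⁻¹) * (x : G)⁻¹) * a⁻¹ ∈ (T : Subgroup G) :=
      ha _ ⟨_, hx ⟨g * w * g⁻¹, hW2 hm⟩ hm, rfl⟩
    simpa [mul_assoc] using this)
  refine ⟨x * g, ?_, ?_⟩
  · have h3 : (W.map (MulAut.conj ((x : G) * g)).toMonoidHom).map (MulAut.conj a).toMonoidHom =
        W.map (MulAut.conj (a * (x * g))).toMonoidHom := by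
      rw [Subgroup.map_map]; congr 1; ext y; simp [mul_assoc]
    rw [h2] at h3
    nth_rewrite 2 [← h1] at h3
    have h4 := Subgroup.map_injective (MulAut.conj a).injective h3
    rw [Subgroup.mem_normalizer_iff]
    intro y
    conv_rhs => rw [← h4]
    rw [Subgroup.mem_map]
    refine ⟨fun hy => ⟨y, hy, rfl⟩, ?_⟩
    rintro ⟨y', hy', e⟩
    have : y' = y := (MulAut.conj ((x : G) * g)).injective e
    exact this ▸ hy'
  · have := Subgroup.mem_centralizer_singleton_iff.1 x.2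
    calc (x : G) * g * d * (x * g)⁻¹ = x * (g * d * g⁻¹) * (x : G)⁻¹ := by group
      _ = g * d * g⁻¹ := by rw [this, mul_inv_cancel_right]

end Cfsg.Agent.S1243
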