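import Cfsg.Statements.S1244
import Mathlib
import Cfsg.Agent.Lib.Fusion.Transfer
-- import your own Cfsg.Agent.* helpers here

set_option autoImplicit false
open Cfsg

namespace Cfsg.Agent.S1244

/-- Let G be a finite group with no subgroup of index 2 whose Sylow 2-subgroup S is commutative, and let R ≤ S be a subgroup whose 2-rank is exactly one less than the 2-rank r of S. Then every involution of S is conjugate, by an element of N_G(S), to an element of R. -/
theorem result {G : Type*} [Group G] [Finite G] (hG : ∀ H : Subgroup G, H.index ≠ 2) (S : Sylow 2 G) (hS : IsMulCommutative (S : Subgroup G)) (r : ℕ) (hr1 : 1 ≤ r) (hSr : Cfsg.PRankLE 2 r (S : Subgroup G) ∧ ¬ Cfsg.PRankLE 2 (r - 1) (S : Subgroup G)) (R : Subgroup G) (hRS : R ≤ S) (hRr : Cfsg.PRankLE 2 (r - 1) R ∧ (r = 1 ∨ ¬ Cfsg.PRankLE 2 (r - 2) R)) (t : G) (ht : orderOf t = 2) (htS : t ∈ S) : ∃ n ∈ Subgroup.normalizer ((S : Subgroup G) : Set G), n * t * n⁻¹ ∈ R := by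
  haveI : Fact (Nat.Prime 2) := ⟨Nat.prime_two⟩
  classical
  haveI := hS
  by_contra hcon
  push Not at hcon
  have hmc : ∀ a ∈ S, ∀ b ∈ S, a * b = b * a := fun a ha b hb =>
    congrArg Subtype.val (mul_comm' (⟨a, ha⟩ : (S : Subgroup G)) ⟨b, hb⟩)
  let V : Subgroup G :=
    { carrier := {x | x ∈ S ∧ x ^ 2 = 1}
      one_mem' := ⟨one_mem _, one_pow _⟩
      mul_mem' := fun {a b} ha hb => ⟨mul_mem ha.1 hb.1, by
        rw [(show Commute a b from hmc a ha.1 b hb.1).mul_pow, ha.2, hb.2, one_mul]⟩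
      inv_mem' := fun {a} ha => ⟨inv_mem ha.1, by rw [inv_pow, ha.2, inv_one]⟩ }
  letI : CommGroup V :=
    { (inferInstance : Group V) with
      mul_comm := fun a b => Subtype.ext (hmc a a.2.1 b b.2.1) }
  set W := R.subgroupOf V with hW
  have hWidx : W.index = 2 := by
    have hV2 : ∀ x : V, x ^ 2 = 1 := fun x => Subtype.ext (by simpa using x.2.2)
    have hpg : IsPGroup 2 V := fun x => ⟨1, by rw [pow_one]; exact hV2 x⟩
    obtain ⟨v, hv⟩ := IsPGroup.iff_card.1 hpg
    obtain ⟨w, hw⟩ := IsPGroup.iff_card.1 (hpg.to_subgroup W)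
    have e1 : ∀ (T : Subgroup G), T ≤ S → ∀ k, Cfsg.PRankLE 2 k T →
        Nat.card ((T ⊓ V : Subgroup G)) ≤ 2 ^ k := by
      intro T hT k hk
      have := hk ((T ⊓ V).subgroupOf T) ⟨⟨fun a b => Subtype.ext (Subtype.ext
        (hmc _ (hT a.1.2) _ (hT b.1.2)))⟩⟩ (fun a ha => Subtype.ext (by
          push_cast; exact (ha : (a : G) ∈ T ⊓ V).2.2))
      rwa [Nat.card_congr (Subgroup.subgroupOfEquivOfLe inf_le_left).toEquiv] at this
    have e2 : ∀ (T : Subgroup G), T ≤ S → ∀ k, ¬ Cfsg.PRankLE 2 k T →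
        2 ^ k < Nat.card ((T ⊓ V : Subgroup G)) := by
      intro T hT k hk
      by_contra hle
      refine hk fun A _ hA2 => le_trans ?_ (not_lt.1 hle)
      rw [Nat.card_congr (A.equivMapOfInjective T.subtype T.subtype_injective).toEquiv]
      refine Subgroup.card_le_of_le ?_
      rintro _ ⟨a, ha, rfl⟩
      exact ⟨a.2, hT a.2, by simpa using congrArg Subtype.val (hA2 a ha)⟩
    have hSV : (S : Subgroup G) ⊓ V = V := inf_eq_right.2 fun x hx => hx.1
    have c1 := e1 _ le_rfl r hSr.1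
    have c2 := e2 _ le_rfl (r - 1) hSr.2
    rw [hSV, hv] at c1 c2
    have hWc : Nat.card W = Nat.card ((R ⊓ V : Subgroup G)) := by
      rw [hW, ← Subgroup.inf_subgroupOf_right,
        Nat.card_congr (Subgroup.subgroupOfEquivOfLe inf_le_right).toEquiv]
    have c3 := e1 _ hRS (r - 1) hRr.1
    rw [← hWc, hw] at c3
    have hv' : v = r := by
      have := (Nat.pow_le_pow_iff_right (le_refl 2)).1 c1
      have := (Nat.pow_lt_pow_iff_right (Nat.lt_succ_self 1)).1 c2
      omega
    have hw' : w = r - 1 := by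
      have := (Nat.pow_le_pow_iff_right (le_refl 2)).1 c3
      rcases hRr.2 with h | h
      · omega
      · have c4 := e2 _ hRS (r - 2) h
        rw [← hWc, hw] at c4
        have := (Nat.pow_lt_pow_iff_right (Nat.lt_succ_self 1)).1 c4
        omega
    have := W.card_mul_index
    rw [hv, hw, hv', hw', show r = (r - 1) + 1 by omega, pow_succ, Nat.add_sub_cancel] at this
    exact Nat.eq_of_mul_eq_mul_left (pow_pos two_pos _) this
  set N := Subgroup.normalizer ((S : Subgroup G) : Set G) with hN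
  have htV : t ∈ V := ⟨htS, by rw [← ht, pow_orderOf_eq_one]⟩
  set SN := (S : Subgroup G).subgroupOf N with hSN
  have hmem : ∀ n ∈ N, ∀ x ∈ V, n * x * n⁻¹ ∈ V := fun n hn x hx =>
    ⟨(Subgroup.mem_normalizer_iff.1 hn x).1 hx.1, by rw [conj_pow, hx.2, mul_one, mul_inv_cancel]⟩
  let f : N ⧸ SN → V := fun q => Quotient.liftOn' q
    (fun n => (⟨(n : G) * t * (n : G)⁻¹, hmem _ n.2 t htV⟩ : V)) (fun a b hab => by
      rw [QuotientGroup.leftRel_apply] at hab
      apply Subtype.ext
      have h1 := hmc _ hab t htS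
      simp only [Subgroup.coe_subtype, Subgroup.coe_mul, Subgroup.coe_inv] at h1
      calc (a : G) * t * (a : G)⁻¹ = a * (t * ((a : G)⁻¹ * b)) * (b : G)⁻¹ := by group
        _ = b * t * (b : G)⁻¹ := by rw [← h1]; group)
  haveI := Fintype.ofFinite (N ⧸ SN)
  set π : V := ∏ q, f q with hπ
  have hodd : Odd (Fintype.card (N ⧸ SN)) := by
    rw [← Nat.card_eq_fintype_card, ← Subgroup.index_eq_card, ← Nat.not_even_iff_odd,
      even_iff_two_dvd]
    exact fun h => S.not_dvd_index (h.trans (Subgroup.relIndex_dvd_index_of_le Subgroup.le_normalizer))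
  have hfW : ∀ q, f q ∉ W := by
    intro q
    induction q using Quotient.inductionOn'
    next n => exact hcon n n.2
  have hπW : π ∉ W := by
    have key : ∀ s : Finset (N ⧸ SN), (∏ q ∈ s, f q) ∈ W ↔ Even s.card := by
      intro s
      induction s using Finset.induction_on with
      | empty => simp [one_mem]
      | @insert a s ha ih =>
        rw [Finset.prod_insert ha, Finset.card_insert_of_notMem ha, Nat.even_add_one, ← ih,
          Subgroup.mul_mem_iff_of_index_two hWidx]
        simp [hfW a]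
    rw [hπ, key, Finset.card_univ, Nat.not_even_iff_odd]
    exact hodd
  have hπne : π ≠ 1 := fun h => hπW (h ▸ one_mem W)
  have hfix : ∀ n ∈ N, n * (π : G) * n⁻¹ = π := by
    intro n hn
    let c : V →* V :=
      { toFun := fun x => ⟨n * x * n⁻¹, hmem n hn x x.2⟩
        map_one' := Subtype.ext (by simp)
        map_mul' := fun a b => Subtype.ext (by simp [mul_assoc]) }
    suffices h : c π = π from congrArg Subtype.val h
    rw [hπ, map_prod]
    refine Fintype.prod_equiv (MulAction.toPerm (⟨n, hn⟩ : N)) _ _ fun q => ?_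
    induction q using Quotient.inductionOn'
    next m =>
      apply Subtype.ext
      change n * ((m : G) * t * (m : G)⁻¹) * n⁻¹ = ((⟨n, hn⟩ * m : N) : G) * t * ((⟨n, hn⟩ * m : N) : G)⁻¹
      push_cast
      group
  letI : CommGroup (S : Subgroup G) :=
    { (inferInstance : Group (S : Subgroup G)) with mul_comm := fun a b => mul_comm' a b }
  set tr := MonoidHom.transfer (MonoidHom.id (S : Subgroup G)) with htr
  have key : ∀ (k : ℕ) (g₀ : G), g₀⁻¹ * (π : G) ^ k * g₀ ∈ (S : Subgroup G) →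
      g₀⁻¹ * (π : G) ^ k * g₀ = (π : G) ^ k := by
    intro k g₀ hk
    have hSC : ∀ x ∈ S, x ∈ Subgroup.centralizer ((S : Subgroup G) : Set G) :=
      fun x hx y hy => hmc y hy x hx
    obtain ⟨n, hn, he⟩ := CfsgLib.Fusion.Transfer.burnside_central S
      (hSC _ (pow_mem π.2.1 k)) (hSC _ hk) ⟨g₀⁻¹, by rw [inv_inv]⟩
    rw [← he, ← conj_pow, hfix n hn]
  have htr1 : tr (π : G) ≠ 1 := by
    rw [htr, MonoidHom.transfer_eq_pow _ (π : G) key]
    intro h
    have h1 : (π : G) ^ (S : Subgroup G).index = 1 := congrArg Subtype.val h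
    have h2 : orderOf (π : G) = 2 := by
      rw [Subgroup.orderOf_coe]
      exact orderOf_eq_prime (Subtype.ext (by simpa using π.2.2)) hπne
    have h3 := orderOf_dvd_of_pow_eq_one h1
    rw [h2] at h3
    exact S.not_dvd_index h3
  have hrne : tr.range ≠ ⊥ := fun h => htr1 (Subgroup.mem_bot.1 (h ▸ ⟨_, rfl⟩))
  have hpg : IsPGroup 2 tr.range := S.2.to_subgroup _
  obtain ⟨n, hn⟩ := IsPGroup.iff_card.1 hpg
  obtain ⟨m, rfl⟩ : ∃ m, n = m + 1 := Nat.exists_eq_add_one.2 (Nat.pos_of_ne_zero fun h => hrne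
    (Subgroup.eq_bot_of_card_eq _ (by rw [hn, h, pow_zero])))
  obtain ⟨K, hK⟩ := Sylow.exists_subgroup_card_pow_prime (G := tr.range) 2 (n := m)
    (by rw [hn]; exact pow_dvd_pow 2 (Nat.le_succ m))
  refine hG (K.comap tr.rangeRestrict) ?_
  rw [Subgroup.index_comap_of_surjective _ tr.rangeRestrict_surjective]
  have := K.card_mul_index
  rw [hn, hK, pow_succ] at this
  exact Nat.eq_of_mul_eq_mul_left (pow_pos two_pos _) this

end Cfsg.Agent.S1244
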