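import Cfsg.Statements.S1245
import Cfsg.Agent.Lib.Recognition.JankoOvergroup.Main
import Cfsg.Agent.S0222

set_option autoImplicit false
open Cfsg

namespace Cfsg.Agent.S1245

/-- Let G be a non-abelian finite simple group with commutative Sylow 2-subgroups, and t an involution whose centralizer is the internal direct product of ⟨t⟩ and a subgroup E which has a normal subgroup E₀ ≅ PSL(2,F), |F| odd, with C_E(E₀) = 1 (so PSL(2,q) ≤ E ≤ Aut PSL(2,q)). Then C_G(t) is a maximal subgroup of G. -/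
theorem result {G : Type*} [Group G] [Finite G] [IsSimpleGroup G] (hna : ¬ IsMulCommutative G) (S : Sylow 2 G) (hS : IsMulCommutative (S : Subgroup G)) (t : G) (ht : orderOf t = 2) (E E₀ : Subgroup G) (hprod : Cfsg.IsInternalDirectProduct (Subgroup.zpowers t) E (Subgroup.centralizer ({t} : Set G))) (hE₀E : E₀ ≤ E) (hE₀n : (E₀.subgroupOf E).Normal) (hE₀ : ∃ (F : Type) (_ : Field F) (_ : Fintype F), Odd (Fintype.card F) ∧ Nonempty (E₀ ≃* Matrix.ProjectiveSpecialLinearGroup (Fin 2) F)) (hCE : E ⊓ Subgroup.centralizer (E₀ : Set G) = ⊥) : IsCoatom (Subgroup.centralizer ({t} : Set G)) := by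
  haveI : Fact (Nat.Prime 2) := ⟨Nat.prime_two⟩
  obtain ⟨F, _, _, hFo, ⟨e⟩⟩ := hE₀
  have hna' : ∃ a b : G, a * b ≠ b * a := by
    by_contra h
    push Not at h
    exact hna ⟨⟨h⟩⟩
  have hab : ∀ P : Sylow 2 G, IsMulCommutative ↥(P : Subgroup G) := fun P => by
    refine ⟨⟨fun a b => (S.equiv P).symm.injective ?_⟩⟩
    rw [map_mul, map_mul]
    exact hS.is_comm.comm _ _
  obtain ⟨P, V, g, D⟩ := CfsgLib.Recognition.JankoOvergroup.exists_data hab t ht E E₀ hprod hE₀E hE₀n hCE hFo e
  exact D.isCoatom_centralizer hna' (fun H hH => Cfsg.Agent.S0222.result hna' H hH)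

end Cfsg.Agent.S1245
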