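import Cfsg.Statements.S1246
import Mathlib
import Cfsg.Agent.Lib.KGroups.CharP
import Cfsg.Agent.Lib.Components.GenFitting
import Cfsg.Agent.Lib.Solvable.Cores
-- import your own Cfsg.Agent.* helpers here

set_option autoImplicit false
open Cfsg

namespace Cfsg.Agent.S1246

/-- Let V ≤ U be p-subgroups of the finite group G. If the generalized Fitting subgroup of C_G(V) is a p-group, then so is that of C_G(U). -/
theorem result {G : Type*} [Group G] [Finite G] {p : ℕ} [Fact p.Prime] (U V : Subgroup G) (hVU : V ≤ U) (hU : IsPGroup p U) (hV : IsPGroup p ↥(Cfsg.generalizedFittingSubgroup ↥(Subgroup.centralizer (V : Set G)))) : IsPGroup p ↥(Cfsg.generalizedFittingSubgroup ↥(Subgroup.centralizer (U : Set G))) := by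
  set C := Subgroup.centralizer (V : Set G)
  have hle : Cfsg.generalizedFittingSubgroup ↥C ≤ Cfsg.pCore p ↥C :=
    CfsgLib.Solvable.Cores.le_pCore hV
  have h : Subgroup.centralizer (Cfsg.pCore p ↥C : Set ↥C) ≤ Cfsg.pCore p ↥C :=
    ((Subgroup.centralizer_le (SetLike.coe_subset_coe.2 hle)).trans
      CfsgLib.Components.centralizer_generalizedFitting_le).trans hle
  rw [CfsgLib.KGroups.CharP.generalizedFitting_eq_pCore
    (CfsgLib.KGroups.CharP.centralizer_of_le hU hVU h)]
  exact CfsgLib.Solvable.Cores.isPGroup_pCore p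

end Cfsg.Agent.S1246
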