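import Cfsg.Statements.S1249
import Mathlib
import Cfsg.Agent.Lib.Involution.Basic
-- import your own Cfsg.Agent.* helpers here

set_option autoImplicit false
open Cfsg

namespace Cfsg.Agent.S1249

/-- Let P and Q be Sylow p-subgroups of the finite group G both containing the subgroup A. If A is strongly closed in P, then A is strongly closed in Q. -/
theorem result {G : Type*} [Group G] [Finite G] {p : ℕ} [Fact p.Prime] (P Q : Sylow p G) (A : Subgroup G) (hAQ : A ≤ Q) (hA : Cfsg.IsStronglyClosed A (P : Subgroup G)) : Cfsg.IsStronglyClosed A (Q : Subgroup G) := by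
  obtain ⟨a, ha⟩ := MulAction.exists_smul_eq G Q P
  have hto : ∀ y, y ∈ Q ↔ a * y * a⁻¹ ∈ P := by
    intro y
    rw [← ha, CfsgLib.Involution.Basic.mem_smul_sylow_iff,
      show a⁻¹ * (a * y * a⁻¹) * a = y by group]
  have hcl : ∀ x, x ∈ A → a * x * a⁻¹ ∈ A := fun x hx =>
    hA.2 x hx a ((hto x).1 (hAQ hx))
  have hback : ∀ y, a * y * a⁻¹ ∈ A → y ∈ A := by
    intro y hy
    have hm : A.map (MulAut.conj a).toMonoidHom = A :=
      Subgroup.eq_of_le_of_card_ge (by rintro _ ⟨x, hx, rfl⟩; exact hcl x hx)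
        (Nat.card_congr (A.equivMapOfInjective _ (MulAut.conj a).injective).toEquiv).le
    rw [← hm] at hy
    obtain ⟨y', hy', e⟩ := hy
    exact ((MulAut.conj a).injective e) ▸ hy'
  refine ⟨hAQ, fun x hx g hg => hback _ ?_⟩
  have hg' : a * (g * x * g⁻¹) * a⁻¹ ∈ (P : Subgroup G) := (hto _).1 hg
  have := hA.2 x hx (a * g) (by simpa [mul_assoc] using hg')
  simpa [mul_assoc] using this

end Cfsg.Agent.S1249
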