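import Cfsg.Statements.S1250
import Mathlib
import Cfsg.Agent.Lib.Involution.Basic
-- import your own Cfsg.Agent.* helpers here

set_option autoImplicit false
open Cfsg

namespace Cfsg.Agent.S1250

/-- Let S be a Sylow p-subgroup of the finite group G, A ≤ S strongly closed in S, and N a normal subgroup. Then the image of A in G ⧸ N is strongly closed in the image of S (which is a Sylow p-subgroup of G ⧸ N). -/
theorem result {G : Type*} [Group G] [Finite G] {p : ℕ} [Fact p.Prime] (S : Sylow p G) (A : Subgroup G) (hA : Cfsg.IsStronglyClosed A (S : Subgroup G)) (N : Subgroup G) [N.Normal] : Cfsg.IsStronglyClosed (A.map (QuotientGroup.mk' N)) ((S : Subgroup G).map (QuotientGroup.mk' N)) := by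
  refine ⟨Subgroup.map_mono hA.1, ?_⟩
  rintro _ ⟨x, hx, rfl⟩ q hq
  induction q using QuotientGroup.induction_on with
  | H g =>
    obtain ⟨s, hs, hse⟩ := hq
    have hse' : (s : G ⧸ N) = ((g * x * g⁻¹ : G) : G ⧸ N) := by simpa using hse
    set y := g * x * g⁻¹ with hy
    set L := (S : Subgroup G) ⊔ N with hL
    have hyL : y ∈ L := by
      have h := QuotientGroup.eq.1 hse'
      have := mul_mem (Subgroup.mem_sup_left (T := N) hs) (Subgroup.mem_sup_right h)
      rwa [mul_inv_cancel_left] at this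
    have hp : IsPGroup p (Subgroup.zpowers y) :=
      ((S.2.to_le hA.1).to_le (Subgroup.zpowers_le.2 hx)).map (MulAut.conj g).toMonoidHom |>.to_le
        (Subgroup.zpowers_le.2 ⟨x, Subgroup.mem_zpowers x, rfl⟩)
    let SL : Sylow p L := S.subtype le_sup_left
    obtain ⟨l, hl⟩ := CfsgLib.Involution.Basic.exists_conj_le SL
      (hp.comap_of_injective L.subtype L.subtype_injective)
    have hl' : (l : G) * y * (l : G)⁻¹ ∈ S := hl ⟨y, hyL⟩ (Subgroup.mem_zpowers y)
    obtain ⟨a, ha, n, hn, hla⟩ : ∃ a ∈ S, ∃ n ∈ N, a * n = (l : G) := by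
      have : ((l : G)) ∈ (((S : Subgroup G) ⊔ N : Subgroup G) : Set G) := l.2
      rw [Subgroup.mul_normal] at this
      exact Set.mem_mul.1 this
    have hny : n * y * n⁻¹ ∈ S := by
      have := mul_mem (mul_mem (inv_mem ha) hl') ha
      rw [← hla] at this
      have e : a⁻¹ * (a * n * y * (a * n)⁻¹) * a = n * y * n⁻¹ := by group
      rwa [e] at this
    have hny' : n * (g * x * g⁻¹) * n⁻¹ ∈ (S : Subgroup G) := hny
    have hA' := hA.2 x hx (n * g) (by simpa [mul_assoc] using hny')
    refine ⟨_, hA', ?_⟩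
    have hn1 : (n : G ⧸ N) = 1 := (QuotientGroup.eq_one_iff n).2 hn
    simp [hn1]

end Cfsg.Agent.S1250
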