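import Cfsg.Statements.S1258
import Cfsg.Agent.Lib.Components.GenFitting

set_option autoImplicit false
open Cfsg
open CfsgLib.Components
open scoped commutatorElement

namespace Cfsg.Agent.S1258

/-- If the central quotient of a finite group X is non-abelian simple, then X = X' Z(X) and the commutator subgroup X' is quasisimple. -/
theorem result {X : Type*} [Group X] [Finite X] (hs : IsSimpleGroup (X ⧸ Subgroup.center X)) (hna : ¬ IsMulCommutative (X ⧸ Subgroup.center X)) : commutator X ⊔ Subgroup.center X = ⊤ ∧ Cfsg.IsQuasisimple ↥(commutator X) := by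
  haveI := hs
  set Z := Subgroup.center X with hZ
  have hC : ((commutator X).map (QuotientGroup.mk' Z)).Normal :=
    Subgroup.Normal.map inferInstance _ (QuotientGroup.mk'_surjective Z)
  have hmap : (commutator X).map (QuotientGroup.mk' Z) = ⊤ := by
    refine hC.eq_bot_or_eq_top.resolve_left fun h => hna ?_
    refine ⟨⟨fun a b => ?_⟩⟩
    obtain ⟨a, rfl⟩ := QuotientGroup.mk_surjective a
    obtain ⟨b, rfl⟩ := QuotientGroup.mk_surjective b
    have hab : ⁅a, b⁆ ∈ commutator X := by
      rw [commutator_def]
      exact Subgroup.commutator_mem_commutator (Subgroup.mem_top a) (Subgroup.mem_top b)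
    have h1 : (QuotientGroup.mk' Z) ⁅a, b⁆ = 1 := by
      rw [← Subgroup.mem_bot, ← h]; exact ⟨_, hab, rfl⟩
    rw [map_commutatorElement] at h1
    exact commutatorElement_eq_one_iff_mul_comm.mp h1
  have hsup : commutator X ⊔ Z = ⊤ := by
    have h' := congrArg (Subgroup.comap (QuotientGroup.mk' Z)) hmap
    rwa [Subgroup.comap_map_eq, Subgroup.comap_top, QuotientGroup.ker_mk'] at h'
  have hperf : Group.IsPerfect ↥(commutator X) := by
    rw [Subgroup.isPerfect_iff, ← commutator_sup_center, hsup, commutator_def]
  refine ⟨hsup, hperf, ?_⟩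
  let φ : ↥(commutator X) →* X ⧸ Z := (QuotientGroup.mk' Z).comp (commutator X).subtype
  have hφ : Function.Surjective φ := by
    intro q
    obtain ⟨x, hx, rfl⟩ := (hmap.symm ▸ Subgroup.mem_top q :
      q ∈ (commutator X).map (QuotientGroup.mk' Z))
    exact ⟨⟨x, hx⟩, rfl⟩
  have hker : φ.ker = Subgroup.center ↥(commutator X) := by
    apply le_antisymm
    · intro c hc
      rw [Subgroup.mem_center_iff]
      intro d
      have hcZ : (c : X) ∈ Z := (QuotientGroup.eq_one_iff _).mp hc
      exact Subtype.ext (Subgroup.mem_center_iff.mp hcZ d)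
    · intro c hc
      have hcent : φ c ∈ Subgroup.center (X ⧸ Z) := by
        rw [Subgroup.mem_center_iff]
        intro g
        obtain ⟨d, rfl⟩ := hφ g
        rw [← map_mul, ← map_mul, Subgroup.mem_center_iff.mp hc d]
      rcases (Subgroup.instNormalCenter (G := X ⧸ Z)).eq_bot_or_eq_top with h | h
      · rw [MonoidHom.mem_ker, ← Subgroup.mem_bot, ← h]; exact hcent
      · exact absurd ⟨⟨fun a b => Subgroup.mem_center_iff.mp (h ▸ Subgroup.mem_top b :
          b ∈ Subgroup.center (X ⧸ Z)) a⟩⟩ hna
  exact ((QuotientGroup.quotientMulEquivOfEq hker.symm).trans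
    (QuotientGroup.quotientKerEquivOfSurjective φ hφ)).isSimpleGroup

end Cfsg.Agent.S1258
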