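import Cfsg.Statements.S1263
import Cfsg.Agent.Lib.Components.GenFitting

set_option autoImplicit false
open Cfsg
open CfsgLib.Components
open scoped commutatorElement

namespace Cfsg.Agent.S1263

/-- For a finite group G, Z(E(G)) is the subgroup generated by the centres Z(L) of the components L of G (all viewed as subgroups of G). -/
theorem result {G : Type*} [Group G] [Finite G] : (Subgroup.center ↥(Cfsg.layer G)).map (Cfsg.layer G).subtype = ⨆ L : {K : Subgroup G // Cfsg.IsComponent K}, (Subgroup.center ↥(L : Subgroup G)).map (L : Subgroup G).subtype := by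
  classical
  apply le_antisymm
  · intro x hx
    obtain ⟨⟨x, hxE⟩, hxc, rfl⟩ := hx
    have hxc' : ∀ L : Subgroup G, Cfsg.IsComponent L → ∀ l ∈ L, l * x = x * l := fun L hL l hl =>
      congrArg Subtype.val
        (Subgroup.mem_center_iff.mp hxc ⟨l, IsComponent.le_layer hL hl⟩)
    have hfin : {K : Subgroup G | Cfsg.IsComponent K}.Finite := Set.toFinite _
    have key : ∀ S : Finset (Subgroup G), (∀ L ∈ S, Cfsg.IsComponent L) → ∀ y ∈ S.sup id,
        (∀ L ∈ S, ∀ l ∈ L, l * y = y * l) →
        y ∈ ⨆ L : {K : Subgroup G // Cfsg.IsComponent K},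
          (Subgroup.center ↥(L : Subgroup G)).map (L : Subgroup G).subtype := by
      intro S
      induction S using Finset.induction_on with
      | empty => intro _ y hy _; simp at hy; simp [hy]
      | @insert A S hA ih =>
        intro hS y hy hyc
        have hAc := hS A (Finset.mem_insert_self A S)
        have hle : A ≤ Subgroup.centralizer ((S.sup id : Subgroup G) : Set G) := by
          rw [Subgroup.le_centralizer_iff, Finset.sup_le_iff]
          intro B hB
          exact IsComponent.le_centralizer_of_ne (hS B (Finset.mem_insert_of_mem hB)) hAc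
            (fun h => hA (h ▸ hB))
        rw [Finset.sup_insert] at hy
        obtain ⟨a, ha, m, hm, rfl⟩ := exists_mul_of_mem_sup
          (show A ≤ Subgroup.normalizer ((S.sup id : Subgroup G) : Set G) from
            hle.trans (Subgroup.centralizer_le_normalizer _)) hy
        have haA : ∀ l ∈ A, l * a = a * l := by
          intro l hl
          have h1 : Commute l (a * m) := hyc A (Finset.mem_insert_self A S) l hl
          have h2 : Commute l m := (Subgroup.mem_centralizer_iff.mp (hle hl) m hm).symm
          have h3 : Commute l (a * m * m⁻¹) := h1.mul_right h2.inv_right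
          simpa using h3.eq
        refine mul_mem (Subgroup.mem_iSup_of_mem ⟨A, hAc⟩ ⟨⟨a, ha⟩, ?_, rfl⟩)
          (ih (fun L hL => hS L (Finset.mem_insert_of_mem hL)) m hm fun L hL l hl => ?_)
        · rw [SetLike.mem_coe, Subgroup.mem_center_iff]
          exact fun l => Subtype.ext (haA l l.2)
        · have h1 : Commute l (a * m) := hyc L (Finset.mem_insert_of_mem hL) l hl
          have h2 : Commute l a :=
            (Subgroup.mem_centralizer_iff.mp (hle ha) l (Finset.le_sup (f := id) hL hl))
          have h3 : Commute l (a⁻¹ * (a * m)) := h2.inv_right.mul_right h1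
          simpa using h3.eq
    refine key hfin.toFinset (fun L hL => hfin.mem_toFinset.mp hL) x ?_
      (fun L hL => hxc' L (hfin.mem_toFinset.mp hL))
    rw [Finset.sup_id_eq_sSup, hfin.coe_toFinset]
    exact hxE
  · refine iSup_le fun L => ?_
    rintro _ ⟨⟨z, hzL⟩, hz, rfl⟩
    refine ⟨⟨z, IsComponent.le_layer L.2 hzL⟩, ?_, rfl⟩
    rw [SetLike.mem_coe, Subgroup.mem_center_iff]
    rintro ⟨l, hl⟩
    suffices Cfsg.layer G ≤ Subgroup.centralizer {z} from
      Subtype.ext (Subgroup.mem_centralizer_singleton_iff.mp (this hl))
    refine layer_le_iff.mpr fun K hK k hk => Subgroup.mem_centralizer_singleton_iff.mpr ?_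
    by_cases h : K = L.1
    · subst h
      exact congrArg Subtype.val (Subgroup.mem_center_iff.mp hz ⟨k, hk⟩)
    · exact (Subgroup.mem_centralizer_iff.mp (IsComponent.le_centralizer_of_ne hK L.2 h hk) z hzL).symm

end Cfsg.Agent.S1263
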