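import Cfsg.Statements.S1264
import Cfsg.Agent.Lib.Components.GenFitting

set_option autoImplicit false
open Cfsg
open CfsgLib.Components
open scoped commutatorElement

namespace Cfsg.Agent.S1264

/-- Let G be finite, C = C_G(F(G)) the centralizer of the Fitting subgroup, and N a solvable subgroup of C normalized by C. Then N ≤ Z(F(G)). -/
theorem result {G : Type*} [Group G] [Finite G] (N : Subgroup G) (hN : N ≤ Subgroup.centralizer (Cfsg.fittingSubgroup G : Set G)) (hnorm : Subgroup.centralizer (Cfsg.fittingSubgroup G : Set G) ≤ Subgroup.normalizer (N : Set G)) (hsolv : Group.IsSolvable ↥N) : N ≤ (Subgroup.center ↥(Cfsg.fittingSubgroup G)).map (Cfsg.fittingSubgroup G).subtype := by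
  haveI := hsolv
  have h : N ≤ Subgroup.centralizer (Cfsg.generalizedFittingSubgroup G : Set G) := by
    rw [Subgroup.le_centralizer_iff, Cfsg.generalizedFittingSubgroup]
    refine sup_le (layer_le_iff.mpr fun L hL => ?_) (Subgroup.le_centralizer_iff.mp hN)
    exact Subgroup.commutator_eq_bot_iff_le_centralizer.mp
      (IsComponent.commutator_solvable_eq_bot hL
        (((IsComponent.le_layer hL).trans layer_le_centralizer_fitting).trans hnorm))
  intro x hx
  refine ⟨⟨x, centralizer_generalizedFitting_le_fitting (h hx)⟩, ?_, rfl⟩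
  rw [SetLike.mem_coe, Subgroup.mem_center_iff]
  intro f
  exact Subtype.ext (Subgroup.mem_centralizer_iff.mp (hN hx) f f.2)

end Cfsg.Agent.S1264
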