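import Cfsg.Statements.S1266
import Cfsg.Agent.Lib.Components.Constrained

set_option autoImplicit false
open Cfsg
open CfsgLib.Components
open scoped commutatorElement

namespace Cfsg.Agent.S1266

/-- Let P be a p-subgroup of the finite group G and N = N_G(P). Then the preimage in N of E(N / O_{p'}(N)) centralizes O_p(G). -/
theorem result {G : Type*} [Group G] [Finite G] (p : ℕ) [Fact p.Prime] (P : Subgroup G) (hP : IsPGroup p ↥P) : (((Cfsg.layer (↥(Subgroup.normalizer ((P : Subgroup G) : Set G)) ⧸ Cfsg.pPrimeCore p ↥(Subgroup.normalizer ((P : Subgroup G) : Set G)))).comap (QuotientGroup.mk' (Cfsg.pPrimeCore p ↥(Subgroup.normalizer ((P : Subgroup G) : Set G))))).map (Subgroup.normalizer ((P : Subgroup G) : Set G)).subtype) ≤ Subgroup.centralizer (Cfsg.pCore p G : Set G) := by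
  set N := Subgroup.normalizer (P : Set G) with hN
  have h := map_normalizer_core_layer_le_centralizer hP
  have hpre : (Cfsg.layer (↥N ⧸ Cfsg.pPrimeCore p ↥N)).comap (QuotientGroup.mk' (Cfsg.pPrimeCore p ↥N)) =
      Cfsg.pPrimeCore p ↥N ⊔ Cfsg.pLayer p ↥N := by
    rw [← pLayer_map_eq, Subgroup.comap_map_eq, QuotientGroup.ker_mk', sup_comm]
  rw [hpre]
  intro x hx
  rw [Subgroup.mem_centralizer_iff]
  intro r hr
  set O := Cfsg.pPrimeCore p G
  haveI : ((Cfsg.pCore p G).map (QuotientGroup.mk' O)).Normal :=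
    Subgroup.Normal.map inferInstance _ (QuotientGroup.mk'_surjective _)
  have h1 : QuotientGroup.mk' O r ∈ Cfsg.pCore p (G ⧸ O) :=
    CfsgLib.Solvable.Cores.le_pCore ((CfsgLib.Solvable.Cores.isPGroup_pCore p).map _)
      (Subgroup.mem_map_of_mem _ hr)
  have h2 := Subgroup.mem_centralizer_iff.mp (h (Subgroup.mem_map_of_mem _ hx)) _ h1
  rw [← map_mul, ← map_mul] at h2
  have h3 : ⁅r, x⁆ ∈ O := by
    rw [← QuotientGroup.eq_one_iff]
    have h4 : QuotientGroup.mk' O ⁅r, x⁆ = 1 := by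
      rw [map_commutatorElement, commutatorElement_eq_one_iff_mul_comm, ← map_mul, ← map_mul]
      exact h2
    exact h4
  have h5 : ⁅r, x⁆ ∈ Cfsg.pCore p G ⊓ O :=
    ⟨Subgroup.commutator_le_left (Cfsg.pCore p G) ⊤
      (Subgroup.commutator_mem_commutator hr (Subgroup.mem_top x)), h3⟩
  rw [inf_eq_bot_of_pGroup_coprime (CfsgLib.Solvable.Cores.isPGroup_pCore p)
    (CfsgLib.Solvable.Cores.coprime_card_pPrimeCore p), Subgroup.mem_bot,
    commutatorElement_eq_one_iff_mul_comm] at h5
  exact h5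

end Cfsg.Agent.S1266
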