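import Cfsg.Statements.S1267
import Cfsg.Agent.Lib.Components.Constrained

set_option autoImplicit false
open Cfsg
open CfsgLib.Components
open scoped commutatorElement

namespace Cfsg.Agent.S1267

/-- Let G be finite and P ≤ O_p(G). Then E(N_G(P)) = E(G). -/
theorem result {G : Type*} [Group G] [Finite G] (p : ℕ) [Fact p.Prime] (P : Subgroup G) (hP : P ≤ Cfsg.pCore p G) : (Cfsg.layer ↥(Subgroup.normalizer ((P : Subgroup G) : Set G))).map (Subgroup.normalizer ((P : Subgroup G) : Set G)).subtype = Cfsg.layer G := by
  set N := Subgroup.normalizer (P : Set G) with hN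
  have hP' : IsPGroup p ↥P := (CfsgLib.Solvable.Cores.isPGroup_pCore p).to_le hP
  set C := Subgroup.centralizer (Cfsg.pCore p G : Set G) with hC
  have hCN : C ≤ N :=
    (Subgroup.centralizer_le hP).trans (Subgroup.centralizer_le_normalizer _)
  haveI := (CfsgLib.Solvable.Cores.isPGroup_pCore (G := G) p).isNilpotent
  apply le_antisymm
  · rw [Subgroup.map_le_iff_le_comap, layer_le_iff]
    intro K hK
    rw [← Subgroup.map_le_iff_le_comap]
    set O := Cfsg.pPrimeCore p G
    have h := map_normalizer_core_layer_le_centralizer hP'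
    have hKle : K ≤ Cfsg.pPrimeCore p ↥N ⊔ Cfsg.pLayer p ↥N := by
      by_cases hKO : K ≤ Cfsg.pPrimeCore p ↥N
      · exact le_sup_of_le_left hKO
      · exact le_sup_of_le_right (IsPComponent.le_pLayer (IsComponent.isPComponent hK hKO))
    have hKC : K.map N.subtype ≤ C := by
      intro x hx
      rw [hC, Subgroup.mem_centralizer_iff]
      intro r hr
      haveI : ((Cfsg.pCore p G).map (QuotientGroup.mk' O)).Normal :=
        Subgroup.Normal.map inferInstance _ (QuotientGroup.mk'_surjective _)
      have h1 : QuotientGroup.mk' O r ∈ Cfsg.pCore p (G ⧸ O) :=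
        CfsgLib.Solvable.Cores.le_pCore ((CfsgLib.Solvable.Cores.isPGroup_pCore p).map _)
          (Subgroup.mem_map_of_mem _ hr)
      have h2 := Subgroup.mem_centralizer_iff.mp
        (h (Subgroup.mem_map_of_mem _ (Subgroup.map_mono hKle hx))) _ h1
      have h4 : QuotientGroup.mk' O ⁅r, x⁆ = 1 := by
        rw [map_commutatorElement, commutatorElement_eq_one_iff_mul_comm]
        exact h2
      have h5 : ⁅r, x⁆ ∈ Cfsg.pCore p G ⊓ O :=
        ⟨Subgroup.commutator_le_left (Cfsg.pCore p G) ⊤
          (Subgroup.commutator_mem_commutator hr (Subgroup.mem_top x)),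
          (QuotientGroup.eq_one_iff _).mp h4⟩
      rw [inf_eq_bot_of_pGroup_coprime (CfsgLib.Solvable.Cores.isPGroup_pCore p)
        (CfsgLib.Solvable.Cores.coprime_card_pPrimeCore p), Subgroup.mem_bot,
        commutatorElement_eq_one_iff_mul_comm] at h5
      exact h5
    refine IsComponent.le_layer (L := K.map N.subtype) ⟨?_,
      IsQuasisimple.of_mulEquiv hK.2 (K.equivMapOfInjective N.subtype N.subtype_injective)⟩
    refine Subgroup.IsSubnormal.trans hKC ?_ (Subgroup.Normal.isSubnormal inferInstance)
    have h' := hK.1.comap (Subgroup.inclusion hCN)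
    have he : (K.map N.subtype).subgroupOf C = K.comap (Subgroup.inclusion hCN) := by
      ext y
      rw [Subgroup.mem_subgroupOf, Subgroup.mem_comap]
      constructor
      · rintro ⟨z, hz, hzy⟩
        have : Subgroup.inclusion hCN y = z := Subtype.ext hzy.symm
        rwa [this]
      · intro hy
        exact ⟨_, hy, rfl⟩
    rwa [he]
  · refine layer_le_iff.mpr fun L hL => ?_
    have hLN : L ≤ N := by
      refine le_trans ?_ hCN
      exact Subgroup.commutator_eq_bot_iff_le_centralizer.mp
        (IsComponent.commutator_solvable_eq_bot hL (by rw [Subgroup.normalizer_eq_top]; exact le_top))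
    rw [← Subgroup.map_subgroupOf_eq_of_le hLN]
    exact Subgroup.map_mono (IsComponent.le_layer (IsComponent.subgroupOf hL hLN))

end Cfsg.Agent.S1267
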