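import Cfsg.Statements.S1271
import Cfsg.Agent.Lib.Components.LocalCore
-- import your own Cfsg.Agent.* helpers here

set_option autoImplicit false
open Cfsg

namespace Cfsg.Agent.S1271

open Subgroup CfsgLib.Components.LocalCore CfsgLib.Components.PermuteComponents
open scoped commutatorElement

/-- Let G be finite with O_{p'}(G) = 1. Suppose that for every component L of G and every subgroup H ≥ L in which L is normal, the quotient H / C_H(L) is balanced for the prime p. Then G is balanced for p. -/
theorem result {G : Type*} [Group G] [Finite G] (p : ℕ) [Fact p.Prime] (hO : Cfsg.pPrimeCore p G = ⊥) (h : ∀ L : Subgroup G, Cfsg.IsComponent L → ∀ H : Subgroup G, L ≤ H → (L.subgroupOf H).Normal → ∀ [((Subgroup.centralizer (L : Set G)).subgroupOf H).Normal], Cfsg.IsBalancedFor p (↥H ⧸ (Subgroup.centralizer (L : Set G)).subgroupOf H)) : Cfsg.IsBalancedFor p G := by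
  classical
  intro x hx
  rw [hO]
  set Q := Cfsg.centralizerPPrimeCore p x with hQdef
  set C := centralizer ({x} : Set G) with hC
  have hxR : IsPGroup p (zpowers x) :=
    IsPGroup.of_card (n := 1) (by rw [Nat.card_zpowers, hx, pow_one])
  have hCR : centralizer ((zpowers x : Subgroup G) : Set G) = C := by
    rw [zpowers_eq_closure, centralizer_closure]
  have hQC : Q ≤ C := map_subtype_le _
  have hQcop : (Nat.card Q).Coprime p := by
    rw [hQdef, Cfsg.centralizerPPrimeCore, card_map_of_injective (subtype_injective _)]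
    exact CfsgLib.Solvable.Cores.coprime_card_pPrimeCore p
  have hCQ : C ≤ normalizer (Q : Set G) := fun g hg =>
    CfsgLib.Components.map_subtype_normal_of_characteristic (Subgroup.le_normalizer hg)
  have hQR : Q ≤ centralizer ((zpowers x : Subgroup G) : Set G) := hCR.symm ▸ hQC
  have hn : centralizer ((zpowers x : Subgroup G) : Set G) ≤ normalizer (Q : Set G) := hCR.symm ▸ hCQ
  set D := bigCentralizer (zpowers x) with hD
  set Q' := (Cfsg.pPrimeCore p ↥D).map D.subtype with hQ'def
  have hQQ' : Q ≤ Q' := le_core_bigCentralizer hO hxR hQcop hQR hn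
  have hQ'cop : (Nat.card Q').Coprime p := by
    rw [hQ'def, card_map_of_injective D.subtype_injective]
    exact CfsgLib.Solvable.Cores.coprime_card_pPrimeCore p
  -- every component is centralised
  have hcomp : ∀ L : Subgroup G, Cfsg.IsComponent L → Q ≤ centralizer (L : Set G) := by
    intro L hL
    by_cases hne : ⁅L, zpowers x⁆ = L
    swap
    · rw [← commutator_eq_bot_iff_le_centralizer, commutator_comm]
      exact core_centralizes_component hO hx hL hne
    have hxL : x ∈ normalizer (L : Set G) := by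
      have h1 : zpowers x ≤ normalizer ((⁅L, zpowers x⁆ : Subgroup G) : Set G) :=
        normalizer_commutator_ge_right _ _
      rw [hne] at h1
      exact h1 (mem_zpowers x)
    set W := zpowers x ⊔ Q' with hW
    have hQ'L : Q' ≤ normalizer (L : Set G) :=
      (core_le_coreLayer D).trans (coreLayer_le_normalizer_component hO hxR hL)
    have hWL : W ≤ normalizer (L : Set G) := sup_le (zpowers_le.mpr hxL) hQ'L
    set H := L ⊔ W with hH
    have hQ'x : ∀ w ∈ W, Commute w x := fun w hw => by
      have : W ≤ centralizer ({x} : Set G) := sup_le (zpowers_le.mpr (mem_centralizer_singleton_iff.mpr rfl))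
        ((map_subtype_le _).trans (inf_le_left.trans hCR.le))
      exact mem_centralizer_singleton_iff.mp (this hw)
    have hWQ : W ≤ normalizer (Q' : Set G) := by
      refine sup_le ?_ Subgroup.le_normalizer
      refine zpowers_le.mpr (CfsgLib.Components.map_subtype_normal_of_characteristic ?_)
      exact normalizer_le_normalizer_bigCentralizer _ (Subgroup.le_normalizer (mem_zpowers x))
    have hLH : (L.subgroupOf H).Normal :=
      (normal_subgroupOf_iff_le_normalizer le_sup_left).mpr (sup_le Subgroup.le_normalizer hWL)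
    haveI hCn : ((centralizer (L : Set G)).subgroupOf H).Normal := ⟨fun c hc g => by
      refine mem_centralizer_iff.mpr fun l hl => ?_
      have hgl : (g : G)⁻¹ * l * g ∈ L := by
        have := (mem_normalizer_iff.mp (inv_mem ((sup_le Subgroup.le_normalizer hWL) g.2)) l).mp hl
        simpa using this
      have h' : (g : G)⁻¹ * l * g * (c : G) = (c : G) * ((g : G)⁻¹ * l * g) :=
        mem_centralizer_iff.mp hc _ hgl
      show l * ((g : G) * c * (g : G)⁻¹) = (g : G) * c * (g : G)⁻¹ * l
      calc l * ((g : G) * c * (g : G)⁻¹) = g * (((g : G)⁻¹ * l * g) * c) * (g : G)⁻¹ := by group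
        _ = g * (c * ((g : G)⁻¹ * l * g)) * (g : G)⁻¹ := by rw [h']
        _ = (g : G) * c * (g : G)⁻¹ * l := by group⟩
    have hb := h L hL H le_sup_left hLH
    set π := QuotientGroup.mk' ((centralizer (L : Set G)).subgroupOf H) with hπ
    have hxH : x ∈ H := mem_sup_right (mem_sup_left (mem_zpowers x))
    set xb := π ⟨x, hxH⟩ with hxb
    have hxb1 : xb ≠ 1 := fun h1 => by
      have hc : x ∈ centralizer (L : Set G) := (QuotientGroup.eq_one_iff (⟨x, hxH⟩ : H)).mp h1
      refine CfsgLib.Components.IsComponent.ne_bot hL ?_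
      rw [← hne, commutator_comm, commutator_eq_bot_iff_le_centralizer]
      exact zpowers_le.mpr hc
    have hxbp : orderOf xb = p := orderOf_eq_prime
      (by rw [hxb, ← map_pow, show (⟨x, hxH⟩ : H) ^ p = 1 from
        Subtype.ext (by simpa [← hx] using pow_orderOf_eq_one x), map_one]) hxb1
    -- the image of `Q'`
    have hQH : Q' ≤ H := le_sup_right.trans le_sup_right
    set Qb := (Q'.subgroupOf H).map π with hQb
    have hQbC : Qb ≤ centralizer ({xb} : Set _) := by
      rintro _ ⟨w, hw, rfl⟩
      rw [mem_centralizer_singleton_iff, hxb, ← map_mul, ← map_mul]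
      exact congrArg π (Subtype.ext (hQ'x _ (mem_sup_right hw)).eq)
    have hQbn : centralizer ({xb} : Set _) ≤ normalizer (Qb : Set _) := by
      intro c hc
      obtain ⟨c, rfl⟩ := QuotientGroup.mk'_surjective _ c
      obtain ⟨l, hl, w, hw, hlw⟩ := CfsgLib.Components.exists_mul_of_mem_sup (B := L) hWL
        (show (c : G) ∈ W ⊔ L by rw [sup_comm]; exact c.2)
      refine le_normalizer_map π (mem_map_of_mem π ?_)
      refine CfsgLib.Coprime.mem_normalizer_of_conj_map_le fun u hu => ?_
      show (c : G) * (u : G) * (c : G)⁻¹ ∈ Q'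
      suffices hcn : (c : G) ∈ normalizer (Q' : Set G) from (mem_normalizer_iff.mp hcn _).mp hu
      rw [← hlw]
      refine mul_mem (hWQ hl) (CfsgLib.Components.map_subtype_normal_of_characteristic
        (mem_normalizer_bigCentralizer fun r hr => ?_))
      have hlH : w ∈ H := mem_sup_left hw
      have hwH : l ∈ H := mem_sup_right hl
      have hcx : Commute (π c) xb := mem_centralizer_singleton_iff.mp hc
      have hce : c = ⟨l, hwH⟩ * ⟨w, hlH⟩ := Subtype.ext hlw.symm
      have hlx : Commute (π ⟨l, hwH⟩) xb := by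
        show π ⟨l, hwH⟩ * xb = xb * π ⟨l, hwH⟩
        rw [hxb, ← map_mul, ← map_mul]
        exact congrArg π (Subtype.ext (hQ'x l hl).eq)
      have hwx : Commute (π ⟨w, hlH⟩) xb := by
        have := hlx.inv_left.mul_left hcx
        rwa [hce, map_mul, inv_mul_cancel_left] at this
      obtain ⟨n, hn'⟩ := mem_zpowers_iff.mp hr
      subst hn'
      have hrH : x ^ n ∈ H := H.zpow_mem hxH n
      have hcomm : π ⁅(⟨w, hlH⟩ : H), ⟨x ^ n, hrH⟩⁆ = 1 := by
        rw [map_commutatorElement, commutatorElement_eq_one_iff_mul_comm]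
        rw [show (⟨x ^ n, hrH⟩ : H) = ⟨x, hxH⟩ ^ n from Subtype.ext (by simp), map_zpow]
        exact (hwx.zpow_right n).eq
      have h1 : ⁅w, x ^ n⁆ ∈ centralizer (L : Set G) :=
        (QuotientGroup.eq_one_iff (⁅(⟨w, hlH⟩ : H), (⟨x ^ n, hrH⟩ : H)⁆)).mp hcomm
      have h2 : ⁅w, x ^ n⁆ ∈ L := by
        rw [commutatorElement_def, show w * x ^ n * w⁻¹ * (x ^ n)⁻¹ = w * (x ^ n * w⁻¹ * (x ^ n)⁻¹) by group]
        exact mul_mem hw ((mem_normalizer_iff.mp ((normalizer (L : Set G)).zpow_mem hxL n) _).mp (inv_mem hw))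
      refine ⟨CfsgLib.Components.IsComponent.le_layer hL h2, mem_centralizer_iff.mpr ?_⟩
      suffices hs : Cfsg.layer G ≤ centralizer {⁅w, x ^ n⁆} from
        fun z hz => mem_centralizer_singleton_iff.mp (hs hz)
      rw [CfsgLib.Components.layer_le_iff]
      intro K hK z hz
      rw [mem_centralizer_singleton_iff]
      by_cases hKL : K = L
      · exact mem_centralizer_iff.mp h1 z (hKL ▸ hz)
      · exact mem_centralizer_iff.mp
          (CfsgLib.Components.IsComponent.le_centralizer_of_ne hL hK (Ne.symm hKL) h2) z hz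
    have hQbcop : (Nat.card Qb).Coprime p := by
      refine Nat.Coprime.coprime_dvd_left (card_map_dvd _ _) ?_
      rwa [Nat.card_congr (subgroupOfEquivOfLe hQH).toEquiv]
    haveI : (Qb.subgroupOf (centralizer ({xb} : Set _))).Normal :=
      (normal_subgroupOf_iff_le_normalizer hQbC).mpr hQbn
    have h3 : Qb.subgroupOf (centralizer ({xb} : Set _)) ≤ Cfsg.pPrimeCore p _ :=
      CfsgLib.Solvable.Cores.le_pPrimeCore
        (by rwa [Nat.card_congr (subgroupOfEquivOfLe hQbC).toEquiv])
    set N := (Cfsg.pPrimeCore p (↥H ⧸ (centralizer (L : Set G)).subgroupOf H)).comap π with hNdef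
    have h4 : Q'.subgroupOf H ≤ N := by
      intro u hu
      exact hb xb hxbp ⟨⟨π u, hQbC (mem_map_of_mem π hu)⟩, h3 (mem_map_of_mem π hu), rfl⟩
    -- `N` centralises `L`
    haveI hNn : N.Normal := inferInstance
    set NL := (N.map H.subtype) ⊓ L with hNL
    haveI hNLn : (NL.subgroupOf L).Normal := ⟨fun a ha l => by
      refine ⟨?_, ?_⟩
      · obtain ⟨u, hu, hua⟩ := ha.1
        have hlH : (l : G) ∈ H := mem_sup_left l.2
        refine ⟨⟨l, hlH⟩ * u * ⟨l, hlH⟩⁻¹, hNn.conj_mem u hu _, ?_⟩
        simp only [map_mul, map_inv, coe_subtype] at hua ⊢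
        rw [hua]
      · exact L.mul_mem (L.mul_mem l.2 ha.2) (L.inv_mem l.2)⟩
    rcases CfsgLib.Components.IsQuasisimple.normal_le_center_or_top hL.2 (NL.subgroupOf L) with hc | hc
    · refine le_trans hQQ' ?_
      rw [← commutator_eq_bot_iff_le_centralizer]
      refine CfsgLib.Components.commutator_eq_bot_of_perfect hL.2.1 ?_
      rw [commutator_eq_bot_iff_le_centralizer, commutator_le]
      intro g hg l hl
      have hgl : ⁅g, l⁆ ∈ L := by
        rw [commutatorElement_def]
        exact mul_mem ((mem_normalizer_iff.mp (hQ'L hg) l).mp hl) (inv_mem hl)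
      have hgN : (⟨g, hQH hg⟩ : H) ∈ N := h4 hg
      have hglN : ⁅g, l⁆ ∈ N.map H.subtype := by
        refine ⟨⁅(⟨g, hQH hg⟩ : H), ⟨l, mem_sup_left hl⟩⁆, ?_, rfl⟩
        rw [commutatorElement_def, mul_assoc, mul_assoc]
        refine mul_mem hgN ?_
        rw [← mul_assoc]
        exact hNn.conj_mem _ (inv_mem hgN) _
      exact mem_centralizer_iff.mpr fun z hz => congrArg Subtype.val
        (mem_center_iff.mp (hc (show (⟨⁅g, l⁆, hgl⟩ : L) ∈ NL.subgroupOf L from ⟨hglN, hgl⟩)) ⟨z, hz⟩)
    · exfalso
      obtain ⟨y, hyL, hyp, hyZ⟩ := exists_pElement hO hL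
      have hyN : y ∈ N.map H.subtype :=
        ((subgroupOf_eq_top.mp hc) hyL).1
      obtain ⟨u, hyN', hye⟩ := hyN
      have hy' : y ∈ H := mem_sup_left hyL
      have hu : u = ⟨y, hy'⟩ := Subtype.ext hye
      subst hu
      obtain ⟨j, hj⟩ := hyp ⟨y, mem_zpowers y⟩
      have hj' : y ^ p ^ j = 1 := by simpa using congrArg Subtype.val hj
      have h5 : orderOf (π ⟨y, hy'⟩) ∣ p ^ j := orderOf_dvd_of_pow_eq_one (by
        rw [← map_pow, show (⟨y, hy'⟩ : H) ^ p ^ j = 1 from Subtype.ext (by simpa using hj'), map_one])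
      have h6 := orderOf_eq_one_iff.mp (Nat.Coprime.eq_one_of_dvd
        (((CfsgLib.Solvable.Cores.coprime_card_pPrimeCore p).pow_right j).symm.coprime_dvd_left h5)
        (Subgroup.orderOf_dvd_natCard _ hyN'))
      have hyc : y ∈ centralizer (L : Set G) := (QuotientGroup.eq_one_iff (⟨y, hy'⟩ : H)).mp h6
      refine hyZ ⟨CfsgLib.Components.IsComponent.le_layer hL hyL, mem_centralizer_iff.mpr ?_⟩
      suffices hs : Cfsg.layer G ≤ centralizer {y} from
        fun z hz => mem_centralizer_singleton_iff.mp (hs hz)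
      rw [CfsgLib.Components.layer_le_iff]
      intro K hK z hz
      rw [mem_centralizer_singleton_iff]
      by_cases hKL : K = L
      · exact mem_centralizer_iff.mp hyc z (hKL ▸ hz)
      · exact mem_centralizer_iff.mp
          (CfsgLib.Components.IsComponent.le_centralizer_of_ne hL hK (Ne.symm hKL) hyL) z hz
  -- hence `Q` centralises `F*(G)`
  have hF : Q ≤ centralizer (Cfsg.generalizedFittingSubgroup G : Set G) := by
    rw [le_centralizer_iff, Cfsg.generalizedFittingSubgroup]
    refine sup_le (CfsgLib.Components.layer_le_iff.mpr fun L hL => le_centralizer_iff.mp (hcomp L hL)) ?_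
    rw [CfsgLib.Solvable.Cores.fittingSubgroup_eq_pCore p hO, le_centralizer_iff]
    exact le_centralizer_pGroup hxR hQcop hQR hn _ (CfsgLib.Solvable.Cores.isPGroup_pCore p)
  have h1 : Q ≤ Cfsg.pCore p G :=
    (hF.trans CfsgLib.Components.centralizer_generalizedFitting_le_fitting).trans
      (CfsgLib.Solvable.Cores.fittingSubgroup_eq_pCore p hO).le
  have h2 := CfsgLib.Components.inf_eq_bot_of_pGroup_coprime (CfsgLib.Solvable.Cores.isPGroup_pCore (G := G) p) hQcop
  rw [inf_eq_right.mpr h1] at h2
  exact h2.le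

end Cfsg.Agent.S1271
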