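import Cfsg.Statements.S1277
import Cfsg.Agent.Lib.Components.PComponents

set_option autoImplicit false
open Cfsg
open CfsgLib.Components

namespace Cfsg.Agent.S1277

/-- For a finite group X with core O(X): the image of E(X) in X / O(X) is all of E(X / O(X)) if and only if every 2-component of X is a component, i.e. L_{2'}(X) ≤ E(X). -/
theorem result {X : Type*} [Group X] [Finite X] : (Cfsg.layer X).map (QuotientGroup.mk' (Cfsg.oddCore X)) = Cfsg.layer (X ⧸ Cfsg.oddCore X) ↔ Cfsg.pLayer 2 X ≤ Cfsg.layer X := by
  constructor
  · intro h
    refine sSup_le fun K hK => ?_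
    by_contra hKE
    set π := QuotientGroup.mk' (Cfsg.pPrimeCore 2 X)
    have hall : ∀ L : Subgroup X, Cfsg.IsComponent L → L.map π ≤ Subgroup.centralizer (K.map π : Set _) := by
      intro L hL
      by_cases hne : L.map π = ⊥
      · simp [hne]
      · have hLc := IsComponent.map hL (QuotientGroup.mk'_surjective _) hne
        refine IsComponent.le_centralizer_of_ne hLc hK.2.1 fun he => hKE ?_
        have hLp : Cfsg.IsPComponent 2 L := IsComponent.isPComponent hL fun hle =>
          hne (by rwa [Subgroup.map_eq_bot_iff, QuotientGroup.ker_mk'])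
        rw [← IsPComponent.eq_of_map_eq hLp hK he]
        exact IsComponent.le_layer hL
    refine IsComponent.not_le_centralizer hK.2.1 ?_
    refine (IsComponent.le_layer hK.2.1).trans ?_
    unfold Cfsg.oddCore at h
    rw [← h, Subgroup.map_le_iff_le_comap, layer_le_iff]
    exact fun L hL => Subgroup.map_le_iff_le_comap.mp (hall L hL)
  · intro h
    refine le_antisymm ?_ ?_
    · rw [Subgroup.map_le_iff_le_comap, layer_le_iff]
      intro L hL
      rw [← Subgroup.map_le_iff_le_comap]
      by_cases hne : L.map (QuotientGroup.mk' (Cfsg.oddCore X)) = ⊥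
      · rw [hne]; exact bot_le
      · exact IsComponent.le_layer (IsComponent.map hL (QuotientGroup.mk'_surjective _) hne)
    · unfold Cfsg.oddCore
      rw [← pLayer_map_eq]
      exact Subgroup.map_mono h

end Cfsg.Agent.S1277
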