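import Cfsg.Statements.S1278
import Cfsg.Agent.Lib.Components.PComponents

set_option autoImplicit false
open Cfsg
open CfsgLib.Components

namespace Cfsg.Agent.S1278

/-- Let K ≠ L be 2-components of the finite group X. Then ⁅K, L⁆ ≤ O(K) ⊓ O(L), and if K is quasisimple then ⁅K, L⁆ = 1. -/
theorem result {X : Type*} [Group X] [Finite X] (K L : Subgroup X) (hK : Cfsg.IsPComponent 2 K) (hL : Cfsg.IsPComponent 2 L) (hne : K ≠ L) : ⁅K, L⁆ ≤ ((Cfsg.oddCore ↥K).map K.subtype) ⊓ ((Cfsg.oddCore ↥L).map L.subtype) ∧ (Cfsg.IsQuasisimple ↥K → ⁅K, L⁆ = ⊥) := by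
  have hK1 : L ≤ Subgroup.normalizer (K : Set X) :=
    (IsPComponent.le_pLayer hL).trans (pLayer_le_normalizer hK)
  have hL1 : K ≤ Subgroup.normalizer (L : Set X) :=
    (IsPComponent.le_pLayer hK).trans (pLayer_le_normalizer hL)
  have h1 : ⁅K, L⁆ ≤ K := commutator_le_left_of_le_normalizer hK1
  have h2 : ⁅K, L⁆ ≤ L := commutator_le_right_of_le_normalizer hL1
  have h3 := IsPComponent.commutator_le_pPrimeCore hK hL hne
  constructor
  · unfold Cfsg.oddCore
    rw [pPrimeCore_map_subtype_eq hK.1, pPrimeCore_map_subtype_eq hL.1]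
    exact le_inf (le_inf h3 h1) (le_inf h3 h2)
  · intro hq
    refine (IsComponent.le_or_commutator_eq_bot (L := K) ⟨hK.1, hq⟩ hL.1).resolve_left fun hle => ?_
    exact hne (IsPComponent.eq_of_perfect_le hL hle hK.1
      (Subgroup.isPerfect_iff.mp (IsPComponent.isPerfect hK)) (IsPComponent.dvd_card hK))

end Cfsg.Agent.S1278
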