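import Cfsg.Statements.S1281
import Cfsg.Agent.Lib.Components.Signalizer.Transitivity
import Cfsg.Agent.Lib.Components.Signalizer.Balance

set_option autoImplicit false
open Cfsg
open CfsgLib.Components CfsgLib.Components.Signalizer
open scoped commutatorElement Pointwise

namespace Cfsg.Agent.S1281

/-- Let θ be a solvable A-signalizer functor on the finite group G (A a noncyclic elementary abelian p-subgroup) and N a normal subgroup of order prime to p. Then for all non-identity a, b ∈ A, the image of θ a in G / N meets the centralizer of the image of b inside the image of θ b. -/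
theorem result {G : Type*} [Group G] [Finite G] (p : ℕ) [Fact p.Prime] (A : Subgroup G) (hA : Cfsg.IsElementaryAbelian p A) (hA2 : p ^ 2 ≤ Nat.card ↥A) (θ : G → Subgroup G) (hθ : Cfsg.IsSolvableSignalizerFunctor p A θ) (N : Subgroup G) [N.Normal] (hN : ¬ p ∣ Nat.card ↥N) (a b : G) (ha : a ∈ A) (ha1 : a ≠ 1) (hb : b ∈ A) (hb1 : b ≠ 1) : (θ a).map (QuotientGroup.mk' N) ⊓ Subgroup.centralizer {QuotientGroup.mk' N b} ≤ (θ b).map (QuotientGroup.mk' N) := by
  rintro _ ⟨⟨x, hx, rfl⟩, hxb⟩
  have h1 := Subgroup.mem_centralizer_singleton_iff.mp hxb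
  have hbA : Subgroup.zpowers b ≤ A := (Subgroup.zpowers_le).mpr hb
  have hAθ := le_normalizer_theta hθ.1 ha ha1
  set M := N ⊓ θ a with hM
  have hbM : Subgroup.zpowers b ≤ Subgroup.normalizer (M : Set G) :=
    (le_inf (by rw [Subgroup.normalizer_eq_top]; exact le_top) (hbA.trans hAθ)).trans
      Subgroup.inf_normalizer_le_normalizer_inf
  have hk : ∀ z ∈ Subgroup.zpowers b, ⁅z, x⁆ ∈ M := by
    intro z hz
    refine ⟨?_, ?_⟩
    · obtain ⟨i, rfl⟩ := Subgroup.mem_zpowers_iff.mp hz
      have h2 : QuotientGroup.mk' N ⁅b ^ i, x⁆ = 1 := by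
        rw [map_commutatorElement, commutatorElement_eq_one_iff_mul_comm, map_zpow]
        exact ((show Commute (QuotientGroup.mk' N b) (QuotientGroup.mk' N x) from h1.symm).zpow_left i).eq
      exact (QuotientGroup.eq_one_iff _).mp h2
    · rw [commutatorElement_def]
      exact Subgroup.mul_mem _ (hθ.1.2.2.1 a ha ha1 z (hbA hz) x hx) (Subgroup.inv_mem _ hx)
  obtain ⟨c, hc, hcx⟩ := CfsgLib.Coprime.exists_centralizer_inv_mul_mem
    (A := Subgroup.zpowers b) (K := θ a) (N := M) (k := x) hbM inf_le_right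
    ((le_inf (by rw [Subgroup.normalizer_eq_top]; exact le_top) Subgroup.le_normalizer).trans
      Subgroup.inf_normalizer_le_normalizer_inf)
    (coprime_zpowers hA hb (not_dvd_of_le inf_le_left hN))
    (.inl (CfsgLib.Coprime.isSolvable_zpowers b)) hx hk
  rw [zpowers_inf_eq] at hc
  refine ⟨c, hθ.1.2.2.2 a ha ha1 b hb hb1 hc, ?_⟩
  show (QuotientGroup.mk' N c) = QuotientGroup.mk' N x
  exact (QuotientGroup.eq.mpr hcx.1).symm

end Cfsg.Agent.S1281
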