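import Cfsg.Statements.S1284
import Cfsg.Agent.Lib.Components.Signalizer.Transitivity
import Cfsg.Agent.Lib.Components.Signalizer.Balance

set_option autoImplicit false
open Cfsg
open CfsgLib.Components CfsgLib.Components.Signalizer
open scoped commutatorElement Pointwise

namespace Cfsg.Agent.S1284

/-- Let θ be a solvable A-signalizer functor on the finite group G, A elementary abelian of rank at least 3, q a prime dividing some |θ a|, and Q maximal among the q-subgroups in the family of θ. Then (a) for every member H of the family, some c in the intersection of the θ a (a ∈ A non-identity) makes c Q c⁻¹ ∩ H a Sylow q-subgroup of H; and (b) for every nontrivial subgroup B ≤ A, C_Q(B) is a Sylow q-subgroup of the intersection of the θ b over the non-identity b ∈ B. -/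
theorem result {G : Type*} [Group G] [Finite G] (p : ℕ) [Fact p.Prime] (A : Subgroup G) (hA : Cfsg.IsElementaryAbelian p A) (hA3 : p ^ 3 ≤ Nat.card ↥A) (θ : G → Subgroup G) (hθ : Cfsg.IsSolvableSignalizerFunctor p A θ) (q : ℕ) [Fact q.Prime] (hq : ∃ a ∈ A, a ≠ 1 ∧ q ∣ Nat.card ↥(θ a)) (Q : Subgroup G) (hQW : Q ∈ Cfsg.signalizerFamily p A θ) (hQq : IsPGroup q ↥Q) (hQmax : ∀ R ∈ Cfsg.signalizerFamily p A θ, IsPGroup q ↥R → Q ≤ R → R = Q) : (∀ H : Subgroup G, H ∈ Cfsg.signalizerFamily p A θ → ∃ c ∈ Cfsg.signalizerInf A θ, ∃ S : Sylow q ↥H, (S : Subgroup ↥H).map H.subtype = Q.map (MulAut.conj c).toMonoidHom ⊓ H) ∧ (∀ B : Subgroup G, B ≤ A → B ≠ ⊥ → ∃ S : Sylow q ↥(Cfsg.signalizerInf B θ), (S : Subgroup ↥(Cfsg.signalizerInf B θ)).map (Cfsg.signalizerInf B θ).subtype = Q ⊓ Subgroup.centralizer (B : Set G)) := by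
  have hsyl : ∀ H : Subgroup G, H ∈ Cfsg.signalizerFamily p A θ →
      ∃ c ∈ Cfsg.signalizerInf A θ, ∃ S : Sylow q ↥H,
        (S : Subgroup ↥H).map H.subtype = Q.map (MulAut.conj c).toMonoidHom ⊓ H := by
    intro H hH
    obtain ⟨S, hS⟩ := CfsgLib.Coprime.exists_invariant_sylow (member_le_normalizer hH)
      (coprime_card hA hH.2.1) (.inr hH.1) q
    obtain ⟨R, hR, hRW, hRq, hRmax⟩ := exists_maximal_member (q := q)
      (member_of_le hH (Subgroup.map_subtype_le _) hS) (S.isPGroup'.map _)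
    obtain ⟨c, hc, he⟩ := exists_conj_maximal hA hA3 hθ hQW hQq hQmax hRW hRq hRmax
    refine ⟨c, hc, S, ?_⟩
    rw [he]
    refine le_antisymm (le_inf hR (Subgroup.map_subtype_le _)) ?_
    intro x hx
    have hSle : (S : Subgroup ↥H) ≤ (R ⊓ H).subgroupOf H := fun y hy =>
      ⟨hR ⟨y, hy, rfl⟩, y.2⟩
    have := S.3 ((hRq.to_le inf_le_left).of_equiv
      (Subgroup.subgroupOfEquivOfLe inf_le_right).symm) hSle
    exact ⟨⟨x, hx.2⟩, this ▸ (show (⟨x, hx.2⟩ : H) ∈ (R ⊓ H).subgroupOf H from hx), rfl⟩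
  refine ⟨hsyl, fun B hB hB1 => ?_⟩
  set T := Cfsg.signalizerInf B θ with hT
  obtain ⟨c, hc, S, hS⟩ := hsyl T (signalizerInf_member hθ hB hB1)
  have hcT : c ∈ T := signalizerInf_anti hB hc
  refine ⟨(⟨c⁻¹, inv_mem hcT⟩ : ↥T) • S, ?_⟩
  rw [CfsgLib.Coprime.map_smul_sylow, hS]
  have h1 : Q ⊓ T = Q ⊓ Subgroup.centralizer (B : Set G) := by
    refine le_antisymm (inf_le_inf_left _ (signalizerInf_le_centralizer hθ.1 hB)) (le_inf inf_le_left ?_)
    exact member_inf_centralizer_le hQW hB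
  rw [← h1, Subgroup.map_inf _ _ _ (MulAut.conj _).injective, Subgroup.map_map,
    map_conj_le_of_le_normalizer (Subgroup.le_normalizer (inv_mem hcT))]
  congr 1
  ext x
  simp [Subgroup.mem_map, mul_assoc]

end Cfsg.Agent.S1284
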