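import Cfsg.Statements.S1285
import Cfsg.Agent.Lib.Components.Signalizer.Transitivity
import Cfsg.Agent.Lib.Components.Signalizer.Balance

set_option autoImplicit false
open Cfsg
open CfsgLib.Components CfsgLib.Components.Signalizer
open scoped commutatorElement Pointwise

namespace Cfsg.Agent.S1285

/-- Let θ be a solvable A-signalizer functor on the finite group G with A elementary abelian of rank at least 3, and suppose that for some prime q every θ a (a ∈ A non-identity) is a q-group. Then θ is complete. -/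
theorem result {G : Type*} [Group G] [Finite G] (p : ℕ) [Fact p.Prime] (A : Subgroup G) (hA : Cfsg.IsElementaryAbelian p A) (hA3 : p ^ 3 ≤ Nat.card ↥A) (θ : G → Subgroup G) (hθ : Cfsg.IsSolvableSignalizerFunctor p A θ) (q : ℕ) [Fact q.Prime] (hq : ∀ a ∈ A, a ≠ 1 → IsPGroup q ↥(θ a)) : Cfsg.IsCompleteSignalizerFunctor p A θ := by
  by_cases htriv : ∀ a ∈ A, a ≠ 1 → θ a = ⊥
  · refine ⟨hθ.1, ⊥, fun b _ x hx => by rw [Subgroup.mem_bot.mp hx]; simp, ?_, fun a ha ha1 => ?_⟩
    · rw [Subgroup.card_bot]; exact (Fact.out : p.Prime).not_dvd_one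
    · rw [bot_inf_eq, htriv a ha ha1]
  push Not at htriv
  obtain ⟨a₀, ha₀, ha₀1, -⟩ := htriv
  have hA1 : A ≠ ⊥ := exists_ne_one_of_card hA3 three_ne_zero
  set C := Cfsg.signalizerInf A θ with hC
  have hCW : C ∈ Cfsg.signalizerFamily p A θ := signalizerInf_member hθ le_rfl hA1
  obtain ⟨M, hCM, hMW, hMq, hMmax⟩ := exists_maximal_member (q := q) hCW
    ((hq a₀ ha₀ ha₀1).to_le (signalizerInf_le ha₀ ha₀1))
  refine ⟨hθ.1, M, hMW.2.2.1, hMW.2.1, fun a ha ha1 => le_antisymm (hMW.2.2.2 a ha ha1) ?_⟩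
  refine le_inf ?_ (hθ.1.1 a ha ha1)
  obtain ⟨R, hR, hRW, hRq, hRmax⟩ := exists_maximal_member (q := q)
    (theta_member hθ ha ha1) (hq a ha ha1)
  obtain ⟨c, hc, he⟩ := exists_conj_maximal hA hA3 hθ hMW hMq hMmax hRW hRq hRmax
  rw [map_conj_le_of_le_normalizer (Subgroup.le_normalizer (hCM hc))] at he
  exact he ▸ hR

end Cfsg.Agent.S1285
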