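import Cfsg.Statements.S1286
import Cfsg.Agent.Lib.Coprime.Action
-- import your own Cfsg.Agent.* helpers here

set_option autoImplicit false
open Cfsg Subgroup

namespace Cfsg.Agent.S1286

abbrev X := Matrix.SpecialLinearGroup (Fin 3) (ZMod 3)

def va : X := ⟨!![-1, 0, 0; 0, 1, 0; 0, 0, -1], by decide +kernel⟩
def vb : X := ⟨!![-1, 0, 0; 0, -1, 0; 0, 0, 1], by decide +kernel⟩
def vx : X := ⟨!![1, 1, 0; 0, 1, 0; 0, 0, 1], by decide +kernel⟩
def vy : X := ⟨!![1, 0, 0; 0, 1, 1; 0, 0, 1], by decide +kernel⟩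

abbrev AMem (u : X) : Prop := u = 1 ∨ u = va ∨ u = vb ∨ u = va * vb

theorem A_closed : ∀ u v : X, AMem u → AMem v → AMem (u * v) := by
  rintro u v (rfl | rfl | rfl | rfl) (rfl | rfl | rfl | rfl) <;> decide +kernel
theorem A_inv : ∀ u : X, AMem u → AMem u⁻¹ := by
  rintro u (rfl | rfl | rfl | rfl) <;> decide +kernel
theorem A_comm : ∀ u v : X, AMem u → AMem v → u * v = v * u := by
  rintro u v (rfl | rfl | rfl | rfl) (rfl | rfl | rfl | rfl) <;> decide +kernel
theorem A_sq : ∀ u : X, AMem u → u ^ 2 = 1 := by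
  rintro u (rfl | rfl | rfl | rfl) <;> decide +kernel
theorem A_card : ({1, va, vb, va * vb} : Finset X).card = 4 := by decide +kernel

def A : Subgroup X where
  carrier := {u | AMem u}
  one_mem' := Or.inl rfl
  mul_mem' := fun {u v} hu hv => A_closed u v hu hv
  inv_mem' := fun {u} hu => A_inv u hu

/-- The generator of the value of the functor. -/
def gen (u : X) : X := if u = vb then vx else if u = va * vb then vy else 1

theorem gen_pow (u : X) : gen u ^ 3 = 1 := by
  unfold gen; split_ifs <;> decide +kernel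

def θ (u : X) : Subgroup X := Subgroup.zpowers (gen u)

abbrev TMem (u w : X) : Prop := w = 1 ∨ w = gen u ∨ w = gen u * gen u

theorem mem_theta {u w : X} (h : w ∈ θ u) : TMem u w := by
  obtain ⟨k, hk⟩ := Subgroup.mem_zpowers_iff.mp h
  rw [← hk, ← zpow_mod_orderOf]
  have hd : orderOf (gen u) ∣ 3 := orderOf_dvd_of_pow_eq_one (gen_pow u)
  have h0 : (0 : ℤ) < orderOf (gen u) := by exact_mod_cast orderOf_pos _
  have h3 : (orderOf (gen u) : ℤ) ≤ 3 := by exact_mod_cast Nat.le_of_dvd (by norm_num) hd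
  have h1 := Int.emod_nonneg k h0.ne'
  have h2 := Int.emod_lt_of_pos k h0
  obtain h | h | h : k % (orderOf (gen u) : ℤ) = 0 ∨ k % (orderOf (gen u) : ℤ) = 1 ∨
      k % (orderOf (gen u) : ℤ) = 2 := by omega
  all_goals rw [h]; simp [TMem, pow_two, zpow_ofNat]

theorem theta_mem {u w : X} (h : TMem u w) : w ∈ θ u := by
  rcases h with rfl | rfl | rfl
  · exact one_mem _
  · exact Subgroup.mem_zpowers _
  · exact mul_mem (Subgroup.mem_zpowers _) (Subgroup.mem_zpowers _)

theorem two_not_dvd (u : X) : ¬ 2 ∣ Nat.card (θ u) := by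
  intro h
  rw [θ, Nat.card_zpowers] at h
  exact absurd (h.trans (orderOf_dvd_of_pow_eq_one (gen_pow u))) (by decide)

theorem theta_cent : ∀ u w : X, AMem u → u ≠ 1 → TMem u w → u * w = w * u := by
  rintro u w (rfl | rfl | rfl | rfl) - (rfl | rfl | rfl) <;> decide +kernel
theorem theta_inv : ∀ u v w : X, AMem u → u ≠ 1 → AMem v → TMem u w → TMem u (v * w * v⁻¹) := by
  rintro u v w (rfl | rfl | rfl | rfl) - (rfl | rfl | rfl | rfl) (rfl | rfl | rfl) <;> decide +kernel
theorem theta_inf : ∀ u v w : X, AMem u → u ≠ 1 → AMem v → v ≠ 1 → TMem u w → w * v = v * w →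
    TMem v w := by
  rintro u v w (rfl | rfl | rfl | rfl) hu (rfl | rfl | rfl | rfl) hv (rfl | rfl | rfl) <;>
    first
      | exact absurd rfl hu
      | exact absurd rfl hv
      | decide +kernel
theorem theta_comm (u s t : X) (hs : TMem u s) (ht : TMem u t) : s * t = t * s := by
  rcases hs with rfl | rfl | rfl <;> rcases ht with rfl | rfl | rfl <;> simp [mul_assoc]

/-- There exist a finite group X, an elementary abelian subgroup A of order 4 and a solvable A-signalizer functor θ on X for the prime 2 which is not complete. -/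
theorem result : ∃ (X : Type) (_ : Group X) (_ : Finite X) (A : Subgroup X) (θ : X → Subgroup X), Cfsg.IsElementaryAbelian 2 A ∧ Nat.card ↥A = 4 ∧ Cfsg.IsSolvableSignalizerFunctor 2 A θ ∧ ¬ Cfsg.IsCompleteSignalizerFunctor 2 A θ := by
  classical
  refine ⟨X, inferInstance, inferInstance, A, θ, ⟨?_, ?_⟩, ?_, ⟨?_, ?_⟩, ?_⟩
  · exact ⟨⟨fun u v => Subtype.ext (A_comm u.1 v.1 u.2 v.2)⟩⟩
  · exact fun u hu => A_sq u hu
  · have he : (A : Set X) = ({1, va, vb, va * vb} : Finset X) := by
      ext u; simp [A, AMem]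
    rw [← SetLike.coe_sort_coe, he, Nat.card_coe_set_eq, Set.ncard_coe_finset, A_card]
  · refine ⟨fun u hu hu1 => ?_, fun u hu hu1 => ?_, fun u hu hu1 v hv w hw => ?_,
      fun u hu hu1 v hv hv1 w hw => ?_⟩
    · intro w hw
      rw [Subgroup.mem_centralizer_singleton_iff]
      exact (theta_cent u w hu hu1 (mem_theta hw)).symm
    · exact fun h => two_not_dvd u h
    · exact theta_mem (theta_inv u v w hu hu1 hv (mem_theta hw))
    · exact theta_mem (theta_inf u v w hu hu1 hv hv1 (mem_theta hw.1)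
        (Subgroup.mem_centralizer_singleton_iff.mp hw.2))
  · intro u _ _
    exact Group.isSolvable_of_comm fun s t => Subtype.ext (theta_comm u s t (mem_theta s.2) (mem_theta t.2))
  · rintro ⟨-, W, -, -, hW⟩
    have hb : W ⊓ centralizer {vb} = θ vb := hW vb (Or.inr (Or.inr (Or.inl rfl))) (by decide +kernel)
    have hc : W ⊓ centralizer {va * vb} = θ (va * vb) :=
      hW (va * vb) (Or.inr (Or.inr (Or.inr rfl))) (by decide +kernel)
    have ha : W ⊓ centralizer {va} = θ va := hW va (Or.inr (Or.inl rfl)) (by decide +kernel)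
    have hx : vx ∈ W := (hb.ge (theta_mem (by decide +kernel))).1
    have hy : vy ∈ W := (hc.ge (theta_mem (by decide +kernel))).1
    have hz : vx * vy * vx⁻¹ * vy⁻¹ ∈ θ va := ha.le ⟨W.mul_mem (W.mul_mem (W.mul_mem hx hy) (W.inv_mem hx)) (W.inv_mem hy),
      Subgroup.mem_centralizer_singleton_iff.mpr (by decide +kernel)⟩
    exact absurd (mem_theta hz) (by decide +kernel)

end Cfsg.Agent.S1286
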