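import Cfsg.Statements.S1287
import Cfsg.Agent.Lib.Components.Factorization
-- import your own Cfsg.Agent.* helpers here

set_option autoImplicit false
open scoped Pointwise
open Cfsg

namespace Cfsg.Agent.S1287

/-- Let A be a noncyclic elementary abelian p-subgroup of a finite group H normalizing a subgroup K of order prime to p, and X, Y ≤ K subgroups normalized by A with C_K(a) = C_X(a) C_Y(a) (as sets) for every non-identity a ∈ A, where X is also normalized by C_K(A). Then K = XY as sets. -/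
theorem result {H : Type*} [Group H] [Finite H] (p : ℕ) [Fact p.Prime] (A K X Y : Subgroup H) (hA : Cfsg.IsElementaryAbelian p A) (hA2 : p ^ 2 ≤ Nat.card ↥A) (hK : ¬ p ∣ Nat.card ↥K) (hAK : A ≤ Subgroup.normalizer (K : Set H)) (hX : X ≤ K) (hY : Y ≤ K) (hAX : A ≤ Subgroup.normalizer (X : Set H)) (hAY : A ≤ Subgroup.normalizer (Y : Set H)) (hCX : K ⊓ Subgroup.centralizer (A : Set H) ≤ Subgroup.normalizer (X : Set H)) (hfac : ∀ a ∈ A, a ≠ 1 → ((K ⊓ Subgroup.centralizer {a} : Subgroup H) : Set H) = ((X ⊓ Subgroup.centralizer {a} : Subgroup H) : Set H) * ((Y ⊓ Subgroup.centralizer {a} : Subgroup H) : Set H)) : (K : Set H) = (X : Set H) * (Y : Set H) := by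
  haveI := hA.1
  have hAp : IsPGroup p A := fun a => ⟨1, Subtype.ext (by simpa using hA.2 a a.2)⟩
  have hcop : (Nat.card A).Coprime (Nat.card K) := by
    obtain ⟨n, hn⟩ := IsPGroup.iff_card.mp hAp
    rw [hn]
    exact ((Fact.out : p.Prime).coprime_iff_not_dvd.mpr hK).pow_left n
  refine CfsgLib.Components.Factorization.factorization hA ?_ hAK hcop hX hY hAX hAY hCX hfac
  intro hc
  obtain ⟨a, ha⟩ := hc.exists_ofOrder_eq_natCard
  have h1 : orderOf a ∣ p := orderOf_dvd_of_pow_eq_one (Subtype.ext (by simpa using hA.2 a a.2))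
  have h2 := Nat.le_of_dvd (Fact.out : p.Prime).pos h1
  rw [ha] at h2
  nlinarith [(Fact.out : p.Prime).two_le]

end Cfsg.Agent.S1287
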