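import Cfsg.Statements.S1288
import Cfsg.Agent.Lib.Coprime.Generation
import Cfsg.Agent.Lib.Coprime.Action
import Cfsg.Agent.Lib.Fusion.Thompson
import Cfsg.Agent.Lib.Solvable.Cores
import Cfsg.Agent.Lib.Components.Constrained
import Cfsg.Agent.Lib.Fusion.PSolvable
-- import your own Cfsg.Agent.* helpers here

set_option autoImplicit false
open Cfsg

open scoped commutatorElement

namespace Cfsg.Agent.S1288

/-- Let A be a noncyclic elementary abelian p-subgroup of a finite group H normalizing a solvable subgroup K of order prime to p, q a prime dividing |K|, and U ≤ K a subgroup of order prime to q such that ⁅U, C_K(B)⁆ has order prime to q for every subgroup B of index p in A. Then U ≤ O_{q'}(K). -/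
theorem result {H : Type*} [Group H] [Finite H] (p : ℕ) [Fact p.Prime] (A K : Subgroup H) (hA : Cfsg.IsElementaryAbelian p A) (hA2 : p ^ 2 ≤ Nat.card ↥A) (hK : ¬ p ∣ Nat.card ↥K) (hKs : Group.IsSolvable ↥K) (hAK : A ≤ Subgroup.normalizer (K : Set H)) (q : ℕ) [Fact q.Prime] (hqK : q ∣ Nat.card ↥K) (U : Subgroup H) (hU : U ≤ K) (hUq : ¬ q ∣ Nat.card ↥U) (hcomm : ∀ B : Subgroup H, B ≤ A → B.relIndex A = p → ¬ q ∣ Nat.card ↥⁅U, K ⊓ Subgroup.centralizer (B : Set H)⁆) : U ≤ (Cfsg.pPrimeCore q ↥K).map K.subtype := by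
  classical
  haveI := hKs
  haveI hOn : (Cfsg.pPrimeCore q ↥K).Normal := CfsgLib.Solvable.Cores.pPrimeCore_normal q
  set O := Cfsg.pPrimeCore q ↥K with hOdef
  set f := QuotientGroup.mk' O with hf
  set Q := Cfsg.pCore q (↥K ⧸ O) with hQdef
  haveI hQn : Q.Normal := CfsgLib.Solvable.Cores.pCore_normal q
  have hO1 : Cfsg.pPrimeCore q (↥K ⧸ O) = ⊥ := CfsgLib.Components.pPrimeCore_quotient_eq_bot
  haveI : Group.IsSolvable (↥K ⧸ O) := Group.isSolvable_of_surjective (QuotientGroup.mk'_surjective O)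
  have hQC : Subgroup.centralizer (Q : Set (↥K ⧸ O)) ≤ Q :=
    CfsgLib.Fusion.PSolvable.centralizer_pCore_le
      (CfsgLib.Fusion.PSolvable.psolvable_of_solvable (p := q)) hO1
  -- the preimage of the core
  set R := (Q.comap f).map K.subtype with hR
  have hRK : R ≤ K := Subgroup.map_subtype_le _
  have hAR : A ≤ Subgroup.normalizer (R : Set H) := by
    intro a ha
    let e : MulAut K := Subgroup.normalizerMonoidHom K ⟨a, hAK ha⟩
    haveI : (Cfsg.pPrimeCore q ↥K).Characteristic := CfsgLib.Solvable.Cores.pPrimeCore_characteristic q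
    have hO' : O.map e.toMonoidHom = O :=
      Subgroup.characteristic_iff_map_eq.mp inferInstance e
    let e' : (↥K ⧸ O) ≃* (↥K ⧸ O) := QuotientGroup.congr O O e hO'
    have hQe : ∀ x : K, f x ∈ Q → f (e x) ∈ Q := fun x hx =>
      Subgroup.characteristic_iff_map_le.mp (CfsgLib.Solvable.Cores.pCore_characteristic q) e' ⟨f x, hx, rfl⟩
    have hQe' : ∀ x : K, f x ∈ Q → f (e.symm x) ∈ Q := fun x hx =>
      Subgroup.characteristic_iff_map_le.mp (CfsgLib.Solvable.Cores.pCore_characteristic q) e'.symm ⟨f x, hx, rfl⟩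
    rw [Subgroup.mem_normalizer_iff]
    intro x
    constructor
    · rintro ⟨y, hy, rfl⟩
      exact ⟨e y, hQe y hy, rfl⟩
    · rintro ⟨y, hy, hyx⟩
      refine ⟨e.symm y, hQe' y hy, ?_⟩
      have h1 : ((e (e.symm y) : K) : H) = a * x * a⁻¹ := by rw [MulEquiv.apply_symm_apply]; exact hyx
      exact mul_left_cancel (mul_right_cancel (h1 : a * ((e.symm y : K) : H) * a⁻¹ = a * x * a⁻¹))
  obtain ⟨m, hm⟩ := (CfsgLib.Fusion.Thompson.isPGroup_isEA hA).exists_card_eq
  have hcop : (Nat.card A).Coprime (Nat.card R) := by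
    rw [hm]
    exact Nat.Coprime.pow_left m (((Fact.out : p.Prime).coprime_iff_not_dvd.2 hK).coprime_dvd_right (Subgroup.card_dvd_of_le hRK))
  haveI := hA.1
  have hgen := CfsgLib.Coprime.iSup_centralizer_of_cyclic_quotient (A := A) hAR hcop
  set u := U.subgroupOf K with hu
  have hkey : R ≤ ((Subgroup.centralizer ((u.map f : Subgroup (↥K ⧸ O)) : Set (↥K ⧸ O))).comap f).map K.subtype := by
    rw [← hgen]
    refine iSup₂_le ?_
    rintro B ⟨hBA, a, ha, hB⟩ x ⟨hxR, hxB⟩
    obtain ⟨j, hj⟩ := ((CfsgLib.Fusion.Thompson.isPGroup_isEA hA).to_le hBA).exists_card_eq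
    have hmj : m ≤ j + 1 := by
      have h1 := CfsgLib.Fusion.Thompson.card_sup_mul_card_inf (N := B) (K := Subgroup.zpowers a)
        ((Subgroup.zpowers_le.2 ha).trans (fun c hc => Subgroup.centralizer_le_normalizer _
          (Subgroup.mem_centralizer_iff.2 fun b hb =>
            CfsgLib.Solvable.Basic.isMulCommutative_subgroup_iff.1 hA.1 b (hBA hb) c hc)))
      rw [hB, hm, hj, Nat.card_zpowers] at h1
      have h2 : orderOf a ≤ p := Nat.le_of_dvd (Fact.out : p.Prime).pos (orderOf_dvd_of_pow_eq_one (hA.2 a ha))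
      have h3 : p ^ m ≤ p ^ (j + 1) := by
        rw [pow_succ p j]
        exact le_trans (le_trans (Nat.le_mul_of_pos_right _ Nat.card_pos) h1.le) (Nat.mul_le_mul_left _ h2)
      exact (Nat.pow_le_pow_iff_right (Fact.out : p.Prime).one_lt).1 h3
    obtain ⟨B₁, hB₁⟩ := Sylow.exists_subgroup_card_pow_prime p (G := B) (n := m - 1)
      (hj ▸ pow_dvd_pow p (by omega))
    set B' := B₁.map B.subtype
    have hB'B : B' ≤ B := Subgroup.map_subtype_le _
    have hrel : B'.relIndex A = p := by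
      have hm1 : 2 ≤ m := (Nat.pow_le_pow_iff_right (Fact.out : p.Prime).one_lt).1 (hm ▸ hA2)
      have h := Subgroup.index_mul_card (B'.subgroupOf A)
      rw [Nat.card_congr (Subgroup.subgroupOfEquivOfLe (hB'B.trans hBA)).toEquiv,
        Subgroup.card_map_of_injective B.subtype_injective, hB₁, hm,
        show p ^ m = p * p ^ (m - 1) by rw [← pow_succ']; congr 1; omega] at h
      exact Nat.eq_of_mul_eq_mul_right (pow_pos (Fact.out : p.Prime).pos _) h
    obtain ⟨y, hy, rfl⟩ := hxR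
    refine ⟨y, ?_, rfl⟩
    refine Subgroup.mem_centralizer_iff.2 ?_
    rintro _ ⟨v, hv, rfl⟩
    refine commutatorElement_eq_one_iff_mul_comm.1 ?_
    rw [← map_commutatorElement]
    have h1 : f ⁅v, y⁆ ∈ Q := by
      rw [map_commutatorElement, commutatorElement_def]
      exact mul_mem (hQn.conj_mem _ hy (f v)) (inv_mem hy)
    have h2 : ((⁅v, y⁆ : K) : H) ∈ ⁅U, K ⊓ Subgroup.centralizer (B' : Set H)⁆ := by
      have : ((⁅v, y⁆ : K) : H) = ⁅(v : H), (y : H)⁆ := map_commutatorElement K.subtype v y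
      rw [this]
      exact Subgroup.commutator_mem_commutator hv ⟨y.2, Subgroup.centralizer_le hB'B hxB⟩
    obtain ⟨i, hi⟩ := CfsgLib.Solvable.Cores.isPGroup_pCore q ⟨_, h1⟩
    have h3 : orderOf (f ⁅v, y⁆) ∣ q ^ i := orderOf_dvd_of_pow_eq_one (congrArg Subtype.val hi)
    have h4 : orderOf (f ⁅v, y⁆) ∣ Nat.card ↥⁅U, K ⊓ Subgroup.centralizer (B' : Set H)⁆ := by
      refine (orderOf_map_dvd f _).trans ?_
      rw [← Subgroup.orderOf_coe, ← Subgroup.orderOf_mk _ h2]
      exact orderOf_dvd_natCard _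
    exact orderOf_eq_one_iff.1 (Nat.eq_one_of_dvd_coprimes
      (((Fact.out : q.Prime).coprime_iff_not_dvd.2 (hcomm B' (hB'B.trans hBA) hrel)).pow_left i) h3 h4)
  have huQ : u.map f ≤ Q := by
    refine le_trans ?_ hQC
    rw [Subgroup.le_centralizer_iff]
    intro x hx
    obtain ⟨y, rfl⟩ := QuotientGroup.mk'_surjective O x
    obtain ⟨z, hz, hzy⟩ := hkey (⟨y, hx, rfl⟩ : (y : H) ∈ R)
    rw [Subtype.ext hzy] at hz
    exact hz
  have hu1 : u.map f = ⊥ := by
    obtain ⟨i, hi⟩ := (CfsgLib.Solvable.Cores.isPGroup_pCore (G := ↥K ⧸ O) q).exists_card_eq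
    refine Subgroup.card_eq_one.1 (Nat.eq_one_of_dvd_coprimes
      (((Fact.out : q.Prime).coprime_iff_not_dvd.2 hUq).pow_left i) (hi ▸ Subgroup.card_dvd_of_le huQ) ?_)
    exact (Subgroup.card_map_dvd u f).trans (dvd_of_eq (Nat.card_congr (Subgroup.subgroupOfEquivOfLe hU).toEquiv))
  intro x hx
  refine ⟨⟨x, hU hx⟩, ?_, rfl⟩
  rw [Subgroup.map_eq_bot_iff, QuotientGroup.ker_mk'] at hu1
  exact hu1 (show (⟨x, hU hx⟩ : K) ∈ u from hx)

end Cfsg.Agent.S1288
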