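import Cfsg.Statements.S1292
import Cfsg.Agent.Lib.Components.Constrained

set_option autoImplicit false
open Cfsg
open CfsgLib.Components
open scoped commutatorElement

namespace Cfsg.Agent.S1292

/-- Let G be a finite group such that F*(C_G(t)) = O_2(C_G(t)) for every involution t. Then F*(N_G(T)) = O_2(N_G(T)) for every nontrivial 2-subgroup T of G. -/
theorem result {G : Type*} [Group G] [Finite G] (h : ∀ t : G, orderOf t = 2 → Cfsg.generalizedFittingSubgroup ↥(Subgroup.centralizer ({t} : Set G)) = Cfsg.pCore 2 ↥(Subgroup.centralizer ({t} : Set G))) (T : Subgroup G) (hT : IsPGroup 2 ↥T) (hT1 : T ≠ ⊥) : Cfsg.generalizedFittingSubgroup ↥(Subgroup.normalizer (T : Set G)) = Cfsg.pCore 2 ↥(Subgroup.normalizer (T : Set G)) := by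
  set N := Subgroup.normalizer (T : Set G) with hN
  haveI : Nontrivial ↥T := T.nontrivial_iff_ne_bot.mpr hT1
  haveI := hT.center_nontrivial
  obtain ⟨u, hu⟩ : ∃ u : Subgroup.center ↥T, orderOf u = 2 := by
    refine exists_prime_orderOf_dvd_card' 2 ?_
    obtain ⟨m, hm⟩ := (hT.to_subgroup (Subgroup.center ↥T)).exists_card_eq
    have h1 : 1 < Nat.card ↥(Subgroup.center ↥T) := Finite.one_lt_card
    rw [hm] at h1 ⊢
    exact dvd_pow_self 2 (by rintro rfl; simp at h1)
  set t : G := ((u : ↥T) : G) with htdef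
  have ht : orderOf t = 2 := by rw [htdef, Subgroup.orderOf_coe, Subgroup.orderOf_coe, hu]
  have htT : t ∈ T := (u : ↥T).2
  have htc : ∀ x ∈ T, x * t = t * x := fun x hx =>
    congrArg Subtype.val (Subgroup.mem_center_iff.mp u.2 ⟨x, hx⟩)
  set H := Subgroup.centralizer ({t} : Set G) with hH
  have hTH : T ≤ H := fun x hx => Subgroup.mem_centralizer_singleton_iff.mpr (htc x hx)
  have hgen := genFitting_normalizer (h t ht) (hT.of_equiv (Subgroup.subgroupOfEquivOfLe hTH).symm)
  set M := Subgroup.normalizer ((T.subgroupOf H : Subgroup H) : Set H) with hM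
  let e : M →* N :=
    { toFun := fun m => ⟨((m : H) : G), by
        rw [hN, Subgroup.mem_normalizer_iff]
        intro y
        by_cases hy : y ∈ H
        · exact Subgroup.mem_normalizer_iff.mp m.2 ⟨y, hy⟩
        · refine ⟨fun h' => absurd (hTH h') hy, fun h' => absurd ?_ hy⟩
          have h'' := H.mul_mem (H.mul_mem (H.inv_mem (m : H).2) (hTH h')) (m : H).2
          simpa [mul_assoc] using h''⟩
      map_one' := rfl
      map_mul' := fun a b => rfl }
  have hrange : ∀ y : N, (y : G) ∈ H → ∃ m : M, e m = y := by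
    intro y hy
    refine ⟨⟨⟨y, hy⟩, Subgroup.mem_normalizer_iff.mpr fun x => ?_⟩, rfl⟩
    exact Subgroup.mem_normalizer_iff.mp y.2 (x : G)
  have hinj : Function.Injective e := fun a b hab =>
    Subtype.ext (Subtype.ext (congrArg (fun y : N => (y : G)) hab))
  haveI : (T.subgroupOf N).Normal :=
    (Subgroup.normal_subgroupOf_iff_le_normalizer Subgroup.le_normalizer).mpr le_rfl
  have hTN : IsPGroup 2 ↥(T.subgroupOf N) :=
    hT.of_equiv (Subgroup.subgroupOfEquivOfLe Subgroup.le_normalizer).symm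
  have hcentH : Subgroup.centralizer (T.subgroupOf N : Set N) ≤ H.subgroupOf N := by
    intro y hy
    rw [Subgroup.mem_subgroupOf, hH, Subgroup.mem_centralizer_singleton_iff]
    exact (congrArg Subtype.val (Subgroup.mem_centralizer_iff.mp hy
      ⟨t, Subgroup.le_normalizer htT⟩ htT)).symm
  have hO : Cfsg.pPrimeCore 2 ↥N = ⊥ := by
    have h1 : (Cfsg.pPrimeCore 2 ↥N).comap e ≤ Cfsg.pPrimeCore 2 ↥M := by
      haveI : ((Cfsg.pPrimeCore 2 ↥N).comap e).Normal := Subgroup.Normal.comap inferInstance _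
      refine CfsgLib.Solvable.Cores.le_pPrimeCore ?_
      refine (CfsgLib.Solvable.Cores.coprime_card_pPrimeCore (G := ↥N) 2).coprime_dvd_left ?_
      rw [← Subgroup.card_map_of_injective hinj]
      exact Subgroup.card_dvd_of_le (Subgroup.map_comap_le _ _)
    rw [pPrimeCore_eq_bot_of_genFitting hgen] at h1
    rw [eq_bot_iff]
    intro y hy
    obtain ⟨m, rfl⟩ := hrange y (hcentH (pPrimeCore_le_centralizer_pGroup hTN hy))
    have := h1 (show m ∈ (Cfsg.pPrimeCore 2 ↥N).comap e from hy)
    rw [Subgroup.mem_bot] at this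
    rw [this, map_one]
    exact one_mem _
  refine genFitting_eq_pCore_of hO ?_
  rw [layer_eq_bot_iff]
  intro L hL
  haveI := hTN.isNilpotent
  have hLH : L ≤ e.range := fun y hy => hrange y (hcentH
    (Subgroup.commutator_eq_bot_iff_le_centralizer.mp (IsComponent.commutator_solvable_eq_bot hL
      (by rw [Subgroup.normalizer_eq_top]; exact le_top)) hy))
  let e' : ↥(L.comap e) ≃* ↥L := ((L.comap e).equivMapOfInjective e hinj).trans
    (MulEquiv.subgroupCongr (Subgroup.map_comap_eq_self hLH))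
  exact layer_eq_bot_iff.mp (layer_eq_bot_of_genFitting hgen) _
    ⟨hL.1.comap e, IsQuasisimple.of_mulEquiv hL.2 e'.symm⟩

end Cfsg.Agent.S1292
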