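import Cfsg.Statements.S1299
import Cfsg.Agent.Lib.Components.Signalizer.Balance

set_option autoImplicit false
set_option maxHeartbeats 400000
open Cfsg

namespace Cfsg.Agent.S1299

open Subgroup CfsgLib CfsgLib.Components CfsgLib.Components.Signalizer
open scoped commutatorElement

theorem le_normalizer_iSup {G ι : Type*} [Group G] {B : Subgroup G} {f : ι → Subgroup G}
    (h : ∀ i, B ≤ normalizer (f i : Set G)) :
    B ≤ normalizer ((⨆ i, f i : Subgroup G) : Set G) := by
  refine le_normalizer_iff.mpr fun b hb x hx => ?_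
  have hle : (⨆ i, f i).map (MulAut.conj b).toMonoidHom ≤ ⨆ i, f i := by
    rw [Subgroup.map_iSup]
    refine iSup_mono fun i => ?_
    rintro y ⟨z, hz, rfl⟩
    exact le_normalizer_iff.mp (h i) b hb z hz
  exact hle ⟨x, hx, rfl⟩

theorem le_normalizer_sup' {G : Type*} [Group G] {B X Y : Subgroup G}
    (hX : B ≤ normalizer (X : Set G)) (hY : B ≤ normalizer (Y : Set G)) :
    B ≤ normalizer ((X ⊔ Y : Subgroup G) : Set G) := by
  rw [sup_eq_iSup]
  exact le_normalizer_iSup fun b => by cases b <;> simpa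

theorem le_normalizer_commutator_self {G : Type*} [Group G] {B X : Subgroup G}
    (h : B ≤ normalizer (X : Set G)) :
    B ≤ normalizer ((⁅X, X⁆ : Subgroup G) : Set G) := by
  refine le_normalizer_iff.mpr fun b hb x hx => ?_
  have hle : (⁅X, X⁆ : Subgroup G).map (MulAut.conj b).toMonoidHom ≤ ⁅X, X⁆ := by
    rw [Subgroup.map_commutator]
    refine commutator_mono ?_ ?_ <;>
    · rintro y ⟨z, hz, rfl⟩
      exact le_normalizer_iff.mp h b hb z hz
  exact hle ⟨x, hx, rfl⟩

/-- A coherent family of local subgroups inside a solvable group is closed: the subgroup it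
generates meets each centralizer in the corresponding member. -/
theorem iSup_inf_centralizer_le {G ι : Type*} [Group G] [Finite G] {A H : Subgroup G}
    (hAs : Group.IsSolvable A) (hcop : (Nat.card A).Coprime (Nat.card H))
    (hHs : Group.IsSolvable H) (W B : ι → Subgroup G) (hB : ∀ i, B i ≤ A) (hWH : ∀ i, W i ≤ H)
    (hAW : ∀ i, A ≤ normalizer (W i : Set G))
    (hbal : ∀ i j, W i ⊓ centralizer (B j : Set G) ≤ W j)
    (hpair : ∀ i j, ∃ U : Subgroup G, W i ≤ U ∧ W j ≤ U ∧ A ≤ normalizer (U : Set G) ∧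
      ∀ Y : Subgroup G, Y ≤ U → A ≤ normalizer (Y : Set G) → Y ≤ ⨆ k, W k ⊓ Y)
    (j : ι) : (⨆ i, W i) ⊓ centralizer (B j : Set G) ≤ W j := by
  classical
  cases nonempty_fintype (Subgroup G)
  set T : Subgroup G := ⨆ i, W i with hTdef
  have hTH : T ≤ H := iSup_le hWH
  haveI := Group.isSolvable_of_isSolvable_injective (f := (inclusion hTH))
    (inclusion_injective hTH)
  obtain ⟨N, hN⟩ := (Group.isSolvable_def ↥T).mp inferInstance
  let D : ℕ → Subgroup G := fun n => (derivedSeries ↥T n).map T.subtype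
  have hD0 : D 0 = T := by simp [D, derivedSeries_zero, ← MonoidHom.range_eq_map]
  have hDs : ∀ n, D (n + 1) = ⁅D n, D n⁆ := fun n => by
    simp only [D, derivedSeries_succ, Subgroup.map_commutator]
  have hDn : ∀ n, A ≤ normalizer (D n : Set G) ∧ T ≤ normalizer (D n : Set G) := by
    intro n
    induction n with
    | zero => rw [hD0]; exact ⟨le_normalizer_iSup hAW, le_normalizer⟩
    | succ n ih =>
      rw [hDs]
      exact ⟨le_normalizer_commutator_self ih.1, le_normalizer_commutator_self ih.2⟩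
  let M : Subgroup G → Subgroup G := fun X => ⨆ i, W i ⊓ X
  suffices key : ∀ m n, n + m = N → M (D n) ⊓ centralizer (B j : Set G) ≤ W j by
    have h := key N 0 (Nat.zero_add N)
    rw [hD0] at h
    refine le_trans (inf_le_inf_right _ ?_) h
    exact iSup_le fun i => le_trans (le_inf le_rfl (le_iSup W i)) (le_iSup (fun i => W i ⊓ T) i)
  intro m
  induction m with
  | zero =>
    intro n hn
    have : M (D n) = ⊥ := by
      rw [Nat.add_zero] at hn
      subst hn
      simp [M, D, hN]
    rw [this, bot_inf_eq]; exact bot_le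
  | succ m ih =>
    intro n hn
    have ih' := ih (n + 1) (by omega)
    obtain ⟨hAX, hTX⟩ := hDn n
    obtain ⟨hAX', hTX'⟩ := hDn (n + 1)
    have hcomm : ∀ i k, ∀ x ∈ W i ⊓ D n, ∀ y ∈ W k ⊓ D n, ⁅x, y⁆ ∈ M (D (n + 1)) := by
      intro i k x hx y hy
      obtain ⟨U, hUi, hUk, hAU, hgen⟩ := hpair i k
      refine (hgen (U ⊓ D (n + 1)) inf_le_left
        ((le_inf hAU hAX').trans inf_normalizer_le_normalizer_inf)).trans
        (iSup_mono fun l => inf_le_inf_left _ inf_le_right) ?_
      refine mem_inf.mpr ⟨?_, hDs n ▸ commutator_mem_commutator hx.2 hy.2⟩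
      exact commutatorElement_def x y ▸ mul_mem (mul_mem (mul_mem (hUi hx.1) (hUk hy.1))
        (inv_mem (hUi hx.1))) (inv_mem (hUk hy.1))
    have hTM : ∀ i, W i ≤ normalizer (M (D (n + 1)) : Set G) := by
      intro i
      refine le_normalizer_iff.mpr fun w hw x hx => ?_
      have hle : (M (D (n + 1))).map (MulAut.conj w).toMonoidHom ≤ M (D (n + 1)) := by
        simp only [M, Subgroup.map_iSup]
        refine iSup_le fun k => ?_
        rintro y ⟨z, hz, rfl⟩
        obtain ⟨U, hUi, hUk, hAU, hgen⟩ := hpair i k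
        refine (hgen (U ⊓ D (n + 1)) inf_le_left
          ((le_inf hAU hAX').trans inf_normalizer_le_normalizer_inf)).trans
          (iSup_mono fun l => inf_le_inf_left _ inf_le_right) ?_
        exact mem_inf.mpr ⟨mul_mem (mul_mem (hUi hw) (hUk hz.1)) (inv_mem (hUi hw)),
          le_normalizer_iff.mp hTX' w (le_iSup W i hw) z hz.2⟩
      exact hle ⟨x, hx, rfl⟩
    let K : Finset ι → Subgroup G := fun S => M (D (n + 1)) ⊔ ⨆ k ∈ S, W k ⊓ D n
    have hAM : ∀ X : Subgroup G, A ≤ normalizer (X : Set G) → A ≤ normalizer (M X : Set G) :=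
      fun X hX => le_normalizer_iSup fun i => (le_inf (hAW i) hX).trans
        inf_normalizer_le_normalizer_inf
    have hAK : ∀ S, A ≤ normalizer (K S : Set G) := fun S => by
      have h1 := hAM _ hAX'
      have h2 : A ≤ normalizer ((⨆ k : {k // k ∈ S}, W k.1 ⊓ D n : Subgroup G) : Set G) :=
        le_normalizer_iSup (f := fun k : {k // k ∈ S} => W k.1 ⊓ D n) fun k =>
          (le_inf (hAW k.1) hAX).trans inf_normalizer_le_normalizer_inf
      have h3 : K S = M (D (n + 1)) ⊔ ⨆ k : {k // k ∈ S}, W k.1 ⊓ D n := by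
        simp only [K, iSup_subtype]
      rw [h3]
      exact le_normalizer_sup' h1 h2
    have hWK : ∀ S i, W i ⊓ D n ≤ normalizer (K S : Set G) := by
      intro S i
      refine le_normalizer_iff.mpr fun w hw x hx => ?_
      have hle : (K S).map (MulAut.conj w).toMonoidHom ≤ K S := by
        simp only [K, Subgroup.map_sup, Subgroup.map_iSup]
        refine sup_le ?_ (iSup₂_le fun k hk => ?_)
        · rintro y ⟨z, hz, rfl⟩
          exact mem_sup_left (le_normalizer_iff.mp (hTM i) w hw.1 z hz)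
        · rintro y ⟨z, hz, rfl⟩
          have e : (MulAut.conj w).toMonoidHom z = ⁅w, z⁆ * z := by
            simp [commutatorElement_def, mul_assoc]
          rw [e]
          exact mul_mem (mem_sup_left (hcomm i k w hw z hz))
            (mem_sup_right (le_iSup₂ (f := fun k _ => W k ⊓ D n) k hk hz))
      exact hle ⟨x, hx, rfl⟩
    have hKT : ∀ S, K S ≤ H := fun S =>
      sup_le (iSup_le fun i => inf_le_left.trans (hWH i))
        (iSup₂_le fun i _ => inf_le_left.trans (hWH i))
    have hS : ∀ S, K S ⊓ centralizer (B j : Set G) ≤ W j := by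
      intro S
      induction S using Finset.induction_on with
      | empty => simpa [K] using ih'
      | @insert i S hi ihS =>
        intro z hz
        have hins : K (insert i S) ≤ K S ⊔ (W i ⊓ D n) := by
          simp only [K, Finset.iSup_insert]
          refine sup_le (le_sup_of_le_left le_sup_left) (sup_le le_sup_right ?_)
          exact le_sup_of_le_left le_sup_right
        obtain ⟨x, hx, y, hy, rfl⟩ := (Coprime.mem_sup_of_le_normalizer (hWK S i)).mp (hins hz.1)
        obtain ⟨x', hx', y', hy', e⟩ := Coprime.centralizer_of_mul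
          ((hB j).trans (hAK S))
          ((hB j).trans ((le_inf (hAW i) hAX).trans inf_normalizer_le_normalizer_inf))
          (Coprime.coprime_of_le hcop (hB j) (hKT S))
          (Or.inl (Coprime.isSolvable_of_le (hB j) hAs)) hx hy hz.2
        rw [e]
        exact mul_mem (ihS hx') (hbal i j ⟨hy'.1.1, hy'.2⟩)
    rcases isEmpty_or_nonempty ι with hι | hι
    · exact (hι.false j).elim
    obtain ⟨S, hS'⟩ : ∃ S : Finset ι, M (D n) ≤ K S := by
      let im : Finset (Subgroup G) := Finset.univ.filter fun X => ∃ k, W k ⊓ D n = X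
      refine ⟨im.image fun X => Classical.epsilon fun k => W k ⊓ D n = X, iSup_le fun k => ?_⟩
      have hk : ∃ l, W l ⊓ D n = W k ⊓ D n := ⟨k, rfl⟩
      refine le_sup_of_le_right ?_
      refine le_iSup₂_of_le (Classical.epsilon fun l => W l ⊓ D n = W k ⊓ D n) ?_ ?_
      · exact Finset.mem_image.mpr ⟨_, by simp [im], rfl⟩
      · exact (Classical.epsilon_spec hk).ge
    exact (inf_le_inf_right _ hS').trans (hS S)

theorem relIndex_sup_le {G : Type*} [Group G] [Finite G] {p : ℕ} {E X A : Subgroup G}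
    (hE : E ≤ A) (hX : X ≤ A) (h : E.relIndex A ≤ p) : (E ⊔ X).relIndex A ≤ p := by
  refine le_trans (Nat.le_of_dvd ?_ (relIndex_dvd_of_le_left A le_sup_left)) h
  exact Nat.pos_of_ne_zero FiniteIndex.index_ne_zero

/-- Let G be finite and k-balanced for the prime p (k ≥ 1), A an elementary abelian p-subgroup of order at least p^(k+2) such that O_{p'}(C_G(a)) is solvable for every non-identity a ∈ A. For a ∈ A put θ a = the subgroup generated by the Δ_G(D) ∩ C_G(a) over the subgroups D ≤ A of order p^k. Then θ is an A-signalizer functor. -/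
theorem result {G : Type*} [Group G] [Finite G] (p k : ℕ) [Fact p.Prime] (hk : 1 ≤ k) (hbal : Cfsg.IsKBalanced p k G) (A : Subgroup G) (hA : Cfsg.IsElementaryAbelian p A) (hAk : p ^ (k + 2) ≤ Nat.card ↥A) (hsolv : ∀ a ∈ A, a ≠ 1 → Group.IsSolvable ↥(Cfsg.centralizerPPrimeCore p a)) : Cfsg.IsSignalizerFunctor p A (fun a => ⨆ D : {D : Subgroup G // D ≤ A ∧ Nat.card ↥D = p ^ k}, Cfsg.signalizerDelta p (D : Subgroup G) ⊓ Subgroup.centralizer {a}) := by
  have hA' : A ≠ ⊥ := exists_ne_one_of_card hAk (by omega)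
  have hAcard : 0 < Nat.card A := Nat.card_pos
  have hord : ∀ b ∈ A, b ≠ 1 → orderOf b = p :=
    fun b hb hb1 => orderOf_eq_prime (hA.2 b hb) hb1
  have hAn : ∀ D : Subgroup G, D ≤ A →
      A ≤ normalizer (signalizerDelta p D : Set G) := by
    intro D hD
    refine le_normalizer_iff.mpr fun b hb x hx => ?_
    simp only [signalizerDelta, mem_iInf] at hx ⊢
    intro d
    exact le_normalizer_iff.mp ((le_centralizer_singleton hA (hD d.2.1)).trans
      (centralizer_le_normalizer_core (d : G))) b hb x (hx d)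
  have hanti : ∀ D E : Subgroup G, D ≤ E → signalizerDelta p E ≤ signalizerDelta p D := by
    intro D E h
    refine le_iInf fun d => iInf_le_of_le ⟨(d : G), h d.2.1, d.2.2⟩ le_rfl
  have hcore : ∀ E : Subgroup G, ∀ a ∈ E, a ≠ 1 →
      signalizerDelta p E ≤ centralizerPPrimeCore p a := fun E a ha ha1 =>
    iInf_le (fun a : {a : G // a ∈ E ∧ a ≠ 1} => centralizerPPrimeCore p (a : G)) ⟨a, ha, ha1⟩
  -- balance in the form used below
  have hbal' : ∀ D E : Subgroup G, D ≤ A → E ≤ A → p ^ k ≤ Nat.card D →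
      signalizerDelta p D ⊓ centralizer (E : Set G) ≤ signalizerDelta p E := by
    intro D E hD hE hDk
    obtain ⟨D₀, hD₀, hD₀D⟩ : ∃ D₀ : Subgroup G, Nat.card D₀ = p ^ k ∧ D₀ ≤ D := by
      obtain ⟨n, hn⟩ := ((isPGroup_of_elementary hA).to_le hD).exists_card_eq
      obtain ⟨D₀, hD₀⟩ := Sylow.exists_subgroup_card_pow_prime (G := D) p (n := k)
        (hn ▸ pow_dvd_pow p ((Nat.pow_le_pow_iff_right (Fact.out : p.Prime).one_lt).mp (hn ▸ hDk)))
      exact ⟨D₀.map D.subtype, by rw [Coprime.card_map_subtype, hD₀], map_subtype_le D₀⟩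
    refine le_iInf fun e => ?_
    refine le_trans ?_ (hbal D₀ (elementary_of_le hA (hD₀D.trans hD)) hD₀ e (hord e (hE e.2.1) e.2.2)
      fun d hd => commute_of_mem hA (hD (hD₀D hd)) (hE e.2.1))
    exact inf_le_inf (hanti _ _ hD₀D) (centralizer_le (Set.singleton_subset_iff.mpr e.2.1))
  have hindex : ∀ E : Subgroup G, E ≤ A → E.relIndex A ≤ p → p ^ (k + 1) ≤ Nat.card E := by
    intro E hE hEi
    have h1 := Coprime.card_mul_relIndex' hE
    have h2 : Nat.card E * E.relIndex A ≤ Nat.card E * p := Nat.mul_le_mul_left _ hEi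
    rw [h1] at h2
    have h3 := hAk.trans h2
    rw [pow_succ p (k + 1)] at h3
    exact Nat.le_of_mul_le_mul_right h3 (Fact.out : p.Prime).pos
  set θ : G → Subgroup G := fun a =>
    ⨆ D : {D : Subgroup G // D ≤ A ∧ Nat.card ↥D = p ^ k},
      signalizerDelta p (D : Subgroup G) ⊓ Subgroup.centralizer {a} with hθ
  let H : G → Type _ := fun a => {E : Subgroup G // E ≤ A ∧ E.relIndex A ≤ p ∧ a ∈ E}
  have hθeq : ∀ a ∈ A, a ≠ 1 → θ a = ⨆ E : H a, signalizerDelta p E.1 := by
    intro a ha ha1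
    refine le_antisymm (iSup_le fun D => ?_) (iSup_le fun E => ?_)
    · obtain ⟨D, hD, hDk⟩ := D
      have hD1 : D ≠ ⊥ := exists_ne_one_of_card (p := p) hDk.ge (by omega)
      obtain ⟨⟨d, hd⟩, hd1'⟩ := ne_bot_iff_exists_ne_one.mp hD1
      have hd1 : d ≠ 1 := fun h => hd1' (Subtype.ext h)
      have hp' : ¬ p ∣ Nat.card ↥(signalizerDelta p D ⊓ centralizer {a}) :=
        not_dvd_of_le (inf_le_left.trans (hcore D d hd hd1)) (not_dvd_centralizerPPrimeCore d)
      refine (le_iSup_centralizer_hyperplanes hA le_rfl hp'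
        (le_normalizer_inf_centralizer_singleton hA (hAn D hD) ha)).trans (iSup_le fun E => ?_)
      refine le_iSup_of_le (⟨E.1 ⊔ zpowers a, sup_le E.2.1 (zpowers_le.mpr ha),
        relIndex_sup_le E.2.1 (zpowers_le.mpr ha) E.2.2, mem_sup_right (mem_zpowers a)⟩ : H a) ?_
      refine le_trans ?_ (hbal' D _ hD (sup_le E.2.1 (zpowers_le.mpr ha)) hDk.ge)
      refine le_inf (inf_le_left.trans inf_le_left) ?_
      rw [le_centralizer_iff]
      refine sup_le (le_centralizer_iff.mp inf_le_right) (zpowers_le.mpr ?_)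
      rw [mem_centralizer_iff]
      intro x hx
      exact mem_centralizer_singleton_iff.mp hx.1.2
    · obtain ⟨E, hE, hEi, haE⟩ := E
      obtain ⟨n, hn⟩ := ((isPGroup_of_elementary hA).to_le hE).exists_card_eq
      obtain ⟨D₀, hD₀⟩ := Sylow.exists_subgroup_card_pow_prime (G := E) p (n := k)
        (hn ▸ pow_dvd_pow p ((Nat.pow_le_pow_iff_right (Fact.out : p.Prime).one_lt).mp
          ((Nat.pow_le_pow_right (Fact.out : p.Prime).pos (Nat.le_succ k)).trans
            (hn ▸ hindex E hE hEi))))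
      refine le_iSup_of_le (⟨D₀.map E.subtype, (map_subtype_le D₀).trans hE,
        by rw [Coprime.card_map_subtype, hD₀]⟩ : {D : Subgroup G // D ≤ A ∧ Nat.card ↥D = p ^ k}) ?_
      exact le_inf (hanti _ _ (map_subtype_le D₀))
        ((hcore E a haE ha1).trans (centralizerPPrimeCore_le a))
  have hle : ∀ a ∈ A, a ≠ 1 → θ a ≤ centralizerPPrimeCore p a := fun a ha ha1 =>
    hθeq a ha ha1 ▸ iSup_le fun E => hcore E.1 a E.2.2.2 ha1
  have hθn : ∀ a ∈ A, a ≠ 1 → A ≤ normalizer (θ a : Set G) := fun a ha ha1 =>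
    hθeq a ha ha1 ▸ le_normalizer_iSup fun E => hAn E.1 E.2.1
  refine ⟨fun a ha ha1 => (hle a ha ha1).trans (centralizerPPrimeCore_le a),
    fun a ha ha1 => not_dvd_of_le (hle a ha ha1) (not_dvd_centralizerPPrimeCore a),
    fun a ha ha1 b hb x hx => le_normalizer_iff.mp (hθn a ha ha1) b hb x hx, ?_⟩
  intro a ha ha1 b hb hb1
  haveI : Group.IsSolvable ↥A := by
    haveI := hA.1
    exact Group.isSolvable_of_comm fun x y => hA.1.is_comm.comm x y
  have hkey : ∀ E : H a, θ a ⊓ centralizer (E.1 : Set G) ≤ signalizerDelta p E.1 := by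
    rw [hθeq a ha ha1]
    refine iSup_inf_centralizer_le (A := A) (H := centralizerPPrimeCore p a) inferInstance
      (coprime_card hA (not_dvd_centralizerPPrimeCore a)) (hsolv a ha ha1)
      (fun E : H a => signalizerDelta p E.1) (fun E => E.1) (fun E => E.2.1)
      (fun E => hcore E.1 a E.2.2.2 ha1) (fun E => hAn E.1 E.2.1) ?_ ?_
    · exact fun E E' => hbal' E.1 E'.1 E.2.1 E'.2.1
        ((Nat.pow_le_pow_right (Fact.out : p.Prime).pos (Nat.le_succ k)).trans
          (hindex E.1 E.2.1 E.2.2.1))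
    · intro E E'
      refine ⟨signalizerDelta p (E.1 ⊓ E'.1), hanti _ _ inf_le_left, hanti _ _ inf_le_right,
        hAn _ (inf_le_left.trans E.2.1), fun Y hY hAY => ?_⟩
      have hFk : p ^ k ≤ Nat.card ↥(E.1 ⊓ E'.1) := by
        have h1 := Coprime.card_mul_relIndex' (inf_le_left.trans E.2.1 : E.1 ⊓ E'.1 ≤ A)
        have h2 : (E.1 ⊓ E'.1).relIndex A ≤ p * p :=
          relIndex_inf_le.trans (Nat.mul_le_mul E.2.2.1 E'.2.2.1)
        have h3 := hAk.trans ((h1 ▸ Nat.mul_le_mul_left _ h2 :
          Nat.card A ≤ Nat.card ↥(E.1 ⊓ E'.1) * (p * p)))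
        rw [pow_add, pow_two] at h3
        exact Nat.le_of_mul_le_mul_right h3 (Nat.mul_pos (Fact.out : p.Prime).pos
          (Fact.out : p.Prime).pos)
      have haF : a ∈ E.1 ⊓ E'.1 := ⟨E.2.2.2, E'.2.2.2⟩
      have hYa : Y ≤ centralizer {a} :=
        (hY.trans (hcore _ a haF ha1)).trans (centralizerPPrimeCore_le a)
      refine (le_iSup_centralizer_hyperplanes hA le_rfl (not_dvd_of_le (hY.trans
        (hcore _ a haF ha1)) (not_dvd_centralizerPPrimeCore a)) hAY).trans (iSup_le fun B => ?_)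
      refine le_iSup_of_le (⟨B.1 ⊔ zpowers a, sup_le B.2.1 (zpowers_le.mpr ha),
        relIndex_sup_le B.2.1 (zpowers_le.mpr ha) B.2.2, mem_sup_right (mem_zpowers a)⟩ : H a) ?_
      refine le_inf (le_trans ?_ (hbal' _ _ (inf_le_left.trans E.2.1)
        (sup_le B.2.1 (zpowers_le.mpr ha)) hFk)) inf_le_left
      refine le_inf (inf_le_left.trans hY) ?_
      rw [le_centralizer_iff]
      refine sup_le (le_centralizer_iff.mp inf_le_right) (zpowers_le.mpr ?_)
      rw [mem_centralizer_iff]
      intro x hx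
      exact mem_centralizer_singleton_iff.mp (hYa hx.1)
  have hXn : A ≤ normalizer ((θ a ⊓ centralizer {b} : Subgroup G) : Set G) :=
    le_normalizer_inf_centralizer_singleton hA (hθn a ha ha1) hb
  refine (le_iSup_centralizer_hyperplanes hA le_rfl (not_dvd_of_le (inf_le_left.trans
    (hle a ha ha1)) (not_dvd_centralizerPPrimeCore a)) hXn).trans (iSup_le fun B => ?_)
  let E : Subgroup G := B.1 ⊔ zpowers a ⊔ zpowers b
  have hBa : B.1 ⊔ zpowers a ≤ A := sup_le B.2.1 (zpowers_le.mpr ha)
  have hEA : E ≤ A := sup_le hBa (zpowers_le.mpr hb)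
  have hEi : E.relIndex A ≤ p :=
    relIndex_sup_le hBa (zpowers_le.mpr hb) (relIndex_sup_le B.2.1 (zpowers_le.mpr ha) B.2.2)
  show _ ≤ θ b
  rw [hθeq b hb hb1]
  refine le_trans ?_ (le_iSup (fun E : H b => signalizerDelta p E.1)
    (⟨E, hEA, hEi, mem_sup_right (mem_zpowers b)⟩ : H b))
  refine le_trans ?_ (hkey ⟨E, hEA, hEi, mem_sup_left (mem_sup_right (mem_zpowers a))⟩)
  refine le_inf (inf_le_left.trans inf_le_left) ?_
  rw [le_centralizer_iff]
  refine sup_le (sup_le (le_centralizer_iff.mp inf_le_right) (zpowers_le.mpr ?_))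
    (zpowers_le.mpr ?_)
  · rw [mem_centralizer_iff]
    intro x hx
    exact mem_centralizer_singleton_iff.mp (centralizerPPrimeCore_le a (hle a ha ha1 hx.1.1))
  · rw [mem_centralizer_iff]
    intro x hx
    exact mem_centralizer_singleton_iff.mp hx.1.2

end Cfsg.Agent.S1299
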