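import Cfsg.Statements.S1300
import Cfsg.Agent.Lib.Components.Signalizer.Transitivity
import Cfsg.Agent.Lib.Components.Signalizer.Balance

set_option autoImplicit false
open Cfsg
open CfsgLib.Components CfsgLib.Components.Signalizer
open scoped commutatorElement Pointwise

namespace Cfsg.Agent.S1300

/-- For a finite group G, balance in the sense of commuting involutions is the same as 1-balance for the prime 2. -/
theorem result {G : Type*} [Group G] [Finite G] : Cfsg.IsBalanced G ↔ Cfsg.IsKBalanced 2 1 G := by
  constructor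
  · intro h E hE hcard b hb hcomm x hx
    rw [pow_one] at hcard
    obtain ⟨e, he, he1⟩ := E.bot_or_exists_ne_one.resolve_left fun h0 => by
      rw [h0, Subgroup.card_bot] at hcard; omega
    have hord : orderOf e = 2 := orderOf_eq_prime (hE.2 e he) he1
    have hx1 : x ∈ Cfsg.centralizerPPrimeCore 2 e := by
      have := Subgroup.mem_iInf.mp hx.1 ⟨e, he, he1⟩
      exact this
    exact ((h e b hord hb (hcomm e he)).le ⟨hx1, hx.2⟩).1
  · intro h x y hx hy hxy
    have key : ∀ u v : G, orderOf u = 2 → orderOf v = 2 → u * v = v * u →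
        Cfsg.centralizerPPrimeCore 2 u ⊓ Subgroup.centralizer {v} ≤
          Cfsg.centralizerPPrimeCore 2 v ⊓ Subgroup.centralizer {u} := by
      intro u v hu hv huv z hz
      have hpow : u * u = 1 := by rw [← pow_two, ← hu]; exact pow_orderOf_eq_one u
      have hel : Cfsg.IsElementaryAbelian 2 (Subgroup.zpowers u) := by
        refine ⟨⟨⟨fun a b => mul_comm' a b⟩⟩, fun a ha => ?_⟩
        obtain ⟨i, rfl⟩ := Subgroup.mem_zpowers_iff.mp ha
        rw [← zpow_natCast, ← zpow_mul, mul_comm, zpow_mul, zpow_natCast, pow_two, hpow, one_zpow]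
      refine ⟨h _ hel (by rw [Nat.card_zpowers, hu, pow_one]) v hv (fun a ha => ?_) ⟨?_, hz.2⟩, ?_⟩
      · obtain ⟨i, rfl⟩ := Subgroup.mem_zpowers_iff.mp ha
        exact ((show Commute u v from huv).zpow_left i).eq
      · refine Subgroup.mem_iInf.mpr fun w => ?_
        obtain ⟨i, hi⟩ := Subgroup.mem_zpowers_iff.mp w.2.1
        have : (w : G) = u := by
          rcases Int.even_or_odd i with ⟨j, rfl⟩ | ⟨j, rfl⟩
          · refine absurd ?_ w.2.2
            rw [← hi, ← two_mul, zpow_mul, zpow_two, hpow, one_zpow]
          · rw [← hi, zpow_add, zpow_mul, zpow_two, hpow, one_zpow, one_mul, zpow_one]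
        rw [this]; exact hz.1
      · exact centralizerPPrimeCore_le u hz.1
    exact le_antisymm (key x y hx hy hxy) (key y x hy hx hxy.symm)

end Cfsg.Agent.S1300
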