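import Cfsg.Statements.S1302
import Cfsg.Agent.Lib.OddOrder.ConstrainedTransitivity
import Cfsg.Agent.Lib.PGroup.CoprimeFix
-- import your own Cfsg.Agent.* helpers here

set_option autoImplicit false
open Cfsg

open scoped commutatorElement

namespace Cfsg.Agent.S1302

/-- Let X be a finite p-constrained group, p an odd prime, and A an abelian p-subgroup of X containing every element of order p of C_X(A). Then every subgroup of X of order prime to p that is normalized by A lies in O_{p'}(X). -/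
theorem result {X : Type*} [Group X] [Finite X] (p : ℕ) [Fact p.Prime] (hp : p ≠ 2) (hX : Cfsg.IsPConstrained p X) (A : Subgroup X) (hA : IsMulCommutative ↥A) (hAp : IsPGroup p ↥A) (hΩ : ∀ x ∈ Subgroup.centralizer (A : Set X), orderOf x = p → x ∈ A) (Q : Subgroup X) (hQ : ¬ p ∣ Nat.card ↥Q) (hAQ : A ≤ Subgroup.normalizer (Q : Set X)) : Q ≤ Cfsg.pPrimeCore p X := by
  classical
  have hLcop : (Nat.card Q).Coprime p := ((Fact.out : p.Prime).coprime_iff_not_dvd.mpr hQ).symm
  set O := Cfsg.pPrimeCore p X with hO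
  haveI : O.Normal := CfsgLib.Solvable.Cores.pPrimeCore_normal p
  set f := QuotientGroup.mk' O with hf
  have hfs : Function.Surjective f := QuotientGroup.mk'_surjective O
  set T := Cfsg.pCore p (X ⧸ O) with hT
  haveI hTn : T.Normal := CfsgLib.Solvable.Cores.pCore_normal p
  have hTC : Subgroup.centralizer (T : Set (X ⧸ O)) ≤ T :=
    (CfsgLib.Components.centralizer_pCore_le_iff_layer CfsgLib.Components.pPrimeCore_quotient_eq_bot).2
      (CfsgLib.Components.pLayer_eq_bot_iff.1 (CfsgLib.Components.isPConstrained_iff.1 hX))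
  have hTp : IsPGroup p T := CfsgLib.Solvable.Cores.isPGroup_pCore p
  have hLb : (Nat.card (Q.map f)).Coprime p := hLcop.coprime_dvd_left (Subgroup.card_map_dvd _ f)
  have hdisj : Q.map f ⊓ T = ⊥ := by
    refine (Subgroup.disjoint_of_coprime_natCard ?_).eq_bot
    obtain ⟨j, hj⟩ := hTp.exists_card_eq
    rw [hj]; exact hLb.pow_right j
  -- the elements of small order of a critical subgroup
  obtain ⟨C, hC, hC2, hcrit⟩ := CfsgLib.PGroup.CoprimeFix.exists_critical (P := T) hTp
  set D := hC2.small.map T.subtype with hD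
  have hqq : CfsgLib.PGroup.CoprimeFix.qq p = p := by
    unfold CfsgLib.PGroup.CoprimeFix.qq; rw [if_neg hp]
  have hDT : D ≤ T := Subgroup.map_subtype_le _
  have hDn : ∀ A' : Subgroup (X ⧸ O), A' ≤ Subgroup.normalizer (D : Set (X ⧸ O)) := by
    intro A' g _
    have h1 : ∀ g : X ⧸ O, ∀ x ∈ D, g * x * g⁻¹ ∈ D := by
      rintro g _ ⟨x, hx, rfl⟩
      refine ⟨MulAut.conjNormal g x, ⟨Subgroup.characteristic_iff_map_le.mp hC _ ⟨x, hx.1, rfl⟩, ?_⟩, rfl⟩
      rw [← map_pow, hx.2, map_one]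
    rw [Subgroup.mem_normalizer_iff]
    refine fun x => ⟨h1 g x, fun hx => ?_⟩
    have := h1 g⁻¹ _ hx
    simpa [mul_assoc] using this
  have hEL : A.map f ≤ Subgroup.normalizer (Q.map f : Set (X ⧸ O)) := by
    rintro _ ⟨e, he, rfl⟩
    exact Subgroup.le_normalizer_map f ⟨e, hAQ he, rfl⟩
  have hfix : D ⊓ Subgroup.centralizer ((A.map f : Subgroup (X ⧸ O)) : Set (X ⧸ O)) ≤
      Subgroup.centralizer ((Q.map f : Subgroup (X ⧸ O)) : Set (X ⧸ O)) := by
    rintro t ⟨htD, htE⟩
    have htT := hDT htD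
    have htp : t ^ p = 1 := by
      obtain ⟨x, hx, rfl⟩ := htD
      rw [← map_pow, ← hqq, hx.2, map_one]
    by_cases ht1 : t = 1
    · rw [ht1]; exact one_mem _
    obtain ⟨k, rfl⟩ := hfs t
    have hcopE : (Nat.card A).Coprime (Nat.card O) := by
      obtain ⟨j, hj⟩ := hAp.exists_card_eq
      rw [hj]; exact ((CfsgLib.Solvable.Cores.coprime_card_pPrimeCore (G := X) p).symm).pow_left j
    obtain ⟨n, hn, hnk⟩ := CfsgLib.Coprime.exists_mul_mem_centralizer (A := A) (N := O) (k := k)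
      (by rw [Subgroup.normalizer_eq_top]; exact le_top) hcopE
      (Or.inl (IsNilpotent.to_isSolvable (h := hAp.isNilpotent))) fun a ha => by
        rw [← QuotientGroup.eq_one_iff (N := O), ← QuotientGroup.mk'_apply, map_commutatorElement,
          commutatorElement_eq_one_iff_commute]
        exact Subgroup.mem_centralizer_iff.mp htE (f a) ⟨a, ha, rfl⟩
    have hfc : f (n * k) = f k := by
      rw [map_mul, show f n = 1 from (QuotientGroup.eq_one_iff n).mpr hn, one_mul]
    set y := n * k with hy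
    obtain ⟨a, b, hb, hab⟩ := Nat.exists_eq_pow_mul_and_not_dvd (orderOf_pos y).ne' p (Fact.out : p.Prime).ne_one
    have hb0 : b ≠ 0 := fun h0 => hb (h0 ▸ dvd_zero p)
    have hord : orderOf (y ^ b) = p ^ a := by
      rw [orderOf_pow_of_dvd hb0 (Dvd.intro_left _ hab.symm), hab, Nat.mul_div_cancel _ (Nat.pos_of_ne_zero hb0)]
    obtain ⟨i, hi⟩ := exists_pow_eq_self_of_coprime (n := b) (x := f k) (by
      rw [orderOf_eq_prime htp ht1]; exact ((Fact.out : p.Prime).coprime_iff_not_dvd.mpr hb).symm)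
    have hp1 : (y ^ b) ^ p = 1 := by
      have h1 : (y ^ b) ^ p ∈ O := by
        rw [← QuotientGroup.eq_one_iff (N := O), ← QuotientGroup.mk'_apply, map_pow, map_pow, ← hf, hfc,
          ← pow_mul, mul_comm, pow_mul, htp, one_pow]
      refine orderOf_eq_one_iff.1 (Nat.eq_one_of_dvd_coprimes
        ((CfsgLib.Solvable.Cores.coprime_card_pPrimeCore (G := X) p).symm.pow_left a) ?_ ?_)
      · exact hord ▸ orderOf_pow_dvd p
      · rw [← Subgroup.orderOf_mk _ h1]; exact orderOf_dvd_natCard _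
    have hne : y ^ b ≠ 1 := by
      intro h
      rw [← hfc, ← map_pow, h, map_one, one_pow] at hi
      exact ht1 (hfc.symm.trans hi.symm)
    have hyA : y ^ b ∈ A := hΩ _ (pow_mem hnk b) (orderOf_eq_prime hp1 hne)
    have hkE : f k ∈ A.map f := hi ▸ pow_mem (⟨_, hyA, by rw [map_pow, hfc]⟩ : f k ^ b ∈ A.map f) i
    refine Subgroup.mem_centralizer_iff.mpr fun l hl => ?_
    have h1 : ⁅l, f k⁆ ∈ Q.map f ⊓ T := by
      refine ⟨?_, ?_⟩
      · rw [SetLike.mem_coe, commutatorElement_def, show l * f k * l⁻¹ * (f k)⁻¹ = l * (f k * l⁻¹ * (f k)⁻¹) by group]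
        exact (Q.map f).mul_mem hl ((Subgroup.mem_normalizer_iff.mp (hEL hkE) _).mp ((Q.map f).inv_mem hl))
      · rw [SetLike.mem_coe, commutatorElement_def]
        exact T.mul_mem (hTn.conj_mem _ htT l) (T.inv_mem htT)
    rw [hdisj, Subgroup.mem_bot] at h1
    exact (commutatorElement_eq_one_iff_commute.mp h1).eq
  have hmain := CfsgLib.OddOrder.FixedPointsFix.main (hTp.to_le hDT) (hAp.map f) hLb (hDn _) (hDn _) hEL hfix
    (Or.inl hp)
  intro l hl
  let σ : MulAut T := MulAut.conjNormal (f l)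
  have hσc : (orderOf σ).Coprime p := by
    refine hLb.coprime_dvd_left ((orderOf_map_dvd (MulAut.conjNormal : X ⧸ O →* MulAut T) (f l)).trans ?_)
    rw [← Subgroup.orderOf_mk (H := Q.map f) (f l) ⟨l, hl, rfl⟩]
    exact orderOf_dvd_natCard _
  have hfixC : ∀ x ∈ C, σ x = x := by
    haveI := hC
    have hσC : ∀ x ∈ C, σ x ∈ C := fun x hx => Subgroup.characteristic_iff_map_le.mp hC σ ⟨x, hx, rfl⟩
    have hσi : ∀ x ∈ C, σ⁻¹ x ∈ C := fun x hx => Subgroup.characteristic_iff_map_le.mp hC σ⁻¹ ⟨x, hx, rfl⟩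
    let τ : MulAut C :=
      { toFun := fun x => ⟨σ x, hσC x x.2⟩
        invFun := fun x => ⟨σ⁻¹ x, hσi x x.2⟩
        left_inv := fun x => Subtype.ext (σ.symm_apply_apply x)
        right_inv := fun x => Subtype.ext (σ.apply_symm_apply x)
        map_mul' := fun x y => Subtype.ext (map_mul σ (x : T) y) }
    have hiter : ∀ (j : ℕ) (x : C), ((τ ^ j) x : T) = (σ ^ j) x := by
      intro j
      induction j with
      | zero => intro x; rfl
      | succ j ih => intro x; rw [pow_succ, pow_succ, MulAut.mul_apply, MulAut.mul_apply, ih]; rfl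
    have hτ : τ ^ orderOf σ = 1 := MulEquiv.ext fun x => Subtype.ext (by
      rw [hiter, pow_orderOf_eq_one]; rfl)
    have hτ1 := CfsgLib.PGroup.CoprimeFix.eq_one_of_fix (hTp.to_subgroup C) τ
      (hσc.coprime_dvd_left (orderOf_dvd_of_pow_eq_one hτ)) fun x hx => by
        refine Subtype.ext (Subtype.ext ?_)
        have hxD : ((x : T) : X ⧸ O) ∈ D := ⟨x, ⟨x.2, congrArg Subtype.val hx⟩, rfl⟩
        have h := Subgroup.mem_centralizer_iff.1 (hmain hxD) (f l) ⟨l, hl, rfl⟩
        show f l * ((x : T) : X ⧸ O) * (f l)⁻¹ = _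
        rw [h, mul_inv_cancel_right]
    exact fun x hx => congrArg (fun a : MulAut C => ((a ⟨x, hx⟩ : C) : T)) hτ1
  have hσ1 := hcrit σ hσc hfixC
  have h1 : f l ∈ Q.map f ⊓ T := ⟨⟨l, hl, rfl⟩, hTC (Subgroup.mem_centralizer_iff.mpr fun t ht => by
    have h := congrArg (fun a : MulAut T => ((a ⟨t, ht⟩ : T) : X ⧸ O)) hσ1
    exact (mul_inv_eq_iff_eq_mul.1 (h : f l * t * (f l)⁻¹ = t)).symm)⟩
  rw [hdisj, Subgroup.mem_bot] at h1
  exact (QuotientGroup.eq_one_iff l).mp h1

end Cfsg.Agent.S1302
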