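import Cfsg.Statements.S1303
import Cfsg.Agent.Lib.Components.Constrained
-- import your own Cfsg.Agent.* helpers here

set_option autoImplicit false
set_option maxHeartbeats 1000000
open Cfsg Subgroup

namespace Cfsg.Agent.S1303

abbrev X := Matrix.SpecialLinearGroup (Fin 2) (ZMod 3)

theorem exponent24 : ∀ x : X, x ^ 24 = 1 := by decide +kernel
theorem eight_to_four : ∀ x : X, x ^ 8 = 1 → x ^ 4 = 1 := by decide +kernel
theorem four_closed : ∀ a b : X, a ^ 4 = 1 → b ^ 4 = 1 → (a * b) ^ 4 = 1 := by decide +kernel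
theorem no_normal_three : ∀ x : X, x ^ 3 = 1 → (∀ g : X, (g * x * g⁻¹ * x⁻¹) ^ 3 = 1) → x = 1 := by
  decide +kernel
theorem cent_four : ∀ c : X, (∀ y : X, y ^ 4 = 1 → c * y = y * c) → c ^ 4 = 1 := by decide +kernel
theorem involution_central : ∀ t : X, t ^ 2 = 1 → t ≠ 1 → ∀ g : X, g * t = t * g := by decide +kernel

/-- An element of order `3`. -/
def u : X := ⟨!![1, 1; 0, 1], by simp [Matrix.det_fin_two]⟩

theorem u_ne : u ≠ 1 := by decide +kernel
theorem orderOf_u : orderOf u = 3 := orderOf_eq_prime (by decide +kernel) u_ne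

/-- The group X = SL(2, 3): it is 2-constrained, O_{2'}(X) = 1, its centre A = Z(X) contains every involution of X = C_X(A), and X has a subgroup of order 3 (normalized by A) not contained in O_{2'}(X). -/
theorem result : Cfsg.IsPConstrained 2 (Matrix.SpecialLinearGroup (Fin 2) (ZMod 3)) ∧ Cfsg.pPrimeCore 2 (Matrix.SpecialLinearGroup (Fin 2) (ZMod 3)) = ⊥ ∧ (∀ t : Matrix.SpecialLinearGroup (Fin 2) (ZMod 3), orderOf t = 2 → t ∈ Subgroup.center (Matrix.SpecialLinearGroup (Fin 2) (ZMod 3))) ∧ ∃ Q : Subgroup (Matrix.SpecialLinearGroup (Fin 2) (ZMod 3)), Nat.card ↥Q = 3 ∧ ¬ (Q ≤ Cfsg.pPrimeCore 2 (Matrix.SpecialLinearGroup (Fin 2) (ZMod 3))) := by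
  have hbot : Cfsg.pPrimeCore 2 X = ⊥ := by
    rw [eq_bot_iff]
    intro x hx
    have hodd : ∀ y ∈ Cfsg.pPrimeCore 2 X, y ^ 3 = 1 := fun y hy => by
      have hc : (Nat.card (Cfsg.pPrimeCore 2 X)).Coprime 2 := CfsgLib.Solvable.Cores.coprime_card_pPrimeCore 2
      have h24 : orderOf y ∣ 24 := orderOf_dvd_of_pow_eq_one (exponent24 y)
      have hy2 : (orderOf y).Coprime 8 := by
        have := Nat.Coprime.coprime_dvd_left (Subgroup.orderOf_dvd_natCard _ hy) hc
        exact this.pow_right 3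
      exact orderOf_dvd_iff_pow_eq_one.mp (hy2.dvd_of_dvd_mul_left (n := 3) (by simpa using h24))
    rw [mem_bot]
    refine no_normal_three x (hodd x hx) fun g => hodd _ ?_
    exact mul_mem (Subgroup.Normal.conj_mem inferInstance x hx g) (inv_mem hx)
  refine ⟨?_, hbot, ?_, ?_⟩
  · intro P c hc
    let Y := Cfsg.pPrimePCore 2 X
    let Q : Subgroup X :=
      { carrier := {x | x ^ 4 = 1}
        one_mem' := one_pow 4
        mul_mem' := fun {a b} ha hb => four_closed a b ha hb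
        inv_mem' := fun {a} ha => by simpa [inv_pow] using ha }
    haveI hQn : Q.Normal := ⟨fun a (ha : a ^ 4 = 1) g => by show (g * a * g⁻¹) ^ 4 = 1; simp [conj_pow, ha]⟩
    have hQ : IsPGroup 2 Q := fun a => ⟨2, Subtype.ext a.2⟩
    haveI : (Q.map (QuotientGroup.mk' (Cfsg.pPrimeCore 2 X))).Normal :=
      hQn.map _ (QuotientGroup.mk'_surjective _)
    have hQY : Q ≤ Y := fun a ha => Subgroup.mem_comap.mpr
      (CfsgLib.Solvable.Cores.le_pCore (hQ.map _) ⟨a, ha, rfl⟩)
    have hQP : Q.subgroupOf Y ≤ P :=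
      (CfsgLib.Solvable.Cores.le_pCore (hQ.comap_of_injective Y.subtype Y.subtype_injective)).trans
        (CfsgLib.Solvable.Cores.pCore_le_sylow P)
    refine hQY (cent_four c fun y hy => ?_)
    have hyP : (⟨y, hQY hy⟩ : Y) ∈ (P : Subgroup Y) := hQP (show (⟨y, hQY hy⟩ : Y) ∈ Q.subgroupOf Y from hy)
    exact (mem_centralizer_iff.mp hc y ⟨⟨y, hQY hy⟩, hyP, rfl⟩).symm
  · intro t ht
    rw [mem_center_iff]
    refine involution_central t ?_ fun h => ?_
    · exact orderOf_dvd_iff_pow_eq_one.mp ht.dvd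
    · rw [h, orderOf_one] at ht; omega
  · refine ⟨zpowers u, by rw [Nat.card_zpowers]; exact orderOf_u, fun h => ?_⟩
    rw [hbot, zpowers_le, mem_bot] at h
    exact u_ne h

end Cfsg.Agent.S1303
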