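import Cfsg.Statements.S1304
import Cfsg.Agent.Lib.Components.GenFitting

set_option autoImplicit false
open Cfsg
open CfsgLib.Components
open scoped commutatorElement

namespace Cfsg.Agent.S1304

/-- Let X be a perfect group and α an automorphism of X with α(x) x⁻¹ central for every x. Then α is the identity. -/
theorem result {X : Type*} [Group X] (hperf : commutator X = ⊤) (α : X ≃* X) (h : ∀ x : X, α x * x⁻¹ ∈ Subgroup.center X) : ∀ x : X, α x = x := by
  haveI : Group.IsPerfect X := ⟨hperf⟩
  intro x
  have hx : x ∈ α.toMonoidHom.eqLocus (MonoidHom.id X) := by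
    have hle : commutator X ≤ α.toMonoidHom.eqLocus (MonoidHom.id X) := by
      rw [commutator_def]
      refine Subgroup.commutator_le.mpr fun a _ b _ => ?_
      show α ⁅a, b⁆ = ⁅a, b⁆
      have hc : ∀ y : X, ∃ z ∈ Subgroup.center X, α y = y * z := fun y =>
        ⟨y⁻¹ * α y, by
          have h1 := (Subgroup.instNormalCenter (G := X)).conj_mem _ (h y) y⁻¹
          simpa [mul_assoc] using h1, by simp⟩
      obtain ⟨z, hz, hza⟩ := hc a
      obtain ⟨w, hw, hwb⟩ := hc b
      rw [map_commutatorElement, hza, hwb, commutatorElement_mul_center hz hw]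
    rw [hperf] at hle
    exact hle (Subgroup.mem_top x)
  exact hx

end Cfsg.Agent.S1304
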