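import Cfsg.Statements.S1305
import Cfsg.Agent.Lib.Components.PumpUp

set_option autoImplicit false
set_option linter.style.haveILetI false
open Cfsg
open CfsgLib.Components

namespace Cfsg.Agent.S1305

/-- Let G be a finite group of component type with the B-property and no nontrivial normal subgroup of odd order. Let a be an involution and K a component of C_G(a) such that (a) |K| is maximal among the orders of components of centralizers of involutions of G, (b) subject to (a) the 2-rank of the centralizer of K in C_G(a) is as large as possible, and (c) K has 2-rank at least 2. If B is an elementary abelian 2-subgroup of that centralizer of the largest possible order, then K is a component of C_G(b) for every non-identity b ∈ B. -/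
theorem result {G : Type*} [Group G] [Finite G] (hO : Cfsg.oddCore G = ⊥) (hB : Cfsg.HasBProperty G) (hct : Cfsg.IsComponentType G) (a : G) (ha : orderOf a = 2) (K : Subgroup G) (hKa : K ≤ Subgroup.centralizer ({a} : Set G)) (hK : Cfsg.IsComponent (K.subgroupOf (Subgroup.centralizer ({a} : Set G)))) (hmax : ∀ y : G, orderOf y = 2 → ∀ K' : Subgroup G, K' ≤ Subgroup.centralizer ({y} : Set G) → Cfsg.IsComponent (K'.subgroupOf (Subgroup.centralizer ({y} : Set G))) → Nat.card ↥K' ≤ Nat.card ↥K ∧ (Nat.card ↥K' = Nat.card ↥K → ∀ k : ℕ, Cfsg.PRankLE 2 k ↥(Subgroup.centralizer ({a} : Set G) ⊓ Subgroup.centralizer (K : Set G)) → Cfsg.PRankLE 2 k ↥(Subgroup.centralizer ({y} : Set G) ⊓ Subgroup.centralizer (K' : Set G)))) (hrk : ¬ Cfsg.PRankLE 2 1 ↥K) (B : Subgroup G) (hBle : B ≤ Subgroup.centralizer ({a} : Set G) ⊓ Subgroup.centralizer (K : Set G)) (hBel : Cfsg.IsElementaryAbelian 2 B) (hBmax : ∀ B' : Subgroup G, B' ≤ Subgroup.centralizer ({a} : Set G) ⊓ Subgroup.centralizer (K : Set G) → Cfsg.IsElementaryAbelian 2 B'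 → Nat.card ↥B' ≤ Nat.card ↥B) (b : G) (hb : b ∈ B) (hb1 : b ≠ 1) : K ≤ Subgroup.centralizer ({b} : Set G) ∧ Cfsg.IsComponent (K.subgroupOf (Subgroup.centralizer ({b} : Set G))) := by
  haveI : Fact (Nat.Prime 2) := ⟨Nat.prime_two⟩
  set Ca := Subgroup.centralizer ({a} : Set G) with hCa
  set Cb := Subgroup.centralizer ({b} : Set G) with hCb
  have hbM := hBle hb
  have hKb : K ≤ Cb := fun k hk => Subgroup.mem_centralizer_singleton_iff.mpr
    (Subgroup.mem_centralizer_iff.mp hbM.2 k hk)
  refine ⟨hKb, ?_⟩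
  have hb2 : orderOf b = 2 := orderOf_eq_prime (hBel.2 b hb) hb1
  have haCb : a ∈ Cb := Subgroup.mem_centralizer_singleton_iff.mpr
    (Subgroup.mem_centralizer_singleton_iff.mp hbM.1).symm
  set a' : Cb := ⟨a, haCb⟩
  have ha' : a' * a' = 1 := by
    refine Subtype.ext ?_
    show a * a = 1
    rw [← pow_two, ← ha, pow_orderOf_eq_one]
  -- the component of `C(a) ∩ C(b)`
  set Kb := K.subgroupOf Cb with hKbdef
  have hKba : Kb ≤ Subgroup.centralizer ({a'} : Set Cb) := fun k hk =>
    Subgroup.mem_centralizer_singleton_iff.mpr (Subtype.ext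
      (Subgroup.mem_centralizer_singleton_iff.mp (hKa hk)))
  have hKbc : Cfsg.IsComponent (Kb.subgroupOf (Subgroup.centralizer ({a'} : Set Cb))) := by
    let ψ : ↥(Subgroup.centralizer ({a'} : Set Cb)) →* Ca :=
      (Cb.subtype.comp (Subgroup.centralizer ({a'} : Set Cb)).subtype).codRestrict _ fun x =>
        Subgroup.mem_centralizer_singleton_iff.mpr
          (congrArg Subtype.val (Subgroup.mem_centralizer_singleton_iff.mp x.2))
    refine ⟨hK.1.comap ψ, IsQuasisimple.of_mulEquiv hK.2 ?_⟩
    exact ((Subgroup.subgroupOfEquivOfLe hKba).trans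
      ((Subgroup.subgroupOfEquivOfLe hKb).trans (Subgroup.subgroupOfEquivOfLe hKa).symm)).symm
  have hKcard : Nat.card Kb = Nat.card K :=
    Nat.card_congr (Subgroup.subgroupOfEquivOfLe hKb).toEquiv
  have heven : 2 ∣ Nat.card Kb := by
    rw [hKcard]
    simp only [Cfsg.PRankLE, not_forall, not_le] at hrk
    obtain ⟨A0, -, hA02, hA0⟩ := hrk
    obtain ⟨x, hx, hx1⟩ : ∃ x ∈ A0, x ≠ 1 := by
      by_contra hcon
      push Not at hcon
      rw [(Subgroup.eq_bot_iff_forall A0).mpr hcon, Subgroup.card_bot] at hA0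
      norm_num at hA0
    have h2 := orderOf_dvd_natCard x
    rwa [orderOf_eq_prime (hA02 x hx) hx1] at h2
  have hE : Cfsg.pLayer 2 Cb ≤ Cfsg.layer Cb := by
    have h0 : ⁅Cfsg.pLayer 2 Cb, Cfsg.oddCore Cb⁆ = ⊥ := by
      have h := hB b hb2
      rw [hO, le_bot_iff, Subgroup.map_eq_bot_iff_of_injective _ Cb.subtype_injective] at h
      exact h
    refine sSup_le fun L hL => IsComponent.le_layer ⟨hL.1, ?_⟩
    rw [IsPComponent.isQuasisimple_iff hL, eq_bot_iff]
    exact (Subgroup.commutator_mono (IsPComponent.le_pLayer hL)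
      (pPrimeCore_map_subtype_le hL.1)).trans h0.le
  obtain ⟨D, hD, -, hcases⟩ :=
    PumpUp.exists_component_of_centralizer ha' hKba hKbc heven hE
  set Dg := D.map Cb.subtype with hDg
  have hDgle : Dg ≤ Cb := Subgroup.map_subtype_le _
  have hDgc : Cfsg.IsComponent (Dg.subgroupOf Cb) := by
    rw [hDg, subgroupOf_map_subtype_eq]; exact hD
  obtain ⟨hle, hrank⟩ := hmax b hb2 Dg hDgle hDgc
  have hDcard : Nat.card Dg = Nat.card D := Subgroup.card_map_of_injective Cb.subtype_injective
  rcases hcases with hKD | ⟨hne, φ, hφ, hrange⟩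
  · have heq : Kb = D := Subgroup.eq_of_le_of_card_ge hKD (by omega)
    show Cfsg.IsComponent Kb
    rw [heq]; exact hD
  · exfalso
    have h1 : Nat.card Kb ≤ Nat.card D := by
      rw [← hrange]
      exact Nat.card_le_card_of_surjective φ.rangeRestrict φ.rangeRestrict_surjective
    have hinj : Function.Injective φ := by
      have h2 : Nat.card D = Nat.card φ.range := by rw [hrange]; omega
      have h3 := ((Nat.bijective_iff_surjective_and_card φ.rangeRestrict).mpr
        ⟨φ.rangeRestrict_surjective, h2⟩).injective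
      exact fun x y hxy => h3 (Subtype.ext hxy)
    have hBb : B ≤ Cb := fun x hx => Subgroup.mem_centralizer_singleton_iff.mpr
      (congrArg Subtype.val (hBel.1.is_comm.comm ⟨x, hx⟩ ⟨b, hb⟩) :)
    have hcb : Nat.card (B.subgroupOf Cb) = Nat.card B :=
      Nat.card_congr (Subgroup.subgroupOfEquivOfLe hBb).toEquiv
    obtain ⟨A, hAD, hAc, hA2, hAcard⟩ := PumpUp.exists_larger_elementary ha' hD hne φ hφ hinj (by
        intro h
        refine hrk fun A0 hA0 hA02 => ?_
        let ι : ↥K →* φ.range :=
          (Subgroup.inclusion hKb).codRestrict _ fun k => hrange.symm ▸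
            (show Subgroup.inclusion hKb k ∈ Kb from k.2)
        have hι : Function.Injective ι := fun x y hxy => by
          have h3 : Subgroup.inclusion hKb x = Subgroup.inclusion hKb y := congrArg Subtype.val hxy
          exact Subgroup.inclusion_injective hKb h3
        have h4 := h (A0.map ι) (by haveI := hA0; infer_instance) (by
          rintro _ ⟨x, hx, rfl⟩; rw [← map_pow, hA02 x hx, map_one])
        rwa [Subgroup.card_map_of_injective hι] at h4)
      (B := B.subgroupOf Cb) ⟨⟨⟨fun x y => Subtype.ext (Subtype.ext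
        (congrArg Subtype.val (hBel.1.is_comm.comm ⟨_, x.2⟩ ⟨_, y.2⟩) :))⟩⟩,
        fun x hx => Subtype.ext (hBel.2 _ hx)⟩
      (fun x hx => Subgroup.mem_centralizer_singleton_iff.mpr (Subtype.ext
        (Subgroup.mem_centralizer_singleton_iff.mp (hBle hx).1)))
      (by
        rw [hrange]
        exact fun x hx => Subgroup.mem_centralizer_iff.mpr fun k hk => Subtype.ext
          (Subgroup.mem_centralizer_iff.mp (hBle hx).2 k hk))
    -- the rank condition
    obtain ⟨m, hm⟩ : ∃ m, Nat.card B = 2 ^ m := by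
      have hBp : IsPGroup 2 B := fun x => ⟨1, Subtype.ext (by simpa using hBel.2 x x.2)⟩
      exact hBp.exists_card_eq
    have hle2 : Cfsg.PRankLE 2 m ↥(Ca ⊓ Subgroup.centralizer (K : Set G)) := by
      intro A0 hA0 hA02
      rw [← hm, ← Subgroup.card_map_of_injective
        (Ca ⊓ Subgroup.centralizer (K : Set G)).subtype_injective (K := A0)]
      refine hBmax _ (Subgroup.map_subtype_le _) ⟨inferInstance, ?_⟩
      rintro _ ⟨x, hx, rfl⟩; rw [← map_pow, hA02 x hx, map_one]
    have hAle : A.map Cb.subtype ≤ Cb ⊓ Subgroup.centralizer (Dg : Set G) := by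
      rintro _ ⟨x, hx, rfl⟩
      refine ⟨x.2, Subgroup.mem_centralizer_iff.mpr ?_⟩
      rintro _ ⟨d, hd, rfl⟩
      exact congrArg Subtype.val (Subgroup.mem_centralizer_iff.mp (hAD hx) d hd)
    have h4 := hrank (by omega) m hle2 ((A.map Cb.subtype).subgroupOf _)
      (by haveI := hAc; infer_instance) (by
      intro x hx
      obtain ⟨y, hy, hyx⟩ := (Subgroup.mem_subgroupOf.mp hx)
      refine Subtype.ext ?_
      show (x : G) ^ 2 = 1
      rw [← hyx, ← map_pow, hA2 y hy, map_one])
    rw [Nat.card_congr (Subgroup.subgroupOfEquivOfLe hAle).toEquiv,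
      Subgroup.card_map_of_injective Cb.subtype_injective, ← hm] at h4
    omega

end Cfsg.Agent.S1305
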