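import Cfsg.Statements.S1313
import Cfsg.Agent.Lib.Components.GenFitting

set_option autoImplicit false
open Cfsg
open CfsgLib.Components
open scoped commutatorElement

namespace Cfsg.Agent.S1313

/-- For a finite group H, |H| ≤ |F*(H)|!. -/
theorem result {H : Type*} [Group H] [Finite H] : Nat.card H ≤ Nat.factorial (Nat.card ↥(Cfsg.generalizedFittingSubgroup H)) := by
  classical
  set F := Cfsg.generalizedFittingSubgroup H with hF
  let act : H →* Equiv.Perm {x : ↥F // x ≠ 1} :=
    { toFun := fun h =>
        { toFun := fun x => ⟨MulAut.conjNormal h x.1, fun e => x.2 (by simpa using e)⟩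
          invFun := fun x => ⟨(MulAut.conjNormal h).symm x.1, fun e => x.2 (by simpa using e)⟩
          left_inv := fun x => Subtype.ext ((MulAut.conjNormal h).symm_apply_apply x.1)
          right_inv := fun x => Subtype.ext ((MulAut.conjNormal h).apply_symm_apply x.1) }
      map_one' := by ext x; simp
      map_mul' := fun a b => by ext x; simp [mul_assoc] }
  have hker : act.ker ≤ Subgroup.centralizer (F : Set H) := by
    intro h hh
    rw [Subgroup.mem_centralizer_iff]
    intro y hy
    by_cases hy1 : y = 1
    · simp [hy1]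
    have h1 := Equiv.Perm.congr_fun (MonoidHom.mem_ker.mp hh) ⟨⟨y, hy⟩, by simpa using hy1⟩
    have h2 : h * y * h⁻¹ = y := by
      have h3 := congrArg (fun z : {x : ↥F // x ≠ 1} => ((z : ↥F) : H)) h1
      simpa [act] using h3
    exact (mul_inv_eq_iff_eq_mul.mp h2).symm
  have hcard : Nat.card H = Nat.card act.ker * Nat.card act.range := by
    rw [Subgroup.card_eq_card_quotient_mul_card_subgroup act.ker, mul_comm,
      Nat.card_congr (QuotientGroup.quotientKerEquivRange act).toEquiv]
  have hn : Nat.card {x : ↥F // x ≠ 1} + 1 = Nat.card ↥F := by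
    haveI := Fintype.ofFinite ↥F
    have h1 : (1 : ℕ) ≤ Fintype.card ↥F := Fintype.card_pos
    rw [Nat.card_eq_fintype_card, Nat.card_eq_fintype_card, Fintype.card_subtype_compl,
      Fintype.card_subtype_eq]
    omega
  have h1 : Nat.card act.range ≤ (Nat.card {x : ↥F // x ≠ 1}).factorial := by
    rw [← Nat.card_perm]
    exact Nat.le_of_dvd Nat.card_pos (Subgroup.card_subgroup_dvd_card _)
  have h2 : Nat.card act.ker ≤ Nat.card ↥F :=
    Nat.le_of_dvd Nat.card_pos
      (Subgroup.card_dvd_of_le (hker.trans centralizer_generalizedFitting_le))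
  calc Nat.card H = Nat.card act.ker * Nat.card act.range := hcard
    _ ≤ Nat.card ↥F * (Nat.card {x : ↥F // x ≠ 1}).factorial := Nat.mul_le_mul h2 h1
    _ = (Nat.card ↥F).factorial := by rw [← hn, Nat.factorial_succ]

end Cfsg.Agent.S1313
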