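import Cfsg.Statements.S1316
import Cfsg.Agent.Lib.Components.GenFitting

set_option autoImplicit false
open Cfsg
open CfsgLib.Components
open scoped commutatorElement

namespace Cfsg.Agent.S1316

/-- For a finite group X, E(X) equals the intersection of the derived series of F*(X) (its last term). -/
theorem result {X : Type*} [Group X] [Finite X] : (⨅ n : ℕ, (derivedSeries ↥(Cfsg.generalizedFittingSubgroup X) n).map (Cfsg.generalizedFittingSubgroup X).subtype) = Cfsg.layer X := by
  set F := Cfsg.generalizedFittingSubgroup X with hF
  have hF' : Cfsg.fittingSubgroup X ≤ F := le_sup_right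
  have hE : Cfsg.layer X ≤ F := le_sup_left
  refine le_antisymm ?_ (le_iInf fun n => ?_)
  · haveI : Group.IsSolvable ↥(Cfsg.fittingSubgroup X) := inferInstance
    obtain ⟨n, hn⟩ := (Group.isSolvable_def _).mp ‹Group.IsSolvable ↥(Cfsg.fittingSubgroup X)›
    refine iInf_le_of_le n ?_
    have key : ∀ m, (derivedSeries ↥F m).map F.subtype ≤
        Cfsg.layer X ⊔
          (derivedSeries ↥(Cfsg.fittingSubgroup X) m).map (Cfsg.fittingSubgroup X).subtype := by
      intro m
      induction m with
      | zero =>
        simp only [derivedSeries_zero, ← MonoidHom.range_eq_map, Subgroup.range_subtype, hF,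
          Cfsg.generalizedFittingSubgroup]
        exact le_rfl
      | succ m ih =>
        rw [derivedSeries_succ, Subgroup.map_commutator, derivedSeries_succ,
          Subgroup.map_commutator]
        refine (Subgroup.commutator_mono ih ih).trans ?_
        set D := (derivedSeries ↥(Cfsg.fittingSubgroup X) m).map (Cfsg.fittingSubgroup X).subtype
        set q := QuotientGroup.mk' (Cfsg.layer X)
        have hq : (Cfsg.layer X).map q = ⊥ := by
          rw [Subgroup.map_eq_bot_iff, QuotientGroup.ker_mk']
        have h1 : (⁅Cfsg.layer X ⊔ D, Cfsg.layer X ⊔ D⁆).map q ≤ (⁅D, D⁆).map q := by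
          simp only [Subgroup.map_commutator, Subgroup.map_sup, hq, bot_sup_eq]
          exact le_rfl
        rw [Subgroup.map_le_iff_le_comap, Subgroup.comap_map_eq, QuotientGroup.ker_mk'] at h1
        exact h1.trans (le_of_eq (sup_comm _ _))
    refine (key n).trans ?_
    rw [hn, Subgroup.map_bot, sup_bot_eq]
  · induction n with
    | zero =>
      rw [derivedSeries_zero, ← MonoidHom.range_eq_map, Subgroup.range_subtype]
      exact hE
    | succ n ih =>
      rw [derivedSeries_succ, Subgroup.map_commutator]
      conv_lhs => rw [← layer_commutator_self]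
      exact Subgroup.commutator_mono ih ih

end Cfsg.Agent.S1316
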