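import Cfsg.Statements.S1321
import Cfsg.Agent.Lib.Components.GenFitting

set_option autoImplicit false
open Cfsg
open CfsgLib.Components
open scoped commutatorElement

namespace Cfsg.Agent.S1321

/-- Let X be finite and U ≤ X. Then E(X) is generated by C_{E(X)}(U) together with ⁅E(X), U⁆ (indeed it is their product, ⁅E(X), U⁆ being normal in E(X)). -/
theorem result {X : Type*} [Group X] [Finite X] (U : Subgroup X) : Cfsg.layer X = (Cfsg.layer X ⊓ Subgroup.centralizer (U : Set X)) ⊔ ⁅Cfsg.layer X, U⁆ ∧ ⁅Cfsg.layer X, U⁆ ≤ Cfsg.layer X := by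
  have h2 : ⁅Cfsg.layer X, U⁆ ≤ Cfsg.layer X := Subgroup.commutator_le_left _ _
  refine ⟨le_antisymm (layer_le_iff.mpr fun L hL => ?_) (sup_le inf_le_left h2), h2⟩
  set D := ⁅Cfsg.layer X, U⁆ with hD
  have hDn : L ≤ Subgroup.normalizer (D : Set X) :=
    (IsComponent.le_layer hL).trans (Subgroup.normalizer_commutator_ge_left _ _)
  rcases IsComponent.le_or_commutator_eq_bot_of_le_normalizer hL hDn with h | h
  · exact le_sup_of_le_right h
  · refine le_sup_of_le_left (le_inf (IsComponent.le_layer hL) ?_)
    rw [← Subgroup.commutator_eq_bot_iff_le_centralizer, Subgroup.commutator_comm]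
    apply commutator_eq_bot_of_perfect (IsComponent.isPerfect hL)
    rw [eq_bot_iff, Subgroup.commutator_comm U L]
    refine (Subgroup.commutator_mono (Subgroup.commutator_mono (IsComponent.le_layer hL) le_rfl)
      le_rfl).trans ?_
    rw [← hD, Subgroup.commutator_comm, h]

end Cfsg.Agent.S1321
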