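import Cfsg.Statements.S1323
import Cfsg.Prelude.Def_Local

set_option autoImplicit false
open Cfsg

namespace Cfsg.Agent.S1323

open Equiv Equiv.Perm

variable {n : ℕ}

/-- The first four points. -/
abbrev Low (x : Fin n) : Prop := (x : ℕ) < 4

theorem quasisimple_congr {A B : Type*} [Group A] [Group B] (f : A ≃* B) [IsSimpleGroup A]
    (hc : Subgroup.center A = ⊥) : Cfsg.IsQuasisimple B := by
  have hB : Subgroup.center B = ⊥ := by
    rw [eq_bot_iff]
    intro b hb
    have : f.symm b ∈ Subgroup.center A := Subgroup.mem_center_iff.mpr fun a => f.injective (by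
      simp only [map_mul, MulEquiv.apply_symm_apply]
      exact Subgroup.mem_center_iff.mp hb (f a))
    rw [hc, Subgroup.mem_bot] at this
    rw [Subgroup.mem_bot]
    exact f.symm.injective (by rw [this, map_one])
  haveI : Nontrivial B := f.toEquiv.symm.nontrivial
  haveI hs : IsSimpleGroup B := IsSimpleGroup.isSimpleGroup_of_surjective f.toMonoidHom f.surjective
  refine ⟨⟨?_⟩, ?_⟩
  · refine (Subgroup.Normal.eq_bot_or_eq_top inferInstance).resolve_left fun h => ?_
    have hcomm : ∀ x y : B, x * y = y * x := by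
      intro x y
      rw [← commutatorElement_eq_one_iff_mul_comm, ← Subgroup.mem_bot, ← h]
      exact Subgroup.commutator_mem_commutator (Subgroup.mem_top x) (Subgroup.mem_top y)
    obtain ⟨x, hx⟩ := exists_ne (1 : B)
    exact hx (Subgroup.mem_bot.mp (hB ▸ Subgroup.mem_center_iff.mpr fun y => hcomm y x))
  · haveI : Nontrivial (B ⧸ Subgroup.center B) := QuotientGroup.nontrivial_iff.mpr fun h => bot_ne_top (hB.symm.trans h)
    exact IsSimpleGroup.isSimpleGroup_of_surjective _ (QuotientGroup.mk'_surjective (Subgroup.center B))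


/-- For n ≥ 9, the subgroup of the alternating group on Fin n fixing each of the points 0, 1, 2, 3 is a standard subgroup. -/
theorem result (n : ℕ) (h4 : 4 ≤ n) (hn : 9 ≤ n) : Cfsg.IsStandardSubgroup (⨅ i : Fin 4, MulAction.stabilizer ↥(alternatingGroup (Fin n)) (Fin.castLE h4 i : Fin n)) := by
  classical
  set L : Subgroup (alternatingGroup (Fin n)) :=
    ⨅ i : Fin 4, MulAction.stabilizer ↥(alternatingGroup (Fin n)) (Fin.castLE h4 i : Fin n) with hLdef
  have hL : ∀ g, g ∈ L ↔ ∀ x, Low x → (g : Equiv.Perm (Fin n)) x = x := by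
    intro g
    simp only [hLdef, Subgroup.mem_iInf, MulAction.mem_stabilizer_iff]
    refine ⟨fun h x hx => ?_, fun h i => h _ i.2⟩
    have := h ⟨x, hx⟩
    exact this
  let K : Subgroup (alternatingGroup (Fin n)) :=
    { carrier := {g | ∀ x, ¬ Low x → (g : Equiv.Perm (Fin n)) x = x}
      one_mem' := fun x _ => rfl
      mul_mem' := fun {a b} ha hb x hx => by
        show (a : Equiv.Perm (Fin n)) ((b : Equiv.Perm (Fin n)) x) = x
        rw [hb x hx, ha x hx]
      inv_mem' := fun {a} ha x hx => by
        show (a : Equiv.Perm (Fin n))⁻¹ x = x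
        rw [Equiv.Perm.inv_eq_iff_eq, ha x hx] }
  have hK : ∀ g, g ∈ K ↔ ∀ x, ¬ Low x → (g : Equiv.Perm (Fin n)) x = x := fun g => Iff.rfl
  -- three cycles
  have hcyc : ∀ x a b : Fin n, (Equiv.swap x a * Equiv.swap a b) ∈ alternatingGroup (Fin n) ∨ x = a ∨ a = b := by
    intro x a b
    by_cases h1 : x = a; · exact Or.inr (Or.inl h1)
    by_cases h2 : a = b; · exact Or.inr (Or.inr h2)
    left
    rw [Equiv.Perm.mem_alternatingGroup, map_mul, Equiv.Perm.sign_swap h1, Equiv.Perm.sign_swap h2]
    rfl
  -- three points above four, apart from two given ones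
  have hfree : ∀ x y : Fin n, (5 ≤ (Finset.univ.filter fun z : Fin n => ¬ Low z).card) →
      ∃ a b, ¬ Low a ∧ ¬ Low b ∧ a ≠ b ∧ a ≠ x ∧ a ≠ y ∧ b ≠ x ∧ b ≠ y := by
    intro x y hP
    have h : 1 < (((Finset.univ.filter fun z : Fin n => ¬ Low z).erase x).erase y).card := by
      have h1 := Finset.pred_card_le_card_erase (a := x) (s := Finset.univ.filter fun z : Fin n => ¬ Low z)
      have h2 := Finset.pred_card_le_card_erase (a := y) (s := (Finset.univ.filter fun z : Fin n => ¬ Low z).erase x)
      omega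
    obtain ⟨a, ha, b, hb, hab⟩ := Finset.one_lt_card.mp h
    simp only [Finset.mem_erase, Finset.mem_filter, Finset.mem_univ, true_and] at ha hb
    exact ⟨a, b, ha.2.2, hb.2.2, hab, ha.2.1, ha.1, hb.2.1, hb.1⟩
  have hcard : (Finset.univ.filter fun x : Fin n => ¬ Low x).card =
      n - (Finset.univ.filter fun x : Fin n => Low x).card := by
    rw [← Finset.compl_filter, Finset.card_compl, Fintype.card_fin]
  have hlow : (Finset.univ.filter fun x : Fin n => Low x).card = 4 := by
    have : (Finset.univ.filter fun x : Fin n => Low x) = (Finset.univ : Finset (Fin 4)).map (Fin.castLEEmb h4) := by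
      ext x
      simp only [Finset.mem_filter, Finset.mem_univ, true_and, Finset.mem_map]
      refine ⟨fun hx => ⟨⟨x, hx⟩, rfl⟩, ?_⟩
      rintro ⟨i, rfl⟩
      exact i.2
    rw [this, Finset.card_map, Finset.card_univ, Fintype.card_fin]
  have hhigh : 5 ≤ (Finset.univ.filter fun x : Fin n => ¬ Low x).card := by rw [hcard, hlow]; omega
  -- `L` moves every high point, so centralising `L` means fixing them
  have hcent : Subgroup.centralizer (L : Set (alternatingGroup (Fin n))) = K := by
    refine le_antisymm (fun g hg x hx => ?_) (fun g hg => ?_)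
    · by_contra hne
      set y := (g : Equiv.Perm (Fin n)) x
      obtain ⟨a, b, ha, hb, hab, hax, hay, hbx, hby⟩ := hfree x y hhigh
      rcases hcyc x a b with hc | hc | hc
      swap; · exact hax hc.symm
      swap; · exact hab hc
      have hcL : (⟨_, hc⟩ : alternatingGroup (Fin n)) ∈ L := (hL _).mpr fun z hz => by
        show Equiv.swap x a (Equiv.swap a b z) = z
        have h1 : z ≠ x := fun h => hx (h ▸ hz)
        have h2 : z ≠ a := fun h => ha (h ▸ hz)
        have h3 : z ≠ b := fun h => hb (h ▸ hz)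
        rw [Equiv.swap_apply_of_ne_of_ne h2 h3, Equiv.swap_apply_of_ne_of_ne h1 h2]
      have h := congrArg (fun u : alternatingGroup (Fin n) => (u : Equiv.Perm (Fin n)) x)
        (Subgroup.mem_centralizer_iff.mp hg _ hcL)
      simp only [Subgroup.coe_mul, Equiv.Perm.mul_apply] at h
      rw [show Equiv.swap x a (Equiv.swap a b y) = y by
        rw [Equiv.swap_apply_of_ne_of_ne hay.symm hby.symm, Equiv.swap_apply_of_ne_of_ne hne hay.symm]] at h
      rw [show Equiv.swap x a (Equiv.swap a b x) = a by
        rw [Equiv.swap_apply_of_ne_of_ne hax.symm hbx.symm, Equiv.swap_apply_left]] at h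
      exact hax ((g : Equiv.Perm (Fin n)).injective h).symm
    · refine Subgroup.mem_centralizer_iff.mpr fun l hl => Subtype.ext (Equiv.Perm.Disjoint.commute (fun x => ?_))
      by_cases hx : Low x
      · exact Or.inl ((hL l).mp hl x hx)
      · exact Or.inr (hg x hx)
  -- the involution moving all low points
  let s : Fin 4 → Fin n := fun i => Fin.castLE h4 i
  let k : Equiv.Perm (Fin n) := Equiv.swap (s 0) (s 1) * Equiv.swap (s 2) (s 3)
  have hs : ∀ i j, i ≠ j → s i ≠ s j := fun i j h e => h (Fin.castLE_injective h4 e)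
  have hkA : k ∈ alternatingGroup (Fin n) := by
    rw [Equiv.Perm.mem_alternatingGroup, map_mul, Equiv.Perm.sign_swap (hs 0 1 (by decide)),
      Equiv.Perm.sign_swap (hs 2 3 (by decide))]
    rfl
  have hsur : ∀ x, Low x → ∃ i, s i = x := fun x hx => ⟨⟨x, hx⟩, rfl⟩
  have hkK : (⟨k, hkA⟩ : alternatingGroup (Fin n)) ∈ K := fun x hx => by
    have h : ∀ i, x ≠ s i := fun i e => hx (e ▸ i.2)
    show Equiv.swap (s 0) (s 1) (Equiv.swap (s 2) (s 3) x) = x
    rw [Equiv.swap_apply_of_ne_of_ne (h 2) (h 3), Equiv.swap_apply_of_ne_of_ne (h 0) (h 1)]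
  have hkmove : ∀ x, Low x → k x ≠ x := by
    intro x hx
    obtain ⟨i, rfl⟩ := hsur x hx
    have e : k (s i) = s (![1, 0, 3, 2] i) := by
      show Equiv.swap (s 0) (s 1) (Equiv.swap (s 2) (s 3) (s i)) = _
      fin_cases i <;> simp [Equiv.swap_apply_of_ne_of_ne, hs, Equiv.swap_apply_left, Equiv.swap_apply_right]
    rw [e]
    exact hs _ _ ((show ∀ j : Fin 4, (![1, 0, 3, 2] : Fin 4 → Fin 4) j ≠ j by decide) i)
  -- conjugation
  have hconj : ∀ (g h : alternatingGroup (Fin n)) x,
      ((g * h * g⁻¹ : alternatingGroup (Fin n)) : Equiv.Perm (Fin n)) x =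
        (g : Equiv.Perm (Fin n)) ((h : Equiv.Perm (Fin n)) ((g : Equiv.Perm (Fin n))⁻¹ x)) := fun g h x => rfl
  have hinv : ∀ g : alternatingGroup (Fin n), (∀ x, Low x → Low ((g : Equiv.Perm (Fin n)) x)) →
      ∀ x, Low ((g : Equiv.Perm (Fin n)) x) → Low x := by
    intro g hg x hx
    let F := Finset.univ.filter fun x : Fin n => Low x
    have heq : F.image (g : Equiv.Perm (Fin n)) = F := Finset.eq_of_subset_of_card_le
      (fun y hy => by
        obtain ⟨z, hz, rfl⟩ := Finset.mem_image.mp hy
        exact Finset.mem_filter.mpr ⟨Finset.mem_univ _, hg z (Finset.mem_filter.mp hz).2⟩)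
      (by rw [Finset.card_image_of_injective _ (Equiv.injective _)])
    obtain ⟨z, hz, hzx⟩ := Finset.mem_image.mp (heq.symm ▸ Finset.mem_filter.mpr ⟨Finset.mem_univ _, hx⟩ :
      (g : Equiv.Perm (Fin n)) x ∈ F.image (g : Equiv.Perm (Fin n)))
    exact (Equiv.injective _ hzx) ▸ (Finset.mem_filter.mp hz).2
  have hnK : ∀ g : alternatingGroup (Fin n), g ∈ Subgroup.normalizer (K : Set (alternatingGroup (Fin n))) ↔
      ∀ x, Low x → Low ((g : Equiv.Perm (Fin n)) x) := by
    intro g
    refine ⟨fun hg x hx => ?_, fun hg => Subgroup.mem_normalizer_iff.mpr fun h => ?_⟩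
    · by_contra hne
      have := (Subgroup.mem_normalizer_iff.mp hg _).mp hkK _ hne
      rw [hconj, Equiv.Perm.inv_eq_iff_eq.mpr rfl] at this
      exact hkmove x hx ((g : Equiv.Perm (Fin n)).injective this)
    · refine ⟨fun hh x hx => ?_, fun hh x hx => ?_⟩
      · rw [hconj, hh _ fun hlow => hx (by simpa using hg _ hlow)]
        simp
      · have := hh ((g : Equiv.Perm (Fin n)) x) (fun hlow => hx (hinv g hg x hlow))
        rw [hconj, Equiv.Perm.inv_eq_iff_eq.mpr rfl] at this
        exact (g : Equiv.Perm (Fin n)).injective this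
  have hLmove : ∀ x, ¬ Low x → ∃ l ∈ L, (l : Equiv.Perm (Fin n)) x ≠ x := by
    intro x hx
    obtain ⟨a, b, ha, hb, hab, hax, -, hbx, -⟩ := hfree x x hhigh
    rcases hcyc x a b with hc | hc | hc
    swap; · exact absurd hc.symm hax
    swap; · exact absurd hc hab
    refine ⟨⟨_, hc⟩, (hL _).mpr fun z hz => ?_, ?_⟩
    · show Equiv.swap x a (Equiv.swap a b z) = z
      have h1 : z ≠ x := fun h => hx (h ▸ hz)
      have h2 : z ≠ a := fun h => ha (h ▸ hz)
      have h3 : z ≠ b := fun h => hb (h ▸ hz)
      rw [Equiv.swap_apply_of_ne_of_ne h2 h3, Equiv.swap_apply_of_ne_of_ne h1 h2]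
    · show Equiv.swap x a (Equiv.swap a b x) ≠ x
      rw [Equiv.swap_apply_of_ne_of_ne hax.symm hbx.symm, Equiv.swap_apply_left]
      exact hax
  have hnL : ∀ g : alternatingGroup (Fin n), g ∈ Subgroup.normalizer (L : Set (alternatingGroup (Fin n))) ↔
      ∀ x, Low x → Low ((g : Equiv.Perm (Fin n)) x) := by
    intro g
    refine ⟨fun hg x hx => ?_, fun hg => Subgroup.mem_normalizer_iff.mpr fun h => ?_⟩
    · by_contra hne
      obtain ⟨l, hl, hlm⟩ := hLmove _ hne
      have := (hL _).mp ((Subgroup.mem_normalizer_iff.mp (inv_mem hg) l).mp hl) x hx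
      rw [inv_inv] at this
      have e : ((g⁻¹ * l * g : alternatingGroup (Fin n)) : Equiv.Perm (Fin n)) x =
          (g : Equiv.Perm (Fin n))⁻¹ ((l : Equiv.Perm (Fin n)) ((g : Equiv.Perm (Fin n)) x)) := rfl
      rw [e, Equiv.Perm.inv_eq_iff_eq] at this
      exact hlm this
    · rw [hL, hL]
      refine ⟨fun hh x hx => ?_, fun hh x hx => ?_⟩
      · rw [hconj, hh _ (hinv g hg _ (by simpa using hx))]
        simp
      · have := hh ((g : Equiv.Perm (Fin n)) x) (hg x hx)
        rw [hconj, Equiv.Perm.inv_eq_iff_eq.mpr rfl] at this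
        exact (g : Equiv.Perm (Fin n)).injective this
  refine ⟨?_, ?_, ?_, ?_⟩
  · -- quasisimple
    let T := {x : Fin n // ¬ Low x}
    haveI : IsSimpleGroup (alternatingGroup T) := alternatingGroup.isSimpleGroup (by
      rw [Nat.card_eq_fintype_card, Fintype.card_subtype]; exact hhigh)
    let f : alternatingGroup T →* alternatingGroup (Fin n) :=
      (Equiv.Perm.ofSubtype.comp (alternatingGroup T).subtype).codRestrict (alternatingGroup (Fin n)) fun u => by
        rw [Equiv.Perm.mem_alternatingGroup]
        show Equiv.Perm.sign (Equiv.Perm.ofSubtype (u : Equiv.Perm T)) = 1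
        rw [Equiv.Perm.sign_ofSubtype]
        exact Equiv.Perm.mem_alternatingGroup.mp u.2
    have hf : Function.Injective f := fun a b h =>
      Subtype.ext (Equiv.Perm.ofSubtype_injective (congrArg Subtype.val h))
    have hrange : f.range = L := by
      ext g
      refine ⟨?_, fun hg => ?_⟩
      · rintro ⟨u, rfl⟩
        exact (hL _).mpr fun x hx => Equiv.Perm.ofSubtype_apply_of_not_mem _ (not_not.mpr hx)
      · have h1 : ∀ x, ¬ Low x ↔ ¬ Low ((g : Equiv.Perm (Fin n)) x) := by
          intro x
          by_cases hx : Low x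
          · simp [hx, (hL g).mp hg x hx]
          · simp only [hx, not_false_iff, true_iff]
            intro hlow
            have := (g : Equiv.Perm (Fin n)).injective ((hL g).mp hg _ hlow)
            exact hx (this ▸ hlow)
        let u : Equiv.Perm T := (g : Equiv.Perm (Fin n)).subtypePerm fun x => (h1 x).symm
        have hu : Equiv.Perm.ofSubtype u = (g : Equiv.Perm (Fin n)) :=
          Equiv.Perm.ofSubtype_subtypePerm _ fun x hx => fun hlow => hx ((hL g).mp hg x hlow)
        refine ⟨⟨u, ?_⟩, Subtype.ext hu⟩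
        rw [Equiv.Perm.mem_alternatingGroup, ← Equiv.Perm.sign_ofSubtype, hu]
        exact Equiv.Perm.mem_alternatingGroup.mp g.2
    exact quasisimple_congr ((MonoidHom.ofInjective hf).trans (MulEquiv.subgroupCongr hrange))
      (alternatingGroup.center_eq_bot (by rw [Nat.card_eq_fintype_card, Fintype.card_subtype]; omega))
  · -- tightly embedded
    rw [hcent]
    refine ⟨?_, fun g hg => ?_⟩
    · have h2 : orderOf (⟨⟨k, hkA⟩, hkK⟩ : K) = 2 := by
        refine orderOf_eq_prime (Subtype.ext (Subtype.ext ?_)) fun h => ?_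
        · show k ^ 2 = 1
          rw [sq]
          ext x
          show ((k (k x) : Fin n) : ℕ) = ((x : Fin n) : ℕ)
          congr 1
          by_cases hx : Low x
          · obtain ⟨i, rfl⟩ := hsur x hx
            show Equiv.swap (s 0) (s 1) (Equiv.swap (s 2) (s 3) (Equiv.swap (s 0) (s 1) (Equiv.swap (s 2) (s 3) (s i)))) = s i
            fin_cases i <;> simp [Equiv.swap_apply_of_ne_of_ne, hs, Equiv.swap_apply_left, Equiv.swap_apply_right]
          · have e : k x = x := hkK x hx
            rw [e, e]
        · have := congrArg (fun u : K => ((u : alternatingGroup (Fin n)) : Equiv.Perm (Fin n)) (s 0)) h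
          exact hkmove (s 0) (by show ((0 : Fin 4) : ℕ) < 4; omega) this
      exact even_iff_two_dvd.mpr (h2 ▸ orderOf_dvd_natCard _)
    · haveI : Fact (Nat.Prime 3) := ⟨Nat.prime_three⟩
      suffices hp3 : IsPGroup 3 ↥(K ⊓ K.map (MulAut.conj g).toMonoidHom) by
        obtain ⟨m, hm⟩ := IsPGroup.iff_card.mp hp3
        rw [hm]
        exact Odd.pow (by decide)
      intro h
      refine ⟨1, ?_⟩
      obtain ⟨h', hh', hhe⟩ := h.2.2
      set u : Equiv.Perm (Fin n) := ((h : alternatingGroup (Fin n)) : Equiv.Perm (Fin n)) with hu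
      rw [hnK] at hg
      push Not at hg
      obtain ⟨x, hx, hgx⟩ := hg
      -- a low point fixed by `h`
      obtain ⟨y, hy, hyg⟩ : ∃ y, Low y ∧ ¬ Low ((g : Equiv.Perm (Fin n))⁻¹ y) := by
        by_contra hno
        push Not at hno
        have hall : ∀ z, Low z → Low (((g⁻¹ : alternatingGroup (Fin n)) : Equiv.Perm (Fin n)) z) := fun z hz => hno z hz
        exact absurd (hinv g⁻¹ hall _ (by simpa using hx)) (Nat.not_lt.mpr hgx)
      have hfix : u y = y := by
        have := hconj g h' y
        rw [show g * h' * g⁻¹ = (h : alternatingGroup (Fin n)) from hhe, hh' _ hyg] at this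
        simpa using this
      have hsupp : u.support.card ≤ 3 := by
        refine le_trans (Finset.card_le_card (t := (Finset.univ.filter fun z : Fin n => Low z).erase y) fun z hz => ?_) ?_
        · rw [Equiv.Perm.mem_support] at hz
          refine Finset.mem_erase.mpr ⟨fun e => hz (e ▸ hfix), Finset.mem_filter.mpr ⟨Finset.mem_univ _, ?_⟩⟩
          by_contra hlow
          exact hz (h.2.1 z hlow)
        · rw [Finset.card_erase_of_mem (Finset.mem_filter.mpr ⟨Finset.mem_univ _, hy⟩), hlow]
      have hu3 : u ^ 3 = 1 := by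
        have hsign : Equiv.Perm.sign u = 1 := Equiv.Perm.mem_alternatingGroup.mp (h : alternatingGroup (Fin n)).2
        rcases Nat.lt_or_ge u.support.card 2 with h0 | h0
        · have : u = 1 := Equiv.Perm.card_support_le_one.mp (by omega : u.support.card ≤ 1)
          rw [this, one_pow]
        · rcases Nat.lt_or_ge u.support.card 3 with h2 | h2
          · have := (Equiv.Perm.card_support_eq_two.mp (by omega : u.support.card = 2)).sign_eq
            rw [hsign] at this
            exact absurd this (by decide)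
          · have := (card_support_eq_three_iff.mp (by omega : u.support.card = 3)).orderOf
            rw [← this, pow_orderOf_eq_one]
      exact Subtype.ext (Subtype.ext hu3)
  · -- conjugates do not commute
    intro g _ hbot
    rw [Subgroup.commutator_eq_bot_iff_le_centralizer] at hbot
    have hbot' : L.map (MulAut.conj g).toMonoidHom ≤ K := by
      rw [← hcent]
      intro u hu
      exact Subgroup.mem_centralizer_iff.mpr fun l hl => (Subgroup.mem_centralizer_iff.mp (hbot hl) u hu).symm
    obtain ⟨x, hx, hxg⟩ : ∃ x, ¬ Low x ∧ ¬ Low ((g : Equiv.Perm (Fin n)) x) := by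
      by_contra hno
      push Not at hno
      have : ((Finset.univ.filter fun x : Fin n => ¬ Low x).image (g : Equiv.Perm (Fin n))).card ≤ 4 := by
        refine le_trans (Finset.card_le_card (t := Finset.univ.filter fun x : Fin n => Low x) fun y hy => ?_) hlow.le
        obtain ⟨z, hz, rfl⟩ := Finset.mem_image.mp hy
        exact Finset.mem_filter.mpr ⟨Finset.mem_univ _, hno z (Nat.le_of_not_lt (Finset.mem_filter.mp hz).2)⟩
      rw [Finset.card_image_of_injective _ (Equiv.injective _)] at this
      omega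
    obtain ⟨l, hl, hlx⟩ := hLmove x hx
    have := hbot' ⟨l, hl, rfl⟩ _ hxg
    rw [show (MulAut.conj g).toMonoidHom l = g * l * g⁻¹ from rfl, hconj, Equiv.Perm.inv_eq_iff_eq.mpr rfl] at this
    exact hlx ((g : Equiv.Perm (Fin n)).injective this)
  · rw [hcent]
    ext g
    rw [hnL, hnK]

end Cfsg.Agent.S1323
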