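import Cfsg.Statements.S1324
import Cfsg.Agent.Lib.Coprime.Generation

set_option autoImplicit false
open Cfsg

namespace Cfsg.Agent.S1324

/-- Let A be a noncyclic elementary abelian p-subgroup of a finite group H normalizing a subgroup X of order prime to p. Then X is generated by the subgroups X ∩ C_H(B), B ranging over the subgroups of A of index at most p. -/
theorem result {H : Type*} [Group H] [Finite H] (p : ℕ) [Fact p.Prime] (A X : Subgroup H) (hA : Cfsg.IsElementaryAbelian p A) (hA2 : p ^ 2 ≤ Nat.card ↥A) (hX : ¬ p ∣ Nat.card ↥X) (hAX : A ≤ Subgroup.normalizer (X : Set H)) : X = ⨆ B : {B : Subgroup H // B ≤ A ∧ B.relIndex A ≤ p}, X ⊓ Subgroup.centralizer ((B : Subgroup H) : Set H) := by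
  have := hA.1
  have hcop : (Nat.card A).Coprime (Nat.card X) := by
    obtain ⟨n, hn⟩ := (show IsPGroup p A from fun x => ⟨1, Subtype.ext (by simpa using hA.2 x x.2)⟩).exists_card_eq
    rw [hn]
    exact Nat.Coprime.pow_left n ((Fact.out : p.Prime).coprime_iff_not_dvd.2 hX)
  refine le_antisymm ?_ (iSup_le fun B => inf_le_left)
  refine (CfsgLib.Coprime.iSup_centralizer_of_cyclic_quotient hAX hcop).symm.le.trans
    (iSup₂_le fun B hB => ?_)
  obtain ⟨hBA, a, ha, he⟩ := hB
  refine le_trans ?_ (le_iSup _ ⟨B, hBA, ?_⟩)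
  · exact le_rfl
  · have hn : Subgroup.zpowers a ≤ Subgroup.normalizer (B : Set H) :=
      Subgroup.zpowers_le.2 <| CfsgLib.Coprime.mem_normalizer_of_conj_map_le fun b hb => by
        rwa [setLike_mul_comm ha (hBA hb), mul_inv_cancel_right]
    rw [← he, sup_comm]
    have := Subgroup.normal_subgroupOf_of_le_normalizer hn
    have := Subgroup.normal_subgroupOf_sup_of_le_normalizer hn
    rw [show B.relIndex (Subgroup.zpowers a ⊔ B) = B.relIndex (Subgroup.zpowers a) from
      (Nat.card_congr (QuotientGroup.quotientInfEquivProdNormalizerQuotient _ B hn).toEquiv).symm]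
    refine (Nat.le_of_dvd Nat.card_pos (B.subgroupOf _).index_dvd_card).trans ?_
    rw [Nat.card_zpowers]
    exact Nat.le_of_dvd (Fact.out : p.Prime).pos (orderOf_dvd_of_pow_eq_one (hA.2 a ha))

end Cfsg.Agent.S1324
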