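import Cfsg.Statements.S1328
import Cfsg.Agent.Lib.Components.LocalCore
-- import your own Cfsg.Agent.* helpers here

set_option autoImplicit false
open Cfsg

namespace Cfsg.Agent.S1328

open Subgroup

/-- Let G be finite, H ≤ G with O(H) = 1, t an involution of G normalizing H, and Y a nontrivial subgroup of O(C_H(t)). Then some component E of H is normalized by t and by Y and centralized by neither t nor Y. -/
theorem result {G : Type*} [Group G] [Finite G] (H : Subgroup G) (hO : Cfsg.oddCore ↥H = ⊥) (t : G) (ht : orderOf t = 2) (htH : t ∈ Subgroup.normalizer (H : Set G)) (Y : Subgroup G) (hY1 : Y ≠ ⊥) (hY : Y ≤ (Cfsg.oddCore ↥(H ⊓ Subgroup.centralizer ({t} : Set G))).map (H ⊓ Subgroup.centralizer ({t} : Set G)).subtype) : ∃ E : Subgroup ↥H, Cfsg.IsComponent E ∧ (E.map H.subtype).map (MulAut.conj t).toMonoidHom = E.map H.subtype ∧ Y ≤ Subgroup.normalizer ((E.map H.subtype : Subgroup G) : Set G) ∧ ¬ (t ∈ Subgroup.centralizer ((E.map H.subtype : Subgroup G) : Set G)) ∧ ¬ (Y ≤ Subgroup.centralizer ((E.map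 H.subtype : Subgroup G) : Set G)) := by
  classical
  set T := zpowers t with hT
  set X := H ⊔ T with hX
  have hTH : T ≤ normalizer (H : Set G) := zpowers_le.mpr htH
  set H' := H.subgroupOf X with hH'
  haveI hH'n : H'.Normal :=
    (normal_subgroupOf_iff_le_normalizer le_sup_left).mpr (sup_le Subgroup.le_normalizer hTH)
  let ι : H' ≃* H := subgroupOfEquivOfLe le_sup_left
  -- elements of odd order of `X` lie in `H`
  have hodd : ∀ g : X, (orderOf g).Coprime 2 → g ∈ H' := by
    intro g hg
    obtain ⟨u, hu, h, hh, hgu⟩ := CfsgLib.Components.exists_mul_of_mem_sup (B := H) hTH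
      (show (g : G) ∈ T ⊔ H by rw [sup_comm]; exact g.2)
    have h2 : g ^ 2 ∈ H' := by
      show ((g ^ 2 : X) : G) ∈ H
      rw [Subgroup.coe_pow, ← hgu, pow_two]
      have hu2 : u * u = 1 := by
        obtain ⟨n, rfl⟩ := mem_zpowers_iff.mp hu
        rw [← zpow_add, ← two_mul, zpow_mul]
        rw [show t ^ (2 : ℤ) = 1 by rw [zpow_ofNat, ← ht, pow_orderOf_eq_one], _root_.one_zpow]
      have hc : u * h * u⁻¹ ∈ H := (mem_normalizer_iff.mp (hTH hu) h).mp hh
      have e : u * h * (u * h) = u * h * u⁻¹ * (u * u) * h := by group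
      rw [e, hu2, mul_one]
      exact mul_mem hc hh
    exact CfsgLib.Components.mem_of_coprime_pows hg.symm h2
      (by rw [pow_orderOf_eq_one]; exact one_mem _)
  have hO1 : Cfsg.pPrimeCore 2 X = ⊥ := by
    have hc := CfsgLib.Solvable.Cores.coprime_card_pPrimeCore (G := X) 2
    have hle : Cfsg.pPrimeCore 2 X ≤ H' := fun g hg =>
      hodd g (hc.coprime_dvd_left ((Cfsg.pPrimeCore 2 X).orderOf_dvd_natCard hg))
    rw [eq_bot_iff]
    intro g hg
    have h1 : (⟨g, hle hg⟩ : H') ∈ Cfsg.pPrimeCore 2 H' :=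
      (CfsgLib.Components.mem_pPrimeCore_subgroup_iff (Normal.isSubnormal hH'n) _).mpr hg
    have h2 := CfsgLib.Components.pPrimeCore_map_le 2 ι.toMonoidHom ι.surjective ⟨_, h1, rfl⟩
    change ι ⟨g, hle hg⟩ ∈ Cfsg.oddCore ↥H at h2
    rw [hO, mem_bot] at h2
    exact congrArg Subtype.val (ι.injective (h2.trans (map_one ι).symm) : (⟨g, hle hg⟩ : H') = 1)
  set t' : X := ⟨t, mem_sup_right (mem_zpowers t)⟩ with ht'
  have ht'2 : orderOf t' = 2 := by rw [← Subgroup.orderOf_coe]; exact ht
  set C := H ⊓ centralizer ({t} : Set G) with hC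
  set Qg := (Cfsg.oddCore ↥C).map C.subtype with hQg
  have hQC : Qg ≤ C := map_subtype_le _
  have hQX : Qg ≤ X := hQC.trans (inf_le_left.trans le_sup_left)
  set Q := Qg.subgroupOf X with hQ
  have hQcop : (Nat.card Q).Coprime 2 := by
    rw [Nat.card_congr (subgroupOfEquivOfLe hQX).toEquiv, hQg, card_map_of_injective C.subtype_injective]
    exact CfsgLib.Solvable.Cores.coprime_card_pPrimeCore 2
  have hQR : Q ≤ centralizer ((zpowers t' : Subgroup X) : Set X) := by
    intro g hg
    rw [zpowers_eq_closure, centralizer_closure, mem_centralizer_singleton_iff]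
    exact Subtype.ext (mem_centralizer_singleton_iff.mp (hQC hg).2)
  have hQn : centralizer ((zpowers t' : Subgroup X) : Set X) ≤ normalizer (Q : Set X) := by
    intro c hc
    rw [zpowers_eq_closure, centralizer_closure, mem_centralizer_singleton_iff] at hc
    have hc' : (c : G) * t = t * c := congrArg Subtype.val hc
    have hcC : (c : G) ∈ normalizer (C : Set G) := by
      refine inf_normalizer_le_normalizer_inf ⟨(sup_le Subgroup.le_normalizer hTH) c.2, ?_⟩
      exact Subgroup.le_normalizer (mem_centralizer_singleton_iff.mpr hc')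
    have h3 : (c : G) ∈ normalizer (Qg : Set G) :=
      CfsgLib.Components.map_subtype_normal_of_characteristic hcC
    exact mem_normalizer_iff.mpr fun g => mem_normalizer_iff.mp h3 g
  have hQ' : Q ≤ Cfsg.centralizerPPrimeCore 2 t' := by
    have hle : Q ≤ centralizer ({t'} : Set X) := by
      rw [← centralizer_closure, ← zpowers_eq_closure]; exact hQR
    haveI : (Q.subgroupOf (centralizer ({t'} : Set X))).Normal :=
      (normal_subgroupOf_iff_le_normalizer hle).mpr
        (by rw [← centralizer_closure, ← zpowers_eq_closure]; exact hQn)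
    have h := CfsgLib.Solvable.Cores.le_pPrimeCore (p := 2) (N := Q.subgroupOf (centralizer ({t'} : Set X)))
      (by rwa [Nat.card_congr (subgroupOfEquivOfLe hle).toEquiv])
    exact fun g hg => ⟨⟨g, hle hg⟩, h hg, rfl⟩
  have htR : IsPGroup 2 (zpowers t') :=
    IsPGroup.of_card (n := 1) (by rw [Nat.card_zpowers, ht'2, pow_one])
  by_contra hcon
  push Not at hcon
  have hYQ : Y ≤ Qg := hY
  set Y' := Y.subgroupOf X with hY'
  have hY'Q : Y' ≤ Q := fun g hg => hYQ hg
  -- `Y` centralises every component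
  have hcent : ∀ K : Subgroup X, Cfsg.IsComponent K → Y' ≤ centralizer (K : Set X) := by
    intro K hK
    have hKH : K ≤ H' := CfsgLib.Components.perfect_le_of_pPrime_elements (p := 2) hK.2.1
      fun g _ hg => hodd g hg
    by_cases hne : ⁅K, zpowers t'⁆ = K
    swap
    · refine hY'Q.trans (hQ'.trans ?_)
      rw [← commutator_eq_bot_iff_le_centralizer, commutator_comm]
      exact CfsgLib.Components.LocalCore.core_centralizes_component hO1 ht'2 hK hne
    -- the corresponding component of `H`
    have htK : t' ∈ normalizer (K : Set X) := by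
      have h1 : zpowers t' ≤ normalizer ((⁅K, zpowers t'⁆ : Subgroup X) : Set X) :=
        normalizer_commutator_ge_right _ _
      rw [hne] at h1
      exact h1 (mem_zpowers t')
    have hQK : Q ≤ normalizer (K : Set X) :=
      CfsgLib.Components.LocalCore.le_normalizer_component hO1 htR hQcop hQR hQn hK
    set E := (K.subgroupOf H').map ι.toMonoidHom with hE
    have hEc : Cfsg.IsComponent E :=
      CfsgLib.Components.IsComponent.mapEquiv (CfsgLib.Components.IsComponent.subgroupOf hK hKH) ι
    have hEm : E.map H.subtype = K.map X.subtype := by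
      ext g
      constructor
      · rintro ⟨_, ⟨k, hk, rfl⟩, rfl⟩
        exact ⟨k, hk, rfl⟩
      · rintro ⟨k, hk, rfl⟩
        exact ⟨ι ⟨k, hKH hk⟩, ⟨⟨k, hKH hk⟩, hk, rfl⟩, rfl⟩
    have h1 : (E.map H.subtype).map (MulAut.conj t).toMonoidHom = E.map H.subtype := by
      rw [hEm, ← CfsgLib.Components.mem_normalizer_iff_map_conj_eq]
      exact le_normalizer_map X.subtype (mem_map_of_mem _ htK)
    have h2 : Y ≤ normalizer ((E.map H.subtype : Subgroup G) : Set G) := by
      intro g hg
      rw [hEm]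
      exact le_normalizer_map X.subtype
        ⟨⟨g, hQX (hYQ hg)⟩, hQK (hY'Q (show (⟨g, hQX (hYQ hg)⟩ : X) ∈ Y' from hg)), rfl⟩
    have h3 : t ∉ centralizer ((E.map H.subtype : Subgroup G) : Set G) := by
      intro h
      refine CfsgLib.Components.IsComponent.ne_bot hK ?_
      rw [← hne, commutator_comm, commutator_eq_bot_iff_le_centralizer]
      refine zpowers_le.mpr (mem_centralizer_iff.mpr fun k hk => Subtype.ext ?_)
      exact mem_centralizer_iff.mp h k (by rw [hEm]; exact ⟨k, hk, rfl⟩)
    have h4 := hcon E hEc h1 h2 h3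
    intro g hg
    refine mem_centralizer_iff.mpr fun k hk => Subtype.ext ?_
    exact mem_centralizer_iff.mp (h4 hg) k (by rw [hEm]; exact ⟨k, hk, rfl⟩)
  have hF : Y' ≤ centralizer (Cfsg.generalizedFittingSubgroup X : Set X) := by
    rw [le_centralizer_iff, Cfsg.generalizedFittingSubgroup]
    refine sup_le (CfsgLib.Components.layer_le_iff.mpr fun K hK => le_centralizer_iff.mp (hcent K hK)) ?_
    rw [CfsgLib.Solvable.Cores.fittingSubgroup_eq_pCore 2 hO1, le_centralizer_iff]
    exact hY'Q.trans (CfsgLib.Components.LocalCore.le_centralizer_pGroup htR hQcop hQR hQn _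
      (CfsgLib.Solvable.Cores.isPGroup_pCore 2))
  have h1 : Y' ≤ Cfsg.pCore 2 X :=
    (hF.trans CfsgLib.Components.centralizer_generalizedFitting_le_fitting).trans
      (CfsgLib.Solvable.Cores.fittingSubgroup_eq_pCore 2 hO1).le
  have h5 := CfsgLib.Components.inf_eq_bot_of_pGroup_coprime (CfsgLib.Solvable.Cores.isPGroup_pCore (G := X) 2) hQcop
  refine hY1 ?_
  rw [eq_bot_iff]
  intro g hg
  have hgY : (⟨g, hQX (hYQ hg)⟩ : X) ∈ Y' := hg
  have : (⟨g, hQX (hYQ hg)⟩ : X) ∈ Cfsg.pCore 2 X ⊓ Q := ⟨h1 hgY, hY'Q hgY⟩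
  rw [h5, mem_bot] at this
  exact mem_bot.mpr (congrArg Subtype.val this)

end Cfsg.Agent.S1328
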