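import Cfsg.Statements.S1335
import Cfsg.Agent.Lib.Components.Signalizer.Balance
import Cfsg.Agent.Lib.Involution.Dihedral

set_option autoImplicit false
open Cfsg
open CfsgLib.Components CfsgLib.Components.Signalizer
open scoped commutatorElement Pointwise

namespace Cfsg.Agent.S1335

/-- Let H be a subgroup of the finite group G, p a prime, k ≥ 1, P a Sylow p-subgroup of H of p-rank at least k, and suppose N_G(X) ≤ H for every subgroup X ≤ P of p-rank at least k. Then P is a Sylow p-subgroup of G. -/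
theorem result {G : Type*} [Group G] [Finite G] {p : ℕ} [Fact p.Prime] (k : ℕ) (hk : 1 ≤ k) (H : Subgroup G) (P : Sylow p ↥H) (hP : ¬ Cfsg.PRankLE p (k - 1) ↥(P : Subgroup ↥H)) (hΓ : (∀ X : Subgroup G, X ≤ (P : Subgroup ↥H).map H.subtype → ¬ Cfsg.PRankLE p (k - 1) ↥X → Subgroup.normalizer (X : Set G) ≤ H)) : ∃ Q : Sylow p G, (Q : Subgroup G) = (P : Subgroup ↥H).map H.subtype := by
  set X := (P : Subgroup ↥H).map H.subtype with hX
  have hXp : IsPGroup p ↥X := P.isPGroup'.map _
  obtain ⟨Q, hQ⟩ := hXp.exists_le_sylow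
  refine ⟨Q, (hQ.eq_or_lt.resolve_right fun hlt => ?_).symm⟩
  have hXr : ¬ Cfsg.PRankLE p (k - 1) ↥X := by
    intro h
    apply hP
    let e := (P : Subgroup ↥H).equivMapOfInjective H.subtype H.subtype_injective
    intro B hBc hBp
    rw [Nat.card_congr (B.equivMapOfInjective e.toMonoidHom e.injective).toEquiv]
    refine h (B.map e.toMonoidHom) ?_ ?_
    · exact (isMulCommutative_iff_of_mulEquiv (B.equivMapOfInjective e.toMonoidHom e.injective)).mp hBc
    · rintro _ ⟨b, hb, rfl⟩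
      rw [← map_pow, hBp b hb, map_one]
  have h1 := CfsgLib.Coprime.lt_normalizer_inf_of_lt Q.isPGroup' hlt
  set W := (Q : Subgroup G) ⊓ Subgroup.normalizer (X : Set G)
  have hWH : W ≤ H := inf_le_right.trans (hΓ X le_rfl hXr)
  have h2 := P.3 ((Q.isPGroup'.to_le inf_le_left).of_equiv (Subgroup.subgroupOfEquivOfLe hWH).symm)
    (fun y hy => h1.le ⟨y, hy, rfl⟩)
  refine h1.not_ge fun x hx => ?_
  exact ⟨⟨x, hWH hx⟩, h2 ▸ (show (⟨x, hWH hx⟩ : H) ∈ W.subgroupOf H from hx), rfl⟩

end Cfsg.Agent.S1335
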