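import Cfsg.Statements.S1336
import Cfsg.Agent.Lib.Components.Signalizer.Balance
import Cfsg.Agent.Lib.Involution.Dihedral

set_option autoImplicit false
open Cfsg
open CfsgLib.Components CfsgLib.Components.Signalizer
open scoped commutatorElement Pointwise

namespace Cfsg.Agent.S1336

/-- Let G be finite and p prime. Then G has a proper subgroup H with p ∣ |H| and p ∤ |H ∩ gHg⁻¹| for every g ∉ H (a strongly p-embedded subgroup) if and only if G is not 1-connected for p. -/
theorem result {G : Type*} [Group G] [Finite G] (p : ℕ) [Fact p.Prime] : (∃ H : Subgroup G, H ≠ ⊤ ∧ p ∣ Nat.card ↥H ∧ ∀ g : G, g ∉ H → ¬ p ∣ Nat.card ↥(H ⊓ H.map (MulAut.conj g).toMonoidHom)) ↔ ¬ Cfsg.IsKConnected p 1 G := by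
  classical
  have hp : p.Prime := Fact.out
  let R : Subgroup G → Subgroup G → Prop := fun A B => Cfsg.IsElementaryAbelian p A ∧
    p ^ 1 ≤ Nat.card ↥A ∧ Cfsg.IsElementaryAbelian p B ∧ p ^ 1 ≤ Nat.card ↥B ∧
    ∀ a ∈ A, ∀ b ∈ B, a * b = b * a
  have hsymm : ∀ {A B}, Relation.ReflTransGen R A B → Relation.ReflTransGen R B A := by
    intro A B h
    induction h with
    | refl => exact .refl
    | tail _ hbc ih =>
      exact Relation.ReflTransGen.head ⟨hbc.2.2.1, hbc.2.2.2.1, hbc.1, hbc.2.1,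
        fun a ha b hb => (hbc.2.2.2.2 b hb a ha).symm⟩ ih
  have hzel : ∀ x : G, orderOf x = p → Cfsg.IsElementaryAbelian p (Subgroup.zpowers x) ∧
      p ^ 1 ≤ Nat.card ↥(Subgroup.zpowers x) := by
    intro x hx
    refine ⟨⟨⟨⟨fun a b => mul_comm' a b⟩⟩, fun a ha => ?_⟩, by rw [Nat.card_zpowers, hx, pow_one]⟩
    obtain ⟨i, rfl⟩ := Subgroup.mem_zpowers_iff.mp ha
    rw [← zpow_natCast, ← zpow_mul, mul_comm, zpow_mul, zpow_natCast, ← hx, pow_orderOf_eq_one,
      one_zpow]
  have hexists : ∀ A : Subgroup G, Cfsg.IsElementaryAbelian p A → p ^ 1 ≤ Nat.card ↥A →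
      ∃ a ∈ A, orderOf a = p := by
    intro A hA hc
    obtain ⟨a, ha, ha1⟩ := A.bot_or_exists_ne_one.resolve_left
      (exists_ne_one_of_card hc one_ne_zero)
    exact ⟨a, ha, orderOf_eq_prime (hA.2 a ha) ha1⟩
  have hsub : ∀ A x, Cfsg.IsElementaryAbelian p A → p ^ 1 ≤ Nat.card ↥A → x ∈ A → orderOf x = p →
      R A (Subgroup.zpowers x) := fun A x hA hc hxA hx =>
    ⟨hA, hc, (hzel x hx).1, (hzel x hx).2, fun a ha b hb =>
      commute_of_mem hA ha ((Subgroup.zpowers_le).mpr hxA hb)⟩
  constructor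
  · rintro ⟨H, hH, hdvd, hemb⟩ hconn
    obtain ⟨g, hg⟩ : ∃ g, g ∉ H := by
      by_contra h
      push Not at h
      exact hH (eq_top_iff.mpr fun x _ => h x)
    obtain ⟨z, hz⟩ := exists_prime_orderOf_dvd_card' p hdvd
    have hzG : orderOf (z : G) = p := by rw [Subgroup.orderOf_coe]; exact hz
    have hcomm : ∀ x y : G, orderOf x = p → x ∈ H → x * y = y * x → y ∈ H := by
      intro x y hx hxH hxy
      by_contra hy
      refine hemb y hy ?_
      rw [← hx, ← Nat.card_zpowers]
      refine Subgroup.card_dvd_of_le ((Subgroup.zpowers_le).mpr ⟨hxH, x, hxH, ?_⟩)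
      show y * x * y⁻¹ = x
      rw [← hxy, mul_inv_cancel_right]
    have hall : ∀ B, Relation.ReflTransGen R (Subgroup.zpowers (z : G)) B → B ≤ H := by
      intro B h
      induction h with
      | refl => exact (Subgroup.zpowers_le).mpr z.2
      | tail _ hAB ih =>
        intro b hb
        obtain ⟨a, ha, hao⟩ := hexists _ hAB.1 hAB.2.1
        exact hcomm a b hao (ih ha) (hAB.2.2.2.2 a ha b hb)
    have hgz : orderOf (g * (z : G) * g⁻¹) = p := by
      rw [CfsgLib.Involution.Dihedral.orderOf_conj, hzG]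
    have h1 := hall _ (hconn _ _ (hzel _ hzG).1 (hzel _ hzG).2 (hzel _ hgz).1 (hzel _ hgz).2)
      (Subgroup.mem_zpowers _)
    refine hemb g hg ?_
    rw [← hgz, ← Nat.card_zpowers]
    exact Subgroup.card_dvd_of_le ((Subgroup.zpowers_le).mpr ⟨h1, (z : G), z.2, rfl⟩)
  · intro hnot
    have hnot' : ∃ E E' : Subgroup G, Cfsg.IsElementaryAbelian p E ∧ p ^ 1 ≤ Nat.card ↥E ∧
        Cfsg.IsElementaryAbelian p E' ∧ p ^ 1 ≤ Nat.card ↥E' ∧ ¬ Relation.ReflTransGen R E E' := by
      by_contra h
      push Not at h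
      exact hnot fun E E' h1 h2 h3 h4 => h E E' h1 h2 h3 h4
    obtain ⟨E, E', hE, hEc, hE', hE'c, hne⟩ := hnot'
    have hRmap : ∀ (g : G) {A B}, Relation.ReflTransGen R A B → Relation.ReflTransGen R
        (A.map (MulAut.conj g).toMonoidHom) (B.map (MulAut.conj g).toMonoidHom) := by
      intro g A B h
      have hel : ∀ U : Subgroup G, Cfsg.IsElementaryAbelian p U → p ^ 1 ≤ Nat.card ↥U →
          Cfsg.IsElementaryAbelian p (U.map (MulAut.conj g).toMonoidHom) ∧
          p ^ 1 ≤ Nat.card ↥(U.map (MulAut.conj g).toMonoidHom) := by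
        intro U hU hc
        refine ⟨⟨?_, ?_⟩, ?_⟩
        · exact (isMulCommutative_iff_of_mulEquiv
            (U.equivMapOfInjective (MulAut.conj g).toMonoidHom (MulAut.conj g).injective)).mp hU.1
        · rintro _ ⟨u, hu, rfl⟩
          rw [← map_pow, hU.2 u hu, map_one]
        · rwa [CfsgLib.Coprime.card_conj_map]
      induction h with
      | refl => exact .refl
      | tail _ hbc ih =>
        refine ih.tail ⟨(hel _ hbc.1 hbc.2.1).1, (hel _ hbc.1 hbc.2.1).2,
          (hel _ hbc.2.2.1 hbc.2.2.2.1).1, (hel _ hbc.2.2.1 hbc.2.2.2.1).2, ?_⟩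
        rintro _ ⟨a, ha, rfl⟩ _ ⟨b, hb, rfl⟩
        rw [← map_mul, ← map_mul, hbc.2.2.2.2 a ha b hb]
    have hmm : ∀ (g h : G) (A : Subgroup G), (A.map (MulAut.conj h).toMonoidHom).map
        (MulAut.conj g).toMonoidHom = A.map (MulAut.conj (g * h)).toMonoidHom := by
      intro g h A
      rw [CfsgLib.Coprime.conj_map_map]
    let H : Subgroup G :=
      { carrier := {g | Relation.ReflTransGen R E (E.map (MulAut.conj g).toMonoidHom)}
        one_mem' := by
          show Relation.ReflTransGen R E _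
          rw [show E.map (MulAut.conj (1 : G)).toMonoidHom = E by ext; simp]
        mul_mem' := fun {g h} hg hh => by
          show Relation.ReflTransGen R E _
          rw [← hmm]
          exact Relation.ReflTransGen.trans hg (hRmap g hh)
        inv_mem' := fun {g} hg => by
          show Relation.ReflTransGen R E _
          have h1 := hRmap g⁻¹ hg
          rw [hmm, show E.map (MulAut.conj (g⁻¹ * g)).toMonoidHom = E by ext; simp] at h1
          exact hsymm h1 }
    have hmem : ∀ g, g ∈ H ↔ Relation.ReflTransGen R E (E.map (MulAut.conj g).toMonoidHom) :=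
      fun g => Iff.rfl
    obtain ⟨e, he, heo⟩ := hexists E hE hEc
    obtain ⟨P, hP⟩ := (isPGroup_of_elementary hE).exists_le_sylow
    haveI hnt : Nontrivial ↥(P : Subgroup G) := ⟨⟨⟨e, hP he⟩, 1, fun h => by
      have : e = 1 := congrArg Subtype.val h
      rw [this, orderOf_one] at heo
      exact hp.ne_one heo.symm⟩⟩
    obtain ⟨z, hz⟩ : ∃ z : Subgroup.center ↥(P : Subgroup G), orderOf z = p := by
      refine exists_prime_orderOf_dvd_card' p ?_
      haveI := P.isPGroup'.center_nontrivial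
      obtain ⟨m, hm⟩ := (P.isPGroup'.to_subgroup (Subgroup.center ↥(P : Subgroup G))).exists_card_eq
      have h1 : 1 < Nat.card ↥(Subgroup.center ↥(P : Subgroup G)) := Finite.one_lt_card
      rw [hm] at h1 ⊢
      exact dvd_pow_self p (by rintro rfl; simp at h1)
    set z' : G := ((z : ↥(P : Subgroup G)) : G) with hz'
    have hz'o : orderOf z' = p := by rw [hz', Subgroup.orderOf_coe, Subgroup.orderOf_coe, hz]
    have hzc : ∀ x ∈ (P : Subgroup G), x * z' = z' * x := fun x hx =>
      congrArg Subtype.val (Subgroup.mem_center_iff.mp z.2 ⟨x, hx⟩)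
    have hzR : ∀ A : Subgroup G, Cfsg.IsElementaryAbelian p A → p ^ 1 ≤ Nat.card ↥A →
        A ≤ (P : Subgroup G) → R A (Subgroup.zpowers z') := fun A hA hc hAP =>
      ⟨hA, hc, (hzel _ hz'o).1, (hzel _ hz'o).2, fun a ha b hb => by
        obtain ⟨i, rfl⟩ := Subgroup.mem_zpowers_iff.mp hb
        exact ((show Commute a z' from hzc a (hAP ha)).zpow_right i).eq⟩
    have hPH : (P : Subgroup G) ≤ H := by
      intro x hx
      rw [hmem]
      refine (Relation.ReflTransGen.single (hzR E hE hEc hP)).trans (hsymm ?_)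
      have h1 := hRmap x (Relation.ReflTransGen.single (hzR E hE hEc hP))
      rwa [MonoidHom.map_zpowers, show (MulAut.conj x).toMonoidHom z' = z' by
        show x * z' * x⁻¹ = z'
        rw [hzc x hx, mul_inv_cancel_right]] at h1
    have hx : ∀ x ∈ H, orderOf x = p → Relation.ReflTransGen R E (Subgroup.zpowers x) := by
      intro x hxH hxo
      have hxg : IsPGroup p ↥(Subgroup.zpowers (⟨x, hxH⟩ : H)) := IsPGroup.of_card (n := 1) (by
        rw [Nat.card_zpowers, pow_one, ← Subgroup.orderOf_coe]; exact hxo)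
      obtain ⟨S, hS⟩ := hxg.exists_le_sylow
      obtain ⟨h, hh⟩ := MulAction.exists_smul_eq H (P.subtype hPH) S
      have hxm : (⟨x, hxH⟩ : H) ∈ (S : Subgroup H) := hS (Subgroup.mem_zpowers _)
      rw [← hh, Sylow.coe_subgroup_smul] at hxm
      obtain ⟨y, hy, hyx⟩ := hxm
      have hyx' : (h : G) * (y : G) * (h : G)⁻¹ = x := congrArg Subtype.val hyx
      have hyo : orderOf (y : G) = p := by
        rw [← CfsgLib.Involution.Dihedral.orderOf_conj (h : G), hyx', hxo]
      have h1 : Relation.ReflTransGen R E (Subgroup.zpowers (y : G)) :=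
        (Relation.ReflTransGen.single (hzR E hE hEc hP)).trans
          (hsymm (Relation.ReflTransGen.single (hzR _ (hzel _ hyo).1 (hzel _ hyo).2
            ((Subgroup.zpowers_le).mpr hy))))
      have h2 := hRmap (h : G) h1
      rw [MonoidHom.map_zpowers, show (MulAut.conj (h : G)).toMonoidHom (y : G) = x from hyx'] at h2
      exact Relation.ReflTransGen.trans ((hmem h).mp h.2) h2
    refine ⟨H, fun htop => ?_, ?_, fun g hg hdvd => hg ?_⟩
    · obtain ⟨a, ha, hao⟩ := hexists E' hE' hE'c
      exact hne (Relation.ReflTransGen.trans (hx a (htop ▸ Subgroup.mem_top a) hao)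
        (hsymm (Relation.ReflTransGen.single (hsub E' a hE' hE'c ha hao))))
    · rw [← heo, ← Nat.card_zpowers]
      exact Subgroup.card_dvd_of_le ((Subgroup.zpowers_le).mpr (hPH (hP he)))
    · obtain ⟨⟨x, hxH, y, hy, hyx⟩, hxo⟩ := exists_prime_orderOf_dvd_card' p hdvd
      rw [← Subgroup.orderOf_coe] at hxo
      have hyo : orderOf y = p := by
        rw [← CfsgLib.Involution.Dihedral.orderOf_conj g, show g * y * g⁻¹ = x from hyx]; exact hxo
      have h1 := hRmap g (hx y hy hyo)
      rw [MonoidHom.map_zpowers, hyx] at h1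
      rw [hmem]
      exact Relation.ReflTransGen.trans (hx x hxH hxo) (hsymm h1)

end Cfsg.Agent.S1336
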