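import Cfsg.Statements.S1337
import Cfsg.Agent.Lib.Fusion.NormalRankTwo
import Cfsg.Agent.Lib.Fusion.NormalRankFour
import Cfsg.Agent.Lib.Fusion.Thompson
import Cfsg.Agent.Lib.Involution.NormalFour

set_option autoImplicit false
open Cfsg
open scoped commutatorElement

namespace Cfsg.Agent.S1337

section

open CfsgLib.Fusion

variable {P : Type*} [Group P] [Finite P] {p : ℕ} [Fact p.Prime]

/-- The commuting relation on elementary abelian subgroups of order at least `p²`. -/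
def Adj (p : ℕ) (A B : Subgroup P) : Prop :=
  Cfsg.IsElementaryAbelian p A ∧ p ^ 2 ≤ Nat.card ↥A ∧ Cfsg.IsElementaryAbelian p B ∧ p ^ 2 ≤ Nat.card ↥B ∧
    ∀ a ∈ A, ∀ b ∈ B, a * b = b * a

theorem sup_ea {A B : Subgroup P} (hA : Cfsg.IsElementaryAbelian p A) (hB : Cfsg.IsElementaryAbelian p B)
    (h : ∀ a ∈ A, ∀ b ∈ B, a * b = b * a) : Cfsg.IsElementaryAbelian p (A ⊔ B : Subgroup P) := by
  have hAc := CfsgLib.Solvable.Basic.isMulCommutative_subgroup_iff.1 hA.1
  have hBc := CfsgLib.Solvable.Basic.isMulCommutative_subgroup_iff.1 hB.1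
  have h1 : A ⊔ B ≤ Subgroup.centralizer (A : Set P) :=
    sup_le (fun x hx => Subgroup.mem_centralizer_iff.2 fun a ha => hAc a ha x hx)
      (fun x hx => Subgroup.mem_centralizer_iff.2 fun a ha => h a ha x hx)
  have h2 : A ⊔ B ≤ Subgroup.centralizer (B : Set P) :=
    sup_le (fun x hx => Subgroup.mem_centralizer_iff.2 fun b hb => (h x hx b hb).symm)
      (fun x hx => Subgroup.mem_centralizer_iff.2 fun b hb => hBc b hb x hx)
  have h3 : A ⊔ B ≤ Subgroup.centralizer ((A ⊔ B : Subgroup P) : Set P) := by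
    rw [Subgroup.le_centralizer_iff]
    exact sup_le (Subgroup.le_centralizer_iff.1 h1) (Subgroup.le_centralizer_iff.1 h2)
  have hc : ∀ x ∈ A ⊔ B, ∀ y ∈ A ⊔ B, x * y = y * x := fun x hx y hy =>
    Subgroup.mem_centralizer_iff.1 (h3 hy) x hx
  refine ⟨CfsgLib.Solvable.Basic.isMulCommutative_subgroup_iff.2 hc, fun x hx => ?_⟩
  let T : Subgroup P :=
    { carrier := {x | x ∈ A ⊔ B ∧ x ^ p = 1}
      one_mem' := ⟨one_mem _, one_pow _⟩
      mul_mem' := fun {x y} hx hy => ⟨mul_mem hx.1 hy.1, by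
        rw [(show Commute x y from hc x hx.1 y hy.1).mul_pow, hx.2, hy.2, one_mul]⟩
      inv_mem' := fun {x} hx => ⟨inv_mem hx.1, by rw [inv_pow, hx.2, inv_one]⟩ }
  exact ((sup_le (fun a ha => ⟨Subgroup.mem_sup_left ha, hA.2 a ha⟩)
    (fun b hb => ⟨Subgroup.mem_sup_right hb, hB.2 b hb⟩) : A ⊔ B ≤ T) hx).2

theorem exists_large {H : Subgroup P} (h : ¬ Cfsg.PRankLE p 2 ↥H) :
    ∃ E : Subgroup P, E ≤ H ∧ Cfsg.IsElementaryAbelian p E ∧ p ^ 3 ≤ Nat.card E := by
  unfold Cfsg.PRankLE at h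
  push Not at h
  obtain ⟨A, hAc, hAp, hA⟩ := h
  have hEA : Cfsg.IsElementaryAbelian p A := ⟨hAc, hAp⟩
  refine ⟨A.map H.subtype, Subgroup.map_subtype_le A, Thompson.isEA_map _ hEA, ?_⟩
  rw [Subgroup.card_map_of_injective H.subtype_injective]
  obtain ⟨m, hm⟩ := (Thompson.isPGroup_isEA hEA).exists_card_eq
  rw [hm] at hA ⊢
  exact Nat.pow_le_pow_right (Fact.out : p.Prime).pos ((Nat.pow_lt_pow_iff_right (Fact.out : p.Prime).one_lt).1 hA)

theorem not_rankLE {H E : Subgroup P} (hEH : E ≤ H) (hE : Cfsg.IsElementaryAbelian p E)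
    (hc : p ^ 2 < Nat.card E) : ¬ Cfsg.PRankLE p 2 ↥H := by
  intro h
  have h1 := Thompson.isEA_subgroupOf hE H
  have h2 := h (E.subgroupOf H) h1.1 h1.2
  rw [Nat.card_congr (Subgroup.subgroupOfEquivOfLe hEH).toEquiv] at h2
  exact hc.not_ge h2

/-- A normal elementary abelian subgroup of order `p²`. -/
theorem exists_plane (hP : IsPGroup p P) (hrk : ¬ Cfsg.PRankLE p 2 P) :
    ∃ U : Subgroup P, U.Normal ∧ Cfsg.IsElementaryAbelian p U ∧ Nat.card ↥U = p ^ 2 := by
  unfold Cfsg.PRankLE at hrk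
  push Not at hrk
  obtain ⟨A, hAc, hAp, hA⟩ := hrk
  by_cases hp : p = 2
  · subst hp
    obtain ⟨m, hm⟩ := (Thompson.isPGroup_isEA (⟨hAc, hAp⟩ : Cfsg.IsElementaryAbelian 2 A)).exists_card_eq
    have h8 : 8 ≤ Nat.card A := by
      rw [hm] at hA ⊢
      exact le_trans (by norm_num : 8 ≤ 2 ^ 3)
        (Nat.pow_le_pow_right (by norm_num) ((Nat.pow_lt_pow_iff_right (le_refl 2)).1 hA))
    obtain ⟨U, hUn, hUc, hU2⟩ := CfsgLib.Involution.NormalFour.exists_normal_four hP h8 hAp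
    refine ⟨U, hUn, ⟨?_, hU2⟩, by rw [hUc]; norm_num⟩
    exact CfsgLib.Solvable.Basic.isMulCommutative_subgroup_iff.2 fun a ha b hb => by
      have h := hU2 (a * b) (mul_mem ha hb)
      have h1 : a⁻¹ = a := inv_eq_of_mul_eq_one_right (by rw [← pow_two]; exact hU2 a ha)
      have h2 : b⁻¹ = b := inv_eq_of_mul_eq_one_right (by rw [← pow_two]; exact hU2 b hb)
      rw [pow_two] at h
      calc a * b = (a * b)⁻¹ := (inv_eq_of_mul_eq_one_right h).symm
        _ = b * a := by rw [mul_inv_rev, h1, h2]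
  · obtain ⟨U, -, hUn, hU, hUc⟩ := NormalRankTwo.exists_normal_rankTwo hP hp (S := ⊤) (by
      intro hcyc
      haveI := hcyc
      have hAcyc : IsCyclic A := isCyclic_of_injective (Subgroup.inclusion (le_top : A ≤ ⊤))
        (Subgroup.inclusion_injective _)
      obtain ⟨g, hg⟩ := IsCyclic.exists_ofOrder_eq_natCard (α := A)
      have h1 : orderOf g ∣ p := orderOf_dvd_of_pow_eq_one (Subtype.ext (hAp g g.2))
      rw [hg] at h1
      have h2 := Nat.le_of_dvd (Fact.out : p.Prime).pos h1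
      exact absurd (hA.trans_le h2) (not_lt.2 (Nat.le_self_pow two_ne_zero p)))
    exact ⟨U, hUn, hU, hUc⟩

/-- An elementary abelian subgroup centralises a hyperplane on a normal plane. -/
theorem card_fix (hP : IsPGroup p P) {U : Subgroup P} [U.Normal] (hU : Cfsg.IsElementaryAbelian p U)
    (hUc : Nat.card U = p ^ 2) (E : Subgroup P) :
    Nat.card E ≤ p * Nat.card ↥(E ⊓ Subgroup.centralizer (U : Set P)) := by
  have hp := (Fact.out : p.Prime)
  obtain ⟨z, hzU, hz1, hzp, hzc⟩ := NormalRankTwo.exists_central_of_lt (M := (⊥ : Subgroup P)) (N := U) hP (by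
    intro h
    have := Subgroup.card_le_of_le h
    rw [hUc, Subgroup.card_bot] at this
    exact absurd this (not_le.2 (Nat.one_lt_pow two_ne_zero hp.one_lt)))
  rw [Subgroup.mem_bot] at hz1 hzp
  have hzcomm : ∀ g : P, g * z = z * g := fun g =>
    commutatorElement_eq_one_iff_mul_comm.1 (Subgroup.mem_bot.1 (hzc g))
  set Z := Subgroup.zpowers z with hZ
  haveI : Z.Normal := by
    have := NormalRankTwo.sup_zpowers_normal (M := (⊥ : Subgroup P)) hzc
    rwa [bot_sup_eq] at this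
  have hZc : Nat.card Z = p := by rw [hZ, Nat.card_zpowers]; exact orderOf_eq_prime hzp hz1
  obtain ⟨a, haU, haZ, hap, hac⟩ := NormalRankTwo.exists_central_of_lt (M := Z) (N := U) hP (by
    intro h
    have := Subgroup.card_le_of_le h
    rw [hUc, hZc] at this
    exact absurd this (not_le.2 (by rw [pow_two]; exact lt_mul_of_one_lt_left hp.pos hp.one_lt)))
  have hUeq : Z ⊔ Subgroup.zpowers a = U := by
    refine Subgroup.eq_of_le_of_card_ge (sup_le ((Subgroup.zpowers_le).2 hzU) ((Subgroup.zpowers_le).2 haU)) ?_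
    rw [NormalRankTwo.sup_zpowers_card haZ hap, hZc, hUc, pow_two]
  have h := NormalRankFour.card_le_of_comm (H := E) (F := Z) (a := a) (fun x _ => by
    rw [← commutatorElement_inv]; exact inv_mem (hac x))
  rw [hZc] at h
  refine h.trans (Nat.mul_le_mul_left p (Subgroup.card_le_of_le (inf_le_inf_left E ?_)))
  rw [← hUeq, Subgroup.le_centralizer_iff]
  refine sup_le (Subgroup.zpowers_le.2 (Subgroup.mem_centralizer_iff.2 fun x _ => hzcomm x)) (Subgroup.zpowers_le.2 ?_)
  exact Subgroup.mem_centralizer_iff.2 fun x hx => Subgroup.mem_centralizer_singleton_iff.1 hx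

/-- Elementary abelian subgroups of order at least `p³` centralise enough of a normal plane. -/
theorem fix_large (hP : IsPGroup p P) {U : Subgroup P} [U.Normal] (hU : Cfsg.IsElementaryAbelian p U)
    (hUc : Nat.card U = p ^ 2) {E : Subgroup P} (hE : p ^ 3 ≤ Nat.card E) :
    p ^ 2 ≤ Nat.card ↥(E ⊓ Subgroup.centralizer (U : Set P)) := by
  refine Nat.le_of_mul_le_mul_left ?_ (Fact.out : p.Prime).pos
  rw [← pow_succ']
  exact hE.trans (card_fix hP hU hUc E)

/-- Joining to a normal plane. -/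
theorem chain (hP : IsPGroup p P) {U : Subgroup P} [U.Normal] (hU : Cfsg.IsElementaryAbelian p U)
    (hUc : Nat.card U = p ^ 2) {X : Subgroup P} (hX : Cfsg.IsElementaryAbelian p X) (hXc : p ^ 2 ≤ Nat.card X)
    (h : ¬ Cfsg.PRankLE p 2 ↥(Subgroup.centralizer (X : Set P))) :
    Relation.ReflTransGen (Adj p) X U ∧ Relation.ReflTransGen (Adj p) U X := by
  obtain ⟨E, hEX, hE, hE3⟩ := exists_large h
  have hp := (Fact.out : p.Prime)
  set E1 := E ⊓ Subgroup.centralizer (U : Set P)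
  have hE1 : Cfsg.IsElementaryAbelian p E1 := Thompson.isEA_le hE inf_le_left
  have hE1c : p ^ 2 ≤ Nat.card E1 := fix_large hP hU hUc hE3
  have hE2 : p ^ 2 ≤ Nat.card E := (Nat.pow_le_pow_right hp.pos (by norm_num)).trans hE3
  have hEc := CfsgLib.Solvable.Basic.isMulCommutative_subgroup_iff.1 hE.1
  have r1 : ∀ a ∈ X, ∀ b ∈ E, a * b = b * a := fun a ha b hb => Subgroup.mem_centralizer_iff.1 (hEX hb) a ha
  have r3 : ∀ a ∈ E1, ∀ b ∈ U, a * b = b * a := fun a ha b hb =>
    (Subgroup.mem_centralizer_iff.1 ha.2 b hb).symm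
  constructor
  · exact ((Relation.ReflTransGen.single ⟨hX, hXc, hE, hE2, r1⟩).tail
      ⟨hE, hE2, hE1, hE1c, fun a ha b hb => hEc a ha b hb.1⟩).tail ⟨hE1, hE1c, hU, hUc.ge, r3⟩
  · exact ((Relation.ReflTransGen.single ⟨hU, hUc.ge, hE1, hE1c, fun a ha b hb => (r3 b hb a ha).symm⟩).tail
      ⟨hE1, hE1c, hE, hE2, fun a ha b hb => hEc a ha.1 b hb⟩).tail
      ⟨hE, hE2, hX, hXc, fun a ha b hb => (r1 b hb a ha).symm⟩

end

/-- Let P be a finite p-group of p-rank greater than 2. Then P has a normal elementary abelian subgroup U of order p², and for every elementary abelian X ≤ P with |X| ≥ p²: X is joined to U by a chain of pairwise commuting elementary abelian subgroups of order ≥ p² if and only if C_P(X) has p-rank greater than 2. -/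
theorem result {P : Type*} [Group P] [Finite P] (p : ℕ) [Fact p.Prime] (hP : IsPGroup p P) (hrk : ¬ Cfsg.PRankLE p 2 P) : ∃ U : Subgroup P, U.Normal ∧ Cfsg.IsElementaryAbelian p U ∧ Nat.card ↥U = p ^ 2 ∧ ∀ X : Subgroup P, Cfsg.IsElementaryAbelian p X → p ^ 2 ≤ Nat.card ↥X → (Relation.ReflTransGen (fun A B : Subgroup P => Cfsg.IsElementaryAbelian p A ∧ p ^ 2 ≤ Nat.card ↥A ∧ Cfsg.IsElementaryAbelian p B ∧ p ^ 2 ≤ Nat.card ↥B ∧ ∀ a ∈ A, ∀ b ∈ B, a * b = b * a) X U ↔ ¬ Cfsg.PRankLE p 2 ↥(Subgroup.centralizer (X : Set P))) := by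
  obtain ⟨U, hUn, hU, hUc⟩ := exists_plane hP hrk
  haveI := hUn
  have hp := (Fact.out : p.Prime)
  refine ⟨U, hUn, hU, hUc, fun X hX hXc => ⟨fun hchain hle => ?_, fun h => (chain hP hU hUc hX hXc h).1⟩⟩
  -- with small centraliser the component of `X` is trivial
  have hsmall : ∀ Y : Subgroup P, Cfsg.IsElementaryAbelian p Y → p ^ 2 ≤ Nat.card Y →
      (∀ a ∈ X, ∀ b ∈ Y, a * b = b * a) → Y = X := by
    intro Y hY hYc hcomm
    have hS := sup_ea hX hY hcomm
    have hSc : Nat.card ↥(X ⊔ Y) ≤ p ^ 2 := by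
      by_contra h
      refine not_rankLE ?_ hS (not_le.1 h) hle
      exact sup_le (fun x hx => Subgroup.mem_centralizer_iff.2 fun a ha =>
          CfsgLib.Solvable.Basic.isMulCommutative_subgroup_iff.1 hX.1 a ha x hx)
        (fun x hx => Subgroup.mem_centralizer_iff.2 fun a ha => hcomm a ha x hx)
    exact (Subgroup.eq_of_le_of_card_ge le_sup_right (hSc.trans hYc)).trans
      (Subgroup.eq_of_le_of_card_ge le_sup_left (hSc.trans hXc)).symm
  have hUX : U = X := by
    have key : ∀ Z, Relation.ReflTransGen (Adj (P := P) p) X Z → Z = X := by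
      intro Z hZ
      induction hZ with
      | refl => rfl
      | tail _ hbc ih => exact hsmall _ hbc.2.2.1 hbc.2.2.2.1 (ih ▸ hbc.2.2.2.2)
    exact key U hchain
  subst hUX
  obtain ⟨E, -, hE, hE3⟩ := exists_large (H := (⊤ : Subgroup P)) (p := p) (fun h => hrk fun A hAc hAp => by
    have h2 := h (A.subgroupOf ⊤) (CfsgLib.Fusion.Thompson.isEA_subgroupOf (⟨hAc, hAp⟩ : Cfsg.IsElementaryAbelian p A) ⊤).1
      (CfsgLib.Fusion.Thompson.isEA_subgroupOf (⟨hAc, hAp⟩ : Cfsg.IsElementaryAbelian p A) ⊤).2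
    rwa [Nat.card_congr (Subgroup.subgroupOfEquivOfLe le_top).toEquiv] at h2)
  have heq := hsmall _ (CfsgLib.Fusion.Thompson.isEA_le hE inf_le_left) (fix_large hP hU hUc hE3)
    (fun a ha b hb => Subgroup.mem_centralizer_iff.1 hb.2 a ha)
  have hUE : U ≤ E := heq.ge.trans inf_le_left
  have hEC : E ≤ Subgroup.centralizer (U : Set P) := fun e he => Subgroup.mem_centralizer_iff.2 fun u hu =>
    CfsgLib.Solvable.Basic.isMulCommutative_subgroup_iff.1 hE.1 u (hUE hu) e he
  exact not_rankLE hEC hE (lt_of_lt_of_le (Nat.pow_lt_pow_right hp.one_lt (by norm_num)) hE3) hle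

end Cfsg.Agent.S1337
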