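import Cfsg.Statements.S1338
import Cfsg.Agent.S1337

set_option autoImplicit false
open Cfsg
open scoped commutatorElement

namespace Cfsg.Agent.S1338

section

open CfsgLib.Fusion

variable {P : Type*} [Group P] [Finite P]

/-- An element acting on an elementary abelian 3-group with `(y - 1)^3 = 0`. -/
theorem cube_zero {W : Subgroup P} (hW : Cfsg.IsElementaryAbelian 3 W) {y : P} (hy : y ^ 3 = 1)
    (hn : ∀ w ∈ W, y * w * y⁻¹ ∈ W) {w : P} (hw : w ∈ W) : ⁅y, ⁅y, ⁅y, w⁆⁆⁆ = 1 := by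
  have hWc := CfsgLib.Solvable.Basic.isMulCommutative_subgroup_iff.1 hW.1
  let σ : P → P := fun x => y * x * y⁻¹
  have hσ : ∀ a b, σ (a * b) = σ a * σ b := fun a b => by simp only [σ]; group
  have hσi : ∀ a, σ a⁻¹ = (σ a)⁻¹ := fun a => by simp only [σ]; group
  have hd : ∀ x, ⁅y, x⁆ = σ x * x⁻¹ := fun x => commutatorElement_def y x
  have h3 : σ (σ (σ w)) = w := by
    simp only [σ]
    calc y * (y * (y * w * y⁻¹) * y⁻¹) * y⁻¹ = (y ^ 3) * w * (y ^ 3)⁻¹ := by rw [pow_succ, pow_two]; group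
      _ = w := by rw [hy, one_mul, inv_one, mul_one]
  have m1 := hn w hw
  have m2 := hn _ m1
  rw [hd, hd, hd]
  simp only [hσ, hσi, h3, mul_inv_rev, inv_inv]
  obtain ⟨a, ha⟩ : ∃ a : W, (a : P) = w := ⟨⟨w, hw⟩, rfl⟩
  obtain ⟨b, hb⟩ : ∃ b : W, (b : P) = σ w := ⟨⟨_, m1⟩, rfl⟩
  obtain ⟨c, hc⟩ : ∃ c : W, (c : P) = σ (σ w) := ⟨⟨_, m2⟩, rfl⟩
  rw [← ha] at *
  rw [← hb] at *
  rw [← hc] at *
  simp only [← Subgroup.coe_inv, ← Subgroup.coe_mul]
  letI : CommGroup W := { (inferInstance : Group W) with mul_comm := fun u v => Subtype.ext (hWc u u.2 v v.2) }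
  have e3 : ∀ u : W, u ^ 3 = 1 := fun u => Subtype.ext (hW.2 u u.2)
  rw [← Subgroup.coe_one (H := W)]
  congr 1
  rw [← Additive.ofMul.injective.eq_iff]
  simp only [ofMul_mul, ofMul_inv, ofMul_one]
  have e3' : ∀ u : W, 3 • Additive.ofMul u = 0 := fun u => by rw [← ofMul_pow, e3, ofMul_one]
  linear_combination (norm := module) (e3' b) - (e3' c)

/-- The fixed points of an element of order three on an elementary abelian group of order 81. -/
theorem card_fix_three {W : Subgroup P} (hW : Cfsg.IsElementaryAbelian 3 W) (hW4 : 3 ^ 4 ≤ Nat.card W) {y : P}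
    (hy : y ^ 3 = 1) (hn : ∀ w ∈ W, y * w * y⁻¹ ∈ W) :
    3 ^ 2 ≤ Nat.card ↥(W ⊓ Subgroup.centralizer {y}) := by
  have hmem : ∀ w ∈ W, ⁅y, w⁆ ∈ W := fun w hw => mul_mem (hn w hw) (inv_mem hw)
  have hWc := CfsgLib.Solvable.Basic.isMulCommutative_subgroup_iff.1 hW.1
  let d : W →* W := MonoidHom.mk' (fun w => ⟨⁅y, (w : P)⁆, hmem w w.2⟩) fun u v => Subtype.ext (by
    show ⁅y, (u : P) * v⁆ = ⁅y, (u : P)⁆ * ⁅y, (v : P)⁆
    have h := hWc (u : P) u.2 _ (hmem v v.2)
    calc ⁅y, (u : P) * v⁆ = ⁅y, (u : P)⁆ * ((u : P) * ⁅y, (v : P)⁆) * (u : P)⁻¹ := by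
          simp only [commutatorElement_def]; group
      _ = _ := by rw [h]; group)
  have hF : Nat.card d.ker = Nat.card ↥(W ⊓ Subgroup.centralizer {y}) := by
    refine Nat.card_congr ⟨fun x => ⟨x.1, x.1.2, ?_⟩, fun x => ⟨⟨x, x.2.1⟩, ?_⟩, fun x => rfl, fun x => rfl⟩
    · exact Subgroup.mem_centralizer_singleton_iff.2
        (commutatorElement_eq_one_iff_mul_comm.1 (congrArg Subtype.val x.2)).symm
    · exact Subtype.ext (commutatorElement_eq_one_iff_mul_comm.2
        (Subgroup.mem_centralizer_singleton_iff.1 x.2.2).symm)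
  have hker : ∀ H : Subgroup W, Nat.card H ≤ Nat.card (H.map d) * Nat.card d.ker := by
    intro H
    have h := Subgroup.index_mul_card (d.comp H.subtype).ker
    rw [Subgroup.index_ker, MonoidHom.range_comp, Subgroup.range_subtype] at h
    rw [← h]
    exact Nat.mul_le_mul_left _ (Nat.card_le_card_of_injective
      (fun x : (d.comp H.subtype).ker => (⟨x.1.1, x.2⟩ : d.ker))
      fun a b hab => Subtype.ext (Subtype.ext (congrArg Subtype.val hab :)))
  have h3 : ((⊤ : Subgroup W).map d).map d ≤ d.ker := by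
    rintro _ ⟨_, ⟨w, -, rfl⟩, rfl⟩
    exact Subtype.ext (cube_zero hW hy hn w.2)
  have e1 := hker ⊤
  have e2 := hker ((⊤ : Subgroup W).map d)
  have e3 := Subgroup.card_le_of_le h3
  rw [Subgroup.card_top] at e1
  obtain ⟨k, hk⟩ := ((CfsgLib.Fusion.Thompson.isPGroup_isEA hW).to_subgroup d.ker).exists_card_eq
  have h4 : Nat.card W ≤ (3 ^ k) ^ 3 := by
    rw [← hk]
    calc Nat.card W ≤ _ := e1
      _ ≤ (Nat.card d.ker * Nat.card d.ker) * Nat.card d.ker :=
          Nat.mul_le_mul_right _ (e2.trans (Nat.mul_le_mul_right _ e3))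
      _ = Nat.card d.ker ^ 3 := by ring
  rw [← hF, hk]
  refine Nat.pow_le_pow_right (by norm_num) ?_
  by_contra hk2
  have : (3 ^ k) ^ 3 ≤ 3 ^ 3 := by
    rw [← pow_mul]; exact Nat.pow_le_pow_right (by norm_num) (by omega)
  exact absurd (hW4.trans (h4.trans this)) (by norm_num)

end

/-- A finite 3-group of 3-rank at least 4 is 2-connected for the prime 3: its commuting graph on elementary abelian subgroups of order ≥ 9 is connected. -/
theorem result {P : Type*} [Group P] [Finite P] (hP : IsPGroup 3 P) (hrk : ¬ Cfsg.PRankLE 3 3 P) : Cfsg.IsKConnected 3 2 P := by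
  classical
  haveI : Fact (Nat.Prime 3) := ⟨Nat.prime_three⟩
  have hrk2 : ¬ Cfsg.PRankLE 3 2 P := fun h => hrk fun A hc hp => (h A hc hp).trans (by norm_num)
  obtain ⟨A, hAc, hAp, hA⟩ : ∃ A : Subgroup P, IsMulCommutative A ∧ (∀ a ∈ A, a ^ 3 = 1) ∧ 3 ^ 3 < Nat.card A := by
    unfold Cfsg.PRankLE at hrk
    push Not at hrk
    exact hrk
  obtain ⟨m, hm⟩ := (CfsgLib.Fusion.Thompson.isPGroup_isEA (⟨hAc, hAp⟩ : Cfsg.IsElementaryAbelian 3 A)).exists_card_eq
  rw [hm] at hA
  obtain ⟨A4, hA4⟩ := Sylow.exists_subgroup_card_pow_prime 3 (G := A) (n := 4)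
    (hm ▸ pow_dvd_pow 3 ((Nat.pow_lt_pow_iff_right (by norm_num)).1 hA))
  obtain ⟨W, hWn, hW, hWc⟩ := CfsgLib.Fusion.NormalRankFour.exists_normal (p := 3) (by norm_num) hP
    (A4.map A.subtype) (CfsgLib.Fusion.Thompson.isEA_le ⟨hAc, hAp⟩ (Subgroup.map_subtype_le A4))
    (by rw [Subgroup.card_map_of_injective A.subtype_injective, hA4])
  haveI := hWn
  obtain ⟨U, hUn, hU, hUc⟩ := Cfsg.Agent.S1337.exists_plane hP hrk2
  haveI := hUn
  have hWcomm := CfsgLib.Solvable.Basic.isMulCommutative_subgroup_iff.1 hW.1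
  have key : ∀ X : Subgroup P, Cfsg.IsElementaryAbelian 3 X → 3 ^ 2 ≤ Nat.card X →
      ¬ Cfsg.PRankLE 3 2 ↥(Subgroup.centralizer (X : Set P)) := by
    intro X hX hXc
    have hXcomm := CfsgLib.Solvable.Basic.isMulCommutative_subgroup_iff.1 hX.1
    have hXC : X ≤ Subgroup.centralizer (X : Set P) := fun x hx =>
      Subgroup.mem_centralizer_iff.2 fun a ha => hXcomm a ha x hx
    by_cases hX3 : 3 ^ 2 < Nat.card X
    · exact Cfsg.Agent.S1337.not_rankLE hXC hX hX3
    have hX2 : Nat.card X = 3 ^ 2 := le_antisymm (not_lt.1 hX3) hXc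
    by_contra hle
    have hsub : ∀ F : Subgroup P, F ≤ W → F ≤ Subgroup.centralizer (X : Set P) → F ≤ X := by
      intro F hFW hFX
      have hFea := CfsgLib.Fusion.Thompson.isEA_le hW hFW
      have hS := Cfsg.Agent.S1337.sup_ea hX hFea (fun a ha b hb => Subgroup.mem_centralizer_iff.1 (hFX hb) a ha)
      have hSc : Nat.card ↥(X ⊔ F) ≤ 3 ^ 2 := by
        by_contra h
        exact Cfsg.Agent.S1337.not_rankLE (sup_le hXC hFX) hS (not_le.1 h) hle
      exact le_sup_right.trans (Subgroup.eq_of_le_of_card_ge le_sup_left (hSc.trans hX2.ge)).ge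
    have hWX : ¬ W ≤ Subgroup.centralizer (X : Set P) := fun h => by
      have := Subgroup.card_le_of_le (hsub W le_rfl h)
      rw [hWc, hX2] at this
      norm_num at this
    obtain ⟨y, hy, w₀, hw₀, hyw⟩ : ∃ y ∈ X, ∃ w ∈ W, y * w ≠ w * y := by
      by_contra h
      push Not at h
      exact hWX fun w hw => Subgroup.mem_centralizer_iff.2 fun a ha => h a ha w hw
    have hnW : ∀ x : P, ∀ w ∈ W, x * w * x⁻¹ ∈ W := fun x w hw => hWn.conj_mem w hw x
    set F := W ⊓ Subgroup.centralizer {y} with hF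
    have hFc : 3 ^ 2 ≤ Nat.card F := card_fix_three hW hWc.ge (hX.2 y hy) (hnW y)
    by_cases hXW : X ⊓ W = ⊥
    · -- a common fixed point outside `X`
      obtain ⟨w, hw, hw1⟩ : ∃ w ∈ F, w ≠ 1 := by
        by_contra h
        push Not at h
        rw [(Subgroup.eq_bot_iff_forall F).2 h, Subgroup.card_bot] at hFc
        norm_num at hFc
      have hstep : ∀ x ∈ X, ∀ v ∈ F, ⁅x, v⁆ ∈ F := by
        intro x hx v hv
        refine Subgroup.mem_inf.2 ⟨mul_mem (hnW x v hv.1) (inv_mem hv.1), ?_⟩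
        have h1 := Subgroup.mem_centralizer_singleton_iff.1 hv.2
        exact mul_mem (mul_mem (mul_mem (Subgroup.mem_centralizer_singleton_iff.2 (hXcomm x hx y hy)) hv.2)
          (inv_mem (Subgroup.mem_centralizer_singleton_iff.2 (hXcomm x hx y hy)))) (inv_mem hv.2)
      have hfixall : ∀ v ∈ F, (∀ x ∈ X, x * v = v * x) → v = 1 := fun v hv h =>
        Subgroup.mem_bot.1 (hXW ▸ Subgroup.mem_inf.2 ⟨hsub (Subgroup.zpowers v) (Subgroup.zpowers_le.2 hv.1)
          (Subgroup.zpowers_le.2 (Subgroup.mem_centralizer_iff.2 h)) (Subgroup.mem_zpowers v), hv.1⟩)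
      obtain ⟨x, hx, hxy⟩ : ∃ x ∈ X, x ∉ Subgroup.zpowers y := by
        by_contra h
        push Not at h
        have := Subgroup.card_le_of_le (show X ≤ Subgroup.zpowers y from h)
        rw [hX2, Nat.card_zpowers] at this
        have h2 := Nat.le_of_dvd (by norm_num) (orderOf_dvd_of_pow_eq_one (hX.2 y hy))
        omega
      have hgenX : X = Subgroup.zpowers y ⊔ Subgroup.zpowers x := by
        refine (Subgroup.eq_of_le_of_card_ge (sup_le (Subgroup.zpowers_le.2 hy) (Subgroup.zpowers_le.2 hx)) ?_).symm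
        have hlt : Subgroup.zpowers y < Subgroup.zpowers y ⊔ Subgroup.zpowers x :=
          lt_of_le_of_ne le_sup_left fun h => hxy (h.symm ▸ Subgroup.mem_sup_right (Subgroup.mem_zpowers x))
        have h2 := CfsgLib.Fusion.NormalRankFour.mul_card_le_of_lt hP hlt
        rw [Nat.card_zpowers, orderOf_eq_prime (hX.2 y hy) (fun h => hyw (by rw [h, one_mul, mul_one]))] at h2
        rw [hX2]
        exact le_trans (by norm_num) h2
      have hfix2 : ∀ v ∈ F, ⁅x, v⁆ = 1 → v = 1 := fun v hv h => hfixall v hv fun x' hx' => by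
        have hle : X ≤ Subgroup.centralizer {v} := by
          rw [hgenX]
          exact sup_le (Subgroup.zpowers_le.2 (Subgroup.mem_centralizer_singleton_iff.2
              (Subgroup.mem_centralizer_singleton_iff.1 hv.2).symm))
            (Subgroup.zpowers_le.2 (Subgroup.mem_centralizer_singleton_iff.2
              (commutatorElement_eq_one_iff_mul_comm.1 h)))
        exact Subgroup.mem_centralizer_singleton_iff.1 (hle hx')
      exact hw1 (hfix2 w hw (hfix2 _ (hstep x hx w hw)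
        (hfix2 _ (hstep x hx _ (hstep x hx w hw)) (cube_zero hW (hX.2 x hx) (hnW x) hw.1))))
    · -- the part inside `W` is centralised
      obtain ⟨⟨e, he⟩, he1⟩ := Subgroup.ne_bot_iff_exists_ne_one.1 hXW
      replace he1 : e ≠ 1 := fun h => he1 (Subtype.ext h)
      have hye : y ∉ Subgroup.zpowers e := fun h => hyw (hWcomm y ((Subgroup.zpowers_le.2 he.2) h) w₀ hw₀)
      have hgenX : X = Subgroup.zpowers e ⊔ Subgroup.zpowers y := by
        refine (Subgroup.eq_of_le_of_card_ge (sup_le (Subgroup.zpowers_le.2 he.1) (Subgroup.zpowers_le.2 hy)) ?_).symm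
        have hlt : Subgroup.zpowers e < Subgroup.zpowers e ⊔ Subgroup.zpowers y :=
          lt_of_le_of_ne le_sup_left fun h => hye (h.symm ▸ Subgroup.mem_sup_right (Subgroup.mem_zpowers y))
        have h2 := CfsgLib.Fusion.NormalRankFour.mul_card_le_of_lt hP hlt
        rw [Nat.card_zpowers, orderOf_eq_prime (hX.2 e he.1) he1] at h2
        rw [hX2]
        exact le_trans (by norm_num) h2
      have hFX : F ≤ Subgroup.centralizer (X : Set P) := by
        intro v hv
        have hle : X ≤ Subgroup.centralizer {v} := by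
          rw [hgenX]
          exact sup_le (Subgroup.zpowers_le.2 (Subgroup.mem_centralizer_singleton_iff.2 (hWcomm e he.2 v hv.1)))
            (Subgroup.zpowers_le.2 (Subgroup.mem_centralizer_singleton_iff.2
              (Subgroup.mem_centralizer_singleton_iff.1 hv.2).symm))
        exact Subgroup.mem_centralizer_iff.2 fun a ha => Subgroup.mem_centralizer_singleton_iff.1 (hle ha)
      have hFX' := hsub F inf_le_left hFX
      have hFeq : F = X := Subgroup.eq_of_le_of_card_ge hFX' (hX2.le.trans hFc)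
      exact hyw (hWcomm y (hFeq.symm ▸ hy : y ∈ F).1 w₀ hw₀)
  intro E E' hE hEc hE' hE'c
  exact ((Cfsg.Agent.S1337.chain hP hU hUc hE hEc (key E hE hEc)).1).trans
    (Cfsg.Agent.S1337.chain hP hU hUc hE' hE'c (key E' hE' hE'c)).2

end Cfsg.Agent.S1338
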