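import Cfsg.Statements.S1339
import Cfsg.Agent.Lib.Classical.TransvectionCentralizerTwo
import Cfsg.Agent.Lib.KGroups.CharP

set_option autoImplicit false
open Cfsg

namespace Cfsg.Agent.S1339

/-- Let F be a field with 2 elements, n ≥ 3, and t ∈ SL(n, F) a transvection (t = 1 + E_{ij}, i ≠ j). Then the generalized Fitting subgroup of C(t) is O_2(C(t)). -/
theorem result {F : Type*} [Field F] [Fintype F] [DecidableEq F] (hF : Fintype.card F = 2) (n : ℕ) (hn : 3 ≤ n) (i j : Fin n) (hij : i ≠ j) (t : Matrix.SpecialLinearGroup (Fin n) F) (ht : (t : Matrix (Fin n) (Fin n) F) = Matrix.transvection i j 1) : Cfsg.generalizedFittingSubgroup ↥(Subgroup.centralizer ({t} : Set (Matrix.SpecialLinearGroup (Fin n) F))) = Cfsg.pCore 2 ↥(Subgroup.centralizer ({t} : Set (Matrix.SpecialLinearGroup (Fin n) F))) := by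
  haveI : Fact (Nat.Prime 2) := ⟨Nat.prime_two⟩
  have h2 := CfsgLib.Classical.TransvectionTwo.hasTwo_of_card hF
  refine CfsgLib.KGroups.CharP.generalizedFitting_eq_pCore ?_
  intro x hx
  have hc := CfsgLib.Classical.TransvectionTwo.pCore_cen h2 hij ht
  exact hc.symm ▸ CfsgLib.Classical.TransvectionTwo.mem_core_of_commute h2 hij ht
    fun q hq => Subgroup.mem_centralizer_iff.1 hx q (hc.symm ▸ hq)

end Cfsg.Agent.S1339
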