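import Cfsg.Statements.S1340
import Cfsg.Agent.Lib.Components.GLComponent

set_option autoImplicit false
open Cfsg

namespace Cfsg.Agent.S1340

/-- Let F be a finite field of odd order and n ≥ 3 with (n, |F|) ≠ (3, 3). Then GL(n, F) has a non-central involution t such that C(t) / O(C(t)) has a component. -/
theorem result {F : Type*} [Field F] [Fintype F] [DecidableEq F] (hF : Odd (Fintype.card F)) (n : ℕ) (hn : 3 ≤ n) (h33 : ¬ (n = 3 ∧ Fintype.card F = 3)) : ∃ t : Matrix.GeneralLinearGroup (Fin n) F, orderOf t = 2 ∧ t ∉ Subgroup.center (Matrix.GeneralLinearGroup (Fin n) F) ∧ Cfsg.HasComponent (↥(Subgroup.centralizer ({t} : Set (Matrix.GeneralLinearGroup (Fin n) F))) ⧸ Cfsg.oddCore ↥(Subgroup.centralizer ({t} : Set (Matrix.GeneralLinearGroup (Fin n) F)))) := by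
  obtain ⟨k, rfl⟩ : ∃ k, n = k + 1 := ⟨n - 1, by omega⟩
  have h2 : (-1 : F) ≠ 1 := by
    have hc : ringChar F ≠ 2 := fun h => by
      have := FiniteField.even_card_of_char_two h
      obtain ⟨m, hm⟩ := hF
      omega
    exact Ring.neg_one_ne_one_of_char_ne_two hc
  have hk : 2 ≤ k := by omega
  have hq : k = 2 → 4 ≤ Fintype.card F := fun e => by
    have h1 := Fintype.one_lt_card (α := F)
    obtain ⟨m, hm⟩ := hF
    omega
  haveI : Fact (Nat.Prime 2) := ⟨Nat.prime_two⟩
  open CfsgLib.Components in
  refine ⟨GLComponent.invol k, orderOf_eq_prime ?_ ?_, ?_, ?_⟩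
  · rw [pow_two]
    exact Units.ext (GLComponent.invol (F := F) k).val_inv
  · intro he
    have := congrArg (fun g : Matrix.GeneralLinearGroup (Fin (k + 1)) F =>
      (g : Matrix (Fin (k + 1)) (Fin (k + 1)) F) 0 0) he
    simp [CfsgLib.Components.GLComponent.invol] at this
    exact h2 this
  · intro hc
    let a : Fin (k + 1) := ⟨0, by omega⟩
    let b : Fin (k + 1) := ⟨1, by omega⟩
    have hab : a ≠ b := by simp [a, b]
    have h := Subgroup.mem_center_iff.mp hc
      (Matrix.SpecialLinearGroup.toGL (Matrix.SpecialLinearGroup.transvection hab (1 : F)))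
    have h' := congrArg (fun g : Matrix.GeneralLinearGroup (Fin (k + 1)) F =>
      (g : Matrix (Fin (k + 1)) (Fin (k + 1)) F) a b) h
    simp [CfsgLib.Components.GLComponent.invol, Matrix.SpecialLinearGroup.transvection_coe,
      Matrix.transvection, Matrix.single_apply, Matrix.one_apply, a, b] at h'
    first | exact h2 h'.symm | exact h2 h'
  · set C := Subgroup.centralizer
      ({CfsgLib.Components.GLComponent.invol k} : Set (Matrix.GeneralLinearGroup (Fin (k + 1)) F))
    let j : Matrix.SpecialLinearGroup (Fin k) F →* ↥C :=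
      (CfsgLib.Components.GLComponent.corner k).codRestrict C
        (CfsgLib.Components.GLComponent.corner_mem h2)
    have hj : Function.Injective j := fun x y h =>
      CfsgLib.Components.GLComponent.corner_injective (congrArg Subtype.val h)
    have e : j.range = (CfsgLib.Components.GLComponent.corner (F := F) k).range.subgroupOf C := by
      ext x
      exact ⟨fun ⟨y, hy⟩ => ⟨y, congrArg Subtype.val hy⟩, fun ⟨y, hy⟩ => ⟨y, Subtype.ext hy⟩⟩
    have hn : j.range.Normal := e ▸ CfsgLib.Components.GLComponent.range_normal h2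
    have hK : Cfsg.IsComponent j.range := ⟨Subgroup.Normal.isSubnormal hn,
      CfsgLib.Components.IsQuasisimple.of_mulEquiv
        (CfsgLib.Components.GLComponent.sl_isQuasisimple hk hq) (MonoidHom.ofInjective hj)⟩
    have hne : j.range.map (QuotientGroup.mk' (Cfsg.oddCore ↥C)) ≠ ⊥ := by
      rw [Ne, Subgroup.map_eq_bot_iff, QuotientGroup.ker_mk']
      intro hle
      have h3 := (CfsgLib.Solvable.Cores.coprime_card_pPrimeCore (G := ↥C) 2).coprime_dvd_left
        (Subgroup.card_dvd_of_le hle)
      rw [← Nat.card_congr (MonoidHom.ofInjective hj).toEquiv] at h3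
      exact Nat.not_coprime_of_dvd_of_dvd one_lt_two
        (CfsgLib.Components.GLComponent.two_dvd_card h2 hk) dvd_rfl h3
    exact ⟨_, CfsgLib.Components.IsComponent.map hK (QuotientGroup.mk'_surjective _) hne⟩

end Cfsg.Agent.S1340
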