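import Cfsg.Statements.S1343
import Cfsg.Agent.Lib.Components.ExtendedLayer
import Cfsg.Agent.Lib.Components.Signalizer.Basic
-- import your own Cfsg.Agent.* helpers here

set_option autoImplicit false
open Cfsg

namespace Cfsg.Agent.S1343

/-- Let X be finite. Then L*_{2'}(X) = L_{2'}(X) ⊔ F for some subgroup F of odd order normalized by a Sylow 2-subgroup of X. -/
theorem result {X : Type*} [Group X] [Finite X] : ∃ F : Subgroup X, Odd (Nat.card ↥F) ∧ (∃ S : Sylow 2 X, (S : Subgroup X) ≤ Subgroup.normalizer (F : Set X)) ∧ Cfsg.extendedTwoLayer X = Cfsg.pLayer 2 X ⊔ F := by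
  obtain ⟨S⟩ : Nonempty (Sylow 2 X) := inferInstance
  set U := CfsgLib.Components.ExtendedLayer.bigU 2 X with hU
  haveI hUn : U.Normal := CfsgLib.Components.ExtendedLayer.bigU_normal
  set T0 := ((S : Subgroup X) ⊓ U).subgroupOf U with hT0
  have hT0p : IsPGroup 2 T0 :=
    (S.isPGroup'.to_le inf_le_left).comap_of_injective U.subtype U.subtype_injective
  obtain ⟨T, hT⟩ := hT0p.exists_le_sylow
  obtain ⟨S', hS'⟩ := (T.isPGroup'.map U.subtype).exists_le_sylow
  have hTeq : CfsgLib.Components.ExtendedLayer.sylowSub T = (S' : Subgroup X) ⊓ U := by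
    refine le_antisymm (le_inf hS' (Subgroup.map_subtype_le _)) fun x hx => ?_
    have hp' : IsPGroup 2 (((S' : Subgroup X) ⊓ U).subgroupOf U) :=
      (S'.isPGroup'.to_le inf_le_left).comap_of_injective U.subtype U.subtype_injective
    have h := T.is_maximal' hp' (fun t ht => ⟨hS' ⟨t, ht, rfl⟩, t.2⟩)
    exact ⟨⟨x, hx.2⟩, h ▸ (show (⟨x, hx.2⟩ : U) ∈ ((S' : Subgroup X) ⊓ U).subgroupOf U from hx), rfl⟩
  refine ⟨Cfsg.oddCore X ⊔ CfsgLib.Components.ExtendedLayer.part 2 (CfsgLib.Components.ExtendedLayer.sylowSub T), ?_, ⟨S', ?_⟩, ?_⟩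
  · have hcop : Nat.Coprime (Nat.card ↥(Cfsg.oddCore X ⊔ CfsgLib.Components.ExtendedLayer.part 2 (CfsgLib.Components.ExtendedLayer.sylowSub T))) 2 := by
      refine Nat.Coprime.coprime_dvd_left
        (CfsgLib.Components.Signalizer.card_sup_dvd_mul
          (by rw [Subgroup.normalizer_eq_top]; exact le_top)) ?_
      refine Nat.Coprime.mul_left (CfsgLib.Solvable.Cores.coprime_card_pPrimeCore 2) ?_
      rw [Subgroup.card_map_of_injective (Subgroup.subtype_injective _)]
      exact CfsgLib.Solvable.Cores.coprime_card_pPrimeCore 2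
    exact Nat.Coprime.symm hcop |> Nat.coprime_two_left.mp
  · intro s hs
    rw [CfsgLib.Components.mem_normalizer_iff_map_conj_eq, Subgroup.map_sup,
      CfsgLib.Components.mem_normalizer_iff_map_conj_eq.mp
        ((Subgroup.normalizer_eq_top (H := Cfsg.oddCore X)).symm ▸ Subgroup.mem_top s),
      CfsgLib.Components.mem_normalizer_iff_map_conj_eq.mp]
    refine CfsgLib.Components.ExtendedLayer.normalizer_le_normalizer_part _ ?_
    rw [hTeq]
    exact Subgroup.inf_normalizer_le_normalizer_inf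
      ⟨Subgroup.le_normalizer hs, (Subgroup.normalizer_eq_top (H := U)).symm ▸ Subgroup.mem_top s⟩
  · rw [← sup_assoc]
    exact CfsgLib.Components.ExtendedLayer.extLayer_eq T

end Cfsg.Agent.S1343
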