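import Cfsg.Statements.S1346
import Cfsg.Agent.Lib.Components.ExtendedBalance

set_option autoImplicit false
open Cfsg

namespace Cfsg.Agent.S1346

/-- Let G be a finite group all of whose 2-local subgroups have known non-abelian composition factors, and x, y commuting involutions. Then the extended 2-layer of L*_{2'}(C_G(x)) ∩ C_G(y) (as a group) is contained in L*_{2'}(C_G(y)). -/
theorem result {G : Type*} [Group G] [Finite G] (hK : ∀ T : Subgroup G, IsPGroup 2 ↥T → T ≠ ⊥ → Cfsg.IsCompositionKGroup ↥(Subgroup.normalizer (T : Set G))) (x y : G) (hx : orderOf x = 2) (hy : orderOf y = 2) (hxy : x * y = y * x) : (Cfsg.extendedTwoLayer ↥((Cfsg.extendedTwoLayer ↥(Subgroup.centralizer ({x} : Set G))).map (Subgroup.centralizer ({x} : Set G)).subtype ⊓ Subgroup.centralizer ({y} : Set G))).map ((Cfsg.extendedTwoLayer ↥(Subgroup.centralizer ({x} : Set G))).map (Subgroup.centralizer ({x} : Set G)).subtype ⊓ Subgroup.centralizer ({y} : Set G)).subtype ≤ (Cfsg.extendedTwoLayer ↥(Subgroup.centralizer ({y} : Set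 G))).map (Subgroup.centralizer ({y} : Set G)).subtype := by
  haveI : Fact (Nat.Prime 2) := ⟨Nat.prime_two⟩
  set Cx := Subgroup.centralizer ({x} : Set G) with hCx
  set Cy := Subgroup.centralizer ({y} : Set G) with hCy
  set W := (Cfsg.extendedTwoLayer ↥Cx).map Cx.subtype ⊓ Cy with hW
  haveI : (Cfsg.extendedTwoLayer ↥Cx).Normal :=
    CfsgLib.Components.ExtendedLayer.extLayer_normal
  have hxy' : x ∈ Cy := Subgroup.mem_centralizer_singleton_iff.mpr hxy
  let x' : Cy := ⟨x, hxy'⟩
  have hR : IsPGroup 2 ↥(Subgroup.zpowers x') := IsPGroup.of_card (n := 1) (by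
    rw [Nat.card_zpowers, ← Subgroup.orderOf_coe, pow_one]; exact hx)
  have h := CfsgLib.Components.ExtendedBalance.map_extLayer_le (H := ↥W)
    (Subgroup.inclusion (inf_le_right : W ≤ Cy)) (Subgroup.inclusion_injective _) hR ?_ ?_
  · rintro _ ⟨w, hw, rfl⟩
    exact ⟨_, h ⟨w, hw, rfl⟩, rfl⟩
  · rw [Subgroup.inclusion_range, Subgroup.zpowers_eq_closure, Subgroup.centralizer_closure]
    intro c hc
    rw [Subgroup.mem_centralizer_singleton_iff]
    exact Subtype.ext (Subgroup.mem_centralizer_singleton_iff.mp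
      (Subgroup.map_subtype_le _ (Subgroup.mem_subgroupOf.mp hc).1))
  · rw [Subgroup.inclusion_range, Subgroup.zpowers_eq_closure, Subgroup.centralizer_closure]
    intro g hg
    have hgx : (g : G) ∈ Cx := Subgroup.mem_centralizer_singleton_iff.mpr
      (congrArg Subtype.val (Subgroup.mem_centralizer_singleton_iff.mp hg))
    have h1 : (g : G) ∈ Subgroup.normalizer ((Cfsg.extendedTwoLayer ↥Cx).map Cx.subtype : Set G) :=
      Subgroup.le_normalizer_map Cx.subtype
        ⟨⟨g, hgx⟩, by rw [Subgroup.normalizer_eq_top]; exact Subgroup.mem_top _, rfl⟩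
    exact Subgroup.le_normalizer_comap Cy.subtype (Subgroup.mem_comap.mpr
      (Subgroup.mem_normalizer_iff.mpr fun c => and_congr (Subgroup.mem_normalizer_iff.mp h1 c)
          (Subgroup.mem_normalizer_iff.mp (Subgroup.le_normalizer g.2) c)))

end Cfsg.Agent.S1346
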