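import Cfsg.Statements.S1348
import Cfsg.Agent.Lib.Components.SLStandard

set_option autoImplicit false
open Cfsg

namespace Cfsg.Agent.S1348

/-- Let F be a finite field of odd order, n ≥ 7 odd, and t ∈ SL(n, F) the diagonal matrix with entries −1, …, −1, 1. Then E(C(t)) is a standard subgroup of SL(n, F). -/
theorem result {F : Type*} [Field F] [Fintype F] [DecidableEq F] (hF : Odd (Fintype.card F)) (n : ℕ) (hn : 7 ≤ n) (hodd : Odd n) (t : Matrix.SpecialLinearGroup (Fin n) F) (ht : (t : Matrix (Fin n) (Fin n) F) = Matrix.diagonal (fun i : Fin n => if (i : ℕ) + 1 = n then (1 : F) else -1)) : Cfsg.IsStandardSubgroup ((Cfsg.layer ↥(Subgroup.centralizer ({t} : Set (Matrix.SpecialLinearGroup (Fin n) F)))).map (Subgroup.centralizer ({t} : Set (Matrix.SpecialLinearGroup (Fin n) F))).subtype) := by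
  obtain ⟨k, rfl⟩ : ∃ k, n = k + 1 := ⟨n - 1, by omega⟩
  have h2 : (-1 : F) ≠ 1 := by
    have hc : ringChar F ≠ 2 := fun h => by
      have := FiniteField.even_card_of_char_two h
      obtain ⟨m, hm⟩ := hF
      omega
    exact Ring.neg_one_ne_one_of_char_ne_two hc
  have hk : Even k := by
    obtain ⟨m, hm⟩ := hodd
    exact ⟨m, by omega⟩
  have ht' : (t : Matrix (Fin (k + 1)) (Fin (k + 1)) F) =
      Matrix.diagonal (CfsgLib.Components.SLStandard.sgn k) := by
    rw [ht]
    congr 1
    funext i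
    simp [CfsgLib.Components.SLStandard.sgn, Fin.ext_iff]
  obtain ⟨h1, h3⟩ := CfsgLib.Components.SLStandard.isStandard ht' h2 (by omega) hk (by omega)
  rw [h1]
  exact h3

end Cfsg.Agent.S1348
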