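import Cfsg.Statements.S1358
import Cfsg.Agent.Lib.OddOrder.SigmaDecomp

set_option autoImplicit false
open Cfsg

namespace Cfsg.Agent.S1358

/-- Let G be a minimal simple group of odd order and M a maximal subgroup with standard factorisation M = K U M_σ. Then for every prime p, every Sylow p-subgroup of U is abelian and has no elementary abelian subgroup of order p ^ 3. -/
theorem result {G : Type*} [Group G] [Finite G] (hG : Cfsg.IsMinSimpleOddOrder G)
    (M : Subgroup G) (hM : IsCoatom M) (K U : Subgroup G) (hKU : Cfsg.IsSigmaDecomposition M K U) :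
    ∀ (p : ℕ), p.Prime → ∀ P : Sylow p U, IsMulCommutative (P : Subgroup U) ∧ Cfsg.PRankLE p 2 (P : Subgroup U) := by
  open CfsgLib.OddOrder in
  intro p hp P
  haveI := Fact.mk hp
  have hU := SigmaDecomp.U_hall hG hM hKU
  set Q := (P : Subgroup U).map U.subtype with hQ
  have hQU : Q ≤ U := Subgroup.map_subtype_le _
  have hQp : IsPGroup p Q := P.isPGroup'.map U.subtype
  have hcomm : IsMulCommutative Q := SigmaDecomp.abelian_of_nilpotent hG hM (hQU.trans hU.1) hQp.isNilpotent
    fun t ht hd => (hU.2.1 t ht (hd.trans (Subgroup.card_dvd_of_le hQU))).2.2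
  refine ⟨⟨⟨fun a b => Subtype.ext (Subtype.ext ?_)⟩⟩, ?_⟩
  · simpa using congrArg Subtype.val (hcomm.is_comm.comm (⟨(a : U), Subgroup.mem_map_of_mem _ a.2⟩ : Q)
      ⟨(b : U), Subgroup.mem_map_of_mem _ b.2⟩)
  by_cases hdvd : p ∣ Nat.card U
  · have hr : Cfsg.PRankLE p 2 M := by
      by_contra hr
      exact (hU.2.1 p hp hdvd).2.2 (SigmaBasics.mem_sigma_of_alpha hG hM ⟨hp, hr⟩)
    intro A hA hAp
    set φ : (P : Subgroup U) →* M := (Subgroup.inclusion hU.1).comp (P : Subgroup U).subtype with hφ
    have hinj : Function.Injective φ := (Subgroup.inclusion_injective hU.1).comp Subtype.val_injective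
    rw [← Subgroup.card_map_of_injective hinj (K := A)]
    haveI := hA
    refine hr (A.map φ) inferInstance ?_
    rintro _ ⟨a, ha, rfl⟩
    rw [← map_pow, hAp a ha, map_one]
  · intro A _ _
    have h1 : ¬ p ∣ Nat.card A := fun h => hdvd (h.trans (A.card_subgroup_dvd_card.trans (P : Subgroup U).card_subgroup_dvd_card))
    obtain ⟨n, hn⟩ := IsPGroup.iff_card.mp (P.isPGroup'.to_subgroup A)
    rw [hn] at h1 ⊢
    rcases Nat.eq_zero_or_pos n with rfl | hpos
    · rw [pow_zero]; exact Nat.one_le_pow _ _ hp.pos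
    · exact absurd (dvd_pow_self p hpos.ne') h1

end Cfsg.Agent.S1358
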