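import Cfsg.Statements.S1374
import Cfsg.Agent.Lib.OddOrder.SigmaCentralizer

set_option autoImplicit false
open Cfsg

namespace Cfsg.Agent.S1374

/-- Let G be a minimal simple group of odd order, M a maximal subgroup and x a non-identity element of M_σ. Then C_M(x) has order coprime to its index in C_G(x), and C_G(x) has a normal subgroup R complementing C_M(x) such that for every conjugate gMg⁻¹ containing x there is exactly one r ∈ R with rMr⁻¹ = gMg⁻¹. -/
theorem result {G : Type*} [Group G] [Finite G] (hG : Cfsg.IsMinSimpleOddOrder G)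
    (M : Subgroup G) (hM : IsCoatom M) (x : G) (hx : x ∈ Cfsg.sigmaCore M) (hx1 : x ≠ 1) :
    (Nat.card ↥(M ⊓ Subgroup.centralizer ({x} : Set G))).Coprime ((M ⊓ Subgroup.centralizer ({x} : Set G)).relIndex (Subgroup.centralizer ({x} : Set G))) ∧
      ∃ R : Subgroup G, Subgroup.centralizer ({x} : Set G) ≤ Subgroup.normalizer (R : Set G) ∧ Cfsg.IsComplIn (M ⊓ Subgroup.centralizer ({x} : Set G)) R (Subgroup.centralizer ({x} : Set G)) ∧
        ∀ g : G, x ∈ M.map (MulAut.conj g).toMonoidHom → ∃! r : G, r ∈ R ∧ M.map (MulAut.conj r).toMonoidHom = M.map (MulAut.conj g).toMonoidHom := by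
  classical
  open CfsgLib.OddOrder in
  by_cases hxM : Subgroup.centralizer ({x} : Set G) ≤ M
  · have he : M ⊓ Subgroup.centralizer ({x} : Set G) = Subgroup.centralizer ({x} : Set G) := inf_eq_right.mpr hxM
    rw [he, Subgroup.relIndex_self]
    refine ⟨Nat.coprime_one_right _, ⊥, ?_, ⟨le_rfl, bot_le, inf_bot_eq _, fun m hm => ⟨m, hm, 1, one_mem _, (mul_one m).symm⟩⟩,
      fun g hg => ?_⟩
    · rw [Subgroup.normalizer_eq_top (H := (⊥ : Subgroup G))]; exact le_top
    obtain ⟨b, hb, e⟩ := SigmaCentralizer.exists_centralizer_conj hG hM hx hx1 hg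
    have h1 : SigmaFusion.cj b M = SigmaFusion.cj (1 : G) M := by
      rw [SigmaFusion.cj_one, SigmaFusion.cj_eq_self (Subgroup.le_normalizer (hxM hb))]
    exact ⟨1, ⟨one_mem _, (h1.symm.trans e)⟩, fun y hy => Subgroup.mem_bot.mp hy.1⟩
  obtain ⟨N, h⟩ := SigmaCentralizer.exists_over hG hM hx hx1 hxM
  have hc := h.compl_centralizer
  refine ⟨?_, Cfsg.sigmaCore N ⊓ Subgroup.centralizer ({x} : Set G), h.le_normalizer, hc, fun g hg => ?_⟩
  · rw [Basic.IsComplIn.relIndex_left hc]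
    refine Nat.coprime_of_dvd fun t ht h1 h2 => ?_
    haveI := Fact.mk ht
    exact SigmaComplement.not_dvd_card hG h.coatom h.compl
      (SigmaTools.mem_sigma_of_card (h2.trans (Subgroup.card_dvd_of_le inf_le_left)))
      (h1.trans (Subgroup.card_dvd_of_le (le_inf inf_le_left (inf_le_right.trans h.le))))
  obtain ⟨b, hb, e⟩ := SigmaCentralizer.exists_centralizer_conj hG hM hx hx1 hg
  obtain ⟨a, ha, r, hr, hbar⟩ := hc.2.2.2 b⁻¹ (inv_mem hb)
  refine ⟨r⁻¹, ⟨inv_mem hr, ?_⟩, fun y hy => ?_⟩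
  · refine Eq.trans ?_ e
    show SigmaFusion.cj r⁻¹ M = SigmaFusion.cj b M
    rw [show b = r⁻¹ * a⁻¹ by rw [← inv_inv b, hbar, mul_inv_rev], ← SigmaFusion.cj_cj,
      SigmaFusion.cj_eq_self (Subgroup.le_normalizer (inv_mem ha.1))]
  · have h1 : SigmaFusion.cj y M = SigmaFusion.cj b M := hy.2.trans e.symm
    rw [show b = r⁻¹ * a⁻¹ by rw [← inv_inv b, hbar, mul_inv_rev], ← SigmaFusion.cj_cj,
      SigmaFusion.cj_eq_self (Subgroup.le_normalizer (inv_mem ha.1))] at h1
    have h2 : SigmaFusion.cj (r * y) M = M := by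
      rw [← SigmaFusion.cj_cj, h1, SigmaFusion.cj_cj, mul_inv_cancel, SigmaFusion.cj_one]
    have h3 : r * y ∈ Subgroup.normalizer (M : Set G) := Subgroup.mem_normalizer_iff_map_conj_eq.mpr h2
    rw [SigmaFusion.normalizer_eq_self hG.2 hM (SigmaCore.coatom_ne_bot hG hM)] at h3
    have h4 : r * y ∈ Cfsg.sigmaCore N ⊓ M := ⟨mul_mem hr.1 hy.1.1, h3⟩
    rw [h.bot, Subgroup.mem_bot] at h4
    exact eq_inv_of_mul_eq_one_right h4

end Cfsg.Agent.S1374
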