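import Cfsg.Statements.S1385
import Cfsg.Agent.Lib.OddOrder.TypeOneClass
import Cfsg.Agent.S1369
import Cfsg.Agent.S1381
import Cfsg.Agent.S1382
import Cfsg.Agent.S1383

set_option autoImplicit false
open Cfsg

namespace Cfsg.Agent.S1385

/-- Let G be a minimal simple group of odd order. Then either every maximal subgroup of G is of Type I, or there are nontrivial subgroups W₁, W₂ generating a cyclic group W that is the normalizer of every nonempty subset of W outside W₁ ∪ W₂, and maximal subgroups S, T with W₁ a complement to S' in S, W₂ a complement to T' in T, S ∩ T = W, S or T of Type II, each of S, T of Type II, III, IV or V, and every maximal subgroup of G of Type I or conjugate to S or to T. -/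
theorem result {G : Type*} [Group G] [Finite G] (hG : Cfsg.IsMinSimpleOddOrder G) :
    (∀ M : Subgroup G, IsCoatom M → Cfsg.IsOfTypeI M) ∨
      ∃ W₁ W₂ S T : Subgroup G, Cfsg.IsSelfNormalizingCyclic W₁ W₂ ∧ IsCoatom S ∧ IsCoatom T ∧
        Cfsg.IsComplIn ⁅S, S⁆ W₁ S ∧ Cfsg.IsComplIn ⁅T, T⁆ W₂ T ∧ S ⊓ T = W₁ ⊔ W₂ ∧
        (Cfsg.IsOfTypeII S ∨ Cfsg.IsOfTypeII T) ∧
        (Cfsg.IsOfTypeII S ∨ Cfsg.IsOfTypeIII S ∨ Cfsg.IsOfTypeIV S ∨ Cfsg.IsOfTypeV S) ∧
        (Cfsg.IsOfTypeII T ∨ Cfsg.IsOfTypeIII T ∨ Cfsg.IsOfTypeIV T ∨ Cfsg.IsOfTypeV T) ∧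
        ∀ M : Subgroup G, IsCoatom M → Cfsg.IsOfTypeI M ∨ ∃ g : G, M = S.map (MulAut.conj g).toMonoidHom ∨ M = T.map (MulAut.conj g).toMonoidHom := by
  by_cases hall : ∀ M : Subgroup G, IsCoatom M → Cfsg.IsOfTypeI M
  · exact Or.inl hall
  right
  push Not at hall
  obtain ⟨S, hS, hnI⟩ := hall
  open CfsgLib.OddOrder in
  obtain ⟨K, U, h⟩ := FittingStructure.exists_decomp hG hS
  open CfsgLib.OddOrder in
  have hK : K ≠ ⊥ := fun e => hnI (TypeOneClass.typeI_of hG hS h e)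
  open CfsgLib.OddOrder in
  obtain ⟨T, hp, -⟩ := StarPair.exists_pair hG (M := S) (K := K) ⟨hS, hK, h.hall⟩
  open CfsgLib.OddOrder in
  obtain ⟨V, h'⟩ := SigmaDecomp.exists_decomp hG hp.right.coatom (StarPair.Pair.cyclic hG hp.symm) hp.right.hall
  have hK' := hp.right.ne
  open CfsgLib.OddOrder in
  have htype : ∀ (M K U : Subgroup G), IsCoatom M → Cfsg.IsSigmaDecomposition M K U → K ≠ ⊥ →
      Cfsg.IsOfTypeII M ∨ Cfsg.IsOfTypeIII M ∨ Cfsg.IsOfTypeIV M ∨ Cfsg.IsOfTypeV M := by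
    intro M K U hM h hK
    by_cases hU : U = ⊥
    · by_cases hF : Cfsg.fittingHallOf M = Cfsg.sigmaCore M
      · exact Or.inr (Or.inr (Or.inr ((Cfsg.Agent.S1383.result hG M hM K U h).mpr ⟨hK, hU, hF⟩)))
      · exact Or.inr (((Cfsg.Agent.S1382.result hG M hM K U h).mpr ⟨hK, hU, hF⟩).elim Or.inl fun h => Or.inr (Or.inl h))
    · exact Or.inl ((Cfsg.Agent.S1381.result hG M hM K U h).mpr ⟨hK, hU⟩)
  open CfsgLib.OddOrder in
  obtain ⟨hU, hconj⟩ := Cfsg.Agent.S1369.result hG S hS K U h hK T hp.right.coatom hp.eq.symm hp.right.hall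
  open CfsgLib.OddOrder in
  refine ⟨K, StarPartner.Dstar S K, S, T, TypeP.selfNormalizing hG hS h hK, hS, hp.right.coatom,
    TypeP.compl_K hG hS h hK, TypeP.compl_K hG hp.right.coatom h' hK', StarPair.Pair.inf_eq hG hp, ?_,
    htype S K U hS h hK, htype T _ V hp.right.coatom h' hK', fun M hM => ?_⟩
  · rcases hU with hU | hU
    · exact Or.inl ((Cfsg.Agent.S1381.result hG S hS K U h).mpr ⟨hK, hU⟩)
    · exact Or.inr ((Cfsg.Agent.S1381.result hG T hp.right.coatom _ V h').mpr ⟨hK', hU V h'⟩)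
  · by_cases hκ : Cfsg.kappa M = ∅
    · open CfsgLib.OddOrder in
      exact Or.inl (TypeOneClass.typeI_of_empty hG hM hκ)
    · exact Or.inr (hconj M hM (Set.nonempty_iff_ne_empty.mpr hκ))

end Cfsg.Agent.S1385
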