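import Cfsg.Statements.S1390
import Cfsg.Agent.Lib.OddOrder.DecompConj
import Cfsg.Agent.S1358
import Cfsg.Agent.S1361
import Cfsg.Agent.S1362
import Cfsg.Agent.S1381
import Cfsg.Agent.S1382

set_option autoImplicit false
open Cfsg

namespace Cfsg.Agent.S1390

/-- Let G be a minimal simple group of odd order, M a maximal subgroup and H = M_F; suppose M is of Type I and U is a complement to H in M, or M is of Type II and U is a complement to H in M'. Then every Sylow subgroup of U is abelian with no elementary abelian subgroup of order p ^ 3; for every nonempty set X of non-identity elements of U centralizing a non-identity element of H, C_G(X) ≤ M and M is the unique maximal subgroup containing C_G(X); and A(M) with A₁(M) removed is a TI-subset of G. -/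
theorem result {G : Type*} [Group G] [Finite G] (hG : Cfsg.IsMinSimpleOddOrder G)
    (M : Subgroup G) (hM : IsCoatom M) (U : Subgroup G)
    (hU : (Cfsg.IsOfTypeI M ∧ Cfsg.IsComplIn (Cfsg.fittingHallOf M) U M) ∨ (Cfsg.IsOfTypeII M ∧ Cfsg.IsComplIn (Cfsg.fittingHallOf M) U ⁅M, M⁆)) :
    (∀ (p : ℕ), p.Prime → ∀ P : Sylow p U, IsMulCommutative (P : Subgroup U) ∧ Cfsg.PRankLE p 2 (P : Subgroup U)) ∧
      (∀ X : Set G, X ⊆ (U : Set G) \ {1} → X.Nonempty → Cfsg.fittingHallOf M ⊓ Subgroup.centralizer X ≠ ⊥ →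
        Subgroup.centralizer X ≤ M ∧ ∀ L : Subgroup G, IsCoatom L → Subgroup.centralizer X ≤ L → L = M) ∧
      Cfsg.IsTISubset (Cfsg.typeA M \ Cfsg.typeA1 M) := by
  open CfsgLib.OddOrder in
  obtain ⟨K, U₀, hKU⟩ := FittingStructure.exists_decomp hG hM
  open CfsgLib.OddOrder in
  obtain ⟨K₁, hd, hFH, hA⟩ : ∃ K₁ : Subgroup G, Cfsg.IsSigmaDecomposition M K₁ U ∧
      Cfsg.fittingHallOf M = Cfsg.sigmaCore M ∧
      Cfsg.typeA M \ Cfsg.typeA1 M = Cfsg.sigmaA M U \ (Cfsg.sigmaCore M : Set G) := by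
    rcases hU with ⟨hI, hc⟩ | ⟨hII, hc⟩
    · open CfsgLib.OddOrder in
      have hK := TypeF.kappa_of_typeF hG hM hKU hI.1
      open CfsgLib.OddOrder in
      have hFH := TypeP.fittingHall_eq hG hM (by_contra fun hn => (CoreStructure.not_nilpotent hG hM hKU hn).2 hK)
      rw [hFH] at hc
      open CfsgLib.OddOrder in
      have hd₀ : Cfsg.IsComplIn (Cfsg.sigmaCore M) U₀ M := by
        have h0 := SigmaDecomp.U_compl_of_bot hG hM hKU hK
        refine ⟨h0.2.1, h0.1, inf_comm (Cfsg.sigmaCore M) U₀ ▸ h0.2.2.1, fun m hm => ?_⟩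
        obtain ⟨u, hu, s, hs, rfl⟩ := h0.2.2.2 m hm
        exact ⟨u * s * u⁻¹, (Subgroup.mem_normalizer_iff.mp
          (SigmaTools.le_normalizer_sigmaCore M (h0.1 hu)) s).mp hs, u, hu, by group⟩
      open CfsgLib.OddOrder in
      obtain ⟨g, hg, hd⟩ := DecompConj.exists_decomp hG hM hKU le_rfl hd₀ hc
      refine ⟨_, hd, hFH, ?_⟩
      have hnot : ¬ (Cfsg.IsOfTypeIII M ∨ Cfsg.IsOfTypeIV M) := fun h34 =>
        ((Cfsg.Agent.S1382.result hG M hM K U₀ hKU).mp h34).1 hK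
      have hsup : U ⊔ Cfsg.sigmaCore M = M := by
        open CfsgLib.OddOrder in
        rw [sup_comm]; exact (Basic.IsComplIn.eq_sup hc).symm
      unfold Cfsg.typeA Cfsg.typeA1 Cfsg.typeCore Cfsg.sigmaA Cfsg.sigmaHat
      rw [if_pos hI, if_neg hnot, hFH, hsup]
      ext a
      simp only [Set.mem_diff, Set.mem_setOf_eq, Set.mem_inter_iff, SetLike.mem_coe, Set.mem_singleton_iff]
      refine ⟨fun ⟨⟨haM, ha1, x, hx, hx1, hax⟩, hn⟩ => ⟨⟨⟨haM, x, hx, hx1, hax⟩, haM⟩, fun h => hn ⟨h, ha1⟩⟩,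
        fun ⟨⟨⟨haM, x, hx, hx1, hax⟩, _⟩, hn⟩ => ?_⟩
      exact ⟨⟨haM, fun e => hn (e ▸ one_mem _), x, hx, hx1, hax⟩, fun h => hn h.1⟩
    · open CfsgLib.OddOrder in
      obtain ⟨hK, hU₀⟩ := (Cfsg.Agent.S1381.result hG M hM K U₀ hKU).mp hII
      open CfsgLib.OddOrder in
      have hFH := TypeP.fittingHall_eq hG hM (TypeP.nilpotent_of_U hG hM hKU hU₀)
      rw [hFH] at hc
      open CfsgLib.OddOrder in
      obtain ⟨g, hg, hd⟩ := DecompConj.exists_decomp hG hM hKU (SigmaComplement.derived_le_self M)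
        (TypeP.derived_compl hG hM hKU hK) hc
      refine ⟨_, hd, hFH, ?_⟩
      have hnot : ¬ (Cfsg.IsOfTypeIII M ∨ Cfsg.IsOfTypeIV M) := fun h34 =>
        hU₀ ((Cfsg.Agent.S1382.result hG M hM K U₀ hKU).mp h34).2.1
      open CfsgLib.OddOrder in
      have hnI : ¬ Cfsg.IsOfTypeI M := fun hI => hK (TypeF.kappa_of_typeF hG hM hKU hI.1)
      have hsup : U ⊔ Cfsg.sigmaCore M = ⁅M, M⁆ := by
        open CfsgLib.OddOrder in
        rw [sup_comm]; exact (Basic.IsComplIn.eq_sup hc).symm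
      unfold Cfsg.typeA Cfsg.typeA1 Cfsg.typeCore Cfsg.sigmaA Cfsg.sigmaHat
      rw [if_neg hnI, if_neg hnot, hFH, hsup]
      ext a
      simp only [Set.mem_diff, Set.mem_setOf_eq, Set.mem_inter_iff, SetLike.mem_coe, Set.mem_singleton_iff]
      refine ⟨fun ⟨⟨haM, ha1, x, hx, hx1, hax⟩, hn⟩ =>
          ⟨⟨⟨CfsgLib.OddOrder.SigmaComplement.derived_le_self M haM, x, hx, hx1, hax⟩, haM⟩, fun h => hn ⟨h, ha1⟩⟩,
        fun ⟨⟨⟨_, x, hx, hx1, hax⟩, haM⟩, hn⟩ => ?_⟩
      exact ⟨⟨haM, fun e => hn (e ▸ one_mem _), x, hx, hx1, hax⟩, fun h => hn h.1⟩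
  refine ⟨Cfsg.Agent.S1358.result hG M hM K₁ U hd, fun X hX hne hfix => ?_, ?_⟩
  · rw [hFH, ← Subgroup.centralizer_closure] at hfix
    rw [← Subgroup.centralizer_closure]
    refine Cfsg.Agent.S1361.result hG M hM K₁ U hd (Subgroup.closure X)
      ((Subgroup.closure_le _).mpr fun x hx => (hX hx).1) (fun e => ?_) hfix
    obtain ⟨x, hx⟩ := hne
    exact (hX hx).2 (Subgroup.mem_bot.mp (e.le (Subgroup.subset_closure hx)))
  · rw [hA]
    exact Cfsg.Agent.S1362.result hG M hM K₁ U hd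

end Cfsg.Agent.S1390
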