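import Cfsg.Statements.S1394
import Cfsg.Agent.Lib.OddOrder.Transitivity
import Cfsg.Agent.Lib.OddOrder.SCNTransitivity
-- import your own Cfsg.Agent.* helpers here

set_option autoImplicit false
open Cfsg
open CfsgLib CfsgLib.OddOrder

namespace Cfsg.Agent.S1394

/-- Let G be a minimal simple group of odd order, A a subgroup satisfying the transitivity hypothesis whose centre has rank at least 2, K = O_{π(A)'}(C_G(A)), and q a prime dividing the order of C_G(A) but not that of A. Then any two maximal A-invariant q-subgroups of G are conjugate by an element of K. -/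
theorem result {G : Type*} [Group G] [Finite G] (hG : Cfsg.IsMinSimpleOddOrder G)
    (A : Subgroup G) (hA : Cfsg.TransitivityHypothesis A) (hZ : ¬ Cfsg.RankLE 1 ↥(A ⊓ Subgroup.centralizer (A : Set G)))
    (q : ℕ) (hq : q.Prime) (hqA : ¬ q ∣ Nat.card A) (hqC : q ∣ Nat.card (Subgroup.centralizer (A : Set G))) :
    ∀ Q₁ ∈ Cfsg.maxInvSubgroups ⊤ A {q}, ∀ Q₂ ∈ Cfsg.maxInvSubgroups ⊤ A {q}, ∃ k ∈ Cfsg.piCoreOf (Cfsg.primesNotDvd (Nat.card A)) (Subgroup.centralizer (A : Set G)), Q₂ = Q₁.map (MulAut.conj k).toMonoidHom := by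
  intro Q₁ h₁ Q₂ h₂
  have hid : ∀ Q : Subgroup G, Q = Q.map (MulAut.conj (1 : G)).toMonoidHom := fun Q => by
    convert Q.map_id.symm
    ext x; simp
  haveI := Fact.mk hq
  obtain ⟨x, hx⟩ := exists_prime_orderOf_dvd_card' q hqC
  set X₀ := Subgroup.zpowers (x : G) with hX₀
  have hXp : IsPGroup q X₀ := IsPGroup.of_card (n := 1) (by
    rw [hX₀, Nat.card_zpowers, Subgroup.orderOf_coe, hx, pow_one])
  have hXc : X₀ ≤ Subgroup.centralizer (A : Set G) := Subgroup.zpowers_le.mpr x.2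
  have hX1 : X₀ ≠ ⊥ := by
    rw [hX₀, Subgroup.zpowers_ne_bot]
    intro h
    rw [show x = 1 from Subtype.ext h, orderOf_one] at hx
    exact hq.ne_one hx.symm
  obtain ⟨Q₃, h₃, hle⟩ := Transitivity.exists_max hq hXp
    ((Subgroup.le_centralizer_iff.mp hXc).trans (Subgroup.centralizer_le_normalizer _))
  set Z := A ⊓ Subgroup.centralizer (A : Set G) with hZdef
  rw [Cfsg.RankLE] at hZ
  simp only [Cfsg.PRankLE] at hZ
  push Not at hZ
  obtain ⟨r, hr, E₀, hE₀c, hE₀e, hE₀3⟩ := hZ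
  haveI := Fact.mk hr
  set E := E₀.map Z.subtype with hE
  have hEe : Cfsg.IsElementaryAbelian r E := Fusion.Thompson.isEA_map _ ⟨hE₀c, hE₀e⟩
  haveI := hEe.1
  have hEZ : E ≤ Z := Subgroup.map_subtype_le _
  have hEnc : ¬ IsCyclic E := SCNTransitivity.not_isCyclic_of_card hEe (by
    rw [hE, Subgroup.card_map_of_injective Z.subtype_injective]; simpa using hE₀3)
  have key : ∀ Q ∈ Cfsg.maxInvSubgroups ⊤ A {q},
      ∃ k ∈ Cfsg.piCoreOf (Cfsg.primesNotDvd (Nat.card A)) (Subgroup.centralizer (A : Set G)),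
        Q = Q₃.map (MulAut.conj k).toMonoidHom := by
    intro Q hQ
    obtain ⟨hQp, hQA⟩ := (Transitivity.mem_inv_top hq).mp hQ.1
    rcases eq_or_ne Q ⊥ with rfl | hQ1
    · exact absurd (hQ.2 X₀ ((Transitivity.mem_inv_top hq).mpr ⟨hXp,
        (Subgroup.le_centralizer_iff.mp hXc).trans (Subgroup.centralizer_le_normalizer _)⟩) bot_le) hX1
    obtain ⟨b, ⟨hb, hb'⟩, hbQ⟩ : ∃ b, (b ∈ E ∧ b ≠ 1) ∧ Q ⊓ Subgroup.centralizer ({b} : Set G) ≠ ⊥ := by
      by_contra hcon
      push Not at hcon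
      refine hQ1 (le_bot_iff.mp ?_)
      rw [← Coprime.iSup_centralizer_singleton (A := E) hEnc ((hEZ.trans inf_le_left).trans hQA)
        ((Transitivity.coprime_qGroup hG.2 hA hq hqA hQp).symm.coprime_dvd_left
          (Subgroup.card_dvd_of_le (hEZ.trans inf_le_left)))]
      exact iSup₂_le fun b hb => (hcon b hb).le
    refine Transitivity.conj_of_meet hG.2 hA hq hqA h₃ hQ (H := Subgroup.centralizer ({b} : Set G)) ?_
      (fun y hy => Subgroup.mem_centralizer_singleton_iff.mpr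
        (Subgroup.mem_centralizer_iff.mp (hEZ hb).2 y hy)) ?_ ?_
    · intro h
      haveI := hG.2.1
      have hc : b ∈ Subgroup.center G := Subgroup.mem_center_iff.mpr fun g =>
        Subgroup.mem_centralizer_singleton_iff.mp (h ▸ Subgroup.mem_top g : g ∈ Subgroup.centralizer ({b} : Set G))
      rcases (inferInstance : (Subgroup.center G).Normal).eq_bot_or_eq_top with hb'' | ht
      · rw [hb'', Subgroup.mem_bot] at hc; exact hb' hc
      · exact hG.2.2.1 (⟨⟨fun u v => (Subgroup.mem_center_iff.mp (ht ▸ Subgroup.mem_top u) v).symm⟩⟩)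
    · refine ne_bot_of_le_ne_bot hX1 (le_inf ?_ hle)
      rw [Subgroup.zpowers_le, Subgroup.mem_centralizer_singleton_iff]
      exact (Subgroup.mem_centralizer_iff.mp x.2 b (hEZ hb).1).symm
    · rwa [inf_comm]
  obtain ⟨k₁, hk₁, e₁⟩ := key Q₁ h₁
  obtain ⟨k₂, hk₂, e₂⟩ := key Q₂ h₂
  refine ⟨k₂ * k₁⁻¹, mul_mem hk₂ (inv_mem hk₁), ?_⟩
  rw [e₁, Transitivity.map_conj_conj, inv_mul_cancel_right]
  exact e₂

end Cfsg.Agent.S1394
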