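import Cfsg.Statements.S1415
import Cfsg.Agent.Lib.OddOrder.SigmaComplement

set_option autoImplicit false
set_option linter.style.haveILetI false
open Cfsg

namespace Cfsg.Agent.S1415

/-- Let G be a minimal simple group of odd order, M a maximal subgroup and E a complement to M_σ in M. Then the derived subgroup E' is nilpotent; every Hall τ₁(M)-subgroup of E is cyclic; and every Hall τ₃(M)-subgroup E₃ of E is cyclic, contained in E' and normal in E. -/
theorem result {G : Type*} [Group G] [Finite G] (hG : Cfsg.IsMinSimpleOddOrder G)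
    (M : Subgroup G) (hM : IsCoatom M) (E : Subgroup G) (hE : Cfsg.IsComplIn E (Cfsg.sigmaCore M) M) :
    Group.IsNilpotent ↥⁅E, E⁆ ∧
      (∀ E₁ : Subgroup G, Cfsg.IsPiHallOf (Cfsg.tau1 M) E₁ E → IsCyclic E₁) ∧
      ∀ E₃ : Subgroup G, Cfsg.IsPiHallOf (Cfsg.tau3 M) E₃ E → IsCyclic E₃ ∧ E₃ ≤ ⁅E, E⁆ ∧ E ≤ Subgroup.normalizer (E₃ : Set G) := by
  haveI hn := CfsgLib.OddOrder.SigmaComplement.derived_isNilpotent hG hM hE
  refine ⟨hn, fun E₁ h => CfsgLib.OddOrder.SigmaComplement.tau1_cyclic hG.1 (h.1.trans hE.1) h.2.1,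
    fun E₃ h => ?_⟩
  have hle := CfsgLib.OddOrder.SigmaComplement.tau3_le hG hM hE h.1 h.2.1
  haveI : IsZGroup E₃ := CfsgLib.OddOrder.SigmaComplement.isZGroup hG.1 (h.1.trans hE.1)
    fun t ht hd => (h.2.1 t ht hd).2.2.2
  haveI : Group.IsNilpotent E₃ := Group.nilpotent_of_mulEquiv (Subgroup.subgroupOfEquivOfLe hle)
  refine ⟨inferInstance, hle, CfsgLib.OddOrder.SigmaComplement.normal_of_hall ?_
    (CfsgLib.OddOrder.SigmaComplement.derived_le_self E) hle h⟩
  intro g hg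
  refine CfsgLib.OddOrder.NormalizerFusion.mem_normalizer_of_conj fun x hx => ?_
  obtain ⟨y, hy, rfl⟩ := (Subgroup.map_subtype_commutator E).ge hx
  exact (Subgroup.map_subtype_commutator E).le
    ⟨⟨g, hg⟩ * y * ⟨g, hg⟩⁻¹, (inferInstance : (_root_.commutator E).Normal).conj_mem y hy _, rfl⟩

end Cfsg.Agent.S1415
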