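import Cfsg.Statements.S1416
import Cfsg.Agent.Lib.OddOrder.PlaneMaximal

set_option autoImplicit false
set_option linter.style.haveILetI false
open Cfsg

namespace Cfsg.Agent.S1416

/-- Let G be a minimal simple group of odd order, M a maximal subgroup, p a prime and A ≤ M elementary abelian of order p ^ 2. Then C_G(A) ≤ M. If moreover for every subgroup A₀ of A of order p, M is not the unique maximal subgroup containing N_G(A₀), then p ∈ σ(M), M_α = 1 and M_σ is nilpotent. -/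
theorem result {G : Type*} [Group G] [Finite G] (hG : Cfsg.IsMinSimpleOddOrder G)
    (M : Subgroup G) (hM : IsCoatom M) (p : ℕ) [Fact p.Prime] (A : Subgroup G) (hA : (A ≤ M ∧ Cfsg.IsElementaryAbelian p A ∧ Nat.card A = p ^ 2)) :
    Subgroup.centralizer (A : Set G) ≤ M ∧
      ((∀ A₀ : Subgroup G, A₀ ≤ A → Nat.card A₀ = p →
          ¬ (Subgroup.normalizer (A₀ : Set G) ≤ M ∧ ∀ L : Subgroup G, IsCoatom L → Subgroup.normalizer (A₀ : Set G) ≤ L → L = M)) →
        p ∈ Cfsg.sigma M ∧ Cfsg.alphaCore M = ⊥ ∧ Group.IsNilpotent (Cfsg.sigmaCore M)) := by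
  obtain ⟨hAM, hAe, hA2⟩ := hA
  refine ⟨CfsgLib.OddOrder.PlaneMaximal.centralizer_le hG hM hAM hAe hA2, fun h => ?_⟩
  have hH : CfsgLib.OddOrder.PlaneMaximal.Others p M A := fun A₀ h₀ h₀c => by
    by_contra hcon
    push Not at hcon
    refine h A₀ h₀ h₀c ⟨?_, fun L hL hNL => hcon L hL hNL⟩
    obtain ⟨L, hL, hNL⟩ := CfsgLib.OddOrder.Uniqueness.exists_coatom_normalizer (p := p) hG.2
      (fun (e : A₀ = ⊥) => (Fact.out : p.Prime).ne_one (by rw [← h₀c, e, Subgroup.card_bot]))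
      (IsPGroup.of_card (n := 1) (by rw [h₀c, pow_one]))
    exact hcon L hL hNL ▸ hNL
  have hA' := CfsgLib.OddOrder.PlaneMaximal.maxPlane_of_others hG hM hAM hAe hA2 hH
  refine ⟨CfsgLib.OddOrder.PlaneMaximal.mem_sigma hG hM hA' hAM hH, ?_,
    CfsgLib.OddOrder.PlaneMaximal.sigma_nilpotent hG hM hA' hAM hH⟩
  by_contra hne
  obtain ⟨q, hq, hd⟩ := Nat.exists_prime_and_dvd (mt Subgroup.card_eq_one.mp hne)
  exact CfsgLib.OddOrder.PlaneMaximal.alpha_empty hG hM hA' hAM hH q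
    ((CfsgLib.OddOrder.AlphaCentralizer.alphaCore_facts (M := M)).2.2 q hq hd)

end Cfsg.Agent.S1416
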