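import Cfsg.Statements.S1430
import Cfsg.Agent.Lib.OddOrder.KappaHall

set_option autoImplicit false
open Cfsg

namespace Cfsg.Agent.S1430

/-- Let G be a minimal simple group of odd order, M a maximal subgroup, K ≠ 1 a Hall κ(M)-subgroup of M and K* = M_σ ∩ C_G(K). Then M_σ ∩ C_G(k) = K* for every non-identity k ∈ K; there is an abelian subgroup U of M, a Hall subgroup of M for the primes outside κ(M) ∪ σ(M), normalized by K with U ∩ C_G(k) = 1 for all non-identity k ∈ K; and for every subgroup X ≤ K of prime order, M ∩ N_G(X) = M ∩ N_G(K) = K ⊔ K*, and X ≤ M*_σ for every maximal subgroup M* containing N_G(X). -/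
theorem result {G : Type*} [Group G] [Finite G] (hG : Cfsg.IsMinSimpleOddOrder G)
    (M : Subgroup G) (hM : IsCoatom M) (K : Subgroup G) (hK : Cfsg.IsPiHallOf (Cfsg.kappa M) K M) (hK1 : K ≠ ⊥) :
    (∀ k ∈ K, k ≠ 1 → Cfsg.sigmaCore M ⊓ Subgroup.centralizer ({k} : Set G) = (Cfsg.sigmaCore M ⊓ Subgroup.centralizer (K : Set G))) ∧
      (∃ U : Subgroup G, IsMulCommutative U ∧ Cfsg.IsPiHallOf {q | q.Prime ∧ q ∉ Cfsg.kappa M ∧ q ∉ Cfsg.sigma M} U M ∧
        K ≤ Subgroup.normalizer (U : Set G) ∧ ∀ k ∈ K, k ≠ 1 → U ⊓ Subgroup.centralizer ({k} : Set G) = ⊥) ∧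
      ∀ X : Subgroup G, X ≤ K → (Nat.card X).Prime →
        M ⊓ Subgroup.normalizer (X : Set G) = K ⊔ (Cfsg.sigmaCore M ⊓ Subgroup.centralizer (K : Set G)) ∧ M ⊓ Subgroup.normalizer (K : Set G) = K ⊔ (Cfsg.sigmaCore M ⊓ Subgroup.centralizer (K : Set G)) ∧
        ∀ Mstar : Subgroup G, IsCoatom Mstar → Subgroup.normalizer (X : Set G) ≤ Mstar → X ≤ Cfsg.sigmaCore Mstar := by
  obtain ⟨E, U, h⟩ := CfsgLib.OddOrder.KappaHall.exists_str' hG hM hK hK1
  refine ⟨h.fix, ⟨U, h.comm, h.hall, h.le.trans h.normal, h.free⟩, fun X hX hXp =>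
    ⟨h.inf_normalizer hX hXp, h.inf_normalizer_K hK1, fun L hL hNX => ?_⟩⟩
  haveI := Fact.mk hXp
  have hk := h.kappa _ hXp (Subgroup.card_dvd_of_le hX)
  have hfix : Cfsg.sigmaCore M ⊓ Subgroup.centralizer (X : Set G) ≠ ⊥ := fun e => h.ne_bot (le_bot_iff.mp
    (e.le.trans' (inf_le_inf_left _ (Subgroup.centralizer_le (SetLike.coe_subset_coe.mpr hX)))))
  exact CfsgLib.OddOrder.SigmaTools.pGroup_le_sigmaCore hG hL
    (CfsgLib.OddOrder.SigmaMutual.mem_sigma_of_fixed hG hM hk.2.2.1 (CfsgLib.OddOrder.KappaHall.kappa_rank_one hk)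
      rfl (hX.trans hK.1) hfix hL hNX)
    (Subgroup.le_normalizer.trans hNX) (CfsgLib.OddOrder.RankOneTools.isPGroup_of_card rfl)

end Cfsg.Agent.S1430
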