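import Cfsg.Statements.S1434
import Cfsg.Agent.Lib.OddOrder.StarFacts
import Cfsg.Agent.Lib.OddOrder.StarDerived

set_option autoImplicit false
open Cfsg

namespace Cfsg.Agent.S1434

/-- Let G be a minimal simple group of odd order, M a maximal subgroup with standard factorisation M = K U M_σ, K ≠ 1, K* = M_σ ∩ C_G(K), and M* a maximal subgroup with K = M*_σ ∩ C_G(K*) and K* a Hall κ(M*)-subgroup of M*. Then κ(M) = τ₁(M); K* is a Hall σ(M)-subgroup of M*; for non-identity x ∈ K and y ∈ K*, C_M(x), C_{M*}(y) and C_G(xy) all equal K K*; the set Ẑ of elements of K K* outside K ∪ K* meets no gMg⁻¹ with g ∉ M; and with k = #K, k* = #K*, the union of the conjugates of Ẑ has k·k*·(number of elements) = (k k* − k − k* + 1)·#G and more than #G / 2 elements. -/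
theorem result {G : Type*} [Group G] [Finite G] (hG : Cfsg.IsMinSimpleOddOrder G)
    (M : Subgroup G) (hM : IsCoatom M) (K U : Subgroup G) (hKU : Cfsg.IsSigmaDecomposition M K U) (hK1 : K ≠ ⊥) (Mstar : Subgroup G) (hMstar : IsCoatom Mstar)
    (hKst : K = Cfsg.sigmaCore Mstar ⊓ Subgroup.centralizer ((Cfsg.sigmaCore M ⊓ Subgroup.centralizer (K : Set G)) : Set G))
    (hKstH : Cfsg.IsPiHallOf (Cfsg.kappa Mstar) (Cfsg.sigmaCore M ⊓ Subgroup.centralizer (K : Set G)) Mstar) :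
    Cfsg.kappa M = Cfsg.tau1 M ∧ Cfsg.IsPiHallOf (Cfsg.sigma M) (Cfsg.sigmaCore M ⊓ Subgroup.centralizer (K : Set G)) Mstar ∧
      (∀ x ∈ K, x ≠ 1 → ∀ y ∈ (Cfsg.sigmaCore M ⊓ Subgroup.centralizer (K : Set G)), y ≠ 1 →
        M ⊓ Subgroup.centralizer ({x} : Set G) = K ⊔ (Cfsg.sigmaCore M ⊓ Subgroup.centralizer (K : Set G)) ∧ Mstar ⊓ Subgroup.centralizer ({y} : Set G) = K ⊔ (Cfsg.sigmaCore M ⊓ Subgroup.centralizer (K : Set G)) ∧
        Subgroup.centralizer ({x * y} : Set G) = K ⊔ (Cfsg.sigmaCore M ⊓ Subgroup.centralizer (K : Set G))) ∧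
      (∀ g : G, g ∉ M → ∀ z ∈ ((↑(K ⊔ (Cfsg.sigmaCore M ⊓ Subgroup.centralizer (K : Set G))) : Set G) \ ((K : Set G) ∪ ↑(Cfsg.sigmaCore M ⊓ Subgroup.centralizer (K : Set G)))), z ∉ M.map (MulAut.conj g).toMonoidHom) ∧
      Nat.card K * Nat.card ↥(Cfsg.sigmaCore M ⊓ Subgroup.centralizer (K : Set G)) * Set.ncard {a : G | ∃ g : G, ∃ z ∈ ((↑(K ⊔ (Cfsg.sigmaCore M ⊓ Subgroup.centralizer (K : Set G))) : Set G) \ ((K : Set G) ∪ ↑(Cfsg.sigmaCore M ⊓ Subgroup.centralizer (K : Set G)))), a = g * z * g⁻¹} =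
        (Nat.card K * Nat.card ↥(Cfsg.sigmaCore M ⊓ Subgroup.centralizer (K : Set G)) - Nat.card K - Nat.card ↥(Cfsg.sigmaCore M ⊓ Subgroup.centralizer (K : Set G)) + 1) * Nat.card G ∧
      Nat.card G < 2 * Set.ncard {a : G | ∃ g : G, ∃ z ∈ ((↑(K ⊔ (Cfsg.sigmaCore M ⊓ Subgroup.centralizer (K : Set G))) : Set G) \ ((K : Set G) ∪ ↑(Cfsg.sigmaCore M ⊓ Subgroup.centralizer (K : Set G)))), a = g * z * g⁻¹} := by
  open CfsgLib.OddOrder in
  obtain ⟨L, h, -⟩ := StarPair.exists_pair hG (M := M) (K := K) ⟨hM, hK1, hKU.hall⟩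
  obtain rfl := h.unique hG ⟨hMstar, h.right.ne, hKstH⟩ hKst.symm
  refine ⟨StarDerived.kappa_eq_tau1 hG h, StarFacts.hall_sigma hG h, fun x hx hx1 y hy hy1 => ?_, fun g hg z hz => ?_, ?_, ?_⟩
  · refine ⟨(StarFacts.centralizer_mul hG h hx hx1 hy hy1).1, ?_, (StarFacts.centralizer_mul hG h hx hx1 hy hy1).2⟩
    have h2 := (StarFacts.centralizer_mul hG h.symm hy hy1 (h.eq.ge hx) hx1).1
    exact h2.trans h.Z_eq
  · rw [← StarFacts.Zhat_eq hG h, StarFacts.mem_Zhat_iff hG h] at hz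
    obtain ⟨k, hk, d, hd, -, hd1, rfl⟩ := hz
    intro hmem
    obtain ⟨E, U₀, hs⟩ := h.left.str hG
    have hc := StarPartner.commute hk hd
    obtain ⟨i, hi⟩ := CfsgLib.Coprime.ClassSizeGraph.exists_pow_eq_left hc.symm (pow_orderOf_eq_one d) (pow_orderOf_eq_one k)
      (Nat.coprime_of_dvd fun t ht h1 h2 => (h.left.sigma' hk t ht h2).2.2.1 (SupportCosets.sigma_number hd.1 t ht h1))
    refine hd1 (Subgroup.mem_bot.mp ((KappaStar.ti hG hM hs hK1 hg).le ⟨hd, ?_⟩))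
    rw [← hi, ← hc.eq]
    exact Subgroup.pow_mem _ hmem i
  · have key := StarFacts.ncard_conjSet hG h
    rw [StarFamily.conjSet, StarFacts.Zhat_eq hG h] at key
    refine key.trans ?_
    have harith : ∀ k d : ℕ, 2 ≤ k → 2 ≤ d → (k - 1) * (d - 1) = k * d - k - d + 1 := by
      intro k d hk hd
      have h1 : k + d ≤ k * d := by nlinarith
      rw [Nat.sub_one_mul, Nat.mul_sub_one]
      generalize k * d = X at h1 ⊢
      omega
    have h2 : ∀ H : Subgroup G, H ≠ ⊥ → 2 ≤ Nat.card H := fun H hH => by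
      have := mt Subgroup.card_eq_one.mp hH
      have := Nat.card_pos (α := H)
      omega
    rw [harith _ _ (h2 _ hK1) (h2 _ h.right.ne), mul_comm]
  · have key := StarFacts.half hG h
    rw [StarFamily.conjSet, StarFacts.Zhat_eq hG h] at key
    exact key

end Cfsg.Agent.S1434
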