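import Cfsg.Statements.S1440
import Cfsg.Agent.Lib.OddOrder.TypeOneFitting

set_option autoImplicit false
open Cfsg

namespace Cfsg.Agent.S1440

/-- Let G be a minimal simple group of odd order, M a maximal subgroup with standard factorisation M = K U M_σ, H = M_F, and g ∉ M such that X = F(M) ∩ gF(M)g⁻¹ is nontrivial. Then X ≤ H and X is cyclic; M' = F(M), which is generated by M_σ and O_{σ(M)'}(F(M)); and one of: (1) K = 1 and H is abelian of rank exactly 2; (2) p = #X is a prime in σ(M) but not in β(M), O_p(H) is nonabelian, O_{p'}(H) is cyclic, and the exponent of M/H divides q − 1 for every prime q dividing #H; (3) p = #X is a prime in σ(M) but not β(M), O_{p'}(H) is cyclic, O_p(H) is nonabelian of order p ^ 3, K ≠ 1, U = 1, and the index of H in M divides p + 1. -/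
theorem result {G : Type*} [Group G] [Finite G] (hG : Cfsg.IsMinSimpleOddOrder G)
    (M : Subgroup G) (hM : IsCoatom M) (K U : Subgroup G) (hKU : Cfsg.IsSigmaDecomposition M K U) (g : G) (hg : g ∉ M) (hX : Cfsg.fittingOf M ⊓ (Cfsg.fittingOf M).map (MulAut.conj g).toMonoidHom ≠ ⊥) :
    (Cfsg.fittingOf M ⊓ (Cfsg.fittingOf M).map (MulAut.conj g).toMonoidHom ≤ Cfsg.fittingHallOf M ∧ IsCyclic ↥(Cfsg.fittingOf M ⊓ (Cfsg.fittingOf M).map (MulAut.conj g).toMonoidHom)) ∧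
      (⁅M, M⁆ = Cfsg.fittingOf M ∧ Cfsg.fittingOf M = Cfsg.sigmaCore M ⊔ Cfsg.piCoreOf {q | q.Prime ∧ q ∉ Cfsg.sigma M} (Cfsg.fittingOf M)) ∧
      ((K = ⊥ ∧ IsMulCommutative (Cfsg.fittingHallOf M) ∧ Cfsg.RankLE 2 (Cfsg.fittingHallOf M) ∧ ¬ Cfsg.RankLE 1 (Cfsg.fittingHallOf M)) ∨
       (∃ p : ℕ, p.Prime ∧ Nat.card ↥(Cfsg.fittingOf M ⊓ (Cfsg.fittingOf M).map (MulAut.conj g).toMonoidHom) = p ∧ p ∈ Cfsg.sigma M ∧ p ∉ Cfsg.beta M ∧
          ¬ IsMulCommutative (Cfsg.pCore p ↥(Cfsg.fittingHallOf M)) ∧ IsCyclic (Cfsg.pPrimeCore p ↥(Cfsg.fittingHallOf M)) ∧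
          ∀ q : ℕ, q.Prime → q ∣ Nat.card (Cfsg.fittingHallOf M) → Monoid.exponent (↥M ⧸ Cfsg.fittingHall ↥M) ∣ q - 1) ∨
       (∃ p : ℕ, p.Prime ∧ Nat.card ↥(Cfsg.fittingOf M ⊓ (Cfsg.fittingOf M).map (MulAut.conj g).toMonoidHom) = p ∧ p ∈ Cfsg.sigma M ∧ p ∉ Cfsg.beta M ∧
          IsCyclic (Cfsg.pPrimeCore p ↥(Cfsg.fittingHallOf M)) ∧ Nat.card (Cfsg.pCore p ↥(Cfsg.fittingHallOf M)) = p ^ 3 ∧
          ¬ IsMulCommutative (Cfsg.pCore p ↥(Cfsg.fittingHallOf M)) ∧ K ≠ ⊥ ∧ U = ⊥ ∧ (Cfsg.fittingHallOf M).relIndex M ∣ p + 1)) := by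
  open CfsgLib.OddOrder in
  obtain ⟨p, y, N, h⟩ := FittingNonTI.exists_nt hG hM hg hX
  have hn := h.nilpotent
  open CfsgLib.OddOrder in
  have hF := TypeP.fittingHall_eq hG hM hn
  open CfsgLib.OddOrder in
  refine ⟨⟨fun u hu => hF.symm.le (FittingTI.le_core hG hM hg hu).1, TypeOneFitting.isCyclic_inf hG hM hg⟩,
    ⟨TypeOneFitting.derived_eq hG hM hg hX, TypeOneFitting.fitting_eq_sup hG hM hn⟩, ?_⟩
  haveI := Fact.mk h.prime
  by_cases hab : IsMulCommutative (Cfsg.sigmaCore M)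
  · refine Or.inl ⟨by_contra fun hK => ?_, ?_⟩
    · open CfsgLib.OddOrder in
      exact (FittingTypeV.main hG hKU hK (TypeOneFitting.U_eq_bot hG hM hKU hK hg hX) h).1 hab
    · rw [hF]
      exact ⟨hab, h.rank_two hG hab⟩
  open CfsgLib.OddOrder in
  have hXp := TypeOneFitting.card_inf hG h hab
  open CfsgLib.OddOrder in
  obtain ⟨hnc, hcyc, hcard⟩ := TypeOneFitting.pCore_facts h hG hab hF
  open CfsgLib.OddOrder in
  have hb := FittingTI.beta_empty hG hM hg hX p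
  by_cases hK : K = ⊥
  · open CfsgLib.OddOrder in
    exact Or.inr (Or.inl ⟨p, h.prime, hXp, h.sigma, hb, hnc, hcyc, fun r hr hd =>
      TypeOneClass.exponent_dvd hG (TypeOneFacts.kappa_eq_empty hKU hK) h hab hr hd⟩)
  open CfsgLib.OddOrder in
  have hU := TypeOneFitting.U_eq_bot hG hM hKU hK hg hX
  open CfsgLib.OddOrder in
  obtain ⟨-, h1 | ⟨h1, T, hT, hTc⟩⟩ := FittingTypeV.main hG hKU hK hU h
  · refine Or.inr (Or.inl ⟨p, h.prime, hXp, h.sigma, hb, hnc, hcyc, fun r hr hd => ?_⟩)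
    open CfsgLib.OddOrder in
    refine TypeOneFitting.exponent_quotient hG hM hKU hK hU hF ?_
    by_cases hrp : r = p
    · rw [hrp]; exact h1
    · rw [hF] at hd
      open CfsgLib.OddOrder in
      exact TypeOneFitting.card_K_dvd hG h hKU hK hU hab hr hd hrp
  · refine Or.inr (Or.inr ⟨p, h.prime, hXp, h.sigma, hb, hcyc, (hcard T hT).trans hTc, hnc, hK, hU, ?_⟩)
    open CfsgLib.OddOrder in
    rw [hF, ← TypeP.derived_bot hG hM hKU hK hU, Basic.IsComplIn.relIndex_left (TypeP.compl_K hG hM hKU hK)]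
    exact h1

end Cfsg.Agent.S1440
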