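import Cfsg.Statements.S1441
import Cfsg.Agent.Lib.OddOrder.Stabilize
import Mathlib.GroupTheory.Sylow

set_option autoImplicit false
open Cfsg
open scoped commutatorElement

namespace Cfsg.Agent.S1441

/-- Let G be a finite group, H a solvable subgroup and A a subgroup normalizing H. Suppose there is a chain H = H₀ ≥ H₁ ≥ ⋯ ≥ H_n = 1 of subgroups normal in H and normalized by A such that A acts trivially on each factor H_{i-1}/H_i (that is, [H_{i-1}, A] ≤ H_i). Then every prime dividing the index of C_A(H) in A divides the order of H. -/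
theorem result {G : Type*} [Group G] [Finite G] (H A : Subgroup G) (hH : Group.IsSolvable H) (hA : (A ≤ Subgroup.normalizer (H : Set G)))
    (n : ℕ) (c : Fin (n + 1) → Subgroup G) (hc0 : c 0 = H) (hcn : c (Fin.last n) = ⊥) (hanti : Antitone c)
    (hcN : ∀ i, H ≤ Subgroup.normalizer ((c i : Subgroup G) : Set G)) (hcA : ∀ i, A ≤ Subgroup.normalizer ((c i : Subgroup G) : Set G))
    (htriv : ∀ i : Fin n, ⁅c i.castSucc, A⁆ ≤ c i.succ) :
    ∀ p : ℕ, p.Prime → p ∣ (A ⊓ Subgroup.centralizer (H : Set G)).relIndex A → p ∣ Nat.card H := by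
  intro p hp hdvd
  by_contra hpH
  haveI : Fact p.Prime := ⟨hp⟩
  set C := A ⊓ Subgroup.centralizer (H : Set G) with hC
  have hsub : (C.subgroupOf A).index = C.relIndex A := rfl
  obtain ⟨P⟩ : Nonempty (Sylow p A) := inferInstance
  apply Sylow.not_dvd_index' P (by
    intro h0
    exact Subgroup.index_ne_zero_of_finite h0)
  refine dvd_trans (hsub ▸ hdvd) (Subgroup.index_dvd_of_le ?_)
  intro a ha
  rw [Subgroup.mem_subgroupOf]
  refine ⟨a.2, ?_⟩
  obtain ⟨m, hm⟩ := (IsPGroup.iff_orderOf.mp P.isPGroup') ⟨a, ha⟩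
  have hord : orderOf (a : G) = p ^ m := by
    rw [← hm, Subgroup.orderOf_mk, Subgroup.orderOf_coe]
  have key : ∀ i : Fin (n + 1), ∀ x ∈ c i, Commute (a : G) x := by
    intro i
    induction i using Fin.reverseInduction with
    | last => intro x hx; rw [hcn, Subgroup.mem_bot] at hx; simp [hx]
    | cast i ih =>
      intro x hx
      have h1 := htriv i (Subgroup.commutator_mem_commutator (inv_mem hx) a.2)
      have hcH : c i.succ ≤ H := hc0 ▸ hanti (Fin.zero_le _)
      have e : (a : G) * x * (a : G)⁻¹ = x * ⁅x⁻¹, (a : G)⁆ := by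
        simp [commutatorElement_def, mul_assoc]
      have := CfsgLib.OddOrder.Stabilize.eq_one_of_conj_eq_mul e (ih _ h1) (by
        rw [hord]
        exact Nat.Coprime.coprime_dvd_right (CfsgLib.OddOrder.Stabilize.orderOf_dvd_card_of_mem (hcH h1))
          (Nat.Coprime.pow_left _ ((Nat.Prime.coprime_iff_not_dvd hp).mpr hpH)))
      rw [this, mul_one] at e
      exact mul_inv_eq_iff_eq_mul.mp e
  show (a : G) ∈ Subgroup.centralizer (H : Set G)
  rw [Subgroup.mem_centralizer_iff]
  intro x hx
  exact (key 0 x (hc0.symm ▸ hx)).symm.eq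

end Cfsg.Agent.S1441
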