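import Cfsg.Statements.S1449
import Cfsg.Agent.Lib.OddOrder.RankTwo
-- import your own Cfsg.Agent.* helpers here

set_option autoImplicit false
open Cfsg
open CfsgLib CfsgLib.OddOrder

namespace Cfsg.Agent.S1449

/-- Let G be a finite group, p an odd prime, R a p-subgroup with no elementary abelian subgroup of order p ^ 3, and A a solvable subgroup of odd order normalizing R with A ∩ C_G(R) = 1. Then the derived subgroup [A, A] is a p-group. -/
theorem result {G : Type*} [Group G] [Finite G] (p : ℕ) [Fact p.Prime] (hp : p ≠ 2) (R A : Subgroup G) (hR : IsPGroup p R) (hr : Cfsg.PRankLE p 2 R)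
    (hA : (A ≤ Subgroup.normalizer (R : Set G))) (hAs : Group.IsSolvable A) (hAodd : Odd (Nat.card A)) (hfaith : A ⊓ Subgroup.centralizer (R : Set G) = ⊥) :
    IsPGroup p ↥⁅A, A⁆ := by
  haveI := hAs
  set H := R ⊔ A with hH
  set R' := R.subgroupOf H with hR'
  haveI hRn : R'.Normal := (Subgroup.normal_subgroupOf_iff_le_normalizer le_sup_left).mpr
    (sup_le Subgroup.le_normalizer hA)
  have hR'p : IsPGroup p R' := hR.comap_of_injective H.subtype H.subtype_injective
  have hmul : ∀ x ∈ H, ∃ r ∈ R, ∃ a ∈ A, r * a = x := by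
    intro x hx
    rw [← SetLike.mem_coe, hH, Subgroup.coe_mul_of_right_le_normalizer_left R A hA] at hx
    exact Set.mem_mul.mp hx
  haveI : Group.IsSolvable H := by
    haveI : Group.IsSolvable R' := by
      haveI := hR'p.isNilpotent
      infer_instance
    let f : A →* H ⧸ R' := (QuotientGroup.mk' R').comp (Subgroup.inclusion (le_sup_right : A ≤ H))
    haveI : Group.IsSolvable (H ⧸ R') := by
      refine Group.isSolvable_of_surjective (f := f) fun y => ?_
      obtain ⟨⟨x, hx⟩, rfl⟩ := QuotientGroup.mk'_surjective R' y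
      obtain ⟨r, hr', a, ha, rfl⟩ := hmul x hx
      refine ⟨⟨a, ha⟩, ?_⟩
      have h1 : QuotientGroup.mk' R' ⟨r, Subgroup.mem_sup_left hr'⟩ = 1 := (QuotientGroup.eq_one_iff _).mpr hr'
      calc f ⟨a, ha⟩ = QuotientGroup.mk' R' ⟨r, Subgroup.mem_sup_left hr'⟩ * QuotientGroup.mk' R' ⟨a, Subgroup.mem_sup_right ha⟩ := by
            rw [h1, one_mul]; rfl
        _ = _ := by rw [← map_mul]; rfl
    exact Group.isSolvable_of_ker_le_range R'.subtype (QuotientGroup.mk' R') (by simp)
  have hodd : Odd (Nat.card H) := by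
    obtain ⟨n, hn⟩ := hR.exists_card_eq
    have h := Fusion.Thompson.card_sup_mul_card_inf (N := R) (K := A) hA
    refine Odd.of_dvd_nat ?_ (Dvd.intro _ h)
    rw [hn]
    exact ((((Fact.out : p.Prime).odd_of_ne_two hp)).pow).mul hAodd
  have hr' : Cfsg.PRankLE p 2 R' := by
    intro B hBc hBe
    set B' := (B.map R'.subtype).map H.subtype with hB'
    have hB'e : Cfsg.IsElementaryAbelian p B' :=
      Fusion.Thompson.isEA_map _ (Fusion.Thompson.isEA_map _ ⟨hBc, hBe⟩)
    have hle : B' ≤ R := by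
      rintro _ ⟨_, ⟨b, -, rfl⟩, rfl⟩
      exact b.2
    have h := RankTwo.card_le_sq hr hB'e hle
    rwa [hB', Subgroup.card_map_of_injective H.subtype_injective,
      Subgroup.card_map_of_injective R'.subtype_injective] at h
  obtain ⟨h1, -, -⟩ := RankTwo.coreOf hodd hp R' hR'p hr' (by
    intro x hx hxC
    obtain ⟨r, hr1, a, ha, hra⟩ := hmul x x.2
    have hact : ∀ y ∈ R, a * y * a⁻¹ = r⁻¹ * y * r := by
      intro y hy
      have h := congrArg Subtype.val
        (Subgroup.mem_centralizer_iff.mp hxC ⟨y, Subgroup.mem_sup_left hy⟩ hy)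
      simp only [Subgroup.coe_mul, ← hra] at h
      calc a * y * a⁻¹ = r⁻¹ * (r * a * y) * a⁻¹ := by group
        _ = r⁻¹ * (y * (r * a)) * a⁻¹ := by rw [← h]
        _ = _ := by group
    obtain ⟨k, hk⟩ := hR ⟨r, hr1⟩
    have hk' : r ^ p ^ k = 1 := congrArg Subtype.val hk
    have hpow : ∀ n : ℕ, ∀ y ∈ R, a ^ n * y * (a ^ n)⁻¹ = (r ^ n)⁻¹ * y * r ^ n := by
      intro n
      induction n with
      | zero => intro y hy; simp
      | succ n ih =>
        intro y hy
        calc a ^ (n + 1) * y * (a ^ (n + 1))⁻¹ = a ^ n * (a * y * a⁻¹) * (a ^ n)⁻¹ := by rw [pow_succ]; group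
          _ = a ^ n * (r⁻¹ * y * r) * (a ^ n)⁻¹ := by rw [hact y hy]
          _ = (r ^ n)⁻¹ * (r⁻¹ * y * r) * r ^ n := ih _ (mul_mem (mul_mem (inv_mem hr1) hy) hr1)
          _ = (r ^ (n + 1))⁻¹ * y * r ^ (n + 1) := by rw [pow_succ']; group
    have hak : a ^ p ^ k = 1 := by
      have hmem : a ^ p ^ k ∈ A ⊓ Subgroup.centralizer (R : Set G) := by
        refine ⟨pow_mem ha _, Subgroup.mem_centralizer_iff.mpr fun y hy => ?_⟩
        have h := hpow (p ^ k) y hy
        rw [hk', inv_one, one_mul, mul_one, mul_inv_eq_iff_eq_mul] at h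
        exact h.symm
      rwa [hfaith, Subgroup.mem_bot] at hmem
    have haP : IsPGroup p (Subgroup.zpowers a) := by
      obtain ⟨j, -, hj⟩ := (Nat.dvd_prime_pow (Fact.out : p.Prime)).mp (orderOf_dvd_of_pow_eq_one hak)
      exact IsPGroup.of_card (n := j) (by rw [Nat.card_zpowers, hj])
    have hU : IsPGroup p (R ⊔ Subgroup.zpowers a : Subgroup G) := by
      rw [sup_comm]
      exact haP.to_sup_of_normal_right' hR (Subgroup.zpowers_le.mpr (hA ha))
    obtain ⟨j, hj⟩ := hU ⟨x, hra ▸ Subgroup.mul_mem_sup hr1 (Subgroup.mem_zpowers a)⟩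
    have hj' : x ^ p ^ j = 1 := Subtype.ext (by simpa using congrArg Subtype.val hj)
    exact orderOf_eq_one_iff.mp (Nat.eq_one_of_dvd_coprimes (hx.pow_right j) dvd_rfl
      (orderOf_dvd_of_pow_eq_one hj')))
  have hle : ⁅A, A⁆ ≤ (Cfsg.pCore p H).map H.subtype := by
    refine le_trans ?_ (Subgroup.map_mono h1)
    rw [Subgroup.map_subtype_commutator]
    exact Subgroup.commutator_mono le_sup_right le_sup_right
  exact ((Solvable.Cores.isPGroup_pCore p).map H.subtype).to_le hle
end Cfsg.Agent.S1449
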