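import Cfsg.Statements.S1450
import Cfsg.Agent.Lib.OddOrder.RankTwo
-- import your own Cfsg.Agent.* helpers here

set_option autoImplicit false
open Cfsg
open CfsgLib CfsgLib.OddOrder

namespace Cfsg.Agent.S1450

theorem npc_of_index {G : Type*} [Group G] [Finite G] {p : ℕ} [Fact p.Prime] (N : Subgroup G) [N.Normal]
    (hN : (Nat.card N).Coprime p) {k : ℕ} (hk : N.index = p ^ k) : Cfsg.HasNormalPComplement p G := by
  obtain ⟨P⟩ : Nonempty (Sylow p G) := inferInstance
  obtain ⟨n, hn⟩ := P.isPGroup'.exists_card_eq
  refine ⟨P, N, inferInstance, Subgroup.isComplement'_of_coprime ?_ (hn ▸ hN.pow_right n)⟩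
  have h2 := N.card_mul_index
  rw [hk] at h2
  have h1 : Nat.card P = p ^ k := by
    rw [P.card_eq_multiplicity, ← h2, Nat.factorization_mul Nat.card_pos.ne'
      (pow_ne_zero _ (Fact.out : p.Prime).ne_zero), Finsupp.add_apply,
      Nat.factorization_eq_zero_of_not_dvd (((Fact.out : p.Prime).coprime_iff_not_dvd).mp hN.symm),
      zero_add, (Fact.out : p.Prime).factorization_pow, Finsupp.single_eq_same]
  rw [h1, h2]

/-- Let G be a solvable group of odd order, p a prime dividing its order with G having no elementary abelian subgroup of order p ^ 3. Then every prime dividing the index of O_{p'}(G) is at most p; if p = 3 or p is the smallest prime divisor of #G then G has a normal p-complement; the derived subgroup G' has a normal p-complement; every subgroup of G' of order coprime to p lies in O_{p'}(G'); and G/O_{p',p}(G) is abelian of order coprime to p. -/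
theorem result {G : Type*} [Group G] [Finite G] [Group.IsSolvable G] (hodd : Odd (Nat.card G)) (p : ℕ) [Fact p.Prime] (hpG : p ∣ Nat.card G) (hr : Cfsg.PRankLE p 2 G) :
    (∀ q : ℕ, q.Prime → q ∣ (Cfsg.pPrimeCore p G).index → q ≤ p) ∧
      ((p = 3 ∨ ∀ q : ℕ, q.Prime → q ∣ Nat.card G → p ≤ q) → Cfsg.HasNormalPComplement p G) ∧
      Cfsg.HasNormalPComplement p ↥(commutator G) ∧
      (∀ L : Subgroup ↥(commutator G), (Nat.card L).Coprime p → L ≤ Cfsg.pPrimeCore p ↥(commutator G)) ∧
      commutator G ≤ Cfsg.pPrimePCore p G ∧ ((Cfsg.pPrimePCore p G).index).Coprime p := by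
  have hp : p.Prime := Fact.out
  have hp2 : p ≠ 2 := by
    rintro rfl
    exact Nat.not_even_iff_odd.mpr hodd (even_iff_two_dvd.mpr hpG)
  obtain ⟨h1, h2, h3⟩ := RankTwo.main hodd hp2 hr
  set O := Cfsg.pPrimeCore p G with hO
  have hM : Cfsg.HasNormalPComplement p (commutator G) := by
    haveI : (O.subgroupOf (commutator G)).Normal := inferInstance
    have hidx : ∃ k, (O.subgroupOf (commutator G)).index = p ^ k := by
      have he : O.relIndex (commutator G) ∣ Nat.card (Cfsg.pCore p (G ⧸ O)) := by
        have e := Subgroup.relIndex_comap (⊥ : Subgroup (G ⧸ O)) (QuotientGroup.mk' O) (commutator G)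
        rw [MonoidHom.comap_bot, QuotientGroup.ker_mk'] at e
        rw [e, Subgroup.relIndex_bot_left]
        exact Subgroup.card_dvd_of_le (Subgroup.map_le_iff_le_comap.mpr h1)
      obtain ⟨k, hk⟩ := (Solvable.Cores.isPGroup_pCore p (G := G ⧸ O)).exists_card_eq
      rw [hk] at he
      obtain ⟨j, -, hj⟩ := (Nat.dvd_prime_pow hp).mp he
      exact ⟨j, hj⟩
    obtain ⟨k, hk⟩ := hidx
    refine npc_of_index (O.subgroupOf (commutator G)) ?_ hk
    refine (Solvable.Cores.coprime_card_pPrimeCore (G := G) p).coprime_dvd_left ?_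
    exact (Subgroup.card_comap_dvd_of_injective _ _ (commutator G).subtype_injective)
  refine ⟨h3, fun h => ?_, hM, fun L hL => ?_, h1, h2⟩
  · have hall : ∀ q : ℕ, q.Prime → q ∣ O.index → q = p := fun q hq hd => by
      have hqG : q ∣ Nat.card G := hd.trans O.index_dvd_card
      have hle := h3 q hq hd
      rcases h with rfl | h
      · have : q ≠ 2 := by
          rintro rfl
          exact Nat.not_even_iff_odd.mpr hodd (even_iff_two_dvd.mpr hqG)
        have := hq.two_le
        omega
      · exact le_antisymm hle (h q hq hqG)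
    exact npc_of_index O (Solvable.Cores.coprime_card_pPrimeCore p)
      (Nat.eq_prime_pow_of_unique_prime_dvd Subgroup.index_ne_zero_of_finite fun {d} hd hdO => hall d hd hdO)
  · obtain ⟨P, N, hNn, hc⟩ := hM
    haveI := hNn
    have hNc : (Nat.card N).Coprime p := by
      have := P.not_dvd_index
      rw [hc.index_eq_card] at this
      exact ((hp.coprime_iff_not_dvd).mpr this).symm
    refine le_trans (fun x hx => ?_) (Solvable.Cores.le_pPrimeCore hNc)
    refine (QuotientGroup.eq_one_iff x).mp (orderOf_eq_one_iff.mp ?_)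
    obtain ⟨n, hn⟩ := P.isPGroup'.exists_card_eq
    refine Nat.eq_one_of_dvd_coprimes (hL.pow_right n)
      ((orderOf_map_dvd (QuotientGroup.mk' N) x).trans (Subgroup.orderOf_dvd_natCard _ hx)) ?_
    rw [← hn, ← hc.symm.index_eq_card, Subgroup.index_eq_card]
    exact orderOf_dvd_natCard _
end Cfsg.Agent.S1450
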