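import Cfsg.Statements.S1451
import Cfsg.Agent.Lib.OddOrder.RankTwoGlobal
import Cfsg.Agent.Lib.OddOrder.PStable
-- import your own Cfsg.Agent.* helpers here

set_option autoImplicit false
open Cfsg
open CfsgLib CfsgLib.OddOrder

namespace Cfsg.Agent.S1451

/-- Let G be a solvable group of odd order such that G, or its Fitting subgroup, has no elementary abelian subgroup of order q ^ 3 for any prime q. Then G' is nilpotent; for every Sylow subgroup S of G, every characteristic subgroup T of S with T ≤ [S, S] is normal in G; and for every prime p, G has a characteristic subgroup that is a Hall subgroup for the set of primes greater than p. -/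
theorem result {G : Type*} [Group G] [Finite G] [Group.IsSolvable G] (hodd : Odd (Nat.card G)) (hr : Cfsg.RankLE 2 G ∨ Cfsg.RankLE 2 (Cfsg.fittingSubgroup G)) :
    Group.IsNilpotent ↥(commutator G) ∧
      (∀ (q : ℕ) [Fact q.Prime] (S : Sylow q G) (T : Subgroup ↥(S : Subgroup G)), T.Characteristic → T.map (S : Subgroup G).subtype ≤ ⁅(S : Subgroup G), (S : Subgroup G)⁆ →
        (T.map (S : Subgroup G).subtype).Normal) ∧
      ∀ p : ℕ, ∃ N : Subgroup G, N.Characteristic ∧ Cfsg.IsPiHall {q | q.Prime ∧ p < q} N := by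
  have hr' : ∀ p : ℕ, p.Prime → Cfsg.PRankLE p 2 (Cfsg.pCore p G) := by
    intro p hp A hAc hAe
    haveI := Fact.mk hp
    have he : Cfsg.IsElementaryAbelian p (A.map (Cfsg.pCore p G).subtype) := Fusion.Thompson.isEA_map _ ⟨hAc, hAe⟩
    rw [← Subgroup.card_map_of_injective (Cfsg.pCore p G).subtype_injective]
    rcases hr with h | h
    · exact h p hp _ he.1 he.2
    · exact RankTwo.card_le_sq (h p hp) he
        ((Subgroup.map_subtype_le A).trans (Solvable.Cores.pCore_le_fittingSubgroup p))
  refine ⟨RankTwoGlobal.derived_isNilpotent hodd hr', fun q _ S T hT hTS => ?_, fun b => ?_⟩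
  · haveI := hT
    set F := Cfsg.fittingSubgroup G with hF
    haveI := Solvable.Cores.fittingSubgroup_isNilpotent (G := G)
    have hder := RankTwoGlobal.derived_le_fitting hodd hr'
    haveI hH : ((S : Subgroup G) ⊔ F).Normal := Subgroup.Normal.of_commutator_le (h := hder.trans le_sup_right)
    have hFr := Sylow.normalizer_sup_eq_top' S (le_sup_left : (S : Subgroup G) ≤ (S : Subgroup G) ⊔ F)
    set T' := T.map (S : Subgroup G).subtype with hT'
    have hT'F : T' ≤ F := hTS.trans ((Subgroup.commutator_mono le_top le_top).trans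
      ((commutator_def G).ge.trans hder))
    refine Subgroup.normalizer_eq_top_iff.mp (eq_top_iff.mpr (hFr.ge.trans ?_))
    have hS := PStable.normalizer_le_normalizer_map (S : Subgroup G) T
    refine sup_le hS (sup_le (Subgroup.le_normalizer.trans hS) (CN.le_of_primary fun r hr2 d hd hdr => ?_))
    haveI := Fact.mk hr2
    rcases eq_or_ne r q with rfl | hne
    · exact (Subgroup.le_normalizer.trans hS) (Solvable.Cores.pCore_le_sylow S
        (RankTwoGlobal.mem_pCore_of_mem hd hdr))
    · refine Subgroup.centralizer_le_normalizer _ (Subgroup.mem_centralizer_iff.mpr fun t ht => ?_)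
      obtain ⟨k, hk⟩ := S.isPGroup' ⟨t, Subgroup.map_subtype_le T ht⟩
      obtain ⟨j, -, hj⟩ := (Nat.dvd_prime_pow (Fact.out : q.Prime)).mp
        (orderOf_dvd_of_pow_eq_one (show t ^ q ^ k = 1 by simpa using congrArg Subtype.val hk))
      exact (Basic.commute_of_mem_nilpotent (hT'F ht) hd
        (RankTwoGlobal.isPrimePow_coprime Fact.out hr2 hne.symm ⟨j, hj⟩ hdr)).eq
  · set π := {q : ℕ | q.Prime ∧ b < q} with hπ
    have hcop : (Nat.card (Cfsg.piCore π G)).Coprime b.factorial :=
      Solvable.Cores.coprime_card_sSup _ _ (fun N hN => hN.1) fun N hN =>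
        Nat.coprime_of_dvd fun r hr2 h1 h2 =>
          absurd ((Nat.Prime.dvd_factorial hr2).mp h2) (not_le.mpr (hN.2 r hr2 h1).2)
    refine ⟨Cfsg.piCore π G, Subgroup.characteristic_iff_map_le.mpr fun e => ?_, fun r hr2 hd => ⟨hr2, ?_⟩,
      fun q hq hqπ hd => ?_⟩
    · rw [Cfsg.piCore, Subgroup.map_le_iff_le_comap]
      refine sSup_le fun N hN => Subgroup.map_le_iff_le_comap.mp (le_sSup ?_)
      refine ⟨hN.1.map e.toMonoidHom e.surjective, fun r hr2 hd => hN.2 r hr2 ?_⟩
      rwa [Subgroup.card_map_of_injective (f := e.toMonoidHom) e.injective] at hd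
    · exact not_le.mp fun hle =>
        hr2.ne_one (Nat.eq_one_of_dvd_coprimes hcop hd ((Nat.Prime.dvd_factorial hr2).mpr hle))
    · haveI := Fact.mk hq
      obtain ⟨Q⟩ : Nonempty (Sylow q G) := inferInstance
      refine Q.not_dvd_index (hd.trans (Subgroup.index_dvd_of_le fun x hx => ?_))
      obtain ⟨k, hk⟩ := Q.isPGroup' ⟨x, hx⟩
      obtain ⟨j, -, hj⟩ := (Nat.dvd_prime_pow hq).mp
        (orderOf_dvd_of_pow_eq_one (show x ^ q ^ k = 1 by simpa using congrArg Subtype.val hk))
      exact RankTwoGlobal.mem_piCore_large hodd hr' b hq hqπ.2 ⟨j, hj⟩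
end Cfsg.Agent.S1451
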