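import Cfsg.Statements.S1455
import Cfsg.Agent.Lib.OddOrder.NarrowSylow

set_option autoImplicit false
open Cfsg

namespace Cfsg.Agent.S1455

/-- Let G be a solvable group of odd order, p a prime dividing its order, and S a Sylow p-subgroup of G that is narrow; if S has an elementary abelian subgroup of order p ^ 3 assume also G = O_{p',p,p'}(G). Then every prime dividing the index of O_{p'}(G) is at most p; if p = 3 or p is the smallest prime divisor of #G then G has a normal p-complement; G' has a normal p-complement; every subgroup of G' of order coprime to p lies in O_{p'}(G'); and G' ≤ O_{p',p}(G) with the index of O_{p',p}(G) coprime to p. -/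
theorem result {G : Type*} [Group G] [Finite G] [Group.IsSolvable G] (hodd : Odd (Nat.card G)) (p : ℕ) [Fact p.Prime] (hpG : p ∣ Nat.card G) (S : Sylow p G) (hS : Cfsg.IsNarrow p ↥(S : Subgroup G))
    (hpl : ¬ Cfsg.PRankLE p 2 ↥(S : Subgroup G) → Cfsg.PLengthLE p 1 G) :
    (∀ q : ℕ, q.Prime → q ∣ (Cfsg.pPrimeCore p G).index → q ≤ p) ∧
      ((p = 3 ∨ ∀ q : ℕ, q.Prime → q ∣ Nat.card G → p ≤ q) → Cfsg.HasNormalPComplement p G) ∧
      Cfsg.HasNormalPComplement p ↥(commutator G) ∧
      (∀ L : Subgroup ↥(commutator G), (Nat.card L).Coprime p → L ≤ Cfsg.pPrimeCore p ↥(commutator G)) ∧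
      commutator G ≤ Cfsg.pPrimePCore p G ∧ ((Cfsg.pPrimePCore p G).index).Coprime p := by
  have hp2 : p ≠ 2 := fun h => Nat.not_even_iff_odd.mpr hodd (even_iff_two_dvd.mpr (h ▸ hpG))
  obtain ⟨h1, h2, h3⟩ := CfsgLib.OddOrder.NarrowSylow.main hodd hp2 S hS hpl
  refine ⟨h3, fun h => ?_, CfsgLib.OddOrder.NarrowSylow.hasNormalPComplement_of_le h1, fun L hL => ?_, h1, h2⟩
  · refine CfsgLib.OddOrder.NarrowSylow.hasNormalPComplement_of_index (N := Cfsg.pPrimeCore p G)
      (CfsgLib.Solvable.Cores.coprime_card_pPrimeCore p) fun q hq hd => ?_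
    have hle := h3 q hq hd
    have hqG : q ∣ Nat.card G := hd.trans (Subgroup.index_dvd_card _)
    rcases h with rfl | h
    · have hq2 : q ≠ 2 := fun e => Nat.not_even_iff_odd.mpr hodd (even_iff_two_dvd.mpr (e ▸ hqG))
      have := hq.two_le
      omega
    · exact le_antisymm hle (h q hq hqG)
  · have hmap : L.map (_root_.commutator G).subtype ≤ Cfsg.pPrimeCore p G :=
      CfsgLib.OddOrder.NarrowSylow.le_pPrimeCore_of_coprime ((Subgroup.map_subtype_le L).trans h1)
        (by rwa [Subgroup.card_map_of_injective (_root_.commutator G).subtype_injective])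
    haveI : ((Cfsg.pPrimeCore p G).subgroupOf (_root_.commutator G)).Normal := Subgroup.Normal.subgroupOf inferInstance _
    refine le_trans (fun x hx => ?_) (CfsgLib.Solvable.Cores.le_pPrimeCore (N := (Cfsg.pPrimeCore p G).subgroupOf
      (_root_.commutator G)) ((CfsgLib.Solvable.Cores.coprime_card_pPrimeCore (G := G) p).coprime_dvd_left
        (Subgroup.card_comap_dvd_of_injective _ (_root_.commutator G).subtype (_root_.commutator G).subtype_injective)))
    exact hmap ⟨x, hx, rfl⟩

end Cfsg.Agent.S1455
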