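import Cfsg.Statements.S1456
import Cfsg.Agent.Lib.Solvable.NarrowFitting

set_option autoImplicit false
open Cfsg
open CfsgLib CfsgLib.OddOrder

namespace Cfsg.Agent.S1456

/-- Let G be a solvable group of odd order, p a prime, and E an elementary abelian p-subgroup of the Fitting subgroup F(G) such that F(G) ∩ C_G(E) has no elementary abelian subgroup of order q ^ 3 for any prime q. Then the derived subgroup of G is contained in F(G). -/
theorem result {G : Type*} [Group G] [Finite G] [Group.IsSolvable G] (hodd : Odd (Nat.card G)) (p : ℕ) [Fact p.Prime] (E : Subgroup G) (hE : E ≤ Cfsg.fittingSubgroup G) (hEe : Cfsg.IsElementaryAbelian p E)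
    (hr : Cfsg.RankLE 2 ↥(Cfsg.fittingSubgroup G ⊓ Subgroup.centralizer (E : Set G))) :
    commutator G ≤ Cfsg.fittingSubgroup G := by
  refine Solvable.NarrowFitting.derived_le_fitting fun r q hr' hq hne x hx hxr => ?_
  haveI := Fact.mk hq
  set T := Cfsg.pCore q G with hT
  have hTp : IsPGroup q T := Solvable.Cores.isPGroup_pCore q
  rcases eq_or_ne q 2 with rfl | hq2
  · have hbot : T = ⊥ := by
      obtain ⟨k, hk⟩ := hTp.exists_card_eq
      refine Subgroup.card_eq_one.mp ?_
      rcases Nat.eq_zero_or_pos k with rfl | hk0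
      · rw [hk, pow_zero]
      · exact absurd (hodd.of_dvd_nat (Subgroup.card_subgroup_dvd_card T))
          (Nat.not_odd_iff_even.mpr (hk ▸ even_iff_two_dvd.mpr (dvd_pow_self 2 hk0.ne')))
    rw [hbot, Subgroup.mem_centralizer_iff]
    intro y hy
    rw [SetLike.mem_coe, Subgroup.mem_bot] at hy
    simp [hy]
  have hcop : (orderOf x).Coprime q := by
    obtain ⟨k, hk⟩ := hxr
    rw [hk]
    exact ((Nat.coprime_primes hr' hq).mpr hne).pow_left k
  refine Solvable.NarrowFitting.coreAct hodd hq2 T hTp ?_ hx hcop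
  haveI := Solvable.Cores.fittingSubgroup_isNilpotent (G := G)
  have hTF : T ≤ Cfsg.fittingSubgroup G := Solvable.Cores.pCore_le_fittingSubgroup q
  have hrq : Cfsg.PRankLE q 2 ↥(Cfsg.fittingSubgroup G ⊓ Subgroup.centralizer (E : Set G)) := hr q hq
  rcases eq_or_ne q p with rfl | hqp
  · have hET : E ≤ T := fun e he => by
      obtain ⟨j, -, hj⟩ := (Nat.dvd_prime_pow hq).mp
        (orderOf_dvd_of_pow_eq_one (show e ^ q ^ 1 = 1 by rw [pow_one]; exact hEe.2 e he))
      exact RankTwoGlobal.mem_pCore_of_mem (hE he) ⟨j, hj⟩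
    refine Solvable.NarrowFitting.isNarrow_of_centralizer hq2 hTp (Fusion.Thompson.isEA_subgroupOf hEe T) ?_
    intro A hAc hAe
    have h := Fusion.Thompson.isEA_map T.subtype (Fusion.Thompson.isEA_map
      (Subgroup.centralizer ((E.subgroupOf T : Subgroup T) : Set T)).subtype (p := q) ⟨hAc, hAe⟩)
    have hle := RankTwo.card_le_sq hrq h (by
      rintro _ ⟨_, ⟨a, -, rfl⟩, rfl⟩
      refine Subgroup.mem_inf.mpr ⟨hTF (a : T).2, Subgroup.mem_centralizer_iff.mpr fun e he => ?_⟩
      exact congrArg Subtype.val (Subgroup.mem_centralizer_iff.mp a.2 ⟨e, hET he⟩ he))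
    rwa [Subgroup.card_map_of_injective T.subtype_injective, Subgroup.card_map_of_injective
      (Subgroup.centralizer ((E.subgroupOf T : Subgroup T) : Set T)).subtype_injective] at hle
  · refine Or.inl fun A hAc hAe => ?_
    have h := Fusion.Thompson.isEA_map T.subtype (p := q) ⟨hAc, hAe⟩
    have hle := RankTwo.card_le_sq hrq h (by
      rintro _ ⟨a, ha, rfl⟩
      refine Subgroup.mem_inf.mpr ⟨hTF a.2, Subgroup.mem_centralizer_iff.mpr fun e he => ?_⟩
      have ho : ∀ (s : ℕ) (g : G), s.Prime → g ^ s = 1 → ∃ j, orderOf g = s ^ j := fun s g hs hg => by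
        obtain ⟨j, -, hj⟩ := (Nat.dvd_prime_pow hs).mp
          (orderOf_dvd_of_pow_eq_one (show g ^ s ^ 1 = 1 by rw [pow_one]; exact hg))
        exact ⟨j, hj⟩
      exact (Basic.commute_of_mem_nilpotent (hE he) (hTF a.2) (RankTwoGlobal.isPrimePow_coprime Fact.out hq
        (Ne.symm hqp) (ho p e Fact.out (hEe.2 e he)) (ho q _ hq (by simpa using congrArg Subtype.val (hAe a ha))))).eq)
    rwa [Subgroup.card_map_of_injective T.subtype_injective] at hle

end Cfsg.Agent.S1456
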