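import Cfsg.Statements.S1457
import Cfsg.Agent.Lib.OddOrder.PStable
import Cfsg.Agent.Lib.Components.PComponents

set_option autoImplicit false
open Cfsg
open scoped commutatorElement

namespace Cfsg.Agent.S1457

/-- Let G be a solvable group of odd order, p a prime, S a Sylow p-subgroup of G and A an abelian subgroup of S normal in S. Then A ≤ O_{p',p}(G). -/
theorem result {G : Type*} [Group G] [Finite G] [Group.IsSolvable G] (hodd : Odd (Nat.card G)) (p : ℕ) [Fact p.Prime] (S : Sylow p G) (A : Subgroup G) (hA : A ≤ (S : Subgroup G)) (hAc : IsMulCommutative A)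
    (hAn : (S : Subgroup G) ≤ Subgroup.normalizer (A : Set G)) :
    A ≤ Cfsg.pPrimePCore p G := by
  set O := Cfsg.pPrimeCore p G with hO
  set q := QuotientGroup.mk' O with hq
  have hbot : Cfsg.pPrimeCore p (G ⧸ O) = ⊥ := CfsgLib.Components.pPrimeCore_quotient_eq_bot
  have hCC : Subgroup.centralizer (Cfsg.pCore p (G ⧸ O) : Set (G ⧸ O)) ≤ Cfsg.pCore p (G ⧸ O) := by
    have hF := CfsgLib.Solvable.Cores.centralizer_fittingSubgroup_le (G := G ⧸ O)
    rwa [CfsgLib.Solvable.Cores.fittingSubgroup_eq_pCore p hbot] at hF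
  set P := Cfsg.pCore p (G ⧸ O)
  have hPp : IsPGroup p P := CfsgLib.Solvable.Cores.isPGroup_pCore p
  have hPS : P ≤ (S : Subgroup G).map q := by
    have h1 := CfsgLib.Solvable.Cores.pCore_le_sylow (S.mapSurjective (QuotientGroup.mk'_surjective O))
    rwa [Sylow.coe_mapSurjective] at h1
  haveI : IsMulCommutative (A.map q) := Subgroup.map_isMulCommutative A q
  have hn : P ≤ Subgroup.normalizer ((A.map q : Subgroup (G ⧸ O)) : Set (G ⧸ O)) :=
    le_trans hPS (le_trans (Subgroup.map_mono hAn) (Subgroup.le_normalizer_map _))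
  have h2 := CfsgLib.OddOrder.PStable.map_le_pCore (hodd.of_dvd_nat (Subgroup.card_quotient_dvd_card O)) P hPp
    (Subgroup.centralizer (P : Set (G ⧸ O))) rfl (A.map q) (CfsgLib.OddOrder.PStable.commutator_commutator_of_abelian hn)
  have h3 : A.map q ≤ P := by
    refine le_trans (Subgroup.map_le_iff_le_comap.mp h2) (CfsgLib.Solvable.Cores.le_pCore ?_)
    exact IsPGroup.comap_of_ker_isPGroup (CfsgLib.Solvable.Cores.isPGroup_pCore p) _
      (by rw [QuotientGroup.ker_mk']; exact hPp.to_le hCC)
  exact Subgroup.map_le_iff_le_comap.mp h3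

end Cfsg.Agent.S1457
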