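import Cfsg.Statements.S1459
import Cfsg.Agent.Lib.OddOrder.Stabilize
import Cfsg.Agent.Lib.Coprime.SchurZassenhaus
import Cfsg.Agent.Lib.Solvable.Cores
import Mathlib.GroupTheory.Abelianization.Defs

set_option autoImplicit false
open Cfsg
open scoped commutatorElement

namespace Cfsg.Agent.S1459

theorem hall_commutator {G : Type*} [Group G] [Finite G] [Group.IsSolvable G] (H K : Subgroup G) (hHn : H.Normal)
    (hH : (Nat.card H).Coprime H.index) (hc : Subgroup.IsComplement' H K) (hle : H ≤ commutator G) :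
    H = ⁅H, K⁆ ∧ H ⊓ Subgroup.centralizer (K : Set G) ≤ ⁅H, H⁆ := by
  haveI := hHn
  have htop : H ⊔ K = ⊤ := hc.sup_eq_top
  have hdisj : H ⊓ K = ⊥ := hc.disjoint.eq_bot
  have hDle : ⁅H, K⁆ ≤ H := Subgroup.commutator_le_left H K
  haveI hDn : (⁅H, K⁆).Normal := by
    rw [← Subgroup.normalizer_eq_top_iff, eq_top_iff, ← htop]
    exact sup_le (Subgroup.normalizer_commutator_ge_left H K) (Subgroup.normalizer_commutator_ge_right H K)
  haveI : (⁅H, H⁆).Normal := inferInstance
  set q := QuotientGroup.mk' ⁅H, K⁆ with hq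
  have hcomm : ∀ h ∈ H, ∀ k ∈ K, Commute (q h) (q k) := by
    intro h hh k hk
    rw [← commutatorElement_eq_one_iff_commute, ← map_commutatorElement]
    exact (QuotientGroup.eq_one_iff _).mpr (Subgroup.commutator_mem_commutator hh hk)
  set B := ⁅K, K⁆ with hB
  have hG' : commutator G ≤ (⁅H, H⁆ ⊔ ⁅H, K⁆) ⊔ B := by
    rw [commutator_eq_closure, Subgroup.closure_le]
    rintro _ ⟨x, y, rfl⟩
    obtain ⟨⟨⟨h1, hh1⟩, ⟨k1, hk1⟩⟩, e1⟩ := hc.2 x
    obtain ⟨⟨⟨h2, hh2⟩, ⟨k2, hk2⟩⟩, e2⟩ := hc.2 y
    simp only at e1 e2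
    subst e1 e2
    have e : q ⁅h1 * k1, h2 * k2⁆ = q (⁅h1, h2⁆ * ⁅k1, k2⁆) := by
      have c1 := (hcomm h1 hh1 k1 hk1).eq
      have c2 := (hcomm h2 hh2 k2 hk2).eq
      have c3 := (hcomm h1 hh1 k2 hk2)
      have c4 := (hcomm h2 hh2 k1 hk1)
      simp only [map_commutatorElement, map_mul]
      exact commutator_mul_mul (hcomm h1 hh1 k1 hk1) c3 c4 (hcomm h2 hh2 k2 hk2)
    have h3 : (⁅h1, h2⁆ * ⁅k1, k2⁆)⁻¹ * ⁅h1 * k1, h2 * k2⁆ ∈ ⁅H, K⁆ := by
      rw [← QuotientGroup.eq_one_iff]
      show q _ = 1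
      rw [map_mul, map_inv, e, inv_mul_cancel]
    set N0 := (⁅H, H⁆ ⊔ ⁅H, K⁆) ⊔ B
    have h4 : ⁅h1, h2⁆ * ⁅k1, k2⁆ ∈ N0 :=
      Subgroup.mul_mem_sup (Subgroup.mem_sup_left (Subgroup.commutator_mem_commutator hh1 hh2))
        (Subgroup.commutator_mem_commutator hk1 hk2)
    have := mul_mem h4 (Subgroup.mem_sup_left (T := B) (Subgroup.mem_sup_right (S := ⁅H, H⁆) h3))
    rwa [mul_inv_cancel_left] at this
  haveI : (⁅H, H⁆ ⊔ ⁅H, K⁆).Normal := inferInstance
  have hHsub : H ≤ ⁅H, H⁆ ⊔ ⁅H, K⁆ := by
    intro x hx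
    have h := hG' (hle hx)
    rw [Subgroup.mem_sup_of_normal_left] at h
    obtain ⟨y, hy, k, hk, rfl⟩ := h
    have hyH : y ∈ H := sup_le (Subgroup.commutator_le_self H) hDle hy
    have : k ∈ H ⊓ K := ⟨(Subgroup.mul_mem_cancel_left H hyH).mp hx, Subgroup.commutator_le_self K hk⟩
    rw [hdisj, Subgroup.mem_bot] at this
    rwa [this, mul_one]
  have hHD : H = ⁅H, K⁆ := by
    refine le_antisymm ?_ hDle
    have h1 : H.map q ≤ ⁅H.map q, H.map q⁆ := by
      refine le_trans (Subgroup.map_mono hHsub) ?_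
      rw [Subgroup.map_sup, Subgroup.map_commutator]
      refine sup_le le_rfl ?_
      rw [Subgroup.map_le_iff_le_comap]
      intro x hx
      rw [Subgroup.mem_comap, hq, QuotientGroup.mk'_apply, (QuotientGroup.eq_one_iff x).mpr hx]
      exact one_mem _
    have h2 : H.map q = ⊥ := by
      by_contra hne
      exact (CfsgLib.Coprime.commutator_self_lt (N := H.map q) inferInstance hne).not_ge h1
    rw [Subgroup.map_eq_bot_iff, QuotientGroup.ker_mk'] at h2
    exact h2
  refine ⟨hHD, ?_⟩
  rintro x ⟨hxH, hxK⟩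
  classical
  haveI : Fintype K := Fintype.ofFinite K
  let T : H →* Abelianization H :=
    { toFun := fun h => ∏ k : K, Abelianization.of ⟨(k : G) * h * (k : G)⁻¹, hHn.conj_mem _ h.2 k⟩
      map_one' := by
        refine Finset.prod_eq_one fun k _ => ?_
        convert map_one Abelianization.of using 2
        ext; simp
      map_mul' := fun a b => by
        rw [← Finset.prod_mul_distrib]
        refine Finset.prod_congr rfl fun k _ => ?_
        rw [← map_mul]
        congr 1
        ext; simp [mul_assoc] }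
  have hT : ∀ (k0 : K) (h : H), T ⟨(k0 : G) * h * (k0 : G)⁻¹, hHn.conj_mem _ h.2 k0⟩ = T h := by
    intro k0 h
    refine Fintype.prod_equiv (Equiv.mulRight k0) _ _ fun k => ?_
    congr 1
    ext; simp [mul_assoc]
  have hker : ⁅H, K⁆ ≤ T.ker.map H.subtype := by
    rw [Subgroup.commutator_le]
    intro h hh k hk
    refine ⟨⟨h, hh⟩ * ⟨k * h⁻¹ * k⁻¹, hHn.conj_mem _ (inv_mem hh) k⟩, ?_, by simp [commutatorElement_def, mul_assoc]⟩
    show T _ = 1
    rw [map_mul]
    have := hT ⟨k, hk⟩ ⟨h⁻¹, inv_mem hh⟩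
    simp only at this
    rw [this, ← map_mul]
    convert map_one T
    ext; simp
  have hT1 : ∀ h : H, T h = 1 := by
    intro h
    have h2 : (h : G) ∈ ⁅H, K⁆ := by rw [← hHD]; exact h.2
    obtain ⟨y, hy, e⟩ := hker h2
    rw [← Subtype.ext (show (y : G) = h from e)]
    exact hy
  have hx1 : (Abelianization.of (⟨x, hxH⟩ : H)) ^ Nat.card K = 1 := by
    rw [← hT1 ⟨x, hxH⟩]
    show _ = ∏ k : K, _
    rw [Finset.prod_congr rfl fun k _ => ?_, Finset.prod_const, Finset.card_univ, Nat.card_eq_fintype_card]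
    congr 1
    ext
    have := Subgroup.mem_centralizer_iff.mp hxK k k.2
    show (k : G) * x * (k : G)⁻¹ = x
    rw [this, mul_inv_cancel_right]
  have hcopK : (Nat.card H).Coprime (Nat.card K) := by rwa [← hc.symm.index_eq_card]
  have h3 : Abelianization.of (⟨x, hxH⟩ : H) = 1 := by
    rw [← orderOf_eq_one_iff]
    refine Nat.eq_one_of_dvd_coprimes hcopK ?_ (orderOf_dvd_of_pow_eq_one hx1)
    exact (orderOf_map_dvd _ _).trans (orderOf_dvd_natCard _)
  rw [← Subgroup.map_subtype_commutator]
  exact ⟨⟨x, hxH⟩, (QuotientGroup.eq_one_iff _).mp h3, rfl⟩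
where
  commutator_mul_mul {Q : Type _} [Group Q] {a b c d : Q} (hab : Commute a b) (had : Commute a d)
      (hcb : Commute c b) (hcd : Commute c d) : ⁅a * b, c * d⁆ = ⁅a, c⁆ * ⁅b, d⁆ := by
    simp only [commutatorElement_def, mul_inv_rev]
    calc a * b * (c * d) * (b⁻¹ * a⁻¹) * (d⁻¹ * c⁻¹)
        = a * (b * c) * d * (b⁻¹ * a⁻¹) * d⁻¹ * c⁻¹ := by group
      _ = a * c * (b * d * b⁻¹) * (a⁻¹ * d⁻¹) * c⁻¹ := by rw [← hcb.eq]; group
      _ = a * c * ((b * d * b⁻¹ * d⁻¹) * a⁻¹) * c⁻¹ := by rw [(had.inv_left.inv_right).eq]; group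
      _ = a * c * a⁻¹ * ((b * d * b⁻¹ * d⁻¹) * c⁻¹) := by
          rw [← ((((hab.mul_right had).mul_right hab.inv_right).mul_right had.inv_right).inv_left).eq]; group
      _ = a * c * a⁻¹ * c⁻¹ * (b * d * b⁻¹ * d⁻¹) := by
          rw [← ((((hcb.mul_right hcd).mul_right hcb.inv_right).mul_right hcd.inv_right).inv_left).eq]; group

theorem commutator_eq_bot_of_prime_index {Q : Type*} [Group Q] [Finite Q] [Group.IsNilpotent Q]
    (h : (commutator Q).index.Prime) : commutator Q = ⊥ := by
  haveI := Fact.mk h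
  obtain ⟨g, hg⟩ : ∃ g, g ∉ commutator Q := by
    by_contra hne
    simp only [not_exists, not_not] at hne
    exact h.ne_one (Subgroup.index_eq_one.mpr (eq_top_iff.mpr fun x _ => hne x))
  have htop : Subgroup.zpowers g = ⊤ := by
    by_contra hne
    obtain ⟨M, hM, hle⟩ := (eq_top_or_exists_le_coatom _).resolve_left hne
    haveI : M.Normal := Subgroup.NormalizerCondition.normal_of_coatom M Group.normalizerCondition_of_isNilpotent hM
    haveI : IsSimpleGroup (Q ⧸ M) := by
      haveI : Nontrivial (Q ⧸ M) := QuotientGroup.nontrivial_iff.mpr hM.1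
      refine ⟨fun L hL => ?_⟩
      have hle : M ≤ L.comap (QuotientGroup.mk' M) := QuotientGroup.le_comap_mk' M L
      have hs := QuotientGroup.mk'_surjective M
      rcases eq_or_lt_of_le hle with he | hlt
      · left
        rw [← Subgroup.map_comap_eq_self_of_surjective hs L, ← he, QuotientGroup.map_mk'_self]
      · right
        rw [← Subgroup.map_comap_eq_self_of_surjective hs L, hM.2 _ hlt, Subgroup.map_top_of_surjective _ hs]
    haveI : IsMulCommutative (Q ⧸ M) := ⟨⟨fun a b => by
      have h1 : Subgroup.center (Q ⧸ M) = ⊤ :=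
        (IsSimpleGroup.eq_bot_or_eq_top_of_normal _ inferInstance).resolve_left (Group.IsNilpotent.center_ne_bot _)
      have h2 : a ∈ Subgroup.center (Q ⧸ M) := h1 ▸ Subgroup.mem_top a
      exact (Subgroup.mem_center_iff.mp h2 b).symm⟩⟩
    have h2 : commutator Q ≤ M := Subgroup.Normal.quotient_commutative_iff_commutator_le.mp inferInstance
    have h3 := Subgroup.relIndex_mul_index h2
    rcases (Nat.dvd_prime h).mp (Dvd.intro_left _ h3) with h4 | h4
    · exact hM.1 (Subgroup.index_eq_one.mp h4)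
    · have : (commutator Q).relIndex M = 1 := by
        rw [h4] at h3
        exact Nat.eq_of_mul_eq_mul_right h.pos (h3.trans (one_mul _).symm)
      rw [Subgroup.relIndex_eq_one] at this
      exact hg (this (hle (Subgroup.mem_zpowers g)))
  have hz : IsCyclic Q := ⟨g, fun x => by
    have hx := Subgroup.mem_top x
    rw [← htop] at hx
    exact Subgroup.mem_zpowers_iff.mp hx⟩
  rw [commutator_eq_closure, Subgroup.closure_eq_bot_iff]
  rintro _ ⟨a, b, rfl⟩
  letI := IsCyclic.commGroup (α := Q)
  exact commutatorElement_eq_one_iff_mul_comm.mpr (mul_comm a b)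

theorem derived_coprime {G : Type*} [Group G] [Finite G] (hnil : Group.IsNilpotent ↥(commutator G))
    (hp : (commutator G).index.Prime) : (Nat.card ↥(commutator G)).Coprime (commutator G).index := by
  haveI := hnil
  set p := (commutator G).index with hpdef
  haveI := Fact.mk hp
  set D := commutator G
  set R0 := pPrimeCore p D with hR0
  have hR0c : (Nat.card R0).Coprime p := CfsgLib.Solvable.Cores.coprime_card_pPrimeCore p
  have hRidx : ∀ r : ℕ, r.Prime → r ∣ R0.index → r = p := by
    intro r hr hd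
    by_contra hne
    haveI := Fact.mk hr
    obtain ⟨S⟩ : Nonempty (Sylow r D) := inferInstance
    have hall : ∀ (l : ℕ) (_hl : Fact l.Prime) (P : Sylow l D), (↑P : Subgroup D).Normal :=
      Iff.mp (Group.isNilpotent_of_finite_tfae.out 0 3) hnil
    haveI : (S : Subgroup D).Normal := hall r inferInstance S
    have hS : (S : Subgroup D) ≤ R0 := by
      refine CfsgLib.Solvable.Cores.le_pPrimeCore ?_
      obtain ⟨n, hn⟩ := IsPGroup.iff_card.mp S.isPGroup'
      rw [hn]; exact Nat.Coprime.pow_left _ ((Nat.coprime_primes hr hp).mpr hne)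
    exact Sylow.not_dvd_index' S Subgroup.index_ne_zero_of_finite (hd.trans (Subgroup.index_dvd_of_le hS))
  haveI : (R0.map D.subtype).Normal := by
    haveI : R0.Characteristic := inferInstance
    infer_instance
  set R := R0.map D.subtype with hR
  have hRD : R ≤ D := Subgroup.map_subtype_le _
  set q := QuotientGroup.mk' R with hq
  have hQp : IsPGroup p (G ⧸ R) := by
    have hidx : R.index = R0.index * p := by
      rw [← Subgroup.relIndex_mul_index hRD, Subgroup.relIndex, hR, Subgroup.subgroupOf,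
        Subgroup.comap_map_eq_self_of_injective D.subtype_injective]
    refine IsPGroup.of_card (n := (R.index).primeFactorsList.length) ?_
    rw [← Subgroup.index_eq_card]
    exact Nat.eq_prime_pow_of_unique_prime_dvd Subgroup.index_ne_zero_of_finite (fun {r} hr hd => by
      rcases hr.dvd_mul.mp (hidx ▸ hd) with h | h
      · exact hRidx r hr h
      · exact (Nat.prime_dvd_prime_iff_eq hr hp).mp h)
  haveI := hQp.isNilpotent
  have hc : commutator (G ⧸ R) = D.map q := by
    rw [show D = ⁅(⊤ : Subgroup G), ⊤⁆ from rfl, Subgroup.map_commutator,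
      Subgroup.map_top_of_surjective _ (QuotientGroup.mk'_surjective R)]
    rfl
  have hDR : D ≤ R := by
    have h2 : (commutator (G ⧸ R)).index = p := by
      rw [hc, Subgroup.index_map_eq _ (QuotientGroup.mk'_surjective R) (by rwa [QuotientGroup.ker_mk'])]
    have := commutator_eq_bot_of_prime_index (Q := G ⧸ R) (by rw [h2]; exact hp)
    rw [hc, Subgroup.map_eq_bot_iff, QuotientGroup.ker_mk'] at this
    exact this
  refine Nat.Coprime.coprime_dvd_left (Subgroup.card_dvd_of_le hDR) ?_
  rw [hR, Subgroup.card_map_of_injective D.subtype_injective]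
  exact hR0c


/-- Let G be a finite solvable group. (a) If H is a normal subgroup of order coprime to its index, K is a complement to H, and H ≤ G', then H = [H, K] and H ∩ C_G(K) ≤ [H, H]. (b) If G' is nilpotent and has prime index in G, then the order of G' is coprime to its index and G' = [G, K] (the subgroup generated by commutators of elements of G with elements of K) for every complement K of G'. -/
theorem result {G : Type*} [Group G] [Finite G] [Group.IsSolvable G] :
    (∀ (H K : Subgroup G), H.Normal → (Nat.card H).Coprime H.index → Subgroup.IsComplement' H K → H ≤ commutator G →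
        H = ⁅H, K⁆ ∧ H ⊓ Subgroup.centralizer (K : Set G) ≤ ⁅H, H⁆) ∧
      (Group.IsNilpotent ↥(commutator G) → (commutator G).index.Prime →
        (Nat.card ↥(commutator G)).Coprime (commutator G).index ∧
        ∀ K : Subgroup G, Subgroup.IsComplement' (commutator G) K → commutator G = ⁅(⊤ : Subgroup G), K⁆) := by
  refine ⟨fun H K hHn hH hc hle => hall_commutator H K hHn hH hc hle, fun hnil hp => ?_⟩
  have hcop := derived_coprime hnil hp
  refine ⟨hcop, fun K hK => le_antisymm ?_ ?_⟩
  · conv_lhs => rw [(hall_commutator (commutator G) K inferInstance hcop hK le_rfl).1]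
    exact Subgroup.commutator_mono le_top le_rfl
  · exact Subgroup.commutator_mono le_rfl le_top

end Cfsg.Agent.S1459
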