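import Cfsg.Statements.S1460
import Cfsg.Agent.Lib.Coprime.SchurZassenhaus

set_option autoImplicit false
open Cfsg
open scoped commutatorElement

namespace Cfsg.Agent.S1460

theorem factor {G : Type*} [Group G] [Finite G] [Group.IsSolvable G] (K U H : Subgroup G) [K.Normal]
    (hKU : K ⊔ U = ⊤) (hH : H ≤ U) (hcop : (Nat.card H).Coprime (Nat.card K))
    (g : G) (hg : H.map (MulAut.conj g).toMonoidHom ≤ U) :
    ∃ u ∈ U, ∃ c ∈ K ⊓ Subgroup.centralizer (H : Set G), g = u * c := by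
  have hg' : g ∈ U ⊔ K := by rw [sup_comm, hKU]; exact Subgroup.mem_top g
  rw [Subgroup.mem_sup_of_normal_right] at hg'
  obtain ⟨u₀, hu₀, k, hk, rfl⟩ := hg'
  set D := K ⊓ U with hD
  have hUD : U ≤ Subgroup.normalizer (D : Set G) := by
    refine Subgroup.le_normalizer_iff.mpr fun u hu x hx => ⟨?_, U.mul_mem (U.mul_mem hu hx.2) (U.inv_mem hu)⟩
    exact ‹K.Normal›.conj_mem x hx.1 u
  set H' := H.map (MulAut.conj k).toMonoidHom with hH'
  have hk' : ∀ h ∈ H, k * h * k⁻¹ ∈ U := by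
    intro h hh
    have h1 : (u₀ * k) * h * (u₀ * k)⁻¹ ∈ U := hg ⟨h, hh, rfl⟩
    have := mul_mem (mul_mem (inv_mem hu₀) h1) hu₀
    simpa [mul_assoc] using this
  have hH'U : H' ≤ U := by rintro _ ⟨h, hh, rfl⟩; exact hk' h hh
  have hsup : H' ≤ D ⊔ H := by
    rintro _ ⟨h, hh, rfl⟩
    show k * h * k⁻¹ ∈ D ⊔ H
    have e : k * h * k⁻¹ = (k * h * k⁻¹ * h⁻¹) * h := by group
    rw [e]
    refine Subgroup.mul_mem_sup ⟨?_, U.mul_mem (hk' h hh) (U.inv_mem (hH hh))⟩ hh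
    have e2 : k * h * k⁻¹ * h⁻¹ = k * (h * k⁻¹ * h⁻¹) := by group
    rw [e2]
    exact mul_mem hk (‹K.Normal›.conj_mem _ (inv_mem hk) h)
  obtain ⟨d, hd, hconj⟩ := CfsgLib.Coprime.exists_conj_eq (N := D) (H := H') (K := H) (Or.inl inferInstance)
    (le_trans hH'U hUD) (le_trans hH hUD) hsup (CfsgLib.Coprime.card_conj_map H k)
    (by
      rw [hH', CfsgLib.Coprime.card_conj_map]
      exact (hcop.symm.coprime_dvd_left (Subgroup.card_dvd_of_le inf_le_left)))
  refine ⟨u₀ * d⁻¹, mul_mem hu₀ (inv_mem hd.2), d * k, ⟨mul_mem hd.1 hk, ?_⟩, by group⟩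
  show d * k ∈ Subgroup.centralizer (H : Set G)
  rw [Subgroup.mem_centralizer_iff]
  intro h hh
  have hmem : (d * k) * h * (d * k)⁻¹ ∈ H := by
    have hxm : d * (k * h * k⁻¹) * d⁻¹ ∈ H'.map (MulAut.conj d).toMonoidHom := ⟨_, ⟨h, hh, rfl⟩, rfl⟩
    rw [hconj] at hxm
    simpa [mul_assoc] using hxm
  have h2 : (d * k) * h * (d * k)⁻¹ * h⁻¹ ∈ K ⊓ H := by
    refine ⟨?_, H.mul_mem hmem (H.inv_mem hh)⟩
    have e : d * k * h * (d * k)⁻¹ * h⁻¹ = (d * k) * (h * (d * k)⁻¹ * h⁻¹) := by group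
    rw [e]
    exact mul_mem (mul_mem hd.1 hk) (‹K.Normal›.conj_mem _ (inv_mem (mul_mem hd.1 hk)) h)
  rw [disjoint_iff.mp (Subgroup.disjoint_of_coprime_natCard hcop.symm), Subgroup.mem_bot,
    mul_inv_eq_one, mul_inv_eq_iff_eq_mul] at h2
  exact h2.symm

theorem derived {G : Type*} [Group G] [Finite G] [Group.IsSolvable G] (K U H : Subgroup G) [K.Normal]
    (hKU : K ⊔ U = ⊤) (hH : H ≤ U) (hcop : (Nat.card H).Coprime (Nat.card K))
    (x : G) (hxH : x ∈ H) (hx : x ∈ commutator G) : x ∈ ⁅U, U⁆ := by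
  set q := QuotientGroup.mk' K
  have hUtop : U.map q = ⊤ := by
    have := congrArg (Subgroup.map q) hKU
    rwa [Subgroup.map_sup, QuotientGroup.map_mk'_self, bot_sup_eq,
      Subgroup.map_top_of_surjective _ (QuotientGroup.mk'_surjective K)] at this
  have h1 : q x ∈ (⁅U, U⁆).map q := by
    rw [Subgroup.map_commutator, hUtop]
    have h2 : q x ∈ (commutator G).map q := Subgroup.mem_map_of_mem q hx
    rw [show commutator G = ⁅(⊤ : Subgroup G), ⊤⁆ from rfl, Subgroup.map_commutator,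
      Subgroup.map_top_of_surjective _ (QuotientGroup.mk'_surjective K)] at h2
    exact h2
  obtain ⟨y, hy, e⟩ := h1
  have hyK : y⁻¹ * x ∈ K := by
    rw [← QuotientGroup.eq_one_iff]
    show q _ = 1
    rw [map_mul, map_inv, e, inv_mul_cancel]
  have hyU : y⁻¹ * x ∈ U := mul_mem (inv_mem (Subgroup.commutator_le_self U hy)) (hH hxH)
  have hyC : (⟨y, Subgroup.commutator_le_self U hy⟩ : U) ∈ commutator U := by
    rw [← Subgroup.map_subtype_commutator] at hy
    obtain ⟨y', hy', rfl⟩ := hy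
    exact hy'
  have e2 : Abelianization.of (⟨x, hH hxH⟩ : U) = Abelianization.of ⟨y⁻¹ * x, hyU⟩ := by
    have e3 : (⟨x, hH hxH⟩ : U) = ⟨y, Subgroup.commutator_le_self U hy⟩ * ⟨y⁻¹ * x, hyU⟩ := by
      ext; simp
    have e4 : Abelianization.of (⟨y, Subgroup.commutator_le_self U hy⟩ : U) = 1 :=
      (QuotientGroup.eq_one_iff _).mpr hyC
    rw [e3, map_mul, e4, one_mul]
  have h3 : Abelianization.of (⟨x, hH hxH⟩ : U) = 1 := by
    rw [← orderOf_eq_one_iff]
    refine Nat.eq_one_of_dvd_coprimes hcop ?_ ?_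
    · refine (orderOf_map_dvd _ _).trans ?_
      rw [Subgroup.orderOf_mk]
      simpa using (Subgroup.orderOf_coe (⟨x, hxH⟩ : H)) ▸ orderOf_dvd_natCard (⟨x, hxH⟩ : H)
    · rw [e2]
      refine (orderOf_map_dvd _ _).trans ?_
      rw [Subgroup.orderOf_mk]
      simpa using (Subgroup.orderOf_coe (⟨_, hyK⟩ : K)) ▸ orderOf_dvd_natCard (⟨_, hyK⟩ : K)
  rw [← Subgroup.map_subtype_commutator]
  exact ⟨⟨x, hH hxH⟩, (QuotientGroup.eq_one_iff _).mp h3, rfl⟩


/-- Let G be a finite solvable group, K a normal subgroup and U a subgroup with G = KU, and H ≤ U a subgroup whose order is coprime to that of K. Then H ∩ G' = H ∩ U'; N_G(H) is generated by K ∩ C_G(H) and U ∩ N_G(H); and if gHg⁻¹ ≤ U for some g ∈ G then g = u c with u ∈ U and c ∈ K ∩ C_G(H). -/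
theorem result {G : Type*} [Group G] [Finite G] [Group.IsSolvable G] (K U H : Subgroup G) [K.Normal] (hKU : K ⊔ U = ⊤) (hH : H ≤ U) (hcop : (Nat.card H).Coprime (Nat.card K)) :
    H ⊓ commutator G = H ⊓ ⁅U, U⁆ ∧
      Subgroup.normalizer (H : Set G) = (K ⊓ Subgroup.centralizer (H : Set G)) ⊔ (U ⊓ Subgroup.normalizer (H : Set G)) ∧
      ∀ g : G, H.map (MulAut.conj g).toMonoidHom ≤ U → ∃ u ∈ U, ∃ c ∈ K ⊓ Subgroup.centralizer (H : Set G), g = u * c := by
  have main : ∀ g : G, H.map (MulAut.conj g).toMonoidHom ≤ U → ∃ u ∈ U, ∃ c ∈ K ⊓ Subgroup.centralizer (H : Set G), g = u * c :=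
    fun g hg => factor K U H hKU hH hcop g hg
  have h1 : H ⊓ commutator G ≤ H ⊓ ⁅U, U⁆ := fun x hx => ⟨hx.1, derived K U H hKU hH hcop x hx.1 hx.2⟩
  have h2 : Subgroup.normalizer (H : Set G) ≤
      (K ⊓ Subgroup.centralizer (H : Set G)) ⊔ (U ⊓ Subgroup.normalizer (H : Set G)) := by
    intro g hg
    obtain ⟨u, hu, c, hc, rfl⟩ := main g (le_of_eq_of_le (CfsgLib.Coprime.conj_map_eq_self_of_mem_normalizer hg) hH)
    have hcN : c ∈ Subgroup.normalizer (H : Set G) := Subgroup.centralizer_le_normalizer _ hc.2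
    have huN : u ∈ Subgroup.normalizer (H : Set G) := (Subgroup.mul_mem_cancel_right _ hcN).mp hg
    exact mul_mem (Subgroup.mem_sup_right ⟨hu, huN⟩) (Subgroup.mem_sup_left hc)
  refine ⟨le_antisymm h1 (inf_le_inf_left H (Subgroup.commutator_mono le_top le_top)),
    le_antisymm h2 (sup_le ?_ inf_le_right), main⟩
  exact le_trans inf_le_right (Subgroup.centralizer_le_normalizer _)

end Cfsg.Agent.S1460
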