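import Cfsg.Statements.S1461
import Cfsg.Agent.Lib.OddOrder.PLengthOne
-- import your own Cfsg.Agent.* helpers here

set_option autoImplicit false
open Cfsg
open CfsgLib CfsgLib.OddOrder

namespace Cfsg.Agent.S1461

/-- Let G be a finite solvable group, p a prime with G = O_{p',p,p'}(G), and S a Sylow p-subgroup. Then: if S ≤ G' then S ≤ [N_G(S), N_G(S)]; if Y ⊆ S and xYx⁻¹ ⊆ S then x = g c for some g ∈ N_G(S) and c centralizing Y; and for every p-subgroup Q there is x ∈ C_G(Q ∩ S) with xQx⁻¹ ≤ S. -/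
theorem result {G : Type*} [Group G] [Finite G] [Group.IsSolvable G] (p : ℕ) [Fact p.Prime] (hpl : Cfsg.PLengthLE p 1 G) (S : Sylow p G) :
    ((S : Subgroup G) ≤ commutator G → (S : Subgroup G) ≤ ⁅Subgroup.normalizer ((S : Subgroup G) : Set G), Subgroup.normalizer ((S : Subgroup G) : Set G)⁆) ∧
      (∀ (Y : Set G) (x : G), Y ⊆ (S : Subgroup G) → (fun y => x * y * x⁻¹) '' Y ⊆ (S : Subgroup G) →
        ∃ g ∈ Subgroup.normalizer ((S : Subgroup G) : Set G), ∃ c ∈ Subgroup.centralizer Y, g * c = x) ∧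
      ∀ Q : Subgroup G, IsPGroup p Q → ∃ x ∈ Subgroup.centralizer ((Q ⊓ (S : Subgroup G) : Subgroup G) : Set G), Q.map (MulAut.conj x).toMonoidHom ≤ (S : Subgroup G) := by
  refine ⟨fun hSG s hs => ?_, fun Y x hY hx => ?_, fun Q hQ => ?_⟩
  · set N := Subgroup.normalizer ((S : Subgroup G) : Set G) with hN
    set O := Cfsg.pPrimeCore p G with hO
    set q := QuotientGroup.mk' O with hq
    have hNtop : N.map q = ⊤ := by
      refine eq_top_iff.mpr fun y _ => ?_
      obtain ⟨x, rfl⟩ := QuotientGroup.mk'_surjective O y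
      obtain ⟨n, hn, o, ho, rfl⟩ := PLengthOne.exists_decomp S hpl x
      refine ⟨n, hn, ?_⟩
      rw [map_mul]
      show q n = q n * q o
      rw [show q o = 1 from (QuotientGroup.eq_one_iff o).mpr ho, mul_one]
    have hcomm : (commutator G).map q = (⁅N, N⁆).map q := by
      rw [commutator_def, Subgroup.map_commutator, Subgroup.map_commutator, hNtop,
        Subgroup.map_top_of_surjective _ (QuotientGroup.mk'_surjective O)]
    have hmem : q s ∈ (⁅N, N⁆).map q := hcomm ▸ Subgroup.mem_map_of_mem q (hSG hs)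
    obtain ⟨n, hn, hns⟩ := hmem
    have ho : n⁻¹ * s ∈ O := QuotientGroup.eq.mp hns
    have hnN : n ∈ N := Subgroup.commutator_le_self N hn
    have hsN : s ∈ N := Subgroup.le_normalizer hs
    -- pass to the abelianisation of `N`
    set ab := Abelianization.of (G := N) with hab
    have hn1 : ab ⟨n, hnN⟩ = 1 := by
      refine (QuotientGroup.eq_one_iff _).mpr ?_
      have : (⟨n, hnN⟩ : N) ∈ (⁅N, N⁆).subgroupOf N := hn
      rwa [← Subgroup.map_subtype_commutator, Subgroup.subgroupOf,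
        Subgroup.comap_map_eq_self_of_injective N.subtype_injective] at this
    have he : ab ⟨s, hsN⟩ = ab ⟨n⁻¹ * s, mul_mem (inv_mem hnN) hsN⟩ := by
      have : (⟨n⁻¹ * s, mul_mem (inv_mem hnN) hsN⟩ : N) = ⟨n, hnN⟩⁻¹ * ⟨s, hsN⟩ := rfl
      rw [this, map_mul, map_inv, hn1, inv_one, one_mul]
    obtain ⟨k, hk⟩ := S.isPGroup' ⟨s, hs⟩
    have h1 : orderOf (ab ⟨s, hsN⟩) ∣ p ^ k := by
      refine orderOf_dvd_of_pow_eq_one ?_
      rw [← map_pow, show (⟨s, hsN⟩ : N) ^ p ^ k = 1 from Subtype.ext (by simpa using congrArg Subtype.val hk), map_one]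
    have h2 : orderOf (ab ⟨s, hsN⟩) ∣ Nat.card O := by
      rw [he]
      refine (orderOf_map_dvd ab _).trans ?_
      rw [← Subgroup.orderOf_coe]
      exact Subgroup.orderOf_dvd_natCard _ ho
    have h3 : ab ⟨s, hsN⟩ = 1 := orderOf_eq_one_iff.mp (Nat.eq_one_of_dvd_coprimes
      (((CfsgLib.Solvable.Cores.coprime_card_pPrimeCore (G := G) p).symm).pow_left k) h1 h2)
    have h4 : (⟨s, hsN⟩ : N) ∈ commutator N := (QuotientGroup.eq_one_iff _).mp h3
    rw [← Subgroup.map_subtype_commutator]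
    exact ⟨_, h4, rfl⟩
  · obtain ⟨g, hg, o, ho, rfl⟩ := PLengthOne.exists_decomp S hpl x
    refine ⟨g, hg, o, Subgroup.mem_centralizer_iff.mpr fun y hy => ?_, rfl⟩
    refine (PLengthOne.commute_of_conj_mem S ho (hY hy) ?_).symm
    have h := hx ⟨y, hy, rfl⟩
    have h' := (Subgroup.mem_normalizer_iff.mp (inv_mem hg) _).mp h
    simpa [mul_assoc] using h'
  · obtain ⟨T, hT⟩ := hQ.exists_le_sylow
    obtain ⟨a, ha⟩ := MulAction.exists_smul_eq G T S
    obtain ⟨n, hn, o, ho, rfl⟩ := PLengthOne.exists_decomp S hpl a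
    have hmap : ∀ y ∈ Q, o * y * o⁻¹ ∈ (S : Subgroup G) := by
      intro y hy
      have h : n * o * y * (n * o)⁻¹ ∈ (S : Subgroup G) := by
        rw [← ha, Sylow.coe_subgroup_smul]
        exact ⟨y, hT hy, rfl⟩
      have h' := (Subgroup.mem_normalizer_iff.mp (inv_mem hn) _).mp h
      simpa [mul_assoc] using h'
    refine ⟨o, Subgroup.mem_centralizer_iff.mpr fun y hy => ?_, ?_⟩
    · exact (PLengthOne.commute_of_conj_mem S ho hy.2 (hmap y hy.1)).symm
    · rintro _ ⟨y, hy, rfl⟩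
      exact hmap y hy

end Cfsg.Agent.S1461
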