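import Cfsg.Statements.S1466
import Cfsg.Agent.Lib.OddOrder.SelfCentralizing

set_option autoImplicit false
open Cfsg
open scoped commutatorElement

namespace Cfsg.Agent.S1466

/-- Let p be a prime and R a nontrivial finite p-group. Then for every i > 0, Z(R) ≤ C_R(L_i(R)) ≤ L_i(R); likewise Z(R) ≤ C_R(L_*(R)) ≤ L_*(R) and Z(R) ≤ C_R(L(R)) ≤ L(R); and L(R) ≠ 1, L_*(R) ≠ 1. -/
theorem result {R : Type*} [Group R] [Finite R] (p : ℕ) [Fact p.Prime] (hR : IsPGroup p R) [Nontrivial R] :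
    (∀ i : ℕ, 0 < i → Subgroup.center R ≤ Subgroup.centralizer ((Cfsg.puigSeq R i : Subgroup R) : Set R) ∧
        Subgroup.centralizer ((Cfsg.puigSeq R i : Subgroup R) : Set R) ≤ Cfsg.puigSeq R i) ∧
      (Subgroup.center R ≤ Subgroup.centralizer ((Cfsg.puigLower R : Subgroup R) : Set R) ∧ Subgroup.centralizer ((Cfsg.puigLower R : Subgroup R) : Set R) ≤ Cfsg.puigLower R) ∧
      (Subgroup.center R ≤ Subgroup.centralizer ((Cfsg.puigSubgroup R : Subgroup R) : Set R) ∧ Subgroup.centralizer ((Cfsg.puigSubgroup R : Subgroup R) : Set R) ≤ Cfsg.puigSubgroup R) ∧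
      Cfsg.puigSubgroup R ≠ ⊥ ∧ Cfsg.puigLower R ≠ ⊥ := by
  haveI := hR.isNilpotent
  obtain ⟨A, -, hAn, hAc, hAA⟩ :=
    CfsgLib.OddOrder.SelfCentralizing.exists_selfcentralizing (⊥ : Subgroup R)
  haveI := hAn
  have hA1 : A ≠ ⊥ := by
    intro h
    rw [h] at hAA
    have : (⊤ : Subgroup R) = ⊥ := by
      rw [← hAA]
      refine le_antisymm (fun x _ => ?_) le_top
      rw [Subgroup.mem_centralizer_iff]
      intro y hy
      rw [Subgroup.coe_bot, Set.mem_singleton_iff] at hy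
      simp [hy]
    exact top_ne_bot this
  have hstep : ∀ X : Subgroup R, A ≤ puigStep X := fun X =>
    le_sSup (s := {B : Subgroup R | IsMulCommutative B ∧ X ≤ Subgroup.normalizer (B : Set R)})
      ⟨hAc, by rw [Subgroup.normalizer_eq_top]; exact le_top⟩
  have hself : ∀ L : Subgroup R, A ≤ L →
      Subgroup.center R ≤ Subgroup.centralizer (L : Set R) ∧ Subgroup.centralizer (L : Set R) ≤ L := fun L hL =>
    ⟨Subgroup.center_le_centralizer _, le_trans (le_trans (Subgroup.centralizer_le hL) hAA.le) hL⟩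
  have hseq : ∀ i : ℕ, 0 < i → A ≤ puigSeq R i := by
    intro i hi
    obtain ⟨j, rfl⟩ := Nat.exists_eq_add_of_le' hi
    exact hstep _
  have hU : A ≤ puigSubgroup R := le_iInf fun n => hseq _ (Nat.succ_pos _)
  have hL : A ≤ puigLower R := le_trans (hseq (2 * 1) (by norm_num)) (le_iSup (fun n => puigSeq R (2 * n)) 1)
  exact ⟨fun i hi => hself _ (hseq i hi), hself _ hL, hself _ hU, fun h => hA1 (le_bot_iff.mp (h ▸ hU)),
    fun h => hA1 (le_bot_iff.mp (h ▸ hL))⟩

end Cfsg.Agent.S1466
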