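import Cfsg.Statements.S1469
import Cfsg.Agent.Lib.OddOrder.Puig
import Cfsg.Agent.Lib.Components.PComponents
-- import your own Cfsg.Agent.* helpers here

set_option autoImplicit false
open Cfsg
open CfsgLib CfsgLib.OddOrder

namespace Cfsg.Agent.S1469

/-- Let p be an odd prime, G a solvable group of odd order and S a Sylow p-subgroup, and let Z be the centre of the Puig subgroup L(S), viewed inside G. Then G is generated by O_{p'}(G) and N_G(Z); and if O_{p'}(G) = 1 then Z is normal in G. -/
theorem result {G : Type*} [Group G] [Finite G] [Group.IsSolvable G] (hodd : Odd (Nat.card G)) (p : ℕ) [Fact p.Prime] (hp : p ≠ 2) (S : Sylow p G) :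
    Cfsg.pPrimeCore p G ⊔ Subgroup.normalizer ((((Subgroup.center ↥(Cfsg.puigSubgroup ↥(S : Subgroup G))).map (Cfsg.puigSubgroup ↥(S : Subgroup G)).subtype).map (S : Subgroup G).subtype : Subgroup G) : Set G) = ⊤ ∧
      (Cfsg.pPrimeCore p G = ⊥ → (((Subgroup.center ↥(Cfsg.puigSubgroup ↥(S : Subgroup G))).map (Cfsg.puigSubgroup ↥(S : Subgroup G)).subtype).map (S : Subgroup G).subtype).Normal) := by
  have hZ : ((Subgroup.center ↥(Cfsg.puigSubgroup ↥(S : Subgroup G))).map
      (Cfsg.puigSubgroup ↥(S : Subgroup G)).subtype).map (S : Subgroup G).subtype =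
      Puig.pupper (S : Subgroup G) ⊓
        Subgroup.centralizer (Puig.pupper (S : Subgroup G) : Set G) := by
    rw [Puig.map_center_map _ (S : Subgroup G).subtype_injective, Puig.map_puigSubgroup_subtype]
  rw [hZ]
  refine ⟨?_, fun hO => Puig.center_pupper_normal hodd hp hO S⟩
  set O := Cfsg.pPrimeCore p G with hOdef
  set q := QuotientGroup.mk' O with hq
  have hqs : Function.Surjective q := QuotientGroup.mk'_surjective O
  set S' := S.mapSurjective hqs with hS'
  set f : ↥(S : Subgroup G) →* G ⧸ O := q.comp (S : Subgroup G).subtype with hf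
  have hfi : Function.Injective f := by
    rw [← MonoidHom.ker_eq_bot_iff, Subgroup.eq_bot_iff_forall]
    intro x hx
    have hxO : (x : G) ∈ O := (QuotientGroup.eq_one_iff _).mp hx
    have hd1 : orderOf x ∣ Nat.card O := by
      rw [← Subgroup.orderOf_coe x]
      exact Subgroup.orderOf_dvd_natCard _ hxO
    obtain ⟨k, hk⟩ := S.isPGroup' x
    have hd2 : orderOf x ∣ p ^ k := orderOf_dvd_of_pow_eq_one hk
    exact orderOf_eq_one_iff.mp (Nat.eq_one_of_dvd_coprimes
      ((Solvable.Cores.coprime_card_pPrimeCore (G := G) p).pow_right k) hd1 hd2)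
  have hrange : f.range = (S' : Subgroup (G ⧸ O)) := by
    rw [hf, MonoidHom.range_comp, Subgroup.range_subtype]
    rfl
  set L := Puig.pupper (S : Subgroup G) with hL
  set Z := L ⊓ Subgroup.centralizer (L : Set G) with hZdef
  have hZq : Z.map q = Puig.pupper (S' : Subgroup (G ⧸ O)) ⊓
      Subgroup.centralizer (Puig.pupper (S' : Subgroup (G ⧸ O)) : Set (G ⧸ O)) := by
    rw [← hrange, ← Puig.map_puigSubgroup f hfi, ← Puig.map_center_map f hfi, hf,
      ← Subgroup.map_map, hZ]
  have hodd' : Odd (Nat.card (G ⧸ O)) :=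
    Odd.of_dvd_nat hodd (Subgroup.card_quotient_dvd_card O)
  have hn : (Z.map q).Normal := by
    rw [hZq]
    exact Puig.center_pupper_normal hodd' hp Components.pPrimeCore_quotient_eq_bot S'
  haveI hM : ((Z.map q).comap q).Normal := hn.comap q
  rw [Subgroup.comap_map_eq, QuotientGroup.ker_mk'] at hM
  -- Frattini argument in `Z ⊔ O`
  have hZp : IsPGroup p Z := S.isPGroup'.to_le (inf_le_left.trans (Puig.pupper_le _))
  obtain ⟨k, hk⟩ := hZp.exists_card_eq
  set M := Z ⊔ O with hMdef
  have hidx : ¬ p ∣ (Z.comap M.subtype).index := by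
    show ¬ p ∣ Z.relIndex M
    intro hd
    have hmul := Solvable.Basic.card_sup_mul O Z
    have hrel := Subgroup.relIndex_mul_relIndex ⊥ Z M bot_le le_sup_left
    rw [Subgroup.relIndex_bot_left, Subgroup.relIndex_bot_left] at hrel
    rw [← hMdef, ← hrel, mul_assoc] at hmul
    have : p ∣ Nat.card O := hd.trans
      (Dvd.intro _ (Nat.eq_of_mul_eq_mul_left Nat.card_pos hmul))
    exact (((Fact.out : p.Prime).coprime_iff_not_dvd).mp
      (Solvable.Cores.coprime_card_pPrimeCore (G := G) p).symm) this
  set Q : Sylow p M := (hZp.comap_subtype (K := M)).toSylow hidx with hQ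
  have hFr := Sylow.normalizer_sup_eq_top (N := M) Q
  have hQmap : (Q : Subgroup M).map M.subtype = Z := by
    show (Z.subgroupOf M).map M.subtype = Z
    exact Subgroup.map_subgroupOf_eq_of_le le_sup_left
  rw [hQmap] at hFr
  refine eq_top_iff.mpr ?_
  rw [← hFr]
  exact sup_le le_sup_right (sup_le (le_trans Subgroup.le_normalizer le_sup_right) le_sup_left)

end Cfsg.Agent.S1469
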