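import Cfsg.Statements.S1470


set_option autoImplicit false
open Cfsg
open Polynomial

namespace Cfsg.Agent.S1470

/-- Let p and q be odd primes with (p^q − 1)/(p − 1) coprime to p − 1, and let E be the set of elements a of the field with p ^ q elements whose norm to the prime field is 1 and for which 2 − a also has norm 1. If a⁻¹ ∈ E for every a ∈ E and E has at least two elements, then p ≤ q. -/
theorem result (p q : ℕ) [Fact p.Prime] [Fact q.Prime] (hp : p ≠ 2) (hq : q ≠ 2) (hA : Nat.Coprime ((p ^ q - 1) / (p - 1)) (p - 1))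
    (hinv : ∀ a ∈ {a : GaloisField p q | Algebra.norm (ZMod p) a = 1 ∧ Algebra.norm (ZMod p) (2 - a) = 1}, a⁻¹ ∈ {a : GaloisField p q | Algebra.norm (ZMod p) a = 1 ∧ Algebra.norm (ZMod p) (2 - a) = 1})
    (h2 : 2 ≤ Set.ncard {a : GaloisField p q | Algebra.norm (ZMod p) a = 1 ∧ Algebra.norm (ZMod p) (2 - a) = 1}) :
    p ≤ q := by
  classical
  have hq0 : q ≠ 0 := (Fact.out : q.Prime).ne_zero
  let N : GaloisField p q →* ZMod p := Algebra.norm (ZMod p)
  have hN0 : ∀ x : GaloisField p q, N x = 1 → x ≠ 0 := by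
    intro x hx h
    rw [h] at hx
    simp [N] at hx
  -- pick a point of the set other than one
  obtain ⟨a, haE, ha1⟩ := Set.exists_ne_of_one_lt_ncard (one_lt_two.trans_le h2) (1 : GaloisField p q)
  have step : ∀ x : GaloisField p q, N x = 1 → N (2 - x) = 1 →
      N (2 - x⁻¹) = 1 ∧ N (2 - (2 - x⁻¹)) = 1 := by
    intro x h1 h3
    obtain ⟨h4, h5⟩ := hinv x ⟨h1, h3⟩
    exact ⟨h5, by rw [sub_sub_cancel]; exact h4⟩
  obtain ⟨b, rfl⟩ : ∃ b, a = b + 1 := ⟨a - 1, by ring⟩
  have hb : b ≠ 0 := fun h => ha1 (by rw [h, zero_add])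
  have key : ∀ k : ℕ, N ((k : GaloisField p q) * b + 1) = 1 ∧
      N (((k : GaloisField p q) + 1) * b + 1) = 1 ∧
      N (2 - (((k : GaloisField p q) + 1) * b + 1) * ((k : GaloisField p q) * b + 1)⁻¹) = 1 := by
    intro k
    induction k with
    | zero => exact ⟨by simp, by simpa [N] using haE.1, by simpa [N] using haE.2⟩
    | succ k ih =>
      obtain ⟨h1, h2', h3⟩ := ih
      set c := (k : GaloisField p q) * b + 1 with hc
      set d := ((k : GaloisField p q) + 1) * b + 1 with hd
      have hcN : N c⁻¹ = 1 := by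
        have := map_mul N c c⁻¹
        rw [mul_inv_cancel₀ (hN0 c h1), map_one, h1, one_mul] at this
        exact this.symm
      obtain ⟨h4, h5⟩ := step (d * c⁻¹) (by rw [map_mul, h2', hcN, one_mul]) h3
      have he : (2 - (d * c⁻¹)⁻¹) * d = ((k : GaloisField p q) + 1 + 1) * b + 1 := by
        rw [mul_inv_rev, inv_inv, sub_mul, mul_assoc, inv_mul_cancel₀ (hN0 d h2'), mul_one, hc, hd]
        ring
      push_cast
      refine ⟨h2', ?_, ?_⟩
      · rw [← he, map_mul, h4, h2', one_mul]
      · rw [← he, mul_assoc, mul_inv_cancel₀ (hN0 d h2'), mul_one]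
        exact h5
  -- the product polynomial
  let P : (GaloisField p q)[X] := ∏ i ∈ Finset.range q, (C (b ^ (p ^ i)) * X + 1) - 1
  have hdeg1 : ∀ i, (C (b ^ (p ^ i)) * X + 1 : (GaloisField p q)[X]).natDegree = 1 := fun i => by
    have := natDegree_linear (a := b ^ (p ^ i)) (b := (1 : GaloisField p q)) (pow_ne_zero _ hb)
    simpa using this
  have hne : ∀ i, (C (b ^ (p ^ i)) * X + 1 : (GaloisField p q)[X]) ≠ 0 := fun i h => by
    have := hdeg1 i
    rw [h] at this
    simp at this
  have hdegP : P.natDegree = q := by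
    have h : (∏ i ∈ Finset.range q, (C (b ^ (p ^ i)) * X + 1 : (GaloisField p q)[X])).natDegree = q := by
      rw [natDegree_prod _ _ (fun i _ => hne i), Finset.sum_congr rfl (fun i _ => hdeg1 i)]
      simp
    show (_ - _ : (GaloisField p q)[X]).natDegree = q
    rw [natDegree_sub_eq_left_of_natDegree_lt (by rw [h, natDegree_one]; omega), h]
  have heval : ∀ z : ZMod p, P.eval (algebraMap (ZMod p) (GaloisField p q) z) = 0 := by
    intro z
    have hz : ((z.val : ℕ) : GaloisField p q) = algebraMap (ZMod p) (GaloisField p q) z := by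
      rw [← map_natCast (algebraMap (ZMod p) (GaloisField p q)), ZMod.natCast_rightInverse z]
    have h1 := FiniteField.algebraMap_norm_eq_prod_pow (ZMod p) (GaloisField p q)
      ((z.val : GaloisField p q) * b + 1)
    rw [show Algebra.norm (ZMod p) ((z.val : GaloisField p q) * b + 1) = 1 from (key z.val).1,
      map_one, GaloisField.finrank p hq0, Nat.card_zmod, hz] at h1
    simp only [P, eval_sub, eval_one, eval_prod, eval_add, eval_mul, eval_C, eval_X]
    rw [sub_eq_zero]
    refine Eq.trans (Finset.prod_congr rfl fun i _ => ?_) h1.symm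
    rw [add_pow_char_pow, mul_pow, one_pow, ← map_pow, ZMod.pow_card_pow, mul_comm]
  by_contra hlt
  have hP : P = 0 := by
    refine eq_zero_of_natDegree_lt_card_of_eval_eq_zero P
      (algebraMap (ZMod p) (GaloisField p q)).injective heval ?_
    rw [ZMod.card, hdegP]
    omega
  rw [hP, natDegree_zero] at hdegP
  omega

end Cfsg.Agent.S1470
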