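import Cfsg.Statements.S1474
import Cfsg.Agent.Lib.OddOrder.CN

set_option autoImplicit false
open Cfsg
open scoped commutatorElement

namespace Cfsg.Agent.S1474

/-- Let G be a finite group in which every non-identity element has nilpotent centralizer, not itself nilpotent, and having a nontrivial normal Sylow p-subgroup for some prime p. Let H be the largest normal nilpotent Hall subgroup of G. Then H is a nontrivial proper normal subgroup with a complement E that is a Frobenius complement in G (no non-identity element of E centralizes a non-identity element of H), and G/H is nilpotent. -/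
theorem result {G : Type*} [Group G] [Finite G] (hCN : Cfsg.IsCNGroup G) (hnn : ¬ Group.IsNilpotent G) (p : ℕ) [Fact p.Prime] (P : Sylow p G)
    (hP1 : (P : Subgroup G) ≠ ⊥) (hPn : (P : Subgroup G).Normal) :
    Cfsg.fittingHall G ≠ ⊥ ∧ Cfsg.fittingHall G ≠ ⊤ ∧
      (∃ E : Subgroup G, Subgroup.IsComplement' (Cfsg.fittingHall G) E ∧ Cfsg.IsFrobeniusComplement E ∧
        ∀ e ∈ E, e ≠ 1 → Cfsg.fittingHall G ⊓ Subgroup.centralizer ({e} : Set G) = ⊥) ∧
      Group.IsNilpotent (G ⧸ Cfsg.fittingHall G) := by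
  set F := Cfsg.fittingHall G with hF
  have hcop := CfsgLib.OddOrder.Basic.fittingHall_coprime (G := G)
  haveI := CfsgLib.OddOrder.Basic.fittingHall_isNilpotent (G := G)
  have hPF : (P : Subgroup G) ≤ F := by
    haveI := hPn
    refine CfsgLib.OddOrder.Basic.le_fittingHall (P.isPGroup'.isNilpotent) ?_
    obtain ⟨n, hn⟩ := IsPGroup.iff_card.mp P.isPGroup'
    rw [hn]
    exact Nat.Coprime.pow_left n ((Fact.out : p.Prime).coprime_iff_not_dvd.mpr
      (Sylow.not_dvd_index' P Subgroup.index_ne_zero_of_finite))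
  have hF1 : F ≠ ⊥ := fun h => hP1 (le_bot_iff.mp (h ▸ hPF))
  have hFt : F ≠ ⊤ := fun h => hnn (by
    have := CfsgLib.OddOrder.Basic.fittingHall_isNilpotent (G := G)
    rw [← hF, h] at this
    exact Group.isNilpotent_top.mp this)
  obtain ⟨E, hE⟩ := Subgroup.exists_right_complement'_of_coprime hcop
  have hdisj : F ⊓ E = ⊥ := hE.disjoint.eq_bot
  have hfpf : ∀ e ∈ E, e ≠ 1 → F ⊓ Subgroup.centralizer ({e} : Set G) = ⊥ := by
    intro e he he1
    rw [eq_bot_iff]
    intro x hx
    rw [Subgroup.mem_bot]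
    by_contra hx1
    obtain ⟨r, n, hr, hord⟩ := CfsgLib.OddOrder.CN.exists_prime_order_pow he1
    have h1 : Commute (e ^ n) x := Commute.pow_left (show Commute e x from (Subgroup.mem_centralizer_singleton_iff.mp hx.2).symm) n
    have h2 : e ^ n ∈ F ⊓ E := ⟨CfsgLib.OddOrder.CN.mem_fittingHall_of_commute hCN hr hord hx.1 hx1 h1, pow_mem he n⟩
    rw [hdisj, Subgroup.mem_bot] at h2
    rw [h2, orderOf_one] at hord
    exact hr.ne_one hord.symm
  have hE1 : E ≠ ⊥ := fun h => hFt (by
    have := hE.sup_eq_top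
    rwa [h, sup_bot_eq] at this)
  refine ⟨hF1, hFt, ⟨E, hE, ⟨hE1, fun h => hF1 ?_, fun g hg => ?_⟩, hfpf⟩, ?_⟩
  · have := hE.disjoint.eq_bot
    rwa [h, inf_top_eq] at this
  · rw [eq_bot_iff]
    rintro y ⟨hy, hy'⟩
    rw [Subgroup.mem_bot]
    by_contra hy1
    obtain ⟨w, hw, rfl⟩ := Subgroup.mem_pointwise_smul_iff_inv_smul_mem.mp hy' |> fun h => (⟨_, h, rfl⟩ : ∃ w ∈ E, (MulAut.conj g)⁻¹ • y = w)
    obtain ⟨⟨⟨f, hf⟩, ⟨e, he⟩⟩, hfe⟩ := hE.2 g
    have hw' : g⁻¹ * y * g ∈ E := by simpa [MulAut.smul_def] using hw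
    set d := e * (g⁻¹ * y * g) * e⁻¹ with hd
    have hdE : d ∈ E := mul_mem (mul_mem he hw') (inv_mem he)
    have hg' : g = f * e := hfe.symm
    have hyd : y = f * d * f⁻¹ := by rw [hd, hg']; group
    have h3 : y * d⁻¹ ∈ F ⊓ E := by
      refine ⟨?_, E.mul_mem hy (E.inv_mem hdE)⟩
      have e1 : y * d⁻¹ = f * (d * f⁻¹ * d⁻¹) := by rw [hyd]; group
      rw [e1]
      exact mul_mem hf (Subgroup.Normal.conj_mem inferInstance _ (inv_mem hf) d)
    rw [hdisj, Subgroup.mem_bot, mul_inv_eq_one] at h3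
    rw [← h3] at hyd
    have h4 : f ∈ F ⊓ Subgroup.centralizer ({y} : Set G) :=
      ⟨hf, Subgroup.mem_centralizer_singleton_iff.mpr (mul_inv_eq_iff_eq_mul.mp hyd.symm)⟩
    rw [hfpf y hy hy1, Subgroup.mem_bot] at h4
    exact hg (by rw [hg', h4, one_mul]; exact he)
  · -- the complement is nilpotent
    set N := (Subgroup.center F).map F.subtype with hN
    haveI : IsMulCommutative N := ⟨⟨fun a b => by
      obtain ⟨a', ha', e1⟩ := a.2
      obtain ⟨b', -, e2⟩ := b.2
      apply Subtype.ext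
      show (a : G) * b = b * a
      rw [← e1, ← e2]
      exact congrArg Subtype.val (Subgroup.mem_center_iff.mp ha' b').symm⟩⟩
    haveI : Nontrivial F := (Subgroup.nontrivial_iff_ne_bot F).mpr hF1
    have hN1 : N ≠ ⊥ := by
      rw [hN, Ne, Subgroup.map_eq_bot_iff_of_injective _ F.subtype_injective]
      exact Group.IsNilpotent.center_ne_bot F
    have hcopE : (Nat.card E).Coprime (Nat.card N) := by
      refine Nat.Coprime.coprime_dvd_right (Subgroup.card_dvd_of_le (Subgroup.map_subtype_le _)) ?_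
      rw [← hE.symm.index_eq_card]
      exact hcop.symm
    obtain ⟨c, hc, hc1, hcc⟩ := CfsgLib.OddOrder.FixedPointFree.exists_center_ne_one (N := N) inferInstance hN1 hE1 hcopE
      (fun e he he1 x hx hex => by
        have h5 : x ∈ F ⊓ Subgroup.centralizer ({e} : Set G) :=
          ⟨Subgroup.map_subtype_le _ hx, Subgroup.mem_centralizer_singleton_iff.mpr hex.symm⟩
        rwa [hfpf e he he1, Subgroup.mem_bot] at h5)
    haveI := hCN c hc1
    haveI : Group.IsNilpotent E := CfsgLib.OddOrder.CN.isNilpotent_of_le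
      (CfsgLib.OddOrder.CN.le_centralizer_singleton fun y hy => (hcc y hy).symm)
    refine Group.nilpotent_of_surjective ((QuotientGroup.mk' F).comp E.subtype) ?_
    intro u
    obtain ⟨g, rfl⟩ := QuotientGroup.mk'_surjective F u
    obtain ⟨⟨⟨f, hf⟩, e⟩, hfe⟩ := hE.2 g
    refine ⟨e, ?_⟩
    rw [← hfe]
    simp only [map_mul, MonoidHom.comp_apply]
    rw [show QuotientGroup.mk' F f = 1 from (QuotientGroup.eq_one_iff f).mpr hf, one_mul]
    rfl

end Cfsg.Agent.S1474
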