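import Cfsg.Statements.S1481
import Cfsg.Agent.Lib.OddOrder.Bender
import Cfsg.Agent.Lib.Coprime.Sylow

set_option autoImplicit false
open Cfsg
open CfsgLib CfsgLib.OddOrder

namespace Cfsg.Agent.S1481

/-- Let G be a finite group and H a local subgroup (the normalizer of a nontrivial subgroup of prime-power order) not properly contained in any local subgroup; let F = F(H), suppose at least two primes divide #F, put X = H ∩ C_G(F), let M ≤ F with F ∩ C_G(M) ≤ M, and let R be a solvable subgroup normalized by M and by X. Then for every prime q not dividing #F there is exactly one maximal M-invariant q-subgroup of R, and it is a Sylow q-subgroup of the largest normal subgroup of R of order coprime to #F. -/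
theorem result {G : Type*} [Group G] [Finite G] (H : Subgroup G) (hH : Cfsg.IsLocalSubgroup H) (hHmax : ∀ L : Subgroup G, Cfsg.IsLocalSubgroup L → H ≤ L → L = H)
    (hF2 : 2 ≤ (Nat.card (Cfsg.fittingOf H)).primeFactors.card)
    (M : Subgroup G) (hM : M ≤ Cfsg.fittingOf H) (hCM : Cfsg.fittingOf H ⊓ Subgroup.centralizer (M : Set G) ≤ M)
    (R : Subgroup G) (hR : Group.IsSolvable R) (hMR : M ≤ Subgroup.normalizer (R : Set G))
    (hXR : H ⊓ Subgroup.centralizer (Cfsg.fittingOf H : Set G) ≤ Subgroup.normalizer (R : Set G))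
    (q : ℕ) [Fact q.Prime] (hq : ¬ q ∣ Nat.card (Cfsg.fittingOf H)) :
    ∃! Q : Subgroup G, Q ∈ Cfsg.maxInvSubgroups R M {q} ∧
      (∀ Q' : Subgroup G, Q' ∈ Cfsg.maxInvSubgroups R M {q} →
        Q' ≤ Cfsg.piCoreOf (Cfsg.primesNotDvd (Nat.card (Cfsg.fittingOf H))) R ∧
        ¬ q ∣ Q'.relIndex (Cfsg.piCoreOf (Cfsg.primesNotDvd (Nat.card (Cfsg.fittingOf H))) R)) := by
  set F := Cfsg.fittingOf H with hF
  set n := Nat.card F with hn
  have hS : Bender.Setting H M := by
    refine ⟨fun r T hr hT hT1 hle => ?_, hF2, hM,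
      le_trans (inf_le_inf_left _ (Subgroup.centralizer_le hM)) hCM⟩
    exact hHmax _ ⟨r, T, hr, hT, hT1, rfl⟩ hle
  set K := Cfsg.piCoreOf (Cfsg.primesNotDvd n) R with hK
  have hKR : K ≤ R := Transitivity.piCoreOf_le _ _
  have hKcop : (Nat.card K).Coprime n := Transitivity.coprime_piCoreOf n R
  have hKs : Group.IsSolvable K := Coprime.isSolvable_of_le hKR hR
  have hMK : M ≤ Subgroup.normalizer (K : Set G) :=
    hMR.trans (Transitivity.normalizer_le_normalizer_piCoreOf n R)
  have hq' := (Fact.out : q.Prime)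
  have hcopM : (Nat.card M).Coprime (Nat.card K) :=
    (hKcop.coprime_dvd_right (Subgroup.card_dvd_of_le hM)).symm
  have hU : K ⊓ Subgroup.centralizer (M : Set G) = ⊥ := by
    refine hS.centralized_eq_bot hCM (Coprime.isSolvable_of_le inf_le_left hKs) inf_le_right ?_
      (hKcop.coprime_dvd_left (Subgroup.card_dvd_of_le inf_le_left))
    refine le_trans (le_inf (hXR.trans (Transitivity.normalizer_le_normalizer_piCoreOf n R)) ?_)
      Subgroup.inf_normalizer_le_normalizer_inf
    refine le_trans ?_ (Bender.normalizer_le_normalizer_centralizer M)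
    exact inf_le_right.trans ((Subgroup.centralizer_le hM).trans (Subgroup.centralizer_le_normalizer _))
  have huniq : ∀ P P' : Sylow q K,
      M ≤ Subgroup.normalizer ((P : Subgroup K).map K.subtype : Set G) →
      M ≤ Subgroup.normalizer ((P' : Subgroup K).map K.subtype : Set G) → P = P' := by
    intro P P' hP hP'
    obtain ⟨c, hc, he⟩ := Coprime.exists_centralizer_conj_sylow hMK hcopM (Or.inr hKs) P P' hP hP'
    have h1 : (c : G) ∈ K ⊓ Subgroup.centralizer (M : Set G) := ⟨c.2, hc⟩
    rw [hU, Subgroup.mem_bot] at h1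
    rw [← he, show c = 1 from Subtype.ext h1, one_smul]
  obtain ⟨P, hP⟩ := Coprime.exists_invariant_sylow hMK hcopM (Or.inr hKs) q
  set Q := (P : Subgroup K).map K.subtype with hQ
  have hQp : IsPGroup q Q := P.isPGroup'.map _
  have hsub : ∀ Y ∈ Cfsg.invSubgroups R M {q}, Y ≤ Q := by
    intro Y hY
    have hYq : IsPGroup q Y := (Transitivity.qNum_iff hq').mp hY.2.1
    have hYK : Y ≤ K := hS.le_core hCM hR hMR hXR hY.1 (by
      obtain ⟨k, hk⟩ := hYq.exists_card_eq
      rw [hk]; exact ((hq'.coprime_iff_not_dvd).mpr hq).pow_left k) hY.2.2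
    obtain ⟨P', hYP, hP'⟩ := Coprime.exists_le_invariant_sylow hMK hcopM (Or.inr hKs) hYK hYq hY.2.2
    rwa [huniq P' P hP' hP] at hYP
  have hQmem : Q ∈ Cfsg.invSubgroups R M {q} :=
    ⟨(Subgroup.map_subtype_le _).trans hKR, (Transitivity.qNum_iff hq').mpr hQp, hP⟩
  have hQmax : Q ∈ Cfsg.maxInvSubgroups R M {q} :=
    ⟨hQmem, fun Y hY hle => le_antisymm (hsub Y hY) hle⟩
  have hall : ∀ Q' ∈ Cfsg.maxInvSubgroups R M {q}, Q' = Q := fun Q' hQ' => (hQ'.2 Q hQmem (hsub Q' hQ'.1)).symm
  refine ⟨Q, ⟨hQmax, fun Q' hQ' => ?_⟩, fun Y hY => hall Y hY.1⟩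
  rw [hall Q' hQ']
  refine ⟨Subgroup.map_subtype_le _, ?_⟩
  have h2 : Q.relIndex K = (P : Subgroup K).index := by
    rw [Subgroup.relIndex, hQ, Subgroup.subgroupOf,
      Subgroup.comap_map_eq_self_of_injective K.subtype_injective]
  rw [h2]
  exact P.not_dvd_index

end Cfsg.Agent.S1481
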