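import Cfsg.Statements.S1483
import Cfsg.Agent.Lib.OddOrder.CN

set_option autoImplicit false
open Cfsg
open scoped commutatorElement

namespace Cfsg.Agent.S1483

/-- Let G be a minimal simple group of odd order in which every non-identity element has nilpotent centralizer. Then any two nilpotent subgroups each contained in no larger nilpotent subgroup are either conjugate or of coprime orders; and for primes p, q, r: if some elements x, y ≠ 1 of p-power and q-power order commute, and some elements y', z ≠ 1 of q-power and r-power order commute, then some elements of p-power and r-power order, both ≠ 1, commute. -/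
theorem result {G : Type*} [Group G] [Finite G] (hG : Cfsg.IsMinSimpleOddOrder G) (hCN : Cfsg.IsCNGroup G) :
    (∀ H₁ H₂ : Subgroup G, (Group.IsNilpotent ↥H₁ ∧ ∀ L : Subgroup G, Group.IsNilpotent L → H₁ ≤ L → L = H₁) → (Group.IsNilpotent ↥H₂ ∧ ∀ L : Subgroup G, Group.IsNilpotent L → H₂ ≤ L → L = H₂) → (∃ g : G, H₂ = H₁.map (MulAut.conj g).toMonoidHom) ∨ (Nat.card H₁).Coprime (Nat.card H₂)) ∧
      ∀ (p q r : ℕ), p.Prime → q.Prime → r.Prime → ∀ (x y y' z : G), x ≠ 1 → y ≠ 1 → y' ≠ 1 → z ≠ 1 →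
        IsPGroup p (Subgroup.zpowers x) → IsPGroup q (Subgroup.zpowers y) → IsPGroup q (Subgroup.zpowers y') → IsPGroup r (Subgroup.zpowers z) →
        x * y = y * x → y' * z = z * y' →
        ∃ x' z' : G, x' ≠ 1 ∧ z' ≠ 1 ∧ IsPGroup p (Subgroup.zpowers x') ∧ IsPGroup r (Subgroup.zpowers z') ∧ x' * z' = z' * x' := by
  refine ⟨fun H₁ H₂ h₁ h₂ => ?_, ?_⟩
  · by_contra hc
    rw [not_or] at hc
    obtain ⟨p, hp, hp1, hp2⟩ := Nat.Prime.not_coprime_iff_dvd.mp hc.2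
    exact hc.1 (CfsgLib.OddOrder.CN.conj_of_common_prime hCN h₁.1 h₁.2 h₂.1 h₂.2 hp hp1 hp2)
  intro p q r hp hq hr x y y' z hx1 hy1 hy'1 hz1 hxp hyq hy'q hzr hxy hyz
  haveI := Fact.mk hp
  haveI := Fact.mk hq
  haveI := Fact.mk hr
  by_cases hpr : p = r
  · subst hpr
    exact ⟨x, x, hx1, hx1, hxp, hxp, rfl⟩
  obtain ⟨H₁, hle1, hH1, hm1⟩ := CfsgLib.OddOrder.CN.exists_maximal_nilpotent (hCN y hy1)
  obtain ⟨H₂, hle2, hH2, hm2⟩ := CfsgLib.OddOrder.CN.exists_maximal_nilpotent (hCN y' hy'1)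
  have hxH : x ∈ H₁ := hle1 (Subgroup.mem_centralizer_singleton_iff.mpr hxy)
  have hzH : z ∈ H₂ := hle2 (Subgroup.mem_centralizer_singleton_iff.mpr hyz.symm)
  have dvd : ∀ {w : G} {H : Subgroup G}, w ∈ H → w ≠ 1 → IsPGroup q (Subgroup.zpowers w) → q ∣ Nat.card H := by
    intro w H hw hw1 hwq
    obtain ⟨k, hk⟩ := IsPGroup.iff_card.mp hwq
    rw [Nat.card_zpowers] at hk
    have h1 : orderOf w ∣ Nat.card H := CfsgLib.OddOrder.Stabilize.orderOf_dvd_card_of_mem hw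
    have hk0 : k ≠ 0 := fun h => hw1 (orderOf_eq_one_iff.mp (by rw [hk, h, pow_zero]))
    exact (dvd_pow_self q hk0).trans (hk ▸ h1)
  obtain ⟨g, hg⟩ := CfsgLib.OddOrder.CN.conj_of_common_prime hCN hH1 hm1 hH2 hm2 hq
    (dvd (hle1 (Subgroup.mem_centralizer_singleton_iff.mpr rfl)) hy1 hyq)
    (dvd (hle2 (Subgroup.mem_centralizer_singleton_iff.mpr rfl)) hy'1 hy'q)
  have hx'p : IsPGroup p (Subgroup.zpowers (g * x * g⁻¹)) := by
    have := hxp.map (MulAut.conj g).toMonoidHom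
    rwa [MonoidHom.map_zpowers] at this
  have hx'H : g * x * g⁻¹ ∈ H₂ := by rw [hg]; exact ⟨x, hxH, rfl⟩
  refine ⟨g * x * g⁻¹, z, fun h => hx1 (conj_eq_one_iff.mp h), hz1, hx'p, hzr, ?_⟩
  haveI := hH2
  obtain ⟨a, ha⟩ := IsPGroup.iff_card.mp hx'p
  obtain ⟨b, hb⟩ := IsPGroup.iff_card.mp hzr
  rw [Nat.card_zpowers] at ha hb
  exact (CfsgLib.OddOrder.Basic.commute_of_mem_nilpotent hx'H hzH (by
    rw [ha, hb]; exact Nat.coprime_pow_primes _ _ hp hr hpr)).eq

end Cfsg.Agent.S1483
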