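import Cfsg.Statements.S1487
import Cfsg.Agent.Lib.Char.Clifford
-- import your own Cfsg.Agent.* helpers here

set_option autoImplicit false
open Cfsg

namespace Cfsg.Agent.S1487

/-- Let A ≤ H be normal subgroups of the finite group G and θ an irreducible character of H. Then θ takes the value θ 1 on all of A if and only if the function induced from θ to G takes its value at 1 on all of A. -/
theorem result {G : Type*} [Group G] [Fintype G] (A H : Subgroup G) [A.Normal] [H.Normal] (hAH : A ≤ H) (θ : H → ℂ) (hθ : Cfsg.IsIrrCharacter H θ) : (∀ a : H, (a : G) ∈ A → θ a = θ 1) ↔ (∀ a : G, a ∈ A → Cfsg.indFun H θ a = Cfsg.indFun H θ 1) := by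
  classical
  refine ⟨fun h a ha => ?_, fun h a ha => ?_⟩
  · have h1 := congrFun (CfsgLib.Char.indFun_restrict θ) ⟨a, hAH ha⟩
    have h2 := congrFun (CfsgLib.Char.indFun_restrict θ) (1 : H)
    simp only [Pi.smul_apply, Finset.sum_apply, smul_eq_mul] at h1 h2
    rw [Subgroup.coe_one] at h2
    rw [h1, h2]
    congr 1
    refine Finset.sum_congr rfl fun g _ => ?_
    rw [CfsgLib.Char.conjG_apply, CfsgLib.Char.conjG_apply,
      h _ (‹A.Normal›.conj_mem a ha g)]
    exact congrArg θ (Subtype.ext (by simp))
  · have hc : Cfsg.IsCharacter H fun x : H => Cfsg.indFun H θ x :=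
      CfsgLib.Char.IsCharacter.restrict
        (CfsgLib.Char.IsCharacter.indFun H (CfsgLib.Char.IsIrrCharacter.isCharacter hθ)) H
    refine CfsgLib.Char.IsCharacter.constituent_apply_eq_one hc hθ ?_ ?_
    · rw [CfsgLib.Char.indFun_restrict, CfsgLib.Char.classInner_smul_left,
        CfsgLib.Char.classInner_sum_left]
      refine mul_ne_zero (inv_ne_zero CfsgLib.Char.card_ne_zero) ?_
      rw [Finset.sum_congr rfl fun g _ =>
        CfsgLib.Char.classInner_irr (CfsgLib.Char.IsIrrCharacter.conjG hθ g) hθ, Finset.sum_boole,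
        Nat.cast_ne_zero]
      exact (Finset.card_pos.mpr ⟨1, by simp [CfsgLib.Char.conjG_one]⟩).ne'
    · simpa using h a ha


end Cfsg.Agent.S1487
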