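import Cfsg.Statements.S1490
import Cfsg.Agent.Lib.Char.CliffordAbelian
-- import your own Cfsg.Agent.* helpers here

set_option autoImplicit false
open Cfsg

namespace Cfsg.Agent.S1490

/-- Let H be a normal subgroup of the finite group G, θ an irreducible character of H with inertia group T, and suppose the commutator of any two elements of T lies in H (T/H abelian). Then there are a positive integer e and a finite set C of irreducible characters of G with e ^ 2 * |C| * |H| = |T|, such that the function induced from θ is e times the sum of the members of C and every member of C has degree [G:T] * e * θ(1). -/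
theorem result {G : Type*} [Group G] [Fintype G] (H T : Subgroup G) [hN : H.Normal] (θ : H → ℂ) (hθ : Cfsg.IsIrrCharacter H θ) (hT : ∀ g : G, g ∈ T ↔ ∀ h : H, θ ⟨g * h * g⁻¹, hN.conj_mem h h.2 g⟩ = θ h) (hab : ∀ x ∈ T, ∀ y ∈ T, x * y * x⁻¹ * y⁻¹ ∈ H) : ∃ (e : ℕ) (C : Finset (G → ℂ)), 0 < e ∧ (∀ χ ∈ C, Cfsg.IsIrrCharacter G χ) ∧ e ^ 2 * C.card * Nat.card H = Nat.card T ∧ Cfsg.indFun H θ = (e : ℂ) • ∑ χ ∈ C, χ ∧ ∀ χ ∈ C, χ 1 = (T.index : ℂ) * e * θ 1 := by

  classical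
  have hHT : H ≤ T := fun g hg => (hT g).mpr fun h =>
    congrFun (CfsgLib.Char.conjG_of_mem (CfsgLib.Char.IsIrrCharacter.isClassFunction hθ) hg) h
  cases nonempty_fintype H
  cases nonempty_fintype T
  obtain ⟨e, C₀, he, hirr, hCe, hall, hcard, hind⟩ :=
    CfsgLib.Char.exists_abelian_constituents hHT hθ hT hab
  have hne : ∀ ψ ∈ C₀, Cfsg.classInner (CfsgLib.Char.resLe hHT ψ) θ ≠ 0 := fun ψ hψ => by
    rw [(hCe ψ hψ).1]; exact Nat.cast_ne_zero.mpr he.ne'
  have hinj : Set.InjOn (fun ψ => Cfsg.indFun T ψ) (C₀ : Set (T → ℂ)) := fun ψ hψ ψ' hψ' h =>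
    CfsgLib.Char.indFun_inertia_inj hHT hθ hT (hirr ψ hψ) (hne ψ hψ) (hirr ψ' hψ') (hne ψ' hψ') h
  refine ⟨e, C₀.image (fun ψ => Cfsg.indFun T ψ), he, fun χ hχ => ?_, ?_, ?_, fun χ hχ => ?_⟩
  · obtain ⟨ψ, hψ, rfl⟩ := Finset.mem_image.mp hχ
    exact (CfsgLib.Char.indFun_inertia hHT hθ hT (hirr ψ hψ) (hne ψ hψ)).1
  · rw [Finset.card_image_of_injOn hinj, hcard]
  · rw [Finset.sum_image hinj]; exact hind
  · obtain ⟨ψ, hψ, rfl⟩ := Finset.mem_image.mp hχ
    rw [CfsgLib.Char.indFun_one, (hCe ψ hψ).2, mul_assoc]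


end Cfsg.Agent.S1490
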