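import Cfsg.Statements.S1491
import Cfsg.Agent.Lib.Char.CliffordAbelian
-- import your own Cfsg.Agent.* helpers here

set_option autoImplicit false
open Cfsg

namespace Cfsg.Agent.S1491

/-- Let H be a normal subgroup of the finite group G and θ an irreducible character of H with inertia group T, where T/H is abelian (commutators of T lie in H) and the index of H in T is coprime to the order of H. Then the function induced from θ is the sum of a set of exactly [T:H] irreducible characters of G, each of degree [G:T] * θ(1). -/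
theorem result {G : Type*} [Group G] [Fintype G] (H T : Subgroup G) [hN : H.Normal] (θ : H → ℂ) (hθ : Cfsg.IsIrrCharacter H θ) (hT : ∀ g : G, g ∈ T ↔ ∀ h : H, θ ⟨g * h * g⁻¹, hN.conj_mem h h.2 g⟩ = θ h) (hab : ∀ x ∈ T, ∀ y ∈ T, x * y * x⁻¹ * y⁻¹ ∈ H) (hcop : Nat.Coprime (Nat.card H) (H.relIndex T)) : ∃ C : Finset (G → ℂ), (∀ χ ∈ C, Cfsg.IsIrrCharacter G χ) ∧ C.card = H.relIndex T ∧ Cfsg.indFun H θ = ∑ χ ∈ C, χ ∧ ∀ χ ∈ C, χ 1 = (T.index : ℂ) * θ 1 := by

  classical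
  have hHT : H ≤ T := fun g hg => (hT g).mpr fun h =>
    congrFun (CfsgLib.Char.conjG_of_mem (CfsgLib.Char.IsIrrCharacter.isClassFunction hθ) hg) h
  cases nonempty_fintype H
  cases nonempty_fintype T
  obtain ⟨e, C₀, he, hirr, hCe, hall, hcard, hind⟩ :=
    CfsgLib.Char.exists_abelian_constituents hHT hθ hT hab
  obtain rfl := CfsgLib.Char.multiplicity_eq_one_of_coprime hHT hθ hT hab hcop hCe hall
  have hne : ∀ ψ ∈ C₀, Cfsg.classInner (CfsgLib.Char.resLe hHT ψ) θ ≠ 0 := fun ψ hψ => by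
    rw [(hCe ψ hψ).1]; exact Nat.cast_ne_zero.mpr one_ne_zero
  have hinj : Set.InjOn (fun ψ => Cfsg.indFun T ψ) (C₀ : Set (T → ℂ)) := fun ψ hψ ψ' hψ' h =>
    CfsgLib.Char.indFun_inertia_inj hHT hθ hT (hirr ψ hψ) (hne ψ hψ) (hirr ψ' hψ') (hne ψ' hψ') h
  refine ⟨C₀.image (fun ψ => Cfsg.indFun T ψ), fun χ hχ => ?_, ?_, ?_, fun χ hχ => ?_⟩
  · obtain ⟨ψ, hψ, rfl⟩ := Finset.mem_image.mp hχ
    exact (CfsgLib.Char.indFun_inertia hHT hθ hT (hirr ψ hψ) (hne ψ hψ)).1
  · rw [Finset.card_image_of_injOn hinj]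
    have h := (H.subgroupOf T).index_mul_card
    rw [Nat.card_congr (Subgroup.subgroupOfEquivOfLe hHT).toEquiv, ← hcard, one_pow, one_mul] at h
    exact (Nat.eq_of_mul_eq_mul_right Nat.card_pos h).symm
  · rw [Finset.sum_image hinj]; simpa using hind
  · obtain ⟨ψ, hψ, rfl⟩ := Finset.mem_image.mp hχ
    rw [CfsgLib.Char.indFun_one, (hCe ψ hψ).2, Nat.cast_one, one_mul]


end Cfsg.Agent.S1491
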