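import Cfsg.Statements.S1492
import Cfsg.Agent.Lib.Char.Clifford
-- import your own Cfsg.Agent.* helpers here

set_option autoImplicit false
open Cfsg

namespace Cfsg.Agent.S1492

open CfsgLib.Char in
theorem degree_bound {G : Type*} [Group G] [Finite G] (ψ : G → ℂ) (hψ : Cfsg.IsIrrCharacter G ψ)
    (B C D : Subgroup G) (hBD : B ≤ D) (hDC : D ≤ C)
    (hcent : ∀ d ∈ D, ∀ c ∈ C, d * c * d⁻¹ * c⁻¹ ∈ B) (hker : ∀ b ∈ B, ψ b = ψ 1) :
    ‖ψ 1‖ ^ 2 * (Nat.card C : ℝ) * (Nat.card D : ℝ) ≤ (Nat.card G : ℝ) ^ 2 := by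
  classical
  cases nonempty_fintype G
  have hres : Cfsg.IsCharacter C fun c : C => ψ c :=
    IsCharacter.restrict (IsIrrCharacter.isCharacter hψ) C
  obtain ⟨φ, hφ, hne⟩ := IsCharacter.exists_constituent hres fun h =>
    IsIrrCharacter.apply_one_ne_zero hψ (congrFun h 1)
  obtain ⟨a, b, ha, hb, hab, -⟩ := IsCharacter.constituent_degree_le
    (IsCharacter.indFun C (IsIrrCharacter.isCharacter hφ)) hψ (by
      rw [classInner_indFun C φ (IsIrrCharacter.isClassFunction hψ),
        IsCharacter.classInner_comm (IsIrrCharacter.isCharacter hφ) hres]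
      exact hne)
  obtain ⟨f, -, hf⟩ := IsIrrCharacter.apply_one_eq hφ
  rw [indFun_one, hf, ← Nat.cast_mul, Nat.cast_inj] at hb
  subst hb
  have hkerB : ∀ x : C, (x : G) ∈ B → φ x = φ 1 := fun x hx =>
    IsCharacter.constituent_apply_eq_one hres hφ hne (hker x hx)
  have hsq : (f : ℝ) ^ 2 * Nat.card D ≤ Nat.card C := by
    obtain ⟨n, ρ, hρ, rfl⟩ := hφ
    rw [ρ.char_one, Nat.cast_inj] at hf
    have hnorm : ∀ x : C, (x : G) ∈ D → ‖ρ.character x‖ = f := by
      intro x hx
      obtain ⟨s, hs⟩ := exists_eq_smul_of_commute ρ (ρ x) fun y => by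
        have hm := hcent x hx y y.2
        have h1 := hkerB (x * y * x⁻¹ * y⁻¹) hm
        rw [ρ.char_one, char_eq_finrank_iff] at h1
        have h2 : ρ (x * y) = ρ (x * y * x⁻¹ * y⁻¹) * ρ (y * x) := by
          rw [← map_mul]; congr 1; group
        rw [h1, map_mul, map_mul] at h2
        rw [← Module.End.mul_eq_comp, ← Module.End.mul_eq_comp, h2]
        rfl
      obtain ⟨bb, μ, hμ, hk⟩ := exists_eigenbasis ρ x
      let i : Fin (Module.finrank ℂ (Fin n → ℂ)) := ⟨0, irreducible_finrank_pos (ρ := ρ)⟩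
      have h3 := hk 1 i
      rw [pow_one, pow_one, hs, LinearMap.smul_apply, LinearMap.id_apply] at h3
      rw [Representation.character, hs, map_smul, LinearMap.trace_id, hf, smul_eq_mul, norm_mul,
        smul_left_injective ℂ (bb.ne_zero i) h3, norm_eq_one_of_pow_orderOf (hμ i), one_mul,
        Complex.norm_natCast]
    have h1 := classInner_irr_self (isIrrCharacter_of_rep ρ)
    rw [classInner_self, ← Complex.ofReal_one, Complex.ofReal_inj,
      inv_mul_eq_one₀ (by exact_mod_cast Nat.card_pos.ne')] at h1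
    rw [h1]
    refine le_trans (le_of_eq ?_) (Finset.sum_le_sum_of_subset_of_nonneg
      (Finset.filter_subset (fun x : C => (x : G) ∈ D) Finset.univ) fun _ _ _ => by positivity)
    rw [Finset.sum_congr rfl fun x hx => by rw [hnorm x (Finset.mem_filter.mp hx).2],
      Finset.sum_const, nsmul_eq_mul, mul_comm, Nat.card_eq_fintype_card]
    congr 1
    rw [← Fintype.card_subtype]
    congr 1
    refine Fintype.card_congr ?_
    exact
      { toFun := fun d => ⟨⟨d.1, hDC d.2⟩, d.2⟩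
        invFun := fun x => ⟨x.1.1, x.2⟩
        left_inv := fun _ => rfl
        right_inv := fun _ => rfl }
  rw [ha, Complex.norm_natCast]
  have hG : (Nat.card G : ℝ) = C.index * Nat.card C := by
    exact_mod_cast C.index_mul_card.symm
  have hle : (a : ℝ) ≤ C.index * f := by exact_mod_cast hab
  calc (a : ℝ) ^ 2 * Nat.card C * Nat.card D
      ≤ ((C.index : ℝ) * f) ^ 2 * Nat.card C * Nat.card D := by gcongr
    _ = (C.index : ℝ) ^ 2 * Nat.card C * ((f : ℝ) ^ 2 * Nat.card D) := by ring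
    _ ≤ (C.index : ℝ) ^ 2 * Nat.card C * Nat.card C := by gcongr
    _ = (Nat.card G : ℝ) ^ 2 := by rw [hG]; ring

/-- Let ψ be an irreducible character of the finite group G and B ≤ D ≤ C subgroups with B normal in C, every commutator of an element of D with an element of C lying in B (so D/B is central in C/B), and ψ constant equal to ψ 1 on B. Then ψ(1) ^ 2 * |C| * |D| ≤ |G| ^ 2. -/
theorem result {G : Type*} [Group G] [Finite G] (ψ : G → ℂ) (hψ : Cfsg.IsIrrCharacter G ψ) (B C D : Subgroup G) (hBD : B ≤ D) (hDC : D ≤ C) (hBn : ∀ c ∈ C, ∀ b ∈ B, c * b * c⁻¹ ∈ B) (hcent : ∀ d ∈ D, ∀ c ∈ C, d * c * d⁻¹ * c⁻¹ ∈ B) (hker : ∀ b ∈ B, ψ b = ψ 1) : ‖ψ 1‖ ^ 2 * (Nat.card C : ℝ) * (Nat.card D : ℝ) ≤ (Nat.card G : ℝ) ^ 2 := by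
  exact degree_bound ψ hψ B C D hBD hDC hcent hker


end Cfsg.Agent.S1492
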