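import Cfsg.Statements.S1493
import Cfsg.Agent.Lib.Char.Monomial
-- import your own Cfsg.Agent.* helpers here

set_option autoImplicit false
open Cfsg

namespace Cfsg.Agent.S1493

/-- Let G be a finite group of order a * b with a and b coprime, let k be coprime to a, and let χ be a character of G. Then there is a character χ' of G such that χ'(g) = χ(g ^ k) whenever the order of g divides a and χ'(g) = χ(g) whenever the order of g is coprime to a; moreover χ' is irreducible if χ is. -/
theorem result {G : Type*} [Group G] [Finite G] (a b k : ℕ) (hab : Nat.card G = a * b) (hcop : Nat.Coprime a b) (hk : Nat.Coprime k a) (χ : G → ℂ) (hχ : Cfsg.IsCharacter G χ) : ∃ χ' : G → ℂ, Cfsg.IsCharacter G χ' ∧ (Cfsg.IsIrrCharacter G χ → Cfsg.IsIrrCharacter G χ') ∧ (∀ g : G, orderOf g ∣ a → χ' g = χ (g ^ k)) ∧ (∀ g : G, Nat.Coprime (orderOf g) a → χ' g = χ g) := by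

  cases nonempty_fintype G
  obtain ⟨K, hKa, hKb⟩ := Nat.chineseRemainder hcop k 1
  have hKcop : (Nat.card G).Coprime K := by
    rw [hab]
    have h1 : Nat.Coprime K a := by
      rw [Nat.Coprime, hKa.gcd_eq]; exact hk
    have h2 : Nat.Coprime K b := by
      rw [Nat.Coprime, hKb.gcd_eq]; exact Nat.coprime_one_left b
    exact (h1.mul_right h2).symm
  refine ⟨fun g => χ (g ^ K), CfsgLib.Char.IsCharacter.comp_pow hχ K hKcop,
    fun h => CfsgLib.Char.IsIrrCharacter.comp_pow h K hKcop, fun g hg => ?_, fun g hg => ?_⟩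
  · show χ (g ^ K) = χ (g ^ k)
    rw [pow_eq_pow_iff_modEq.mpr (hKa.of_dvd hg)]
  · show χ (g ^ K) = χ g
    have hb : orderOf g ∣ b := hg.dvd_of_dvd_mul_left (hab ▸ orderOf_dvd_natCard g)
    conv_rhs => rw [← pow_one g]
    rw [pow_eq_pow_iff_modEq.mpr (hKb.of_dvd hb)]


end Cfsg.Agent.S1493
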