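import Cfsg.Statements.S1498
import Cfsg.Agent.Lib.Coprime.SchurZassenhaus
-- import your own Cfsg.Agent.* helpers here

set_option autoImplicit false
open Cfsg

namespace Cfsg.Agent.S1498

theorem mem_of_coprime {G : Type*} [Group G] [Finite G] {A : Set G} {L : Subgroup G}
    {H : G → Subgroup G} (hD : Cfsg.DadeHypothesis A L H) {b : G} (hb : b ∈ A) {u : G}
    (hu : u ∈ Subgroup.centralizer ({b} : Set G))
    (hco : Nat.Coprime (orderOf u) (Nat.card ↥(L ⊓ Subgroup.centralizer ({b} : Set G)))) :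
    u ∈ H b := by
  have hn : L ⊓ Subgroup.centralizer ({b} : Set G) ≤ Subgroup.normalizer (H b : Set G) :=
    fun l hl => CfsgLib.Coprime.mem_normalizer_of_conj_map_le fun z hz =>
      hD.conj_mem_H b hb l hl.2 z hz
  rw [← hD.sup_eq b hb, CfsgLib.Coprime.mem_sup_of_le_normalizer hn] at hu
  obtain ⟨h, hh, l, hl, rfl⟩ := hu
  have hpow : ∀ k : ℕ, ∃ m ∈ H b, (h * l) ^ k = m * l ^ k := by
    intro k
    induction k with
    | zero => exact ⟨1, one_mem _, by simp⟩
    | succ k ih =>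
      obtain ⟨m, hm, e⟩ := ih
      refine ⟨m * (l ^ k * h * (l ^ k)⁻¹), mul_mem hm ?_, by rw [pow_succ, e, pow_succ]; group⟩
      exact hD.conj_mem_H b hb _ (pow_mem hl.2 k) h hh
  obtain ⟨m, hm, e⟩ := hpow (orderOf (h * l))
  rw [pow_orderOf_eq_one] at e
  have hl1 : l ^ orderOf (h * l) = 1 := by
    have hmem : l ^ orderOf (h * l) ∈ H b ⊓ (L ⊓ Subgroup.centralizer ({b} : Set G)) := by
      refine Subgroup.mem_inf.mpr ⟨?_, pow_mem hl _⟩
      rw [(mul_eq_one_iff_inv_eq.mp e.symm).symm]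
      exact inv_mem hm
    rw [hD.inf_eq_bot b hb, Subgroup.mem_bot] at hmem
    exact hmem
  have h1 : orderOf l ∣ Nat.gcd (orderOf (h * l))
      (Nat.card ↥(L ⊓ Subgroup.centralizer ({b} : Set G))) :=
    Nat.dvd_gcd (orderOf_dvd_of_pow_eq_one hl1) (Subgroup.orderOf_dvd_natCard _ hl)
  rw [hco.gcd_eq_one, Nat.dvd_one, orderOf_eq_one_iff] at h1
  rwa [h1, mul_one]

theorem map_le {G : Type*} [Group G] [Finite G] {A : Set G} {L : Subgroup G}
    {H : G → Subgroup G} (hD : Cfsg.DadeHypothesis A L H) {a : G} (ha : a ∈ A) {x : G}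
    (hx : x ∈ L) : (H a).map (MulAut.conj x).toMonoidHom ≤ H (x * a * x⁻¹) := by
  rintro _ ⟨u, hu, rfl⟩
  have hb := hD.conj_mem x hx a ha
  refine mem_of_coprime hD hb ?_ ?_
  · have hc := hD.le_centralizer a ha hu
    rw [Subgroup.mem_centralizer_singleton_iff] at hc ⊢
    have h3 := congrArg (fun t => x * t * x⁻¹) hc
    simpa [mul_assoc] using h3
  · change Nat.Coprime (orderOf ((MulAut.conj x) u)) _
    rw [MulEquiv.orderOf_eq]
    exact Nat.Coprime.coprime_dvd_left (Subgroup.orderOf_dvd_natCard _ hu) (hD.coprime a ha _ hb)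

theorem conj_eq {G : Type*} [Group G] [Finite G] (A : Set G) (L : Subgroup G)
    (H : G → Subgroup G) (hD : Cfsg.DadeHypothesis A L H) (a : G) (ha : a ∈ A) (x : G)
    (hx : x ∈ L) : H (x * a * x⁻¹) = (H a).map (MulAut.conj x).toMonoidHom := by
  refine le_antisymm (fun v hv => ?_) (map_le hD ha hx)
  have h := map_le hD (hD.conj_mem x hx a ha) (L.inv_mem hx) ⟨v, hv, rfl⟩
  rw [show x⁻¹ * (x * a * x⁻¹) * x⁻¹⁻¹ = a by group] at h
  exact ⟨_, h, by simp [mul_assoc]⟩

/-- Under the Dade hypothesis for (A, L, H): for a ∈ A and x ∈ L, the subgroup attached to x * a * x⁻¹ is the conjugate of H a by x. -/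
theorem result {G : Type*} [Group G] [Finite G] (A : Set G) (L : Subgroup G) (H : G → Subgroup G) (hD : Cfsg.DadeHypothesis A L H) (a : G) (ha : a ∈ A) (x : G) (hx : x ∈ L) : H (x * a * x⁻¹) = (H a).map (MulAut.conj x).toMonoidHom := by
  exact conj_eq A L H hD a ha x hx


end Cfsg.Agent.S1498
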