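import Cfsg.Statements.S1499
import Cfsg.Agent.Lib.Char.Dade
-- import your own Cfsg.Agent.* helpers here

set_option autoImplicit false
open Cfsg

namespace Cfsg.Agent.S1499

/-- Under the Dade hypothesis for (A, L, H), let a, b ∈ A. If an element of the coset a·H(a) is conjugate in G to an element of b·H(b), then a and b are conjugate by an element of L. Moreover the set normaliser of the coset a·H(a) is the centraliser of a. -/
theorem result {G : Type*} [Group G] [Finite G] (A : Set G) (L : Subgroup G) (H : G → Subgroup G) (hD : Cfsg.DadeHypothesis A L H) (a b : G) (ha : a ∈ A) (hb : b ∈ A) : ((∃ u ∈ H a, ∃ v ∈ H b, ∃ g : G, g * (a * u) * g⁻¹ = b * v) → ∃ x ∈ L, x * a * x⁻¹ = b) ∧ Subgroup.normalizer ((fun u : G => a * u) '' (H a : Set G)) = Subgroup.centralizer ({a} : Set G) := by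

  refine ⟨fun ⟨u, hu, v, hv, g, h⟩ => CfsgLib.Char.Dade.fusion' hD ha hb hu hv h,
    le_antisymm (fun g hg => ?_) fun g hg => ?_⟩
  · rw [Subgroup.mem_set_normalizer_iff] at hg
    obtain ⟨u, hu, e⟩ := (hg a).mp ⟨1, (H a).one_mem, mul_one a⟩
    have h := CfsgLib.Char.Dade.conj_eq hD ha ha (H a).one_mem hu (g := g)
      (by rw [mul_one]; exact e.symm)
    exact Subgroup.mem_centralizer_singleton_iff.mpr (mul_inv_eq_iff_eq_mul.mp h)
  · have key : ∀ c : G, c ∈ Subgroup.centralizer ({a} : Set G) → ∀ y,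
        y ∈ (fun u : G => a * u) '' (H a : Set G) →
        c * y * c⁻¹ ∈ (fun u : G => a * u) '' (H a : Set G) := by
      rintro c hc _ ⟨u, hu, rfl⟩
      refine ⟨c * u * c⁻¹, hD.conj_mem_H a ha c hc u hu, ?_⟩
      have h1 := Subgroup.mem_centralizer_singleton_iff.mp hc
      show a * (c * u * c⁻¹) = c * (a * u) * c⁻¹
      rw [← mul_assoc c a u, h1]
      group
    rw [Subgroup.mem_set_normalizer_iff]
    intro y
    refine ⟨key g hg y, fun h => ?_⟩
    have := key g⁻¹ (Subgroup.inv_mem _ hg) _ h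
    simpa [mul_assoc] using this


end Cfsg.Agent.S1499
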