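import Cfsg.Statements.S1504
import Cfsg.Agent.Lib.Char.Linear
-- import your own Cfsg.Agent.* helpers here

set_option autoImplicit false
open Cfsg

namespace Cfsg.Agent.S1504

open scoped ComplexConjugate

open CfsgLib.Char in
theorem both {G : Type*} [Group G] [Finite G] (W₁ W₂ : Subgroup G) (hdisj : W₁ ⊓ W₂ = ⊥)
    (hcomm : ∀ a ∈ W₁, ∀ b ∈ W₂, a * b = b * a) :
    (∀ φ ψ : ↥(W₁ ⊔ W₂) →* ℂˣ, (∀ w : ↥(W₁ ⊔ W₂), (w : G) ∈ W₂ → φ w = 1) →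
      (∀ w : ↥(W₁ ⊔ W₂), (w : G) ∈ W₁ → ψ w = 1) → ∀ w : ↥(W₁ ⊔ W₂),
      ((w : G) ∈ W₁ ∨ (w : G) ∈ W₂) →
        (1 - (φ w : ℂ) - (ψ w : ℂ) + (φ w : ℂ) * (ψ w : ℂ)) = 0) ∧
    LinearIndependent ℂ (fun p : {p : (↥(W₁ ⊔ W₂) →* ℂˣ) × (↥(W₁ ⊔ W₂) →* ℂˣ) // p.1 ≠ 1 ∧ p.2 ≠ 1 ∧ (∀ w : ↥(W₁ ⊔ W₂), (w : G) ∈ W₂ → p.1 w = 1) ∧ (∀ w : ↥(W₁ ⊔ W₂), (w : G) ∈ W₁ → p.2 w = 1)} => fun w : ↥(W₁ ⊔ W₂) => 1 - (p.1.1 w : ℂ) - (p.1.2 w : ℂ) + (p.1.1 w : ℂ) * (p.1.2 w : ℂ)) := by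
  classical
  refine ⟨fun φ ψ hφ hψ w hw => ?_, ?_⟩
  · rcases hw with h | h
    · simp [hψ w h]
    · simp [hφ w h]
  cases nonempty_fintype ↥(W₁ ⊔ W₂)
  have hle1 : W₁ ≤ Subgroup.centralizer (W₂ : Set G) := fun a ha b hb => (hcomm a ha b hb).symm
  have hdec : ∀ w : ↥(W₁ ⊔ W₂), ∃ a b : ↥(W₁ ⊔ W₂), (a : G) ∈ W₁ ∧ (b : G) ∈ W₂ ∧ w = a * b := by
    intro w
    have hn : W₂ ≤ Subgroup.normalizer (W₁ : Set G) := fun b hb => by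
      rw [Subgroup.mem_normalizer_iff]
      intro a
      constructor
      · intro ha
        rwa [← hcomm a ha b hb, mul_inv_cancel_right]
      · intro ha
        have h2 : b * a = b * a * b⁻¹ * b := by group
        have h3 : b * a * b⁻¹ * b = b * (b * a * b⁻¹) := hcomm _ ha b hb
        have h4 : a = b * a * b⁻¹ := mul_left_cancel (h2.trans h3)
        rwa [h4]
    have hw := w.2
    rw [← SetLike.mem_coe, Subgroup.coe_mul_of_right_le_normalizer_left W₁ W₂ hn] at hw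
    obtain ⟨a, ha, b, hb, e⟩ := Set.mem_mul.mp hw
    exact ⟨⟨a, Subgroup.mem_sup_left ha⟩, ⟨b, Subgroup.mem_sup_right hb⟩, ha, hb, Subtype.ext e.symm⟩
  let X := {p : (↥(W₁ ⊔ W₂) →* ℂˣ) × (↥(W₁ ⊔ W₂) →* ℂˣ) // p.1 ≠ 1 ∧ p.2 ≠ 1 ∧
    (∀ w : ↥(W₁ ⊔ W₂), (w : G) ∈ W₂ → p.1 w = 1) ∧ (∀ w : ↥(W₁ ⊔ W₂), (w : G) ∈ W₁ → p.2 w = 1)}
  have hsep : ∀ (f g f' g' : ↥(W₁ ⊔ W₂) →* ℂˣ),
      (∀ w : ↥(W₁ ⊔ W₂), (w : G) ∈ W₂ → f w = 1 ∧ f' w = 1) →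
      (∀ w : ↥(W₁ ⊔ W₂), (w : G) ∈ W₁ → g w = 1 ∧ g' w = 1) → f * g = f' * g' → f = f' ∧ g = g' := by
    intro f g f' g' hf hg he
    constructor
    · ext w
      obtain ⟨a, b, ha, hb, rfl⟩ := hdec w
      have h := DFunLike.congr_fun he a
      simp only [MonoidHom.mul_apply, (hg a ha).1, (hg a ha).2, mul_one] at h
      simp [map_mul, (hf b hb).1, (hf b hb).2, h]
    · ext w
      obtain ⟨a, b, ha, hb, rfl⟩ := hdec w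
      have h := DFunLike.congr_fun he b
      simp only [MonoidHom.mul_apply, (hf b hb).1, (hf b hb).2, one_mul] at h
      simp [map_mul, (hg a ha).1, (hg a ha).2, h]
  rw [linearIndependent_iff']
  intro s c hs p hp
  set τ : ↥(W₁ ⊔ W₂) →* ℂˣ := p.1.1 * p.1.2 with hτ
  have hin : ∀ q : X, Cfsg.classInner (fun w : ↥(W₁ ⊔ W₂) =>
      1 - (q.1.1 w : ℂ) - (q.1.2 w : ℂ) + (q.1.1 w : ℂ) * (q.1.2 w : ℂ)) (fun w => (τ w : ℂ)) =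
      if q = p then 1 else 0 := by
    intro q
    have horth : ∀ f : ↥(W₁ ⊔ W₂) →* ℂˣ, Cfsg.classInner (fun w => (f w : ℂ)) (fun w => (τ w : ℂ)) =
        if f = τ then 1 else 0 := by
      intro f
      rw [classInner_irr (isIrrCharacter_hom f) (isIrrCharacter_hom τ)]
      exact if_congr ⟨fun h => coe_hom_injective h, fun h => h ▸ rfl⟩ rfl rfl
    rw [show (fun w : ↥(W₁ ⊔ W₂) =>
        1 - (q.1.1 w : ℂ) - (q.1.2 w : ℂ) + (q.1.1 w : ℂ) * (q.1.2 w : ℂ)) =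
        (fun w => (((1 : ↥(W₁ ⊔ W₂) →* ℂˣ) w : ℂˣ) : ℂ)) - (fun w => (q.1.1 w : ℂ)) -
          (fun w => (q.1.2 w : ℂ)) + (fun w => (((q.1.1 * q.1.2) w : ℂˣ) : ℂ)) from funext fun w => by
        simp,
      classInner_add_left, classInner_sub_left, classInner_sub_left, horth, horth, horth, horth]
    have hpf := p.2
    have hqf := q.2
    have h1 : (1 : ↥(W₁ ⊔ W₂) →* ℂˣ) ≠ τ := fun h => hpf.1 (hsep p.1.1 p.1.2 1 1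
      (fun w hw => ⟨hpf.2.2.1 w hw, rfl⟩) (fun w hw => ⟨hpf.2.2.2 w hw, rfl⟩) (h.symm.trans (MonoidHom.ext fun _ => (mul_one _).symm))).1
    have h2 : q.1.1 ≠ τ := fun h => hpf.2.1 (hsep p.1.1 p.1.2 q.1.1 1
      (fun w hw => ⟨hpf.2.2.1 w hw, hqf.2.2.1 w hw⟩) (fun w hw => ⟨hpf.2.2.2 w hw, rfl⟩)
      (h.symm.trans (MonoidHom.ext fun _ => (mul_one _).symm))).2
    have h3 : q.1.2 ≠ τ := fun h => hpf.1 (hsep p.1.1 p.1.2 1 q.1.2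
      (fun w hw => ⟨hpf.2.2.1 w hw, rfl⟩) (fun w hw => ⟨hpf.2.2.2 w hw, hqf.2.2.2 w hw⟩)
      (h.symm.trans (MonoidHom.ext fun _ => (one_mul _).symm))).1
    simp only [if_neg h1, if_neg h2, if_neg h3, sub_zero, zero_add]
    refine if_congr ⟨fun h => ?_, fun h => h ▸ rfl⟩ rfl rfl
    obtain ⟨e1, e2⟩ := hsep q.1.1 q.1.2 p.1.1 p.1.2
      (fun w hw => ⟨hqf.2.2.1 w hw, hpf.2.2.1 w hw⟩) (fun w hw => ⟨hqf.2.2.2 w hw, hpf.2.2.2 w hw⟩) h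
    exact Subtype.ext (Prod.ext e1 e2)
  have h0 := congrArg (fun f => Cfsg.classInner f (fun w : ↥(W₁ ⊔ W₂) => (τ w : ℂ))) hs
  simp only [classInner_sum_left, classInner_smul_left, classInner_zero_left, hin,
    mul_ite, mul_one, mul_zero, Finset.sum_ite_eq', hp, if_true] at h0
  exact h0

/-- Let W₁, W₂ be subgroups of a finite group with W₁ ⊓ W₂ = ⊥ whose elements commute, and W = W₁ ⊔ W₂. For linear characters φ, ψ of W with φ trivial on W₂ and ψ trivial on W₁, the function (1 − φ)(1 − ψ) vanishes on W₁ ∪ W₂; and the family of these functions, indexed by pairs (φ, ψ) with φ ≠ 1 ≠ ψ, is linearly independent over ℂ. -/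
theorem result {G : Type*} [Group G] [Finite G] (W₁ W₂ : Subgroup G) (hdisj : W₁ ⊓ W₂ = ⊥) (hcomm : ∀ a ∈ W₁, ∀ b ∈ W₂, a * b = b * a) : (∀ φ ψ : ↥(W₁ ⊔ W₂) →* ℂˣ, (∀ w : ↥(W₁ ⊔ W₂), (w : G) ∈ W₂ → φ w = 1) → (∀ w : ↥(W₁ ⊔ W₂), (w : G) ∈ W₁ → ψ w = 1) → ∀ w : ↥(W₁ ⊔ W₂), ((w : G) ∈ W₁ ∨ (w : G) ∈ W₂) → (1 - (φ w : ℂ) - (ψ w : ℂ) + (φ w : ℂ) * (ψ w : ℂ)) = 0) ∧ LinearIndependent ℂ (fun p : {p : (↥(W₁ ⊔ W₂) →* ℂˣ) × (↥(W₁ ⊔ W₂) →* ℂˣ) // p.1 ≠ 1 ∧ p.2 ≠ 1 ∧ (∀ w : ↥(W₁ ⊔ W₂), (w : G) ∈ W₂ → p.1 w = 1) ∧ (∀ w : ↥(W₁ ⊔ W₂), (w : G) ∈ W₁ → p.2 w = 1)} => fun w : ↥(W₁ ⊔ W₂) => 1 - (p.1.1 w : ℂ) - (p.1.2 w : ℂ) + (p.1.1 w : ℂ) * (p.1.2 w : ℂ)) := by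
  exact both W₁ W₂ hdisj hcomm


end Cfsg.Agent.S1504
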