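import Cfsg.Statements.S1507
import Cfsg.Agent.Lib.Char.CyclicTIPair

set_option autoImplicit false
open Cfsg

namespace Cfsg.Agent.S1507

open Classical in
/-- Let W₁, W₂ ≤ G form a self-normalising cyclic subgroup W = W₁ ⊔ W₂ of odd order with Nat.card W₁ < Nat.card W₂, and χ an orthonormal family of irreducible characters of G up to sign, indexed by the linear characters ω of W, with χ_1 = 1, χ_ω = ω on W outside W₁ ∪ W₂, and the induction identity for (1 − φ)(1 − ψ). Let θ be a class function of G vanishing on W outside W₁ ∪ W₂, and suppose fewer than 2 · Nat.card W₁ linear characters ω of W have ⟨θ, χ ω⟩ ≠ 0. Then one of: all ⟨θ, χ ω⟩ vanish; or there are ψ₀ and a with ⟨θ, χ ω⟩ = a when ω ψ₀⁻¹ is trivial on W₂ and 0 otherwise; or there are φ₀ and a with ⟨θ, χ ω⟩ = a when ω φ₀⁻¹ is trivial on W₁ and 0 otherwise. -/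
theorem result {G : Type*} [Group G] [Fintype G] (W₁ W₂ : Subgroup G) (hW : Cfsg.IsSelfNormalizingCyclic W₁ W₂) (hodd : Odd (Nat.card ↥(W₁ ⊔ W₂))) (χ : (↥(W₁ ⊔ W₂) →* ℂˣ) → (G → ℂ)) (hχ : Cfsg.IsCyclicTIFamily W₁ W₂ χ) (hlt : Nat.card W₁ < Nat.card W₂) (θ : G → ℂ) (hθ : Cfsg.IsClassFunction G θ) (hθV : ∀ w : ↥(W₁ ⊔ W₂), (w : G) ∉ W₁ → (w : G) ∉ W₂ → θ w = 0) (hfew : Nat.card {ω : ↥(W₁ ⊔ W₂) →* ℂˣ // Cfsg.classInner θ (χ ω) ≠ 0} < 2 * Nat.card W₁) : (∀ ω, Cfsg.classInner θ (χ ω) = 0) ∨ (∃ (ψ₀ : ↥(W₁ ⊔ W₂) →* ℂˣ) (a : ℂ), ∀ ω, Cfsg.classInner θ (χ ω) = if (∀ w : ↥(W₁ ⊔ W₂), (w : G) ∈ W₂ → (ω * ψ₀⁻¹) w = 1) then a else 0) ∨ (∃ (φ₀ : ↥(W₁ ⊔ W₂) →* ℂˣ) (a : ℂ), ∀ ω, Cfsg.classInner θ (χ ω) = if (∀ w : ↥(W₁ ⊔ W₂), (w : G) ∈ W₁ → (ω * φ₀⁻¹) w = 1) then a else 0) := by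
  classical
  cases nonempty_fintype ↥(W₁ ⊔ W₂)
  have := CfsgLib.Char.CyclicTI.finite_hom (W₁ := W₁) (W₂ := W₂)
  cases nonempty_fintype (↥(W₁ ⊔ W₂) →* ℂˣ)
  set a : (↥(W₁ ⊔ W₂) →* ℂˣ) → ℂ := fun ω => Cfsg.classInner θ (χ ω) with ha
  have key : ∀ f g : ↥(W₁ ⊔ W₂) →* ℂˣ, (∀ w : ↥(W₁ ⊔ W₂), (w : G) ∈ W₂ → f w = 1) →
      (∀ w : ↥(W₁ ⊔ W₂), (w : G) ∈ W₁ → g w = 1) → a (f * g) = a f + (a g - a 1) := by
    intro f g hf hg
    by_cases h1 : f = 1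
    · rw [h1, show (1 : ↥(W₁ ⊔ W₂) →* ℂˣ) * g = g from MonoidHom.ext fun _ => one_mul _]; ring
    by_cases h2 : g = 1
    · rw [h2, show f * (1 : ↥(W₁ ⊔ W₂) →* ℂˣ) = f from MonoidHom.ext fun _ => mul_one _]; ring
    have h := CfsgLib.Char.CyclicTI.classInner_family hW hχ hθ f g h1 h2 hf hg
    have h0 : Cfsg.classInner (fun w : ↥(W₁ ⊔ W₂) => θ w) (CfsgLib.Char.CyclicTI.alpha f g) = 0 := by
      rw [Cfsg.classInner]
      refine mul_eq_zero_of_right _ (Finset.sum_eq_zero fun w _ => ?_)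
      by_cases hw : (w : G) ∈ CfsgLib.Char.CyclicTI.vset W₁ W₂
      · obtain ⟨-, p, q⟩ := CfsgLib.Char.CyclicTI.mem_vset.mp hw
        rw [hθV w p q, zero_mul]
      · rw [CfsgLib.Char.CyclicTI.alpha_eq_zero f g hf hg w hw, map_zero, mul_zero]
    rw [h0] at h
    simp only [ha]
    linear_combination -h
  have hb := CfsgLib.Char.CyclicTI.mul_bijective hW
  obtain ⟨hc1, hc2⟩ := CfsgLib.Char.CyclicTI.card_fstChar hW
  have h3 : ∀ K : Subgroup G, K ≤ W₁ ⊔ W₂ → K ≠ ⊥ → 3 ≤ Nat.card K ∧ Odd (Nat.card K) := by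
    intro K hle hne
    obtain ⟨k, hk⟩ := hodd.of_dvd_nat (Subgroup.card_dvd_of_le hle)
    have := (Subgroup.one_lt_card_iff_ne_bot K).mpr hne
    exact ⟨by omega, k, hk⟩
  obtain ⟨h31, u, hu⟩ := h3 W₁ le_sup_left hW.1
  obtain ⟨-, v, hv⟩ := h3 W₂ le_sup_right hW.2.1
  -- the non-zero entries
  have hcount : Nat.card {p : CfsgLib.Char.CyclicTI.FstChar W₁ W₂ × CfsgLib.Char.CyclicTI.SndChar W₁ W₂ //
      a p.1.1 + (a p.2.1 - a 1) ≠ 0} < 2 * Nat.card W₁ := by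
    refine lt_of_le_of_lt (le_of_eq ?_) hfew
    exact Nat.card_congr ((Equiv.ofBijective _ hb).subtypeEquiv fun p => by
      rw [Equiv.ofBijective_apply, ← key _ _ p.1.2 p.2.2])
  by_cases hr : ∀ φ : CfsgLib.Char.CyclicTI.FstChar W₁ W₂, a φ.1 = a 1
  · -- the value depends only on the part trivial on `W₁`
    by_cases hall : ∀ ψ : CfsgLib.Char.CyclicTI.SndChar W₁ W₂, a ψ.1 = 0
    · refine Or.inl fun ω => ?_
      obtain ⟨⟨φ, ψ⟩, rfl⟩ := hb.2 ω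
      show a (φ.1 * ψ.1) = 0
      rw [key _ _ φ.2 ψ.2, hr φ, hall ψ]
      linear_combination (0 : ℂ) * hall ψ
    push Not at hall
    obtain ⟨ψ₀, hψ₀⟩ := hall
    refine Or.inr (Or.inl ⟨ψ₀.1, a ψ₀.1, fun ω => ?_⟩)
    obtain ⟨⟨φ, ψ⟩, rfl⟩ := hb.2 ω
    show a (φ.1 * ψ.1) = _
    rw [key _ _ φ.2 ψ.2, hr φ, add_sub_cancel]
    have hiff : (∀ w : ↥(W₁ ⊔ W₂), (w : G) ∈ W₂ → (φ.1 * ψ.1 * ψ₀.1⁻¹) w = 1) ↔ ψ = ψ₀ := by
      constructor
      · intro h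
        refine Subtype.ext (mul_inv_eq_one.mp (CfsgLib.Char.CyclicTI.hom_eq_one _ (fun w hw => by
          simp [ψ.2 w hw, ψ₀.2 w hw]) fun w hw => ?_))
        have := h w hw
        simpa [φ.2 w hw] using this
      · rintro rfl w hw
        simp [φ.2 w hw]
    dsimp only
    by_cases h : ψ = ψ₀
    · rw [if_pos (hiff.mpr h), h]
    · rw [if_neg (hiff.not.mpr h)]
      by_contra hψ
      refine absurd hcount (not_lt.mpr ?_)
      let f : CfsgLib.Char.CyclicTI.FstChar W₁ W₂ × Bool →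
          {p : CfsgLib.Char.CyclicTI.FstChar W₁ W₂ × CfsgLib.Char.CyclicTI.SndChar W₁ W₂ //
            a p.1.1 + (a p.2.1 - a 1) ≠ 0} := fun x => ⟨(x.1, bif x.2 then ψ₀ else ψ), by
        rw [hr x.1, add_sub_cancel]; cases x.2 <;> assumption⟩
      have hf : Function.Injective f := by
        rintro ⟨x, i⟩ ⟨y, j⟩ hxy
        have e1 : x = y := congrArg (fun p => p.1.1) hxy
        have e2 : (bif i then ψ₀ else ψ) = (bif j then ψ₀ else ψ) := congrArg (fun p => p.1.2) hxy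
        cases i <;> cases j
        · rw [e1]
        · exact absurd e2 h
        · exact absurd e2.symm h
        · rw [e1]
      have := Nat.card_le_card_of_injective f hf
      rw [Nat.card_prod, Nat.card_eq_fintype_card (α := Bool), Fintype.card_bool, hc1] at this
      omega
  push Not at hr
  obtain ⟨φ', hφ'⟩ := hr
  by_cases hc : ∀ ψ : CfsgLib.Char.CyclicTI.SndChar W₁ W₂, a ψ.1 = a 1
  · by_cases hall : ∀ φ : CfsgLib.Char.CyclicTI.FstChar W₁ W₂, a φ.1 = 0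
    · refine Or.inl fun ω => ?_
      obtain ⟨⟨φ, ψ⟩, rfl⟩ := hb.2 ω
      show a (φ.1 * ψ.1) = 0
      rw [key _ _ φ.2 ψ.2, hc ψ, hall φ]
      ring
    push Not at hall
    obtain ⟨φ₀, hφ₀⟩ := hall
    refine Or.inr (Or.inr ⟨φ₀.1, a φ₀.1, fun ω => ?_⟩)
    obtain ⟨⟨φ, ψ⟩, rfl⟩ := hb.2 ω
    show a (φ.1 * ψ.1) = _
    rw [key _ _ φ.2 ψ.2, hc ψ, sub_self, add_zero]
    have hiff : (∀ w : ↥(W₁ ⊔ W₂), (w : G) ∈ W₁ → (φ.1 * ψ.1 * φ₀.1⁻¹) w = 1) ↔ φ = φ₀ := by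
      constructor
      · intro h
        refine Subtype.ext (mul_inv_eq_one.mp (CfsgLib.Char.CyclicTI.hom_eq_one _ (fun w hw => ?_)
          (fun w hw => by simp [φ.2 w hw, φ₀.2 w hw])))
        have := h w hw
        simpa [ψ.2 w hw] using this
      · rintro rfl w hw
        simp [ψ.2 w hw]
    dsimp only
    by_cases h : φ = φ₀
    · rw [if_pos (hiff.mpr h), h]
    · rw [if_neg (hiff.not.mpr h)]
      by_contra hφ
      refine absurd hcount (not_lt.mpr ?_)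
      let f : Bool × CfsgLib.Char.CyclicTI.SndChar W₁ W₂ →
          {p : CfsgLib.Char.CyclicTI.FstChar W₁ W₂ × CfsgLib.Char.CyclicTI.SndChar W₁ W₂ //
            a p.1.1 + (a p.2.1 - a 1) ≠ 0} := fun x => ⟨(bif x.1 then φ₀ else φ, x.2), by
        rw [hc x.2, sub_self, add_zero]; cases x.1 <;> assumption⟩
      have hf : Function.Injective f := by
        rintro ⟨i, x⟩ ⟨j, y⟩ hxy
        have e1 : x = y := congrArg (fun p => p.1.2) hxy
        have e2 : (bif i then φ₀ else φ) = (bif j then φ₀ else φ) := congrArg (fun p => p.1.1) hxy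
        cases i <;> cases j
        · rw [e1]
        · exact absurd e2 h
        · exact absurd e2.symm h
        · rw [e1]
      have := Nat.card_le_card_of_injective f hf
      rw [Nat.card_prod, Nat.card_eq_fintype_card (α := Bool), Fintype.card_bool, hc2] at this
      omega
  push Not at hc
  obtain ⟨ψ', hψ'⟩ := hc
  have h1 : a 1 = a ((⟨1, fun _ _ => rfl⟩ : CfsgLib.Char.CyclicTI.FstChar W₁ W₂)).1 := rfl
  have := CfsgLib.Char.CyclicTI.two_mul_card_le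
    (fun φ : CfsgLib.Char.CyclicTI.FstChar W₁ W₂ => a φ.1)
    (fun ψ : CfsgLib.Char.CyclicTI.SndChar W₁ W₂ => a ψ.1 - a 1)
    (by rw [← Nat.card_eq_fintype_card, hc1]; exact h31)
    (by rw [← Nat.card_eq_fintype_card, ← Nat.card_eq_fintype_card, hc1, hc2]; omega)
    ⟨φ', ⟨1, fun _ _ => rfl⟩, hφ'⟩
    ⟨ψ', ⟨1, fun _ _ => rfl⟩, fun h => hψ' (sub_left_injective h)⟩
  rw [← Nat.card_eq_fintype_card, hc1] at this
  omega

end Cfsg.Agent.S1507
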