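import Cfsg.Statements.S1509
import Cfsg.Agent.Lib.Char.Orth
-- import your own Cfsg.Agent.* helpers here

set_option autoImplicit false
open Cfsg

namespace Cfsg.Agent.S1509

open CfsgLib.Char in
theorem signed {X : Type*} [Group X] [Fintype X] {f g : X → ℂ}
    (hf : Cfsg.IsIrrCharacter X f ∨ Cfsg.IsIrrCharacter X (-f))
    (hg : Cfsg.IsIrrCharacter X g ∨ Cfsg.IsIrrCharacter X (-g)) :
    f 1 ≠ 0 ∧ Cfsg.classInner f f = 1 ∧ Cfsg.classInner g f = Cfsg.classInner f g ∧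
    (Cfsg.classInner f g ≠ 0 → g = Cfsg.classInner f g • f) := by
  classical
  have key : ∀ f g : X → ℂ, Cfsg.IsIrrCharacter X f → Cfsg.IsIrrCharacter X g →
      Cfsg.classInner g f = Cfsg.classInner f g ∧
      (Cfsg.classInner f g ≠ 0 → g = Cfsg.classInner f g • f) := by
    intro f g hf hg
    rw [classInner_irr hf hg, classInner_irr hg hf]
    by_cases h : f = g
    · simp [h]
    · simp [h, Ne.symm h]
  rcases hf with hf | hf <;> rcases hg with hg | hg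
  · exact ⟨IsIrrCharacter.apply_one_ne_zero hf, classInner_irr_self hf, key f g hf hg⟩
  · obtain ⟨k1, k2⟩ := key f (-g) hf hg
    simp only [classInner_neg_left, classInner_neg_right, neg_inj, ne_eq, neg_eq_zero,
      neg_smul] at k1 k2
    exact ⟨IsIrrCharacter.apply_one_ne_zero hf, classInner_irr_self hf, k1, k2⟩
  · obtain ⟨k1, k2⟩ := key (-f) g hf hg
    have h0 := IsIrrCharacter.apply_one_ne_zero hf
    have hs := classInner_irr_self hf
    simp only [classInner_neg_left, classInner_neg_right, neg_inj, neg_neg, ne_eq, neg_eq_zero,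
      neg_smul_neg, Pi.neg_apply] at k1 k2 h0 hs
    exact ⟨h0, hs, k1, k2⟩
  · obtain ⟨k1, k2⟩ := key (-f) (-g) hf hg
    have h0 := IsIrrCharacter.apply_one_ne_zero hf
    have hs := classInner_irr_self hf
    simp only [classInner_neg_left, classInner_neg_right, neg_neg, ne_eq, neg_eq_zero,
      smul_neg, neg_inj, Pi.neg_apply] at k1 k2 h0 hs
    exact ⟨h0, hs, k1, k2⟩

open CfsgLib.Char in
theorem first {X : Type*} [Group X] [Fintype X] (α β γ δ : X → ℂ)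
    (hα : Cfsg.IsIrrCharacter X α ∨ Cfsg.IsIrrCharacter X (-α))
    (hβ : Cfsg.IsIrrCharacter X β ∨ Cfsg.IsIrrCharacter X (-β))
    (hγ : Cfsg.IsIrrCharacter X γ ∨ Cfsg.IsIrrCharacter X (-γ))
    (hδ : Cfsg.IsIrrCharacter X δ ∨ Cfsg.IsIrrCharacter X (-δ))
    (u v : ℂ) (hu : u ≠ 0) (hv : v ≠ 0)
    (hab : Cfsg.classInner α β = 0) (hcd : Cfsg.classInner γ δ = 0)
    (hmix : u * (Cfsg.classInner α γ - Cfsg.classInner β γ) =
      v * (Cfsg.classInner α δ - Cfsg.classInner β δ))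
    (h1 : α 1 = β 1) (h2 : u * γ 1 = v * δ 1) : Cfsg.classInner α γ = 0 := by
  by_contra hs
  obtain ⟨hα1, hαα, -, hαγ⟩ := signed hα hγ
  have hγe := hαγ hs
  set s := Cfsg.classInner α γ
  have hsc : (starRingEnd ℂ) s ≠ 0 := by simpa using hs
  have hαδ : Cfsg.classInner α δ = 0 := by
    rw [hγe, classInner_smul_left, mul_eq_zero] at hcd
    exact hcd.resolve_left hs
  have hβγ : Cfsg.classInner β γ = 0 := by
    rw [hγe, classInner_smul_right, (signed hα hβ).2.2.1, hab, mul_zero]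
  rw [hαδ, hβγ, sub_zero, zero_sub] at hmix
  have ht : Cfsg.classInner β δ ≠ 0 := by
    intro h0
    rw [h0, neg_zero, mul_zero, mul_eq_zero] at hmix
    exact hmix.elim hu hs
  have hδe := (signed hβ hδ).2.2.2 ht
  rw [hδe] at h2
  rw [hγe] at h2
  simp only [Pi.smul_apply, smul_eq_mul] at h2
  have h3 : 2 * (u * s) * α 1 = 0 := by
    linear_combination h2 - v * Cfsg.classInner β δ * h1 + α 1 * hmix
  simp only [mul_eq_zero, OfNat.ofNat_ne_zero, false_or, hu, hs, hα1, or_self] at h3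

theorem orth4 {X : Type*} [Group X] [Fintype X] (α β γ δ : X → ℂ)
    (hα : Cfsg.IsIrrCharacter X α ∨ Cfsg.IsIrrCharacter X (-α))
    (hβ : Cfsg.IsIrrCharacter X β ∨ Cfsg.IsIrrCharacter X (-β))
    (hγ : Cfsg.IsIrrCharacter X γ ∨ Cfsg.IsIrrCharacter X (-γ))
    (hδ : Cfsg.IsIrrCharacter X δ ∨ Cfsg.IsIrrCharacter X (-δ))
    (u v : ℝ) (hu : u ≠ 0) (hv : v ≠ 0)
    (hab : Cfsg.classInner α β = 0) (hcd : Cfsg.classInner γ δ = 0)
    (hmix : Cfsg.classInner (α - β) ((u : ℂ) • γ - (v : ℂ) • δ) = 0)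
    (h1 : α 1 = β 1) (h2 : (u : ℂ) * γ 1 = (v : ℂ) * δ 1) :
    Cfsg.classInner α γ = 0 ∧ Cfsg.classInner α δ = 0 ∧ Cfsg.classInner β γ = 0 ∧
      Cfsg.classInner β δ = 0 := by
  simp only [CfsgLib.Char.classInner_sub_left, CfsgLib.Char.classInner_sub_right,
    CfsgLib.Char.classInner_smul_right, Complex.conj_ofReal] at hmix
  have hu' : (u : ℂ) ≠ 0 := by exact_mod_cast hu
  have hv' : (v : ℂ) ≠ 0 := by exact_mod_cast hv
  have hba : Cfsg.classInner β α = 0 := by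
    rw [← CfsgLib.Char.classInner_conj_symm, hab, map_zero]
  have hdc : Cfsg.classInner δ γ = 0 := by
    rw [← CfsgLib.Char.classInner_conj_symm, hcd, map_zero]
  exact ⟨first α β γ δ hα hβ hγ hδ u v hu' hv' hab hcd (by linear_combination hmix) h1 h2,
    first α β δ γ hα hβ hδ hγ v u hv' hu' hab hdc (by linear_combination -hmix) h1 h2.symm,
    first β α γ δ hβ hα hγ hδ u v hu' hv' hba hcd (by linear_combination -hmix) h1.symm h2,
    first β α δ γ hβ hα hδ hγ v u hv' hu' hba hdc (by linear_combination hmix) h1.symm h2.symm⟩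

/-- Let α, β, γ, δ be functions on a finite group X each of which is an irreducible character or the negative of one, and u, v nonzero real numbers. Suppose ⟨α, β⟩ = ⟨γ, δ⟩ = 0, ⟨α − β, uγ − vδ⟩ = 0, α 1 = β 1 and u γ 1 = v δ 1. Then also ⟨α, γ⟩ = ⟨α, δ⟩ = ⟨β, γ⟩ = ⟨β, δ⟩ = 0. -/
theorem result {X : Type*} [Group X] [Fintype X] (α β γ δ : X → ℂ) (hα : Cfsg.IsIrrCharacter X α ∨ Cfsg.IsIrrCharacter X (-α)) (hβ : Cfsg.IsIrrCharacter X β ∨ Cfsg.IsIrrCharacter X (-β)) (hγ : Cfsg.IsIrrCharacter X γ ∨ Cfsg.IsIrrCharacter X (-γ)) (hδ : Cfsg.IsIrrCharacter X δ ∨ Cfsg.IsIrrCharacter X (-δ)) (u v : ℝ) (hu : u ≠ 0) (hv : v ≠ 0) (hab : Cfsg.classInner α β = 0) (hcd : Cfsg.classInner γ δ = 0) (hmix : Cfsg.classInner (α - β) ((u : ℂ) • γ - (v : ℂ) • δ) = 0) (h1 : α 1 = β 1) (h2 : (u : ℂ) * γ 1 = (v : ℂ) * δ 1) : Cfsg.classInner α γ = 0 ∧ Cfsg.classInner α δ = 0 ∧ Cfsg.classInner β γ = 0 ∧ Cfsg.classInner β δ = 0 := by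
  exact orth4 α β γ δ hα hβ hγ hδ u v hu hv hab hcd hmix h1 h2


end Cfsg.Agent.S1509
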