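import Cfsg.Statements.S1512
import Cfsg.Agent.Lib.Char.CoprimeCoset
-- import your own Cfsg.Agent.* helpers here

set_option autoImplicit false
open Cfsg

namespace Cfsg.Agent.S1512

theorem card_le {L : Type*} [Group L] [Finite L] (K W₂ : Subgroup L) [K.Normal] (x : L)
    (hx1 : x ≠ 1) (hx : Nat.Coprime (orderOf x) (Nat.card K))
    (hC : ∀ y ∈ Subgroup.zpowers x, y ≠ 1 → K ⊓ Subgroup.centralizer ({y} : Set L) = W₂) :
    Nat.card {C : ConjClasses K //
      ConjClasses.map (MulEquiv.toMonoidHom (MulAut.conjNormal x : MulAut K)) C = C} ≤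
      Nat.card W₂ := by
  classical
  have hW := hC x (Subgroup.mem_zpowers x) hx1
  have hW2K : ∀ w ∈ W₂, w ∈ K := fun w hw => by rw [← hW] at hw; exact hw.1
  have hW2c : ∀ w ∈ W₂, w * x = x * w := fun w hw => by
    rw [← hW] at hw; exact Subgroup.mem_centralizer_singleton_iff.mp hw.2
  refine Nat.card_le_card_of_surjective
    (fun w : W₂ => ⟨ConjClasses.mk (⟨w, hW2K w w.2⟩ : K), ?_⟩) ?_
  · change ConjClasses.mk ((MulAut.conjNormal x : MulAut K) ⟨w, hW2K w w.2⟩) = _
    congr 1
    apply Subtype.ext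
    rw [MulAut.conjNormal_apply, ← hW2c w w.2, mul_inv_cancel_right]
  · rintro ⟨C, hCfix⟩
    obtain ⟨k, rfl⟩ := ConjClasses.exists_rep C
    have hfix : IsConj ((MulAut.conjNormal x : MulAut K) k) k :=
      ConjClasses.mk_eq_mk_iff_isConj.mp hCfix
    obtain ⟨m, hm⟩ := isConj_iff.mp hfix.symm
    have hfix' : x * k * x⁻¹ = m * k * (m : L)⁻¹ := by
      have := congrArg Subtype.val hm
      simpa using this.symm
    obtain ⟨z, hz, hzc⟩ :=
      CfsgLib.Char.exists_centralized_of_fixed_class K x hx k m k.2 m.2 hfix'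
    have hw : z * k * z⁻¹ ∈ W₂ := by
      rw [← hW]
      exact ⟨(inferInstance : K.Normal).conj_mem _ k.2 z,
        Subgroup.mem_centralizer_singleton_iff.mpr hzc⟩
    refine ⟨⟨_, hw⟩, Subtype.ext (ConjClasses.mk_eq_mk_iff_isConj.mpr ?_)⟩
    exact (isConj_iff.mpr ⟨⟨z, hz⟩, Subtype.ext rfl⟩).symm

/-- Let K be a normal subgroup of the finite group L and x a non-identity element whose order is coprime to the order of K, such that K ⊓ C_L(y) = W₂ for every non-identity element y of the cyclic group generated by x. Then the number of conjugacy classes of K mapped to themselves by conjugation by x is at most Nat.card W₂. -/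
theorem result {L : Type*} [Group L] [Finite L] (K W₂ : Subgroup L) [hK : K.Normal] (x : L) (hx1 : x ≠ 1) (hx : Nat.Coprime (orderOf x) (Nat.card K)) (hC : ∀ y ∈ Subgroup.zpowers x, y ≠ 1 → K ⊓ Subgroup.centralizer ({y} : Set L) = W₂) : Nat.card {C : ConjClasses K // ConjClasses.map (MulEquiv.toMonoidHom ((MulAut.conjNormal x : MulAut K))) C = C} ≤ Nat.card W₂ := by
  exact card_le K W₂ x hx1 hx hC


end Cfsg.Agent.S1512
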