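import Cfsg.Statements.S1515
import Cfsg.Agent.Lib.Char.Virtual
-- import your own Cfsg.Agent.* helpers here

set_option autoImplicit false
open Cfsg

namespace Cfsg.Agent.S1515

/-- Let (S, τ, R) be a coherence system from L to G, χ ∈ S, and ψ an integer combination of S with ⟨χ, ψ⟩ = ⟨conj χ, ψ⟩ = 0. Let τ₁ be a linear isometry on the integer combinations of χ − ψ and χ − conj χ, with virtual-character values, agreeing with τ on integer multiples of χ − conj χ. Then the sum over α ∈ R χ of the squared absolute values of ⟨τ₁(χ − ψ), α⟩ is at least ⟨χ, χ⟩; and if ⟨τ₁(χ − ψ), τ₁(χ − ψ)⟩ minus that sum is at least ⟨ψ, ψ⟩, then the sum equals ⟨χ, χ⟩ and every ⟨τ₁(χ − ψ), α⟩ with α ∈ R χ is 0 or 1. -/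
theorem result {L : Type*} [Group L] [Fintype L] {G : Type*} [Group G] [Fintype G] (S : Set (L → ℂ)) (τ : (L → ℂ) → (G → ℂ)) (R : (L → ℂ) → Finset (G → ℂ)) (hS : Cfsg.IsCoherenceSystem S τ R) (χ : L → ℂ) (hχ : χ ∈ S) (ψ : L → ℂ) (hψ : ψ ∈ Cfsg.zspan S) (h1 : Cfsg.classInner χ ψ = 0) (h2 : Cfsg.classInner (Cfsg.conjFun χ) ψ = 0) (τ₁ : (L → ℂ) → (G → ℂ)) (hτ₁ : Cfsg.IsLinearIsometryOn (Cfsg.zspan {χ - ψ, χ - Cfsg.conjFun χ}) τ₁) (hagree : ∀ n : ℤ, τ₁ (n • (χ - Cfsg.conjFun χ)) = τ (n • (χ - Cfsg.conjFun χ))) : (Cfsg.classInner χ χ).re ≤ ∑ α ∈ R χ, ‖Cfsg.classInner (τ₁ (χ - ψ)) α‖ ^ 2 ∧ ((Cfsg.classInner ψ ψ).re ≤ (Cfsg.classInner (τ₁ (χ - ψ)) (τ₁ (χ - ψ))).re - ∑ α ∈ R χ, ‖Cfsg.classInner (τ₁ (χ - ψ)) α‖ ^ 2 → (∑ α ∈ R χ, ‖Cfsg.classInner (τ₁ (χ - ψ)) α‖ ^ 2 = (Cfsg.classInner χ χ).re ∧ ∀ α ∈ R χ, Cfsg.classInner (τ₁ (χ - ψ)) α = 0 ∨ Cfsg.classInner (τ₁ (χ - ψ)) α = 1))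 := by

  classical
  set X := τ₁ (χ - ψ) with hX
  have hm1 : χ - ψ ∈ Cfsg.zspan {χ - ψ, χ - Cfsg.conjFun χ} := Submodule.subset_span (by simp)
  have hm2 : χ - Cfsg.conjFun χ ∈ Cfsg.zspan {χ - ψ, χ - Cfsg.conjFun χ} :=
    Submodule.subset_span (by simp)
  have hτeq : τ₁ (χ - Cfsg.conjFun χ) = τ (χ - Cfsg.conjFun χ) := by simpa using hagree 1
  have hgenX : Cfsg.IsGeneralizedCharacter G X := hτ₁.2.2.2 _ hm1
  choose! z hz using fun α (hα : α ∈ R χ) =>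
    CfsgLib.Char.IsGeneralizedCharacter.classInner_int hgenX (hS.virtual χ hχ α hα)
  obtain ⟨m, hm⟩ := CfsgLib.Char.IsCharacter.classInner_nat (hS.isCharacter χ hχ)
    (hS.isCharacter χ hχ)
  have horth : Cfsg.classInner χ (Cfsg.conjFun χ) = 0 :=
    hS.orthogonal χ hχ _ (hS.conj_mem χ hχ) (hS.conj_ne χ hχ).symm
  have h1' : Cfsg.classInner ψ χ = 0 := by rw [← CfsgLib.Char.classInner_conj_symm, h1, map_zero]
  have h2' : Cfsg.classInner ψ (Cfsg.conjFun χ) = 0 := by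
    rw [← CfsgLib.Char.classInner_conj_symm, h2, map_zero]
  have hsum : ((∑ α ∈ R χ, z α : ℤ) : ℂ) = ((m : ℤ) : ℂ) := by
    rw [Int.cast_sum, Finset.sum_congr rfl fun α hα => (hz α hα).symm,
      ← CfsgLib.Char.classInner_sum_right, ← hS.sum_eq χ hχ, ← hτeq, hX,
      hτ₁.2.2.1 _ hm1 _ hm2, CfsgLib.Char.classInner_sub_left, CfsgLib.Char.classInner_sub_right,
      CfsgLib.Char.classInner_sub_right, horth, h1', h2', hm]
    push_cast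
    ring
  have hsum' : ∑ α ∈ R χ, z α = (m : ℤ) := by exact_mod_cast hsum
  have hnorm : ∑ α ∈ R χ, ‖Cfsg.classInner X α‖ ^ 2 = ((∑ α ∈ R χ, z α * z α : ℤ) : ℝ) := by
    push_cast
    refine Finset.sum_congr rfl fun α hα => ?_
    rw [hz α hα, Complex.norm_intCast, sq_abs, sq]
  have hsq : ∀ a : ℤ, a ≤ a * a := fun a => by nlinarith [mul_self_nonneg (a - 1), mul_self_nonneg a]
  have hle : (m : ℤ) ≤ ∑ α ∈ R χ, z α * z α := hsum' ▸ Finset.sum_le_sum fun α _ => hsq (z α)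
  have hmre : (Cfsg.classInner χ χ).re = ((m : ℤ) : ℝ) := by rw [hm]; simp
  rw [hnorm, hmre]
  refine ⟨by exact_mod_cast hle, fun hyp => ?_⟩
  have hXX : (Cfsg.classInner X X).re = (Cfsg.classInner ψ ψ).re + ((m : ℤ) : ℝ) := by
    rw [hX, hτ₁.2.2.1 _ hm1 _ hm1, CfsgLib.Char.classInner_sub_left,
      CfsgLib.Char.classInner_sub_right, CfsgLib.Char.classInner_sub_right, h1, h1', hm]
    simp [add_comm]
  rw [hXX] at hyp
  have hge : ∑ α ∈ R χ, z α * z α ≤ (m : ℤ) := by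
    have : ((∑ α ∈ R χ, z α * z α : ℤ) : ℝ) ≤ ((m : ℤ) : ℝ) := by linarith
    exact_mod_cast this
  refine ⟨by exact_mod_cast le_antisymm hge hle, fun α hα => ?_⟩
  have h0 : ∀ β ∈ R χ, z β = z β * z β :=
    (Finset.sum_eq_sum_iff_of_le fun β _ => hsq (z β)).mp (by rw [hsum']; exact le_antisymm hle hge)
  rw [hz α hα]
  rcases mul_right_eq_self₀.mp (h0 α hα).symm with h | h <;> simp [h]


end Cfsg.Agent.S1515
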