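import Cfsg.Statements.S1518
import Cfsg.Agent.Lib.Char.DadeGen
import Cfsg.Agent.Lib.Char.Perm
-- import your own Cfsg.Agent.* helpers here

set_option autoImplicit false
open Cfsg

namespace Cfsg.Agent.S1518

/-- Under the Dade hypothesis for (A, L, H): if χ is an irreducible character of L vanishing at every non-identity element of L outside A, then the Dade image of χ − conj χ equals μ − conj μ for some irreducible character μ of G. -/
theorem result {G : Type*} [Group G] [Fintype G] (A : Set G) (L : Subgroup G) [Fintype L] (H : G → Subgroup G) (hD : Cfsg.DadeHypothesis A L H) (χ : L → ℂ) (hχ : Cfsg.IsIrrCharacter L χ) (hsupp : ∀ x : L, x ≠ 1 → (x : G) ∉ A → χ x = 0) : ∃ μ : G → ℂ, Cfsg.IsIrrCharacter G μ ∧ Cfsg.dadeIsometry A L H (χ - Cfsg.conjFun χ) = μ - Cfsg.conjFun μ := by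

  classical
  by_cases hreal : Cfsg.conjFun χ = χ
  · refine ⟨fun _ => 1, CfsgLib.Char.isIrrCharacter_one, ?_⟩
    rw [hreal, sub_self]
    funext g
    simp [Cfsg.conjFun, Cfsg.dadeIsometry]
  have hχc := CfsgLib.Char.IsIrrCharacter.isCharacter hχ
  have hbar : Cfsg.IsIrrCharacter L (Cfsg.conjFun χ) := CfsgLib.Char.IsIrrCharacter.conj' hχ
  set α := χ - Cfsg.conjFun χ with hα'
  have hgen : Cfsg.IsGeneralizedCharacter L α :=
    ⟨_, _, hχc, CfsgLib.Char.IsIrrCharacter.isCharacter hbar, rfl⟩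
  have hcf := CfsgLib.Char.IsGeneralizedCharacter.isClassFunction hgen
  obtain ⟨d, -, hd⟩ := CfsgLib.Char.IsIrrCharacter.apply_one_eq hχ
  have hA : ∀ x : L, (x : G) ∉ A → α x = 0 := by
    intro x hx
    by_cases h1 : x = 1
    · simp [hα', Cfsg.conjFun, h1, hd]
    · simp [hα', Cfsg.conjFun, hsupp x h1 hx]
  have h1 : Cfsg.dadeIsometry A L H α 1 = 0 := by
    refine CfsgLib.Char.Dade.dade_eq_zero fun ⟨a, ha, x, u, hu, e⟩ => hD.one_not_mem ?_
    have h2 : (a : G) * u = 1 := by rw [← e]; group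
    obtain ⟨s, hs, -⟩ := CfsgLib.Char.Dade.exists_pow hD ha ha hu hu
    rw [h2, one_pow] at hs
    rwa [hs]
  obtain ⟨a, b, ha, hb, hab, he⟩ := CfsgLib.Char.IsGeneralizedCharacter.exists_sub_of_norm_two
    (CfsgLib.Char.Dade.isGeneralizedCharacter_dade hD hgen hA) h1 (by
      rw [CfsgLib.Char.Dade.classInner_dade_dade hD hcf hA hcf, hα',
        CfsgLib.Char.classInner_irr_sub hχ hbar hχ hbar, if_pos rfl, if_neg (Ne.symm hreal),
        if_neg hreal, if_pos rfl]
      norm_num)
  have hneg : Cfsg.dadeIsometry A L H (fun x => (starRingEnd ℂ) (α x)) =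
      -Cfsg.dadeIsometry A L H α := by
    funext g
    by_cases hg : g ∈ CfsgLib.Char.Dade.supp A L H
    · obtain ⟨c, hc, x, u, hu, e⟩ := hg
      rw [Pi.neg_apply, CfsgLib.Char.Dade.dade_apply hD hcf c hc hu e,
        CfsgLib.Char.Dade.dade_apply hD (α := fun x => (starRingEnd ℂ) (α x))
          (fun p q => by simp [hcf p q]) c hc hu e]
      simp [hα', Cfsg.conjFun]
    · rw [Pi.neg_apply, CfsgLib.Char.Dade.dade_eq_zero hg, CfsgLib.Char.Dade.dade_eq_zero hg,
        neg_zero]
  rw [CfsgLib.Char.Dade.dade_conj hD hcf, he] at hneg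
  refine ⟨a, ha, ?_⟩
  rw [he]
  have hca : Cfsg.IsIrrCharacter G (Cfsg.conjFun a) := CfsgLib.Char.IsIrrCharacter.conj' ha
  have hcb : Cfsg.IsIrrCharacter G (Cfsg.conjFun b) := CfsgLib.Char.IsIrrCharacter.conj' hb
  have h3 : Cfsg.conjFun a - Cfsg.conjFun b = b - a := by
    funext g
    have := congrFun hneg g
    simpa [Cfsg.conjFun] using this
  have h4 := congrArg (fun f => Cfsg.classInner f b) h3
  simp only [CfsgLib.Char.classInner_sub_left, CfsgLib.Char.classInner_irr_self hb,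
    CfsgLib.Char.classInner_irr_ne ha hb hab, sub_zero] at h4
  by_cases hab' : Cfsg.conjFun a = b
  · rw [hab']
  · rw [CfsgLib.Char.classInner_irr_ne hca hb hab'] at h4
    rw [CfsgLib.Char.classInner_irr hcb hb] at h4
    split_ifs at h4 <;> norm_num at h4


end Cfsg.Agent.S1518
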