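import Cfsg.Statements.S1527
import Mathlib
-- import your own Cfsg.Agent.* helpers here

set_option autoImplicit false
open Cfsg

namespace Cfsg.Agent.S1527

theorem count {G : Type*} [Group G] [Finite G] {ι : Type*} [Fintype ι] (H : ι → Subgroup G)
    (hcop : ∀ i j, i ≠ j → Nat.Coprime (Nat.card (H i)) (Nat.card (H j)))
    (hTI : ∀ i, Cfsg.IsTISubset (H i : Set G))
    (hcover : ∀ g : G, g ≠ 1 → ∃ i, ∃ x : G, x * g * x⁻¹ ∈ H i) :
    Nat.card G - 1 = ∑ i, (Subgroup.normalizer (H i : Set G)).index * (Nat.card (H i) - 1) := by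
  classical
  have : Fintype G := Fintype.ofFinite G
  have hsub : ∀ K : Subgroup G, Nat.card {x : K // x ≠ 1} = Nat.card K - 1 := by
    intro K
    rw [Nat.card_eq_fintype_card, Nat.card_eq_fintype_card, Fintype.card_subtype_compl,
      Fintype.card_subtype_eq]
  let T := Σ i : ι, (G ⧸ Subgroup.normalizer (H i : Set G)) × {x : H i // x ≠ 1}
  let F : T → {g : G // g ≠ 1} := fun p => ⟨p.2.1.out * (p.2.2.1 : G) * (p.2.1.out)⁻¹,
    fun h => p.2.2.2 (Subtype.ext (by simpa using h))⟩
  have hF : Function.Bijective F := by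
    constructor
    · rintro ⟨i, q, ⟨⟨h, hh⟩, hh1⟩⟩ ⟨j, r, ⟨⟨h', hh'⟩, hh'1⟩⟩ he
      have he' : q.out * h * q.out⁻¹ = r.out * h' * r.out⁻¹ := congrArg Subtype.val he
      have hconj : (r.out⁻¹ * q.out) * h * (r.out⁻¹ * q.out)⁻¹ = h' := by
        calc (r.out⁻¹ * q.out) * h * (r.out⁻¹ * q.out)⁻¹ = r.out⁻¹ * (q.out * h * q.out⁻¹) * r.out := by group
          _ = h' := by rw [he']; group
      have hij : i = j := by
        by_contra hne
        have ho : orderOf h = orderOf h' := by
          rw [← hconj]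
          exact (MulEquiv.orderOf_eq (MulAut.conj (r.out⁻¹ * q.out)) h).symm
        have := Nat.dvd_gcd (Subgroup.orderOf_dvd_natCard _ hh)
          (ho ▸ Subgroup.orderOf_dvd_natCard _ hh')
        rw [(hcop i j hne).gcd_eq_one, Nat.dvd_one, orderOf_eq_one_iff] at this
        exact hh1 (Subtype.ext this)
      subst hij
      have hN : r.out⁻¹ * q.out ∈ Subgroup.normalizer (H i : Set G) := by
        by_contra hn
        exact hh1 (Subtype.ext (hTI i _ hn h hh (hconj ▸ hh')))
      have hqr : r = q := by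
        rw [← Quotient.out_eq r, ← Quotient.out_eq q]
        exact QuotientGroup.eq.mpr hN
      subst hqr
      have : h = h' := by simpa using hconj
      subst this
      rfl
    · rintro ⟨g, hg⟩
      obtain ⟨i, x, hx⟩ := hcover g hg
      set q : G ⧸ Subgroup.normalizer (H i : Set G) := QuotientGroup.mk x⁻¹ with hq
      obtain ⟨⟨n, hn⟩, hne⟩ := QuotientGroup.mk_out_eq_mul (Subgroup.normalizer (H i : Set G)) x⁻¹
      have hmem : q.out⁻¹ * g * q.out ∈ H i := by
        rw [hq, hne]
        have h2 := (Subgroup.mem_normalizer_iff.mp (inv_mem hn) (x * g * x⁻¹)).mp hx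
        simpa [mul_assoc] using h2
      have hne1 : q.out⁻¹ * g * q.out ≠ 1 := fun h => hg (by
        have := congrArg (fun t => q.out * t * q.out⁻¹) h
        simpa [mul_assoc] using this)
      exact ⟨⟨i, q, ⟨⟨_, hmem⟩, fun h => hne1 (congrArg Subtype.val h)⟩⟩, Subtype.ext (by
        simp [F, mul_assoc])⟩
  have h := Nat.card_congr (Equiv.ofBijective F hF)
  rw [Nat.card_sigma, Nat.card_eq_fintype_card (α := {g : G // g ≠ 1}),
    Fintype.card_subtype_compl, Fintype.card_subtype_eq, ← Nat.card_eq_fintype_card] at h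
  rw [← h]
  refine Finset.sum_congr rfl fun i _ => ?_
  rw [Nat.card_prod, hsub, Subgroup.index_eq_card]

/-- Let G be a finite group and H i (i in a finite index type) subgroups of pairwise coprime orders, each of whose underlying sets is a TI-subset of G, such that every non-identity element of G is conjugate to an element of some H i. Then Nat.card G − 1 = Σ_i [G : N_G(H i)] · (Nat.card (H i) − 1). -/
theorem result {G : Type*} [Group G] [Finite G] {ι : Type*} [Fintype ι] (H : ι → Subgroup G) (hcop : ∀ i j, i ≠ j → Nat.Coprime (Nat.card (H i)) (Nat.card (H j))) (hTI : ∀ i, Cfsg.IsTISubset (H i : Set G)) (hcover : ∀ g : G, g ≠ 1 → ∃ i, ∃ x : G, x * g * x⁻¹ ∈ H i) : Nat.card G - 1 = ∑ i, (Subgroup.normalizer (H i : Set G)).index * (Nat.card (H i) - 1) := by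
  exact count H hcop hTI hcover


end Cfsg.Agent.S1527
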