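import Cfsg.Statements.S1529
import Cfsg.Agent.Lib.Char.Virtual
import Cfsg.Agent.Lib.CharDeep.GenChar
-- import your own Cfsg.Agent.* helpers here

set_option autoImplicit false
open Cfsg

namespace Cfsg.Agent.S1529

/-- Let N be a subgroup of the finite group G, S a set of irreducible characters of N with at least two members, and τ₁ a linear isometry on the integer combinations of S with virtual-character values such that τ₁ α vanishes at 1 whenever α ∈ ℤ[S] does. Then there is ε ∈ {1, −1} such that ε • τ₁ χ is an irreducible character of G for every χ ∈ S, and distinct members of S give distinct characters. -/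
theorem result {G : Type*} [Group G] [Fintype G] (N : Subgroup G) [Fintype N] (S : Set (N → ℂ)) (hirr : ∀ χ ∈ S, Cfsg.IsIrrCharacter N χ) (htwo : ∃ χ ∈ S, ∃ ψ ∈ S, χ ≠ ψ) (τ₁ : (N → ℂ) → (G → ℂ)) (hτ₁ : Cfsg.IsLinearIsometryOn (Cfsg.zspan S) τ₁) (h0 : ∀ α ∈ Cfsg.zspan S, α 1 = 0 → τ₁ α 1 = 0) : ∃ ε : ℂ, (ε = 1 ∨ ε = -1) ∧ (∀ χ ∈ S, Cfsg.IsIrrCharacter G (ε • τ₁ χ)) ∧ (∀ χ ∈ S, ∀ ψ ∈ S, τ₁ χ = τ₁ ψ → χ = ψ) := by

  classical
  obtain ⟨χ₀, hχ₀, ψ₀, hψ₀, hne⟩ := htwo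
  have hmem : ∀ χ ∈ S, χ ∈ Cfsg.zspan S := fun χ h => Submodule.subset_span h
  have hex : ∀ χ : N → ℂ, ∃ p : ℤ × (G → ℂ), χ ∈ S →
      (p.1 = 1 ∨ p.1 = -1) ∧ Cfsg.IsIrrCharacter G p.2 ∧ τ₁ χ = (p.1 : ℂ) • p.2 := by
    intro χ
    by_cases hχ : χ ∈ S
    · obtain ⟨z, φ, hz, e⟩ := CfsgLib.CharDeep.GenChar.exists_sign_irr (hτ₁.2.2.2 _ (hmem χ hχ))
        (by rw [hτ₁.2.2.1 _ (hmem χ hχ) _ (hmem χ hχ),
          CfsgLib.Char.classInner_irr_self (hirr χ hχ)])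
      exact ⟨(z, φ), fun _ => ⟨hz, φ.2, e⟩⟩
    · exact ⟨(1, 0), fun h => absurd h hχ⟩
  choose p hp using hex
  have hsign : ∀ χ ∈ S, ∀ ψ ∈ S, (p χ).1 = (p ψ).1 := by
    intro χ hχ ψ hψ
    obtain ⟨hz, hμ, e⟩ := hp χ hχ
    obtain ⟨hz', hμ', e'⟩ := hp ψ hψ
    obtain ⟨d, hd, hd'⟩ := CfsgLib.Char.IsIrrCharacter.apply_one_eq (hirr χ hχ)
    obtain ⟨f, hf, hf'⟩ := CfsgLib.Char.IsIrrCharacter.apply_one_eq (hirr ψ hψ)
    obtain ⟨a, ha, ha'⟩ := CfsgLib.Char.IsIrrCharacter.apply_one_eq hμ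
    obtain ⟨b, hb, hb'⟩ := CfsgLib.Char.IsIrrCharacter.apply_one_eq hμ'
    have h1 : (f : ℤ) • χ ∈ Cfsg.zspan S := (Submodule.span ℤ S).smul_mem _ (hmem χ hχ)
    have h2 : (-(d : ℤ)) • ψ ∈ Cfsg.zspan S := (Submodule.span ℤ S).smul_mem _ (hmem ψ hψ)
    have h3 := h0 _ ((Submodule.span ℤ S).add_mem h1 h2) (by
      rw [Pi.add_apply, Pi.smul_apply, Pi.smul_apply, zsmul_eq_mul, zsmul_eq_mul, hd', hf']
      push_cast; ring)
    rw [hτ₁.1 _ h1 _ h2, hτ₁.2.1 _ (hmem χ hχ), hτ₁.2.1 _ (hmem ψ hψ), e, e'] at h3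
    rw [Pi.add_apply, Pi.smul_apply, Pi.smul_apply, Pi.smul_apply, Pi.smul_apply, zsmul_eq_mul,
      zsmul_eq_mul, smul_eq_mul, smul_eq_mul, ha', hb'] at h3
    have h4 : (f : ℤ) * ((p χ).1 * a) + -(d : ℤ) * ((p ψ).1 * b) = 0 := by exact_mod_cast h3
    have hfa : 0 < (f : ℤ) * a := by positivity
    have hdb : 0 < (d : ℤ) * b := by positivity
    rcases hz with hz | hz <;> rcases hz' with hz' | hz' <;>
      first | exact hz.trans hz'.symm | (rw [hz, hz'] at h4; exfalso; nlinarith)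
  refine ⟨((p χ₀).1 : ℂ), ?_, fun χ hχ => ?_, fun χ hχ ψ hψ e => ?_⟩
  · rcases (hp χ₀ hχ₀).1 with h | h <;> simp [h]
  · rw [(hp χ hχ).2.2, hsign χ hχ χ₀ hχ₀, smul_smul]
    rcases (hp χ₀ hχ₀).1 with h | h <;> simpa [h] using (hp χ hχ).2.1
  · by_contra hne'
    have h := hτ₁.2.2.1 _ (hmem χ hχ) _ (hmem ψ hψ)
    rw [e, hτ₁.2.2.1 _ (hmem ψ hψ) _ (hmem ψ hψ), CfsgLib.Char.classInner_irr_self (hirr ψ hψ),
      CfsgLib.Char.classInner_irr_ne (hirr χ hχ) (hirr ψ hψ) hne'] at h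
    exact one_ne_zero h


end Cfsg.Agent.S1529
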