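import Cfsg.Statements.S1536
import Cfsg.Agent.Lib.Char.CoprimeCoset
import Cfsg.Agent.Lib.Char.Perm
import Cfsg.Agent.Lib.Char.Clifford
-- import your own Cfsg.Agent.* helpers here

set_option autoImplicit false
open Cfsg

namespace Cfsg.Agent.S1536

theorem exists_fixed_point {M : Type*} [Group M] [Finite M] (H : Subgroup M) [H.Normal]
    (hHall : Nat.Coprime (Nat.card H) H.index) (x : M) (k m : M) (hk : k ∈ H) (hm : m ∈ H)
    (hk1 : k ≠ 1) (hfix : x * k * x⁻¹ = m * k * m⁻¹) : ∃ h ∈ H, h ≠ 1 ∧ x * h = h * x := by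
  by_cases hz : x ^ H.index = 1
  · have hx : Nat.Coprime (orderOf x) (Nat.card H) :=
      (hHall.coprime_dvd_right (orderOf_dvd_of_pow_eq_one hz)).symm
    obtain ⟨z, hz', hzc⟩ := CfsgLib.Char.exists_centralized_of_fixed_class H x hx k m hk hm hfix
    refine ⟨z * k * z⁻¹, (inferInstance : H.Normal).conj_mem k hk z, fun h => hk1 ?_, hzc.symm⟩
    simpa using h
  · exact ⟨x ^ H.index, Subgroup.pow_index_mem H x, hz, (Commute.self_pow x _).eq⟩

open CfsgLib.Char in
theorem fixed_iff {M : Type*} [Group M] [Finite M] (H : Subgroup M) [hN : H.Normal]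
    (hHall : Nat.Coprime (Nat.card H) H.index) (x : M) :
    (∃ θ : H → ℂ, Cfsg.IsIrrCharacter H θ ∧ θ ≠ (fun _ => 1) ∧
      (fun h : H => θ ⟨x * h * x⁻¹, hN.conj_mem h h.2 x⟩) = θ) ↔
      ∃ h ∈ H, h ≠ 1 ∧ x * h = h * x := by
  classical
  cases nonempty_fintype M
  let α : MulAut H := MulAut.conjNormal x
  have hcard := card_fixed_irr_eq (G := H) α (fun a b hab => α.toMonoidHom.map_isConj hab)
    (fun χ hχ => IsIrrCharacter.comp_equiv hχ α)
  let I := {χ : Cfsg.IrrCharacter H // (χ : H → ℂ) ∘ α = (χ : H → ℂ)}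
  let one' : I := ⟨⟨_, isIrrCharacter_one⟩, rfl⟩
  let J := {C : ConjClasses H // ∀ g, ConjClasses.mk g = C → IsConj (α g) g}
  let oneJ : J := ⟨ConjClasses.mk 1, fun g hg => by
    rw [ConjClasses.mk_eq_mk_iff_isConj, isConj_one_left] at hg
    simp [hg]⟩
  constructor
  · rintro ⟨θ, hθ, hne, hfix⟩
    have hI : Nontrivial I := ⟨⟨⟨θ, hθ⟩, (conjG_eq_comp θ x).symm.trans hfix⟩, one',
      fun h => hne (congrArg (fun t => (t.1 : H → ℂ)) h)⟩
    have hJ : Nontrivial J := Finite.one_lt_card_iff_nontrivial.mp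
      (hcard ▸ Finite.one_lt_card_iff_nontrivial.mpr hI)
    obtain ⟨⟨C, hC⟩, hCne⟩ := exists_ne oneJ
    obtain ⟨k, rfl⟩ := ConjClasses.exists_rep C
    have hk1 : k ≠ 1 := fun h => hCne (Subtype.ext (congrArg ConjClasses.mk h))
    obtain ⟨m, hm⟩ := isConj_iff.mp (hC k rfl).symm
    have hfix' : x * k * x⁻¹ = m * k * (m : M)⁻¹ := by
      have := congrArg Subtype.val hm
      simpa [α] using this.symm
    exact exists_fixed_point H hHall x k m k.2 m.2 (fun h => hk1 (Subtype.ext h)) hfix'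
  · rintro ⟨h, hh, hh1, hcomm⟩
    have hJ : Nontrivial J := ⟨⟨ConjClasses.mk (⟨h, hh⟩ : H), fun g hg => by
        have h1 := ConjClasses.mk_eq_mk_iff_isConj.mp hg
        have h2 : α ⟨h, hh⟩ = ⟨h, hh⟩ := Subtype.ext (by
          change x * h * x⁻¹ = h
          rw [hcomm, mul_inv_cancel_right])
        have h3 : IsConj (α g) (α ⟨h, hh⟩) := α.toMonoidHom.map_isConj h1
        rw [h2] at h3
        exact h3.trans h1.symm⟩, oneJ,
      fun he => hh1 (by
        have h1 := ConjClasses.mk_eq_mk_iff_isConj.mp (congrArg Subtype.val he)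
        rw [isConj_one_left] at h1
        exact congrArg Subtype.val h1)⟩
    have hI : Nontrivial I := Finite.one_lt_card_iff_nontrivial.mp
      (hcard.symm ▸ Finite.one_lt_card_iff_nontrivial.mpr hJ)
    obtain ⟨⟨⟨θ, hθ⟩, hfix⟩, hne⟩ := exists_ne one'
    exact ⟨θ, hθ, fun h => hne (Subtype.ext (Subtype.ext h)), (conjG_eq_comp θ x).trans hfix⟩

/-- Let H be a normal subgroup of the finite group M whose order is coprime to its index. For x ∈ M: some non-principal irreducible character of H is unchanged under h ↦ θ(x h x⁻¹) if and only if some non-identity element of H commutes with x. -/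
theorem result {M : Type*} [Group M] [Finite M] (H : Subgroup M) [hN : H.Normal] (hHall : Nat.Coprime (Nat.card H) H.index) (x : M) : (∃ θ : H → ℂ, Cfsg.IsIrrCharacter H θ ∧ θ ≠ (fun _ => 1) ∧ (fun h : H => θ ⟨x * h * x⁻¹, hN.conj_mem h h.2 x⟩) = θ) ↔ ∃ h ∈ H, h ≠ 1 ∧ x * h = h * x := by
  exact fixed_iff H hHall x


end Cfsg.Agent.S1536
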