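import Cfsg.Statements.S1546
import Mathlib
-- import your own Cfsg.Agent.* helpers here

set_option autoImplicit false
open Cfsg

namespace Cfsg.Agent.S1546

theorem arith (p q : ℕ) (hp : p.Prime) (hq : q.Prime) (hp2 : p ≠ 2) (hq2 : q ≠ 2) :
    Odd ((p ^ q - 1) / (p - 1)) ∧ (p % q = 1 → q ∣ (p ^ q - 1) / (p - 1)) ∧
      (p % q ≠ 1 → Nat.Coprime ((p ^ q - 1) / (p - 1)) (p - 1) ∧
        ∀ x : ℕ, x ∣ (p ^ q - 1) / (p - 1) → x % q = 1) := by
  classical
  have : Fact q.Prime := ⟨hq⟩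
  rw [← Nat.geomSum_eq hp.two_le q]
  set N := ∑ i ∈ Finset.range q, p ^ i with hN
  have hp1 : 1 ≤ p := hp.one_le
  have hp1' : ((p - 1 : ℕ) : ℤ) = (p : ℤ) - 1 := by omega
  have hmul : ((p - 1 : ℕ) : ℤ) * (N : ℤ) = (p : ℤ) ^ q - 1 := by
    rw [hp1', hN]
    push_cast
    exact mul_geom_sum (p : ℤ) q
  have hmod : ∀ r : ℕ, (p : ZMod r) = 1 → (N : ZMod r) = q := by
    intro r hr
    simp [hN, hr]
  refine ⟨?_, ?_, ?_⟩
  · rw [Nat.odd_iff, hN, Finset.sum_nat_mod]
    have : ∀ i ∈ Finset.range q, p ^ i % 2 = 1 := fun i _ =>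
      Nat.odd_iff.mp ((hp.odd_of_ne_two hp2).pow)
    rw [Finset.sum_congr rfl this, Finset.sum_const, Finset.card_range, smul_eq_mul, mul_one]
    exact Nat.odd_iff.mp (hq.odd_of_ne_two hq2)
  · intro h
    rw [← ZMod.natCast_eq_zero_iff, hmod q (by
      rw [← ZMod.natCast_mod p q, h, Nat.cast_one]), ZMod.natCast_self]
  · intro h
    have hcop : Nat.Coprime N (p - 1) := by
      refine Nat.coprime_of_dvd fun r hr hrN hrp => ?_
      have hr1 : (p : ZMod r) = 1 := by
        have h1 : ((p - 1 : ℕ) : ZMod r) = 0 := (ZMod.natCast_eq_zero_iff _ _).mpr hrp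
        rw [Nat.cast_sub hp1, Nat.cast_one, sub_eq_zero] at h1
        exact h1
      have h2 := hmod r hr1
      rw [(ZMod.natCast_eq_zero_iff N r).mpr hrN, eq_comm, ZMod.natCast_eq_zero_iff] at h2
      obtain rfl := (Nat.prime_dvd_prime_iff_eq hr hq).mp h2
      refine h ?_
      have := congrArg ZMod.val hr1
      rwa [ZMod.val_natCast, ZMod.val_one] at this
    refine ⟨hcop, fun x hx => ?_⟩
    induction x using Nat.strong_induction_on with
    | _ x ih =>
      rcases eq_or_ne x 1 with rfl | hx1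
      · exact Nat.one_mod_eq_one.mpr hq.ne_one
      have hN0 : N ≠ 0 := by
        rw [hN]
        exact (Finset.sum_pos (fun i _ => pow_pos hp.pos i)
          (Finset.nonempty_range_iff.mpr hq.ne_zero)).ne'
      have hx0 : x ≠ 0 := fun h0 => hN0 (Nat.eq_zero_of_zero_dvd (h0 ▸ hx))
      obtain ⟨r, hr, ⟨y, rfl⟩⟩ := Nat.exists_prime_and_dvd hx1
      have hrN : r ∣ N := (dvd_mul_right r y).trans hx
      have : Fact r.Prime := ⟨hr⟩
      have hpq : (p : ZMod r) ^ q = 1 := by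
        have h3 := congrArg (Int.cast : ℤ → ZMod r) hmul
        push_cast at h3
        rw [(ZMod.natCast_eq_zero_iff N r).mpr hrN, mul_zero, eq_comm, sub_eq_zero] at h3
        exact h3
      have hpne : (p : ZMod r) ≠ 1 := fun h1 => by
        have h4 := hmod r h1
        rw [(ZMod.natCast_eq_zero_iff N r).mpr hrN, eq_comm, ZMod.natCast_eq_zero_iff] at h4
        have h5 : r ∣ p - 1 := by
          rw [← ZMod.natCast_eq_zero_iff, Nat.cast_sub hp1, h1, Nat.cast_one, sub_self]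
        exact hr.ne_one (Nat.eq_one_of_dvd_one (hcop ▸ Nat.dvd_gcd hrN h5))
      have hord : orderOf (p : ZMod r) = q := orderOf_eq_prime hpq hpne
      have hp0 : (p : ZMod r) ≠ 0 := fun h0 => by
        rw [h0, zero_pow hq.ne_zero] at hpq
        exact zero_ne_one hpq
      have hdvd : q ∣ r - 1 := hord ▸ ZMod.orderOf_dvd_card_sub_one hp0
      have hr' : r % q = 1 := by
        obtain ⟨t, ht⟩ := hdvd
        rw [show r = q * t + 1 by have := hr.two_le; omega, Nat.mul_add_mod,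
          Nat.one_mod_eq_one.mpr hq.ne_one]
      have hy : y % q = 1 := ih y (by
        have : 0 < y := Nat.pos_of_ne_zero fun h0 => hx0 (by rw [h0, mul_zero])
        nlinarith [hr.two_le]) ((dvd_mul_left y r).trans hx)
      rw [Nat.mul_mod, hr', hy, mul_one, Nat.one_mod_eq_one.mpr hq.ne_one]

/-- Let p and q be odd primes and N = (p ^ q − 1) / (p − 1) = 1 + p + ⋯ + p^(q−1). Then N is odd; if p ≡ 1 (mod q) then q ∣ N; and if p is not ≡ 1 (mod q) then N is coprime to p − 1 and every divisor of N is ≡ 1 (mod q). -/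
theorem result (p q : ℕ) (hp : p.Prime) (hq : q.Prime) (hp2 : p ≠ 2) (hq2 : q ≠ 2) : Odd ((p ^ q - 1) / (p - 1)) ∧ (p % q = 1 → q ∣ (p ^ q - 1) / (p - 1)) ∧ (p % q ≠ 1 → Nat.Coprime ((p ^ q - 1) / (p - 1)) (p - 1) ∧ ∀ x : ℕ, x ∣ (p ^ q - 1) / (p - 1) → x % q = 1) := by
  exact arith p q hp hq hp2 hq2


end Cfsg.Agent.S1546
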