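import Cfsg.Statements.S1568
import Cfsg.Agent.Lib.SmallGroups.LeechCount

set_option autoImplicit false
open Cfsg

namespace Cfsg.Agent.S1568

open CfsgLib.SmallGroups.LeechCount

/-- The counts used below. -/
theorem counts :
    parityCount (fun a => a == 0 || a == 2 || a == -2) 0 12 +
      parityCount (fun a => a == 0 || a == 2 || a == -2) 1 3 = 5275648 ∧
    parityCount (fun a => a == 1 || a == -1 || a == 3 || a == -3) 0 12 +
      parityCount (fun a => a == 1 || a == -1 || a == 3 || a == -3) 1 3 = 8290304 ∧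
    parityCount (fun a => !(a == 4 || a == -4)) 0 12 +
      parityCount (fun a => !(a == 4 || a == -4)) 1 3 + 3108864 = 16773120 ∧
    parityCount (fun a => !(a == 5 || a == -5)) 0 12 +
      parityCount (fun a => !(a == 5 || a == -5)) 1 3 + 98304 = 16773120 ∧
    parityCount (fun _ => true) 0 12 + parityCount (fun _ => true) 1 3 = 16773120 := by
  decide +kernel

theorem count48 (ok : ℤ → Bool) :
    {x : Cfsg.GolayPt → ℤ | x ∈ Cfsg.leechLattice ∧ Cfsg.sqNorm x = 48 ∧ ∀ i, ok (x i) = true}.ncard =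
      parityCount ok 0 12 + parityCount ok 1 3 := by
  simpa using count ok 48 12 3 (by norm_num) (by norm_num) (by norm_num)

theorem count_exists (ok : ℤ → Bool) (v : ℕ)
    (h : parityCount ok 0 12 + parityCount ok 1 3 + v = 16773120) :
    {x : Cfsg.GolayPt → ℤ |
      x ∈ Cfsg.leechLattice ∧ Cfsg.sqNorm x = 48 ∧ ∃ i, ok (x i) = false}.ncard = v := by
  have hall : {x : Cfsg.GolayPt → ℤ | x ∈ Cfsg.leechLattice ∧ Cfsg.sqNorm x = 48}.ncard = 16773120 := by
    rw [← counts.2.2.2.2, ← count48]; simp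
  have hfin : {x : Cfsg.GolayPt → ℤ | x ∈ Cfsg.leechLattice ∧ Cfsg.sqNorm x = 48}.Finite :=
    Set.finite_of_ncard_ne_zero (by rw [hall]; norm_num)
  have e := Set.ncard_diff (s := {x : Cfsg.GolayPt → ℤ |
      x ∈ Cfsg.leechLattice ∧ Cfsg.sqNorm x = 48 ∧ ∀ i, ok (x i) = true})
    (t := {x : Cfsg.GolayPt → ℤ | x ∈ Cfsg.leechLattice ∧ Cfsg.sqNorm x = 48})
    (fun x hx => ⟨hx.1, hx.2.1⟩) (hfin.subset fun x hx => ⟨hx.1, hx.2.1⟩)
  rw [hall, count48] at e
  have hs : ({x : Cfsg.GolayPt → ℤ | x ∈ Cfsg.leechLattice ∧ Cfsg.sqNorm x = 48} \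
      {x : Cfsg.GolayPt → ℤ | x ∈ Cfsg.leechLattice ∧ Cfsg.sqNorm x = 48 ∧ ∀ i, ok (x i) = true}) =
      {x : Cfsg.GolayPt → ℤ | x ∈ Cfsg.leechLattice ∧ Cfsg.sqNorm x = 48 ∧ ∃ i, ok (x i) = false} := by
    ext x
    simp only [Set.mem_diff, Set.mem_ofPred_eq, not_and, not_forall, Bool.not_eq_true]
    tauto
  rw [hs] at e
  rw [e]
  omega

/-- Shape census of the lattice vectors of sum of squares 48 (customary norm 6): the four families (2^12, 0^12), (±3^3, ±1^21), (±4, ±2^8, 0^15) and (±5, ±1^23) have 5275648, 8290304, 3108864 and 98304 members. -/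
theorem result : {x : Cfsg.GolayPt → ℤ | x ∈ Cfsg.leechLattice ∧ Cfsg.sqNorm x = 48 ∧ ∀ i, x i = 0 ∨ x i = 2 ∨ x i = -2}.ncard = 5275648 ∧ {x : Cfsg.GolayPt → ℤ | x ∈ Cfsg.leechLattice ∧ Cfsg.sqNorm x = 48 ∧ ∃ i j k, i ≠ j ∧ j ≠ k ∧ i ≠ k ∧ |x i| = 3 ∧ |x j| = 3 ∧ |x k| = 3}.ncard = 8290304 ∧ {x : Cfsg.GolayPt → ℤ | x ∈ Cfsg.leechLattice ∧ Cfsg.sqNorm x = 48 ∧ ∃ i, |x i| = 4}.ncard = 3108864 ∧ {x : Cfsg.GolayPt → ℤ | x ∈ Cfsg.leechLattice ∧ Cfsg.sqNorm x = 48 ∧ ∃ i, |x i| = 5}.ncard = 98304 := by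
  refine ⟨?_, ?_, ?_, ?_⟩
  · rw [← counts.1, ← count48]
    congr 1
    ext x
    simp [or_assoc]
  · rw [← counts.2.1, ← count48]
    congr 1
    ext x
    simp only [Set.mem_ofPred_eq, Bool.or_eq_true, beq_iff_eq]
    refine and_congr_right fun hx => and_congr_right fun hn => ?_
    obtain ⟨m, hpar, -, -⟩ := CfsgLib.SmallGroups.LeechBasic.mem_lattice.mp hx
    have hn' : ∑ l, x l ^ 2 = 48 := hn
    constructor
    · rintro ⟨i, j, k, hij, hjk, hik, hi, hj, hk⟩ l
      have hodd : ∀ l, x l % 2 = 1 := fun l => by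
        have a := (hpar l).dvd
        have b := (hpar i).dvd
        rcases abs_eq (by norm_num : (0 : ℤ) ≤ 3) |>.mp hi with h | h <;> omega
      have h1 : ∀ l, 1 ≤ x l ^ 2 := fun l => by
        have h0 : x l ≠ 0 := fun e => by have := hodd l; omega
        exact (sq_abs (x l)) ▸ one_le_pow₀ (Int.one_le_abs h0)
      have hb : 24 + ∑ l ∈ ({i, j, k} : Finset Cfsg.GolayPt), (x l ^ 2 - 1) +
          (if l ∈ ({i, j, k} : Finset Cfsg.GolayPt) then 0 else x l ^ 2 - 1) ≤ 48 := by
        have hsum : ∑ l, (x l ^ 2 - 1) = 24 := by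
          rw [Finset.sum_sub_distrib, hn', Finset.sum_const, Finset.card_univ,
            CfsgLib.SmallGroups.GolayOctads.card_golayPt]
          norm_num
        split_ifs with hl
        · have := Finset.sum_le_univ_sum_of_nonneg (s := ({i, j, k} : Finset Cfsg.GolayPt))
            (fun l => sub_nonneg.mpr (h1 l))
          omega
        · have := Finset.sum_le_univ_sum_of_nonneg (s := insert l ({i, j, k} : Finset Cfsg.GolayPt))
            (fun l => sub_nonneg.mpr (h1 l))
          rw [Finset.sum_insert hl] at this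
          omega
      have hsq : ∀ l, |x l| = 3 → x l ^ 2 = 9 := fun l h => by rw [← sq_abs, h]; norm_num
      rw [Finset.sum_insert (by simp [hij, hik]), Finset.sum_insert (by simp [hjk]),
        Finset.sum_singleton, hsq i hi, hsq j hj, hsq k hk] at hb
      by_cases hl : l ∈ ({i, j, k} : Finset Cfsg.GolayPt)
      · simp only [Finset.mem_insert, Finset.mem_singleton] at hl
        rcases hl with rfl | rfl | rfl <;>
        · first
            | (rcases abs_eq (by norm_num : (0 : ℤ) ≤ 3) |>.mp hi with h | h <;> omega)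
            | (rcases abs_eq (by norm_num : (0 : ℤ) ≤ 3) |>.mp hj with h | h <;> omega)
            | (rcases abs_eq (by norm_num : (0 : ℤ) ≤ 3) |>.mp hk with h | h <;> omega)
      · rw [if_neg hl] at hb
        have h' : x l ^ 2 = 1 := le_antisymm (by omega) (h1 l)
        rcases sq_eq_one_iff.mp h' with h | h <;> omega
    · intro h
      have e : ∀ l, x l ^ 2 = 1 + if |x l| = 3 then 8 else 0 := fun l => by
        rcases h l with ((a | a) | a) | a <;> simp [a]
      rw [Finset.sum_congr rfl fun l _ => e l, Finset.sum_add_distrib, Finset.sum_const,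
        ← Finset.sum_filter, Finset.sum_const, Finset.card_univ,
        CfsgLib.SmallGroups.GolayOctads.card_golayPt] at hn'
      simp only [nsmul_eq_mul, Nat.cast_ofNat] at hn'
      have h3 : (Finset.univ.filter fun l => |x l| = 3).card = 3 := by omega
      obtain ⟨i, j, k, hij, hik, hjk, e3⟩ := Finset.card_eq_three.mp h3
      exact ⟨i, j, k, hij, hjk, hik,
        by have h := e3.symm.subset (Finset.mem_insert_self i {j, k}); exact (Finset.mem_filter.mp h).2,
        by have h := e3.symm.subset (Finset.mem_insert_of_mem (Finset.mem_insert_self j {k})); exact (Finset.mem_filter.mp h).2,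
        by
          have h := e3.symm.subset
            (Finset.mem_insert_of_mem (Finset.mem_insert_of_mem (Finset.mem_singleton_self k)))
          exact (Finset.mem_filter.mp h).2⟩
  · rw [← count_exists _ _ counts.2.2.1]
    congr 1
    ext x
    simp [abs_eq (by norm_num : (0 : ℤ) ≤ 4), or_iff_not_imp_left]
  · rw [← count_exists _ _ counts.2.2.2.1]
    congr 1
    ext x
    simp [abs_eq (by norm_num : (0 : ℤ) ≤ 5), or_iff_not_imp_left]

end Cfsg.Agent.S1568
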