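import Cfsg.Statements.S1583
import Cfsg.Agent.Lib.SmallGroups.LeechHS
-- import your own Cfsg.Agent.* helpers here

set_option autoImplicit false
open Cfsg

namespace Cfsg.Agent.S1583

/-- The Higman–Sims configuration: for two vectors of customary norm 6 with inner product −4, exactly 100 minimal vectors have customary inner products 3 and −3 with them, and the joint stabiliser permutes these transitively. -/
theorem result (v w : ↥Cfsg.leechLattice) (hv : Cfsg.sqNorm (v : Cfsg.GolayPt → ℤ) = 48) (hw : Cfsg.sqNorm (w : Cfsg.GolayPt → ℤ) = 48) (hvw : Cfsg.dotInt (v : Cfsg.GolayPt → ℤ) (w : Cfsg.GolayPt → ℤ) = -32) : {x : ↥Cfsg.leechLattice | Cfsg.sqNorm (x : Cfsg.GolayPt → ℤ) = 32 ∧ Cfsg.dotInt (v : Cfsg.GolayPt → ℤ) (x : Cfsg.GolayPt → ℤ) = 24 ∧ Cfsg.dotInt (w : Cfsg.GolayPt → ℤ) (x : Cfsg.GolayPt → ℤ) = -24}.ncard = 100 ∧ ∀ x ∈ {x : ↥Cfsg.leechLattice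 | Cfsg.sqNorm (x : Cfsg.GolayPt → ℤ) = 32 ∧ Cfsg.dotInt (v : Cfsg.GolayPt → ℤ) (x : Cfsg.GolayPt → ℤ) = 24 ∧ Cfsg.dotInt (w : Cfsg.GolayPt → ℤ) (x : Cfsg.GolayPt → ℤ) = -24}, ∀ x' ∈ {x : ↥Cfsg.leechLattice | Cfsg.sqNorm (x : Cfsg.GolayPt → ℤ) = 32 ∧ Cfsg.dotInt (v : Cfsg.GolayPt → ℤ) (x : Cfsg.GolayPt → ℤ) = 24 ∧ Cfsg.dotInt (w : Cfsg.GolayPt → ℤ) (x : Cfsg.GolayPt → ℤ) = -24}, ∃ g : ↥Cfsg.Co0, g • v = v ∧ g • w = w ∧ g • x = x' := by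
  obtain ⟨h1, h2, -⟩ := CfsgLib.SmallGroups.LeechHS.pair_facts hv hw hvw
  have e : ∀ x : Cfsg.leechLattice, _ ↔ x ∈ CfsgLib.SmallGroups.LeechHS.pts v (v + w) := fun x =>
    CfsgLib.SmallGroups.LeechHS.mem_pts_iff (x := x) (w := w) hv
  simp only [Set.mem_ofPred_eq, e]
  refine ⟨CfsgLib.SmallGroups.LeechHS.ncard_pts v _ hv h1 h2, fun x hx x' hx' => ?_⟩
  obtain ⟨g, g1, g2, g3⟩ := CfsgLib.SmallGroups.LeechHS.transitive_pts v _ hv h1 h2 x x' hx hx'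
  rw [CfsgLib.SmallGroups.LeechPairs.smul_add', g1] at g2
  exact ⟨g, g1, add_left_cancel g2, g3⟩

end Cfsg.Agent.S1583
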