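import Cfsg.Statements.S1589
import Cfsg.Agent.Lib.Sporadic.OctadRest
import Cfsg.Agent.Lib.Sporadic.M24SextetStructure
import Cfsg.Agent.Lib.SmallGroups.M21
-- import your own Cfsg.Agent.* helpers here

set_option autoImplicit false
open scoped Pointwise
open Cfsg

namespace Cfsg.Agent.S1589

open CfsgLib.SmallGroups.Golay CfsgLib.SmallGroups.GolayOctads CfsgLib.SmallGroups.M24Group
  CfsgLib.SmallGroups.MathieuSets CfsgLib.Sporadic.OctadStabilizer CfsgLib.Sporadic.IndexPoints
  CfsgLib.Sporadic.MathieuLocalCounts CfsgLib.Sporadic.OctadOrbits CfsgLib.Sporadic.OctadRest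
open CfsgLib.SmallGroups.MathieuSimple (card_stab_point card_stab_two exists_map_of_le)
open scoped Pointwise

/-- The pointwise stabiliser of two points. -/
def fixTwo (a b : Cfsg.GolayPt) : Subgroup (Equiv.Perm Cfsg.GolayPt) :=
  Cfsg.M24 ⊓ MulAction.stabilizer (Equiv.Perm Cfsg.GolayPt) a ⊓ MulAction.stabilizer (Equiv.Perm Cfsg.GolayPt) b

theorem mem_fixTwo {a b : Cfsg.GolayPt} {g : (Equiv.Perm Cfsg.GolayPt)} : g ∈ fixTwo a b ↔ g ∈ Cfsg.M24 ∧ g a = a ∧ g b = b := by
  simp [fixTwo, MulAction.mem_stabilizer_iff, and_assoc]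

theorem card_fixTwo {a b : Cfsg.GolayPt} (hab : a ≠ b) : Nat.card (fixTwo a b) = 443520 := by
  rw [← card_stab_two hab]
  exact Nat.card_congr ⟨fun g => ⟨⟨g.1, g.2.1.1⟩, g.2.1.2, g.2.2⟩, fun g => ⟨g.1.1, ⟨g.1.2, g.2.1⟩, g.2.2⟩,
    fun _ => rfl, fun _ => rfl⟩

/-- The pointwise stabiliser of three points. -/
def fixThree (a b c : Cfsg.GolayPt) : Subgroup (Equiv.Perm Cfsg.GolayPt) := fixTwo a b ⊓ MulAction.stabilizer (Equiv.Perm Cfsg.GolayPt) c

theorem card_fixThree {a b c : Cfsg.GolayPt} (hab : a ≠ b) (hac : a ≠ c) (hbc : b ≠ c) :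
    Nat.card (fixThree a b c) = 20160 := by
  rw [← CfsgLib.SmallGroups.M21.card_stab_three hab hac hbc]
  exact Nat.card_congr ⟨fun g => ⟨⟨g.1, g.2.1.1.1⟩, ⟨g.2.1.1.2, g.2.1.2⟩, g.2.2⟩,
    fun g => ⟨g.1.1, ⟨⟨g.1.2, g.2.1.1⟩, g.2.1.2⟩, g.2.2⟩, fun _ => rfl, fun _ => rfl⟩

theorem seven_contra {a b : Cfsg.GolayPt} (hab : a ≠ b) {L : Subgroup (Equiv.Perm Cfsg.GolayPt)} (hL : L ≤ fixTwo a b)
    (hc : Nat.card L = 73920 ∨ Nat.card L = 6160 ∨ Nat.card L = 36960 ∨ Nat.card L = 3080) : False := by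
  have : Fact (Nat.Prime 7) := ⟨by norm_num⟩
  obtain ⟨g, hg⟩ := exists_prime_orderOf_dvd_card' (G := L) 7 (by rcases hc with e | e | e | e <;> rw [e] <;> norm_num)
  have hord : orderOf (g : (Equiv.Perm Cfsg.GolayPt)) = 7 := by rw [Subgroup.orderOf_coe, hg]
  have hfix : ∀ k ∈ fixTwo a b, k a = a ∧ k b = b := fun k hk => (mem_fixTwo.1 hk).2
  have hM : fixTwo a b ≤ Cfsg.M24 := fun k hk => (mem_fixTwo.1 hk).1
  obtain ⟨n, hn, hn1, hn2, hn3, hn4⟩ := card_norm (hL.trans hM) hab (fun k hk => hfix k (hL hk)) g.2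
    (Or.inr (Or.inl rfl)) hord (by rcases hc with e | e | e | e <;> rw [e] <;> norm_num)
  obtain ⟨m, hm, hm1, hm2, hm3, hm4⟩ := card_norm hM hab hfix (hL g.2) (Or.inr (Or.inl rfl)) hord
    (by rw [card_fixTwo hab]; norm_num)
  have hnm : n ∣ m := hn ▸ hm ▸ Subgroup.card_dvd_of_le (inf_le_inf_right _ hL)
  rw [card_fixTwo hab] at hm3 hm4
  have hmle : m ≤ 42 := Nat.le_of_dvd (by norm_num) hm2
  have hm21 : m = 21 := by interval_cases m <;> omega
  subst hm21
  have hnle : n ≤ 21 := Nat.le_of_dvd (by norm_num) hnm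
  rcases hc with e | e | e | e <;> rw [e] at hn3 hn4 <;> interval_cases n <;> omega

theorem five_contra {a b c : Cfsg.GolayPt} (hab : a ≠ b) (hac : a ≠ c) (hbc : b ≠ c) {L : Subgroup (Equiv.Perm Cfsg.GolayPt)}
    (hL : L ≤ fixThree a b c) (hc : Nat.card L = 6720) : False := by
  have : Fact (Nat.Prime 5) := ⟨by norm_num⟩
  obtain ⟨g, hg⟩ := exists_prime_orderOf_dvd_card' (G := L) 5 (by rw [hc]; norm_num)
  have hord : orderOf (g : (Equiv.Perm Cfsg.GolayPt)) = 5 := by rw [Subgroup.orderOf_coe, hg]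
  have hfix : ∀ k ∈ fixThree a b c, k a = a ∧ k b = b := fun k hk => (mem_fixTwo.1 hk.1).2
  have hM : fixThree a b c ≤ Cfsg.M24 := fun k hk => (mem_fixTwo.1 hk.1).1
  obtain ⟨n, hn, hn1, hn2, hn3, hn4⟩ := card_norm (hL.trans hM) hab (fun k hk => hfix k (hL hk)) g.2
    (Or.inl rfl) hord (by rw [hc]; norm_num)
  obtain ⟨m, hm, hm1, hm2, hm3, hm4⟩ := card_norm hM hab hfix (hL g.2) (Or.inl rfl) hord
    (by rw [card_fixThree hab hac hbc]; norm_num)
  have hnm : n ∣ m := hn ▸ hm ▸ Subgroup.card_dvd_of_le (inf_le_inf_right _ hL)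
  rw [card_fixThree hab hac hbc] at hm3 hm4
  have hmle : m ≤ 20 := Nat.le_of_dvd (by norm_num) hm2
  have hm10 : m = 10 := by interval_cases m <;> omega
  subst hm10
  have hnle : n ≤ 10 := Nat.le_of_dvd (by norm_num) hnm
  rw [hc] at hn3 hn4
  interval_cases n <;> omega

theorem card_stab_mul (H : Subgroup (Equiv.Perm Cfsg.GolayPt)) (x : Cfsg.GolayPt) :
    Nat.card ↥(H ⊓ MulAction.stabilizer (Equiv.Perm Cfsg.GolayPt) x) * (MulAction.orbit H x).ncard = Nat.card H := by
  rw [← MulAction.index_stabilizer, ← (MulAction.stabilizer H x).card_mul_index]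
  congr 1
  exact Nat.card_congr ⟨fun g => ⟨⟨g.1, g.2.1⟩, g.2.2⟩, fun g => ⟨g.1.1, g.1.2, g.2⟩, fun _ => rfl, fun _ => rfl⟩

/-- Order `887040`: a duad is fixed. -/
theorem duad_case (H : Subgroup (Equiv.Perm Cfsg.GolayPt)) (hHM : H ≤ Cfsg.M24) (hc : Nat.card H = 887040) :
    ∃ s : Finset Cfsg.GolayPt, s.card = 2 ∧ ∀ h ∈ H, h • s = s := by
  classical
  have : Fact (Nat.Prime 11) := ⟨by norm_num⟩
  obtain ⟨x, hx⟩ := exists_prime_orderOf_dvd_card' (G := H) 11 (by rw [hc]; norm_num)
  set g : (Equiv.Perm Cfsg.GolayPt) := (x : (Equiv.Perm Cfsg.GolayPt))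
  have hord : orderOf g = 11 := by rw [Subgroup.orderOf_coe, hx]
  obtain ⟨hle, hmod⟩ : (fixedPts g).card ≤ 4 ∧ (fixedPts g).card % 11 = 24 % 11 :=
    card_fixedPts_eq (hHM x.2) hord (by norm_num)
  obtain ⟨a, b, hab, hfab⟩ := Finset.card_eq_two.1 (show (fixedPts g).card = 2 by omega)
  have hga : g a = a := mem_fixedPts.1 (hfab ▸ Finset.mem_insert_self _ _)
  have hgb : g b = b := mem_fixedPts.1 (hfab ▸ Finset.mem_insert_of_mem (Finset.mem_singleton_self _))
  have hmodK : ∀ (K : Subgroup (Equiv.Perm Cfsg.GolayPt)), g ∈ K → ∀ z : Cfsg.GolayPt, (MulAction.orbit K z).ncard % 11 =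
      (({a, b} : Finset Cfsg.GolayPt).filter fun w => w ∈ MulAction.orbit K z).card % 11 := by
    intro K hgK z
    rw [card_fixedPts_mod hord (MulAction.orbit K z) fun w hw => MulAction.mem_orbit_of_mem_orbit (⟨g, hgK⟩ : K) hw,
      ← Set.ncard_coe_finset]
    congr 2
    ext w
    simp only [Set.mem_ofPred_eq, Finset.coe_filter]
    refine ⟨fun h => ⟨hfab ▸ mem_fixedPts.2 h.2, h.1⟩, fun h => ⟨h.2, mem_fixedPts.1 (hfab ▸ h.1)⟩⟩
  have hdvd : ∀ (K : Subgroup (Equiv.Perm Cfsg.GolayPt)) (z : Cfsg.GolayPt), (MulAction.orbit K z).ncard ∣ Nat.card K := fun K z => by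
    rw [← MulAction.index_stabilizer]; exact Subgroup.index_dvd_card _
  have hle24 : ∀ (K : Subgroup (Equiv.Perm Cfsg.GolayPt)) (z : Cfsg.GolayPt), (MulAction.orbit K z).ncard ≤ 24 := fun K z => by
    have := Set.ncard_le_ncard (Set.subset_univ (MulAction.orbit K z))
    rwa [Set.ncard_univ, Nat.card_eq_fintype_card, card_golayPt] at this
  set Oa := MulAction.orbit H a
  have haO : a ∈ Oa := MulAction.mem_orbit_self a
  have hd : Oa.ncard ∣ 887040 := hc ▸ hdvd H a
  have hm : Oa.ncard % 11 = (({a, b} : Finset Cfsg.GolayPt).filter fun w => w ∈ Oa).card % 11 := hmodK H x.2 a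
  have hl : Oa.ncard ≤ 24 := hle24 H a
  have hOa : Oa.ncard = 1 ∨ Oa.ncard = 2 ∨ Oa.ncard = 12 ∨ Oa.ncard = 24 := by
    by_cases hb : b ∈ Oa
    · rw [Finset.filter_true_of_mem (by simp [haO, hb, Oa]), Finset.card_pair hab] at hm
      rcases (show Oa.ncard = 2 ∨ Oa.ncard = 13 ∨ Oa.ncard = 24 by omega) with e | e | e
      · exact Or.inr (Or.inl e)
      · rw [e] at hd; norm_num at hd
      · exact Or.inr (Or.inr (Or.inr e))
    · rw [show (({a, b} : Finset Cfsg.GolayPt).filter fun w => w ∈ Oa) = {a} by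
        ext w
        simp only [Finset.mem_filter, Finset.mem_insert, Finset.mem_singleton]
        exact ⟨fun ⟨h, h'⟩ => h.resolve_right fun e => hb (e ▸ h'), fun e => ⟨Or.inl e, e ▸ haO⟩⟩,
        Finset.card_singleton] at hm
      rcases (show Oa.ncard = 1 ∨ Oa.ncard = 12 ∨ Oa.ncard = 23 by omega) with e | e | e
      · exact Or.inl e
      · exact Or.inr (Or.inr (Or.inl e))
      · rw [e] at hd; norm_num at hd
  have hmul := card_stab_mul H a
  rw [hc] at hmul
  rcases hOa with h1 | h2 | h12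
  · exfalso
    change (MulAction.orbit H a).ncard = 1 at h1
    rw [h1, mul_one] at hmul
    have h : Nat.card ↥(H ⊓ MulAction.stabilizer (Equiv.Perm Cfsg.GolayPt) a) ∣ 10200960 := by
      rw [← card_stab_point a]
      exact Subgroup.card_dvd_of_injective
        (⟨⟨fun t => ⟨⟨t.1, hHM t.2.1⟩, t.2.2⟩, rfl⟩, fun _ _ => rfl⟩ :
          ↥(H ⊓ MulAction.stabilizer (Equiv.Perm Cfsg.GolayPt) a) →* MulAction.stabilizer Cfsg.M24 a)
        fun u v e => Subtype.ext (congrArg (fun w : MulAction.stabilizer Cfsg.M24 a => w.1.1) e)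
    rw [hmul] at h
    norm_num at h
  · refine ⟨Oa.toFinset, by rw [← Set.ncard_eq_toFinset_card', h2], fun h hh => ?_⟩
    refine Finset.eq_of_subset_of_card_le (fun z hz => ?_) (le_of_eq (Finset.card_smul_finset h _).symm)
    obtain ⟨w, hw, rfl⟩ := Finset.mem_smul_finset.1 hz
    rw [Set.mem_toFinset] at hw ⊢
    exact MulAction.mem_orbit_of_mem_orbit (⟨h, hh⟩ : H) hw
  exfalso
  set Ka := H ⊓ MulAction.stabilizer (Equiv.Perm Cfsg.GolayPt) a
  have hKa : Nat.card Ka = 73920 ∨ Nat.card Ka = 36960 := by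
    rcases h12 with e | e <;> change (MulAction.orbit H a).ncard = _ at e <;> rw [e] at hmul <;> omega
  have hgKa : g ∈ Ka := ⟨x.2, hga⟩
  have hmb := hmodK Ka hgKa b
  rw [show (({a, b} : Finset Cfsg.GolayPt).filter fun w => w ∈ MulAction.orbit Ka b) = {b} by
    ext w
    simp only [Finset.mem_filter, Finset.mem_insert, Finset.mem_singleton]
    refine ⟨fun ⟨h, h'⟩ => h.resolve_left ?_, fun e => by subst e; exact ⟨Or.inr rfl, MulAction.mem_orbit_self _⟩⟩
    intro e
    rw [e] at h'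
    obtain ⟨k, hk⟩ := h'
    exact hab ((k : (Equiv.Perm Cfsg.GolayPt)).injective ((k.2.2 : (k : (Equiv.Perm Cfsg.GolayPt)) a = a).trans hk.symm)),
    Finset.card_singleton] at hmb
  have hdb := hdvd Ka b
  have hlb := hle24 Ka b
  have hmulb := card_stab_mul Ka b
  have h23 : (MulAction.orbit Ka b).ncard ≠ 23 := fun e => by
    rw [e] at hdb
    rcases hKa with e' | e' <;> rw [e'] at hdb <;> norm_num at hdb
  have hLle : Ka ⊓ MulAction.stabilizer (Equiv.Perm Cfsg.GolayPt) b ≤ fixTwo a b := fun k hk => mem_fixTwo.2 ⟨hHM hk.1.1, hk.1.2, hk.2⟩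
  refine seven_contra hab hLle ?_
  rcases (show (MulAction.orbit Ka b).ncard = 1 ∨ (MulAction.orbit Ka b).ncard = 12 by omega) with e | e <;>
    rw [e] at hmulb <;> omega

set_option maxHeartbeats 3000000 in
/-- The remaining orders: an octad or a sextet is fixed. -/
theorem large_case (H : Subgroup (Equiv.Perm Cfsg.GolayPt)) (hHM : H ≤ Cfsg.M24)
    (hc : Nat.card H = 322560 ∨ Nat.card H = 138240 ∨ Nat.card H = 967680) :
    (Nat.card H = 322560 ∧ ∃ o ∈ Cfsg.octads, ∀ h ∈ H, h • o = o) ∨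
      (Nat.card H = 138240 ∧ ∃ S ∈ Cfsg.sextets, ∀ h ∈ H, h • S = S) := by
  classical
  obtain ⟨o, ho, hE, htr⟩ := exists_framed hHM (by rcases hc with e | e | e <;> rw [e] <;> norm_num)
  by_cases hfixo : ∀ h ∈ H, h • o = o
  · refine Or.inl ⟨?_, o, ho, hfixo⟩
    have h := Subgroup.card_dvd_of_le (show H ≤ octStab o from fun h hh => ⟨hHM hh, hfixo h hh⟩)
    rw [card_octStab ho] at h
    rcases hc with e | e | e <;> rw [e] at h
    · exact e
    · norm_num at h
    · norm_num at h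
  obtain ⟨x₀, -, hx₀⟩ := Finset.exists_mem_notMem_of_card_lt_card (t := Finset.univ) (s := o)
    (by rw [Finset.card_univ, card_golayPt, ho.2]; norm_num)
  have hempty : rest H o = ∅ := by
    by_contra hne
    obtain ⟨r, hr⟩ := Finset.nonempty_iff_ne_empty.2 hne
    refine hfixo fun h hh => smul_eq_of_rest ho hHM hE ?_ hh
    have hsub : o ⊆ rest H o := fun y hy => by
      obtain ⟨s, hs, e⟩ := htr r (rest_subset hr) y hy
      exact e ▸ rest_invariant ho hE hs.1 hr
    exact le_trans (by rw [ho.2]; norm_num) (Finset.card_le_card hsub)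
  have hall : ∀ y, ∃ h ∈ H, h x₀ = y := fun y => by
    have h : y ∈ MulAction.orbit H x₀ := by rw [orbit_eq ho hE hx₀, hempty]; simp
    obtain ⟨k, hk⟩ := h
    exact ⟨k, k.2, hk⟩
  have hcKa : ∀ a, Nat.card ↥(H ⊓ MulAction.stabilizer (Equiv.Perm Cfsg.GolayPt) a) * 24 = Nat.card H := fun a => by
    have horb : MulAction.orbit H a = Set.univ := Set.eq_univ_of_forall fun y => by
      obtain ⟨h, hh, e⟩ := hall a
      obtain ⟨k, hk, e'⟩ := hall y
      refine ⟨⟨k * h⁻¹, mul_mem hk (inv_mem hh)⟩, ?_⟩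
      show (k * h⁻¹) a = y
      rw [← e, Equiv.Perm.mul_apply, Equiv.Perm.inv_def, Equiv.symm_apply_apply, e']
    have h := card_stab_mul H a
    rwa [horb, Set.ncard_univ, Nat.card_eq_fintype_card (α := Cfsg.GolayPt), card_golayPt] at h
  set K : Cfsg.GolayPt → Subgroup (Equiv.Perm Cfsg.GolayPt) := fun a => H ⊓ MulAction.stabilizer (Equiv.Perm Cfsg.GolayPt) a
  have hKM : ∀ a, K a ≤ Cfsg.M24 := fun a k hk => hHM hk.1
  have hEK : ∀ a ∈ o, ptStab o ≤ K a := fun a ha e he => ⟨hE he, (mem_ptStab.1 he).2 a ha⟩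
  have haR : ∀ a ∈ o, a ∈ rest (K a) o := fun a ha => fixed_mem_rest ha fun k hk => hk.2
  -- the octad is not fixed by a point stabiliser
  have hR5 : ∀ a ∈ o, (rest (K a) o).card < 5 := by
    intro a ha
    by_contra hlt
    have hKo : K a ≤ H ⊓ octStab o := fun k hk =>
      ⟨hk.1, hKM a hk, smul_eq_of_rest ho (hKM a) (hEK a ha) (by omega) hk⟩
    have horb : MulAction.orbit ↥(H ⊓ octStab o) a = (o : Set Cfsg.GolayPt) := by
      ext y
      constructor
      · rintro ⟨k, rfl⟩
        exact (apply_mem_iff k.2.2.2 a).2 ha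
      · intro hy
        obtain ⟨s, hs, e⟩ := htr a ha y hy
        exact ⟨⟨s, hs⟩, e⟩
    have h1 := card_stab_mul (H ⊓ octStab o) a
    rw [horb, Set.ncard_coe_finset, ho.2] at h1
    have h2 : Nat.card ↥(H ⊓ octStab o ⊓ MulAction.stabilizer (Equiv.Perm Cfsg.GolayPt) a) = Nat.card (K a) :=
      congrArg (fun L : Subgroup (Equiv.Perm Cfsg.GolayPt) => Nat.card L)
        (le_antisymm (fun k hk => ⟨hk.1.1, hk.2⟩) fun k hk => ⟨hKo hk, hk.2⟩)
    have h3 : Nat.card (K a) * 24 = Nat.card H := hcKa a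
    rw [h2] at h1
    have hK : H ⊓ octStab o = octStab o := eq_octStab_of_index ho inf_le_right
      (fun e he => ⟨hE he, ptStab_le o he⟩) (by rcases hc with e | e | e <;> omega)
    rw [hK, card_octStab ho] at h1
    have hco := CfsgLib.Sporadic.M24Maximal.octad_isCoatom ho
    have hle : MulAction.stabilizer Cfsg.M24 o ≤ H.subgroupOf Cfsg.M24 := fun g hg => by
      have : (g : (Equiv.Perm Cfsg.GolayPt)) ∈ H ⊓ octStab o := by rw [hK]; exact ⟨g.2, hg⟩
      exact this.1
    rcases lt_or_eq_of_le hle with hlt' | heq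
    · have h4 := hco.2 _ hlt'
      have h5 : Nat.card (H.subgroupOf Cfsg.M24) = Nat.card H :=
        Nat.card_congr (Subgroup.subgroupOfEquivOfLe hHM).toEquiv
      rw [h4, Subgroup.card_top, card_M24] at h5
      omega
    · refine hfixo fun h hh => ?_
      have : (⟨h, hHM hh⟩ : Cfsg.M24) ∈ MulAction.stabilizer Cfsg.M24 o := by rw [heq]; exact hh
      exact this
  have hR : ∀ a ∈ o, (rest (K a) o).card = 3 ∧ Nat.card H ≠ 138240 ∨
      (rest (K a) o).card = 4 ∧ Nat.card H = 138240 := by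
    intro a ha
    have hd := length_dvd ho (hEK a ha)
    have h3 : Nat.card (K a) * 24 = Nat.card H := hcKa a
    have hlt := hR5 a ha
    have hpos : 1 ≤ (rest (K a) o).card := Finset.card_pos.2 ⟨a, haR a ha⟩
    have hKv : Nat.card (K a) = 13440 ∨ Nat.card (K a) = 5760 ∨ Nat.card (K a) = 40320 := by omega
    rcases (show (rest (K a) o).card = 1 ∨ (rest (K a) o).card = 2 ∨ (rest (K a) o).card = 3 ∨
      (rest (K a) o).card = 4 by omega) with e | e | e | e
    · rw [e] at hd; rcases hKv with v | v | v <;> rw [v] at hd <;> norm_num at hd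
    · rw [e] at hd; rcases hKv with v | v | v <;> rw [v] at hd <;> norm_num at hd
    · refine Or.inl ⟨e, fun hH => ?_⟩
      rw [e, show Nat.card (K a) = 5760 by omega] at hd
      norm_num at hd
    · refine Or.inr ⟨e, by_contra fun hH => ?_⟩
      have : Fact (Nat.Prime 7) := ⟨by norm_num⟩
      obtain ⟨g, hg⟩ := exists_prime_orderOf_dvd_card' (G := K a) 7 (by
        rcases hKv with v | v | v <;> rw [v] at h3 ⊢ <;> omega)
      exact no_seven ho (hKM a) (hEK a ha) e g.2 (by rw [Subgroup.orderOf_coe, hg])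
  by_cases h1771 : Nat.card H = 138240
  swap
  · exfalso
    have hthree : ∀ a ∈ o, (rest (K a) o).card = 3 := fun a ha =>
      ((hR a ha).resolve_right fun h => h1771 h.2).1
    -- the rest of a point together with its two partners
    have hblock : ∀ a ∈ o, ∀ b ∈ rest (K a) o, rest (K b) o = rest (K a) o := by
      intro a ha b hb
      rcases eq_or_ne b a with rfl | hba
      · rfl
      obtain ⟨c, hcm, hca, hcb⟩ : ∃ c ∈ rest (K a) o, c ≠ a ∧ c ≠ b := by
        obtain ⟨c, hc', hn⟩ := Finset.exists_mem_notMem_of_card_lt_card (t := rest (K a) o) (s := ({a, b} : Finset Cfsg.GolayPt))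
          (by rw [hthree a ha, Finset.card_pair hba.symm]; norm_num)
        simp only [Finset.mem_insert, Finset.mem_singleton, not_or] at hn
        exact ⟨c, hc', hn.1, hn.2⟩
      have hset : rest (K a) o = {a, b, c} := by
        symm
        refine Finset.eq_of_subset_of_card_le ?_ ?_
        · intro z hz
          simp only [Finset.mem_insert, Finset.mem_singleton] at hz
          rcases hz with rfl | rfl | rfl
          exacts [haR _ ha, hb, hcm]
        · rw [hthree a ha, Finset.card_insert_of_notMem (by simp [hba.symm, hca.symm]), Finset.card_pair hcb.symm]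
      set L := K a ⊓ MulAction.stabilizer (Equiv.Perm Cfsg.GolayPt) b
      have hLle : L ≤ fixThree a b c := fun k hk => by
        have hka : k a = a := hk.1.2
        have hkb : k b = b := hk.2
        refine ⟨mem_fixTwo.2 ⟨hKM a hk.1, hka, hkb⟩, ?_⟩
        have hm := rest_invariant ho (hEK a ha) hk.1 hcm
        rw [hset] at hm
        simp only [Finset.mem_insert, Finset.mem_singleton] at hm
        rcases hm with e | e | e
        · exact absurd (k.injective (e.trans hka.symm)) hca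
        · exact absurd (k.injective (e.trans hkb.symm)) hcb
        · exact e
      have horb : (MulAction.orbit (K a) b).ncard ≤ 2 := by
        have hsub : MulAction.orbit (K a) b ⊆ (({b, c} : Finset Cfsg.GolayPt) : Set Cfsg.GolayPt) := by
          rintro _ ⟨k, rfl⟩
          have hm := rest_invariant ho (hEK a ha) k.2 hb
          rw [hset, Finset.mem_insert] at hm
          rcases hm with e | e
          · exact absurd ((k : (Equiv.Perm Cfsg.GolayPt)).injective (e.trans (k.2.2 : (k : (Equiv.Perm Cfsg.GolayPt)) a = a).symm)) hba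
          · exact e
        have := Set.ncard_le_ncard hsub (Finset.finite_toSet _)
        rwa [Set.ncard_coe_finset, Finset.card_pair hcb.symm] at this
      have hL : Nat.card L * (MulAction.orbit (K a) b).ncard = Nat.card (K a) := card_stab_mul (K a) b
      have h3 : Nat.card (K a) * 24 = Nat.card H := hcKa a
      have hd := Subgroup.card_dvd_of_le hLle
      rw [card_fixThree hba.symm hca.symm hcb.symm] at hd
      have horb1 : 1 ≤ (MulAction.orbit (K a) b).ncard :=
        (Set.ncard_pos (Set.toFinite _)).2 ⟨b, MulAction.mem_orbit_self b⟩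
      rcases hc with e | e | e
      · exfalso
        rcases (show (MulAction.orbit (K a) b).ncard = 1 ∨ (MulAction.orbit (K a) b).ncard = 2 by omega)
          with f | f <;> rw [f] at hL
        · rw [show Nat.card L = 13440 by omega] at hd; norm_num at hd
        · exact five_contra hba.symm hca.symm hcb.symm hLle (by omega)
      · exact absurd e h1771
      · have hLcard : Nat.card L = 20160 := by
          rcases (show (MulAction.orbit (K a) b).ncard = 1 ∨ (MulAction.orbit (K a) b).ncard = 2 by omega)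
            with f | f <;> rw [f] at hL
          · rw [show Nat.card L = 40320 by omega] at hd; norm_num at hd
          · omega
        have hLeq : L = fixThree a b c := Subgroup.eq_of_le_of_card_ge hLle
          (by rw [card_fixThree hba.symm hca.symm hcb.symm, hLcard])
        have hbo : b ∈ o := rest_subset hb
        refine Finset.eq_of_subset_of_card_le (fun w hw => ?_) (by rw [hthree a ha, hthree b hbo])
        by_contra hwn
        obtain ⟨w', hw', hw'R⟩ := Finset.exists_mem_notMem_of_card_lt_card (t := (rest (K a) o)ᶜ)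
          (s := rest (K b) o) (by rw [Finset.card_compl, card_golayPt, hthree a ha, hthree b hbo]; norm_num)
        rw [Finset.mem_compl] at hw'
        rw [hset] at hwn hw'
        simp only [Finset.mem_insert, Finset.mem_singleton, not_or] at hwn hw'
        obtain ⟨g, hg⟩ := exists_map_of_le (n := 4) (by norm_num)
          ⟨![a, b, c, w], fun i j e => by fin_cases i <;> fin_cases j <;> simp_all [eq_comm]⟩
          ⟨![a, b, c, w'], fun i j e => by fin_cases i <;> fin_cases j <;> simp_all [eq_comm]⟩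
        have hgL : (g : (Equiv.Perm Cfsg.GolayPt)) ∈ L := by
          rw [hLeq]; exact ⟨mem_fixTwo.2 ⟨g.2, hg 0, hg 1⟩, hg 2⟩
        have e3 : (g : Equiv.Perm Cfsg.GolayPt) w = w' := hg 3
        have hm := rest_invariant ho (hEK b hbo)
          (⟨hgL.1.1, hgL.2⟩ : (g : Equiv.Perm Cfsg.GolayPt) ∈ K b) hw
        rw [e3] at hm
        exact hw'R hm
    have h := Finset.card_eq_sum_card_fiberwise (s := o) (t := o.image fun a => rest (K a) o)
      (f := fun a => rest (K a) o) (fun a ha => Finset.mem_coe.2 (Finset.mem_image_of_mem _ ha))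
    rw [Finset.sum_const_nat (m := 3) fun T hT => ?_] at h
    · rw [ho.2] at h; omega
    obtain ⟨a, ha, rfl⟩ := Finset.mem_image.1 hT
    refine Eq.trans (congrArg Finset.card ?_) (hthree a ha)
    ext z
    rw [Finset.mem_filter]
    exact ⟨fun ⟨hz, e⟩ => e ▸ haR z hz, fun hz => ⟨rest_subset hz, hblock a ha z hz⟩⟩
  -- the sextet
  have hfour : ∀ a ∈ o, (rest (K a) o).card = 4 := fun a ha => ((hR a ha).resolve_left fun h => h.2 h1771).1
  have : Fact (Nat.Prime 5) := ⟨by norm_num⟩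
  have huniq : ∀ a, ∀ u ∈ H, ∀ v ∈ H, orderOf u = 5 → orderOf v = 5 → u a = a → v a = a →
      fixedPts u = fixedPts v := by
    intro a u hu v hv hou hov hua hva
    obtain ⟨a₀, ha₀⟩ := Finset.card_pos.1 (show 0 < o.card by rw [ho.2]; norm_num)
    obtain ⟨h₁, hh₁, e₁⟩ := hall a₀
    obtain ⟨h₂, hh₂, e₂⟩ := hall a
    set k := h₂ * h₁⁻¹
    have hk : k ∈ H := mul_mem hh₂ (inv_mem hh₁)
    have hka : k a₀ = a := by
      show (h₂ * h₁⁻¹) a₀ = a
      rw [← e₁, Equiv.Perm.mul_apply, Equiv.Perm.inv_def, Equiv.symm_apply_apply, e₂]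
    have hconj : ∀ w ∈ H, orderOf w = 5 → w a = a → fixedPts (k⁻¹ * w * k) = rest (K a₀) o := by
      intro w hw how hwa
      refine fixedPts_five ho (hKM a₀) (hEK a₀ ha₀) (hfour a₀ ha₀)
        ⟨H.mul_mem (H.mul_mem (H.inv_mem hk) hw) hk, ?_⟩ ?_
      · show (k⁻¹ * w * k) a₀ = a₀
        rw [Equiv.Perm.mul_apply, Equiv.Perm.mul_apply, hka, hwa, ← hka, Equiv.Perm.inv_def, Equiv.symm_apply_apply]
      · rw [show k⁻¹ * w * k = MulAut.conj k⁻¹ w by simp, MulEquiv.orderOf_eq, how]
    ext z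
    have hz : ∀ w : (Equiv.Perm Cfsg.GolayPt), z ∈ fixedPts w ↔ k⁻¹ z ∈ fixedPts (k⁻¹ * w * k) := fun w => by
      simp [mem_fixedPts, Equiv.Perm.mul_apply]
    rw [hz u, hz v, hconj u hu hou hua, hconj v hv hov hva]
  have hex : ∀ a, ∃ u ∈ H, orderOf u = 5 ∧ u a = a := by
    intro a
    have h := hcKa a
    obtain ⟨u, hu⟩ := exists_prime_orderOf_dvd_card' (G := ↥(H ⊓ MulAction.stabilizer (Equiv.Perm Cfsg.GolayPt) a)) 5
      (by rw [h1771] at h; omega)
    exact ⟨u, u.2.1, by rw [Subgroup.orderOf_coe, hu], u.2.2⟩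
  choose el hel helo hela using hex
  set B : Cfsg.GolayPt → Finset Cfsg.GolayPt := fun a => fixedPts (el a)
  have hBcard : ∀ a, (B a).card = 4 := fun a => by
    obtain ⟨h1, h2⟩ : (B a).card ≤ 4 ∧ (B a).card % 5 = 24 % 5 :=
      card_fixedPts_eq (hHM (hel a)) (helo a) (by norm_num)
    omega
  have hBmem : ∀ a, a ∈ B a := fun a => mem_fixedPts.2 (hela a)
  have hBeq : ∀ a b, b ∈ B a → B b = B a := fun a b hb =>
    huniq b _ (hel b) _ (hel a) (helo b) (helo a) (hela b) (mem_fixedPts.1 hb)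
  have hBsmul : ∀ h ∈ H, ∀ a, B (h a) = h • B a := by
    intro h hh a
    refine (huniq (h a) _ (hel _) (h * el a * h⁻¹) (mul_mem (mul_mem hh (hel a)) (inv_mem hh)) (helo _) ?_ (hela _)
      ?_).trans ?_
    · rw [show h * el a * h⁻¹ = MulAut.conj h (el a) from rfl, MulEquiv.orderOf_eq, helo]
    · simp [hela a]
    · ext z
      simp [B, mem_fixedPts, ← Finset.inv_smul_mem_iff, Equiv.eq_symm_apply, Equiv.Perm.inv_def]
  have hdisj : ∀ a b, B a ≠ B b → Disjoint (B a) (B b) := fun a b hne =>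
    Finset.disjoint_left.2 fun z hz hz' => hne ((hBeq a z hz).symm.trans (hBeq b z hz'))
  have hpartner : ∀ a, ∃ b, B b ≠ B a ∧ B a ∪ B b ∈ Cfsg.octads := by
    intro a
    obtain ⟨a₀, ha₀⟩ := Finset.card_pos.1 (show 0 < o.card by rw [ho.2]; norm_num)
    have hsub : ∀ a ∈ o, B a ⊆ o := fun a ha => by
      rw [show B a = rest (K a) o from fixedPts_five ho (hKM a) (hEK a ha) (hfour a ha) ⟨hel a, hela a⟩ (helo a)]
      exact rest_subset
    obtain ⟨b₀, hb₀, hb₀'⟩ := Finset.exists_mem_notMem_of_card_lt_card (t := o) (s := B a₀)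
      (by rw [hBcard, ho.2]; norm_num)
    have hne : B b₀ ≠ B a₀ := fun e => hb₀' (e ▸ hBmem b₀)
    have hu : B a₀ ∪ B b₀ = o := Finset.eq_of_subset_of_card_le
      (Finset.union_subset (hsub a₀ ha₀) (hsub b₀ hb₀))
      (by rw [Finset.card_union_of_disjoint (hdisj _ _ hne.symm), hBcard, hBcard, ho.2])
    obtain ⟨h₁, hh₁, e₁⟩ := hall a₀
    obtain ⟨h₂, hh₂, e₂⟩ := hall a
    set k := h₂ * h₁⁻¹
    have hk : k ∈ H := mul_mem hh₂ (inv_mem hh₁)
    have hka : k a₀ = a := by
      show (h₂ * h₁⁻¹) a₀ = a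
      rw [← e₁, Equiv.Perm.mul_apply, Equiv.Perm.inv_def, Equiv.symm_apply_apply, e₂]
    refine ⟨k b₀, ?_, ?_⟩
    · rw [← hka, hBsmul k hk, hBsmul k hk]
      exact fun e => hne (smul_left_cancel k e)
    · rw [← hka, hBsmul k hk, hBsmul k hk, ← Finset.smul_finset_union, hu]
      exact smul_mem_weight (hHM hk) ho
  have hpair : ∀ a b, B a ≠ B b → B a ∪ B b ∈ Cfsg.octads := by
    intro a b hab
    obtain ⟨c, hca, hcu⟩ := hpartner a
    set g := el a
    have hmoved : ∀ u ∈ B c, g u ≠ u := fun u hu e =>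
      Finset.disjoint_left.1 (hdisj _ _ hca) hu (mem_fixedPts.2 e)
    let orb : Cfsg.GolayPt → Finset Cfsg.GolayPt := fun u => (MulAction.orbit (Subgroup.zpowers g) u).toFinset
    have horbc : ∀ u ∈ B c, (orb u).card = 5 := fun u hu => by
      rw [← Set.ncard_eq_toFinset_card']
      exact card_orbit_of_moved (helo a) (hmoved u hu)
    have hdis : (B c : Set Cfsg.GolayPt).PairwiseDisjoint orb := by
      intro u hu v hv huv
      refine Finset.disjoint_left.2 fun z hz hz' => ?_
      simp only [orb, Set.mem_toFinset] at hz hz'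
      have he := (MulAction.orbit_eq_iff.2 hz).symm.trans (MulAction.orbit_eq_iff.2 hz')
      obtain ⟨w, hw⟩ : u ∈ MulAction.orbit (Subgroup.zpowers g) v := he ▸ MulAction.mem_orbit_self u
      have hwH : (w : (Equiv.Perm Cfsg.GolayPt)) ∈ H := Subgroup.zpowers_le.2 (hel a) w.2
      -- the block of `v` is invariant under a generator
      have hwne : (w : (Equiv.Perm Cfsg.GolayPt)) ≠ 1 := fun e => huv (by
        have hw' : (w : (Equiv.Perm Cfsg.GolayPt)) v = u := hw
        rw [e] at hw'; exact hw'.symm)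
      have hw5 : orderOf (w : (Equiv.Perm Cfsg.GolayPt)) = 5 := by
        have hd := Subgroup.orderOf_dvd_natCard (Subgroup.zpowers g) w.2
        rw [Nat.card_zpowers, helo] at hd
        exact ((Nat.dvd_prime (by norm_num)).1 hd).resolve_left fun e => hwne (orderOf_eq_one_iff.1 e)
      have hinv : (w : (Equiv.Perm Cfsg.GolayPt)) • B v = B v := by
        rw [← hBsmul _ hwH, show (w : (Equiv.Perm Cfsg.GolayPt)) v = u from hw]
        exact (hBeq c u hu).trans (hBeq c v hv).symm
      have hwv : (w : (Equiv.Perm Cfsg.GolayPt)) v ≠ v := fun e => huv ((hw : (w : (Equiv.Perm Cfsg.GolayPt)) v = u).symm.trans e)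
      have hsub : MulAction.orbit (Subgroup.zpowers (w : (Equiv.Perm Cfsg.GolayPt))) v ⊆ (B v : Set Cfsg.GolayPt) := by
        rintro _ ⟨⟨s, n, rfl⟩, rfl⟩
        have hmem : (w : (Equiv.Perm Cfsg.GolayPt)) ^ n ∈ MulAction.stabilizer (Equiv.Perm Cfsg.GolayPt) (B v) :=
          Subgroup.zpow_mem _ (show (w : (Equiv.Perm Cfsg.GolayPt)) ∈ MulAction.stabilizer (Equiv.Perm Cfsg.GolayPt) (B v) from hinv) n
        exact (apply_mem_iff hmem v).2 (hBmem v)
      have := Set.ncard_le_ncard hsub (Finset.finite_toSet _)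
      rw [card_orbit_of_moved hw5 hwv, Set.ncard_coe_finset, hBcard] at this
      omega
    have hcover : (B c).biUnion orb = (B a)ᶜ := by
      refine Finset.eq_of_subset_of_card_le (fun z hz => ?_) ?_
      · obtain ⟨u, hu, hz⟩ := Finset.mem_biUnion.1 hz
        simp only [orb, Set.mem_toFinset] at hz
        obtain ⟨⟨s, n, rfl⟩, rfl⟩ := hz
        rw [Finset.mem_compl]
        intro hz'
        have hz'' : g ((g ^ n) u) = (g ^ n) u := mem_fixedPts.1 hz'
        rw [← Equiv.Perm.mul_apply, ← (Commute.refl g).zpow_left n, Equiv.Perm.mul_apply] at hz''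
        exact hmoved u hu ((g ^ n).injective hz'')
      · rw [Finset.card_biUnion hdis, Finset.sum_const_nat horbc, hBcard, Finset.card_compl, card_golayPt, hBcard]
    have hbmem : b ∈ (B a)ᶜ := Finset.mem_compl.2 fun h => hab (hBeq a b h).symm
    rw [← hcover, Finset.mem_biUnion] at hbmem
    obtain ⟨u, hu, hz⟩ := hbmem
    simp only [orb, Set.mem_toFinset] at hz
    obtain ⟨⟨s, n, rfl⟩, hsb⟩ := hz
    have hsH : g ^ n ∈ H := zpow_mem (hel a) n
    have e1 : B b = g ^ n • B c := by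
      rw [← hBeq c u hu, ← hBsmul _ hsH]
      exact congrArg B hsb.symm
    have e2 : g ^ n • B a = B a := by
      rw [← hBsmul _ hsH]
      exact congrArg B (Equiv.Perm.zpow_apply_eq_self_of_apply_eq_self (hela a) n)
    rw [e1, ← e2, ← Finset.smul_finset_union]
    exact smul_mem_weight (hHM hsH) hcu
  refine Or.inr ⟨h1771, Finset.univ.image B, ⟨?_, ?_, ?_⟩, fun h hh => ?_⟩
  · have hk := Finset.card_eq_sum_card_fiberwise (s := (Finset.univ : Finset Cfsg.GolayPt)) (t := Finset.univ.image B) (f := B)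
      (fun a _ => Finset.mem_coe.2 (Finset.mem_image_of_mem _ (Finset.mem_univ a)))
    rw [Finset.sum_const_nat (m := 4) fun T hT => ?_, Finset.card_univ, card_golayPt] at hk
    · omega
    obtain ⟨a, -, rfl⟩ := Finset.mem_image.1 hT
    refine Eq.trans (congrArg Finset.card ?_) (hBcard a)
    ext z
    rw [Finset.mem_filter]
    exact ⟨fun ⟨_, e⟩ => e ▸ hBmem z, fun hz => ⟨Finset.mem_univ _, hBeq a z hz⟩⟩
  · intro t ht
    obtain ⟨a, -, rfl⟩ := Finset.mem_image.1 ht
    exact hBcard a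
  · intro t ht u hu htu
    obtain ⟨a, -, rfl⟩ := Finset.mem_image.1 ht
    obtain ⟨b, -, rfl⟩ := Finset.mem_image.1 hu
    exact hpair a b htu
  · refine Finset.eq_of_subset_of_card_le (fun T hT => ?_) (le_of_eq (Finset.card_smul_finset h _).symm)
    obtain ⟨U, hU, rfl⟩ := Finset.mem_smul_finset.1 hT
    obtain ⟨a, -, rfl⟩ := Finset.mem_image.1 hU
    exact Finset.mem_image.2 ⟨h a, Finset.mem_univ _, hBsmul h hh a⟩

/-- Subgroups of the group of the length-24 code of index 759, 276 and 1771 are exactly the octad, duad and sextet stabilisers, and no subgroup has index 253. -/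
theorem result : (∀ H : Subgroup ↥Cfsg.M24, H.index = 759 → ∃ o ∈ Cfsg.octads, H = MulAction.stabilizer Cfsg.M24 o) ∧ (∀ H : Subgroup ↥Cfsg.M24, H.index = 276 → ∃ s : Finset Cfsg.GolayPt, s.card = 2 ∧ H = MulAction.stabilizer Cfsg.M24 s) ∧ (∀ H : Subgroup ↥Cfsg.M24, H.index = 1771 → ∃ S ∈ Cfsg.sextets, H = MulAction.stabilizer Cfsg.M24 S) ∧ ∀ H : Subgroup ↥Cfsg.M24, H.index ≠ 253 := by
  classical
  have hcard : ∀ (H : Subgroup ↥Cfsg.M24) (n : ℕ), 0 < n → H.index = n →
      Nat.card (H.map Cfsg.M24.subtype) = 244823040 / n := by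
    intro H n hn h
    rw [Subgroup.card_map_of_injective Cfsg.M24.subtype_injective, ← card_M24, ← H.card_mul_index, h,
      Nat.mul_div_cancel _ hn]
  refine ⟨fun H hH => ?_, fun H hH => ?_, fun H hH => ?_, fun H hH => ?_⟩
  · have hc : Nat.card (H.map Cfsg.M24.subtype) = 322560 := by rw [hcard H 759 (by norm_num) hH]
    rcases large_case _ (Subgroup.map_subtype_le _) (Or.inl hc) with ⟨-, o, ho, hfix⟩ | ⟨h, -⟩
    · refine ⟨o, ho, Subgroup.eq_of_le_of_card_ge (fun g hg => hfix g ⟨g, hg, rfl⟩) (le_of_eq ?_)⟩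
      rw [Subgroup.card_map_of_injective Cfsg.M24.subtype_injective] at hc
      rw [hc, ← card_octStab ho]
      exact Nat.card_congr ⟨fun g => ⟨g.1.1, g.1.2, g.2⟩, fun g => ⟨⟨g.1, g.2.1⟩, g.2.2⟩, fun _ => rfl, fun _ => rfl⟩
    · omega
  · have hc : Nat.card (H.map Cfsg.M24.subtype) = 887040 := by rw [hcard H 276 (by norm_num) hH]
    obtain ⟨s, hs, hfix⟩ := duad_case _ (Subgroup.map_subtype_le _) hc
    refine ⟨s, hs, Subgroup.eq_of_le_of_card_ge (fun g hg => hfix g ⟨g, hg, rfl⟩) ?_⟩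
    have horb : MulAction.orbit Cfsg.M24 s = (((Finset.univ : Finset Cfsg.GolayPt).powersetCard 2 : Finset (Finset Cfsg.GolayPt)) :
        Set (Finset Cfsg.GolayPt)) := by
      ext t
      rw [Finset.mem_coe, Finset.mem_powersetCard]
      constructor
      · rintro ⟨g, rfl⟩
        exact ⟨Finset.subset_univ _, (Finset.card_smul_finset g s).trans hs⟩
      · rintro ⟨-, htc⟩
        obtain ⟨a, b, hab, rfl⟩ := Finset.card_eq_two.1 hs
        obtain ⟨c, d, hcd, rfl⟩ := Finset.card_eq_two.1 htc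
        obtain ⟨g, hg1, hg2⟩ := CfsgLib.SmallGroups.MathieuSimple.exists_two hab hcd
        refine ⟨g, ?_⟩
        show g • ({a, b} : Finset Cfsg.GolayPt) = {c, d}
        rw [Finset.smul_finset_insert, Finset.smul_finset_singleton, hg1, hg2]
    have h := (MulAction.stabilizer Cfsg.M24 s).card_mul_index
    rw [MulAction.index_stabilizer, horb, Set.ncard_coe_finset, Finset.card_powersetCard, Finset.card_univ,
      card_golayPt, card_M24, show Nat.choose 24 2 = 276 from rfl] at h
    rw [Subgroup.card_map_of_injective Cfsg.M24.subtype_injective] at hc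
    omega
  · have hc : Nat.card (H.map Cfsg.M24.subtype) = 138240 := by rw [hcard H 1771 (by norm_num) hH]
    rcases large_case _ (Subgroup.map_subtype_le _) (Or.inr (Or.inl hc)) with ⟨h, -⟩ | ⟨-, S, hS, hfix⟩
    · omega
    · refine ⟨S, hS, Subgroup.eq_of_le_of_card_ge (fun g hg => hfix g ⟨g, hg, rfl⟩) (le_of_eq ?_)⟩
      rw [Subgroup.card_map_of_injective Cfsg.M24.subtype_injective] at hc
      rw [hc, CfsgLib.Sporadic.M24SextetStructure.card_stab hS]
  · have hc : Nat.card (H.map Cfsg.M24.subtype) = 967680 := by rw [hcard H 253 (by norm_num) hH]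
    rcases large_case _ (Subgroup.map_subtype_le _) (Or.inr (Or.inr hc)) with ⟨h, -⟩ | ⟨h, -⟩ <;> omega

end Cfsg.Agent.S1589
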