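import Cfsg.Agent.Lib.SmallGroups.Steiner
import Cfsg.Statements.S1595
-- import your own Cfsg.Agent.* helpers here

set_option autoImplicit false
open Cfsg

namespace Cfsg.Agent.S1595

/-- Leech triangle of S(5, 6, 12): blocks meet in 0, 2, 3 or 4 points, and a block is met exactly in a given 2-, 3- or 4-subset by 3, 2, 3 blocks respectively. -/
theorem result {α : Type*} [Fintype α] [DecidableEq α] (hα : Fintype.card α = 12) {B : Set (Finset α)} (hB : Cfsg.IsSteinerSystem 5 6 B) (b : Finset α) (hb : b ∈ B) : (∀ c ∈ B, c ≠ b → (b ∩ c).card = 0 ∨ (b ∩ c).card = 2 ∨ (b ∩ c).card = 3 ∨ (b ∩ c).card = 4) ∧ ∀ s ⊆ b, (s.card = 2 → {c : Finset α | c ∈ B ∧ b ∩ c = s}.ncard = 3) ∧ (s.card = 3 → {c : Finset α | c ∈ B ∧ b ∩ c = s}.ncard = 2) ∧ (s.card = 4 → {c : Finset α | c ∈ B ∧ b ∩ c = s}.ncard = 3) := by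
  classical
  open CfsgLib.SmallGroups.Steiner in
  have h : ∀ T ⊆ b, ((blocks B).filter fun c => c ∩ b = T).card = mu12 T.card :=
    fun T hT => inter12 hα hB hb hT
  open CfsgLib.SmallGroups.Steiner in
  refine ⟨fun c hc hne => ?_, fun s hs => ?_⟩
  · have hle : (c ∩ b).card ≤ 6 := (Finset.card_le_card Finset.inter_subset_right).trans (hB.1 b hb).le
    have hlt : (c ∩ b).card < 5 := by
      by_contra hge
      exact hne (eq_of_le_inter hB hc hb (not_lt.1 hge))
    have h1 : (c ∩ b).card ≠ 1 := inter_card_ne hB hb hc h rfl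
    rw [Finset.inter_comm b c]
    omega
  · have key : {c : Finset α | c ∈ B ∧ b ∩ c = s}.ncard = mu12 s.card := by
      rw [ncard_sep, ← h s hs]
      exact congrArg Finset.card (Finset.filter_congr fun c _ => by rw [Finset.inter_comm])
    exact ⟨fun e => by rw [key, e]; rfl, fun e => by rw [key, e]; rfl, fun e => by rw [key, e]; rfl⟩

end Cfsg.Agent.S1595
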