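import Cfsg.Agent.Lib.Sporadic.M24Certs
import Cfsg.Agent.Lib.Sporadic.Sextets
import Cfsg.Statements.S1604
-- import your own Cfsg.Agent.* helpers here

set_option autoImplicit false
open scoped Pointwise
open Cfsg

namespace Cfsg.Agent.S1604

open CfsgLib.SmallGroups.Golay CfsgLib.SmallGroups.GolayOctads CfsgLib.SmallGroups.M24Group
  CfsgLib.SmallGroups.Mathieu CfsgLib.Sporadic.M24Orbits CfsgLib.Sporadic.M24Config
  CfsgLib.Sporadic.M24Certs
open scoped Pointwise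

theorem counts :
    ((cwOfWeight 8).filter fun n => n.testBit 23 && n.testBit 0 && pc (n &&& octB) == 2).length = 16 ∧
    ((cwOfWeight 8).filter fun n => n.testBit 23 && n.testBit 0 && pc (n &&& octB) == 4).length = 60 := by
  decide +kernel

/-- A hexad stabiliser in the two-point stabiliser has orbits of sizes 1, 16, 60 on the 77 hexads: the 16 hexads disjoint from it and the 60 meeting it in two points. -/
theorem result (p q : Cfsg.GolayPt) (hpq : p ≠ q) (o o' o'' : Finset Cfsg.GolayPt) (ho : o ∈ Cfsg.octads) (ho' : o' ∈ Cfsg.octads) (ho'' : o'' ∈ Cfsg.octads) (hp : p ∈ o ∧ p ∈ o' ∧ p ∈ o'') (hq : q ∈ o ∧ q ∈ o' ∧ q ∈ o'') (h : (o ∩ o').card = (o ∩ o'').card) : {x : Finset Cfsg.GolayPt | x ∈ Cfsg.octads ∧ p ∈ x ∧ q ∈ x ∧ (o ∩ x).card = 2}.ncard = 16 ∧ {x : Finset Cfsg.GolayPt | x ∈ Cfsg.octads ∧ p ∈ x ∧ q ∈ x ∧ (o ∩ x).card = 4}.ncard = 60 ∧ ∃ g : Equiv.Perm Cfsg.GolayPt, g ∈ Cfsg.M24 ∧ g p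 = p ∧ g q = q ∧ g • o = o ∧ g • o' = o'' := by
  obtain ⟨a₀, ha₀, hp₀, hq₀⟩ := exists_to_none_zero hpq
  obtain ⟨g₀, hg₀, -, hfp₀, he₀⟩ := orbit_moved ha₀ certDuadA (P := fun S => p ∈ S ∧ q ∈ S)
    (fun n S hn => by rw [Bool.and_eq_true, ← testBit_moved hn hp₀, ← testBit_moved hn hq₀]; rfl) ho
    ⟨hp.1, hq.1⟩ (S' := a₀⁻¹ • toSet octB) (smul_mem_weight (inv_mem ha₀) octB_mem) (by
      constructor <;> rw [Finset.mem_inv_smul_finset_iff, Equiv.Perm.smul_def]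
      · rw [hp₀]; decide +kernel
      · rw [hq₀]; decide +kernel)
  obtain ⟨a, ha, hap, haq, hao⟩ : ∃ a ∈ M24, a p = none ∧ a q = some 0 ∧ a • o = toSet octB :=
    ⟨a₀ * g₀, mul_mem ha₀ hg₀, by rw [Equiv.Perm.mul_apply, hfp₀ (2 ^ 23) (by simp) p none hp₀ rfl, hp₀],
      by rw [Equiv.Perm.mul_apply, hfp₀ (2 ^ 0) (by simp) q (some 0) hq₀ rfl, hq₀],
      by rw [mul_smul, he₀, smul_inv_smul]⟩
  have hsel : ∀ j n S, toSet n = a • S →
      ((n.testBit 23 && n.testBit 0 && pc (n &&& octB) == j) = true ↔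
        p ∈ S ∧ q ∈ S ∧ (o ∩ S).card = j) := fun j n S hn => by
    rw [Bool.and_eq_true, Bool.and_eq_true, beq_iff_eq, pc_moved hn hao, ← testBit_moved hn hap,
      ← testBit_moved hn haq, and_assoc]; rfl
  refine ⟨(count_moved ha 8 _ _ (hsel 2)).trans counts.1, (count_moved ha 8 _ _ (hsel 4)).trans counts.2, ?_⟩
  have fin : ∀ {j root : ℕ} {T : Tree}, (o ∩ o').card = j →
      cert gensHexad [2 ^ 23, 2 ^ 0, octB] root T cwKey enc
        ((cwOfWeight 8).filter fun n => n.testBit 23 && n.testBit 0 && pc (n &&& octB) == j) = true →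
      ∃ g : Equiv.Perm GolayPt, g ∈ M24 ∧ g p = p ∧ g q = q ∧ g • o = o ∧ g • o' = o'' :=
    fun {j root T} hj hc => by
    obtain ⟨g, hg, hfix, hfp, he⟩ := orbit_moved ha hc (hsel j) ho' ⟨hp.2.1, hq.2.1, hj⟩ ho''
      ⟨hp.2.2, hq.2.2, h ▸ hj⟩
    exact ⟨g, hg, hfp (2 ^ 23) (by simp) p none hap rfl, hfp (2 ^ 0) (by simp) q (some 0) haq rfl,
      hfix octB (by simp) o hao, he⟩
  by_cases hoo : o' = o
  · exact fin (by rw [hoo, Finset.inter_self, ho.2]) certHexad8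
  · rcases CfsgLib.Sporadic.Sextets.octad_inter ho ho' (Ne.symm hoo) with hj | hj | hj
    · exact absurd (Finset.card_eq_zero.1 hj ▸ Finset.mem_inter.2 ⟨hp.1, hp.2.1⟩) (Finset.notMem_empty p)
    · exact fin hj certHexad2
    · exact fin hj certHexad4

end Cfsg.Agent.S1604
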