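import Cfsg.Agent.Lib.Sporadic.M24Certs
import Cfsg.Agent.Lib.Sporadic.Sextets
import Cfsg.Statements.S1605
-- import your own Cfsg.Agent.* helpers here

set_option autoImplicit false
open scoped Pointwise
open Cfsg

namespace Cfsg.Agent.S1605

open CfsgLib.SmallGroups.Golay CfsgLib.SmallGroups.GolayOctads CfsgLib.SmallGroups.M24Group
  CfsgLib.SmallGroups.Mathieu CfsgLib.Sporadic.M24Orbits CfsgLib.Sporadic.M24Config
  CfsgLib.Sporadic.M24Certs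
open scoped Pointwise

/-- The base octad through the extra point avoiding zero. -/
def octC : ℕ := 13938692

theorem octC_mem : toSet octC ∈ octads :=
  mem_octads.2 ⟨octC, mem_cwOfWeight.2 ⟨mem_cw.2 ⟨octC % 4096, by decide, by decide +kernel⟩,
    by decide +kernel⟩, rfl⟩

theorem counts : ((cwOfWeight 8).filter fun n => n.testBit 23 && !n.testBit 0).length = 176 ∧
    ((cwOfWeight 8).filter fun n => n.testBit 23 && !n.testBit 0 && pc (n &&& octC) == 2).length = 70 ∧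
    ((cwOfWeight 8).filter fun n => n.testBit 23 && !n.testBit 0 && pc (n &&& octC) == 4).length = 105 := by
  decide +kernel

/-- The two-point stabiliser acts on the 176 octads through the first point avoiding the second with rank 3 and subdegrees 1, 70, 105 (intersections 8, 2, 4). -/
theorem result (p q : Cfsg.GolayPt) (hpq : p ≠ q) : {x : Finset Cfsg.GolayPt | (x ∈ Cfsg.octads ∧ p ∈ x ∧ q ∉ x)}.ncard = 176 ∧ (∀ o o' : Finset Cfsg.GolayPt, (o ∈ Cfsg.octads ∧ p ∈ o ∧ q ∉ o) → (o' ∈ Cfsg.octads ∧ p ∈ o' ∧ q ∉ o') → ∃ g : Equiv.Perm Cfsg.GolayPt, g ∈ Cfsg.M24 ∧ g p = p ∧ g q = q ∧ g • o = o') ∧ ∀ o : Finset Cfsg.GolayPt, (o ∈ Cfsg.octads ∧ p ∈ o ∧ q ∉ o) → {x : Finset Cfsg.GolayPt | (x ∈ Cfsg.octads ∧ p ∈ x ∧ q ∉ x) ∧ (o ∩ x).card = 2}.ncard = 70 ∧ {x : Finset Cfsg.GolayPt | (x ∈ Cfsg.octads ∧ p ∈ x ∧ q ∉ x) ∧ (o ∩ x).card = 4}.ncard = 105 ∧ ∀ o' o'' : Finset Cfsg.GolayPt, (o' ∈ Cfsg.octads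 ∧ p ∈ o' ∧ q ∉ o') → (o'' ∈ Cfsg.octads ∧ p ∈ o'' ∧ q ∉ o'') → (o ∩ o').card = (o ∩ o'').card → ∃ g : Equiv.Perm Cfsg.GolayPt, g ∈ Cfsg.M24 ∧ g p = p ∧ g q = q ∧ g • o = o ∧ g • o' = o'' := by
  obtain ⟨a₀, ha₀, hp₀, hq₀⟩ := exists_to_none_zero hpq
  have hsel₀ : ∀ n S, toSet n = a₀ • S → ((n.testBit 23 && !n.testBit 0) = true ↔ p ∈ S ∧ q ∉ S) :=
    fun n S hn => by
    rw [Bool.and_eq_true, ← testBit_moved hn hp₀, ← testBit_moved hn hq₀, Bool.not_eq_true',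
      Bool.not_eq_true]; rfl
  have trans₀ : ∀ o o' : Finset GolayPt, (o ∈ octads ∧ p ∈ o ∧ q ∉ o) → (o' ∈ octads ∧ p ∈ o' ∧ q ∉ o') →
      ∃ g : Equiv.Perm GolayPt, g ∈ M24 ∧ g p = p ∧ g q = q ∧ g • o = o' := fun o o' h h' => by
    obtain ⟨g, hg, -, hfp, he⟩ := orbit_moved ha₀ certDuadB hsel₀ h.1 h.2 h'.1 h'.2
    exact ⟨g, hg, hfp (2 ^ 23) (by simp) p none hp₀ rfl, hfp (2 ^ 0) (by simp) q (some 0) hq₀ rfl, he⟩
  refine ⟨(count_moved ha₀ 8 _ _ hsel₀).trans counts.1, trans₀, fun o ho => ?_⟩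
  obtain ⟨g₀, hg₀, hgp, hgq, he₀⟩ := trans₀ o (a₀⁻¹ • toSet octC) ho
    ⟨smul_mem_weight (inv_mem ha₀) octC_mem, by
      rw [Finset.mem_inv_smul_finset_iff, Equiv.Perm.smul_def, hp₀]; decide +kernel, by
      rw [Finset.mem_inv_smul_finset_iff, Equiv.Perm.smul_def, hq₀]; decide +kernel⟩
  obtain ⟨a, ha, hap, haq, hao⟩ : ∃ a ∈ M24, a p = none ∧ a q = some 0 ∧ a • o = toSet octC :=
    ⟨a₀ * g₀, mul_mem ha₀ hg₀, by rw [Equiv.Perm.mul_apply, hgp, hp₀],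
      by rw [Equiv.Perm.mul_apply, hgq, hq₀], by rw [mul_smul, he₀, smul_inv_smul]⟩
  have hsel : ∀ j n S, toSet n = a • S →
      ((n.testBit 23 && !n.testBit 0 && pc (n &&& octC) == j) = true ↔
        (p ∈ S ∧ q ∉ S) ∧ (o ∩ S).card = j) := fun j n S hn => by
    rw [Bool.and_eq_true, Bool.and_eq_true, beq_iff_eq, pc_moved hn hao, ← testBit_moved hn hap,
      ← testBit_moved hn haq, Bool.not_eq_true', Bool.not_eq_true]; rfl
  have hcount : ∀ j, {x : Finset GolayPt | (x ∈ octads ∧ p ∈ x ∧ q ∉ x) ∧ (o ∩ x).card = j}.ncard =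
      ((cwOfWeight 8).filter fun n => n.testBit 23 && !n.testBit 0 && pc (n &&& octC) == j).length := fun j => by
    rw [← count_moved ha 8 _ _ (hsel j)]
    congr 1
    ext x
    exact and_assoc
  refine ⟨(hcount 2).trans counts.2.1, (hcount 4).trans counts.2.2, fun o' o'' h' h'' h => ?_⟩
  have fin : ∀ {j root : ℕ} {T : Tree}, (o ∩ o').card = j →
      cert gensHeptad22 [2 ^ 23, 2 ^ 0, octC] root T cwKey enc
        ((cwOfWeight 8).filter fun n => n.testBit 23 && !n.testBit 0 && pc (n &&& octC) == j) = true →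
      ∃ g : Equiv.Perm GolayPt, g ∈ M24 ∧ g p = p ∧ g q = q ∧ g • o = o ∧ g • o' = o'' :=
    fun {j root T} hj hc => by
    obtain ⟨g, hg, hfix, hfp, he⟩ := orbit_moved ha hc (hsel j) h'.1 ⟨h'.2, hj⟩ h''.1 ⟨h''.2, h ▸ hj⟩
    exact ⟨g, hg, hfp (2 ^ 23) (by simp) p none hap rfl, hfp (2 ^ 0) (by simp) q (some 0) haq rfl,
      hfix octC (by simp) o hao, he⟩
  by_cases hoo : o' = o
  · exact fin (by rw [hoo, Finset.inter_self, ho.1.2]) certHeptad228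
  · rcases CfsgLib.Sporadic.Sextets.octad_inter ho.1 h'.1 (Ne.symm hoo) with hj | hj | hj
    · exact absurd (Finset.card_eq_zero.1 hj ▸ Finset.mem_inter.2 ⟨ho.2.1, h'.2.1⟩) (Finset.notMem_empty p)
    · exact fin hj certHeptad222
    · exact fin hj certHeptad224

end Cfsg.Agent.S1605
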