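import Cfsg.Statements.S1606
import Cfsg.Agent.Lib.Sporadic.MathieuLocalCounts
import Cfsg.Agent.Lib.Sporadic.MathieuOutTwo
import Cfsg.Agent.Lib.Sporadic.M24Orbits
-- import your own Cfsg.Agent.* helpers here

set_option autoImplicit false
open scoped Pointwise
open Cfsg

namespace Cfsg.Agent.S1606

open CfsgLib.SmallGroups.Golay CfsgLib.SmallGroups.GolayOctads CfsgLib.Sporadic.M24Orbits
  CfsgLib.Sporadic.MathieuLocalCounts CfsgLib.Sporadic.MathieuOutTwo
open scoped Pointwise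

/-- Doubling. -/
def tX : List ℕ := [0, 2, 4, 6, 8, 10, 12, 14, 16, 18, 20, 22, 1, 3, 5, 7, 9, 11, 13, 15, 17, 19, 21, 23]

/-- An element of order five normalising the group of `tX`. -/
def tY : List ℕ := [0, 18, 6, 3, 2, 21, 1, 5, 16, 12, 7, 19, 8, 9, 17, 15, 13, 11, 4, 22, 10, 20, 14, 23]

/-- An element of order four squaring `tY` by conjugation. -/
def tZ : List ℕ := [0, 1, 18, 15, 6, 13, 2, 8, 10, 7, 9, 14, 21, 20, 17, 3, 5, 19, 4, 11, 16, 12, 22, 23]

/-- The iterate of a table. -/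
def iter (t : List ℕ) : ℕ → ℕ → ℕ
  | 0, i => i
  | n + 1, i => tblNat t (iter t n i)

theorem ok : okTbl tX = true ∧ okTbl tY = true ∧ okTbl tZ = true ∧
    ∀ t ∈ [tX, tY, tZ], tblNat t 23 = 23 ∧ tblNat t 0 = 0 := by decide +kernel

theorem relations : (∀ i < 24, iter tX 11 i = i) ∧ (∀ i < 24, iter tY 5 i = i) ∧
    (∀ i < 24, tblNat tY (tblNat tX i) = iter tX 3 (tblNat tY i)) ∧
    (∀ i < 24, tblNat tZ (tblNat tY i) = iter tY 2 (tblNat tZ i)) ∧
    tblNat tX 1 ≠ 1 ∧ tblNat tY 1 ≠ 1 ∧ tblNat tX (tblNat tY (tblNat tZ 1)) ≠ 1 ∧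
    ∀ i < 24, (fun j => tblNat tX (tblNat tY (tblNat tZ j)))^[7] i = i := by decide +kernel

theorem idx_pow {g : Equiv.Perm Cfsg.GolayPt} {t : List ℕ} (h : ∀ p, idx (g p) = tblNat t (idx p)) (n : ℕ)
    (p : Cfsg.GolayPt) : idx ((g ^ n) p) = iter t n (idx p) := by
  induction n with
  | zero => rfl
  | succ n ih => rw [pow_succ', Equiv.Perm.mul_apply, h, ih]; rfl

theorem normalizes {g x : Equiv.Perm Cfsg.GolayPt} {m : ℕ} (h : g * x = x ^ m * g) :
    g ∈ Subgroup.normalizer (Subgroup.zpowers x : Set (Equiv.Perm Cfsg.GolayPt)) := by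
  have hc : g * x * g⁻¹ = x ^ m := by rw [h, mul_inv_cancel_right]
  have hle : (Subgroup.zpowers x).map (MulAut.conj g).toMonoidHom ≤ Subgroup.zpowers x := by
    rw [MonoidHom.map_zpowers, Subgroup.zpowers_le]
    show g * x * g⁻¹ ∈ _
    rw [hc]; exact Subgroup.pow_mem _ (Subgroup.mem_zpowers x) m
  have he : (Subgroup.zpowers x).map (MulAut.conj g).toMonoidHom = Subgroup.zpowers x :=
    Subgroup.eq_of_le_of_card_ge hle
      (Subgroup.card_map_of_injective (MulAut.conj g).injective).ge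
  rw [Subgroup.mem_normalizer_iff]
  intro n
  constructor
  · intro hn
    exact he ▸ ⟨n, hn, rfl⟩
  · intro hn
    rw [← he] at hn
    exact (Subgroup.mem_map_iff_mem (MulAut.conj g).injective).1 hn

/-- Such a subgroup would contain too much. -/
theorem no_subgroup (L : Subgroup (Equiv.Perm Cfsg.GolayPt)) (hL : L ≤ Cfsg.Spor.M22)
    (hc : Nat.card L = 7920 ∨ Nat.card L = 2112) : False := by
  classical
  have h11 : Fact (Nat.Prime 11) := ⟨by norm_num⟩
  have h5 : Fact (Nat.Prime 5) := ⟨by norm_num⟩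
  have h7 : Fact (Nat.Prime 7) := ⟨by norm_num⟩
  have hfix : ∀ k ∈ Cfsg.Spor.M22, k none = none ∧ k (some 0) = some 0 := fun k hk => ⟨hk.1.2, hk.2⟩
  have hM : Cfsg.Spor.M22 ≤ Cfsg.M24 := fun k hk => hk.1.1
  have hne : (none : Cfsg.GolayPt) ≠ some 0 := by simp
  -- a conjugate contains the doubling
  obtain ⟨x, hxM, hx⟩ := exists_elt ok.1
  obtain ⟨y, hyM, hy⟩ := exists_elt ok.2.1
  obtain ⟨z, hzM, hz⟩ := exists_elt ok.2.2.1
  have hmem : ∀ g ∈ Cfsg.M24, ∀ t ∈ [tX, tY, tZ], (∀ p, idx (g p) = tblNat t (idx p)) → g ∈ Cfsg.Spor.M22 := by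
    intro g hg t ht he
    refine (mem_M22 g).2 ⟨hg, fun p hp => idx_injective ?_⟩
    simp only [Finset.mem_insert, Finset.mem_singleton] at hp
    rcases hp with rfl | rfl <;> rw [he]
    exacts [(ok.2.2.2 t ht).1, (ok.2.2.2 t ht).2]
  have hxG := hmem x hxM tX (by simp) hx
  have hyG := hmem y hyM tY (by simp) hy
  have hzG := hmem z hzM tZ (by simp) hz
  obtain ⟨r1, r2, r3, r4, n1, n2, n3, r7⟩ := relations
  have hone : ∀ {g : Equiv.Perm Cfsg.GolayPt} {f : ℕ → ℕ}, (∀ p, idx (g p) = f (idx p)) → f 1 ≠ 1 → g ≠ 1 := by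
    intro g f hg hf e
    subst e
    have := hg (pt 1)
    rw [Equiv.Perm.one_apply, idx_pt (by norm_num)] at this
    exact hf this.symm
  have hox : orderOf x = 11 := orderOf_eq_prime
    (Equiv.ext fun p => idx_injective (by rw [idx_pow hx, r1 _ (idx_lt p)]; rfl)) (hone hx n1)
  have hoy : orderOf y = 5 := orderOf_eq_prime
    (Equiv.ext fun p => idx_injective (by rw [idx_pow hy, r2 _ (idx_lt p)]; rfl)) (hone hy n2)
  have hyx : y * x = x ^ 3 * y := Equiv.ext fun p => idx_injective (by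
    rw [Equiv.Perm.mul_apply, Equiv.Perm.mul_apply, hy, hx, idx_pow hx, hy, r3 _ (idx_lt p)])
  have hzy : z * y = y ^ 2 * z := Equiv.ext fun p => idx_injective (by
    rw [Equiv.Perm.mul_apply, Equiv.Perm.mul_apply, hz, hy, idx_pow hy, hz, r4 _ (idx_lt p)])
  set w : Equiv.Perm Cfsg.GolayPt := x * y * z
  have hw : ∀ p, idx (w p) = tblNat tX (tblNat tY (tblNat tZ (idx p))) := fun p => by
    show idx (x (y (z p))) = _
    rw [hx, hy, hz]
  have how : orderOf w = 7 := by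
    refine orderOf_eq_prime (Equiv.ext fun p => idx_injective ?_) (hone (f := fun j => tblNat tX (tblNat tY (tblNat tZ j))) hw n3)
    have : ∀ n, idx ((w ^ n) p) = (fun j => tblNat tX (tblNat tY (tblNat tZ j)))^[n] (idx p) := by
      intro n
      induction n with
      | zero => rfl
      | succ n ih => rw [pow_succ', Equiv.Perm.mul_apply, hw, ih, Function.iterate_succ_apply']
    rw [this, r7 _ (idx_lt p)]
    rfl
  obtain ⟨g₀, hg₀⟩ : ∃ g : L, orderOf g = 11 := exists_prime_orderOf_dvd_card' 11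
    (by rcases hc with e | e <;> rw [e] <;> norm_num)
  have hog : orderOf (g₀ : Equiv.Perm Cfsg.GolayPt) = 11 := by rw [Subgroup.orderOf_coe, hg₀]
  have hs11 : ¬ 11 * 11 ∣ Nat.card L ∧ ¬ 11 * 11 ∣ Nat.card Cfsg.Spor.M22 := by
    rw [card_M22]; rcases hc with e | e <;> rw [e] <;> norm_num
  -- conjugate the element of order eleven onto the doubling
  obtain ⟨k, hk⟩ : ∃ k : Cfsg.Spor.M22, (g₀ : Equiv.Perm Cfsg.GolayPt) ∈ Subgroup.zpowers
      ((k : Equiv.Perm Cfsg.GolayPt) * x * (k : Equiv.Perm Cfsg.GolayPt)⁻¹) := by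
    let P : Subgroup Cfsg.Spor.M22 := Subgroup.zpowers ⟨x, hxG⟩
    have hP : Nat.card P = 11 := by rw [Nat.card_zpowers, ← Subgroup.orderOf_coe]; exact hox
    let R : Sylow 11 Cfsg.Spor.M22 := (IsPGroup.of_card (n := 1) (by rw [hP, pow_one]) : IsPGroup 11 P).toSylow (by
      intro hd
      refine hs11.2 ?_
      rw [← P.card_mul_index, hP]
      exact Nat.mul_dvd_mul_left 11 hd)
    let g₁ : Cfsg.Spor.M22 := ⟨g₀, hL g₀.2⟩
    have hg₁ : IsPGroup 11 (Subgroup.zpowers g₁) := IsPGroup.of_card (n := 1)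
      (by rw [Nat.card_zpowers, ← Subgroup.orderOf_coe, pow_one]; exact hog)
    obtain ⟨S, hS⟩ := hg₁.exists_le_sylow
    obtain ⟨k, hk⟩ := MulAction.exists_smul_eq Cfsg.Spor.M22 R S
    refine ⟨k, ?_⟩
    have hmem : g₁ ∈ MulAut.conj k • (P : Subgroup Cfsg.Spor.M22) := by
      have : g₁ ∈ ((k • R : Sylow 11 Cfsg.Spor.M22) : Subgroup Cfsg.Spor.M22) := by
        rw [hk]; exact hS (Subgroup.mem_zpowers g₁)
      exact this
    obtain ⟨u, ⟨i, rfl⟩, hu⟩ := hmem
    refine ⟨i, ?_⟩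
    have := congrArg Subtype.val hu
    change (k : Equiv.Perm Cfsg.GolayPt) * x ^ i * (k : Equiv.Perm Cfsg.GolayPt)⁻¹ = g₀ at this
    show ((k : Equiv.Perm Cfsg.GolayPt) * x * (k : Equiv.Perm Cfsg.GolayPt)⁻¹) ^ i = g₀
    rw [conj_zpow, this]
  set L' := L.map (MulAut.conj (k : Equiv.Perm Cfsg.GolayPt)⁻¹).toMonoidHom
  have hL' : L' ≤ Cfsg.Spor.M22 := by
    rintro _ ⟨g, hg, rfl⟩
    exact mul_mem (mul_mem (inv_mem k.2) (hL hg)) (inv_mem (inv_mem k.2))
  have hcL : Nat.card L' = Nat.card L := Subgroup.card_map_of_injective (MulEquiv.injective _)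
  have hxL : x ∈ L' := by
    obtain ⟨i, hi⟩ := hk
    have hgx : (k : Equiv.Perm Cfsg.GolayPt)⁻¹ * g₀ * k = x ^ i := by
      rw [← hi]; simp only [conj_zpow]; group
    have hmem : x ^ i ∈ L' := ⟨g₀, g₀.2, by
      show (k : Equiv.Perm Cfsg.GolayPt)⁻¹ * g₀ * (k : Equiv.Perm Cfsg.GolayPt)⁻¹⁻¹ = _
      rw [inv_inv, hgx]⟩
    have hne : x ^ i ≠ 1 := fun e => by
      rw [e, mul_assoc, inv_mul_eq_one] at hgx
      have : (g₀ : Equiv.Perm Cfsg.GolayPt) = 1 := mul_eq_right.1 hgx.symm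
      rw [this, orderOf_one] at hog
      omega
    have hz : Subgroup.zpowers (x ^ i) = Subgroup.zpowers x :=
      Subgroup.eq_of_le_of_card_ge (Subgroup.zpowers_le.2 ⟨i, rfl⟩) (by
        rw [Nat.card_zpowers, Nat.card_zpowers, hox, orderOf_eq_prime (x := x ^ i) (p := 11)
          (by rw [← zpow_natCast, ← zpow_mul, mul_comm, zpow_mul, zpow_natCast, ← hox, pow_orderOf_eq_one,
            one_zpow]) hne])
    exact Subgroup.zpowers_le.2 hmem (hz ▸ Subgroup.mem_zpowers x)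
  obtain ⟨n, hn, hn1, hn2, hn3, hn4⟩ := card_norm (hL'.trans hM) hne (fun g hg => hfix g (hL' hg)) hxL
    (Or.inr (Or.inr rfl)) hox (hcL ▸ hs11.1)
  obtain ⟨m, hm, hm1, hm2, hm3, hm4⟩ := card_norm hM hne hfix hxG (Or.inr (Or.inr rfl)) hox hs11.2
  have hnle : n ≤ 110 := Nat.le_of_dvd (by norm_num) hn2
  have hmle : m ≤ 110 := Nat.le_of_dvd (by norm_num) hm2
  rw [card_M22] at hm3 hm4
  rw [hcL] at hn3 hn4
  have hm55 : m = 55 := by interval_cases m <;> omega
  rcases hc with hc | hc <;> rw [hc] at hn3 hn4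
  swap
  · interval_cases n <;> omega
  have hn55 : n = 55 := by interval_cases n <;> omega
  have hyL : y ∈ L' := by
    have e := Subgroup.eq_of_le_of_card_ge (inf_le_inf_right _ hL') (show Nat.card ↥(Cfsg.Spor.M22 ⊓ _) ≤
      Nat.card ↥(L' ⊓ Subgroup.normalizer (Subgroup.zpowers x : Set (Equiv.Perm Cfsg.GolayPt))) by
        rw [hm, hn, hm55, hn55])
    exact (e.ge ⟨hyG, normalizes hyx⟩).1
  have hs5 : ¬ 5 * 5 ∣ Nat.card L' ∧ ¬ 5 * 5 ∣ Nat.card Cfsg.Spor.M22 := by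
    rw [hcL, hc, card_M22]; norm_num
  obtain ⟨a, ha, ha1, ha2, ha3, ha4⟩ := card_norm (hL'.trans hM) hne (fun g hg => hfix g (hL' hg)) hyL
    (Or.inl rfl) hoy hs5.1
  obtain ⟨b, hb, hb1, hb2, hb3, hb4⟩ := card_norm hM hne hfix hyG (Or.inl rfl) hoy hs5.2
  have hale : a ≤ 20 := Nat.le_of_dvd (by norm_num) ha2
  have hble : b ≤ 20 := Nat.le_of_dvd (by norm_num) hb2
  rw [card_M22] at hb3 hb4
  rw [hcL, hc] at ha3 ha4
  have hb20 : b = 20 := by interval_cases b <;> omega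
  have ha20 : a = 20 := by interval_cases a <;> omega
  have hzL : z ∈ L' := by
    have e := Subgroup.eq_of_le_of_card_ge (inf_le_inf_right _ hL') (show Nat.card ↥(Cfsg.Spor.M22 ⊓ _) ≤
      Nat.card ↥(L' ⊓ Subgroup.normalizer (Subgroup.zpowers y : Set (Equiv.Perm Cfsg.GolayPt))) by
        rw [ha, hb, ha20, hb20])
    exact (e.ge ⟨hzG, normalizes hzy⟩).1
  have hwL : w ∈ L' := mul_mem (mul_mem hxL hyL) hzL
  have h := orderOf_dvd_natCard (⟨w, hwL⟩ : L')
  rw [← Subgroup.orderOf_coe, hcL, hc] at h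
  change orderOf w ∣ 7920 at h
  rw [how] at h
  norm_num at h

/-- The stabiliser of two points in the group of the length-24 code has no subgroups of index 56 or 210. -/
theorem result (p q : Cfsg.GolayPt) (hpq : p ≠ q) (H : Subgroup ↥(MulAction.stabilizer Cfsg.M24 p ⊓ MulAction.stabilizer Cfsg.M24 q)) : H.index ≠ 56 ∧ H.index ≠ 210 := by
  classical
  obtain ⟨a, hap, haq⟩ := CfsgLib.SmallGroups.MathieuSimple.exists_two hpq
    (show (none : Cfsg.GolayPt) ≠ some 0 by simp)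
  set φ : ↥(MulAction.stabilizer Cfsg.M24 p ⊓ MulAction.stabilizer Cfsg.M24 q) →* Equiv.Perm Cfsg.GolayPt :=
    (MulAut.conj (a : Equiv.Perm Cfsg.GolayPt)).toMonoidHom.comp (Cfsg.M24.subtype.comp
      (MulAction.stabilizer Cfsg.M24 p ⊓ MulAction.stabilizer Cfsg.M24 q).subtype)
  have hφ : Function.Injective φ := (MulAut.conj (a : Equiv.Perm Cfsg.GolayPt)).injective.comp
    (Subtype.val_injective.comp Subtype.val_injective)
  have key : ∀ c, H.index = 443520 / c → c = 7920 ∨ c = 2112 → False := by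
    intro c hi hc
    refine no_subgroup (H.map φ) ?_ ?_
    · rintro _ ⟨g, -, rfl⟩
      refine (mem_M22 _).2 ⟨mul_mem (mul_mem a.2 g.1.2) (inv_mem a.2), fun r hr => ?_⟩
      simp only [Finset.mem_insert, Finset.mem_singleton] at hr
      rcases hr with rfl | rfl
      · show ((a : Equiv.Perm Cfsg.GolayPt) * (g.1 : Equiv.Perm Cfsg.GolayPt) *
          (a : Equiv.Perm Cfsg.GolayPt)⁻¹) none = none
        rw [← hap]
        show (a : Equiv.Perm Cfsg.GolayPt) ((g.1 : Equiv.Perm Cfsg.GolayPt)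
          ((a : Equiv.Perm Cfsg.GolayPt)⁻¹ ((a : Equiv.Perm Cfsg.GolayPt) p))) = (a : Equiv.Perm Cfsg.GolayPt) p
        rw [Equiv.Perm.inv_def, Equiv.symm_apply_apply]
        exact congrArg (a : Equiv.Perm Cfsg.GolayPt) g.2.1
      · show ((a : Equiv.Perm Cfsg.GolayPt) * (g.1 : Equiv.Perm Cfsg.GolayPt) *
          (a : Equiv.Perm Cfsg.GolayPt)⁻¹) (some 0) = some 0
        rw [← haq]
        show (a : Equiv.Perm Cfsg.GolayPt) ((g.1 : Equiv.Perm Cfsg.GolayPt)
          ((a : Equiv.Perm Cfsg.GolayPt)⁻¹ ((a : Equiv.Perm Cfsg.GolayPt) q))) = (a : Equiv.Perm Cfsg.GolayPt) q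
        rw [Equiv.Perm.inv_def, Equiv.symm_apply_apply]
        exact congrArg (a : Equiv.Perm Cfsg.GolayPt) g.2.2
    · rw [Subgroup.card_map_of_injective hφ]
      have h := H.card_mul_index
      rw [CfsgLib.SmallGroups.MathieuSimple.card_stab_two hpq, hi] at h
      rcases hc with rfl | rfl <;> omega
  exact ⟨fun h => key 7920 h (Or.inl rfl), fun h => key 2112 h (Or.inr rfl)⟩

end Cfsg.Agent.S1606
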