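import Cfsg.Agent.Lib.Sporadic.M24Certs
import Cfsg.Agent.Lib.Sporadic.Sextets
import Cfsg.Statements.S1607
-- import your own Cfsg.Agent.* helpers here

set_option autoImplicit false
open scoped Pointwise
open Cfsg

namespace Cfsg.Agent.S1607

open CfsgLib.SmallGroups.Golay CfsgLib.SmallGroups.GolayOctads CfsgLib.SmallGroups.M24Group
  CfsgLib.SmallGroups.Mathieu CfsgLib.Sporadic.M24Orbits CfsgLib.Sporadic.M24Config
  CfsgLib.Sporadic.M24Certs
open scoped Pointwise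

theorem counts : ((cwOfWeight 8).filter fun n => n.testBit 23 && pc (n &&& octB) == 2).length = 112 ∧
    ((cwOfWeight 8).filter fun n => n.testBit 23 && pc (n &&& octB) == 4).length = 140 := by
  decide +kernel

/-- The point stabiliser acts on the 253 heptads of its S(4, 7, 23) with rank 3 and subdegrees 1, 112, 140 (intersections 8, 2, 4). -/
theorem result (x : Cfsg.GolayPt) (o : Finset Cfsg.GolayPt) (ho : o ∈ Cfsg.octads) (hx : x ∈ o) : {o' : Finset Cfsg.GolayPt | o' ∈ Cfsg.octads ∧ x ∈ o' ∧ (o ∩ o').card = 2}.ncard = 112 ∧ {o' : Finset Cfsg.GolayPt | o' ∈ Cfsg.octads ∧ x ∈ o' ∧ (o ∩ o').card = 4}.ncard = 140 ∧ ∀ o' o'' : Finset Cfsg.GolayPt, o' ∈ Cfsg.octads → o'' ∈ Cfsg.octads → x ∈ o' → x ∈ o'' → (o ∩ o').card = (o ∩ o'').card → ∃ g : Equiv.Perm Cfsg.GolayPt, g ∈ Cfsg.M24 ∧ g x = x ∧ g • o = o ∧ g • o' = o'' := by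
  obtain ⟨a₀, ha₀, h₀⟩ := exists_to_none x
  obtain ⟨g₀, hg₀, -, hfp₀, he₀⟩ := orbit_moved ha₀ certPointA (P := fun S => x ∈ S)
    (fun n S hn => by rw [← testBit_moved hn h₀]; rfl) ho hx
    (S' := a₀⁻¹ • toSet octB) (smul_mem_weight (inv_mem ha₀) octB_mem) (by
      rw [Finset.mem_inv_smul_finset_iff, Equiv.Perm.smul_def, h₀]; decide +kernel)
  obtain ⟨a, ha, hax, hao⟩ : ∃ a ∈ M24, a x = none ∧ a • o = toSet octB :=
    ⟨a₀ * g₀, mul_mem ha₀ hg₀, by rw [Equiv.Perm.mul_apply, hfp₀ (2 ^ 23) (by simp) x none h₀ rfl, h₀],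
      by rw [mul_smul, he₀, smul_inv_smul]⟩
  have hq : ∀ j n S, toSet n = a • S →
      ((n.testBit 23 && pc (n &&& octB) == j) = true ↔ x ∈ S ∧ (o ∩ S).card = j) := fun j n S hn => by
    rw [Bool.and_eq_true, beq_iff_eq, pc_moved hn hao, ← testBit_moved hn hax]; rfl
  refine ⟨?_, ?_, fun o' o'' ho' ho'' hx' hx'' h => ?_⟩
  · exact (count_moved ha 8 _ _ (hq 2)).trans counts.1
  · exact (count_moved ha 8 _ _ (hq 4)).trans counts.2
  · have fin : ∀ {j root : ℕ} {T : Tree}, (o ∩ o').card = j →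
        cert gensHeptad [2 ^ 23, octB] root T cwKey enc
          ((cwOfWeight 8).filter fun n => n.testBit 23 && pc (n &&& octB) == j) = true →
        ∃ g : Equiv.Perm GolayPt, g ∈ M24 ∧ g x = x ∧ g • o = o ∧ g • o' = o'' := fun {j root T} hj hc => by
      obtain ⟨g, hg, hfix, hfp, he⟩ := orbit_moved ha hc (hq j) ho' ⟨hx', hj⟩ ho'' ⟨hx'', h ▸ hj⟩
      exact ⟨g, hg, hfp (2 ^ 23) (by simp) x none hax rfl, hfix octB (by simp) o hao, he⟩
    by_cases hoo : o' = o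
    · exact fin (by rw [hoo, Finset.inter_self, ho.2]) certHeptad8
    · rcases CfsgLib.Sporadic.Sextets.octad_inter ho ho' (Ne.symm hoo) with hj | hj | hj
      · exact absurd (Finset.card_eq_zero.1 hj ▸ Finset.mem_inter.2 ⟨hx, hx'⟩) (Finset.notMem_empty x)
      · exact fin hj certHeptad2
      · exact fin hj certHeptad4

end Cfsg.Agent.S1607
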