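import Cfsg.Agent.Lib.Sporadic.M24Certs
import Cfsg.Agent.Lib.Sporadic.Sextets
import Cfsg.Statements.S1608
-- import your own Cfsg.Agent.* helpers here

set_option autoImplicit false
open scoped Pointwise
open Cfsg

namespace Cfsg.Agent.S1608

open CfsgLib.SmallGroups.Golay CfsgLib.SmallGroups.GolayOctads CfsgLib.SmallGroups.M24Group
  CfsgLib.SmallGroups.Mathieu CfsgLib.Sporadic.M24Orbits CfsgLib.Sporadic.M24Config
  CfsgLib.Sporadic.M24Certs
open scoped Pointwise

/-- The base octad avoiding the extra point. -/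
def octA : ℕ := 4845570

theorem octA_mem : toSet octA ∈ octads :=
  mem_octads.2 ⟨octA, mem_cwOfWeight.2 ⟨mem_cw.2 ⟨octA % 4096, by decide, by decide +kernel⟩,
    by decide +kernel⟩, rfl⟩

theorem counts : ((cwOfWeight 8).filter fun n => !n.testBit 23 && pc (n &&& octA) == 0).length = 15 ∧
    ((cwOfWeight 8).filter fun n => !n.testBit 23 && pc (n &&& octA) == 4).length = 210 ∧
    ((cwOfWeight 8).filter fun n => !n.testBit 23 && pc (n &&& octA) == 2).length = 280 := by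
  decide +kernel

/-- The point stabiliser acts on the 506 octads avoiding the point with rank 4 and subdegrees 1, 15, 210, 280, the suborbits being given by intersection size with the fixed octad. -/
theorem result (x : Cfsg.GolayPt) (o : Finset Cfsg.GolayPt) (ho : o ∈ Cfsg.octads) (hx : x ∉ o) : {o' : Finset Cfsg.GolayPt | o' ∈ Cfsg.octads ∧ x ∉ o' ∧ (o ∩ o').card = 0}.ncard = 15 ∧ {o' : Finset Cfsg.GolayPt | o' ∈ Cfsg.octads ∧ x ∉ o' ∧ (o ∩ o').card = 4}.ncard = 210 ∧ {o' : Finset Cfsg.GolayPt | o' ∈ Cfsg.octads ∧ x ∉ o' ∧ (o ∩ o').card = 2}.ncard = 280 ∧ ∀ o' o'' : Finset Cfsg.GolayPt, o' ∈ Cfsg.octads → o'' ∈ Cfsg.octads → x ∉ o' → x ∉ o'' → (o ∩ o').card = (o ∩ o'').card → ∃ g : Equiv.Perm Cfsg.GolayPt, g ∈ Cfsg.M24 ∧ g x = x ∧ g • o = o ∧ g • o' = o'' := by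
  obtain ⟨a₀, ha₀, h₀⟩ := exists_to_none x
  obtain ⟨g₀, hg₀, -, hfp₀, he₀⟩ := orbit_moved ha₀ certPointB (P := fun S => x ∉ S)
    (fun n S hn => by rw [← testBit_moved hn h₀, Bool.not_eq_true']; exact (Bool.not_eq_true _).symm.to_iff) ho hx
    (S' := a₀⁻¹ • toSet octA) (smul_mem_weight (inv_mem ha₀) octA_mem) (by
      rw [Finset.mem_inv_smul_finset_iff, Equiv.Perm.smul_def, h₀]; decide +kernel)
  obtain ⟨a, ha, hax, hao⟩ : ∃ a ∈ M24, a x = none ∧ a • o = toSet octA :=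
    ⟨a₀ * g₀, mul_mem ha₀ hg₀, by rw [Equiv.Perm.mul_apply, hfp₀ (2 ^ 23) (by simp) x none h₀ rfl, h₀],
      by rw [mul_smul, he₀, smul_inv_smul]⟩
  have hq : ∀ j n S, toSet n = a • S →
      ((!n.testBit 23 && pc (n &&& octA) == j) = true ↔ x ∉ S ∧ (o ∩ S).card = j) := fun j n S hn => by
    rw [Bool.and_eq_true, beq_iff_eq, pc_moved hn hao, ← testBit_moved hn hax, Bool.not_eq_true',
      Bool.not_eq_true]; rfl
  refine ⟨?_, ?_, ?_, fun o' o'' ho' ho'' hx' hx'' h => ?_⟩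
  · exact (count_moved ha 8 _ _ (hq 0)).trans counts.1
  · exact (count_moved ha 8 _ _ (hq 4)).trans counts.2.1
  · exact (count_moved ha 8 _ _ (hq 2)).trans counts.2.2
  · have fin : ∀ {j root : ℕ} {T : Tree}, (o ∩ o').card = j →
        cert gensOctAvoid [2 ^ 23, octA] root T cwKey enc
          ((cwOfWeight 8).filter fun n => !n.testBit 23 && pc (n &&& octA) == j) = true →
        ∃ g : Equiv.Perm GolayPt, g ∈ M24 ∧ g x = x ∧ g • o = o ∧ g • o' = o'' := fun {j root T} hj hc => by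
      obtain ⟨g, hg, hfix, hfp, he⟩ := orbit_moved ha hc (hq j) ho' ⟨hx', hj⟩ ho'' ⟨hx'', h ▸ hj⟩
      exact ⟨g, hg, hfp (2 ^ 23) (by simp) x none hax rfl, hfix octA (by simp) o hao, he⟩
    by_cases hoo : o' = o
    · exact fin (by rw [hoo, Finset.inter_self, ho.2]) certOctAvoid8
    · rcases CfsgLib.Sporadic.Sextets.octad_inter ho ho' (Ne.symm hoo) with hj | hj | hj
      · exact fin hj certOctAvoid0
      · exact fin hj certOctAvoid2
      · exact fin hj certOctAvoid4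

end Cfsg.Agent.S1608
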