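import Cfsg.Statements.S1609
import Cfsg.Agent.Lib.Sporadic.OctadRest
-- import your own Cfsg.Agent.* helpers here

set_option autoImplicit false
open scoped Pointwise
open Cfsg

namespace Cfsg.Agent.S1609

open CfsgLib.SmallGroups.Golay CfsgLib.SmallGroups.GolayOctads CfsgLib.SmallGroups.MathieuSets
  CfsgLib.Sporadic.OctadStabilizer CfsgLib.Sporadic.IndexPoints CfsgLib.Sporadic.OctadOrbits CfsgLib.Sporadic.OctadRest
open CfsgLib.SmallGroups.MathieuSimple (card_stab_point exists_map_of_le)
open scoped Pointwise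

theorem card_heptad_stab {x : Cfsg.GolayPt} {o : Finset Cfsg.GolayPt} (ho : o ∈ Cfsg.octads) (hx : x ∈ o) :
    Nat.card ↥((MulAction.stabilizer Cfsg.M24 o).subgroupOf (MulAction.stabilizer Cfsg.M24 x)) = 40320 := by
  classical
  have horb : MulAction.orbit (octStab o) x = (o : Set Cfsg.GolayPt) := by
    ext y
    constructor
    · rintro ⟨g, rfl⟩
      exact (apply_mem_iff g.2.2 x).2 hx
    · intro hy
      obtain ⟨g, hg, e⟩ := octStab_transitive ho hx hy
      exact ⟨⟨g, hg⟩, e⟩
  have h := (MulAction.stabilizer (octStab o) x).card_mul_index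
  rw [MulAction.index_stabilizer, horb, Set.ncard_coe_finset, ho.2, card_octStab ho] at h
  have e : Nat.card ↥((MulAction.stabilizer Cfsg.M24 o).subgroupOf (MulAction.stabilizer Cfsg.M24 x)) =
      Nat.card (MulAction.stabilizer (octStab o) x) :=
    Nat.card_congr ⟨fun g => ⟨⟨g.1.1.1, g.1.1.2, g.2⟩, g.1.2⟩, fun g => ⟨⟨⟨g.1.1, g.1.2.1⟩, g.2⟩, g.1.2.2⟩,
      fun _ => rfl, fun _ => rfl⟩
  omega

theorem card_duad_stab {x : Cfsg.GolayPt} {s : Finset Cfsg.GolayPt} (hs : s.card = 2) (hx : x ∉ s) :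
    Nat.card ↥((MulAction.stabilizer Cfsg.M24 s).subgroupOf (MulAction.stabilizer Cfsg.M24 x)) = 40320 := by
  classical
  set G := MulAction.stabilizer Cfsg.M24 x
  have horb : MulAction.orbit G s = (((Finset.univ.erase x).powersetCard 2 : Finset (Finset Cfsg.GolayPt)) :
      Set (Finset Cfsg.GolayPt)) := by
    ext t
    rw [Finset.mem_coe, Finset.mem_powersetCard]
    constructor
    · rintro ⟨g, rfl⟩
      refine ⟨fun z hz => Finset.mem_erase.2 ⟨fun e => ?_, Finset.mem_univ _⟩,
        (Finset.card_smul_finset g s).trans hs⟩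
      obtain ⟨w, hw, hwz⟩ := Finset.mem_smul_finset.1 hz
      exact hx (smul_left_cancel g (hwz.trans (e.trans (MulAction.mem_stabilizer_iff.1 g.2).symm)) ▸ hw)
    · rintro ⟨ht, htc⟩
      obtain ⟨a, b, hab, rfl⟩ := Finset.card_eq_two.1 hs
      obtain ⟨c, d, hcd, rfl⟩ := Finset.card_eq_two.1 htc
      simp only [Finset.mem_insert, Finset.mem_singleton, not_or] at hx
      have hc := (Finset.mem_erase.1 (ht (Finset.mem_insert_self _ _))).1
      have hd := (Finset.mem_erase.1 (ht (Finset.mem_insert_of_mem (Finset.mem_singleton_self _)))).1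
      obtain ⟨g, hg⟩ := exists_map_of_le (n := 3) (by norm_num)
        ⟨![x, a, b], fun i j e => by fin_cases i <;> fin_cases j <;> simp_all [eq_comm]⟩
        ⟨![x, c, d], fun i j e => by fin_cases i <;> fin_cases j <;> simp_all [eq_comm]⟩
      refine ⟨⟨g, MulAction.mem_stabilizer_iff.2 (hg 0)⟩, ?_⟩
      show g • ({a, b} : Finset Cfsg.GolayPt) = {c, d}
      rw [Finset.smul_finset_insert, Finset.smul_finset_singleton, show g • a = c from hg 1, show g • b = d from hg 2]
  have e : Nat.card ↥((MulAction.stabilizer Cfsg.M24 s).subgroupOf G) = Nat.card (MulAction.stabilizer G s) :=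
    Nat.card_congr (Equiv.refl _)
  have h := (MulAction.stabilizer G s).card_mul_index
  rw [MulAction.index_stabilizer, horb, Set.ncard_coe_finset, Finset.card_powersetCard,
    Finset.card_erase_of_mem (Finset.mem_univ _), Finset.card_univ, card_golayPt, card_stab_point] at h
  rw [show Nat.choose (24 - 1) 2 = 253 from rfl] at h
  omega

/-- Subgroups of index 253 in the Mathieu group of degree 23 are exactly the duad stabilisers and the heptad stabilisers. -/
theorem result (x : Cfsg.GolayPt) (H : Subgroup ↥(MulAction.stabilizer Cfsg.M24 x)) (hH : H.index = 253) : (∃ s : Finset Cfsg.GolayPt, s.card = 2 ∧ x ∉ s ∧ H = (MulAction.stabilizer Cfsg.M24 s).subgroupOf (MulAction.stabilizer Cfsg.M24 x)) ∨ ∃ o ∈ Cfsg.octads, x ∈ o ∧ H = (MulAction.stabilizer Cfsg.M24 o).subgroupOf (MulAction.stabilizer Cfsg.M24 x) := by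
  classical
  have hcH : Nat.card H = 40320 := by
    have h := H.card_mul_index
    rw [hH, card_stab_point] at h
    omega
  set H' := (H.map (MulAction.stabilizer Cfsg.M24 x).subtype).map Cfsg.M24.subtype
  have hcard : Nat.card H' = 40320 := by
    rw [Subgroup.card_map_of_injective Cfsg.M24.subtype_injective,
      Subgroup.card_map_of_injective (Subgroup.subtype_injective _), hcH]
  have hmem : ∀ g : ↥(MulAction.stabilizer Cfsg.M24 x), g ∈ H → ((g : ↥Cfsg.M24) : Equiv.Perm Cfsg.GolayPt) ∈ H' :=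
    fun g hg => ⟨g, ⟨g, hg, rfl⟩, rfl⟩
  have hHM : H' ≤ Cfsg.M24 := Subgroup.map_subtype_le _
  have hfix : ∀ g ∈ H', g x = x := by
    rintro _ ⟨_, ⟨g, -, rfl⟩, rfl⟩
    exact g.2
  obtain ⟨o, ho, hxo, hE⟩ := exists_framed_fix hHM hfix (by rw [hcard]; norm_num)
  have hxR : x ∈ rest H' o := fixed_mem_rest hxo hfix
  by_cases h5 : 5 ≤ (rest H' o).card
  · refine Or.inr ⟨o, ho, hxo, Subgroup.eq_of_le_of_card_ge (fun g hg => ?_) (by rw [card_heptad_stab ho hxo, hcH])⟩
    exact smul_eq_of_rest ho hHM hE h5 (hmem g hg)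
  have hd := length_dvd ho hE
  rw [hcard] at hd
  have hpos : 1 ≤ (rest H' o).card := Finset.card_pos.2 ⟨x, hxR⟩
  have h34 : (rest H' o).card = 3 ∨ (rest H' o).card = 4 := by
    rcases (show (rest H' o).card = 1 ∨ (rest H' o).card = 2 ∨ (rest H' o).card = 3 ∨ (rest H' o).card = 4 by omega)
      with e | e | e | e
    · rw [e] at hd; norm_num at hd
    · rw [e] at hd; norm_num at hd
    · exact Or.inl e
    · exact Or.inr e
  rcases h34 with h3 | h4
  · have hs : ((rest H' o).erase x).card = 2 := by rw [Finset.card_erase_of_mem hxR, h3]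
    refine Or.inl ⟨(rest H' o).erase x, hs, Finset.notMem_erase _ _,
      Subgroup.eq_of_le_of_card_ge (fun g hg => ?_) (by rw [card_duad_stab hs (Finset.notMem_erase _ _), hcH])⟩
    refine Finset.eq_of_subset_of_card_le (fun z hz => ?_) (le_of_eq (Finset.card_smul_finset _ _).symm)
    obtain ⟨w, hw, rfl⟩ := Finset.mem_smul_finset.1 hz
    rw [Finset.mem_erase] at hw
    refine Finset.mem_erase.2 ⟨fun e => hw.1 ?_, rest_invariant ho hE (hmem g hg) hw.2⟩
    exact smul_left_cancel (g : ↥Cfsg.M24) (e.trans (MulAction.mem_stabilizer_iff.1 g.2).symm)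
  · exfalso
    have : Fact (Nat.Prime 7) := ⟨by norm_num⟩
    obtain ⟨g, hg⟩ := exists_prime_orderOf_dvd_card' (G := H') 7 (by rw [hcard]; norm_num)
    exact no_seven ho hHM hE h4 g.2 (by rw [Subgroup.orderOf_coe, hg])

end Cfsg.Agent.S1609
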