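import Cfsg.Agent.Lib.Sporadic.Hexacode
import Cfsg.Statements.S1610
-- import your own Cfsg.Agent.* helpers here

set_option autoImplicit false
open Cfsg

namespace Cfsg.Agent.S1610

open CfsgLib.Sporadic.Hexacode in
/-- The weight of an encoded word. -/
def wt (v : Fin 4 × Fin 4 × Fin 4) : ℕ :=
  (Finset.univ.filter fun i => word v.1 v.2.1 v.2.2 i ≠ 0).card

theorem wt_cases : ∀ v, v = (0, 0, 0) ∨ wt v = 4 ∨ wt v = 6 := by decide +kernel

theorem wt_counts : (Finset.univ.filter fun v => wt v = 4).card = 45 ∧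
    (Finset.univ.filter fun v => wt v = 6).card = 18 := by decide +kernel

/-- The hexacode has 64 words, minimum weight 4, and weight distribution 0^1 4^45 6^18. -/
theorem result (F : Type*) [Field F] [Fintype F] [DecidableEq F] (hF : Fintype.card F = 4) (ω : F) (hω : ω ^ 2 + ω + 1 = 0) : Nat.card ↥(Cfsg.hexacode F ω) = 64 ∧ (∀ x ∈ Cfsg.hexacode F ω, x ≠ 0 → (Finset.univ.filter fun i => x i ≠ 0).card = 4 ∨ (Finset.univ.filter fun i => x i ≠ 0).card = 6) ∧ {x : Fin 6 → F | x ∈ Cfsg.hexacode F ω ∧ (Finset.univ.filter fun i => x i ≠ 0).card = 4}.ncard = 45 ∧ {x : Fin 6 → F | x ∈ Cfsg.hexacode F ω ∧ (Finset.univ.filter fun i => x i ≠ 0).card = 6}.ncard = 18 := by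
  open CfsgLib.Sporadic.Hexacode in
  let dec : Fin 4 × Fin 4 × Fin 4 → Fin 6 → F := fun v => phi ω ∘ word v.1 v.2.1 v.2.2
  have hinj : Function.Injective dec := by
    intro v w h
    have h' : word v.1 v.2.1 v.2.2 = word w.1 w.2.1 w.2.2 := (phi_injective hF hω).comp_left h
    exact Prod.ext (congrFun h' 0) (Prod.ext (congrFun h' 1) (congrFun h' 2))
  have hmem : ∀ x, x ∈ hexacode F ω ↔ ∃ v, dec v = x := fun x => by
    rw [mem_iff hF hω]; simp [dec]
  have h0 : ∀ k : Fin 4, phi ω k = 0 ↔ k = 0 := fun k => by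
    conv_lhs => rw [show (0 : F) = phi ω 0 from rfl]
    exact (phi_injective hF hω).eq_iff
  have hw : ∀ v, (Finset.univ.filter fun i => dec v i ≠ 0).card = wt v := fun v => by
    unfold wt dec
    congr 1
    ext i
    simp [h0]
  have hcount : ∀ k, {x : Fin 6 → F | x ∈ hexacode F ω ∧ (Finset.univ.filter fun i => x i ≠ 0).card = k}.ncard
      = (Finset.univ.filter fun v => wt v = k).card := by
    intro k
    rw [← Set.ncard_coe_finset, ← Set.ncard_image_of_injective _ hinj]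
    congr 1
    ext x
    constructor
    · rintro ⟨hx, h⟩
      obtain ⟨v, rfl⟩ := (hmem x).1 hx
      exact ⟨v, Finset.mem_filter.2 ⟨Finset.mem_univ v, (hw v).symm.trans h⟩, rfl⟩
    · rintro ⟨v, h, rfl⟩
      exact ⟨(hmem _).2 ⟨v, rfl⟩, (hw v).trans (Finset.mem_filter.1 h).2⟩
  refine ⟨?_, fun x hx hx0 => ?_, by rw [hcount]; exact wt_counts.1, by rw [hcount]; exact wt_counts.2⟩
  · rw [← Nat.card_eq_of_bijective (fun v => (⟨dec v, (hmem _).2 ⟨v, rfl⟩⟩ : ↥(hexacode F ω)))
      ⟨fun v w h => hinj (Subtype.ext_iff.1 h),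
        fun x => ((hmem x).1 x.2).imp fun v hv => Subtype.ext hv⟩]
    simp
  · obtain ⟨v, rfl⟩ := (hmem x).1 hx
    rcases wt_cases v with rfl | h
    · exact absurd (funext fun i => by fin_cases i <;> rfl) hx0
    · rwa [hw]

end Cfsg.Agent.S1610
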