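import Cfsg.Agent.Lib.Sporadic.Hexacode
import Cfsg.Statements.S1611
-- import your own Cfsg.Agent.* helpers here

set_option autoImplicit false
open Cfsg

namespace Cfsg.Agent.S1611

open CfsgLib.Sporadic.Hexacode

/-- The encoded monomial map sends the code into itself, checked on the basis. -/
def Good (σ : Equiv.Perm (Fin 6)) (c : Fin 6 → Fin 4) : Prop :=
  InHex (monoImage σ c 1 0 0) ∧ InHex (monoImage σ c 0 1 0) ∧ InHex (monoImage σ c 0 0 1)

instance decGood (σ : Equiv.Perm (Fin 6)) (c : Fin 6 → Fin 4) : Decidable (Good σ c) := by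
  unfold Good; infer_instance

/-- A nonzero element of the encoded field. -/
def nz : Fin 3 → Fin 4 := ![1, 2, 3]

theorem nz_ne_zero : ∀ k, nz k ≠ 0 := by decide

theorem nz_surj : ∀ k : Fin 4, k ≠ 0 → ∃ j, nz j = k := by decide

/-- All multiplier vectors with first entry 1. -/
def nvec (a b c d e : Fin 3) : Fin 6 → Fin 4 := ![1, nz a, nz b, nz c, nz d, nz e]

set_option maxRecDepth 4000 in
theorem diag_kernel : ∀ a b c d e : Fin 3,
    Good 1 (nvec a b c d e) → a = 0 ∧ b = 0 ∧ c = 0 ∧ d = 0 ∧ e = 0 := by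
  decide +kernel

set_option maxRecDepth 4000 in
theorem swap_bad : ∀ a b c d e : Fin 3, ¬ Good (Equiv.swap 0 1) (nvec a b c d e) := by
  decide +kernel

set_option maxRecDepth 4000 in
theorem three_cycle_good : ∀ x y z : Fin 6, x < y → x < z → y ≠ z →
    ∃ a b c d e : Fin 3, Good (Equiv.swap x y * Equiv.swap y z) (nvec a b c d e) := by
  decide +kernel

/-- The monomial automorphism group of the hexacode has order 1080: its diagonal part is the scalars and its permutation parts form the alternating group of degree 6. -/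
theorem result (F : Type*) [Field F] [Fintype F] [DecidableEq F] (hF : Fintype.card F = 4) (ω : F) (hω : ω ^ 2 + ω + 1 = 0) : Nat.card {f : Equiv.Perm (Fin 6) × (Fin 6 → Fˣ) // (∀ x ∈ Cfsg.hexacode F ω, Cfsg.monomialMap f.1 f.2 x ∈ Cfsg.hexacode F ω)} = 1080 ∧ (∀ c : Fin 6 → Fˣ, (∀ x ∈ Cfsg.hexacode F ω, Cfsg.monomialMap 1 c x ∈ Cfsg.hexacode F ω) → ∀ i j, c i = c j) ∧ {σ : Equiv.Perm (Fin 6) | ∃ c : Fin 6 → Fˣ, (∀ x ∈ Cfsg.hexacode F ω, Cfsg.monomialMap σ c x ∈ Cfsg.hexacode F ω)} = (alternatingGroup (Fin 6) : Set (Equiv.Perm (Fin 6))) := by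
  classical
  have hinj := phi_injective hF hω
  have hone : phi ω (1 : Fin 4) = 1 := rfl
  have hzero : phi ω (0 : Fin 4) = 0 := rfl
  have hnz : ∀ k, phi ω (nz k) ≠ 0 := fun k h => by
    exact nz_ne_zero k (hinj (h.trans hzero.symm))
  -- the monomial maps of the space
  let P : Equiv.Perm (Fin 6) → (Fin 6 → Fˣ) → Prop :=
    fun σ c => ∀ x ∈ hexacode F ω, monomialMap σ c x ∈ hexacode F ω
  have hsmul : ∀ σ c (u : Fˣ), P σ c → P σ (fun i => u * c i) := by
    intro σ c u h x hx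
    have := Submodule.smul_mem (hexacode F ω) (u : F) (h x hx)
    convert this using 1
    funext i
    simp [monomialMap, mul_assoc]
  have hmul : ∀ σ τ c d, P σ c → P τ d → P (σ * τ) (fun i => c i * d (σ.symm i)) := by
    intro σ τ c d h1 h2 x hx
    have := h1 _ (h2 x hx)
    convert this using 1
    funext i
    simp [monomialMap, Equiv.Perm.mul_def, Equiv.symm_trans_apply, mul_assoc]
  -- comparison with the encoded test
  have hgood : ∀ σ (c : Fin 6 → Fˣ) (y : Fin 6 → Fin 4), (∀ i, (c i : F) = phi ω (y i)) →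
      (P σ c ↔ Good σ y) := by
    intro σ c y hy
    have himg : ∀ a b e, monomialMap σ c (phi ω ∘ word a b e) = phi ω ∘ monoImage σ y a b e := by
      intro a b e
      funext i
      simp [monomialMap, monoImage, hy, phi_mul hF hω]
    constructor
    · intro h
      have : ∀ a b e, InHex (monoImage σ y a b e) := fun a b e => by
        rw [← mem_encode_iff hF hω, ← himg]
        exact h _ ((mem_iff hF hω).2 ⟨a, b, e, rfl⟩)
      exact ⟨this _ _ _, this _ _ _, this _ _ _⟩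
    · rintro ⟨h1, h2, h3⟩ x hx
      obtain ⟨a, b, e, rfl⟩ := (mem_iff hF hω).1 hx
      have hlin : phi ω ∘ word a b e = phi ω a • (phi ω ∘ word 1 0 0)
          + phi ω b • (phi ω ∘ word 0 1 0) + phi ω e • (phi ω ∘ word 0 0 1) := by
        simp only [phi_word hF hω, hone, hzero]
        funext i
        fin_cases i <;> simp <;> ring
      have hlin2 : monomialMap σ c (phi ω ∘ word a b e) = phi ω a • monomialMap σ c (phi ω ∘ word 1 0 0)
          + phi ω b • monomialMap σ c (phi ω ∘ word 0 1 0) + phi ω e • monomialMap σ c (phi ω ∘ word 0 0 1) := by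
        rw [hlin]
        funext i
        simp [monomialMap]
        ring
      rw [hlin2, himg, himg, himg]
      refine add_mem (add_mem ?_ ?_) ?_ <;> refine Submodule.smul_mem _ _ ?_
      · exact (mem_encode_iff hF hω).2 h1
      · exact (mem_encode_iff hF hω).2 h2
      · exact (mem_encode_iff hF hω).2 h3
  have henc : ∀ u : Fˣ, ∃ k : Fin 3, (u : F) = phi ω (nz k) := by
    intro u
    obtain ⟨k, hk⟩ := (phiEquiv hF hω).surjective (u : F)
    rw [phiEquiv_apply] at hk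
    have hk0 : k ≠ 0 := fun h => u.ne_zero (by rw [← hk, h]; exact hzero)
    obtain ⟨j, hj⟩ := nz_surj k hk0
    exact ⟨j, by rw [hj, hk]⟩
  have hnorm : ∀ σ c, P σ c → ∃ a b d e f : Fin 3, Good σ (nvec a b d e f) ∧
      ∀ i, ((c 0)⁻¹ * c i : Fˣ) = (phi ω (nvec a b d e f i) : F) := by
    intro σ c h
    choose g hg using fun i => henc ((c 0)⁻¹ * c i)
    have hy : ∀ i, (((c 0)⁻¹ * c i : Fˣ) : F) = phi ω (nvec (g 1) (g 2) (g 3) (g 4) (g 5) i) := by
      intro i
      fin_cases i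
      · simp [nvec, hone]
      · exact hg 1
      · exact hg 2
      · exact hg 3
      · exact hg 4
      · exact hg 5
    exact ⟨g 1, g 2, g 3, g 4, g 5, (hgood σ _ _ hy).1 (hsmul σ c _ h), hy⟩
  have hdiag : ∀ c : Fin 6 → Fˣ, P 1 c → ∀ i, c i = c 0 := by
    intro c h i
    obtain ⟨a, b, d, e, f, hg, hy⟩ := hnorm 1 c h
    obtain ⟨rfl, rfl, rfl, rfl, rfl⟩ := diag_kernel a b d e f hg
    have : (((c 0)⁻¹ * c i : Fˣ) : F) = 1 := by rw [hy i]; fin_cases i <;> rfl
    exact (inv_mul_eq_one.1 (Units.ext this)).symm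
  have hscalar : ∀ (σ : Equiv.Perm (Fin 6)), P 1 (fun _ => 1) := fun _ x hx => by
    have he : monomialMap (1 : Equiv.Perm (Fin 6)) (fun _ => (1 : Fˣ)) x = x := by
      funext i
      simp [monomialMap, Equiv.Perm.one_def]
    rwa [he]
  -- the permutation parts
  let M : Submonoid (Equiv.Perm (Fin 6)) :=
    { carrier := {σ | ∃ c, P σ c}
      one_mem' := ⟨_, hscalar 1⟩
      mul_mem' := fun ⟨c, hc⟩ ⟨d, hd⟩ => ⟨_, hmul _ _ _ _ hc hd⟩ }
  let S : Subgroup (Equiv.Perm (Fin 6)) :=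
    { toSubmonoid := M
      inv_mem' := fun {x} hx => by
        have h1 : x⁻¹ = x ^ (orderOf x - 1) := inv_eq_of_mul_eq_one_right (by
          rw [← pow_succ', Nat.sub_add_cancel (orderOf_pos x), pow_orderOf_eq_one])
        rw [h1]
        exact M.pow_mem hx _ }
  have hAS : alternatingGroup (Fin 6) ≤ S := by
    rw [← Equiv.Perm.closure_three_cycles_eq_alternating, Subgroup.closure_le]
    intro g hg
    obtain ⟨x, hx, hmin⟩ : ∃ x ∈ g.support, ∀ y ∈ g.support, x ≤ y := by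
      have hne : g.support.Nonempty :=
        Finset.card_pos.1 (by rw [Equiv.Perm.IsThreeCycle.card_support hg]; norm_num)
      exact ⟨g.support.min' hne, g.support.min'_mem hne, fun y hy => g.support.min'_le y hy⟩
    have hxy : x ≠ g x := (Equiv.Perm.mem_support.1 hx).symm
    have hyz : g x ≠ g (g x) := fun h => hxy (g.injective h)
    have hxz : x ≠ g (g x) := by
      intro h
      have h3 : (g ^ 3) x = x := by rw [← Equiv.Perm.IsThreeCycle.orderOf hg, pow_orderOf_eq_one]; rfl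
      have h3' : g (g (g x)) = x := h3
      rw [← h] at h3'
      exact hxy h3'.symm
    have hy1 : g x ∈ g.support := Equiv.Perm.apply_mem_support.2 hx
    have hy2 : g (g x) ∈ g.support := Equiv.Perm.apply_mem_support.2 hy1
    obtain ⟨a, b, d, e, f, hgd⟩ := three_cycle_good x (g x) (g (g x))
      (lt_of_le_of_ne (hmin _ hy1) hxy) (lt_of_le_of_ne (hmin _ hy2) hxz) hyz
    rw [← (Equiv.Perm.IsThreeCycle.eq_swap_mul_swap_iff_mem_support hg).2 hx] at hgd
    refine ⟨fun i => Units.mk0 (phi ω (nvec a b d e f i)) ?_, ?_⟩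
    · fin_cases i
      · exact one_ne_zero
      all_goals exact hnz _
    · exact (hgood g _ _ fun i => rfl).2 hgd
  have hSA : ∀ σ, σ ∈ S → σ ∈ alternatingGroup (Fin 6) := by
    intro σ hσ
    rw [Equiv.Perm.mem_alternatingGroup]
    rcases Int.units_eq_one_or (Equiv.Perm.sign σ) with h | h
    · exact h
    exfalso
    have h01 : Equiv.swap (0 : Fin 6) 1 * σ ∈ S := hAS (by
      rw [Equiv.Perm.mem_alternatingGroup, map_mul, h, Equiv.Perm.sign_swap (by decide)]; decide)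
    have hsw : Equiv.swap (0 : Fin 6) 1 ∈ S := by
      simpa using S.mul_mem h01 (S.inv_mem hσ)
    obtain ⟨c, hc⟩ := hsw
    obtain ⟨a, b, d, e, f, hg, -⟩ := hnorm _ c hc
    exact swap_bad a b d e f hg
  have hset : {σ : Equiv.Perm (Fin 6) | ∃ c, P σ c} = (alternatingGroup (Fin 6) : Set (Equiv.Perm (Fin 6))) :=
    Set.ext fun σ => ⟨hSA σ, fun h => hAS h⟩
  refine ⟨?_, fun c hc i j => (hdiag c hc i).trans (hdiag c hc j).symm, hset⟩
  choose w hw using fun σ : alternatingGroup (Fin 6) => hAS σ.2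
  let Φ : alternatingGroup (Fin 6) × Fˣ →
      {f : Equiv.Perm (Fin 6) × (Fin 6 → Fˣ) // P f.1 f.2} :=
    fun p => ⟨(p.1, fun i => p.2 * w p.1 i), hsmul _ _ _ (hw p.1)⟩
  have hΦ : Function.Bijective Φ := by
    refine ⟨fun p q h => ?_, fun ⟨⟨σ, c⟩, h⟩ => ?_⟩
    · have h1 : (p.1 : Equiv.Perm (Fin 6)) = q.1 := congrArg (fun z => z.1.1) h
      have h1' : p.1 = q.1 := Subtype.ext h1
      have h2 : p.2 * w p.1 0 = q.2 * w q.1 0 := congrArg (fun z => z.1.2 0) h
      rw [h1'] at h2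
      exact Prod.ext h1' (mul_right_cancel h2)
    · have hσ : σ ∈ alternatingGroup (Fin 6) := hSA σ ⟨c, h⟩
      refine ⟨(⟨σ, hσ⟩, c 0 * (w ⟨σ, hσ⟩ 0)⁻¹), Subtype.ext (Prod.ext rfl (funext fun i => ?_))⟩
      obtain ⟨c', hc'⟩ := S.inv_mem (show σ ∈ S from ⟨c, h⟩)
      have h1 := hmul σ σ⁻¹ c c' h hc'
      have h2 := hmul σ σ⁻¹ _ c' (hw ⟨σ, hσ⟩) hc'
      rw [mul_inv_cancel] at h1
      simp only [mul_inv_cancel] at h2
      have e1 := hdiag _ h1 i
      have e2 := hdiag _ h2 i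
      show c 0 * (w ⟨σ, hσ⟩ 0)⁻¹ * w ⟨σ, hσ⟩ i = c i
      refine mul_right_cancel (b := c' (σ.symm i)) ?_
      calc c 0 * (w ⟨σ, hσ⟩ 0)⁻¹ * w ⟨σ, hσ⟩ i * c' (σ.symm i)
          = c 0 * (w ⟨σ, hσ⟩ 0)⁻¹ * (w ⟨σ, hσ⟩ i * c' (σ.symm i)) := mul_assoc _ _ _
        _ = c 0 * (w ⟨σ, hσ⟩ 0)⁻¹ * (w ⟨σ, hσ⟩ 0 * c' (σ.symm 0)) := by rw [e2]
        _ = c 0 * c' (σ.symm 0) := by rw [mul_assoc, inv_mul_cancel_left]
        _ = c i * c' (σ.symm i) := e1.symm
  change Nat.card {f : Equiv.Perm (Fin 6) × (Fin 6 → Fˣ) // P f.1 f.2} = 1080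
  rw [← Nat.card_eq_of_bijective Φ hΦ, Nat.card_prod, nat_card_alternatingGroup, Nat.card_units,
    Nat.card_eq_fintype_card (α := F), hF]
  simp [Nat.factorial]

end Cfsg.Agent.S1611
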