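import Cfsg.Statements.S1612
import Cfsg.Agent.Lib.Sporadic.FischerTransitivity
import Cfsg.Agent.Lib.ThreeTransp.SylowWidth

set_option autoImplicit false
open Cfsg CfsgLib.ThreeTransp

namespace Cfsg.Agent.S1612

/-- In a 3-transposition group (no solvable normal subgroup, perfect derived group), the normaliser of a commuting set of transpositions of maximum size contains a Sylow 2-subgroup and is doubly transitive on the set. -/
theorem result {G : Type*} [Group G] [Finite G] (hsol : ∀ N : Subgroup G, N.Normal → Group.IsSolvable ↥N → N = ⊥) (hperf : ⁅commutator G, commutator G⁆ = commutator G) {D : Set G} (hD : Cfsg.IsThreeTranspositionClass D) {E : Set G} (hE : E ⊆ D) (hc : ∀ a ∈ E, ∀ b ∈ E, Commute a b) (hmax : ∀ E' : Set G, E' ⊆ D → (∀ a ∈ E', ∀ b ∈ E', Commute a b) → E'.ncard ≤ E.ncard) : (∃ P : Sylow 2 G, (P : Subgroup G) ≤ Subgroup.normalizer E) ∧ ∀ a ∈ E, ∀ b ∈ E, ∀ c ∈ E, ∀ d ∈ E, a ≠ b → c ≠ d → ∃ g ∈ Subgroup.normalizer E, g * a * g⁻¹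 = c ∧ g * b * g⁻¹ = d := by
  haveI : Fact (Nat.Prime 2) := ⟨Nat.prime_two⟩
  have hG := Basic.class_isGroup hD
  have hp2 : IsPGroup 2 (Subgroup.closure E) :=
    SylowWidth.isPGroup_closure (fun e he => hD.1.1 e (hE he)) hc
  -- a commuting set of largest size is cut out by any 2-group containing it
  have hcut : ∀ S : Subgroup G, IsPGroup 2 S → ∀ F : Set G, F ⊆ D → F ⊆ S →
      E.ncard ≤ F.ncard → F = {d : G | d ∈ D ∧ d ∈ S} := by
    intro S hS F hF hFS hcard
    refine Set.eq_of_subset_of_ncard_le (fun d hd => ⟨hF hd, hFS hd⟩) ((hmax _ (fun d hd => hd.1)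
      fun a ha b hb => SylowWidth.commute_of_two_group hD.1 hS ha.1 hb.1 ha.2 hb.2).trans hcard)
      (Set.toFinite _)
  constructor
  · obtain ⟨P, hP⟩ := hp2.exists_le_sylow
    refine ⟨P, fun g hg => ?_⟩
    have he := hcut P P.isPGroup' E hE (fun e he => hP (Subgroup.subset_closure he)) le_rfl
    refine Subgroup.mem_set_normalizer_iff.2 fun n => ?_
    rw [he]
    simp only [Set.mem_setOf_eq]
    constructor
    · exact fun h => ⟨hG.2.1 g n h.1, (P : Subgroup G).mul_mem ((P : Subgroup G).mul_mem hg h.2)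
        ((P : Subgroup G).inv_mem hg)⟩
    · intro h
      refine ⟨?_, ?_⟩
      · simpa [mul_assoc] using hG.2.1 g⁻¹ _ h.1
      · simpa [mul_assoc] using (P : Subgroup G).mul_mem ((P : Subgroup G).mul_mem
          ((P : Subgroup G).inv_mem hg) h.2) hg
  intro a ha b hb c hc' d hd hab hcd
  obtain ⟨g, rfl⟩ := Basic.class_conj hD (hE ha) (hE hc')
  have hb' : g * b * g⁻¹ ∈ D := hG.2.1 g b (hE hb)
  have hne : g * b * g⁻¹ ≠ g * a * g⁻¹ := fun h =>
    hab (mul_left_cancel (mul_right_cancel h)).symm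
  obtain ⟨k, hk, rfl⟩ := CfsgLib.Sporadic.FischerTransitivity.exists_conj hG
    (fun a ha b hb => Basic.class_conj hD ha hb) hperf (fun N h1 h2 _ => (hsol N h1 h2).le.trans bot_le) (hE hc')
    (y := g * b * g⁻¹) (z := d)
    ⟨hb', hne, (Commute.conj_iff g).2 (hc a ha b hb)⟩
    ⟨hE hd, hcd.symm, hc _ hc' d hd⟩
  have hka : k * (g * a * g⁻¹) * k⁻¹ = g * a * g⁻¹ := by
    have : Commute (g * a * g⁻¹) k := by
      clear hd hcd
      induction hk using Subgroup.closure_induction with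
      | mem z hz => exact hz.2.2
      | one => exact Commute.one_right _
      | mul _ _ _ _ h1 h2 => exact h1.mul_right h2
      | inv _ _ h => exact h.inv_right
    rw [← this.eq, mul_assoc, mul_inv_cancel, mul_one]
  -- move the image of `E` back inside the centralizer of the pair
  set C : Subgroup G := Subgroup.centralizer {g * a * g⁻¹, k * (g * b * g⁻¹) * k⁻¹} with hC
  set h : G := k * g with hh
  have h1 : h * a * h⁻¹ = g * a * g⁻¹ := by rw [← hka, hh]; simp [mul_assoc]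
  have h2 : h * b * h⁻¹ = k * (g * b * g⁻¹) * k⁻¹ := by rw [hh]; simp [mul_assoc]
  have hEC : ∀ e ∈ E, e ∈ C := fun e he => by
    rw [hC, Subgroup.mem_centralizer_iff]
    rintro z (rfl | rfl)
    · exact (hc _ hc' e he).eq
    · exact (hc _ hd e he).eq
  have hE'C : ∀ e ∈ E, h * e * h⁻¹ ∈ C := fun e he => by
    rw [hC, Subgroup.mem_centralizer_iff]
    rintro z (rfl | rfl)
    · rw [← h1]; exact ((Commute.conj_iff h).2 (hc a ha e he)).eq
    · rw [← h2]; exact ((Commute.conj_iff h).2 (hc b hb e he)).eq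
  have hsub : ∀ F : Set G, (∀ e ∈ F, e ∈ C) → IsPGroup 2 (Subgroup.closure F) →
      IsPGroup 2 ((Subgroup.closure F).subgroupOf C) := fun F hF hp =>
    hp.of_equiv (Subgroup.subgroupOfEquivOfLe ((Subgroup.closure_le C).2 hF)).symm
  obtain ⟨Q, hQ⟩ := (hsub E hEC hp2).exists_le_sylow
  have hp2' : IsPGroup 2 (Subgroup.closure ((fun e => h * e * h⁻¹) '' E)) := by
    refine SylowWidth.isPGroup_closure ?_ ?_
    · rintro _ ⟨e, he, rfl⟩; exact hD.1.1 _ (hG.2.1 h e (hE he))
    · rintro _ ⟨e, he, rfl⟩ _ ⟨f, hf, rfl⟩; exact (Commute.conj_iff h).2 (hc e he f hf)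
  obtain ⟨t, ht⟩ := CfsgLib.Involution.Basic.exists_conj_le Q
    (hsub _ (by rintro _ ⟨e, he, rfl⟩; exact hE'C e he) hp2')
  have hQp : IsPGroup 2 ((Q : Subgroup C).map C.subtype) := Q.isPGroup'.map _
  have hEeq := hcut _ hQp E hE (fun e he =>
    ⟨⟨e, hEC e he⟩, hQ (Subgroup.subset_closure he), rfl⟩) le_rfl
  set m : G := (t : G) * h with hm
  have hmeq := hcut _ hQp ((fun e => m * e * m⁻¹) '' E)
    (by rintro _ ⟨e, he, rfl⟩; exact hG.2.1 m e (hE he))
    (by
      rintro _ ⟨e, he, rfl⟩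
      refine ⟨_, ht (x := ⟨h * e * h⁻¹, hE'C e he⟩) (Subgroup.subset_closure ⟨e, he, rfl⟩), ?_⟩
      simp [hm, mul_assoc])
    (by rw [Set.ncard_image_of_injective _ (fun x y e => mul_left_cancel (mul_right_cancel e))])
  have himg : (fun e => m * e * m⁻¹) '' E = E := hmeq.trans hEeq.symm
  have htC : ∀ z ∈ ({g * a * g⁻¹, k * (g * b * g⁻¹) * k⁻¹} : Set G), (t : G) * z * (t : G)⁻¹ = z := by
    intro z hz
    have htm := (SetLike.ext_iff.1 hC (t : G)).1 t.2

    have := Subgroup.mem_centralizer_iff.1 htm z hz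
    rw [← this, mul_assoc, mul_inv_cancel, mul_one]
  refine ⟨m, Subgroup.mem_set_normalizer_iff.2 fun n => ?_, ?_, ?_⟩
  · conv_rhs => rw [← himg]
    exact ⟨fun hn => ⟨n, hn, rfl⟩, fun ⟨e, he, hen⟩ => by
      obtain rfl : e = n := mul_left_cancel (mul_right_cancel hen)
      exact he⟩
  · rw [show m * a * m⁻¹ = (t : G) * (h * a * h⁻¹) * (t : G)⁻¹ by simp [hm, mul_assoc], h1]
    exact htC _ (Or.inl rfl)
  · rw [show m * b * m⁻¹ = (t : G) * (h * b * h⁻¹) * (t : G)⁻¹ by simp [hm, mul_assoc], h2]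
    exact htC _ (Or.inr rfl)

end Cfsg.Agent.S1612
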