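import Cfsg.Statements.S1614
import Cfsg.Agent.Lib.Sporadic.FischerNeighbourhood
import Cfsg.Agent.Lib.Sporadic.FischerOddCore
import Cfsg.Agent.S0247
-- import your own Cfsg.Agent.* helpers here

set_option autoImplicit false
open Cfsg

namespace Cfsg.Agent.S1614

/-- If the commuting transpositions of one transposition generate a solvable group, a Fischer 3-transposition group is S5, S6, PSU(4, 2) or PSU(5, 2). -/
theorem result {G : Type*} [Group G] [Finite G] (hsol : ∀ N : Subgroup G, N.Normal → Group.IsSolvable ↥N → N = ⊥) (hperf : ⁅commutator G, commutator G⁆ = commutator G) {D : Set G} (hD : Cfsg.IsThreeTranspositionClass D) (x : G) (hx : x ∈ D) (hs : Group.IsSolvable ↥(Subgroup.closure {y : G | y ∈ D ∧ y ≠ x ∧ Commute x y})) : Nonempty (G ≃* Equiv.Perm (Fin 5)) ∨ Nonempty (G ≃* Equiv.Perm (Fin 6)) ∨ ∃ (F : Type) (_ : Field F) (_ : Fintype F), Fintype.card F = 4 ∧ (Nonempty (G ≃* Cfsg.PSU 4 F 2) ∨ Nonempty (G ≃* Cfsg.PSU 5 F 2)) := by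
  have hG := CfsgLib.ThreeTransp.Basic.class_isGroup hD
  have hclass : ∀ a ∈ D, ∀ b ∈ D, ∃ g : G, g * a * g⁻¹ = b :=
    fun a ha b hb => CfsgLib.ThreeTransp.Basic.class_conj hD ha hb
  haveI : Group.IsSolvable ↥(Subgroup.closure (CfsgLib.Sporadic.FischerTransitivity.Nb D x)) := hs
  by_cases ho : Cfsg.oddCore ↥(Subgroup.closure (CfsgLib.Sporadic.FischerTransitivity.Nb D x)) ≤
      Subgroup.center ↥(Subgroup.closure (CfsgLib.Sporadic.FischerTransitivity.Nb D x))
  swap
  · exact Or.inl (CfsgLib.Sporadic.FischerOddCore.nonempty_perm_five hG hclass hperf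
      (fun N h1 h2 _ => (hsol N h1 h2).le.trans bot_le) hx ho)
  by_cases h2 : Cfsg.pCore 2 ↥(Subgroup.closure (CfsgLib.Sporadic.FischerTransitivity.Nb D x)) ≤
      Subgroup.center ↥(Subgroup.closure (CfsgLib.Sporadic.FischerTransitivity.Nb D x))
  · obtain ⟨a, ha, b, hb, hab⟩ :=
      CfsgLib.Sporadic.FischerNeighbourhood.not_abelian hG hclass hperf hsol hx
    exact absurd (CfsgLib.Sporadic.FischerNeighbourhood.commute_of_central hG x h2 ho a ha b hb) hab
  have hT := CfsgLib.Sporadic.FischerNeighbourhood.thick_of_pCore hG hclass hperf hsol hx h2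
  have hno : ¬ ∃ y ∈ D, CfsgLib.Sporadic.FischerNeighbourhood.Path D y := fun ⟨y, hy, hp⟩ =>
    CfsgLib.Sporadic.FischerNeighbourhood.path_not_solvable hG
      (CfsgLib.Sporadic.FischerNeighbourhood.path_conj hG hclass hx hy hp) inferInstance
  rcases CfsgLib.Sporadic.FischerNeighbourhood.classify hT with ⟨m, ⟨e⟩, h2m, hp⟩ | ⟨n, he, h4, hp⟩
  · obtain rfl : m = 2 := by
      have : ¬ 3 ≤ m := fun h => hno (hp h)
      omega
    obtain ⟨e'⟩ := Cfsg.Agent.S0247.result (F := ZMod 2) (ZMod.card 2)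
    exact Or.inr (Or.inl ⟨e.trans e'⟩)
  · have : ¬ 6 ≤ n := fun h => hno (hp h)
    refine Or.inr (Or.inr ⟨CfsgLib.Sporadic.FieldFour, inferInstance, inferInstance,
      CfsgLib.Sporadic.FieldFour.card_eq, ?_⟩)
    rcases (show n = 4 ∨ n = 5 by omega) with rfl | rfl
    · exact Or.inl he
    · exact Or.inr he

end Cfsg.Agent.S1614
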