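import Cfsg.Statements.S1618
import Cfsg.Agent.Lib.Involution.ZStar.Main
import Cfsg.Agent.Lib.Involution.ZStar.Corollaries

set_option autoImplicit false
open Cfsg
open scoped commutatorElement

namespace Cfsg.Agent.S1618

/-- A group generated by a class of involutions whose pairwise products (of distinct members) have p-power order for a fixed odd prime p has nilpotent derived subgroup. -/
theorem result {G : Type*} [Group G] [Finite G] (p : ℕ) (hp : p.Prime) (hodd : p ≠ 2) {D : Set G} (hinv : ∀ d ∈ D, orderOf d = 2) (hconj : ∃ d ∈ D, D = conjugatesOf d) (hgen : Subgroup.closure D = ⊤) (hprod : ∀ x ∈ D, ∀ y ∈ D, x ≠ y → ∃ k : ℕ, orderOf (x * y) = p ^ k) : Group.IsNilpotent ↥(commutator G) := by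
  obtain ⟨d, hdD, hD⟩ := hconj
  have hd2 : orderOf d = 2 := hinv d hdD
  have hsq : d * d = 1 := by rw [← pow_two, ← hd2]; exact pow_orderOf_eq_one d
  have hdinv : d⁻¹ = d := inv_eq_of_mul_eq_one_right hsq
  have hmem : ∀ g : G, g * d * g⁻¹ ∈ D := fun g => by
    rw [hD]; exact isConj_iff.2 ⟨g, rfl⟩
  have hpow : ∀ g : G, ∃ k, orderOf (d * (g * d * g⁻¹)) ∣ p ^ k := by
    intro g
    by_cases h : d = g * d * g⁻¹
    · exact ⟨0, by rw [← h, hsq, orderOf_one]; exact one_dvd _⟩
    · obtain ⟨k, hk⟩ := hprod d hdD _ (hmem g) h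
      exact ⟨k, hk ▸ dvd_rfl⟩
  have hiso : Cfsg.IsIsolatedInvolution d := by
    refine ⟨hd2, fun g hc => ?_⟩
    obtain ⟨k, hk⟩ := hpow g
    have h2 : (d * (g * d * g⁻¹)) ^ 2 = 1 := by
      rw [hc.mul_pow, pow_two, pow_two, hsq, one_mul]
      simp [mul_assoc, ← mul_assoc d d, hsq]
    have h1 : d * (g * d * g⁻¹) = 1 := by
      rw [← orderOf_eq_one_iff]
      exact Nat.eq_one_of_dvd_coprimes (((Nat.coprime_primes hp Nat.prime_two).2 hodd).pow_left k) hk
        (orderOf_dvd_of_pow_eq_one h2)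
    rw [eq_inv_of_mul_eq_one_right h1, hdinv]
  set C := Subgroup.centralizer ({d} : Set G) with hC
  have hinvar : ∀ q : ℕ, q.Prime → ∃ Q : Sylow q G,
      d ∈ Subgroup.normalizer ((Q : Subgroup G) : Set G) := by
    intro q hq
    haveI := Fact.mk hq
    rcases eq_or_ne q 2 with rfl | hne
    · obtain ⟨Q, hQ⟩ := (CfsgLib.Involution.Basic.isPGroup_zpowers_of_two hd2).exists_le_sylow
      exact ⟨Q, Subgroup.le_normalizer (hQ (Subgroup.mem_zpowers d))⟩
    · obtain ⟨Q, -, hQ⟩ := CfsgLib.Involution.ZStar.exists_invariant_sylow_ge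
        (CfsgLib.Involution.ZStar.starCentral G) hiso hne (IsPGroup.of_bot (p := q) (G := G)) bot_le
      exact ⟨Q, hQ⟩
  -- the other Sylow subgroups centralize `d`
  have hcent : ∀ q : ℕ, q.Prime → q ≠ p → ¬ q ∣ C.index := by
    intro q hq hne hdvd
    haveI := Fact.mk hq
    obtain ⟨Q, hQ⟩ := hinvar q hq
    have hle : (Q : Subgroup G) ≤ C := by
      intro x hx
      rw [hC, Subgroup.mem_centralizer_singleton_iff]
      have h1 : d * x * d⁻¹ ∈ (Q : Subgroup G) := (Subgroup.mem_normalizer_iff.1 hQ x).1 hx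
      have h2 : d * (x * d * x⁻¹) ∈ (Q : Subgroup G) := by
        have h3 := (Q : Subgroup G).mul_mem h1 ((Q : Subgroup G).inv_mem hx)
        rw [hdinv] at h3
        simpa [mul_assoc] using h3
      obtain ⟨k, hk⟩ := hpow x
      obtain ⟨l, hl⟩ := Q.isPGroup' ⟨_, h2⟩
      have h4 : d * (x * d * x⁻¹) = 1 := by
        rw [← orderOf_eq_one_iff]
        exact Nat.eq_one_of_dvd_coprimes (((Nat.coprime_primes hp hq).2 (Ne.symm hne)).pow k l) hk
          (orderOf_dvd_of_pow_eq_one (by simpa using congrArg Subtype.val hl))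
      have h5 := eq_inv_of_mul_eq_one_right h4
      rw [hdinv] at h5
      exact mul_inv_eq_iff_eq_mul.1 h5
    exact Q.not_dvd_index (hdvd.trans (Subgroup.index_dvd_of_le hle))
  haveI := Fact.mk hp
  obtain ⟨P, hP⟩ := hinvar p hp
  set A := (P : Subgroup G) with hA
  have hcop : C.index.Coprime A.index := by
    refine Nat.coprime_of_dvd fun q hq h1 h2 => ?_
    by_cases e : q = p
    · exact P.not_dvd_index (e ▸ h2)
    · exact hcent q hq e h1
  have h1 : (C ⊓ A).index = C.relIndex A * A.index := by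
    rw [← Subgroup.inf_relIndex_right, Subgroup.relIndex_mul_index inf_le_right]
  have h2 : (C ⊓ A).index = A.relIndex C * C.index := by
    rw [inf_comm, ← Subgroup.inf_relIndex_right, Subgroup.relIndex_mul_index inf_le_right]
  have hdvd : C.index ∣ C.relIndex A :=
    hcop.dvd_of_dvd_mul_right ⟨A.relIndex C, by rw [← h1, h2]; ring⟩
  let f : A ⧸ C.subgroupOf A → G ⧸ C := Quotient.lift (fun a : A => ((a : G) : G ⧸ C))
    fun a b h => by
      have h' := QuotientGroup.leftRel_apply.1 h
      exact QuotientGroup.eq.2 (by simpa [Subgroup.mem_subgroupOf] using h')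
  have hinj : Function.Injective f := by
    intro x y
    induction x using QuotientGroup.induction_on with
    | _ a =>
      induction y using QuotientGroup.induction_on with
      | _ b =>
        intro h
        refine QuotientGroup.eq.2 ?_
        simpa [Subgroup.mem_subgroupOf] using QuotientGroup.eq.1 (show ((a : G) : G ⧸ C) = (b : G) from h)
  have hle : Nat.card (G ⧸ C) ≤ Nat.card (A ⧸ C.subgroupOf A) := by
    rw [← Subgroup.index_eq_card, ← Subgroup.index_eq_card]
    exact Nat.le_of_dvd (Nat.pos_of_ne_zero Subgroup.index_ne_zero_of_finite) hdvd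
  have hsurj : Function.Surjective f := (hinj.bijective_of_nat_card_le hle).2
  -- every member differs from `d` by an element of the Sylow subgroup
  have hDP : ∀ g : G, g * d * g⁻¹ ∈ A ⊔ Subgroup.zpowers d := by
    intro g
    obtain ⟨x, hx⟩ := hsurj (g : G ⧸ C)
    induction x using QuotientGroup.induction_on with
    | _ a =>
      have hc : (a : G)⁻¹ * g ∈ C := QuotientGroup.eq.1 (show ((a : G) : G ⧸ C) = g from hx)
      have e : g * d * g⁻¹ = (a : G) * d * (a : G)⁻¹ := by
        rw [hC, Subgroup.mem_centralizer_singleton_iff] at hc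
        calc g * d * g⁻¹ = (a : G) * ((a : G)⁻¹ * g * d) * g⁻¹ := by simp [mul_assoc]
          _ = (a : G) * d * (a : G)⁻¹ := by rw [hc]; simp [mul_assoc]
      rw [e]
      exact Subgroup.mul_mem _ (Subgroup.mul_mem _ (le_sup_left (α := Subgroup G) a.2)
        (le_sup_right (α := Subgroup G) (Subgroup.mem_zpowers d)))
        (Subgroup.inv_mem _ (le_sup_left (α := Subgroup G) a.2))
  have htop : A ⊔ Subgroup.zpowers d = ⊤ := by
    rw [eq_top_iff, ← hgen, Subgroup.closure_le]
    intro x hx
    rw [hD] at hx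
    obtain ⟨g, rfl⟩ := isConj_iff.1 hx
    exact hDP g
  haveI hAn : A.Normal := by
    refine Subgroup.normalizer_eq_top_iff.1 (top_le_iff.1 ?_)
    rw [← htop]
    exact sup_le Subgroup.le_normalizer (Subgroup.zpowers_le.2 hP)
  have hle' : commutator G ≤ A := by
    rw [commutator_def, Subgroup.commutator_le]
    have hz : ∀ g : G, (g : G ⧸ A) ∈ Subgroup.zpowers (d : G ⧸ A) := by
      intro g
      have hg : g ∈ A ⊔ Subgroup.zpowers d := htop ▸ Subgroup.mem_top g
      refine (sup_le ?_ ?_ : A ⊔ Subgroup.zpowers d ≤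
        (Subgroup.zpowers (d : G ⧸ A)).comap (QuotientGroup.mk' A)) hg
      · intro a ha
        rw [Subgroup.mem_comap, QuotientGroup.mk'_apply, (QuotientGroup.eq_one_iff a).2 ha]
        exact Subgroup.one_mem _
      · rw [Subgroup.zpowers_le]
        exact Subgroup.mem_zpowers _
    intro g _ h _
    rw [← QuotientGroup.eq_one_iff, ← QuotientGroup.mk'_apply, map_commutatorElement,
      commutatorElement_eq_one_iff_mul_comm]
    obtain ⟨i, hi⟩ := hz g
    obtain ⟨j, hj⟩ := hz h
    show (g : G ⧸ A) * (h : G ⧸ A) = (h : G ⧸ A) * (g : G ⧸ A)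
    rw [← hi, ← hj]
    exact ((Commute.refl _).zpow_zpow i j).eq
  exact (P.isPGroup'.to_le hle').isNilpotent

end Cfsg.Agent.S1618
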