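import Cfsg.Statements.S1620
import Cfsg.Agent.Lib.Sporadic.Icosian.Group

set_option autoImplicit false
open Quaternion
open Cfsg

namespace Cfsg.Agent.S1620

/-- The Hall–Janko group is simple and non-abelian. -/
theorem result : IsSimpleGroup Cfsg.Spor.J2 ∧ ∃ a b : Cfsg.Spor.J2, a * b ≠ b * a := by
  open CfsgLib.Sporadic.Icosian in
  haveI := J_simple
  obtain ⟨a, b, h⟩ := J_not_comm
  exact ⟨equivJ.isSimpleGroup, equivJ.symm a, equivJ.symm b, fun e => h (equivJ.symm.injective (by simpa using e))⟩

end Cfsg.Agent.S1620
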