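import Cfsg.Statements.S1621
import Cfsg.Agent.Lib.Sporadic.Icosian.Group

set_option autoImplicit false
open Quaternion
open Cfsg

namespace Cfsg.Agent.S1621

/-- The icosian Leech lattice has 37800 minimal vectors giving 315 distinct reflections. -/
theorem result : {r : Fin 3 → ℍ[ℝ] | r ∈ Cfsg.Spor.icoLeech ∧ Cfsg.Spor.qip r r = 4}.ncard = 37800 ∧ {f : Equiv.Perm ↥Cfsg.Spor.icoLeech | Cfsg.Spor.IsIcoReflection f}.ncard = 315 := by
  open CfsgLib.Sporadic.Icosian in
  refine ⟨card_minVectors, ?_⟩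
  have h : {f : Equiv.Perm ↥Cfsg.Spor.icoLeech | Cfsg.Spor.IsIcoReflection f} = Set.range refl :=
    Set.ext fun f => ⟨fun hf => (refl_cases hf).imp fun _ e => e.symm, by rintro ⟨i, rfl⟩; exact isRefl i⟩
  have hinj : Function.Injective refl := fun i j e => invol_injective (by
    rw [← toJ_refl i, ← toJ_refl j]
    simp only [e])
  rw [h, ← Nat.card_coe_set_eq, Nat.card_range_of_injective hinj, Nat.card_eq_fintype_card, Fintype.card_fin]

end Cfsg.Agent.S1621
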