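import Cfsg.Agent.Lib.PGroup.LatticeTheta

set_option autoImplicit false
open Matrix

namespace Cfsg.Agent.S1632

open CfsgLib.PGroup.LatticeTheta UpperHalfPlane ModularForm MatrixGroups EisensteinSeries
open scoped ArithmeticFunction.sigma

lemma count_values {B : Matrix (Fin 24) (Fin 24) ℤ} (h : Good B) (h2 : count B 1 = 0) :
    count B 2 = 196560 ∧ count B 3 = 16773120 ∧ count B 4 = 398034000 := by
  set F : ModularForm 𝒮ℒ ((12 : ℕ) : ℤ) := ModularForm.mcast (by norm_num) (thetaForm h)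
  set P : ModularForm 𝒮ℒ ((12 : ℕ) : ℤ) := ModularForm.mcast (by norm_num) (E₄.pow 3)
  set R : ModularForm 𝒮ℒ ((12 : ℕ) : ℤ) := ModularForm.mcast (by norm_num) (E₆.pow 2)
  set g : ModularForm 𝒮ℒ ((12 : ℕ) : ℤ) := F - (7 / 12 : ℂ) • P - (5 / 12 : ℂ) • R with hg_def
  have hq : qExpansion 1 g = qExpansion 1 (thetaForm h) -
      (7 / 12 : ℂ) • (qExpansion 1 E₄ * qExpansion 1 E₄ * qExpansion 1 E₄) -
      (5 / 12 : ℂ) • (qExpansion 1 E₆ * qExpansion 1 E₆) := by
    rw [hg_def, FunLike.coe_sub, ModularForm.qExpansion_sub one_pos one_mem_strictPeriods_SL,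
      FunLike.coe_sub, ModularForm.qExpansion_sub one_pos one_mem_strictPeriods_SL,
      FunLike.coe_smul, ModularForm.qExpansion_smul one_pos one_mem_strictPeriods_SL,
      FunLike.coe_smul, ModularForm.qExpansion_smul one_pos one_mem_strictPeriods_SL]
    simp only [F, P, R, coe_mcast, ModularForm.qExpansion_pow one_pos one_mem_strictPeriods_SL]
    ring_nf
  have h0 : count B 0 = 1 := by
    rw [count, Set.ncard_eq_one]
    refine ⟨0, Set.ext fun x => ⟨fun hx => ?_, fun hx => by simp [Set.mem_singleton_iff.1 hx, Q]⟩⟩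
    by_contra hne
    exact (h.pos x hne).ne' (by simpa using hx)
  have hc4 : ∀ m, (qExpansion 1 E₄).coeff m = if m = 0 then 1 else 240 * (σ 3 m : ℂ) := fun m => by
    rw [E_qExpansion_coeff _ ⟨2, rfl⟩]
    split <;> norm_num [show bernoulli 4 = -1 / 30 by decide +kernel]
  have hc6 : ∀ m, (qExpansion 1 E₆).coeff m = if m = 0 then 1 else -504 * (σ 5 m : ℂ) := fun m => by
    rw [E_qExpansion_coeff _ ⟨3, rfl⟩]
    split <;> norm_num [show bernoulli 6 = 1 / 42 by decide +kernel]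
  have hcg : ∀ m, (qExpansion 1 g).coeff m = (count B m : ℂ) -
      (7 / 12 : ℂ) * (qExpansion 1 E₄ * qExpansion 1 E₄ * qExpansion 1 E₄).coeff m -
      (5 / 12 : ℂ) * (qExpansion 1 E₆ * qExpansion 1 E₆).coeff m := fun m => by
    rw [hq, map_sub, map_sub, PowerSeries.coeff_smul, PowerSeries.coeff_smul, thetaForm_coeff h,
      smul_eq_mul, smul_eq_mul]
  have hlow : ∀ i < 2, (qExpansion 1 g).coeff i = 0 := by
    intro i hi
    rw [hcg]
    interval_cases i <;>
      norm_num [PowerSeries.coeff_mul, Finset.Nat.antidiagonal_succ, hc4, hc6, h0, h2,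
        -PowerSeries.coeff_zero_eq_constantCoeff]
  have hg0 : g = 0 := sturm_bound_levelOne_nat (lt_of_lt_of_le (by norm_num)
    (PowerSeries.nat_le_order _ 2 hlow))
  have hz : ∀ m, (qExpansion 1 g).coeff m = 0 := fun m => by
    rw [(ModularForm.qExpansion_eq_zero_iff one_pos one_mem_strictPeriods_SL g).2 hg0, map_zero]
  refine ⟨?_, ?_, ?_⟩ <;> rw [← Nat.cast_inj (R := ℂ)]
  · have := hz 2
    rw [hcg] at this
    norm_num [PowerSeries.coeff_mul, Finset.Nat.antidiagonal_succ, hc4, hc6,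
      -PowerSeries.coeff_zero_eq_constantCoeff, show σ 3 2 = 9 by decide +kernel,
      show σ 5 2 = 33 by decide +kernel] at this ⊢
    linear_combination this
  · have := hz 3
    rw [hcg] at this
    norm_num [PowerSeries.coeff_mul, Finset.Nat.antidiagonal_succ, hc4, hc6,
      -PowerSeries.coeff_zero_eq_constantCoeff, show σ 3 2 = 9 by decide +kernel,
      show σ 5 2 = 33 by decide +kernel, show σ 3 3 = 28 by decide +kernel,
      show σ 5 3 = 244 by decide +kernel] at this ⊢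
    linear_combination this
  · have := hz 4
    rw [hcg] at this
    norm_num [PowerSeries.coeff_mul, Finset.Nat.antidiagonal_succ, hc4, hc6,
      -PowerSeries.coeff_zero_eq_constantCoeff, show σ 3 2 = 9 by decide +kernel,
      show σ 5 2 = 33 by decide +kernel, show σ 3 3 = 28 by decide +kernel,
      show σ 5 3 = 244 by decide +kernel, show σ 3 4 = 73 by decide +kernel,
      show σ 5 4 = 1057 by decide +kernel] at this ⊢
    linear_combination this

/-- An even unimodular lattice of rank 24 without roots has 196560, 16773120 and 398034000 vectors of norms 4, 6 and 8. -/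
theorem result (B : Matrix (Fin 24) (Fin 24) ℤ) (hsymm : B.IsSymm) (hpos : ∀ x : Fin 24 → ℤ, x ≠ 0 → 0 < x ⬝ᵥ (B *ᵥ x)) (heven : ∀ x : Fin 24 → ℤ, (2 : ℤ) ∣ x ⬝ᵥ (B *ᵥ x)) (hdet : B.det = 1) (h2 : ∀ x : Fin 24 → ℤ, x ⬝ᵥ (B *ᵥ x) ≠ 2) : {x : Fin 24 → ℤ | x ⬝ᵥ (B *ᵥ x) = 4}.ncard = 196560 ∧ {x : Fin 24 → ℤ | x ⬝ᵥ (B *ᵥ x) = 6}.ncard = 16773120 ∧ {x : Fin 24 → ℤ | x ⬝ᵥ (B *ᵥ x) = 8}.ncard = 398034000 := by
  have h : Good B := ⟨hsymm, hpos, heven, hdet⟩
  have h1 : count B 1 = 0 := by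
    rw [count, Set.ncard_eq_zero (h.finite_shell 1), Set.eq_empty_iff_forall_notMem]
    intro x hx
    exact h2 x (by simpa [Q] using hx)
  obtain ⟨a, b, c⟩ := count_values h h1
  simp only [count, Q, Nat.cast_ofNat, Int.reduceMul] at a b c
  exact ⟨a, b, c⟩

end Cfsg.Agent.S1632
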