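import Cfsg.Agent.Lib.Sporadic.Sextets
import Cfsg.Statements.S1635
-- import your own Cfsg.Agent.* helpers here

set_option autoImplicit false
open Cfsg

namespace Cfsg.Agent.S1635

/-- Coset leaders of the length-24 code: a coset contains a unique word of weight ≤ 3, or else exactly six words of weight 4 and none lighter. -/
theorem result (w : Cfsg.GolayPt → ZMod 2) : ({v : Cfsg.GolayPt → ZMod 2 | hammingNorm v ≤ 4 ∧ w - v ∈ Cfsg.golayCode}.ncard = 1 ∧ ∃ v : Cfsg.GolayPt → ZMod 2, hammingNorm v ≤ 3 ∧ w - v ∈ Cfsg.golayCode) ∨ ({v : Cfsg.GolayPt → ZMod 2 | hammingNorm v ≤ 4 ∧ w - v ∈ Cfsg.golayCode}.ncard = 6 ∧ ∀ v : Cfsg.GolayPt → ZMod 2, w - v ∈ Cfsg.golayCode → hammingNorm v ≤ 4 → hammingNorm v = 4) := by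
  classical
  open CfsgLib.Sporadic.Sextets in
  obtain ⟨v₀, hv₀, hc₀⟩ := exists_leader w
  have hdiff : ∀ v, w - v ∈ golayCode → v₀ - v ∈ golayCode := fun v h => by
    simpa using sub_mem h hc₀
  have hn : ∀ v : GolayPt → ZMod 2, hammingNorm v = (support₂ v).card := fun _ => rfl
  open CfsgLib.Sporadic.Sextets in
  by_cases h3 : (support₂ v₀).card ≤ 3
  · refine Or.inl ⟨?_, v₀, h3, hc₀⟩
    rw [Set.ncard_eq_one]
    refine ⟨v₀, Set.eq_singleton_iff_unique_mem.2 ⟨⟨hv₀, hc₀⟩, fun v ⟨hv, hc⟩ => ?_⟩⟩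
    by_contra hne
    have := (congruent_leaders (hdiff v hc) (Ne.symm hne) hv₀ (hn v ▸ hv)).1
    omega
  · have h4 : (support₂ v₀).card = 4 := by omega
    refine Or.inr ⟨?_, fun v hc hv => ?_⟩
    · have hset : {v : GolayPt → ZMod 2 | hammingNorm v ≤ 4 ∧ w - v ∈ golayCode}
          = ↑((sextetOf (support₂ v₀)).image chi) := by
        ext v
        simp only [Set.mem_ofPred_eq, Finset.coe_image, Set.mem_image, Finset.mem_coe]
        constructor
        · rintro ⟨hv, hc⟩
          by_cases he : v₀ = v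
          · exact ⟨_, Finset.mem_insert_self _ _, (chi_support₂ v₀).trans he⟩
          · exact ⟨_, (congruent_leaders (hdiff v hc) he hv₀ (hn v ▸ hv)).2.2, chi_support₂ v⟩
        · rintro ⟨t, ht, rfl⟩
          refine ⟨by rw [hn, support₂_chi]; exact ((sextetOf_mem h4).2.1 t ht).le, ?_⟩
          have h := congruent_of_sextet (sextetOf_mem h4) (Finset.mem_insert_self _ _) ht
          rw [chi_support₂] at h
          simpa using add_mem hc₀ h
      rw [hset, Set.ncard_coe_finset, Finset.card_image_of_injective _ (fun a b e => by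
        rw [← support₂_chi a, e, support₂_chi]), (sextetOf_mem h4).1]
    · by_cases he : v₀ = v
      · rw [hn, ← he]; exact h4
      · rw [hn]; exact (congruent_leaders (hdiff v hc) he hv₀ (hn v ▸ hv)).2.1

end Cfsg.Agent.S1635
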