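import Cfsg.Agent.Lib.Sporadic.Sextets
import Cfsg.Statements.S1636
-- import your own Cfsg.Agent.* helpers here

set_option autoImplicit false
open Cfsg

namespace Cfsg.Agent.S1636

open CfsgLib.SmallGroups.Golay CfsgLib.Sporadic.Sextets

/-- Restriction to the 23 residues. -/
def res (w : GolayPt → ZMod 2) : ZMod 23 → ZMod 2 := fun x => w (some x)

theorem setOf_res : {u : ZMod 23 → ZMod 2 | ∃ w ∈ golayCode, ∀ x : ZMod 23, u x = w (some x)}
    = res '' (golayCode : Set (GolayPt → ZMod 2)) := by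
  ext u
  exact ⟨fun ⟨w, hw, h⟩ => ⟨w, hw, funext fun x => (h x).symm⟩, fun ⟨w, hw, h⟩ => ⟨w, hw, fun x => by
    rw [← h]; rfl⟩⟩

theorem norm_res (w : GolayPt → ZMod 2) :
    (hammingNorm (res w) + if w none ≠ 0 then 1 else 0) = (support₂ w).card := by
  classical
  have h : (support₂ w).erase none = (Finset.univ.filter fun x : ZMod 23 => w (some x) ≠ 0).map
      ⟨some, Option.some_injective _⟩ := by
    ext p
    cases p <;> simp [support₂]
  have hc := congrArg Finset.card h
  rw [Finset.card_map] at hc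
  have hm : none ∈ support₂ w ↔ w none ≠ 0 := by simp [support₂]
  show (Finset.univ.filter fun x : ZMod 23 => w (some x) ≠ 0).card + _ = _
  rw [← hc]
  split
  · next h0 => exact Finset.card_erase_add_one (hm.2 h0)
  · next h0 => rw [Finset.erase_eq_of_notMem (fun hh => h0 (hm.1 hh))]; rfl

theorem res_small {w : GolayPt → ZMod 2} (hw : w ∈ golayCode) (h : hammingNorm (res w) < 7) : w = 0 :=
  small_weight_zero hw (by rw [← norm_res w]; split <;> omega)

theorem res_injOn : Set.InjOn res (golayCode : Set (GolayPt → ZMod 2)) := by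
  intro v hv w hw h
  refine sub_eq_zero.1 (res_small (sub_mem hv hw) ?_)
  have h0 : res (v - w) = 0 := funext fun x => by
    show v (some x) - w (some x) = 0
    rw [show v (some x) = w (some x) from congrFun h x, sub_self]
  simp [h0]

/-- The mask of the 23 residues. -/
def low : ℕ := 8388607

theorem norm_word (n : ℕ) : hammingNorm (res (word n)) = pc (n &&& low) := by
  classical
  have h := norm_res (word (n &&& low))
  have e : res (word (n &&& low)) = res (word n) := by
    funext x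
    have hx : low.testBit (idx (some x)) = true := by
      revert x; decide +kernel
    simp [res, word, hx]
  have e2 : word (n &&& low) none = 0 := by
    have hx : low.testBit (idx none) = false := by decide +kernel
    simp [word, hx]
  rw [e, support₂_word, card_toSet, if_neg (by simp [e2])] at h
  simpa using h

theorem ncard_res_norm (k : ℕ) :
    {u : ZMod 23 → ZMod 2 | u ∈ {u : ZMod 23 → ZMod 2 | ∃ w ∈ golayCode, ∀ x : ZMod 23, u x = w (some x)} ∧
      hammingNorm u = k}.ncard = (cw.filter fun n => pc (n &&& low) == k).length := by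
  classical
  have h : {u : ZMod 23 → ZMod 2 | u ∈ {u : ZMod 23 → ZMod 2 | ∃ w ∈ golayCode, ∀ x : ZMod 23, u x = w (some x)} ∧
      hammingNorm u = k}
      = ↑((cw.filter fun n => pc (n &&& low) == k).toFinset.image fun n => res (word n)) := by
    ext u
    simp only [setOf_res, Set.mem_ofPred_eq, Set.mem_image, Finset.coe_image, Finset.mem_coe,
      List.mem_toFinset, List.mem_filter, beq_iff_eq, SetLike.mem_coe]
    constructor
    · rintro ⟨⟨w, hw, rfl⟩, hk⟩
      obtain ⟨j, hj, rfl⟩ := mem_code_iff.1 hw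
      exact ⟨_, ⟨mem_cw.2 ⟨j, hj, rfl⟩, by rw [← norm_word]; exact hk⟩, rfl⟩
    · rintro ⟨n, ⟨hn, hk⟩, rfl⟩
      obtain ⟨j, hj, rfl⟩ := mem_cw.1 hn
      exact ⟨⟨_, word_enc_mem j, rfl⟩, by rw [norm_word]; exact hk⟩
  rw [h, Set.ncard_coe_finset, Finset.card_image_of_injOn, List.toFinset_card_of_nodup (cw_nodup.filter _)]
  intro a ha b hb hab
  simp only [Finset.mem_coe, List.mem_toFinset, List.mem_filter] at ha hb
  obtain ⟨i, hi, rfl⟩ := mem_cw.1 ha.1
  obtain ⟨j, hj, rfl⟩ := mem_cw.1 hb.1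
  exact word_inj (enc_lt i hi).1 (enc_lt j hj).1 (res_injOn (word_enc_mem i) (word_enc_mem j) hab)

theorem res_counts : (cw.filter fun n => pc (n &&& low) == 7).length = 253 ∧
    (cw.filter fun n => pc (n &&& low) == 8).length = 506 ∧
    (cw.filter fun n => pc (n &&& low) == 11).length = 1288 ∧
    (cw.filter fun n => pc (n &&& low) == 12).length = 1288 ∧
    (cw.filter fun n => pc (n &&& low) == 15).length = 506 ∧
    (cw.filter fun n => pc (n &&& low) == 16).length = 253 := by
  decide +kernel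

/-- The punctured length-23 code has weight distribution 0^1 7^253 8^506 11^1288 12^1288 15^506 16^253 23^1. -/
theorem result : {u : ZMod 23 → ZMod 2 | ∃ w ∈ Cfsg.golayCode, ∀ x : ZMod 23, u x = w (some x)}.ncard = 4096 ∧ {u : ZMod 23 → ZMod 2 | u ∈ {u : ZMod 23 → ZMod 2 | ∃ w ∈ Cfsg.golayCode, ∀ x : ZMod 23, u x = w (some x)} ∧ hammingNorm u = 7}.ncard = 253 ∧ {u : ZMod 23 → ZMod 2 | u ∈ {u : ZMod 23 → ZMod 2 | ∃ w ∈ Cfsg.golayCode, ∀ x : ZMod 23, u x = w (some x)} ∧ hammingNorm u = 8}.ncard = 506 ∧ {u : ZMod 23 → ZMod 2 | u ∈ {u : ZMod 23 → ZMod 2 | ∃ w ∈ Cfsg.golayCode, ∀ x : ZMod 23, u x = w (some x)} ∧ hammingNorm u = 11}.ncard = 1288 ∧ {u : ZMod 23 → ZMod 2 | u ∈ {u : ZMod 23 → ZMod 2 | ∃ w ∈ Cfsg.golayCode, ∀ x : ZMod 23, u x = w (some x)} ∧ hammingNorm u = 12}.ncard = 1288 ∧ {u : ZMod 23 → ZMod 2 | u ∈ {u : ZMod 23 → ZMod 2 | ∃ w ∈ Cfsg.golayCode, ∀ x : ZMod 23, u x = w (some x)} ∧ hammingNorm u = 15}.ncard = 506 ∧ {u : ZMod 23 → ZMod 2 | u ∈ {u : ZMod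 23 → ZMod 2 | ∃ w ∈ Cfsg.golayCode, ∀ x : ZMod 23, u x = w (some x)} ∧ hammingNorm u = 16}.ncard = 253 ∧ ∀ u ∈ {u : ZMod 23 → ZMod 2 | ∃ w ∈ Cfsg.golayCode, ∀ x : ZMod 23, u x = w (some x)}, u ≠ 0 → 7 ≤ hammingNorm u := by
  refine ⟨?_, by rw [ncard_res_norm]; exact res_counts.1, by rw [ncard_res_norm]; exact res_counts.2.1,
    by rw [ncard_res_norm]; exact res_counts.2.2.1, by rw [ncard_res_norm]; exact res_counts.2.2.2.1,
    by rw [ncard_res_norm]; exact res_counts.2.2.2.2.1, by rw [ncard_res_norm]; exact res_counts.2.2.2.2.2,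
    fun u hu hu0 => ?_⟩
  · rw [setOf_res, Set.ncard_image_of_injOn res_injOn]
    show Nat.card golayCode = 4096
    rw [Module.natCard_eq_pow_finrank (K := ZMod 2) (V := golayCode), finrank_code, Nat.card_zmod]
    norm_num
  · rw [setOf_res] at hu
    obtain ⟨w, hw, rfl⟩ := hu
    by_contra hlt
    exact hu0 (by rw [res_small hw (not_le.1 hlt)]; rfl)

end Cfsg.Agent.S1636
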