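import Cfsg.Agent.S1636
import Cfsg.Statements.S1637
-- import your own Cfsg.Agent.* helpers here

set_option autoImplicit false
open Cfsg

namespace Cfsg.Agent.S1637

/-- The punctured length-23 code is a perfect 3-error-correcting code: each word of length 23 is within distance 3 of exactly one codeword. -/
theorem result (u : ZMod 23 → ZMod 2) : ∃! c : ZMod 23 → ZMod 2, c ∈ {u : ZMod 23 → ZMod 2 | ∃ w ∈ Cfsg.golayCode, ∀ x : ZMod 23, u x = w (some x)} ∧ hammingDist u c ≤ 3 := by
  classical
  open CfsgLib.Sporadic.Sextets Cfsg.Agent.S1636 in
  let w : GolayPt → ZMod 2 := fun p => p.elim 0 u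
  open CfsgLib.Sporadic.Sextets Cfsg.Agent.S1636 in
  have key : ∃ v : GolayPt → ZMod 2, w - v ∈ golayCode ∧ hammingNorm (res v) ≤ 3 := by
    obtain ⟨v, hv, hc⟩ := exists_leader w
    by_cases h4 : (support₂ v).card = 4
    · have hS := sextetOf_mem h4
      have hcover : (sextetOf (support₂ v)).biUnion id = Finset.univ := by
        apply Finset.eq_univ_of_card
        rw [Finset.card_biUnion (t := id) (fun a ha b hb hab => sextet_disjoint hS ha hb hab),
          Finset.sum_const_nat (m := 4) (f := fun a => (id a).card) (fun a ha => hS.2.1 a ha), hS.1,
          CfsgLib.SmallGroups.GolayOctads.card_golayPt]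
      have hn : (none : GolayPt) ∈ (sextetOf (support₂ v)).biUnion id := by
        rw [hcover]; exact Finset.mem_univ _
      obtain ⟨t, ht, hnt⟩ := Finset.mem_biUnion.1 hn
      refine ⟨chi t, ?_, ?_⟩
      · have h := congruent_of_sextet hS (Finset.mem_insert_self _ _) ht
        rw [chi_support₂] at h
        simpa using add_mem hc h
      · have h := norm_res (chi t)
        rw [support₂_chi, hS.2.1 t ht, if_pos (by simp [chi, show (none : GolayPt) ∈ t from hnt])] at h
        omega
    · exact ⟨v, hc, by have := norm_res v; omega⟩
  obtain ⟨v, hc, hv⟩ := key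
  open Cfsg.Agent.S1636 in
  refine ⟨res (w - v), ⟨⟨w - v, hc, fun _ => rfl⟩, ?_⟩, ?_⟩
  · rw [hammingDist_eq_hammingNorm]
    convert hv using 1
    congr 1
    funext x
    simp [res, w]
    generalize u x = a
    generalize v (some x) = b
    revert a b
    decide
  · rintro c ⟨⟨z, hz, hcz⟩, hd⟩
    open Cfsg.Agent.S1636 in
    have hcr : c = res z := funext hcz
    open Cfsg.Agent.S1636 in
    have e : z - (w - v) = 0 := by
      refine res_small (sub_mem hz hc) ?_
      have h1 : hammingDist c u ≤ 3 := by rwa [hammingDist_comm]
      have h2 : hammingDist u (res (w - v)) ≤ 3 := by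
        rw [hammingDist_eq_hammingNorm]
        convert hv using 1
        congr 1
        funext x
        simp [res, w]
        generalize u x = a
        generalize v (some x) = b
        revert a b
        decide
      have h3 := hammingDist_triangle c u (res (w - v))
      have h4 : hammingDist c (res (w - v)) = hammingNorm (res (z - (w - v))) := by
        rw [hammingDist_eq_hammingNorm, hcr]
        congr 1
        funext x
        show -(z (some x)) + (w (some x) - v (some x)) = z (some x) - (w (some x) - v (some x))
        generalize z (some x) = a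
        generalize w (some x) - v (some x) = b
        revert a b
        decide
      omega
    rw [hcr, sub_eq_zero.1 e]

end Cfsg.Agent.S1637
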