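import Cfsg.Agent.Lib.Sporadic.M24Certs
import Cfsg.Statements.S1638
-- import your own Cfsg.Agent.* helpers here

set_option autoImplicit false
open scoped Pointwise
open Cfsg

namespace Cfsg.Agent.S1638

open CfsgLib.SmallGroups.Golay CfsgLib.SmallGroups.GolayOctads CfsgLib.SmallGroups.M24Group
  CfsgLib.SmallGroups.Mathieu CfsgLib.Sporadic.M24Orbits CfsgLib.Sporadic.M24Config
  CfsgLib.Sporadic.M24Certs
open scoped Pointwise

/-- The base duad. -/
def duB : ℕ := 20480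

/-- The two fixed points with the base duad. -/
def quadB : ℕ := 8409089

theorem counts :
    ((sets 24 2).filter fun n => n &&& 8388609 == 0 && pc (n &&& duB) == 0 && inOctad quadB n).length = 30 ∧
    ((sets 24 2).filter fun n => n &&& 8388609 == 0 && pc (n &&& duB) == 0 && !inOctad quadB n).length = 160 := by
  decide +kernel

/-- Fix two points p ≠ q and a pair s of two further points. Among the pairs avoiding p, q and disjoint from s, exactly 30 lie in an octad together with p, q and s and exactly 160 do not; and any two pairs other than s that meet s in equally many points and agree on that octad property are carried to one another by an element of the group of the length-24 code fixing p, q and s. -/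
theorem result (p q : Cfsg.GolayPt) (hpq : p ≠ q) (s : Finset Cfsg.GolayPt) (hs : (s.card = 2 ∧ p ∉ s ∧ q ∉ s)) : {t : Finset Cfsg.GolayPt | (t.card = 2 ∧ p ∉ t ∧ q ∉ t) ∧ Disjoint s t ∧ (∃ o ∈ Cfsg.octads, p ∈ o ∧ q ∈ o ∧ s ∪ t ⊆ o)}.ncard = 30 ∧ {t : Finset Cfsg.GolayPt | (t.card = 2 ∧ p ∉ t ∧ q ∉ t) ∧ Disjoint s t ∧ ¬ (∃ o ∈ Cfsg.octads, p ∈ o ∧ q ∈ o ∧ s ∪ t ⊆ o)}.ncard = 160 ∧ ∀ t t' : Finset Cfsg.GolayPt, (t.card = 2 ∧ p ∉ t ∧ q ∉ t) → (t'.card = 2 ∧ p ∉ t' ∧ q ∉ t') → t ≠ s → t' ≠ s → (s ∩ t).card = (s ∩ t').card → ((∃ o ∈ Cfsg.octads, p ∈ o ∧ q ∈ o ∧ s ∪ t ⊆ o) ↔ (∃ o ∈ Cfsg.octads, p ∈ o ∧ q ∈ o ∧ s ∪ t' ⊆ o)) → ∃ g : Equiv.Perm Cfsg.GolayPt, g ∈ Cfsg.M24 ∧ g p = p ∧ g q = q ∧ g • s = s ∧ g • t = t' := by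
  classical
  obtain ⟨hs2, hps, hqs⟩ := hs
  obtain ⟨r₁, r₂, hr, rfl⟩ := Finset.card_eq_two.1 hs2
  simp only [Finset.mem_insert, Finset.mem_singleton, not_or] at hps hqs
  obtain ⟨a, ha, hay⟩ := exists_to_points (n := 4) (by norm_num) ![p, q, r₁, r₂] (fun i j e => by
    obtain ⟨h1, h2⟩ := hps; obtain ⟨h3, h4⟩ := hqs
    fin_cases i <;> fin_cases j <;> simp_all)
  have hap : a p = none := (hay 0).trans bpt_zero
  have haq : a q = some 0 := (hay 1).trans bpt_one
  have has : a • ({r₁, r₂} : Finset GolayPt) = toSet duB := by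
    rw [Finset.smul_finset_insert, Finset.smul_finset_singleton, Equiv.Perm.smul_def, Equiv.Perm.smul_def,
      show a r₁ = bpt 2 from hay 2, show a r₂ = bpt 3 from hay 3]
    decide +kernel
  have hav : ∀ n ∈ sets 24 2, ∀ t, toSet n = a • t →
      ((n &&& 8388609 == 0) = true ↔ p ∉ t ∧ q ∉ t) := by
    intro n hn t ht
    rw [beq_iff_eq, ← testBit_moved ht hap, ← testBit_moved ht haq]
    show _ ↔ ¬ n.testBit 23 = true ∧ ¬ n.testBit 0 = true
    have hbit : ∀ n : ℕ, n &&& 8388609 = 0 ↔ n.testBit 23 = false ∧ n.testBit 0 = false := by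
      intro n
      constructor
      · intro e
        have h1 := congrArg (fun m => m.testBit 23) e
        have h2 := congrArg (fun m => m.testBit 0) e
        simp only [Nat.testBit_and, show Nat.testBit 8388609 23 = true by decide +kernel,
          show Nat.testBit 8388609 0 = true by decide +kernel, Bool.and_true, Nat.zero_testBit] at h1 h2
        exact ⟨h1, h2⟩
      · rintro ⟨h1, h2⟩
        refine Nat.eq_of_testBit_eq fun i => ?_
        rw [Nat.testBit_and, Nat.zero_testBit, show (8388609 : ℕ) = 2 ^ 23 ||| 2 ^ 0 by decide +kernel,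
          Nat.testBit_or, Nat.testBit_two_pow, Nat.testBit_two_pow]
        by_cases h23 : 23 = i
        · subst h23; simp [h1]
        · by_cases h0 : 0 = i
          · subst h0; simp [h2]
          · simp [h23, h0]
    simp [hbit]
  have hpc : ∀ n ∈ sets 24 2, ∀ t, toSet n = a • t → pc (n &&& duB) = (({r₁, r₂} : Finset GolayPt) ∩ t).card :=
    fun n _ t ht => pc_moved ht has
  have hQ : ({p, q} : Finset GolayPt) ∪ {r₁, r₂} = a⁻¹ • toSet quadB := by
    rw [eq_inv_smul_iff, Finset.smul_finset_union, has, Finset.smul_finset_insert,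
      Finset.smul_finset_singleton, Equiv.Perm.smul_def, Equiv.Perm.smul_def, hap, haq]
    decide +kernel
  have ho : ∀ n ∈ sets 24 2, ∀ t, toSet n = a • t →
      (inOctad quadB n = true ↔ ∃ o ∈ octads, p ∈ o ∧ q ∈ o ∧ {r₁, r₂} ∪ t ⊆ o) := by
    intro n hn t ht
    rw [inOctad_iff (by decide) (sets_two.2 n hn).1]
    have key : ∀ o : Finset GolayPt, (p ∈ o ∧ q ∈ o ∧ {r₁, r₂} ∪ t ⊆ o) ↔
        a⁻¹ • (toSet quadB ∪ toSet n) ⊆ o := by
      intro o
      rw [Finset.smul_finset_union, ht, inv_smul_smul, ← hQ]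
      simp only [Finset.union_subset_iff, Finset.insert_subset_iff, Finset.singleton_subset_iff]
      tauto
    constructor
    · rintro ⟨o, hoc, hsub⟩
      exact ⟨a⁻¹ • o, smul_mem_weight (inv_mem ha) hoc,
        (key _).2 (Finset.smul_finset_subset_smul_finset hsub)⟩
    · rintro ⟨o, hoc, hsub⟩
      refine ⟨a • o, smul_mem_weight ha hoc, ?_⟩
      rw [← smul_inv_smul a (toSet quadB ∪ toSet n)]
      exact Finset.smul_finset_subset_smul_finset ((key o).1 hsub)
  have hdis : ∀ t : Finset GolayPt, (({r₁, r₂} : Finset GolayPt) ∩ t).card = 0 ↔ Disjoint {r₁, r₂} t :=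
    fun t => by rw [Finset.card_eq_zero, Finset.disjoint_iff_inter_eq_empty]
  refine ⟨?_, ?_, fun t t' ht ht' hts hts' hc hiff => ?_⟩
  · refine Eq.trans ?_ ((count_moved_sets a 2 sets_two (fun t => ((p ∉ t ∧ q ∉ t) ∧ Disjoint {r₁, r₂} t) ∧
      ∃ o ∈ octads, p ∈ o ∧ q ∈ o ∧ {r₁, r₂} ∪ t ⊆ o) _ fun n hn t ht => by
      rw [Bool.and_eq_true, Bool.and_eq_true, hav n hn t ht, beq_iff_eq, hpc n hn t ht, hdis,
        ho n hn t ht]).trans counts.1)
    congr 1
    ext t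
    simp only [Set.mem_ofPred_eq]
    tauto
  · refine Eq.trans ?_ ((count_moved_sets a 2 sets_two (fun t => ((p ∉ t ∧ q ∉ t) ∧ Disjoint {r₁, r₂} t) ∧
      ¬ ∃ o ∈ octads, p ∈ o ∧ q ∈ o ∧ {r₁, r₂} ∪ t ⊆ o) _ fun n hn t ht => by
      rw [Bool.and_eq_true, Bool.and_eq_true, hav n hn t ht, beq_iff_eq, hpc n hn t ht, hdis,
        ← ho n hn t ht, Bool.not_eq_true', Bool.not_eq_true]).trans counts.2)
    congr 1
    ext t
    simp only [Set.mem_ofPred_eq]
    tauto
  · have fin : ∀ g ∈ M24, (∀ f ∈ [2 ^ 23, 2 ^ 0, duB], ∀ X, a • X = toSet f → g • X = X) →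
        (∀ f ∈ [2 ^ 23, 2 ^ 0, duB], ∀ x r, a x = r → f = 2 ^ idx r → g x = x) → g • t = t' →
        ∃ g : Equiv.Perm GolayPt, g ∈ M24 ∧ g p = p ∧ g q = q ∧ g • ({r₁, r₂} : Finset GolayPt) = {r₁, r₂} ∧ g • t = t' :=
      fun g hg hfix hfp he => ⟨g, hg, hfp (2 ^ 23) (by simp) p none hap rfl,
        hfp (2 ^ 0) (by simp) q (some 0) haq rfl, hfix duB (by simp) _ has, he⟩
    have hlt : (({r₁, r₂} : Finset GolayPt) ∩ t).card < 2 := by
      by_contra hge
      have h1 : ({r₁, r₂} : Finset GolayPt) ∩ t = {r₁, r₂} :=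
        Finset.eq_of_subset_of_card_le Finset.inter_subset_left (by rw [hs2]; omega)
      exact hts (Finset.eq_of_subset_of_card_le (Finset.inter_eq_left.1 h1) (by rw [hs2, ht.1])).symm
    by_cases hm : (({r₁, r₂} : Finset GolayPt) ∩ t).card = 1
    · obtain ⟨g, hg, hfix, hfp, he⟩ := orbit_moved_sets ha certDuadPairMeet
        (P := fun t => (p ∉ t ∧ q ∉ t) ∧ (({r₁, r₂} : Finset GolayPt) ∩ t).card = 1)
        (fun n hn t ht => by
          rw [Bool.and_eq_true, beq_iff_eq (a := pc _), show (20480 : ℕ) = duB from rfl, hpc n hn t ht]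
          exact and_congr (hav n hn t ht) Iff.rfl)
        ht.1 ⟨ht.2, hm⟩ ht'.1 ⟨ht'.2, hc ▸ hm⟩
      exact fin g hg hfix hfp he
    · have h0 : (({r₁, r₂} : Finset GolayPt) ∩ t).card = 0 := by omega
      by_cases hin : ∃ o ∈ octads, p ∈ o ∧ q ∈ o ∧ {r₁, r₂} ∪ t ⊆ o
      · obtain ⟨g, hg, hfix, hfp, he⟩ := orbit_moved_sets ha certDuadPairIn
          (P := fun t => ((p ∉ t ∧ q ∉ t) ∧ (({r₁, r₂} : Finset GolayPt) ∩ t).card = 0) ∧
            ∃ o ∈ octads, p ∈ o ∧ q ∈ o ∧ {r₁, r₂} ∪ t ⊆ o)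
          (fun n hn t ht => by
            rw [Bool.and_eq_true, Bool.and_eq_true, beq_iff_eq (a := pc _), show (20480 : ℕ) = duB from rfl,
              hpc n hn t ht]
            exact and_congr (and_congr (hav n hn t ht) Iff.rfl) (ho n hn t ht))
          ht.1 ⟨⟨ht.2, h0⟩, hin⟩ ht'.1 ⟨⟨ht'.2, hc ▸ h0⟩, hiff.1 hin⟩
        exact fin g hg hfix hfp he
      · obtain ⟨g, hg, hfix, hfp, he⟩ := orbit_moved_sets ha certDuadPairOut
          (P := fun t => ((p ∉ t ∧ q ∉ t) ∧ (({r₁, r₂} : Finset GolayPt) ∩ t).card = 0) ∧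
            ¬ ∃ o ∈ octads, p ∈ o ∧ q ∈ o ∧ {r₁, r₂} ∪ t ⊆ o)
          (fun n hn t ht => by
            rw [Bool.and_eq_true, Bool.and_eq_true, beq_iff_eq (a := pc _), show (20480 : ℕ) = duB from rfl,
              hpc n hn t ht, Bool.not_eq_true', ← ho n hn t ht, Bool.not_eq_true]
            exact and_congr (and_congr (hav n hn t ht) Iff.rfl) Iff.rfl)
          ht.1 ⟨⟨ht.2, h0⟩, hin⟩ ht'.1 ⟨⟨ht'.2, hc ▸ h0⟩, fun hh => hin (hiff.2 hh)⟩
        exact fin g hg hfix hfp he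

end Cfsg.Agent.S1638
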