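import Cfsg.Agent.Lib.Sporadic.M24Certs
import Cfsg.Agent.S1560
import Cfsg.Statements.S1639
-- import your own Cfsg.Agent.* helpers here

set_option autoImplicit false
open scoped Pointwise
open Cfsg

namespace Cfsg.Agent.S1639

open CfsgLib.SmallGroups.Golay CfsgLib.SmallGroups.GolayOctads CfsgLib.SmallGroups.M24Group
  CfsgLib.SmallGroups.Mathieu CfsgLib.Sporadic.M24Orbits CfsgLib.Sporadic.M24Config
  CfsgLib.Sporadic.M24Certs
open scoped Pointwise

theorem counts : ((cwOfWeight 12).filter fun n => n.testBit 23 && pc (n &&& dodB) == 4).length = 165 ∧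
    ((cwOfWeight 12).filter fun n => n.testBit 23 && pc (n &&& dodB) == 8).length = 330 ∧
    ((cwOfWeight 12).filter fun n => n.testBit 23 && pc (n &&& dodB) == 6).length = 792 := by
  decide +kernel

/-- The point stabiliser acts on the 1288 dodecads through the point with rank 4 and subdegrees 1, 165, 330, 792, distinguished by intersection 4, 8, 6 with the fixed dodecad. -/
theorem result (x : Cfsg.GolayPt) (d : Finset Cfsg.GolayPt) (hd : d ∈ Cfsg.dodecads) (hx : x ∈ d) : {d' : Finset Cfsg.GolayPt | d' ∈ Cfsg.dodecads ∧ x ∈ d' ∧ (d ∩ d').card = 4}.ncard = 165 ∧ {d' : Finset Cfsg.GolayPt | d' ∈ Cfsg.dodecads ∧ x ∈ d' ∧ (d ∩ d').card = 8}.ncard = 330 ∧ {d' : Finset Cfsg.GolayPt | d' ∈ Cfsg.dodecads ∧ x ∈ d' ∧ (d ∩ d').card = 6}.ncard = 792 ∧ ∀ d' d'' : Finset Cfsg.GolayPt, d' ∈ Cfsg.dodecads → d'' ∈ Cfsg.dodecads → x ∈ d' → x ∈ d'' → (d ∩ d').card = (d ∩ d'').card → ∃ g : Equiv.Perm Cfsg.GolayPt, g ∈ Cfsg.M24 ∧ g x = x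 ∧ g • d = d ∧ g • d' = d'' := by
  obtain ⟨a₀, ha₀, h₀⟩ := exists_to_none x
  obtain ⟨g₀, hg₀, -, hfp₀, he₀⟩ := orbit_moved ha₀ certPointD (P := fun S => x ∈ S)
    (fun n S hn => by rw [← testBit_moved hn h₀]; rfl) hd hx
    (S' := a₀⁻¹ • toSet dodB) (smul_mem_weight (inv_mem ha₀) dodB_mem) (by
      rw [Finset.mem_inv_smul_finset_iff, Equiv.Perm.smul_def, h₀]; decide +kernel)
  obtain ⟨a, ha, hax, hao⟩ : ∃ a ∈ M24, a x = none ∧ a • d = toSet dodB :=
    ⟨a₀ * g₀, mul_mem ha₀ hg₀, by rw [Equiv.Perm.mul_apply, hfp₀ (2 ^ 23) (by simp) x none h₀ rfl, h₀],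
      by rw [mul_smul, he₀, smul_inv_smul]⟩
  have hq : ∀ j n S, toSet n = a • S →
      ((n.testBit 23 && pc (n &&& dodB) == j) = true ↔ x ∈ S ∧ (d ∩ S).card = j) := fun j n S hn => by
    rw [Bool.and_eq_true, beq_iff_eq, pc_moved hn hao, ← testBit_moved hn hax]; rfl
  refine ⟨?_, ?_, ?_, fun d' d'' hd' hd'' hx' hx'' h => ?_⟩
  · exact (count_moved ha 12 _ _ (hq 4)).trans counts.1
  · exact (count_moved ha 12 _ _ (hq 8)).trans counts.2.1
  · exact (count_moved ha 12 _ _ (hq 6)).trans counts.2.2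
  · have fin : ∀ {j root : ℕ} {T : Tree}, (d ∩ d').card = j →
        cert gensDodPoint [2 ^ 23, dodB] root T cwKey enc
          ((cwOfWeight 12).filter fun n => n.testBit 23 && pc (n &&& dodB) == j) = true →
        ∃ g : Equiv.Perm GolayPt, g ∈ M24 ∧ g x = x ∧ g • d = d ∧ g • d' = d'' := fun {j root T} hj hc => by
      obtain ⟨g, hg, hfix, hfp, he⟩ := orbit_moved ha hc (hq j) hd' ⟨hx', hj⟩ hd'' ⟨hx'', h ▸ hj⟩
      exact ⟨g, hg, hfp (2 ^ 23) (by simp) x none hax rfl, hfix dodB (by simp) d hao, he⟩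
    by_cases hdd : d' = d
    · exact fin (by rw [hdd, Finset.inter_self, hd.2]) certDodPoint12
    · rcases (Cfsg.Agent.S1560.result d hd).1 d' hd' hdd with hj | hj | hj | hj
      · exact absurd (Finset.card_eq_zero.1 hj ▸ Finset.mem_inter.2 ⟨hx, hx'⟩) (Finset.notMem_empty x)
      · exact fin hj certDodPoint4
      · exact fin hj certDodPoint6
      · exact fin hj certDodPoint8

end Cfsg.Agent.S1639
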