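import Cfsg.Statements.S1643
import Cfsg.Agent.Lib.Sporadic.PSL23Maximal

set_option autoImplicit false
open scoped Pointwise
open Cfsg

namespace Cfsg.Agent.S1643

open CfsgLib.Sporadic.PSL23Maximal CfsgLib.SmallGroups.M24Group

/-- PSL(2, 23) = ⟨t ↦ t+1, t ↦ u t (u square), t ↦ −1/t⟩ is maximal of order 6072 in the group of the length-24 code, and its point stabiliser 23:11 (order 253) is maximal in the Mathieu group of degree 23. -/
theorem result : (Subgroup.closure ({Equiv.optionCongr (Equiv.addRight (1 : ZMod 23)), Cfsg.projInv} ∪ {g : Equiv.Perm Cfsg.GolayPt | ∃ u : (ZMod 23)ˣ, IsSquare u ∧ g = Equiv.optionCongr (Units.mulLeft u)}) ≤ Cfsg.M24 ∧ Nat.card ↥(Subgroup.closure ({Equiv.optionCongr (Equiv.addRight (1 : ZMod 23)), Cfsg.projInv} ∪ {g : Equiv.Perm Cfsg.GolayPt | ∃ u : (ZMod 23)ˣ, IsSquare u ∧ g = Equiv.optionCongr (Units.mulLeft u)})) = 6072 ∧ IsCoatom ((Subgroup.closure ({Equiv.optionCongr (Equiv.addRight (1 : ZMod 23)), Cfsg.projInv}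 ∪ {g : Equiv.Perm Cfsg.GolayPt | ∃ u : (ZMod 23)ˣ, IsSquare u ∧ g = Equiv.optionCongr (Units.mulLeft u)})).subgroupOf Cfsg.M24)) ∧ (Subgroup.closure ({Equiv.optionCongr (Equiv.addRight (1 : ZMod 23))} ∪ {g : Equiv.Perm Cfsg.GolayPt | ∃ u : (ZMod 23)ˣ, IsSquare u ∧ g = Equiv.optionCongr (Units.mulLeft u)}) ≤ Cfsg.M24 ⊓ MulAction.stabilizer (Equiv.Perm Cfsg.GolayPt) (none : Cfsg.GolayPt) ∧ Nat.card ↥(Subgroup.closure ({Equiv.optionCongr (Equiv.addRight (1 : ZMod 23))} ∪ {g : Equiv.Perm Cfsg.GolayPt | ∃ u : (ZMod 23)ˣ, IsSquare u ∧ g = Equiv.optionCongr (Units.mulLeft u)})) = 253 ∧ IsCoatom (((Subgroup.closure ({Equiv.optionCongr (Equiv.addRight (1 : ZMod 23))} ∪ {g : Equiv.Perm Cfsg.GolayPt | ∃ u : (ZMod 23)ˣ, IsSquare u ∧ g = Equiv.optionCongr (Units.mulLeft u)})).subgroupOf Cfsg.M24).subgroupOf (MulAction.stabilizer Cfsg.M24 (none : Cfsg.GolayPt)))) := by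
  refine ⟨⟨L_le, card_L, isCoatom_subgroupOf L_le ?_ fun H h1 h2 => overgroup_L h1 h2⟩,
    closure_gensN.le.trans affine_le, ?_, ?_⟩
  · refine lt_of_eq_of_lt card_L ?_
    rw [card_M24]; norm_num
  · exact (congrArg (fun S : Subgroup (Equiv.Perm Cfsg.GolayPt) => Nat.card S) closure_gensN).trans
      card_affine
  · refine isCoatom_subgroupOf (fun g hg => (affine_le (closure_gensN.le hg)).2) ?_ fun H h1 h2 => ?_
    · refine lt_of_eq_of_lt ((Nat.card_congr (Subgroup.subgroupOfEquivOfLe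
        (fun g hg => (affine_le (closure_gensN.le hg)).1)).toEquiv).trans
          ((congrArg (fun S : Subgroup (Equiv.Perm Cfsg.GolayPt) => Nat.card S) closure_gensN).trans
            card_affine)) ?_
      rw [CfsgLib.SmallGroups.MathieuSimple.card_stab_point]; norm_num
    · have e : ∀ K : Subgroup ↥Cfsg.M24, (K.map Cfsg.M24.subtype).comap Cfsg.M24.subtype = K :=
        fun K => Subgroup.comap_map_eq_self_of_injective Cfsg.M24.subtype_injective K
      have hm : (MulAction.stabilizer ↥Cfsg.M24 (none : Cfsg.GolayPt)).map Cfsg.M24.subtype =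
          Cfsg.Spor.M23 := by
        ext g
        exact ⟨fun ⟨x, hx, hxg⟩ => hxg ▸ ⟨x.2, hx⟩, fun hg => ⟨⟨g, hg.1⟩, hg.2, rfl⟩⟩
      rcases overgroup_affine (H := H.map Cfsg.M24.subtype)
          (closure_gensN.ge.trans ((Subgroup.map_subgroupOf_eq_of_le
            (fun g hg => (affine_le (closure_gensN.le hg)).1)).ge.trans (Subgroup.map_mono h1)))
          (hm ▸ Subgroup.map_mono h2) with h | h
      · left
        rw [← e H, h, ← closure_gensN]
        rfl
      · right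
        rw [← e H, h, ← hm, e]

end Cfsg.Agent.S1643
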