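import Cfsg.Statements.S1666
import Cfsg.Agent.Lib.Sporadic.OutCert.HS.Graph
import Cfsg.Agent.S5168

set_option autoImplicit false
open Cfsg

namespace Cfsg.Agent.S1666


open Finset

section

variable {Ω : Type*} [Fintype Ω] [DecidableEq Ω] (G : Subgroup (Equiv.Perm Ω)) (a b : Ω)

/-- The orbital of the pair. -/
def orbital : Ω → Ω → Prop := fun x y => ∃ g : G, g • a = x ∧ g • b = y

theorem orbital_smul (g : G) {x y : Ω} :
    orbital G a b (g • x) (g • y) ↔ orbital G a b x y := by
  constructor
  · rintro ⟨k, h1, h2⟩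
    refine ⟨g⁻¹ * k, ?_, ?_⟩ <;> rw [mul_smul, inv_smul_eq_iff] <;> assumption
  · rintro ⟨k, rfl, rfl⟩
    exact ⟨g * k, mul_smul .., mul_smul ..⟩

theorem orbital_base {y : Ω} :
    orbital G a b a y ↔ y ∈ MulAction.orbit (MulAction.stabilizer G a) b :=
  ⟨fun ⟨g, h1, h2⟩ => ⟨⟨g, h1⟩, h2⟩, fun ⟨g, hg⟩ => ⟨g.1, g.2, hg⟩⟩

end

/-- The counting behind the parameters: only `(0, 6)` survives. -/
theorem param_cases {l m : ℕ} (h : 22 + 22 * l + 77 * m = 484) :
    (l = 21 ∧ m = 0) ∨ (l = 14 ∧ m = 2) ∨ (l = 7 ∧ m = 4) ∨ (l = 0 ∧ m = 6) := by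
  omega

section

variable {Ω : Type*} [Fintype Ω] [DecidableEq Ω] (hΩ : Fintype.card Ω = 100)
  {R : Ω → Ω → Prop} [DecidableRel R] (hsymm : ∀ x y, R x y → R y x) (hirr : ∀ x, ¬ R x x)
  (hval : ∀ x, (univ.filter (R x)).card = 22)
  {l m : ℕ}
  (hl : ∀ x y, R x y → (univ.filter fun z => R x z ∧ R y z).card = l)
  (hm : ∀ x y, x ≠ y → ¬ R x y → (univ.filter fun z => R x z ∧ R y z).card = m)

include hΩ hsymm hirr hval hl in
theorem not_twentyone (h21 : l = 21) : False := by
  let C : Ω → Finset Ω := fun x => insert x (univ.filter (R x))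
  have hC : ∀ x, (C x).card = 23 := fun x => by
    rw [card_insert_of_notMem (by simp [hirr x]), hval x]
  have hCC : ∀ x y, R x y → C y = C x := by
    intro x y hxy
    symm
    refine eq_of_subset_of_card_le ?_ (by rw [hC, hC])
    have hfull : (univ.filter fun z => R x z ∧ R y z) = (univ.filter (R x)).erase y := by
      refine eq_of_subset_of_card_le (fun z hz => ?_) ?_
      · simp only [mem_filter, mem_univ, true_and] at hz
        simp only [mem_erase, mem_filter, mem_univ, true_and]
        exact ⟨fun e => hirr y (e ▸ hz.2), hz.1⟩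
      · rw [card_erase_of_mem (by simp [hxy]), hval x, hl x y hxy, h21]
    intro z hz
    simp only [C, mem_insert, mem_filter, mem_univ, true_and] at hz ⊢
    rcases hz with rfl | hz
    · exact Or.inr (hsymm _ _ hxy)
    · by_cases hzy : z = y
      · exact Or.inl hzy
      · have hmem : z ∈ (univ.filter (R x)).erase y := by simp [hzy, hz]
        rw [← hfull] at hmem
        simp only [mem_filter, mem_univ, true_and] at hmem
        exact Or.inr hmem.2
  have hfib : ∀ x, (univ.filter fun y => C y = C x) = C x := by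
    intro x
    ext y
    simp only [mem_filter, mem_univ, true_and]
    constructor
    · intro e
      exact e ▸ mem_insert_self _ _
    · intro hy
      simp only [C, mem_insert, mem_filter, mem_univ, true_and] at hy
      rcases hy with rfl | hy
      · rfl
      · exact hCC x y hy
  have h := card_eq_sum_card_image C (univ : Finset Ω)
  rw [card_univ, hΩ, sum_congr rfl (g := fun _ => 23)] at h
  · rw [sum_const, smul_eq_mul] at h
    omega
  · intro S hS
    obtain ⟨x, -, rfl⟩ := mem_image.1 hS
    rw [hfib x, hC x]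

include hsymm hirr hval hl hm in
theorem not_fourteen (x : Ω) (hlm : l = 14 ∧ m = 2) : False := by
  obtain ⟨h14, h2⟩ := hlm
  obtain ⟨y, hy⟩ : ∃ y, R x y := by
    obtain ⟨y, hy⟩ := card_pos.1 (by rw [hval x]; norm_num : 0 < (univ.filter (R x)).card)
    exact ⟨y, (mem_filter.1 hy).2⟩
  obtain ⟨z, hz⟩ : ∃ z, z ∈ ((univ.filter (R x)).erase y) \ (univ.filter fun z => R x z ∧ R y z) := by
    refine card_pos.1 (lt_of_lt_of_le ?_ (le_card_sdiff _ _))
    rw [card_erase_of_mem (by simp [hy]), hval x, hl x y hy, h14]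
    norm_num
  simp only [mem_sdiff, mem_erase, mem_filter, mem_univ, true_and, not_and] at hz
  obtain ⟨⟨hzy, hxz⟩, hnyz⟩ := hz
  let A := univ.filter fun w => R x w ∧ R y w
  let B := univ.filter fun w => R x w ∧ R z w
  let W := ((univ.filter (R x)).erase y).erase z
  have hA : A.card = 14 := (hl x y hy).trans h14
  have hB : B.card = 14 := (hl x z hxz).trans h14
  have hW : W.card = 20 := by
    rw [card_erase_of_mem (by simp [hzy, hxz]), card_erase_of_mem (by simp [hy]), hval x]
  have hsub : A ∪ B ⊆ W := by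
    intro w hw
    simp only [A, B, W, mem_union, mem_filter, mem_univ, true_and, mem_erase] at hw ⊢
    rcases hw with ⟨h1, h2⟩ | ⟨h1, h2⟩
    · exact ⟨fun e => hnyz hxz (e ▸ h2), fun e => hirr y (e ▸ h2), h1⟩
    · exact ⟨fun e => hirr z (e ▸ h2), fun e => hnyz hxz (hsymm _ _ (e ▸ h2)), h1⟩
  have h8 : 8 ≤ (A ∩ B).card := by
    have := card_union_add_card_inter A B
    have := card_le_card hsub
    omega
  have hcom : A ∩ B ⊆ univ.filter fun w => R y w ∧ R z w := by
    intro w hw
    simp only [A, B, mem_inter, mem_filter, mem_univ, true_and] at hw ⊢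
    exact ⟨hw.1.2, hw.2.2⟩
  have := card_le_card hcom
  rw [hm y z (Ne.symm hzy) (hnyz hxz), h2] at this
  omega

include hΩ hsymm hirr hval hl in
theorem not_seven (h7 : l = 7) : False := by
  let T := {t : Ω × Ω × Ω // R t.1 t.2.1 ∧ R t.2.1 t.2.2 ∧ R t.2.2 t.1}
  let σ : Equiv.Perm T :=
    { toFun := fun t => ⟨(t.1.2.1, t.1.2.2, t.1.1), t.2.2.1, t.2.2.2, t.2.1⟩
      invFun := fun t => ⟨(t.1.2.2, t.1.1, t.1.2.1), t.2.2.2, t.2.1, t.2.2.1⟩
      left_inv := fun t => rfl
      right_inv := fun t => rfl }
  have hσ : σ ^ 3 ^ 1 = 1 := by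
    ext t <;> simp [pow_succ, σ, Equiv.Perm.mul_apply]
  have hcard : Fintype.card T = 100 * 22 * 7 := by
    let S := Σ x : Ω, Σ y : {y // R x y}, {z // R x z ∧ R y.1 z}
    have e : T ≃ S :=
      { toFun := fun t => ⟨t.1.1, ⟨t.1.2.1, t.2.1⟩, t.1.2.2, hsymm _ _ t.2.2.2, t.2.2.1⟩
        invFun := fun s => ⟨(s.1, s.2.1.1, s.2.2.1), s.2.1.2, s.2.2.2.2, hsymm _ _ s.2.2.2.1⟩
        left_inv := fun t => rfl
        right_inv := fun s => rfl }
    have hin : ∀ (x : Ω) (y : {y // R x y}), Fintype.card {z // R x z ∧ R y.1 z} = 7 := fun x y => by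
      rw [Fintype.card_subtype, hl x y.1 y.2, h7]
    have hout : ∀ x : Ω, Fintype.card {y // R x y} = 22 := fun x => by
      rw [Fintype.card_subtype, hval x]
    rw [Fintype.card_congr e]
    simp [S, hin, hout, hΩ]
  have : Fact (Nat.Prime 3) := ⟨Nat.prime_three⟩
  obtain ⟨t, ht⟩ := Equiv.Perm.exists_fixed_point_of_prime (p := 3) (n := 1)
    (by rw [hcard]; norm_num) hσ
  have h1 : t.1.2.1 = t.1.1 := congrArg (fun u : T => u.1.1) ht
  exact hirr t.1.1 (h1 ▸ t.2.1)

end

section

variable {Ω : Type*} [Fintype Ω] [DecidableEq Ω]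

/-- A rank three orbital graph with valencies `22, 77` is strongly regular `(100, 22, 0, 6)`. -/
theorem isSRG_orbital (hΩ : Fintype.card Ω = 100) (G : Subgroup (Equiv.Perm Ω))
    [MulAction.IsPretransitive G Ω] (a b c : Ω)
    (hb : (MulAction.orbit (MulAction.stabilizer G a) b).ncard = 22)
    (hc : (MulAction.orbit (MulAction.stabilizer G a) c).ncard = 77) :
    ∃ (Γ : SimpleGraph Ω) (_ : DecidableRel Γ.Adj),
      Γ.IsSRGWith 100 22 0 6 ∧ ∀ (g : G) (x y : Ω), Γ.Adj (g • x) (g • y) ↔ Γ.Adj x y := by
  classical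
  let H := MulAction.stabilizer G a
  let R := orbital G a b
  have hRG : ∀ (g : G) {x y : Ω}, R (g • x) (g • y) ↔ R x y := fun g => orbital_smul G a b g
  have hfixa : MulAction.orbit H a = {a} :=
    Set.eq_singleton_iff_unique_mem.2 ⟨MulAction.mem_orbit_self a, by rintro _ ⟨h, rfl⟩; exact h.2⟩
  have hab : a ∉ MulAction.orbit H b := by
    intro h
    have := MulAction.orbit_eq_iff.2 h
    rw [hfixa] at this
    rw [← this] at hb
    simp at hb
  have hac : a ∉ MulAction.orbit H c := by
    intro h
    have := MulAction.orbit_eq_iff.2 h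
    rw [hfixa] at this
    rw [← this] at hc
    simp at hc
  have hdisj : Disjoint (MulAction.orbit H b) (MulAction.orbit H c) := by
    rw [Set.disjoint_left]
    intro y hy hy'
    have h1 := (MulAction.orbit_eq_iff.2 hy).symm.trans (MulAction.orbit_eq_iff.2 hy')
    have h2 := hb.symm.trans ((congrArg Set.ncard h1).trans hc)
    omega
  have hcover : ∀ y, y ≠ a → y ∉ MulAction.orbit H b → y ∈ MulAction.orbit H c := by
    intro y hya hyb
    by_contra hyc
    have hsub : MulAction.orbit H b ∪ MulAction.orbit H c ⊆ ({a, y} : Set Ω)ᶜ := by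
      intro w hw
      simp only [Set.mem_compl_iff, Set.mem_insert_iff, Set.mem_singleton_iff]
      rintro (rfl | rfl)
      · exact hw.elim hab hac
      · exact hw.elim hyb hyc
    have := Set.ncard_le_ncard hsub
    rw [Set.ncard_union_eq hdisj, hb, hc, Set.ncard_compl, Set.ncard_pair (Ne.symm hya),
      Nat.card_eq_fintype_card, hΩ] at this
    omega
  have hbase : ∀ y, R a y ↔ y ∈ MulAction.orbit H b := fun y => orbital_base G a b
  have hcount : ∀ (p : Ω → Ω → Prop) (g : G) (x : Ω), (∀ z, p (g • x) (g • z) ↔ p x z) →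
      (univ.filter (p (g • x))).card = (univ.filter (p x)).card := by
    intro p g x hp
    symm
    refine card_bij (fun z _ => g • z) ?_ ?_ ?_
    · intro z hz
      simpa [hp] using hz
    · intro z _ w _ e
      exact MulAction.injective g e
    · intro z hz
      refine ⟨g⁻¹ • z, ?_, smul_inv_smul g z⟩
      simp only [mem_filter, mem_univ, true_and] at hz ⊢
      rw [← hp, smul_inv_smul]
      exact hz
  have hout : ∀ x, (univ.filter (R x)).card = 22 := by
    intro x
    obtain ⟨g, rfl⟩ := MulAction.exists_smul_eq G a x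
    rw [hcount R g a (fun z => hRG g), ← hb, ← Set.ncard_coe_finset]
    refine congrArg Set.ncard (Set.ext fun z => ?_)
    simp only [coe_filter, mem_univ, true_and, Set.mem_ofPred_eq]
    exact hbase z
  have hin : ∀ x, (univ.filter fun z => R z x).card = 22 := by
    have hconst : ∀ x, (univ.filter fun z => R z x).card = (univ.filter fun z => R z a).card := by
      intro x
      obtain ⟨g, rfl⟩ := MulAction.exists_smul_eq G a x
      exact hcount (fun x z => R z x) g a (fun z => hRG g)
    have h := sum_card_bipartiteAbove_eq_sum_card_bipartiteBelow (r := R)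
      (s := (univ : Finset Ω)) (t := (univ : Finset Ω))
    simp only [bipartiteAbove, bipartiteBelow] at h
    rw [sum_congr rfl fun x _ => hout x, sum_congr rfl fun x _ => hconst x, sum_const, sum_const,
      card_univ, hΩ, smul_eq_mul, smul_eq_mul] at h
    intro x
    rw [hconst x]
    omega
  have hirr : ∀ x, ¬ R x x := by
    rintro x ⟨g, rfl, h⟩
    rw [smul_left_cancel_iff] at h
    subst h
    exact hab (MulAction.mem_orbit_self _)
  have hba : R b a := by
    obtain ⟨g, hg⟩ := MulAction.exists_smul_eq G b a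
    have hmem : R (g • a) a := by
      have h1 : R (g • a) (g • b) := (hRG g).2 ((hbase b).2 (MulAction.mem_orbit_self b))
      rwa [hg] at h1
    have hya : g • a ≠ a := fun e => hirr a (by rwa [e] at hmem)
    by_cases hy : g • a ∈ MulAction.orbit H b
    · have : R (g • b) (g • a) := by rw [hg]; exact (hbase _).2 hy
      exact (hRG g).1 this
    · exfalso
      have hyc := hcover _ hya hy
      have hsub : MulAction.orbit H c ⊆ ↑(univ.filter fun z => R z a) := by
        intro z hz
        rw [← MulAction.orbit_eq_iff.2 hyc] at hz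
        obtain ⟨k, rfl⟩ := hz
        simp only [coe_filter, mem_univ, true_and, Set.mem_ofPred_eq]
        have h1 := (hRG k.1).2 hmem
        rw [show k.1 • a = a from k.2] at h1
        exact h1
      have := Set.ncard_le_ncard hsub
      rw [hc, Set.ncard_coe_finset, hin a] at this
      omega
  have hsymm : ∀ x y, R x y → R y x := by
    rintro x y ⟨g, rfl, rfl⟩
    exact (hRG g).2 hba
  let f : Ω → Ω → ℕ := fun x y => (univ.filter fun z => R x z ∧ R y z).card
  have hf : ∀ (g : G) (x y : Ω), f (g • x) (g • y) = f x y := by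
    intro g x y
    symm
    refine card_bij (fun z _ => g • z) ?_ ?_ ?_
    · intro z hz
      simpa [hRG] using hz
    · intro z _ w _ e
      exact MulAction.injective g e
    · intro z hz
      refine ⟨g⁻¹ • z, ?_, smul_inv_smul g z⟩
      simp only [mem_filter, mem_univ, true_and] at hz ⊢
      rw [← hRG g, ← hRG g (x := y), smul_inv_smul]
      exact hz
  have hl : ∀ x y, R x y → f x y = f a b := by
    rintro x y ⟨g, rfl, rfl⟩
    exact hf g a b
  have hm : ∀ x y, x ≠ y → ¬ R x y → f x y = f a c := by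
    intro x y hne hn
    obtain ⟨g, rfl⟩ := MulAction.exists_smul_eq G a x
    obtain ⟨y, rfl⟩ : ∃ w, g • w = y := ⟨g⁻¹ • y, smul_inv_smul g y⟩
    have hy := hcover y (fun e => hne (by rw [e])) (fun h => hn ((hRG g).2 ((hbase y).2 h)))
    obtain ⟨k, rfl⟩ := hy
    rw [hf g, show (f a (k • c)) = f (k.1 • a) (k.1 • c) from by rw [show k.1 • a = a from k.2]; rfl]
    exact hf k.1 a c
  have hsum : 22 + 22 * f a b + 77 * f a c = 484 := by
    have h1 : ∑ y, f a y = 484 := by
      have h := sum_card_bipartiteAbove_eq_sum_card_bipartiteBelow (r := R)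
        (s := (univ : Finset Ω)) (t := univ.filter (R a))
      simp only [bipartiteAbove, bipartiteBelow] at h
      rw [sum_congr rfl (fun z _ => hin z), sum_const, hout a, smul_eq_mul] at h
      refine Eq.trans ?_ h
      refine sum_congr rfl fun y _ => congrArg Finset.card ?_
      ext z
      simp [and_comm]
    have haa : f a a = 22 := by
      refine Eq.trans (congrArg Finset.card ?_) (hout a)
      ext z
      simp
    rw [← add_sum_erase univ (fun y => f a y) (mem_univ a), haa,
      ← sum_filter_add_sum_filter_not (univ.erase a) (R a),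
      sum_congr rfl (fun y hy => hl a y (mem_filter.1 hy).2),
      sum_congr rfl (fun y hy => hm a y (Ne.symm (mem_erase.1 (mem_filter.1 hy).1).1) (mem_filter.1 hy).2),
      sum_const, sum_const, smul_eq_mul, smul_eq_mul] at h1
    have e1 : ((univ.erase a).filter (R a)).card = 22 := by
      refine Eq.trans (congrArg Finset.card ?_) (hout a)
      ext z
      simp only [mem_filter, mem_erase, mem_univ, and_true, true_and]
      exact ⟨fun h => h.2, fun h => ⟨fun e => hirr a (e ▸ h), h⟩⟩
    have e2 : ((univ.erase a).filter fun y => ¬ R a y).card = 77 := by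
      have := card_filter_add_card_filter_not (s := univ.erase a) (R a)
      rw [e1, card_erase_of_mem (mem_univ a), card_univ, hΩ] at this
      omega
    rw [e1, e2] at h1
    omega
  have hlm : f a b = 0 ∧ f a c = 6 := by
    rcases param_cases hsum with h | h | h | h
    · exact (not_twentyone hΩ hsymm hirr hout hl h.1).elim
    · exact (not_fourteen hsymm hirr hout hl hm a h).elim
    · exact (not_seven hΩ hsymm hirr hout hl h.1).elim
    · exact h
  let Γ : SimpleGraph Ω :=
    { Adj := R, symm := ⟨hsymm⟩, loopless := ⟨hirr⟩ }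
  have : DecidableRel Γ.Adj := Classical.decRel _
  refine ⟨Γ, this, ⟨hΩ, fun x => ?_, fun x y h => ?_, fun x y hne h => ?_⟩, fun g x y => hRG g⟩
  · rw [← SimpleGraph.card_neighborFinset_eq_degree, SimpleGraph.neighborFinset_eq_filter, ← hout x]
    congr!
  · rw [← Fintype.card_congr (Equiv.subtypeEquivRight fun z => (Γ.mem_commonNeighbors).symm),
      Fintype.card_subtype]
    refine Eq.trans ?_ ((hl x y h).trans hlm.1); congr! 2
  · rw [← Fintype.card_congr (Equiv.subtypeEquivRight fun z => (Γ.mem_commonNeighbors).symm),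
      Fintype.card_subtype]
    refine Eq.trans ?_ ((hm x y hne h).trans hlm.2); congr! 2

end

/-- Recognition of the Higman–Sims group as a rank 3 permutation group: a transitive permutation group on 100 points in which the stabiliser of a point is isomorphic to the Mathieu group M₂₂ and has two further orbits, of sizes 22 and 77, is isomorphic to the Higman–Sims group. -/
theorem result {Ω : Type*} [Fintype Ω] [DecidableEq Ω] (hΩ : Fintype.card Ω = 100) (G : Subgroup (Equiv.Perm Ω)) [MulAction.IsPretransitive G Ω] (a : Ω)  (e : MulAction.stabilizer G a ≃* Cfsg.Spor.M22) (b c : Ω) (hb : (MulAction.orbit (MulAction.stabilizer G a) b).ncard = 22) (hc : (MulAction.orbit (MulAction.stabilizer G a) c).ncard = 77) : Cfsg.Spor.IsoHS G := by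
  classical
  obtain ⟨Γ, _, hSRG, hinv⟩ := isSRG_orbital hΩ G a b c hb hc
  obtain ⟨φ⟩ := CfsgLib.SmallGroups.HSGraph.unique hSRG CfsgLib.Sporadic.OutCert.HS.isSRG
  let ι : G →* CfsgLib.Sporadic.OutCert.HS.P :=
    (Equiv.permCongrHom φ.toEquiv).toMonoidHom.comp G.subtype
  have hι : Function.Injective ι := (Equiv.permCongrHom φ.toEquiv).injective.comp Subtype.val_injective
  have hιA : ι.range ≤ CfsgLib.Sporadic.OutCert.HS.Aut := by
    rintro _ ⟨g, rfl⟩ i j
    obtain ⟨x, rfl⟩ := φ.surjective i
    obtain ⟨y, rfl⟩ := φ.surjective j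
    have h : ∀ x, ι g (φ x) = φ (g • x) := fun x => by
      show φ (g.1 (φ.symm (φ x))) = φ (g • x)
      rw [RelIso.symm_apply_apply]
      rfl
    rw [h, h]
    exact (φ.map_rel_iff'.trans ((hinv g x y).trans φ.map_rel_iff'.symm))
  obtain ⟨ψ, hψ, hψA⟩ := CfsgLib.Sporadic.OutCert.HS.exists_embedding
  have hG : Nat.card G = 44352000 := by
    rw [← Subgroup.card_mul_index (MulAction.stabilizer G a), MulAction.index_stabilizer_of_transitive,
      Nat.card_congr e.toEquiv, Cfsg.Agent.S5168.card_M22, Nat.card_eq_fintype_card, hΩ]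
  have hιr : Nat.card ι.range = 44352000 := by
    rw [← Nat.card_congr (MonoidHom.ofInjective hι).toEquiv, hG]
  have hψr : Nat.card ψ.range = 44352000 := by
    rw [← Nat.card_congr (MonoidHom.ofInjective hψ).toEquiv, CfsgLib.Sporadic.OutCert.HS.card_HS]
  let N := ι.range.subgroupOf CfsgLib.Sporadic.OutCert.HS.Aut
  have hN : N.index = 2 := by
    have h := Subgroup.card_mul_index N
    rw [CfsgLib.Sporadic.OutCert.HS.card_Aut,
      Nat.card_congr (Subgroup.subgroupOfEquivOfLe hιA).toEquiv, hιr] at h
    omega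
  have : N.Normal := Subgroup.normal_of_index_eq_two hN
  let ψ' : Cfsg.Spor.HS →* CfsgLib.Sporadic.OutCert.HS.Aut :=
    ψ.codRestrict _ fun h => hψA ⟨h, rfl⟩
  have hle : ψ.range ≤ ι.range := by
    let q := (QuotientGroup.mk' N).comp ψ'
    have := CfsgLib.Sporadic.OutCert.HS.isSimple_HS
    rcases q.normal_ker.eq_bot_or_eq_top with h | h
    · exfalso
      have hle := Nat.card_le_card_of_injective q (q.ker_eq_bot_iff.1 h)
      rw [CfsgLib.Sporadic.OutCert.HS.card_HS, ← Subgroup.index_eq_card, hN] at hle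
      omega
    · rintro _ ⟨x, rfl⟩
      have hx : q x = 1 := MonoidHom.mem_ker.1 (h ▸ Subgroup.mem_top x)
      exact Subgroup.mem_subgroupOf.1 ((QuotientGroup.eq_one_iff (N := N) (ψ' x)).1 hx)
  have heq : ψ.range = ι.range := Subgroup.eq_of_le_of_card_ge hle (by rw [hψr, hιr])
  exact ⟨((MonoidHom.ofInjective hι).trans (MulEquiv.subgroupCongr heq.symm)).trans
    (MonoidHom.ofInjective hψ).symm⟩

end Cfsg.Agent.S1666
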