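import Cfsg.Statements.S1690
import Cfsg.Agent.Lib.Sporadic.Fi24Model.Main
-- import your own Cfsg.Agent.* helpers here

set_option autoImplicit false
open Cfsg

namespace Cfsg.Agent.S1690

/-- In the presented group Fi₂₄ = Fi₂₄′:2, the subgroup generated by the images of a, b, c, d, e, f, g, h, i, j and l (every generator but k) has index 306936. -/
theorem result : (((Subgroup.closure ({Cfsg.Spor.Fi24.a, Cfsg.Spor.Fi24.b, Cfsg.Spor.Fi24.c, Cfsg.Spor.Fi24.d, Cfsg.Spor.Fi24.e, Cfsg.Spor.Fi24.f, Cfsg.Spor.Fi24.g, Cfsg.Spor.Fi24.h, Cfsg.Spor.Fi24.i, Cfsg.Spor.Fi24.j, Cfsg.Spor.Fi24.l} : Set (FreeGroup Cfsg.Spor.Fi24.Gen))).map (PresentedGroup.mk (Cfsg.Spor.coxRelators Cfsg.Spor.Fi24.edges ∪ {r | r ∈ Cfsg.Spor.Fi24.extra})))).index = 306936 := by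
  rw [MonoidHom.map_closure]
  have e : PresentedGroup.mk (Cfsg.Spor.coxRelators Cfsg.Spor.Fi24.edges ∪ {r | r ∈ Cfsg.Spor.Fi24.extra}) ''
      ({Cfsg.Spor.Fi24.a, Cfsg.Spor.Fi24.b, Cfsg.Spor.Fi24.c, Cfsg.Spor.Fi24.d, Cfsg.Spor.Fi24.e,
        Cfsg.Spor.Fi24.f, Cfsg.Spor.Fi24.g, Cfsg.Spor.Fi24.h, Cfsg.Spor.Fi24.i, Cfsg.Spor.Fi24.j,
        Cfsg.Spor.Fi24.l} : Set (FreeGroup Cfsg.Spor.Fi24.Gen)) =
      CfsgLib.Sporadic.Fi24Model.gen '' {n | n < 12 ∧ n ≠ 1} := by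
    ext z
    simp only [Set.image_insert_eq, Set.image_singleton, Set.mem_insert_iff, Set.mem_singleton_iff]
    constructor
    · intro h
      have key : ∀ x : Cfsg.Spor.Fi24.Gen, CfsgLib.Sporadic.Fi24Model.gpos x ≠ 1 →
          PresentedGroup.of x ∈ CfsgLib.Sporadic.Fi24Model.gen '' {n | n < 12 ∧ n ≠ 1} := fun x hx =>
        ⟨_, ⟨by cases x <;> decide, hx⟩, CfsgLib.Sporadic.Fi24Model.gen_gpos x⟩
      rcases h with rfl | rfl | rfl | rfl | rfl | rfl | rfl | rfl | rfl | rfl | rfl <;>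
        exact key _ (by decide)
    · rintro ⟨n, ⟨hn, h1⟩, rfl⟩
      obtain ⟨x, rfl⟩ := CfsgLib.Sporadic.Fi24Model.exists_gpos hn
      rw [CfsgLib.Sporadic.Fi24Model.gen_gpos]
      cases x <;> first | exact absurd rfl h1 | simp [PresentedGroup.of]
  rw [e]
  exact CfsgLib.Sporadic.Fi24Model.index_H

end Cfsg.Agent.S1690
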