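import Cfsg.Statements.S1691
-- import your own Cfsg.Agent.* helpers here

set_option autoImplicit false
open Cfsg

namespace Cfsg.Agent.S1691

open Cfsg.Spor in
private theorem ab_gen (x : Fi24.Gen) :
    Abelianization.of (PresentedGroup.of (rels := coxRelators Fi24.edges ∪ {r | r ∈ Fi24.extra}) x)
      = Abelianization.of (PresentedGroup.of (rels := coxRelators Fi24.edges ∪ {r | r ∈ Fi24.extra}) Fi24.Gen.d) := by
  set q : FreeGroup Fi24.Gen →* Abelianization Fi24 :=
    Abelianization.of.comp (PresentedGroup.mk (coxRelators Fi24.edges ∪ {r | r ∈ Fi24.extra})) with hq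
  have hnode : ∀ a : Fi24.Gen, a ∈ coxNodes Fi24.edges := fun a => by cases a <;> decide
  have hrel : ∀ a b : Fi24.Gen, q (FreeGroup.of a) ^ coxLabel Fi24.edges a b
      * q (FreeGroup.of b) ^ coxLabel Fi24.edges a b = 1 := by
    intro a b
    have hr : (FreeGroup.of a * FreeGroup.of b) ^ coxLabel Fi24.edges a b ∈
        coxRelators Fi24.edges ∪ {r | r ∈ Fi24.extra} :=
      Or.inl ⟨a, hnode a, b, hnode b, rfl⟩
    rw [← mul_pow, ← map_mul, ← map_pow, hq, MonoidHom.comp_apply,
      PresentedGroup.one_of_mem hr, map_one]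
  have hsq : ∀ a : Fi24.Gen, q (FreeGroup.of a) * q (FreeGroup.of a) = 1 := fun a => by
    simpa [coxLabel] using hrel a a
  have h3 : ∀ a b : Fi24.Gen, coxLabel Fi24.edges a b = 3 → q (FreeGroup.of a) = q (FreeGroup.of b) := by
    intro a b h
    have := hrel a b
    rw [h, pow_succ, pow_two, hsq, one_mul, pow_succ, pow_two, hsq, one_mul] at this
    calc q (FreeGroup.of a) = q (FreeGroup.of a) * (q (FreeGroup.of b) * q (FreeGroup.of b)) := by
          rw [hsq, mul_one]
      _ = q (FreeGroup.of b) := by rw [← mul_assoc, this, one_mul]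
  show q (FreeGroup.of x) = q (FreeGroup.of Fi24.Gen.d)
  have hc := h3 .c .d (by decide)
  have hb := (h3 .b .c (by decide)).trans hc
  have ha := (h3 .a .b (by decide)).trans hb
  have hk := (h3 .k .a (by decide)).trans ha
  have hl := (h3 .l .k (by decide)).trans hk
  have he := (h3 .d .e (by decide)).symm
  have hf := ((h3 .e .f (by decide)).symm).trans he
  have hg := ((h3 .f .g (by decide)).symm).trans hf
  have hj := ((h3 .g .j (by decide)).symm).trans hg
  have hh := (h3 .d .h (by decide)).symm
  have hi := ((h3 .h .i (by decide)).symm).trans hh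
  cases x <;> first | rfl | assumption

/-- The commutator subgroup of the presented group Fi₂₄ has index 2 (the presented group is Fi₂₄′:2 with Fi₂₄′ its derived subgroup). -/
theorem result : (commutator Cfsg.Spor.Fi24).index = 2 := by
  classical
  open Cfsg.Spor in
  let f : Fi24.Gen → Multiplicative (ZMod 2) := fun _ => Multiplicative.ofAdd 1
  have hf : ∀ r ∈ Spor.coxRelators Spor.Fi24.edges ∪ {r | r ∈ Spor.Fi24.extra},
      FreeGroup.lift f r = 1 := by
    rintro r (⟨a, -, b, -, rfl⟩ | hr)
    · have : ∀ n : ℕ, ((Multiplicative.ofAdd (1 : ZMod 2)) * Multiplicative.ofAdd 1) ^ n = 1 := fun n => by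
        rw [show (Multiplicative.ofAdd (1 : ZMod 2)) * Multiplicative.ofAdd 1 = 1 by decide, one_pow]
      simpa [f] using this _
    · simp only [Spor.Fi24.extra, Set.mem_setOf_eq, List.mem_cons, List.not_mem_nil, or_false] at hr
      rcases hr with rfl | rfl <;>
        simp only [map_mul, map_inv, map_pow, FreeGroup.lift_apply_of, f] <;> decide
  let φ := Abelianization.lift (PresentedGroup.toGroup hf)
  have hinj : Function.Injective φ := by
    let e := Abelianization.of (PresentedGroup.of (rels := Spor.coxRelators Spor.Fi24.edges ∪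
      {r | r ∈ Spor.Fi24.extra}) Spor.Fi24.Gen.d)
    have hee : e ^ 2 = 1 := by
      rw [← map_pow]
      have hr : (FreeGroup.of Spor.Fi24.Gen.d * FreeGroup.of Spor.Fi24.Gen.d) ^ 1 ∈
          Spor.coxRelators Spor.Fi24.edges ∪ {r | r ∈ Spor.Fi24.extra} :=
        Or.inl ⟨.d, by decide, .d, by decide, rfl⟩
      have := PresentedGroup.one_of_mem hr
      rw [pow_one, ← pow_two] at this
      show Abelianization.of ((PresentedGroup.mk _ (FreeGroup.of _)) ^ 2) = 1
      rw [← map_pow (PresentedGroup.mk _), this, map_one]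
    let ψ : Multiplicative (ZMod 2) → Abelianization Spor.Fi24 := fun z =>
      if z = 1 then 1 else e
    have hψ : ∀ y : Abelianization Spor.Fi24, y = 1 ∨ y = e := by
      intro y
      obtain ⟨g, rfl⟩ : ∃ g, Abelianization.of g = y := QuotientGroup.mk_surjective y
      have hg : g ∈ Subgroup.closure (Set.range (PresentedGroup.of (rels := Spor.coxRelators Spor.Fi24.edges ∪
          {r | r ∈ Spor.Fi24.extra}))) := by rw [PresentedGroup.closure_range_of]; trivial
      induction hg using Subgroup.closure_induction with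
      | mem a ha => obtain ⟨a, rfl⟩ := ha; exact Or.inr (ab_gen a)
      | one => exact Or.inl (map_one _)
      | mul a b _ _ iha ihb =>
        rw [map_mul]
        rcases iha with h | h <;> rcases ihb with h' | h' <;> rw [h, h'] <;> simp [← pow_two, hee]
      | inv a _ iha =>
        rw [map_inv]
        rcases iha with h | h <;> rw [h]
        · simp
        · exact Or.inr (inv_eq_of_mul_eq_one_right (by rw [← pow_two, hee]))
    rw [injective_iff_map_eq_one]
    intro y hy
    rcases hψ y with rfl | rfl
    · rfl
    · simp [φ, e, f] at hy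
  have hsurj : Function.Surjective φ := by
    intro z
    have hz : z = 1 ∨ z = Multiplicative.ofAdd 1 := by revert z; decide
    rcases hz with rfl | rfl
    · exact ⟨1, map_one _⟩
    · exact ⟨Abelianization.of (PresentedGroup.of Spor.Fi24.Gen.d), by simp [φ, f]⟩
  rw [Subgroup.index]
  change Nat.card (Abelianization Spor.Fi24) = 2
  rw [Nat.card_eq_of_bijective φ ⟨hinj, hsurj⟩]
  simp

end Cfsg.Agent.S1691
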