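import Cfsg.Statements.S1717
-- import your own Cfsg.Agent.* helpers here

set_option autoImplicit false
open Cfsg

namespace Cfsg.Agent.S1717

open Matrix

abbrev SL52 : Type := Matrix.SpecialLinearGroup (Fin 5) (ZMod 2)

/-- A reordering of the five coordinates putting 0 first and 1 last. -/
def posOrd : Fin 5 → Fin 5 := ![0, 4, 1, 2, 3]

/-- Unitriangular for that ordering. -/
def IsUni (M : Matrix (Fin 5) (Fin 5) (ZMod 2)) : Prop :=
  ∀ i j, (posOrd j < posOrd i → M i j = 0) ∧ M i i = 1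

theorem posOrd_injective : Function.Injective posOrd := by decide

theorem isUni_one : IsUni 1 := fun i j =>
  ⟨fun h => Matrix.one_apply_ne (fun he => (lt_irrefl (posOrd i)) (by rw [he] at h ⊢; exact h)),
    Matrix.one_apply_eq i⟩

theorem isUni_mul {A B : Matrix (Fin 5) (Fin 5) (ZMod 2)} (hA : IsUni A) (hB : IsUni B) :
    IsUni (A * B) := by
  refine fun i j => ⟨fun h => ?_, ?_⟩
  · rw [Matrix.mul_apply]
    refine Finset.sum_eq_zero fun k _ => ?_
    by_cases hk : posOrd k < posOrd i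
    · rw [(hA i k).1 hk, zero_mul]
    · rw [(hB k j).1 (lt_of_lt_of_le h (not_lt.1 hk)), mul_zero]
  · rw [Matrix.mul_apply, Finset.sum_eq_single i]
    · rw [(hA i i).2, (hB i i).2, one_mul]
    · intro k _ hk
      rcases lt_or_gt_of_ne (fun he => hk (posOrd_injective he)) with h' | h'
      · rw [(hA i k).1 h', zero_mul]
      · rw [(hB k i).1 h', mul_zero]
    · exact fun h' => absurd (Finset.mem_univ i) h'

/-- The submonoid of unitriangular matrices. -/
def uniM : Submonoid SL52 where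
  carrier := {M | IsUni (M : Matrix (Fin 5) (Fin 5) (ZMod 2))}
  one_mem' := isUni_one
  mul_mem' := fun ha hb => isUni_mul ha hb

/-- The unitriangular subgroup. -/
def uni : Subgroup SL52 where
  toSubmonoid := uniM
  inv_mem' := by
    intro x hx
    have h1 : x⁻¹ = x ^ (orderOf x - 1) := inv_eq_of_mul_eq_one_right (by
      rw [← pow_succ', Nat.sub_add_cancel (orderOf_pos x), pow_orderOf_eq_one])
    rw [h1]
    exact uniM.pow_mem hx _

/-- The ten positions strictly above the diagonal. -/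
def upos : Fin 10 → Fin 5 × Fin 5 :=
  ![(0, 2), (0, 3), (0, 4), (0, 1), (2, 3), (2, 4), (2, 1), (3, 4), (3, 1), (4, 1)]

/-- The unitriangular matrix with given entries. -/
def umat (v : Fin 10 → ZMod 2) : Matrix (Fin 5) (Fin 5) (ZMod 2) :=
  !![1, v 3, v 0, v 1, v 2; 0, 1, 0, 0, 0; 0, v 6, 1, v 4, v 5; 0, v 8, 0, 1, v 7; 0, v 9, 0, 0, 1]

theorem upos_spec : ∀ i j : Fin 5, i ≠ j → (posOrd j < posOrd i ↔ ∀ k, upos k ≠ (i, j)) := by decide

theorem upos_injective : Function.Injective upos := by decide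

theorem upos_lt : ∀ k, posOrd (upos k).1 < posOrd (upos k).2 := by decide

theorem isUni_umat (v : Fin 10 → ZMod 2) : IsUni (umat v) := by
  intro i j
  fin_cases i <;> fin_cases j <;> simp [umat, posOrd]

theorem det_uni {M : Matrix (Fin 5) (Fin 5) (ZMod 2)} (hM : IsUni M) : M.det = 1 := by
  have hbt : M.BlockTriangular posOrd := fun i j h => (hM i j).1 h
  have h2 : ∀ x : ZMod 2, x ≠ 0 → x = 1 := by decide
  refine h2 _ ?_
  intro h0
  obtain ⟨v, hv, hMv⟩ := Matrix.exists_mulVec_eq_zero_iff.2 h0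
  obtain ⟨i, hi, hmax⟩ := Finset.exists_max_image (Finset.univ.filter fun i => v i ≠ 0) posOrd
    (by
      obtain ⟨i, hi⟩ := Function.ne_iff.1 hv
      exact ⟨i, Finset.mem_filter.2 ⟨Finset.mem_univ i, hi⟩⟩)
  have h3 : (M *ᵥ v) i = v i := by
    rw [Matrix.mulVec, dotProduct, Finset.sum_eq_single i]
    · rw [(hM i i).2, one_mul]
    · intro k _ hk
      by_cases hvk : v k = 0
      · rw [hvk, mul_zero]
      · have hle := hmax k (Finset.mem_filter.2 ⟨Finset.mem_univ k, hvk⟩)
        rw [(hM i k).1 (lt_of_le_of_ne hle fun he => hk (posOrd_injective he)), zero_mul]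
    · exact fun h' => absurd (Finset.mem_univ i) h'
  exact (Finset.mem_filter.1 hi).2 (by rw [← h3, hMv]; rfl)

/-- The parametrisation of the unitriangular group. -/
def uel (v : Fin 10 → ZMod 2) : uni := ⟨⟨umat v, det_uni (isUni_umat v)⟩, isUni_umat v⟩

theorem uel_entry (v : Fin 10 → ZMod 2) (k : Fin 10) :
    umat v (upos k).1 (upos k).2 = v k := by
  fin_cases k <;> rfl

theorem uel_bijective : Function.Bijective uel := by
  refine ⟨fun v w h => funext fun k => ?_, fun M => ⟨fun k => (M.1 : Matrix (Fin 5) (Fin 5) (ZMod 2))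
    (upos k).1 (upos k).2, ?_⟩⟩
  · rw [← uel_entry v k, ← uel_entry w k]
    exact congrArg (fun u : uni => (u.1 : Matrix (Fin 5) (Fin 5) (ZMod 2)) (upos k).1 (upos k).2) h
  · refine Subtype.ext (Subtype.ext ?_)
    refine Matrix.ext fun i j => ?_
    show umat (fun k => (M.1 : Matrix (Fin 5) (Fin 5) (ZMod 2)) (upos k).1 (upos k).2) i j
      = (M.1 : Matrix (Fin 5) (Fin 5) (ZMod 2)) i j
    by_cases hij : i = j
    · subst hij; rw [(isUni_umat _ i i).2, (M.2 i i).2]
    · by_cases hlt : posOrd j < posOrd i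
      · rw [(isUni_umat _ i j).1 hlt, (M.2 i j).1 hlt]
      · obtain ⟨k, hk⟩ : ∃ k, upos k = (i, j) := by
          by_contra hne
          exact hlt ((upos_spec i j hij).2 fun k h => hne ⟨k, h⟩)
        have := uel_entry (fun k => (M.1 : Matrix (Fin 5) (Fin 5) (ZMod 2)) (upos k).1 (upos k).2) k
        rw [hk] at this
        exact this

theorem card_uni : Nat.card uni = 2 ^ 10 := by
  rw [← Nat.card_eq_of_bijective uel uel_bijective]
  simp

theorem not_dvd_card_SL52 : ¬ 2 ^ 11 ∣ Nat.card SL52 := by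
  intro h
  have h1 : Nat.card SL52 ∣ Nat.card (GL (Fin 5) (ZMod 2)) :=
    Subgroup.card_dvd_of_injective Matrix.SpecialLinearGroup.toGL
      Matrix.SpecialLinearGroup.toGL_injective
  have h2 := h.trans h1
  rw [Matrix.card_GL_field] at h2
  simp [Fin.prod_univ_succ, ZMod.card] at h2

/-- Generators of the unitriangular group. -/
def gpos : Fin 4 → Fin 10 := ![0, 4, 7, 9]

theorem umat_commute_gen (v : Fin 10 → ZMod 2)
    (h : ∀ g : Fin 4, umat v * umat (Pi.single (gpos g) 1) = umat (Pi.single (gpos g) 1) * umat v) :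
      v = 0 ∨ v = Pi.single 3 1 := by
  have e : ∀ g i j, (umat v * umat (Pi.single (gpos g) 1)) i j
      = (umat (Pi.single (gpos g) 1) * umat v) i j := fun g i j => by rw [h g]
  have h4 : v 4 = 0 := by simpa [umat, gpos, Matrix.mul_apply, Fin.sum_univ_succ] using e 0 0 3
  have h5 : v 5 = 0 := by simpa [umat, gpos, Matrix.mul_apply, Fin.sum_univ_succ] using e 0 0 4
  have h6 : v 6 = 0 := by simpa [umat, gpos, Matrix.mul_apply, Fin.sum_univ_succ] using e 0 0 1
  have h0 : v 0 = 0 := by simpa [umat, gpos, Matrix.mul_apply, Fin.sum_univ_succ] using e 1 0 3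
  have h7 : v 7 = 0 := by simpa [umat, gpos, Matrix.mul_apply, Fin.sum_univ_succ] using e 1 2 4
  have h8 : v 8 = 0 := by simpa [umat, gpos, Matrix.mul_apply, Fin.sum_univ_succ] using e 1 2 1
  have h1 : v 1 = 0 := by simpa [umat, gpos, Matrix.mul_apply, Fin.sum_univ_succ] using e 2 0 4
  have h9 : v 9 = 0 := by simpa [umat, gpos, Matrix.mul_apply, Fin.sum_univ_succ] using e 2 3 1
  have h2 : v 2 = 0 := by simpa [umat, gpos, Matrix.mul_apply, Fin.sum_univ_succ] using e 3 0 1
  have h3 : v 3 = 0 ∨ v 3 = 1 := by generalize v 3 = x; revert x; decide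
  rcases h3 with h3 | h3
  · exact Or.inl (funext fun k => by fin_cases k <;> simp [h0, h1, h2, h3, h4, h5, h6, h7, h8, h9])
  · exact Or.inr (funext fun k => by fin_cases k <;> simp [h0, h1, h2, h3, h4, h5, h6, h7, h8, h9])

theorem transvection_eq_umat :
    Matrix.transvection (0 : Fin 5) 1 (1 : ZMod 2) = umat (Pi.single 3 1) := by decide +kernel

theorem umat_zero : umat 0 = 1 := by decide +kernel

theorem transvection_central (v : Fin 10 → ZMod 2) : umat (Pi.single 3 1) * umat v =
    umat v * umat (Pi.single 3 1) := by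
  ext i j
  fin_cases i <;> fin_cases j <;> simp [umat, Matrix.mul_apply, Fin.sum_univ_succ, add_comm]

theorem card_sylow_exists {s : SL52} (hs : (s : Matrix (Fin 5) (Fin 5) (ZMod 2)) = Matrix.transvection 0 1 1) :
    uni ≤ Subgroup.centralizer ({s} : Set SL52) ∧
      ∀ w ∈ uni, (∀ u ∈ uni, w * u = u * w) → w = 1 ∨ w = s := by
  constructor
  · intro u hu
    obtain ⟨v, hv⟩ := uel_bijective.2 ⟨u, hu⟩
    have hv' : umat v = (u : Matrix (Fin 5) (Fin 5) (ZMod 2)) :=
      congrArg (fun x : uni => (x.1 : Matrix (Fin 5) (Fin 5) (ZMod 2))) hv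
    rw [Subgroup.mem_centralizer_singleton_iff]
    refine Subtype.ext ?_
    show (u : Matrix (Fin 5) (Fin 5) (ZMod 2)) * (s : Matrix (Fin 5) (Fin 5) (ZMod 2))
      = (s : Matrix (Fin 5) (Fin 5) (ZMod 2)) * (u : Matrix (Fin 5) (Fin 5) (ZMod 2))
    rw [hs, transvection_eq_umat, ← hv', transvection_central]
  · intro w hw hcom
    obtain ⟨v, hv⟩ := uel_bijective.2 ⟨w, hw⟩
    have hv' : umat v = (w : Matrix (Fin 5) (Fin 5) (ZMod 2)) :=
      congrArg (fun x : uni => (x.1 : Matrix (Fin 5) (Fin 5) (ZMod 2))) hv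
    have hgen : ∀ g : Fin 4,
        umat v * umat (Pi.single (gpos g) 1) = umat (Pi.single (gpos g) 1) * umat v := fun g => by
      rw [hv']
      exact congrArg Subtype.val (hcom _ (uel (Pi.single (gpos g) 1)).2)
    rcases umat_commute_gen v hgen with h | h <;> rw [h] at hv'
    · exact Or.inl (Subtype.ext (hv'.symm.trans umat_zero))
    · exact Or.inr (Subtype.ext (hv'.symm.trans (transvection_eq_umat.symm.trans hs.symm)))

/-- A Sylow 2-subgroup of the centraliser of the transvection has centre of order two. -/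
theorem center_sylow {s : SL52} (hs : (s : Matrix (Fin 5) (Fin 5) (ZMod 2)) = Matrix.transvection 0 1 1)
    (P : Sylow 2 (Subgroup.centralizer ({s} : Set SL52))) :
    ∀ w ∈ P, (∀ u ∈ P, w * u = u * w) →
      w = 1 ∨ w = ⟨s, Subgroup.mem_centralizer_singleton_iff.2 rfl⟩ := by
  classical
  haveI : Fact (Nat.Prime 2) := ⟨Nat.prime_two⟩
  obtain ⟨hle, hcen⟩ := card_sylow_exists hs
  let U := uni.subgroupOf (Subgroup.centralizer ({s} : Set SL52))
  have hU : Nat.card U = 2 ^ 10 := by
    rw [← card_uni]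
    exact Nat.card_congr (Subgroup.subgroupOfEquivOfLe hle).toEquiv
  have hp : IsPGroup 2 U := IsPGroup.of_card hU
  obtain ⟨R, hR⟩ := hp.exists_le_sylow
  obtain ⟨m, hm⟩ := IsPGroup.iff_card.1 R.2
  have hm10 : m ≤ 10 := by
    by_contra hgt
    exact not_dvd_card_SL52 ((pow_dvd_pow 2 (by omega : 11 ≤ m)).trans
      (hm ▸ (Subgroup.card_subgroup_dvd_card (R : Subgroup (Subgroup.centralizer ({s} : Set SL52)))).trans
        (Subgroup.card_subgroup_dvd_card _)))
  have hRU : U = R := Subgroup.eq_of_le_of_card_ge hR (by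
    rw [hU, hm]; exact Nat.pow_le_pow_right (by norm_num) hm10)
  obtain ⟨g, hg⟩ := MulAction.exists_smul_eq (Subgroup.centralizer ({s} : Set SL52)) P R
  intro w hw hcom
  have hmem : ∀ u, u ∈ P → g * u * g⁻¹ ∈ R := fun u hu => by
    show g * u * g⁻¹ ∈ (R : Subgroup (Subgroup.centralizer ({s} : Set SL52)))
    rw [← hg, Sylow.coe_subgroup_smul]
    exact Subgroup.mem_smul_pointwise_iff_exists _ _ _ |>.2 ⟨u, hu, rfl⟩
  have hmem' : ∀ v, v ∈ R → g⁻¹ * v * g ∈ P := fun v hv => by
    replace hv : v ∈ (R : Subgroup (Subgroup.centralizer ({s} : Set SL52))) := hv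
    rw [← hg, Sylow.coe_subgroup_smul] at hv
    obtain ⟨u, hu, huv⟩ := Subgroup.mem_smul_pointwise_iff_exists _ _ _ |>.1 hv
    rw [← huv]
    simpa [MulAut.conj_apply, MulAut.smul_def, mul_assoc] using (show u ∈ P from hu)
  have hw' : ((g * w * g⁻¹ : Subgroup.centralizer ({s} : Set SL52)) : SL52) ∈ uni := by
    have : g * w * g⁻¹ ∈ (R : Subgroup (Subgroup.centralizer ({s} : Set SL52))) := hmem w hw
    rw [← hRU] at this
    exact this
  have := hcen _ hw' (fun u hu => by
    have hu' : (⟨u, hle hu⟩ : Subgroup.centralizer ({s} : Set SL52)) ∈ R := by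
      show (⟨u, hle hu⟩ : Subgroup.centralizer ({s} : Set SL52)) ∈ (R : Subgroup (Subgroup.centralizer ({s} : Set SL52)))
      rw [← hRU]; exact hu
    have h := hcom _ (hmem' _ hu')
    have h2 : (g * w * g⁻¹) * (⟨u, hle hu⟩ : Subgroup.centralizer ({s} : Set SL52))
        = ⟨u, hle hu⟩ * (g * w * g⁻¹) := by
      calc (g * w * g⁻¹) * (⟨u, hle hu⟩ : Subgroup.centralizer ({s} : Set SL52))
          = g * (w * (g⁻¹ * ⟨u, hle hu⟩ * g)) * g⁻¹ := by group
        _ = g * (g⁻¹ * ⟨u, hle hu⟩ * g * w) * g⁻¹ := by rw [h]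
        _ = ⟨u, hle hu⟩ * (g * w * g⁻¹) := by group
    exact congrArg Subtype.val h2)
  rcases this with h | h
  · left
    have h1 : g * w * g⁻¹ = 1 := Subtype.ext h
    exact conj_eq_one_iff.1 h1
  · right
    refine Subtype.ext ?_
    have hgs : (g : SL52) * s = s * g := Subgroup.mem_centralizer_singleton_iff.1 g.2
    have h1 : (g : SL52) * w * (g : SL52)⁻¹ = s := h
    calc (w : SL52) = (g : SL52)⁻¹ * ((g : SL52) * w * (g : SL52)⁻¹) * g := by group
      _ = s := by rw [h1, mul_assoc, ← hgs, inv_mul_cancel_left]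

/-- Let G be a finite group with an involution z whose centraliser C is isomorphic to the centraliser of a transvection of SL(5, 2). Then a Sylow 2-subgroup of C, viewed in G, is a Sylow 2-subgroup of G (its index in G is odd). -/
theorem result {G : Type*} [Group G] [Finite G] (s : Matrix.SpecialLinearGroup (Fin 5) (ZMod 2)) (hs : (s : Matrix (Fin 5) (Fin 5) (ZMod 2)) = Matrix.transvection 0 1 1) (z : G) (hz : orderOf z = 2) (e : (Subgroup.centralizer ({z} : Set G)) ≃* Subgroup.centralizer ({s} : Set (Matrix.SpecialLinearGroup (Fin 5) (ZMod 2)))) (T : Sylow 2 (Subgroup.centralizer ({z} : Set G))) : ¬ 2 ∣ ((T : Subgroup (Subgroup.centralizer ({z} : Set G))).map (Subgroup.subtype (Subgroup.centralizer ({z} : Set G)))).index := by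
  classical
  haveI : Fact (Nat.Prime 2) := ⟨Nat.prime_two⟩
  let C := Subgroup.centralizer ({z} : Set G)
  have hzC : z ∈ C := Subgroup.mem_centralizer_singleton_iff.2 rfl
  let zC : C := ⟨z, hzC⟩
  have hzc : ∀ c : C, zC * c = c * zC := fun c =>
    Subtype.ext (Subgroup.mem_centralizer_singleton_iff.1 c.2).symm
  have hzpow : zC ^ 2 = 1 := Subtype.ext (by
    show z ^ 2 = 1
    rw [← hz, pow_orderOf_eq_one])
  -- z lies in every Sylow 2-subgroup of its centraliser
  have hzT : zC ∈ T := by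
    have hp : IsPGroup 2 (Subgroup.zpowers zC) := by
      intro x
      obtain ⟨k, hk⟩ := Subgroup.mem_zpowers_iff.1 x.2
      exact ⟨1, Subtype.ext (by
        show (x : C) ^ (2 ^ 1) = 1
        rw [← hk, pow_one, ← zpow_natCast, ← _root_.zpow_mul, mul_comm, _root_.zpow_mul, zpow_natCast, hzpow, _root_.one_zpow])⟩
    have hn : (T : Subgroup C) ⊔ Subgroup.zpowers zC = T := by
      refine T.3 (T.2.to_sup_of_normal_right' hp ?_) le_sup_left
      intro x _
      rw [Subgroup.mem_normalizer_iff]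
      intro y
      constructor
      · intro hy
        obtain ⟨k, rfl⟩ := Subgroup.mem_zpowers_iff.1 hy
        refine Subgroup.mem_zpowers_iff.2 ⟨k, ?_⟩
        rw [(show Commute x zC from (hzc x).symm).zpow_right k, mul_inv_cancel_right]
      · intro hy
        obtain ⟨k, hk⟩ := Subgroup.mem_zpowers_iff.1 hy
        refine Subgroup.mem_zpowers_iff.2 ⟨k, ?_⟩
        calc zC ^ k = x⁻¹ * (x * zC ^ k) := by group
          _ = x⁻¹ * (zC ^ k * x) := by rw [(show Commute x zC from (hzc x).symm).zpow_right k]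
          _ = y := by rw [hk]; group
    show zC ∈ (T : Subgroup C)
    rw [← hn]
    exact Subgroup.mem_sup_right (Subgroup.mem_zpowers zC)
  have hz1 : zC ≠ 1 := fun h => by
    have h' : z = 1 := congrArg Subtype.val h
    rw [h', orderOf_one] at hz
    exact absurd hz (by norm_num)
  -- the centre of T is generated by z
  have hcenT : ∀ w ∈ T, (∀ u ∈ T, w * u = u * w) → w = 1 ∨ w = zC := by
    let Te : Sylow 2 (Subgroup.centralizer ({s} : Set SL52)) :=
      T.comapOfInjective e.symm.toMonoidHom e.symm.injective (by simp)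
    have hmemTe : ∀ x : C, x ∈ T → e x ∈ Te := fun x hx => by
      show e.symm (e x) ∈ T
      rwa [e.symm_apply_apply]
    have key : ∀ w ∈ T, (∀ u ∈ T, w * u = u * w) → e w = 1 ∨ e w = ⟨s, Subgroup.mem_centralizer_singleton_iff.2 rfl⟩ := by
      intro w hw hcom
      refine center_sylow hs Te (e w) (hmemTe w hw) fun u hu => ?_
      have hu' : e.symm u ∈ T := hu
      have := congrArg e (hcom _ hu')
      simpa using this
    intro w hw hcom
    rcases key w hw hcom with h | h
    · exact Or.inl (e.injective (h.trans (map_one e).symm))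
    · rcases key zC hzT (fun u _ => hzc u) with h' | h'
      · exact absurd (e.injective (h'.trans (map_one e).symm)) hz1
      · exact Or.inr (e.injective (h.trans h'.symm))
  intro hdvd
  set Tb := (T : Subgroup C).map C.subtype with hTb
  obtain ⟨R, hR⟩ := (T.2.map C.subtype).exists_le_sylow
  have hne : Tb ≠ R := fun h => R.not_dvd_index (h ▸ hdvd)
  have hlt : Tb.subgroupOf (R : Subgroup G) < ⊤ := lt_of_le_of_ne le_top fun h =>
    hne (le_antisymm hR (Subgroup.subgroupOf_eq_top.1 h))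
  haveI := R.2.isNilpotent
  have hN := Group.normalizerCondition_of_isNilpotent _ hlt
  obtain ⟨g, hgN, hgT⟩ := SetLike.exists_of_lt hN
  have hgT' : (g : G) ∉ Tb := hgT
  have hzTb : z ∈ Tb := ⟨zC, hzT, rfl⟩
  have hconj : ∀ x ∈ Tb, (g : G) * x * (g : G)⁻¹ ∈ Tb := fun x hx =>
    (Subgroup.mem_normalizer_iff.1 hgN ⟨x, hR hx⟩).1 hx
  have hinvconj : ∀ x ∈ Tb, (g : G)⁻¹ * x * (g : G) ∈ Tb := fun x hx => by
    have hgN' := inv_mem hgN
    have := (Subgroup.mem_normalizer_iff.1 hgN' ⟨x, hR hx⟩).1 hx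
    simpa [Subgroup.mem_subgroupOf] using this
  obtain ⟨w, hw, hwz⟩ := hconj z hzTb
  have hw1 : w = 1 ∨ w = zC := by
    refine hcenT w hw fun u hu => ?_
    obtain ⟨v, hv, hvu⟩ := hinvconj (u : G) ⟨u, hu, rfl⟩
    refine Subtype.ext ?_
    have hv' : (v : G) = (g : G)⁻¹ * (u : G) * g := hvu
    have hwz' : (w : G) = (g : G) * z * (g : G)⁻¹ := hwz
    have hvz : z * (v : G) = v * z := congrArg Subtype.val (hzc v)
    show (w : G) * (u : G) = (u : G) * (w : G)
    have hu' : (u : G) = (g : G) * v * (g : G)⁻¹ := by rw [hv']; group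
    rw [hwz', hu']
    calc (g : G) * z * (g : G)⁻¹ * ((g : G) * v * (g : G)⁻¹) = (g : G) * (z * v) * (g : G)⁻¹ := by group
      _ = (g : G) * (v * z) * (g : G)⁻¹ := by rw [hvz]
      _ = (g : G) * v * (g : G)⁻¹ * ((g : G) * z * (g : G)⁻¹) := by group
  have hgC : (g : G) ∈ C := by
    rcases hw1 with h | h
    · exfalso
      have h2 : (g : G) * z * (g : G)⁻¹ = 1 := hwz.symm.trans (by rw [h]; rfl)
      rw [conj_eq_one_iff] at h2
      rw [h2, orderOf_one] at hz
      exact absurd hz (by norm_num)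
    · rw [Subgroup.mem_centralizer_singleton_iff]
      have h2 : (g : G) * z * (g : G)⁻¹ = z := hwz.symm.trans (by rw [h]; rfl)
      exact mul_inv_eq_iff_eq_mul.1 h2
  -- so g lies in a 2-subgroup of C containing T
  have hP : (R : Subgroup G).subgroupOf C = T := by
    refine T.3 ?_ ?_
    · exact R.2.comap_of_injective C.subtype Subtype.val_injective
    · intro x hx
      exact hR ⟨x, hx, rfl⟩
  have : (⟨(g : G), hgC⟩ : C) ∈ (R : Subgroup G).subgroupOf C := g.2
  rw [hP] at this
  exact hgT' ⟨⟨(g : G), hgC⟩, this, rfl⟩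

end Cfsg.Agent.S1717
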