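import Cfsg.Statements.S1722
import Cfsg.Agent.Lib.Characterizations.HallJanko.Five

set_option autoImplicit false
open Cfsg

namespace Cfsg.Agent.S1722

/-- Sylow 5-structure of a group of Hall–Janko type (large-extraspecial hypothesis with Q of order 32, quotient Ω⁻(4, 2), z not weakly closed in Q, more than one class of involutions): a Sylow 5-subgroup P is its own centraliser, has order 25, its normaliser has order 300, and the subgroups of order 5 fall into exactly two conjugacy classes. -/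
theorem result {G : Type*} [Group G] [Finite G] (z : G) (hz : orderOf z = 2) (Q : Subgroup (Subgroup.centralizer ({z} : Set G))) [Q.Normal] (hF : Cfsg.generalizedFittingSubgroup (Subgroup.centralizer ({z} : Set G)) = Q) (hQ : Cfsg.IsExtraspecial 2 Q) (hcard : Nat.card Q = 2 ^ 5) (e : (Subgroup.centralizer ({z} : Set G)) ⧸ Q ≃* Cfsg.Omega (ZMod 2) (Cfsg.quadFormMinus 1 (ZMod 2) 1 1)) (hnwc : ∃ g : G, (∃ hq : g * z * g⁻¹ ∈ Subgroup.centralizer ({z} : Set G), (⟨g * z * g⁻¹, hq⟩ : Subgroup.centralizer ({z} : Set G)) ∈ Q) ∧ g * z * g⁻¹ ≠ z) (hcl : ∃ x y : G, orderOf x = 2 ∧ orderOf y = 2 ∧ ¬ IsConj x y) (P : Sylow 5 G) : Subgroup.centralizer ((P : Subgroup G) : Set G) = P ∧ Nat.card P = 25 ∧ Nat.card (Subgroup.normalizer ((P : Subgroup G) : Set G)) = 300 ∧ ∃ X Y : Subgroup G, Nat.card X = 5 ∧ Nat.card Y = 5 ∧ (∀ g : G, X.map (MulAut.conj g).toMonoidHom ≠ Y) ∧ ∀ W : Subgroup G, Nat.card W = 5 → ∃ g : G, W.map (MulAut.conj g).toMonoidHom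 = X ∨ W.map (MulAut.conj g).toMonoidHom = Y := by
  classical
  haveI : Fact (Nat.Prime 5) := ⟨by norm_num⟩
  obtain ⟨Q', K, hJ⟩ := CfsgLib.Characterizations.HallJanko.exists_hj z hz Q hF hQ hcard e hnwc hcl
  obtain ⟨t, P', B, hd⟩ := hJ.exists_data
  obtain ⟨hc, h25, hn, hall⟩ := hd.five P
  refine ⟨hc, h25, hn, ?_⟩
  obtain ⟨r, hrB, hr⟩ := hd.exists_five_B
  obtain ⟨g₀, hg₀, hg₀o⟩ := hd.m.hj.setting.pre.has_five
  refine ⟨Subgroup.zpowers r, Subgroup.zpowers g₀, by rw [Nat.card_zpowers, hr], by rw [Nat.card_zpowers, hg₀o],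
    fun g hg => ?_, fun W hW => ?_⟩
  · have hm : g * r * g⁻¹ ∈ Subgroup.zpowers g₀ := hg ▸ ⟨r, Subgroup.mem_zpowers r, rfl⟩
    refine hd.not_RType ?_ ((hd.RType_of_B hrB hr).conj g)
    exact Subgroup.zpowers_le.2 (hd.m.hj.K_le hg₀) hm
  · obtain ⟨⟨w, hwW⟩, hw⟩ := exists_prime_orderOf_dvd_card' (G := ↥W) 5 (by rw [hW])
    rw [← Subgroup.orderOf_coe] at hw
    simp only at hw
    have hWw : W = Subgroup.zpowers w :=
      (Subgroup.eq_of_le_of_card_ge (Subgroup.zpowers_le.2 hwW) (by rw [hW, Nat.card_zpowers, hw])).symm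
    obtain ⟨g, hg⟩ := hall r hrB hr g₀ hg₀ hg₀o w hw
    have hne : g * w * g⁻¹ ≠ 1 := fun h => by
      rw [conj_eq_one_iff] at h; rw [h, orderOf_one] at hw; norm_num at hw
    refine ⟨g, ?_⟩
    rw [hWw, MonoidHom.map_zpowers]
    simp only [MulEquiv.coe_toMonoidHom, MulAut.conj_apply]
    exact hg.imp (fun h => (CfsgLib.Characterizations.HallJanko.zpowers_eq_of_mem hr h hne).2)
      (fun h => (CfsgLib.Characterizations.HallJanko.zpowers_eq_of_mem hg₀o h hne).2)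

end Cfsg.Agent.S1722
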