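import Cfsg.Statements.S1724
import Cfsg.Agent.Lib.Characterizations.HallJanko.Seven

set_option autoImplicit false
open Cfsg

namespace Cfsg.Agent.S1724

/-- In a group of Hall–Janko type (large-extraspecial hypothesis with Q of order 32, quotient Ω⁻(4, 2), z not weakly closed in Q, more than one class of involutions), a Sylow 7-subgroup is its own centraliser and its normaliser is non-abelian of order 42. -/
theorem result {G : Type*} [Group G] [Finite G] (z : G) (hz : orderOf z = 2) (Q : Subgroup (Subgroup.centralizer ({z} : Set G))) [Q.Normal] (hF : Cfsg.generalizedFittingSubgroup (Subgroup.centralizer ({z} : Set G)) = Q) (hQ : Cfsg.IsExtraspecial 2 Q) (hcard : Nat.card Q = 2 ^ 5) (e : (Subgroup.centralizer ({z} : Set G)) ⧸ Q ≃* Cfsg.Omega (ZMod 2) (Cfsg.quadFormMinus 1 (ZMod 2) 1 1)) (hnwc : ∃ g : G, (∃ hq : g * z * g⁻¹ ∈ Subgroup.centralizer ({z} : Set G), (⟨g * z * g⁻¹, hq⟩ : Subgroup.centralizer ({z} : Set G)) ∈ Q) ∧ g * z * g⁻¹ ≠ z)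 (hcl : ∃ x y : G, orderOf x = 2 ∧ orderOf y = 2 ∧ ¬ IsConj x y) (D : Sylow 7 G) : Subgroup.centralizer ((D : Subgroup G) : Set G) = D ∧ Nat.card (Subgroup.normalizer ((D : Subgroup G) : Set G)) = 42 ∧ ¬ IsMulCommutative (Subgroup.normalizer ((D : Subgroup G) : Set G)) := by
  classical
  haveI : Fact (Nat.Prime 7) := ⟨by norm_num⟩
  obtain ⟨Q', K, hJ⟩ := CfsgLib.Characterizations.HallJanko.exists_hj z hz Q hF hQ hcard e hnwc hcl
  obtain ⟨t, P', B, hd⟩ := hJ.exists_data
  obtain ⟨hc, hn⟩ := hd.seven D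
  refine ⟨hc, hn, fun hab => ?_⟩
  obtain ⟨k, hk⟩ := D.2.exists_card_eq
  have hle : Subgroup.normalizer ((D : Subgroup G) : Set G) ≤ Subgroup.centralizer ((D : Subgroup G) : Set G) :=
    fun n hn => Subgroup.mem_centralizer_iff.2 fun d hd =>
      congrArg Subtype.val (hab.is_comm.comm ⟨d, Subgroup.le_normalizer hd⟩ ⟨n, hn⟩)
  have h1 := Subgroup.card_dvd_of_le hle
  rw [hc, hn, hk] at h1
  have h2 : 2 ∣ 7 := Nat.prime_two.dvd_of_dvd_pow ((show 2 ∣ 42 by norm_num).trans h1)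
  norm_num at h2

end Cfsg.Agent.S1724
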