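import Cfsg.Statements.S1743
import Cfsg.Agent.Lib.Chevalley.G2SylowExists
import Cfsg.Agent.Lib.Fusion.G2Type.Main

set_option autoImplicit false
open Cfsg

namespace Cfsg.Agent.S1743

/-- Let G be a finite simple group whose Sylow 2-subgroups are isomorphic to a Sylow 2-subgroup of the Chevalley group of type G₂ over a finite field of odd order, and let S be a Sylow 2-subgroup of G. Then either all involutions of G are conjugate, or S has order 64 and the involutions of G form exactly two conjugacy classes. -/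
theorem result {G : Type*} [Group G] [Finite G] [IsSimpleGroup G]
    {F : Type*} [Field F] [Fintype F] (hF : Odd (Fintype.card F)) (S : Sylow 2 G) (P : Sylow 2 ↥(Cfsg.Lie.chevG2.group F))
    (hS : Nonempty (↥(S : Subgroup G) ≃* ↥(P : Subgroup ↥(Cfsg.Lie.chevG2.group F)))) :
    (∀ x y : G, orderOf x = 2 → orderOf y = 2 → IsConj x y) ∨
      (Nat.card ↥(S : Subgroup G) = 64 ∧ ∃ x y : G, orderOf x = 2 ∧ orderOf y = 2 ∧ ¬ IsConj x y ∧
        ∀ z : G, orderOf z = 2 → IsConj z x ∨ IsConj z y) := by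
  haveI : Fact (Nat.Prime 2) := ⟨Nat.prime_two⟩
  revert P
  rw [← CfsgLib.Chevalley.Data.G2.datum_eq]
  intro P hS
  obtain ⟨k, P0, ⟨σ⟩⟩ := CfsgLib.Chevalley.G2Inv.exists_shape (F := F) hF
  haveI : Finite (CfsgLib.Chevalley.G2Inv.GG F) := Nat.finite_of_card_ne_zero (by
    rw [CfsgLib.Chevalley.G2Inv.card_GG]
    have hq : 1 < Fintype.card F := Fintype.one_lt_card
    have h2 : 1 < Fintype.card F ^ 2 := Nat.one_lt_pow (by norm_num) hq
    have h6 : 1 < Fintype.card F ^ 6 := Nat.one_lt_pow (by norm_num) hq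
    exact Nat.mul_ne_zero (Nat.mul_ne_zero (by omega) (by omega)) (by omega))
  obtain ⟨e⟩ := hS
  exact (σ.map ((Sylow.equiv P0 P).trans e.symm)).involution_classes

end Cfsg.Agent.S1743
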