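import Cfsg.Statements.S1753
-- import your own Cfsg.Agent.* helpers here

set_option autoImplicit false
universe u
open Cfsg

namespace Cfsg.Agent.S1753

/-- Let K be any property of groups. (1) If G is a minimal counterexample relative to K — a finite non-abelian simple group not satisfying K such that every finite non-abelian simple group of smaller order satisfies K — then every proper subgroup of G is a K-group (all its non-abelian simple sections satisfy K), since such sections have smaller order than G. (2) Consequently (induction on the order), if every finite non-abelian simple group all of whose proper subgroups are K-groups satisfies K, then every finite non-abelian simple group satisfies K. -/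
theorem result (K : ∀ (X : Type u) [Group X], Prop) :
    (∀ (G : Type u) [Group G], Cfsg.IsMinCounterexampleWith K G → Cfsg.IsKProperWith K G) ∧
      ((∀ (X : Type u) [Group X] [Finite X], IsSimpleGroup X → ¬ IsMulCommutative X → Cfsg.IsKProperWith K X → K X) →
        ∀ (G : Type u) [Group G] [Finite G], IsSimpleGroup G → ¬ IsMulCommutative G → K G) := by
  constructor
  · rintro G _ ⟨hfin, -, -, -, hmin⟩ H hH H' N _ hs hc
    refine hmin (H' ⧸ N) hs hc ?_
    have h1 : Nat.card (H' ⧸ N) ≤ Nat.card H' :=
      Nat.card_le_card_of_surjective _ (QuotientGroup.mk'_surjective N)
    have h2 : Nat.card H' ≤ Nat.card H := Subgroup.card_le_card_group H'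
    have h3 : Nat.card H ≠ Nat.card G := fun h => hH (Subgroup.eq_top_of_card_eq H h)
    have h4 : Nat.card H ≤ Nat.card G := Subgroup.card_le_card_group H
    omega
  · intro h
    suffices h' : ∀ (n : ℕ) (G : Type u) [Group G] [Finite G],
        IsSimpleGroup G → ¬ IsMulCommutative G → Nat.card G ≤ n → K G from
      fun G _ _ hs hc => h' _ G hs hc le_rfl
    intro n
    induction n with
    | zero => intro G _ _ _ _ hn; have := Nat.card_pos (α := G); omega
    | succ n ih =>
      intro G _ _ hs hc hn
      refine h G hs hc ?_
      intro H hH H' N _ hs' hc'
      refine ih (H' ⧸ N) hs' hc' ?_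
      have h1 : Nat.card (H' ⧸ N) ≤ Nat.card H' :=
        Nat.card_le_card_of_surjective _ (QuotientGroup.mk'_surjective N)
      have h2 : Nat.card H' ≤ Nat.card H := Subgroup.card_le_card_group H'
      have h3 : Nat.card H ≠ Nat.card G := fun h => hH (Subgroup.eq_top_of_card_eq H h)
      have h4 : Nat.card H ≤ Nat.card G := Subgroup.card_le_card_group H
      omega

end Cfsg.Agent.S1753
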