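import Cfsg.Statements.S1754
import Cfsg.Agent.Lib.Components.Quasisimple
-- import your own Cfsg.Agent.* helpers here

set_option autoImplicit false
open Cfsg

namespace Cfsg.Agent.S1754

/-- Let A be a standard subgroup of the finite group G (A quasisimple, C_G(A) tightly embedded of even order, A commuting elementwise with no other conjugate of itself, and N_G(A) = N_G(C_G(A))), and let t be an involution of G centralizing A. Then the centralizer of t lies in the normalizer of A; in particular A, viewed inside C_G(t), is a component of C_G(t). -/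
theorem result {G : Type*} [Group G] [Finite G]
    (A : Subgroup G) (hA : Cfsg.IsStandardSubgroup A) (t : G) (ht : orderOf t = 2) (htA : t ∈ Subgroup.centralizer (A : Set G)) :
    Subgroup.centralizer ({t} : Set G) ≤ Subgroup.normalizer (A : Set G) ∧
      Cfsg.IsComponent (A.subgroupOf (Subgroup.centralizer ({t} : Set G))) := by
  obtain ⟨hq, ⟨-, htight⟩, -, hN⟩ := hA
  have hle : Subgroup.centralizer ({t} : Set G) ≤ Subgroup.normalizer (A : Set G) := by
    intro x hx
    rw [hN]
    by_contra hxN
    have hodd := htight x hxN
    have hxt : x * t * x⁻¹ = t := by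
      rw [Subgroup.mem_centralizer_singleton_iff] at hx
      rw [hx, mul_assoc, mul_inv_cancel, mul_one]
    have hmem : t ∈ Subgroup.centralizer (A : Set G) ⊓
        (Subgroup.centralizer (A : Set G)).map (MulAut.conj x).toMonoidHom := ⟨htA, t, htA, hxt⟩
    exact Nat.not_even_iff_odd.mpr hodd (even_iff_two_dvd.mpr (ht ▸ Subgroup.orderOf_dvd_natCard _ hmem))
  refine ⟨hle, ?_⟩
  have hAC : A ≤ Subgroup.centralizer ({t} : Set G) := fun a ha =>
    Subgroup.mem_centralizer_singleton_iff.mpr (Subgroup.mem_centralizer_iff.mp htA a ha)
  have : (A.subgroupOf (Subgroup.centralizer ({t} : Set G))).Normal :=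
    (Subgroup.normal_subgroupOf_iff_le_normalizer hAC).mpr hle
  exact ⟨Subgroup.Normal.isSubnormal this,
    CfsgLib.Components.IsQuasisimple.of_mulEquiv hq (Subgroup.subgroupOfEquivOfLe hAC).symm⟩

end Cfsg.Agent.S1754
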