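import Cfsg.Statements.S1755
import Cfsg.Agent.Lib.Solvable.Cores
import Cfsg.Agent.Lib.Components.GenFitting
import Cfsg.Agent.Lib.Solvable.FrattiniFitting
import Cfsg.Agent.Lib.LocalEven.StronglyEmbedded
-- import your own Cfsg.Agent.* helpers here

set_option autoImplicit false
open Cfsg

namespace Cfsg.Agent.S1755

/-- A cyclic group has at most one involution. -/
theorem involution_unique {K : Type*} [Group K] [Finite K] [IsCyclic K] {x y : K}
    (hx : orderOf x = 2) (hy : orderOf y = 2) : x = y := by
  classical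
  have := Fintype.ofFinite K
  have h := IsCyclic.card_orderOf_eq_totient (α := K) (d := 2) (hx ▸ orderOf_dvd_card)
  rw [show Nat.totient 2 = 1 by rfl, Finset.card_eq_one] at h
  obtain ⟨a, ha⟩ := h
  have h1 : x ∈ ({a} : Finset K) := ha ▸ Finset.mem_filter.mpr ⟨Finset.mem_univ _, hx⟩
  have h2 : y ∈ ({a} : Finset K) := ha ▸ Finset.mem_filter.mpr ⟨Finset.mem_univ _, hy⟩
  rw [Finset.mem_singleton] at h1 h2
  rw [h1, h2]


theorem main {G : Type*} [Group G] [Finite G] (z : G) (hz : orderOf z = 2) (C : Subgroup G)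
    (hC : ∀ x, x ∈ C ↔ x * z = z * x) (Q : Subgroup C) [Q.Normal]
    (hQF : Cfsg.fittingSubgroup C ≤ Q) (hQ : Cfsg.IsOfSymplecticType Q)
    (B : Subgroup Q) (hBc : B.Characteristic) (hBa : IsMulCommutative B) (g : G) :
    ((B.map Q.subtype).map C.subtype).map (MulAut.conj g).toMonoidHom = (B.map Q.subtype).map C.subtype ∨
      ((B.map Q.subtype).map C.subtype).map (MulAut.conj g).toMonoidHom ⊓ (B.map Q.subtype).map C.subtype = ⊥ := by
  have : Fact (Nat.Prime 2) := ⟨Nat.prime_two⟩
  set B' : Subgroup G := (B.map Q.subtype).map C.subtype with hB'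
  by_cases hB1 : B = ⊥
  · exact Or.inr (by rw [hB', hB1]; simp)
  have hzC : z ∈ C := (hC z).mpr rfl
  have hzQ : (⟨z, hzC⟩ : C) ∈ Q := hQF <| CfsgLib.Solvable.Cores.le_fittingSubgroup (N := Subgroup.center C) (by open scoped IsMulCommutative in infer_instance) <|
    Subgroup.mem_center_iff.mpr fun x => Subtype.ext ((hC _).mp x.2)
  set w : Q := ⟨⟨z, hzC⟩, hzQ⟩ with hw
  have hwo : orderOf w = 2 := by
    rw [← orderOf_injective _ Q.subtype_injective w, ← orderOf_injective _ C.subtype_injective]
    exact hz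
  have hwc : w ∈ Subgroup.center Q := Subgroup.mem_center_iff.mpr fun x =>
    Subtype.ext (Subtype.ext ((hC _).mp x.1.2))
  have hZcyc : IsCyclic (Subgroup.center Q) := hQ.2 _ inferInstance inferInstance
  have hBcyc : IsCyclic B := hQ.2 _ hBc hBa
  have : Group.IsNilpotent Q := hQ.1.isNilpotent
  have hwB : w ∈ B := by
    have hne := CfsgLib.Solvable.FrattiniFitting.inf_center_ne_bot B hB1
    obtain ⟨b, hb, hb2⟩ := CfsgLib.LocalEven.StronglyEmbedded.exists_order_p (p := 2)
      ((hQ.1.to_subgroup (B ⊓ Subgroup.center Q))) hne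
    have := involution_unique (x := (⟨b, hb.2⟩ : Subgroup.center Q)) (y := ⟨w, hwc⟩)
      ((orderOf_injective _ (Subgroup.center Q).subtype_injective _).symm.trans hb2)
      ((orderOf_injective _ (Subgroup.center Q).subtype_injective _).symm.trans hwo)
    have e : b = w := congrArg Subtype.val this
    rw [← e]
    exact hb.1
  have hcyc' : IsCyclic B' := isCyclic_of_injective
    (((B.map Q.subtype).equivMapOfInjective C.subtype C.subtype_injective).symm.trans
      (B.equivMapOfInjective Q.subtype Q.subtype_injective).symm).toMonoidHom (MulEquiv.injective _)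
  have hzB : z ∈ B' := ⟨⟨z, hzC⟩, ⟨w, hwB, rfl⟩, rfl⟩
  rcases eq_or_ne (B'.map (MulAut.conj g).toMonoidHom ⊓ B') ⊥ with h | h
  · exact Or.inr h
  left
  have hBp : IsPGroup 2 B' := ((hQ.1.to_subgroup B).map _).map _
  obtain ⟨b, ⟨⟨c, hc, hcb⟩, hb⟩, hb2⟩ :=
    CfsgLib.LocalEven.StronglyEmbedded.exists_order_p (p := 2) (hBp.to_le inf_le_right) h
  have hbz : b = z := congrArg Subtype.val <| involution_unique (x := (⟨b, hb⟩ : B')) (y := ⟨z, hzB⟩)
      ((orderOf_injective _ B'.subtype_injective _).symm.trans hb2)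
      ((orderOf_injective _ B'.subtype_injective _).symm.trans hz)
  have hc2 : orderOf c = 2 := by
    have h1 := orderOf_injective (MulAut.conj g).toMonoidHom (MulAut.conj g).injective c
    rw [hcb, hb2] at h1
    exact h1.symm
  have hcz : c = z := congrArg Subtype.val <| involution_unique (x := (⟨c, hc⟩ : B')) (y := ⟨z, hzB⟩)
      ((orderOf_injective _ B'.subtype_injective _).symm.trans hc2)
      ((orderOf_injective _ B'.subtype_injective _).symm.trans hz)
  rw [hcz, hbz] at hcb
  have hgC : g ∈ C := (hC _).mpr (by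
    have h1 : g * z * g⁻¹ = z := hcb
    exact (mul_inv_eq_iff_eq_mul.mp h1))
  have hBn : (B.map Q.subtype).Normal := ConjAct.normal_of_characteristic_of_normal
  ext x
  constructor
  · rintro ⟨_, ⟨y, hy, rfl⟩, rfl⟩
    exact ⟨_, hBn.conj_mem y hy ⟨g, hgC⟩, rfl⟩
  · rintro ⟨y, hy, rfl⟩
    exact ⟨_, ⟨_, hBn.conj_mem y hy ⟨g⁻¹, inv_mem hgC⟩, rfl⟩, by simp [mul_assoc]⟩


/-- Let G be a finite group and let z be an involution of G such that Q, the generalized Fitting subgroup of the centralizer C of z, is a 2-group of symplectic type (every characteristic abelian subgroup of Q is cyclic). Let B be a characteristic abelian subgroup of Q, viewed as a subgroup of G. Then for every g in G, the conjugate of B by g either equals B or meets B trivially. -/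
theorem result {G : Type*} [Group G] [Finite G] (z : G) (hz : orderOf z = 2) (hQ : Cfsg.IsOfSymplecticType ↥(Cfsg.generalizedFittingSubgroup ↥(Subgroup.centralizer ({z} : Set G))))
    (B : Subgroup ↥(Cfsg.generalizedFittingSubgroup ↥(Subgroup.centralizer ({z} : Set G)))) (hBc : B.Characteristic) (hBa : IsMulCommutative ↥B) (g : G) :
    ((B.map (Cfsg.generalizedFittingSubgroup ↥(Subgroup.centralizer ({z} : Set G))).subtype).map (Subgroup.centralizer ({z} : Set G)).subtype).map (MulAut.conj g).toMonoidHom =
        (B.map (Cfsg.generalizedFittingSubgroup ↥(Subgroup.centralizer ({z} : Set G))).subtype).map (Subgroup.centralizer ({z} : Set G)).subtype ∨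
      ((B.map (Cfsg.generalizedFittingSubgroup ↥(Subgroup.centralizer ({z} : Set G))).subtype).map (Subgroup.centralizer ({z} : Set G)).subtype).map (MulAut.conj g).toMonoidHom ⊓
        (B.map (Cfsg.generalizedFittingSubgroup ↥(Subgroup.centralizer ({z} : Set G))).subtype).map (Subgroup.centralizer ({z} : Set G)).subtype = ⊥ := by
  have hn : (Cfsg.generalizedFittingSubgroup ↥(Subgroup.centralizer ({z} : Set G))).Normal :=
    inferInstance
  exact main z hz _ (fun _ => Subgroup.mem_centralizer_singleton_iff) _ le_sup_right hQ B hBc hBa g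

end Cfsg.Agent.S1755
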