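import Cfsg.Statements.S1756
import Cfsg.Agent.Lib.KGroups.ExtraspecialDual
-- import your own Cfsg.Agent.* helpers here

set_option autoImplicit false
open Cfsg
open scoped commutatorElement

namespace Cfsg.Agent.S1756

open CfsgLib.LocalEvenB.ExtraspecialAut CfsgLib.KGroups.ExtraspecialDual in
/-- An involutory automorphism fixing a subgroup of index two is inner. -/
theorem inner_of_index_two {Q : Type*} [Group Q] [Finite Q] (hQ : Cfsg.IsExtraspecial 2 Q) (φ : Q →* Q)
    (hφ : ∀ x, φ (φ x) = x) (C : Subgroup Q) (hC : ∀ x, x ∈ C ↔ φ x = x) (hi : C.index = 2) :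
    ∃ u : Q, ∀ x, φ x = u * x * u⁻¹ := by
  obtain ⟨q, hq⟩ : ∃ q : Q, q ∉ C := by
    by_contra h
    push Not at h
    have : C = ⊤ := eq_top_iff.mpr fun x _ => h x
    rw [this, Subgroup.index_top] at hi
    omega
  have hmem : ∀ x : Q, x ∉ C → q * x ∈ C := fun x hx =>
    (Subgroup.mul_mem_iff_of_index_two hi).mpr (iff_of_false hq hx)
  have hsq : ∀ x : Q, x * x ∈ C := fun x => (Subgroup.mul_mem_iff_of_index_two hi).mpr Iff.rfl
  -- the centre is fixed
  have hZC : Subgroup.center Q ≤ C := by
    intro z hz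
    by_contra hzC
    have hc : φ z ∈ Subgroup.center Q := Subgroup.mem_center_iff.mpr fun y => by
      rw [← hφ y, ← map_mul, ← map_mul, Subgroup.mem_center_iff.mp hz (φ y)]
    exact hzC ((hC z).mpr (center_eq hQ hc hz (fun h => hzC (by
      have := hφ z; rw [h, map_one] at this; exact this ▸ C.one_mem)) (fun h => hzC (h ▸ C.one_mem))))
  -- a non-central element centralising C
  have h4 := card_mul hQ hZC
  have h2 := C.card_mul_index
  rw [hi] at h2
  obtain ⟨u, hu, huZ⟩ : ∃ u ∈ Subgroup.centralizer (C : Set Q), u ∉ Subgroup.center Q :=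
    SetLike.not_le_iff_exists.mp fun hle => by
      have h5 := Subgroup.card_le_of_le hle
      rw [hQ.2] at h5
      have h6 := Nat.card_pos (α := C)
      have h7 := Nat.mul_le_mul_right (Nat.card C) h5
      omega
  have huq : ¬ Commute u q := fun h => huZ <| Subgroup.mem_center_iff.mpr fun x => by
    by_cases hx : x ∈ C
    · exact Subgroup.mem_centralizer_iff.mp hu x hx
    · have h1 : Commute u (q * x) := (Subgroup.mem_centralizer_iff.mp hu _ (hmem x hx)).symm
      have h5 := h.inv_right.mul_right h1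
      rw [inv_mul_cancel_left] at h5
      exact h5.symm
  -- d := q⁻¹ φ q centralises C
  set d := q⁻¹ * φ q with hd
  have hφq : φ q = q * d := by rw [hd, mul_inv_cancel_left]
  have hdC : ∀ c ∈ C, Commute c d := by
    intro c hc
    have hn : q * c * q⁻¹ ∈ C := (Subgroup.normal_of_index_eq_two hi).conj_mem c hc q
    have h1 := (hC _).mp hn
    rw [map_mul, map_mul, map_inv, (hC c).mp hc, hφq] at h1
    have h5 : d * c * d⁻¹ = c := by
      have := congrArg (fun w => q⁻¹ * w * q) h1
      simpa [mul_assoc] using this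
    exact (mul_inv_eq_iff_eq_mul.mp h5).symm
  have hdZ : d ∈ Subgroup.center Q := by
    by_contra hdZ
    have hdC' : d ∈ C := by
      by_contra hdn
      refine hdZ (Subgroup.mem_center_iff.mpr fun x => ?_)
      by_cases hx : x ∈ C
      · exact hdC x hx
      · have h1 : Commute (d * x) d := hdC _ ((Subgroup.mul_mem_iff_of_index_two hi).mpr (iff_of_false hdn hx))
        have h5 := (Commute.refl d).inv_left.mul_left h1
        rw [inv_mul_cancel_left] at h5
        exact h5
    have hd2 : d * d = 1 := by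
      have h1 := hφ q
      rw [hφq, map_mul, hφq, (hC d).mp hdC', mul_assoc] at h1
      exact mul_eq_left.mp h1
    have hqd : ¬ Commute q d := fun h => hdZ <| Subgroup.mem_center_iff.mpr fun x => by
      by_cases hx : x ∈ C
      · exact hdC x hx
      · have h5 := h.inv_left.mul_left (hdC _ (hmem x hx))
        rw [inv_mul_cancel_left] at h5
        exact h5
    have h1 : φ (q * q) = q * q := (hC _).mp (hsq q)
    rw [map_mul, hφq, mul_assoc] at h1
    have h5 : d * q * d = q := mul_left_cancel (a := q) (by simpa [mul_assoc] using h1)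
    apply hqd
    have h6 := congrArg (fun w => d * w) h5
    simp only [← mul_assoc, hd2, one_mul] at h6
    exact h6
  refine ⟨u, ?_⟩
  have hd1 : d ≠ 1 := fun h => hq ((hC q).mpr (by rw [hφq, h, mul_one]))
  have huq' : ⁅u, q⁆ ≠ 1 := fun h => huq (commutatorElement_eq_one_iff_commute.mp h)
  have heq : ⁅u, q⁆ = d := center_eq hQ (comm_mem hQ u q) hdZ huq' hd1
  have hgq : φ q = u * q * u⁻¹ := by
    rw [hφq, Subgroup.mem_center_iff.mp hdZ q, ← heq, commutatorElement_def]
    group
  have hfix : ∀ c ∈ C, φ c = u * c * u⁻¹ := fun c hc => by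
    rw [(hC c).mp hc, ← Subgroup.mem_centralizer_iff.mp hu c hc, mul_inv_cancel_right]
  intro x
  by_cases hx : x ∈ C
  · exact hfix x hx
  · calc φ x = φ (q⁻¹ * (q * x)) := by rw [inv_mul_cancel_left]
      _ = (φ q)⁻¹ * φ (q * x) := by rw [map_mul, map_inv]
      _ = u * x * u⁻¹ := by rw [hgq, hfix _ (hmem x hx)]; group

/-- Let Q be an extraspecial 2-subgroup of the finite group G (special with centre of order 2) and t an involution of G normalizing Q such that the centralizer of t in Q has index at most 2 in Q. Then t lies in the product of Q with the centralizer of Q. -/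
theorem result {G : Type*} [Group G] [Finite G] (Q : Subgroup G)
    (hQ : Cfsg.IsExtraspecial 2 ↥Q) (t : G) (ht : orderOf t = 2) (htN : t ∈ Subgroup.normalizer (Q : Set G))
    (hi : (Subgroup.centralizer ({t} : Set G) ⊓ Q).relIndex Q ≤ 2) :
    t ∈ Q ⊔ Subgroup.centralizer (Q : Set G) := by
  have htq : ∀ q ∈ Q, t * q * t⁻¹ ∈ Q := fun q hq => (Subgroup.mem_normalizer_iff.mp htN q).mp hq
  let φ : Q →* Q :=
    { toFun := fun x => ⟨t * x * t⁻¹, htq x x.2⟩
      map_one' := Subtype.ext (by simp)
      map_mul' := fun x y => Subtype.ext (by simp [mul_assoc]) }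
  have ht2 : t * t = 1 := by rw [← sq, ← ht]; exact pow_orderOf_eq_one t
  have hφ : ∀ x, φ (φ x) = x := fun x => Subtype.ext (by
    change t * (t * x * t⁻¹) * t⁻¹ = x
    calc _ = (t * t) * x * (t * t)⁻¹ := by group
      _ = x := by rw [ht2]; group)
  have hC : ∀ x : Q, x ∈ (Subgroup.centralizer ({t} : Set G) ⊓ Q).subgroupOf Q ↔ φ x = x := by
    intro x
    rw [Subgroup.mem_subgroupOf, Subgroup.mem_inf, and_iff_left x.2, Subgroup.mem_centralizer_singleton_iff,
      Subtype.ext_iff]
    change (x : G) * t = t * x ↔ t * (x : G) * t⁻¹ = x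
    rw [mul_inv_eq_iff_eq_mul]
    exact eq_comm
  change ((Subgroup.centralizer ({t} : Set G) ⊓ Q).subgroupOf Q).index ≤ 2 at hi
  have h0 := Subgroup.index_ne_zero_of_finite (H := (Subgroup.centralizer ({t} : Set G) ⊓ Q).subgroupOf Q)
  obtain ⟨u, hu⟩ : ∃ u : Q, ∀ x, φ x = u * x * u⁻¹ := by
    rcases (by omega : ((Subgroup.centralizer ({t} : Set G) ⊓ Q).subgroupOf Q).index = 1 ∨
        ((Subgroup.centralizer ({t} : Set G) ⊓ Q).subgroupOf Q).index = 2) with h | h
    · refine ⟨1, fun x => ?_⟩
      rw [(hC x).mp (Subgroup.index_eq_one.mp h ▸ Subgroup.mem_top x)]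
      simp
    · exact inner_of_index_two hQ φ hφ _ hC h
  have h1 : (u : G)⁻¹ * t ∈ Subgroup.centralizer (Q : Set G) := by
    refine Subgroup.mem_centralizer_iff.mpr fun q hq => ?_
    have h := congrArg Subtype.val (hu ⟨q, hq⟩)
    change t * q * t⁻¹ = (u : G) * q * (u : G)⁻¹ at h
    calc q * ((u : G)⁻¹ * t) = (u : G)⁻¹ * ((u : G) * q * (u : G)⁻¹) * t := by group
      _ = (u : G)⁻¹ * t * q := by rw [← h]; group
  have := Subgroup.mul_mem_sup (T := Subgroup.centralizer (Q : Set G)) u.2 h1
  rwa [mul_inv_cancel_left] at this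

end Cfsg.Agent.S1756
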