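import Cfsg.Statements.S1757
-- import your own Cfsg.Agent.* helpers here

set_option autoImplicit false
open Cfsg

namespace Cfsg.Agent.S1757

/-- Let p be a prime and A, B p-subgroups of the finite group G, each of which meets every conjugate of itself other than itself trivially. Suppose the order of A is at most that of B, A and B intersect trivially, and B normalizes A. Then A and B commute elementwise. -/
theorem result {G : Type*} [Group G] [Finite G] (p : ℕ) [Fact p.Prime] (A B : Subgroup G)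
    (hA : IsPGroup p ↥A) (hB : IsPGroup p ↥B)
    (hAti : ∀ g : G, A.map (MulAut.conj g).toMonoidHom = A ∨ A.map (MulAut.conj g).toMonoidHom ⊓ A = ⊥)
    (hBti : ∀ g : G, B.map (MulAut.conj g).toMonoidHom = B ∨ B.map (MulAut.conj g).toMonoidHom ⊓ B = ⊥)
    (hle : Nat.card ↥A ≤ Nat.card ↥B) (hAB : A ⊓ B = ⊥) (hN : B ≤ Subgroup.normalizer (A : Set G)) : ⁅A, B⁆ = ⊥ := by
  rw [Subgroup.commutator_eq_bot_iff_le_centralizer]
  have key : ∀ a ∈ A, ∀ b ∈ B, b ≠ 1 → a * b = b * a → ∀ b' ∈ B, a * b' = b' * a := by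
    intro a ha b hb hb1 hab b' hb'
    have hB' : B.map (MulAut.conj a).toMonoidHom = B := by
      rcases hBti a with h | h
      · exact h
      · refine absurd ?_ hb1
        rw [← Subgroup.mem_bot, ← h]
        refine ⟨⟨b, hb, ?_⟩, hb⟩
        simp [hab, mul_assoc]
    have h1 : a * b' * a⁻¹ * b'⁻¹ ∈ B := by
      refine mul_mem ?_ (inv_mem hb')
      rw [← hB']; exact ⟨b', hb', by simp⟩
    have h2 : a * b' * a⁻¹ * b'⁻¹ ∈ A := by
      have : b' * a⁻¹ * b'⁻¹ ∈ A := (Subgroup.mem_normalizer_iff.mp (hN hb') _).mp (inv_mem ha)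
      have := mul_mem ha this
      simpa [mul_assoc] using this
    have h3 : a * b' * a⁻¹ * b'⁻¹ = 1 := by
      rw [← Subgroup.mem_bot, ← hAB]; exact ⟨h2, h1⟩
    rwa [mul_inv_eq_one, mul_inv_eq_iff_eq_mul] at h3
  intro a ha
  rw [Subgroup.mem_centralizer_iff]
  intro b' hb'
  by_contra hne
  have ha1 : a ≠ 1 := by rintro rfl; simp at hne
  let f : B → {x : A // x ≠ 1} := fun b =>
    ⟨⟨(b : G) * a * (b : G)⁻¹, (Subgroup.mem_normalizer_iff.mp (hN b.2) a).mp ha⟩,
      fun h => ha1 (conj_eq_one_iff.mp (congrArg Subtype.val h))⟩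
  have hf : Function.Injective f := by
    intro b c hbc
    have h : (b : G) * a * (b : G)⁻¹ = (c : G) * a * (c : G)⁻¹ :=
      congrArg (fun x : {x : A // x ≠ 1} => ((x : A) : G)) hbc
    by_contra hbne
    refine hne (key a ha ((c : G)⁻¹ * b) (mul_mem (inv_mem c.2) b.2) ?_ ?_ b' hb').symm
    · rw [Ne, inv_mul_eq_one]; exact fun h' => hbne (Subtype.ext h'.symm)
    · have h' : (c : G)⁻¹ * ((b : G) * a * (b : G)⁻¹) * b = a * ((c : G)⁻¹ * b) := by
        rw [h]; group
      rw [← h']; group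
  have h1 := Nat.card_le_card_of_injective f hf
  have h2 : Nat.card {x : A // x ≠ 1} < Nat.card A := by
    haveI := Fintype.ofFinite A
    classical
    rw [Nat.card_eq_fintype_card, Nat.card_eq_fintype_card]
    exact Fintype.card_subtype_lt (x := (1 : A)) (fun h => h rfl)
  omega

end Cfsg.Agent.S1757
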