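import Cfsg.Statements.S1774
import Cfsg.Agent.Lib.KGroups.SymplecticExpFour
import Cfsg.Agent.Lib.KGroups.OmegaFaithful
import Cfsg.Agent.Lib.Components.GenFitting
import Cfsg.Agent.Lib.Fusion.Basic
import Cfsg.Agent.Lib.Solvable.Cores

set_option autoImplicit false
open Cfsg

namespace Cfsg.Agent.S1774

open scoped commutatorElement

section core

variable {G : Type*} [Group G] [Finite G]

/-- What is used about a 2-group `Q` of symplectic type and exponent four that is `F*(C(z))`. -/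
structure Data (z : G) (Q : Subgroup G) : Prop where
  z2 : z * z = 1
  z1 : z ≠ 1
  zQ : z ∈ Q
  cz : ∀ q ∈ Q, Commute q z
  norm : ∀ y : G, Commute y z → ∀ q ∈ Q, y * q * y⁻¹ ∈ Q
  self : ∀ y : G, Commute y z → (∀ q ∈ Q, Commute y q) → y ∈ Q
  two : IsPGroup 2 Q
  big : ∀ N : Subgroup G, IsPGroup 2 N → (∀ y ∈ N, Commute y z) →
    (∀ y : G, Commute y z → ∀ w ∈ N, y * w * y⁻¹ ∈ N) → N ≤ Q
  sq : ∀ q ∈ Q, q * q = 1 ∨ q * q = z
  com : ∀ q ∈ Q, ∀ r ∈ Q, ⁅q, r⁆ = 1 ∨ ⁅q, r⁆ = z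
  cen : ∀ q ∈ Q, q * q = 1 → (∀ r ∈ Q, Commute q r) → q = 1 ∨ q = z

theorem Data.conj {z : G} {Q : Subgroup G} (h : Data z Q) (g : G) :
    Data (g * z * g⁻¹) (Q.map (MulAut.conj g).toMonoidHom) := by
  set φ := MulAut.conj g with hφ
  have hmem : ∀ y, y ∈ Q.map φ.toMonoidHom ↔ φ.symm y ∈ Q := fun y => by
    constructor
    · rintro ⟨q, hq, rfl⟩; simpa using hq
    · intro hy; exact ⟨_, hy, φ.apply_symm_apply y⟩
  have hc : ∀ a b : G, Commute (φ.symm a) b ↔ Commute a (φ b) := fun a b => by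
    constructor
    · intro hab; simpa using hab.map φ
    · intro hab; simpa using hab.map φ.symm
  have hzφ : g * z * g⁻¹ = φ z := rfl
  rw [hzφ]
  refine ⟨by rw [← map_mul, h.z2, map_one], fun e => h.z1 (φ.injective (e.trans (map_one φ).symm)),
    ⟨z, h.zQ, rfl⟩, ?_, fun y hy q hq => ?_, fun y hy hyQ => ?_, h.two.map _, fun N hN hNz hNn => ?_,
    ?_, ?_, ?_⟩
  · rintro _ ⟨q, hq, rfl⟩
    exact (h.cz q hq).map φ
  · rw [hmem] at hq ⊢
    rw [map_mul, map_mul, map_inv]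
    exact h.norm _ ((hc y z).mpr hy) _ hq
  · rw [hmem]
    exact h.self _ ((hc y z).mpr hy) fun q hq => (hc y q).mpr (hyQ _ ⟨q, hq, rfl⟩)
  · intro y hy
    rw [hmem]
    refine h.big (N.map φ.symm.toMonoidHom) (hN.map _) ?_ ?_ ⟨y, hy, rfl⟩
    · rintro _ ⟨w, hw, rfl⟩
      exact (hc w z).mpr (hNz w hw)
    · rintro x hx _ ⟨w, hw, rfl⟩
      refine ⟨φ x * w * (φ x)⁻¹, hNn (φ x) (hx.map φ) w hw, ?_⟩
      show φ.symm (φ x * w * (φ x)⁻¹) = x * φ.symm w * x⁻¹
      rw [map_mul, map_mul, map_inv, φ.symm_apply_apply]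
  · rintro _ ⟨q, hq, rfl⟩
    refine (h.sq q hq).imp (fun e => ?_) fun e => ?_
    · show φ q * φ q = 1
      rw [← map_mul, e, map_one]
    · show φ q * φ q = φ z
      rw [← map_mul, e]
  · rintro _ ⟨q, hq, rfl⟩ _ ⟨r, hr, rfl⟩
    refine (h.com q hq r hr).imp (fun e => ?_) fun e => ?_
    · show ⁅φ q, φ r⁆ = 1
      rw [← map_commutatorElement, e, map_one]
    · show ⁅φ q, φ r⁆ = φ z
      rw [← map_commutatorElement, e]
  · rintro _ ⟨q, hq, rfl⟩ h2 hcen
    have h2' : φ q * φ q = 1 := h2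
    refine (h.cen q hq (φ.injective (by rw [map_mul, h2', map_one])) fun r hr => ?_).imp (fun e => ?_) fun e => ?_
    · have := (hc (φ q) r).mpr (hcen _ ⟨r, hr, rfl⟩)
      rwa [φ.symm_apply_apply] at this
    · rw [e]; exact map_one φ
    · rw [e]; rfl

theorem main {z : G} {Q : Subgroup G} (hQ : Data z Q) (g : G) (hne : g * z * g⁻¹ ≠ z)
    (hin : g * z * g⁻¹ ∈ Q) : z ∈ Q.map (MulAut.conj g).toMonoidHom := by
  classical
  haveI : Fact (Nat.Prime 2) := ⟨Nat.prime_two⟩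
  set z' := g * z * g⁻¹ with hz'
  set Q' := Q.map (MulAut.conj g).toMonoidHom with hQ'
  have hQ'd : Data z' Q' := hQ.conj g
  have hzinv : z⁻¹ = z := inv_eq_of_mul_eq_one_right hQ.z2
  have hz'inv : z'⁻¹ = z' := inv_eq_of_mul_eq_one_right hQ'd.z2
  have hzz' : Commute z z' := (hQ.cz z' hin).symm
  -- the two classes of `z'` in `Q`
  have hsplit : ∀ q ∈ Q, q * z' * q⁻¹ = z' ∨ q * z' * q⁻¹ = z * z' := by
    intro q hq
    rcases hQ.com q hq z' hin with h | h <;> rw [commutatorElement_def, hz'inv] at h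
    · exact Or.inl (by rw [show q * z' * q⁻¹ = q * z' * q⁻¹ * z' * z'⁻¹ by group, h, one_mul, hz'inv])
    · exact Or.inr (by rw [show q * z' * q⁻¹ = q * z' * q⁻¹ * z' * z'⁻¹ by group, h, hz'inv])
  obtain ⟨x, hxQ, hx⟩ : ∃ x ∈ Q, x * z' * x⁻¹ = z * z' := by
    by_contra hcon
    push Not at hcon
    refine (hQ.cen z' hin hQ'd.z2 fun r hr => ?_).elim hQ'd.z1 hne
    exact (mul_inv_eq_iff_eq_mul.mp ((hsplit r hr).resolve_right (hcon r hr))).symm
  have hxz : x * z * x⁻¹ = z := mul_inv_eq_iff_eq_mul.mpr (hQ.cz x hxQ)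
  by_cases hA : ∃ c : G, Commute c z' ∧ c * z * c⁻¹ = z * z'
  · -- all three involutions are permuted
    obtain ⟨c, hcz', hc⟩ := hA
    have hh1 : x * c * z * (x * c)⁻¹ = z' := by
      rw [show x * c * z * (x * c)⁻¹ = x * (c * z * c⁻¹) * x⁻¹ by group, hc,
        show x * (z * z') * x⁻¹ = (x * z * x⁻¹) * (x * z' * x⁻¹) by group, hxz, hx, ← mul_assoc, hQ.z2, one_mul]
    have hh2 : x * c * z' * (x * c)⁻¹ = z * z' := by
      rw [show x * c * z' * (x * c)⁻¹ = x * (c * z' * c⁻¹) * x⁻¹ by group, hcz'.eq, mul_inv_cancel_right, hx]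
    have hgh : Commute (g⁻¹ * (x * c)) z := by
      show g⁻¹ * (x * c) * z = z * (g⁻¹ * (x * c))
      calc g⁻¹ * (x * c) * z = g⁻¹ * (x * c * z * (x * c)⁻¹) * (x * c) := by group
        _ = g⁻¹ * (g * z * g⁻¹) * (x * c) := by rw [hh1]
        _ = z * (g⁻¹ * (x * c)) := by group
    have hmem : z * z' ∈ Q' := by
      refine ⟨g⁻¹ * (x * c) * z' * (g⁻¹ * (x * c))⁻¹, hQ.norm _ hgh z' hin, ?_⟩
      show g * _ * g⁻¹ = z * z'
      rw [← hh2]; group
    have := Q'.mul_mem hmem hQ'd.zQ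
    rwa [mul_assoc, hQ'd.z2, mul_one] at this
  push Not at hA
  by_contra hzQ'
  have hnorm' : ∀ y : G, Commute y z' → ∀ q ∈ Q', y * q * y⁻¹ ∈ Q' := hQ'd.norm
  -- commutators with `z` commute with `z`
  have hz_comm : ∀ q ∈ Q', Commute (z * q * z⁻¹ * q⁻¹) z := by
    intro q hq
    set c := z * q * z⁻¹ * q⁻¹ with hc
    have hcQ : c ∈ Q' := Q'.mul_mem (hnorm' z hzz' q hq) (Q'.inv_mem hq)
    have hinvc : z * c * z⁻¹ = c⁻¹ := by
      rw [hc, show (z * q * z⁻¹ * q⁻¹)⁻¹ = q * (z * q⁻¹ * z⁻¹) by group, hzinv]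
      calc z * (z * q * z * q⁻¹) * z = (z * z) * q * z * q⁻¹ * z := by group
        _ = q * (z * q⁻¹ * z) := by rw [hQ.z2]; group
    rcases hQ'd.sq c hcQ with h | h
    · rw [inv_eq_of_mul_eq_one_right h] at hinvc
      exact (show Commute z c from mul_inv_eq_iff_eq_mul.mp hinvc).symm
    · exfalso
      refine hA c ((hQ'd.cz c hcQ)) ?_
      have h1 : c⁻¹ = c * z' := by
        rw [← h]
        calc c⁻¹ = c⁻¹ * ((c * c) * (c * c)) := by rw [h, hQ'd.z2, mul_one]
          _ = _ := by group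
      calc c * z * c⁻¹ = c * z * (c * z') := by rw [h1]
        _ = c * (z * c * z⁻¹) * z * z' := by rw [hzinv]; simp only [mul_assoc, ← mul_assoc z z, hQ.z2, one_mul]
        _ = z * z' := by rw [hinvc]; group
  -- commutators in `Q'`
  have hcen' : ∀ q ∈ Q', ∀ r ∈ Q', ∀ w ∈ Q', Commute ⁅q, r⁆ w := fun q hq r hr w hw => by
    rcases hQ'd.com q hq r hr with h | h <;> rw [h]
    · exact Commute.one_left w
    · exact (hQ'd.cz w hw).symm
  have hmulL : ∀ q ∈ Q', ∀ r ∈ Q', ∀ w ∈ Q', ⁅q * r, w⁆ = ⁅q, w⁆ * ⁅r, w⁆ := fun q hq r hr w hw => by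
    calc ⁅q * r, w⁆ = q * ⁅r, w⁆ * q⁻¹ * ⁅q, w⁆ := by simp only [commutatorElement_def]; group
      _ = ⁅r, w⁆ * ⁅q, w⁆ := by rw [← (hcen' r hr w hw q hq).eq, mul_inv_cancel_right]
      _ = _ := (hcen' r hr w hw _ (Q'.mul_mem (Q'.mul_mem (Q'.mul_mem hq hw) (Q'.inv_mem hq)) (Q'.inv_mem hw))).eq
  have hswap : ∀ q ∈ Q', ∀ r ∈ Q', ⁅q, r⁆ = 1 → ⁅r, q⁆ = 1 := fun q _ r _ h => by
    rw [← commutatorElement_inv, h, inv_one]
  have hfix : ∀ y : G, Commute y z' → ∀ q ∈ Q', ∀ r ∈ Q', ⁅y * q * y⁻¹, y * r * y⁻¹⁆ = ⁅q, r⁆ := by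
    intro y hy q hq r hr
    rw [show ⁅y * q * y⁻¹, y * r * y⁻¹⁆ = y * ⁅q, r⁆ * y⁻¹ by simp only [commutatorElement_def]; group]
    rcases hQ'd.com q hq r hr with h | h <;> rw [h]
    · group
    · rw [hy.eq, mul_inv_cancel_right]
  -- `D₁ = C_{Q'}(z)` and its centralizer
  set D₁ := Q' ⊓ Subgroup.centralizer ({z} : Set G) with hD₁
  have hD₁z : ∀ e ∈ D₁, Commute e z := fun e he => Subgroup.mem_centralizer_singleton_iff.mp he.2
  have hkey : ∀ a ∈ Q', (∀ e ∈ D₁, Commute a e) → a ∈ D₁ := by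
    intro a ha hac
    refine ⟨ha, Subgroup.mem_centralizer_singleton_iff.mpr ?_⟩
    set α := z * a * z⁻¹ * a⁻¹ with hα
    have hαQ : α ∈ Q' := Q'.mul_mem (hnorm' z hzz' a ha) (Q'.inv_mem ha)
    have hαD : α ∈ D₁ := ⟨hαQ, Subgroup.mem_centralizer_singleton_iff.mpr (hz_comm a ha)⟩
    have hαcen : ∀ r ∈ Q', Commute α r := by
      intro r hr
      set ρ := z * r * z⁻¹ * r⁻¹ with hρ
      have hρQ : ρ ∈ Q' := Q'.mul_mem (hnorm' z hzz' r hr) (Q'.inv_mem hr)
      have hρD : ρ ∈ D₁ := ⟨hρQ, Subgroup.mem_centralizer_singleton_iff.mpr (hz_comm r hr)⟩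
      have haρ : ⁅a, ρ⁆ = 1 := commutatorElement_eq_one_iff_commute.mpr (hac ρ hρD)
      have hαρ : ⁅α, ρ⁆ = 1 := by
        have h1 := hfix z hzz' a ha ρ hρQ
        rw [show z * a * z⁻¹ = α * a by rw [hα]; group,
          show z * ρ * z⁻¹ = ρ from mul_inv_eq_iff_eq_mul.mpr (hD₁z ρ hρD).symm.eq,
          hmulL α hαQ a ha ρ hρQ, haρ, mul_one] at h1
        exact h1
      have h1 := hfix z hzz' a ha r hr
      rw [show z * a * z⁻¹ = α * a by rw [hα]; group, show z * r * z⁻¹ = ρ * r by rw [hρ]; group,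
        hmulL α hαQ a ha _ (Q'.mul_mem hρQ hr)] at h1
      have hA1 : ⁅α, ρ * r⁆ = ⁅α, r⁆ := by
        rw [← commutatorElement_inv, hmulL ρ hρQ r hr α hαQ, hswap α hαQ ρ hρQ hαρ, one_mul, commutatorElement_inv]
      have hA2 : ⁅a, ρ * r⁆ = ⁅a, r⁆ := by
        rw [← commutatorElement_inv, hmulL ρ hρQ r hr a ha, hswap a ha ρ hρQ haρ, one_mul, commutatorElement_inv]
      rw [hA1, hA2, mul_eq_right] at h1
      exact commutatorElement_eq_one_iff_commute.mp h1
    have hα2 : α * α = 1 := by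
      have h1 : z * α * z⁻¹ = α⁻¹ := by
        rw [hα, show (z * a * z⁻¹ * a⁻¹)⁻¹ = a * (z * a⁻¹ * z⁻¹) by group, hzinv]
        calc z * (z * a * z * a⁻¹) * z = (z * z) * a * z * a⁻¹ * z := by group
          _ = a * (z * a⁻¹ * z) := by rw [hQ.z2]; group
      rw [(hz_comm a ha).symm.eq, mul_inv_cancel_right] at h1
      exact eq_inv_iff_mul_eq_one.mp h1
    rcases hQ'd.cen α hαQ hα2 hαcen with h | h
    · exact (mul_inv_eq_iff_eq_mul.mp (mul_inv_eq_one.mp h)).symm
    · exfalso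
      refine hA a (hQ'd.cz a ha) ?_
      have h1 : a * z * a⁻¹ = z * α := by
        rw [hα, hzinv]
        simp only [← mul_assoc, hQ.z2, one_mul]
      rw [h1, h]
  -- `D = C_Q(z')`
  set D := Q ⊓ Subgroup.centralizer ({z'} : Set G) with hD
  have hDz' : ∀ d ∈ D, Commute d z' := fun d hd => Subgroup.mem_centralizer_singleton_iff.mp hd.2
  have hmemD : ∀ r ∈ Q, r * z' * r⁻¹ = z' → r ∈ D := fun r hr h =>
    ⟨hr, Subgroup.mem_centralizer_singleton_iff.mpr (mul_inv_eq_iff_eq_mul.mp h)⟩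
  -- an involution of `Z(D)` commuting with `x` is central in `Q`
  have hinv2 : ∀ w ∈ D, w * w = 1 → (∀ r ∈ D, Commute w r) → Commute x w → w = 1 ∨ w = z := by
    intro w hw h2 hwD hxw
    refine hQ.cen w hw.1 h2 fun r hr => ?_
    rcases hsplit r hr with hr' | hr'
    · exact hwD r (hmemD r hr hr')
    · have hxr : x⁻¹ * r ∈ D := hmemD _ (Q.mul_mem (Q.inv_mem hxQ) hr) (by
        rw [show x⁻¹ * r * z' * (x⁻¹ * r)⁻¹ = x⁻¹ * (r * z' * r⁻¹) * x by group, hr', ← hx]
        group)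
      have := hxw.symm.mul_right (hwD _ hxr)
      rwa [mul_inv_cancel_left] at this
  have hz'D : z' ∈ D := ⟨hin, Subgroup.mem_centralizer_singleton_iff.mpr rfl⟩
  have hzD : z ∈ D := ⟨hQ.zQ, Subgroup.mem_centralizer_singleton_iff.mpr hzz'⟩
  have hcases : ∀ w ∈ D, w * w = 1 → (∀ r ∈ D, Commute w r) →
      w = 1 ∨ w = z ∨ w = z' ∨ w = z * z' := by
    intro w hw h2 hwD
    rcases hQ.com x hxQ w hw.1 with h | h
    · rcases hinv2 w hw h2 hwD (commutatorElement_eq_one_iff_commute.mp h) with e | e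
      · exact Or.inl e
      · exact Or.inr (Or.inl e)
    · have hwz : Commute w z' := hDz' w hw
      have hx' : Commute x (w * z') := by
        refine mul_inv_eq_iff_eq_mul.mp ?_
        rw [commutatorElement_def, mul_inv_eq_iff_eq_mul] at h
        rw [show x * (w * z') * x⁻¹ = (x * w * x⁻¹) * (x * z' * x⁻¹) by group, h, hx,
          show z * w * (z * z') = z * (w * z) * z' by group, (hQ.cz w hw.1).eq, ← mul_assoc z z w, hQ.z2, one_mul]
      rcases hinv2 (w * z') (D.mul_mem hw hz'D)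
        (by rw [hwz.symm.mul_mul_mul_comm, h2, hQ'd.z2, one_mul])
        (fun r hr => (hwD r hr).mul_left (hDz' r hr).symm) hx' with e | e
      · exact Or.inr (Or.inr (Or.inl (by rw [eq_inv_of_mul_eq_one_left e, hz'inv])))
      · exact Or.inr (Or.inr (Or.inr (by rw [← e, mul_assoc, hQ'd.z2, mul_one])))
  -- elements of `Q` in `Q'`
  have hI : ∀ w ∈ D, w ∈ Q' → w = 1 ∨ w = z' := by
    intro w hw hw'
    have hwD : ∀ r ∈ D, Commute w r := by
      intro r hr
      rcases hQ.com w hw.1 r hr.1 with h | h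
      · exact commutatorElement_eq_one_iff_commute.mp h
      · exfalso
        refine hzQ' (h ▸ ?_)
        rw [commutatorElement_def, show w * r * w⁻¹ * r⁻¹ = w * (r * w⁻¹ * r⁻¹) by group]
        exact Q'.mul_mem hw' (hnorm' r (hDz' r hr) _ (Q'.inv_mem hw'))
    have h2 : w * w = 1 := (hQ.sq w hw.1).resolve_right fun h => hzQ' (h ▸ Q'.mul_mem hw' hw')
    rcases hcases w hw h2 hwD with e | e | e | e
    · exact Or.inl e
    · exact absurd (e ▸ hw') hzQ'
    · exact Or.inr e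
    · exact absurd (by have := Q'.mul_mem (e ▸ hw') hQ'd.zQ; rwa [mul_assoc, hQ'd.z2, mul_one] at this) hzQ'
  have hDD₁ : ∀ d ∈ D, ∀ e ∈ D₁, d * e * d⁻¹ * e⁻¹ = 1 ∨ d * e * d⁻¹ * e⁻¹ = z' := by
    intro d hd e he
    have hw' : d * e * d⁻¹ * e⁻¹ ∈ Q' := Q'.mul_mem (hnorm' d (hDz' d hd) e he.1) (Q'.inv_mem he.1)
    refine hI _ ⟨?_, Subgroup.mem_centralizer_singleton_iff.mpr (hQ'd.cz _ hw')⟩ hw'
    rw [show d * e * d⁻¹ * e⁻¹ = d * (e * d⁻¹ * e⁻¹) by group]
    exact Q.mul_mem hd.1 (hQ.norm e (hD₁z e he) _ (Q.inv_mem hd.1))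
  have hσ : ∀ d ∈ D, ∀ q ∈ Q', d * q * d⁻¹ * q⁻¹ ∈ D₁ := by
    intro d hd q hq
    have hqQ := hnorm' d (hDz' d hd) q hq
    refine hkey _ (Q'.mul_mem hqQ (Q'.inv_mem hq)) fun e he => ?_
    have h1 := hfix d (hDz' d hd) q hq e he.1
    obtain ⟨u, hu, hucen, hde⟩ : ∃ u ∈ Q', (∀ w ∈ Q', Commute u w) ∧ d * e * d⁻¹ = u * e := by
      refine ⟨d * e * d⁻¹ * e⁻¹, Q'.mul_mem (hnorm' d (hDz' d hd) e he.1) (Q'.inv_mem he.1), fun w hw => ?_, by group⟩
      rcases hDD₁ d hd e he with h | h <;> rw [h]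
      · exact Commute.one_left w
      · exact (hQ'd.cz w hw).symm
    set σ := d * q * d⁻¹ * q⁻¹ with hσdef
    have hσQ : σ ∈ Q' := Q'.mul_mem hqQ (Q'.inv_mem hq)
    rw [hde, show d * q * d⁻¹ = σ * q by rw [hσdef]; group,
      hmulL σ hσQ q hq _ (Q'.mul_mem hu he.1)] at h1
    have hue : ∀ a ∈ Q', ⁅a, u * e⁆ = ⁅a, e⁆ := fun a ha => by
      rw [← commutatorElement_inv, hmulL u hu e he.1 a ha,
        commutatorElement_eq_one_iff_commute.mpr (hucen a ha), one_mul, commutatorElement_inv]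
    rw [hue σ hσQ, hue q hq, mul_eq_right] at h1
    exact commutatorElement_eq_one_iff_commute.mp h1
  -- the elements of `C(z')` centralizing `Q'/⟨z'⟩`
  let K : Subgroup G :=
    { carrier := {y | Commute y z' ∧ ∀ q ∈ Q', y * q * y⁻¹ * q⁻¹ = 1 ∨ y * q * y⁻¹ * q⁻¹ = z'}
      one_mem' := ⟨Commute.one_left _, fun q _ => Or.inl (by group)⟩
      mul_mem' := fun {a b} ha hb => ⟨ha.1.mul_left hb.1, fun q hq => by
        have e : a * b * q * (a * b)⁻¹ * q⁻¹ = a * (b * q * b⁻¹ * q⁻¹) * a⁻¹ * (a * q * a⁻¹ * q⁻¹) := by group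
        rw [e]
        rcases hb.2 q hq with h | h <;> rcases ha.2 q hq with h' | h' <;> rw [h, h']
        · exact Or.inl (by group)
        · exact Or.inr (by group)
        · exact Or.inr (by rw [ha.1.eq, mul_inv_cancel_right, mul_one])
        · exact Or.inl (by rw [ha.1.eq, mul_inv_cancel_right, hQ'd.z2])⟩
      inv_mem' := fun {a} ha => ⟨ha.1.inv_left, fun q hq => by
        have e : a⁻¹ * q * a⁻¹⁻¹ * q⁻¹ = a⁻¹ * (a * q * a⁻¹ * q⁻¹)⁻¹ * a := by group
        rw [e]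
        rcases ha.2 q hq with h | h <;> rw [h]
        · exact Or.inl (by group)
        · exact Or.inr (by rw [hz'inv, ha.1.inv_left.eq, inv_mul_cancel_right])⟩ }
  have hodd : ∀ y ∈ K, (orderOf y).Coprime 2 → y = 1 := by
    intro y hy hco
    have hyQ : y ∈ Q' := by
      refine hQ'd.self y hy.1 fun q hq => ?_
      refine mul_inv_eq_iff_eq_mul.mp (CfsgLib.KGroups.OmegaFaithful.fix_of_coset (C := Subgroup.zpowers z')
        (hQ'd.two.to_le (Subgroup.zpowers_le.mpr hQ'd.zQ)) hco (fun c hc => ?_) ?_)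
      · obtain ⟨i, rfl⟩ := Subgroup.mem_zpowers_iff.mp hc
        rw [(hy.1.zpow_right i).eq, mul_inv_cancel_right]
      · rw [show q⁻¹ * (y * q * y⁻¹) = q⁻¹ * (y * q * y⁻¹ * q⁻¹) * q by group]
        rcases hy.2 q hq with h | h <;> rw [h]
        · rw [mul_one, inv_mul_cancel]; exact one_mem _
        · rw [mul_assoc, ← (hQ'd.cz q hq).eq, inv_mul_cancel_left]; exact Subgroup.mem_zpowers z'
    obtain ⟨k, hk⟩ := hQ'd.two ⟨y, hyQ⟩
    have hk' : y ^ 2 ^ k = 1 := congrArg Subtype.val hk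
    exact orderOf_eq_one_iff.mp (Nat.eq_one_of_dvd_coprimes (hco.pow_right k) dvd_rfl (orderOf_dvd_of_pow_eq_one hk'))
  have hK2 : IsPGroup 2 K := by
    intro y
    obtain ⟨k, hk⟩ := CfsgLib.Fusion.Basic.exists_pow_coprime (p := 2) (y : G)
    exact ⟨k, Subtype.ext (hodd _ (Subgroup.pow_mem K y.2 _) hk)⟩
  have hKQ : K ≤ Q' := by
    refine hQ'd.big K hK2 (fun y hy => hy.1) fun v hv w hw => ⟨(hv.mul_left hw.1).mul_left hv.inv_left, fun q hq => ?_⟩
    have e : v * w * v⁻¹ * q * (v * w * v⁻¹)⁻¹ * q⁻¹ =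
        v * (w * (v⁻¹ * q * v⁻¹⁻¹) * w⁻¹ * (v⁻¹ * q * v⁻¹⁻¹)⁻¹) * v⁻¹ := by group
    rw [e]
    rcases hw.2 _ (hnorm' _ hv.inv_left q hq) with h | h <;> rw [h]
    · exact Or.inl (by group)
    · exact Or.inr (by rw [hv.eq, mul_inv_cancel_right])
  have hmul : ∀ d ∈ D, ∀ d' ∈ D, ∀ q ∈ Q', ∃ u : G, (u = 1 ∨ u = z') ∧
      d * d' * q * (d * d')⁻¹ = u * ((d' * q * d'⁻¹ * q⁻¹) * (d * q * d⁻¹ * q⁻¹) * q) := by
    intro d hd d' hd' q hq
    set σ := d' * q * d'⁻¹ * q⁻¹ with hσ'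
    refine ⟨d * σ * d⁻¹ * σ⁻¹, hDD₁ d hd σ (hσ d' hd' q hq), ?_⟩
    rw [hσ']; group
  -- `D` is elementary abelian
  have hd2 : ∀ d ∈ D, d * d = 1 := by
    intro d hd
    refine (hQ.sq d hd.1).resolve_right fun h => hzQ' (hKQ (h ▸ ⟨(hDz' d hd).mul_left (hDz' d hd), fun q hq => ?_⟩))
    obtain ⟨u, hu, e⟩ := hmul d hd d hd q hq
    rw [e, show u * ((d * q * d⁻¹ * q⁻¹) * (d * q * d⁻¹ * q⁻¹) * q) * q⁻¹ =
      u * ((d * q * d⁻¹ * q⁻¹) * (d * q * d⁻¹ * q⁻¹)) by group]
    have hσQ : d * q * d⁻¹ * q⁻¹ ∈ Q' := (hσ d hd q hq).1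
    rcases hu with rfl | rfl <;> rcases hQ'd.sq _ hσQ with h | h <;> rw [h]
    · exact Or.inl (one_mul 1)
    · exact Or.inr (one_mul z')
    · exact Or.inr (mul_one z')
    · exact Or.inl hQ'd.z2
  have hDab : ∀ d ∈ D, ∀ d' ∈ D, Commute d d' := fun d hd d' hd' => by
    have h1 := inv_eq_of_mul_eq_one_right (hd2 d hd)
    have h2 := inv_eq_of_mul_eq_one_right (hd2 d' hd')
    have h3 := inv_eq_of_mul_eq_one_right (hd2 _ (D.mul_mem hd hd'))
    show d * d' = d' * d
    rw [← h3, mul_inv_rev, h1, h2]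
  have hD4 : ∀ w ∈ D, w = 1 ∨ w = z ∨ w = z' ∨ w = z * z' := fun w hw =>
    hcases w hw (hd2 w hw) (fun r hr => hDab w hw r hr)
  -- an element `f` with square `z` and the cosets of `⟨z⟩`
  obtain ⟨f, hfQ, hf2, hf'⟩ : ∃ f ∈ Q, f * f = z ∧ f * z' * f⁻¹ = z * z' := by
    rcases hQ.sq x hxQ with h | h
    · refine ⟨x * z', Q.mul_mem hxQ hin, ?_, by rw [show x * z' * z' * (x * z')⁻¹ = x * (z' * z' * z'⁻¹) * x⁻¹ by group, mul_inv_cancel_right, hx]⟩
      calc x * z' * (x * z') = (x * z' * x⁻¹) * (x * x) * z' := by group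
        _ = z * z' * z' := by rw [hx, h, mul_one]
        _ = z := by rw [mul_assoc, hQ'd.z2, mul_one]
    · exact ⟨x, hxQ, h, hx⟩
  have hQ8 : ∀ q ∈ Q, ∃ w ∈ D, q = w ∨ q = f * w := by
    intro q hq
    rcases hsplit q hq with h | h
    · exact ⟨q, hmemD q hq h, Or.inl rfl⟩
    · refine ⟨f⁻¹ * q, hmemD _ (Q.mul_mem (Q.inv_mem hfQ) hq) ?_, Or.inr (by group)⟩
      rw [show f⁻¹ * q * z' * (f⁻¹ * q)⁻¹ = f⁻¹ * (q * z' * q⁻¹) * f by group, h, ← hf']
      group
  have hfz : Commute f z := hQ.cz f hfQ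
  have hfz2 : (f * z') * (f * z') = 1 := by
    calc f * z' * (f * z') = (f * z' * f⁻¹) * (f * f) * z' := by group
      _ = z * (z' * z) * z' := by rw [hf', hf2]; group
      _ = z * (z * z') * z' := by rw [hzz'.eq]
      _ = (z * z) * (z' * z') := by group
      _ = 1 := by rw [hQ.z2, hQ'd.z2, one_mul]
  -- elements of odd order of `C(z)` centralize `Q`
  have hoddC : ∀ y : G, Commute y z → (orderOf y).Coprime 2 → ∀ q ∈ Q, y * q * y⁻¹ = q := by
    intro y hy hco
    have hzp : IsPGroup 2 (Subgroup.zpowers z) := hQ.two.to_le (Subgroup.zpowers_le.mpr hQ.zQ)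
    have hyz : ∀ c ∈ Subgroup.zpowers z, y * c * y⁻¹ = c := fun c hc => by
      obtain ⟨i, rfl⟩ := Subgroup.mem_zpowers_iff.mp hc
      rw [(hy.zpow_right i).eq, mul_inv_cancel_right]
    have hf : y * f * y⁻¹ = f := by
      refine CfsgLib.KGroups.OmegaFaithful.fix_of_coset (C := Subgroup.zpowers z) hzp hco hyz ?_
      have h2 : y * f * y⁻¹ * (y * f * y⁻¹) = z := by
        rw [show y * f * y⁻¹ * (y * f * y⁻¹) = y * (f * f) * y⁻¹ by group, hf2]
        exact hyz z (Subgroup.mem_zpowers z)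
      obtain ⟨w, hw, h | h⟩ := hQ8 _ (hQ.norm y hy f hfQ)
      · rw [h, hd2 w hw] at h2; exact absurd h2.symm hQ.z1
      · rw [h, inv_mul_cancel_left]
        rcases hD4 w hw with e | e | e | e <;> subst w
        · exact one_mem _
        · exact Subgroup.mem_zpowers _
        · rw [h, hfz2] at h2; exact absurd h2.symm hQ.z1
        · exfalso
          refine hQ.z1 ?_
          rw [h, show f * (z * z') * (f * (z * z')) = f * (z * (z' * f)) * (z * z') by group] at h2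
          rw [show f * (z * (z' * f)) * (z * z') = (f * z) * (z' * f) * (z * z') by group, hfz.eq,
            show z * f * (z' * f) * (z * z') = z * f * z' * (f * z) * z' by group, hfz.eq,
            show z * f * z' * (z * f) * z' = z * (f * (z' * z)) * f * z' by group, ← hzz'.eq,
            show z * (f * (z * z')) * f * z' = z * (f * z) * (z' * f * z') by group, hfz.eq,
            show z * (z * f) * (z' * f * z') = (z * z) * ((f * z') * (f * z')) by group, hQ.z2, hfz2, one_mul] at h2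
          exact h2.symm
    have hz'cases : ∀ v : G, Commute v z → v * f * v⁻¹ = f →
        v * z' * v⁻¹ ∈ ({z', z * z', f * z', f * (z * z')} : Set G) := by
      intro v hv hvf
      obtain ⟨w, hw, h | h⟩ := hQ8 _ (hQ.norm v hv z' hin)
      · rcases hD4 w hw with e | e | e | e <;> rw [e] at h
        · exfalso; refine hQ'd.z1 ?_
          rw [show z' = v⁻¹ * (v * z' * v⁻¹) * v by group, h]; group
        · exfalso; refine hne ?_
          show z' = z
          rw [show z' = v⁻¹ * (v * z' * v⁻¹) * v by group, h, hv.inv_left.eq, inv_mul_cancel_right]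
        · exact Or.inl h
        · exact Or.inr (Or.inl h)
      · rcases hD4 w hw with e | e | e | e <;> rw [e] at h
        · exfalso; refine hQ.z1 ?_
          have := congrArg (fun t => t * t) h
          simp only [mul_one, hf2] at this
          rw [show v * z' * v⁻¹ * (v * z' * v⁻¹) = v * (z' * z') * v⁻¹ by group, hQ'd.z2, mul_one, mul_inv_cancel] at this
          exact this.symm
        · exfalso; refine hQ.z1 ?_
          have := congrArg₂ (fun a b : G => a * b) h h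
          rw [show v * z' * v⁻¹ * (v * z' * v⁻¹) = v * (z' * z') * v⁻¹ by group, hQ'd.z2, mul_one, mul_inv_cancel,
            show f * z * (f * z) = f * (z * f) * z by group, ← hfz.eq,
            show f * (f * z) * z = (f * f) * (z * z) by group, hf2, hQ.z2, mul_one] at this
          exact this.symm
        · exact Or.inr (Or.inr (Or.inl h))
        · exact Or.inr (Or.inr (Or.inr h))
    have hy2 : (y * y) * z' * (y * y)⁻¹ = z' ∨ (y * y) * z' * (y * y)⁻¹ = z * z' := by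
      rw [show y * y * z' * (y * y)⁻¹ = y * (y * z' * y⁻¹) * y⁻¹ by group]
      have hyz1 := hyz z (Subgroup.mem_zpowers z)
      rcases hz'cases y hy hf with h | h | h | h
      · left; rw [h, h]
      · left
        rw [h, show y * (z * z') * y⁻¹ = (y * z * y⁻¹) * (y * z' * y⁻¹) by group, hyz1, h, ← mul_assoc, hQ.z2, one_mul]
      · right
        rw [h, show y * (f * z') * y⁻¹ = (y * f * y⁻¹) * (y * z' * y⁻¹) by group, hf, h, ← mul_assoc, hf2]
      · right
        rw [Set.mem_singleton_iff] at h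
        rw [h, show y * (f * (z * z')) * y⁻¹ = (y * f * y⁻¹) * ((y * z * y⁻¹) * (y * z' * y⁻¹)) by group, hf, hyz1, h,
          show f * (z * (f * (z * z'))) = f * (z * f) * (z * z') by group, ← hfz.eq,
          show f * (f * z) * (z * z') = (f * f) * (z * z) * z' by group, hf2, hQ.z2, mul_one]
    have hco2 : (orderOf (y * y)).Coprime 2 :=
      hco.coprime_dvd_left (by rw [← pow_two]; exact orderOf_pow_dvd 2)
    have hy2fix : y * y * z' * (y * y)⁻¹ = z' := by
      refine CfsgLib.KGroups.OmegaFaithful.fix_of_coset (C := Subgroup.zpowers z) hzp hco2 (fun c hc => ?_) ?_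
      · rw [show y * y * c * (y * y)⁻¹ = y * (y * c * y⁻¹) * y⁻¹ by group, hyz c hc, hyz c hc]
      · rcases hy2 with h | h <;> rw [h]
        · rw [inv_mul_cancel]; exact one_mem _
        · rw [← mul_assoc, hz'inv, ← hzz'.eq, mul_assoc, hQ'd.z2, mul_one]; exact Subgroup.mem_zpowers z
    have hyz' : y * z' * y⁻¹ = z' := by
      obtain ⟨m, hm⟩ : Odd (orderOf y) := Nat.coprime_two_right.mp hco
      have hy' : y = (y * y) ^ (m + 1) := by
        rw [← pow_two, ← pow_mul, show 2 * (m + 1) = orderOf y + 1 by omega, pow_succ, pow_orderOf_eq_one, one_mul]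
      have hcomm : Commute (y * y) z' := mul_inv_eq_iff_eq_mul.mp hy2fix
      rw [hy', (hcomm.pow_left (m + 1)).eq, mul_inv_cancel_right]
    have hfixD : ∀ w ∈ D, y * w * y⁻¹ = w := fun w hw => by
      rcases hD4 w hw with e | e | e | e <;> subst w
      · group
      · exact hyz _ (Subgroup.mem_zpowers _)
      · exact hyz'
      · rw [show y * (z * z') * y⁻¹ = (y * z * y⁻¹) * (y * z' * y⁻¹) by group, hyz z (Subgroup.mem_zpowers z), hyz']
    intro q hq
    obtain ⟨w, hw, rfl | rfl⟩ := hQ8 q hq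
    · exact hfixD _ hw
    · rw [show y * (f * w) * y⁻¹ = (y * f * y⁻¹) * (y * w * y⁻¹) by group, hf, hfixD w hw]
  -- `C(z')` is a 2-group, so lies in `Q'`
  have hC' : IsPGroup 2 (Subgroup.centralizer ({z'} : Set G)) := by
    intro y
    obtain ⟨k, hk⟩ := CfsgLib.Fusion.Basic.exists_pow_coprime (p := 2) (y : G)
    refine ⟨k, Subtype.ext ?_⟩
    set v := g⁻¹ * (y : G) ^ 2 ^ k * g with hv
    have hyc : Commute ((y : G) ^ 2 ^ k) z' := (show Commute (y : G) z' from Subgroup.mem_centralizer_singleton_iff.mp y.2).pow_left _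
    have hvz : Commute v z := by
      show v * z = z * v
      calc v * z = g⁻¹ * ((y : G) ^ 2 ^ k * (g * z * g⁻¹)) * g := by rw [hv]; group
        _ = g⁻¹ * ((g * z * g⁻¹) * (y : G) ^ 2 ^ k) * g := by rw [hyc.eq]
        _ = z * v := by rw [hv]; group
    have hvo : (orderOf v).Coprime 2 := by
      have he : v = (MulAut.conj g⁻¹) ((y : G) ^ 2 ^ k) := by simp [hv]
      rw [he, MulEquiv.orderOf_eq]
      exact hk
    have hvQ := hQ.self v hvz fun q hq => mul_inv_eq_iff_eq_mul.mp (hoddC v hvz hvo q hq)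
    obtain ⟨j, hj⟩ := hQ.two ⟨v, hvQ⟩
    have hv1 : v = 1 := orderOf_eq_one_iff.mp (Nat.eq_one_of_dvd_coprimes (hvo.pow_right j) dvd_rfl
      (orderOf_dvd_of_pow_eq_one (congrArg Subtype.val hj)))
    show (y : G) ^ 2 ^ k = 1
    calc (y : G) ^ 2 ^ k = g * v * g⁻¹ := by rw [hv]; group
      _ = 1 := by rw [hv1]; group
  exact hzQ' (hQ'd.big _ hC' (fun y hy => Subgroup.mem_centralizer_singleton_iff.mp hy)
    (fun v hv w hw => Subgroup.mem_centralizer_singleton_iff.mpr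
      ((hv.mul_left (Subgroup.mem_centralizer_singleton_iff.mp hw)).mul_left hv.inv_left))
    (Subgroup.mem_centralizer_singleton_iff.mpr hzz'))

end core

/-- Let G be a finite group and let z be an involution of G such that Q, the generalized Fitting subgroup of the centralizer C of z, is a 2-group of symplectic type (every characteristic abelian subgroup of Q is cyclic); suppose every element of Q has order dividing 4. Let g ∈ G with z' = g z g⁻¹ ≠ z and z' ∈ Q. Then z lies in the conjugate g Q g⁻¹, and the subgroup X generated by Q and g Q g⁻¹ induces every automorphism of the four-group generated by z and z': for any two distinct non-identity elements u, v of that four-group there is x ∈ X with x z x⁻¹ = u and x z' x⁻¹ = v. -/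
theorem result {G : Type*} [Group G] [Finite G] (z : G) (hz : orderOf z = 2) (hQ : Cfsg.IsOfSymplecticType ↥(Cfsg.generalizedFittingSubgroup ↥(Subgroup.centralizer ({z} : Set G))))
    (h4 : ∀ q ∈ (Cfsg.generalizedFittingSubgroup ↥(Subgroup.centralizer ({z} : Set G))).map (Subgroup.centralizer ({z} : Set G)).subtype, q ^ 4 = 1) (g : G) (hne : g * z * g⁻¹ ≠ z) (hin : g * z * g⁻¹ ∈ (Cfsg.generalizedFittingSubgroup ↥(Subgroup.centralizer ({z} : Set G))).map (Subgroup.centralizer ({z} : Set G)).subtype) :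
    z ∈ ((Cfsg.generalizedFittingSubgroup ↥(Subgroup.centralizer ({z} : Set G))).map (Subgroup.centralizer ({z} : Set G)).subtype).map (MulAut.conj g).toMonoidHom ∧
      ∀ u ∈ Subgroup.closure ({z, g * z * g⁻¹} : Set G), ∀ v ∈ Subgroup.closure ({z, g * z * g⁻¹} : Set G),
        u ≠ 1 → v ≠ 1 → u ≠ v →
          ∃ x ∈ (Cfsg.generalizedFittingSubgroup ↥(Subgroup.centralizer ({z} : Set G))).map (Subgroup.centralizer ({z} : Set G)).subtype ⊔ ((Cfsg.generalizedFittingSubgroup ↥(Subgroup.centralizer ({z} : Set G))).map (Subgroup.centralizer ({z} : Set G)).subtype).map (MulAut.conj g).toMonoidHom, x * z * x⁻¹ = u ∧ x * (g * z * g⁻¹) * x⁻¹ = v := by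
  classical
  haveI : Fact (Nat.Prime 2) := ⟨Nat.prime_two⟩
  set C := Subgroup.centralizer ({z} : Set G) with hC
  set F := Cfsg.generalizedFittingSubgroup ↥C with hF
  set Q := F.map C.subtype with hQdef
  have hz1 : z ≠ 1 := fun h => by rw [h, orderOf_one] at hz; omega
  have hz2 : z * z = 1 := by rw [← pow_two, ← hz]; exact pow_orderOf_eq_one z
  have hzC : z ∈ C := Subgroup.mem_centralizer_singleton_iff.mpr rfl
  haveI hFn : F.Normal := inferInstance
  have hcC : ∀ c : ↥C, Commute (c : G) z := fun c => Subgroup.mem_centralizer_singleton_iff.mp c.2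
  have hzF : (⟨z, hzC⟩ : ↥C) ∈ F := CfsgLib.Components.centralizer_generalizedFitting_le
    (Subgroup.mem_centralizer_iff.mpr fun c _ => Subtype.ext (hcC c).eq)
  obtain ⟨e, he2, hec, hesq, hecom⟩ := CfsgLib.KGroups.SymplecticExpFour.squares _ ↥F rfl hQ.1 hQ.2
    (fun q => Subtype.ext (Subtype.ext (h4 _ ⟨_, q.2, rfl⟩)))
  -- the involutions of the centre
  have huniq : ∀ u : ↥F, u * u = 1 → (∀ r : ↥F, r * u = u * r) → u = 1 ∨ u = ⟨_, hzF⟩ := by
    intro u hu hucen
    haveI := hQ.2 _ (inferInstance : (Subgroup.center ↥F).Characteristic) inferInstance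
    haveI : Fintype ↥(Subgroup.center ↥F) := Fintype.ofFinite _
    set z₀ : ↥(Subgroup.center ↥F) := ⟨⟨_, hzF⟩, Subgroup.mem_center_iff.mpr fun r =>
      Subtype.ext (Subtype.ext (hcC (r : ↥C)).eq)⟩
    set u₀ : ↥(Subgroup.center ↥F) := ⟨u, Subgroup.mem_center_iff.mpr hucen⟩
    by_contra hcon
    push Not at hcon
    have hcard := IsCyclic.card_pow_eq_one_le (α := ↥(Subgroup.center ↥F)) (n := 2) two_pos
    have hsub : ({1, z₀, u₀} : Finset ↥(Subgroup.center ↥F)) ⊆ Finset.univ.filter (fun a => a ^ 2 = 1) := by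
      intro a ha
      simp only [Finset.mem_insert, Finset.mem_singleton] at ha
      rw [Finset.mem_filter]
      refine ⟨Finset.mem_univ _, ?_⟩
      rcases ha with rfl | rfl | rfl
      · exact one_pow 2
      · rw [pow_two]; exact Subtype.ext (Subtype.ext (Subtype.ext hz2))
      · rw [pow_two]; exact Subtype.ext hu
    have h3 : ({1, z₀, u₀} : Finset ↥(Subgroup.center ↥F)).card = 3 := Finset.card_eq_three.mpr
      ⟨1, z₀, u₀, fun h => hz1 (congrArg (fun a : ↥(Subgroup.center ↥F) => (((a : ↥F) : ↥C) : G)) h).symm,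
        fun h => hcon.1 (congrArg Subtype.val h).symm, fun h => hcon.2 (congrArg Subtype.val h).symm, rfl⟩
    have := (Finset.card_le_card hsub).trans hcard
    omega
  have heq : e = 1 ∨ e = ⟨_, hzF⟩ := huniq e he2 hec
  have hval : ∀ w : ↥F, (w = 1 ∨ w = e) → (((w : ↥C) : G) = 1 ∨ ((w : ↥C) : G) = z) := by
    intro w hw
    rcases hw with rfl | rfl
    · exact Or.inl rfl
    · rcases heq with h | h <;> rw [h]
      · exact Or.inl rfl
      · exact Or.inr rfl
  have hD : Data z Q := by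
    refine ⟨hz2, hz1, ⟨_, hzF, rfl⟩, ?_, fun y hy q hq => ?_, fun y hy hyQ => ?_, hQ.1.map _, fun N hN hNz hNn => ?_,
      ?_, ?_, ?_⟩
    · rintro _ ⟨q, -, rfl⟩
      exact hcC q
    · obtain ⟨q, hq, rfl⟩ := hq
      exact ⟨⟨y, Subgroup.mem_centralizer_singleton_iff.mpr hy⟩ * q *
        (⟨y, Subgroup.mem_centralizer_singleton_iff.mpr hy⟩)⁻¹, hFn.conj_mem q hq _, rfl⟩
    · exact ⟨⟨y, Subgroup.mem_centralizer_singleton_iff.mpr hy⟩, CfsgLib.Components.centralizer_generalizedFitting_le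
        (Subgroup.mem_centralizer_iff.mpr fun q hq => Subtype.ext (hyQ _ ⟨q, hq, rfl⟩).eq.symm), rfl⟩
    · have hNC : N ≤ C := fun y hy => Subgroup.mem_centralizer_singleton_iff.mpr (hNz y hy)
      haveI : (N.subgroupOf C).Normal := ⟨fun w hw c => hNn c (hcC c) w hw⟩
      have h1 : N.subgroupOf C ≤ F :=
        (CfsgLib.Solvable.Cores.le_pCore (hN.of_equiv (Subgroup.subgroupOfEquivOfLe hNC).symm)).trans
          ((CfsgLib.Solvable.Cores.pCore_le_fittingSubgroup 2).trans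
            CfsgLib.Components.fittingSubgroup_le_generalizedFittingSubgroup)
      exact fun y hy => ⟨⟨y, hNC hy⟩, h1 hy, rfl⟩
    · rintro _ ⟨q, hq, rfl⟩
      exact hval (⟨q, hq⟩ * ⟨q, hq⟩) (hesq ⟨q, hq⟩)
    · rintro _ ⟨q, hq, rfl⟩ _ ⟨r, hr, rfl⟩
      exact hval ⁅(⟨q, hq⟩ : ↥F), ⟨r, hr⟩⁆ (hecom _ _)
    · rintro _ ⟨q, hq, rfl⟩ h2 hcen
      refine (huniq ⟨q, hq⟩ (Subtype.ext (Subtype.ext h2)) fun r => Subtype.ext (Subtype.ext
        (hcen _ ⟨r, r.2, rfl⟩).eq.symm)).imp (fun h => ?_) fun h => ?_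
      · exact congrArg (fun a : ↥F => ((a : ↥C) : G)) h
      · exact congrArg (fun a : ↥F => ((a : ↥C) : G)) h
  have hzQ' := main hD g hne hin
  refine ⟨hzQ', ?_⟩
  set z' := g * z * g⁻¹ with hz'
  have hD' := hD.conj g
  set Q' := Q.map (MulAut.conj g).toMonoidHom with hQ'
  set X := Q ⊔ Q' with hX
  have hzz' : Commute z z' := (hD.cz z' hin).symm
  -- the two transpositions
  obtain ⟨a, haQ, ha⟩ : ∃ a ∈ Q, a * z' * a⁻¹ = z * z' := by
    by_contra hcon
    push Not at hcon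
    refine (hD.cen z' hin hD'.z2 fun r hr => ?_).elim hD'.z1 hne
    rcases hD.com r hr z' hin with h | h
    · exact (commutatorElement_eq_one_iff_commute.mp h).symm
    · exfalso
      rw [commutatorElement_def, mul_inv_eq_iff_eq_mul] at h
      exact hcon r hr h
  obtain ⟨b, hbQ, hb⟩ : ∃ b ∈ Q', b * z * b⁻¹ = z' * z := by
    by_contra hcon
    push Not at hcon
    refine (hD'.cen z hzQ' hz2 fun r hr => ?_).elim hz1 hne.symm
    rcases hD'.com r hr z hzQ' with h | h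
    · exact (commutatorElement_eq_one_iff_commute.mp h).symm
    · exfalso
      rw [commutatorElement_def, mul_inv_eq_iff_eq_mul] at h
      exact hcon r hr h
  have haz : a * z * a⁻¹ = z := mul_inv_eq_iff_eq_mul.mpr (hD.cz a haQ).eq
  have hbz : b * z' * b⁻¹ = z' := mul_inv_eq_iff_eq_mul.mpr (hD'.cz b hbQ).eq
  have haX : a ∈ X := Subgroup.mem_sup_left haQ
  have hbX : b ∈ X := Subgroup.mem_sup_right hbQ
  have hzzz : z' * (z * z') = z := by rw [hzz'.eq, ← mul_assoc, hD'.z2, one_mul]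
  have hab : b * (z * z') * b⁻¹ = z := by
    rw [show b * (z * z') * b⁻¹ = (b * z * b⁻¹) * (b * z' * b⁻¹) by group, hb, hbz, mul_assoc, hzzz]
  have haa : a * (z * z') * a⁻¹ = z' := by
    rw [show a * (z * z') * a⁻¹ = (a * z * a⁻¹) * (a * z' * a⁻¹) by group, haz, ha, ← mul_assoc, hz2, one_mul]
  intro u hu v hv hu1 hv1 huv
  have hfour : ∀ w ∈ Subgroup.closure ({z, z'} : Set G), w = 1 ∨ w = z ∨ w = z' ∨ w = z * z' := by
    intro w hw
    induction hw using Subgroup.closure_induction with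
    | mem w hw => rcases hw with rfl | rfl <;> simp
    | one => simp
    | mul p q _ _ hp hq =>
      have e0 : z' * z' = 1 := hD'.z2
      have e1 : z' * z = z * z' := hzz'.eq.symm
      have e2 : z * (z * z') = z' := by rw [← mul_assoc, hz2, one_mul]
      have e3 : z * z' * z = z' := by rw [mul_assoc, e1, e2]
      have e4 : z * z' * z' = z := by rw [mul_assoc, hD'.z2, mul_one]
      have e5 : z * z' * (z * z') = 1 := by rw [mul_assoc, hzzz, hz2]
      rcases hp with rfl | rfl | rfl | rfl <;> rcases hq with rfl | rfl | rfl | rfl <;>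
        simp [hz2, e0, e1, e2, e3, e4, e5, hzzz]
    | inv p _ hp =>
      have e1 : z⁻¹ = z := inv_eq_of_mul_eq_one_right hz2
      have e2 : z'⁻¹ = z' := inv_eq_of_mul_eq_one_right hD'.z2
      rcases hp with rfl | rfl | rfl | rfl
      · simp
      · simp [e1]
      · simp [e2]
      · right; right; right; rw [mul_inv_rev, e1, e2]; exact hzz'.eq.symm
  have key : ∀ x ∈ X, x * z * x⁻¹ = u → x * z' * x⁻¹ = v → ∃ x ∈ X, x * z * x⁻¹ = u ∧ x * z' * x⁻¹ = v :=
    fun x hx h h' => ⟨x, hx, h, h'⟩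
  rcases hfour u hu with eu | eu | eu | eu <;> rcases hfour v hv with ev | ev | ev | ev <;> subst u <;> subst v <;>
    first
      | exact absurd rfl hu1
      | exact absurd rfl hv1
      | exact absurd rfl huv
      | skip
  · exact key 1 X.one_mem (by group) (by group)
  · exact key a haX haz ha
  · refine key (a * b * a) (X.mul_mem (X.mul_mem haX hbX) haX) ?_ ?_
    · rw [show a * b * a * z * (a * b * a)⁻¹ = a * (b * (a * z * a⁻¹) * b⁻¹) * a⁻¹ by group, haz, hb,
        ← hzz'.eq, haa]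
    · rw [show a * b * a * z' * (a * b * a)⁻¹ = a * (b * (a * z' * a⁻¹) * b⁻¹) * a⁻¹ by group, ha, hab, haz]
  · refine key (a * b) (X.mul_mem haX hbX) ?_ ?_
    · rw [show a * b * z * (a * b)⁻¹ = a * (b * z * b⁻¹) * a⁻¹ by group, hb, ← hzz'.eq, haa]
    · rw [show a * b * z' * (a * b)⁻¹ = a * (b * z' * b⁻¹) * a⁻¹ by group, hbz, ha]
  · refine key (b * a) (X.mul_mem hbX haX) ?_ ?_
    · rw [show b * a * z * (b * a)⁻¹ = b * (a * z * a⁻¹) * b⁻¹ by group, haz, hb, hzz'.eq]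
    · rw [show b * a * z' * (b * a)⁻¹ = b * (a * z' * a⁻¹) * b⁻¹ by group, ha, hab]
  · exact key b hbX (hb.trans hzz'.eq.symm) hbz

end Cfsg.Agent.S1774
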