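import Cfsg.Statements.S1775
import Cfsg.Agent.Lib.Components.BQuotient

set_option autoImplicit false
set_option linter.style.haveILetI false
open Cfsg
open CfsgLib.Components CfsgLib.Solvable Subgroup
open scoped commutatorElement

namespace Cfsg.Agent.S1775

/-- Let G be a finite group whose generalized Fitting subgroup is a non-abelian simple group and in which every proper section (every quotient H/N of a proper subgroup H, or of G by a nontrivial normal subgroup) has the B-property. Let x, y be commuting involutions, let D be the intersection of the 2-layer of C_G(x) with C_G(y), and let J be a 2-component of D. Write Q for the quotient of C_G(y) by its largest normal odd-order subgroup. Then (i) the image of J in Q is a component of the centralizer in Q of the image of x; and (ii) for every J-invariant subgroup E of odd order of C_G(x) ∩ C_G(y), the commutator subgroup [J, E] lies in the largest normal odd-order subgroup of C_G(y). -/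
theorem result {G : Type*} [Group G] [Finite G]
    (hF : IsSimpleGroup ↥(Cfsg.generalizedFittingSubgroup G)) (hF' : ¬ IsMulCommutative ↥(Cfsg.generalizedFittingSubgroup G))
    (hsec : ∀ (H : Subgroup G) (N : Subgroup ↥H) [N.Normal], (H ≠ ⊤ ∨ N ≠ ⊥) → Cfsg.HasBProperty (↥H ⧸ N))
    (x y : G) (hx : orderOf x = 2) (hy : orderOf y = 2) (hxy : x * y = y * x)
    (J : Subgroup ↥((Cfsg.pLayer 2 ↥(Subgroup.centralizer ({x} : Set G))).map (Subgroup.centralizer ({x} : Set G)).subtype ⊓ Subgroup.centralizer ({y} : Set G)))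
    (hJ : Cfsg.IsPComponent 2 J) :
    Cfsg.IsComponent
        ((((J.map (Subgroup.subtype _)).subgroupOf (Subgroup.centralizer ({y} : Set G))).map (QuotientGroup.mk' (Cfsg.oddCore ↥(Subgroup.centralizer ({y} : Set G))))).subgroupOf
          (Subgroup.centralizer ({(QuotientGroup.mk' (Cfsg.oddCore ↥(Subgroup.centralizer ({y} : Set G))) ⟨x, Subgroup.mem_centralizer_singleton_iff.mpr hxy⟩ : ↥(Subgroup.centralizer ({y} : Set G)) ⧸ Cfsg.oddCore ↥(Subgroup.centralizer ({y} : Set G)))} : Set _))) ∧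
      ∀ E : Subgroup G, E ≤ Subgroup.centralizer ({x} : Set G) ⊓ Subgroup.centralizer ({y} : Set G) → Odd (Nat.card ↥E) →
        (∀ j ∈ J.map (Subgroup.subtype _), ∀ e ∈ E, j * e * j⁻¹ ∈ E) →
          ⁅J.map (Subgroup.subtype _), E⁆ ≤ (Cfsg.oddCore ↥(Subgroup.centralizer ({y} : Set G))).map (Subgroup.centralizer ({y} : Set G)).subtype := by
  haveI : Fact (Nat.Prime 2) := ⟨Nat.prime_two⟩
  let Lx := (Cfsg.pLayer 2 ↥(centralizer ({x} : Set G))).map (centralizer ({x} : Set G)).subtype
  let Y := centralizer ({y} : Set G)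
  -- the centre is trivial
  have hYtop : Y ≠ ⊤ := by
    intro h
    haveI := hF
    set F := Cfsg.generalizedFittingSubgroup G with hFd
    have hyc : y ∈ centralizer (F : Set G) := by
      refine mem_centralizer_iff.mpr fun z hz => ?_
      have hz' : z ∈ Y := by rw [h]; exact mem_top _
      exact mem_centralizer_singleton_iff.mp hz'
    have hyF : y ∈ F := centralizer_generalizedFitting_le hyc
    have hyz : (⟨y, hyF⟩ : ↥F) ∈ center ↥F := mem_center_iff.mpr fun g => Subtype.ext
      (mem_centralizer_iff.mp hyc g g.2)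
    rcases (inferInstance : (center ↥F).Normal).eq_bot_or_eq_top with hc | hc
    · rw [hc, mem_bot] at hyz
      have hy1 : y = 1 := congrArg Subtype.val hyz
      rw [hy1, orderOf_one] at hy
      norm_num at hy
    · exact hF' ⟨⟨fun a b => (mem_center_iff.mp (hc.ge (mem_top b)) a)⟩⟩
  let q := QuotientGroup.mk' (Cfsg.oddCore ↥Y)
  let x' : ↥Y := ⟨x, mem_centralizer_singleton_iff.mpr hxy⟩
  let CQ := centralizer ({q x'} : Set (↥Y ⧸ Cfsg.oddCore ↥Y))
  let C := centralizer ({x'} : Set ↥Y)
  have hxx : x * x = 1 := by rw [← pow_two, ← hx, pow_orderOf_eq_one]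
  have hx2 : x' * x' = 1 := Subtype.ext hxx
  -- `D` as a normal subgroup of `C`
  have hLxC : Lx ≤ centralizer ({x} : Set G) := map_subtype_le _
  let j : ↥(Lx ⊓ Y) →* ↥C := ((inclusion inf_le_right : ↥(Lx ⊓ Y) →* ↥Y)).codRestrict C fun d =>
    mem_centralizer_singleton_iff.mpr (Subtype.ext
      (mem_centralizer_singleton_iff.mp (hLxC d.2.1)))
  have hj : Function.Injective j := fun a b h =>
    Subtype.ext (congrArg (fun z : ↥C => ((z : ↥Y) : G)) h)
  have hjn : j.range.Normal := by
    refine ⟨?_⟩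
    rintro z ⟨d, rfl⟩ g
    have hgx : ((g : ↥Y) : G) ∈ centralizer ({x} : Set G) := mem_centralizer_singleton_iff.mpr
      (congrArg Subtype.val (mem_centralizer_singleton_iff.mp g.2))
    have hdL : ((g : ↥Y) : G) * (d : G) * ((g : ↥Y) : G)⁻¹ ∈ Lx := by
      obtain ⟨l, hl, hld⟩ := d.2.1
      have h1 : (Cfsg.pLayer 2 ↥(centralizer ({x} : Set G))).map
          (MulAut.conj (⟨_, hgx⟩ : ↥(centralizer ({x} : Set G)))).toMonoidHom ≤
          Cfsg.pLayer 2 ↥(centralizer ({x} : Set G)) := by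
        rw [map_le_iff_le_comap]
        exact sSup_le fun K hK => map_le_iff_le_comap.mp (le_sSup (BBalance.IsPComponent.conj hK _))
      refine ⟨_, h1 ⟨l, hl, rfl⟩, ?_⟩
      rw [← hld]
      rfl
    exact ⟨⟨_, hdL, Y.mul_mem (Y.mul_mem (g : ↥Y).2 d.2.2) (Y.inv_mem (g : ↥Y).2)⟩,
      Subtype.ext (Subtype.ext rfl)⟩
  have hJC : Cfsg.IsPComponent 2 (J.map j) := BBalance.IsPComponent.map_normal hj hjn hJ
  -- the projection onto the centraliser in the quotient
  let f : ↥C →* ↥CQ := (q.comp C.subtype).codRestrict CQ fun c =>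
    mem_centralizer_singleton_iff.mpr (by
      show q c * q x' = q x' * q c
      rw [← map_mul, mem_centralizer_singleton_iff.mp c.2, map_mul])
  have hf : Function.Surjective f := by
    rintro ⟨z, hz⟩
    obtain ⟨g, rfl⟩ := QuotientGroup.mk'_surjective (Cfsg.oddCore ↥Y) z
    obtain ⟨c, hc, hcg⟩ := BQuotient.exists_fixed_lift (Cfsg.oddCore ↥Y)
      (Cores.coprime_card_pPrimeCore 2) (g := g) hx2 (mem_centralizer_singleton_iff.mp hz)
    exact ⟨⟨c, hc⟩, Subtype.ext hcg⟩
  have hfk : (Nat.card f.ker).Coprime 2 := by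
    refine (Cores.coprime_card_pPrimeCore (G := ↥Y) 2).coprime_dvd_left ?_
    rw [← card_map_of_injective C.subtype_injective]
    refine card_dvd_of_le ?_
    rintro _ ⟨c, hc, rfl⟩
    exact (QuotientGroup.eq_one_iff _).mp (congrArg Subtype.val (MonoidHom.mem_ker.mp hc))
  have hK3 : Cfsg.IsPComponent 2 ((J.map j).map f) := BQuotient.IsPComponent.map_coprime f hf hfk hJC
  -- the `B`-property
  have hB : Cfsg.HasBProperty (↥Y ⧸ Cfsg.oddCore ↥Y) := hsec Y (Cfsg.oddCore ↥Y) (Or.inl hYtop)
  have hqx : orderOf (q x') = 2 := by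
    refine orderOf_eq_prime (by rw [pow_two, ← map_mul, hx2, map_one]) fun h => ?_
    have h1 : x' ∈ Cfsg.oddCore ↥Y := (QuotientGroup.eq_one_iff _).mp h
    have h2 : orderOf x' ∣ Nat.card (Cfsg.oddCore ↥Y) := (Cfsg.oddCore ↥Y).orderOf_dvd_natCard h1
    rw [← Subgroup.orderOf_coe, show ((x' : ↥Y) : G) = x from rfl, hx] at h2
    exact Nat.prime_two.coprime_iff_not_dvd.mp
      (Cores.coprime_card_pPrimeCore (G := ↥Y) 2).symm h2
  have hqs : Cfsg.IsComponent ((J.map j).map f) := by
    refine ⟨hK3.1, ?_⟩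
    rw [IsPComponent.isQuasisimple_iff hK3, eq_bot_iff]
    refine (commutator_mono (IsPComponent.le_pLayer hK3) (pPrimeCore_map_subtype_le hK3.1)).trans ?_
    have h := hB (q x') hqx
    rw [show Cfsg.oddCore (↥Y ⧸ Cfsg.oddCore ↥Y) = ⊥ from pPrimeCore_quotient_eq_bot, le_bot_iff,
      Subgroup.map_eq_bot_iff_of_injective _ (Subgroup.subtype_injective _)] at h
    exact h.le
  refine ⟨?_, ?_⟩
  · convert hqs using 1
    ext ⟨z, hz⟩
    constructor
    · rintro ⟨⟨g, hg⟩, ⟨d, hd, hdg⟩, hgz⟩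
      exact ⟨j d, ⟨d, hd, rfl⟩, Subtype.ext ((congrArg q (Subtype.ext hdg)).trans hgz)⟩
    · rintro ⟨_, ⟨d, hd, rfl⟩, hdz⟩
      exact ⟨inclusion inf_le_right d, ⟨d, hd, rfl⟩, congrArg Subtype.val hdz⟩
  intro E hE hodd hEn
  -- `E` modulo the core
  set E' := (E.subgroupOf Y).subgroupOf C with hE'
  have hcomm : ⁅(J.map j).map f, E'.map f⁆ = ⊥ := by
    refine BQuotient.component_centralizes_odd hqs (IsPComponent.dvd_card hK3) ?_ ?_
    · refine (Nat.coprime_two_right.mpr hodd).coprime_dvd_left ((card_map_dvd _ _).trans ?_)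
      rw [← card_map_of_injective C.subtype_injective,
        ← card_map_of_injective Y.subtype_injective]
      refine card_dvd_of_le ?_
      rintro _ ⟨_, ⟨e, he, rfl⟩, rfl⟩
      exact he
    · refine (Subgroup.map_mono ?_).trans (le_normalizer_map f)
      rintro _ ⟨d, hd, rfl⟩
      refine mem_normalizer_iff.mpr fun e => ⟨fun he => hEn _ ⟨d, hd, rfl⟩ _ he, fun he => ?_⟩
      have := hEn _ ⟨d⁻¹, J.inv_mem hd, rfl⟩ _ he
      show ((e : ↥Y) : G) ∈ E
      simpa [mul_assoc, j] using this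
  refine commutator_le.mpr ?_
  rintro _ ⟨d, hd, rfl⟩ e he
  let eC : ↥C := ⟨⟨e, (hE he).2⟩, mem_centralizer_singleton_iff.mpr (Subtype.ext
    (mem_centralizer_singleton_iff.mp (hE he).1))⟩
  have h1 : ⁅f (j d), f eC⁆ = 1 := mem_bot.mp (hcomm ▸ commutator_mem_commutator
    (mem_map_of_mem f (mem_map_of_mem j hd)) (mem_map_of_mem f (show eC ∈ E' from he)))
  rw [← map_commutatorElement] at h1
  exact ⟨((⁅j d, eC⁆ : ↥C) : ↥Y), (QuotientGroup.eq_one_iff _).mp (congrArg Subtype.val h1), rfl⟩

end Cfsg.Agent.S1775
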