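import Cfsg.Statements.S1780
-- import your own Cfsg.Agent.* helpers here

set_option autoImplicit false
open Cfsg

namespace Cfsg.Agent.S1780

/-- Let A be a finite abelian 2-group and t an automorphism of A whose order is a power of 2. If every element of A fixed by t² is fixed by t, then t fixes every element of A. -/
theorem result {A : Type*} [CommGroup A] [Finite A]
    (hA : IsPGroup 2 A) (t : MulAut A) (ht : ∃ k : ℕ, orderOf t = 2 ^ k) (hC : ∀ a : A, t (t a) = a → t a = a) :
    ∀ a : A, t a = a := by
  obtain ⟨k, hk⟩ := ht
  have key : ∀ (j : ℕ) (a : A), a ^ 2 = 1 → (t ^ (2 ^ j)) a = a → t a = a := by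
    intro j
    induction j with
    | zero => intro a _ h; simpa using h
    | succ j ih =>
      intro a ha h
      have hs : (t ^ (2 ^ j)) ((t ^ (2 ^ j)) a) = a := by
        rw [← MulAut.mul_apply, ← pow_add, ← two_mul, ← pow_succ']; exact h
      set s := t ^ (2 ^ j) with hsdef
      have hcomm : ∀ x, s (t x) = t (s x) := fun x => by
        rw [← MulAut.mul_apply, ← MulAut.mul_apply, hsdef, ← pow_succ, ← pow_succ']
      have hc2 : (s a * a) ^ 2 = 1 := by rw [mul_pow, ← map_pow, ha, map_one, mul_one]
      have hc : t (s a * a) = s a * a :=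
        ih _ hc2 (by rw [map_mul, hs, mul_comm])
      have hb2 : (t a * a) ^ 2 = 1 := by rw [mul_pow, ← map_pow, ha, map_one, mul_one]
      have hb : t (t a * a) = t a * a := by
        refine ih _ hb2 ?_
        have hcj : t (s a) * t a = s a * a := by rw [← map_mul, hc]
        have ha' : a * a = 1 := by rw [← pow_two, ha]
        have hs' : t (s a) * t (s a) = 1 := by rw [← map_mul, ← map_mul s, ha', map_one, map_one]
        have hta : t a * t a = 1 := by rw [← map_mul, ha', map_one]
        rw [map_mul, hcomm]
        calc t (s a) * s a = t (s a) * (s a * a) * a := by rw [mul_assoc, mul_assoc, ha', mul_one]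
          _ = t (s a) * (t (s a) * t a) * a := by rw [hcj]
          _ = t a * a := by rw [← mul_assoc, hs', one_mul]
      apply hC
      rw [map_mul, mul_comm (t a) a] at hb
      exact mul_right_cancel hb
  obtain ⟨m, hm⟩ := IsPGroup.iff_card.mp hA
  have main : ∀ (n : ℕ) (a : A), a ^ (2 ^ n) = 1 → t a = a := by
    intro n
    induction n with
    | zero => intro a h; rw [pow_zero, pow_one] at h; rw [h, map_one]
    | succ n ih =>
      intro a h
      cases n with
      | zero =>
        refine key k a (by simpa using h) ?_
        rw [← hk, pow_orderOf_eq_one]; rfl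
      | succ n =>
        have h2 : t (a ^ 2) = a ^ 2 := ih _ (by rw [← pow_mul, ← pow_succ']; exact h)
        have hc2 : (t a * a⁻¹) ^ 2 = 1 := by rw [mul_pow, ← map_pow, h2, inv_pow, mul_inv_cancel]
        have hc : t (t a * a⁻¹) = t a * a⁻¹ :=
          key k _ hc2 (by rw [← hk, pow_orderOf_eq_one]; rfl)
        apply hC
        rw [map_mul, map_inv, mul_inv_eq_iff_eq_mul] at hc
        rw [hc]
        have : t a * a⁻¹ * (t a * a⁻¹) = 1 := by rw [← pow_two]; exact hc2
        calc t a * a⁻¹ * t a = t a * a⁻¹ * (t a * a⁻¹) * a := by group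
          _ = a := by rw [this, one_mul]
  exact fun a => main m a (by rw [← hm]; exact pow_card_eq_one')

end Cfsg.Agent.S1780
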