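import Cfsg.Statements.S1781
import Cfsg.Agent.Lib.LocalEven.Large
import Cfsg.Agent.Lib.KGroups.Functor.Basic
-- import your own Cfsg.Agent.* helpers here

set_option autoImplicit false
open Cfsg

namespace Cfsg.Agent.S1781

variable {G : Type*} [Group G] [Finite G]

theorem step {A B : Subgroup G} (hA2 : IsPGroup 2 A) (hB2 : IsPGroup 2 B)
    (hAa : ∀ x ∈ A, ∀ y ∈ A, x * y = y * x) (hBa : ∀ x ∈ B, ∀ y ∈ B, x * y = y * x)
    (hti : ∀ h : G, A.map (MulAut.conj h).toMonoidHom = A ∨ A.map (MulAut.conj h).toMonoidHom ⊓ A = ⊥)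
    (hAB : A ⊓ B = ⊥) {a : G} (haA : a ∈ A) (haB : a ∈ Subgroup.normalizer (B : Set G)) (ha2 : a ^ 2 ≠ 1) :
    B ≤ Subgroup.normalizer (A : Set G) := by
  have : Fact (Nat.Prime 2) := ⟨Nat.prime_two⟩
  have hfix : ∀ c ∈ A, c ≠ 1 → ∀ x : G, x * c = c * x → x ∈ Subgroup.normalizer (A : Set G) := by
    intro c hc hc1 x hx
    rcases hti x with h | h
    · exact CfsgLib.KGroups.Functor.conjG_eq_iff.mp h
    · exact absurd ((Subgroup.eq_bot_iff_forall _).mp h c ⟨⟨c, hc, mul_inv_eq_iff_eq_mul.mpr hx⟩, hc⟩) hc1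
  have hNC : ∀ x ∈ B, x ∈ Subgroup.normalizer (A : Set G) → a * x = x * a := by
    intro x hx hxN
    have h : a * x * a⁻¹ * x⁻¹ ∈ A ⊓ B := by
      refine ⟨?_, B.mul_mem ((Subgroup.mem_normalizer_iff.mp haB x).mp hx) (B.inv_mem hx)⟩
      rw [mul_assoc, mul_assoc]
      refine A.mul_mem haA ?_
      rw [← mul_assoc]
      exact (Subgroup.mem_normalizer_iff.mp hxN a⁻¹).mp (A.inv_mem haA)
    have h1 := (Subgroup.eq_bot_iff_forall _).mp hAB _ h
    rw [mul_inv_eq_one, mul_inv_eq_iff_eq_mul] at h1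
    exact h1
  suffices h : ∀ x ∈ B, a * x = x * a from fun x hx => hfix a haA (fun h1 => ha2 (by simp [h1])) x (h x hx).symm
  have hcl : ∀ x ∈ B, a * x * a⁻¹ * x⁻¹ ∈ B := fun x hx =>
    B.mul_mem ((Subgroup.mem_normalizer_iff.mp haB x).mp hx) (B.inv_mem hx)
  let ψ : B →* G :=
    { toFun := fun x => a * x * a⁻¹ * (x : G)⁻¹
      map_one' := by simp
      map_mul' := fun x y => by
        have e : a * ((x : G) * y) * a⁻¹ * ((x : G) * y)⁻¹ = (a * x * a⁻¹) * ((a * y * a⁻¹ * (y : G)⁻¹) * (x : G)⁻¹) := by group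
        simp only [Subgroup.coe_mul]
        rw [e, hBa _ (hcl y y.2) _ (B.inv_mem x.2)]
        group }
  by_contra hne
  push Not at hne
  obtain ⟨x₀, hx₀, hx₀'⟩ := hne
  have hR : ψ.range ≤ B := by rintro _ ⟨x, rfl⟩; exact hcl x x.2
  have hR1 : ψ.range ≠ ⊥ := fun h => hx₀' <| by
    have h1 : a * x₀ * a⁻¹ * x₀⁻¹ = 1 := (Subgroup.eq_bot_iff_forall _).mp h _ ⟨⟨x₀, hx₀⟩, rfl⟩
    rw [mul_inv_eq_one, mul_inv_eq_iff_eq_mul] at h1
    exact h1
  have hn : Subgroup.zpowers a ≤ Subgroup.normalizer (ψ.range : Set G) := by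
    refine Subgroup.zpowers_le.mpr (CfsgLib.KGroups.Functor.conjG_eq_iff.mp ?_)
    refine Subgroup.eq_of_le_of_card_ge ?_ (Subgroup.card_map_of_injective (MulAut.conj _).injective).ge
    rintro _ ⟨_, ⟨x, rfl⟩, rfl⟩
    refine ⟨⟨a * x * a⁻¹, (Subgroup.mem_normalizer_iff.mp haB x).mp x.2⟩, ?_⟩
    change a * (a * x * a⁻¹) * a⁻¹ * (a * x * a⁻¹)⁻¹ = a * (a * x * a⁻¹ * (x : G)⁻¹) * a⁻¹
    group
  obtain ⟨y, ⟨hy, hyC⟩, hy1⟩ := CfsgLib.LocalEven.Large.exists_fixed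
    (hA2.to_le (Subgroup.zpowers_le.mpr haA)) (hB2.to_le hR) hR1 hn
  obtain ⟨m, hm⟩ := IsPGroup.iff_orderOf.mp hB2 ⟨y, hR hy⟩
  rw [← orderOf_injective _ B.subtype_injective] at hm
  change orderOf y = 2 ^ m at hm
  obtain ⟨m, rfl⟩ : ∃ j, m = j + 1 := ⟨m - 1, (Nat.succ_pred_eq_of_pos (Nat.pos_of_ne_zero fun h => hy1 (by
    rw [h, pow_zero] at hm; exact orderOf_eq_one_iff.mp hm))).symm⟩
  obtain ⟨x, rfl⟩ := hy
  set k := 2 ^ m with hk
  have hk1 : ψ (x ^ k) ≠ 1 := by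
    rw [map_pow, ne_eq, ← orderOf_dvd_iff_pow_eq_one, hm, hk, Nat.pow_dvd_pow_iff_le_right (by norm_num)]
    omega
  have hk2 : ψ (x ^ k) * ψ (x ^ k) = 1 := by
    rw [map_pow, ← pow_add, hk, ← two_mul, ← pow_succ', ← hm, pow_orderOf_eq_one]
  have hc : a * ψ (x ^ k) = ψ (x ^ k) * a := by
    rw [map_pow]
    exact Subgroup.mem_centralizer_iff.mp (Subgroup.pow_mem _ hyC k) a (Subgroup.mem_zpowers a)
  generalize hz : x ^ k = z at hk1 hk2 hc
  have e : a * z = ψ z * z * a := by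
    change a * (z : G) = a * z * a⁻¹ * (z : G)⁻¹ * z * a
    group
  have h2 : a ^ 2 * z = z * a ^ 2 := by
    rw [sq, mul_assoc, e, ← mul_assoc, ← mul_assoc, hc, mul_assoc (ψ z) a, e, ← mul_assoc, ← mul_assoc, hk2, one_mul,
      mul_assoc]
  have h3 := hNC z z.2 (hfix _ (A.pow_mem haA 2) ha2 z h2.symm)
  apply hk1
  change a * (z : G) * a⁻¹ * (z : G)⁻¹ = 1
  rw [h3, mul_inv_cancel_right, mul_inv_cancel]

/-- Let A be an abelian 2-subgroup of the finite group G such that every conjugate of A equals A or meets A trivially, and let g ∈ G with g A g⁻¹ ≠ A. Then either the subgroup of those elements of A that normalize g A g⁻¹ is an elementary abelian 2-group, or A and g A g⁻¹ commute elementwise. -/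
theorem result {G : Type*} [Group G] [Finite G] (A : Subgroup G)
    (hA2 : IsPGroup 2 ↥A) (hAa : IsMulCommutative ↥A)
    (hti : ∀ h : G, A.map (MulAut.conj h).toMonoidHom = A ∨ A.map (MulAut.conj h).toMonoidHom ⊓ A = ⊥)
    (g : G) (hg : A.map (MulAut.conj g).toMonoidHom ≠ A) :
    Cfsg.IsElementaryAbelian 2 (A ⊓ Subgroup.normalizer ((A.map (MulAut.conj g).toMonoidHom : Subgroup G) : Set G)) ∨
      ⁅A, A.map (MulAut.conj g).toMonoidHom⁆ = ⊥ := by
  set B := A.map (MulAut.conj g).toMonoidHom with hB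
  have hAB : A ⊓ B = ⊥ := by rw [inf_comm]; exact (hti g).resolve_left hg
  by_cases hel : ∀ a ∈ A ⊓ Subgroup.normalizer (B : Set G), a ^ 2 = 1
  · exact Or.inl ⟨⟨⟨fun x y => Subtype.ext (by simpa using congrArg Subtype.val (hAa.is_comm.comm ⟨x.1, x.2.1⟩ ⟨y.1, y.2.1⟩))⟩⟩, hel⟩
  push Not at hel
  obtain ⟨a, ⟨haA, haN⟩, ha2⟩ := hel
  right
  have hAa' : ∀ x ∈ A, ∀ y ∈ A, x * y = y * x := fun x hx y hy =>
    congrArg Subtype.val (hAa.is_comm.comm ⟨x, hx⟩ ⟨y, hy⟩)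
  have hBa' : ∀ x ∈ B, ∀ y ∈ B, x * y = y * x := by
    rintro _ ⟨x, hx, rfl⟩ _ ⟨y, hy, rfl⟩
    rw [← map_mul, hAa' x hx y hy, map_mul]
  have hB2 : IsPGroup 2 B := hA2.map _
  have h1 : B ≤ Subgroup.normalizer (A : Set G) := step hA2 hB2 hAa' hBa' hti hAB haA haN ha2
  have htiB : ∀ h : G, B.map (MulAut.conj h).toMonoidHom = B ∨ B.map (MulAut.conj h).toMonoidHom ⊓ B = ⊥ := by
    intro h
    have e : B.map (MulAut.conj h).toMonoidHom = (A.map (MulAut.conj (g⁻¹ * h * g)).toMonoidHom).map (MulAut.conj g).toMonoidHom := by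
      rw [hB, Subgroup.map_map, Subgroup.map_map]
      congr 1
      ext x
      simp [mul_assoc]
    rcases hti (g⁻¹ * h * g) with h' | h'
    · left; rw [e, h']
    · right; rw [e, hB, ← Subgroup.map_inf _ _ _ (MulAut.conj g).injective, h', Subgroup.map_bot]
  have h2 : A ≤ Subgroup.normalizer (B : Set G) :=
    step (a := g * a * g⁻¹) hB2 hA2 hBa' hAa' htiB (by rw [inf_comm]; exact hAB) ⟨a, haA, rfl⟩ (h1 ⟨a, haA, rfl⟩)
      (fun h => ha2 (by rw [conj_pow] at h; simpa using h))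
  exact le_bot_iff.mp (Subgroup.commutator_le.mpr fun x hx y hy => hAB.le ⟨by
    rw [commutatorElement_def, mul_assoc, mul_assoc]
    exact A.mul_mem hx (by rw [← mul_assoc]; exact (Subgroup.mem_normalizer_iff.mp (h1 hy) x⁻¹).mp (A.inv_mem hx)), by
    rw [commutatorElement_def]
    exact B.mul_mem ((Subgroup.mem_normalizer_iff.mp (h2 hx) y).mp hy) (B.inv_mem hy)⟩)

end Cfsg.Agent.S1781
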