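import Cfsg.Statements.S1782
import Cfsg.Agent.Lib.KGroups.Functor.Basic
import Cfsg.Agent.Lib.PGroup.Frattini
import Cfsg.Agent.Lib.Solvable.FrattiniFitting
-- import your own Cfsg.Agent.* helpers here

set_option autoImplicit false
open Cfsg

namespace Cfsg.Agent.S1782

variable {S : Type*} [Group S] [Finite S]

omit [Finite S] in
theorem sq_bot {R : Type*} [Group R] [Finite R] (h : ∀ r : R, r * r = 1) : frattini R = ⊥ := by
  have hinv : ∀ r : R, r⁻¹ = r := fun r => inv_eq_of_mul_eq_one_right (h r)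
  have hcomm : ∀ a b : R, a * b = b * a := fun a b => by
    rw [← hinv (a * b), mul_inv_rev, hinv, hinv]
  rw [Subgroup.eq_bot_iff_forall]
  intro x hx
  by_contra hx1
  obtain ⟨H, hxH, hmax⟩ := Set.Finite.exists_maximal (Set.toFinite {H : Subgroup R | x ∉ H}) ⟨⊥, hx1⟩
  have hco : IsCoatom H := by
    refine ⟨fun hT => hxH (hT ▸ Subgroup.mem_top x), fun K hK => ?_⟩
    have hxK : x ∈ K := by
      by_contra hxK
      exact hK.not_ge (hmax hxK hK.le)
    refine eq_top_iff.mpr fun y _ => ?_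
    by_contra hyK
    have hyH : y ∉ H := fun hy => hyK (hK.le hy)
    let H' : Subgroup R :=
      { carrier := {a | a ∈ H ∨ y * a ∈ H}
        one_mem' := Or.inl H.one_mem
        mul_mem' := fun {a b} ha hb => by
          rcases ha with ha | ha <;> rcases hb with hb | hb
          · exact Or.inl (H.mul_mem ha hb)
          · exact Or.inr (by rw [← mul_assoc, hcomm y a, mul_assoc]; exact H.mul_mem ha hb)
          · exact Or.inr (by rw [← mul_assoc]; exact H.mul_mem ha hb)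
          · refine Or.inl ?_
            have := H.mul_mem ha hb
            rwa [hcomm y a, mul_assoc a y, ← mul_assoc y y, h y, one_mul] at this
        inv_mem' := fun {a} ha => by rw [hinv a]; exact ha }
    have hle : H ≤ H' := fun a ha => Or.inl ha
    have hxH' : x ∈ H' := by
      by_contra hc
      have := hmax (y := H') hc hle (show y ∈ H' from Or.inr (by rw [h y]; exact H.one_mem))
      exact hyH this
    rcases hxH' with hxh | hxh
    · exact hxH hxh
    · exact hyK ((K.mul_mem_cancel_right hxK).mp (hK.le hxh))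
  exact hxH (frattini_le_coatom hco hx)

omit [Finite S] in
theorem conjS_mem {A : Subgroup S} {g a : S} (ha : a ∈ A) : g * a * g⁻¹ ∈ A.map (MulAut.conj g).toMonoidHom :=
  ⟨a, ha, rfl⟩

omit [Finite S] in
theorem mem_normalizer_of_map {A : Subgroup S} {g : S} (h : A.map (MulAut.conj g).toMonoidHom = A) :
    g ∈ Subgroup.normalizer (A : Set S) := CfsgLib.KGroups.Functor.conjG_eq_iff.mp h

omit [Finite S] in
/-- A nontrivial element of `T` commutes with no `r` moving `T`. -/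
theorem eq_one_of_comm {T : Subgroup S} {r u : S} (hmeet : T.map (MulAut.conj r).toMonoidHom ⊓ T = ⊥)
    (hu : u ∈ T) (hru : r * u = u * r) : u = 1 :=
  (Subgroup.eq_bot_iff_forall _).mp hmeet u ⟨⟨u, hu, mul_inv_eq_iff_eq_mul.mpr hru⟩, hu⟩

/-- If `T` normalises `R` and has commuting conjugates, then `R` normalises `T`. -/
theorem side {R T : Subgroup S} (hord : Nat.card R = Nat.card T) (hT : T ≤ Subgroup.normalizer (R : Set S))
    (hcomm : ∀ r ∈ R, T.map (MulAut.conj r).toMonoidHom = T ∨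
      T.map (MulAut.conj r).toMonoidHom ⊓ T = ⊥ ∧
        ∀ a ∈ T, ∀ b ∈ T.map (MulAut.conj r).toMonoidHom, a * b = b * a) :
    R ≤ Subgroup.normalizer (T : Set S) := by
  intro r hr
  rcases hcomm r hr with h | ⟨hm, hc⟩
  · exact mem_normalizer_of_map h
  have hin : ∀ t ∈ T, t * r * t⁻¹ * r⁻¹ ∈ R := fun t ht =>
    R.mul_mem ((Subgroup.mem_normalizer_iff.mp (hT ht) r).mp hr) (R.inv_mem hr)
  let f : T → R := fun t => ⟨(t : S) * r * (t : S)⁻¹ * r⁻¹, hin t t.2⟩
  have hf : Function.Injective f := by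
    intro a b hab
    have h1 : (a : S) * r * (a : S)⁻¹ * r⁻¹ = b * r * (b : S)⁻¹ * r⁻¹ := congrArg Subtype.val hab
    rw [mul_left_inj] at h1
    have h2 : (b : S)⁻¹ * a * r = r * ((b : S)⁻¹ * a) := by
      calc (b : S)⁻¹ * a * r = (b : S)⁻¹ * (a * r * (a : S)⁻¹) * a := by group
        _ = r * ((b : S)⁻¹ * a) := by rw [h1]; group
    have h3 := eq_one_of_comm hm (T.mul_mem (T.inv_mem b.2) a.2) h2.symm
    exact (Subtype.ext (inv_mul_eq_one.mp h3)).symm
  obtain ⟨t, ht⟩ := ((Nat.bijective_iff_injective_and_card f).mpr ⟨hf, hord.symm⟩).2 ⟨r, hr⟩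
  have hrt : (t : S) * (r * (t : S)⁻¹ * r⁻¹) = r := by
    rw [← mul_assoc, ← mul_assoc]; exact congrArg Subtype.val ht
  refine hrt ▸ mul_mem (Subgroup.le_normalizer t.2) (Subgroup.centralizer_le_normalizer (T : Set S) ?_)
  exact Subgroup.mem_centralizer_iff.mpr fun a ha => hc a ha _ (conjS_mem (T.inv_mem t.2))

omit [Finite S] in
/-- Two members normalising each other commute. -/
theorem commute_of_normalize {R T : Subgroup S} (hRT : R ⊓ T = ⊥) (h1 : R ≤ Subgroup.normalizer (T : Set S))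
    (h2 : T ≤ Subgroup.normalizer (R : Set S)) : ⁅R, T⁆ = ⊥ := by
  refine le_bot_iff.mp (Subgroup.commutator_le.mpr fun x hx y hy => hRT.le ⟨?_, ?_⟩)
  · rw [commutatorElement_def, mul_assoc, mul_assoc]
    refine R.mul_mem hx ?_
    rw [← mul_assoc]
    exact (Subgroup.mem_normalizer_iff.mp (h2 hy) x⁻¹).mp (R.inv_mem hx)
  · rw [commutatorElement_def]
    exact T.mul_mem ((Subgroup.mem_normalizer_iff.mp (h1 hx) y).mp hy) (T.inv_mem hy)

/-- The central configuration cannot occur when `Φ(R) ≠ 1`. -/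
theorem sq_eq_one (hS : IsPGroup 2 S) {R T N N' : Subgroup S}
    (hN : R ≤ N) (hNn : N ≤ Subgroup.normalizer (R : Set S)) (hN' : T ≤ N')
    (hN'n : N' ≤ Subgroup.normalizer (T : Set S))
    (hRN : R ≤ Subgroup.normalizer (N' : Set S)) (hTN : T ≤ Subgroup.normalizer (N : Set S))
    (hR : ∀ t ∈ T, R.map (MulAut.conj t).toMonoidHom = R ∨
      R.map (MulAut.conj t).toMonoidHom ⊓ R = ⊥ ∧
        ∀ a ∈ R, ∀ b ∈ R.map (MulAut.conj t).toMonoidHom, a * b = b * a)
    {r₀ t : S} (hr₀ : r₀ ∈ R) (hr₀T : T.map (MulAut.conj r₀).toMonoidHom ⊓ T = ⊥)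
    (ht : t ∈ T) (htR : R.map (MulAut.conj t).toMonoidHom ≠ R)
    (ht2 : t * t ∈ Subgroup.normalizer (R : Set S)) : ∀ r ∈ R, r * r = 1 := by
  have : Fact (Nat.Prime 2) := ⟨Nat.prime_two⟩
  obtain ⟨hm, hc⟩ := (hR t ht).resolve_left htR
  -- an element of `T` centralising `R` is trivial
  have hcent : ∀ u ∈ T, (∀ r ∈ R, r * u = u * r) → u = 1 := fun u hu h => eq_one_of_comm hr₀T hu (h r₀ hr₀)
  -- `[z, t]` lies in `T` and `N`
  have hcomT : ∀ z ∈ R, z ∈ N' → z * t * z⁻¹ * t⁻¹ ∈ T := fun z _ hz =>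
    T.mul_mem ((Subgroup.mem_normalizer_iff.mp (hN'n hz) t).mp ht) (T.inv_mem ht)
  have hcomN : ∀ z ∈ N, z * t * z⁻¹ * t⁻¹ ∈ N := fun z hz => by
    rw [mul_assoc, mul_assoc]
    refine N.mul_mem hz ?_
    rw [← mul_assoc]
    exact (Subgroup.mem_normalizer_iff.mp (hTN ht) z⁻¹).mp (N.inv_mem hz)
  -- `Z(R) ∩ N' = 1`
  have hZ : ∀ z ∈ R, z ∈ N' → (∀ r ∈ R, r * z = z * r) → z = 1 := by
    intro z hz hzN' hzc
    have hu : z * t * z⁻¹ * t⁻¹ = 1 := hcent _ (hcomT z hz hzN') fun r hr => by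
      have h1 : Commute r z := hzc r hr
      have h2 : Commute r (t * z⁻¹ * t⁻¹) := hc r hr _ (conjS_mem (R.inv_mem hz))
      have h3 := h1.mul_right h2
      rw [← mul_assoc, ← mul_assoc] at h3
      exact h3
    have h4 : t * z * t⁻¹ = z := by
      rw [mul_inv_eq_one, mul_inv_eq_iff_eq_mul] at hu
      rw [← hu, mul_assoc, mul_inv_cancel, mul_one]
    exact (Subgroup.eq_bot_iff_forall _).mp hm z ⟨h4 ▸ conjS_mem hz, hz⟩
  -- `R ∩ N' = 1`
  have hV : R ⊓ N' = ⊥ := by
    by_contra hne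
    have hn : R ≤ Subgroup.normalizer ((R ⊓ N' : Subgroup S) : Set S) := fun r hr =>
      Subgroup.mem_normalizer_iff.mpr fun x => by
        simp only [Subgroup.mem_inf]
        rw [← Subgroup.mem_normalizer_iff.mp (Subgroup.le_normalizer hr) x,
          ← Subgroup.mem_normalizer_iff.mp (hRN hr) x]
    have : ((R ⊓ N').subgroupOf R).Normal := (Subgroup.normal_subgroupOf_iff_le_normalizer inf_le_left).mpr hn
    have : Group.IsNilpotent R := (hS.to_subgroup R).isNilpotent
    have hne' : (R ⊓ N').subgroupOf R ≠ ⊥ := fun h => hne (by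
      have := congrArg (Subgroup.map R.subtype) h
      rwa [Subgroup.map_bot, Subgroup.map_subgroupOf_eq_of_le inf_le_left] at this)
    obtain ⟨z, ⟨hz1, hz2⟩, hz⟩ := (Subgroup.ne_bot_iff_exists_ne_one.mp
      (CfsgLib.Solvable.FrattiniFitting.inf_center_ne_bot _ hne')).elim fun a ha =>
        (⟨a.1, a.2, fun h => ha (Subtype.ext h)⟩ : ∃ z, z ∈ (R ⊓ N').subgroupOf R ⊓ Subgroup.center R ∧ z ≠ 1)
    exact hz (Subtype.ext (hZ z z.2 hz1.2 fun r hr =>
      congrArg Subtype.val (Subgroup.mem_center_iff.mp hz2 ⟨r, hr⟩)))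
  -- `T ∩ N = 1`
  have hU : ∀ u ∈ T, u ∈ N → u = 1 := fun u hu huN => hcent u hu fun r hr => by
    have h1 : r * u * r⁻¹ * u⁻¹ ∈ R ⊓ N' := by
      refine ⟨?_, N'.mul_mem ((Subgroup.mem_normalizer_iff.mp (hRN hr) u).mp (hN' hu)) (N'.inv_mem (hN' hu))⟩
      rw [mul_assoc, mul_assoc]
      refine R.mul_mem hr ?_
      rw [← mul_assoc]
      exact (Subgroup.mem_normalizer_iff.mp (hNn huN) r⁻¹).mp (R.inv_mem hr)
    have h2 := (Subgroup.eq_bot_iff_forall _).mp hV _ h1
    rw [mul_inv_eq_one, mul_inv_eq_iff_eq_mul] at h2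
    exact h2
  intro r hr
  set r' := t * r * t⁻¹ with hr'
  have hr'm : r' ∈ R.map (MulAut.conj t).toMonoidHom := conjS_mem hr
  set d := r * r'⁻¹ with hd
  have hdN' : d ∈ N' := by
    have : d = (r * t * r⁻¹) * t⁻¹ := by rw [hd, hr']; group
    rw [this]
    exact N'.mul_mem ((Subgroup.mem_normalizer_iff.mp (hRN hr) t).mp (hN' ht)) (N'.inv_mem (hN' ht))
  have hdN : d ∈ N := N.mul_mem (hN hr) (N.inv_mem ((Subgroup.mem_normalizer_iff.mp (hTN ht) r).mp (hN hr)))
  have hw : d * t * d⁻¹ * t⁻¹ = 1 :=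
    hU _ (T.mul_mem ((Subgroup.mem_normalizer_iff.mp (hN'n hdN') t).mp ht) (T.inv_mem ht)) (hcomN d hdN)
  have hfix : t * d * t⁻¹ = d := by
    rw [mul_inv_eq_one, mul_inv_eq_iff_eq_mul] at hw
    rw [← hw, mul_assoc, mul_inv_cancel, mul_one]
  set s := (t * t) * r * (t * t)⁻¹ with hs
  have hsR : s ∈ R := (Subgroup.mem_normalizer_iff.mp ht2 r).mp hr
  have h5 : r' * s⁻¹ = r * r'⁻¹ := by
    rw [show r' * s⁻¹ = t * d * t⁻¹ by rw [hd, hr', hs]; group, hfix, hd]
  have h6 : r' * r' = r * s := by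
    have hcs : s * r' = r' * s := hc s hsR r' hr'm
    calc r' * r' = r' * s⁻¹ * (s * r') := by group
      _ = r * r'⁻¹ * (r' * s) := by rw [h5, hcs]
      _ = r * s := by group
  have h7 := (Subgroup.eq_bot_iff_forall _).mp hm (r' * r')
    ⟨Subgroup.mul_mem _ hr'm hr'm, h6 ▸ R.mul_mem hr hsR⟩
  calc r * r = t⁻¹ * (r' * r') * t := by rw [hr']; group
    _ = 1 := by rw [h7]; group

/-- Let S be a finite 2-group and Δ a set of subgroups of S closed under conjugation by S, all of the same order, each with nontrivial Frattini subgroup, and such that two distinct members of Δ meet trivially. Then any two distinct members of Δ commute elementwise. -/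
theorem result {S : Type*} [Group S] [Finite S] (hS : IsPGroup 2 S)
    (Δ : Set (Subgroup S)) (hinv : ∀ s : S, ∀ R ∈ Δ, R.map (MulAut.conj s).toMonoidHom ∈ Δ)
    (hΦ : ∀ R ∈ Δ, frattini ↥R ≠ ⊥) (hord : ∀ R ∈ Δ, ∀ T ∈ Δ, Nat.card ↥R = Nat.card ↥T)
    (hti : ∀ R ∈ Δ, ∀ T ∈ Δ, R = T ∨ R ⊓ T = ⊥) :
    ∀ R ∈ Δ, ∀ T ∈ Δ, R ≠ T → ⁅R, T⁆ = ⊥ := by
  intro R₁ hR₁ T₁ hT₁ hne₁
  suffices h : ∀ (n : ℕ) (H : Subgroup S), Nat.card H ≤ n → ∀ R ∈ Δ, ∀ T ∈ Δ, R ≠ T → R ≤ H → T ≤ H → ⁅R, T⁆ = ⊥ from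
    h _ ⊤ le_rfl R₁ hR₁ T₁ hT₁ hne₁ le_top le_top
  intro n
  induction n with
  | zero => intro H hH; have := Nat.card_pos (α := H); omega
  | succ n ih =>
    intro H hH R hR T hT hne hRH hTH
    have hnb : ∀ R ∈ Δ, R ≠ ⊥ := fun R hR h => hΦ R hR (by
      have : Subsingleton R := by rw [h]; infer_instance
      exact Subsingleton.elim _ _)
    have hmeet : ∀ R ∈ Δ, ∀ T ∈ Δ, R ≠ T → R ⊓ T = ⊥ := fun R hR T hT h => (hti R hR T hT).resolve_left h
    -- conjugates inside H of a member commute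
    have hconj : ∀ R ∈ Δ, ∀ T ∈ Δ, R ≠ T → R ≤ H → T ≤ H → ∀ h ∈ H, ∀ k ∈ H,
        R.map (MulAut.conj h).toMonoidHom = R.map (MulAut.conj k).toMonoidHom ∨
          ∀ a ∈ R.map (MulAut.conj h).toMonoidHom, ∀ b ∈ R.map (MulAut.conj k).toMonoidHom, a * b = b * a := by
      intro R hR T hT hne hRH hTH h hh k hk
      have hlt : R < H := lt_of_le_of_ne hRH fun e => hnb T hT (by
        have := hmeet R hR T hT hne
        rwa [e, inf_eq_right.mpr hTH] at this)
      have : Group.IsNilpotent H := (hS.to_subgroup H).isNilpotent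
      obtain ⟨M, hM, hRM⟩ := (eq_top_or_exists_le_coatom (R.subgroupOf H)).resolve_left
        (fun e => hlt.not_ge (Subgroup.subgroupOf_eq_top.mp e))
      have hMn : M.Normal := Subgroup.NormalizerCondition.normal_of_coatom M Group.normalizerCondition_of_isNilpotent hM
      have hle : ∀ j ∈ H, R.map (MulAut.conj j).toMonoidHom ≤ M.map H.subtype := by
        rintro j hj _ ⟨a, ha, rfl⟩
        exact ⟨_, hMn.conj_mem ⟨a, hRH ha⟩ (hRM ha) ⟨j, hj⟩, rfl⟩
      by_cases he : R.map (MulAut.conj h).toMonoidHom = R.map (MulAut.conj k).toMonoidHom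
      · exact Or.inl he
      right
      have hcard : Nat.card ↥(M.map H.subtype) ≤ n := by
        rw [Subgroup.card_map_of_injective H.subtype_injective]
        have h1 : Nat.card M < Nat.card H := lt_of_not_ge fun hge => hM.1 (Subgroup.eq_top_of_le_card M hge)
        omega
      have h2 := Subgroup.commutator_eq_bot_iff_le_centralizer.mp
        (ih _ hcard _ (hinv h R hR) _ (hinv k R hR) he (hle h hh) (hle k hk))
      exact fun a ha b hb => (Subgroup.mem_centralizer_iff.mp (h2 ha) b hb).symm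
    let NC : Subgroup S → Subgroup S := fun R => ⨆ h : H, R.map (MulAut.conj (h : S)).toMonoidHom
    have hNC1 : ∀ R : Subgroup S, R ≤ NC R := fun R => by
      refine le_iSup_of_le (1 : H) (le_of_eq ?_)
      ext; simp
    have hNC2 : ∀ R : Subgroup S, H ≤ Subgroup.normalizer (NC R : Set S) := by
      intro R k hk
      refine mem_normalizer_of_map (Subgroup.eq_of_le_of_card_ge ?_ (Subgroup.card_map_of_injective (MulAut.conj _).injective).ge)
      rw [Subgroup.map_iSup]
      refine iSup_le fun h => le_iSup_of_le (⟨k, hk⟩ * h : H) (le_of_eq ?_)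
      rw [Subgroup.map_map]
      congr 1
      ext x
      simp [mul_assoc]
    have hNC3 : ∀ R ∈ Δ, ∀ T ∈ Δ, R ≠ T → R ≤ H → T ≤ H → NC R ≤ Subgroup.normalizer (R : Set S) := by
      intro R hR T hT hne hRH hTH
      refine iSup_le fun h => ?_
      rcases hconj R hR T hT hne hRH hTH h h.2 1 H.one_mem with e | e
      · rw [e, show R.map (MulAut.conj (1 : S)).toMonoidHom = R by ext; simp]
        exact Subgroup.le_normalizer
      · intro a ha
        exact Subgroup.centralizer_le_normalizer (R : Set S) (Subgroup.mem_centralizer_iff.mpr fun b hb =>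
          (e a ha b ⟨b, hb, by simp⟩).symm)
    have hpair : ∀ R ∈ Δ, ∀ T ∈ Δ, R ≠ T → R ≤ H → T ≤ H → ∀ t ∈ T, R.map (MulAut.conj t).toMonoidHom = R ∨
        R.map (MulAut.conj t).toMonoidHom ⊓ R = ⊥ ∧
          ∀ a ∈ R, ∀ b ∈ R.map (MulAut.conj t).toMonoidHom, a * b = b * a := by
      intro R hR T hT hne hRH hTH t ht
      by_cases he : R.map (MulAut.conj t).toMonoidHom = R
      · exact Or.inl he
      refine Or.inr ⟨hmeet _ (hinv t R hR) R hR he, fun a ha b hb => ?_⟩
      rcases hconj R hR T hT hne hRH hTH t (hTH ht) 1 H.one_mem with e | e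
      · exact absurd (e.trans (by ext; simp)) he
      · exact (e b hb a ⟨a, ha, by simp⟩).symm
    have hside1 : T ≤ Subgroup.normalizer (R : Set S) → ⁅R, T⁆ = ⊥ := fun h2 =>
      commute_of_normalize (hmeet R hR T hT hne)
        (side (hord R hR T hT) h2 (hpair T hT R hR hne.symm hTH hRH)) h2
    have hside2 : R ≤ Subgroup.normalizer (T : Set S) → ⁅R, T⁆ = ⊥ := fun h1 =>
      commute_of_normalize (hmeet R hR T hT hne) h1
        (side (hord T hT R hR) h1 (hpair R hR T hT hne hRH hTH))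
    by_contra hcon
    obtain ⟨r₀, hr₀, hr₀T⟩ := SetLike.not_le_iff_exists.mp fun h => hcon (hside2 h)
    obtain ⟨t₀, ht₀, ht₀R⟩ := SetLike.not_le_iff_exists.mp fun h => hcon (hside1 h)
    -- an element of T outside N(R) whose square is inside
    obtain ⟨t, ht, htR, ht2⟩ : ∃ t ∈ T, t ∉ Subgroup.normalizer (R : Set S) ∧ t * t ∈ Subgroup.normalizer (R : Set S) := by
      obtain ⟨m, hm⟩ := hS t₀
      have hex : ∃ m, t₀ ^ 2 ^ m ∈ Subgroup.normalizer (R : Set S) := ⟨m, hm ▸ one_mem _⟩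
      classical
      have h0 : Nat.find hex ≠ 0 := fun h => ht₀R (by simpa [h] using Nat.find_spec hex)
      refine ⟨t₀ ^ 2 ^ (Nat.find hex - 1), T.pow_mem ht₀ _, Nat.find_min hex (by omega), ?_⟩
      have h1 := Nat.find_spec hex
      rwa [← pow_add, ← two_mul, ← pow_succ', show Nat.find hex - 1 + 1 = Nat.find hex by omega]
    apply hΦ R hR
    refine sq_bot fun r => Subtype.ext ?_
    exact sq_eq_one hS (hNC1 R) (hNC3 R hR T hT hne hRH hTH) (hNC1 T) (hNC3 T hT R hR hne.symm hTH hRH)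
      (hRH.trans (hNC2 T)) (hTH.trans (hNC2 R)) (hpair R hR T hT hne hRH hTH) hr₀
      (((hpair T hT R hR hne.symm hTH hRH) r₀ hr₀).resolve_left fun e => hr₀T (mem_normalizer_of_map e)).1
      ht (fun e => htR (mem_normalizer_of_map e)) ht2 r r.2

end Cfsg.Agent.S1782
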