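import Cfsg.Statements.S1783
import Cfsg.Agent.S1782
import Cfsg.Agent.Lib.Coprime.Action
import Cfsg.Agent.Lib.Components.GenFitting
import Cfsg.Agent.Lib.Solvable.Cores
-- import your own Cfsg.Agent.* helpers here

set_option autoImplicit false
open Cfsg
open scoped commutatorElement

namespace Cfsg.Agent.S1783

/-- The TI family obtained from a subgroup `R` of a 2-subgroup `P` commutes. -/
theorem family_commute {X : Type*} [Group X] [Finite X] {P R : Subgroup X} (hP : IsPGroup 2 P) (D : Set X)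
    (hD : ∀ s ∈ P, ∀ d ∈ D, s * d ∈ D) (hRP : ∀ d ∈ D, R.map (MulAut.conj d).toMonoidHom ≤ P)
    (hti : ∀ h : X, R.map (MulAut.conj h).toMonoidHom = R ∨ R.map (MulAut.conj h).toMonoidHom ⊓ R = ⊥)
    {r : X} (hr : r ∈ R) (hr2 : r * r ≠ 1) :
    ∀ d ∈ D, ∀ e ∈ D, R.map (MulAut.conj d).toMonoidHom ≠ R.map (MulAut.conj e).toMonoidHom →
      ∀ x ∈ R.map (MulAut.conj d).toMonoidHom, ∀ y ∈ R.map (MulAut.conj e).toMonoidHom, x * y = y * x := by
  let Rc : X → Subgroup X := fun d => R.map (MulAut.conj d).toMonoidHom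
  have hmul : ∀ g h : X, (Rc h).map (MulAut.conj g).toMonoidHom = Rc (g * h) := fun g h => by
    simp only [Rc, Subgroup.map_map]
    congr 1
    ext x
    simp [mul_assoc]
  have hti' : ∀ d e : X, Rc d = Rc e ∨ Rc d ⊓ Rc e = ⊥ := by
    intro d e
    have e1 : Rc d = (Rc (e⁻¹ * d)).map (MulAut.conj e).toMonoidHom := by rw [hmul, mul_inv_cancel_left]
    rcases hti (e⁻¹ * d) with h | h
    · left; rw [e1]; exact congrArg _ h
    · right
      change Rc d ⊓ R.map (MulAut.conj e).toMonoidHom = ⊥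
      rw [e1, ← Subgroup.map_inf _ _ _ (MulAut.conj e).injective, h, Subgroup.map_bot]
  intro d hd e he hne x hx y hy
  have hback : ∀ d ∈ D, ((Rc d).subgroupOf P).map P.subtype = Rc d := fun d hd =>
    Subgroup.map_subgroupOf_eq_of_le (hRP d hd)
  have hcard : ∀ d ∈ D, Nat.card ((Rc d).subgroupOf P) = Nat.card R := fun d hd => by
    rw [Nat.card_congr (Subgroup.subgroupOfEquivOfLe (hRP d hd)).toEquiv]
    exact Subgroup.card_map_of_injective (MulAut.conj d).injective
  have key := Cfsg.Agent.S1782.result hP {T | ∃ d ∈ D, T = (Rc d).subgroupOf P} (by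
      rintro s _ ⟨d, hd, rfl⟩
      refine ⟨(s : X) * d, hD s s.2 d hd, Subgroup.map_injective P.subtype_injective ?_⟩
      rw [hback _ (hD s s.2 d hd), ← hmul]
      conv_rhs => rw [← hback d hd]
      rw [Subgroup.map_map, Subgroup.map_map]
      rfl) (by
      rintro _ ⟨d, hd, rfl⟩ h
      have h1 : (⟨⟨d * r * d⁻¹, hRP d hd ⟨r, hr, rfl⟩⟩, ⟨r, hr, rfl⟩⟩ : (Rc d).subgroupOf P) ^ 2 ∈
          frattini ((Rc d).subgroupOf P) := by
        have : Fact (Nat.Prime 2) := ⟨Nat.prime_two⟩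
        exact CfsgLib.PGroup.Frattini.pow_mem_frattini (hP.to_subgroup _) _
      rw [h, Subgroup.mem_bot] at h1
      have h2 := congrArg (fun a : (Rc d).subgroupOf P => ((a : P) : X)) h1
      change (d * r * d⁻¹) ^ 2 = 1 at h2
      rw [sq] at h2
      rw [show d * r * d⁻¹ * (d * r * d⁻¹) = d * (r * r) * d⁻¹ by group, mul_inv_eq_one, mul_eq_left] at h2
      exact hr2 h2) (by
      rintro _ ⟨d, hd, rfl⟩ _ ⟨e, he, rfl⟩
      rw [hcard d hd, hcard e he]) (by
      rintro _ ⟨d, hd, rfl⟩ _ ⟨e, he, rfl⟩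
      rcases hti' d e with h | h
      · left; rw [h]
      · right
        refine Subgroup.map_injective P.subtype_injective ?_
        rw [Subgroup.map_inf _ _ _ P.subtype_injective, hback d hd, hback e he, h, Subgroup.map_bot])
    _ ⟨d, hd, rfl⟩ _ ⟨e, he, rfl⟩ (fun h => hne (by
      have h1 := congrArg (Subgroup.map P.subtype) h
      rwa [hback d hd, hback e he] at h1))
  have h1 := Subgroup.commutator_eq_bot_iff_le_centralizer.mp key
  exact congrArg Subtype.val (Subgroup.mem_centralizer_iff.mp (h1 (show (⟨x, hRP d hd hx⟩ : P) ∈ (Rc d).subgroupOf P from hx))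
    ⟨y, hRP e he hy⟩ hy).symm

/-- Let X be a finite group whose generalized Fitting subgroup equals its largest normal 2-subgroup Q, and let A be an abelian 2-subgroup of X such that every conjugate of A equals A or meets A trivially. Let B be the subgroup generated by the squares of the elements of A. Then B lies in Q, and if B is not an elementary abelian 2-group then the normal closure of B in X is commutative. -/
theorem result {X : Type*} [Group X] [Finite X]
    (hX : Cfsg.generalizedFittingSubgroup X = Cfsg.pCore 2 X) (A : Subgroup X) (hA2 : IsPGroup 2 ↥A) (hAa : IsMulCommutative ↥A)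
    (hti : ∀ h : X, A.map (MulAut.conj h).toMonoidHom = A ∨ A.map (MulAut.conj h).toMonoidHom ⊓ A = ⊥) :
    Subgroup.closure ((fun a : X => a ^ 2) '' (A : Set X)) ≤ Cfsg.pCore 2 X ∧
      (¬ Cfsg.IsElementaryAbelian 2 (Subgroup.closure ((fun a : X => a ^ 2) '' (A : Set X))) →
        IsMulCommutative ↥(Subgroup.normalClosure ((fun a : X => a ^ 2) '' (A : Set X)))) := by
  have : Fact (Nat.Prime 2) := ⟨Nat.prime_two⟩
  set Q := Cfsg.pCore 2 X with hQ
  have hQn : Q.Normal := inferInstance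
  have hQp : IsPGroup 2 Q := CfsgLib.Solvable.Cores.isPGroup_pCore 2
  have hself : Subgroup.centralizer (Q : Set X) ≤ Q := by
    rw [← hX]; exact CfsgLib.Components.centralizer_generalizedFitting_le
  have hB1 : ∀ a ∈ A, a ^ 2 ∈ Q := by
    intro a ha
    by_cases ha2 : a * a = 1
    · rw [sq, ha2]; exact one_mem _
    set Φ : Subgroup X := (frattini Q).map Q.subtype with hΦ
    have hΦn : Φ.Normal := ConjAct.normal_of_characteristic_of_normal
    -- elements centralising `Q / Φ(Q)` lie in `Q`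
    let K₀ : Subgroup X := (Subgroup.centralizer ((Q.map (QuotientGroup.mk' Φ) : Subgroup (X ⧸ Φ)) : Set (X ⧸ Φ))).comap
      (QuotientGroup.mk' Φ)
    have hmemK : ∀ x : X, x ∈ K₀ ↔ ∀ q ∈ Q, ⁅x, q⁆ ∈ Φ := by
      intro x
      change QuotientGroup.mk' Φ x ∈ Subgroup.centralizer _ ↔ _
      rw [Subgroup.mem_centralizer_iff]
      have he : ∀ q, ⁅x, q⁆ ∈ Φ ↔ QuotientGroup.mk' Φ q * QuotientGroup.mk' Φ x = QuotientGroup.mk' Φ x * QuotientGroup.mk' Φ q := by
        intro q
        rw [← QuotientGroup.eq_one_iff (N := Φ)]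
        change QuotientGroup.mk' Φ ⁅x, q⁆ = 1 ↔ _
        rw [map_commutatorElement, commutatorElement_eq_one_iff_commute]
        exact ⟨fun h => h.symm.eq, fun h => (h : Commute _ _).symm⟩
      exact ⟨fun h q hq => (he q).mpr (h _ ⟨q, hq, rfl⟩), by rintro h _ ⟨q, hq, rfl⟩; exact (he q).mp (h q hq)⟩
    have hK₀n : K₀.Normal := by
      have : (Q.map (QuotientGroup.mk' Φ)).Normal := hQn.map _ (QuotientGroup.mk'_surjective Φ)
      infer_instance
    have hK₀ : IsPGroup 2 K₀ := by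
      intro x
      obtain ⟨k, m, hm, hk⟩ := Nat.exists_eq_two_pow_mul_odd (orderOf_pos x).ne'
      refine ⟨k, ?_⟩
      by_contra hne
      set y : X := ((x ^ 2 ^ k : K₀) : X) with hy
      have hy1 : y ≠ 1 := fun h => hne (Subtype.ext h)
      have hyo : orderOf y = m := by
        rw [hy, Subgroup.orderOf_coe, orderOf_pow, hk, Nat.gcd_eq_right (dvd_mul_right _ _),
          Nat.mul_div_cancel_left _ (by positivity)]
      have hcop : (Nat.card (Subgroup.zpowers y)).Coprime (Nat.card (frattini Q)) := by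
        rw [Nat.card_zpowers, hyo]
        obtain ⟨j, hj⟩ := (hQp.to_subgroup (frattini Q)).exists_card_eq
        rw [hj]
        exact Nat.Coprime.pow_right j (Nat.coprime_two_right.mpr hm)
      have hle := CfsgLib.Coprime.le_centralizer_of_frattini (K := Q)
        (fun z _ => by rw [Subgroup.normalizer_eq_top (H := Q)]; exact Subgroup.mem_top z) hcop
        (fun z hz q hq => (hmemK z).mp (Subgroup.zpowers_le.mpr (x ^ 2 ^ k : K₀).2 hz) q hq)
      have hyQ : y ∈ Q := hself (hle (Subgroup.mem_zpowers y))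
      obtain ⟨j, hj⟩ := IsPGroup.iff_orderOf.mp hQp ⟨y, hyQ⟩
      rw [← Subgroup.orderOf_coe, show ((⟨y, hyQ⟩ : Q) : X) = y from rfl, hyo] at hj
      rcases Nat.eq_zero_or_pos j with rfl | hj0
      · rw [pow_zero] at hj
        exact hy1 (orderOf_eq_one_iff.mp (hyo.trans hj))
      · exact Nat.not_even_iff_odd.mpr hm (hj ▸ (Nat.even_pow.mpr ⟨even_two, hj0.ne'⟩))
    apply CfsgLib.Solvable.Cores.le_pCore (N := K₀) hK₀
    rw [hmemK]
    intro q hq
    -- `[a, q]` commutes with `a`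
    set P := Q ⊔ A
    have hP : IsPGroup 2 P := hQp.to_sup_of_normal_left hA2
    set w := a * q * a⁻¹ * q⁻¹ with hw
    have hwQ : w ∈ Q := Q.mul_mem (hQn.conj_mem q hq a) (Q.inv_mem hq)
    have hwa : a * w = w * a := by
      have hcomm : ∀ x ∈ A, ∀ y ∈ A, x * y = y * x := fun x hx y hy =>
        congrArg Subtype.val (hAa.is_comm.comm ⟨x, hx⟩ ⟨y, hy⟩)
      have h1 : ∀ y ∈ A.map (MulAut.conj q).toMonoidHom, Commute a y := by
        intro y hy
        by_cases he : A.map (MulAut.conj (1 : X)).toMonoidHom = A.map (MulAut.conj q).toMonoidHom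
        · rw [show A.map (MulAut.conj (1 : X)).toMonoidHom = A by ext; simp] at he
          exact hcomm a ha y (he ▸ hy)
        · exact family_commute (R := A) hP (P : Set X) (fun s hs d hd => P.mul_mem hs hd)
            (fun d hd => by
              rintro _ ⟨x, hx, rfl⟩
              exact P.mul_mem (P.mul_mem hd (Subgroup.mem_sup_right hx)) (P.inv_mem hd))
            hti ha ha2 1 P.one_mem q (Subgroup.mem_sup_left hq) he a ⟨a, ha, by simp⟩ y hy
      have h3 : Commute a (a * (q * a⁻¹ * q⁻¹)) := (Commute.refl a).mul_right (h1 _ ⟨a⁻¹, A.inv_mem ha, rfl⟩)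
      rw [hw, show a * q * a⁻¹ * q⁻¹ = a * (q * a⁻¹ * q⁻¹) by group]
      exact h3
    have h2 : ⁅a ^ 2, q⁆ = w ^ 2 := by
      rw [commutatorElement_def, sq, sq, show a * a * q * (a * a)⁻¹ * q⁻¹ = (a * w * a⁻¹) * w by rw [hw]; group,
        hwa, mul_inv_cancel_right]
    rw [h2]
    exact ⟨⟨w, hwQ⟩ ^ 2, CfsgLib.PGroup.Frattini.pow_mem_frattini hQp _, rfl⟩
  refine ⟨(Subgroup.closure_le _).mpr (by rintro _ ⟨a, ha, rfl⟩; exact hB1 a ha), fun hne => ?_⟩
  have hcomm : ∀ x ∈ A, ∀ y ∈ A, x * y = y * x := fun x hx y hy =>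
    congrArg Subtype.val (hAa.is_comm.comm ⟨x, hx⟩ ⟨y, hy⟩)
  set B := Subgroup.closure ((fun a : X => a ^ 2) '' (A : Set X)) with hB
  have hBA : B ≤ A := (Subgroup.closure_le _).mpr (by rintro _ ⟨a, ha, rfl⟩; exact A.pow_mem ha 2)
  have hBQ : B ≤ Q := (Subgroup.closure_le _).mpr (by rintro _ ⟨a, ha, rfl⟩; exact hB1 a ha)
  obtain ⟨b, hb, hb2⟩ : ∃ b ∈ B, b ^ 2 ≠ 1 := by
    by_contra h
    push Not at h
    exact hne ⟨⟨⟨fun x y => Subtype.ext (hcomm x (hBA x.2) y (hBA y.2))⟩⟩, h⟩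
  have hconj : ∀ g h : X, ∀ x ∈ B, ∀ y ∈ B, (g * x * g⁻¹) * (h * y * h⁻¹) = (h * y * h⁻¹) * (g * x * g⁻¹) := by
    intro g h x hx y hy
    by_cases he : (A ⊓ Q).map (MulAut.conj g).toMonoidHom = (A ⊓ Q).map (MulAut.conj h).toMonoidHom
    · have h1 : g * x * g⁻¹ ∈ (A ⊓ Q).map (MulAut.conj h).toMonoidHom := he ▸ ⟨x, ⟨hBA hx, hBQ hx⟩, rfl⟩
      obtain ⟨x', hx', hxe⟩ := h1
      rw [← hxe]
      change h * x' * h⁻¹ * (h * y * h⁻¹) = h * y * h⁻¹ * (h * x' * h⁻¹)
      rw [show h * x' * h⁻¹ * (h * y * h⁻¹) = h * (x' * y) * h⁻¹ by group, hcomm x' hx'.1 y (hBA hy)]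
      group
    · exact family_commute (R := A ⊓ Q) hQp Set.univ (fun _ _ _ _ => Set.mem_univ _)
        (fun d _ => by rintro _ ⟨z, hz, rfl⟩; exact hQn.conj_mem z hz.2 d)
        (fun k => by
          rcases hti k with e | e
          · left
            ext z
            constructor
            · rintro ⟨u, hu, rfl⟩
              exact ⟨e.le ⟨u, hu.1, rfl⟩, hQn.conj_mem u hu.2 k⟩
            · rintro ⟨hzA, hzQ⟩
              obtain ⟨u, hu, rfl⟩ := e.ge hzA
              have := hQn.conj_mem _ hzQ k⁻¹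
              exact ⟨u, ⟨hu, by simpa [mul_assoc] using this⟩, rfl⟩
          · right
            refine le_bot_iff.mp (le_trans ?_ e.le)
            exact inf_le_inf (Subgroup.map_mono inf_le_left) inf_le_left)
        ⟨hBA hb, hBQ hb⟩ (by rwa [← sq]) g (Set.mem_univ _) h (Set.mem_univ _) he _ ⟨x, ⟨hBA hx, hBQ hx⟩, rfl⟩ _
        ⟨y, ⟨hBA hy, hBQ hy⟩, rfl⟩
  set N := Subgroup.normalClosure ((fun a : X => a ^ 2) '' (A : Set X)) with hN
  have hNc : N ≤ Subgroup.centralizer (N : Set X) := by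
    have h1 : ∀ u ∈ Group.conjugatesOfSet ((fun a : X => a ^ 2) '' (A : Set X)), ∃ g, ∃ x ∈ B, u = g * x * g⁻¹ := by
      intro u hu
      obtain ⟨x, hx, hxu⟩ := Group.mem_conjugatesOfSet_iff.mp hu
      obtain ⟨g, rfl⟩ := isConj_iff.mp hxu
      exact ⟨g, x, Subgroup.subset_closure hx, rfl⟩
    refine (Subgroup.closure_le _).mpr fun u hu => ?_
    change u ∈ Subgroup.centralizer ((Subgroup.closure _ : Subgroup X) : Set X)
    rw [Subgroup.centralizer_closure, Subgroup.mem_centralizer_iff]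
    intro v hv
    obtain ⟨g, x, hx, rfl⟩ := h1 u hu
    obtain ⟨k, y, hy, rfl⟩ := h1 v hv
    exact (hconj g k x hx y hy).symm
  exact ⟨⟨fun x y => Subtype.ext (Subgroup.mem_centralizer_iff.mp (hNc y.2) x x.2)⟩⟩

end Cfsg.Agent.S1783
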