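import Cfsg.Statements.S1784
import Cfsg.Agent.Lib.KGroups.ExtraspecialDual
import Cfsg.Agent.Lib.Components.GenFitting
import Cfsg.Agent.Lib.ThreeTransp.Simplicity
-- import your own Cfsg.Agent.* helpers here

set_option autoImplicit false
open Cfsg
open scoped commutatorElement

namespace Cfsg.Agent.S1784

open CfsgLib.LocalEvenB.ExtraspecialAut CfsgLib.KGroups.ExtraspecialDual in
/-- The image of `φ - 1` is the orthogonal of the fixed subspace. -/
theorem range_eq {Q : Type*} [Group Q] [Finite Q] (hQ : Cfsg.IsExtraspecial 2 Q) (φ : Q →* Q)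
    (hφ : ∀ x, φ (φ x) = x) (hne : ∃ x, φ x ≠ x) (Q₀ : Subgroup Q)
    (h₀ : ∀ x, x ∈ Q₀ ↔ φ x * x⁻¹ ∈ Subgroup.center Q) :
    Subgroup.closure (Set.range fun x => φ x * x⁻¹) = Q₀ ⊓ Subgroup.centralizer (Q₀ : Set Q) := by
  set R := Subgroup.closure (Set.range fun x => φ x * x⁻¹) with hR
  have hin : ∀ x, φ x * x⁻¹ ∈ R := fun x => Subgroup.subset_closure ⟨x, rfl⟩
  have hZ : ∀ z ∈ Subgroup.center Q, z ≠ 1 → φ z = z := fun z hz hz1 =>
    center_eq hQ (Subgroup.mem_center_iff.mpr fun y => by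
      rw [← hφ y, ← map_mul, ← map_mul, Subgroup.mem_center_iff.mp hz (φ y)]) hz
      (fun h => hz1 (by rw [← hφ z, h, map_one])) hz1
  have hcc : ∀ x y : Q, Commute (φ x) (φ y) ↔ Commute x y := fun x y =>
    ⟨fun h => by have := h.map φ; rwa [hφ, hφ] at this, fun h => h.map φ⟩
  have hcz : ∀ {z : Q}, z ∈ Subgroup.center Q → ∀ x : Q, Commute z x := fun hz x =>
    (Subgroup.mem_center_iff.mp hz x).symm
  -- the centre lies in R
  have hZR : Subgroup.center Q ≤ R := by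
    obtain ⟨x, hx⟩ := hne
    have hex : ∃ r ∈ R, r ∈ Subgroup.center Q ∧ r ≠ 1 := by
      by_cases hd : φ x * x⁻¹ ∈ Subgroup.center Q
      · exact ⟨_, hin x, hd, fun h => hx (mul_inv_eq_one.mp h)⟩
      · obtain ⟨a, ha⟩ : ∃ a : Q, a * (φ x * x⁻¹) ≠ (φ x * x⁻¹) * a := by
          by_contra h
          push Not at h
          exact hd (Subgroup.mem_center_iff.mpr h)
        refine ⟨⁅a, φ x * x⁻¹⁆, ?_, comm_mem hQ _ _, fun h => ha (commutatorElement_eq_one_iff_commute.mp h).eq⟩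
        have h1 := R.mul_mem (R.mul_mem (R.inv_mem (hin a)) (hin (a * x))) (R.inv_mem (hin x))
        rwa [show (φ a * a⁻¹)⁻¹ * (φ (a * x) * (a * x)⁻¹) * (φ x * x⁻¹)⁻¹ = ⁅a, φ x * x⁻¹⁆ by
          rw [map_mul, commutatorElement_def]; group] at h1
    obtain ⟨r, hrR, hrZ, hr1⟩ := hex
    intro z hz
    rcases eq_or_ne z 1 with rfl | hz1
    · exact R.one_mem
    · exact center_eq hQ hrZ hz hr1 hz1 ▸ hrR
  have hZ₀ : Subgroup.center Q ≤ Q₀ := fun z hz => (h₀ z).mpr (by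
    rcases eq_or_ne z 1 with rfl | hz1
    · simp
    · rw [hZ z hz hz1, mul_inv_cancel]; exact one_mem _)
  apply le_antisymm
  · rw [hR, Subgroup.closure_le]
    rintro _ ⟨x, rfl⟩
    refine ⟨(h₀ _).mpr ?_, Subgroup.mem_centralizer_iff.mpr fun q hq => ?_⟩
    · change φ (φ x * x⁻¹) * (φ x * x⁻¹)⁻¹ ∈ Subgroup.center Q
      rw [map_mul, map_inv, hφ, show x * (φ x)⁻¹ * (φ x * x⁻¹)⁻¹ = ((φ x * x⁻¹) * (φ x * x⁻¹))⁻¹ by group]
      exact inv_mem (sq_mem hQ _)
    · have hq' := (h₀ q).mp hq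
      refine ((commute_mul_iff' hQ _ _ q).mpr ?_).symm
      have h1 : Commute (φ x) q ↔ Commute (φ x) (φ q) := by
        constructor <;> intro h
        · have := (hcz hq' (φ x)).symm.mul_right h
          rwa [inv_mul_cancel_right] at this
        · have := (hcz hq' (φ x)).symm.inv_right.mul_right h
          rwa [show (φ q * q⁻¹)⁻¹ * φ q = q by group] at this
      rw [h1, hcc]
      exact ⟨fun h => h.inv_left, fun h => by simpa using h.inv_left⟩
  · refine inf_le_right.trans ?_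
    rw [← centralizer_centralizer hQ hZR]
    refine Subgroup.centralizer_le fun q hq => (h₀ q).mpr ?_
    refine Subgroup.mem_center_iff.mpr fun y => (Commute.symm ?_).eq
    have hq' : ∀ w, Commute (φ w * w⁻¹) q := fun w => Subgroup.mem_centralizer_iff.mp hq _ (hin w)
    have h1 : ∀ w, Commute (φ w) q ↔ Commute w q := fun w => by
      rw [(commute_mul_iff' hQ _ _ q).mp (hq' w)]
      exact ⟨fun h => by simpa using h.inv_left, fun h => h.inv_left⟩
    refine (commute_mul_iff' hQ _ _ y).mpr ?_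
    calc Commute (φ q) y ↔ Commute q (φ y) := by rw [← hcc q (φ y), hφ]
      _ ↔ Commute q y := ⟨fun h => ((h1 y).mp h.symm).symm, fun h => ((h1 y).mpr h.symm).symm⟩
      _ ↔ Commute q⁻¹ y := ⟨fun h => h.inv_left, fun h => by simpa using h.inv_left⟩

open CfsgLib.LocalEvenB.ExtraspecialAut in
theorem main {G : Type*} [Group G] [Finite G] (Q : Subgroup G) (hE : Cfsg.IsExtraspecial 2 Q) (z : G)
    (hz : orderOf z = 2) (hzQ : z ∈ Q) (hzc : ∀ q ∈ Q, q * z = z * q) (α : G) (hα : orderOf α = 2)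
    (hn : ∀ q ∈ Q, α * q * α⁻¹ ∈ Q) (hnc : ∃ q ∈ Q, α * q * α⁻¹ ≠ q) (Q₀ : Subgroup G)
    (hQ₀ : ∀ q : G, q ∈ Q₀ ↔ (q ∈ Q ∧ α * q * α⁻¹ * q⁻¹ ∈ Subgroup.zpowers z)) :
    Subgroup.closure ((fun q : G => α * q * α⁻¹ * q⁻¹) '' (Q : Set G)) = (Subgroup.center ↥Q₀).map Q₀.subtype ∧
      (¬ Q₀ ≤ (Q ⊓ Subgroup.centralizer ({α} : Set G)) ⊔ Subgroup.zpowers z →
        ∃ q ∈ Q, q * α * q⁻¹ = α * z) := by
  have hz1 : z ≠ 1 := fun h => by rw [h, orderOf_one] at hz; omega
  have hzc' : (⟨z, hzQ⟩ : Q) ∈ Subgroup.center Q := Subgroup.mem_center_iff.mpr fun x => Subtype.ext (hzc x x.2)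
  have hzp : ∀ x : Q, x ∈ Subgroup.center Q ↔ (x : G) ∈ Subgroup.zpowers z := by
    intro x
    constructor
    · intro hx
      rcases eq_or_ne x 1 with rfl | hx1
      · exact one_mem _
      · rw [center_eq hE hx hzc' hx1 (fun h => hz1 (congrArg Subtype.val h))]
        exact Subgroup.mem_zpowers z
    · intro hx
      obtain ⟨k, hk⟩ := Subgroup.mem_zpowers_iff.mp hx
      rw [show x = (⟨z, hzQ⟩ : Q) ^ k from Subtype.ext (by simp [hk])]
      exact Subgroup.zpow_mem _ hzc' k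
  have hα2 : α * α = 1 := by rw [← sq, ← hα]; exact pow_orderOf_eq_one α
  let φ : Q →* Q :=
    { toFun := fun x => ⟨α * x * α⁻¹, hn x x.2⟩
      map_one' := Subtype.ext (by simp)
      map_mul' := fun x y => Subtype.ext (by simp [mul_assoc]) }
  have hφ : ∀ x, φ (φ x) = x := fun x => Subtype.ext (by
    change α * (α * x * α⁻¹) * α⁻¹ = x
    calc _ = (α * α) * x * (α * α)⁻¹ := by group
      _ = x := by rw [hα2]; group)
  obtain ⟨a, ha, han⟩ := hnc
  have key := range_eq hE φ hφ ⟨⟨a, ha⟩, fun h => han (congrArg Subtype.val h)⟩ (Q₀.subgroupOf Q) (fun x => by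
    rw [Subgroup.mem_subgroupOf, hQ₀, hzp]; exact and_iff_right x.2)
  have hQ₀Q : Q₀ ≤ Q := fun q hq => ((hQ₀ q).mp hq).1
  constructor
  · have h1 := congrArg (Subgroup.map Q.subtype) key
    rw [MonoidHom.map_closure] at h1
    rw [show (fun q : G => α * q * α⁻¹ * q⁻¹) '' (Q : Set G) = Q.subtype '' Set.range (fun x => φ x * x⁻¹) from ?_, h1]
    · ext g
      constructor
      · rintro ⟨x, ⟨hx0, hxc⟩, rfl⟩
        refine ⟨⟨x, hx0⟩, Subgroup.mem_center_iff.mpr fun y => Subtype.ext ?_, rfl⟩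
        simpa using congrArg Subtype.val (Subgroup.mem_centralizer_iff.mp hxc ⟨y, hQ₀Q y.2⟩ y.2)
      · rintro ⟨x, hx, rfl⟩
        refine ⟨⟨x, hQ₀Q x.2⟩, ⟨x.2, Subgroup.mem_centralizer_iff.mpr fun y hy => Subtype.ext ?_⟩, rfl⟩
        simpa using congrArg Subtype.val (Subgroup.mem_center_iff.mp hx ⟨y, hy⟩)
    · ext g
      constructor
      · rintro ⟨q, hq, rfl⟩
        exact ⟨_, ⟨⟨q, hq⟩, rfl⟩, rfl⟩
      · rintro ⟨_, ⟨x, rfl⟩, rfl⟩
        exact ⟨x, x.2, rfl⟩
  · intro hnle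
    obtain ⟨q, hq, hq'⟩ := SetLike.not_le_iff_exists.mp hnle
    obtain ⟨hqQ, hqz⟩ := (hQ₀ q).mp hq
    have hne : α * q * α⁻¹ * q⁻¹ ≠ 1 := fun h => hq' <| Subgroup.mem_sup_left
      ⟨hqQ, Subgroup.mem_centralizer_singleton_iff.mpr (by
        rw [mul_inv_eq_one, mul_inv_eq_iff_eq_mul] at h; exact h.symm)⟩
    have heq : α * q * α⁻¹ * q⁻¹ = z := by
      have h1 := center_eq hE ((hzp ⟨_, Q.mul_mem (hn q hqQ) (Q.inv_mem hqQ)⟩).mpr hqz) hzc'
        (fun h => hne (congrArg Subtype.val h)) (fun h => hz1 (congrArg Subtype.val h))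
      exact congrArg Subtype.val h1
    refine ⟨q, hqQ, ?_⟩
    rw [← heq, inv_eq_of_mul_eq_one_right hα2, show α * (α * q * α * q⁻¹) = (α * α) * (q * α * q⁻¹) by group,
      hα2, one_mul]

theorem main2 {G : Type*} [Group G] [Finite G] (z : G) (hz : orderOf z = 2) (C : Subgroup G)
    (hC : ∀ x, x ∈ C ↔ x * z = z * x) (Qc : Subgroup C) [Qc.Normal]
    (hself : Subgroup.centralizer (Qc : Set C) ≤ Qc) (hE : Cfsg.IsExtraspecial 2 Qc)
    (α : G) (hα : orderOf α = 2) (hαC : α ∈ C) (hαQ : α ∉ Qc.map C.subtype)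
    (Q₀ : Subgroup G) (hQ₀ : ∀ q : G, q ∈ Q₀ ↔ (q ∈ Qc.map C.subtype ∧ α * q * α⁻¹ * q⁻¹ ∈ Subgroup.zpowers z)) :
    Subgroup.closure ((fun q : G => α * q * α⁻¹ * q⁻¹) '' (Qc.map C.subtype : Set G)) = (Subgroup.center ↥Q₀).map Q₀.subtype ∧
      (¬ Q₀ ≤ (Qc.map C.subtype ⊓ Subgroup.centralizer ({α} : Set G)) ⊔ Subgroup.zpowers z →
        ∃ q ∈ Qc.map C.subtype, q * α * q⁻¹ = α * z) := by
  have hzC : z ∈ C := (hC z).mpr rfl
  refine main (Qc.map C.subtype)
    (CfsgLib.ThreeTransp.Simplicity.isExtraspecial_of_equiv (Qc.equivMapOfInjective C.subtype C.subtype_injective) hE) z hz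
    ⟨⟨z, hzC⟩, hself (Subgroup.mem_centralizer_iff.mpr fun x _ => Subtype.ext ((hC x).mp x.2)), rfl⟩
    ?_ α hα ?_ ?_ Q₀ hQ₀
  · rintro _ ⟨x, -, rfl⟩
    exact (hC _).mp x.2
  · rintro _ ⟨x, hx, rfl⟩
    exact ⟨_, (inferInstance : Qc.Normal).conj_mem x hx ⟨α, hαC⟩, rfl⟩
  · by_contra h
    push Not at h
    refine hαQ ⟨⟨α, hαC⟩, hself (Subgroup.mem_centralizer_iff.mpr fun x hx => Subtype.ext ?_), rfl⟩
    exact (mul_inv_eq_iff_eq_mul.mp (h x ⟨x, hx, rfl⟩)).symm

/-- Let G be a finite group and let z be an involution of G such that Q, the generalized Fitting subgroup of the centralizer C of z, is a 2-group of symplectic type (every characteristic abelian subgroup of Q is cyclic); suppose Q is extraspecial, and view Q inside G. Let α be an involution of C that is not in Q, and let Q₀ be the subgroup of those q ∈ Q whose commutator with α lies in the subgroup generated by z. Then (a) the subgroup generated by the commutators α q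 α⁻¹ q⁻¹, q ∈ Q, equals the centre of Q₀; and (b) if Q₀ is not contained in the product of the centralizer of α in Q with the subgroup generated by z, then some element of Q conjugates α to α z. -/
theorem result {G : Type*} [Group G] [Finite G] (z : G) (hz : orderOf z = 2) (hQ : Cfsg.IsOfSymplecticType ↥(Cfsg.generalizedFittingSubgroup ↥(Subgroup.centralizer ({z} : Set G)))) (hE : Cfsg.IsExtraspecial 2 ↥(Cfsg.generalizedFittingSubgroup ↥(Subgroup.centralizer ({z} : Set G))))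
    (α : G) (hα : orderOf α = 2) (hαC : α ∈ Subgroup.centralizer ({z} : Set G)) (hαQ : α ∉ (Cfsg.generalizedFittingSubgroup ↥(Subgroup.centralizer ({z} : Set G))).map (Subgroup.centralizer ({z} : Set G)).subtype)
    (Q₀ : Subgroup G) (hQ₀ : ∀ q : G, q ∈ Q₀ ↔ (q ∈ (Cfsg.generalizedFittingSubgroup ↥(Subgroup.centralizer ({z} : Set G))).map (Subgroup.centralizer ({z} : Set G)).subtype ∧ α * q * α⁻¹ * q⁻¹ ∈ Subgroup.zpowers z)) :
    Subgroup.closure ((fun q : G => α * q * α⁻¹ * q⁻¹) '' ((Cfsg.generalizedFittingSubgroup ↥(Subgroup.centralizer ({z} : Set G))).map (Subgroup.centralizer ({z} : Set G)).subtype : Set G)) = (Subgroup.center ↥Q₀).map Q₀.subtype ∧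
      (¬ Q₀ ≤ ((Cfsg.generalizedFittingSubgroup ↥(Subgroup.centralizer ({z} : Set G))).map (Subgroup.centralizer ({z} : Set G)).subtype ⊓ Subgroup.centralizer ({α} : Set G)) ⊔ Subgroup.zpowers z →
        ∃ q ∈ (Cfsg.generalizedFittingSubgroup ↥(Subgroup.centralizer ({z} : Set G))).map (Subgroup.centralizer ({z} : Set G)).subtype, q * α * q⁻¹ = α * z) := by
  exact main2 z hz _ (fun _ => Subgroup.mem_centralizer_singleton_iff) _ (CfsgLib.Components.centralizer_generalizedFitting_le) hE α hα hαC hαQ Q₀ hQ₀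

end Cfsg.Agent.S1784
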