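import Cfsg.Statements.S1785
import Cfsg.Agent.Lib.KGroups.Functor.ElemChain
import Mathlib.Tactic.IntervalCases

set_option autoImplicit false
open Cfsg

namespace Cfsg.Agent.S1785

/-- Let X be a finite 2-group having a normal elementary abelian subgroup of order at least 32. Then (a) for any two elementary abelian subgroups A, B of X of order 8 there is a chain A = A₁, A₂, …, Aₙ = B of elementary abelian subgroups of order 8 in which consecutive members commute elementwise; and (b) every elementary abelian subgroup of X of order 4 is contained in an elementary abelian subgroup of order 8. -/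
theorem result {X : Type*} [Group X] [Finite X]
    (hX : IsPGroup 2 X) (E : Subgroup X) [E.Normal] (hE : Cfsg.IsElementaryAbelian 2 E) (hE32 : 32 ≤ Nat.card ↥E) :
    (∀ A B : Subgroup X, Cfsg.IsElementaryAbelian 2 A → Nat.card ↥A = 8 → Cfsg.IsElementaryAbelian 2 B → Nat.card ↥B = 8 →
        Relation.ReflTransGen
          (fun C D : Subgroup X => Cfsg.IsElementaryAbelian 2 C ∧ Nat.card ↥C = 8 ∧ Cfsg.IsElementaryAbelian 2 D ∧ Nat.card ↥D = 8 ∧ ⁅C, D⁆ = ⊥)
          A B) ∧
      (∀ V : Subgroup X, Cfsg.IsElementaryAbelian 2 V → Nat.card ↥V = 4 →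
        ∃ A : Subgroup X, V ≤ A ∧ Cfsg.IsElementaryAbelian 2 A ∧ Nat.card ↥A = 8) := by
  refine ⟨fun A B hA hAc hB hBc => ?_, fun V hV hVc => ?_⟩
  · have h := CfsgLib.KGroups.Functor.ElemChain.connected (k := 3) hX hE (by norm_num) (by omega)
      (fun f h1 h2 => by
        interval_cases f <;> norm_num <;> omega) hA hAc hB hBc
    induction h with
    | refl => exact Relation.ReflTransGen.refl
    | tail _ h ih =>
      refine (ih h.1 h.2.1).tail ⟨h.1, h.2.1, h.2.2.1, h.2.2.2.1, ?_⟩
      rw [Subgroup.commutator_eq_bot_iff_le_centralizer]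
      exact fun c hc => Subgroup.mem_centralizer_iff.mpr fun d hd => (h.2.2.2.2 c hc d hd).symm
  · have : Fact (Nat.Prime 2) := ⟨Nat.prime_two⟩
    obtain ⟨f, hf⟩ := ((CfsgLib.KGroups.Functor.ElemChain.isPGroup_of_elementary hV).to_le (inf_le_left : V ⊓ E ≤ V)).exists_card_eq
    have hf2 : f ≤ 2 := by
      have h := Subgroup.card_le_of_le (inf_le_left : V ⊓ E ≤ V)
      rw [hf, hVc, show (4 : ℕ) = 2 ^ 2 by norm_num, Nat.pow_le_pow_iff_right one_lt_two] at h
      exact h
    have hb := CfsgLib.KGroups.Functor.ElemChain.card_le_pow hE hV hf (2 - f) V inf_le_left le_rfl (by rw [hVc, Nat.add_sub_cancel' hf2]; rfl)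
    obtain ⟨e, heC, heV⟩ : ∃ e ∈ E ⊓ Subgroup.centralizer (V : Set X), e ∉ V ⊓ E := SetLike.not_le_iff_exists.mp fun hle => by
      have h1 := Nat.pow_le_pow_left (hf ▸ Subgroup.card_le_of_le hle) (2 ^ (2 - f))
      have h3 := hb.trans h1
      interval_cases f <;> norm_num at h3 <;> omega
    obtain ⟨L, hVL, -, -, hL, hLc⟩ := CfsgLib.KGroups.Functor.ElemChain.exists_adjoin hV (n := 2) (by rw [hVc]; norm_num) (hE.2 e heC.1)
      (fun a ha => Subgroup.mem_centralizer_iff.mp heC.2 a ha) (fun h => heV ⟨h, heC.1⟩)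
    exact ⟨L, hVL, hL, by rw [hLc]; norm_num⟩

end Cfsg.Agent.S1785
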