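import Cfsg.Statements.S1786
import Cfsg.Agent.Lib.KGroups.TISL2
import Cfsg.Agent.Lib.Components.GenFitting
import Cfsg.Agent.Lib.LocalEven.Residual

set_option autoImplicit false
open Cfsg CfsgLib.KGroups.TILarge
open scoped commutatorElement

namespace Cfsg.Agent.S1786

/-- Let G be a finite group, V an elementary abelian 2-subgroup of G and M the normalizer of V; write Q for the largest normal 2-subgroup of M. Suppose (1) the generalized Fitting subgroup of M equals Q; (2) V is a maximal abelian normal subgroup of M; (3) every conjugate of V equals V or meets V trivially, and for some g ∈ G the conjugate V' = g V g⁻¹ is different from V and contained in Q. Let P be the centralizer of V in Q, W the subgroup generated by V and V', and H the subgroup generated by P and g P g⁻¹. Then: (a) V is contained in g Q g⁻¹; (b) every non-identity element of W lies in exactly one conjugate of V contained in W, H normalizes W, and H modulo the centralizer of W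 in H is isomorphic to the special linear group of dimension 2 over the field with |V| elements; (c) P = Q, and V equals the Frattini subgroup, the centre and the commutator subgroup of Q. -/
theorem result {G : Type*} [Group G] [Finite G] (V : Subgroup G)
    (hV : Cfsg.IsElementaryAbelian 2 V)
    (h1 : (Cfsg.generalizedFittingSubgroup ↥(Subgroup.normalizer (V : Set G))).map (Subgroup.normalizer (V : Set G)).subtype =
      (Cfsg.pCore 2 ↥(Subgroup.normalizer (V : Set G))).map (Subgroup.normalizer (V : Set G)).subtype)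
    (h2 : ∀ A : Subgroup G, V ≤ A → A ≤ Subgroup.normalizer (V : Set G) → IsMulCommutative ↥A →
      (∀ m ∈ Subgroup.normalizer (V : Set G), ∀ a ∈ A, m * a * m⁻¹ ∈ A) → A = V)
    (hti : ∀ x : G, V.map (MulAut.conj x).toMonoidHom = V ∨ V.map (MulAut.conj x).toMonoidHom ⊓ V = ⊥)
    (g : G) (hg : V.map (MulAut.conj g).toMonoidHom ≠ V)
    (hgQ : V.map (MulAut.conj g).toMonoidHom ≤ (Cfsg.pCore 2 ↥(Subgroup.normalizer (V : Set G))).map (Subgroup.normalizer (V : Set G)).subtype) :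
    let Q : Subgroup G := (Cfsg.pCore 2 ↥(Subgroup.normalizer (V : Set G))).map (Subgroup.normalizer (V : Set G)).subtype
    let P : Subgroup G := Q ⊓ Subgroup.centralizer (V : Set G)
    let W : Subgroup G := V ⊔ V.map (MulAut.conj g).toMonoidHom
    let H : Subgroup G := P ⊔ P.map (MulAut.conj g).toMonoidHom
    V ≤ Q.map (MulAut.conj g).toMonoidHom ∧
      (∀ w ∈ W, w ≠ 1 → ∃! U : Subgroup G, (∃ x : G, U = V.map (MulAut.conj x).toMonoidHom) ∧ U ≤ W ∧ w ∈ U) ∧
      H ≤ Subgroup.normalizer (W : Set G) ∧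
      (∀ hN : ((Subgroup.centralizer (W : Set G)).subgroupOf H).Normal, ∃ (F : Type) (_ : Field F) (_ : Fintype F), Fintype.card F = Nat.card ↥V ∧
        Nonempty (↥H ⧸ (Subgroup.centralizer (W : Set G)).subgroupOf H ≃* Matrix.SpecialLinearGroup (Fin 2) F)) ∧
      P = Q ∧ (frattini ↥Q).map Q.subtype = V ∧ (Subgroup.center ↥Q).map Q.subtype = V ∧ (commutator ↥Q).map Q.subtype = V := by
  intro Q P W H
  haveI : Fact (Nat.Prime 2) := ⟨Nat.prime_two⟩
  have hcq : Subgroup.normalizer (V : Set G) ⊓ Subgroup.centralizer (QQ V : Set G) ≤ QQ V := by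
    intro x hx
    set M := Subgroup.normalizer (V : Set G) with hM
    have hmem : (⟨x, hx.1⟩ : M) ∈ Subgroup.centralizer (Cfsg.generalizedFittingSubgroup M : Set M) :=
      Subgroup.mem_centralizer_iff.mpr fun y hy => Subtype.ext (Subgroup.mem_centralizer_iff.mp hx.2 _
        (h1.le (Subgroup.mem_map_of_mem M.subtype hy)))
    exact h1.le (Subgroup.mem_map_of_mem M.subtype
      (CfsgLib.Components.centralizer_generalizedFitting_le hmem))
  have hyp : Hyp V := ⟨hV, hcq, h2, hti⟩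
  set B := cnj g V with hBdef
  have m : Mate V B := ⟨⟨g, rfl⟩, hg, hgQ⟩
  obtain ⟨A, hA⟩ := m.exists_partner hyp
  obtain ⟨b₁, hb₁, hb₁'⟩ : ∃ b ∈ B, b ≠ 1 := by
    rcases Subgroup.bot_or_exists_ne_one B with hb | hb
    · refine absurd (Subgroup.eq_of_le_of_card_ge (hb.le.trans bot_le) (m.card_eq hyp).ge) m.ne
    · exact hb
  obtain ⟨a₁, ha₁, ha₁'⟩ : ∃ a ∈ A, a ≠ 1 := by
    rcases Subgroup.bot_or_exists_ne_one A with hb | hb
    · refine absurd (Subgroup.eq_of_le_of_card_ge (hb.le.trans bot_le) (hA.right.card_eq hyp).ge) hA.right.ne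
    · exact hb
  have hPQ : PP V = QQ V := hA.PP_eq hyp
  have hPPB : cnj g (PP V) = PP B := (PP_cnj g V).symm
  have hQQB : cnj g (QQ V) = QQ B := (QQ_cnj g V).symm
  refine ⟨(m.le_QQ hyp).trans hQQB.ge, ?_, ?_⟩
  · intro w hw hw1
    have huniq : ∀ x y : G, w ∈ cnj x V → w ∈ cnj y V → cnj x V = cnj y V := by
      intro x y hx hy
      have h3 := (hyp.conj y).eq_of_mem (x := x * y⁻¹) hy
      rw [cnj_cnj, inv_mul_cancel_right] at h3
      exact h3 hx hw1
    obtain ⟨v, hv, b, hb, rfl⟩ := (m.mem_sup hyp).mp hw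
    rcases eq_or_ne b 1 with rfl | hb1
    · refine ⟨V, ⟨⟨1, (cnj_one V).symm⟩, le_sup_left, by rw [mul_one]; exact hv⟩, ?_⟩
      rintro U ⟨⟨x, rfl⟩, -, hwU⟩
      exact (huniq x 1 hwU (by rw [cnj_one, mul_one]; exact hv)).trans (cnj_one V)
    · obtain ⟨p, hp, hpe⟩ := m.exists_cover hyp hv hb hb1
      refine ⟨cnj p B, ⟨⟨p * g, cnj_cnj p g V⟩, m.cnj_B_le hyp hp, hpe ▸ conj_mem_cnj hb⟩, ?_⟩
      rintro U ⟨⟨x, rfl⟩, -, hwU⟩
      show cnj x V = cnj p (cnj g V)
      rw [cnj_cnj]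
      refine huniq x (p * g) hwU ?_
      rw [← cnj_cnj, ← hBdef, ← hpe]
      exact conj_mem_cnj hb
  obtain ⟨F, hF, hFf, e, hc⟩ := hA.exists_coord hyp ha₁ ha₁' hb₁ hb₁'
  obtain ⟨hN, hiso⟩ := hc.sl2 hA hyp ha₁' hb₁'
  have hHeq : H = PP V ⊔ PP B := by rw [← hPPB]; rfl
  refine ⟨hHeq ▸ hN, ?_, hPQ, ?_, ?_, ?_⟩
  · rw [hHeq]
    intro hn
    refine ⟨F, hF, hFf, ?_, hiso hn⟩
    rw [← Nat.card_eq_fintype_card]
    refine (Nat.card_congr (Equiv.ofBijective (fun v : V => e v) ⟨fun v w q => ?_, fun c => ?_⟩)).symm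
    · refine Subtype.ext ?_
      have h0 := hc.add _ w.2 _ w.2
      rw [hyp.sq w.2] at h0
      have h10 := hc.add 1 (one_mem V) 1 (one_mem V)
      rw [mul_one] at h10
      have h3 : e ((v : G) * w) = 0 := by
        rw [hc.add _ v.2 _ w.2, show e v = e w from q, ← h0]
        exact left_eq_add.mp h10
      rw [mul_eq_one_iff_eq_inv.mp (hc.inj _ (mul_mem v.2 w.2) h3), hyp.inv_eq w.2]
    · obtain ⟨v, hv, hvc⟩ := hc.surj c
      exact ⟨⟨v, hv⟩, hvc⟩
  all_goals apply le_antisymm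
  · rintro _ ⟨q, hq, rfl⟩
    have hle : frattini ↥(QQ V) ≤ V.subgroupOf (QQ V) :=
      CfsgLib.LocalEven.Residual.frattini_le (p := 2)
        (fun a b => hyp.comm_mem (hPQ.ge a.2) (hPQ.ge b.2))
        (fun a => by
          show ((a ^ 2 : QQ V) : G) ∈ V
          rw [pow_two]; exact hyp.sq_mem (hPQ.ge a.2))
    exact hle hq
  · intro v hv
    obtain ⟨a, ha, hav⟩ := hA.surj hyp hb₁ hb₁' hv
    let α : ↥Q := ⟨a, hA.right.le ha⟩
    let β : ↥Q := ⟨b₁, m.le hb₁⟩
    exact ⟨⁅α, β⁆, CfsgLib.PGroup.Frattini.commutatorElement_mem_frattini hyp.QQ_p α β, hav⟩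
  · rintro _ ⟨q, hq, rfl⟩
    exact hyp.center_mem (hPQ.ge q.2) fun y hy =>
      congrArg Subtype.val (Subgroup.mem_center_iff.mp hq ⟨y, hPQ.le hy⟩).symm
  · intro v hv
    exact ⟨⟨v, hyp.le_QQ hv⟩, Subgroup.mem_center_iff.mpr fun y =>
      Subtype.ext (hyp.cent (hPQ.ge y.2) hv).symm, rfl⟩
  · rintro _ ⟨q, hq, rfl⟩
    have hle : commutator ↥(QQ V) ≤ V.subgroupOf (QQ V) := by
      rw [commutator_def, Subgroup.commutator_le]
      exact fun a _ b _ => hyp.comm_mem (hPQ.ge a.2) (hPQ.ge b.2)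
    exact hle hq
  · intro v hv
    obtain ⟨a, ha, hav⟩ := hA.surj hyp hb₁ hb₁' hv
    let α : ↥Q := ⟨a, hA.right.le ha⟩
    let β : ↥Q := ⟨b₁, m.le hb₁⟩
    exact ⟨⁅α, β⁆, Subgroup.commutator_mem_commutator (Subgroup.mem_top α) (Subgroup.mem_top β), hav⟩

end Cfsg.Agent.S1786
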