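import Cfsg.Statements.S1850
import Cfsg.Agent.Lib.KGroups.CharP

set_option autoImplicit false
open Cfsg

namespace Cfsg.Agent.S1850

/-- Let G be a non-abelian finite simple QTKE-group and T a Sylow 2-subgroup of G. If U is a nontrivial 2-subgroup of G with U ∩ Z(T) ≠ 1, then F*(N_G(U)) = O₂(N_G(U)). -/
theorem result {G : Type*} [Group G] [Finite G] [IsSimpleGroup G]
    (hG : ¬ IsMulCommutative G) (hQ : Cfsg.IsQTKE G) (T : Sylow 2 G) (U : Subgroup G)
    (hU : IsPGroup 2 ↥U) (hZ : U ⊓ ((T : Subgroup G) ⊓ Subgroup.centralizer ((T : Subgroup G) : Set G)) ≠ ⊥) :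
    Subgroup.normalizer (U : Set G) ∈ Cfsg.calHe G := by
  haveI : Fact (Nat.Prime 2) := ⟨Nat.prime_two⟩
  set V := U ⊓ ((T : Subgroup G) ⊓ Subgroup.centralizer ((T : Subgroup G) : Set G)) with hV
  haveI : Nontrivial V := (Subgroup.nontrivial_iff_ne_bot _).mpr hZ
  obtain ⟨n, hn, hcard⟩ := (hU.to_le (inf_le_left : V ≤ U)).nontrivial_iff_card.mp inferInstance
  obtain ⟨z, hz⟩ := exists_prime_orderOf_dvd_card' (G := V) 2 (hcard ▸ dvd_pow_self 2 hn.ne')
  have hz' : orderOf (z : G) = 2 := by rwa [Subgroup.orderOf_coe]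
  obtain ⟨hzU, hzT, hzC⟩ := z.2
  refine CfsgLib.KGroups.CharP.generalizedFitting_eq_pCore
    (CfsgLib.KGroups.CharP.centralizer_pCore_normalizer_le hU hzU ?_)
  refine hQ.2.2 _ ⟨Subgroup.zpowers (z : G), (show IsPGroup 2 T from T.2).to_le ?_, ?_, ?_⟩ ⟨T, ?_⟩
  · exact Subgroup.zpowers_le.mpr hzT
  · rw [Ne, Subgroup.zpowers_eq_bot]
    intro h; rw [h, orderOf_one] at hz'; omega
  · ext g
    rw [Subgroup.mem_centralizer_singleton_iff, Subgroup.mem_normalizer_iff]
    have hz2 : (z : G) * z = 1 := by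
      have := pow_orderOf_eq_one (z : G); rwa [hz', pow_two] at this
    have hmem : ∀ u : G, u ∈ Subgroup.zpowers (z : G) ↔ u = 1 ∨ u = z := by
      intro u
      classical
      refine ⟨fun hu => ?_, ?_⟩
      · classical rw [(isOfFinOrder_of_finite _).mem_zpowers_iff_mem_range_orderOf] at hu
        simp only [hz', Finset.mem_image, Finset.mem_range] at hu
        obtain ⟨i, hi, rfl⟩ := hu
        interval_cases i <;> simp
      · rintro (rfl | rfl)
        · exact one_mem _
        · exact Subgroup.mem_zpowers _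
    constructor
    · intro hg u
      simp only [hmem]
      have hgz : g * (z : G) * g⁻¹ = z := by rw [hg, mul_inv_cancel_right]
      constructor
      · rintro (rfl | rfl)
        · simp
        · exact Or.inr hgz
      · rintro (h | h)
        · exact Or.inl (conj_eq_one_iff.mp h)
        · refine Or.inr ?_
          exact mul_left_cancel (mul_right_cancel (h.trans hgz.symm))
    · intro h
      rcases (hmem _).mp ((h (z : G)).mp (Subgroup.mem_zpowers _)) with h1 | h1
      · rw [conj_eq_one_iff] at h1; rw [h1]; simp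
      · exact mul_inv_eq_iff_eq_mul.mp h1
  · intro t ht
    rw [Subgroup.mem_centralizer_singleton_iff]
    exact Subgroup.mem_centralizer_iff.mp hzC t ht

end Cfsg.Agent.S1850
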