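import Cfsg.Statements.S1851
import Cfsg.Agent.Lib.LocalEven.Residual
import Cfsg.Agent.Lib.LocalEven.Large
import Cfsg.Agent.Lib.Components.Constrained
import Cfsg.Agent.Lib.Coprime.Abelian
-- import your own Cfsg.Agent.* helpers here

set_option autoImplicit false
open Cfsg
open scoped commutatorElement

namespace Cfsg.Agent.S1851

open CfsgLib.LocalEven.SylowIn

variable {G : Type*} [Group G] [Finite G]

theorem le_normalizer_pCoreOf {p : ℕ} [Fact p.Prime] (H : Subgroup G) :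
    H ≤ Subgroup.normalizer (Cfsg.pCoreOf p H : Set G) := normalizer_pCoreOf H

omit [Finite G] in
theorem mem_omega {D : Subgroup G} (hD : ∀ a ∈ D, ∀ b ∈ D, a * b = b * a) {x : G} :
    x ∈ Cfsg.omegaOne 2 D ↔ x ∈ D ∧ x ^ 2 = 1 := by
  refine ⟨fun hx => ?_, fun h => Subgroup.subset_closure h⟩
  induction hx using Subgroup.closure_induction with
  | mem a ha => exact ha
  | one => exact ⟨D.one_mem, one_pow _⟩
  | mul a b _ _ ha hb => exact ⟨D.mul_mem ha.1 hb.1, by rw [Commute.mul_pow (hD a ha.1 b hb.1), ha.2, hb.2, one_mul]⟩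
  | inv a _ ha => exact ⟨D.inv_mem ha.1, by rw [inv_pow, ha.2, inv_one]⟩

omit [Finite G] in
theorem comm_center (P : Subgroup G) :
    ∀ a ∈ P ⊓ Subgroup.centralizer (P : Set G), ∀ b ∈ P ⊓ Subgroup.centralizer (P : Set G), a * b = b * a :=
  fun a ha _ hb => Subgroup.mem_centralizer_iff.mp hb.2 a ha.1

/-- What is needed from membership in `ℒ(G, T)`. -/
theorem facts (hQ : Cfsg.IsOfEvenCharacteristic G) (T : Sylow 2 G) {K : Subgroup G}
    (hK : K ∈ Cfsg.calL (T : Subgroup G)) :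
    K ≠ ⊥ ∧ ⁅K, K⁆ = K ∧ oddGenerated K = K ∧ Cfsg.pCoreTwoOf K ≤ Cfsg.pCoreTwoOf (K ⊔ (T : Subgroup G)) ∧
      Cfsg.pCoreTwoOf (K ⊔ (T : Subgroup G)) ≤ Subgroup.normalizer (K : Set G) ∧
      Cfsg.pCoreTwoOf (K ⊔ (T : Subgroup G)) ⊓ K ≤ Cfsg.pCoreTwoOf K ∧
      Cfsg.pCoreTwoOf (K ⊔ (T : Subgroup G)) ≤ (T : Subgroup G) ∧
      (K ⊔ (T : Subgroup G)) ⊓ Subgroup.centralizer (Cfsg.pCoreTwoOf (K ⊔ (T : Subgroup G)) : Set G) ≤
        Cfsg.pCoreTwoOf (K ⊔ (T : Subgroup G)) ∧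
      generalizedFittingSubgroup ↥K = pCore 2 ↥K := by
  have : Fact (Nat.Prime 2) := ⟨Nat.prime_two⟩
  obtain ⟨⟨hne, hperf, hsn, -⟩, hPex, hR⟩ := hK
  set H := K ⊔ (T : Subgroup G) with hH
  obtain ⟨P, hP⟩ := hPex
  set R := Cfsg.pCoreTwoOf H with hRdef
  have hKH : K ≤ H := le_sup_left
  have hTH : (T : Subgroup G) ≤ H := le_sup_right
  have hne' : K ≠ ⊥ := fun h => hne (Subgroup.subgroupOf_eq_bot.mpr (disjoint_iff.mpr (by rw [h, bot_inf_eq])))
  have hperf' : ⁅K, K⁆ = K := by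
    have h := congrArg (Subgroup.map H.subtype) hperf
    rwa [Subgroup.map_commutator, Subgroup.map_subgroupOf_eq_of_le hKH] at h
  have hKp : Group.IsPerfect K := Subgroup.isPerfect_iff.mpr hperf'
  have hKp' : Group.IsPerfect ↥(K.subgroupOf H) := Subgroup.isPerfect_iff.mpr hperf
  have hodd : oddGenerated K = K := by
    have h1 := CfsgLib.LocalEven.Residual.map_pResidual_eq_closure (p := 2) K
    rw [CfsgLib.Components.pResidual_eq_top_of_perfect, ← MonoidHom.range_eq_map, Subgroup.range_subtype] at h1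
    simp only [Cfsg.oddGenerated, ← Nat.coprime_two_right]
    exact h1.symm
  have hRT : R ≤ (T : Subgroup G) := by
    rintro _ ⟨x, hx, rfl⟩
    have h := CfsgLib.Solvable.Cores.pCore_le_sylow P hx
    rw [hP] at h
    exact h
  have hRH : R ≤ H := hRT.trans hTH
  have hRne : R ≠ ⊥ := fun h => hR ((Subgroup.map_eq_bot_iff_of_injective _ H.subtype_injective).mp h)
  have hHR : H ≤ Subgroup.normalizer (R : Set G) := le_normalizer_pCoreOf H
  have hloc : Cfsg.IsTwoLocal (Subgroup.normalizer (R : Set G)) := ⟨R, T.2.to_le hRT, hRne, rfl⟩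
  set M := Subgroup.normalizer (R : Set G) with hM
  have hchar : Subgroup.centralizer (pCore 2 ↥M : Set ↥M) ≤ pCore 2 ↥M := hQ M hloc ⟨T, hTH.trans hHR⟩
  have hOH : Cfsg.pCoreTwoOf M ≤ R := by
    refine le_pCoreOf (fun x hx => ?_) (hHR.trans (le_normalizer_pCoreOf M)) (isPGroup_pCoreOf M)
    obtain ⟨y, hy, rfl⟩ := hx
    exact hTH (CfsgLib.Solvable.Cores.pCore_le_sylow (T.subtype (hTH.trans hHR)) hy)
  have hC : H ⊓ Subgroup.centralizer (R : Set G) ≤ R := by
    intro c hc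
    refine hOH ⟨⟨c, hHR hc.1⟩, hchar (Subgroup.mem_centralizer_iff.mpr fun y hy => Subtype.ext ?_), rfl⟩
    exact Subgroup.mem_centralizer_iff.mp hc.2 _ (hOH ⟨y, hy, rfl⟩)
  have hKsn : Cfsg.pCoreTwoOf K ≤ R := by
    have hle : Cfsg.pCoreTwoOf K ≤ K := pCoreOf_le K
    have hsn2 : ((Cfsg.pCoreTwoOf K).subgroupOf H).IsSubnormal := by
      refine CfsgLib.Components.IsSubnormal.of_normal_le hsn (fun x hx => hle hx) fun k hk => ?_
      exact Subgroup.mem_normalizer_iff.mpr fun x => Subgroup.mem_normalizer_iff.mp (le_normalizer_pCoreOf K hk) (x : G)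
    have h1 := CfsgLib.LocalEven.Residual.le_pCore_of_isSubnormal hsn2
      ((isPGroup_pCoreOf (p := 2) K).comap_of_injective H.subtype H.subtype_injective)
    intro x hx
    exact ⟨⟨x, hKH (hle hx)⟩, h1 hx, rfl⟩
  have hRN : R ≤ Subgroup.normalizer (K : Set G) := by
    have h := (CfsgLib.LocalEven.Residual.le_normalizer_of_pResidual_eq (Q := pCore 2 ↥H) hsn (by
      rw [CfsgLib.Components.pResidual_eq_top_of_perfect, ← MonoidHom.range_eq_map, Subgroup.range_subtype])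
      (CfsgLib.Solvable.Cores.isPGroup_pCore 2)).1
    rintro _ ⟨x, hx, rfl⟩
    refine Subgroup.mem_normalizer_iff.mpr fun y => ?_
    have h2 := Subgroup.mem_normalizer_iff.mp (h hx)
    constructor
    · intro hy; exact (h2 ⟨y, hKH hy⟩).mp hy
    · intro hy
      have hyH : y ∈ H := by
        have := H.mul_mem (H.mul_mem (H.inv_mem x.2) (hKH hy)) x.2
        simpa [mul_assoc] using this
      exact (h2 ⟨y, hyH⟩).mpr hy
  have hRK : R ⊓ K ≤ Cfsg.pCoreTwoOf K := by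
    refine le_pCoreOf inf_le_right (fun k hk => ?_) (T.2.to_le (inf_le_left.trans hRT))
    refine Subgroup.mem_normalizer_iff.mpr fun x => ?_
    simp only [Subgroup.mem_inf]
    rw [← Subgroup.mem_normalizer_iff.mp (Subgroup.le_normalizer hk) x, ← Subgroup.mem_normalizer_iff.mp (hHR (hKH hk)) x]
  refine ⟨hne', hperf', hodd, hKsn, hRN, hRK, hRT, hC, ?_⟩
  -- `F*(K) = O₂(K)`
  set O := pCore 2 ↥K with hO
  have hcent : Subgroup.centralizer (O : Set ↥K) ≤ O := by
    refine CfsgLib.Solvable.Cores.le_pCore ?_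
    refine CfsgLib.LocalEven.Residual.isPGroup_of_forall_coprime fun c hc hco => ?_
    have hco' : (orderOf (c : G)).Coprime 2 := by rwa [Subgroup.orderOf_coe]
    have hcN : (c : G) ∈ Subgroup.centralizer ((R ⊓ K : Subgroup G) : Set G) := by
      refine Subgroup.mem_centralizer_iff.mpr fun x hx => ?_
      obtain ⟨y, hy, hyx⟩ := hRK hx
      rw [← hyx]
      exact congrArg Subtype.val (Subgroup.mem_centralizer_iff.mp hc y hy)
    have hcR : (c : G) ∈ R := by
      refine hC ⟨hKH c.2, Subgroup.mem_centralizer_iff.mpr fun r hr => ?_⟩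
      refine (CfsgLib.Coprime.commute_of_stabilizes (N := R ⊓ K)
        (CfsgLib.LocalEven.Residual.mem_of_coprime_card (T.2.to_le (inf_le_left.trans hRT)) hco') hcN ⟨?_, ?_⟩).eq.symm
      · rw [commutatorElement_def]
        exact R.mul_mem ((Subgroup.mem_normalizer_iff.mp (hHR (hKH c.2)) r).mp hr) (R.inv_mem hr)
      · rw [commutatorElement_def, mul_assoc, mul_assoc]
        refine K.mul_mem c.2 ?_
        rw [← mul_assoc]
        exact (Subgroup.mem_normalizer_iff.mp (hRN hr) _).mp (K.inv_mem c.2)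
    obtain ⟨n, hn⟩ := IsPGroup.iff_orderOf.mp T.2 ⟨(c : G), hRT hcR⟩
    rw [← Subgroup.orderOf_coe] at hn
    change orderOf (c : G) = _ at hn
    rw [hn] at hco'
    rcases Nat.eq_zero_or_pos n with rfl | hn0
    · rw [pow_zero] at hn
      exact Subtype.ext (orderOf_eq_one_iff.mp hn)
    · exact absurd ((Nat.coprime_pow_left_iff hn0 _ _).mp hco') (by norm_num)
  have hpp : pPrimeCore 2 ↥K = ⊥ := by
    have hd : Disjoint (pPrimeCore 2 ↥K) O := by
      refine disjoint_iff.mpr (Subgroup.inf_eq_bot_of_coprime ?_)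
      obtain ⟨n, hn⟩ := (CfsgLib.Solvable.Cores.isPGroup_pCore (G := ↥K) 2).exists_card_eq
      rw [hn]
      exact Nat.Coprime.pow_right n (CfsgLib.Solvable.Cores.coprime_card_pPrimeCore 2)
    have hle : pPrimeCore 2 ↥K ≤ Subgroup.centralizer (O : Set ↥K) :=
      fun x hx => Subgroup.mem_centralizer_iff.mpr fun y hy =>
        (Subgroup.commute_of_normal_of_disjoint _ _ inferInstance inferInstance hd x y hx hy).eq.symm
    exact disjoint_self.mp (hd.mono_right (hle.trans hcent))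
  refine le_antisymm (CfsgLib.Components.generalizedFitting_le_of_centralizer_le O ?_ hcent) ?_
  · rw [CfsgLib.Solvable.Cores.fittingSubgroup_eq_pCore 2 hpp]
  · exact (CfsgLib.Solvable.Cores.pCore_le_fittingSubgroup 2).trans le_sup_right

theorem moduleV_ne_bot (hQ : Cfsg.IsOfEvenCharacteristic G) (T : Sylow 2 G) {L K : Subgroup G}
    (hL : L ∈ Cfsg.calL (T : Subgroup G)) (hK : K ∈ Cfsg.calL (T : Subgroup G)) (hLK : L ≤ K)
    (hV : Cfsg.moduleV L ≠ ⊥) : Cfsg.moduleV K ≠ ⊥ := by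
  have : Fact (Nat.Prime 2) := ⟨Nat.prime_two⟩
  obtain ⟨-, -, hLo, hLQ, hQN, hQL, hQT, hCQ, -⟩ := facts hQ T hL
  obtain ⟨-, hKp, -, hKR, hRN, hRK, hRT, hCR, -⟩ := facts hQ T hK
  set HL := L ⊔ (T : Subgroup G)
  set H := K ⊔ (T : Subgroup G)
  set Q := Cfsg.pCoreTwoOf HL
  set R := Cfsg.pCoreTwoOf H
  have hHLH : HL ≤ H := sup_le_sup hLK le_rfl
  have hRQ : R ≤ Q := le_pCoreOf (hRT.trans le_sup_right) (hHLH.trans (le_normalizer_pCoreOf H)) (T.2.to_le hRT)
  have hQQ : HL ≤ Subgroup.normalizer (Q : Set G) := le_normalizer_pCoreOf HL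
  intro hVK
  rw [Cfsg.moduleV, Subgroup.commutator_eq_bot_iff_le_centralizer] at hVK
  -- `K` centralises `Ω₁ Z(R)`
  set Z := Cfsg.omegaOne 2 (R ⊓ Subgroup.centralizer (R : Set G)) with hZ
  have hKR' : K ≤ Subgroup.normalizer (R : Set G) := le_sup_left.trans (le_normalizer_pCoreOf H)
  have h1 : ⁅Z, K⁆ ≤ Cfsg.omegaOne 2 (Cfsg.pCoreTwoOf K ⊓ Subgroup.centralizer (Cfsg.pCoreTwoOf K : Set G)) := by
    refine Subgroup.commutator_le.mpr fun z hz k hk => ?_
    rw [hZ, mem_omega (comm_center R)] at hz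
    obtain ⟨⟨hzR, hzC⟩, hz2⟩ := hz
    have hconj : k * z⁻¹ * k⁻¹ ∈ R ∧ ∀ r ∈ R, Commute r (k * z⁻¹ * k⁻¹) := by
      refine ⟨(Subgroup.mem_normalizer_iff.mp (hKR' hk) _).mp (R.inv_mem hzR), fun r hr => ?_⟩
      have hr' : k⁻¹ * r * k ∈ R := by
        simpa using (Subgroup.mem_normalizer_iff.mp (hKR' (K.inv_mem hk)) r).mp hr
      have := (Commute.inv_right (Subgroup.mem_centralizer_iff.mp hzC _ hr')).map (MulAut.conj k).toMonoidHom
      simpa [mul_assoc] using this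
    have hmemR : ⁅z, k⁆ ∈ R := by
      rw [commutatorElement_def, mul_assoc, mul_assoc, ← mul_assoc k]
      exact R.mul_mem hzR hconj.1
    have hmemK : ⁅z, k⁆ ∈ K := by
      rw [commutatorElement_def]
      exact K.mul_mem ((Subgroup.mem_normalizer_iff.mp (hRN hzR) k).mp hk) (K.inv_mem hk)
    have hcR : ∀ r ∈ R, Commute r ⁅z, k⁆ := fun r hr => by
      rw [commutatorElement_def, mul_assoc, mul_assoc, ← mul_assoc k]
      exact Commute.mul_right (Subgroup.mem_centralizer_iff.mp hzC r hr) (hconj.2 r hr)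
    refine (mem_omega (comm_center _)).mpr ⟨⟨hRK ⟨hmemR, hmemK⟩,
      Subgroup.mem_centralizer_iff.mpr fun r hr => (hcR r (hKR hr)).eq⟩, ?_⟩
    rw [commutatorElement_def, mul_assoc, mul_assoc, ← mul_assoc k,
      (hconj.2 z hzR).mul_pow, hz2, conj_pow, inv_pow, hz2, inv_one, mul_one, mul_inv_cancel, one_mul]
  have hZK : K ≤ Subgroup.centralizer (Z : Set G) := by
    have h2 : ⁅⁅Z, K⁆, K⁆ = ⊥ := Subgroup.commutator_eq_bot_iff_le_centralizer.mpr (h1.trans hVK)
    have h3 : ⁅⁅K, Z⁆, K⁆ = ⊥ := by rw [Subgroup.commutator_comm K Z]; exact h2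
    have h4 := Subgroup.commutator_commutator_eq_bot_of_rotate h3 h2
    rw [hKp] at h4
    exact Subgroup.commutator_eq_bot_iff_le_centralizer.mp h4
  -- `L` centralises `Ω₁ Z(O₂(L))`
  apply hV
  rw [Cfsg.moduleV, Subgroup.commutator_comm, Subgroup.commutator_eq_bot_iff_le_centralizer]
  set P := Cfsg.pCoreTwoOf L with hP
  set V := Cfsg.omegaOne 2 (P ⊓ Subgroup.centralizer (P : Set G)) with hVdef
  have hVmem : ∀ {v : G}, v ∈ V ↔ v ∈ P ⊓ Subgroup.centralizer (P : Set G) ∧ v ^ 2 = 1 := mem_omega (comm_center P)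
  have hLP : L ≤ Subgroup.normalizer (P : Set G) := le_normalizer_pCoreOf L
  have hNV : ∀ g ∈ Subgroup.normalizer (P : Set G), ∀ v ∈ V, g * v * g⁻¹ ∈ V := by
    intro g hg v hv
    obtain ⟨⟨hvP, hvC⟩, hv2⟩ := hVmem.mp hv
    refine hVmem.mpr ⟨⟨(Subgroup.mem_normalizer_iff.mp hg v).mp hvP, Subgroup.mem_centralizer_iff.mpr fun x hx => ?_⟩, ?_⟩
    · have hx' : g⁻¹ * x * g ∈ P := by simpa using (Subgroup.mem_normalizer_iff.mp (inv_mem hg) x).mp hx
      have := congrArg (fun w => g * w * g⁻¹) (Subgroup.mem_centralizer_iff.mp hvC _ hx')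
      simpa [mul_assoc] using this
    · rw [conj_pow, hv2, mul_one, mul_inv_cancel]
  have hnV : Subgroup.normalizer (P : Set G) ≤ Subgroup.normalizer (V : Set G) := fun g hg =>
    Subgroup.mem_normalizer_fintype (hNV g hg)
  have hQP : Q ≤ Subgroup.normalizer (P : Set G) := by
    intro q hq
    rw [hP]
    refine map_conj_eq_iff.mp ?_
    change (pCoreOf 2 L).map _ = pCoreOf 2 L
    rw [pCoreOf_map_conj, map_conj_eq_iff.mpr (hQN hq)]
  have hVL : V ≤ L := fun v hv => pCoreOf_le L (hVmem.mp hv).1.1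
  have hVp : IsPGroup 2 V := (isPGroup_pCoreOf (p := 2) L).to_le fun v hv => (hVmem.mp hv).1.1
  have hVc : IsMulCommutative V :=
    ⟨⟨fun a b => Subtype.ext (comm_center P a (hVmem.mp a.2).1 b (hVmem.mp b.2).1)⟩⟩
  have hfix : ∀ y ∈ V, (∀ q ∈ Q, q * y = y * q) → y ∈ Subgroup.centralizer (L : Set G) := by
    intro y hy hyQ
    have hyQ' : y ∈ Q := hCQ ⟨(le_sup_left : L ≤ HL) (hVL hy), Subgroup.mem_centralizer_iff.mpr hyQ⟩
    have hyR : y ∈ R := hCR ⟨hHLH ((le_sup_left : L ≤ HL) (hVL hy)),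
      Subgroup.mem_centralizer_iff.mpr fun r hr => hyQ r (hRQ hr)⟩
    have hyZ : y ∈ Z := by
      rw [hZ, mem_omega (comm_center R)]
      exact ⟨⟨hyR, Subgroup.mem_centralizer_iff.mpr fun r hr => hyQ r (hRQ hr)⟩, (hVmem.mp hy).2⟩
    exact Subgroup.mem_centralizer_iff.mpr fun l hl => (Subgroup.mem_centralizer_iff.mp (hZK (hLK hl)) y hyZ).symm
  conv_lhs => rw [← hLo]
  refine (Subgroup.closure_le _).mpr ?_
  rintro a ⟨haL, ha⟩
  set A := Subgroup.zpowers a with hA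
  have hcop : (Nat.card A).Coprime (Nat.card V) := by
    obtain ⟨n, hn⟩ := hVp.exists_card_eq
    rw [hn, hA, Nat.card_zpowers]
    exact Nat.Coprime.pow_right n (Nat.coprime_two_right.mpr ha)
  have hAV : A ≤ Subgroup.normalizer (V : Set G) := Subgroup.zpowers_le.mpr (hnV (hLP haL))
  set W := ⁅V, A⁆ with hW
  have hWV : W ≤ V := CfsgLib.Components.commutator_le_left_of_le_normalizer hAV
  by_contra hna
  have hWne : W ≠ ⊥ := fun h => hna <| by
    rw [hW, Subgroup.commutator_comm, Subgroup.commutator_eq_bot_iff_le_centralizer] at h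
    exact h (Subgroup.mem_zpowers a)
  have hQW : Q ≤ Subgroup.normalizer (W : Set G) := by
    intro q hq
    refine Subgroup.mem_normalizer_fintype fun w hw => ?_
    suffices h : W ≤ W.comap (MulAut.conj q).toMonoidHom from h hw
    rw [hW]
    refine Subgroup.commutator_le.mpr fun v hv b hb => ?_
    change q * ⁅v, b⁆ * q⁻¹ ∈ ⁅V, A⁆
    have hbL : b ∈ L := Subgroup.zpowers_le.mpr haL hb
    have hc : b⁻¹ * (q * b * q⁻¹) ∈ P := by
      refine hQL ⟨?_, L.mul_mem (L.inv_mem hbL) ((Subgroup.mem_normalizer_iff.mp (hQN hq) b).mp hbL)⟩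
      have h := (Subgroup.mem_normalizer_iff.mp (hQQ ((le_sup_left : L ≤ HL) (L.inv_mem hbL))) q).mp hq
      rw [inv_inv] at h
      rw [show b⁻¹ * (q * b * q⁻¹) = (b⁻¹ * q * b) * q⁻¹ by group]
      exact Q.mul_mem h (Q.inv_mem hq)
    have hv' : q * v * q⁻¹ ∈ V := hNV q (hQP hq) v hv
    have hcomm : Commute (b⁻¹ * (q * b * q⁻¹)) (q * v * q⁻¹)⁻¹ :=
      Commute.inv_right (Subgroup.mem_centralizer_iff.mp (hVmem.mp hv').1.2 _ hc)
    have he : q * ⁅v, b⁆ * q⁻¹ = ⁅q * v * q⁻¹, b⁆ := by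
      have hb' : q * b * q⁻¹ = b * (b⁻¹ * (q * b * q⁻¹)) := by rw [mul_inv_cancel_left]
      calc q * ⁅v, b⁆ * q⁻¹ = ⁅q * v * q⁻¹, q * b * q⁻¹⁆ := by simp only [commutatorElement_def]; group
        _ = ⁅q * v * q⁻¹, b * (b⁻¹ * (q * b * q⁻¹))⁆ := by rw [← hb']
        _ = (q * v * q⁻¹) * b * ((b⁻¹ * (q * b * q⁻¹)) * (q * v * q⁻¹)⁻¹) * (b⁻¹ * (q * b * q⁻¹))⁻¹ * b⁻¹ := by
            simp only [commutatorElement_def]; group
        _ = _ := by rw [hcomm.eq]; simp only [commutatorElement_def]; group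
    rw [he]
    exact Subgroup.commutator_mem_commutator hv' hb
  obtain ⟨y, ⟨hyW, hyC⟩, hy1⟩ := CfsgLib.LocalEven.Large.exists_fixed (T.2.to_le hQT) (hVp.to_le hWV) hWne hQW
  have hy2 := hfix y (hWV hyW) fun q hq => Subgroup.mem_centralizer_iff.mp hyC q hq
  exact hy1 ((Subgroup.eq_bot_iff_forall _).mp (CfsgLib.Coprime.centralizer_inf_commutator_eq_bot hAV hcop) y
    ⟨⟨hWV hyW, Subgroup.centralizer_le (fun b hb => Subgroup.zpowers_le.mpr haL hb) hy2⟩, hyW⟩)

/-- Let G be a non-abelian finite simple QTKE-group and T a Sylow 2-subgroup of G, and let L be a member of ℒ_f(G, T) (a member of ℒ(G, T) that lies in 𝒳 — L ≠ 1, L = O²(L), F*(L) = O₂(L) — and acts nontrivially on Ω₁(Z(O₂(L)))). Then (1) every member K of ℒ(G, T) containing L is again in ℒ_f(G, T) (a sharper form of (1) also compares the modules [Ω₁(Z(R)), L] and [Ω₁(Z(R')), K] for suitable 2-subgroups R, R'; that comparison is not included); and (2) if L is maximal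 under inclusion among the members of ℒ_f(G, T), then L is a maximal member of ℒ(G, T), hence a member of ℒ_f*(G, T). -/
theorem result {G : Type*} [Group G] [Finite G] [IsSimpleGroup G]
    (hG : ¬ IsMulCommutative G) (hQ : Cfsg.IsQTKE G) (T : Sylow 2 G) (L : Subgroup G)
    (hL : L ∈ Cfsg.calLf (T : Subgroup G)) :
    (∀ K ∈ Cfsg.calL (T : Subgroup G), L ≤ K → K ∈ Cfsg.calLf (T : Subgroup G)) ∧
    ((∀ K ∈ Cfsg.calLf (T : Subgroup G), L ≤ K → K = L) → L ∈ Cfsg.calLfMax (T : Subgroup G)) := by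
  have hmem : ∀ K ∈ Cfsg.calL (T : Subgroup G), L ≤ K → K ∈ Cfsg.calLf (T : Subgroup G) := by
    intro K hK hLK
    obtain ⟨h1, -, h2, -, -, -, -, -, h3⟩ := facts hQ.2.2 T hK
    exact ⟨hK, ⟨h1, h2, h3⟩, moduleV_ne_bot hQ.2.2 T hL.1 hK hLK hL.2.2⟩
  exact ⟨hmem, fun hmax => ⟨⟨hL.1, fun K hK hLK => hmax K (hmem K hK hLK) hLK⟩, hL.2⟩⟩

end Cfsg.Agent.S1851
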