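import Cfsg.Statements.S1892
import Cfsg.Agent.Lib.Fusion.PSolvable
import Cfsg.Agent.Lib.Coprime.Action
-- import your own Cfsg.Agent.* helpers here

set_option autoImplicit false
open Cfsg Subgroup
open scoped commutatorElement

namespace Cfsg.Agent.S1892

/-- The subgroup of the elements acting trivially on `P / D`. -/
def _root_.CfsgLib.Components.ngpActTrivial {S : Type*} [Group S] (P D : Subgroup S)
    (hPD : P ≤ normalizer (D : Set S)) : Subgroup S where
  carrier := {g | g ∈ normalizer (D : Set S) ∧ ∀ k ∈ P, ⁅g, k⁆ ∈ D}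
  one_mem' := ⟨one_mem _, fun k _ => by simp⟩
  mul_mem' := fun {g h} hg hh => ⟨mul_mem hg.1 hh.1, fun k hk => by
    have e : ⁅g * h, k⁆ = g * ⁅h, k⁆ * g⁻¹ * ⁅g, k⁆ := by simp only [commutatorElement_def]; group
    rw [e]
    exact mul_mem ((mem_normalizer_iff.mp hg.1 _).mp (hh.2 k hk)) (hg.2 k hk)⟩
  inv_mem' := fun {g} hg => ⟨inv_mem hg.1, fun k hk => by
    have e : ⁅g⁻¹, k⁆ = g⁻¹ * ⁅g, k⁆⁻¹ * g := by simp only [commutatorElement_def]; group
    rw [e]
    exact (mem_normalizer_iff''.mp hg.1 _).mp (inv_mem (hg.2 k hk))⟩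

/-- Let S be a finite p-solvable group with no nontrivial normal subgroup of order prime to p, A a p-subgroup of S, and Q a nontrivial A-invariant subgroup of order prime to p with [A, Q] = Q. Then the commutator [O_p(S), A, Q] is nontrivial. -/
theorem result {S : Type*} [Group S] [Finite S] {p : ℕ} [Fact p.Prime]
    (hS : Cfsg.IsPSolvable p S) (hred : Cfsg.pPrimeCore p S = ⊥)
    (A Q : Subgroup S) (hA : IsPGroup p A) (hQ : ¬ p ∣ Nat.card Q) (hQ1 : Q ≠ ⊥)
    (hinv : ∀ a ∈ A, ∀ x ∈ Q, a * x * a⁻¹ ∈ Q) (hAQ : ⁅A, Q⁆ = Q) :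
    ⁅⁅Cfsg.pCore p S, A⁆, Q⁆ ≠ ⊥ := by
  intro h
  set P := Cfsg.pCore p S with hP
  set D := ⁅P, A⁆ with hD
  have hPp : IsPGroup p P := CfsgLib.Solvable.Cores.isPGroup_pCore p
  haveI : P.Normal := inferInstance
  have hPnorm : ∀ g : S, g ∈ normalizer (P : Set S) := fun g => by rw [normalizer_eq_top]; exact mem_top g
  have hDP : D ≤ P := le_normalizer_iff_commutator_le_left.mp fun g _ => hPnorm g
  have hPD : P ≤ normalizer (D : Set S) := normalizer_commutator_ge_left P A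
  have hQD : Q ≤ centralizer (D : Set S) := by
    rw [← commutator_eq_bot_iff_le_centralizer, commutator_comm]; exact h
  have hA' : ∀ a ∈ A, ∀ k ∈ P, a⁻¹ * k * a * k⁻¹ ∈ D := fun a ha k hk => by
    have h1 : ⁅k, a⁻¹⁆ ∈ D := commutator_mem_commutator hk (inv_mem ha)
    have h2 := inv_mem h1
    simpa [commutatorElement_def, mul_assoc] using h2
  have hAD : A ≤ normalizer (D : Set S) := normalizer_commutator_ge_right P A
  have key : ∀ q ∈ Q, ∀ k ∈ P, ⁅q, k⁆ ∈ D := by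
    rw [← hAQ]
    suffices hle : ⁅A, Q⁆ ≤ CfsgLib.Components.ngpActTrivial P D hPD from
      fun q hq k hk => (hle hq).2 k hk
    rw [commutator_le]
    intro a ha q hq
    have hgn : ⁅a, q⁆ ∈ normalizer (D : Set S) :=
      centralizer_le_normalizer _ (hQD (hAQ.le (commutator_mem_commutator ha hq)))
    refine ⟨hgn, fun k hk => ?_⟩
    have hk₁ : q⁻¹ * k * q ∈ P := (mem_normalizer_iff''.mp (hPnorm q) k).mp hk
    obtain ⟨d₁, hd₁, e₁⟩ : ∃ d ∈ D, a⁻¹ * (q⁻¹ * k * q) * a = d * (q⁻¹ * k * q) :=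
      ⟨_, hA' a ha _ hk₁, by group⟩
    have hc : q * d₁ * q⁻¹ = d₁ := by
      rw [mul_inv_eq_iff_eq_mul]; exact (mem_centralizer_iff.mp (hQD hq) d₁ hd₁).symm
    have e : ⁅⁅a, q⁆, k⁆ = (a * d₁ * a⁻¹) * ((a * k * a⁻¹) * k⁻¹) := by
      calc ⁅⁅a, q⁆, k⁆ = a * (q * (a⁻¹ * (q⁻¹ * k * q) * a) * q⁻¹) * a⁻¹ * k⁻¹ := by
            simp only [commutatorElement_def]; group
        _ = a * ((q * d₁ * q⁻¹) * k) * a⁻¹ * k⁻¹ := by rw [e₁]; group
        _ = _ := by rw [hc]; group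
    rw [e]
    refine mul_mem ((mem_normalizer_iff.mp (hAD ha) d₁).mp hd₁) ?_
    simpa using hA' a⁻¹ (inv_mem ha) k hk
  have hcop : (Nat.card Q).Coprime (Nat.card D) := by
    obtain ⟨n, hn⟩ := IsPGroup.iff_card.mp (hPp.to_le hDP)
    rw [hn]
    exact (((Fact.out : p.Prime).coprime_iff_not_dvd.mpr hQ).symm).pow_right n
  have hQP : Q ≤ P := (CfsgLib.Coprime.le_centralizer_of_stabilizes hcop hQD key).trans
    (CfsgLib.Fusion.PSolvable.centralizer_pCore_le hS hred)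
  obtain ⟨n, hn⟩ := IsPGroup.iff_card.mp (hPp.to_le hQP)
  rcases Nat.eq_zero_or_pos n with rfl | hpos
  · exact hQ1 (Subgroup.eq_bot_of_card_eq _ (by simpa using hn))
  · exact hQ (hn ▸ dvd_pow_self p hpos.ne')

end Cfsg.Agent.S1892
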