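import Cfsg.Statements.S1893
import Cfsg.Agent.Lib.Solvable.ScnHallCentralizer
import Cfsg.Agent.Lib.OddOrder.SigmaBasics

set_option autoImplicit false
open Cfsg
open Subgroup CfsgLib
open scoped commutatorElement

namespace Cfsg.Agent.S1893

/-- Let S be a finite solvable group, π a set of primes containing neither 2 nor 3, H a Hall π-subgroup of S, and A a self-centralizing normal subgroup of the Fitting subgroup F(H). Then C_S(A) = A × D for a normal subgroup D of C_S(A) whose order has no prime divisor in π. -/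
theorem result {S : Type*} [Group S] [Finite S] [Group.IsSolvable S]
    (π : Set ℕ) (h2 : 2 ∉ π) (h3 : 3 ∉ π) (H : Subgroup S) (hH : Cfsg.IsPiHall π H)
    (A : Subgroup S) (hA : Cfsg.IsSCN ((Cfsg.fittingSubgroup H).map H.subtype) A) :
    ∃ D : Subgroup S, D ≤ Subgroup.centralizer (A : Set S) ∧
      (∀ c ∈ Subgroup.centralizer (A : Set S), ∀ d ∈ D, c * d * c⁻¹ ∈ D) ∧
      A ⊓ D = ⊥ ∧ A ⊔ D = Subgroup.centralizer (A : Set S) ∧
      ∀ q : ℕ, q.Prime → q ∣ Nat.card D → q ∉ π := by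
  classical
  obtain ⟨hAF, hFA, hCA⟩ := hA
  set FH := (Cfsg.fittingSubgroup H).map H.subtype with hFH
  have hFHH : FH ≤ H := map_subtype_le _
  have hAH : A ≤ H := hAF.trans hFHH
  set C := centralizer (A : Set S) with hC
  have hAC : A ≤ C := fun a ha => (hCA.ge ha).2
  set O := Cfsg.piCore {r | r ∉ π} S with hOdef
  haveI hOn : O.Normal := sSup_normal _ fun _ h => h.1
  have hcopπ : ∀ m n : ℕ, (∀ t : ℕ, t.Prime → t ∣ m → t ∈ π) →
      (∀ t : ℕ, t.Prime → t ∣ n → t ∉ π) → m.Coprime n := fun m n hm hn =>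
    Nat.coprime_of_dvd fun t ht htm htn => hn t ht htn (hm t ht htm)
  have hOπ : ∀ t : ℕ, t.Prime → t ∣ Nat.card O → t ∉ π := fun t ht h =>
    OddOrder.SigmaBasics.mem_of_dvd_piCore ht h
  have hHO : H ⊓ O = ⊥ := inf_eq_bot_of_coprime (hcopπ _ _ hH.1 hOπ)
  set f := QuotientGroup.mk' O with hf
  have hfs : Function.Surjective f := QuotientGroup.mk'_surjective O
  haveI : Group.IsSolvable (S ⧸ O) := Group.isSolvable_of_surjective hfs
  have hfH : ∀ h ∈ H, f h = 1 → h = 1 := fun h hh he =>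
    mem_bot.1 (hHO.le ⟨hh, (QuotientGroup.eq_one_iff h).1 he⟩)
  have hRF : Cfsg.fittingSubgroup (S ⧸ O) ≤ FH.map f := by
    rw [Solvable.Cores.fittingSubgroup_eq_iSup_pCore]
    refine iSup_le fun r => ?_
    haveI := Fact.mk r.2
    set P := Cfsg.pCore (r : ℕ) (S ⧸ O) with hP
    haveI hPn : P.Normal := sSup_normal _ fun _ h => h.1
    have hPp : IsPGroup r P := Solvable.Cores.isPGroup_pCore _
    obtain ⟨k, hk⟩ := IsPGroup.iff_card.mp hPp
    by_cases hr : (r : ℕ) ∈ π
    · obtain ⟨T⟩ : Nonempty (Sylow r (H.map f)) := inferInstance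
      have hTi : ¬ (r : ℕ) ∣ ((T : Subgroup (H.map f)).map (H.map f).subtype).index := by
        rw [index_map_subtype]
        refine r.2.not_dvd_mul T.not_dvd_index fun h => hH.2 r r.2 hr (h.trans (index_map_dvd H hfs))
      have hPH : P ≤ H.map f := le_trans
        (Solvable.Cores.pCore_le_sylow ((T.isPGroup'.map (H.map f).subtype).toSylow hTi)) (map_subtype_le _)
      have hinj : Function.Injective (f.comp H.subtype) := fun a b hab => by
        have h1 : f ((a : S)⁻¹ * b) = 1 := by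
          rw [map_mul, map_inv]; exact inv_mul_eq_one.2 hab
        exact Subtype.ext (inv_mul_eq_one.1 (hfH _ (H.mul_mem (H.inv_mem a.2) b.2) h1))
      have hM : P.comap (f.comp H.subtype) ≤ Cfsg.fittingSubgroup H :=
        Solvable.Cores.le_fittingSubgroup (hPp.comap_of_injective _ hinj).isNilpotent
      intro y hy
      obtain ⟨h, hh, rfl⟩ := hPH hy
      exact mem_map_of_mem f ⟨⟨h, hh⟩, hM hy, rfl⟩
    · have hle : P.comap f ≤ O := OddOrder.SigmaBasics.le_piCore fun t ht htd => by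
        have hc : Nat.card (P.comap f) = Nat.card O * Nat.card P := by
          rw [← relIndex_bot_left P, ← map_comap_eq_self_of_surjective hfs P, ← relIndex_comap,
            MonoidHom.comap_bot, map_comap_eq_self_of_surjective hfs, QuotientGroup.ker_mk',
            ← relIndex_bot_left O, ← relIndex_bot_left (P.comap f),
            relIndex_mul_relIndex _ _ _ bot_le ((QuotientGroup.ker_mk' O).ge.trans (f.ker_le_comap P))]
        rw [hc, hk] at htd
        rcases ht.dvd_mul.1 htd with h | h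
        · exact hOπ t ht h
        · rw [(Nat.prime_dvd_prime_iff_eq ht r.2).1 (ht.dvd_of_dvd_pow h)]; exact hr
      refine le_trans ?_ bot_le
      rw [← map_comap_eq_self_of_surjective hfs P]
      exact (map_mono hle).trans (QuotientGroup.map_mk'_self O).le
  have hA' : Cfsg.IsSCN (FH.map f) (A.map f) := by
    refine ⟨map_mono hAF, (map_mono hFA).trans (le_normalizer_map f), le_antisymm ?_ ?_⟩
    · rintro _ ⟨⟨h, hh, rfl⟩, hc⟩
      refine mem_map_of_mem f (hCA.le ⟨hh, mem_centralizer_iff.2 fun a ha => ?_⟩)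
      have h1 := mem_centralizer_iff.1 hc _ (mem_map_of_mem f ha)
      refine commutatorElement_eq_one_iff_mul_comm.1 (hfH _ ?_ ?_)
      · exact H.mul_mem (H.mul_mem (H.mul_mem (hAH ha) (hFHH hh)) (H.inv_mem (hAH ha)))
          (H.inv_mem (hFHH hh))
      · rw [map_commutatorElement, commutatorElement_eq_one_iff_mul_comm]; exact h1
    · rintro _ ⟨a, ha, rfl⟩
      refine ⟨mem_map_of_mem f (hAF ha), mem_centralizer_iff.2 ?_⟩
      rintro _ ⟨b, hb, rfl⟩
      rw [← map_mul, ← map_mul, mem_centralizer_iff.1 (hAC ha) b hb]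
  -- the Sylow subgroups for the primes in `π`
  have hmem : ∀ q : ℕ, q.Prime → q ∈ π → ∀ x ∈ C, ∀ k, orderOf x = q ^ k → x ∈ A := by
    intro q hq hqπ x hx k hxk
    haveI := Fact.mk hq
    have hq5 : 5 ≤ q := by
      have h4 : q ≠ 4 := fun h => by subst h; exact absurd hq (by decide)
      have := hq.two_le
      have h2' : q ≠ 2 := fun h => h2 (h ▸ hqπ)
      have h3' : q ≠ 3 := fun h => h3 (h ▸ hqπ)
      omega
    obtain ⟨i, -, hi⟩ := (Nat.dvd_prime_pow hq).1 (hxk ▸ orderOf_map_dvd f x)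
    obtain ⟨a, ha, hax⟩ := Solvable.ScnHallCentralizer.mem_of_centralizing_scn hRF hA' hq5
      (x := f x) hi (mem_centralizer_iff.2 (by
        rintro _ ⟨b, hb, rfl⟩
        rw [← map_mul, ← map_mul, mem_centralizer_iff.1 hx b hb]))
    have ho : a⁻¹ * x ∈ O := QuotientGroup.eq.1 hax
    have hcomm : Commute a⁻¹ x := Commute.inv_left (mem_centralizer_iff.1 hx a ha)
    have hn : (a⁻¹ * x) ^ (Nat.card A * q ^ k) = 1 := by
      have hA1 : a⁻¹ ^ Nat.card A = 1 :=
        orderOf_dvd_iff_pow_eq_one.1 (orderOf_dvd_natCard A (A.inv_mem ha))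
      rw [hcomm.mul_pow, pow_mul, hA1, one_pow, one_mul, mul_comm, pow_mul, ← hxk,
        pow_orderOf_eq_one, one_pow]
    have h1 : a⁻¹ * x = 1 := by
      refine orderOf_eq_one_iff.1 (Nat.eq_one_of_dvd_coprimes (hcopπ _ _ ?_ hOπ)
        (orderOf_dvd_of_pow_eq_one hn) (orderOf_dvd_natCard O ho))
      intro t ht htd
      rcases ht.dvd_mul.1 htd with h | h
      · exact hH.1 t ht (h.trans (card_dvd_of_le hAH))
      · rw [(Nat.prime_dvd_prime_iff_eq ht hq).1 (ht.dvd_of_dvd_pow h)]; exact hqπ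
    rwa [← inv_mul_eq_one.1 h1]
  set T := A.subgroupOf C with hT
  have hTc : T ≤ center C := fun a ha => mem_center_iff.2 fun c =>
    Subtype.ext (mem_centralizer_iff.1 c.2 a ha).symm
  haveI : T.Normal := ⟨fun a ha g => by
    rwa [mem_center_iff.1 (hTc ha) g, mul_inv_cancel_right]⟩
  have hidx : ∀ q : ℕ, q.Prime → q ∣ T.index → q ∉ π := by
    intro q hq hqd hqπ
    haveI := Fact.mk hq
    obtain ⟨P⟩ : Nonempty (Sylow q C) := inferInstance
    refine P.not_dvd_index (hqd.trans (index_dvd_of_le fun y hy => ?_))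
    obtain ⟨k, hk⟩ := P.isPGroup' ⟨y, hy⟩
    obtain ⟨i, -, hi⟩ := (Nat.dvd_prime_pow hq).1 (orderOf_dvd_of_pow_eq_one
      (congrArg (fun z : (P : Subgroup C) => ((z : C) : S)) hk : (y : S) ^ q ^ k = 1))
    exact hmem q hq hqπ _ y.2 i hi
  obtain ⟨D₀, hD₀⟩ := exists_right_complement'_of_coprime (N := T) (hcopπ _ _ (fun t ht htd =>
    hH.1 t ht (htd.trans ((dvd_of_eq (card_congr' hAC).symm.symm).trans (card_dvd_of_le hAH)))) hidx)
  refine ⟨D₀.map C.subtype, map_subtype_le _, ?_, ?_, ?_, ?_⟩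
  · rintro c hc _ ⟨d, hd, rfl⟩
    obtain ⟨⟨t, e⟩, hte⟩ := hD₀.2 (⟨c, hc⟩ : C)
    refine ⟨(e : C) * d * (e : C)⁻¹, D₀.mul_mem (D₀.mul_mem e.2 hd) (D₀.inv_mem e.2), ?_⟩
    have h1 : (t : C) * e = ⟨c, hc⟩ := hte
    have h2 : (⟨c, hc⟩ : C) * d * (⟨c, hc⟩ : C)⁻¹ = (e : C) * d * (e : C)⁻¹ := by
      rw [← h1, mul_inv_rev]
      have := mem_center_iff.1 (hTc t.2) ((e : C) * d * (e : C)⁻¹)
      calc (t : C) * e * d * ((e : C)⁻¹ * (t : C)⁻¹) = (t : C) * ((e : C) * d * (e : C)⁻¹) * (t : C)⁻¹ := by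
            group
        _ = _ := by rw [← this, mul_inv_cancel_right]
    rw [← h2]; rfl
  · refine (eq_bot_iff_forall _).2 ?_
    rintro _ ⟨ha, ⟨d, hd, rfl⟩⟩
    have : d ∈ T ⊓ D₀ := ⟨ha, hd⟩
    rw [hD₀.disjoint.eq_bot, mem_bot] at this
    rw [this, map_one]
  · rw [← map_subgroupOf_eq_of_le hAC, ← hT, ← Subgroup.map_sup, hD₀.sup_eq_top, ← MonoidHom.range_eq_map,
      range_subtype]
  · intro q hq hqd
    rw [card_map_of_injective C.subtype_injective, ← hD₀.symm.index_eq_card] at hqd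
    exact hidx q hq hqd
where
  card_congr' {X : Type _} [Group X] {A C : Subgroup X} (h : A ≤ C) :
      Nat.card (A.subgroupOf C) = Nat.card A := Nat.card_congr (subgroupOfEquivOfLe h).toEquiv

end Cfsg.Agent.S1893
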