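import Cfsg.Statements.S1894
import Cfsg.Agent.Lib.Components.Signalizer.Balance
import Cfsg.Agent.Lib.Involution.Dihedral

set_option autoImplicit false
open Cfsg
open CfsgLib.Components CfsgLib.Components.Signalizer
open scoped commutatorElement Pointwise

namespace Cfsg.Agent.S1894

/-- Let P be a finite p-group, A a normal subgroup of P and B an abelian subgroup of A that is normal in P. Then some subgroup C of A containing B is normal in P and is self-centralizing and normal in A (C ∈ SCN(A)). -/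
theorem result {P : Type*} [Group P] [Finite P] {p : ℕ} [Fact p.Prime] (hP : IsPGroup p P)
    (A : Subgroup P) [A.Normal] (B : Subgroup P) [B.Normal] (hBA : B ≤ A) (hB : IsMulCommutative B) :
    ∃ C : Subgroup P, C.Normal ∧ B ≤ C ∧ Cfsg.IsSCN A C := by
  obtain ⟨C, hBC, hC⟩ := Finite.exists_le_maximal
    (p := fun C : Subgroup P => C.Normal ∧ IsMulCommutative C ∧ C ≤ A) ⟨‹B.Normal›, hB, hBA⟩
  obtain ⟨hCn, hCc, hCA⟩ := hC.prop
  haveI := hCn
  haveI := hCc
  refine ⟨C, hCn, hBC, hCA, by rw [Subgroup.normalizer_eq_top]; exact le_top, ?_⟩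
  set Q := A ⊓ Subgroup.centralizer (C : Set P) with hQ
  haveI : Q.Normal := inferInstanceAs (A ⊓ Subgroup.centralizer (C : Set P)).Normal
  have hCQ : C ≤ Q := le_inf hCA (Subgroup.le_centralizer C)
  by_contra hne
  have hQC : ¬ Q ≤ C := fun h => hne (le_antisymm h hCQ)
  obtain ⟨T, hTQ, hT⟩ := exists_minimal_le_of_wellFoundedLT
    (fun T : Subgroup P => T.Normal ∧ T ≤ Q ∧ ¬ T ≤ C) Q ⟨inferInstance, le_rfl, hQC⟩
  obtain ⟨hTn, -, hTC⟩ := hT.prop
  haveI := hTn
  have hT1 : T ≠ ⊥ := fun h => hTC (h ▸ bot_le)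
  have hlt : ⁅T, (⊤ : Subgroup P)⁆ < T := CfsgLib.Coprime.commutator_lt_of_isPGroup
    (hP.to_subgroup ⊤) (hP.to_subgroup T) (by rw [Subgroup.normalizer_eq_top]) hT1
  have hcom : ⁅T, (⊤ : Subgroup P)⁆ ≤ C := by
    by_contra h
    exact hlt.not_ge (hT.le_of_le ⟨inferInstance, hlt.le.trans hTQ, h⟩ hlt.le)
  obtain ⟨x, hxT, hxC⟩ := Set.not_subset.mp hTC
  set C' := C ⊔ Subgroup.zpowers x with hC'
  have hxQ : x ∈ Q := hTQ hxT
  have hC'n : C'.Normal := by
    refine Subgroup.normalizer_eq_top_iff.mp (top_le_iff.mp fun g _ => ?_)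
    have hmap : C'.map (MulAut.conj g).toMonoidHom ≤ C' := by
      rw [hC', Subgroup.map_sup]
      refine sup_le ?_ ?_
      · rintro _ ⟨c, hc, rfl⟩
        exact Subgroup.mem_sup_left (hCn.conj_mem c hc g)
      · rw [Subgroup.map_le_iff_le_comap, Subgroup.zpowers_le]
        show g * x * g⁻¹ ∈ C'
        have h1 : ⁅g, x⁆ ∈ C := hcom (by
          rw [Subgroup.commutator_comm]
          exact Subgroup.commutator_mem_commutator (Subgroup.mem_top g) hxT)
        have h2 := mul_mem (Subgroup.mem_sup_left (T := Subgroup.zpowers x) h1)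
          (Subgroup.mem_sup_right (S := C) (Subgroup.mem_zpowers x))
        simpa [hC', commutatorElement_def, mul_assoc] using h2
    exact CfsgLib.Coprime.mem_normalizer_of_conj_map_le fun h hh => hmap ⟨h, hh, rfl⟩
  have hC'c : IsMulCommutative C' := by
    rw [← Subgroup.le_centralizer_iff_isMulCommutative, hC']
    refine sup_le ?_ ((Subgroup.zpowers_le).mpr ?_)
    · rw [Subgroup.le_centralizer_iff]
      exact sup_le (Subgroup.le_centralizer C) ((Subgroup.zpowers_le).mpr hxQ.2)
    · rw [← Subgroup.zpowers_le, Subgroup.le_centralizer_iff]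
      refine sup_le ?_ (Subgroup.le_centralizer (Subgroup.zpowers x))
      rw [Subgroup.le_centralizer_iff]
      exact (Subgroup.zpowers_le).mpr hxQ.2
  exact hxC (hC.le_of_ge ⟨hC'n, hC'c, sup_le hCA ((Subgroup.zpowers_le).mpr hxQ.1)⟩ le_sup_left
    (Subgroup.mem_sup_right (Subgroup.mem_zpowers x)))

end Cfsg.Agent.S1894
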