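import Cfsg.Statements.S1898
import Mathlib

set_option autoImplicit false
open Cfsg
open scoped commutatorElement

namespace Cfsg.Agent.S1898

/-- Let X be a finite 2-group whose derived subgroup is elementary abelian and central. Then the subgroup generated by the elements of order dividing 4 has exponent dividing 4, and every automorphism of X fixing each element of order dividing 4 has 2-power order. -/
theorem result {X : Type*} [Group X] [Finite X] (hX : IsPGroup 2 X)
    (hel : Cfsg.IsElementaryAbelian 2 (commutator X)) (hcen : commutator X ≤ Subgroup.center X) :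
    (∀ x ∈ Subgroup.closure {g : X | g ^ 4 = 1}, x ^ 4 = 1) ∧
      ∀ φ : MulAut X, (∀ g : X, g ^ 4 = 1 → φ g = g) → ∃ k : ℕ, φ ^ (2 ^ k) = 1 := by
  have hz : ∀ a b : X, Commute ⁅a, b⁆ a ∧ Commute ⁅a, b⁆ b ∧ ⁅a, b⁆ * ⁅a, b⁆ = 1 := by
    intro a b
    have hm : ⁅a, b⁆ ∈ commutator X :=
      Subgroup.commutator_mem_commutator (Subgroup.mem_top a) (Subgroup.mem_top b)
    have hc := Subgroup.mem_center_iff.mp (hcen hm)
    exact ⟨(hc a).symm, (hc b).symm, by rw [← pow_two]; exact hel.2 _ hm⟩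
  have hsq : ∀ a b : X, Commute (a ^ 2) b := by
    intro a b
    obtain ⟨h1, -, h3⟩ := hz a b
    show a ^ 2 * b = b * a ^ 2
    rw [pow_two]
    calc a * a * b = a * (⁅a, b⁆ * b * a) := by rw [commutatorElement_def]; group
      _ = (⁅a, b⁆ * a) * b * a := by rw [h1.eq]; group
      _ = ⁅a, b⁆ * (⁅a, b⁆ * b * a) * a := by rw [commutatorElement_def]; group
      _ = (⁅a, b⁆ * ⁅a, b⁆) * (b * (a * a)) := by group
      _ = b * (a * a) := by rw [h3, one_mul]
  have h4 : ∀ a b : X, (a * b) ^ 4 = a ^ 4 * b ^ 4 := by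
    intro a b
    obtain ⟨h1, h2, h3⟩ := hz b a
    have hab : (a * b) ^ 2 = ⁅b, a⁆ * (a ^ 2 * b ^ 2) := by
      rw [pow_two, pow_two, pow_two]
      calc a * b * (a * b) = a * (⁅b, a⁆ * a * b) * b := by rw [commutatorElement_def]; group
        _ = (a * ⁅b, a⁆) * a * (b * b) := by group
        _ = _ := by rw [← h2.eq]; group
    have hc : Commute ⁅b, a⁆ (a ^ 2 * b ^ 2) := (h2.pow_right 2).mul_right (h1.pow_right 2)
    calc (a * b) ^ 4 = ((a * b) ^ 2) ^ 2 := by rw [← pow_mul]
      _ = ⁅b, a⁆ ^ 2 * (a ^ 2 * b ^ 2) ^ 2 := by rw [hab, hc.mul_pow]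
      _ = (a ^ 2) ^ 2 * (b ^ 2) ^ 2 := by rw [pow_two ⁅b, a⁆, h3, one_mul, (hsq a (b ^ 2)).mul_pow]
      _ = a ^ 4 * b ^ 4 := by rw [← pow_mul, ← pow_mul]
  refine ⟨fun x hx => ?_, fun φ hφ => ?_⟩
  · induction hx using Subgroup.closure_induction with
    | mem y hy => exact hy
    | one => exact one_pow _
    | mul y z _ _ hy hz' => rw [h4, hy, hz', one_mul]
    | inv y _ hy => rw [inv_pow, hy, inv_one]
  · obtain ⟨a, m, hm, hord⟩ := Nat.exists_eq_pow_mul_and_not_dvd (orderOf_pos φ).ne' 2 (by norm_num)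
    refine ⟨a, ?_⟩
    set ψ := φ ^ (2 ^ a) with hψdef
    have hψm : ψ ^ m = 1 := by rw [hψdef, ← pow_mul, ← hord, pow_orderOf_eq_one]
    have hψfix : ∀ g : X, g ^ 4 = 1 → ψ g = g := by
      intro g hg
      rw [hψdef]
      induction (2 ^ a) with
      | zero => rfl
      | succ i ih => rw [pow_succ, MulAut.mul_apply, hφ g hg, ih]
    suffices ∀ n, ∀ x : X, orderOf x = n → ψ x = x from MulEquiv.ext fun x => this _ x rfl
    intro n
    induction n using Nat.strong_induction_on with
    | h n ih =>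
    intro x hx
    by_cases hx4 : x ^ 4 = 1
    · exact hψfix x hx4
    have h2x : 2 ∣ orderOf x := by
      obtain ⟨l, hl⟩ := IsPGroup.iff_orderOf.mp hX x
      rw [hl]
      refine dvd_pow_self 2 ?_
      rintro rfl
      rw [pow_zero, orderOf_eq_one_iff] at hl
      exact hx4 (by rw [hl, one_pow])
    have hlt : orderOf (x ^ 4) < n := by
      rw [← hx, orderOf_pow' x (by norm_num)]
      refine Nat.div_lt_self (orderOf_pos x) ?_
      exact lt_of_lt_of_le one_lt_two (Nat.le_of_dvd (Nat.gcd_pos_of_pos_left _ (orderOf_pos x))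
        (Nat.dvd_gcd h2x (by norm_num)))
    have hfix4 := ih _ hlt _ rfl
    set k := x⁻¹ * ψ x with hk
    have hk4 : k ^ 4 = 1 := by
      rw [hk, h4, ← map_pow, hfix4, inv_pow, inv_mul_cancel]
    have hkfix := hψfix k hk4
    have hiter : ∀ i : ℕ, (ψ ^ i) x = x * k ^ i := by
      intro i
      induction i with
      | zero => rw [pow_zero, pow_zero, mul_one]; rfl
      | succ i ihi =>
        rw [pow_succ', MulAut.mul_apply, ihi, map_mul, map_pow, hkfix,
          show ψ x = x * k by rw [hk, mul_inv_cancel_left], mul_assoc, ← pow_succ']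
    have hkm : k ^ m = 1 := by
      have := hiter m
      rw [hψm, MulAut.one_apply] at this
      exact left_eq_mul.mp this
    have hk1 : k = 1 := by
      have hcop : Nat.gcd m 4 = 1 := by
        have h2 : Nat.Coprime m 2 := (Nat.prime_two.coprime_iff_not_dvd.mpr hm).symm
        exact h2.pow_right 2
      have := pow_gcd_eq_one.mpr ⟨hkm, hk4⟩
      rwa [hcop, pow_one] at this
    rw [hk, inv_mul_eq_one] at hk1
    exact hk1.symm

end Cfsg.Agent.S1898
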