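import Cfsg.Statements.S1899
-- import your own Cfsg.Agent.* helpers here

set_option autoImplicit false
open Cfsg

namespace Cfsg.Agent.S1899

/-- Let a dihedral group of order 2n, n odd and n > 1, act on a finite abelian 2-group A through automorphisms d and t with d^n = 1, t² = 1 and t d t⁻¹ = d⁻¹, and suppose that d fixes only the identity. Then A is the internal direct product of C_A(t) and its image under d. -/
theorem result {A : Type*} [CommGroup A] [Finite A] (hA : IsPGroup 2 A)
    {n : ℕ} (hn : Odd n) (hn1 : 1 < n) (d t : MulAut A) (hd : d ^ n = 1) (ht : t ^ 2 = 1) (hdt : t * d * t⁻¹ = d⁻¹)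
    (hfix : ∀ a : A, d a = a → a = 1) :
    (MulEquiv.toMonoidHom t).eqLocus (MonoidHom.id A) ⊓ ((MulEquiv.toMonoidHom t).eqLocus (MonoidHom.id A)).map d.toMonoidHom = ⊥ ∧
      (MulEquiv.toMonoidHom t).eqLocus (MonoidHom.id A) ⊔ ((MulEquiv.toMonoidHom t).eqLocus (MonoidHom.id A)).map d.toMonoidHom = ⊤ := by
  set C := (MulEquiv.toMonoidHom t).eqLocus (MonoidHom.id A) with hC
  have hmem : ∀ a, a ∈ C ↔ t a = a := fun a => Iff.rfl
  have htt : ∀ a, t (t a) = a := fun a => by
    have := congrArg (fun f : MulAut A => f a) ht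
    simpa [sq] using this
  have htd : ∀ a, t (d a) = d⁻¹ (t a) := fun a => by
    have h1 : t * d = d⁻¹ * t := by rw [← hdt]; group
    exact congrArg (fun f : MulAut A => f a) h1
  have hdt' : ∀ a, d (t a) = t (d⁻¹ a) := fun a => by
    have h1 : d * t = t * d⁻¹ := by
      have h2 : t⁻¹ = t := inv_eq_of_mul_eq_one_right (by rw [← sq]; exact ht)
      calc d * t = (t * d * t⁻¹)⁻¹ * t := by rw [hdt]; group
        _ = t * d⁻¹ * (t⁻¹ * t) := by group
        _ = t * d⁻¹ := by group
    exact congrArg (fun f : MulAut A => f a) h1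
  have hpowfix : ∀ (a : A), d a = a → ∀ k : ℕ, (d ^ k) a = a := fun a h k => by
    induction k with
    | zero => simp
    | succ k ih => rw [pow_succ, MulAut.mul_apply, h, ih]
  have hsq : ∀ a, d (d a) = a → a = 1 := by
    intro a h
    refine hfix a ?_
    obtain ⟨m, rfl⟩ := hn
    have h2 : ∀ k : ℕ, (d ^ (2 * k)) a = a := fun k => by
      induction k with
      | zero => simp
      | succ k ih =>
        rw [show 2 * (k + 1) = 2 * k + 2 by ring, pow_add, MulAut.mul_apply, sq, MulAut.mul_apply, h, ih]
    have := congrArg (fun f : MulAut A => f a) hd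
    simp only [pow_succ', MulAut.mul_apply, h2, MulAut.one_apply] at this
    exact this
  constructor
  · rw [eq_bot_iff]
    rintro b ⟨hb, a, ha, rfl⟩
    have ha' : t a = a := ha
    rw [Subgroup.mem_bot]
    replace hb : t (d a) = d a := hb
    rw [htd, ha'] at hb
    show d a = 1
    rw [hsq a (by rw [← hb]; simp), map_one]
  · rw [eq_top_iff]
    intro g _
    let ε : A →* A :=
      { toFun := fun x => x⁻¹ * d⁻¹ (d⁻¹ x)
        map_one' := by simp
        map_mul' := fun x y => by
          simp only [mul_inv_rev, map_mul]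
          ac_rfl }
    have hinj : Function.Injective ε := by
      rw [injective_iff_map_eq_one]
      intro x hx
      have h1 : d⁻¹ (d⁻¹ x) = x := (inv_mul_eq_one.mp hx).symm
      refine hsq x ?_
      conv_lhs => rw [← h1]
      simp
    obtain ⟨x, hx⟩ := (Finite.injective_iff_surjective.mp hinj) (t g)
    have e : g = (x⁻¹ * t x⁻¹) * d (d⁻¹ x * t (d⁻¹ x)) := by
      have hx' : t (ε x) = g := by rw [hx, htt]
      rw [← hx']
      simp only [map_mul, hdt']
      show t (x⁻¹ * d⁻¹ (d⁻¹ x)) = _
      simp only [map_mul, MulAut.apply_inv_self]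
      rw [mul_comm x⁻¹ (t x⁻¹), mul_assoc, inv_mul_cancel_left]
    rw [e]
    refine mul_mem (Subgroup.mem_sup_left ?_) (Subgroup.mem_sup_right ⟨_, ?_, rfl⟩)
    · rw [hmem, map_mul, htt, mul_comm]
    · show t _ = _
      rw [map_mul, htt, mul_comm]; rfl

end Cfsg.Agent.S1899
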