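import Cfsg.Statements.S1900
import Cfsg.Agent.Lib.Components.FourAction
-- import your own Cfsg.Agent.* helpers here

set_option autoImplicit false
open Cfsg Subgroup

namespace Cfsg.Agent.S1900

/-- Let S = PQ be a finite group with P a normal Sylow p-subgroup and Q elementary abelian of order q², q a prime different from p. If exactly two subgroups X₁, X₂ of order q in Q have a nontrivial centralizer in P, then P is the internal direct product of C_P(X₁) and C_P(X₂): they commute elementwise, meet trivially and generate P. -/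
theorem result {S : Type*} [Group S] [Finite S] {p q : ℕ} [Fact p.Prime] [Fact q.Prime] (hpq : p ≠ q)
    (P : Sylow p S) [(P : Subgroup S).Normal] (Q : Subgroup S) (hQ : Cfsg.IsElementaryAbelian q Q) (hQc : Nat.card Q = q ^ 2)
    (hS : (P : Subgroup S) ⊔ Q = ⊤)
    (X₁ X₂ : Subgroup S) (h₁ : X₁ ≤ Q) (h₂ : X₂ ≤ Q) (h₁₂ : X₁ ≠ X₂) (hc₁ : Nat.card X₁ = q) (hc₂ : Nat.card X₂ = q)
    (hf₁ : (P : Subgroup S) ⊓ Subgroup.centralizer (X₁ : Set S) ≠ ⊥)
    (hf₂ : (P : Subgroup S) ⊓ Subgroup.centralizer (X₂ : Set S) ≠ ⊥)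
    (honly : ∀ X : Subgroup S, X ≤ Q → Nat.card X = q →
      (P : Subgroup S) ⊓ Subgroup.centralizer (X : Set S) ≠ ⊥ → X = X₁ ∨ X = X₂) :
    ⁅(P : Subgroup S) ⊓ Subgroup.centralizer (X₁ : Set S), (P : Subgroup S) ⊓ Subgroup.centralizer (X₂ : Set S)⁆ = ⊥ ∧
      ((P : Subgroup S) ⊓ Subgroup.centralizer (X₁ : Set S)) ⊓ ((P : Subgroup S) ⊓ Subgroup.centralizer (X₂ : Set S)) = ⊥ ∧
      ((P : Subgroup S) ⊓ Subgroup.centralizer (X₁ : Set S)) ⊔ ((P : Subgroup S) ⊓ Subgroup.centralizer (X₂ : Set S)) = P := by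
  haveI := hQ.1
  set PS : Subgroup S := (P : Subgroup S) with hPS
  have hnc : ¬ IsCyclic Q := fun hc => by
    obtain ⟨a, ha⟩ := hc.exists_ofOrder_eq_natCard
    have h2 := Nat.le_of_dvd (Fact.out : q.Prime).pos
      (orderOf_dvd_of_pow_eq_one (Subtype.ext (by simpa using hQ.2 a a.2)) : orderOf a ∣ q)
    rw [ha, hQc] at h2
    nlinarith [(Fact.out : q.Prime).two_le]
  have hord : ∀ a ∈ Q, a ≠ 1 → Nat.card (Subgroup.zpowers a) = q := fun a ha h1 => by
    rw [Nat.card_zpowers]; exact orderOf_eq_prime (hQ.2 a ha) h1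
  have hcz : ∀ a : S, centralizer (Subgroup.zpowers a : Set S) = centralizer {a} := fun a => by
    rw [Subgroup.zpowers_eq_closure, Subgroup.centralizer_closure]
  have hzX : ∀ {X : Subgroup S}, Nat.card X = q → X ≤ Q → ∀ a ∈ X, a ≠ 1 → Subgroup.zpowers a = X := by
    intro X hX hXQ a ha h1
    exact eq_of_le_of_card_ge (zpowers_le.mpr ha) (by rw [hX, hord a (hXQ ha) h1])
  obtain ⟨a₁, ha₁, ha₁'⟩ := X₁.bot_or_exists_ne_one.resolve_left (fun h => by
    rw [h, Subgroup.card_bot] at hc₁; exact (Fact.out : q.Prime).one_lt.ne hc₁)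
  obtain ⟨a₂, ha₂, ha₂'⟩ := X₂.bot_or_exists_ne_one.resolve_left (fun h => by
    rw [h, Subgroup.card_bot] at hc₂; exact (Fact.out : q.Prime).one_lt.ne hc₂)
  have e₁ : centralizer (X₁ : Set S) = centralizer {a₁} := by rw [← hzX hc₁ h₁ a₁ ha₁ ha₁', hcz]
  have e₂ : centralizer (X₂ : Set S) = centralizer {a₂} := by rw [← hzX hc₂ h₂ a₂ ha₂ ha₂', hcz]
  have hcop : (Nat.card Q).Coprime (Nat.card PS) := by
    obtain ⟨n, hn⟩ := IsPGroup.iff_card.mp P.isPGroup'
    rw [hQc, hn]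
    exact ((Nat.coprime_primes Fact.out Fact.out).mpr hpq.symm).pow _ _
  have hn : ∀ T : Subgroup S, Q ≤ normalizer (T : Set S) →
      Q ≤ normalizer ((PS ⊓ T : Subgroup S) : Set S) := fun T hT =>
    (le_inf (by rw [normalizer_eq_top]; exact le_top) hT).trans inf_normalizer_le_normalizer_inf
  have hdis : (PS ⊓ centralizer {a₁}) ⊓ (PS ⊓ centralizer {a₂}) = ⊥ := by
    by_contra hb
    -- otherwise every subgroup of order `q` has nontrivial centraliser
    have hab : a₁ * a₂ ≠ 1 := fun h => h₁₂ (by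
      rw [← hzX hc₁ h₁ a₁ ha₁ ha₁', ← hzX hc₂ h₂ a₂ ha₂ ha₂', eq_inv_of_mul_eq_one_left h,
        Subgroup.zpowers_inv])
    have habQ : a₁ * a₂ ∈ Q := mul_mem (h₁ ha₁) (h₂ ha₂)
    have hne : PS ⊓ centralizer (Subgroup.zpowers (a₁ * a₂) : Set S) ≠ ⊥ := fun h => hb (by
      rw [eq_bot_iff, ← h, hcz]
      rintro x ⟨⟨hx, hx1⟩, -, hx2⟩
      refine ⟨hx, mem_centralizer_singleton_iff.mpr ?_⟩
      exact ((show Commute x a₁ from mem_centralizer_singleton_iff.mp hx1).mul_right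
        (mem_centralizer_singleton_iff.mp hx2)).eq)
    rcases honly _ (zpowers_le.mpr habQ) (hord _ habQ hab) hne with h | h
    · refine h₁₂ ?_
      have : a₂ ∈ X₁ := by
        have := mul_mem (inv_mem ha₁) (h ▸ mem_zpowers (a₁ * a₂))
        rwa [inv_mul_cancel_left] at this
      rw [← hzX hc₁ h₁ a₂ this ha₂', hzX hc₂ h₂ a₂ ha₂ ha₂']
    · refine h₁₂ ?_
      have : a₁ ∈ X₂ := by
        have := mul_mem (h ▸ mem_zpowers (a₁ * a₂)) (inv_mem ha₂)
        rwa [mul_inv_cancel_right] at this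
      rw [← hzX hc₂ h₂ a₁ this ha₁', hzX hc₁ h₁ a₁ ha₁ ha₁']
  have hfix : ∀ a c : S, c ∈ centralizer {a} ↔ a * c * a⁻¹ = c := fun a c => by
    rw [mem_centralizer_singleton_iff, mul_inv_eq_iff_eq_mul]; exact eq_comm
  have hfpf : ∀ a b c : S, (PS ⊓ centralizer {a}) ⊓ (PS ⊓ centralizer {b}) = ⊥ →
      c ∈ PS ⊓ centralizer {b} → a * c * a⁻¹ = c → c = 1 := fun a b c h hc hac =>
    mem_bot.mp (h ▸ (⟨⟨hc.1, (hfix a c).mpr hac⟩, hc⟩ : c ∈ (PS ⊓ centralizer {a}) ⊓ (PS ⊓ centralizer {b})))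
  rw [e₁, e₂]
  obtain ⟨r1, r2⟩ := CfsgLib.Components.FourAction.commute_of_two (p := p) (A := Q) (P := PS)
    (C₁ := PS ⊓ centralizer {a₁}) (C₂ := PS ⊓ centralizer {a₂}) hnc P.isPGroup' hcop
    (by rw [normalizer_eq_top]; exact le_top) inf_le_left inf_le_left
    (hn _ (CfsgLib.Components.Factorization.le_normalizer_centralizer_singleton (h₁ ha₁)))
    (hn _ (CfsgLib.Components.Factorization.le_normalizer_centralizer_singleton (h₂ ha₂))) hdis
    (fun a ha h1 => by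
      by_cases hb : PS ⊓ centralizer (Subgroup.zpowers a : Set S) = ⊥
      · left; rw [← hcz, hb]; exact bot_le
      · rcases honly _ (zpowers_le.mpr ha) (hord a ha h1) hb with h | h
        · left; rw [← hcz, h, e₁]
        · right; rw [← hcz, h, e₂])
    (h₁ ha₁) (h₂ ha₂) (fun c hc => (hfix a₁ c).mp hc.2) (fun c hc => (hfix a₂ c).mp hc.2)
    (fun c hc h => hfpf a₁ a₂ c hdis hc h)
    (fun c hc h => hfpf a₂ a₁ c (by rw [inf_comm]; exact hdis) hc h)
  exact ⟨r1, hdis, r2⟩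

end Cfsg.Agent.S1900
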