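import Cfsg.Statements.S1902
import Cfsg.Agent.Lib.Solvable.CentralizedFixedPoints
import Cfsg.Agent.Lib.Components.PComponents

set_option autoImplicit false
open Cfsg
open Subgroup CfsgLib
open scoped commutatorElement

namespace Cfsg.Agent.S1902

/-- Let p be an odd prime, G a finite p-solvable group, and B an elementary abelian subgroup of order p² such that B is the subgroup generated by the elements of order p of some Sylow p-subgroup of C_G(b₀), for some nontrivial b₀ ∈ B. Then every B-invariant subgroup of G of order prime to p lies in O_{p'}(G). -/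
theorem result {G : Type*} [Group G] [Finite G] {p : ℕ} [Fact p.Prime] (hp : p ≠ 2)
    (hG : Cfsg.IsPSolvable p G) (B : Subgroup G) (hB : Cfsg.IsElementaryAbelian p B) (hBc : Nat.card B = p ^ 2)
    (b₀ : G) (hb₀ : b₀ ∈ B) (hb₁ : b₀ ≠ 1) (P : Sylow p ↥(Subgroup.centralizer ({b₀} : Set G)))
    (hBP : B = Subgroup.closure {x : G | x ∈ ((P : Subgroup ↥(Subgroup.centralizer ({b₀} : Set G))).map
      (Subgroup.centralizer ({b₀} : Set G)).subtype : Subgroup G) ∧ orderOf x = p})
    (Q : Subgroup G) (hQ : ¬ p ∣ Nat.card Q) (hinv : ∀ b ∈ B, ∀ x ∈ Q, b * x * b⁻¹ ∈ Q) :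
    Q ≤ Cfsg.pPrimeCore p G := by
  classical
  have hpp : p.Prime := Fact.out
  set O := Cfsg.pPrimeCore p G with hOdef
  have hOcop : (Nat.card O).Coprime p := Solvable.Cores.coprime_card_pPrimeCore p
  set f := QuotientGroup.mk' O with hf
  have hfs : Function.Surjective f := QuotientGroup.mk'_surjective O
  have hGq : Cfsg.IsPSolvable p (G ⧸ O) := Fusion.PSolvable.psolvable_quotient hG O
  have hObot : Cfsg.pPrimeCore p (G ⧸ O) = ⊥ := Components.pPrimeCore_quotient_eq_bot
  set R := Cfsg.pCore p (G ⧸ O) with hR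
  have hRp : IsPGroup p R := Solvable.Cores.isPGroup_pCore p
  obtain ⟨T₀, hTc, ⟨hTexp, hT2⟩, hmax⟩ := OddOrder.CharOmega.exists_maximal hp hRp
  haveI := hTc
  set T := T₀.map R.subtype with hT
  haveI hTn : T.Normal := ConjAct.normal_of_characteristic_of_normal
  have hTR : T ≤ R := map_subtype_le _
  have hTp : IsPGroup p T := hRp.to_le hTR
  have hexp : ∀ x ∈ T, x ^ p = 1 := by
    rintro _ ⟨x, hx, rfl⟩
    rw [← map_pow, hTexp x hx, map_one]
  have hcomm : ∀ a ∈ T, ∀ b ∈ T, ∀ c ∈ T, Commute c ⁅a, b⁆ := by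
    rintro _ ⟨a, ha, rfl⟩ _ ⟨b, hb, rfl⟩ _ ⟨c, hc, rfl⟩
    rw [← map_commutatorElement]
    exact (show Commute c ⁅a, b⁆ from mem_centralizer_iff.1 (hT2 a ha b hb) c hc).map R.subtype
  have hmax' : ∀ x ∈ R, (∀ t ∈ T, t * x = x * t) → x ^ p = 1 → x ∈ T := by
    intro x hx hxc hxp
    exact ⟨⟨x, hx⟩, hmax _ (mem_centralizer_iff.2 fun t ht =>
      Subtype.ext (hxc _ (mem_map_of_mem R.subtype ht))) (Subtype.ext hxp), rfl⟩
  set X := Q.map f with hX
  have hQcop : (Nat.card Q).Coprime p := ((hpp.coprime_iff_not_dvd).2 hQ).symm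
  have hXcop : (Nat.card X).Coprime p := hQcop.coprime_dvd_left (card_map_dvd Q f)
  have hBp : IsPGroup p B := IsPGroup.of_card hBc
  have hBQ : B ≤ normalizer (Q : Set G) := by
    intro b hb
    refine mem_normalizer_iff.2 fun x => ⟨fun hx => hinv b hb x hx, fun hx => ?_⟩
    have h := hinv b⁻¹ (inv_mem hb) _ hx
    simpa [mul_assoc] using h
  have hAX : B.map f ≤ normalizer (X : Set (G ⧸ O)) :=
    (map_mono hBQ).trans (le_normalizer_map f)
  -- fixed points of `B` on `T`
  have hfix : ∀ t ∈ T, (∀ a ∈ B.map f, a * t = t * a) → ∀ x ∈ X, x * t = t * x := by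
    intro t ht htB x hx
    have hTB : t ∈ B.map f := by
      obtain ⟨S, hS⟩ := hBp.exists_le_sylow
      obtain ⟨s, hs, rfl⟩ : t ∈ (S : Subgroup G).map f :=
        Solvable.Cores.pCore_le_sylow (S.mapSurjective hfs) (hTR ht)
      have hone : ∀ y ∈ (S : Subgroup G), f y = 1 → y = 1 := by
        intro y hy hy1
        obtain ⟨k, hk⟩ := S.isPGroup' ⟨y, hy⟩
        exact orderOf_eq_one_iff.1 (Nat.eq_one_of_dvd_coprimes (hOcop.pow_right k)
          (orderOf_dvd_natCard O ((QuotientGroup.eq_one_iff y).1 hy1))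
          (orderOf_dvd_of_pow_eq_one (congrArg Subtype.val hk)))
      have hsp : s ^ p = 1 := hone _ (pow_mem hs p) (by rw [map_pow, hexp _ ht])
      have hsB : ∀ b ∈ B, s * b = b * s := fun b hb =>
        commutatorElement_eq_one_iff_mul_comm.1 (hone _
          ((S : Subgroup G).mul_mem ((S : Subgroup G).mul_mem ((S : Subgroup G).mul_mem hs (hS hb))
            ((S : Subgroup G).inv_mem hs)) ((S : Subgroup G).inv_mem (hS hb)))
          (by rw [map_commutatorElement, commutatorElement_eq_one_iff_mul_comm,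
                htB _ (mem_map_of_mem f hb)]))
      set W := closure (insert s (B : Set G)) with hW
      haveI : IsMulCommutative B := hB.1
      have hWC : W ≤ (centralizer ({b₀} : Set G)) := (closure_le (centralizer ({b₀} : Set G))).2 (Set.insert_subset
        (mem_centralizer_singleton_iff.2 (hsB b₀ hb₀))
        fun b hb => mem_centralizer_singleton_iff.2
          (congrArg Subtype.val (mul_comm' (⟨b, hb⟩ : B) ⟨b₀, hb₀⟩)))
      have hWp : IsPGroup p W := S.isPGroup'.to_le ((closure_le _).2 (Set.insert_subset hs hS))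
      obtain ⟨P', hP'⟩ := (hWp.comap_subtype (K := (centralizer ({b₀} : Set G)))).exists_le_sylow
      obtain ⟨c, rfl⟩ := MulAction.exists_smul_eq (centralizer ({b₀} : Set G)) P P'
      have hcW : ∀ w ∈ W, w ^ p = 1 → (c : G)⁻¹ * w * c ∈ B := by
        intro w hw hwp
        rcases eq_or_ne w 1 with rfl | hw1
        · simp
        rw [hBP]
        refine subset_closure ⟨?_, ?_⟩
        · have h1 : (⟨w, hWC hw⟩ : (centralizer ({b₀} : Set G))) ∈ ((c • P : Sylow p (centralizer ({b₀} : Set G))) : Subgroup (centralizer ({b₀} : Set G))) := hP' hw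
          rw [Sylow.coe_subgroup_smul, mem_pointwise_smul_iff_inv_smul_mem] at h1
          refine ⟨_, h1, ?_⟩
          simp [MulAut.smul_def, mul_assoc]
        · refine orderOf_eq_prime ?_ ?_
          · rw [show (c : G)⁻¹ * w * c = (c : G)⁻¹ * w * ((c : G)⁻¹)⁻¹ by rw [inv_inv], conj_pow, hwp,
              mul_one, mul_inv_cancel]
          · intro h1
            refine hw1 ?_
            simpa [mul_assoc] using congrArg (fun z => (c : G) * z * (c : G)⁻¹) h1
      let σ : B → B := fun b => ⟨(c : G)⁻¹ * b * c,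
        hcW b (subset_closure (Set.mem_insert_of_mem _ b.2)) (hB.2 b b.2)⟩
      have hσ : Function.Surjective σ := Finite.surjective_of_injective fun a b h =>
        Subtype.ext (mul_left_cancel (mul_right_cancel (congrArg Subtype.val h)))
      obtain ⟨b, hb⟩ := hσ ⟨_, hcW s (subset_closure (Set.mem_insert _ _)) hsp⟩
      have hbs : (b : G) = s := mul_left_cancel (mul_right_cancel (congrArg Subtype.val hb))
      exact mem_map_of_mem f (hbs ▸ b.2)
    refine commutatorElement_eq_one_iff_mul_comm.1 ?_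
    have h1 : ⁅x, t⁆ ∈ R := R.mul_mem ((inferInstance : R.Normal).conj_mem t (hTR ht) x)
      (R.inv_mem (hTR ht))
    have h2 : ⁅x, t⁆ ∈ X := by
      rw [show ⁅x, t⁆ = x * (t * x⁻¹ * t⁻¹) by simp only [commutatorElement_def]; group]
      exact X.mul_mem hx ((mem_normalizer_iff.1 (hAX hTB) _).1 (X.inv_mem hx))
    obtain ⟨k, hk⟩ := hRp ⟨_, h1⟩
    exact orderOf_eq_one_iff.1 (Nat.eq_one_of_dvd_coprimes (hXcop.pow_right k)
      (orderOf_dvd_natCard X h2) (orderOf_dvd_of_pow_eq_one (congrArg Subtype.val hk)))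
  have hXT : X ≤ centralizer (T : Set (G ⧸ O)) :=
    Solvable.CentralizedFixedPoints.le_centralizer_of_fixed hp hTp hexp hcomm (hBp.map f)
      (le_normalizer_of_normal) (le_normalizer_of_normal) hAX hXcop hfix
  set D := centralizer (T : Set (G ⧸ O)) with hD
  haveI : D.Normal := normal_centralizer
  suffices hXbot : X = ⊥ by
    intro q hq
    have h := hXbot.le (mem_map_of_mem f hq)
    exact (QuotientGroup.eq_one_iff q).1 (mem_bot.1 h)
  refine (eq_bot_iff_forall X).2 fun g hgX => ?_
  have hg : g ∈ D := hXT hgX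
  have ho : (orderOf g).Coprime p := hXcop.coprime_dvd_left (orderOf_dvd_natCard X hgX)
  have hRC : g ∈ centralizer ((R ⊓ D : Subgroup (G ⧸ O)) : Set (G ⧸ O)) := by
    refine PGroup.CoprimeFix.centralizes_of_fix (hRp.to_le inf_le_left) ?_ ho fun x hx hxq => ?_
    · rw [normalizer_eq_top]; trivial
    · have hxp : x ^ p = 1 := by rwa [PGroup.CoprimeFix.qq, if_neg hp] at hxq
      exact (mem_centralizer_iff.1 hg x (hmax' x hx.1 (fun t ht =>
        mem_centralizer_iff.1 hx.2 t ht) hxp)).symm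
  have hgR : g ∈ centralizer (R : Set (G ⧸ O)) := by
    refine mem_centralizer_iff.2 fun x hx => ?_
    have h1 := KGroups.OmegaFaithful.fix_of_coset (C := R ⊓ D) (hRp.to_le inf_le_left) (x := x) ho
      (fun c hc => by rw [mul_inv_eq_iff_eq_mul]; exact (mem_centralizer_iff.1 hRC c hc).symm) ?_
    · exact (mul_inv_eq_iff_eq_mul.1 h1).symm
    refine ⟨R.mul_mem (R.inv_mem hx) ((inferInstance : R.Normal).conj_mem x hx g), ?_⟩
    have h2 : x⁻¹ * (g * x * g⁻¹) = (x⁻¹ * g * x) * g⁻¹ := by group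
    rw [h2]
    exact D.mul_mem ((inferInstance : D.Normal).conj_mem' g hg x) (D.inv_mem hg)
  have hgR' : g ∈ R := Fusion.PSolvable.centralizer_pCore_le hGq hObot hgR
  obtain ⟨k, hk⟩ := hRp ⟨g, hgR'⟩
  exact orderOf_eq_one_iff.1 (Nat.eq_one_of_dvd_coprimes (ho.pow_right k) dvd_rfl
    (orderOf_dvd_of_pow_eq_one (congrArg Subtype.val hk)))

end Cfsg.Agent.S1902
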