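import Cfsg.Statements.S1903
import Cfsg.Agent.Lib.Involution.U34Centralizer
import Cfsg.Agent.Lib.Involution.Order320

set_option autoImplicit false
open Cfsg

namespace Cfsg.Agent.S1903

/-- A finite group of order 320 whose derived subgroup has order 64 and has centre a Klein four-group is isomorphic to the centralizer of an involution in PSU₃(4). -/
theorem result {G : Type*} [Group G] [Finite G] (hG : Nat.card G = 320) (hD : Nat.card (commutator G) = 64)
    (hZ : IsKleinFour (Subgroup.center (commutator G)))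
    {F : Type*} [Field F] [Fintype F] (hF : Fintype.card F = 16) :
    ∃ t : Cfsg.PSU 3 F 4, orderOf t = 2 ∧ Nonempty (G ≃* Subgroup.centralizer ({t} : Set (Cfsg.PSU 3 F 4))) := by
  haveI : Fact (Fintype.card F = 16) := ⟨hF⟩
  haveI : Fact (∃ σ : F →+* F, (∀ x, σ x = x ^ 4) ∧ CfsgLib.Classical.IsConjugation σ) :=
    ⟨CfsgLib.Classical.exists_frob (q := 4) (by rw [hF]; norm_num)⟩
  obtain ⟨t, ht, ⟨e⟩⟩ := CfsgLib.Involution.U34Centralizer.exists_model (F := F)
  have hd := CfsgLib.Involution.U34Centralizer.derived_facts (F := F)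
  have hc := CfsgLib.Involution.U34Centralizer.card_C₀ (F := F)
  haveI : Finite (CfsgLib.Involution.U34Centralizer.C₀ F) := Nat.finite_of_card_ne_zero (by rw [hc]; norm_num)
  obtain ⟨e'⟩ := CfsgLib.Involution.Order320.unique hG hD hZ hc hd.1 hd.2
  exact ⟨t, ht, ⟨e'.trans e⟩⟩

end Cfsg.Agent.S1903
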