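import Cfsg.Statements.S1905
import Cfsg.Agent.Lib.LocalEven.StronglyEmbedded
import Cfsg.Agent.Lib.Involution.StronglyEmbedded
import Cfsg.Agent.Lib.Involution.Dihedral
-- import your own Cfsg.Agent.* helpers here

set_option autoImplicit false
open Cfsg Subgroup CfsgLib.Involution.Dihedral CfsgLib.Involution.Basic

namespace Cfsg.Agent.S1905

/-- Let M be a subgroup of even order of a finite group S such that M contains the centralizer in S of each of its involutions and the normal core of M in S has odd order. Then all involutions of S are conjugate. If moreover N_S(X) ≤ M for a Sylow 2-subgroup X of M and I is an involution in the centre of X, then all involutions of M are conjugate in M and M = M₀ C_M(I) for some subgroup M₀ of M of odd order. -/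
theorem result {S : Type*} [Group S] [Finite S] (M : Subgroup S) (hM : Even (Nat.card M))
    (hC : ∀ i ∈ M, orderOf i = 2 → Subgroup.centralizer ({i} : Set S) ≤ M) (hcore : Odd (Nat.card M.normalCore)) :
    (∀ x y : S, orderOf x = 2 → orderOf y = 2 → IsConj x y) ∧
      ∀ (X : Sylow 2 M) (I : M), I ∈ (Subgroup.center ↥(X : Subgroup ↥M)).map (X : Subgroup ↥M).subtype → orderOf I = 2 →
        Subgroup.normalizer (((X : Subgroup M).map M.subtype : Subgroup S) : Set S) ≤ M →
        (∀ x y : M, orderOf x = 2 → orderOf y = 2 → IsConj x y) ∧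
          ∃ M₀ : Subgroup M, Odd (Nat.card M₀) ∧
            ∀ m : M, ∃ a ∈ M₀, ∃ c ∈ Subgroup.centralizer ({I} : Set M), m = a * c := by
  have hne : M ≠ ⊤ := by
    rintro rfl
    rw [Subgroup.normalCore_eq_self] at hcore
    exact Nat.not_even_iff_odd.mpr hcore hM
  obtain ⟨i₀, hi₀M, hi₀⟩ := exists_involution_of_even M hM
  have key : ∀ i ∈ M, orderOf i = 2 → ∀ j : S, orderOf j = 2 → ¬ IsConj i j → j ∈ M := by
    intro i hi hio j hj hc
    have he : Even (orderOf (i * j)) := even_of_not_isConj hio hj hc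
    have hw := hC i hi hio (mem_centralizer_singleton_iff.mpr (half_commute_left hio hj he).eq)
    exact hC _ hw (half_orderOf he)
      (mem_centralizer_singleton_iff.mpr (half_commute_right hio hj he).eq.symm)
  have hall : ∀ x y : S, orderOf x = 2 → orderOf y = 2 → IsConj x y := by
    intro x y hx hy
    by_contra hxy
    obtain ⟨j, hj, hij⟩ : ∃ j : S, orderOf j = 2 ∧ ¬ IsConj i₀ j := by
      by_cases h : IsConj i₀ x
      · exact ⟨y, hy, fun h' => hxy (h.symm.trans h')⟩
      · exact ⟨x, hx, h⟩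
    have hcl : ∀ g : S, g * i₀ * g⁻¹ ∈ M := fun g => by
      refine key j (key i₀ hi₀M hi₀ j hj hij) hj _ ((orderOf_conj g i₀).trans hi₀) fun h => hij ?_
      exact (isConj_iff.mpr ⟨g, rfl⟩ : IsConj i₀ (g * i₀ * g⁻¹)).trans h.symm
    exact Nat.not_even_iff_odd.mpr hcore (even_of_involution_mem _ (t := i₀) hcl hi₀)
  refine ⟨hall, fun X I hI hIo hN => ?_⟩
  obtain ⟨I', -, rfl⟩ := hI
  have hIo' : orderOf ((I' : M) : S) = 2 := by rw [Subgroup.orderOf_coe]; exact hIo
  have hS : CfsgLib.LocalEven.SylowIn.IsSylowIn 2 ((X : Subgroup M).map M.subtype) M := by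
    refine ⟨map_subtype_le _, X.isPGroup'.map _, fun U hU hUp hle => le_antisymm ?_ hle⟩
    have h1 : (U.subgroupOf M) = (X : Subgroup M) := X.3 (hUp.comap_of_injective M.subtype M.subtype_injective)
      (fun x hx => hle ⟨x, hx, rfl⟩)
    intro u hu
    exact ⟨⟨u, hU hu⟩, h1.le hu, rfl⟩
  have hmove := (CfsgLib.LocalEven.StronglyEmbedded.of_centralizer hne hS
    (fun x hx hxo => hC x (map_subtype_le _ hx) hxo) hN).2.2
  have hse : Cfsg.IsStronglyEmbedded M := by
    refine ⟨hne, hM, fun g hg => ?_⟩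
    rw [← Nat.not_even_iff_odd]
    intro he
    obtain ⟨x, ⟨hxM, hxg⟩, hxo⟩ := exists_involution_of_even _ he
    refine hg (inv_mem_iff.mp (hmove x g⁻¹ hxM hxo ?_))
    rw [inv_inv]
    exact CfsgLib.LocalEven.SylowIn.mem_map_conj.mp hxg
  obtain ⟨g, hg⟩ : ∃ g, g ∉ M := by
    by_contra h
    push Not at h
    exact hne (eq_top_iff.mpr fun g _ => h g)
  set u := g * i₀ * g⁻¹
  have huM : u ∉ M := fun h => hg (hmove i₀ g hi₀M hi₀ h)
  have hu : orderOf u = 2 := (orderOf_conj g i₀).trans hi₀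
  refine ⟨fun x y hx hy => ?_, (M ⊓ M.map (MulAut.conj u).toMonoidHom).subgroupOf M, ?_, fun m => ?_⟩
  · obtain ⟨d, hd, e⟩ := CfsgLib.Involution.SE.transitive_pair hse hu huM
      ((Subgroup.orderOf_coe x).trans hx) x.2 ((Subgroup.orderOf_coe y).trans hy) y.2
    exact isConj_iff.mpr ⟨⟨d, hd.1⟩, Subtype.ext e⟩
  · rw [Nat.card_congr (subgroupOfEquivOfLe inf_le_left).toEquiv]
    exact hse.2.2 u huM
  · obtain ⟨d, hd, e⟩ := CfsgLib.Involution.SE.transitive_pair hse hu huM hIo'
      (SetLike.coe_mem _) ((orderOf_conj (m : S) _).trans hIo')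
      (M.mul_mem (M.mul_mem m.2 (SetLike.coe_mem _)) (M.inv_mem m.2))
    refine ⟨⟨d, hd.1⟩, hd, ⟨d, hd.1⟩⁻¹ * m, ?_, by group⟩
    rw [mem_centralizer_singleton_iff]
    refine Subtype.ext ?_
    show d⁻¹ * (m : S) * ((I' : M) : S) = ((I' : M) : S) * (d⁻¹ * (m : S))
    calc d⁻¹ * (m : S) * ((I' : M) : S) = d⁻¹ * ((m : S) * ((I' : M) : S) * (m : S)⁻¹) * m := by group
      _ = d⁻¹ * (d * ((I' : M) : S) * d⁻¹) * m := by rw [e]
      _ = ((I' : M) : S) * (d⁻¹ * (m : S)) := by group

end Cfsg.Agent.S1905
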