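import Cfsg.Statements.S1906
import Cfsg.Agent.Lib.KnownA.TwoRank
import Cfsg.Agent.Lib.KnownA.NormalRankGL
import Cfsg.Agent.Lib.PGroup.HallWielandt
import Cfsg.Agent.Lib.Solvable.FrattiniFitting

set_option autoImplicit false
open Cfsg

namespace CfsgLib.S1906Aux
open Matrix Cfsg

variable {F : Type*} [Field F] [Fintype F]

theorem sign_centraliser_comm (h2 : (2 : F) ≠ 0) (E : Subgroup (GL (Fin 3) F)) (hE : IsElementaryAbelian 2 E)
    (hE8 : Nat.card E = 8) {a b : GL (Fin 3) F} (ha : ∀ e ∈ E, a * e = e * a) (hb : ∀ e ∈ E, b * e = e * b) :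
    a * b = b * a := by
  classical
  letI : CommGroup E := { (inferInstance : Group E) with mul_comm := hE.1.is_comm.comm }
  haveI : Fintype E := Fintype.ofFinite _
  let ρ : E →* Matrix (Fin 3) (Fin 3) F :=
    ⟨⟨fun e : E => ((e : GL (Fin 3) F) : Matrix (Fin 3) (Fin 3) F), rfl⟩, fun _ _ => rfl⟩
  have hA : ∀ e : E, e * e = 1 := fun e => Subtype.ext (by rw [Subgroup.coe_mul, ← pow_two]; exact hE.2 _ e.2)
  have hρ : Function.Injective ρ := fun x y h => Subtype.ext (Units.ext h)
  have hle := KnownA.TwoRank.card_supp_le (ρ := ρ) hA h2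
  have hge := KnownA.TwoRank.card_le_two_pow hA h2 hρ
  rw [← Nat.card_eq_fintype_card, hE8] at hge
  have hs : (KnownA.TwoRank.supp ρ).card = 3 := by
    rw [Fintype.card_fin] at hle
    interval_cases h : (KnownA.TwoRank.supp ρ).card <;> omega
  choose v hv using KnownA.TwoRank.exists_vec (ρ := ρ) hA h2
  have hli : LinearIndependent F v :=
    (KnownA.TwoRank.linearIndependent_of_proj hA h2 (κ := Unit) (fun x => v x.1) (fun x => (hv x.1).2)
      (fun f => linearIndependent_unique_iff.2 (hv f).1)).comp (fun f => (f, ())) (fun x y h => congrArg Prod.fst h)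
  have hspan := hli.span_eq_top_of_card_eq_finrank' (by simp [hs])
  -- every element of the centraliser scales each `v f`
  have key : ∀ c : GL (Fin 3) F, (∀ e ∈ E, c * e = e * c) → ∀ f, ∃ s : F, (c : Matrix (Fin 3) (Fin 3) F) *ᵥ v f = s • v f := by
    intro c hc f
    set M : Matrix (Fin 3) (Fin 3) F := (c : Matrix (Fin 3) (Fin 3) F)
    have hw : ∀ e : E, ρ e *ᵥ (M *ᵥ v f) = (KnownA.TwoRank.sgn (f.1 e) : F) • (M *ᵥ v f) := by
      intro e
      have h1 : ρ e * M = M * ρ e := (congrArg Units.val (hc e e.2)).symm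
      rw [Matrix.mulVec_mulVec, h1, ← Matrix.mulVec_mulVec]
      conv_lhs => rw [← (hv f).2]
      rw [Matrix.mulVec_mulVec (v f) (ρ e), KnownA.TwoRank.rho_mul_proj hA h2, Matrix.smul_mulVec, (hv f).2,
        Matrix.mulVec_smul]
    obtain ⟨co, hco⟩ : ∃ co : ↥(KnownA.TwoRank.supp ρ) → F, ∑ g, co g • v g = M *ᵥ v f :=
      (Submodule.mem_span_range_iff_exists_fun F).1 (hspan ▸ Submodule.mem_top)
    refine ⟨co f, ?_⟩
    have hz : ∀ g, g ≠ f → co g = 0 := by
      intro g hgf
      obtain ⟨e, he⟩ := Function.ne_iff.1 (fun h => hgf (Subtype.ext h) : g.1 ≠ f.1)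
      have hsum : ∑ k, (co k * ((KnownA.TwoRank.sgn (k.1 e) : F) - KnownA.TwoRank.sgn (f.1 e))) • v k = 0 := by
        have h1 := hw e
        rw [← hco, Matrix.mulVec_sum, Finset.smul_sum] at h1
        rw [← sub_eq_zero.2 h1, ← Finset.sum_sub_distrib]
        refine Finset.sum_congr rfl fun k _ => ?_
        rw [Matrix.mulVec_smul]
        conv_rhs => enter [1]; rw [← (hv k).2]
        rw [Matrix.mulVec_mulVec (v k) (ρ e), KnownA.TwoRank.rho_mul_proj hA h2, Matrix.smul_mulVec, (hv k).2,
          smul_smul, smul_smul, ← sub_smul]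
        congr 1
        ring
      have := Fintype.linearIndependent_iff.1 hli _ hsum g
      rcases mul_eq_zero.1 this with h | h
      · exact h
      · exact absurd (KnownA.TwoRank.sgn_injective h2 (sub_eq_zero.1 h)) he
    rw [← hco, Finset.sum_eq_single f]
    · intro g _ hg; rw [hz g hg, zero_smul]
    · simp
  apply Units.ext
  apply Matrix.toLin'.injective
  refine LinearMap.ext_on_range hspan fun f => ?_
  obtain ⟨s, hs'⟩ := key a ha f
  obtain ⟨t, ht⟩ := key b hb f
  simp only [Units.val_mul, Matrix.toLin'_apply, ← Matrix.mulVec_mulVec, hs', ht, Matrix.mulVec_smul, smul_smul]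
  rw [mul_comm]

/-- An involution commuting with eight commuting sign matrices is one of them. -/
theorem mem_of_commute (h2 : (2 : F) ≠ 0) (E : Subgroup (GL (Fin 3) F)) (hE : IsElementaryAbelian 2 E)
    (hE8 : Nat.card E = 8) {u : GL (Fin 3) F} (hu : u * u = 1) (hc : ∀ e ∈ E, u * e = e * u) : u ∈ E := by
  classical
  have hce : ∀ x ∈ E, ∀ y ∈ E, x * y = y * x := fun x hx y hy =>
    congrArg Subtype.val (hE.1.is_comm.comm (⟨x, hx⟩ : E) ⟨y, hy⟩)
  have hee : ∀ x ∈ E, x * x = 1 := fun x hx => by rw [← pow_two]; exact hE.2 x hx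
  let S : Subgroup (GL (Fin 3) F) :=
    { carrier := {g | g ∈ E ∨ g * u ∈ E}
      one_mem' := Or.inl (one_mem E)
      mul_mem' := by
        rintro x y (hx | hx) (hy | hy)
        · exact Or.inl (mul_mem hx hy)
        · exact Or.inr (by rw [mul_assoc]; exact mul_mem hx hy)
        · refine Or.inr ?_
          have : x * y * u = (x * u) * y := by rw [mul_assoc, mul_assoc, hc y hy]
          rw [this]; exact mul_mem hx hy
        · refine Or.inl ?_
          have e1 : u * (y * u) = (y * u) * u := hc _ hy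
          have : x * y = (x * u) * (y * u) := by
            rw [mul_assoc x u, e1, mul_assoc y u u, hu, mul_one]
          rw [this]; exact mul_mem hx hy
      inv_mem' := by
        rintro x (hx | hx)
        · exact Or.inl (inv_mem hx)
        · refine Or.inr ?_
          have e1 : u * (x * u) = (x * u) * u := hc _ hx
          rw [mul_assoc x u u, hu, mul_one] at e1
          have : x⁻¹ * u = (x * u)⁻¹ := by
            rw [eq_inv_iff_mul_eq_one, mul_assoc, e1, inv_mul_cancel]
          rw [this]; exact inv_mem hx }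
  have hcu : ∀ g ∈ S, g * u = u * g := by
    rintro g (hg | hg)
    · exact (hc g hg).symm
    · have := hc _ hg
      rw [mul_assoc g u u, hu, mul_one] at this
      calc g * u = (u * (g * u)) * u := by rw [this]
        _ = u * g := by rw [mul_assoc, mul_assoc g u u, hu, mul_one]
  have hS : IsElementaryAbelian 2 S := by
    constructor
    · refine ⟨⟨fun x y => Subtype.ext ?_⟩⟩
      show (x : GL (Fin 3) F) * y = y * x
      have h1 := hcu _ x.2
      have h3 := hcu _ y.2
      rcases x.2 with hx | hx <;> rcases y.2 with hy | hy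
      · exact hce _ hx _ hy
      · have := hce _ hx _ hy
        apply mul_right_cancel (b := u)
        rw [mul_assoc, mul_assoc, h1, ← mul_assoc (y : GL (Fin 3) F) u, ← this]
      · have := hce _ hx _ hy
        apply mul_right_cancel (b := u)
        rw [mul_assoc, mul_assoc, h3, ← mul_assoc (x : GL (Fin 3) F) u, this]
      · have := hce _ hx _ hy
        rw [mul_assoc, ← mul_assoc u, ← h3, mul_assoc (y : GL (Fin 3) F), hu, mul_one, mul_assoc,
          ← mul_assoc u, ← h1, mul_assoc (x : GL (Fin 3) F), hu, mul_one] at this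
        exact this
    · rintro g (hg | hg)
      · exact hE.2 g hg
      · have := hee _ hg
        rw [mul_assoc, ← mul_assoc u, ← hcu g (Or.inr hg), mul_assoc g u u, hu, mul_one] at this
        rw [pow_two]; exact this
  have hle : E ≤ S := fun g hg => Or.inl hg
  have hcard := KnownA.NormalRankGL.elemAb_card_le h2 S hS
  rw [Fintype.card_fin] at hcard
  have heq : E = S := Subgroup.eq_of_le_of_card_ge hle (by omega)
  rw [heq]
  exact Or.inr (by rw [hu]; exact one_mem E)

end CfsgLib.S1906Aux

open scoped commutatorElement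

namespace Cfsg.Agent.S1906



/-- Let G be a finite group with no subgroup of index 2 whose Sylow 2-subgroup X embeds in GL₃(F) for a finite field F of odd order. If X contains an elementary abelian subgroup of order 8, then X is abelian. -/
theorem result {G : Type*} [Group G] [Finite G] (hG : ∀ H : Subgroup G, H.index ≠ 2) (X : Sylow 2 G)
    {F : Type*} [Field F] [Fintype F] (hF : Odd (Fintype.card F))
    (f : ↥(X : Subgroup G) →* GL (Fin 3) F) (hf : Function.Injective f)
    (E : Subgroup G) (hE : E ≤ (X : Subgroup G)) (hEa : Cfsg.IsElementaryAbelian 2 E) (hE8 : Nat.card E = 8) :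
    IsMulCommutative (X : Subgroup G) := by
  classical
  by_contra hnc
  haveI : Fact (Nat.Prime 2) := ⟨Nat.prime_two⟩
  have h2 : (2 : F) ≠ 0 := Ring.two_ne_zero fun hc => by
    have h := FiniteField.even_card_of_char_two hc
    have := Nat.odd_iff.1 hF
    omega
  let P : Subgroup G := (X : Subgroup G)
  have hX2 : IsPGroup 2 P := X.isPGroup'
  -- the eight signs
  set E' : Subgroup P := E.subgroupOf P with hE'
  set W : Subgroup (GL (Fin 3) F) := E'.map f with hW
  have hEc : ∀ x ∈ E', ∀ y ∈ E', x * y = y * x := fun x hx y hy => by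
    have h := congrArg Subtype.val (hEa.1.is_comm.comm (⟨(x : G), hx⟩ : E) ⟨(y : G), hy⟩)
    exact Subtype.ext h
  have hWE : Cfsg.IsElementaryAbelian 2 W := by
    refine ⟨⟨⟨fun x y => Subtype.ext ?_⟩⟩, ?_⟩
    · obtain ⟨a, ha, hax⟩ := x.2
      obtain ⟨b, hb, hby⟩ := y.2
      show (x : GL (Fin 3) F) * y = y * x
      rw [← hax, ← hby, ← map_mul, ← map_mul, hEc a ha b hb]
    · rintro _ ⟨a, ha, rfl⟩
      rw [← map_pow, show a ^ 2 = 1 from Subtype.ext (by simpa using hEa.2 _ ha), map_one]
  have hW8 : Nat.card W = 8 := by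
    rw [hW, ← Nat.card_congr (Subgroup.equivMapOfInjective E' f hf).toEquiv,
      Nat.card_congr (Subgroup.subgroupOfEquivOfLe hE).toEquiv, hE8]
  obtain ⟨z, hzE, hz⟩ : ∃ z ∈ E', f z = -1 := CfsgLib.S1906Aux.mem_of_commute h2 W hWE hW8
    (u := -1) (by simp) (fun e _ => by simp)
  have hzc : z ∈ Subgroup.center P := Subgroup.mem_center_iff.2 fun y => hf (by simp [hz])
  have hz2 : z ^ 2 = 1 := hf (by simp [hz])
  -- central involutions
  let A : Subgroup P :=
    { carrier := {x | x ∈ Subgroup.center P ∧ x * x = 1}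
      one_mem' := ⟨one_mem _, mul_one 1⟩
      mul_mem' := fun {a b} ha hb => ⟨mul_mem ha.1 hb.1, by
        rw [mul_assoc a b (a * b), ← mul_assoc b a b, Subgroup.mem_center_iff.1 ha.1 b, mul_assoc a b b, hb.2,
          mul_one, ha.2]⟩
      inv_mem' := fun {a} ha => ⟨inv_mem ha.1, by rw [← _root_.mul_inv_rev, ha.2, inv_one]⟩ }
  have hAE : ∀ a ∈ A, a ∈ E' := fun a ha => by
    obtain ⟨b, hb, hab⟩ := CfsgLib.S1906Aux.mem_of_commute h2 W hWE hW8 (u := f a)
      (by rw [← map_mul, ha.2, map_one]) (by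
        rintro _ ⟨e, he, rfl⟩
        rw [← map_mul, ← map_mul, Subgroup.mem_center_iff.1 ha.1 e])
    rwa [← hf hab]
  have hE'8 : Nat.card E' = 8 := by rw [Nat.card_congr (Subgroup.subgroupOfEquivOfLe hE).toEquiv, hE8]
  have hAle : A ≤ E' := hAE
  have hA4 : Nat.card A ≤ 4 := by
    by_contra h
    have hd := Subgroup.card_dvd_of_le hAle
    rw [hE'8] at hd
    have h8 : A = E' := Subgroup.eq_of_le_of_card_ge hAle (by
      have := Nat.le_of_dvd (by norm_num) hd
      interval_cases hc : Nat.card A <;> omega)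
    apply hnc
    have hall : ∀ (x : P) (e : GL (Fin 3) F), e ∈ W → f x * e = e * f x := by
      rintro x _ ⟨e, he, rfl⟩
      rw [← map_mul, ← map_mul]
      have : e ∈ A := h8 ▸ he
      rw [Subgroup.mem_center_iff.1 this.1 x]
    exact ⟨⟨fun x y => hf (by
      rw [map_mul, map_mul, CfsgLib.S1906Aux.sign_centraliser_comm h2 W hWE hW8 (hall x) (hall y)])⟩⟩
  -- the commutator part
  set B : Subgroup P := commutator P ⊓ A with hB
  have hBne : B ≠ ⊥ := by
    have hcne : commutator P ≠ ⊥ := fun h => hnc ⟨⟨fun x y => by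
      have : ⁅x, y⁆ ∈ commutator P := Subgroup.commutator_mem_commutator (Subgroup.mem_top x) (Subgroup.mem_top y)
      rw [h, Subgroup.mem_bot] at this
      exact commutatorElement_eq_one_iff_mul_comm.1 this⟩⟩
    haveI : Group.IsNilpotent P := hX2.isNilpotent
    have hmeet := CfsgLib.Solvable.FrattiniFitting.inf_center_ne_bot (commutator P) hcne
    intro hbot
    apply hmeet
    by_contra hne
    obtain ⟨⟨x, hx⟩, hx1⟩ := Subgroup.ne_bot_iff_exists_ne_one.1 hne
    have hcp : IsPGroup 2 ↥(commutator P ⊓ Subgroup.center P) := hX2.to_subgroup _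
    obtain ⟨n, hn⟩ := hcp.exists_card_eq
    have h2d : 2 ∣ Nat.card ↥(commutator P ⊓ Subgroup.center P) := by
      rw [hn]
      refine dvd_pow_self 2 fun h0 => hne ?_
      rw [h0, pow_zero] at hn
      exact Subgroup.card_eq_one.1 hn
    obtain ⟨y, hy⟩ := exists_prime_orderOf_dvd_card' 2 h2d
    have hyB : (y : P) ∈ B := ⟨y.2.1, y.2.2, by
      have := pow_orderOf_eq_one y
      rw [hy, pow_two] at this
      exact congrArg Subtype.val this⟩
    rw [hbot, Subgroup.mem_bot] at hyB
    rw [show y = 1 from Subtype.ext hyB, orderOf_one] at hy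
    norm_num at hy
  let ψ : P →* Fˣ := (Matrix.GeneralLinearGroup.det).comp f
  have hψB : ∀ b ∈ B, ψ b = 1 := fun b hb => (Abelianization.commutator_subset_ker ψ) hb.1
  have hψz : ψ z = -1 := by
    apply Units.ext
    simp [ψ, hz, Matrix.det_neg]
    norm_num
  have hne1 : (-1 : Fˣ) ≠ 1 := fun h => h2 (by
    have := congrArg Units.val h
    simp only [Units.val_neg, Units.val_one] at this
    linear_combination -this)
  have hzA : z ∈ A := ⟨hzc, by rw [← pow_two, hz2]⟩
  have hzB : z ∉ B := fun h => hne1 (hψz ▸ hψB z h)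
  -- the values at the fixed points of `P`
  have key : ∀ g : G, g ∈ Subgroup.normalizer (P : Set G) →
      ∀ hm : g⁻¹ * (z : G) * g ∈ P, ψ ⟨_, hm⟩ = -1 := by
    intro g hg hm
    let φ : P ≃* P :=
      { toFun := fun x => ⟨g⁻¹ * x * g, (Subgroup.mem_normalizer_iff''.1 hg _).1 x.2⟩
        invFun := fun x => ⟨g * x * g⁻¹, (Subgroup.mem_normalizer_iff.1 hg _).1 x.2⟩
        left_inv := fun x => Subtype.ext (by simp [mul_assoc])
        right_inv := fun x => Subtype.ext (by simp [mul_assoc])
        map_mul' := fun x y => Subtype.ext (by simp [mul_assoc]) }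
    have hφA : ∀ (χ : P ≃* P) (x : P), x ∈ A → χ x ∈ A := fun χ x hx =>
      ⟨Subgroup.mem_center_iff.2 fun y => χ.symm.injective (by
        rw [map_mul, map_mul, MulEquiv.symm_apply_apply, Subgroup.mem_center_iff.1 hx.1]),
        by rw [← map_mul, hx.2, map_one]⟩
    set w : P := φ z with hw
    have hwA : w ∈ A := hφA φ z hzA
    have hwB : w ∉ B := by
      intro h
      refine hzB ⟨?_, hzA⟩
      have hk : φ.toMonoidHom z ∈ commutator P := h.1
      have : φ.symm.toMonoidHom w ∈ (commutator P).map φ.symm.toMonoidHom := ⟨w, h.1, rfl⟩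
      rw [show φ.symm.toMonoidHom w = z from φ.symm_apply_apply z] at this
      rw [commutator_def, Subgroup.map_commutator] at this
      exact Subgroup.commutator_mono le_top le_top this
    have hBA : (B.subgroupOf A).index = 2 := by
      have hmul := (B.subgroupOf A).card_mul_index
      rw [Nat.card_congr (Subgroup.subgroupOfEquivOfLe (inf_le_right : B ≤ A)).toEquiv] at hmul
      have h1 : 1 < Nat.card B := (Subgroup.one_lt_card_iff_ne_bot B).2 hBne
      have h3 : (B.subgroupOf A).index ≠ 1 := fun h =>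
        hzB (Subgroup.subgroupOf_eq_top.1 (Subgroup.index_eq_one.1 h) hzA)
      have h0 : (B.subgroupOf A).index ≠ 0 := Subgroup.index_ne_zero_of_finite
      by_contra hne
      have : 3 ≤ (B.subgroupOf A).index := by omega
      nlinarith
    have hprod : w * z ∈ B := by
      have := (Subgroup.mul_mem_iff_of_index_two hBA (a := (⟨w, hwA⟩ : A)) (b := ⟨z, hzA⟩)).2
        ⟨fun h => absurd h hwB, fun h => absurd h hzB⟩
      exact this
    have := hψB _ hprod
    rw [map_mul, hψz] at this
    show ψ w = -1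
    rwa [mul_neg, mul_one, neg_eq_iff_eq_neg] at this
  -- transfer
  haveI : Fintype (G ⧸ P) := Fintype.ofFinite _
  have hV := CfsgLib.PGroup.HallWielandt.transfer_eq_prod (p := 2) (N := 1) P ψ (z : G)
    (by rw [pow_one]; exact congrArg Subtype.val hz2) (by
      intro g m hm
      obtain ⟨k, rfl⟩ := hm
      rw [pow_mul, show (z : G) ^ 2 = 1 from congrArg Subtype.val hz2, one_pow, mul_one, inv_mul_cancel,
        CfsgLib.PGroup.HallWielandt.ext1_of_mem ψ (one_mem P)]
      exact map_one ψ)
  set v : G → Fˣ := fun g => CfsgLib.PGroup.HallWielandt.ext1 ψ (g⁻¹ * (z : G) * g) with hv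
  have hvr : ∀ g, ∀ r ∈ P, v (g * r) = v g := fun g r hr => by
    simp only [hv]
    rw [show (g * r)⁻¹ * (z : G) * (g * r) = r⁻¹ * (g⁻¹ * z * g) * r by group,
      CfsgLib.PGroup.HallWielandt.ext1_conj ψ _ hr]
  have hvl : ∀ g, ∀ x ∈ P, v (x * g) = v g := fun g x hx => by
    have := congrArg Subtype.val (Subgroup.mem_center_iff.1 hzc ⟨x, hx⟩)
    simp only [Subgroup.coe_mul] at this
    simp only [hv]
    rw [show (x * g)⁻¹ * (z : G) * (x * g) = g⁻¹ * (x⁻¹ * ((z : G) * x)) * g by group, ← this,
      inv_mul_cancel_left]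
  have hout : ∀ g : G, v (g : G ⧸ P).out = v g := fun g => by
    obtain ⟨r, hr⟩ := QuotientGroup.mk_out_eq_mul P g
    rw [hr, hvr _ _ r.2]
  let S : Set (G ⧸ P) := {q | v q.out = -1}
  have hSinv : ∀ (x : P) (q : G ⧸ P), q ∈ S → x • q ∈ S := by
    intro x q hq
    show v (x • q).out = -1
    rw [show x • q = (((x : G) * q.out : G) : G ⧸ P) by
      conv_lhs => rw [← QuotientGroup.out_eq' q]
      rfl, hout, hvl _ _ x.2]
    exact hq
  let act : MulAction P S :=
    { smul := fun x q => ⟨x • q.1, hSinv x q.1 q.2⟩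
      one_smul := fun q => Subtype.ext (one_smul P q.1)
      mul_smul := fun x y q => Subtype.ext (mul_smul x y q.1) }
  have hfix : ∀ q : G ⧸ P, q ∈ MulAction.fixedPoints P (G ⧸ P) → q ∈ S := by
    intro q hq
    rw [← QuotientGroup.out_eq' q] at hq
    have hn := (Sylow.mem_fixedPoints_mul_left_cosets_iff_mem_normalizer (H := P)).1 hq
    show CfsgLib.PGroup.HallWielandt.ext1 ψ (q.out⁻¹ * (z : G) * q.out) = -1
    rw [CfsgLib.PGroup.HallWielandt.ext1_of_mem ψ ((Subgroup.mem_normalizer_iff''.1 hn _).1 z.2)]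
    exact key _ hn _
  have hSodd : Odd (Nat.card S) := by
    have h1 := hX2.card_modEq_card_fixedPoints (G ⧸ P)
    have h3 := @IsPGroup.card_modEq_card_fixedPoints 2 P _ hX2 _ S act _
    have e : Nat.card (@MulAction.fixedPoints P S _ act) = Nat.card (MulAction.fixedPoints P (G ⧸ P)) :=
      Nat.card_congr
        { toFun := fun q => ⟨q.1.1, fun x => congrArg Subtype.val (q.2 x)⟩
          invFun := fun q => ⟨⟨q.1, hfix _ q.2⟩, fun x => Subtype.ext (q.2 x)⟩
          left_inv := fun q => rfl
          right_inv := fun q => rfl }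
    have hi : ¬ 2 ∣ Nat.card (G ⧸ P) := X.not_dvd_index
    rw [Nat.odd_iff]
    have h4 : Nat.card S % 2 = Nat.card (G ⧸ P) % 2 := (h3.trans (e ▸ h1.symm) : _)
    omega
  have hτ : MonoidHom.transfer ψ (z : G) = -1 := by
    rw [hV]
    show ∏ q : G ⧸ P, v q.out = -1
    rw [← Finset.prod_filter_mul_prod_filter_not Finset.univ (fun q : G ⧸ P => v q.out = -1),
      Finset.prod_congr rfl (fun q hq => (Finset.mem_filter.1 hq).2), Finset.prod_const]
    have hc : (Finset.univ.filter fun q : G ⧸ P => v q.out = -1).card = Nat.card S := by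
      rw [← Fintype.card_subtype, ← Nat.card_eq_fintype_card]
      rfl
    rw [hc, hSodd.neg_one_pow, Finset.prod_eq_one, mul_one]
    intro q hq
    have hq' := (Finset.mem_filter.1 hq).2
    by_cases hm : q.out⁻¹ * (z : G) * q.out ∈ P
    · simp only [hv, CfsgLib.PGroup.HallWielandt.ext1_of_mem ψ hm] at hq' ⊢
      have hsq : ψ ⟨_, hm⟩ * ψ ⟨_, hm⟩ = 1 := by
        rw [← map_mul, ← map_one ψ]
        congr 1
        apply Subtype.ext
        show q.out⁻¹ * (z : G) * q.out * (q.out⁻¹ * (z : G) * q.out) = 1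
        have hzz : (z : G) * z = 1 := by rw [← pow_two]; exact congrArg Subtype.val hz2
        calc _ = q.out⁻¹ * ((z : G) * z) * q.out := by group
          _ = 1 := by rw [hzz, mul_one, inv_mul_cancel]
      have hsq' : ((ψ ⟨_, hm⟩ : Fˣ) : F) * (ψ ⟨_, hm⟩ : Fˣ) = 1 := by
        rw [← Units.val_mul, hsq, Units.val_one]
      rcases mul_self_eq_one_iff.1 hsq' with h | h
      · exact Units.ext h
      · exact absurd (Units.ext (by rw [h, Units.val_neg, Units.val_one])) hq'
    · exact CfsgLib.PGroup.HallWielandt.ext1_of_not_mem ψ hm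
  set R : Subgroup Fˣ := (MonoidHom.transfer ψ).range with hR
  have hRe : 2 ∣ Nat.card R := by
    have : orderOf (⟨-1, ⟨(z : G), hτ⟩⟩ : R) = 2 := by
      apply orderOf_eq_prime
      · exact Subtype.ext (by simp)
      · exact fun h => hne1 (congrArg Subtype.val h)
    exact this ▸ orderOf_dvd_natCard _
  let π : G →* R := (MonoidHom.transfer ψ).rangeRestrict
  have hidx : ((powMonoidHom 2 : R →* R).range.comap π).index = 2 := by
    rw [Subgroup.index_comap_of_surjective _ (MonoidHom.rangeRestrict_surjective _),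
      IsCyclic.index_powMonoidHom_range, Nat.gcd_eq_right hRe]
  exact hG _ hidx

end Cfsg.Agent.S1906
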