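import Cfsg.Statements.S1907
import Cfsg.Agent.Lib.LocalEvenB.SubnormalSylow
import Cfsg.Agent.Lib.Components.Constrained

set_option autoImplicit false
open Cfsg
open scoped commutatorElement

namespace Cfsg.Agent.S1907

/-- Let P be a Sylow p-subgroup of a finite group G, H = P ∩ O_{p',p}(G), N = N_G(H) and D = O_{p'}(G). (a) If y is an element of p-power order of N and d ∈ D with d⁻¹ y d ∈ N, then d = d₁ d₂ with d₁ ∈ C_D(y) and d₂ ∈ C_D(H). (b) Two elements of P that are conjugate in G are conjugate in N. -/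
theorem result {G : Type*} [Group G] [Finite G] {p : ℕ} [Fact p.Prime] (P : Sylow p G) :
    (∀ y ∈ Subgroup.normalizer (((P : Subgroup G) ⊓ Cfsg.pPrimePCore p G : Subgroup G) : Set G), (∃ k : ℕ, orderOf y = p ^ k) →
      ∀ d ∈ Cfsg.pPrimeCore p G, d⁻¹ * y * d ∈ Subgroup.normalizer (((P : Subgroup G) ⊓ Cfsg.pPrimePCore p G : Subgroup G) : Set G) →
        ∃ d₁ ∈ Cfsg.pPrimeCore p G ⊓ Subgroup.centralizer ({y} : Set G),
          ∃ d₂ ∈ Cfsg.pPrimeCore p G ⊓ Subgroup.centralizer (((P : Subgroup G) ⊓ Cfsg.pPrimePCore p G : Subgroup G) : Set G), d = d₁ * d₂) ∧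
    ∀ x y : G, x ∈ (P : Subgroup G) → y ∈ (P : Subgroup G) → IsConj x y →
      ∃ n ∈ Subgroup.normalizer (((P : Subgroup G) ⊓ Cfsg.pPrimePCore p G : Subgroup G) : Set G), n * x * n⁻¹ = y := by
  set K := Cfsg.pPrimePCore p G with hK
  set H : Subgroup G := (P : Subgroup G) ⊓ K with hH
  set D := Cfsg.pPrimeCore p G with hD
  set N := Subgroup.normalizer (H : Set G) with hN
  haveI hKn : K.Normal := by rw [hK, Cfsg.pPrimePCore]; infer_instance
  obtain ⟨R, hR⟩ : ∃ R : Sylow p K, (R : Subgroup K).map K.subtype = H :=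
    CfsgLib.Coprime.exists_sylow_map_eq inf_le_right
      (CfsgLib.LocalEvenB.SubnormalSylow.card_inf_sylow P hKn.isSubnormal)
  have hHp : IsPGroup p H := P.2.to_le inf_le_left
  have hPN : (P : Subgroup G) ≤ N := by
    refine Subgroup.le_normalizer_iff.2 fun a ha x hx => ?_
    exact Subgroup.mem_inf.2 ⟨mul_mem (mul_mem ha hx.1) (inv_mem ha), hKn.conj_mem x hx.2 a⟩
  have hKDH : K ≤ H ⊔ D := by
    intro x hx
    have h1 : QuotientGroup.mk' D x ∈ H.map (QuotientGroup.mk' D) := by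
      rw [← hR, CfsgLib.Components.sylow_pPrimePCore_map R]
      exact hx
    obtain ⟨h, hh, he⟩ := h1
    have h2 : h⁻¹ * x ∈ D := QuotientGroup.eq.mp he
    have := Subgroup.mul_mem_sup hh h2
    rwa [mul_inv_cancel_left] at this
  have hDN : ∀ d ∈ D, d ∈ N → d ∈ Subgroup.centralizer (H : Set G) := by
    intro d hd hdN
    refine Subgroup.mem_centralizer_iff.2 fun h hh => ?_
    have h1 : d * h * d⁻¹ * h⁻¹ ∈ H :=
      mul_mem (Subgroup.le_normalizer_iff.1 le_rfl d hdN h hh) (inv_mem hh)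
    have h2 : d * h * d⁻¹ * h⁻¹ ∈ D := by
      have := mul_mem hd ((inferInstance : D.Normal).conj_mem _ (inv_mem hd) h)
      simpa [mul_assoc] using this
    have hbot : H ⊓ D = ⊥ := Subgroup.inf_eq_bot_of_coprime (by
      obtain ⟨n, hn⟩ := hHp.exists_card_eq
      rw [hn]
      exact Nat.Coprime.pow_left _ (CfsgLib.Solvable.Cores.coprime_card_pPrimeCore p).symm)
    have h3 : d * h * d⁻¹ * h⁻¹ = 1 := Subgroup.mem_bot.1 (hbot ▸ ⟨h1, h2⟩)
    calc h * d = (d * h * d⁻¹ * h⁻¹) * h * d := by rw [h3, one_mul]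
      _ = d * h := by group
  have hCN : Subgroup.centralizer (H : Set G) ≤ N := Subgroup.centralizer_le_normalizer _
  have parta : ∀ y ∈ N, (∃ k : ℕ, orderOf y = p ^ k) → ∀ d ∈ D, d⁻¹ * y * d ∈ N →
      ∃ d₁ ∈ D ⊓ Subgroup.centralizer ({y} : Set G),
        ∃ d₂ ∈ D ⊓ Subgroup.centralizer (H : Set G), d = d₁ * d₂ := by
    intro y hy ⟨k, hk⟩ d hd hd'
    have hc : ⁅y, d⁻¹⁆ ∈ D ⊓ Subgroup.centralizer (H : Set G) := by
      have e : ⁅y, d⁻¹⁆ = y * (d⁻¹ * y⁻¹ * d) := by rw [commutatorElement_def]; group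
      have h1 : ⁅y, d⁻¹⁆ ∈ D := by
        rw [commutatorElement_def, inv_inv]
        exact mul_mem ((inferInstance : D.Normal).conj_mem _ (inv_mem hd) y) hd
      refine ⟨h1, hDN _ h1 (e ▸ mul_mem hy ?_)⟩
      have := inv_mem hd'
      simpa [mul_assoc] using this
    have hyn : Subgroup.zpowers y ≤
        Subgroup.normalizer ((D ⊓ Subgroup.centralizer (H : Set G) : Subgroup G) : Set G) := by
      rw [Subgroup.zpowers_le]
      refine Subgroup.le_normalizer_iff.2 (fun a ha x hx => ?_) hy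
      have hxN := hCN hx.2
      have h1 : a * x * a⁻¹ ∈ D := (inferInstance : D.Normal).conj_mem _ hx.1 a
      exact ⟨h1, hDN _ h1 (mul_mem (mul_mem ha hxN) (inv_mem ha))⟩
    have hcop : (Nat.card (Subgroup.zpowers y)).Coprime
        (Nat.card ↥(D ⊓ Subgroup.centralizer (H : Set G))) := by
      rw [Nat.card_zpowers, hk]
      exact Nat.Coprime.coprime_dvd_right (Subgroup.card_dvd_of_le inf_le_left)
        (Nat.Coprime.pow_left _ (CfsgLib.Solvable.Cores.coprime_card_pPrimeCore p).symm)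
    obtain ⟨n, hn, hnc⟩ := CfsgLib.Coprime.exists_mul_mem_centralizer hyn hcop
      (Or.inl (CfsgLib.Coprime.isSolvable_zpowers y)) (k := d⁻¹) (by
        intro a ha
        obtain ⟨i, rfl⟩ := Subgroup.mem_zpowers_iff.1 ha
        induction i using Int.induction_on with
        | zero => simp
        | succ i ih =>
          have e : ⁅y ^ ((i : ℤ) + 1), d⁻¹⁆ =
              y * ⁅y ^ (i : ℤ), d⁻¹⁆ * y⁻¹ * ⁅y, d⁻¹⁆ := by
            rw [commutatorElement_def, commutatorElement_def, commutatorElement_def]; group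
          rw [e]
          exact mul_mem (Subgroup.le_normalizer_iff.1 hyn y (Subgroup.mem_zpowers y) _
            (ih (zpow_mem (Subgroup.mem_zpowers y) _))) hc
        | pred i ih =>
          have e : ⁅y ^ (-(i : ℤ) - 1), d⁻¹⁆ =
              y⁻¹ * (⁅y ^ (-(i : ℤ)), d⁻¹⁆ * ⁅y, d⁻¹⁆⁻¹) * (y⁻¹)⁻¹ := by
            rw [commutatorElement_def, commutatorElement_def, commutatorElement_def]; group
          rw [e]
          exact Subgroup.le_normalizer_iff.1 hyn y⁻¹ (inv_mem (Subgroup.mem_zpowers y)) _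
            (mul_mem (ih (zpow_mem (Subgroup.mem_zpowers y) _)) (inv_mem hc)))
    refine ⟨(n * d⁻¹)⁻¹, Subgroup.mem_inf.2 ⟨inv_mem (mul_mem hn.1 (inv_mem hd)), inv_mem ?_⟩, n, hn, by group⟩
    exact Subgroup.mem_centralizer_singleton_iff.2
      (Subgroup.mem_centralizer_iff.1 hnc y (Subgroup.mem_zpowers y)).symm
  refine ⟨parta, fun x y hx hy hxy => ?_⟩
  obtain ⟨g, hg⟩ := isConj_iff.1 hxy
  have hND : ∃ d ∈ D, ∃ n ∈ N, g = d * n := by
    have h1 : g ∈ D ⊔ N := by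
      have h2 : N ⊔ K = ⊤ := by rw [hN, ← hR]; exact Sylow.normalizer_sup_eq_top R
      have h3 : N ⊔ K ≤ D ⊔ N :=
        sup_le le_sup_right (hKDH.trans (sup_le (Subgroup.le_normalizer.trans le_sup_right) le_sup_left))
      exact h3 (h2 ▸ Subgroup.mem_top g)
    obtain ⟨d, hd, n, hn, e⟩ := (Subgroup.mem_sup_of_normal_left).1 h1
    exact ⟨d, hd, n, hn, e.symm⟩
  obtain ⟨d, hd, n, hn, rfl⟩ := hND
  obtain ⟨k, hk⟩ := P.2 ⟨y, hy⟩
  have hyord : ∃ k : ℕ, orderOf y = p ^ k := by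
    have h1 : y ^ p ^ k = 1 := by simpa using congrArg Subtype.val hk
    obtain ⟨j, -, hj⟩ := (Nat.dvd_prime_pow (Fact.out : p.Prime)).1 (orderOf_dvd_of_pow_eq_one h1)
    exact ⟨j, hj⟩
  have e : d⁻¹ * y * d = n * x * n⁻¹ := by rw [← hg]; group
  obtain ⟨d₁, hd₁, d₂, hd₂, rfl⟩ := parta y (hPN hy) hyord d hd
    (e ▸ mul_mem (mul_mem hn (hPN hx)) (inv_mem hn))
  refine ⟨d₂ * n, mul_mem (hCN hd₂.2) hn, ?_⟩
  have h1 : d₁ * y = y * d₁ := Subgroup.mem_centralizer_singleton_iff.1 hd₁.2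
  calc d₂ * n * x * (d₂ * n)⁻¹ = d₂ * (n * x * n⁻¹) * d₂⁻¹ := by group
    _ = d₂ * ((d₁ * d₂)⁻¹ * y * (d₁ * d₂)) * d₂⁻¹ := by rw [e]
    _ = d₁⁻¹ * (y * d₁) := by group
    _ = d₁⁻¹ * (d₁ * y) := by rw [h1]
    _ = y := by group

end Cfsg.Agent.S1907
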