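import Cfsg.Statements.S1915
import Cfsg.Agent.Lib.TwoGroups.FourActionRankOne

set_option autoImplicit false
open Cfsg

namespace Cfsg.Agent.S1915

/-- Let A be a semisimple subgroup (A = E(A)) of a finite group and U a Klein four-group normalizing A. If the subgroup of A generated by the normalizers N_A(V) of the nontrivial subgroups V of U has 2-rank exactly 1, then A has 2-rank exactly 1. -/
theorem result {G : Type*} [Group G] [Finite G] (A : Subgroup G) (hA : Cfsg.layer ↥A = ⊤)
    (U : Subgroup G) (hU : IsKleinFour U) (hUA : U ≤ Subgroup.normalizer (A : Set G))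
    (hΓ : Cfsg.PRankLE 2 1 ↥(⨆ V : {V : Subgroup G // V ≤ U ∧ V ≠ ⊥}, A ⊓ Subgroup.normalizer ((V : Subgroup G) : Set G)) ∧
      ¬ Cfsg.PRankLE 2 0 ↥(⨆ V : {V : Subgroup G // V ≤ U ∧ V ≠ ⊥}, A ⊓ Subgroup.normalizer ((V : Subgroup G) : Set G))) :
    Cfsg.PRankLE 2 1 A ∧ ¬ Cfsg.PRankLE 2 0 A := by
  classical
  open CfsgLib.TwoGroups.PairInvolutions in
  have key : Cfsg.PRankLE 2 1 A := by
    set H : Subgroup G := A ⊔ U with hH
    have hHN : H ≤ Subgroup.normalizer (A : Set G) := sup_le Subgroup.le_normalizer hUA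
    haveI : (A.subgroupOf H).Normal := (Subgroup.normal_subgroupOf_iff_le_normalizer le_sup_left).2 hHN
    haveI := hU
    have hA' : commutator ↥A = ⊤ := by
      rw [eq_top_iff, ← hA, Cfsg.layer]
      refine sSup_le fun K hK x hx => ?_
      have hp : commutator ↥K = ⊤ := Group.isPerfect_def.1 hK.2.1
      have hx' : (⟨x, hx⟩ : K) ∈ commutator ↥K := hp ▸ Subgroup.mem_top _
      have h2 := Subgroup.mem_map_of_mem K.subtype hx'
      rw [Subgroup.map_subtype_commutator] at h2
      exact (Subgroup.commutator_mono le_top le_top) h2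
    have hperf : ∀ M : Subgroup (A.subgroupOf H), M.index ≠ 2 := by
      intro M hM
      let e : ↥(A.subgroupOf H) ≃* ↥A := Subgroup.subgroupOfEquivOfLe le_sup_left
      have hM' : (M.map e.toMonoidHom).index = 2 := by
        rw [← hM]; exact Subgroup.index_map_equiv M e
      haveI := Subgroup.normal_of_index_eq_two hM'
      haveI : IsCyclic (↥A ⧸ M.map e.toMonoidHom) := isCyclic_of_prime_card (p := 2) hM'
      have hle : commutator ↥A ≤ M.map e.toMonoidHom := by
        rw [commutator_def, Subgroup.commutator_le]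
        intro x _ y _
        rw [← QuotientGroup.eq_one_iff, ← QuotientGroup.mk'_apply, map_commutatorElement,
          commutatorElement_eq_one_iff_mul_comm]
        exact IsCyclic.isMulCommutative.is_comm.comm _ _
      rw [hA', top_le_iff] at hle
      rw [hle, Subgroup.index_top] at hM'
      norm_num at hM'
    have hU2 : ∀ u ∈ U, u * u = 1 := fun u hu => congrArg Subtype.val (IsKleinFour.mul_self (⟨u, hu⟩ : U))
    have hrk := (prankLE_one_iff _).1 hΓ.1
    rw [prankLE_one_iff]
    intro x hx y hy hp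
    refine CfsgLib.TwoGroups.FourActionRankOne.no_pair (A.subgroupOf H) (U.subgroupOf H) ?_ ?_ ?_ hperf ?_
      ⟨x, Subgroup.mem_sup_left hx⟩ (Subgroup.mem_subgroupOf.2 hx) ⟨y, Subgroup.mem_sup_left hy⟩
      (Subgroup.mem_subgroupOf.2 hy) (Pair.comap H.subtype H.subtype_injective hp)
    · rw [← Subgroup.subgroupOf_sup le_sup_left le_sup_right, Subgroup.subgroupOf_self]
    · rw [Nat.card_congr (Subgroup.subgroupOfEquivOfLe (le_sup_right : U ≤ H)).toEquiv]
      exact IsKleinFour.card_four
    · exact fun u hu => Subtype.ext (hU2 _ (Subgroup.mem_subgroupOf.1 hu))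
    · intro u hu hu1 v hv w hw huv huw hvw
      have hV : Subgroup.zpowers (u : G) ≤ U ∧ Subgroup.zpowers (u : G) ≠ ⊥ :=
        ⟨Subgroup.zpowers_le.2 hu, fun e => hu1 (Subtype.ext (Subgroup.zpowers_eq_bot.1 e))⟩
      have hmem : ∀ v : H, v ∈ A.subgroupOf H → Commute u v → (v : G) ∈
          (⨆ V : {V : Subgroup G // V ≤ U ∧ V ≠ ⊥}, A ⊓ Subgroup.normalizer ((V : Subgroup G) : Set G)) := by
        intro v hv huv
        refine Subgroup.mem_iSup_of_mem ⟨Subgroup.zpowers (u : G), hV⟩ (Subgroup.mem_inf.2 ⟨hv, ?_⟩)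
        refine Subgroup.centralizer_le_normalizer _ (Subgroup.mem_centralizer_iff.2 fun y hy => ?_)
        obtain ⟨i, rfl⟩ := Subgroup.mem_zpowers_iff.1 hy
        have huvG : Commute (u : G) (v : G) := congrArg Subtype.val huv.eq
        exact (huvG.zpow_left i).eq
      exact hrk _ (hmem v hv huv) _ (hmem w hw huw) (Pair.map H.subtype H.subtype_injective hvw)
  refine ⟨key, fun h0 => hΓ.2 fun E hE hE2 => ?_⟩
  have hΓA : (⨆ V : {V : Subgroup G // V ≤ U ∧ V ≠ ⊥}, A ⊓ Subgroup.normalizer ((V : Subgroup G) : Set G)) ≤ A :=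
    iSup_le fun _ => inf_le_left
  let ι := Subgroup.inclusion hΓA
  have hinj : Function.Injective ι := Subgroup.inclusion_injective hΓA
  refine (Nat.card_congr (E.equivMapOfInjective ι hinj).toEquiv).trans_le (h0 (E.map ι) ?_ ?_)
  · haveI := hE; infer_instance
  · rintro _ ⟨e, he, rfl⟩; rw [← map_pow, hE2 e he, map_one]

end Cfsg.Agent.S1915
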