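import Cfsg.Statements.S1921
import Cfsg.Agent.Lib.Components.Basic
-- import your own Cfsg.Agent.* helpers here

set_option autoImplicit false
open Cfsg Subgroup
open scoped Pointwise

namespace Cfsg.Agent.S1921

/-- Let a be an involution of a finite group H and L a component of H with a L a⁻¹ ≠ L; put M = ⟨L, aLa⁻¹⟩ and let J be the subgroup generated by the elements x · a x a⁻¹ with x ∈ L (the diagonal). Then every element of M outside J·Z(M) generates M together with J. -/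
theorem result {H : Type*} [Group H] [Finite H] (a : H) (ha : orderOf a = 2) (L : Subgroup H) (hL : Cfsg.IsComponent L)
    (hLa : L.map (MulAut.conj a).toMonoidHom ≠ L) (x : H) (hxM : x ∈ L ⊔ L.map (MulAut.conj a).toMonoidHom)
    (hxJ : x ∉ Subgroup.closure {y : H | ∃ l ∈ L, y = l * (a * l * a⁻¹)} ⊔
      ((L ⊔ L.map (MulAut.conj a).toMonoidHom) ⊓ Subgroup.centralizer ((L ⊔ L.map (MulAut.conj a).toMonoidHom : Subgroup H) : Set H))) :
    Subgroup.closure {y : H | ∃ l ∈ L, y = l * (a * l * a⁻¹)} ⊔ Subgroup.zpowers x = L ⊔ L.map (MulAut.conj a).toMonoidHom := by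
  set L' := L.map (MulAut.conj a).toMonoidHom with hL'
  have ha2 : a * a = 1 := by rw [← sq, ← ha]; exact pow_orderOf_eq_one a
  have hswap : ∀ m ∈ L', a * m * a⁻¹ ∈ L := by
    rintro _ ⟨m, hm, rfl⟩
    have : a * (a * m * a⁻¹) * a⁻¹ = m := by
      calc a * (a * m * a⁻¹) * a⁻¹ = (a * a) * m * (a * a)⁻¹ := by group
        _ = m := by rw [ha2]; group
    simpa [this] using hm
  have hcc := CfsgLib.Components.IsComponent.le_centralizer_of_ne hL
    (CfsgLib.Components.IsComponent.conj hL a) (Ne.symm hLa)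
  have hc : ∀ l ∈ L, ∀ m ∈ L', l * m = m * l := fun l hl m hm =>
    (mem_centralizer_iff.mp (hcc hl) m hm).symm
  set J := closure {y : H | ∃ l ∈ L, y = l * (a * l * a⁻¹)} with hJ
  set M := L ⊔ L'
  set K := J ⊔ zpowers x with hK
  have hj : ∀ l ∈ L, l * (a * l * a⁻¹) ∈ K := fun l hl => mem_sup_left (subset_closure ⟨l, hl, rfl⟩)
  have haL : ∀ l ∈ L, a * l * a⁻¹ ∈ L' := fun l hl => ⟨l, hl, rfl⟩
  have hJM : J ≤ M := (closure_le _).mpr fun y ⟨l, hl, e⟩ => e ▸ M.mul_mem (mem_sup_left hl) (mem_sup_right (haL l hl))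
  have hm' : x ∈ ((L : Set H) * (L' : Set H) : Set H) := by
    rw [← coe_mul_of_left_le_normalizer_right L L' (hcc.trans (centralizer_le_normalizer _))]
    exact hxM
  obtain ⟨l, hl, m, hm, hlm⟩ := hm'
  simp only at hlm
  set k := a * m * a⁻¹ with hk
  have hkL : k ∈ L := hswap m hm
  have hak : a * k * a⁻¹ = m := by
    calc a * (a * m * a⁻¹) * a⁻¹ = (a * a) * m * (a * a)⁻¹ := by group
      _ = m := by rw [ha2]; group
  set u := l * k⁻¹ with hu
  have huL : u ∈ L := L.mul_mem hl (L.inv_mem hkL)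
  have hxu : x = u * (k * (a * k * a⁻¹)) := by rw [hak, ← hlm, hu]; group
  have huK : u ∈ K := by
    have h1 : x * (k * (a * k * a⁻¹))⁻¹ ∈ K :=
      K.mul_mem (mem_sup_right (mem_zpowers x)) (K.inv_mem (hj k hkL))
    rwa [show x * (k * (a * k * a⁻¹))⁻¹ = u by rw [hxu]; group] at h1
  set N := (K ⊓ L).subgroupOf L with hN
  have hNn : N.Normal := ⟨fun n hn g => by
    refine ⟨?_, (g * n * g⁻¹).2⟩
    have h1 : ((g : H) * (a * g * a⁻¹)) * n * ((g : H) * (a * g * a⁻¹))⁻¹ = g * n * (g : H)⁻¹ := by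
      have h2 : (a * (g : H) * a⁻¹) * n = n * (a * g * a⁻¹) := (hc n n.2 _ (haL g g.2)).symm
      calc _ = (g : H) * ((a * g * a⁻¹) * n) * (a * g * a⁻¹)⁻¹ * (g : H)⁻¹ := by group
        _ = _ := by rw [h2]; group
    show (g : H) * n * (g : H)⁻¹ ∈ K
    rw [← h1]
    exact K.mul_mem (K.mul_mem (hj g g.2) hn.1) (K.inv_mem (hj g g.2))⟩
  have hLK : L ≤ K := by
    rcases CfsgLib.Components.IsQuasisimple.normal_le_center_or_top hL.2 N with h | h
    · exfalso
      refine hxJ ?_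
      rw [hxu]
      refine mul_mem (mem_sup_right ⟨mem_sup_left huL, mem_centralizer_iff.mpr fun y hy => ?_⟩)
        (mem_sup_left (subset_closure ⟨k, hkL, rfl⟩))
      have hLc : M ≤ centralizer {u} := by
        refine sup_le (fun y hy => mem_centralizer_singleton_iff.mpr ?_)
          (fun y hy => mem_centralizer_singleton_iff.mpr (hc u huL y hy).symm)
        exact congrArg Subtype.val (mem_center_iff.mp (h (⟨huK, huL⟩ : (⟨u, huL⟩ : L) ∈ N)) ⟨y, hy⟩)
      exact mem_centralizer_singleton_iff.mp (hLc hy)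
    · exact (subgroupOf_eq_top.mp h).trans inf_le_left
  refine le_antisymm (sup_le hJM (zpowers_le.mpr hxM)) (sup_le hLK fun y hy => ?_)
  obtain ⟨z, hz, rfl⟩ := hy
  have h1 : z⁻¹ * (z * (a * z * a⁻¹)) ∈ K := K.mul_mem (K.inv_mem (hLK hz)) (hj z hz)
  rw [inv_mul_cancel_left] at h1
  exact h1

end Cfsg.Agent.S1921
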