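import Cfsg.Statements.S1922
import Mathlib
import Cfsg.Agent.Lib.Frobenius.OnePointInvolution

set_option autoImplicit false
open Cfsg
set_option linter.style.haveILetI false

namespace Cfsg.Agent.S1922

/-- Let z be an involution of a finite group G and H a proper subgroup such that z lies in gHg⁻¹ exactly when g ∈ H. Then the following are equivalent: (1) for every conjugate t ≠ z of z commuting with z, the product zt lies in gHg⁻¹ exactly when g ∈ H; (2) z lies in the centre of some Sylow 2-subgroup of G, and for every conjugate t ≠ z of z commuting with z, the centralizer of zt is contained in H. -/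
theorem result {G : Type*} [Group G] [Finite G] (z : G) (hz : orderOf z = 2) (H : Subgroup G) (hH : H ≠ ⊤)
    (h0 : ∀ g : G, z ∈ H.map (MulAut.conj g).toMonoidHom ↔ g ∈ H) :
    (∀ t : G, IsConj z t → t ≠ z → t * z = z * t → ∀ g : G, z * t ∈ H.map (MulAut.conj g).toMonoidHom ↔ g ∈ H) ↔
      ((∃ P : Sylow 2 G, z ∈ (Subgroup.center ↥(P : Subgroup G)).map (P : Subgroup G).subtype) ∧
        ∀ t : G, IsConj z t → t ≠ z → t * z = z * t → Subgroup.centralizer ({z * t} : Set G) ≤ H) := by
  classical
  haveI : Fact (Nat.Prime 2) := ⟨Nat.prime_two⟩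
  have hzz : z * z = 1 := by rw [← pow_two, ← hz, pow_orderOf_eq_one]
  have hz1 : z ≠ 1 := fun e => by rw [e, orderOf_one] at hz; omega
  have h0' : CfsgLib.Frobenius.OnePoint.One H z := fun g => by
    rw [← CfsgLib.Frobenius.OnePoint.mem_conj_iff]; exact h0 g
  have hcz : ∀ y, y * z = z * y → y ∈ H := fun y hy => (h0' y).mp (by
    rw [mul_assoc, ← hy, inv_mul_cancel_left]
    simpa using (h0' 1).mpr H.one_mem)
  constructor
  · intro h1
    have hone : ∀ t : G, IsConj z t → t ≠ z → t * z = z * t →
        CfsgLib.Frobenius.OnePoint.One H (z * t) := fun t ht htz hc g => by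
      rw [← CfsgLib.Frobenius.OnePoint.mem_conj_iff]; exact h1 t ht htz hc g
    refine ⟨?_, fun t ht htz hc y hy => ?_⟩
    · have hodd := CfsgLib.Frobenius.OnePoint.core _ G rfl z H hz1 hzz hH h0' hone
      rw [CfsgLib.Frobenius.OnePoint.card_class_eq_index, Nat.odd_iff] at hodd
      let S₀ : Sylow 2 (Subgroup.centralizer ({z} : Set G)) := default
      let P : Sylow 2 G := (S₀.isPGroup'.map (Subgroup.centralizer ({z} : Set G)).subtype).toSylow (by
        have hm : ((S₀ : Subgroup (Subgroup.centralizer ({z} : Set G))).map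
            (Subgroup.centralizer ({z} : Set G)).subtype).index =
            (S₀ : Subgroup (Subgroup.centralizer ({z} : Set G))).index *
              (Subgroup.centralizer ({z} : Set G)).index := Subgroup.index_map_subtype _
        rw [hm, Nat.prime_two.dvd_mul]
        rintro (h | h)
        · exact S₀.not_dvd_index h
        · omega)
      have hP : (P : Subgroup G) ≤ Subgroup.centralizer {z} := Subgroup.map_subtype_le _
      have hzP : z ∈ (P : Subgroup G) := by
        let C := Subgroup.centralizer ({z} : Set G)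
        let z' : C := ⟨z, Subgroup.mem_centralizer_singleton_iff.mpr rfl⟩
        have hN : (Subgroup.zpowers z').Normal := ⟨fun y hy c => by
          have hcy : c * y = y * c := by
            obtain ⟨i, rfl⟩ := Subgroup.mem_zpowers_iff.mp hy
            exact (Commute.zpow_right
              (Subtype.ext (Subgroup.mem_centralizer_singleton_iff.mp c.2) : Commute c z') i).eq
          rw [hcy, mul_inv_cancel_right]
          exact hy⟩
        have hp : IsPGroup 2 (Subgroup.zpowers z') :=
          IsPGroup.of_card (n := 1) (by rw [Nat.card_zpowers, ← Subgroup.orderOf_coe, pow_one]; exact hz)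
        exact ⟨z', (IsPGroup.le_sylow_of_normal hp S₀) (Subgroup.mem_zpowers z'), rfl⟩
      exact ⟨P, ⟨z, hzP⟩, Subgroup.mem_center_iff.mpr fun s => Subtype.ext
        (Subgroup.mem_centralizer_singleton_iff.mp (hP s.2)), rfl⟩
    · refine (hone t ht htz hc y).mp ?_
      rw [mul_assoc, ← Subgroup.mem_centralizer_singleton_iff.mp hy, inv_mul_cancel_left]
      simpa using (hone t ht htz hc 1).mpr H.one_mem
  · rintro ⟨⟨P, zP, hzc, hzP⟩, hcent⟩ t ht htz hc g
    have hzP' : ∀ s ∈ (P : Subgroup G), s * z = z * s := fun s hs => by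
      rw [← hzP]
      exact congrArg Subtype.val (Subgroup.mem_center_iff.mp hzc ⟨s, hs⟩)
    have hPH : (P : Subgroup G) ≤ H := fun s hs => hcz s (hzP' s hs)
    have htH : t ∈ H := hcz t hc
    have hwH : z * t ∈ H := H.mul_mem (hcz z rfl) htH
    rw [CfsgLib.Frobenius.OnePoint.mem_conj_iff]
    refine ⟨fun hg => ?_, fun hg => H.mul_mem (H.mul_mem (H.inv_mem hg) hwH) hg⟩
    set w' : H := ⟨g⁻¹ * (z * t) * g, hg⟩ with hw'
    have hwp : IsPGroup 2 (Subgroup.zpowers w') := by
      have hw2 : w' ^ 2 = 1 := by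
        refine Subtype.ext ?_
        show (g⁻¹ * (z * t) * g) ^ 2 = 1
        obtain ⟨x, hx⟩ := isConj_iff.mp ht
        have htt : t * t = 1 := by
          rw [← hx]
          calc x * z * x⁻¹ * (x * z * x⁻¹) = x * (z * z) * x⁻¹ := by group
            _ = 1 := by rw [hzz]; group
        rw [pow_two]
        calc g⁻¹ * (z * t) * g * (g⁻¹ * (z * t) * g) = g⁻¹ * (z * (t * z) * t) * g := by group
          _ = g⁻¹ * ((z * z) * (t * t)) * g := by rw [hc]; group
          _ = 1 := by rw [hzz, htt]; group
      rintro ⟨y, hy⟩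
      obtain ⟨i, rfl⟩ := Subgroup.mem_zpowers_iff.mp hy
      exact ⟨1, Subtype.ext (by
        show (w' ^ i) ^ (2 ^ 1) = 1
        rw [pow_one, ← zpow_natCast (w' ^ i), ← zpow_mul, mul_comm i, zpow_mul, zpow_natCast, hw2, one_zpow])⟩
    obtain ⟨Q, hQ⟩ := hwp.exists_le_sylow
    obtain ⟨h, hh⟩ := MulAction.exists_smul_eq H (P.subtype hPH) Q
    have hw : w' ∈ ((h • P.subtype hPH : Sylow 2 H) : Subgroup H) := hh ▸ hQ (Subgroup.mem_zpowers w')
    rw [Sylow.coe_subgroup_smul] at hw
    obtain ⟨s, hs, es⟩ := hw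
    have e : (h : G) * (s : G) * (h : G)⁻¹ = g⁻¹ * (z * t) * g := congrArg Subtype.val es
    have hsz := hzP' s hs
    have hgh : g * h * z * (g * h)⁻¹ ∈ H := by
      refine hcent t ht htz hc (Subgroup.mem_centralizer_singleton_iff.mpr ?_)
      have e' : z * t = g * h * s * (g * h)⁻¹ := by
        calc z * t = g * (g⁻¹ * (z * t) * g) * g⁻¹ := by group
          _ = _ := by rw [← e]; group
      rw [e']
      calc g * h * z * (g * h)⁻¹ * (g * h * s * (g * h)⁻¹) = g * h * (z * s) * (g * h)⁻¹ := by group
        _ = g * h * (s * z) * (g * h)⁻¹ := by rw [hsz]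
        _ = _ := by group
    have h3 : (g * h)⁻¹ ∈ H := (h0' _).mp (by rwa [inv_inv])
    exact (Subgroup.mul_mem_cancel_right H h.2).mp (inv_mem_iff.mp h3)

end Cfsg.Agent.S1922
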