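import Cfsg.Statements.S1924
import Mathlib
import Cfsg.Agent.Lib.Fusion.SemiregularTransfer
-- import your own Cfsg.Agent.* helpers here

set_option autoImplicit false
open Cfsg

namespace Cfsg.Agent.S1924

/-- A consequence of Thompson's transfer lemma. Let G be a finite group, L a subgroup with O²(L) = L, T a Sylow 2-subgroup of L and S a Sylow 2-subgroup of G containing T. Suppose D ≤ S is a dihedral subgroup of order at least 4 (the four-group counts) with D ∩ T = 1 and S = TD as a set of products (so |S| = |T|·|D|), and C ≤ D is cyclic of index 2 in D. If no involution of D outside C is G-conjugate to an involution of the subgroup generated by T and C, and the involution of C is not G-conjugate to any involution of T, then G has a normal subgroup K, containing every Sylow 2-subgroup of L as a Sylow 2-subgroup, with G = KD. -/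
theorem result {G : Type*} [Group G] [Finite G] (L T S D C : Subgroup G) (hL : Cfsg.pResidual 2 ↥L = ⊤)
    (hTL : T ≤ L) (hT2 : IsPGroup 2 T) (hTsyl : ¬ 2 ∣ T.relIndex L)
    (hS2 : IsPGroup 2 S) (hSsyl : ¬ 2 ∣ S.index) (hTS : T ≤ S)
    (hDS : D ≤ S) (hDih : ∃ n : ℕ, 2 ≤ n ∧ Nonempty (↥D ≃* DihedralGroup n)) (hDT : D ⊓ T = ⊥) (hTD : T ⊔ D = S) (hTDc : Nat.card T * Nat.card D = Nat.card S)
    (hCD : C ≤ D) (hC : IsCyclic ↥C) (hCi : C.relIndex D = 2)
    (h1 : ∀ x ∈ D, x ∉ C → orderOf x = 2 → ∀ g : G, g * x * g⁻¹ ∈ T ⊔ C → False)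
    (h2 : ∀ c ∈ C, orderOf c = 2 → ∀ g : G, g * c * g⁻¹ ∈ T → False) :
    ∃ K : Subgroup G, K.Normal ∧ K ⊔ D = ⊤ ∧
      ∀ T' : Subgroup G, T' ≤ L → IsPGroup 2 T' → ¬ 2 ∣ T'.relIndex L → T' ≤ K ∧ ¬ 2 ∣ T'.relIndex K := by
  have h2p : Fact (Nat.Prime 2) := ⟨Nat.prime_two⟩
  classical
  set K := Cfsg.pResidual 2 G with hKdef
  have hKn : K.Normal := inferInstance
  obtain ⟨k, hKidx⟩ := CfsgLib.Fusion.Basic.exists_index_pResidual (p := 2) (G := G)
  have hKS : K ⊔ S = ⊤ := CfsgLib.Fusion.Basic.sup_eq_top_of_index hKidx hSsyl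
  have hLK : L ≤ K := by
    have := CfsgLib.Fusion.Basic.pResidual_map_subtype_le (p := 2) L
    rwa [hL, ← MonoidHom.range_eq_map, Subgroup.range_subtype] at this
  have hTK : T ≤ K := hTL.trans hLK
  have hSset : ∀ s ∈ S, ∃ t ∈ T, ∃ d ∈ D, t * d = s := by
    let f : ↥T × ↥D → ↥S := fun p => ⟨p.1 * p.2, S.mul_mem (hTS p.1.2) (hDS p.2.2)⟩
    have hinj : Function.Injective f := by
      intro p q hpq
      exact (Subgroup.mul_injective_of_disjoint (disjoint_iff.mpr (inf_comm D T ▸ hDT)))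
        (congrArg Subtype.val hpq)
    have hbij := hinj.bijective_of_nat_card_le (by rw [Nat.card_prod, hTDc])
    intro s hs
    obtain ⟨⟨t, d⟩, hpq⟩ := hbij.2 ⟨s, hs⟩
    exact ⟨t, t.2, d, d.2, congrArg Subtype.val hpq⟩
  set A := K ⊓ D with hAdef
  set N := K ⊓ S with hNdef
  have hNset : ∀ s ∈ N, ∃ t ∈ T, ∃ d ∈ A, t * d = s := by
    intro s hs
    obtain ⟨t, ht, d, hd, rfl⟩ := hSset s hs.2
    exact ⟨t, ht, d, ⟨(Subgroup.mul_mem_cancel_left K (hTK ht)).mp hs.1, hd⟩, rfl⟩
  have hNK : N ≤ K := inf_le_left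
  have hN : Odd (N.subgroupOf K).index := by
    have : (N.subgroupOf K).index = S.index := by
      show N.relIndex K = S.index
      rw [hNdef, Subgroup.inf_relIndex_left]
      have e1 := Subgroup.relIndex_inf_mul_relIndex K S ⊤
      rw [inf_top_eq, Subgroup.relIndex_top_right, Subgroup.relIndex_top_right] at e1
      have e2 : K.relIndex S = K.index := by
        rw [← Subgroup.relIndex_sup_left (H := S), hKS, Subgroup.relIndex_top_right]
      have e3 := Subgroup.relIndex_mul_index (inf_le_left : K ⊓ S ≤ K)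
      rw [Subgroup.inf_relIndex_left] at e3
      rw [e2] at e1
      have hK0 : K.index ≠ 0 := Subgroup.index_ne_zero_of_finite
      apply Nat.eq_of_mul_eq_mul_right (Nat.pos_of_ne_zero hK0)
      rw [e3, ← e1, mul_comm]
    rw [this]
    exact Nat.odd_iff.mpr (by omega)
  have hKK : Cfsg.pResidual 2 ↥K = ⊤ := CfsgLib.Fusion.Basic.pResidual_pResidual
  have hA : A = ⊥ := by
    by_contra hA
    by_cases hinv : ∃ x ∈ A, x ∉ C
    · obtain ⟨x, hxA, hxC⟩ := hinv
      obtain ⟨n, hn, ⟨e⟩⟩ := hDih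
      have hox : orderOf x = 2 := by
        have hCc : IsCyclic ↥(C.subgroupOf D) := (Subgroup.subgroupOfEquivOfLe hCD).isCyclic.mpr hC
        have := CfsgLib.Fusion.SemiregularTransfer.dihedral_orderOf_eq_two hn e (C.subgroupOf D)
          hCc hCi (a := ⟨x, hxA.2⟩) (by simpa [Subgroup.mem_subgroupOf] using hxC)
        rwa [Subgroup.orderOf_mk] at this
      have hTC : (T ⊔ C).relIndex S = 2 := by
        have hlt : T ⊔ C ≤ S := sup_le hTS (hCD.trans hDS)
        have hne : (T ⊔ C).relIndex S ≠ 1 := by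
          rw [Ne, Subgroup.relIndex_eq_one]
          intro hle
          exact h1 x hxA.2 hxC hox 1 (by simpa using hle (hDS hxA.2))
        have hcard : Nat.card ↥T * Nat.card ↥C ≤ Nat.card ↥(T ⊔ C) := by
          rw [← Nat.card_prod]
          refine Nat.card_le_card_of_injective (fun p : ↥T × ↥C => (⟨p.1 * p.2,
            mul_mem (Subgroup.mem_sup_left p.1.2) (Subgroup.mem_sup_right p.2.2)⟩ : ↥(T ⊔ C))) ?_
          intro p q hpq
          exact (Subgroup.mul_injective_of_disjoint (disjoint_iff.mpr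
            (le_bot_iff.mp ((inf_le_inf_left T hCD).trans (le_of_eq (inf_comm D T ▸ hDT))))))
            (congrArg Subtype.val hpq)
        have hD : Nat.card ↥D = Nat.card ↥C * 2 := by
          rw [← hCi, ← Subgroup.relIndex_bot_left, ← Subgroup.relIndex_bot_left,
            Subgroup.relIndex_mul_relIndex _ _ _ bot_le hCD]
        have hS : Nat.card ↥S = Nat.card ↥(T ⊔ C) * (T ⊔ C).relIndex S := by
          rw [← Subgroup.relIndex_bot_left, ← Subgroup.relIndex_bot_left,
            Subgroup.relIndex_mul_relIndex _ _ _ bot_le hlt]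
        have h0 : (T ⊔ C).relIndex S ≠ 0 := Subgroup.index_ne_zero_of_finite
        by_contra h
        have h3 : 3 ≤ (T ⊔ C).relIndex S := by omega
        have hpos : 0 < Nat.card ↥(T ⊔ C) := Nat.card_pos
        have := Nat.mul_le_mul_left (Nat.card ↥(T ⊔ C)) h3
        rw [← hS, ← hTDc, hD] at this
        nlinarith
      have hM : ((T ⊔ C).subgroupOf K).relIndex (N.subgroupOf K) = 2 := by
        rw [Subgroup.relIndex_subgroupOf hNK]
        have hle : (T ⊔ C).relIndex N ≤ (T ⊔ C).relIndex S :=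
          Subgroup.relIndex_le_of_le_right inf_le_right (by omega)
        have h0 : (T ⊔ C).relIndex N ≠ 0 := Subgroup.index_ne_zero_of_finite
        have hne : (T ⊔ C).relIndex N ≠ 1 := by
          rw [Ne, Subgroup.relIndex_eq_one]
          intro h
          exact h1 x hxA.2 hxC hox 1 (by simpa using h ⟨hxA.1, hDS hxA.2⟩)
        omega
      refine CfsgLib.Fusion.SemiregularTransfer.pResidual_ne_top (N.subgroupOf K) hN
        ((T ⊔ C).subgroupOf K) le_rfl (by rw [hM, pow_one]) (x := ⟨x, hxA.1⟩)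
        (by rw [Subgroup.orderOf_mk, hox, pow_one]) (fun g hg => ?_) hKK
      refine h1 x hxA.2 hxC hox (g : G)⁻¹ ?_
      simpa [Subgroup.mem_subgroupOf] using hg
    · simp only [not_exists, not_and, not_not] at hinv
      have hAC : A ≤ C := hinv
      have hAc : IsCyclic ↥A :=
        isCyclic_of_injective (Subgroup.inclusion hAC) (Subgroup.inclusion_injective hAC)
      obtain ⟨c, hc⟩ := hAc.exists_generator
      obtain ⟨j, hj⟩ := (hS2.to_le ((inf_le_right : A ≤ D).trans hDS)).exists_card_eq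
      have hoc : orderOf (c : G) = 2 ^ j := by
        rw [Subgroup.orderOf_coe, orderOf_eq_card_of_forall_mem_zpowers hc, hj]
      have hj1 : 1 ≤ j := by
        by_contra h
        apply hA
        rw [← Subgroup.card_eq_one, hj, show j = 0 by omega, pow_zero]
      have hidx : (T.subgroupOf K).relIndex (N.subgroupOf K) = 2 ^ j := by
        rw [Subgroup.relIndex_subgroupOf hNK]
        have hTN : T ≤ N := le_inf hTK hTS
        have hN2 : Nat.card ↥T * Nat.card ↥A = Nat.card ↥N := by
          let f : ↥T × ↥A → ↥N := fun p => ⟨p.1 * p.2, N.mul_mem (hTN p.1.2) ⟨p.2.2.1, hDS p.2.2.2⟩⟩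
          rw [← Nat.card_prod]
          refine Nat.card_eq_of_bijective f ⟨fun p q hpq => ?_, fun s => ?_⟩
          · exact (Subgroup.mul_injective_of_disjoint (disjoint_iff.mpr
              (le_bot_iff.mp ((inf_le_inf_left T (inf_le_right : A ≤ D)).trans (le_of_eq (inf_comm D T ▸ hDT))))))
              (congrArg Subtype.val hpq)
          · obtain ⟨t, ht, d, hd, h⟩ := hNset s s.2
            exact ⟨(⟨t, ht⟩, ⟨d, hd⟩), Subtype.ext h⟩
        have := Subgroup.relIndex_mul_relIndex _ _ _ (bot_le : (⊥ : Subgroup G) ≤ T) hTN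
        rw [Subgroup.relIndex_bot_left, Subgroup.relIndex_bot_left, ← hN2, hj] at this
        exact Nat.eq_of_mul_eq_mul_left Nat.card_pos this
      refine CfsgLib.Fusion.SemiregularTransfer.pResidual_ne_top (N.subgroupOf K) hN
        (T.subgroupOf K) hj1 hidx (x := ⟨c, c.2.1⟩)
        (by rw [Subgroup.orderOf_mk, hoc]) (fun g hg => ?_) hKK
      refine h2 ((c : G) ^ 2 ^ (j - 1)) (C.pow_mem (hAC c.2) _) ?_ (g : G)⁻¹ ?_
      · rw [orderOf_pow' _ (by positivity), hoc,
          Nat.gcd_eq_right (Nat.pow_dvd_pow 2 (Nat.sub_le j 1)),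
          Nat.pow_div (Nat.sub_le j 1) two_pos, show j - (j - 1) = 1 by omega, pow_one]
      · simpa [Subgroup.mem_subgroupOf] using hg
  have hNT : N = T := by
    refine le_antisymm (fun s hs => ?_) (le_inf hTK hTS)
    obtain ⟨t, ht, d, hd, rfl⟩ := hNset s hs
    rw [hA, Subgroup.mem_bot] at hd
    subst hd
    simpa using ht
  refine ⟨K, hKn, ?_, fun T' hT'L hT'2 hT'syl => ⟨hT'L.trans hLK, ?_⟩⟩
  · rw [eq_top_iff, ← hKS, ← hTD]
    exact sup_le le_sup_left (sup_le (hTK.trans le_sup_left) le_sup_right)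
  · have hTcard : Nat.card ↥T' = Nat.card ↥T := by
      obtain ⟨a, ha⟩ := hT'2.exists_card_eq
      obtain ⟨b, hb⟩ := hT2.exists_card_eq
      have e1 := Subgroup.relIndex_mul_relIndex _ _ _ (bot_le : (⊥ : Subgroup G) ≤ T') hT'L
      have e2 := Subgroup.relIndex_mul_relIndex _ _ _ (bot_le : (⊥ : Subgroup G) ≤ T) hTL
      rw [Subgroup.relIndex_bot_left, Subgroup.relIndex_bot_left] at e1 e2
      rw [ha, hb]
      have c1 : Nat.Coprime (2 ^ a) (T.relIndex L) :=
        Nat.Coprime.pow_left a (Nat.prime_two.coprime_iff_not_dvd.mpr hTsyl)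
      have c2 : Nat.Coprime (2 ^ b) (T'.relIndex L) :=
        Nat.Coprime.pow_left b (Nat.prime_two.coprime_iff_not_dvd.mpr hT'syl)
      rw [ha] at e1
      rw [hb] at e2
      exact Nat.dvd_antisymm (c1.dvd_of_dvd_mul_right (e2 ▸ Dvd.intro _ e1))
        (c2.dvd_of_dvd_mul_right (e1 ▸ Dvd.intro _ e2))
    have e1 := Subgroup.relIndex_mul_relIndex _ _ _ (bot_le : (⊥ : Subgroup G) ≤ T') (hT'L.trans hLK)
    have e2 := Subgroup.relIndex_mul_relIndex _ _ _ (bot_le : (⊥ : Subgroup G) ≤ T) hTK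
    rw [Subgroup.relIndex_bot_left, Subgroup.relIndex_bot_left] at e1 e2
    rw [hTcard, ← e2] at e1
    have hNi : T.relIndex K = (N.subgroupOf K).index := by rw [hNT]; rfl
    rw [Nat.eq_of_mul_eq_mul_left Nat.card_pos e1, hNi]
    exact fun h => (Nat.not_even_iff_odd.mpr hN) (even_iff_two_dvd.mpr h)

end Cfsg.Agent.S1924
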