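import Cfsg.Statements.S1929
import Cfsg.Agent.Lib.Coprime.FixedFree.Centralised.QuasiGroup

set_option autoImplicit false
open Cfsg

namespace Cfsg.Agent.S1929

/-- Inside a finite group let G be a subgroup and R a subgroup of prime order r normalizing G, with the order of G prime to r. Let K be a quasisimple subgroup of G that commutes elementwise with every conjugate of K, other than K itself, under the subgroup generated by R and C_G(R). Then K is a component of C_G(R), or K is a component of G, or K is contained in a component of G that is normalized by R. -/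
theorem result {X : Type*} [Group X] [Finite X] (G R : Subgroup X) (r : ℕ) [Fact r.Prime] (hR : Nat.card ↥R = r) (hcop : (Nat.card ↥G).Coprime r) (hnorm : R ≤ Subgroup.normalizer (G : Set X)) (K : Subgroup X) (hKG : K ≤ G) (hKq : Cfsg.IsQuasisimple ↥K) (hcomm : ∀ g ∈ R ⊔ (G ⊓ Subgroup.centralizer (R : Set X)), K.map (MulAut.conj g).toMonoidHom ≠ K → ⁅K, K.map (MulAut.conj g).toMonoidHom⁆ = ⊥) : (K ≤ G ⊓ Subgroup.centralizer (R : Set X) ∧ Cfsg.IsComponent (K.subgroupOf (G ⊓ Subgroup.centralizer (R : Set X)))) ∨ Cfsg.IsComponent (K.subgroupOf G) ∨ ∃ L : Subgroup X, L ≤ G ∧ Cfsg.IsComponent (L.subgroupOf G) ∧ (∀ a ∈ R, L.map (MulAut.conj a).toMonoidHom = L) ∧ K ≤ L := by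
  obtain ⟨c, hcR, hc⟩ : ∃ c ∈ R, R = Subgroup.zpowers c := by
    haveI : IsCyclic R := isCyclic_of_prime_card hR
    obtain ⟨⟨c, hcR⟩, hgen⟩ := IsCyclic.exists_generator (α := R)
    refine ⟨c, hcR, le_antisymm (fun y hy => ?_) (Subgroup.zpowers_le.mpr hcR)⟩
    obtain ⟨i, hi⟩ := Subgroup.mem_zpowers_iff.mp (hgen ⟨y, hy⟩)
    exact Subgroup.mem_zpowers_iff.mpr ⟨i, congrArg Subtype.val hi⟩
  have hcr : c ^ r = 1 := by
    have := congrArg Subtype.val (pow_card_eq_one' (x := (⟨c, hcR⟩ : R)))
    rwa [hR] at this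
  have hGs : FixedFree.Stable (MulAut.conj c) G := fun g hg =>
    (Subgroup.mem_normalizer_iff.mp (hnorm hcR) g).mp hg
  set β := FixedFree.resAut (MulAut.conj c) G hGs with hβdef
  have hβ : β ^ r = 1 := FixedFree.resAut_pow_eq_one hGs (by rw [← map_pow, hcr, map_one])
  set C := G ⊓ Subgroup.centralizer (R : Set X) with hC
  have hfixC : ∀ g : G, β g = g → (g : X) ∈ Subgroup.centralizer (R : Set X) := by
    intro g hg
    rw [hc, Subgroup.zpowers_eq_closure, Subgroup.centralizer_closure,
      Subgroup.mem_centralizer_singleton_iff]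
    have h1 : c * g * c⁻¹ = g := congrArg Subtype.val hg
    calc (g : X) * c = c * g * c⁻¹ * c := by rw [h1]
      _ = c * g := by group
  by_cases hfix : K ≤ Subgroup.centralizer (R : Set X)
  · refine Or.inl ⟨le_inf hKG hfix, ?_⟩
    refine FixedFree.Centralised.isComponent_of_commuting
      (CfsgLib.Components.IsQuasisimple.of_mulEquiv hKq
        (Subgroup.subgroupOfEquivOfLe (le_inf hKG hfix)).symm) fun g hne => ?_
    have hmap : ((K.subgroupOf C).map (MulAut.conj g).toMonoidHom).map C.subtype =
        K.map (MulAut.conj (g : X)).toMonoidHom := by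
      conv_rhs => rw [← Subgroup.map_subgroupOf_eq_of_le (le_inf hKG hfix : K ≤ C)]
      rw [Subgroup.map_map, Subgroup.map_map]
      exact congrArg (fun f => Subgroup.map f (K.subgroupOf C)) (MonoidHom.ext fun x => rfl)
    apply Subgroup.map_injective C.subtype_injective
    rw [Subgroup.map_commutator, hmap, Subgroup.map_subgroupOf_eq_of_le (le_inf hKG hfix : K ≤ C),
      Subgroup.map_bot]
    refine hcomm g (Subgroup.mem_sup_right g.2) fun e => hne ?_
    apply Subgroup.map_injective C.subtype_injective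
    rw [hmap, Subgroup.map_subgroupOf_eq_of_le (le_inf hKG hfix : K ≤ C), e]
  have hK : ¬ K.subgroupOf G ≤ FixedFree.fixedSub β := fun h => hfix fun k hk =>
    hfixC ⟨k, hKG hk⟩ (FixedFree.mem_fixedSub.mp (h (show (⟨k, hKG hk⟩ : G) ∈ K.subgroupOf G from hk)))
  have horb : FixedFree.Centralised.CommutingOrbit β (K.subgroupOf G) := by
    intro p hne
    have hmap : (FixedFree.Centralised.member β (K.subgroupOf G) p).map G.subtype =
        K.map (MulAut.conj ((p.1 : G) * c ^ p.2 : X)).toMonoidHom := by
      conv_rhs => rw [← Subgroup.map_subgroupOf_eq_of_le hKG]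
      rw [FixedFree.Centralised.member, Subgroup.map_map, Subgroup.map_map]
      refine congrArg (fun f => Subgroup.map f (K.subgroupOf G)) (MonoidHom.ext fun x => ?_)
      simp only [MonoidHom.comp_apply, Subgroup.coe_subtype, MulEquiv.coe_toMonoidHom,
        MulAut.mul_apply, MulAut.conj_apply, Subgroup.coe_mul, Subgroup.coe_inv, hβdef,
        FixedFree.resAut_pow, ← map_pow, mul_inv_rev]
      group
    apply Subgroup.map_injective G.subtype_injective
    rw [Subgroup.map_commutator, hmap, Subgroup.map_subgroupOf_eq_of_le hKG, Subgroup.map_bot]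
    refine hcomm _ (mul_mem (Subgroup.mem_sup_right ⟨(p.1 : G).2,
      hfixC _ (FixedFree.mem_fixedSub.mp p.1.2)⟩)
      (Subgroup.mem_sup_left (pow_mem hcR _))) fun e => hne ?_
    apply Subgroup.map_injective G.subtype_injective
    rw [hmap, Subgroup.map_subgroupOf_eq_of_le hKG, e]
  refine Or.inr ?_
  rcases FixedFree.Centralised.component_or_le_stable (Fact.out : r.Prime) hβ
      (((Fact.out : r.Prime).coprime_iff_not_dvd).mp hcop.symm)
      (CfsgLib.Components.IsQuasisimple.of_mulEquiv hKq (Subgroup.subgroupOfEquivOfLe hKG).symm)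
      horb hK with h | ⟨L, hL, hLβ, hKL⟩
  · exact Or.inl h
  · refine Or.inr ⟨L.map G.subtype, Subgroup.map_subtype_le L, ?_, fun a ha => ?_, ?_⟩
    · rwa [CfsgLib.Components.subgroupOf_map_subtype_eq]
    · have h1 : (L.map G.subtype).map (MulAut.conj c).toMonoidHom = L.map G.subtype := by
        conv_rhs => rw [← hLβ, Subgroup.map_map]
        rw [Subgroup.map_map]
        rfl
      have h2 : a ∈ Subgroup.normalizer ((L.map G.subtype : Subgroup X) : Set X) :=
        (Subgroup.zpowers_le.mpr (CfsgLib.Components.mem_normalizer_iff_map_conj_eq.mpr h1))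
          (hc ▸ ha)
      exact CfsgLib.Components.mem_normalizer_iff_map_conj_eq.mp h2
    · rw [← Subgroup.map_subgroupOf_eq_of_le hKG]
      exact Subgroup.map_mono hKL

end Cfsg.Agent.S1929
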