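import Cfsg.Statements.S1932
import Cfsg.Agent.Lib.Fusion.CentralOffender
import Cfsg.Agent.Lib.Fusion.OmegaCenter
import Cfsg.Agent.Lib.Fusion.FailureFactor
import Cfsg.Agent.Lib.Components.Constrained
import Cfsg.Agent.Lib.Fusion.Basic
import Cfsg.Agent.S0606
import Cfsg.Agent.S0608
import Cfsg.Agent.S2759

set_option autoImplicit false
open Cfsg

namespace Cfsg.Agent.S1932

open CfsgLib.Solvable
open scoped commutatorElement

section

variable {X : Type*} [Group X] [Finite X]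

theorem mem_centralizer_pCore {S : Sylow 2 X} {x : X}
    (hx : x ∈ Cfsg.omegaOne 2 ((S : Subgroup X) ⊓ Subgroup.centralizer ((S : Subgroup X) : Set X))) :
    x ∈ (S : Subgroup X) ∧ x ^ 2 = 1 ∧ ∀ y ∈ (S : Subgroup X), y * x = x * y := by
  have hc : ∀ y ∈ (S : Subgroup X) ⊓ Subgroup.centralizer ((S : Subgroup X) : Set X),
      ∀ z ∈ (S : Subgroup X) ⊓ Subgroup.centralizer ((S : Subgroup X) : Set X), Commute y z :=
    fun y hy z hz => Subgroup.mem_centralizer_iff.1 hz.2 y hy.1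
  have key : x ∈ (S : Subgroup X) ⊓ Subgroup.centralizer ((S : Subgroup X) : Set X) ∧ x ^ 2 = 1 := by
    induction hx using Subgroup.closure_induction with
    | mem y hy => exact hy
    | one => exact ⟨one_mem _, one_pow _⟩
    | mul a b _ _ iha ihb =>
      exact ⟨mul_mem iha.1 ihb.1, by rw [(hc a iha.1 b ihb.1).mul_pow, iha.2, ihb.2, one_mul]⟩
    | inv a _ iha => exact ⟨inv_mem iha.1, by rw [inv_pow, iha.2, inv_one]⟩
  exact ⟨key.1.1, key.2, fun y hy => Subgroup.mem_centralizer_iff.1 key.1.2 y hy⟩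

/-- In a Sylow subgroup of class at most two, commutators with involutions are central involutions. -/
theorem comm_mem_omega {S : Sylow 2 X}
    (hcl : ∀ a ∈ (S : Subgroup X), ∀ b ∈ (S : Subgroup X), ∀ c ∈ (S : Subgroup X), ⁅a, b⁆ * c = c * ⁅a, b⁆)
    {a s : X} (ha : a ∈ (S : Subgroup X)) (hs : s ∈ (S : Subgroup X)) (ha2 : a * a = 1) :
    ⁅a, s⁆ ∈ Cfsg.omegaOne 2 ((S : Subgroup X) ⊓ Subgroup.centralizer ((S : Subgroup X) : Set X)) := by
  refine Subgroup.subset_closure ⟨⟨?_, Subgroup.mem_centralizer_iff.2 fun c hc => (hcl a ha s hs c hc).symm⟩, ?_⟩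
  · exact Subgroup.commutator_le_self _ (Subgroup.commutator_mem_commutator ha hs)
  · have h : ⁅a, s⁆ * a = a * ⁅a, s⁆ := hcl a ha s hs a ha
    have hinv : a⁻¹ = a := inv_eq_of_mul_eq_one_right ha2
    set b := s * a * s⁻¹ with hb
    have hb2 : b * b = 1 := by
      rw [hb, show s * a * s⁻¹ * (s * a * s⁻¹) = s * (a * a) * s⁻¹ by group, ha2, mul_one, mul_inv_cancel]
    have e : ⁅a, s⁆ = a * b := by
      rw [commutatorElement_def, hinv, hb]; group
    rw [e, mul_assoc] at h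
    rw [e, pow_two, mul_assoc, ← mul_assoc b a b, mul_left_cancel h, mul_assoc a b b, hb2, mul_one, ha2]

/-- The core argument. -/
theorem core {X : Type*} [Group X] [Finite X]
    (hC : Subgroup.centralizer (Cfsg.pCore 2 X : Set X) ≤ Cfsg.pCore 2 X)
    (hO : Cfsg.pPrimeCore 2 X = ⊥) (hS4 : ¬ Cfsg.Involves (Equiv.Perm (Fin 4)) X)
    (hcl : ∀ S : Sylow 2 X, ∀ a ∈ (S : Subgroup X), ∀ b ∈ (S : Subgroup X), ∀ c ∈ (S : Subgroup X),
      ⁅a, b⁆ * c = c * ⁅a, b⁆)
    (S : Sylow 2 X) :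
    Subgroup.normalizer ((Cfsg.thompsonSubgroupOf 2 (S : Subgroup X)) : Set X) = ⊤ := by
  classical
  haveI : Fact (Nat.Prime 2) := ⟨Nat.prime_two⟩
  set V := CfsgLib.Fusion.OmegaCenter.closureOmega 2 X with hVdef
  haveI hVn : V.Normal := CfsgLib.Fusion.OmegaCenter.normal
  haveI hQn : (Cfsg.pCore 2 X).Normal := Cores.pCore_normal 2
  have hVQ : ∀ v ∈ V, v ∈ Cfsg.pCore 2 X ∧ v ∈ Subgroup.centralizer (Cfsg.pCore 2 X : Set X) := by
    intro v hv
    have hle : V ≤ Cfsg.pCore 2 X ⊓ Subgroup.centralizer (Cfsg.pCore 2 X : Set X) := iSup_le fun T x hx => by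
      have h := mem_centralizer_pCore hx
      have hxc : x ∈ Subgroup.centralizer (Cfsg.pCore 2 X : Set X) :=
        Subgroup.mem_centralizer_iff.2 fun y hy => h.2.2 y (Cores.pCore_le_sylow T hy)
      exact ⟨hC hxc, hxc⟩
    exact hle hv
  have hVc : ∀ u ∈ V, ∀ v ∈ V, u * v = v * u := fun u hu v hv =>
    Subgroup.mem_centralizer_iff.1 (hVQ v hv).2 u (hVQ u hu).1
  have hV2 : ∀ v ∈ V, v ^ 2 = 1 := by
    intro v hv
    induction hv using Subgroup.iSup_induction' with
    | hp T x hx => exact (mem_centralizer_pCore hx).2.1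
    | h1 => exact one_pow _
    | hmul a b ha hb iha ihb => rw [Commute.mul_pow (hVc a ha b hb), iha, ihb, one_mul]
  have hVea : Cfsg.IsElementaryAbelian 2 V :=
    ⟨CfsgLib.Solvable.Basic.isMulCommutative_subgroup_iff.2 hVc, hV2⟩
  have hZV : ∀ T : Sylow 2 X,
      Cfsg.omegaOne 2 ((T : Subgroup X) ⊓ Subgroup.centralizer ((T : Subgroup X) : Set X)) ≤ V :=
    fun T => le_iSup (fun T : Sylow 2 X => Cfsg.omegaOne 2 ((T : Subgroup X) ⊓
      Subgroup.centralizer ((T : Subgroup X) : Set X))) T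
  -- every maximal elementary abelian subgroup centralises `V`
  have hJ : Cfsg.thompsonSubgroup 2 X ≤ Subgroup.centralizer (V : Set X) := by
    refine sSup_le fun A hA => ?_
    letI : CommGroup V := { (inferInstance : Group V) with mul_comm := fun u v => Subtype.ext (hVc u u.2 v v.2) }
    set C := Subgroup.centralizer (V : Set X) with hCdef
    let q := QuotientGroup.mk' C
    let φ : X ⧸ C →* MulAut V := CfsgLib.Fusion.FailureFactor.act V
    have hφ : ∀ (x : X) (v : V), (φ (q x) v : X) = x * v * x⁻¹ := fun x v => rfl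
    have hinj : Function.Injective φ := by
      rw [injective_iff_map_eq_one]
      intro z hz
      obtain ⟨x, rfl⟩ := QuotientGroup.mk'_surjective C z
      refine (QuotientGroup.eq_one_iff x).2 (Subgroup.mem_centralizer_iff.2 fun v hv => ?_)
      have h := (hφ x ⟨v, hv⟩).symm.trans (congrArg Subtype.val (DFunLike.congr_fun hz (⟨v, hv⟩ : V)))
      exact (mul_inv_eq_iff_eq_mul.1 h).symm
    have hS3 : CfsgLib.Fusion.CentralOffender.NoS3 (X ⧸ C) := by
      intro hI
      refine hS4 ((Cfsg.Agent.S2759.result (G := X)).2 ⟨V, fun v => ⟨1, Subtype.ext (by simpa using hV2 v v.2)⟩, ?_⟩)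
      obtain ⟨K, f, hf⟩ := CfsgLib.LocalEven.InvolvesDihedral.exists_surjective hI
      let g := QuotientGroup.map ((Subgroup.centralizer (V : Set X)).subgroupOf (Subgroup.normalizer (V : Set X))) C
        (Subgroup.normalizer (V : Set X)).subtype (fun x hx => hx)
      refine CfsgLib.LocalEven.InvolvesDihedral.of_surjective (K := K.comap g) (f.comp (g.subgroupComap K))
        (hf.comp ?_)
      rintro ⟨z, hz⟩
      obtain ⟨x, rfl⟩ := QuotientGroup.mk'_surjective C z
      exact ⟨⟨QuotientGroup.mk' _ ⟨x, by rw [Subgroup.normalizer_eq_top]; trivial⟩, hz⟩, rfl⟩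
    have hAsq : ∀ a ∈ A, a * a = 1 := fun a ha => by rw [← pow_two]; exact hA.1.2 a ha
    have hquad : CfsgLib.Fusion.CentralOffender.Quad φ (A.map q) := by
      rintro _ ⟨e, he, rfl⟩ _ ⟨f, hf, rfl⟩ v
      obtain ⟨T, hT⟩ := (CfsgLib.Fusion.Thompson.isPGroup_isEA hA.1).exists_le_sylow
      have hvT : (v : X) ∈ (T : Subgroup X) := Cores.pCore_le_sylow T (hVQ v v.2).1
      have h := mem_centralizer_pCore (comm_mem_omega (hcl T) (hT hf) hvT (hAsq f hf))
      refine Subtype.ext ?_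
      rw [hφ, Subgroup.coe_mul, Subgroup.coe_inv, hφ, ← commutatorElement_def,
        h.2.2 e (hT he), mul_inv_cancel_right]
    have hcen : CfsgLib.Fusion.CentralOffender.Central (A.map q) := by
      rintro _ ⟨a, ha, rfl⟩ P hP haP z hz
      set H0 := P.comap q
      obtain ⟨U, hU⟩ := (CfsgLib.Fusion.CentralOffender.isPGroup_zpowers_of_sq
        (e := (⟨a, haP⟩ : H0)) (Subtype.ext (hAsq a ha))).exists_le_sylow
      have hsurj : Function.Surjective (q.subgroupComap P) := by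
        rintro ⟨w, hw⟩
        obtain ⟨x, rfl⟩ := QuotientGroup.mk'_surjective C w
        exact ⟨⟨x, hw⟩, rfl⟩
      have hmap : (U : Subgroup H0).map (q.subgroupComap P) = ⊤ := by
        rw [← Sylow.coe_mapSurjective hsurj U]
        exact ((U.mapSurjective hsurj).3 (hP.to_subgroup ⊤) le_top).symm
      obtain ⟨u, hu, huz⟩ := (hmap.symm ▸ Subgroup.mem_top (⟨z, hz⟩ : P) :
        (⟨z, hz⟩ : P) ∈ (U : Subgroup H0).map (q.subgroupComap P))
      have huz' : q (u : X) = z := congrArg Subtype.val huz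
      obtain ⟨T, hT⟩ := (U.2.map H0.subtype).exists_le_sylow
      have hcm := hZV T (comm_mem_omega (hcl T) (hT ⟨_, hU (Subgroup.mem_zpowers _), rfl⟩) (hT ⟨u, hu, rfl⟩) (hAsq a ha))
      rw [← huz', ← commutatorElement_eq_one_iff_mul_comm, ← map_commutatorElement]
      exact (QuotientGroup.eq_one_iff _).2 (Subgroup.mem_centralizer_iff.2 fun v hv => hVc v hv _ hcm)
    have hfix : ∀ B : Subgroup X, CfsgLib.Fusion.CentralOffender.fix φ (B.map q) =
        (V ⊓ Subgroup.centralizer (B : Set X)).subgroupOf V := by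
      intro B
      ext v
      constructor
      · intro h
        refine Subgroup.mem_subgroupOf.2 ⟨v.2, Subgroup.mem_centralizer_iff.2 fun b hb => ?_⟩
        exact mul_inv_eq_iff_eq_mul.1 ((hφ b v).symm.trans (congrArg Subtype.val (h _ ⟨b, hb, rfl⟩)))
      · rintro h _ ⟨b, hb, rfl⟩
        refine Subtype.ext ?_
        rw [hφ, Subgroup.mem_centralizer_iff.1 (Subgroup.mem_subgroupOf.1 h).2 b hb, mul_inv_cancel_right]
    have hwt : ∀ B : Subgroup X, CfsgLib.Fusion.CentralOffender.wt φ (B.map q) * Nat.card ↥(B ⊓ C) =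
        Nat.card B * Nat.card ↥(V ⊓ Subgroup.centralizer (B : Set X)) := by
      intro B
      have h := Subgroup.index_mul_card (q.comp B.subtype).ker
      rw [Subgroup.index_ker, MonoidHom.range_comp, Subgroup.range_subtype, ← MonoidHom.comap_ker,
        QuotientGroup.ker_mk'] at h
      rw [CfsgLib.Fusion.CentralOffender.wt, hfix,
        Nat.card_congr (Subgroup.subgroupOfEquivOfLe inf_le_left).toEquiv, mul_right_comm, ← h]
      congr 2
      rw [← Nat.card_congr (Subgroup.subgroupOfEquivOfLe (inf_le_left : B ⊓ C ≤ B)).toEquiv,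
        Subgroup.inf_subgroupOf_left]
      rfl
    have hbest : CfsgLib.Fusion.CentralOffender.Best φ (A.map q) := by
      intro B hB
      set B₀ := A ⊓ B.comap q
      have hBeq : B₀.map q = B := by
        refine le_antisymm (by rintro _ ⟨x, hx, rfl⟩; exact hx.2) fun y hy => ?_
        obtain ⟨x, hx, rfl⟩ := hB hy
        exact ⟨x, ⟨hx, hy⟩, rfl⟩
      have hker : B₀ ⊓ C = A ⊓ C := le_antisymm (inf_le_inf_right _ inf_le_left) fun x hx =>
        ⟨⟨hx.1, show q x ∈ B by rw [show q x = 1 from (QuotientGroup.eq_one_iff x).2 hx.2]; exact one_mem B⟩, hx.2⟩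
      have h : Nat.card B₀ * Nat.card ↥(V ⊓ Subgroup.centralizer (B₀ : Set X)) ≤
          Nat.card A * Nat.card ↥(V ⊓ Subgroup.centralizer (A : Set X)) :=
        (Cfsg.Agent.S0606.result V hVea A hA).1 B₀ inf_le_left
      rw [← hwt B₀, ← hwt A, hker, hBeq] at h
      exact Nat.le_of_mul_le_mul_right h Nat.card_pos
    have h := CfsgLib.Fusion.CentralOffender.le_pCore φ hinj
      (fun v => Subtype.ext (by rw [← pow_two]; exact hV2 v v.2)) hS3 _ hquad hbest hcen
    rw [CfsgLib.Fusion.OmegaCenter.pCore_quotient (p := 2) (G := X), le_bot_iff, Subgroup.map_eq_bot_iff,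
      QuotientGroup.ker_mk'] at h
    exact h
  -- the centraliser of `Ω₁(Z(S))` normalises `J(S)`
  set Z0 := Cfsg.omegaOne 2 ((S : Subgroup X) ⊓ Subgroup.centralizer ((S : Subgroup X) : Set X)) with hZ0
  let N1 : Subgroup X :=
    { carrier := {g | g ∈ Subgroup.centralizer (Z0 : Set X) ∧ ∀ q ∈ Cfsg.pCore 2 X, ⁅g, q⁆ ∈ Z0}
      one_mem' := ⟨one_mem _, fun q _ => by rw [commutatorElement_one_left]; exact one_mem Z0⟩
      mul_mem' := fun {g h} hg hh => ⟨mul_mem hg.1 hh.1, fun q hq => by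
        have e : ⁅g * h, q⁆ = g * ⁅h, q⁆ * g⁻¹ * ⁅g, q⁆ := by simp only [commutatorElement_def]; group
        rw [e, ← Subgroup.mem_centralizer_iff.1 hg.1 _ (hh.2 q hq), mul_inv_cancel_right]
        exact mul_mem (hh.2 q hq) (hg.2 q hq)⟩
      inv_mem' := fun {g} hg => ⟨inv_mem hg.1, fun q hq => by
        have e : ⁅g⁻¹, q⁆ = g⁻¹ * ⁅g, q⁆⁻¹ * g := by simp only [commutatorElement_def]; group
        rw [e, mul_assoc, Subgroup.mem_centralizer_iff.1 hg.1 _ (inv_mem (hg.2 q hq)), inv_mul_cancel_left]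
        exact inv_mem (hg.2 q hq)⟩ }
  have hN1n : ∀ c ∈ Subgroup.centralizer (Z0 : Set X), ∀ g ∈ N1, c * g * c⁻¹ ∈ N1 := by
    intro c hc g hg
    refine ⟨mul_mem (mul_mem hc hg.1) (inv_mem hc), fun q hq => ?_⟩
    have h := hg.2 _ (hQn.conj_mem q hq c⁻¹)
    have e : ⁅c * g * c⁻¹, q⁆ = c * ⁅g, c⁻¹ * q * c⁻¹⁻¹⁆ * c⁻¹ := by simp only [commutatorElement_def]; group
    rw [e, ← Subgroup.mem_centralizer_iff.1 hc _ h, mul_inv_cancel_right]
    exact h
  have hN12 : IsPGroup 2 N1 := by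
    rintro ⟨g, hg⟩
    have hsq : g * g ∈ Cfsg.pCore 2 X := hC (Subgroup.mem_centralizer_iff.2 fun q hq => by
      have hz := mem_centralizer_pCore (hg.2 q hq)
      have h1 : g * q = ⁅g, q⁆ * q * g := by simp only [commutatorElement_def]; group
      have h2 : g * ⁅g, q⁆ = ⁅g, q⁆ * g := (Subgroup.mem_centralizer_iff.1 hg.1 _ (hg.2 q hq)).symm
      symm
      calc g * g * q = g * (g * q) := by group
        _ = (g * ⁅g, q⁆) * q * g := by rw [h1]; group
        _ = ⁅g, q⁆ * (g * q) * g := by rw [h2]; group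
        _ = ⁅g, q⁆ * (⁅g, q⁆ * q * g) * g := by rw [h1]
        _ = ⁅g, q⁆ ^ 2 * q * (g * g) := by rw [pow_two]; group
        _ = q * (g * g) := by rw [hz.2.1, one_mul])
    obtain ⟨k, hk⟩ := Cores.isPGroup_pCore 2 ⟨_, hsq⟩
    refine ⟨k + 1, Subtype.ext ?_⟩
    show g ^ (2 ^ (k + 1)) = 1
    rw [pow_succ', pow_mul, pow_two]
    exact congrArg Subtype.val hk
  have hSC : (S : Subgroup X) ≤ Subgroup.centralizer (Z0 : Set X) := fun s hs =>
    Subgroup.mem_centralizer_iff.2 fun z hz => ((mem_centralizer_pCore hz).2.2 s hs).symm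
  have hnorm : ∀ c ∈ Subgroup.centralizer (Z0 : Set X), c ∈ Subgroup.normalizer (N1 : Set X) := by
    intro c hc
    rw [Subgroup.mem_normalizer_iff]
    refine fun x => ⟨hN1n c hc x, fun hx => ?_⟩
    have := hN1n c⁻¹ (inv_mem hc) _ hx
    simpa [mul_assoc] using this
  have hN1S : N1 ≤ (S : Subgroup X) := by
    have h := IsPGroup.to_sup_of_normal_left' hN12 S.2 (fun s hs => hnorm s (hSC hs))
    exact le_sup_left.trans (S.3 h le_sup_right).le
  obtain ⟨A₀, hA₀, hA₀S⟩ := CfsgLib.Fusion.Thompson.exists_maxEA_le_sylow S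
  have hAN1 : ∀ A ∈ Cfsg.maxElementaryAbelianSubgroups 2 X, A ≤ (S : Subgroup X) → A ≤ N1 := fun A hA hAS a ha =>
    ⟨hSC (hAS ha), fun q hq => comm_mem_omega (hcl S) (hAS ha) (Cores.pCore_le_sylow S hq)
      (by rw [← pow_two]; exact hA.1.2 a ha)⟩
  have hJN1 : Cfsg.thompsonSubgroupOf 2 N1 = Cfsg.thompsonSubgroupOf 2 (S : Subgroup X) := by
    rw [CfsgLib.Fusion.Thompson.thompsonSubgroupOf_eq hA₀ (hAN1 A₀ hA₀ hA₀S),
      CfsgLib.Fusion.Thompson.thompsonSubgroupOf_eq hA₀ hA₀S]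
    congr 1
    ext A
    exact ⟨fun hA => ⟨hA.1, hA.2.trans hN1S⟩, fun hA => ⟨hA.1, hAN1 A hA.1 hA.2⟩⟩
  have hfac := (Cfsg.Agent.S0608.result (p := 2) hO).2 hJ S
  rw [eq_top_iff]
  intro g _
  obtain ⟨x, hx, c, hc, n, hn, rfl⟩ := hfac g
  rw [hO, Subgroup.mem_bot] at hx
  rw [hx, one_mul]
  refine mul_mem ?_ hn
  rw [← hJN1]
  exact CfsgLib.Fusion.Thompson.normalizer_le_normalizer_thompsonOf N1 (hnorm c hc)

end

/-- Let G be a finite group that is 2-constrained and has no section isomorphic to the symmetric group of degree 4, and let S be a Sylow 2-subgroup of G of nilpotency class at most 2. Then G = N_G(J(S))·O_{2'}(G), where J(S) is the Thompson subgroup generated by the elementary abelian subgroups of S of largest order. -/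
theorem result {G : Type*} [Group G] [Finite G] (hcon : Cfsg.IsPConstrained 2 G) (hS4 : ¬ Cfsg.Involves (Equiv.Perm (Fin 4)) G) (S : Sylow 2 G) (hcl : Subgroup.lowerCentralSeries (S : Subgroup G) 2 = ⊥) : Subgroup.normalizer ((Cfsg.thompsonSubgroupOf 2 (S : Subgroup G)) : Set G) ⊔ Cfsg.pPrimeCore 2 G = ⊤ := by
  classical
  haveI : Fact (Nat.Prime 2) := ⟨Nat.prime_two⟩
  haveI hOn : (Cfsg.pPrimeCore 2 G).Normal := Cores.pPrimeCore_normal 2
  set O := Cfsg.pPrimeCore 2 G with hO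
  set q := QuotientGroup.mk' O with hq
  have hqs : Function.Surjective q := QuotientGroup.mk'_surjective O
  have hO1 : Cfsg.pPrimeCore 2 (G ⧸ O) = ⊥ := CfsgLib.Components.pPrimeCore_quotient_eq_bot
  have hC : Subgroup.centralizer (Cfsg.pCore 2 (G ⧸ O) : Set (G ⧸ O)) ≤ Cfsg.pCore 2 (G ⧸ O) :=
    (CfsgLib.Components.centralizer_pCore_le_iff_layer hO1).2
      (CfsgLib.Components.pLayer_eq_bot_iff.1 (CfsgLib.Components.isPConstrained_iff.1 hcon))
  have hS4' : ¬ Cfsg.Involves (Equiv.Perm (Fin 4)) (G ⧸ O) := by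
    intro hI
    obtain ⟨K, f, hf⟩ := CfsgLib.LocalEven.InvolvesDihedral.exists_surjective hI
    refine hS4 (CfsgLib.LocalEven.InvolvesDihedral.of_surjective (K := K.comap q) (f.comp (q.subgroupComap K))
      (hf.comp ?_))
    rintro ⟨z, hz⟩
    obtain ⟨x, rfl⟩ := hqs z
    exact ⟨⟨x, hz⟩, rfl⟩
  have hclS : ∀ a ∈ (S : Subgroup G), ∀ b ∈ (S : Subgroup G), ∀ c ∈ (S : Subgroup G), ⁅a, b⁆ * c = c * ⁅a, b⁆ := by
    intro a ha b hb c hc
    rw [← commutatorElement_eq_one_iff_mul_comm, ← Subgroup.mem_bot, ← hcl, Subgroup.lowerCentralSeries_succ,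
      Subgroup.lowerCentralSeries_succ, Subgroup.lowerCentralSeries_zero]
    exact Subgroup.commutator_mem_commutator (Subgroup.commutator_mem_commutator ha hb) hc
  have hcl' : ∀ T : Sylow 2 (G ⧸ O), ∀ a ∈ (T : Subgroup (G ⧸ O)), ∀ b ∈ (T : Subgroup (G ⧸ O)),
      ∀ c ∈ (T : Subgroup (G ⧸ O)), ⁅a, b⁆ * c = c * ⁅a, b⁆ := by
    intro T a ha b hb c hc
    obtain ⟨g, hg⟩ := MulAction.exists_smul_eq (G ⧸ O) (S.mapSurjective hqs) T
    rw [← hg] at ha hb hc
    obtain ⟨_, ⟨a₀, ha₀, rfl⟩, rfl⟩ := ha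
    obtain ⟨_, ⟨b₀, hb₀, rfl⟩, rfl⟩ := hb
    obtain ⟨_, ⟨c₀, hc₀, rfl⟩, rfl⟩ := hc
    show ⁅MulAut.conj g (q a₀), MulAut.conj g (q b₀)⁆ * MulAut.conj g (q c₀) =
      MulAut.conj g (q c₀) * ⁅MulAut.conj g (q a₀), MulAut.conj g (q b₀)⁆
    rw [← map_commutatorElement, ← map_commutatorElement, ← map_mul, ← map_mul, ← map_mul, ← map_mul,
      hclS a₀ ha₀ b₀ hb₀ c₀ hc₀]
  have hcore := core hC hO1 hS4' hcl' (S.mapSurjective hqs)
  set J := Cfsg.thompsonSubgroupOf 2 (S : Subgroup G) with hJ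
  have hJS : J ≤ (S : Subgroup G) := CfsgLib.Fusion.Thompson.thompsonSubgroupOf_le _
  have hdisj : ∀ x ∈ (S : Subgroup G), x ∈ O → x = 1 := fun x hx hxO => Subgroup.mem_bot.1
    ((CfsgLib.Components.inf_eq_bot_of_pGroup_coprime S.2 (Cores.coprime_card_pPrimeCore 2)).le ⟨hx, hxO⟩)
  have hJmap : Cfsg.thompsonSubgroupOf 2 ((S.mapSurjective hqs : Sylow 2 (G ⧸ O)) : Subgroup (G ⧸ O)) = J.map q := by
    rw [Sylow.coe_mapSurjective, hJ, Cfsg.thompsonSubgroupOf, Cfsg.thompsonSubgroupOf, Subgroup.map_map]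
    let e : ↥(S : Subgroup G) ≃* ↥((S : Subgroup G).map q) := MulEquiv.ofBijective (q.subgroupMap (S : Subgroup G))
      ⟨(injective_iff_map_eq_one _).2 fun x hx =>
        Subtype.ext (hdisj x x.2 ((QuotientGroup.eq_one_iff _).1 (congrArg Subtype.val hx))),
        q.subgroupMap_surjective _⟩
    rw [← CfsgLib.Fusion.Thompson.map_thompson_equiv e, Subgroup.map_map]
    rfl
  rw [hJmap] at hcore
  -- the Frattini argument
  haveI hJOn : (J ⊔ O).Normal := by
    have : (J.map q).Normal := Subgroup.normalizer_eq_top_iff.1 hcore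
    rw [← show (J.map q).comap q = J ⊔ O by rw [Subgroup.comap_map_eq, hq, QuotientGroup.ker_mk']]
    exact this.comap q
  have hnd : ¬ 2 ∣ J.relIndex (J ⊔ O) := fun hd => by
    rw [← Nat.prime_two.coprime_iff_not_dvd.not_left] at hd
    refine hd (Nat.Coprime.coprime_dvd_right ?_ (Cores.coprime_card_pPrimeCore (G := G) 2).symm)
    have h1 := CfsgLib.Fusion.Thompson.card_sup_mul_card_inf (N := O) (K := J)
      (by rw [Subgroup.normalizer_eq_top]; exact le_top)
    have h2 : O ⊓ J = ⊥ := le_bot_iff.1 fun x hx => hdisj x (hJS hx.2) hx.1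
    rw [h2, Subgroup.card_bot, mul_one, sup_comm] at h1
    have h3 := Subgroup.card_mul_index (J.subgroupOf (J ⊔ O))
    rw [Nat.card_congr (Subgroup.subgroupOfEquivOfLe (le_sup_left : J ≤ J ⊔ O)).toEquiv, h1,
      mul_comm (Nat.card O)] at h3
    exact (Nat.eq_of_mul_eq_mul_left Nat.card_pos h3).dvd
  let U : Sylow 2 ↥(J ⊔ O) := CfsgLib.Fusion.Basic.sylowSubgroupOf le_sup_left (S.2.to_le hJS) hnd
  have htop := Sylow.normalizer_sup_eq_top U
  rw [CfsgLib.Fusion.Basic.map_sylowSubgroupOf, ← sup_assoc, sup_eq_left.2 Subgroup.le_normalizer] at htop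
  exact htop

end Cfsg.Agent.S1932
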