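import Cfsg.Statements.S1933
import Cfsg.Agent.Lib.Coprime.FixedFree.Centralised.Layer

set_option autoImplicit false
open Cfsg

namespace Cfsg.Agent.S1933

/-- Inside a finite group let G be a subgroup and R a subgroup of prime order r normalizing G, with the order of G prime to r. Let H be a subgroup of G normalized by R and by C_G(R) and such that H = [H, R]. Then the layer of H is contained in the layer of G. -/
theorem result {X : Type*} [Group X] [Finite X] (G R : Subgroup X) (r : ℕ) [Fact r.Prime] (hR : Nat.card ↥R = r) (hcop : (Nat.card ↥G).Coprime r) (hnorm : R ≤ Subgroup.normalizer (G : Set X)) (H : Subgroup X) (hHG : H ≤ G) (hHinv : R ⊔ (G ⊓ Subgroup.centralizer (R : Set X)) ≤ Subgroup.normalizer (H : Set X)) (hHR : ⁅H, R⁆ = H) : (Cfsg.layer ↥H).map H.subtype ≤ (Cfsg.layer ↥G).map G.subtype := by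
  obtain ⟨c, hcR, hc⟩ : ∃ c ∈ R, R = Subgroup.zpowers c := by
    haveI : IsCyclic R := isCyclic_of_prime_card hR
    obtain ⟨⟨c, hcR⟩, hgen⟩ := IsCyclic.exists_generator (α := R)
    refine ⟨c, hcR, le_antisymm (fun y hy => ?_) (Subgroup.zpowers_le.mpr hcR)⟩
    obtain ⟨i, hi⟩ := Subgroup.mem_zpowers_iff.mp (hgen ⟨y, hy⟩)
    exact Subgroup.mem_zpowers_iff.mpr ⟨i, congrArg Subtype.val hi⟩
  have hcr : c ^ r = 1 := by
    have := congrArg Subtype.val (pow_card_eq_one' (x := (⟨c, hcR⟩ : R)))
    rwa [hR] at this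
  have hGs : FixedFree.Stable (MulAut.conj c) G := fun g hg =>
    (Subgroup.mem_normalizer_iff.mp (hnorm hcR) g).mp hg
  have hHs : FixedFree.Stable (MulAut.conj c) H := fun g hg =>
    (Subgroup.mem_normalizer_iff.mp ((le_sup_left.trans hHinv) hcR) g).mp hg
  set β := FixedFree.resAut (MulAut.conj c) G hGs with hβdef
  have hβ : β ^ r = 1 := FixedFree.resAut_pow_eq_one hGs (by rw [← map_pow, hcr, map_one])
  have hpow : ∀ (i : ℕ) (h : X), h ∈ H → h⁻¹ * (c ^ i * h * (c ^ i)⁻¹) ∈
      FixedFree.commSub (MulAut.conj c) H := by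
    intro i h hh
    induction i with
    | zero => simp
    | succ i ih =>
      have hi : c ^ i * h * (c ^ i)⁻¹ ∈ H := by
        have := hHs.pow_mem hh i
        rwa [← map_pow] at this
      have h2 := mul_mem ih (FixedFree.inv_mul_apply_mem_commSub (MulAut.conj c) hi)
      rw [MulAut.conj_apply] at h2
      convert h2 using 1
      rw [pow_succ']
      group
  have hcomm : FixedFree.commSub (MulAut.conj c) H = H := by
    refine le_antisymm (FixedFree.commSub_le hHs) ?_
    conv_lhs => rw [← hHR]
    rw [Subgroup.commutator_le]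
    intro h hh y hy
    rw [hc] at hy
    obtain ⟨i, rfl⟩ := (IsOfFinOrder.mem_powers_iff_mem_zpowers (isOfFinOrder_of_finite c)).mpr hy
    have h2 := hpow i h⁻¹ (inv_mem hh)
    convert h2 using 1
    rw [commutatorElement_def]
    group
  have hHs' : FixedFree.Stable β (H.subgroupOf G) := fun g hg => by
    rw [Subgroup.mem_subgroupOf, hβdef, FixedFree.resAut_apply]
    exact hHs g hg
  have hgen : FixedFree.commSub β (H.subgroupOf G) = H.subgroupOf G := by
    apply Subgroup.map_injective G.subtype_injective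
    rw [FixedFree.map_commSub G.subtype (FixedFree.resAut_subtype _ G hGs),
      Subgroup.map_subgroupOf_eq_of_le hHG, hcomm]
  have hfix : FixedFree.fixedSub β ≤ Subgroup.normalizer (H.subgroupOf G : Set G) := by
    intro g hg
    have hgc : (g : X) ∈ Subgroup.centralizer (R : Set X) := by
      rw [hc, Subgroup.zpowers_eq_closure, Subgroup.centralizer_closure,
        Subgroup.mem_centralizer_singleton_iff]
      have h1 : c * g * c⁻¹ = g := congrArg Subtype.val (FixedFree.mem_fixedSub.mp hg)
      calc (g : X) * c = c * g * c⁻¹ * c := by rw [h1]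
        _ = c * g := by group
    have hn := (le_sup_right.trans hHinv) ⟨g.2, hgc⟩
    rw [Subgroup.mem_normalizer_iff] at hn ⊢
    exact fun x => hn x
  have hcop' : ¬ r ∣ Nat.card G :=
    ((Fact.out : r.Prime).coprime_iff_not_dvd).mp hcop.symm
  have h := FixedFree.Centralised.layer_le_of_commSub β (Fact.out : r.Prime) hβ hcop'
    (H.subgroupOf G) hHs' hfix hgen
  have h2 := Subgroup.map_mono (f := G.subtype) h
  rw [Subgroup.map_map] at h2
  refine le_trans (le_of_eq ?_) h2
  conv_lhs => rw [← CfsgLib.Components.layer_map_mulEquiv (Subgroup.subgroupOfEquivOfLe hHG)]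
  rw [Subgroup.map_map]
  rfl

end Cfsg.Agent.S1933
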