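import Cfsg.Statements.S1935
import Cfsg.Agent.Lib.LocalEven.DegenerationOffender
import Cfsg.Agent.Lib.LocalEven.SolvableOffender
import Cfsg.Agent.Lib.Coprime.SchurZassenhaus

set_option autoImplicit false
open Cfsg
open scoped commutatorElement

namespace Cfsg.Agent.S1935

/-- Let p ≥ 5 be a prime and, inside an ambient finite group, let G be a p-subgroup acting faithfully by conjugation on an elementary abelian p-subgroup V that it normalizes (only the identity of G centralizes V). Suppose V is an F-module for G: some nontrivial elementary abelian subgroup E of G satisfies #E · #C_V(E) ≥ #V. Then G contains such an offender A that moreover acts quadratically on V ([V, A, A] = 1) and is normal in its normal closure in G. -/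
theorem result {Ω : Type*} [Group Ω] [Finite Ω] (p : ℕ) [Fact p.Prime] (hp : 5 ≤ p) (V G : Subgroup Ω) (hV : Cfsg.IsElementaryAbelian p V) (hG : IsPGroup p ↥G) (hGV : G ≤ Subgroup.normalizer (V : Set Ω)) (hfaith : G ⊓ Subgroup.centralizer (V : Set Ω) = ⊥) (hF : ∃ E : Subgroup Ω, E ≤ G ∧ E ≠ ⊥ ∧ Cfsg.IsElementaryAbelian p E ∧ Nat.card ↥V ≤ Nat.card ↥E * Nat.card ↥(V ⊓ Subgroup.centralizer (E : Set Ω))) : ∃ A : Subgroup Ω, A ≤ G ∧ A ≠ ⊥ ∧ Cfsg.IsElementaryAbelian p A ∧ Nat.card ↥V ≤ Nat.card ↥A * Nat.card ↥(V ⊓ Subgroup.centralizer (A : Set Ω)) ∧ ⁅⁅V, A⁆, A⁆ = ⊥ ∧ ∀ g ∈ Subgroup.closure {x : Ω | ∃ h ∈ G, ∃ a ∈ A, x = h * a * h⁻¹}, ∀ a ∈ A, g * a * g⁻¹ ∈ A := by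
  classical
  have hp2 : p ≠ 2 := by omega
  obtain ⟨R, _, _, ⟨r⟩⟩ := CfsgLib.LocalEven.DegenerationOffender.exists_rep hV hGV hfaith
  -- a quadratic offender
  have hcand : ∃ A, CfsgLib.LocalEven.DegenerationOffender.Cand p V G A := by
    obtain ⟨E, hEG, hE1, hEea, hEoff⟩ := hF
    haveI : Nonempty {X : Subgroup Ω // X ≤ G ∧ Cfsg.IsElementaryAbelian p X} := ⟨⟨E, hEG, hEea⟩⟩
    obtain ⟨⟨M, hMG, hMea⟩, hmax⟩ := Finite.exists_max fun X : {X : Subgroup Ω // X ≤ G ∧ Cfsg.IsElementaryAbelian p X} => CfsgLib.Fusion.ReplacementEA.wt V X.1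
    have hEM : CfsgLib.Fusion.ReplacementEA.wt V E ≤ CfsgLib.Fusion.ReplacementEA.wt V M := hmax ⟨E, hEG, hEea⟩
    -- a maximiser which is not trivial
    obtain ⟨A, hAG, hAea, hA1, hAwt⟩ : ∃ A, A ≤ G ∧ Cfsg.IsElementaryAbelian p A ∧ A ≠ ⊥ ∧
        CfsgLib.Fusion.ReplacementEA.wt V M ≤ CfsgLib.Fusion.ReplacementEA.wt V A := by
      by_cases hM1 : M = ⊥
      · refine ⟨E, hEG, hEea, hE1, le_trans ?_ hEoff⟩
        simp [CfsgLib.Fusion.ReplacementEA.wt, hM1]
        exact Subgroup.card_le_of_le inf_le_left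
      · exact ⟨M, hMG, hMea, hM1, le_rfl⟩
    have hsub : ∀ {X : Subgroup Ω}, X ≤ A → Cfsg.IsElementaryAbelian p X := fun {X} hX =>
      ⟨CfsgLib.Solvable.Basic.isMulCommutative_subgroup_iff.2 fun a ha b hb =>
        CfsgLib.Solvable.Basic.isMulCommutative_subgroup_iff.1 hAea.1 a (hX ha) b (hX hb),
        fun a ha => hAea.2 a (hX ha)⟩
    have hVc := CfsgLib.Solvable.Basic.isMulCommutative_subgroup_iff.1 hV.1
    have hab : ⁅A, A⁆ ≤ Subgroup.centralizer (V : Set Ω) := by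
      rw [Subgroup.commutator_self_eq_bot_iff.2 hAea.1]; exact bot_le
    obtain ⟨hw, hfix⟩ := CfsgLib.Fusion.Offender.replacement hVc (hAG.trans hGV) hab
      (fun X hX => le_trans (hmax ⟨X, hX.trans hAG, hsub hX⟩) hAwt) (le_refl V)
    set B := A ⊓ Subgroup.centralizer ((⁅V, A⁆ : Subgroup Ω) : Set Ω) with hB
    have hAwt' : Nat.card V ≤ CfsgLib.Fusion.ReplacementEA.wt V A := hEoff.trans (hEM.trans hAwt)
    refine ⟨B, inf_le_left.trans hAG, ?_, hsub inf_le_left, hAwt'.trans hw.ge, ?_⟩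
    · intro hB1
      have hcen : Subgroup.centralizer ((B : Subgroup Ω) : Set Ω) = ⊤ := by
        rw [hB1]; exact Subgroup.centralizer_eq_top_iff_subset.2 (by simp)
      rw [hcen, inf_top_eq] at hfix
      have hAp : IsPGroup p A := hG.to_le hAG
      have hVp : IsPGroup p V := fun v => ⟨1, Subtype.ext (by simpa using hV.2 v v.2)⟩
      have hW : ⁅V, A⁆ ≤ V := Subgroup.commutator_comm V A ▸
        Subgroup.le_normalizer_iff_commutator_le_right.1 (hAG.trans hGV)
      have hstep : ⁅V, A⁆ ≤ ⁅⁅V, A⁆, A⁆ := by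
        rw [Subgroup.commutator_le]
        intro v hv a ha
        have hv' : v ∈ ⁅V, A⁆ ⊔ (V ⊓ Subgroup.centralizer (A : Set Ω)) := hfix ▸ hv
        obtain ⟨x, hx, c, hc, rfl⟩ := (CfsgLib.Coprime.mem_sup_of_le_normalizer
          (fun c (hc : c ∈ V ⊓ Subgroup.centralizer (A : Set Ω)) => Subgroup.centralizer_le_normalizer _ (Subgroup.mem_centralizer_iff.2 fun y hy =>
            hVc y (hW hy) c hc.1))).1 hv'
        rw [commutatorElement_mul_left_eq_conj_mul,
          commutatorElement_eq_one_iff_mul_comm.2 (Subgroup.mem_centralizer_iff.1 hc.2 a ha).symm, mul_one,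
          mul_inv_cancel, one_mul]
        exact Subgroup.commutator_mem_commutator hx ha
      have hbot := CfsgLib.LocalEven.SolvableOffender.eq_bot_of_le_commutator
        (hVp.to_sup_of_normal_left' hAp (hAG.trans hGV)) (hW.trans le_sup_left) le_sup_right hstep
      refine hA1 (le_bot_iff.1 (le_trans (le_inf hAG ?_) hfaith.le))
      rw [Subgroup.le_centralizer_iff]
      exact Subgroup.commutator_eq_bot_iff_le_centralizer.1 hbot
    · rw [Subgroup.commutator_eq_bot_iff_le_centralizer, Subgroup.le_centralizer_iff]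
      exact inf_le_right.trans (Subgroup.centralizer_le (Subgroup.commutator_mono le_rfl inf_le_left))
  obtain ⟨A, ⟨h1, h2, h3, h4, h5⟩, h6⟩ :=
    CfsgLib.LocalEven.DegenerationOffender.exists_normal_offender hV hG hGV r hp2 hcand
  exact ⟨A, h1, h2, h3, h4, h5, h6⟩

end Cfsg.Agent.S1935
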