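import Cfsg.Statements.S1939
import Cfsg.Agent.Lib.Fusion.Transfer
import Cfsg.Agent.Lib.KGroups.Functor.Basic

set_option autoImplicit false
open Cfsg

namespace Cfsg.Agent.S1939

/-- Let S be a Sylow p-subgroup of the finite group G and a an element of S that is the only G-conjugate of a lying in S. Then every power of a has the same property: for every n, the only G-conjugate of a^n lying in S is a^n. -/
theorem result {G : Type*} [Group G] [Finite G] {p : ℕ} [Fact p.Prime] (S : Sylow p G) (a : G)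
    (haS : a ∈ (S : Subgroup G)) (hwc : ∀ g : G, g * a * g⁻¹ ∈ (S : Subgroup G) → g * a * g⁻¹ = a) (n : ℕ) :
    ∀ g : G, g * a ^ n * g⁻¹ ∈ (S : Subgroup G) → g * a ^ n * g⁻¹ = a ^ n := by
  intro g hg
  have hcen : ∀ s ∈ (S : Subgroup G), s * a = a * s := fun s hs => by
    have h := hwc s ((S : Subgroup G).mul_mem ((S : Subgroup G).mul_mem hs haS) ((S : Subgroup G).inv_mem hs))
    exact mul_inv_eq_iff_eq_mul.mp h
  set b := g * a ^ n * g⁻¹ with hb
  set C := Subgroup.centralizer ({b} : Set G)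
  have haC : a ∈ C := Subgroup.mem_centralizer_iff.mpr fun y hy => by
    rw [Set.mem_singleton_iff.mp hy]; exact hcen b hg
  have hgaC : g * a * g⁻¹ ∈ C := Subgroup.mem_centralizer_iff.mpr fun y hy => by
    rw [Set.mem_singleton_iff.mp hy, hb]
    have : Commute (g * a ^ n * g⁻¹) (g * a * g⁻¹) :=
      (Commute.pow_self a n).map (MulAut.conj g).toMonoidHom
    exact this.eq
  have hpa : IsPGroup p (Subgroup.zpowers a) := S.2.to_le (Subgroup.zpowers_le.mpr haS)
  have hpg : IsPGroup p (Subgroup.zpowers (g * a * g⁻¹)) := by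
    have := hpa.map (MulAut.conj g).toMonoidHom
    rwa [MonoidHom.map_zpowers] at this
  obtain ⟨R, hR, haR⟩ := CfsgLib.LocalEven.SylowIn.exists_isSylowIn (p := p) C (Subgroup.zpowers_le.mpr haC) hpa
  obtain ⟨R', hR', hgR'⟩ := CfsgLib.LocalEven.SylowIn.exists_isSylowIn (p := p) C (Subgroup.zpowers_le.mpr hgaC) hpg
  obtain ⟨c, hc, he⟩ := hR'.conjugate hR
  obtain ⟨k, hk⟩ := CfsgLib.KGroups.Functor.exists_conjG_le S hR.2.1
  have h1 : k * a * k⁻¹ = a :=
    hwc k (hk (Subgroup.mem_map_of_mem _ (haR (Subgroup.mem_zpowers a))))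
  have h2 : (k * c * g) * a * (k * c * g)⁻¹ = a := by
    apply hwc
    have hmem : c * (g * a * g⁻¹) * c⁻¹ ∈ R := by
      rw [he]; exact Subgroup.mem_map_of_mem _ (hgR' (Subgroup.mem_zpowers _))
    have := hk (Subgroup.mem_map_of_mem _ hmem)
    simpa [mul_assoc] using this
  have h3 : (k * c * g) * a ^ n * (k * c * g)⁻¹ = a ^ n := by rw [← conj_pow, h2]
  have h4 : c * b * c⁻¹ = b := by
    rw [← Subgroup.mem_centralizer_iff.mp hc b rfl, mul_inv_cancel_right]
  have h5 : k * b * k⁻¹ = a ^ n := by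
    rw [← h3]; conv_lhs => rw [← h4, hb]
    simp [mul_assoc]
  have h6 : k * a ^ n * k⁻¹ = a ^ n := by rw [← conj_pow, h1]
  exact mul_left_cancel (mul_right_cancel (h5.trans h6.symm))

end Cfsg.Agent.S1939
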