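import Cfsg.Statements.S1940


set_option autoImplicit false
open Cfsg

namespace Cfsg.Agent.S1940

/-- Let the finite group L act by automorphisms on the finite abelian group M, and let N be an L-invariant subgroup of M such that M/N is a p-group on which L acts trivially (every l • m lies in the coset mN). If every element of M is a product of an element of N and an element fixed by a Sylow p-subgroup T of L, then every element of M is a product of an element of N and an element fixed by all of L. -/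
theorem result {L : Type*} [Group L] [Finite L] {M : Type*} [CommGroup M] [Finite M] [MulDistribMulAction L M]
    {p : ℕ} [Fact p.Prime] (N : Subgroup M) (hN : ∀ (l : L) (m : M), m ∈ N → l • m ∈ N)
    (hquot : IsPGroup p (M ⧸ N)) (htriv : ∀ (l : L) (m : M), (l • m) * m⁻¹ ∈ N) (T : Sylow p L)
    (hT : ∀ m : M, ∃ n ∈ N, ∃ c : M, (∀ t ∈ (T : Subgroup L), t • c = c) ∧ m = n * c) :
    ∀ m : M, ∃ n ∈ N, ∃ c : M, (∀ l : L, l • c = c) ∧ m = n * c := by
  classical
  intro m
  obtain ⟨n, hn, c, hc, rfl⟩ := hT m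
  have hwd : ∀ (k : L) (q : L ⧸ (T : Subgroup L)), (k • q).out • c = k • q.out • c := by
    intro k q
    obtain ⟨⟨s, hs⟩, he⟩ := QuotientGroup.mk_out_eq_mul (T : Subgroup L) (k * q.out)
    have hkq : (k • q) = QuotientGroup.mk (k * q.out) := by
      conv_lhs => rw [← QuotientGroup.out_eq' q]
      rfl
    rw [hkq, he, mul_smul, mul_smul, hc s hs]
  have : Fintype (L ⧸ (T : Subgroup L)) := Fintype.ofFinite _
  set y := ∏ q : L ⧸ (T : Subgroup L), q.out • c with hy
  have hyfix : ∀ l : L, l • y = y := fun l => by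
    rw [hy, Finset.smul_prod']
    exact Fintype.prod_equiv (MulAction.toPerm l) _ _ fun q => (hwd l q).symm
  set π := QuotientGroup.mk' N
  have hπ : π y = π c ^ Fintype.card (L ⧸ (T : Subgroup L)) := by
    rw [hy, map_prod, Finset.prod_eq_pow_card (b := π c) fun q _ => ?_]
    · rw [Finset.card_univ]
    · rw [← mul_inv_eq_one, ← map_inv, ← map_mul]
      exact (QuotientGroup.eq_one_iff _).mpr (htriv q.out c)
  have hk : ¬ p ∣ Fintype.card (L ⧸ (T : Subgroup L)) := by
    rw [← Nat.card_eq_fintype_card, ← Subgroup.index_eq_card]; exact T.not_dvd_index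
  set k := Fintype.card (L ⧸ (T : Subgroup L))
  obtain ⟨j, hj⟩ := hquot (π c)
  have hco : k.Coprime (p ^ j) := Nat.Coprime.pow_right j (((Fact.out : p.Prime).coprime_iff_not_dvd.mpr hk).symm)
  set u := Nat.gcdA k (p ^ j)
  have hu : π (y ^ u) = π c := by
    rw [map_zpow, hπ, ← zpow_natCast, ← zpow_mul]
    conv_rhs => rw [← zpow_one (π c), show (1 : ℤ) = (Nat.gcd k (p ^ j) : ℕ) by rw [hco.gcd_eq_one]; rfl,
      Nat.gcd_eq_gcd_ab, zpow_add, zpow_mul (π c) ((p ^ j : ℕ) : ℤ), zpow_natCast _ (p ^ j), hj, one_zpow, mul_one]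
  refine ⟨n * (c * (y ^ u)⁻¹), N.mul_mem hn ?_, y ^ u, fun l => ?_, by simp [mul_assoc]⟩
  · rw [← QuotientGroup.eq_one_iff]
    show π (c * (y ^ u)⁻¹) = 1
    rw [map_mul, map_inv, hu, mul_inv_cancel]
  · have h := map_zpow (MulDistribMulAction.toMonoidHom M l) y u
    simp only [MulDistribMulAction.toMonoidHom_apply] at h
    rw [h, hyfix]

end Cfsg.Agent.S1940
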