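import Cfsg.Statements.S1941
import Cfsg.Agent.Lib.Components.GenFitting

set_option autoImplicit false
open Cfsg

namespace Cfsg.Agent.S1941

/-- Let G be a finite group with no nontrivial normal subgroup of order prime to p, T a Sylow p-subgroup of G and E(G) the layer of G (the subgroup generated by its components). An automorphism of G of p-power order that fixes T and E(G) elementwise is inner. -/
theorem result {G : Type*} [Group G] [Finite G] {p : ℕ} [Fact p.Prime] (hcore : Cfsg.pPrimeCore p G = ⊥)
    (T : Sylow p G) (α : MulAut G) (hα : ∃ j : ℕ, orderOf α = p ^ j) (hfixT : ∀ x ∈ (T : Subgroup G), α x = x)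
    (hfixE : ∀ x ∈ Cfsg.layer G, α x = x) : ∃ g : G, ∀ x : G, α x = g * x * g⁻¹ := by
  classical
  open Subgroup in
  open scoped IsMulCommutative in
  exact by
    set F := Cfsg.generalizedFittingSubgroup G with hF
    set Z := centralizer (F : Set G) with hZ
    have hZfit : Z ≤ Cfsg.fittingSubgroup G := CfsgLib.Components.centralizer_generalizedFitting_le_fitting
    have hfitp : Cfsg.fittingSubgroup G = Cfsg.pCore p G := CfsgLib.Solvable.Cores.fittingSubgroup_eq_pCore p hcore
    have hfitT : Cfsg.fittingSubgroup G ≤ (T : Subgroup G) := hfitp ▸ CfsgLib.Solvable.Cores.pCore_le_sylow T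
    have hfixF : ∀ x ∈ F, α x = x := by
      intro x hx
      have hle : F ≤ (MonoidHom.eqLocus α.toMonoidHom (MonoidHom.id G)) :=
        sup_le (fun y hy => hfixE y hy) (fun y hy => hfixT y (hfitT hy))
      exact hle hx
    haveI hFn : F.Normal := by
      haveI : (Cfsg.layer G).Characteristic := CfsgLib.Components.layer_characteristic
      haveI : (Cfsg.fittingSubgroup G).Normal := hfitp ▸ inferInstance
      exact Subgroup.sup_normal _ _
    haveI : Z.Normal := inferInstance
    set f : G → G := fun g => α g * g⁻¹ with hf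
    have hfmem : ∀ g, f g ∈ Z := by
      intro g
      rw [hZ, mem_centralizer_iff]
      intro x hx
      have h2 : α (g⁻¹ * x * g) = g⁻¹ * x * g := hfixF _ (by simpa using hFn.conj_mem x hx g⁻¹)
      rw [map_mul, map_mul, map_inv, hfixF x hx] at h2
      show x * (α g * g⁻¹) = α g * g⁻¹ * x
      calc x * (α g * g⁻¹) = α g * ((α g)⁻¹ * x * α g) * g⁻¹ := by group
        _ = α g * (g⁻¹ * x * g) * g⁻¹ := by rw [h2]
        _ = α g * g⁻¹ * x := by group
    have hfmul : ∀ g h, f (g * h) = f g * (g * f h * g⁻¹) := by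
      intro g h
      show α (g * h) * (g * h)⁻¹ = α g * g⁻¹ * (g * (α h * h⁻¹) * g⁻¹)
      rw [map_mul]
      group
    have hfT : ∀ g, ∀ t ∈ (T : Subgroup G), f (g * t) = f g := by
      intro g t ht
      rw [hfmul, show f t = 1 from by show α t * t⁻¹ = 1; rw [hfixT t ht, mul_inv_cancel]]
      simp
    haveI hZc : IsMulCommutative ↥Z := le_centralizer_iff_isMulCommutative.mp
      (hZfit.trans ((CfsgLib.Components.fittingSubgroup_le_generalizedFittingSubgroup).trans fun x hx =>
        mem_centralizer_iff.mpr fun z hz => (mem_centralizer_iff.mp hz x hx).symm))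
    haveI := Fintype.ofFinite (G ⧸ (T : Subgroup G))
    let fq : G ⧸ (T : Subgroup G) → ↥Z := Quotient.lift (fun g => (⟨f g, hfmem g⟩ : ↥Z)) (by
      intro a b hab
      replace hab : a⁻¹ * b ∈ (T : Subgroup G) := QuotientGroup.leftRel_apply.mp hab
      apply Subtype.ext
      show f a = f b
      rw [show b = a * (a⁻¹ * b) by group, hfT a _ hab])
    set w : ↥Z := ∏ c, fq c with hw
    have hconj : ∀ g : G, ∀ z : ↥Z, g * (z : G) * g⁻¹ ∈ Z := fun g z =>
      Subgroup.Normal.conj_mem inferInstance _ z.2 g
    let cg : G → ↥Z →* ↥Z := fun g =>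
      { toFun := fun z => ⟨g * z * g⁻¹, hconj g z⟩
        map_one' := Subtype.ext (by simp)
        map_mul' := fun a b => Subtype.ext (by simp [mul_assoc]) }
    have hkey : ∀ g : G, w = (⟨f g, hfmem g⟩ : ↥Z) ^ (T : Subgroup G).index * cg g w := by
      intro g
      rw [hw, map_prod, Subgroup.index_eq_card, Nat.card_eq_fintype_card, ← Finset.card_univ,
        ← Finset.prod_const, ← Finset.prod_mul_distrib]
      symm
      refine Fintype.prod_equiv (MulAction.toPerm g) _ _ fun c => ?_
      induction c using Quotient.inductionOn with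
      | h a =>
        apply Subtype.ext
        show f g * (g * f a * g⁻¹) = f (g * a)
        rw [hfmul]
    have hcop : (Nat.card ↥Z).Coprime (T : Subgroup G).index := by
      obtain ⟨k, hk⟩ := (T.2.to_le (hZfit.trans hfitT)).exists_card_eq
      rw [hk]
      exact ((Fact.out : p.Prime).coprime_iff_not_dvd.mpr T.not_dvd_index).pow_left k
    obtain ⟨u, hu⟩ := (powCoprime hcop).surjective w
    have hu' : u ^ (T : Subgroup G).index = w := hu
    refine ⟨(u : G), fun g => ?_⟩
    have h1 : (u : ↥Z) = ⟨f g, hfmem g⟩ * cg g u := by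
      apply (powCoprime hcop).injective
      show u ^ _ = (_ * cg g u) ^ _
      rw [mul_pow, ← map_pow, hu']
      exact hkey g
    have h2 : (u : G) = α g * g⁻¹ * (g * u * g⁻¹) := congrArg Subtype.val h1
    calc α g = α g * g⁻¹ * (g * u * g⁻¹) * (g * (u : G)⁻¹) := by group
      _ = u * g * (u : G)⁻¹ := by rw [← h2, mul_assoc]

end Cfsg.Agent.S1941
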