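import Cfsg.Statements.S1944
import Cfsg.Agent.Lib.KGroups.Functor.Lift
-- import your own Cfsg.Agent.* helpers here

set_option autoImplicit false
open Cfsg

namespace Cfsg.Agent.S1944

/-- Let S be a Sylow p-subgroup of the finite group G and suppose that the centre Z(S) lies in O_{p',p}(G). The elements of S each of which is its only G-conjugate in S form a subgroup W of Z(S); W is then a direct factor of Z(S): there is a subgroup K of Z(S) with W ∩ K = 1 and WK = Z(S). -/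
theorem result {G : Type*} [Group G] [Finite G] {p : ℕ} [Fact p.Prime] (S : Sylow p G)
    (hZ : ((S : Subgroup G) ⊓ Subgroup.centralizer ((S : Subgroup G) : Set G)) ≤ Cfsg.pPrimePCore p G) :
    ∃ W K : Subgroup G, (∀ x : G, x ∈ W ↔ (x ∈ (S : Subgroup G) ∧ ∀ g : G, g * x * g⁻¹ ∈ (S : Subgroup G) → g * x * g⁻¹ = x)) ∧
      K ≤ ((S : Subgroup G) ⊓ Subgroup.centralizer ((S : Subgroup G) : Set G)) ∧ W ⊓ K = ⊥ ∧ W ⊔ K = ((S : Subgroup G) ⊓ Subgroup.centralizer ((S : Subgroup G) : Set G)) := by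
  open CfsgLib.KGroups CfsgLib.KGroups.Functor CfsgLib.Solvable CfsgLib.LocalEven.SylowIn in
  set N := Cfsg.pPrimeCore p G with hN
  haveI : N.Normal := Cores.pPrimeCore_normal p
  have hNc : (Nat.card N).Coprime p := Cores.coprime_card_pPrimeCore p
  set π := QuotientGroup.mk' N with hπ
  have hπs := QuotientGroup.mk'_surjective N
  have hker : (Nat.card π.ker).Coprime p := by rwa [hπ, QuotientGroup.ker_mk']
  set T := Cfsg.pCore p (G ⧸ N) with hT
  haveI hTn : T.Normal := CfsgLib.LocalEven.SylowIn.pCore_normal _ p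
  set S' := S.mapSurjective (f := π) hπs with hS'
  have hTS : T ≤ (S' : Subgroup (G ⧸ N)) := Cores.pCore_le_sylow S'
  have hinj := injOn_sylow π hker S.2
  set Z := (S : Subgroup G) ⊓ Subgroup.centralizer ((S : Subgroup G) : Set G) with hZdef
  have hZT : ∀ z ∈ Z, π z ∈ T := fun z hz => hZ hz
  have hZc : ∀ z ∈ Z, ∀ s ∈ (S' : Subgroup (G ⧸ N)), s * π z = π z * s := by
    rintro z hz _ ⟨s, hs, rfl⟩
    rw [← map_mul, ← map_mul, Subgroup.mem_centralizer_iff.mp hz.2 s hs]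
  set V := T ⊓ Subgroup.centralizer (T : Set (G ⧸ N)) with hV
  have hVc : ∀ v ∈ V, ∀ w ∈ V, v * w = w * v := fun v hv w hw =>
    Subgroup.mem_centralizer_iff.mp hw.2 v hv.1
  letI : CommGroup V :=
    { (inferInstance : Group V) with mul_comm := fun v w => Subtype.ext (hVc v v.2 w w.2) }
  haveI hVn : V.Normal := inferInstance
  have hZV : ∀ z ∈ Z, π z ∈ V := fun z hz =>
    ⟨hZT z hz, Subgroup.mem_centralizer_iff.mpr fun t ht => hZc z hz t (hTS ht)⟩
  -- the elements fixed by fusion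
  have hiff : ∀ x : G, (x ∈ (S : Subgroup G) ∧ ∀ g : G, g * x * g⁻¹ ∈ (S : Subgroup G) → g * x * g⁻¹ = x) ↔
      x ∈ Z ⊓ (Subgroup.center (G ⧸ N)).comap π := by
    intro x
    constructor
    · rintro ⟨hxS, hiso⟩
      have hxZ : x ∈ Z := ⟨hxS, Subgroup.mem_centralizer_iff.mpr fun s hs =>
        mul_inv_eq_iff_eq_mul.mp (hiso s (mul_mem (mul_mem hs hxS) (inv_mem hs)))⟩
      refine ⟨hxZ, Subgroup.mem_comap.mpr (Subgroup.mem_center_iff.mpr fun y => ?_)⟩
      obtain ⟨g, rfl⟩ := hπs y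
      have hle : (Subgroup.zpowers x) ^ᶜ g ≤ (S : Subgroup G) ⊔ π.ker := by
        rw [← Subgroup.comap_map_eq, MonoidHom.map_zpowers, Subgroup.zpowers_le, Subgroup.mem_comap,
          MulEquiv.coe_toMonoidHom, MulAut.conj_apply, map_mul, map_mul, map_inv]
        exact hTS (hTn.conj_mem _ (hZT x hxZ) _)
      obtain ⟨m, hm, hmB⟩ := exists_conj_le_of_le_sup hker S.2
        ((S.2.to_le (Subgroup.zpowers_le.mpr hxS)).map _) le_top le_top hle
      rw [conjG_conjG, MonoidHom.map_zpowers, Subgroup.zpowers_le, MulEquiv.coe_toMonoidHom,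
        MulAut.conj_apply] at hmB
      have h1 := congrArg π (hiso _ hmB)
      rw [map_mul, map_mul, map_inv, map_mul, MonoidHom.mem_ker.mp hm.1, one_mul] at h1
      exact mul_inv_eq_iff_eq_mul.mp h1
    · rintro ⟨hxZ, hxc⟩
      refine ⟨hxZ.1, fun g hg => hinj hg hxZ.1 ?_⟩
      rw [map_mul, map_mul, map_inv, Subgroup.mem_center_iff.mp hxc (π g), mul_inv_cancel_right]
  -- the norm map
  let f : (G ⧸ N) ⧸ (S' : Subgroup (G ⧸ N)) → (Z →* V) :=
    Quotient.lift
      (fun g => MonoidHom.mk' (fun z : Z => (⟨g * π z * g⁻¹, hVn.conj_mem _ (hZV z z.2) g⟩ : V))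
        (fun a b => Subtype.ext (by simp [mul_assoc])))
      (fun g h hgh => by
        have hs : g⁻¹ * h ∈ (S' : Subgroup (G ⧸ N)) := QuotientGroup.leftRel_apply.mp hgh
        ext z
        show g * π z * g⁻¹ = h * π z * h⁻¹
        rw [show h * π z * h⁻¹ = g * ((g⁻¹ * h) * π z) * h⁻¹ by group, hZc z z.2 _ hs]
        group)
  haveI := Fintype.ofFinite ((G ⧸ N) ⧸ (S' : Subgroup (G ⧸ N)))
  set τ : Z →* V := ∏ q, f q with hτ
  set n := Nat.card ((G ⧸ N) ⧸ (S' : Subgroup (G ⧸ N))) with hn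
  have hnp : n.Coprime p := ((Fact.out : p.Prime).coprime_iff_not_dvd.mpr S'.not_dvd_index).symm
  have hτW : ∀ z : Z, (z : G) ∈ (Subgroup.center (G ⧸ N)).comap π → (τ z : G ⧸ N) = π z ^ n := by
    intro z hz
    have h1 : ∀ q, f q z = ⟨π z, hZV z z.2⟩ := by
      intro q
      induction q using QuotientGroup.induction_on with
      | _ g =>
        apply Subtype.ext
        show g * π z * g⁻¹ = π z
        rw [Subgroup.mem_center_iff.mp hz g, mul_inv_cancel_right]
    rw [hτ, MonoidHom.finset_prod_apply, Finset.prod_congr rfl (fun q _ => h1 q), Finset.prod_const,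
      Finset.card_univ, ← Nat.card_eq_fintype_card]
    rfl
  have hτc : ∀ z : Z, (τ z : G ⧸ N) ∈ Subgroup.center (G ⧸ N) := by
    intro z
    refine Subgroup.mem_center_iff.mpr fun g => ?_
    let c : V →* V := MonoidHom.mk' (fun v => ⟨g * v * g⁻¹, hVn.conj_mem _ v.2 g⟩)
      (fun a b => Subtype.ext (by simp [mul_assoc]))
    have hc : ∀ q, c (f q z) = f (g • q) z := by
      intro q
      induction q using QuotientGroup.induction_on with
      | _ h =>
        apply Subtype.ext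
        show g * (h * π z * h⁻¹) * g⁻¹ = (g * h) * π z * (g * h)⁻¹
        group
    have h2 : c (τ z) = τ z := by
      rw [hτ, MonoidHom.finset_prod_apply, map_prod, Finset.prod_congr rfl (fun q _ => hc q)]
      exact Equiv.prod_comp (MulAction.toPerm g) (fun q => f q z)
    exact mul_inv_eq_iff_eq_mul.mp (congrArg Subtype.val h2)
  refine ⟨Z ⊓ (Subgroup.center (G ⧸ N)).comap π, τ.ker.map Z.subtype, fun x => (hiff x).symm,
    Subgroup.map_subtype_le _, ?_, ?_⟩
  · refine (Subgroup.eq_bot_iff_forall _).mpr ?_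
    rintro _ ⟨hw, ⟨z, hz, rfl⟩⟩
    have h1 : π z ^ n = 1 := by
      rw [← hτW z hw.2, MonoidHom.mem_ker.mp hz]; rfl
    have h2 : (z : G) ^ n = 1 := hinj (pow_mem z.2.1 n) (one_mem _) (by rw [map_pow, h1, map_one])
    obtain ⟨k, hk⟩ := S.2 ⟨z, z.2.1⟩
    exact CharP.eq_one_of_pow_coprime hnp h2 (congrArg Subtype.val hk)
  · refine le_antisymm (sup_le inf_le_left (Subgroup.map_subtype_le _)) fun a ha => ?_
    obtain ⟨b, hbS, hb⟩ := hTS (τ ⟨a, ha⟩).2.1
    have hbc : π b ∈ Subgroup.center (G ⧸ N) := by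
      rw [show π b = (τ ⟨a, ha⟩ : G ⧸ N) from hb]; exact hτc _
    have hbZ : b ∈ Z := ⟨hbS, Subgroup.mem_centralizer_iff.mpr fun s hs =>
      hinj (mul_mem hs hbS) (mul_mem hbS hs) (by rw [map_mul, map_mul, Subgroup.mem_center_iff.mp hbc (π s)])⟩
    obtain ⟨j, hj⟩ := S.2 ⟨b, hbS⟩
    obtain ⟨m, hm⟩ := exists_pow_eq_self_of_coprime (x := b) (n := n)
      (Nat.Coprime.coprime_dvd_right (orderOf_dvd_of_pow_eq_one (congrArg Subtype.val hj)) (hnp.pow_right j))
    have hw : b ^ m ∈ Z ⊓ (Subgroup.center (G ⧸ N)).comap π :=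
      pow_mem (show b ∈ Z ⊓ (Subgroup.center (G ⧸ N)).comap π from ⟨hbZ, hbc⟩) m
    rw [show a = b ^ m * ((b ^ m)⁻¹ * a) by group]
    refine mul_mem (Subgroup.mem_sup_left hw) (Subgroup.mem_sup_right ?_)
    refine ⟨⟨b ^ m, hw.1⟩⁻¹ * ⟨a, ha⟩, ?_, rfl⟩
    show τ _ = 1
    rw [map_mul, map_inv, inv_mul_eq_one]
    apply Subtype.ext
    rw [hτW _ hw.2, ← hb, ← map_pow]
    exact congrArg π (by rw [← pow_mul, mul_comm, pow_mul, hm])

end Cfsg.Agent.S1944
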