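import Cfsg.Statements.S1945
import Cfsg.Agent.Lib.FusionSystem.GlaubermanFusion
import Cfsg.Agent.Lib.Fusion.PSolvable
import Cfsg.Agent.Lib.Components.PComponents

set_option autoImplicit false
open Cfsg
open CfsgLib.LocalEven.SylowIn

namespace Cfsg.Agent.S1945

open Finset in
/-- The norm over `N/S` splits `Z(S) ∩ Z(N)` off `Z(S)`. -/
theorem split {G : Type*} [Group G] [Finite G] {p : ℕ} [Fact p.Prime] (S : Sylow p G) {N A : Subgroup G}
    (hSN : (S : Subgroup G) ≤ N) (hAn : N ≤ Subgroup.normalizer (A : Set G))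
    (hab : ∀ a ∈ A, ∀ b ∈ A, a * b = b * a) (hAp : IsPGroup p A)
    (hZA : (S : Subgroup G) ⊓ Subgroup.centralizer ((S : Subgroup G) : Set G) ≤ A) :
    ∃ K : Subgroup G, K ≤ (S : Subgroup G) ⊓ Subgroup.centralizer ((S : Subgroup G) : Set G) ∧
      K ⊓ Subgroup.centralizer (N : Set G) = ⊥ ∧
      (S : Subgroup G) ⊓ Subgroup.centralizer ((S : Subgroup G) : Set G) ≤
        ((S : Subgroup G) ⊓ Subgroup.centralizer ((S : Subgroup G) : Set G) ⊓ Subgroup.centralizer (N : Set G)) ⊔ K := by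
  classical
  set Z := (S : Subgroup G) ⊓ Subgroup.centralizer ((S : Subgroup G) : Set G) with hZ
  set W := Z ⊓ Subgroup.centralizer (N : Set G) with hW
  letI : CommGroup ↥A := { (inferInstance : Group ↥A) with mul_comm := fun a b => Subtype.ext (hab a a.2 b b.2) }
  set S' := (S : Subgroup G).subgroupOf N with hS'
  haveI : Fintype (↥N ⧸ S') := Fintype.ofFinite _
  let act : ↥N → ↥Z → ↥A := fun n z => ⟨n * z * (n : G)⁻¹,
    (Subgroup.mem_normalizer_iff.mp (hAn n.2) z).mp (hZA z.2)⟩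
  have hwd : ∀ (n : ↥N) (z : ↥Z), act (QuotientGroup.mk n : ↥N ⧸ S').out z = act n z := by
    intro n z
    obtain ⟨⟨s, hs⟩, e⟩ := QuotientGroup.mk_out_eq_mul S' n
    refine Subtype.ext ?_
    show ((QuotientGroup.mk n : ↥N ⧸ S').out : G) * z * (((QuotientGroup.mk n : ↥N ⧸ S').out : G))⁻¹ = n * z * (n : G)⁻¹
    rw [e]
    show (n * s : G) * z * (n * s : G)⁻¹ = n * z * (n : G)⁻¹
    have h := Subgroup.mem_centralizer_iff.mp z.2.2 (s : G) hs
    calc (n * s : G) * z * (n * s : G)⁻¹ = n * (s * z) * (s : G)⁻¹ * (n : G)⁻¹ := by group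
      _ = _ := by rw [h]; group
  let τ : ↥Z →* ↥A :=
    { toFun := fun z => ∏ q : ↥N ⧸ S', act q.out z
      map_one' := Finset.prod_eq_one fun q _ => Subtype.ext (by show _ * (1 : G) * _ = 1; group)
      map_mul' := fun a b => by
        rw [← Finset.prod_mul_distrib]
        refine Finset.prod_congr rfl fun q _ => Subtype.ext ?_
        show _ * ((a : G) * b) * _ = _ * (a : G) * _ * (_ * (b : G) * _)
        group }
  -- the image is central in `N`
  have hτN : ∀ z : ↥Z, (τ z : G) ∈ Subgroup.centralizer (N : Set G) := by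
    intro z
    refine Subgroup.mem_centralizer_iff.mpr fun g hg => ?_
    let c : ↥A →* ↥A :=
      { toFun := fun a => ⟨g * a * g⁻¹, (Subgroup.mem_normalizer_iff.mp (hAn hg) a).mp a.2⟩
        map_one' := Subtype.ext (by show g * (1 : G) * g⁻¹ = 1; group)
        map_mul' := fun a b => Subtype.ext (by show g * ((a : G) * b) * g⁻¹ = g * a * g⁻¹ * (g * b * g⁻¹); group) }
    have h1 : c (τ z) = τ z := by
      show c (∏ q : ↥N ⧸ S', act q.out z) = ∏ q : ↥N ⧸ S', act q.out z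
      rw [map_prod]
      refine Fintype.prod_equiv (MulAction.toPerm (⟨g, hg⟩ : ↥N)) _ _ fun q => ?_
      rw [MulAction.toPerm_apply]
      obtain ⟨n, rfl⟩ := QuotientGroup.mk_surjective q
      show c (act (QuotientGroup.mk n : ↥N ⧸ S').out z) = act (QuotientGroup.mk (⟨g, hg⟩ * n) : ↥N ⧸ S').out z
      rw [hwd, hwd]
      refine Subtype.ext ?_
      show g * ((n : G) * z * (n : G)⁻¹) * g⁻¹ = g * n * (z : G) * (g * n : G)⁻¹
      group
    have h2 : g * (τ z : G) * g⁻¹ = τ z := congrArg Subtype.val h1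
    exact mul_inv_eq_iff_eq_mul.mp h2
  have hAS : A ≤ (S : Subgroup G) := by
    have h := S.3 (S.2.to_sup_of_normal_right' hAp (hSN.trans hAn)) le_sup_left
    exact le_sup_right.trans h.le
  have hτW : ∀ z : ↥Z, (τ z : G) ∈ W := fun z =>
    ⟨⟨hAS (τ z).2, Subgroup.centralizer_le (show ((S : Subgroup G) : Set G) ⊆ (N : Set G) from hSN) (hτN z)⟩, hτN z⟩
  set m := Fintype.card (↥N ⧸ S') with hm
  have hτfix : ∀ z : ↥Z, (z : G) ∈ Subgroup.centralizer (N : Set G) → (τ z : G) = (z : G) ^ m := by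
    intro z hz
    have h1 : τ z = ⟨z, hZA z.2⟩ ^ m := by
      show ∏ q : ↥N ⧸ S', act q.out z = _
      rw [Finset.prod_congr rfl (fun q _ => show act q.out z = ⟨z, hZA z.2⟩ from Subtype.ext (by
        show (q.out : G) * z * (q.out : G)⁻¹ = z
        rw [Subgroup.mem_centralizer_iff.mp hz _ q.out.2, mul_inv_cancel_right])), Finset.prod_const, Finset.card_univ]
    rw [h1]; rfl
  have hmp : m.Coprime p := by
    have hdvd : m ∣ (S : Subgroup G).index := by
      rw [hm, ← Nat.card_eq_fintype_card, ← Subgroup.index_eq_card]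
      exact Subgroup.relIndex_dvd_index_of_le hSN
    exact (((Fact.out : p.Prime).coprime_iff_not_dvd.mpr S.not_dvd_index).symm).coprime_dvd_left hdvd
  obtain ⟨j, hj⟩ := (S.2.to_le ((inf_le_left : W ≤ Z).trans inf_le_left) : IsPGroup p W).exists_card_eq
  have hWm : (Nat.card W).Coprime m := by rw [hj]; exact hmp.symm.pow_left j
  refine ⟨τ.ker.map Z.subtype, Subgroup.map_subtype_le _, ?_, fun z hz => ?_⟩
  · rw [eq_bot_iff]
    rintro _ ⟨⟨z, hz, rfl⟩, hzN⟩
    have h1 := hτfix z hzN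
    rw [show τ z = 1 from hz] at h1
    have hzW : (z : G) ∈ W := ⟨z.2, hzN⟩
    have h2 : powCoprime hWm ⟨(z : G), hzW⟩ = powCoprime hWm 1 := Subtype.ext (by
      show (z : G) ^ m = ((1 : ↥W) ^ m : ↥W)
      rw [one_pow, ← h1]; rfl)
    exact congrArg Subtype.val ((powCoprime hWm).injective h2)
  · obtain ⟨⟨w, hw⟩, hwe⟩ := (powCoprime hWm).surjective ⟨_, hτW ⟨z, hz⟩⟩
    have he : w ^ m = (τ ⟨z, hz⟩ : G) := congrArg Subtype.val hwe
    have hk : (⟨w, hw.1⟩ : ↥Z)⁻¹ * ⟨z, hz⟩ ∈ τ.ker := by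
      rw [MonoidHom.mem_ker, map_mul, map_inv, inv_mul_eq_one]
      exact Subtype.ext ((hτfix ⟨w, hw.1⟩ hw.2).trans he)
    rw [show z = w * (w⁻¹ * z) by group]
    exact Subgroup.mul_mem_sup hw ⟨_, hk, rfl⟩

/-- Let S be a Sylow p-subgroup of the finite group G, and assume that p is odd or that G is solvable. The elements of S each of which is its only G-conjugate in S form a subgroup W of Z(S); W is then a direct factor of Z(S): there is a subgroup K of Z(S) with W ∩ K = 1 and WK = Z(S). (For p = 2 and G not solvable this can fail.) -/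
theorem result {G : Type*} [Group G] [Finite G] {p : ℕ} [Fact p.Prime] (S : Sylow p G) (h : p ≠ 2 ∨ Group.IsSolvable G) :
    ∃ W K : Subgroup G, (∀ x : G, x ∈ W ↔ (x ∈ (S : Subgroup G) ∧ ∀ g : G, g * x * g⁻¹ ∈ (S : Subgroup G) → g * x * g⁻¹ = x)) ∧
      K ≤ ((S : Subgroup G) ⊓ Subgroup.centralizer ((S : Subgroup G) : Set G)) ∧ W ⊓ K = ⊥ ∧ W ⊔ K = ((S : Subgroup G) ⊓ Subgroup.centralizer ((S : Subgroup G) : Set G)) := by
  classical
  set Z := (S : Subgroup G) ⊓ Subgroup.centralizer ((S : Subgroup G) : Set G) with hZ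
  have hcentral : ∀ x ∈ (S : Subgroup G), (∀ g : G, g * x * g⁻¹ ∈ (S : Subgroup G) → g * x * g⁻¹ = x) → x ∈ Z := by
    intro x hx hwc
    refine ⟨hx, Subgroup.mem_centralizer_iff.mpr fun g hg => mul_inv_eq_iff_eq_mul.mp (hwc g ?_)⟩
    exact Subgroup.mul_mem _ (Subgroup.mul_mem _ hg hx) (Subgroup.inv_mem _ hg)
  rcases h with hp | hsol
  · set J := Cfsg.thompsonSubgroupAOf (S : Subgroup G) with hJ
    set N := Subgroup.normalizer (J : Set G) with hN
    have hJS : J ≤ (S : Subgroup G) := Subgroup.map_subtype_le _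
    have hZJ : Z ≤ J := fun z hz => ⟨⟨z, hz.1⟩, CfsgLib.Fsys.center_le_jA (p := p) _ S.2
      (Subgroup.mem_center_iff.mpr fun s => Subtype.ext (Subgroup.mem_centralizer_iff.mp hz.2 s s.2)), rfl⟩
    have hSN : (S : Subgroup G) ≤ N :=
      Subgroup.le_normalizer.trans (CfsgLib.Fsys.ThompsonA.normalizer_le_thompsonA (S : Subgroup G))
    set A := J ⊓ Subgroup.centralizer (J : Set G) with hA
    obtain ⟨K, hKZ, hK1, hK2⟩ := split S (N := N) (A := A) hSN
      (le_normalizer_of_map_conj fun g hg => by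
        rw [hA, Subgroup.map_inf _ _ _ (MulAut.conj g).injective, ← centralizer_map_conj, map_conj_eq_iff.mpr hg])
      (fun a ha b hb => Subgroup.mem_centralizer_iff.mp hb.2 a ha.1)
      (S.2.to_le (inf_le_left.trans hJS))
      (le_inf hZJ (inf_le_right.trans (Subgroup.centralizer_le hJS)))
    refine ⟨Z ⊓ Subgroup.centralizer (N : Set G), K, fun x => ⟨fun hx => ⟨hx.1.1, ?_⟩, fun ⟨hx, hwc⟩ => ?_⟩,
      hKZ, ?_, le_antisymm (sup_le inf_le_left hKZ) hK2⟩
    · exact CfsgLib.Fsys.weakly_closed_of_center S hx.1.1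
        (fun g hg => Subgroup.mem_centralizer_iff.mp hx.2 g hg) (Or.inl hp)
    · refine ⟨hcentral x hx hwc, Subgroup.mem_centralizer_iff.mpr fun g hg => mul_inv_eq_iff_eq_mul.mp (hwc g ?_)⟩
      exact hJS ((Subgroup.mem_normalizer_iff.mp hg x).mp (hZJ (hcentral x hx hwc)))
    · rw [eq_bot_iff, ← hK1]
      exact fun x hx => ⟨hx.2, hx.1.2⟩
  · set O := Cfsg.pPrimeCore p G with hO
    haveI : Group.IsSolvable G := hsol
    set π := QuotientGroup.mk' O with hπ
    have hπs : Function.Surjective π := QuotientGroup.mk'_surjective O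
    have hOc : (Nat.card O).Coprime p := CfsgLib.Solvable.Cores.coprime_card_pPrimeCore p
    have hinj : ∀ a ∈ (S : Subgroup G), ∀ b ∈ (S : Subgroup G), π a = π b → a = b := by
      intro a ha b hb e
      have h1 : a⁻¹ * b ∈ (S : Subgroup G) ⊓ O := ⟨Subgroup.mul_mem _ (Subgroup.inv_mem _ ha) hb, QuotientGroup.eq.mp e⟩
      obtain ⟨k, hk⟩ := S.2.exists_card_eq
      have h2 : (S : Subgroup G) ⊓ O = ⊥ :=
        (Subgroup.disjoint_of_coprime_natCard (by rw [hk]; exact hOc.symm.pow_left k)).eq_bot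
      rw [h2, Subgroup.mem_bot, inv_mul_eq_one] at h1
      exact h1
    set T : Sylow p (G ⧸ O) := S.mapSurjective hπs with hT
    have hTcoe : (T : Subgroup (G ⧸ O)) = (S : Subgroup G).map π := Sylow.coe_mapSurjective ..
    have hZmap : (T : Subgroup (G ⧸ O)) ⊓ Subgroup.centralizer ((T : Subgroup (G ⧸ O)) : Set (G ⧸ O)) = Z.map π := by
      rw [hTcoe]
      refine le_antisymm ?_ ?_
      · rintro _ ⟨⟨s, hs, rfl⟩, hc⟩
        refine ⟨s, ⟨hs, Subgroup.mem_centralizer_iff.mpr fun t ht => hinj _ (Subgroup.mul_mem _ ht hs) _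
          (Subgroup.mul_mem _ hs ht) ?_⟩, rfl⟩
        rw [map_mul, map_mul]
        exact Subgroup.mem_centralizer_iff.mp hc (π t) ⟨t, ht, rfl⟩
      · rintro _ ⟨s, hs, rfl⟩
        refine ⟨⟨s, hs.1, rfl⟩, ?_⟩
        rintro _ ⟨t, ht, rfl⟩
        rw [← map_mul, ← map_mul, Subgroup.mem_centralizer_iff.mp hs.2 t ht]
    set P := Cfsg.pCore p (G ⧸ O) with hP
    have hPT : P ≤ (T : Subgroup (G ⧸ O)) := CfsgLib.Solvable.Cores.pCore_le_sylow T
    have hcP : Subgroup.centralizer (P : Set (G ⧸ O)) ≤ P :=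
      CfsgLib.Fusion.PSolvable.centralizer_pCore_le CfsgLib.Fusion.PSolvable.psolvable_of_solvable
        CfsgLib.Components.pPrimeCore_quotient_eq_bot
    obtain ⟨K, hKZ, hK1, hK2⟩ := split T (N := ⊤) (A := P ⊓ Subgroup.centralizer (P : Set (G ⧸ O))) le_top
      (le_normalizer_of_map_conj fun g _ => by
        have hg : g ∈ Subgroup.normalizer (P : Set (G ⧸ O)) := by rw [Subgroup.normalizer_eq_top]; trivial
        rw [Subgroup.map_inf _ _ _ (MulAut.conj g).injective, ← centralizer_map_conj, map_conj_eq_iff.mpr hg])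
      (fun a ha b hb => Subgroup.mem_centralizer_iff.mp hb.2 a ha.1)
      (T.2.to_le (inf_le_left.trans hPT))
      (le_inf ((inf_le_right.trans (Subgroup.centralizer_le hPT)).trans hcP) (inf_le_right.trans (Subgroup.centralizer_le hPT)))
    set W₀ := (Subgroup.centralizer ((⊤ : Subgroup (G ⧸ O)) : Set (G ⧸ O))).comap π ⊓ Z with hW₀
    refine ⟨W₀, K.comap π ⊓ Z, fun x => ⟨fun hx => ⟨hx.2.1, fun g hg => ?_⟩, fun ⟨hx, hwc⟩ => ?_⟩, inf_le_right,
      ?_, le_antisymm (sup_le inf_le_right inf_le_right) fun z hz => ?_⟩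
    · refine hinj _ hg _ hx.2.1 ?_
      rw [map_mul, map_mul, map_inv, Subgroup.mem_centralizer_iff.mp hx.1 (π g) trivial, mul_inv_cancel_right]
    · have hxZ := hcentral x hx hwc
      refine ⟨Subgroup.mem_centralizer_iff.mpr fun y _ => ?_, hxZ⟩
      obtain ⟨g, rfl⟩ := hπs y
      have hmem : π (g * x * g⁻¹) ∈ (T : Subgroup (G ⧸ O)) := by
        refine hPT ?_
        rw [map_mul, map_mul, map_inv]
        refine (inferInstance : P.Normal).conj_mem _ ?_ _
        exact hcP (Subgroup.centralizer_le hPT (hZmap.ge ⟨x, hxZ, rfl⟩).2)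
      rw [hTcoe] at hmem
      obtain ⟨s, hs, e⟩ := hmem
      -- `g x g⁻¹` lies in `S O`; conjugate it into `S`
      obtain ⟨o, ho, hoS⟩ : ∃ o ∈ O, o * (g * x * g⁻¹) * o⁻¹ ∈ (S : Subgroup G) := by
        set L := (S : Subgroup G) ⊔ O
        have hmemL : g * x * g⁻¹ ∈ L := by
          rw [show g * x * g⁻¹ = s * (s⁻¹ * (g * x * g⁻¹)) by group]
          exact Subgroup.mul_mem_sup hs (QuotientGroup.eq.mp e)
        have hSL : IsSylowIn p (S : Subgroup G) L := ⟨le_sup_left, S.2, fun _ _ hUp hle => S.3 hUp hle⟩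
        have hp' : IsPGroup p (Subgroup.zpowers (g * x * g⁻¹)) := by
          have := (S.2.to_le (Subgroup.zpowers_le.mpr hx)).map (MulAut.conj g).toMonoidHom
          rwa [MonoidHom.map_zpowers] at this
        obtain ⟨U, hU, hxU⟩ := exists_isSylowIn L (Subgroup.zpowers_le.mpr hmemL) hp'
        obtain ⟨l, hl, el⟩ := hU.conjugate hSL
        rw [← SetLike.mem_coe, Subgroup.mul_normal] at hl
        obtain ⟨a, ha, o, ho, rfl⟩ := hl
        refine ⟨o, ho, ?_⟩
        have h1 : a * o * (g * x * g⁻¹) * (a * o)⁻¹ ∈ (S : Subgroup G) := by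
          rw [el]; exact ⟨_, hxU (Subgroup.mem_zpowers _), rfl⟩
        have h2 := Subgroup.mul_mem _ (Subgroup.mul_mem _ (Subgroup.inv_mem _ ha) h1) ha
        rwa [show a⁻¹ * (a * o * (g * x * g⁻¹) * (a * o)⁻¹) * a = o * (g * x * g⁻¹) * o⁻¹ by group] at h2
      have h3 := hwc (o * g) (by rwa [show o * g * x * (o * g)⁻¹ = o * (g * x * g⁻¹) * o⁻¹ by group])
      have h4 := congrArg π h3
      rw [show π (o * g * x * (o * g)⁻¹) = π g * π x * (π g)⁻¹ by
        simp [map_mul, show π o = 1 from (QuotientGroup.eq_one_iff o).mpr ho]] at h4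
      exact mul_inv_eq_iff_eq_mul.mp h4
    · rw [eq_bot_iff]
      rintro x ⟨⟨hx1, hxZ⟩, hx2, -⟩
      have h1 : π x ∈ (⊥ : Subgroup (G ⧸ O)) := hK1 ▸ ⟨hx2, hx1⟩
      exact Subgroup.mem_bot.mpr (hinj x hxZ.1 1 (one_mem _) (by rw [map_one]; exact Subgroup.mem_bot.mp h1))
    · have h1 : π z ∈ _ := hK2 (hZmap.ge ⟨z, hz, rfl⟩)
      have hsup : (W₀ ⊔ (K.comap π ⊓ Z)).map π = ((T : Subgroup (G ⧸ O)) ⊓ Subgroup.centralizer ((T : Subgroup (G ⧸ O)) : Set (G ⧸ O)) ⊓
            Subgroup.centralizer ((⊤ : Subgroup (G ⧸ O)) : Set (G ⧸ O))) ⊔ K := by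
        rw [Subgroup.map_sup]
        congr 1
        · refine le_antisymm ?_ ?_
          · rintro _ ⟨x, ⟨hx1, hx2⟩, rfl⟩
            exact ⟨hZmap.ge ⟨x, hx2, rfl⟩, hx1⟩
          · rintro y ⟨hy1, hy2⟩
            obtain ⟨x, hx, rfl⟩ := hZmap.le hy1
            exact ⟨x, ⟨hy2, hx⟩, rfl⟩
        · refine le_antisymm ?_ fun y hy => ?_
          · rintro _ ⟨x, ⟨hx1, -⟩, rfl⟩
            exact hx1
          · obtain ⟨x, hx, rfl⟩ := hZmap.le (hKZ hy)
            exact ⟨x, ⟨hy, hx⟩, rfl⟩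
      obtain ⟨y, hy, e⟩ := hsup.ge h1
      rw [← hinj y ((sup_le inf_le_right inf_le_right : W₀ ⊔ (K.comap π ⊓ Z) ≤ Z) hy).1 z hz.1 e]
      exact hy

end Cfsg.Agent.S1945
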