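import Cfsg.Statements.S1946
import Mathlib
import Cfsg.Agent.S0071
import Cfsg.Agent.Lib.KGroups.OmegaFaithful

set_option autoImplicit false
open Cfsg

namespace Cfsg.Agent.S1946

/-- Let P be a Sylow p-subgroup of the finite group G. Then G has a normal p-complement if and only if P controls the fusion of its elements of order dividing p (dividing 4 when p = 2): whenever such an element a of P has a G-conjugate g a g⁻¹ in P, that conjugate is already x a x⁻¹ for some x in P. -/
theorem result {G : Type*} [Group G] [Finite G] {p : ℕ} [Fact p.Prime] (P : Sylow p G) :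
    Cfsg.HasNormalPComplement p G ↔
      ∀ a ∈ (P : Subgroup G), (a ^ p = 1 ∨ (p = 2 ∧ a ^ 4 = 1)) → ∀ g : G, g * a * g⁻¹ ∈ (P : Subgroup G) →
        ∃ x ∈ (P : Subgroup G), g * a * g⁻¹ = x * a * x⁻¹ := by
  constructor
  · rintro ⟨P₀, N, hN, hc⟩ a ha - g hga
    have hcard : Nat.card P₀ = Nat.card P := Nat.card_congr (Sylow.equiv P₀ P).toEquiv
    have hcP : N.IsComplement' (P : Subgroup G) := by
      refine Subgroup.isComplement'_of_card_mul_and_disjoint (by rw [← hcard]; exact hc.card_mul) ?_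
      refine Subgroup.disjoint_def.mpr fun {x} hxN hxP => ?_
      obtain ⟨k, hk⟩ := P.2 ⟨x, hxP⟩
      have h1 : x ^ p ^ k = 1 := congrArg Subtype.val hk
      have h2 : (orderOf x).Coprime p := by
        refine Nat.Coprime.coprime_dvd_left ?_ (Nat.coprime_comm.mp ((Fact.out : p.Prime).coprime_iff_not_dvd.mpr ?_) : (Nat.card N).Coprime p)
        · exact Subgroup.orderOf_mk x hxN ▸ orderOf_dvd_natCard (⟨x, hxN⟩ : N)
        · rw [← hc.index_eq_card]; exact P₀.not_dvd_index
      exact orderOf_eq_one_iff.mp (Nat.eq_one_of_dvd_coprimes (Nat.Coprime.pow_right k h2) dvd_rfl (orderOf_dvd_of_pow_eq_one h1))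
    obtain ⟨⟨n, x⟩, hnx⟩ := (Subgroup.isComplement'_def.mp hcP.symm).2 g
    refine ⟨n, n.2, ?_⟩
    have hm : (x : G) * a * (x : G)⁻¹ = a := by
      have h1 : (x : G) * a * (x : G)⁻¹ ∈ (P : Subgroup G) := by
        have := mul_mem (mul_mem (inv_mem n.2) hga) n.2
        rw [← hnx] at this
        simpa [mul_assoc] using this
      have h2 : (x : G) * a * (x : G)⁻¹ * a⁻¹ ∈ N := by
        rw [mul_assoc (x : G), mul_assoc (x : G)]
        exact mul_mem x.2 (hN.conj_mem _ (inv_mem x.2) a)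
      exact mul_inv_eq_one.mp (Subgroup.disjoint_def.mp hcP.disjoint h2 (mul_mem h1 (inv_mem ha)))
    rw [← hnx]
    calc (n : G) * x * a * ((n : G) * x)⁻¹ = n * ((x : G) * a * (x : G)⁻¹) * (n : G)⁻¹ := by group
      _ = _ := by rw [hm]
  · intro h
    obtain ⟨N, hN, hc⟩ := (Cfsg.Agent.S0071.result P).mpr fun R hRP g hg hgo => by
      by_contra hgC
      obtain ⟨Q, hQR, hgQ, hgnQ, hsmall⟩ :=
        CfsgLib.KGroups.OmegaFaithful.exists_small (P.2.to_le hRP) hgo hg hgC
      have hQP : Q ≤ (P : Subgroup G) := hQR.trans hRP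
      haveI := P.2.isNilpotent
      obtain ⟨n, hn⟩ := Group.IsNilpotent.nilpotent' (G := ↥(P : Subgroup G))
      have key : ∀ i : ℕ, ∀ a ∈ Q, a ∈ (Subgroup.upperCentralSeries ↥(P : Subgroup G) i).map (P : Subgroup G).subtype →
          g * a * g⁻¹ = a := by
        intro i
        induction i with
        | zero =>
          intro a _ ha
          rw [Subgroup.upperCentralSeries_zero, Subgroup.map_bot, Subgroup.mem_bot] at ha
          simp [ha]
        | succ i ih =>
          rintro _ haQ ⟨⟨a, haP⟩, ha, rfl⟩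
          have haQ : a ∈ Q := haQ
          have hgaQ : g * a * g⁻¹ ∈ Q := (Subgroup.mem_normalizer_iff.mp hgQ a).mp haQ
          obtain ⟨x, hx, hxe⟩ := h a haP (hsmall a haQ) g (hQP hgaQ)
          refine CfsgLib.KGroups.OmegaFaithful.fix_of_coset
            (C := Q ⊓ (Subgroup.upperCentralSeries ↥(P : Subgroup G) i).map (P : Subgroup G).subtype)
            (P.2.to_le (inf_le_left.trans hQP)) hgo (fun c hc => ih c hc.1 hc.2) ?_
          refine ⟨Q.mul_mem (Q.inv_mem haQ) hgaQ, ?_⟩
          have h3 := Subgroup.mem_upperCentralSeries_succ_iff.mp (inv_mem ha) ⟨x, hx⟩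
          refine ⟨_, h3, ?_⟩
          show a⁻¹ * x * a⁻¹⁻¹ * x⁻¹ = a⁻¹ * (g * a * g⁻¹)
          rw [hxe, inv_inv]; group
      refine hgnQ (Subgroup.mem_centralizer_iff.mpr fun a ha => ?_)
      exact (mul_inv_eq_iff_eq_mul.mp (key n a ha ⟨⟨a, hQP ha⟩, hn ▸ Subgroup.mem_top _, rfl⟩)).symm
    exact ⟨P, N, hN, hc⟩

end Cfsg.Agent.S1946
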