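import Cfsg.Statements.S1947
import Mathlib
import Cfsg.Agent.S0071
import Cfsg.Agent.Lib.KGroups.OmegaFaithful

set_option autoImplicit false
open Cfsg

namespace Cfsg.Agent.S1947

/-- Let G be a finite group and p a prime. If every element of G of order dividing p (dividing 4 when p = 2) lies in some fixed term Z_n(G) of the upper central series, then G has a normal p-complement. -/
theorem result {G : Type*} [Group G] [Finite G] {p : ℕ} [Fact p.Prime] (n : ℕ)
    (h : ∀ a : G, (a ^ p = 1 ∨ (p = 2 ∧ a ^ 4 = 1)) → a ∈ Subgroup.upperCentralSeries G n) : Cfsg.HasNormalPComplement p G := by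
  obtain ⟨P⟩ := (inferInstance : Nonempty (Sylow p G))
  obtain ⟨N, hN, hc⟩ := (Cfsg.Agent.S0071.result P).mpr fun R hRP g hg hgo => by
    by_contra hgC
    obtain ⟨Q, hQR, hgQ, hgnQ, hsmall⟩ :=
      CfsgLib.KGroups.OmegaFaithful.exists_small (P.2.to_le hRP) hgo hg hgC
    have key : ∀ i : ℕ, ∀ a ∈ Q, a ∈ Subgroup.upperCentralSeries G i → g * a * g⁻¹ = a := by
      intro i
      induction i with
      | zero =>
        intro a _ ha
        rw [Subgroup.upperCentralSeries_zero, Subgroup.mem_bot] at ha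
        simp [ha]
      | succ i ih =>
        intro a haQ ha
        have hgaQ : g * a * g⁻¹ ∈ Q := (Subgroup.mem_normalizer_iff.mp hgQ a).mp haQ
        refine CfsgLib.KGroups.OmegaFaithful.fix_of_coset (C := Q ⊓ Subgroup.upperCentralSeries G i)
          ((P.2.to_le hRP).to_le (inf_le_left.trans hQR)) hgo (fun c hc => ih c hc.1 hc.2) ?_
        refine ⟨Q.mul_mem (Q.inv_mem haQ) hgaQ, ?_⟩
        have h3 := Subgroup.mem_upperCentralSeries_succ_iff.mp (inv_mem ha) g
        rwa [commutatorElement_def, inv_inv, show a⁻¹ * g * a * g⁻¹ = a⁻¹ * (g * a * g⁻¹) by group] at h3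
    refine hgnQ (Subgroup.mem_centralizer_iff.mpr fun a ha => ?_)
    exact (mul_inv_eq_iff_eq_mul.mp (key n a ha (h a (hsmall a ha)))).symm
  exact ⟨P, N, hN, hc⟩

end Cfsg.Agent.S1947
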