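import Cfsg.Statements.S1948
import Cfsg.Agent.Lib.KGroups.Functor.Reduce
import Cfsg.Agent.Lib.Components.Constrained
-- import your own Cfsg.Agent.* helpers here

set_option autoImplicit false
open Cfsg

namespace Cfsg.Agent.S1948

/-- Let S be a Sylow p-subgroup of the finite group G. Then G = N_G(S)·O_{p'}(G) if and only if G is p-constrained and N_G(S) controls fusion in S, in the sense that whenever a subgroup Q of S has a conjugate g Q g⁻¹ inside S, the element g is a product n c with n normalizing S and c centralizing Q. -/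
theorem result {G : Type*} [Group G] [Finite G] {p : ℕ} [Fact p.Prime] (S : Sylow p G) :
    Subgroup.normalizer ((S : Subgroup G) : Set G) ⊔ Cfsg.pPrimeCore p G = ⊤ ↔
      (Cfsg.IsPConstrained p G ∧
        ∀ Q : Subgroup G, Q ≤ (S : Subgroup G) → ∀ g : G, Q.map (MulAut.conj g).toMonoidHom ≤ (S : Subgroup G) →
          ∃ n ∈ Subgroup.normalizer ((S : Subgroup G) : Set G), ∃ c ∈ Subgroup.centralizer (Q : Set G), g = n * c) := by
  open CfsgLib.KGroups CfsgLib.KGroups.Functor CfsgLib.Solvable in
  set N := Cfsg.pPrimeCore p G with hN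
  haveI hNn : N.Normal := Cores.pPrimeCore_normal p
  have hNc : (Nat.card N).Coprime p := Cores.coprime_card_pPrimeCore p
  set π := QuotientGroup.mk' N with hπ
  have hπs := QuotientGroup.mk'_surjective N
  have hker : (Nat.card π.ker).Coprime p := by rwa [hπ, QuotientGroup.ker_mk']
  set S' := S.mapSurjective (f := π) hπs with hS'
  set T := Cfsg.pCore p (G ⧸ N) with hT
  haveI hTn : T.Normal := CfsgLib.LocalEven.SylowIn.pCore_normal _ p
  have hbot : Cfsg.pPrimeCore p (G ⧸ N) = ⊥ := CfsgLib.Components.pPrimeCore_quotient_eq_bot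
  have hcrit : Cfsg.IsPConstrained p G ↔ Subgroup.centralizer (T : Set (G ⧸ N)) ≤ T := by
    rw [CfsgLib.Components.isPConstrained_iff, CfsgLib.Components.pLayer_eq_bot_iff,
      ← CfsgLib.Components.centralizer_pCore_le_iff_layer hbot]
  have hinj := injOn_sylow π hker S.2
  constructor
  · intro htop
    refine ⟨hcrit.mpr ?_, fun Q hQ g hg => ?_⟩
    · haveI hn : (S' : Subgroup (G ⧸ N)).Normal := by
        rw [← Subgroup.normalizer_eq_top_iff, eq_top_iff, ← Subgroup.map_top_of_surjective π hπs, ← htop,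
          Subgroup.map_sup, show N.map π = ⊥ from QuotientGroup.map_mk'_self N, sup_bot_eq]
        exact Subgroup.le_normalizer_map π
      exact isPGroup_centralizer_of_inf_le S' hbot (inf_le_left.trans (Cores.le_pCore S'.2))
    · have hmem : g ∈ ((Subgroup.normalizer ((S : Subgroup G) : Set G) ⊔ N : Subgroup G) : Set G) := by
        rw [htop]; trivial
      rw [Subgroup.mul_normal] at hmem
      obtain ⟨n, hn, m, hm, rfl⟩ := hmem
      refine ⟨n, hn, m, Subgroup.mem_centralizer_iff.mpr fun q hq => ?_, rfl⟩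
      have hq' : n * m * q * (n * m)⁻¹ ∈ (S : Subgroup G) := hg (conjG_mem hq)
      have h1 : m * q * m⁻¹ ∈ (S : Subgroup G) := by
        refine (Subgroup.mem_normalizer_iff.mp hn (m * q * m⁻¹)).mpr ?_
        convert hq' using 1
        group
      have h2 : m * q * m⁻¹ = q := hinj h1 (hQ hq) (by
        rw [map_mul, map_mul, map_inv, show π m = 1 from (QuotientGroup.eq_one_iff m).mpr hm]
        group)
      exact (mul_inv_eq_iff_eq_mul.mp h2).symm
  · rintro ⟨hc, hf⟩
    rw [eq_top_iff]
    intro g _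
    set R := (S : Subgroup G) ⊓ T.comap π with hR
    have hRT : R.map π = T := le_antisymm (Subgroup.map_le_iff_le_comap.mpr inf_le_right) fun t ht => by
      obtain ⟨s, hs, rfl⟩ := Cores.pCore_le_sylow S' ht
      exact ⟨s, ⟨hs, ht⟩, rfl⟩
    obtain ⟨g', hg', hgg'⟩ := exists_normalizer_lift π hπs hker (S.2.to_le (inf_le_left : R ≤ _)) (x := π g)
      (by rw [hRT, Subgroup.normalizer_eq_top]; trivial)
    obtain ⟨n, hn, c, hc', he⟩ := hf R inf_le_left g' (by
      rintro _ ⟨r, hr, rfl⟩
      exact ((Subgroup.mem_normalizer_iff.mp hg' r).mp hr).1)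
    have hcT : π c ∈ T := by
      refine hcrit.mp hc (Subgroup.mem_centralizer_iff.mpr ?_)
      rw [← hRT]
      rintro _ ⟨r, hr, rfl⟩
      rw [← map_mul, ← map_mul, Subgroup.mem_centralizer_iff.mp hc' r hr]
    obtain ⟨s, hs, hsc⟩ := Cores.pCore_le_sylow S' hcT
    have h1 : π g = π (n * s) := by
      rw [← hgg', he, map_mul, map_mul, show π s = π c from hsc]
    have h2 : (n * s)⁻¹ * g ∈ N := (QuotientGroup.eq_one_iff _).mp (by
      show π ((n * s)⁻¹ * g) = 1
      rw [map_mul, map_inv, h1, inv_mul_cancel])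
    rw [show g = (n * s) * ((n * s)⁻¹ * g) by group]
    exact Subgroup.mul_mem_sup (mul_mem hn (Subgroup.le_normalizer hs)) h2

end Cfsg.Agent.S1948
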