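import Cfsg.Statements.S1949
import Cfsg.Agent.Lib.PGroup.CoprimeFix
import Cfsg.Agent.Lib.Fusion.Basic
import Cfsg.Agent.Lib.Solvable.FrattiniFitting

set_option autoImplicit false
open Cfsg

namespace Cfsg.Agent.S1949

open CfsgLib.PGroup.CoprimeFix
open scoped commutatorElement

variable {P : Type*} [Group P] [Finite P] {p : ℕ} [Fact p.Prime]

/-- A coprime automorphism moving `x` by a fixed element fixes `x`. -/
theorem fix_aut (hP : IsPGroup p P) {a : MulAut P} (ha : (orderOf a).Coprime p) {x : P}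
    (h : a (x⁻¹ * a x) = x⁻¹ * a x) : a x = x := by
  set w := x⁻¹ * a x with hw
  have hax : a x = x * w := by rw [hw, mul_inv_cancel_left]
  have hit : ∀ j : ℕ, (a ^ j) x = x * w ^ j := by
    intro j
    induction j with
    | zero => simp
    | succ j ih => rw [pow_succ', MulAut.mul_apply, ih, map_mul, map_pow, h, hax, mul_assoc, ← pow_succ']
  have h1 := hit (orderOf a)
  rw [pow_orderOf_eq_one, MulAut.one_apply, left_eq_mul] at h1
  obtain ⟨k, hk⟩ := hP w
  have : w = 1 := orderOf_eq_one_iff.mp (Nat.eq_one_of_dvd_coprimes (Nat.Coprime.pow_right k ha)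
    (orderOf_dvd_of_pow_eq_one h1) (orderOf_dvd_of_pow_eq_one hk))
  rw [hax, this, mul_one]

/-- Let P be a finite p-group and G a group of automorphisms of P containing the inner automorphisms. Then there is a G-invariant subgroup D of P, contained in the subgroup generated by the elements x⁻¹α(x) with x in P and α in O^p(G), of exponent dividing p when p is odd and dividing 4 when p = 2, with [D, P] ≤ Z(D), such that every automorphism in G of order prime to p that fixes D elementwise is the identity; moreover every maximal abelian subgroup A of D is normal in P and every automorphism in G fixing A elementwise has p-power order. -/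
theorem result {P : Type*} [Group P] [Finite P] {p : ℕ} [Fact p.Prime] (hP : IsPGroup p P)
    (G : Subgroup (MulAut P)) (hG : Cfsg.Inn P ≤ G) :
    ∃ D : Subgroup P,
      (∀ α ∈ G, D.map α.toMonoidHom = D) ∧
      D ≤ Subgroup.closure {y : P | ∃ α ∈ Cfsg.pResidual p ↥G, ∃ x : P, y = x⁻¹ * (α : MulAut P) x} ∧
      (∀ d ∈ D, d ^ p = 1 ∨ (p = 2 ∧ d ^ 4 = 1)) ∧
      ⁅D, (⊤ : Subgroup P)⁆ ≤ D ⊓ Subgroup.centralizer (D : Set P) ∧
      (∀ α ∈ G, (orderOf α).Coprime p → (∀ d ∈ D, α d = d) → α = 1) ∧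
      ∀ A : Subgroup P, A ≤ D → IsMulCommutative ↥A →
        (∀ B : Subgroup P, A ≤ B → B ≤ D → IsMulCommutative ↥B → B = A) →
        A.Normal ∧ ∀ α ∈ G, (∀ a ∈ A, α a = a) → ∃ k : ℕ, orderOf α = p ^ k := by
  classical
  have hinn : ∀ g : P, MulAut.conj g ∈ G := fun g => hG ⟨g, rfl⟩
  have hnorm : ∀ K : Subgroup P, (∀ α ∈ G, ∀ k ∈ K, α k ∈ K) → K.Normal := fun K hK =>
    ⟨fun k hk g => hK _ (hinn g) k hk⟩
  -- the commutator with the elements of order prime to `p`
  set S := {y : P | ∃ α ∈ G, (orderOf α).Coprime p ∧ ∃ x : P, y = x⁻¹ * α x} with hS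
  set L := Subgroup.closure S with hL
  have hLinv : ∀ α ∈ G, ∀ k ∈ L, α k ∈ L := by
    intro γ hγ
    have hle : L ≤ L.comap γ.toMonoidHom := by
      rw [hL, Subgroup.closure_le]
      rintro _ ⟨α, hα, hco, x, rfl⟩
      refine Subgroup.subset_closure ⟨γ * α * γ⁻¹, mul_mem (mul_mem hγ hα) (inv_mem hγ), ?_, γ x, ?_⟩
      · rw [← MulAut.conj_apply γ α, MulEquiv.orderOf_eq]
        exact hco
      · show γ (x⁻¹ * α x) = (γ x)⁻¹ * γ (α (γ⁻¹ (γ x)))
        rw [MulAut.inv_apply_self, map_mul, map_inv]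
    exact fun k hk => hle hk
  have hLmem : ∀ α ∈ G, (orderOf α).Coprime p → ∀ x : P, x⁻¹ * α x ∈ L := fun α hα hco x =>
    Subgroup.subset_closure ⟨α, hα, hco, x, rfl⟩
  -- a maximal invariant abelian subgroup of `L`
  obtain ⟨Z, ⟨hZinv, hZab, hZL⟩, hZmax⟩ := Set.Finite.exists_maximal
    (Set.toFinite {K : Subgroup P | (∀ α ∈ G, ∀ k ∈ K, α k ∈ K) ∧ (∀ a ∈ K, ∀ b ∈ K, Commute a b) ∧ K ≤ L})
    ⟨⊥, fun α _ k hk => by rw [Subgroup.mem_bot] at hk ⊢; rw [hk, map_one],
      fun a ha b _ => by rw [Subgroup.mem_bot.mp ha]; exact Commute.one_left b, bot_le⟩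
  haveI hZn : Z.Normal := hnorm Z hZinv
  set π := QuotientGroup.mk' Z with hπ
  let C : Subgroup P :=
    { carrier := {x | x ∈ L ∧ x ∈ Subgroup.centralizer (Z : Set P) ∧ π x ∈ Subgroup.center (P ⧸ Z) ∧ π x ^ p = 1}
      one_mem' := ⟨one_mem _, one_mem _, by rw [map_one]; exact one_mem _, by rw [map_one, one_pow]⟩
      mul_mem' := fun {a b} ha hb => ⟨mul_mem ha.1 hb.1, mul_mem ha.2.1 hb.2.1,
        by rw [map_mul]; exact mul_mem ha.2.2.1 hb.2.2.1,
        by rw [map_mul, Commute.mul_pow (Subgroup.mem_center_iff.mp hb.2.2.1 _), ha.2.2.2, hb.2.2.2, one_mul]⟩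
      inv_mem' := fun {a} ha => ⟨inv_mem ha.1, inv_mem ha.2.1,
        by rw [map_inv]; exact inv_mem ha.2.2.1, by rw [map_inv, inv_pow, ha.2.2.2, inv_one]⟩ }
  have hCL : C ≤ L := fun x hx => hx.1
  have hZC : Z ≤ C := fun z hz => by
    have h1 : π z = 1 := (QuotientGroup.eq_one_iff z).mpr hz
    exact ⟨hZL hz, Subgroup.mem_centralizer_iff.mpr fun b hb => (hZab b hb z hz).eq,
      by rw [h1]; exact one_mem _, by rw [h1, one_pow]⟩
  have hcomZ : ∀ x ∈ C, ∀ g : P, ⁅x, g⁆ ∈ Z := fun x hx g => by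
    rw [← QuotientGroup.eq_one_iff, ← QuotientGroup.mk'_apply, map_commutatorElement,
      commutatorElement_eq_one_iff_mul_comm]
    exact (Subgroup.mem_center_iff.mp hx.2.2.1 _).symm
  have hpowZ : ∀ x ∈ C, x ^ p ∈ Z := fun x hx => by
    rw [← QuotientGroup.eq_one_iff, ← QuotientGroup.mk'_apply, map_pow]
    exact hx.2.2.2
  have hZc : ∀ z ∈ Z, ∀ x ∈ C, Commute z x := fun z hz x hx =>
    Subgroup.mem_centralizer_iff.mp hx.2.1 z hz
  have hCinv : ∀ α ∈ G, ∀ k ∈ C, α k ∈ C := by
    intro α hα k hk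
    refine ⟨hLinv α hα k hk.1, Subgroup.mem_centralizer_iff.mpr fun z hz => ?_, ?_, ?_⟩
    · have hz' : α⁻¹ z ∈ Z := hZinv _ (inv_mem hα) z hz
      have := congrArg α (hZc _ hz' k hk).eq
      rwa [map_mul, map_mul, MulAut.apply_inv_self] at this
    · rw [Subgroup.mem_center_iff]
      intro g
      obtain ⟨g, rfl⟩ := QuotientGroup.mk'_surjective Z g
      refine (commutatorElement_eq_one_iff_mul_comm.mp ?_).symm
      rw [← map_commutatorElement, QuotientGroup.mk'_apply, QuotientGroup.eq_one_iff]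
      have := hZinv α hα _ (hcomZ k hk (α⁻¹ g))
      rwa [map_commutatorElement, MulAut.apply_inv_self] at this
    · rw [← map_pow, QuotientGroup.mk'_apply, QuotientGroup.eq_one_iff, ← map_pow]
      exact hZinv α hα _ (hpowZ k hk)
  have hC : ClassTwo p C := ⟨fun u hu v _ w hw => hZc _ (hcomZ u hu v) w hw,
    fun u hu w hw => hZc _ (hpowZ u hu) w hw⟩
  -- `C` contains its centralizer in `L`
  have hCC : L ⊓ Subgroup.centralizer (C : Set P) ≤ C := by
    set K := L ⊓ Subgroup.centralizer (C : Set P) with hK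
    by_contra hne
    have hKD : ¬ K ≤ Z := fun h => hne (h.trans hZC)
    have hKinv : ∀ α ∈ G, ∀ k ∈ K, α k ∈ K := by
      intro α hα k hk
      refine ⟨hLinv α hα k hk.1, Subgroup.mem_centralizer_iff.mpr fun c hc => ?_⟩
      have := congrArg α (Subgroup.mem_centralizer_iff.mp hk.2 _ (hCinv _ (inv_mem hα) c hc))
      rwa [map_mul, map_mul, MulAut.apply_inv_self] at this
    haveI : K.Normal := hnorm K hKinv
    haveI hKn : (K.map π).Normal := Subgroup.Normal.map inferInstance π (QuotientGroup.mk'_surjective Z)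
    have hPD : IsPGroup p (P ⧸ Z) := hP.to_quotient Z
    haveI := hPD.isNilpotent
    have hne' : K.map π ⊓ Subgroup.center (P ⧸ Z) ≠ ⊥ :=
      CfsgLib.Solvable.FrattiniFitting.inf_center_ne_bot _ (by
        rw [Ne, Subgroup.map_eq_bot_iff, QuotientGroup.ker_mk']; exact hKD)
    haveI : Nontrivial (K.map π ⊓ Subgroup.center (P ⧸ Z) : Subgroup (P ⧸ Z)) :=
      (Subgroup.nontrivial_iff_ne_bot _).mpr hne'
    obtain ⟨n, hn, hcard⟩ :=
      (hPD.to_subgroup (K.map π ⊓ Subgroup.center (P ⧸ Z))).nontrivial_iff_card.mp inferInstance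
    obtain ⟨⟨z, hzK, hzc⟩, hz⟩ :=
      exists_prime_orderOf_dvd_card' (G := (K.map π ⊓ Subgroup.center (P ⧸ Z) : Subgroup (P ⧸ Z))) p
        (by rw [hcard]; exact dvd_pow_self p hn.ne')
    rw [← Subgroup.orderOf_coe] at hz
    simp only at hz
    obtain ⟨x, hx, rfl⟩ := hzK
    have hxC : x ∈ C := ⟨hx.1, Subgroup.centralizer_le (SetLike.coe_subset_coe.mpr hZC) hx.2, hzc,
      by rw [← hz, pow_orderOf_eq_one]⟩
    have hle : Z ≤ C ⊓ Subgroup.centralizer (C : Set P) :=
      le_inf hZC fun z hz => Subgroup.mem_centralizer_iff.mpr fun c hc => (hZc z hz c hc).symm.eq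
    have hZeq : C ⊓ Subgroup.centralizer (C : Set P) ≤ Z := by
      refine hZmax (y := C ⊓ Subgroup.centralizer (C : Set P)) ⟨fun α hα k hk => ⟨hCinv α hα k hk.1, ?_⟩,
        fun a ha b hb => Subgroup.mem_centralizer_iff.mp hb.2 a ha.1, inf_le_left.trans hCL⟩ hle
      refine Subgroup.mem_centralizer_iff.mpr fun c hc => ?_
      have := congrArg α (Subgroup.mem_centralizer_iff.mp hk.2 _ (hCinv _ (inv_mem hα) c hc))
      rwa [map_mul, map_mul, MulAut.apply_inv_self] at this
    have : π x = 1 := (QuotientGroup.eq_one_iff _).mpr (hZeq ⟨hxC, hx.2⟩)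
    rw [this, orderOf_one] at hz
    exact (Fact.out : p.Prime).ne_one hz.symm
  -- the small elements
  set D := hC.small with hD
  have hDC : D ≤ C := fun x hx => hx.1
  have hDinv : ∀ α ∈ G, ∀ k ∈ D, α k ∈ D := fun α hα k hk =>
    ⟨hCinv α hα k hk.1, by rw [← map_pow, hk.2, map_one]⟩
  haveI hDn : D.Normal := hnorm D hDinv
  have hfaith : ∀ α ∈ G, (orderOf α).Coprime p → (∀ d ∈ D, α d = d) → α = 1 := by
    intro α hα hco hfix
    let f : G →* MulAut C :=
      { toFun := fun β =>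
          { toFun := fun c => ⟨(β : MulAut P) c, hCinv _ β.2 _ c.2⟩
            invFun := fun c => ⟨((β : MulAut P))⁻¹ c, hCinv _ (inv_mem β.2) _ c.2⟩
            left_inv := fun c => Subtype.ext (MulAut.inv_apply_self _ _ _)
            right_inv := fun c => Subtype.ext (MulAut.apply_inv_self _ _ _)
            map_mul' := fun a b => Subtype.ext (map_mul (β : MulAut P) _ _) }
        map_one' := by ext c; rfl
        map_mul' := fun a b => by ext c; rfl }
    have hord : (orderOf (f ⟨α, hα⟩)).Coprime p :=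
      hco.coprime_dvd_left ((orderOf_map_dvd f _).trans (by rw [Subgroup.orderOf_mk]))
    have h1 := eq_one_of_fix (hP.to_subgroup C) (f ⟨α, hα⟩) hord fun x hx =>
      Subtype.ext (hfix x ⟨x.2, congrArg Subtype.val hx⟩)
    have hfC : ∀ c ∈ C, α c = c := fun c hc => congrArg Subtype.val (DFunLike.congr_fun h1 ⟨c, hc⟩)
    have hfL : ∀ l ∈ L, α l = l := by
      intro l hl
      refine fix_aut hP hco (hfC _ (hCC ⟨L.mul_mem (L.inv_mem hl) (hLinv α hα l hl), ?_⟩))
      refine Subgroup.mem_centralizer_iff.mpr fun c hc => ?_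
      have e1 : α (l * c * l⁻¹) = l * c * l⁻¹ := hfC _ (hCinv _ (hinn l) c hc)
      rw [map_mul, map_mul, map_inv, hfC c hc] at e1
      calc c * (l⁻¹ * α l) = l⁻¹ * (l * c * l⁻¹) * α l := by group
        _ = l⁻¹ * (α l * c * (α l)⁻¹) * α l := by rw [e1]
        _ = l⁻¹ * α l * c := by group
    refine MulEquiv.ext fun x => ?_
    exact fix_aut hP hco (hfL _ (hLmem α hα hco x))
  have hsmall : ∀ d ∈ D, d ^ p = 1 ∨ (p = 2 ∧ d ^ 4 = 1) := by
    intro d hd
    by_cases h2 : p = 2
    · exact Or.inr ⟨h2, by have := hd.2; rwa [qq, if_pos h2] at this⟩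
    · exact Or.inl (by have := hd.2; rwa [qq, if_neg h2] at this)
  refine ⟨D, fun α hα => ?_, ?_, hsmall, ?_, hfaith, ?_⟩
  · exact Subgroup.eq_of_le_of_card_ge (by rintro _ ⟨k, hk, rfl⟩; exact hDinv α hα k hk)
      (Subgroup.card_map_of_injective α.injective).ge
  · refine (hDC.trans hCL).trans (Subgroup.closure_mono ?_)
    rintro _ ⟨α, hα, hco, x, rfl⟩
    exact ⟨⟨α, hα⟩, CfsgLib.Fusion.Basic.mem_pResidual_of_coprime (by rwa [Subgroup.orderOf_mk]), x, rfl⟩
  · rw [Subgroup.commutator_le]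
    intro d hd g _
    have h1 : ⁅d, g⁆ ∈ D := by
      rw [commutatorElement_def, mul_assoc, mul_assoc]
      exact mul_mem hd (by rw [← mul_assoc]; exact hDn.conj_mem _ (inv_mem hd) g)
    exact ⟨h1, Subgroup.mem_centralizer_iff.mpr fun e he => ((hZc _ (hcomZ d (hDC hd) g) e (hDC he)).symm).eq⟩
  intro A hAD hAc hAmax
  haveI := hAc
  have hcomA : ∀ d ∈ D, ∀ g : P, ⁅d, g⁆ ∈ A := by
    intro d hd g
    have h1 : ⁅d, g⁆ ∈ D := by
      rw [commutatorElement_def, mul_assoc, mul_assoc]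
      exact mul_mem hd (by rw [← mul_assoc]; exact hDn.conj_mem _ (inv_mem hd) g)
    have h2 := hAmax (A ⊔ Subgroup.zpowers ⁅d, g⁆) le_sup_left
      (sup_le hAD (Subgroup.zpowers_le.mpr h1)) ?_
    · exact h2 ▸ Subgroup.mem_sup_right (Subgroup.mem_zpowers _)
    · rw [← Subgroup.le_centralizer_iff_isMulCommutative]
      have hzA : ⁅d, g⁆ ∈ Subgroup.centralizer (A : Set P) :=
        Subgroup.mem_centralizer_iff.mpr fun a ha => ((hZc _ (hcomZ d (hDC hd) g) a (hDC (hAD ha))).symm).eq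
      refine sup_le ?_ (Subgroup.zpowers_le.mpr ?_) <;>
        rw [Subgroup.sup_eq_closure, Subgroup.centralizer_closure]
      · intro a ha
        rw [Subgroup.mem_centralizer_iff]
        rintro b (hb | hb)
        · exact Subgroup.mem_centralizer_iff.mp (A.le_centralizer ha) b hb
        · obtain ⟨i, rfl⟩ := hb
          exact ((hZc _ (hcomZ d (hDC hd) g) a (hDC (hAD ha))).zpow_left i).eq
      · rw [Subgroup.mem_centralizer_iff]
        rintro b (hb | hb)
        · exact Subgroup.mem_centralizer_iff.mp hzA b hb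
        · obtain ⟨i, rfl⟩ := hb
          exact (Commute.zpow_self _ i).eq
  refine ⟨⟨fun a ha g => ?_⟩, fun α hα hfix => ?_⟩
  · have := mul_mem (inv_mem (hcomA a (hAD ha) g)) ha
    rwa [commutatorElement_def, show (a * g * a⁻¹ * g⁻¹)⁻¹ * a = g * a * g⁻¹ by group] at this
  · obtain ⟨k, m, hm, hkm⟩ := Nat.exists_eq_pow_mul_and_not_dvd (orderOf_pos α).ne' p
      (Fact.out : p.Prime).ne_one
    refine ⟨k, ?_⟩
    have hco : (orderOf (α ^ p ^ k)).Coprime p := by
      rw [orderOf_pow_of_dvd (pow_ne_zero k (Fact.out : p.Prime).ne_zero) (Dvd.intro m hkm.symm), hkm,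
        Nat.mul_div_cancel_left _ (pow_pos (Fact.out : p.Prime).pos k)]
      exact ((Fact.out : p.Prime).coprime_iff_not_dvd.mpr hm).symm
    have hfixA : ∀ a ∈ A, (α ^ p ^ k) a = a := by
      intro a ha
      induction (p ^ k) with
      | zero => rw [pow_zero, MulAut.one_apply]
      | succ n ih => rw [pow_succ', MulAut.mul_apply, ih, hfix a ha]
    have h1 : α ^ p ^ k = 1 := by
      refine hfaith _ (pow_mem hα _) hco fun d hd => ?_
      set β := α ^ p ^ k with hβ
      refine fix_aut hP hco (hfixA _ ?_)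
      have hw : d⁻¹ * β d ∈ D := mul_mem (inv_mem hd) (hDinv β (pow_mem hα _) d hd)
      set w := d⁻¹ * β d with hwdef
      have hwA : ∀ a ∈ A, Commute a w := by
        intro a ha
        have e1 : β ⁅d, a⁆ = ⁅d, a⁆ := hfixA _ (hcomA d hd a)
        rw [map_commutatorElement, hfixA a ha, commutatorElement_def, commutatorElement_def] at e1
        have e2 : β d * a * (β d)⁻¹ = d * a * d⁻¹ := mul_right_cancel e1
        show a * (d⁻¹ * β d) = d⁻¹ * β d * a
        calc a * (d⁻¹ * β d) = d⁻¹ * (d * a * d⁻¹) * β d := by group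
          _ = d⁻¹ * (β d * a * (β d)⁻¹) * β d := by rw [e2]
          _ = d⁻¹ * β d * a := by group
      have h2 := hAmax (A ⊔ Subgroup.zpowers w) le_sup_left (sup_le hAD (Subgroup.zpowers_le.mpr hw)) ?_
      · exact h2 ▸ Subgroup.mem_sup_right (Subgroup.mem_zpowers _)
      · rw [← Subgroup.le_centralizer_iff_isMulCommutative]
        refine sup_le ?_ (Subgroup.zpowers_le.mpr ?_) <;>
          rw [Subgroup.sup_eq_closure, Subgroup.centralizer_closure]
        · intro a ha
          rw [Subgroup.mem_centralizer_iff]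
          rintro b (hb | hb)
          · exact Subgroup.mem_centralizer_iff.mp (A.le_centralizer ha) b hb
          · obtain ⟨i, rfl⟩ := hb
            exact ((hwA a ha).symm.zpow_left i).eq
        · rw [Subgroup.mem_centralizer_iff]
          rintro b (hb | hb)
          · exact (hwA b hb).eq
          · obtain ⟨i, rfl⟩ := hb
            exact (Commute.zpow_self _ i).eq
    obtain ⟨j, hjk, hj⟩ := (Nat.dvd_prime_pow (Fact.out : p.Prime)).mp (orderOf_dvd_of_pow_eq_one h1)
    rw [hkm] at hj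
    have : m ∣ p ^ j := Dvd.intro_left _ hj
    have hm1 : m = 1 := Nat.eq_one_of_dvd_coprimes
      (Nat.Coprime.pow_right j ((Fact.out : p.Prime).coprime_iff_not_dvd.mpr hm).symm) dvd_rfl this
    rw [hkm, hm1, mul_one]

end Cfsg.Agent.S1949
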