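import Cfsg.Statements.S1951
import Cfsg.Agent.Lib.Blocks.OrderPPairs.OneClass
-- import your own Cfsg.Agent.* helpers here

set_option autoImplicit false
open Cfsg

namespace Cfsg.Agent.S1951

/-- Let p be a prime and P a nontrivial elementary abelian Sylow p-subgroup of a finite nonabelian simple group G whose nonidentity elements are all conjugate in G. Suppose that two elements of P are conjugate in G only if they are conjugate in N_G(P), that the centralizer of every element of order p of P has a normal p-complement, and that every two elements of order p of G generate a p-solvable subgroup. Then p = 2. -/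
theorem result {G : Type*} [Group G] [Finite G] [IsSimpleGroup G] (hG : ¬ IsMulCommutative G) {p : ℕ} [Fact p.Prime] (P : Sylow p G)
    (hP1 : (P : Subgroup G) ≠ ⊥) (hPe : Cfsg.IsElementaryAbelian p (P : Subgroup G))
    (hconj : ∀ x ∈ (P : Subgroup G), ∀ y ∈ (P : Subgroup G), x ≠ 1 → y ≠ 1 → ∃ g : G, g * x * g⁻¹ = y)
    (ha : ∀ x ∈ (P : Subgroup G), ∀ y ∈ (P : Subgroup G), (∃ g : G, g * x * g⁻¹ = y) →
      ∃ n ∈ Subgroup.normalizer ((P : Subgroup G) : Set G), n * x * n⁻¹ = y)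
    (hb : ∀ x ∈ (P : Subgroup G), orderOf x = p → Cfsg.HasNormalPComplement p ↥(Subgroup.centralizer ({x} : Set G)))
    (hc : ∀ x y : G, orderOf x = p → orderOf y = p → Cfsg.IsPSolvable p ↥(Subgroup.closure ({x, y} : Set G))) :
    p = 2 := by
  classical
  haveI := Fintype.ofFinite G
  by_contra hp2
  have hexp : ∀ x ∈ (P : Subgroup G), x ≠ 1 → orderOf x = p := fun x hx hx1 =>
    orderOf_eq_prime (hPe.2 x hx) hx1
  have hcomm : ∀ x ∈ (P : Subgroup G), ∀ y ∈ (P : Subgroup G), x * y = y * x := fun x hx y hy =>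
    congrArg Subtype.val (hPe.1.is_comm.comm (⟨x, hx⟩ : ↥(P : Subgroup G)) ⟨y, hy⟩)
  have h : CfsgLib.Blocks.TIAbelian.FrobSylow P := by
    refine ⟨hcomm, fun y hy hy1 c hc => ?_⟩
    obtain ⟨hcC, hcN⟩ := Subgroup.mem_inf.1 hc
    set C := Subgroup.centralizer ({y} : Set G)
    have hPC : (P : Subgroup G) ≤ C := fun z hz =>
      Subgroup.mem_centralizer_singleton_iff.2 (hcomm z hz y hy)
    obtain ⟨π, hπ, -⟩ := CfsgLib.BrauerSuzuki.exists_retraction (hb y hy (hexp y hy hy1)) (P.subtype hPC)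
    refine Subgroup.mem_centralizer_iff.2 fun z hz => ?_
    let zz : ↥C := ⟨z, hPC hz⟩
    let cc : ↥C := ⟨c, hcC⟩
    have hw : cc * zz * cc⁻¹ * zz⁻¹ ∈ ((P.subtype hPC : Sylow p ↥C) : Subgroup ↥C) :=
      Subgroup.mem_subgroupOf.2 (mul_mem ((Subgroup.mem_normalizer_iff.1 hcN z).1 hz) (inv_mem hz))
    have hT : ∀ a b : ↥((P.subtype hPC : Sylow p ↥C) : Subgroup ↥C), a * b = b * a := fun a b =>
      Subtype.ext (Subtype.ext (hcomm _ (Subgroup.mem_subgroupOf.1 a.2) _ (Subgroup.mem_subgroupOf.1 b.2)))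
    have h1 : π (cc * zz * cc⁻¹ * zz⁻¹) = 1 := by
      rw [map_mul, map_mul, map_mul, map_inv, map_inv, hT (π cc) (π zz), mul_inv_cancel_right, mul_inv_cancel]
    have h2 : cc * zz * cc⁻¹ * zz⁻¹ = 1 := congrArg Subtype.val ((hπ ⟨_, hw⟩).symm.trans h1)
    have h3 : c * z * c⁻¹ * z⁻¹ = 1 := congrArg Subtype.val h2
    calc z * c = (c * z * c⁻¹ * z⁻¹) * (z * c) := by rw [h3, one_mul]
      _ = c * z := by group
  exact CfsgLib.Blocks.OrderPPairs.one_class h hp2 hP1 hexp
    (fun x hx y hy hx1 hy1 => isConj_iff.2 (hconj x hx y hy hx1 hy1)) hc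

end Cfsg.Agent.S1951
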