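import Cfsg.Statements.S1952
import Mathlib

set_option autoImplicit false
open Cfsg

namespace Cfsg.Agent.S1952

open Polynomial

theorem geom_sum_char_p (p : ℕ) [Fact p.Prime] :
    (∑ i ∈ Finset.range p, (X : (ZMod p)[X]) ^ i) = (X - 1) ^ (p - 1) := by
  have hp : 1 ≤ p := (Fact.out : p.Prime).one_lt.le
  have h1 : (X - 1 : (ZMod p)[X]) ≠ 0 := by simpa using Polynomial.X_sub_C_ne_zero (1 : ZMod p)
  refine mul_left_cancel₀ h1 ?_
  rw [mul_geom_sum, ← pow_succ', Nat.sub_add_cancel hp, sub_pow_char (p := p), one_pow]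

theorem rows_independent {p : ℕ} [Fact p.Prime] {M : Type*} [AddCommGroup M] [Module (ZMod p) M]
    (σ : Module.End (ZMod p) M) (hσ : σ ^ p = 1) (l : M →ₗ[ZMod p] ZMod p) (x : M)
    (hx : l (∑ i ∈ Finset.range p, (σ ^ i) x) ≠ 0) :
    Function.Surjective (LinearMap.pi fun i : Fin p => l.comp (σ ^ (i : ℕ))) := by
  rw [← LinearMap.range_eq_top]
  by_contra hne
  obtain ⟨φ, hφ, hle⟩ := Submodule.exists_le_ker_of_lt_top _ (lt_top_iff_ne_top.mpr hne)
  set c : Fin p → ZMod p := fun i => φ (Pi.single i 1) with hc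
  set q : (ZMod p)[X] := ∑ i : Fin p, C (c i) * X ^ (i : ℕ) with hq
  have hφq : ∀ a, l (aeval σ q a) = 0 := by
    intro a
    have h0 : φ (LinearMap.pi (fun i : Fin p => l.comp (σ ^ (i : ℕ))) a) = 0 := hle ⟨a, rfl⟩
    rw [pi_eq_sum_univ' (LinearMap.pi (fun i : Fin p => l.comp (σ ^ (i : ℕ))) a), map_sum] at h0
    simp only [map_smul, LinearMap.pi_apply, LinearMap.comp_apply, smul_eq_mul] at h0
    rw [hq, map_sum, LinearMap.sum_apply, map_sum, ← h0]
    refine Finset.sum_congr rfl fun i _ => ?_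
    rw [map_mul, aeval_C, map_pow, aeval_X, Module.algebraMap_end_eq_smul_id, Module.End.mul_apply,
      LinearMap.smul_apply, LinearMap.id_apply, map_smul, smul_eq_mul, mul_comm, hc]
  have hq0 : q ≠ 0 := by
    intro h0
    refine hφ (LinearMap.ext fun v => ?_)
    rw [pi_eq_sum_univ' v, map_sum, LinearMap.zero_apply]
    refine Finset.sum_eq_zero fun i _ => ?_
    have hci : c i = 0 := by
      have := congrArg (fun r => Polynomial.coeff r (i : ℕ)) h0
      simpa [hq, Polynomial.finsetSum_coeff, Polynomial.coeff_X_pow, Fin.val_inj, eq_comm] using this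
    rw [map_smul, show φ (Pi.single i 1) = 0 from hci, smul_zero]
  obtain ⟨u, hqu, hu⟩ := Polynomial.exists_eq_pow_rootMultiplicity_mul_and_not_dvd q hq0 (1 : ZMod p)
  set m := q.rootMultiplicity 1 with hm
  have hdeg : q.natDegree ≤ p - 1 := by
    refine Polynomial.natDegree_sum_le_of_forall_le _ _ fun i _ => ?_
    refine le_trans (Polynomial.natDegree_C_mul_X_pow_le _ _) ?_
    omega
  have hm1 : m ≤ p - 1 := by
    refine le_trans ?_ hdeg
    have h := Polynomial.natDegree_le_of_dvd (Polynomial.pow_rootMultiplicity_dvd q (1 : ZMod p)) hq0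
    rwa [Polynomial.natDegree_pow, Polynomial.natDegree_X_sub_C, mul_one] at h
  obtain ⟨w, hw⟩ : (X - C (1 : ZMod p)) ∣ u - C (u.eval 1) := Polynomial.X_sub_C_dvd_sub_C_eval
  have key : q * (X - C (1 : ZMod p)) ^ (p - 1 - m) =
      C (u.eval 1) * (∑ i ∈ Finset.range p, X ^ i) + w * (X - C (1 : ZMod p)) ^ p := by
    have hsucc : p = p - 1 + 1 := (Nat.sub_add_cancel (Fact.out : p.Prime).one_lt.le).symm
    rw [geom_sum_char_p, map_one] at *
    have hpow : (X - 1 : (ZMod p)[X]) ^ p = (X - 1) ^ (p - 1) * (X - 1) := by rw [← pow_succ, ← hsucc]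
    rw [hpow]
    rw [hqu]; conv_lhs => rw [eq_add_of_sub_eq' hw]
    calc (X - 1 : (ZMod p)[X]) ^ m * (C (u.eval 1) + (X - 1) * w) * (X - 1) ^ (p - 1 - m)
        = (C (u.eval 1) + (X - 1) * w) * ((X - 1) ^ m * (X - 1) ^ (p - 1 - m)) := by ring
      _ = _ := by rw [← pow_add, Nat.add_sub_cancel' hm1]; ring
  have h1 := hφq (aeval σ ((X - C (1 : ZMod p)) ^ (p - 1 - m)) x)
  have hz : aeval σ ((X - C (1 : ZMod p)) ^ p) = 0 := by
    rw [map_one, sub_pow_char (p := p), one_pow, map_sub, map_pow, aeval_X, hσ, map_one, sub_self]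
  rw [← Module.End.mul_apply, ← map_mul, key, map_add, map_mul _ w, hz, mul_zero, add_zero, map_mul, aeval_C,
    map_sum, Module.algebraMap_end_eq_smul_id, Module.End.mul_apply, LinearMap.smul_apply, LinearMap.id_apply,
    map_smul, smul_eq_zero] at h1
  simp only [map_pow, aeval_X, LinearMap.sum_apply] at h1
  rcases h1 with h1 | h1
  · exact hu (Polynomial.dvd_iff_isRoot.mpr h1)
  · exact hx h1

/-- Let P be a finite p-group with a normal elementary abelian subgroup A of index p, and let x ∈ A and y ∈ P with y outside A. If the product of the p conjugates y^(-i) x y^i (i = 0, …, p−1) is not the identity, then the wreath product Z_p ≀ Z_p, realised as a Sylow p-subgroup of the symmetric group of degree p², is a homomorphic image of P. -/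
theorem result {P : Type*} [Group P] [Finite P] {p : ℕ} [Fact p.Prime] (hP : IsPGroup p P) (A : Subgroup P) [A.Normal]
    (hA : Cfsg.IsElementaryAbelian p A) (hidx : A.index = p) (x y : P) (hx : x ∈ A) (hy : y ∉ A)
    (hprod : ((List.range p).map (fun i => (y ^ i)⁻¹ * x * y ^ i)).prod ≠ 1) :
    ∃ (Q : Sylow p (Equiv.Perm (Fin (p ^ 2)))) (f : P →* ↥(Q : Subgroup (Equiv.Perm (Fin (p ^ 2))))), Function.Surjective f := by
  classical
  have hp : p.Prime := Fact.out
  letI : CommGroup ↥A := { (inferInstance : Group ↥A) with mul_comm := fun a b => hA.1.is_comm.comm a b }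
  haveI : Module (ZMod p) (Additive ↥A) := AddCommGroup.zmodModule fun a =>
    Additive.toMul.injective (Subtype.ext (by
      show (((a.toMul ^ p : A)) : P) = 1
      exact hA.2 _ a.toMul.2))
  let σ₀ : Additive ↥A →+ Additive ↥A := AddMonoidHom.mk'
    (fun a => Additive.ofMul ⟨y⁻¹ * a.toMul * y, by
      simpa using Subgroup.Normal.conj_mem (inferInstance : A.Normal) _ a.toMul.2 y⁻¹⟩)
    (fun a b => Additive.toMul.injective (Subtype.ext (by
      show y⁻¹ * ((a.toMul : P) * b.toMul) * y = (y⁻¹ * a.toMul * y) * (y⁻¹ * b.toMul * y)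
      group)))
  let σ : Module.End (ZMod p) (Additive ↥A) := σ₀.toZModLinearMap p
  have hσpow : ∀ (i : ℕ) (a : Additive ↥A), (((σ ^ i) a).toMul : P) = (y ^ i)⁻¹ * a.toMul * y ^ i := by
    intro i
    induction i with
    | zero => intro a; simp
    | succ i ih =>
      intro a
      rw [pow_succ, Module.End.mul_apply, ih (σ a)]
      show (y ^ i)⁻¹ * (y⁻¹ * a.toMul * y) * y ^ i = _
      rw [pow_succ']; group
  have hyp : y ^ p ∈ A := hidx ▸ A.pow_index_mem y
  have hσp : σ ^ p = 1 := LinearMap.ext fun a => Additive.toMul.injective (Subtype.ext (by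
    rw [hσpow, Module.End.one_apply, mul_assoc,
      show (a.toMul : P) * y ^ p = y ^ p * a.toMul from
        congrArg Subtype.val (hA.1.is_comm.comm a.toMul ⟨y ^ p, hyp⟩), inv_mul_cancel_left]))
  set xa : Additive ↥A := Additive.ofMul ⟨x, hx⟩ with hxa
  have hN : ∀ n : ℕ, ((∑ i ∈ Finset.range n, (σ ^ i) xa).toMul : P) =
      ((List.range n).map (fun i => (y ^ i)⁻¹ * x * y ^ i)).prod := by
    intro n
    induction n with
    | zero => simp
    | succ n ih =>
      rw [Finset.sum_range_succ, List.range_succ, List.map_append, List.prod_append, toMul_add, Subgroup.coe_mul,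
        ih, hσpow]
      simp [hxa]
  have hN0 : (∑ i ∈ Finset.range p, (σ ^ i) xa) ≠ 0 := fun h0 => hprod (by rw [← hN p, h0]; rfl)
  obtain ⟨l, hl⟩ : ∃ l : Additive ↥A →ₗ[ZMod p] ZMod p, l (∑ i ∈ Finset.range p, (σ ^ i) xa) ≠ 0 := by
    by_contra hno
    push Not at hno
    exact hN0 ((Module.forall_dual_apply_eq_zero_iff (ZMod p) _).mp hno)
  let Λ : ↥A →* Multiplicative (ZMod p) := AddMonoidHom.toMultiplicativeRight l.toAddMonoidHom
  set K : Subgroup P := Λ.ker.map A.subtype with hK
  have hmemK : ∀ {k : ↥A}, (k : P) ∈ K → l (Additive.ofMul k) = 0 := by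
    rintro k ⟨k', hk', e⟩
    rw [← Subtype.ext (e : (k' : P) = k)]
    exact hk'
  have hKA : K ≤ A := Subgroup.map_subtype_le _
  have hKidx : K.index = p * p := by
    rw [← Subgroup.relIndex_mul_index hKA, hidx]
    congr 1
    rw [Subgroup.relIndex, hK, Subgroup.subgroupOf, Subgroup.comap_map_eq_self_of_injective A.subtype_injective,
      Subgroup.index_ker, MonoidHom.range_eq_top.mpr ?_, Subgroup.card_top,
      Nat.card_congr Multiplicative.toAdd, Nat.card_zmod]
    have hls : Function.Surjective l := LinearMap.surjective_of_ne_zero fun h0 => hl (by rw [h0]; rfl)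
    intro z
    obtain ⟨a, ha⟩ := hls z.toAdd
    exact ⟨a.toMul, by simpa [Λ] using congrArg Multiplicative.ofAdd ha⟩
  let eK : P ⧸ K ≃ Fin (p ^ 2) := (Finite.equivFin _).trans (finCongr (by
    rw [← Subgroup.index_eq_card, hKidx, pow_two]))
  let φ : P →* Equiv.Perm (Fin (p ^ 2)) :=
    (Equiv.permCongrHom eK).toMonoidHom.comp (MulAction.toPermHom P (P ⧸ K))
  have hrange : IsPGroup p φ.range := by
    rw [MonoidHom.range_eq_map]; exact (hP.to_subgroup ⊤).map φ
  obtain ⟨Q, hQ⟩ := hrange.exists_le_sylow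
  refine ⟨Q, φ.codRestrict _ (fun a => hQ ⟨a, rfl⟩), ?_⟩
  suffices hcard : Nat.card ↥(Q : Subgroup (Equiv.Perm (Fin (p ^ 2)))) ≤ Nat.card φ.range by
    have heq : φ.range = (Q : Subgroup (Equiv.Perm (Fin (p ^ 2)))) := Subgroup.eq_of_le_of_card_ge hQ hcard
    intro b
    obtain ⟨a, ha⟩ := heq.ge b.2
    exact ⟨a, Subtype.ext ha⟩
  have hQcard : Nat.card ↥(Q : Subgroup (Equiv.Perm (Fin (p ^ 2)))) = p ^ (p + 1) := by
    rw [Sylow.card_eq_multiplicity, Nat.card_perm, Nat.card_eq_fintype_card, Fintype.card_fin,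
      Nat.factorization_def _ hp, pow_two, padicValNat_factorial_mul]
    have h1 := padicValNat_factorial_mul (p := p) 1
    rw [mul_one] at h1
    rw [h1]
    simp [add_comm]
  rw [hQcard, ← Subgroup.index_ker]
  have hkerA : φ.ker ≤ A := fun a ha => hKA (by
    have h1 : MulAction.toPermHom P (P ⧸ K) a = 1 := (Equiv.permCongrHom eK).injective (ha.trans (map_one _).symm)
    have h2 := Equiv.Perm.congr_fun h1 ((1 : P) : P ⧸ K)
    rw [MulAction.toPermHom_apply, MulAction.toPerm_apply, Equiv.Perm.one_apply, MulAction.Quotient.smul_coe,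
      smul_eq_mul, mul_one, QuotientGroup.eq, mul_one] at h2
    exact inv_mem_iff.mp h2)
  rw [← Subgroup.relIndex_mul_index hkerA, hidx, pow_succ]
  refine Nat.mul_le_mul_right p ?_
  have hsurj := rows_independent σ hσp l xa hl
  set R := LinearMap.pi fun i : Fin p => l.comp (σ ^ (i : ℕ)) with hR
  let R' : ↥A →* Multiplicative (Fin p → ZMod p) := AddMonoidHom.toMultiplicativeRight R.toAddMonoidHom
  have hR'ker : φ.ker.subgroupOf A ≤ R'.ker := by
    intro a ha
    have hRa : R (Additive.ofMul a) = 0 := by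
      funext i
      show l ((σ ^ (i : ℕ)) (Additive.ofMul a)) = 0
      refine hmemK (k := ((σ ^ (i : ℕ)) (Additive.ofMul a)).toMul) ?_
      have h1 : MulAction.toPermHom P (P ⧸ K) (a : P) = 1 :=
        (Equiv.permCongrHom eK).injective ((show φ a = 1 from ha).trans (map_one _).symm)
      have h2 := Equiv.Perm.congr_fun h1 ((y ^ (i : ℕ) : P) : P ⧸ K)
      rw [MulAction.toPermHom_apply, MulAction.toPerm_apply, Equiv.Perm.one_apply, MulAction.Quotient.smul_coe,
        smul_eq_mul, eq_comm, QuotientGroup.eq] at h2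
      rw [hσpow, toMul_ofMul, mul_assoc]
      exact h2
    rw [MonoidHom.mem_ker]
    exact congrArg Multiplicative.ofAdd hRa
  calc p ^ p = R'.ker.index := by
        rw [Subgroup.index_ker, MonoidHom.range_eq_top.mpr ?_, Subgroup.card_top,
          Nat.card_congr Multiplicative.toAdd, Nat.card_fun, Nat.card_zmod, Nat.card_eq_fintype_card, Fintype.card_fin]
        intro z
        obtain ⟨a, ha⟩ := hsurj z.toAdd
        exact ⟨a.toMul, by simpa [R'] using congrArg Multiplicative.ofAdd ha⟩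
    _ ≤ φ.ker.relIndex A := Nat.le_of_dvd (Nat.pos_of_ne_zero Subgroup.index_ne_zero_of_finite)
        (Subgroup.index_dvd_of_le hR'ker)

end Cfsg.Agent.S1952
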