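import Cfsg.Statements.S1953
import Cfsg.Agent.Lib.KGroups.QdAutomizer
import Cfsg.Agent.Lib.KGroups.SectionFactor
import Cfsg.Agent.Lib.KGroups.Functor.KInfControl
import Cfsg.Agent.S5205

set_option autoImplicit false
open Cfsg

namespace Cfsg.Agent.S1953

/-- Let p be an odd prime and P a Sylow p-subgroup of the finite group G, and suppose that for no p-subgroup Q of G does N_G(Q)/C_G(Q) have a section isomorphic to SL₂(p). Call a subgroup Q of P centric-radical when Z(Q) is a Sylow p-subgroup of C_G(Q) and the only normal subgroup X of N_G(Q) containing Q·C_G(Q) such that the index of Q·C_G(Q) in X is a power of p is Q·C_G(Q) itself (that is, N_G(Q)/Q·C_G(Q) has no nontrivial normal p-subgroup). Then there is a centric-radical subgroup Q of P contained in every centric-radical subgroup of P; it is normal in P, and N_G(Q) controls strong fusion in P: whenever a subgroup A of P has g A g⁻¹ ≤ P, the element g is a product h c with h in N_G(Q) and c centralizing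 A. -/
theorem result {G : Type*} [Group G] [Finite G] {p : ℕ} [Fact p.Prime] (hp : p ≠ 2) (P : Sylow p G)
    (hfree : ∀ Q : Subgroup G, IsPGroup p ↥Q → ¬ ∃ (H K : Subgroup G) (_ : (K.subgroupOf H).Normal),
      Subgroup.centralizer (Q : Set G) ≤ K ∧ K ≤ H ∧ H ≤ Subgroup.normalizer (Q : Set G) ∧
      Nonempty ((↥H ⧸ K.subgroupOf H) ≃* Matrix.SpecialLinearGroup (Fin 2) (ZMod p)))
    (cr : Subgroup G → Prop)
    (hcr : ∀ Q : Subgroup G, cr Q ↔ (Q ≤ (P : Subgroup G) ∧
      (∃ R : Sylow p ↥(Subgroup.centralizer (Q : Set G)),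
        (R : Subgroup ↥(Subgroup.centralizer (Q : Set G))).map (Subgroup.centralizer (Q : Set G)).subtype = Q ⊓ Subgroup.centralizer (Q : Set G)) ∧
      ∀ X : Subgroup G, X ≤ Subgroup.normalizer (Q : Set G) →
        (∀ n ∈ Subgroup.normalizer (Q : Set G), X.map (MulAut.conj n).toMonoidHom = X) →
        Q ⊔ Subgroup.centralizer (Q : Set G) ≤ X → (∃ k : ℕ, (Q ⊔ Subgroup.centralizer (Q : Set G)).relIndex X = p ^ k) →
        X = Q ⊔ Subgroup.centralizer (Q : Set G))) :
    ∃ Q : Subgroup G, cr Q ∧ (∀ R : Subgroup G, cr R → Q ≤ R) ∧ (∀ x ∈ (P : Subgroup G), Q.map (MulAut.conj x).toMonoidHom = Q) ∧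
      ∀ A : Subgroup G, A ≤ (P : Subgroup G) → ∀ g : G, A.map (MulAut.conj g).toMonoidHom ≤ (P : Subgroup G) →
        ∃ h ∈ Subgroup.normalizer (Q : Set G), ∃ c ∈ Subgroup.centralizer (A : Set G), g = h * c := by
  classical
  open CfsgLib.KGroups CfsgLib.KGroups.ClosureControl CfsgLib.LocalEven.SylowIn CfsgLib.Fsys in
  exact (by
  -- the fusion system is `Qd(p)`-free
  have hsl : ∀ U : Subgroup G, U ≤ (P : Subgroup G) →
      ¬ Cfsg.Involves (Matrix.SpecialLinearGroup (Fin 2) (ZMod p))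
        ((Cfsg.groupFusionSystem (P : Subgroup G)).autGroup U) := by
    intro U hU hi
    rw [group_autGroup hU, autInducedBy_top] at hi
    -- add the centralizer
    let π := U.normalizerMonoidHom.rangeRestrict
    have hi' := hi
    obtain ⟨K₁, R₁, hR₁, ⟨e₁⟩⟩ := hi'
    let χ₁ : ↥K₁ →* Matrix.SpecialLinearGroup (Fin 2) (ZMod p) :=
      e₁.toMonoidHom.comp (QuotientGroup.mk' _)
    let H₀ := K₁.comap π
    let χ₀ : ↥H₀ →* Matrix.SpecialLinearGroup (Fin 2) (ZMod p) := χ₁.comp (π.subgroupComap K₁)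
    have hχ₀s : Function.Surjective χ₀ :=
      (e₁.surjective.comp (QuotientGroup.mk'_surjective _)).comp
        (MonoidHom.subgroupComap_surjective_of_surjective π K₁ U.normalizerMonoidHom.rangeRestrict_surjective)
    let j := H₀.equivMapOfInjective (Subgroup.normalizer (U : Set G)).subtype (Subgroup.subtype_injective _)
    let H := H₀.map (Subgroup.normalizer (U : Set G)).subtype
    let χH : ↥H →* Matrix.SpecialLinearGroup (Fin 2) (ZMod p) := χ₀.comp j.symm.toMonoidHom
    have hH : (χH.ker.map H.subtype).subgroupOf H = χH.ker :=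
      Subgroup.comap_map_eq_self_of_injective H.subtype_injective _
    have hn : ((χH.ker.map H.subtype).subgroupOf H).Normal := by rw [hH]; infer_instance
    refine hfree U (P.2.to_le hU) ⟨H, χH.ker.map H.subtype, hn, ?_, Subgroup.map_subtype_le _,
      Subgroup.map_subtype_le _, ⟨(QuotientGroup.quotientMulEquivOfEq hH).trans
        (QuotientGroup.quotientKerEquivOfSurjective χH (hχ₀s.comp j.symm.surjective))⟩⟩
    intro c hc
    have hcN : c ∈ Subgroup.normalizer (U : Set G) := Subgroup.centralizer_le_normalizer _ hc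
    have hπc : π ⟨c, hcN⟩ = 1 := by
      refine Subtype.ext ?_
      show U.normalizerMonoidHom ⟨c, hcN⟩ = 1
      rw [← MonoidHom.mem_ker, Subgroup.normalizerMonoidHom_ker]
      exact hc
    have hc₀ : (⟨c, hcN⟩ : ↥(Subgroup.normalizer (U : Set G))) ∈ H₀ := by
      show π ⟨c, hcN⟩ ∈ K₁
      rw [hπc]; exact one_mem _
    refine ⟨j ⟨_, hc₀⟩, ?_, rfl⟩
    show χ₀ (j.symm (j ⟨_, hc₀⟩)) = 1
    rw [j.symm_apply_apply]
    show χ₁ ⟨π ⟨c, hcN⟩, _⟩ = 1
    rw [show (⟨π ⟨c, hcN⟩, hc₀⟩ : ↥K₁) = 1 from Subtype.ext hπc, map_one]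
  set F := Cfsg.groupFusionSystem (P : Subgroup G) with hF
  have hPp : IsPGroup p (P : Subgroup G) := P.2
  have hFs : F.IsSaturated p := group_isSaturated P
  have hqd : F.IsSectionFree p ↥(Cfsg.qd p) := QdAutomizer.sectionFree_of_automizers hsl
  have hW := Functor.isCharPFunctor_kInfLower.{_} p
  -- normality in constrained groups
  have hW3 : ∀ (L : Type _) [Group L] [Finite L] (T : Sylow p L),
      Subgroup.centralizer ((Cfsg.pCore p L : Subgroup L) : Set L) =
        Cfsg.pCore p L ⊓ Subgroup.centralizer ((Cfsg.pCore p L : Subgroup L) : Set L) →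
      ¬ Cfsg.Involves ↥(Cfsg.qd p) L →
      ((Cfsg.kInfLower ↥(T : Subgroup L)).map (T : Subgroup L).subtype : Subgroup L).Normal := by
    intro L _ _ T hc hnq
    by_contra hn
    obtain ⟨g, -, -, -, -, hex⟩ := Functor.Quartic.exists_quartic T
      (Functor.isKInf_lower L (T : Subgroup L) hn)
    obtain ⟨N', hN', hbad⟩ := hex (le_of_eq_of_le hc inf_le_left)
    obtain ⟨K', R', hR', ⟨e⟩⟩ :=
      ((Functor.sec_self L).of_surjective _ (QuotientGroup.mk'_surjective N')).exists_equiv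
    exact hbad (Functor.stable_of_equiv e (QdStable.sections_stable hp hnq K' R'))
  set W := (Cfsg.kInfLower ↥(P : Subgroup G)).map (P : Subgroup G).subtype with hWdef
  have hWn : F.IsNormal W := wOf_normal (W := fun Q _ => Cfsg.kInfLower Q) hW.1 hW.2 hW3 hPp F hFs hqd
  have hWP : W ≤ (P : Subgroup G) := Subgroup.map_subtype_le _
  set N := Subgroup.normalizer (W : Set G) with hN
  have hPN : (P : Subgroup G) ≤ N :=
    Subgroup.le_normalizer.trans (SectionFactor.normalizer_le_normalizer_ind hW P.2)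
  set C := Subgroup.centralizer (W : Set G) with hC
  have hNC : N ≤ Subgroup.normalizer (C : Set G) :=
    le_normalizer_of_map_conj fun x hx => by rw [hC, ← centralizer_map_conj, map_conj_eq_iff.mpr hx]
  have hCN : C ≤ N := Subgroup.centralizer_le_normalizer _
  have hCP : (P : Subgroup G) ⊓ C ≤ W := fun x hx => ⟨⟨x, hx.1⟩,
    KInfinity.centralizer_kInfLower_le P.2 (Subgroup.mem_centralizer_iff.mpr fun w hw =>
      Subtype.ext (Subgroup.mem_centralizer_iff.mp hx.2 (w : G) ⟨w, hw, rfl⟩)), rfl⟩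
  have hctrlW : ∀ A : Subgroup G, A ≤ (P : Subgroup G) → ∀ g : G, cj g A ≤ (P : Subgroup G) →
      ∃ h ∈ N, ∃ c ∈ Subgroup.centralizer (A : Set G), g = h * c := by
    intro A hA g hg
    obtain ⟨f, hf, hfe, hfi⟩ := (normal_iff_fn.1 hWn).2 A _ (fn_group_conj hA g fun x hx => hg ⟨x, hx, rfl⟩)
    obtain ⟨-, -, h, hh⟩ := fn_group_iff.1 hf
    refine ⟨h, ?_, h⁻¹ * g, Subgroup.mem_centralizer_iff.mpr fun a ha => ?_, (mul_inv_cancel_left h g).symm⟩
    · refine cj_eq.mp ?_
      refine Eq.trans ?_ hfi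
      rw [img_congr (g := fun x => h * x * h⁻¹) (fun x hx => hh x (Subgroup.mem_sup_right hx)), img_conj]
    · have h1 : h * a * h⁻¹ = g * a * g⁻¹ := (hh a (Subgroup.mem_sup_left ha)).symm.trans (hfe a ha)
      calc a * (h⁻¹ * g) = h⁻¹ * (h * a * h⁻¹) * g := by group
        _ = h⁻¹ * (g * a * g⁻¹) * g := by rw [h1]
        _ = h⁻¹ * g * a := by group
  -- the preimage of `O_p(N/C)`
  set C' := C.subgroupOf N with hC'
  haveI hC'n : C'.Normal := (Subgroup.normal_subgroupOf_iff_le_normalizer hCN).mpr hNC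
  set π := QuotientGroup.mk' C' with hπ
  set M := ((Cfsg.pCore p (↥N ⧸ C')).comap π).map N.subtype with hM
  have hMN : M ≤ N := Subgroup.map_subtype_le _
  have hNM : N ≤ Subgroup.normalizer (M : Set G) := by
    intro x hx
    rw [hM]
    exact Subgroup.le_normalizer_map _ ⟨⟨x, hx⟩, by rw [Subgroup.normalizer_eq_top]; trivial, rfl⟩
  have hCM : C ≤ M := fun c hc => ⟨⟨c, hCN hc⟩, by
    show π ⟨c, hCN hc⟩ ∈ Cfsg.pCore p (↥N ⧸ C')
    rw [show π ⟨c, hCN hc⟩ = 1 from (QuotientGroup.eq_one_iff _).mpr hc]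
    exact one_mem _, rfl⟩
  have hPsyl : IsSylowIn p (P : Subgroup G) N := SectionFactor.sylow_isSylowIn P hPN
  set Q := (P : Subgroup G) ⊓ M with hQ
  have hQsyl : IsSylowIn p Q M := sylowIn_inf hPsyl hMN hNM
  have hQP : Q ≤ (P : Subgroup G) := inf_le_left
  have hWQ : W ≤ Q := by
    refine le_inf hWP fun w hw => ⟨⟨w, Subgroup.le_normalizer hw⟩, ?_, rfl⟩
    haveI : (W.subgroupOf N).Normal := Subgroup.normal_in_normalizer
    show π ⟨w, Subgroup.le_normalizer hw⟩ ∈ Cfsg.pCore p (↥N ⧸ C')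
    have hn' : ((W.subgroupOf N).map π).Normal := Subgroup.Normal.map inferInstance _ (QuotientGroup.mk'_surjective C')
    exact CfsgLib.Solvable.Cores.le_pCore (hn := hn') (((P.2.to_le hWP).comap_of_injective _ (Subgroup.subtype_injective N)).map π)
      ⟨_, hw, rfl⟩
  have hPQ : (P : Subgroup G) ≤ Subgroup.normalizer (Q : Set G) :=
    le_normalizer_of_map_conj fun x hx => by
      rw [hQ, Subgroup.map_inf _ _ _ (MulAut.conj x).injective, map_conj_eq_iff.mpr (Subgroup.le_normalizer hx),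
        map_conj_eq_iff.mpr (hNM (hPN hx))]
  -- `C = Z(W) O`
  set O := (Cfsg.pPrimeCore p ↥C).map C.subtype with hO
  have hOC : O ≤ C := Subgroup.map_subtype_le _
  have hOc : (Nat.card O).Coprime p := by
    rw [hO, Subgroup.card_map_of_injective C.subtype_injective]
    exact CfsgLib.Solvable.Cores.coprime_card_pPrimeCore p
  have hNO : N ≤ Subgroup.normalizer (O : Set G) := le_normalizer_of_map_conj fun x hx => by
    refine Subgroup.eq_of_le_of_card_ge ?_ (Subgroup.card_map_of_injective (MulAut.conj x).injective).ge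
    let e : ↥C ≃* ↥(C.map (MulAut.conj x).toMonoidHom) :=
      C.equivMapOfInjective _ (MulAut.conj x).injective
    have hx' : C.map (MulAut.conj x).toMonoidHom = C := map_conj_eq_iff.mpr (hNC hx)
    rintro _ ⟨o, ho, rfl⟩
    obtain ⟨o', ho', rfl⟩ := ho
    let e' : ↥C ≃* ↥C := e.trans (MulEquiv.subgroupCongr hx')
    exact ⟨e' o', (Subgroup.characteristic_iff_map_eq.mp (CfsgLib.Solvable.Cores.pPrimeCore_characteristic p) e').le ⟨o', ho', rfl⟩, rfl⟩
  have hCsup : C ≤ W ⊔ O := by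
    set M₀ := (W ⊓ C).subgroupOf C with hM₀
    have hsyl : IsSylowIn p ((P : Subgroup G) ⊓ C) C := sylowIn_inf hPsyl hCN hNC
    have hM₀c : M₀ ≤ Subgroup.center ↥C := fun m hm => Subgroup.mem_center_iff.mpr fun c =>
      Subtype.ext (Subgroup.mem_centralizer_iff.mp c.2 _ hm.1).symm
    haveI : M₀.Normal := ⟨fun m hm c => by rw [Subgroup.mem_center_iff.mp (hM₀c hm) c, mul_inv_cancel_right]; exact hm⟩
    have hidx : M₀.index.Coprime p := by
      have hle : (hsyl.toSylow : Subgroup ↥C) ≤ M₀ := fun r hr => ⟨hCP hr, r.2⟩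
      exact (((Fact.out : p.Prime).coprime_iff_not_dvd.mpr hsyl.toSylow.not_dvd_index).symm).coprime_dvd_left
        (Subgroup.index_dvd_of_le hle)
    have hM₀p : IsPGroup p M₀ :=
      ((P.2.to_le hWP).to_le inf_le_left).of_equiv (Subgroup.subgroupOfEquivOfLe (inf_le_right : W ⊓ C ≤ C)).symm
    obtain ⟨j, hj⟩ := hM₀p.exists_card_eq
    obtain ⟨D, hD⟩ := Subgroup.exists_right_complement'_of_coprime (N := M₀)
      (by rw [hj]; exact hidx.symm.pow_left j)
    haveI hDn : D.Normal := by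
      rw [← Subgroup.normalizer_eq_top_iff, eq_top_iff, ← hD.sup_eq_top]
      exact sup_le (fun m hm => Subgroup.centralizer_le_normalizer _
        (Subgroup.mem_centralizer_iff.mpr fun d _ => Subgroup.mem_center_iff.mp (hM₀c hm) d)) Subgroup.le_normalizer
    have hDc : (Nat.card D).Coprime p := by
      refine hidx.coprime_dvd_left (dvd_of_eq ?_)
      have h := hD.card_mul
      rw [← M₀.card_mul_index] at h
      exact Nat.eq_of_mul_eq_mul_left Nat.card_pos h
    intro c hc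
    obtain ⟨m, hm, d, hd, e⟩ : ∃ m ∈ M₀, ∃ d ∈ D, m * d = (⟨c, hc⟩ : C) := by
      have h := Subgroup.mem_top (⟨c, hc⟩ : C)
      rw [← hD.sup_eq_top, ← SetLike.mem_coe, Subgroup.normal_mul] at h
      exact h
    rw [show c = (m : G) * (d : G) from (congrArg Subtype.val e).symm]
    exact Subgroup.mul_mem_sup hm.1 ⟨d, CfsgLib.Solvable.Cores.le_pPrimeCore hDc hd, rfl⟩
  have hMQC : M ≤ Q ⊔ C := by
    intro m hm
    obtain ⟨m', hm', rfl⟩ := hm
    set M' := (Cfsg.pCore p (↥N ⧸ C')).comap π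
    set Q' := Q.subgroupOf N
    obtain ⟨⟨y, hy⟩⟩ : Nonempty {y : ↥N // y ∈ Q' ∧ π y = π m'} := by
      have hQM' : IsSylowIn p Q' M' := by
        refine ⟨fun y hy => ?_, (P.2.to_le hQP).comap_of_injective _ (Subgroup.subtype_injective N),
          fun U hU hUp hle => ?_⟩
        · exact (Subgroup.mem_map_iff_mem N.subtype_injective).mp (hy : (y : G) ∈ Q).2
        · refine Subgroup.map_injective N.subtype_injective ?_
          rw [Subgroup.map_subgroupOf_eq_of_le (hQsyl.1.trans hMN)]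
          refine hQsyl.2.2 _ (Subgroup.map_mono hU) (hUp.map _) ?_
          rw [← Subgroup.map_subgroupOf_eq_of_le (hQsyl.1.trans hMN)]
          exact Subgroup.map_mono hle
      let f := π.subgroupComap (Cfsg.pCore p (↥N ⧸ C'))
      have hfs : Function.Surjective f :=
        MonoidHom.subgroupComap_surjective_of_surjective π _ (QuotientGroup.mk'_surjective C')
      have htop := CfsgLib.Fsys.map_sylow_eq_top f hfs (CfsgLib.Solvable.Cores.isPGroup_pCore p) hQM'.toSylow
      obtain ⟨z, hz, he⟩ := htop.ge (Subgroup.mem_top (f ⟨m', hm'⟩))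
      exact ⟨⟨z, hz, congrArg Subtype.val he⟩⟩
    have h1 : y⁻¹ * m' ∈ C' := QuotientGroup.eq.mp hy.2
    show (m' : G) ∈ Q ⊔ C
    rw [show (m' : G) = (y : G) * ((y⁻¹ * m' : ↥N) : G) by simp]
    exact Subgroup.mul_mem_sup hy.1 h1
  -- `N = N_N(Q) O`
  set D := N ⊓ Subgroup.normalizer (Q : Set G) with hD
  have hfac : ∀ h ∈ N, ∃ n ∈ D, ∃ o ∈ O, h = n * o := by
    intro h hh
    obtain ⟨m, hm, n, hn, e⟩ := frattini_argument (H := N) (g := h) hQsyl hNM hMN hh
    have hsup : M ≤ D ⊔ O := by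
      refine hMQC.trans (sup_le ?_ (hCsup.trans (sup_le_sup_right ?_ _)))
      · exact (le_inf (hQP.trans hPN) Subgroup.le_normalizer).trans le_sup_left
      · exact hWQ.trans (le_inf (hQP.trans hPN) Subgroup.le_normalizer)
    have h1 : h ∈ D ⊔ O := by
      rw [e]
      exact mul_mem (hsup hm) (Subgroup.mem_sup_left ⟨hn.1, hn.2⟩)
    rw [← SetLike.mem_coe, Subgroup.coe_mul_of_left_le_normalizer_right D O (inf_le_left.trans hNO)] at h1
    obtain ⟨n', hn', o, ho, rfl⟩ := h1
    exact ⟨n', hn', o, ho, rfl⟩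
  have hctrl : ∀ A : Subgroup G, A ≤ (P : Subgroup G) → ∀ g : G, cj g A ≤ (P : Subgroup G) →
      ∃ h ∈ D, ∃ c ∈ Subgroup.centralizer (A : Set G), g = h * c := by
    intro A hA g hg
    obtain ⟨h, hh, c, hc, rfl⟩ := hctrlW A hA g hg
    obtain ⟨n, hn, o, ho, rfl⟩ := hfac h hh
    rw [← cj_cj, cj_of_cent hc] at hg
    obtain ⟨d, hd, -, hdc⟩ := SectionFactor.absorb P.2 (le_inf hPN hPQ) hOc (inf_le_left.trans hNO) hn ho hA hg
    exact ⟨d, hd, d⁻¹ * (n * o) * c, Subgroup.mul_mem _ hdc hc, by group⟩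
  have hQC : (P : Subgroup G) ⊓ Subgroup.centralizer (Q : Set G) ≤ Q ⊓ Subgroup.centralizer (Q : Set G) := fun x hx =>
    ⟨hWQ (hCP ⟨hx.1, Subgroup.centralizer_le hWQ hx.2⟩), hx.2⟩
  have hNQC : Subgroup.normalizer (Q : Set G) ≤ Subgroup.normalizer (Subgroup.centralizer (Q : Set G) : Set G) :=
    le_normalizer_of_map_conj fun x hx => by rw [← centralizer_map_conj, map_conj_eq_iff.mpr hx]
  have hsylC : IsSylowIn p ((P : Subgroup G) ⊓ Subgroup.centralizer (Q : Set G)) (Subgroup.centralizer (Q : Set G)) :=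
    sylowIn_inf (SectionFactor.sylow_isSylowIn P hPQ) (Subgroup.centralizer_le_normalizer _) hNQC
  refine ⟨Q, (hcr Q).mpr ⟨hQP, ?_, ?_⟩, ?_, fun x hx => map_conj_eq_iff.mpr (hPQ hx), ?_⟩
  · refine ⟨hsylC.toSylow, ?_⟩
    rw [hsylC.toSylow_map]
    exact le_antisymm hQC (inf_le_inf_right _ hQP)
  · intro X hX hXn hQX hidx
    refine le_antisymm ?_ hQX
    set QC := Q ⊔ Subgroup.centralizer (Q : Set G) with hQCdef
    have hNQ : ∀ n ∈ Subgroup.normalizer (Q : Set G), n ∈ N := by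
      intro n hn
      obtain ⟨h, hh, c, hc, rfl⟩ := hctrlW Q hQP n (by rw [cj_eq.mpr hn]; exact hQP)
      exact N.mul_mem hh (hCN (Subgroup.centralizer_le hWQ hc))
    have hXN : X ≤ N := fun x hx => hNQ x (hX hx)
    have hXsyl : IsSylowIn p ((P : Subgroup G) ⊓ X) X :=
      sylowIn_inf (SectionFactor.sylow_isSylowIn P hPQ) hX
        (le_normalizer_of_map_conj fun n hn => hXn n hn)
    -- the image in `N/C` is a normal `p`-subgroup
    set X' := X.subgroupOf N with hX'
    have hXimg : IsPGroup p (X'.map π) := by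
      rintro ⟨_, x, hx, rfl⟩
      obtain ⟨k, hk⟩ := hidx
      set QC' := QC.subgroupOf X with hQC'
      haveI : QC'.Normal := by
        refine (Subgroup.normal_subgroupOf_iff_le_normalizer hQX).mpr (hX.trans ?_)
        refine le_normalizer_of_map_conj fun n hn => ?_
        rw [hQCdef, Subgroup.map_sup, map_conj_eq_iff.mpr hn, map_conj_eq_iff.mpr (hNQC hn)]
      have h1 : (⟨(x : G), hx⟩ : ↥X) ^ p ^ k ∈ QC' := by
        have hi : QC'.index = p ^ k := hk
        rw [← hi]
        exact Subgroup.pow_index_mem QC' _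
      have h3 : ((Q ⊔ Subgroup.centralizer (Q : Set G)) : Subgroup G) ≤ Q ⊔ C :=
        sup_le_sup_left (Subgroup.centralizer_le hWQ) _
      have h2 : (x : G) ^ p ^ k ∈ Q ⊔ C := h3 h1
      rw [← SetLike.mem_coe, Subgroup.coe_mul_of_left_le_normalizer_right Q C ((hQP.trans hPN).trans hNC)] at h2
      obtain ⟨q, hq, c, hc, e⟩ := h2
      obtain ⟨j, hj⟩ := (P.2.to_le hQP) ⟨q, hq⟩
      refine ⟨k + j, Subtype.ext ?_⟩
      show π x ^ p ^ (k + j) = 1
      have hqN : q ∈ N := hPN (hQP hq)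
      have hπx : π x ^ p ^ k = π ⟨q, hqN⟩ := by
        rw [← map_pow, show x ^ p ^ k = (⟨q, hqN⟩ : ↥N) * ⟨c, hCN hc⟩ from Subtype.ext e.symm, map_mul,
          show π ⟨c, hCN hc⟩ = 1 from (QuotientGroup.eq_one_iff _).mpr hc, mul_one]
      rw [pow_add, pow_mul, hπx, ← map_pow,
        show (⟨q, hqN⟩ : ↥N) ^ p ^ j = 1 from Subtype.ext (congrArg Subtype.val hj : _), map_one]
    haveI : (X'.map π).Normal := by
      rw [← Subgroup.normalizer_eq_top_iff, eq_top_iff]
      intro z _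
      obtain ⟨⟨h, hh⟩, rfl⟩ := QuotientGroup.mk'_surjective C' z
      obtain ⟨n, hn, o, ho, rfl⟩ := hfac h hh
      have h1 : π ⟨n * o, hh⟩ = π ⟨n, hn.1⟩ := by
        refine (QuotientGroup.eq.mpr ?_).symm
        show ((⟨n, hn.1⟩ : ↥N)⁻¹ * ⟨n * o, hh⟩ : ↥N).1 ∈ C
        show n⁻¹ * (n * o) ∈ C
        rw [inv_mul_cancel_left]
        exact hOC ho
      rw [h1]
      refine Subgroup.le_normalizer_map π ⟨⟨n, hn.1⟩, ?_, rfl⟩
      refine Subgroup.mem_normalizer_iff.mpr fun y => ?_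
      have h2 := cj_eq.mp (hXn n hn.2)
      exact Subgroup.mem_normalizer_iff.mp h2 (y : G)
    have hPX : (P : Subgroup G) ⊓ X ≤ Q := le_inf inf_le_left fun x hx =>
      ⟨⟨x, hXN hx.2⟩, CfsgLib.Solvable.Cores.le_pCore hXimg ⟨_, hx.2, rfl⟩, rfl⟩
    obtain ⟨k, hk⟩ := hidx
    set QC' := QC.subgroupOf X with hQC'
    by_contra hne
    have hlt : QC'.index ≠ 1 := fun e => hne (Subgroup.subgroupOf_eq_top.mp (Subgroup.index_eq_one.mp e))
    have hd : QC'.index ∣ (hXsyl.toSylow : Subgroup ↥X).index :=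
      Subgroup.index_dvd_of_le fun x hx => Subgroup.mem_sup_left (hPX hx)
    have hi : QC'.index = p ^ k := hk
    rw [hi] at hd hlt
    rcases k with _ | k
    · exact hlt (pow_zero p)
    · exact hXsyl.toSylow.not_dvd_index ((dvd_pow_self p (Nat.succ_ne_zero k)).trans hd)
  · intro R hR
    obtain ⟨hRP, ⟨RS, hRS⟩, hRX⟩ := (hcr R).mp hR
    have hsylR : IsSylowIn p (R ⊓ Subgroup.centralizer (R : Set G)) (Subgroup.centralizer (R : Set G)) := by
      rw [← hRS]; exact IsSylowIn.of_map_subtype RS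
    by_contra hQR
    set NR := Subgroup.normalizer (R : Set G) with hNR
    set CR := Subgroup.centralizer (R : Set G) with hCR
    set Q₀ := Q ⊓ NR with hQ₀
    have hQ₀R : ¬ Q₀ ≤ R := by
      intro hle
      obtain ⟨d, hd, ⟨-, hdN⟩, hdR⟩ := CfsgLib.Fsys.exists_mem_normalizer_not_mem P.2
        (sup_le hRP hQP) (lt_of_le_of_ne (le_sup_left : R ≤ R ⊔ Q) fun e => hQR (e ▸ le_sup_right))
      rw [← SetLike.mem_coe, Subgroup.coe_mul_of_left_le_normalizer_right R Q (hRP.trans hPQ)] at hd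
      obtain ⟨r, hr, q, hq, rfl⟩ := hd
      refine hdR (R.mul_mem hr (hle ⟨hq, ?_⟩))
      have := NR.mul_mem (NR.inv_mem (Subgroup.le_normalizer hr)) hdN
      rwa [inv_mul_cancel_left] at this
    have hNRC : NR ≤ Subgroup.normalizer (CR : Set G) :=
      le_normalizer_of_map_conj fun x hx => by rw [hCR, ← centralizer_map_conj, map_conj_eq_iff.mpr hx]
    set RC := R ⊔ CR with hRC
    have hRCN : RC ≤ NR := sup_le Subgroup.le_normalizer (Subgroup.centralizer_le_normalizer _)
    have hnRC : ∀ n ∈ NR, cj n RC = RC := fun n hn => by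
      show RC.map _ = RC
      rw [hRC, Subgroup.map_sup, map_conj_eq_iff.mpr hn, map_conj_eq_iff.mpr (hNRC hn)]
    set X := RC ⊔ Q₀ with hXdef
    have hXN : X ≤ NR := sup_le hRCN inf_le_right
    have hXn : ∀ n ∈ NR, cj n X = X := by
      intro n hn
      refine Subgroup.eq_of_le_of_card_ge ?_ (Subgroup.card_map_of_injective (MulAut.conj n).injective).ge
      obtain ⟨h, hh, c, hc, rfl⟩ := hctrl R hRP n (by rw [cj_eq.mpr hn]; exact hRP)
      have hcN : c ∈ NR := Subgroup.centralizer_le_normalizer _ hc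
      have hhN : h ∈ NR := by
        have := NR.mul_mem hn (NR.inv_mem hcN)
        rwa [mul_inv_cancel_right] at this
      have hhQ₀ : cj h Q₀ = Q₀ := by
        show Q₀.map _ = Q₀
        rw [hQ₀, Subgroup.map_inf _ _ _ (MulAut.conj h).injective, map_conj_eq_iff.mpr hh.2,
          map_conj_eq_iff.mpr (Subgroup.le_normalizer hhN)]
      have hcX : cj c X = X := cj_eq.mpr (Subgroup.le_normalizer (Subgroup.mem_sup_left (Subgroup.mem_sup_right hc)))
      show cj (h * c) X ≤ X
      rw [← cj_cj, hcX]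
      show (RC ⊔ Q₀).map _ ≤ X
      rw [Subgroup.map_sup]
      exact sup_le ((hnRC h hhN).le.trans le_sup_left) (hhQ₀.le.trans le_sup_right)
    have hRCn : (RC.subgroupOf X).Normal :=
      (Subgroup.normal_subgroupOf_iff_le_normalizer le_sup_left).mpr fun x hx => cj_eq.mp (hnRC x (hXN hx))
    obtain ⟨k, hk⟩ : ∃ k, RC.relIndex X = p ^ k := by
      have hquot : IsPGroup p (↥X ⧸ RC.subgroupOf X) := by
        intro z
        obtain ⟨⟨x, hx⟩, rfl⟩ := QuotientGroup.mk'_surjective (RC.subgroupOf X) z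
        have hx' := hx
        rw [← SetLike.mem_coe, hXdef, Subgroup.coe_mul_of_right_le_normalizer_left RC Q₀
          (fun y hy => cj_eq.mp (hnRC y hy.2))] at hx'
        obtain ⟨a, ha, q, hq, rfl⟩ := hx'
        obtain ⟨j, hj⟩ := (P.2.to_le hQP) ⟨q, hq.1⟩
        refine ⟨j, ?_⟩
        have hqX : q ∈ X := Subgroup.mem_sup_right hq
        rw [show QuotientGroup.mk' (RC.subgroupOf X) ⟨a * q, hx⟩ = QuotientGroup.mk' (RC.subgroupOf X) ⟨q, hqX⟩ by
          rw [show (⟨a * q, hx⟩ : ↥X) = ⟨a, Subgroup.mem_sup_left ha⟩ * ⟨q, hqX⟩ from rfl, map_mul,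
            show QuotientGroup.mk' (RC.subgroupOf X) ⟨a, Subgroup.mem_sup_left ha⟩ = 1 from
              (QuotientGroup.eq_one_iff _).mpr ha, one_mul],
          ← map_pow, show (⟨q, hqX⟩ : ↥X) ^ p ^ j = 1 from Subtype.ext (congrArg Subtype.val hj : _), map_one]
      obtain ⟨k, hk⟩ := hquot.exists_card_eq
      exact ⟨k, hk⟩
    have hXeq := hRX X hXN hXn le_sup_left ⟨k, hk⟩
    -- `R` is the only Sylow subgroup of `R C(R)`
    refine hQ₀R fun q hq => ?_
    have hqRC : q ∈ RC := hXeq ▸ Subgroup.mem_sup_right hq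
    rw [← SetLike.mem_coe, hRC, Subgroup.coe_mul_of_left_le_normalizer_right R CR
      (Subgroup.le_normalizer.trans hNRC)] at hqRC
    obtain ⟨r, hr, c, hc, rfl⟩ := hqRC
    have hcP : c ∈ (P : Subgroup G) := by
      have := Subgroup.mul_mem _ (Subgroup.inv_mem _ (hRP hr)) (hQP hq.1)
      rwa [inv_mul_cancel_left] at this
    have hcc : IsPGroup p ↥((R ⊓ CR) ⊔ Subgroup.zpowers c) :=
      P.2.to_le (sup_le (inf_le_left.trans hRP) (Subgroup.zpowers_le.mpr hcP))
    have h := hsylR.2.2 _ (sup_le inf_le_right (Subgroup.zpowers_le.mpr hc)) hcc le_sup_left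
    exact R.mul_mem hr ((h.le (Subgroup.mem_sup_right (Subgroup.mem_zpowers c))).1)
  · intro A hA g hg
    obtain ⟨h, hh, c, hc, e⟩ := hctrl A hA g hg
    exact ⟨h, hh.2, c, hc, e⟩)

end Cfsg.Agent.S1953
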