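import Cfsg.Statements.S1954
import Cfsg.Agent.Lib.KGroups.ClosureControl

set_option autoImplicit false
open Cfsg

namespace Cfsg.Agent.S1954

/-- Let N be a normal subgroup of the finite group G, P a Sylow p-subgroup of G, and V a subgroup of P ∩ N normal in P ∩ N such that N_N(V) controls strong fusion in P ∩ N with respect to N (whenever a subgroup A of P ∩ N has n A n⁻¹ ≤ P ∩ N for some n in N, then n = h c with h in N_N(V) and c in C_N(A)). Let W be the subgroup generated by the conjugates of V under N_G(P ∩ N). Then N_G(W) controls strong fusion in P with respect to G. -/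
theorem result {G : Type*} [Group G] [Finite G] {p : ℕ} [Fact p.Prime] (N : Subgroup G) [N.Normal] (P : Sylow p G) (V : Subgroup G)
    (hV : V ≤ (P : Subgroup G) ⊓ N) (hVn : ∀ x ∈ (P : Subgroup G) ⊓ N, V.map (MulAut.conj x).toMonoidHom = V)
    (hctrl : ∀ A : Subgroup G, A ≤ (P : Subgroup G) ⊓ N → ∀ n ∈ N, A.map (MulAut.conj n).toMonoidHom ≤ (P : Subgroup G) ⊓ N →
      ∃ h ∈ N ⊓ Subgroup.normalizer (V : Set G), ∃ c ∈ N ⊓ Subgroup.centralizer (A : Set G), n = h * c)
    (W : Subgroup G) (hW : W = Subgroup.closure (⋃ x ∈ Subgroup.normalizer (((P : Subgroup G) ⊓ N : Subgroup G) : Set G),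
      ((V.map (MulAut.conj x).toMonoidHom : Subgroup G) : Set G))) :
    ∀ A : Subgroup G, A ≤ (P : Subgroup G) → ∀ g : G, A.map (MulAut.conj g).toMonoidHom ≤ (P : Subgroup G) →
        ∃ h ∈ Subgroup.normalizer (W : Set G), ∃ c ∈ Subgroup.centralizer (A : Set G), g = h * c := by
  intro A hA g hg
  have hWeq : W = ⨆ x : {x // x ∈ Subgroup.normalizer (((P : Subgroup G) ⊓ N : Subgroup G) : Set G)},
      CfsgLib.KGroups.ClosureControl.cj (x : G) V := by
    rw [hW]
    refine le_antisymm ((Subgroup.closure_le _).mpr ?_) (iSup_le fun x => ?_)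
    · intro a ha
      obtain ⟨x, hx, ha⟩ := Set.mem_iUnion₂.mp ha
      exact le_iSup (fun x : {x // x ∈ Subgroup.normalizer (((P : Subgroup G) ⊓ N : Subgroup G) : Set G)} =>
        CfsgLib.KGroups.ClosureControl.cj (x : G) V) ⟨x, hx⟩ ha
    · intro a ha
      exact Subgroup.subset_closure (Set.mem_iUnion₂.mpr ⟨x, x.2, ha⟩)
  have hnW : Subgroup.normalizer (((P : Subgroup G) ⊓ N : Subgroup G) : Set G) ≤ Subgroup.normalizer (W : Set G) := by
    intro y hy
    refine CfsgLib.KGroups.ClosureControl.cj_eq.mp (Subgroup.eq_of_le_of_card_ge ?_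
      (Subgroup.card_map_of_injective (MulAut.conj y).injective).ge)
    rw [hWeq]
    show Subgroup.map _ (⨆ _, _) ≤ _
    rw [Subgroup.map_iSup]
    refine iSup_le fun x => ?_
    refine le_trans (le_of_eq (CfsgLib.KGroups.ClosureControl.cj_cj y (x : G) V)) ?_
    exact le_iSup (fun x : {x // x ∈ Subgroup.normalizer (((P : Subgroup G) ⊓ N : Subgroup G) : Set G)} =>
      CfsgLib.KGroups.ClosureControl.cj (x : G) V) ⟨y * x, mul_mem hy x.2⟩
  refine CfsgLib.KGroups.ClosureControl.control (P := P) hnW ?_ A hA g hg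
  rw [hWeq]
  exact CfsgLib.KGroups.ClosureControl.inside_of_closure N P V hV hctrl

end Cfsg.Agent.S1954
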