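import Cfsg.Statements.S1956
import Cfsg.Agent.Lib.Fusion.Transfer

set_option autoImplicit false
open Cfsg

namespace Cfsg.Agent.S1956

/-- Let P be a Sylow p-subgroup of the finite group G such that every element of P of order dividing p (dividing 4 when p = 2) is central in P. Then the fusion of these elements is controlled by N_G(P): if such an element a of P has g a g⁻¹ in P, then g = n c with n normalizing P and c commuting with a. -/
theorem result {G : Type*} [Group G] [Finite G] {p : ℕ} [Fact p.Prime] (P : Sylow p G)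
    (hcen : ∀ a ∈ (P : Subgroup G), (a ^ p = 1 ∨ (p = 2 ∧ a ^ 4 = 1)) → ∀ y ∈ (P : Subgroup G), a * y = y * a) :
    ∀ a ∈ (P : Subgroup G), (a ^ p = 1 ∨ (p = 2 ∧ a ^ 4 = 1)) → ∀ g : G, g * a * g⁻¹ ∈ (P : Subgroup G) →
      ∃ n ∈ Subgroup.normalizer ((P : Subgroup G) : Set G), ∃ c : G, c * a = a * c ∧ g = n * c := by
  intro a ha hord g hg
  have hc : ∀ b ∈ (P : Subgroup G), (b ^ p = 1 ∨ (p = 2 ∧ b ^ 4 = 1)) → b ∈ Subgroup.centralizer (P : Set G) :=
    fun b hb hbo => Subgroup.mem_centralizer_iff.mpr fun y hy => (hcen b hb hbo y hy).symm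
  obtain ⟨n, hn, he⟩ := CfsgLib.Fusion.Transfer.burnside_central P (hc a ha hord)
    (hc _ hg (hord.imp (fun h => by rw [conj_pow, h, mul_one, mul_inv_cancel])
      (fun h => ⟨h.1, by rw [conj_pow, h.2, mul_one, mul_inv_cancel]⟩))) ⟨g, rfl⟩
  refine ⟨n, hn, n⁻¹ * g, ?_, by simp⟩
  have : n⁻¹ * g * a * (n⁻¹ * g)⁻¹ = a := by
    calc n⁻¹ * g * a * (n⁻¹ * g)⁻¹ = n⁻¹ * (g * a * g⁻¹) * n := by simp [mul_assoc]
      _ = a := by rw [← he]; simp [mul_assoc]
  exact mul_inv_eq_iff_eq_mul.mp this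

end Cfsg.Agent.S1956
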