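import Cfsg.Statements.S1957
import Cfsg.Agent.Lib.Coprime.Generation
import Cfsg.Agent.Lib.KGroups.Functor.Basic
import Cfsg.Agent.Lib.Solvable.FrattiniFitting

set_option autoImplicit false
open Cfsg

namespace Cfsg.Agent.S1957

open CfsgLib.LocalEven.SylowIn
open Subgroup

variable {G : Type*} [Group G] [Finite G]

/-- A four-group normal in a Sylow `2`-subgroup of `C(u)`, `u` in it, lies in the `2`-core. -/
theorem mem_core {H : Subgroup G} (hH : Cfsg.IsOfCharacteristicTwo ↥H) {U S : Subgroup G} {u a : G}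
    (hS : IsSylowIn 2 S H) (hu2 : u ^ 2 = 1) (huc : ∀ h ∈ H, h * u = u * h)
    (hU : ∀ q ∈ S, q * a * q⁻¹ = a ∨ q * a * q⁻¹ = a * u) (ha : a ∈ H) (huH : u ∈ H) :
    (⟨a, ha⟩ : ↥H) ∈ Cfsg.pCore 2 ↥H := by
  haveI := Fact.mk Nat.prime_two
  set Q := Cfsg.pCore 2 ↥H with hQ
  haveI hQn : Q.Normal := inferInstance
  set u' : ↥H := ⟨u, huH⟩ with hu'
  have hu'2 : u' ^ 2 = 1 := Subtype.ext hu2
  have huc' : ∀ h : ↥H, h * u' = u' * h := fun h => Subtype.ext (huc h h.2)
  let L : Subgroup ↥H :=
    { carrier := {h | ∀ q ∈ Q, h * q * h⁻¹ = q ∨ h * q * h⁻¹ = q * u'}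
      one_mem' := fun q _ => Or.inl (by simp)
      mul_mem' := fun {x y} hx hy q hq => by
        rw [show x * y * q * (x * y)⁻¹ = x * (y * q * y⁻¹) * x⁻¹ by group]
        rcases hy q hq with h1 | h1 <;> rw [h1]
        · exact hx q hq
        · rw [show x * (q * u') * x⁻¹ = x * q * x⁻¹ * (x * u' * x⁻¹) by group, huc' x, mul_inv_cancel_right]
          rcases hx q hq with h2 | h2 <;> rw [h2]
          · exact Or.inr rfl
          · left; rw [mul_assoc, ← pow_two, hu'2, mul_one]
      inv_mem' := fun {x} hx q hq => by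
        have hq' : x⁻¹ * q * x⁻¹⁻¹ ∈ Q := hQn.conj_mem q hq _
        rcases hx _ hq' with h1 | h1
        · left
          calc x⁻¹ * q * x⁻¹⁻¹ = x * (x⁻¹ * q * x⁻¹⁻¹) * x⁻¹ := h1.symm
            _ = q := by group
        · right
          have h2 : q = x⁻¹ * q * x⁻¹⁻¹ * u' := by
            conv_lhs => rw [show q = x * (x⁻¹ * q * x⁻¹⁻¹) * x⁻¹ by group]
            rw [h1]
          calc x⁻¹ * q * x⁻¹⁻¹ = x⁻¹ * q * x⁻¹⁻¹ * (u' * u') := by rw [← pow_two, hu'2, mul_one]
            _ = q * u' := by rw [← mul_assoc, ← h2] }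
  haveI hLn : L.Normal := ⟨fun x hx g q hq => by
    have hq' : g⁻¹ * q * g⁻¹⁻¹ ∈ Q := hQn.conj_mem q hq _
    rw [show g * x * g⁻¹ * q * (g * x * g⁻¹)⁻¹ = g * (x * (g⁻¹ * q * g⁻¹⁻¹) * x⁻¹) * g⁻¹ by group]
    rcases hx _ hq' with h1 | h1 <;> rw [h1]
    · left; group
    · right
      rw [show g * (g⁻¹ * q * g⁻¹⁻¹ * u') * g⁻¹ = q * (g * u' * g⁻¹) by group, huc' g, mul_inv_cancel_right]⟩
  have hQp : IsPGroup 2 Q := CfsgLib.Solvable.Cores.isPGroup_pCore 2
  have hLp : IsPGroup 2 L := by
    rintro ⟨x, hx⟩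
    have hc : x ^ 2 ∈ Subgroup.centralizer (Q : Set ↥H) := by
      rw [mem_centralizer_iff]
      intro q hq
      have h2 : x ^ 2 * q * (x ^ 2)⁻¹ = q := by
        rw [show x ^ 2 * q * (x ^ 2)⁻¹ = x * (x * q * x⁻¹) * x⁻¹ by rw [pow_two]; group]
        rcases hx q hq with h1 | h1 <;> rw [h1]
        · exact h1
        · rw [show x * (q * u') * x⁻¹ = x * q * x⁻¹ * (x * u' * x⁻¹) by group, huc' x, mul_inv_cancel_right,
            h1, mul_assoc, ← pow_two, hu'2, mul_one]
      exact (mul_inv_eq_iff_eq_mul.mp h2).symm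
    obtain ⟨k, hk⟩ := hQp ⟨_, hH hc⟩
    refine ⟨k + 1, Subtype.ext ?_⟩
    have := congrArg Subtype.val hk
    rw [SubmonoidClass.coe_pow, pow_succ', pow_mul]
    exact this
  have haL : (⟨a, ha⟩ : ↥H) ∈ L := by
    intro q hq
    have hqS : (q : G) ∈ S := by
      have hQS := pCoreOf_le_sylowIn hS
      exact hQS ⟨q, hq, rfl⟩
    rcases hU q hqS with h1 | h1
    · left
      apply Subtype.ext
      show a * q * a⁻¹ = q
      have h1' : (q : G) * a = a * q := mul_inv_eq_iff_eq_mul.mp h1
      rw [← h1', mul_inv_cancel_right]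
    · right
      apply Subtype.ext
      show a * q * a⁻¹ = q * u
      have h1' : (q : G) * a = a * u * q := mul_inv_eq_iff_eq_mul.mp h1
      rw [mul_assoc a u, ← huc q q.2, ← mul_assoc] at h1'
      have h3 : a * (q : G) = q * a * u := by
        rw [h1', mul_assoc, ← pow_two, hu2, mul_one]
      rw [h3, mul_assoc (q : G) a u, huc a ha, ← mul_assoc, mul_inv_cancel_right]
  exact CfsgLib.Solvable.Cores.le_pCore hLp haL

/-- Let `G` be a finite non-abelian simple group in which every local subgroup is solvable and which is of characteristic 2 type. Let `P` be a Sylow 2-subgroup of `G` and `U` a normal subgroup of `P` that is a four-group, with `U` central in `P` if the centre of `P` is not cyclic. Then `U` centralizes every subgroup of odd order of `G` that it normalizes. -/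
theorem result {G : Type*} [Group G] [Finite G]
    [IsSimpleGroup G] (hna : ¬ IsMulCommutative G) (hN : Cfsg.IsNGroup G) (h2 : Cfsg.IsCharacteristicTwoType G)
    (P : Sylow 2 G) (U : Subgroup G) (hUP : U ≤ (P : Subgroup G)) (hUn : (P : Subgroup G) ≤ Subgroup.normalizer (U : Set G))
    (hU4 : IsKleinFour ↥U)
    (hUZ : ¬ IsCyclic ↥((P : Subgroup G) ⊓ Subgroup.centralizer ((P : Subgroup G) : Set G)) →
      U ≤ Subgroup.centralizer ((P : Subgroup G) : Set G))
    (K : Subgroup G) (hK : Odd (Nat.card K)) (hUK : U ≤ Subgroup.normalizer (K : Set G)) :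
    U ≤ Subgroup.centralizer (K : Set G) := by
  classical
  haveI := Fact.mk Nat.prime_two
  haveI := hU4
  have hUc : Nat.card U = 4 := hU4.card_four
  have hU2 : ∀ a ∈ U, a ^ 2 = 1 := fun a ha => by
    have := congrArg Subtype.val (Monoid.pow_exponent_eq_one (⟨a, ha⟩ : ↥U))
    rw [hU4.exponent_two] at this
    exact this
  haveI hUcomm : IsMulCommutative ↥U := ⟨⟨fun a b => mul_comm_of_exponent_two hU4.exponent_two a b⟩⟩
  have hUne : U ≠ ⊥ := fun e => by rw [e, Subgroup.card_bot] at hUc; omega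
  set Z := (P : Subgroup G) ⊓ centralizer ((P : Subgroup G) : Set G) with hZ
  -- the local statement
  have main : ∀ u ∈ U, u ≠ 1 → ∀ S : Subgroup G, IsSylowIn 2 S (centralizer ({u} : Set G)) →
      (∀ q ∈ S, ∀ a ∈ U, q * a * q⁻¹ = a ∨ q * a * q⁻¹ = a * u) →
      ∀ k ∈ K ⊓ centralizer ({u} : Set G), ∀ a ∈ U, k * a = a * k := by
    intro u hu hu1 S hS hact k hk a ha
    set H := centralizer ({u} : Set G) with hH
    have hUH : U ≤ H := fun b hb => mem_centralizer_singleton_iff.mpr
      (congrArg Subtype.val (hUcomm.is_comm.comm (⟨b, hb⟩ : U) ⟨u, hu⟩))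
    have hchar : Cfsg.IsOfCharacteristicTwo ↥H := by
      have hz : IsPGroup 2 (Subgroup.zpowers u) := (P.2.to_le hUP).to_le (Subgroup.zpowers_le.mpr hu)
      have h := h2.2 _ hz (Subgroup.zpowers_ne_bot.mpr hu1)
      have e : Subgroup.normalizer (Subgroup.zpowers u : Set G) = H := by
        refine le_antisymm (fun g hg => mem_centralizer_singleton_iff.mpr ?_) ?_
        · have h1 : g * u * g⁻¹ ∈ Subgroup.zpowers u :=
            (mem_normalizer_iff.mp hg u).mp (mem_zpowers u)
          obtain ⟨i, hi⟩ := mem_zpowers_iff.mp h1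
          have hi' : u ^ i = 1 ∨ u ^ i = u := by
            rcases Int.even_or_odd i with ⟨j, rfl⟩ | ⟨j, rfl⟩
            · left; rw [← two_mul, zpow_mul, zpow_ofNat, hU2 u hu, one_zpow]
            · right; rw [zpow_add, zpow_mul, zpow_ofNat, hU2 u hu, one_zpow, one_mul, zpow_one]
          rcases hi' with h2 | h2 <;> rw [h2] at hi
          · exact absurd (conj_eq_one_iff.mp hi.symm) hu1
          · exact mul_inv_eq_iff_eq_mul.mp hi.symm
        · refine le_trans ?_ (centralizer_le_normalizer _)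
          rw [Subgroup.zpowers_eq_closure, centralizer_closure]
      rw [e] at h; exact h
    have hmem := mem_core hchar (S := S) (U := U) (hS := hS) (hU2 u hu) (fun h hh => mem_centralizer_singleton_iff.mp hh)
      (fun q hq => hact q hq a ha) (hUH ha) (hUH hu)
    haveI : (Cfsg.pCore 2 ↥H).Normal := inferInstance
    have h1 : (⟨k, hk.2⟩ : ↥H) * ⟨a, hUH ha⟩ * (⟨k, hk.2⟩ : ↥H)⁻¹ * (⟨a, hUH ha⟩ : ↥H)⁻¹ ∈ Cfsg.pCore 2 ↥H :=
      mul_mem (Subgroup.Normal.conj_mem inferInstance _ hmem _) (inv_mem hmem)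
    have h2 : k * a * k⁻¹ * a⁻¹ ∈ K := by
      rw [show k * a * k⁻¹ * a⁻¹ = k * (a * k⁻¹ * a⁻¹) by group]
      exact mul_mem hk.1 ((mem_normalizer_iff.mp (hUK ha) k⁻¹).mp (inv_mem hk.1))
    set c := k * a * k⁻¹ * a⁻¹ with hc
    obtain ⟨j, hj⟩ := CfsgLib.Solvable.Cores.isPGroup_pCore (G := ↥H) 2 ⟨_, h1⟩
    have hj' : c ^ 2 ^ j = 1 := congrArg (fun x : ↥(Cfsg.pCore 2 ↥H) => ((x : ↥H) : G)) hj
    have hc1 : orderOf c = 1 := by
      refine Nat.eq_one_of_dvd_coprimes ?_ (orderOf_dvd_of_pow_eq_one hj') (Subgroup.orderOf_dvd_natCard K h2)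
      exact ((Nat.prime_two.coprime_iff_not_dvd).mpr hK.not_two_dvd_nat).pow_left j
    have hc' : c = 1 := orderOf_eq_one_iff.mp hc1
    rw [hc] at hc'
    exact mul_inv_eq_iff_eq_mul.mp (mul_inv_eq_one.mp hc')
  -- finding the Sylow subgroup
  have hact4 : ∀ u ∈ U, u ≠ 1 → ∀ z ∈ U, z ≠ 1 → z ≠ u → ∀ a ∈ U, a = 1 ∨ a = u ∨ a = z ∨ a = z * u := by
    intro u hu hu1 z hz hz1 hzu a ha
    by_contra hne
    push Not at hne
    obtain ⟨n1, n2, n3, n4⟩ := hne
    have hzu1 : z * u ≠ 1 := fun e => hzu (by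
      rw [eq_inv_of_mul_eq_one_left e, inv_eq_of_mul_eq_one_right (by rw [← pow_two]; exact hU2 u hu)])
    have hsub : ({1, u, z, z * u, a} : Finset G) ⊆ (Set.toFinite (U : Set G)).toFinset := by
      intro x hx
      rw [Set.Finite.mem_toFinset]
      simp only [Finset.mem_insert, Finset.mem_singleton] at hx
      rcases hx with rfl | rfl | rfl | rfl | rfl
      exacts [one_mem U, hu, hz, U.mul_mem hz hu, ha]
    have hle := Finset.card_le_card hsub
    rw [← Set.ncard_eq_toFinset_card, ← Nat.card_coe_set_eq] at hle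
    have : Nat.card ((U : Set G) : Type _) = 4 := hUc
    rw [this] at hle
    have h5 : ({1, u, z, z * u, a} : Finset G).card = 5 := by
      rw [Finset.card_insert_of_notMem, Finset.card_insert_of_notMem, Finset.card_insert_of_notMem,
        Finset.card_insert_of_notMem, Finset.card_singleton]
      · simp only [Finset.mem_singleton]; exact n4.symm
      · simp only [Finset.mem_insert, Finset.mem_singleton]
        rintro (e | e)
        · exact hu1 (left_eq_mul.mp e)
        · exact n3 e.symm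
      · simp only [Finset.mem_insert, Finset.mem_singleton]
        rintro (e | e | e)
        · exact hzu e.symm
        · exact hz1 (right_eq_mul.mp e)
        · exact n2 e.symm
      · simp only [Finset.mem_insert, Finset.mem_singleton]
        rintro (e | e | e | e)
        · exact hu1 e.symm
        · exact hz1 e.symm
        · exact hzu1 e.symm
        · exact n1 e.symm
    omega
  have hnormact : ∀ u ∈ U, u ≠ 1 → ∀ q : G, q ∈ Subgroup.normalizer (U : Set G) → q * u = u * q →
      ∀ a ∈ U, q * a * q⁻¹ = a ∨ q * a * q⁻¹ = a * u := by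
    intro u hu hu1 q hq hqu a ha
    by_cases ha1 : a = 1
    · left; subst ha1; simp
    by_cases hau : a = u
    · left; subst hau; rw [hqu, mul_inv_cancel_right]
    have hm : q * a * q⁻¹ ∈ U := (mem_normalizer_iff.mp hq a).mp ha
    rcases hact4 u hu hu1 a ha ha1 hau _ hm with e | e | e | e
    · exact absurd (conj_eq_one_iff.mp e) ha1
    · refine absurd ?_ hau
      calc a = q⁻¹ * (q * a * q⁻¹) * q := by group
        _ = q⁻¹ * u * q := by rw [e]
        _ = u := by rw [mul_assoc, ← hqu, inv_mul_cancel_left]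
    · exact Or.inl e
    · exact Or.inr e
  have hexists : ∀ u ∈ U, u ≠ 1 → ∃ S : Subgroup G, IsSylowIn 2 S (centralizer ({u} : Set G)) ∧
      S ≤ Subgroup.normalizer (U : Set G) := by
    intro u hu hu1
    set H := centralizer ({u} : Set G) with hH
    set T := (P : Subgroup G) ⊓ H with hT
    obtain ⟨S, hS, hTS⟩ := exists_isSylowIn (p := 2) H (inf_le_right : T ≤ H) (P.2.to_le inf_le_left)
    by_cases hST : S = T
    · exact ⟨S, hS, hST ▸ inf_le_left.trans hUn⟩
    have huT : u ∈ T := ⟨hUP hu, mem_centralizer_singleton_iff.mpr rfl⟩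
    obtain ⟨z, hzU, hzZ, hz1⟩ : ∃ z ∈ U, z ∈ centralizer ((P : Subgroup G) : Set G) ∧ z ≠ 1 := by
      haveI := P.2.isNilpotent
      haveI hn : (U.subgroupOf (P : Subgroup G)).Normal :=
        (normal_subgroupOf_iff_le_normalizer hUP).mpr hUn
      have hne := CfsgLib.Solvable.FrattiniFitting.inf_center_ne_bot (U.subgroupOf (P : Subgroup G)) (by
        rw [Ne, subgroupOf_eq_bot, disjoint_iff, inf_eq_left.mpr hUP]; exact hUne)
      obtain ⟨w, hw, hw1⟩ := (Subgroup.bot_or_exists_ne_one _).resolve_left hne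
      refine ⟨w, hw.1, mem_centralizer_iff.mpr fun q hq => ?_, fun e => hw1 (Subtype.ext e)⟩
      exact congrArg Subtype.val (mem_center_iff.mp hw.2 ⟨q, hq⟩)
    by_cases huZ : u ∈ centralizer ((P : Subgroup G) : Set G)
    · refine absurd ?_ hST
      have hPH : (P : Subgroup G) ≤ H := fun q hq =>
        mem_centralizer_singleton_iff.mpr (mem_centralizer_iff.mp huZ q hq)
      rw [hT, inf_eq_left.mpr hPH]
      exact P.3 hS.2.1 (le_inf le_rfl hPH |>.trans hTS)
    have hcyc : IsCyclic ↥Z := by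
      by_contra h
      exact huZ (hUZ h hu)
    have hzu : z ≠ u := fun e => huZ (e ▸ hzZ)
    have hzH : z ∈ T := ⟨hUP hzU, mem_centralizer_singleton_iff.mpr (mem_centralizer_iff.mp hzZ u (hUP hu)).symm⟩
    -- `T` has index `2` in `P`
    have hTidx : Nat.card (P : Subgroup G) ≤ 2 * Nat.card T := by
      rw [Subgroup.card_eq_card_quotient_mul_card_subgroup (T.subgroupOf (P : Subgroup G)),
        Nat.card_congr (subgroupOfEquivOfLe (inf_le_left : T ≤ _)).toEquiv]
      refine Nat.mul_le_mul_right _ ?_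
      let f : ↥(P : Subgroup G) ⧸ T.subgroupOf (P : Subgroup G) → G := fun c => (c.out : G) * u * (c.out : G)⁻¹
      have hf : Function.Injective f := by
        intro c d e
        rw [← Quotient.out_eq c, ← Quotient.out_eq d]
        refine QuotientGroup.eq.mpr ⟨((c.out)⁻¹ * d.out).2, mem_centralizer_singleton_iff.mpr ?_⟩
        change ((c.out : G))⁻¹ * (d.out : G) * u = u * ((c.out : G)⁻¹ * (d.out : G))
        have e' : (c.out : G) * u * (c.out : G)⁻¹ = (d.out : G) * u * (d.out : G)⁻¹ := e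
        calc (c.out : G)⁻¹ * (d.out : G) * u = (c.out : G)⁻¹ * ((d.out : G) * u * (d.out : G)⁻¹) * (d.out : G) := by group
          _ = (c.out : G)⁻¹ * ((c.out : G) * u * (c.out : G)⁻¹) * (d.out : G) := by rw [e']
          _ = u * ((c.out : G)⁻¹ * (d.out : G)) := by group
      have hr : Set.range f ⊆ ({u, u * z} : Set G) := by
        rintro _ ⟨c, rfl⟩
        rcases hnormact z hzU hz1 _ (hUn c.out.2) (mem_centralizer_iff.mp hzZ _ c.out.2) u hu with e | e
        · exact Or.inl e
        · exact Or.inr e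
      rw [← Nat.card_range_of_injective hf, Nat.card_coe_set_eq]
      exact (Set.ncard_le_ncard hr (Set.toFinite _)).trans ((Set.ncard_insert_le _ _).trans (by rw [Set.ncard_singleton]))
    -- `S` is a Sylow subgroup of `G`
    obtain ⟨R, hR⟩ := hS.2.1.exists_le_sylow
    obtain ⟨i, hi⟩ := (P.2.to_le (inf_le_left : T ≤ _)).exists_card_eq
    obtain ⟨j, hj⟩ := hS.2.1.exists_card_eq
    have hRP : Nat.card (R : Subgroup G) = Nat.card (P : Subgroup G) := by
      rw [R.card_eq_multiplicity, P.card_eq_multiplicity]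
    have hlt : Nat.card T < Nat.card S := lt_of_le_of_ne (card_le_of_le hTS)
      fun e => hST (eq_of_le_of_card_ge hTS e.ge).symm
    have hS2 : 2 * Nat.card T ≤ Nat.card S := by
      rw [hi, hj] at hlt ⊢
      have := (Nat.pow_lt_pow_iff_right (by norm_num : 1 < 2)).mp hlt
      calc 2 * 2 ^ i = 2 ^ (i + 1) := by rw [pow_succ]; ring
        _ ≤ 2 ^ j := Nat.pow_le_pow_right (by norm_num) this
    have hSR : S = (R : Subgroup G) :=
      eq_of_le_of_card_ge hR (by rw [hRP]; exact hTidx.trans hS2)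
    have hScard : Nat.card S = 2 * Nat.card T := le_antisymm
      ((card_le_of_le hR).trans (hRP.le.trans hTidx)) hS2
    -- the centre of `S` is cyclic
    obtain ⟨g, hg⟩ := MulAction.exists_smul_eq G P R
    have huS : u ∈ S := hTS huT
    have huni : ∀ w ∈ S, (∀ s ∈ S, s * w = w * s) → w ^ 2 = 1 → w = 1 ∨ w = u := by
      have hconj : ∀ w ∈ S, (∀ s ∈ S, s * w = w * s) → g⁻¹ * w * g ∈ Z := by
        intro w hw hws
        have hmem : ∀ x, x ∈ S ↔ g⁻¹ * x * g ∈ (P : Subgroup G) := fun x => by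
          rw [hSR, ← hg, Sylow.coe_subgroup_smul]
          exact CfsgLib.LocalEven.SylowIn.mem_map_conj
        refine ⟨(hmem w).mp hw, mem_centralizer_iff.mpr fun q hq => ?_⟩
        have := hws (g * q * g⁻¹) ((hmem _).mpr (by rw [show g⁻¹ * (g * q * g⁻¹) * g = q by group]; exact hq))
        calc q * (g⁻¹ * w * g) = g⁻¹ * (g * q * g⁻¹ * w) * g := by group
          _ = g⁻¹ * (w * (g * q * g⁻¹)) * g := by rw [this]
          _ = g⁻¹ * w * g * q := by group
      intro w hw hws hw2
      by_contra hne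
      push Not at hne
      have hucS : ∀ s ∈ S, s * u = u * s := fun s hs => mem_centralizer_singleton_iff.mp (hS.1 hs)
      haveI := Fintype.ofFinite ↥Z
      have h3 := IsCyclic.card_pow_eq_one_le (α := ↥Z) (n := 2) (by norm_num)
      have hmem1 : ∀ v, ∀ hv : v ∈ S, ∀ hvs : (∀ s ∈ S, s * v = v * s), v ^ 2 = 1 →
          (⟨g⁻¹ * v * g, hconj v hv hvs⟩ : ↥Z) ^ 2 = 1 := fun v hv hvs hv2 => Subtype.ext (by
        show (g⁻¹ * v * g) ^ 2 = 1
        rw [pow_two] at hv2
        rw [pow_two, show g⁻¹ * v * g * (g⁻¹ * v * g) = g⁻¹ * (v * v) * g by group, hv2]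
        group)
      have h4 : ({1, ⟨g⁻¹ * u * g, hconj u huS hucS⟩, ⟨g⁻¹ * w * g, hconj w hw hws⟩} : Finset ↥Z) ⊆
          Finset.univ.filter fun a => a ^ 2 = 1 := by
        intro x hx
        simp only [Finset.mem_insert, Finset.mem_singleton] at hx
        rw [Finset.mem_filter]
        refine ⟨Finset.mem_univ _, ?_⟩
        rcases hx with rfl | rfl | rfl
        exacts [one_pow _, hmem1 u huS hucS (hU2 u hu), hmem1 w hw hws hw2]
      have hinj : ∀ v v' : G, g⁻¹ * v * g = g⁻¹ * v' * g → v = v' := fun v v' e =>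
        mul_left_cancel (mul_right_cancel e)
      have h5 : ({1, ⟨g⁻¹ * u * g, hconj u huS hucS⟩, ⟨g⁻¹ * w * g, hconj w hw hws⟩} : Finset ↥Z).card = 3 := by
        rw [Finset.card_insert_of_notMem, Finset.card_insert_of_notMem, Finset.card_singleton]
        · simp only [Finset.mem_singleton]
          intro e
          exact hne.2 (hinj _ _ (congrArg Subtype.val e)).symm
        · simp only [Finset.mem_insert, Finset.mem_singleton]
          rintro (e | e)
          · exact hu1 (hinj u 1 (by rw [mul_one, inv_mul_cancel]; exact (congrArg Subtype.val e).symm))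
          · exact hne.1 (hinj w 1 (by rw [mul_one, inv_mul_cancel]; exact (congrArg Subtype.val e).symm))
      have := Finset.card_le_card h4
      omega
    -- `S` normalizes `U`
    haveI hTn : (T.subgroupOf S).Normal := by
      apply Subgroup.normal_of_index_eq_two
      have h := (T.subgroupOf S).card_mul_index
      rw [Nat.card_congr (subgroupOfEquivOfLe hTS).toEquiv, hScard, mul_comm 2] at h
      exact Nat.eq_of_mul_eq_mul_left Nat.card_pos h
    have hzT : ∀ t ∈ T, t * z = z * t := fun t ht => mem_centralizer_iff.mp hzZ t ht.1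
    refine ⟨S, hS, fun s hs => ?_⟩
    have hsu : s * u = u * s := mem_centralizer_singleton_iff.mp (hS.1 hs)
    by_cases hsT : s ∈ T
    · exact hUn hsT.1
    set z' := s * z * s⁻¹ with hz'
    have hTs : ∀ t ∈ T, ∀ r ∈ S, r * t * r⁻¹ ∈ T := fun t ht r hr =>
      hTn.conj_mem ⟨t, hTS ht⟩ ht ⟨r, hr⟩
    have hz'T : z' ∈ T := hTs z hzH s hs
    have hz'c : ∀ t ∈ T, t * z' = z' * t := by
      intro t ht
      have h1 := hzT _ (hTs t ht s⁻¹ (inv_mem hs))
      calc t * z' = s * (s⁻¹ * t * s⁻¹⁻¹ * z) * s⁻¹ := by rw [hz']; group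
        _ = s * (z * (s⁻¹ * t * s⁻¹⁻¹)) * s⁻¹ := by rw [h1]
        _ = z' * t := by rw [hz']; group
    have hsq : s * s ∈ T := by
      have h := Subgroup.mul_self_mem_of_index_two (H := T.subgroupOf S) (by
        have h := (T.subgroupOf S).card_mul_index
        rw [Nat.card_congr (subgroupOfEquivOfLe hTS).toEquiv, hScard, mul_comm 2] at h
        exact Nat.eq_of_mul_eq_mul_left Nat.card_pos h) (⟨s, hs⟩ : ↥S)
      exact h
    set w := z * z' with hw
    have hwT : ∀ t ∈ T, t * w = w * t := fun t ht => by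
      rw [hw, ← mul_assoc, hzT t ht, mul_assoc, hz'c t ht, ← mul_assoc]
    have hsw : s * w = w * s := by
      have h1 : s * z' * s⁻¹ = z := by
        rw [hz', show s * (s * z * s⁻¹) * s⁻¹ = (s * s) * z * (s * s)⁻¹ by group, hzT _ hsq, mul_inv_cancel_right]
      refine mul_inv_eq_iff_eq_mul.mp ?_
      rw [hw, show s * (z * z') * s⁻¹ = (s * z * s⁻¹) * (s * z' * s⁻¹) by group, h1, ← hz']
      exact (hz'c z hzH).symm
    have hwS : ∀ r ∈ S, r * w = w * r := by
      have hle : S ≤ centralizer ({w} : Set G) := by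
        set M := T ⊔ Subgroup.zpowers s with hM
        have hMS : M = S := by
          refine eq_of_le_of_card_ge (sup_le hTS (Subgroup.zpowers_le.mpr hs)) ?_
          obtain ⟨m, hm⟩ := (hS.2.1.to_le (sup_le hTS (Subgroup.zpowers_le.mpr hs))).exists_card_eq
          have hlt' : Nat.card T < Nat.card M := lt_of_le_of_ne (card_le_of_le le_sup_left)
            fun e => hsT ((eq_of_le_of_card_ge le_sup_left e.ge).symm ▸
              (Subgroup.mem_sup_right (Subgroup.mem_zpowers s) : s ∈ M))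
          rw [hScard]
          rw [hm, hi] at hlt' ⊢
          have := (Nat.pow_lt_pow_iff_right (by norm_num : 1 < 2)).mp hlt'
          calc 2 * 2 ^ i = 2 ^ (i + 1) := by rw [pow_succ]; ring
            _ ≤ 2 ^ m := Nat.pow_le_pow_right (by norm_num) this
        rw [← hMS]
        exact sup_le (fun t ht => mem_centralizer_singleton_iff.mpr (hwT t ht))
          (Subgroup.zpowers_le.mpr (mem_centralizer_singleton_iff.mpr hsw))
      exact fun r hr => mem_centralizer_singleton_iff.mp (hle hr)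
    have hw2 : w ^ 2 = 1 := by
      have hz2 : z * z = 1 := by rw [← pow_two]; exact hU2 z hzU
      have hz'2 : z' * z' = 1 := by
        rw [hz', show s * z * s⁻¹ * (s * z * s⁻¹) = s * (z * z) * s⁻¹ by group, hz2]; group
      rw [hw, pow_two, show z * z' * (z * z') = z * (z' * z) * z' by group, ← hz'c z hzH]
      rw [show z * (z * z') * z' = (z * z) * (z' * z') by group, hz2, hz'2, one_mul]
    have hz'U : z' ∈ U := by
      have hzz : z⁻¹ = z := inv_eq_of_mul_eq_one_right (by rw [← pow_two]; exact hU2 z hzU)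
      have e : z' = z * w := by
        rw [hw, ← mul_assoc]; nth_rw 2 [← hzz]; rw [mul_inv_cancel, one_mul]
      rcases huni w (mul_mem (hTS hzH) (hTS hz'T)) hwS hw2 with e1 | e1 <;> rw [e, e1]
      · rw [mul_one]; exact hzU
      · exact mul_mem hzU hu
    refine map_conj_eq_iff.mp (eq_of_le_of_card_ge ?_ (Subgroup.card_map_of_injective (MulAut.conj s).injective).ge)
    rintro _ ⟨a, ha, rfl⟩
    show s * a * s⁻¹ ∈ U
    rcases hact4 u hu hu1 z hzU hz1 hzu a ha with rfl | rfl | rfl | rfl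
    · simp
    · rw [hsu, mul_inv_cancel_right]; exact hu
    · exact hz'U
    · rw [show s * (z * u) * s⁻¹ = (s * z * s⁻¹) * (s * u * s⁻¹) by group, hsu, mul_inv_cancel_right]
      exact mul_mem hz'U hu
  -- generation
  have hcop : (Nat.card U).Coprime (Nat.card K) := by
    rw [hUc, show 4 = 2 ^ 2 by norm_num]
    exact ((Nat.prime_two.coprime_iff_not_dvd).mpr hK.not_two_dvd_nat).pow_left 2
  rw [le_centralizer_iff, ← CfsgLib.Coprime.iSup_centralizer_of_cyclic_quotient hUK hcop]
  refine iSup₂_le fun B hB => ?_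
  obtain ⟨hBU, a, ha, hsup⟩ := hB
  have hB1 : B ≠ ⊥ := by
    rintro rfl
    rw [bot_sup_eq] at hsup
    have h4 : Nat.card U = orderOf a := by rw [← hsup, Nat.card_zpowers]
    have := orderOf_dvd_of_pow_eq_one (hU2 a ha)
    rw [← h4, hUc] at this
    norm_num at this
  obtain ⟨u, hu, hu1⟩ := B.bot_or_exists_ne_one.resolve_left hB1
  obtain ⟨S, hS, hSU⟩ := hexists u (hBU hu) hu1
  intro k hk
  rw [mem_centralizer_iff]
  intro a ha
  refine (main u (hBU hu) hu1 S hS ?_ k ⟨hk.1, Subgroup.centralizer_le (Set.singleton_subset_iff.mpr hu) hk.2⟩ a ha).symm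
  exact fun q hq b hb => hnormact u (hBU hu) hu1 q (hSU hq) (mem_centralizer_singleton_iff.mp (hS.1 hq)) b hb

end Cfsg.Agent.S1957
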