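import Cfsg.Statements.S1958
import Cfsg.Agent.Lib.OddOrder.SCNInvariant

set_option autoImplicit false
open Cfsg

namespace Cfsg.Agent.S1958

/-- Let `G` be a finite group, `p` a prime, and `x, y` commuting elements of order `p` whose centralizers `C_G(x)` and `C_G(y)` are both solvable. Then `O_{p'}(C_G(x)) ∩ C_G(y) = O_{p'}(C_G(y)) ∩ C_G(x)` (balance). -/
theorem result {G : Type*} [Group G] [Finite G]
    (p : ℕ) [Fact p.Prime] (x y : G) (hx : orderOf x = p) (hy : orderOf y = p) (hxy : x * y = y * x)
    (hCx : Group.IsSolvable ↥(Subgroup.centralizer ({x} : Set G))) (hCy : Group.IsSolvable ↥(Subgroup.centralizer ({y} : Set G))) :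
    Cfsg.centralizerPPrimeCore p x ⊓ Subgroup.centralizer {y} = Cfsg.centralizerPPrimeCore p y ⊓ Subgroup.centralizer {x} := by
  have key : ∀ a b : G, orderOf a = p → orderOf b = p → a * b = b * a → Group.IsSolvable ↥(Subgroup.centralizer ({b} : Set G)) →
      Cfsg.centralizerPPrimeCore p a ⊓ Subgroup.centralizer {b} ≤ Cfsg.centralizerPPrimeCore p b ⊓ Subgroup.centralizer {a} := by
    intro a b ha hb hab _
    set Cb := Subgroup.centralizer ({b} : Set G)
    set Ca := Subgroup.centralizer ({a} : Set G)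
    have haC : a ∈ Cb := Subgroup.mem_centralizer_iff.mpr fun y hy => by
      rw [Set.mem_singleton_iff.mp hy]; exact hab.symm
    have hle : Cfsg.centralizerPPrimeCore p a ≤ Ca := Subgroup.map_subtype_le _
    set W : Subgroup Cb := Subgroup.zpowers ⟨a, haC⟩
    set D : Subgroup Cb := (Cfsg.centralizerPPrimeCore p a ⊓ Cb).subgroupOf Cb
    have hW : IsPGroup p W := IsPGroup.of_card (n := 1) (by
      rw [Nat.card_zpowers, pow_one, Subgroup.orderOf_mk, ha])
    have hDW : D ≤ Subgroup.centralizer (W : Set Cb) := by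
      intro d hd
      rw [show W = Subgroup.zpowers (⟨a, haC⟩ : Cb) from rfl, Subgroup.zpowers_eq_closure, Subgroup.centralizer_closure,
        Subgroup.mem_centralizer_iff]
      rintro _ rfl
      exact Subtype.ext (Subgroup.mem_centralizer_iff.mp (hle hd.1) a rfl)
    have hDc : (Nat.card D).Coprime p := by
      have h1 : Nat.card D = Nat.card ↥(Cfsg.centralizerPPrimeCore p a ⊓ Cb) :=
        Nat.card_congr (Subgroup.subgroupOfEquivOfLe inf_le_right).toEquiv
      rw [h1]
      refine Nat.Coprime.coprime_dvd_left (Subgroup.card_dvd_of_le inf_le_left) ?_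
      show (Nat.card ((Cfsg.pPrimeCore p Ca).map Ca.subtype)).Coprime p
      rw [Subgroup.card_map_of_injective Ca.subtype_injective]
      exact CfsgLib.Solvable.Cores.coprime_card_pPrimeCore p
    have hnO : Ca ≤ Subgroup.normalizer (Cfsg.centralizerPPrimeCore p a : Set G) := by
      have hn := CfsgLib.Solvable.Cores.pPrimeCore_normal (G := Ca) p
      have h1 : (Subgroup.normalizer (Cfsg.pPrimeCore p Ca : Set Ca)).map Ca.subtype ≤
          Subgroup.normalizer (Cfsg.centralizerPPrimeCore p a : Set G) := Subgroup.le_normalizer_map _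
      rwa [Subgroup.normalizer_eq_top, ← MonoidHom.range_eq_map, Ca.range_subtype] at h1
    have hn : Subgroup.centralizer (W : Set Cb) ≤ Subgroup.normalizer (D : Set Cb) := by
      intro c hc
      have hca : (c : G) ∈ Ca := Subgroup.mem_centralizer_iff.mpr fun y hy => by
        rw [Set.mem_singleton_iff.mp hy]
        exact congrArg Subtype.val (Subgroup.mem_centralizer_iff.mp hc _ (Subgroup.mem_zpowers (⟨a, haC⟩ : Cb)))
      rw [Subgroup.mem_normalizer_iff]
      intro d
      simp only [D, SetLike.mem_coe, Subgroup.mem_subgroupOf, Subgroup.mem_inf, Subgroup.coe_mul, Subgroup.coe_inv]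
      exact ⟨fun h => ⟨(Subgroup.mem_normalizer_iff.mp (hnO hca) _).mp h.1, (c * d * c⁻¹).2⟩,
        fun h => ⟨(Subgroup.mem_normalizer_iff.mp (hnO hca) _).mpr h.1, d.2⟩⟩
    have hres := CfsgLib.OddOrder.SCNInvariant.balance W D hW hDW hDc hn
    intro x hx
    exact ⟨⟨⟨x, hx.2⟩, hres hx, rfl⟩, hle hx.1⟩
  exact le_antisymm (key x y hx hy hxy hCy) (key y x hy hx hxy.symm hCx)

end Cfsg.Agent.S1958
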