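import Cfsg.Statements.S1966
import Cfsg.Agent.Lib.KGroups.Functor.Family
import Cfsg.Agent.Lib.Solvable.Cores

set_option autoImplicit false
open Cfsg

namespace Cfsg.Agent.S1966

/-- Let p be a prime, G a finite group with Sylow p-subgroup S and 𝓕 a conjugation family for S in G. Then the members of 𝓕 containing O_p(G) still form a conjugation family for S in G. -/
theorem result {G : Type*} [Group G] [Finite G] {p : ℕ} [Fact p.Prime] (S : Sylow p G) (𝓕 : Set (Subgroup G)) (h : Cfsg.IsConjugationFamily 𝓕 (S : Subgroup G)) : Cfsg.IsConjugationFamily {T : Subgroup G | T ∈ 𝓕 ∧ Cfsg.pCore p G ≤ T} (S : Subgroup G) := by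
  refine ⟨fun T hT => h.1 T hT.1, fun A g hA hAS hgA => ?_⟩
  have hO : Cfsg.pCore p G ≤ (S : Subgroup G) := CfsgLib.Solvable.Cores.pCore_le_sylow S
  have hn : (Cfsg.pCore p G).Normal := CfsgLib.Solvable.Cores.pCore_normal p
  have hconj : ∀ (u : G), ∀ x ∈ Cfsg.pCore p G, u⁻¹ * x * u ∈ Cfsg.pCore p G := fun u x hx => by
    simpa using hn.conj_mem x hx u⁻¹
  have hconj' : ∀ (u : G), ∀ x ∈ Cfsg.pCore p G, u * x * u⁻¹ ∈ Cfsg.pCore p G := fun u x hx => hn.conj_mem x hx u
  obtain ⟨n, T, x, hprod, hT, hx, h0, hi⟩ := h.2 (A ∪ Cfsg.pCore p G) g (hA.mono Set.subset_union_left)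
    (Set.union_subset hAS hO) (by
      rintro _ ⟨a, ha | ha, rfl⟩
      · exact hgA ⟨a, ha, rfl⟩
      · exact hO (hconj g a ha))
  refine ⟨n, T, x, hprod, fun i => ⟨hT i, fun u hu => ?_⟩, hx,
    fun h => Set.subset_union_left.trans (h0 h), fun i hn => (Set.image_mono Set.subset_union_left).trans (hi i hn)⟩
  obtain ⟨k, hk⟩ := i
  cases k with
  | zero => exact h0 hk (Or.inr hu)
  | succ k =>
    have h2 := hi ⟨k, by omega⟩ hk
    refine h2 ⟨((List.ofFn x).take (k + 1)).prod * u * (((List.ofFn x).take (k + 1)).prod)⁻¹,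
      Or.inr (hconj' _ u hu), ?_⟩
    simp [mul_assoc]

end Cfsg.Agent.S1966
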