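import Cfsg.Statements.S1968
import Cfsg.Agent.Lib.KGroups.Functor.Control

set_option autoImplicit false
open Cfsg CfsgLib.KGroups.Functor

namespace Cfsg.Agent.S1968

/-- Let p be a prime, G a finite group with Sylow p-subgroup S and W a conjugacy functor for p on G with Z(P) ≤ W(P) for every p-subgroup P. Let A be a subgroup of Z(S) normalized by N_G(W(S)) that is not weakly closed in S with respect to G. Then there is a subgroup T of S, well placed in S with respect to W, such that: A ≤ T; N_G(W(N_S(T))) normalizes A; N_S(T) is a Sylow p-subgroup of N_G(T); A ≤ Z(N_S(T)); and A is not weakly closed in N_S(T) with respect to N_G(T), that is, some N_G(T)-conjugate of A other than A lies in N_S(T). -/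
theorem result {G : Type*} [Group G] [Finite G] {p : ℕ} [Fact p.Prime] (S : Sylow p G) (W : Subgroup G → Subgroup G) (hW : Cfsg.IsConjugacyFunctor p W) (hWZ : ∀ P : Subgroup G, IsPGroup p ↥P → P ⊓ Subgroup.centralizer (P : Set G) ≤ W P) (A : Subgroup G) (hAZ : A ≤ (S : Subgroup G) ⊓ Subgroup.centralizer ((S : Subgroup G) : Set G)) (hAN : Subgroup.normalizer ((W (S : Subgroup G) : Subgroup G) : Set G) ≤ Subgroup.normalizer ((A : Subgroup G) : Set G)) (hnwc : ¬ Cfsg.IsWeaklyClosed A (S : Subgroup G)) : ∃ T : Subgroup G, Cfsg.IsWellPlaced p W (S : Subgroup G) T ∧ A ≤ T ∧ Subgroup.normalizer ((W ((S : Subgroup G) ⊓ Subgroup.normalizer ((T : Subgroup G) : Set G)) : Subgroup G) : Set G) ≤ Subgroup.normalizer ((A : Subgroup G) : Set G) ∧ ¬ p ∣ ((S : Subgroup G) ⊓ Subgroup.normalizer ((T : Subgroup G) : Set G)).relIndex (Subgroup.normalizer ((T : Subgroup G) : Set G)) ∧ A ≤ Subgroup.centralizer (((S : Subgroup G) ⊓ Subgroup.normalizer ((T : Subgroup G) : Set G) : Subgroup G) : Set G) ∧ ∃ g ∈ Subgroup.normalizer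 ((T : Subgroup G) : Set G), A.map (MulAut.conj g).toMonoidHom ≤ (S : Subgroup G) ⊓ Subgroup.normalizer ((T : Subgroup G) : Set G) ∧ A.map (MulAut.conj g).toMonoidHom ≠ A := by
  have hAS : A ≤ (S : Subgroup G) := hAZ.trans inf_le_left
  obtain ⟨g, hg, hne⟩ : ∃ g : G, A.map (MulAut.conj g).toMonoidHom ≤ (S : Subgroup G) ∧
      A.map (MulAut.conj g).toMonoidHom ≠ A := by
    by_contra hcon
    push Not at hcon
    exact hnwc ⟨hAS, hcon⟩
  have hc := alperin S {T : Subgroup G | Cfsg.IsWellPlaced p W (S : Subgroup G) T} (fun T hT => by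
    obtain ⟨a, ha⟩ := exists_wellPlaced S hW hT
    exact ⟨a, ha, ha.1, ha.2 0⟩) A g hAS hg
  obtain ⟨T, hT, hAT, hnot⟩ : ∃ T : Subgroup G, Cfsg.IsWellPlaced p W (S : Subgroup G) T ∧ A ≤ T ∧
      ¬ Subgroup.normalizer (T : Set G) ≤ Subgroup.normalizer (A : Set G) := by
    suffices key : ∀ (B : Subgroup G) (y : G), Chain (FamStep {T : Subgroup G | Cfsg.IsWellPlaced p W (S : Subgroup G) T}) B y →
        B = A → B.map (MulAut.conj y).toMonoidHom ≠ A → ∃ T : Subgroup G, Cfsg.IsWellPlaced p W (S : Subgroup G) T ∧ A ≤ T ∧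
          ¬ Subgroup.normalizer (T : Set G) ≤ Subgroup.normalizer (A : Set G) from key A g hc rfl hne
    intro B y hc
    induction hc with
    | refl B => intro hB hne; exact absurd ((conjG_one B).trans hB) hne
    | @step B x y hx _ ih =>
      intro hB hne
      subst hB
      obtain ⟨T, hT, hBT, hxT⟩ := hx
      by_cases hxA : x ∈ Subgroup.normalizer (B : Set G)
      · have he := conjG_eq_iff.mpr hxA
        exact ih he (by rw [conjG_conjG]; exact hne)
      · exact ⟨T, hT, hBT, fun hle => hxA (hle hxT)⟩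
  have hAZS : (S : Subgroup G) ≤ Subgroup.centralizer (A : Set G) := fun s hs =>
    Subgroup.mem_centralizer_iff.mpr fun a ha => (Subgroup.mem_centralizer_iff.mp (hAZ ha).2 s hs).symm
  have hAi : ∀ i, A ≤ Cfsg.functorTower W (S : Subgroup G) T i := by
    intro i
    induction i with
    | zero => exact hAT
    | succ i _ =>
      refine le_trans ?_ (hWZ _ (isPGroup_sylow_inf S _))
      refine le_inf (hAT.trans (le_towerNorm S hW hT.1 i)) fun a ha => Subgroup.mem_centralizer_iff.mpr fun y hy => ?_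
      exact Subgroup.mem_centralizer_iff.mp (hAZ ha).2 y (inf_le_left (b := Subgroup.normalizer _) hy)
  obtain ⟨i0, -, hi0⟩ := exists_towerNorm_eq S hW (T := T)
  obtain ⟨i, hi, hi1⟩ : ∃ i, ¬ Subgroup.normalizer (Cfsg.functorTower W (S : Subgroup G) T i : Set G) ≤ Subgroup.normalizer (A : Set G) ∧
      Subgroup.normalizer (Cfsg.functorTower W (S : Subgroup G) T (i + 1) : Set G) ≤ Subgroup.normalizer (A : Set G) := by
    by_contra hcon
    push Not at hcon
    have hall : ∀ i, ¬ Subgroup.normalizer (Cfsg.functorTower W (S : Subgroup G) T i : Set G) ≤ Subgroup.normalizer (A : Set G) := by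
      intro i
      induction i with
      | zero => exact hnot
      | succ i ih => exact hcon i ih
    refine hall (i0 + 1) ?_
    show Subgroup.normalizer ((W (towerNorm S W T i0) : Subgroup G) : Set G) ≤ _
    rw [hi0]
    exact hAN
  have hwp := isWellPlaced_functorTower S hW hT i
  obtain ⟨x, hx, hxA⟩ := SetLike.not_le_iff_exists.mp hi
  refine ⟨_, hwp, hAi i, hi1, hwp.2 0, ?_, x, hx, ?_, fun e => hxA (conjG_eq_iff.mp e)⟩
  · intro a ha
    exact Subgroup.mem_centralizer_iff.mpr fun y hy =>
      Subgroup.mem_centralizer_iff.mp (hAZ ha).2 y (inf_le_left (b := Subgroup.normalizer _) hy)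
  · exact (Subgroup.map_mono (hAi i)).trans ((conjG_eq_iff.mpr hx).le.trans (functorTower_le_towerNorm S hW hT.1 i))

end Cfsg.Agent.S1968
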