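import Cfsg.Statements.S1970
import Cfsg.Agent.Lib.KGroups.Functor.Sections
-- import your own Cfsg.Agent.* helpers here

set_option autoImplicit false
universe u
open Cfsg CfsgLib.KGroups.Functor

namespace Cfsg.Agent.S1970

/-- Let p be a prime, G a finite group and W an isomorphism-invariant p-group functor (W assigns to every group Q a subgroup W(Q), nontrivial whenever Q is a nontrivial finite p-group, and every isomorphism from a finite p-group Q onto a group R carries W(Q) onto W(R)). Suppose that for every section G* = K/R of G with C_{G*}(O_p(G*)) ≤ O_p(G*) and every Sylow p-subgroup S* of G*, one has O_p(G*) ∩ (G*)' = O_p(G*) ∩ (N_{G*}(W(S*)))'. Then W controls transfer in every section G* of G: S* ∩ (G*)' = S* ∩ (N_{G*}(W(S*)))' for a Sylow p-subgroup S* of G*. -/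
theorem result {G : Type u} [Group G] [Finite G] {p : ℕ} [Fact p.Prime] (W : ∀ (Q : Type u) [Group Q], Subgroup Q) (hW : Cfsg.IsCharPFunctor.{u} p W) (hloc : ∀ (K R : Subgroup G) [hR : (R.subgroupOf K).Normal], Subgroup.centralizer ((Cfsg.pCore p (↥K ⧸ R.subgroupOf K) : Subgroup (↥K ⧸ R.subgroupOf K)) : Set (↥K ⧸ R.subgroupOf K)) ≤ Cfsg.pCore p (↥K ⧸ R.subgroupOf K) → ∀ T : Sylow p (↥K ⧸ R.subgroupOf K), Cfsg.pCore p (↥K ⧸ R.subgroupOf K) ⊓ commutator (↥K ⧸ R.subgroupOf K) = Cfsg.pCore p (↥K ⧸ R.subgroupOf K) ⊓ ⁅Subgroup.normalizer ((Cfsg.inducedFunctor (G := (↥K ⧸ R.subgroupOf K)) W ((T : Subgroup (↥K ⧸ R.subgroupOf K))) : Subgroup (↥K ⧸ R.subgroupOf K)) : Set (↥K ⧸ R.subgroupOf K)), Subgroup.normalizer ((Cfsg.inducedFunctor (G := (↥K ⧸ R.subgroupOf K)) W ((T : Subgroup (↥K ⧸ R.subgroupOf K))) : Subgroup (↥K ⧸ R.subgroupOf K)) : Set (↥K ⧸ R.subgroupOf K))⁆) : ∀ (K R : Subgroup G) [hR : (R.subgroupOf K).Normal], Cfsg.ControlsTransferIn p (Cfsg.inducedFunctor (G := (↥K ⧸ R.subgroupOf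 K)) W) ⊤ := by
  intro K R hR
  have hfun : ∀ V ∈ ({W} : Set (∀ (Q : Type u) [Group Q], Subgroup Q)), Cfsg.IsCharPFunctor.{u} p V :=
    fun V hV => Set.mem_singleton_iff.mp hV ▸ hW
  have h := familyTransfer_ind (G := G) hfun (fun X _ _ hX hc hsub hquo => by
    obtain ⟨S⟩ : Nonempty (Sylow p X) := inferInstance
    refine familyTransfer_of_le S ?_
    set T := Cfsg.pCore p X with hT
    have hTn : T.Normal := CfsgLib.LocalEven.SylowIn.pCore_normal X p
    have hMeq : transferTarget (ind X {W}) (S : Subgroup X) ⊤ =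
        (S : Subgroup X) ⊓ ⁅Subgroup.normalizer (Cfsg.inducedFunctor W (S : Subgroup X) : Set X),
          Subgroup.normalizer (Cfsg.inducedFunctor W (S : Subgroup X) : Set X)⁆ := by
      simp [transferTarget, ind]
    -- the hypothesis, transported from a section `K/R`
    have hTX : T ⊓ ⁅(⊤ : Subgroup X), ⊤⁆ ≤ transferTarget (ind X {W}) (S : Subgroup X) ⊤ := by
      obtain ⟨K', R', hR', ⟨e⟩⟩ := hX.exists_equiv
      have := hR'
      have hc' := centralizer_pCore_of_equiv e p hc
      let S' : Sylow p (↥K' ⧸ R'.subgroupOf K') := S.mapSurjective (f := e.symm.toMonoidHom) e.symm.surjective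
      have h0 := congrArg (Subgroup.map e.toMonoidHom) (@hloc K' R' hR' hc' S')
      have hcoe : (S' : Subgroup (↥K' ⧸ R'.subgroupOf K')) = (S : Subgroup X).map e.symm.toMonoidHom := rfl
      have hS : ((S : Subgroup X).map e.symm.toMonoidHom).map e.toMonoidHom = (S : Subgroup X) := by
        rw [Subgroup.map_map]
        convert Subgroup.map_id _ using 2
        ext x; simp
      rw [Subgroup.map_inf _ _ _ e.injective, Subgroup.map_inf _ _ _ e.injective,
        CfsgLib.Solvable.Cores.map_pCore e p, commutator_def, Subgroup.map_commutator, Subgroup.map_commutator,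
        Subgroup.map_top_of_surjective _ e.surjective] at h0
      have hN : ∀ A : Subgroup (↥K' ⧸ R'.subgroupOf K'), (Subgroup.normalizer (A : Set _)).map e.toMonoidHom =
          Subgroup.normalizer (A.map e.toMonoidHom : Set X) := fun A => Subgroup.map_equiv_normalizer_eq A e
      rw [hN, ← inducedFunctor_map hW e.toMonoidHom S'.2 e.injective.injOn, hcoe, hS] at h0
      rw [h0, hMeq]
      exact inf_le_inf_right _ (CfsgLib.Solvable.Cores.pCore_le_sylow S)
    by_cases hST : (S : Subgroup X) ≤ T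
    · exact (inf_le_inf_right _ hST).trans hTX
    refine (inf_commutator_le_sup S hfun hsub T (CfsgLib.Solvable.Cores.isPGroup_pCore p) (hquo T ?_)
      (fun V hV => normalizer_quotient_pCore_ne_top S hST (hfun V hV))).trans (sup_le le_rfl hTX)
    intro hbot
    refine hST ((le_top : (S : Subgroup X) ≤ ⊤).trans ?_)
    rw [hbot] at hc ⊢
    refine le_trans ?_ hc
    intro x _
    simp [Subgroup.mem_centralizer_iff]) (↥K ⧸ R.subgroupOf K) (sec_mk K R)
  obtain ⟨T, h1, h2, h3, h4⟩ := h
  exact ⟨T, h1, h2, h3, by simpa [ind] using h4⟩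

end Cfsg.Agent.S1970
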