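import Cfsg.Statements.S1981
import Cfsg.Agent.Lib.KGroups.KInfinity
-- import your own Cfsg.Agent.* helpers here

set_option autoImplicit false
open Cfsg CfsgLib.KGroups.KInfinity

namespace Cfsg.Agent.S1981

/-- Let P be a finite p-group generated by its abelian normal subgroups. Then both K-infinity subgroups of P equal P. -/
theorem result {P : Type*} [Group P] [Finite P] {p : ℕ} [Fact p.Prime] (hP : IsPGroup p P) (hgen : ⨆ A ∈ {A : Subgroup P | A.Normal ∧ IsMulCommutative ↥A}, A = ⊤) : Cfsg.kInfLower P = ⊤ ∧ Cfsg.kInfUpper P = ⊤ := by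
  obtain ⟨n, hn⟩ := exists_stable (P := P)
  rw [← (hn n le_rfl).1, ← (hn (n + 1) (Nat.le_succ n)).2, eq_top_iff, eq_top_iff, ← hgen]
  constructor <;> refine iSup₂_le fun A hA => ?_ <;> have := hA.1
  · exact le_sSup (normal_abelian_mem hA.2 _).2.1
  · exact le_sSup (normal_abelian_mem hA.2 _).2.2

end Cfsg.Agent.S1981
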