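import Cfsg.Statements.S1985
import Cfsg.Agent.Lib.KGroups.Functor.WeakControl

set_option autoImplicit false
universe u
open Cfsg

namespace Cfsg.Agent.S1985

/-- Let p be an odd prime and G a finite group. Then the lower K-infinity subgroup controls weak closure of elements in G: the lower K-infinity subgroup of every p-subgroup P of G contains Z(P), and for some (equivalently, every) Sylow p-subgroup S of G, with K the lower K-infinity subgroup of S, every element of S commuting with all of N_G(K) is weakly closed in S with respect to G (every G-conjugate of it lying in S equals it). -/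
theorem result {G : Type u} [Group G] [Finite G] {p : ℕ} [Fact p.Prime] (hp : p ≠ 2) : Cfsg.ControlsWeakClosureOfElementsIn p (Cfsg.inducedFunctor (G := G) Cfsg.kInfLower) ⊤ := by
  refine CfsgLib.KGroups.Functor.weakClosure_elements (CfsgLib.KGroups.Functor.isConjugacyFunctor_induced (CfsgLib.KGroups.Functor.isCharPFunctor_kInfLower p))
    (CfsgLib.KGroups.Functor.center_le_kInfLower (G := G) p) (fun H T h1 h2 h3 h4 => ?_) ⊤
  obtain ⟨g, hg1, hg2, hg3⟩ := CfsgLib.KGroups.Functor.exists_quadratic_kInfLower p H T h1 h2 h3 h4
  refine ⟨g, hg1, hg2, fun U V hUV hU => ?_⟩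
  have := hUV.2.1
  have h2p := (Fact.out : p.Prime).two_le
  show Cfsg.iterCommutator (U.map H.subtype) (Subgroup.zpowers (H.subtype g)) (p - 1) ≤ V.map H.subtype
  rw [← CfsgLib.KGroups.Functor.iterCommutator_map]
  rw [← CfsgLib.KGroups.Functor.map_pCore_inf_centralizer, Subgroup.map_le_map_iff_of_injective H.subtype_injective] at hU
  refine Subgroup.map_mono ((CfsgLib.KGroups.Functor.PairDegree.iterCommutator_antitone U _ (by omega : 2 ≤ p - 1)).trans ?_)
  exact ((CfsgLib.KGroups.Functor.PairDegree.iterCommutator_mono hU _ 2).trans hg3.le).trans bot_le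

end Cfsg.Agent.S1985
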