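import Cfsg.Statements.S1986
import Cfsg.Agent.Lib.KGroups.Functor.WeakControl

set_option autoImplicit false
universe u
open Cfsg

namespace Cfsg.Agent.S1986

/-- Let p be a prime, G a finite group with Sylow p-subgroup S, K the lower K-infinity subgroup of S, and Z the subgroup of p-th powers of elements of Z(S). Then every element of Z commuting with all of N_G(K) is weakly closed in S with respect to G, and every subgroup of Z that is normal in N_G(K) is weakly closed in S with respect to G. -/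
theorem result {G : Type u} [Group G] [Finite G] {p : ℕ} [Fact p.Prime] (S : Sylow p G) (Z : Subgroup G) (hZ : Z = Subgroup.closure ((fun z : G => z ^ p) '' (((S : Subgroup G) ⊓ Subgroup.centralizer (((S : Subgroup G) : Subgroup G) : Set G) : Subgroup G) : Set G))) : (∀ x ∈ Z ⊓ Subgroup.centralizer ((Subgroup.normalizer ((Cfsg.inducedFunctor Cfsg.kInfLower (S : Subgroup G) : Subgroup G) : Set G) : Subgroup G) : Set G), ∀ g : G, g * x * g⁻¹ ∈ (S : Subgroup G) → g * x * g⁻¹ = x) ∧ ∀ A : Subgroup G, A ≤ Z → Subgroup.normalizer ((Cfsg.inducedFunctor Cfsg.kInfLower (S : Subgroup G) : Subgroup G) : Set G) ≤ Subgroup.normalizer ((A : Subgroup G) : Set G) → Cfsg.IsWeaklyClosed A (S : Subgroup G) := by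
  have hW : Cfsg.IsConjugacyFunctor p (Cfsg.inducedFunctor (G := G) Cfsg.kInfLower) :=
    CfsgLib.KGroups.Functor.isConjugacyFunctor_induced (CfsgLib.KGroups.Functor.isCharPFunctor_kInfLower p)
  have hWZ := CfsgLib.KGroups.Functor.center_le_kInfLower (G := G) p
  have hloc : ∀ (H T : Subgroup G), T ≤ H → IsPGroup p T → ¬ p ∣ T.relIndex H →
      ¬ H ≤ Subgroup.normalizer (Cfsg.inducedFunctor Cfsg.kInfLower T : Set G) → ∃ g : G, g ∈ T ∧ g ∉ Cfsg.pCoreOf p H ∧
        ⁅⁅Cfsg.pCoreOf p H ⊓ Subgroup.centralizer (Cfsg.pCoreOf p H : Set G), Subgroup.zpowers g⁆, Subgroup.zpowers g⁆ = ⊥ := by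
    intro H T h1 h2 h3 h4
    obtain ⟨g, hg1, hg2, hg3⟩ := CfsgLib.KGroups.Functor.exists_quadratic_kInfLower p H T h1 h2 h3 h4
    refine ⟨g, hg1, hg2, ?_⟩
    have := congrArg (Subgroup.map H.subtype) hg3
    rwa [Subgroup.map_bot, Subgroup.map_commutator, Subgroup.map_commutator, CfsgLib.KGroups.Functor.map_pCore_inf_centralizer,
      MonoidHom.map_zpowers] at this
  have hw := fun (X R : Subgroup G) (hX : X ≤ CfsgLib.KGroups.Functor.FixedPoint.powers p ((S : Subgroup G) ⊓ Subgroup.centralizer ((S : Subgroup G) : Set G)))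
      (hXR : Subgroup.centralizer (X : Set G) ≤ R) (hRN : R ≤ Subgroup.normalizer (X : Set G))
      (hN : Subgroup.normalizer ((Cfsg.inducedFunctor (G := G) Cfsg.kInfLower) (S : Subgroup G) : Set G) ≤ R) (h : G)
      (hh : X.map (MulAut.conj h).toMonoidHom ≤ (S : Subgroup G)) =>
    CfsgLib.KGroups.Functor.weakClosure_powers (W := (Cfsg.inducedFunctor (G := G) Cfsg.kInfLower)) S hW hWZ hloc hX hXR hRN hN hh
  subst hZ
  refine ⟨fun x hx g hg => ?_, fun A hA hNA => ⟨?_, fun g hg => ?_⟩⟩
  · have hx2 := hx.2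
    have h := hw (Subgroup.zpowers x) (Subgroup.centralizer (Subgroup.zpowers x : Set G))
      (Subgroup.zpowers_le.mpr hx.1) le_rfl (Subgroup.centralizer_le_normalizer _)
      (fun y hy => by
        rw [Subgroup.zpowers_eq_closure, Subgroup.centralizer_closure, Subgroup.mem_centralizer_iff]
        rintro z rfl
        exact (Subgroup.mem_centralizer_iff.mp hx2 y hy).symm)
      g (by rw [MonoidHom.map_zpowers, Subgroup.zpowers_le]; exact hg)
    rw [← Subgroup.mem_centralizer_iff.mp h x (Subgroup.mem_zpowers x), mul_inv_cancel_right]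
  · exact hA.trans ((Subgroup.closure_le _).mpr (by rintro _ ⟨a, ha, rfl⟩; exact Subgroup.pow_mem _ ha.1 p))
  · exact CfsgLib.KGroups.Functor.conjG_eq_iff.mpr (hw A (Subgroup.normalizer (A : Set G)) hA (Subgroup.centralizer_le_normalizer _) le_rfl hNA g hg)

end Cfsg.Agent.S1986
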