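import Cfsg.Statements.S2006
import Cfsg.Agent.Lib.KGroups.Functor.Complement
import Cfsg.Agent.Lib.KGroups.Functor.ChiefAction
-- import your own Cfsg.Agent.* helpers here

set_option autoImplicit false
universe u
open Cfsg

namespace Cfsg.Agent.S2006

/-- Let p be a prime, G a finite group with Sylow p-subgroup S, and W an isomorphism-invariant p-group functor (W assigns to every group Q a subgroup W(Q), nontrivial whenever Q is a nontrivial finite p-group, and every isomorphism from a finite p-group Q onto a group R carries W(Q) onto W(R)). Suppose N_G(W(S)) has a normal p-complement, and that whenever G* = K/R is a section of G with C_{G*}(O_p(G*)) ≤ O_p(G*) and S* is a Sylow p-subgroup of G* with W(S*) not normal in G*, there are an element g of S* outside O_p(G*) and a chief factor X/Y of G* with X ≤ O_p(G*) such that [X, g, …, g] ≤ Y with p − 1 entries g but [X, g] ≰ Y. Then G has a normal p-complement. -/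
theorem result {G : Type u} [Group G] [Finite G] {p : ℕ} [Fact p.Prime] (W : ∀ (Q : Type u) [Group Q], Subgroup Q) (hW : Cfsg.IsCharPFunctor.{u} p W) (S : Sylow p G) (hN : Cfsg.HasNormalPComplement p ↥(Subgroup.normalizer ((Cfsg.inducedFunctor (G := G) W (S : Subgroup G) : Subgroup G) : Set G))) (hloc : ∀ (K R : Subgroup G) [hR : (R.subgroupOf K).Normal], Subgroup.centralizer ((Cfsg.pCore p (↥K ⧸ R.subgroupOf K) : Subgroup (↥K ⧸ R.subgroupOf K)) : Set (↥K ⧸ R.subgroupOf K)) ≤ Cfsg.pCore p (↥K ⧸ R.subgroupOf K) → ∀ T : Sylow p (↥K ⧸ R.subgroupOf K), ¬ (Cfsg.inducedFunctor (G := (↥K ⧸ R.subgroupOf K)) W ((T : Subgroup (↥K ⧸ R.subgroupOf K)))).Normal → ∃ g : (↥K ⧸ R.subgroupOf K), g ∈ (T : Subgroup (↥K ⧸ R.subgroupOf K)) ∧ g ∉ Cfsg.pCore p (↥K ⧸ R.subgroupOf K) ∧ ∃ U V : Subgroup (↥K ⧸ R.subgroupOf K), Cfsg.IsChiefFactor U V ∧ U ≤ Cfsg.pCore p (↥K ⧸ R.subgroupOf K) ∧ Cfsg.iterCommutator U (Subgroup.zpowers g) (p - 1) ≤ V ∧ ¬ ⁅U, Subgroup.zpowers g⁆ ≤ V) : Cfsg.HasNormalPComplement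 p G := by
  refine CfsgLib.KGroups.Functor.npc_sec hW (fun X _ _ hX hc hq T hT => ?_) (Nat.card G) G rfl
    (CfsgLib.KGroups.Functor.sec_self G) S (CfsgLib.KGroups.Functor.isSylowIn_top S) hN
  obtain ⟨K, R, hR, ⟨e⟩⟩ := hX.exists_equiv
  have := hR
  have hc' := CfsgLib.KGroups.Functor.centralizer_pCore_of_equiv e p hc
  have := CfsgLib.LocalEven.SylowIn.pCore_normal (↥K ⧸ R.subgroupOf K) p
  have := CfsgLib.LocalEven.SylowIn.pCore_normal X p
  have hq' := (CfsgLib.Fusion.Basic.npc_congr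
    (QuotientGroup.congr _ _ e (CfsgLib.Solvable.Cores.map_pCore e p)).symm).mp hq
  let T' : Sylow p (↥K ⧸ R.subgroupOf K) := T.mapSurjective (f := e.symm.toMonoidHom) e.symm.surjective
  have hT' : IsCoatom (T' : Subgroup (↥K ⧸ R.subgroupOf K)) :=
    ((MulEquiv.mapSubgroup e.symm).isCoatom_iff (T : Subgroup X)).mpr hT
  have hn : (Cfsg.inducedFunctor W (T' : Subgroup (↥K ⧸ R.subgroupOf K))).Normal := by
    by_contra hbad
    obtain ⟨g, hg, -, U, V, hUV, hU, hs, hnon⟩ := @hloc K R hR hc' T' hbad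
    exact CfsgLib.KGroups.Functor.ChiefAction.false_of_small_degree T' hT' hq' hg hUV hU hs hnon
  have hmap := hn.map e.toMonoidHom e.surjective
  rw [← CfsgLib.KGroups.Functor.inducedFunctor_map hW e.toMonoidHom T'.2 e.injective.injOn] at hmap
  have hcoe : (T' : Subgroup (↥K ⧸ R.subgroupOf K)) = (T : Subgroup X).map e.symm.toMonoidHom := rfl
  rw [hcoe, Subgroup.map_map] at hmap
  have he : e.toMonoidHom.comp e.symm.toMonoidHom = MonoidHom.id X := by ext x; simp
  rwa [he, Subgroup.map_id] at hmap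

end Cfsg.Agent.S2006
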