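import Cfsg.Statements.S1988
import Cfsg.Agent.Lib.KGroups.Functor.NormalizerNpc
import Cfsg.Agent.Lib.KGroups.Functor.KInfControl
import Cfsg.Agent.S2006

set_option autoImplicit false
universe u
open Cfsg

namespace Cfsg.Agent.S1988

/-- Let p be an odd prime, G a finite group with Sylow p-subgroup S and K the lower K-infinity subgroup of S. If N_G(K) has a normal p-complement, or if N_G(K)/C_G(K) is a p-group (every element of N_G(K) of order prime to p centralizes K), then G has a normal p-complement. -/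
theorem result {G : Type u} [Group G] [Finite G] {p : ℕ} [Fact p.Prime] (hp : p ≠ 2) (S : Sylow p G) (h : Cfsg.HasNormalPComplement p ↥(Subgroup.normalizer ((Cfsg.inducedFunctor Cfsg.kInfLower (S : Subgroup G) : Subgroup G) : Set G)) ∨ ∀ g ∈ Subgroup.normalizer ((Cfsg.inducedFunctor Cfsg.kInfLower (S : Subgroup G) : Subgroup G) : Set G), (orderOf g).Coprime p → g ∈ Subgroup.centralizer ((Cfsg.inducedFunctor Cfsg.kInfLower (S : Subgroup G) : Subgroup G) : Set G)) : Cfsg.HasNormalPComplement p G := by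
  have hW := CfsgLib.KGroups.Functor.isCharPFunctor_kInfLower.{u} p
  set Kd := Cfsg.inducedFunctor Cfsg.kInfLower (S : Subgroup G) with hKd
  have hN : Cfsg.HasNormalPComplement p (Subgroup.normalizer (Kd : Set G)) := by
    rcases h with h | h
    · exact h
    refine CfsgLib.KGroups.Functor.npc_normalizer_of_centralizes S ?_ ?_ h
    · exact Subgroup.le_normalizer.trans
        (CfsgLib.KGroups.Functor.normalizer_le_normalizer_functor (CfsgLib.KGroups.Functor.isConjugacyFunctor_induced hW) S.2)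
    · rintro x ⟨hxS, hxK⟩
      refine ⟨⟨x, hxS⟩, CfsgLib.KGroups.KInfinity.centralizer_kInfLower_le S.2 (Subgroup.mem_centralizer_iff.mpr
        fun y hy => Subtype.ext ?_), rfl⟩
      exact Subgroup.mem_centralizer_iff.mp hxK (y : G) ⟨y, hy, rfl⟩
  refine Cfsg.Agent.S2006.result (fun Q _ => Cfsg.kInfLower Q) hW S hN ?_
  intro K R hR hc T hn
  obtain ⟨A, hAn, hAT, hA2, hA3, -, hA5⟩ :=
    CfsgLib.KGroups.Functor.Quartic.exists_critical (Cfsg.pCore p (↥K ⧸ R.subgroupOf K))
      (CfsgLib.Solvable.Cores.isPGroup_pCore p)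
  obtain ⟨g, hgT, hgQ, -, -, hex⟩ :=
    CfsgLib.KGroups.Functor.Quadratic.exists_small (S := T) hAT hA2 hA3 hA5 (Or.inl hn)
  obtain ⟨U, V, hUV, hUA, hq, hnot⟩ := hex hc
  have := hUV.2.1
  refine ⟨g, hgT, hgQ, U, V, hUV, hUA.trans hAT, ?_, hnot⟩
  have h2 := (Fact.out : p.Prime).two_le
  exact (CfsgLib.KGroups.Functor.PairDegree.iterCommutator_antitone U _ (by omega : 2 ≤ p - 1)).trans hq

end Cfsg.Agent.S1988
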