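import Cfsg.Statements.S1989
import Cfsg.Agent.Lib.KGroups.QdStable
import Cfsg.Agent.Lib.KGroups.QdFusion
import Cfsg.Agent.S1987
-- import your own Cfsg.Agent.* helpers here

set_option autoImplicit false
universe u
open Cfsg

namespace Cfsg.Agent.S1989

/-- Let p be an odd prime and G a finite group. Then Qd(p) (the natural semidirect product of an elementary abelian group of order p² by SL₂(p)) is not involved in G if and only if, in every section K/R of G and for every Sylow p-subgroup T of K/R, the lower K-infinity subgroup of T controls strong fusion in K/R. -/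
theorem result {G : Type u} [Group G] [Finite G] {p : ℕ} [Fact p.Prime] (hp : p ≠ 2) : ¬ Cfsg.Involves ↥(Cfsg.qd p) G ↔ ∀ (K R : Subgroup G) [hR : (R.subgroupOf K).Normal], ∀ T : Sylow p (↥K ⧸ R.subgroupOf K), Cfsg.ControlsStrongFusion p (Cfsg.inducedFunctor (G := (↥K ⧸ R.subgroupOf K)) Cfsg.kInfLower (T : Subgroup (↥K ⧸ R.subgroupOf K))) := by
  refine ⟨fun h K R _ T => ?_, fun h ⟨K, R, hR, ⟨e⟩⟩ => ?_⟩
  · refine Cfsg.Agent.S1987.result hp (fun K' R' _ => ?_) T
    refine CfsgLib.KGroups.QdStable.sections_stable hp (fun h' => ?_) K' R'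
    exact h (CfsgLib.KGroups.QdStable.hasQd_iff.mp (.of_subgroup K
      ((CfsgLib.KGroups.QdStable.hasQd_iff.mpr h').of_surjective (QuotientGroup.mk' _)
        (QuotientGroup.mk'_surjective _))))
  · obtain ⟨T⟩ : Nonempty (Sylow p (↥K ⧸ R.subgroupOf K)) := inferInstance
    exact CfsgLib.KGroups.QdFusion.not_controls e T (CfsgLib.KGroups.Functor.isCharPFunctor_kInfLower p) (h K R T)

end Cfsg.Agent.S1989
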