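import Cfsg.Statements.S1990
import Cfsg.Agent.Lib.KGroups.Functor.Complement
import Cfsg.Agent.Lib.KGroups.Functor.AbelianResidual

set_option autoImplicit false
universe u
open Cfsg

namespace Cfsg.Agent.S1990

/-- Let p be an odd prime, G a finite group with Sylow p-subgroup S, and W an isomorphism-invariant p-group functor (W assigns to every group Q a subgroup W(Q), nontrivial whenever Q is a nontrivial finite p-group, and every isomorphism from a finite p-group Q onto a group R carries W(Q) onto W(R)). Suppose N_G(W(S)) has a normal p-complement, and W(T) controls strong fusion in every section G* = K/R of G all of whose sections are p-stable in the normalizer form, for every Sylow p-subgroup T of G*. Then G has a normal p-complement. -/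
theorem result {G : Type u} [Group G] [Finite G] {p : ℕ} [Fact p.Prime] (hp : p ≠ 2) (W : ∀ (Q : Type u) [Group Q], Subgroup Q) (hW : Cfsg.IsCharPFunctor.{u} p W) (S : Sylow p G) (hN : Cfsg.HasNormalPComplement p ↥(Subgroup.normalizer ((Cfsg.inducedFunctor (G := G) W (S : Subgroup G) : Subgroup G) : Set G))) (hctl : ∀ (K R : Subgroup G) [hR : (R.subgroupOf K).Normal], (∀ (K' R' : Subgroup (↥K ⧸ R.subgroupOf K)) [hR' : (R'.subgroupOf K').Normal], Cfsg.IsNormalizerPStable p (↥K' ⧸ R'.subgroupOf K')) → ∀ T : Sylow p (↥K ⧸ R.subgroupOf K), Cfsg.ControlsStrongFusion p (Cfsg.inducedFunctor (G := (↥K ⧸ R.subgroupOf K)) W (T : Subgroup (↥K ⧸ R.subgroupOf K)))) : Cfsg.HasNormalPComplement p G := by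
  refine CfsgLib.KGroups.Functor.npc_sec hW (fun X _ _ hX hc hq T hT => ?_) (Nat.card G) G rfl
    (CfsgLib.KGroups.Functor.sec_self G) S (CfsgLib.KGroups.Functor.isSylowIn_top S) hN
  obtain ⟨K, R, hR, ⟨e⟩⟩ := hX.exists_equiv
  have := hR
  have hc' := CfsgLib.KGroups.Functor.centralizer_pCore_of_equiv e p hc
  have := CfsgLib.LocalEven.SylowIn.pCore_normal (↥K ⧸ R.subgroupOf K) p
  have := CfsgLib.LocalEven.SylowIn.pCore_normal X p
  have hq' := (CfsgLib.Fusion.Basic.npc_congr
    (QuotientGroup.congr _ _ e (CfsgLib.Solvable.Cores.map_pCore e p)).symm).mp hq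
  let T' : Sylow p (↥K ⧸ R.subgroupOf K) := T.mapSurjective (f := e.symm.toMonoidHom) e.symm.surjective
  have hT' : IsCoatom (T' : Subgroup (↥K ⧸ R.subgroupOf K)) :=
    ((MulEquiv.mapSubgroup e.symm).isCoatom_iff (T : Subgroup X)).mpr hT
  have hgood := CfsgLib.KGroups.Functor.AbelianResidual.good_of_coatom T' hT' hq'
  obtain ⟨T1, -, hctl'⟩ := @hctl K R hR (fun K' R' _ => CfsgLib.KGroups.Functor.AbelianResidual.stable hp
    ((hgood.subgroup K').image _ (QuotientGroup.mk'_surjective _))) T'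
  have hn : (Cfsg.inducedFunctor W (T' : Subgroup (↥K ⧸ R.subgroupOf K))).Normal := by
    rw [← Subgroup.normalizer_eq_top_iff]
    set U := Cfsg.inducedFunctor W (T' : Subgroup (↥K ⧸ R.subgroupOf K))
    have hTN : (T' : Subgroup (↥K ⧸ R.subgroupOf K)) ≤ Subgroup.normalizer (U : Set _) :=
      Subgroup.le_normalizer.trans (CfsgLib.KGroups.Functor.normalizer_le_normalizer_functor
        (CfsgLib.KGroups.Functor.isConjugacyFunctor_induced hW) T'.2)
    rcases hTN.eq_or_lt with heq | hlt
    · refine absurd (top_le_iff.mp fun x _ => ?_) hT'.1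
      set Q := Cfsg.pCore p (↥K ⧸ R.subgroupOf K)
      have hQT : Q ≤ (T' : Subgroup _) := CfsgLib.Solvable.Cores.pCore_le_sylow T'
      have hQ1 : (Q : Set (↥K ⧸ R.subgroupOf K)) ⊆ ((T1 : Subgroup (↥K ⧸ R.subgroupOf K)) : Set (↥K ⧸ R.subgroupOf K)) := fun a ha => CfsgLib.Solvable.Cores.pCore_le_sylow T1 ha
      obtain ⟨y, hy, hag⟩ := (hctl' (Q : Set _) hQ1).2 x (by
        rintro _ ⟨a, ha, rfl⟩
        exact hQ1 (Subgroup.Normal.conj_mem inferInstance a ha x))
      rw [← heq] at hy
      have h1 : y⁻¹ * x ∈ Subgroup.centralizer (Q : Set _) := Subgroup.mem_centralizer_iff.mpr fun a ha => by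
        have h2 : y⁻¹ * (x * a * x⁻¹) * y = a := by rw [hag a ha]; simp [mul_assoc]
        calc a * (y⁻¹ * x) = y⁻¹ * (x * a * x⁻¹) * y * (y⁻¹ * x) := by rw [h2]
          _ = y⁻¹ * x * a := by simp [mul_assoc]
      have h3 := Subgroup.mul_mem _ hy (hQT (hc' h1))
      simpa [mul_assoc] using h3
    · exact hT'.2 _ hlt
  have hmap := hn.map e.toMonoidHom e.surjective
  rw [← CfsgLib.KGroups.Functor.inducedFunctor_map hW e.toMonoidHom T'.2 e.injective.injOn] at hmap
  have hcoe : (T' : Subgroup (↥K ⧸ R.subgroupOf K)) = (T : Subgroup X).map e.symm.toMonoidHom := rfl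
  rw [hcoe, Subgroup.map_map] at hmap
  have he : e.toMonoidHom.comp e.symm.toMonoidHom = MonoidHom.id X := by ext x; simp
  rwa [he, Subgroup.map_id] at hmap

end Cfsg.Agent.S1990
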