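import Cfsg.Statements.S1992
import Cfsg.Agent.S1991
import Cfsg.Agent.S0144
import Cfsg.Agent.Lib.KGroups.Functor.IndexP

set_option autoImplicit false
open Cfsg

namespace Cfsg.Agent.S1992

/-- Let G be a finite group in which, for every prime q dividing the order of G, every Sylow q-subgroup is its own normalizer. Then the order of G is a power of a single prime (G is a q-group for some prime q; for G trivial any prime works). -/
theorem result {G : Type*} [Group G] [Finite G] (h : ∀ q : ℕ, q.Prime → q ∣ Nat.card G → ∀ Q : Sylow q G, Subgroup.normalizer ((Q : Subgroup G) : Set G) = Q) : ∃ q : ℕ, q.Prime ∧ IsPGroup q G := by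
  by_cases h1 : Nat.card G = 1
  · exact ⟨2, Nat.prime_two, IsPGroup.of_card (n := 0) (by rw [h1, pow_zero])⟩
  obtain ⟨p, hp, N, hNn, hNi⟩ : ∃ p : ℕ, p.Prime ∧ ∃ N : Subgroup G, N.Normal ∧ N.index = p := by
    by_cases h5 : ∃ p ∈ (Nat.card G).primeFactors, 5 ≤ p
    · obtain ⟨p, hpf, hp5⟩ := h5
      have hp := Nat.prime_of_mem_primeFactors hpf
      have hd := Nat.dvd_of_mem_primeFactors hpf
      have := Fact.mk hp
      obtain ⟨S⟩ : Nonempty (Sylow p G) := inferInstance
      refine ⟨p, hp, Cfsg.Agent.S1991.result hp5 S (S.ne_bot_of_dvd_card hd) fun g hg hgp => ?_⟩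
      rw [h p hp hd S] at hg
      obtain ⟨k, hk⟩ := S.2 ⟨g, hg⟩
      rw [CfsgLib.KGroups.CharP.eq_one_of_pow_coprime hgp (pow_orderOf_eq_one g) (congrArg Subtype.val hk)]
      exact one_mem _
    · push Not at h5
      have hs : (Nat.card G).factorization.support ⊆ ({2, 3} : Finset ℕ) := by
        intro q hq
        rw [Nat.support_factorization] at hq
        have h2 := (Nat.prime_of_mem_primeFactors hq).two_le
        have h4 := h5 q hq
        have hne : q ≠ 4 := fun e => absurd (e ▸ Nat.prime_of_mem_primeFactors hq) (by norm_num)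
        simp only [Finset.mem_insert, Finset.mem_singleton]
        omega
      have hsol : Group.IsSolvable G := by
        refine Cfsg.Agent.S0144.isSolvable 2 3 Nat.prime_two Nat.prime_three (Nat.card G) G rfl
          ((Nat.card G).factorization 2) ((Nat.card G).factorization 3) ?_
        conv_lhs => rw [← Nat.factorization_prod_pow_eq_self (Nat.card_pos (α := G)).ne']
        rw [Finsupp.prod_of_support_subset _ hs _ (fun _ _ => by simp)]
        simp
      have : Nontrivial G := (Finite.one_lt_card_iff_nontrivial).mp (by have := Nat.card_pos (α := G); omega)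
      have hne : (⁅(⊤ : Subgroup G), ⊤⁆ : Subgroup G).index ≠ 1 := by
        rw [Ne, Subgroup.index_eq_one, ← commutator_def]
        exact (Group.IsSolvable.commutator_lt_top_of_nontrivial G).ne
      obtain ⟨r, hr, hrd⟩ := Nat.exists_prime_and_dvd hne
      have := Fact.mk hr
      obtain ⟨S⟩ : Nonempty (Sylow r G) := inferInstance
      exact ⟨r, hr, CfsgLib.KGroups.Functor.exists_normal_index_of_not_le S fun hle =>
        S.not_dvd_index (hrd.trans (Subgroup.index_dvd_of_le hle))⟩
  have := Fact.mk hp
  refine ⟨p, hp, IsPGroup.of_card (Nat.eq_prime_pow_of_unique_prime_dvd Nat.card_pos.ne' fun {q} hq hqd => ?_)⟩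
  by_contra hne
  have := Fact.mk hq
  obtain ⟨Q⟩ : Nonempty (Sylow q G) := inferInstance
  have hQN : (Q : Subgroup G) ≤ N := fun x hx => by
    obtain ⟨j, hj⟩ := Q.2 ⟨x, hx⟩
    refine CfsgLib.Fusion.Basic.pResidual_le_of_index_eq_pow (p := p) (k := 1) (by rw [pow_one, hNi])
      (CfsgLib.Fusion.Basic.mem_pResidual_of_coprime ?_)
    exact Nat.Coprime.coprime_dvd_left (orderOf_dvd_of_pow_eq_one (congrArg Subtype.val hj))
      (Nat.Coprime.pow_left j ((Nat.coprime_primes hq hp).mpr hne))
  have hfr := Sylow.normalizer_sup_eq_top (Q.subtype hQN)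
  rw [Sylow.coe_subtype, Subgroup.map_subgroupOf_eq_of_le hQN, h q hq hqd Q, sup_eq_right.mpr hQN] at hfr
  rw [hfr, Subgroup.index_top] at hNi
  exact hp.ne_one hNi.symm

end Cfsg.Agent.S1992
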