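import Cfsg.Statements.S1997
import Cfsg.Agent.Lib.KGroups.SectionFactor

set_option autoImplicit false
universe u
open Cfsg

namespace Cfsg.Agent.S1997

/-- Let p be a prime, G a finite group with Sylow p-subgroup S, and W₁, W₂ two isomorphism-invariant p-group functors (W assigns to every group Q a subgroup W(Q), nontrivial whenever Q is a nontrivial finite p-group, and every isomorphism from a finite p-group Q onto a group R carries W(Q) onto W(R)). Suppose that G* = C_{G*}(Ω₁Z(S*)) N_{G*}(W₁(S*)) = C_{G*}(Ω₁Z(S*)) N_{G*}(W₂(S*)) = N_{G*}(W₁(S*)) N_{G*}(W₂(S*)) whenever G* = K/R is a section of G with C_{G*}(O_p(G*)) ≤ O_p(G*) and S* is a Sylow p-subgroup of G*, where Ω₁Z denotes the subgroup generated by the elements of order dividing p in the centre. Suppose also Ω₁Z(S) ≤ W₁(S) ∩ W₂(S), and let A be the normal closure of Ω₁Z(S) in N_G(W₁(S)). Then A is an elementary abelian subgroup of S, strongly closed in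 S with respect to G, and A controls strong fusion in G. -/
theorem result {G : Type u} [Group G] [Finite G] {p : ℕ} [Fact p.Prime] (S : Sylow p G) (W₁ W₂ : ∀ (Q : Type u) [Group Q], Subgroup Q) (hW₁ : Cfsg.IsCharPFunctor.{u} p W₁) (hW₂ : Cfsg.IsCharPFunctor.{u} p W₂) (hfac : ∀ (K R : Subgroup G) [hR : (R.subgroupOf K).Normal], Subgroup.centralizer ((Cfsg.pCore p (↥K ⧸ R.subgroupOf K) : Subgroup (↥K ⧸ R.subgroupOf K)) : Set (↥K ⧸ R.subgroupOf K)) ≤ Cfsg.pCore p (↥K ⧸ R.subgroupOf K) → ∀ T : Sylow p (↥K ⧸ R.subgroupOf K), (∀ x : (↥K ⧸ R.subgroupOf K), ∃ a ∈ Subgroup.centralizer ((Cfsg.omegaOne p ((T : Subgroup (↥K ⧸ R.subgroupOf K)) ⊓ Subgroup.centralizer (((T : Subgroup (↥K ⧸ R.subgroupOf K)) : Subgroup (↥K ⧸ R.subgroupOf K)) : Set (↥K ⧸ R.subgroupOf K))) : Subgroup (↥K ⧸ R.subgroupOf K)) : Set (↥K ⧸ R.subgroupOf K)), ∃ b ∈ Subgroup.normalizer ((Cfsg.inducedFunctor (G := (↥K ⧸ R.subgroupOf K)) W₁ (T : Subgroup (↥K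 ⧸ R.subgroupOf K)) : Subgroup (↥K ⧸ R.subgroupOf K)) : Set (↥K ⧸ R.subgroupOf K)), x = a * b) ∧ (∀ x : (↥K ⧸ R.subgroupOf K), ∃ a ∈ Subgroup.centralizer ((Cfsg.omegaOne p ((T : Subgroup (↥K ⧸ R.subgroupOf K)) ⊓ Subgroup.centralizer (((T : Subgroup (↥K ⧸ R.subgroupOf K)) : Subgroup (↥K ⧸ R.subgroupOf K)) : Set (↥K ⧸ R.subgroupOf K))) : Subgroup (↥K ⧸ R.subgroupOf K)) : Set (↥K ⧸ R.subgroupOf K)), ∃ b ∈ Subgroup.normalizer ((Cfsg.inducedFunctor (G := (↥K ⧸ R.subgroupOf K)) W₂ (T : Subgroup (↥K ⧸ R.subgroupOf K)) : Subgroup (↥K ⧸ R.subgroupOf K)) : Set (↥K ⧸ R.subgroupOf K)), x = a * b) ∧ (∀ x : (↥K ⧸ R.subgroupOf K), ∃ a ∈ Subgroup.normalizer ((Cfsg.inducedFunctor (G := (↥K ⧸ R.subgroupOf K)) W₁ (T : Subgroup (↥K ⧸ R.subgroupOf K)) : Subgroup (↥K ⧸ R.subgroupOf K)) : Set (↥K ⧸ R.subgroupOf K)), ∃ b ∈ Subgroup.normalizer ((Cfsg.inducedFunctor (G := (↥K ⧸ R.subgroupOf K)) W₂ (T : Subgroup (↥K ⧸ R.subgroupOf K)) : Subgroup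 (↥K ⧸ R.subgroupOf K)) : Set (↥K ⧸ R.subgroupOf K)), x = a * b)) (hZ : Cfsg.omegaOne p ((S : Subgroup G) ⊓ Subgroup.centralizer (((S : Subgroup G) : Subgroup G) : Set G)) ≤ Cfsg.inducedFunctor (G := G) W₁ (S : Subgroup G) ⊓ Cfsg.inducedFunctor (G := G) W₂ (S : Subgroup G)) (N₁ : Subgroup G) (hN₁ : N₁ = Subgroup.normalizer ((Cfsg.inducedFunctor (G := G) W₁ (S : Subgroup G) : Subgroup G) : Set G)) (A : Subgroup G) (hA : A = (Subgroup.normalClosure (((Cfsg.omegaOne p ((S : Subgroup G) ⊓ Subgroup.centralizer (((S : Subgroup G) : Subgroup G) : Set G))).subgroupOf N₁ : Subgroup ↥N₁) : Set ↥N₁)).map N₁.subtype) : A ≤ (S : Subgroup G) ∧ Cfsg.IsElementaryAbelian p A ∧ Cfsg.IsStronglyClosed A (S : Subgroup G) ∧ Cfsg.ControlsStrongFusion p A := by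
  classical
  open CfsgLib.KGroups.ClosureControl (cj cj_cj cj_eq mem_cj cj_of_cent Ctrl) in
  open CfsgLib.KGroups in
  open CfsgLib.LocalEven.SylowIn in
  exact (by
  have hFac : SectionFactor.Fac p W₁ W₂ G := by
    intro Y _ _ hY hcon T
    obtain ⟨K, R, hR, ⟨e⟩⟩ := hY.exists_equiv
    have hes : Function.Surjective (e.symm.toMonoidHom : Y →* (↥K ⧸ R.subgroupOf K)) := e.symm.surjective
    obtain ⟨f₁, f₂, f₃⟩ := hfac K R (Functor.centralizer_pCore_of_equiv e p hcon) (T.mapSurjective hes)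
    rw [Sylow.coe_mapSurjective] at f₁ f₂ f₃
    have hb : ∀ (W : ∀ (Q : Type u) [Group Q], Subgroup Q), Cfsg.IsCharPFunctor.{u} p W →
        ∀ b ∈ Subgroup.normalizer (Cfsg.inducedFunctor W ((T : Subgroup Y).map e.symm.toMonoidHom) :
          Set (↥K ⧸ R.subgroupOf K)), e b ∈ Subgroup.normalizer (Cfsg.inducedFunctor W (T : Subgroup Y) : Set Y) := by
      intro W hW b hb
      rw [Functor.inducedFunctor_map hW _ T.2 e.symm.injective.injOn] at hb
      have h := Subgroup.le_normalizer_map e.toMonoidHom ⟨b, hb, rfl⟩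
      rw [Subgroup.map_map, show e.toMonoidHom.comp e.symm.toMonoidHom = MonoidHom.id Y from
        MonoidHom.ext fun y => e.apply_symm_apply y, Subgroup.map_id] at h
      exact h
    have ha : ∀ a ∈ Subgroup.centralizer ((Cfsg.omegaOne p ((T : Subgroup Y).map e.symm.toMonoidHom ⊓
        Subgroup.centralizer ((T : Subgroup Y).map e.symm.toMonoidHom : Set (↥K ⧸ R.subgroupOf K))) :
          Subgroup (↥K ⧸ R.subgroupOf K)) : Set (↥K ⧸ R.subgroupOf K)),
        ∀ z ∈ (T : Subgroup Y), (∀ t ∈ (T : Subgroup Y), t * z = z * t) → z ^ p = 1 → z * e a = e a * z := by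
      intro a ha z hz hzc hzp
      have hmem : e.symm z ∈ Cfsg.omegaOne p ((T : Subgroup Y).map e.symm.toMonoidHom ⊓
          Subgroup.centralizer ((T : Subgroup Y).map e.symm.toMonoidHom : Set (↥K ⧸ R.subgroupOf K))) := by
        refine Subgroup.subset_closure ⟨⟨⟨z, hz, rfl⟩, ?_⟩, by rw [← map_pow, hzp, map_one]⟩
        rintro _ ⟨t, ht, rfl⟩
        show e.symm t * e.symm z = e.symm z * e.symm t
        rw [← map_mul, ← map_mul, hzc t ht]
      have h := congrArg e (Subgroup.mem_centralizer_iff.mp ha _ hmem)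
      rwa [map_mul, map_mul, e.apply_symm_apply] at h
    refine ⟨fun y => ?_, fun y => ?_, fun y => ?_⟩
    · obtain ⟨a, ha', b, hb', h⟩ := f₁ (e.symm y)
      exact ⟨e a, e b, by rw [← map_mul, ← h, e.apply_symm_apply], ha a ha', hb W₁ hW₁ b hb'⟩
    · obtain ⟨a, ha', b, hb', h⟩ := f₂ (e.symm y)
      exact ⟨e a, e b, by rw [← map_mul, ← h, e.apply_symm_apply], ha a ha', hb W₂ hW₂ b hb'⟩
    · obtain ⟨a, ha', b, hb', h⟩ := f₃ (e.symm y)
      exact ⟨e a, hb W₁ hW₁ a ha', e b, hb W₂ hW₂ b hb', by rw [← map_mul, ← h, e.apply_symm_apply]⟩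
  set Z := Cfsg.omegaOne p ((S : Subgroup G) ⊓ Subgroup.centralizer ((S : Subgroup G) : Set G)) with hZdef
  have hZc : ∀ z ∈ Z, z ∈ (S : Subgroup G) ∧ (∀ s ∈ (S : Subgroup G), s * z = z * s) ∧ z ^ p = 1 := by
    intro z hz
    rw [hZdef, Cfsg.omegaOne] at hz
    induction hz using Subgroup.closure_induction with
    | mem x hx => exact ⟨hx.1.1, hx.1.2, hx.2⟩
    | one => exact ⟨one_mem _, fun s _ => by rw [mul_one, one_mul], one_pow p⟩
    | mul x y _ _ hx hy =>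
      refine ⟨mul_mem hx.1 hy.1, fun s hs => ?_, ?_⟩
      · rw [← mul_assoc, hx.2.1 s hs, mul_assoc, hy.2.1 s hs, mul_assoc]
      · rw [(show Commute x y from hy.2.1 x hx.1).mul_pow, hx.2.2, hy.2.2, one_mul]
    | inv x _ hx =>
      exact ⟨inv_mem hx.1, fun s hs => ((show Commute s x from hx.2.1 s hs).inv_right).eq,
        by rw [inv_pow, hx.2.2, inv_one]⟩
  set V₁ := Cfsg.inducedFunctor W₁ (S : Subgroup G) with hV₁
  set V₂ := Cfsg.inducedFunctor W₂ (S : Subgroup G) with hV₂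
  have hsubS : ∀ (W : ∀ (Q : Type u) [Group Q], Subgroup Q), Cfsg.inducedFunctor W (S : Subgroup G) ≤ (S : Subgroup G) :=
    fun W => Functor.inducedFunctor_le W _
  -- conjugates of `Z` from one normalizer are conjugates from the other
  have key : ∀ (Wi Wj : ∀ (Q : Type u) [Group Q], Subgroup Q), Cfsg.IsCharPFunctor.{u} p Wi →
      Z ≤ Cfsg.inducedFunctor Wi (S : Subgroup G) →
      Wj ∈ ({fun (Q : Type u) [Group Q] => W₁ Q, fun (Q : Type u) [Group Q] => W₂ Q} :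
          Set (∀ (Q : Type u) [Group Q], Subgroup Q)) →
      ∀ n ∈ Subgroup.normalizer (Cfsg.inducedFunctor Wi (S : Subgroup G) : Set G),
        ∃ n' ∈ Subgroup.normalizer (Cfsg.inducedFunctor Wj (S : Subgroup G) : Set G), cj n Z = cj n' Z := by
    intro Wi Wj hWi hZV hWj n hn
    set V := Cfsg.inducedFunctor Wi (S : Subgroup G) with hV
    have hSV : (S : Subgroup G) ≤ Subgroup.normalizer (V : Set G) :=
      Subgroup.le_normalizer.trans (SectionFactor.normalizer_le_normalizer_ind hWi S.2)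
    obtain ⟨hKc, hCsyl, hSK⟩ := SectionFactor.cent_sup S (hsubS Wi) hSV
    have hNC : Subgroup.normalizer (V : Set G) ≤ Subgroup.normalizer (Subgroup.centralizer (V : Set G) : Set G) :=
      le_normalizer_of_map_conj fun x hx => by rw [← centralizer_map_conj, map_conj_eq_iff.mpr hx]
    obtain ⟨c, hc, y, hy, rfl⟩ := frattini_argument (H := Subgroup.normalizer (V : Set G)) (g := n) hCsyl
      hNC (Subgroup.centralizer_le_normalizer _) hn
    set K := V ⊔ ((S : Subgroup G) ⊓ Subgroup.centralizer (V : Set G)) with hK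
    have hyK : y ∈ Subgroup.normalizer (K : Set G) := by
      refine cj_eq.mp ?_
      show Subgroup.map _ (V ⊔ _) = _
      rw [Subgroup.map_sup, map_conj_eq_iff.mpr hy.1, map_conj_eq_iff.mpr hy.2]
    obtain ⟨O, -, -, -, -, h2⟩ := SectionFactor.constrained hW₁ hW₂ hFac (Functor.sec_self G)
      (SectionFactor.sylow_isSylowIn S hSK) (sup_le (hsubS Wi) inf_le_left) le_rfl hKc
    obtain ⟨a, ha, b, hb, hab⟩ := h2 Wj hWj Z (hZV.trans le_sup_left)
      (fun z hz => ⟨(hZc z hz).2.2, (hZc z hz).2.1⟩) y⁻¹ (inv_mem hyK)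
    refine ⟨b⁻¹, inv_mem hb.2, ?_⟩
    rw [← cj_cj]
    have h1 : cj c (cj y Z) = cj y Z := by
      refine cj_of_cent (Subgroup.centralizer_le ?_ hc)
      rintro _ ⟨z, hz, rfl⟩
      exact (Subgroup.mem_normalizer_iff.mp hy.1 z).mp (hZV hz)
    rw [h1, show y = b⁻¹ * a⁻¹ by rw [← mul_inv_rev, ← hab, inv_inv], ← cj_cj, cj_of_cent (inv_mem ha)]
  have hZ₁ : Z ≤ V₁ := hZ.trans inf_le_left
  have hZ₂ : Z ≤ V₂ := hZ.trans inf_le_right
  -- the subgroup `A`
  have hSN₁ : (S : Subgroup G) ≤ N₁ := hN₁ ▸ Subgroup.le_normalizer.trans (SectionFactor.normalizer_le_normalizer_ind hW₁ S.2)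
  have hZN : Z ≤ N₁ := fun z hz => hSN₁ (hZc z hz).1
  have hAin : ∀ n ∈ N₁, cj n Z ≤ A := by
    rintro n hn _ ⟨z, hz, rfl⟩
    rw [hA]
    exact ⟨⟨n, hn⟩ * ⟨z, hZN hz⟩ * ⟨n, hn⟩⁻¹,
      Subgroup.normalClosure_normal.conj_mem _ (Subgroup.subset_normalClosure (show (⟨z, hZN hz⟩ : ↥N₁) ∈ ((Z.subgroupOf N₁ : Subgroup ↥N₁) : Set ↥N₁) from hz)) _, rfl⟩
  have hAle : ∀ M : Subgroup G, (∀ n ∈ N₁, cj n Z ≤ M) → A ≤ M := by
    intro M hM
    rw [hA, Subgroup.map_le_iff_le_comap, Subgroup.normalClosure, Subgroup.closure_le]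
    intro x hx
    obtain ⟨z, hz, hzx⟩ := Group.mem_conjugatesOfSet_iff.mp hx
    obtain ⟨n, rfl⟩ := isConj_iff.mp hzx
    exact hM n n.2 ⟨(z : G), hz, rfl⟩
  have hAN₁ : N₁ ≤ Subgroup.normalizer (A : Set G) := by
    intro n hn
    rw [hA]
    exact Subgroup.le_normalizer_map _ ⟨⟨n, hn⟩, by rw [Subgroup.normalizer_eq_top]; trivial, rfl⟩
  have hAS : A ≤ (S : Subgroup G) := hAle _ fun n hn =>
    (Subgroup.map_mono hZ₁).trans ((cj_eq.mpr (hN₁ ▸ hn)).le.trans (hsubS W₁))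
  have hAN₂ : Subgroup.normalizer (V₂ : Set G) ≤ Subgroup.normalizer (A : Set G) := by
    intro m hm
    refine cj_eq.mp (Subgroup.eq_of_le_of_card_ge ?_ (Subgroup.card_map_of_injective (MulAut.conj m).injective).ge)
    rw [Subgroup.map_le_iff_le_comap]
    refine hAle _ fun n hn => ?_
    obtain ⟨n', hn', e⟩ := key W₁ W₂ hW₁ hZ₁ (Or.inr rfl) n (hN₁ ▸ hn)
    obtain ⟨n'', hn'', e'⟩ := key W₂ W₁ hW₂ hZ₂ (Or.inl rfl) (m * n') (mul_mem hm hn')
    rw [← Subgroup.map_le_iff_le_comap, e]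
    show cj m (cj n' Z) ≤ A
    rw [cj_cj, e']
    exact hAin n'' (hN₁ ▸ hn'')
  have hAab : A ≤ Subgroup.centralizer (A : Set G) := hAle _ fun n hn => by
    have h1 : Z ≤ Subgroup.centralizer (A : Set G) := fun z hz =>
      Subgroup.mem_centralizer_iff.mpr fun a ha => (hZc z hz).2.1 a (hAS ha)
    refine (Subgroup.map_mono h1).trans (le_of_eq ?_)
    rw [← centralizer_map_conj, map_conj_eq_iff.mpr (hAN₁ hn)]
  have hAp : ∀ a ∈ A, a ^ p = 1 := by
    let M : Subgroup G :=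
      { carrier := {x | x ∈ A ∧ x ^ p = 1}
        one_mem' := ⟨one_mem A, one_pow p⟩
        mul_mem' := fun {x y} hx hy => ⟨A.mul_mem hx.1 hy.1, by
          rw [(show Commute x y from Subgroup.mem_centralizer_iff.mp (hAab hy.1) x hx.1).mul_pow, hx.2, hy.2, one_mul]⟩
        inv_mem' := fun {x} hx => ⟨A.inv_mem hx.1, by rw [inv_pow, hx.2, inv_one]⟩ }
    intro a ha
    refine (hAle M ?_ ha).2
    rintro n hn _ ⟨z, hz, rfl⟩
    refine ⟨hAin n hn ⟨z, hz, rfl⟩, ?_⟩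
    show ((MulAut.conj n).toMonoidHom z) ^ p = 1
    rw [← map_pow, (hZc z hz).2.2, map_one]
  -- fusion
  have hctrl : ∀ (B : Subgroup G) (g : G),
      SectionFactor.Fus (SectionFactor.steps W₁ W₂ G (S : Subgroup G)) (S : Subgroup G) B g → Ctrl A B g := by
    intro B g h
    induction h with
    | cent hc => exact ⟨1, one_mem _, _, hc, (one_mul _).symm⟩
    | @step B g hg hle =>
      refine ⟨g, ?_, 1, one_mem _, (mul_one g).symm⟩
      rcases hg with hg | hg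
      · exact hAN₁ (hN₁ ▸ hg)
      · exact hAN₂ hg
    | comp _ _ ih ih' => exact Ctrl.mul ih' ih le_rfl
  have hcs : ∀ B : Set G, B ⊆ (S : Subgroup G) →
      Cfsg.ControlsStrongFusionOf (Subgroup.normalizer (A : Set G)) (S : Subgroup G) B := by
    intro B hB
    refine ⟨hB, fun g hg => ?_⟩
    have hcl : cj g (Subgroup.closure B) ≤ (S : Subgroup G) := by
      show (Subgroup.closure B).map _ ≤ _
      rw [MonoidHom.map_closure, Subgroup.closure_le]
      exact hg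
    obtain ⟨h, hh, c, hc, e⟩ := hctrl _ g
      (SectionFactor.fusion hW₁ hW₂ hFac S ((Subgroup.closure_le _).mpr hB) hcl)
    refine ⟨h, hh, fun a ha => ?_⟩
    have := Subgroup.mem_centralizer_iff.mp hc a (Subgroup.subset_closure ha)
    rw [e, show h * c * a * (h * c)⁻¹ = h * (c * a * c⁻¹) * h⁻¹ by group, ← this, mul_inv_cancel_right]
  refine ⟨hAS, ⟨⟨⟨fun a b => Subtype.ext (Subgroup.mem_centralizer_iff.mp (hAab b.2) a a.2)⟩⟩, hAp⟩,
    ⟨hAS, fun x hx g hg => ?_⟩, S, hAS, hcs⟩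
  obtain ⟨h, hh, e⟩ := (hcs {x} (Set.singleton_subset_iff.mpr (hAS hx))).2 g (by
    rintro _ ⟨a, ha, rfl⟩
    rw [Set.mem_singleton_iff.mp ha]
    exact hg)
  rw [e x rfl]
  exact (Subgroup.mem_normalizer_iff.mp hh x).mp hx)

end Cfsg.Agent.S1997
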