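import Cfsg.Statements.S2000
import Cfsg.Agent.Lib.Fusion.SFreeFF.Functors
import Cfsg.Agent.Lib.KGroups.QdFusion
import Cfsg.Agent.Lib.Fusion.ZJFusion
import Cfsg.Agent.S2761

set_option autoImplicit false
universe u
open Cfsg

namespace Cfsg.Agent.S2000

/-- Let p be a prime and G a finite group. Then Qd(p) (the natural semidirect product of an elementary abelian group of order p² by SL₂(p)) is not involved in G if and only if there is a set 𝓦 of isomorphism-invariant p-group functors (each nontrivial on nontrivial finite p-groups and carried onto W(R) by every isomorphism from a finite p-group Q onto R, hence with characteristic values on finite p-groups) whose induced conjugacy functors control strong fusion in every section of G. -/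
theorem result {G : Type u} [Group G] [Finite G] {p : ℕ} [Fact p.Prime] : ¬ Cfsg.Involves ↥(Cfsg.qd p) G ↔ ∃ 𝓦 : Set (∀ (Q : Type u) [Group Q], Subgroup Q), (∀ W ∈ 𝓦, Cfsg.IsCharPFunctor.{u} p W) ∧ ∀ (K R : Subgroup G) [hR : (R.subgroupOf K).Normal], Cfsg.FamilyControlsStrongFusionIn p ((fun W => Cfsg.inducedFunctor (G := (↥K ⧸ R.subgroupOf K)) W) '' 𝓦) ⊤ := by
  open CfsgLib.Fusion CfsgLib.Fusion.QdSections CfsgLib.KGroups in
  exact (by
  constructor
  · intro h
    by_cases hp : p = 2
    · subst hp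
      obtain ⟨e'⟩ := Cfsg.Agent.S2761.result
      have h4 : ¬ Cfsg.Involves (Equiv.Perm (Fin 4)) G := by
        rintro ⟨K, R, hR, ⟨e⟩⟩
        exact h ⟨K, R, hR, ⟨e.trans e'.symm⟩⟩
      exact ⟨SFreeFF.zjPair, SFreeFF.isCharPFunctor_zjPair,
        fun K R _ => SFreeFF.zjPair_controls h4 _ (Functor.sec_mk K R)⟩
    · have hW := ZJFusion.isCharPFunctor_zj.{u} (p := p) hp
      have h1 : ∀ V ∈ ({ZJFusion.zj.{u} p} : Set (∀ (Q : Type u) [Group Q], Subgroup Q)),
          Cfsg.IsCharPFunctor.{u} p V := fun V hV => Set.mem_singleton_iff.mp hV ▸ hW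
      refine ⟨{ZJFusion.zj.{u} p}, h1, fun K R hR => ?_⟩
      refine Functor.familyControls_of_sections (G := G) h1 (fun K' R' _ hc => ?_) _ (Functor.sec_mk K R)
      obtain ⟨T⟩ : Nonempty (Sylow p (↥K' ⧸ R'.subgroupOf K')) := inferInstance
      refine Functor.family_of_normal T ?_
      rw [ZJFusion.inducedFunctor_zj hp]
      refine ZJFull.centerThompson_normal hp hc (fun Q _ hQ => isPStableOn_of_qdFree hp ?_ Q hQ) T
      exact fun hs => h (hasQdSection_iff.mp (HasQdSection.of_subgroup K'
        (hs.of_surjective (QuotientGroup.mk' _) (QuotientGroup.mk'_surjective _))))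
  · rintro ⟨𝓦, h𝓦, hc⟩ ⟨K, R, hR, ⟨e⟩⟩
    exact QdFusion.not_family_controls e 𝓦 h𝓦 (hc K R))

end Cfsg.Agent.S2000
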