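import Cfsg.Statements.S2001
import Cfsg.Agent.Lib.KGroups.TwoFunctorFusion
import Cfsg.Agent.Lib.KGroups.Functor.Transfer

set_option autoImplicit false
open Cfsg

namespace Cfsg.Agent.S2001

open CfsgLib.LocalEven.SylowIn
open CfsgLib.KGroups.ClosureControl (cj cj_one cj_cj mem_cj cj_eq conj_cent cj_of_cent sylowIn_inf)
open CfsgLib.KGroups.TwoFunctorFusion (Cent ctr ctr_le_ctr)

variable {G : Type*} [Group G] [Finite G] {p : ℕ} [Fact p.Prime]

theorem focal_le (S : Sylow p G) (hS : (S : Subgroup G) ≠ ⊥) {W V : Subgroup G → Subgroup G}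
    (hW : Cfsg.IsConjugacyFunctor p W)
    (hWZ : ∀ H : Subgroup G, IsPGroup p ↥H → ctr H ≤ W H)
    (hVmono : ∀ H K : Subgroup G, IsPGroup p ↥H → IsPGroup p ↥K → H ≠ ⊥ → K ≠ ⊥ →
      ctr H ≤ ctr K → V H ≤ V K)
    (hloc : ∀ H : Subgroup G, ctr (S : Subgroup G) ≤ H → H ≤ (S : Subgroup G) →
      ∀ T : Subgroup G, IsSylowIn p T (Subgroup.normalizer (H : Set G)) →
        T ⊓ ⁅Subgroup.normalizer (H : Set G), Subgroup.normalizer (H : Set G)⁆ ≤
          (T ⊓ ⁅Subgroup.normalizer (W T : Set G), Subgroup.normalizer (W T : Set G)⁆) ⊔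
          (T ⊓ ⁅Subgroup.centralizer (V T : Set G), Subgroup.centralizer (V T : Set G)⁆))
    (D : Subgroup G)
    (hDW : (S : Subgroup G) ⊓ ⁅Subgroup.normalizer (W (S : Subgroup G) : Set G),
      Subgroup.normalizer (W (S : Subgroup G) : Set G)⁆ ≤ D)
    (hDV : (S : Subgroup G) ⊓ ⁅Subgroup.centralizer (V (S : Subgroup G) : Set G),
      Subgroup.centralizer (V (S : Subgroup G) : Set G)⁆ ≤ D) :
    ∀ A : Subgroup G, A ≤ (S : Subgroup G) → ∀ g : G, cj g A ≤ (S : Subgroup G) →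
      ∀ a ∈ A, g * a * g⁻¹ * a⁻¹ ∈ D := by
  classical
  intro A
  induction' hk : Nat.card G - Nat.card A using Nat.strong_induction_on with k ih generalizing A
  intro hA g hg
  have IH : ∀ B : Subgroup G, Nat.card A < Nat.card B → B ≤ (S : Subgroup G) →
      ∀ y : G, cj y B ≤ (S : Subgroup G) → ∀ a ∈ B, y * a * y⁻¹ * a⁻¹ ∈ D := by
    intro B hAB
    have := Subgroup.card_le_card_group B
    exact ih _ (by omega) B rfl
  have hcard : ∀ (x : G) (Y : Subgroup G), Nat.card (cj x Y) = Nat.card Y := fun x Y =>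
    Subgroup.card_map_of_injective (MulAut.conj x).injective
  have hVpart : ∀ T Y : Subgroup G, T ≤ (S : Subgroup G) → Y ≤ T → Cent p Y →
      T ⊓ ⁅Subgroup.centralizer (V T : Set G), Subgroup.centralizer (V T : Set G)⁆ ≤ D := by
    intro T Y hT hY hYc
    have hTne : T ≠ ⊥ := by
      rintro rfl
      refine hS (eq_bot_iff.mpr fun z hz => hY (hYc z ?_ (S.2.to_le (Subgroup.zpowers_le.mpr hz))))
      rw [le_bot_iff.mp hY, Subgroup.mem_centralizer_iff]
      intro x hx
      rw [Subgroup.mem_bot.mp hx, one_mul, mul_one]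
    have hC : Subgroup.centralizer (V T : Set G) ≤ Subgroup.centralizer (V (S : Subgroup G) : Set G) :=
      Subgroup.centralizer_le (hVmono _ T S.2 (S.2.to_le hT) hS hTne (ctr_le_ctr hYc S.2 hY hT))
    exact (inf_le_inf hT (Subgroup.commutator_mono hC hC)).trans hDV
  have hrec : ∀ m : ℕ, ∀ T : Subgroup G, Nat.card G - Nat.card T = m → T ≤ (S : Subgroup G) →
      ∀ Y ≤ T, Cent p Y → Nat.card A = Nat.card Y →
        T ⊓ ⁅Subgroup.normalizer (W T : Set G), Subgroup.normalizer (W T : Set G)⁆ ≤ D := by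
    intro m
    induction m using Nat.strong_induction_on with
    | _ m ihm =>
    intro T hm hT Y hY hYc hYA
    by_cases hTS : T = (S : Subgroup G)
    · rw [hTS]; exact hDW
    obtain ⟨hWle, -, hWcj⟩ := hW T (S.2.to_le hT)
    have hNT : Subgroup.normalizer (T : Set G) ≤ Subgroup.normalizer (W T : Set G) :=
      le_normalizer_of_map_conj fun x hx => by rw [← hWcj, map_conj_eq_iff.mpr hx]
    set T' := (S : Subgroup G) ⊓ Subgroup.normalizer (W T : Set G) with hT'
    have hTT' : T ≤ T' := le_inf hT (Subgroup.le_normalizer.trans hNT)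
    have hlt : Nat.card T < Nat.card T' := by
      obtain ⟨d, hd, ⟨-, hdN⟩, hdT⟩ := CfsgLib.Fsys.exists_mem_normalizer_not_mem S.2 le_rfl
        (lt_of_le_of_ne hT hTS)
      refine lt_of_le_of_ne (Subgroup.card_le_of_le hTT') fun e => hdT ?_
      exact (Subgroup.eq_of_le_of_card_ge hTT' e.ge).symm ▸ ⟨hd, hNT hdN⟩
    obtain ⟨T₂, hT₂, hT'T₂⟩ := exists_isSylowIn (Subgroup.normalizer (W T : Set G))
      (inf_le_right : T' ≤ _) (S.2.to_le inf_le_left)
    obtain ⟨S', hS'⟩ := (hT₂.2.1).exists_le_sylow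
    obtain ⟨x, hx⟩ := MulAction.exists_smul_eq G S' S
    have hxT₂ : cj x T₂ ≤ (S : Subgroup G) := by
      rw [← hx, Sylow.coe_subgroup_smul]
      exact Subgroup.map_mono hS'
    have hxT' : cj x T' ≤ (S : Subgroup G) := (Subgroup.map_mono hT'T₂).trans hxT₂
    set T₁ := cj x T₂ with hT₁
    set K := cj x (W T) with hK
    have hT₁syl : IsSylowIn p T₁ (Subgroup.normalizer (K : Set G)) := by
      have h := hT₂.map_conj x
      rwa [← normalizer_map_conj] at h
    have hcjT : cj x T ≤ (S : Subgroup G) := (Subgroup.map_mono hTT').trans hxT'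
    have hZK : ctr (S : Subgroup G) ≤ K := by
      rw [hK, show cj x (W T) = W (cj x T) from (hWcj x).symm]
      exact (ctr_le_ctr (hYc.conj x) S.2 (Subgroup.map_mono hY) hcjT).trans (hWZ _ (S.2.to_le hcjT))
    have hKS : K ≤ (S : Subgroup G) := (Subgroup.map_mono hWle).trans hcjT
    have hm' : Nat.card G - Nat.card T₁ < m := by
      have h1 : Nat.card T' ≤ Nat.card T₂ := Subgroup.card_le_of_le hT'T₂
      have h2 : Nat.card T₁ = Nat.card T₂ := hcard x T₂
      have h3 := Subgroup.card_le_card_group T₁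
      omega
    have hYT₁ : cj x Y ≤ T₁ := Subgroup.map_mono (hY.trans (hTT'.trans hT'T₂))
    have hT₁D : T₁ ⊓ ⁅Subgroup.normalizer (K : Set G), Subgroup.normalizer (K : Set G)⁆ ≤ D :=
      (hloc K hZK hKS T₁ hT₁syl).trans (sup_le
        (ihm _ hm' T₁ rfl hxT₂ _ hYT₁ (hYc.conj x) (by rw [hcard]; exact hYA))
        (hVpart T₁ _ hxT₂ hYT₁ (hYc.conj x)))
    rintro t ⟨htT, ht⟩
    have h1 : x * t * x⁻¹ ∈ D := by
      refine hT₁D ⟨⟨t, hT'T₂ (hTT' htT), rfl⟩, ?_⟩
      rw [SetLike.mem_coe, hK, normalizer_map_conj, ← Subgroup.map_commutator]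
      exact ⟨t, ht, rfl⟩
    have h2 : x * t * x⁻¹ * t⁻¹ ∈ D :=
      IH T' (by rw [hYA]; exact (Subgroup.card_le_of_le hY).trans_lt hlt) inf_le_left x hxT' t (hTT' htT)
    have := D.mul_mem (D.inv_mem h2) h1
    rwa [show (x * t * x⁻¹ * t⁻¹)⁻¹ * (x * t * x⁻¹) = t by group] at this
  obtain ⟨n, Q, x, hprod, hQ, hfirst, hnext⟩ := Cfsg.Agent.S0116.result S (A : Set G) g⁻¹ (fun a ha => hA ha) (by
    rintro _ ⟨a, ha, rfl⟩
    rw [inv_inv]
    exact hg ⟨a, ha, rfl⟩)
  have key : ∀ i : ℕ, i ≤ n → ∀ a ∈ A,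
      (((List.ofFn x).take i).prod)⁻¹ * a * ((List.ofFn x).take i).prod * a⁻¹ ∈ D := by
    intro i
    induction i with
    | zero =>
      intro _ a _
      rw [List.take_zero, List.prod_nil, inv_one, one_mul, mul_one, mul_inv_cancel]
      exact one_mem D
    | succ i hi =>
      intro hin' a ha
      rw [List.prod_take_succ _ i (by simpa using hin'), List.getElem_ofFn]
      set R := (S : Subgroup G) ⊓ (Q ⟨i, hin'⟩ : Subgroup G) with hR
      set a₀ := ((List.ofFn x).take i).prod with ha₀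
      have hAR : cj a₀⁻¹ A ≤ R := by
        rintro _ ⟨a, ha, rfl⟩
        show a₀⁻¹ * a * a₀⁻¹⁻¹ ∈ R
        rw [inv_inv]
        rcases i with _ | j
        · rw [ha₀, List.take_zero, List.prod_nil, inv_one, one_mul, mul_one]
          exact hfirst hin' ha
        · exact hnext ⟨j, by omega⟩ hin' ⟨a, ha, rfl⟩
      set y₀ := x ⟨i, hin'⟩
      suffices hstep : ∀ r ∈ R, y₀⁻¹ * r * y₀ * r⁻¹ ∈ D by
        have hr : a₀⁻¹ * a * a₀ ∈ R := by
          have := hAR ⟨a, ha, rfl⟩
          change a₀⁻¹ * a * a₀⁻¹⁻¹ ∈ R at this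
          rwa [inv_inv] at this
        have := D.mul_mem (hstep _ hr) (hi (by omega) a ha)
        rw [show (a₀ * y₀)⁻¹ * a * (a₀ * y₀) * a⁻¹ =
          y₀⁻¹ * (a₀⁻¹ * a * a₀) * y₀ * (a₀⁻¹ * a * a₀)⁻¹ * (a₀⁻¹ * a * a₀ * a⁻¹) by group]
        exact this
      obtain ⟨hxN, hP', -⟩ := hQ ⟨i, hin'⟩
      set NR := Subgroup.normalizer (R : Set G) with hNR
      have hxR : cj y₀⁻¹ R = R := cj_eq.mpr (inv_mem hxN)
      have hAR' : Nat.card A ≤ Nat.card R := by
        rw [← hcard a₀⁻¹ A]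
        exact Subgroup.card_le_of_le hAR
      intro r hr
      rcases lt_or_eq_of_le hAR' with hlt | heq
      · have := IH R hlt inf_le_left y₀⁻¹ (hxR.le.trans inf_le_left) r hr
        rwa [inv_inv] at this
      have hsyl : IsSylowIn p ((S : Subgroup G) ⊓ NR) NR :=
        CfsgLib.KGroups.Functor.isSylowIn_of_not_dvd inf_le_right (S.2.to_le inf_le_left) hP'
      set CR := Subgroup.centralizer (R : Set G) with hCR
      have hCN : CR ≤ NR := Subgroup.centralizer_le_normalizer _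
      have hNC : NR ≤ Subgroup.normalizer (CR : Set G) := le_normalizer_of_map_conj fun z hz => by
        rw [← centralizer_map_conj, map_conj_eq_iff.mpr hz]
      have hCsyl : IsSylowIn p ((S : Subgroup G) ⊓ CR) CR := by
        have := sylowIn_inf hsyl hCN hNC
        rwa [inf_assoc, inf_eq_right.mpr hCN] at this
      by_cases hcen : (S : Subgroup G) ⊓ CR ≤ R
      · have hRc : Cent p R := by
          intro z hz hzp
          obtain ⟨T, hT, hzT⟩ := exists_isSylowIn CR (Subgroup.zpowers_le.mpr hz) hzp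
          obtain ⟨m, hm, e⟩ := hCsyl.conjugate hT
          have hle : T ≤ R := by
            rw [e]
            exact (Subgroup.map_mono hcen).trans (cj_of_cent hm).le
          exact hle (hzT (Subgroup.mem_zpowers z))
        have hRS : R ≤ (S : Subgroup G) ⊓ NR := le_inf inf_le_left Subgroup.le_normalizer
        refine (hloc R (hRc.ctr_le S.2 inf_le_left) inf_le_left _ hsyl).trans (sup_le
          (hrec _ _ rfl inf_le_left R hRS hRc heq) (hVpart _ R inf_le_left hRS hRc)) ⟨hRS ?_, ?_⟩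
        · refine R.mul_mem ?_ (R.inv_mem hr)
          have := hxR.le ⟨r, hr, rfl⟩
          change y₀⁻¹ * r * y₀⁻¹⁻¹ ∈ R at this
          rwa [inv_inv] at this
        · have := Subgroup.commutator_mem_commutator (H₁ := NR) (H₂ := NR) (inv_mem hxN) (Subgroup.le_normalizer hr)
          rwa [commutatorElement_def, inv_inv] at this
      · obtain ⟨c, hc, y, hy, e⟩ := frattini_argument hCsyl hNC hCN hxN
        have hcr : c⁻¹ * r * c = r := by
          rw [mul_assoc, Subgroup.mem_centralizer_iff.mp hc r hr, inv_mul_cancel_left]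
        rw [show y₀ = c * y from e, show (c * y)⁻¹ * r * (c * y) * r⁻¹ = y⁻¹ * (c⁻¹ * r * c) * y * r⁻¹ by group, hcr]
        have hcardlt : Nat.card A < Nat.card ↥(R ⊔ (S : Subgroup G) ⊓ CR) := by
          rw [heq]
          refine lt_of_le_of_ne (Subgroup.card_le_of_le le_sup_left) fun e => hcen ?_
          exact (Subgroup.eq_of_le_of_card_ge le_sup_left e.ge).symm ▸ le_sup_right
        have hcjle : cj y⁻¹ (R ⊔ (S : Subgroup G) ⊓ CR) ≤ (S : Subgroup G) := by
          refine le_of_eq_of_le ?_ (sup_le inf_le_left inf_le_left :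
            R ⊔ (S : Subgroup G) ⊓ CR ≤ (S : Subgroup G))
          show Subgroup.map _ (R ⊔ _) = _
          rw [Subgroup.map_sup, show R.map (MulAut.conj y⁻¹).toMonoidHom = R from cj_eq.mpr (inv_mem hy.1),
            show ((S : Subgroup G) ⊓ CR).map (MulAut.conj y⁻¹).toMonoidHom = _ from cj_eq.mpr (inv_mem hy.2)]
        have := IH _ hcardlt (sup_le inf_le_left inf_le_left) y⁻¹ hcjle r (Subgroup.mem_sup_left hr)
        rwa [inv_inv] at this
  intro a ha
  have h := key n le_rfl a ha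
  rwa [List.take_of_length_le (by simp), hprod, inv_inv] at h

/-- Let p be a prime dividing the order of the finite group G, P a Sylow p-subgroup, W a conjugacy functor for p on G with Z(H) ≤ W(H) for every nontrivial p-subgroup H, and V a central functor: a conjugacy functor with V(H) ≤ Z(H), and V(H) ≤ V(K) whenever Z(H) ≤ Z(K), for nontrivial p-subgroups H, K. Say that W with V controls transfer in a subgroup L when some Sylow p-subgroup Q of L satisfies Q ∩ L' = (Q ∩ (N_L(W(Q)))')·(Q ∩ (C_L(V(Q)))') as a product of two subgroups. If W with V controls transfer in N_G(H) for every subgroup H with Z(P) ≤ H ≤ P, then W with V controls transfer in G. -/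
theorem result {G : Type*} [Group G] [Finite G] {p : ℕ} [Fact p.Prime] (hdiv : p ∣ Nat.card G) (P : Sylow p G) (W V : Subgroup G → Subgroup G) (hW : Cfsg.IsConjugacyFunctor p W) (hV : Cfsg.IsConjugacyFunctor p V) (hWZ : ∀ H : Subgroup G, IsPGroup p ↥H → H ⊓ Subgroup.centralizer ((H : Subgroup G) : Set G) ≤ W H) (hVZ : ∀ H : Subgroup G, IsPGroup p ↥H → V H ≤ H ⊓ Subgroup.centralizer ((H : Subgroup G) : Set G)) (hVmono : ∀ H K : Subgroup G, IsPGroup p ↥H → IsPGroup p ↥K → H ≠ ⊥ → K ≠ ⊥ → H ⊓ Subgroup.centralizer ((H : Subgroup G) : Set G) ≤ K ⊓ Subgroup.centralizer ((K : Subgroup G) : Set G) → V H ≤ V K) (hloc : ∀ H : Subgroup G, (P : Subgroup G) ⊓ Subgroup.centralizer (((P : Subgroup G) : Subgroup G) : Set G) ≤ H → H ≤ (P : Subgroup G) → ∃ Q : Subgroup G, Q ≤ Subgroup.normalizer ((H : Subgroup G) : Set G) ∧ IsPGroup p ↥Q ∧ ¬ p ∣ (Q).relIndex (Subgroup.normalizer ((H : Subgroup G) : Set G)) ∧ ∀ x : G, x ∈ Q ⊓ ⁅Subgroup.normalizer ((H : Subgroup G)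 : Set G), Subgroup.normalizer ((H : Subgroup G) : Set G)⁆ ↔ ∃ a ∈ Q ⊓ ⁅Subgroup.normalizer ((H : Subgroup G) : Set G) ⊓ Subgroup.normalizer ((W Q : Subgroup G) : Set G), Subgroup.normalizer ((H : Subgroup G) : Set G) ⊓ Subgroup.normalizer ((W Q : Subgroup G) : Set G)⁆, ∃ b ∈ Q ⊓ ⁅Subgroup.normalizer ((H : Subgroup G) : Set G) ⊓ Subgroup.centralizer ((V Q : Subgroup G) : Set G), Subgroup.normalizer ((H : Subgroup G) : Set G) ⊓ Subgroup.centralizer ((V Q : Subgroup G) : Set G)⁆, x = a * b) : ∃ Q : Subgroup G, IsPGroup p ↥Q ∧ ¬ p ∣ Q.index ∧ ∀ x : G, x ∈ Q ⊓ commutator G ↔ ∃ a ∈ Q ⊓ ⁅Subgroup.normalizer ((W Q : Subgroup G) : Set G), Subgroup.normalizer ((W Q : Subgroup G) : Set G)⁆, ∃ b ∈ Q ⊓ ⁅Subgroup.centralizer ((V Q : Subgroup G) : Set G), Subgroup.centralizer ((V Q : Subgroup G) : Set G)⁆, x = a * b := by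
  classical
  have hS : (P : Subgroup G) ≠ ⊥ := P.ne_bot_of_dvd_card hdiv
  set NW := Subgroup.normalizer (W (P : Subgroup G) : Set G) with hNW
  set CV := Subgroup.centralizer (V (P : Subgroup G) : Set G) with hCV
  set A := (P : Subgroup G) ⊓ ⁅NW, NW⁆ with hA
  set B := (P : Subgroup G) ⊓ ⁅CV, CV⁆ with hB
  have hPN : (P : Subgroup G) ≤ NW := Subgroup.le_normalizer.trans
    (le_normalizer_of_map_conj fun x hx => by rw [← (hW _ P.2).2.2, map_conj_eq_iff.mpr hx])
  have hlocal : ∀ H : Subgroup G, ctr (P : Subgroup G) ≤ H → H ≤ (P : Subgroup G) →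
      ∀ T : Subgroup G, IsSylowIn p T (Subgroup.normalizer (H : Set G)) →
        T ⊓ ⁅Subgroup.normalizer (H : Set G), Subgroup.normalizer (H : Set G)⁆ ≤
          (T ⊓ ⁅Subgroup.normalizer (W T : Set G), Subgroup.normalizer (W T : Set G)⁆) ⊔
          (T ⊓ ⁅Subgroup.centralizer (V T : Set G), Subgroup.centralizer (V T : Set G)⁆) := by
    intro H h1 h2 T hT
    set N := Subgroup.normalizer (H : Set G)
    obtain ⟨Q, hQN, hQp, hQi, hQ⟩ := hloc H h1 h2
    obtain ⟨l, hl, e⟩ := (CfsgLib.KGroups.Functor.isSylowIn_of_not_dvd hQN hQp hQi).conjugate hT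
    have inj := (MulAut.conj l).injective
    have hNl : N.map (MulAut.conj l).toMonoidHom = N := map_conj_eq_iff.mpr (Subgroup.le_normalizer hl)
    rintro z ⟨hzT, hzN⟩
    rw [e] at hzT
    obtain ⟨z₀, hz₀, rfl⟩ := hzT
    have hz₀N : z₀ ∈ ⁅N, N⁆ := by
      rw [← hNl, ← Subgroup.map_commutator] at hzN
      obtain ⟨w, hw, e2⟩ := hzN
      rwa [← inj e2]
    obtain ⟨a, ha, b, hb, rfl⟩ := (hQ z₀).mp ⟨hz₀, hz₀N⟩
    rw [map_mul]
    refine Subgroup.mul_mem_sup ⟨e.ge ⟨a, ha.1, rfl⟩, ?_⟩ ⟨e.ge ⟨b, hb.1, rfl⟩, ?_⟩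
    · rw [show W T = (W Q).map (MulAut.conj l).toMonoidHom by rw [e]; exact (hW Q hQp).2.2 l,
        SetLike.mem_coe, normalizer_map_conj, ← Subgroup.map_commutator]
      exact ⟨a, Subgroup.commutator_mono inf_le_right inf_le_right ha.2, rfl⟩
    · rw [show V T = (V Q).map (MulAut.conj l).toMonoidHom by rw [e]; exact (hV Q hQp).2.2 l,
        SetLike.mem_coe, centralizer_map_conj, ← Subgroup.map_commutator]
      exact ⟨b, Subgroup.commutator_mono inf_le_right inf_le_right hb.2, rfl⟩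
  have hfocal : (P : Subgroup G) ⊓ ⁅(⊤ : Subgroup G), ⊤⁆ ≤ A ⊔ B := by
    refine CfsgLib.KGroups.Functor.inf_commutator_le_of_focal
      (CfsgLib.KGroups.Functor.isSylowIn_top P) fun a ha u _ hua => ?_
    refine focal_le P hS hW hWZ hVmono hlocal (A ⊔ B) le_sup_left le_sup_right (Subgroup.zpowers a)
      (Subgroup.zpowers_le.mpr ha) u ?_ a (Subgroup.mem_zpowers a)
    show (Subgroup.zpowers a).map _ ≤ _
    rw [MonoidHom.map_zpowers, Subgroup.zpowers_le]
    exact hua
  refine ⟨(P : Subgroup G), P.2, P.not_dvd_index, fun z => ⟨fun hz => ?_, ?_⟩⟩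
  · have hAn : B ≤ Subgroup.normalizer (A : Set G) := fun b hb => by
      rw [← map_conj_eq_iff, hA, Subgroup.map_inf _ _ _ (MulAut.conj b).injective, Subgroup.map_commutator,
        map_conj_eq_iff.mpr (Subgroup.le_normalizer hb.1), map_conj_eq_iff.mpr (Subgroup.le_normalizer (hPN hb.1))]
    have hz' := hfocal hz
    rw [← SetLike.mem_coe, Subgroup.coe_mul_of_right_le_normalizer_left A B hAn] at hz'
    obtain ⟨a, ha, b, hb, e⟩ := hz'
    exact ⟨a, ha, b, hb, e.symm⟩
  · rintro ⟨a, ha, b, hb, rfl⟩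
    exact ⟨(P : Subgroup G).mul_mem ha.1 hb.1,
      mul_mem (Subgroup.commutator_mono le_top le_top ha.2) (Subgroup.commutator_mono le_top le_top hb.2)⟩

end Cfsg.Agent.S2001
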