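import Cfsg.Statements.S2002
import Cfsg.Agent.Lib.KGroups.TwoFunctorFusion

set_option autoImplicit false
open Cfsg

namespace Cfsg.Agent.S2002

/-- Let p be a prime dividing the order of the finite group G, P a Sylow p-subgroup, W a conjugacy functor for p on G with Z(H) ≤ W(H) for every nontrivial p-subgroup H, and V a central functor (a conjugacy functor with V(H) ≤ Z(H), and V(H) ≤ V(K) whenever Z(H) ≤ Z(K)). Say that W with V controls strong fusion in a subgroup L when some Sylow p-subgroup Q of L has the property: whenever X ⊆ Q and a ∈ L with a⁻¹Xa ⊆ Q, then a = c b with c ∈ C_L(X) and b = b₁ ⋯ bₙ a product of elements each in N_L(W(Q)) or in C_L(V(Q)) such that every partial conjugate (b₁ ⋯ bₖ)⁻¹ X (b₁ ⋯ bₖ) lies in Q. If W with V controls strong fusion in N_G(H) for every subgroup H with Z(P) ≤ H ≤ P, then W with V controls strong fusion in G. -/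
theorem result {G : Type*} [Group G] [Finite G] {p : ℕ} [Fact p.Prime] (hdiv : p ∣ Nat.card G) (P : Sylow p G) (W V : Subgroup G → Subgroup G) (hW : Cfsg.IsConjugacyFunctor p W) (hV : Cfsg.IsConjugacyFunctor p V) (hWZ : ∀ H : Subgroup G, IsPGroup p ↥H → H ⊓ Subgroup.centralizer ((H : Subgroup G) : Set G) ≤ W H) (hVZ : ∀ H : Subgroup G, IsPGroup p ↥H → V H ≤ H ⊓ Subgroup.centralizer ((H : Subgroup G) : Set G)) (hVmono : ∀ H K : Subgroup G, IsPGroup p ↥H → IsPGroup p ↥K → H ≠ ⊥ → K ≠ ⊥ → H ⊓ Subgroup.centralizer ((H : Subgroup G) : Set G) ≤ K ⊓ Subgroup.centralizer ((K : Subgroup G) : Set G) → V H ≤ V K) (hloc : ∀ H : Subgroup G, (P : Subgroup G) ⊓ Subgroup.centralizer (((P : Subgroup G) : Subgroup G) : Set G) ≤ H → H ≤ (P : Subgroup G) → ∃ Q : Subgroup G, Q ≤ Subgroup.normalizer ((H : Subgroup G) : Set G) ∧ IsPGroup p ↥Q ∧ ¬ p ∣ (Q).relIndex (Subgroup.normalizer ((H : Subgroup G) : Set G)) ∧ ∀ (X : Set G) (a : G), X ⊆ Q → a ∈ Subgroup.normalizer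 ((H : Subgroup G) : Set G) → (fun x => a⁻¹ * x * a) '' X ⊆ Q → ∃ c ∈ Subgroup.normalizer ((H : Subgroup G) : Set G) ⊓ Subgroup.centralizer X, ∃ (n : ℕ) (b : Fin n → G), (∀ i, b i ∈ Subgroup.normalizer ((H : Subgroup G) : Set G) ⊓ Subgroup.normalizer ((W Q : Subgroup G) : Set G) ∨ b i ∈ Subgroup.normalizer ((H : Subgroup G) : Set G) ⊓ Subgroup.centralizer ((V Q : Subgroup G) : Set G)) ∧ a = c * (List.ofFn b).prod ∧ ∀ k : ℕ, k ≤ n → (fun x => (((List.ofFn b).take k).prod)⁻¹ * x * ((List.ofFn b).take k).prod) '' ((fun x => c⁻¹ * x * c) '' X) ⊆ Q) : ∃ Q : Subgroup G, IsPGroup p ↥Q ∧ ¬ p ∣ Q.index ∧ ∀ (X : Set G) (a : G), X ⊆ Q → (fun x => a⁻¹ * x * a) '' X ⊆ Q → ∃ c ∈ Subgroup.centralizer X, ∃ (n : ℕ) (b : Fin n → G), (∀ i, b i ∈ ⊤ ⊓ Subgroup.normalizer ((W Q : Subgroup G) : Set G) ∨ b i ∈ ⊤ ⊓ Subgroup.centralizer ((V Q : Subgroup G) : Set G)) ∧ a = c * (List.ofFn b).prod ∧ ∀ k : ℕ, k ≤ n → (fun x => (((List.ofFn b).take k).prod)⁻¹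 * x * ((List.ofFn b).take k).prod) '' ((fun x => c⁻¹ * x * c) '' X) ⊆ Q := by
  classical
  open CfsgLib.KGroups.TwoFunctorFusion in
  open CfsgLib.LocalEven.SylowIn in
  open CfsgLib.KGroups.ClosureControl (cj cj_cj cj_eq cj_of_cent conj_cent) in
  exact by
    have hS : (P : Subgroup G) ≠ ⊥ := P.ne_bot_of_dvd_card hdiv
    have hlocal : ∀ H : Subgroup G, ctr (P : Subgroup G) ≤ H → H ≤ (P : Subgroup G) → LocalAt p W V H := by
      intro H h1 h2 T hT Y hY a ha haY
      set N := Subgroup.normalizer (H : Set G)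
      obtain ⟨Q, hQN, hQp, hQi, hQ⟩ := hloc H h1 h2
      have hQs : IsSylowIn p Q N := CfsgLib.KGroups.Functor.isSylowIn_of_not_dvd hQN hQp hQi
      obtain ⟨l, hl, e⟩ := hQs.conjugate hT
      have e' : T = cj l Q := e
      have hback : ∀ {t : G}, t ∈ T → l⁻¹ * t * l ∈ Q := fun ht =>
        CfsgLib.KGroups.ClosureControl.mem_cj.mp (e' ▸ ht)
      obtain ⟨c, ⟨hcN, hcX⟩, n, b, hb, hab, hk⟩ := hQ ((fun y => l⁻¹ * y * l) '' (Y : Set G)) (l⁻¹ * a * l)
        (by rintro _ ⟨y, hy, rfl⟩; exact hback (hY hy))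
        (N.mul_mem (N.mul_mem (N.inv_mem hl) ha) hl)
        (by
          rintro _ ⟨_, ⟨y, hy, rfl⟩, rfl⟩
          have h3 : a⁻¹ * y * a⁻¹⁻¹ ∈ T := haY ⟨y, hy, rfl⟩
          have := hback h3
          show (l⁻¹ * a * l)⁻¹ * (l⁻¹ * y * l) * (l⁻¹ * a * l) ∈ Q
          rw [show (l⁻¹ * a * l)⁻¹ * (l⁻¹ * y * l) * (l⁻¹ * a * l) = l⁻¹ * (a⁻¹ * y * a⁻¹⁻¹) * l by group]
          exact this)
      refine ⟨l * c * l⁻¹, ?_, (List.ofFn b).map (MulAut.conj l), ?_, ?_, ?_⟩
      · rw [Subgroup.mem_centralizer_iff]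
        intro y hy
        have := Subgroup.mem_centralizer_iff.mp hcX _ ⟨y, hy, rfl⟩
        calc y * (l * c * l⁻¹) = l * ((l⁻¹ * y * l) * c) * l⁻¹ := by group
          _ = l * (c * (l⁻¹ * y * l)) * l⁻¹ := by rw [this]
          _ = l * c * l⁻¹ * y := by group
      · intro x hx
        obtain ⟨z, hz, rfl⟩ := List.mem_map.mp hx
        obtain ⟨i, rfl⟩ := (List.mem_ofFn' b z).mp hz
        rw [e']
        rcases hb i with ⟨-, hi⟩ | ⟨-, hi⟩
        · left
          rw [show W (cj l Q) = cj l (W Q) from (hW Q hQp).2.2 l]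
          exact cj_normalizer_mem hi
        · right
          rw [show V (cj l Q) = cj l (V Q) from (hV Q hQp).2.2 l]
          show (MulAut.conj l) (b i) ∈ _
          rw [Subgroup.mem_centralizer_iff]
          rintro _ ⟨v, hv, rfl⟩
          show (MulAut.conj l) v * _ = _ * (MulAut.conj l) v
          rw [← map_mul, ← map_mul, Subgroup.mem_centralizer_iff.mp hi v hv]
      · rw [show ((List.ofFn b).map (MulAut.conj l)).prod = MulAut.conj l (List.ofFn b).prod from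
          (map_list_prod (MulAut.conj l) _).symm, MulAut.conj_apply]
        calc a = l * (l⁻¹ * a * l) * l⁻¹ := by group
          _ = _ := by rw [hab]; group
      · intro k
        rw [← List.map_take, show (((List.ofFn b).take k).map (MulAut.conj l)).prod =
          MulAut.conj l ((List.ofFn b).take k).prod from (map_list_prod (MulAut.conj l) _).symm, MulAut.conj_apply]
        set d := ((List.ofFn b).take k).prod with hd
        by_cases hkn : k ≤ n
        · rintro _ ⟨y, hy, rfl⟩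
          have h4 := hk k hkn ⟨c⁻¹ * (l⁻¹ * y * l) * c, ⟨_, ⟨y, hy, rfl⟩, rfl⟩, rfl⟩
          have h5 : c⁻¹ * (l⁻¹ * y * l) * c = l⁻¹ * y * l := by
            rw [mul_assoc, Subgroup.mem_centralizer_iff.mp hcX _ ⟨y, hy, rfl⟩, inv_mul_cancel_left]
          rw [h5] at h4
          rw [e']
          refine ⟨_, h4, ?_⟩
          show l * (((List.ofFn b).take k).prod⁻¹ * (l⁻¹ * y * l) * ((List.ofFn b).take k).prod) * l⁻¹ =
            (l * d * l⁻¹)⁻¹ * y * (l * d * l⁻¹)⁻¹⁻¹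
          rw [← hd]
          group
        · rintro _ ⟨y, hy, rfl⟩
          have hdd : d = ((List.ofFn b).take n).prod := by
            rw [hd, List.take_of_length_le (by simp; omega), List.take_of_length_le (by simp)]
          have h4 := hk n le_rfl ⟨c⁻¹ * (l⁻¹ * y * l) * c, ⟨_, ⟨y, hy, rfl⟩, rfl⟩, rfl⟩
          have h5 : c⁻¹ * (l⁻¹ * y * l) * c = l⁻¹ * y * l := by
            rw [mul_assoc, Subgroup.mem_centralizer_iff.mp hcX _ ⟨y, hy, rfl⟩, inv_mul_cancel_left]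
          rw [h5, ← hdd] at h4
          rw [e']
          refine ⟨_, h4, ?_⟩
          show l * (d⁻¹ * (l⁻¹ * y * l) * d) * l⁻¹ = (l * d * l⁻¹)⁻¹ * y * (l * d * l⁻¹)⁻¹⁻¹
          group
    refine ⟨(P : Subgroup G), P.2, P.not_dvd_index, fun X a hX haX => ?_⟩
    have hA : Subgroup.closure X ≤ (P : Subgroup G) := (Subgroup.closure_le _).mpr hX
    have haA : cj a⁻¹ (Subgroup.closure X) ≤ (P : Subgroup G) := by
      rw [show cj a⁻¹ (Subgroup.closure X) = Subgroup.closure _ from MonoidHom.map_closure _ X, Subgroup.closure_le]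
      rintro _ ⟨x, hx, rfl⟩
      show a⁻¹ * x * a⁻¹⁻¹ ∈ _
      rw [inv_inv]
      exact haX ⟨x, hx, rfl⟩
    obtain ⟨c, hc, hch⟩ := good P hS hW hWZ hVmono hlocal _ hA a haA
    obtain ⟨l, hl, hprod, htake⟩ := hch.exists_list hA
    rw [Subgroup.centralizer_closure] at hc
    refine ⟨c, hc, l.length, fun i => l.get i, fun i => ?_, ?_, fun k _ => ?_⟩
    · exact (hl _ (List.get_mem l i)).imp (fun h => ⟨Subgroup.mem_top _, h⟩) (fun h => ⟨Subgroup.mem_top _, h⟩)
    · rw [List.ofFn_get, hprod, mul_inv_cancel_left]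
    · rw [List.ofFn_get]
      rintro _ ⟨_, ⟨x, hx, rfl⟩, rfl⟩
      have h5 : c⁻¹ * x * c = x := by
        rw [mul_assoc, Subgroup.mem_centralizer_iff.mp hc x hx, inv_mul_cancel_left]
      show ((l.take k).prod)⁻¹ * (c⁻¹ * x * c) * (l.take k).prod ∈ (P : Subgroup G)
      rw [h5]
      have := htake k ⟨x, Subgroup.subset_closure hx, rfl⟩
      change ((l.take k).prod)⁻¹ * x * ((l.take k).prod)⁻¹⁻¹ ∈ _ at this
      rwa [inv_inv] at this

end Cfsg.Agent.S2002
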