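import Cfsg.Statements.S2010
import Cfsg.Agent.Lib.KGroups.OffenderSolvable
import Cfsg.Agent.Lib.Fusion.Quotient
-- import your own Cfsg.Agent.* helpers here

set_option autoImplicit false
open Cfsg
open scoped commutatorElement

namespace Cfsg.Agent.S2010

/-- Let G be a finite solvable group with no section isomorphic to the symmetric group of degree 4, whose Sylow 2-subgroup S has nilpotency class at most 2. Then G = N_G(J_e(S)) · O_{2'}(G), where J_e(S) is the subgroup generated by the elementary abelian subgroups of S of largest order. -/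
theorem result {G : Type*} [Group G] [Finite G]
    [Group.IsSolvable G] (hS4 : ¬ Cfsg.Involves (Equiv.Perm (Fin 4)) G) (S : Sylow 2 G)
    (hcl : Subgroup.lowerCentralSeries (S : Subgroup G) 2 = ⊥) :
    Subgroup.normalizer ((Cfsg.thompsonSubgroupOf 2 (S : Subgroup G)) : Set G) ⊔ Cfsg.pPrimeCore 2 G = ⊤ := by
  classical
  haveI : Fact (Nat.Prime 2) := ⟨Nat.prime_two⟩
  set O := Cfsg.pPrimeCore 2 G with hO
  haveI : O.Normal := Subgroup.sSup_normal _ fun _ h => h.1
  have hOc : (Nat.card O).Coprime 2 := CfsgLib.Solvable.Cores.coprime_card_pPrimeCore 2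
  set π := QuotientGroup.mk' O with hπ
  have hπs : Function.Surjective π := QuotientGroup.mk'_surjective O
  let S' : Sylow 2 (G ⧸ O) := S.mapSurjective hπs
  have hS' : (S' : Subgroup (G ⧸ O)) = (S : Subgroup G).map π := rfl
  have hS4' : ¬ Cfsg.Involves (Equiv.Perm (Fin 4)) (G ⧸ O) := fun h => by
    obtain ⟨K, f, hf⟩ := CfsgLib.LocalEven.InvolvesDihedral.exists_surjective h
    refine hS4 (CfsgLib.LocalEven.InvolvesDihedral.of_surjective (f.comp (π.subgroupComap K)) (hf.comp ?_))
    rintro ⟨y, hy⟩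
    obtain ⟨x, rfl⟩ := hπs y
    exact ⟨⟨x, hy⟩, rfl⟩
  have hn := CfsgLib.KGroups.OffenderSolvable.thompson_normal hS4' CfsgLib.Components.pPrimeCore_quotient_eq_bot S' (by
    rintro _ ⟨x, hx, rfl⟩ _ ⟨y, hy, rfl⟩ _ ⟨z, hz, rfl⟩
    rw [← map_commutatorElement, ← map_mul, ← map_mul]
    congr 1
    have h1 : ⁅x, y⁆ ∈ ⁅(S : Subgroup G), (S : Subgroup G)⁆ := Subgroup.commutator_mem_commutator hx hy
    have h2 : ⁅⁅x, y⁆, z⁆ ∈ (⊥ : Subgroup G) := by
      rw [← hcl]
      exact Subgroup.commutator_mem_commutator h1 hz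
    exact commutatorElement_eq_one_iff_mul_comm.mp (Subgroup.mem_bot.mp h2))
  rw [hS', CfsgLib.Fusion.Quotient.thompsonSubgroupOf_map hOc S.2, ← Subgroup.normalizer_eq_top_iff,
    CfsgLib.Fusion.Quotient.normalizer_map hOc (S.2.to_le (CfsgLib.Fusion.Thompson.thompsonSubgroupOf_le _))] at hn
  have h := congrArg (Subgroup.comap π) hn
  rwa [Subgroup.comap_map_eq, QuotientGroup.ker_mk', Subgroup.comap_top] at h

end Cfsg.Agent.S2010
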