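import Cfsg.Statements.S2011
import Mathlib
import Cfsg.Agent.S0087
import Cfsg.Agent.Lib.Solvable.Cores

set_option autoImplicit false
open Cfsg

namespace Cfsg.Agent.S2011

/-- Let G be a finite group with Sylow p-subgroup P and Q ≤ P. Then Q is centric in the fusion system of G on P (C_P(R) ≤ R for every G-conjugate R of Q lying in P) if and only if C_G(Q) is the internal direct product of Z(Q) = Q ∩ C_G(Q) and the largest normal subgroup of C_G(Q) of order prime to p. -/
theorem result {G : Type*} [Group G] [Finite G] (p : ℕ) [Fact p.Prime] (P : Sylow p G) (Q : Subgroup G) (hQ : Q ≤ P) : (Cfsg.groupFusionSystem (P : Subgroup G)).IsCentric Q ↔ Cfsg.IsInternalDirectProduct (Q ⊓ Subgroup.centralizer (Q : Set G)) ((Cfsg.pPrimeCore p ↥(Subgroup.centralizer (Q : Set G))).map (Subgroup.centralizer (Q : Set G)).subtype) (Subgroup.centralizer (Q : Set G)) := by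
  have hp : p.Prime := Fact.out
  set H := Subgroup.centralizer (Q : Set G) with hH
  set Z := Q ⊓ H with hZ
  set K := (Cfsg.pPrimeCore p ↥H).map H.subtype with hK
  have hcomm : ∀ a ∈ Z, ∀ b ∈ H, a * b = b * a := fun a ha b hb => Subgroup.mem_centralizer_iff.mp hb a ha.1
  have hKcop : (Nat.card K).Coprime p := by
    rw [hK, Subgroup.card_map_of_injective H.subtype_injective]
    exact CfsgLib.Solvable.Cores.coprime_card_pPrimeCore p
  have hone : ∀ x ∈ K, (∃ k, x ^ p ^ k = 1) → x = 1 := by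
    rintro x hx ⟨k, hk⟩
    refine orderOf_eq_one_iff.mp (Nat.eq_one_of_dvd_coprimes (Nat.Coprime.pow_right k hKcop) ?_ (orderOf_dvd_of_pow_eq_one hk))
    rw [← Subgroup.orderOf_mk x hx]; exact orderOf_dvd_natCard _
  have hpow : ∀ x ∈ (P : Subgroup G), ∃ k, x ^ p ^ k = 1 := fun x hx => by
    obtain ⟨k, hk⟩ := P.2 ⟨x, hx⟩
    exact ⟨k, congrArg Subtype.val hk⟩
  constructor
  · rintro ⟨-, hc⟩
    obtain ⟨S₁⟩ := (inferInstance : Nonempty (Sylow p H))
    set S' := (S₁ : Subgroup H).map H.subtype with hS'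
    have hS'H : S' ≤ H := Subgroup.map_subtype_le _
    have hX : IsPGroup p (Q ⊔ S' : Subgroup G) := by
      rw [sup_comm]
      exact IsPGroup.to_sup_of_normal_right' (S₁.2.map _) (P.2.to_le hQ) (hS'H.trans (Subgroup.centralizer_le_normalizer _))
    obtain ⟨T, hT⟩ := hX.exists_le_sylow
    obtain ⟨g, hg⟩ := MulAction.exists_smul_eq G T P
    have hmap : ∀ x ∈ (Q ⊔ S' : Subgroup G), g * x * g⁻¹ ∈ (P : Subgroup G) := by
      intro x hx
      rw [← hg]
      exact ⟨x, hT hx, rfl⟩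
    let φ : ↥Q →* G := (MulAut.conj g).toMonoidHom.comp Q.subtype
    have hconj : (Cfsg.groupFusionSystem (P : Subgroup G)).IsConj Q (Q.map (MulAut.conj g).toMonoidHom) := by
      refine ⟨φ, ⟨hQ, fun x => hmap _ (Subgroup.mem_sup_left x.2), g, fun x => rfl⟩, ?_⟩
      rw [MonoidHom.range_comp, Subgroup.range_subtype]
    have hS'Z : S' ≤ Z := by
      intro s hs
      refine ⟨?_, hS'H hs⟩
      have h1 : g * s * g⁻¹ ∈ Cfsg.FusionSystem.centralizerIn (P : Subgroup G) (Q.map (MulAut.conj g).toMonoidHom) := by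
        refine ⟨hmap s (Subgroup.mem_sup_right hs), Subgroup.mem_centralizer_iff.mpr ?_⟩
        rintro _ ⟨q, hq, rfl⟩
        show g * q * g⁻¹ * (g * s * g⁻¹) = g * s * g⁻¹ * (g * q * g⁻¹)
        calc g * q * g⁻¹ * (g * s * g⁻¹) = g * (q * s) * g⁻¹ := by group
          _ = g * (s * q) * g⁻¹ := by rw [Subgroup.mem_centralizer_iff.mp (hS'H hs) q hq]
          _ = _ := by group
      obtain ⟨q, hq, e⟩ := hc _ hconj h1
      rwa [← (MulAut.conj g).injective e]
    set Z' := Z.subgroupOf H with hZ'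
    have hZ'eq : Z' = (S₁ : Subgroup H) := by
      exact S₁.is_maximal' ((P.2.to_le (inf_le_left.trans hQ) : IsPGroup p Z).comap_subtype : IsPGroup p Z')
        fun s hs => hS'Z ⟨s, hs, rfl⟩
    obtain ⟨N, hN, hNc⟩ := Cfsg.Agent.S0087.result Z' (hZ'eq ▸ S₁.card_coprime_index) (fun n _ =>
      Subgroup.mem_centralizer_iff.mpr fun z hz => Subtype.ext (hcomm _ hz _ n.2))
    have hNle : N ≤ Cfsg.pPrimeCore p ↥H := CfsgLib.Solvable.Cores.le_pPrimeCore (by
      rw [← hNc.index_eq_card, hZ'eq, Nat.coprime_comm, hp.coprime_iff_not_dvd]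
      exact S₁.not_dvd_index)
    refine ⟨inf_le_right, Subgroup.map_subtype_le _, fun a ha b hb => hcomm a ha b (Subgroup.map_subtype_le _ hb), ?_, ?_⟩
    · rw [eq_bot_iff]
      exact fun x hx => Subgroup.mem_bot.mpr (hone x hx.2 (hpow x (hQ hx.1.1)))
    · refine le_antisymm (sup_le inf_le_right (Subgroup.map_subtype_le _)) ?_
      calc H = (⊤ : Subgroup H).map H.subtype := by rw [← MonoidHom.range_eq_map, Subgroup.range_subtype]
        _ = (Z' ⊔ N).map H.subtype := by rw [hNc.symm.sup_eq_top]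
        _ ≤ _ := by
          rw [Subgroup.map_sup, hZ', Subgroup.map_subgroupOf_eq_of_le inf_le_right]
          exact sup_le_sup le_rfl (Subgroup.map_mono hNle)
  · rintro ⟨-, -, -, -, hsup⟩
    refine ⟨hQ, ?_⟩
    rintro R ⟨φ, ⟨-, hφP, g, hg⟩, rfl⟩ x ⟨hxP, hxC⟩
    have hxH : g⁻¹ * x * g ∈ H := by
      refine Subgroup.mem_centralizer_iff.mpr fun q hq => ?_
      have h1 := Subgroup.mem_centralizer_iff.mp hxC (φ ⟨q, hq⟩) ⟨⟨q, hq⟩, rfl⟩
      rw [hg] at h1
      calc q * (g⁻¹ * x * g) = g⁻¹ * (g * q * g⁻¹ * x) * g := by group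
        _ = g⁻¹ * (x * (g * q * g⁻¹)) * g := by rw [h1]
        _ = _ := by group
    obtain ⟨k, hk⟩ := hpow x hxP
    have hxk : (g⁻¹ * x * g) ^ p ^ k = 1 := by
      have h2 := conj_pow (i := p ^ k) (a := g⁻¹) (b := x)
      rw [inv_inv] at h2
      rw [h2, hk]; group
    rw [← hsup] at hxH
    let M : Subgroup G :=
      { carrier := {w | ∃ z ∈ Z, ∃ n ∈ K, w = z * n}
        one_mem' := ⟨1, one_mem _, 1, one_mem _, (mul_one 1).symm⟩
        mul_mem' := by
          rintro _ _ ⟨z, hz, n, hn, rfl⟩ ⟨z', hz', n', hn', rfl⟩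
          refine ⟨z * z', mul_mem hz hz', n * n', mul_mem hn hn', ?_⟩
          calc z * n * (z' * n') = z * (n * z') * n' := by group
            _ = z * (z' * n) * n' := by rw [hcomm z' hz' n (Subgroup.map_subtype_le _ hn)]
            _ = _ := by group
        inv_mem' := by
          rintro _ ⟨z, hz, n, hn, rfl⟩
          refine ⟨z⁻¹, inv_mem hz, n⁻¹, inv_mem hn, ?_⟩
          rw [mul_inv_rev, hcomm _ (inv_mem hz) _ (Subgroup.map_subtype_le _ (inv_mem hn))] }
    have hle : Z ⊔ K ≤ M :=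
      sup_le (fun z hz => ⟨z, hz, 1, one_mem _, (mul_one z).symm⟩) (fun n hn => ⟨1, one_mem _, n, hn, (one_mul n).symm⟩)
    obtain ⟨z, hz, n, hn, hzn⟩ := hle hxH
    obtain ⟨j, hj⟩ := hpow z (hQ hz.1)
    have hn1 : n = 1 := by
      refine hone n hn ⟨k + j, ?_⟩
      have e1 : (z * n) ^ p ^ (k + j) = 1 := by rw [← hzn, pow_add, pow_mul, hxk, one_pow]
      rw [(show Commute z n from hcomm z hz n (Subgroup.map_subtype_le _ hn)).mul_pow] at e1
      have e2 : z ^ p ^ (k + j) = 1 := by rw [add_comm, pow_add, pow_mul, hj, one_pow]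
      rwa [e2, one_mul] at e1
    refine ⟨⟨z, hz.1⟩, ?_⟩
    rw [hg]
    show g * z * g⁻¹ = x
    rw [hn1, mul_one] at hzn
    rw [← hzn]; group

end Cfsg.Agent.S2011
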