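import Cfsg.Statements.S2012
import Cfsg.Agent.Lib.Fusion.Alperin
import Cfsg.Agent.Lib.KGroups.Functor.Basic

set_option autoImplicit false
open Cfsg

namespace Cfsg.Agent.S2012

open CfsgLib.Fusion.Alperin CfsgLib.LocalEven.SylowIn

variable {G : Type*} [Group G] {p : ℕ}

/-- A chain whose steps outside `N(P)` are `p`-elements. -/
inductive PChain (P : Sylow p G) : Set G → G → Prop
  | nil (A : Set G) : A ⊆ (P : Set G) → PChain P A 1
  | cons (A : Set G) (Q : Sylow p G) (x g : G) : Tame P Q →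
      x ∈ Subgroup.normalizer ((((P : Subgroup G) ⊓ (Q : Subgroup G)) : Subgroup G) : Set G) →
      ((Q : Subgroup G) = (P : Subgroup G) ∨ ∃ k : ℕ, orderOf x = p ^ k) →
      A ⊆ (((P : Subgroup G) ⊓ (Q : Subgroup G) : Subgroup G) : Set G) →
      PChain P ((fun a => x⁻¹ * a * x) '' A) g → PChain P A (x * g)

theorem PChain.mono {P : Sylow p G} {A : Set G} {g : G} (h : PChain P A g) :
    ∀ {B : Set G}, B ⊆ A → PChain P B g := by
  induction h with
  | nil A hA => exact fun hB => PChain.nil _ (hB.trans hA)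
  | cons A Q x g ht hx hp hA _ ih =>
    exact fun hB => PChain.cons _ Q x g ht hx hp (hB.trans hA) (ih (Set.image_mono hB))

theorem PChain.append {P : Sylow p G} {A : Set G} {g : G} (h : PChain P A g) {g' : G}
    (h' : PChain P ((fun a => g⁻¹ * a * g) '' A) g') : PChain P A (g * g') := by
  induction h with
  | nil A hA => simpa using h'
  | cons A Q x g ht hx hp hA _ ih =>
    rw [mul_assoc]
    exact PChain.cons A Q x _ ht hx hp hA (ih (by rwa [← image_mul]))

theorem image_eq_of_mem {R : Subgroup G} {x : G} (hx : x ∈ Subgroup.normalizer (R : Set G)) :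
    (fun a => x⁻¹ * a * x) '' (R : Set G) = R := by
  rw [← coe_rconj, rconj_eq_self_of_mem hx]

variable [Finite G] [Fact p.Prime]

theorem pchain_of_mem (P : Sylow p G) : ∀ Q : Sylow p G, Tame P Q →
    ∀ x ∈ Subgroup.normalizer ((((P : Subgroup G) ⊓ (Q : Subgroup G)) : Subgroup G) : Set G),
      PChain P (((P : Subgroup G) ⊓ (Q : Subgroup G) : Subgroup G) : Set G) x := by
  intro Q
  induction' hk : Nat.card G - Nat.card ↥((P : Subgroup G) ⊓ (Q : Subgroup G)) using Nat.strong_induction_on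
    with k ih generalizing Q
  intro htame x hx
  set R := (P : Subgroup G) ⊓ (Q : Subgroup G) with hR
  have hnil : ∀ y ∈ Subgroup.normalizer (R : Set G), PChain P ((fun a => y⁻¹ * a * y) '' (R : Set G)) 1 :=
    fun y hy => PChain.nil _ (by rw [image_eq_of_mem hy]; exact fun a ha => ha.1)
  by_cases hQP : (Q : Subgroup G) = (P : Subgroup G)
  · have := PChain.cons (R : Set G) Q x 1 htame hx (Or.inl hQP) (Set.Subset.refl _) (hnil x hx)
    rwa [mul_one] at this
  set NR := Subgroup.normalizer (R : Set G) with hNR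
  set PR := (P : Subgroup G) ⊓ NR with hPR
  have hlt : R < PR := exists_gt_of_lt_sylow P (lt_of_le_of_ne inf_le_left fun e => hQP
    (Subgroup.eq_of_le_of_card_ge (e ▸ inf_le_right) (Nat.card_congr (Sylow.equiv P Q).toEquiv).ge).symm)
  set E := {c | c ∈ NR ∧ ∃ k : ℕ, orderOf c = p ^ k} with hE
  set L := Subgroup.closure E with hL
  have hLN : L ≤ NR := (Subgroup.closure_le _).mpr fun c hc => hc.1
  have hPRL : PR ≤ L := fun c hc => Subgroup.subset_closure ⟨hc.2, by
    obtain ⟨k, hk⟩ := IsPGroup.iff_orderOf.mp P.2 ⟨c, hc.1⟩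
    exact ⟨k, by rwa [Subgroup.orderOf_mk] at hk⟩⟩
  have hLn : NR ≤ Subgroup.normalizer (L : Set G) := le_normalizer_of_map_conj fun g hg => by
    refine Subgroup.eq_of_le_of_card_ge ?_ (Subgroup.card_map_of_injective (MulAut.conj g).injective).ge
    rw [hL, MonoidHom.map_closure, Subgroup.closure_le]
    rintro _ ⟨c, ⟨hc, k, hk⟩, rfl⟩
    exact Subgroup.subset_closure ⟨mul_mem (mul_mem hg hc) (inv_mem hg),
      k, by rw [orderOf_injective _ (MulAut.conj g).injective, hk]⟩
  have hsyl : IsSylowIn p PR L := CfsgLib.KGroups.Functor.isSylowIn_of_not_dvd hPRL (P.2.to_le inf_le_left)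
    fun h => htame.1 (h.trans (Dvd.intro _ (Subgroup.relIndex_mul_relIndex PR L NR hPRL hLN)))
  obtain ⟨l, hl, y, hy, rfl⟩ := frattini_argument hsyl hLn hLN hx
  have hl' : PChain P (R : Set G) l := by
    refine Subgroup.closure_induction_left (p := fun l _ => PChain P (R : Set G) l)
      (PChain.nil _ fun a ha => ha.1) (fun c hc z hz hz' => ?_) (fun c hc z hz hz' => ?_) hl
    · exact PChain.cons _ Q c z htame hc.1 (Or.inr hc.2) (Set.Subset.refl _) (by rwa [image_eq_of_mem hc.1])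
    · exact PChain.cons _ Q c⁻¹ z htame (inv_mem hc.1) (Or.inr (by rw [orderOf_inv]; exact hc.2))
        (Set.Subset.refl _) (by rwa [image_eq_of_mem (inv_mem hc.1)])
  refine hl'.append ?_
  rw [image_eq_of_mem (hLN hl)]
  refine PChain.mono ?_ (show (R : Set G) ⊆ (PR : Set G) from hlt.le)
  -- `y` normalizes the larger subgroup `PR`
  have key : ∀ (B : Set G) (g : G), Chain P B g → (∀ S : Subgroup G, B ⊆ (S : Set G) → Nat.card R < Nat.card S) →
      PChain P B g := by
    intro B g hc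
    induction hc with
    | nil A hA => exact fun _ => PChain.nil _ hA
    | cons A Q' z g' ht hz hA _ ih' =>
      intro hbig
      have hk' := hbig _ hA
      have hcard := Subgroup.card_le_card_group ((P : Subgroup G) ⊓ (Q' : Subgroup G))
      refine ((ih _ (by omega) Q' rfl ht z hz).mono hA).append (ih' fun S hS => ?_)
      have h3 := hbig (rconj z⁻¹ S) fun a ha => by
        show a ∈ rconj z⁻¹ S
        rw [mem_rconj, inv_inv]; exact hS ⟨a, ha, rfl⟩
      rwa [card_rconj] at h3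
  refine key _ y (chain_of_conj P _ y (fun a ha => ha.1) ?_) fun S hS =>
    lt_of_lt_of_le (lt_of_le_of_ne (Subgroup.card_le_of_le hlt.le)
      fun e => hlt.ne (Subgroup.eq_of_le_of_card_ge hlt.le e.ge)) (Subgroup.card_le_of_le hS)
  rw [image_eq_of_mem hy.2]
  exact fun a ha => ha.1

theorem unfold_pchain {P : Sylow p G} {A : Set G} {g : G} (h : PChain P A g) :
    ∃ (n : ℕ) (Q : Fin n → Sylow p G) (x : Fin n → G), (List.ofFn x).prod = g ∧ (∀ i : Fin n, x i ∈ Subgroup.normalizer ((((P : Subgroup G) ⊓ (Q i : Subgroup G)) : Subgroup G) : Set G) ∧ ¬ p ∣ ((P : Subgroup G) ⊓ Subgroup.normalizer ((((P : Subgroup G) ⊓ (Q i : Subgroup G)) : Subgroup G) : Set G)).relIndex (Subgroup.normalizer ((((P : Subgroup G) ⊓ (Q i : Subgroup G)) : Subgroup G) : Set G)) ∧ ¬ p ∣ ((Q i : Subgroup G) ⊓ Subgroup.normalizer ((((P : Subgroup G) ⊓ (Q i : Subgroup G)) : Subgroup G) : Set G)).relIndex (Subgroup.normalizer ((((P : Subgroup G) ⊓ (Q i : Subgroup G)) : Subgroup G) : Set G)) ∧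 ((Q i : Subgroup G) = (P : Subgroup G) ∨ ∃ k : ℕ, orderOf (x i) = p ^ k)) ∧ (∀ h : 0 < n, A ⊆ (((P : Subgroup G) ⊓ (Q ⟨0, h⟩ : Subgroup G) : Subgroup G) : Set G)) ∧ ∀ i : Fin n, ∀ h : i.val + 1 < n, (fun a => (((List.ofFn x).take (i.val + 1)).prod)⁻¹ * a * ((List.ofFn x).take (i.val + 1)).prod) '' A ⊆ (((P : Subgroup G) ⊓ (Q ⟨i.val + 1, h⟩ : Subgroup G) : Subgroup G) : Set G) := by
  induction h with
  | nil A _ =>
    exact ⟨0, Fin.elim0, Fin.elim0, by simp, fun i => i.elim0,
      fun h => absurd h (lt_irrefl 0), fun i => i.elim0⟩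
  | cons A Q x g ht hx hp hA _ ih =>
    obtain ⟨n, Qs, xs, hprod, hall, hfirst, hnext⟩ := ih
    refine ⟨n + 1, Fin.cons Q Qs, Fin.cons x xs, ?_, ?_, ?_, ?_⟩
    · rw [List.ofFn_succ, List.prod_cons]
      simp [hprod]
    · intro i
      induction i using Fin.cases with
      | zero => simpa using ⟨hx, ht.1, ht.2, hp⟩
      | succ j => simpa using hall j
    · intro _
      simpa using hA
    · intro i hi
      have htake : ((List.ofFn (Fin.cons x xs : Fin (n + 1) → G)).take (i.val + 1)).prod =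
          x * ((List.ofFn xs).take i.val).prod := by
        rw [List.ofFn_succ, List.take_succ_cons, List.prod_cons]
        simp
      rw [htake, image_mul]
      have hi' : i.val < n := by omega
      rw [show (⟨i.val + 1, hi⟩ : Fin (n + 1)) = Fin.succ ⟨i.val, hi'⟩ from rfl, Fin.cons_succ]
      obtain ⟨iv, hiv⟩ := i
      cases iv with
      | zero => simpa using hfirst hi'
      | succ k => exact hnext ⟨k, by simp at hi'; omega⟩ hi'

/-- Alperin's fusion Theorem with the factors taken to be p-elements: let P be a Sylow p-subgroup of a finite group G, A a subset of P and g an element with g⁻¹Ag ⊆ P. Then g = x_1 ⋯ x_n where, for each i, Q_i is a Sylow p-subgroup with P ∩ Q_i a tame intersection (the normalizers in P and in Q_i of P ∩ Q_i are Sylow in N_G(P ∩ Q_i)), x_i normalizes P ∩ Q_i, x_i has p-power order unless Q_i = P, A ⊆ P ∩ Q_1, and (x_1 ⋯ x_i)⁻¹ A (x_1 ⋯ x_i) lies in P ∩ Q_{i+1} for i < n. -/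
theorem result {G : Type*} [Group G] [Finite G] {p : ℕ} [Fact p.Prime] (P : Sylow p G) (A : Set G) (g : G) (hA : A ⊆ (P : Set G)) (hAg : (fun a => g⁻¹ * a * g) '' A ⊆ (P : Set G)) : ∃ (n : ℕ) (Q : Fin n → Sylow p G) (x : Fin n → G), (List.ofFn x).prod = g ∧ (∀ i : Fin n, x i ∈ Subgroup.normalizer ((((P : Subgroup G) ⊓ (Q i : Subgroup G)) : Subgroup G) : Set G) ∧ ¬ p ∣ ((P : Subgroup G) ⊓ Subgroup.normalizer ((((P : Subgroup G) ⊓ (Q i : Subgroup G)) : Subgroup G) : Set G)).relIndex (Subgroup.normalizer ((((P : Subgroup G) ⊓ (Q i : Subgroup G)) : Subgroup G) : Set G)) ∧ ¬ p ∣ ((Q i : Subgroup G) ⊓ Subgroup.normalizer ((((P : Subgroup G) ⊓ (Q i : Subgroup G)) : Subgroup G) : Set G)).relIndex (Subgroup.normalizer ((((P : Subgroup G) ⊓ (Q i : Subgroup G)) : Subgroup G) : Set G)) ∧ ((Q i : Subgroup G) = (P : Subgroup G) ∨ ∃ k : ℕ, orderOf (x i) = p ^ k)) ∧ (∀ h : 0 < n, A ⊆ (((P : Subgroup G) ⊓ (Q ⟨0, h⟩ : Subgroup G) : Subgroup G) : Set G)) ∧ ∀ i : Fin n, ∀ h : i.val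 + 1 < n, (fun a => (((List.ofFn x).take (i.val + 1)).prod)⁻¹ * a * ((List.ofFn x).take (i.val + 1)).prod) '' A ⊆ (((P : Subgroup G) ⊓ (Q ⟨i.val + 1, h⟩ : Subgroup G) : Subgroup G) : Set G) := by
  refine unfold_pchain ?_
  have h := chain_of_conj P A g hA hAg
  clear hA hAg
  induction h with
  | nil A hA => exact PChain.nil _ hA
  | cons A Q x g ht hx hA _ ih => exact ((pchain_of_mem P Q ht x hx).mono hA).append ih

end Cfsg.Agent.S2012
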