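import Cfsg.Statements.S2014
import Cfsg.Agent.Lib.KGroups.Functor.Basic
import Cfsg.Agent.Lib.Fusion.Basic

set_option autoImplicit false
open Cfsg

namespace Cfsg.Agent.S2014

/-- Let P be a Sylow p-subgroup of a finite group G and A, C ≤ P subgroups conjugate in G, with C extremal: N_P(C) is a Sylow p-subgroup of N_G(C). Then there is g with gAg⁻¹ = C and g N_P(A) g⁻¹ ≤ N_P(C); moreover, given any h with hAh⁻¹ = C, g can be chosen so that h g⁻¹ lies in O^p(N_G(C)), the subgroup of N_G(C) generated by its elements of order prime to p. -/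
theorem result {G : Type*} [Group G] [Finite G] (p : ℕ) [Fact p.Prime] (P : Sylow p G) (A C : Subgroup G) (hA : A ≤ P) (hC : C ≤ P) (hext : ¬ p ∣ ((P : Subgroup G) ⊓ Subgroup.normalizer ((C : Subgroup G) : Set G)).relIndex (Subgroup.normalizer ((C : Subgroup G) : Set G))) (h : G) (hh : A.map (MulAut.conj h).toMonoidHom = C) : ∃ g : G, A.map (MulAut.conj g).toMonoidHom = C ∧ ((P : Subgroup G) ⊓ Subgroup.normalizer ((A : Subgroup G) : Set G)).map (MulAut.conj g).toMonoidHom ≤ (P : Subgroup G) ⊓ Subgroup.normalizer ((C : Subgroup G) : Set G) ∧ h * g⁻¹ ∈ (Cfsg.pResidual p ↥(Subgroup.normalizer ((C : Subgroup G) : Set G))).map (Subgroup.normalizer ((C : Subgroup G) : Set G)).subtype := by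
  set M := Subgroup.normalizer ((C : Subgroup G) : Set G) with hM
  set PC := (P : Subgroup G) ⊓ M
  have hPC : CfsgLib.LocalEven.SylowIn.IsSylowIn p PC M :=
    CfsgLib.KGroups.Functor.isSylowIn_of_not_dvd inf_le_right (P.2.to_le inf_le_left) hext
  set B := ((P : Subgroup G) ⊓ Subgroup.normalizer ((A : Subgroup G) : Set G)).map (MulAut.conj h).toMonoidHom
  have hBM : B ≤ M := by
    rw [hM, ← hh, CfsgLib.LocalEven.SylowIn.normalizer_map_conj]
    exact Subgroup.map_mono inf_le_right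
  obtain ⟨R, hR, hBR⟩ := CfsgLib.LocalEven.SylowIn.exists_isSylowIn (p := p) M hBM ((P.2.to_le inf_le_left).map _)
  obtain ⟨n, hn, he⟩ := hR.conjugate hPC
  obtain ⟨w, hw, u, hu, hwu⟩ := CfsgLib.Fusion.Basic.exists_eq_pResidual_mul hPC.toSylow (⟨n⁻¹, inv_mem hn⟩ : M)
  have hu' : (u : G) ∈ PC := hu
  have hwn : ((w : M) : G)⁻¹ = (u : G) * n := by
    have h1 : n⁻¹ = ((w : M) : G) * (u : G) := congrArg Subtype.val hwu
    calc ((w : M) : G)⁻¹ = (u : G) * (((w : M) : G) * (u : G))⁻¹ := by simp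
      _ = (u : G) * n := by rw [← h1, inv_inv]
  refine ⟨(w : G)⁻¹ * h, ?_, ?_, ⟨w, hw, by simp⟩⟩
  · rw [← CfsgLib.KGroups.Functor.conjG_conjG, hh, CfsgLib.KGroups.Functor.conjG_eq_iff]
    exact inv_mem w.2
  · rw [← CfsgLib.KGroups.Functor.conjG_conjG, hwn, ← CfsgLib.KGroups.Functor.conjG_conjG]
    refine (Subgroup.map_mono ((Subgroup.map_mono hBR).trans he.ge)).trans ?_
    exact (CfsgLib.KGroups.Functor.conjG_eq_iff.mpr (Subgroup.le_normalizer hu')).le

end Cfsg.Agent.S2014
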