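import Cfsg.Statements.S2015
import Cfsg.Agent.Lib.KGroups.Functor.KInfControl

set_option autoImplicit false
universe u
open Cfsg

namespace Cfsg.Agent.S2015

/-- For p ≥ 5, every finite p-group P has a characteristic subgroup K containing Z(P), depending only on P, whose normalizer controls transfer wherever P is a Sylow subgroup: for every finite group G and every embedding ι of P onto a Sylow p-subgroup of G, the intersection of ι(P) with the derived subgroup of G equals its intersection with the derived subgroup of N_G(ι(K)). -/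
theorem result (p : ℕ) [Fact p.Prime] (hp : 5 ≤ p) (P : Type u) [Group P] [Finite P] (hP : IsPGroup p P) : ∃ K : Subgroup P, K.Characteristic ∧ Subgroup.center P ≤ K ∧ ∀ (G : Type u) [Group G] [Finite G] (ι : P →* G), Function.Injective ι → (∃ T : Sylow p G, (T : Subgroup G) = ι.range) → ι.range ⊓ commutator G = ι.range ⊓ (commutator ↥(Subgroup.normalizer ((K.map ι : Subgroup G) : Set G))).map (Subgroup.normalizer ((K.map ι : Subgroup G) : Set G)).subtype := by
  refine ⟨Cfsg.kInfLower P, (CfsgLib.KGroups.Functor.characteristic_kInf (P := P)).1, ?_, fun G _ _ ι hι ⟨T, hT⟩ => ?_⟩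
  · refine le_trans ?_ (CfsgLib.KGroups.KInfinity.centralizer_kInfLower_le hP)
    exact (Subgroup.centralizer_univ (G := P)).ge.trans (Subgroup.centralizer_le (Set.subset_univ _))
  · have hK : (Cfsg.kInfLower P).map ι = Cfsg.inducedFunctor Cfsg.kInfLower (T : Subgroup G) := by
      have hrP : IsPGroup p (⊤ : Subgroup P) := hP.to_subgroup ⊤
      rw [hT, MonoidHom.range_eq_map, CfsgLib.KGroups.Functor.inducedFunctor_map (CfsgLib.KGroups.Functor.isCharPFunctor_kInfLower p) ι hrP hι.injOn]
      congr 1
      exact ((CfsgLib.KGroups.Functor.kInf_map_equiv (Subgroup.topEquiv (G := P))).1).symm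
    rw [hK, Subgroup.map_subtype_commutator, ← hT]
    exact CfsgLib.KGroups.Functor.transfer_at T (CfsgLib.KGroups.Functor.isCharPFunctor_kInfLower p)
      (CfsgLib.KGroups.Functor.controlsTransfer_kInf_top hp (CfsgLib.KGroups.Functor.isCharPFunctor_kInfLower p) CfsgLib.KGroups.Functor.isKInf_lower)

end Cfsg.Agent.S2015
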