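import Cfsg.Statements.S2035
import Cfsg.Agent.Lib.Sporadic.M12CoverBound
import Cfsg.Agent.Lib.Sporadic.M12CoverExists

set_option autoImplicit false
open Cfsg

namespace Cfsg.Agent.S2035

/-- The Schur multiplier of the Mathieu group M₁₂ (the stabiliser of a dodecad in the automorphism group of the length-24 binary code) is cyclic of order 2; here the Schur multiplier is described through stem extensions, as in the definitions: surjective homomorphisms onto the group from a finite group, whose kernel is central in that finite group and contained in that finite group's commutator subgroup. -/
theorem result : Cfsg.HasCyclicSchurMultiplier ↥Cfsg.Spor.M12 2 := by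
  open CfsgLib.Sporadic.M12Cover in
  exact CfsgLib.Schur.Basic.hasSchurMultiplier_of_le coverMap cover_stem
    (mulEquivOfPrimeCardEq (p := 2) card_ker (by simp [Nat.card_eq_fintype_card]))
    fun Γ _ _ σ hσ => (card_ker_le σ hσ).trans (le_of_eq (by simp [Nat.card_eq_fintype_card]))

end Cfsg.Agent.S2035
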