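import Cfsg.Statements.S2044
import Cfsg.Agent.Lib.Schur.Co2.Main

set_option autoImplicit false
open Cfsg

namespace Cfsg.Agent.S2044

/-- The Schur multiplier of the Conway group Co₂ (the stabiliser of a minimal vector of the rank-24 lattice) is trivial; here the Schur multiplier is described through stem extensions, as in the definitions: surjective homomorphisms onto the group from a finite group, whose kernel is central in that finite group and contained in that finite group's commutator subgroup. -/
theorem result : Cfsg.HasCyclicSchurMultiplier ↥Cfsg.Spor.Co2 1 := by
  obtain ⟨⟨e⟩, hcard, -⟩ := CfsgLib.Sporadic.OutCert.Co2.H_spec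
  haveI : Finite CfsgLib.Sporadic.OutCert.Co2.H := Nat.finite_of_card_ne_zero (by rw [hcard]; norm_num)
  exact CfsgLib.Schur.Basic.hasSchurMultiplier_of_mulEquiv e.symm CfsgLib.Schur.Sporadic.Co2.hasMultiplier

end Cfsg.Agent.S2044
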