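import Cfsg.Statements.S2061
import Cfsg.Agent.Lib.Sporadic.M12Out

set_option autoImplicit false
open Cfsg

namespace Cfsg.Agent.S2061

open CfsgLib.Sporadic CfsgLib.Sporadic.MathieuAut CfsgLib.Sporadic.M12Out
open scoped Pointwise

/-- The outer automorphism group of the Mathieu group M₁₂ (the stabiliser of a dodecad in the automorphism group of the length-24 binary code) has order 2. -/
theorem result : Nat.card (Cfsg.Out ↥Cfsg.Spor.M12) = 2 := by
  classical
  obtain ⟨-, hnc, g, hgM, hgd, key⟩ := Cfsg.Agent.S5620.result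
  have hgd' : g • dod = dodᶜ := by rw [hgd, Finset.compl_eq_univ_sdiff]
  have hcompl : ∀ (f : Equiv.Perm Cfsg.GolayPt) (A : Finset Cfsg.GolayPt), f • Aᶜ = (f • A)ᶜ := fun f A => by
    ext z
    rw [Finset.mem_compl, ← Finset.inv_smul_mem_iff, ← Finset.inv_smul_mem_iff, Finset.mem_compl]
  have hginv : g⁻¹ • dod = dodᶜ := by
    rw [inv_smul_eq_iff, hcompl, hgd', compl_compl]
  have hnorm : ∀ f : Equiv.Perm Cfsg.GolayPt, f ∈ Cfsg.M24 → f • dod = dodᶜ →
      ∀ x ∈ Cfsg.Spor.M12, f * x * f⁻¹ ∈ Cfsg.Spor.M12 := fun f hfM hfd x hx => by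
    refine ⟨Cfsg.M24.mul_mem (Cfsg.M24.mul_mem hfM hx.1) (Cfsg.M24.inv_mem hfM), ?_⟩
    have hx2 : x • dod = dod := hx.2
    have hf2 : f • dodᶜ = dod := by rw [hcompl, hfd, compl_compl]
    have hfi : f⁻¹ • dod = dodᶜ := by rw [inv_smul_eq_iff, hf2]
    show (f * x * f⁻¹) • dod = dod
    rw [mul_smul, mul_smul, hfi, hcompl, hx2, hf2]
  let β : MulAut Cfsg.Spor.M12 :=
    { toFun := fun x => ⟨g * x * g⁻¹, hnorm g hgM hgd' x x.2⟩
      invFun := fun x => ⟨g⁻¹ * x * g, by simpa using hnorm g⁻¹ (inv_mem hgM) hginv x x.2⟩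
      left_inv := fun x => Subtype.ext (by simp [mul_assoc])
      right_inv := fun x => Subtype.ext (by simp [mul_assoc])
      map_mul' := fun x y => Subtype.ext (by simp [mul_assoc]) }
  have hβ : β ∉ Cfsg.Inn Cfsg.Spor.M12 := by
    rintro ⟨k, hk⟩
    refine hnc ⟨k, k.2, ?_⟩
    rw [← key]
    ext x
    rw [Subgroup.mem_pointwise_smul_iff_inv_smul_mem, Subgroup.mem_pointwise_smul_iff_inv_smul_mem,
      MulAut.smul_def, MulAut.smul_def]
    simp only [MulAut.inv_apply, MulAut.conj_symm_apply]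
    have hk' : ∀ y : Cfsg.Spor.M12, g * (y : Equiv.Perm Cfsg.GolayPt) * g⁻¹ = k * y * (k : Equiv.Perm Cfsg.GolayPt)⁻¹ :=
      fun y => (congrArg Subtype.val (DFunLike.congr_fun hk y)).symm
    constructor
    · intro h
      have := hk' ⟨_, h.1⟩
      simp only [← mul_assoc, mul_inv_cancel, one_mul, mul_inv_cancel_right] at this
      have e : g⁻¹ * x * g = (k : Equiv.Perm Cfsg.GolayPt)⁻¹ * x * k := by
        conv_lhs => rw [← this]
        group
      rw [e]; exact h
    · intro h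
      have := hk' ⟨_, h.1⟩
      simp only [← mul_assoc, mul_inv_cancel, one_mul, mul_inv_cancel_right] at this
      have e : (k : Equiv.Perm Cfsg.GolayPt)⁻¹ * x * k = g⁻¹ * x * g := by
        conv_lhs => rw [this]
        group
      rw [e]; exact h
  have hclass : ∀ α : MulAut Cfsg.Spor.M12, α ∈ Cfsg.Inn Cfsg.Spor.M12 ∨ β⁻¹ * α ∈ Cfsg.Inn Cfsg.Spor.M12 := by
    intro α
    have h0 : (some 0 : Cfsg.GolayPt) ∈ dod := by decide +kernel
    obtain ⟨r, hr⟩ := map_stabPt α (some 0)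
    by_cases hrd : r ∈ dod
    · exact Or.inl (inner_of_one α h0 hrd hr)
    refine Or.inr (inner_of_one _ h0 (r₀ := g⁻¹ r) ?_ ?_)
    · by_contra h
      have : g⁻¹ r ∈ dodᶜ := Finset.mem_compl.2 h
      rw [← hginv] at this
      exact hrd ((Finset.smul_mem_smul_finset_iff g⁻¹).1 this)
    · rw [show (β⁻¹ * α).toMonoidHom = (β⁻¹).toMonoidHom.comp α.toMonoidHom from rfl, ← Subgroup.map_map, hr]
      ext x
      constructor
      · rintro ⟨y, hy, rfl⟩
        show (g⁻¹ * (y : Equiv.Perm Cfsg.GolayPt) * g) (g⁻¹ r) = g⁻¹ r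
        simp [mem_stabPt.1 hy]
      · intro hx
        refine ⟨β x, ?_, β.symm_apply_apply x⟩
        show (g * (x : Equiv.Perm Cfsg.GolayPt) * g⁻¹) r = r
        simp only [Equiv.Perm.mul_apply]
        rw [mem_stabPt.1 hx]
        simp
  have hsurj : Function.Surjective
      fun b : Bool => if b then (1 : Cfsg.Out Cfsg.Spor.M12) else QuotientGroup.mk β := by
    intro q
    obtain ⟨α, rfl⟩ := QuotientGroup.mk_surjective q
    rcases hclass α with h | h
    · exact ⟨true, ((QuotientGroup.eq_one_iff _).2 h).symm⟩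
    · exact ⟨false, QuotientGroup.eq.2 h⟩
  refine le_antisymm ((Nat.card_le_card_of_surjective _ hsurj).trans (by simp)) ?_
  have : Finite (Cfsg.Out Cfsg.Spor.M12) := Finite.of_surjective _ hsurj
  have : Nontrivial (Cfsg.Out Cfsg.Spor.M12) :=
    nontrivial_of_ne (QuotientGroup.mk β) 1 fun h => hβ ((QuotientGroup.eq_one_iff _).1 h)
  exact Finite.one_lt_card

end Cfsg.Agent.S2061
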