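import Cfsg.Statements.S2063
import Cfsg.Agent.Lib.Sporadic.IndexPoints

set_option autoImplicit false
open Cfsg

namespace Cfsg.Agent.S2063

open CfsgLib.Sporadic

/-- The outer automorphism group of the Mathieu group M₂₃ (the stabiliser of a point in the automorphism group of the length-24 binary code) is trivial: every automorphism is inner. -/
theorem result : Nat.card (Cfsg.Out ↥Cfsg.Spor.M23) = 1 := by
  classical
  refine MathieuAut.card_out_one fun α => MathieuAut.inner_of_stabPt (F := ({none} : Finset GolayPt)) IndexPoints.mem_M23 (by simp) 23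
    (fun p hp => IndexPoints.index_stabPt_M23 (by simpa using hp)) IndexPoints.index_M23 (fun p hp q hq hpq => ?_) α
  obtain ⟨g, hg, hfix, hne⟩ := IndexPoints.exists_fixing (l := [none, p]) le_rfl (q := q)
    (by simp only [Finset.mem_singleton] at hq; simp [hq, hpq.symm])
    (by simp only [Finset.mem_singleton] at hp; simp [Ne.symm hp])
  exact ⟨⟨g, hg, hfix none (by simp)⟩, hfix p (by simp), hne⟩

end Cfsg.Agent.S2063
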