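import Cfsg.Statements.S2064
import Cfsg.Agent.Lib.Sporadic.IndexPoints

set_option autoImplicit false
open Cfsg

namespace Cfsg.Agent.S2064

open CfsgLib.Sporadic

/-- The outer automorphism group of the Mathieu group M₂₄ (the automorphism group of the length-24 binary code) is trivial: every automorphism is inner. -/
theorem result : Nat.card (Cfsg.Out ↥Cfsg.M24) = 1 := by
  classical
  refine MathieuAut.card_out_one fun α => MathieuAut.inner_of_stabPt (F := (∅ : Finset GolayPt))
    (fun g => ⟨fun h => ⟨h, fun p hp => absurd hp (Finset.notMem_empty p)⟩, fun h => h.1⟩) (by simp) 24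
    (fun p _ => IndexPoints.index_stabPt_M24 p) IndexPoints.index_M24 (fun p _ q _ hpq => ?_) α
  obtain ⟨g, hg, hfix, hne⟩ := IndexPoints.exists_fixing (l := [p]) (by simp) (q := q)
    (by simp [hpq.symm]) (by simp)
  exact ⟨⟨g, hg⟩, hfix p (by simp), hne⟩

end Cfsg.Agent.S2064
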