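import Cfsg.Statements.S2081
import Cfsg.Agent.Lib.Sporadic.Fi24Model.Instance
import Cfsg.Agent.Lib.ThreeTransp.TypeTwentyFour.AutDerived.Statement
-- import your own Cfsg.Agent.* helpers here

set_option autoImplicit false
open Cfsg

namespace Cfsg.Agent.S2081

/-- The outer automorphism group of the Fischer group Fi₂₄′ (the commutator subgroup of the presented group Fi₂₄) has order 2. -/
theorem result : Nat.card (Cfsg.Out Cfsg.Spor.Fi24') = 2 := by
  haveI := CfsgLib.Sporadic.Fi24Model.finite
  exact (CfsgLib.ThreeTransp.TypeTwentyFour.AutDerived.out_of_type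
    CfsgLib.Sporadic.Fi24Model.isThreeTranspositionGroup CfsgLib.Sporadic.Fi24Model.isPrimitive
    CfsgLib.Sporadic.Fi24Model.isOfTypeM24).2

end Cfsg.Agent.S2081
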