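import Cfsg.Statements.S2087
import Cfsg.Agent.Lib.Schur.Bound
import Cfsg.Agent.Lib.Schur.Metacyclic
import Cfsg.Agent.Lib.Schur.Dihedral
import Cfsg.Agent.Lib.SmallGroups.Order168
import Cfsg.Agent.S0495
import Cfsg.Agent.S1004

set_option autoImplicit false
open Cfsg

namespace Cfsg.Agent.S2087

theorem two_ne_zero_seven : (2 : ZMod 7) ≠ 0 ∧ (2 : ZMod 7) ^ 2 ≠ 1 := by
  constructor <;> decide

open Subgroup CfsgLib.Schur
open scoped commutatorElement

/-- The kernel of a stem extension of a group of order 168 with dihedral Sylow 2-subgroups. -/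
theorem card_ker_le {Q : Type*} [Group Q] [Finite Q] (hQ : Nat.card Q = 168) (T : Sylow 2 Q)
    (hT : Nonempty (↥(T : Subgroup Q) ≃* DihedralGroup 4)) {X : Type*} [Group X] [Finite X]
    (σ : X →* Q) (hσ : Cfsg.IsStemExtension σ) : Nat.card σ.ker ≤ 2 := by
  classical
  obtain ⟨hs, hk, hc⟩ := hσ
  obtain ⟨e⟩ := hT
  set A : Q := (e.symm (DihedralGroup.r 1) : Q) with hA
  set B : Q := (e.symm (DihedralGroup.sr 0) : Q) with hB
  have hTc : Nat.card (T : Subgroup Q) = 8 := by
    rw [Nat.card_congr e.toEquiv, DihedralGroup.nat_card]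
  have hidx : (T : Subgroup Q).index = 21 := by
    have := (T : Subgroup Q).index_mul_card
    rw [hTc, hQ] at this
    omega
  have hr : B * A * B⁻¹ = A ^ 3 := by
    rw [hA, hB, ← Subgroup.coe_inv, ← Subgroup.coe_mul, ← Subgroup.coe_mul, ← Subgroup.coe_pow,
      ← map_inv, ← map_mul, ← map_mul, ← map_pow]
    congr 2
  have hm : A ^ 4 = 1 := by
    rw [hA, ← Subgroup.coe_pow, ← map_pow, DihedralGroup.r_one_pow_n, map_one, Subgroup.coe_one]
  have hn : B ^ 2 = A ^ 0 := by
    rw [hB, ← Subgroup.coe_pow, ← map_pow, pow_zero, sq, DihedralGroup.sr_mul_self, map_one, Subgroup.coe_one]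
  obtain ⟨a, ha⟩ := hs A
  obtain ⟨b, hb⟩ := hs B
  obtain ⟨-, -, hc4, hsum, -⟩ := Metacyclic.commutator_pow_eq_one σ hk A B a b ha hb 3 4 2 0 hr hm hn
  set c := ⁅b, a⁆ with hcdef
  set X' := (T : Subgroup Q).comap σ
  have ha' : a ∈ X' := by rw [mem_comap, ha]; exact (e.symm _).2
  have hb' : b ∈ X' := by rw [mem_comap, hb]; exact (e.symm _).2
  obtain ⟨hca, hcb, -, -, -⟩ := Metacyclic.commutator_pow_eq_one σ hk A B a b ha hb 3 4 2 0 hr hm hn
  set a' : X' := ⟨a, ha'⟩
  set b' : X' := ⟨b, hb'⟩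
  have hgen : closure ({a', b'} : Set X') ⊔ center X' = ⊤ := by
    rw [eq_top_iff]
    intro x _
    let f : X' →* (T : Subgroup Q) := (σ.comp X'.subtype).codRestrict _ fun y => y.2
    have htop : (closure ({a', b'} : Set X')).map f = ⊤ := by
      rw [MonoidHom.map_closure, Set.image_pair]
      have h1 : f a' = e.symm (DihedralGroup.r 1) := Subtype.ext ha
      have h2 : f b' = e.symm (DihedralGroup.sr 0) := Subtype.ext hb
      rw [h1, h2, ← Set.image_pair e.symm (DihedralGroup.r 1) (DihedralGroup.sr 0),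
        ← MulEquiv.coe_toMonoidHom, ← MonoidHom.map_closure, Dihedral.closure_dihedral,
        ← MonoidHom.range_eq_map, MonoidHom.range_eq_top.mpr e.symm.surjective]
    obtain ⟨y, hy, hyx⟩ := (htop ▸ mem_top (f x) : f x ∈ (closure ({a', b'} : Set X')).map f)
    have hz : y⁻¹ * x ∈ center X' := by
      refine mem_center_iff.mpr fun w => Subtype.ext (mem_center_iff.mp (hk ?_) w.1)
      have : f (y⁻¹ * x) = 1 := by rw [map_mul, map_inv, hyx, inv_mul_cancel]
      exact congrArg Subtype.val this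
    have := mem_sup_left (T := center X') hy
    simpa using mul_mem this (mem_sup_right (S := closure ({a', b'} : Set X')) hz)
  have hC : (commutator X').map X'.subtype ≤ zpowers c := by
    have hnorm : (zpowers (⁅b', a'⁆ : X')).Normal := by
      refine ⟨fun u hu g => ?_⟩
      have hN : ∀ g ∈ ({a', b'} : Set X'), g * ⁅b', a'⁆ * g⁻¹ ∈ zpowers (⁅b', a'⁆ : X') := by
        rintro g (rfl | rfl)
        · refine ⟨1, Subtype.ext ?_⟩
          show c ^ (1 : ℤ) = a * c * a⁻¹
          rw [zpow_one, ← hca, mul_inv_cancel_right]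
        · refine ⟨3, Subtype.ext ?_⟩
          show c ^ (3 : ℤ) = b * c * b⁻¹
          rw [hcb]
          norm_cast
      have hle : (⊤ : Subgroup X') ≤ normalizer ((zpowers (⁅b', a'⁆ : X')) : Set X') := by
        rw [← hgen, sup_le_iff, closure_le]
        refine ⟨fun g hg => ?_, center_le_normalizer _⟩
        have hm' : (zpowers (⁅b', a'⁆ : X')).map (MulAut.conj g).toMonoidHom ≤ zpowers (⁅b', a'⁆ : X') := by
          rw [MonoidHom.map_zpowers, zpowers_le]
          exact hN g hg
        exact mem_normalizer_iff_map_conj_eq.mpr (eq_of_le_of_card_ge hm'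
          (card_map_of_injective (MulEquiv.injective _)).ge)
      exact (mem_normalizer_iff.mp (hle (mem_top g)) u).mp hu
    rintro _ ⟨u, hu, rfl⟩
    obtain ⟨i, hi⟩ := Metacyclic.commutator_le_of_normal a' b' hgen _ (mem_zpowers _) hu
    exact ⟨i, congrArg Subtype.val hi⟩
  -- every kernel element is `1` or `c ^ 2`
  have hker : ∀ z ∈ σ.ker, z = 1 ∨ z = c ^ 2 := by
    intro z hz
    have h21 : z ^ 21 ∈ zpowers c := hC (hidx ▸ Bound.pow_index_mem σ hs (T : Subgroup Q) (hk hz) (hc hz))
    obtain ⟨i, hi⟩ := mem_zpowers_iff.mp h21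
    have h8 : z ^ 8 = 1 := by
      have hp : ∀ (p : ℕ) [Fact p.Prime], Nat.card Q = p ^ 1 * (168 / p) → ¬ p ∣ 168 / p →
          z ^ (168 / p) = 1 := by
        intro p _ hpc hnd
        obtain ⟨P⟩ : Nonempty (Sylow p Q) := inferInstance
        have hP : Nat.card (P : Subgroup Q) = p :=
          (CfsgLib.SmallGroups.SimpleTools.card_sylow_subgroup hpc hnd P).trans (pow_one p)
        have : IsCyclic ↥(P : Subgroup Q) := isCyclic_of_prime_card hP
        have hi' : (P : Subgroup Q).index = 168 / p := by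
          have := (P : Subgroup Q).index_mul_card
          rw [hP, hQ] at this
          rw [← this, Nat.mul_div_cancel _ (Fact.out : p.Prime).pos]
        exact hi' ▸ Bound.pow_index_eq_one_of_cyclic σ hs hk (P : Subgroup Q) hz (hc hz)
      have : Fact (Nat.Prime 3) := ⟨Nat.prime_three⟩
      have : Fact (Nat.Prime 7) := ⟨by norm_num⟩
      exact pow_gcd_eq_one (m := 56) (n := 24) (a := z) |>.mpr
        ⟨hp 3 (by rw [hQ]; norm_num) (by norm_num), hp 7 (by rw [hQ]; norm_num) (by norm_num)⟩
    -- `i` is even as `c` does not lie in the kernel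
    have hi2 : Even i := by
      rcases Int.even_or_odd i with h | ⟨j, hj⟩
      · exact h
      exfalso
      have hσc : σ c = A ^ 2 := by
        rw [hcdef, map_commutatorElement, ha, hb, commutatorElement_def, hr, pow_succ, mul_inv_cancel_right]
      have h1 : σ (c ^ i) = 1 := by rw [hi, map_pow, MonoidHom.mem_ker.mp hz, one_pow]
      have hc2 : (A ^ 2) ^ (2 : ℤ) = 1 := by
        rw [show (2 : ℤ) = ((2 : ℕ) : ℤ) from rfl, zpow_natCast, ← pow_mul]; exact hm
      rw [map_zpow, hσc, hj, zpow_add, zpow_mul, hc2, one_zpow, one_mul, zpow_one, hA, ← Subgroup.coe_pow,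
        ← map_pow, OneMemClass.coe_eq_one, MulEquiv.map_eq_one_iff, DihedralGroup.r_one_pow] at h1
      exact absurd h1 (by decide)
    obtain ⟨j, rfl⟩ := hi2
    have hc22 : (c ^ 2) ^ 2 = 1 := by rw [← pow_mul]; exact hc4
    have h2 : c ^ (j + j) = 1 ∨ c ^ (j + j) = c ^ 2 := by
      rw [show j + j = 2 * j by ring, zpow_mul, show c ^ (2 : ℤ) = c ^ 2 by norm_cast]
      rcases Int.even_or_odd j with ⟨l, rfl⟩ | ⟨l, rfl⟩
      · left
        rw [← two_mul, zpow_mul, show (c ^ 2) ^ (2 : ℤ) = (c ^ 2) ^ 2 by norm_cast, hc22, one_zpow]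
      · right
        rw [zpow_add, zpow_mul, show (c ^ 2) ^ (2 : ℤ) = (c ^ 2) ^ 2 by norm_cast, hc22, one_zpow, one_mul,
          zpow_one]
    have hz5 : z = (z ^ 21) ^ 5 := by
      rw [← pow_mul, show 21 * 5 = 8 * 13 + 1 by norm_num, pow_succ, pow_mul, h8, one_pow, one_mul]
    rcases h2 with h2 | h2 <;> rw [hz5, ← hi, h2]
    · exact Or.inl (one_pow 5)
    · right
      rw [show (5 : ℕ) = 2 * 2 + 1 by norm_num, pow_succ, pow_mul, hc22, one_pow, one_mul]
  calc Nat.card σ.ker = Set.ncard (σ.ker : Set X) := rfl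
    _ ≤ Set.ncard ({1, c ^ 2} : Set X) := Set.ncard_le_ncard (fun z hz => hker z hz) (by simp)
    _ ≤ 2 := (Set.ncard_insert_le _ _).trans (by rw [Set.ncard_singleton])

/-- Exceptional Schur multiplier: over the field with 2 elements, PSL₃ has Schur multiplier cyclic of order 2 (here the Schur multiplier is described through stem extensions, as in the definitions). -/
theorem result {F : Type*} [Field F] [Fintype F] (hF : Fintype.card F = 2) : Cfsg.HasCyclicSchurMultiplier (Matrix.ProjectiveSpecialLinearGroup (Fin 3) F) 2 := by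
  classical
  have hQsimple : IsSimpleGroup (Matrix.ProjectiveSpecialLinearGroup (Fin 3) F) :=
    CfsgLib.Classical.psl_fin_isSimpleGroup (k := 3) (by norm_num) (by norm_num)
  have hQ : Nat.card (Matrix.ProjectiveSpecialLinearGroup (Fin 3) F) = 168 := by
    have h1 := CfsgLib.Classical.card_psl_mul hF 3 (by norm_num)
    have h2 := CfsgLib.Classical.card_sl_mul hF 3 (by norm_num)
    norm_num [Fin.prod_univ_three] at h1 h2
    rw [Nat.card_eq_fintype_card]
    omega
  have : Fact (Nat.Prime 7) := ⟨by norm_num⟩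
  have h7 : Fintype.card (ZMod 7) = 7 := ZMod.card 7
  obtain ⟨e⟩ := Cfsg.Agent.S0495.result hQ h7
  let ξ : Matrix.SpecialLinearGroup (Fin 2) (ZMod 7) →* Matrix.ProjectiveSpecialLinearGroup (Fin 3) F :=
    e.symm.toMonoidHom.comp (QuotientGroup.mk' _)
  have hker : ξ.ker = Subgroup.center (Matrix.SpecialLinearGroup (Fin 2) (ZMod 7)) := by
    ext x
    simp [ξ]
  have hξ : Cfsg.IsStemExtension ξ := by
    refine ⟨e.symm.surjective.comp (QuotientGroup.mk'_surjective _), hker.le, ?_⟩
    rw [show commutator (Matrix.SpecialLinearGroup (Fin 2) (ZMod 7)) = ⊤ from ?_]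
    · exact le_top
    rw [eq_top_iff]
    intro x _
    refine CfsgLib.Classical.sl_transvection_induction (fun y => y ∈ commutator _) (one_mem _)
      (fun i j hij c => ?_) (fun a b ha hb => mul_mem ha hb) x
    rw [_root_.commutator_eq_closure]
    exact subset_closure
      (CfsgLib.Classical.transvection_mem_commutatorSet_two two_ne_zero_seven.1
        two_ne_zero_seven.2 hij c)
  have hcard : Nat.card ξ.ker = 2 := by
    rw [hker, CfsgLib.Classical.card_center_sl 2 (by norm_num), h7]
    rfl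
  have : IsCyclic ↥ξ.ker := isCyclic_of_prime_card (p := 2) hcard
  have eA : ξ.ker ≃* Multiplicative (ZMod 2) := mulEquivOfCyclicCardEq (by rw [hcard, Nat.card_congr Multiplicative.toAdd, Nat.card_zmod])
  obtain ⟨T⟩ : Nonempty (Sylow 2 (Matrix.ProjectiveSpecialLinearGroup (Fin 3) F)) := inferInstance
  refine CfsgLib.Schur.Basic.hasSchurMultiplier_of_le ξ hξ eA fun Γ _ _ σ hσ => ?_
  refine (card_ker_le hQ T (CfsgLib.SmallGroups.Order168.dihedral hQ T) σ hσ).trans ?_
  simp

end Cfsg.Agent.S2087
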