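import Cfsg.Statements.S2100
import Cfsg.Agent.Lib.KnownA.SteinbergMultiplier
import Cfsg.Agent.Lib.KnownA.SteinbergField
import Cfsg.Agent.Lib.KnownA.SteinbergCert.G2F4
import Cfsg.Agent.Lib.Chevalley.TablesSt
import Cfsg.Agent.Lib.Chevalley.Data.SmithCerts
-- import your own Cfsg.Agent.* helpers here

set_option autoImplicit false
open Cfsg CfsgLib.Chevalley CfsgLib.KnownA.SteinbergUniv

namespace Cfsg.Agent.S2100

/-- Schur multipliers of the Chevalley groups of type G₂: over a field with q ≥ 5 elements the Schur multiplier of G₂(q) is trivial (here the Schur multiplier is described through stem extensions, as in the definitions); the cases q = 3 and q = 4 are exceptional and q = 2 gives a non-simple group. -/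
theorem result {F : Type*} [Field F] [Fintype F] (hF : 5 ≤ Fintype.card F) : Cfsg.HasCyclicSchurMultiplier ↥(Cfsg.Lie.chevG2.group F) 1 := by
  have hO : Data.G2.tbl.StOk :=
    ⟨Data.G2.valid, Data.G2.chkComm, Data.G2.chkSorted, Data.G2.chkSplit⟩
  have hbot : Subgroup.center (Data.G2.tbl.datum.SteinbergGroup F) = ⊥ :=
    Tbl.center_eq_bot hO (Tbl.torusHom_injective_of_smith hO.valid Data.G2.chkSmith (by decide))
  rw [← Data.G2.datum_eq]
  have hok : FieldOk F g2Cert := by
    refine ⟨fun k hk => ?_, fun k hk => ?_, fun _ => exists_homoth hF⟩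
    · simp [g2Cert] at hk
      exact exists_pow_ne_one (by omega) (by omega)
    · simp [g2Cert] at hk
  exact hasSchurMultiplier_group hO (allLt_iff.mp g2_isK)
    (fun r hr t => sX_mem_commutator' hO.valid g2_chkTorus hok hO hr t)
    (fun E _ c => ⟨yLiftT hO.valid hO.comm g2_chkTorus hok c⟩)
    ((MulEquiv.subgroupCongr hbot).trans MulEquiv.ofUnique)

end Cfsg.Agent.S2100
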