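import Cfsg.Statements.S2103
import Cfsg.Agent.Lib.KnownA.SteinbergMultiplier
import Cfsg.Agent.Lib.KnownA.SteinbergField
import Cfsg.Agent.Lib.KnownA.SteinbergCert.G2F4
import Cfsg.Agent.Lib.Chevalley.TablesSt
import Cfsg.Agent.Lib.Chevalley.Data.SmithCerts
-- import your own Cfsg.Agent.* helpers here

set_option autoImplicit false
open Cfsg CfsgLib.Chevalley CfsgLib.KnownA.SteinbergUniv

namespace Cfsg.Agent.S2103

/-- Schur multipliers of the Chevalley groups of type F₄: over a finite field with more than 2 elements the Schur multiplier of F₄(q) is trivial (here the Schur multiplier is described through stem extensions, as in the definitions); q = 2 is exceptional. -/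
theorem result {F : Type*} [Field F] [Fintype F] (hF : 3 ≤ Fintype.card F) : Cfsg.HasCyclicSchurMultiplier ↥(Cfsg.Lie.chevF4.group F) 1 := by
  have hO : Data.F4.tbl.StOk :=
    ⟨Data.F4.valid, Data.F4.chkComm, Data.F4.chkSorted, Data.F4.chkSplit⟩
  have hbot : Subgroup.center (Data.F4.tbl.datum.SteinbergGroup F) = ⊥ :=
    Tbl.center_eq_bot hO (Tbl.torusHom_injective_of_smith hO.valid Data.F4.chkSmith (by decide))
  rw [← Data.F4.datum_eq]
  suffices key : ∀ (C : TorusCert), chkTorus Data.F4.tbl C = true → FieldOk F C →
      Cfsg.HasCyclicSchurMultiplier ↥(Data.F4.tbl.datum.group F) 1 by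
    by_cases h2 : (2 : F) = 0
    · refine key f4CertEven f4_chkTorus_even ⟨fun k hk => ?_, fun k hk => ?_, fun h => ?_⟩
      · have := card_ne_three_of_two_eq_zero h2
        simp [f4CertEven] at hk
        exact exists_pow_ne_one (by omega) (by omega)
      · simp [f4CertEven] at hk
        simp [hk]
      · simp [f4CertEven] at h
    · refine key f4CertOdd f4_chkTorus_odd ⟨fun k hk => ?_, fun k hk => ?_, fun h => ?_⟩
      · simp [f4CertOdd] at hk
        exact exists_pow_ne_one (by omega) (by omega)
      · simp [f4CertOdd] at hk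
        rcases hk with rfl | rfl
        · simp
        · exact_mod_cast h2
      · simp [f4CertOdd] at h
  intro C hS hok
  exact hasSchurMultiplier_group hO (allLt_iff.mp f4_isK)
    (fun r hr t => sX_mem_commutator' hO.valid hS hok hO hr t)
    (fun E _ c => ⟨yLiftT hO.valid hO.comm hS hok c⟩)
    ((MulEquiv.subgroupCongr hbot).trans MulEquiv.ofUnique)

end Cfsg.Agent.S2103
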