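import Cfsg.Statements.S2106
import Cfsg.Agent.Lib.KnownA.SteinbergMultiplier
import Cfsg.Agent.Lib.KnownA.SteinbergCert.E7
import Cfsg.Agent.Lib.KnownA.SteinbergCert.Emb
import Cfsg.Agent.Lib.Chevalley.TablesSt
import Cfsg.Agent.Lib.Chevalley.Data.SmithCerts
-- import your own Cfsg.Agent.* helpers here

set_option autoImplicit false
open Cfsg CfsgLib.Chevalley CfsgLib.KnownA.SteinbergUniv

namespace Cfsg.Agent.S2106

/-- Schur multipliers of the (adjoint, simple) Chevalley groups of type E₇: over a field with q elements the Schur multiplier is cyclic of order gcd(2, q − 1) (here the Schur multiplier is described through stem extensions, as in the definitions). -/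
theorem result {F : Type*} [Field F] [Fintype F] {q : ℕ} (hF : Fintype.card F = q) : Cfsg.HasCyclicSchurMultiplier ↥(Cfsg.Lie.chevE7.group F) (Nat.gcd 2 (q - 1)) := by
  have hO : Data.E7.tbl.StOk :=
    ⟨Data.E7.valid, Data.E7.chkComm, Data.E7.chkSorted, Data.E7.chkSplit⟩
  have hinj := sTorus_injective (F := F) hO Data.E8.valid Data.E8.chkComm embE7 leftE7
  have hcard : Nat.card (Subgroup.center (Data.E7.tbl.datum.SteinbergGroup F)) =
      Nat.gcd 2 (q - 1) := by
    rw [card_center hF hO hinj Data.E7.chkSmith, Nat.gcd_comm 2 (q - 1)]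
    show (∏ i : Fin 7, _) = _
    simp [Fin.prod_univ_succ]
  obtain ⟨e⟩ := center_mulEquiv (by norm_num : Nat.Prime 2) hcard
  rw [← Data.E7.datum_eq]
  exact hasSchurMultiplier_group hO (allLt_iff.mp e7_isK)
    (fun r hr t => sX_mem_commutator hO.valid e7_chkLaced hr t)
    (fun E _ c => ⟨yLift hO.valid hO.comm e7_chkLaced c⟩) e

end Cfsg.Agent.S2106
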