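import Cfsg.Statements.S2107
import Cfsg.Agent.Lib.KnownA.SteinbergMultiplier
import Cfsg.Agent.Lib.KnownA.SteinbergCert.E8
import Cfsg.Agent.Lib.Chevalley.TablesSt
import Cfsg.Agent.Lib.Chevalley.Data.SmithCerts
-- import your own Cfsg.Agent.* helpers here

set_option autoImplicit false
open Cfsg

namespace Cfsg.Agent.S2107

/-- Schur multipliers of the Chevalley groups of type E₈: over every finite field the Schur multiplier of E₈(q) is trivial (here the Schur multiplier is described through stem extensions, as in the definitions). -/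
theorem result {F : Type*} [Field F] [Fintype F] : Cfsg.HasCyclicSchurMultiplier ↥(Cfsg.Lie.chevE8.group F) 1 := by
  open CfsgLib.Chevalley CfsgLib.KnownA.SteinbergUniv in
  have hO : Data.E8.tbl.StOk :=
    ⟨Data.E8.valid, Data.E8.chkComm, Data.E8.chkSorted, Data.E8.chkSplit⟩
  open CfsgLib.Chevalley CfsgLib.KnownA.SteinbergUniv in
  have hbot : Subgroup.center (Data.E8.tbl.datum.SteinbergGroup F) = ⊥ :=
    Tbl.center_eq_bot hO (Tbl.torusHom_injective_of_smith hO.valid Data.E8.chkSmith (by decide))
  open CfsgLib.Chevalley CfsgLib.KnownA.SteinbergUniv in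
  rw [← Data.E8.datum_eq]
  open CfsgLib.Chevalley CfsgLib.KnownA.SteinbergUniv in
  exact hasSchurMultiplier_group hO (allLt_iff.mp e8_isK)
    (fun r hr t => sX_mem_commutator hO.valid e8_chkLaced hr t)
    (fun E _ c => ⟨yLift hO.valid hO.comm e8_chkLaced c⟩)
    ((MulEquiv.subgroupCongr hbot).trans MulEquiv.ofUnique)

end Cfsg.Agent.S2107
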