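import Cfsg.Statements.S2126
import Cfsg.Agent.Lib.KnownB.SuzukiAut
import Mathlib.FieldTheory.Galois.Basic
import Mathlib.FieldTheory.Finite.GaloisField
-- import your own Cfsg.Agent.* helpers here

set_option autoImplicit false
open Cfsg

open CfsgLib.KnownB.Suzuki CfsgLib.KnownB.SzElem

namespace Cfsg.Agent.S2126

/-- Outer automorphisms of the Suzuki groups: for q = 2^(2m+1) with m ≥ 1 the outer automorphism group of Sz(q) has order 2m + 1 (field automorphisms only). -/
theorem result {F : Type*} [Field F] [Fintype F] {m : ℕ} (hm : 1 ≤ m) (hF : Fintype.card F = 2 ^ (2 * m + 1)) : Nat.card (Cfsg.Out ↥(Cfsg.Lie.Sz F (2 ^ (m + 1)))) = 2 * m + 1 := by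
  classical
  have he := twist_of_card hF
  have hc := exists_pow_ne he hm hF
  have hu := exists_unit_ne_one hm hF
  let Ψ : (F ≃+* F) →* Cfsg.Out ↥(Cfsg.Lie.Sz F (2 ^ (m + 1))) :=
    (QuotientGroup.mk' _).comp (fieldHom he)
  have hinj : Function.Injective Ψ := by
    rw [injective_iff_map_eq_one]
    intro σ h
    obtain ⟨g, hg⟩ := (QuotientGroup.eq_one_iff _).1 h
    exact fieldHom_eq_one_of_inner he σ g hg.symm
  have hsurj : Function.Surjective Ψ := by
    intro x
    obtain ⟨α, rfl⟩ := QuotientGroup.mk'_surjective _ x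
    obtain ⟨g, σ, rfl⟩ := exists_conj_fieldHom he hc hu α
    refine ⟨σ, ?_⟩
    rw [map_mul]
    show Ψ σ = _
    rw [show QuotientGroup.mk' (Cfsg.Inn ↥(Cfsg.Lie.Sz F (2 ^ (m + 1)))) (MulAut.conj g) = 1 from
      (QuotientGroup.eq_one_iff _).2 ⟨g, rfl⟩, one_mul]
    rfl
  rw [← Nat.card_congr (Equiv.ofBijective Ψ ⟨hinj, hsurj⟩)]
  haveI : Fact (Nat.Prime 2) := ⟨Nat.prime_two⟩
  haveI : CharP F 2 := CharTwo.of_one_ne_zero_of_two_eq_zero one_ne_zero he.two
  letI : Algebra (ZMod 2) F := ZMod.algebra F 2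
  have hfr : Module.finrank (ZMod 2) F = 2 * m + 1 := by
    apply Nat.pow_right_injective le_rfl
    have h := Module.card_eq_pow_finrank (K := ZMod 2) (V := F)
    rw [ZMod.card, hF] at h
    exact h.symm
  let E : (F ≃ₐ[ZMod 2] F) ≃ (F ≃+* F) :=
    { toFun := fun σ => σ.toRingEquiv
      invFun := fun σ => AlgEquiv.ofRingEquiv (f := σ) (fun x => by
        obtain ⟨n, rfl⟩ := ZMod.natCast_zmod_surjective (n := 2) x
        simp)
      left_inv := fun σ => AlgEquiv.ext fun x => rfl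
      right_inv := fun σ => RingEquiv.ext fun x => rfl }
  rw [← Nat.card_congr E, IsGalois.card_aut_eq_finrank, hfr]

end Cfsg.Agent.S2126
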