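import Cfsg.Statements.S2142
import Cfsg.Agent.Lib.KnownA.MinIndexSpTwo
import Cfsg.Agent.Lib.Classical.SympMatrixSimple
import Cfsg.Agent.Lib.Classical.OrthCount
import Cfsg.Agent.Lib.Orth.Standard

set_option autoImplicit false
open Cfsg CfsgLib.Orth CfsgLib.Classical CfsgLib.KnownA.MinIndexSpTwo

namespace Cfsg.Agent.S2142

/-- Minimal index of a proper subgroup of the symplectic groups over the field with 2 elements: for m ≥ 3, every proper subgroup of Sp_2m(2) has index at least 2^(m−1)(2^m − 1), and that index is attained. -/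
theorem result {F : Type*} [Field F] [Fintype F] (hF : Fintype.card F = 2) (m : ℕ) (hm : 3 ≤ m) : (∀ H : Subgroup (Cfsg.PSp m F), H ≠ ⊤ → 2 ^ (m - 1) * (2 ^ m - 1) ≤ H.index) ∧ (∃ H : Subgroup (Cfsg.PSp m F), H.index = 2 ^ (m - 1) * (2 ^ m - 1)) := by
  classical
  obtain ⟨l, rfl⟩ : ∃ l, m = l + 1 := ⟨m - 1, by omega⟩
  have two : (2 : F) = 0 := by
    obtain ⟨p, hc⟩ := CharP.exists F
    obtain ⟨n, hp, hn⟩ := FiniteField.card F p
    rw [hF] at hn
    have h2 : p = 2 := (Nat.prime_dvd_prime_iff_eq hp Nat.prime_two).1 (hn ▸ dvd_pow_self p n.ne_zero)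
    subst h2
    exact_mod_cast CharP.cast_eq_zero F 2
  have hQ : ∀ x y, QuadraticMap.polar (plusForm F (l + 1)) x y = sympBil F (l + 1) x y := by
    intro x y
    rw [sympBil_apply, sympForm_eq, QuadraticMap.polar, ← plusForm_apply, ← plusForm_apply,
      ← plusForm_apply]
    simp only [Cfsg.quadFormPlus, Pi.add_apply, ← Finset.sum_sub_distrib]
    refine Finset.sum_congr rfl fun i _ => ?_
    linear_combination x (.inl i) * y (.inr i) * two
  have S : Setup (sympBil F (l + 1)) (plusForm F (l + 1)) l :=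
    ⟨hF, sympBil_isAlt _, sympBil_nondegenerate _, hQ, by simp [two_mul], by omega⟩
  have hN : 2 ^ (l + 1 - 1) * (2 ^ (l + 1) - 1) = 2 * 4 ^ l - 2 ^ l := by
    rw [Nat.add_sub_cancel, Nat.mul_sub, mul_one, pow_succ, ← mul_assoc, ← mul_pow, mul_comm]; norm_num
  have hcenter : ∀ A ∈ Subgroup.center (Matrix.symplecticGroup (Fin (l + 1)) F), A = 1 := by
    intro A hA
    refine Subtype.ext ?_
    rcases sp_center_eq (l + 1) hA with h | h
    · exact h
    · rw [h]
      ext i j
      simp only [Matrix.neg_apply, OneMemClass.coe_one]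
      linear_combination (-(1 : Matrix (Fin (l + 1) ⊕ Fin (l + 1)) (Fin (l + 1) ⊕ Fin (l + 1)) F) i j) * two
  let π : isomGroup (sympBil F (l + 1)) →* Cfsg.PSp (l + 1) F :=
    (QuotientGroup.mk' _).comp (spEquiv (l + 1)).symm.toMonoidHom
  have hπ : Function.Surjective π :=
    (QuotientGroup.mk'_surjective _).comp (spEquiv (l + 1)).symm.surjective
  rw [hN]
  constructor
  · intro H hH
    rw [← Subgroup.index_comap_of_surjective H hπ]
    exact index_ge S _ fun h => hH (Subgroup.comap_injective hπ (by rw [h, Subgroup.comap_top]))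
  · obtain ⟨K, hK⟩ := exists_index S
      (Pi.single (Sum.inl (0 : Fin (l + 1))) 1 + Pi.single (Sum.inr (0 : Fin (l + 1))) 1) (by
        rw [← plusForm_apply]; simp [Cfsg.quadFormPlus, Pi.single_apply])
    refine ⟨K.map π, ?_⟩
    rw [Subgroup.index_map_eq K hπ (fun x hx => by
      have h1 : (spEquiv (l + 1)).symm x = 1 := hcenter _ ((QuotientGroup.eq_one_iff _).1 hx)
      rw [(MulEquiv.map_eq_one_iff _).1 h1]
      exact one_mem K), hK]
    have h2 := zeroCount_plus hF (l + 1)
    have h3 := Finset.card_filter_add_card_filter_not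
      (s := (Finset.univ : Finset (Fin (l + 1) ⊕ Fin (l + 1) → F))) (fun a => plusForm F (l + 1) a = 0)
    have h4 : zeroCount (plusForm F (l + 1)) =
        (Finset.univ.filter fun a => plusForm F (l + 1) a = 0).card := by
      rw [zeroCount, Nat.card_eq_fintype_card, Fintype.card_subtype]
    rw [← h4, Finset.card_univ, Fintype.card_fun, hF, Fintype.card_sum, Fintype.card_fin] at h3
    push_cast at h2
    have e1 : (2 : ℤ) ^ (2 * (l + 1)) = 4 * 4 ^ l := by
      rw [pow_mul, pow_succ]; norm_num; ring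
    rw [e1, pow_succ] at h2
    have e2 : (2 : ℕ) ^ (l + 1 + (l + 1)) = 4 * 4 ^ l := by
      rw [← two_mul, pow_mul, pow_succ]; norm_num; ring
    rw [e2] at h3
    zify at h3
    have hle : (2 : ℕ) ^ l ≤ 2 * 4 ^ l :=
      le_trans (Nat.pow_le_pow_left (by norm_num) l) (Nat.le_mul_of_pos_left _ (by norm_num))
    zify [hle]
    simp only [ne_eq] at h3 ⊢
    linarith

end Cfsg.Agent.S2142
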