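import Cfsg.Statements.S2143
import Cfsg.Agent.Lib.KnownA.MinIndexOrth.Numerics
import Cfsg.Agent.Lib.KnownA.MinIndexOrth.Bound

set_option autoImplicit false
open Cfsg CfsgLib.Orth CfsgLib.Classical CfsgLib.KnownA.MinIndexOrth

namespace Cfsg.Agent.S2143

/-- Minimal index of a proper subgroup of the odd-dimensional orthogonal groups: for m ≥ 3 and a field F with q elements, q odd and q ≥ 5, every proper subgroup of PΩ_(2m+1)(F) (for the form x₀² + Σ xᵢyᵢ) has index at least (q^(2m) − 1)/(q − 1), and that index is attained. -/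
theorem result {F : Type*} [Field F] [Fintype F] {q : ℕ} (hF : Fintype.card F = q) (hodd : Odd q) (h5 : 5 ≤ q) (m : ℕ) (hm : 3 ≤ m) : (∀ H : Subgroup (Cfsg.POmega F (Cfsg.quadFormOdd m F)), H ≠ ⊤ → (q ^ (2 * m) - 1) / (q - 1) ≤ H.index) ∧ (∃ H : Subgroup (Cfsg.POmega F (Cfsg.quadFormOdd m F)), H.index = (q ^ (2 * m) - 1) / (q - 1)) := by
  classical
  obtain ⟨k, rfl⟩ : ∃ k, m = k + 1 := ⟨m - 1, by omega⟩
  obtain ⟨p, P, N, hp, hc, H, hN⟩ := num_odd hF hodd h5 k (by omega)
  haveI := hc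
  haveI : Fact p.Prime := ⟨hp⟩
  have h2 : (2 : F) ≠ 0 := by
    intro h
    have := FiniteField.even_card_of_char_two (F := F) (CharP.ringChar_of_prime_eq_zero Nat.prime_two (by simpa using h))
    rw [hF] at this
    obtain ⟨r, rfl⟩ := hodd
    omega
  rw [← hN, Nat.mul_div_cancel_left _ (by omega : 0 < q - 1)]
  exact pomega_min_index (oddForm F (k + 1)) (fun v => oddForm_apply (k + 1) v) (oddStep k) (oddStep_spec k)
    (oddForm_nondeg k h2) (by simp; omega) H

end Cfsg.Agent.S2143
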