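import Cfsg.Statements.S2146
import Cfsg.Agent.Lib.KnownA.MinIndexOrth.SmallTwoBound

set_option autoImplicit false
open Cfsg CfsgLib.Orth CfsgLib.Classical CfsgLib.KnownA.MinIndexOrth

namespace Cfsg.Agent.S2146

/-- Minimal index of a proper subgroup of the even-dimensional orthogonal groups of plus type over the field with 2 elements: for m ≥ 4, every proper subgroup of Ω⁺_2m(2) (for the form Σ xᵢyᵢ) has index at least 2^(m−1)(2^m − 1), and that index is attained. -/
theorem result {F : Type*} [Field F] [Fintype F] (hF : Fintype.card F = 2) (m : ℕ) (hm : 4 ≤ m) : (∀ H : Subgroup (Cfsg.POmega F (Cfsg.quadFormPlus m F)), H ≠ ⊤ → 2 ^ (m - 1) * (2 ^ m - 1) ≤ H.index) ∧ (∃ H : Subgroup (Cfsg.POmega F (Cfsg.quadFormPlus m F)), H.index = 2 ^ (m - 1) * (2 ^ m - 1)) := by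
  classical
  obtain ⟨k, rfl⟩ : ∃ k, m = k + 1 := ⟨m - 1, by omega⟩
  obtain ⟨u, N, H, hN⟩ := num_plus_two hF k (by omega)
  have hz : zeroCount (plusForm F k) = 2 * (u * u) + u := by
    have h1 := card_sing (R := plusForm F k)
    have h2 := H.hS
    have := H.hu
    omega
  rw [Nat.add_sub_cancel, ← hN]
  exact pomega_min_index_two (plusForm F (k + 1)) (fun v => plusForm_apply (k + 1) v) (plusStep k)
    (plusStep_spec k) (plusForm_nondeg k) (by simp; omega) H hz

end Cfsg.Agent.S2146
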