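import Cfsg.Statements.S2147
import Cfsg.Agent.Lib.KnownA.MinIndexOrth.NumericsSmall
import Cfsg.Agent.Lib.KnownA.MinIndexOrth.Bound

set_option autoImplicit false
open Cfsg CfsgLib.Orth CfsgLib.Classical CfsgLib.KnownA.MinIndexOrth

namespace Cfsg.Agent.S2147

/-- Minimal index of a proper subgroup of the even-dimensional orthogonal groups of minus type: for m ≥ 4 and a field F with q elements, every proper subgroup of PΩ⁻_2m(F) (for the form Σ_{i<m−1} xᵢyᵢ + z₁² + a z₁z₂ + b z₂² with anisotropic binary part) has index at least (q^m + 1)(q^(m−1) − 1)/(q − 1), and that index is attained. -/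
theorem result {F : Type*} [Field F] [Fintype F] {q : ℕ} (hF : Fintype.card F = q) (m : ℕ) (hm : 4 ≤ m) (a b : F) (hab : ∀ z₁ z₂ : F, z₁ ^ 2 + a * z₁ * z₂ + b * z₂ ^ 2 = 0 → z₁ = 0 ∧ z₂ = 0) : (∀ H : Subgroup (Cfsg.POmega F (Cfsg.quadFormMinus (m - 1) F a b)), H ≠ ⊤ → (q ^ m + 1) * (q ^ (m - 1) - 1) / (q - 1) ≤ H.index) ∧ (∃ H : Subgroup (Cfsg.POmega F (Cfsg.quadFormMinus (m - 1) F a b)), H.index = (q ^ m + 1) * (q ^ (m - 1) - 1) / (q - 1)) := by
  classical
  obtain ⟨k, rfl⟩ : ∃ k, m = k + 2 := ⟨m - 2, by omega⟩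
  obtain ⟨p, P, N, hp, hc, H, hN⟩ := show ∃ p P N, p.Prime ∧ CharP F p ∧
      Num (minusForm F k a b) p P N k ∧ (q - 1) * N = (q ^ (k + 2) + 1) * (q ^ (k + 1) - 1) from by
    rcases Nat.lt_or_ge q 4 with hq | hq
    · exact num_minus_small hF (by omega) a b hab k (by omega)
    · exact num_minus hF hq a b hab k (by omega)
  haveI := hc
  haveI : Fact p.Prime := ⟨hp⟩
  have hq1 : 0 < q - 1 := by
    have := Fintype.one_lt_card (α := F)
    omega
  rw [show k + 2 - 1 = k + 1 from rfl, ← hN, Nat.mul_div_cancel_left _ hq1]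
  exact pomega_min_index (minusForm F (k + 1) a b) (fun v => minusForm_apply (k + 1) a b v) (minusStep k)
    (minusStep_spec k a b) (minusForm_nondeg k a b hab) (by simp; omega) H

end Cfsg.Agent.S2147
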