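import Cfsg.Statements.S2148
import Cfsg.Agent.Lib.KnownA.MinIndexU3.Exists
import Cfsg.Agent.Lib.Classical.HermMatrixSimple

set_option autoImplicit false
open Cfsg

namespace Cfsg.Agent.S2148

/-- Minimal index of a proper subgroup of the three-dimensional unitary groups: for a field F with q² elements, q ≥ 3 and q ≠ 5, every proper subgroup of PSU₃(q) has index at least q³ + 1, and that index is attained. -/
theorem result {F : Type*} [Field F] [Fintype F] (q : ℕ) (hF : Fintype.card F = q ^ 2) (hq : 3 ≤ q) (h5 : q ≠ 5) : (∀ H : Subgroup (Cfsg.PSU 3 F q), H ≠ ⊤ → q ^ 3 + 1 ≤ H.index) ∧ (∃ H : Subgroup (Cfsg.PSU 3 F q), H.index = q ^ 3 + 1) := by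
  classical
  obtain ⟨σ, hσ, hc⟩ := CfsgLib.Classical.exists_frob hF
  have C : CfsgLib.KnownA.MinIndexU3.U3 (CfsgLib.Classical.stdHerm σ 3) q :=
    ⟨CfsgLib.Classical.stdHerm_isHermitian hc 3, CfsgLib.Classical.stdHerm_sepRight 3, Module.finrank_fin_fun F, hF, hσ⟩
  let e := CfsgLib.Classical.suEquiv (n := 3) hσ
  let π := QuotientGroup.mk' (Subgroup.center (Cfsg.SU 3 F q))
  have hπ : Function.Surjective π := QuotientGroup.mk'_surjective _
  refine ⟨fun H hH => ?_, ?_⟩
  · have h1 := CfsgLib.KnownA.MinIndexU3.index_ge C ((H.comap π).map (e : _ →* _)) hq h5 fun htop => hH ?_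
    · rwa [Subgroup.index_map_equiv, Subgroup.index_comap_of_surjective _ hπ] at h1
    · rw [← Subgroup.index_eq_one, Subgroup.index_map_equiv, Subgroup.index_comap_of_surjective _ hπ] at htop
      exact Subgroup.index_eq_one.1 htop
  · obtain ⟨K, hKc, hKi⟩ := CfsgLib.KnownA.MinIndexU3.exists_point_stabiliser C
    refine ⟨(K.comap e.toMonoidHom).map π, ?_⟩
    rw [Subgroup.index_map_eq _ hπ, Subgroup.index_comap_of_surjective _ e.surjective, hKi]
    intro z hz
    refine hKc (Subgroup.mem_center_iff.2 fun g => ?_)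
    obtain ⟨g', rfl⟩ := e.surjective g
    rw [QuotientGroup.ker_mk', Subgroup.mem_center_iff] at hz
    change e g' * e z = e z * e g'
    rw [← map_mul, ← map_mul, hz g']

end Cfsg.Agent.S2148
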