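import Cfsg.Statements.S2150
import Cfsg.Agent.Lib.KnownA.MinIndexU4.Bound
import Cfsg.Agent.Lib.KnownA.MinIndexU4.Three
import Cfsg.Agent.Lib.Classical.LowRank.SixMinus

set_option autoImplicit false
open Cfsg CfsgLib.Orth CfsgLib.Classical

namespace Cfsg.Agent.S2150

/-- Minimal index of a proper subgroup of the four-dimensional unitary groups: for a field F with q² elements, every proper subgroup of PSU₄(q) has index at least (q + 1)(q³ + 1), and that index is attained. -/
theorem result {F : Type*} [Field F] [Fintype F] (q : ℕ) (hF : Fintype.card F = q ^ 2) (hq : 2 ≤ q) : (∀ H : Subgroup (Cfsg.PSU 4 F q), H ≠ ⊤ → (q + 1) * (q ^ 3 + 1) ≤ H.index) ∧ (∃ H : Subgroup (Cfsg.PSU 4 F q), H.index = (q + 1) * (q ^ 3 + 1)) := by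
  classical
  obtain ⟨p, hc⟩ := CharP.exists F
  obtain ⟨n, hp, hn⟩ := FiniteField.card F p
  rw [hF] at hn
  obtain ⟨k, -, hk⟩ := (Nat.dvd_prime_pow hp).1 (hn ▸ dvd_pow_self q two_ne_zero : q ∣ p ^ (n : ℕ))
  have : Fact p.Prime := ⟨hp⟩
  have hk0 : k ≠ 0 := fun e => by rw [e, pow_zero] at hk; omega
  let F₀ := GaloisField p k
  have : Fintype F₀ := Fintype.ofFinite _
  have hF₀ : Fintype.card F₀ = q := by rw [← Nat.card_eq_fintype_card, GaloisField.card p k hk0, hk]
  obtain ⟨ι⟩ := CfsgLib.KnownC.FieldExt.exists_embedding F₀ F hF₀ hF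
  let : Algebra F₀ F := ι.toAlgebra
  -- an anisotropic binary form
  obtain ⟨w, hw⟩ : ∃ w : F, w ^ q ≠ w := by
    by_contra! hall
    have hsurj : Function.Surjective (algebraMap F₀ F) := fun x =>
      CfsgLib.KnownC.FieldExt.mem_range_of_fixed hF₀ (hall x)
    have := Fintype.card_le_of_surjective _ hsurj
    rw [hF₀, hF] at this
    nlinarith
  have hqq := CfsgLib.KnownC.FieldExt.pow_q_pow_q hF w
  obtain ⟨a, ha⟩ := CfsgLib.KnownC.FieldExt.mem_range_of_fixed hF₀ (x := w + w ^ q)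
    (by rw [CfsgLib.KnownC.FieldExt.add_pow_q (F := F₀) hF₀, hqq, add_comm])
  obtain ⟨b, hb⟩ := CfsgLib.KnownC.FieldExt.mem_range_of_fixed hF₀ (x := w * w ^ q)
    (by rw [mul_pow, hqq, mul_comm])
  have hab : ∀ z₁ z₂ : F₀, z₁ ^ 2 + a * z₁ * z₂ + b * z₂ ^ 2 = 0 → z₁ = 0 ∧ z₂ = 0 := by
    intro z₁ z₂ h
    have h' := congrArg (algebraMap F₀ F) h
    simp only [map_add, map_mul, map_pow, map_zero, ha, hb] at h'
    have hz2 : z₂ = 0 := by
      by_contra hne
      have hz : algebraMap F₀ F z₂ ≠ 0 := by simpa using hne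
      have hprod : (algebraMap F₀ F z₁ + algebraMap F₀ F z₂ * w) *
          (algebraMap F₀ F z₁ + algebraMap F₀ F z₂ * w ^ q) = 0 := by linear_combination h'
      have key : ∀ c : F, algebraMap F₀ F z₁ + algebraMap F₀ F z₂ * c = 0 → c ^ q = c := fun c hc0 => by
        have hc' : c = algebraMap F₀ F (-z₁ / z₂) := by
          rw [map_div₀, map_neg, eq_div_iff hz]; linear_combination hc0
        rw [hc', CfsgLib.KnownC.FieldExt.algebraMap_pow hF₀]
      rcases mul_eq_zero.1 hprod with h0 | h0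
      · exact hw (key w h0)
      · exact hw ((key _ h0).symm.trans hqq)
    subst hz2
    simpa using h
  obtain ⟨e⟩ := CfsgLib.Classical.LowRank.pomega_six_minus hF₀ hF hab
  obtain ⟨p', hp', hc', hnum⟩ := CfsgLib.KnownA.MinIndexU4.num_minus_four (F := F₀) hab
  have : Fact p'.Prime := ⟨hp'⟩
  have hS := CfsgLib.KnownA.MinIndexU4.setup_minus hab
  have hb' := CfsgLib.KnownA.MinIndexU4.pomega_min_index (minusForm F₀ 2 a b) (fun v => minusForm_apply 2 a b v)
    (minusStep 1) (minusStep_spec 1 a b) hS hnum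
  rw [hF₀] at hb'
  have hN : (q + 1) * (q ^ 3 + 1) = q ^ 4 + q ^ 3 + q + 1 := by ring
  constructor
  · intro H hH
    have hne : H.comap e.toMonoidHom ≠ ⊤ := fun htop =>
      hH (Subgroup.comap_injective e.surjective (htop.trans (Subgroup.comap_top _).symm))
    rcases hb'.1 (H.comap e.toMonoidHom) hne with h | ⟨h3, h81⟩
    · rw [Subgroup.index_comap_of_surjective _ e.surjective] at h
      omega
    · rw [Subgroup.index_comap_of_surjective _ e.surjective] at h81
      subst h3
      exact absurd h81 (CfsgLib.KnownA.MinIndexU4.no_index_81 hF H)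
  · obtain ⟨K, hK⟩ := hb'.2
    refine ⟨K.map e.toMonoidHom, ?_⟩
    rw [show (K.map e.toMonoidHom).index = K.index from Subgroup.index_map_equiv K e, hK]
    obtain ⟨P, hP, hPN⟩ := CfsgLib.KnownA.MinIndexOrth.card_points (minusForm F₀ 1 a b)
    rw [hnum.hsing, mul_comm, hF₀] at hP
    have hP' := Nat.eq_of_mul_eq_mul_right (show 0 < q - 1 by omega) hP
    rw [hPN, hP', hF₀, ← Nat.card_eq_fintype_card, Module.natCard_eq_pow_finrank (K := F₀), hS.four,
      Nat.card_eq_fintype_card, hF₀]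
    ring

end Cfsg.Agent.S2150
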