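import Cfsg.Statements.S2154
import Cfsg.Agent.Lib.Chevalley.BorelTits.Optimal
import Cfsg.Agent.Lib.Chevalley.TablesSupp
-- import your own Cfsg.Agent.* helpers here

set_option autoImplicit false
open Cfsg

namespace Cfsg.Agent.S2154

/-- The Borel–Tits property of the finite Chevalley groups of types G₂, B₂, D₄, F₄, E₆, E₇, E₈ over a finite field of characteristic p: for every non-trivial p-subgroup U of the group G there are an element g of G and a proper set J of fundamental roots such that the normaliser of U in G lies in the conjugate by g of the standard parabolic subgroup P_J and U lies in the conjugate by g of its unipotent radical U_J. -/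
theorem result {F : Type*} [Field F] [Fintype F] (p : ℕ) [Fact p.Prime] [CharP F p] (D : Cfsg.Lie.ChevalleyDatum) (hD : D ∈ [Cfsg.Lie.chevG2, Cfsg.Lie.chevB2, Cfsg.Lie.chevD4, Cfsg.Lie.chevF4, Cfsg.Lie.chevE6, Cfsg.Lie.chevE7, Cfsg.Lie.chevE8]) (U : Subgroup (GL D.Idx F)) (hUG : U ≤ D.group F) (hU : IsPGroup p ↥U) (hne : U ≠ ⊥) : ∃ g ∈ D.group F, ∃ J : Set ℕ, (∃ i, i < D.rank ∧ i ∉ J) ∧ Subgroup.normalizer (U : Set (GL D.Idx F)) ⊓ D.group F ≤ (D.parabolicSubgroup F J).map (MulAut.conj g).toMonoidHom ∧ U ≤ (D.unipotentRadical F J).map (MulAut.conj g).toMonoidHom := by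
  obtain ⟨T, hT, hC, hS, hr, rfl⟩ : ∃ T : CfsgLib.Chevalley.Tbl, T.Valid ∧ T.chkComm = true ∧
      T.chkSupp = true ∧ 0 < T.rank ∧ T.datum = D := by
    simp only [List.mem_cons, List.not_mem_nil, or_false] at hD
    rcases hD with rfl | rfl | rfl | rfl | rfl | rfl | rfl
    · exact ⟨_, CfsgLib.Chevalley.Data.G2.valid, CfsgLib.Chevalley.Data.G2.chkComm,
        CfsgLib.Chevalley.Data.G2.chkSupp, by decide, CfsgLib.Chevalley.Data.G2.datum_eq⟩
    · exact ⟨_, CfsgLib.Chevalley.Data.B2.valid, CfsgLib.Chevalley.Data.B2.chkComm,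
        CfsgLib.Chevalley.Data.B2.chkSupp, by decide, CfsgLib.Chevalley.Data.B2.datum_eq⟩
    · exact ⟨_, CfsgLib.Chevalley.Data.D4.valid, CfsgLib.Chevalley.Data.D4.chkComm,
        CfsgLib.Chevalley.Data.D4.chkSupp, by decide, CfsgLib.Chevalley.Data.D4.datum_eq⟩
    · exact ⟨_, CfsgLib.Chevalley.Data.F4.valid, CfsgLib.Chevalley.Data.F4.chkComm,
        CfsgLib.Chevalley.Data.F4.chkSupp, by decide, CfsgLib.Chevalley.Data.F4.datum_eq⟩
    · exact ⟨_, CfsgLib.Chevalley.Data.E6.valid, CfsgLib.Chevalley.Data.E6.chkComm,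
        CfsgLib.Chevalley.Data.E6.chkSupp, by decide, CfsgLib.Chevalley.Data.E6.datum_eq⟩
    · exact ⟨_, CfsgLib.Chevalley.Data.E7.valid, CfsgLib.Chevalley.Data.E7.chkComm,
        CfsgLib.Chevalley.Data.E7.chkSupp, by decide, CfsgLib.Chevalley.Data.E7.datum_eq⟩
    · exact ⟨_, CfsgLib.Chevalley.Data.E8.valid, CfsgLib.Chevalley.Data.E8.chkComm,
        CfsgLib.Chevalley.Data.E8.chkSupp, by decide, CfsgLib.Chevalley.Data.E8.datum_eq⟩
  exact CfsgLib.Chevalley.BorelTits.normalizer_in_parabolic hT hC hS hr p hUG hU hne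

end Cfsg.Agent.S2154
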