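import Cfsg.Statements.S2158
import Cfsg.Agent.Lib.Chevalley.Tables
import Cfsg.Agent.Lib.Chevalley.BN
import Cfsg.Agent.Lib.BNPair.Parabolic

set_option autoImplicit false
open Cfsg

namespace Cfsg.Agent.S2158

/-- In a Chevalley group of type G₂, B₂, D₄, F₄, E₆, E₇ or E₈ over any field, an element of the group whose matrix is the diagonal matrix `ĥ(χ)` of a character `χ` of the root lattice already lies in the diagonal subgroup H (the non-trivial inclusion of the statement that the group meets the group of all such diagonal matrices in H). -/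
theorem result {F : Type*} [Field F] (D : Cfsg.Lie.ChevalleyDatum) (hD : D ∈ [Cfsg.Lie.chevG2, Cfsg.Lie.chevB2, Cfsg.Lie.chevD4, Cfsg.Lie.chevF4, Cfsg.Lie.chevE6, Cfsg.Lie.chevE7, Cfsg.Lie.chevE8]) (χ : ℕ → Fˣ) (hχ : D.IsRootCharacter χ) (g : GL D.Idx F) (hg : g ∈ D.group F)
    (hgχ : (g : Matrix D.Idx D.Idx F) = D.charDiag F χ) : g ∈ D.diagonalSubgroup F := by
  obtain ⟨T, hT, hC, rfl⟩ := CfsgLib.Chevalley.exists_tbl hD
  have hc : T.IsChar χ := by
    refine ⟨fun r hr => ?_, fun r hr s hs u N h => ?_⟩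
    · have := hχ.1 r hr
      rwa [CfsgLib.Chevalley.Tbl.datum_neg hr] at this
    · refine hχ.2 r s u hr hs ?_
      rw [CfsgLib.Chevalley.Tbl.chainRoot_eq hT hr hs le_rfl,
        CfsgLib.Chevalley.Tbl.chain_one, h]
      rfl
  have he : g = T.dU χ := by
    refine Units.ext (hgχ.trans ?_)
    rw [CfsgLib.Chevalley.Tbl.dU_val]
    unfold Cfsg.Lie.ChevalleyDatum.charDiag
    congr 1
    funext i
    rcases i with i | i <;> simp [CfsgLib.Chevalley.Tbl.scale]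
  subst he
  let P := CfsgLib.Chevalley.Tbl.bnPair hT hC F
  have hBn : ∀ χ' : ℕ → Fˣ, T.IsChar χ' → ∀ b ∈ T.datum.borelSubgroup F,
      T.dU χ' * b * (T.dU χ')⁻¹ ∈ T.datum.borelSubgroup F := by
    intro χ' hc' b hb
    obtain ⟨u, hu, h, hh, rfl⟩ := (CfsgLib.Chevalley.Tbl.mem_borel_iff hT).mp hb
    obtain ⟨ψ, -, rfl⟩ := CfsgLib.Chevalley.Tbl.diag_exists_char hT hh
    rw [show T.dU χ' * (u * T.dU ψ) * (T.dU χ')⁻¹ =
      (T.dU χ' * u * (T.dU χ')⁻¹) * (T.dU χ' * T.dU ψ * (T.dU χ')⁻¹) by group]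
    refine mul_mem (Subgroup.mem_sup_left ?_) (Subgroup.mem_sup_right ?_)
    · rw [CfsgLib.Chevalley.Tbl.posUnipotent_rootGen hT] at hu ⊢
      exact (Subgroup.mem_normalizer_iff.mp
        (CfsgLib.Chevalley.Tbl.dU_mem_normalizer hT hc' _) u).mp hu
    · rw [(CfsgLib.Chevalley.Tbl.dU_comm χ' ψ).eq, mul_inv_cancel_right]
      exact hh
  have hmem : (⟨T.dU χ, hg⟩ : ↥(T.datum.group F)) ∈ Subgroup.normalizer (P.B : Set ↥(T.datum.group F)) := by
    rw [Subgroup.mem_normalizer_iff]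
    intro x
    refine ⟨fun hx => hBn χ hc _ hx, fun hx => ?_⟩
    have hc' : T.IsChar χ⁻¹ := ⟨fun r hr => by simp [hc.neg r hr],
      fun r hr s hs u N h => by simp [hc.add r hr s hs u N h, mul_comm]⟩
    have := hBn χ⁻¹ hc' _ hx
    rw [← CfsgLib.Chevalley.Tbl.dU_inv] at this
    show (x : GL T.I F) ∈ T.datum.borelSubgroup F
    simpa [mul_assoc] using this
  rw [CfsgLib.BNPair.Parabolic.normalizer_eq P le_rfl] at hmem
  obtain ⟨u, hu, h, hh, e⟩ := (CfsgLib.Chevalley.Tbl.mem_borel_iff hT).mp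
    (show T.dU χ ∈ T.datum.borelSubgroup F from hmem)
  obtain ⟨ψ, -, rfl⟩ := CfsgLib.Chevalley.Tbl.diag_exists_char hT hh
  have h1 : u⁻¹ * T.dU (χ * ψ⁻¹) = 1 := by
    rw [← CfsgLib.Chevalley.Tbl.dU_mul, e, ← CfsgLib.Chevalley.Tbl.dU_inv]; group
  rw [CfsgLib.Chevalley.Tbl.posUnipotent_rootGen hT] at hu
  have h2 := (CfsgLib.Chevalley.Tbl.uniTri_dU_eq hT (CfsgLib.Chevalley.Tbl.pos_le_uniSub hT (inv_mem hu)).1
    (one_mem (T.uniSub F fun i => -T.deg i)).1 h1).1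
  rw [inv_eq_one] at h2
  rw [e, h2, one_mul]
  exact hh

end Cfsg.Agent.S2158
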