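import Cfsg.Statements.S2160
import Cfsg.Agent.Lib.KnownA.ChevalleyGen

set_option autoImplicit false
open Cfsg CfsgLib.Chevalley CfsgLib.Chevalley.Tbl CfsgLib.KnownA.ChevalleyGen

namespace Cfsg.Agent.S2160

/-- In a Chevalley group of type G₂, B₂, D₄, F₄, E₆, E₇ or E₈ over a finite field, every field automorphism commutes with every graph automorphism. -/
theorem result {F : Type*} [Field F] [Finite F] (D : Cfsg.Lie.ChevalleyDatum) (hD : D ∈ [Cfsg.Lie.chevG2, Cfsg.Lie.chevB2, Cfsg.Lie.chevD4, Cfsg.Lie.chevF4, Cfsg.Lie.chevE6, Cfsg.Lie.chevE7, Cfsg.Lie.chevE8]) (f g : ↥(D.group F) ≃* ↥(D.group F))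
    (hf : D.IsFieldAut f) (hg : D.IsGraphAut g) (y : ↥(D.group F)) : f (g y) = g (f y) := by
  obtain ⟨T, hT, -, rfl⟩ := exists_tbl hD
  obtain ⟨σ, hσ⟩ := hf
  obtain ⟨π, -, hπ⟩ := hg
  have key : ∀ i : Fin T.rank, ∀ t : F, ∀ u : ↥(T.datum.group F),
      ((u : GL T.I F) = T.xU F (T.simple i) t → f (g u) = g (f u)) ∧
      ((u : GL T.I F) = T.xU F (T.neg (T.simple i)) t → f (g u) = g (f u)) := by
    intro i t u
    have hi := simple_lt hT i.2
    have hj := simple_lt hT (π i).2
    refine ⟨fun hu => ?_, fun hu => ?_⟩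
    · rw [← eq_x_iff hT hi, ← datum_simple i.2] at hu
      have hg1 := (hπ u i t).1 hu
      have hf1 := hσ u _ t (by rw [datum_simple i.2]; exact hi) hu
      refine Subtype.ext (Units.ext ((hσ (g u) _ _ (by rw [datum_simple (π i).2]; exact hj) hg1).trans ?_))
      rw [map_pow]
      exact ((hπ (f u) i (σ t)).1 hf1).symm
    · rw [← eq_x_iff hT (neg_lt' hi), ← datum_neg hi, ← datum_simple i.2] at hu
      have hi' : T.datum.neg (T.datum.simple i) < T.datum.nroots := by
        rw [datum_simple i.2, datum_neg hi]; exact neg_lt' hi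
      have hj' : T.datum.neg (T.datum.simple (π i)) < T.datum.nroots := by
        rw [datum_simple (π i).2, datum_neg hj]; exact neg_lt' hj
      have hg1 := (hπ u i t).2 hu
      have hf1 := hσ u _ t hi' hu
      refine Subtype.ext (Units.ext ((hσ (g u) _ _ hj' hg1).trans ?_))
      rw [map_pow]
      exact ((hπ (f u) i (σ t)).2 hf1).symm
  exact DFunLike.congr_fun (hom_ext hT (f.toMonoidHom.comp g.toMonoidHom) (g.toMonoidHom.comp f.toMonoidHom)
    fun i hi t u => key ⟨i, hi⟩ t u) y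

end Cfsg.Agent.S2160
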