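import Cfsg.Statements.S2161
import Cfsg.Agent.Lib.KnownA.ChevalleyGen

set_option autoImplicit false
open Cfsg CfsgLib.Chevalley CfsgLib.Chevalley.Tbl CfsgLib.KnownA.ChevalleyGen

namespace Cfsg.Agent.S2161

/-- For the Chevalley groups of types D₄ and E₆ (one root length) over any field: if `π` is a symmetry of the Dynkin diagram and `φ` is an automorphism sending `x_{p_i}(t)` to `x_{p_{π i}}(t)` and `x_{-p_i}(t)` to `x_{-p_{π i}}(t)` for every fundamental root `p_i`, then for every root `r` there is a sign `ε = ±1` with `φ(x_r(t)) = x_{π·r}(ε t)` for all `t`, where `π·r` is the root whose coefficients are those of `r` permuted by `π`. -/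
theorem result {F : Type*} [Field F] (D : Cfsg.Lie.ChevalleyDatum) (hD : D ∈ [Cfsg.Lie.chevD4, Cfsg.Lie.chevE6])
    (π : Equiv.Perm (Fin D.rank)) (hπ : D.IsDiagramSymmetry π) (φ : ↥(D.group F) ≃* ↥(D.group F))
    (hφ : ∀ (g : ↥(D.group F)) (i : Fin D.rank) (t : F),
      (((g : GL D.Idx F) : Matrix D.Idx D.Idx F) = D.x F (D.simple i) t →
        ((φ g : GL D.Idx F) : Matrix D.Idx D.Idx F) = D.x F (D.simple (π i)) t) ∧
      (((g : GL D.Idx F) : Matrix D.Idx D.Idx F) = D.x F (D.neg (D.simple i)) t →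
        ((φ g : GL D.Idx F) : Matrix D.Idx D.Idx F) = D.x F (D.neg (D.simple (π i))) t))
    (r : ℕ) (hr : r < D.nroots) :
    ∃ ε : F, (ε = 1 ∨ ε = -1) ∧ ∀ (g : ↥(D.group F)) (t : F),
      ((g : GL D.Idx F) : Matrix D.Idx D.Idx F) = D.x F r t →
        ((φ g : GL D.Idx F) : Matrix D.Idx D.Idx F) = D.x F (D.permRoot π r) (ε * t) := by
  have hsym : ∀ i j : Fin D.rank, i ≠ j → D.cartan i (D.simple j) = -(D.bonds i j) := by
    simp only [List.mem_cons, List.not_mem_nil, or_false] at hD
    rcases hD with rfl | rfl <;> decide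
  have hD7 : D ∈ [Cfsg.Lie.chevG2, Cfsg.Lie.chevB2, Cfsg.Lie.chevD4, Cfsg.Lie.chevF4, Cfsg.Lie.chevE6,
      Cfsg.Lie.chevE7, Cfsg.Lie.chevE8] := by
    simp only [List.mem_cons, List.not_mem_nil, or_false] at hD ⊢
    rcases hD with rfl | rfl <;> simp
  obtain ⟨T, hT, -, rfl⟩ := exists_tbl hD7
  have hca : ∀ i j : Fin T.rank, T.ca (π i) (T.simple (π j)) = T.ca i (T.simple j) := by
    intro i j
    by_cases h : i = j
    · subst h
      have h2 : ∀ m : Fin T.rank, T.ca m (T.simple m) = 2 := fun m => by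
        rw [← pair_simple hT m.2, pair_self hT (simple_lt hT m.2)]
      rw [h2, h2]
    · have h1 := hsym i j h
      have h2 := hsym (π i) (π j) (π.injective.ne h)
      rw [hπ i j h] at h2
      rw [datum_simple j.2, datum_cartan i.2 (simple_lt hT j.2)] at h1
      rw [datum_simple (π j).2, datum_cartan (π i).2 (simple_lt hT (π j).2)] at h2
      rw [h1, h2]
  have hr' : r < T.n := hr
  have hΦ : ∀ (u : ↥(T.datum.group F)) (i : Fin T.rank) (t : F),
      ((u : GL T.I F) = T.xU F (T.simple i) t → ((φ u : GL T.I F) = T.xU F (T.simple (π i)) t)) ∧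
      ((u : GL T.I F) = T.xU F (T.neg (T.simple i)) t →
        ((φ u : GL T.I F) = T.xU F (T.neg (T.simple (π i))) t)) := by
    intro u i t
    have hi := simple_lt hT i.2
    have hj := simple_lt hT (π i).2
    refine ⟨fun hu => ?_, fun hu => ?_⟩
    · rw [← eq_x_iff hT hi, ← datum_simple i.2] at hu
      have h := (hφ u i t).1 hu
      rwa [datum_simple (π i).2, eq_x_iff hT hj] at h
    · rw [← eq_x_iff hT (neg_lt' hi), ← datum_neg hi, ← datum_simple i.2] at hu
      have h := (hφ u i t).2 hu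
      rwa [datum_simple (π i).2, datum_neg hj, eq_x_iff hT (neg_lt' hj)] at h
  obtain ⟨r', hlt, hcv, e, he, hφr⟩ := graph_roots hT π hca
    ((T.datum.group F).subtype.comp φ.toMonoidHom) hΦ r hr'
  refine ⟨e, he, fun g t hg => ?_⟩
  rw [permRoot_eq hT π hr' hlt hcv, x_eq_val hT hlt]
  exact congrArg Units.val (hφr g t ((eq_x_iff hT hr' t _).1 hg))

end Cfsg.Agent.S2161
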