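import Cfsg.Statements.S2162
import Cfsg.Agent.Lib.KnownA.SquareZeroSL

set_option autoImplicit false
open Cfsg CfsgLib.KnownA.SquareZero

namespace Cfsg.Agent.S2162

/-- Conjugacy of involutions in the special linear group over a finite field of characteristic two, in dimension at least 3: two elements of order 2 of SL_n(F) are conjugate in SL_n(F) exactly when the matrices a − 1 and b − 1 have the same rank (the rank of a − 1 is the dimension of the commutator space [V, a]). -/
theorem result {F : Type*} [Field F] [Fintype F] [CharP F 2] {n : ℕ} (hn : 3 ≤ n) (a b : Matrix.SpecialLinearGroup (Fin n) F) (ha : orderOf a = 2) (hb : orderOf b = 2) :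
    IsConj a b ↔ ((a : Matrix (Fin n) (Fin n) F) - 1).rank = ((b : Matrix (Fin n) (Fin n) F) - 1).rank := by
  constructor
  · intro h
    obtain ⟨c, hc⟩ := isConj_iff.1 h
    have hmul : c * a = b * c := by rw [← hc]; group
    have hm := congrArg (fun g : Matrix.SpecialLinearGroup (Fin n) F => (g : Matrix (Fin n) (Fin n) F)) hmul
    simp only [Matrix.SpecialLinearGroup.coe_mul] at hm
    have hdet : IsUnit ((c : Matrix (Fin n) (Fin n) F)).det := by rw [c.2]; exact isUnit_one
    rw [← Matrix.rank_mul_eq_right_of_isUnit_det (c : Matrix (Fin n) (Fin n) F) _ hdet,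
      Matrix.mul_sub, Matrix.mul_one, hm, ← Matrix.rank_mul_eq_left_of_isUnit_det (c : Matrix (Fin n) (Fin n) F)
        ((b : Matrix (Fin n) (Fin n) F) - 1) hdet, Matrix.sub_mul, Matrix.one_mul]
  · intro hrank
    exact sl_conj (fun x => by
      obtain ⟨r, hr⟩ := FiniteField.isSquare_of_char_two (F := F) (ringChar.eq F 2) x
      exact ⟨r, hr⟩) a b ha hb hrank

end Cfsg.Agent.S2162
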