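import Cfsg.Statements.S2163
import Cfsg.Agent.Lib.KnownA.RankAux

set_option autoImplicit false
open Cfsg

namespace Cfsg.Agent.S2163

theorem result {F : Type*} [Field F] [Fintype F] [CharP F 2] {n : ℕ} (hn : 3 ≤ n) (ℓ : ℕ) (h1 : 1 ≤ ℓ) (h2 : 2 * ℓ ≤ n) :
    ∃ a : Matrix.SpecialLinearGroup (Fin n) F, (a : Matrix (Fin n) (Fin n) F) = 1 + Matrix.of (fun i j : Fin n => if j.val < ℓ ∧ i.val = j.val + (n - ℓ) then (1 : F) else 0) ∧ orderOf a = 2 ∧ ((a : Matrix (Fin n) (Fin n) F) - 1).rank = ℓ := by
  set N : Matrix (Fin n) (Fin n) F := Matrix.of (fun i j : Fin n => if j.val < ℓ ∧ i.val = j.val + (n - ℓ) then (1 : F) else 0) with hN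
  have hzero : ∀ i j : Fin n, i ≤ j → N i j = 0 := by
    intro i j hij
    rw [hN, Matrix.of_apply, if_neg]
    rintro ⟨-, h⟩
    have : i.val ≤ j.val := hij
    omega
  have hdet : (1 + N).det = 1 := by
    rw [Matrix.det_of_lowerTriangular]
    · refine Finset.prod_eq_one fun i _ => ?_
      simp [hzero i i le_rfl]
    · intro i j hij
      have hij' : i < j := hij
      simp [hzero i j hij'.le, hij'.ne]
  have hsq : N * N = 0 := by
    ext i j
    rw [Matrix.mul_apply, Matrix.zero_apply]
    refine Finset.sum_eq_zero fun k _ => ?_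
    by_cases hA : k.val < ℓ ∧ i.val = k.val + (n - ℓ)
    · have hB : ¬ (j.val < ℓ ∧ k.val = j.val + (n - ℓ)) := by rintro ⟨a, b⟩; omega
      simp [hN, hB]
    · simp [hN, hA]
  let a : Matrix.SpecialLinearGroup (Fin n) F := ⟨1 + N, hdet⟩
  have ha : (a : Matrix (Fin n) (Fin n) F) = 1 + N := rfl
  refine ⟨a, rfl, ?_, ?_⟩
  · refine orderOf_eq_prime ?_ ?_
    · refine Subtype.ext ?_
      rw [Matrix.SpecialLinearGroup.coe_pow, ha, Matrix.SpecialLinearGroup.coe_one]
      have : (N + N) = 0 := by ext i j; exact CharTwo.add_self_eq_zero _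
      rw [pow_two]
      simp [Matrix.add_mul, Matrix.mul_add, hsq, add_assoc, this]
    · intro h
      have h' : (1 : Matrix (Fin n) (Fin n) F) + N = 1 := congrArg Subtype.val h
      have := congrFun (congrFun h' ⟨n - ℓ, by omega⟩) ⟨0, by omega⟩
      simp [hN, Fin.ext_iff, show n - ℓ ≠ 0 by omega, show 0 < ℓ by omega] at this
  · show ((1 + N) - 1).rank = ℓ
    rw [add_sub_cancel_left]
    let P : Matrix (Fin n) (Fin ℓ) F := Matrix.of fun i c => if i.val = c.val + (n - ℓ) then 1 else 0
    let Q : Matrix (Fin ℓ) (Fin n) F := Matrix.of fun c j => if j.val = c.val then 1 else 0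
    have hfac : N = P * Q := by
      ext i j
      rw [Matrix.mul_apply]
      by_cases hj : j.val < ℓ
      · rw [Finset.sum_eq_single ⟨j.val, hj⟩]
        · by_cases hA : i.val = j.val + (n - ℓ)
          · simp [hN, P, Q, hj, hA]
          · simp [hN, P, Q, hA]
        · intro c _ hc
          have : j.val ≠ c.val := fun e => hc (Fin.ext e.symm)
          simp [Q, this]
        · simp
      · rw [Finset.sum_eq_zero]
        · simp [hN, hj]
        · intro c _
          have : j.val ≠ c.val := fun e => hj (e ▸ c.2)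
          simp [Q, this]
    rw [hfac]
    refine CfsgLib.KnownA.RankAux.rank_eq_of_factor P Q
      (Matrix.of fun c i => if i.val = c.val + (n - ℓ) then 1 else 0)
      (Matrix.of fun j c => if j.val = c.val then 1 else 0) ?_ ?_
    · ext c d
      rw [Matrix.mul_apply, Finset.sum_eq_single ⟨c.val + (n - ℓ), by omega⟩]
      · simp [P, Matrix.one_apply, Fin.ext_iff]
      · intro b _ hb
        have : b.val ≠ c.val + (n - ℓ) := fun e => hb (Fin.ext e)
        simp [this]
      · simp
    · ext c d
      rw [Matrix.mul_apply, Finset.sum_eq_single ⟨c.val, by omega⟩]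
      · simp [Q, Matrix.one_apply, Fin.ext_iff]
      · intro b _ hb
        have : b.val ≠ c.val := fun e => hb (Fin.ext e)
        simp [Q, this]
      · simp

end Cfsg.Agent.S2163
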