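import Cfsg.Statements.S2164
import Cfsg.Agent.Lib.KnownA.UnitaryInvolutions

set_option autoImplicit false
open Cfsg Matrix CfsgLib.KnownA.UnitaryInvolutions

namespace Cfsg.Agent.S2164

/-- Conjugacy of involutions in the special unitary group SU_n(q), q even, n ≥ 3, realised over the field F with q² elements as the matrices of determinant 1 preserving the form Σ u_i v_i^q: for two elements of order 2 of SU_n(q) the following are equivalent — they are conjugate in SU_n(q); they are conjugate in SL_n(F); the matrices a − 1 and b − 1 have the same rank. -/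
theorem result {F : Type*} [Field F] [Fintype F] [CharP F 2] {n q : ℕ} (hF : Fintype.card F = q ^ 2) (hn : 3 ≤ n) (a b : ↥(Cfsg.SU n F q)) (ha : orderOf a = 2) (hb : orderOf b = 2) :
    (IsConj a b ↔ IsConj (a : Matrix.SpecialLinearGroup (Fin n) F) (b : Matrix.SpecialLinearGroup (Fin n) F)) ∧
    (IsConj a b ↔ (((a : Matrix.SpecialLinearGroup (Fin n) F) : Matrix (Fin n) (Fin n) F) - 1).rank = (((b : Matrix.SpecialLinearGroup (Fin n) F) : Matrix (Fin n) (Fin n) F) - 1).rank) := by
  classical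
  obtain ⟨j, rfl⟩ : ∃ j, q = 2 ^ j := by
    obtain ⟨e, -, he⟩ := FiniteField.card F 2
    have hdvd : q ∣ 2 ^ (e : ℕ) := he ▸ hF ▸ dvd_pow_self q two_ne_zero
    obtain ⟨j, -, hj⟩ := (Nat.dvd_prime_pow Nat.prime_two).1 hdvd
    exact ⟨j, hj⟩
  set σ : F →+* F := iterateFrobenius F 2 j with hσdef
  have hσ : ∀ x, σ (σ x) = x := fun x => by
    simp only [hσdef, iterateFrobenius_def]
    rw [← pow_mul, ← sq, ← hF, FiniteField.pow_card]
  have hσ1 : ∃ t, t + σ t ≠ 0 := by
    obtain ⟨g, hg⟩ := IsCyclic.exists_generator (α := Fˣ)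
    refine ⟨g, fun h => ?_⟩
    rw [CharTwo.add_eq_zero, hσdef, iterateFrobenius_def, ← Units.val_pow_eq_pow_val, Units.val_inj] at h
    have h2j : 2 ≤ 2 ^ j := by
      rcases Nat.eq_zero_or_pos j with rfl | hj
      · have := Fintype.one_lt_card (α := F)
        simp [hF] at this
      · exact Nat.le_self_pow hj.ne' 2
    obtain ⟨i, hi⟩ : ∃ i, 2 ^ j = i + 1 := ⟨2 ^ j - 1, by omega⟩
    rw [hi, pow_succ] at h
    have h1 : g ^ i = 1 := (right_eq_mul.1 h)
    have hord : orderOf g = Fintype.card F - 1 := by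
      rw [orderOf_eq_card_of_forall_mem_zpowers hg, Nat.card_units, Nat.card_eq_fintype_card]
    have := Nat.le_of_dvd (by omega) (orderOf_dvd_of_pow_eq_one h1)
    rw [hord, hF, hi] at this
    have : (i + 1) ^ 2 = i * i + 2 * i + 1 := by ring
    have : i * 1 ≤ i * i := Nat.mul_le_mul_left i (by omega)
    omega
  have hherm : ∀ u v, hermForm n F (2 ^ j) u v = (uForm n hσ).B u v := fun u v => by
    simp [hermForm, uForm, hσdef, iterateFrobenius_def]
  let M : ↥(SU n F (2 ^ j)) → Matrix (Fin n) (Fin n) F := fun x =>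
    ((x : Matrix.SpecialLinearGroup (Fin n) F) : Matrix (Fin n) (Fin n) F)
  have hpres : ∀ (x : ↥(SU n F (2 ^ j))) u v,
      (uForm n hσ).B (M x *ᵥ u) (M x *ᵥ v) = (uForm n hσ).B u v := fun x u v => by
    rw [← hherm, ← hherm]
    exact x.2 u v
  have hsq : ∀ x : ↥(SU n F (2 ^ j)), orderOf x = 2 → M x * M x = 1 := fun x hx => by
    have h := pow_orderOf_eq_one x
    rw [hx, sq] at h
    simpa [M] using congrArg M h
  have h1 : IsConj a b → IsConj (a : Matrix.SpecialLinearGroup (Fin n) F) (b : Matrix.SpecialLinearGroup (Fin n) F) := by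
    intro h
    obtain ⟨c, rfl⟩ := isConj_iff.1 h
    exact isConj_iff.2 ⟨c, by simp⟩
  have h2 : IsConj (a : Matrix.SpecialLinearGroup (Fin n) F) (b : Matrix.SpecialLinearGroup (Fin n) F) →
      (M a - 1).rank = (M b - 1).rank := by
    intro h
    obtain ⟨c, hc⟩ := isConj_iff.1 h
    have hmul : c * (a : Matrix.SpecialLinearGroup (Fin n) F) = (b : Matrix.SpecialLinearGroup (Fin n) F) * c := by
      rw [← hc]; group
    have hm : (c : Matrix (Fin n) (Fin n) F) * M a = M b * (c : Matrix (Fin n) (Fin n) F) := by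
      simpa [M] using congrArg (fun g : Matrix.SpecialLinearGroup (Fin n) F => (g : Matrix (Fin n) (Fin n) F)) hmul
    have hdet : IsUnit ((c : Matrix (Fin n) (Fin n) F)).det := by rw [c.2]; exact isUnit_one
    rw [← Matrix.rank_mul_eq_right_of_isUnit_det (c : Matrix (Fin n) (Fin n) F) _ hdet,
      Matrix.mul_sub, Matrix.mul_one, hm, ← Matrix.rank_mul_eq_left_of_isUnit_det (c : Matrix (Fin n) (Fin n) F)
        (M b - 1) hdet, Matrix.sub_mul, Matrix.one_mul]
  have h3 : (M a - 1).rank = (M b - 1).rank → IsConj a b := by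
    intro hr
    have ha1 : M a ≠ 1 := fun h => by
      have : a = 1 := Subtype.ext (Subtype.ext h)
      simp [this] at ha
    obtain ⟨C, hdet, hC, hcomm⟩ :=
      suConj hσ hσ1 (M a) (M b) (hsq a ha) (hsq b hb) ha1 (hpres a) (hpres b) hr
    refine isConj_iff.2 ⟨⟨⟨C, hdet⟩, fun u v => ?_⟩, mul_inv_eq_of_eq_mul (Subtype.ext (Subtype.ext ?_))⟩
    · rw [hherm, hherm]; exact hC u v
    · show C * M a = M b * C
      exact hcomm
  exact ⟨⟨h1, fun h => h3 (h2 h)⟩, ⟨fun h => h2 (h1 h), h3⟩⟩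

end Cfsg.Agent.S2164
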