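import Cfsg.Statements.S2165
import Cfsg.Agent.Lib.KnownA.RankAux

set_option autoImplicit false
open Cfsg

namespace Cfsg.Agent.S2165

/-- The involution exchanging `j` and `j + (n - ℓ)` for `j < ℓ`. -/
def swapFun {n : ℕ} (ℓ : ℕ) (h2 : 2 * ℓ ≤ n) (i : Fin n) : Fin n :=
  if h : i.val < ℓ then ⟨i.val + (n - ℓ), by omega⟩
  else if h' : n - ℓ ≤ i.val then ⟨i.val - (n - ℓ), by omega⟩ else i

theorem swapFun_invol {n : ℕ} (ℓ : ℕ) (h2 : 2 * ℓ ≤ n) (i : Fin n) : swapFun ℓ h2 (swapFun ℓ h2 i) = i := by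
  by_cases hA : i.val < ℓ
  · have hB : ¬ (i.val + (n - ℓ) < ℓ) := by omega
    have hC : n - ℓ ≤ i.val + (n - ℓ) := by omega
    ext; simp [swapFun, hA, hB]
  · by_cases hB : n - ℓ ≤ i.val
    · have hC : i.val - (n - ℓ) < ℓ := by omega
      ext; simp [swapFun, hA, hB, hC]
    · simp [swapFun, hA, hB]

theorem result {F : Type*} [Field F] [Fintype F] [CharP F 2] {n q : ℕ} (hF : Fintype.card F = q ^ 2) (hn : 3 ≤ n) (ℓ : ℕ) (h1 : 1 ≤ ℓ) (h2 : 2 * ℓ ≤ n) :
    ∃ a : ↥(Cfsg.SU n F q), (((a : Matrix.SpecialLinearGroup (Fin n) F) : Matrix (Fin n) (Fin n) F) = Matrix.of (fun i j : Fin n => if (j.val < ℓ ∧ i.val = j.val + (n - ℓ)) ∨ (i.val < ℓ ∧ j.val = i.val + (n - ℓ)) ∨ (i = j ∧ ℓ ≤ i.val ∧ i.val < n - ℓ) then (1 : F) else 0)) ∧ orderOf a = 2 ∧ ((((a : Matrix.SpecialLinearGroup (Fin n) F) : Matrix (Fin n) (Fin n) F)) - 1).rank = ℓ := by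
  classical
  set M : Matrix (Fin n) (Fin n) F := Matrix.of (fun i j : Fin n => if (j.val < ℓ ∧ i.val = j.val + (n - ℓ)) ∨ (i.val < ℓ ∧ j.val = i.val + (n - ℓ)) ∨ (i = j ∧ ℓ ≤ i.val ∧ i.val < n - ℓ) then (1 : F) else 0) with hM
  let π : Equiv.Perm (Fin n) := ⟨swapFun ℓ h2, swapFun ℓ h2, swapFun_invol ℓ h2, swapFun_invol ℓ h2⟩
  have hMπ : M = π.permMatrix F := by
    ext i j
    rw [Equiv.Perm.permMatrix, PEquiv.toMatrix_apply, hM, Matrix.of_apply]
    refine if_congr ?_ rfl rfl
    simp only [π, Equiv.toPEquiv_apply, Option.mem_def, Option.some.injEq, Equiv.coe_fn_mk, swapFun]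
    split_ifs with ha hb <;> simp [Fin.ext_iff] <;> omega
  have hdet : M.det = 1 := by
    rw [hMπ, Matrix.det_permutation]
    rcases Int.units_eq_one_or (Equiv.Perm.sign π) with h | h <;> simp [h, CharTwo.neg_eq]
  have hmv : ∀ u : Fin n → F, M.mulVec u = fun i => u (π i) := by
    intro u; rw [hMπ, Matrix.permMatrix_mulVec]; rfl
  let a₀ : Matrix.SpecialLinearGroup (Fin n) F := ⟨M, hdet⟩
  have hmem : a₀ ∈ Cfsg.SU n F q := by
    intro u v
    show hermForm n F q (M.mulVec u) (M.mulVec v) = hermForm n F q u v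
    rw [hmv, hmv]
    exact Equiv.sum_comp π (fun i => u i * (v i) ^ q)
  refine ⟨⟨a₀, hmem⟩, rfl, orderOf_eq_prime ?_ ?_, ?_⟩
  · refine Subtype.ext (Matrix.SpecialLinearGroup.ext _ _ fun i j => ?_)
    have hMM : M * M = 1 := by
      refine Matrix.ext_of_mulVec_single fun k => ?_
      rw [← Matrix.mulVec_mulVec, hmv, hmv, Matrix.one_mulVec]
      funext i
      show (Pi.single k 1 : Fin n → F) (swapFun ℓ h2 (swapFun ℓ h2 i)) = _
      rw [swapFun_invol]
    have h : ((a₀ ^ 2 : Matrix.SpecialLinearGroup (Fin n) F) : Matrix (Fin n) (Fin n) F) = 1 := by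
      rw [Matrix.SpecialLinearGroup.coe_pow, pow_two]; exact hMM
    exact congrFun (congrFun h i) j
  · intro h
    have h' : M = 1 := congrArg (fun x : ↥(Cfsg.SU n F q) => ((x : Matrix.SpecialLinearGroup (Fin n) F) : Matrix (Fin n) (Fin n) F)) h
    have := congrFun (congrFun h' ⟨n - ℓ, by omega⟩) ⟨0, by omega⟩
    simp [hM, Matrix.one_apply, Fin.ext_iff, show n - ℓ ≠ 0 by omega, show 0 < ℓ by omega] at this
  · show (M - 1).rank = ℓ
    let P : Matrix (Fin n) (Fin ℓ) F := Matrix.of fun i c => if i.val = c.val ∨ i.val = c.val + (n - ℓ) then 1 else 0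
    let A : Matrix (Fin ℓ) (Fin n) F := Matrix.of fun c i => if i.val = c.val then 1 else 0
    have hAP : A * P = 1 := by
      ext c d
      rw [Matrix.mul_apply, Finset.sum_eq_single ⟨c.val, by omega⟩]
      · by_cases hcd : c = d
        · subst hcd; simp [A, P]
        · have : c.val ≠ d.val := fun e => hcd (Fin.ext e)
          simp [A, P, hcd, this, show c.val ≠ d.val + (n - ℓ) by omega]
      · intro b _ hb
        have : b.val ≠ c.val := fun e => hb (Fin.ext e)
        simp [A, this]
      · simp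
    have hfac : M - 1 = P * P.transpose := by
      ext i j
      rw [Matrix.mul_apply, Matrix.sub_apply, Matrix.one_apply, hM, Matrix.of_apply]
      simp only [P, Matrix.transpose_apply, Matrix.of_apply]
      by_cases hi : i.val < ℓ
      · rw [Finset.sum_eq_single ⟨i.val, hi⟩]
        · rcases eq_or_ne i j with rfl | hij
          · simp [hi, show ¬ (i.val = i.val + (n - ℓ)) by omega, show ¬ ℓ ≤ i.val by omega, show n - ℓ ≠ 0 by omega, CharTwo.neg_eq]
          · have : i.val ≠ j.val := fun e => hij (Fin.ext e)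
            rw [if_neg hij]
            simp only [true_or, if_true, one_mul, sub_zero]
            exact if_congr (by simp [hij]; omega) rfl rfl
        · intro c _ hc
          have : c.val ≠ i.val := fun e => hc (Fin.ext e)
          rw [if_neg (show ¬ (i.val = c.val ∨ i.val = c.val + (n - ℓ)) by omega), zero_mul]
        · simp
      · by_cases hi' : n - ℓ ≤ i.val
        · rw [Finset.sum_eq_single ⟨i.val - (n - ℓ), by omega⟩]
          · rcases eq_or_ne i j with rfl | hij
            · simp [hi, show i.val - (n - ℓ) + (n - ℓ) = i.val by omega, show ¬ i.val < n - ℓ by omega, CharTwo.neg_eq]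
            · have : i.val ≠ j.val := fun e => hij (Fin.ext e)
              rw [if_neg hij, if_pos (Or.inr (show i.val = i.val - (n - ℓ) + (n - ℓ) by omega))]
              simp only [one_mul, sub_zero]
              exact if_congr (by simp [hij]; omega) rfl rfl
          · intro c _ hc
            have : c.val ≠ i.val - (n - ℓ) := fun e => hc (Fin.ext e)
            rw [if_neg (show ¬ (i.val = c.val ∨ i.val = c.val + (n - ℓ)) by omega), zero_mul]
          · simp
        · rw [Finset.sum_eq_zero]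
          · rcases eq_or_ne i j with rfl | hij
            · simp [show ℓ ≤ i.val by omega, show i.val < n - ℓ by omega]
            · have : i.val ≠ j.val := fun e => hij (Fin.ext e)
              rw [if_neg hij, if_neg, sub_zero]
              simp [hij]; omega
          · intro c _
            rw [if_neg (show ¬ (i.val = c.val ∨ i.val = c.val + (n - ℓ)) by omega), zero_mul]
    rw [hfac]
    refine CfsgLib.KnownA.RankAux.rank_eq_of_factor P P.transpose A A.transpose hAP ?_
    rw [← Matrix.transpose_mul, hAP, Matrix.transpose_one]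

end Cfsg.Agent.S2165
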