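import Cfsg.Statements.S2166
import Cfsg.Agent.Lib.KnownA.SympInvolutions

set_option autoImplicit false
open Cfsg Matrix CfsgLib.KnownA.SympInvolutions

namespace Cfsg.Agent.S2166

/-- Conjugacy of involutions in the symplectic group Sp_{2m}(F), F a finite field of characteristic two, m ≥ 2 (Sp taken as the matrices A with A J Aᵀ = J, acting on column vectors, with the alternating form f(u, v) = u ⬝ (J v)). For an involution t write V(t) for the set of vectors v with f(v, t v) = 0 (a subspace). Two involutions a, b are conjugate in Sp_{2m}(F) exactly when a − 1 and b − 1 have the same rank and, in case that rank is even, V(a) and V(b) have the same number of elements. -/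
theorem result {F : Type*} [Field F] [Fintype F] [CharP F 2] {m : ℕ} (hm : 2 ≤ m) (a b : ↥(Matrix.symplecticGroup (Fin m) F)) (ha : orderOf a = 2) (hb : orderOf b = 2) :
    IsConj a b ↔ ((((a : ↥(Matrix.symplecticGroup (Fin m) F)) : Matrix (Fin m ⊕ Fin m) (Fin m ⊕ Fin m) F) - 1).rank = (((b : ↥(Matrix.symplecticGroup (Fin m) F)) : Matrix (Fin m ⊕ Fin m) (Fin m ⊕ Fin m) F) - 1).rank ∧
      (Even (((a : ↥(Matrix.symplecticGroup (Fin m) F)) : Matrix (Fin m ⊕ Fin m) (Fin m ⊕ Fin m) F) - 1).rank → Nat.card {v : Fin m ⊕ Fin m → F // Cfsg.sympForm m F v (Matrix.mulVec ((a : ↥(Matrix.symplecticGroup (Fin m) F)) : Matrix (Fin m ⊕ Fin m) (Fin m ⊕ Fin m) F) v) = 0} = Nat.card {v : Fin m ⊕ Fin m → F // Cfsg.sympForm m F v (Matrix.mulVec ((b : ↥(Matrix.symplecticGroup (Fin m) F)) : Matrix (Fin m ⊕ Fin m) (Fin m ⊕ Fin m) F) v) = 0})) := by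
  classical
  constructor
  · intro h
    obtain ⟨c, hc⟩ := isConj_iff.1 h
    have hmul : c * a = b * c := by rw [← hc]; group
    have hm : (c : Matrix (Fin m ⊕ Fin m) (Fin m ⊕ Fin m) F) * a =
        (b : Matrix (Fin m ⊕ Fin m) (Fin m ⊕ Fin m) F) * c :=
      congrArg (fun g : symplecticGroup (Fin m) F => (g : Matrix (Fin m ⊕ Fin m) (Fin m ⊕ Fin m) F)) hmul
    have hdet : IsUnit (c : Matrix (Fin m ⊕ Fin m) (Fin m ⊕ Fin m) F).det := SymplecticGroup.symplectic_det c.2
    refine ⟨?_, fun _ => ?_⟩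
    · rw [← rank_mul_eq_right_of_isUnit_det (c : Matrix (Fin m ⊕ Fin m) (Fin m ⊕ Fin m) F) _ hdet,
        Matrix.mul_sub, Matrix.mul_one, hm, ← rank_mul_eq_left_of_isUnit_det
          (c : Matrix (Fin m ⊕ Fin m) (Fin m ⊕ Fin m) F)
          ((b : Matrix (Fin m ⊕ Fin m) (Fin m ⊕ Fin m) F) - 1) hdet, Matrix.sub_mul, Matrix.one_mul]
    · have hinj : Function.Bijective fun v : Fin m ⊕ Fin m → F =>
          (c : Matrix (Fin m ⊕ Fin m) (Fin m ⊕ Fin m) F) *ᵥ v :=
        ⟨mulVec_injective_of_isUnit ((isUnit_iff_isUnit_det _).2 hdet),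
          mulVec_surjective_iff_isUnit.2 ((isUnit_iff_isUnit_det _).2 hdet)⟩
      refine Nat.card_congr (Equiv.subtypeEquiv (Equiv.ofBijective _ hinj) fun v => ?_)
      rw [Equiv.ofBijective_apply, mulVec_mulVec, ← hm, ← mulVec_mulVec,
        (CfsgLib.Classical.mem_symplecticGroup_iff_preserves m).1 c.2]
  · rintro ⟨hrank, hcard⟩
    refine spConj a b ha hb hrank fun hev => ?_
    have hset : ∀ (x : symplecticGroup (Fin m) F) (v : Fin m ⊕ Fin m → F),
        sympForm m F v (nil x v) =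
          sympForm m F v ((x : Matrix (Fin m ⊕ Fin m) (Fin m ⊕ Fin m) F) *ᵥ v) := fun x v => by
      have hl : ∀ u v w : Fin m ⊕ Fin m → F, sympForm m F (u - v) w = sympForm m F u w - sympForm m F v w :=
        (spForm (F := F) (m := m)).sub_left
      rw [nil_apply, sympForm_symm, hl]
      show sympForm m F _ v - sympForm m F v v = _
      rw [CfsgLib.Classical.sympForm_self m, sub_zero, sympForm_symm]
    have key : ∀ x y : symplecticGroup (Fin m) F,
        Nat.card {v : Fin m ⊕ Fin m → F // sympForm m F v ((x : Matrix (Fin m ⊕ Fin m) (Fin m ⊕ Fin m) F) *ᵥ v) = 0} =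
          Nat.card {v : Fin m ⊕ Fin m → F // sympForm m F v ((y : Matrix (Fin m ⊕ Fin m) (Fin m ⊕ Fin m) F) *ᵥ v) = 0} →
        (∀ v : Fin m ⊕ Fin m → F, sympForm m F v (nil x v) = 0) →
        ∀ v : Fin m ⊕ Fin m → F, sympForm m F v (nil y v) = 0 := by
      intro x y hxy hx v
      rw [Nat.card_congr (Equiv.subtypeUnivEquiv fun v => (hset x v) ▸ hx v)] at hxy
      by_contra hv
      rw [hset] at hv
      have := Finite.card_subtype_lt (p := fun v : Fin m ⊕ Fin m → F =>
        sympForm m F v ((y : Matrix (Fin m ⊕ Fin m) (Fin m ⊕ Fin m) F) *ᵥ v) = 0) hv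
      omega
    exact ⟨key a b (hcard hev), key b a (hcard hev).symm⟩

end Cfsg.Agent.S2166
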