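import Cfsg.Statements.S2167
import Cfsg.Agent.Lib.KnownA.RankAux

set_option autoImplicit false
open Cfsg Matrix

namespace Cfsg.Agent.S2167

theorem result {F : Type*} [Field F] [Fintype F] [CharP F 2] {m : ℕ} (hm : 2 ≤ m) (a : ↥(Matrix.symplecticGroup (Fin m) F)) (ha : orderOf a = 2) :
    (Nat.card {v : Fin m ⊕ Fin m → F // Cfsg.sympForm m F v (Matrix.mulVec ((a : ↥(Matrix.symplecticGroup (Fin m) F)) : Matrix (Fin m ⊕ Fin m) (Fin m ⊕ Fin m) F) v) = 0} = Fintype.card F ^ (2 * m) ∨ Nat.card {v : Fin m ⊕ Fin m → F // Cfsg.sympForm m F v (Matrix.mulVec ((a : ↥(Matrix.symplecticGroup (Fin m) F)) : Matrix (Fin m ⊕ Fin m) (Fin m ⊕ Fin m) F) v) = 0} * Fintype.card F = Fintype.card F ^ (2 * m)) ∧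
    ((∀ v : Fin m ⊕ Fin m → F, Cfsg.sympForm m F v (Matrix.mulVec ((a : ↥(Matrix.symplecticGroup (Fin m) F)) : Matrix (Fin m ⊕ Fin m) (Fin m ⊕ Fin m) F) v) = 0) → Even (((a : ↥(Matrix.symplecticGroup (Fin m) F)) : Matrix (Fin m ⊕ Fin m) (Fin m ⊕ Fin m) F) - 1).rank) := by
  set A : Matrix (Fin m ⊕ Fin m) (Fin m ⊕ Fin m) F := (a : Matrix (Fin m ⊕ Fin m) (Fin m ⊕ Fin m) F) with hAdef
  have hneg : ∀ x : F, -x = x := fun x => CharTwo.neg_eq x
  have hA2 : A * A = 1 := by
    have : (a * a : ↥(Matrix.symplecticGroup (Fin m) F)) = 1 := by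
      have := pow_orderOf_eq_one a; rwa [ha, pow_two] at this
    simpa using congrArg Subtype.val this
  have hsymm : ∀ u v, sympForm m F u v = sympForm m F v u := by
    intro u v
    rw [sympForm, sympForm, dotProduct_mulVec, dotProduct_comm, ← mulVec_transpose, J_transpose]
    simp [neg_mulVec, hneg]
  have halt : ∀ u, sympForm m F u u = 0 := by
    intro u
    simp [sympForm, J, dotProduct, mulVec, fromBlocks, Fintype.sum_sum_type, Matrix.one_apply, mul_comm]
  have hpres : ∀ u v, sympForm m F (A *ᵥ u) (A *ᵥ v) = sympForm m F u v := by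
    intro u v
    have h := SymplecticGroup.mem_iff'.1 a.2
    have h' : Aᵀ * (J (Fin m) F * A) = J (Fin m) F := by rw [← Matrix.mul_assoc]; exact h
    show (A *ᵥ u) ⬝ᵥ (J (Fin m) F *ᵥ (A *ᵥ v)) = u ⬝ᵥ (J (Fin m) F *ᵥ v)
    rw [← vecMul_transpose, ← dotProduct_mulVec, mulVec_mulVec, mulVec_mulVec, Matrix.mul_assoc, h']
  have hswap : ∀ u v, sympForm m F u (A *ᵥ v) = sympForm m F v (A *ᵥ u) := by
    intro u v
    rw [← hpres u (A *ᵥ v), mulVec_mulVec, hA2, one_mulVec, hsymm]
  set f : (Fin m ⊕ Fin m → F) → F := fun v => sympForm m F v (A *ᵥ v) with hf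
  have hadd : ∀ u v, f (u + v) = f u + f v := by
    intro u v
    have h1 : f (u + v) = f u + f v + (sympForm m F u (A *ᵥ v) + sympForm m F v (A *ᵥ u)) := by
      simp only [hf, sympForm, mulVec_add, add_dotProduct, dotProduct_add]; ring
    rw [h1, hswap u v, CharTwo.add_self_eq_zero, add_zero]
  have hsmul : ∀ (c : F) v, f (c • v) = c ^ 2 * f v := by
    intro c v
    simp only [hf, sympForm, mulVec_smul, smul_dotProduct, dotProduct_smul, smul_eq_mul]; ring
  let φ : F ≃+* F := frobeniusEquiv F 2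
  let g : (Fin m ⊕ Fin m → F) →ₗ[F] F :=
    { toFun := fun v => φ.symm (f v)
      map_add' := fun u v => by rw [hadd, map_add]
      map_smul' := fun c v => by
        rw [hsmul, map_mul, RingHom.id_apply, smul_eq_mul]
        congr 1
        apply φ.injective
        rw [RingEquiv.apply_symm_apply]; simp [φ, frobenius_def] }
  have hmem : ∀ v, f v = 0 ↔ v ∈ LinearMap.ker g := fun v => by
    show f v = 0 ↔ φ.symm (f v) = 0
    exact ⟨fun h => by rw [h, map_zero], fun h => by simpa using congrArg φ h⟩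
  refine ⟨?_, fun hall => ?_⟩
  · have hc : Nat.card {v // f v = 0} = Fintype.card F ^ Module.finrank F ↥(LinearMap.ker g) := by
      rw [Nat.card_congr (Equiv.subtypeEquivRight hmem), ← Nat.card_eq_fintype_card]
      exact Module.natCard_eq_pow_finrank
    have hdim : Module.finrank F (Fin m ⊕ Fin m → F) = 2 * m := by simp; omega
    have hsum := LinearMap.finrank_range_add_finrank_ker g
    have hr : Module.finrank F ↥(LinearMap.range g) ≤ 1 :=
      (Submodule.finrank_le _).trans_eq (Module.finrank_self F)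
    rcases Nat.le_one_iff_eq_zero_or_eq_one.1 hr with h | h
    · left; show Nat.card {v // f v = 0} = _; rw [hc]; congr 1; omega
    · right; show Nat.card {v // f v = 0} * _ = _; rw [hc, ← pow_succ]; congr 1; omega
  · let B : (Fin m ⊕ Fin m → F) →ₗ[F] (Fin m ⊕ Fin m → F) →ₗ[F] F :=
      Matrix.toLinearMap₂' F (J (Fin m) F * (A - 1))
    have hB : ∀ u v, B u v = sympForm m F u (A *ᵥ v) - sympForm m F u v := by
      intro u v
      rw [Matrix.toLinearMap₂'_apply', ← mulVec_mulVec, Matrix.sub_mulVec, one_mulVec, mulVec_sub,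
        dotProduct_sub]
      rfl
    have he := CfsgLib.KnownA.RankAux.even_finrank_range B (fun v => by rw [hB, halt, hall v, sub_zero])
    have hrange : B = (dotProductEquiv F (Fin m ⊕ Fin m)).toLinearMap ∘ₗ
        Matrix.toLin' (J (Fin m) F * (A - 1))ᵀ := by
      refine LinearMap.ext fun u => LinearMap.ext fun v => ?_
      rw [Matrix.toLinearMap₂'_apply']
      show _ = (Matrix.toLin' (J (Fin m) F * (A - 1))ᵀ u) ⬝ᵥ v
      rw [Matrix.toLin'_apply, mulVec_transpose, dotProduct_mulVec]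
    rw [hrange, LinearMap.range_comp, LinearEquiv.finrank_map_eq] at he
    have hr : ((J (Fin m) F * (A - 1))ᵀ).rank = (A - 1).rank := by
      rw [Matrix.rank_transpose,
        Matrix.rank_mul_eq_right_of_isUnit_det _ _ (isUnit_det_J (Fin m) F)]
    rw [← hr]
    exact he

end Cfsg.Agent.S2167
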