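import Cfsg.Statements.S2172
import Cfsg.Agent.Lib.KnownA.OrthInvolutionsBridge
import Cfsg.Agent.Lib.Orth.WittIndex

set_option autoImplicit false
open Cfsg CfsgLib.Orth CfsgLib.KnownA.OrthInvolutions

namespace Cfsg.Agent.S2172

/-- Splitting of involution classes from O to Ω for the hyperbolic quadratic form Q = Σ x_i y_i in dimension 2m over a finite field F of characteristic two, m ≥ 4. Let t, s be involutions of the commutator subgroup Ω that are conjugate in the full isometry group O. If it is not the case that t − 1 has rank m and Q(v + t v) = 0 for every vector v, then t and s are conjugate by an element of Ω. If t − 1 has rank m and Q(v + t v) = 0 for all v, then t and s are conjugate by an element of Ω exactly when the intersection of the images of t − 1 and s − 1 has even dimension (so the class of t in O meets at most two classes of Ω). -/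
theorem result {F : Type*} [Field F] [Fintype F] [CharP F 2] {m : ℕ} (hm : 4 ≤ m) (t s : ↥(Cfsg.isometryGroup F (Cfsg.quadFormPlus m F))) (ht : orderOf t = 2) (hs : orderOf s = 2) (htO : t ∈ Cfsg.Omega F (Cfsg.quadFormPlus m F)) (hsO : s ∈ Cfsg.Omega F (Cfsg.quadFormPlus m F)) (hconj : IsConj t s) :
    (¬ (((((t : ↥(Cfsg.isometryGroup F (Cfsg.quadFormPlus m F))) : GL (Fin m ⊕ Fin m) F) : Matrix (Fin m ⊕ Fin m) (Fin m ⊕ Fin m) F) - 1).rank = m ∧ ∀ v : Fin m ⊕ Fin m → F, Cfsg.quadFormPlus m F (v + Matrix.mulVec (((t : ↥(Cfsg.isometryGroup F (Cfsg.quadFormPlus m F))) : GL (Fin m ⊕ Fin m) F) : Matrix (Fin m ⊕ Fin m) (Fin m ⊕ Fin m) F) v) = 0) →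
      ∃ g ∈ Cfsg.Omega F (Cfsg.quadFormPlus m F), g * t * g⁻¹ = s) ∧
    ((((((t : ↥(Cfsg.isometryGroup F (Cfsg.quadFormPlus m F))) : GL (Fin m ⊕ Fin m) F) : Matrix (Fin m ⊕ Fin m) (Fin m ⊕ Fin m) F) - 1).rank = m ∧ ∀ v : Fin m ⊕ Fin m → F, Cfsg.quadFormPlus m F (v + Matrix.mulVec (((t : ↥(Cfsg.isometryGroup F (Cfsg.quadFormPlus m F))) : GL (Fin m ⊕ Fin m) F) : Matrix (Fin m ⊕ Fin m) (Fin m ⊕ Fin m) F) v) = 0) →
      ((∃ g ∈ Cfsg.Omega F (Cfsg.quadFormPlus m F), g * t * g⁻¹ = s) ↔
        Even (Module.finrank F ↥(LinearMap.range (Matrix.toLin' ((((t : ↥(Cfsg.isometryGroup F (Cfsg.quadFormPlus m F))) : GL (Fin m ⊕ Fin m) F) : Matrix (Fin m ⊕ Fin m) (Fin m ⊕ Fin m) F) - 1)) ⊓ LinearMap.range (Matrix.toLin' ((((s : ↥(Cfsg.isometryGroup F (Cfsg.quadFormPlus m F))) : GL (Fin m ⊕ Fin m) F) : Matrix (Fin m ⊕ Fin m) (Fin m ⊕ Fin m) F) - 1)))))) := by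
  set Q := plusForm F m
  have hQf := plusForm_apply (F := F) m
  have hQ := plusForm_nondeg (F := F) m
  have hV : Module.finrank F (Fin m ⊕ Fin m → F) = 2 * m := by
    rw [Module.finrank_fintype_fun_eq_card]; simp; omega
  have h4 : Good F (Fin m ⊕ Fin m → F) := good_of (Or.inr (by rw [hV]; omega))
  have htt := sq_toOrth Q hQf t ht
  have hnil := nil_toOrth Q hQf t
  have hnils := nil_toOrth Q hQf s
  have hval : ∀ v, Cfsg.quadFormPlus m F (v + Matrix.mulVec (((t : ↥(Cfsg.isometryGroup F (Cfsg.quadFormPlus m F))) : GL (Fin m ⊕ Fin m) F) : Matrix (Fin m ⊕ Fin m) (Fin m ⊕ Fin m) F) v) = Q (nil Q (toOrth Q hQf t) v) := by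
    intro v
    rw [hQf, nil_apply, toOrth_apply]
    congr 1
    have h2 : (2 : F) = 0 := CharP.cast_eq_zero F 2
    rw [sub_eq_add_neg, add_comm]
    congr 1
    rw [show -v = (-1 : F) • v by simp, CharTwo.neg_eq, one_smul]
  constructor
  · intro hne
    obtain ⟨a, ha, hqa⟩ : ∃ a, nil Q (toOrth Q hQf t) a = 0 ∧ Q a ≠ 0 := by
      by_contra hall
      push Not at hall
      have hle : LinearMap.range (nil Q (toOrth Q hQf t)) ≤ LinearMap.ker (nil Q (toOrth Q hQf t)) := by
        rintro _ ⟨v, rfl⟩; exact nil_nil htt v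
      have h1 := LinearMap.finrank_range_add_finrank_ker (nil Q (toOrth Q hQf t))
      have h2 := Submodule.finrank_mono hle
      have h3 := singular_finrank_le hQ (LinearMap.ker (nil Q (toOrth Q hQf t))) hall
      refine hne ⟨?_, fun v => ?_⟩
      · have hr : Module.finrank F (LinearMap.range (nil Q (toOrth Q hQf t))) = m := by omega
        rw [hnil] at hr
        exact hr
      · rw [hval]; exact hall _ (nil_nil htt v)
    exact omega_conj_of_fixed Q hQf hQ h4 t s hconj ha hqa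
  · rintro ⟨hr, halt⟩
    rw [exists_omega Q hQf, conj_commutator_iff hQ h4 htt (fun v => by rw [← hval]; exact halt v) ?_ ?_,
      hnil, hnils]
    · rw [hV, hnil]
      exact congrArg (2 * ·) hr.symm
    · exact (toOrth Q hQf).toMonoidHom.map_isConj hconj

end Cfsg.Agent.S2172
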