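import Cfsg.Statements.S2173
import Cfsg.Agent.Lib.KnownA.OrthInvolutionsBridge
import Cfsg.Agent.Lib.Orth.WittIndex

set_option autoImplicit false
open Cfsg CfsgLib.Orth CfsgLib.KnownA.OrthInvolutions

namespace Cfsg.Agent.S2173

/-- For the quadratic form Σ x_i y_i + (z₁² + c z₁ z₂ + d z₂²) in dimension 2m with anisotropic binary part over a finite field F of characteristic two, m ≥ 4 (minus type): two involutions of the commutator subgroup Ω that are conjugate in the full isometry group O are conjugate by an element of Ω (no class of involutions of O inside Ω splits). -/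
theorem result {F : Type*} [Field F] [Fintype F] [CharP F 2] {m : ℕ} (hm : 4 ≤ m) (c d : F) (hcd : ∀ z₁ z₂ : F, z₁ ^ 2 + c * z₁ * z₂ + d * z₂ ^ 2 = 0 → z₁ = 0 ∧ z₂ = 0) (t s : ↥(Cfsg.isometryGroup F (Cfsg.quadFormMinus (m - 1) F c d))) (ht : orderOf t = 2) (hs : orderOf s = 2) (htO : t ∈ Cfsg.Omega F (Cfsg.quadFormMinus (m - 1) F c d)) (hsO : s ∈ Cfsg.Omega F (Cfsg.quadFormMinus (m - 1) F c d)) (hconj : IsConj t s) :
    ∃ g ∈ Cfsg.Omega F (Cfsg.quadFormMinus (m - 1) F c d), g * t * g⁻¹ = s := by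
  set Q := minusForm F (m - 1) c d
  have hQf := minusForm_apply (F := F) (m - 1) c d
  have hQ := minusForm_nondeg (F := F) (m - 1) c d hcd
  have hV : Module.finrank F ((Fin (m - 1) ⊕ Fin (m - 1)) ⊕ Fin 2 → F) = 2 * m := by
    rw [Module.finrank_fintype_fun_eq_card]; simp; omega
  have h4 : Good F ((Fin (m - 1) ⊕ Fin (m - 1)) ⊕ Fin 2 → F) := good_of (Or.inr (by rw [hV]; omega))
  have htt := sq_toOrth Q hQf t ht
  obtain ⟨a, ha, hqa⟩ : ∃ a, nil Q (toOrth Q hQf t) a = 0 ∧ Q a ≠ 0 := by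
    by_contra hall
    push Not at hall
    have h1 := LinearMap.finrank_range_add_finrank_ker (nil Q (toOrth Q hQf t))
    have h2 := Submodule.finrank_mono (show LinearMap.range (nil Q (toOrth Q hQf t)) ≤
      LinearMap.ker (nil Q (toOrth Q hQf t)) by rintro _ ⟨v, rfl⟩; exact nil_nil htt v)
    have h3 := minus_singular_finrank_le hcd (LinearMap.ker (nil Q (toOrth Q hQf t))) hall
    omega
  exact omega_conj_of_fixed Q hQf hQ h4 t s hconj ha hqa

end Cfsg.Agent.S2173
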