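import Cfsg.Statements.S2174
import Cfsg.Agent.Lib.InvClasses.F4.Main

set_option autoImplicit false
open Cfsg

namespace Cfsg.Agent.S2174

open CfsgLib.Chevalley CfsgLib.InvClasses CfsgLib.InvClasses.F4

local notation "TF" => CfsgLib.Chevalley.Data.F4.tbl

variable {F : Type*} [Field F]

theorem mem_list_iff [CharP F 2] (y : GL (Tbl.I TF) F) :
    (y : Matrix (Tbl.I TF) (Tbl.I TF) F) ∈ [(Tbl.datum TF).x F 47 1, (Tbl.datum TF).x F 44 1,
      (Tbl.datum TF).x F 47 1 * (Tbl.datum TF).x F 44 1, (Tbl.datum TF).x F 39 1 * (Tbl.datum TF).x F 45 1] ↔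
    ∃ R ∈ reps, y = eL TF F R := by
  have hT := CfsgLib.Chevalley.Data.F4.valid
  obtain ⟨-, hc⟩ := allComm_facts (F := F) hT CfsgLib.Chevalley.Data.F4.chkComm odd2
    (L := [44, 47]) (by decide +kernel)
  have hcm := (hc 47 (by simp) 44 (by simp)).eq
  simp only [Tbl.x_eq_val hT (r := 47) (by decide +kernel), Tbl.x_eq_val hT (r := 44) (by decide +kernel),
    Tbl.x_eq_val hT (r := 39) (by decide +kernel), Tbl.x_eq_val hT (r := 45) (by decide +kernel),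
    ← Units.val_mul, List.mem_cons, List.not_mem_nil, or_false, ← Units.ext_iff, hcm]
  simp only [reps, List.mem_cons, List.not_mem_nil, or_false, exists_eq_or_imp, exists_eq_left, eL_one, eL_two]

/-- Conjugacy classes of involutions in the Chevalley group of type F₄ over a finite field F of characteristic two (the matrix group generated by the root elements x_r(t)). In this problem's root numbering for type F₄ (the Chevalley data module; fundamental roots p₁, p₂ short and p₃, p₄ long; roots indexed by their coefficient vectors in increasing order) let r = 47 be the highest root (2,4,3,2), s = 44 the highest short root (2,3,2,1), and α = 39 = (1,2,2,1), β = 45 = (2,4,2,1), an orthogonal short/long pair; consider the four elements x_r(1), x_s(1), x_r(1)x_s(1), x_α(1)x_β(1). Then: each invertible matrix equal to one of these four products lies in the group and has order 2; every element of order 2 of the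 group is conjugate in the group to one of them; and no two of them are conjugate in the group (so, the four matrices being distinct, the group has exactly four conjugacy classes of involutions). -/
theorem result {F : Type*} [Field F] [Fintype F] [CharP F 2] :
    (∀ y : GL Cfsg.Lie.chevF4.Idx F, ((y : GL Cfsg.Lie.chevF4.Idx F) : Matrix Cfsg.Lie.chevF4.Idx Cfsg.Lie.chevF4.Idx F) ∈ [Cfsg.Lie.chevF4.x F 47 1, Cfsg.Lie.chevF4.x F 44 1, Cfsg.Lie.chevF4.x F 47 1 * Cfsg.Lie.chevF4.x F 44 1, Cfsg.Lie.chevF4.x F 39 1 * Cfsg.Lie.chevF4.x F 45 1] → y ∈ Cfsg.Lie.chevF4.group F ∧ orderOf y = 2) ∧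
    (∀ g ∈ Cfsg.Lie.chevF4.group F, orderOf g = 2 → ∃ y ∈ Cfsg.Lie.chevF4.group F, ((y : GL Cfsg.Lie.chevF4.Idx F) : Matrix Cfsg.Lie.chevF4.Idx Cfsg.Lie.chevF4.Idx F) ∈ [Cfsg.Lie.chevF4.x F 47 1, Cfsg.Lie.chevF4.x F 44 1, Cfsg.Lie.chevF4.x F 47 1 * Cfsg.Lie.chevF4.x F 44 1, Cfsg.Lie.chevF4.x F 39 1 * Cfsg.Lie.chevF4.x F 45 1] ∧ ∃ h ∈ Cfsg.Lie.chevF4.group F, h * g * h⁻¹ = y) ∧
    (∀ y₁ ∈ Cfsg.Lie.chevF4.group F, ∀ y₂ ∈ Cfsg.Lie.chevF4.group F, ((y₁ : GL Cfsg.Lie.chevF4.Idx F) : Matrix Cfsg.Lie.chevF4.Idx Cfsg.Lie.chevF4.Idx F) ∈ [Cfsg.Lie.chevF4.x F 47 1, Cfsg.Lie.chevF4.x F 44 1, Cfsg.Lie.chevF4.x F 47 1 * Cfsg.Lie.chevF4.x F 44 1, Cfsg.Lie.chevF4.x F 39 1 * Cfsg.Lie.chevF4.x F 45 1] → ((y₂ : GL Cfsg.Lie.chevF4.Idx F) : Matrix Cfsg.Lie.chevF4.Idx Cfsg.Lie.chevF4.Idx F) ∈ [Cfsg.Lie.chevF4.x F 47 1, Cfsg.Lie.chevF4.x F 44 1, Cfsg.Lie.chevF4.x F 47 1 * Cfsg.Lie.chevF4.x F 44 1, Cfsg.Lie.chevF4.x F 39 1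 * Cfsg.Lie.chevF4.x F 45 1] →
      (∃ h ∈ Cfsg.Lie.chevF4.group F, h * y₁ * h⁻¹ = y₂) → ((y₁ : GL Cfsg.Lie.chevF4.Idx F) : Matrix Cfsg.Lie.chevF4.Idx Cfsg.Lie.chevF4.Idx F) = ((y₂ : GL Cfsg.Lie.chevF4.Idx F) : Matrix Cfsg.Lie.chevF4.Idx Cfsg.Lie.chevF4.Idx F)) := by
  rw [← CfsgLib.Chevalley.Data.F4.datum_eq]
  refine ⟨fun y hy => ?_, fun g hg ho => ?_, fun y₁ _ y₂ _ h₁ h₂ hc => ?_⟩
  · obtain ⟨R, hR, rfl⟩ := (mem_list_iff y).mp hy
    exact ⟨eL_mem hR, orderOf_eq_prime ((pow_two _).trans (eL_sq hR).1) (eL_sq hR).2⟩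
  · obtain ⟨R, hR, k, hk, e⟩ := classify (F := F) hg (by rw [← pow_two, ← ho]; exact pow_orderOf_eq_one g)
      (fun e => by rw [e, orderOf_one] at ho; exact absurd ho (by norm_num))
    exact ⟨_, eL_mem hR, (mem_list_iff _).mpr ⟨R, hR, rfl⟩, k, hk, by rw [e, mul_inv_cancel_right]⟩
  · obtain ⟨R, hR, rfl⟩ := (mem_list_iff y₁).mp h₁
    obtain ⟨R', hR', rfl⟩ := (mem_list_iff y₂).mp h₂
    obtain ⟨h, hh, e⟩ := hc
    exact congrArg _ (not_conj hR hR' hh (by rw [← e, inv_mul_cancel_right]))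

end Cfsg.Agent.S2174
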