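import Cfsg.Statements.S2175
import Cfsg.Agent.Lib.KnownB.SLInv.Main
import Cfsg.Agent.Lib.KnownB.SLInv.CertE6
import Cfsg.Agent.Lib.KnownB.SLInv.RankE6

set_option autoImplicit false
open Cfsg

namespace Cfsg.Agent.S2175

open CfsgLib.Chevalley CfsgLib.Chevalley.Data CfsgLib.SLInv

/-- The representatives. -/
def reps : List (List ℕ) := [[71],[68,66],[55,65,67]]

/-- The ranks. -/
def rk : List ℕ → ℕ := fun L => if L = [71] then 22 else if L = [68,66] then 32 else if L = [55,65,67] then 38 else 0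

theorem reps_ok : ∀ L ∈ reps, Ok E6.tbl L := by unfold reps Ok; decide +kernel

theorem rk_pos : ∀ L ∈ reps, 0 < rk L := by decide +kernel

theorem rk_inj : ∀ L ∈ reps, ∀ M ∈ reps, rk L = rk M → L = M := by decide +kernel

theorem rk_eq {F : Type*} [Field F] [CharP F 2] : ∀ L ∈ reps,
    (((P1 E6.tbl F L : GL E6.tbl.I F) : Matrix E6.tbl.I E6.tbl.I F) - 1).rank = rk L :=
  by
  intro L hL
  simp only [reps, List.mem_cons, List.not_mem_nil, or_false] at hL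
  rcases hL with rfl | rfl | rfl
  · exact CfsgLib.SLInv.E6.rank0 CfsgLib.SLInv.E6.sl F
  · exact CfsgLib.SLInv.E6.rank1 CfsgLib.SLInv.E6.sl F
  · exact CfsgLib.SLInv.E6.rank2 CfsgLib.SLInv.E6.sl F

theorem mem_iff {F : Type*} [Field F] [CharP F 2] (y : GL E6.tbl.I F) :
    ((y : GL E6.tbl.I F) : Matrix E6.tbl.I E6.tbl.I F) ∈ [E6.tbl.datum.x F 71 1, E6.tbl.datum.x F 68 1 * E6.tbl.datum.x F 66 1, E6.tbl.datum.x F 55 1 * E6.tbl.datum.x F 65 1 * E6.tbl.datum.x F 67 1] ↔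
      ∃ L ∈ reps, y = P1 E6.tbl F L := by
  simp only [reps, List.mem_cons, List.not_mem_nil, or_false, or_and_right, exists_or, exists_eq_left,
    ← Units.val_inj]
  rw [P1_x CfsgLib.SLInv.E6.sl (L := [71]) (by decide), P1_x CfsgLib.SLInv.E6.sl (L := [68,66]) (by decide), P1_x CfsgLib.SLInv.E6.sl (L := [55,65,67]) (by decide)]
  simp only [List.map_cons, List.map_nil, List.prod_cons, List.prod_nil, mul_one, mul_assoc]

/-- Conjugacy classes of involutions in the Chevalley group of type E₆ over a finite field F of characteristic two (the matrix group generated by the root elements x_r(t)). In this problem's root numbering for type E₆ (the Chevalley data module; fundamental roots numbered so that p₁–p₃–p₄–p₅–p₆ is the long chain of the diagram and p₂ is joined to p₄; roots indexed by their coefficient vectors in increasing order) let r = 71 be the highest root (1,2,2,3,2,1), α =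 68 = (1,1,2,2,1,1), β = 66 = (1,1,1,2,2,1), γ = 55 = (0,1,1,2,2,1), δ = 65 = (1,1,1,2,1,1), ε = 67 = (1,1,2,2,1,0) (α ⊥ β and γ, δ, ε pairwise orthogonal); consider x_r(1), x_α(1)x_β(1) and x_γ(1)x_δ(1)x_ε(1). Then: each invertible matrix equal to one of these three products lies in the group and has order 2; every element of order 2 of the group is conjugate in the group to one of them; and no two of them are conjugate in the group (so, the three matrices being distinct, the group has exactly three conjugacy classes of involutions). -/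
theorem result {F : Type*} [Field F] [Fintype F] [CharP F 2] :
    (∀ y : GL Cfsg.Lie.chevE6.Idx F, ((y : GL Cfsg.Lie.chevE6.Idx F) : Matrix Cfsg.Lie.chevE6.Idx Cfsg.Lie.chevE6.Idx F) ∈ [Cfsg.Lie.chevE6.x F 71 1, Cfsg.Lie.chevE6.x F 68 1 * Cfsg.Lie.chevE6.x F 66 1, Cfsg.Lie.chevE6.x F 55 1 * Cfsg.Lie.chevE6.x F 65 1 * Cfsg.Lie.chevE6.x F 67 1] → y ∈ Cfsg.Lie.chevE6.group F ∧ orderOf y = 2) ∧
    (∀ g ∈ Cfsg.Lie.chevE6.group F, orderOf g = 2 → ∃ y ∈ Cfsg.Lie.chevE6.group F, ((y : GL Cfsg.Lie.chevE6.Idx F) : Matrix Cfsg.Lie.chevE6.Idx Cfsg.Lie.chevE6.Idx F) ∈ [Cfsg.Lie.chevE6.x F 71 1, Cfsg.Lie.chevE6.x F 68 1 * Cfsg.Lie.chevE6.x F 66 1, Cfsg.Lie.chevE6.x F 55 1 * Cfsg.Lie.chevE6.x F 65 1 * Cfsg.Lie.chevE6.x F 67 1] ∧ ∃ h ∈ Cfsg.Lie.chevE6.group F, h * g * h⁻¹ = y) ∧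
    (∀ y₁ ∈ Cfsg.Lie.chevE6.group F, ∀ y₂ ∈ Cfsg.Lie.chevE6.group F, ((y₁ : GL Cfsg.Lie.chevE6.Idx F) : Matrix Cfsg.Lie.chevE6.Idx Cfsg.Lie.chevE6.Idx F) ∈ [Cfsg.Lie.chevE6.x F 71 1, Cfsg.Lie.chevE6.x F 68 1 * Cfsg.Lie.chevE6.x F 66 1, Cfsg.Lie.chevE6.x F 55 1 * Cfsg.Lie.chevE6.x F 65 1 * Cfsg.Lie.chevE6.x F 67 1] → ((y₂ : GL Cfsg.Lie.chevE6.Idx F) : Matrix Cfsg.Lie.chevE6.Idx Cfsg.Lie.chevE6.Idx F) ∈ [Cfsg.Lie.chevE6.x F 71 1, Cfsg.Lie.chevE6.x F 68 1 * Cfsg.Lie.chevE6.x F 66 1, Cfsg.Lie.chevE6.x F 55 1 * Cfsg.Lie.chevE6.x F 65 1 * Cfsg.Lie.chevE6.x F 67 1] →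
      (∃ h ∈ Cfsg.Lie.chevE6.group F, h * y₁ * h⁻¹ = y₂) → ((y₁ : GL Cfsg.Lie.chevE6.Idx F) : Matrix Cfsg.Lie.chevE6.Idx Cfsg.Lie.chevE6.Idx F) = ((y₂ : GL Cfsg.Lie.chevE6.Idx F) : Matrix Cfsg.Lie.chevE6.Idx Cfsg.Lie.chevE6.Idx F)) := by
  rw [← Data.E6.datum_eq]
  obtain ⟨h1, h2, h3⟩ := CfsgLib.SLInv.classes (F := F) CfsgLib.SLInv.E6.sl CfsgLib.SLInv.E6.grow_ok
    CfsgLib.SLInv.E6.fin_ok (R := reps) rfl reps_ok rk_eq rk_pos rk_inj
  refine ⟨fun y hy => ?_, fun g hg hg2 => ?_, fun y₁ _ y₂ _ hy₁ hy₂ hc => ?_⟩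
  · obtain ⟨L, hL, rfl⟩ := (mem_iff y).mp hy
    exact h1 L hL
  · obtain ⟨L, hL, a, ha, e⟩ := h2 g hg hg2
    exact ⟨P1 E6.tbl F L, (h1 L hL).1, (mem_iff _).mpr ⟨L, hL, rfl⟩, a, ha, e⟩
  · obtain ⟨L, hL, rfl⟩ := (mem_iff y₁).mp hy₁
    obtain ⟨M, hM, rfl⟩ := (mem_iff y₂).mp hy₂
    obtain rfl := h3 L hL M hM hc
    rfl

end Cfsg.Agent.S2175
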