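import Cfsg.Statements.S2178
import Cfsg.Agent.Lib.Chevalley.Tables
import Cfsg.Agent.Lib.KnownB.RootCentralizer.Apply

set_option autoImplicit false
open Cfsg

namespace Cfsg.Agent.S2178

open CfsgLib.Chevalley CfsgLib.Chevalley.Tbl CfsgLib.KnownB.RootCentralizer

local notation "TF" => CfsgLib.Chevalley.Data.F4.tbl

theorem cond47 : chkCentral TF [47] = true := by decide +kernel
theorem cond44 : chkCentral TF [44] = true := by decide +kernel
theorem gen47 : ((List.range (Tbl.n TF)).all fun s => decide (s ∈ [14, 20, 22] ↔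
    ∃ j ∈ orthSimple TF [47], s = Tbl.neg TF (Tbl.simple TF j))) = true := by decide +kernel
theorem gen44 : ((List.range (Tbl.n TF)).all fun s => decide (s ∈ [20, 22, 23] ↔
    ∃ j ∈ orthSimple TF [44], s = Tbl.neg TF (Tbl.simple TF j))) = true := by decide +kernel

theorem f4_centralizer {F : Type*} [Field F] [CharP F 2] {r : ℕ} {a b c : ℕ}
    (hr : chkCentral TF [r] = true)
    (hgen : ((List.range (Tbl.n TF)).all fun s => decide (s ∈ [a, b, c] ↔
      ∃ j ∈ orthSimple TF [r], s = Tbl.neg TF (Tbl.simple TF j))) = true)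
    (habc : a < Tbl.n TF ∧ b < Tbl.n TF ∧ c < Tbl.n TF)
    (t : GL (Tbl.I TF) F) (ht : (t : Matrix (Tbl.I TF) (Tbl.I TF) F) = (Tbl.datum TF).x F r 1) :
    (Tbl.datum TF).group F ⊓ Subgroup.centralizer {t} =
      (Tbl.datum TF).posUnipotent F ⊔ (Tbl.datum TF).rootSubgroup F a ⊔
        (Tbl.datum TF).rootSubgroup F b ⊔ (Tbl.datum TF).rootSubgroup F c := by
  have hT := CfsgLib.Chevalley.Data.F4.valid
  rw [centralizer_root hT CfsgLib.Chevalley.Data.F4.chkComm (centralCond_of_chk hr) ht,
    rootGen_list hT (M := [a, b, c]) (fun s hs =>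
      of_decide_eq_true (List.all_eq_true.mp hgen s (List.mem_range.mpr hs))),
    posUnipotent_rootGen hT, sup_rootSubgroup hT _ habc.1, sup_rootSubgroup hT _ habc.2.1,
    sup_rootSubgroup hT _ habc.2.2]
  refine le_antisymm (sup_le (rootGen_mono fun s _ h => Or.inl (Or.inl (Or.inl h)))
    (rootGen_mono fun s _ h => ?_)) (rootGen_le fun s hs h x => ?_)
  · simp only [List.mem_cons, List.not_mem_nil, or_false] at h
    tauto
  · rcases h with ((h | h) | h) | h
    · exact Subgroup.mem_sup_left (xU_mem_rootGen (P := fun r => Tbl.half TF ≤ r) hs h x)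
    all_goals exact Subgroup.mem_sup_right (xU_mem_rootGen (P := (· ∈ [a, b, c])) hs (by simp [h]) x)

/-- Centralizers of the long and the short root involutions in the Chevalley group G of type F₄ over a finite field F of characteristic two (this problem's root numbering for type F₄, from the Chevalley data module: fundamental roots p₁, p₂ short, p₃, p₄ long, with indices 33, 27, 25, 24, their negatives 14, 20, 22, 23; highest root 47, highest short root 44; U the subgroup generated by the positive root subgroups). For an element t of G with matrix x_47(1): the centralizer of t in G is the subgroup generated by U and the root subgroups X_{−p₁}, X_{−p₂}, X_{−p₃} (the unipotent radical of the maximal parabolic subgroup whose Levi factor has fundamental roots p₁, p₂, p₃, together with that Levi factor's root subgroups; the Levi factor is of type C₃). For an element u of G with matrix x_44(1): the centralizer of u in G is generated by U and X_{−p₂}, X_{−p₃}, X_{−p₄} (the same construction for the Levi factor with fundamental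 roots p₂, p₃, p₄, of type B₃). -/
theorem result {F : Type*} [Field F] [Fintype F] [CharP F 2] (t u : GL Cfsg.Lie.chevF4.Idx F) (ht : (t : Matrix Cfsg.Lie.chevF4.Idx Cfsg.Lie.chevF4.Idx F) = Cfsg.Lie.chevF4.x F 47 1) (hu : (u : Matrix Cfsg.Lie.chevF4.Idx Cfsg.Lie.chevF4.Idx F) = Cfsg.Lie.chevF4.x F 44 1) :
    Cfsg.Lie.chevF4.group F ⊓ Subgroup.centralizer {t} = Cfsg.Lie.chevF4.posUnipotent F ⊔ Cfsg.Lie.chevF4.rootSubgroup F 14 ⊔ Cfsg.Lie.chevF4.rootSubgroup F 20 ⊔ Cfsg.Lie.chevF4.rootSubgroup F 22 ∧
    Cfsg.Lie.chevF4.group F ⊓ Subgroup.centralizer {u} = Cfsg.Lie.chevF4.posUnipotent F ⊔ Cfsg.Lie.chevF4.rootSubgroup F 20 ⊔ Cfsg.Lie.chevF4.rootSubgroup F 22 ⊔ Cfsg.Lie.chevF4.rootSubgroup F 23 := by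
  revert t u
  rw [← CfsgLib.Chevalley.Data.F4.datum_eq]
  intro t u ht hu
  exact ⟨f4_centralizer cond47 gen47 (by decide +kernel) t ht,
    f4_centralizer cond44 gen44 (by decide +kernel) u hu⟩

end Cfsg.Agent.S2178
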