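import Cfsg.Statements.S2179
import Cfsg.Agent.Lib.KnownB.RootCentralizer.F4Mixed

set_option autoImplicit false
open Cfsg

namespace Cfsg.Agent.S2179

open CfsgLib.Chevalley CfsgLib.Chevalley.Tbl CfsgLib.KnownB.RootCentralizer CfsgLib.KnownB.RootCentralizer.F4Mixed

local notation "TF" => CfsgLib.Chevalley.Data.F4.tbl

theorem genW : ((List.range (Tbl.n TF)).all fun s => decide (s ∈ [20, 22] ↔
    ∃ j ∈ orthSimple TF [47, 44], s = Tbl.neg TF (Tbl.simple TF j))) = true := by decide +kernel

/-- Centralizers of the two remaining classes of involutions in the Chevalley group G of type F₄ over a finite field F of characteristic two (this problem's root numbering for type F₄, from the Chevalley data module: p₁, p₂ short, p₃, p₄ long with indices 33, 27, 25, 24 and negatives 14, 20, 22, 23; U generated by the positive root subgroups). For an element of G with matrix x_47(1)x_44(1) (highest root times highest short root): its centralizer in G is generated by U, X_{−p₂} and X_{−p₃}. For an element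 of G with matrix x_39(1)x_45(1) (roots (1,2,2,1) and (2,4,2,1), an orthogonal short/long pair): its centralizer in G is generated by X_{p₁}, X_{−p₁}, X_{p₄}, X_{−p₄} and the root subgroups of all positive roots other than p₂ (27), p₃ (25), p₁ + p₂ (34) and p₃ + p₄ (26). -/
theorem result {F : Type*} [Field F] [Fintype F] [CharP F 2] (w v : GL Cfsg.Lie.chevF4.Idx F) (hw : (w : Matrix Cfsg.Lie.chevF4.Idx Cfsg.Lie.chevF4.Idx F) = Cfsg.Lie.chevF4.x F 47 1 * Cfsg.Lie.chevF4.x F 44 1) (hv : (v : Matrix Cfsg.Lie.chevF4.Idx Cfsg.Lie.chevF4.Idx F) = Cfsg.Lie.chevF4.x F 39 1 * Cfsg.Lie.chevF4.x F 45 1) :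
    Cfsg.Lie.chevF4.group F ⊓ Subgroup.centralizer {w} = Cfsg.Lie.chevF4.posUnipotent F ⊔ Cfsg.Lie.chevF4.rootSubgroup F 20 ⊔ Cfsg.Lie.chevF4.rootSubgroup F 22 ∧
    Cfsg.Lie.chevF4.group F ⊓ Subgroup.centralizer {v} = Cfsg.Lie.chevF4.rootSubgroup F 33 ⊔ Cfsg.Lie.chevF4.rootSubgroup F 14 ⊔ Cfsg.Lie.chevF4.rootSubgroup F 24 ⊔ Cfsg.Lie.chevF4.rootSubgroup F 23 ⊔
      Subgroup.closure {g : GL Cfsg.Lie.chevF4.Idx F | ∃ (r : ℕ) (c : F), Cfsg.Lie.chevF4.IsPosRoot r ∧ r ∉ [27, 25, 34, 26] ∧ (g : Matrix Cfsg.Lie.chevF4.Idx Cfsg.Lie.chevF4.Idx F) = Cfsg.Lie.chevF4.x F r c} := by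
  revert w v
  rw [← CfsgLib.Chevalley.Data.F4.datum_eq]
  intro w v hw hv
  have hT := CfsgLib.Chevalley.Data.F4.valid
  have hv' : v = vEl := Units.ext (by
    rw [hv, vEl, Units.val_mul, x_eq_val hT (by decide +kernel), x_eq_val hT (by decide +kernel)])
  have hw' : w = wEl := by
    have e : (wEl : GL (Tbl.I TF) F) = Tbl.xU TF F 47 1 * Tbl.xU TF F 44 1 := by
      rw [wEl]
      exact comm_list abS2 (xU_mem_rootGen (P := (· ∈ [44, 47])) (by decide +kernel) (by simp) _)
        (xU_mem_rootGen (P := (· ∈ [44, 47])) (by decide +kernel) (by simp) _)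
    rw [e]
    exact Units.ext (by rw [hw, Units.val_mul, x_eq_val hT (by decide +kernel), x_eq_val hT (by decide +kernel)])
  subst hv'
  subst hw'
  constructor
  · refine Eq.trans (b := Tbl.rootGen TF F (GenRoots TF [47, 44])) ?_ ?_
    · ext g
      rw [Subgroup.mem_inf, Subgroup.mem_centralizer_singleton_iff]
      exact centralizer_w
    rw [rootGen_list hT (M := [20, 22]) (fun s hs =>
        of_decide_eq_true (List.all_eq_true.mp genW s (List.mem_range.mpr hs))),
      posUnipotent_rootGen hT, sup_rootSubgroup hT _ (by decide +kernel), sup_rootSubgroup hT _ (by decide +kernel)]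
    refine le_antisymm (sup_le (rootGen_mono fun s _ h => Or.inl (Or.inl h))
      (rootGen_mono fun s _ h => ?_)) (rootGen_le fun s hs h x => ?_)
    · simp only [List.mem_cons, List.not_mem_nil, or_false] at h
      tauto
    · rcases h with (h | h) | h
      · exact Subgroup.mem_sup_left (xU_mem_rootGen (P := fun r => Tbl.half TF ≤ r) hs h x)
      all_goals exact Subgroup.mem_sup_right (xU_mem_rootGen (P := (· ∈ [20, 22])) hs (by simp [h]) x)
  · refine Eq.trans (b := Tbl.rootGen TF F VRoots) ?_ ?_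
    · ext g
      rw [Subgroup.mem_inf, Subgroup.mem_centralizer_singleton_iff]
      exact centralizer_v
    have h4 : ∀ a, a < Tbl.n TF → ∀ x : GL (Tbl.I TF) F, x ∈ (Tbl.datum TF).rootSubgroup F a →
        a ∈ [33, 14, 24, 23] → x ∈ Tbl.rootGen TF F VRoots := by
      intro a ha x hx hm
      obtain ⟨t, rfl⟩ := (mem_rootSubgroup_iff hT ha).mp hx
      exact xU_mem_rootGen (P := VRoots) ha (Or.inl hm) t
    refine le_antisymm (rootGen_le fun r hr h t => ?_) (sup_le (sup_le (sup_le (sup_le
      (fun x hx => h4 33 (by decide +kernel) x hx (by simp)) (fun x hx => h4 14 (by decide +kernel) x hx (by simp)))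
      (fun x hx => h4 24 (by decide +kernel) x hx (by simp))) (fun x hx => h4 23 (by decide +kernel) x hx (by simp))) ?_)
    · rcases h with h | ⟨h1, h2⟩
      · have hx : Tbl.xU TF F r t ∈ (Tbl.datum TF).rootSubgroup F r := (mem_rootSubgroup_iff hT hr).mpr ⟨t, rfl⟩
        simp only [List.mem_cons, List.not_mem_nil, or_false] at h
        rcases h with rfl | rfl | rfl | rfl
        · exact Subgroup.mem_sup_left (Subgroup.mem_sup_left (Subgroup.mem_sup_left (Subgroup.mem_sup_left hx)))
        · exact Subgroup.mem_sup_left (Subgroup.mem_sup_left (Subgroup.mem_sup_left (Subgroup.mem_sup_right hx)))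
        · exact Subgroup.mem_sup_left (Subgroup.mem_sup_left (Subgroup.mem_sup_right hx))
        · exact Subgroup.mem_sup_left (Subgroup.mem_sup_right hx)
      · exact Subgroup.mem_sup_right (Subgroup.subset_closure
          ⟨r, t, (isPosRoot_iff hT).mpr ⟨hr, isPos_iff.mpr h1⟩, h2, (x_eq_val hT hr t).symm⟩)
    · rw [Subgroup.closure_le]
      rintro g ⟨r, c, hr, hE, hg⟩
      obtain ⟨hrn, hrp⟩ := (isPosRoot_iff hT).mp hr
      rw [(eq_x_iff hT hrn c g).mp hg]
      exact xU_mem_rootGen (P := VRoots) hrn (Or.inr ⟨isPos_iff.mp hrp, hE⟩) c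

end Cfsg.Agent.S2179
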