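import Cfsg.Statements.S2181
import Cfsg.Agent.Lib.KnownB.SLInv.Main
import Cfsg.Agent.Lib.KnownB.SLInv.CertE7
import Cfsg.Agent.Lib.KnownB.SLInv.RankE7

set_option autoImplicit false
open Cfsg

namespace Cfsg.Agent.S2181

open CfsgLib.Chevalley CfsgLib.Chevalley.Data CfsgLib.SLInv

/-- The representatives. -/
def reps : List (List ℕ) := [[125],[92,125],[87,92,125],[63,92,125],[78,87,92,125]]

/-- The ranks. -/
def rk : List ℕ → ℕ := fun L => if L = [125] then 34 else if L = [92,125] then 52 else if L = [87,92,125] then 62 else if L = [63,92,125] then 53 else if L = [78,87,92,125] then 63 else 0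

theorem reps_ok : ∀ L ∈ reps, Ok E7.tbl L := by unfold reps Ok; decide +kernel

theorem rk_pos : ∀ L ∈ reps, 0 < rk L := by decide +kernel

theorem rk_inj : ∀ L ∈ reps, ∀ M ∈ reps, rk L = rk M → L = M := by decide +kernel

theorem rk_eq {F : Type*} [Field F] [CharP F 2] : ∀ L ∈ reps,
    (((P1 E7.tbl F L : GL E7.tbl.I F) : Matrix E7.tbl.I E7.tbl.I F) - 1).rank = rk L :=
  by
  intro L hL
  simp only [reps, List.mem_cons, List.not_mem_nil, or_false] at hL
  rcases hL with rfl | rfl | rfl | rfl | rfl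
  · exact CfsgLib.SLInv.E7.rank0 CfsgLib.SLInv.E7.sl F
  · exact CfsgLib.SLInv.E7.rank1 CfsgLib.SLInv.E7.sl F
  · exact CfsgLib.SLInv.E7.rank2 CfsgLib.SLInv.E7.sl F
  · exact CfsgLib.SLInv.E7.rank3 CfsgLib.SLInv.E7.sl F
  · exact CfsgLib.SLInv.E7.rank4 CfsgLib.SLInv.E7.sl F

/-- The Chevalley group of type E₇ over a finite field of characteristic two (the matrix group generated by the root elements) has exactly five conjugacy classes of elements of order 2. -/
theorem result {F : Type*} [Field F] [Fintype F] [CharP F 2] :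
    (ConjClasses.mk '' {g : ↥(Cfsg.Lie.chevE7.group F) | orderOf g = 2}).ncard = 5 := by
  rw [← Data.E7.datum_eq]
  exact (CfsgLib.SLInv.class_count CfsgLib.SLInv.E7.sl CfsgLib.SLInv.E7.grow_ok CfsgLib.SLInv.E7.fin_ok
    (R := reps) rfl (by decide +kernel) reps_ok rk_eq rk_pos rk_inj).trans rfl

end Cfsg.Agent.S2181
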