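import Cfsg.Statements.S2182
import Cfsg.Agent.Lib.InvClasses.Twisted.E6.Main

set_option autoImplicit false
open Cfsg

namespace Cfsg.Agent.S2182

/-- The twisted group ²E₆(q), q even, realised inside the Chevalley group of type E₆ over the field K with q² elements, has exactly three conjugacy classes of elements of order 2. -/
theorem result {K : Type*} [Field K] [Fintype K] [CharP K 2] (q : ℕ) (hK : Fintype.card K = q ^ 2) :
    (ConjClasses.mk '' {g : ↥(Cfsg.Lie.twistedE6 K q) | orderOf g = 2}).ncard = 3 := by
  have hK' : Nat.card K = q ^ 2 := Nat.card_eq_fintype_card.trans hK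
  have hq : IsPrimePow q := by
    obtain ⟨n, -, hn⟩ := FiniteField.card K 2
    rw [hK] at hn
    obtain ⟨f, -, rfl⟩ := (Nat.dvd_prime_pow Nat.prime_two).mp (hn ▸ dvd_pow_self q (by norm_num))
    rcases Nat.eq_zero_or_pos f with rfl | hf
    · exfalso
      have := Fintype.one_lt_card (α := K)
      rw [hK, pow_zero, one_pow] at this
      omega
    · exact ⟨2, f, Nat.prime_two.prime, hf, rfl⟩
  exact CfsgLib.Chevalley.Twist.E6.transfer hq hK'
    (fun _ G => (ConjClasses.mk '' {g : ↥G | orderOf g = 2}).ncard = 3)
    (CfsgLib.InvClasses.Twisted.E6.class_count hq hK')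

end Cfsg.Agent.S2182
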