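import Cfsg.Statements.S2185
import Cfsg.Agent.S1090
import Cfsg.Agent.S1068
import Cfsg.Agent.Lib.Chevalley.TitsCheck

set_option autoImplicit false
set_option maxRecDepth 20000
set_option maxHeartbeats 1000000
open Cfsg

namespace Cfsg.Agent.S2185

open Cfsg.Lie CfsgLib.Chevalley CfsgLib.Chevalley.TitsInv

theorem comm_trivial {M : Type*} [CommGroup M] (u v : M) : u⁻¹ * v⁻¹ * u * v = 1 := by
  rw [mul_right_comm u⁻¹, inv_mul_cancel, one_mul, inv_mul_cancel]

/-- Membership of a word in the group from membership of a generating word. -/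
theorem gw_mem (w : List ℕ) (hw : ∀ r ∈ w, r ∈ used) (w' : List (ℕ × ZMod 2))
    (hw' : w' ∈ f4Words (ZMod 2) 1) (h : mat w = chevF4.wordMat (ZMod 2) w') :
    gw w ∈ twistedF4 (ZMod 2) 1 :=
  Subgroup.subset_closure ⟨w', hw', (gw_val w hw).trans h⟩

theorem ga_mem : gw ra ∈ twistedF4 (ZMod 2) 1 :=
  gw_mem ra (by decide) _ (Or.inl ⟨1, Or.inl rfl⟩) (by
    simp [mat, ra, ChevalleyDatum.wordMat, f4PairWord, f4p1, f4p4])

theorem gan_mem : gw ran ∈ twistedF4 (ZMod 2) 1 :=
  gw_mem ran (by decide) _ (Or.inl ⟨1, Or.inr rfl⟩) (by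
    simp [mat, ran, ChevalleyDatum.wordMat, f4PairWord, f4m1, f4m4])

theorem gb_mem : gw rb ∈ twistedF4 (ZMod 2) 1 :=
  gw_mem rb (by decide) _ (Or.inr ⟨1, 0, Or.inl rfl⟩) (by
    simp [mat, rb, ChevalleyDatum.wordMat, b2ClassWord, f4a, f4b, f4ab, f4aab, x_zero (Or.inr rfl)])

theorem gbn_mem : gw rbn ∈ twistedF4 (ZMod 2) 1 :=
  gw_mem rbn (by decide) _ (Or.inr ⟨1, 0, Or.inr rfl⟩) (by
    simp [mat, rbn, ChevalleyDatum.wordMat, b2ClassWord, f4ma, f4mb, f4mab, f4maab, x_zero (Or.inl rfl)])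

theorem ge_eq : gw re = (gw ra * gw ran * gw ra) * gw rb * (gw ra * gw ran * gw ra)⁻¹ := by
  rw [gw_eq_of_sameWord sameWord_e, gw_append, gw_append, ← gw_inv, gw_append, gw_append]

theorem ge_mem : gw re ∈ twistedF4 (ZMod 2) 1 := by
  rw [ge_eq]
  exact mul_mem (mul_mem (mul_mem (mul_mem ga_mem gan_mem) ga_mem) gb_mem)
    (inv_mem (mul_mem (mul_mem ga_mem gan_mem) ga_mem))

theorem letters_mem : ∀ ls : List ℕ, gw (ls.flatMap letter) ∈ twistedF4 (ZMod 2) 1 := by
  intro ls
  induction ls with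
  | nil => simp [gw]
  | cons l ls ih =>
    rw [List.flatMap_cons, gw_append]
    refine mul_mem ?_ ih
    rcases l with _ | _ | l
    exacts [ga_mem, gb_mem, ge_mem]

theorem letters_pos : ∀ ls : List ℕ, gw (ls.flatMap letter) ∈ chevF4.posUnipotent (ZMod 2) := by
  have key : ∀ w : List ℕ, (∀ r ∈ w, r ∈ ra ++ rb ++ re) → gw w ∈ chevF4.posUnipotent (ZMod 2) := by
    intro w
    induction w with
    | nil => intro _; simp [gw]
    | cons r w ih =>
      intro hw
      rw [show r :: w = [r] ++ w from rfl, gw_append]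
      refine mul_mem ?_ (ih fun q hq => hw q (List.mem_cons_of_mem _ hq))
      have hr := hw r List.mem_cons_self
      have hu : r ∈ used := (by decide : ∀ r ∈ ra ++ rb ++ re, r ∈ used) r hr
      exact Subgroup.subset_closure ⟨r, 1, pos_used r hr, by
        simpa [gw] using xg_val hu⟩
  intro ls
  refine key _ fun r hr => ?_
  obtain ⟨l, -, hl⟩ := List.mem_flatMap.1 hr
  rcases l with _ | _ | l
  all_goals simp only [letter, ra, rb, re, List.mem_append, List.mem_cons, List.not_mem_nil, or_false] at hl ⊢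
  all_goals omega

/-- The element of a coded word. -/
noncomputable def el (c : ℕ) : ↥(twistedF4 (ZMod 2) 1) := ⟨gw (rootsOf c), letters_mem _⟩

theorem el_val (c : ℕ) : ((el c : ↥(twistedF4 (ZMod 2) 1)) : GL chevF4.Idx (ZMod 2)) = gw (rootsOf c) := rfl

theorem mem_commutator_of_pi {x : ↥(twistedF4 (ZMod 2) 1)} (h : Abelianization.of x = 1) :
    x ∈ commutator ↥(twistedF4 (ZMod 2) 1) := by
  rw [← MonoidHom.mem_ker, Abelianization.ker_of] at h
  exact h

theorem pi_el (c : ℕ) :
    Abelianization.of (el c) = Abelianization.of (⟨gw rb, gb_mem⟩ : ↥(twistedF4 (ZMod 2) 1)) ^ parity c := by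
  set A : ↥(twistedF4 (ZMod 2) 1) := ⟨gw ra, ga_mem⟩ with hA
  set An : ↥(twistedF4 (ZMod 2) 1) := ⟨gw ran, gan_mem⟩ with hAn
  set B : ↥(twistedF4 (ZMod 2) 1) := ⟨gw rb, gb_mem⟩ with hB
  set Bn : ↥(twistedF4 (ZMod 2) 1) := ⟨gw rbn, gbn_mem⟩ with hBn
  set E : ↥(twistedF4 (ZMod 2) 1) := ⟨gw re, ge_mem⟩ with hE
  have ea : A = An⁻¹ * (A * B * A)⁻¹ * An * (A * B * A) *
      ((A * B * A)⁻¹ * (An * Bn)⁻¹ * (A * B * A) * (An * Bn)) := by
    refine Subtype.ext ?_
    show gw ra = (gw ran)⁻¹ * (gw ra * gw rb * gw ra)⁻¹ * gw ran * (gw ra * gw rb * gw ra) *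
      ((gw ra * gw rb * gw ra)⁻¹ * (gw ran * gw rbn)⁻¹ * (gw ra * gw rb * gw ra) * (gw ran * gw rbn))
    rw [← gw_append, ← gw_append, ← gw_append, gw_inv, gw_inv, gw_inv, ← gw_append, ← gw_append,
      ← gw_append, ← gw_append, ← gw_append, ← gw_append, ← gw_append]
    exact gw_eq_of_sameWord sameWord_a
  have ee : E = (A * An * A) * B * (A * An * A)⁻¹ := Subtype.ext ge_eq
  have pa : Abelianization.of A = 1 := by
    have := congrArg Abelianization.of ea
    rw [this]
    simp only [map_mul, map_inv, comm_trivial, mul_one]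
  have pe : Abelianization.of E = Abelianization.of B := by
    rw [ee, map_mul, map_mul, map_inv]
    exact mul_inv_cancel_comm _ _
  have key : ∀ ls : List ℕ, Abelianization.of
      (⟨gw (ls.flatMap letter), letters_mem ls⟩ : ↥(twistedF4 (ZMod 2) 1)) =
      Abelianization.of B ^ ls.countP (· != 0) := by
    intro ls
    induction ls with
    | nil =>
      rw [List.countP_nil, pow_zero]
      exact map_one _
    | cons l ls ih =>
      have hm : gw (letter l) ∈ twistedF4 (ZMod 2) 1 := by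
        simpa using letters_mem [l]
      have e : (⟨gw ((l :: ls).flatMap letter), letters_mem _⟩ : ↥(twistedF4 (ZMod 2) 1)) =
          ⟨gw (letter l), hm⟩ * ⟨gw (ls.flatMap letter), letters_mem ls⟩ :=
        Subtype.ext (by simp [gw_append])
      rw [e, map_mul, ih]
      rcases l with _ | _ | l
      · rw [List.countP_cons_of_neg (by simp)]
        rw [show (⟨gw (letter 0), hm⟩ : ↥(twistedF4 (ZMod 2) 1)) = A from rfl, pa, one_mul]
      · rw [List.countP_cons_of_pos (by simp), pow_succ']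
        exact congrArg (· * _) rfl
      · rw [List.countP_cons_of_pos (by simp), pow_succ']
        exact congrArg (· * _) pe
  exact key _

theorem pi_b_sq :
    Abelianization.of (⟨gw rb, gb_mem⟩ : ↥(twistedF4 (ZMod 2) 1)) ^ 2 = 1 := by
  set A : ↥(twistedF4 (ZMod 2) 1) := ⟨gw ra, ga_mem⟩ with hA
  set An : ↥(twistedF4 (ZMod 2) 1) := ⟨gw ran, gan_mem⟩ with hAn
  set B : ↥(twistedF4 (ZMod 2) 1) := ⟨gw rb, gb_mem⟩ with hB
  have ec : B * B = (A * B * A)⁻¹ * (An * B * B)⁻¹ * (A * B * A) * (An * B * B) *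
      ((An * B)⁻¹ * (A * B⁻¹ * A)⁻¹ * (An * B) * (A * B⁻¹ * A)) := by
    refine Subtype.ext ?_
    show gw rb * gw rb = (gw ra * gw rb * gw ra)⁻¹ * (gw ran * gw rb * gw rb)⁻¹ *
      (gw ra * gw rb * gw ra) * (gw ran * gw rb * gw rb) *
      ((gw ran * gw rb)⁻¹ * (gw ra * (gw rb)⁻¹ * gw ra)⁻¹ * (gw ran * gw rb) *
        (gw ra * (gw rb)⁻¹ * gw ra))
    simp only [gw_inv, ← gw_append]
    exact gw_eq_of_sameWord sameWord_c
  rw [pow_two, ← map_mul, ec]
  simp only [map_mul, map_inv, comm_trivial, mul_one]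

/-- Every element of order 2 is conjugate to a coded word. -/
theorem exists_conj_el (g : ↥(twistedF4 (ZMod 2) 1)) (hg : orderOf g = 2) :
    ∃ (p : List ℕ × List ℕ) (q : ℕ × ℕ), p ∈ TitsCert.chunks ∧ q ∈ p.1.zip p.2 ∧
      ∃ x : ↥(twistedF4 (ZMod 2) 1), x * g * x⁻¹ = el q.1 := by
  classical
  have hK : Fintype.card (ZMod 2) = 2 ^ (2 * 0 + 1) := by simp
  have hU : Nat.card ↥(chevF4.posUnipotent (ZMod 2) ⊓ (twistedF4 (ZMod 2) 1)) = 4096 := by
    have := Cfsg.Agent.S1090.result (K := ZMod 2) (m := 0) hK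
    simpa using this
  have hcard : Nat.card ↥(twistedF4 (ZMod 2) 1) = 4096 * 8775 := by
    have := Cfsg.Agent.S1068.result (K := ZMod 2) (m := 0) hK
    simpa using this
  haveI : Finite ↥(twistedF4 (ZMod 2) 1) := Nat.finite_of_card_ne_zero (by omega)
  set P : Subgroup ↥(twistedF4 (ZMod 2) 1) := (chevF4.posUnipotent (ZMod 2) ⊓ (twistedF4 (ZMod 2) 1)).subgroupOf (twistedF4 (ZMod 2) 1) with hP
  have hPc : Nat.card ↥P = 4096 := by
    rw [hP, Nat.card_congr (Subgroup.subgroupOfEquivOfLe inf_le_right).toEquiv, hU]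
  have hPg : IsPGroup 2 ↥P := IsPGroup.of_card (n := 12) (by rw [hPc]; norm_num)
  have hidx : ¬ 2 ∣ P.index := by
    have h := P.card_mul_index
    rw [hPc, hcard] at h
    have : P.index = 8775 := Nat.eq_of_mul_eq_mul_left (by norm_num) h
    omega
  let S := hPg.toSylow hidx
  have hord : orderOf g = (2 : ℕ) ^ (1 : ℕ) := hg.trans (pow_one (2 : ℕ)).symm
  have hz : IsPGroup 2 ↥(Subgroup.zpowers g) :=
    IsPGroup.of_card (p := 2) (n := 1) ((Nat.card_zpowers g).trans hord)
  obtain ⟨Q, hQ⟩ := hz.exists_le_sylow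
  obtain ⟨x, hx⟩ := MulAction.exists_smul_eq ↥(twistedF4 (ZMod 2) 1) Q S
  have hmem : x * g * x⁻¹ ∈ P := by
    show x * g * x⁻¹ ∈ (S : Subgroup ↥(twistedF4 (ZMod 2) 1))
    rw [← hx, Sylow.coe_subgroup_smul]
    exact Subgroup.smul_mem_pointwise_smul _ (MulAut.conj x) _ (hQ (Subgroup.mem_zpowers _))
  -- the coded words fill P
  obtain ⟨C, hC⟩ : ∃ C : List (List ℕ × List ℕ), C = TitsCert.chunks := ⟨_, rfl⟩
  have chunks_ok' : ∀ p ∈ C, chunkOk p = true := fun p hp => chunks_ok p (hC ▸ hp)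
  have incr' : incr (C.flatMap Prod.snd) = true := by rw [hC]; exact chunks_incr
  have length' : (C.flatMap Prod.snd).length = 4096 := by rw [hC]; exact chunks_length
  obtain ⟨L, hL⟩ : ∃ L : List (ℕ × ℕ), L = C.flatMap fun p => p.1.zip p.2 := ⟨_, rfl⟩
  have hval : ∀ q ∈ L, opW (rootsOf q.1) v0 = q.2 := by
    intro q hq
    rw [hL] at hq
    obtain ⟨p, hp, hq⟩ := List.mem_flatMap.1 hq
    have h := chunks_ok' p hp
    simp only [chunkOk, Bool.and_eq_true, beq_iff_eq] at h
    rw [← h.1, List.zip_map_right, List.mem_map] at hq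
    obtain ⟨⟨c, c'⟩, hc, rfl⟩ := hq
    obtain rfl : c = c' := by
      obtain ⟨i, hi, he⟩ := List.getElem_of_mem hc
      simp only [List.getElem_zip, Prod.mk.injEq] at he
      exact he.1.symm.trans he.2
    exact ((opLetters_eq _ v0 v0_lt).1).symm
  have hsnd : L.map Prod.snd = C.flatMap Prod.snd := by
    rw [hL, List.map_flatMap]
    refine List.flatMap_congr fun p hp => ?_
    refine List.map_snd_zip ?_
    have h := chunks_ok' p hp
    simp only [chunkOk, Bool.and_eq_true, beq_iff_eq] at h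
    rw [← h.1, List.length_map]
  have hLl : L.length = 4096 := by
    rw [← List.length_map (f := Prod.snd), hsnd]
    exact length'
  have hnd : (L.map Prod.snd).Nodup := by
    rw [hsnd]
    exact (pairwise_of_incr _ incr').imp ne_of_lt
  have hPmem : ∀ c, el c ∈ P := fun c =>
    Subgroup.mem_subgroupOf.2 (Subgroup.mem_inf.2 ⟨letters_pos _, letters_mem _⟩)
  let f : Fin L.length → ↥P := fun i => ⟨el (L.get i).1, hPmem _⟩
  have hinj : Function.Injective f := by
    intro i j hij
    have h1 : gw (rootsOf (L.get i).1) = gw (rootsOf (L.get j).1) :=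
      congrArg (fun z : ↥P => ((z : ↥(twistedF4 (ZMod 2) 1)) : GL chevF4.Idx (ZMod 2))) hij
    have h2 : toVec (L.get i).2 = toVec (L.get j).2 := by
      rw [← hval _ (List.get_mem L i), ← hval _ (List.get_mem L j), toVec_opW _ (rootsOf_used _),
        toVec_opW _ (rootsOf_used _), ← gw_val _ (rootsOf_used _), ← gw_val _ (rootsOf_used _), h1]
    have hlt : ∀ k, (L.get k).2 < 2 ^ 52 := fun k => by
      rw [← hval _ (List.get_mem L k), rootsOf, ← (opLetters_eq _ v0 v0_lt).1]
      exact (opLetters_eq _ v0 v0_lt).2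
    have h3 : (L.get i).2 = (L.get j).2 := by
      refine Nat.eq_of_testBit_eq fun n => ?_
      by_cases hn : n < 52
      · obtain ⟨k, hk⟩ := lin_surj ⟨n, hn⟩
        have e := congrFun h2 k
        simp only [toVec, hk] at e
        revert e
        cases (L.get i).2.testBit n <;> cases (L.get j).2.testBit n <;> simp
      · rw [Nat.testBit_lt_two_pow (lt_of_lt_of_le (hlt i) (Nat.pow_le_pow_right (by norm_num) (by omega))),
          Nat.testBit_lt_two_pow (lt_of_lt_of_le (hlt j) (Nat.pow_le_pow_right (by norm_num) (by omega)))]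
    refine Fin.ext ?_
    have e := List.nodup_iff_injective_get.1 hnd (a₁ := ⟨i.val, by simp [List.length_map]⟩)
      (a₂ := ⟨j.val, by simp [List.length_map]⟩) (by simpa using h3)
    exact Fin.mk.inj e
  have hbij : Function.Bijective f :=
    (Nat.bijective_iff_injective_and_card f).2 ⟨hinj, by rw [Nat.card_fin, hLl, hPc]⟩
  obtain ⟨i, hi⟩ := hbij.2 ⟨_, hmem⟩
  have hmemL := List.get_mem L i
  generalize hqq : L.get i = q₀ at hmemL
  rw [hL] at hmemL
  obtain ⟨p, hp, hq⟩ := List.mem_flatMap.1 hmemL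
  rw [hC] at hp
  subst hqq
  exact ⟨p, _, hp, hq, x, (congrArg Subtype.val hi).symm⟩

/-- In the group ²F₄(2) (realised inside the Chevalley group of type F₄ over the field with two elements, θ the identity) every element of order 2 lies in the commutator subgroup (the Tits group, of index 2): there are no involutions outside it. -/
theorem result (g : ↥(Cfsg.Lie.twistedF4 (ZMod 2) 1)) (hg : orderOf g = 2) :
    g ∈ commutator ↥(Cfsg.Lie.twistedF4 (ZMod 2) 1) := by
  obtain ⟨p, q, hp, hq, x, hx⟩ := exists_conj_el g hg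
  have hc : x * g * x⁻¹ ∈ commutator ↥(Cfsg.Lie.twistedF4 (ZMod 2) 1) := by
    have hok := chunks_ok p hp
    simp only [chunkOk, Bool.and_eq_true, beq_iff_eq, List.all_eq_true, Bool.or_eq_true,
      bne_iff_ne] at hok
    have hqv : q.2 = opLetters (decode 16 q.1) v0 := by
      have hq' := hq
      rw [← hok.1, List.zip_map_right, List.mem_map] at hq'
      obtain ⟨⟨c, c'⟩, hc, rfl⟩ := hq'
      obtain ⟨i, hi, he⟩ := List.getElem_of_mem hc
      simp only [List.getElem_zip, Prod.mk.injEq] at he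
      show opLetters (decode 16 c') v0 = opLetters (decode 16 c) v0
      rw [← he.1, ← he.2]
    rcases hok.2 q hq with hev | hne
    · refine mem_commutator_of_pi ?_
      obtain ⟨k, hk⟩ := Nat.dvd_of_mod_eq_zero hev
      rw [hx, pi_el, hk, pow_mul, pi_b_sq, one_pow]
    · exfalso
      have h2 : el q.1 * el q.1 = 1 := by
        have hs : g * g = 1 := by
          have := pow_orderOf_eq_one g
          rwa [hg, pow_two] at this
        calc el q.1 * el q.1 = x * (g * g) * x⁻¹ := by rw [← hx]; group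
          _ = 1 := by rw [hs, mul_one, mul_inv_cancel]
      have h3 : gw (rootsOf q.1) * gw (rootsOf q.1) = 1 := by
        rw [← el_val q.1, ← Subgroup.coe_mul, h2, Subgroup.coe_one]
      have hu := rootsOf_used q.1
      have h4 : mat (rootsOf q.1 ++ rootsOf q.1) = 1 := by
        rw [← gw_val _ (fun r hr => (List.mem_append.1 hr).elim (hu r) (hu r)), gw_append, h3]
        rfl
      obtain ⟨e1, l1⟩ := opLetters_eq (decode 16 q.1) v0 v0_lt
      obtain ⟨e2, l2⟩ := opLetters_eq (decode 16 q.1) _ l1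
      rw [hqv] at hne
      refine hne ?_
      rw [e2, e1]
      have h5 : opW (rootsOf q.1) (opW (rootsOf q.1) v0) = opW (rootsOf q.1 ++ rootsOf q.1) v0 := by
        simp [opW]
      show opW (rootsOf q.1) (opW (rootsOf q.1) v0) = v0
      have l3 : opW (rootsOf q.1) (opW (rootsOf q.1) v0) < 2 ^ 52 := by
        show opW ((decode 16 q.1).flatMap letter) (opW ((decode 16 q.1).flatMap letter) v0) < 2 ^ 52
        rw [← e1, ← e2]
        exact l2
      refine Nat.eq_of_testBit_eq fun n => ?_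
      by_cases hn : n < 52
      · obtain ⟨k, hk⟩ := lin_surj ⟨n, hn⟩
        have e : toVec (opW (rootsOf q.1 ++ rootsOf q.1) v0) = toVec v0 := by
          rw [toVec_opW _ (fun r hr => (List.mem_append.1 hr).elim (hu r) (hu r)), h4, Matrix.vecMul_one]
        rw [← h5] at e
        have e' := congrFun e k
        simp only [toVec, hk] at e'
        revert e'
        cases (opW (rootsOf q.1) (opW (rootsOf q.1) v0)).testBit n <;> cases v0.testBit n <;> simp
      · rw [Nat.testBit_lt_two_pow (lt_of_lt_of_le l3 (Nat.pow_le_pow_right (by norm_num) (by omega))),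
          Nat.testBit_lt_two_pow (lt_of_lt_of_le v0_lt (Nat.pow_le_pow_right (by norm_num) (by omega)))]
  have h := (inferInstance : (commutator ↥(Cfsg.Lie.twistedF4 (ZMod 2) 1)).Normal).conj_mem _ hc x⁻¹
  rwa [show x⁻¹ * (x * g * x⁻¹) * x⁻¹⁻¹ = g by group] at h

end Cfsg.Agent.S2185
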