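import Cfsg.Statements.S2190
import Cfsg.Agent.Lib.Chevalley.Overgroup.Tables
import Cfsg.Agent.Lib.Chevalley.Overgroup.FixedField
-- import your own Cfsg.Agent.* helpers here

set_option autoImplicit false
open Cfsg

namespace Cfsg.Agent.S2190

/-- Subfield subgroups of prime degree are maximal. Let K be a finite field with q^r elements, r a prime, q a power of the characteristic, and G the Chevalley group of type G₂, B₂, D₄, F₄, E₆, E₇ or E₈ over K (the matrix group generated by the root elements). Let M be the subgroup of G consisting of the matrices all of whose entries lie in the subfield with q elements (entries c with c^q = c). Then M is a proper subgroup of G and is maximal: every subgroup of G containing M is M or G. -/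
theorem result {K : Type*} [Field K] [Fintype K] (p : ℕ) [Fact p.Prime] [CharP K p] (D : Cfsg.Lie.ChevalleyDatum) (hD : D ∈ [Cfsg.Lie.chevG2, Cfsg.Lie.chevB2, Cfsg.Lie.chevD4, Cfsg.Lie.chevF4, Cfsg.Lie.chevE6, Cfsg.Lie.chevE7, Cfsg.Lie.chevE8]) (a r : ℕ) (ha : 1 ≤ a) (hr : r.Prime) (hK : Fintype.card K = (p ^ a) ^ r) (M : Subgroup (GL D.Idx K))
    (hM : ∀ g : GL D.Idx K, g ∈ M ↔ g ∈ D.group K ∧ ∀ i j : D.Idx, ((g : Matrix D.Idx D.Idx K) i j) ^ (p ^ a) = (g : Matrix D.Idx D.Idx K) i j) :
    M ≠ D.group K ∧ ∀ H : Subgroup (GL D.Idx K), M ≤ H → H ≤ D.group K → H = M ∨ H = D.group K := by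
  classical
  obtain ⟨T, hc, rfl⟩ := CfsgLib.Chevalley.Overgroup.exists_cert hD
  have hT := hc.valid
  obtain ⟨hn, -⟩ := CfsgLib.Chevalley.Overgroup.chkTop_lt hc.top
  have hxM : ∀ s < T.n, ∀ t : K, t ^ p ^ a = t → T.xU K s t ∈ M := by
    intro s hs t ht
    refine (hM _).mpr ⟨CfsgLib.Chevalley.Tbl.xU_mem_group hT hs t, fun i j => ?_⟩
    have e := CfsgLib.KnownB.FieldAut.map_xU (iterateFrobenius K p a) hT hs t
    rw [show iterateFrobenius K p a t = t from (iterateFrobenius_def p a t).trans ht] at e
    have e' := congrArg (fun x : GL T.I K => (x : Matrix T.I T.I K) i j) e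
    simpa [CfsgLib.Chevalley.Overgroup.mapGL_apply, iterateFrobenius_def] using e'
  refine ⟨fun hMG => ?_, fun H hMH hHG => ?_⟩
  · have hp := (Fact.out : p.Prime)
    have h1 : 1 < p ^ a := Nat.one_lt_pow (by omega) hp.one_lt
    obtain ⟨t, ht⟩ : ∃ t : K, t ^ p ^ a ≠ t := by
      by_contra hno
      push Not at hno
      have hsub : (Finset.univ : Finset K) ⊆
          (Polynomial.X ^ p ^ a - Polynomial.X : Polynomial K).roots.toFinset := fun t _ => by
        rw [Multiset.mem_toFinset,
          Polynomial.mem_roots (FiniteField.X_pow_card_sub_X_ne_zero K h1)]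
        simp [hno t]
      have hle := (Finset.card_le_card hsub).trans
        ((Multiset.toFinset_card_le _).trans (Polynomial.card_roots' _))
      rw [Finset.card_univ, hK, FiniteField.X_pow_card_sub_X_natDegree_eq K h1] at hle
      have := Nat.pow_lt_pow_right h1 hr.one_lt
      rw [pow_one] at this
      omega
    have hx : T.xU K (T.n - 1) t ∈ M := hMG ▸ CfsgLib.Chevalley.Tbl.xU_mem_group hT hn t
    refine ht ?_
    have e : CfsgLib.KnownB.FieldAut.mapGL T (iterateFrobenius K p a) (T.xU K (T.n - 1) t) =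
        T.xU K (T.n - 1) t := Units.ext (Matrix.ext fun i j => by
      rw [CfsgLib.Chevalley.Overgroup.mapGL_apply, iterateFrobenius_def]
      exact ((hM _).mp hx).2 i j)
    rw [CfsgLib.KnownB.FieldAut.map_xU (iterateFrobenius K p a) hT hn] at e
    exact (iterateFrobenius_def p a t).symm.trans (CfsgLib.Chevalley.Tbl.xU_inj hT hn e)
  · have hB : CfsgLib.Chevalley.Overgroup.Base T K H :=
      ⟨inferInstance, hHG, fun s hs => hMH (hxM s hs 1 (one_pow _))⟩
    obtain ⟨m, hm, hroot, hent⟩ := CfsgLib.Chevalley.Overgroup.exists_field hc p hB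
    rcases CfsgLib.Chevalley.Overgroup.eq_or_all_fixed p ha hr hK
      (fun t ht => (hroot _ hn t).mp (hMH (hxM _ hn t ht))) with h | h
    · exact Or.inl (le_antisymm (fun g hg => (hM g).mpr
        ⟨hHG hg, fun i j => h _ (hent g hg i j)⟩) hMH)
    · refine Or.inr (le_antisymm hHG ?_)
      rw [CfsgLib.Chevalley.Tbl.group_eq hT, Subgroup.closure_le]
      rintro g ⟨s, hs, t, rfl⟩
      exact (hroot s hs t).mpr (h t)

end Cfsg.Agent.S2190
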