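import Cfsg.Statements.S2192
import Cfsg.Agent.Lib.KnownA.D4Sub.Cent
-- import your own Cfsg.Agent.* helpers here

set_option autoImplicit false
set_option maxRecDepth 20000
open Cfsg CfsgLib.Chevalley CfsgLib.KnownA.D4Sub

namespace Cfsg.Agent.S2192

/-- In the twisted group ³D₄(q), realised inside the Chevalley group of type D₄ over the field K with q³ elements (q a power of the characteristic) as the subgroup generated by the root elements, and products of root elements, that the twisting map fixes, the subgroup of matrices all of whose entries lie in the subfield with q elements (it contains the subgroup of type G₂ over that subfield) is a proper maximal subgroup. -/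
theorem result {K : Type*} [Field K] [Fintype K] (p : ℕ) [Fact p.Prime] [CharP K p] (q : ℕ) (hq : ∃ a : ℕ, 1 ≤ a ∧ q = p ^ a) (hK : Fintype.card K = q ^ 3) (M : Subgroup (GL Cfsg.Lie.chevD4.Idx K))
    (hM : ∀ g : GL Cfsg.Lie.chevD4.Idx K, g ∈ M ↔ g ∈ Cfsg.Lie.twistedD4 K q ∧ ∀ i j : Cfsg.Lie.chevD4.Idx, ((g : Matrix Cfsg.Lie.chevD4.Idx Cfsg.Lie.chevD4.Idx K) i j) ^ q = (g : Matrix Cfsg.Lie.chevD4.Idx Cfsg.Lie.chevD4.Idx K) i j) :
    M ≠ Cfsg.Lie.twistedD4 K q ∧ ∀ H : Subgroup (GL Cfsg.Lie.chevD4.Idx K), M ≤ H → H ≤ Cfsg.Lie.twistedD4 K q → H = M ∨ H = Cfsg.Lie.twistedD4 K q := by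
  obtain ⟨a, ha, rfl⟩ := hq
  have hq' : IsPrimePow (p ^ a) := (isPrimePow_nat_iff _).mpr ⟨p, a, Fact.out, ha, rfl⟩
  have hK' : Nat.card K = (p ^ a) ^ 3 := Nat.card_eq_fintype_card.trans hK
  revert M
  refine Twist.D4.transfer hq' hK' (fun D G => ∀ M : Subgroup (GL D.Idx K),
    (∀ g : GL D.Idx K, g ∈ M ↔ g ∈ G ∧ ∀ i j : D.Idx, ((g : Matrix D.Idx D.Idx K) i j) ^ (p ^ a) =
      (g : Matrix D.Idx D.Idx K) i j) →
    M ≠ G ∧ ∀ H : Subgroup (GL D.Idx K), M ≤ H → H ≤ G → H = M ∨ H = G) ?_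
  intro M hM
  have hphi : ∀ g : GL Data.D4.tbl.I K, phi hq' hK' g = g ↔
      ∀ i j, ((g : Matrix Data.D4.tbl.I Data.D4.tbl.I K) i j) ^ (p ^ a) =
        (g : Matrix Data.D4.tbl.I Data.D4.tbl.I K) i j := by
    intro g
    constructor
    · intro h i j
      have := congrArg (fun x : GL Data.D4.tbl.I K => (x : Matrix Data.D4.tbl.I Data.D4.tbl.I K) i j) h
      simpa [phi, CfsgLib.KnownB.FieldAut.mapGL, Twist.D4.fq_apply] using this
    · intro h
      refine Units.ext (Matrix.ext fun i j => ?_)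
      simpa [phi, CfsgLib.KnownB.FieldAut.mapGL, Twist.D4.fq_apply] using h i j
  have hmem : ∀ g, g ∈ M ↔ g ∈ (Tbl.AbSetup.S (Twist.D4.setup hq' hK')).fix ∧ phi hq' hK' g = g :=
    fun g => (hM g).trans (and_congr_right fun _ => (hphi g).symm)
  constructor
  · intro e
    obtain ⟨t, ht⟩ : ∃ t : K, Twist.D4.fq hq' hK' t ≠ t := by
      by_contra hall
      push Not at hall
      have h1 : Nat.card {c : K // Twist.D4.fq hq' hK' c = c} = Nat.card K :=
        Nat.card_congr (Equiv.subtypeUnivEquiv hall)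
      rw [card_fix hq' hK', hK'] at h1
      exact absurd h1 (ne_of_lt (lt_self_pow₀ hq'.two_le (by norm_num)))
    have hA : A hq' hK' t ∈ M := e ▸ A_fix hq' hK' t
    have h2 := ((hmem _).mp hA).2
    rw [A_phi] at h2
    have hh : Data.D4.tbl.half = 12 := by decide +kernel
    simp only [A] at h2
    rw [sw_13_12, sw_13_12, sw_18_12' , sw_18_13, sw_18_12', sw_18_13] at h2
    exact ht (Twist.D4.fq hq' hK' |>.injective (Twist.D4.fq hq' hK' |>.injective
      (Tbl.xU_mul_inj Data.D4.valid Data.D4.chkComm (k := 12) (by rw [hh]) (by decide +kernel)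
        (mul_mem (Tbl.xU_mem_rootGen (P := fun s => 12 + 1 ≤ s) (show 13 < Data.D4.tbl.n by decide +kernel) (by norm_num) _)
          (Tbl.xU_mem_rootGen (P := fun s => 12 + 1 ≤ s) (show 18 < Data.D4.tbl.n by decide +kernel) (by norm_num) _))
        (mul_mem (Tbl.xU_mem_rootGen (P := fun s => 12 + 1 ≤ s) (show 13 < Data.D4.tbl.n by decide +kernel) (by norm_num) _)
          (Tbl.xU_mem_rootGen (P := fun s => 12 + 1 ≤ s) (show 18 < Data.D4.tbl.n by decide +kernel) (by norm_num) _))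
        h2).1))
  intro H hMH hHG
  have hov : Over hq' hK' H := ⟨hHG, fun g hg hgφ => hMH ((hmem g).mpr ⟨hg, hgφ⟩)⟩
  by_cases hH : H = (Tbl.AbSetup.S (Twist.D4.setup hq' hK')).fix
  · exact Or.inr hH
  refine Or.inl (le_antisymm (fun h hh' => (hmem h).mpr ⟨hHG hh', ?_⟩) hMH)
  have hd : CommAll hq' hK' (h⁻¹ * phi hq' hK' h) := by
    intro m hm hmφ
    have k := hov.conj_top_fixed hH (mul_mem hh' (hov.ge m hm hmφ))
    rw [show h * m * Data.D4.tbl.xU K 23 1 * (h * m)⁻¹ = h * (m * Data.D4.tbl.xU K 23 1 * m⁻¹) * h⁻¹ by group]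
      at k
    set z := m * Data.D4.tbl.xU K 23 1 * m⁻¹ with hz
    have hzφ : phi hq' hK' z = z :=
      conj_of_fixed hmφ (Over.long_phi (by norm_num) (by decide +kernel) (map_one _))
    rw [map_mul, map_mul, map_inv, hzφ] at k
    show _ = _
    calc h⁻¹ * phi hq' hK' h * z = h⁻¹ * (phi hq' hK' h * z * (phi hq' hK' h)⁻¹) * phi hq' hK' h := by group
      _ = _ := by rw [k]; group
  have h1 := eq_one_of_commAll hd (mul_mem (inv_mem (hHG hh')) (phi_fix hq' hK' (hHG hh')))
  exact (inv_mul_eq_one.mp h1).symm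

end Cfsg.Agent.S2192
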