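import Cfsg.Statements.S2209
import Cfsg.Agent.Lib.Chevalley.Tables
import Cfsg.Agent.Lib.KnownB.RootCentralizer.Apply

set_option autoImplicit false
open Cfsg

namespace Cfsg.Agent.S2209

open CfsgLib.Chevalley CfsgLib.Chevalley.Tbl CfsgLib.KnownB.RootCentralizer

/-- The generators on the negative side are the given list. -/
def chkGen (T : Tbl) (r : ℕ) (M : List ℕ) : Bool :=
  (M.all fun s => decide (s < T.n)) &&
    (List.range T.n).all fun s => decide (s ∈ M ↔ ∃ j ∈ orthSimple T [r], s = T.neg (T.simple j))

theorem e_centralizer {F : Type*} [Field F] [CharP F 2] {T : Tbl} (hT : T.Valid) (hC : T.chkComm = true)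
    {r : ℕ} {M : List ℕ} (hr : chkCentral T [r] = true) (hgen : chkGen T r M = true)
    (t : GL T.datum.Idx F) (ht : (t : Matrix T.datum.Idx T.datum.Idx F) = T.datum.x F r 1) :
    T.datum.group F ⊓ Subgroup.centralizer {t} = T.datum.posUnipotent F ⊔ Subgroup.closure
      {g : GL T.datum.Idx F | ∃ s ∈ M, ∃ c : F,
        (g : Matrix T.datum.Idx T.datum.Idx F) = T.datum.x F s c} := by
  simp only [chkGen, Bool.and_eq_true, List.all_eq_true, decide_eq_true_eq, List.mem_range] at hgen
  rw [centralizer_root hT hC (centralCond_of_chk hr) ht, rootGen_list hT (M := M) hgen.2,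
    closure_list_eq hT hgen.1]

theorem condE6 : chkCentral Data.E6.tbl [71] = true := by decide +kernel
theorem condE7 : chkCentral Data.E7.tbl [125] = true := by decide +kernel
theorem condE8 : chkCentral Data.E8.tbl [239] = true := by decide +kernel
theorem genE6 : chkGen Data.E6.tbl 71 [15, 29, 32, 34, 35] = true := by decide +kernel
theorem genE7 : chkGen Data.E7.tbl 125 [47, 52, 56, 59, 61, 62] = true := by decide +kernel
theorem genE8 : chkGen Data.E8.tbl 239 [77, 98, 104, 109, 113, 116, 118] = true := by decide +kernel

/-- Centralizer of a long root involution in the Chevalley groups of type E₆, E₇, E₈ over a finite field F of characteristic two. Let G be the group generated by the root elements, U the subgroup generated by the positive root subgroups, r the highest root (the last root index: 71, 125, 239 respectively), and t the element of G with matrix x_r(1). Then the centralizer of t in G is the subgroup generated by U together with the root subgroups X_{−p} for the fundamental roots p orthogonal to r — all fundamental roots except p₂ for E₆, except p₁ for E₇, except p₈ for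 E₈ (numbering with p₁–p₃–p₄–…–p_l the long chain and p₂ joined to p₄); the indices of these negative fundamental roots are 15, 29, 32, 34, 35 (E₆), 47, 52, 56, 59, 61, 62 (E₇), 77, 98, 104, 109, 113, 116, 118 (E₈). (This is the unipotent radical of the corresponding maximal parabolic subgroup extended by the root subgroups of its Levi factor, of type A₅, D₆, E₇ respectively.) -/
theorem result {F : Type*} [Field F] [Fintype F] [CharP F 2] (d : Cfsg.Lie.ChevalleyDatum × List ℕ)
    (hd : d ∈ [(Cfsg.Lie.chevE6, [15, 29, 32, 34, 35]), (Cfsg.Lie.chevE7, [47, 52, 56, 59, 61, 62]), (Cfsg.Lie.chevE8, [77, 98, 104, 109, 113, 116, 118])])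
    (t : GL d.1.Idx F) (ht : (t : Matrix d.1.Idx d.1.Idx F) = d.1.x F (d.1.nroots - 1) 1) :
    d.1.group F ⊓ Subgroup.centralizer {t} = d.1.posUnipotent F ⊔ Subgroup.closure {g : GL d.1.Idx F | ∃ s ∈ d.2, ∃ c : F, (g : Matrix d.1.Idx d.1.Idx F) = d.1.x F s c} := by
  simp only [List.mem_cons, List.not_mem_nil, or_false] at hd
  rcases hd with rfl | rfl | rfl
  · revert t
    simp only
    rw [← CfsgLib.Chevalley.Data.E6.datum_eq]
    intro t ht
    exact e_centralizer Data.E6.valid Data.E6.chkComm condE6 genE6 t ht
  · revert t
    simp only
    rw [← CfsgLib.Chevalley.Data.E7.datum_eq]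
    intro t ht
    exact e_centralizer Data.E7.valid Data.E7.chkComm condE7 genE7 t ht
  · revert t
    simp only
    rw [← CfsgLib.Chevalley.Data.E8.datum_eq]
    intro t ht
    exact e_centralizer Data.E8.valid Data.E8.chkComm condE8 genE8 t ht

end Cfsg.Agent.S2209
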