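import Cfsg.Statements.S2219
import Cfsg.Agent.Lib.SmallGroups.NineTwoPrimes.KleinMain
import Cfsg.Agent.Lib.SmallGroups.NineTwoPrimes.Finish

set_option autoImplicit false
open Cfsg

namespace Cfsg.Agent.S2219

open CfsgLib.SmallGroups in
/-- Let G be a non-abelian finite simple group of order 9·2ᵃ·qᵇ for a prime q other than 2 and 3, having at least three conjugacy classes of nonidentity 3-elements (elements of order 3 or 9). Then G is isomorphic to PSL(2,8) or to PSL(2,17). -/
theorem result {G : Type*} [Group G] [Finite G] [IsSimpleGroup G] (hG : ¬ IsMulCommutative G)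
    (q a b : ℕ) (hq : q.Prime) (hq2 : q ≠ 2) (hq3 : q ≠ 3) (hcard : Nat.card G = 9 * 2 ^ a * q ^ b)
    (h3 : 3 ≤ Nat.card {C : ConjClasses G // ∃ g ∈ C.carrier, g ≠ 1 ∧ orderOf g ∣ 9}) :
    (∃ (F : Type) (_ : Field F) (_ : Fintype F), Fintype.card F = 8 ∧
        Nonempty (G ≃* Matrix.ProjectiveSpecialLinearGroup (Fin 2) F)) ∨
      Nonempty (G ≃* Matrix.ProjectiveSpecialLinearGroup (Fin 2) (ZMod 17)) := by
  have := Fintype.ofFinite G
  haveI : Fact (Nat.Prime 3) := ⟨Nat.prime_three⟩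
  obtain ⟨P⟩ : Nonempty (Sylow 3 G) := inferInstance
  have h9 : Nat.card (P : Subgroup G) = 9 := by
    have := SimpleTools.card_sylow_subgroup (k := 2) (m := 2 ^ a * q ^ b) (by rw [hcard]; ring) (fun e => by
      rcases Nat.prime_three.dvd_mul.1 e with e | e
      · exact absurd (Nat.prime_three.dvd_of_dvd_pow e) (by norm_num)
      · exact hq3 ((Nat.prime_dvd_prime_iff_eq Nat.prime_three hq).1 (Nat.prime_three.dvd_of_dvd_pow e)).symm) P
    simpa using this
  rcases NineTwoPrimes.fusion_pattern hG h9 h3 with hP | ⟨x, y, hK⟩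
  · obtain ⟨hq7, hcent⟩ := NineTwoPrimes.plain_cent hG hq hq2 hq3 hcard h9 hP
    by_cases hexp : ∀ z ∈ (P : Subgroup G), z ^ 3 = 1
    · exfalso
      obtain ⟨e⟩ := NineTwoPrimes.alt6_of_exp h9 hexp hcent (hP.exists_classes h9 hexp)
      have h360 : Nat.card G = 360 := by
        rw [Nat.card_congr e.toEquiv, nat_card_alternatingGroup, Nat.card_fin]; rfl
      have hb : b ≠ 0 := by
        rintro rfl
        exact NineTwoPrimes.not_two_primes (a := 2) (b := a) hG Nat.prime_three Nat.prime_two (by rw [hcard]; ring)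
      have hd : q ∣ 2 ^ 3 * 3 ^ 2 * 5 := by
        rw [show 2 ^ 3 * 3 ^ 2 * 5 = 360 by norm_num, ← h360, hcard]
        exact dvd_mul_of_dvd_right (dvd_pow_self q hb) _
      rcases hq.dvd_mul.1 hd with h' | h'
      · rcases hq.dvd_mul.1 h' with h' | h'
        · exact hq2 ((Nat.prime_dvd_prime_iff_eq hq Nat.prime_two).1 (hq.dvd_of_dvd_pow h'))
        · exact hq3 ((Nat.prime_dvd_prime_iff_eq hq Nat.prime_three).1 (hq.dvd_of_dvd_pow h'))
      · have := Nat.le_of_dvd (by norm_num) h'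
        omega
    · obtain ⟨u, hu⟩ := hP.exists_inv h9 hcent
      exact NineTwoPrimes.psl_of_inv hG hq hq2 hq3 hcard hu h9
  · exact (NineTwoPrimes.klein_false hG hq hq2 hq3 hcard hK).elim

end Cfsg.Agent.S2219
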