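import Cfsg.Statements.S2221
import Cfsg.Agent.Lib.Perm.SylowTwoDecomp.Indec

set_option autoImplicit false
open Cfsg

namespace Cfsg.Agent.S2221

section Helpers

open CfsgLib.Perm.SylowTwoDecomp CfsgLib.Perm.SylowGen

theorem zmod_two_sum : ∀ x y : ZMod 2, x + y = 0 → x = y ∧ (x = 0 ∨ x = 1) := by decide

/-- The Sylow 2-subgroup of `A_n` decomposes exactly when the even wreath product over a Sylow
2-subgroup of `S_{n/2}` does. -/
theorem dec_sylow_iff (n m : ℕ) (hn : 2 ≤ n) (hm : m = n / 2)
    (P : Sylow 2 (alternatingGroup (Fin n))) (Q : Sylow 2 (Equiv.Perm (Fin m))) :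
    Dec (P : Subgroup (alternatingGroup (Fin n))) ↔
      Dec (evenWreath (Q : Subgroup (Equiv.Perm (Fin m)))) := by
  classical
  haveI : Fact (Nat.Prime 2) := ⟨Nat.prime_two⟩
  let β := Fin m × ZMod 2
  obtain ⟨e⟩ : Nonempty (β ↪ Fin n) := Function.Embedding.nonempty_of_card_le (by
    rw [Fintype.card_prod, Fintype.card_fin, Fintype.card_fin, ZMod.card]; omega)
  let ψ : Equiv.Perm β →* Equiv.Perm (Fin n) :=
    Equiv.Perm.ofSubtype.comp (Equiv.permCongrHom (Equiv.ofInjective e e.injective)).toMonoidHom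
  have hψ : Function.Injective ψ :=
    Equiv.Perm.ofSubtype_injective.comp (Equiv.permCongrHom _).injective
  have hs : ∀ g, Equiv.Perm.sign (ψ g) = Equiv.Perm.sign g := fun g => by
    show Equiv.Perm.sign (Equiv.Perm.ofSubtype ((Equiv.ofInjective e e.injective).permCongr g)) = _
    rw [Equiv.Perm.sign_ofSubtype, Equiv.Perm.sign_permCongr]
  let φ : alternatingGroup β →* alternatingGroup (Fin n) :=
    { toFun := fun g => ⟨ψ g, by
        rw [Equiv.Perm.mem_alternatingGroup, hs]
        exact Equiv.Perm.mem_alternatingGroup.1 g.2⟩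
      map_one' := Subtype.ext (by simp)
      map_mul' := fun g h => Subtype.ext (by simp) }
  have hφ : Function.Injective φ := fun g h hgh => Subtype.ext (hψ (congrArg Subtype.val hgh))
  set M := evenWreath (Q : Subgroup (Equiv.Perm (Fin m))) with hM
  have hMA : M ≤ alternatingGroup β := inf_le_right
  set P0 : Subgroup (alternatingGroup (Fin n)) := (M.subgroupOf (alternatingGroup β)).map φ with hP0
  -- the order of `M`
  set W := wreath (p := 2) (Q : Subgroup (Equiv.Perm (Fin m))) with hW
  let s : W →* ℤˣ := Equiv.Perm.sign.comp W.subtype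
  have hker : s.ker.map W.subtype = M := by
    ext g
    simp only [Subgroup.mem_map, MonoidHom.mem_ker, hM, evenWreath, Subgroup.mem_inf,
      Equiv.Perm.mem_alternatingGroup, Subgroup.coe_subtype]
    constructor
    · rintro ⟨u, hu, rfl⟩; exact ⟨u.2, hu⟩
    · rintro ⟨hu, hsg⟩; exact ⟨⟨g, hu⟩, hsg, rfl⟩
  have hsurj : Function.Surjective s := by
    intro u
    rcases Int.units_eq_one_or u with rfl | rfl
    · exact ⟨1, map_one s⟩
    · refine ⟨⟨elt (Pi.single ⟨0, by omega⟩ 1) 1, _, 1, Subgroup.one_mem _, rfl⟩, ?_⟩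
      show Equiv.Perm.sign (elt (Pi.single _ 1) 1) = -1
      rw [sign_elt, Finset.sum_pi_single', if_pos (Finset.mem_univ _), if_neg one_ne_zero]
  have hMcard : Nat.card M * 2 = 2 ^ (m + (Nat.factorial m).factorization 2) := by
    rw [← hker, Subgroup.card_map_of_injective W.subtype_injective]
    have h1 := Subgroup.card_mul_index s.ker
    rw [Subgroup.index_ker, MonoidHom.range_eq_top.2 hsurj, Subgroup.card_top,
      Nat.card_eq_fintype_card (α := ℤˣ), Fintype.card_units_int] at h1
    rw [h1, hW, card_wreath, Fintype.card_fin, Sylow.card_eq_multiplicity, Nat.card_perm,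
      Nat.card_fin, pow_add]
  have hfac : (Nat.factorial n).factorization 2 = m + (Nat.factorial m).factorization 2 := by
    rw [Nat.factorization_def _ Nat.prime_two, Nat.factorization_def _ Nat.prime_two]
    conv_lhs => rw [show n = 2 * m + n % 2 by omega]
    rw [padicValNat_factorial_mul_add m (Nat.mod_lt n (by norm_num)), padicValNat_factorial_mul,
      add_comm]
  haveI : Nontrivial (Fin n) := Fin.nontrivial_iff_two_le.2 hn
  have hA : 2 * Nat.card (alternatingGroup (Fin n)) = Nat.factorial n := by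
    rw [nat_card_alternatingGroup, Nat.card_fin,
      Nat.mul_div_cancel' (Nat.dvd_factorial (by norm_num) hn)]
  have hP0card : Nat.card P0 = 2 ^ (Nat.card (alternatingGroup (Fin n))).factorization 2 := by
    rw [hP0, Subgroup.card_map_of_injective hφ,
      Nat.card_congr (Subgroup.subgroupOfEquivOfLe hMA).toEquiv]
    have h2 : (Nat.factorial n).factorization 2
        = 1 + (Nat.card (alternatingGroup (Fin n))).factorization 2 := by
      rw [← hA, Nat.factorization_mul (by norm_num) Nat.card_pos.ne', Finsupp.add_apply,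
        Nat.Prime.factorization_self Nat.prime_two]
    rw [← hfac, h2, pow_add, pow_one, mul_comm 2] at hMcard
    exact Nat.eq_of_mul_eq_mul_right (by norm_num) hMcard
  obtain ⟨u, hu⟩ := MulAction.exists_smul_eq (alternatingGroup (Fin n)) (Sylow.ofCard P0 hP0card) P
  have hPmap : (P : Subgroup (alternatingGroup (Fin n))) = P0.map (MulAut.conj u).toMonoidHom := by
    rw [← hu, Sylow.coe_subgroup_smul, Sylow.coe_ofCard]
    rfl
  rw [hPmap, dec_map_iff (MulAut.conj u).injective, hP0, dec_map_iff hφ,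
    ← dec_map_iff (alternatingGroup β).subtype_injective, Subgroup.subgroupOf_map_subtype,
    inf_eq_left.2 hMA, hM]

theorem dec_two (Q : Sylow 2 (Equiv.Perm (Fin 2))) :
    Dec (evenWreath (Q : Subgroup (Equiv.Perm (Fin 2)))) := by
  haveI : Fact (Nat.Prime 2) := ⟨Nat.prime_two⟩
  have hQ : ∀ g : Equiv.Perm (Fin 2), g ∈ (Q : Subgroup (Equiv.Perm (Fin 2))) := by
    have : (Q : Subgroup (Equiv.Perm (Fin 2))) = ⊤ := by
      refine Subgroup.eq_top_of_card_eq _ ?_
      rw [Sylow.card_eq_multiplicity, Nat.card_perm, Nat.card_fin, Nat.factorial_two,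
        Nat.Prime.factorization_self Nat.prime_two, pow_one]
    intro g; rw [this]; trivial
  set a := elt (fun _ : Fin 2 => (1 : ZMod 2)) 1 with ha
  set b := elt (0 : Fin 2 → ZMod 2) (Equiv.swap 0 1) with hb
  have hf : ∀ f : Fin 2 → ZMod 2, ∑ i, f i = 0 → f = 0 ∨ f = fun _ => 1 := by
    intro f h
    rw [Fin.sum_univ_two] at h
    obtain ⟨e, h0⟩ := zmod_two_sum _ _ h
    rcases h0 with h0 | h0
    · left; funext i; fin_cases i <;> simp_all
    · right; funext i; fin_cases i <;> simp_all
  have hg : ∀ g : Equiv.Perm (Fin 2), g = 1 ∨ g = Equiv.swap 0 1 := by decide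
  have ha2 : a * a = 1 := by
    rw [ha, elt_mul, ← elt_one]; congr 1
  have hb2 : b * b = 1 := by
    rw [hb, elt_mul, ← elt_one]; congr 1
    · simp
  have hz : ∀ x : Equiv.Perm (Fin 2 × ZMod 2), x * x = 1 →
      ∀ y ∈ Subgroup.zpowers x, y = 1 ∨ y = x := by
    intro x hx y hy
    obtain ⟨i, rfl⟩ := Subgroup.mem_zpowers_iff.1 hy
    rcases Int.even_or_odd i with ⟨k, rfl⟩ | ⟨k, rfl⟩
    · left; rw [← two_mul, zpow_mul, zpow_two, hx, one_zpow]
    · right; rw [zpow_add, zpow_mul, zpow_two, hx, one_zpow, one_mul, zpow_one]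
  have hc : Commute a b := by
    show a * b = b * a
    rw [ha, hb, elt_mul, elt_mul]
    simp
    congr 1
  have haM : a ∈ evenWreath (Q : Subgroup (Equiv.Perm (Fin 2))) := elt_mem.2 ⟨hQ _, by rw [Fin.sum_univ_two]; exact CharTwo.add_self_eq_zero _⟩
  have hbM : b ∈ evenWreath (Q : Subgroup (Equiv.Perm (Fin 2))) := elt_mem.2 ⟨hQ _, by simp⟩
  have ha1 : a ≠ 1 := fun h => by
    have := congrFun (elt_eq_one h).1 0
    simp at this
  have hb1 : b ≠ 1 := fun h => by
    have := (elt_eq_one h).2
    simp [Equiv.swap_eq_one_iff] at this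
  refine ⟨Subgroup.zpowers a, Subgroup.zpowers b, by simpa [Subgroup.zpowers_eq_bot] using ha1,
    by simpa [Subgroup.zpowers_eq_bot] using hb1, by simpa [Subgroup.zpowers_le] using haM,
    by simpa [Subgroup.zpowers_le] using hbM, ?_, ?_, ?_⟩
  · intro x hx y hy
    rcases hz a ha2 x hx with rfl | rfl <;> rcases hz b hb2 y hy with rfl | rfl <;> simp [hc.eq]
  · rw [Subgroup.eq_bot_iff_forall]
    rintro x ⟨hx, hy⟩
    rcases hz a ha2 x hx with rfl | rfl
    · rfl
    rcases hz b hb2 _ hy with h | h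
    · exact absurd h ha1
    · have := congrFun (elt_inj h).1 0
      simp at this
  · refine le_antisymm (sup_le (by simpa [Subgroup.zpowers_le] using haM)
      (by simpa [Subgroup.zpowers_le] using hbM)) ?_
    intro x hx
    obtain ⟨f, g, -, hfs, rfl⟩ := (mem_evenWreath _).1 hx
    have key : elt f g = elt f 1 * elt 0 g := by
      rw [elt_mul, one_mul]; simp
    rw [key]
    refine Subgroup.mul_mem _ (Subgroup.mem_sup_left ?_) (Subgroup.mem_sup_right ?_)
    · rcases hf f hfs with rfl | rfl
      · rw [elt_one]; exact one_mem _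
      · exact Subgroup.mem_zpowers a
    · rcases hg g with rfl | rfl
      · rw [elt_one]; exact one_mem _
      · exact Subgroup.mem_zpowers b

theorem dec_iff (m : ℕ) (hm : 2 ≤ m) (Q : Sylow 2 (Equiv.Perm (Fin m))) :
    Dec (evenWreath (Q : Subgroup (Equiv.Perm (Fin m)))) ↔
      (m = 2 ∨ (Odd m ∧ ∀ k : ℕ, m - 1 ≠ 2 ^ k)) := by
  classical
  haveI : Fact (Nat.Prime 2) := ⟨Nat.prime_two⟩
  rcases Nat.lt_or_ge m 3 with h3 | h3
  · obtain rfl : m = 2 := by omega
    exact ⟨fun _ => Or.inl rfl, fun _ => dec_two Q⟩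
  have hc : 3 ≤ Fintype.card (Fin m) := by simpa using h3
  rcases Nat.even_or_odd m with hev | hodd
  · refine ⟨fun h => absurd h ?_, fun h => ?_⟩
    · by_cases htr : ∀ a b : Fin m, ∃ g ∈ (Q : Subgroup (Equiv.Perm (Fin m))), g a = b
      · exact not_dec_transitive Q hc htr
      · have h5 : 5 ≤ m := by
          by_contra h5
          obtain rfl : m = 4 := by
            rw [Nat.even_iff] at hev
            omega
          haveI : MulAction.IsPretransitive (Equiv.Perm (Fin 4)) (Fin 4) :=
            ⟨fun u v => ⟨Equiv.swap u v, Equiv.swap_apply_left u v⟩⟩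
          haveI := CfsgLib.Perm.Basic.sylow_isPretransitive (p := 2) (f := 2)
            (show Nat.card (Fin 4) = 2 ^ 2 by simp) Q
          exact htr fun a b => by
            obtain ⟨g, hg⟩ := MulAction.exists_smul_eq (Q : Subgroup (Equiv.Perm (Fin 4))) a b
            exact ⟨g, g.2, hg⟩
        refine not_dec_intransitive Q (by simpa using h5)
          (no_fixed Q (by simpa using hev)) fun x => ?_
        by_contra hall
        push Not at hall
        refine htr fun a b => ?_
        obtain ⟨g, hg, rfl⟩ := (mem_orb Q).1 (hall a)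
        obtain ⟨g', hg', rfl⟩ := (mem_orb Q).1 (hall b)
        exact ⟨g' * g⁻¹, Subgroup.mul_mem _ hg' (Subgroup.inv_mem _ hg), by simp⟩
    · rcases h with h | ⟨h, -⟩
      · omega
      · exact absurd h (Nat.not_odd_iff_even.2 hev)
  · obtain ⟨p₀, hp⟩ := exists_fixed Q (by simpa using hodd)
    constructor
    · intro h
      refine Or.inr ⟨hodd, fun k hk => ?_⟩
      have hk1 : 1 ≤ k := by
        rcases k with _ | k
        · simp at hk; omega
        · omega
      exact not_dec_odd Q hc (by simpa using hodd)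
        (fun a b ha hb => transitive_rest Q hk1 (by simp; omega) hp ha hb) h
    · rintro (h | ⟨-, hnp⟩)
      · omega
      obtain ⟨x, hx⟩ := Fintype.exists_ne_of_one_lt_card (by omega : 1 < Fintype.card (Fin m)) p₀
      by_cases hy : ∃ y, y ≠ p₀ ∧ y ∉ orb Q x
      · obtain ⟨y, hy, hy'⟩ := hy
        exact dec_odd Q hp hx hy hy'
      push Not at hy
      exfalso
      obtain ⟨k, hk⟩ := Q.isPGroup'.card_orbit x
      refine hnp k ?_
      have hset : MulAction.orbit (Q : Subgroup (Equiv.Perm (Fin m))) x = {a | a ≠ p₀} := by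
        ext a
        constructor
        · rintro ⟨g, rfl⟩ h
          exact hx ((g : Equiv.Perm (Fin m)).injective
            ((show (g : Equiv.Perm (Fin m)) x = p₀ from h).trans (hp g g.2).symm))
        · intro ha
          obtain ⟨g, hg, rfl⟩ := (mem_orb Q).1 (hy a ha)
          exact ⟨⟨g, hg⟩, rfl⟩
      rw [← hk, Nat.card_congr (Equiv.setCongr hset), Nat.card_eq_fintype_card]
      simp [Fintype.card_subtype_compl, Finset.filter_ne', Fintype.card_subtype]

end Helpers

/-- Direct decomposability of the Sylow 2-subgroups of the alternating groups. Let n ≥ 4 and let P be a Sylow 2-subgroup of the alternating group of degree n. Then P is the internal direct product of two nontrivial subgroups if and only if n = 4, n = 5, or n ≡ 2, 3 (mod 4) with 4⌊n/4⌋ not a power of 2. In the remaining cases (n ≡ 0, 1 (mod 4) with n ≥ 8, or n ≡ 2, 3 (mod 4) with 4⌊n/4⌋ a power of 2) P is directly indecomposable. -/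
theorem result (n : ℕ) (hn : 4 ≤ n)
    (P : Sylow 2 (alternatingGroup (Fin n))) :
    (∃ S₁ S₂ : Subgroup (alternatingGroup (Fin n)), S₁ ≠ ⊥ ∧ S₂ ≠ ⊥ ∧
        Cfsg.IsInternalDirectProduct S₁ S₂ (P : Subgroup (alternatingGroup (Fin n)))) ↔
      (n = 4 ∨ n = 5 ∨ ((n % 4 = 2 ∨ n % 4 = 3) ∧ ∀ r : ℕ, 4 * (n / 4) ≠ 2 ^ r)) := by
  haveI : Fact (Nat.Prime 2) := ⟨Nat.prime_two⟩
  obtain ⟨Q⟩ : Nonempty (Sylow 2 (Equiv.Perm (Fin (n / 2)))) := Sylow.nonempty
  change CfsgLib.Perm.SylowTwoDecomp.Dec (P : Subgroup (alternatingGroup (Fin n))) ↔ _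
  rw [dec_sylow_iff n (n / 2) (by omega) rfl P Q, dec_iff (n / 2) (by omega) Q]
  constructor
  · rintro (h | ⟨hodd, hnp⟩)
    · rcases (show n = 4 ∨ n = 5 by omega) with h | h
      · exact Or.inl h
      · exact Or.inr (Or.inl h)
    · rw [Nat.odd_iff] at hodd
      refine Or.inr (Or.inr ⟨by omega, fun r hr => ?_⟩)
      rcases r with _ | r
      · omega
      · refine hnp r ?_
        rw [pow_succ] at hr
        omega
  · rintro (rfl | rfl | ⟨h, hnp⟩)
    · exact Or.inl rfl
    · exact Or.inl rfl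
    · refine Or.inr ⟨Nat.odd_iff.2 (by omega), fun k hk => hnp (k + 1) ?_⟩
      rw [pow_succ]
      omega

end Cfsg.Agent.S2221
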