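import Cfsg.Statements.S2222
import Mathlib
import Cfsg.Prelude.Def_HallClasses
import Cfsg.Agent.Lib.Frobenius.AlternatingSylowTwo

set_option autoImplicit false
open Cfsg
set_option linter.style.haveILetI false

namespace Cfsg.Agent.S2222

/-- In the alternating group of degree n ≥ 5 every subgroup H of odd index is pronormal: for every element g, the subgroups H and gHg⁻¹ are conjugate by an element of the subgroup they generate. -/
theorem result (n : ℕ) (hn : 5 ≤ n)
    (H : Subgroup (alternatingGroup (Fin n))) (hH : Odd H.index) : Cfsg.IsPronormal H := by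
  classical
  haveI := Fact.mk Nat.prime_two
  let A := alternatingGroup (Fin n)
  -- a Sylow subgroup of the group inside `H`
  obtain ⟨S₀⟩ : Nonempty (Sylow 2 H) := inferInstance
  obtain ⟨S, hS⟩ : ∃ S : Sylow 2 A, (S : Subgroup A) = (S₀ : Subgroup H).map H.subtype := by
    refine ⟨(S₀.isPGroup'.map H.subtype).toSylow ?_, rfl⟩
    rw [Subgroup.index_map_subtype, Nat.prime_two.dvd_mul]
    rintro (h | h)
    · exact S₀.not_dvd_index h
    · exact (Nat.not_even_iff_odd.mpr hH) (even_iff_two_dvd.mpr h)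
  have hSH : (S : Subgroup A) ≤ H := hS ▸ Subgroup.map_subtype_le _
  -- the normaliser of `S` normalises `H`
  suffices key : Subgroup.normalizer ((S : Subgroup A) : Set A) ≤ Subgroup.normalizer (H : Set A) by
    intro g
    set J := H ⊔ H.map (MulAut.conj g).toMonoidHom
    have hSJ : (S : Subgroup A) ≤ J := hSH.trans le_sup_left
    have hgSJ : ((g • S : Sylow 2 A) : Subgroup A) ≤ J := by
      refine le_trans ?_ (le_sup_right : H.map (MulAut.conj g).toMonoidHom ≤ J)
      rw [Sylow.coe_subgroup_smul]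
      rintro _ ⟨w, hw, rfl⟩
      exact ⟨w, hSH hw, rfl⟩
    obtain ⟨y, hy⟩ := MulAction.exists_smul_eq J (S.subtype hSJ) ((g • S).subtype hgSJ)
    rw [Sylow.smul_subtype] at hy
    have hy' : (y : A) • S = g • S := Sylow.subtype_injective hy
    refine ⟨y, y.2, ?_⟩
    have h1 : (y : A)⁻¹ * g ∈ Subgroup.normalizer ((S : Subgroup A) : Set A) :=
      Sylow.smul_eq_iff_mem_normalizer.mp (by rw [mul_smul, ← hy', inv_smul_smul])
    have h2 := key h1
    ext w
    constructor
    · rintro ⟨u, hu, rfl⟩
      refine ⟨((y : A)⁻¹ * g) * u * ((y : A)⁻¹ * g)⁻¹, (Subgroup.mem_normalizer_iff.mp h2 u).mp hu, ?_⟩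
      show (y : A) * _ * (y : A)⁻¹ = g * u * g⁻¹
      group
    · rintro ⟨u, hu, rfl⟩
      refine ⟨((y : A)⁻¹ * g)⁻¹ * u * ((y : A)⁻¹ * g), (Subgroup.mem_normalizer_iff''.mp h2 u).mp hu, ?_⟩
      show g * _ * g⁻¹ = (y : A) * u * (y : A)⁻¹
      group
  -- the Sylow subgroup of the symmetric group
  obtain ⟨T, hT⟩ := (S.isPGroup'.map A.subtype).exists_le_sylow
  have heven : ∀ w : A, (w : Equiv.Perm (Fin n)) ∈ (T : Subgroup _) → w ∈ (S : Subgroup A) := by
    have h := S.is_maximal' (T.isPGroup'.comap_of_injective A.subtype A.subtype_injective)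
      (fun w hw => hT ⟨w, hw, rfl⟩)
    exact fun w hw => h.le hw
  intro y hy
  have hyS : ∀ g ∈ (T : Subgroup (Equiv.Perm (Fin n))), Equiv.Perm.sign g = 1 →
      (y : Equiv.Perm (Fin n)) * g * (y : Equiv.Perm (Fin n))⁻¹ ∈ (T : Subgroup (Equiv.Perm (Fin n))) := by
    intro g hg hs
    have h1 := (Subgroup.mem_normalizer_iff.mp hy ⟨g, hs⟩).mp (heven ⟨g, hs⟩ hg)
    exact hT ⟨_, h1, rfl⟩
  rcases (show n = 5 ∨ 6 ≤ n by omega) with rfl | hn6
  swap
  · have h1 := CfsgLib.Frobenius.AltSylowTwo.mem_of_normalize_even (by simpa using hn6) T hyS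
    exact Subgroup.le_normalizer (hSH (heven y h1))
  -- degree five
  have hA5 : Nat.card A = 60 := by
    show Nat.card (alternatingGroup (Fin 5)) = 60
    rw [nat_card_alternatingGroup, Nat.card_eq_fintype_card, Fintype.card_fin]; rfl
  obtain ⟨z, hz, hzfix, hTz⟩ := CfsgLib.Involution.PermUniqueSylow.exists_pairing_sylow T
  have hswap := CfsgLib.Frobenius.AltSylowTwo.swap_mem T hz hTz
  obtain ⟨c, hc⟩ : ∃ c, z c = c := by
    by_contra hcon
    push Not at hcon
    revert hz hcon
    clear hzfix hTz hswap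
    revert z
    decide +kernel
  have hTc : ∀ g ∈ (T : Subgroup (Equiv.Perm (Fin 5))), g c = c := fun g hg => by
    refine hzfix _ _ ?_ hc
    have := CfsgLib.Frobenius.AltSylowTwo.perm_apply (Subgroup.mem_centralizer_singleton_iff.mp (hTz hg) : Commute g z) c
    rw [hc] at this
    exact this.symm
  have hS4 : Nat.card (S : Subgroup A) = 4 := by
    rw [S.card_eq_multiplicity, hA5, show (60 : ℕ) = 2 ^ 2 * 15 by norm_num, Nat.factorization_mul (by norm_num) (by norm_num),
      Finsupp.add_apply, Nat.Prime.factorization_pow Nat.prime_two, Finsupp.single_eq_same,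
      Nat.factorization_eq_zero_of_not_dvd (n := 15) (by norm_num)]
    rfl
  have hSc : ∀ w ∈ (S : Subgroup A), (w : Equiv.Perm (Fin 5)) c = c := fun w hw => hTc _ (hT ⟨w, hw, rfl⟩)
  have hSsq : ∀ w ∈ (S : Subgroup A), (w : Equiv.Perm (Fin 5)) * w = 1 := by
    intro w hw
    have h4 : w ^ 4 = 1 := by
      rw [← orderOf_dvd_iff_pow_eq_one, ← hS4]; exact Subgroup.orderOf_dvd_natCard _ hw
    have := congrArg Subtype.val h4
    rw [Subgroup.coe_pow, Subgroup.coe_one] at this
    have hdec : ∀ g : Equiv.Perm (Fin 5), Equiv.Perm.sign g = 1 → g ^ 4 = 1 → g * g = 1 := by decide +kernel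
    exact hdec _ w.2 this
  have htrans : ∀ p q, p ≠ c → q ≠ c → ∃ w ∈ (S : Subgroup A), (w : Equiv.Perm (Fin 5)) p = q := by
    intro p q hp hq
    have hdec : ∀ g : Equiv.Perm (Fin 5), ∀ c p : Fin 5, Equiv.Perm.sign g = 1 → g * g = 1 → g c = c → p ≠ c →
        g p = p → g = 1 := by decide +kernel
    have hinj : Function.Injective (fun w : (S : Subgroup A) => ((w : A) : Equiv.Perm (Fin 5)) p) := by
      intro w w' h
      have hm : (w'⁻¹ * w : A) ∈ (S : Subgroup A) :=
        (S : Subgroup A).mul_mem ((S : Subgroup A).inv_mem w'.2) w.2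
      have := hdec _ c p (w'⁻¹ * w : A).2 (hSsq _ hm) (hSc _ hm) hp (by
        simp only at h
        show ((w' : A) : Equiv.Perm (Fin 5))⁻¹ (((w : A) : Equiv.Perm (Fin 5)) p) = p
        rw [h, Equiv.Perm.inv_def, Equiv.symm_apply_apply])
      have e : (w'⁻¹ * w : A) = 1 := Subtype.ext this
      exact Subtype.ext (inv_mul_eq_one.mp e).symm
    haveI := Fintype.ofFinite (S : Subgroup A)
    have himg : Finset.univ.image (fun w : (S : Subgroup A) => ((w : A) : Equiv.Perm (Fin 5)) p) =
        Finset.univ.erase c := by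
      refine Finset.eq_of_subset_of_card_le (fun x hx => ?_) ?_
      · obtain ⟨w, -, rfl⟩ := Finset.mem_image.mp hx
        refine Finset.mem_erase.mpr ⟨fun e => hp ?_, Finset.mem_univ _⟩
        exact ((w : A) : Equiv.Perm (Fin 5)).injective (e.trans (hSc _ w.2).symm)
      · rw [Finset.card_image_of_injective _ hinj, Finset.card_erase_of_mem (Finset.mem_univ c), Finset.card_univ,
          Finset.card_univ, Fintype.card_fin, ← Nat.card_eq_fintype_card, hS4]
    have hq' : q ∈ Finset.univ.image (fun w : (S : Subgroup A) => ((w : A) : Equiv.Perm (Fin 5)) p) := by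
      rw [himg]; exact Finset.mem_erase.mpr ⟨hq, Finset.mem_univ _⟩
    obtain ⟨w, -, hw⟩ := Finset.mem_image.mp hq'
    exact ⟨w, w.2, hw⟩
  have hyc : (y : Equiv.Perm (Fin 5)) c = c := by
    by_contra hne
    obtain ⟨q, hqc, hqy⟩ : ∃ q, q ≠ c ∧ q ≠ (y : Equiv.Perm (Fin 5)) c := by
      revert hne
      generalize (y : Equiv.Perm (Fin 5)) c = p
      clear * -
      revert c p
      decide +kernel
    obtain ⟨w, hw, hwq⟩ := htrans _ q hne hqc
    have h1 := (Subgroup.mem_normalizer_iff''.mp hy w).mp hw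
    have h2 := hSc _ h1
    have h3 : (y : Equiv.Perm (Fin 5))⁻¹ ((w : Equiv.Perm (Fin 5)) ((y : Equiv.Perm (Fin 5)) c)) = c := h2
    rw [hwq, Equiv.Perm.inv_eq_iff_eq] at h3
    exact hqy h3
  let K : Subgroup A :=
    { carrier := {w | (w : Equiv.Perm (Fin 5)) c = c}
      one_mem' := rfl
      mul_mem' := fun {a b} ha hb => by
        show (a : Equiv.Perm (Fin 5)) ((b : Equiv.Perm (Fin 5)) c) = c
        rw [hb, ha]
      inv_mem' := fun {a} ha => by
        show (a : Equiv.Perm (Fin 5))⁻¹ c = c
        conv_lhs => rw [← (show (a : Equiv.Perm (Fin 5)) c = c from ha)]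
        exact Equiv.symm_apply_apply _ c }
  haveI : IsSimpleGroup A := alternatingGroup.isSimpleGroup_five
  by_cases hmove : H ≤ K
  · -- `H` is `S` or the stabiliser
    have hSdvd : 4 ∣ Nat.card H := hS4 ▸ Subgroup.card_dvd_of_le hSH
    have hK : Nat.card K = 12 := by
      have h : ∀ c : Fin 5, Fintype.card {w : alternatingGroup (Fin 5) // (w : Equiv.Perm (Fin 5)) c = c} = 12 := by
        decide +kernel
      rw [← h c, ← Nat.card_eq_fintype_card]
      rfl
    have hdvd := Subgroup.card_dvd_of_le hmove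
    rw [hK] at hdvd
    have hle : Nat.card H ≤ 12 := Nat.le_of_dvd (by norm_num) hdvd
    rcases (show Nat.card H = 4 ∨ Nat.card H = 12 by
      have := (Nat.card_pos : 0 < Nat.card H)
      interval_cases Nat.card H <;> omega) with h | h
    · have : (S : Subgroup A) = H := Subgroup.eq_of_le_of_card_ge hSH (by rw [hS4, h])
      exact this ▸ hy
    · have hHK : H = K := Subgroup.eq_of_le_of_card_ge hmove (by rw [hK, h])
      exact Subgroup.le_normalizer (hHK ▸ (show y ∈ K from hyc))
  · -- `H` is transitive, so is everything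
    obtain ⟨h, hhH, hhK⟩ := SetLike.not_le_iff_exists.mp hmove
    have hhc : (h : Equiv.Perm (Fin 5)) c ≠ c := hhK
    have horb : ∀ q, ∃ w ∈ H, (w : Equiv.Perm (Fin 5)) c = q := by
      intro q
      by_cases hq : q = c
      · exact ⟨1, H.one_mem, hq.symm⟩
      · obtain ⟨w, hw, e⟩ := htrans _ q hhc hq
        exact ⟨w * h, H.mul_mem (hSH hw) hhH, e⟩
    have h5 : 5 ∣ Nat.card H := by
      haveI : MulAction.IsPretransitive H (Fin 5) := by
        refine ⟨fun a b => ?_⟩
        obtain ⟨u, hu, eu⟩ := horb a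
        obtain ⟨v, hv, ev⟩ := horb b
        refine ⟨⟨v * u⁻¹, H.mul_mem hv (H.inv_mem hu)⟩, ?_⟩
        show (v : Equiv.Perm (Fin 5)) ((u : Equiv.Perm (Fin 5))⁻¹ a) = b
        rw [← eu, Equiv.Perm.inv_def, Equiv.symm_apply_apply, ev]
      have h' := (MulAction.stabilizer H c).index_dvd_card
      rw [MulAction.index_stabilizer_of_transitive] at h'
      simpa using h'
    have hSdvd : 4 ∣ Nat.card H := hS4 ▸ Subgroup.card_dvd_of_le hSH
    have h20 : 20 ∣ Nat.card H := Nat.Coprime.mul_dvd_of_dvd_of_dvd (by norm_num : Nat.Coprime 4 5) hSdvd h5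
    have hmul := H.card_mul_index
    rw [hA5] at hmul
    have hidx : H.index ≤ 3 := by
      obtain ⟨m, hm⟩ := h20
      have hm0 : m ≠ 0 := by
        intro e
        have := (Nat.card_pos : 0 < Nat.card H)
        rw [hm, e, mul_zero] at this
        exact absurd this (lt_irrefl 0)
      rw [hm] at hmul
      nlinarith [Nat.one_le_iff_ne_zero.mpr hm0]
    have htop : H = ⊤ := by
      by_contra hne
      have hcore : H.normalCore = ⊥ := by
        rcases (Subgroup.normalCore_normal H).eq_bot_or_eq_top with e | e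
        · exact e
        · exact absurd (top_unique (e ▸ H.normalCore_le)) hne
      have h6 : 60 ∣ H.index.factorial := by
        rw [← hA5]
        have hker := Subgroup.normalCore_eq_ker H
        rw [hcore] at hker
        have hinj : Function.Injective (MulAction.toPermHom A (A ⧸ H)) := (MonoidHom.ker_eq_bot_iff _).mp hker.symm
        have := Subgroup.card_dvd_of_injective _ hinj
        rwa [Nat.card_perm, ← Subgroup.index_eq_card] at this
      have h60 := Nat.le_of_dvd (Nat.factorial_pos _) h6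
      have := Nat.factorial_le hidx
      norm_num [Nat.factorial] at this
      omega
    rw [htop]
    exact Subgroup.le_normalizer (Subgroup.mem_top y)

end Cfsg.Agent.S2222
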