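import Cfsg.Statements.S2225
import Cfsg.Agent.Lib.KnownC.Pronormal.Classical
import Cfsg.Agent.Lib.KnownC.Pronormal.EvenChar
import Cfsg.Agent.Lib.KnownC.Pronormal.PSLTwo

set_option autoImplicit false
open Cfsg

namespace Cfsg.Agent.S2225

/-- Let F be a finite field and d = 2^w ≥ 2 a power of 2 such that PSL_d(F) is simple. Then every subgroup H of PSL_d(F) of odd index is pronormal: for every g, H and gHg⁻¹ are conjugate by an element of the subgroup they generate. -/
theorem result {F : Type*} [Field F] [Fintype F]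
    (w : ℕ) (hw : 1 ≤ w) (hs : IsSimpleGroup (Matrix.ProjectiveSpecialLinearGroup (Fin (2 ^ w)) F))
    (H : Subgroup (Matrix.ProjectiveSpecialLinearGroup (Fin (2 ^ w)) F)) (hH : Odd H.index) : Cfsg.IsPronormal H := by
  classical
  haveI := Fact.mk Nat.prime_two
  rcases Nat.mod_two_eq_zero_or_one (Fintype.card F) with hq | hq
  · haveI : CharP F 2 := ringChar.of_eq (FiniteField.even_card_iff_char_two.2 hq)
    exact CfsgLib.KnownC.Pronormal.sl_even_pronormal (F := F)
      (π := QuotientGroup.mk' (Subgroup.center (Matrix.SpecialLinearGroup (Fin (2 ^ w)) F)))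
      (QuotientGroup.mk'_surjective _) H hH
  have hodd : Odd (Fintype.card F) := Nat.odd_iff.2 hq
  rcases (show w = 1 ∨ 2 ≤ w by omega) with rfl | hw2
  · rcases (show (Fintype.card F % 8 = 3 ∨ Fintype.card F % 8 = 5) ∨
        (Fintype.card F % 8 = 1 ∨ Fintype.card F % 8 = 7) by omega) with h8 | h8
    · exact CfsgLib.KnownC.Pronormal.psl_two_pronormal h8 H hH
    · exact CfsgLib.KnownC.Pronormal.isPronormal_of_self_normalizing H hH fun S =>
        CfsgLib.KnownC.Pronormal.normalizer_eq_self_of_surjective
          (QuotientGroup.mk'_surjective (Subgroup.center (Matrix.SpecialLinearGroup (Fin (2 ^ 1)) F)))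
          (fun P => (CfsgLib.KnownA.SL2Torus.two_sylow hodd P).2.1 h8) S
  · exact CfsgLib.KnownC.Pronormal.isPronormal_of_self_normalizing H hH fun S =>
      CfsgLib.KnownC.Pronormal.normalizer_eq_self_of_surjective
        (QuotientGroup.mk'_surjective (Subgroup.center (Matrix.SpecialLinearGroup (Fin (2 ^ w)) F)))
        (CfsgLib.KnownC.Pronormal.sl_normalizer_self hodd w hw2) S

end Cfsg.Agent.S2225
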