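import Cfsg.Statements.S2226
import Cfsg.Agent.Lib.KnownC.Pronormal.Classical
import Cfsg.Agent.Lib.KnownC.Pronormal.EvenChar

set_option autoImplicit false
open Cfsg

namespace Cfsg.Agent.S2226

/-- Let F be a finite field with q² elements and d = 2^w ≥ 4 a power of 2 such that the unitary group PSU_d(q) (realised over F) is simple. Then every subgroup H of PSU_d(q) of odd index is pronormal: for every g, H and gHg⁻¹ are conjugate by an element of the subgroup they generate. -/
theorem result {F : Type*} [Field F] [Fintype F] (q : ℕ)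
    (hF : Fintype.card F = q ^ 2) (w : ℕ) (hw : 2 ≤ w) (hs : IsSimpleGroup (Cfsg.PSU (2 ^ w) F q))
    (H : Subgroup (Cfsg.PSU (2 ^ w) F q)) (hH : Odd H.index) : Cfsg.IsPronormal H := by
  classical
  haveI := Fact.mk Nat.prime_two
  rcases Nat.mod_two_eq_zero_or_one q with hq | hq
  · haveI : CharP F 2 := ringChar.of_eq (FiniteField.even_card_iff_char_two.2 (by
      rw [hF, pow_two, Nat.mul_mod, hq]))
    exact CfsgLib.KnownC.Pronormal.su_even_pronormal (F := F) hF
      (π := QuotientGroup.mk' (Subgroup.center (Cfsg.SU (2 ^ w) F q))) (QuotientGroup.mk'_surjective _) H hH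
  · exact CfsgLib.KnownC.Pronormal.isPronormal_of_self_normalizing H hH fun S =>
      CfsgLib.KnownC.Pronormal.normalizer_eq_self_of_surjective
        (QuotientGroup.mk'_surjective (Subgroup.center (Cfsg.SU (2 ^ w) F q)))
        (CfsgLib.KnownC.Pronormal.su_normalizer_self hF hq w hw) S

end Cfsg.Agent.S2226
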