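import Cfsg.Statements.S2228
import Cfsg.Agent.S0456
import Cfsg.Agent.Lib.Sporadic.J3Type.Sylow

set_option autoImplicit false
open Cfsg

namespace Cfsg.Agent.S2228

/-- Let G be a finite simple group in which all involutions are conjugate and the centralizer of an involution has a normal extraspecial subgroup of order 32 complemented by a subgroup isomorphic to the alternating group of degree 5 (a group of J₃-type). Then a Sylow 19-subgroup of G is self-centralizing with normalizer-quotient cyclic of order 9, and a Sylow 17-subgroup is self-centralizing with normalizer-quotient cyclic of order 8. -/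
theorem result {G : Type*} [Group G] [Finite G] [IsSimpleGroup G]
    (hone : ∀ x y : G, orderOf x = 2 → orderOf y = 2 → IsConj x y)
    (t : G) (ht : orderOf t = 2) (E A : Subgroup ↥(Subgroup.centralizer ({t} : Set G))) [E.Normal]
    (hE : Cfsg.IsExtraspecial 2 ↥E) (hE32 : Nat.card ↥E = 32) (hEA : E.IsComplement' A)
    (eA : ↥A ≃* ↥(alternatingGroup (Fin 5))) :
    (∀ X : Sylow 19 G, Subgroup.centralizer ((X : Subgroup G) : Set G) = X ∧
        ∃ h : ((X : Subgroup G).subgroupOf (Subgroup.normalizer ((X : Subgroup G) : Set G))).Normal,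
          IsCyclic (↥(Subgroup.normalizer ((X : Subgroup G) : Set G)) ⧸ (X : Subgroup G).subgroupOf _) ∧
          Nat.card (↥(Subgroup.normalizer ((X : Subgroup G) : Set G)) ⧸ (X : Subgroup G).subgroupOf _) = 9) ∧
    (∀ Y : Sylow 17 G, Subgroup.centralizer ((Y : Subgroup G) : Set G) = Y ∧
        ∃ h : ((Y : Subgroup G).subgroupOf (Subgroup.normalizer ((Y : Subgroup G) : Set G))).Normal,
          IsCyclic (↥(Subgroup.normalizer ((Y : Subgroup G) : Set G)) ⧸ (Y : Subgroup G).subgroupOf _) ∧
          Nat.card (↥(Subgroup.normalizer ((Y : Subgroup G) : Set G)) ⧸ (Y : Subgroup G).subgroupOf _) = 8) := by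
  obtain ⟨eA'⟩ : Nonempty ((↥(Subgroup.centralizer ({t} : Set G))) ⧸ E ≃* ↥(alternatingGroup (Fin 5))) :=
    ⟨hEA.symm.QuotientMulEquiv.trans eA⟩
  have hG : Nat.card G = 50232960 := (Cfsg.Agent.S0456.result hone t ht E hE32 hE eA').2
  have h : CfsgLib.Sporadic.J3Type.Hyp t E A := ⟨hone, ht, inferInstance, hE, hE32, hEA, ⟨eA⟩⟩
  have main : ∀ (q m : ℕ) (X : Subgroup G), q.Prime → Nat.card X = q → IsCyclic ↥X →
      Nat.card (Subgroup.centralizer (X : Set G)) = q →
      Nat.card (Subgroup.normalizer (X : Set G)) = q * m →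
      Subgroup.centralizer (X : Set G) = X ∧
        ∃ h : (X.subgroupOf (Subgroup.normalizer (X : Set G))).Normal,
          IsCyclic (↥(Subgroup.normalizer (X : Set G)) ⧸ X.subgroupOf _) ∧
          Nat.card (↥(Subgroup.normalizer (X : Set G)) ⧸ X.subgroupOf _) = m := by
    intro q m X hq hX hcyc hC hN
    haveI := hcyc
    haveI : Fact q.Prime := ⟨hq⟩
    have hXC : X ≤ Subgroup.centralizer (X : Set G) := fun x hx => Subgroup.mem_centralizer_iff.2 fun y hy =>
      congrArg Subtype.val (IsCyclic.isMulCommutative.is_comm.comm (⟨y, hy⟩ : ↥X) ⟨x, hx⟩)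
    have hCX : Subgroup.centralizer (X : Set G) = X :=
      (Subgroup.eq_of_le_of_card_ge hXC (by rw [hC, hX])).symm
    have hker : X.normalizerMonoidHom.ker = X.subgroupOf (Subgroup.normalizer (X : Set G)) := by
      rw [Subgroup.normalizerMonoidHom_ker, hCX]
    refine ⟨hCX, hker ▸ MonoidHom.normal_ker _, ?_, ?_⟩
    · haveI hn : (X.subgroupOf (Subgroup.normalizer (X : Set G))).Normal := hker ▸ MonoidHom.normal_ker _
      haveI : IsCyclic (MulAut ↥X) := by
        haveI : IsCyclic (ZMod q)ˣ := ZMod.isCyclic_units_prime hq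
        exact isCyclic_of_injective
          ((MulEquiv.cast (M := fun n => (ZMod n)ˣ) hX).toMonoidHom.comp
            (IsCyclic.mulAutMulEquiv ↥X).toMonoidHom)
          ((MulEquiv.cast (M := fun n => (ZMod n)ˣ) hX).injective.comp
            (IsCyclic.mulAutMulEquiv ↥X).injective)
      exact (((QuotientGroup.quotientMulEquivOfEq hker.symm).trans
        (QuotientGroup.quotientKerEquivRange X.normalizerMonoidHom))).isCyclic.2 inferInstance
    · have e := Subgroup.card_eq_card_quotient_mul_card_subgroup (X.subgroupOf (Subgroup.normalizer (X : Set G)))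
      rw [hN, Nat.card_congr (Subgroup.subgroupOfEquivOfLe Subgroup.le_normalizer).toEquiv, hX, mul_comm] at e
      exact (Nat.eq_of_mul_eq_mul_right hq.pos e).symm
  refine ⟨fun X => ?_, fun Y => ?_⟩
  · haveI : Fact (Nat.Prime 19) := ⟨by norm_num⟩
    obtain ⟨h1, h2, h3, h4⟩ := CfsgLib.Sporadic.J3Type.nineteen h hG X
    exact main 19 9 _ (by norm_num) h1 h2 h3 h4
  · haveI : Fact (Nat.Prime 17) := ⟨by norm_num⟩
    obtain ⟨h1, h2, h3, h4⟩ := CfsgLib.Sporadic.J3Type.seventeen h hG Y
    exact main 17 8 _ (by norm_num) h1 h2 h3 h4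

end Cfsg.Agent.S2228
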