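import Cfsg.Statements.S2231
import Cfsg.Agent.Lib.KnownA.AbelianSylow

set_option autoImplicit false
open Cfsg Matrix

namespace Cfsg.Agent.S2231

/-- In `SL₂` over a field of characteristic `p`, every `p`-subgroup is commutative. -/
theorem sl2_pgroup_comm {p : ℕ} [Fact p.Prime] {K : Type*} [Field K] [Finite K] [CharP K p]
    (P : Subgroup (SpecialLinearGroup (Fin 2) K)) (hP : IsPGroup p ↥P) :
    ∀ a ∈ P, ∀ b ∈ P, a * b = b * a := by
  rcases subsingleton_or_nontrivial ↥P with h | h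
  · intro a ha b hb
    rw [show a = b from congrArg Subtype.val (h.elim (⟨a, ha⟩ : ↥P) ⟨b, hb⟩)]
  haveI := hP.center_nontrivial
  obtain ⟨z, hz⟩ := exists_ne (1 : ↥(Subgroup.center ↥P))
  obtain ⟨k, hk⟩ := hP (z : ↥P)
  set N : Matrix (Fin 2) (Fin 2) K := ((z : ↥P) : SpecialLinearGroup (Fin 2) K).1 with hN
  have hpow : N ^ p ^ k = 1 := by
    have := congrArg (fun x : ↥P => ((x : SpecialLinearGroup (Fin 2) K) : Matrix (Fin 2) (Fin 2) K)) hk
    simpa [Matrix.SpecialLinearGroup.coe_pow] using this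
  have hns : N 0 1 ≠ 0 ∨ N 1 0 ≠ 0 ∨ N 0 0 - N 1 1 ≠ 0 := by
    by_contra hcon
    push Not at hcon
    obtain ⟨h1, h2, h3⟩ := hcon
    have hsc : N = Matrix.scalar (Fin 2) (N 0 0) := by
      ext i j; fin_cases i <;> fin_cases j <;> simp [h1, h2, sub_eq_zero.1 h3]
    rw [hsc, ← map_pow] at hpow
    have hc : (N 0 0) ^ p ^ k = 1 := by simpa using congrFun (congrFun hpow 0) 0
    have h1' : (N 0 0 - 1) ^ p ^ k = 0 := by rw [sub_pow_char_pow, hc, one_pow, sub_self]
    have hone : N 0 0 = 1 := sub_eq_zero.1 (pow_eq_zero_iff'.1 h1').1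
    apply hz
    refine Subtype.ext (Subtype.ext (Subtype.ext ?_))
    show N = 1
    rw [hsc, hone, map_one]
  have hcomm : ∀ a ∈ P, (a.1 * N = N * a.1) := by
    intro a ha
    have := Subgroup.mem_center_iff.1 z.2 ⟨a, ha⟩
    exact congrArg (fun x : ↥P => ((x : SpecialLinearGroup (Fin 2) K) : Matrix (Fin 2) (Fin 2) K)) this
  intro a ha b hb
  have hA := hcomm a ha
  have hB := hcomm b hb
  have h00A := congrFun (congrFun hA 0) 0
  have h01A := congrFun (congrFun hA 0) 1
  have h10A := congrFun (congrFun hA 1) 0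
  have h00B := congrFun (congrFun hB 0) 0
  have h01B := congrFun (congrFun hB 0) 1
  have h10B := congrFun (congrFun hB 1) 0
  simp only [Matrix.mul_apply, Fin.sum_univ_two] at h00A h01A h10A h00B h01B h10B
  set A := a.1
  set B := b.1
  have e1 : A 0 1 * B 1 0 = A 1 0 * B 0 1 := by
    rcases hns with hn | hn | hn
    · refine mul_left_cancel₀ hn ?_
      linear_combination (-A 0 1) * h00B + B 0 1 * h00A
    · refine mul_left_cancel₀ hn ?_
      linear_combination B 1 0 * h00A - A 1 0 * h00B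
    · refine mul_left_cancel₀ (pow_ne_zero 2 hn) ?_
      linear_combination ((N 0 0 - N 1 1) * B 1 0) * (-h01A) + ((N 0 0 - N 1 1) * A 1 0) * h01B +
        (N 0 1 * (A 0 0 - A 1 1)) * h10B - (N 0 1 * (B 0 0 - B 1 1)) * h10A
  have e2 : A 0 1 * (B 0 0 - B 1 1) = B 0 1 * (A 0 0 - A 1 1) := by
    rcases hns with hn | hn | hn
    · refine mul_left_cancel₀ hn ?_
      linear_combination A 0 1 * h01B - B 0 1 * h01A
    · refine mul_left_cancel₀ (pow_ne_zero 2 hn) ?_
      linear_combination N 1 0 * (B 0 0 - B 1 1) * h00A - N 1 0 * (A 0 0 - A 1 1) * h00B +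
        N 0 1 * (B 1 0 * h10A - A 1 0 * h10B)
    · refine mul_left_cancel₀ hn ?_
      linear_combination (A 0 0 - A 1 1) * h01B - (B 0 0 - B 1 1) * h01A
  have e3 : A 1 0 * (B 0 0 - B 1 1) = B 1 0 * (A 0 0 - A 1 1) := by
    rcases hns with hn | hn | hn
    · refine mul_left_cancel₀ (pow_ne_zero 2 hn) ?_
      linear_combination N 0 1 * (A 0 0 - A 1 1) * h00B - N 0 1 * (B 0 0 - B 1 1) * h00A +
        N 1 0 * (A 0 1 * h01B - B 0 1 * h01A)
    · refine mul_left_cancel₀ hn ?_
      linear_combination B 1 0 * h10A - A 1 0 * h10B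
    · refine mul_left_cancel₀ hn ?_
      linear_combination (B 0 0 - B 1 1) * h10A - (A 0 0 - A 1 1) * h10B
  refine Subtype.ext ?_
  show A * B = B * A
  ext i j
  fin_cases i <;> fin_cases j <;> simp [Matrix.mul_apply, Fin.sum_univ_two]
  · linear_combination e1
  · linear_combination e2 * (-1)
  · linear_combination e3
  · linear_combination -e1

/-- Upper unitriangular `3 × 3` matrices over `ZMod p` as a submonoid. -/
def unitri (p : ℕ) [Fact p.Prime] : Submonoid (SpecialLinearGroup (Fin 3) (ZMod p)) where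
  carrier := {M | ∀ i j, j ≤ i → M.1 i j = (1 : Matrix (Fin 3) (Fin 3) (ZMod p)) i j}
  one_mem' := fun i j _ => rfl
  mul_mem' {M N} hM hN := by
    intro i j hij
    show (M.1 * N.1) i j = _
    rw [Matrix.mul_apply, Fin.sum_univ_three]
    fin_cases i <;> fin_cases j <;> simp_all [Fin.forall_fin_succ]

theorem unitri_pow {p : ℕ} [Fact p.Prime] (hp : p ≠ 2) {M : SpecialLinearGroup (Fin 3) (ZMod p)}
    (hM : M ∈ unitri p) : M ^ p = 1 := by
  have hM' : ∀ i j, j ≤ i → M.1 i j = (1 : Matrix (Fin 3) (Fin 3) (ZMod p)) i j := hM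
  have h3 : (M.1 - 1) ^ 3 = 0 := by
    ext i j
    rw [pow_three, Matrix.mul_apply, Fin.sum_univ_three]
    simp only [Matrix.mul_apply, Fin.sum_univ_three]
    have q := fun i j h => sub_eq_zero.2 (hM' i j h)
    simp only [← Matrix.sub_apply] at q
    simp only [Fin.forall_fin_succ] at q
    fin_cases i <;> fin_cases j <;> simp_all
  have h3p : 3 ≤ p := by have := (Fact.out : p.Prime).two_le; omega
  refine Matrix.SpecialLinearGroup.ext _ _ fun i j => ?_
  have := pow_eq_zero_of_le h3p h3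
  rw [sub_pow_char_of_commute p (Commute.one_right _), one_pow, sub_eq_zero] at this
  have h4 : (↑(M ^ p) : Matrix (Fin 3) (Fin 3) (ZMod p)) = 1 :=
    (Matrix.SpecialLinearGroup.coe_pow M p).trans this
  exact congrFun (congrFun h4 i) j

theorem result {p : ℕ} [Fact p.Prime] (hp : p ≠ 2) {K : Type*} [Field K] [Fintype K] [CharP K p] : ¬ Cfsg.Involves ↥(Cfsg.qd p) (Matrix.ProjectiveSpecialLinearGroup (Fin 2) K) := by
  rintro ⟨H, R, hR, ⟨e⟩⟩
  classical
  haveI := hR
  -- the non-commutative p-subgroup of qd p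
  let U : Subgroup (SpecialLinearGroup (Fin 3) (ZMod p)) :=
    { unitri p with
      inv_mem' := fun {M} hM => by
        have h : M ^ p = 1 := unitri_pow hp hM
        have h2 : M⁻¹ = M ^ (p - 1) := by
          rw [eq_comm, eq_inv_iff_mul_eq_one, ← pow_succ, Nat.sub_add_cancel (Fact.out : p.Prime).one_le, h]
        rw [h2]
        exact (unitri p).pow_mem hM _ }
  have hUmem : ∀ M, M ∈ U ↔ M ∈ unitri p := fun M => Iff.rfl
  have hUqd : U ≤ qd p := by
    intro M hM
    exact Subgroup.subset_closure ⟨hM 2 0 (by decide), hM 2 1 (by decide), hM 2 2 le_rfl⟩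
  have hUp : IsPGroup p ↥(U.subgroupOf (qd p)) := fun x => ⟨1, by
    rw [pow_one]
    exact Subtype.ext (Subtype.ext (unitri_pow hp ((hUmem _).1 (Subgroup.mem_subgroupOf.1 x.2))))⟩
  let T := fun (i j : Fin 3) (h : i ≠ j) => SpecialLinearGroup.transvection h (1 : ZMod p)
  have hT1 : T 0 1 (by decide) ∈ U := by
    intro i j hij
    fin_cases i <;> fin_cases j <;> simp_all [T, SpecialLinearGroup.transvection, Matrix.transvection, Matrix.single]
  have hT2 : T 1 2 (by decide) ∈ U := by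
    intro i j hij
    fin_cases i <;> fin_cases j <;> simp_all [T, SpecialLinearGroup.transvection, Matrix.transvection, Matrix.single]
  -- pull back to PSL
  let φ : ↥H →* ↥(qd p) := e.toMonoidHom.comp (QuotientGroup.mk' (R.subgroupOf H))
  have hφ : Function.Surjective φ := e.surjective.comp (QuotientGroup.mk'_surjective _)
  haveI : Finite (Matrix.ProjectiveSpecialLinearGroup (Fin 2) K) :=
    Finite.of_surjective _ (QuotientGroup.mk'_surjective (Subgroup.center (SpecialLinearGroup (Fin 2) K)))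
  obtain ⟨S, hS, hSmap⟩ := CfsgLib.KnownA.AbelianSylow.exists_pgroup_map_eq hφ hUp
  obtain ⟨S', hS', hS'map⟩ := CfsgLib.KnownA.AbelianSylow.exists_pgroup_map_eq
    (QuotientGroup.mk'_surjective (Subgroup.center (SpecialLinearGroup (Fin 2) K))) (hS.map H.subtype)
  have hSc : ∀ a ∈ S, ∀ b ∈ S, a * b = b * a := by
    intro a ha b hb
    obtain ⟨a', ha', hae⟩ := hS'map.ge (Subgroup.mem_map_of_mem H.subtype ha)
    obtain ⟨b', hb', hbe⟩ := hS'map.ge (Subgroup.mem_map_of_mem H.subtype hb)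
    refine Subtype.ext ?_
    change QuotientGroup.mk' _ a' = (a : Matrix.ProjectiveSpecialLinearGroup (Fin 2) K) at hae
    change QuotientGroup.mk' _ b' = (b : Matrix.ProjectiveSpecialLinearGroup (Fin 2) K) at hbe
    simp only [Subgroup.coe_mul]
    rw [← hae, ← hbe, ← map_mul, sl2_pgroup_comm S' hS' a' ha' b' hb', map_mul]
  obtain ⟨a, ha, hae⟩ : (⟨_, hUqd hT1⟩ : ↥(qd p)) ∈ S.map φ := hSmap ▸ Subgroup.mem_subgroupOf.2 hT1
  obtain ⟨b, hb, hbe⟩ : (⟨_, hUqd hT2⟩ : ↥(qd p)) ∈ S.map φ := hSmap ▸ Subgroup.mem_subgroupOf.2 hT2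
  have h := congrArg φ (hSc a ha b hb)
  rw [map_mul, map_mul, hae, hbe] at h
  have h2 := congrArg (fun x : ↥(qd p) => (x : SpecialLinearGroup (Fin 3) (ZMod p)).1 0 2) h
  change ((T 0 1 (by decide)).1 * (T 1 2 (by decide)).1) 0 2 = ((T 1 2 (by decide)).1 * (T 0 1 (by decide)).1) 0 2 at h2
  simp [T, Matrix.mul_apply, Fin.sum_univ_three, SpecialLinearGroup.transvection, Matrix.transvection, Matrix.single] at h2

end Cfsg.Agent.S2231
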