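import Cfsg.Statements.S2232
import Cfsg.Agent.Lib.KnownA.QdNotInPSU

set_option autoImplicit false
open Cfsg

namespace Cfsg.Agent.S2232

open CfsgLib.Classical

/-- Let p be an odd prime, q a power of p and K a finite field with q² elements. Then Qd(p) (the natural semidirect product of an elementary abelian group of order p² by SL₂(p)) is not involved in the projective special unitary group PSU₃(q) realised over K. -/
theorem result {p : ℕ} [Fact p.Prime] (hp : p ≠ 2) {K : Type*} [Field K] [Fintype K] [CharP K p] (n : ℕ) (hn : 1 ≤ n) (hK : Fintype.card K = (p ^ n) ^ 2) : ¬ Cfsg.Involves ↥(Cfsg.qd p) (Cfsg.PSU 3 K (p ^ n)) := by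
  classical
  haveI : Fact (Fintype.card K = (p ^ n) ^ 2) := ⟨hK⟩
  obtain ⟨θ, hθ, hc⟩ := exists_frob hK
  haveI := CfsgLib.KnownC.AutPSU.uctx (n := 3) (q := p ^ n) hθ hc le_rfl (fun h => by
    have h1 : p ≤ p ^ n := Nat.le_self_pow (by omega) p
    have := (Fact.out : p.Prime).two_le
    omega)
  let e := CfsgLib.KnownC.AutPSU.pgEquiv (F := K) (n := 3) (q := p ^ n) hθ
  rintro ⟨A, R, hR, ⟨f⟩⟩
  apply CfsgLib.KnownA.QdNotInPSU.not_involves (B := stdHerm θ 3) (p := p) (Module.finrank_fin_fun K)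
  let eA : A ≃* A.map e.toMonoidHom := e.subgroupMap A
  haveI hR' : ((R.map e.toMonoidHom).subgroupOf (A.map e.toMonoidHom)).Normal := by
    rw [show (R.map e.toMonoidHom).subgroupOf (A.map e.toMonoidHom) =
      (R.subgroupOf A).map eA.toMonoidHom from ?_]
    · exact Subgroup.Normal.map hR _ eA.surjective
    · ext ⟨x, hx⟩
      simp only [Subgroup.mem_subgroupOf, Subgroup.mem_map]
      constructor
      · rintro ⟨r, hr, hrx⟩
        obtain ⟨a, ha, hax⟩ := hx
        refine ⟨⟨a, ha⟩, ?_, Subtype.ext hax⟩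
        have : r = a := e.injective (hrx.trans hax.symm)
        exact this ▸ hr
      · rintro ⟨a, ha, hax⟩
        exact ⟨a, ha, congrArg Subtype.val hax⟩
  refine ⟨A.map e.toMonoidHom, R.map e.toMonoidHom, hR', ⟨(QuotientGroup.congr _ _ eA ?_).symm.trans f⟩⟩
  ext ⟨x, hx⟩
  simp only [Subgroup.mem_subgroupOf, Subgroup.mem_map]
  constructor
  · rintro ⟨a, ha, hax⟩
    exact ⟨a, ha, congrArg Subtype.val hax⟩
  · rintro ⟨r, hr, hrx⟩
    obtain ⟨a, ha, hax⟩ := hx
    refine ⟨⟨a, ha⟩, ?_, Subtype.ext hax⟩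
    have : r = a := e.injective (hrx.trans hax.symm)
    exact this ▸ hr

end Cfsg.Agent.S2232
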