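import Cfsg.Statements.S2238
import Cfsg.Agent.Lib.KnownB.SuzukiStructure
-- import your own Cfsg.Agent.* helpers here

set_option autoImplicit false
open Cfsg

open CfsgLib.KnownB.Suzuki

namespace Cfsg.Agent.S2238

/-- The partition of the Suzuki group: with q = 2^(2m+1), m ≥ 1, r = 2^m and the Suzuki group realised as the stabiliser in SL₄ of the Suzuki–Tits ovoid, every non-identity element lies in exactly one subgroup that is either a Sylow 2-subgroup or a cyclic subgroup of order q − 1, q + 2r + 1 or q − 2r + 1. -/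
theorem result {F : Type*} [Field F] [Fintype F] {m : ℕ} (hm : 1 ≤ m) (hF : Fintype.card F = 2 ^ (2 * m + 1)) (g : ↥(Cfsg.Sz F m)) (hg : g ≠ 1) :
    ∃! U : Subgroup ↥(Cfsg.Sz F m), ((∃ P : Sylow 2 ↥(Cfsg.Sz F m), U = (P : Subgroup ↥(Cfsg.Sz F m))) ∨
      (IsCyclic ↥U ∧ Nat.card ↥U ∈ ({2 ^ (2 * m + 1) - 1, 2 ^ (2 * m + 1) + 2 ^ (m + 1) + 1, 2 ^ (2 * m + 1) - 2 ^ (m + 1) + 1} : Set ℕ))) ∧ g ∈ U := by
  haveI : Fact (Nat.Prime 2) := ⟨Nat.prime_two⟩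
  have hS := szPartition_ovoid hm hF
  have hmem : g ∈ Subgroup.centralizer {g} := Subgroup.mem_centralizer_singleton_iff.2 rfl
  have hcyc : ∀ U : Subgroup ↥(Cfsg.Sz F m), IsCyclic ↥U →
      Nat.card ↥U ∈ ({2 ^ (2 * m + 1) - 1, 2 ^ (2 * m + 1) + 2 ^ (m + 1) + 1,
        2 ^ (2 * m + 1) - 2 ^ (m + 1) + 1} : Set ℕ) → g ∈ U →
      U = Subgroup.centralizer {g} ∧ ¬ IsPGroup 2 (Subgroup.centralizer {g}) := by
    intro U hU hk hgU
    obtain ⟨-, hodd, hdiv⟩ := torus_orders hm hk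
    have hUC : U ≤ Subgroup.centralizer {g} := by
      letI := @IsCyclic.commGroup _ _ hU
      intro u hu
      rw [Subgroup.mem_centralizer_singleton_iff]
      exact congrArg Subtype.val (mul_comm (⟨u, hu⟩ : U) ⟨g, hgU⟩)
    have hnp : ¬ IsPGroup 2 (Subgroup.centralizer {g}) := by
      intro h
      obtain ⟨a, ha⟩ := IsPGroup.iff_card.1 (h.to_le hUC)
      rcases Nat.eq_zero_or_pos a with rfl | ha0
      · have := (torus_orders hm hk).1
        omega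
      · exact hodd (ha ▸ dvd_pow_self 2 ha0.ne')
    rcases hS.cases g hg with h | ⟨-, hc, -⟩
    · exact absurd h hnp
    · exact ⟨Subgroup.eq_of_le_of_card_ge hUC
        (hdiv _ hc (Subgroup.card_dvd_of_le hUC)).ge, hnp⟩
  have hsyl : ∀ P Q : Sylow 2 ↥(Cfsg.Sz F m), g ∈ (P : Subgroup ↥(Cfsg.Sz F m)) →
      g ∈ (Q : Subgroup ↥(Cfsg.Sz F m)) → Q = P := by
    intro P Q hP hQ
    haveI : Nontrivial (Q : Subgroup ↥(Cfsg.Sz F m)) :=
      ⟨⟨⟨g, hQ⟩, 1, fun h => hg (congrArg Subtype.val h)⟩⟩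
    have := Q.2.center_nontrivial
    obtain ⟨z, hz⟩ := exists_ne (1 : Subgroup.center (Q : Subgroup ↥(Cfsg.Sz F m)))
    set w := ((z : (Q : Subgroup ↥(Cfsg.Sz F m))) : ↥(Cfsg.Sz F m)) with hw
    have hw1 : w ≠ 1 := fun h => hz (Subtype.ext (Subtype.ext h))
    have hwP : w ∈ (P : Subgroup ↥(Cfsg.Sz F m)) := by
      refine hS.ti P g hP hg ?_
      rw [Subgroup.mem_centralizer_singleton_iff]
      exact (congrArg Subtype.val (Subgroup.mem_center_iff.1 z.2 ⟨g, hQ⟩)).symm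
    refine (Sylow.ext (Q.3 P.2 ?_)).symm
    intro s hs
    refine hS.ti P w hwP hw1 ?_
    rw [Subgroup.mem_centralizer_singleton_iff]
    exact congrArg Subtype.val (Subgroup.mem_center_iff.1 z.2 ⟨s, hs⟩)
  rcases hS.cases g hg with h | ⟨h1, h2, -⟩
  · obtain ⟨P, hP⟩ := h.exists_le_sylow
    refine ⟨P, ⟨Or.inl ⟨P, rfl⟩, hP hmem⟩, ?_⟩
    rintro U ⟨⟨Q, rfl⟩ | ⟨hU, hk⟩, hgU⟩
    · rw [hsyl P Q (hP hmem) hgU]
    · exact absurd h (hcyc U hU hk hgU).2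
  · refine ⟨_, ⟨Or.inr ⟨h1, h2⟩, hmem⟩, ?_⟩
    rintro U ⟨⟨Q, rfl⟩ | ⟨hU, hk⟩, hgU⟩
    · exfalso
      obtain ⟨-, hodd, -⟩ := torus_orders hm h2
      obtain ⟨a, ha⟩ := IsPGroup.iff_card.1 (Q.2.to_le (hS.ti Q g hgU hg))
      rcases Nat.eq_zero_or_pos a with rfl | ha0
      · have := (torus_orders hm h2).1
        omega
      · exact hodd (ha ▸ dvd_pow_self 2 ha0.ne')
    · exact (hcyc U hU hk hgU).1

end Cfsg.Agent.S2238
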