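import Cfsg.Statements.S2239
import Cfsg.Agent.Lib.KnownB.SuzukiSubgroupsTransfer
-- import your own Cfsg.Agent.* helpers here

set_option autoImplicit false
open Cfsg

open CfsgLib.KnownB.Suzuki CfsgLib.KnownB.SzElem

namespace Cfsg.Agent.S2239

/-- Subfield subgroups of the Suzuki group: let q = 2^(2m+1) and s = 2^(2k+1) with m, k ≥ 1 and 2k+1 dividing 2m+1 (so q is a power of s), both groups realised as stabilisers in SL₄ of the Suzuki–Tits ovoid. Then Sz(q) has a subgroup isomorphic to Sz(s), and any two subgroups of Sz(q) isomorphic to Sz(s) are conjugate. -/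
theorem result {F : Type*} [Field F] [Fintype F] {m : ℕ} (hm : 1 ≤ m) (hF : Fintype.card F = 2 ^ (2 * m + 1)) {K : Type*} [Field K] [Fintype K] {k : ℕ} (hk : 1 ≤ k) (hK : Fintype.card K = 2 ^ (2 * k + 1)) (hdiv : 2 * k + 1 ∣ 2 * m + 1) :
    (∃ S : Subgroup ↥(Cfsg.Sz F m), Nonempty (↥S ≃* ↥(Cfsg.Sz K k))) ∧
    ∀ S₁ S₂ : Subgroup ↥(Cfsg.Sz F m), Nonempty (↥S₁ ≃* ↥(Cfsg.Sz K k)) → Nonempty (↥S₂ ≃* ↥(Cfsg.Sz K k)) →
      ∃ g : ↥(Cfsg.Sz F m), S₂ = S₁.map (MulAut.conj g).toMonoidHom := by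
  obtain ⟨he, φ, -⟩ := exists_equiv_of_card hm hF
  obtain ⟨ι⟩ := exists_ringHom hF hK hdiv
  obtain ⟨ψ⟩ := nonempty_range_equiv hk hK hdiv ι he
  refine ⟨⟨(subHom ι he).range.map φ.toMonoidHom,
    ⟨((subHom ι he).range.equivMapOfInjective φ.toMonoidHom φ.injective).symm.trans ψ⟩⟩, ?_⟩
  have key : ∀ S : Subgroup ↥(Cfsg.Sz F m), Nonempty (↥S ≃* ↥(Cfsg.Sz K k)) →
      ∃ g, conjSub g (S.map φ.symm.toMonoidHom) = (subHom ι he).range := by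
    rintro S ⟨θ⟩
    refine exists_conj_range hm hF hk hK hdiv ι _ ?_
    obtain ⟨hk', χ, -⟩ := exists_equiv_of_card hk hK
    rw [Subgroup.card_map_of_injective φ.symm.injective, Nat.card_congr θ.toEquiv,
      ← Nat.card_congr χ.toEquiv, card_Sz hk']
    ring
  intro S₁ S₂ h₁ h₂
  obtain ⟨a, ha⟩ := key S₁ h₁
  obtain ⟨b, hb⟩ := key S₂ h₂
  refine ⟨φ (b⁻¹ * a), ?_⟩
  ext x
  obtain ⟨x, rfl⟩ := φ.surjective x
  have e1 : ∀ (S : Subgroup ↥(Cfsg.Sz F m)) (y : Cfsg.Lie.Sz F (2 ^ (m + 1))),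
      y ∈ S.map φ.symm.toMonoidHom ↔ φ y ∈ S := fun S y => by
    constructor
    · rintro ⟨z, hz, rfl⟩
      simpa using hz
    · intro h
      exact ⟨φ y, h, by simp⟩
  have e2 : x ∈ S₂.map φ.symm.toMonoidHom ↔ a⁻¹ * b * x * (b⁻¹ * a) ∈ S₁.map φ.symm.toMonoidHom := by
    rw [← mem_conjSub (g := b), hb, ← ha, mem_conjSub']
    simp [mul_assoc]
  rw [← e1, e2, e1]
  constructor
  · intro h
    refine ⟨_, h, ?_⟩
    simp [mul_assoc]
  · rintro ⟨y, hy, hyx⟩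
    obtain ⟨y, rfl⟩ := φ.surjective y
    have hyx' : φ ((b⁻¹ * a) * y * (b⁻¹ * a)⁻¹) = φ x := by
      rw [map_mul, map_mul, map_inv]; exact hyx
    rw [← φ.injective hyx']
    have hfix : a⁻¹ * b * ((b⁻¹ * a) * y * (b⁻¹ * a)⁻¹) * (b⁻¹ * a) = y := by group
    rw [hfix]
    exact hy

end Cfsg.Agent.S2239
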