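import Cfsg.Statements.S2240
import Cfsg.Agent.Lib.KnownB.SuzukiCentreTI
import Cfsg.Agent.Lib.KnownB.SuzukiTransfer
-- import your own Cfsg.Agent.* helpers here

set_option autoImplicit false
open Cfsg

open CfsgLib.KnownB.Suzuki

namespace Cfsg.Agent.S2240

/-- Elementary abelian TI-subgroups of the Suzuki group: let q = 2^(2m+1) with m ≥ 1, the group realised as the stabiliser in SL₄ of the Suzuki–Tits ovoid, and n ≥ 2. There is an elementary abelian 2-subgroup E of order 2^n that is a TI-subgroup (every conjugate of E meeting E nontrivially is E itself) if and only if n divides 2m + 1. -/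
theorem result {F : Type*} [Field F] [Fintype F] {m : ℕ} (hm : 1 ≤ m) (hF : Fintype.card F = 2 ^ (2 * m + 1)) (n : ℕ) (hn : 2 ≤ n) :
    (∃ E : Subgroup ↥(Cfsg.Sz F m), Cfsg.IsElementaryAbelian 2 E ∧ Nat.card ↥E = 2 ^ n ∧
      ∀ x : ↥(Cfsg.Sz F m), E ⊓ E.map (MulAut.conj x).toMonoidHom ≠ ⊥ → x ∈ Subgroup.normalizer (E : Set ↥(Cfsg.Sz F m))) ↔ n ∣ 2 * m + 1 := by
  obtain ⟨he, φ, -⟩ := exists_equiv_of_card hm hF
  have hconj : ∀ {A B : Type _} [Group A] [Group B] (ψ : A ≃* B) (E : Subgroup A) (x : A),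
      (E ⊓ E.map (MulAut.conj x).toMonoidHom).map ψ.toMonoidHom =
        E.map ψ.toMonoidHom ⊓ (E.map ψ.toMonoidHom).map (MulAut.conj (ψ x)).toMonoidHom := by
    intro A B _ _ ψ E x
    rw [Subgroup.map_inf _ _ _ ψ.injective, Subgroup.map_map, Subgroup.map_map]
    congr 2
    ext a
    simp
  constructor
  · rintro ⟨E, hE, hcard, hTI⟩
    set E' := E.map φ.symm.toMonoidHom with hE'
    have h1 : Cfsg.IsElementaryAbelian 2 E' := by
      refine ⟨⟨⟨?_⟩⟩, ?_⟩
      · rintro ⟨_, a, ha, rfl⟩ ⟨_, b, hb, rfl⟩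
        have := congrArg Subtype.val (hE.1.is_comm.comm ⟨a, ha⟩ ⟨b, hb⟩)
        apply Subtype.ext
        show φ.symm a * φ.symm b = φ.symm b * φ.symm a
        rw [← map_mul, ← map_mul]
        exact congrArg φ.symm this
      · rintro _ ⟨a, ha, rfl⟩
        rw [← map_pow, hE.2 a ha, map_one]
    have h2 : IsTIWith E' := by
      intro x hx
      obtain ⟨x, rfl⟩ := φ.symm.surjective x
      have h3 : x ∈ Subgroup.normalizer (E : Set ↥(Cfsg.Sz F m)) := by
        refine hTI x fun h => hx ?_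
        rw [hE', ← hconj, h, Subgroup.map_bot]
      rw [hE', ← Subgroup.map_normalizer_eq_of_bijective E (f := φ.symm.toMonoidHom) φ.symm.bijective]
      exact ⟨x, h3, rfl⟩
    obtain ⟨m', hm', hdvd⟩ := dvd_of_TI ⟨m, hF⟩ he n (by omega) E' h1
      (by rw [hE', Subgroup.card_map_of_injective φ.symm.injective, hcard]) h2
    rwa [show m = m' by
      have := Nat.pow_right_injective le_rfl (hF.symm.trans hm')
      omega]
  · intro hdvd
    obtain ⟨E, hE, hcard, hTI⟩ := exists_TI he hF (by omega) hdvd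
    refine ⟨E.map φ.toMonoidHom, ⟨⟨⟨?_⟩⟩, ?_⟩, ?_, ?_⟩
    · rintro ⟨_, a, ha, rfl⟩ ⟨_, b, hb, rfl⟩
      have := congrArg Subtype.val (hE.1.is_comm.comm ⟨a, ha⟩ ⟨b, hb⟩)
      apply Subtype.ext
      show φ a * φ b = φ b * φ a
      rw [← map_mul, ← map_mul]
      exact congrArg φ this
    · rintro _ ⟨a, ha, rfl⟩
      rw [← map_pow, hE.2 a ha, map_one]
    · rw [Subgroup.card_map_of_injective φ.injective, hcard]
    · intro x hx
      obtain ⟨x, rfl⟩ := φ.surjective x
      have h3 : x ∈ Subgroup.normalizer (E : Set _) := by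
        refine hTI x fun h => hx ?_
        rw [← hconj, h, Subgroup.map_bot]
      rw [← Subgroup.map_normalizer_eq_of_bijective E (f := φ.toMonoidHom) φ.bijective]
      exact ⟨x, h3, rfl⟩

end Cfsg.Agent.S2240
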