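import Cfsg.Statements.S2241
import Cfsg.Agent.Lib.KnownB.SuzukiTransfer

set_option autoImplicit false
open Cfsg CfsgLib.KnownB.Suzuki CfsgLib.KnownB.SzElem

namespace Cfsg.Agent.S2241

/-- Real 2-elements of the Suzuki group: with q = 2^(2m+1), m ≥ 1, and the group realised as the stabiliser in SL₄ of the Suzuki–Tits ovoid, a non-identity element of a Sylow 2-subgroup is conjugate to its inverse if and only if it is an involution; in particular no element of order 4 is conjugate to its inverse. -/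
theorem result {F : Type*} [Field F] [Fintype F] {m : ℕ} (hm : 1 ≤ m) (hF : Fintype.card F = 2 ^ (2 * m + 1)) (P : Sylow 2 ↥(Cfsg.Sz F m)) (g : ↥(Cfsg.Sz F m)) (hg : g ∈ (P : Subgroup ↥(Cfsg.Sz F m))) (h1 : g ≠ 1) :
    IsConj g g⁻¹ ↔ orderOf g = 2 := by
  obtain ⟨he, ψ, hP⟩ := exists_equiv_sylow hm hF P
  rw [← hP] at hg
  obtain ⟨_, ⟨⟨a, b⟩, rfl⟩, rfl⟩ := hg
  simp only [MulEquiv.coe_toMonoidHom] at h1 ⊢
  rw [← map_inv]
  have hconj : IsConj (ψ (CfsgLib.KnownB.Suzuki.P he a b)) (ψ (CfsgLib.KnownB.Suzuki.P he a b)⁻¹) ↔ IsConj (CfsgLib.KnownB.Suzuki.P he a b) (CfsgLib.KnownB.Suzuki.P he a b)⁻¹ := by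
    refine ⟨fun h => ?_, fun h => ψ.toMonoidHom.map_isConj h⟩
    have := ψ.symm.toMonoidHom.map_isConj h
    simpa using this
  rw [hconj, MulEquiv.orderOf_eq]
  have h2 := he.two
  have h0 : (0 : F) ^ (2 ^ (m + 1)) = 0 := zero_pow (by positivity)
  constructor
  · intro h
    have ha : a = 0 := by
      by_contra ha
      exact not_real he b ha h
    subst ha
    refine orderOf_eq_prime (hp := ⟨Nat.prime_two⟩) ?_ (fun h' => h1 (by rw [h', map_one]))
    rw [pow_two, P_mul, h0, ← P_zero he]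
    congr 1 <;> grind
  · intro h
    have hsq : CfsgLib.KnownB.Suzuki.P he a b * CfsgLib.KnownB.Suzuki.P he a b = 1 := by
      have hp := pow_orderOf_eq_one (CfsgLib.KnownB.Suzuki.P he a b)
      rwa [h, pow_two] at hp
    rw [inv_eq_of_mul_eq_one_right hsq]

end Cfsg.Agent.S2241
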