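import Cfsg.Statements.S2244
import Cfsg.Agent.Lib.KnownB.WeaklyClosed.Main
import Cfsg.Agent.Lib.KnownB.WeaklyClosed.Certs
import Cfsg.Agent.Lib.Chevalley.TablesSupp

set_option autoImplicit false
open Cfsg

namespace Cfsg.Agent.S2244

/-- Weakly closed unipotent subgroups of Chevalley groups: let G be the Chevalley group of type G₂, B₂, D₄, F₄, E₆, E₇ or E₈ over a finite field F (the matrix group generated by the root elements), with |F| ≠ 2, and |F| ≠ 3 as well for the types G₂, B₂, D₄, F₄. Let U be the subgroup generated by the positive root subgroups. If X ≤ U is weakly closed in U with respect to G (every G-conjugate of X lying in U equals X), then X is the unipotent radical U_J of a standard parabolic subgroup for some set J of fundamental roots. -/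
theorem result {F : Type*} [Field F] [Fintype F] (D : Cfsg.Lie.ChevalleyDatum) (hD : D ∈ [Cfsg.Lie.chevG2, Cfsg.Lie.chevB2, Cfsg.Lie.chevD4, Cfsg.Lie.chevF4, Cfsg.Lie.chevE6, Cfsg.Lie.chevE7, Cfsg.Lie.chevE8])
    (h2 : Fintype.card F ≠ 2) (h3 : D ∈ [Cfsg.Lie.chevG2, Cfsg.Lie.chevB2, Cfsg.Lie.chevD4, Cfsg.Lie.chevF4] → Fintype.card F ≠ 3)
    (X : Subgroup (GL D.Idx F)) (hXU : X ≤ D.posUnipotent F)
    (hwc : ∀ g ∈ D.group F, X.map (MulAut.conj g).toMonoidHom ≤ D.posUnipotent F → X.map (MulAut.conj g).toMonoidHom = X) :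
    ∃ J : Set ℕ, (∀ j ∈ J, j < D.rank) ∧ X = D.unipotentRadical F J := by
  have key : ∀ (T : CfsgLib.Chevalley.Tbl) (q4 : Bool), T.Valid → T.chkComm = true →
      T.chkSupp = true → T.chkDerived q4 = true → T.chkCartan = true →
      (Fintype.card F = 3 → T.chkSep 2 1 = true) → (q4 = true → Fintype.card F ≠ 3) →
      T.datum = D → ∃ J : Set ℕ, (∀ j ∈ J, j < D.rank) ∧ X = D.unipotentRadical F J := by
    intro T q4 hT hC hS hDer hK h3' hq4 e
    subst e
    exact CfsgLib.WeaklyClosed.eq_radical hT hC hS hDer hK h2 h3' hq4 X hXU hwc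
  simp only [List.mem_cons, List.not_mem_nil, or_false] at hD h3
  open CfsgLib.Chevalley.Data in
  rcases hD with rfl | rfl | rfl | rfl | rfl | rfl | rfl
  · exact key _ true G2.valid G2.chkComm G2.chkSupp G2.wcDerived G2.wcCartan
      (fun h => absurd h (h3 (by simp))) (fun _ => h3 (by simp)) G2.datum_eq
  · exact key _ true B2.valid B2.chkComm B2.chkSupp B2.wcDerived B2.wcCartan
      (fun h => absurd h (h3 (by simp))) (fun _ => h3 (by simp)) B2.datum_eq
  · exact key _ true D4.valid D4.chkComm D4.chkSupp D4.wcDerived D4.wcCartan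
      (fun h => absurd h (h3 (by simp))) (fun _ => h3 (by simp)) D4.datum_eq
  · exact key _ true F4.valid F4.chkComm F4.chkSupp F4.wcDerived F4.wcCartan
      (fun h => absurd h (h3 (by simp))) (fun _ => h3 (by simp)) F4.datum_eq
  · exact key _ false E6.valid E6.chkComm E6.chkSupp E6.wcDerived E6.wcCartan
      (fun _ => E6.wcSep2) (by simp) E6.datum_eq
  · exact key _ false E7.valid E7.chkComm E7.chkSupp E7.wcDerived E7.wcCartan
      (fun _ => E7.wcSep2) (by simp) E7.datum_eq
  · exact key _ false E8.valid E8.chkComm E8.chkSupp E8.wcDerived E8.wcCartan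
      (fun _ => E8.wcSep2) (by simp) E8.datum_eq

end Cfsg.Agent.S2244
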