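import Cfsg.Statements.S2247
import Cfsg.Agent.Lib.KnownB.SuzukiTransfer

set_option autoImplicit false
open Cfsg CfsgLib.KnownB.Suzuki CfsgLib.KnownB.SzElem

namespace Cfsg.Agent.S2247

/-- In the Suzuki group with q = 2^(2m+1), m ≥ 1 (realised as the stabiliser in SL₄ of the Suzuki–Tits ovoid), the normalizer of a Sylow 2-subgroup P is a maximal subgroup and is the only maximal subgroup containing P. -/
theorem result {F : Type*} [Field F] [Fintype F] {m : ℕ} (hm : 1 ≤ m) (hF : Fintype.card F = 2 ^ (2 * m + 1)) (P : Sylow 2 ↥(Cfsg.Sz F m)) :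
    IsCoatom (Subgroup.normalizer ((P : Subgroup ↥(Cfsg.Sz F m)) : Set ↥(Cfsg.Sz F m))) ∧
    ∀ M : Subgroup ↥(Cfsg.Sz F m), IsCoatom M → (P : Subgroup ↥(Cfsg.Sz F m)) ≤ M → M = Subgroup.normalizer ((P : Subgroup ↥(Cfsg.Sz F m)) : Set ↥(Cfsg.Sz F m)) := by
  obtain ⟨he, ψ, hP⟩ := exists_equiv_sylow hm hF P
  have hN : Subgroup.normalizer ((P : Subgroup ↥(Cfsg.Sz F m)) : Set ↥(Cfsg.Sz F m)) =
      (borel F (2 ^ (m + 1))).map ψ.toMonoidHom := by
    rw [← hP, ← normalizer_uGroup he, Subgroup.map_equiv_normalizer_eq]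
  have key : ∀ M : Subgroup ↥(Cfsg.Sz F m), (P : Subgroup ↥(Cfsg.Sz F m)) ≤ M →
      M ≤ (borel F (2 ^ (m + 1))).map ψ.toMonoidHom ∨ M = ⊤ := by
    intro M hM
    by_cases h : M.comap ψ.toMonoidHom ≤ borel F (2 ^ (m + 1))
    · left
      rw [← Subgroup.map_comap_eq_self_of_surjective (f := ψ.toMonoidHom) ψ.surjective M]
      exact Subgroup.map_mono h
    · right
      have h2 := eq_top_of_uGroup_lt he _ (Subgroup.map_le_iff_le_comap.1 (hP ▸ hM)) h
      rw [← Subgroup.map_comap_eq_self_of_surjective (f := ψ.toMonoidHom) ψ.surjective M, h2,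
        Subgroup.map_top_of_surjective _ ψ.surjective]
  have hne : (borel F (2 ^ (m + 1))).map ψ.toMonoidHom ≠ ⊤ := by
    intro h
    have hW : ψ (W he) ∈ (borel F (2 ^ (m + 1))).map ψ.toMonoidHom := h ▸ Subgroup.mem_top _
    obtain ⟨x, hx, hxe⟩ := hW
    exact W_notMem_borel he (ψ.injective hxe ▸ hx)
  have hco : IsCoatom (Subgroup.normalizer ((P : Subgroup ↥(Cfsg.Sz F m)) : Set ↥(Cfsg.Sz F m))) := by
    rw [hN]
    refine ⟨hne, fun M hM => ?_⟩
    have hPM : (P : Subgroup ↥(Cfsg.Sz F m)) ≤ M :=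
      (hP ▸ Subgroup.map_mono (uGroup_le_borel he)).trans hM.le
    exact (key M hPM).resolve_left hM.not_ge
  refine ⟨hco, fun M hM hPM => ?_⟩
  rw [hN] at hco ⊢
  rcases key M hPM with h | h
  · by_contra hne'
    exact hco.1 (hM.2 _ (lt_of_le_of_ne h hne'))
  · exact absurd h hM.1

end Cfsg.Agent.S2247
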