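import Cfsg.Statements.S2249
import Cfsg.Agent.Lib.KnownA.NormalRankGL

set_option autoImplicit false
open Cfsg

namespace Cfsg.Agent.S2249

open Matrix CfsgLib.KnownA.NormalRankWreath CfsgLib.KnownA.NormalRankGL
open scoped MatrixGroups

/-- The normal 2-rank of the general linear group over a finite field of odd order q: for n ≥ 1 and S a Sylow 2-subgroup of GL_n(F), the largest rank of an elementary abelian subgroup of S that is normal in S equals n when q ≡ 1 (mod 4) and ⌊(n + 1)/2⌋ when q ≡ 3 (mod 4). -/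
theorem result {F : Type*} [Field F] [Fintype F] {q : ℕ} (hF : Fintype.card F = q) (hodd : Odd q) (n : ℕ) (hn : 1 ≤ n) (S : Sylow 2 (Matrix.GeneralLinearGroup (Fin n) F)) :
    (q % 4 = 1 → ((∃ E : Subgroup ↥(S : Subgroup (Matrix.GeneralLinearGroup (Fin n) F)), E.Normal ∧ Cfsg.IsElementaryAbelian 2 E ∧ 2 ^ (n) ≤ Nat.card ↥E) ∧
      ∀ E : Subgroup ↥(S : Subgroup (Matrix.GeneralLinearGroup (Fin n) F)), E.Normal → Cfsg.IsElementaryAbelian 2 E → Nat.card ↥E ≤ 2 ^ (n))) ∧
    (q % 4 = 3 → ((∃ E : Subgroup ↥(S : Subgroup (Matrix.GeneralLinearGroup (Fin n) F)), E.Normal ∧ Cfsg.IsElementaryAbelian 2 E ∧ 2 ^ ((n + 1) / 2) ≤ Nat.card ↥E) ∧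
      ∀ E : Subgroup ↥(S : Subgroup (Matrix.GeneralLinearGroup (Fin n) F)), E.Normal → Cfsg.IsElementaryAbelian 2 E → Nat.card ↥E ≤ 2 ^ ((n + 1) / 2))) := by
  classical
  subst hF
  have h2 : (2 : F) ≠ 0 := Ring.two_ne_zero fun hc => by
    have := FiniteField.even_card_of_char_two hc
    have := Nat.odd_iff.1 hodd
    omega
  refine ⟨fun hq => ⟨exists_normal_one_mod_four hq n S, fun E _ hE => ?_⟩,
    fun hq => three_mod_four hq n S⟩
  have h := elemAb_card_le h2 (E.map (S : Subgroup (GL (Fin n) F)).subtype) (elemAb_map _ hE)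
  rwa [Subgroup.card_map_of_injective (Subgroup.subtype_injective _), Fintype.card_fin] at h

end Cfsg.Agent.S2249
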