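import Cfsg.Statements.S2250
import Cfsg.Agent.Lib.KnownA.NormalRankWreath
import Cfsg.Agent.S2234

set_option autoImplicit false
open Cfsg

namespace Cfsg.Agent.S2250

open Matrix CfsgLib.KnownA.NormalRankWreath CfsgLib.Classical CfsgLib.Classical.WreathGL CfsgLib.Classical.LinearTwoSylow CfsgLib.Perm.SylowGen
open scoped MatrixGroups

/-- The normal 2-rank of the symplectic group over a finite field of odd order: for n ≥ 1 and S a Sylow 2-subgroup of Sp_{2n}(F), the largest rank of an elementary abelian subgroup of S that is normal in S equals n. -/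
theorem result {F : Type*} [Field F] [Fintype F] (hF : Odd (Fintype.card F)) (n : ℕ) (hn : 1 ≤ n) (S : Sylow 2 ↥(Matrix.symplecticGroup (Fin n) F)) :
    ((∃ E : Subgroup ↥(S : Subgroup ↥(Matrix.symplecticGroup (Fin n) F)), E.Normal ∧ Cfsg.IsElementaryAbelian 2 E ∧ 2 ^ (n) ≤ Nat.card ↥E) ∧
      ∀ E : Subgroup ↥(S : Subgroup ↥(Matrix.symplecticGroup (Fin n) F)), E.Normal → Cfsg.IsElementaryAbelian 2 E → Nat.card ↥E ≤ 2 ^ (n)) := by
  classical
  have h2 : (2 : F) ≠ 0 := Cfsg.Agent.S2233.two_ne hF
  constructor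
  · obtain ⟨G⟩ := exists_gens (p := 2) n
    set H : Subgroup (GL (Fin 2) F) := (SpecialLinearGroup.toGL (n := Fin 2) (R := F)).range
    obtain ⟨Q⟩ := (inferInstance : Nonempty (Sylow 2 H))
    set T : Subgroup (GL (Fin 2) F) := (Q : Subgroup H).map H.subtype
    have hT : pm F 2 ≤ T := pm_le_sylow (MonoidHom.mem_range.2 ⟨⟨-1, by simp [Matrix.det_fin_two]⟩, Units.ext rfl⟩) Q
    set K := sub (full (n := n) T) (Subgroup.closure G.S) (fun σ _ _ hg => act_mem_full T σ hg)
    have hK : ∀ x ∈ K, ∀ i, GeneralLinearGroup.det ((x : Wr F 2 n).left i) = 1 := fun x hx i => by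
      obtain ⟨⟨_, z, rfl⟩, -, hz⟩ := (Subgroup.mem_pi Set.univ).1 hx.1 i trivial
      rw [← hz]
      exact Units.ext z.2
    have hcH : Nat.card H = Nat.card SL(2, F) :=
      (Nat.card_congr (MonoidHom.ofInjective toGL_inj).toEquiv).symm
    obtain ⟨e⟩ := sylow_iso (toSp K hK) (toSp_injective K hK) (by
      rw [card_sub, card_full, Subgroup.card_map_of_injective H.subtype_injective, card_closure_gens,
        Sylow.card_eq_multiplicity, hcH, val_sl_two hF, val_sp hF, ← pow_mul, ← pow_add,
        mul_comm n]) S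
    obtain ⟨E, hEn, hE, hEc⟩ := exists_signs (F := F) (d := 2) (n := n) (by norm_num) h2 T hT
      (Subgroup.closure G.S) (fun σ _ _ hg => act_mem_full T σ hg)
    exact exists_of_iso e hEn hE hEc
  · intro E _ hE
    have h := (Cfsg.Agent.S2234.result hF n hn).2 (E.map (S : Subgroup _).subtype)
    have h' := elemAb_map (S : Subgroup (symplecticGroup (Fin n) F)).subtype hE
    have hc : Nat.card (E.map (S : Subgroup (symplecticGroup (Fin n) F)).subtype) = Nat.card E :=
      Subgroup.card_map_of_injective (Subgroup.subtype_injective _)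
    rw [← hc]
    exact h h'.1 h'.2

end Cfsg.Agent.S2250
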