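import Cfsg.Statements.S2251
import Cfsg.Agent.Lib.KnownB.SuzukiSubgroupsTransfer
-- import your own Cfsg.Agent.* helpers here

set_option autoImplicit false
open Cfsg

open CfsgLib.KnownB.Suzuki CfsgLib.KnownB.SzElem

namespace Cfsg.Agent.S2251

/-- The subgroups of the Suzuki group: with q = 2^(2m+1), m ≥ 1, r = 2^m and the group realised as the stabiliser in SL₄ of the Suzuki–Tits ovoid, every proper subgroup is contained in the normalizer of a Sylow 2-subgroup, or in the normalizer of a cyclic subgroup of order q − 1, q + 2r + 1 or q − 2r + 1, or in a subgroup isomorphic to a smaller Suzuki group Sz(s) with s = 2^(2k+1) ≥ 8 and 2k+1 a proper divisor of 2m+1. -/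
theorem result {F : Type*} [Field F] [Fintype F] {m : ℕ} (hm : 1 ≤ m) (hF : Fintype.card F = 2 ^ (2 * m + 1)) (M : Subgroup ↥(Cfsg.Sz F m)) (hM : M ≠ ⊤) :
    (∃ P : Sylow 2 ↥(Cfsg.Sz F m), M ≤ Subgroup.normalizer ((P : Subgroup ↥(Cfsg.Sz F m)) : Set ↥(Cfsg.Sz F m))) ∨
    (∃ U : Subgroup ↥(Cfsg.Sz F m), IsCyclic ↥U ∧ Nat.card ↥U ∈ ({2 ^ (2 * m + 1) - 1, 2 ^ (2 * m + 1) + 2 ^ (m + 1) + 1, 2 ^ (2 * m + 1) - 2 ^ (m + 1) + 1} : Set ℕ) ∧
      M ≤ Subgroup.normalizer (U : Set ↥(Cfsg.Sz F m))) ∨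
    (∃ (K : Type) (_ : Field K) (_ : Fintype K) (k : ℕ), 1 ≤ k ∧ k < m ∧ Fintype.card K = 2 ^ (2 * k + 1) ∧ 2 * k + 1 ∣ 2 * m + 1 ∧
      ∃ S : Subgroup ↥(Cfsg.Sz F m), Nonempty (↥S ≃* ↥(Cfsg.Sz K k)) ∧ M ≤ S) := by
  classical
  obtain ⟨he, φ, -⟩ := exists_equiv_of_card hm hF
  have hp : Params F (2 ^ (m + 1)) := params_of_card hm hF
  haveI : Fact (Nat.Prime 2) := ⟨Nat.prime_two⟩
  set N := M.map φ.symm.toMonoidHom with hNdef
  have hMN : ∀ y, y ∈ M ↔ φ.symm y ∈ N := fun y =>
    (Subgroup.mem_map_iff_mem φ.symm.injective).symm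
  rcases subgroup_shape hp N with ⟨g, hg⟩ | ⟨x, hx1, hx2, hx3⟩ | ⟨L, hL8, g, hg⟩
  · left
    have hpg : IsPGroup 2 ((uGroup hp.twist).map (φ.toMonoidHom.comp (MulAut.conj g⁻¹).toMonoidHom)) :=
      (uGroup_isPGroup hp.twist).map _
    have hidx : ¬ 2 ∣ ((uGroup hp.twist).map (φ.toMonoidHom.comp (MulAut.conj g⁻¹).toMonoidHom)).index := by
      rw [show φ.toMonoidHom.comp (MulAut.conj g⁻¹).toMonoidHom =
          (((MulAut.conj g⁻¹).trans φ : Cfsg.Lie.Sz F (2 ^ (m + 1)) ≃* Cfsg.Sz F m) :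
            Cfsg.Lie.Sz F (2 ^ (m + 1)) →* Cfsg.Sz F m) from rfl,
        Subgroup.index_map_equiv]
      exact not_two_dvd_index hp.twist
    refine ⟨hpg.toSylow hidx, ?_⟩
    intro y hy
    show y ∈ Subgroup.normalizer (((uGroup hp.twist).map
      (φ.toMonoidHom.comp (MulAut.conj g⁻¹).toMonoidHom) : Subgroup _) : Set _)
    rw [← Subgroup.map_normalizer_eq_of_bijective _
      (f := φ.toMonoidHom.comp (MulAut.conj g⁻¹).toMonoidHom)
      (φ.bijective.comp (MulAut.conj g⁻¹).bijective), normalizer_uGroup hp.twist]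
    refine ⟨g * φ.symm y * g⁻¹, hg (mem_conjSub.2 ((hMN y).1 hy)), ?_⟩
    simp [mul_assoc]
  · right; left
    obtain ⟨hc, hcard, -⟩ := ((szPartition hp).cases x hx1).resolve_left hx2
    refine ⟨(Subgroup.centralizer {x}).map φ.toMonoidHom, ?_, ?_, ?_⟩
    · exact (MulEquiv.isCyclic (Subgroup.equivMapOfInjective _ _ φ.injective)).1 hc
    · rw [Subgroup.card_map_of_injective φ.injective]
      exact hF ▸ hcard
    · intro y hy
      rw [← Subgroup.map_normalizer_eq_of_bijective _ (f := φ.toMonoidHom) φ.bijective]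
      exact ⟨φ.symm y, hx3 ((hMN y).1 hy), by simp⟩
  · right; right
    obtain ⟨k, hk, hdvd⟩ := subfield_odd_power hF L
    have hk1 : 1 ≤ k := by
      by_contra h
      rw [hk, show k = 0 by omega] at hL8
      norm_num at hL8
    haveI : Fintype L := Fintype.ofFinite L
    let K := GaloisField 2 (2 * k + 1)
    haveI : Fintype K := Fintype.ofFinite K
    have hK : Fintype.card K = 2 ^ (2 * k + 1) := by
      rw [← Nat.card_eq_fintype_card, GaloisField.card 2 _ (by omega)]
    have hkm : k < m := by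
      have hle : 2 * k + 1 ≤ 2 * m + 1 := Nat.le_of_dvd (by omega) hdvd
      by_contra hlt
      obtain rfl : k = m := by omega
      refine hM (Subgroup.eq_top_of_card_eq _ ?_)
      have hc : Nat.card (conjSub g N) = Nat.card M := by
        rw [Subgroup.card_map_of_injective (MulAut.conj g).injective, hNdef,
          Subgroup.card_map_of_injective φ.symm.injective]
      rw [← hc, hg, card_subHom_range, ← Nat.card_congr φ.toEquiv, card_eq hp,
        ← Nat.card_eq_fintype_card, hk, hF]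
    refine ⟨K, inferInstance, inferInstance, k, hk1, hkm, hK, hdvd, M, ?_, le_rfl⟩
    have hLc : Fintype.card L = Fintype.card K := by
      rw [← Nat.card_eq_fintype_card, hk, hK]
    obtain ⟨ψ⟩ := nonempty_range_equiv (K := K) hk1 hK hdvd
      (L.subtype.comp (FiniteField.ringEquivOfCardEq (K := K) (K' := L) hLc.symm).toRingHom) hp.twist
    have hr : (subHom (L.subtype.comp (FiniteField.ringEquivOfCardEq (K := K) (K' := L) hLc.symm).toRingHom)
        hp.twist).range = conjSub g N := by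
      rw [range_subHom_fieldRange, hg, show (L.subtype.comp
        (FiniteField.ringEquivOfCardEq (K := K) (K' := L) hLc.symm).toRingHom).fieldRange = L from ?_]
      refine subfield_eq_of_card ?_
      refine (Nat.card_congr (Equiv.ofInjective _ (RingHom.injective _))).symm.trans ?_
      rw [Nat.card_eq_fintype_card, hK, hk]
    exact ⟨((Subgroup.equivMapOfInjective M φ.symm.toMonoidHom φ.symm.injective).trans
      ((Subgroup.equivMapOfInjective N (MulAut.conj g).toMonoidHom (MulAut.conj g).injective).trans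
        (MulEquiv.subgroupCongr hr.symm))).trans ψ⟩

end Cfsg.Agent.S2251
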