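import Cfsg.Statements.S2253
import Cfsg.Agent.Lib.KnownA.NilpotentExtremal

set_option autoImplicit false
open Cfsg
open CfsgLib.KnownA CfsgLib.KnownA.NilpotentArith CfsgLib.KnownA.NilpotentExtremal CfsgLib.KnownA.NilpotentPerm

namespace Cfsg.Agent.S2253

/-- Let n be a natural number not congruent to 3 modulo 4. Then every nilpotent subgroup of the symmetric group on n letters has order at most the order of a Sylow 2-subgroup (so the nilpotent subgroups of largest order are exactly the Sylow 2-subgroups). -/
theorem result  (n : ℕ) (hn : n % 4 ≠ 3)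
    (N : Subgroup (Equiv.Perm (Fin n))) (hN : Group.IsNilpotent N)
    (P : Sylow 2 (Equiv.Perm (Fin n))) :
    Nat.card N ≤ Nat.card P := by
  rw [card_sylow_perm P]
  rcases sym_main N hN with h | ⟨R, e, K, C, hR, hle, hK, hC⟩
  · simpa using h
  · rw [Fintype.card_fin] at hR
    have hc := (card_le hle).trans (Nat.mul_le_mul hK (Nat.le_of_dvd (by norm_num) hC))
    have he := e2_add_three (m := R) (by omega)
    rw [add_comm 3 R, ← hR] at he
    calc Nat.card N ≤ 2 ^ e2 R * 3 := hc
      _ ≤ 2 ^ e2 R * 2 ^ 2 := Nat.mul_le_mul_left _ (by norm_num)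
      _ = 2 ^ (e2 R + 2) := by rw [pow_add]
      _ ≤ 2 ^ e2 n := Nat.pow_le_pow_right (by norm_num) he

end Cfsg.Agent.S2253
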