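import Cfsg.Statements.S2254
import Cfsg.Agent.Lib.KnownA.NilpotentExtremal

set_option autoImplicit false
open Cfsg
open CfsgLib.KnownA CfsgLib.KnownA.NilpotentArith CfsgLib.KnownA.NilpotentExtremal CfsgLib.KnownA.NilpotentPerm

namespace Cfsg.Agent.S2254

/-- Let n ≡ 3 (mod 4). Then every nilpotent subgroup of the symmetric group on n letters has order at most 3 times the order of a Sylow 2-subgroup of the symmetric group on n − 3 letters; the bound is attained by a nilpotent subgroup isomorphic to the direct product of such a Sylow 2-subgroup with a cyclic group of order 3; and any two nilpotent subgroups attaining the bound are conjugate. -/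
theorem result  (n : ℕ) (hn : n % 4 = 3)
    (P : Sylow 2 (Equiv.Perm (Fin (n - 3)))) :
    (∀ N : Subgroup (Equiv.Perm (Fin n)), Group.IsNilpotent N → Nat.card N ≤ 3 * Nat.card P) ∧
    (∃ M : Subgroup (Equiv.Perm (Fin n)), Group.IsNilpotent M ∧ Nat.card M = 3 * Nat.card P ∧
      Nonempty (M ≃* (↥(P : Subgroup (Equiv.Perm (Fin (n - 3)))) × Multiplicative (ZMod 3)))) ∧
    (∀ N₁ N₂ : Subgroup (Equiv.Perm (Fin n)), Group.IsNilpotent N₁ → Group.IsNilpotent N₂ →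
      Nat.card N₁ = 3 * Nat.card P → Nat.card N₂ = 3 * Nat.card P →
      ∃ g : Equiv.Perm (Fin n), N₂ = N₁.map (MulAut.conj g).toMonoidHom) := by
  obtain ⟨R, rfl⟩ : ∃ R, n = R + 3 := ⟨n - 3, by omega⟩
  revert P
  rw [Nat.add_sub_cancel]
  intro P
  have hP : Nat.card P = 2 ^ e2 R := card_sylow_perm P
  have he : e2 (R + 3) = e2 R + 1 := e2_succ3 hn rfl
  have hmain : ∀ N : Subgroup (Equiv.Perm (Fin (R + 3))), Group.IsNilpotent N →
      (Nat.card N ≤ 2 * 2 ^ e2 R) ∨ ∃ (e : Fin (R + 3) ≃ Fin R ⊕ Fin 3)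
        (K : Subgroup (Equiv.Perm (Fin R))) (C : Subgroup (Equiv.Perm (Fin 3))),
        N ≤ (K.prod C).map (split e) ∧ Nat.card K ≤ 2 ^ e2 R ∧ Nat.card C ∣ 3 := by
    intro N hN
    rcases sym_main N hN with h | ⟨R', e, K, C, hR, hle, hK, hC⟩
    · left; rwa [Fintype.card_fin, he, pow_succ'] at h
    · right
      rw [Fintype.card_fin] at hR
      obtain rfl : R = R' := by omega
      exact ⟨e, K, C, hle, hK, hC⟩
  have hpos : 0 < 2 ^ e2 R := by positivity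
  refine ⟨fun N hN => ?_, ?_, fun N₁ N₂ h₁ h₂ c₁ c₂ => ?_⟩
  · rw [hP]
    rcases hmain N hN with h | ⟨e, K, C, hle, hK, hC⟩
    · omega
    · rw [mul_comm]
      exact (card_le hle).trans (Nat.mul_le_mul hK (Nat.le_of_dvd (by norm_num) hC))
  · obtain ⟨hc, ⟨E⟩⟩ := exists_iso (finSumFinEquiv.symm : Fin (R + 3) ≃ Fin R ⊕ Fin 3)
      (P : Subgroup (Equiv.Perm (Fin R)))
    exact ⟨_, isNilpotent_of_iso P.2 E, hc, ⟨E⟩⟩
  · rw [hP] at c₁ c₂
    obtain ⟨e₁, K₁, C₁, hle₁, hK₁, hC₁⟩ := (hmain N₁ h₁).resolve_left (by omega)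
    obtain ⟨e₂, K₂, C₂, hle₂, hK₂, hC₂⟩ := (hmain N₂ h₂).resolve_left (by omega)
    obtain ⟨hN₁, k₁⟩ := eq_of_card hle₁ hpos hK₁ hC₁ c₁
    obtain ⟨hN₂, k₂⟩ := eq_of_card hle₂ hpos hK₂ hC₂ c₂
    have hfac : 2 ^ (Nat.card (Equiv.Perm (Fin R))).factorization 2 = 2 ^ e2 R := by
      rw [← hP, P.card_eq_multiplicity]
    obtain ⟨a, ha⟩ := MulAction.exists_smul_eq (Equiv.Perm (Fin R))
      (Sylow.ofCard K₁ (k₁.trans hfac.symm)) (Sylow.ofCard K₂ (k₂.trans hfac.symm))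
    have ha' := congrArg (fun Q : Sylow 2 (Equiv.Perm (Fin R)) => (Q : Subgroup (Equiv.Perm (Fin R)))) ha
    simp only [Sylow.coe_subgroup_smul, Sylow.coe_ofCard] at ha'
    obtain ⟨g, -, hg⟩ := conj_exists e₁ e₂ K₁ a
    refine ⟨g, ?_⟩
    rw [hN₁, hN₂, ← hg, ← ha']
    rfl

end Cfsg.Agent.S2254
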