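import Cfsg.Statements.S2255
import Cfsg.Agent.Lib.KnownA.NilpotentExtremal

set_option autoImplicit false
open Cfsg
open CfsgLib.KnownA CfsgLib.KnownA.NilpotentArith CfsgLib.KnownA.NilpotentExtremal CfsgLib.KnownA.NilpotentPerm

namespace Cfsg.Agent.S2255

/-- Let n be a natural number not congruent to 3 modulo 4, with n ∉ {5, 6, 9}. Then every nilpotent subgroup of the alternating group on n letters has order at most the order of a Sylow 2-subgroup of the alternating group (so the nilpotent subgroups of largest order are exactly the Sylow 2-subgroups). -/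
theorem result  (n : ℕ) (hn : n % 4 ≠ 3)
    (h5 : n ≠ 5) (h6 : n ≠ 6) (h9 : n ≠ 9)
    (N : Subgroup (alternatingGroup (Fin n))) (hN : Group.IsNilpotent N)
    (P : Sylow 2 (alternatingGroup (Fin n))) :
    Nat.card N ≤ Nat.card P := by
  rcases Nat.lt_or_ge n 2 with h2 | h2
  · haveI : Subsingleton (Fin n) := Fin.subsingleton_iff_le_one.2 (by omega)
    rw [Nat.card_unique]
    exact Nat.card_pos
  have hP := two_mul_card_sylow_alt h2 P
  haveI := hN
  have hN' : Group.IsNilpotent (N.map (alternatingGroup (Fin n)).subtype) :=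
    Group.nilpotent_of_mulEquiv (Subgroup.equivMapOfInjective N _ (Subgroup.subtype_injective _))
  have hc : Nat.card (N.map (alternatingGroup (Fin n)).subtype) = Nat.card N :=
    Subgroup.card_map_of_injective (Subgroup.subtype_injective _)
  rcases alt_main (by simpa using h2) _ hN' (Subgroup.map_subtype_le N) with
    h | ⟨R, e, K, C, hR, hle, -, hK, hK1, hC⟩ | ⟨hmem, -, h10⟩
  · rw [Fintype.card_fin, hc] at h; omega
  · rw [Fintype.card_fin] at hR
    have hNc := (card_le hle).trans (Nat.mul_le_mul_left _ (Nat.le_of_dvd (by norm_num) hC))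
    rw [hc] at hNc
    have he := e2_add_three (m := R) (by omega)
    rw [add_comm 3 R, ← hR] at he
    have hpow : 2 ^ e2 R * 4 ≤ 2 ^ e2 n := by
      rw [show (4 : ℕ) = 2 ^ 2 from rfl, ← pow_add]; exact Nat.pow_le_pow_right (by norm_num) he
    by_cases hR2 : 2 ≤ R
    · have := hK hR2
      omega
    · have := hK1 (by omega)
      have hR1 : R = 1 := by omega
      have h4 : e2 n = 3 := by rw [show n = 4 by omega, e2_four]
      rw [h4] at hP
      omega
  · simp only [Fintype.card_fin, Finset.mem_insert, Finset.mem_singleton] at hmem h10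
    obtain rfl : n = 10 := by omega
    have := h10 rfl
    rw [hc] at this
    have h8 : e2 10 = 8 := by rw [e2_eq]; norm_num [e2_five]
    rw [h8] at hP
    omega

end Cfsg.Agent.S2255
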