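import Cfsg.Statements.S2256
import Cfsg.Agent.Lib.KnownA.NilpotentExtremal

set_option autoImplicit false
open Cfsg
open CfsgLib.KnownA CfsgLib.KnownA.NilpotentArith CfsgLib.KnownA.NilpotentExtremal CfsgLib.KnownA.NilpotentPerm

namespace Cfsg.Agent.S2256

/-- Let n ≡ 3 (mod 4) with n ≥ 7. Then every nilpotent subgroup of the alternating group on n letters has order at most 3 times the order of a Sylow 2-subgroup of the alternating group on n − 3 letters; the bound is attained by a nilpotent subgroup isomorphic to the direct product of such a Sylow 2-subgroup with a cyclic group of order 3; and any two nilpotent subgroups of the alternating group attaining the bound are conjugate in it. -/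
theorem result  (n : ℕ) (hn : n % 4 = 3) (h7 : 7 ≤ n)
    (P : Sylow 2 (alternatingGroup (Fin (n - 3)))) :
    (∀ N : Subgroup (alternatingGroup (Fin n)), Group.IsNilpotent N → Nat.card N ≤ 3 * Nat.card P) ∧
    (∃ M : Subgroup (alternatingGroup (Fin n)), Group.IsNilpotent M ∧ Nat.card M = 3 * Nat.card P ∧
      Nonempty (M ≃* (↥(P : Subgroup (alternatingGroup (Fin (n - 3)))) × Multiplicative (ZMod 3)))) ∧
    (∀ N₁ N₂ : Subgroup (alternatingGroup (Fin n)), Group.IsNilpotent N₁ → Group.IsNilpotent N₂ →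
      Nat.card N₁ = 3 * Nat.card P → Nat.card N₂ = 3 * Nat.card P →
      ∃ g : alternatingGroup (Fin n), N₂ = N₁.map (MulAut.conj g).toMonoidHom) := by
  obtain ⟨R, rfl⟩ : ∃ R, n = R + 3 := ⟨n - 3, by omega⟩
  revert P
  rw [Nat.add_sub_cancel]
  intro P
  have hR2 : 2 ≤ R := by omega
  have hP : 2 * Nat.card P = 2 ^ e2 R := two_mul_card_sylow_alt hR2 P
  have he : e2 (R + 3) = e2 R + 1 := e2_succ3 hn rfl
  have hmain : ∀ N : Subgroup (alternatingGroup (Fin (R + 3))), Group.IsNilpotent N →
      (Nat.card N < 3 * Nat.card P) ∨ ∃ (e : Fin (R + 3) ≃ Fin R ⊕ Fin 3)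
        (K : Subgroup (Equiv.Perm (Fin R))) (C : Subgroup (Equiv.Perm (Fin 3))),
        N.map (alternatingGroup (Fin (R + 3))).subtype ≤ (K.prod C).map (split e) ∧
        K ≤ alternatingGroup (Fin R) ∧ Nat.card K ≤ Nat.card P ∧ Nat.card C ∣ 3 := by
    intro N hN
    haveI := hN
    have hN' : Group.IsNilpotent (N.map (alternatingGroup (Fin (R + 3))).subtype) :=
      Group.nilpotent_of_mulEquiv (Subgroup.equivMapOfInjective N _ (Subgroup.subtype_injective _))
    have hc : Nat.card (N.map (alternatingGroup (Fin (R + 3))).subtype) = Nat.card N :=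
      Subgroup.card_map_of_injective (Subgroup.subtype_injective _)
    have hpos : 0 < Nat.card P := Nat.card_pos
    rcases alt_main (by simp) _ hN' (Subgroup.map_subtype_le N) with
      h | ⟨R', e, K, C, hR, hle, hKA, hK, -, hC⟩ | ⟨hmem, h7', -⟩
    · left
      rw [Fintype.card_fin, hc, he, pow_succ'] at h
      omega
    · right
      rw [Fintype.card_fin] at hR
      obtain rfl : R = R' := by omega
      exact ⟨e, K, C, hle, hKA, by have := hK hR2; omega, hC⟩
    · left
      simp only [Fintype.card_fin, Finset.mem_insert, Finset.mem_singleton] at hmem h7'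
      obtain rfl : R = 4 := by omega
      have := h7' rfl
      rw [hc] at this
      rw [e2_four] at hP
      omega
  refine ⟨fun N hN => ?_, ?_, fun N₁ N₂ h₁ h₂ c₁ c₂ => ?_⟩
  · rcases hmain N hN with h | ⟨e, K, C, hle, -, hK, hC⟩
    · omega
    · refine le_of_eq_of_le (Subgroup.card_map_of_injective (Subgroup.subtype_injective (alternatingGroup (Fin (R + 3))))).symm ?_
      rw [mul_comm]
      exact (card_le hle).trans (Nat.mul_le_mul hK (Nat.le_of_dvd (by norm_num) hC))
  · set e : Fin (R + 3) ≃ Fin R ⊕ Fin 3 := finSumFinEquiv.symm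
    set K := (P : Subgroup (alternatingGroup (Fin R))).map (alternatingGroup (Fin R)).subtype with hK
    have hA : (K.prod (alternatingGroup (Fin 3))).map (split e) ≤ alternatingGroup (Fin (R + 3)) := by
      rintro _ ⟨⟨a, b⟩, ⟨ha, hb⟩, rfl⟩
      rw [Equiv.Perm.mem_alternatingGroup, sign_split,
        Equiv.Perm.mem_alternatingGroup.1 (Subgroup.map_subtype_le _ ha),
        Equiv.Perm.mem_alternatingGroup.1 hb, one_mul]
    obtain ⟨-, ⟨E⟩⟩ := exists_iso e K
    let E' := ((Subgroup.subgroupOfEquivOfLe hA).trans E).trans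
      (MulEquiv.prodCongr (Subgroup.equivMapOfInjective (P : Subgroup (alternatingGroup (Fin R))) _
        (Subgroup.subtype_injective _)).symm (MulEquiv.refl (Multiplicative (ZMod 3))))
    haveI := P.2.isNilpotent
    refine ⟨_, Group.nilpotent_of_mulEquiv E'.symm, ?_, ⟨E'⟩⟩
    rw [Nat.card_congr E'.toEquiv, Nat.card_prod, mul_comm]
    simp
  · obtain ⟨e₁, K₁, C₁, hle₁, hA₁, hK₁, hC₁⟩ := (hmain N₁ h₁).resolve_left (by omega)
    obtain ⟨e₂, K₂, C₂, hle₂, hA₂, hK₂, hC₂⟩ := (hmain N₂ h₂).resolve_left (by omega)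
    have hinj : Function.Injective (alternatingGroup (Fin (R + 3))).subtype := Subgroup.subtype_injective _
    obtain ⟨hN₁, k₁⟩ := eq_of_card hle₁ Nat.card_pos hK₁ hC₁
      ((Subgroup.card_map_of_injective hinj).trans c₁)
    obtain ⟨hN₂, k₂⟩ := eq_of_card hle₂ Nat.card_pos hK₂ hC₂
      ((Subgroup.card_map_of_injective hinj).trans c₂)
    have hs : ∀ K : Subgroup (Equiv.Perm (Fin R)), K ≤ alternatingGroup (Fin R) → Nat.card K = Nat.card P →
        Nat.card (K.subgroupOf (alternatingGroup (Fin R))) =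
          2 ^ (Nat.card (alternatingGroup (Fin R))).factorization 2 := fun K hK hk => by
      rw [Nat.card_congr (Subgroup.subgroupOfEquivOfLe hK).toEquiv, hk, P.card_eq_multiplicity]
    obtain ⟨a, ha⟩ := MulAction.exists_smul_eq (alternatingGroup (Fin R))
      (Sylow.ofCard _ (hs K₁ hA₁ k₁)) (Sylow.ofCard _ (hs K₂ hA₂ k₂))
    have ha' := congrArg (fun Q : Sylow 2 (alternatingGroup (Fin R)) =>
      (Q : Subgroup (alternatingGroup (Fin R))).map (alternatingGroup (Fin R)).subtype) ha
    simp only [Sylow.coe_subgroup_smul, Sylow.coe_ofCard, Subgroup.map_subgroupOf_eq_of_le hA₂] at ha'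
    have haK : K₁.map (MulAut.conj (a : Equiv.Perm (Fin R))).toMonoidHom = K₂ := by
      rw [← ha']
      conv_lhs => rw [← Subgroup.map_subgroupOf_eq_of_le hA₁]
      show _ = ((K₁.subgroupOf (alternatingGroup (Fin R))).map (MulAut.conj a).toMonoidHom).map
        (alternatingGroup (Fin R)).subtype
      rw [Subgroup.map_map, Subgroup.map_map]
      rfl
    obtain ⟨g, hgA, hg⟩ := conj_exists e₁ e₂ K₁ (a : Equiv.Perm (Fin R))
    refine ⟨⟨g, hgA⟩, Subgroup.map_injective hinj ?_⟩
    rw [hN₂, ← haK, hg, ← hN₁, Subgroup.map_map, Subgroup.map_map]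
    rfl

end Cfsg.Agent.S2256
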