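import Cfsg.Statements.S2257
import Cfsg.Agent.Lib.Classical.Solubilizer.SmallOrders

set_option autoImplicit false
open Cfsg

namespace Cfsg.Agent.S2257

open CfsgLib.Classical.Solubilizer

/-- Let G = PSL_2(F) with F a field of order q = 2^p, p prime, and for x ∈ G call the solubilizer of x the set of y ∈ G such that x and y generate a solvable subgroup. Then the solubilizer of an involution has 3q(q − 1) elements; that of a non-identity element of order dividing q − 1 has 2q(q − 1) elements; and that of a non-identity element of order dividing q + 1 has 2(q + 1) elements. -/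
theorem result (p : ℕ) (hp : p.Prime) {F : Type*} [Field F] [Fintype F]
    (hF : Fintype.card F = 2 ^ p) (x : Matrix.ProjectiveSpecialLinearGroup (Fin 2) F) :
    (orderOf x = 2 → Nat.card {y : Matrix.ProjectiveSpecialLinearGroup (Fin 2) F // Group.IsSolvable ↥(Subgroup.closure ({x, y} : Set (Matrix.ProjectiveSpecialLinearGroup (Fin 2) F)))} = 3 * 2 ^ p * (2 ^ p - 1)) ∧
    (x ≠ 1 → orderOf x ∣ 2 ^ p - 1 → Nat.card {y : Matrix.ProjectiveSpecialLinearGroup (Fin 2) F // Group.IsSolvable ↥(Subgroup.closure ({x, y} : Set (Matrix.ProjectiveSpecialLinearGroup (Fin 2) F)))} = 2 * 2 ^ p * (2 ^ p - 1)) ∧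
    (x ≠ 1 → orderOf x ∣ 2 ^ p + 1 → Nat.card {y : Matrix.ProjectiveSpecialLinearGroup (Fin 2) F // Group.IsSolvable ↥(Subgroup.closure ({x, y} : Set (Matrix.ProjectiveSpecialLinearGroup (Fin 2) F)))} = 2 * (2 ^ p + 1)) := by
  haveI : Fact p.Prime := ⟨hp⟩
  haveI : Fact (Nat.Prime 2) := ⟨Nat.prime_two⟩
  haveI : CharP F 2 := charP_of_card_eq_prime_pow hF
  have hq : Nat.card F = 2 ^ p := by rw [Nat.card_eq_fintype_card, hF]
  have h2 : (2 : F) = 0 := CharP.cast_eq_zero F 2
  obtain ⟨a, rfl⟩ := QuotientGroup.mk'_surjective (Subgroup.center (Matrix.SpecialLinearGroup (Fin 2) F)) x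
  have hc : Nat.card (Subgroup.center (Matrix.SpecialLinearGroup (Fin 2) F)) = 1 := card_center_two h2
  refine ⟨fun hx => ?_, fun hx1 hd => ?_, fun hx1 hd => ?_⟩
  · have hx1 : (proj a : Matrix.ProjectiveSpecialLinearGroup (Fin 2) F) ≠ 1 := by
      intro h
      rw [← orderOf_eq_one_iff] at h
      exact absurd (h.symm.trans hx) (by norm_num)
    have ht : (a : Matrix (Fin 2) (Fin 2) F).trace = 0 :=
      (trace_eq_zero_iff hx1).1 (orderOf_dvd_iff_pow_eq_one.1 (dvd_of_eq hx))
    have key := card_center_mul a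
    rw [hc, one_mul, card_sol_eq_of_trace a unip (nonscalar_of_proj hx1) unip_nonscalar (by rw [ht, unip_trace, h2]),
      card_sol_unip_two h2, hq] at key
    exact key
  all_goals
    have hne2 : orderOf (proj a : Matrix.ProjectiveSpecialLinearGroup (Fin 2) F) ≠ 2 := by
      intro h
      have hd' := h ▸ hd
      have h2p : 2 ∣ 2 ^ p := dvd_pow_self 2 hp.ne_zero
      have := Nat.one_le_two_pow (n := p)
      omega
    have key := card_solubilizer_semisimple 2 (hq ▸ dvd_pow_self 2 hp.ne_zero) (a := a)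
      (fun _ _ => ⟨Or.inl h2, ⟨⟨((1 : F), (0 : F)), by linear_combination h2⟩⟩⟩) hx1 hne2
    rw [hq, hc, one_mul] at key
  · exact key.1 hd
  · exact key.2 hd

end Cfsg.Agent.S2257
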