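import Cfsg.Statements.S2258
import Cfsg.Agent.Lib.Classical.Solubilizer.SmallOrders

set_option autoImplicit false
open Cfsg

namespace Cfsg.Agent.S2258

open CfsgLib.Classical.Solubilizer

/-- Let G = PSL_2(F) with F a field of order q = 3^p, p an odd prime, and for x ∈ G call the solubilizer of x the set of y ∈ G such that x and y generate a solvable subgroup. Then the solubilizer of an involution has q(q + 1) elements; that of an element of order 3 has q(q + 5)/2 elements; that of an element of order neither 1 nor 2 dividing q − 1 has q(q − 1) elements; and that of an element of order neither 1 nor 2 dividing q + 1 has q + 1 elements. -/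
theorem result (p : ℕ) (hp : p.Prime) (hodd : Odd p) {F : Type*} [Field F] [Fintype F]
    (hF : Fintype.card F = 3 ^ p) (x : Matrix.ProjectiveSpecialLinearGroup (Fin 2) F) :
    (orderOf x = 2 → Nat.card {y : Matrix.ProjectiveSpecialLinearGroup (Fin 2) F // Group.IsSolvable ↥(Subgroup.closure ({x, y} : Set (Matrix.ProjectiveSpecialLinearGroup (Fin 2) F)))} = 3 ^ p * (3 ^ p + 1)) ∧
    (orderOf x = 3 → 2 * Nat.card {y : Matrix.ProjectiveSpecialLinearGroup (Fin 2) F // Group.IsSolvable ↥(Subgroup.closure ({x, y} : Set (Matrix.ProjectiveSpecialLinearGroup (Fin 2) F)))} = 3 ^ p * (3 ^ p + 5)) ∧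
    (x ≠ 1 → orderOf x ≠ 2 → orderOf x ∣ 3 ^ p - 1 → Nat.card {y : Matrix.ProjectiveSpecialLinearGroup (Fin 2) F // Group.IsSolvable ↥(Subgroup.closure ({x, y} : Set (Matrix.ProjectiveSpecialLinearGroup (Fin 2) F)))} = 3 ^ p * (3 ^ p - 1)) ∧
    (x ≠ 1 → orderOf x ≠ 2 → orderOf x ∣ 3 ^ p + 1 → Nat.card {y : Matrix.ProjectiveSpecialLinearGroup (Fin 2) F // Group.IsSolvable ↥(Subgroup.closure ({x, y} : Set (Matrix.ProjectiveSpecialLinearGroup (Fin 2) F)))} = 3 ^ p + 1) := by
  haveI : Fact p.Prime := ⟨hp⟩
  haveI : Fact (Nat.Prime 3) := ⟨Nat.prime_three⟩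
  haveI : CharP F 3 := charP_of_card_eq_prime_pow hF
  have hq : Nat.card F = 3 ^ p := by rw [Nat.card_eq_fintype_card, hF]
  have h3 : (3 : F) = 0 := CharP.cast_eq_zero F 3
  have h2 : (2 : F) ≠ 0 := fun h => one_ne_zero (show (1 : F) = 0 by linear_combination h3 - h)
  have hsq : ¬ IsSquare (2 : F) := by
    rw [FiniteField.isSquare_two_iff, hF, not_and_or, not_not]
    left
    obtain ⟨k, rfl⟩ := hodd
    rw [pow_succ, pow_mul, Nat.mul_mod, Nat.pow_mod]
    norm_num
  obtain ⟨a, rfl⟩ := QuotientGroup.mk'_surjective (Subgroup.center (Matrix.SpecialLinearGroup (Fin 2) F)) x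
  have hc : Nat.card (Subgroup.center (Matrix.SpecialLinearGroup (Fin 2) F)) = 2 := card_center_odd h2
  refine ⟨fun hx => ?_, fun hx => ?_, fun hx1 hx2 hd => ?_, fun hx1 hx2 hd => ?_⟩
  · have hx1 : (proj a : Matrix.ProjectiveSpecialLinearGroup (Fin 2) F) ≠ 1 := by
      intro h
      rw [← orderOf_eq_one_iff] at h
      exact absurd (h.symm.trans hx) (by norm_num)
    have ht : (a : Matrix (Fin 2) (Fin 2) F).trace = 0 :=
      (trace_eq_zero_iff hx1).1 (orderOf_dvd_iff_pow_eq_one.1 (dvd_of_eq hx))
    have key := card_center_mul a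
    rw [hc, card_sol_eq_of_trace a (companion 0) (nonscalar_of_proj hx1)
        (nonscalar_of_entries _ (Or.inr (Or.inl (by simp [companion, mk2]))))
        (by rw [ht]; simp [companion, mk2, Matrix.trace_fin_two]),
      card_sol_involution_three hsq, hq, mul_assoc] at key
    exact Nat.eq_of_mul_eq_mul_left two_pos key
  · have hx1 : (proj a : Matrix.ProjectiveSpecialLinearGroup (Fin 2) F) ≠ 1 := by
      intro h
      rw [← orderOf_eq_one_iff] at h
      exact absurd (h.symm.trans hx) (by norm_num)
    have ht2 : (a : Matrix (Fin 2) (Fin 2) F).trace ^ 2 = 1 :=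
      (trace_sq_eq_one_iff hx1).1 (orderOf_dvd_iff_pow_eq_one.1 (dvd_of_eq hx))
    obtain ⟨a', ha', ht⟩ : ∃ a' : Matrix.SpecialLinearGroup (Fin 2) F,
        (proj a' : Matrix.ProjectiveSpecialLinearGroup (Fin 2) F) = proj a ∧
        (a' : Matrix (Fin 2) (Fin 2) F).trace = 2 := by
      have : ((a : Matrix (Fin 2) (Fin 2) F).trace - 2) * ((a : Matrix (Fin 2) (Fin 2) F).trace + 2) = 0 := by
        linear_combination ht2 - h3
      rcases mul_eq_zero.1 this with h | h
      · exact ⟨a, rfl, sub_eq_zero.1 h⟩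
      · set z : Matrix.SpecialLinearGroup (Fin 2) F := mk2 (-1) 0 0 (-1) (by ring) with hz
        have hze : (z : Matrix (Fin 2) (Fin 2) F) = (-1 : F) • 1 := by
          rw [hz, mk2_coe]
          ext i j
          fin_cases i <;> fin_cases j <;> simp
        refine ⟨z * a, ?_, ?_⟩
        · rw [map_mul, proj_eq_one.2 ((center_iff z).2 ⟨-1, hze⟩), one_mul]
        · rw [coe_mul', hze, smul_mul_assoc, one_mul, Matrix.trace_smul, smul_eq_mul]
          linear_combination -h
    have hx1' : (proj a' : Matrix.ProjectiveSpecialLinearGroup (Fin 2) F) ≠ 1 := ha' ▸ hx1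
    have key := card_center_mul a'
    rw [hc, card_sol_eq_of_trace a' unip (nonscalar_of_proj hx1') unip_nonscalar (by rw [ht, unip_trace]),
      card_sol_unip_three hsq, hq, ha'] at key
    exact key
  all_goals
    have key := card_solubilizer_semisimple 3 (hq ▸ dvd_pow_self 3 hp.ne_zero) (a := a) (fun ht0 ht4 => by
      refine ⟨Or.inr ⟨hsq, ?_⟩, nonempty_conic h2 (by rw [neg_mul_neg, ← pow_two]; exact ht4) _⟩
      rw [trace_cube]
      set T := (a : Matrix (Fin 2) (Fin 2) F).trace
      have nT : ∀ {c : F}, c * c = 4 → T ≠ c := fun hc' h => ht4 (by rw [h, pow_two, hc'])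
      refine ⟨fun h => ?_, fun h => ?_, fun h => ?_⟩
      · rcases inThree_cube (Or.inl h) with h' | h' | h'
        · exact ht0 h'
        · exact nT (by linear_combination -h3) h'
        · exact nT (by linear_combination -h3) h'
      · rcases inThree_cube (Or.inr (Or.inl h)) with h' | h' | h'
        · exact ht0 h'
        · exact nT (by linear_combination -h3) h'
        · exact nT (by linear_combination -h3) h'
      · rcases inThree_cube (Or.inr (Or.inr h)) with h' | h' | h'
        · exact ht0 h'
        · exact nT (by linear_combination -h3) h'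
        · exact nT (by linear_combination -h3) h') hx1 hx2
    rw [hq, hc, mul_assoc] at key
  · exact Nat.eq_of_mul_eq_mul_left two_pos (key.1 hd)
  · exact Nat.eq_of_mul_eq_mul_left two_pos (key.2 hd)

end Cfsg.Agent.S2258
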