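import Cfsg.Statements.S2260
import Mathlib

set_option autoImplicit false
open Cfsg

namespace Cfsg.Agent.S2260

/-- A nilpotent square matrix of size `d` has vanishing `d`-th power. -/
theorem pow_card_eq_zero {F : Type*} [Field F] {d : ℕ} {N : Matrix (Fin d) (Fin d) F}
    (hN : IsNilpotent N) : N ^ d = 0 := by
  have hc : N.charpoly = Polynomial.X ^ d := by
    have := Matrix.isNilpotent_charpoly_sub_pow_of_isNilpotent hN
    rw [Fintype.card_fin] at this
    exact sub_eq_zero.1 this.eq_zero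
  simpa [hc] using Matrix.aeval_self_charpoly N

theorem result {F : Type*} [Field F] [Finite F] (p : ℕ) [Fact p.Prime] [CharP F p] (d : ℕ)
    (u : GL (Fin d) F) (hu : IsNilpotent ((u : Matrix (Fin d) (Fin d) F) - 1)) :
    orderOf u ≤ p ^ Nat.clog p d ∧
    (((u : Matrix (Fin d) (Fin d) F) - 1) ^ (d - 1) ≠ 0 → orderOf u = p ^ Nat.clog p d) := by
  have hp : p.Prime := Fact.out
  obtain rfl | hd := Nat.eq_zero_or_pos d
  · have : u = 1 := by ext i; exact i.elim0
    simp [this]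
  haveI : Nonempty (Fin d) := ⟨⟨0, hd⟩⟩
  set N := (u : Matrix (Fin d) (Fin d) F) - 1 with hN
  have key : ∀ k, u ^ p ^ k = 1 ↔ N ^ p ^ k = 0 := by
    intro k
    rw [hN, sub_pow_char_pow_of_commute _ _ (Commute.one_right _), one_pow, sub_eq_zero]
    rw [Units.ext_iff]; simp
  have h0 : u ^ p ^ Nat.clog p d = 1 :=
    (key _).2 (pow_eq_zero_of_le (Nat.le_pow_clog hp.one_lt d) (pow_card_eq_zero hu))
  refine ⟨orderOf_le_of_pow_eq_one (pow_pos hp.pos _) h0, fun hne => ?_⟩
  obtain ⟨j, hj, hjo⟩ := (Nat.dvd_prime_pow hp).1 (orderOf_dvd_of_pow_eq_one h0)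
  have hz : N ^ p ^ j = 0 := (key j).1 (hjo ▸ pow_orderOf_eq_one u)
  have hle : d ≤ p ^ j := by
    by_contra h
    exact hne (pow_eq_zero_of_le (by omega) hz)
  rw [hjo, le_antisymm hj (Nat.clog_le_of_le_pow hle)]

end Cfsg.Agent.S2260
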