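import Cfsg.Statements.S2263
import Cfsg.Agent.Lib.KnownA.PGUMaxOrd.Roots
import Cfsg.Agent.Lib.KnownA.PGUMaxOrd.Models

set_option autoImplicit false
open Cfsg

namespace Cfsg.Agent.S2263

open CfsgLib.Classical CfsgLib.KnownA.PGUMaxOrd

/-- Let q = p^f with p prime and f ≥ 1, F a field with q² elements, d ≥ 3 with (d, q) ≠ (3, 2), and PGU_d(q) the general unitary group of the standard Hermitian form modulo its centre. Then the largest order of an element of PGU_d(q) is: q^(d−1) − 1 if d is odd and f ≥ 2; (p^(d−2) + 1)p if d is odd and f = 1; q^(d−1) + 1 if d is even and q > 2; 4(2^(d−3) + 1) if d is even and q = 2. -/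
theorem result {F : Type*} [Field F] [Fintype F] (p f d : ℕ) (hp : p.Prime) (hf : 1 ≤ f) (q : ℕ) (hq : q = p ^ f)
    (hF : Fintype.card F = q ^ 2) (hd : 3 ≤ d) (h32 : ¬ (d = 3 ∧ q = 2)) :
    (Odd d → 2 ≤ f → (∀ g : (↥(Cfsg.GU d F q) ⧸ Subgroup.center ↥(Cfsg.GU d F q)), orderOf g ≤ q ^ (d - 1) - 1) ∧ ∃ g : (↥(Cfsg.GU d F q) ⧸ Subgroup.center ↥(Cfsg.GU d F q)), orderOf g = q ^ (d - 1) - 1) ∧
    (Odd d → f = 1 → (∀ g : (↥(Cfsg.GU d F q) ⧸ Subgroup.center ↥(Cfsg.GU d F q)), orderOf g ≤ (p ^ (d - 2) + 1) * p) ∧ ∃ g : (↥(Cfsg.GU d F q) ⧸ Subgroup.center ↥(Cfsg.GU d F q)), orderOf g = (p ^ (d - 2) + 1) * p) ∧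
    (Even d → 2 < q → (∀ g : (↥(Cfsg.GU d F q) ⧸ Subgroup.center ↥(Cfsg.GU d F q)), orderOf g ≤ q ^ (d - 1) + 1) ∧ ∃ g : (↥(Cfsg.GU d F q) ⧸ Subgroup.center ↥(Cfsg.GU d F q)), orderOf g = q ^ (d - 1) + 1) ∧
    (Even d → q = 2 → (∀ g : (↥(Cfsg.GU d F q) ⧸ Subgroup.center ↥(Cfsg.GU d F q)), orderOf g ≤ 4 * (2 ^ (d - 3) + 1)) ∧ ∃ g : (↥(Cfsg.GU d F q) ⧸ Subgroup.center ↥(Cfsg.GU d F q)), orderOf g = 4 * (2 ^ (d - 3) + 1)) := by
  classical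
  haveI : Fact p.Prime := ⟨hp⟩
  haveI : CharP F p := by
    obtain ⟨n, hr, hn⟩ := FiniteField.card F (ringChar F)
    have h : ringChar F ∣ p ^ (f * 2) := by
      rw [pow_mul, ← hq, ← hF, hn]; exact dvd_pow_self _ n.ne_zero
    have := (Nat.prime_dvd_prime_iff_eq hr hp).1 (hr.dvd_of_dvd_pow h)
    exact this ▸ ringChar.charP F
  obtain ⟨σ, hσ, hc⟩ := exists_frob hF
  have hq2 := two_le_of_card_sq hF
  have hpd : ∀ j, 1 ≤ j → p ∣ q ^ j := fun j hj => by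
    rw [hq, ← pow_mul]
    exact dvd_pow_self p (Nat.mul_ne_zero (by omega) (by omega))
  have hup := orderOf_cases hp hf hq hF hd h32
  refine ⟨fun ho hf2 => ⟨fun g => (hup g).1 ho hf2, ?_⟩, fun ho hf1 => ⟨fun g => (hup g).2.1 ho hf1, ?_⟩,
    fun he hq3 => ⟨fun g => (hup g).2.2.1 he hq3, ?_⟩, fun he hq3 => ⟨fun g => (hup g).2.2.2 he hq3, ?_⟩⟩
  · obtain ⟨k, hk⟩ := ho
    obtain ⟨V, _, _, _, B, g, hB, hN, hV, hg⟩ := exists_torus_pair p hq hF hσ hc (show 1 ≤ k by omega)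
    obtain ⟨y, hy, -⟩ := exists_pgu_element p (e := 1) hF (show 2 ≤ d by omega) hσ hc hB hN (by omega) le_rfl hg
    refine ⟨y, le_antisymm ((hup y).1 ⟨k, hk⟩ hf2) ?_⟩
    rw [show d - 1 = 2 * k by omega]
    exact Nat.le_of_dvd (orderOf_pos y) hy
  · obtain ⟨k, hk⟩ := ho
    obtain ⟨V, _, _, _, B, g, hB, hN, hV, hg⟩ := exists_torus_odd p hq hF hσ hc
      (show Odd (d - 2) from ⟨k - 1, by omega⟩)
    obtain ⟨y, hy, hy'⟩ := exists_pgu_element p (e := 2) hF (show 2 ≤ d by omega) hσ hc hB hN (by omega)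
      (by norm_num) hg
    have hqp : q = p := by rw [hq, hf1, pow_one]
    rw [Nat.clog_eq_one le_rfl hp.two_le, pow_one] at hy'
    refine ⟨y, le_antisymm ((hup y).2.1 ⟨k, hk⟩ hf1) (Nat.le_of_dvd (orderOf_pos y) ?_)⟩
    rw [← hqp] at hy' ⊢
    refine Nat.Coprime.mul_dvd_of_dvd_of_dvd ?_ hy hy'
    rw [hqp]
    exact Nat.Coprime.symm (hp.coprime_iff_not_dvd.2 fun h => hp.ne_one
      (Nat.dvd_one.1 ((Nat.dvd_add_right (dvd_pow_self p (show d - 2 ≠ 0 by omega))).1 h)))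
  · obtain ⟨k, hk⟩ := he
    obtain ⟨V, _, _, _, B, g, hB, hN, hV, hg⟩ := exists_torus_odd p hq hF hσ hc
      (show Odd (d - 1) from ⟨k - 1, by omega⟩)
    obtain ⟨y, hy, -⟩ := exists_pgu_element p (e := 1) hF (show 2 ≤ d by omega) hσ hc hB hN (by omega) le_rfl hg
    exact ⟨y, le_antisymm ((hup y).2.2.1 ⟨k, hk⟩ hq3) (Nat.le_of_dvd (orderOf_pos y) hy)⟩
  · obtain ⟨k, hk⟩ := he
    have hp2 : p = 2 := by
      have h := hpd 1 le_rfl
      rw [pow_one, hq3] at h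
      exact (Nat.prime_dvd_prime_iff_eq hp Nat.prime_two).1 h
    obtain ⟨V, _, _, _, B, g, hB, hN, hV, hg⟩ := exists_torus_odd p hq hF hσ hc
      (show Odd (d - 3) from ⟨k - 2, by omega⟩)
    obtain ⟨y, hy, hy'⟩ := exists_pgu_element p (e := 3) hF (show 2 ≤ d by omega) hσ hc hB hN (by omega)
      (by norm_num) hg
    have h4 : p ^ Nat.clog p 3 = 4 := by
      subst hp2
      rw [show Nat.clog 2 3 = 2 by decide +kernel]; rfl
    rw [h4] at hy'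
    rw [show q ^ (d - 3) = 2 ^ (d - 3) by rw [hq3]] at hy
    refine ⟨y, le_antisymm ((hup y).2.2.2 ⟨k, hk⟩ hq3) (Nat.le_of_dvd (orderOf_pos y) ?_)⟩
    refine Nat.Coprime.mul_dvd_of_dvd_of_dvd ?_ hy' hy
    refine Nat.Coprime.pow_left 2 (Nat.prime_two.coprime_iff_not_dvd.2 fun h => ?_)
    exact absurd (Nat.dvd_one.1 ((Nat.dvd_add_right (dvd_pow_self 2 (show d - 3 ≠ 0 by omega))).1 h)) (by norm_num)

end Cfsg.Agent.S2263
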