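import Cfsg.Statements.S2264
import Cfsg.Agent.Lib.KnownA.IsometryOrder

set_option autoImplicit false
open Cfsg Matrix

namespace Cfsg.Agent.S2264

theorem result {F : Type*} [Field F] [Fintype F] (m : ℕ) (hm : 2 ≤ m) (g : Cfsg.PSp m F) :
    (Fintype.card F - 1) * orderOf g ≤ Fintype.card F ^ (m + 1) := by
  haveI : Fact (ringChar F).Prime := ⟨CharP.char_is_prime F _⟩
  haveI : Nonempty (Fin m ⊕ Fin m) := ⟨Sum.inl ⟨0, by omega⟩⟩
  refine CfsgLib.KnownA.IsometryOrder.orderOf_bound (ringChar F) m hm (J (Fin m) F) (isUnit_det_J (Fin m) F)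
    (by simp; omega) (fun _ => by simp; omega) (fun h => absurd h (by simp; omega))
    (Submonoid.subtype (symplecticGroup (Fin m) F)) Subtype.val_injective
    (fun g => SymplecticGroup.mem_iff'.1 g.2) g

end Cfsg.Agent.S2264
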