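import Cfsg.Statements.S2265
import Cfsg.Agent.Lib.KnownA.IsometryOrder

set_option autoImplicit false
open Cfsg Matrix

namespace Cfsg.Agent.S2265

variable {F : Type*} [Field F] {ι : Type} [Fintype ι] [DecidableEq ι]

/-- An isometry preserves the Gram matrix of the polar form. -/
theorem gram (Q : (ι → F) → F) (J : Matrix ι ι F)
    (hJ : ∀ u v, Q (u + v) - Q u - Q v = u ⬝ᵥ (J *ᵥ v)) (g : ↥(isometryGroup F Q)) :
    ((g : GL ι F) : Matrix ι ι F)ᵀ * J * ((g : GL ι F) : Matrix ι ι F) = J := by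
  set M : Matrix ι ι F := ((g : GL ι F) : Matrix ι ι F) with hM
  have hQ : ∀ u, Q (M *ᵥ u) = Q u := fun u => g.2 u u
  have hB : ∀ u v, (M *ᵥ u) ⬝ᵥ (J *ᵥ (M *ᵥ v)) = u ⬝ᵥ (J *ᵥ v) := by
    intro u v
    rw [← hJ, ← hJ, ← mulVec_add, hQ, hQ, hQ]
  ext i j
  have h := hB (Pi.single i 1) (Pi.single j 1)
  rw [← vecMul_transpose, ← dotProduct_mulVec, mulVec_mulVec, mulVec_mulVec] at h
  simpa [Matrix.mul_assoc] using h

/-- The hyperbolic matrix. -/
def hyp (m : ℕ) (F : Type*) [Field F] : Matrix (Fin m ⊕ Fin m) (Fin m ⊕ Fin m) F := fromBlocks 0 1 1 0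

theorem hyp_det (m : ℕ) : IsUnit (hyp m F).det :=
  Matrix.isUnit_det_of_left_inverse (B := hyp m F) (by
    rw [hyp, fromBlocks_multiply]; simp [fromBlocks_one])

theorem polar_hyp (m : ℕ) (u v : Fin m ⊕ Fin m → F) :
    u ⬝ᵥ (hyp m F *ᵥ v) = ∑ i : Fin m, (u (.inl i) * v (.inr i) + u (.inr i) * v (.inl i)) := by
  rw [Finset.sum_add_distrib]
  simp [hyp, dotProduct, mulVec, fromBlocks, Fintype.sum_sum_type, Matrix.one_apply]

theorem result {F : Type*} [Field F] [Fintype F] (m : ℕ) :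
    (3 ≤ m → Odd (Fintype.card F) → ∀ g : Cfsg.POmega F (Cfsg.quadFormOdd m F),
      (Fintype.card F - 1) * orderOf g ≤ Fintype.card F ^ (m + 1)) ∧
    (4 ≤ m → ∀ g : Cfsg.POmega F (Cfsg.quadFormPlus m F),
      (Fintype.card F - 1) * orderOf g ≤ Fintype.card F ^ (m + 1)) ∧
    (4 ≤ m → ∀ a b : F, (∀ z₁ z₂ : F, z₁ ^ 2 + a * z₁ * z₂ + b * z₂ ^ 2 = 0 → z₁ = 0 ∧ z₂ = 0) →
      ∀ g : Cfsg.POmega F (Cfsg.quadFormMinus (m - 1) F a b),
      (Fintype.card F - 1) * orderOf g ≤ Fintype.card F ^ (m + 1)) := by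
  haveI : Fact (ringChar F).Prime := ⟨CharP.char_is_prime F _⟩
  refine ⟨fun hm hodd g => ?_, fun hm g => ?_, fun hm a b hab g => ?_⟩
  · have hp : ringChar F ≠ 2 := fun h => by
      haveI : CharP F 2 := ringChar.eq_iff.1 h
      obtain ⟨n, -, hn⟩ := FiniteField.card F 2
      rw [hn, Nat.odd_pow_iff n.ne_zero] at hodd
      exact absurd hodd (by decide)
    have h2 : (2 : F) ≠ 0 := Ring.two_ne_zero hp
    let J : Matrix (Unit ⊕ (Fin m ⊕ Fin m)) (Unit ⊕ (Fin m ⊕ Fin m)) F := fromBlocks (diagonal fun _ => 2) 0 0 (hyp m F)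
    refine CfsgLib.KnownA.IsometryOrder.orderOf_bound (ι := Unit ⊕ (Fin m ⊕ Fin m)) (ringChar F) m (by omega) J ?_
      (by simp; omega) (fun h => absurd h hp) (fun _ => hm)
      ((Units.coeHom _).comp ((isometryGroup F (quadFormOdd m F)).subtype.comp (Omega F (quadFormOdd m F)).subtype))
      (fun x y h => Subtype.ext (Subtype.ext (Units.ext h))) (fun x => gram _ J ?_ x.1) g
    · rw [det_fromBlocks_zero₂₁, det_diagonal]
      exact (isUnit_iff_ne_zero.2 (by simp [h2])).mul (hyp_det m)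
    · intro u v
      have h := polar_hyp m (fun i => u (.inr i)) (fun i => v (.inr i))
      rw [dotProduct, Fintype.sum_sum_type]
      have e : (∑ x : Fin m ⊕ Fin m, u (.inr x) * (J *ᵥ v) (.inr x)) =
          (fun i => u (.inr i)) ⬝ᵥ (hyp m F *ᵥ fun i => v (.inr i)) := by
        simp [J, dotProduct, mulVec, fromBlocks, Fintype.sum_sum_type]
      rw [e, h]
      simp only [quadFormOdd, Pi.add_apply, Finset.sum_add_distrib, add_mul, mul_add]
      simp only [mul_comm (v (Sum.inr _)) (u (Sum.inr _))]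
      simp [J, mulVec, dotProduct, fromBlocks, Fintype.sum_sum_type]
      ring
  · haveI : Nonempty (Fin m ⊕ Fin m) := ⟨Sum.inl ⟨0, by omega⟩⟩
    refine CfsgLib.KnownA.IsometryOrder.orderOf_bound (ι := Fin m ⊕ Fin m) (ringChar F) m (by omega) (hyp m F) (hyp_det m)
      (by simp; omega) (fun _ => by simp; omega) (fun h => absurd h (by simp; omega))
      ((Units.coeHom _).comp ((isometryGroup F (quadFormPlus m F)).subtype.comp (Omega F (quadFormPlus m F)).subtype))
      (fun x y h => Subtype.ext (Subtype.ext (Units.ext h))) (fun x => gram _ _ ?_ x.1) g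
    · intro u v
      rw [polar_hyp]
      simp only [quadFormPlus, Pi.add_apply, Finset.sum_add_distrib, add_mul, mul_add]
      simp only [mul_comm (v _) (u _)]
      ring
  · obtain ⟨k, rfl⟩ : ∃ k, m = k + 1 := ⟨m - 1, by omega⟩
    let K : Matrix (Fin 2) (Fin 2) F := !![2, a; a, 2 * b]
    let J : Matrix ((Fin k ⊕ Fin k) ⊕ Fin 2) ((Fin k ⊕ Fin k) ⊕ Fin 2) F := fromBlocks (hyp k F) 0 0 K
    refine CfsgLib.KnownA.IsometryOrder.orderOf_bound (ι := (Fin k ⊕ Fin k) ⊕ Fin 2) (ringChar F) (k + 1) (by omega) J ?_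
      (by simp; omega) (fun _ => by simp; omega) (fun h => absurd h (by simp; omega))
      ((Units.coeHom _).comp ((isometryGroup F (quadFormMinus k F a b)).subtype.comp (Omega F (quadFormMinus k F a b)).subtype))
      (fun x y h => Subtype.ext (Subtype.ext (Units.ext h))) (fun x => gram _ J ?_ x.1) g
    · rw [det_fromBlocks_zero₂₁]
      refine (hyp_det k).mul (isUnit_iff_ne_zero.2 ?_)
      rw [det_fin_two]
      intro h
      simp [K] at h
      by_cases h2 : (2 : F) = 0
      · haveI : CharP F 2 := CharTwo.of_one_ne_zero_of_two_eq_zero one_ne_zero h2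
        have ha : a = 0 := by
          have h0 : a * a = 0 := by linear_combination -h + 2 * b * h2
          exact mul_self_eq_zero.1 h0
        obtain ⟨s, hs⟩ := FiniteField.isSquare_of_char_two (ringChar.eq F 2) b
        exact one_ne_zero (hab s 1 (by rw [ha]; linear_combination b * h2 - hs)).2
      · have := (hab a (-2) (by linear_combination h)).2
        exact h2 (neg_eq_zero.1 this)
    · intro u v
      rw [dotProduct, Fintype.sum_sum_type]
      have e : (∑ x : Fin k ⊕ Fin k, u (.inl x) * (J *ᵥ v) (.inl x)) =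
          (fun i => u (.inl i)) ⬝ᵥ (hyp k F *ᵥ fun i => v (.inl i)) := by
        simp [J, dotProduct, mulVec, fromBlocks, Fintype.sum_sum_type]
      rw [e, polar_hyp]
      simp only [quadFormMinus, Pi.add_apply, Finset.sum_add_distrib, add_mul, mul_add]
      simp only [mul_comm (v (Sum.inl _)) (u (Sum.inl _))]
      simp [J, K, mulVec, dotProduct, fromBlocks, Fintype.sum_sum_type, Fin.sum_univ_two]
      ring

end Cfsg.Agent.S2265
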