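import Cfsg.Statements.S2268
import Cfsg.Agent.Lib.KnownA.AbelianSylow

set_option autoImplicit false
open Cfsg

namespace Cfsg.Agent.S2268

theorem result {G : Type*} [Group G] [Finite G] {p : ℕ} [Fact p.Prime]
    (P : Sylow p G) (hP : IsMulCommutative (P : Subgroup G)) (Q : Subgroup G) (hQ : Q ≤ (P : Subgroup G)) :
    Subgroup.normalizer (Q : Set G) =
      (Subgroup.normalizer (Q : Set G) ⊓ Subgroup.normalizer ((P : Subgroup G) : Set G)) ⊔ Subgroup.centralizer (Q : Set G) ∧
    ((Subgroup.centralizer (Q : Set G)).subgroupOf (Subgroup.normalizer (Q : Set G))).index ∣ ((Subgroup.centralizer ((P : Subgroup G) : Set G)).subgroupOf (Subgroup.normalizer ((P : Subgroup G) : Set G))).index := by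
  set C := Subgroup.centralizer (Q : Set G) with hC
  set NQ := Subgroup.normalizer (Q : Set G) with hNQ
  set NP := Subgroup.normalizer ((P : Subgroup G) : Set G) with hNP
  set CP := Subgroup.centralizer ((P : Subgroup G) : Set G) with hCP
  have hCN : C ≤ NQ := Subgroup.centralizer_le_normalizer _
  have heq : NQ = (NQ ⊓ NP) ⊔ C := by
    refine le_antisymm (fun g hg => ?_) (sup_le inf_le_left hCN)
    obtain ⟨c, hc, hcg⟩ := CfsgLib.KnownA.AbelianSylow.normalizer_le_sup P hP hQ hg
    have : g = c⁻¹ * (c * g) := by group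
    rw [this]
    exact mul_mem (Subgroup.mem_sup_right (inv_mem hc)) (Subgroup.mem_sup_left hcg)
  refine ⟨heq, ?_⟩
  show C.relIndex NQ ∣ CP.relIndex NP
  have hCPC : CP ≤ C := Subgroup.centralizer_le hQ
  haveI : (C.subgroupOf NQ).Normal := inferInstance
  haveI : (CP.subgroupOf NP).Normal := inferInstance
  have h1 : C.relIndex NQ = C.relIndex (NQ ⊓ NP) := by
    have htop : ((NQ ⊓ NP).subgroupOf NQ) ⊔ C.subgroupOf NQ = ⊤ := by
      rw [← Subgroup.subgroupOf_sup inf_le_left hCN, ← heq, Subgroup.subgroupOf_self]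
    have h := Subgroup.relIndex_sup_right ((NQ ⊓ NP).subgroupOf NQ) (C.subgroupOf NQ)
    rw [htop, Subgroup.relIndex_top_right, Subgroup.relIndex_subgroupOf inf_le_left] at h
    exact h
  rw [h1]
  refine (Subgroup.relIndex_dvd_of_le_left _ hCPC).trans ?_
  have h2 := Subgroup.relIndex_dvd_index_of_normal (CP.subgroupOf NP) ((NQ ⊓ NP).subgroupOf NP)
  rw [Subgroup.relIndex_subgroupOf inf_le_right] at h2
  exact h2

end Cfsg.Agent.S2268
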