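import Cfsg.Statements.S2269
import Cfsg.Agent.Lib.KnownA.AbelianSylow

set_option autoImplicit false
open Cfsg Equiv Subgroup

namespace Cfsg.Agent.S2269

abbrev An (n : ℕ) := ↥(alternatingGroup (Fin n))

/-- Transfer a property of one chosen p-subgroup to the abelian Sylow subgroup `P`. -/
theorem exists_conj_le {G : Type*} [Group G] [Finite G] {p : ℕ} [Fact p.Prime] (P : Sylow p G)
    {Q : Subgroup G} (hQ : IsPGroup p ↥Q) : ∃ g : G, Q.map (MulAut.conj g).toMonoidHom ≤ (P : Subgroup G) := by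
  obtain ⟨P₀, hP₀⟩ := hQ.exists_le_sylow
  obtain ⟨g, hg⟩ := MulAction.exists_smul_eq G P₀ P
  refine ⟨g, ?_⟩
  rw [← hg, Sylow.coe_subgroup_smul]
  rintro _ ⟨q, hq, rfl⟩
  exact Subgroup.smul_mem_pointwise_smul q _ _ (hP₀ hq)

/-- If some element inverts a subgroup of exponent not 2 of an abelian Sylow subgroup,
then `[N(P):C(P)]` is even. -/
theorem two_dvd {G : Type*} [Group G] [Finite G] {p : ℕ} [Fact p.Prime] (P : Sylow p G)
    (hP : IsMulCommutative (P : Subgroup G)) {Q : Subgroup G} (hQ : Q ≤ (P : Subgroup G))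
    (x : G) (hx : ∀ q ∈ Q, x * q * x⁻¹ = q⁻¹) (hne : ∃ q ∈ Q, q⁻¹ ≠ q) :
    2 ∣ ((centralizer ((P : Subgroup G) : Set G)).subgroupOf (normalizer ((P : Subgroup G) : Set G))).index := by
  have hxN : x ∈ normalizer (Q : Set G) := by
    rw [mem_normalizer_iff]
    intro q
    constructor
    · intro hq; rw [hx q hq]; exact inv_mem hq
    · intro hq
      have h := hx _ hq
      have : q = (x * q * x⁻¹)⁻¹ := by
        have h' : x * (x * q * x⁻¹) * x⁻¹ = (x * q * x⁻¹)⁻¹ := h
        calc q = x⁻¹ * (x * q * x⁻¹) * x := by group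
          _ = (x * q * x⁻¹)⁻¹ := by
            have hh := congrArg (fun y => x⁻¹ * y * x) h'
            simp only [mul_assoc, inv_mul_cancel_left, inv_mul_cancel, mul_one] at hh
            have e := congrArg Inv.inv hh
            simp only [mul_inv_rev, inv_inv, mul_assoc] at e ⊢
            exact e.symm
      rw [this]; exact inv_mem hq
  obtain ⟨c, hc, hcx⟩ := CfsgLib.KnownA.AbelianSylow.normalizer_le_sup P hP hQ hxN
  set N := normalizer ((P : Subgroup G) : Set G) with hN
  set C := (centralizer ((P : Subgroup G) : Set G)).subgroupOf N with hC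
  haveI : C.Normal := inferInstance
  let y : ↥N ⧸ C := QuotientGroup.mk ⟨c * x, hcx.2⟩
  have hy : ∀ q ∈ Q, (c * x) * q * (c * x)⁻¹ = q⁻¹ := by
    intro q hq
    calc (c * x) * q * (c * x)⁻¹ = c * (x * q * x⁻¹) * c⁻¹ := by group
      _ = c * q⁻¹ * c⁻¹ := by rw [hx q hq]
      _ = q⁻¹ := by rw [← Subgroup.mem_centralizer_iff.1 hc _ (inv_mem hq)]; group
  have heven : Even (orderOf y) := by
    rw [← Nat.not_odd_iff_even]
    rintro ⟨j, hj⟩
    obtain ⟨q, hq, hqne⟩ := hne
    have h1 : (c * x) ^ (2 * j + 1) ∈ centralizer ((P : Subgroup G) : Set G) := by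
      have := pow_orderOf_eq_one y
      rw [hj] at this
      exact Subgroup.mem_subgroupOf.1 ((QuotientGroup.eq_one_iff _).1 this)
    have hstep : ∀ u v : G, u * v * q * (u * v)⁻¹ = u * (v * q * v⁻¹) * u⁻¹ := fun u v => by group
    have h2 : ∀ i, (c * x) ^ (2 * i) * q * ((c * x) ^ (2 * i))⁻¹ = q := by
      intro i
      induction i with
      | zero => simp
      | succ i ih =>
        rw [show 2 * (i + 1) = 2 * i + 1 + 1 by ring, pow_succ, pow_succ, mul_assoc ((c * x) ^ (2 * i)),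
          hstep, hstep, hy q hq, hy _ (inv_mem hq), inv_inv, ih]
    have h3 := Subgroup.mem_centralizer_iff.1 h1 q (hQ hq)
    apply hqne
    calc q⁻¹ = (c * x) * ((c * x) ^ (2 * j) * q * ((c * x) ^ (2 * j))⁻¹) * (c * x)⁻¹ := by rw [h2 j, hy q hq]
      _ = (c * x) ^ (2 * j + 1) * q * ((c * x) ^ (2 * j + 1))⁻¹ := by
          rw [pow_succ', hstep]
      _ = q := by rw [← h3, mul_inv_cancel_right]
  exact (even_iff_two_dvd.1 heven).trans (orderOf_dvd_natCard y)

/-- Two commuting copies of the permutations of `Fin p`. -/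
theorem odd_case {n p : ℕ} [Fact p.Prime] (hp : p ≠ 2) (h2p : 2 * p ≤ n) (P : Sylow p (An n))
    (hP : IsMulCommutative (P : Subgroup (An n))) :
    2 ∣ ((centralizer ((P : Subgroup (An n)) : Set (An n))).subgroupOf (normalizer ((P : Subgroup (An n)) : Set (An n)))).index := by
  classical
  have hpp : p.Prime := Fact.out
  have hp3 : 3 ≤ p := by have := hpp.two_le; omega
  obtain ⟨r, rfl⟩ := Nat.exists_eq_add_of_le h2p
  let e : (Fin p ⊕ Fin p) ⊕ Fin r ≃ Fin (2 * p + r) :=
    ((finSumFinEquiv.trans (finCongr (by omega : p + p = 2 * p))).sumCongr (Equiv.refl _)).trans finSumFinEquiv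
  let Φ : Perm (Fin p) × Perm (Fin p) →* Perm (Fin (2 * p + r)) :=
    e.permCongrHom.toMonoidHom.comp ((Perm.sumCongrHom _ _).comp
      ((MonoidHom.inl _ _).comp (Perm.sumCongrHom (Fin p) (Fin p))))
  have hsign : ∀ a b, Perm.sign (Φ (a, b)) = Perm.sign a * Perm.sign b := fun a b => by
    simp [Φ, Perm.sumCongrHom, Equiv.permCongrHom, Perm.sign_permCongr, Perm.sign_sumCongr]
  have hΦ : Function.Injective Φ := fun a b h => by
    refine Perm.sumCongrHom_injective ?_
    have h1 := Perm.sumCongrHom_injective (e.permCongrHom.injective h)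
    exact (congrArg Prod.fst h1 :)
  let σ : Perm (Fin p) := finRotate p
  have hσo : orderOf σ = p := by
    obtain ⟨k, hk⟩ := Nat.exists_eq_add_of_le (show 2 ≤ p by omega)
    subst hk
    rw [Perm.IsCycle.orderOf (isCycle_finRotate_of_le (by omega)), support_finRotate_of_le (by omega)]
    simp
  have hσp : σ ^ p = 1 := orderOf_dvd_iff_pow_eq_one.1 (dvd_of_eq hσo)
  let τ : Perm (Fin p) := Fin.revPerm
  have hinv : τ * σ * τ⁻¹ = σ⁻¹ := by
    rw [eq_inv_iff_mul_eq_one]
    ext i
    obtain ⟨k, rfl⟩ : ∃ k, p = k + 1 := ⟨p - 1, by omega⟩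
    simp only [τ, σ, Perm.mul_apply, Perm.inv_def, Fin.revPerm_symm, Fin.revPerm_apply, finRotate_succ_apply,
      Perm.one_apply, Fin.val_rev, Fin.val_add_one]
    have hi := i.2
    simp only [Fin.ext_iff, Fin.val_rev, Fin.val_add_one, Fin.val_last]
    split_ifs <;> simp_all <;> omega
  have hinvz : ∀ a ∈ zpowers σ, τ * a * τ⁻¹ = a⁻¹ := by
    rintro a ⟨k, rfl⟩
    rw [← inv_zpow, ← hinv, conj_zpow]
  let W : Subgroup (Perm (Fin (2 * p + r))) := ((zpowers σ).prod (zpowers σ)).map Φ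
  let Q : Subgroup (An (2 * p + r)) := W.subgroupOf (alternatingGroup _)
  have hexp : ∀ a ∈ zpowers σ, a ^ p = 1 := by
    rintro a ⟨k, rfl⟩
    show (σ ^ k) ^ p = 1
    rw [← zpow_natCast, ← zpow_mul, mul_comm, zpow_mul, zpow_natCast, hσp, one_zpow]
  have hQp : IsPGroup p ↥Q := fun q => ⟨1, by
    obtain ⟨⟨a, b⟩, ⟨ha, hb⟩, hab⟩ := mem_subgroupOf.1 q.2
    refine Subtype.ext (Subtype.ext ?_)
    show (q : An (2 * p + r)).1 ^ (p ^ 1) = 1
    rw [pow_one, ← hab, ← map_pow, Prod.pow_mk, hexp a ha, hexp b hb, Prod.mk_one_one, map_one]⟩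
  have hsσ : Perm.sign σ = 1 := by
    have h : Perm.sign σ ^ p = 1 := by rw [← map_pow, hσp, map_one]
    rcases Int.units_eq_one_or (Perm.sign σ) with h1 | h1
    · exact h1
    · rw [h1, (hpp.odd_of_ne_two hp).neg_one_pow] at h; exact absurd h (by decide)
  let c : An (2 * p + r) := ⟨Φ (σ, 1), by rw [Perm.mem_alternatingGroup, hsign, hsσ, map_one, one_mul]⟩
  have hcQ : c ∈ Q := mem_subgroupOf.2 ⟨(σ, 1), ⟨mem_zpowers σ, one_mem _⟩, rfl⟩
  let x : An (2 * p + r) := ⟨Φ (τ, τ), by rw [Perm.mem_alternatingGroup, hsign, ← sq, Int.units_sq]⟩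
  obtain ⟨g, hg⟩ := exists_conj_le P hQp
  refine two_dvd P hP hg (g * x * g⁻¹) ?_ ⟨g * c * g⁻¹, ⟨c, hcQ, rfl⟩, ?_⟩
  · rintro _ ⟨q, hq, rfl⟩
    obtain ⟨⟨a, b⟩, ⟨ha, hb⟩, hab⟩ := mem_subgroupOf.1 hq
    have h : x * q * x⁻¹ = q⁻¹ := by
      refine Subtype.ext ?_
      show Φ (τ, τ) * q.1 * (Φ (τ, τ))⁻¹ = q.1⁻¹
      rw [← hab, ← map_inv, ← map_mul, ← map_mul, ← map_inv]
      exact congrArg Φ (Prod.ext (hinvz a ha) (hinvz b hb))
    show g * x * g⁻¹ * (g * q * g⁻¹) * (g * x * g⁻¹)⁻¹ = (g * q * g⁻¹)⁻¹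
    rw [show g * x * g⁻¹ * (g * q * g⁻¹) * (g * x * g⁻¹)⁻¹ = g * (x * q * x⁻¹) * g⁻¹ by group, h]
    group
  · intro h
    have h' : c⁻¹ = c := by
      have := congrArg (fun y => g⁻¹ * y * g) h
      simpa [mul_assoc] using this
    have h'' : (Φ (σ, 1))⁻¹ = Φ (σ, 1) := congrArg Subtype.val h'
    rw [← map_inv] at h''
    have hσ2 : σ⁻¹ = σ := congrArg Prod.fst (hΦ h'')
    have hd : orderOf σ ∣ 2 := orderOf_dvd_of_pow_eq_one (by
      rw [pow_two]; exact mul_eq_one_iff_eq_inv.2 hσ2.symm)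
    rw [hσo] at hd
    have := Nat.le_of_dvd (by norm_num) hd
    omega

/-- A dihedral 2-subgroup of order 8 shows that a Sylow 2-subgroup is not commutative for `n ≥ 6`. -/
theorem not_comm {n : ℕ} (hn : 6 ≤ n) (P : Sylow 2 (An n)) : ¬ IsMulCommutative (P : Subgroup (An n)) := by
  classical
  obtain ⟨r, rfl⟩ := Nat.exists_eq_add_of_le hn
  let s : Perm (Fin 4) →* Perm (Fin 2) :=
    { toFun := fun σ => if Perm.sign σ = 1 then 1 else swap 0 1
      map_one' := by simp
      map_mul' := fun a b => by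
        rw [map_mul]
        rcases Int.units_eq_one_or (Perm.sign a) with ha | ha <;>
          rcases Int.units_eq_one_or (Perm.sign b) with hb | hb <;> simp [ha, hb] }
  let e : (Fin 4 ⊕ Fin 2) ⊕ Fin r ≃ Fin (6 + r) :=
    ((finSumFinEquiv (m := 4) (n := 2)).sumCongr (Equiv.refl _)).trans finSumFinEquiv
  let Φ : Perm (Fin 4) →* Perm (Fin (6 + r)) :=
    e.permCongrHom.toMonoidHom.comp ((Perm.sumCongrHom _ _).comp
      ((MonoidHom.inl _ _).comp ((Perm.sumCongrHom (Fin 4) (Fin 2)).comp ((MonoidHom.id _).prod s))))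
  have hΦ : Function.Injective Φ := fun a b h => by
    have h1 := congrArg Prod.fst (Perm.sumCongrHom_injective (e.permCongrHom.injective h))
    exact congrArg Prod.fst (Perm.sumCongrHom_injective h1)
  have hsign : ∀ a, Φ a ∈ alternatingGroup (Fin (6 + r)) := fun a => by
    rw [Perm.mem_alternatingGroup]
    simp only [Φ, s, MonoidHom.comp_apply, MonoidHom.inl_apply, MonoidHom.prod_apply, MonoidHom.id_apply,
      MonoidHom.coe_mk, OneHom.coe_mk, MulEquiv.coe_toMonoidHom, Perm.sumCongrHom,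
      Equiv.permCongrHom, MulEquiv.coe_mk, Perm.sign_permCongr, Perm.sign_sumCongr, map_one, mul_one]
    rcases Int.units_eq_one_or (Perm.sign a) with ha | ha <;> simp [ha]
  let Ψ : Perm (Fin 4) →* An (6 + r) := Φ.codRestrict _ hsign
  have hC : IsPGroup 2 ↥(centralizer ({swap 0 2 * swap 1 3} : Set (Perm (Fin 4)))) := by
    intro y
    refine ⟨2, ?_⟩
    have key : ∀ y : Perm (Fin 4), y * (swap 0 2 * swap 1 3) = (swap 0 2 * swap 1 3) * y → y ^ 4 = 1 := by decide +kernel
    exact Subtype.ext (key _ (mem_centralizer_singleton_iff.1 y.2))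
  obtain ⟨g, hg⟩ := exists_conj_le P (hC.map Ψ)
  intro hcomm
  have ha : swap (0 : Fin 4) 2 ∈ centralizer ({swap 0 2 * swap 1 3} : Set (Perm (Fin 4))) :=
    mem_centralizer_singleton_iff.2 (by decide)
  have hb : swap (0 : Fin 4) 1 * swap 2 3 ∈ centralizer ({swap 0 2 * swap 1 3} : Set (Perm (Fin 4))) :=
    mem_centralizer_singleton_iff.2 (by decide)
  have h := congrArg Subtype.val (hcomm.is_comm.comm ⟨_, hg ⟨_, ⟨_, ha, rfl⟩, rfl⟩⟩ ⟨_, hg ⟨_, ⟨_, hb, rfl⟩, rfl⟩⟩)
  simp only [Subgroup.coe_mul, ← map_mul] at h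
  have h2 : Φ (swap 0 2 * (swap 0 1 * swap 2 3)) = Φ ((swap 0 1 * swap 2 3) * swap 0 2) :=
    congrArg Subtype.val ((MulAut.conj g).injective h)
  exact absurd (hΦ h2) (by decide)

/-- The Klein subgroup of `A₅` fixing the point 4. -/
def V : Subgroup (An 5) where
  carrier := {x | x.1 4 = 4 ∧ x ^ 2 = 1}
  one_mem' := by decide
  mul_mem' {a b} ha hb := (show ∀ a b : An 5, (a.1 4 = 4 ∧ a ^ 2 = 1) → (b.1 4 = 4 ∧ b ^ 2 = 1) →
    ((a * b).1 4 = 4 ∧ (a * b) ^ 2 = 1) by decide +kernel) a b ha hb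
  inv_mem' {a} ha := (show ∀ a : An 5, (a.1 4 = 4 ∧ a ^ 2 = 1) → (a⁻¹.1 4 = 4 ∧ a⁻¹ ^ 2 = 1) by decide +kernel) a ha

theorem five (P : Sylow 2 (An 5)) :
    ((centralizer ((P : Subgroup (An 5)) : Set (An 5))).subgroupOf (normalizer ((P : Subgroup (An 5)) : Set (An 5)))).index = 3
      ∧ IsKleinFour (P : Subgroup (An 5)) := by
  classical
  have hVc : Nat.card V = 4 :=
    (Nat.card_congr (Equiv.subtypeEquivRight (q := fun x : An 5 => x.1 4 = 4 ∧ x ^ 2 = 1) fun _ => Iff.rfl)).trans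
      (Nat.card_eq_fintype_card.trans (by decide +kernel))
  have hcardP : Nat.card (P : Subgroup (An 5)) = 4 := by
    rw [P.card_eq_multiplicity, nat_card_alternatingGroup, Nat.card_eq_fintype_card, Fintype.card_fin]
    have h60 : (Nat.factorial 5) / 2 = 60 := by decide
    rw [h60, Nat.factorization_def _ Nat.prime_two]
    have h15 : padicValNat 2 60 = 2 := by
      rw [show (60 : ℕ) = 2 ^ 2 * 15 by norm_num, padicValNat.mul (by norm_num) (by norm_num),
        padicValNat.prime_pow, padicValNat.eq_zero_of_not_dvd (by norm_num)]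
    rw [h15]; rfl
  obtain ⟨g, hg⟩ := exists_conj_le P (IsPGroup.of_card (n := 2) (hVc.trans (by norm_num)))
  have hPeq : (P : Subgroup (An 5)) = V.map (MulAut.conj g).toMonoidHom := by
    symm
    refine Subgroup.eq_of_le_of_card_ge hg ?_
    rw [Subgroup.card_map_of_injective (MulAut.conj g).injective, hVc, hcardP]
  refine ⟨?_, { card_four := hcardP, exponent_two := ?_ }⟩
  · set f := (MulAut.conj g).toMonoidHom
    have hf : Function.Bijective f := (MulAut.conj g).bijective
    have hN : normalizer ((P : Subgroup (An 5)) : Set (An 5)) = (normalizer (V : Set (An 5))).map f := by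
      rw [hPeq, Subgroup.map_normalizer_eq_of_bijective V hf]
    have hC : centralizer ((P : Subgroup (An 5)) : Set (An 5)) = (centralizer (V : Set (An 5))).map f := by
      rw [hPeq]
      ext y
      constructor
      · intro hy
        obtain ⟨z, rfl⟩ := hf.2 y
        refine ⟨z, fun v hv => hf.1 ?_, rfl⟩
        rw [map_mul, map_mul]
        exact hy _ ⟨v, hv, rfl⟩
      · rintro ⟨z, hz, rfl⟩ _ ⟨v, hv, rfl⟩
        rw [← map_mul, ← map_mul, hz v hv]
    show relIndex _ _ = 3
    rw [hC, hN, Subgroup.relIndex_map_map_of_injective _ _ hf.1]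
    have hc1 : Nat.card (centralizer (V : Set (An 5))) = 4 :=
      (Nat.card_congr (Equiv.subtypeEquivRight (q := fun x : An 5 => ∀ v : An 5, (v.1 4 = 4 ∧ v ^ 2 = 1) → v * x = x * v)
        (fun x => Iff.rfl))).trans (Nat.card_eq_fintype_card.trans (by decide +kernel))
    have hn1 : Nat.card (normalizer (V : Set (An 5))) = 12 :=
      (Nat.card_congr (Equiv.subtypeEquivRight (q := fun x : An 5 => ∀ v : An 5, (v.1 4 = 4 ∧ v ^ 2 = 1) ↔ ((x * v * x⁻¹).1 4 = 4 ∧ (x * v * x⁻¹) ^ 2 = 1))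
        (fun x => mem_normalizer_iff))).trans (Nat.card_eq_fintype_card.trans (by decide +kernel))
    have hmul : (⊥ : Subgroup (An 5)).relIndex (centralizer (V : Set (An 5))) *
        (centralizer (V : Set (An 5))).relIndex (normalizer (V : Set (An 5))) =
        (⊥ : Subgroup (An 5)).relIndex (normalizer (V : Set (An 5))) :=
      Subgroup.relIndex_mul_relIndex _ _ _ bot_le (centralizer_le_normalizer _)
    rw [relIndex_bot_left, relIndex_bot_left, hc1, hn1] at hmul
    omega
  · have hnt : Nontrivial ↥(P : Subgroup (An 5)) := Finite.one_lt_card_iff_nontrivial.1 (by rw [hcardP]; norm_num)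
    refine (Monoid.exponent_eq_prime_iff Nat.prime_two).2 fun y hy => orderOf_eq_prime ?_ hy
    obtain ⟨v, hv, hvy⟩ := hPeq.le y.2
    refine Subtype.ext ?_
    rw [Subgroup.coe_pow, ← hvy, ← map_pow, hv.2, map_one]
    rfl

theorem result (n : ℕ) (hn : 5 ≤ n) {p : ℕ} [Fact p.Prime]
    (P : Sylow p (alternatingGroup (Fin n))) (hP : IsMulCommutative (P : Subgroup (alternatingGroup (Fin n)))) :
    (¬ (n = 5 ∧ p = 2) → 2 ∣ ((Subgroup.centralizer ((P : Subgroup (alternatingGroup (Fin n))) : Set (alternatingGroup (Fin n)))).subgroupOf (Subgroup.normalizer ((P : Subgroup (alternatingGroup (Fin n))) : Set (alternatingGroup (Fin n))))).index ∨ IsCyclic (P : Subgroup (alternatingGroup (Fin n)))) ∧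
    ((n = 5 ∧ p = 2) → ((Subgroup.centralizer ((P : Subgroup (alternatingGroup (Fin n))) : Set (alternatingGroup (Fin n)))).subgroupOf (Subgroup.normalizer ((P : Subgroup (alternatingGroup (Fin n))) : Set (alternatingGroup (Fin n))))).index = 3 ∧ IsKleinFour (P : Subgroup (alternatingGroup (Fin n)))) := by
  refine ⟨fun hne => ?_, ?_⟩
  · by_cases hp : p = 2
    · subst hp
      exact absurd hP (not_comm (by omega) P)
    · by_cases h2p : 2 * p ≤ n
      · exact Or.inl (odd_case hp h2p P hP)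
      · refine Or.inr ?_
        have hpp : p.Prime := Fact.out
        haveI : Nontrivial (Fin n) := ⟨⟨0, by omega⟩, ⟨1, by omega⟩, by simp [Fin.ext_iff]⟩
        have h1 : Nat.card (P : Subgroup (An n)) ∣ p := by
          obtain ⟨k, hk⟩ := IsPGroup.iff_card.1 P.2
          rw [hk]
          have hdvd : p ^ k ∣ Nat.factorial n := by
            rw [← hk]
            refine (Subgroup.card_subgroup_dvd_card _).trans ?_
            rw [nat_card_alternatingGroup, Nat.card_eq_fintype_card, Fintype.card_fin]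
            exact Nat.div_dvd_of_dvd (Nat.dvd_factorial (by norm_num) (by omega))
          have hk' : k ≤ padicValNat p (Nat.factorial n) :=
            (padicValNat_dvd_iff_le (Nat.factorial_ne_zero n)).1 hdvd
          have hlog : Nat.log p n < 2 := Nat.log_lt_of_lt_pow (by omega) (by
            have : 3 ≤ p := by have := hpp.two_le; omega
            nlinarith)
          rw [padicValNat_factorial hlog] at hk'
          have : n / p < 2 := Nat.div_lt_of_lt_mul (by omega)
          simp at hk'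
          exact (pow_dvd_pow p (by omega : k ≤ 1)).trans (by rw [pow_one])
        exact isCyclic_of_card_dvd_prime h1
  · rintro ⟨rfl, rfl⟩
    exact five P

end Cfsg.Agent.S2269
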