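import Cfsg.Statements.S2270
-- import your own Cfsg.Agent.* helpers here

set_option autoImplicit false
open Cfsg

namespace Cfsg.Agent.S2270

/-- Let n ≥ 3, p an odd prime, and P an abelian Sylow p-subgroup of the symmetric group S_n (with p dividing n!, so that P ≠ 1). Then N(P)/C(P) has even order. -/
theorem result (n : ℕ) (hn : 3 ≤ n) {p : ℕ} [Fact p.Prime] (hp : p ≠ 2) (hpn : p ≤ n)
    (P : Sylow p (Equiv.Perm (Fin n))) (hP : IsMulCommutative (P : Subgroup (Equiv.Perm (Fin n)))) :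
    2 ∣ ((Subgroup.centralizer ((P : Subgroup (Equiv.Perm (Fin n))) : Set (Equiv.Perm (Fin n)))).subgroupOf (Subgroup.normalizer ((P : Subgroup (Equiv.Perm (Fin n))) : Set (Equiv.Perm (Fin n))))).index := by
  classical
  set C := (Subgroup.centralizer ((P : Subgroup (Equiv.Perm (Fin n))) : Set (Equiv.Perm (Fin n)))).subgroupOf (Subgroup.normalizer ((P : Subgroup (Equiv.Perm (Fin n))) : Set (Equiv.Perm (Fin n)))) with hCdef
  have hCn : C.Normal := by
    rw [hCdef, ← Subgroup.normalizerMonoidHom_ker]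
    exact MonoidHom.normal_ker _
  have hPne : (P : Subgroup (Equiv.Perm (Fin n))) ≠ ⊥ := by
    refine P.ne_bot_of_dvd_card ?_
    rw [Nat.card_perm, Nat.card_eq_fintype_card, Fintype.card_fin]
    exact Nat.dvd_factorial (Fact.out : p.Prime).pos hpn
  obtain ⟨x, hx, hx1⟩ : ∃ x ∈ (P : Subgroup (Equiv.Perm (Fin n))), x ≠ 1 := by
    by_contra hcon
    push Not at hcon
    exact hPne ((Subgroup.eq_bot_iff_forall _).2 hcon)
  obtain ⟨g, hg⟩ := isConj_iff.1 (Equiv.Perm.isConj_iff_cycleType_eq.2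
    (Equiv.Perm.cycleType_inv x).symm : IsConj x x⁻¹)
  have hcent : ∀ y ∈ (P : Subgroup (Equiv.Perm (Fin n))),
      y ∈ Subgroup.centralizer ((P : Subgroup (Equiv.Perm (Fin n))) : Set (Equiv.Perm (Fin n))) :=
    fun y hy => Subgroup.le_centralizer_iff_isMulCommutative.2 hP hy
  obtain ⟨h, hh, hxh⟩ := Sylow.conj_eq_normalizer_conj_of_mem_centralizer P x g⁻¹
    (hcent x hx) (by rw [inv_inv, hg]; exact hcent _ (inv_mem hx))
  rw [inv_inv, hg] at hxh
  by_contra hcon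
  obtain ⟨t, ht⟩ := Nat.not_even_iff_odd.1 (fun h2 => hcon h2.two_dvd)
  have hmem := C.pow_index_mem (⟨h, hh⟩ : Subgroup.normalizer
    ((P : Subgroup (Equiv.Perm (Fin n))) : Set (Equiv.Perm (Fin n))))
  rw [ht] at hmem
  have h2 : ∀ k : ℕ, (h ^ (2 * k))⁻¹ * x * h ^ (2 * k) = x := by
    intro k
    induction k with
    | zero => simp
    | succ k ih =>
      have e1 : h⁻¹ * x⁻¹ * h = x := by
        rw [show h⁻¹ * x⁻¹ * h = (h⁻¹ * x * h)⁻¹ by group, ← hxh, inv_inv]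
      calc (h ^ (2 * (k + 1)))⁻¹ * x * h ^ (2 * (k + 1))
          = h⁻¹ * (h⁻¹ * ((h ^ (2 * k))⁻¹ * x * h ^ (2 * k)) * h) * h := by
            rw [show 2 * (k + 1) = 2 * k + 1 + 1 by ring, pow_succ, pow_succ]; group
        _ = x := by rw [ih, ← hxh, e1]
  have h3 : (h ^ (2 * t + 1))⁻¹ * x * h ^ (2 * t + 1) = x⁻¹ := by
    calc (h ^ (2 * t + 1))⁻¹ * x * h ^ (2 * t + 1)
        = h⁻¹ * ((h ^ (2 * t))⁻¹ * x * h ^ (2 * t)) * h := by rw [pow_succ]; group
      _ = x⁻¹ := by rw [h2, ← hxh]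
  have h4 : (h ^ (2 * t + 1))⁻¹ * x * h ^ (2 * t + 1) = x := by
    have h5 : h ^ (2 * t + 1) ∈ Subgroup.centralizer
        ((P : Subgroup (Equiv.Perm (Fin n))) : Set (Equiv.Perm (Fin n))) := by
      simpa [hCdef, Subgroup.mem_subgroupOf] using hmem
    rw [mul_assoc, (Subgroup.mem_centralizer_iff.1 h5 x hx), inv_mul_cancel_left]
  have hxx : x ^ 2 = 1 := by
    rw [pow_two]
    exact mul_eq_one_iff_eq_inv.2 (h4.symm.trans h3)
  obtain ⟨j, hj⟩ := P.2 ⟨x, hx⟩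
  have hj' : x ^ p ^ j = 1 := congrArg Subtype.val hj
  exact hx1 (orderOf_eq_one_iff.1 (Nat.eq_one_of_dvd_coprimes
    (Nat.Coprime.pow_left j ((Nat.coprime_primes (Fact.out : p.Prime) Nat.prime_two).2 hp))
    (orderOf_dvd_of_pow_eq_one hj') (orderOf_dvd_of_pow_eq_one hxx)))

end Cfsg.Agent.S2270
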