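import Cfsg.Statements.S2271
-- import your own Cfsg.Agent.* helpers here

set_option autoImplicit false
open Cfsg Equiv

namespace Cfsg.Agent.S2271

variable {n : ℕ}

/-- The number of points on which `σ b σ⁻¹` agrees with `c`. -/
noncomputable def agree (c b σ : Perm (Fin n)) : ℕ :=
  Nat.card {x : Fin n // σ (b (σ⁻¹ x)) = c x}

theorem card_fixed_eq (a b σ : Perm (Fin n)) :
    Nat.card (Function.fixedPoints ⇑(a * (σ * b * σ⁻¹))) = agree a⁻¹ b σ := by
  refine Nat.card_congr (Equiv.subtypeEquivRight fun x => ?_)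
  show (a * (σ * b * σ⁻¹)) x = x ↔ _
  simp only [Perm.mul_apply]
  exact ⟨fun h => (Perm.inv_eq_iff_eq.2 h.symm).symm, fun h => (congrArg a h).trans (by simp)⟩

theorem exists_perm {k : ℕ} (p q : Fin k → Fin n) (hp : Function.Injective p)
    (hq : Function.Injective q) : ∃ σ : Perm (Fin n), ∀ i, σ (p i) = q i := by
  obtain ⟨σ, hσ⟩ := (Equiv.Perm.isMultiplyPretransitive (Fin n) k).exists_smul_eq ⟨p, hp⟩ ⟨q, hq⟩
  exact ⟨σ, fun i => DFunLike.congr_fun hσ i⟩

theorem exists_even {k : ℕ} (hk : k + 2 ≤ n) (p q : Fin k → Fin n) (hp : Function.Injective p)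
    (hq : Function.Injective q) : ∃ σ ∈ alternatingGroup (Fin n), ∀ i, σ (p i) = q i := by
  classical
  obtain ⟨σ, hσ⟩ := exists_perm p q hp hq
  by_cases he : σ ∈ alternatingGroup (Fin n)
  · exact ⟨σ, he, hσ⟩
  have hcard : 2 ≤ (Finset.univ.image q)ᶜ.card := by
    rw [Finset.card_compl, Finset.card_image_of_injective _ hq, Finset.card_univ, Fintype.card_fin,
      Fintype.card_fin]
    omega
  obtain ⟨u, hu, v, hv, huv⟩ := Finset.one_lt_card.1 hcard
  refine ⟨swap u v * σ, ?_, fun i => ?_⟩
  · rw [Perm.mem_alternatingGroup] at he ⊢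
    rcases Int.units_eq_one_or (Perm.sign σ) with h | h
    · exact absurd h he
    · rw [map_mul, h, Perm.sign_swap huv]; decide
  · simp only [Finset.mem_compl, Finset.mem_image, Finset.mem_univ, true_and, not_exists] at hu hv
    rw [Perm.mul_apply, hσ, swap_apply_of_ne_of_ne (hu i) (hv i)]

theorem conj_swap_eq {c : Perm (Fin n)} {x : Fin n} (h : c (c x) = x) :
    swap x (c x) * c * swap x (c x) = c := by
  have h3 := Equiv.mul_swap_eq_swap_mul c x (c x)
  rw [h, swap_comm (c x) x] at h3
  rw [← h3, mul_assoc, swap_mul_self, mul_one]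

/-- Agreements forced by a prescribed partial map. -/
theorem card_le_agree {ι : Type*} [Fintype ι] (c b σ : Perm (Fin n)) (x : ι → Fin n)
    (hx : Function.Injective x) (h : ∀ i, σ (b (σ⁻¹ (x i))) = c (x i)) :
    Fintype.card ι ≤ agree c b σ := by
  rw [← Nat.card_eq_fintype_card]
  exact Nat.card_le_card_of_injective (fun i => ⟨x i, h i⟩)
    fun i j hij => hx (congrArg Subtype.val hij)

theorem avg_const (hn : 2 ≤ n) (c b : Perm (Fin n)) (C : ℕ)
    (h4 : 4 ≤ n)
    (hC : ∀ σ ∈ alternatingGroup (Fin n), agree c b σ = C) :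
    n * (n - 1) * C = Nat.card {x // c x = x} * Nat.card {x // b x = x} * (n - 1) +
      (n - Nat.card {x // c x = x}) * (n - Nat.card {x // b x = x}) := by
  classical
  set A : Finset (Perm (Fin n)) := Finset.univ.filter fun σ => σ ∈ alternatingGroup (Fin n) with hA
  have hApos : 0 < A.card := Finset.card_pos.2 ⟨1, Finset.mem_filter.2 ⟨Finset.mem_univ _, one_mem _⟩⟩
  set N : Fin n → Fin n → Fin n → Fin n → ℕ := fun x y p q =>
    (A.filter fun σ => σ p = x ∧ σ q = y).card with hN
  -- translating the source points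
  have htr : ∀ x y p q p' q' : Fin n, (p = q ↔ p' = q') → N x y p q = N x y p' q' := by
    intro x y p q p' q' hpq
    obtain ⟨τ, hτ, hτp, hτq⟩ : ∃ τ ∈ alternatingGroup (Fin n), τ p' = p ∧ τ q' = q := by
      by_cases h : p = q
      · obtain ⟨τ, hτ, h0⟩ := exists_even (k := 1) (by omega) (fun _ => p') (fun _ => p)
          (fun i j _ => Subsingleton.elim i j) (fun i j _ => Subsingleton.elim i j)
        exact ⟨τ, hτ, h0 0, by rw [← hpq.1 h, h0 0, h]⟩
      · have hpq' : p' ≠ q' := fun e => h (hpq.2 e)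
        obtain ⟨τ, hτ, h0⟩ := exists_even (k := 2) (by omega) ![p', q'] ![p, q]
          (fun i j => by fin_cases i <;> fin_cases j <;> simp [hpq', Ne.symm hpq'])
          (fun i j => by fin_cases i <;> fin_cases j <;> simp [h, Ne.symm h])
        exact ⟨τ, hτ, h0 0, h0 1⟩
    refine Finset.card_bij (fun σ _ => σ * τ) ?_ ?_ ?_
    · intro σ hσ
      simp only [hA, Finset.mem_filter, Finset.mem_univ, true_and] at hσ ⊢
      exact ⟨mul_mem hσ.1 hτ, by rw [Perm.mul_apply, hτp, hσ.2.1], by rw [Perm.mul_apply, hτq, hσ.2.2]⟩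
    · intro σ₁ _ σ₂ _ h; exact mul_right_cancel h
    · intro σ hσ
      simp only [hA, Finset.mem_filter, Finset.mem_univ, true_and] at hσ
      refine ⟨σ * τ⁻¹, ?_, by group⟩
      simp only [hA, Finset.mem_filter, Finset.mem_univ, true_and]
      refine ⟨mul_mem hσ.1 (inv_mem hτ), ?_, ?_⟩
      · rw [Perm.mul_apply, Perm.inv_eq_iff_eq.2 hτp.symm, hσ.2.1]
      · rw [Perm.mul_apply, Perm.inv_eq_iff_eq.2 hτq.symm, hσ.2.2]
  set fb := (Finset.univ.filter fun x => b x = x).card with hfb
  set fc := (Finset.univ.filter fun x => c x = x).card with hfc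
  -- the count at a point
  have hpt : ∀ x : Fin n,
      n * (n - 1) * (A.filter fun σ => σ (b (σ⁻¹ x)) = c x).card =
        A.card * (if c x = x then (n - 1) * fb else n - fb) := by
    intro x
    have hsplit : ∀ (P : Perm (Fin n) → Prop) [DecidablePred P], (A.filter P).card =
        ∑ p : Fin n, ((A.filter P).filter fun σ => σ p = x).card := by
      intro P _
      rw [← Finset.card_biUnion]
      · congr 1
        ext σ
        simp only [Finset.mem_biUnion, Finset.mem_univ, true_and, Finset.mem_filter]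
        exact ⟨fun h => ⟨σ⁻¹ x, h, by simp⟩, fun ⟨_, h, _⟩ => h⟩
      · intro i _ j _ hij
        rw [Function.onFun, Finset.disjoint_left]
        intro σ h1 h2
        simp only [Finset.mem_filter] at h1 h2
        exact hij (σ.injective (h1.2.trans h2.2.symm))
    have hmain : (A.filter fun σ => σ (b (σ⁻¹ x)) = c x).card =
        ∑ p : Fin n, N x (c x) p (b p) := by
      rw [hsplit]
      refine Finset.sum_congr rfl fun p _ => congrArg Finset.card ?_
      ext σ
      simp only [Finset.mem_filter]
      constructor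
      · rintro ⟨⟨h1, h2⟩, h3⟩
        rw [← h3, Perm.inv_def, Equiv.symm_apply_apply] at h2
        exact ⟨h1, h3, h2.trans (by rw [h3])⟩
      · rintro ⟨h1, h3, h2⟩
        refine ⟨⟨h1, ?_⟩, h3⟩
        rw [← h3, Perm.inv_def, Equiv.symm_apply_apply, h2, h3]
    have hall : A.card = ∑ p : Fin n, (A.filter fun σ => σ p = x).card := by
      have := hsplit (fun _ => True)
      simp only [Finset.filter_true] at this
      exact this
    by_cases hx : c x = x
    · rw [if_pos hx]
      have hzero : ∀ p, b p ≠ p → N x (c x) p (b p) = 0 := fun p hp => by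
        rw [hN, Finset.card_eq_zero, Finset.filter_eq_empty_iff]
        rintro σ - ⟨h1, h2⟩
        exact hp (σ.injective (h2.trans (hx.trans h1.symm)))
      obtain ⟨x0⟩ : Nonempty (Fin n) := ⟨x⟩
      have hdiag : ∀ p, (A.filter fun σ => σ p = x).card = N x x x0 x0 := fun p => by
        rw [← htr x x p p x0 x0 (by simp)]
        simp [hN]
      rw [hmain, ← Finset.sum_filter_add_sum_filter_not Finset.univ (fun p => b p = p)]
      rw [Finset.sum_eq_zero (s := Finset.univ.filter fun p => ¬ b p = p) fun p hp =>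
          hzero p (Finset.mem_filter.1 hp).2, add_zero,
        Finset.sum_congr rfl fun p hp => show N x (c x) p (b p) = N x x x0 x0 by
          rw [hx, (Finset.mem_filter.1 hp).2]; exact htr x x p p x0 x0 (by simp)]
      rw [hall, Finset.sum_congr rfl fun p _ => hdiag p]
      simp only [Finset.sum_const, smul_eq_mul, Finset.card_univ, Fintype.card_fin, ← hfb]
      ring
    · rw [if_neg hx]
      have hzero : ∀ p, b p = p → N x (c x) p (b p) = 0 := fun p hp => by
        rw [hN, Finset.card_eq_zero, Finset.filter_eq_empty_iff]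
        rintro σ - ⟨h1, h2⟩
        rw [hp, h1] at h2
        exact hx h2.symm
      obtain ⟨p0, q0, hpq⟩ : ∃ p q : Fin n, p ≠ q := ⟨x, c x, fun h => hx h.symm⟩
      have hoff : ∀ p q, p ≠ q → N x (c x) p q = N x (c x) p0 q0 := fun p q h =>
        htr _ _ _ _ _ _ (by simp [h, hpq])
      have hrow : ∀ p, (A.filter fun σ => σ p = x).card = (n - 1) * N x (c x) p0 q0 := fun p => by
        have h1 : (A.filter fun σ => σ p = x).card = ∑ q : Fin n, N x (c x) p q := by
          rw [hN, ← Finset.card_biUnion]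
          · congr 1
            ext σ
            simp only [Finset.mem_biUnion, Finset.mem_univ, true_and, Finset.mem_filter]
            exact ⟨fun h => ⟨σ⁻¹ (c x), h.1, h.2, by simp⟩, fun ⟨_, h, h', _⟩ => ⟨h, h'⟩⟩
          · intro i _ j _ hij
            rw [Function.onFun, Finset.disjoint_left]
            intro σ g1 g2
            simp only [Finset.mem_filter] at g1 g2
            exact hij (σ.injective (g1.2.2.trans g2.2.2.symm))
        rw [h1, ← Finset.add_sum_erase _ _ (Finset.mem_univ p),
          show N x (c x) p p = 0 by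
            rw [hN, Finset.card_eq_zero, Finset.filter_eq_empty_iff]
            rintro σ - ⟨g1, g2⟩
            exact hx (g2.symm.trans g1),
          Finset.sum_congr rfl fun q hq => hoff p q (Ne.symm (Finset.mem_erase.1 hq).1)]
        simp
      rw [hmain, ← Finset.sum_filter_add_sum_filter_not Finset.univ (fun p => b p = p)]
      rw [Finset.sum_eq_zero (s := Finset.univ.filter fun p => b p = p) fun p hp =>
          hzero p (Finset.mem_filter.1 hp).2, zero_add,
        Finset.sum_congr rfl fun p hp => hoff p (b p) (Ne.symm (Finset.mem_filter.1 hp).2)]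
      rw [hall, Finset.sum_congr rfl fun p _ => hrow p]
      have hcomp : (Finset.univ.filter fun p => ¬ b p = p).card = n - fb := by
        rw [Finset.filter_not, Finset.card_sdiff_of_subset (Finset.filter_subset _ _), Finset.card_univ,
          Fintype.card_fin]
      simp only [Finset.sum_const, smul_eq_mul, Finset.card_univ, Fintype.card_fin, hcomp]
      ring
  have htot : A.card * C = ∑ x : Fin n, (A.filter fun σ => σ (b (σ⁻¹ x)) = c x).card := by
    simp only [Finset.card_filter]
    rw [Finset.sum_comm]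
    rw [Finset.sum_congr rfl fun σ hσ => show (∑ x : Fin n, if σ (b (σ⁻¹ x)) = c x then 1 else 0) = C by
      rw [← hC σ (Finset.mem_filter.1 hσ).2, agree, Nat.card_eq_fintype_card, Fintype.card_subtype,
        Finset.card_filter]]
    simp [hA]
  have hfix : ∀ f : Perm (Fin n), Nat.card {x // f x = x} = (Finset.univ.filter fun x => f x = x).card := by
    intro f
    rw [Nat.card_eq_fintype_card, Fintype.card_subtype]
  refine Nat.eq_of_mul_eq_mul_left hApos ?_
  calc A.card * (n * (n - 1) * C) = n * (n - 1) * (A.card * C) := by ring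
    _ = ∑ x : Fin n, n * (n - 1) * (A.filter fun σ => σ (b (σ⁻¹ x)) = c x).card := by
        rw [htot, Finset.mul_sum]
    _ = _ := by
        rw [Finset.sum_congr rfl fun x _ => hpt x, ← Finset.mul_sum, Finset.sum_ite]
        simp only [Finset.sum_const, smul_eq_mul, hfix, ← hfb, ← hfc]
        congr 1
        rw [Finset.filter_not, Finset.card_sdiff_of_subset (Finset.filter_subset _ _), Finset.card_univ,
          Fintype.card_fin, ← hfc]
        ring

theorem not_const (hn : 5 ≤ n) (c b : Perm (Fin n)) (hc : c ≠ 1) (hb : b ≠ 1)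
    (hle : Nat.card {x // c x = x} ≤ Nat.card {x // b x = x}) (C : ℕ)
    (hC : ∀ σ ∈ alternatingGroup (Fin n), agree c b σ = C) : False := by
  classical
  have havg := avg_const (by omega) c b C (by omega) hC
  set fc := Nat.card {x // c x = x} with hfc
  set fb := Nat.card {x // b x = x} with hfb
  have hmove : ∀ f : Perm (Fin n), f ≠ 1 → Nat.card {x // f x = x} + 2 ≤ n := by
    intro f hf
    rw [Nat.card_eq_fintype_card, Fintype.card_subtype]
    have h1 : (f.support)ᶜ = Finset.univ.filter fun x => f x = x := by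
      ext x; simp
    have h2 := Perm.two_le_card_support_of_ne_one hf
    have h3 := Finset.card_le_univ f.support
    rw [← h1, Finset.card_compl, Fintype.card_fin]
    rw [Fintype.card_fin] at h3
    omega
  have hbm := hmove b hb
  have hcm := hmove c hc
  -- more agreement than average is impossible
  have hbound : ∀ {k : ℕ} (σ : Perm (Fin n)) (x : Fin k → Fin n), σ ∈ alternatingGroup (Fin n) →
      Function.Injective x → (∀ i, σ (b (σ⁻¹ (x i))) = c (x i)) → k ≤ C := fun σ x hσ hx h => by
    rw [← hC σ hσ]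
    simpa using card_le_agree c b σ x hx h
  by_cases hfc2 : 2 ≤ fc
  · -- fixed points into fixed points
    obtain ⟨ec, hec, hec'⟩ : ∃ e : Fin fc → Fin n, Function.Injective e ∧ ∀ i, c (e i) = e i := by
      let E := (Finite.equivFin {x // c x = x}).symm
      exact ⟨fun i => (E i).1, fun i j h => E.injective (Subtype.ext h), fun i => (E i).2⟩
    obtain ⟨eb, heb, heb'⟩ : ∃ e : Fin fc → Fin n, Function.Injective e ∧ ∀ i, b (e i) = e i := by
      let E := (Finite.equivFin {x // b x = x}).symm
      exact ⟨fun i => (E (Fin.castLE hle i)).1,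
        fun i j h => Fin.castLE_injective hle (E.injective (Subtype.ext h)),
        fun i => (E (Fin.castLE hle i)).2⟩
    obtain ⟨σ, hσ, hσe⟩ := exists_even hcm eb ec heb hec
    have h1 := hbound σ ec hσ hec fun i => by
      rw [Perm.inv_eq_iff_eq.2 (hσe i).symm, heb', hσe, hec']
    -- now compare with the average
    obtain ⟨u, hu⟩ : ∃ u, n = fb + (u + 2) := ⟨n - fb - 2, by omega⟩
    obtain ⟨v, hv⟩ : ∃ v, n = fc + (v + 2) := ⟨n - fc - 2, by omega⟩
    have e1 : n - fb = u + 2 := by omega
    have e2 : n - fc = v + 2 := by omega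
    obtain ⟨w, hw⟩ : ∃ w, n = w + 1 := ⟨n - 1, by omega⟩
    rw [e1, e2, show n - 1 = w by omega] at havg
    have h3 : n * w * fc ≤ fc * fb * w + (v + 2) * (u + 2) := by
      rw [← havg]; exact Nat.mul_le_mul_left _ h1
    rw [show n * w * fc = fc * fb * w + (u + 2) * (fc * w) by rw [hu]; ring] at h3
    have h4 : fc * w ≤ v + 2 := by
      refine Nat.le_of_mul_le_mul_left ?_ (by omega : 0 < u + 2)
      nlinarith
    nlinarith
  -- now `C ≤ 1`
  have hC2 : C ≤ 1 := by
    by_contra h
    have h1 : n * (n - 1) * 2 ≤ n * (n - 1) * C := Nat.mul_le_mul_left _ (by omega)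
    rw [havg] at h1
    have h2 : fc = 0 ∨ fc = 1 := by omega
    obtain ⟨w, hw⟩ : ∃ w, n = w + 1 := ⟨n - 1, by omega⟩
    rcases h2 with h2 | h2 <;> rw [h2, show n - 1 = w by omega] at h1
    · have := Nat.sub_le n fb
      simp only [Nat.zero_mul, Nat.sub_zero, zero_add] at h1
      nlinarith
    · have h5 : n - fb + fb = n := by omega
      nlinarith
  -- parity is free if one of them has a two-cycle
  have hfree : (∃ x, c x ≠ x ∧ c (c x) = x) ∨ (∃ x, b x ≠ x ∧ b (b x) = x) →
      ∀ {k : ℕ} (σ : Perm (Fin n)) (x : Fin k → Fin n), Function.Injective x →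
        (∀ i, σ (b (σ⁻¹ (x i))) = c (x i)) → k ≤ C := by
    intro hor k σ x hx h
    by_cases hσ : σ ∈ alternatingGroup (Fin n)
    · exact hbound σ x hσ hx h
    have hodd : Perm.sign σ = -1 := by
      rcases Int.units_eq_one_or (Perm.sign σ) with h' | h'
      · exact absurd (Perm.mem_alternatingGroup.2 h') hσ
      · exact h'
    rcases hor with ⟨y, hy, hy'⟩ | ⟨y, hy, hy'⟩
    · have hs := conj_swap_eq hy'
      refine hbound (swap y (c y) * σ) (fun i => swap y (c y) (x i)) ?_
        ((Equiv.injective _).comp hx) fun i => ?_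
      · rw [Perm.mem_alternatingGroup, map_mul, hodd, Perm.sign_swap (Ne.symm hy)]; decide
      · have h1 := congrArg (swap y (c y)) (h i)
        have h2 := congrFun (congrArg DFunLike.coe hs) (swap y (c y) (x i))
        simp only [Perm.mul_apply, swap_apply_self] at h2
        simp only [mul_inv_rev, swap_inv, Perm.mul_apply, swap_apply_self]
        rw [h1, h2]
    · have hs := conj_swap_eq hy'
      refine hbound (σ * swap y (b y)) x ?_ hx fun i => ?_
      · rw [Perm.mem_alternatingGroup, map_mul, hodd, Perm.sign_swap (Ne.symm hy)]; decide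
      · simp only [mul_inv_rev, swap_inv, Perm.mul_apply]
        rw [← h i]
        refine congrArg σ ?_
        have := congrFun (congrArg DFunLike.coe hs) (σ⁻¹ (x i))
        simpa only [Perm.mul_apply] using this
  -- helpers: two agreements are impossible
  by_cases hA : (∃ x, c x ≠ x ∧ c (c x) = x) ∧ (∃ x, b x ≠ x ∧ b (b x) = x)
  · obtain ⟨⟨x, hx, hx'⟩, y, hy, hy'⟩ := hA
    obtain ⟨σ, hσ⟩ := exists_perm ![y, b y] ![x, c x]
      (fun i j => by fin_cases i <;> fin_cases j <;> simp [hy, Ne.symm hy])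
      (fun i j => by fin_cases i <;> fin_cases j <;> simp [hx, Ne.symm hx])
    have h0 : σ y = x := hσ 0
    have h1 : σ (b y) = c x := hσ 1
    have := hfree (Or.inl ⟨x, hx, hx'⟩) σ ![x, c x]
      (fun i j => by fin_cases i <;> fin_cases j <;> simp [hx, Ne.symm hx]) fun i => by
        fin_cases i
        · simp [Perm.inv_eq_iff_eq.2 h0.symm, h1]
        · simp [Perm.inv_eq_iff_eq.2 h1.symm, hy', h0, hx']
    omega
  by_cases hB : (∃ x, c x ≠ x ∧ c (c x) ≠ x) ∧ (∃ x, b x ≠ x ∧ b (b x) ≠ x)
  · obtain ⟨⟨x, hx, hx'⟩, y, hy, hy'⟩ := hB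
    have hx'' : c (c x) ≠ c x := fun h => hx (c.injective h)
    have hy'' : b (b y) ≠ b y := fun h => hy (b.injective h)
    have i1 : Function.Injective ![y, b y, b (b y)] := by
      intro i j; fin_cases i <;> fin_cases j <;>
        simp [hy, Ne.symm hy, hy', Ne.symm hy', hy'', Ne.symm hy'']
    have i2 : Function.Injective ![x, c x, c (c x)] := by
      intro i j; fin_cases i <;> fin_cases j <;>
        simp [hx, Ne.symm hx, hx', Ne.symm hx', hx'', Ne.symm hx'']
    obtain ⟨σ, hσA, hσ⟩ := exists_even (k := 3) (by omega) _ _ i1 i2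
    have h0 : σ y = x := hσ 0
    have h1 : σ (b y) = c x := hσ 1
    have h2 : σ (b (b y)) = c (c x) := hσ 2
    have := hbound σ ![x, c x] hσA
      (fun i j => by fin_cases i <;> fin_cases j <;> simp [hx, Ne.symm hx]) fun i => by
        fin_cases i
        · simp [Perm.inv_eq_iff_eq.2 h0.symm, h1]
        · simp [Perm.inv_eq_iff_eq.2 h1.symm, h2]
    omega
  -- the mixed case
  have hor : (∃ x, c x ≠ x ∧ c (c x) = x) ∨ (∃ x, b x ≠ x ∧ b (b x) = x) := by
    by_contra h
    push Not at h
    obtain ⟨x, hx⟩ : ∃ x, c x ≠ x := by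
      by_contra h'; push Not at h'; exact hc (Equiv.ext h')
    obtain ⟨y, hy⟩ : ∃ y, b y ≠ y := by
      by_contra h'; push Not at h'; exact hb (Equiv.ext h')
    exact hB ⟨⟨x, hx, h.1 x hx⟩, y, hy, h.2 y hy⟩
  obtain ⟨x, hx⟩ : ∃ x, c x ≠ x := by
    by_contra h'; push Not at h'; exact hc (Equiv.ext h')
  obtain ⟨y, hy⟩ : ∃ y, b y ≠ y := by
    by_contra h'; push Not at h'; exact hb (Equiv.ext h')
  rcases (by omega : fc = 1 ∨ fc = 0) with hf | hf
  · obtain ⟨⟨z, hz⟩⟩ : Nonempty {x // c x = x} := Finite.card_pos_iff.1 (by omega)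
    obtain ⟨⟨w, hw⟩⟩ : Nonempty {x // b x = x} := Finite.card_pos_iff.1 (by omega)
    have hxz : x ≠ z := fun h => hx (h ▸ hz)
    have hcxz : c x ≠ z := fun h => hxz (c.injective (h.trans hz.symm))
    have hyw : y ≠ w := fun h => hy (h ▸ hw)
    have hbyw : b y ≠ w := fun h => hyw (b.injective (h.trans hw.symm))
    obtain ⟨σ, hσ⟩ := exists_perm ![w, y, b y] ![z, x, c x]
      (fun i j => by fin_cases i <;> fin_cases j <;>
        simp [hy, Ne.symm hy, hyw, Ne.symm hyw, hbyw, Ne.symm hbyw])
      (fun i j => by fin_cases i <;> fin_cases j <;>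
        simp [hx, Ne.symm hx, hxz, Ne.symm hxz, hcxz, Ne.symm hcxz])
    have h0 : σ w = z := hσ 0
    have h1 : σ y = x := hσ 1
    have h2 : σ (b y) = c x := hσ 2
    have := hfree hor σ ![z, x]
      (fun i j => by fin_cases i <;> fin_cases j <;> simp [hxz, Ne.symm hxz]) fun i => by
        fin_cases i
        · simp [Perm.inv_eq_iff_eq.2 h0.symm, hw, h0, hz]
        · simp [Perm.inv_eq_iff_eq.2 h1.symm, h2]
    omega
  · rw [hf] at havg
    simp only [Nat.zero_mul, Nat.sub_zero, zero_add] at havg
    have hCeq : (n - 1) * C = n - fb := by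
      refine Nat.eq_of_mul_eq_mul_left (by omega : 0 < n) ?_
      rw [← havg]; ring
    obtain ⟨σ, hσ⟩ := exists_perm ![y, b y] ![x, c x]
      (fun i j => by fin_cases i <;> fin_cases j <;> simp [hy, Ne.symm hy])
      (fun i j => by fin_cases i <;> fin_cases j <;> simp [hx, Ne.symm hx])
    have h0 : σ y = x := hσ 0
    have h1 : σ (b y) = c x := hσ 1
    have hge := hfree hor σ ![x] (fun i j _ => Subsingleton.elim i j) fun i => by
      fin_cases i
      simp [Perm.inv_eq_iff_eq.2 h0.symm, h1]
    have hC1 : C = 1 := by omega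
    rw [hC1, mul_one] at hCeq
    -- two disjoint arcs in each
    have harcs : ∀ f : Perm (Fin n), Nat.card {x // f x = x} + 4 ≤ n → ∀ x, f x ≠ x →
        ∃ u, Function.Injective ![x, f x, u, f u] := by
      intro f hf x hx
      obtain ⟨u, hu, hu'⟩ : ∃ u, f u ≠ u ∧ u ∉ ({x, f x, f⁻¹ x} : Finset (Fin n)) := by
        by_contra h
        push Not at h
        have h1 : f.support ⊆ ({x, f x, f⁻¹ x} : Finset (Fin n)) := fun u hu => h u (Perm.mem_support.1 hu)
        have h2 := Finset.card_le_card h1
        have h3 : ({x, f x, f⁻¹ x} : Finset (Fin n)).card ≤ 3 := Finset.card_le_three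
        have h4 : (f.support)ᶜ = Finset.univ.filter fun x => f x = x := by
          ext x; simp
        rw [Nat.card_eq_fintype_card, Fintype.card_subtype, ← h4, Finset.card_compl, Fintype.card_fin] at hf
        omega
      simp only [Finset.mem_insert, Finset.mem_singleton, not_or] at hu'
      obtain ⟨u1, u2, u3⟩ := hu'
      have e1 : f u ≠ x := fun h => u3 (Perm.inv_eq_iff_eq.2 h.symm).symm
      have e2 : f u ≠ f x := fun h => u1 (f.injective h)
      refine ⟨u, fun i j => ?_⟩
      fin_cases i <;> fin_cases j <;>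
        simp [hx, Ne.symm hx, u1, Ne.symm u1, u2, Ne.symm u2, e1, Ne.symm e1, e2, Ne.symm e2,
          hu, Ne.symm hu]
    obtain ⟨u, hu⟩ := harcs c (by omega) x hx
    obtain ⟨v, hv⟩ := harcs b (by omega) y hy
    obtain ⟨σ, hσ⟩ := exists_perm _ _ hv hu
    have h0 : σ y = x := hσ 0
    have h1 : σ (b y) = c x := hσ 1
    have h2 : σ v = u := hσ 2
    have h3 : σ (b v) = c u := hσ 3
    have hxu : x ≠ u := fun h => absurd (hu (show ![x, c x, u, c u] 0 = ![x, c x, u, c u] 2 from h))
      (by decide)
    have := hfree hor σ ![x, u]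
      (fun i j => by fin_cases i <;> fin_cases j <;> simp [hxu, Ne.symm hxu]) fun i => by
        fin_cases i
        · simp [Perm.inv_eq_iff_eq.2 h0.symm, h1]
        · simp [Perm.inv_eq_iff_eq.2 h2.symm, h3]
    omega


/-- Let n ≥ 5 and let a, b be non-identity permutations in the symmetric group S_n. Then the number of fixed points is not constant on the set of products a′b′ with a′ conjugate to a and b′ conjugate to b under the alternating group: there are even permutations g₁, h₁, g₂, h₂ such that (g₁ a g₁⁻¹)(h₁ b h₁⁻¹) and (g₂ a g₂⁻¹)(h₂ b h₂⁻¹) have different numbers of fixed points. -/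
theorem result (n : ℕ) (hn : 5 ≤ n) (a b : Equiv.Perm (Fin n)) (ha : a ≠ 1) (hb : b ≠ 1) :
    ∃ g₁ h₁ g₂ h₂ : Equiv.Perm (Fin n), g₁ ∈ alternatingGroup (Fin n) ∧ h₁ ∈ alternatingGroup (Fin n) ∧ g₂ ∈ alternatingGroup (Fin n) ∧ h₂ ∈ alternatingGroup (Fin n) ∧
      Nat.card (Function.fixedPoints ⇑(g₁ * a * g₁⁻¹ * (h₁ * b * h₁⁻¹))) ≠
        Nat.card (Function.fixedPoints ⇑(g₂ * a * g₂⁻¹ * (h₂ * b * h₂⁻¹))) := by
  classical
  by_contra hcon
  push Not at hcon
  have hconst : ∀ σ ∈ alternatingGroup (Fin n), agree a⁻¹ b σ = agree a⁻¹ b 1 := fun σ hσ => by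
    have h := hcon 1 σ 1 1 (one_mem _) hσ (one_mem _) (one_mem _)
    simp only [one_mul, inv_one, mul_one] at h
    rw [← card_fixed_eq, ← card_fixed_eq, h]
    simp
  rcases le_total (Nat.card {x // a⁻¹ x = x}) (Nat.card {x // b x = x}) with hle | hle
  · exact not_const hn a⁻¹ b (inv_ne_one.2 ha) hb hle _ hconst
  · refine not_const hn b a⁻¹ hb (inv_ne_one.2 ha) hle (agree a⁻¹ b 1) fun σ hσ => ?_
    rw [← hconst σ⁻¹ (inv_mem hσ)]
    refine Nat.card_congr ((σ⁻¹ : Perm (Fin n)).subtypeEquiv fun x => ?_)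
    simp only [Perm.inv_def, Equiv.symm_symm, Equiv.apply_symm_apply]
    constructor
    · intro h
      rw [← h, Equiv.symm_apply_apply]
    · intro h
      rw [← h, Equiv.apply_symm_apply]

end Cfsg.Agent.S2271
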