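import Cfsg.Statements.S2272
import Mathlib

set_option autoImplicit false
open Cfsg

namespace Cfsg.Agent.S2272

open Matrix

variable {F : Type*} [Field F] {d : ℕ}

local notation "SL" => Matrix.SpecialLinearGroup (Fin d) F

lemma exists_vec_separating (W : Submodule F (Fin d → F)) {x : Fin d → F} (hx : x ∉ W) :
    ∃ φ : Fin d → F, (∀ y ∈ W, φ ⬝ᵥ y = 0) ∧ φ ⬝ᵥ x = 1 := by
  obtain ⟨f, hfx, hfW⟩ := Submodule.exists_dual_map_eq_bot_of_notMem hx inferInstance
  refine ⟨fun i => (f x)⁻¹ * (dotProductEquiv F (Fin d)).symm f i, fun y hy => ?_, ?_⟩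
  all_goals
    have key : ∀ y, (fun i => (f x)⁻¹ * (dotProductEquiv F (Fin d)).symm f i) ⬝ᵥ y = (f x)⁻¹ * f y := by
      intro y
      rw [show (fun i => (f x)⁻¹ * (dotProductEquiv F (Fin d)).symm f i) =
        (f x)⁻¹ • (dotProductEquiv F (Fin d)).symm f from rfl, smul_dotProduct, smul_eq_mul,
        ← dotProductEquiv_apply_apply, LinearEquiv.apply_symm_apply]
  · have h0 : f y ∈ W.map f := ⟨y, hy, rfl⟩
    rw [hfW, Submodule.mem_bot] at h0
    rw [key, h0, mul_zero]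
  · rw [key, inv_mul_cancel₀ hfx]

/-- The transvection `y ↦ y + (φ ⬝ y) z`. -/
def tv (z φ : Fin d → F) (h : φ ⬝ᵥ z = 0) : SL :=
  ⟨1 + vecMulVec z φ, by
    rw [Matrix.vecMulVec_eq Unit, det_one_add_replicateCol_mul_replicateRow, h, add_zero]⟩

lemma tv_mulVec (z φ : Fin d → F) (h : φ ⬝ᵥ z = 0) (y : Fin d → F) :
    (tv z φ h).1 *ᵥ y = y + (φ ⬝ᵥ y) • z := by
  show (1 + vecMulVec z φ) *ᵥ y = _
  rw [add_mulVec, one_mulVec, vecMulVec_mulVec, op_smul_eq_smul]

lemma tv_inv (z φ : Fin d → F) (h : φ ⬝ᵥ z = 0) :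
    (tv z φ h)⁻¹.1 = 1 - vecMulVec z φ := by
  have e : (tv z φ h)⁻¹ = tv (-z) φ (by rw [dotProduct_neg, h, neg_zero]) := by
    refine inv_eq_of_mul_eq_one_right (Subtype.ext ?_)
    show (1 + vecMulVec z φ) * (1 + vecMulVec (-z) φ) = 1
    rw [neg_vecMulVec, add_mul, one_mul, mul_add, mul_one, mul_neg, vecMulVec_mul_vecMulVec, h]
    simp
  rw [e]
  show 1 + vecMulVec (-z) φ = _
  rw [neg_vecMulVec, sub_eq_add_neg]

lemma val_mul (X Y : SL) : (X * Y).1 = X.1 * Y.1 := rfl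

lemma conj_mulVec (g B : SL) {v y : Fin d → F} (h : g.1 *ᵥ y = v) :
    (g * B * g⁻¹).1 *ᵥ v = g.1 *ᵥ (B.1 *ᵥ y) := by
  have e : (g * B * g⁻¹).1 * g.1 = g.1 * B.1 := by
    rw [← val_mul, ← val_mul, inv_mul_cancel_right]
  rw [← h, mulVec_mulVec, e, ← mulVec_mulVec]

lemma exists_noneigen {A : SL} (hA : A ∉ Subgroup.center SL) (hd : 0 < d) :
    ∃ v : Fin d → F, ∀ c : F, A.1 *ᵥ v ≠ c • v := by
  by_contra hno
  push Not at hno
  choose c hc using hno
  refine hA ?_
  have hdiag : ∀ i j, i ≠ j → A.1 i j = 0 := fun i j hij => by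
    have := congrFun (hc (Pi.single j 1)) i
    simpa [hij, Matrix.mulVec_single] using this
  have heq : ∀ i j, A.1 i i = A.1 j j := fun i j => by
    by_cases hij : i = j
    · rw [hij]
    have h1 := congrFun (hc (Pi.single i 1 + Pi.single j 1)) i
    have h2 := congrFun (hc (Pi.single i 1 + Pi.single j 1)) j
    simp [hij, Ne.symm hij, Matrix.mulVec_add, Matrix.mulVec_single, hdiag i j hij,
      hdiag j i (Ne.symm hij)] at h1 h2
    rw [h1, h2]
  let i0 : Fin d := ⟨0, hd⟩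
  have hA' : A.1 = scalar (Fin d) (A.1 i0 i0) := by
    ext i j
    by_cases hij : i = j
    · subst hij; simp [heq i i0]
    · simp [hij, hdiag i j hij]
  refine Matrix.SpecialLinearGroup.mem_center_iff.mpr ⟨A.1 i0 i0, ?_, hA'.symm⟩
  have := A.2
  rw [hA'] at this
  simpa using this

/-- The trace of a product of conjugates takes both zero and non-zero values. -/
lemma trace_values (hd : 3 ≤ d) {A B : SL} (hA : A ∉ Subgroup.center SL) (hB : B ∉ Subgroup.center SL) :
    ∃ g g' h : SL, trace ((g * A * g⁻¹) * (h * B * h⁻¹)).1 = 0 ∧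
      trace ((g' * A * g'⁻¹) * (h * B * h⁻¹)).1 ≠ 0 := by
  obtain ⟨v, hv⟩ := exists_noneigen hA (by omega)
  obtain ⟨v0, hv0⟩ := exists_noneigen hB (by omega)
  set u := A.1 *ᵥ v with hu
  have hvne : v ≠ 0 := fun h => hv 0 (by simp [hu, h])
  have hmem : ∀ {x y : Fin d → F}, x ∈ Submodule.span F {y} → ∃ c : F, x = c • y := fun hx =>
    let ⟨c, hc⟩ := Submodule.mem_span_singleton.mp hx; ⟨c, hc.symm⟩
  -- move `v0` to `v`
  obtain ⟨h0, hh0⟩ : ∃ h0 : SL, ∀ c : F, (h0 * B * h0⁻¹).1 *ᵥ v ≠ c • v := by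
    by_cases hBv : ∀ c : F, B.1 *ᵥ v ≠ c • v
    · exact ⟨1, by simpa using hBv⟩
    push Not at hBv
    obtain ⟨c0, hc0⟩ := hBv
    have hind : v0 ∉ Submodule.span F {v - v0} := by
      intro hm
      obtain ⟨t, ht⟩ := hmem hm
      rw [smul_sub, eq_sub_iff_add_eq] at ht
      have ht0 : t ≠ 0 ∨ t = 0 := em' _
      rcases ht0 with h | h
      · have e : v = (t⁻¹ * (1 + t)) • v0 := by
          rw [mul_smul, add_smul, one_smul, ht, smul_smul, inv_mul_cancel₀ h, one_smul]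
        by_cases hk : t⁻¹ * (1 + t) = 0
        · exact hvne (by rw [e, hk, zero_smul])
        refine hv0 c0 ?_
        rw [e, mulVec_smul, smul_comm] at hc0
        exact smul_right_injective _ hk hc0
      · exact hv0 0 (by simp [h] at ht; simp [ht])
    obtain ⟨φ, hφ, hφ1⟩ := exists_vec_separating _ hind
    have h00 : φ ⬝ᵥ (v - v0) = 0 := hφ _ (Submodule.mem_span_singleton_self _)
    refine ⟨tv (v - v0) φ h00, fun c hc => hv0 c ?_⟩
    have hmove : (tv (v - v0) φ h00).1 *ᵥ v0 = v := by rw [tv_mulVec, hφ1, one_smul]; abel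
    rw [conj_mulVec _ B hmove] at hc
    refine Matrix.mulVec_injective_of_isUnit ((Matrix.isUnit_iff_isUnit_det _).mpr
      (by rw [(tv (v - v0) φ h00).2]; exact isUnit_one)) ?_
    show (tv (v - v0) φ h00).1 *ᵥ _ = (tv (v - v0) φ h00).1 *ᵥ _
    rw [hc, mulVec_smul, hmove]
  set X := Submodule.span F {v, u} with hX
  have hvX : v ∈ X := Submodule.subset_span (by simp)
  have huX : u ∈ X := Submodule.subset_span (by simp)
  have hpair : ∀ {x y : Fin d → F}, x ∈ Submodule.span F {y, v} → ∃ r s : F, r • y + s • v = x :=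
    fun hx => Submodule.mem_span_pair.mp hx
  -- make `v`, `A v`, `B v` independent
  obtain ⟨h1, hh1⟩ : ∃ h1 : SL, (h1 * B * h1⁻¹).1 *ᵥ v ∉ X := by
    by_cases hin : (h0 * B * h0⁻¹).1 *ᵥ v ∈ X
    swap
    · exact ⟨h0, hin⟩
    set x := (h0 * B * h0⁻¹).1 *ᵥ v with hx
    obtain ⟨z, hz⟩ : ∃ z, z ∉ X := by
      by_contra hall
      push Not at hall
      classical
      have h1 := finrank_span_finset_le_card (R := F) ({v, u} : Finset (Fin d → F))
      rw [Set.finrank, Finset.coe_pair, show Submodule.span F {v, u} = ⊤ from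
        Submodule.eq_top_iff'.mpr hall, finrank_top, Module.finrank_pi, Fintype.card_fin] at h1
      have : ({v, u} : Finset (Fin d → F)).card ≤ 2 := Finset.card_le_two
      omega
    have hxs : x ∉ Submodule.span F {z, v} := by
      intro hm
      obtain ⟨r, s, hrs⟩ := hpair hm
      by_cases hr : r = 0
      · exact hh0 s (by rw [← hrs, hr, zero_smul, zero_add])
      · refine hz ?_
        have : r • z ∈ X := by
          rw [eq_sub_of_add_eq hrs]; exact X.sub_mem hin (X.smul_mem _ hvX)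
        exact (Submodule.smul_mem_iff _ hr).mp this
    obtain ⟨φ, hφ, hφ1⟩ := exists_vec_separating _ hxs
    have hz0 : φ ⬝ᵥ z = 0 := hφ _ (Submodule.subset_span (by simp))
    refine ⟨tv z φ hz0 * h0, fun hm => hz ?_⟩
    have hfix : (tv z φ hz0).1 *ᵥ v = v := by
      rw [tv_mulVec, hφ v (Submodule.subset_span (by simp)), zero_smul, add_zero]
    rw [show tv z φ hz0 * h0 * B * (tv z φ hz0 * h0)⁻¹ =
      tv z φ hz0 * (h0 * B * h0⁻¹) * (tv z φ hz0)⁻¹ by group, conj_mulVec _ _ hfix, ← hx, tv_mulVec,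
      hφ1, one_smul] at hm
    simpa using X.sub_mem hm hin
  -- make the commutator leave the line
  obtain ⟨h, hw, hc⟩ : ∃ h : SL, (h * B * h⁻¹).1 *ᵥ v ∉ X ∧ ∀ c : F,
      A.1 *ᵥ ((h * B * h⁻¹).1 *ᵥ v) - (h * B * h⁻¹).1 *ᵥ u ≠ c • v := by
    by_cases hgood : ∀ c : F, A.1 *ᵥ ((h1 * B * h1⁻¹).1 *ᵥ v) - (h1 * B * h1⁻¹).1 *ᵥ u ≠ c • v
    · exact ⟨h1, hh1, hgood⟩
    push Not at hgood
    obtain ⟨c0, hc0⟩ := hgood
    set B1 := h1 * B * h1⁻¹ with hB1
    obtain ⟨φ, hφ, hφ1⟩ := exists_vec_separating X hh1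
    have hv00 : φ ⬝ᵥ v = 0 := hφ _ hvX
    set T := tv v φ hv00 with hT
    have hfv : T.1 *ᵥ v = v := by rw [hT, tv_mulVec, hv00, zero_smul, add_zero]
    have hfu : T.1 *ᵥ u = u := by rw [hT, tv_mulVec, hφ u huX, zero_smul, add_zero]
    have e : T * h1 * B * (T * h1)⁻¹ = T * B1 * T⁻¹ := by rw [hB1]; group
    refine ⟨T * h1, ?_, fun c hc => ?_⟩
    · rw [e, conj_mulVec _ _ hfv, hT, tv_mulVec, hφ1, one_smul]
      exact fun hm => hh1 (by simpa using X.sub_mem hm hvX)
    · rw [e, conj_mulVec _ _ hfv, conj_mulVec _ _ hfu, hT, tv_mulVec, tv_mulVec, hφ1, one_smul,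
        mulVec_add, ← hu, add_sub_add_comm, hc0] at hc
      refine hv (c - c0 + φ ⬝ᵥ B1.1 *ᵥ u) ?_
      rw [add_smul, sub_smul, ← hc]
      abel
  set B' := h * B * h⁻¹ with hB'
  set w := B'.1 *ᵥ v with hwdef
  set cv := A.1 *ᵥ w - B'.1 *ᵥ u with hcv
  obtain ⟨φ, hφv, hφ0, hφc⟩ : ∃ φ : Fin d → F, φ ⬝ᵥ v = 0 ∧ (φ ⬝ᵥ u) * (φ ⬝ᵥ w) = 0 ∧ φ ⬝ᵥ cv = 1 := by
    by_cases h1' : cv ∈ Submodule.span F {u, v}
    · have h2' : cv ∉ Submodule.span F {w, v} := by
        intro hm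
        obtain ⟨r, s, hrs⟩ := hpair hm
        by_cases hr : r = 0
        · exact hc s (by rw [← hrs, hr, zero_smul, zero_add])
        · refine hw ((Submodule.smul_mem_iff _ hr).mp ?_)
          rw [eq_sub_of_add_eq hrs, hX, Set.pair_comm]
          exact Submodule.sub_mem _ h1' (Submodule.smul_mem _ _ (Submodule.subset_span (by simp)))
      obtain ⟨φ, hφ, hφ1⟩ := exists_vec_separating _ h2'
      exact ⟨φ, hφ _ (Submodule.subset_span (by simp)),
        by rw [hφ w (Submodule.subset_span (by simp)), mul_zero], hφ1⟩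
    · obtain ⟨φ, hφ, hφ1⟩ := exists_vec_separating _ h1'
      exact ⟨φ, hφ _ (Submodule.subset_span (by simp)),
        by rw [hφ u (Submodule.subset_span (by simp)), zero_mul], hφ1⟩
  -- the trace along the transvections
  have hs : ∀ s : F, φ ⬝ᵥ s • v = 0 := fun s => by rw [dotProduct_smul, hφv, smul_zero]
  have key : ∀ s : F, trace (tv (s • v) φ (hs s) * A * (tv (s • v) φ (hs s))⁻¹ * B').1 =
      trace (A.1 * B'.1) + s := by
    intro s
    rw [val_mul, val_mul, val_mul, tv_inv]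
    show trace ((1 + vecMulVec (s • v) φ) * A.1 * (1 - vecMulVec (s • v) φ) * B'.1) = _
    rw [smul_vecMulVec]
    set N := vecMulVec v φ with hN
    have tN : ∀ M : Matrix (Fin d) (Fin d) F, trace (N * M) = φ ⬝ᵥ (M *ᵥ v) := fun M => by
      rw [trace_mul_comm, hN, mul_vecMulVec, trace_vecMulVec, dotProduct_comm]
    have eNAN : N * A.1 * N = (φ ⬝ᵥ u) • N := by
      rw [hN, Matrix.mul_assoc, mul_vecMulVec, vecMulVec_mul_vecMulVec, vecMulVec_smul]
    have e : (1 + s • N) * A.1 * (1 - s • N) * B'.1 =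
        A.1 * B'.1 + s • (N * (A.1 * B'.1)) - s • (A.1 * N * B'.1) - (s * s) • (N * A.1 * N * B'.1) := by
      simp only [add_mul, mul_sub, sub_mul, one_mul, mul_one, Matrix.smul_mul, Matrix.mul_smul,
        smul_smul, Matrix.mul_assoc, smul_add]
      abel
    rw [e, eNAN, Matrix.smul_mul, trace_sub, trace_sub, trace_add, trace_smul, trace_smul, trace_smul,
      trace_smul, trace_mul_cycle A.1 N B'.1, trace_mul_cycle B'.1 A.1 N,
      Matrix.mul_assoc N B'.1 A.1, tN, tN, tN, ← mulVec_mulVec, ← mulVec_mulVec, ← hwdef,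
      ← hu]
    simp only [smul_eq_mul]
    rw [hcv, dotProduct_sub] at hφc
    linear_combination s * hφc - s * s * hφ0
  refine ⟨tv ((-trace (A.1 * B'.1)) • v) φ (hs _), tv ((1 - trace (A.1 * B'.1)) • v) φ (hs _), h, ?_, ?_⟩
  · rw [← hB', key]; ring
  · rw [← hB', key]; simp

/-- Let F be a finite field and d ≥ 3, and let a, b be non-identity elements of PSL_d(F). Then the product of the conjugacy classes of a and b is not a single conjugacy class: there are conjugates a′ of a and b′ of b such that a′b′ is not conjugate to ab. -/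
theorem result {F : Type*} [Field F] [Fintype F] (d : ℕ) (hd : 3 ≤ d)
    (a b : Matrix.ProjectiveSpecialLinearGroup (Fin d) F) (ha : a ≠ 1) (hb : b ≠ 1) :
    ∃ g h : Matrix.ProjectiveSpecialLinearGroup (Fin d) F, ¬ IsConj (a * b) (g * a * g⁻¹ * (h * b * h⁻¹)) := by
  classical
  obtain ⟨A, rfl⟩ := QuotientGroup.mk'_surjective _ a
  obtain ⟨B, rfl⟩ := QuotientGroup.mk'_surjective _ b
  have hA : A ∉ Subgroup.center (Matrix.SpecialLinearGroup (Fin d) F) :=
    fun hm => ha ((QuotientGroup.eq_one_iff A).mpr hm)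
  have hB : B ∉ Subgroup.center (Matrix.SpecialLinearGroup (Fin d) F) :=
    fun hm => hb ((QuotientGroup.eq_one_iff B).mpr hm)
  obtain ⟨g, g', h, h0, h1⟩ := trace_values hd hA hB
  by_contra hno
  push Not at hno
  set π := QuotientGroup.mk' (Subgroup.center (Matrix.SpecialLinearGroup (Fin d) F)) with hπ
  have hscal : ∀ X : Matrix.SpecialLinearGroup (Fin d) F,
      IsConj (π (A * B)) (π X) → ∃ r : F, r ≠ 0 ∧ trace X.1 = r * trace (A * B).1 := by
    intro X hc
    obtain ⟨c, hc⟩ := isConj_iff.mp hc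
    obtain ⟨C, rfl⟩ := QuotientGroup.mk'_surjective _ c
    rw [← hπ, ← map_inv, ← map_mul, ← map_mul, hπ, QuotientGroup.mk'_apply, QuotientGroup.mk'_apply,
      QuotientGroup.eq] at hc
    obtain ⟨r, hr, hz⟩ := Matrix.SpecialLinearGroup.mem_center_iff.mp hc
    have hr0 : r ≠ 0 := fun e => by
      rw [e, zero_pow (by rw [Fintype.card_fin]; omega)] at hr; exact zero_ne_one hr
    refine ⟨r, hr0, ?_⟩
    have hX : X.1 = (C * (A * B) * C⁻¹).1 * scalar (Fin d) r := by
      rw [hz, ← val_mul, mul_inv_cancel_left]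
    have htr : trace (C * (A * B) * C⁻¹).1 = trace (A * B).1 := by
      rw [val_mul (C * (A * B)), trace_mul_comm, ← val_mul,
        inv_mul_cancel_left]
    rw [hX, scalar_apply, ← smul_one_eq_diagonal, Matrix.mul_smul, mul_one, trace_smul, htr, smul_eq_mul]
  have hnz := fun (x : Matrix.SpecialLinearGroup (Fin d) F) => hscal (x * A * x⁻¹ * (h * B * h⁻¹)) (by
    simpa [π] using hno (π x) (π h))
  obtain ⟨r, hr, e0⟩ := hnz g
  obtain ⟨r', hr', e1⟩ := hnz g'
  rw [h0] at e0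
  rcases mul_eq_zero.mp e0.symm with h2 | h2
  · exact hr h2
  · exact h1 (by rw [e1, h2, mul_zero])

end Cfsg.Agent.S2272
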