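import Cfsg.Statements.S2276
import Cfsg.Agent.Lib.Perm.PElementPairs.Main

set_option autoImplicit false
open Cfsg

namespace Cfsg.Agent.S2276

/-- Let n ≥ 5, p ≥ 3 a prime, and u, w non-identity elements of p-power order in the alternating group A_n. Then there is g ∈ A_n such that u·(g w g⁻¹) does not have p-power order and ⟨u, g w g⁻¹⟩ is not solvable. -/
theorem result (n : ℕ) (hn : 5 ≤ n) (p : ℕ) (hp : p.Prime) (hp3 : 3 ≤ p) (u w : alternatingGroup (Fin n)) (hu : u ≠ 1) (hw : w ≠ 1)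
    (hu' : ∃ k : ℕ, orderOf u = p ^ k) (hw' : ∃ k : ℕ, orderOf w = p ^ k) :
    ∃ g : alternatingGroup (Fin n), (¬ ∃ k : ℕ, orderOf (u * (g * w * g⁻¹)) = p ^ k) ∧
      ¬ Group.IsSolvable ↥(Subgroup.closure ({u, g * w * g⁻¹} : Set (alternatingGroup (Fin n)))) := by
  have hu'' : ∃ j : ℕ, (u : Equiv.Perm (Fin n)) ^ p ^ j = 1 := by
    obtain ⟨k, hk⟩ := hu'
    refine ⟨k, ?_⟩
    rw [← SubgroupClass.coe_pow, ← hk, pow_orderOf_eq_one, OneMemClass.coe_one]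
  have hw'' : ∃ j : ℕ, (w : Equiv.Perm (Fin n)) ^ p ^ j = 1 := by
    obtain ⟨k, hk⟩ := hw'
    refine ⟨k, ?_⟩
    rw [← SubgroupClass.coe_pow, ← hk, pow_orderOf_eq_one, OneMemClass.coe_one]
  obtain ⟨g, hg, hgood⟩ := CfsgLib.Perm.PElementPairs.exists_pair (α := Fin n)
    (by rw [Fintype.card_fin]; exact hn) hp hp3
    (u := (u : Equiv.Perm (Fin n))) (w := (w : Equiv.Perm (Fin n)))
    (fun h => hu (Subtype.ext h)) (fun h => hw (Subtype.ext h)) hu'' hw''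
  refine ⟨⟨g, Equiv.Perm.mem_alternatingGroup.2 hg⟩, ?_⟩
  exact CfsgLib.Perm.PElementPairs.good_of_hom (alternatingGroup (Fin n)).subtype _ _ hp hgood

end Cfsg.Agent.S2276
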