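import Cfsg.Statements.S2277
import Mathlib
import Cfsg.Agent.Lib.Frobenius.FixedSumTrivial
import Cfsg.Agent.Lib.Coprime.Action
import Cfsg.Agent.Lib.Coprime.Sylow
import Cfsg.Agent.Lib.Components.Factorization
import Cfsg.Agent.Lib.Solvable.Cores
import Cfsg.Agent.Lib.PGroup.Frattini

set_option autoImplicit false
open Cfsg
open scoped Pointwise
set_option linter.style.haveILetI false

namespace Cfsg.Agent.S2277

/-- Let p ≥ 3 be prime and G a finite group with a Sylow p-subgroup P and a normal p-complement N (N normal, of order prime to p, with NP = G). Suppose P is generated by a subset C and also by a subset D, and that ⟨x c x⁻¹, d⟩ is a p-group for all x ∈ N, c ∈ C, d ∈ D. Then P centralizes N, so that G = N × P. -/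
theorem result {G : Type*} [Group G] [Finite G] (p : ℕ) [Fact p.Prime] (hp3 : 3 ≤ p) (P : Sylow p G)
    (N : Subgroup G) [N.Normal] (hN : (Nat.card N).Coprime p) (hNP : N ⊔ (P : Subgroup G) = ⊤)
    (C D : Set G) (hC : Subgroup.closure C = (P : Subgroup G)) (hD : Subgroup.closure D = (P : Subgroup G))
    (h : ∀ x ∈ N, ∀ c ∈ C, ∀ d ∈ D, IsPGroup p ↥(Subgroup.closure ({x * c * x⁻¹, d} : Set G))) :
    ⁅(P : Subgroup G), N⁆ = ⊥ := by
  classical
  have hpp : p.Prime := Fact.out
  obtain ⟨k, hk⟩ := IsPGroup.iff_card.mp P.isPGroup'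
  have hcop : (Nat.card (P : Subgroup G)).Coprime (Nat.card N) := by
    rw [hk]; exact (hN.symm).pow_left k
  have hdisj : (P : Subgroup G) ⊓ N = ⊥ := (Subgroup.disjoint_of_coprime_natCard hcop).eq_bot
  have hPN : (P : Subgroup G) ≤ Subgroup.normalizer (N : Set G) := Subgroup.le_normalizer_of_normal
  have hPs : Group.IsSolvable (P : Subgroup G) := by
    haveI := P.isPGroup'.isNilpotent; infer_instance
  have hCP : C ⊆ (P : Subgroup G) := hC ▸ Subgroup.subset_closure
  have hDP : D ⊆ (P : Subgroup G) := hD ▸ Subgroup.subset_closure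
  -- `N = C_N(d) C_N(c)`
  have key : ∀ x ∈ N, ∀ c ∈ C, ∀ d ∈ D, ∃ y ∈ N, y * d = d * y ∧ (y⁻¹ * x) * c = c * (y⁻¹ * x) := by
    intro x hx c hc d hd
    obtain ⟨Q, hQ⟩ := (h x hx c hc d hd).exists_le_sylow
    obtain ⟨g, hg⟩ := MulAction.exists_smul_eq G P Q
    obtain ⟨n, hn, u, hu, rfl⟩ := Subgroup.mem_sup_of_normal_left.mp
      (show g ∈ N ⊔ (P : Subgroup G) from hNP ▸ Subgroup.mem_top g)
    have hQ' : ∀ y ∈ (Q : Subgroup G), n⁻¹ * y * n ∈ (P : Subgroup G) := by
      intro y hy
      rw [← hg, Sylow.coe_subgroup_smul] at hy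
      obtain ⟨w, hw, e⟩ := hy
      rw [← e]
      show n⁻¹ * ((n * u) * w * (n * u)⁻¹) * n ∈ (P : Subgroup G)
      have := (P : Subgroup G).mul_mem ((P : Subgroup G).mul_mem hu hw) ((P : Subgroup G).inv_mem hu)
      simpa [mul_assoc] using this
    have hfix : ∀ z ∈ N, ∀ q ∈ (P : Subgroup G), z * q * z⁻¹ ∈ (P : Subgroup G) → z * q = q * z := by
      intro z hz q hq hzq
      have h1 : z * q * z⁻¹ * q⁻¹ ∈ (P : Subgroup G) ⊓ N := by
        refine ⟨(P : Subgroup G).mul_mem hzq ((P : Subgroup G).inv_mem hq), ?_⟩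
        have := N.mul_mem hz (Subgroup.Normal.conj_mem inferInstance _ (inv_mem hz) q)
        simpa [mul_assoc] using this
      rw [hdisj, Subgroup.mem_bot] at h1
      rwa [mul_inv_eq_one, mul_inv_eq_iff_eq_mul] at h1
    have h1 := hQ' _ (hQ (Subgroup.subset_closure (Set.mem_insert_of_mem _ rfl)))
    have h2 := hQ' _ (hQ (Subgroup.subset_closure (Set.mem_insert _ _)))
    refine ⟨n, hn, ?_, hfix _ (mul_mem (inv_mem hn) hx) c (hCP hc) (by simpa [mul_assoc] using h2)⟩
    have h3 := hfix n⁻¹ (inv_mem hn) d (hDP hd) (by simpa using h1)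
    calc n * d = n * (d * n⁻¹) * n := by group
      _ = n * (n⁻¹ * d) * n := by rw [h3]
      _ = d * n := by group
  -- it suffices to centralise invariant Sylow subgroups
  suffices hS : ∀ q : ℕ, q.Prime → ∃ S : Sylow q N,
      (S : Subgroup N).map N.subtype ≤ Subgroup.centralizer ((P : Subgroup G) : Set G) by
    have hle : N ≤ Subgroup.centralizer ((P : Subgroup G) : Set G) := Subgroup.subgroupOf_eq_top.mp
      (CfsgLib.Solvable.Cores.eq_top_of_sylow_le _ fun q hq => by
        obtain ⟨S, hS⟩ := hS q hq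
        exact ⟨S, fun x hx => hS ⟨x, hx, rfl⟩⟩)
    rw [Subgroup.commutator_comm, Subgroup.commutator_eq_bot_iff_le_centralizer]
    exact hle
  intro q hq
  haveI := Fact.mk hq
  obtain ⟨S, hS⟩ := CfsgLib.Coprime.exists_invariant_sylow hPN hcop (Or.inl hPs) q
  refine ⟨S, ?_⟩
  set Q : Subgroup G := (S : Subgroup N).map N.subtype with hQdef
  have hQN : Q ≤ N := Subgroup.map_subtype_le _
  have hQc : Nat.card Q = q ^ (Nat.card N).factorization q := by
    rw [hQdef, CfsgLib.Coprime.card_map_subtype, S.card_eq_multiplicity]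
  have hQp : IsPGroup q Q := IsPGroup.of_card hQc
  -- centralisers in `Q` are Sylow in centralisers in `N`
  have hcent : ∀ d ∈ (P : Subgroup G), ∀ U : Subgroup G, U ≤ N ⊓ Subgroup.centralizer {d} →
      IsPGroup q U → Nat.card U ≤ Nat.card (Q ⊓ Subgroup.centralizer {d} : Subgroup G) := by
    intro d hd U hU hUq
    have hdP : Subgroup.zpowers d ≤ (P : Subgroup G) := Subgroup.zpowers_le.mpr hd
    have hA := hdP.trans hPN
    have hcA := CfsgLib.Coprime.coprime_of_le hcop hdP le_rfl
    have hsA : Group.IsSolvable (Subgroup.zpowers d) := CfsgLib.Coprime.isSolvable_zpowers d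
    have hcd : ∀ y, y ∈ Subgroup.centralizer {d} ↔
        y ∈ Subgroup.centralizer (Subgroup.zpowers d : Set G) := fun y => by
      rw [Subgroup.zpowers_eq_closure, Subgroup.centralizer_closure]
    obtain ⟨S', hUS', hS'⟩ := CfsgLib.Coprime.exists_le_invariant_sylow hA hcA (Or.inl hsA)
      (hU.trans inf_le_left) hUq ((Subgroup.le_centralizer_iff.mp
        (fun y hy => (hcd y).mp (hU hy).2)).trans (Subgroup.centralizer_le_normalizer _))
    obtain ⟨z, hz, hzS⟩ := CfsgLib.Coprime.exists_centralizer_conj_sylow hA hcA (Or.inl hsA) S' S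
      hS' (hdP.trans hS)
    have hUQ : U.map (MulAut.conj (z : G)).toMonoidHom ≤ Q ⊓ Subgroup.centralizer {d} := by
      refine le_inf ?_ ?_
      · rw [hQdef, ← hzS, CfsgLib.Coprime.map_smul_sylow]
        exact Subgroup.map_mono hUS'
      · rintro _ ⟨y, hy, rfl⟩
        exact mul_mem (mul_mem ((hcd _).mpr hz) (hU hy).2) (inv_mem ((hcd _).mpr hz))
    have := Subgroup.card_le_of_le hUQ
    rwa [CfsgLib.Coprime.card_conj_map] at this
  -- `Q = C_Q(d) C_Q(c)`
  have hQcd : ∀ c ∈ C, ∀ d ∈ D, ∀ v ∈ Q, ∃ a ∈ Q, ∃ b ∈ Q,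
      v = a * b ∧ a * d = d * a ∧ b * c = c * b := by
    intro c hc d hd v hv
    let A := N ⊓ Subgroup.centralizer {d}
    let B := N ⊓ Subgroup.centralizer {c}
    have hAB : (A : Set G) * (B : Set G) = (N : Set G) := by
      refine Set.Subset.antisymm ?_ fun x hx => ?_
      · rintro _ ⟨a, ha, b, hb, rfl⟩
        exact mul_mem ha.1 hb.1
      · obtain ⟨y, hy, h1, h2⟩ := key x hx c hc d hd
        exact ⟨y, ⟨hy, Subgroup.mem_centralizer_singleton_iff.mpr h1⟩, y⁻¹ * x,
          ⟨N.mul_mem (N.inv_mem hy) hx, Subgroup.mem_centralizer_singleton_iff.mpr h2⟩,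
          mul_inv_cancel_left y x⟩
    let A' := Q ⊓ Subgroup.centralizer {d}
    let B' := Q ⊓ Subgroup.centralizer {c}
    have hprod : ∀ U W : Subgroup G, Nat.card ((U : Set G) * (W : Set G) : Set G) *
        Nat.card (U ⊓ W : Subgroup G) = Nat.card U * Nat.card W := fun U W => by
      rw [inf_comm, CfsgLib.Components.Factorization.card_coe_mul_mul_card_inf, mul_comm]
    have h1 := hprod A B
    rw [hAB] at h1
    simp only [SetLike.coe_sort_coe] at h1
    have h2 := hprod A' B'
    -- compare q-parts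
    have hfac : ∀ (e : G), e ∈ (P : Subgroup G) →
        q ^ (Nat.card (N ⊓ Subgroup.centralizer {e} : Subgroup G)).factorization q ≤
          Nat.card (Q ⊓ Subgroup.centralizer {e} : Subgroup G) := by
      intro e he
      let T : Sylow q (N ⊓ Subgroup.centralizer {e} : Subgroup G) := default
      have := hcent e he _ (Subgroup.map_subtype_le (T : Subgroup _)) (T.isPGroup'.map _)
      rwa [CfsgLib.Coprime.card_map_subtype, T.card_eq_multiplicity] at this
    have hI : Nat.card (A' ⊓ B' : Subgroup G) ≤ q ^ (Nat.card (A ⊓ B : Subgroup G)).factorization q := by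
      obtain ⟨j, hj⟩ := IsPGroup.iff_card.mp
        (hQp.to_le (inf_le_left.trans inf_le_left : A' ⊓ B' ≤ Q))
      rw [hj]
      refine Nat.pow_le_pow_right hq.pos ((hq.pow_dvd_iff_le_factorization Nat.card_pos.ne').mp ?_)
      rw [← hj]
      exact Subgroup.card_dvd_of_le (inf_le_inf (inf_le_inf_right _ hQN) (inf_le_inf_right _ hQN))
    have h3 := congrArg (fun m => q ^ m.factorization q) h1
    simp only [Nat.factorization_mul Nat.card_pos.ne' Nat.card_pos.ne', Finsupp.add_apply, pow_add] at h3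
    rw [← show Nat.card Q = q ^ (Nat.card N).factorization q from hQc] at h3
    have h4 : Nat.card Q * Nat.card (A' ⊓ B' : Subgroup G) ≤ Nat.card A' * Nat.card B' :=
      calc Nat.card Q * Nat.card (A' ⊓ B' : Subgroup G)
          ≤ Nat.card Q * q ^ (Nat.card (A ⊓ B : Subgroup G)).factorization q := Nat.mul_le_mul_left _ hI
        _ = _ := h3
        _ ≤ _ := Nat.mul_le_mul (hfac d (hDP hd)) (hfac c (hCP hc))
    rw [← h2] at h4
    have hsub : (A' : Set G) * (B' : Set G) ⊆ (Q : Set G) := by
      rintro _ ⟨a, ha, b, hb, rfl⟩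
      exact mul_mem ha.1 hb.1
    have heq := Set.eq_of_subset_of_ncard_le hsub (by
      rw [← Nat.card_coe_set_eq, ← Nat.card_coe_set_eq]
      exact Nat.le_of_mul_le_mul_right h4 Nat.card_pos)
    obtain ⟨a, ha, b, hb, e⟩ : v ∈ (A' : Set G) * (B' : Set G) := heq ▸ hv
    exact ⟨a, ha.1, b, hb.1, e.symm, Subgroup.mem_centralizer_singleton_iff.mp ha.2,
      Subgroup.mem_centralizer_singleton_iff.mp hb.2⟩
  by_cases hpq : q = p
  · have hQ1 : Q = ⊥ := by
      rw [← Subgroup.card_eq_one, hQc, Nat.factorization_eq_zero_of_not_dvd ?_, pow_zero]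
      exact (hpp.coprime_iff_not_dvd.mp hN.symm) ∘ (hpq ▸ id)
    rw [hQ1]; exact bot_le
  -- the action on the Frattini quotient
  let φ : (P : Subgroup G) →* MulAut Q := Q.normalizerMonoidHom.comp (Subgroup.inclusion hS)
  haveI : (frattini Q).Normal := inferInstance
  let V := Q ⧸ frattini Q
  letI : CommGroup V :=
    { QuotientGroup.Quotient.group (frattini Q) with mul_comm := CfsgLib.PGroup.Frattini.quotient_mul_comm hQp }
  have hle : ∀ r, frattini Q ≤ (frattini Q).comap (φ r).toMonoidHom := fun r =>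
    ((Subgroup.characteristic_iff_comap_eq.mp inferInstance) (φ r)).ge
  let ρ : (P : Subgroup G) →* AddMonoid.End (Additive V) :=
    { toFun := fun r => MonoidHom.toAdditive (QuotientGroup.map _ _ (φ r).toMonoidHom (hle r))
      map_one' := by
        refine AddMonoidHom.ext fun v => ?_
        induction v using QuotientGroup.induction_on with
        | H y => exact congrArg (fun f : MulAut Q => ((f y : Q) : V)) (map_one φ)
      map_mul' := fun r s => by
        refine AddMonoidHom.ext fun v => ?_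
        induction v using QuotientGroup.induction_on with
        | H y => exact congrArg (fun f : MulAut Q => ((f y : Q) : V)) (map_mul φ r s) }
  have hρ : ∀ (r : (P : Subgroup G)) (y : Q),
      ρ r (Additive.ofMul (y : V)) = Additive.ofMul ((φ r y : Q) : V) := fun r y => rfl
  have hφ : ∀ (r : (P : Subgroup G)) (y : Q), ((φ r y : Q) : G) = (r : G) * y * (r : G)⁻¹ :=
    fun r y => rfl
  have hfixφ : ∀ (r : (P : Subgroup G)) (y : Q), (y : G) * r = r * y → φ r y = y := fun r y e =>
    Subtype.ext (by rw [hφ, ← e, mul_inv_cancel_right])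
  have hVcop : p.Coprime (Nat.card (Additive V)) := by
    refine Nat.Coprime.coprime_dvd_right
      ((frattini Q).card_quotient_dvd_card.trans (dvd_of_eq hQc)) ?_
    exact Nat.Coprime.pow_right _ ((Nat.coprime_primes hpp hq).mpr (Ne.symm hpq))
  have main := CfsgLib.Frobenius.FixedSum.core hp3 _ (Additive V) rfl hVcop (P : Subgroup G)
    P.isPGroup' ρ ((P : Subgroup G).subtype ⁻¹' C) ((P : Subgroup G).subtype ⁻¹' D)
    (Subgroup.map_injective (P : Subgroup G).subtype_injective (by
      rw [MonoidHom.map_closure, ← MonoidHom.range_eq_map, Subgroup.range_subtype,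
        Set.image_preimage_eq_of_subset (by simpa using hCP), hC]))
    (Subgroup.map_injective (P : Subgroup G).subtype_injective (by
      rw [MonoidHom.map_closure, ← MonoidHom.range_eq_map, Subgroup.range_subtype,
        Set.image_preimage_eq_of_subset (by simpa using hDP), hD]))
    (fun c hc d hd v => by
      obtain ⟨y, hy⟩ := QuotientGroup.mk'_surjective (frattini Q) (Additive.toMul v)
      obtain ⟨a, ha, b, hb, e, ea, eb⟩ := hQcd c hc d hd y y.2
      refine ⟨Additive.ofMul ((⟨a, ha⟩ : Q) : V), Additive.ofMul ((⟨b, hb⟩ : Q) : V), ?_, ?_, ?_⟩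
      · rw [← ofMul_mul, ← QuotientGroup.mk_mul, show (⟨a, ha⟩ * ⟨b, hb⟩ : Q) = y from Subtype.ext e.symm]
        exact (congrArg Additive.ofMul hy).symm
      · rw [hρ, hfixφ d ⟨a, ha⟩ ea]
      · rw [hρ, hfixφ c ⟨b, hb⟩ eb])
  have hcopΦ : (Nat.card (P : Subgroup G)).Coprime (Nat.card (frattini Q)) :=
    hcop.coprime_dvd_right ((Subgroup.card_subgroup_dvd_card _).trans (Subgroup.card_dvd_of_le hQN))
  have hcentral := CfsgLib.Coprime.le_centralizer_of_frattini hS hcopΦ (fun r hr y hy => by
    have e := congrArg Additive.toMul (main ⟨r, hr⟩ (Additive.ofMul ((⟨y, hy⟩ : Q) : V)))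
    rw [hρ, toMul_ofMul, toMul_ofMul, QuotientGroup.eq] at e
    refine ⟨_, inv_mem ((inferInstance : (frattini Q).Normal).conj_mem _ e ⟨y, hy⟩), ?_⟩
    simp [hφ, commutatorElement_def, mul_assoc])
  exact Subgroup.le_centralizer_iff.mp hcentral

end Cfsg.Agent.S2277
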