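import Cfsg.Statements.S2280
import Cfsg.Agent.Lib.Classical.UnipotentGen

set_option autoImplicit false
set_option backward.isDefEq.respectTransparency false
open Cfsg Matrix

namespace Cfsg.Agent.S2280

open CfsgLib.Classical.UnipotentGen

variable {F : Type*} [Field F] {m : ℕ}

theorem upN_isNilpotent_pow : upN m F ^ (m + 1) = 0 ∧ upN m F ^ m ≠ 0 := by
  have key : ∀ k : ℕ, ∀ i j : Fin (m + 1),
      (upN m F ^ k) i j = if j.val = i.val + k then (1 : F) else 0 := by
    intro k
    induction k with
    | zero => intro i j; simp [Matrix.one_apply, Fin.ext_iff, eq_comm]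
    | succ k ih =>
      intro i j
      rw [pow_succ, Matrix.mul_apply]
      simp only [ih]
      simp only [upN, Matrix.of_apply, ite_mul, one_mul, zero_mul]
      by_cases h : i.val + k < m + 1
      · rw [Finset.sum_eq_single ⟨i.val + k, h⟩]
        · simp [Nat.add_assoc]
        · intro b _ hb
          rw [if_neg fun e => hb (Fin.ext e)]
        · simp
      · rw [Finset.sum_eq_zero, if_neg (fun e => by have := j.isLt; omega)]
        intro b _
        rw [if_neg fun e => by have := b.isLt; omega]
  refine ⟨?_, fun h => ?_⟩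
  · ext i j
    rw [key, if_neg (fun e => by have := j.isLt; omega)]
    rfl
  · have := congrFun (congrFun h 0) (Fin.last m)
    rw [key, if_pos (by simp)] at this
    exact one_ne_zero this

theorem core [Fintype F] (hm : 2 ≤ m) :
    ∃ u g h : Matrix.SpecialLinearGroup (Fin (m + 1)) F,
      (u : Matrix (Fin (m + 1)) (Fin (m + 1)) F) = 1 + upN m F ∧
      Subgroup.closure ({u, g * u * g⁻¹, h * u * h⁻¹} :
        Set (Matrix.SpecialLinearGroup (Fin (m + 1)) F)) = ⊤ := by
  classical
  have hdet : det (1 + upN m F) = 1 := by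
    rw [det_of_upperTriangular]
    · refine Finset.prod_eq_one fun i _ => ?_
      simp [upN]
    · intro i j hij
      simp only [id] at hij
      have : j.val < i.val := hij
      simp [upN, Matrix.one_apply, Fin.ext_iff, this.ne', show ¬ j.val = i.val + 1 by omega]
  let u : Matrix.SpecialLinearGroup (Fin (m + 1)) F := ⟨1 + upN m F, hdet⟩
  obtain ⟨z, hz⟩ := IsCyclic.exists_generator (α := Fˣ)
  -- first conjugator
  let i1 : Fin (m + 1) := ⟨1, by omega⟩
  have h1l : i1 ≠ Fin.last m := fun e => by have := congrArg Fin.val e; simp only [i1, Fin.val_last] at this; omega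
  let g : Matrix.SpecialLinearGroup (Fin (m + 1)) F := Matrix.SpecialLinearGroup.transvection h1l (-(z : F))
  -- second conjugator
  let R : Matrix (Fin (m + 1)) (Fin (m + 1)) F := Matrix.of fun i j => if i.val + j.val = m then 1 else 0
  have hRR : R * R = 1 := by
    ext i j
    rw [Matrix.mul_apply, Finset.sum_eq_single ⟨m - i.val, by omega⟩]
    · simp only [R, Matrix.of_apply, Matrix.one_apply, Fin.ext_iff]
      by_cases h : i.val = j.val
      · rw [if_pos h, if_pos (show i.val + (m - i.val) = m by omega), if_pos (show m - i.val + j.val = m by omega), one_mul]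
      · rw [if_neg h, if_neg (show ¬ (m - i.val + j.val = m) by omega), mul_zero]
    · intro b _ hb
      simp only [R, Matrix.of_apply]
      rw [if_neg (fun e => hb (Fin.ext (by simp only; omega))), zero_mul]
    · simp
  have hR2 : R.det * R.det = 1 := by rw [← det_mul, hRR, det_one]
  let d : Fin (m + 1) → F := fun i => if i = 0 then R.det else 1
  have hd : ∀ i, d i * d i = 1 := by
    intro i
    simp only [d]
    split_ifs <;> simp [hR2]
  have hdet2 : det (diagonal d * R) = 1 := by
    rw [det_mul, det_diagonal, Finset.prod_eq_single 0 (fun b _ hb => by simp [d, hb]) (by simp)]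
    simp [d, hR2]
  let h : Matrix.SpecialLinearGroup (Fin (m + 1)) F := ⟨diagonal d * R, hdet2⟩
  let b : Fin (m + 1) → F := fun k =>
    if hk : k.val + 1 < m + 1 then d ⟨k.val + 1, hk⟩ * d k else 1
  have hb : ∀ i, b i * b i = 1 := by
    intro i
    simp only [b]
    split_ifs
    · rw [mul_mul_mul_comm, hd, hd, one_mul]
    · rw [one_mul]
  have hb0 : ∀ i, b i ≠ 0 := fun i e => by have := hb i; rw [e, mul_zero] at this; exact zero_ne_one this
  refine ⟨u, g, h, rfl, ?_⟩
  set H := Subgroup.closure ({u, g * u * g⁻¹, h * u * h⁻¹} :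
        Set (Matrix.SpecialLinearGroup (Fin (m + 1)) F))
  have hu : u ∈ H := Subgroup.subset_closure (by simp)
  have hg : g * u * g⁻¹ ∈ H := Subgroup.subset_closure (by simp)
  have hh : h * u * h⁻¹ ∈ H := Subgroup.subset_closure (by simp)
  have hh' : HS H (1 + loN b) := by
    refine ⟨_, hh, ?_⟩
    have e : (diagonal d * R) * (1 + upN m F) = (1 + loN b) * (diagonal d * R) := by
      rw [mul_add, add_mul, mul_one, one_mul]
      congr 1
      ext i j
      rw [Matrix.mul_assoc, diagonal_mul]
      have hl : ∀ k, (diagonal d * R) k j = d k * if k.val + j.val = m then 1 else 0 := fun k => by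
        rw [diagonal_mul]; rfl
      rw [Matrix.mul_apply, Matrix.mul_apply]
      simp only [hl]
      by_cases hij : i.val + j.val = m + 1
      · rw [Finset.sum_eq_single ⟨j.val - 1, by omega⟩, Finset.sum_eq_single ⟨i.val - 1, by omega⟩]
        · simp only [R, upN, loN, Matrix.of_apply]
          rw [if_pos (by omega), if_pos (by omega), if_pos (by omega), if_pos (by omega)]
          simp only [b]
          rw [dif_pos (by omega)]
          have hi' : (⟨i.val - 1 + 1, by omega⟩ : Fin (m + 1)) = i := Fin.ext (by simp only; omega)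
          rw [hi', one_mul, mul_one, mul_one, mul_assoc, hd, mul_one]
        · intro k _ hk
          simp only [loN, Matrix.of_apply]
          rw [if_neg (fun e => hk (Fin.ext (by simp only; omega))), zero_mul]
        · simp
        · intro k _ hk
          simp only [R, upN, Matrix.of_apply]
          by_cases e : j.val = k.val + 1
          · exact absurd (Fin.ext (by simp only; omega)) hk
          · rw [if_neg e, mul_zero]
        · simp
      · rw [Finset.sum_eq_zero, Finset.sum_eq_zero, mul_zero]
        · intro k _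
          simp only [loN, Matrix.of_apply]
          by_cases e : i.val = k.val + 1
          · rw [if_pos e, if_neg (show ¬ k.val + j.val = m by omega), mul_zero, mul_zero]
          · rw [if_neg e, zero_mul]
        · intro k _
          simp only [R, upN, Matrix.of_apply]
          by_cases e : j.val = k.val + 1
          · rw [if_neg (show ¬ i.val + k.val = m by omega), zero_mul]
          · rw [if_neg e, mul_zero]
    have e2 : (diagonal d * R) * (h⁻¹).1 = 1 := congrArg Subtype.val (mul_inv_cancel h)
    show (diagonal d * R) * (1 + upN m F) * (h⁻¹).1 = _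
    rw [e, Matrix.mul_assoc, e2, Matrix.mul_one]
  have hc : HS H (tv ((z : F) • ev 0) (ev (F := F) (Fin.last m))) := by
    refine ⟨u⁻¹ * (g * u * g⁻¹), mul_mem (inv_mem hu) hg, ?_⟩
    have e : g.1 * (1 + upN m F) = (1 + upN m F) * tv ((z : F) • ev 0) (ev (F := F) (Fin.last m)) * g.1 := by
      have hs : ∀ (i : Fin (m + 1)) (c : F), Matrix.single i (Fin.last m) c =
          vecMulVec (c • ev i) (ev (F := F) (Fin.last m)) := by
        intro i c
        ext a a'
        simp only [ev, vecMulVec_apply, Pi.smul_apply, Pi.single_apply, smul_eq_mul, Matrix.single_apply]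
        by_cases h1 : a = i <;> by_cases h2 : a' = Fin.last m <;> simp [h1, h2, Ne.symm]
      have hg1 : g.1 = tv ((-(z : F)) • ev i1) (ev (F := F) (Fin.last m)) := by
        show Matrix.transvection i1 (Fin.last m) (-(z : F)) = _
        rw [Matrix.transvection, hs, tv]
      have hperp : ev (F := F) (Fin.last m) ⬝ᵥ ((-(z : F)) • ev i1) = 0 := by
        rw [dotProduct_smul, ev, ev, single_dotProduct, Pi.single_eq_of_ne h1l.symm, mul_zero, smul_zero]
      rw [hg1, Matrix.mul_assoc _ (tv _ _) (tv _ _), tv_mul_self hperp, tv, tv, add_mul, one_mul, mul_add,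
        mul_one, vecMulVec_mul, vecMul_upN_last, vecMulVec_zero, add_zero,
        mul_add, mul_one, add_mul, one_mul, mul_vecMulVec, mulVec_add, mulVec_smul, mulVec_smul,
        upN_mulVec_zero rfl, upN_mulVec_single (i := 0) (j := i1) (by simp [i1]), smul_zero, zero_add,
        add_vecMulVec, smul_vecMulVec, smul_vecMulVec, smul_vecMulVec]
      simp only [neg_smul]
      abel
    have e2 : g.1 * (g⁻¹).1 = 1 := congrArg Subtype.val (mul_inv_cancel g)
    have e3 : (u⁻¹).1 * (1 + upN m F) = 1 := congrArg Subtype.val (inv_mul_cancel u)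
    show (u⁻¹).1 * (g.1 * (1 + upN m F) * (g⁻¹).1) = _
    rw [e, Matrix.mul_assoc ((1 + upN m F) * _) g.1, e2, Matrix.mul_one, ← Matrix.mul_assoc, e3,
      Matrix.one_mul]
  refine eq_top hm H b hb0 ⟨u, hu, rfl⟩ hh' fun K hK hK2 hclosed x => ?_
  have hsq := hK2 hb
  have hperp : ∀ y : F, ev (F := F) (Fin.last m) ⬝ᵥ (y • ev (0 : Fin (m + 1))) = 0 := fun y => by
    rw [dotProduct_smul, ev, ev, single_dotProduct, Pi.single_eq_of_ne
      (fun e => by have := congrArg Fin.val e; simp only [Fin.val_zero, Fin.val_last] at this; omega), mul_zero, smul_zero]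
  have hmul : ∀ x y : F, HS H (tv (x • ev 0) (ev (F := F) (Fin.last m))) →
      HS H (tv (y • ev 0) (ev (F := F) (Fin.last m))) → HS H (tv ((x * y) • ev 0) (ev (F := F) (Fin.last m))) := by
    intro x y hx hy
    have h1 := hclosed x y hx hy
    rcases mul_self_eq_one_iff.1 hsq with hK1 | hK1
    · rwa [hK1, one_mul] at h1
    · have := HS.neg (hperp _) h1
      rwa [← neg_smul, hK1, neg_mul, neg_mul, neg_neg, one_mul] at this
  rcases eq_or_ne x 0 with rfl | hx
  · rw [zero_smul, tv, zero_vecMulVec, add_zero]; exact HS.one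
  obtain ⟨k, hk⟩ := mem_powers_iff_mem_zpowers.2 (hz (Units.mk0 x hx))
  have hp : ∀ k : ℕ, HS H (tv (((z : F) ^ (k + 1)) • ev 0) (ev (F := F) (Fin.last m))) := by
    intro k
    induction k with
    | zero => rwa [zero_add, pow_one]
    | succ k ih => rw [pow_succ]; exact hmul _ _ ih hc
  have hxk : x = (z : F) ^ (k + orderOf z) := by
    have : x = ((z ^ (k + orderOf z) : Fˣ) : F) := by
      rw [pow_add, pow_orderOf_eq_one, mul_one]
      exact (congrArg Units.val hk).symm
    rwa [Units.val_pow_eq_pow_val] at this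
  rw [hxk, show k + orderOf z = (k + orderOf z - 1) + 1 by have := orderOf_pos z; omega]
  exact hp _

/-- Let F be a finite field and n ≥ 3. Then SL_n(F) is generated by three conjugate regular unipotent elements: there are u with u − 1 nilpotent and (u − 1)^(n−1) ≠ 0, and g, h, such that u, g u g⁻¹ and h u h⁻¹ generate SL_n(F). -/
theorem result {F : Type*} [Field F] [Fintype F] (n : ℕ) (hn : 3 ≤ n) :
    ∃ u g h : Matrix.SpecialLinearGroup (Fin n) F, (IsNilpotent ((u : Matrix (Fin n) (Fin n) F) - 1) ∧ ((u : Matrix (Fin n) (Fin n) F) - 1) ^ (n - 1) ≠ 0) ∧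
      Subgroup.closure ({u, g * u * g⁻¹, h * u * h⁻¹} : Set (Matrix.SpecialLinearGroup (Fin n) F)) = ⊤ := by
  obtain ⟨m, rfl⟩ : ∃ m, n = m + 1 := ⟨n - 1, by omega⟩
  obtain ⟨u, g, h, hu, htop⟩ := core (F := F) (m := m) (by omega)
  refine ⟨u, g, h, ?_, htop⟩
  have e : (u : Matrix (Fin (m + 1)) (Fin (m + 1)) F) - 1 = upN m F := by rw [hu, add_sub_cancel_left]
  rw [e, Nat.add_sub_cancel]
  exact ⟨⟨m + 1, upN_isNilpotent_pow.1⟩, upN_isNilpotent_pow.2⟩

end Cfsg.Agent.S2280
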