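import Cfsg.Statements.S2281
import Cfsg.Agent.Lib.Classical.SpUnipotentOdd
import Cfsg.Agent.Lib.Classical.SpUnipotentTwo
import Cfsg.Agent.S2278
import Cfsg.Agent.S2279

set_option autoImplicit false
open Cfsg

namespace Cfsg.Agent.S2281

open CfsgLib.Classical.UnipotentGen CfsgLib.Classical.SpUnipotent CfsgLib.MinDeg

/-- A regular conjugate generating `SL` together with the standard one. -/
theorem sl_pair {F : Type*} [Field F] [Fintype F] {m : ℕ} (hm : 2 ≤ m) :
    ∃ (G : GL (Fin (m + 1)) F) (u : Matrix.SpecialLinearGroup (Fin (m + 1)) F),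
      G.val * loW m F = u.1 * G.val ∧
      Subgroup.closure ({u, loU m F} : Set (Matrix.SpecialLinearGroup (Fin (m + 1)) F)) = ⊤ := by
  rcases (by omega : m = 2 ∨ 3 ≤ m) with rfl | hm3
  · obtain ⟨g, hg⟩ : ∃ g : Matrix.SpecialLinearGroup (Fin 3) F,
        Subgroup.closure ({loU 2 F, g * loU 2 F * g⁻¹} : Set (Matrix.SpecialLinearGroup (Fin 3) F)) = ⊤ := by
      obtain ⟨z, hz⟩ := IsCyclic.exists_generator (α := Fˣ)
      have := Fintype.one_lt_card (α := F)
      rcases (by omega : (Fintype.card F = 2 ∨ Fintype.card F = 4) ∨ (Fintype.card F = 3 ∨ 5 ≤ Fintype.card F))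
        with h | h
      · exact S2278.small h
      · exact S2278.big z hz h
    refine ⟨Matrix.SpecialLinearGroup.toGL g, g * loU 2 F * g⁻¹, ?_, by rw [Set.pair_comm]; exact hg⟩
    show g.1 * (loU 2 F).1 = (g * loU 2 F * g⁻¹).1 * g.1
    rw [← Matrix.SpecialLinearGroup.coe_mul, ← Matrix.SpecialLinearGroup.coe_mul, inv_mul_cancel_right]
  · obtain ⟨u, hu, htop⟩ := S2279.any_case (F := F) hm3
    obtain ⟨G, hG⟩ := exists_gl_conj hu
    exact ⟨G, u, hG, htop⟩

/-- Let F be a finite field and n ≥ 2, excluding the case n = 2 with F of two elements (where the group is not quasisimple). Then the symplectic group Sp_2n(F) is generated by three conjugate regular unipotent elements: there are u ∈ Sp_2n(F) with u − 1 nilpotent and (u − 1)^(2n−1) ≠ 0, and g, h ∈ Sp_2n(F), such that u, g u g⁻¹ and h u h⁻¹ generate Sp_2n(F). -/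
theorem result {F : Type*} [Field F] [Fintype F] (n : ℕ) (hn : 2 ≤ n) (h22 : ¬ (n = 2 ∧ Fintype.card F = 2)) :
    ∃ u g h : Matrix.symplecticGroup (Fin n) F,
      IsNilpotent ((u : Matrix (Fin n ⊕ Fin n) (Fin n ⊕ Fin n) F) - 1) ∧
      ((u : Matrix (Fin n ⊕ Fin n) (Fin n ⊕ Fin n) F) - 1) ^ (2 * n - 1) ≠ 0 ∧
      Subgroup.closure ({u, g * u * g⁻¹, h * u * h⁻¹} : Set (Matrix.symplecticGroup (Fin n) F)) = ⊤ := by
  classical
  obtain ⟨m, rfl⟩ : ∃ m, n = m + 1 := ⟨n - 1, by omega⟩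
  by_cases h2 : (2 : F) = 0
  · rcases (by omega : m = 1 ∨ 2 ≤ m) with rfl | hm
    · have h4 : 3 ≤ Fintype.card F := by
        have := Fintype.one_lt_card (α := F)
        omega
      obtain ⟨G, hG⟩ := two_small h2 h4
      exact ⟨u1 F 1, levi G, SymplecticGroup.symJ _ _, reg_u1.1, reg_u1.2, hG⟩
    · obtain ⟨G, u, hG, htop⟩ := sl_pair (F := F) hm
      exact ⟨u1 F m, levi G, SymplecticGroup.symJ _ _, reg_u1.1, reg_u1.2, two_big h2 hm G u hG htop⟩
  · exact odd_case (by omega) h2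

end Cfsg.Agent.S2281
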