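import Cfsg.Statements.S2282
import Cfsg.Agent.Lib.Classical.SUUnipotentThree
import Cfsg.Agent.Lib.Classical.HermMatrixSimple
import Cfsg.Agent.Lib.Involution.SURegularUnipotent

set_option autoImplicit false
open Cfsg

namespace Cfsg.Agent.S2282

open CfsgLib.Classical CfsgLib.Classical.SUUnipotent

/-- A regular unipotent element of the special unitary group. -/
theorem exists_regular {F : Type*} [Field F] [Fintype F] {q n : ℕ} {σ : F →+* F} (hF : Fintype.card F = q ^ 2)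
    (hσ : ∀ x, σ x = x ^ q) (hn : 2 ≤ n) :
    ∃ u : Cfsg.SU n F q, IsNilpotent (((u : Matrix.SpecialLinearGroup (Fin n) F) : Matrix (Fin n) (Fin n) F) - 1) ∧
      (((u : Matrix.SpecialLinearGroup (Fin n) F) : Matrix (Fin n) (Fin n) F) - 1) ^ (n - 1) ≠ 0 ∧
      CfsgLib.KnownC.RegNilp.Reg (nil (suEquiv (σ := σ) hσ u).1) := by
  classical
  obtain ⟨w, hw⟩ := CfsgLib.Involution.SURegularUnipotent.exists_GU (q := q) (n := n) hF hσ (by omega)
  have hdet := CfsgLib.Involution.SURegularUnipotent.det_eq_one hw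
  obtain ⟨u, hu⟩ : w ∈ (suToGU n F q).range := by
    rw [suToGU_range hσ, MonoidHom.mem_ker, guDet_eq_one_iff]
    exact Units.ext hdet
  have hM : ((u : Matrix.SpecialLinearGroup (Fin n) F) : Matrix (Fin n) (Fin n) F) = w.1.val := by
    rw [← hu]; rfl
  rw [← hM] at hw
  set M := ((u : Matrix.SpecialLinearGroup (Fin n) F) : Matrix (Fin n) (Fin n) F)
  have hnil : (M - 1) ^ n = 0 := hw.1
  have hreg := CfsgLib.KnownC.RegNilp.reg_of_matrix (M - 1) (by rw [Fintype.card_fin]; exact hnil)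
    (by rw [Fintype.card_fin]; exact hw.2)
  have e : nil (suEquiv (σ := σ) hσ u).1 = Matrix.toLinAlgEquiv' (M - 1) := LinearMap.ext fun x => by
    rw [nil_apply, suEquiv_apply, map_sub, map_one, LinearMap.sub_apply, Module.End.one_apply]
    rfl
  refine ⟨u, ⟨n, hnil⟩, fun h0 => ?_, e ▸ hreg⟩
  obtain ⟨v, hv⟩ := CfsgLib.KnownC.RegNilp.exists_cyclic hreg (by rw [Module.finrank_fin_fun]; omega)
  rw [Module.finrank_fin_fun, ← map_pow, h0, map_zero, LinearMap.zero_apply] at hv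
  exact hv rfl

/-- Let F be a field with q² elements, n ≥ 3 odd with (n, q) ≠ (3, 2), and SU_n(q) the special unitary group of the standard Hermitian form Σ u_i v_i^q. Then SU_n(q) is generated by three conjugate regular unipotent elements: there are u ∈ SU_n(q) with u − 1 nilpotent and (u − 1)^(n−1) ≠ 0, and g, h ∈ SU_n(q), such that u, g u g⁻¹ and h u h⁻¹ generate SU_n(q). -/
theorem result {F : Type*} [Field F] [Fintype F] (q : ℕ) (hF : Fintype.card F = q ^ 2) (n : ℕ) (hn : 3 ≤ n) (hodd : Odd n) (h32 : ¬ (n = 3 ∧ q = 2)) :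
    ∃ u g h : ↥(Cfsg.SU n F q), (IsNilpotent (((u : Matrix.SpecialLinearGroup (Fin n) F) : Matrix (Fin n) (Fin n) F) - 1) ∧ (((u : Matrix.SpecialLinearGroup (Fin n) F) : Matrix (Fin n) (Fin n) F) - 1) ^ (n - 1) ≠ 0) ∧
      Subgroup.closure ({u, g * u * g⁻¹, h * u * h⁻¹} : Set ↥(Cfsg.SU n F q)) = ⊤ := by
  classical
  obtain ⟨σ, hσ, hc⟩ := exists_frob hF
  have hB := stdHerm_isHermitian hc n
  have hN := stdHerm_sepRight (σ := σ) n
  have hq := two_le_of_card_sq hF
  have hfr : Module.finrank F (Fin n → F) = n := Module.finrank_fin_fun F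
  obtain ⟨u, hu1, hu2, hreg⟩ := exists_regular hF hσ (n := n) (by omega)
  set w := suEquiv (σ := σ) hσ u with hw
  have hwd : idet (stdHerm σ n) w.1 = 1 := MonoidHom.mem_ker.1 w.2
  have hex : 3 ≤ Module.finrank F (Fin n → F) → BigFixed σ ∨ 4 ≤ Module.finrank F (Fin n → F) := fun _ => by
    rw [hfr]
    by_cases h4 : 4 ≤ n
    · exact Or.inr h4
    · exact Or.inl (bigFixed_of_le hF hσ hc (by omega))
  obtain ⟨g, k, hg, hk, hle⟩ : ∃ g k : isomGroup (stdHerm σ n), idet _ g = 1 ∧ idet _ k = 1 ∧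
      tGroup (stdHerm σ n) ≤ Subgroup.closure {w.1, g * w.1 * g⁻¹, k * w.1 * k⁻¹} := by
    obtain ⟨m, hm⟩ := hodd
    rcases (by omega : n = 3 ∨ 5 ≤ n) with h3 | h5
    · exact three_case hB hN hreg hwd (by rw [hfr, h3]) (bigFixed_of_le hF hσ hc (by omega))
    · exact big_case hB hreg hN (by rw [hfr]; exact h5)
  let g' : sIsom (stdHerm σ n) := ⟨g, MonoidHom.mem_ker.2 hg⟩
  let k' : sIsom (stdHerm σ n) := ⟨k, MonoidHom.mem_ker.2 hk⟩
  refine ⟨u, (suEquiv hσ).symm g', (suEquiv hσ).symm k', ⟨hu1, hu2⟩, ?_⟩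
  apply Subgroup.map_injective (suHom_injective (n := n) (σ := σ) hσ)
  rw [MonoidHom.map_closure, ← MonoidHom.range_eq_map, suHom_range]
  have hh : ∀ x : Cfsg.SU n F q, suHom hσ x = (suEquiv (σ := σ) hσ x).1 := fun x => rfl
  have himg : (suHom (σ := σ) hσ) '' {u, (suEquiv hσ).symm g' * u * ((suEquiv hσ).symm g')⁻¹,
      (suEquiv hσ).symm k' * u * ((suEquiv hσ).symm k')⁻¹} = {w.1, g * w.1 * g⁻¹, k * w.1 * k⁻¹} := by
    rw [Set.image_insert_eq, Set.image_pair]
    simp [hh, hw, g', k']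
  rw [himg]
  refine (le_antisymm ((Subgroup.closure_le _).2 fun x hx => ?_) hle).trans (hB.sIsom_eq_tGroup hN hex).symm
  refine (hB.sIsom_eq_tGroup hN hex).le (MonoidHom.mem_ker.2 ?_)
  rcases hx with rfl | rfl | rfl <;> simp [map_mul, hwd, hg, hk]

end Cfsg.Agent.S2282
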