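import Cfsg.Statements.S2283
import Cfsg.Agent.S2282
import Cfsg.Agent.Lib.Classical.SUUnipotentPairCases

set_option autoImplicit false
open Cfsg

namespace Cfsg.Agent.S2283

open CfsgLib.Classical CfsgLib.Classical.SUUnipotent

/-- Let F be a field with q² elements, q ≥ 3, and SU_3(q) the special unitary group of the standard Hermitian form. Then SU_3(q) is generated by two conjugate regular unipotent elements: there are u ∈ SU_3(q) with u − 1 nilpotent and (u − 1)² ≠ 0, and g ∈ SU_3(q), such that u and g u g⁻¹ generate SU_3(q). -/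
theorem result {F : Type*} [Field F] [Fintype F] (q : ℕ) (hq : 3 ≤ q) (hF : Fintype.card F = q ^ 2) :
    ∃ u g : ↥(Cfsg.SU 3 F q), (IsNilpotent (((u : Matrix.SpecialLinearGroup (Fin 3) F) : Matrix (Fin 3) (Fin 3) F) - 1) ∧ (((u : Matrix.SpecialLinearGroup (Fin 3) F) : Matrix (Fin 3) (Fin 3) F) - 1) ^ (3 - 1) ≠ 0) ∧
      Subgroup.closure ({u, g * u * g⁻¹} : Set ↥(Cfsg.SU 3 F q)) = ⊤ := by
  classical
  obtain ⟨σ, hσ, hc⟩ := exists_frob hF
  have hB := stdHerm_isHermitian hc 3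
  have hN := stdHerm_sepRight (σ := σ) 3
  have hfr : Module.finrank F (Fin 3 → F) = 3 := Module.finrank_fin_fun F
  obtain ⟨u, hu1, hu2, hreg⟩ := S2282.exists_regular hF hσ (n := 3) (by omega)
  set w := suEquiv (σ := σ) hσ u with hw
  have hwd : idet (stdHerm σ 3) w.1 = 1 := MonoidHom.mem_ker.1 w.2
  have hex : 3 ≤ Module.finrank F (Fin 3 → F) → BigFixed σ ∨ 4 ≤ Module.finrank F (Fin 3 → F) := fun _ =>
    Or.inl (bigFixed_of_le hF hσ hc hq)
  obtain ⟨k, hk, hle⟩ : ∃ k : isomGroup (stdHerm σ 3), idet _ k = 1 ∧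
      tGroup (stdHerm σ 3) ≤ Subgroup.closure {w.1, k * w.1 * k⁻¹} := by
    by_cases h5 : q = 5
    · subst h5; exact pair_five hB hN hreg hwd hfr hF hσ
    by_cases h8 : q = 8
    · subst h8; exact pair_eight hB hN hreg hwd hfr hF hσ
    exact pair_generic hB hN hreg hwd hfr hF hσ hq h5 h8
  let k' : sIsom (stdHerm σ 3) := ⟨k, MonoidHom.mem_ker.2 hk⟩
  refine ⟨u, (suEquiv hσ).symm k', ⟨hu1, hu2⟩, ?_⟩
  apply Subgroup.map_injective (suHom_injective (n := 3) (σ := σ) hσ)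
  rw [MonoidHom.map_closure, ← MonoidHom.range_eq_map, suHom_range]
  have hh : ∀ x : Cfsg.SU 3 F q, suHom hσ x = (suEquiv (σ := σ) hσ x).1 := fun x => rfl
  have himg : (suHom (σ := σ) hσ) '' {u, (suEquiv hσ).symm k' * u * ((suEquiv hσ).symm k')⁻¹} =
      {w.1, k * w.1 * k⁻¹} := by
    rw [Set.image_pair]
    simp [hh, hw, k']
  rw [himg]
  refine (le_antisymm ((Subgroup.closure_le _).2 fun x hx => ?_) hle).trans (hB.sIsom_eq_tGroup hN hex).symm
  refine (hB.sIsom_eq_tGroup hN hex).le (MonoidHom.mem_ker.2 ?_)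
  rcases hx with rfl | rfl <;> simp [map_mul, hwd, hk]

end Cfsg.Agent.S2283
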