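import Cfsg.Statements.S2286
import Cfsg.Agent.Lib.KnownB.Pres.SL2Pres

set_option autoImplicit false
open Cfsg CfsgLib.SL2Pres

namespace Cfsg.Agent.S2286

open Matrix in
theorem pres_both {F : Type*} [Field F] [Fintype F] :
    (∃ rels : Finset (FreeGroup (Fin 3)), rels.card ≤ 9 ∧ Nonempty (PresentedGroup (↑rels : Set (FreeGroup (Fin 3))) ≃* Matrix.SpecialLinearGroup (Fin 2) F)) ∧
    (∃ rels : Finset (FreeGroup (Fin 3)), rels.card ≤ 9 ∧ Nonempty (PresentedGroup (↑rels : Set (FreeGroup (Fin 3))) ≃* Matrix.ProjectiveSpecialLinearGroup (Fin 2) F)) ∧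
    (CharP F 2 → ∃ rels : Finset (FreeGroup (Fin 3)), rels.card ≤ 5 ∧ Nonempty (PresentedGroup (↑rels : Set (FreeGroup (Fin 3))) ≃* Matrix.ProjectiveSpecialLinearGroup (Fin 2) F)) := by
  classical
  obtain ⟨p, hc⟩ := CharP.exists F
  haveI : Fact p.Prime := ⟨CharP.char_is_prime F p⟩
  letI : Algebra (ZMod p) F := ZMod.algebra F p
  obtain ⟨g, hg⟩ := IsCyclic.exists_generator (α := Fˣ)
  set w : F := (g : F) with hwd
  have hw : w ≠ 0 := Units.ne_zero g
  have hgen : ∀ x : F, x ≠ 0 → ∃ e : ℕ, w ^ e = x := fun x hx => by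
    obtain ⟨e, he⟩ := Submonoid.mem_powers_iff _ _ |>.1 (mem_powers_iff_mem_zpowers.2 (hg (Units.mk0 x hx)))
    exact ⟨e, by rw [hwd, ← Units.val_pow_eq_pow_val, he, Units.val_mk0]⟩
  set q := Fintype.card F with hq
  have hq2 : 2 ≤ q := Fintype.one_lt_card
  have hwq : w ^ (q - 1) = 1 := FiniteField.pow_card_sub_one_eq_one w hw
  have hsl : Nat.card (SpecialLinearGroup (Fin 2) F) = (q - 1) * Nat.card F * (Nat.card F + 1) := by
    rw [CfsgLib.Classical.card_sl2 rfl, Nat.card_eq_fintype_card (α := F), ← hq]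
    obtain ⟨r, hr⟩ : ∃ r, q = r + 1 := ⟨q - 1, by omega⟩
    have e : (r + 1) ^ 2 - 1 = r * (r + 2) := by
      rw [show (r + 1) ^ 2 = r * (r + 2) + 1 by ring, Nat.add_sub_cancel]
    rw [hr, Nat.add_sub_cancel, e]
    ring
  let πq : SpecialLinearGroup (Fin 2) F →* ProjectiveSpecialLinearGroup (Fin 2) F := QuotientGroup.mk' _
  have hπq : Function.Surjective πq := QuotientGroup.mk'_surjective _
  have hpsl := CfsgLib.Classical.card_psl_mul (F := F) (q := q) rfl 2 (by norm_num)
  have hP : Finite (ProjectiveSpecialLinearGroup (Fin 2) F) := Finite.of_surjective πq hπq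
  by_cases hp2 : p = 2
  · subst hp2
    have hodd : Nat.gcd 2 (q - 1) = 1 := by
      have he : Fintype.card F % 2 = 0 := FiniteField.even_card_of_char_two (ringChar.eq F 2)
      rw [← hq] at he
      have h2 : Odd (q - 1) := ⟨q / 2 - 1, by omega⟩
      exact (Nat.coprime_two_left.2 h2)
    rw [hodd, one_mul] at hpsl
    obtain ⟨r1, h1, e1⟩ := even_pres hgen hw (MonoidHom.id (SpecialLinearGroup (Fin 2) F)) Function.surjective_id
      (q - 1) (by omega) hsl.ge hwq
    obtain ⟨r2, h2, e2⟩ := even_pres hgen hw πq hπq (q - 1) (by omega) (by rw [hpsl, hsl]) hwq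
    exact ⟨⟨r1, h1.trans (by norm_num), e1⟩, ⟨r2, h2.trans (by norm_num), e2⟩, fun _ => ⟨r2, h2, e2⟩⟩
  have hp3 : 3 ≤ p := by have := (Fact.out : p.Prime).two_le; omega
  obtain ⟨m, hm⟩ : ∃ m, q = 2 * m + 1 := by
    have h1 : ringChar F ≠ 2 := by rw [ringChar.eq F p]; exact hp2
    have := FiniteField.odd_card_of_char_ne_two h1
    rw [← hq] at this
    exact ⟨q / 2, by omega⟩
  have hwm : w ^ m = -1 := by
    have h2 : (w ^ m) ^ 2 = 1 := by
      rw [← pow_mul, show m * 2 = q - 1 by omega, hwq]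
    rcases sq_eq_one_iff.1 h2 with h | h
    · exfalso
      have h' : g ^ m = 1 := Units.ext (by rw [Units.val_pow_eq_pow_val, Units.val_one]; exact h)
      have ho : orderOf g = q - 1 := by
        rw [orderOf_eq_card_of_forall_mem_zpowers hg, Nat.card_units, Nat.card_eq_fintype_card]
      have := orderOf_le_of_pow_eq_one (by omega) h'
      omega
    · exact h
  refine ⟨?_, ?_, fun h2 => absurd (CharP.eq F hc h2) hp2⟩
  · refine odd_pres hp3 hgen hw (MonoidHom.id (SpecialLinearGroup (Fin 2) F)) Function.surjective_id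
      (rl (TF ^ 2 * UF) (UF * TF ^ 2)) ?_ ?_ (q - 1) (by omega) hsl.ge (Or.inl hwq)
    · simp only [map_rl, map_mul, map_pow, FreeGroup.lift_apply_of, Matrix.cons_val_zero, Matrix.cons_val_two,
        Matrix.tail_cons, Matrix.head_cons]
      simp only [uG, MonoidHom.comp_apply, MonoidHom.id_apply]
      apply Matrix.SpecialLinearGroup.ext
      intro a b
      simp only [pow_two, Matrix.SpecialLinearGroup.coe_mul, jSL_coe, CfsgLib.Classical.uSL_coe]
      fin_cases a <;> fin_cases b <;> simp [Matrix.mul_apply, Fin.sum_univ_two]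
    · intro P _ f hz
      rw [map_rl, map_mul, map_mul, map_pow] at hz
      exact hz
  · refine odd_pres hp3 hgen hw πq hπq (rl (TF ^ 2) 1) ?_ ?_ m (by omega) ?_ (Or.inr ⟨hwm, rfl⟩)
    · simp only [map_rl, map_pow, map_one, FreeGroup.lift_apply_of, Matrix.cons_val_two, Matrix.tail_cons,
        Matrix.head_cons]
      rw [← map_pow]
      refine (QuotientGroup.eq_one_iff _).2 (Subgroup.mem_center_iff.2 fun x => ?_)
      apply Matrix.SpecialLinearGroup.ext
      intro a b
      simp only [pow_two, Matrix.SpecialLinearGroup.coe_mul, jSL_coe]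
      fin_cases a <;> fin_cases b <;> simp [Matrix.mul_apply, Fin.sum_univ_two]
    · intro P _ f hz
      rw [map_rl, map_pow, map_one] at hz
      rw [hz]
      exact Commute.one_left _
    · have hg2 : Nat.gcd 2 (q - 1) = 2 := Nat.gcd_eq_left (by omega)
      rw [hg2, hsl, show q - 1 = 2 * m by omega, mul_assoc, mul_assoc] at hpsl
      rw [mul_assoc]
      omega

/-- For every finite field F, SL_2(F) and PSL_2(F) have presentations with 3 generators and at most 9 relations; when F has characteristic 2, PSL_2(F) has a presentation with 3 generators and at most 5 relations. -/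
theorem result {F : Type*} [Field F] [Fintype F] :
    (∃ rels : Finset (FreeGroup (Fin 3)), rels.card ≤ 9 ∧ Nonempty (PresentedGroup (↑rels : Set (FreeGroup (Fin 3))) ≃* Matrix.SpecialLinearGroup (Fin 2) F)) ∧ (∃ rels : Finset (FreeGroup (Fin 3)), rels.card ≤ 9 ∧ Nonempty (PresentedGroup (↑rels : Set (FreeGroup (Fin 3))) ≃* Matrix.ProjectiveSpecialLinearGroup (Fin 2) F)) ∧
    (CharP F 2 → ∃ rels : Finset (FreeGroup (Fin 3)), rels.card ≤ 5 ∧ Nonempty (PresentedGroup (↑rels : Set (FreeGroup (Fin 3))) ≃* Matrix.ProjectiveSpecialLinearGroup (Fin 2) F)) := by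
  exact pres_both

end Cfsg.Agent.S2286
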