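import Cfsg.Statements.S2290
import Cfsg.Agent.Lib.KnownB.SLPres.AltPres
import Cfsg.Agent.Lib.KnownB.SLPres.Three
import Cfsg.Agent.S2278
import Cfsg.Agent.S2279

set_option autoImplicit false
open Cfsg

namespace Cfsg.Agent.S2290

open CfsgLib.SLPres CfsgLib.Presentations in
/-- For every finite field F with q elements and n ≥ 2, with q ≥ 4 when n = 2, the simple group PSL_n(F) has a presentation with 2 generators and at most 80 relations. -/
theorem result {F : Type*} [Field F] [Fintype F] (n : ℕ) (hn : 2 ≤ n) (h2 : n = 2 → 4 ≤ Fintype.card F) :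
    ∃ rels : Finset (FreeGroup (Fin 2)), rels.card ≤ 80 ∧ Nonempty (PresentedGroup (↑rels : Set (FreeGroup (Fin 2))) ≃* Matrix.ProjectiveSpecialLinearGroup (Fin n) F) := by
  haveI : NeZero n := ⟨by omega⟩
  suffices h : ∃ (g k : ℕ) (t : Fin g → Matrix.SpecialLinearGroup (Fin n) F),
      HasPres g k t ⊤ ∧ k ≤ 77 ∧
      ∃ u v : Matrix.SpecialLinearGroup (Fin n) F,
        Subgroup.closure ({u, v} : Set (Matrix.SpecialLinearGroup (Fin n) F)) = ⊤ by
    obtain ⟨g, k, t, ht, hk, u, v, huv⟩ := h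
    have h2 := ht.of_generating ![u, v] (by
      rw [show Set.range ![u, v] = {u, v} by simp [Set.pair_comm]]; exact huv)
    obtain ⟨z, hz, hle⟩ := exists_center_gen (F := F) n
    exact hasPres_iso ((quotient_pres h2 _ z hz hle).mono (by omega))
  rcases (show n = 2 ∨ n = 3 ∨ 4 ≤ n by omega) with rfl | rfl | h4
  · obtain ⟨w, hw, -, a, hcl, rels, hk, e, -⟩ := exists_pair_pres (F := F)
    exact ⟨3, 7, _, hasPres_of_iso hk e, by norm_num, a, _, hcl⟩
  · obtain ⟨t, ht⟩ := pres_sl_three (F := F)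
    obtain ⟨u, g, -, -, hug⟩ := Cfsg.Agent.S2278.result (F := F)
    exact ⟨4, 44, t, ht, by norm_num, u, _, hug⟩
  · obtain ⟨t, ht⟩ := sl_pres_counts (F := F) h4
    obtain ⟨⟨u, v, -, -, huv⟩, -⟩ := Cfsg.Agent.S2279.result (F := F) n h4
    exact ⟨7, 25, t, ht, by norm_num, u, v, huv⟩

end Cfsg.Agent.S2290
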