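import Cfsg.Statements.S2291
import Cfsg.Agent.Lib.KnownB.SU3Pres.Main
import Cfsg.Agent.Lib.KnownA.HermTwoGen.Main

set_option autoImplicit false
open Cfsg

namespace Cfsg.Agent.S2291

/-- Let F be a field with q² elements and n ≥ 3 with (n, q) ≠ (3, 2). Then the simple group PSU_n(q) (for the standard Hermitian form) has a presentation with 2 generators and at most 80 relations. -/
theorem result {F : Type*} [Field F] [Fintype F] (q n : ℕ) (hF : Fintype.card F = q ^ 2) (hn : 3 ≤ n) (h32 : ¬ (n = 3 ∧ q = 2)) :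
    ∃ rels : Finset (FreeGroup (Fin 2)), rels.card ≤ 80 ∧ Nonempty (PresentedGroup (↑rels : Set (FreeGroup (Fin 2))) ≃* Cfsg.PSU n F q) := by
  classical
  obtain ⟨a, b, hab⟩ := CfsgLib.KnownA.HermTwoGen.psu_two (n := n) hF hn fun h3 h2 => h32 ⟨h3, h2⟩
  obtain ⟨g, k, hk, t, ht⟩ : ∃ g k : ℕ, k + 2 ≤ 80 ∧ ∃ t : Fin g → Cfsg.PSU n F q,
      CfsgLib.Presentations.HasPres g k t ⊤ := by
    rcases (show n = 3 ∨ 4 ≤ n by omega) with rfl | h4
    · obtain ⟨t, ht⟩ := CfsgLib.SU3Pres.su_three_pres hF (fun h2 => h32 ⟨rfl, h2⟩)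
      obtain ⟨s, hs⟩ := CfsgLib.SUPres.psu_pres hF (by norm_num) ht
      exact ⟨3, 21, by norm_num, s, hs⟩
    · obtain ⟨t, ht, -⟩ := CfsgLib.SUPres.su_pres_six hF h4
      obtain ⟨s, hs⟩ := CfsgLib.SUPres.psu_pres hF (by omega) ht
      exact ⟨6, 40, by norm_num, s, hs⟩
  have h2 := ht.of_generating ![a, b] (by
    rw [Matrix.range_cons, Matrix.range_cons, Matrix.range_empty, Set.union_empty, Set.singleton_union]
    exact hab)
  exact CfsgLib.SLPres.hasPres_iso (h2.mono hk)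

end Cfsg.Agent.S2291
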