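import Cfsg.Statements.S2411
import Cfsg.Agent.Lib.KnownA.SpTwoGen.Two

set_option autoImplicit false
open Cfsg

namespace Cfsg.Agent.S2411

/-- The projective symplectic group `PSp_{2m}(q)` with `m ≥ 2` (and `q > 2` if `m = 2`) is generated by two of its elements. -/
theorem result {F : Type*} [Field F] [Fintype F] (m : ℕ) (hm : 2 ≤ m) (hF : m = 2 → 2 < Fintype.card F) :
    ∃ a b : Cfsg.PSp m F, Subgroup.closure ({a, b} : Set (Cfsg.PSp m F)) = ⊤ := by
  classical
  obtain ⟨n, rfl⟩ : ∃ n, m = n + 1 := ⟨m - 1, by omega⟩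
  have hc : 1 < Fintype.card F := Fintype.one_lt_card
  have key : ∃ a b : CfsgLib.KnownA.SpTwoGen.Sp n F, Subgroup.closure {a, b} = ⊤ := by
    rcases Nat.lt_or_ge n 2 with h | h
    · obtain rfl : n = 1 := by omega
      exact CfsgLib.KnownA.SpTwoGen.gen_two (hF rfl)
    · rcases Nat.lt_or_ge (Fintype.card F) 3 with h2 | h2
      · have hq : Fintype.card F = 2 := by omega
        haveI : Fact (Nat.Prime 2) := ⟨Nat.prime_two⟩
        haveI : CharP F 2 := charP_of_card_eq_prime hq
        exact CfsgLib.KnownA.SpTwoGen.gen_char_two h hq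
      · exact CfsgLib.KnownA.SpTwoGen.gen_large h h2
  obtain ⟨a, b, hab⟩ := key
  let f : CfsgLib.KnownA.SpTwoGen.Sp n F →* Cfsg.PSp (n + 1) F :=
    (QuotientGroup.mk' _).comp (CfsgLib.Classical.spEquiv (n + 1)).symm.toMonoidHom
  have hf : Function.Surjective f := QuotientGroup.mk_surjective.comp
    (CfsgLib.Classical.spEquiv (n + 1)).symm.surjective
  refine ⟨f a, f b, ?_⟩
  rw [← Set.image_pair, ← MonoidHom.map_closure, hab, Subgroup.map_top_of_surjective f hf]

end Cfsg.Agent.S2411
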