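import Cfsg.Statements.S2292
import Cfsg.Agent.Lib.KnownB.SpPres.Counts
import Cfsg.Agent.S2411

set_option autoImplicit false
open Cfsg

namespace Cfsg.Agent.S2292

/-- Let F be a finite field with q elements and m ≥ 2 with (m, q) ≠ (2, 2). Then the simple group PSp_2m(F) has a presentation with 2 generators and at most 80 relations. -/
theorem result {F : Type*} [Field F] [Fintype F] (m : ℕ) (hm : 2 ≤ m) (h22 : ¬ (m = 2 ∧ Fintype.card F = 2)) :
    ∃ rels : Finset (FreeGroup (Fin 2)), rels.card ≤ 80 ∧ Nonempty (PresentedGroup (↑rels : Set (FreeGroup (Fin 2))) ≃* Cfsg.PSp m F) := by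
  suffices h : ∃ (g k : ℕ) (t : Fin g → Cfsg.PSp m F), CfsgLib.Presentations.HasPres g k t ⊤ ∧ k ≤ 78 by
    obtain ⟨g, k, t, ht, hk⟩ := h
    have hc : 1 < Fintype.card F := Fintype.one_lt_card
    obtain ⟨u, v, huv⟩ := Cfsg.Agent.S2411.result (F := F) m hm (fun e => by
      have : Fintype.card F ≠ 2 := fun e' => h22 ⟨e, e'⟩
      omega)
    have h2 := ht.of_generating ![u, v] (by
      rw [show Set.range ![u, v] = {u, v} by simp [Set.pair_comm]]; exact huv)
    exact CfsgLib.SLPres.hasPres_iso (h2.mono (by omega))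
  rcases (show m = 2 ∨ m = 3 ∨ 4 ≤ m by omega) with rfl | rfl | h4
  · obtain ⟨s, hs⟩ := CfsgLib.SpPres.pres_sp_two (F := F)
    obtain ⟨t, ht⟩ := CfsgLib.SpPres.psp_pres hs
    exact ⟨6, 35, t, ht, by norm_num⟩
  · obtain ⟨s, hs⟩ := CfsgLib.SpPres.sp_pres_three (F := F)
    obtain ⟨t, ht⟩ := CfsgLib.SpPres.psp_pres hs
    exact ⟨8, 53, t, ht, by norm_num⟩
  · obtain ⟨s, hs⟩ := CfsgLib.SpPres.sp_pres_counts (F := F) h4
    obtain ⟨t, ht⟩ := CfsgLib.SpPres.psp_pres hs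
    exact ⟨10, 59, t, ht, by norm_num⟩

end Cfsg.Agent.S2292
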