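import Cfsg.Statements.S2295
import Cfsg.Agent.Lib.KnownB.OPlusPres.Assemble

set_option autoImplicit false
open Cfsg

namespace Cfsg.Agent.S2295

/-- Let F be a finite field and n ≥ 4, and let Ω⁺_2n(F) be the commutator subgroup of the orthogonal group of the hyperbolic quadratic form Σ x_i y_i, with PΩ⁺_2n(F) its central quotient. Then Ω⁺_2n(F) has a presentation with 8 generators and at most 31 relations (at most 29 if n = 4 or 5), and PΩ⁺_2n(F) one with 8 generators and at most 32 relations (at most 30 if n = 4 or 5). -/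
theorem result {F : Type*} [Field F] [Fintype F] (n : ℕ) (hn : 4 ≤ n) :
    (∃ rels : Finset (FreeGroup (Fin 8)), rels.card ≤ 31 ∧ Nonempty (PresentedGroup (↑rels : Set (FreeGroup (Fin 8))) ≃* ↥(Cfsg.Omega F (Cfsg.quadFormPlus n F)))) ∧ (∃ rels : Finset (FreeGroup (Fin 8)), rels.card ≤ 32 ∧ Nonempty (PresentedGroup (↑rels : Set (FreeGroup (Fin 8))) ≃* Cfsg.POmega F (Cfsg.quadFormPlus n F))) ∧
    (n ≤ 5 → (∃ rels : Finset (FreeGroup (Fin 8)), rels.card ≤ 29 ∧ Nonempty (PresentedGroup (↑rels : Set (FreeGroup (Fin 8))) ≃* ↥(Cfsg.Omega F (Cfsg.quadFormPlus n F)))) ∧ (∃ rels : Finset (FreeGroup (Fin 8)), rels.card ≤ 30 ∧ Nonempty (PresentedGroup (↑rels : Set (FreeGroup (Fin 8))) ≃* Cfsg.POmega F (Cfsg.quadFormPlus n F)))) := by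
  obtain ⟨s, hs⟩ := CfsgLib.OPlusPres.oPlus_counts (F := F) hn
  obtain ⟨t, ht⟩ := CfsgLib.OPlusPres.pomega_pres hn hs
  refine ⟨CfsgLib.SLPres.hasPres_iso (hs.mono (by norm_num)), CfsgLib.SLPres.hasPres_iso (ht.mono (by norm_num)),
    fun h5 => ?_⟩
  obtain ⟨s, hs⟩ := CfsgLib.OPlusPres.oPlus_counts_small (F := F) (show n = 4 ∨ n = 5 by omega)
  obtain ⟨t, ht⟩ := CfsgLib.OPlusPres.pomega_pres hn hs
  exact ⟨CfsgLib.SLPres.hasPres_iso (hs.mono (by norm_num)), CfsgLib.SLPres.hasPres_iso (ht.mono (by norm_num))⟩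

end Cfsg.Agent.S2295
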