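import Cfsg.Statements.S2297
import Cfsg.Agent.Lib.Presentations.All

set_option autoImplicit false
open Cfsg

namespace Cfsg.Agent.S2297

/-- Let n ≥ 5 and let G be the symmetric group S_n or the alternating group A_n. If a and b generate G, then G has a presentation on two generators mapping to a and b with at most 9 relations: there is a set of at most 9 relators in the free group on two letters and an isomorphism from the presented group onto G sending the two letters to a and b. -/
theorem result (n : ℕ) (hn : 5 ≤ n) :
    (∀ a b : Equiv.Perm (Fin n), Subgroup.closure ({a, b} : Set (Equiv.Perm (Fin n))) = ⊤ →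
      ∃ rels : Finset (FreeGroup (Fin 2)), rels.card ≤ 9 ∧
        ∃ e : PresentedGroup (↑rels : Set (FreeGroup (Fin 2))) ≃* Equiv.Perm (Fin n),
          e (PresentedGroup.of 0) = a ∧ e (PresentedGroup.of 1) = b) ∧
    (∀ a b : ↥(alternatingGroup (Fin n)), Subgroup.closure ({a, b} : Set ↥(alternatingGroup (Fin n))) = ⊤ →
      ∃ rels : Finset (FreeGroup (Fin 2)), rels.card ≤ 9 ∧
        ∃ e : PresentedGroup (↑rels : Set (FreeGroup (Fin 2))) ≃* ↥(alternatingGroup (Fin n)),
          e (PresentedGroup.of 0) = a ∧ e (PresentedGroup.of 1) = b) := by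
  constructor
  · intro a b hab
    obtain ⟨t, ht⟩ := CfsgLib.Presentations.three_gen n hn false
    have hs : Subgroup.closure (Set.range ![a, b]) = CfsgLib.Presentations.target n false := by
      rw [show Set.range ![a, b] = {a, b} by simp [Set.pair_comm]]
      exact hab
    obtain ⟨rels, hk, e, he⟩ := (ht.of_generating ![a, b] hs).exists_equiv
    exact ⟨rels, hk, e.trans Subgroup.topEquiv, he 0, he 1⟩
  · intro a b hab
    obtain ⟨t, ht⟩ := CfsgLib.Presentations.three_gen n hn true
    have hs : Subgroup.closure (Set.range ![(a : Equiv.Perm (Fin n)), b]) = CfsgLib.Presentations.target n true := by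
      have h := congrArg (Subgroup.map (alternatingGroup (Fin n)).subtype) hab
      rw [MonoidHom.map_closure, Set.image_pair, ← MonoidHom.range_eq_map, Subgroup.range_subtype] at h
      rw [show Set.range ![(a : Equiv.Perm (Fin n)), b] = {(a : Equiv.Perm (Fin n)), (b : Equiv.Perm (Fin n))} by
        simp [Set.pair_comm]]
      exact h
    obtain ⟨rels, hk, e, he⟩ := (ht.of_generating ![(a : Equiv.Perm (Fin n)), b] hs).exists_equiv
    exact ⟨rels, hk, e, Subtype.ext (he 0), Subtype.ext (he 1)⟩

end Cfsg.Agent.S2297
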