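import Cfsg.Statements.S2303
import Cfsg.Agent.Lib.KnownB.GL2.Basics

set_option autoImplicit false
open Cfsg

namespace Cfsg.Agent.S2303

/-- Over a finite field with q elements: a diagonal element of GL₂ with two distinct diagonal entries has centralizer of order (q − 1)² (so q(q + 1) conjugates), and an element of GL₂ with no eigenvector in F² has centralizer of order q² − 1 (so q(q − 1) conjugates). -/
theorem result {F : Type*} [Field F] [Fintype F] (g : Matrix.GeneralLinearGroup (Fin 2) F) :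
    ((g : Matrix (Fin 2) (Fin 2) F) 0 1 = 0 → (g : Matrix (Fin 2) (Fin 2) F) 1 0 = 0 → (g : Matrix (Fin 2) (Fin 2) F) 0 0 ≠ (g : Matrix (Fin 2) (Fin 2) F) 1 1 →
      Nat.card (Subgroup.centralizer ({g} : Set (Matrix.GeneralLinearGroup (Fin 2) F))) = (Fintype.card F - 1) ^ 2) ∧
    ((∀ (c : F) (v : Fin 2 → F), v ≠ 0 → (g : Matrix (Fin 2) (Fin 2) F).mulVec v ≠ c • v) →
      Nat.card (Subgroup.centralizer ({g} : Set (Matrix.GeneralLinearGroup (Fin 2) F))) = Fintype.card F ^ 2 - 1) := by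
  refine ⟨fun h01 h10 hne => ?_, fun hno => ?_⟩
  · have hg : ¬ CfsgLib.KnownB.GL2.Scal (g : Matrix (Fin 2) (Fin 2) F) := fun h => hne h.2.2
    have h := CfsgLib.KnownB.GL2.card_centGL g hg
    have hs := CfsgLib.KnownB.GL2.card_rts_split hne
    rw [show (g : Matrix (Fin 2) (Fin 2) F).trace = (g : Matrix (Fin 2) (Fin 2) F) 0 0 + (g : Matrix (Fin 2) (Fin 2) F) 1 1 from
      Matrix.trace_fin_two _, show (g : Matrix (Fin 2) (Fin 2) F).det = (g : Matrix (Fin 2) (Fin 2) F) 0 0 * (g : Matrix (Fin 2) (Fin 2) F) 1 1 by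
      rw [Matrix.det_fin_two, h01]; ring, hs] at h
    obtain ⟨k, hk⟩ := Nat.exists_eq_add_of_le (Fintype.one_lt_card : 1 < Fintype.card F)
    rw [hk] at h ⊢
    rw [show Nat.succ 1 + k - 1 = k + 1 by omega] at h ⊢
    nlinarith
  · obtain ⟨hg, hr⟩ := CfsgLib.KnownB.GL2.elliptic_of_noEigen _ hno
    have h := CfsgLib.KnownB.GL2.card_centGL g hg
    rw [hr, Finset.card_empty] at h
    omega

end Cfsg.Agent.S2303
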