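import Cfsg.Statements.S2315
import Mathlib

set_option autoImplicit false
open Cfsg

namespace Cfsg.Agent.S2315

open Matrix Module

variable {K : Type*} [Field K] [Fintype K]

/-- The number of nilpotent `n` by `n` matrices. -/
noncomputable def nilCount (K : Type*) [Field K] (n : ℕ) : ℕ :=
  Nat.card {M : Matrix (Fin n) (Fin n) K // IsNilpotent M}

/-- The shift matrix. -/
def shift (K : Type*) [Field K] (d : ℕ) : Matrix (Fin d) (Fin d) K :=
  fun a i => if (a : ℕ) = i + 1 then 1 else 0

lemma shift_pow (d : ℕ) : ∀ k, ∀ a i : Fin d, (shift K d ^ k) a i ≠ 0 → (a : ℕ) = i + k := by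
  intro k
  induction k with
  | zero =>
    intro a i h
    rw [pow_zero, Matrix.one_apply] at h
    split at h
    · subst a; rfl
    · exact absurd rfl h
  | succ k ih =>
    intro a i h
    rw [pow_succ, Matrix.mul_apply] at h
    obtain ⟨b, -, hb⟩ := Finset.exists_ne_zero_of_sum_ne_zero h
    have h1 := ih a b (left_ne_zero_of_mul hb)
    have h2 := right_ne_zero_of_mul hb
    unfold shift at h2
    split at h2
    · omega
    · exact absurd rfl h2

lemma shift_nilpotent (d : ℕ) : shift K d ^ d = 0 := by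
  ext a i
  by_contra h
  have := shift_pow d d a i h
  omega

lemma blocks_nilpotent {d m : ℕ} (h : Matrix (Fin d) (Fin m) K) (g : Matrix (Fin m) (Fin m) K) :
    IsNilpotent (fromBlocks (shift K d) h 0 g) ↔ IsNilpotent g := by
  have hpow : ∀ k, ∃ h', fromBlocks (shift K d) h 0 g ^ k =
      fromBlocks (shift K d ^ k) h' 0 (g ^ k) := by
    intro k
    induction k with
    | zero => exact ⟨0, by simp [fromBlocks_one]⟩
    | succ k ih =>
      obtain ⟨h', e⟩ := ih
      exact ⟨shift K d ^ k * h + h' * g, by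
        rw [pow_succ, e, fromBlocks_multiply]; simp [pow_succ]⟩
  constructor
  · rintro ⟨k, hk⟩
    obtain ⟨h', e⟩ := hpow k
    rw [hk, ← fromBlocks_zero] at e
    exact ⟨k, (fromBlocks_inj.1 e).2.2.2.symm⟩
  · rintro ⟨k, hk⟩
    obtain ⟨h1, e1⟩ := hpow d
    obtain ⟨h2, e2⟩ := hpow k
    refine ⟨d + k, ?_⟩
    rw [pow_add, e1, e2, shift_nilpotent, hk, fromBlocks_multiply]
    simp

variable {n : ℕ}

/-- The vector following the `i`-th one. -/
def next {V : Type*} [Zero V] {d : ℕ} (t : Fin d → V) (i : Fin d) : V :=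
  if h : (i : ℕ) + 1 < d then t ⟨i + 1, h⟩ else 0

lemma card_fiber {d : ℕ} {t : Fin d → (Fin n → K)} (ht : LinearIndependent K t) :
    Nat.card {f : Module.End K (Fin n → K) // IsNilpotent f ∧ ∀ i, f (t i) = next t i} =
      Fintype.card K ^ (d * (n - d)) * nilCount K (n - d) := by
  classical
  obtain ⟨C, hC⟩ := Submodule.exists_isCompl (Submodule.span K (Set.range t))
  have hd : finrank K (Submodule.span K (Set.range t)) = d := by
    rw [finrank_span_eq_card ht, Fintype.card_fin]
  have hCd : finrank K C = n - d := by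
    have h := Submodule.finrank_add_eq_of_isCompl hC
    rw [hd, Module.finrank_fin_fun] at h
    omega
  let b : Basis (Fin d ⊕ Fin (n - d)) K (Fin n → K) :=
    ((Basis.span ht).prod (Module.finBasisOfFinrankEq K C hCd)).map
      (Submodule.prodEquivOfIsCompl _ _ hC)
  have hb : ∀ i, b (Sum.inl i) = t i := fun i => by
    simp [b, Basis.span_apply]
  let e : Module.End K (Fin n → K) ≃ₐ[K] Matrix (Fin d ⊕ Fin (n - d)) (Fin d ⊕ Fin (n - d)) K :=
    LinearMap.toMatrixAlgEquiv b
  have hnext : ∀ i a, b.repr (next t i) a = Sum.elim (fun j : Fin d => shift K d j i) (fun _ => 0) a := by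
    intro i a
    unfold next
    split
    · rename_i h
      rw [← hb, b.repr_self]
      rcases a with j | j
      · simp only [Sum.elim_inl, shift, Finsupp.single_apply, Sum.inl.injEq, Fin.ext_iff]
        split <;> rename_i h' <;> split <;> rename_i h'' <;> first | rfl | omega
      · simp
    · rename_i h
      rw [map_zero]
      rcases a with j | j
      · have := j.2
        simp only [Sum.elim_inl, shift, Finsupp.zero_apply]
        rw [if_neg (by omega)]
      · simp
  have hiff : ∀ f, (IsNilpotent f ∧ ∀ i, f (t i) = next t i) ↔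
      IsNilpotent (e f) ∧ (e f).toBlocks₁₁ = shift K d ∧ (e f).toBlocks₂₁ = 0 := by
    intro f
    have he : ∀ a i, e f a (Sum.inl i) = b.repr (f (t i)) a := fun a i => by
      simp [e, LinearMap.toMatrixAlgEquiv_apply, hb]
    refine and_congr (IsNilpotent.map_iff e.injective).symm ⟨fun h => ⟨?_, ?_⟩, fun ⟨h1, h2⟩ i => ?_⟩
    · ext a i; simp [toBlocks₁₁, he, h, hnext]
    · ext a i; simp [toBlocks₂₁, he, h, hnext]
    · refine b.repr.injective (Finsupp.ext fun a => ?_)
      rw [hnext, ← he]
      rcases a with j | j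
      · exact congrFun (congrFun h1 j) i
      · exact congrFun (congrFun h2 j) i
  let eq1 : {M : Matrix (Fin d ⊕ Fin (n - d)) (Fin d ⊕ Fin (n - d)) K //
      IsNilpotent M ∧ M.toBlocks₁₁ = shift K d ∧ M.toBlocks₂₁ = 0} ≃
      Matrix (Fin d) (Fin (n - d)) K × {g : Matrix (Fin (n - d)) (Fin (n - d)) K // IsNilpotent g} :=
    { toFun := fun M => (M.1.toBlocks₁₂, ⟨M.1.toBlocks₂₂, (blocks_nilpotent M.1.toBlocks₁₂ _).1
        (((fromBlocks_inj.2 ⟨M.2.2.1.symm, rfl, M.2.2.2.symm, rfl⟩).trans
          (fromBlocks_toBlocks M.1)).symm ▸ M.2.1)⟩)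
      invFun := fun x => ⟨fromBlocks (shift K d) x.1 0 x.2.1, (blocks_nilpotent _ _).2 x.2.2,
        toBlocks_fromBlocks₁₁ _ _ _ _, toBlocks_fromBlocks₂₁ _ _ _ _⟩
      left_inv := fun M => Subtype.ext (by
        show fromBlocks (shift K d) M.1.toBlocks₁₂ 0 M.1.toBlocks₂₂ = M.1
        exact (fromBlocks_inj.2 ⟨M.2.2.1.symm, rfl, M.2.2.2.symm, rfl⟩).trans
          (fromBlocks_toBlocks M.1))
      right_inv := fun x => Prod.ext (toBlocks_fromBlocks₁₂ _ _ _ _)
        (Subtype.ext (toBlocks_fromBlocks₂₂ _ _ _ _)) }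
  rw [Nat.card_congr ((e.toEquiv.subtypeEquiv hiff).trans eq1), Nat.card_prod, nilCount]
  simp [Matrix, Nat.card_pi, pow_mul, ← pow_mul, mul_comm]

/-- The starting vector of a chain. -/
def start {V : Type*} [Zero V] {d : ℕ} (t : Fin d → V) : V :=
  if h : 0 < d then t ⟨0, h⟩ else 0

lemma pow_start {d : ℕ} {t : Fin d → (Fin n → K)} {f : Module.End K (Fin n → K)}
    (hf : ∀ i, f (t i) = next t i) :
    ∀ k, (f ^ k) (start t) = if h : k < d then t ⟨k, h⟩ else 0 := by
  intro k
  induction k with
  | zero => simp [start]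
  | succ k ih =>
    rw [pow_succ', Module.End.mul_apply, ih]
    by_cases h : k < d
    · rw [dif_pos h, hf, next]
    · rw [dif_neg h, map_zero, dif_neg (by omega)]

lemma card_pairs : Fintype.card K ^ n * nilCount K n =
    ∑ d : Fin (n + 1), (∏ i : Fin d, (Fintype.card K ^ n - Fintype.card K ^ (i : ℕ))) *
      (Fintype.card K ^ ((d : ℕ) * (n - d)) * nilCount K (n - d)) := by
  classical
  let P := {x : Module.End K (Fin n → K) × (Fin n → K) // IsNilpotent x.1}
  have hP : Nat.card P = Fintype.card K ^ n * nilCount K n := by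
    let e1 : P ≃ {f : Module.End K (Fin n → K) // IsNilpotent f} × (Fin n → K) :=
      { toFun := fun x => (⟨x.1.1, x.2⟩, x.1.2)
        invFun := fun x => ⟨(x.1.1, x.2), x.1.2⟩
        left_inv := fun x => rfl
        right_inv := fun x => rfl }
    rw [Nat.card_congr e1, Nat.card_prod, mul_comm, nilCount,
      ← Nat.card_congr ((LinearMap.toMatrixAlgEquiv (Pi.basisFun K (Fin n))).toEquiv.subtypeEquiv
        (fun f => (IsNilpotent.map_iff (LinearMap.toMatrixAlgEquiv _).injective).symm))]
    simp [Nat.card_eq_fintype_card]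
  let Ψ : (Σ d : Fin (n + 1), Σ t : {t : Fin d → (Fin n → K) // LinearIndependent K t},
      {f : Module.End K (Fin n → K) // IsNilpotent f ∧ ∀ i, f (t.1 i) = next t.1 i}) → P :=
    fun x => ⟨(x.2.2.1, start x.2.1.1), x.2.2.2.1⟩
  have hΨ : Function.Bijective Ψ := by
    refine ⟨?_, ?_⟩
    · rintro ⟨d, ⟨t, ht⟩, f, hf, hft⟩ ⟨d', ⟨t', ht'⟩, f', hf', hft'⟩ hxy
      obtain ⟨hff, hst⟩ : f = f' ∧ start t = start t' :=
        Prod.ext_iff.1 (congrArg Subtype.val hxy)
      subst hff
      have hlt : ∀ {a c : Fin (n + 1)} {u : Fin a → (Fin n → K)} {w : Fin c → (Fin n → K)},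
          (∀ i, f (u i) = next u i) → (∀ i, f (w i) = next w i) → LinearIndependent K w →
          start u = start w → ¬ (a : ℕ) < c := by
        intro a c u w hu hw hwi hs hac
        have h1 := pow_start hu a
        rw [dif_neg (lt_irrefl _), hs, pow_start hw a, dif_pos hac] at h1
        exact hwi.ne_zero ⟨a, hac⟩ h1
      obtain rfl : d = d' := Fin.ext (le_antisymm
        (not_lt.1 (hlt (u := t') (w := t) hft' hft ht hst.symm))
        (not_lt.1 (hlt (u := t) (w := t') hft hft' ht' hst)))
      obtain rfl : t = t' := funext fun i => by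
        have h1 := pow_start hft i
        rw [hst, pow_start hft' i, dif_pos i.2, dif_pos i.2] at h1
        exact h1.symm
      rfl
    · rintro ⟨⟨f, v⟩, hf⟩
      have hex : ∃ k, (f ^ k) v = 0 := by
        obtain ⟨k, hk⟩ := hf; exact ⟨k, by rw [show f ^ k = 0 from hk]; rfl⟩
      set d := Nat.find hex with hd
      have hd0 : (f ^ d) v = 0 := Nat.find_spec hex
      have hli : LinearIndependent K (fun i : Fin d => (f ^ (i : ℕ)) v) := by
        rw [Fintype.linearIndependent_iff]
        intro c hc
        by_contra hne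
        push Not at hne
        obtain ⟨i0, hi0⟩ := hne
        obtain ⟨i, hi, hmin⟩ := Finset.exists_minimal
          (s := Finset.univ.filter fun i => c i ≠ 0) ⟨i0, by simpa using hi0⟩
        have hci : c i ≠ 0 := by simpa using hi
        have h := congrArg (f ^ (d - 1 - i)) hc
        rw [map_sum, map_zero, Finset.sum_eq_single i] at h
        · rw [map_smul, ← Module.End.mul_apply, ← pow_add,
            show d - 1 - i + i = d - 1 by omega, smul_eq_zero] at h
          have := i.2
          exact Nat.find_min hex (show d - 1 < d by omega) (h.resolve_left hci)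
        · intro j _ hji
          rw [map_smul, ← Module.End.mul_apply, ← pow_add]
          by_cases hj : c j = 0
          · rw [hj, zero_smul]
          have : i < j := by
            rcases lt_trichotomy i j with h' | h' | h'
            · exact h'
            · exact absurd h'.symm hji
            · exact absurd (hmin (by simpa using hj : j ∈ _) h'.le) (not_le.2 h')
          rw [show d - 1 - i + j = (j - i - 1 : ℕ) + d by omega, pow_add, Module.End.mul_apply,
            hd0, map_zero, smul_zero]
        · simp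
      have hdn : d ≤ n := by
        have := hli.fintype_card_le_finrank
        rwa [Fintype.card_fin, Module.finrank_fin_fun] at this
      refine ⟨⟨⟨d, by omega⟩, ⟨fun i => (f ^ (i : ℕ)) v, hli⟩, f, hf, fun i => ?_⟩, ?_⟩
      · simp only [next]
        rw [← Module.End.mul_apply, ← pow_succ']
        split
        · rfl
        · rename_i h
          have := i.2
          rw [show (i : ℕ) + 1 = d by simp only at h this; omega]; exact hd0
      · refine Subtype.ext (Prod.ext rfl ?_)
        simp only [Ψ, start]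
        split
        · show (f ^ 0) v = v
          rw [pow_zero]; rfl
        · rename_i h
          try simp only at h
          have hd0' : d = 0 := by omega
          rw [hd0'] at hd0
          simpa using hd0.symm
  haveI : Finite (Module.End K (Fin n → K)) := Finite.of_injective _ DFunLike.coe_injective
  rw [← hP, ← Nat.card_congr (Equiv.ofBijective Ψ hΨ), Nat.card_sigma]
  refine Finset.sum_congr rfl fun d _ => ?_
  rw [Nat.card_sigma, Finset.sum_congr rfl (fun t _ => card_fiber t.2), Finset.sum_const,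
    smul_eq_mul, Finset.card_univ, ← Nat.card_eq_fintype_card, card_linearIndependent
      (by rw [Module.finrank_fin_fun]; exact Nat.lt_succ_iff.1 d.2), Module.finrank_fin_fun]

lemma identity (q n : ℕ) (hq : 1 ≤ q) :
    ∑ d ∈ Finset.range (n + 1), (∏ i ∈ Finset.range d, (q ^ n - q ^ i)) * q ^ ((n - d) * (n - 1)) =
      q ^ (n * n) := by
  suffices ∀ k ≤ n, (∑ d ∈ Finset.range k,
      (∏ i ∈ Finset.range d, (q ^ n - q ^ i)) * q ^ ((n - d) * (n - 1))) +
      (∏ i ∈ Finset.range k, (q ^ n - q ^ i)) * q ^ ((n - k) * n) = q ^ (n * n) by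
    have h := this n le_rfl
    rw [Finset.sum_range_succ]
    simpa using h
  intro k hk
  induction k with
  | zero => simp
  | succ k ih =>
    rw [← ih (by omega), Finset.sum_range_succ, Finset.prod_range_succ, add_assoc, add_right_inj,
      mul_assoc, ← mul_add]
    congr 1
    obtain ⟨j, rfl⟩ : ∃ j, n = k + 1 + j := ⟨n - (k + 1), by omega⟩
    rw [show k + 1 + j - k = j + 1 by omega, show k + 1 + j - 1 = k + j by omega,
      show k + 1 + j - (k + 1) = j by omega]
    have hle : q ^ k ≤ q ^ (k + 1 + j) := Nat.pow_le_pow_right hq (by omega)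
    have e1 : q ^ ((j + 1) * (k + j)) = q ^ k * q ^ (j * (k + 1 + j)) := by
      rw [← pow_add]; congr 1; ring
    rw [e1, add_one_mul, pow_add q (j * _) (k + 1 + j), ← add_mul, Nat.add_sub_cancel' hle, mul_comm]

lemma nilCount_eq : ∀ n, nilCount K n = Fintype.card K ^ (n * (n - 1)) := by
  intro n
  induction n using Nat.strong_induction_on with
  | _ n ih =>
    set q := Fintype.card K with hq
    have hq1 : 1 < q := Fintype.one_lt_card
    rcases Nat.eq_zero_or_pos n with h0 | h0
    · subst h0
      rw [nilCount]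
      haveI : Unique {M : Matrix (Fin 0) (Fin 0) K // IsNilpotent M} :=
        ⟨⟨⟨0, IsNilpotent.zero⟩⟩, fun a => Subtype.ext (Subsingleton.elim _ _)⟩
      rw [Nat.card_unique]; simp
    have h := card_pairs (K := K) (n := n)
    rw [Fin.sum_univ_succ, ← hq] at h
    have hid := identity q n hq1.le
    rw [Finset.sum_range_succ'] at hid
    have hrest : ∑ d : Fin n, (∏ i : Fin (d.succ : Fin (n + 1)), (q ^ n - q ^ (i : ℕ))) *
        (q ^ ((d.succ : ℕ) * (n - (d.succ : ℕ))) * nilCount K (n - (d.succ : ℕ))) =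
        ∑ d ∈ Finset.range n, (∏ i ∈ Finset.range (d + 1), (q ^ n - q ^ i)) *
          q ^ ((n - (d + 1)) * (n - 1)) := by
      rw [← Fin.sum_univ_eq_sum_range]
      refine Finset.sum_congr rfl fun d _ => ?_
      have hd := d.2
      rw [ih _ (by rw [Fin.val_succ]; omega), ← pow_add, ← Fin.prod_univ_eq_prod_range, Fin.val_succ]
      congr 2
      generalize (d : ℕ) = e at hd
      obtain ⟨j, hj⟩ : ∃ j, n = e + 1 + j := ⟨n - (e + 1), by omega⟩
      rw [hj, show e + 1 + j - (e + 1) = j by omega, show e + 1 + j - 1 = e + j by omega]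
      rcases Nat.eq_zero_or_pos j with hj0 | hj0
      · simp [hj0]
      · obtain ⟨i, rfl⟩ := Nat.exists_eq_add_of_le hj0
        rw [show 1 + i - 1 = i by omega]; ring
    rw [hrest] at h
    have h00 : ∀ f : Fin ((0 : Fin (n + 1)) : ℕ) → ℕ, ∏ i, f i = 1 := fun f =>
      Finset.prod_eq_one fun i _ => absurd i.2 (Nat.not_lt_zero _)
    rw [h00] at h
    simp only [Fin.val_zero, Finset.univ_eq_empty, Finset.prod_empty, zero_mul, pow_zero, one_mul,
      Nat.sub_zero] at h
    simp only [Finset.range_zero, Finset.prod_empty, one_mul, Nat.sub_zero] at hid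
    set R := ∑ d ∈ Finset.range n, (∏ i ∈ Finset.range (d + 1), (q ^ n - q ^ i)) *
      q ^ ((n - (d + 1)) * (n - 1))
    have hpow : q ^ n * q ^ (n * (n - 1)) = q ^ (n * n) := by
      rw [← pow_add]; congr 1
      obtain ⟨j, rfl⟩ := Nat.exists_eq_add_of_le h0
      rw [show 1 + j - 1 = j by omega]; ring
    have hqn : 1 < q ^ n := Nat.one_lt_pow (by omega) hq1
    have key : (q ^ n - 1) * nilCount K n = (q ^ n - 1) * q ^ (n * (n - 1)) := by
      rw [Nat.sub_mul, Nat.sub_mul, one_mul, one_mul]
      omega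
    exact Nat.eq_of_mul_eq_mul_left (by omega) key

/-- Steinberg's count of unipotent elements for the general linear group: over a finite field with q elements of characteristic p, the number of elements of GL_n of p-power order (the unipotent matrices) is q^(n(n−1)). -/
theorem result {F : Type*} [Field F] [Fintype F] (p : ℕ) [Fact p.Prime] [CharP F p] (n : ℕ) :
    Nat.card {g : Matrix.GeneralLinearGroup (Fin n) F // ∃ k : ℕ, orderOf g = p ^ k} = Fintype.card F ^ (n * (n - 1)) := by
  classical
  rw [← nilCount_eq (K := F) n, nilCount]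
  rcases Nat.eq_zero_or_pos n with h0 | h0
  · subst h0
    haveI : Unique {g : Matrix.GeneralLinearGroup (Fin 0) F // ∃ k : ℕ, orderOf g = p ^ k} :=
      ⟨⟨⟨1, 0, by simp⟩⟩, fun a => Subtype.ext (Units.ext (Subsingleton.elim _ _))⟩
    haveI : Unique {M : Matrix (Fin 0) (Fin 0) F // IsNilpotent M} :=
      ⟨⟨⟨0, IsNilpotent.zero⟩⟩, fun a => Subtype.ext (Subsingleton.elim _ _)⟩
    rw [Nat.card_unique, Nat.card_unique]
  haveI : Nonempty (Fin n) := ⟨⟨0, h0⟩⟩
  haveI : CharP (Matrix (Fin n) (Fin n) F) p := Matrix.charP p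
  refine Nat.card_congr
    { toFun := fun g => ⟨(g.1 : Matrix (Fin n) (Fin n) F) - 1, ?_⟩
      invFun := fun M => ⟨(M.2.isUnit_one_add).unit, ?_⟩
      left_inv := fun g => Subtype.ext (Units.ext (by simp))
      right_inv := fun M => Subtype.ext (by simp) }
  · obtain ⟨k, hk⟩ := g.2
    refine ⟨p ^ k, ?_⟩
    rw [sub_pow_char_pow_of_commute _ _ (Commute.one_right _), one_pow, ← Units.val_pow_eq_pow_val,
      ← hk, pow_orderOf_eq_one, Units.val_one, sub_self]
  · obtain ⟨k, hk⟩ := M.2
    have h1 : (M.2.isUnit_one_add).unit ^ p ^ k = 1 := Units.ext (by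
      rw [Units.val_pow_eq_pow_val, IsUnit.unit_spec,
        add_pow_char_pow_of_commute _ _ (Commute.one_left _), one_pow, Units.val_one]
      have : k ≤ p ^ k := (Nat.lt_pow_self (Fact.out : p.Prime).one_lt).le
      rw [show M.1 ^ p ^ k = 0 from pow_eq_zero_of_le this hk, add_zero])
    obtain ⟨j, -, hj⟩ := (Nat.dvd_prime_pow Fact.out).1 (orderOf_dvd_of_pow_eq_one h1)
    exact ⟨j, hj⟩

end Cfsg.Agent.S2315
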