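import Cfsg.Statements.S2316
import Cfsg.Agent.Lib.Classical.SympMatrix
import Cfsg.Agent.Lib.Classical.SpUnipotentCount.Main

set_option autoImplicit false
open Cfsg

namespace Cfsg.Agent.S2316

open CfsgLib.Classical

/-- Steinberg's count of unipotent elements for the symplectic group: over a finite field with q elements of characteristic p, the number of elements of Sp_{2m} of p-power order is q^(2m²). -/
theorem result {F : Type*} [Field F] [Fintype F] (p : ℕ) [Fact p.Prime] [CharP F p] (m : ℕ) :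
    Nat.card {g : ↥(Matrix.symplecticGroup (Fin m) F) // ∃ k : ℕ, orderOf g = p ^ k} = Fintype.card F ^ (2 * m ^ 2) := by
  classical
  haveI : Finite ↥(Matrix.symplecticGroup (Fin m) F) := inferInstance
  have hB := sympBil_isAlt (F := F) m
  have hn : Module.finrank F (Fin m ⊕ Fin m → F) = 2 * m := by
    rw [Module.finrank_fintype_fun_eq_card, Fintype.card_sum, Fintype.card_fin, two_mul]
  rw [show 2 * m ^ 2 = 2 * m * m by ring,
    ← SpUniCount.count m (Fin m ⊕ Fin m → F) (sympBil F m) hB (sympBil_nondegenerate m) hn]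
  rcases Nat.eq_zero_or_pos m with rfl | hm
  · haveI : Subsingleton (Matrix (Fin 0 ⊕ Fin 0) (Fin 0 ⊕ Fin 0) F) := inferInstance
    haveI : Subsingleton ↥(Matrix.symplecticGroup (Fin 0) F) := inferInstance
    refine Nat.card_congr ((spEquiv 0).toEquiv.subtypeEquiv fun g => ⟨fun _ => ⟨1, Subsingleton.elim _ _⟩,
      fun _ => ⟨0, by rw [Subsingleton.elim g 1, orderOf_one, pow_zero]⟩⟩)
  haveI : Nonempty (Fin m ⊕ Fin m) := ⟨Sum.inl ⟨0, hm⟩⟩
  refine Nat.card_congr ((spEquiv m).toEquiv.subtypeEquiv fun g => ?_)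
  have e : (((spEquiv m g).1 : (Fin m ⊕ Fin m → F) →ₗ[F] (Fin m ⊕ Fin m → F)) - 1) =
      Matrix.toLinAlgEquiv' (g.1 - 1) := by
    rw [map_sub, map_one]
    congr 1
  show (∃ k, orderOf g = p ^ k) ↔ SpUniCount.IsUni (spEquiv m g).1
  rw [SpUniCount.IsUni, e, IsNilpotent.map_iff Matrix.toLinAlgEquiv'.injective]
  have key : ∀ k, g ^ p ^ k = 1 ↔ (g.1 - 1) ^ p ^ k = 0 := fun k => by
    rw [sub_pow_char_pow_of_commute p k (Commute.one_right g.1), one_pow, sub_eq_zero]
    exact ⟨fun h => congrArg Subtype.val h, fun h => Subtype.ext h⟩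
  constructor
  · rintro ⟨k, hk⟩
    exact ⟨p ^ k, (key k).1 (hk ▸ pow_orderOf_eq_one g)⟩
  · rintro ⟨j, hj⟩
    have hp := (Fact.out : p.Prime)
    have h1 : (g.1 - 1) ^ p ^ j = 0 := pow_eq_zero_of_le (Nat.lt_pow_self hp.one_lt).le hj
    obtain ⟨i, -, hi⟩ := (Nat.dvd_prime_pow hp).1 (orderOf_dvd_of_pow_eq_one ((key j).2 h1))
    exact ⟨i, hi⟩

end Cfsg.Agent.S2316
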