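import Cfsg.Statements.S2318
import Cfsg.Agent.Lib.PGroup.ChevBigCell
import Cfsg.Agent.Lib.Chevalley.Tables
import Cfsg.Agent.Lib.KnownB.Steinberg.Irreducible
import Cfsg.Agent.Lib.Blocks.Eigen

set_option autoImplicit false
open Cfsg

namespace Cfsg.Agent.S2318

/-- In a Chevalley group of type G₂, B₂, D₄, F₄, E₆, E₇ or E₈ over a finite field of characteristic p (for types G₂ and B₂ the field is assumed to have at least 3 elements, so that the group is perfect), the Steinberg character is the only irreducible complex character whose degree is divisible by the full power of p dividing the group order (the only irreducible character of p-defect zero). -/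
theorem result {F : Type*} [Field F] [Fintype F] (p : ℕ) [Fact p.Prime] [CharP F p] (D : Cfsg.Lie.ChevalleyDatum) (hD : D ∈ [Cfsg.Lie.chevG2, Cfsg.Lie.chevB2, Cfsg.Lie.chevD4, Cfsg.Lie.chevF4, Cfsg.Lie.chevE6, Cfsg.Lie.chevE7, Cfsg.Lie.chevE8]) (hq : (D = Cfsg.Lie.chevG2 ∨ D = Cfsg.Lie.chevB2) → 3 ≤ Fintype.card F)
    (χ : ↥(D.group F) → ℂ) (hχ : Cfsg.IsIrrCharacter ↥(D.group F) χ)
    (hdeg : ∃ d : ℕ, χ 1 = (d : ℂ) ∧ p ^ (Nat.card ↥(D.group F)).factorization p ∣ d) :
    χ = D.steinbergCharacter F := by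
  classical
  obtain ⟨T, hT, hC, rfl⟩ := CfsgLib.Chevalley.exists_tbl hD
  haveI : Fintype ↥(T.datum.group F) := Fintype.ofFinite _
  obtain ⟨M, hM⟩ := CfsgLib.Blocks.exists_isPModular (Fact.out : p.Prime)
  have hdz : ∀ ψ : Cfsg.IrrCharacter ↥(T.datum.group F), ∀ d : ℕ, (ψ : ↥(T.datum.group F) → ℂ) 1 = (d : ℂ) →
      p ^ (Nat.card ↥(T.datum.group F)).factorization p ∣ d → CfsgLib.PGroup.BigCell.DZ (p := p) ψ := by
    intro ψ d h1 hdvd
    have hd : Cfsg.charDegree (ψ : ↥(T.datum.group F) → ℂ) = d := by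
      rw [Cfsg.charDegree, h1, Complex.natCast_re, Nat.floor_natCast]
    refine le_antisymm (CfsgLib.Blocks.degVal_le ψ) ?_
    show _ ≤ (Cfsg.charDegree (ψ : ↥(T.datum.group F) → ℂ)).factorization p
    exact ((Fact.out : p.Prime).pow_dvd_iff_le_factorization (CfsgLib.Blocks.charDegree_pos ψ).ne').1 (hd ▸ hdvd)
  obtain ⟨d, h1, hdvd⟩ := hdeg
  have hst : T.datum.steinbergCharacter F 1 =
      ((p ^ (Nat.card ↥(T.datum.group F)).factorization p : ℕ) : ℂ) := by
    rw [CfsgLib.PGroup.ChevBigCell.factorization_card hT hC p,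
      CfsgLib.KnownB.Steinberg.steinberg_one hT hC]
    push_cast
    rfl
  exact congrArg Subtype.val (CfsgLib.PGroup.BigCell.defectZero_unique
    (CfsgLib.PGroup.ChevBigCell.isBigCell hT hC p) hM (hdz ⟨χ, hχ⟩ d h1 hdvd)
    (hdz ⟨_, CfsgLib.KnownB.Steinberg.steinberg_isIrr hT hC⟩ _ hst dvd_rfl))

end Cfsg.Agent.S2318
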