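import Cfsg.Statements.S2328
import Cfsg.Agent.Lib.Chevalley.Tables
import Cfsg.Agent.Lib.KnownB.Steinberg.Irreducible
import Cfsg.Agent.S0165

set_option autoImplicit false
open Cfsg

namespace Cfsg.Agent.S2328

/-- In a Chevalley group of type G₂, B₂, D₄, F₄, E₆, E₇ or E₈ over a finite field of characteristic p, the Steinberg character vanishes at every element whose order is divisible by p (every element that is not semisimple). -/
theorem result {F : Type*} [Field F] [Fintype F] (p : ℕ) [Fact p.Prime] [CharP F p] (D : Cfsg.Lie.ChevalleyDatum) (hD : D ∈ [Cfsg.Lie.chevG2, Cfsg.Lie.chevB2, Cfsg.Lie.chevD4, Cfsg.Lie.chevF4, Cfsg.Lie.chevE6, Cfsg.Lie.chevE7, Cfsg.Lie.chevE8]) (g : ↥(D.group F)) (hg : p ∣ orderOf g) :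
    D.steinbergCharacter F g = 0 := by
  obtain ⟨T, hT, hC, rfl⟩ := CfsgLib.Chevalley.exists_tbl hD
  obtain ⟨n, ρ, hρ, hχ⟩ := CfsgLib.KnownB.Steinberg.steinberg_isIrr (F := F) hT hC
  obtain ⟨c, hc, hcard⟩ :=
    CfsgLib.KnownB.Steinberg.exists_card_parabolic (F := F) hT hC p (Finset.range T.rank)
  rw [CfsgLib.KnownB.Steinberg.parabolicIn_range hT hC, Subgroup.card_top] at hcard
  obtain ⟨m, hp, hm⟩ := FiniteField.card F p
  rw [hm, ← pow_mul] at hcard
  have hdim : Module.finrank ℂ (Fin n → ℂ) = p ^ ((m : ℕ) * T.half) := by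
    have h := congrFun hχ 1
    rw [Representation.char_one, CfsgLib.KnownB.Steinberg.steinberg_one hT hC, hm] at h
    rw [pow_mul]
    exact_mod_cast h
  rw [← hχ]
  haveI := hρ
  refine Cfsg.Agent.S0165.result ρ p ((m : ℕ) * T.half) hp ⟨c, by rw [hcard, mul_comm]⟩ ?_
    (by rw [hdim]) g hg
  rintro ⟨d, hd⟩
  rw [hcard, pow_succ, mul_assoc, mul_comm c] at hd
  exact hc ⟨d, Nat.eq_of_mul_eq_mul_left (pow_pos hp.pos _) hd⟩

end Cfsg.Agent.S2328
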