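import Cfsg.Statements.S2329
-- import your own Cfsg.Agent.* helpers here

set_option autoImplicit false
open Cfsg

namespace Cfsg.Agent.S2329

/-- Over a finite field of characteristic p, any two elements of order p of GL₂ are conjugate: there is a single conjugacy class of non-identity unipotent elements. -/
theorem result {F : Type*} [Field F] [Fintype F] (p : ℕ) [Fact p.Prime] [CharP F p] (g h : Matrix.GeneralLinearGroup (Fin 2) F)
    (hg : orderOf g = p) (hh : orderOf h = p) : IsConj g h := by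
  have hchar : CharP (Matrix (Fin 2) (Fin 2) F) p :=
    charP_of_injective_algebraMap (algebraMap F (Matrix (Fin 2) (Fin 2) F)).injective p
  have key : ∀ g : Matrix.GeneralLinearGroup (Fin 2) F, orderOf g = p →
      ∃ P : Matrix.GeneralLinearGroup (Fin 2) F, (g : Matrix (Fin 2) (Fin 2) F) * (P : Matrix (Fin 2) (Fin 2) F) = (P : Matrix (Fin 2) (Fin 2) F) * !![1, 1; 0, 1] := by
    intro g hg
    have hnil : ((g : Matrix (Fin 2) (Fin 2) F) - 1) ^ p = 0 := by
      rw [sub_pow_char_of_commute _ (Commute.one_right _), one_pow, sub_eq_zero,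
        ← Units.val_pow_eq_pow_val, ← hg, pow_orderOf_eq_one, Units.val_one]
    have hne : (g : Matrix (Fin 2) (Fin 2) F) - 1 ≠ 0 := fun h0 =>
      (Fact.out : p.Prime).ne_one (by rw [← hg, orderOf_eq_one_iff]; exact Units.ext (sub_eq_zero.1 h0))
    set N := (g : Matrix (Fin 2) (Fin 2) F) - 1 with hN
    have hch : N.charpoly = Polynomial.X ^ 2 :=
      sub_eq_zero.1 (Matrix.isNilpotent_charpoly_sub_pow_of_isNilpotent ⟨p, hnil⟩).eq_zero
    have htr : N 0 0 + N 1 1 = 0 := by
      rw [← Matrix.trace_fin_two, Matrix.trace_eq_neg_charpoly_coeff, hch]; simp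
    have hdet : N 0 0 * N 1 1 - N 0 1 * N 1 0 = 0 := by
      rw [← Matrix.det_fin_two, Matrix.det_eq_sign_charpoly_coeff, hch]; simp
    obtain ⟨P, hdP, hP⟩ : ∃ P : Matrix (Fin 2) (Fin 2) F, P.det ≠ 0 ∧ N * P = P * !![0, 1; 0, 0] := by
      by_cases hc : N 1 0 = 0
      · have ha : N 0 0 = 0 := by
          refine pow_eq_zero_iff (n := 2) two_ne_zero |>.1 ?_
          linear_combination N 0 0 * htr - hdet - N 0 1 * hc
        have hd : N 1 1 = 0 := by linear_combination htr - ha
        refine ⟨!![N 0 1, 0; 0, 1], ?_, ?_⟩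
        · rw [Matrix.det_fin_two_of]
          simp only [mul_one, mul_zero, sub_zero]
          intro hb
          exact hne (by ext i j; fin_cases i <;> fin_cases j <;> simp [ha, hb, hc, hd])
        · rw [Matrix.eta_fin_two N, ha, hc, hd]
          ext i j; fin_cases i <;> fin_cases j <;> simp [Matrix.mul_apply, Fin.sum_univ_two]
      · refine ⟨!![N 0 0, 1; N 1 0, 0], ?_, ?_⟩
        · rw [Matrix.det_fin_two_of]
          simpa using hc
        · conv_lhs => rw [Matrix.eta_fin_two N]
          ext i j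
          fin_cases i <;> fin_cases j <;> simp [Matrix.mul_apply, Fin.sum_univ_two]
          · linear_combination N 0 0 * htr - hdet
          · linear_combination N 1 0 * htr
    refine ⟨Matrix.GeneralLinearGroup.mkOfDetNeZero P hdP, ?_⟩
    show (g : Matrix (Fin 2) (Fin 2) F) * P = P * !![1, 1; 0, 1]
    have h1 : (g : Matrix (Fin 2) (Fin 2) F) = N + 1 := (sub_add_cancel _ _).symm
    have h2 : (!![1, 1; 0, 1] : Matrix (Fin 2) (Fin 2) F) = !![0, 1; 0, 0] + 1 := by
      ext i j; fin_cases i <;> fin_cases j <;> simp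
    rw [h1, h2, add_mul, mul_add, hP, one_mul, mul_one]
  obtain ⟨P, hP⟩ := key g hg
  obtain ⟨Q, hQ⟩ := key h hh
  refine isConj_iff.2 ⟨Q * P⁻¹, Units.ext ?_⟩
  have h1 : ((P⁻¹ * g * P : Matrix.GeneralLinearGroup (Fin 2) F) : Matrix (Fin 2) (Fin 2) F) = !![1, 1; 0, 1] := by
    rw [Units.val_mul, Units.val_mul, mul_assoc, hP, ← mul_assoc, Units.inv_mul, one_mul]
  rw [show Q * P⁻¹ * g * (Q * P⁻¹)⁻¹ = Q * (P⁻¹ * g * P) * Q⁻¹ by group, Units.val_mul, Units.val_mul,
    h1, ← hQ, mul_assoc, Units.mul_inv, mul_one]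

end Cfsg.Agent.S2329
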