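import Cfsg.Statements.S2332
import Cfsg.Agent.Lib.KnownB.MinDeg.SLn.Exist
-- import your own Cfsg.Agent.* helpers here

set_option autoImplicit false
open Cfsg

namespace Cfsg.Agent.S2332

/-- Smallest degree of a non-linear irreducible complex representation of SL_n over a finite field with q elements, for n ≥ 3 and (n, q) not one of (3, 2), (3, 4), (4, 2), (4, 3): every irreducible complex representation of SL_n(F) of degree at least 2 has degree at least (q^n − q)/(q − 1), and there is an irreducible complex representation of exactly that degree. -/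
theorem result {F : Type*} [Field F] [Fintype F] [DecidableEq F] (n : ℕ) (hn : 3 ≤ n)
    (hex : (n, Fintype.card F) ≠ (3, 2) ∧ (n, Fintype.card F) ≠ (3, 4) ∧ (n, Fintype.card F) ≠ (4, 2) ∧ (n, Fintype.card F) ≠ (4, 3)) :
    (∀ (k : ℕ) (ρ : Representation ℂ (Matrix.SpecialLinearGroup (Fin n) F) (Fin k → ℂ)), ρ.IsIrreducible → 2 ≤ k → (Fintype.card F ^ n - Fintype.card F) / (Fintype.card F - 1) ≤ k) ∧
    (∃ ρ : Representation ℂ (Matrix.SpecialLinearGroup (Fin n) F) (Fin ((Fintype.card F ^ n - Fintype.card F) / (Fintype.card F - 1)) → ℂ), ρ.IsIrreducible) := by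
  classical
  obtain ⟨s, rfl⟩ : ∃ s, n = s + 3 := ⟨n - 3, by omega⟩
  have hex0 : s = 0 → Fintype.card F ≠ 2 ∧ Fintype.card F ≠ 4 := by
    rintro rfl
    exact ⟨fun h => hex.1 (by simp [h]), fun h => hex.2.1 (by simp [h])⟩
  have hex1 : s = 1 → Fintype.card F ≠ 2 ∧ Fintype.card F ≠ 3 := by
    rintro rfl
    exact ⟨fun h => hex.2.2.1 (by simp [h]), fun h => hex.2.2.2 (by simp [h])⟩
  refine ⟨fun k ρ hirr hk => ?_, CfsgLib.MinDeg.SLn.exists_min_rep hex0 hex1⟩
  have : Nonempty (Fin k) := ⟨⟨0, by omega⟩⟩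
  have hnp := CfsgLib.MinDeg.SLn.noProper_of_irreducible hirr
  have hfix : ∀ w, (∀ g, ρ g w = w) → w = 0 := by
    intro w hw
    by_contra h0
    rcases hnp (Submodule.span ℂ {w}) (fun g v hv => by
      obtain ⟨c, rfl⟩ := Submodule.mem_span_singleton.1 hv
      rw [map_smul, hw g]
      exact Submodule.smul_mem _ _ (Submodule.mem_span_singleton_self w)) with h | h
    · exact h0 (Submodule.span_singleton_eq_bot.1 h)
    · have h1 := finrank_span_singleton (K := ℂ) h0
      rw [h, finrank_top, Module.finrank_fin_fun] at h1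
      omega
  have h := CfsgLib.MinDeg.SLn.sl_degree_bound ρ hnp hfix hex0 hex1
  rw [Module.finrank_fin_fun] at h
  have hq : 1 ≤ Fintype.card F := Fintype.card_pos
  apply Nat.div_le_of_le_mul
  rw [mul_comm]
  apply (Nat.cast_le (α := ℝ)).1
  rw [Nat.cast_mul, Nat.cast_sub (Nat.le_self_pow (by omega) _), Nat.cast_sub hq, Nat.cast_pow,
    Nat.cast_one]
  exact h

end Cfsg.Agent.S2332
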