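import Cfsg.Statements.S2333
import Cfsg.Agent.Lib.KnownB.MinDeg.SpEven
import Cfsg.Agent.Lib.CharDeep.IrrTools
-- import your own Cfsg.Agent.* helpers here

set_option autoImplicit false
open Cfsg

namespace Cfsg.Agent.S2333

/-- For a finite field F of even order q and n ≥ 2 with (n, q) ≠ (2, 2), every irreducible complex representation of the symplectic group Sp_{2n}(F) of degree at least 2 has degree at least (q^n − 1)(q^n − q)/(2(q + 1)). -/
theorem result {F : Type*} [Field F] [Fintype F] [DecidableEq F] (n : ℕ) (hn : 2 ≤ n) (heven : Even (Fintype.card F)) (hex : (n, Fintype.card F) ≠ (2, 2)) :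
    (∀ (k : ℕ) (ρ : Representation ℂ (Matrix.symplecticGroup (Fin n) F) (Fin k → ℂ)), ρ.IsIrreducible → 2 ≤ k → (Fintype.card F ^ n - 1) * (Fintype.card F ^ n - Fintype.card F) / (2 * (Fintype.card F + 1)) ≤ k) := by
  intro k ρ hρ hk
  have : CharP F 2 := by
    rw [← ringChar.eq_iff]
    exact (FiniteField.even_card_iff_char_two (F := F)).2 (Nat.even_iff.1 heven)
  have h := CfsgLib.MinDeg.sp_even_degree_bound (n := n) hn ?_ ρ ?_
  · rwa [Module.finrank_fin_fun] at h
  · intro h2
    have h1 : 1 < Fintype.card F := Fintype.one_lt_card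
    by_contra h3
    exact hex (by rw [h2, show Fintype.card F = 2 by omega])
  intro hker
  let S : Submodule ℂ (Fin k → ℂ) := ℂ ∙ Pi.single ⟨0, by omega⟩ 1
  have hfin : Module.finrank ℂ S = 1 := finrank_span_singleton (by simp)
  have := hρ
  rcases CfsgLib.CharDeep.IrrTools.eq_bot_or_top_of_invariant ρ S fun g v hv => by
    rw [MonoidHom.mem_ker.1 (hker ▸ Subgroup.mem_top g)]; exact hv with h | h
  · rw [h, finrank_bot] at hfin; omega
  · rw [h, finrank_top, Module.finrank_fin_fun] at hfin; omega

end Cfsg.Agent.S2333
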