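import Cfsg.Statements.S2334
import Cfsg.Agent.Lib.KnownB.MinDeg.SUOdd
import Cfsg.Agent.Lib.CharDeep.IrrTools
-- import your own Cfsg.Agent.* helpers here

set_option autoImplicit false
open Cfsg

namespace Cfsg.Agent.S2334

/-- For odd n ≥ 3 and a finite field F with q² elements, (n, q) ≠ (3, 2), every irreducible complex representation of the special unitary group SU_n(q) (the determinant-one isometries of the standard Hermitian form over F) of degree at least 2 has degree at least (q^n − q)/(q + 1). -/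
theorem result {F : Type*} [Field F] [Fintype F] [DecidableEq F] (n q : ℕ) (hn : 3 ≤ n) (hodd : Odd n) (hF : Fintype.card F = q ^ 2) (hex : (n, q) ≠ (3, 2)) :
    (∀ (k : ℕ) (ρ : Representation ℂ (Cfsg.SU n F q) (Fin k → ℂ)), ρ.IsIrreducible → 2 ≤ k → (q ^ n - q) / (q + 1) ≤ k) := by
  intro k ρ hρ hk
  obtain ⟨m, rfl⟩ := hodd
  have h := CfsgLib.MinDeg.su_odd_degree_bound (n := 2 * m + 1) (m := m) hF (by omega) (by omega)
    (fun e => hex (by rw [e.1, e.2])) ρ ?_
  · rw [Module.finrank_fin_fun] at h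
    refine le_trans (le_of_eq ?_) h
    have hd : q + 1 ∣ q ^ (2 * m) - 1 := by
      refine dvd_trans ⟨q - 1, ?_⟩ (by simpa [pow_mul] using Nat.sub_dvd_pow_sub_pow (q ^ 2) 1 m)
      rw [← Nat.sq_sub_sq]
    rw [pow_succ, show q ^ (2 * m) * q - q = (q ^ (2 * m) - 1) * q by rw [Nat.sub_mul, one_mul],
      Nat.div_mul_right_comm hd]
  intro hker
  let S : Submodule ℂ (Fin k → ℂ) := ℂ ∙ Pi.single ⟨0, by omega⟩ 1
  have hfin : Module.finrank ℂ S = 1 := finrank_span_singleton (by simp)
  have := hρ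
  rcases CfsgLib.CharDeep.IrrTools.eq_bot_or_top_of_invariant ρ S fun g v hv => by
    rw [MonoidHom.mem_ker.1 (hker ▸ Subgroup.mem_top g)]; exact hv with h | h
  · rw [h, finrank_bot] at hfin; omega
  · rw [h, finrank_top, Module.finrank_fin_fun] at hfin; omega

end Cfsg.Agent.S2334
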