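import Cfsg.Statements.S2335
import Cfsg.Agent.Lib.KnownB.MinDeg.SUSiegel
import Cfsg.Agent.Lib.CharDeep.IrrTools

set_option autoImplicit false
open Cfsg

namespace Cfsg.Agent.S2335

/-- For even n ≥ 4 and a finite field F with q² elements, (n, q) not (4, 2) or (4, 3), every irreducible complex representation of the special unitary group SU_n(q) (the determinant-one isometries of the standard Hermitian form over F) of degree at least 2 has degree at least (q^n − 1)/(q + 1). -/
theorem result {F : Type*} [Field F] [Fintype F] [DecidableEq F] (n q : ℕ) (hn : 4 ≤ n) (heven : Even n) (hF : Fintype.card F = q ^ 2) (hex : (n, q) ≠ (4, 2) ∧ (n, q) ≠ (4, 3)) :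
    (∀ (k : ℕ) (ρ : Representation ℂ (Cfsg.SU n F q) (Fin k → ℂ)), ρ.IsIrreducible → 2 ≤ k → (q ^ n - 1) / (q + 1) ≤ k) := by
  intro k ρ hρ hk
  obtain ⟨m, rfl⟩ := heven
  have h := CfsgLib.MinDeg.su_degree_bound (n := m + m) (m := m) hF (by omega) rfl ?_ ρ ?_
  · rwa [Module.finrank_fin_fun] at h
  · intro h2
    subst h2
    have hq := CfsgLib.Classical.two_le_of_card_sq hF
    by_contra h4
    rcases (by omega : q = 2 ∨ q = 3) with rfl | rfl <;> simp at hex
  intro hker
  let S : Submodule ℂ (Fin k → ℂ) := ℂ ∙ Pi.single ⟨0, by omega⟩ 1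
  have hfin : Module.finrank ℂ S = 1 := finrank_span_singleton (by simp)
  have := hρ
  rcases CfsgLib.CharDeep.IrrTools.eq_bot_or_top_of_invariant ρ S fun g v hv => by
    rw [MonoidHom.mem_ker.1 (hker ▸ Subgroup.mem_top g)]; exact hv with h | h
  · rw [h, finrank_bot] at hfin; omega
  · rw [h, finrank_top, Module.finrank_fin_fun] at hfin; omega

end Cfsg.Agent.S2335
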