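import Cfsg.Statements.S2336
import Cfsg.Agent.Lib.Char.Linear
import Cfsg.Agent.Lib.CharDeep.PermChar
import Cfsg.Agent.Lib.CharDeep.Clifford

set_option autoImplicit false
open Cfsg

namespace Cfsg.Agent.S2336

open CfsgLib Matrix
open scoped ComplexConjugate

/-- The nonzero vectors. -/
abbrev Vec (F : Type*) [Field F] (n : ℕ) := {v : Fin n → F // v ≠ 0}

variable {F : Type*} [Field F] [Fintype F] [DecidableEq F] {n : ℕ}

theorem val_mul (g h : SpecialLinearGroup (Fin n) F) : (g * h).1 = g.1 * h.1 := rfl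

omit [Fintype F] [DecidableEq F] in
theorem val_one : (1 : SpecialLinearGroup (Fin n) F).1 = 1 := rfl

theorem mulVec_ne_zero (g : SpecialLinearGroup (Fin n) F) {v : Fin n → F} (hv : v ≠ 0) :
    g.1 *ᵥ v ≠ 0 := by
  intro h
  apply hv
  have h1 := congrArg (fun w => (g⁻¹).1 *ᵥ w) h
  simpa only [mulVec_mulVec, ← val_mul, inv_mul_cancel,
    val_one, one_mulVec, mulVec_zero] using h1

noncomputable instance vecAction : MulAction (SpecialLinearGroup (Fin n) F) (Vec F n) where
  smul g v := ⟨g.1 *ᵥ v.1, mulVec_ne_zero g v.2⟩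
  one_smul v := Subtype.ext (by
    show (1 : SpecialLinearGroup (Fin n) F).1 *ᵥ v.1 = v.1
    rw [val_one, one_mulVec])
  mul_smul g h v := Subtype.ext (by
    show (g * h).1 *ᵥ v.1 = g.1 *ᵥ (h.1 *ᵥ v.1)
    rw [val_mul, mulVec_mulVec])

theorem smul_val (g : SpecialLinearGroup (Fin n) F) (v : Vec F n) :
    (g • v).1 = g.1 *ᵥ v.1 := rfl

/-- `SL` is transitive on linearly independent pairs. -/
theorem exists_map_pair (hn : 3 ≤ n) {v w : Fin n → F} (h : LinearIndependent F ![v, w]) :
    ∃ g : SpecialLinearGroup (Fin n) F, g.1 *ᵥ Pi.single ⟨0, by omega⟩ 1 = v ∧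
      g.1 *ᵥ Pi.single ⟨1, by omega⟩ 1 = w := by
  classical
  let b : Module.Basis (Fin 2 ⊕ Module.Basis.sumExtendIndex h) F (Fin n → F) :=
    Module.Basis.sumExtend h
  obtain ⟨σ, hσ⟩ : ∃ σ : Fin n → Fin n → F, LinearIndependent F σ ∧
      σ ⟨0, by omega⟩ = v ∧ σ ⟨1, by omega⟩ = w := by
    have : Fintype (Fin 2 ⊕ Module.Basis.sumExtendIndex h) := FiniteDimensional.fintypeBasisIndex b
    have : Fintype (Module.Basis.sumExtendIndex h) :=
      Fintype.ofInjective (Sum.inr : _ → Fin 2 ⊕ _) Sum.inr_injective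
    have hc : 2 + Fintype.card (Module.Basis.sumExtendIndex h) = n := by
      have h1 := Module.finrank_eq_nat_card_basis b
      rw [Module.finrank_fin_fun, Nat.card_sum, Nat.card_fin, Nat.card_eq_fintype_card] at h1
      omega
    let e : Fin n ≃ Fin 2 ⊕ Module.Basis.sumExtendIndex h :=
      ((Equiv.sumCongr (Equiv.refl _) (Fintype.equivFin _)).trans
        (finSumFinEquiv.trans (finCongr hc))).symm
    have e0 : e ⟨0, by omega⟩ = Sum.inl 0 := by
      rw [Equiv.symm_apply_eq]; apply Fin.ext; simp
    have e1 : e ⟨1, by omega⟩ = Sum.inl 1 := by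
      rw [Equiv.symm_apply_eq]; apply Fin.ext; simp
    refine ⟨b ∘ e, b.linearIndependent.comp e e.injective, ?_, ?_⟩
    · simp [Function.comp, e0, b, Module.Basis.sumExtend, Module.Basis.reindex, Equiv.Set.sumDiffSubset]
      rfl
    · simp [Function.comp, e1, b, Module.Basis.sumExtend, Module.Basis.reindex, Equiv.Set.sumDiffSubset]
      rfl
  obtain ⟨hli, h0, h1⟩ := hσ
  let M : Matrix (Fin n) (Fin n) F := (Matrix.of σ)ᵀ
  have hM : M.det ≠ 0 := by
    have hu : IsUnit (Matrix.of σ) := Matrix.linearIndependent_rows_iff_isUnit.1 hli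
    rw [Matrix.det_transpose]
    exact ((Matrix.isUnit_iff_isUnit_det _).1 hu).ne_zero
  let k : Fin n := ⟨2, by omega⟩
  refine ⟨⟨M.updateCol k (M.det⁻¹ • fun i => M i k), ?_⟩, ?_, ?_⟩
  · rw [Matrix.det_updateCol_smul]
    have : M.updateCol k (fun i => M i k) = M := Matrix.updateCol_eq_self M k
    rw [this, inv_mul_cancel₀ hM]
  · funext i
    rw [Matrix.mulVec_single_one]
    simp [Matrix.col, Matrix.updateCol_apply, k, M, h0]
  · funext i
    rw [Matrix.mulVec_single_one]
    simp [Matrix.col, Matrix.updateCol_apply, k, M, h1]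

variable (F n) in
/-- The stabilizer of a coordinate line. -/
def lineStab (i : Fin n) : Subgroup (SpecialLinearGroup (Fin n) F) where
  carrier := {g | ∃ c : F, g.1 *ᵥ Pi.single i 1 = c • Pi.single i 1}
  one_mem' := ⟨1, by rw [val_one, one_mulVec, one_smul]⟩
  mul_mem' := by
    rintro g h ⟨a, ha⟩ ⟨b, hb⟩
    exact ⟨b * a, by rw [val_mul, ← mulVec_mulVec, hb, mulVec_smul, ha, smul_smul]⟩
  inv_mem' := by
    rintro g ⟨a, ha⟩
    refine ⟨a⁻¹, ?_⟩
    have ha0 : a ≠ 0 := by
      rintro rfl
      exact mulVec_ne_zero g (v := Pi.single i 1) (by simp) (by rw [ha, zero_smul])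
    have h1 := congrArg (fun w => (g⁻¹).1 *ᵥ w) ha
    simp only [mulVec_mulVec, ← val_mul, inv_mul_cancel,
      val_one, one_mulVec, mulVec_smul] at h1
    conv_rhs => rw [h1, smul_smul, inv_mul_cancel₀ ha0, one_smul]

theorem mulVec_single_of_mem {i : Fin n} {g : SpecialLinearGroup (Fin n) F}
    (hg : g ∈ lineStab F n i) : g.1 *ᵥ Pi.single i 1 = g.1 i i • Pi.single i 1 := by
  obtain ⟨c, hc⟩ := hg
  have : g.1 i i = c := by
    have := congrFun hc i
    rw [mulVec_single_one] at this
    simpa [Matrix.col] using this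
  rw [this, hc]

variable (F n) in
/-- The eigenvalue on the coordinate line. -/
noncomputable def lineHom (i : Fin n) : lineStab F n i →* Fˣ :=
  MonoidHom.toHomUnits
    { toFun := fun g => g.1.1 i i
      map_one' := by simp
      map_mul' := fun g h => by
        have h1 : (g.1.1 * h.1.1) *ᵥ Pi.single i 1 = (g.1.1 i i * h.1.1 i i) • Pi.single i 1 := by
          rw [← mulVec_mulVec, mulVec_single_of_mem h.2, mulVec_smul, mulVec_single_of_mem g.2,
            smul_smul, mul_comm]
        have h2 := congrFun h1 i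
        rw [mulVec_single_one] at h2
        simpa [Matrix.col] using h2 }

theorem lineHom_apply (i : Fin n) (g : lineStab F n i) :
    (lineHom F n i g : F) = g.1.1 i i := rfl

variable (F n) in
/-- The standard vector as a nonzero vector. -/
def std (i : Fin n) : Vec F n := ⟨Pi.single i 1, by simp⟩

theorem lin_indep_std {i j : Fin n} (hij : i ≠ j) {c : F} (hc : c ≠ 0) :
    LinearIndependent F ![c • (Pi.single i 1 : Fin n → F), Pi.single j 1] := by
  rw [LinearIndependent.pair_iff]
  intro s t hst
  have h1 := congrFun hst i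
  have h2 := congrFun hst j
  simp [Pi.single_apply, hij, hij.symm, hc] at h1 h2
  exact ⟨h1, h2⟩

theorem not_prop_indep {v w : Fin n → F} (hv : v ≠ 0) (hw : w ≠ 0)
    (h : ¬ ∃ c : Fˣ, w = c.1 • v) : LinearIndependent F ![v, w] := by
  rw [LinearIndependent.pair_iff' hv]
  intro a ha
  refine h ⟨Units.mk0 a ?_, ha.symm⟩
  rintro rfl
  exact hw (by rw [← ha, zero_smul])

theorem exists_map_one (hn : 3 ≤ n) (v : Vec F n) :
    ∃ g : SpecialLinearGroup (Fin n) F, g • std F n ⟨0, by omega⟩ = v := by
  obtain ⟨i, hi⟩ := Function.ne_iff.1 v.2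
  obtain ⟨j, hj⟩ : ∃ j : Fin n, j ≠ i := ⟨if i.1 = 0 then ⟨1, by omega⟩ else ⟨0, by omega⟩, by
    split <;> rw [Ne, Fin.ext_iff] <;> simp <;> omega⟩
  have hli : LinearIndependent F ![v.1, Pi.single j 1] := by
    refine not_prop_indep v.2 (by simp) ?_
    rintro ⟨c, hc⟩
    have := congrFun hc i
    simp [Pi.single_apply, hj.symm] at this
    exact hi this
  obtain ⟨g, hg, -⟩ := exists_map_pair hn hli
  exact ⟨g, Subtype.ext hg⟩

theorem card_orbits (hn : 3 ≤ n) :
    Nat.card (MulAction.orbitRel.Quotient (SpecialLinearGroup (Fin n) F) (Vec F n × Vec F n)) =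
      Fintype.card F := by
  classical
  let e₀ := std F n ⟨0, by omega⟩
  let e₁ := std F n ⟨1, by omega⟩
  let r : Option Fˣ → Vec F n × Vec F n := fun o => o.elim (e₀, e₁)
    fun c => (e₀, ⟨c.1 • e₀.1, smul_ne_zero c.ne_zero e₀.2⟩)
  let φ : Option Fˣ → MulAction.orbitRel.Quotient (SpecialLinearGroup (Fin n) F)
      (Vec F n × Vec F n) := fun o => Quotient.mk'' (r o)
  have hφ : Function.Bijective φ := by
    constructor
    · intro a b hab
      obtain ⟨g, hg⟩ := Quotient.exact' hab
      have hg' : g • r b = r a := hg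
      have h1 := congrArg (fun p => p.1.1) hg'
      have h2 := congrArg (fun p => p.2.1) hg'
      rcases a with _ | c <;> rcases b with _ | d
      · rfl
      · simp only [r, Option.elim_none, Option.elim_some, Prod.smul_fst, Prod.smul_snd, smul_val] at h1 h2
        rw [mulVec_smul, h1] at h2
        have := congrFun h2 ⟨1, by omega⟩
        simp [e₀, e₁, std, Pi.single_apply] at this
      · simp only [r, Option.elim_none, Option.elim_some, Prod.smul_fst, Prod.smul_snd, smul_val] at h1 h2
        rw [← h1, ← mulVec_smul] at h2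
        have h3 := congrArg (fun w => (g⁻¹).1 *ᵥ w) h2
        simp only [mulVec_mulVec, ← val_mul, inv_mul_cancel,
          val_one, one_mulVec] at h3
        have := congrFun h3 ⟨1, by omega⟩
        simp [e₀, e₁, std, Pi.single_apply] at this
      · simp only [r, Option.elim_some, Prod.smul_fst, Prod.smul_snd, smul_val] at h1 h2
        rw [mulVec_smul, h1] at h2
        have := congrFun h2 ⟨0, by omega⟩
        simp [e₀, std] at this
        exact congrArg some (Units.ext this.symm)
    · intro ω
      induction ω using Quotient.inductionOn' with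
      | h p =>
        obtain ⟨v, w⟩ := p
        by_cases hp : ∃ c : Fˣ, w.1 = c.1 • v.1
        · obtain ⟨c, hc⟩ := hp
          obtain ⟨g, hg⟩ := exists_map_one hn v
          refine ⟨some c, Quotient.sound' ⟨g⁻¹, ?_⟩⟩
          show g⁻¹ • (v, w) = r (some c)
          rw [inv_smul_eq_iff]
          refine Prod.ext hg.symm (Subtype.ext ?_)
          simp only [r, Option.elim_some, Prod.smul_snd, smul_val, e₀]
          rw [mulVec_smul, hc, ← smul_val, hg]
        · obtain ⟨g, hg, hg'⟩ := exists_map_pair hn (not_prop_indep v.2 w.2 hp)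
          refine ⟨none, Quotient.sound' ⟨g⁻¹, ?_⟩⟩
          show g⁻¹ • (v, w) = r none
          rw [inv_smul_eq_iff]
          exact Prod.ext (Subtype.ext hg.symm) (Subtype.ext hg'.symm)
  rw [← Nat.card_congr (Equiv.ofBijective φ hφ), Nat.card_eq_fintype_card, Fintype.card_option,
    Fintype.card_units]
  have := Fintype.card_pos (α := F)
  omega

variable (F n) in
/-- The permutation character. -/
noncomputable def permChar (g : SpecialLinearGroup (Fin n) F) : ℂ :=
  (Nat.card {v : Fin n → F // v ≠ 0 ∧ g.1 *ᵥ v = v} : ℂ)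

theorem permChar_eq (g : SpecialLinearGroup (Fin n) F) :
    permChar F n g = (Nat.card (MulAction.fixedBy (Vec F n) g) : ℂ) := by
  unfold permChar
  congr 1
  exact Nat.card_congr
    { toFun := fun v => ⟨⟨v.1, v.2.1⟩, Subtype.ext v.2.2⟩
      invFun := fun v => ⟨v.1.1, v.1.2, congrArg Subtype.val v.2⟩
      left_inv := fun v => rfl
      right_inv := fun v => rfl }

theorem classInner_permChar (hn : 3 ≤ n) :
    Cfsg.classInner (permChar F n) (permChar F n) = (Fintype.card F : ℂ) := by
  classical
  have h := MulAction.sum_card_fixedBy_eq_card_orbits_mul_card_group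
    (SpecialLinearGroup (Fin n) F) (Vec F n × Vec F n)
  simp only [← Nat.card_eq_fintype_card] at h
  rw [show Nat.card (Quotient (MulAction.orbitRel (SpecialLinearGroup (Fin n) F)
    (Vec F n × Vec F n))) = Fintype.card F from card_orbits hn] at h
  have h' : ∀ g : SpecialLinearGroup (Fin n) F,
      Nat.card (MulAction.fixedBy (Vec F n × Vec F n) g) =
        Nat.card (MulAction.fixedBy (Vec F n) g) * Nat.card (MulAction.fixedBy (Vec F n) g) := by
    intro g
    rw [← Nat.card_prod]
    exact Nat.card_congr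
      { toFun := fun p => (⟨p.1.1, congrArg Prod.fst p.2⟩, ⟨p.1.2, congrArg Prod.snd p.2⟩)
        invFun := fun p => ⟨(p.1.1, p.2.1), Prod.ext p.1.2 p.2.2⟩
        left_inv := fun p => rfl
        right_inv := fun p => rfl }
  simp only [h'] at h
  simp only [Cfsg.classInner, permChar_eq, map_natCast, ← Nat.cast_mul, ← Nat.cast_sum, h]
  rw [Nat.cast_mul, mul_comm (Fintype.card F : ℂ), inv_mul_cancel_left₀]
  exact_mod_cast Nat.card_pos.ne'

theorem sum_hom_apply (c : Fˣ) [Fintype (Fˣ →* ℂˣ)] :
    (∑ φ : Fˣ →* ℂˣ, (φ c : ℂ)) = if c = 1 then (Fintype.card (Fˣ →* ℂˣ) : ℂ) else 0 := by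
  split_ifs with hc
  · subst hc; simp
  · obtain ⟨φ₀, h₀⟩ := CommGroup.exists_apply_ne_one_of_hasEnoughRootsOfUnity Fˣ ℂ hc
    have h1 : (φ₀ c : ℂ) * ∑ φ : Fˣ →* ℂˣ, (φ c : ℂ) = ∑ φ : Fˣ →* ℂˣ, (φ c : ℂ) := by
      rw [Finset.mul_sum]
      exact Fintype.sum_equiv (Equiv.mulLeft φ₀) _ _ fun φ => by simp
    by_contra hne
    exact h₀ (Units.ext (mul_right_cancel₀ hne (h1.trans (one_mul _).symm)))


/-- Let F be a finite field with q elements and n ≥ 3. The permutation character of SL_n(F) on the non-zero vectors of F^n (the function sending a matrix to the number of non-zero vectors it fixes) is the sum of the principal character and q − 1 pairwise distinct irreducible complex characters. -/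
theorem result {F : Type*} [Field F] [Fintype F] [DecidableEq F] (n : ℕ) (hn : 3 ≤ n) :
    ∃ χ : Fin (Fintype.card F - 1) → (Matrix.SpecialLinearGroup (Fin n) F → ℂ),
      (∀ i, Cfsg.IsIrrCharacter (Matrix.SpecialLinearGroup (Fin n) F) (χ i)) ∧ Function.Injective χ ∧
      ∀ g : Matrix.SpecialLinearGroup (Fin n) F,
        (Nat.card {v : Fin n → F // v ≠ 0 ∧ (g : Matrix (Fin n) (Fin n) F).mulVec v = v} : ℂ) = 1 + ∑ i, χ i g := by
  classical
  let i₀ : Fin n := ⟨0, by omega⟩
  let H := lineStab F n i₀
  let μ := lineHom F n i₀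
  let e₀ := std F n i₀
  let P := MulAction.stabilizer (SpecialLinearGroup (Fin n) F) e₀
  have : Fintype (Fˣ →* ℂˣ) := Fintype.ofFinite _
  have hcardhom : Fintype.card (Fˣ →* ℂˣ) = Fintype.card F - 1 := by
    rw [← Nat.card_eq_fintype_card, CommGroup.card_monoidHom_of_hasEnoughRootsOfUnity,
      Nat.card_eq_fintype_card, Fintype.card_units]
  let ind : (Fˣ →* ℂˣ) → SpecialLinearGroup (Fin n) F → ℂ := fun φ =>
    Cfsg.indFun H fun h => ((φ.comp μ) h : ℂ)
  have hμ : Function.Surjective μ := by
    intro c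
    obtain ⟨g, hg, -⟩ := exists_map_pair hn
      (lin_indep_std (F := F) (show i₀ ≠ ⟨1, by omega⟩ by simp [i₀]) c.ne_zero)
    refine ⟨⟨g, c, hg⟩, Units.ext ?_⟩
    have := congrFun hg i₀
    rw [mulVec_single_one] at this
    simpa [μ, lineHom_apply, Matrix.col] using this
  have hker : ∀ (h : H), μ h = 1 ↔ (h : SpecialLinearGroup (Fin n) F) ∈ P := by
    intro h
    have h1 := mulVec_single_of_mem h.2
    rw [MulAction.mem_stabilizer_iff, Subtype.ext_iff, smul_val]
    constructor
    · intro h2
      show h.1.1 *ᵥ Pi.single i₀ 1 = Pi.single i₀ 1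
      rw [h1, show h.1.1 i₀ i₀ = 1 from congrArg Units.val h2, one_smul]
    · intro h2
      have h3 := congrFun (h1.symm.trans h2) i₀
      exact Units.ext (by simpa [e₀, std, μ, lineHom_apply] using h3)
  have hPH : P ≤ H := fun g hg => by
    rw [MulAction.mem_stabilizer_iff, Subtype.ext_iff, smul_val] at hg
    exact ⟨1, by rw [one_smul]; exact hg⟩
  have hHcard : Nat.card H = (Fintype.card F - 1) * Nat.card P := by
    rw [Subgroup.card_eq_card_quotient_mul_card_subgroup μ.ker,
      Nat.card_congr (QuotientGroup.quotientKerEquivOfSurjective μ hμ).toEquiv,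
      Nat.card_eq_fintype_card, Fintype.card_units]
    congr 1
    exact Nat.card_congr
      { toFun := fun h => ⟨h.1.1, (hker h.1).1 h.2⟩
        invFun := fun p => ⟨⟨p.1, hPH p.2⟩, (hker _).2 p.2⟩
        left_inv := fun h => rfl
        right_inv := fun p => rfl }
  have hsum : ∀ g, ∑ φ, ind φ g = permChar F n g := by
    intro g
    have hP : Cfsg.indFun P (fun _ => 1) g = permChar F n g := by
      rw [CfsgLib.CharDeep.PermChar.indFun_one_eq, permChar_eq]
      congr 1
      refine Nat.card_congr (Equiv.subtypeEquiv (Equiv.ofBijective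
        (MulAction.ofQuotientStabilizer (SpecialLinearGroup (Fin n) F) e₀) ⟨MulAction.injective_ofQuotientStabilizer _ _, ?_⟩) ?_)
      · intro v
        obtain ⟨a, ha⟩ := exists_map_one hn v
        exact ⟨(a : _ ⧸ _), (MulAction.ofQuotientStabilizer_mk _ _ a).trans ha⟩
      · intro q
        show g • q = q ↔ g • MulAction.ofQuotientStabilizer _ e₀ q = MulAction.ofQuotientStabilizer _ e₀ q
        constructor
        · intro hq
          rw [← MulAction.ofQuotientStabilizer_smul, hq]
        · intro hq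
          apply MulAction.injective_ofQuotientStabilizer _ e₀
          rw [MulAction.ofQuotientStabilizer_smul]
          exact hq
    rw [← hP]
    simp only [ind, CfsgLib.Char.indFun_def]
    rw [← Finset.mul_sum, Finset.sum_comm, hHcard, Nat.cast_mul, mul_inv, mul_comm _ (_⁻¹ : ℂ),
      mul_assoc]
    congr 1
    rw [Finset.mul_sum]
    refine Finset.sum_congr rfl fun x _ => ?_
    by_cases hx : x⁻¹ * g * x ∈ H
    · simp only [CfsgLib.Char.extendByZero_apply_mem H _ hx, MonoidHom.comp_apply]
      rw [sum_hom_apply, hcardhom]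
      by_cases hx' : x⁻¹ * g * x ∈ P
      · rw [if_pos ((hker ⟨_, hx⟩).2 hx'), CfsgLib.Char.extendByZero_apply_mem P _ hx',
          inv_mul_cancel₀]
        rw [Nat.cast_ne_zero]
        have := Fintype.one_lt_card (α := F)
        omega
      · rw [if_neg (fun h => hx' ((hker ⟨_, hx⟩).1 h)),
          CfsgLib.Char.extendByZero_apply_notMem P _ hx', mul_zero]
    · simp [CfsgLib.Char.extendByZero_apply_notMem H _ hx,
        CfsgLib.Char.extendByZero_apply_notMem P _ (fun h => hx (hPH h))]
  let one : SpecialLinearGroup (Fin n) F → ℂ := fun _ => 1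
  let f : (Fˣ →* ℂˣ) → SpecialLinearGroup (Fin n) F → ℂ := fun φ =>
    ind φ - if φ = 1 then one else 0
  let all : Option (Fˣ →* ℂˣ) → SpecialLinearGroup (Fin n) F → ℂ := fun o => o.elim one f
  have hone : Cfsg.IsCharacter _ one := CfsgLib.Char.isCharacter_one
  have hind : ∀ φ, Cfsg.IsCharacter _ (ind φ) := fun φ =>
    CfsgLib.Char.IsCharacter.indFun H (CfsgLib.Char.isCharacter_hom _)
  have hfchar : ∀ φ, Cfsg.IsCharacter _ (f φ) := by
    intro φ
    by_cases hφ : φ = 1
    · subst hφ
      simp only [f, if_pos]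
      refine CfsgLib.CharDeep.Clifford.isCharacter_sub_of_constituent (hind 1)
        CfsgLib.Char.isIrrCharacter_one ?_
      rw [CfsgLib.Char.classInner_indFun H _ (CfsgLib.Char.IsCharacter.isClassFunction hone)]
      simp [Cfsg.classInner, Nat.card_eq_fintype_card, Fintype.card_ne_zero, one]
    · simp only [f, if_neg hφ, sub_zero]
      exact hind φ
  have hfne : ∀ φ, f φ 1 ≠ 0 := by
    intro φ
    have hi : H.index ≠ 1 := by
      rw [Ne, Subgroup.index_eq_one]
      intro htop
      obtain ⟨g, hg⟩ := exists_map_one hn (std F n ⟨1, by omega⟩ : Vec F n)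
      obtain ⟨c, hc⟩ : g ∈ H := htop ▸ Subgroup.mem_top g
      have h2 := congrFun ((congrArg Subtype.val hg).symm.trans hc) ⟨1, by omega⟩
      simp [std, i₀, Pi.single_apply] at h2
    have hi0 : H.index ≠ 0 := Subgroup.index_ne_zero_of_finite
    by_cases hφ : φ = 1
    · simp only [f, if_pos hφ, Pi.sub_apply, ind, CfsgLib.Char.indFun_one, map_one, Units.val_one,
        mul_one, one, sub_ne_zero]
      exact_mod_cast hi
    · simp only [f, if_neg hφ, Pi.sub_apply, Pi.zero_apply, sub_zero, ind, CfsgLib.Char.indFun_one,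
        map_one, Units.val_one, mul_one]
      exact_mod_cast hi0
  have hall : ∀ o, Cfsg.IsCharacter _ (all o) := fun o => by
    cases o
    · exact hone
    · exact hfchar _
  have hallne : ∀ o, all o ≠ 0 := fun o h => by
    cases o
    · exact one_ne_zero (congrFun h 1)
    · exact hfne _ (congrFun h 1)
  have hallsum : permChar F n = ∑ o, all o := by
    funext g
    rw [Fintype.sum_option, Pi.add_apply, Finset.sum_apply]
    simp only [all, Option.elim_none, Option.elim_some, f, Pi.sub_apply, Finset.sum_sub_distrib,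
      hsum, one]
    rw [Finset.sum_eq_single (1 : Fˣ →* ℂˣ) (fun φ _ hφ => by simp [hφ]) (by simp)]
    simp
  choose m hm using fun a b => CfsgLib.Char.IsCharacter.classInner_nat (hall a) (hall b)
  have hm1 : ∀ a, 1 ≤ m a a := fun a => Nat.one_le_iff_ne_zero.2 fun h => hallne a
    (CfsgLib.Char.classInner_self_eq_zero.1 (by rw [hm, h, Nat.cast_zero]))
  have htot : ∑ a, ∑ b, m a b = Fintype.card (Option (Fˣ →* ℂˣ)) := by
    apply Nat.cast_injective (R := ℂ)
    push_cast
    simp only [← hm]
    simp only [← CfsgLib.Char.classInner_sum_right, ← CfsgLib.Char.classInner_sum_left, ← hallsum,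
      classInner_permChar hn, Fintype.card_option, hcardhom]
    have := Fintype.card_pos (α := F)
    rw [Nat.sub_add_cancel this]
  have hdiag : ∀ a, ∑ b, m a b = 1 := by
    have hge : ∀ a, 1 ≤ ∑ b, m a b := fun a =>
      (hm1 a).trans (Finset.single_le_sum (fun b _ => Nat.zero_le _) (Finset.mem_univ a))
    have h := (Finset.sum_eq_sum_iff_of_le (s := Finset.univ) (fun a _ => hge a)).1
      (by rw [htot]; simp)
    exact fun a => (h a (Finset.mem_univ a)).symm
  have hnorm : ∀ a, m a a = 1 := fun a => le_antisymm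
    ((Finset.single_le_sum (fun b _ => Nat.zero_le _) (Finset.mem_univ a)).trans (hdiag a).le)
    (hm1 a)
  have horth : ∀ a b, a ≠ b → m a b = 0 := by
    intro a b hab
    have h1 := hdiag a
    rw [← Finset.add_sum_erase _ _ (Finset.mem_univ a), hnorm] at h1
    have h2 : ∑ x ∈ Finset.univ.erase a, m a x = 0 := by omega
    exact Finset.sum_eq_zero_iff.1 h2 b (Finset.mem_erase.2 ⟨hab.symm, Finset.mem_univ b⟩)
  let e := (Fintype.equivFinOfCardEq hcardhom).symm
  refine ⟨fun i => f (e i), fun i => ?_, fun i j hij => ?_, fun g => ?_⟩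
  · exact CfsgLib.Char.IsCharacter.isIrrCharacter_of_norm_one (hfchar _)
      ((hm (some (e i)) (some (e i))).trans (by rw [hnorm, Nat.cast_one]))
  · by_contra hne
    have h0 := horth (some (e i)) (some (e j))
      (fun h => hne (e.injective (Option.some_injective _ h)))
    have h1 := hm (some (e i)) (some (e j))
    have h2 := hm (some (e i)) (some (e i))
    rw [h0, Nat.cast_zero] at h1
    rw [hnorm, Nat.cast_one] at h2
    simp only [all, Option.elim_some] at h1 h2
    rw [show f (e j) = f (e i) from hij.symm, h2] at h1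
    exact one_ne_zero h1
  · show permChar F n g = _
    rw [hallsum, Fintype.sum_option, Pi.add_apply, Finset.sum_apply, ← e.sum_comp]
    rfl

end Cfsg.Agent.S2336
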