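import Cfsg.Statements.S2337
import Cfsg.Agent.Lib.KnownB.SuzukiGroup

set_option autoImplicit false
open Cfsg Matrix CfsgLib.KnownB.Suzuki CfsgLib.KnownB.SzElem

namespace Cfsg.Agent.S2337

variable {F : Type*} [Field F] [Fintype F]

/-- A character of order two of the additive group which is invariant under squaring. -/
theorem exists_char (h2 : CharP F 2) : ∃ ψ : F → ℂ,
    (∀ x y, ψ (x + y) = ψ x * ψ y) ∧ (∀ x, ψ x * ψ x = 1) ∧ (∀ x, ψ (x ^ 2) = ψ x) ∧
    ∃ x₀, ψ x₀ = -1 := by
  classical
  have hz : ∀ z : ZMod 2, z = 0 ∨ z = 1 := by decide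
  haveI : Fact (Nat.Prime 2) := ⟨Nat.prime_two⟩
  letI : Algebra (ZMod 2) F := ZMod.algebra F 2
  refine ⟨fun x => if Algebra.trace (ZMod 2) F x = 0 then 1 else -1, fun x y => ?_, fun x => ?_,
    fun x => ?_, ?_⟩
  · have : ∀ u v : ZMod 2, (if u + v = 0 then (1 : ℂ) else -1) =
        (if u = 0 then 1 else -1) * (if v = 0 then 1 else -1) := by
      intro u v
      have h11 : (1 + 1 : ZMod 2) = 0 := rfl
      rcases hz u with rfl | rfl <;>
        rcases hz v with rfl | rfl <;> simp [h11]
    simpa using this (Algebra.trace (ZMod 2) F x) (Algebra.trace (ZMod 2) F y)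
  · simp only; split <;> norm_num
  · have h := Algebra.trace_eq_of_algEquiv (FiniteField.frobeniusAlgEquiv (ZMod 2) F 2) x
    simp at h
    simp only [h]
  · obtain ⟨x, hx⟩ := Algebra.trace_surjective (ZMod 2) F 1
    exact ⟨x, by simp [hx]⟩

theorem char_sum {ψ : F → ℂ} (hadd : ∀ x y, ψ (x + y) = ψ x * ψ y) {x₀ : F} (h₀ : ψ x₀ = -1)
    {b : F} (hb : b ≠ 0) : ∑ l, ψ (l * b) = 0 := by
  have h1 : ∑ l, ψ (l * b) = ∑ l, ψ ((l + x₀ / b) * b) :=
    (Fintype.sum_equiv (Equiv.addRight (x₀ / b)) _ _ fun l => rfl).symm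
  have h2 : ∑ l, ψ ((l + x₀ / b) * b) = - ∑ l, ψ (l * b) := by
    rw [← Finset.sum_neg_distrib]
    refine Finset.sum_congr rfl fun l _ => ?_
    rw [add_mul, hadd, div_mul_cancel₀ _ hb, h₀]
    ring
  linear_combination (h1.trans h2) / 2

set_option maxHeartbeats 1000000 in
theorem key {m : ℕ} (hm : 1 ≤ m) (hF : Fintype.card F = 2 ^ (2 * m + 1)) {e : ℕ} (he : Twist F e)
    (he0 : e = 2 ^ (m + 1)) {k : ℕ} (ρ : Representation ℂ (Cfsg.Lie.Sz F e) (Fin k → ℂ)) (hirr : ρ.IsIrreducible)
    (hk : 2 ≤ k) : 2 ^ m * (2 ^ (2 * m + 1) - 1) ≤ k := by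
  classical
  have h2 := he.two
  have h0e : (0 : F) ^ e = 0 := zero_pow (Nat.ne_zero_of_lt he.one_lt)
  have hchar : CharP F 2 := CharTwo.of_one_ne_zero_of_two_eq_zero one_ne_zero h2
  obtain ⟨ψ, hadd, hsq1, hfrob, x₀, hx₀⟩ := exists_char hchar
  have hψ0 : ψ 0 = 1 := by
    have h := hadd 0 0
    rw [add_zero] at h
    rw [h, hsq1]
  have horth : ∀ b : F, b ≠ 0 → ∑ l, ψ (l * b) = 0 := fun b hb => char_sum hadd hx₀ hb
  have horth' : ∀ b : F, b ≠ 0 → ∑ l, ψ (b * l) = 0 := fun b hb => by
    simpa only [mul_comm b] using horth b hb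
  let A : F → Module.End ℂ (Fin k → ℂ) := fun b => ρ (P he 0 b)
  have hA : ∀ b c v, A b (A c v) = A (b + c) v := fun b c v => by
    show ρ _ (ρ _ v) = ρ _ v
    rw [← Module.End.mul_apply, ← map_mul, P_mul, h0e]
    simp
  have hA0 : ∀ v, A 0 v = v := fun v => by show ρ _ v = v; rw [P_zero, map_one]; rfl
  let W : F → Submodule ℂ (Fin k → ℂ) := fun l =>
    { carrier := {v | ∀ b, A b v = ψ (l * b) • v}
      add_mem' := fun {u v} hu hv b => by rw [map_add, hu b, hv b, smul_add]
      zero_mem' := fun b => by simp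
      smul_mem' := fun c v hv b => by rw [map_smul, hv b, smul_comm] }
  let Pr : F → Module.End ℂ (Fin k → ℂ) := fun l =>
    (Fintype.card F : ℂ)⁻¹ • ∑ b, ψ (l * b) • A b
  have hq0 : (Fintype.card F : ℂ) ≠ 0 := Nat.cast_ne_zero.2 Fintype.card_ne_zero
  have hPrmem : ∀ l v, Pr l v ∈ W l := by
    intro l v c
    simp only [Pr, LinearMap.smul_apply, map_smul, LinearMap.coe_sum, Finset.sum_apply, map_sum,
      Finset.smul_sum, smul_smul, hA]
    refine Fintype.sum_equiv (Equiv.addLeft c) _ _ fun b => ?_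
    simp only [Equiv.coe_addLeft]
    congr 1
    rw [mul_add, hadd]
    linear_combination (-(Fintype.card F : ℂ)⁻¹ * ψ (l * b)) * hsq1 (l * c)
  have hPrW : ∀ l l' v, v ∈ W l' → Pr l v = if l = l' then v else 0 := by
    intro l l' v hv
    simp only [Pr, LinearMap.smul_apply, LinearMap.coe_sum, Finset.sum_apply, hv _, smul_smul,
      ← hadd, ← add_mul, ← Finset.sum_smul]
    split_ifs with h
    · subst h
      simp [show l + l = 0 by linear_combination h2 * l, hψ0, inv_mul_cancel₀ hq0]
    · rw [horth' (l + l') (fun h' => h (by linear_combination h' - h2 * l')), mul_zero, zero_smul]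
  have hsum : ∀ v, ∑ l, Pr l v = v := by
    intro v
    simp only [Pr, LinearMap.smul_apply, LinearMap.coe_sum, Finset.sum_apply, ← Finset.smul_sum]
    rw [Finset.sum_comm]
    simp only [← Finset.sum_smul]
    rw [Finset.sum_eq_single 0 (fun b _ hb => by rw [horth b hb, zero_smul]) (by simp)]
    simp [hψ0, hA0, smul_smul, inv_mul_cancel₀ hq0]
  have hnt : ∃ l₀, l₀ ≠ 0 ∧ W l₀ ≠ ⊥ := by
    by_contra hall
    push Not at hall
    have hAtriv : ∀ b, ρ (P he 0 b) = 1 := by
      intro b
      refine LinearMap.ext fun v => ?_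
      have h : v = Pr 0 v := by
        conv_lhs => rw [← hsum v]
        refine Finset.sum_eq_single 0 (fun l _ hl => ?_) (by simp)
        have := hall l hl ▸ hPrmem l v
        simpa using this
      show A b v = v
      rw [h, hPrmem 0 v b, zero_mul, hψ0, one_smul]
    have hker : ρ.ker = ⊤ := by
      refine eq_top_of_centre_mem he ?_ (b := 1) one_ne_zero (hAtriv 1)
      have : Nontrivial Fˣ := Fintype.one_lt_card_iff_nontrivial.1 (by
        rw [Fintype.card_units, hF]
        have : 2 ^ 3 ≤ 2 ^ (2 * m + 1) := Nat.pow_le_pow_right two_pos (by omega)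
        omega)
      exact exists_ne 1
    let S : Submodule ℂ (Fin k → ℂ) := ℂ ∙ Pi.single ⟨0, by omega⟩ 1
    have hS : ∀ g, ∀ v ∈ S, ρ g v ∈ S := by
      intro g v hv
      rw [MonoidHom.mem_ker.1 (hker ▸ Subgroup.mem_top g)]
      exact hv
    let R : Subrepresentation ρ := ⟨S, fun g v hv => hS g v hv⟩
    have hfin : Module.finrank ℂ S = 1 := finrank_span_singleton (by simp)
    have hso : IsSimpleOrder (Subrepresentation ρ) := hirr
    rcases hso.eq_bot_or_eq_top R with h | h
    · have h' : S = ⊥ := congrArg Subrepresentation.toSubmodule h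
      rw [h', finrank_bot] at hfin
      omega
    · have h' : S = ⊤ := congrArg Subrepresentation.toSubmodule h
      rw [h', finrank_top, Module.finrank_fin_fun] at hfin
      omega
  have htrans : ∀ l l' : F, l ≠ 0 → l' ≠ 0 →
      Module.finrank ℂ (W l) ≤ Module.finrank ℂ (W l') := by
    intro l l' hl hl'
    obtain ⟨t, ht⟩ := (units_pow_e2_bijective he).2 (Units.mk0 l hl / Units.mk0 l' hl')
    have ht' : (t : F) ^ (e + 2) = l / l' := by
      have := congrArg Units.val ht
      simpa using this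
    refine LinearMap.finrank_le_finrank_of_injective
      (f := (((ρ (H e he t)).comp (W l).subtype).codRestrict (W l') ?_)) ?_
    · intro v b
      show ρ (P he 0 b) (ρ (H e he t) v) = ψ (l' * b) • ρ (H e he t) v
      have hconj : P he 0 b * H e he t = H e he t * P he 0 (l' / l * b) := by
        have h := H_conj_P he t 0 (l' / l * b)
        rw [mul_zero, ht', ← mul_assoc, div_mul_div_cancel₀ hl', div_self hl, one_mul] at h
        rw [← h, inv_mul_cancel_right]
      rw [← Module.End.mul_apply, ← map_mul, hconj, map_mul, Module.End.mul_apply]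
      have h3 : ρ (P he 0 (l' / l * b)) (v : Fin k → ℂ) = ψ (l * (l' / l * b)) • (v : Fin k → ℂ) :=
        v.2 _
      rw [h3, map_smul, ← mul_assoc, mul_div_cancel₀ _ hl]
    · intro u v huv
      have h := congrArg (fun x : W l' => ρ (H e he t)⁻¹ (x : Fin k → ℂ)) huv
      simp only [LinearMap.codRestrict_apply, LinearMap.comp_apply, Submodule.subtype_apply,
        ← Module.End.mul_apply, ← map_mul, inv_mul_cancel, map_one, Module.End.one_apply] at h
      exact Subtype.ext h
  set d := Module.finrank ℂ (W 1) with hd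
  have hdall : ∀ l : {l : F // l ≠ 0}, Module.finrank ℂ (W l) = d := fun l =>
    le_antisymm (htrans _ _ l.2 one_ne_zero) (htrans _ _ one_ne_zero l.2)
  have hd0 : 0 < d := by
    obtain ⟨l₀, h1, h3⟩ := hnt
    rw [← hdall ⟨l₀, h1⟩]
    exact Nat.pos_of_ne_zero fun h => h3 (Submodule.finrank_eq_zero.1 h)
  have hbound1 : (Fintype.card F - 1) * d ≤ k := by
    let Φ : (∀ l : {l : F // l ≠ 0}, W l) →ₗ[ℂ] (Fin k → ℂ) :=
      ∑ l, (W (l : {l : F // l ≠ 0}).1).subtype ∘ₗ LinearMap.proj l
    have hΦ : Function.Injective Φ := by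
      refine (injective_iff_map_eq_zero Φ).2 fun f hf => ?_
      funext j
      have h := congrArg (Pr j) hf
      simp only [Φ, LinearMap.coe_sum, Finset.sum_apply, LinearMap.comp_apply, LinearMap.proj_apply,
        Submodule.subtype_apply, map_sum, map_zero] at h
      rw [Finset.sum_eq_single j (fun l _ hl => by
        rw [hPrW _ _ _ (f l).2, if_neg (fun h' => hl (Subtype.ext h'.symm))]) (by simp),
        hPrW _ _ _ (f j).2, if_pos rfl] at h
      exact Subtype.ext h
    have h := LinearMap.finrank_le_finrank_of_injective hΦ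
    rw [Module.finrank_pi_fintype, Module.finrank_fin_fun] at h
    simp only [hdall, Finset.sum_const, smul_eq_mul, Finset.card_univ,
      Fintype.card_subtype_compl, Fintype.card_subtype_eq] at h
    exact h
  have hop : ∀ a : F, ∀ v ∈ W 1, ρ (P he a 0) v ∈ W 1 := by
    intro a v hv b
    show ρ (P he 0 b) (ρ (P he a 0) v) = ψ (1 * b) • ρ (P he a 0) v
    have hc : P he 0 b * P he a 0 = P he a 0 * P he 0 b := by
      rw [P_mul, P_mul, h0e]; congr 1 <;> ring
    rw [← Module.End.mul_apply, ← map_mul, hc, map_mul, Module.End.mul_apply]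
    have h3 : ρ (P he 0 b) v = ψ (1 * b) • v := hv b
    rw [h3, map_smul]
  let L : F → F := fun a => a ^ e + a ^ (2 ^ m)
  have he2 : e = 2 ^ m * 2 := by rw [he0, pow_succ]
  have hψpow : ∀ (n : ℕ) (x : F), ψ (x ^ 2 ^ n) = ψ x := by
    intro n
    induction n with
    | zero => simp
    | succ n ih => intro x; rw [pow_succ, pow_mul, hfrob, ih]
  have hcomm : ∀ a c : F, ∀ v ∈ W 1,
      ρ (P he c 0) (ρ (P he a 0) v) = ψ (c * L a) • ρ (P he a 0) (ρ (P he c 0) v) := by
    intro a c v hv
    rw [← Module.End.mul_apply, ← map_mul, ← Module.End.mul_apply, ← map_mul]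
    have hz : (a ^ 2 ^ m) ^ e = a := by
      refine sq_inj he ?_
      rw [← he.pow_pow a, he2, ← pow_mul, ← pow_mul, ← pow_mul]
      congr 1
      ring
    have hsplit : P he c 0 * P he a 0 = P he a 0 * P he c 0 * P he 0 (a ^ e * c + c ^ e * a) := by
      rw [P_mul, P_mul, P_mul]; congr 1 <;> grind
    rw [hsplit, map_mul, Module.End.mul_apply]
    have h3 : ρ (P he 0 (a ^ e * c + c ^ e * a)) v = ψ (1 * (a ^ e * c + c ^ e * a)) • v := hv _
    rw [h3, map_smul]
    congr 1
    rw [one_mul, hadd, mul_add, hadd, mul_comm c (a ^ e)]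
    congr 1
    rw [← hψpow (m + 1) (c * a ^ 2 ^ m), ← he0, mul_pow, hz]
  have hL2 : ∀ y : F, (Finset.univ.filter fun a => L a = y).card ≤ 2 := by
    intro y
    rcases (Finset.univ.filter fun a => L a = y).eq_empty_or_nonempty with h | ⟨a₀, ha₀⟩
    · simp [h]
    refine (Finset.card_le_card (t := {a₀, a₀ + 1}) fun a ha => ?_).trans Finset.card_le_two
    simp only [Finset.mem_filter, Finset.mem_univ, true_and] at ha ha₀
    set u := a + a₀ with hu
    have hadd' : u ^ (2 ^ m) = a ^ (2 ^ m) + a₀ ^ (2 ^ m) :=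
      haveI : Fact (Nat.Prime 2) := ⟨Nat.prime_two⟩
      add_pow_char_pow a a₀ 2 m
    have h1 : u ^ e = u ^ 2 ^ m := by
      have h := ha.trans ha₀.symm
      simp only [L] at h
      rw [hu, he.add_pow, ← hu, hadd']
      grind
    have h3 : u ^ 2 ^ m = 0 ∨ u ^ 2 ^ m = 1 := by
      rw [he2, pow_mul] at h1
      rcases mul_eq_zero.1 (show u ^ 2 ^ m * (u ^ 2 ^ m - 1) = 0 by linear_combination h1) with h | h
      · exact Or.inl h
      · exact Or.inr (sub_eq_zero.1 h)
    rcases h3 with h | h
    · have hu0 := (pow_eq_zero_iff (by positivity)).1 h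
      simp only [Finset.mem_insert, Finset.mem_singleton]
      left; linear_combination hu0 - h2 * a₀
    · have hu1 : u = 1 := eq_one_of_pow_e he (by rw [he2, pow_mul, h, one_pow])
      simp only [Finset.mem_insert, Finset.mem_singleton]
      right; linear_combination hu1 - h2 * a₀
  have hbound2 : 2 ^ (2 * m) ≤ d * d := by
    let I := Finset.univ.image L
    have hI : Fintype.card F ≤ 2 * I.card :=
      Finset.card_le_mul_card_image (f := L) Finset.univ 2 fun y _ => hL2 y
    choose s hs using fun i : I => Finset.mem_image.1 i.2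
    let f : I → Module.End ℂ (W 1) := fun i => (ρ (P he (s i) 0)).restrict (hop (s i))
    have hli : LinearIndependent ℂ f := by
      refine (Fintype.linearIndependent_iff (R := ℂ) (v := f)).2 ?_
      intro g hg j
      obtain ⟨v, hv, hv0⟩ := Submodule.exists_mem_ne_zero_of_ne_bot (p := W 1)
        (fun h => hd0.ne' (by rw [hd, h, finrank_bot]))
      have hg' : ∀ u ∈ W 1, ∑ i, g i • ρ (P he (s i) 0) u = 0 := by
        intro u hu
        have h := congrArg (fun x : Module.End ℂ (W 1) => ((x ⟨u, hu⟩ : W 1) : Fin k → ℂ)) hg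
        simpa [f] using h
      have hc : ∀ c : F, ∑ i, (g i * ψ (c * L (s i))) • ρ (P he (s i) 0) v = 0 := by
        intro c
        have hw : ρ (P he c 0)⁻¹ v ∈ W 1 := by
          intro b
          show ρ (P he 0 b) (ρ (P he c 0)⁻¹ v) = _
          have hcm : P he 0 b * (P he c 0)⁻¹ = (P he c 0)⁻¹ * P he 0 b := by
            rw [P_inv, P_mul, P_mul, h0e]; congr 1 <;> ring
          rw [← Module.End.mul_apply, ← map_mul, hcm, map_mul, Module.End.mul_apply]
          have h3 : ρ (P he 0 b) v = ψ (1 * b) • v := hv b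
          rw [h3, map_smul]
        have h := congrArg (ρ (P he c 0)) (hg' _ hw)
        rw [map_sum, map_zero] at h
        refine Eq.trans (Finset.sum_congr rfl fun i _ => ?_) h
        rw [map_smul, hcomm _ _ _ hw, smul_smul, ← Module.End.mul_apply (ρ (P he c 0)), ← map_mul,
          mul_inv_cancel, map_one, Module.End.one_apply]
      have hzero : ∑ c, ψ (c * L (s j)) • ∑ i, (g i * ψ (c * L (s i))) • ρ (P he (s i) 0) v = 0 :=
        Finset.sum_eq_zero fun c _ => by rw [hc c, smul_zero]
      simp only [Finset.smul_sum, smul_smul] at hzero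
      rw [Finset.sum_comm] at hzero
      simp only [← Finset.sum_smul] at hzero
      have hinner : ∀ i, ∑ c, ψ (c * L (s j)) * (g i * ψ (c * L (s i))) =
          if i = j then (Fintype.card F : ℂ) * g i else 0 := by
        intro i
        have e1 : ∀ c, ψ (c * L (s j)) * (g i * ψ (c * L (s i))) =
            g i * ψ (c * (L (s j) + L (s i))) := by
          intro c; rw [mul_add c (L (s j)) (L (s i)), hadd (c * L (s j))]; ring
        simp only [e1, ← Finset.mul_sum]
        split_ifs with h
        · subst h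
          simp [show L (s i) + L (s i) = 0 by linear_combination h2 * L (s i), hψ0, mul_comm]
        · rw [horth _ ?_, mul_zero]
          intro h'
          apply h
          apply Subtype.ext
          rw [← (hs i).2, ← (hs j).2]
          linear_combination h' - h2 * L (s j)
      simp only [hinner, ite_smul, zero_smul, Finset.sum_ite_eq', Finset.mem_univ, if_true] at hzero
      rcases smul_eq_zero.1 hzero with h | h
      · exact (mul_eq_zero.1 h).resolve_left hq0
      · exfalso
        apply hv0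
        have := congrArg (ρ (P he (s j) 0)⁻¹) h
        rwa [← Module.End.mul_apply, ← map_mul, inv_mul_cancel, map_one, Module.End.one_apply,
          map_zero] at this
    have h := hli.fintype_card_le_finrank
    rw [Fintype.card_coe, Module.finrank_linearMap, ← hd] at h
    have : 2 ^ (2 * m + 1) = 2 * 2 ^ (2 * m) := by rw [pow_succ]; ring
    omega
  have hd2 : 2 ^ m ≤ d := by
    rw [show 2 ^ (2 * m) = 2 ^ m * 2 ^ m by rw [two_mul, pow_add]] at hbound2
    exact Nat.mul_self_le_mul_self_iff.1 hbound2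
  calc 2 ^ m * (2 ^ (2 * m + 1) - 1) ≤ d * (2 ^ (2 * m + 1) - 1) := Nat.mul_le_mul_right _ hd2
    _ = (Fintype.card F - 1) * d := by rw [hF, mul_comm]
    _ ≤ k := hbound1

/-- For the Suzuki group Sz(q), q = 2^(2m+1) with m ≥ 1 (realised inside Sp₄ over the field with q elements), every irreducible complex representation of degree at least 2 has degree at least 2^m·(q − 1). -/
theorem result {F : Type*} [Field F] [Fintype F] (m : ℕ) (hm : 1 ≤ m) (hF : Fintype.card F = 2 ^ (2 * m + 1)) :
    (∀ (k : ℕ) (ρ : Representation ℂ (Cfsg.Lie.Sz F (2 ^ (m + 1))) (Fin k → ℂ)), ρ.IsIrreducible → 2 ≤ k → 2 ^ m * (2 ^ (2 * m + 1) - 1) ≤ k) := by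
  exact fun k ρ hρ hk => key hm hF (twist_of_card hF) rfl ρ hρ hk

end Cfsg.Agent.S2337
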