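import Cfsg.Statements.S2338
import Cfsg.Agent.Lib.KnownB.MinDegG2.Spherical
import Cfsg.Agent.Lib.KnownB.MinDegG2.ThreeBound
import Cfsg.Agent.Lib.Char.Integral
import Cfsg.Agent.S1059
-- import your own Cfsg.Agent.* helpers here

set_option autoImplicit false
open Cfsg

namespace Cfsg.Agent.S2338

theorem three_iff {F : Type*} [Field F] [Fintype F] : (3 : F) = 0 ↔ Fintype.card F % 3 = 0 := by
  haveI : Fact (Nat.Prime 3) := ⟨Nat.prime_three⟩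
  constructor
  · intro h
    have ho : addOrderOf (1 : F) = 3 := addOrderOf_eq_prime (by simpa [nsmul_eq_mul] using h) one_ne_zero
    exact Nat.mod_eq_zero_of_dvd (ho ▸ addOrderOf_dvd_card)
  · intro h
    obtain ⟨x, hx⟩ := exists_prime_addOrderOf_dvd_card (G := F) 3 (Nat.dvd_of_mod_eq_zero h)
    have h3 : (3 : F) * x = 0 := by
      have := addOrderOf_nsmul_eq_zero x
      rw [hx, nsmul_eq_mul] at this
      exact_mod_cast this
    exact (mul_eq_zero.1 h3).resolve_right fun e => by rw [e, addOrderOf_zero] at hx; norm_num at hx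

theorem nine_le {F : Type*} [Field F] [Fintype F] (h : Fintype.card F % 3 = 0) (h3 : 3 < Fintype.card F) :
    9 ≤ Fintype.card F := by
  obtain ⟨p, _, n, hp, e⟩ := FiniteField.card' F
  rw [e] at h h3 ⊢
  have hp3 : p = 3 :=
    ((Nat.prime_dvd_prime_iff_eq Nat.prime_three hp).1 (Nat.prime_three.dvd_of_dvd_pow (Nat.dvd_of_mod_eq_zero h))).symm
  subst hp3
  have : 2 ≤ (n : ℕ) := by
    by_contra hn
    interval_cases hh : (n : ℕ) <;> norm_num at h3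
  exact (Nat.pow_le_pow_right (by norm_num) this).trans' (by norm_num)

/-- The three excluded degrees do not divide the group order. -/
theorem arith {q d : ℕ} (h9 : 9 ≤ q) (hlo : q ^ 4 + q ^ 2 ≤ d + 2)
    (hdvd : d ∣ q ^ 6 * (q ^ 2 - 1) * (q ^ 6 - 1)) : q ^ 4 + q ^ 2 + 1 ≤ d := by
  by_contra hcon
  have h2 : 1 ≤ q ^ 2 := Nat.one_le_pow _ _ (by omega)
  have h6 : 1 ≤ q ^ 6 := Nat.one_le_pow _ _ (by omega)
  have hz : (d : ℤ) ∣ (q : ℤ) ^ 6 * ((q : ℤ) ^ 2 - 1) * ((q : ℤ) ^ 6 - 1) := by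
    have := Int.natCast_dvd_natCast.2 hdvd
    push_cast [Nat.cast_sub h2, Nat.cast_sub h6] at this
    exact this
  have hY : (81 : ℤ) ≤ (q : ℤ) ^ 2 := by
    have : 9 ^ 2 ≤ q ^ 2 := Nat.pow_le_pow_left h9 2
    exact_mod_cast this
  have e4 : ((q : ℤ) ^ 2) ^ 2 = (q : ℤ) ^ 4 := by ring
  have e6 : ((q : ℤ) ^ 2) ^ 3 = (q : ℤ) ^ 6 := by ring
  rw [← e6] at hz
  have hlo' : ((q : ℤ) ^ 2) ^ 2 + (q : ℤ) ^ 2 ≤ (d : ℤ) + 2 := by rw [e4]; exact_mod_cast hlo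
  have hhi : (d : ℤ) < ((q : ℤ) ^ 2) ^ 2 + (q : ℤ) ^ 2 + 1 := by rw [e4]; exact_mod_cast Nat.lt_of_not_le hcon
  generalize (q : ℤ) ^ 2 = Y at *
  obtain h | h | h : (d : ℤ) = (Y - 1) * (Y + 2) ∨ (d : ℤ) = Y ^ 2 + Y - 1 ∨ (d : ℤ) = Y * (Y + 1) := by
    have e1 : (Y - 1) * (Y + 2) = Y ^ 2 + Y - 2 := by ring
    have e2 : Y * (Y + 1) = Y ^ 2 + Y := by ring
    omega
  · rw [h, show Y ^ 3 * (Y - 1) * (Y ^ 3 - 1) = (Y - 1) * (Y ^ 3 * (Y ^ 3 - 1)) by ring] at hz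
    have h1 : Y + 2 ∣ Y ^ 3 * (Y ^ 3 - 1) := (mul_dvd_mul_iff_left (by omega)).1 hz
    have h72 : Y + 2 ∣ (72 : ℤ) := by
      have := dvd_sub h1 (dvd_mul_right (Y + 2) (Y ^ 5 - 2 * Y ^ 4 + 4 * Y ^ 3 - 9 * Y ^ 2 + 18 * Y - 36))
      rwa [show Y ^ 3 * (Y ^ 3 - 1) - (Y + 2) * (Y ^ 5 - 2 * Y ^ 4 + 4 * Y ^ 3 - 9 * Y ^ 2 + 18 * Y - 36) = 72 by
        ring] at this
    have := Int.le_of_dvd (by norm_num) h72
    omega
  · rw [h] at hz
    have := dvd_sub hz (dvd_mul_right (Y ^ 2 + Y - 1) (Y ^ 5 - 2 * Y ^ 4 + 3 * Y ^ 3 - 6 * Y ^ 2 + 10 * Y - 16))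
    rw [show Y ^ 3 * (Y - 1) * (Y ^ 3 - 1) -
      (Y ^ 2 + Y - 1) * (Y ^ 5 - 2 * Y ^ 4 + 3 * Y ^ 3 - 6 * Y ^ 2 + 10 * Y - 16) = 26 * Y - 16 by ring] at this
    have := Int.le_of_dvd (by omega) this
    nlinarith
  · rw [h] at hz
    have := dvd_sub ((dvd_mul_left (Y + 1) Y).trans hz)
      (dvd_mul_right (Y + 1) (Y ^ 6 - 2 * Y ^ 5 + 2 * Y ^ 4 - 3 * Y ^ 3 + 4 * Y ^ 2 - 4 * Y + 4))
    rw [show Y ^ 3 * (Y - 1) * (Y ^ 3 - 1) -
      (Y + 1) * (Y ^ 6 - 2 * Y ^ 5 + 2 * Y ^ 4 - 3 * Y ^ 3 + 4 * Y ^ 2 - 4 * Y + 4) = -4 by ring, dvd_neg] at this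
    have := Int.le_of_dvd (by norm_num) this
    omega

/-- Lower bounds for the degrees of non-linear irreducible complex representations of the Chevalley group of type G₂ over a finite field with q elements: the degree is at least q³ + 1 when q ≡ 1 (mod 3) and q > 4, at least q³ − 1 when q ≡ 2 (mod 3) and q > 2, and at least q⁴ + q² + 1 when q ≡ 0 (mod 3) and q > 3. -/
theorem result {F : Type*} [Field F] [Fintype F] (k : ℕ) (ρ : Representation ℂ (Cfsg.Lie.chevG2.group F) (Fin k → ℂ)) (hρ : ρ.IsIrreducible) (hk : 2 ≤ k) :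
    (Fintype.card F % 3 = 1 → 4 < Fintype.card F → Fintype.card F ^ 3 + 1 ≤ k) ∧
    (Fintype.card F % 3 = 2 → 2 < Fintype.card F → Fintype.card F ^ 3 - 1 ≤ k) ∧
    (Fintype.card F % 3 = 0 → 3 < Fintype.card F → Fintype.card F ^ 4 + Fintype.card F ^ 2 + 1 ≤ k) := by
  revert ρ
  rw [← CfsgLib.Chevalley.Data.G2.datum_eq]
  intro ρ hρ
  haveI := hρ
  classical
  have hd : Module.finrank ℂ (Fin k → ℂ) = k := Module.finrank_fin_fun ℂ
  have hk' : 2 ≤ Module.finrank ℂ (Fin k → ℂ) := by rwa [hd]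
  obtain ⟨ψ, hψ⟩ : ∃ ψ : AddChar F ℂ, ψ.IsPrimitive := by
    obtain ⟨ψ, hψ⟩ := AddChar.exists_apply_ne_zero.2 (one_ne_zero (α := F))
    exact ⟨ψ, AddChar.IsPrimitive.of_ne_one fun e => hψ (by simp [e])⟩
  refine ⟨fun hq h4 => ?_, fun hq h2 => ?_, fun hq h3 => ?_⟩
  · have hne : (3 : F) ≠ 0 := fun e => by have := three_iff.1 e; omega
    rcases CfsgLib.KnownB.MinDegG2.bound (ρ := ρ) hk' hψ hne h4 with h | ⟨hm, he, -⟩
    · omega
    by_cases hE : Module.finrank ℂ (CfsgLib.KnownB.MinDegG2.wt ρ ψ [10, 11] []) ≤ Fintype.card F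
    · obtain ⟨hline, hR⟩ := CfsgLib.KnownB.MinDegG2.six_small (ρ := ρ) hψ hne h4 hm hE
      rcases Nat.le_one_iff_eq_zero_or_eq_one.1 hR with hR | hR
      · exact (CfsgLib.KnownB.MinDegG2.cusp_bound hψ hne h4 hm hq hR hline).trans_eq hd
      · exact (CfsgLib.KnownB.MinDegG2.spherical_bound hψ hne h4 hm hq hR hline).trans_eq hd
    · omega
  · have hne : (3 : F) ≠ 0 := fun e => by have := three_iff.1 e; omega
    have h4 : 4 < Fintype.card F := by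
      by_contra hle
      omega
    rcases CfsgLib.KnownB.MinDegG2.bound (ρ := ρ) hk' hψ hne h4 with h | ⟨-, -, h⟩ <;> omega
  · have h0 : (3 : F) = 0 := three_iff.2 hq
    have h9 := nine_le hq h3
    refine arith h9 ((CfsgLib.KnownB.MinDegG2.bound_three (ρ := ρ) hk' hψ h0 h9).trans_eq (by rw [hd])) ?_
    have hdv := CfsgLib.Char.finrank_dvd_card ρ
    rwa [hd, CfsgLib.Chevalley.Data.G2.datum_eq, Cfsg.Agent.S1059.result rfl] at hdv

end Cfsg.Agent.S2338
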