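import Cfsg.Statements.S2341
import Cfsg.Agent.Lib.KnownB.MinDegTwE6.Main
import Cfsg.Agent.Lib.KnownB.MinDegTwE6.Arith
import Cfsg.Agent.Lib.Char.Integral

set_option autoImplicit false
open Cfsg

namespace Cfsg.Agent.S2341

/-- For the twisted group ²E₆(q), realised over the field with q² elements (q a prime power), every irreducible complex representation of degree at least 2 has degree at least q(q⁶ − q³ + 1)(q⁴ + 1). -/
theorem result {K : Type*} [Field K] [Fintype K] (q : ℕ) (hq : IsPrimePow q) (hK : Fintype.card K = q ^ 2) :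
    (∀ (k : ℕ) (ρ : Representation ℂ (Cfsg.Lie.twistedE6 K q) (Fin k → ℂ)), ρ.IsIrreducible → 2 ≤ k → q * (q ^ 6 - q ^ 3 + 1) * (q ^ 4 + 1) ≤ k) := by
  have hK' : Nat.card K = q ^ 2 := Nat.card_eq_fintype_card.trans hK
  refine CfsgLib.Chevalley.Twist.E6.transfer hq hK' (fun _ G => ∀ (k : ℕ) (ρ : Representation ℂ ↥G (Fin k → ℂ)),
    ρ.IsIrreducible → 2 ≤ k → q * (q ^ 6 - q ^ 3 + 1) * (q ^ 4 + 1) ≤ k) ?_
  intro k ρ hρ hk
  haveI := hρ
  have h := CfsgLib.KnownB.MinDegTwE6.degree_bound (hq := hq) (hK := hK') (ρ := ρ) (by simpa using hk)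
  rw [Module.finrank_fin_fun] at h
  refine CfsgLib.KnownB.MinDegTwE6.tgt_le hq ?_ h
  have h1 := CfsgLib.Char.finrank_dvd_card ρ
  rw [Module.finrank_fin_fun,
    ← Nat.card_congr (MulEquiv.subgroupCongr (CfsgLib.Chevalley.Twist.E6.G_eq hq hK')).toEquiv] at h1
  have h2 := h1.trans (Dvd.intro_left _ (CfsgLib.Chevalley.Twist.E6.card_eq hq hK'))
  simpa only [CfsgLib.KnownB.MinDegTwE6.pi', ← mul_assoc] using h2

end Cfsg.Agent.S2341
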