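import Cfsg.Statements.S2343
import Cfsg.Agent.Lib.Chevalley.Twist.G2Count
import Mathlib.NumberTheory.LegendreSymbol.Complex
import Mathlib.RepresentationTheory.Character

set_option autoImplicit false
open Cfsg CfsgLib.Chevalley CfsgLib.Chevalley.Twist CfsgLib.Chevalley.Twist.G2

namespace Cfsg.Agent.S2343

local notation "T2" => Data.G2.tbl

variable {K : Type*} [Field K] [Finite K] {m : ℕ} (hK : Nat.card K = 3 ^ (2 * m + 1))

/-- The elements with parameters `0`, `u`, `v`. -/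
noncomputable def lo (a : K × K) : ↥(S hK).fix := ⟨ree m 0 a.1 a.2, ree_fix hK _ _ _⟩

theorem lo_add (a b : K × K) : lo hK a * lo hK b = lo hK (a + b) :=
  Subtype.ext (ree0_mul hK a.1 a.2 b.1 b.2)

theorem lo_zero : lo hK 0 = 1 := Subtype.ext (ree0_one hK)

theorem lo_hF (c : Kˣ) (a : K × K) : lo hK a * hF hK c =
    hF hK c * lo hK (((c : K) ^ (3 * 3 ^ m) * (c : K)⁻¹)⁻¹ * a.1, (c : K)⁻¹ * a.2) := by
  refine Subtype.ext (mul_inv_eq_iff_eq_mul.mp ?_).symm
  show hd hK c * ree m 0 _ _ * (hd hK c)⁻¹ = ree m 0 a.1 a.2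
  have hc : (c : K) ≠ 0 := c.ne_zero
  rw [conj_hd hK, mul_zero, ← mul_assoc ((c : K) ^ (3 * 3 ^ m) * (c : K)⁻¹),
    mul_inv_cancel₀ (mul_ne_zero (pow_ne_zero _ hc) (inv_ne_zero hc)), one_mul, ← mul_assoc,
    mul_inv_cancel₀ hc, one_mul]

theorem lo_shift (t : K) (a : K × K) : lo hK a * ⟨ree m t 0 0, ree_fix hK _ _ _⟩ =
    ⟨ree m t 0 0, ree_fix hK _ _ _⟩ * lo hK (a.1, a.2 - t * a.1) := by
  refine Subtype.ext ?_
  show ree m 0 a.1 a.2 * ree m t 0 0 = ree m t 0 0 * ree m 0 a.1 (a.2 - t * a.1)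
  have h3 := three_eq_zero hK
  have h0 : (3 : ℕ) ^ m ≠ 0 := by positivity
  simp only [ree_eq_quad, quad_mul hK, zero_pow h0, sub_eq_add_neg, add_pow3 hK,
    Odd.neg_pow (Odd.pow (by decide : Odd 3)), mul_pow,
    zero_pow (Nat.succ_ne_zero (3 * 3 ^ m)), zero_pow (Nat.succ_ne_zero (3 * 3 ^ m + 1))]
  congr 1 <;> grind

variable [Fintype K] {k : ℕ} (ρ : Representation ℂ ↥(S hK).fix (Fin k → ℂ))

/-- The weight spaces of the abelian subgroup. -/
def wt (ψ : AddChar K ℂ) (w : K × K) : Submodule ℂ (Fin k → ℂ) where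
  carrier := {x | ∀ a, ρ (lo hK a) x = ψ (w.1 * a.1 + w.2 * a.2) • x}
  add_mem' := fun {x y} hx hy a => by rw [map_add, hx a, hy a, smul_add]
  zero_mem' := fun a => by simp
  smul_mem' := fun c x hx a => by rw [map_smul, hx a, smul_comm]

/-- The projections on the weight spaces. -/
noncomputable def pr (ψ : AddChar K ℂ) (w : K × K) : Module.End ℂ (Fin k → ℂ) :=
  (Fintype.card (K × K) : ℂ)⁻¹ • ∑ a : K × K, ψ (-(w.1 * a.1 + w.2 * a.2)) • ρ (lo hK a)

theorem char_orth [DecidableEq K] {ψ : AddChar K ℂ} (hψ : ψ.IsPrimitive) (w : K × K) :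
    ∑ a : K × K, ψ (a.1 * w.1 + a.2 * w.2) = if w = 0 then (Fintype.card (K × K) : ℂ) else 0 := by
  simp only [Fintype.sum_prod_type, AddChar.map_add_eq_mul]
  rw [← Finset.sum_mul_sum, AddChar.sum_mulShift _ hψ, AddChar.sum_mulShift _ hψ, Fintype.card_prod]
  obtain ⟨a, b⟩ := w
  by_cases ha : a = 0 <;> by_cases hb : b = 0 <;> simp [ha, hb, Prod.ext_iff]

theorem pr_mem (ψ : AddChar K ℂ) (w : K × K) (x : Fin k → ℂ) : pr hK ρ ψ w x ∈ wt hK ρ ψ w := by
  intro b
  simp only [pr, LinearMap.smul_apply, map_smul, LinearMap.coe_sum, Finset.sum_apply, map_sum,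
    Finset.smul_sum, smul_smul, ← Module.End.mul_apply, ← map_mul, lo_add]
  refine Fintype.sum_equiv (Equiv.addLeft b) _ _ fun a => ?_
  simp only [Equiv.coe_addLeft]
  congr 1
  rw [mul_left_comm, ← AddChar.map_add_eq_mul]
  congr 2
  simp only [Prod.fst_add, Prod.snd_add]
  ring

theorem pr_wt [DecidableEq K] {ψ : AddChar K ℂ} (hψ : ψ.IsPrimitive) (w w' : K × K) (x : Fin k → ℂ)
    (hx : x ∈ wt hK ρ ψ w') : pr hK ρ ψ w x = if w = w' then x else 0 := by
  simp only [pr, LinearMap.smul_apply, LinearMap.coe_sum, Finset.sum_apply, hx _, smul_smul,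
    ← AddChar.map_add_eq_mul, ← Finset.sum_smul]
  have : ∀ a : K × K, -(w.1 * a.1 + w.2 * a.2) + (w'.1 * a.1 + w'.2 * a.2) =
      a.1 * (w' - w).1 + a.2 * (w' - w).2 := fun a => by simp only [Prod.fst_sub, Prod.snd_sub]; ring
  simp only [this, char_orth hψ, sub_eq_zero, eq_comm (a := w')]
  split_ifs with h
  · rw [inv_mul_cancel₀ (Nat.cast_ne_zero.2 Fintype.card_ne_zero), one_smul]
  · simp

theorem pr_sum {ψ : AddChar K ℂ} (hψ : ψ.IsPrimitive) : ∑ w, pr hK ρ ψ w = 1 := by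
  classical
  simp only [pr, ← Finset.smul_sum]
  rw [Finset.sum_comm]
  simp only [← Finset.sum_smul]
  have : ∀ a w : K × K, -(w.1 * a.1 + w.2 * a.2) = w.1 * (-a).1 + w.2 * (-a).2 := fun a w => by
    simp only [Prod.fst_neg, Prod.snd_neg]; ring
  simp only [this, char_orth hψ, neg_eq_zero, ite_smul, zero_smul, Finset.sum_ite_eq',
    Finset.mem_univ, if_true, lo_zero, map_one, smul_smul]
  rw [inv_mul_cancel₀ (Nat.cast_ne_zero.2 Fintype.card_ne_zero), one_smul]

theorem finrank_wt_le {ψ : AddChar K ℂ} {w w' : K × K} (g : ↥(S hK).fix)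
    (h : ∀ a : K × K, ∃ a', lo hK a * g = g * lo hK a' ∧
      w.1 * a'.1 + w.2 * a'.2 = w'.1 * a.1 + w'.2 * a.2) :
    (∀ x ∈ wt hK ρ ψ w, ρ g x ∈ wt hK ρ ψ w') ∧
      Module.finrank ℂ (wt hK ρ ψ w) ≤ Module.finrank ℂ (wt hK ρ ψ w') := by
  have hmem : ∀ x ∈ wt hK ρ ψ w, ρ g x ∈ wt hK ρ ψ w' := by
    intro x hx a
    obtain ⟨a', e, hw⟩ := h a
    rw [← Module.End.mul_apply, ← map_mul, e, map_mul, Module.End.mul_apply, hx a', map_smul, hw]
  refine ⟨hmem, LinearMap.finrank_le_finrank_of_injective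
    (f := ((ρ g).comp (wt hK ρ ψ w).subtype).codRestrict _ fun x => hmem _ x.2) fun x y e => ?_⟩
  have := congrArg (fun z : wt hK ρ ψ w' => ρ g⁻¹ (z : Fin k → ℂ)) e
  simp only [LinearMap.codRestrict_apply, LinearMap.comp_apply, Submodule.subtype_apply,
    ← Module.End.mul_apply, ← map_mul, inv_mul_cancel, map_one, Module.End.one_apply] at this
  exact Subtype.ext this

theorem shift_le {ψ : AddChar K ℂ} (α β t : K) :
    Module.finrank ℂ (wt hK ρ ψ (α, β)) ≤ Module.finrank ℂ (wt hK ρ ψ (α - β * t, β)) :=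
  (finrank_wt_le hK ρ ⟨ree m t 0 0, ree_fix hK _ _ _⟩ fun a =>
    ⟨_, lo_shift hK t a, by simp only; ring⟩).2

theorem scale_le {ψ : AddChar K ℂ} (c : Kˣ) (α β : K) :
    Module.finrank ℂ (wt hK ρ ψ (α, β)) ≤ Module.finrank ℂ (wt hK ρ ψ
      (α * ((c : K) ^ (3 * 3 ^ m) * (c : K)⁻¹)⁻¹, β * (c : K)⁻¹)) :=
  (finrank_wt_le hK ρ (hF hK c) fun a => ⟨_, lo_hF hK c a, by simp only; ring⟩).2

theorem key (hm : 1 ≤ m) (hirr : ρ.IsIrreducible) (hk : 2 ≤ k) :
    (3 ^ (2 * m + 1)) ^ 2 - 3 ^ (2 * m + 1) + 1 ≤ k := by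
  classical
  obtain ⟨ψ, hψ⟩ : ∃ ψ : AddChar K ℂ, ψ.IsPrimitive :=
    ⟨_, AddChar.FiniteField.primitiveChar_to_Complex_isPrimitive K⟩
  set q := 3 ^ (2 * m + 1) with hq
  obtain ⟨hq3, hq8, -, -⟩ := q_facts m
  rw [← hq] at hq3 hq8
  have hcard : Fintype.card K = q := by rw [← Nat.card_eq_fintype_card, hK]
  -- a weight with a nonzero second coordinate
  have hnt : ∃ w : K × K, w.2 ≠ 0 ∧ wt hK ρ ψ w ≠ ⊥ := by
    by_contra hall
    push Not at hall
    have htriv : ρ (lo hK (0, 1)) = 1 := by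
      conv_lhs => rw [← mul_one (ρ _), ← pr_sum hK ρ hψ, Finset.mul_sum]
      conv_rhs => rw [← pr_sum hK ρ hψ]
      refine Finset.sum_congr rfl fun w _ => LinearMap.ext fun x => ?_
      rw [Module.End.mul_apply, pr_mem hK ρ ψ w x (0, 1)]
      by_cases hw : w.2 = 0
      · simp [hw]
      · rw [(Submodule.eq_bot_iff _).mp (hall w hw) _ (pr_mem hK ρ ψ w x), smul_zero]
    have hker : ρ.ker = ⊤ := by
      have hs : IsSimpleGroup ↥(S hK).fix := by
        have h := (simple hK hm).1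
        rwa [grp_eq_fix hK] at h
      refine (IsSimpleGroup.eq_bot_or_eq_top_of_normal _ (MonoidHom.normal_ker ρ)).resolve_left
        fun h => ?_
      have h1 : lo hK ((0 : K), (1 : K)) = 1 :=
        Subgroup.mem_bot.mp (h ▸ MonoidHom.mem_ker.2 htriv)
      have h2 : ree m (0 : K) 0 1 = ree m 0 0 0 := (congrArg Subtype.val h1).trans (ree0_one hK).symm
      exact one_ne_zero (ree_inj hK h2).2.2
    let R : Subrepresentation ρ := ⟨ℂ ∙ Pi.single ⟨0, by omega⟩ 1, fun g x hx => by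
      rw [MonoidHom.mem_ker.1 (hker ▸ Subgroup.mem_top g)]
      exact hx⟩
    have hfin : Module.finrank ℂ R.toSubmodule = 1 := finrank_span_singleton (by simp)
    have hso : IsSimpleOrder (Subrepresentation ρ) := hirr
    rcases hso.eq_bot_or_eq_top R with h | h
    · rw [show R.toSubmodule = ⊥ from congrArg Subrepresentation.toSubmodule h, finrank_bot] at hfin
      omega
    · rw [show R.toSubmodule = ⊤ from congrArg Subrepresentation.toSubmodule h, finrank_top,
        Module.finrank_fin_fun] at hfin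
      omega
  let d : K × K → ℕ := fun w => Module.finrank ℂ (wt hK ρ ψ w)
  have hpos : ∀ w : K × K, w.2 ≠ 0 → 1 ≤ d w := by
    intro w hw
    obtain ⟨⟨α, β⟩, hβ, hne⟩ := hnt
    simp only at hβ
    have h0 : 1 ≤ d (α, β) := Nat.one_le_iff_ne_zero.2 fun h => hne (Submodule.finrank_eq_zero.1 h)
    let c : Kˣ := Units.mk0 (β / w.2) (div_ne_zero hβ hw)
    set α' := α * ((c : K) ^ (3 * 3 ^ m) * (c : K)⁻¹)⁻¹
    have h1 := scale_le hK ρ (ψ := ψ) c α β
    rw [show β * (c : K)⁻¹ = w.2 by simp only [c, Units.val_mk0]; field_simp] at h1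
    have h2 := shift_le hK ρ (ψ := ψ) α' w.2 ((α' - w.1) / w.2)
    rw [mul_div_cancel₀ _ hw, sub_sub_cancel] at h2
    exact h0.trans (h1.trans h2)
  have htotal : ∑ w, d w ≤ k := by
    let Φ : (∀ w : K × K, wt hK ρ ψ w) →ₗ[ℂ] (Fin k → ℂ) :=
      ∑ w, (wt hK ρ ψ w).subtype ∘ₗ LinearMap.proj w
    have hΦ : Function.Injective Φ := by
      refine (injective_iff_map_eq_zero Φ).2 fun f hf => ?_
      funext j
      have h := congrArg (pr hK ρ ψ j) hf
      simp only [Φ, LinearMap.coe_sum, Finset.sum_apply, LinearMap.comp_apply, LinearMap.proj_apply,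
        Submodule.subtype_apply, map_sum, map_zero] at h
      rw [Finset.sum_eq_single j (fun w _ hw => by
        rw [pr_wt hK ρ hψ _ _ _ (f w).2, if_neg (Ne.symm hw)]) (by simp),
        pr_wt hK ρ hψ _ _ _ (f j).2, if_pos rfl] at h
      exact Subtype.ext h
    have h := LinearMap.finrank_le_finrank_of_injective hΦ
    rwa [Module.finrank_pi_fintype, Module.finrank_fin_fun] at h
  let B : Finset (K × K) := Finset.univ ×ˢ Finset.univ.erase 0
  have hB : B.card = q ^ 2 - q := by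
    simp [B, Finset.card_erase_of_mem, hcard, Nat.mul_sub, pow_two]
  have hBmem : ∀ w : K × K, w ∈ B ↔ w.2 ≠ 0 := fun w => by simp [B]
  have hlow : q ^ 2 - q ≤ ∑ w ∈ B, d w := by
    rw [← hB, Finset.card_eq_sum_ones]
    exact Finset.sum_le_sum fun w hw => hpos w ((hBmem w).1 hw)
  have hle : q ^ 2 - q ≤ k :=
    hlow.trans ((Finset.sum_le_sum_of_subset (Finset.subset_univ B)).trans htotal)
  rcases hle.lt_or_eq with hlt | heq
  · omega
  exfalso
  have hzero : ∀ w : K × K, w.2 = 0 → d w = 0 := by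
    intro w hw
    have hsplit := Finset.sum_add_sum_compl B d
    have : d w ≤ ∑ w ∈ Bᶜ, d w :=
      Finset.single_le_sum (f := d) (fun _ _ => Nat.zero_le _) (by simp [hBmem, hw])
    omega
  -- the involutions have trace zero
  have hh : hF hK (-1) = h0 hK := rfl
  have htr0 : LinearMap.trace ℂ _ (ρ (h0 hK)) = 0 := by
    rw [← mul_one (ρ _), ← pr_sum hK ρ hψ, Finset.mul_sum, map_sum]
    refine Finset.sum_eq_zero fun w _ => ?_
    by_cases hw : w.2 = 0
    · have : pr hK ρ ψ w = 0 := LinearMap.ext fun x =>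
        (Submodule.eq_bot_iff _).mp (Submodule.finrank_eq_zero.1 (hzero w hw)) _ (pr_mem hK ρ ψ w x)
      rw [this, mul_zero, map_zero]
    · have hidem : pr hK ρ ψ w * pr hK ρ ψ w = pr hK ρ ψ w := LinearMap.ext fun x => by
        rw [Module.End.mul_apply, pr_wt hK ρ hψ _ _ _ (pr_mem hK ρ ψ w x), if_pos rfl]
      have hnull : pr hK ρ ψ w * ρ (h0 hK) * pr hK ρ ψ w = 0 := LinearMap.ext fun x => by
        have hmem : ρ (h0 hK) (pr hK ρ ψ w x) ∈ wt hK ρ ψ (w.1, -w.2) := by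
          rw [← hh]
          refine (finrank_wt_le hK ρ _ fun a => ⟨_, lo_hF hK (-1) a, ?_⟩).1 _ (pr_mem hK ρ ψ w x)
          have hodd : Odd (3 * 3 ^ m) := (by decide : Odd 3).mul (Odd.pow (by decide))
          simp [hodd.neg_one_pow]
        rw [Module.End.mul_apply, Module.End.mul_apply, pr_wt hK ρ hψ _ _ _ hmem, if_neg fun e => hw ?_]
        · rfl
        · have h2 : w.2 = -w.2 := congrArg Prod.snd e
          linear_combination w.2 * three_eq_zero hK - h2
      conv_lhs => rw [← hidem, ← mul_assoc, LinearMap.trace_mul_comm, ← mul_assoc, hnull, map_zero]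
  let E := eight hK
  have : Fintype ↥E := Fintype.ofFinite _
  have hinv : Invertible (Nat.card ↥E : ℂ) :=
    invertibleOfNonzero (Nat.cast_ne_zero.2 Nat.card_pos.ne')
  have havg := Representation.card_inv_mul_sum_char_eq_finrank (ρ.comp E.subtype)
  rw [Finset.sum_eq_single (1 : ↥E) (fun e _ he => ?_) (by simp), card_eight hK] at havg
  · simp only [Representation.character, map_one, LinearMap.trace_one, Module.finrank_fin_fun] at havg
    generalize Module.finrank ℂ (Representation.invariants (ρ.comp E.subtype)) = r at havg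
    have : k = 8 * r := by
      have : (k : ℂ) = ((8 * r : ℕ) : ℂ) := by push_cast; rw [← havg]; push_cast; ring
      exact_mod_cast this
    have h2 : q ^ 2 % 8 = 1 := by rw [Nat.pow_mod, hq8]
    have := Nat.le_self_pow (two_ne_zero) q
    omega
  · obtain ⟨g, hg⟩ := involution_conj hK (i := (e : ↥(S hK).fix)) (fun h => he (Subtype.ext h))
      (eight_sq hK e.2)
    rw [Representation.character, MonoidHom.comp_apply, Subgroup.subtype_apply]
    rw [← hg]
    simp only [map_mul]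
    rw [LinearMap.trace_mul_cycle, ← map_mul, inv_mul_cancel, map_one, one_mul, htr0]

end Cfsg.Agent.S2343

namespace Cfsg.Agent.S2343

/-- For the Ree group ²G₂(q), q = 3^(2m+1) with m ≥ 1 (realised over the field with q elements), every irreducible complex representation of degree at least 2 has degree at least q² − q + 1. -/
theorem result {K : Type*} [Field K] [Fintype K] (m : ℕ) (hm : 1 ≤ m) (hK : Fintype.card K = 3 ^ (2 * m + 1)) :
    (∀ (k : ℕ) (ρ : Representation ℂ (Cfsg.Lie.twistedG2 K (3 ^ m)) (Fin k → ℂ)), ρ.IsIrreducible → 2 ≤ k → (3 ^ (2 * m + 1)) ^ 2 - 3 ^ (2 * m + 1) + 1 ≤ k) := by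
  have hK' : Nat.card K = 3 ^ (2 * m + 1) := Nat.card_eq_fintype_card.trans hK
  exact transfer hK' (fun _ G => ∀ (k : ℕ) (ρ : Representation ℂ ↥G (Fin k → ℂ)), ρ.IsIrreducible →
    2 ≤ k → (3 ^ (2 * m + 1)) ^ 2 - 3 ^ (2 * m + 1) + 1 ≤ k) fun k ρ hi hk => key hK' ρ hm hi hk

end Cfsg.Agent.S2343
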