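import Cfsg.Statements.S2347
import Cfsg.Agent.Lib.KnownB.MinDeg.Weil
import Cfsg.Agent.Lib.Char.Basic

set_option autoImplicit false
open Cfsg

namespace Cfsg.Agent.S2347

/-- Smallest degree of a non-linear irreducible complex representation of the symplectic group Sp_{2n} over a finite field of odd order q, n ≥ 2: every irreducible complex representation of degree at least 2 has degree at least (q^n − 1)/2, and there is an irreducible complex representation of exactly that degree (a Weil representation). -/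
theorem result {F : Type*} [Field F] [Fintype F] [DecidableEq F] (n : ℕ) (hn : 2 ≤ n) (hodd : Odd (Fintype.card F)) :
    (∀ (k : ℕ) (ρ : Representation ℂ (Matrix.symplecticGroup (Fin n) F) (Fin k → ℂ)), ρ.IsIrreducible → 2 ≤ k → (Fintype.card F ^ n - 1) / 2 ≤ k) ∧
    (∃ ρ : Representation ℂ (Matrix.symplecticGroup (Fin n) F) (Fin ((Fintype.card F ^ n - 1) / 2) → ℂ), ρ.IsIrreducible) := by
  constructor
  · intro k ρ hρ hk
    have h := CfsgLib.MinDeg.sp_degree_bound (n := n) (by omega) hodd ρ ?_
    · rwa [Module.finrank_fin_fun] at h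
    intro hker
    let S : Submodule ℂ (Fin k → ℂ) := ℂ ∙ Pi.single ⟨0, by omega⟩ 1
    have hfin : Module.finrank ℂ S = 1 := finrank_span_singleton (by simp)
    have := hρ
    rcases CfsgLib.CharDeep.IrrTools.eq_bot_or_top_of_invariant ρ S fun g v hv => by
      rw [MonoidHom.mem_ker.1 (hker ▸ Subgroup.mem_top g)]; exact hv with h | h
    · rw [h, finrank_bot] at hfin; omega
    · rw [h, finrank_top, Module.finrank_fin_fun] at hfin; omega
  · obtain ⟨ψ, hψ1⟩ := AddChar.exists_apply_ne_zero.2 (one_ne_zero (α := F))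
    have hψ : ψ ≠ 0 := AddChar.ne_zero_iff.2 ⟨1, hψ1⟩
    have hfr := (CfsgLib.MinDeg.finrank_parSpace (n := n) (CfsgLib.MinDeg.two_ne_zero_of_odd hodd)).1
    have hd : Module.finrank ℂ (CfsgLib.MinDeg.parSpace F n (-1)) = (Fintype.card F ^ n - 1) / 2 := by
      omega
    have := CfsgLib.MinDeg.weilOdd_irreducible hodd hψ hn
    exact ⟨_, CfsgLib.Char.isIrreducible_of_equiv
      (CfsgLib.Char.transportEquiv (CfsgLib.MinDeg.weilOdd hodd hψ)
        (Module.finBasisOfFinrankEq ℂ _ hd).equivFun)⟩

end Cfsg.Agent.S2347
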