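import Cfsg.Statements.S2354
import Cfsg.Agent.Lib.KnownB.WordPoly
import Cfsg.Agent.Lib.KnownB.SzElem

set_option autoImplicit false
open Cfsg Matrix CfsgLib.KnownB.WordPoly CfsgLib.KnownB.SzElem

namespace Cfsg.Agent.S2354

theorem key {F : Type*} [Field F] [Fintype F] {m : ℕ} (hF : Fintype.card F = 2 ^ (2 * m + 1))
    {α : Type*} [DecidableEq α] (w : FreeGroup α) (hw : w ≠ 1)
    (hm : 4 * w.toWord.length + 1 ≤ m) :
    ∃ f : α → ↥(Cfsg.Lie.Sz F (2 ^ (m + 1))), FreeGroup.lift f w ≠ 1 := by
  classical
  set e := 2 ^ (m + 1) with he0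
  have he : Twist F e := twist_of_card hF
  have h2 := he.two
  let I : Finset α := (w.toWord.map Prod.fst).toFinset
  have hI : I.card ≤ w.toWord.length := (List.toFinset_card_le _).trans (by simp)
  have hmp : m < 2 ^ m := Nat.lt_two_pow_self
  have hq : Fintype.card F = 2 * (2 ^ m * 2 ^ m) := by rw [hF]; ring
  have he2 : e = 2 * 2 ^ m := by rw [he0]; ring
  have hemb : Fintype.card I ≤ Fintype.card F := by
    rw [hq, Fintype.card_coe]
    nlinarith
  obtain ⟨emb⟩ := Function.Embedding.nonempty_of_card_le hemb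
  let c : α → F := fun i => if h : i ∈ I then emb ⟨i, h⟩ else 0
  let g : F → α → ↥(Cfsg.Lie.Sz F e) := fun t i => if h : t = 0 then 1 else
    (U e he (c i) * L e he 1) * H e he (Units.mk0 t h) * (L e he 1 * U e he (c i))
  let data : α × Bool → LetterData F (Fin 4) := fun x =>
    ⟨Umat e (c x.1) * Lmat e 1, Lmat e 1 * Umat e (c x.1),
      if x.2 then ![2 * (e + 1), e + 2, e, 0] else ![0, e, e + 2, 2 * (e + 1)],
      if x.2 then 0 else 3⟩
  let φ : ↥(Cfsg.Lie.Sz F e) →* Matrix (Fin 4) (Fin 4) F :=
    (Units.coeHom _).comp (Cfsg.Lie.Sz F e).subtype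
  have hφ : ∀ x, φ x = ((x : GL (Fin 4) F) : Matrix (Fin 4) (Fin 4) F) := fun _ => rfl
  have hLi : ∀ b, (L e he b)⁻¹ = L e he b := fun b => Subtype.ext (Units.ext rfl)
  have hUi : ∀ b, (U e he b)⁻¹ = U e he b := fun b => Subtype.ext (Units.ext rfl)
  have hmemI : ∀ x ∈ w.toWord, x.1 ∈ I := fun x hx => by
    simp only [I, List.mem_toFinset]; exact List.mem_map.2 ⟨x, hx, rfl⟩
  have he1 := he.one_lt
  have hno : ∀ d : F, d ^ e + d + 1 ≠ 0 := by
    intro d hd
    have h1 : d ^ e = d + 1 := by grind
    have h3 : d ^ 2 = d := by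
      have h4 := he.pow_pow d
      rw [h1, he.add_pow, one_pow, h1] at h4
      grind
    rcases (show d = 0 ∨ d = 1 by
      rcases mul_eq_zero.1 (show d * (d - 1) = 0 by grind) with h | h
      · exact Or.inl h
      · exact Or.inr (sub_eq_zero.1 h)) with rfl | rfl
    · simp [zero_pow (Nat.ne_zero_of_lt he1)] at hd
    · rw [one_pow] at hd
      exact one_ne_zero (show (1 : F) = 0 by linear_combination hd - h2)
  obtain ⟨t, -, ht⟩ := exists_word_value φ w hw (e + 1) (by omega) data g
    (fun x _ => by
      rcases x with ⟨i, b⟩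
      cases b <;> refine ⟨by simp [data], fun r hr => ?_⟩ <;> fin_cases r <;>
        simp_all [data] <;> omega)
    (fun x hx y hy hxy => by
      have hi := hmemI x hx
      have hj := hmemI y hy
      rcases x with ⟨i, b⟩
      rcases y with ⟨j, b'⟩
      dsimp only at hi hj hxy
      have hTS : (data (i, b)).T * (data (j, b')).S = Lmat e 1 * Umat e (c i + c j) * Lmat e 1 := by
        rw [← Umat_mul he]; simp [data, Matrix.mul_assoc]
      have hne : b ≠ b' → c i + c j ≠ 0 := by
        intro hb h
        have hij : c i = c j := by grind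
        simp only [c, hi, hj, dif_pos] at hij
        exact hb (hxy (by simpa using congrArg Subtype.val (emb.injective hij)))
      have hd := hno (c i + c j)
      show ((data (i, b)).T * (data (j, b')).S) (data (i, b)).a (data (j, b')).a ≠ 0
      rw [hTS]
      cases b <;> cases b' <;>
        simp [data, Lmat, Umat, Matrix.mul_apply, Fin.sum_univ_four] <;>
        intro h
      · exact hd (by grind)
      · exact hne (by decide) ((pow_eq_zero_iff (Nat.ne_zero_of_lt he1)).1 (by grind))
      · exact absurd h (hne (by decide))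
      · exact hd (by grind))
    (fun x _ => by
      rcases x with ⟨i, b⟩
      cases b
      · exact ⟨⟨3, by simp [data, Lmat, Umat, Matrix.mul_apply, Fin.sum_univ_four]⟩,
          ⟨3, by simp [data, Lmat, Umat, Matrix.mul_apply, Fin.sum_univ_four]; grind⟩⟩
      · exact ⟨⟨2, by simp [data, Lmat, Umat, Matrix.mul_apply, Fin.sum_univ_four]⟩,
          ⟨0, by simp [data, Lmat, Umat, Matrix.mul_apply, Fin.sum_univ_four]⟩⟩)
    (fun t ht x _ => by
      rcases x with ⟨i, b⟩
      have key : ∀ (s : F) (n : Fin 4 → ℕ), (∀ r, t ^ (e + 1) * ![s ^ (e + 1), s, s⁻¹, (s ^ (e + 1))⁻¹] r = t ^ n r) →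
          t ^ (e + 1) • (Umat e (c i) * Lmat e 1 * Hmat e s * (Lmat e 1 * Umat e (c i))) =
          Umat e (c i) * Lmat e 1 * diagonal (fun r => t ^ n r) * (Lmat e 1 * Umat e (c i)) := by
        intro s n hn
        rw [← Matrix.smul_mul, ← Matrix.mul_smul]
        congr 2
        rw [Hmat, ← Matrix.diagonal_smul]
        congr 1
        funext r
        exact hn r
      cases b
      · simp only [data, g, dif_neg ht, cond_false, _root_.mul_inv_rev, hLi, hUi,
          Bool.false_eq_true, if_false, hφ, Subgroup.coe_mul, Units.val_mul, coe_U, coe_L,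
          coe_H_inv, Units.val_mk0, ← mul_assoc]
        simp only [Matrix.mul_assoc] at key ⊢
        refine key t⁻¹ _ fun r => ?_
        fin_cases r <;> simp [inv_pow, pow_succ, pow_mul'] <;> field_simp <;> first | (simp_all; done) | ring
      · simp only [data, g, dif_neg ht, cond_true, if_true, hφ, Subgroup.coe_mul, Units.val_mul,
          coe_U, coe_L, coe_H, Units.val_mk0]
        refine key t _ fun r => ?_
        fin_cases r <;> simp [pow_succ, pow_mul'] <;> field_simp <;> first | (simp_all; done) | ring)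
    {1} (by
      rw [Finset.card_singleton, one_mul, hq, he2]
      nlinarith)
  refine ⟨g t, fun h => ht 1 (by simp) ?_⟩
  rw [h, map_one, one_smul]

/-- A non-trivial law holds in only finitely many Suzuki groups: for every non-trivial element w of the free group on countably many generators there is N such that for q = 2^(2m+1) with m ≥ N some substitution of elements of the Suzuki group over the field with q elements into w is not the identity. -/
theorem result (w : FreeGroup ℕ) (hw : w ≠ 1) :
    ∃ N : ℕ, ∀ (F : Type*) [Field F] [Fintype F] (m : ℕ), 1 ≤ m → N ≤ m →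
      Fintype.card F = 2 ^ (2 * m + 1) →
      ∃ f : ℕ → ↥(Cfsg.Lie.Sz F (2 ^ (m + 1))), FreeGroup.lift f w ≠ 1 := by
  refine ⟨4 * w.toWord.length + 1, fun F _ _ m _ hN hF => ?_⟩
  exact key hF w hw hN

end Cfsg.Agent.S2354
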