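import Cfsg.Statements.S2355
import Cfsg.Agent.Lib.KnownB.WordClassical

set_option autoImplicit false
open Cfsg CfsgLib.KnownB.WordSL2 CfsgLib.KnownB.WordAlt CfsgLib.KnownB.WordClassical

namespace Cfsg.Agent.S2355

variable {w : FreeGroup ℕ} {G : Type*} [Group G]

theorem no_law (hlaw : ∀ f : ℕ → G, FreeGroup.lift f w = 1) {H : Type*} [Group H]
    (h : NoncentralValue w H) (e : G ≃* H ⧸ Subgroup.center H) : False := by
  obtain ⟨f, hf⟩ := h.quotient_center
  apply hf
  have h2 := congrArg e.toMonoidHom (hlaw fun i => e.symm (f i))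
  rw [hom_lift, map_one] at h2
  simpa using h2

theorem card_bound {H : Type*} [Group H] {F : Type*} [Field F] [Fintype F] {ι : Type*} [Fintype ι]
    [DecidableEq ι] (ψ : H → Matrix ι ι F) (hψ : Function.Injective ψ)
    (e : G ≃* H ⧸ Subgroup.center H) {B M : ℕ} (hB : Fintype.card F ≤ B)
    (hM : Fintype.card ι ≤ M) : Nat.card G ≤ B ^ (M * M) := by
  have : Finite H := Finite.of_injective ψ hψ
  rw [Nat.card_congr e.toEquiv]
  refine (Nat.card_le_card_of_surjective _ (QuotientGroup.mk'_surjective (Subgroup.center H))).trans ?_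
  refine (Nat.card_le_card_of_injective ψ hψ).trans ?_
  rw [show Nat.card (Matrix ι ι F) = Nat.card (ι → ι → F) from rfl, Nat.card_eq_fintype_card,
    Fintype.card_fun, Fintype.card_fun, ← pow_mul]
  calc Fintype.card F ^ (Fintype.card ι * Fintype.card ι)
      ≤ B ^ (Fintype.card ι * Fintype.card ι) := Nat.pow_le_pow_left hB _
    _ ≤ B ^ (M * M) := Nat.pow_le_pow_right (by
        have := Fintype.card_pos (α := F); omega) (Nat.mul_le_mul hM hM)

/-- A non-trivial law is satisfied by only finitely many finite simple groups that are alternating or classical, up to isomorphism: for every non-trivial element w of the free group on countably many generators there is a bound N such that every alternating group of degree ≥ 5 and every simple classical group (linear, symplectic, unitary or orthogonal, in this problem's sense) in which w is a law has order at most N. -/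
theorem result (w : FreeGroup ℕ) (hw : w ≠ 1) :
    ∃ N : ℕ, ∀ (G : Type*) [Group G] [Finite G],
      (Cfsg.IsAlternating G ∨ Cfsg.IsPSL G ∨ Cfsg.IsPSp G ∨ Cfsg.IsPSU G ∨ Cfsg.IsPOmegaOdd G ∨
          Cfsg.IsPOmegaPlus G ∨ Cfsg.IsPOmegaMinus G) →
      (∀ f : ℕ → G, FreeGroup.lift f w = 1) → Nat.card G ≤ N := by
  classical
  set N2 := 8 * w.toWord.length + 4 with hN2
  obtain ⟨p, hp, hpr⟩ := Nat.exists_infinite_primes N2
  have : Fact p.Prime := ⟨hpr⟩
  have hK := noncentralValue_SL2 (F := ZMod p) w hw (by rw [ZMod.card]; omega)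
  set N1 := 2 * Fintype.card (Matrix.SpecialLinearGroup (Fin 2) (ZMod p)) + 4 with hN1
  refine ⟨(N2 * N2) ^ ((2 * N1 + 2) * (2 * N1 + 2)), fun G _ _ hG hlaw => ?_⟩
  have hSL : ∀ (F : Type) [Field F] [Fintype F] (m : ℕ), 2 ≤ m →
      (N1 ≤ m ∨ N2 ≤ Fintype.card F) →
      NoncentralValue w (commutator (Matrix.SpecialLinearGroup (Fin m) F)) := by
    intro F _ _ m hm h
    rcases h with h | h
    · obtain ⟨ψ, hψ⟩ := exists_hom_alternating (K := Matrix.SpecialLinearGroup (Fin 2) (ZMod p)) m
        (by omega)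
      exact hK.commutator_map ((altSL (F := F) m).comp ψ) ((altSL_injective m).comp hψ)
    · exact (noncentralValue_SL2 (F := F) w hw (by omega)).commutator_map (padSL hm)
        (padSL_injective hm)
  have hq2 : N2 ≤ N2 * N2 := Nat.le_mul_self N2
  have hcases : ∀ (m c : ℕ), (N1 ≤ m ∨ N2 ≤ c) ∨ (m < N1 ∧ c ≤ N2 * N2) := by omega
  rcases hG with hA | hP | hS | hU | hO | hPl | hMi
  · obtain ⟨n, -, ⟨e⟩⟩ := hA
    by_cases h : N1 ≤ n
    · exfalso
      obtain ⟨ψ, hψ⟩ := exists_hom_alternating (K := Matrix.SpecialLinearGroup (Fin 2) (ZMod p)) n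
        (by omega)
      obtain ⟨f, z, hz⟩ := hK.of_injective (ψ.comp (commutator _).subtype)
        (hψ.comp (Subgroup.subtype_injective _))
      refine hz ?_
      have h2 := congrArg e.toMonoidHom (hlaw fun i => e.symm (f i))
      rw [hom_lift, map_one] at h2
      simp at h2
      rw [h2]
      exact Commute.one_left z
    · rw [Nat.card_congr e.toEquiv]
      refine (Nat.card_le_card_of_injective Subtype.val Subtype.val_injective).trans ?_
      rw [Nat.card_perm, Nat.card_fin]
      refine (Nat.factorial_le_pow n).trans ?_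
      calc n ^ n ≤ (2 ^ n) ^ n := Nat.pow_le_pow_left Nat.lt_two_pow_self.le _
        _ = 2 ^ (n * n) := (pow_mul 2 n n).symm
        _ ≤ (N2 * N2) ^ (n * n) := Nat.pow_le_pow_left (by
            have : 4 * 4 ≤ N2 * N2 := Nat.mul_le_mul (by omega) (by omega)
            omega) _
        _ ≤ _ := Nat.pow_le_pow_right (by positivity) (Nat.mul_le_mul (by omega) (by omega))
  · obtain ⟨F, _, _, n, hn, -, ⟨e⟩⟩ := hP
    rcases hcases n (Fintype.card F) with h | ⟨h1, h2⟩
    · exact (no_law hlaw
        ((hSL F n hn h).of_injective (commutator _).subtype (Subgroup.subtype_injective _)) e).elim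
    · exact card_bound (fun x : Matrix.SpecialLinearGroup (Fin n) F => x.1) Subtype.val_injective e
        h2 (by rw [Fintype.card_fin]; omega)
  · obtain ⟨F, _, _, n, hn, -, ⟨e⟩⟩ := hS
    rcases hcases n (Fintype.card F) with h | ⟨h1, h2⟩
    · exact (no_law hlaw (((hSL F n hn h).commutator_map (slToSp n)
        (slTo_injective n 0 0).1).of_injective (commutator _).subtype
        (Subgroup.subtype_injective _)) e).elim
    · exact card_bound (fun x : Matrix.symplecticGroup (Fin n) F => x.1) Subtype.val_injective e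
        h2 (by simp; omega)
  · obtain ⟨F, _, _, n, q, hF, hn, -, ⟨e⟩⟩ := hU
    obtain ⟨σ, K₀, _, _, ι, hσ, hK₀, hq, hι⟩ := exists_subfield hF
    by_cases h1 : N1 ≤ n
    · obtain ⟨ψ, hψ⟩ := exists_hom_alternating (K := Matrix.SpecialLinearGroup (Fin 2) (ZMod p)) n
        (by omega)
      refine (no_law hlaw ((hK.of_injective (ψ.comp (commutator _).subtype)
        (hψ.comp (Subgroup.subtype_injective _))).of_injective
        ((altSL (F := F) n).codRestrict (Cfsg.SU n F q) (altSL_mem_SU σ hσ)) ?_) e).elim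
      exact fun a b h => altSL_injective (F := F) n (congrArg Subtype.val h)
    by_cases h2 : N2 ≤ q
    · obtain ⟨ψ, hψ⟩ := exists_hom_SU (n := n) (by omega) σ hσ hq hF ι hι
      exact (no_law hlaw ((noncentralValue_SL2 (F := K₀) w hw (by omega)).of_injective
        (ψ.comp (commutator _).subtype) (hψ.comp (Subgroup.subtype_injective _))) e).elim
    · exact card_bound (fun x : Cfsg.SU n F q => x.1.1)
        (fun x y h => Subtype.ext (Subtype.ext h)) e
        (hF.trans_le (by rw [pow_two]; exact Nat.mul_le_mul (by omega) (by omega)))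
        (by rw [Fintype.card_fin]; omega)
  · obtain ⟨F, _, _, n, hn, -, ⟨e⟩⟩ := hO
    rcases hcases n (Fintype.card F) with h | ⟨h1, h2⟩
    · exact (no_law hlaw ((hSL F n (by omega) h).commutator_map (slToOdd n)
        (slTo_injective n 0 0).2.2.1) e).elim
    · exact card_bound (fun x : Cfsg.Omega F (Cfsg.quadFormOdd n F) => x.1.1.1)
        (fun x y h => Subtype.ext (Subtype.ext (Units.ext h))) e h2 (by simp; omega)
  · obtain ⟨F, _, _, n, hn, ⟨e⟩⟩ := hPl
    rcases hcases n (Fintype.card F) with h | ⟨h1, h2⟩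
    · exact (no_law hlaw ((hSL F n (by omega) h).commutator_map (slToPlus n)
        (slTo_injective n 0 0).2.1) e).elim
    · exact card_bound (fun x : Cfsg.Omega F (Cfsg.quadFormPlus n F) => x.1.1.1)
        (fun x y h => Subtype.ext (Subtype.ext (Units.ext h))) e h2 (by simp; omega)
  · obtain ⟨F, _, _, n, a, b, hn, -, ⟨e⟩⟩ := hMi
    rcases hcases (n - 1) (Fintype.card F) with h | ⟨h1, h2⟩
    · exact (no_law hlaw ((hSL F (n - 1) (by omega) h).commutator_map (slToMinus (n - 1) a b)
        (slTo_injective (n - 1) a b).2.2.2) e).elim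
    · exact card_bound (fun x : Cfsg.Omega F (Cfsg.quadFormMinus (n - 1) F a b) => x.1.1.1)
        (fun x y h => Subtype.ext (Subtype.ext (Units.ext h))) e h2 (by simp; omega)

end Cfsg.Agent.S2355
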