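import Cfsg.Statements.S2363
import Cfsg.Agent.S0245
import Cfsg.Agent.S0246
import Cfsg.Agent.S0280
import Cfsg.Agent.S0292
import Cfsg.Agent.S0293
import Cfsg.Agent.S0294
import Cfsg.Agent.S1059
import Cfsg.Agent.S1062
import Cfsg.Agent.S1063
import Cfsg.Agent.S1064
import Cfsg.Agent.S1065
import Cfsg.Agent.S1066
import Cfsg.Agent.S1067
import Cfsg.Agent.S1068
import Cfsg.Agent.S1069
import Cfsg.Agent.Lib.Classical.SLOrders
import Cfsg.Agent.Lib.KnownB.SuzukiTransfer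
-- import your own Cfsg.Agent.* helpers here

set_option autoImplicit false
open Cfsg

namespace Cfsg.Agent.S2363

namespace Aux

/-- `M` is prime to `p` and below `q ^ D`. -/
def Bd (p q M D : ℕ) : Prop := ¬ p ∣ M ∧ M < q ^ D

/-- The two bounds of the statement, for a number `N` standing for the group order. -/
def Good (p N : ℕ) : Prop :=
  N < p ^ (3 * N.factorization p) ∧ N ^ 3 < p ^ (8 * N.factorization p)

variable {p q : ℕ}

theorem not_dvd_sub (hpq : p ∣ q) (hp : p.Prime) (hq : 2 ≤ q) {i : ℕ} (hi : 1 ≤ i) :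
    ¬ p ∣ q ^ i - 1 := by
  intro h
  have h1 : p ∣ q ^ i := hpq.trans (dvd_pow_self q (by omega))
  have h2 : 1 ≤ q ^ i := Nat.one_le_pow _ _ (by omega)
  exact hp.not_dvd_one (by simpa [Nat.sub_sub_self h2] using Nat.dvd_sub h1 h)

theorem not_dvd_add (hpq : p ∣ q) (hp : p.Prime) {i : ℕ} (hi : 1 ≤ i) :
    ¬ p ∣ q ^ i + 1 := fun h =>
  hp.not_dvd_one ((Nat.dvd_add_iff_right (hpq.trans (dvd_pow_self q (by omega)))).2 h)

theorem bd_sub (hp : p.Prime) (hpq : p ∣ q) (hq : 2 ≤ q) {i : ℕ} (hi : 1 ≤ i) :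
    Bd p q (q ^ i - 1) i :=
  ⟨not_dvd_sub hpq hp hq hi, Nat.sub_lt (Nat.one_le_pow _ _ (by omega)) one_pos⟩

theorem bd_add (hp : p.Prime) (hpq : p ∣ q) (hq : 2 ≤ q) {i : ℕ} (hi : 1 ≤ i) :
    Bd p q (q ^ i + 1) (i + 1) := by
  refine ⟨not_dvd_add hpq hp hi, ?_⟩
  have h1 : q ≤ q ^ i := Nat.le_self_pow (by omega) q
  have h2 : q ^ i * 2 ≤ q ^ i * q := Nat.mul_le_mul_left _ hq
  rw [pow_succ]
  omega

theorem bd_pair (hp : p.Prime) (hpq : p ∣ q) (hq : 2 ≤ q) {i j : ℕ} (hi : 1 ≤ i) (hij : i ≤ j) :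
    Bd p q ((q ^ i - 1) * (q ^ j + 1)) (i + j) := by
  refine ⟨hp.not_dvd_mul (not_dvd_sub hpq hp hq hi) (not_dvd_add hpq hp (hi.trans hij)), ?_⟩
  have h2 : 1 ≤ q ^ i := Nat.one_le_pow _ _ (by omega)
  have h3 : q ^ i ≤ q ^ j := Nat.pow_le_pow_right (by omega) hij
  obtain ⟨x, hx⟩ := Nat.exists_eq_add_of_le' h2
  rw [pow_add, hx, Nat.add_sub_cancel]
  nlinarith

theorem bd_triple (hp : p.Prime) (hpq : p ∣ q) (hq : 2 ≤ q) :
    Bd p q (q ^ 8 + q ^ 4 + 1) 9 := by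
  refine ⟨fun h => hp.not_dvd_one ((Nat.dvd_add_iff_right ?_).2 h), ?_⟩
  · exact dvd_add (hpq.trans (dvd_pow_self q (by omega))) (hpq.trans (dvd_pow_self q (by omega)))
  · have h1 : q ^ 4 + 1 < q ^ 5 := (bd_add hp hpq hq (by omega : 1 ≤ 4)).2
    have h2 : q ^ 5 ≤ q ^ 8 := Nat.pow_le_pow_right (by omega) (by omega)
    have h3 : q ^ 8 * 2 ≤ q ^ 8 * q := Nat.mul_le_mul_left _ hq
    have h4 : q ^ 9 = q ^ 8 * q := pow_succ q 8
    omega

theorem Bd.mul {M M' D D' : ℕ} (hp : p.Prime) (h : Bd p q M D) (h' : Bd p q M' D') :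
    Bd p q (M * M') (D + D') :=
  ⟨hp.not_dvd_mul h.1 h'.1, by rw [pow_add]; exact Nat.mul_lt_mul'' h.2 h'.2⟩

theorem bd_prod_sub (hp : p.Prime) (hpq : p ∣ q) (hq : 2 ≤ q) (e : ℕ → ℕ) (he : ∀ i, 1 ≤ e i) :
    ∀ n : ℕ, 1 ≤ n → Bd p q (∏ i ∈ Finset.range n, (q ^ e i - 1)) (∑ i ∈ Finset.range n, e i) := by
  intro n hn
  induction n, hn using Nat.le_induction with
  | base => simpa using bd_sub hp hpq hq (he 0)
  | succ k _ ih => rw [Finset.prod_range_succ, Finset.sum_range_succ]; exact ih.mul hp (bd_sub hp hpq hq (he k))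

theorem val_eq {N d M e : ℕ} (hp : p.Prime) (hd : ¬ p ∣ d) (hN0 : N ≠ 0) (hM : ¬ p ∣ M)
    (heq : d * N = p ^ e * M) : N.factorization p = e := by
  have hd0 : d ≠ 0 := fun h => hd (h ▸ dvd_zero p)
  have hM0 : M ≠ 0 := fun h => hM (h ▸ dvd_zero p)
  have h : (d * N).factorization p = (p ^ e * M).factorization p := by rw [heq]
  rw [Nat.factorization_mul hd0 hN0, Nat.factorization_mul (pow_ne_zero e hp.ne_zero) hM0,
    Finsupp.add_apply, Finsupp.add_apply, Nat.factorization_eq_zero_of_not_dvd hd,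
    Nat.factorization_eq_zero_of_not_dvd hM, hp.factorization_pow, Finsupp.single_eq_same] at h
  omega

/-- The criterion: `d * N = q ^ a * M` with `d`, `M` prime to `p` and `M < q ^ D`, `3 * D ≤ 5 * a`. -/
theorem good_of_eq {N d a M D f : ℕ} (hp : p.Prime) (hq : q = p ^ f) (hd : ¬ p ∣ d)
    (heq : d * N = q ^ a * M) (hM : Bd p q M D) (hD : 3 * D ≤ 5 * a) : Good p N := by
  have hd0 : d ≠ 0 := fun h => hd (h ▸ dvd_zero p)
  have hM0 : M ≠ 0 := fun h => hM.1 (h ▸ dvd_zero p)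
  have hq0 : 0 < q := hq ▸ pow_pos hp.pos f
  have hN0 : N ≠ 0 := by
    rintro rfl
    exact Nat.mul_ne_zero (pow_pos hq0 a).ne' hM0 (by simpa using heq.symm)
  have hk : N.factorization p = f * a := by
    exact val_eq hp hd hN0 hM.1 (by rw [heq, hq, ← pow_mul])
  have hlt : N < q ^ (a + D) := calc
    N ≤ d * N := Nat.le_mul_of_pos_left _ (Nat.pos_of_ne_zero hd0)
    _ = q ^ a * M := heq
    _ < q ^ a * q ^ D := Nat.mul_lt_mul_of_pos_left hM.2 (pow_pos hq0 a)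
    _ = q ^ (a + D) := (pow_add q a D).symm
  have he : ∀ c : ℕ, p ^ (c * N.factorization p) = q ^ (c * a) := fun c => by
    rw [hk, hq, ← pow_mul]; ring_nf
  refine ⟨?_, ?_⟩
  · rw [he]; exact hlt.trans_le (Nat.pow_le_pow_right hq0 (by omega))
  · rw [he]
    exact (Nat.pow_lt_pow_left hlt (by omega)).trans_le (by
      rw [← pow_mul]; exact Nat.pow_le_pow_right hq0 (by omega))

theorem sum_two (k : ℕ) : 2 * ∑ i ∈ Finset.range k, (i + 2) = k * (k + 3) := by
  induction k with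
  | zero => rfl
  | succ k ih => rw [Finset.sum_range_succ]; linarith

theorem sum_even (k : ℕ) : ∑ i ∈ Finset.range k, 2 * (i + 1) = k * (k + 1) := by
  induction k with
  | zero => rfl
  | succ k ih => rw [Finset.sum_range_succ, ih]; ring

theorem two_mul_choose (k : ℕ) : 2 * ((k + 1) * (k + 1 - 1) / 2) = (k + 1) * k := by
  rw [Nat.add_sub_cancel, Nat.mul_div_cancel' ?_]
  rw [mul_comm]
  exact (Nat.even_mul_succ_self k).two_dvd

theorem prod_pow_sub (q n : ℕ) :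
    ∏ i : Fin n, (q ^ n - q ^ (i : ℕ)) =
      q ^ (n * (n - 1) / 2) * ∏ i ∈ Finset.range n, (q ^ (i + 1) - 1) := by
  rw [Fin.prod_univ_eq_prod_range (fun i => q ^ n - q ^ i) n]
  calc ∏ i ∈ Finset.range n, (q ^ n - q ^ i)
      = ∏ i ∈ Finset.range n, q ^ i * (q ^ (n - i) - 1) := by
        refine Finset.prod_congr rfl fun i hi => ?_
        rw [Nat.mul_sub, mul_one, ← pow_add, Nat.add_sub_of_le (Finset.mem_range.1 hi).le]
    _ = (∏ i ∈ Finset.range n, q ^ i) * ∏ i ∈ Finset.range n, (q ^ (n - i) - 1) :=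
        Finset.prod_mul_distrib
    _ = _ := by
        rw [Finset.prod_pow_eq_pow_sum, Finset.sum_range_id,
          ← Finset.prod_range_reflect (fun i => q ^ (i + 1) - 1) n]
        congr 1
        refine Finset.prod_congr rfl fun i hi => ?_
        have := Finset.mem_range.1 hi
        rw [show n - 1 - i + 1 = n - i by omega]

theorem not_dvd_gcd_left {M : ℕ} (c : ℕ) (hM : ¬ p ∣ M) : ¬ p ∣ Nat.gcd c M :=
  fun h => hM (h.trans (Nat.gcd_dvd_right _ _))

theorem psl {F : Type*} [Field F] [Fintype F] {n f : ℕ} (hp : p.Prime) (hq : q = p ^ f) (hq2 : 2 ≤ q)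
    (hpq : p ∣ q) (hF : Fintype.card F = q) (hn : 2 ≤ n) :
    if n = 2 then
      (Nat.card (Matrix.ProjectiveSpecialLinearGroup (Fin n) F) <
        p ^ (3 * (Nat.card (Matrix.ProjectiveSpecialLinearGroup (Fin n) F)).factorization p)) ∧
      (Nat.card (Matrix.ProjectiveSpecialLinearGroup (Fin n) F)).factorization p = f
    else Good p (Nat.card (Matrix.ProjectiveSpecialLinearGroup (Fin n) F)) := by
  set N := Nat.card (Matrix.ProjectiveSpecialLinearGroup (Fin n) F) with hN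
  obtain ⟨k, rfl⟩ := Nat.exists_eq_add_of_le' (show 1 ≤ n by omega)
  have h1 := CfsgLib.Classical.card_psl_mul hF (k + 1) (by omega)
  have h2 := CfsgLib.Classical.card_sl_mul hF (k + 1) (by omega)
  rw [← h1, ← hN, prod_pow_sub, Finset.prod_range_succ'] at h2
  simp only [zero_add, pow_one] at h2
  have heq : Nat.gcd (k + 1) (q - 1) * N =
      q ^ ((k + 1) * (k + 1 - 1) / 2) * ∏ i ∈ Finset.range k, (q ^ (i + 2) - 1) := by
    refine mul_left_cancel₀ (show q - 1 ≠ 0 by omega) ?_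
    rw [h2]
    ring
  have hd : ¬ p ∣ Nat.gcd (k + 1) (q - 1) :=
    not_dvd_gcd_left _ (by simpa using not_dvd_sub hpq hp hq2 (le_refl 1))
  have hB := bd_prod_sub hp hpq hq2 (fun i => i + 2) (fun i => by omega) k (by omega)
  split_ifs with h
  · obtain rfl : k = 1 := by omega
    simp only [Finset.sum_range_one, Finset.prod_range_one, zero_add] at hB heq
    norm_num at heq
    have hd0 : Nat.gcd 2 (q - 1) ≠ 0 := fun h => hd (h ▸ dvd_zero p)
    have hM0 : q ^ 2 - 1 ≠ 0 := fun h => hB.1 (h ▸ dvd_zero p)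
    have hN0 : N ≠ 0 := Nat.card_pos.ne'
    have hk : N.factorization p = f := by
      exact val_eq hp hd hN0 hB.1 (by rw [heq, hq])
    refine ⟨?_, hk⟩
    rw [hk, mul_comm 3 f, pow_mul, ← hq]
    calc N ≤ Nat.gcd 2 (q - 1) * N := Nat.le_mul_of_pos_left _ (Nat.pos_of_ne_zero hd0)
      _ = q * (q ^ 2 - 1) := heq
      _ < q * q ^ 2 := Nat.mul_lt_mul_of_pos_left hB.2 (by omega)
      _ = q ^ 3 := by ring
  · refine good_of_eq hp hq hd heq hB ?_
    have h3 : k + 1 ≠ 2 := h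
    have : 2 ≤ k := by omega
    have := sum_two k
    have := two_mul_choose k
    nlinarith

theorem psp {F : Type*} [Field F] [Fintype F] {m f : ℕ} (hp : p.Prime) (hq : q = p ^ f) (hq2 : 2 ≤ q)
    (hpq : p ∣ q) (hF : Fintype.card F = q) (hm : 2 ≤ m) : Good p (Nat.card (Cfsg.PSp m F)) := by
  have h0 := Cfsg.Agent.S0245.result hF m
  have heq : Nat.gcd 2 (q - 1) * Nat.card (Cfsg.PSp m F) =
      q ^ (m ^ 2) * ∏ i ∈ Finset.range m, (q ^ (2 * (i + 1)) - 1) := by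
    rw [← h0, ← Cfsg.Agent.S0246.result hF m (by omega), mul_comm]
    exact (Subgroup.card_eq_card_quotient_mul_card_subgroup _).symm
  refine good_of_eq hp hq (not_dvd_gcd_left _ (by simpa using not_dvd_sub hpq hp hq2 (le_refl 1)))
    heq (bd_prod_sub hp hpq hq2 (fun i => 2 * (i + 1)) (fun i => by omega) m (by omega)) ?_
  rw [sum_even]
  nlinarith

theorem bd_psu (hp : p.Prime) (hpq : p ∣ q) (hq : 2 ≤ q) (n : ℕ) (hn : 1 ≤ n) :
    Bd p q (∏ i ∈ Finset.range n,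
      (if Even (i + 1) then q ^ (i + 2) + 1 else q ^ (i + 2) - 1)) (∑ i ∈ Finset.range n, (i + 2)) := by
  have heven : ∀ j, 1 ≤ j → Bd p q (∏ i ∈ Finset.range (2 * j),
      (if Even (i + 1) then q ^ (i + 2) + 1 else q ^ (i + 2) - 1))
      (∑ i ∈ Finset.range (2 * j), (i + 2)) := by
    intro j hj
    induction j, hj using Nat.le_induction with
    | base =>
      simp only [Finset.prod_range_succ, Finset.sum_range_succ, Finset.prod_range_zero,
        Finset.sum_range_zero, mul_one]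
      norm_num
      simpa using bd_pair hp hpq hq (show 1 ≤ 2 by omega) (show 2 ≤ 3 by omega)
    | succ j hj ih =>
      have e1 : ¬ Even (2 * j + 1) := by simp [parity_simps]
      have e2 : Even (2 * j + 1 + 1) := by simp [parity_simps]
      rw [show 2 * (j + 1) = 2 * j + 1 + 1 by ring, Finset.prod_range_succ, Finset.prod_range_succ,
        Finset.sum_range_succ, Finset.sum_range_succ, if_neg e1, if_pos e2]
      have hb := ih.mul hp (bd_pair hp hpq hq (show 1 ≤ 2 * j + 2 by omega)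
        (show 2 * j + 2 ≤ 2 * j + 1 + 2 by omega))
      convert hb using 1 <;> ring
  rcases Nat.even_or_odd n with hk | hk
  · obtain ⟨j, rfl⟩ := hk.two_dvd
    exact heven j (by omega)
  · obtain ⟨j, rfl⟩ := hk
    rcases Nat.eq_zero_or_pos j with rfl | hj
    · simpa using bd_sub hp hpq hq (show 1 ≤ 2 by omega)
    · have e1 : ¬ Even (2 * j + 1) := by simp [parity_simps]
      rw [Finset.prod_range_succ, Finset.sum_range_succ, if_neg e1]
      exact (heven j hj).mul hp (bd_sub hp hpq hq (by omega))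

theorem psu {F : Type*} [Field F] [Fintype F] {n f : ℕ} (hp : p.Prime) (hq : q = p ^ f) (hq2 : 2 ≤ q)
    (hpq : p ∣ q) (hF : Fintype.card F = q ^ 2) (hn : 3 ≤ n) :
    Good p (Nat.card (Cfsg.PSU n F q)) := by
  obtain ⟨k, rfl⟩ := Nat.exists_eq_add_of_le' (show 1 ≤ n by omega)
  have h0 := Cfsg.Agent.S0280.result hF (k + 1) (by omega)
  rw [Finset.prod_range_succ'] at h0
  simp only [zero_add, pow_one, Even.zero, if_true] at h0
  have heq : Nat.gcd (k + 1) (q + 1) * Nat.card (Cfsg.PSU (k + 1) F q) =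
      q ^ ((k + 1) * (k + 1 - 1) / 2) *
        ∏ i ∈ Finset.range k, (if Even (i + 1) then q ^ (i + 2) + 1 else q ^ (i + 2) - 1) := by
    refine mul_left_cancel₀ (show q + 1 ≠ 0 by omega) ?_
    rw [mul_left_comm, h0]
    ring
  refine good_of_eq hp hq (not_dvd_gcd_left _ (by simpa using not_dvd_add hpq hp (le_refl 1))) heq
    (bd_psu hp hpq hq2 k (by omega)) ?_
  have := sum_two k
  have := two_mul_choose k
  nlinarith

theorem omega_odd {F : Type*} [Field F] [Fintype F] {m f : ℕ} (hp : p.Prime) (hq : q = p ^ f)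
    (hq2 : 2 ≤ q) (hpq : p ∣ q) (hF : Fintype.card F = q) (hodd : Odd q) (hm : 3 ≤ m) :
    Good p (Nat.card (Cfsg.POmega F (Cfsg.quadFormOdd m F))) := by
  have h2 : ¬ p ∣ 2 := fun h => by
    have h' : p = 2 := (Nat.prime_dvd_prime_iff_eq hp Nat.prime_two).1 h
    subst h'
    exact (Nat.not_even_iff_odd.2 hodd) (even_iff_two_dvd.2 hpq)
  refine good_of_eq hp hq h2 (Cfsg.Agent.S0292.result hF hodd m hm)
    (bd_prod_sub hp hpq hq2 (fun i => 2 * (i + 1)) (fun i => by omega) m (by omega)) ?_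
  rw [sum_even]
  nlinarith

theorem omega_plus {F : Type*} [Field F] [Fintype F] {m f : ℕ} (hp : p.Prime) (hq : q = p ^ f)
    (hq2 : 2 ≤ q) (hpq : p ∣ q) (hF : Fintype.card F = q) (hm : 4 ≤ m) :
    Good p (Nat.card (Cfsg.POmega F (Cfsg.quadFormPlus m F))) := by
  have h0 := Cfsg.Agent.S0293.result hF m hm
  rw [mul_assoc (q ^ _)] at h0
  refine good_of_eq hp hq (not_dvd_gcd_left _ (not_dvd_sub hpq hp hq2 (by omega))) h0
    ((bd_sub hp hpq hq2 (show 1 ≤ m by omega)).mul hp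
      (bd_prod_sub hp hpq hq2 (fun i => 2 * (i + 1)) (fun i => by omega) (m - 1) (by omega))) ?_
  rw [sum_even]
  obtain ⟨k, rfl⟩ := Nat.exists_eq_add_of_le' (show 1 ≤ m by omega)
  rw [Nat.add_sub_cancel]
  nlinarith

theorem omega_minus {F : Type*} [Field F] [Fintype F] {m f : ℕ} (hp : p.Prime) (hq : q = p ^ f)
    (hq2 : 2 ≤ q) (hpq : p ∣ q) (hF : Fintype.card F = q) (hm : 4 ≤ m) (a b : F)
    (hab : ∀ z₁ z₂ : F, z₁ ^ 2 + a * z₁ * z₂ + b * z₂ ^ 2 = 0 → z₁ = 0 ∧ z₂ = 0) :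
    Good p (Nat.card (Cfsg.POmega F (Cfsg.quadFormMinus (m - 1) F a b))) := by
  have h0 := Cfsg.Agent.S0294.result hF m hm a b hab
  rw [mul_assoc (q ^ _)] at h0
  refine good_of_eq hp hq (not_dvd_gcd_left _ (not_dvd_add hpq hp (by omega))) h0
    ((bd_add hp hpq hq2 (show 1 ≤ m by omega)).mul hp
      (bd_prod_sub hp hpq hq2 (fun i => 2 * (i + 1)) (fun i => by omega) (m - 1) (by omega))) ?_
  rw [sum_even]
  obtain ⟨k, rfl⟩ := Nat.exists_eq_add_of_le' (show 1 ≤ m by omega)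
  rw [Nat.add_sub_cancel]
  nlinarith

theorem chev {F : Type*} [Field F] [Fintype F] {f : ℕ} (hp : p.Prime) (hq : q = p ^ f)
    (hq2 : 2 ≤ q) (hpq : p ∣ q) (hF : Fintype.card F = q) :
    Good p (Nat.card ↥(Cfsg.Lie.chevG2.group F)) ∧ Good p (Nat.card ↥(Cfsg.Lie.chevF4.group F)) ∧
      Good p (Nat.card ↥(Cfsg.Lie.chevE6.group F)) ∧ Good p (Nat.card ↥(Cfsg.Lie.chevE7.group F)) ∧
      Good p (Nat.card ↥(Cfsg.Lie.chevE8.group F)) := by
  have s : ∀ {i : ℕ}, 1 ≤ i → Bd p q (q ^ i - 1) i := fun h => bd_sub hp hpq hq2 h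
  have d1 : ¬ p ∣ 1 := hp.not_dvd_one
  have dg : ∀ c, ¬ p ∣ Nat.gcd c (q - 1) := fun c =>
    not_dvd_gcd_left c (by simpa using not_dvd_sub hpq hp hq2 (le_refl 1))
  refine ⟨good_of_eq hp hq d1 (a := 6) (by rw [one_mul, Cfsg.Agent.S1059.result hF]; simp only [mul_assoc])
      ((s (i := 2) (by omega)).mul hp (s (i := 6) (by omega))) (by omega),
    good_of_eq hp hq d1 (a := 24) (by rw [one_mul, Cfsg.Agent.S1062.result hF]; simp only [mul_assoc])
      ((s (i := 2) (by omega)).mul hp <| (s (i := 6) (by omega)).mul hp <|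
        (s (i := 8) (by omega)).mul hp (s (i := 12) (by omega))) (by omega),
    good_of_eq hp hq (dg 3) (a := 36) (by rw [Cfsg.Agent.S1063.result hF]; simp only [mul_assoc])
      ((s (i := 2) (by omega)).mul hp <| (s (i := 5) (by omega)).mul hp <|
        (s (i := 6) (by omega)).mul hp <| (s (i := 8) (by omega)).mul hp <|
        (s (i := 9) (by omega)).mul hp (s (i := 12) (by omega))) (by omega),
    good_of_eq hp hq (dg 2) (a := 63) (by rw [Cfsg.Agent.S1064.result hF]; simp only [mul_assoc])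
      ((s (i := 2) (by omega)).mul hp <| (s (i := 6) (by omega)).mul hp <|
        (s (i := 8) (by omega)).mul hp <| (s (i := 10) (by omega)).mul hp <|
        (s (i := 12) (by omega)).mul hp <| (s (i := 14) (by omega)).mul hp (s (i := 18) (by omega))) (by omega),
    good_of_eq hp hq d1 (a := 120) (by rw [one_mul, Cfsg.Agent.S1065.result hF]; simp only [mul_assoc])
      ((s (i := 2) (by omega)).mul hp <| (s (i := 8) (by omega)).mul hp <|
        (s (i := 12) (by omega)).mul hp <| (s (i := 14) (by omega)).mul hp <|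
        (s (i := 18) (by omega)).mul hp <| (s (i := 20) (by omega)).mul hp <|
        (s (i := 24) (by omega)).mul hp (s (i := 30) (by omega))) (by omega)⟩

theorem twisted {K : Type*} [Field K] [Fintype K] {f : ℕ} (hp : p.Prime) (hq : q = p ^ f)
    (hq2 : 2 ≤ q) (hpq : p ∣ q) (hpp : IsPrimePow q) :
    (Fintype.card K = q ^ 2 → Good p (Nat.card ↥(Cfsg.Lie.twistedE6 K q))) ∧
      (Fintype.card K = q ^ 3 → Good p (Nat.card ↥(Cfsg.Lie.twistedD4 K q))) := by
  have s : ∀ {i : ℕ}, 1 ≤ i → Bd p q (q ^ i - 1) i := fun h => bd_sub hp hpq hq2 h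
  have t : ∀ {i : ℕ}, 1 ≤ i → Bd p q (q ^ i + 1) (i + 1) := fun h => bd_add hp hpq hq2 h
  refine ⟨fun hK => ?_, fun hK => ?_⟩
  · refine good_of_eq hp hq (not_dvd_gcd_left _ (by simpa using not_dvd_add hpq hp (le_refl 1)))
      (a := 36) (by rw [Cfsg.Agent.S1066.result hpp hK]; simp only [mul_assoc])
      ((s (i := 2) (by omega)).mul hp <| (t (i := 5) (by omega)).mul hp <|
        (s (i := 6) (by omega)).mul hp <| (s (i := 8) (by omega)).mul hp <|
        (t (i := 9) (by omega)).mul hp (s (i := 12) (by omega))) (by omega)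
  · refine good_of_eq hp hq hp.not_dvd_one
      (a := 12) (by rw [one_mul, Cfsg.Agent.S1067.result hpp hK]; simp only [mul_assoc])
      ((s (i := 2) (by omega)).mul hp <| (s (i := 6) (by omega)).mul hp (bd_triple hp hpq hq2))
      (by omega)

theorem suzuki {F : Type*} [Field F] [Fintype F] {m : ℕ} (hm : 1 ≤ m)
    (hF : Fintype.card F = 2 ^ (2 * m + 1)) :
    Good 2 (Nat.card ↥(Cfsg.Lie.Sz F (2 ^ (m + 1)))) := by
  have hq2 : 2 ≤ 2 ^ (2 * m + 1) := Nat.le_self_pow (by omega) 2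
  have hpq : 2 ∣ 2 ^ (2 * m + 1) := dvd_pow_self 2 (by omega)
  have hb := bd_pair Nat.prime_two hpq hq2 (le_refl 1) (show 1 ≤ 2 by omega)
  refine good_of_eq Nat.prime_two (q := 2 ^ (2 * m + 1)) rfl (by norm_num : ¬ 2 ∣ 1) (a := 2) ?_ hb
    (by omega)
  rw [one_mul, CfsgLib.KnownB.Suzuki.card_Sz_formula (F := F) (m := m) (Equiv.refl _) hF, pow_one]
  ring

theorem bigRee {K : Type*} [Field K] [Fintype K] {m : ℕ}
    (hK : Fintype.card K = 2 ^ (2 * m + 1)) :
    Good 2 (Nat.card ↥(Cfsg.Lie.twistedF4 K (2 ^ m))) := by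
  have hq2 : 2 ≤ 2 ^ (2 * m + 1) := Nat.le_self_pow (by omega) 2
  have hpq : 2 ∣ 2 ^ (2 * m + 1) := dvd_pow_self 2 (by omega)
  have hb := (bd_pair Nat.prime_two hpq hq2 (le_refl 1) (show 1 ≤ 3 by omega)).mul Nat.prime_two
    ((bd_sub Nat.prime_two hpq hq2 (show 1 ≤ 4 by omega)).mul Nat.prime_two
      (bd_add Nat.prime_two hpq hq2 (show 1 ≤ 6 by omega)))
  refine good_of_eq Nat.prime_two (q := 2 ^ (2 * m + 1)) rfl (by norm_num : ¬ 2 ∣ 1) (a := 12) ?_ hb
    (by omega)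
  rw [one_mul, Cfsg.Agent.S1068.result hK, pow_one]
  ring

theorem ree {K : Type*} [Field K] [Fintype K] {m : ℕ}
    (hK : Fintype.card K = 3 ^ (2 * m + 1)) :
    Good 3 (Nat.card ↥(Cfsg.Lie.twistedG2 K (3 ^ m))) := by
  have h3 : 3 ≤ 3 ^ (2 * m + 1) := Nat.le_self_pow (by omega) 3
  have hpq : 3 ∣ 3 ^ (2 * m + 1) := dvd_pow_self 3 (by omega)
  have hb := bd_pair Nat.prime_three hpq (by omega : 2 ≤ 3 ^ (2 * m + 1)) (le_refl 1) (show 1 ≤ 3 by omega)
  refine good_of_eq Nat.prime_three (q := 3 ^ (2 * m + 1)) rfl (by norm_num : ¬ 3 ∣ 1) (a := 3) ?_ hb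
    (by omega)
  rw [one_mul, Cfsg.Agent.S1069.result hK, pow_one]
  ring

/-- A field of characteristic `p` has `p ^ f` elements. -/
theorem card_field (F : Type*) [Field F] [Fintype F] (p : ℕ) (hp : p.Prime) [CharP F p] :
    ∃ f, Fintype.card F = p ^ f ∧ p ∣ Fintype.card F ∧ 2 ≤ Fintype.card F := by
  obtain ⟨f, -, h⟩ := FiniteField.card F p
  exact ⟨f, h, h ▸ dvd_pow_self p f.pos.ne', Fintype.one_lt_card⟩

/-- A root of a power of `p` is a power of `p`. -/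
theorem root_field {q e f : ℕ} (hp : p.Prime) (he : e ≠ 0) (hf : 2 ≤ p ^ f) (h : p ^ f = q ^ e) :
    ∃ g, q = p ^ g ∧ p ∣ q ∧ 2 ≤ q := by
  obtain ⟨g, -, rfl⟩ := (Nat.dvd_prime_pow hp).1 (h ▸ dvd_pow_self q he : q ∣ p ^ f)
  have hg : g ≠ 0 := by
    rintro rfl
    simp [h] at hf
  exact ⟨g, rfl, dvd_pow_self p hg, hp.two_le.trans (Nat.le_self_pow hg p)⟩

end Aux

/-- Let G be a finite simple group of Lie type in characteristic p and let p^k be the exact power of p dividing the order of G. Then the order of G is less than p^(3k); and unless G is isomorphic to PSL(2, F) for the field F with p^k elements, the cube of the order of G is less than p^(8k) (that is, the order is below p^(8k/3)). -/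
theorem result {G : Type*} [Group G] [Finite G] (p : ℕ) (hp : p.Prime) (hG : Cfsg.IsLieTypeChar p G) :
    Nat.card G < p ^ (3 * (Nat.card G).factorization p) ∧
      ((¬ ∃ (F : Type) (_ : Field F) (_ : Fintype F), Fintype.card F = p ^ (Nat.card G).factorization p ∧
          Nonempty (G ≃* Matrix.ProjectiveSpecialLinearGroup (Fin 2) F)) →
        Nat.card G ^ 3 < p ^ (8 * (Nat.card G).factorization p)) := by
  suffices h : Aux.Good p (Nat.card G) ∨ ∃ (F : Type) (_ : Field F) (_ : Fintype F),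
      Nat.card G < p ^ (3 * (Nat.card G).factorization p) ∧
      Fintype.card F = p ^ (Nat.card G).factorization p ∧
      Nonempty (G ≃* Matrix.ProjectiveSpecialLinearGroup (Fin 2) F) by
    rcases h with h | ⟨F, i1, i2, h1, h2, h3⟩
    · exact ⟨h.1, fun _ => h.2⟩
    · exact ⟨h1, fun hn => absurd ⟨F, i1, i2, h2, h3⟩ hn⟩
  rcases hG with ⟨F, i1, i2, i3, n, hn, hn4, ⟨e⟩⟩ | ⟨F, i1, i2, i3, m, hm, -, ⟨e⟩⟩ |
    ⟨F, i1, i2, i3, n, q, hF, hn, -, ⟨e⟩⟩ | ⟨F, i1, i2, i3, m, hm, hodd, ⟨e⟩⟩ |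
    ⟨F, i1, i2, i3, m, hm, ⟨e⟩⟩ | ⟨F, i1, i2, i3, m, a, b, hm, hab, ⟨e⟩⟩ |
    ⟨F, i1, i2, i3, hc⟩ | ⟨K, i1, i2, i3, q, hpp, hc⟩ | ⟨rfl, K, i1, i2, m, hm, hK, ⟨e⟩⟩ |
    ⟨rfl, K, i1, i2, m, hm, hK, ⟨e⟩⟩ | ⟨rfl, K, i1, i2, m, hm, hK, ⟨e⟩⟩
  · obtain ⟨f, hq, hpq, hq2⟩ := Aux.card_field F p hp
    have h := Aux.psl (F := F) (n := n) hp hq hq2 hpq rfl hn
    rw [← Nat.card_congr e.toEquiv] at h
    split_ifs at h with h2
    · subst h2
      exact Or.inr ⟨F, i1, i2, h.1, by rw [h.2, hq], ⟨e⟩⟩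
    · exact Or.inl h
  · obtain ⟨f, hq, hpq, hq2⟩ := Aux.card_field F p hp
    rw [Nat.card_congr e.toEquiv]
    exact Or.inl (Aux.psp hp hq hq2 hpq rfl hm)
  · obtain ⟨f, hq, hpq, hq2⟩ := Aux.card_field F p hp
    obtain ⟨g, hg, hgd, hg2⟩ := Aux.root_field (q := q) (e := 2) hp (by omega) (hq ▸ hq2) (hq.symm.trans hF)
    rw [Nat.card_congr e.toEquiv]
    exact Or.inl (Aux.psu hp hg hg2 hgd hF hn)
  · obtain ⟨f, hq, hpq, hq2⟩ := Aux.card_field F p hp
    rw [Nat.card_congr e.toEquiv]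
    exact Or.inl (Aux.omega_odd hp hq hq2 hpq rfl hodd hm)
  · obtain ⟨f, hq, hpq, hq2⟩ := Aux.card_field F p hp
    rw [Nat.card_congr e.toEquiv]
    exact Or.inl (Aux.omega_plus hp hq hq2 hpq rfl hm)
  · obtain ⟨f, hq, hpq, hq2⟩ := Aux.card_field F p hp
    rw [Nat.card_congr e.toEquiv]
    exact Or.inl (Aux.omega_minus hp hq hq2 hpq rfl hm a b hab)
  · obtain ⟨f, hq, hpq, hq2⟩ := Aux.card_field F p hp
    obtain ⟨g2, f4, e6, e7, e8⟩ := Aux.chev (F := F) hp hq hq2 hpq rfl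
    rcases hc with ⟨-, ⟨e⟩⟩ | ⟨⟨e⟩⟩ | ⟨⟨e⟩⟩ | ⟨⟨e⟩⟩ | ⟨⟨e⟩⟩ <;> rw [Nat.card_congr e.toEquiv] <;>
      left <;> assumption
  · obtain ⟨f, hq, hpq, hq2⟩ := Aux.card_field K p hp
    rcases hc with ⟨hK, ⟨e⟩⟩ | ⟨hK, ⟨e⟩⟩
    · obtain ⟨g, hg, hgd, hg2⟩ := Aux.root_field (q := q) (e := 2) hp (by omega) (hq ▸ hq2) (hq.symm.trans hK)
      rw [Nat.card_congr e.toEquiv]
      exact Or.inl ((Aux.twisted hp hg hg2 hgd hpp).1 hK)
    · obtain ⟨g, hg, hgd, hg2⟩ := Aux.root_field (q := q) (e := 3) hp (by omega) (hq ▸ hq2) (hq.symm.trans hK)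
      rw [Nat.card_congr e.toEquiv]
      exact Or.inl ((Aux.twisted hp hg hg2 hgd hpp).2 hK)
  · rw [Nat.card_congr e.toEquiv]
    exact Or.inl (Aux.suzuki hm hK)
  · rw [Nat.card_congr e.toEquiv]
    exact Or.inl (Aux.bigRee hK)
  · rw [Nat.card_congr e.toEquiv]
    exact Or.inl (Aux.ree hK)

end Cfsg.Agent.S2363
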