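import Cfsg.Statements.S2364
import Cfsg.Agent.Lib.Classical.SLOrders
-- import your own Cfsg.Agent.* helpers here

set_option autoImplicit false
open Cfsg

namespace Cfsg.Agent.S2364


section linear

variable {F : Type*} [Field F] [Fintype F] {V : Type*} [AddCommGroup V] [Module F V] [Finite V]

/-- Fixed points modulo a prime for an endomorphism of prime period. -/
theorem card_modEq {ℓ : ℕ} [Fact ℓ.Prime] (x : Module.End F V) (hx : x ^ ℓ = 1) (W : Submodule F V)
    (hW : ∀ w ∈ W, x w ∈ W) :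
    Nat.card W ≡ Nat.card ↥(W ⊓ LinearMap.ker (x - 1)) [MOD ℓ] := by
  classical
  have hpow : ∀ (i : ℕ), ∀ w ∈ W, (x ^ i) w ∈ W := by
    intro i
    induction i with
    | zero => exact fun w hw => hw
    | succ i ih => intro w hw; rw [pow_succ, Module.End.mul_apply]; exact ih _ (hW w hw)
  let σ : Equiv.Perm W :=
    { toFun := fun w => ⟨x w, hW w w.2⟩
      invFun := fun w => ⟨(x ^ (ℓ - 1)) w, hpow _ w w.2⟩
      left_inv := fun w => Subtype.ext (by
        show (x ^ (ℓ - 1)) (x w) = w
        rw [← Module.End.mul_apply, ← pow_succ, Nat.sub_add_cancel (Fact.out : ℓ.Prime).one_le, hx]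
        rfl)
      right_inv := fun w => Subtype.ext (by
        show x ((x ^ (ℓ - 1)) w) = w
        rw [← Module.End.mul_apply, ← pow_succ', Nat.sub_add_cancel (Fact.out : ℓ.Prime).one_le, hx]
        rfl) }
  have hval : ∀ (i : ℕ) (w : W), (((σ ^ i) w : W) : V) = (x ^ i) w := by
    intro i
    induction i with
    | zero => exact fun w => rfl
    | succ i ih => intro w; rw [pow_succ, pow_succ, Equiv.Perm.mul_apply, ih, Module.End.mul_apply]; rfl
  have hσ : σ ^ ℓ = 1 := Equiv.ext fun w => Subtype.ext (by rw [hval, hx]; rfl)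
  have hp : IsPGroup ℓ (Subgroup.zpowers σ) := by
    rintro ⟨s, k, rfl⟩
    refine ⟨1, Subtype.ext ?_⟩
    show (σ ^ k) ^ ℓ ^ 1 = 1
    rw [pow_one, ← zpow_natCast, ← zpow_mul, mul_comm, zpow_mul, zpow_natCast, hσ, one_zpow]
  haveI : Fintype W := Fintype.ofFinite W
  refine (hp.card_modEq_card_fixedPoints W).trans (congrArg (· % ℓ) (Nat.card_congr ?_))
  refine
    { toFun := fun w => ⟨(w : W).1, (w : W).2, ?_⟩
      invFun := fun w => ⟨⟨w.1, w.2.1⟩, ?_⟩
      left_inv := fun w => rfl
      right_inv := fun w => rfl }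
  · have h := congrArg Subtype.val (w.2 ⟨σ, Subgroup.mem_zpowers σ⟩)
    show (x - 1) _ = 0
    rw [LinearMap.sub_apply, sub_eq_zero]
    exact h
  · rintro ⟨s, hs⟩
    have h1 : σ ⟨w.1, w.2.1⟩ = ⟨w.1, w.2.1⟩ := Subtype.ext (by
      have := w.2.2
      rw [SetLike.mem_coe, LinearMap.mem_ker, LinearMap.sub_apply, sub_eq_zero] at this
      exact this)
    exact (Subgroup.zpowers_le (H := MulAction.stabilizer (Equiv.Perm W) (⟨w.1, w.2.1⟩ : W))).2 h1 hs

/-- A period-`p` endomorphism commuting with a period-`r` one is trivial when the order of `q` modulo `r` is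
close to the dimension. -/
theorem eq_one_of_commute {p r : ℕ} [Fact p.Prime] [Fact r.Prime] (hp : (p : F) = 0) (hr : (r : F) ≠ 0)
    (x u : Module.End F V) (hx : x ^ r = 1) (hu : u ^ p = 1) (hxu : x * u = u * x) (hx1 : x ≠ 1)
    (hd : Module.finrank F V < 2 * orderOf ((Fintype.card F : ℕ) : ZMod r))
    (hd1 : Module.finrank F V ≤ orderOf ((Fintype.card F : ℕ) : ZMod r) + 1) : u = 1 := by
  classical
  set q := Fintype.card F with hq
  set d := orderOf ((q : ℕ) : ZMod r) with hdd
  have hcard : ∀ W : Submodule F V, Nat.card W = q ^ Module.finrank F W := fun W => by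
    rw [Module.natCard_eq_pow_finrank (K := F), Nat.card_eq_fintype_card]
  -- subspaces without fixed vectors of `x` have dimension divisible by `d`
  have hdiv : ∀ W : Submodule F V, (∀ w ∈ W, x w ∈ W) → W ⊓ LinearMap.ker (x - 1) = ⊥ →
      d ∣ Module.finrank F W := by
    intro W hW hW0
    have h := card_modEq (ℓ := r) x hx W hW
    rw [hW0, hcard, hcard, finrank_bot, pow_zero, ← ZMod.natCast_eq_natCast_iff] at h
    push_cast at h
    exact orderOf_dvd_iff_pow_eq_one.2 h
  -- non-zero `u`-invariant subspaces contain fixed vectors of `u`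
  have hfix : ∀ W : Submodule F V, (∀ w ∈ W, u w ∈ W) → W ⊓ LinearMap.ker (u - 1) = ⊥ → W = ⊥ := by
    intro W hW hW0
    have h := card_modEq (ℓ := p) u hu W hW
    rw [hW0, hcard, hcard, finrank_bot, pow_zero] at h
    by_contra hne
    have hpos : Module.finrank F W ≠ 0 := fun h0 => hne (Submodule.finrank_eq_zero.1 h0)
    have hpq : p ∣ q := by
      obtain ⟨n, hchar, hn⟩ := FiniteField.card F (ringChar F)
      rw [hq, hn]
      have hpc : ringChar F = p := by
        have h1 : ringChar F ∣ p := ringChar.dvd hp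
        exact ((Nat.dvd_prime (Fact.out : p.Prime)).1 h1).resolve_left hchar.ne_one
      rw [hpc]
      exact dvd_pow_self p n.pos.ne'
    have h1 := (Nat.modEq_iff_dvd' (Nat.one_le_pow _ _ Fintype.card_pos)).1 h.symm
    have h2 : p ∣ q ^ Module.finrank F W := hpq.trans (dvd_pow_self q hpos)
    have h3 := Nat.dvd_sub h2 h1
    rw [Nat.sub_sub_self (Nat.one_le_pow _ _ Fintype.card_pos)] at h3
    exact (Fact.out : p.Prime).not_dvd_one h3
  set s : Module.End F V := ∑ i ∈ Finset.range r, x ^ i with hs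
  have hxs : x * s = s := by
    have h1 := mul_geom_sum x r
    rw [hx, sub_self, sub_mul, one_mul, sub_eq_zero] at h1
    exact h1
  set K := LinearMap.ker (x - 1) with hK
  set W := LinearMap.ker s with hWdef
  have hmemK : ∀ v, v ∈ K ↔ x v = v := fun v => by rw [hK, LinearMap.mem_ker, LinearMap.sub_apply, sub_eq_zero]; rfl
  have hsx : s * x = x * s := by
    rw [hs, Finset.mul_sum, Finset.sum_mul]
    exact Finset.sum_congr rfl fun i _ => ((Commute.refl x).pow_left i).eq
  have hsu : s * u = u * s := by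
    rw [hs, Finset.mul_sum, Finset.sum_mul]
    exact Finset.sum_congr rfl fun i _ => ((show Commute x u from hxu).pow_left i).eq
  have hWx : ∀ w ∈ W, x w ∈ W := fun w hw => by
    rw [hWdef, LinearMap.mem_ker, ← Module.End.mul_apply, hsx, Module.End.mul_apply]
    rw [hWdef, LinearMap.mem_ker] at hw
    rw [hw, map_zero]
  have hWu : ∀ w ∈ W, u w ∈ W := fun w hw => by
    rw [hWdef, LinearMap.mem_ker, ← Module.End.mul_apply, hsu, Module.End.mul_apply]
    rw [hWdef, LinearMap.mem_ker] at hw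
    rw [hw, map_zero]
  have hKu : ∀ w ∈ K, u w ∈ K := fun w hw => by
    rw [hmemK] at hw ⊢
    rw [← Module.End.mul_apply, hxu, Module.End.mul_apply, hw]
  have hsK : ∀ v ∈ K, s v = (r : F) • v := fun v hv => by
    have : ∀ i : ℕ, (x ^ i) v = v := fun i => by
      induction i with
      | zero => rfl
      | succ i ih => rw [pow_succ, Module.End.mul_apply, (hmemK v).1 hv, ih]
    rw [hs, LinearMap.sum_apply, Finset.sum_congr rfl (fun i _ => this i), Finset.sum_const, Finset.card_range,
      Nat.cast_smul_eq_nsmul]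
  have hWK : W ⊓ K = ⊥ := by
    rw [Submodule.eq_bot_iff]
    rintro v ⟨h1, h2⟩
    have := hsK v h2
    rw [show s v = 0 from h1] at this
    exact (smul_eq_zero.1 this.symm).resolve_left hr
  have htop : W ⊔ K = ⊤ := by
    rw [eq_top_iff]
    intro v _
    have hk : (r : F)⁻¹ • s v ∈ K := K.smul_mem _ ((hmemK _).2 (by rw [← Module.End.mul_apply, hxs]))
    refine Submodule.mem_sup.2 ⟨v - (r : F)⁻¹ • s v, ?_, _, hk, sub_add_cancel _ _⟩
    rw [hWdef, LinearMap.mem_ker, map_sub, hsK _ hk, smul_smul, mul_inv_cancel₀ hr, one_smul, sub_self]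
  have hfin : Module.finrank F W + Module.finrank F K = Module.finrank F V := by
    rw [← Submodule.finrank_sup_add_finrank_inf_eq, htop, hWK, finrank_top, finrank_bot, add_zero]
  have hWne : W ≠ ⊥ := fun h0 => hx1 (LinearMap.ext fun v => by
    have : v ∈ K := by rw [h0, bot_sup_eq] at htop; rw [htop]; trivial
    exact (hmemK v).1 this)
  have hWd : Module.finrank F W = d := by
    obtain ⟨c, hc⟩ := hdiv W hWx hWK
    have hle : Module.finrank F W ≤ Module.finrank F V := Submodule.finrank_le W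
    rcases c with _ | _ | c
    · exact absurd (Submodule.finrank_eq_zero.1 (by omega)) hWne
    · omega
    · rw [hc] at hle; nlinarith
  -- `u` fixes everything
  have hWfix : W ≤ LinearMap.ker (u - 1) := by
    set U := W ⊓ LinearMap.ker (u - 1) with hU
    have hUne : U ≠ ⊥ := fun h0 => hWne (hfix W hWu h0)
    have hUx : ∀ w ∈ U, x w ∈ U := by
      rintro w ⟨h1, h2⟩
      refine ⟨hWx w h1, ?_⟩
      rw [SetLike.mem_coe, LinearMap.mem_ker, LinearMap.sub_apply, sub_eq_zero] at h2 ⊢
      change u w = w at h2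
      show u (x w) = x w
      rw [← Module.End.mul_apply, ← hxu, Module.End.mul_apply, h2]
    have hUd := hdiv U hUx (le_bot_iff.1 (hWK ▸ inf_le_inf_right K inf_le_left))
    have hUle : Module.finrank F U ≤ d := hWd ▸ Submodule.finrank_mono inf_le_left
    have hUeq : Module.finrank F U = d := le_antisymm hUle (Nat.le_of_dvd (Nat.pos_of_ne_zero fun h0 =>
      hUne (Submodule.finrank_eq_zero.1 h0)) hUd)
    have hUW : U = W := Submodule.eq_of_le_of_finrank_eq inf_le_left (hUeq.trans hWd.symm)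
    exact hUW ▸ inf_le_right
  have hKfix : K ≤ LinearMap.ker (u - 1) := by
    rcases Nat.eq_zero_or_pos (Module.finrank F K) with h0 | h0
    · rw [Submodule.finrank_eq_zero.1 h0]; exact bot_le
    · set U := K ⊓ LinearMap.ker (u - 1) with hU
      have hUne : U ≠ ⊥ := fun hb => by
        rw [Submodule.finrank_eq_zero.2 (hfix K hKu hb)] at h0
        exact lt_irrefl _ h0
      have hUW : U = K := Submodule.eq_of_le_of_finrank_le inf_le_left (by
        have : 0 < Module.finrank F U := Nat.pos_of_ne_zero fun h => hUne (Submodule.finrank_eq_zero.1 h)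
        omega)
      exact hUW ▸ inf_le_right
  refine LinearMap.ext fun v => ?_
  have : v ∈ LinearMap.ker (u - 1) := sup_le hWfix hKfix (htop ▸ Submodule.mem_top)
  rw [LinearMap.mem_ker, LinearMap.sub_apply, sub_eq_zero] at this
  exact this

end linear

open CfsgLib.Classical in
theorem dvd_card_sl {F : Type*} [Field F] [Fintype F] {r m : ℕ} [Fact r.Prime] (hm : 2 ≤ m)
    (h : r ∣ Fintype.card F ∨ orderOf ((Fintype.card F : ℕ) : ZMod r) ≤ m) :
    r ∣ Nat.card (Matrix.SpecialLinearGroup (Fin m) F) := by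
  classical
  have hr := (Fact.out : r.Prime)
  set q := Fintype.card F with hq
  have hq2 : 2 ≤ q := Fintype.one_lt_card
  have hmul := card_sl_mul (F := F) (q := q) rfl m (by omega)
  by_cases h1 : r ∣ q - 1
  · -- two factors are divisible by `q - 1`
    have hdvd : ∀ i : Fin m, q - 1 ∣ q ^ m - q ^ (i : ℕ) := fun i => by
      rw [show q ^ m - q ^ (i : ℕ) = q ^ (i : ℕ) * (q ^ (m - i) - 1) by
        rw [Nat.mul_sub, ← pow_add, Nat.add_sub_cancel' i.isLt.le, mul_one]]
      exact Dvd.dvd.mul_left (by simpa using Nat.sub_dvd_pow_sub_pow q 1 (m - i)) _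
    have h2 : (q - 1) * (q - 1) ∣ (q - 1) * Nat.card (Matrix.SpecialLinearGroup (Fin m) F) := by
      rw [hmul]
      have hne : (⟨0, by omega⟩ : Fin m) ≠ ⟨1, by omega⟩ := by simp
      refine dvd_trans ?_ (Finset.prod_dvd_prod_of_subset {(⟨0, by omega⟩ : Fin m), ⟨1, by omega⟩} _ _ (Finset.subset_univ _))
      rw [Finset.prod_pair hne]
      exact mul_dvd_mul (hdvd _) (hdvd _)
    exact h1.trans (Nat.dvd_of_mul_dvd_mul_left (by omega) h2)
  · refine (((Nat.Prime.coprime_iff_not_dvd hr).2 h1)).dvd_of_dvd_mul_left ?_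
    rw [hmul]
    by_cases hrq : r ∣ q
    · refine dvd_trans ?_ (Finset.dvd_prod_of_mem _ (Finset.mem_univ (⟨1, by omega⟩ : Fin m)))
      refine Nat.dvd_sub (dvd_pow hrq (by omega)) ?_
      simpa using hrq
    · replace h := h.resolve_left hrq
      set d := orderOf ((q : ℕ) : ZMod r) with hd
      have hq0 : ((q : ℕ) : ZMod r) ≠ 0 := by rw [Ne, ZMod.natCast_eq_zero_iff]; exact hrq
      have hd0 : 0 < d := orderOf_pos_iff.2 (isOfFinOrder_iff_pow_eq_one.2 ⟨r - 1, by have := hr.two_le; omega, ZMod.pow_card_sub_one_eq_one hq0⟩)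
      refine dvd_trans ?_ (Finset.dvd_prod_of_mem _ (Finset.mem_univ (⟨m - d, by omega⟩ : Fin m)))
      show r ∣ q ^ m - q ^ (m - d)
      rw [show q ^ m - q ^ (m - d) = q ^ (m - d) * (q ^ d - 1) by
        rw [Nat.mul_sub, ← pow_add, Nat.sub_add_cancel h, mul_one]]
      refine Dvd.dvd.mul_left ?_ _
      rw [← Nat.modEq_iff_dvd' (Nat.one_le_pow _ _ (by omega)), ← ZMod.natCast_eq_natCast_iff]
      push_cast
      exact (pow_orderOf_eq_one _).symm

/-- Lift an element of prime order coprime to the kernel. -/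
theorem exists_lift {G H : Type*} [Group G] [Group H] [Finite G] (f : G →* H) (hf : Function.Surjective f)
    {ℓ : ℕ} (h : H) (hh : h ^ ℓ = 1) (hcop : ℓ.Coprime (Nat.card f.ker)) : ∃ g, f g = h ∧ g ^ ℓ = 1 := by
  obtain ⟨g, rfl⟩ := hf h
  obtain ⟨s, hs1, hs2⟩ := Nat.chineseRemainder hcop 1 0
  refine ⟨g ^ s, ?_, ?_⟩
  · rw [map_pow, pow_eq_pow_mod s hh, hs1, ← pow_eq_pow_mod 1 hh, pow_one]
  · obtain ⟨c, hc⟩ := (Nat.modEq_zero_iff_dvd.1 hs2)
    have hk : g ^ ℓ ∈ f.ker := by rw [MonoidHom.mem_ker, map_pow, hh]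
    rw [← pow_mul, mul_comm, pow_mul, hc, pow_mul]
    have := congrArg Subtype.val (pow_card_eq_one' (x := (⟨g ^ ℓ, hk⟩ : f.ker)))
    rw [Subgroup.coe_pow, Subgroup.coe_one] at this
    rw [this, one_pow]

/-- Let F be a finite field of characteristic p, n ≥ 4, and let a, b be commuting elements of PSL(n, F) with a of order p. Then every prime divisor of the order of b divides the order of SL(n − 2, F). -/
theorem result {F : Type*} [Field F] [Fintype F] (p : ℕ) [Fact p.Prime] [CharP F p] (n : ℕ) (hn : 4 ≤ n)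
    (a b : Matrix.ProjectiveSpecialLinearGroup (Fin n) F) (ha : orderOf a = p) (hab : Commute a b) :
    (orderOf b).primeFactors ⊆ (Nat.card (Matrix.SpecialLinearGroup (Fin (n - 2)) F)).primeFactors := by
  classical
  intro r hr
  rw [Nat.mem_primeFactors] at hr ⊢
  obtain ⟨hrp, hrb, hb0⟩ := hr
  haveI : Fact r.Prime := ⟨hrp⟩
  refine ⟨hrp, ?_, Nat.card_pos.ne'⟩
  set q := Fintype.card F with hq
  by_contra hcon
  have hrq : ¬ r ∣ q := fun h => hcon (dvd_card_sl (by omega) (Or.inl h))
  have hd : n - 2 < orderOf ((q : ℕ) : ZMod r) := by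
    by_contra h
    exact hcon (dvd_card_sl (by omega) (Or.inr (by rw [← hq]; omega)))
  have hq2 : 2 ≤ q := Fintype.one_lt_card
  have hrq1 : ¬ r ∣ q - 1 := fun h => by
    have h1 : ((q : ℕ) : ZMod r) = 1 := by
      rw [← Nat.cast_one, ZMod.natCast_eq_natCast_iff]
      exact ((Nat.modEq_iff_dvd' (by omega)).2 h).symm
    rw [h1, orderOf_one] at hd
    omega
  set π := QuotientGroup.mk' (Subgroup.center (Matrix.SpecialLinearGroup (Fin n) F)) with hπ
  have hker : Nat.card π.ker = Nat.gcd n (q - 1) := by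
    rw [hπ, QuotientGroup.ker_mk', CfsgLib.Classical.card_center_sl n (by omega)]
  obtain ⟨k, hk⟩ : ∃ k, orderOf b = r * k := hrb
  have hb' : orderOf (b ^ k) = r := by
    rw [orderOf_pow' b (fun h0 => hb0 (by rw [hk, h0, mul_zero])), hk, Nat.gcd_mul_left_left,
      Nat.mul_div_cancel _ (Nat.pos_of_ne_zero fun h0 => hb0 (by rw [hk, h0, mul_zero]))]
  have hab' : Commute a (b ^ k) := hab.pow_right k
  obtain ⟨A, hA, hAp⟩ := exists_lift (ℓ := p) π (QuotientGroup.mk'_surjective _) a (by rw [← ha, pow_orderOf_eq_one]) (by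
    rw [hker]
    refine ((Nat.Prime.coprime_iff_not_dvd Fact.out).2 fun h => ?_).coprime_dvd_right (Nat.gcd_dvd_right n (q - 1))
    obtain ⟨j, hj, hqj⟩ := FiniteField.card F p
    rw [hq, hqj] at h hq2
    have h2 : p ∣ p ^ (j : ℕ) := dvd_pow_self p j.pos.ne'
    have h3 := Nat.dvd_sub h2 h
    rw [Nat.sub_sub_self (by omega)] at h3
    exact (Fact.out : p.Prime).not_dvd_one h3)
  obtain ⟨B, hB, hBr⟩ := exists_lift (ℓ := r) π (QuotientGroup.mk'_surjective _) (b ^ k) (by rw [← hb', pow_orderOf_eq_one]) (by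
    rw [hker]
    exact ((Nat.Prime.coprime_iff_not_dvd hrp).2 hrq1).coprime_dvd_right (Nat.gcd_dvd_right n (q - 1)))
  have hcomm : A * B = B * A := by
    have hc : A * B * A⁻¹ * B⁻¹ ∈ π.ker := by
      rw [MonoidHom.mem_ker, map_mul, map_mul, map_mul, map_inv, map_inv, hA, hB, hab'.eq, mul_inv_cancel_right,
        mul_inv_cancel]
    set c := A * B * A⁻¹ * B⁻¹ with hcdef
    have hcB : Commute c B := by
      have := hc
      rw [hπ, QuotientGroup.ker_mk'] at this
      exact (Subgroup.mem_center_iff.1 this B).symm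
    have hcr : c ^ r = 1 := by
      have h1 : c * B = A * B * A⁻¹ := by rw [hcdef, inv_mul_cancel_right]
      have h2 : (c * B) ^ r = 1 := by rw [h1, conj_pow, hBr, mul_one, mul_inv_cancel]
      rwa [hcB.mul_pow, hBr, mul_one] at h2
    have hck : c ^ Nat.card π.ker = 1 := congrArg Subtype.val (pow_card_eq_one' (x := (⟨c, hc⟩ : π.ker)))
    have hc1 : c = 1 := by
      have := pow_gcd_eq_one.2 ⟨hcr, hck⟩
      rwa [((Nat.Prime.coprime_iff_not_dvd hrp).2 hrq1).coprime_dvd_right (hker ▸ Nat.gcd_dvd_right n (q - 1)),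
        pow_one] at this
    rw [hcdef, mul_inv_eq_one, mul_inv_eq_iff_eq_mul] at hc1
    exact hc1
  let ι : Matrix.SpecialLinearGroup (Fin n) F →* Module.End F (Fin n → F) :=
    { toFun := fun g => Matrix.toLinAlgEquiv' (g : Matrix (Fin n) (Fin n) F)
      map_one' := map_one _
      map_mul' := fun g h => map_mul _ _ _ }
  have hι : Function.Injective ι := fun g h e => Subtype.ext (Matrix.toLinAlgEquiv'.injective e)
  have hA1 : A ≠ 1 := fun h => by
    rw [h, map_one] at hA
    rw [← hA, orderOf_one] at ha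
    exact (Fact.out : p.Prime).one_lt.ne ha
  have hB1 : ι B ≠ 1 := fun h => by
    rw [← map_one ι] at h
    rw [hι h, map_one] at hB
    rw [← hB, orderOf_one] at hb'
    exact hrp.one_lt.ne hb'
  refine hA1 (hι ((eq_one_of_commute (r := r) (p := p) (CharP.cast_eq_zero F p) ?_ (ι B) (ι A)
    (by rw [← map_pow, hBr, map_one]) (by rw [← map_pow, hAp, map_one])
    (by rw [← map_mul, ← map_mul, hcomm]) hB1 ?_ ?_).trans (map_one ι).symm))
  · rw [Ne, CharP.cast_eq_zero_iff F p]
    intro h
    rw [Nat.prime_dvd_prime_iff_eq Fact.out hrp] at h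
    subst h
    obtain ⟨j, -, hqj⟩ := FiniteField.card F p
    exact hrq (hq ▸ hqj ▸ dvd_pow_self p j.pos.ne')
  · rw [Module.finrank_fintype_fun_eq_card, Fintype.card_fin, ← hq]; omega
  · rw [Module.finrank_fintype_fun_eq_card, Fintype.card_fin, ← hq]; omega

end Cfsg.Agent.S2364
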