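import Cfsg.Statements.S2365
import Cfsg.Agent.Lib.Involution.UnipotentCentralizerPrimes

set_option autoImplicit false
open Cfsg

namespace Cfsg.Agent.S2365

open CfsgLib.Classical

/-- Lift an element of prime order `r` from a quotient by a central subgroup of order prime to `r`. -/
theorem exists_lift {H : Type*} [Group H] [Finite H] {r : ℕ} (hr : r.Prime)
    (hc : ¬ r ∣ Nat.card (Subgroup.center H)) (x : H ⧸ Subgroup.center H) (hx : orderOf x = r) :
    ∃ y : H, y ^ r = 1 ∧ y ≠ 1 ∧ ∃ k : ℕ, (QuotientGroup.mk y : H ⧸ Subgroup.center H) = x ^ k := by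
  obtain ⟨y, rfl⟩ := QuotientGroup.mk_surjective x
  set c := Nat.card (Subgroup.center H)
  have hy : y ^ r ∈ Subgroup.center H := by
    rw [← QuotientGroup.eq_one_iff, QuotientGroup.mk_pow, ← hx, pow_orderOf_eq_one]
  have hpow : (y ^ r) ^ c = 1 := by
    have := pow_card_eq_one' (G := Subgroup.center H) (x := ⟨y ^ r, hy⟩)
    exact congrArg Subtype.val this
  refine ⟨y ^ c, by rw [← pow_mul, mul_comm, pow_mul, hpow], fun h => hc ?_, c, QuotientGroup.mk_pow _ y c⟩
  rw [← hx]
  refine orderOf_dvd_of_pow_eq_one ?_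
  rw [← QuotientGroup.mk_pow, h]
  rfl

/-- Let q be a power of the prime p, F the field with q² elements, m ≥ 4, and let a, b be commuting elements of PSU(m, q) with a of order p. Then every prime divisor of the order of b divides the order of SU(m − 2, q). -/
theorem result {F : Type*} [Field F] [Fintype F] (p : ℕ) [Fact p.Prime] [CharP F p] (m q : ℕ) (hm : 4 ≤ m) (hF : Fintype.card F = q ^ 2)
    (a b : Cfsg.PSU m F q) (ha : orderOf a = p) (hab : Commute a b) :
    (orderOf b).primeFactors ⊆ (Nat.card ↥(Cfsg.SU (m - 2) F q)).primeFactors := by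
  classical
  obtain ⟨σ, hσ, hc⟩ := exists_frob hF
  have hq2 := two_le_of_card_sq hF
  have hp := (Fact.out : p.Prime)
  have hpq : p ∣ q := by
    obtain ⟨n, -, hn⟩ := FiniteField.card F p
    refine hp.dvd_of_dvd_pow (n := 2) ?_
    rw [← hF, hn]
    exact dvd_pow_self p n.2.ne'
  have hpq1 : ¬ p ∣ q + 1 := fun h => hp.one_lt.ne' (Nat.dvd_one.1 ((Nat.dvd_add_right hpq).1 h))
  have hcard := card_SU_mul hF (show 1 ≤ m - 2 by omega) (n := m - 2)
  have hGU := card_GU hF (m - 2)
  intro r hr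
  rw [Nat.mem_primeFactors] at hr ⊢
  obtain ⟨hr, hrb, -⟩ := hr
  refine ⟨hr, ?_, Nat.card_pos.ne'⟩
  by_contra hrS
  have hqS : q + 1 ∣ Nat.card ↥(Cfsg.SU (m - 2) F q) := by
    refine Nat.dvd_of_mul_dvd_mul_left (show 0 < q + 1 by omega) ?_
    rw [hcard, hGU]
    refine Dvd.dvd.mul_left ?_ _
    refine dvd_trans ?_ (Finset.prod_dvd_prod_of_subset (Finset.range 2) _ _ (Finset.range_mono (by omega)))
    simp only [Finset.prod_range_succ, Finset.prod_range_zero, one_mul, if_pos (show Even 0 from ⟨0, rfl⟩),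
      if_neg (show ¬ Even 1 by decide)]
    exact mul_dvd_mul (by simp) ⟨q - 1, by rw [← Nat.sq_sub_sq q 1]⟩
  have hrq : ¬ r ∣ q + 1 := fun h => hrS (h.trans hqS)
  have hrp : r ≠ p := by
    rintro rfl
    refine hrS ((Nat.Coprime.dvd_mul_left ((Nat.Prime.coprime_iff_not_dvd hr).2 hrq)).1 ?_)
    rw [hcard, hGU]
    exact (dvd_pow hpq (Nat.div_pos (by
      calc 2 ≤ 2 * 1 := le_rfl
        _ ≤ (m - 2) * (m - 2 - 1) := Nat.mul_le_mul (by omega) (by omega)) two_pos).ne').mul_right _
  have hrGU : ¬ r ∣ Nat.card (Cfsg.GU (m - 2) F q) := by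
    rw [← hcard]
    exact fun h => hrS (((Nat.Prime.coprime_iff_not_dvd hr).2 hrq).dvd_of_dvd_mul_left h)
  have hZ := card_center_SU hF (show 2 ≤ m by omega) (n := m)
  have hpc : ¬ p ∣ Nat.card (Subgroup.center (Cfsg.SU m F q)) := fun h =>
    hpq1 (h.trans (hZ ▸ Nat.gcd_dvd_right _ _))
  have hrc : ¬ r ∣ Nat.card (Subgroup.center (Cfsg.SU m F q)) := fun h =>
    hrq (h.trans (hZ ▸ Nat.gcd_dvd_right _ _))
  have hb' : orderOf (b ^ (orderOf b / r)) = r := by
    rw [orderOf_pow' _ (Nat.div_pos (Nat.le_of_dvd (orderOf_pos b) hrb) hr.pos).ne',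
      Nat.gcd_eq_right (Nat.div_dvd_of_dvd hrb), Nat.div_div_self hrb (orderOf_pos b).ne']
  obtain ⟨u, hu, hu1, i, hui⟩ := exists_lift hp hpc a ha
  obtain ⟨g, hg, hg1, j, hgj⟩ := exists_lift hr hrc _ hb'
  have hz : g * u * g⁻¹ * u⁻¹ ∈ Subgroup.center (Cfsg.SU m F q) := by
    rw [← QuotientGroup.eq_one_iff]
    simp only [QuotientGroup.mk_mul, QuotientGroup.mk_inv, hui, hgj]
    rw [(((hab.symm.pow_left (orderOf b / r)).pow_left j).pow_right i).eq]
    group
  have hgu : Commute g u := by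
    set z := g * u * g⁻¹ * u⁻¹ with hzdef
    have e : g * u * g⁻¹ = z * u := by rw [hzdef]; group
    have h1 := congrArg (· ^ p) e
    simp only [conj_pow, hu, mul_one, mul_inv_cancel] at h1
    rw [(show Commute z u from (Subgroup.mem_center_iff.1 hz u).symm).mul_pow, hu, mul_one] at h1
    have h2 : orderOf (⟨z, hz⟩ : Subgroup.center (Cfsg.SU m F q)) ∣ 1 := by
      rw [← ((Nat.Prime.coprime_iff_not_dvd hp).2 hpc).gcd_eq_one]
      exact Nat.dvd_gcd (orderOf_dvd_of_pow_eq_one (Subtype.ext h1.symm)) (orderOf_dvd_natCard _)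
    have h3 : z = 1 := congrArg Subtype.val (orderOf_eq_one_iff.1 (Nat.dvd_one.1 h2))
    rw [h3, one_mul, mul_inv_eq_iff_eq_mul] at e
    exact e
  let φ : ↥(Cfsg.SU m F q) →* isomGroup (stdHerm σ m) :=
    (guEquiv hσ).toMonoidHom.comp (suToGU m F q)
  have hφ : Function.Injective φ := (guEquiv hσ).injective.comp suToGU_injective
  set T : Module.End F (Fin m → F) := ((φ u).1 : (Fin m → F) →ₗ[F] (Fin m → F))
  have hTp : T ^ p = 1 := by
    have hpw : ∀ (k : ℕ) (x : Fin m → F), ((φ u) ^ k).1 x = (T ^ k) x := by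
      intro k
      induction k with
      | zero => simp
      | succ k ih =>
        intro x
        rw [pow_succ, pow_succ, Subgroup.coe_mul, LinearEquiv.mul_apply, ih]
        rfl
    refine LinearMap.ext fun x => ?_
    rw [← hpw, ← map_pow, hu, map_one]
    rfl
  have : Nonempty (Fin m) := ⟨⟨0, by omega⟩⟩
  have : CharP (Module.End F (Fin m → F)) p :=
    charP_of_injective_algebraMap (algebraMap F (Module.End F (Fin m → F))).injective p
  have hnil : (T - 1) ^ p = 0 := by
    rw [sub_pow_char_of_commute (p := p) (h := Commute.one_right T), one_pow, hTp, sub_self]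
  have hrF : (r : F) ≠ 0 := fun h =>
    hrp ((Nat.prime_dvd_prime_iff_eq hp hr).1 ((CharP.cast_eq_zero_iff F p r).1 h)).symm
  have := Fact.mk hr
  refine hg1 (hφ ((CfsgLib.Involution.UnipotentPrimes.eq_one_of_commute (stdHerm_isHermitian hc m)
    (stdHerm_sepRight m) hF hσ (by rw [Module.finrank_fin_fun]; omega) (φ g) (φ u) (hgu.map φ)
    (fun h => hu1 (hφ (h.trans φ.map_one.symm))) hnil hrF (by rw [← map_pow, hg, map_one])
    (by rw [Module.finrank_fin_fun]; exact hrGU)).trans φ.map_one.symm))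

end Cfsg.Agent.S2365
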