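import Cfsg.Statements.S2367
-- import your own Cfsg.Agent.* helpers here

set_option autoImplicit false
set_option synthInstance.maxSize 4000
set_option maxHeartbeats 1000000
set_option maxRecDepth 100000
open Cfsg

namespace Cfsg.Agent.S2367

theorem spor {N : ℕ} {a : ℕ} {p : ℕ} (hp : p.Prime) (hodd : p ≠ 2) (hN : N ≠ 0)
    (hchk : 2 ^ a ∣ N ∧ N ∣ (Nat.factorial 71) ^ 46 ∧
      ∀ q < 72, 3 ≤ q → (q % 2 ≠ 0 ∧ (q % 3 ≠ 0 ∨ q = 3) ∧ (q % 5 ≠ 0 ∨ q = 5) ∧ (q % 7 ≠ 0 ∨ q = 7)) → q ^ 3 ∣ N → ¬ q ^ 4 ∣ N → q ^ 3 < 2 ^ a)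
    (h3 : N.factorization p = 3) : p ^ 3 < 2 ^ N.factorization 2 := by
  obtain ⟨ha, hd, hq⟩ := hchk
  have h1 : p ^ 3 ∣ N := by rw [← h3]; exact Nat.ordProj_dvd N p
  have h2 : ¬ p ^ 4 ∣ N := fun h => by
    have := (hp.pow_dvd_iff_le_factorization hN).1 h
    omega
  have h71 : p ≤ 71 := hp.dvd_factorial.1 (hp.dvd_of_dvd_pow (((dvd_pow_self p three_ne_zero).trans h1).trans hd))
  have key : ∀ d, d.Prime → p % d ≠ 0 ∨ p = d := fun d hd => by
    rcases eq_or_ne p d with h | h
    · exact Or.inr h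
    · exact Or.inl fun h0 => h ((Nat.prime_dvd_prime_iff_eq hd hp).1 (Nat.dvd_of_mod_eq_zero h0)).symm
  have hsmall : p % 2 ≠ 0 ∧ (p % 3 ≠ 0 ∨ p = 3) ∧ (p % 5 ≠ 0 ∨ p = 5) ∧ (p % 7 ≠ 0 ∨ p = 7) :=
    ⟨(key 2 Nat.prime_two).resolve_right hodd, key 3 Nat.prime_three, key 5 (by norm_num), key 7 (by norm_num)⟩
  refine (hq p (by omega) (by have := hp.two_le; omega) hsmall h1 h2).trans_le (Nat.pow_le_pow_right two_pos ?_)
  exact (Nat.prime_two.pow_dvd_iff_le_factorization hN).1 ha

theorem cube_lt : ∀ p : ℕ, 5 ≤ p → p ^ 3 < 2 ^ (2 * p - 1) := by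
  intro p hp
  induction p, hp using Nat.le_induction with
  | base => norm_num
  | succ p hp ih =>
    rw [show 2 * (p + 1) - 1 = (2 * p - 1) + 2 by omega, pow_add]
    nlinarith [Nat.mul_le_mul hp (Nat.le_refl (p * p))]

theorem alt {n p : ℕ} (hp : p.Prime) (hodd : p ≠ 2) {N : ℕ} (hN : 2 * N = n.factorial)
    (h3 : N.factorization p = 3) : p ^ 3 < 2 ^ N.factorization 2 := by
  have hN0 : N ≠ 0 := by have := Nat.factorial_pos n; omega
  have hfp : n.factorial.factorization p = 3 := by
    rw [← hN, Nat.factorization_mul two_ne_zero hN0, Finsupp.add_apply, h3, Nat.prime_two.factorization]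
    simp [Finsupp.single_apply, Ne.symm hodd]
  have hf2 : n.factorial.factorization 2 = 1 + N.factorization 2 := by
    rw [← hN, Nat.factorization_mul two_ne_zero hN0, Finsupp.add_apply, Nat.prime_two.factorization_self]
  rw [Nat.factorization_factorial hp (Nat.lt_of_le_of_lt (Nat.log_le_self _ _) (Nat.lt_add_of_pos_right (k := 3) (by norm_num)))] at hfp
  rw [Nat.factorization_factorial Nat.prime_two (Nat.lt_of_le_of_lt (Nat.log_le_self _ _) (Nat.lt_add_of_pos_right (k := 3) (by norm_num)))] at hf2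
  have hge : n / 2 + n / 4 ≤ 1 + N.factorization 2 := by
    rw [← hf2]
    refine le_trans ?_ (Finset.sum_le_sum_of_subset (s := ({1, 2} : Finset ℕ)) ?_)
    · rw [Finset.sum_pair (by norm_num)]; simp
    · intro i hi; simp at hi; simp; omega
  have h1 : n / p ≤ 3 := by
    rw [← hfp]
    have := Finset.single_le_sum (f := fun i => n / p ^ i) (s := Finset.Ico 1 (n + 3)) (fun i _ => Nat.zero_le _)
      (a := 1) (by simp)
    simpa using this
  have hlt : n < 4 * p := by
    have := Nat.lt_mul_div_succ n hp.pos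
    nlinarith
  by_cases hp3 : p = 3
  · subst hp3
    exfalso
    interval_cases n <;> simp [Finset.sum_Ico_succ_top] at hfp
  have hp5 : 5 ≤ p := by
    have := hp.two_le
    by_contra h
    interval_cases p <;> first | omega | norm_num at hp
  have hsq : n < p ^ 2 := by nlinarith
  have heq : n / p = 3 := by
    rw [← hfp, Finset.sum_eq_single_of_mem 1 (by simp)]
    · simp
    · intro i hi hi1
      have : 2 ≤ i := by simp at hi; omega
      exact Nat.div_eq_of_lt (hsq.trans_le (Nat.pow_le_pow_right hp.pos this))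
  have h3n : 3 * p ≤ n := by rw [← heq]; exact Nat.div_mul_le_self n p
  refine (cube_lt p hp5).trans_le (Nat.pow_le_pow_right two_pos ?_)
  omega


/-- Let G be an alternating group of degree at least 5 or a simple group with the order of one of the 26 sporadic groups, and let p be an odd prime such that p³ is the exact power of p dividing the order of G. Then p³ is less than the 2-part of the order of G. -/
theorem result {G : Type*} [Group G] [Finite G] (hG : Cfsg.IsAlternating G ∨ Cfsg.IsSporadic G)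
    (p : ℕ) (hp : p.Prime) (hodd : p ≠ 2) (h3 : (Nat.card G).factorization p = 3) :
    p ^ 3 < 2 ^ (Nat.card G).factorization 2 := by
  rcases hG with ⟨n, hn, ⟨e⟩⟩ | hG
  · refine alt (n := n) hp hodd ?_ h3
    haveI : Nontrivial (Fin n) := Fin.nontrivial_iff_two_le.2 (by omega)
    rw [Nat.card_congr e.toEquiv, two_mul_nat_card_alternatingGroup, Nat.card_perm, Nat.card_fin]
  · rcases hG with h | h | h | h | h | h | h | h | h | h | h | h | h | h | h | h | h | h | h | h | h | h | h | h | h | h
    · rw [h.2] at h3 ⊢; exact spor (a := 4) hp hodd (by norm_num) (by decide) h3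
    · rw [h.2] at h3 ⊢; exact spor (a := 6) hp hodd (by norm_num) (by decide) h3
    · rw [h.2] at h3 ⊢; exact spor (a := 7) hp hodd (by norm_num) (by decide) h3
    · rw [h.2] at h3 ⊢; exact spor (a := 7) hp hodd (by norm_num) (by decide) h3
    · rw [h.2] at h3 ⊢; exact spor (a := 10) hp hodd (by norm_num) (by decide) h3
    · rw [h.2] at h3 ⊢; exact spor (a := 3) hp hodd (by norm_num) (by decide) h3
    · rw [h.2] at h3 ⊢; exact spor (a := 7) hp hodd (by norm_num) (by decide) h3
    · rw [h.2] at h3 ⊢; exact spor (a := 7) hp hodd (by norm_num) (by decide) h3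
    · rw [h.2] at h3 ⊢; exact spor (a := 21) hp hodd (by norm_num) (by decide) h3
    · rw [h.2] at h3 ⊢; exact spor (a := 21) hp hodd (by norm_num) (by decide) h3
    · rw [h.2] at h3 ⊢; exact spor (a := 18) hp hodd (by norm_num) (by decide) h3
    · rw [h.2] at h3 ⊢; exact spor (a := 10) hp hodd (by norm_num) (by decide) h3
    · rw [h.2] at h3 ⊢; exact spor (a := 17) hp hodd (by norm_num) (by decide) h3
    · rw [h.2] at h3 ⊢; exact spor (a := 18) hp hodd (by norm_num) (by decide) h3
    · rw [h.2] at h3 ⊢; exact spor (a := 21) hp hodd (by norm_num) (by decide) h3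
    · rw [h.2] at h3 ⊢; exact spor (a := 9) hp hodd (by norm_num) (by decide) h3
    · rw [h.2] at h3 ⊢; exact spor (a := 7) hp hodd (by norm_num) (by decide) h3
    · rw [h.2] at h3 ⊢; exact spor (a := 10) hp hodd (by norm_num) (by decide) h3
    · rw [h.2] at h3 ⊢; exact spor (a := 14) hp hodd (by norm_num) (by decide) h3
    · rw [h.2] at h3 ⊢; exact spor (a := 13) hp hodd (by norm_num) (by decide) h3
    · rw [h.2] at h3 ⊢; exact spor (a := 9) hp hodd (by norm_num) (by decide) h3
    · rw [h.2] at h3 ⊢; exact spor (a := 14) hp hodd (by norm_num) (by decide) h3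
    · rw [h.2] at h3 ⊢; exact spor (a := 8) hp hodd (by norm_num) (by decide) h3
    · rw [h.2] at h3 ⊢; exact spor (a := 15) hp hodd (by norm_num) (by decide) h3
    · rw [h.2] at h3 ⊢; exact spor (a := 41) hp hodd (by norm_num) (by decide) h3
    · rw [h.2] at h3 ⊢; exact spor (a := 46) hp hodd (by norm_num) (by decide) h3

end Cfsg.Agent.S2367
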