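import Cfsg.Statements.S2368
-- import your own Cfsg.Agent.* helpers here

set_option autoImplicit false
open Cfsg

namespace Cfsg.Agent.S2368

/-- Let F be a finite field of characteristic p and m ≥ 1. Every element of GL(m, F) of p-power order has order less than p·m, and GL(m, F) has an element of p-power order at least m; so the largest order of a p-element of GL(m, F) is the least power of p that is at least m. -/
theorem result {F : Type*} [Field F] [Fintype F] (p : ℕ) [Fact p.Prime] [CharP F p] (m : ℕ) (hm : 1 ≤ m) :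
    (∀ g : Matrix.GeneralLinearGroup (Fin m) F, (∃ j : ℕ, orderOf g = p ^ j) → orderOf g < p * m) ∧
      ∃ g : Matrix.GeneralLinearGroup (Fin m) F, (∃ j : ℕ, orderOf g = p ^ j) ∧ m ≤ orderOf g := by
  have : Fact (0 < p) := ⟨(Fact.out : p.Prime).pos⟩
  have hchar : CharP (Matrix (Fin m) (Fin m) F) p := by
    have : Nonempty (Fin m) := ⟨⟨0, hm⟩⟩
    exact charP_of_injective_algebraMap (algebraMap F (Matrix (Fin m) (Fin m) F)).injective p
  refine ⟨fun g ⟨j, hj⟩ => ?_, ?_⟩
  · -- `g - 1` is nilpotent
    have hnil : IsNilpotent ((g : Matrix (Fin m) (Fin m) F) - 1) := by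
      refine ⟨p ^ j, ?_⟩
      rw [sub_pow_char_pow_of_commute _ _ (Commute.one_right _), one_pow, sub_eq_zero, ← Units.val_pow_eq_pow_val,
        ← hj, pow_orderOf_eq_one, Units.val_one]
    have hm0 : ((g : Matrix (Fin m) (Fin m) F) - 1) ^ m = 0 := by
      have h1 := Matrix.aeval_self_charpoly ((g : Matrix (Fin m) (Fin m) F) - 1)
      rw [sub_eq_zero.1 (Matrix.isNilpotent_charpoly_sub_pow_of_isNilpotent hnil).eq_zero] at h1
      simpa using h1
    obtain ⟨k, hk, hk'⟩ : ∃ k, m ≤ p ^ k ∧ p ^ k < p * m := by
      refine ⟨Nat.clog p m, Nat.le_pow_clog (Fact.out : p.Prime).one_lt m, ?_⟩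
      rcases eq_or_lt_of_le hm with rfl | hm1
      · simpa using (Fact.out : p.Prime).one_lt
      · have h1 := Nat.pow_pred_clog_lt_self (Fact.out : p.Prime).one_lt hm1
        have h2 := Nat.clog_pos (Fact.out : p.Prime).one_lt hm1
        calc p ^ Nat.clog p m = p ^ (Nat.clog p m).pred * p := by
              rw [← pow_succ, Nat.pred_eq_sub_one, Nat.sub_add_cancel h2]
          _ < m * p := Nat.mul_lt_mul_of_pos_right h1 (Fact.out : p.Prime).pos
          _ = p * m := mul_comm _ _
    have h1 : g ^ p ^ k = 1 := by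
      refine Units.ext ?_
      rw [Units.val_pow_eq_pow_val, Units.val_one, ← sub_eq_zero,
        ← one_pow (M := Matrix (Fin m) (Fin m) F) (p ^ k), ← sub_pow_char_pow_of_commute _ _ (Commute.one_right _),
        ← Nat.add_sub_cancel' hk, pow_add, hm0, zero_mul]
    exact lt_of_le_of_lt (Nat.le_of_dvd (pow_pos (Fact.out : p.Prime).pos _)
      (orderOf_dvd_of_pow_eq_one h1)) hk'
  · classical
    set N : Matrix (Fin m) (Fin m) F := Matrix.of fun i j => if j.val = i.val + 1 then 1 else 0
    have hNk : ∀ k : ℕ, ∀ i j, (N ^ k) i j = if j.val = i.val + k then 1 else 0 := by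
      intro k
      induction k with
      | zero => intro i j; simp [Matrix.one_apply, Fin.ext_iff, eq_comm]
      | succ k ih =>
        intro i j
        rw [pow_succ, Matrix.mul_apply]
        simp only [ih, N, Matrix.of_apply, ite_mul, one_mul, zero_mul]
        by_cases hk : i.val + k < m
        · rw [Finset.sum_eq_single (⟨i.val + k, hk⟩ : Fin m)]
          · simp [add_assoc]
          · intro b _ hb
            rw [if_neg fun h => hb (Fin.ext h)]
          · simp
        · have := j.isLt
          rw [if_neg (by omega)]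
          exact Finset.sum_eq_zero fun b _ => if_neg (by have := b.isLt; omega)
    have hNm : N ^ m = 0 := by
      ext i j
      rw [hNk, if_neg (by omega)]
      rfl
    have hu : IsUnit (1 + N) := IsNilpotent.isUnit_one_add ⟨m, hNm⟩
    refine ⟨hu.unit, ?_⟩
    have hpm : hu.unit ^ p ^ m = 1 := by
      refine Units.ext ?_
      rw [Units.val_pow_eq_pow_val, Units.val_one, IsUnit.unit_spec,
        add_pow_char_pow_of_commute _ _ (Commute.one_left _), one_pow,
        pow_eq_zero_of_le (Nat.lt_pow_self (Fact.out : p.Prime).one_lt).le hNm, add_zero]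
    obtain ⟨j, -, hj⟩ := (Nat.dvd_prime_pow (Fact.out : p.Prime)).1 (orderOf_dvd_of_pow_eq_one hpm)
    refine ⟨⟨j, hj⟩, ?_⟩
    by_contra hcon
    have h1 := congrArg Units.val (pow_orderOf_eq_one hu.unit)
    rw [hj] at h1 hcon
    rw [Units.val_pow_eq_pow_val, Units.val_one, IsUnit.unit_spec,
      add_pow_char_pow_of_commute _ _ (Commute.one_left _), one_pow, add_eq_left] at h1
    have h2 := hNk (p ^ j) ⟨0, hm⟩ ⟨p ^ j, by omega⟩
    rw [h1] at h2
    simp at h2

end Cfsg.Agent.S2368
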