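import Cfsg.Statements.S2369
import Cfsg.Agent.Lib.Chevalley.ReeFourTorus.Main

set_option autoImplicit false
open Cfsg

open CfsgLib.Chevalley CfsgLib.Chevalley.Twist.F4

namespace Cfsg.Agent.S2369

theorem prim_six {r : ℕ} [Fact r.Prime] (h2 : (2 : ZMod r) ≠ 0) {x : ZMod r} (h4 : x ^ 4 ≠ 1)
    (h : x ^ 3 + 1 = 0) : IsPrimitiveRoot x 6 := by
  have h3 : x ^ 3 = -1 := eq_neg_of_add_eq_zero_left h
  refine (IsPrimitiveRoot.iff (by norm_num)).2 ⟨by linear_combination (x ^ 3 - 1) * h3, fun l hl hl' he => ?_⟩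
  interval_cases l
  · exact h4 (by rw [pow_one] at he; rw [he, one_pow])
  · exact h4 (by linear_combination (x ^ 2 + 1) * he)
  · exact h2 (by linear_combination h - he)
  · exact h4 he
  · have h1 : x = 1 := by linear_combination (x ^ 3 - 1) * h3 - x * he
    exact h4 (by rw [h1, one_pow])

theorem prim_twelve {r : ℕ} [Fact r.Prime] (h2 : (2 : ZMod r) ≠ 0) {x : ZMod r} (h4 : x ^ 4 ≠ 1)
    (h : x ^ 6 + 1 = 0) : IsPrimitiveRoot x 12 := by
  have h6 : x ^ 6 = -1 := eq_neg_of_add_eq_zero_left h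
  have h12 : x ^ 12 = 1 := by linear_combination (x ^ 6 - 1) * h6
  have hd : ∀ d, d ∣ 4 → x ^ d ≠ 1 := fun d ⟨c, hc⟩ hx => h4 (by rw [hc, pow_mul, hx, one_pow])
  refine (IsPrimitiveRoot.iff (by norm_num)).2 ⟨h12, fun l hl hl' he => ?_⟩
  interval_cases l
  · exact hd 1 (by norm_num) he
  · exact hd 2 (by norm_num) he
  · exact h2 (by linear_combination h - (x ^ 3 + 1) * he)
  · exact h4 he
  · exact hd 2 (by norm_num) (by linear_combination h12 - x ^ 2 * (x ^ 5 + 1) * he)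
  · exact h2 (by linear_combination h - he)
  · exact hd 2 (by norm_num) (by linear_combination he - x ^ 2 * (h12 - x ^ 5 * he))
  · exact hd 4 dvd_rfl (by linear_combination h12 - x ^ 4 * he)
  · exact h2 (by linear_combination h - (x ^ 3 + 1) * (h12 - x ^ 3 * he))
  · exact hd 2 (by norm_num) (by linear_combination h12 - x ^ 2 * he)
  · exact hd 1 (by norm_num) (by linear_combination h12 - x * he)


/-- Let q = 2^(2m+1) with m ≥ 1 and let a, b be commuting elements of the large Ree group ²F₄(q) with a an involution. Then every prime divisor of the order of b divides q(q⁴ − 1). -/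
theorem result {K : Type*} [Field K] [Fintype K] (m : ℕ) (hm : 1 ≤ m) (hK : Fintype.card K = 2 ^ (2 * m + 1))
    (a b : ↥(Cfsg.Lie.twistedF4 K (2 ^ m))) (ha : orderOf a = 2) (hab : Commute a b) :
    (orderOf b).primeFactors ⊆ (2 ^ (2 * m + 1) * ((2 ^ (2 * m + 1)) ^ 4 - 1)).primeFactors := by
  classical
  have hK' : Nat.card K = 2 ^ (2 * m + 1) := Nat.card_eq_fintype_card.trans hK
  refine transfer hK' (fun _ G => ∀ a b : ↥G, orderOf a = 2 → Commute a b →
    (orderOf b).primeFactors ⊆ (2 ^ (2 * m + 1) * ((2 ^ (2 * m + 1)) ^ 4 - 1)).primeFactors) ?_ a b ha hab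
  intro a b ha hab r hr
  rw [Nat.mem_primeFactors] at hr
  obtain ⟨hrp, hrb, hb0⟩ := hr
  have hone : 1 < 2 ^ (2 * m + 1) := Nat.one_lt_two_pow (by omega)
  have h14 : 1 < (2 ^ (2 * m + 1)) ^ 4 := Nat.one_lt_pow (by norm_num) hone
  rw [Nat.mem_primeFactors]
  refine ⟨hrp, ?_, Nat.mul_ne_zero (by omega) (by omega)⟩
  by_contra hnd
  have : Fact r.Prime := ⟨hrp⟩
  set q := 2 ^ (2 * m + 1) with hqdef
  rw [hrp.dvd_mul, not_or] at hnd
  obtain ⟨hrq, hr4⟩ := hnd
  have hr2 : r ≠ 2 := fun h => hrq (h ▸ dvd_pow_self 2 (by omega))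
  have h2 : (2 : ZMod r) ≠ 0 := fun h => hr2 ((Nat.prime_dvd_prime_iff_eq hrp Nat.prime_two).1
    ((ZMod.natCast_eq_zero_iff 2 r).1 (by exact_mod_cast h)))
  set x : ZMod r := (q : ZMod r) with hx
  have hx0 : x ≠ 0 := fun h => hrq ((ZMod.natCast_eq_zero_iff q r).1 h)
  have h4 : x ^ 4 ≠ 1 := fun h => hr4 ((ZMod.natCast_eq_zero_iff _ r).1 (by
    rw [Nat.cast_sub h14.le, Nat.cast_pow, ← hx, h, Nat.cast_one, sub_self]))
  have hq : IsPrimitiveRoot x 6 ∨ IsPrimitiveRoot x 12 := by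
    have hd : r ∣ Nat.card ↥(S hK').fix := hrb.trans (orderOf_dvd_natCard b)
    rw [← grp_eq_fix hK', card_eq hK', ← hqdef, ← ZMod.natCast_eq_zero_iff] at hd
    push_cast [Nat.cast_sub h14.le, Nat.cast_sub hone.le] at hd
    rw [← hx] at hd
    simp only [mul_eq_zero] at hd
    rcases hd with (((hd | hd) | hd) | hd) | hd
    · exact absurd (pow_eq_zero_iff (by norm_num) |>.1 hd) hx0
    · exact absurd (by rw [sub_eq_zero.1 hd, one_pow]) h4
    · exact Or.inl (prim_six h2 h4 hd)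
    · exact absurd (sub_eq_zero.1 hd) h4
    · exact Or.inr (prim_twelve h2 h4 hd)
  have hr5 : 5 ≤ r := by
    rcases hq with hq | hq <;>
    · have h1 := hq.dvd_of_pow_eq_one _ (ZMod.pow_card_sub_one_eq_one hx0)
      have := Nat.le_of_dvd (by have := hrp.two_le; omega) h1
      omega
  have hb0' : IsOfFinOrder b := orderOf_pos_iff.1 (Nat.pos_of_ne_zero hb0)
  set c := b ^ (orderOf b / r) with hc
  have hco : orderOf c = r := orderOf_pow_orderOf_div hb0 hrb
  have h1 : (a : GL _ K) = 1 := ReeFourTorus.eq_one_of_commute hK' hrp hr5 hq c.2 a.2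
    (by rw [Subgroup.orderOf_coe]; exact hco)
    (by rw [← Subgroup.coe_pow, ← ha, pow_orderOf_eq_one, Subgroup.coe_one])
    (by rw [← Subgroup.coe_mul, ← Subgroup.coe_mul, (hab.pow_right _).eq])
  rw [show a = 1 from Subtype.ext h1, orderOf_one] at ha
  omega

end Cfsg.Agent.S2369
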