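import Cfsg.Statements.S2370
import Cfsg.Agent.Lib.Chevalley.HeightUnipotent
import Cfsg.Agent.Lib.Chevalley.PosProduct
import Cfsg.Agent.Lib.Chevalley.BN
import Cfsg.Agent.Lib.Chevalley.Data.F4Comm
import Cfsg.Agent.S1062

set_option autoImplicit false
open Cfsg CfsgLib.Chevalley

namespace Cfsg.Agent.S2370

/-- Let q = 2^(2m+1) with m ≥ 1. Every element of 2-power order of the large Ree group ²F₄(q) has order at most 32. -/
theorem result {K : Type*} [Field K] [Fintype K] (m : ℕ) (hm : 1 ≤ m) (hK : Fintype.card K = 2 ^ (2 * m + 1))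
    (x : ↥(Cfsg.Lie.twistedF4 K (2 ^ m))) (hx : ∃ j : ℕ, orderOf x = 2 ^ j) : orderOf x ≤ 32 := by
  have hT := Data.F4.valid
  have hC := Data.F4.chkComm
  haveI : Fact (Nat.Prime 2) := ⟨Nat.prime_two⟩
  have hchar : CharP K 2 := by
    obtain ⟨n, hp, hn⟩ := FiniteField.card K (ringChar K)
    have : ringChar K = 2 := by
      have h : ringChar K ∣ 2 ^ (2 * m + 1) := by
        rw [← hK, hn]; exact dvd_pow_self _ n.ne_zero
      exact (Nat.prime_dvd_prime_iff_eq hp Nat.prime_two).1 (hp.dvd_of_dvd_pow h)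
    exact this ▸ ringChar.charP K
  have key : ∀ (D : Cfsg.Lie.ChevalleyDatum), Data.F4.tbl.datum = D →
      ∀ g : GL D.Idx K, g ∈ D.group K → (∃ j, g ^ 2 ^ j = 1) → g ^ 32 = 1 := by
    rintro _ rfl g hg ⟨j, hj⟩
    have hUG : Data.F4.tbl.datum.posUnipotent K ≤ Data.F4.tbl.datum.group K := by
      rw [Tbl.posUnipotent_rootGen hT]
      exact Tbl.rootGen_le fun r hr _ t => Tbl.xU_mem_group hT hr t
    set G := Data.F4.tbl.datum.group K
    set U := (Data.F4.tbl.datum.posUnipotent K).subgroupOf G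
    have hU : Nat.card U = (2 ^ (2 * m + 1)) ^ 24 := by
      rw [Nat.card_congr (Subgroup.subgroupOfEquivOfLe hUG).toEquiv, Tbl.card_posUnipotent hT hC, hK]
      rfl
    have hG : Nat.card G = (2 ^ (2 * m + 1)) ^ 24 * ((2 ^ (2 * m + 1)) ^ 2 - 1) *
        ((2 ^ (2 * m + 1)) ^ 6 - 1) * ((2 ^ (2 * m + 1)) ^ 8 - 1) * ((2 ^ (2 * m + 1)) ^ 12 - 1) := by
      have h := Cfsg.Agent.S1062.result (F := K) hK
      rw [← Data.F4.datum_eq] at h
      exact h
    have hodd : ∀ e, e ≠ 0 → ¬ 2 ∣ (2 ^ (2 * m + 1)) ^ e - 1 := fun e he h => by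
      have h2 : 2 ∣ (2 ^ (2 * m + 1)) ^ e := dvd_pow (dvd_pow_self 2 (by omega)) he
      have h1 : 1 ≤ (2 ^ (2 * m + 1)) ^ e := Nat.one_le_pow _ _ (by positivity)
      omega
    have hfin : Finite G := Nat.finite_of_card_ne_zero (by
      rw [hG]
      have : ∀ e, e ≠ 0 → (2 ^ (2 * m + 1)) ^ e - 1 ≠ 0 := fun e he h => hodd e he (h ▸ dvd_zero 2)
      simp [this])
    have hUpg : IsPGroup 2 U :=
      IsPGroup.of_card (n := (2 * m + 1) * 24) (by rw [hU, ← pow_mul])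
    have hidx : ¬ 2 ∣ U.index := by
      have h := U.card_mul_index
      rw [hU, hG, mul_assoc, mul_assoc, mul_assoc] at h
      rw [Nat.eq_of_mul_eq_mul_left (by positivity) h]
      simp only [Nat.prime_two.dvd_mul]
      exact fun h => h.elim (hodd 2 (by omega)) fun h => h.elim (hodd 6 (by omega))
        fun h => h.elim (hodd 8 (by omega)) (hodd 12 (by omega))
    let P := hUpg.toSylow hidx
    obtain ⟨Q, hQ⟩ : ∃ Q : Sylow 2 G, Subgroup.zpowers (⟨g, hg⟩ : G) ≤ Q := by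
      refine IsPGroup.exists_le_sylow ?_
      obtain ⟨i, -, hi⟩ := (Nat.dvd_prime_pow Nat.prime_two).1
        (orderOf_dvd_of_pow_eq_one (x := (⟨g, hg⟩ : G)) (Subtype.ext (by simpa using hj)))
      exact IsPGroup.of_card (n := i) (by rw [Nat.card_zpowers, hi])
    obtain ⟨c, hc⟩ := MulAction.exists_smul_eq G Q P
    have hmem : c * ⟨g, hg⟩ * c⁻¹ ∈ (P : Subgroup G) := by
      rw [← hc, Sylow.coe_subgroup_smul]
      exact Subgroup.smul_mem_pointwise_smul _ (MulAut.conj c) _ (hQ (Subgroup.mem_zpowers _))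
    have hu : (c : GL _ K) * g * (c : GL _ K)⁻¹ ∈ Data.F4.tbl.datum.posUnipotent K := hmem
    rw [Tbl.posUnipotent_rootGen hT] at hu
    have hpos : ∀ r, r < Data.F4.tbl.n → Data.F4.tbl.half ≤ r → 0 < Data.F4.tbl.ht r := by
      decide +kernel
    have hbd : ∀ r < Data.F4.tbl.n, -((11 : ℕ) : ℤ) ≤ Data.F4.tbl.ht r ∧ Data.F4.tbl.ht r ≤ (11 : ℕ) := by
      decide +kernel
    have h1 := Tbl.pow_hdeg_eq_zero hbd (Tbl.pos_le_uniSub_hdeg hT hpos hu).1
    haveI : Nonempty Data.F4.tbl.I := ⟨Sum.inl ⟨0, by decide +kernel⟩⟩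
    have h2 := Tbl.pow_eq_one_of_sub (p := 2) (j := 5) _ h1 (by norm_num)
    rw [conj_pow, conj_eq_one_iff] at h2
    exact h2
  have hle : Cfsg.Lie.twistedF4 K (2 ^ m) ≤ Cfsg.Lie.chevF4.group K := by
    refine (Subgroup.closure_le _).2 ?_
    rintro g ⟨w, -, hg⟩
    suffices h : ∀ w : List (ℕ × K), ∃ g' ∈ Cfsg.Lie.chevF4.group K,
        (g' : Matrix _ _ K) = Cfsg.Lie.chevF4.wordMat K w by
      obtain ⟨g', h1, h2⟩ := h w
      rwa [show g = g' from Units.ext (hg.trans h2.symm)]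
    suffices h : ∀ D : Cfsg.Lie.ChevalleyDatum, Data.F4.tbl.datum = D → ∀ w : List (ℕ × K),
        ∃ g' ∈ D.group K, (g' : Matrix D.Idx D.Idx K) = D.wordMat K w from h _ Data.F4.datum_eq
    rintro _ rfl w
    induction w with
    | nil => exact ⟨1, one_mem _, rfl⟩
    | cons a w ih =>
      obtain ⟨g', h1, h2⟩ := ih
      rcases Nat.lt_or_ge a.1 Data.F4.tbl.n with ha | ha
      · refine ⟨Data.F4.tbl.xU K a.1 a.2 * g', mul_mem (Tbl.xU_mem_group hT ha _) h1, ?_⟩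
        rw [Units.val_mul, h2, ← Tbl.x_eq_val hT ha]
        rfl
      · refine ⟨g', h1, h2.trans ?_⟩
        show _ = Data.F4.tbl.datum.x K a.1 a.2 * Data.F4.tbl.datum.wordMat K w
        rw [Cfsg.Lie.ChevalleyDatum.x, dif_neg (Nat.not_lt.2 ha), one_mul]
  obtain ⟨j, hj⟩ := hx
  have h := key _ Data.F4.datum_eq x (hle x.2)
    ⟨j, by rw [← hj, ← Subgroup.coe_pow, pow_orderOf_eq_one]; rfl⟩
  rw [← Subgroup.coe_pow, OneMemClass.coe_eq_one] at h
  exact Nat.le_of_dvd (by norm_num) (orderOf_dvd_of_pow_eq_one h)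

end Cfsg.Agent.S2370
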