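import Cfsg.Statements.S2371
import Cfsg.Agent.S1059
import Cfsg.Agent.Lib.Chevalley.CoxeterTorus.Instances
-- import your own Cfsg.Agent.* helpers here

set_option autoImplicit false
open Cfsg CfsgLib.Chevalley CfsgLib.Chevalley.CoxeterTorus

namespace Cfsg.Agent.S2371

/-- The group G₂(q), q ≥ 3, contains a cyclic subgroup of order q² + q + 1 which is its own centralizer. -/
theorem result {F : Type*} [Field F] [Fintype F] (q : ℕ) (hF : Fintype.card F = q) (hq : 3 ≤ q) :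
    ∃ H : Subgroup ↥(Cfsg.Lie.chevG2.group F), IsCyclic ↥H ∧ Nat.card ↥H = q ^ 2 + q + 1 ∧
      Subgroup.centralizer (H : Set ↥(Cfsg.Lie.chevG2.group F)) = H := by
  have hP : (Polynomial.cyclotomic 3 ℤ).eval (q : ℤ) = ((q ^ 2 + q + 1 : ℕ) : ℤ) := by
    rw [eval_three]; push_cast; ring
  refine instanceTorus Data.G2.valid Data.G2.chkComm Data.G2.chkSmith (by decide) Data.G2.datum_eq hF
    (by norm_num) (by decide) hP (by nlinarith) (fun p hp h2 hpe => ?_) G2_card_WP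
    (fun ℓ hℓ h => ?_) ?_
  · obtain rfl := (Nat.prime_dvd_prime_iff_eq hp Nat.prime_three).1 hpe
    have h9 : ((q ^ 2 + q + 1 : ℕ) : ZMod 9) = 0 := (ZMod.natCast_eq_zero_iff _ _).2 h2
    have h := (show ∀ x : ZMod 9, x ^ 2 + x + 1 ≠ 0 by decide) (q : ZMod 9)
    exact h (by exact_mod_cast h9)
  · rw [show (12 : ℕ) = 2 ^ 2 * 3 from rfl] at h
    rcases hℓ.dvd_mul.1 h with h | h
    · have := Nat.le_of_dvd (by norm_num) (hℓ.dvd_of_dvd_pow h); omega
    · exact Nat.le_of_dvd (by norm_num) h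
  · rw [Cfsg.Agent.S1059.result hF]
    exact dvd_mul_of_dvd_right (Nat.pow_sub_one_dvd_pow_sub_one q (by norm_num : 3 ∣ 6)) _

end Cfsg.Agent.S2371
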