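import Cfsg.Statements.S2372
import Cfsg.Agent.S1062
import Cfsg.Agent.Lib.Chevalley.CoxeterTorus.Instances
-- import your own Cfsg.Agent.* helpers here

set_option autoImplicit false
open Cfsg CfsgLib.Chevalley CfsgLib.Chevalley.CoxeterTorus

namespace Cfsg.Agent.S2372

/-- The group F₄(q) contains a cyclic subgroup of order q⁴ + 1 which is its own centralizer. -/
theorem result {F : Type*} [Field F] [Fintype F] (q : ℕ) (hF : Fintype.card F = q) :
    ∃ H : Subgroup ↥(Cfsg.Lie.chevF4.group F), IsCyclic ↥H ∧ Nat.card ↥H = q ^ 4 + 1 ∧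
      Subgroup.centralizer (H : Set ↥(Cfsg.Lie.chevF4.group F)) = H := by
  have hq : 2 ≤ q := hF ▸ Fintype.one_lt_card
  have hP : (Polynomial.cyclotomic 8 ℤ).eval (q : ℤ) = ((q ^ 4 + 1 : ℕ) : ℤ) := by
    rw [eval_eight]; push_cast; ring
  refine instanceTorus Data.F4.valid Data.F4.chkComm Data.F4.chkSmith (by decide) Data.F4.datum_eq hF
    (by norm_num) (by decide) hP ?_ (fun p hp h2 hpe => ?_) F4_card_WP (fun ℓ hℓ h => ?_) ?_
  · have h16 : 2 ^ 4 ≤ q ^ 4 := Nat.pow_le_pow_left hq 4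
    omega
  · obtain rfl := (Nat.prime_dvd_prime_iff_eq hp Nat.prime_two).1
      (hp.dvd_of_dvd_pow (show p ∣ 2 ^ 3 from hpe))
    have h4 : ((q ^ 4 + 1 : ℕ) : ZMod 4) = 0 := (ZMod.natCast_eq_zero_iff _ _).2 h2
    have h := (show ∀ x : ZMod 4, x ^ 4 + 1 ≠ 0 by decide) (q : ZMod 4)
    exact h (by exact_mod_cast h4)
  · rw [show (1152 : ℕ) = 2 ^ 7 * 3 ^ 2 from rfl] at h
    rcases hℓ.dvd_mul.1 h with h | h
    · have := Nat.le_of_dvd (by norm_num) (hℓ.dvd_of_dvd_pow h); omega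
    · have := Nat.le_of_dvd (by norm_num) (hℓ.dvd_of_dvd_pow h); omega
  · rw [Cfsg.Agent.S1062.result hF]
    exact dvd_mul_of_dvd_left (dvd_mul_left _ _) _

end Cfsg.Agent.S2372
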