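import Cfsg.Statements.S2373
import Cfsg.Agent.Lib.Chevalley.CoverTorus.Main
import Cfsg.Agent.Lib.Chevalley.CoverTorus.E6
import Cfsg.Agent.Lib.Chevalley.CoverTorus.Cyclic
import Cfsg.Agent.Lib.Chevalley.CoxeterTorus.Instances
import Cfsg.Agent.Lib.Chevalley.Twist.Torus2
import Cfsg.Agent.Lib.KnownA.SteinbergCert.Emb
import Cfsg.Agent.Lib.Chevalley.TablesSt
import Cfsg.Agent.Lib.Chevalley.Data.SmithCerts
import Cfsg.Agent.S1063
-- import your own Cfsg.Agent.* helpers here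

set_option autoImplicit false
open Cfsg CfsgLib.Chevalley CfsgLib.Chevalley.CoxeterTorus CfsgLib.KnownA.SteinbergUniv Polynomial

namespace Cfsg.Agent.S2373

theorem arith_two : ∀ x : ZMod 2, x ^ 4 - x ^ 2 + 1 ≠ 0 := by decide

theorem arith_three : ∀ x : ZMod 3, x ^ 4 - x ^ 2 + 1 ≠ 0 := by decide

theorem arith_four : ∀ x : ZMod 4, (x ^ 4 - x ^ 2 + 1) * (x ^ 2 + x + 1) ≠ 0 := by decide

theorem arith_nine : ∀ x : ZMod 9, (x ^ 4 - x ^ 2 + 1) * (x ^ 2 + x + 1) ≠ 0 := by decide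

/-- Elements killed by `3 P` are cubes in a field with `q ^ 108` elements. -/
theorem cube_root {L : Type} [Field L] [Fintype L] {q P : ℕ} (hq2 : 1 < q) (hL : Fintype.card L = q ^ 108)
    (hP0 : P ≠ 0) (hP : P ∣ q ^ 108 - 1) (hP9 : ¬ 9 ∣ P) (f : Lˣ) (hf : f ^ (3 * P) = 1) :
    ∃ g : Lˣ, g ^ 3 = f := by
  obtain ⟨g, hg⟩ : ∃ g : Lˣ, ∀ x, x ∈ Subgroup.zpowers g := IsCyclic.exists_generator
  have hE : orderOf g = q ^ 108 - 1 := by
    rw [orderOf_eq_card_of_forall_mem_zpowers hg, Nat.card_units, Nat.card_eq_fintype_card, hL]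
  obtain ⟨k, rfl⟩ := Subgroup.mem_zpowers_iff.1 (hg f)
  rw [← zpow_natCast, ← _root_.zpow_mul, ← orderOf_dvd_iff_zpow_eq_one, hE] at hf
  by_cases h3 : 3 ∣ q ^ 108 - 1
  · have h81 : 9 * P ∣ q ^ 108 - 1 := by
      have hq3 : ¬ 3 ∣ q := fun h => by
        have h1 : 3 ∣ q ^ 108 := dvd_pow h (by norm_num)
        have h2 : 3 ∣ q ^ 108 - (q ^ 108 - 1) := Nat.dvd_sub h1 h3
        rw [Nat.sub_sub_self (Nat.one_le_pow _ _ (by omega))] at h2
        omega
      have h81' : 81 ∣ q ^ 108 - 1 := by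
        have h1 := Nat.ModEq.pow_totient (Nat.Coprime.pow_right 4
          ((Nat.Prime.coprime_iff_not_dvd Nat.prime_three).2 hq3).symm)
        rw [show (3 ^ 4 : ℕ).totient = 54 by rw [Nat.totient_prime_pow Nat.prime_three (by norm_num)]; rfl] at h1
        exact ((Nat.modEq_iff_dvd' (Nat.one_le_pow _ _ (by omega))).1 h1.symm).trans
          (Nat.pow_sub_one_dvd_pow_sub_one q (by norm_num : 54 ∣ 108))
      by_cases hP3 : 3 ∣ P
      · obtain ⟨P', hP'⟩ := hP3
        have hP'3 : ¬ 3 ∣ P' := by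
          rintro ⟨c, rfl⟩
          exact hP9 ⟨c, by omega⟩
        rw [hP', show 9 * (3 * P') = 27 * P' by ring]
        exact (Nat.Coprime.pow_left 3 ((Nat.Prime.coprime_iff_not_dvd Nat.prime_three).2 hP'3)).mul_dvd_of_dvd_of_dvd
          ((show 27 ∣ 81 by norm_num).trans h81') (((hP' ▸ dvd_mul_left P' 3)).trans hP)
      · exact (Nat.Coprime.pow_left 2 ((Nat.Prime.coprime_iff_not_dvd Nat.prime_three).2 hP3)).mul_dvd_of_dvd_of_dvd
          ((show 9 ∣ 81 by norm_num).trans h81') hP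
    have h1 : ((9 * P : ℕ) : ℤ) ∣ k * ((3 * P : ℕ) : ℤ) := (Int.natCast_dvd_natCast.2 h81).trans hf
    push_cast at h1
    obtain ⟨c, hc⟩ : (3 : ℤ) ∣ k := by
      refine Int.dvd_of_mul_dvd_mul_left (show (3 * (P : ℤ)) ≠ 0 by positivity) ?_
      convert h1 using 1 <;> ring
    exact ⟨g ^ c, by rw [hc, ← zpow_natCast, ← _root_.zpow_mul]; congr 1; ring⟩
  · obtain ⟨m, hm⟩ := exists_pow_eq_self_of_coprime (n := 3) (x := g)
      (by rw [hE]; exact (Nat.Prime.coprime_iff_not_dvd Nat.prime_three).2 h3)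
    refine ⟨(g ^ m) ^ k, ?_⟩
    rw [← zpow_natCast, ← _root_.zpow_mul, mul_comm, _root_.zpow_mul, zpow_natCast, ← pow_mul, mul_comm m,
      pow_mul, hm]


/-- The group E₆(q) (the simple Chevalley group of type E₆) contains a cyclic subgroup of order (q⁴ − q² + 1)(q² + q + 1)/gcd(3, q − 1) which is its own centralizer. -/
theorem result {F : Type*} [Field F] [Fintype F] (q : ℕ) (hF : Fintype.card F = q) :
    ∃ H : Subgroup ↥(Cfsg.Lie.chevE6.group F), IsCyclic ↥H ∧ Nat.card ↥H = (q ^ 4 - q ^ 2 + 1) * (q ^ 2 + q + 1) / Nat.gcd 3 (q - 1) ∧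
      Subgroup.centralizer (H : Set ↥(Cfsg.Lie.chevE6.group F)) = H := by
  have hO : Data.E6.tbl.StOk :=
    ⟨Data.E6.valid, Data.E6.chkComm, Data.E6.chkSorted, Data.E6.chkSplit⟩
  have hq2 : 1 < q := hF ▸ Fintype.one_lt_card
  have hWc : Nat.card (Data.E6.tbl.WP Data.E6.valid) = 2 ^ 7 * 3 ^ 4 * 5 :=
    Int.natCast_inj.mp ((Tbl.card_WP Data.E6.valid Data.E6.steps_length Data.E6.chkSteps).trans (by decide +kernel))
  -- the arithmetic
  set A := q ^ 4 - q ^ 2 + 1 with hA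
  set P := A * (q ^ 2 + q + 1) with hPdef
  have hle : q ^ 2 ≤ q ^ 4 := Nat.pow_le_pow_right (by omega) (by norm_num)
  have hlt : q ^ 2 < q ^ 4 := Nat.pow_lt_pow_right hq2 (by norm_num)
  have hAc : ∀ n : ℕ, (A : ZMod n) = (q : ZMod n) ^ 4 - (q : ZMod n) ^ 2 + 1 := fun n => by
    rw [hA, Nat.cast_add, Nat.cast_sub hle]; push_cast; rfl
  have hPc : ∀ n : ℕ, (P : ZMod n) =
      ((q : ZMod n) ^ 4 - (q : ZMod n) ^ 2 + 1) * ((q : ZMod n) ^ 2 + (q : ZMod n) + 1) := fun n => by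
    rw [hPdef, Nat.cast_mul, hAc]; push_cast; rfl
  have h12 : (cyclotomic 12 ℤ).eval (q : ℤ) = (A : ℤ) := by
    rw [CoverTorus.cyclotomic_twelve, hA, Nat.cast_add, Nat.cast_sub hle]
    simp
  have hdvd : ∀ L : List ℕ, L.Nodup → (∀ k ∈ L, k ∈ (12 : ℕ).divisors) →
      (L.map fun k => (cyclotomic k ℤ).eval (q : ℤ)).prod ∣ (q : ℤ) ^ 12 - 1 := by
    intro L hL h
    have e := congrArg (Polynomial.eval (q : ℤ)) (prod_cyclotomic_eq_X_pow_sub_one (by norm_num : 0 < 12) ℤ)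
    rw [eval_prod] at e
    simp only [eval_sub, eval_pow, eval_X, eval_one] at e
    rw [← e, ← List.prod_toFinset _ hL]
    exact Finset.prod_dvd_prod_of_subset _ _ _ fun k hk => h k (List.mem_toFinset.1 hk)
  have hdvdN : ∀ x : ℕ, (x : ℤ) ∣ (q : ℤ) ^ 12 - 1 → x ∣ q ^ 12 - 1 := fun x h => by
    rw [← Int.natCast_dvd_natCast, Nat.cast_sub (Nat.one_le_pow _ _ (by omega))]
    simpa using h
  have hA12 : A ∣ q ^ 12 - 1 := hdvdN _ (by
    have := hdvd [12] (List.nodup_singleton _) (by decide)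
    simpa [h12] using this)
  have hP12 : P ∣ q ^ 12 - 1 := hdvdN _ (by
    have := hdvd [12, 3] (by decide) (by decide)
    simpa [h12, eval_three, hPdef] using this)
  have hdn : q ^ 12 - 1 ∣ q ^ 108 - 1 := Nat.pow_sub_one_dvd_pow_sub_one q (by norm_num)
  -- the prime
  obtain ⟨r, hr, hrA⟩ := Nat.exists_prime_and_dvd (show A ≠ 1 by omega)
  have : Fact r.Prime := ⟨hr⟩
  have hrA' := (hAc r).symm.trans ((ZMod.natCast_eq_zero_iff _ _).2 hrA)
  have hr2 : r ≠ 2 := by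
    rintro rfl
    exact arith_two _ hrA'
  have hr3 : r ≠ 3 := by
    rintro rfl
    exact arith_three _ hrA'
  have hr12 : ¬ r ∣ 12 := by
    intro h
    rw [show (12 : ℕ) = 2 ^ 2 * 3 from rfl] at h
    rcases hr.dvd_mul.1 h with h | h
    · exact hr2 ((Nat.prime_dvd_prime_iff_eq hr Nat.prime_two).1 (hr.dvd_of_dvd_pow h))
    · exact hr3 ((Nat.prime_dvd_prime_iff_eq hr Nat.prime_three).1 h)
  have : NeZero ((12 : ℕ) : ZMod r) := ⟨fun h => hr12 ((ZMod.natCast_eq_zero_iff 12 r).1 h)⟩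
  have hroot : IsPrimitiveRoot (q : ZMod r) 12 := by
    refine isRoot_cyclotomic_iff.1 ?_
    rw [← map_cyclotomic 12 (Int.castRingHom (ZMod r)), CoverTorus.cyclotomic_twelve]
    simpa [IsRoot] using hrA'
  have hq0 : (q : ZMod r) ≠ 0 := hroot.ne_zero (by norm_num)
  have hr13 : 12 ∣ r - 1 := hroot.eq_orderOf ▸ ZMod.orderOf_dvd_card_sub_one hq0
  have hq6 : (q : ZMod r) ^ 6 = -1 := by linear_combination ((q : ZMod r) ^ 2 + 1) * hrA'
  have hrW : r.Coprime (Nat.card (Data.E6.tbl.WP Data.E6.valid)) := by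
    rw [hWc]
    refine hr.coprime_iff_not_dvd.2 fun h => ?_
    rcases hr.dvd_mul.1 h with h | h
    · rcases hr.dvd_mul.1 h with h | h
      · exact hr2 ((Nat.prime_dvd_prime_iff_eq hr Nat.prime_two).1 (hr.dvd_of_dvd_pow h))
      · exact hr3 ((Nat.prime_dvd_prime_iff_eq hr Nat.prime_three).1 (hr.dvd_of_dvd_pow h))
    · have := Nat.le_of_dvd (by norm_num) h
      have := hr.two_le
      have := Nat.le_of_dvd (by omega) hr13
      omega
  have hrG : r ∣ Nat.card ↥(Data.E6.tbl.datum.group F) := by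
    have h1 := Cfsg.Agent.S1063.result hF
    rw [← Data.E6.datum_eq] at h1
    refine (Nat.Coprime.dvd_of_dvd_mul_left ?_ (h1 ▸ dvd_mul_of_dvd_right (hrA.trans hA12) _))
    exact Nat.Coprime.coprime_dvd_right (Nat.gcd_dvd_left 3 (q - 1))
      ((Nat.coprime_primes hr Nat.prime_three).2 hr3)
  -- the torus
  obtain ⟨H, hH, hcard, hHc⟩ := CoverTorus.exists_torus (T := Data.E6.tbl) hO
    (fun L _ _ => sTorus_injective (F := L) hO Data.E7.valid Data.E7.chkComm embE6 leftE6)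
    (z := 3) (fun L _ _ k hk => Tbl.pow_eq_one_of_torusHom Data.E6.valid Data.E6.chkSmith (by decide) hk)
    (n := 108) (P := P) hF hr ((hrA.trans hA12).trans hdn) hrW hrG
    (pol := cyclotomic 12 ℤ * cyclotomic 3 ℤ)
    (fun A' _ ζ hζ a w hw hnz hrel => by
      have hc := CoverTorus.eigen_dvd Data.E6.valid hζ hrW a hw hroot hr12 hnz hrel
      exact ⟨(CoverTorus.E6.shape hw hc).1, CoverTorus.E6.regular hζ hrW hr2 a hw hc hq6 hnz hrel⟩)
    (fun N hN _ => by
      refine CoverTorus.sol_cyclic_list N (L := [12, 3]) (by decide) (by rw [hN]; simp) ?_ ?_ ?_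
        (hP12.trans hdn) fun p hp hp2 => ?_
      · rw [hN, eval_mul, h12, eval_three, hPdef]
        push_cast
        rfl
      · positivity
      · have := Nat.one_lt_pow (by norm_num : (108 : ℕ) ≠ 0) hq2
        omega
      have hd : ∀ f : ℕ, f ∣ P → ((q : ZMod f) ^ 4 - (q : ZMod f) ^ 2 + 1) *
          ((q : ZMod f) ^ 2 + (q : ZMod f) + 1) = 0 := fun f h =>
        (hPc f).symm.trans ((ZMod.natCast_eq_zero_iff _ _).2 h)
      have hp2' : p ≠ 2 := by
        rintro rfl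
        exact arith_four _ (hd _ hp2)
      have hp3' : p ≠ 3 := by
        rintro rfl
        exact arith_nine _ (hd _ hp2)
      refine ⟨fun hpq => ?_, fun k hk => ?_⟩
      · have h1 := hd p ((dvd_pow_self p two_ne_zero).trans hp2)
        rw [(ZMod.natCast_eq_zero_iff q p).2 hpq] at h1
        have : Fact p.Prime := ⟨hp⟩
        simp at h1
      · simp only [List.mem_cons, List.not_mem_nil, or_false] at hk
        rcases hk with rfl | rfl
        · intro h
          rw [show (12 : ℕ) = 2 ^ 2 * 3 from rfl] at h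
          rcases hp.dvd_mul.1 h with h | h
          · exact hp2' ((Nat.prime_dvd_prime_iff_eq hp Nat.prime_two).1 (hp.dvd_of_dvd_pow h))
          · exact hp3' ((Nat.prime_dvd_prime_iff_eq hp Nat.prime_three).1 h)
        · exact fun h => hp3' ((Nat.prime_dvd_prime_iff_eq hp Nat.prime_three).1 h))
    (fun L _ _ hL f hf => cube_root hq2 hL (by positivity) (hP12.trans hdn)
      (fun h => arith_nine _ ((hPc 9).symm.trans ((ZMod.natCast_eq_zero_iff _ _).2 h))) f hf)
  · have hg : Nat.card (Tbl.torusHom Data.E6.tbl F).ker = Nat.gcd 3 (q - 1) := by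
      have h1 := Tbl.card_diag Data.E6.valid hF Data.E6.chkSmith
      have h2 := Subgroup.card_mul_index (Tbl.torusHom Data.E6.tbl F).ker
      rw [Subgroup.index_ker, Tbl.torusHom_range Data.E6.valid, Nat.card_fun, Nat.card_units, Nat.card_fin,
        Nat.card_eq_fintype_card (α := F), hF, ← h1] at h2
      rw [Nat.eq_of_mul_eq_mul_right Nat.card_pos h2, Nat.gcd_comm 3 (q - 1)]
      show (∏ i : Fin 6, _) = _
      simp [Fin.prod_univ_succ]
    rw [← Data.E6.datum_eq]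
    refine ⟨H, hH, ?_, hHc⟩
    rw [← hg]
    exact (Nat.div_eq_of_eq_mul_left Nat.card_pos hcard.symm).symm

end Cfsg.Agent.S2373
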