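import Cfsg.Statements.S2374
import Cfsg.Agent.Lib.Chevalley.E7Torus.Main
import Cfsg.Agent.Lib.Chevalley.Data.SmithCerts
import Cfsg.Agent.Lib.Chevalley.Data.Steps
import Cfsg.Agent.Lib.Chevalley.Twist.Torus2
import Cfsg.Agent.S1063

set_option autoImplicit false
open Cfsg CfsgLib.Chevalley CfsgLib.Chevalley.CoxeterTorus CfsgLib.Chevalley.E7Torus Polynomial
open CfsgLib.KnownB.FieldAut (mapGL map_xU map_group)

namespace Cfsg.Agent.S2374

theorem arith_two : ∀ x : ZMod 2, x ^ 4 - x ^ 2 + 1 ≠ 0 := by decide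

theorem arith_three : ∀ x : ZMod 3, x ^ 4 - x ^ 2 + 1 ≠ 0 := by decide

/-- Squares. -/
theorem square_root {L : Type} [Field L] [Fintype L] {q M P : ℕ} (hq : 1 < q) (hM : M = q ^ 12 - 1) (hP : P ∣ M)
    (hL : Fintype.card L = q ^ (12 * M)) (hMM : M * M ∣ q ^ (12 * M) - 1) (f : Lˣ) (hf : f ^ (2 * P) = 1) :
    ∃ g : Lˣ, g ^ 2 = f := by
  have hE : Nat.card Lˣ = q ^ (12 * M) - 1 := by rw [Nat.card_units, Nat.card_eq_fintype_card, hL]
  rcases Nat.even_or_odd q with hev | hodd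
  · have h2 : ¬ 2 ∣ Nat.card Lˣ := by
      rw [hE]
      have h1 : 2 ∣ q ^ (12 * M) := dvd_pow hev.two_dvd (by
        have := Nat.one_lt_pow (by norm_num : (12 : ℕ) ≠ 0) hq
        omega)
      have := Nat.one_le_pow (12 * M) q (by omega)
      omega
    obtain ⟨m, hm⟩ := exists_pow_eq_self_of_coprime (n := 2) (x := f) ((Nat.prime_two.coprime_iff_not_dvd).2
      fun h => h2 (h.trans (orderOf_dvd_natCard f)))
    exact ⟨f ^ m, by rw [← pow_mul, mul_comm, pow_mul, hm]⟩
  · have h4 : 4 ∣ M := by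
      obtain ⟨k, rfl⟩ := hodd
      rw [hM, show (2 * k + 1) ^ 12 = ((2 * k + 1) ^ 2) ^ 6 by rw [← pow_mul]]
      refine (dvd_trans ?_ (by simpa using Nat.sub_dvd_pow_sub_pow ((2 * k + 1) ^ 2) 1 6))
      exact ⟨k * k + k, by ring_nf; omega⟩
    have h4P : 4 * P ∣ Nat.card Lˣ := hE ▸ (Nat.mul_dvd_mul h4 hP).trans hMM
    refine exists_pow_of_pow_eq_one ((dvd_mul_of_dvd_left (by norm_num : 2 ∣ 4) P).trans h4P) ?_
    obtain ⟨c, hc⟩ := h4P
    rw [hc, show 4 * P * c = 2 * (2 * P * c) by ring, Nat.mul_div_cancel_left _ (by norm_num), pow_mul, hf, one_pow]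

/-- The group E₇(q) (the simple Chevalley group of type E₇) contains a cyclic subgroup of order (q⁴ − q² + 1)(q³ + 1)/gcd(2, q − 1) which is its own centralizer. -/
theorem result {F : Type*} [Field F] [Fintype F] (q : ℕ) (hF : Fintype.card F = q) :
    ∃ H : Subgroup ↥(Cfsg.Lie.chevE7.group F), IsCyclic ↥H ∧ Nat.card ↥H = (q ^ 4 - q ^ 2 + 1) * (q ^ 3 + 1) / Nat.gcd 2 (q - 1) ∧
      Subgroup.centralizer (H : Set ↥(Cfsg.Lie.chevE7.group F)) = H := by
  classical
  have hq2 : 1 < q := hF ▸ Fintype.one_lt_card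
  -- arithmetic
  set A := q ^ 4 - q ^ 2 + 1 with hA
  set M := q ^ 12 - 1 with hM
  set P := A * (q ^ 3 + 1) with hPdef
  have hle : q ^ 2 ≤ q ^ 4 := Nat.pow_le_pow_right (by omega) (by norm_num)
  have hlt : q ^ 2 < q ^ 4 := Nat.pow_lt_pow_right hq2 (by norm_num)
  have h6le : 1 ≤ q ^ 6 := Nat.one_le_pow _ _ (by omega)
  have h12le : 1 ≤ q ^ 12 := Nat.one_le_pow _ _ (by omega)
  have hAc : ∀ n : ℕ, (A : ZMod n) = (q : ZMod n) ^ 4 - (q : ZMod n) ^ 2 + 1 := fun n => by
    rw [hA, Nat.cast_add, Nat.cast_sub hle]; push_cast; rfl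
  have hA6 : A ∣ q ^ 6 + 1 := ⟨q ^ 2 + 1, by
    rw [hA, ← Int.natCast_inj]; push_cast [Nat.cast_sub hle]; ring⟩
  have hsplit : M = (q ^ 6 - 1) * (q ^ 6 + 1) := by
    rw [hM, mul_comm, ← Nat.sq_sub_sq, one_pow, ← pow_mul]
  have h36 : q ^ 3 + 1 ∣ q ^ 6 - 1 := ⟨q ^ 3 - 1, by
    rw [← Nat.sq_sub_sq, one_pow, ← pow_mul]⟩
  have hPM : P ∣ M := by
    rw [hsplit, hPdef, mul_comm (q ^ 6 - 1)]
    exact Nat.mul_dvd_mul hA6 h36
  have hA2 : ¬ 2 ∣ A := fun h => arith_two _ ((hAc 2).symm.trans ((ZMod.natCast_eq_zero_iff _ _).2 h))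
  have hA3 : ¬ 3 ∣ A := fun h => arith_three _ ((hAc 3).symm.trans ((ZMod.natCast_eq_zero_iff _ _).2 h))
  have hP0 : P ≠ 0 := by positivity
  -- the prime
  obtain ⟨r, hr, hrA⟩ := Nat.exists_prime_and_dvd (show A ≠ 1 by omega)
  have : Fact r.Prime := ⟨hr⟩
  have hr2 : r ≠ 2 := fun e => hA2 (e ▸ hrA)
  have hr3 : r ≠ 3 := fun e => hA3 (e ▸ hrA)
  have hr12 : ¬ r ∣ 12 := by
    intro h
    rw [show (12 : ℕ) = 2 ^ 2 * 3 from rfl] at h
    rcases hr.dvd_mul.1 h with h | h
    · exact hr2 ((Nat.prime_dvd_prime_iff_eq hr Nat.prime_two).1 (hr.dvd_of_dvd_pow h))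
    · exact hr3 ((Nat.prime_dvd_prime_iff_eq hr Nat.prime_three).1 h)
  have hcube : ∀ p : ℕ, p.Prime → p ∣ A → ¬ p ∣ q ^ 3 + 1 := by
    intro p hp hpA hp3
    have h2 : p ∣ 2 := by
      have e := dvd_mul_of_dvd_left hp3 (q ^ 3 - 1)
      rw [← Nat.sq_sub_sq, one_pow, ← pow_mul] at e
      have := Nat.dvd_sub (hpA.trans hA6) e
      rwa [show q ^ 6 + 1 - (q ^ (3 * 2) - 1) = 2 by
        rw [show (3 * 2 : ℕ) = 6 from rfl]; omega] at this
    exact hA2 ((Nat.prime_dvd_prime_iff_eq hp Nat.prime_two).1 h2 ▸ hpA)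
  have hrq : ¬ r ∣ q ^ 3 + 1 := hcube r hr hrA
  have hrA0 : (q : ZMod r) ^ 4 - (q : ZMod r) ^ 2 + 1 = 0 := (hAc r).symm.trans ((ZMod.natCast_eq_zero_iff _ _).2 hrA)
  have hr7 : 7 < r := by
    have : NeZero ((12 : ℕ) : ZMod r) := ⟨fun h => hr12 ((ZMod.natCast_eq_zero_iff 12 r).1 h)⟩
    have hroot : IsPrimitiveRoot (q : ZMod r) 12 := by
      refine isRoot_cyclotomic_iff.1 ?_
      rw [← map_cyclotomic 12 (Int.castRingHom (ZMod r)), CoverTorus.cyclotomic_twelve]
      simpa [IsRoot] using hrA0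
    have h1 : 12 ∣ r - 1 := hroot.eq_orderOf ▸ ZMod.orderOf_dvd_card_sub_one (hroot.ne_zero (by norm_num))
    have := hr.two_le
    have := Nat.le_of_dvd (by omega) h1
    omega
  have hcop : ∀ s : ℕ, s.Prime → s ≤ 7 → ∀ i : ℕ, r.Coprime (s ^ i) := fun s hs h7 i =>
    Nat.Coprime.pow_right i ((Nat.coprime_primes hr hs).2 (by omega))
  have hW6 : r.Coprime (Nat.card (T6.WP hV6)) := by
    rw [show Nat.card (T6.WP hV6) = 2 ^ 7 * 3 ^ 4 * 5 ^ 1 from Int.natCast_inj.mp
      ((Tbl.card_WP Data.E6.valid Data.E6.steps_length Data.E6.chkSteps).trans (by decide +kernel))]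
    exact ((hcop 2 Nat.prime_two (by norm_num) 7).mul_right (hcop 3 Nat.prime_three (by norm_num) 4)).mul_right
      (hcop 5 Nat.prime_five (by norm_num) 1)
  have hW7 : r.Coprime (Nat.card (T7.WP hV)) := by
    rw [show Nat.card (T7.WP hV) = 2 ^ 10 * 3 ^ 4 * 5 ^ 1 * 7 ^ 1 from Int.natCast_inj.mp
      ((Tbl.card_WP Data.E7.valid Data.E7.steps_length Data.E7.chkSteps).trans (by decide +kernel))]
    exact (((hcop 2 Nat.prime_two (by norm_num) 10).mul_right (hcop 3 Nat.prime_three (by norm_num) 4)).mul_right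
      (hcop 5 Nat.prime_five (by norm_num) 1)).mul_right (hcop 7 (by norm_num) le_rfl 1)
  have hrG : r ∣ Nat.card ↥(T6.datum.group F) := by
    have h1 := Cfsg.Agent.S1063.result hF
    rw [← Data.E6.datum_eq] at h1
    refine (Nat.Coprime.dvd_of_dvd_mul_left ?_ (h1 ▸ dvd_mul_of_dvd_right (hrA.trans ((dvd_mul_right A _).trans hPM)) _))
    exact Nat.Coprime.coprime_dvd_right (Nat.gcd_dvd_left 3 (q - 1))
      ((Nat.coprime_primes hr Nat.prime_three).2 hr3)
  -- the fields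
  obtain ⟨p, hchar⟩ := CharP.exists F
  obtain ⟨d, hp, hd⟩ := FiniteField.card F p
  have : Fact p.Prime := ⟨hp⟩
  let K0 := FiniteField.Extension F p 12
  letI : Fintype K0 := Fintype.ofFinite K0
  let ι0 : F →+* K0 := algebraMap F K0
  have : CharP K0 p := charP_of_injective_algebraMap ι0.injective p
  have hK0 : Fintype.card K0 = q ^ 12 := by
    rw [← Nat.card_eq_fintype_card, FiniteField.natCard_extension, Nat.card_eq_fintype_card, hF]
  have hM0 : M ≠ 0 := by
    have := Nat.one_lt_pow (by norm_num : (12 : ℕ) ≠ 0) hq2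
    omega
  haveI : NeZero M := ⟨hM0⟩
  let K := FiniteField.Extension K0 p M
  letI : Fintype K := Fintype.ofFinite K
  let j : K0 →+* K := algebraMap K0 K
  have : CharP K p := charP_of_injective_algebraMap j.injective p
  have hK : Fintype.card K = q ^ (12 * M) := by
    rw [← Nat.card_eq_fintype_card, FiniteField.natCard_extension, Nat.card_eq_fintype_card, hK0, ← pow_mul]
  have hE : Nat.card Kˣ = q ^ (12 * M) - 1 := by rw [Nat.card_units, Nat.card_eq_fintype_card, hK]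
  have hMM : M * M ∣ q ^ (12 * M) - 1 := by
    rw [pow_mul, hM]; exact sq_dvd_pow_sub_one _ h12le
  have hME : M ∣ q ^ (12 * M) - 1 := (dvd_mul_right M M).trans hMM
  let σ0 : K0 →+* K0 := iterateFrobenius K0 p d
  let σ : K →+* K := iterateFrobenius K p d
  have hσ0 : ∀ x : K0, σ0 x = x ^ q := fun x => by rw [iterateFrobenius_def, ← hd, hF]
  have hσ : ∀ x : K, σ x = x ^ q := fun x => by rw [iterateFrobenius_def, ← hd, hF]
  let ι : F →+* K := j.comp ι0
  have hσι0 : σ0.comp ι0 = ι0 := RingHom.ext fun c => by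
    rw [RingHom.comp_apply, hσ0, ← map_pow, ← hF, FiniteField.pow_card]
  have hfix : ∀ x : K, σ x = x ↔ x ∈ Set.range ι := by
    intro x
    rw [hσ]
    refine ⟨fun hx => ?_, ?_⟩
    · by_contra hxr
      let Q : Polynomial K := Polynomial.X ^ q - Polynomial.X
      have hQ : Q ≠ 0 := FiniteField.X_pow_card_sub_X_ne_zero K hq2
      have hsub : insert x (Finset.univ.image ι) ⊆ Q.roots.toFinset := by
        intro y hy
        rw [Multiset.mem_toFinset, Polynomial.mem_roots hQ]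
        rw [Finset.mem_insert, Finset.mem_image] at hy
        simp only [Q, Polynomial.IsRoot, Polynomial.eval_sub, Polynomial.eval_pow, Polynomial.eval_X,
          sub_eq_zero]
        rcases hy with rfl | ⟨c, -, rfl⟩
        · exact hx
        · rw [← map_pow, ← hF, FiniteField.pow_card]
      have h1 := (Finset.card_le_card hsub).trans (Multiset.toFinset_card_le _)
      have h2 := Polynomial.card_roots' Q
      rw [Finset.card_insert_of_notMem (by simpa using fun c => fun h => hxr ⟨c, h⟩),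
        Finset.card_image_of_injective _ ι.injective, Finset.card_univ, hF] at h1
      rw [show Q.natDegree = q from FiniteField.X_pow_card_sub_X_natDegree_eq K hq2] at h2
      omega
    · rintro ⟨c, rfl⟩
      rw [← map_pow, ← hF, FiniteField.pow_card]
  -- the twisted element
  obtain ⟨l, hl6, hlc, x6, hx6, c6, hxy6⟩ := exists_six (F := F) hq2 hr hrA hr12
    (hK0 ▸ hrA.trans ((dvd_mul_right A _).trans hPM)) hW6 hrG ι0 σ0 hσ0 hσι0
  obtain ⟨x1, hx1, m0, hm0N, hm0, hxy0⟩ := exists_seven σ0 hx6 hxy6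
  set w0 := T7.pw hV (l.map up) with hw0
  have htw : Twelve w0 := twelve_lift hl6 hlc
  have hjσ : ∀ g : GL T7.I K0, mapGL T7 σ (mapGL T7 j g) = mapGL T7 j (mapGL T7 σ0 g) := fun g =>
    Units.ext (Matrix.ext fun a b => by
      show σ (j _) = j (σ0 _)
      rw [hσ, hσ0, map_pow])
  set m := mapGL T7 j m0 with hm
  have hx : mapGL T7 j x1 ∈ T7.datum.group K := map_group j hV ⟨x1, hx1, rfl⟩
  have hmN : m ∈ T7.datum.monomialSubgroup K ∧ T7.Mono m w0⁻¹ := by
    obtain ⟨lw, hlw⟩ := Tbl.exists_pw hV (inv_mem htw.mem)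
    have hd0 : (T7.nw K0 lw)⁻¹ * m0 ∈ T7.datum.diagonalSubgroup K0 := by
      refine Tbl.mem_diag_of_mono_one hV (mul_mem (inv_mem (Tbl.nw_mem hV lw)) hm0N) ?_
      have h1 := (Tbl.mono_nw (F := K0) hV lw).inv.mul hm0
      rwa [hlw, inv_mul_cancel] at h1
    rw [← Tbl.torusHom_range hV] at hd0
    obtain ⟨c, hc⟩ := hd0
    have e : m = T7.nw K lw * Tbl.torusHom T7 K fun i => Units.map (j : K0 →* K) (c i) := by
      rw [hm, ← CfsgLib.KnownB.FieldAut.map_torus j, hc, map_mul, map_inv, CfsgLib.KnownB.FieldAut.map_nw j hV,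
        mul_inv_cancel_left]
    have hd : Tbl.torusHom T7 K (fun i => Units.map (j : K0 →* K) (c i)) ∈ T7.datum.diagonalSubgroup K := by
      rw [← Tbl.torusHom_range hV]; exact ⟨_, rfl⟩
    refine ⟨e ▸ mul_mem (Tbl.nw_mem hV lw) (Tbl.diag_le_N hV hd), ?_⟩
    have h1 := (Tbl.mono_nw (F := K) hV lw).mul (Tbl.mono_diag hV hd)
    rwa [← e, hlw, mul_one] at h1
  obtain ⟨hb1, hb2, n01, n02, -, hcyc, -⟩ := htw.cycle
  have hjM : ∀ u : K0ˣ, Units.map (j : K0 →* K) u ^ M = 1 := fun u => by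
    have e : u ^ (q ^ 12 - 1) = 1 := by
      rw [← hK0, ← Nat.card_eq_fintype_card, ← Nat.card_units, pow_card_eq_one']
    rw [← map_pow, show u ^ M = 1 from (congrArg (u ^ ·) hM).trans e, map_one]
  obtain ⟨L, hL, hLm⟩ := exists_reflect (σ := σ) hσ hq2 hcyc hb1 hb2 n01 n02 hmN.2 (fun u => u ^ M = 1)
    (by
      have h := hjM (-1)
      rwa [show Units.map (j : K0 →* K) (-1) = -1 from Units.ext (by simp)] at h)
    (fun a b ha hb => by rw [mul_pow, ha, hb, one_mul]) (fun a ha => by rw [inv_pow, ha, inv_one])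
    (fun s c hc => by
      obtain ⟨c0, hc0⟩ := hm0.conj s
      have h1 := congrArg (mapGL T7 j) (hc0 1).1
      rw [mul_one, map_mul, map_mul, map_xU j hV s.2, map_xU j hV (Fin.isLt _), map_one, ← hm, hc] at h1
      have e : c = Units.map (j : K0 →* K) c0 :=
        Units.ext (Tbl.xU_inj hV (Fin.isLt _) (mul_right_cancel h1))
      rw [e, hjM])
    (fun u hu => by
      have hk : (q ^ 6 - 1) * M ∣ Nat.card Kˣ := hE ▸ (Nat.mul_dvd_mul_right (hsplit ▸ dvd_mul_right _ _) M).trans hMM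
      obtain ⟨a, ha⟩ := exists_pow_of_pow_eq_one (u := u) ((dvd_mul_right _ _).trans hk) (by
        obtain ⟨c, hc⟩ := hk
        rw [hc, mul_assoc, Nat.mul_div_cancel_left _ (by
          have := Nat.one_lt_pow (by norm_num : (6 : ℕ) ≠ 0) hq2
          omega), pow_mul, hu, one_pow])
      exact ⟨a, by rw [show q ^ 6 = q ^ 6 - 1 + 1 by omega, pow_succ, ha]⟩)
    (by
      obtain ⟨g, hg⟩ : ∃ g : Kˣ, ∀ x, x ∈ Subgroup.zpowers g := IsCyclic.exists_generator
      have hgo : orderOf g = Nat.card Kˣ := orderOf_eq_card_of_forall_mem_zpowers hg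
      have h6 : q ^ 6 - 1 ∣ Nat.card Kˣ := hE ▸ (hsplit ▸ dvd_mul_right _ _ : q ^ 6 - 1 ∣ M).trans hME
      obtain ⟨e, ho⟩ : ∃ e : Kˣ, orderOf e = q ^ 6 - 1 :=
        ⟨_, orderOf_pow_orderOf_div (hgo ▸ Nat.card_pos.ne') (hgo ▸ h6)⟩
      refine ⟨e, ?_, fun h => ?_⟩
      · calc e ^ q ^ 6 = e ^ (q ^ 6 - 1) * e := by rw [← pow_succ, Nat.sub_add_cancel h6le]
          _ = e := by rw [← ho, pow_orderOf_eq_one, one_mul]
      · have h3 : 1 < q ^ 3 := Nat.one_lt_pow (by norm_num) hq2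
        rw [show q ^ 3 = q ^ 3 - 1 + 1 by omega, pow_succ, mul_eq_right, ← orderOf_dvd_iff_pow_eq_one, ho] at h
        have h4 := Nat.le_of_dvd (by omega) h
        have := Nat.pow_lt_pow_right hq2 (show 3 < 6 by norm_num)
        omega)
  have hxG : L * mapGL T7 j x1 ∈ T7.datum.group K := by
    refine mul_mem ?_ hx
    exact (Tbl.rootGen_le (P := fun _ => True) fun r hr _ t => Tbl.xU_mem_group hV hr t) hL
  set y := m * T7.nU K (T7.simple top.val) 1 with hy
  have hyN : y ∈ T7.datum.monomialSubgroup K := mul_mem hmN.1 (Tbl.nU_simple_mem_N hV top)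
  have hym : T7.Mono y (T7.refP hV top * w0)⁻¹ := by
    rw [_root_.mul_inv_rev, Tbl.refP_inv]
    exact hmN.2.mul (Tbl.mono_nU_simple hV top)
  have hxy : mapGL T7 σ (L * mapGL T7 j x1) * (L * mapGL T7 j x1)⁻¹ = y := by
    rw [← hLm, map_mul, hjσ, _root_.mul_inv_rev, hm, ← hxy0, map_mul, map_inv]
    group
  have hker : ∀ (L : Type) [Field L] [Fintype L] (k : Fin T7.rank → Lˣ), Tbl.torusHom T7 L k = 1 → k ^ 2 = 1 :=
    fun L _ _ k hk => Tbl.pow_eq_one_of_torusHom Data.E7.valid Data.E7.chkSmith (by decide) hk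
  obtain ⟨H, hH, hcard, hHc⟩ := E7Torus.exists_torus hO7 (F := F) (P := P) (r := r) (sTorus_injective7 K) hker hq2
    hr hr2 hW7 hrA hrq rfl hP0 ι σ hσ hfix htw hxG hyN hym hxy hE
    (fun N hN => by
      obtain ⟨N', hN', hc'⟩ := CoverTorus.exists_coweight hV htw.mem'
      have hNN : N = N' := by
        have e := congrArg (· * Dm) (hN.symm.trans hN')
        simp only [mul_assoc, cartan_Dm, Matrix.mul_smul, mul_one] at e
        exact smul_right_injective _ (show (2 : ℤ) ≠ 0 by norm_num) e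
      have hchar : N.charpoly = ([12, 6, 2].map fun k => cyclotomic k ℤ).prod := by
        rw [hNN, hc', htw.twist_charpoly]
        simp only [List.map_cons, List.map_nil, List.prod_cons, List.prod_nil, cyclotomic_six, cyclotomic_two]
        ring
      refine sol_cyclic_eigen N (P := P) ?_ hP0 (by
        have := hE ▸ (Nat.card_pos (α := Kˣ))
        omega) (hPM.trans hME) fun p hpf hp2 => ?_
      · rw [hNN, hc', htw.twist_charpoly, eval_mul, CoverTorus.cyclotomic_twelve, hPdef, hA]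
        push_cast [Nat.cast_sub hle]
        simp
      · by_cases hpA : p ∣ A
        · have hp' : p.Prime := hpf.out
          refine eigen_card_le N (by decide) hchar (fun h0 => ?_) fun k hk hkp => ?_
          · have := (hAc p).symm.trans ((ZMod.natCast_eq_zero_iff _ _).2 hpA)
            rw [h0] at this
            simp at this
          · have h12 : p ∣ 12 := hkp.trans (by
              simp only [List.mem_cons, List.not_mem_nil, or_false] at hk
              rcases hk with rfl | rfl | rfl <;> norm_num)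
            rw [show (12 : ℕ) = 2 ^ 2 * 3 from rfl] at h12
            rcases hp'.dvd_mul.1 h12 with h | h
            · exact hA2 ((Nat.prime_dvd_prime_iff_eq hp' Nat.prime_two).1 (hp'.dvd_of_dvd_pow h) ▸ hpA)
            · exact hA3 ((Nat.prime_dvd_prime_iff_eq hp' Nat.prime_three).1 h ▸ hpA)
        · exact htw.eigen_small hN fun h => hpA ((ZMod.natCast_eq_zero_iff _ _).1 ((hAc p).trans h)))
    (hrA.trans ((dvd_mul_right A _).trans (hPM.trans hME)))
    ((dvd_mul_left (q ^ 3 + 1) A).trans (hPM.trans hME))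
    (square_root hq2 hM hPM hK hMM)
  rw [← Data.E7.datum_eq]
  refine ⟨H, hH, ?_, hHc⟩
  have hg : Nat.card (Tbl.torusHom T7 F).ker = Nat.gcd 2 (q - 1) := by
    have h1 := Tbl.card_diag Data.E7.valid hF Data.E7.chkSmith
    have h2 := Subgroup.card_mul_index (Tbl.torusHom T7 F).ker
    rw [Subgroup.index_ker, Tbl.torusHom_range Data.E7.valid, Nat.card_fun, Nat.card_units, Nat.card_fin,
      Nat.card_eq_fintype_card (α := F), hF, ← h1] at h2
    rw [Nat.eq_of_mul_eq_mul_right Nat.card_pos h2, Nat.gcd_comm 2 (q - 1)]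
    show (∏ i : Fin 7, _) = _
    simp [Fin.prod_univ_succ]
  rw [← hg]
  exact (Nat.div_eq_of_eq_mul_left Nat.card_pos hcard.symm).symm

end Cfsg.Agent.S2374
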