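import Cfsg.Statements.S2375
import Cfsg.Agent.S1065
import Cfsg.Agent.Lib.Chevalley.CoxeterTorus.Instances
-- import your own Cfsg.Agent.* helpers here

set_option autoImplicit false
open Cfsg CfsgLib.Chevalley CfsgLib.Chevalley.CoxeterTorus

namespace Cfsg.Agent.S2375

/-- The group E₈(q) contains a cyclic subgroup of order q⁸ + q⁷ − q⁵ − q⁴ − q³ + q + 1 which is its own centralizer. -/
theorem result {F : Type*} [Field F] [Fintype F] (q : ℕ) (hF : Fintype.card F = q) :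
    ∃ H : Subgroup ↥(Cfsg.Lie.chevE8.group F), IsCyclic ↥H ∧ Nat.card ↥H = q ^ 8 + q ^ 7 - q ^ 5 - q ^ 4 - q ^ 3 + q + 1 ∧
      Subgroup.centralizer (H : Set ↥(Cfsg.Lie.chevE8.group F)) = H := by
  have hq : 2 ≤ q := hF ▸ Fintype.one_lt_card
  set P := q ^ 8 + q ^ 7 - q ^ 5 - q ^ 4 - q ^ 3 + q + 1 with hPdef
  have h7 : q ^ 5 + q ^ 4 + q ^ 3 ≤ q ^ 7 := by
    have e7 : q ^ 7 = q * q * q ^ 5 := by ring
    have h45 : q ^ 4 ≤ q ^ 5 := Nat.pow_le_pow_right (by omega) (by norm_num)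
    have h35 : q ^ 3 ≤ q ^ 5 := Nat.pow_le_pow_right (by omega) (by norm_num)
    have h4 : 4 * q ^ 5 ≤ q * q * q ^ 5 := Nat.mul_le_mul_right _ (Nat.mul_le_mul hq hq)
    omega
  have hPz : ((P : ℕ) : ℤ) = (q : ℤ) ^ 8 + (q : ℤ) ^ 7 - (q : ℤ) ^ 5 - (q : ℤ) ^ 4 - (q : ℤ) ^ 3 + q + 1 := by
    have : P + (q ^ 5 + q ^ 4 + q ^ 3) = q ^ 8 + q ^ 7 + q + 1 := by omega
    have := congrArg (fun x : ℕ => (x : ℤ)) this
    push_cast at this
    linarith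
  have hP : (Polynomial.cyclotomic 30 ℤ).eval (q : ℤ) = ((P : ℕ) : ℤ) := by
    rw [eval_thirty (by exact_mod_cast hq), hPz]
  refine instanceTorus Data.E8.valid Data.E8.chkComm Data.E8.chkSmith (by decide) Data.E8.datum_eq hF
    (by norm_num) (by decide) hP ?_ (fun p hp h2 hpe => ?_) E8_card_WP (fun ℓ hℓ h => ?_) ?_
  · have h256 : 2 ^ 8 ≤ q ^ 8 := Nat.pow_le_pow_left hq 8
    omega
  · have hmod : ∀ n : ℕ, n ∣ P → (q : ZMod n) ^ 8 + (q : ZMod n) ^ 7 - (q : ZMod n) ^ 5 -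
        (q : ZMod n) ^ 4 - (q : ZMod n) ^ 3 + (q : ZMod n) + 1 = 0 := fun n hn => by
      have h := congrArg (fun x : ℤ => (x : ZMod n)) hPz
      push_cast at h
      rw [(ZMod.natCast_eq_zero_iff P n).2 hn] at h
      exact h.symm
    have h0 := hmod _ h2
    rw [show (30 : ℕ) = 2 * 3 * 5 from rfl] at hpe
    rcases hp.dvd_mul.1 hpe with hpe | hpe
    · rcases hp.dvd_mul.1 hpe with hpe | hpe
      · obtain rfl := (Nat.prime_dvd_prime_iff_eq hp Nat.prime_two).1 hpe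
        exact (show ∀ x : ZMod 4, x ^ 8 + x ^ 7 - x ^ 5 - x ^ 4 - x ^ 3 + x + 1 ≠ 0 by decide) _ h0
      · obtain rfl := (Nat.prime_dvd_prime_iff_eq hp Nat.prime_three).1 hpe
        exact (show ∀ x : ZMod 9, x ^ 8 + x ^ 7 - x ^ 5 - x ^ 4 - x ^ 3 + x + 1 ≠ 0 by decide) _ h0
    · obtain rfl := (Nat.prime_dvd_prime_iff_eq hp Nat.prime_five).1 hpe
      exact (show ∀ x : ZMod 25, x ^ 8 + x ^ 7 - x ^ 5 - x ^ 4 - x ^ 3 + x + 1 ≠ 0 by decide) _ h0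
  · rw [show (696729600 : ℕ) = 2 ^ 14 * 3 ^ 5 * 5 ^ 2 * 7 from rfl] at h
    rcases hℓ.dvd_mul.1 h with h | h
    · rcases hℓ.dvd_mul.1 h with h | h
      · rcases hℓ.dvd_mul.1 h with h | h
        · have := Nat.le_of_dvd (by norm_num) (hℓ.dvd_of_dvd_pow h); omega
        · have := Nat.le_of_dvd (by norm_num) (hℓ.dvd_of_dvd_pow h); omega
      · have := Nat.le_of_dvd (by norm_num) (hℓ.dvd_of_dvd_pow h); omega
    · have := Nat.le_of_dvd (by norm_num) h; omega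
  · rw [Cfsg.Agent.S1065.result hF]
    exact dvd_mul_left _ _

end Cfsg.Agent.S2375
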