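import Cfsg.Statements.S2378
import Cfsg.Agent.Lib.Chevalley.SylowTorus.Instances
-- import your own Cfsg.Agent.* helpers here

set_option autoImplicit false

set_option autoImplicit false
open Cfsg

namespace Cfsg.Agent.S2378

/-- Sylow subgroups for primes away from the characteristic and the Weyl group. Let `G` be the Chevalley group of type G₂, B₂, D₄, F₄, E₆, E₇ or E₈ over a field with `q` elements, with the degrees of its Weyl group listed beside the type (their product is the order of the Weyl group), and let `r` be a prime dividing the order of `G`, not dividing `q` and not dividing the order of the Weyl group. Let `d` be the multiplicative order of `q` modulo `r`, `a` the number of degrees divisible by `d`, and `m` the `r`-part of the value at `q` of the `d`-th cyclotomic polynomial. Then every Sylow `r`-subgroup of `G` is homocyclic: a direct product of `a` cyclic groups of order `m` (in particular abelian). -/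
theorem result {F : Type*} [Field F] [Fintype F] {q : ℕ} (hq : Fintype.card F = q)
    (c : Cfsg.Lie.ChevalleyDatum × List ℕ)
    (hc : c ∈ [(Cfsg.Lie.chevG2, [2, 6]), (Cfsg.Lie.chevB2, [2, 4]), (Cfsg.Lie.chevD4, [2, 4, 4, 6]), (Cfsg.Lie.chevF4, [2, 6, 8, 12]),
      (Cfsg.Lie.chevE6, [2, 5, 6, 8, 9, 12]), (Cfsg.Lie.chevE7, [2, 6, 8, 10, 12, 14, 18]), (Cfsg.Lie.chevE8, [2, 8, 12, 14, 18, 20, 24, 30])])
    (r : ℕ) [Fact r.Prime] (hrq : ¬ r ∣ q) (hrW : ¬ r ∣ c.2.prod) (hrG : r ∣ Nat.card ↥(c.1.group F)) (P : Sylow r ↥(c.1.group F)) :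
    Nonempty (↥(P : Subgroup ↥(c.1.group F)) ≃*
      (Fin (c.2.filter (fun e => orderOf (q : ZMod r) ∣ e)).length →
        Multiplicative (ZMod (r ^ padicValNat r ((Polynomial.cyclotomic (orderOf (q : ZMod r)) ℤ).eval (q : ℤ)).natAbs)))) := by
  simp only [List.mem_cons, List.not_mem_nil, or_false] at hc
  rcases hc with rfl | rfl | rfl | rfl | rfl | rfl | rfl
  · refine CfsgLib.Chevalley.SylowTorus.sylow_case CfsgLib.Chevalley.Data.G2.valid CfsgLib.Chevalley.Data.G2.chkComm CfsgLib.Chevalley.Data.G2.chkSmith CfsgLib.Chevalley.Data.G2.steps_length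
      CfsgLib.Chevalley.Data.G2.chkSteps CfsgLib.Chevalley.Data.G2.Reps.chkPoly_reps (by decide) (by decide +kernel) (by decide +kernel) []
      (by decide +kernel) ?_ CfsgLib.Chevalley.Data.G2.datum_eq hq r hrq hrW hrG P
    exact fun _ _ _ h => absurd h (List.not_mem_nil)
  · refine CfsgLib.Chevalley.SylowTorus.sylow_case CfsgLib.Chevalley.Data.B2.valid CfsgLib.Chevalley.Data.B2.chkComm CfsgLib.Chevalley.Data.B2.chkSmith CfsgLib.Chevalley.Data.B2.steps_length
      CfsgLib.Chevalley.Data.B2.chkSteps CfsgLib.Chevalley.Data.B2.Reps.chkPoly_reps (by decide) (by decide +kernel) (by decide +kernel) []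
      (by decide +kernel) ?_ CfsgLib.Chevalley.Data.B2.datum_eq hq r hrq hrW hrG P
    exact fun _ _ _ h => absurd h (List.not_mem_nil)
  · refine CfsgLib.Chevalley.SylowTorus.sylow_case CfsgLib.Chevalley.Data.D4.valid CfsgLib.Chevalley.Data.D4.chkComm CfsgLib.Chevalley.Data.D4.chkSmith CfsgLib.Chevalley.Data.D4.steps_length
      CfsgLib.Chevalley.Data.D4.chkSteps CfsgLib.Chevalley.Data.D4.Reps.chkPoly_reps (by decide) (by decide +kernel) (by decide +kernel) [3, 6]
      (by decide +kernel) ?_ CfsgLib.Chevalley.Data.D4.datum_eq hq r hrq hrW hrG P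
    exact fun w hw d hd => by
      simp only [List.mem_cons, List.not_mem_nil, or_false] at hd
      rcases hd with rfl | rfl
      · exact CfsgLib.Chevalley.SylowTorus.D4.three hw
      · exact CfsgLib.Chevalley.SylowTorus.D4.six hw
  · refine CfsgLib.Chevalley.SylowTorus.sylow_case CfsgLib.Chevalley.Data.F4.valid CfsgLib.Chevalley.Data.F4.chkComm CfsgLib.Chevalley.Data.F4.chkSmith CfsgLib.Chevalley.Data.F4.steps_length
      CfsgLib.Chevalley.Data.F4.chkSteps CfsgLib.Chevalley.Data.F4.Reps.chkPoly_reps (by decide) (by decide +kernel) (by decide +kernel) []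
      (by decide +kernel) ?_ CfsgLib.Chevalley.Data.F4.datum_eq hq r hrq hrW hrG P
    exact fun _ _ _ h => absurd h (List.not_mem_nil)
  · refine CfsgLib.Chevalley.SylowTorus.sylow_case CfsgLib.Chevalley.Data.E6.valid CfsgLib.Chevalley.Data.E6.chkComm CfsgLib.Chevalley.Data.E6.chkSmith CfsgLib.Chevalley.Data.E6.steps_length
      CfsgLib.Chevalley.Data.E6.chkSteps CfsgLib.Chevalley.Data.E6.Reps.chkPoly_reps (by decide) (by decide +kernel) (by decide +kernel) [2, 4, 6]
      (by decide +kernel) ?_ CfsgLib.Chevalley.Data.E6.datum_eq hq r hrq hrW hrG P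
    exact fun w hw d hd => by
      simp only [List.mem_cons, List.not_mem_nil, or_false] at hd
      rcases hd with rfl | rfl | rfl
      · exact CfsgLib.Chevalley.SylowTorus.E6.two hw
      · exact CfsgLib.Chevalley.SylowTorus.E6.four hw
      · exact CfsgLib.Chevalley.SylowTorus.E6.six hw
  · refine CfsgLib.Chevalley.SylowTorus.sylow_case CfsgLib.Chevalley.Data.E7.valid CfsgLib.Chevalley.Data.E7.chkComm CfsgLib.Chevalley.Data.E7.chkSmith CfsgLib.Chevalley.Data.E7.steps_length
      CfsgLib.Chevalley.Data.E7.chkSteps CfsgLib.Chevalley.Data.E7.Reps.chkPoly_reps (by decide) (by decide +kernel) (by decide +kernel) [4]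
      (by decide +kernel) ?_ CfsgLib.Chevalley.Data.E7.datum_eq hq r hrq hrW hrG P
    exact fun w hw d hd => by
      simp only [List.mem_cons, List.not_mem_nil, or_false] at hd
      subst hd
      · exact CfsgLib.Chevalley.SylowTorus.E7.four hw
  · refine CfsgLib.Chevalley.SylowTorus.sylow_case CfsgLib.Chevalley.Data.E8.valid CfsgLib.Chevalley.Data.E8.chkComm CfsgLib.Chevalley.Data.E8.chkSmith CfsgLib.Chevalley.Data.E8.steps_length
      CfsgLib.Chevalley.Data.E8.chkSteps CfsgLib.Chevalley.Data.E8.Reps.chkPoly_reps (by decide) (by decide +kernel) (by decide +kernel) []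
      (by decide +kernel) ?_ CfsgLib.Chevalley.Data.E8.datum_eq hq r hrq hrW hrG P
    exact fun _ _ _ h => absurd h (List.not_mem_nil)

end Cfsg.Agent.S2378
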