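import Cfsg.Statements.S2379
import Cfsg.Agent.Lib.KnownA.TorusSylow

set_option autoImplicit false
open Cfsg

namespace Cfsg.Agent.S2379



/-- Sylow subgroups of `SL_n(q)` for large primes. Let `F` be a field with `q` elements and `r` a prime with `r > n` and `r ∤ q` (so `r` does not divide the order `n!` of the Weyl group). Let `d` be the multiplicative order of `q` modulo `r`, `a` the number of integers `i` with `2 ≤ i ≤ n` divisible by `d` (the degrees of the Weyl group are `2, …, n`), and `m` the `r`-part of the value at `q` of the `d`-th cyclotomic polynomial. Then every Sylow `r`-subgroup of `SL_n(q)` is a direct product of `a` cyclic groups of order `m`. -/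
theorem result {F : Type*} [Field F] [Fintype F] {q : ℕ} (hq : Fintype.card F = q) (n : ℕ)
    (r : ℕ) [Fact r.Prime] (hrn : n < r) (hrq : ¬ r ∣ q) (P : Sylow r (Matrix.SpecialLinearGroup (Fin n) F)) :
    Nonempty (↥(P : Subgroup (Matrix.SpecialLinearGroup (Fin n) F)) ≃*
      (Fin ((Finset.Icc 2 n).filter (fun i => orderOf (q : ZMod r) ∣ i)).card →
        Multiplicative (ZMod (r ^ padicValNat r ((Polynomial.cyclotomic (orderOf (q : ZMod r)) ℤ).eval (q : ℤ)).natAbs)))) := by
  classical
  subst hq
  obtain ⟨p, hp⟩ := CharP.exists F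
  have hpp : Fact p.Prime := ⟨CharP.char_is_prime F p⟩
  have hq1 : 1 < Fintype.card F := Fintype.one_lt_card
  rw [CfsgLib.TorusSylow.val_cyclotomic hq1 hrq]
  set d := orderOf (Fintype.card F : ZMod r) with hd
  set v := padicValNat r (Fintype.card F ^ d - 1) with hv
  have hd0 : 0 < d := CfsgLib.TorusSylow.order_pos hrq
  by_cases hd1 : d = 1
  · rw [hd1, show ((Finset.Icc 2 n).filter fun i => 1 ∣ i).card = n - 1 by simp]
    rcases Nat.eq_zero_or_pos n with rfl | hn
    · refine CfsgLib.TorusSylow.sylow_iso_of_hom P (1 : _ →* _) (fun x y _ => funext fun i => absurd i.2 (by omega)) ?_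
      rw [Nat.card_of_subsingleton (1 : Matrix.SpecialLinearGroup (Fin 0) F)]
      simp
    obtain ⟨k, rfl⟩ : ∃ k, n = k + 1 := ⟨n - 1, by omega⟩
    have hvq : v = padicValNat r (Fintype.card F - 1) := by rw [hv, hd1, pow_one]
    obtain ⟨γ, hγ⟩ := IsCyclic.exists_ofOrder_eq_natCard (α := Fˣ)
    rw [Nat.card_units, Nat.card_eq_fintype_card] at hγ
    obtain ⟨t, ht⟩ : r ^ v ∣ Fintype.card F - 1 := hvq ▸ pow_padicValNat_dvd
    have hζ : orderOf (γ ^ t) = r ^ v := by
      rw [orderOf_pow_of_dvd (by rintro rfl; simp at ht; omega) (by rw [hγ, ht]; exact dvd_mul_left _ _),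
        hγ, ht, Nat.mul_div_cancel]
      exact Nat.pos_of_ne_zero (by rintro rfl; simp at ht; omega)
    obtain ⟨c, hc⟩ := CfsgLib.TorusSylow.exists_zmod_hom hζ
    let g : (Fin k → Multiplicative (ZMod (r ^ v))) → Matrix (Fin (k + 1)) (Fin (k + 1)) F := fun x =>
      Matrix.diagonal fun i => ((Fin.cons (∏ j, c (x j))⁻¹ (fun j => c (x j)) : Fin (k + 1) → Fˣ) i : F)
    have hdet : ∀ x, (g x).det = 1 := fun x => by
      rw [Matrix.det_diagonal, Fin.prod_univ_succ]
      simp only [Fin.cons_zero, Fin.cons_succ]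
      rw [← Units.coe_prod, ← Units.val_mul, inv_mul_cancel, Units.val_one]
    let φ : (Fin k → Multiplicative (ZMod (r ^ v))) →* Matrix.SpecialLinearGroup (Fin (k + 1)) F :=
      MonoidHom.mk' (fun x => ⟨g x, hdet x⟩) fun x y => Subtype.ext (by
        show g (x * y) = g x * g y
        simp only [g, Matrix.diagonal_mul_diagonal]
        congr 1
        funext i
        refine Fin.cases ?_ (fun j => ?_) i
        · simp only [Fin.cons_zero, Pi.mul_apply, map_mul, Finset.prod_mul_distrib, mul_inv, Units.val_mul]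
        · simp only [Fin.cons_succ, Pi.mul_apply, map_mul, Units.val_mul])
    refine CfsgLib.TorusSylow.sylow_iso_of_hom P (a := k + 1 - 1) φ (fun x y h => funext fun j => hc
      (Units.ext ?_)) ?_
    · have h1 : g x j.succ j.succ = g y j.succ j.succ :=
        congrFun (congrFun (congrArg Subtype.val h) j.succ) j.succ
      simpa [g] using h1
    · have h1 := CfsgLib.TorusSylow.val_sl (F := F) (r := r) (k + 1) hn
      rw [CfsgLib.TorusSylow.val_gl (k + 1) hrn hrq, ← hd, hd1, Nat.div_one, pow_one, ← hvq,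
        Nat.succ_mul] at h1
      rw [Nat.add_sub_cancel]
      omega
  · have hcard : ((Finset.Icc 2 n).filter fun i => d ∣ i).card = n / d := by
      rw [← CfsgLib.TorusSylow.card_filter_dvd d n]
      refine congrArg Finset.card ?_
      ext i
      simp only [Finset.mem_filter, Finset.mem_Icc]
      refine ⟨fun h => ⟨⟨by omega, h.1.2⟩, h.2⟩, fun h => ⟨⟨?_, h.1.2⟩, h.2⟩⟩
      have := Nat.le_of_dvd h.1.1 h.2
      omega
    obtain ⟨φ, hφ⟩ := CfsgLib.TorusSylow.exists_gl_torus (F := F) (n := n) p hd0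
      (m := r ^ v) pow_padicValNat_dvd
    have hndvd : ¬ r ∣ Fintype.card F - 1 := fun h => hd1 (Nat.dvd_one.mp
      ((CfsgLib.TorusSylow.dvd_pow_sub_iff hq1.le 1).mp (by rwa [pow_one])))
    have hdet : ∀ x, (φ x : Matrix (Fin n) (Fin n) F).det = 1 := by
      intro x
      have hx : x ^ (r ^ v) = 1 := funext fun i => by
        rw [Pi.pow_apply, Pi.one_apply]
        apply Multiplicative.toAdd.injective
        rw [toAdd_pow, toAdd_one, nsmul_eq_mul, ZMod.natCast_self, zero_mul]
      have h1 : (Matrix.GeneralLinearGroup.det (φ x)) ^ (r ^ v) = 1 := by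
        rw [← map_pow, ← map_pow, hx, map_one, map_one]
      have h2 : (Matrix.GeneralLinearGroup.det (φ x)) ^ (Fintype.card F - 1) = 1 := by
        have := pow_card_eq_one' (G := Fˣ) (x := Matrix.GeneralLinearGroup.det (φ x))
        rwa [Nat.card_units, Nat.card_eq_fintype_card] at this
      have h3 := (pow_gcd_eq_one (m := r ^ v) (n := Fintype.card F - 1)).mpr ⟨h1, h2⟩
      rw [Nat.Coprime.pow_left v ((Fact.out : r.Prime).coprime_iff_not_dvd.mpr hndvd), pow_one] at h3
      exact congrArg Units.val h3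
    let ψ : (Fin (n / d) → Multiplicative (ZMod (r ^ v))) →* Matrix.SpecialLinearGroup (Fin n) F :=
      MonoidHom.mk' (fun x => ⟨(φ x : Matrix (Fin n) (Fin n) F), hdet x⟩) fun x y =>
        Subtype.ext (by simp only [map_mul, Units.val_mul]; rfl)
    rw [hcard]
    refine CfsgLib.TorusSylow.sylow_iso_of_hom P ψ
      (fun x y h => hφ (Units.ext (congrArg Subtype.val h :))) ?_
    rcases Nat.eq_zero_or_pos n with rfl | hn
    · rw [Nat.card_of_subsingleton (1 : Matrix.SpecialLinearGroup (Fin 0) F)]
      simp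
    have h1 := CfsgLib.TorusSylow.val_sl (F := F) (r := r) n hn
    rw [CfsgLib.TorusSylow.val_gl n hrn hrq, ← hd, ← hv, padicValNat.eq_zero_of_not_dvd hndvd,
      zero_add] at h1
    exact h1.symm

end Cfsg.Agent.S2379
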