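import Cfsg.Statements.S2381
import Cfsg.Agent.Lib.KnownA.TorusSylow

set_option autoImplicit false
open Cfsg

namespace Cfsg.Agent.S2381



/-- Sylow subgroups of `Sp_{2n}(q)` for large primes. Let `F` be a field with `q` elements and `r` an odd prime with `r > n` and `r ∤ q` (so `r` does not divide the order `2^n n!` of the Weyl group). Let `d` be the multiplicative order of `q` modulo `r`, `a` the number of `i` with `1 ≤ i ≤ n` and `d ∣ 2i` (the degrees being `2, 4, …, 2n`), and `m` the `r`-part of the value at `q` of the `d`-th cyclotomic polynomial. Then every Sylow `r`-subgroup of the symplectic group `Sp_{2n}(q)` is a direct product of `a` cyclic groups of order `m`. -/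
theorem result {F : Type*} [Field F] [Fintype F] {q : ℕ} (hq : Fintype.card F = q) (n : ℕ)
    (r : ℕ) [Fact r.Prime] (hr2 : r ≠ 2) (hrn : n < r) (hrq : ¬ r ∣ q) (P : Sylow r ↥(Matrix.symplecticGroup (Fin n) F)) :
    Nonempty (↥(P : Subgroup ↥(Matrix.symplecticGroup (Fin n) F)) ≃*
      (Fin ((Finset.Icc 1 n).filter (fun i => orderOf (q : ZMod r) ∣ 2 * i)).card →
        Multiplicative (ZMod (r ^ padicValNat r ((Polynomial.cyclotomic (orderOf (q : ZMod r)) ℤ).eval (q : ℤ)).natAbs)))) := by
  classical
  subst hq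
  obtain ⟨p, hp⟩ := CharP.exists F
  have hpp : Fact p.Prime := ⟨CharP.char_is_prime F p⟩
  have hq1 : 1 < Fintype.card F := Fintype.one_lt_card
  rw [CfsgLib.TorusSylow.val_cyclotomic hq1 hrq]
  set d := orderOf (Fintype.card F : ZMod r) with hd
  have hd0 : 0 < d := CfsgLib.TorusSylow.order_pos hrq
  rcases Nat.even_or_odd d with ⟨e, he⟩ | hodd
  · have he0 : 0 < e := by omega
    have hcard : ((Finset.Icc 1 n).filter fun i => d ∣ 2 * i).card = n / e := by
      rw [← CfsgLib.TorusSylow.card_filter_dvd e n]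
      refine congrArg Finset.card (Finset.filter_congr fun i _ => ?_)
      rw [show d = 2 * e by omega]
      exact Nat.mul_dvd_mul_iff_left two_pos
    have hdvd : r ^ padicValNat r (Fintype.card F ^ d - 1) ∣ Fintype.card F ^ e + 1 := by
      have h1 : ¬ r ∣ Fintype.card F ^ e - 1 := fun h => by
        have := Nat.le_of_dvd he0 ((CfsgLib.TorusSylow.dvd_pow_sub_iff hq1.le e).mp h)
        omega
      have h2 : Fintype.card F ^ d - 1 = (Fintype.card F ^ e + 1) * (Fintype.card F ^ e - 1) := by
        rw [← Nat.mul_self_sub_mul_self_eq, mul_one, ← pow_add, he]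
      have h3 : r ^ padicValNat r (Fintype.card F ^ d - 1) ∣ Fintype.card F ^ d - 1 :=
        pow_padicValNat_dvd
      exact (((Fact.out : r.Prime).coprime_iff_not_dvd.mpr h1).pow_left _).dvd_of_dvd_mul_right
        (h3.trans h2.dvd)
    obtain ⟨φ, hφ⟩ := CfsgLib.TorusSylow.exists_sp_torus (F := F) (n := n) p he0 hdvd
    rw [hcard]
    refine CfsgLib.TorusSylow.sylow_iso_of_hom P φ hφ ?_
    rw [← hcard]
    exact CfsgLib.TorusSylow.val_sp n hr2 hrn hrq
  · have hcard : ((Finset.Icc 1 n).filter fun i => d ∣ 2 * i).card = n / d := by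
      rw [← CfsgLib.TorusSylow.card_filter_dvd d n]
      refine congrArg Finset.card (Finset.filter_congr fun i _ => ?_)
      exact ⟨fun h => (Nat.Coprime.dvd_of_dvd_mul_left
        (Nat.coprime_two_right.mpr hodd) h), fun h => h.mul_left 2⟩
    obtain ⟨φ, hφ⟩ := CfsgLib.TorusSylow.exists_gl_torus (F := F) (n := n) p hd0
      (m := r ^ padicValNat r (Fintype.card F ^ d - 1)) pow_padicValNat_dvd
    rw [hcard]
    refine CfsgLib.TorusSylow.sylow_iso_of_hom P ((CfsgLib.TorusSylow.glToSp n).comp φ)
      ((CfsgLib.TorusSylow.glToSp_injective n).comp hφ) ?_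
    rw [← hcard]
    exact CfsgLib.TorusSylow.val_sp n hr2 hrn hrq

end Cfsg.Agent.S2381
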