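import Cfsg.Statements.S2383
import Cfsg.Agent.Lib.KnownB.Modular.Inst
import Cfsg.Agent.Lib.Chevalley.Data.SmithCerts

set_option autoImplicit false
open Cfsg

namespace Cfsg.Agent.S2383

/-- Steinberg's count of semisimple classes in characteristic 2 for the types B₂, D₄, E₇, where the finite simply connected group has trivial centre and so coincides with the Chevalley group: for the Chevalley group of type B₂, D₄ or E₇ over a field with `q` elements of characteristic 2, the conjugacy classes of elements of odd order number exactly `q^l`, `l` the rank. -/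
theorem result {F : Type*} [Field F] [Fintype F] {q : ℕ} (hq : Fintype.card F = q) [CharP F 2]
    (D : Cfsg.Lie.ChevalleyDatum) (hD : D ∈ [Cfsg.Lie.chevB2, Cfsg.Lie.chevD4, Cfsg.Lie.chevE7]) :
    Nat.card {c : ConjClasses ↥(D.group F) // ∃ g : ↥(D.group F), ConjClasses.mk g = c ∧ Odd (orderOf g)} = q ^ D.rank := by
  haveI : Fact (Nat.Prime 2) := ⟨Nat.prime_two⟩
  have hev : Nat.gcd (Fintype.card F - 1) 2 = 1 := by
    obtain ⟨n, -, hn⟩ := FiniteField.card F 2
    rw [hn]
    refine ((Nat.Prime.coprime_iff_not_dvd Nat.prime_two).mpr ?_).symm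
    have h1 : 2 ∣ 2 ^ (n : ℕ) := dvd_pow_self 2 n.ne_zero
    have h2 : 0 < 2 ^ (n : ℕ) := by positivity
    omega
  simp only [← Nat.coprime_two_right]
  simp only [List.mem_cons, List.not_mem_nil, or_false] at hD
  rcases hD with rfl | rfl | rfl
  · rw [← CfsgLib.Chevalley.Data.B2.datum_eq, ← hq]
    refine CfsgLib.Modular.Tabled.card_pRegular CfsgLib.Chevalley.Data.B2.valid CfsgLib.Chevalley.Data.B2.chkComm 2
      (CfsgLib.KnownB.FieldAut.torusHom_injective CfsgLib.Chevalley.Data.B2.valid F
        CfsgLib.Chevalley.Data.B2.chkSmith fun i => ?_)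
    fin_cases i <;> first | exact hev | exact Nat.gcd_one_right _
  · rw [← CfsgLib.Chevalley.Data.D4.datum_eq, ← hq]
    refine CfsgLib.Modular.Tabled.card_pRegular CfsgLib.Chevalley.Data.D4.valid CfsgLib.Chevalley.Data.D4.chkComm 2
      (CfsgLib.KnownB.FieldAut.torusHom_injective CfsgLib.Chevalley.Data.D4.valid F
        CfsgLib.Chevalley.Data.D4.chkSmith fun i => ?_)
    fin_cases i <;> first | exact hev | exact Nat.gcd_one_right _
  · rw [← CfsgLib.Chevalley.Data.E7.datum_eq, ← hq]
    refine CfsgLib.Modular.Tabled.card_pRegular CfsgLib.Chevalley.Data.E7.valid CfsgLib.Chevalley.Data.E7.chkComm 2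
      (CfsgLib.KnownB.FieldAut.torusHom_injective CfsgLib.Chevalley.Data.E7.valid F
        CfsgLib.Chevalley.Data.E7.chkSmith fun i => ?_)
    fin_cases i <;> first | exact hev | exact Nat.gcd_one_right _

end Cfsg.Agent.S2383
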