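import Cfsg.Statements.S2384
import Cfsg.Agent.Lib.KnownA.SemisimpleClassesMatrix

set_option autoImplicit false
open Cfsg

namespace Cfsg.Agent.S2384



/-- In `SL_n(q)`, `q` a power of the prime `p`, the number of conjugacy classes of elements of order prime to `p` (the semisimple classes) is `q^(n-1)`. -/
theorem result {F : Type*} [Field F] [Fintype F] {q : ℕ} (hq : Fintype.card F = q) (p : ℕ) [Fact p.Prime] [CharP F p] (n : ℕ) (hn : 1 ≤ n) :
    Nat.card {c : ConjClasses (Matrix.SpecialLinearGroup (Fin n) F) //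
      ∃ g : Matrix.SpecialLinearGroup (Fin n) F, ConjClasses.mk g = c ∧ (orderOf g).Coprime p} = q ^ (n - 1) := by
  classical
  obtain ⟨k, rfl⟩ : ∃ k, n = k + 1 := ⟨n - 1, by omega⟩
  let G := Matrix.SpecialLinearGroup (Fin (k + 1)) F
  let C : Set F := {(-1 : F) ^ (k + 1)}
  have hsign : ((-1 : F) ^ (k + 1)) * (-1 : F) ^ (k + 1) = 1 := by
    rw [← mul_pow]; simp
  have hcoeff : ∀ g : G, ((g : Matrix (Fin (k + 1)) (Fin (k + 1)) F).charpoly).coeff 0 ∈ C := by
    intro g
    have h1 := Matrix.det_eq_sign_charpoly_coeff (g : Matrix (Fin (k + 1)) (Fin (k + 1)) F)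
    rw [g.2, Fintype.card_fin] at h1
    show _ = _
    calc _ = ((-1 : F) ^ (k + 1)) * (((-1 : F) ^ (k + 1)) *
          ((g : Matrix (Fin (k + 1)) (Fin (k + 1)) F).charpoly).coeff 0) := by
            rw [← mul_assoc, hsign, one_mul]
      _ = _ := by rw [← h1, mul_one]
  let Φ : {c : ConjClasses G // ∃ g : G, ConjClasses.mk g = c ∧ (orderOf g).Coprime p} →
      {P : Polynomial F // P.Monic ∧ P.natDegree = k + 1 ∧ P.coeff 0 ∈ C} := fun c =>
    ⟨(c.2.choose : Matrix (Fin (k + 1)) (Fin (k + 1)) F).charpoly, Matrix.charpoly_monic _,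
      by rw [Matrix.charpoly_natDegree_eq_dim, Fintype.card_fin], hcoeff _⟩
  have hbij : Function.Bijective Φ := by
    constructor
    · intro c d h
      obtain ⟨h1, h2⟩ := c.2.choose_spec
      obtain ⟨h3, h4⟩ := d.2.choose_spec
      apply Subtype.ext
      rw [← h1, ← h3, ConjClasses.mk_eq_mk_iff_isConj]
      exact CfsgLib.SemisimpleClasses.isConj_SL p _ _ h2 h4 (congrArg Subtype.val h)
    · rintro ⟨P, hP, hd, hc0⟩
      obtain ⟨M, hM⟩ := CfsgLib.SemisimpleClasses.exists_matrix_charpoly hP hd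
      have hdet : M.det = 1 := by
        rw [Matrix.det_eq_sign_charpoly_coeff, hM, Fintype.card_fin, show P.coeff 0 = _ from hc0]
        exact hsign
      let ι : G →* Matrix (Fin (k + 1)) (Fin (k + 1)) F :=
        { toFun := fun x => (x : Matrix (Fin (k + 1)) (Fin (k + 1)) F), map_one' := rfl,
          map_mul' := fun _ _ => rfl }
      obtain ⟨s, hs, hsc⟩ := CfsgLib.SemisimpleClasses.exists_coprime_charpoly p ι ⟨M, hdet⟩
      let c : {c : ConjClasses G // ∃ g : G, ConjClasses.mk g = c ∧ (orderOf g).Coprime p} :=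
        ⟨ConjClasses.mk s, s, rfl, hs⟩
      refine ⟨c, Subtype.ext ?_⟩
      obtain ⟨u, hu⟩ := isConj_iff.mp (ConjClasses.mk_eq_mk_iff_isConj.mp c.2.choose_spec.1)
      let uu : (Matrix (Fin (k + 1)) (Fin (k + 1)) F)ˣ :=
        ⟨ι u, ι u⁻¹, by rw [← map_mul, mul_inv_cancel, map_one],
          by rw [← map_mul, inv_mul_cancel, map_one]⟩
      show (ι c.2.choose).charpoly = P
      rw [← hM, ← show (ι s).charpoly = M.charpoly from hsc, ← hu, map_mul, map_mul]
      have h := Matrix.charpoly_units_conj uu (ι c.2.choose)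
      rw [← Matrix.coe_units_inv] at h
      exact h.symm
  have hC : Nat.card C = 1 := by
    rw [Nat.card_eq_fintype_card]; simp [C]
  rw [Nat.card_congr (Equiv.ofBijective Φ hbij), CfsgLib.SemisimpleClasses.card_monic_coeff_zero k C,
    hC, hq, Nat.add_sub_cancel, one_mul]

end Cfsg.Agent.S2384
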