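import Cfsg.Statements.S2389
import Cfsg.Agent.Lib.KnownC.SympConj
import Cfsg.Agent.Lib.KnownA.SemisimpleClassesMatrix

set_option autoImplicit false
open Cfsg

namespace Cfsg.Agent.S2389

/-- In the symplectic group `Sp_{2n}(q)`, `q` a power of the prime `p`, two elements of order prime to `p` with the same characteristic polynomial are conjugate in `Sp_{2n}(q)`. -/
theorem result {F : Type*} [Field F] [Fintype F] (p : ℕ) [Fact p.Prime] [CharP F p] (n : ℕ)
    (g h : ↥(Matrix.symplecticGroup (Fin n) F)) (hg : (orderOf g).Coprime p) (hh : (orderOf h).Coprime p)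
    (hc : (g : Matrix (Fin n ⊕ Fin n) (Fin n ⊕ Fin n) F).charpoly = (h : Matrix (Fin n ⊕ Fin n) (Fin n ⊕ Fin n) F).charpoly) :
    IsConj g h := by
  classical
  have hp : p.Prime := Fact.out
  have hr : (orderOf g : F) ≠ 0 := by
    rw [Ne, CharP.cast_eq_zero_iff F p]
    intro hd
    exact hp.ne_one (Nat.dvd_one.1 (hg ▸ Nat.dvd_gcd hd dvd_rfl))
  have ss : ∀ x : ↥(Matrix.symplecticGroup (Fin n) F), (orderOf x).Coprime p →
      Module.End.IsSemisimple (Matrix.toLin' (x : Matrix (Fin n ⊕ Fin n) (Fin n ⊕ Fin n) F)) := by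
    intro x hx
    refine CfsgLib.SemisimpleClasses.isSemisimple_of_pow_eq_one _ (N := orderOf x) ?_ ?_
    · rw [Ne, CharP.cast_eq_zero_iff F p]
      intro hd
      exact hp.ne_one (Nat.dvd_one.1 (hx ▸ Nat.dvd_gcd hd dvd_rfl))
    · show (Matrix.toLinAlgEquiv' _) ^ orderOf x = 1
      rw [← map_pow, ← SubmonoidClass.coe_pow, pow_orderOf_eq_one]
      exact map_one _
  obtain ⟨e, he⟩ := CfsgLib.SemisimpleClasses.similar_aux _ _ _ _ _ rfl (ss g hg) (ss h hh)
    (by rw [Matrix.charpoly_toLin', Matrix.charpoly_toLin', hc])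
  obtain ⟨c, hc'⟩ := CfsgLib.KnownC.SympConj.exists_conj (CfsgLib.Classical.sympBil_isAlt n)
    (CfsgLib.Classical.sympBil_nondegenerate n) (CfsgLib.Classical.spEquiv n g) (CfsgLib.Classical.spEquiv n h) e
    (fun x => by
      simp only [CfsgLib.Classical.spEquiv_apply]
      exact he x) hr (by rw [← map_pow, pow_orderOf_eq_one, map_one])
  refine isConj_iff.2 ⟨(CfsgLib.Classical.spEquiv n).symm c, (CfsgLib.Classical.spEquiv n).injective ?_⟩
  rw [map_mul, map_mul, map_inv, MulEquiv.apply_symm_apply, mul_inv_eq_iff_eq_mul]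
  exact Subtype.ext (LinearEquiv.ext hc')

end Cfsg.Agent.S2389
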