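import Cfsg.Statements.S2385
import Cfsg.Agent.Lib.Involution.SpSemisimpleCount
import Cfsg.Agent.S2389

set_option autoImplicit false
open Cfsg

namespace Cfsg.Agent.S2385

/-- In the symplectic group `Sp_{2n}(q)`, `q` a power of the prime `p`, the number of conjugacy classes of elements of order prime to `p` is `q^n`. -/
theorem result {F : Type*} [Field F] [Fintype F] {q : ℕ} (hq : Fintype.card F = q) (p : ℕ) [Fact p.Prime] [CharP F p] (n : ℕ) :
    Nat.card {c : ConjClasses ↥(Matrix.symplecticGroup (Fin n) F) //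
      ∃ g : ↥(Matrix.symplecticGroup (Fin n) F), ConjClasses.mk g = c ∧ (orderOf g).Coprime p} = q ^ n := by
  classical
  have hconj : ∀ g h : ↥(Matrix.symplecticGroup (Fin n) F), IsConj g h →
      (g : Matrix (Fin n ⊕ Fin n) (Fin n ⊕ Fin n) F).charpoly =
        (h : Matrix (Fin n ⊕ Fin n) (Fin n ⊕ Fin n) F).charpoly := by
    intro g h hgh
    obtain ⟨u, rfl⟩ := isConj_iff.1 hgh
    rw [Submonoid.coe_mul, Submonoid.coe_mul, SymplecticGroup.coe_inv']
    exact (Matrix.charpoly_units_conj ⟨(u : Matrix (Fin n ⊕ Fin n) (Fin n ⊕ Fin n) F),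
      ((u⁻¹ : ↥(Matrix.symplecticGroup (Fin n) F)) : Matrix (Fin n ⊕ Fin n) (Fin n ⊕ Fin n) F),
      by rw [← Submonoid.coe_mul, mul_inv_cancel]; rfl,
      by rw [← Submonoid.coe_mul, inv_mul_cancel]; rfl⟩ _).symm
  let Φ : {c : ConjClasses ↥(Matrix.symplecticGroup (Fin n) F) //
      ∃ g, ConjClasses.mk g = c ∧ (orderOf g).Coprime p} →
      {P : Polynomial F // CfsgLib.Involution.SpSemisimple.SelfRec n P} := fun c =>
    ⟨_, CfsgLib.Involution.SpSemisimple.selfRec_of_mem c.2.choose⟩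
  have hbij : Function.Bijective Φ := by
    constructor
    · intro c d h
      obtain ⟨h1, h2⟩ := c.2.choose_spec
      obtain ⟨h3, h4⟩ := d.2.choose_spec
      refine Subtype.ext ?_
      rw [← h1, ← h3, ConjClasses.mk_eq_mk_iff_isConj]
      exact Cfsg.Agent.S2389.result p n _ _ h2 h4 (congrArg Subtype.val h)
    · rintro ⟨P, hP⟩
      obtain ⟨g, hg, hgP⟩ := CfsgLib.Involution.SpSemisimple.exists_of_selfRec p hP
      let c : {c : ConjClasses ↥(Matrix.symplecticGroup (Fin n) F) //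
          ∃ g, ConjClasses.mk g = c ∧ (orderOf g).Coprime p} :=
        ⟨ConjClasses.mk g, g, rfl, hg⟩
      exact ⟨c, Subtype.ext ((hconj _ _ (ConjClasses.mk_eq_mk_iff_isConj.1 c.2.choose_spec.1)).trans hgP)⟩
  rw [Nat.card_congr (Equiv.ofBijective Φ hbij), CfsgLib.Involution.SpSemisimple.card_selfRec, hq]

end Cfsg.Agent.S2385
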