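import Cfsg.Statements.S2386
import Cfsg.Agent.Lib.Involution.SUSemisimpleCount

set_option autoImplicit false
open Cfsg

namespace Cfsg.Agent.S2386

/-- In the special unitary group `SU_n(q)` (matrices of determinant one over the field with `q²` elements preserving the standard Hermitian form), `q` a power of the prime `p`, the number of conjugacy classes of elements of order prime to `p` is `q^(n-1)`. -/
theorem result {F : Type*} [Field F] [Fintype F] {q : ℕ} (hF : Fintype.card F = q ^ 2) (p : ℕ) [Fact p.Prime] [CharP F p] (n : ℕ) (hn : 1 ≤ n) :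
    Nat.card {c : ConjClasses ↥(Cfsg.SU n F q) // ∃ g : ↥(Cfsg.SU n F q), ConjClasses.mk g = c ∧ (orderOf g).Coprime p} = q ^ (n - 1) := by
  classical
  obtain ⟨σ, hσ, hc⟩ := CfsgLib.Classical.exists_frob hF
  have hmem : ∀ g : ↥(Cfsg.SU n F q), CfsgLib.Involution.SUSemisimple.SelfDual σ n
      ((g : Matrix.SpecialLinearGroup (Fin n) F) : Matrix (Fin n) (Fin n) F).charpoly := fun g =>
    CfsgLib.Involution.SUSemisimple.selfDual_of_mem hF hσ hc (CfsgLib.Classical.suToGU n F q g) g.1.2
  have hconj : ∀ g h : ↥(Cfsg.SU n F q), IsConj g h →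
      ((g : Matrix.SpecialLinearGroup (Fin n) F) : Matrix (Fin n) (Fin n) F).charpoly =
      ((h : Matrix.SpecialLinearGroup (Fin n) F) : Matrix (Fin n) (Fin n) F).charpoly := by
    intro g h hgh
    obtain ⟨u, rfl⟩ := isConj_iff.1 hgh
    exact (Matrix.charpoly_units_conj ((CfsgLib.Classical.suToGU n F q u).1)
      ((g : Matrix.SpecialLinearGroup (Fin n) F) : Matrix (Fin n) (Fin n) F)).symm.trans (by
        rw [← Matrix.coe_units_inv, ← InvMemClass.coe_inv, ← map_inv]
        rfl)
  let Φ : {c : ConjClasses ↥(Cfsg.SU n F q) // ∃ g, ConjClasses.mk g = c ∧ (orderOf g).Coprime p} →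
      {P : Polynomial F // CfsgLib.Involution.SUSemisimple.SelfDual σ n P} := fun c =>
    ⟨_, hmem c.2.choose⟩
  have hbij : Function.Bijective Φ := by
    constructor
    · intro c d h
      obtain ⟨h1, h2⟩ := c.2.choose_spec
      obtain ⟨h3, h4⟩ := d.2.choose_spec
      refine Subtype.ext ?_
      rw [← h1, ← h3, ConjClasses.mk_eq_mk_iff_isConj]
      exact CfsgLib.Involution.SUSemisimple.isConj_SU hF p _ _ h2 h4 (congrArg Subtype.val h)
    · rintro ⟨P, hP⟩
      obtain ⟨g, hg, hgP⟩ := CfsgLib.Involution.SUSemisimple.exists_of_selfDual hF hσ p hP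
      let c : {c : ConjClasses ↥(Cfsg.SU n F q) // ∃ g, ConjClasses.mk g = c ∧ (orderOf g).Coprime p} :=
        ⟨ConjClasses.mk g, g, rfl, hg⟩
      exact ⟨c, Subtype.ext ((hconj _ _ (ConjClasses.mk_eq_mk_iff_isConj.1 c.2.choose_spec.1)).trans hgP)⟩
  rw [Nat.card_congr (Equiv.ofBijective Φ hbij), CfsgLib.Involution.SUSemisimple.card_selfDual hF hc hn]

end Cfsg.Agent.S2386
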