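import Cfsg.Statements.S2387
import Cfsg.Agent.Lib.KnownA.SemisimpleClassesMatrix

set_option autoImplicit false
open scoped MatrixGroups
open Cfsg

namespace Cfsg.Agent.S2387



/-- In `GL_n(q)` with `n ≥ 1`, `q` a power of the prime `p`, the number of conjugacy classes of elements of order prime to `p` (diagonalisable over the algebraic closure; determined by the characteristic polynomial) is `(q - 1) q^(n-1)`. -/
theorem result {F : Type*} [Field F] [Fintype F] {q : ℕ} (hq : Fintype.card F = q) (p : ℕ) [Fact p.Prime] [CharP F p] (n : ℕ) (hn : 1 ≤ n) :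
    Nat.card {c : ConjClasses (GL (Fin n) F) // ∃ g : GL (Fin n) F, ConjClasses.mk g = c ∧ (orderOf g).Coprime p} = (q - 1) * q ^ (n - 1) := by
  classical
  obtain ⟨k, rfl⟩ : ∃ k, n = k + 1 := ⟨n - 1, by omega⟩
  let G := GL (Fin (k + 1)) F
  let C : Set F := {c | c ≠ 0}
  have hcoeff : ∀ g : G, ((g : Matrix (Fin (k + 1)) (Fin (k + 1)) F).charpoly).coeff 0 ∈ C := by
    intro g h
    have h1 := Matrix.det_eq_sign_charpoly_coeff (g : Matrix (Fin (k + 1)) (Fin (k + 1)) F)
    rw [h, mul_zero] at h1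
    exact ((Matrix.isUnit_iff_isUnit_det _).mp g.isUnit).ne_zero h1
  let Φ : {c : ConjClasses G // ∃ g : G, ConjClasses.mk g = c ∧ (orderOf g).Coprime p} →
      {P : Polynomial F // P.Monic ∧ P.natDegree = k + 1 ∧ P.coeff 0 ∈ C} := fun c =>
    ⟨(c.2.choose : Matrix (Fin (k + 1)) (Fin (k + 1)) F).charpoly, Matrix.charpoly_monic _,
      by rw [Matrix.charpoly_natDegree_eq_dim, Fintype.card_fin], hcoeff _⟩
  have hbij : Function.Bijective Φ := by
    constructor
    · intro c d h
      obtain ⟨h1, h2⟩ := c.2.choose_spec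
      obtain ⟨h3, h4⟩ := d.2.choose_spec
      apply Subtype.ext
      rw [← h1, ← h3, ConjClasses.mk_eq_mk_iff_isConj]
      exact CfsgLib.SemisimpleClasses.isConj_GL p _ _ h2 h4 (congrArg Subtype.val h)
    · rintro ⟨P, hP, hd, hc0⟩
      obtain ⟨M, hM⟩ := CfsgLib.SemisimpleClasses.exists_matrix_charpoly hP hd
      have hu : IsUnit M.det := by
        rw [Matrix.det_eq_sign_charpoly_coeff, hM]
        exact IsUnit.mul ((isUnit_one.neg).pow _) (isUnit_iff_ne_zero.mpr hc0)
      obtain ⟨g, hg⟩ : ∃ g : G, (g : Matrix (Fin (k + 1)) (Fin (k + 1)) F) = M :=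
        (Matrix.isUnit_iff_isUnit_det M).mpr hu
      obtain ⟨s, hs, hsc⟩ := CfsgLib.SemisimpleClasses.exists_coprime_charpoly p
        (Units.coeHom (Matrix (Fin (k + 1)) (Fin (k + 1)) F)) g
      simp only [Units.coeHom_apply, hg, hM] at hsc
      let c : {c : ConjClasses G // ∃ g : G, ConjClasses.mk g = c ∧ (orderOf g).Coprime p} :=
        ⟨ConjClasses.mk s, s, rfl, hs⟩
      refine ⟨c, Subtype.ext ?_⟩
      obtain ⟨u, hu⟩ := isConj_iff.mp (ConjClasses.mk_eq_mk_iff_isConj.mp c.2.choose_spec.1)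
      show (c.2.choose : Matrix (Fin (k + 1)) (Fin (k + 1)) F).charpoly = P
      rw [← hsc, ← hu, Units.val_mul, Units.val_mul, Matrix.coe_units_inv, Matrix.charpoly_units_conj]
  have hC : Nat.card C = q - 1 := by
    rw [Nat.card_eq_fintype_card]
    show Fintype.card {c : F // c ≠ 0} = q - 1
    rw [Fintype.card_subtype_compl, Fintype.card_subtype_eq, hq]
  rw [Nat.card_congr (Equiv.ofBijective Φ hbij), CfsgLib.SemisimpleClasses.card_monic_coeff_zero k C,
    hC, hq, Nat.add_sub_cancel]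

end Cfsg.Agent.S2387
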