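import Cfsg.Statements.S2394
import Cfsg.Agent.Lib.PGroup.TorusDegree
import Cfsg.Agent.Lib.PGroup.BorelSpCentral

set_option autoImplicit false
open scoped MatrixGroups
open Cfsg

namespace Cfsg.Agent.S2394

open Matrix CfsgLib.PGroup CfsgLib.PGroup.BorelSp

variable {F : Type*} [Field F] {n : ℕ}

/-- Root `SL₂`s at different coordinates commute. -/
theorem sl2At_commute {i j : Fin n} (h : i ≠ j) (A B : Matrix.SpecialLinearGroup (Fin 2) F) :
    Commute (sl2At i A : Sp n F) (sl2At j B) := by
  refine Subtype.ext ?_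
  show fromBlocks _ _ _ _ * fromBlocks _ _ _ _ = fromBlocks _ _ _ _ * fromBlocks _ _ _ _
  simp only [fromBlocks_multiply, add_mul, mul_add, one_mul, mul_one,
    Matrix.single_mul_single_of_ne _ _ _ _ h, Matrix.single_mul_single_of_ne _ _ _ _ h.symm, add_zero, zero_add,
    fromBlocks_inj]
  refine ⟨?_, ?_, ?_, ?_⟩ <;> abel

/-- A transposition of coordinates, in the Levi subgroup. -/
theorem exists_swap (i j : Fin n) : ∃ g : Sp n F, ∀ (k : Fin n) (A : Matrix.SpecialLinearGroup (Fin 2) F),
    g * sl2At k A * g⁻¹ = sl2At (Equiv.swap i j k) A := by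
  classical
  set s := Equiv.swap i j with hs
  set P : Matrix (Fin n) (Fin n) F := s.toPEquiv.toMatrix with hP
  have hPP : P * P = 1 := by
    rw [hP, ← PEquiv.toMatrix_trans, ← Equiv.toPEquiv_trans, show s.trans s = Equiv.refl _ from
      Equiv.ext fun x => Equiv.swap_apply_self i j x, Equiv.toPEquiv_refl, PEquiv.toMatrix_refl]
  have hPt : Pᵀ = P := by
    rw [hP, ← PEquiv.toMatrix_symm, ← Equiv.toPEquiv_symm, hs, Equiv.symm_swap]
  let U : GL (Fin n) F := ⟨P, P, hPP, hPP⟩
  refine ⟨lev U, fun k A => mul_inv_eq_iff_eq_mul.2 ?_⟩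
  have hc : ∀ x : F, P * single k k x = single (s k) (s k) x * P := by
    intro x
    rw [hP, PEquiv.toMatrix_toPEquiv_mul, PEquiv.mul_toMatrix_toPEquiv]
    ext a b
    simp only [Matrix.submatrix_apply, id_eq, Matrix.single_apply]
    refine if_congr ?_ rfl rfl
    rw [show s.symm b = s b from by rw [hs, Equiv.symm_swap]]
    constructor
    · rintro ⟨h1, h2⟩
      exact ⟨by rw [h1, hs, Equiv.swap_apply_self], by rw [h2]⟩
    · rintro ⟨h1, h2⟩
      exact ⟨by rw [← h1, hs, Equiv.swap_apply_self], s.injective h2⟩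
  refine Subtype.ext ?_
  show fromBlocks P 0 0 Pᵀ * fromBlocks _ _ _ _ = fromBlocks _ _ _ _ * fromBlocks P 0 0 Pᵀ
  simp [hPt, fromBlocks_multiply, mul_add, add_mul, hc]

theorem sl2At_injective (i : Fin n) : Function.Injective (sl2At i : _ →* Sp n F) := by
  intro A B h
  have h' : fromBlocks _ _ _ _ = fromBlocks _ _ _ _ := congrArg Subtype.val h
  obtain ⟨h1, h2, h3, h4⟩ := fromBlocks_inj.1 h'
  refine Subtype.ext ?_
  ext a b
  fin_cases a <;> fin_cases b
  · simpa using congrFun (congrFun h1 i) i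
  · simpa using congrFun (congrFun h2 i) i
  · simpa using congrFun (congrFun h3 i) i
  · simpa using congrFun (congrFun h4 i) i

/-- An element of `SL₂`. -/
def sl2 (M : Matrix (Fin 2) (Fin 2) F) (h : M.det = 1) : Matrix.SpecialLinearGroup (Fin 2) F := ⟨M, h⟩

theorem sl2_coe (M : Matrix (Fin 2) (Fin 2) F) (h : M.det = 1) : (sl2 M h).1 = M := rfl

theorem sl2_conj {a w : Matrix.SpecialLinearGroup (Fin 2) F} (h : w.1 * a.1 = a.1.adjugate * w.1) :
    w * a * w⁻¹ = a⁻¹ := by
  rw [mul_inv_eq_iff_eq_mul]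
  refine Subtype.ext ?_
  rw [Matrix.SpecialLinearGroup.coe_mul, Matrix.SpecialLinearGroup.coe_mul, Matrix.SpecialLinearGroup.coe_inv]
  exact h

/-- A semisimple element of `SL₂` of order at least three and an element inverting it. -/
theorem exists_torus [Fintype F] : ∃ (m : ℕ) (a w : Matrix.SpecialLinearGroup (Fin 2) F),
    (m : F) ≠ 0 ∧ a ^ m = 1 ∧ a ^ 2 ≠ 1 ∧ w * a * w⁻¹ = a⁻¹ := by
  classical
  have hpow : ∀ (M : Matrix (Fin 2) (Fin 2) F) (h : M.det = 1) (k : ℕ), M ^ k = 1 → sl2 M h ^ k = 1 :=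
    fun M h k hk => Subtype.ext (by rw [Matrix.SpecialLinearGroup.coe_pow, sl2_coe, Matrix.SpecialLinearGroup.coe_one, hk])
  have hsq : ∀ (M : Matrix (Fin 2) (Fin 2) F) (h : M.det = 1), sl2 M h ^ 2 = 1 → M * M = 1 :=
    fun M h hk => by
      have := congrArg Subtype.val hk
      rw [Matrix.SpecialLinearGroup.coe_pow, sl2_coe, sq, Matrix.SpecialLinearGroup.coe_one] at this
      exact this
  by_cases hc : ∃ c : F, c ≠ 0 ∧ c ^ 2 ≠ 1
  · obtain ⟨c, hc0, hc2⟩ := hc
    refine ⟨Fintype.card F - 1, sl2 (diagonal ![c, c⁻¹]) (by simp [det_diagonal, hc0]),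
      sl2 !![0, 1; -1, 0] (by simp [Matrix.det_fin_two]), ?_, hpow _ _ _ ?_, fun h => hc2 ?_, sl2_conj ?_⟩
    · rw [Nat.cast_sub Fintype.card_pos, FiniteField.cast_card_eq_zero]
      simp
    · rw [diagonal_pow, ← diagonal_one]
      congr 1
      funext x
      fin_cases x
      · simp [FiniteField.pow_card_sub_one_eq_one c hc0]
      · simp [FiniteField.pow_card_sub_one_eq_one _ (inv_ne_zero hc0)]
    · have := congrFun (congrFun (hsq _ _ h) 0) 0
      simpa [sq, diagonal_mul_diagonal] using this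
    · rw [sl2_coe, sl2_coe, show diagonal ![c, c⁻¹] = !![c, 0; 0, c⁻¹] from by
        ext x y; fin_cases x <;> fin_cases y <;> simp, Matrix.adjugate_fin_two]
      ext x y
      fin_cases x <;> fin_cases y <;> simp [Matrix.mul_apply, Fin.sum_univ_two]
  · push Not at hc
    have hcard : (2 : F) = 0 ∨ (3 : F) = 0 := by
      by_contra h
      push Not at h
      refine h.2 ?_
      have := hc 2 h.1
      linear_combination this
    rcases hcard with h | h
    · refine ⟨3, sl2 !![0, -1; 1, -1] (by simp [Matrix.det_fin_two]), sl2 !![0, 1; 1, 0]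
        (by simp [Matrix.det_fin_two]; linear_combination -h), ?_, hpow _ _ _ ?_, fun hh => ?_, sl2_conj ?_⟩
      · intro h3; push_cast at h3; exact one_ne_zero (by linear_combination h3 - h : (1 : F) = 0)
      · simp [pow_succ, Matrix.one_fin_two]
      · have := congrFun (congrFun (hsq _ _ hh) 1) 0
        simp [Matrix.mul_apply, Fin.sum_univ_two] at this
      · simp [sl2_coe, Matrix.adjugate_fin_two]
    · refine ⟨4, sl2 !![0, -1; 1, 0] (by simp [Matrix.det_fin_two]), sl2 !![1, 1; 1, -1]
        (by simp [Matrix.det_fin_two]; linear_combination -h), ?_, hpow _ _ _ ?_, fun hh => ?_, sl2_conj ?_⟩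
      · intro h4; push_cast at h4; exact one_ne_zero (by linear_combination h4 - h : (1 : F) = 0)
      · simp [pow_succ, Matrix.one_fin_two]
      · have h0 := congrFun (congrFun (hsq _ _ hh) 0) 0
        simp [Matrix.mul_apply, Fin.sum_univ_two] at h0
        exact one_ne_zero (by linear_combination h + h0 : (1 : F) = 0)
      · simp [sl2_coe, Matrix.adjugate_fin_two]

/-- The smallest degree of a faithful representation of the symplectic group `Sp_{2n}(q)` over its own field `F_q` is `2n`: every injective homomorphism from `Sp_{2n}(F)` to `GL_d(F)`, `F` the field with `q` elements, has `d ≥ 2n`. -/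
theorem result {F : Type*} [Field F] [Fintype F] (n : ℕ) {d : ℕ}
    (ρ : ↥(Matrix.symplecticGroup (Fin n) F) →* GL (Fin d) F) (hρ : Function.Injective ρ) : 2 * n ≤ d := by
  classical
  obtain ⟨m, a, w, hm, ham, ha2, hw⟩ := exists_torus (F := F)
  let K := AlgebraicClosure F
  let φ := algebraMap F K
  have hφ : Function.Injective (Matrix.GeneralLinearGroup.map (n := Fin d) φ) :=
    Units.map_injective (fun A B h => Matrix.map_injective φ.injective h)
  refine TorusDegree.two_mul_le ((Matrix.GeneralLinearGroup.map (n := Fin d) φ).comp ρ) (hφ.comp hρ) (m := m)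
    (by rw [← map_natCast φ]; exact (map_ne_zero φ).2 hm) (fun i => sl2At i a) (fun i j => ?_)
    (fun i => by rw [← map_pow, ham, map_one]) (fun i h => ha2 (sl2At_injective i (by rw [map_pow, h, map_one])))
    (fun i => ⟨sl2At i w, by rw [← map_inv, ← map_mul, ← map_mul, hw, map_inv],
      fun j hj => mul_inv_eq_iff_eq_mul.2 (sl2At_commute hj.symm w a).eq⟩)
    (fun i j => ?_)
  · rcases eq_or_ne i j with rfl | h
    · exact Commute.refl _
    · exact sl2At_commute h a a
  · obtain ⟨g, hg⟩ := exists_swap (F := F) i j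
    exact ⟨g, fun k => hg k a⟩

end Cfsg.Agent.S2394
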