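import Cfsg.Statements.S2400
import Cfsg.Agent.Lib.KGroups.SteinbergStemTrivial
import Cfsg.Agent.Lib.KnownA.SteinbergCert.Univ

set_option autoImplicit false
open Cfsg CfsgLib.Chevalley CfsgLib.KnownA.SteinbergUniv CfsgLib.KGroups.SteinbergStemTrivial

namespace Cfsg.Agent.S2400

/-- Over a finite field `K`, the group presented by Steinberg's relators (R1)–(R3) (the universal Chevalley group) of type E₆ or E₇, or of type B₂ or D₄ with `K` of more than two elements, has trivial Schur multiplier: every finite stem extension of it is an isomorphism (Schur multiplier described through stem extensions as in the definitions). Types G₂, F₄ and E₈ are not covered here. -/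
theorem result {K : Type*} [Field K] [Fintype K] (e : Cfsg.Lie.ChevalleyDatum × ℕ)
    (he : e ∈ [(Cfsg.Lie.chevE6, 0), (Cfsg.Lie.chevE7, 0), (Cfsg.Lie.chevB2, 2), (Cfsg.Lie.chevD4, 2)]) (hK : Fintype.card K ≠ e.2) :
    Cfsg.HasCyclicSchurMultiplier (e.1.SteinbergGroup K) 1 := by
  classical
  obtain ⟨D, k⟩ := e
  simp only [List.mem_cons, List.not_mem_nil, or_false, Prod.mk.injEq] at he
  dsimp only at hK ⊢
  have h5 : ∀ n, n < Fintype.card K → ∃ s : Finset K, n < s.card := fun n h =>
    ⟨Finset.univ, by rwa [Finset.card_univ]⟩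
  have h1 : 1 < Fintype.card K := Fintype.one_lt_card
  rcases he with ⟨rfl, rfl⟩ | ⟨rfl, rfl⟩ | ⟨rfl, rfl⟩ | ⟨rfl, rfl⟩
  · rw [← Data.E6.datum_eq]
    exact hasCyclicSchurMultiplier_one_of_lifts
      ⟨Data.E6.valid, Data.E6.chkComm, Data.E6.chkSorted, Data.E6.chkSplit⟩ e6_chkR3
      (cover_perfect ⟨Data.E6.valid, Data.E6.chkComm, Data.E6.chkSorted, Data.E6.chkSplit⟩
        (fun h => by simp at h) Data.E6.chkPerfect)
      (fun E _ _ _ c _ => ⟨yLift Data.E6.valid Data.E6.chkComm e6_chkLaced c⟩)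
  · rw [← Data.E7.datum_eq]
    exact hasCyclicSchurMultiplier_one_of_lifts
      ⟨Data.E7.valid, Data.E7.chkComm, Data.E7.chkSorted, Data.E7.chkSplit⟩ e7_chkR3
      (cover_perfect ⟨Data.E7.valid, Data.E7.chkComm, Data.E7.chkSorted, Data.E7.chkSplit⟩
        (fun h => by simp at h) Data.E7.chkPerfect)
      (fun E _ _ _ c _ => ⟨yLift Data.E7.valid Data.E7.chkComm e7_chkLaced c⟩)
  · obtain ⟨s, hs⟩ := h5 2 (by omega)
    obtain ⟨x, -, hx⟩ := Finset.exists_mem_notMem_of_card_lt_card
      (show ({0, 1} : Finset K).card < s.card from lt_of_le_of_lt Finset.card_le_two hs)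
    simp only [Finset.mem_insert, Finset.mem_singleton, not_or] at hx
    rw [← Data.B2.datum_eq]
    refine hasCyclicSchurMultiplier_one_of_lifts
      ⟨Data.B2.valid, Data.B2.chkComm, Data.B2.chkSorted, Data.B2.chkSplit⟩ b2_chkR3
      (cover_perfect ⟨Data.B2.valid, Data.B2.chkComm, Data.B2.chkSorted, Data.B2.chkSplit⟩
        (fun _ => ⟨x, hx.1, hx.2⟩) Data.B2.chkPerfect) ?_
    intro E _ _ hE c hrange
    by_cases h : 4 < Fintype.card K
    · obtain ⟨s, hs⟩ := h5 4 h
      have p1 := exists_pow_ne_one_of_card (k := 1) one_pos s hs (by norm_num)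
      have p2 := exists_pow_ne_one_of_card (k := 2) two_pos s hs (by norm_num)
      exact ⟨yLiftT Data.B2.valid Data.B2.chkComm b2_chkTorus ⟨fun k hk => by
        simp [b2Cert] at hk; rcases hk with rfl | rfl <;> assumption,
        fun k hk => by simp [b2Cert] at hk; simp [hk], fun _ => exists_homoth_of_card s hs⟩ c⟩
    · exact b2_hlift (by omega) E hE c hrange
  · rw [← Data.D4.datum_eq]
    refine hasCyclicSchurMultiplier_one_of_lifts
      ⟨Data.D4.valid, Data.D4.chkComm, Data.D4.chkSorted, Data.D4.chkSplit⟩ d4_chkR3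
      (cover_perfect ⟨Data.D4.valid, Data.D4.chkComm, Data.D4.chkSorted, Data.D4.chkSplit⟩
        (fun h => by simp at h) Data.D4.chkPerfect) ?_
    intro E _ _ hE c hrange
    by_cases h : 3 < Fintype.card K
    · obtain ⟨s, hs⟩ := h5 3 h
      have p1 := exists_pow_ne_one_of_card (k := 1) one_pos s hs (by norm_num)
      have p2 := exists_pow_ne_one_of_card (k := 2) two_pos s hs (by norm_num)
      exact ⟨yLiftT Data.D4.valid Data.D4.chkComm d4_chkTorus ⟨fun k hk => by
        simp [d4Cert] at hk; rcases hk with rfl | rfl <;> assumption,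
        fun k hk => by simp [d4Cert] at hk; simp [hk], fun h => by simp [d4Cert] at h⟩ c⟩
    · exact d4_hlift (by omega) E hE c hrange

end Cfsg.Agent.S2400
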