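import Cfsg.Statements.S2405
import Cfsg.Agent.Lib.KnownB.ChevGen.Main
import Cfsg.Agent.Lib.KnownB.ChevGen.Certs
import Cfsg.Agent.Lib.Chevalley.Tables

set_option autoImplicit false
open Cfsg

namespace Cfsg.Agent.S2405

/-- Each Chevalley group of type G₂, B₂, D₄, F₄, E₆, E₇ or E₈ over a finite field is generated by two of its elements (types B₂ and G₂ over the field with two elements, where the group is not simple, excepted). -/
theorem result {F : Type*} [Field F] [Finite F] (D : Cfsg.Lie.ChevalleyDatum) (hD : D ∈ [Cfsg.Lie.chevG2, Cfsg.Lie.chevB2, Cfsg.Lie.chevD4, Cfsg.Lie.chevF4, Cfsg.Lie.chevE6, Cfsg.Lie.chevE7, Cfsg.Lie.chevE8])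
    (hF : D ∈ [Cfsg.Lie.chevB2, Cfsg.Lie.chevG2] → ∃ x : F, x ≠ 0 ∧ x ≠ 1) :
    ∃ a b : ↥(D.group F), Subgroup.closure ({a, b} : Set ↥(D.group F)) = ⊤ := by
  apply CfsgLib.ChevGen.exists_pair_subtype
  have torus : ∀ (T : CfsgLib.Chevalley.Tbl) (w : List ℕ) (al be de g : ℕ)
      (st : List (ℕ × ℕ × ℕ × ℕ × ℕ)), T.Valid → T.chkComm = true →
      T.chkGenTorus w al be de g st = true → (∃ x : F, x ≠ 0 ∧ x ≠ 1) → T.datum = D →
      ∃ a ∈ D.group F, ∃ b ∈ D.group F, Subgroup.closure ({a, b} : Set (GL D.Idx F)) = D.group F := by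
    intro T w al be de g st hT hC hc hx e
    subst e
    exact CfsgLib.ChevGen.exists_pair_torus hT hC hc hx
  have two : ∀ (T : CfsgLib.Chevalley.Tbl) (w : List ℕ) (i g : ℕ)
      (st : List (ℕ × ℕ × ℕ × ℕ × ℕ)), T.Valid → T.chkComm = true →
      T.chkGenTwo w i g st = true → (¬ ∃ x : F, x ≠ 0 ∧ x ≠ 1) → T.datum = D →
      ∃ a ∈ D.group F, ∃ b ∈ D.group F, Subgroup.closure ({a, b} : Set (GL D.Idx F)) = D.group F := by
    intro T w i g st hT hC hc hx e
    subst e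
    exact CfsgLib.ChevGen.exists_pair_two hT hC hc fun c => by
      by_contra h
      push Not at h
      exact hx ⟨c, h⟩
  simp only [List.mem_cons, List.not_mem_nil, or_false] at hD hF
  open CfsgLib.Chevalley.Data in
  rcases hD with rfl | rfl | rfl | rfl | rfl | rfl | rfl
  · exact torus _ _ _ _ _ _ _ G2.valid G2.chkComm G2.genTorus (hF (Or.inr rfl)) G2.datum_eq
  · exact torus _ _ _ _ _ _ _ B2.valid B2.chkComm B2.genTorus (hF (Or.inl rfl)) B2.datum_eq
  · by_cases hx : ∃ x : F, x ≠ 0 ∧ x ≠ 1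
    · exact torus _ _ _ _ _ _ _ D4.valid D4.chkComm D4.genTorus hx D4.datum_eq
    · exact two _ _ _ _ _ D4.valid D4.chkComm D4.genTwo hx D4.datum_eq
  · by_cases hx : ∃ x : F, x ≠ 0 ∧ x ≠ 1
    · exact torus _ _ _ _ _ _ _ F4.valid F4.chkComm F4.genTorus hx F4.datum_eq
    · exact two _ _ _ _ _ F4.valid F4.chkComm F4.genTwo hx F4.datum_eq
  · by_cases hx : ∃ x : F, x ≠ 0 ∧ x ≠ 1
    · exact torus _ _ _ _ _ _ _ E6.valid E6.chkComm E6.genTorus hx E6.datum_eq
    · exact two _ _ _ _ _ E6.valid E6.chkComm E6.genTwo hx E6.datum_eq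
  · by_cases hx : ∃ x : F, x ≠ 0 ∧ x ≠ 1
    · exact torus _ _ _ _ _ _ _ E7.valid E7.chkComm E7.genTorus hx E7.datum_eq
    · exact two _ _ _ _ _ E7.valid E7.chkComm E7.genTwo hx E7.datum_eq
  · by_cases hx : ∃ x : F, x ≠ 0 ∧ x ≠ 1
    · exact torus _ _ _ _ _ _ _ E8.valid E8.chkComm E8.genTorus hx E8.datum_eq
    · exact two _ _ _ _ _ E8.valid E8.chkComm E8.genTwo hx E8.datum_eq

end Cfsg.Agent.S2405
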