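import Cfsg.Statements.S2410
import Cfsg.Agent.Lib.KnownB.SuzukiTransfer

set_option autoImplicit false
open Cfsg CfsgLib.KnownB.Suzuki CfsgLib.KnownB.SzElem

namespace Cfsg.Agent.S2410

/-- The Suzuki group over the field with `2^(2m+1)` elements, `m ≥ 1` (realised as the stabiliser in `SL₄` of the Suzuki–Tits ovoid), is generated by two of its elements. -/
theorem result {F : Type*} [Field F] [Fintype F] {m : ℕ} (hm : 1 ≤ m) (hF : Fintype.card F = 2 ^ (2 * m + 1)) :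
    ∃ a b : ↥(Cfsg.Sz F m), Subgroup.closure ({a, b} : Set ↥(Cfsg.Sz F m)) = ⊤ := by
  obtain ⟨he, φ, -⟩ := exists_equiv_of_card hm hF
  obtain ⟨g, hg⟩ := IsCyclic.exists_generator (α := Fˣ)
  refine ⟨φ (H _ he g), φ (CfsgLib.KnownB.Suzuki.P he 1 0 * W he), ?_⟩
  set K := Subgroup.closure ({H _ he g, CfsgLib.KnownB.Suzuki.P he 1 0 * W he} : Set (Cfsg.Lie.Sz F (2 ^ (m + 1)))) with hK
  have hmap : Subgroup.closure ({φ (H _ he g), φ (CfsgLib.KnownB.Suzuki.P he 1 0 * W he)} : Set ↥(Cfsg.Sz F m)) =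
      K.map φ.toMonoidHom := by
    rw [hK, MonoidHom.map_closure, Set.image_pair]
    rfl
  rw [hmap]
  suffices hKt : K = ⊤ by rw [hKt, Subgroup.map_top_of_surjective _ φ.surjective]
  have h2 := he.two
  have h0 : (0 : F) ^ (2 ^ (m + 1)) = 0 := zero_pow (by positivity)
  have hH : ∀ t, H _ he t ∈ K := by
    intro t
    obtain ⟨n, rfl⟩ := hg t
    have hh : H _ he (g ^ n) = H _ he g ^ n := map_zpow
      ({ toFun := H _ he, map_one' := H_one he, map_mul' := fun s t => (H_mul he s t).symm } :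
        Fˣ →* Cfsg.Lie.Sz F (2 ^ (m + 1))) g n
    rw [hh]
    exact zpow_mem (Subgroup.subset_closure (Set.mem_insert _ _)) n
  have hb : CfsgLib.KnownB.Suzuki.P he 1 0 * W he ∈ K := Subgroup.subset_closure (Set.mem_insert_of_mem _ rfl)
  obtain ⟨u, hu⟩ := exists_unit_ne_one hm hF
  have hx : CfsgLib.KnownB.Suzuki.P he (1 + (u : F) ^ (2 ^ (m + 1))) ((u : F) ^ (2 ^ (m + 1) + 2) + (u : F) ^ (2 ^ (m + 1))) ∈ K := by
    have h := mul_mem (mul_mem (mul_mem hb (hH u⁻¹)) (inv_mem hb)) (hH u⁻¹)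
    convert h using 1
    rw [_root_.mul_inv_rev, W_inv]
    have e1 : CfsgLib.KnownB.Suzuki.P he 1 0 * W he * H _ he u⁻¹ * (W he * (CfsgLib.KnownB.Suzuki.P he 1 0)⁻¹) * H _ he u⁻¹ =
        CfsgLib.KnownB.Suzuki.P he 1 0 * (H _ he u * (CfsgLib.KnownB.Suzuki.P he 1 0)⁻¹ * (H _ he u)⁻¹) := by
      rw [← H_inv he u]
      conv_rhs => rw [show H _ he u = W he * (H _ he u)⁻¹ * W he by rw [H_inv, W_conj_H, inv_inv]]
      simp only [mul_assoc, _root_.mul_inv_rev, W_inv, inv_inv]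
      rw [H_conj_W, ← mul_assoc (W he) (W he), W_mul_W, one_mul, H_inv]
    rw [e1, P_inv, H_conj_P, P_mul]
    congr 1 <;> simp [h0]
  have hne : 1 + (u : F) ^ (2 ^ (m + 1)) ≠ 0 := fun h => hu (Units.ext
    (by rw [Units.val_one]; exact eq_one_of_pow_e he (by linear_combination h - h2)))
  have hA : ∀ a, ∃ b, CfsgLib.KnownB.Suzuki.P he a b ∈ K := by
    intro a
    rcases eq_or_ne a 0 with rfl | ha
    · exact ⟨0, by rw [P_zero]; exact one_mem _⟩
    obtain ⟨s, hs⟩ := (units_pow_e_bijective he).2 (Units.mk0 a ha / Units.mk0 _ hne)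
    have h := mul_mem (mul_mem (hH s) hx) (inv_mem (hH s))
    rw [H_conj_P] at h
    have hs' : (s : F) ^ (2 ^ (m + 1)) = a / (1 + (u : F) ^ (2 ^ (m + 1))) := by
      simpa using congrArg Units.val hs
    rw [hs', div_mul_cancel₀ _ hne] at h
    exact ⟨_, h⟩
  obtain ⟨c, hc⟩ := exists_pow_ne he hm hF
  have hZ : ∀ z, CfsgLib.KnownB.Suzuki.P he 0 z ∈ K := by
    intro z
    rcases eq_or_ne z 0 with rfl | hz
    · rw [P_zero]; exact one_mem _
    obtain ⟨b₁, hb₁⟩ := hA 1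
    obtain ⟨b₂, hb₂⟩ := hA c
    have h := mul_mem (mul_mem (mul_mem hb₁ hb₂) (inv_mem hb₁)) (inv_mem hb₂)
    have hd : c + c ^ (2 ^ (m + 1)) ≠ 0 := fun h => hc (by linear_combination h - h2 * c)
    have e1 : CfsgLib.KnownB.Suzuki.P he 1 b₁ * CfsgLib.KnownB.Suzuki.P he c b₂ * (CfsgLib.KnownB.Suzuki.P he 1 b₁)⁻¹ * (CfsgLib.KnownB.Suzuki.P he c b₂)⁻¹ =
        CfsgLib.KnownB.Suzuki.P he 0 (c + c ^ (2 ^ (m + 1))) := by
      rw [P_inv, P_inv, P_mul, P_mul, P_mul]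
      simp only [he.add_pow, one_pow]
      congr 1 <;> grind
    rw [e1] at h
    obtain ⟨s, hs⟩ := (units_pow_e2_bijective he).2 (Units.mk0 z hz / Units.mk0 _ hd)
    have h3 := mul_mem (mul_mem (hH s) h) (inv_mem (hH s))
    have hs' : (s : F) ^ (2 ^ (m + 1) + 2) = z / (c + c ^ (2 ^ (m + 1))) := by
      simpa using congrArg Units.val hs
    rw [H_conj_P, mul_zero, hs', div_mul_cancel₀ _ hd] at h3
    exact h3
  have hCfsgLib.KnownB.Suzuki.P : ∀ a b, CfsgLib.KnownB.Suzuki.P he a b ∈ K := by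
    intro a b
    obtain ⟨b', hb'⟩ := hA a
    have h := mul_mem (hZ (b + b')) hb'
    rwa [P_mul, zero_add, h0, zero_mul, add_zero, show b + b' + b' = b by linear_combination h2 * b'] at h
  refine closure_gen he K hCfsgLib.KnownB.Suzuki.P hH ?_
  have := mul_mem (inv_mem (hCfsgLib.KnownB.Suzuki.P 1 0)) hb
  rwa [inv_mul_cancel_left] at this

end Cfsg.Agent.S2410
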