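import Cfsg.Statements.S2418
import Cfsg.Agent.Lib.KnownA.CoxeterGenCerts
-- import your own Cfsg.Agent.* helpers here

set_option autoImplicit false
open Cfsg

namespace Cfsg.Agent.S2418

/-- For the Coxeter groups of types B₂, G₂, D₄, F₄, E₇, E₈ the centre has order 2 (the element acting as −1 on the root system) and is generated by a power of the Coxeter element `s₁ s₂ ⋯ s_l`; the Coxeter group of type E₆ has trivial centre. -/
theorem result (c : (Σ n : ℕ, CoxeterMatrix (Fin n)) × ℕ)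
    (hc : c ∈ [(⟨2, CoxeterMatrix.B 2⟩, 2), (⟨2, CoxeterMatrix.G₂⟩, 2), (⟨4, Cfsg.Lie.coxeterD4⟩, 2), (⟨4, CoxeterMatrix.F₄⟩, 2),
      (⟨6, CoxeterMatrix.E₆⟩, 1), (⟨7, CoxeterMatrix.E₇⟩, 2), (⟨8, CoxeterMatrix.E₈⟩, 2)]) :
    Nat.card (Subgroup.center c.1.2.Group) = c.2 ∧
      Subgroup.center c.1.2.Group ≤ Subgroup.zpowers ((List.finRange c.1.1).map c.1.2.simple).prod := by
  
  simp only [List.mem_cons, List.not_mem_nil, or_false] at hc
  rcases hc with rfl | rfl | rfl | rfl | rfl | rfl | rfl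
  · exact CfsgLib.KnownA.CoxeterGen.center_two CfsgLib.Chevalley.Data.B2.valid _ CfsgLib.Chevalley.Data.B2.coxOrd CfsgLib.KnownA.CoxeterGen.B2_chkFix CfsgLib.Chevalley.Data.B2.chkConn CfsgLib.KnownA.CoxeterGen.B2_chkMinus
  · exact CfsgLib.KnownA.CoxeterGen.center_two CfsgLib.Chevalley.Data.G2.valid _ CfsgLib.Chevalley.Data.G2.coxOrd CfsgLib.KnownA.CoxeterGen.G2_chkFix CfsgLib.Chevalley.Data.G2.chkConn CfsgLib.KnownA.CoxeterGen.G2_chkMinus
  · exact CfsgLib.KnownA.CoxeterGen.center_two CfsgLib.Chevalley.Data.D4.valid _ CfsgLib.Chevalley.Data.D4.coxOrd CfsgLib.KnownA.CoxeterGen.D4_chkFix CfsgLib.Chevalley.Data.D4.chkConn CfsgLib.KnownA.CoxeterGen.D4_chkMinus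
  · exact CfsgLib.KnownA.CoxeterGen.center_two CfsgLib.Chevalley.Data.F4.valid _ CfsgLib.Chevalley.Data.F4.coxOrd CfsgLib.KnownA.CoxeterGen.F4_chkFix CfsgLib.Chevalley.Data.F4.chkConn CfsgLib.KnownA.CoxeterGen.F4_chkMinus
  · exact CfsgLib.KnownA.CoxeterGen.center_one CfsgLib.Chevalley.Data.E6.valid _ CfsgLib.Chevalley.Data.E6.coxOrd CfsgLib.KnownA.CoxeterGen.E6_chkFix CfsgLib.Chevalley.Data.E6.chkConn CfsgLib.KnownA.CoxeterGen.E6_chkNoMinus
  · exact CfsgLib.KnownA.CoxeterGen.center_two CfsgLib.Chevalley.Data.E7.valid _ CfsgLib.Chevalley.Data.E7.coxOrd CfsgLib.KnownA.CoxeterGen.E7_chkFix CfsgLib.Chevalley.Data.E7.chkConn CfsgLib.KnownA.CoxeterGen.E7_chkMinus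
  · exact CfsgLib.KnownA.CoxeterGen.center_two CfsgLib.Chevalley.Data.E8.valid _ CfsgLib.Chevalley.Data.E8.coxOrd CfsgLib.KnownA.CoxeterGen.E8_chkFix CfsgLib.Chevalley.Data.E8.chkConn CfsgLib.KnownA.CoxeterGen.E8_chkMinus

end Cfsg.Agent.S2418
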