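import Cfsg.Statements.S2426
import Cfsg.Agent.Lib.KnownB.Pres.Steinberg
import Cfsg.Agent.Lib.Classical.SL2Sylow

set_option autoImplicit false
open Cfsg CfsgLib.SL2Pres

namespace Cfsg.Agent.S2426

/-- The rank-one Steinberg presentation of `SL₂` over a finite field `K`: generators `x(t)`, `y(t)` (`t ∈ K`; the two opposite root subgroups) subject to additivity `x(t)x(u) = x(t+u)`, `y(t)y(u) = y(t+u)` and, with `w(t) = x(t) y(−t⁻¹) x(t)` and `w'(t) = y(t) x(−t⁻¹) y(t)` for `t ≠ 0`, the relations `w(t) x(u) w(t)⁻¹ = y(−t⁻² u)` and `w'(t) y(u) w'(t)⁻¹ = x(−t⁻² u)`, present `SL₂(K)`, with `x(t) ↦ (1 t; 0 1)` and `y(t) ↦ (1 0; t 1)`. -/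
theorem result {K : Type*} [Field K] [Finite K] :
    ∃ e : PresentedGroup
        ({g : FreeGroup (Bool × K) | ∃ (b : Bool) (t u : K), g = FreeGroup.of (b, t) * FreeGroup.of (b, u) * (FreeGroup.of (b, t + u))⁻¹} ∪
          {g | ∃ (b : Bool) (t u : K), t ≠ 0 ∧
            g = (FreeGroup.of (b, t) * FreeGroup.of (!b, -t⁻¹) * FreeGroup.of (b, t)) * FreeGroup.of (b, u) *
                  (FreeGroup.of (b, t) * FreeGroup.of (!b, -t⁻¹) * FreeGroup.of (b, t))⁻¹ * (FreeGroup.of (!b, -(t⁻¹ ^ 2 * u)))⁻¹})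
        ≃* Matrix.SpecialLinearGroup (Fin 2) K,
      (∀ t : K, ((e (PresentedGroup.of (true, t)) : Matrix (Fin 2) (Fin 2) K)) = !![1, t; 0, 1]) ∧
      (∀ t : K, ((e (PresentedGroup.of (false, t)) : Matrix (Fin 2) (Fin 2) K)) = !![1, 0; t, 1]) := by
  classical
  cases nonempty_fintype K
  let mkY : K → Matrix.SpecialLinearGroup (Fin 2) K := fun t =>
    (⟨!![1, 0; t, 1], by simp [Matrix.det_fin_two]⟩ : {A : Matrix (Fin 2) (Fin 2) K // A.det = 1})
  have hY : ∀ t, ((mkY t : Matrix.SpecialLinearGroup (Fin 2) K) : Matrix (Fin 2) (Fin 2) K) = !![1, 0; t, 1] :=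
    fun t => rfl
  have hX : ∀ t, ((CfsgLib.Classical.uSL (Multiplicative.ofAdd t) : Matrix.SpecialLinearGroup (Fin 2) K) :
      Matrix (Fin 2) (Fin 2) K) = !![1, t; 0, 1] := CfsgLib.Classical.uSL_coe
  let f : Bool × K → Matrix.SpecialLinearGroup (Fin 2) K := fun a =>
    if a.1 then CfsgLib.Classical.uSL (Multiplicative.ofAdd a.2) else mkY a.2
  set R : Set (FreeGroup (Bool × K)) :=
        ({g : FreeGroup (Bool × K) | ∃ (b : Bool) (t u : K), g = FreeGroup.of (b, t) * FreeGroup.of (b, u) * (FreeGroup.of (b, t + u))⁻¹} ∪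
          {g | ∃ (b : Bool) (t u : K), t ≠ 0 ∧
            g = (FreeGroup.of (b, t) * FreeGroup.of (!b, -t⁻¹) * FreeGroup.of (b, t)) * FreeGroup.of (b, u) *
                  (FreeGroup.of (b, t) * FreeGroup.of (!b, -t⁻¹) * FreeGroup.of (b, t))⁻¹ * (FreeGroup.of (!b, -(t⁻¹ ^ 2 * u)))⁻¹})
    with hR
  have hrel : ∀ r ∈ R, FreeGroup.lift f r = 1 := by
    intro r hr
    rw [hR] at hr
    rcases hr with ⟨b, t, u, rfl⟩ | ⟨b, t, u, ht, rfl⟩
    · simp only [map_mul, map_inv, FreeGroup.lift_apply_of, mul_inv_eq_one]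
      apply Matrix.SpecialLinearGroup.ext
      intro i j
      cases b <;> simp only [f, Bool.false_eq_true, ↓reduceIte, Matrix.SpecialLinearGroup.coe_mul, hX, hY] <;>
        fin_cases i <;> fin_cases j <;> simp [Matrix.mul_apply, Fin.sum_univ_two, add_comm]
    · simp only [map_mul, map_inv, FreeGroup.lift_apply_of, mul_inv_eq_one, mul_inv_eq_iff_eq_mul]
      apply Matrix.SpecialLinearGroup.ext
      intro i j
      cases b <;> simp only [f, Bool.not_false, Bool.not_true, Bool.false_eq_true, ↓reduceIte,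
          Matrix.SpecialLinearGroup.coe_mul, hX, hY] <;>
        fin_cases i <;> fin_cases j <;> simp [Matrix.mul_apply, Fin.sum_univ_two, ht] <;> field_simp <;> ring_nf <;> simp
  let ψ := PresentedGroup.toGroup (rels := R) (f := f) hrel
  have hof : ∀ a, ψ (PresentedGroup.of a) = f a := fun a => PresentedGroup.toGroup.of _
  have hsurj : Function.Surjective ψ := by
    rw [← MonoidHom.range_eq_top]
    refine CfsgLib.Classical.sl2_transvections_generate _ (fun c => ⟨PresentedGroup.of (true, c), ?_⟩)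
      (fun c => ⟨PresentedGroup.of (false, c), ?_⟩)
    · rw [hof]
      rfl
    · rw [hof]
      apply Matrix.SpecialLinearGroup.ext
      intro i j
      simp only [f, Bool.false_eq_true, ↓reduceIte, hY, Matrix.SpecialLinearGroup.transvection]
      fin_cases i <;> fin_cases j <;> simp [Matrix.transvection, Matrix.single]
  have hS : Stein (fun b t => (PresentedGroup.of (b, t) : PresentedGroup R)) := by
    constructor
    · intro b t u
      have := PresentedGroup.one_of_mem (rels := R) (by rw [hR]; exact Or.inl ⟨b, t, u, rfl⟩)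
      rw [map_mul, map_mul, map_inv, mul_inv_eq_one] at this
      exact this
    · intro b t u ht
      have := PresentedGroup.one_of_mem (rels := R) (by rw [hR]; exact Or.inr ⟨b, t, u, ht, rfl⟩)
      simp only [map_mul, map_inv, mul_inv_eq_one] at this
      exact this
    · convert PresentedGroup.closure_range_of R
      rfl
  obtain ⟨hfin, hle⟩ := hS.card_le
  haveI := hfin
  have hsl : Nat.card (Matrix.SpecialLinearGroup (Fin 2) K) = (Nat.card K - 1) * Nat.card K * (Nat.card K + 1) := by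
    rw [CfsgLib.Classical.card_sl2 rfl, Nat.card_eq_fintype_card (α := K)]
    obtain ⟨r, hr⟩ : ∃ r, Fintype.card K = r + 1 := ⟨Fintype.card K - 1, by have := Fintype.card_pos (α := K); omega⟩
    have e : (r + 1) ^ 2 - 1 = r * (r + 2) := by
      rw [show (r + 1) ^ 2 = r * (r + 2) + 1 by ring, Nat.add_sub_cancel]
    rw [hr, Nat.add_sub_cancel, e]
    ring
  refine ⟨MulEquiv.ofBijective ψ (hsurj.bijective_of_nat_card_le (hle.trans hsl.ge)), fun t => ?_, fun t => ?_⟩
  · rw [MulEquiv.ofBijective_apply, hof]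
    exact hX t
  · rw [MulEquiv.ofBijective_apply, hof]
    exact hY t

end Cfsg.Agent.S2426
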