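import Cfsg.Statements.S2427
-- import your own Cfsg.Agent.* helpers here

set_option autoImplicit false
open Cfsg
open scoped commutatorElement

namespace Cfsg.Agent.S2427

/-- The group SL₂(3). -/
abbrev G := Matrix.SpecialLinearGroup (Fin 2) (ZMod 3)

def A : G := ⟨!![0, -1; 1, 0], by decide⟩

def X : G := ⟨!![1, 1; 1, -1], by decide⟩

def f : QuaternionGroup 2 → G
  | .a i => A ^ i.val
  | .xa i => X * A ^ i.val

theorem f_mul : ∀ q r, f (q * r) = f q * f r := by decide +kernel
theorem f_inj : Function.Injective f := by decide +kernel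
theorem f_normal : ∀ g : G, ∀ q, ∃ r, g * f q = f r * g := by decide +kernel
theorem card_G : Fintype.card G = 24 := by decide +kernel
theorem f_comm : ∀ q, ∃ g h : G, g * h = f q * (h * g) := by decide +kernel
theorem f_gen : ∀ g : G, (∃ h, g * h ≠ h * g) →
    ∀ q, ∃ q₁ q₂, q₁ * q₂ = q ∧ (∃ h, g * h = f q₁ * (h * g)) ∧ ∃ h, g * h = f q₂ * (h * g) := by
  decide +kernel
theorem card_centre : Fintype.card {g : G // ∀ h, g * h = h * g} = 2 := by decide +kernel

/-- The quaternion subgroup. -/
def Q : Subgroup G := (MonoidHom.mk' f f_mul).range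

theorem Q_normal : Q.Normal := ⟨fun x hx g => by
  obtain ⟨q, rfl⟩ := hx
  obtain ⟨r, hr⟩ := f_normal g q
  exact ⟨r, (mul_inv_eq_iff_eq_mul.2 hr).symm⟩⟩

theorem card_Q : Nat.card Q = 8 := by
  rw [Q, ← Nat.card_congr (MonoidHom.ofInjective (f := MonoidHom.mk' f f_mul) f_inj).toEquiv,
    Nat.card_eq_fintype_card, QuaternionGroup.card]

theorem index_Q : Q.index = 3 := by
  have h := Q.index_mul_card
  rw [card_Q, Nat.card_eq_fintype_card, card_G] at h
  omega

theorem commutator_eq : commutator G = Q := by
  refine le_antisymm ?_ ?_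
  · haveI := Q_normal
    have : IsCyclic (G ⧸ Q) := isCyclic_of_prime_card (p := 3) (hp := ⟨Nat.prime_three⟩)
      (by rw [← Subgroup.index_eq_card, index_Q])
    let _ := IsCyclic.commGroup (α := G ⧸ Q)
    rw [← QuotientGroup.ker_mk' Q]
    exact Abelianization.commutator_subset_ker _ (G := G) (A := G ⧸ Q)
  · rintro _ ⟨q, rfl⟩
    obtain ⟨g, h, hgh⟩ := f_comm q
    have e : ⁅g, h⁆ = f q := by rw [commutatorElement_def, hgh]; group
    show f q ∈ commutator G
    rw [← e]
    exact Subgroup.commutator_mem_commutator (Subgroup.mem_top g) (Subgroup.mem_top h)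

theorem card_center : Nat.card (Subgroup.center G) = 2 :=
  ((Nat.card_congr (Equiv.subtypeEquivRight fun g : G => by
      rw [Subgroup.mem_center_iff]; exact ⟨fun h x => (h x).symm, fun h x => (h x).symm⟩)).trans
    Nat.card_eq_fintype_card).trans card_centre

theorem normal_cases (N : Subgroup G) (hN : N.Normal) :
    N = ⊥ ∨ N = ⊤ ∨ N = Subgroup.center G ∨ N = Q := by
  by_cases hc : N ≤ Subgroup.center G
  · have hdvd := Subgroup.card_dvd_of_le hc
    have h2 := card_center
    rw [h2] at hdvd
    rcases (Nat.dvd_prime Nat.prime_two).1 hdvd with h | h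
    · exact Or.inl (Subgroup.card_eq_one.1 h)
    · exact Or.inr (Or.inr (Or.inl (Subgroup.eq_of_le_of_card_ge hc (by rw [h, h2]))))
  · obtain ⟨g, hg, hgc⟩ := Set.not_subset.1 hc
    have hQ : Q ≤ N := by
      rintro _ ⟨q, rfl⟩
      have hne : ∃ h, g * h ≠ h * g := by
        by_contra hcon
        push Not at hcon
        exact hgc (Subgroup.mem_center_iff.2 fun h => (hcon h).symm)
      obtain ⟨q₁, q₂, rfl, ⟨h₁, e₁⟩, h₂, e₂⟩ := f_gen g hne q
      have hm : ∀ q h, g * h = f q * (h * g) → f q ∈ N := by
        intro q h e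
        have e' : g * (h * g⁻¹ * h⁻¹) = f q := by rw [← mul_assoc, ← mul_assoc, e]; group
        rw [← e']
        exact mul_mem hg (hN.conj_mem _ (inv_mem hg) h)
      show f (q₁ * q₂) ∈ N
      rw [f_mul]
      exact mul_mem (hm _ _ e₁) (hm _ _ e₂)
    have h1 := Subgroup.relIndex_mul_index hQ
    rw [index_Q] at h1
    rcases (Nat.dvd_prime Nat.prime_three).1 (Dvd.intro_left _ h1) with h | h
    · exact Or.inr (Or.inl (Subgroup.index_eq_one.1 h))
    · have h2 : Q.relIndex N = 1 := by rw [h] at h1; omega
      exact Or.inr (Or.inr (Or.inr (le_antisymm (Subgroup.relIndex_eq_one.1 h2) hQ)))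


/-- The group SL₂ over the field with 3 elements has order 24 and centre of order 2; its commutator subgroup has order 8, is isomorphic to the quaternion group of order 8 and is complemented by every Sylow 3-subgroup (so the group is a semidirect product of a quaternion group of order 8 by a cyclic group of order 3); and its only normal subgroups besides the trivial subgroup and the whole group are the centre and the commutator subgroup. -/
theorem result :
    Nat.card (Matrix.SpecialLinearGroup (Fin 2) (ZMod 3)) = 24 ∧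
    Nat.card (Subgroup.center (Matrix.SpecialLinearGroup (Fin 2) (ZMod 3))) = 2 ∧
    Nat.card (commutator (Matrix.SpecialLinearGroup (Fin 2) (ZMod 3))) = 8 ∧
    Nonempty (commutator (Matrix.SpecialLinearGroup (Fin 2) (ZMod 3)) ≃* QuaternionGroup 2) ∧
    (∀ P : Sylow 3 (Matrix.SpecialLinearGroup (Fin 2) (ZMod 3)),
      Subgroup.IsComplement' (commutator (Matrix.SpecialLinearGroup (Fin 2) (ZMod 3)))
        (P : Subgroup (Matrix.SpecialLinearGroup (Fin 2) (ZMod 3)))) ∧
    ∀ N : Subgroup (Matrix.SpecialLinearGroup (Fin 2) (ZMod 3)), N.Normal →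
      N = ⊥ ∨ N = ⊤ ∨ N = Subgroup.center (Matrix.SpecialLinearGroup (Fin 2) (ZMod 3)) ∨
        N = commutator (Matrix.SpecialLinearGroup (Fin 2) (ZMod 3)) := by
  refine ⟨by rw [Nat.card_eq_fintype_card]; exact card_G, ?_, by rw [commutator_eq, card_Q], ?_, ?_, ?_⟩
  · exact card_center
  · rw [commutator_eq]
    exact ⟨(MonoidHom.ofInjective (f := MonoidHom.mk' f f_mul) f_inj).symm⟩
  · intro P
    have : Fact (Nat.Prime 3) := ⟨Nat.prime_three⟩
    rw [commutator_eq]
    have hP : Nat.card (P : Subgroup G) = 3 := by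
      rw [P.card_eq_multiplicity, Nat.card_eq_fintype_card, card_G]
      rw [show (24 : ℕ) = 3 ^ 1 * 8 by rfl, Nat.factorization_mul (by norm_num) (by norm_num),
        Finsupp.add_apply, Nat.prime_three.factorization_pow, Finsupp.single_eq_same,
        Nat.factorization_eq_zero_of_not_dvd (by norm_num : ¬ 3 ∣ 8)]
      rfl
    exact Subgroup.isComplement'_of_coprime (by rw [card_Q, hP, Nat.card_eq_fintype_card, card_G])
      (by rw [card_Q, hP]; decide)
  · intro N hN
    rw [commutator_eq]
    exact normal_cases N hN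

end Cfsg.Agent.S2427
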