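import Cfsg.Statements.S2428
import Cfsg.Agent.Lib.KnownA.SL2Torus.Exist

set_option autoImplicit false
open Cfsg

namespace Cfsg.Agent.S2428

/-- Let F be a finite field with q elements, q odd, and let d be a diagonal element of SL₂ over F whose diagonal entry a has a² ≠ 1 (such d exist exactly when q > 3). Then the centraliser of d is precisely the diagonal subgroup T; the normaliser of T has order 2(q − 1) and exactly (q + 5)/2 conjugacy classes; and every element of that normaliser outside T has square equal to −1. -/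
theorem result {F : Type*} [Field F] [Fintype F] (hodd : Odd (Fintype.card F))
    (d : Matrix.SpecialLinearGroup (Fin 2) F) (hd01 : (d : Matrix (Fin 2) (Fin 2) F) 0 1 = 0) (hd10 : (d : Matrix (Fin 2) (Fin 2) F) 1 0 = 0) (hda : (d : Matrix (Fin 2) (Fin 2) F) 0 0 ^ 2 ≠ 1) :
    (∀ g : Matrix.SpecialLinearGroup (Fin 2) F, g ∈ Subgroup.centralizer ({d} : Set (Matrix.SpecialLinearGroup (Fin 2) F)) ↔ ((g : Matrix (Fin 2) (Fin 2) F) 0 1 = 0 ∧ (g : Matrix (Fin 2) (Fin 2) F) 1 0 = 0)) ∧
    Nat.card (Subgroup.normalizer ((Subgroup.centralizer ({d} : Set (Matrix.SpecialLinearGroup (Fin 2) F))) : Set (Matrix.SpecialLinearGroup (Fin 2) F))) = 2 * (Fintype.card F - 1) ∧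
    Nat.card (ConjClasses (Subgroup.normalizer ((Subgroup.centralizer ({d} : Set (Matrix.SpecialLinearGroup (Fin 2) F))) : Set (Matrix.SpecialLinearGroup (Fin 2) F)))) = (Fintype.card F + 5) / 2 ∧
    ∀ g : Matrix.SpecialLinearGroup (Fin 2) F, g ∈ Subgroup.normalizer ((Subgroup.centralizer ({d} : Set (Matrix.SpecialLinearGroup (Fin 2) F))) : Set (Matrix.SpecialLinearGroup (Fin 2) F)) →
      g ∉ Subgroup.centralizer ({d} : Set (Matrix.SpecialLinearGroup (Fin 2) F)) → ((g * g) : Matrix (Fin 2) (Fin 2) F) = -1 := by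
  classical
  have h2 := CfsgLib.KnownA.SL2Torus.two_ne_zero_of_odd' hodd
  have hdet := CfsgLib.KnownB.GL2.sl_det d
  rw [Matrix.det_fin_two, hd01, zero_mul, sub_zero] at hdet
  have hne : (d : Matrix (Fin 2) (Fin 2) F) 0 0 ≠ (d : Matrix (Fin 2) (Fin 2) F) 1 1 := fun e => by
    rw [← e] at hdet
    exact hda (by rw [sq]; exact hdet)
  have hC : Subgroup.centralizer ({d} : Set (Matrix.SpecialLinearGroup (Fin 2) F)) =
      (CfsgLib.KnownA.SL2Torus.diagHom (F := F)).range := Subgroup.ext fun x => by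
    rw [CfsgLib.KnownA.SL2Torus.centralizer_diag hd01 hd10 hne, CfsgLib.KnownA.SL2Torus.mem_diag]
  have h4 : 4 ≤ Fintype.card F := by
    obtain ⟨m, hm1, hm⟩ := CfsgLib.KnownA.SL2Torus.even_minus hodd
    rcases eq_or_lt_of_le hm1 with e | e
    · exfalso
      have h0 : (d : Matrix (Fin 2) (Fin 2) F) 0 0 ≠ 0 := fun h0 => by simp [h0] at hdet
      have h := FiniteField.pow_card_sub_one_eq_one _ h0
      rw [hm, ← e] at h
      exact hda (by simpa using h)
    · omega
  have hT := CfsgLib.KnownA.SL2Torus.isTorus_diag (F := F) h4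
  obtain ⟨b, hb, hbb, hinv⟩ := hT.exists_flip h2
  rw [hC]
  refine ⟨fun g => CfsgLib.KnownA.SL2Torus.mem_diag, ?_, ?_, fun g hg hgT => ?_⟩
  · rw [hT.card_normalizer h2 hb hbb hinv, CfsgLib.KnownA.SL2Torus.card_diag]
  · have h := hT.card_classes_normalizer h2
    rw [CfsgLib.KnownA.SL2Torus.card_diag] at h
    omega
  · simpa using congrArg Subtype.val (hT.outside_inv h2 hb hbb hinv hg hgT).1

end Cfsg.Agent.S2428
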