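import Cfsg.Statements.S2429
import Cfsg.Agent.Lib.KnownA.SL2Torus.Exist

set_option autoImplicit false
open Cfsg

namespace Cfsg.Agent.S2429

/-- Let F be a finite field with q elements, q odd. Then SL₂ over F contains a cyclic subgroup T′ of order q + 1 (a non-split torus) with the following properties: T′ is its own centraliser, and indeed the centraliser of each element of T′ other than 1 and −1 is exactly T′; every element of SL₂ having no eigenvector in F² is conjugate to an element of T′; the normaliser of T′ has order 2(q + 1) and exactly (q + 7)/2 conjugacy classes; and every element of that normaliser outside T′ has square −1. -/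
theorem result {F : Type*} [Field F] [Fintype F] (hodd : Odd (Fintype.card F)) :
    ∃ T' : Subgroup (Matrix.SpecialLinearGroup (Fin 2) F), IsCyclic T' ∧ Nat.card T' = Fintype.card F + 1 ∧
      Subgroup.centralizer ((T' : Set (Matrix.SpecialLinearGroup (Fin 2) F))) = T' ∧
      (∀ g : Matrix.SpecialLinearGroup (Fin 2) F, g ∈ T' → (g : Matrix (Fin 2) (Fin 2) F) ≠ 1 → (g : Matrix (Fin 2) (Fin 2) F) ≠ -1 → Subgroup.centralizer ({g} : Set (Matrix.SpecialLinearGroup (Fin 2) F)) = T') ∧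
      (∀ g : Matrix.SpecialLinearGroup (Fin 2) F, (∀ (c : F) (v : Fin 2 → F), v ≠ 0 → (g : Matrix (Fin 2) (Fin 2) F).mulVec v ≠ c • v) → ∃ h : Matrix.SpecialLinearGroup (Fin 2) F, h * g * h⁻¹ ∈ T') ∧
      Nat.card (Subgroup.normalizer (T' : Set (Matrix.SpecialLinearGroup (Fin 2) F))) = 2 * (Fintype.card F + 1) ∧
      Nat.card (ConjClasses (Subgroup.normalizer (T' : Set (Matrix.SpecialLinearGroup (Fin 2) F)))) = (Fintype.card F + 7) / 2 ∧
      ∀ g : Matrix.SpecialLinearGroup (Fin 2) F, g ∈ Subgroup.normalizer (T' : Set (Matrix.SpecialLinearGroup (Fin 2) F)) → g ∉ T' → ((g * g) : Matrix (Fin 2) (Fin 2) F) = -1 := by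
  classical
  have h2 := CfsgLib.KnownA.SL2Torus.two_ne_zero_of_odd' hodd
  obtain ⟨t₀, d₀, -, h₀⟩ := CfsgLib.KnownB.GL2.exists_irreducible (F := F)
  have hT := CfsgLib.KnownA.SL2Torus.isTorus_torS h₀
  obtain ⟨b, hb, hbb, hinv⟩ := hT.exists_flip h2
  have hcard := CfsgLib.KnownB.GL2.card_torS h₀
  refine ⟨CfsgLib.KnownB.GL2.torS h₀, CfsgLib.KnownB.GL2.isCyclic_torS h₀, hcard, hT.centralizer_eq,
    fun g hg h1 hn1 => (hT.cent g hg (fun e => h1 (by rw [e]; simp)) fun e => hn1 (by rw [e]; simp)).1,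
    fun g hg => ?_, ?_, ?_, fun g hg hgT => ?_⟩
  · obtain ⟨hns, hrts⟩ := CfsgLib.KnownB.GL2.elliptic_of_noEigen _ hg
    rw [CfsgLib.KnownB.GL2.sl_det] at hrts
    rcases CfsgLib.KnownB.GL2.sl_cases h₀ g with ⟨r, rfl⟩ | ⟨r, b, hc⟩ | ⟨a, ha, hc⟩ | ⟨c, hc0, hc⟩
    · exact absurd (CfsgLib.KnownB.GL2.scal_scalSL _ _) hns
    · exfalso
      rw [← (CfsgLib.KnownB.GL2.sl_isConj_trace hc).1, CfsgLib.KnownB.GL2.trace_parSL] at hrts
      have : (r.1 : F) ∈ CfsgLib.KnownB.GL2.rts (2 * (r.1 : F)) 1 := by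
        rw [CfsgLib.KnownB.GL2.mem_rts]; linear_combination (-1 : F) * CfsgLib.KnownB.GL2.sg_sq r
      simp [hrts] at this
    · exfalso
      rw [← (CfsgLib.KnownB.GL2.sl_isConj_trace hc).1, CfsgLib.KnownB.GL2.rts_diagSL] at hrts
      simp at hrts
    · obtain ⟨x, rfl⟩ := isConj_iff.1 hc
      refine ⟨x⁻¹, ?_⟩
      have : x⁻¹ * (x * (c : Matrix.SpecialLinearGroup (Fin 2) F) * x⁻¹) * x⁻¹⁻¹ = c := by group
      rw [this]
      exact c.2
  · rw [hT.card_normalizer h2 hb hbb hinv, hcard]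
  · have h := hT.card_classes_normalizer h2
    rw [hcard] at h
    omega
  · simpa using congrArg Subtype.val (hT.outside_inv h2 hb hbb hinv hg hgT).1

end Cfsg.Agent.S2429
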