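import Cfsg.Statements.S2440
import Cfsg.Agent.Lib.PGroup.SLBlocks
-- import your own Cfsg.Agent.* helpers here

set_option autoImplicit false
open Cfsg

namespace Cfsg.Agent.S2440

/-- For a prime p and n ≥ 2, the group SL_n over the field with p elements has exactly gcd(n, p − 1) + 1 p-blocks relative to any maximal ideal of the algebraic integers containing p, that is, one more than the order of its centre (only this total is asserted; it arises as the defect-zero block of the Steinberg character plus as many blocks of maximal defect as the order of the centre). -/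
theorem result (p : ℕ) [Fact p.Prime] (n : ℕ) (hn : 2 ≤ n) (M : Ideal Cfsg.AlgInt) (hM : Cfsg.IsPModular p M) :
    Nat.card {B : Set (Cfsg.IrrCharacter (Matrix.SpecialLinearGroup (Fin n) (ZMod p))) // Cfsg.IsPBlock M B} =
      Nat.gcd n (p - 1) + 1 := by
  classical
  set G := Matrix.SpecialLinearGroup (Fin n) (ZMod p)
  letI : Fintype G := Fintype.ofFinite _
  set a := (Nat.card G).factorization p with ha
  have hne : a ≠ 0 := fun h => by
    have h1 := CfsgLib.PGroup.SLDefectZero.card_U (F := ZMod p) (n := n) (p := p)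
    rw [← ha, h, pow_zero, Subgroup.card_eq_one] at h1
    have hm := CfsgLib.PGroup.UnitriangularSL.X_mem_U (F := ZMod p)
      (show (⟨0, by omega⟩ : Fin n) < ⟨1, by omega⟩ from Fin.mk_lt_mk.2 (by omega)) (1 : ZMod p)
    rw [h1, Subgroup.mem_bot] at hm
    have := congrArg (fun x : G => x.1 ⟨0, by omega⟩ ⟨1, by omega⟩) hm
    simp [CfsgLib.PGroup.UnitriangularSL.X_coe, G] at this
  rw [← CfsgLib.PGroup.SLBlocks.card_center_zmod p n (by omega),
    ← CfsgLib.PGroup.SLBlocks.card_full (F := ZMod p) (p := p) hM hn,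
    ← CfsgLib.PGroup.SLBlocks.card_zero (F := ZMod p) (p := p) hM hn]
  rw [Nat.add_comm]
  have hsplit : ∀ B : Set (Cfsg.IrrCharacter G), Cfsg.IsPBlock M B →
      Cfsg.blockDefect p B = 0 ∨ Cfsg.blockDefect p B = a := fun B hB =>
    or_iff_not_imp_left.2 fun h0 => CfsgLib.PGroup.SLBlocks.full_defect hM hB h0
  rw [← Nat.card_sum]
  refine (Nat.card_eq_of_bijective (fun x => Sum.elim (fun B => (⟨B.1, B.2.1⟩ :
      {B : Set (Cfsg.IrrCharacter G) // Cfsg.IsPBlock M B})) (fun B => ⟨B.1, B.2.1⟩) x)
    ⟨?_, fun B => ?_⟩).symm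
  · rintro (x | x) (y | y) h
    · exact congrArg Sum.inl (Subtype.ext (congrArg Subtype.val h :))
    · exact absurd ((congrArg (fun B => Cfsg.blockDefect p B) (congrArg Subtype.val h :)).symm.trans x.2.2)
        (by show Cfsg.blockDefect p y.1 ≠ 0; rw [y.2.2]; exact hne)
    · exact absurd ((congrArg (fun B => Cfsg.blockDefect p B) (congrArg Subtype.val h :)).trans y.2.2)
        (by show Cfsg.blockDefect p x.1 ≠ 0; rw [x.2.2]; exact hne)
    · exact congrArg Sum.inr (Subtype.ext (congrArg Subtype.val h :))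
  · rcases hsplit B.1 B.2 with h | h
    · exact ⟨Sum.inl ⟨B.1, B.2, h⟩, rfl⟩
    · exact ⟨Sum.inr ⟨B.1, B.2, h⟩, rfl⟩

end Cfsg.Agent.S2440
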