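import Cfsg.Statements.S2441
import Cfsg.Agent.Lib.PGroup.ChevBlocks
import Cfsg.Agent.Lib.PGroup.ChevRadCerts
import Cfsg.Agent.Lib.Chevalley.TablesSt

set_option autoImplicit false
open Cfsg

namespace Cfsg.Agent.S2441

/-- For a prime p, the Chevalley groups of types G₂, F₄ and E₈ over the field with p elements (types for which the simply connected and adjoint groups coincide, so the group has trivial centre) each have exactly two p-blocks relative to any maximal ideal of the algebraic integers containing p (only the count is asserted; it arises as the defect-zero block of the Steinberg character plus a single block of maximal defect). -/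
theorem result (p : ℕ) [Fact p.Prime] (M : Ideal Cfsg.AlgInt) (hM : Cfsg.IsPModular p M) :
    Nat.card {B : Set (Cfsg.IrrCharacter (Cfsg.Lie.chevG2.group (ZMod p))) // Cfsg.IsPBlock M B} = 2 ∧
    Nat.card {B : Set (Cfsg.IrrCharacter (Cfsg.Lie.chevF4.group (ZMod p))) // Cfsg.IsPBlock M B} = 2 ∧
    Nat.card {B : Set (Cfsg.IrrCharacter (Cfsg.Lie.chevE8.group (ZMod p))) // Cfsg.IsPBlock M B} = 2 := by
  open CfsgLib.Chevalley in
  have key : ∀ (T : Tbl), T.Valid → T.chkComm = true → T.chkSorted = true →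
      CfsgLib.PGroup.ChevRad.chkDom T = true → CfsgLib.PGroup.ChevRad.chkSpan T = true → 0 < T.half →
      Nat.card {B : Set (Cfsg.IrrCharacter (T.datum.group (ZMod p))) // Cfsg.IsPBlock M B} = 2 := by
    intro T hT hC hS hD hSp hpos
    haveI : Fintype ↥(T.datum.group (ZMod p)) := Fintype.ofFinite _
    exact CfsgLib.PGroup.ChevBlocks.card_blocks hT hC hS hD hSp hpos p hM
  open CfsgLib.Chevalley CfsgLib.PGroup.ChevRad in
  refine ⟨?_, ?_, ?_⟩
  · rw [← CfsgLib.Chevalley.Data.G2.datum_eq]
    exact key _ CfsgLib.Chevalley.Data.G2.valid CfsgLib.Chevalley.Data.G2.chkComm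
      CfsgLib.Chevalley.Data.G2.chkSorted CfsgLib.PGroup.ChevRad.chkDom_G2 CfsgLib.PGroup.ChevRad.chkSpan_G2 (by decide)
  · rw [← CfsgLib.Chevalley.Data.F4.datum_eq]
    exact key _ CfsgLib.Chevalley.Data.F4.valid CfsgLib.Chevalley.Data.F4.chkComm
      CfsgLib.Chevalley.Data.F4.chkSorted CfsgLib.PGroup.ChevRad.chkDom_F4 CfsgLib.PGroup.ChevRad.chkSpan_F4 (by decide)
  · rw [← CfsgLib.Chevalley.Data.E8.datum_eq]
    exact key _ CfsgLib.Chevalley.Data.E8.valid CfsgLib.Chevalley.Data.E8.chkComm
      CfsgLib.Chevalley.Data.E8.chkSorted CfsgLib.PGroup.ChevRad.chkDom_E8 CfsgLib.PGroup.ChevRad.chkSpan_E8 (by decide)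

end Cfsg.Agent.S2441
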