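import Cfsg.Statements.S2444
import Cfsg.Agent.Lib.Classical.SmallFieldComm.Large
import Cfsg.Agent.Lib.Classical.SmallFieldComm.Two
import Cfsg.Agent.Lib.Classical.SmallFieldComm.Three

set_option autoImplicit false
open Cfsg

namespace Cfsg.Agent.S2444

theorem transfer {n : ℕ} {R S : Type*} [CommRing R] [CommRing S] (e : R ≃+* S)
    (h : ∀ g : Matrix.SpecialLinearGroup (Fin n) R,
      ∃ a b : Matrix.SpecialLinearGroup (Fin n) R, g = a * b * a⁻¹ * b⁻¹)
    (g : Matrix.SpecialLinearGroup (Fin n) S) :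
    ∃ a b : Matrix.SpecialLinearGroup (Fin n) S, g = a * b * a⁻¹ * b⁻¹ := by
  obtain ⟨a, b, hab⟩ := h (Matrix.SpecialLinearGroup.map e.symm.toRingHom g)
  refine ⟨Matrix.SpecialLinearGroup.map e.toRingHom a, Matrix.SpecialLinearGroup.map e.toRingHom b, ?_⟩
  simp only [← map_inv, ← map_mul, ← hab]
  apply Subtype.ext
  ext i j
  show g.1 i j = e (e.symm (g.1 i j))
  rw [e.apply_symm_apply]

/-- In the special linear group SL(n,F) over a finite field F, with n ≥ 2 and (n, |F|) not (2,2) or (2,3), every element is a commutator a·b·a⁻¹·b⁻¹ of two elements of SL(n,F). -/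
theorem result {F : Type*} [Field F] [Fintype F] (n : ℕ) (hn : 2 ≤ n) (hex : n = 2 → 4 ≤ Fintype.card F) :
    ∀ g : Matrix.SpecialLinearGroup (Fin n) F, ∃ a b : Matrix.SpecialLinearGroup (Fin n) F, g = a * b * a⁻¹ * b⁻¹ := by
  intro g
  rcases le_or_gt 4 (Fintype.card F) with h4 | h4
  · exact CfsgLib.Classical.SmallFieldComm.exists_commutator_large h4 g
  have hn2 : n ≠ 2 := fun h => by have := hex h; omega
  have h1 : 2 ≤ Fintype.card F := Fintype.one_lt_card
  rcases (show Fintype.card F = 2 ∨ Fintype.card F = 3 by omega) with hc | hc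
  · exact transfer (ZMod.ringEquivOfPrime F Nat.prime_two hc)
      (CfsgLib.Classical.SmallFieldComm.FieldTwo.exists_commutator hn2) g
  · exact transfer (ZMod.ringEquivOfPrime F Nat.prime_three hc)
      (CfsgLib.Classical.SmallFieldComm.FieldThree.exists_commutator hn2) g

end Cfsg.Agent.S2444
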