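import Cfsg.Statements.S2459
import Cfsg.Agent.Lib.Classical.Sourour.Conj

set_option autoImplicit false
open Cfsg

namespace Cfsg.Agent.S2459

open Matrix CfsgLib.Classical.Sourour

theorem mk_ne_one_nonscalar {F : Type*} [Field F] (G : Matrix.SpecialLinearGroup (Fin 3) F)
    (hG : (QuotientGroup.mk G : Matrix.ProjectiveSpecialLinearGroup (Fin 3) F) ≠ 1) : NonScalar G.1 := by
  rintro ⟨t, ht⟩
  refine hG ((QuotientGroup.eq_one_iff G).2 (Subgroup.mem_center_iff.2 fun B => Subtype.ext ?_))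
  show B.1 * G.1 = G.1 * B.1
  rw [ht, Matrix.mul_smul, Matrix.smul_mul, Matrix.mul_one, Matrix.one_mul]

theorem cover {F : Type*} [Field F] (D : Matrix.SpecialLinearGroup (Fin 3) F)
    (h : ∀ G : Matrix.SpecialLinearGroup (Fin 3) F, NonScalar G.1 → ∃ u v, G = (u * D * u⁻¹) * (v * D * v⁻¹))
    (g : Matrix.ProjectiveSpecialLinearGroup (Fin 3) F) (hg : g ≠ 1) :
    ∃ u v : Matrix.ProjectiveSpecialLinearGroup (Fin 3) F,
      g = (u * QuotientGroup.mk D * u⁻¹) * (v * QuotientGroup.mk D * v⁻¹) := by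
  obtain ⟨G, rfl⟩ := QuotientGroup.mk_surjective g
  obtain ⟨u, v, huv⟩ := h G (mk_ne_one_nonscalar G hg)
  exact ⟨QuotientGroup.mk u, QuotientGroup.mk v, by rw [huv]; rfl⟩

theorem zmod_three : ∀ a b c d : ZMod 3, a * d - b * c = 1 → ¬ (b = 0 ∧ c = 0 ∧ a = d) →
    (c = 0 ∧ a = -1 ∧ d = -1) ∨ ∃ t p q r s : ZMod 3, p + s = -1 ∧ p * s - q * r = -1 ∧
      -(s * (a + t * c) - q * c) + -(-r * (b + t * d) + p * d) = -1 := by
  decide +kernel

/-- Witnesses for the remaining matrices over the field of three elements. -/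
def wit (b r₁ r₂ : ℕ) : Matrix (Fin 3) (Fin 3) (ZMod 3) × Matrix (Fin 3) (Fin 3) (ZMod 3) :=
  match b, r₁, r₂ with
  | 1, 0, 0 => (!![0, 1, 0; 1, 1, 1; 1, 0, 0], !![1, 0, 1; 0, 2, 0; 2, 2, 0])
  | 1, 0, 1 => (!![2, 0, 1; 0, 2, 1; 1, 0, 0], !![1, 0, 1; 0, 1, 0; 0, 0, 1])
  | 1, 0, 2 => (!![1, 0, 0; 0, 1, 1; 2, 1, 0], !![1, 0, 1; 1, 0, 0; 0, 1, 0])
  | 1, 1, 0 => (!![0, 1, 0; 1, 0, 1; 1, 0, 0], !![1, 0, 1; 0, 0, 1; 2, 2, 0])
  | 1, 1, 1 => (!![2, 0, 1; 0, 2, 0; 1, 0, 0], !![1, 0, 1; 0, 0, 1; 0, 1, 0])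
  | 1, 1, 2 => (!![2, 0, 1; 0, 2, 0; 1, 0, 0], !![1, 0, 0; 0, 0, 1; 0, 1, 0])
  | 1, 2, 0 => (!![1, 0, 0; 0, 0, 1; 1, 1, 0], !![1, 0, 1; 0, 1, 0; 1, 2, 0])
  | 1, 2, 1 => (!![1, 0, 1; 1, 1, 0; 1, 0, 0], !![1, 0, 0; 1, 0, 1; 2, 1, 0])
  | 1, 2, 2 => (!![0, 2, 1; 1, 1, 0; 1, 0, 0], !![0, 0, 1; 1, 1, 0; 0, 2, 0])
  | 2, 0, 0 => (!![0, 1, 1; 1, 1, 0; 1, 0, 0], !![1, 0, 1; 2, 1, 0; 1, 1, 0])
  | 2, 0, 1 => (!![1, 0, 1; 0, 2, 0; 1, 0, 0], !![1, 0, 1; 0, 1, 0; 0, 2, 2])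
  | 2, 0, 2 => (!![1, 0, 0; 0, 0, 2; 1, 1, 0], !![1, 0, 1; 2, 1, 0; 0, 1, 0])
  | 2, 1, 0 => (!![1, 0, 1; 0, 2, 0; 1, 0, 0], !![1, 0, 1; 0, 0, 2; 0, 1, 0])
  | 2, 1, 1 => (!![1, 0, 1; 0, 2, 0; 1, 0, 0], !![1, 0, 0; 0, 0, 1; 0, 2, 0])
  | 2, 1, 2 => (!![0, 1, 1; 1, 1, 0; 1, 0, 0], !![1, 0, 1; 0, 1, 0; 1, 1, 0])
  | 2, 2, 0 => (!![0, 1, 1; 0, 1, 0; 1, 0, 0], !![0, 0, 1; 1, 0, 1; 1, 2, 0])
  | 2, 2, 1 => (!![0, 1, 1; 1, 1, 0; 1, 0, 0], !![0, 0, 1; 1, 1, 0; 0, 1, 0])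
  | 2, 2, 2 => (!![0, 1, 0; 1, 1, 2; 1, 0, 0], !![0, 0, 1; 1, 2, 0; 0, 1, 0])
  | _, _, _ => (1, 1)

theorem wit_spec : ∀ b r₁ r₂ : ZMod 3, b ≠ 0 →
    (wit b.val r₁.val r₂.val).1.det ≠ 0 ∧ (wit b.val r₁.val r₂.val).2.det ≠ 0 ∧
      (wit b.val r₁.val r₂.val).1 * !![1, r₁, r₂; 1, r₁ - 1, b + r₂; 0, 0, -1] * (wit b.val r₁.val r₂.val).2 =
        !![-1, 0, 0; 0, 0, 1; 0, 1, -1] * (wit b.val r₁.val r₂.val).1 * (wit b.val r₁.val r₂.val).2 *
          !![-1, 0, 0; 0, 0, 1; 0, 1, -1] := by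
  decide +kernel

/-- The companion matrix of `t² + t - 1`. -/
def comp2 (F : Type*) [Field F] : Matrix (Fin 2) (Fin 2) F := !![0, 1; 1, -1]

section Three

variable {F : Type*} [Field F]

theorem exists_block (hroot : ∀ t : F, t ^ 2 + t - 1 ≠ 0) (L : Matrix (Fin 2) (Fin 2) F)
    (htr : L 0 0 + L 1 1 = -1) (hdet : L 0 0 * L 1 1 - L 0 1 * L 1 0 = -1) :
    (∃ P : Matrix (Fin 2) (Fin 2) F, P.det ≠ 0 ∧ L * P = P * comp2 F) ∧ (L + 1).det ≠ 0 := by
  refine ⟨⟨!![1, L 0 0; 0, L 1 0], ?_, ?_⟩, ?_⟩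
  · rw [det_fin_two_of, one_mul, mul_zero, sub_zero]
    intro h
    apply hroot (L 0 0)
    have h1 : L 1 1 = -1 - L 0 0 := by linear_combination htr
    rw [h1, h, mul_zero] at hdet
    linear_combination -hdet
  · ext i j
    fin_cases i <;> fin_cases j <;> simp [comp2, Matrix.mul_apply, Fin.sum_univ_two]
    · linear_combination (L 0 0) * htr - hdet
    · linear_combination (L 1 0) * htr
  · rw [det_fin_two]
    simp
    intro h
    exact one_ne_zero (show (1 : F) = 0 by linear_combination -h + htr + hdet)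

theorem lower_conj (hroot : ∀ t : F, t ^ 2 + t - 1 ≠ 0) (c : Fin 2 → F) (L : Matrix (Fin 2) (Fin 2) F)
    (htr : L 0 0 + L 1 1 = -1) (hdet : L 0 0 * L 1 1 - L 0 1 * L 1 0 = -1) :
    ∃ X : Matrix (Fin 3) (Fin 3) F, X.det ≠ 0 ∧ bord (-1) 0 c L * X = X * bord (-1) 0 0 (comp2 F) := by
  obtain ⟨⟨P, hP, hLP⟩, h1⟩ := exists_block hroot L htr hdet
  set w := -((L + 1)⁻¹ *ᵥ c) with hw
  have h2 : c + L *ᵥ w = -w := by
    have h3 : (L + 1) *ᵥ w = -c := by
      rw [hw, mulVec_neg, mulVec_mulVec, Matrix.mul_nonsing_inv _ (isUnit_iff_ne_zero.2 h1), one_mulVec]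
    rw [add_mulVec, one_mulVec] at h3
    linear_combination (norm := module) h3
  refine ⟨bord 1 0 w P, by rw [det_bord_lower, one_mul]; exact hP, ?_⟩
  rw [bord_mul, bord_mul]
  congr 1
  · simp
  · simp
  · rw [one_smul, h2]; simp
  · simp [hLP]

theorem upper_conj (hroot : ∀ t : F, t ^ 2 + t - 1 ≠ 0) (r : Fin 2 → F) (U : Matrix (Fin 2) (Fin 2) F)
    (htr : U 0 0 + U 1 1 = -1) (hdet : U 0 0 * U 1 1 - U 0 1 * U 1 0 = -1) :
    ∃ X : Matrix (Fin 3) (Fin 3) F, X.det ≠ 0 ∧ bord (-1) r 0 U * X = X * bord (-1) 0 0 (comp2 F) := by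
  obtain ⟨⟨P, hP, hUP⟩, h1⟩ := exists_block hroot U htr hdet
  set v := r ᵥ* (U + 1)⁻¹ with hv
  have h2 : v ᵥ* U + v = r := by
    have h3 : v ᵥ* (U + 1) = r := by
      rw [hv, vecMul_vecMul, Matrix.nonsing_inv_mul _ (isUnit_iff_ne_zero.2 h1), vecMul_one]
    rwa [vecMul_add, vecMul_one] at h3
  refine ⟨bord 1 (v ᵥ* P) 0 P, by rw [det_bord_upper, one_mul]; exact hP, ?_⟩
  rw [bord_mul, bord_mul]
  congr 1
  · simp
  · have h4 : v ᵥ* P ᵥ* comp2 F = v ᵥ* U ᵥ* P :=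
      (vecMul_vecMul v P _).trans ((congrArg (v ᵥ* ·) hUP.symm).trans (vecMul_vecMul v U P).symm)
    rw [smul_zero, zero_add, neg_one_smul, h4, ← h2, add_vecMul]
    abel
  · simp
  · simp [hUP]

/-- Conjugation by a shear orthogonal to the first column. -/
theorem shear (r v e : Fin 2 → F) (S : Matrix (Fin 2) (Fin 2) F) (he : v ⬝ᵥ e = 0) :
    bord 1 r e (S + vecMulVec e r) * bord 1 v 0 1 =
      bord 1 v 0 1 * bord 1 (r + v - v ᵥ* S) e ((S + vecMulVec e (v ᵥ* S)) + vecMulVec e (r + v - v ᵥ* S)) := by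
  rw [bord_mul, bord_mul]
  congr 1
  · simp [he]
  · simp only [one_smul, vecMul_one, vecMul_add, vecMul_vecMulVec, he, zero_smul, add_zero]
    abel
  · simp
  · simp only [vecMulVec_sub, vecMulVec_add, Matrix.mul_one, Matrix.one_mul, zero_vecMulVec, zero_add]
    abel

end Three

/-- The chosen element over the field of three elements. -/
def D₃ : Matrix.SpecialLinearGroup (Fin 3) (ZMod 3) := ⟨!![-1, 0, 0; 0, 0, 1; 0, 1, -1], by decide⟩

theorem bord_comp2 : bord (-1 : ZMod 3) 0 0 (comp2 (ZMod 3)) = D₃.1 := by decide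

set_option maxHeartbeats 1000000 in
theorem cover_three (G : Matrix.SpecialLinearGroup (Fin 3) (ZMod 3)) (hG : NonScalar G.1) :
    ∃ u v : Matrix.SpecialLinearGroup (Fin 3) (ZMod 3), G = (u * D₃ * u⁻¹) * (v * D₃ * v⁻¹) := by
  have hroot : ∀ t : ZMod 3, t ^ 2 + t - 1 ≠ 0 := by decide
  have hE : ∀ μ : ZMod 3, ∃ E : Matrix (Fin 3) (Fin 3) (ZMod 3), E.det = μ ∧ E * D₃.1 = D₃.1 * E := fun μ =>
    ⟨bord μ 0 0 1, by rw [det_bord_lower, det_one, mul_one], by rw [← bord_comp2, bord_mul, bord_mul]; simp⟩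
  obtain ⟨P, r₀, c, S₀, hP, hd₀, hGP, hc, hS₀⟩ := exists_corner_schur hG (by rw [G.2]; exact one_ne_zero) one_ne_zero
  rw [G.2, one_mul] at hd₀
  rw [inv_one, one_smul] at hGP
  obtain ⟨Q, hQ, hQc⟩ := exists_col hc
  have hQ' := isUnit_iff_ne_zero.2 hQ
  obtain ⟨P₁, S, r, hP₁, hGP₁, hS⟩ : ∃ (P₁ : Matrix (Fin 3) (Fin 3) (ZMod 3)) (S : Matrix (Fin 2) (Fin 2) (ZMod 3))
      (r : Fin 2 → ZMod 3), P₁.det ≠ 0 ∧ G.1 * P₁ = P₁ * bord 1 r ![1, 0] (S + vecMulVec ![1, 0] r) ∧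
        S₀ * Q = Q * S := by
    refine ⟨P * bord 1 0 0 Q, Q⁻¹ * S₀ * Q, r₀ ᵥ* Q, ?_, ?_,
      by rw [Matrix.mul_assoc, Matrix.mul_nonsing_inv_cancel_left _ _ hQ']⟩
    · rw [det_mul, det_bord_upper, one_mul]; exact mul_ne_zero hP hQ
    have hce : Q *ᵥ ![1, 0] = c := by
      funext i; simp [Matrix.mulVec, dotProduct, Fin.sum_univ_two, hQc i]
    generalize (![1, 0] : Fin 2 → ZMod 3) = e₁ at hce ⊢
    rw [← Matrix.mul_assoc, hGP, Matrix.mul_assoc, Matrix.mul_assoc, bord_mul, bord_mul]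
    congr 1
    congr 1
    · simp
    · simp
    · simp [hce]
    · simp [Matrix.mul_assoc, Matrix.mul_nonsing_inv_cancel_left _ _ hQ', Matrix.mul_add, Matrix.add_mul,
        Matrix.mul_vecMulVec, Matrix.vecMulVec_mul, hce]
  have hdS : S 0 0 * S 1 1 - S 0 1 * S 1 0 = 1 := by
    have h := congrArg det hS
    rw [det_mul, det_mul, ← hd₀, one_mul, det_fin_two S] at h
    exact mul_left_cancel₀ hQ ((h.symm.trans (mul_one _).symm))
  have hsc : ¬ (S 0 1 = 0 ∧ S 1 0 = 0 ∧ S 0 0 = S 1 1) := by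
    rintro ⟨h1, h2, h3⟩
    refine hS₀ le_rfl ⟨S 0 0, ?_⟩
    have hs : S = S 0 0 • (1 : Matrix (Fin 2) (Fin 2) (ZMod 3)) := by
      ext i j
      fin_cases i <;> fin_cases j <;> simp [h1, h2, h3]
    have h := congrArg (· * Q⁻¹) hS
    simp only [Matrix.mul_nonsing_inv_cancel_right _ _ hQ'] at h
    rw [h, hs]
    simp [Matrix.mul_nonsing_inv _ hQ']
  obtain ⟨h10, ha, hd⟩ | ⟨t, p, q, r', s', h1, h2, h3⟩ := zmod_three _ _ _ _ hdS hsc
  · obtain ⟨hX, hY, hXY⟩ := wit_spec (S 0 1) (r 0) (r 1) (fun h => hsc ⟨h, h10, ha.trans hd.symm⟩)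
    set Xi := (wit (S 0 1).val (r 0).val (r 1).val).1
    set Y := (wit (S 0 1).val (r 0).val (r 1).val).2
    have hG' : bord 1 r ![1, 0] (S + vecMulVec ![1, 0] r) =
        !![1, r 0, r 1; 1, r 0 - 1, S 0 1 + r 1; 0, 0, -1] := by
      have hD' : S + vecMulVec ![1, 0] r = !![r 0 - 1, S 0 1 + r 1; 0, -1] := by
        ext i j
        rw [Matrix.add_apply, vecMulVec_apply]
        fin_cases i <;> fin_cases j <;> simp [ha, hd, h10]
        ring
      rw [hD']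
      ext i j
      fin_cases i <;> fin_cases j <;> rfl
    rw [← hG'] at hXY
    have hXi := isUnit_iff_ne_zero.2 hX
    have hY' := isUnit_iff_ne_zero.2 hY
    refine exists_prod_conj D₃ D₃ G hE hE (P := P₁) (L := Xi⁻¹ * D₃.1 * Xi) (U := Y * D₃.1 * Y⁻¹) (X := Xi⁻¹)
      (Y := Y) hP₁ ?_ hY ?_ (Matrix.mul_nonsing_inv_cancel_right _ _ hXi) (Matrix.nonsing_inv_mul_cancel_right _ _ hY')
    · rw [Matrix.det_nonsing_inv, Ring.inverse_eq_inv']; exact inv_ne_zero hX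
    rw [hGP₁]
    congr 1
    calc _ = Xi⁻¹ * (Xi * bord 1 r ![1, 0] (S + vecMulVec ![1, 0] r) * Y) * Y⁻¹ := by
          rw [Matrix.mul_assoc Xi, Matrix.nonsing_inv_mul_cancel_left _ _ hXi,
            Matrix.mul_nonsing_inv_cancel_right _ _ hY']
      _ = _ := by rw [hXY]; simp only [D₃, Matrix.mul_assoc]
  · let L : Matrix (Fin 2) (Fin 2) (ZMod 3) := !![p, q; r', s']
    let S' : Matrix (Fin 2) (Fin 2) (ZMod 3) := S + vecMulVec ![1, 0] (![0, t] ᵥ* S)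
    let U : Matrix (Fin 2) (Fin 2) (ZMod 3) := (-!![s', -q; -r', p]) * S'
    have hLU : L * U = S' := by
      have : L * (-!![s', -q; -r', p]) = 1 := by
        ext i j
        fin_cases i <;> fin_cases j <;> simp [L, Matrix.mul_apply, Fin.sum_univ_two] <;>
          first
          | linear_combination -h2
          | ring
      rw [← Matrix.mul_assoc, this, Matrix.one_mul]
    have htD : ![0, t] ᵥ* (S + vecMulVec ![1, 0] r) = ![0, t] ᵥ* S := by
      rw [vecMul_add, vecMul_vecMulVec]; simp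
    set r'' := r + ![0, t] - ![0, t] ᵥ* S with hr''
    have hshear : bord 1 r ![1, 0] (S + vecMulVec ![1, 0] r) * bord 1 ![0, t] 0 1 =
        bord 1 ![0, t] 0 1 * bord 1 r'' ![1, 0] (S' + vecMulVec ![1, 0] r'') :=
      shear r ![0, t] ![1, 0] S (by simp)
    have hS' : S' 0 0 = S 0 0 + t * S 1 0 ∧ S' 0 1 = S 0 1 + t * S 1 1 ∧ S' 1 0 = S 1 0 ∧ S' 1 1 = S 1 1 := by
      refine ⟨?_, ?_, ?_, ?_⟩ <;>
        · show (S + vecMulVec ![1, 0] (![0, t] ᵥ* S)) _ _ = _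
          rw [Matrix.add_apply, vecMulVec_apply]
          simp [Matrix.vecMul, dotProduct, Fin.sum_univ_two]
    have hL' : L 0 0 + L 1 1 = -1 := h1
    have hLd : L 0 0 * L 1 1 - L 0 1 * L 1 0 = -1 := h2
    have hm1 : (-1 : ZMod 3) ≠ 0 := by decide
    have hbm := bord_eq_mul r'' ![1, 0] hm1 hm1 L U
    rw [hLU, neg_mul_neg, one_mul, inv_one, one_smul] at hbm
    have hGP₂ : G.1 * (P₁ * bord 1 ![0, t] 0 1) = (P₁ * bord 1 ![0, t] 0 1) *
        (bord (-1) 0 ((-1 : ZMod 3)⁻¹ • ![1, 0]) L * bord (-1) ((-1 : ZMod 3)⁻¹ • r'') 0 U) := by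
      rw [← Matrix.mul_assoc, hGP₁, Matrix.mul_assoc, hshear, hbm, ← Matrix.mul_assoc]
    obtain ⟨X, hX, hLX⟩ := lower_conj hroot ((-1 : ZMod 3)⁻¹ • ![1, 0]) L hL' hLd
    have hU1 : U 0 0 + U 1 1 = -1 := by
      have : ∀ M : Matrix (Fin 2) (Fin 2) (ZMod 3), ((-!![s', -q; -r', p]) * M) 0 0 +
          ((-!![s', -q; -r', p]) * M) 1 1 = -(s' * M 0 0 - q * M 1 0) + -(-r' * M 0 1 + p * M 1 1) := by
        intro M
        rw [Matrix.mul_apply, Matrix.mul_apply, Fin.sum_univ_two, Fin.sum_univ_two]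
        simp
        ring
      rw [show U = (-!![s', -q; -r', p]) * S' from rfl, this, hS'.1, hS'.2.1, hS'.2.2.1, hS'.2.2.2]
      exact h3
    have hUd : U.det = -1 := by
      have h4 := congrArg det hLU
      have hS'd : S'.det = 1 := by
        rw [det_fin_two, hS'.1, hS'.2.1, hS'.2.2.1, hS'.2.2.2]
        linear_combination hdS
      rw [det_mul, show L.det = -1 by rw [det_fin_two_of]; exact h2, hS'd] at h4
      linear_combination -h4
    obtain ⟨Y, hY, hUY⟩ := upper_conj hroot ((-1 : ZMod 3)⁻¹ • r'') U hU1 (by rw [← det_fin_two, hUd])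
    rw [bord_comp2] at hLX hUY
    refine exists_prod_conj D₃ D₃ G hE hE ?_ hX hY hGP₂ hLX hUY
    rw [det_mul, det_bord_upper, det_one, mul_one, mul_one]; exact hP₁

/-- A form of Thompson's conjecture for PSL(3,q), q > 2 (covering the non-identity elements), with a semisimple class: for F a finite field of characteristic p with more than 2 elements there is an element x of PSL(3,F) of order prime to p such that every non-identity element of PSL(3,F) is a product of two conjugates of x. -/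
theorem result {F : Type*} [Field F] [Fintype F] (p : ℕ) [Fact p.Prime] [CharP F p] (h3 : 3 ≤ Fintype.card F) :
    ∃ x : Matrix.ProjectiveSpecialLinearGroup (Fin 3) F, ¬ p ∣ orderOf x ∧ ∀ g : Matrix.ProjectiveSpecialLinearGroup (Fin 3) F, g ≠ 1 → ∃ u v : Matrix.ProjectiveSpecialLinearGroup (Fin 3) F, g = (u * x * u⁻¹) * (v * x * v⁻¹) := by
  classical
  have hp := (Fact.out : p.Prime)
  by_cases h4 : 4 ≤ Fintype.card F
  · obtain ⟨b, hb0, hb⟩ : ∃ b : F, b ≠ 0 ∧ b ^ 2 ≠ 1 := by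
      by_contra hall
      push Not at hall
      have hsub : (Finset.univ : Finset F) ⊆ {0, 1, -1} := fun x _ => by
        rcases eq_or_ne x 0 with rfl | hx
        · simp
        · rcases sq_eq_one_iff.1 (hall x hx) with h | h <;> simp [h]
      have h5 := (Finset.card_le_card hsub).trans Finset.card_le_three
      rw [Finset.card_univ] at h5
      omega
    set d : Fin 3 → F := ![1, b, b⁻¹] with hd
    have hdi : Function.Injective d := by
      have h1 : b ≠ 1 := fun h => hb (by rw [h, one_pow])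
      have h2 : b⁻¹ ≠ 1 := fun h => h1 (inv_eq_one.1 h)
      have h3 : b⁻¹ ≠ b := fun h => hb (by rw [sq]; nth_rewrite 1 [← h]; exact inv_mul_cancel₀ hb0)
      intro i j h
      fin_cases i <;> fin_cases j <;> simp [hd] at h <;>
        first
        | rfl
        | exact absurd h h1 | exact absurd h h1.symm | exact absurd h h2 | exact absurd h h2.symm
        | exact absurd h h3 | exact absurd h h3.symm
    have hdet : (diagonal d).det = 1 := by rw [det_diagonal, Fin.prod_univ_three]; simp [hd, hb0]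
    let D : Matrix.SpecialLinearGroup (Fin 3) F := ⟨diagonal d, hdet⟩
    refine ⟨QuotientGroup.mk D, fun hdvd => ?_,
      cover D fun G hG => exists_prod_diag_conj G (fun _ => hG) D D rfl rfl hdi hdi⟩
    have h1 : (QuotientGroup.mk D : Matrix.ProjectiveSpecialLinearGroup (Fin 3) F) ^ (Fintype.card F - 1) = 1 := by
      rw [← QuotientGroup.mk_pow, show D ^ (Fintype.card F - 1) = 1 from Subtype.ext ?_, QuotientGroup.mk_one]
      rw [Matrix.SpecialLinearGroup.coe_pow, Matrix.SpecialLinearGroup.coe_one, show D.1 = diagonal d from rfl, diagonal_pow,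
        ← diagonal_one]
      congr 1
      funext i
      refine FiniteField.pow_card_sub_one_eq_one _ ?_
      fin_cases i <;> simp [hd, hb0]
    obtain ⟨a, hpp, ha⟩ := FiniteField.card F p
    have h2 : p ∣ Fintype.card F := ha ▸ dvd_pow_self p a.pos.ne'
    have h3 := Nat.dvd_sub h2 (hdvd.trans (orderOf_dvd_of_pow_eq_one h1))
    rw [Nat.sub_sub_self Fintype.card_pos] at h3
    exact hp.not_dvd_one h3
  · have hc : Fintype.card F = 3 := by omega
    haveI : Fact (Nat.Prime 3) := ⟨Nat.prime_three⟩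
    let e : ZMod 3 ≃+* F := ZMod.ringEquivOfPrime F Nat.prime_three hc
    let φ := Matrix.SpecialLinearGroup.map (n := Fin 3) e.toRingHom
    let ψ := Matrix.SpecialLinearGroup.map (n := Fin 3) e.symm.toRingHom
    have hφψ : ∀ G, φ (ψ G) = G := fun G => Subtype.ext <| by ext i j; simp [φ, ψ]
    refine ⟨QuotientGroup.mk (φ D₃), fun hdvd => ?_, cover (φ D₃) fun G hG => ?_⟩
    · have h1 : (QuotientGroup.mk (φ D₃) : Matrix.ProjectiveSpecialLinearGroup (Fin 3) F) ^ 8 = 1 := by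
        rw [← QuotientGroup.mk_pow, ← map_pow, show D₃ ^ 8 = 1 by decide +kernel, map_one, QuotientGroup.mk_one]
      have hp3 : p = 3 := by
        obtain ⟨a, hpp, ha⟩ := FiniteField.card F p
        exact (Nat.prime_dvd_prime_iff_eq hp Nat.prime_three).1 (hc ▸ ha ▸ dvd_pow_self p a.pos.ne')
      rw [hp3] at hdvd
      exact absurd (hdvd.trans (orderOf_dvd_of_pow_eq_one h1)) (by decide)
    · obtain ⟨u, v, huv⟩ := cover_three (ψ G) (fun ⟨t, ht⟩ => hG ⟨e t, by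
        rw [← hφψ G]
        ext i j
        have h := congrArg e (congrFun (congrFun ht i) j)
        simpa [φ, Matrix.one_apply, apply_ite] using h⟩)
      exact ⟨φ u, φ v, by rw [← hφψ G, huv]; simp only [map_mul, map_inv]⟩
end Cfsg.Agent.S2459
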