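import Cfsg.Statements.S2468
import Cfsg.Agent.Lib.KnownA.PSLPrimeGraph

set_option autoImplicit false
open Cfsg

namespace Cfsg.Agent.S2468



/-- Adjacency of two odd primes in the prime graph of PSL(n,q): let F be a finite field of characteristic p with q elements, n ≥ 2 with PSL(n,F) simple, and let r ≠ s be odd primes different from p dividing the order of PSL(n,F). Let k and l be the multiplicative orders of q modulo r and modulo s, and suppose 2 ≤ k ≤ l. Then PSL(n,F) has NO element of order r·s if and only if k + l > n and k does not divide l. -/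
theorem result {F : Type*} [Field F] [Fintype F] (p : ℕ) [Fact p.Prime] [CharP F p] (n : ℕ) (hn : 2 ≤ n) (hsmall : n = 2 → 4 ≤ Fintype.card F)
    (r s : ℕ) (hr : r.Prime) (hs : s.Prime) (hr2 : r ≠ 2) (hs2 : s ≠ 2) (hrp : r ≠ p) (hsp : s ≠ p) (hrs : r ≠ s)
    (hrG : r ∣ Nat.card (Matrix.ProjectiveSpecialLinearGroup (Fin n) F)) (hsG : s ∣ Nat.card (Matrix.ProjectiveSpecialLinearGroup (Fin n) F))
    (k l : ℕ) (hk : k = orderOf ((Fintype.card F : ℕ) : ZMod r)) (hl : l = orderOf ((Fintype.card F : ℕ) : ZMod s))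
    (h2k : 2 ≤ k) (hkl : k ≤ l) :
    (r * s ∉ Set.range (orderOf : Matrix.ProjectiveSpecialLinearGroup (Fin n) F → ℕ)) ↔ (n < k + l ∧ ¬ k ∣ l) := by
  haveI := Fact.mk hr
  haveI := Fact.mk hs
  have hq1 : 1 ≤ Fintype.card F := Fintype.card_pos
  have hnd : ∀ {t : ℕ}, t.Prime → t ≠ p → ¬ t ∣ Fintype.card F := fun {t} ht htp h => by
    obtain ⟨e, hpp, he⟩ := FiniteField.card F p
    rw [he] at h
    exact htp ((Nat.prime_dvd_prime_iff_eq ht hpp).mp (ht.dvd_of_dvd_pow h))
  have hcr := CfsgLib.PSLPrimeGraph.coprime_of_order_ge_two hk h2k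
  have hcs := CfsgLib.PSLPrimeGraph.coprime_of_order_ge_two hl (h2k.trans hkl)
  have hln := CfsgLib.PSLPrimeGraph.order_le_of_dvd_card (hnd hs hsp) hl hsG
  rw [CfsgLib.PSLPrimeGraph.psl_order_iff (by omega) (Nat.mul_pos hr.pos hs.pos)
      (Nat.Coprime.mul_left hcr hcs),
    CfsgLib.PSLPrimeGraph.exists_matrix_two_primes_iff p hrp hsp hrs hk hl h2k hkl hln, not_or,
    not_le]

end Cfsg.Agent.S2468
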