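import Cfsg.Statements.S2470
import Cfsg.Agent.Lib.KnownA.PSLPrimeGraph

set_option autoImplicit false
open Cfsg

namespace Cfsg.Agent.S2470



/-- Adjacency of an odd prime and the characteristic in the prime graph of PSL(n,q): let F be a finite field of characteristic p with q elements, n ≥ 2 with PSL(n,F) simple, and let r ≠ p be an odd prime dividing the order of PSL(n,F), with k the multiplicative order of q modulo r. Then PSL(n,F) has NO element of order r·p if and only if either k > n − 2, or n = 3, r = 3 and 3 divides q − 1 exactly once. -/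
theorem result {F : Type*} [Field F] [Fintype F] (p : ℕ) [Fact p.Prime] [CharP F p] (n : ℕ) (hn : 2 ≤ n) (hsmall : n = 2 → 4 ≤ Fintype.card F)
    (r : ℕ) (hr : r.Prime) (hr2 : r ≠ 2) (hrp : r ≠ p) (hrG : r ∣ Nat.card (Matrix.ProjectiveSpecialLinearGroup (Fin n) F))
    (k : ℕ) (hk : k = orderOf ((Fintype.card F : ℕ) : ZMod r)) :
    (r * p ∉ Set.range (orderOf : Matrix.ProjectiveSpecialLinearGroup (Fin n) F → ℕ)) ↔
      (n - 2 < k ∨ (n = 3 ∧ r = 3 ∧ 3 ∣ Fintype.card F - 1 ∧ ¬ 9 ∣ Fintype.card F - 1)) := by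
  haveI := Fact.mk hr
  have hq1 : 1 ≤ Fintype.card F := Fintype.card_pos
  have hp : p.Prime := Fact.out
  have hnd : ¬ r ∣ Fintype.card F := fun h => by
    obtain ⟨e, hpp, he⟩ := FiniteField.card F p
    rw [he] at h
    exact hrp ((Nat.prime_dvd_prime_iff_eq hr hpp).mp (hr.dvd_of_dvd_pow h))
  have hk0 : 0 < k := hk ▸ CfsgLib.TorusSylow.order_pos hnd
  rcases Nat.lt_or_ge k 2 with hk1 | hk2
  · obtain rfl : k = 1 := by omega
    have hrq : r ∣ Fintype.card F - 1 := by
      have := (CfsgLib.TorusSylow.dvd_pow_sub_iff (r := r) hq1 1).mpr (hk ▸ dvd_rfl)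
      rwa [pow_one] at this
    constructor
    · intro hno
      by_contra hc
      push Not at hc
      obtain ⟨hn3, hexc⟩ := hc
      haveI : Fintype Fˣ := Fintype.ofFinite _
      by_cases h9 : n = 3 ∧ r = 3
      · obtain ⟨rfl, rfl⟩ := h9
        obtain ⟨γ, hγ⟩ := IsCyclic.exists_ofOrder_eq_natCard (α := Fˣ)
        rw [Nat.card_units, Nat.card_eq_fintype_card] at hγ
        obtain ⟨t, ht⟩ := hexc rfl rfl hrq
        have ht0 : t ≠ 0 := by
          rintro rfl
          have := Fintype.one_lt_card (α := F)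
          omega
        have hη : orderOf ((γ ^ t : Fˣ) : F) = 9 := by
          rw [orderOf_units, orderOf_pow_of_dvd ht0 (by rw [hγ, ht]; exact dvd_mul_left _ _), hγ, ht,
            Nat.mul_div_cancel _ (Nat.pos_of_ne_zero ht0)]
        refine hno (CfsgLib.PSLPrimeGraph.exists_psl_rp p le_rfl hrp hr (Units.ne_zero (γ ^ t)) ?_ ?_
          (fun h => absurd h (by omega)))
        · intro j hj _
          rw [← pow_mul, ← orderOf_dvd_iff_pow_eq_one, hη] at hj
          omega
        · rw [← pow_mul, ← orderOf_dvd_iff_pow_eq_one, hη]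
      · obtain ⟨u, hu⟩ := exists_prime_orderOf_dvd_card r
          (show r ∣ Fintype.card Fˣ by rw [← Nat.card_eq_fintype_card, Nat.card_units, Nat.card_eq_fintype_card]; exact hrq)
        have hε : orderOf ((u : Fˣ) : F) = r := by rw [orderOf_units, hu]
        refine hno (CfsgLib.PSLPrimeGraph.exists_psl_rp p (by omega) hrp hr (Units.ne_zero u) ?_ ?_ ?_)
        · intro j hj hj4
          rcases Nat.lt_or_ge n 4 with h4 | h4
          · rw [← pow_mul, ← orderOf_dvd_iff_pow_eq_one, hε] at hj
            refine (hr.dvd_mul.mp hj).resolve_right fun h3 => h9 ⟨by omega, ?_⟩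
            exact (Nat.prime_dvd_prime_iff_eq hr Nat.prime_three).mp h3
          · rw [← hε]; exact orderOf_dvd_of_pow_eq_one (hj4 h4)
        · rw [← hε, pow_orderOf_eq_one, one_pow]
        · intro _; rw [← hε, pow_orderOf_eq_one]
    · intro h
      refine CfsgLib.PSLPrimeGraph.not_psl_rp p hrp hn ?_
      rcases h with h | ⟨h1, h2, -, h4⟩
      · exact Or.inl (by omega)
      · exact Or.inr ⟨h1, h2, h4⟩
  · have hcr := CfsgLib.PSLPrimeGraph.coprime_of_order_ge_two hk hk2
    have hcp : p.Coprime (Fintype.card F - 1) := hp.coprime_iff_not_dvd.mpr fun h => by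
      obtain ⟨e, hpp, he⟩ := FiniteField.card F p
      have h1 : p ∣ Fintype.card F := he ▸ dvd_pow_self p e.pos.ne'
      have h2 := Nat.dvd_sub h1 h
      rw [show Fintype.card F - (Fintype.card F - 1) = 1 by omega] at h2
      exact hp.not_dvd_one h2
    rw [CfsgLib.PSLPrimeGraph.psl_order_iff (by omega) (Nat.mul_pos hr.pos hp.pos)
        (Nat.Coprime.mul_left hcr hcp),
      CfsgLib.PSLPrimeGraph.exists_matrix_prime_char_iff p hrp hk hk2, not_le]
    constructor
    · intro h; exact Or.inl (by omega)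
    · rintro (h | ⟨rfl, rfl, h3, -⟩)
      · omega
      · have h1 := (CfsgLib.TorusSylow.dvd_pow_sub_iff (r := 3) hq1 1).mp (by rwa [pow_one])
        rw [← hk] at h1
        have := Nat.le_of_dvd Nat.one_pos h1
        omega

end Cfsg.Agent.S2470
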