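import Cfsg.Statements.S2471
import Cfsg.Agent.Lib.Recognition.TwoByTwo

set_option autoImplicit false
open Cfsg

namespace Cfsg.Agent.S2471

/-- In PSL(2,q) with q odd, the characteristic p is isolated from 2 in the prime graph: for F a finite field of odd characteristic p with at least 5 elements, PSL(2,F) has no element of order 2p. -/
theorem result {F : Type*} [Field F] [Fintype F] (p : ℕ) [Fact p.Prime] [CharP F p] (hp : p ≠ 2) (h5 : 5 ≤ Fintype.card F) (g : Matrix.ProjectiveSpecialLinearGroup (Fin 2) F) :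
    orderOf g ≠ 2 * p := by
  obtain ⟨A, rfl⟩ := QuotientGroup.mk_surjective g
  intro hord
  set M : Matrix (Fin 2) (Fin 2) F := (A : Matrix (Fin 2) (Fin 2) F) with hM
  have h2 := CfsgLib.Recognition.TwoByTwo.two_ne_zero_of_odd p hp (F := F)
  have hscal : ∀ k : ℕ, (∃ c : F, M ^ k = c • 1) →
      orderOf ((QuotientGroup.mk A : Matrix.ProjectiveSpecialLinearGroup (Fin 2) F)) ∣ k := by
    rintro k ⟨c, hc⟩
    refine orderOf_dvd_of_pow_eq_one ?_
    rw [← QuotientGroup.mk_pow, QuotientGroup.eq_one_iff, Subgroup.mem_center_iff]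
    intro B
    refine Subtype.ext ?_
    rw [Matrix.SpecialLinearGroup.coe_mul, Matrix.SpecialLinearGroup.coe_mul,
      Matrix.SpecialLinearGroup.coe_pow, ← hM, hc]
    simp
  have hple := (Fact.out : p.Prime).two_le
  have hdA : CfsgLib.Recognition.TwoByTwo.disc M ≠ 0 := fun h0 => by
    have := Nat.le_of_dvd (by omega) (hord ▸ hscal p ⟨_, CfsgLib.Recognition.TwoByTwo.pow_char_of_disc_zero p hp M h0⟩)
    omega
  have hnot2 : ∀ c : F, M ^ 2 ≠ c • 1 := fun c hc => by
    have := Nat.le_of_dvd two_pos (hord ▸ hscal 2 ⟨c, hc⟩)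
    omega
  have hsq : M ^ 2 = M.trace • M - M.det • 1 := by rw [pow_two, CfsgLib.Recognition.TwoByTwo.sq_eq]
  have htr : M.trace ≠ 0 := fun h0 => hnot2 (-M.det) (by rw [hsq, h0]; simp)
  set B := M ^ 2 with hB
  have hdB : CfsgLib.Recognition.TwoByTwo.disc B = M.trace ^ 2 * CfsgLib.Recognition.TwoByTwo.disc M := by
    simp only [CfsgLib.Recognition.TwoByTwo.disc, hsq, Matrix.trace_fin_two, Matrix.det_fin_two]
    simp [Matrix.sub_apply]
    ring
  obtain ⟨c, hc⟩ : ∃ c : F, B ^ p = c • 1 := by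
    have h1 : A ^ (2 * p) ∈ Subgroup.center (Matrix.SpecialLinearGroup (Fin 2) F) := by
      refine (QuotientGroup.eq_one_iff _).1 ?_
      rw [QuotientGroup.mk_pow, ← hord]
      exact pow_orderOf_eq_one _
    obtain ⟨r, -, hr⟩ := Matrix.SpecialLinearGroup.mem_center_iff.1 h1
    refine ⟨r, ?_⟩
    rw [hB, ← pow_mul, hM, ← Matrix.SpecialLinearGroup.coe_pow, ← hr]
    simp [Matrix.smul_one_eq_diagonal]
  obtain ⟨m, hm⟩ := (Fact.out : p.Prime).odd_of_ne_two hp
  have hdec : B = (B.trace / 2) • 1 + CfsgLib.Recognition.TwoByTwo.nilPart B := by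
    rw [CfsgLib.Recognition.TwoByTwo.nilPart, add_sub_cancel]
  rw [hdec, add_pow_char_of_commute _ ((Commute.one_left _).smul_left _), smul_pow, one_pow] at hc
  have hN : CfsgLib.Recognition.TwoByTwo.nilPart B ^ p = (c - (B.trace / 2) ^ p) • 1 := by
    rw [sub_smul, ← hc]; abel
  rw [hm, CfsgLib.Recognition.TwoByTwo.nilPart_pow_odd h2] at hN
  have hk : (CfsgLib.Recognition.TwoByTwo.disc B / 4) ^ m ≠ 0 := by
    have h4 : (4 : F) ≠ 0 := by rw [show (4 : F) = 2 * 2 by norm_num]; exact mul_ne_zero h2 h2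
    exact pow_ne_zero _ (div_ne_zero (by rw [hdB]; exact mul_ne_zero (pow_ne_zero _ htr) hdA) h4)
  obtain ⟨e, he⟩ : ∃ e : F, CfsgLib.Recognition.TwoByTwo.nilPart B = e • 1 := by
    refine ⟨((CfsgLib.Recognition.TwoByTwo.disc B / 4) ^ m)⁻¹ * (c - (B.trace / 2) ^ (2 * m + 1)), ?_⟩
    rw [mul_smul, ← hN, inv_smul_smul₀ hk]
  exact hnot2 (B.trace / 2 + e) (by rw [add_smul, ← he]; exact hdec)

end Cfsg.Agent.S2471
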