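import Cfsg.Statements.S2478
import Cfsg.Agent.Lib.KnownA.SemisimpleClassesMatrix
import Cfsg.Agent.Lib.KnownA.ClassNumberGL

set_option autoImplicit false
open Cfsg

namespace Cfsg.Agent.S2478



/-- The number of conjugacy classes of GL(n,q): for F a finite field with q elements and n ≥ 1, the number k of conjugacy classes of GL(n,F) satisfies q^n − q^(n−1) ≤ k ≤ q^n. -/
theorem result {F : Type*} [Field F] [Fintype F] (n : ℕ) (hn : 1 ≤ n) :
    Fintype.card F ^ n - Fintype.card F ^ (n - 1) ≤ Nat.card (ConjClasses (Matrix.GeneralLinearGroup (Fin n) F)) ∧ Nat.card (ConjClasses (Matrix.GeneralLinearGroup (Fin n) F)) ≤ Fintype.card F ^ n := by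
  classical
  refine ⟨?_, CfsgLib.ClassNumberGL.card_conjClasses_le n⟩
  obtain ⟨k, rfl⟩ : ∃ k, n = k + 1 := ⟨n - 1, by omega⟩
  let C : Set F := {c | c ≠ 0}
  have hC : Nat.card C = Fintype.card F - 1 := by
    rw [Nat.card_eq_fintype_card]
    show Fintype.card {c : F // c ≠ 0} = Fintype.card F - 1
    rw [Fintype.card_subtype_compl, Fintype.card_subtype_eq]
  have hmem : ∀ g : GL (Fin (k + 1)) F,
      ((g : Matrix (Fin (k + 1)) (Fin (k + 1)) F).charpoly).coeff 0 ∈ C := by
    intro g h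
    have h1 := Matrix.det_eq_sign_charpoly_coeff (g : Matrix (Fin (k + 1)) (Fin (k + 1)) F)
    rw [h, mul_zero] at h1
    exact ((Matrix.isUnit_iff_isUnit_det _).mp g.isUnit).ne_zero h1
  let Φ : ConjClasses (GL (Fin (k + 1)) F) →
      {P : Polynomial F // P.Monic ∧ P.natDegree = k + 1 ∧ P.coeff 0 ∈ C} := fun c =>
    ⟨(c.exists_rep.choose : Matrix (Fin (k + 1)) (Fin (k + 1)) F).charpoly, Matrix.charpoly_monic _,
      by rw [Matrix.charpoly_natDegree_eq_dim, Fintype.card_fin], hmem _⟩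
  have hsurj : Function.Surjective Φ := by
    rintro ⟨P, hP, hd, hc0⟩
    obtain ⟨M, hM⟩ := CfsgLib.SemisimpleClasses.exists_matrix_charpoly hP hd
    have hu : IsUnit M.det := by
      rw [Matrix.det_eq_sign_charpoly_coeff, hM]
      exact IsUnit.mul ((isUnit_one.neg).pow _) (isUnit_iff_ne_zero.mpr hc0)
    obtain ⟨g, hg⟩ : ∃ g : GL (Fin (k + 1)) F, (g : Matrix (Fin (k + 1)) (Fin (k + 1)) F) = M :=
      (Matrix.isUnit_iff_isUnit_det M).mpr hu
    refine ⟨ConjClasses.mk g, Subtype.ext ?_⟩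
    obtain ⟨u, hu⟩ := isConj_iff.mp
      (ConjClasses.mk_eq_mk_iff_isConj.mp (ConjClasses.mk g).exists_rep.choose_spec)
    show ((ConjClasses.mk g).exists_rep.choose : Matrix (Fin (k + 1)) (Fin (k + 1)) F).charpoly = P
    rw [← hM, ← hg]
    have h := congrArg (fun x : GL (Fin (k + 1)) F =>
      (x : Matrix (Fin (k + 1)) (Fin (k + 1)) F).charpoly) hu
    simp only [Units.val_mul, Matrix.coe_units_inv, Matrix.charpoly_units_conj] at h
    exact h
  have h := Nat.card_le_card_of_surjective Φ hsurj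
  rw [CfsgLib.SemisimpleClasses.card_monic_coeff_zero k C, hC, Nat.sub_mul, one_mul] at h
  rw [Nat.add_sub_cancel, pow_succ']
  exact h

end Cfsg.Agent.S2478
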