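import Cfsg.Statements.S2483
import Cfsg.Agent.Lib.Classical.Covering.Scalar
import Cfsg.Agent.Lib.Classical.Covering.LowerBound

set_option autoImplicit false
open Cfsg

namespace Cfsg.Agent.S2483

open Matrix CfsgLib.Classical.Covering CfsgLib.Classical.UnipotentGen CfsgLib.Classical.Sourour

theorem mem_center_iff' {F : Type*} [Field F] {n : ℕ} {A : Matrix.SpecialLinearGroup (Fin n) F} :
    A ∈ Subgroup.center (Matrix.SpecialLinearGroup (Fin n) F) ↔ ¬ CfsgLib.Classical.Sourour.NonScalar (A : Matrix (Fin n) (Fin n) F) := by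
  rw [Matrix.SpecialLinearGroup.mem_center_iff, CfsgLib.Classical.Sourour.NonScalar, not_not]
  constructor
  · rintro ⟨r, -, hr⟩
    exact ⟨r, by rw [← hr, smul_one_eq_diagonal]; rfl⟩
  · rintro ⟨t, ht⟩
    refine ⟨t, ?_, by rw [ht, smul_one_eq_diagonal]; rfl⟩
    have h := congrArg Matrix.det ht
    rw [det_smul, det_one, mul_one, A.2] at h
    exact h.symm

/-- The covering number of PSL(n,q) is n: let F be a finite field with q ≥ 4 elements and n ≥ 3. For every non-identity element x of PSL(n,F), every element of PSL(n,F) is a product of n conjugates of x; and for some non-identity x, some element is not a product of n − 1 conjugates of x. -/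
theorem result {F : Type*} [Field F] [Fintype F] (h4 : 4 ≤ Fintype.card F) (n : ℕ) (hn : 3 ≤ n) :
    (∀ x : Matrix.ProjectiveSpecialLinearGroup (Fin n) F, x ≠ 1 → ∀ g : Matrix.ProjectiveSpecialLinearGroup (Fin n) F, ∃ f : Fin n → Matrix.ProjectiveSpecialLinearGroup (Fin n) F, g = (List.ofFn fun i => f i * x * (f i)⁻¹).prod) ∧
    (∃ x : Matrix.ProjectiveSpecialLinearGroup (Fin n) F, x ≠ 1 ∧ ∃ g : Matrix.ProjectiveSpecialLinearGroup (Fin n) F, ∀ f : Fin (n - 1) → Matrix.ProjectiveSpecialLinearGroup (Fin n) F, g ≠ (List.ofFn fun i => f i * x * (f i)⁻¹).prod) := by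
  classical
  obtain ⟨m, rfl⟩ : ∃ m, n = m + 3 := ⟨n - 3, by omega⟩
  set π := QuotientGroup.mk' (Subgroup.center (Matrix.SpecialLinearGroup (Fin (m + 3)) F)) with hπ
  have hsurj : Function.Surjective π := QuotientGroup.mk'_surjective _
  have hker : ∀ A, π A = 1 ↔ A ∈ Subgroup.center (Matrix.SpecialLinearGroup (Fin (m + 3)) F) := fun A =>
    QuotientGroup.eq_one_iff A
  refine ⟨?_, ?_⟩
  · intro x hx g
    obtain ⟨X, rfl⟩ := hsurj x
    obtain ⟨G, rfl⟩ := hsurj g
    have hX : CfsgLib.Classical.Sourour.NonScalar (X : Matrix (Fin (m + 3)) (Fin (m + 3)) F) := by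
      by_contra h
      exact hx ((hker X).2 (mem_center_iff'.2 h))
    obtain ⟨G', hπG, hP⟩ : ∃ G' : Matrix.SpecialLinearGroup (Fin (m + 3)) F, π G = π G' ∧
        Prd (SC (X : Matrix (Fin (m + 3)) (Fin (m + 3)) F)) (m + 3) (G' : Matrix (Fin (m + 3)) (Fin (m + 3)) F) := by
      by_cases hG : CfsgLib.Classical.Sourour.NonScalar (G : Matrix (Fin (m + 3)) (Fin (m + 3)) F)
      · exact ⟨G, rfl, sl_nonscalar h4 hX X.2 hG G.2⟩
      · obtain ⟨c, hc⟩ := sl_scalar h4 hX X.2
        have hd : (c • (1 : Matrix (Fin (m + 3)) (Fin (m + 3)) F)).det = 1 := by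
          rw [Prd.det (D := (1 : F)) (fun k hk => by rw [hk.det_eq, X.2]) hc, one_pow]
        let C₀ : Matrix.SpecialLinearGroup (Fin (m + 3)) F := ⟨_, hd⟩
        have hC₀ : π C₀ = 1 := (hker C₀).2 (mem_center_iff'.2 fun h => h ⟨c, rfl⟩)
        exact ⟨C₀, ((hker G).2 (mem_center_iff'.2 hG)).trans hC₀.symm, hc⟩
    obtain ⟨l, hl, hlC, hlp⟩ := hP
    have hex : ∀ i : Fin (m + 3), ∃ P : Matrix.SpecialLinearGroup (Fin (m + 3)) F,
        ((P * X * P⁻¹ : Matrix.SpecialLinearGroup (Fin (m + 3)) F) : Matrix (Fin (m + 3)) (Fin (m + 3)) F) =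
          l[i.val]'(by have := i.isLt; omega) := by
      intro i
      obtain ⟨P, hd, hP⟩ := hlC _ (List.getElem_mem (show i.val < l.length by have := i.isLt; omega))
      let Q : Matrix.SpecialLinearGroup (Fin (m + 3)) F := ⟨P, hd⟩
      refine ⟨Q, ?_⟩
      show P * (X : Matrix (Fin (m + 3)) (Fin (m + 3)) F) * P.adjugate = _
      rw [← hP, Matrix.mul_assoc, Matrix.mul_adjugate, hd, one_smul, Matrix.mul_one]
    choose P hP using hex
    refine ⟨fun i => π (P i), ?_⟩
    rw [hπG]
    have e : G' = (List.ofFn fun i => P i * X * (P i)⁻¹).prod := by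
      refine Subtype.ext ?_
      let ι : Matrix.SpecialLinearGroup (Fin (m + 3)) F →* Matrix (Fin (m + 3)) (Fin (m + 3)) F :=
        { toFun := Subtype.val, map_one' := rfl, map_mul' := fun _ _ => rfl }
      change _ = ι _
      rw [map_list_prod, List.map_ofFn, ← hlp]
      congr 1
      refine List.ext_getElem (by simp [hl]) fun i h1 h2 => ?_
      simp only [List.getElem_ofFn, Function.comp_apply]
      exact (hP ⟨i, by simp only [List.length_ofFn] at h1 h2; omega⟩).symm
    rw [e, map_list_prod, List.map_ofFn]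
    congr 2
  · obtain ⟨g₀, hg₀, hfree⟩ := exists_rootFree (K := F) (m := m + 1)
    set u : Fin (m + 3) → F := Pi.single 0 1 with hu
    set φ : Fin (m + 3) → F := Pi.single (Fin.last (m + 2)) 1 with hφ
    have h0l : (0 : Fin (m + 3)) ≠ Fin.last (m + 2) := fun h => by simpa using congrArg Fin.val h
    have hTd : (1 + vecMulVec u φ).det = 1 := by
      rw [det_one_add_uv, hu, hφ, dotProduct_single, mul_one, Pi.single_eq_of_ne h0l, add_zero]
    set T₀ : Matrix.SpecialLinearGroup (Fin (m + 3)) F := ⟨_, hTd⟩ with hT₀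
    set G₀ : Matrix.SpecialLinearGroup (Fin (m + 3)) F := ⟨g₀, hg₀⟩ with hG₀
    refine ⟨π T₀, fun h => ?_, π G₀, fun f hf => ?_⟩
    · refine mem_center_iff'.1 ((hker _).1 h) fun ⟨t, ht⟩ => ?_
      have := congrFun (congrFun ht 0) (Fin.last (m + 2))
      rw [show (T₀ : Matrix (Fin (m + 3)) (Fin (m + 3)) F) = 1 + vecMulVec u φ from rfl] at this
      simp [vecMulVec_apply, hu, hφ, h0l, Matrix.one_apply_ne h0l] at this
    · choose P hP using fun i => hsurj (f i)
      have e : π G₀ = π (List.ofFn fun i => P i * T₀ * (P i)⁻¹).prod := by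
        rw [hf, map_list_prod, List.map_ofFn]
        congr 2
        funext i
        simp only [Function.comp_apply, map_mul, map_inv, hP]
      have hz := (hker _).1 (show π (G₀⁻¹ * (List.ofFn fun i => P i * T₀ * (P i)⁻¹).prod) = 1 by
        rw [map_mul, map_inv, ← e, inv_mul_cancel])
      obtain ⟨r, hr, hz⟩ := Matrix.SpecialLinearGroup.mem_center_iff.1 hz
      obtain ⟨v, hv, hfix⟩ := prod_transvection_fix (m := m + 2) (fun i => (P i : Matrix (Fin (m + 3)) (Fin (m + 3)) F))
        (fun i => by rw [(P i).2]; exact isUnit_one) u φ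
      let ι : Matrix.SpecialLinearGroup (Fin (m + 3)) F →* Matrix (Fin (m + 3)) (Fin (m + 3)) F :=
        { toFun := Subtype.val, map_one' := rfl, map_mul' := fun _ _ => rfl }
      have hprod : ι (List.ofFn fun i => P i * T₀ * (P i)⁻¹).prod =
          (List.ofFn fun i => (P i : Matrix (Fin (m + 3)) (Fin (m + 3)) F) * (1 + vecMulVec u φ) *
            (P i : Matrix (Fin (m + 3)) (Fin (m + 3)) F)⁻¹).prod := by
        rw [map_list_prod, List.map_ofFn]
        congr 2
        funext i
        show ((P i * T₀ * (P i)⁻¹ : Matrix.SpecialLinearGroup (Fin (m + 3)) F) : Matrix (Fin (m + 3)) (Fin (m + 3)) F) = _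
        rw [Matrix.SpecialLinearGroup.coe_mul, Matrix.SpecialLinearGroup.coe_mul, Matrix.SpecialLinearGroup.coe_inv]
        congr 1
        rw [Matrix.inv_def, (P i).2, Ring.inverse_one, one_smul]
      replace hfix := (congrArg (· *ᵥ v) hprod).trans hfix
      have hr0 : r ≠ 0 := fun h => by rw [h, zero_pow (by simp)] at hr; exact zero_ne_one hr
      have h2 : (scalar (Fin (m + 3)) r) = g₀.adjugate * ι (List.ofFn fun i => P i * T₀ * (P i)⁻¹).prod := by
        rw [hz, Matrix.SpecialLinearGroup.coe_mul, Matrix.SpecialLinearGroup.coe_inv]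
        rfl
      have h3 : g₀ * scalar (Fin (m + 3)) r = ι (List.ofFn fun i => P i * T₀ * (P i)⁻¹).prod := by
        rw [h2, ← Matrix.mul_assoc, Matrix.mul_adjugate, hg₀, one_smul, one_mul]
      rw [← h3, ← mulVec_mulVec, Matrix.scalar_apply, ← smul_one_eq_diagonal, smul_mulVec, one_mulVec,
        mulVec_smul] at hfix
      refine hv (hfree r⁻¹ v ?_)
      conv_rhs => rw [← hfix]
      rw [smul_smul, inv_mul_cancel₀ hr0, one_smul]

end Cfsg.Agent.S2483
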