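import Cfsg.Statements.S2485
import Cfsg.Agent.Lib.Classical.SLOrders
-- import your own Cfsg.Agent.* helpers here

set_option autoImplicit false
open scoped Pointwise
open Cfsg

namespace Cfsg.Agent.S2485


variable {q : ℕ} [Fact q.Prime]

local notation "M2" => Matrix (Fin 2) (Fin 2) (ZMod q)

/-- The standard elliptic element. -/
def jMat : M2 := !![0, -1; 1, 0]

theorem jMat_sq : (jMat : M2) * jMat = -1 := by
  ext i j; fin_cases i <;> fin_cases j <;> simp [jMat, Matrix.mul_apply, Fin.sum_univ_two]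

theorem jMat_neg : ((jMat : M2) * (-jMat)) = 1 := by rw [Matrix.mul_neg, jMat_sq, neg_neg]

theorem jMat_neg' : (-(jMat : M2)) * jMat = 1 := by rw [Matrix.neg_mul, jMat_sq, neg_neg]

/-- The standard elliptic element as a unit. -/
def jU : GL (Fin 2) (ZMod q) := ⟨jMat, -jMat, jMat_neg, jMat_neg'⟩

/-- Matrices commuting or anticommuting with it. -/
def torusNormalizer : Subgroup (GL (Fin 2) (ZMod q)) where
  carrier := {g | (g : M2) * jMat = jMat * (g : M2) ∨ (g : M2) * jMat = -(jMat * (g : M2))}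
  one_mem' := Or.inl (by simp)
  mul_mem' := by
    rintro g h hg hh
    have e : ((g * h : GL (Fin 2) (ZMod q)) : M2) = (g : M2) * (h : M2) := rfl
    rcases hg with hg | hg <;> rcases hh with hh | hh
    · left; rw [e, mul_assoc, hh, ← mul_assoc, hg, mul_assoc]
    · right; rw [e, mul_assoc, hh, mul_neg, ← mul_assoc, hg, mul_assoc]
    · right; rw [e, mul_assoc, hh, ← mul_assoc, hg, neg_mul, mul_assoc]
    · left; rw [e, mul_assoc, hh, mul_neg, ← mul_assoc, hg, neg_mul, neg_neg, mul_assoc]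
  inv_mem' := by
    rintro g hg
    have e1 : ((g⁻¹ : GL (Fin 2) (ZMod q)) : M2) * (g : M2) = 1 := g.inv_mul
    have e2 : (g : M2) * ((g⁻¹ : GL (Fin 2) (ZMod q)) : M2) = 1 := g.mul_inv
    have key : ∀ s : M2, (g : M2) * jMat = s * (g : M2) →
        jMat * ((g⁻¹ : GL (Fin 2) (ZMod q)) : M2) = ((g⁻¹ : GL (Fin 2) (ZMod q)) : M2) * s := fun s hs => by
      calc jMat * ((g⁻¹ : GL (Fin 2) (ZMod q)) : M2)
          = (((g⁻¹ : GL (Fin 2) (ZMod q)) : M2) * (g : M2)) * jMat * ((g⁻¹ : GL (Fin 2) (ZMod q)) : M2) := by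
            rw [e1, one_mul]
        _ = ((g⁻¹ : GL (Fin 2) (ZMod q)) : M2) * (s * (g : M2)) * ((g⁻¹ : GL (Fin 2) (ZMod q)) : M2) := by
            rw [← hs]; noncomm_ring
        _ = ((g⁻¹ : GL (Fin 2) (ZMod q)) : M2) * s := by rw [mul_assoc, mul_assoc, e2, mul_one]
    rcases hg with hg | hg
    · left; exact (key _ hg).symm
    · right
      have := key (-jMat) (by rw [hg, neg_mul])
      rw [mul_neg] at this
      rw [this, neg_neg]

theorem mem_torusNormalizer {g : GL (Fin 2) (ZMod q)} :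
    g ∈ torusNormalizer ↔ (g : M2) * jMat = jMat * (g : M2) ∨ (g : M2) * jMat = -(jMat * (g : M2)) := Iff.rfl

theorem center_le : Subgroup.center (GL (Fin 2) (ZMod q)) ≤ torusNormalizer := fun g hg =>
  Or.inl (congrArg Units.val (Subgroup.mem_center_iff.1 hg jU)).symm

theorem two_ne (h : 2 < q) : (2 : ZMod q) ≠ 0 := fun h0 => by
  have : ((2 : ℕ) : ZMod q) = 0 := by exact_mod_cast h0
  rw [ZMod.natCast_eq_zero_iff] at this
  exact absurd (Nat.le_of_dvd two_pos this) (by omega)

theorem sum_sq (h3 : q % 4 = 3) {a b : ZMod q} (h : a ^ 2 + b ^ 2 = 0) : a = 0 ∧ b = 0 := by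
  have hns : ¬ IsSquare (-1 : ZMod q) := by rw [ZMod.exists_sq_eq_neg_one_iff]; exact not_not_intro h3
  by_cases hb : b = 0
  · subst hb
    exact ⟨by simpa using h, rfl⟩
  · refine absurd ⟨a / b, ?_⟩ hns
    field_simp
    linear_combination -h

/-- The elements of the normaliser: a sign and a non-zero vector. -/
def param (h3 : q % 4 = 3) (x : Bool × {v : ZMod q × ZMod q // v ≠ 0}) : GL (Fin 2) (ZMod q) :=
  Matrix.GeneralLinearGroup.mkOfDetNeZero
    (if x.1 then !![x.2.1.1, -x.2.1.2; x.2.1.2, x.2.1.1] else !![x.2.1.1, x.2.1.2; x.2.1.2, -x.2.1.1]) (by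
      intro hdet
      obtain ⟨e, ⟨⟨a, b⟩, hv⟩⟩ := x
      have : a ^ 2 + b ^ 2 = 0 := by
        cases e <;> simp [Matrix.det_fin_two] at hdet <;>
          first | linear_combination hdet | linear_combination -hdet
      obtain ⟨rfl, rfl⟩ := sum_sq h3 this
      exact hv rfl)

theorem card_torusNormalizer (h3 : q % 4 = 3) :
    Nat.card (torusNormalizer : Subgroup (GL (Fin 2) (ZMod q))) = 2 * (q ^ 2 - 1) := by
  classical
  have hq2 : 2 < q := by have := (Fact.out : q.Prime).two_le; omega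
  have h2 := two_ne hq2
  have hcard : Nat.card (Bool × {v : ZMod q × ZMod q // v ≠ 0}) = 2 * (q ^ 2 - 1) := by
    rw [Nat.card_prod, Nat.card_eq_fintype_card, Fintype.card_bool, Nat.card_eq_fintype_card,
      Fintype.card_subtype_compl, Fintype.card_subtype_eq, Fintype.card_prod, ZMod.card, sq]
  rw [← hcard]
  refine (Nat.card_congr (Equiv.ofBijective (fun x => (⟨param h3 x, ?_⟩ : torusNormalizer)) ⟨?_, ?_⟩)).symm
  · obtain ⟨e, ⟨⟨a, b⟩, hv⟩⟩ := x
    cases e
    · right
      ext i j; fin_cases i <;> fin_cases j <;>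
        simp [param, jMat, Matrix.mul_apply, Fin.sum_univ_two]
    · left
      ext i j; fin_cases i <;> fin_cases j <;>
        simp [param, jMat, Matrix.mul_apply, Fin.sum_univ_two]
  · rintro ⟨e, ⟨⟨a, b⟩, hv⟩⟩ ⟨e', ⟨⟨a', b'⟩, hv'⟩⟩ heq
    have hm := fun i j => congrArg (fun g : torusNormalizer => ((g : GL (Fin 2) (ZMod q)) : M2) i j) heq
    have h00 := hm 0 0
    have h01 := hm 0 1
    have h10 := hm 1 0
    have h11 := hm 1 1
    cases e <;> cases e' <;> simp [param] at h00 h01 h10 h11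
    · subst h00 h10; rfl
    · exfalso
      have ha : a = 0 := by
        refine (mul_eq_zero.1 (?_ : (2 : ZMod q) * a = 0)).resolve_left h2
        linear_combination h00 - h11
      have hb : b = 0 := by
        refine (mul_eq_zero.1 (?_ : (2 : ZMod q) * b = 0)).resolve_left h2
        linear_combination h10 + h01
      exact hv (by rw [ha, hb]; rfl)
    · exfalso
      have ha : a = 0 := by
        refine (mul_eq_zero.1 (?_ : (2 : ZMod q) * a = 0)).resolve_left h2
        linear_combination h00 + h11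
      have hb : b = 0 := by
        refine (mul_eq_zero.1 (?_ : (2 : ZMod q) * b = 0)).resolve_left h2
        linear_combination h10 - h01
      exact hv (by rw [ha, hb]; rfl)
    · subst h00 h10; rfl
  · rintro ⟨g, hg⟩
    have hne : ((g : M2) 0 0, (g : M2) 1 0) ≠ (0 : ZMod q × ZMod q) := fun h => by
      have h1 := congrArg Prod.fst h
      have h2 := congrArg Prod.snd h
      exact Matrix.GeneralLinearGroup.det_ne_zero g (by simp at h1 h2; simp [Matrix.det_fin_two, h1, h2])
    rcases hg with hg | hg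
    · refine ⟨(true, ⟨_, hne⟩), Subtype.ext (Units.ext ?_)⟩
      have a := congrArg (fun M : M2 => M 0 0) hg
      have b := congrArg (fun M : M2 => M 1 0) hg
      simp [jMat, Matrix.mul_apply, Matrix.vecMul, dotProduct, Fin.sum_univ_two] at a b
      ext i j; fin_cases i <;> fin_cases j <;> simp [param] <;>
        first | linear_combination -a | linear_combination a | linear_combination b | linear_combination -b
    · refine ⟨(false, ⟨_, hne⟩), Subtype.ext (Units.ext ?_)⟩
      have a := congrArg (fun M : M2 => M 0 0) hg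
      have b := congrArg (fun M : M2 => M 1 0) hg
      simp [jMat, Matrix.mul_apply, Matrix.vecMul, dotProduct, Fin.sum_univ_two] at a b
      ext i j; fin_cases i <;> fin_cases j <;> simp [param] <;>
        first | linear_combination -a | linear_combination a | linear_combination b | linear_combination -b

/-- A non-scalar element in both normalisers. -/
theorem exists_common (h3 : q % 4 = 3) (g : GL (Fin 2) (ZMod q)) :
    ∃ w : GL (Fin 2) (ZMod q), w ∈ torusNormalizer ∧ g⁻¹ * w * g ∈ torusNormalizer ∧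
      w ∉ Subgroup.center (GL (Fin 2) (ZMod q)) := by
  have hq2 : 2 < q := by have := (Fact.out : q.Prime).two_le; omega
  have h2 := two_ne hq2
  set B : M2 := (g : M2) * jMat * ((g⁻¹ : GL (Fin 2) (ZMod q)) : M2) with hB
  have e1 : ((g⁻¹ : GL (Fin 2) (ZMod q)) : M2) * (g : M2) = 1 := g.inv_mul
  have e2 : (g : M2) * ((g⁻¹ : GL (Fin 2) (ZMod q)) : M2) = 1 := g.mul_inv
  have hBsq : B * B = -1 := by
    rw [hB, show (g : M2) * jMat * ((g⁻¹ : GL (Fin 2) (ZMod q)) : M2) * ((g : M2) * jMat * ((g⁻¹ : GL (Fin 2) (ZMod q)) : M2))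
      = (g : M2) * jMat * (((g⁻¹ : GL (Fin 2) (ZMod q)) : M2) * (g : M2)) * jMat * ((g⁻¹ : GL (Fin 2) (ZMod q)) : M2) by noncomm_ring,
      e1, mul_one, mul_assoc (g : M2), jMat_sq, mul_neg, mul_one, neg_mul, e2]
  have htr : B.trace = 0 := by
    rw [hB, Matrix.trace_units_conj g]
    simp [jMat, Matrix.trace_fin_two]
  have hdiag : B 1 1 = -B 0 0 := by
    rw [Matrix.trace_fin_two] at htr
    linear_combination htr
  have hgB : B * (g : M2) = (g : M2) * jMat := by rw [hB, mul_assoc, e1, mul_one]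
  have hgw : ∀ w : GL (Fin 2) (ZMod q), ((w : M2) * B = B * (w : M2) ∨ (w : M2) * B = -(B * (w : M2))) →
      g⁻¹ * w * g ∈ torusNormalizer := fun w hw => by
    have hc : ((g⁻¹ * w * g : GL (Fin 2) (ZMod q)) : M2) = ((g⁻¹ : GL (Fin 2) (ZMod q)) : M2) * (w : M2) * (g : M2) := rfl
    have hJ : jMat * ((g⁻¹ : GL (Fin 2) (ZMod q)) : M2) = ((g⁻¹ : GL (Fin 2) (ZMod q)) : M2) * B := by
      rw [hB, ← mul_assoc, ← mul_assoc, e1, one_mul]
    have l1 : ((g⁻¹ * w * g : GL (Fin 2) (ZMod q)) : M2) * jMat = ((g⁻¹ : GL (Fin 2) (ZMod q)) : M2) * ((w : M2) * B) * (g : M2) := by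
      rw [hc, mul_assoc _ (g : M2), ← hgB]; noncomm_ring
    have l2 : jMat * ((g⁻¹ * w * g : GL (Fin 2) (ZMod q)) : M2) = ((g⁻¹ : GL (Fin 2) (ZMod q)) : M2) * (B * (w : M2)) * (g : M2) := by
      rw [hc, ← mul_assoc, ← mul_assoc, hJ]; noncomm_ring
    rcases hw with h | h
    · left; rw [l1, l2, h]
    · right; rw [l1, l2, h, mul_neg, neg_mul]
  set W : M2 := jMat * B - B * jMat with hW
  by_cases hdet : W.det = 0
  · refine ⟨jU, Or.inl rfl, hgw jU (Or.inl ?_), fun hc => ?_⟩
    · have hd : (B 1 0 + B 0 1) ^ 2 + (2 * B 0 0) ^ 2 = 0 := by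
        rw [hW, Matrix.det_fin_two] at hdet
        simp [jMat, Matrix.mul_apply, Matrix.vecMul, dotProduct, Fin.sum_univ_two, hdiag] at hdet
        linear_combination -hdet
      obtain ⟨hyz, hx⟩ := sum_sq h3 hd
      have hx0 : B 0 0 = 0 := (mul_eq_zero.1 hx).resolve_left h2
      show jMat * B = B * jMat
      ext i j; fin_cases i <;> fin_cases j <;> simp [jMat, Matrix.mul_apply, Fin.sum_univ_two, hdiag, hx0] <;>
        first | linear_combination hyz | linear_combination -hyz
    · rw [Matrix.GeneralLinearGroup.mem_center_iff_val_mem_range_scalar] at hc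
      obtain ⟨c, hc⟩ := hc
      have := congrArg (fun M : M2 => M 1 0) hc
      simp [jU, jMat] at this
  · refine ⟨Matrix.GeneralLinearGroup.mkOfDetNeZero W hdet, Or.inr ?_, hgw _ (Or.inr ?_), fun hc => hdet ?_⟩
    · show W * jMat = -(jMat * W)
      rw [hW, sub_mul, mul_sub, ← mul_assoc jMat jMat B, jMat_sq, mul_assoc B jMat jMat, jMat_sq]
      noncomm_ring
    · show W * B = -(B * W)
      rw [hW, sub_mul, mul_sub, ← mul_assoc B B jMat, hBsq, mul_assoc jMat B B, hBsq]
      noncomm_ring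
    · have hcomm : W * jMat = jMat * W := (congrArg Units.val (Subgroup.mem_center_iff.1 hc jU)).symm
      have hanti : W * jMat = -(jMat * W) := by
        rw [hW, sub_mul, mul_sub, ← mul_assoc jMat jMat B, jMat_sq, mul_assoc B jMat jMat, jMat_sq]
        noncomm_ring
      rw [hcomm] at hanti
      have h0 : (2 : ZMod q) • (jMat * W) = 0 := by
        rw [two_smul]; exact eq_neg_iff_add_eq_zero.1 hanti
      have h1 : jMat * W = 0 := (smul_eq_zero.1 h0).resolve_left h2
      have : W = 0 := by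
        have h' := congrArg (fun M => -jMat * M) h1
        simpa [← mul_assoc, jMat_sq, jMat_neg'] using h'
      rw [this, Matrix.det_zero]

/-- Let q = 2^k − 1 ≥ 7 be a prime and let G = PGL(2,q), the general linear group of degree 2 over the field with q elements modulo its centre. Then any two Sylow 2-subgroups of G have a non-trivial intersection: for a Sylow 2-subgroup H and every x ∈ G, H ∩ H^x ≠ 1. -/
theorem result {q k : ℕ} [Fact q.Prime] (hk : q + 1 = 2 ^ k) (hq : 7 ≤ q)
    (H : Sylow 2 (GL (Fin 2) (ZMod q) ⧸ Subgroup.center (GL (Fin 2) (ZMod q))))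
    (x : GL (Fin 2) (ZMod q) ⧸ Subgroup.center (GL (Fin 2) (ZMod q))) :
    (H : Subgroup (GL (Fin 2) (ZMod q) ⧸ Subgroup.center (GL (Fin 2) (ZMod q)))) ⊓ MulAut.conj x • (H : Subgroup _) ≠ ⊥ := by
  classical
  haveI : Fact (Nat.Prime 2) := ⟨Nat.prime_two⟩
  have hk3 : 3 ≤ k := by
    by_contra h
    have : 2 ^ k ≤ 2 ^ 2 := Nat.pow_le_pow_right two_pos (by omega)
    omega
  have h3 : q % 4 = 3 := by
    have : 4 ∣ 2 ^ k := pow_dvd_pow 2 (show 2 ≤ k by omega)
    omega
  set π := QuotientGroup.mk' (Subgroup.center (GL (Fin 2) (ZMod q))) with hπ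
  set P0 := (torusNormalizer : Subgroup (GL (Fin 2) (ZMod q))).map π with hP0
  have hZ : Nat.card (Subgroup.center (GL (Fin 2) (ZMod q))) = q - 1 := by
    rw [CfsgLib.Classical.card_center_gl, Nat.card_eq_fintype_card, ZMod.card_units]
  have hP0c : Nat.card P0 = 2 ^ (k + 1) := by
    have hcm : P0.comap π = torusNormalizer := by
      rw [hP0, Subgroup.comap_map_eq_self]
      rw [hπ, QuotientGroup.ker_mk']
      exact center_le
    have hh := card_torusNormalizer h3
    have hsplit := Subgroup.relIndex_mul_relIndex (⊥ : Subgroup (GL (Fin 2) (ZMod q))) (Subgroup.center _)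
      torusNormalizer bot_le center_le
    rw [Subgroup.relIndex_bot_left, Subgroup.relIndex_bot_left, hh, hZ] at hsplit
    have hrel : (Subgroup.center (GL (Fin 2) (ZMod q))).relIndex torusNormalizer = Nat.card P0 := by
      have := Subgroup.relIndex_ker (f := π) (K := torusNormalizer)
      rw [hπ, QuotientGroup.ker_mk'] at this
      exact this
    rw [hrel] at hsplit
    rw [← hsplit] at hh
    replace hh : (q - 1) * Nat.card P0 = 2 * (q ^ 2 - 1) := hsplit
    have hq1 : q ^ 2 - 1 = (q - 1) * (q + 1) := by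
      zify [Nat.one_le_pow 2 q (by omega), show 1 ≤ q by omega]; ring
    rw [hq1, hk, mul_left_comm] at hh
    rw [pow_succ']
    exact Nat.eq_of_mul_eq_mul_left (show 0 < q - 1 by omega) hh
  have hGc : Nat.card (GL (Fin 2) (ZMod q) ⧸ Subgroup.center (GL (Fin 2) (ZMod q))) = 2 ^ (k + 1) * (q * (2 ^ (k - 1) - 1)) := by
    have hh := Subgroup.card_eq_card_quotient_mul_card_subgroup (Subgroup.center (GL (Fin 2) (ZMod q)))
    rw [hZ, Matrix.card_GL_field, Fin.prod_univ_two, ZMod.card] at hh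
    simp only [Fin.val_zero, Fin.val_one, pow_zero, pow_one] at hh
    obtain ⟨r, hr⟩ : ∃ r, k = r + 1 := ⟨k - 1, by omega⟩
    have h2r : q + 1 = 2 * 2 ^ r := by rw [hk, hr, pow_succ']
    have hr1 : 1 ≤ 2 ^ r := Nat.one_le_pow _ _ two_pos
    apply Nat.eq_of_mul_eq_mul_right (show 0 < q - 1 by omega)
    rw [← hh, hr, Nat.add_sub_cancel, show r + 1 + 1 = r + 2 by omega, pow_add]
    have hq' : q = 2 * 2 ^ r - 1 := by omega
    generalize 2 ^ r = t at *
    subst hq'
    have h1 : 1 ≤ 2 * t - 1 := by omega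
    have h2 : 1 ≤ (2 * t - 1) ^ 2 := Nat.one_le_pow _ _ h1
    have h3' : 2 * t - 1 ≤ (2 * t - 1) ^ 2 := Nat.le_self_pow two_ne_zero _
    zify [h1, h2, h3', show 1 ≤ 2 * t by omega, hr1, show 1 ≤ 2 * t - 1 by omega]
    ring
  let S0 : Sylow 2 (GL (Fin 2) (ZMod q) ⧸ Subgroup.center (GL (Fin 2) (ZMod q))) :=
    (IsPGroup.of_card hP0c).toSylow (by
      have hh := P0.card_mul_index
      rw [hP0c, hGc] at hh
      rw [Nat.eq_of_mul_eq_mul_left (by positivity) hh]
      intro hd
      rcases Nat.prime_two.dvd_mul.1 hd with h | h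
      · have := (Nat.prime_dvd_prime_iff_eq Nat.prime_two (Fact.out : q.Prime)).1 h
        omega
      · have : 2 ∣ 2 ^ (k - 1) := dvd_pow_self 2 (by omega)
        have : 1 ≤ 2 ^ (k - 1) := Nat.one_le_pow _ _ two_pos
        omega)
  obtain ⟨a, rfl⟩ := MulAction.exists_smul_eq (GL (Fin 2) (ZMod q) ⧸ Subgroup.center (GL (Fin 2) (ZMod q))) S0 H
  obtain ⟨g, hg⟩ := QuotientGroup.mk'_surjective (Subgroup.center (GL (Fin 2) (ZMod q))) (a⁻¹ * x * a)
  obtain ⟨w, hw1, hw2, hwc⟩ := exists_common h3 g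
  intro hbot
  apply hwc
  rw [← QuotientGroup.eq_one_iff]
  have key : a * π w * a⁻¹ ∈ ((a • S0 : Sylow 2 _) : Subgroup _) ⊓ MulAut.conj x • ((a • S0 : Sylow 2 _) : Subgroup _) := by
    have hw' : π w ∈ P0 := Subgroup.mem_map_of_mem _ hw1
    refine ⟨?_, ?_⟩
    · show a * π w * a⁻¹ ∈ MulAut.conj a • (S0 : Subgroup _)
      rw [Subgroup.mem_pointwise_smul_iff_inv_smul_mem]
      simpa [S0, MulAut.smul_def, mul_assoc] using hw'
    · have hw'' : π (g⁻¹ * w * g) ∈ P0 := Subgroup.mem_map_of_mem _ hw2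
      rw [map_mul, map_mul, map_inv, hg] at hw''
      show a * π w * a⁻¹ ∈ MulAut.conj x • MulAut.conj a • (S0 : Subgroup _)
      rw [Subgroup.mem_pointwise_smul_iff_inv_smul_mem, Subgroup.mem_pointwise_smul_iff_inv_smul_mem]
      simpa [S0, MulAut.smul_def, mul_assoc] using hw''
  rw [hbot, Subgroup.mem_bot, conj_eq_one_iff] at key
  exact key

end Cfsg.Agent.S2485
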