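import Cfsg.Statements.S2486
import Cfsg.Agent.Lib.PGroup.FusionPSL
import Cfsg.Agent.Lib.KnownA.GLFlags.Bruhat

set_option autoImplicit false
open scoped Pointwise
open Cfsg

namespace Cfsg.Agent.S2486

open CfsgLib.PGroup CfsgLib.PGroup.UnitriangularSL CfsgLib.KnownA

variable {n : ℕ}

/-- Over the field with two elements an upper triangular matrix of determinant one is unitriangular. -/
theorem upper_mem_U {A : Matrix.SpecialLinearGroup (Fin n) (ZMod 2)}
    (hA : ∀ a b : Fin n, b < a → A.1 a b = 0) : A ∈ U (ZMod 2) n := by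
  obtain ⟨d, hd, u, hu, rfl⟩ := upper_eq hA
  have hu1 : ∀ v : (ZMod 2)ˣ, v = 1 := by decide
  have : D d hd = 1 := Subtype.ext (by
    show Matrix.diagonal (fun a => (d a : ZMod 2)) = 1
    rw [← Matrix.diagonal_one]
    congr 1
    funext a
    rw [hu1 (d a), Units.val_one])
  rwa [this, one_mul]

/-- An invertible matrix over the field with two elements as an element of `SL`. -/
theorem exists_toGL (M : GL (Fin n) (ZMod 2)) :
    ∃ A : Matrix.SpecialLinearGroup (Fin n) (ZMod 2), A.1 = M.1 := by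
  have hu1 : ∀ v : (ZMod 2)ˣ, v = 1 := by decide
  exact ⟨⟨M.1, congrArg Units.val (hu1 (Matrix.GeneralLinearGroup.det M))⟩, rfl⟩

/-- A conjugate of the unitriangular group meeting it trivially is the one by the longest permutation,
conjugated inside the group. -/
theorem exists_opposite : ∃ P : Matrix.SpecialLinearGroup (Fin n) (ZMod 2), ∀ g : Matrix.SpecialLinearGroup (Fin n) (ZMod 2),
    (∀ v ∈ U (ZMod 2) n, g * v * g⁻¹ ∈ U (ZMod 2) n → v = 1) →
      ∃ u ∈ U (ZMod 2) n, ∃ u' ∈ U (ZMod 2) n, g = u * P * u' := by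
  obtain ⟨P, hP⟩ := exists_toGL (GLFlags.permGL (ZMod 2) (Fin.revPerm (n := n)))
  refine ⟨P, fun g hg => ?_⟩
  obtain ⟨b, b', σ, hb, hb', he⟩ := GLFlags.exists_upper_perm_upper (Matrix.SpecialLinearGroup.toGL g)
  obtain ⟨B, hB⟩ := exists_toGL b
  obtain ⟨B', hB'⟩ := exists_toGL b'
  obtain ⟨Q, hQ⟩ := exists_toGL (GLFlags.permGL (ZMod 2) σ)
  have hBU : B ∈ U (ZMod 2) n := upper_mem_U fun a c h => by rw [hB]; exact hb h
  have hBU' : B' ∈ U (ZMod 2) n := upper_mem_U fun a c h => by rw [hB']; exact hb' h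
  have hgBQB : g = B * Q * B' := Subtype.ext (by
    have := congrArg Units.val he
    simp only [Units.val_mul] at this
    rw [Matrix.SpecialLinearGroup.coe_mul, Matrix.SpecialLinearGroup.coe_mul, hB, hB', hQ]
    exact this)
  refine ⟨B, hBU, B', hBU', ?_⟩
  rw [hgBQB]
  suffices hσ : σ = Fin.revPerm by
    congr 2
    exact Subtype.ext (by rw [hQ, hP, hσ])
  have hanti : StrictAnti σ := by
    intro i j hij
    by_contra hle
    have hlt : σ i < σ j := lt_of_le_of_ne (not_lt.1 hle) (σ.injective.ne hij.ne)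
    have hconj : Q * X hij.ne (1 : ZMod 2) = X hlt.ne (1 : ZMod 2) * Q := by
      refine Subtype.ext ?_
      rw [Matrix.SpecialLinearGroup.coe_mul, Matrix.SpecialLinearGroup.coe_mul, X_coe, X_coe, hQ, mul_add, add_mul,
        one_mul, mul_one]
      congr 1
      ext a c
      rw [mul_single', single_mul']
      simp only [GLFlags.coe_permGL, GLFlags.permM_apply, mul_one, one_mul]
      by_cases hc : c = j <;> by_cases ha : a = σ i <;> aesop
    have h1 := hg (B'⁻¹ * X hij.ne (1 : ZMod 2) * B') (mul_mem (mul_mem (inv_mem hBU') (X_mem_U hij 1)) hBU') (by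
      have e : g * (B'⁻¹ * X hij.ne (1 : ZMod 2) * B') * g⁻¹ = B * X hlt.ne (1 : ZMod 2) * B⁻¹ := by
        rw [hgBQB, show B * Q * B' * (B'⁻¹ * X hij.ne (1 : ZMod 2) * B') * (B * Q * B')⁻¹ =
          B * (Q * X hij.ne (1 : ZMod 2)) * Q⁻¹ * B⁻¹ by group, hconj]
        group
      rw [e]
      exact mul_mem (mul_mem hBU (X_mem_U hlt 1)) (inv_mem hBU))
    have h2 : X hij.ne (1 : ZMod 2) = (1 : Matrix.SpecialLinearGroup (Fin n) (ZMod 2)) := by
      rw [show X hij.ne (1 : ZMod 2) = B' * (B'⁻¹ * X hij.ne (1 : ZMod 2) * B') * B'⁻¹ by group, h1]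
      group
    have h3 := congrArg (fun A : Matrix.SpecialLinearGroup (Fin n) (ZMod 2) => A.1 i j) h2
    simp [hij.ne, Matrix.SpecialLinearGroup.transvection_coe] at h3
  refine Equiv.ext fun i => ?_
  have hmono : StrictMono (Fin.rev ∘ σ) := Fin.rev_strictAnti.comp hanti
  have := congrFun (hmono.range_inj strictMono_id |>.1 (by simp [Set.range_comp])) i
  simp only [Function.comp_apply, id_eq] at this
  rw [Fin.revPerm_apply, ← this, Fin.rev_rev, this]

/-- Let n ≥ 4 and let G be a finite group with a normal subgroup N of index 2 isomorphic to SL(n,2) and with trivial centralizer in G (so G is the extension of the simple group L_n(2) by its inverse-transpose automorphism, its full automorphism group). Then any two Sylow 2-subgroups of G have a non-trivial intersection: for a Sylow 2-subgroup H and every x ∈ G, H ∩ H^x ≠ 1. -/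
theorem result {G : Type*} [Group G] [Finite G] {n : ℕ} (hn : 4 ≤ n) (N : Subgroup G) [N.Normal]
    (e : N ≃* Matrix.SpecialLinearGroup (Fin n) (ZMod 2)) (hidx : N.index = 2)
    (hC : Subgroup.centralizer (N : Set G) = ⊥)
    (H : Sylow 2 G) (x : G) :
    (H : Subgroup G) ⊓ MulAut.conj x • (H : Subgroup G) ≠ ⊥ := by
  classical
  obtain ⟨H0, hH0⟩ : ∃ H0 : Sylow 2 G, (U (ZMod 2) n).map (N.subtype.comp e.symm.toMonoidHom) ≤ H0 :=
    ((U_isPGroup 2).map _).exists_le_sylow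
  set φ : Matrix.SpecialLinearGroup (Fin n) (ZMod 2) →* G := N.subtype.comp e.symm.toMonoidHom with hφdef
  have hφi : Function.Injective φ := Subtype.val_injective.comp e.symm.injective
  have hφr : ∀ g : G, g ∈ N → ∃ A, φ A = g := fun g hg => ⟨e ⟨g, hg⟩, by simp [hφdef]⟩
  have hφN : ∀ A, φ A ∈ N := fun A => (e.symm A).2
  set W := U (ZMod 2) n
  -- the trace of the Sylow subgroup on `N`
  have htrace : ∀ A, φ A ∈ H0 → A ∈ W := by
    obtain ⟨S, hS⟩ := FusionPSL.exists_sylow (p := 2) (F := ZMod 2) (n := n)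
      (π := MonoidHom.id (Matrix.SpecialLinearGroup (Fin n) (ZMod 2))) Function.surjective_id
    rw [Subgroup.map_id] at hS
    have hp : IsPGroup 2 ((H0 : Subgroup G).comap φ) := H0.2.comap_of_injective φ hφi
    have hle : ∀ A, A ∈ (S : Subgroup _) → φ A ∈ H0 := fun A hA =>
      hH0 (Subgroup.mem_map_of_mem φ (by rwa [hS] at hA))
    have := S.3 hp hle
    intro A hA
    have hA' : A ∈ (H0 : Subgroup G).comap φ := hA
    rwa [this, hS] at hA'
  have hself : ∀ A, (∀ v ∈ W, A * v * A⁻¹ ∈ W) → A ∈ W := fun A hA => upper_mem_U (upper_of_normalizes hA)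
  have hnormH : ∀ h ∈ H0, ∀ v ∈ W, ∃ v' ∈ W, φ v' = h * φ v * h⁻¹ := by
    intro h hh v hv
    obtain ⟨v', hv'⟩ := hφr _ (Subgroup.Normal.conj_mem inferInstance _ (hφN v) h)
    exact ⟨v', htrace v' (hv' ▸ mul_mem (mul_mem hh (hH0 (Subgroup.mem_map_of_mem φ hv))) (inv_mem hh)), hv'⟩
  -- an element of the Sylow subgroup outside `N`
  obtain ⟨t, htH, htN⟩ : ∃ t ∈ H0, t ∉ N := by
    by_contra hcon
    push Not at hcon
    have hdvd : (2 : ℕ) ∣ (H0 : Subgroup G).index := by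
      rw [← Subgroup.relIndex_mul_index (fun t ht => hcon t ht), hidx]
      exact dvd_mul_left _ _
    exact H0.not_dvd_index hdvd
  have hsplit : ∀ g : G, ∃ A, ∃ h ∈ H0, g = φ A * h := by
    intro g
    by_cases hg : g ∈ N
    · obtain ⟨A, hA⟩ := hφr g hg
      exact ⟨A, 1, one_mem _, by rw [mul_one, hA]⟩
    · have hgt : g * t⁻¹ ∈ N := by
        rw [Subgroup.mul_mem_iff_of_index_two hidx]
        exact iff_of_false hg (fun hh => htN (by simpa using inv_mem hh))
      obtain ⟨A, hA⟩ := hφr _ hgt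
      exact ⟨A, t, htH, by rw [hA, inv_mul_cancel_right]⟩
  -- the basic intersections
  have key : ∀ A, ∃ z, z ≠ 1 ∧ z ∈ H0 ∧ (φ A)⁻¹ * z * φ A ∈ H0 := by
    intro A
    by_cases hcase : ∀ v ∈ W, A * v * A⁻¹ ∈ W → v = 1
    swap
    · push Not at hcase
      obtain ⟨v, hv, hv', hv1⟩ := hcase
      refine ⟨φ (A * v * A⁻¹), fun h => hv1 ?_, hH0 (Subgroup.mem_map_of_mem φ hv'), ?_⟩
      · have := hφi (h.trans (map_one φ).symm)
        rwa [conj_eq_one_iff] at this
      · rw [← map_inv, ← map_mul, ← map_mul, show A⁻¹ * (A * v * A⁻¹) * A = v by group]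
        exact hH0 (Subgroup.mem_map_of_mem φ hv)
    obtain ⟨P, hP⟩ := exists_opposite (n := n)
    -- the action of `t` on the opposite subgroup
    obtain ⟨τP, hτP⟩ := hφr _ (Subgroup.Normal.conj_mem inferInstance _ (hφN P) t)
    obtain ⟨u₁, hu₁, u₂, hu₂, hA⟩ := hP A hcase
    have hPcase : ∀ v ∈ W, P * v * P⁻¹ ∈ W → v = 1 := by
      intro v hv hv'
      have := hcase (u₂⁻¹ * v * u₂) (mul_mem (mul_mem (inv_mem hu₂) hv) hu₂) (by
        rw [hA, show u₁ * P * u₂ * (u₂⁻¹ * v * u₂) * (u₁ * P * u₂)⁻¹ = u₁ * (P * v * P⁻¹) * u₁⁻¹ by group]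
        exact mul_mem (mul_mem hu₁ hv') (inv_mem hu₁))
      rw [show v = u₂ * (u₂⁻¹ * v * u₂) * u₂⁻¹ by group, this]
      group
    have hτcase : ∀ v ∈ W, τP * v * τP⁻¹ ∈ W → v = 1 := by
      intro v hv hv'
      obtain ⟨w, hw, hwe⟩ := hnormH t⁻¹ (inv_mem htH) v hv
      obtain ⟨w', hw', hwe'⟩ := hnormH t⁻¹ (inv_mem htH) _ hv'
      have hPw : P * w * P⁻¹ = w' := hφi (by
        rw [map_mul, map_mul, map_inv, hwe, hwe', map_mul, map_mul, map_inv, hτP]; group)
      have h1 := hPcase w hw (hPw ▸ hw')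
      rw [h1, map_one, eq_comm, conj_eq_one_iff] at hwe
      exact hφi (hwe.trans (map_one φ).symm)
    obtain ⟨s₁, hs₁, s₂, hs₂, hs⟩ := hP τP hτcase
    set g := (φ s₁)⁻¹ * t with hg
    have hgH : g ∈ H0 := mul_mem (inv_mem (hH0 (Subgroup.mem_map_of_mem φ hs₁))) htH
    have hgP : (φ P)⁻¹ * g * φ P ∈ H0 := by
      have : (φ P)⁻¹ * g * φ P = φ s₂ * t := by
        have h2 : t * φ P = φ s₁ * φ P * φ s₂ * t := by
          rw [← map_mul, ← map_mul, ← hs, hτP, inv_mul_cancel_right]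
        rw [hg, show (φ P)⁻¹ * ((φ s₁)⁻¹ * t) * φ P = (φ P)⁻¹ * (φ s₁)⁻¹ * (t * φ P) by group, h2]
        group
      rw [this]
      exact mul_mem (hH0 (Subgroup.mem_map_of_mem φ hs₂)) htH
    refine ⟨φ u₁ * g * (φ u₁)⁻¹, fun h => htN ?_, mul_mem (mul_mem (hH0 (Subgroup.mem_map_of_mem φ hu₁)) hgH)
      (inv_mem (hH0 (Subgroup.mem_map_of_mem φ hu₁))), ?_⟩
    · rw [conj_eq_one_iff, hg, inv_mul_eq_one] at h
      exact h ▸ hφN _
    · rw [hA, map_mul, map_mul, show (φ u₁ * φ P * φ u₂)⁻¹ * (φ u₁ * g * (φ u₁)⁻¹) * (φ u₁ * φ P * φ u₂) =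
        (φ u₂)⁻¹ * ((φ P)⁻¹ * g * φ P) * φ u₂ by group]
      exact mul_mem (mul_mem (inv_mem (hH0 (Subgroup.mem_map_of_mem φ hu₂))) hgP)
        (hH0 (Subgroup.mem_map_of_mem φ hu₂))
  obtain ⟨a, ha⟩ := MulAction.exists_smul_eq G H0 H
  subst ha
  obtain ⟨A, h, hh, hx⟩ := hsplit (a⁻¹ * x * a)
  obtain ⟨z, hz1, hz, hz'⟩ := key A
  refine (Subgroup.ne_bot_iff_exists_ne_one).2 ⟨⟨a * z * a⁻¹, ?_, ?_⟩, fun hh => hz1 ?_⟩
  · rw [Sylow.coe_subgroup_smul]
    exact Subgroup.mem_pointwise_smul_iff_inv_smul_mem.2 (by simpa [MulAut.smul_def, mul_assoc] using (show z ∈ (H0 : Subgroup G) from hz))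
  · refine Subgroup.mem_pointwise_smul_iff_inv_smul_mem.2 ?_
    rw [Sylow.coe_subgroup_smul]
    refine Subgroup.mem_pointwise_smul_iff_inv_smul_mem.2 ?_
    have hxe : x = a * (φ A * h) * a⁻¹ := by rw [← hx]; group
    have hgoal : a⁻¹ * (x⁻¹ * (a * z * a⁻¹) * x) * a ∈ (H0 : Subgroup G) := by
      rw [hxe, show a⁻¹ * ((a * (φ A * h) * a⁻¹)⁻¹ * (a * z * a⁻¹) * (a * (φ A * h) * a⁻¹)) * a =
        h⁻¹ * ((φ A)⁻¹ * z * φ A) * h by group]
      exact mul_mem (mul_mem (inv_mem hh) hz') hh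
    simpa [MulAut.smul_def, mul_assoc] using hgoal
  · have := congrArg Subtype.val hh
    simpa [conj_eq_one_iff] using this

end Cfsg.Agent.S2486
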