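import Cfsg.Statements.S2487
import Cfsg.Agent.Lib.KnownA.SylowMeetPlus
import Cfsg.Agent.Lib.Orth.Standard

set_option autoImplicit false
open scoped Pointwise
open Cfsg

namespace Cfsg.Agent.S2487

open CfsgLib.Orth

/-- Let m ≥ 4 and let G be the full isometry group of the hyperbolic quadratic form x₁y₁ + ⋯ + x_m y_m on the 2m-dimensional space over the field with 2 elements (the orthogonal group O⁺(2m,2), which contains Ω⁺(2m,2) with index 2). Then any two Sylow 2-subgroups of G have a non-trivial intersection: for a Sylow 2-subgroup H and every x ∈ G, H ∩ H^x ≠ 1. -/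
theorem result {F : Type*} [Field F] [Fintype F] (hF : Fintype.card F = 2) {m : ℕ} (hm : 4 ≤ m)
    (H : Sylow 2 (Cfsg.isometryGroup F (Cfsg.quadFormPlus m F)))
    (x : Cfsg.isometryGroup F (Cfsg.quadFormPlus m F)) :
    (H : Subgroup (Cfsg.isometryGroup F (Cfsg.quadFormPlus m F))) ⊓ MulAut.conj x • (H : Subgroup _) ≠ ⊥ := by
  classical
  have h01 : ∀ c : F, c = 0 ∨ c = 1 := fun c => by
    by_contra hc
    push Not at hc
    have h3 : ({0, 1, c} : Finset F).card = 3 := by
      rw [Finset.card_insert_of_notMem (by simp [hc.1.symm]), Finset.card_insert_of_notMem (by simp [hc.2.symm])]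
      rfl
    have := Finset.card_le_univ ({0, 1, c} : Finset F)
    omega
  let e := toOrth (plusForm F m) (plusForm_apply m)
  let H' : Sylow 2 (Cfsg.isometryGroup F (Cfsg.quadFormPlus m F)) := x • H
  let L : (Fin m → F) →ₗ[F] (Fin m ⊕ Fin m → F) :=
    { toFun := fun y => Sum.elim y 0
      map_add' := fun y z => by ext (i | i) <;> simp
      map_smul' := fun c y => by ext (i | i) <;> simp }
  have hU : CfsgLib.KnownA.SylowMeetPlus.Singular (plusForm F m) (LinearMap.range L) := by
    rintro _ ⟨y, rfl⟩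
    rw [← plusForm_apply]
    simp [Cfsg.quadFormPlus, L]
  have hUd : m ≤ Module.finrank F (LinearMap.range L) := by
    rw [LinearMap.finrank_range_of_inj fun y z h => funext fun i => congrFun h (Sum.inl i)]
    simp
  haveI : Finite (orthGroup (plusForm F m)) := CfsgLib.KnownA.SylowMeetPlus.finite_orth
  obtain ⟨g, hg1, hgH, hgH'⟩ := CfsgLib.KnownA.SylowMeetPlus.exists_common h01 m (by omega)
    (plusForm F m) (plusForm_nondeg m) (by simp [two_mul]) ⟨_, hU, hUd⟩
    (H.mapSurjective (f := e.toMonoidHom) e.surjective) (H'.mapSurjective (f := e.toMonoidHom) e.surjective)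
  obtain ⟨y, hy, rfl⟩ := hgH
  obtain ⟨z, hz, hzy⟩ := hgH'
  obtain rfl : z = y := e.injective hzy
  intro hbot
  have hz' : z ∈ MulAut.conj x • (H : Subgroup (Cfsg.isometryGroup F (Cfsg.quadFormPlus m F))) := hz
  refine hg1 ?_
  have h1 : z = 1 := (Subgroup.mem_bot).1 (hbot ▸ Subgroup.mem_inf.2 ⟨hy, hz'⟩)
  rw [h1, map_one]

end Cfsg.Agent.S2487
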