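import Cfsg.Statements.S2488
import Cfsg.Agent.Lib.Solvable.AltSixCounts
import Cfsg.Agent.Lib.Recognition.AltSixSpectrum
import Cfsg.Agent.Lib.Solvable.FrattiniFitting
import Mathlib

set_option autoImplicit false
open scoped Pointwise
open Cfsg
open scoped Pointwise

namespace Cfsg.Agent.S2488

theorem central_of_sylow {K : Type*} [Group K] [Finite K] {M : Subgroup K} [M.Normal] (h2 : 2 ∣ Nat.card M)
    (S : Sylow 2 K) : ∃ t : K, t ∈ M ∧ t ∈ (S : Subgroup K) ∧ t ^ 2 = 1 ∧ t ≠ 1 ∧
      ∀ y ∈ (S : Subgroup K), y * t = t * y := by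
  haveI : Fact (Nat.Prime 2) := ⟨Nat.prime_two⟩
  set U := M ⊓ (S : Subgroup K) with hU
  set U' := U.subgroupOf (S : Subgroup K) with hU'
  haveI : U'.Normal := by
    rw [hU', hU, Subgroup.inf_subgroupOf_right]
    infer_instance
  have hne : U' ≠ ⊥ := by
    intro e
    have hd : (U : Subgroup K) = ⊥ := by
      refine eq_bot_iff.mpr fun x hx => ?_
      have h : (⟨x, hx.2⟩ : (S : Subgroup K)) ∈ U' := hx
      rw [e, Subgroup.mem_bot] at h
      exact Subgroup.mem_bot.mpr (congrArg Subtype.val h)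
    obtain ⟨m, hm⟩ := exists_prime_orderOf_dvd_card' (G := M) 2 h2
    have hp : IsPGroup 2 (Subgroup.zpowers (m : K)) :=
      IsPGroup.of_card (n := 1) (by rw [Nat.card_zpowers, Subgroup.orderOf_coe, hm, pow_one])
    obtain ⟨T, hT⟩ := hp.exists_le_sylow
    obtain ⟨g, hg⟩ := MulAction.exists_smul_eq K T S
    have h1 : g * m * g⁻¹ ∈ U := by
      refine ⟨(inferInstance : M.Normal).conj_mem _ m.2 g, ?_⟩
      rw [← hg]
      exact ⟨m, hT (Subgroup.mem_zpowers _), rfl⟩
    rw [hd, Subgroup.mem_bot, conj_eq_one_iff] at h1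
    rw [show m = 1 from Subtype.ext h1, orderOf_one] at hm
    omega
  haveI : Nontrivial U' := (Subgroup.nontrivial_iff_ne_bot _).mpr hne
  set Z := U' ⊓ Subgroup.center (S : Subgroup K) with hZ
  have hZne : Z ≠ ⊥ := by
    intro e
    haveI := (S.isPGroup').isNilpotent
    exact CfsgLib.Solvable.FrattiniFitting.inf_center_ne_bot U' hne e
  obtain ⟨n, hn⟩ := (S.isPGroup'.to_subgroup Z).exists_card_eq
  have hn0 : n ≠ 0 := by rintro rfl; exact hZne (Subgroup.eq_bot_of_card_eq _ (hn.trans (pow_zero 2)))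
  obtain ⟨t, ht⟩ := exists_prime_orderOf_dvd_card' (G := Z) 2 (hn ▸ dvd_pow_self 2 hn0)
  have ht' : orderOf ((t : (S : Subgroup K)) : K) = 2 := by
    rw [Subgroup.orderOf_coe, Subgroup.orderOf_coe, ht]
  refine ⟨_, (show ((t : (S : Subgroup K)) : K) ∈ U from t.2.1).1, (t : (S : Subgroup K)).2,
    by have := pow_orderOf_eq_one ((t : (S : Subgroup K)) : K); rwa [ht'] at this, fun e => ?_, fun y hy => ?_⟩
  · rw [e, orderOf_one] at ht'; omega
  · exact congrArg Subtype.val (Subgroup.mem_center_iff.mp t.2.2 ⟨y, hy⟩)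

/-- Let G be a finite group with a normal subgroup N of index 4 isomorphic to the alternating group of degree 6 and with trivial centralizer in G (so G is the full automorphism group of A₆). Then any two Sylow 2-subgroups of G have a non-trivial intersection: for a Sylow 2-subgroup H and every x ∈ G, H ∩ H^x ≠ 1. -/
theorem result {G : Type*} [Group G] [Finite G] (N : Subgroup G) [N.Normal]
    (e : N ≃* alternatingGroup (Fin 6)) (hidx : N.index = 4)
    (hC : Subgroup.centralizer (N : Set G) = ⊥)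
    (H : Sylow 2 G) (x : G) :
    (H : Subgroup G) ⊓ MulAut.conj x • (H : Subgroup G) ≠ ⊥ := by
  classical
  haveI : Fact (Nat.Prime 2) := ⟨Nat.prime_two⟩
  have hcN : Nat.card N = 360 := by
    have h := two_mul_nat_card_alternatingGroup (α := Fin 6)
    rw [Nat.card_congr e.toEquiv]
    simp [Nat.card_eq_fintype_card, Fintype.card_perm, Nat.factorial] at h ⊢
    omega
  have hcG : Nat.card G = 1440 := by rw [← N.card_mul_index, hcN, hidx]
  have hcS : ∀ S : Sylow 2 G, Nat.card S = 32 := fun S => by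
    rw [S.card_eq_multiplicity, hcG, show (1440 : ℕ) = 2 ^ 5 * 45 by norm_num,
      Nat.factorization_mul (by norm_num) (by norm_num), Nat.Prime.factorization_pow Nat.prime_two]
    simp [Nat.factorization_eq_zero_of_not_dvd (show ¬ 2 ∣ 45 by norm_num)]
  have hcent : ∀ z : G, z ∈ N → z ^ 2 = 1 → z ≠ 1 → Nat.card (Subgroup.centralizer ({z} : Set G)) ≤ 32 := by
    intro z hz hz2 hz1
    set C := Subgroup.centralizer ({z} : Set G) with hC
    have h1 : Nat.card ↥(N.subgroupOf C) ≤ 8 := by
      have hb := CfsgLib.Solvable.AltSixCounts.cinv (e ⟨z, hz⟩)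
        (by rw [← map_pow, show (⟨z, hz⟩ : N) ^ 2 = 1 from Subtype.ext (by simpa using hz2), map_one])
        (fun h => hz1 (congrArg Subtype.val (e.map_eq_one_iff.mp h)))
      rw [← Fintype.card_coe, ← Nat.card_eq_fintype_card] at hb
      refine le_trans (Nat.card_le_card_of_injective (fun c : N.subgroupOf C =>
        (⟨e ⟨((c : C) : G), c.2⟩, ?_⟩ : {h // h ∈ Finset.univ.filter fun h : alternatingGroup (Fin 6) =>
          h * e ⟨z, hz⟩ = e ⟨z, hz⟩ * h})) ?_) hb
      · refine Finset.mem_filter.mpr ⟨Finset.mem_univ _, ?_⟩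
        rw [← map_mul, ← map_mul]
        exact congrArg e (Subtype.ext (Subgroup.mem_centralizer_singleton_iff.mp (c : C).2))
      · intro c c' h
        have h' := congrArg (fun v : N => (v : G)) (e.injective (congrArg Subtype.val h))
        exact Subtype.ext (Subtype.ext h')
    have h2 : (N.subgroupOf C).index ≤ 4 := by
      rw [← Subgroup.relIndex, ← hidx]
      exact Nat.le_of_dvd (by rw [hidx]; norm_num) (Subgroup.relIndex_dvd_index_of_normal N C)
    rw [← (N.subgroupOf C).card_mul_index]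
    nlinarith [Nat.mul_le_mul h1 h2]
  -- an involution of `N` whose centraliser is the given Sylow subgroup
  have hinv : ∀ S : Sylow 2 G, ∃ z : G, z ∈ N ∧ z ^ 2 = 1 ∧ z ≠ 1 ∧ z ∈ (S : Subgroup G) ∧
      ∀ y : G, y * z = z * y → y ∈ (S : Subgroup G) := by
    intro S
    obtain ⟨z, hzN, hzS, hz2, hz1, hzc⟩ := central_of_sylow (M := N) (by rw [hcN]; norm_num) S
    refine ⟨z, hzN, hz2, hz1, hzS, fun y hy => ?_⟩
    have hle : (S : Subgroup G) ≤ Subgroup.centralizer ({z} : Set G) := fun v hv =>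
      Subgroup.mem_centralizer_singleton_iff.mpr (hzc v hv)
    rw [Subgroup.eq_of_le_of_card_ge hle ((hcent z hzN hz2 hz1).trans (hcS S).ge)]
    exact Subgroup.mem_centralizer_singleton_iff.mpr hy
  obtain ⟨z, hzN, hz2, hz1, hzH, hzC⟩ := hinv H
  obtain ⟨w, hwN, hw2, hw1, hwQ, hwC⟩ := hinv (MulAut.conj x • H)
  rw [show MulAut.conj x • (H : Subgroup G) = ((MulAut.conj x • H : Sylow 2 G) : Subgroup G) from rfl]
  suffices ∃ t : G, t ≠ 1 ∧ t * z = z * t ∧ t * w = w * t by
    obtain ⟨t, ht1, htz, htw⟩ := this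
    exact fun hbot => ht1 (Subgroup.mem_bot.mp (hbot ▸ Subgroup.mem_inf.mpr ⟨hzC t htz, hwC t htw⟩))
  have hzi : z⁻¹ = z := inv_eq_of_mul_eq_one_right (by rw [← sq, hz2])
  have hwi : w⁻¹ = w := inv_eq_of_mul_eq_one_right (by rw [← sq, hw2])
  set u := z * w with hu
  have hui : u⁻¹ = w * z := by rw [hu, mul_inv_rev, hzi, hwi]
  have hzu : z * u * z⁻¹ = u⁻¹ := by
    rw [hui, hzi, hu, ← mul_assoc z z w, ← sq, hz2, one_mul]
  have hw' : w = z * u := by rw [hu, ← mul_assoc, ← sq, hz2, one_mul]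
  have huN : u ∈ N := mul_mem hzN hwN
  have huk : u = 1 ∨ u ^ 2 = 1 ∨ u ^ 3 = 1 ∨ u ^ 4 = 1 ∨ u ^ 5 = 1 := by
    have h := CfsgLib.Recognition.AltSixSpectrum.exponents (e ⟨u, huN⟩)
    simp only [← map_pow, e.map_eq_one_iff] at h
    simpa [Subtype.ext_iff] using h
  have hsquare : ∀ v : G, v ^ 2 = 1 → z * v * z⁻¹ = v⁻¹ → Commute v z := fun v hv h => by
    have hvi : v⁻¹ = v := inv_eq_of_mul_eq_one_right (by rw [← sq, hv])
    rw [hvi, mul_inv_eq_iff_eq_mul] at h
    exact h.symm
  rcases eq_or_ne u 1 with hu1 | hu1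
  · exact ⟨z, hz1, rfl, by rw [hw', hu1, mul_one]⟩
  rcases eq_or_ne (u ^ 2) 1 with hu2 | hu2
  · refine ⟨u, hu1, (hsquare u hu2 hzu).eq, ?_⟩
    rw [hw', ← mul_assoc, (hsquare u hu2 hzu).eq]
  rcases eq_or_ne (u ^ 4) 1 with hu4 | hu4
  · have hv : Commute (u ^ 2) z := hsquare _ (by rw [← pow_mul]; exact hu4) (by rw [← conj_pow, hzu, inv_pow])
    exact ⟨u ^ 2, hu2, hv.eq, by rw [hw']; exact (hv.mul_right ((Commute.refl u).pow_left 2)).eq⟩
  obtain ⟨k, hk, huk'⟩ : ∃ k, (k = 3 ∨ k = 5) ∧ u ^ k = 1 := by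
    rcases huk with h | h | h | h | h
    · exact absurd h hu1
    · exact absurd h hu2
    · exact ⟨3, .inl rfl, h⟩
    · exact absurd h hu4
    · exact ⟨5, .inr rfl, h⟩
  have hkp : k.Prime := by rcases hk with rfl | rfl <;> norm_num
  haveI := Fact.mk hkp
  have huo : orderOf u = k := orderOf_eq_prime huk' hu1
  set C := Subgroup.centralizer ({u} : Set G) with hC
  have hCeven : 2 ∣ Nat.card C := by
    by_contra hodd
    have hCN : C ≤ N := by
      intro c hc
      obtain ⟨m, hm⟩ : Odd (Nat.card C) := Nat.odd_iff.mpr (Nat.two_dvd_ne_zero.mp hodd)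
      have h1 : (c : G ⧸ N) ^ Nat.card C = 1 := by
        rw [← QuotientGroup.mk_pow]
        have h := congrArg Subtype.val (pow_card_eq_one' (x := (⟨c, hc⟩ : C)))
        simp only [SubmonoidClass.coe_pow, OneMemClass.coe_one] at h
        rw [h, QuotientGroup.mk_one]
      have h2 : (c : G ⧸ N) ^ 4 = 1 := by
        have := pow_card_eq_one' (x := (c : G ⧸ N))
        rwa [← Subgroup.index_eq_card, hidx] at this
      have hcop : Nat.Coprime (Nat.card C) 4 :=
        Nat.Coprime.pow_right 2 ((Nat.prime_two.coprime_iff_not_dvd.mpr hodd).symm)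
      have := Nat.eq_one_of_dvd_coprimes hcop (orderOf_dvd_of_pow_eq_one h1) (orderOf_dvd_of_pow_eq_one h2)
      exact (QuotientGroup.eq_one_iff c).mp (orderOf_eq_one_iff.mp this)
    have hd360 : Nat.card C ∣ 360 := hcN ▸ Subgroup.card_dvd_of_le hCN
    -- no elements of order fifteen
    have hno : ∀ l : ℕ, l.Prime → l = 3 ∨ l = 5 → l ≠ k → ¬ l ∣ Nat.card C := by
      intro l hl hl35 hlk hld
      haveI := Fact.mk hl
      obtain ⟨y, hy⟩ := exists_prime_orderOf_dvd_card' (G := C) l hld
      have hyo : orderOf (y : G) = l := by rw [Subgroup.orderOf_coe, hy]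
      have hcom : Commute u (y : G) := (Subgroup.mem_centralizer_singleton_iff.mp y.2).symm
      have ho : orderOf (u * y) = 15 := by
        rw [hcom.orderOf_mul_eq_mul_orderOf_of_coprime (by
          rw [huo, hyo]; exact (Nat.coprime_primes hkp hl).mpr hlk.symm), huo, hyo]
        rcases hk with hk | hk <;> rcases hl35 with hl' | hl' <;> subst hk <;> subst hl' <;>
          first | exact absurd rfl hlk | norm_num
      have h := CfsgLib.Recognition.AltSixSpectrum.exponents (e ⟨u * y, mul_mem huN (hCN y.2)⟩)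
      simp only [← map_pow, e.map_eq_one_iff] at h
      simp only [Subtype.ext_iff, SubmonoidClass.coe_pow, OneMemClass.coe_one] at h
      rcases h with h | h | h | h | h
      · rw [h, orderOf_one] at ho; omega
      all_goals (have := orderOf_dvd_of_pow_eq_one h; rw [ho] at this; omega)
    -- the conjugates of `u`
    set T := Finset.univ.filter (fun g : alternatingGroup (Fin 6) => g ^ k = 1) with hT
    have hclass : C.index ≤ T.card := by
      rw [Subgroup.index_eq_card, ← Fintype.card_coe, ← Nat.card_eq_fintype_card]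
      have hmem : ∀ g : G, g * u * g⁻¹ ∈ N := fun g => (inferInstance : N.Normal).conj_mem u huN g
      have hpw : ∀ g : G, (⟨g * u * g⁻¹, hmem g⟩ : N) ^ k = 1 := fun g => Subtype.ext (by
        simp [conj_pow, huk'])
      refine Nat.card_le_card_of_injective
        (fun q : G ⧸ C => (⟨e ⟨q.out * u * q.out⁻¹, hmem _⟩, Finset.mem_filter.mpr
          ⟨Finset.mem_univ _, by rw [← map_pow, hpw, map_one]⟩⟩ : {g // g ∈ T})) fun a b h => ?_
      have h1 : a.out * u * a.out⁻¹ = b.out * u * b.out⁻¹ :=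
        congrArg Subtype.val (e.injective (congrArg Subtype.val h))
      rw [← QuotientGroup.out_eq' a, ← QuotientGroup.out_eq' b, QuotientGroup.eq, Subgroup.mem_centralizer_singleton_iff]
      calc a.out⁻¹ * b.out * u = a.out⁻¹ * (b.out * u * b.out⁻¹) * b.out := by group
        _ = u * (a.out⁻¹ * b.out) := by rw [← h1]; group
    have hTb : T.card ≤ if k = 3 then 81 else 145 := by
      rcases hk with rfl | rfl
      · exact CfsgLib.Solvable.AltSixCounts.c3
      · exact CfsgLib.Solvable.AltSixCounts.c5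
    have hmul := C.card_mul_index
    rw [hcG] at hmul
    have hle : Nat.card C ≤ 360 := Nat.le_of_dvd (by norm_num) hd360
    rcases hk with rfl | rfl
    · have h5 : ¬ 5 ∣ Nat.card C := hno 5 (by norm_num) (.inr rfl) (by norm_num)
      generalize Nat.card C = c at *
      have : c ∈ Nat.divisors 360 := Nat.mem_divisors.mpr ⟨hd360, by norm_num⟩
      simp only [if_pos] at hTb
      have hci : 1440 ≤ c * 81 := hmul ▸ Nat.mul_le_mul_left c (hclass.trans hTb)
      clear hmul hd360 hle hCN
      fin_cases this <;> omega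
    · have h3 : ¬ 3 ∣ Nat.card C := hno 3 (by norm_num) (.inl rfl) (by norm_num)
      generalize Nat.card C = c at *
      have : c ∈ Nat.divisors 360 := Nat.mem_divisors.mpr ⟨hd360, by norm_num⟩
      rw [if_neg (by norm_num)] at hTb
      have hci : 1440 ≤ c * 145 := hmul ▸ Nat.mul_le_mul_left c (hclass.trans hTb)
      clear hmul hd360 hle hCN
      fin_cases this <;> omega
  -- an involution centralising `u` and `z`
  set K := Subgroup.normalizer (C : Set G) with hK
  have hzK : z ∈ K := by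
    rw [hK]
    refine Subgroup.mem_normalizer_iff.mpr fun c => ?_
    have key : ∀ c : G, c * u = u * c → z * c * z⁻¹ * u = u * (z * c * z⁻¹) := fun c hc => by
      have hc' : c * u⁻¹ = u⁻¹ * c := (Commute.inv_right hc).eq
      have hu' : u = z * u⁻¹ * z⁻¹ := by rw [← hzu]; group; simp [mul_assoc, ← sq, hz2]
      calc z * c * z⁻¹ * u = z * c * z⁻¹ * (z * u⁻¹ * z⁻¹) := by rw [← hu']
        _ = z * (c * u⁻¹) * z⁻¹ := by group
        _ = z * (u⁻¹ * c) * z⁻¹ := by rw [hc']
        _ = z * u⁻¹ * z⁻¹ * (z * c * z⁻¹) := by group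
        _ = u * (z * c * z⁻¹) := by rw [← hu']
    rw [hC, Subgroup.mem_centralizer_singleton_iff, Subgroup.mem_centralizer_singleton_iff]
    refine ⟨key c, fun h => ?_⟩
    have h' := key _ h
    rw [show z * (z * c * z⁻¹) * z⁻¹ = c by
      rw [hzi, ← mul_assoc z, ← mul_assoc z z c, ← sq, hz2, one_mul, mul_assoc c z z, ← sq, hz2, mul_one]] at h'
    exact h'
  haveI : (C.subgroupOf K).Normal := (Subgroup.normal_subgroupOf_iff_le_normalizer Subgroup.le_normalizer).mpr le_rfl
  have hzp : IsPGroup 2 (Subgroup.zpowers (⟨z, hzK⟩ : K)) := by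
    refine IsPGroup.of_card (n := 1) ?_
    rw [Nat.card_zpowers, pow_one]
    exact orderOf_eq_prime (Subtype.ext (by simpa using hz2)) (fun h => hz1 (congrArg Subtype.val h))
  obtain ⟨S, hS⟩ := hzp.exists_le_sylow
  obtain ⟨t, htC, -, -, ht1, htS⟩ := central_of_sylow (M := C.subgroupOf K) (by
    rw [Nat.card_congr (Subgroup.subgroupOfEquivOfLe Subgroup.le_normalizer).toEquiv]; exact hCeven) S
  refine ⟨t, fun h => ht1 (Subtype.ext h), (congrArg Subtype.val (htS _ (hS (Subgroup.mem_zpowers _)))).symm, ?_⟩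
  have h1 : Commute (t : G) z := (congrArg Subtype.val (htS _ (hS (Subgroup.mem_zpowers _)))).symm
  rw [hw']
  exact (h1.mul_right (Subgroup.mem_centralizer_singleton_iff.mp htC)).eq

end Cfsg.Agent.S2488
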