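import Cfsg.Statements.S2490
import Cfsg.Agent.Lib.KGroups.Order7920

set_option autoImplicit false
open Cfsg

namespace Cfsg.Agent.S2490

/-- Let G be a finite group of order 7920 = 2⁴·3²·5·11 (the order of the smallest Mathieu group) and suppose its prime graph (vertices the prime divisors of the order, distinct p, q joined when there is an element of order pq) is disconnected: the prime divisors split into two non-empty parts with no element of order pq for p in one part and q in the other. Then G is simple. -/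
theorem result {G : Type*} [Group G] [Finite G] (hord : Nat.card G = 7920)
    (hdisc : (∃ A : Set ℕ, (∃ a ∈ A, a.Prime ∧ a ∣ Nat.card G) ∧ (∃ b ∉ A, b.Prime ∧ b ∣ Nat.card G) ∧
      ∀ a ∈ A, ∀ b ∉ A, a.Prime → b.Prime → a ∣ Nat.card G → b ∣ Nat.card G → ¬ ∃ g : G, orderOf g = a * b)) :
    IsSimpleGroup G := by
  obtain ⟨A, ⟨a, haA, hap, had⟩, ⟨b, hbA, hbp, hbd⟩, hno⟩ := hdisc
  have hA : ∀ p q : ℕ, p.Prime → q.Prime → p ≠ q → p ∣ 7920 → q ∣ 7920 →
      CfsgLib.KGroups.Order7920.Joined G p q → (p ∈ A ↔ q ∈ A) := by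
    intro p q hp hq hpq hpd hqd ⟨x, y, hc, hx, hy⟩
    have ho : orderOf (x * y) = p * q := by
      rw [hc.orderOf_mul_eq_mul_orderOf_of_coprime (by rw [hx, hy]; exact (Nat.coprime_primes hp hq).mpr hpq),
        hx, hy]
    rw [← hord] at hpd hqd
    constructor <;> intro h <;> by_contra h'
    · exact hno p h q h' hp hq hpd hqd ⟨_, ho⟩
    · exact hno q h p h' hq hp hqd hpd ⟨_, ho.trans (mul_comm p q)⟩
  refine CfsgLib.KGroups.Order7920.isSimple hord A hA fun h => ?_
  have hall : ∀ r : ℕ, r.Prime → r ∣ Nat.card G → (r ∈ A ↔ 11 ∈ A) := by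
    intro r hr hd
    have hd' : r ∣ 2 ^ 4 * 3 ^ 2 * 5 * 11 := by rw [hord] at hd; exact hd.trans (dvd_of_eq (by norm_num))
    rcases hr.dvd_mul.mp hd' with hd' | hd'
    · rcases hr.dvd_mul.mp hd' with hd' | hd'
      · rcases hr.dvd_mul.mp hd' with hd' | hd'
        · rw [(Nat.prime_dvd_prime_iff_eq hr Nat.prime_two).mp (hr.dvd_of_dvd_pow hd')]; exact h.1
        · rw [(Nat.prime_dvd_prime_iff_eq hr Nat.prime_three).mp (hr.dvd_of_dvd_pow hd')]; exact h.2.1
      · rw [(Nat.prime_dvd_prime_iff_eq hr (by norm_num)).mp hd']; exact h.2.2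
    · rw [(Nat.prime_dvd_prime_iff_eq hr (by norm_num)).mp hd']
  exact hbA ((hall b hbp hbd).mpr ((hall a hap had).mp haA))

end Cfsg.Agent.S2490
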