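import Cfsg.Statements.S2493
import Cfsg.Agent.Lib.Perm.ConjFactor.Cover

set_option autoImplicit false
open Cfsg

namespace Cfsg.Agent.S2493

/-- Let n ≥ 5 and let G be a finite perfect group whose centre has order 2 with G/Z(G) isomorphic to the alternating group of degree n (the double cover of the alternating group). Then every element of G is a commutator. -/
theorem result {G : Type*} [Group G] [Finite G] (hperf : commutator G = ⊤) {n : ℕ} (hn : 5 ≤ n)
    (hZ : Nat.card (Subgroup.center G) = 2) (e : G ⧸ Subgroup.center G ≃* alternatingGroup (Fin n))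
    (g : G) :
    ∃ a b : G, a * b * a⁻¹ * b⁻¹ = g := by
  set π : G →* alternatingGroup (Fin n) :=
    e.toMonoidHom.comp (QuotientGroup.mk' (Subgroup.center G)) with hπ
  have hker : ∀ x, π x = 1 ↔ x ∈ Subgroup.center G := fun x => by
    simp [hπ, QuotientGroup.eq_one_iff]
  obtain ⟨w, hw, hu⟩ := (Nat.card_eq_two_iff' (1 : Subgroup.center G)).1 hZ
  have hz1 : (w : G) ≠ 1 := fun h => hw (Subtype.ext h)
  have hcases : ∀ x ∈ Subgroup.center G, x = 1 ∨ x = (w : G) := fun x hx => by
    by_cases h : (⟨x, hx⟩ : Subgroup.center G) = 1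
    · exact Or.inl (congrArg Subtype.val h)
    · exact Or.inr (congrArg Subtype.val (hu _ h))
  refine CfsgLib.Perm.ConjFactor.exists_commutator hn (ξ := π) (z := (w : G))
    ⟨e.surjective.comp (QuotientGroup.mk'_surjective _), fun x hx => (hker x).1 hx, hz1, (hker _).2 w.2,
      by rw [hperf]; exact Subgroup.mem_top _, ?_, fun x hx => hcases x ((hker x).1 hx)⟩ g
  rcases hcases _ (mul_mem w.2 w.2) with h | h
  · exact h
  · exact absurd (mul_eq_left.1 h) hz1

end Cfsg.Agent.S2493
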