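import Cfsg.Statements.S2495
import Cfsg.Agent.Lib.KnownA.PSLPrimeGraph
import Cfsg.Agent.NumberTheory.PrimitivePart

set_option autoImplicit false
open Cfsg

namespace Cfsg.Agent.S2495



/-- Let q be an odd prime power, n ≥ 4 even, and L = PSL(n,q). Then L has an element of order q^(n/2) + 1 if and only if the 2-part of n exceeds the 2-part of q − 1. -/
theorem result {F : Type*} [Field F] [Fintype F] {q : ℕ} (hF : Fintype.card F = q) (hodd : Odd q)
    {n : ℕ} (hn : 4 ≤ n) (heven : Even n) :
    (∃ g : Matrix.ProjectiveSpecialLinearGroup (Fin n) F, orderOf g = q ^ (n / 2) + 1) ↔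
      padicValNat 2 (q - 1) < padicValNat 2 n := by
  classical
  obtain ⟨h, rfl⟩ := heven
  have hq1 : 1 < q := hF ▸ Fintype.one_lt_card
  have hq3 : 3 ≤ q := by obtain ⟨c, hc⟩ := hodd; omega
  obtain ⟨p, hp⟩ := CharP.exists F
  haveI hpp : Fact p.Prime := ⟨CharP.char_is_prime F p⟩
  have hdiv2 : (h + h) / 2 = h := by omega
  rw [hdiv2]
  set g := Nat.gcd (h + h) (q - 1) with hg
  have hg0 : 0 < g := Nat.gcd_pos_of_pos_left _ (by omega)
  set Sh := ∑ i ∈ Finset.range h, q ^ i with hSh
  have hS : ∑ i ∈ Finset.range (h + h), q ^ i = (q ^ h + 1) * Sh := by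
    rw [Finset.sum_range_add, hSh, add_mul, one_mul, Finset.mul_sum, add_comm]
    simp only [pow_add]
  have hmod : Sh ≡ h [MOD g] := by
    have h1 : ∀ i, q ^ i ≡ 1 [MOD g] := fun i => by
      have h2 : q ≡ 1 [MOD g] :=
        ((Nat.modEq_iff_dvd' hq1.le).2 (Nat.gcd_dvd_right _ _)).symm
      simpa using h2.pow i
    have h2 : ∀ k, ∑ i ∈ Finset.range k, q ^ i ≡ k [MOD g] := by
      intro k
      induction k with
      | zero => simp [Nat.ModEq]
      | succ k ih => rw [Finset.sum_range_succ]; exact ih.add (h1 k)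
    exact h2 h
  have hval : padicValNat 2 (q - 1) < padicValNat 2 (h + h) ↔ g ∣ h := by
    have hh0 : h ≠ 0 := by omega
    have h2h : padicValNat 2 (h + h) = padicValNat 2 h + 1 := by
      rw [← two_mul, padicValNat.mul two_ne_zero hh0, padicValNat.self one_lt_two, add_comm]
    have hq0 : q - 1 ≠ 0 := by omega
    rw [← Nat.factorization_le_iff_dvd hg0.ne' hh0, hg, Nat.factorization_gcd (by omega) hq0]
    constructor
    · intro hlt l
      rcases eq_or_ne l 2 with rfl | hl
      · rw [Finsupp.inf_apply, Nat.factorization_def _ Nat.prime_two, Nat.factorization_def _ Nat.prime_two,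
          Nat.factorization_def _ Nat.prime_two]
        exact le_trans inf_le_right (by omega)
      · rw [Finsupp.inf_apply]
        refine le_trans inf_le_left ?_
        rw [← two_mul, Nat.factorization_mul two_ne_zero hh0, Finsupp.add_apply,
          Nat.Prime.factorization Nat.prime_two, Finsupp.single_eq_of_ne hl, zero_add]
    · intro hle
      have := hle 2
      rw [Finsupp.inf_apply, Nat.factorization_def _ Nat.prime_two, Nat.factorization_def _ Nat.prime_two,
        Nat.factorization_def _ Nat.prime_two] at this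
      by_contra hc
      rw [inf_eq_left.mpr (by omega)] at this
      omega
  have hpN : ¬ p ∣ q ^ h + 1 := fun hd => by
    obtain ⟨e, -, he⟩ := FiniteField.card F p
    have h1 : p ∣ q ^ h := by
      rw [← hF, he, ← pow_mul]
      exact dvd_pow_self p (Nat.mul_pos e.pos (by omega)).ne'
    exact hpp.out.not_dvd_one ((Nat.dvd_add_right h1).mp hd)
  have htor := CfsgLib.KnownC.PSLOrders.torusOrder_mul (F := F) (h + h)
  rw [hF, ← hg, hS] at htor
  have hN0 : 0 < q ^ h + 1 := Nat.succ_pos _
  rw [hval]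
  constructor
  · rintro ⟨x, hx⟩
    obtain ⟨A, rfl⟩ := QuotientGroup.mk_surjective x
    set M := (A : Matrix (Fin (h + h)) (Fin (h + h)) F) with hM
    obtain ⟨r, hr, hrd, hrprim⟩ := CfsgLib.NT.exists_primitive_prime (q := q) (n := h + h)
      (by omega) (by omega) (by omega) (by omega)
    haveI := Fact.mk hr
    have hord : orderOf ((Fintype.card F : ℕ) : ZMod r) = h + h := by
      rw [hF]; exact (CfsgLib.NT.orderOf_eq_iff_primitive (by omega) (by omega)).mpr ⟨hrd, hrprim⟩
    have hrq : ¬ r ∣ q - 1 := by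
      have := hrprim 1 (by omega) (by omega); rwa [pow_one] at this
    have hrN : r ∣ q ^ h + 1 := by
      rw [show q ^ (h + h) - 1 = (q ^ h + 1) * (q ^ h - 1) by
        rw [← Nat.mul_self_sub_mul_self_eq, mul_one, ← pow_add]] at hrd
      exact (hr.dvd_mul.mp hrd).resolve_right (hrprim h (by omega) (by omega))
    obtain ⟨N', hN'⟩ := hrN
    have hAN : A ^ (r * (N' * (q - 1))) = 1 := by
      rw [← mul_assoc, ← hN', pow_mul, ← hF]
      refine CfsgLib.PSLPrimeGraph.pow_card_sub_one_of_mem_center (by omega) ?_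
      rw [← QuotientGroup.eq_one_iff, QuotientGroup.mk_pow, hF, ← hx, pow_orderOf_eq_one]
    have hA1 : M ^ (r * (N' * (q - 1))) = 1 := by
      have := congrArg Subtype.val hAN
      rwa [Matrix.SpecialLinearGroup.coe_pow] at this
    have hA2 : M ^ (N' * (q - 1)) ≠ 1 := fun hc => by
      have h1 : A ^ (N' * (q - 1)) = 1 := Subtype.ext (by rw [Matrix.SpecialLinearGroup.coe_pow]; exact hc)
      have h2 := orderOf_map_dvd (QuotientGroup.mk' (Subgroup.center _)) A
      rw [show orderOf (QuotientGroup.mk' (Subgroup.center _) A) = q ^ h + 1 from hx, hN'] at h2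
      have h3 := h2.trans (orderOf_dvd_of_pow_eq_one h1)
      rw [mul_comm r N'] at h3
      exact hrq (Nat.dvd_of_mul_dvd_mul_left (Nat.pos_of_ne_zero (by rintro rfl; simp at hN')) h3)
    have hNF : ((r * (N' * (q - 1)) : ℕ) : F) ≠ 0 := by
      rw [← mul_assoc, ← hN', Ne, CharP.cast_eq_zero_iff F p, hpp.out.dvd_mul]
      rintro (h1 | h1)
      · exact hpN h1
      · obtain ⟨e, -, he⟩ := FiniteField.card F p
        have h2 : p ∣ q := by rw [← hF, he]; exact dvd_pow_self p e.pos.ne'
        have h3 := Nat.dvd_sub h2 h1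
        rw [show q - (q - 1) = 1 by omega] at h3
        exact hpp.out.not_dvd_one h3
    obtain ⟨m, hm, hmd, hmn⟩ := CfsgLib.PSLPrimeGraph.exists_factor_not_dvd M hNF hA1 hA2
    have hdeg := CfsgLib.PSLPrimeGraph.order_dvd_natDegree (r := r) hm
      (hmd.trans (CfsgLib.PSLPrimeGraph.aeval_pow_sub_one M hA1)) hmn
    rw [hord] at hdeg
    have hle := Nat.le_of_dvd hm.natDegree_pos hdeg
    have hmc := hmd.trans (Matrix.minpoly_dvd_charpoly M)
    have hass : Associated m M.charpoly := Polynomial.associated_of_dvd_of_natDegree_le hmc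
      M.charpoly_monic.ne_zero (by rw [Matrix.charpoly_natDegree_eq_dim, Fintype.card_fin]; omega)
    have hirr := hass.irreducible hm
    have h1 := CfsgLib.KnownC.PSLOrders.orderOf_dvd_of_charpoly_pow p (n := h + h) (by omega) A hirr
      M.charpoly_monic (j := 1) (pow_one _).symm
    rw [hx] at h1
    have h2 : (q ^ h + 1).Coprime (p ^ Nat.clog p (h + h)) :=
      (((hpp.out.coprime_iff_not_dvd).mpr hpN).symm).pow_right _
    have h3 := Nat.mul_dvd_mul_right (h2.dvd_of_dvd_mul_left h1) g
    rw [htor] at h3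
    exact (hmod.dvd_iff dvd_rfl).mp (Nat.dvd_of_mul_dvd_mul_left hN0 h3)
  · intro hgh
    obtain ⟨y, hy⟩ := CfsgLib.KnownC.PSLOrders.exists_psl_torus (F := F) p (n := h + h) (by omega)
    have h1 : q ^ h + 1 ∣ orderOf y := by
      refine dvd_trans ?_ hy
      obtain ⟨c, hc⟩ := (hmod.dvd_iff dvd_rfl).mpr hgh
      refine ⟨c, Nat.eq_of_mul_eq_mul_right hg0 ?_⟩
      rw [htor, hc]; ring
    refine ⟨y ^ (orderOf y / (q ^ h + 1)), orderOf_pow_orderOf_div ?_ h1⟩
    exact (orderOf_pos y).ne'

end Cfsg.Agent.S2495
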