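import Cfsg.Statements.S2504
import Cfsg.Agent.Lib.KGroups.AlternatingAbelian

set_option autoImplicit false
open Cfsg

namespace Cfsg.Agent.S2504

open Cfsg.Agent.AlternatingAbelian in
lemma bound {n : ℕ} (A : Subgroup (alternatingGroup (Fin n))) (hA : IsMulCommutative A) :
    Nat.card A ≤ maxProd n ∧ (Nat.card A ≤ maxProdNoTwo n ∨
      (2 ≤ n ∧ Nat.card A ≤ maxProd (n - 2))) := by
  have hcard : Nat.card (A.map (alternatingGroup (Fin n)).subtype) = Nat.card A :=
    Nat.card_congr (A.equivMapOfInjective _ Subtype.val_injective).toEquiv.symm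
  haveI := hA
  have hA' : IsMulCommutative (A.map (alternatingGroup (Fin n)).subtype) := inferInstance
  have h1 := card_le_maxProd _ hA'
  have h2 := card_le_of_even _ hA' (Subgroup.map_subtype_le A)
  rw [hcard, Fintype.card_fin] at h1 h2
  exact ⟨h1, h2⟩

/-- The largest order of an abelian subgroup of the alternating group of degree n is 3^k when n = 3k, 4·3^(k−1) when n = 3k + 1, and 16·3^(k−2) when n = 3k + 2, for every k ≥ 2 (so for all degrees n ≥ 6). -/
theorem result (k : ℕ) (hk : 2 ≤ k) :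
    IsGreatest {c : ℕ | ∃ A : Subgroup (alternatingGroup (Fin (3 * k))), IsMulCommutative A ∧ Nat.card A = c} (3 ^ k) ∧
    IsGreatest {c : ℕ | ∃ A : Subgroup (alternatingGroup (Fin (3 * k + 1))), IsMulCommutative A ∧ Nat.card A = c}
      (4 * 3 ^ (k - 1)) ∧
    IsGreatest {c : ℕ | ∃ A : Subgroup (alternatingGroup (Fin (3 * k + 2))), IsMulCommutative A ∧ Nat.card A = c}
      (16 * 3 ^ (k - 2)) := by
  obtain ⟨j, rfl⟩ : ∃ j, k = j + 2 := ⟨k - 2, by omega⟩
  open Cfsg.Agent.AlternatingAbelian in
  refine ⟨⟨attains_three_mul _, ?_⟩, ⟨?_, ?_⟩, ⟨?_, ?_⟩⟩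
  · rintro c ⟨A, hA, rfl⟩
    exact le_trans (bound A hA).1 (le_of_eq (AlternatingAbelian.maxProd_three_mul _))
  · have h := AlternatingAbelian.attains_add AlternatingAbelian.attains_four
      (AlternatingAbelian.attains_three_mul (j + 1))
    rwa [show 4 + 3 * (j + 1) = 3 * (j + 2) + 1 by ring,
      show j + 1 = j + 2 - 1 by omega] at h
  · rintro c ⟨A, hA, rfl⟩
    have h := (bound A hA).1
    rw [AlternatingAbelian.maxProd_three_mul_add_one (j + 1)] at h
    rwa [show j + 2 - 1 = j + 1 by omega]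
  · have h := AlternatingAbelian.attains_add (AlternatingAbelian.attains_add
      AlternatingAbelian.attains_four AlternatingAbelian.attains_four)
      (AlternatingAbelian.attains_three_mul j)
    rwa [show 4 + 4 + 3 * j = 3 * (j + 2) + 2 by ring, Nat.add_sub_cancel] at *
  · rintro c ⟨A, hA, rfl⟩
    rw [Nat.add_sub_cancel]
    rcases (bound A hA).2 with h | ⟨-, h⟩
    · rwa [AlternatingAbelian.maxProdNoTwo_three_mul_add_two] at h
    · rw [Nat.add_sub_cancel, AlternatingAbelian.maxProd_three_mul] at h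
      refine le_trans h ?_
      rw [pow_add]; omega

end Cfsg.Agent.S2504
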