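import Cfsg.Statements.S2505
import Cfsg.Agent.Lib.KnownC.AbelianPerm

set_option autoImplicit false
open Cfsg

namespace Cfsg.Agent.S2505

open CfsgLib.KnownC.AbelianPerm


/-- The largest order of an abelian subgroup of the symmetric group of degree n is 3^k when n = 3k, 4·3^(k−1) when n = 3k + 1, and 2·3^k when n = 3k + 2, for every k ≥ 1. -/
theorem result (k : ℕ) (hk : 1 ≤ k) :
    IsGreatest {c : ℕ | ∃ A : Subgroup (Equiv.Perm (Fin (3 * k))), IsMulCommutative A ∧ Nat.card A = c} (3 ^ k) ∧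
    IsGreatest {c : ℕ | ∃ A : Subgroup (Equiv.Perm (Fin (3 * k + 1))), IsMulCommutative A ∧ Nat.card A = c}
      (4 * 3 ^ (k - 1)) ∧
    IsGreatest {c : ℕ | ∃ A : Subgroup (Equiv.Perm (Fin (3 * k + 2))), IsMulCommutative A ∧ Nat.card A = c}
      (2 * 3 ^ k) := by
  obtain ⟨g0, g1, g2⟩ := g_values k hk
  obtain ⟨j, rfl⟩ := Nat.exists_eq_add_of_le' hk
  refine ⟨⟨?_, ?_⟩, ⟨?_, ?_⟩, ⟨?_, ?_⟩⟩
  · obtain ⟨A, hA, hc⟩ := exists_abelian j 3 (3 * (j + 1)) (by ring)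
    exact ⟨A, hA, by rw [hc, pow_succ]⟩
  · rintro c ⟨A, hA, rfl⟩
    exact (card_le _ _ (Nat.card_fin _) A hA).trans g0.le
  · obtain ⟨A, hA, hc⟩ := exists_abelian j 4 (3 * (j + 1) + 1) (by ring)
    exact ⟨A, hA, by rw [hc, Nat.add_sub_cancel]; ring⟩
  · rintro c ⟨A, hA, rfl⟩
    exact (card_le _ _ (Nat.card_fin _) A hA).trans g1.le
  · obtain ⟨A, hA, hc⟩ := exists_abelian (j + 1) 2 (3 * (j + 1) + 2) rfl
    exact ⟨A, hA, by rw [hc]; ring⟩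
  · rintro c ⟨A, hA, rfl⟩
    exact (card_le _ _ (Nat.card_fin _) A hA).trans g2.le

end Cfsg.Agent.S2505
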