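import Cfsg.Statements.S2506
import Cfsg.Agent.Lib.KGroups.AlternatingAbelian

set_option autoImplicit false
open Cfsg

namespace Cfsg.Agent.S2506

open Cfsg.Agent.AlternatingAbelian
open Equiv MulAction
open scoped Pointwise

lemma det_three : ∀ σ τ : Perm (Fin 3), (∀ x, σ x = x → σ = 1) → (∀ x, τ x = x → τ = 1) →
    ∀ r, σ r = τ r → σ = τ := by decide

set_option synthInstance.maxSize 1024 in
lemma det_four : ∀ σ τ : Perm (Fin 4), (∀ x, σ x = x → σ = 1) → (∀ x, τ x = x → τ = 1) →
    σ * σ = 1 → τ * τ = 1 → ∀ r, σ r = τ r → σ = τ := by decide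

lemma sq_four : ∀ σ : Perm (Fin 4), (∀ x, σ x = x → σ = 1) → Perm.sign σ = 1 → σ * σ = 1 := by
  decide

lemma attains_max : ∀ n, 3 ≤ n → n ≠ 5 → Attains n (maxProdNoTwo n) := by
  intro n
  induction n using Nat.strong_induction_on with
  | _ n ih =>
    intro h3 h5
    rcases (show n = 3 ∨ n = 4 ∨ n = 8 ∨ (6 ≤ n ∧ n ≠ 8) by omega) with h | h | h | ⟨h6, h8⟩
    · subst h; exact attains_three
    · subst h; exact attains_four
    · subst h; exact attains_add attains_four attains_four
    · have h := attains_add (ih (n - 3) (by omega) (by omega) (by omega)) attains_three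
      rw [Nat.sub_add_cancel (by omega), mul_comm] at h
      rcases (show n = 6 ∨ n = 7 ∨ 9 ≤ n by omega) with h' | h' | h'
      · subst h'; exact h
      · subst h'; exact h
      · rwa [maxProdNoTwo_step h']

lemma maxProd_sub_two_lt : ∀ n, 3 ≤ n → n ≠ 5 → maxProd (n - 2) < maxProdNoTwo n := by
  intro n
  induction n using Nat.strong_induction_on with
  | _ n ih =>
    intro h3 h5
    rcases Nat.lt_or_ge n 9 with h | h
    · interval_cases n <;> first | omega | decide
    · rw [maxProd_step (by omega : 5 ≤ n - 2), maxProdNoTwo_step h,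
        show n - 2 - 3 = n - 3 - 2 by omega]
      exact Nat.mul_lt_mul_of_pos_left (ih (n - 3) (by omega) (by omega) (by omega)) (by norm_num)

lemma maxProdNoTwo_pos : ∀ n, 0 < maxProdNoTwo n := by
  intro n
  rcases eq_or_ne n 2 with h | h
  · subst h; decide
  · rcases Nat.eq_zero_or_pos n with h0 | h0
    · subst h0; decide
    · exact lt_of_lt_of_le h0 (le_maxProdNoTwo n h)

lemma part_lt : ∀ n, ∀ s ≤ n, 3 ≤ n → n ≠ 5 → s ≠ 2 → s ≠ 3 → s ≠ 4 → 0 < s →
    s * maxProdNoTwo (n - s) < maxProdNoTwo n := by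
  intro n s hs h3 h5 h2 h3' h4 h0
  rcases (show s = 1 ∨ s = 5 ∨ 6 ≤ s by omega) with h | h | h
  · subst h; rw [one_mul]
    clear * - h3 h5
    induction n using Nat.strong_induction_on with
    | _ n ih =>
      rcases Nat.lt_or_ge n 12 with h | h
      · interval_cases n <;> first | omega | decide
      · rw [maxProdNoTwo_step (by omega : 9 ≤ n - 1), maxProdNoTwo_step (by omega : 9 ≤ n),
          show n - 1 - 3 = n - 3 - 1 by omega]
        exact Nat.mul_lt_mul_of_pos_left (ih (n - 3) (by omega) (by omega) (by omega)) (by norm_num)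
  · subst h
    clear * - hs h3 h5
    induction n using Nat.strong_induction_on with
    | _ n ih =>
      rcases Nat.lt_or_ge n 14 with h | h
      · interval_cases n <;> first | omega | decide
      · rw [maxProdNoTwo_step (by omega : 9 ≤ n - 5), maxProdNoTwo_step (by omega : 9 ≤ n),
          show n - 5 - 3 = n - 3 - 5 by omega, mul_left_comm]
        exact Nat.mul_lt_mul_of_pos_left (ih (n - 3) (by omega) (by omega) (by omega) (by omega))
          (by norm_num)
  · have hlt : s < maxProdNoTwo s := by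
      clear * - h
      induction s using Nat.strong_induction_on with
      | _ s ih =>
        rcases Nat.lt_or_ge s 9 with h' | h'
        · interval_cases s <;> decide
        · have := ih (s - 3) (by omega) (by omega)
          rw [maxProdNoTwo_step h']; omega
    refine lt_of_lt_of_le (Nat.mul_lt_mul_of_pos_right hlt (maxProdNoTwo_pos _)) ?_
    have := maxProdNoTwo_mul s (n - s)
    rwa [Nat.add_sub_cancel' hs] at this

lemma pow_le_maxProdNoTwo : ∀ a b, 3 ^ a * 4 ^ b ≤ maxProdNoTwo (3 * a + 4 * b)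
  | 0, 0 => le_rfl
  | a + 1, b => by
    rw [show 3 * (a + 1) + 4 * b = 3 + (3 * a + 4 * b) by ring, pow_succ', mul_assoc]
    exact le_trans (Nat.mul_le_mul_left _ (pow_le_maxProdNoTwo a b)) (maxProdNoTwo_mul 3 _)
  | 0, b + 1 => by
    rw [show 3 * 0 + 4 * (b + 1) = 4 + (3 * 0 + 4 * b) by ring, pow_succ', mul_left_comm]
    exact le_trans (Nat.mul_le_mul_left _ (pow_le_maxProdNoTwo 0 b)) (maxProdNoTwo_mul 4 _)

/-- The structure of an abelian group of even permutations of the largest order. -/
structure Shape {n : ℕ} (A : Subgroup (Perm (Fin n))) [Fintype (orbitRel.Quotient A (Fin n))] :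
    Prop where
  size : ∀ o : orbitRel.Quotient A (Fin n),
    Nat.card (orbitRel.Quotient.orbit o) = 3 ∨ Nat.card (orbitRel.Quotient.orbit o) = 4
  count : (Finset.univ.filter fun o : orbitRel.Quotient A (Fin n) =>
    Nat.card (orbitRel.Quotient.orbit o) = 4).card = n % 3
  inv : ∀ a ∈ A, ∀ x, Quotient.mk'' (a x) = (Quotient.mk'' x : orbitRel.Quotient A (Fin n))
  regular : ∀ a ∈ A, ∀ x y, (Quotient.mk'' x : orbitRel.Quotient A (Fin n)) = Quotient.mk'' y →
    a x = x → a y = y
  sq : ∀ a ∈ A, ∀ x, Nat.card (orbitRel.Quotient.orbit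
    (Quotient.mk'' x : orbitRel.Quotient A (Fin n))) = 4 → a (a x) = x
  lift : ∀ f : (o : orbitRel.Quotient A (Fin n)) → orbitRel.Quotient.orbit o,
    ∃ a ∈ A, ∀ o, a (Quotient.out o) = f o

lemma restrict_fix {α : Type*} {p : α → Prop} {σ : Perm α} (h : ∀ x, p (σ x) ↔ p x) {k : ℕ}
    (e : {x // p x} ≃ Fin k) (hreg : ∀ x y, p x → p y → σ x = x → σ y = y) :
    ∀ x, e.permCongr (σ.subtypePerm h) x = x → e.permCongr (σ.subtypePerm h) = 1 := by
  intro x hx
  rw [Equiv.permCongr_apply, ← Equiv.eq_symm_apply] at hx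
  have hx' : σ (e.symm x).1 = (e.symm x).1 := congrArg Subtype.val hx
  refine Equiv.ext fun y => ?_
  rw [Equiv.permCongr_apply, Perm.one_apply,
    show σ.subtypePerm h (e.symm y) = e.symm y from
      Subtype.ext (hreg _ _ (e.symm x).2 (e.symm y).2 hx'), Equiv.apply_symm_apply]

lemma shape {n : ℕ} (hn : 3 ≤ n) (h5 : n ≠ 5) (A : Subgroup (Perm (Fin n)))
    (hA : IsMulCommutative A) (heven : A ≤ alternatingGroup (Fin n))
    (hbig : maxProdNoTwo n ≤ Nat.card A) [Fintype (orbitRel.Quotient A (Fin n))] : Shape A := by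
  classical
  set sz : orbitRel.Quotient A (Fin n) → ℕ := fun o => Nat.card (orbitRel.Quotient.orbit o) with hsz
  have hsum : ∑ o, sz o = n := (sum_card_orbit A).trans (Fintype.card_fin n)
  have hpos : ∀ o, 0 < sz o := fun o => by
    haveI : Nonempty (orbitRel.Quotient.orbit o) :=
      ⟨⟨Quotient.out o, by rw [orbitRel.Quotient.mem_orbit]; exact Quotient.out_eq' o⟩⟩
    exact Nat.card_pos
  have h2 : ∀ o, sz o ≠ 2 := fun o ho => by
    have := (card_le_of_two_orbit A hA heven o ho).2
    rw [Fintype.card_fin] at this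
    have := maxProd_sub_two_lt n hn h5
    omega
  have hfaith : ∀ a : A, (∀ o ∈ (Finset.univ : Finset (orbitRel.Quotient A (Fin n))),
      ∀ x ∈ orbitRel.Quotient.orbit o, a • x = x) → a = 1 := fun a ha =>
    Subtype.ext (Equiv.ext fun x => ha (Quotient.mk'' x) (Finset.mem_univ _) x
      (by rw [orbitRel.Quotient.mem_orbit]))
  have hle : Nat.card A ≤ ∏ o, sz o := card_le_prod A hA Finset.univ hfaith
  have hle2 : ∏ o, sz o ≤ maxProdNoTwo n := by
    have := prod_le_maxProdNoTwo Finset.univ sz (fun o _ => h2 o)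
    rwa [hsum] at this
  have hsize : ∀ o, sz o = 3 ∨ sz o = 4 := by
    intro o
    by_contra hcon
    rw [not_or] at hcon
    have hs := Finset.add_sum_erase Finset.univ sz (Finset.mem_univ o)
    rw [hsum] at hs
    have hp := Finset.mul_prod_erase Finset.univ sz (Finset.mem_univ o)
    have hp' : ∏ x ∈ Finset.univ.erase o, sz x ≤ maxProdNoTwo (n - sz o) := by
      have := prod_le_maxProdNoTwo (Finset.univ.erase o) sz (fun o _ => h2 o)
      rwa [show ∑ x ∈ Finset.univ.erase o, sz x = n - sz o by omega] at this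
    have := part_lt n (sz o) (by omega) hn h5 (h2 o) hcon.1 hcon.2 (hpos o)
    have := Nat.mul_le_mul_left (sz o) hp'
    omega
  have hinv : ∀ a ∈ A, ∀ x, Quotient.mk'' (a x) = (Quotient.mk'' x : orbitRel.Quotient A (Fin n)) :=
    fun a ha x => Quotient.sound' (show (⟨a, ha⟩ : A) • x ∈ MulAction.orbit A x from
      MulAction.mem_orbit x (⟨a, ha⟩ : A))
  have hreg : ∀ a ∈ A, ∀ x y, (Quotient.mk'' x : orbitRel.Quotient A (Fin n)) = Quotient.mk'' y →
      a x = x → a y = y := by
    intro a ha x y hxy hx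
    obtain ⟨⟨c, hc⟩, hcy⟩ : y ∈ MulAction.orbit A x := Quotient.exact' hxy.symm
    have he : c x = y := hcy
    have hcomm : a * c = c * a := congrArg Subtype.val (hA.is_comm.comm ⟨a, ha⟩ ⟨c, hc⟩)
    rw [← he, ← Perm.mul_apply, hcomm, Perm.mul_apply, hx]
  -- all choices of images of the representatives occur
  let F : A → (o : orbitRel.Quotient A (Fin n)) → orbitRel.Quotient.orbit o := fun a o =>
    ⟨(a : Perm (Fin n)) (Quotient.out o), by
      rw [orbitRel.Quotient.mem_orbit, hinv a a.2]; exact Quotient.out_eq' o⟩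
  have hFinj : Function.Injective F := by
    intro a b hab
    refine Subtype.ext (Equiv.ext fun x => ?_)
    have h := congrArg Subtype.val (congr_fun hab (Quotient.mk'' x))
    set r := Quotient.out (Quotient.mk'' x : orbitRel.Quotient A (Fin n))
    obtain ⟨⟨c, hc⟩, hcy⟩ : x ∈ MulAction.orbit A r :=
      Quotient.exact' (Quotient.out_eq' (Quotient.mk'' x : orbitRel.Quotient A (Fin n))).symm
    have he : c r = x := hcy
    rw [← he, ← Perm.mul_apply, ← Perm.mul_apply,
      show (a : Perm (Fin n)) * c = c * a from congrArg Subtype.val (hA.is_comm.comm a ⟨c, hc⟩),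
      show (b : Perm (Fin n)) * c = c * b from congrArg Subtype.val (hA.is_comm.comm b ⟨c, hc⟩),
      Perm.mul_apply, Perm.mul_apply]
    exact congrArg c h
  have hcardF : Nat.card A = Nat.card ((o : orbitRel.Quotient A (Fin n)) →
      orbitRel.Quotient.orbit o) := by
    rw [Nat.card_pi]
    exact le_antisymm hle (le_trans hle2 hbig)
  have hF : Function.Bijective F := (Nat.bijective_iff_injective_and_card F).2 ⟨hFinj, hcardF⟩
  have hlift : ∀ f : (o : orbitRel.Quotient A (Fin n)) → orbitRel.Quotient.orbit o,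
      ∃ a ∈ A, ∀ o, a (Quotient.out o) = f o := fun f => by
    obtain ⟨a, ha⟩ := hF.2 f
    exact ⟨a, a.2, fun o => congrArg Subtype.val (congr_fun ha o)⟩
  refine ⟨hsize, ?_, hinv, hreg, ?_, hlift⟩
  · -- the number of orbits of length four
    have hthree : ∀ o ∈ Finset.univ.filter (fun o => ¬ sz o = 4), sz o = 3 := fun o ho =>
      (hsize o).resolve_right (Finset.mem_filter.1 ho).2
    have hfour : ∀ o ∈ Finset.univ.filter (fun o => sz o = 4), sz o = 4 := fun o ho =>
      (Finset.mem_filter.1 ho).2
    have hs := Finset.sum_filter_add_sum_filter_not Finset.univ (fun o => sz o = 4) sz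
    have hp := Finset.prod_filter_mul_prod_filter_not Finset.univ (fun o => sz o = 4) sz
    rw [Finset.sum_congr rfl hthree, Finset.sum_congr rfl hfour, hsum, Finset.sum_const,
      Finset.sum_const, smul_eq_mul, smul_eq_mul] at hs
    rw [Finset.prod_congr rfl hthree, Finset.prod_congr rfl hfour, Finset.prod_const,
      Finset.prod_const] at hp
    set b := (Finset.univ.filter (fun o => sz o = 4)).card
    set a := (Finset.univ.filter (fun o => ¬ sz o = 4)).card
    have hM : maxProdNoTwo n ≤ 4 ^ b * 3 ^ a := hp ▸ le_trans hbig hle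
    by_contra hb
    have hb3 : 3 ≤ b := by omega
    have h1 := pow_le_maxProdNoTwo a (b - 3)
    have h2' := maxProdNoTwo_mul 12 (3 * a + 4 * (b - 3))
    rw [show 12 + (3 * a + 4 * (b - 3)) = n by omega,
      show maxProdNoTwo 12 = 81 by decide] at h2'
    have h3 : 4 ^ b = 64 * 4 ^ (b - 3) := by
      rw [show (64 : ℕ) = 4 ^ 3 by rfl, ← pow_add]; congr 1; omega
    have hpos' : 0 < 3 ^ a * 4 ^ (b - 3) := by positivity
    rw [h3] at hM
    nlinarith
  · intro a ha x hx
    set o : orbitRel.Quotient A (Fin n) := Quotient.mk'' x with ho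
    obtain ⟨a₀, ha₀, hval⟩ := hlift fun o' =>
      if o' = o then F ⟨a, ha⟩ o' else F 1 o'
    have hfix : ∀ y, (Quotient.mk'' y : orbitRel.Quotient A (Fin n)) ≠ o → a₀ y = y := by
      intro y hy
      refine hreg a₀ ha₀ _ y (Quotient.out_eq' (Quotient.mk'' y)) ?_
      rw [hval, if_neg hy]; rfl
    have hsame : ∀ y, (Quotient.mk'' y : orbitRel.Quotient A (Fin n)) = o → a₀ y = a y := by
      intro y hy
      have h := hreg (a⁻¹ * a₀) (mul_mem (inv_mem ha) ha₀) (Quotient.out o) y
        ((Quotient.out_eq' o).trans hy.symm) (by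
          rw [Perm.mul_apply, hval, if_pos rfl]
          exact a.symm_apply_apply _)
      rw [Perm.mul_apply] at h
      conv_rhs => rw [← h]
      exact (a.apply_symm_apply _).symm
    let p : Fin n → Prop := fun y => (Quotient.mk'' y : orbitRel.Quotient A (Fin n)) = o
    have hp : ∀ y, p (a₀ y) ↔ p y := fun y => by simp only [p, hinv a₀ ha₀ y]
    have hc : Nat.card {y // p y} = 4 := by
      rw [← hx]; exact Nat.card_congr (Equiv.subtypeEquivRight fun y => by
        rw [orbitRel.Quotient.mem_orbit])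
    let e : {y // p y} ≃ Fin 4 := Finite.equivFinOfCardEq hc
    have hreg' := restrict_fix hp e fun u v hu hv =>
      hreg a₀ ha₀ u v ((show _ = o from hu).trans (show _ = o from hv).symm)
    have hsign : Perm.sign (e.permCongr (a₀.subtypePerm hp)) = 1 := by
      rw [Perm.sign_permCongr, Perm.sign_subtypePerm _ _ fun y hy => by
        by_contra hny
        exact hy (hfix y hny)]
      exact heven ha₀
    have h := Equiv.congr_fun (sq_four _ hreg' hsign) (e ⟨x, rfl⟩)
    rw [Perm.mul_apply, Equiv.permCongr_apply, Equiv.permCongr_apply, Equiv.symm_apply_apply,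
      Equiv.symm_apply_apply, Perm.one_apply, EmbeddingLike.apply_eq_iff_eq] at h
    have h' : a₀ (a₀ x) = x := congrArg Subtype.val h
    rwa [hsame x rfl, hsame (a x) ((hinv a ha x).trans rfl)] at h'

/-- The main case: degree at least three, different from five. -/
lemma main {n : ℕ} (hn : 3 ≤ n) (h5 : n ≠ 5) (A B : Subgroup (Perm (Fin n)))
    (hA : IsMulCommutative A) (hB : IsMulCommutative B)
    (hAe : A ≤ alternatingGroup (Fin n)) (hBe : B ≤ alternatingGroup (Fin n))
    (hA' : maxProdNoTwo n ≤ Nat.card A) (hB' : maxProdNoTwo n ≤ Nat.card B) :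
    ∃ g ∈ alternatingGroup (Fin n), ∀ a ∈ A, g * a * g⁻¹ ∈ B := by
  classical
  haveI := Fintype.ofFinite (orbitRel.Quotient A (Fin n))
  haveI := Fintype.ofFinite (orbitRel.Quotient B (Fin n))
  obtain ⟨hAs, hAc, hAi, hAr, hAq, -⟩ := shape hn h5 A hA hAe hA'
  obtain ⟨hBs, hBc, hBi, hBr, hBq, hBl⟩ := shape hn h5 B hB hBe hB'
  let sA : orbitRel.Quotient A (Fin n) → ℕ := fun o => Nat.card (orbitRel.Quotient.orbit o)
  let sB : orbitRel.Quotient B (Fin n) → ℕ := fun o => Nat.card (orbitRel.Quotient.orbit o)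
  have hfib : ∀ k, Nat.card {o // sA o = k} = Nat.card {o // sB o = k} := by
    intro k
    have h4 : Nat.card {o // sA o = 4} = Nat.card {o // sB o = 4} := by
      rw [Nat.card_eq_fintype_card, Nat.card_eq_fintype_card, Fintype.card_subtype,
        Fintype.card_subtype, hAc, hBc]
    have htot : ∀ {O : Type} [Fintype O] (s : O → ℕ), (∀ o, s o = 3 ∨ s o = 4) → ∑ o, s o =
        3 * Nat.card {o // s o = 3} + 4 * Nat.card {o // s o = 4} := by
      intro O _ s hs
      rw [Nat.card_eq_fintype_card, Nat.card_eq_fintype_card, Fintype.card_subtype,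
        Fintype.card_subtype, Finset.card_filter, Finset.card_filter, Finset.mul_sum,
        Finset.mul_sum, ← Finset.sum_add_distrib]
      refine Finset.sum_congr rfl fun o _ => ?_
      rcases hs o with h | h <;> simp [h]
    have e1 := htot sA hAs
    have e2 := htot sB hBs
    rw [show ∑ o, sA o = n from (sum_card_orbit A).trans (Fintype.card_fin n)] at e1
    rw [show ∑ o, sB o = n from (sum_card_orbit B).trans (Fintype.card_fin n)] at e2
    rcases eq_or_ne k 3 with h | h3
    · subst h; omega
    rcases eq_or_ne k 4 with h | h4'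
    · subst h; exact h4
    haveI : IsEmpty {o // sA o = k} := ⟨fun (o : {o // sA o = k}) =>
      (hAs o.1).elim (fun h => h3 (o.2.symm.trans h)) (fun h => h4' (o.2.symm.trans h))⟩
    haveI : IsEmpty {o // sB o = k} := ⟨fun (o : {o // sB o = k}) =>
      (hBs o.1).elim (fun h => h3 (o.2.symm.trans h)) (fun h => h4' (o.2.symm.trans h))⟩
    simp
  let e : orbitRel.Quotient A (Fin n) ≃ orbitRel.Quotient B (Fin n) :=
    Equiv.ofFiberEquiv (f := sA) (g := sB) fun k => (Finite.card_eq.1 (hfib k)).some
  have hes : ∀ o, sB (e o) = sA o := fun o => Equiv.ofFiberEquiv_map _ o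
  let pA : Fin n → orbitRel.Quotient A (Fin n) := Quotient.mk''
  let pB : Fin n → orbitRel.Quotient B (Fin n) := Quotient.mk''
  have hfA : ∀ o, Nat.card {x // pA x = o} = sA o := fun o =>
    Nat.card_congr (Equiv.subtypeEquivRight fun x => by rw [orbitRel.Quotient.mem_orbit])
  have hfB : ∀ o, Nat.card {x // pB x = o} = sB o := fun o =>
    Nat.card_congr (Equiv.subtypeEquivRight fun x => by rw [orbitRel.Quotient.mem_orbit])
  have hfe : ∀ o, Nat.card {x // e (pA x) = o} = Nat.card {x // pB x = o} := fun o => by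
    rw [hfB, ← e.apply_symm_apply o, hes, ← hfA (e.symm o)]
    exact Nat.card_congr (Equiv.subtypeEquivRight fun x => e.apply_eq_iff_eq)
  let g₀ : Perm (Fin n) :=
    Equiv.ofFiberEquiv (f := fun x => e (pA x)) (g := pB) fun o => (Finite.card_eq.1 (hfe o)).some
  have hg₀ : ∀ x, pB (g₀ x) = e (pA x) := fun x => Equiv.ofFiberEquiv_map _ x
  obtain ⟨g, hge, hg⟩ : ∃ g ∈ alternatingGroup (Fin n), ∀ x, pB (g x) = e (pA x) := by
    rcases Int.units_eq_one_or (Perm.sign g₀) with h | h
    · exact ⟨g₀, h, hg₀⟩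
    · have hz : 1 < Nat.card {x // pB x = pB ⟨0, by omega⟩} := by
        rw [hfB]; rcases hBs (pB ⟨0, by omega⟩) with h' | h' <;> simp only [sB, h'] <;> norm_num
      obtain ⟨⟨u, hu⟩, ⟨v, hv⟩, huv⟩ := (Finite.one_lt_card_iff_nontrivial.1 hz).exists_pair_ne
      have huv' : u ≠ v := fun e' => huv (Subtype.ext e')
      refine ⟨Equiv.swap u v * g₀, ?_, fun x => ?_⟩
      · rw [Perm.mem_alternatingGroup, map_mul, Perm.sign_swap huv', h]; rfl
      · rw [Perm.mul_apply, ← hg₀ x]
        rcases eq_or_ne (g₀ x) u with h1 | h1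
        · rw [h1, Equiv.swap_apply_left, hv, hu]
        rcases eq_or_ne (g₀ x) v with h2 | h2
        · rw [h2, Equiv.swap_apply_right, hv, hu]
        · rw [Equiv.swap_apply_of_ne_of_ne h1 h2]
  refine ⟨g, hge, fun a ha => ?_⟩
  set b := g * a * g⁻¹ with hb
  have hbv : ∀ x, b (g x) = g (a x) := fun x => by
    rw [hb, Perm.mul_apply, Perm.mul_apply, show g⁻¹ (g x) = x from g.symm_apply_apply x]
  have hbi : ∀ y, pB (b y) = pB y := fun y => by
    obtain ⟨x, rfl⟩ := g.surjective y
    rw [hbv, hg, hg, show pA (a x) = pA x from hAi a ha x]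
  obtain ⟨β, hβ, hβv⟩ := hBl fun o => ⟨b (Quotient.out o), by
    rw [orbitRel.Quotient.mem_orbit]; exact (hbi _).trans (Quotient.out_eq' o)⟩
  suffices b = β by rw [this]; exact hβ
  refine Equiv.ext fun y => ?_
  let o := pB y
  let p : Fin n → Prop := fun z => pB z = o
  have hpb : ∀ z, p (b z) ↔ p z := fun z => by simp only [p, hbi z]
  have hpβ : ∀ z, p (β z) ↔ p z := fun z => by
    simp only [p, show pB (β z) = pB z from hBi β hβ z]
  have hrb : ∀ u v, p u → p v → b u = u → b v = v := by
    intro u v hu hv h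
    obtain ⟨u', rfl⟩ := g.surjective u
    obtain ⟨v', rfl⟩ := g.surjective v
    rw [hbv] at h ⊢
    refine congrArg g (hAr a ha u' v' (e.injective ?_) (g.injective h))
    rw [← hg, ← hg]; exact hu.trans hv.symm
  have hrβ : ∀ u v, p u → p v → β u = u → β v = v := fun u v hu hv =>
    hBr β hβ u v (Eq.trans hu hv.symm)
  have hr : p (Quotient.out o) := Quotient.out_eq' o
  suffices ∀ k, sB o = k → b y = β y from this _ rfl
  intro k hk
  let E : {z // p z} ≃ Fin k := Finite.equivFinOfCardEq ((hfB o).trans hk)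
  have hag : E.permCongr (b.subtypePerm hpb) (E ⟨_, hr⟩) =
      E.permCongr (β.subtypePerm hpβ) (E ⟨_, hr⟩) := by
    rw [Equiv.permCongr_apply, Equiv.permCongr_apply, Equiv.symm_apply_apply]
    exact congrArg E (Subtype.ext (hβv o).symm)
  have heq : E.permCongr (b.subtypePerm hpb) = E.permCongr (β.subtypePerm hpβ) := by
    rcases hBs o with h | h
    · obtain rfl : k = 3 := hk.symm.trans h
      exact det_three _ _ (restrict_fix hpb E hrb) (restrict_fix hpβ E hrβ) _ hag
    · obtain rfl : k = 4 := hk.symm.trans h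
      refine det_four _ _ (restrict_fix hpb E hrb) (restrict_fix hpβ E hrβ) ?_ ?_ _ hag
      · refine Equiv.ext fun z => ?_
        rw [Perm.mul_apply, Equiv.permCongr_apply, Equiv.permCongr_apply, Equiv.symm_apply_apply,
          Perm.one_apply]
        obtain ⟨⟨u, hu⟩, rfl⟩ := E.surjective z
        rw [Equiv.symm_apply_apply]
        refine congrArg E (Subtype.ext ?_)
        show b (b u) = u
        obtain ⟨u', rfl⟩ := g.surjective u
        rw [hbv, hbv, hAq a ha u' ?_]
        have := hes (pA u')
        rw [← hg, show pB (g u') = o from hu, hk] at this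
        exact this.symm
      · refine Equiv.ext fun z => ?_
        rw [Perm.mul_apply, Equiv.permCongr_apply, Equiv.permCongr_apply, Equiv.symm_apply_apply,
          Perm.one_apply]
        obtain ⟨⟨u, hu⟩, rfl⟩ := E.surjective z
        rw [Equiv.symm_apply_apply]
        exact congrArg E (Subtype.ext (hBq β hβ u (by
          show sB (pB u) = 4
          rw [show pB u = o from hu, hk])))
  have := congrArg Subtype.val (E.injective (by
    simpa [Equiv.permCongr_apply] using Equiv.congr_fun heq (E ⟨y, rfl⟩) :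
    E (b.subtypePerm hpb ⟨y, rfl⟩) = E (β.subtypePerm hpβ ⟨y, rfl⟩)))
  exact this

/-- In the alternating group of any degree, any two abelian subgroups of the largest possible order (among abelian subgroups) are conjugate. -/
theorem result (n : ℕ)
    (A B : Subgroup (alternatingGroup (Fin n))) (hA : IsMulCommutative A) (hB : IsMulCommutative B)
    (hAmax : ∀ C : Subgroup (alternatingGroup (Fin n)), IsMulCommutative C → Nat.card C ≤ Nat.card A)
    (hBmax : ∀ C : Subgroup (alternatingGroup (Fin n)), IsMulCommutative C → Nat.card C ≤ Nat.card B) :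
    ∃ g : alternatingGroup (Fin n), B = MulAut.conj g • A := by
  classical
  have hcard : Nat.card A = Nat.card B := le_antisymm (hBmax A hA) (hAmax B hB)
  have of_le : ∀ g : alternatingGroup (Fin n), (∀ a ∈ A, g * a * g⁻¹ ∈ B) →
      ∃ g : alternatingGroup (Fin n), B = MulAut.conj g • A := by
    intro g hg
    refine ⟨g, (Subgroup.eq_of_le_of_card_ge ?_ ?_).symm⟩
    · rintro _ ⟨a, ha, rfl⟩
      exact hg a ha
    · rw [← hcard]
      exact le_of_eq (Nat.card_congr (Subgroup.equivSMul (MulAut.conj g) A).toEquiv)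
  rcases Nat.lt_or_ge n 3 with hn | hn
  · haveI : Subsingleton (alternatingGroup (Fin n)) := by
      interval_cases n
      · exact ⟨fun a b => Subtype.ext (Subsingleton.elim _ _)⟩
      · exact ⟨fun a b => Subtype.ext (Subsingleton.elim _ _)⟩
      · have : ∀ a b : Perm (Fin 2), Perm.sign a = 1 → Perm.sign b = 1 → a = b := by decide
        exact ⟨fun a b => Subtype.ext (this _ _ a.2 b.2)⟩
    exact of_le 1 fun a _ => by rw [Subsingleton.elim (1 * a * 1⁻¹) 1]; exact one_mem B
  rcases eq_or_ne n 5 with h5 | h5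
  · subst h5
    have h60 : Nat.card (alternatingGroup (Fin 5)) = 60 := by
      rw [nat_card_alternatingGroup, Nat.card_eq_fintype_card, Fintype.card_fin]; rfl
    haveI : Fact (Nat.Prime 5) := ⟨by norm_num⟩
    obtain ⟨x, hx⟩ := exists_prime_orderOf_dvd_card' (G := alternatingGroup (Fin 5)) 5
      (by rw [h60]; norm_num)
    have hle : Nat.card A ≤ 5 := by
      have hc : Nat.card (A.map (alternatingGroup (Fin 5)).subtype) = Nat.card A :=
        Nat.card_congr (A.equivMapOfInjective _ Subtype.val_injective).toEquiv.symm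
      haveI := hA
      have h := AlternatingAbelian.card_le_of_even (A.map (alternatingGroup (Fin 5)).subtype)
        inferInstance (Subgroup.map_subtype_le A)
      rw [hc, Fintype.card_fin] at h
      rcases h with h | ⟨-, h⟩
      · exact h
      · exact le_trans h (by decide)
    have hge := hAmax (Subgroup.zpowers x) inferInstance
    rw [Nat.card_zpowers, hx] at hge
    have hA5 : Nat.card A = 5 ^ (Nat.card (alternatingGroup (Fin 5))).factorization 5 := by
      rw [h60, show (60 : ℕ).factorization 5 = 1 by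
        rw [show (60 : ℕ) = 5 ^ 1 * 12 by rfl, Nat.factorization_mul (by norm_num) (by norm_num),
          Finsupp.add_apply, Nat.factorization_eq_zero_of_not_dvd (by norm_num : ¬ 5 ∣ 12),
          Nat.factorization_pow_self (by norm_num)]]
      omega
    obtain ⟨g, hg⟩ := MulAction.exists_smul_eq (alternatingGroup (Fin 5)) (Sylow.ofCard A hA5)
      (Sylow.ofCard B (hcard ▸ hA5))
    refine ⟨g, ?_⟩
    have := congrArg (fun P : Sylow 5 _ => (P : Subgroup (alternatingGroup (Fin 5)))) hg
    simpa [Sylow.coe_subgroup_smul] using this.symm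
  · haveI := hA
    haveI := hB
    obtain ⟨C, hC, hCc⟩ := attains_max n hn h5
    have hmap : ∀ D : Subgroup (alternatingGroup (Fin n)),
        Nat.card (D.map (alternatingGroup (Fin n)).subtype) = Nat.card D := fun D =>
      Nat.card_congr (D.equivMapOfInjective _ Subtype.val_injective).toEquiv.symm
    obtain ⟨g, hge, hg⟩ := main hn h5 (A.map (alternatingGroup (Fin n)).subtype)
      (B.map (alternatingGroup (Fin n)).subtype) inferInstance inferInstance
      (Subgroup.map_subtype_le A) (Subgroup.map_subtype_le B)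
      (by rw [hmap, ← hCc]; exact hAmax C hC) (by rw [hmap, ← hCc]; exact hBmax C hC)
    refine of_le ⟨g, hge⟩ fun a ha => ?_
    obtain ⟨b, hb, he⟩ := hg _ (Subgroup.mem_map_of_mem _ ha)
    rwa [show (⟨g, hge⟩ : alternatingGroup (Fin n)) * a * ⟨g, hge⟩⁻¹ = b from Subtype.ext he.symm]

end Cfsg.Agent.S2506
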