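import Cfsg.Statements.S2510
import Cfsg.Agent.Lib.KnownC.PSLOrders
import Cfsg.Agent.Lib.KnownC.Orders

set_option autoImplicit false
open Cfsg

namespace Cfsg.Agent.S2510

open CfsgLib.KnownC.PSLOrders CfsgLib.KnownC.Orders
/-- Let F be a finite field with q = p^a elements, n ≥ 2 (with q ≥ 4 when n = 2), L = PSL(n, F), and let r be a prime dividing q − 1 and not dividing n. Then for every m the direct product L × L × L × (ℤ/r)^m has the same set of element orders as L × L × L; and if n − 1 ≠ p^j for every j ≥ 0 (so never when n = 2, since 1 = p^0), then already L × L × (ℤ/r)^m has the same set of element orders as L × L. -/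
theorem result {F : Type*} [Field F] [Fintype F] (p a n r m : ℕ) (hp : p.Prime) (ha : 1 ≤ a) (hF : Fintype.card F = p ^ a)
    (hn : 2 ≤ n) (hn2 : n = 2 → 4 ≤ Fintype.card F) (hr : r.Prime) (hrq : r ∣ Fintype.card F - 1) (hrn : ¬ r ∣ n) :
    Set.range (orderOf : Matrix.ProjectiveSpecialLinearGroup (Fin n) F × Matrix.ProjectiveSpecialLinearGroup (Fin n) F × Matrix.ProjectiveSpecialLinearGroup (Fin n) F × Multiplicative (Fin m → ZMod r) → ℕ) =
      Set.range (orderOf : Matrix.ProjectiveSpecialLinearGroup (Fin n) F × Matrix.ProjectiveSpecialLinearGroup (Fin n) F × Matrix.ProjectiveSpecialLinearGroup (Fin n) F → ℕ) ∧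
    ((¬ ∃ j : ℕ, n - 1 = p ^ j) →
      Set.range (orderOf : Matrix.ProjectiveSpecialLinearGroup (Fin n) F × Matrix.ProjectiveSpecialLinearGroup (Fin n) F × Multiplicative (Fin m → ZMod r) → ℕ) =
        Set.range (orderOf : Matrix.ProjectiveSpecialLinearGroup (Fin n) F × Matrix.ProjectiveSpecialLinearGroup (Fin n) F → ℕ)) := by
  classical
  haveI : Fact p.Prime := ⟨hp⟩
  haveI : Fact r.Prime := ⟨hr⟩
  haveI : CharP F p := charP_of_card_eq_prime_pow hF
  obtain ⟨ζ, hζ⟩ := IsCyclic.exists_ofOrder_eq_natCard (α := Fˣ)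
  rw [Nat.card_units, Nat.card_eq_fintype_card] at hζ
  obtain ⟨εu, hεu⟩ := exists_prime_orderOf_dvd_card' (G := Fˣ) r
    (by rw [Nat.card_units, Nat.card_eq_fintype_card]; exact hrq)
  set ε : F := (εu : F)
  have hε : orderOf ε = r := by rw [orderOf_units, hεu]
  have hrp : r ≠ p := by
    rintro rfl
    have h1 : r ∣ Fintype.card F := hF ▸ dvd_pow_self r (by omega)
    have h2 := Nat.dvd_sub h1 hrq
    rw [Nat.sub_sub_self (Fintype.card_pos (α := F))] at h2
    exact hr.not_dvd_one h2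
  set L := Matrix.ProjectiveSpecialLinearGroup (Fin n) F with hL
  set P := p ^ Nat.clog p n
  set T := torusOrder F n with hT'
  haveI : Finite L := inferInstanceAs (Finite (Matrix.SpecialLinearGroup (Fin n) F ⧸ _))
  obtain ⟨yT, hyT⟩ := exists_psl_torus (F := F) (n := n) p (by omega)
  obtain ⟨yP, hyP⟩ := exists_psl_unipotent (F := F) (n := n) p (by omega)
  obtain ⟨yr, hyr⟩ := exists_psl_prime hr hrn hn hε
  have hPT : Nat.Coprime P T := by
    have hM : T ∣ ∑ i ∈ Finset.range n, Fintype.card F ^ i := Dvd.intro _ (torusOrder_mul n)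
    refine Nat.Coprime.pow_left _ ((hp.coprime_iff_not_dvd).2 fun h => ?_)
    have h1 := h.trans hM
    obtain ⟨k, rfl⟩ : ∃ k, n = k + 1 := ⟨n - 1, by omega⟩
    rw [Finset.sum_range_succ'] at h1
    have h2 : p ∣ ∑ i ∈ Finset.range k, Fintype.card F ^ (i + 1) :=
      Finset.dvd_sum fun i _ => by
        rw [hF]; exact dvd_pow (dvd_pow_self p (by omega)) (by omega)
    rw [Nat.dvd_add_right h2, pow_zero] at h1
    exact hp.not_dvd_one h1
  have hE : ∀ e : Multiplicative (Fin m → ZMod r), orderOf e ∣ r := fun e => by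
    apply orderOf_dvd_of_pow_eq_one
    apply Multiplicative.toAdd.injective
    funext i
    simp
  have key := dichotomy (F := F) (n := n) p hr hrn (by omega) hε
  constructor
  · ext d
    constructor
    · rintro ⟨⟨x, y, z, e⟩, rfl⟩
      suffices ∃ x' y' z' : L, orderOf x ∣ orderOf (x', y', z') ∧ orderOf y ∣ orderOf (x', y', z') ∧
          orderOf z ∣ orderOf (x', y', z') ∧ r ∣ orderOf (x', y', z') ∨ (orderOf e = 1 ∧ x' = x ∧ y' = y ∧ z' = z) by
        obtain ⟨x', y', z', h⟩ := this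
        rcases h with ⟨hx, hy, hz, hr'⟩ | ⟨he, rfl, rfl, rfl⟩
        · refine mem_range_orderOf_of_dvd (x := (x', y', z')) ?_ (orderOf_pos _).ne'
          simp only [Prod.orderOf] at *
          exact Nat.lcm_dvd hx (Nat.lcm_dvd hy (Nat.lcm_dvd hz ((hE e).trans hr')))
        · exact ⟨(x', y', z'), by simp [Prod.orderOf, he]⟩
      rcases (Nat.dvd_prime hr).1 (hE e) with he | he
      · exact ⟨x, y, z, Or.inr ⟨he, rfl, rfl, rfl⟩⟩
      have hx0 : ∀ w : L, orderOf w ∣ orderOf w := fun w => dvd_rfl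
      have l1 : ∀ a b c : L, orderOf a ∣ orderOf (a, b, c) := fun a b c => by
        simp only [Prod.orderOf]; exact Nat.dvd_lcm_left _ _
      have l2 : ∀ a b c : L, orderOf b ∣ orderOf (a, b, c) := fun a b c => by
        simp only [Prod.orderOf]; exact (Nat.dvd_lcm_left _ _).trans (Nat.dvd_lcm_right _ _)
      have l3 : ∀ a b c : L, orderOf c ∣ orderOf (a, b, c) := fun a b c => by
        simp only [Prod.orderOf]; exact (Nat.dvd_lcm_right _ _).trans (Nat.dvd_lcm_right _ _)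
      by_cases hx : r ∣ orderOf x
      · exact ⟨x, y, z, Or.inl ⟨l1 _ _ _, l2 _ _ _, l3 _ _ _, hx.trans (l1 _ _ _)⟩⟩
      by_cases hy : r ∣ orderOf y
      · exact ⟨x, y, z, Or.inl ⟨l1 _ _ _, l2 _ _ _, l3 _ _ _, hy.trans (l2 _ _ _)⟩⟩
      by_cases hz : r ∣ orderOf z
      · exact ⟨x, y, z, Or.inl ⟨l1 _ _ _, l2 _ _ _, l3 _ _ _, hz.trans (l3 _ _ _)⟩⟩
      rcases key x hx with ⟨x', hx'⟩ | hxT
      · exact ⟨x', y, z, Or.inl ⟨((dvd_mul_left _ r).trans hx').trans (l1 _ _ _), l2 _ _ _, l3 _ _ _,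
          ((dvd_mul_right r _).trans hx').trans (l1 _ _ _)⟩⟩
      rcases key y hy with ⟨y', hy'⟩ | hyT'
      · exact ⟨x, y', z, Or.inl ⟨l1 _ _ _, ((dvd_mul_left _ r).trans hy').trans (l2 _ _ _), l3 _ _ _,
          ((dvd_mul_right r _).trans hy').trans (l2 _ _ _)⟩⟩
      rcases key z hz with ⟨z', hz'⟩ | hzT
      · exact ⟨x, y, z', Or.inl ⟨l1 _ _ _, l2 _ _ _, ((dvd_mul_left _ r).trans hz').trans (l3 _ _ _),
          ((dvd_mul_right r _).trans hz').trans (l3 _ _ _)⟩⟩
      have hall : P * T ∣ orderOf (yP, yT, yr) :=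
        hPT.mul_dvd_of_dvd_of_dvd (hyP.trans (l1 _ _ _)) (hyT.trans (l2 _ _ _))
      exact ⟨yP, yT, yr, Or.inl ⟨hxT.trans hall, hyT'.trans hall, hzT.trans hall,
        hyr.trans (l3 _ _ _)⟩⟩
    · rintro ⟨⟨x, y, z⟩, rfl⟩
      exact ⟨(x, y, z, 1), by simp [Prod.orderOf]⟩
  · intro hj
    obtain ⟨yPr, hyPr⟩ := exists_psl_unipotent_mul (F := F) (n := n) p hr hrn hn hε hrp hj
    ext d
    constructor
    · rintro ⟨⟨x, y, e⟩, rfl⟩
      have l1 : ∀ a b : L, orderOf a ∣ orderOf (a, b) := fun a b => by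
        simp only [Prod.orderOf]; exact Nat.dvd_lcm_left _ _
      have l2 : ∀ a b : L, orderOf b ∣ orderOf (a, b) := fun a b => by
        simp only [Prod.orderOf]; exact Nat.dvd_lcm_right _ _
      suffices ∃ x' y' : L, orderOf x ∣ orderOf (x', y') ∧ orderOf y ∣ orderOf (x', y') ∧
          orderOf e ∣ orderOf (x', y') by
        obtain ⟨x', y', hx, hy, he⟩ := this
        refine mem_range_orderOf_of_dvd (x := (x', y')) ?_ (orderOf_pos _).ne'
        simp only [Prod.orderOf] at *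
        exact Nat.lcm_dvd hx (Nat.lcm_dvd hy he)
      rcases (Nat.dvd_prime hr).1 (hE e) with he | he
      · exact ⟨x, y, l1 _ _, l2 _ _, by rw [he]; exact one_dvd _⟩
      by_cases hx : r ∣ orderOf x
      · exact ⟨x, y, l1 _ _, l2 _ _, (hE e).trans <| hx.trans (l1 _ _)⟩
      by_cases hy : r ∣ orderOf y
      · exact ⟨x, y, l1 _ _, l2 _ _, (hE e).trans <| hy.trans (l2 _ _)⟩
      rcases key x hx with ⟨x', hx'⟩ | hxT
      · exact ⟨x', y, ((dvd_mul_left _ r).trans hx').trans (l1 _ _), l2 _ _,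
          (hE e).trans <| ((dvd_mul_right r _).trans hx').trans (l1 _ _)⟩
      rcases key y hy with ⟨y', hy'⟩ | hyT'
      · exact ⟨x, y', l1 _ _, ((dvd_mul_left _ r).trans hy').trans (l2 _ _),
          (hE e).trans <| ((dvd_mul_right r _).trans hy').trans (l2 _ _)⟩
      have hall : P * T ∣ orderOf (yPr, yT) :=
        hPT.mul_dvd_of_dvd_of_dvd (((dvd_mul_right _ r).trans hyPr).trans (l1 _ _)) (hyT.trans (l2 _ _))
      exact ⟨yPr, yT, hxT.trans hall, hyT'.trans hall,
        (hE e).trans <| ((dvd_mul_left r _).trans hyPr).trans (l1 _ _)⟩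
    · rintro ⟨⟨x, y⟩, rfl⟩
      exact ⟨(x, y, 1), by simp [Prod.orderOf]⟩
end Cfsg.Agent.S2510
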