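import Cfsg.Statements.S2511
import Cfsg.Agent.Lib.Classical.PSUSpectrum.Dichotomy
import Cfsg.Agent.Lib.KnownC.Orders

set_option autoImplicit false
open Cfsg

namespace Cfsg.Agent.S2511

open CfsgLib.Classical.PSUSpectrum CfsgLib.KnownC.Orders

/-- Let F be a finite field with q² elements, q = p^a, n ≥ 3 with (n, q) ≠ (3, 2), L = PSU(n, q) realised over F, and let r be a prime dividing q + 1 and not dividing n. Then for every m the direct product L × L × L × (ℤ/r)^m has the same set of element orders as L × L × L; and if n − 1 is not a power of p, then already L × L × (ℤ/r)^m has the same set of element orders as L × L. -/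
theorem result {F : Type*} [Field F] [Fintype F] (p a n q r m : ℕ) (hp : p.Prime) (ha : 1 ≤ a) (hq : q = p ^ a) (hF : Fintype.card F = q ^ 2)
    (hn : 3 ≤ n) (hn3 : ¬ (n = 3 ∧ q = 2)) (hr : r.Prime) (hrq : r ∣ q + 1) (hrn : ¬ r ∣ n) :
    Set.range (orderOf : Cfsg.PSU n F q × Cfsg.PSU n F q × Cfsg.PSU n F q × Multiplicative (Fin m → ZMod r) → ℕ) = Set.range (orderOf : Cfsg.PSU n F q × Cfsg.PSU n F q × Cfsg.PSU n F q → ℕ) ∧
    ((¬ ∃ j : ℕ, n - 1 = p ^ j) →
      Set.range (orderOf : Cfsg.PSU n F q × Cfsg.PSU n F q × Multiplicative (Fin m → ZMod r) → ℕ) = Set.range (orderOf : Cfsg.PSU n F q × Cfsg.PSU n F q → ℕ)) := by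
  classical
  haveI : Fact p.Prime := ⟨hp⟩
  haveI : Fact r.Prime := ⟨hr⟩
  haveI : CharP F p := charP_of_card_eq_prime_pow (f := a * 2) (by rw [hF, hq, ← pow_mul])
  obtain ⟨σ, hσ, hc⟩ := CfsgLib.Classical.exists_frob hF
  obtain ⟨εu, hεu⟩ := exists_prime_orderOf_dvd_card' (G := Fˣ) r
    (by rw [Nat.card_units, Nat.card_eq_fintype_card, hF]
        refine hrq.trans ⟨q - 1, ?_⟩
        have h := Nat.sq_sub_sq q 1
        rwa [one_pow] at h)
  set ε : F := (εu : F)
  have hε : orderOf ε = r := by rw [orderOf_units, hεu]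
  have hpq : p ∣ q := hq ▸ dvd_pow_self p (by omega)
  have hrp : r ≠ p := by
    rintro rfl
    exact hr.not_dvd_one ((Nat.dvd_add_right hpq).1 hrq)
  set L := Cfsg.PSU n F q with hL
  set P := p ^ Nat.clog p n
  set T := torusT q n with hT'
  haveI : Finite L := inferInstanceAs (Finite (Cfsg.SU n F q ⧸ Subgroup.center (Cfsg.SU n F q)))
  obtain ⟨yT, hyT⟩ := exists_psu_torus (n := n) p hF (by omega) hσ hc
  obtain ⟨yP, hyP⟩ := exists_psu_unipotent (n := n) p hF (by omega) hσ hc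
  obtain ⟨yr, hyr'⟩ := exists_psu_unipotent_mul (n := n) p hF hn hσ hc hr hrn hrq hε hrp
  have hyr : r ∣ orderOf yr := (dvd_mul_left r _).trans hyr'
  have hPT : Nat.Coprime P T :=
    ((coprime_torusM hp hpq (by omega)).coprime_dvd_right (Dvd.intro _ (torusT_mul q n))).pow_left _
  have hE : ∀ e : Multiplicative (Fin m → ZMod r), orderOf e ∣ r := fun e => by
    apply orderOf_dvd_of_pow_eq_one
    apply Multiplicative.toAdd.injective
    funext i
    simp
  have key := dichotomy (p := p) (n := n) hF (by omega) hσ hc hr hrn hrq hε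
  constructor
  · ext d
    constructor
    · rintro ⟨⟨x, y, z, e⟩, rfl⟩
      suffices ∃ x' y' z' : L, orderOf x ∣ orderOf (x', y', z') ∧ orderOf y ∣ orderOf (x', y', z') ∧
          orderOf z ∣ orderOf (x', y', z') ∧ r ∣ orderOf (x', y', z') ∨ (orderOf e = 1 ∧ x' = x ∧ y' = y ∧ z' = z) by
        obtain ⟨x', y', z', h⟩ := this
        rcases h with ⟨hx, hy, hz, hr'⟩ | ⟨he, rfl, rfl, rfl⟩
        · refine mem_range_orderOf_of_dvd (x := (x', y', z')) ?_ (orderOf_pos _).ne'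
          simp only [Prod.orderOf] at *
          exact Nat.lcm_dvd hx (Nat.lcm_dvd hy (Nat.lcm_dvd hz ((hE e).trans hr')))
        · exact ⟨(x', y', z'), by simp [Prod.orderOf, he]⟩
      rcases (Nat.dvd_prime hr).1 (hE e) with he | he
      · exact ⟨x, y, z, Or.inr ⟨he, rfl, rfl, rfl⟩⟩
      have hx0 : ∀ w : L, orderOf w ∣ orderOf w := fun w => dvd_rfl
      have l1 : ∀ a b c : L, orderOf a ∣ orderOf (a, b, c) := fun a b c => by
        simp only [Prod.orderOf]; exact Nat.dvd_lcm_left _ _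
      have l2 : ∀ a b c : L, orderOf b ∣ orderOf (a, b, c) := fun a b c => by
        simp only [Prod.orderOf]; exact (Nat.dvd_lcm_left _ _).trans (Nat.dvd_lcm_right _ _)
      have l3 : ∀ a b c : L, orderOf c ∣ orderOf (a, b, c) := fun a b c => by
        simp only [Prod.orderOf]; exact (Nat.dvd_lcm_right _ _).trans (Nat.dvd_lcm_right _ _)
      by_cases hx : r ∣ orderOf x
      · exact ⟨x, y, z, Or.inl ⟨l1 _ _ _, l2 _ _ _, l3 _ _ _, hx.trans (l1 _ _ _)⟩⟩
      by_cases hy : r ∣ orderOf y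
      · exact ⟨x, y, z, Or.inl ⟨l1 _ _ _, l2 _ _ _, l3 _ _ _, hy.trans (l2 _ _ _)⟩⟩
      by_cases hz : r ∣ orderOf z
      · exact ⟨x, y, z, Or.inl ⟨l1 _ _ _, l2 _ _ _, l3 _ _ _, hz.trans (l3 _ _ _)⟩⟩
      rcases key x hx with ⟨x', hx'⟩ | hxT
      · exact ⟨x', y, z, Or.inl ⟨((dvd_mul_left _ r).trans hx').trans (l1 _ _ _), l2 _ _ _, l3 _ _ _,
          ((dvd_mul_right r _).trans hx').trans (l1 _ _ _)⟩⟩
      rcases key y hy with ⟨y', hy'⟩ | hyT'
      · exact ⟨x, y', z, Or.inl ⟨l1 _ _ _, ((dvd_mul_left _ r).trans hy').trans (l2 _ _ _), l3 _ _ _,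
          ((dvd_mul_right r _).trans hy').trans (l2 _ _ _)⟩⟩
      rcases key z hz with ⟨z', hz'⟩ | hzT
      · exact ⟨x, y, z', Or.inl ⟨l1 _ _ _, l2 _ _ _, ((dvd_mul_left _ r).trans hz').trans (l3 _ _ _),
          ((dvd_mul_right r _).trans hz').trans (l3 _ _ _)⟩⟩
      have hall : P * T ∣ orderOf (yP, yT, yr) :=
        hPT.mul_dvd_of_dvd_of_dvd (hyP.trans (l1 _ _ _)) (hyT.trans (l2 _ _ _))
      exact ⟨yP, yT, yr, Or.inl ⟨hxT.trans hall, hyT'.trans hall, hzT.trans hall,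
        hyr.trans (l3 _ _ _)⟩⟩
    · rintro ⟨⟨x, y, z⟩, rfl⟩
      exact ⟨(x, y, z, 1), by simp [Prod.orderOf]⟩
  · intro hj
    obtain ⟨yPr, hyPr⟩ := exists_psu_unipotent_mul (n := n) p hF hn hσ hc hr hrn hrq hε hrp
    have hclog : Nat.clog p (n - 1) = Nat.clog p n := by
      refine le_antisymm (Nat.clog_mono_right _ (Nat.sub_le _ _)) (Nat.clog_le_of_le_pow ?_)
      have h1 := Nat.le_pow_clog hp.one_lt (n - 1)
      have h2 : n - 1 ≠ p ^ Nat.clog p (n - 1) := fun h => hj ⟨_, h⟩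
      omega
    rw [hclog] at hyPr
    ext d
    constructor
    · rintro ⟨⟨x, y, e⟩, rfl⟩
      have l1 : ∀ a b : L, orderOf a ∣ orderOf (a, b) := fun a b => by
        simp only [Prod.orderOf]; exact Nat.dvd_lcm_left _ _
      have l2 : ∀ a b : L, orderOf b ∣ orderOf (a, b) := fun a b => by
        simp only [Prod.orderOf]; exact Nat.dvd_lcm_right _ _
      suffices ∃ x' y' : L, orderOf x ∣ orderOf (x', y') ∧ orderOf y ∣ orderOf (x', y') ∧
          orderOf e ∣ orderOf (x', y') by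
        obtain ⟨x', y', hx, hy, he⟩ := this
        refine mem_range_orderOf_of_dvd (x := (x', y')) ?_ (orderOf_pos _).ne'
        simp only [Prod.orderOf] at *
        exact Nat.lcm_dvd hx (Nat.lcm_dvd hy he)
      rcases (Nat.dvd_prime hr).1 (hE e) with he | he
      · exact ⟨x, y, l1 _ _, l2 _ _, by rw [he]; exact one_dvd _⟩
      by_cases hx : r ∣ orderOf x
      · exact ⟨x, y, l1 _ _, l2 _ _, (hE e).trans <| hx.trans (l1 _ _)⟩
      by_cases hy : r ∣ orderOf y
      · exact ⟨x, y, l1 _ _, l2 _ _, (hE e).trans <| hy.trans (l2 _ _)⟩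
      rcases key x hx with ⟨x', hx'⟩ | hxT
      · exact ⟨x', y, ((dvd_mul_left _ r).trans hx').trans (l1 _ _), l2 _ _,
          (hE e).trans <| ((dvd_mul_right r _).trans hx').trans (l1 _ _)⟩
      rcases key y hy with ⟨y', hy'⟩ | hyT'
      · exact ⟨x, y', l1 _ _, ((dvd_mul_left _ r).trans hy').trans (l2 _ _),
          (hE e).trans <| ((dvd_mul_right r _).trans hy').trans (l2 _ _)⟩
      have hall : P * T ∣ orderOf (yPr, yT) :=
        hPT.mul_dvd_of_dvd_of_dvd (((dvd_mul_right _ r).trans hyPr).trans (l1 _ _)) (hyT.trans (l2 _ _))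
      exact ⟨yPr, yT, hxT.trans hall, hyT'.trans hall,
        (hE e).trans <| ((dvd_mul_left r _).trans hyPr).trans (l1 _ _)⟩
    · rintro ⟨⟨x, y⟩, rfl⟩
      exact ⟨(x, y, 1), by simp [Prod.orderOf]⟩

end Cfsg.Agent.S2511
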