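import Cfsg.Statements.S2512
import Cfsg.Agent.Lib.Classical.SympSpectrum
import Cfsg.Agent.Lib.KnownC.Orders

set_option autoImplicit false
open Cfsg

namespace Cfsg.Agent.S2512

/-- Let F be a finite field of odd order q = p^a, n ≥ 2 (with q ≥ 3 automatic), and L = PSp(2n, F). Then for every m the direct product L × L × L × (ℤ/2)^m has the same set of element orders as L × L × L; and if 2n − 1 is not a power of p, then already L × L × (ℤ/2)^m has the same set of element orders as L × L. -/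
theorem result {F : Type*} [Field F] [Fintype F] (p a n m : ℕ) (hp : p.Prime) (ha : 1 ≤ a) (hF : Fintype.card F = p ^ a) (hodd : Odd (Fintype.card F))
    (hn : 2 ≤ n) :
    Set.range (orderOf : Cfsg.PSp n F × Cfsg.PSp n F × Cfsg.PSp n F × Multiplicative (Fin m → ZMod 2) → ℕ) = Set.range (orderOf : Cfsg.PSp n F × Cfsg.PSp n F × Cfsg.PSp n F → ℕ) ∧
    ((¬ ∃ j : ℕ, 2 * n - 1 = p ^ j) →
      Set.range (orderOf : Cfsg.PSp n F × Cfsg.PSp n F × Multiplicative (Fin m → ZMod 2) → ℕ) = Set.range (orderOf : Cfsg.PSp n F × Cfsg.PSp n F → ℕ)) := by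
  classical
  haveI : Fact p.Prime := ⟨hp⟩
  haveI : CharP F p := charP_of_card_eq_prime_pow hF
  have hp2 : p ≠ 2 := fun h => by
    rw [hF, h] at hodd
    exact Nat.not_even_iff_odd.2 hodd (Nat.even_pow.2 ⟨even_two, by omega⟩)
  have h2 : (2 : F) ≠ 0 := fun h => by
    have h' : p ∣ 2 := (CharP.cast_eq_zero_iff F p 2).1 (by exact_mod_cast h)
    exact hp2 ((Nat.prime_dvd_prime_iff_eq hp Nat.prime_two).1 h')
  set L := Cfsg.PSp n F with hL
  haveI : Finite L := inferInstanceAs (Finite (Matrix.symplecticGroup (Fin n) F ⧸ _))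
  set P := p ^ Nat.clog p (2 * n) with hP
  set Tm := (Fintype.card F ^ n + 1) / 2 with hTm
  set Tp := (Fintype.card F ^ n - 1) / 2 with hTp
  obtain ⟨yP, hyP⟩ := CfsgLib.Classical.SympSpectrum.exists_unip (F := F) p h2 (n := n) (by omega)
  obtain ⟨⟨ym, hym⟩, yp, hyp⟩ := CfsgLib.Classical.SympSpectrum.exists_half (F := F) p h2 (n := n) (by omega)
  have hcons : Tm = Tp + 1 := by
    obtain ⟨c, hc⟩ := hodd.pow (n := n)
    omega
  have key := fun (x : L) (hx : ¬ 2 ∣ orderOf x) => CfsgLib.Classical.SympSpectrum.dichotomy p h2 hn x hx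
  have hE : ∀ e : Multiplicative (Fin m → ZMod 2), orderOf e ∣ 2 := fun e => by
    apply orderOf_dvd_of_pow_eq_one
    apply Multiplicative.toAdd.injective
    funext i
    simp
    exact Or.inl CharTwo.two_eq_zero
  have even_cases : ∀ D, Tm ∣ D → Tp ∣ D → 2 ∣ D := by
    intro D h1 h3
    rcases Nat.even_or_odd Tp with h | h
    · exact h.two_dvd.trans h3
    · have : Even Tm := by rw [hcons]; exact h.add_odd odd_one
      exact this.two_dvd.trans h1
  have hup : ∀ x : L, ∃ x' : L, orderOf x ∣ orderOf x' ∧ (2 ∣ orderOf x' ∨ (x' = x ∧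
      (orderOf x ∣ P ∨ orderOf x ∣ Tm ∨ orderOf x ∣ Tp))) := by
    intro x
    by_cases hx : 2 ∣ orderOf x
    · exact ⟨x, dvd_rfl, Or.inl hx⟩
    rcases key x hx with ⟨y, hy⟩ | h
    · exact ⟨y, (dvd_mul_left _ 2).trans hy, Or.inl ((dvd_mul_right 2 _).trans hy)⟩
    · exact ⟨x, dvd_rfl, Or.inr ⟨rfl, h⟩⟩
  constructor
  · ext d
    constructor
    · rintro ⟨⟨x, y, z, e⟩, rfl⟩
      have l1 : ∀ a b c : L, orderOf a ∣ orderOf (a, b, c) := fun a b c => by
        simp only [Prod.orderOf]; exact Nat.dvd_lcm_left _ _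
      have l2 : ∀ a b c : L, orderOf b ∣ orderOf (a, b, c) := fun a b c => by
        simp only [Prod.orderOf]; exact (Nat.dvd_lcm_left _ _).trans (Nat.dvd_lcm_right _ _)
      have l3 : ∀ a b c : L, orderOf c ∣ orderOf (a, b, c) := fun a b c => by
        simp only [Prod.orderOf]; exact (Nat.dvd_lcm_right _ _).trans (Nat.dvd_lcm_right _ _)
      suffices ∃ w : L × L × L, orderOf x ∣ orderOf w ∧ orderOf y ∣ orderOf w ∧ orderOf z ∣ orderOf w ∧
          2 ∣ orderOf w by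
        obtain ⟨w, hx, hy, hz, hw⟩ := this
        refine CfsgLib.KnownC.Orders.mem_range_orderOf_of_dvd (x := w) ?_ (orderOf_pos _).ne'
        simp only [Prod.orderOf] at *
        exact Nat.lcm_dvd hx (Nat.lcm_dvd hy (Nat.lcm_dvd hz ((hE e).trans hw)))
      obtain ⟨x', hx1, hx2⟩ := hup x
      obtain ⟨y', hy1, hy2⟩ := hup y
      obtain ⟨z', hz1, hz2⟩ := hup z
      rcases hx2 with hx2 | ⟨-, hxb⟩
      · exact ⟨(x', y', z'), hx1.trans (l1 _ _ _), hy1.trans (l2 _ _ _), hz1.trans (l3 _ _ _), hx2.trans (l1 _ _ _)⟩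
      rcases hy2 with hy2 | ⟨-, hyb⟩
      · exact ⟨(x', y', z'), hx1.trans (l1 _ _ _), hy1.trans (l2 _ _ _), hz1.trans (l3 _ _ _), hy2.trans (l2 _ _ _)⟩
      rcases hz2 with hz2 | ⟨-, hzb⟩
      · exact ⟨(x', y', z'), hx1.trans (l1 _ _ _), hy1.trans (l2 _ _ _), hz1.trans (l3 _ _ _), hz2.trans (l3 _ _ _)⟩
      have cov : ∀ o, (o ∣ P ∨ o ∣ Tm ∨ o ∣ Tp) → o ∣ orderOf (yP, ym, yp) := by
        rintro o (h | h | h)
        · exact h.trans (hyP.trans (l1 _ _ _))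
        · exact h.trans (hym.trans (l2 _ _ _))
        · exact h.trans (hyp.trans (l3 _ _ _))
      exact ⟨(yP, ym, yp), cov _ hxb, cov _ hyb, cov _ hzb,
        even_cases _ (hym.trans (l2 _ _ _)) (hyp.trans (l3 _ _ _))⟩
    · rintro ⟨⟨x, y, z⟩, rfl⟩
      exact ⟨(x, y, z, 1), by simp [Prod.orderOf]⟩
  · intro hj
    obtain ⟨yPr, hyPr⟩ : ∃ w : L, P * 2 ∣ orderOf w := by
      obtain ⟨k, rfl⟩ : ∃ k, n = 1 + k := ⟨n - 1, by omega⟩
      obtain ⟨-, w, hw⟩ := CfsgLib.Classical.SympSpectrum.exists_mixed (F := F) p h2 le_rfl (show 1 ≤ k by omega)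
      refine ⟨w, (dvd_trans ?_ hw)⟩
      rw [mul_comm (_ - 1)]
      refine mul_dvd_mul (pow_dvd_pow p ?_) ?_
      · refine Nat.clog_le_of_le_pow ?_
        have h1 : 2 * k ≤ p ^ Nat.clog p (2 * k) := Nat.le_pow_clog hp.one_lt _
        obtain ⟨c, hc⟩ := (hp.odd_of_ne_two hp2).pow (n := Nat.clog p (2 * k))
        have h3 : p ^ Nat.clog p (2 * k) ≠ 2 * k + 1 := fun h => hj ⟨_, by rw [h]; omega⟩
        omega
      · rw [pow_one]; exact (Nat.Odd.sub_odd hodd odd_one).two_dvd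
    ext d
    constructor
    · rintro ⟨⟨x, y, e⟩, rfl⟩
      have l1 : ∀ a b : L, orderOf a ∣ orderOf (a, b) := fun a b => by
        simp only [Prod.orderOf]; exact Nat.dvd_lcm_left _ _
      have l2 : ∀ a b : L, orderOf b ∣ orderOf (a, b) := fun a b => by
        simp only [Prod.orderOf]; exact Nat.dvd_lcm_right _ _
      suffices ∃ w : L × L, orderOf x ∣ orderOf w ∧ orderOf y ∣ orderOf w ∧ 2 ∣ orderOf w by
        obtain ⟨w, hx, hy, hw⟩ := this
        refine CfsgLib.KnownC.Orders.mem_range_orderOf_of_dvd (x := w) ?_ (orderOf_pos _).ne'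
        simp only [Prod.orderOf] at *
        exact Nat.lcm_dvd hx (Nat.lcm_dvd hy ((hE e).trans hw))
      obtain ⟨x', hx1, hx2⟩ := hup x
      obtain ⟨y', hy1, hy2⟩ := hup y
      rcases hx2 with hx2 | ⟨-, hxb⟩
      · exact ⟨(x', y'), hx1.trans (l1 _ _), hy1.trans (l2 _ _), hx2.trans (l1 _ _)⟩
      rcases hy2 with hy2 | ⟨-, hyb⟩
      · exact ⟨(x', y'), hx1.trans (l1 _ _), hy1.trans (l2 _ _), hy2.trans (l2 _ _)⟩
      have hPd := (dvd_mul_right P 2).trans hyPr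
      have h2d := (dvd_mul_left 2 P).trans hyPr
      have cP : ∀ (o : ℕ) (u : L), o ∣ P → o ∣ orderOf (yPr, u) := fun o u h => h.trans (hPd.trans (l1 _ _))
      have cT : ∀ (o T : ℕ) (u : L), o ∣ T → T ∣ orderOf u → o ∣ orderOf (yPr, u) := fun o T u h h' =>
        h.trans (h'.trans (l2 _ _))
      have c2 : ∀ u : L, 2 ∣ orderOf (yPr, u) := fun u => h2d.trans (l1 _ _)
      have cm : ∀ o, o ∣ Tm → o ∣ orderOf (ym, yp) := fun o h => h.trans (hym.trans (l1 _ _))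
      have cp : ∀ o, o ∣ Tp → o ∣ orderOf (ym, yp) := fun o h => h.trans (hyp.trans (l2 _ _))
      have cmp2 := even_cases _ (hym.trans (l1 ym yp)) (hyp.trans (l2 ym yp))
      rcases hxb with hx | hx | hx <;> rcases hyb with hy | hy | hy
      · exact ⟨(yPr, ym), cP _ _ hx, cP _ _ hy, c2 _⟩
      · exact ⟨(yPr, ym), cP _ _ hx, cT _ _ _ hy hym, c2 _⟩
      · exact ⟨(yPr, yp), cP _ _ hx, cT _ _ _ hy hyp, c2 _⟩
      · exact ⟨(yPr, ym), cT _ _ _ hx hym, cP _ _ hy, c2 _⟩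
      · exact ⟨(yPr, ym), cT _ _ _ hx hym, cT _ _ _ hy hym, c2 _⟩
      · exact ⟨(ym, yp), cm _ hx, cp _ hy, cmp2⟩
      · exact ⟨(yPr, yp), cT _ _ _ hx hyp, cP _ _ hy, c2 _⟩
      · exact ⟨(ym, yp), cp _ hx, cm _ hy, cmp2⟩
      · exact ⟨(yPr, yp), cT _ _ _ hx hyp, cT _ _ _ hy hyp, c2 _⟩
    · rintro ⟨⟨x, y⟩, rfl⟩
      exact ⟨(x, y, 1), by simp [Prod.orderOf]⟩

end Cfsg.Agent.S2512
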