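import Cfsg.Statements.S2513
import Cfsg.Agent.Lib.KnownC.Orders
import Cfsg.Agent.Lib.KnownC.MatOrder

set_option autoImplicit false
open Cfsg

namespace Cfsg.Agent.S2513

/-- Let F be the field with two elements, n ≥ 2, L = PSL(n, F) and k₀ = ⌊(n + 3)/2⌋. Then for every k ≥ k₀ the direct product of k copies of L has the same set of element orders as the direct product of k₀ copies of L. -/
theorem result {F : Type*} [Field F] [Fintype F] (hF : Fintype.card F = 2) (n k : ℕ) (hn : 2 ≤ n) (hk : (n + 3) / 2 ≤ k) :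
    Set.range (orderOf : (Fin k → Matrix.ProjectiveSpecialLinearGroup (Fin n) F) → ℕ) = Set.range (orderOf : (Fin ((n + 3) / 2) → Matrix.ProjectiveSpecialLinearGroup (Fin n) F) → ℕ) := by
  classical
  haveI : Fact (Nat.Prime 2) := ⟨Nat.prime_two⟩
  haveI : CharP F 2 := charP_of_card_eq_prime hF
  have hcardF : Nat.card F = 2 := by rw [Nat.card_eq_fintype_card, hF]
  have hunit : ∀ c : F, c ≠ 0 → c = 1 := by
    intro c hc
    have := FiniteField.pow_card_sub_one_eq_one c hc
    simpa [hF] using this
  -- passing between PSL and invertible matrices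
  have hcenter : Subgroup.center (Matrix.SpecialLinearGroup (Fin n) F) = ⊥ := by
    refine (Subgroup.eq_bot_iff_forall _).2 fun A hA => ?_
    obtain ⟨r, hr, hrA⟩ := Matrix.SpecialLinearGroup.mem_center_iff.1 hA
    rw [Fintype.card_fin] at hr
    have : r = 1 := hunit r (by rintro rfl; rw [zero_pow (by omega)] at hr; exact zero_ne_one hr)
    exact Subtype.ext (by rw [← hrA, this, map_one]; rfl)
  have hmk : ∀ A : Matrix.SpecialLinearGroup (Fin n) F,
      orderOf (QuotientGroup.mk A : Matrix.ProjectiveSpecialLinearGroup (Fin n) F) =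
        orderOf (A : Matrix (Fin n) (Fin n) F) := by
    intro A
    have hinj : Function.Injective
        (QuotientGroup.mk' (Subgroup.center (Matrix.SpecialLinearGroup (Fin n) F))) := by
      rw [← MonoidHom.ker_eq_bot_iff, QuotientGroup.ker_mk', hcenter]
    exact (orderOf_injective _ hinj A).trans (orderOf_injective
      Matrix.SpecialLinearGroup.coeMonoidHom Matrix.SpecialLinearGroup.coeMonoidHom_injective A).symm
  have hlift : ∀ A : Matrix (Fin n) (Fin n) F, orderOf A ≠ 0 →
      ∃ x : Matrix.ProjectiveSpecialLinearGroup (Fin n) F, orderOf x = orderOf A := by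
    intro A hA
    have hpow : A.det ^ orderOf A = 1 := by rw [← Matrix.det_pow, pow_orderOf_eq_one, Matrix.det_one]
    have hdet : A.det = 1 :=
      hunit _ (by intro h; rw [h, zero_pow hA] at hpow; exact zero_ne_one hpow)
    exact ⟨QuotientGroup.mk ⟨A, hdet⟩, hmk _⟩
  set L := (Finset.Icc 1 n).lcm (fun d => 2 ^ d - 1) with hL
  set e := Nat.clog 2 n with he
  have hL0 : L ≠ 0 := by
    rw [hL, Ne, Finset.lcm_eq_zero_iff]
    rintro ⟨d, hd, h⟩
    have := Nat.one_lt_two_pow (n := d) (by rw [Finset.mem_Icc] at hd; omega)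
    omega
  have hub : ∀ x : Matrix.ProjectiveSpecialLinearGroup (Fin n) F, orderOf x ∣ L * 2 ^ e := by
    intro x
    obtain ⟨A, rfl⟩ := QuotientGroup.mk_surjective x
    rw [hmk]
    apply orderOf_dvd_of_pow_eq_one
    refine CfsgLib.KnownC.MatOrder.pow_eq_one 2 (Nat.le_pow_clog (by norm_num) n) ?_ _ (by simp [A.det_coe])
    intro d h1 h2
    rw [hcardF, hL]
    exact Finset.dvd_lcm (Finset.mem_Icc.2 ⟨h1, h2⟩)
  have key : ∀ j, (n + 3) / 2 ≤ j →
      Set.range (orderOf : (Fin j → Matrix.ProjectiveSpecialLinearGroup (Fin n) F) → ℕ) =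
        {d | d ∣ L * 2 ^ e} := by
    intro j hj
    ext N
    constructor
    · rintro ⟨x, rfl⟩
      rw [Set.mem_setOf_eq, CfsgLib.KnownC.Orders.orderOf_pi_dvd_iff]
      exact fun i => hub _
    · intro hN
      have hsinger : ∀ d, 1 ≤ d → d ≤ n →
          ∃ x : Matrix.ProjectiveSpecialLinearGroup (Fin n) F, orderOf x = 2 ^ d - 1 := by
        intro d h1 h2
        obtain ⟨A, hA⟩ := CfsgLib.KnownC.MatOrder.exists_matrix_singer (F := F) 2 h1 h2
        rw [hcardF] at hA
        rw [← hA]
        refine hlift A ?_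
        have := Nat.one_lt_two_pow (n := d) (by omega)
        omega
      obtain ⟨A, hA, -⟩ := CfsgLib.KnownC.MatOrder.exists_matrix_unipotent (F := F) 2 (n := n) (by omega)
      obtain ⟨u, hu⟩ := hlift A (by rw [hA]; positivity)
      choose s hs using hsinger
      let x : Fin j → Matrix.ProjectiveSpecialLinearGroup (Fin n) F := fun i =>
        if h : (i : ℕ) < n - n / 2 then s (n - (i : ℕ)) (by omega) (by omega) else u
      refine CfsgLib.KnownC.Orders.mem_range_orderOf_of_dvd (x := x) ?_ (orderOf_pos _).ne'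
      refine dvd_trans hN (Nat.Coprime.mul_dvd_of_dvd_of_dvd ?_ ?_ ?_)
      · apply Nat.Coprime.pow_right
        have hp : ¬ 2 ∣ L := by
          intro h2
          have hodd : ∀ d ∈ Finset.Icc 1 n, (2 ^ d - 1) ∣ ∏ i ∈ Finset.Icc 1 n, (2 ^ i - 1) :=
            fun d hd => Finset.dvd_prod_of_mem _ hd
          have h3 := h2.trans (Finset.lcm_dvd hodd)
          obtain ⟨d, hd, hd2⟩ := (Prime.dvd_finsetProd_iff Nat.prime_two.prime _).1 h3
          have h4 : 2 ∣ 2 ^ d := dvd_pow_self 2 (by rw [Finset.mem_Icc] at hd; omega)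
          have := Nat.one_le_two_pow (n := d)
          omega
        exact (Nat.prime_two.coprime_iff_not_dvd.2 hp).symm
      · refine Finset.lcm_dvd fun d hd => ?_
        rw [Finset.mem_Icc] at hd
        have hm1 : d * (n / d) ≤ n := Nat.mul_div_le n d
        have hm2 : n < d * (n / d + 1) := Nat.lt_mul_div_succ n (by omega)
        have hm3 : d ≤ d * (n / d) := by
          have : 1 ≤ n / d := (Nat.one_le_div_iff (by omega)).2 hd.2
          calc d = d * 1 := (mul_one d).symm
            _ ≤ _ := Nat.mul_le_mul_left d this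
        rw [Nat.mul_add, mul_one] at hm2
        have hi : n - d * (n / d) < n - n / 2 := by omega
        refine dvd_trans ?_ (CfsgLib.KnownC.Orders.dvd_orderOf_pi x ⟨n - d * (n / d), by omega⟩)
        simp only [x, dif_pos hi, hs]
        have : n - (n - d * (n / d)) = d * (n / d) := by omega
        rw [this]
        exact Nat.pow_sub_one_dvd_pow_sub_one 2 (dvd_mul_right _ _)
      · have hlast : ¬ (n - n / 2 < n - n / 2) := lt_irrefl _
        refine dvd_trans ?_ (CfsgLib.KnownC.Orders.dvd_orderOf_pi x ⟨n - n / 2, by omega⟩)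
        simp only [x, dif_neg hlast, hu, hA]
        exact dvd_rfl
  rw [key k hk, key _ le_rfl]

end Cfsg.Agent.S2513
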