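import Cfsg.Statements.S2514
import Cfsg.Agent.Lib.KnownC.Orders

set_option autoImplicit false
open Cfsg

namespace Cfsg.Agent.S2514

/-- For a finite group X write μ(X) for the set of element orders of X that are maximal under divisibility. Let G and H be finite groups and k ≥ 1 such that μ(H) ⊆ μ(G) and μ(G) has fewer than k elements outside μ(H). Then the direct product of k copies of G has the same set of element orders as the direct product of k − 1 copies of G with H. -/
theorem result {G H : Type*} [Group G] [Finite G] [Group H] [Finite H] (k : ℕ) (hk : 1 ≤ k)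
    (hsub : {n : ℕ | n ∈ Set.range (orderOf : H → ℕ) ∧ ∀ m ∈ Set.range (orderOf : H → ℕ), n ∣ m → m = n} ⊆ {n : ℕ | n ∈ Set.range (orderOf : G → ℕ) ∧ ∀ m ∈ Set.range (orderOf : G → ℕ), n ∣ m → m = n})
    (hfew : ({n : ℕ | n ∈ Set.range (orderOf : G → ℕ) ∧ ∀ m ∈ Set.range (orderOf : G → ℕ), n ∣ m → m = n} \ {n : ℕ | n ∈ Set.range (orderOf : H → ℕ) ∧ ∀ m ∈ Set.range (orderOf : H → ℕ), n ∣ m → m = n}).ncard < k) :
    Set.range (orderOf : (Fin k → G) → ℕ) = Set.range (orderOf : (Fin (k - 1) → G) × H → ℕ) := by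
  obtain ⟨j, rfl⟩ : ∃ j, k = j + 1 := ⟨k - 1, by omega⟩
  show Set.range (orderOf : (Fin (j + 1) → G) → ℕ) = Set.range (orderOf : (Fin j → G) × H → ℕ)
  set MH := {n : ℕ | n ∈ Set.range (orderOf : H → ℕ) ∧ ∀ m ∈ Set.range (orderOf : H → ℕ), n ∣ m → m = n}
  set MG := {n : ℕ | n ∈ Set.range (orderOf : G → ℕ) ∧ ∀ m ∈ Set.range (orderOf : G → ℕ), n ∣ m → m = n}
  ext N
  constructor
  · rintro ⟨x, rfl⟩
    choose μ hμ hdvd using fun i => CfsgLib.KnownC.Orders.exists_maximal_order (x i)
    -- some index is redundant once we have a suitable element of H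
    obtain ⟨i₀, h, hh⟩ : ∃ i₀ : Fin (j + 1), ∃ h : H, ∀ m, (∀ i, i ≠ i₀ → μ i ∣ m) →
        orderOf h ∣ m → μ i₀ ∣ m := by
      by_cases hall : ∀ i, μ i ∈ MG \ MH
      · obtain ⟨a, b, hab, hμab⟩ : ∃ a b, a ≠ b ∧ μ a = μ b := by
          by_contra hne
          push Not at hne
          have hfin : (MG \ MH).Finite :=
            (Set.finite_range (orderOf : G → ℕ)).subset fun m hm => hm.1.1
          have hinj : Function.Injective μ := fun a b hab => not_imp_not.1 (hne a b) hab
          have := Set.ncard_le_ncard (s := Set.range μ) (Set.range_subset_iff.2 hall) hfin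
          rw [Set.ncard_range_of_injective hinj, Nat.card_fin] at this
          omega
        exact ⟨a, 1, fun m hm _ => hμab ▸ hm b hab.symm⟩
      · push Not at hall
        obtain ⟨i, hi⟩ := hall
        have hiH : μ i ∈ MH := by
          by_contra hc
          exact hi ⟨hμ i, hc⟩
        obtain ⟨h, hh⟩ := hiH.1
        exact ⟨i, h, fun m _ hm => hh ▸ hm⟩
    choose z hz using fun i => (hμ i).1
    refine CfsgLib.KnownC.Orders.mem_range_orderOf_of_dvd
      (x := ((fun i => z (i₀.succAbove i)), h)) ?_ (orderOf_pos _).ne'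
    rw [CfsgLib.KnownC.Orders.orderOf_pi_dvd_iff, Prod.orderOf]
    intro i
    refine (hdvd i).trans ?_
    have hother : ∀ i, i ≠ i₀ → μ i ∣ (orderOf (fun i => z (i₀.succAbove i))).lcm (orderOf h) := by
      intro i hne
      obtain ⟨i', rfl⟩ := Fin.exists_succAbove_eq hne
      rw [← hz]
      exact (CfsgLib.KnownC.Orders.dvd_orderOf_pi (fun i => z (i₀.succAbove i)) i').trans
        (Nat.dvd_lcm_left _ _)
    by_cases hne : i = i₀
    · subst hne; exact hh _ hother (Nat.dvd_lcm_right _ _)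
    · exact hother i hne
  · rintro ⟨⟨x, h⟩, rfl⟩
    obtain ⟨μ, hμ, hdvd⟩ := CfsgLib.KnownC.Orders.exists_maximal_order h
    obtain ⟨z, hz⟩ := (hsub hμ).1
    refine CfsgLib.KnownC.Orders.mem_range_orderOf_of_dvd
      (x := Fin.cons z x) ?_ (orderOf_pos _).ne'
    rw [Prod.orderOf]
    refine Nat.lcm_dvd ?_ ?_
    · rw [CfsgLib.KnownC.Orders.orderOf_pi_dvd_iff]
      intro i
      have := CfsgLib.KnownC.Orders.dvd_orderOf_pi (Fin.cons z x : Fin (j + 1) → G) i.succ
      simpa using this
    · refine hdvd.trans ?_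
      have := CfsgLib.KnownC.Orders.dvd_orderOf_pi (Fin.cons z x : Fin (j + 1) → G) 0
      simpa [hz] using this

end Cfsg.Agent.S2514
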