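import Cfsg.Statements.S2515
import Cfsg.Agent.Lib.KnownC.MaxOrdersExample
import Mathlib.FieldTheory.Finite.GaloisField

set_option autoImplicit false
open Cfsg

namespace Cfsg.Agent.S2515

open CfsgLib.KnownC.MaxOrdersExample


/-- Let q = 3^α with α ≥ 3 odd. There is a finite group H having a non-trivial normal 3-subgroup and whose element orders maximal under divisibility are exactly 6, 9, q − 1 and (q + 1)/2. -/
theorem result (α : ℕ) (hα : 3 ≤ α) (hodd : Odd α) :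
    ∃ (H : Type) (_ : Group H) (_ : Fintype H), (∃ P : Subgroup H, P.Normal ∧ P ≠ ⊥ ∧ IsPGroup 3 ↥P) ∧
      {n : ℕ | n ∈ Set.range (orderOf : H → ℕ) ∧ ∀ m ∈ Set.range (orderOf : H → ℕ), n ∣ m → m = n} = ({6, 9, 3 ^ α - 1, (3 ^ α + 1) / 2} : Set ℕ) := by
  classical
  let F := GaloisField 3 α
  letI : Fintype F := Fintype.ofFinite F
  have hcard : Fintype.card F = 3 ^ α := by
    rw [← Nat.card_eq_fintype_card]; exact GaloisField.card 3 α (by omega)
  obtain ⟨j, rfl⟩ := hodd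
  have hq4 : Fintype.card F % 4 = 3 := by
    rw [hcard, pow_succ, pow_mul, Nat.mul_mod, Nat.pow_mod]; norm_num
  have hq27 : 27 ≤ 3 ^ (2 * j + 1) := by
    calc 27 = 3 ^ 3 := rfl
      _ ≤ _ := Nat.pow_le_pow_right (by norm_num) hα
  have hq3 : 3 ∣ 3 ^ (2 * j + 1) := dvd_pow_self 3 (by omega)
  haveI : Finite (HG F) := Finite.of_equiv _ SemidirectProduct.equivProd.symm
  refine ⟨HG F, inferInstance, Fintype.ofFinite _, exists_normal F, ?_⟩
  obtain ⟨⟨w6, h6⟩, ⟨w9, h9⟩, ⟨wm, hm⟩, ⟨wp, hp⟩⟩ := exists_orders F hq4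
  rw [hcard] at hm hp hq4
  set q := 3 ^ (2 * j + 1)
  have hb : ∀ w : HG F, orderOf w ∣ 6 ∨ orderOf w ∣ 9 ∨ orderOf w ∣ q - 1 ∨ orderOf w ∣ (q + 1) / 2 := fun w => by
    have := orders_bound F (by rw [hcard]; exact hq4) w
    rwa [hcard] at this
  have key : ∀ a ∈ ({6, 9, q - 1, (q + 1) / 2} : Set ℕ), ∀ b ∈ ({6, 9, q - 1, (q + 1) / 2} : Set ℕ), a ∣ b → a = b := by
    have hA : ¬ q - 1 ∣ (q + 1) / 2 := fun h => by
      have := Nat.le_of_dvd (by omega) h; omega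
    have hB : ¬ (q + 1) / 2 ∣ q - 1 := fun h => by
      obtain ⟨c, hc⟩ := h
      have hc2 : c < 2 := by
        by_contra hlt
        have := Nat.mul_le_mul_left ((q + 1) / 2) (show 2 ≤ c by omega)
        omega
      interval_cases c <;> omega
    rintro a (rfl | rfl | rfl | rfl) b (rfl | rfl | rfl | rfl) hab <;>
      first
      | rfl
      | omega
      | exact absurd hab hA
      | exact absurd hab hB
      | (exfalso; have := Nat.le_of_dvd (by omega) hab; omega)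
  ext n
  constructor
  · rintro ⟨⟨w, rfl⟩, hmax⟩
    simp only [Set.mem_insert_iff, Set.mem_singleton_iff]
    rcases hb w with h | h | h | h
    · exact Or.inl (hmax 6 ⟨w6, h6⟩ h).symm
    · exact Or.inr (Or.inl (hmax 9 ⟨w9, h9⟩ h).symm)
    · exact Or.inr (Or.inr (Or.inl (hmax _ ⟨wm, hm⟩ h).symm))
    · exact Or.inr (Or.inr (Or.inr (hmax _ ⟨wp, hp⟩ h).symm))
  · intro hn
    refine ⟨?_, ?_⟩
    · rcases hn with rfl | rfl | rfl | rfl
      exacts [⟨w6, h6⟩, ⟨w9, h9⟩, ⟨wm, hm⟩, ⟨wp, hp⟩]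
    · rintro m ⟨w, rfl⟩ hnm
      obtain ⟨a, ha, hwa⟩ : ∃ a ∈ ({6, 9, q - 1, (q + 1) / 2} : Set ℕ), orderOf w ∣ a := by
        rcases hb w with h | h | h | h
        exacts [⟨6, by simp, h⟩, ⟨9, by simp, h⟩, ⟨q - 1, by simp, h⟩, ⟨(q + 1) / 2, by simp, h⟩]
      have := key n hn a ha (hnm.trans hwa)
      subst this
      exact Nat.dvd_antisymm hwa hnm

end Cfsg.Agent.S2515
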