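import Cfsg.Statements.S2516

set_option autoImplicit false
open Cfsg

namespace Cfsg.Agent.S2516

/-- Let F be a field of characteristic p > 0, V a non-zero finite-dimensional F-vector space, G a finite group and ρ a representation of G on V; form the semidirect product V ⋊ G. For g ∈ G of order k, the coset Vg contains an element of order pk if and only if the minimal polynomial of ρ(g) does not divide 1 + X + ⋯ + X^(k−1). -/
theorem result {F : Type*} [Field F] (p : ℕ) [Fact p.Prime] [CharP F p] {V : Type*} [AddCommGroup V] [Module F V] [FiniteDimensional F V] [Nontrivial V]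
    {G : Type*} [Group G] [Finite G] (ρ : Representation F G V) (g : G) :
    (∃ x : Multiplicative V ⋊[(MulAutMultiplicative V).symm.toMonoidHom.comp
        ((DistribMulAction.toAddAut ((V →ₗ[F] V)ˣ) V).comp ρ.asGroupHom)] G,
        x.right = g ∧ orderOf x = p * orderOf g) ↔
      ¬ (minpoly F (ρ g) ∣ ∑ i ∈ Finset.range (orderOf g), (Polynomial.X : Polynomial F) ^ i) := by
  classical
  have hk : 0 < orderOf g := orderOf_pos g
  have hp := (Fact.out : p.Prime)
  set k := orderOf g with hkdef
  set S : V →ₗ[F] V := ∑ i ∈ Finset.range k, (ρ g) ^ i with hS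
  have hmin : minpoly F (ρ g) ∣ ∑ i ∈ Finset.range k, (Polynomial.X : Polynomial F) ^ i ↔ S = 0 := by
    rw [minpoly.dvd_iff, map_sum]
    simp [hS]
  rw [hmin]
  have hleft : ∀ (v : V) (m : ℕ),
      ((SemidirectProduct.mk (Multiplicative.ofAdd v) g :
        Multiplicative V ⋊[(MulAutMultiplicative V).symm.toMonoidHom.comp
          ((DistribMulAction.toAddAut ((V →ₗ[F] V)ˣ) V).comp ρ.asGroupHom)] G) ^ m) =
        SemidirectProduct.mk (Multiplicative.ofAdd (∑ i ∈ Finset.range m, ((ρ g) ^ i) v)) (g ^ m) := by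
    intro v m
    induction m with
    | zero => simp; rfl
    | succ m ih =>
      rw [pow_succ, ih]
      refine SemidirectProduct.ext ?_ (by rw [SemidirectProduct.mul_right, pow_succ])
      rw [SemidirectProduct.mul_left]
      apply Multiplicative.toAdd.injective
      rw [Finset.sum_range_succ, ← map_pow]
      rfl
  have hpow : ∀ v : V, ((SemidirectProduct.mk (Multiplicative.ofAdd v) g :
        Multiplicative V ⋊[(MulAutMultiplicative V).symm.toMonoidHom.comp
          ((DistribMulAction.toAddAut ((V →ₗ[F] V)ˣ) V).comp ρ.asGroupHom)] G) ^ k) =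
      SemidirectProduct.inl (Multiplicative.ofAdd (S v)) := by
    intro v
    rw [hleft, hkdef, pow_orderOf_eq_one, hS, LinearMap.sum_apply]
    rfl
  have hord : ∀ v : V, orderOf (SemidirectProduct.mk (Multiplicative.ofAdd v) g :
        Multiplicative V ⋊[(MulAutMultiplicative V).symm.toMonoidHom.comp
          ((DistribMulAction.toAddAut ((V →ₗ[F] V)ˣ) V).comp ρ.asGroupHom)] G) =
      k * orderOf (Multiplicative.ofAdd (S v)) := by
    intro v
    set x : Multiplicative V ⋊[(MulAutMultiplicative V).symm.toMonoidHom.comp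
          ((DistribMulAction.toAddAut ((V →ₗ[F] V)ˣ) V).comp ρ.asGroupHom)] G :=
      SemidirectProduct.mk (Multiplicative.ofAdd v) g
    have hdvd : k ∣ orderOf x := orderOf_map_dvd SemidirectProduct.rightHom x
    have e := congrArg orderOf (hpow v)
    rw [orderOf_injective SemidirectProduct.inl SemidirectProduct.inl_injective] at e
    rw [← e, orderOf_pow' x hk.ne', Nat.gcd_eq_right hdvd, Nat.mul_div_cancel' hdvd]
  have hexp : ∀ w : V, orderOf (Multiplicative.ofAdd w) ∣ p := fun w => by
    apply orderOf_dvd_of_pow_eq_one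
    rw [← ofAdd_nsmul, ← Nat.cast_smul_eq_nsmul F, CharP.cast_eq_zero, zero_smul, ofAdd_zero]
  constructor
  · rintro ⟨⟨v, g'⟩, hg', hx⟩ h0
    obtain rfl : g' = g := hg'
    obtain ⟨w, rfl⟩ : ∃ w, Multiplicative.ofAdd w = v := ⟨v.toAdd, rfl⟩
    rw [hord, h0, LinearMap.zero_apply, ofAdd_zero, orderOf_one, mul_one] at hx
    exact absurd hx (by nlinarith [hp.two_le])
  · intro hne
    obtain ⟨v, hv⟩ : ∃ v, S v ≠ 0 := by
      by_contra h
      exact hne (LinearMap.ext fun v => not_not.1 fun h' => h ⟨v, h'⟩)
    refine ⟨SemidirectProduct.mk (Multiplicative.ofAdd v) g, rfl, ?_⟩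
    rw [hord, ((Nat.dvd_prime hp).1 (hexp (S v))).resolve_left (by simpa [orderOf_eq_one_iff] using hv),
      mul_comm]

end Cfsg.Agent.S2516
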