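import Cfsg.Statements.S2517
import Cfsg.Agent.Lib.Classical.OrthSpectrumNine.Main
import Cfsg.Agent.Lib.Classical.PrimeGraphBC

set_option autoImplicit false
open Cfsg

namespace Cfsg.Agent.S2517

/-- Let F be a finite field of odd order q, let Ω₉ be the simple orthogonal group PΩ(9, F), and let Ω₈⁻ be the commutator subgroup of the isometry group of a minus-type non-singular quadratic form on V = F⁸ (the simple group PΩ⁻(8, F), acting on its natural module V). Then Ω₉ and the semidirect product V ⋊ Ω₈⁻ have exactly the same set of element orders. -/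
theorem result {F : Type*} [Field F] [Fintype F] (hF : Odd (Fintype.card F)) (a b : F)
    (hab : ∀ z₁ z₂ : F, z₁ ^ 2 + a * z₁ * z₂ + b * z₂ ^ 2 = 0 → z₁ = 0 ∧ z₂ = 0) :
    Set.range (orderOf : Cfsg.POmega F (Cfsg.quadFormOdd 4 F) → ℕ) =
      Set.range (orderOf :
        (Multiplicative (((Fin 3 ⊕ Fin 3) ⊕ Fin 2) → F)) ⋊[
          (MulAutMultiplicative (((Fin 3 ⊕ Fin 3) ⊕ Fin 2) → F)).symm.toMonoidHom.comp
           ((DistribMulAction.toAddAut (LinearMap.GeneralLinearGroup F (((Fin 3 ⊕ Fin 3) ⊕ Fin 2) → F))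
              (((Fin 3 ⊕ Fin 3) ⊕ Fin 2) → F)).comp
            (Matrix.GeneralLinearGroup.toLin.toMonoidHom.comp
              ((Cfsg.isometryGroup F (Cfsg.quadFormMinus 3 F a b)).subtype.comp
                (Cfsg.Omega F (Cfsg.quadFormMinus 3 F a b)).subtype)))]
          ↥(Cfsg.Omega F (Cfsg.quadFormMinus 3 F a b)) → ℕ) := by
  classical
  obtain ⟨p, hpc⟩ := CharP.exists F
  haveI := hpc
  obtain ⟨f₀, hp, hcard⟩ := FiniteField.card F p
  haveI : Fact p.Prime := ⟨hp⟩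
  have h2 : (2 : F) ≠ 0 := fun h => by
    have h' : ((2 : ℕ) : F) = 0 := h
    rw [CharP.cast_eq_zero_iff F p, Nat.prime_dvd_prime_iff_eq hp Nat.prime_two] at h'
    subst h'
    rw [hcard] at hF
    exact Nat.not_even_iff_odd.2 hF (even_iff_two_dvd.2 (dvd_pow_self 2 f₀.ne_zero))
  set Q := CfsgLib.Orth.oddForm F 4
  set R := CfsgLib.Orth.minusForm F 3 a b
  have hQ := CfsgLib.Orth.oddForm_nondeg (F := F) 4 h2
  have hR := CfsgLib.Orth.minusForm_nondeg (F := F) 3 a b hab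
  have hV : Module.finrank F (Unit ⊕ (Fin 4 ⊕ Fin 4) → F) = 9 := by simp
  have hW : Module.finrank F (((Fin 3 ⊕ Fin 3) ⊕ Fin 2) → F) = 8 := by simp
  have hM : ¬ CfsgLib.Derangements.OrthInv.PlusOn R ⊤ := by
    rw [CfsgLib.Derangements.OrthInv.plusOn_top_iff (d := 4) (by rw [hW])]
    exact CfsgLib.Derangements.EvenForms.not_plus_minusForm (k := 3) hab
  let T := CfsgLib.Orth.toOrth R (CfsgLib.Orth.minusForm_apply (F := F) 3 a b)
  let ρ : ↥(Cfsg.Omega F (Cfsg.quadFormMinus 3 F a b)) →* Module.End F (((Fin 3 ⊕ Fin 3) ⊕ Fin 2) → F) :=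
    { toFun := fun g => ((T g.1).1 : _ →ₗ[F] _)
      map_one' := by rw [Subgroup.coe_one, map_one]; rfl
      map_mul' := fun g h => by rw [Subgroup.coe_mul, map_mul]; rfl }
  let x₀ := fun (v : ((Fin 3 ⊕ Fin 3) ⊕ Fin 2) → F) (g : ↥(Cfsg.Omega F (Cfsg.quadFormMinus 3 F a b))) =>
    (⟨Multiplicative.ofAdd v, g⟩ :
      (Multiplicative (((Fin 3 ⊕ Fin 3) ⊕ Fin 2) → F)) ⋊[
          (MulAutMultiplicative (((Fin 3 ⊕ Fin 3) ⊕ Fin 2) → F)).symm.toMonoidHom.comp
           ((DistribMulAction.toAddAut (LinearMap.GeneralLinearGroup F (((Fin 3 ⊕ Fin 3) ⊕ Fin 2) → F))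
              (((Fin 3 ⊕ Fin 3) ⊕ Fin 2) → F)).comp
            (Matrix.GeneralLinearGroup.toLin.toMonoidHom.comp
              ((Cfsg.isometryGroup F (Cfsg.quadFormMinus 3 F a b)).subtype.comp
                (Cfsg.Omega F (Cfsg.quadFormMinus 3 F a b)).subtype)))]
          ↥(Cfsg.Omega F (Cfsg.quadFormMinus 3 F a b)))
  ext d
  constructor
  · intro hd
    obtain ⟨g, hg, rfl⟩ := (CfsgLib.Classical.PrimeGraphBC.pomega_range h2 (by norm_num)).1 hd
    obtain ⟨h, v, hh, hv⟩ := CfsgLib.OrthSpecNine.down p hQ hR h2 hV hW hM g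
      ((CfsgLib.OrthSpecNine.chi_eq_one_iff hQ h2 g).2 hg)
    have hmem : T.symm h ∈ Cfsg.Omega F (Cfsg.quadFormMinus 3 F a b) := by
      rw [CfsgLib.Orth.mem_Omega_iff R (CfsgLib.Orth.minusForm_apply (F := F) 3 a b)]
      show T (T.symm h) ∈ _
      rw [T.apply_symm_apply]
      exact (CfsgLib.OrthSpecNine.chi_eq_one_iff hR h2 h).1 hh
    set x := x₀ v ⟨T.symm h, hmem⟩
    haveI : Finite (Multiplicative (((Fin 3 ⊕ Fin 3) ⊕ Fin 2) → F) ×
        ↥(Cfsg.Omega F (Cfsg.quadFormMinus 3 F a b))) := inferInstance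
    suffices orderOf g ∣ orderOf x by
      exact @CfsgLib.OrthSpecNine.exists_pow_orderOf _ _ (Finite.of_equiv _ SemidirectProduct.equivProd.symm) x _ this
    obtain ⟨h1, h3⟩ := (CfsgLib.OrthSpecNine.semidirect_pow_eq_one _ ρ (fun _ _ => rfl) x (orderOf x)).1
      (pow_orderOf_eq_one x)
    have h4 : h ^ orderOf x = 1 := by
      have := congrArg (fun y : ↥(Cfsg.Omega F (Cfsg.quadFormMinus 3 F a b)) => T y.1) h1
      simpa [x, x₀] using this
    refine hv _ h4 (Eq.trans (Finset.sum_congr rfl fun i _ => ?_) h3)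
    rw [CfsgLib.OrthSpecNine.coe_pow_apply]
    simp [x, x₀, ρ]
  · rintro ⟨x, rfl⟩
    have hh : CfsgLib.OrthSpecNine.chi R (T x.right.1) = 1 :=
      (CfsgLib.OrthSpecNine.chi_eq_one_iff hR h2 _).2
        ((CfsgLib.Orth.mem_Omega_iff R (CfsgLib.Orth.minusForm_apply (F := F) 3 a b) x.right.1).1 x.right.2)
    obtain ⟨g, hg, hv⟩ := CfsgLib.OrthSpecNine.up p hQ hR h2 hV hW (T x.right.1) hh x.left.toAdd
    haveI := CfsgLib.OrthSpecNine.isFinite_orth Q
    obtain ⟨h1, h3⟩ := hv (orderOf g) (pow_orderOf_eq_one g)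
    have hdvd : orderOf x ∣ orderOf g := orderOf_dvd_of_pow_eq_one <|
      (CfsgLib.OrthSpecNine.semidirect_pow_eq_one _ ρ (fun _ _ => rfl) x _).2
        ⟨Subtype.ext (T.injective (by rw [Subgroup.coe_pow, map_pow, h1, Subgroup.coe_one, map_one])),
          Eq.trans (Finset.sum_congr rfl fun i _ => (CfsgLib.OrthSpecNine.coe_pow_apply _ i _).symm) h3⟩
    obtain ⟨y, hy⟩ := CfsgLib.OrthSpecNine.exists_pow_orderOf (n := orderOf x)
      (⟨g, (CfsgLib.OrthSpecNine.chi_eq_one_iff hQ h2 g).1 hg⟩ : ↥(commutator (CfsgLib.Orth.orthGroup Q)))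
      (by rw [← Subgroup.orderOf_coe]; exact hdvd)
    exact (CfsgLib.Classical.PrimeGraphBC.pomega_range h2 (by norm_num)).2
      ⟨y.1, y.2, by rw [Subgroup.orderOf_coe, hy]⟩

end Cfsg.Agent.S2517
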