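import Cfsg.Statements.S2518
import Cfsg.Agent.Lib.KnownC.G2Three.Main
import Cfsg.Agent.Lib.KnownA.SL2Products.Orders
import Cfsg.Agent.Lib.Classical.SLOrders
import Mathlib.Algebra.CharP.Lemmas

set_option autoImplicit false
open Cfsg

namespace Cfsg.Agent.S2518

open CfsgLib.KnownC.G2Three Cfsg.Lie

theorem xMat_map {F K : Type*} [Field F] [Field K] (φ : F →+* K) (D : ChevalleyDatum) (r : Fin D.nroots) (t : F) :
    (D.xMat F r t).map φ = D.xMat K r (φ t) := by
  ext i j
  rcases i with i | u <;> rcases j with j | s <;>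
    simp [ChevalleyDatum.xMat, apply_ite φ, map_list_sum, List.map_map, Function.comp_def]
  all_goals (split_ifs <;> simp)

/-- Isomorphic fields give isomorphic groups. -/
theorem group_equiv {F K : Type*} [Field F] [Field K] (φ : F ≃+* K) (D : ChevalleyDatum) :
    Nonempty (↥(D.group F) ≃* ↥(D.group K)) := by
  let ψ : GL D.Idx F ≃* GL D.Idx K := Units.mapEquiv φ.mapMatrix.toMulEquiv
  have hψ : ∀ g : GL D.Idx F, (ψ g : Matrix D.Idx D.Idx K) = (g : Matrix D.Idx D.Idx F).map φ := fun _ => rfl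
  have hmap : (D.group F).map ψ.toMonoidHom = D.group K := by
    rw [ChevalleyDatum.group, ChevalleyDatum.group, MonoidHom.map_closure]
    congr 1
    ext g
    constructor
    · rintro ⟨x, ⟨r, t, h⟩, rfl⟩
      exact ⟨r, φ t, (hψ x).trans (by rw [h]; exact xMat_map φ.toRingHom D r t)⟩
    · rintro ⟨r, t, h⟩
      refine ⟨ψ.symm g, ⟨r, φ.symm t, ?_⟩, ψ.apply_symm_apply g⟩
      show (g : Matrix D.Idx D.Idx K).map φ.symm = _
      rw [h]
      exact xMat_map φ.symm.toRingHom D r t
  exact ⟨(ψ.subgroupMap _).trans (MulEquiv.subgroupCongr hmap)⟩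

/-- A prime element with cyclic centraliser, of a prime dividing the order once, is in no larger cyclic group. -/
theorem no_order {G : Type*} [Group G] [Finite G] {p r : ℕ} (hp : p.Prime) (hr : r.Prime) (hpr : p ≠ r) {x : G}
    (hx : orderOf x = p) (h1 : ¬ p ^ 2 ∣ Nat.card G) (hc : ∀ y, Commute y x → ∃ k : ℕ, y = x ^ k) :
    ¬ ∃ y : G, orderOf y = p * r := by
  haveI := Fact.mk hp
  rintro ⟨y, hy⟩
  have hyr : orderOf (y ^ r) = p := by
    rw [orderOf_pow_of_dvd hr.ne_zero (by rw [hy]; exact dvd_mul_left r p), hy, Nat.mul_div_cancel _ hr.pos]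
  have hfac : (Nat.card G).factorization p = 1 := by
    refine le_antisymm ?_ (hp.factorization_pos_of_dvd Nat.card_pos.ne' (hx ▸ orderOf_dvd_natCard x))
    by_contra hcon
    exact h1 ((hp.pow_dvd_iff_le_factorization Nat.card_pos.ne').2 (by omega))
  let P : Sylow p G := Sylow.ofCard (Subgroup.zpowers x) (by rw [Nat.card_zpowers, hx, hfac, pow_one])
  let Q : Sylow p G := Sylow.ofCard (Subgroup.zpowers (y ^ r)) (by rw [Nat.card_zpowers, hyr, hfac, pow_one])
  obtain ⟨g, hg⟩ := MulAction.exists_smul_eq G Q P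
  have hmem : x ∈ ((g • Q : Sylow p G) : Subgroup G) := by rw [hg]; exact Subgroup.mem_zpowers x
  rw [Sylow.coe_subgroup_smul, Subgroup.mem_smul_pointwise_iff_exists] at hmem
  obtain ⟨z, hz, hzx⟩ := hmem
  obtain ⟨m, rfl⟩ := Subgroup.mem_zpowers_iff.1 hz
  have hzx' : g * (y ^ r) ^ m * g⁻¹ = x := by
    rw [← hzx, MulAut.smul_def, MulAut.conj_apply]
  obtain ⟨k, hk⟩ := hc (g * y * g⁻¹) (by
    rw [← hzx']
    have : Commute y ((y ^ r) ^ m) := ((Commute.refl y).pow_right r).zpow_right m
    simpa [MulAut.conj_apply] using this.map (MulAut.conj g))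
  have h2 : orderOf (g * y * g⁻¹) ∣ p := hk ▸ (orderOf_pow_dvd k).trans hx.dvd
  rw [← MulAut.conj_apply, MulEquiv.orderOf_eq, hy] at h2
  have h3 : r ∣ p := (dvd_mul_left r p).trans h2
  exact hpr ((Nat.prime_dvd_prime_iff_eq hr hp).1 h3).symm

theorem primes_of {n a b c d : ℕ} (ha : 0 < a) (hb : 0 < b) (hn : n = 2 ^ a * 3 ^ b * 7 ^ c * 13 ^ d) (hc : 0 < c)
    (hd : 0 < d) {r : ℕ} (hr : r.Prime) : r ∣ n ↔ r = 2 ∨ r = 3 ∨ r = 7 ∨ r = 13 := by
  subst hn
  constructor
  · intro h
    rcases (hr.dvd_mul).1 h with h | h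
    rcases (hr.dvd_mul).1 h with h | h
    rcases (hr.dvd_mul).1 h with h | h
    · exact Or.inl ((Nat.prime_dvd_prime_iff_eq hr (by norm_num)).1 (hr.dvd_of_dvd_pow h))
    · exact Or.inr (Or.inl ((Nat.prime_dvd_prime_iff_eq hr (by norm_num)).1 (hr.dvd_of_dvd_pow h)))
    · exact Or.inr (Or.inr (Or.inl ((Nat.prime_dvd_prime_iff_eq hr (by norm_num)).1 (hr.dvd_of_dvd_pow h))))
    · exact Or.inr (Or.inr (Or.inr ((Nat.prime_dvd_prime_iff_eq hr (by norm_num)).1 (hr.dvd_of_dvd_pow h))))
  · rintro (rfl | rfl | rfl | rfl)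
    · exact (((dvd_pow_self 2 ha.ne').mul_right _).mul_right _).mul_right _
    · exact (((dvd_pow_self 3 hb.ne').mul_left _).mul_right _).mul_right _
    · exact ((dvd_pow_self 7 hc.ne').mul_left _).mul_right _
    · exact (dvd_pow_self 13 hd.ne').mul_left _

/-- The edges of the prime graph of `G₂(3)`. -/
theorem g23_edge {r s : ℕ} (hr : r.Prime) (hs : s.Prime) (hrs : r ≠ s) :
    (∃ x : G23, orderOf x = r * s) ↔ r * s = 6 := by
  constructor
  · rintro ⟨x, hx⟩
    have hd : r * s ∣ Nat.card G23 := hx ▸ orderOf_dvd_natCard x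
    have hP : ∀ t : ℕ, t.Prime → t ∣ r * s → t = 2 ∨ t = 3 := by
      intro t ht htd
      rcases (primes_of (n := Nat.card G23) (a := 6) (b := 6) (c := 1) (d := 1) (by norm_num) (by norm_num)
        (by rw [card]; norm_num) (by norm_num) (by norm_num) ht).1 (htd.trans hd) with h | h | h | h
      · exact Or.inl h
      · exact Or.inr h
      all_goals
        exfalso
        obtain ⟨u, hu, hut, hmul⟩ : ∃ u, u.Prime ∧ t ≠ u ∧ r * s = t * u := by
          rcases (Nat.Prime.dvd_mul ht).1 htd with h' | h'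
          · obtain rfl := (Nat.prime_dvd_prime_iff_eq ht hr).1 h'
            exact ⟨s, hs, hrs, rfl⟩
          · obtain rfl := (Nat.prime_dvd_prime_iff_eq ht hs).1 h'
            exact ⟨r, hr, Ne.symm hrs, mul_comm _ _⟩
        subst h
      · exact no_order ht hu hut orderOf_seven (by rw [card]; norm_num) (fun y hy => seven_commute hy)
          ⟨x, hx.trans hmul⟩
      · exact no_order ht hu hut orderOf_thirteen (by rw [card]; norm_num) (fun y hy => thirteen_commute hy)
          ⟨x, hx.trans hmul⟩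
    rcases hP r hr (dvd_mul_right r s) with rfl | rfl <;> rcases hP s hs (dvd_mul_left s _) with rfl | rfl <;> omega
  · exact fun h => ⟨six, orderOf_six.trans h.symm⟩

/-- Let F₃ be the field with 3 elements and F₁₃ the field with 13 elements. The Chevalley group G₂(F₃) and PSL(2, F₁₃) have the same prime graph: the same prime divisors of their orders, and for distinct primes r, s an element of order rs in one iff in the other. -/
theorem result {F : Type*} [Field F] [Fintype F] (hF : Fintype.card F = 3) {E : Type*} [Field E] [Fintype E] (hE : Fintype.card E = 13) :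
    ((∀ r : ℕ, r.Prime → (r ∣ Nat.card ↥(Cfsg.Lie.chevG2.group F) ↔ r ∣ Nat.card (Matrix.ProjectiveSpecialLinearGroup (Fin 2) E))) ∧
      (∀ r s : ℕ, r.Prime → s.Prime → r ≠ s → ((∃ x : ↥(Cfsg.Lie.chevG2.group F), orderOf x = r * s) ↔ (∃ y : (Matrix.ProjectiveSpecialLinearGroup (Fin 2) E), orderOf y = r * s)))) := by
  classical
  obtain ⟨e⟩ := group_equiv (ZMod.ringEquivOfPrime F (by norm_num : Nat.Prime 3) hF) chevG2
  haveI : Fact (Nat.Prime 13) := ⟨by norm_num⟩
  haveI : CharP E 13 := charP_of_card_eq_prime hE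
  have hcE : Nat.card (Matrix.ProjectiveSpecialLinearGroup (Fin 2) E) = 1092 := by
    have h1 := CfsgLib.Classical.card_psl_mul hE 2 (by norm_num)
    have h2 := CfsgLib.Classical.card_sl_mul hE 2 (by norm_num)
    rw [Fin.prod_univ_two, Fin.val_zero, Fin.val_one, show (13 ^ 2 - 13 ^ 0) * (13 ^ 2 - 13 ^ 1) = 26208 from rfl] at h2
    rw [show Nat.gcd 2 (13 - 1) = 2 from rfl] at h1
    omega
  have hrange := CfsgLib.KnownA.SL2Products.orders_psl (F := E) 13 (by omega)
  refine ⟨fun r hr => ?_, fun r s hr hs hrs => ?_⟩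
  · rw [← Nat.card_congr e.toEquiv,
      primes_of (n := Nat.card G23) (a := 6) (b := 6) (c := 1) (d := 1) (by norm_num) (by norm_num)
        (by rw [card]; norm_num) (by norm_num) (by norm_num) hr,
      primes_of (n := Nat.card (Matrix.ProjectiveSpecialLinearGroup (Fin 2) E)) (a := 2) (b := 1) (c := 1) (d := 1)
        (by norm_num) (by norm_num) (by rw [hcE]; norm_num) (by norm_num) (by norm_num) hr]
  · have hG : (∃ x : ↥(chevG2.group F), orderOf x = r * s) ↔ r * s = 6 := by
      rw [← g23_edge hr hs hrs]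
      exact ⟨fun ⟨x, hx⟩ => ⟨e.symm x, (MulEquiv.orderOf_eq e.symm x).trans hx⟩,
        fun ⟨x, hx⟩ => ⟨e x, (MulEquiv.orderOf_eq e x).trans hx⟩⟩
    rw [hG]
    have h2 := hr.two_le
    have h3 := hs.two_le
    constructor
    · intro h
      have hm : r * s ∈ Set.range (orderOf : Matrix.ProjectiveSpecialLinearGroup (Fin 2) E → ℕ) := by
        rw [hrange, hE, h]; decide
      exact hm
    · rintro ⟨y, hy⟩
      have hm : r * s ∈ Set.range (orderOf : Matrix.ProjectiveSpecialLinearGroup (Fin 2) E → ℕ) := ⟨y, hy⟩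
      rw [hrange, hE] at hm
      have hnp : ¬ (r * s).Prime := Nat.not_prime_mul hr.ne_one hs.ne_one
      have key : r * s ∣ 13 ∨ r * s ∣ 6 ∨ r * s ∣ 7 := by simpa using hm
      have h4 : 4 ≤ r * s := Nat.mul_le_mul h2 h3
      rcases key with h | h | h
      · rcases (Nat.dvd_prime (by norm_num)).1 h with h | h
        · omega
        · exact absurd (h ▸ (by norm_num : Nat.Prime 13)) hnp
      · have := Nat.le_of_dvd (by norm_num) h
        obtain ⟨k, hk⟩ := h
        rcases k with _ | _ | k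
        · omega
        · omega
        · nlinarith
      · rcases (Nat.dvd_prime (by norm_num)).1 h with h | h
        · omega
        · exact absurd (h ▸ (by norm_num : Nat.Prime 7)) hnp

end Cfsg.Agent.S2518
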