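import Cfsg.Statements.S2519
import Cfsg.Agent.Lib.Chevalley.G2OddOrders.Exists

set_option autoImplicit false
open Cfsg CfsgLib.Chevalley

namespace Cfsg.Agent.S2519

/-- Let F be a finite field of odd order q = p^a ≥ 5. The element orders of the Chevalley group G₂(F) that are maximal under divisibility are exactly p(q + 1), p(q − 1), q² − 1, q² + q + 1, q² − q + 1, together with p² when p is 3 or 5. -/
theorem result {F : Type*} [Field F] [Fintype F] (p a : ℕ) (hp : p.Prime) (hp2 : p ≠ 2) (ha : 1 ≤ a) (hF : Fintype.card F = p ^ a) (hq5 : 5 ≤ Fintype.card F) :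
    {n : ℕ | n ∈ Set.range (orderOf : ↥(Cfsg.Lie.chevG2.group F) → ℕ) ∧ ∀ m ∈ Set.range (orderOf : ↥(Cfsg.Lie.chevG2.group F) → ℕ), n ∣ m → m = n} =
      ({p * (p ^ a + 1), p * (p ^ a - 1), p ^ (2 * a) - 1, p ^ (2 * a) + p ^ a + 1, p ^ (2 * a) - p ^ a + 1} : Set ℕ) ∪
        (if p = 3 ∨ p = 5 then ({p ^ 2} : Set ℕ) else ∅) := by
  classical
  have : Fact p.Prime := ⟨hp⟩
  have hc : CharP F p := by
    obtain ⟨r, hr⟩ := CharP.exists F
    obtain ⟨d, hrp, hd⟩ := FiniteField.card F r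
    rw [hF] at hd
    have h2 : r ∣ p ^ a := hd ▸ dvd_pow_self r d.2.ne'
    rwa [(Nat.prime_dvd_prime_iff_eq hrp hp).1 (hrp.dvd_of_dvd_pow h2)] at hr
  have hqa : p ^ (2 * a) = (p ^ a) ^ 2 := by rw [← pow_mul, mul_comm]
  rw [hF] at hq5
  rw [hqa, ← Data.G2.datum_eq]
  have hp3 : 3 ≤ p := by
    have := hp.two_le
    omega
  have hpq : p ∣ p ^ a := dvd_pow_self p (by omega)
  have hpodd : Odd (p ^ a) := (hp.odd_of_ne_two hp2).pow
  set q := p ^ a with hq
  have hple : p ≤ q := Nat.le_of_dvd (by omega) hpq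
  have hqq : q * 5 ≤ q ^ 2 := by rw [pow_two]; exact Nat.mul_le_mul_left q hq5
  -- coprimality to `p`
  have hnd1 : ∀ {x : ℕ}, p ∣ x → p ∣ x + 1 → False := fun {x} h1 h2 =>
    hp.ne_one (Nat.dvd_one.1 ((Nat.dvd_add_right h1).1 h2))
  have hpq2 : p ∣ q ^ 2 := hpq.trans (dvd_pow_self q two_ne_zero)
  have hcq1 : ¬ p ∣ q + 1 := hnd1 hpq
  have hcq2 : ¬ p ∣ q - 1 := fun h => hnd1 h (by rwa [Nat.sub_add_cancel (by omega)])
  set R : ℕ → Prop := fun k => k = q + 1 ∨ k = q - 1 ∨ (k = p ∧ (p = 3 ∨ p = 5)) with hR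
  set S : ℕ → Prop := fun n => n = q ^ 2 - 1 ∨ n = q ^ 2 + q + 1 ∨ n = q ^ 2 - q + 1 with hS
  have hSp : ∀ n, S n → ¬ p ∣ n := by
    rintro n (rfl | rfl | rfl) h
    · exact hnd1 h (by rwa [Nat.sub_add_cancel (by omega)])
    · exact hnd1 (dvd_add hpq2 hpq) h
    · exact hnd1 (Nat.dvd_sub hpq2 hpq) h
  have hSb : ∀ n, S n → q + 1 < n ∧ q ^ 2 - q + 1 ≤ n ∧ n ≤ q ^ 2 + q + 1 := by
    rintro n (rfl | rfl | rfl) <;> refine ⟨?_, ?_, ?_⟩ <;> omega
  have hset : ∀ n : ℕ, n ∈ (({p * (q + 1), p * (q - 1), q ^ 2 - 1, q ^ 2 + q + 1, q ^ 2 - q + 1} : Set ℕ) ∪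
      (if p = 3 ∨ p = 5 then ({p ^ 2} : Set ℕ) else ∅)) ↔ ((∃ k, n = p * k ∧ R k) ∨ S n) := by
    intro n
    simp only [Set.mem_union, Set.mem_insert_iff, Set.mem_singleton_iff, hR, hS]
    by_cases h35 : p = 3 ∨ p = 5
    · rw [if_pos h35]
      simp only [Set.mem_singleton_iff, h35, and_true]
      constructor
      · rintro ((h | h | h) | h)
        exacts [Or.inl ⟨_, h, Or.inl rfl⟩, Or.inl ⟨_, h, Or.inr (Or.inl rfl)⟩, Or.inr h,
          Or.inl ⟨p, by rw [h, pow_two], Or.inr (Or.inr rfl)⟩]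
      · rintro (⟨k, h, rfl | rfl | rfl⟩ | h)
        exacts [Or.inl (Or.inl h), Or.inl (Or.inr (Or.inl h)), Or.inr (by rw [h, pow_two]),
          Or.inl (Or.inr (Or.inr h))]
    · rw [if_neg h35]
      simp only [Set.mem_empty_iff_false, h35, and_false, or_false]
      constructor
      · rintro (h | h | h)
        exacts [Or.inl ⟨_, h, Or.inl rfl⟩, Or.inl ⟨_, h, Or.inr rfl⟩, Or.inr h]
      · rintro (⟨k, h, rfl | rfl⟩ | h)
        exacts [Or.inl h, Or.inr (Or.inl h), Or.inr (Or.inr h)]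
  -- the members are element orders
  have hsub : ∀ n : ℕ, ((∃ k, n = p * k ∧ R k) ∨ S n) →
      n ∈ Set.range (orderOf : ↥((Data.G2.tbl).datum.group F) → ℕ) := by
    intro n hn
    suffices h : ∃ g ∈ (Data.G2.tbl).datum.group F, orderOf g = n by
      obtain ⟨g, hg, ho⟩ := h
      exact ⟨⟨g, hg⟩, (Subgroup.orderOf_coe (⟨g, hg⟩ : ↥((Data.G2.tbl).datum.group F))).symm.trans ho⟩
    have hex := G2OddOrders.exists_orders (F := F) hp2 hF hq5
    rcases hn with ⟨k, rfl, rfl | rfl | ⟨rfl, h35⟩⟩ | rfl | rfl | rfl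
    · exact hex _ (by simp)
    · exact hex _ (by simp)
    · obtain ⟨g, hg, ho⟩ := G2OddOrders.exists_sq (F := F) h35
      exact ⟨g, hg, ho.trans (pow_two _)⟩
    · exact hex _ (by simp)
    · exact hex _ (by simp)
    · exact hex _ (by simp)
  -- no member divides another one
  have hkey : ∀ n d : ℕ, ((∃ k, n = p * k ∧ R k) ∨ S n) → ((∃ k, d = p * k ∧ R k) ∨ S d) →
      n ∣ d → n = d := by
    intro n d hn hd hnd
    rcases hn with ⟨k, rfl, hk⟩ | hn <;> rcases hd with ⟨l, rfl, hl⟩ | hd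
    · have hkl : k ∣ l := (Nat.mul_dvd_mul_iff_left hp.pos).1 hnd
      congr 1
      rcases hk with rfl | rfl | ⟨hkp, -⟩ <;> rcases hl with rfl | rfl | ⟨hlp, -⟩
      · rfl
      · exact absurd (Nat.le_of_dvd (by omega) hkl) (by omega)
      · rcases (Nat.dvd_prime hp).1 (hlp ▸ hkl) with h | h
        · omega
        · exact absurd (h ▸ dvd_refl p) hcq1
      · have h2 := Nat.dvd_sub hkl (dvd_refl (q - 1))
        rw [show q + 1 - (q - 1) = 2 by omega] at h2
        exact absurd (Nat.le_of_dvd two_pos h2) (by omega)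
      · rfl
      · rcases (Nat.dvd_prime hp).1 (hlp ▸ hkl) with h | h
        · omega
        · exact absurd (h ▸ dvd_refl p) hcq2
      · exact absurd (hkp ▸ hkl) hcq1
      · exact absurd (hkp ▸ hkl) hcq2
      · rw [hkp, hlp]
    · exact absurd ((dvd_mul_right p k).trans hnd) (hSp d hd)
    · obtain ⟨hb, -, -⟩ := hSb n hn
      have hnl : n ∣ l := ((hp.coprime_iff_not_dvd.2 (hSp n hn)).symm).dvd_of_dvd_mul_left hnd
      have := Nat.le_of_dvd (by rcases hl with rfl | rfl | ⟨rfl, -⟩ <;> omega) hnl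
      rcases hl with rfl | rfl | ⟨rfl, -⟩ <;> omega
    · obtain ⟨-, hn1, hn2⟩ := hSb n hn
      obtain ⟨-, hd1, hd2⟩ := hSb d hd
      obtain ⟨c, hcd⟩ := hnd
      rcases (show c = 0 ∨ c = 1 ∨ 2 ≤ c by omega) with rfl | rfl | hc2
      · omega
      · simpa using hcd.symm
      · have h2 : n * 2 ≤ d := hcd ▸ Nat.mul_le_mul_left n hc2
        omega
  -- every order divides a member
  have hbound : ∀ g : ↥((Data.G2.tbl).datum.group F),
      ∃ d, ((∃ k, d = p * k ∧ R k) ∨ S d) ∧ orderOf g ∣ d := by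
    intro g
    rw [← Subgroup.orderOf_coe]
    set x : GL (Data.G2.tbl).I F := (g : GL (Data.G2.tbl).I F) with hxdef
    have hx : x ∈ (Data.G2.tbl).datum.group F := g.2
    have hN : orderOf x ≠ 0 := by
      rw [hxdef, Subgroup.orderOf_coe]
      exact (orderOf_pos g).ne'
    set N := orderOf x with hNdef
    set k := N.factorization p
    set m := N / p ^ k
    have hprod : p ^ k * m = N := Nat.ordProj_mul_ordCompl_eq_self N p
    have hm : p.Coprime m := Nat.coprime_ordCompl hp hN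
    have hm0 : m ≠ 0 := fun h => hN (by rw [← hprod, h, mul_zero])
    set u := x ^ m
    set s := x ^ p ^ k
    have huk : u ^ p ^ k = 1 := by rw [← pow_mul, mul_comm, hprod]; exact pow_orderOf_eq_one x
    have hso : orderOf s = m := by
      show orderOf (x ^ p ^ k) = _
      rw [orderOf_pow' x (pow_ne_zero _ hp.ne_zero), ← hNdef, Nat.gcd_eq_right (Nat.ordProj_dvd N p)]
    have hsu : s * u = u * s := ((Commute.refl x).pow_pow _ _).eq
    have hdvd : ∀ {c : ℕ}, u ^ c = 1 → N ∣ c * m := fun {c} h => by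
      rw [hNdef]
      exact orderOf_dvd_of_pow_eq_one (by rw [mul_comm, pow_mul]; exact h)
    have hpm : u ^ p = 1 → (m ∣ q - 1 ∨ m ∣ q + 1) → ∃ d, ((∃ k, d = p * k ∧ R k) ∨ S d) ∧ N ∣ d := by
      rintro hu (h | h)
      · exact ⟨p * (q - 1), Or.inl ⟨_, rfl, Or.inr (Or.inl rfl)⟩, (hdvd hu).trans (mul_dvd_mul_left p h)⟩
      · exact ⟨p * (q + 1), Or.inl ⟨_, rfl, Or.inl rfl⟩, (hdvd hu).trans (mul_dvd_mul_left p h)⟩
    by_cases h1 : m = 1
    · by_cases h35 : p = 3 ∨ p = 5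
      · refine ⟨p * p, Or.inl ⟨p, rfl, Or.inr (Or.inr ⟨rfl, h35⟩)⟩, ?_⟩
        simpa [h1, pow_two] using hdvd (G2OddOrders.pow_sq_of_p hp3 (pow_mem hx m) huk)
      · have hp7 : 7 ≤ p := by
          have h4 : p ≠ 4 := fun h => by subst h; norm_num at hp
          have h6 : p ≠ 6 := fun h => by subst h; norm_num at hp
          omega
        exact hpm (G2OddOrders.pow_prime_of_p hp7 (pow_mem hx m) huk) (Or.inl (by rw [h1]; exact one_dvd _))
    by_cases h6 : m ∣ 6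
    · have hs1 : s ≠ 1 := fun h => h1 (by rw [← hso, h, orderOf_one])
      refine hpm (G2OddOrders.pow_prime_of_commute hp3 (pow_mem hx m) huk (pow_mem hx _)
        (hso ▸ pow_orderOf_eq_one s) hm hs1 hsu) ?_
      obtain ⟨c, hc'⟩ := hpodd
      have hm3 : 3 ∣ m → q % 3 ≠ 0 := fun h3 h0 => by
        have hp33 : p = 3 := ((Nat.prime_dvd_prime_iff_eq Nat.prime_three hp).1
          (Nat.prime_three.dvd_of_dvd_pow (Nat.dvd_of_mod_eq_zero h0))).symm
        exact hp.ne_one (Nat.dvd_one.1 (hm ▸ Nat.dvd_gcd dvd_rfl (hp33.symm ▸ h3)))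
      have h6' := Nat.le_of_dvd (by norm_num) h6
      interval_cases m
      all_goals first
        | (exact absurd rfl h1)
        | (norm_num at h6; done)
        | (exact Or.inl (Nat.dvd_of_mod_eq_zero (by omega)))
        | (have := hm3 (by norm_num)
           rcases (show q % 3 = 1 ∨ q % 3 = 2 by omega) with h | h
           · exact Or.inl (Nat.dvd_of_mod_eq_zero (by omega))
           · exact Or.inr (Nat.dvd_of_mod_eq_zero (by omega)))
    obtain ⟨hm1, hu, hm2⟩ := G2OddOrders.order_cases (p := p) hp2 hF (pow_mem hx _) (pow_mem hx m)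
      hm0 hm h6 hso huk hsu
    rcases hm2 with hu1 | h | h
    · have hNm : N ∣ m := by simpa using hdvd (c := 1) (by rw [pow_one]; exact hu1)
      rcases hm1 with h | h | h
      · exact hpm hu (Or.inl h)
      · exact hpm hu (Or.inr h)
      rcases h with h | h | h
      · exact ⟨q ^ 2 - 1, Or.inr (Or.inl rfl), hNm.trans h⟩
      · exact ⟨q ^ 2 + q + 1, Or.inr (Or.inr (Or.inl rfl)), hNm.trans h⟩
      · exact ⟨q ^ 2 - q + 1, Or.inr (Or.inr (Or.inr rfl)), hNm.trans h⟩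
    · exact hpm hu (Or.inl h)
    · exact hpm hu (Or.inr h)
  ext n
  rw [hset]
  constructor
  · rintro ⟨⟨g, rfl⟩, hmax⟩
    obtain ⟨d, hd, hdvd⟩ := hbound g
    exact hmax d (hsub d hd) hdvd ▸ hd
  · refine fun hn => ⟨hsub n hn, ?_⟩
    rintro _ ⟨g, rfl⟩ hnm
    obtain ⟨d, hd, hdvd⟩ := hbound g
    exact Nat.dvd_antisymm ((hkey n d hn hd (hnm.trans hdvd)) ▸ hdvd) hnm

end Cfsg.Agent.S2519
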