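import Cfsg.Statements.S2520
import Cfsg.Agent.Lib.Chevalley.G2Orders.Exists

set_option autoImplicit false
open Cfsg CfsgLib.Chevalley CfsgLib.Chevalley.G2Orders

namespace Cfsg.Agent.S2520

/-- Let F be a finite field with q = 2^a ≥ 4 elements and G₂(F) the Chevalley group of type G₂ over it. Every element order of G₂(F) maximal under divisibility lies in the set {8, 12, 2(q + 1), 2(q − 1), q² − 1, q² + q + 1, q² − q + 1}, and every member of that set is an element order of G₂(F). -/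
theorem result {F : Type*} [Field F] [Fintype F] (a : ℕ) (ha : 2 ≤ a) (hF : Fintype.card F = 2 ^ a) :
    {n : ℕ | n ∈ Set.range (orderOf : ↥(Cfsg.Lie.chevG2.group F) → ℕ) ∧ ∀ m ∈ Set.range (orderOf : ↥(Cfsg.Lie.chevG2.group F) → ℕ), n ∣ m → m = n} ⊆ ({8, 12, 2 * (2 ^ a + 1), 2 * (2 ^ a - 1), 2 ^ (2 * a) - 1, 2 ^ (2 * a) + 2 ^ a + 1, 2 ^ (2 * a) - 2 ^ a + 1} : Set ℕ) ∧
    ({8, 12, 2 * (2 ^ a + 1), 2 * (2 ^ a - 1), 2 ^ (2 * a) - 1, 2 ^ (2 * a) + 2 ^ a + 1, 2 ^ (2 * a) - 2 ^ a + 1} : Set ℕ) ⊆ Set.range (orderOf : ↥(Cfsg.Lie.chevG2.group F) → ℕ) := by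
  classical
  have hc : CharP F 2 := by
    obtain ⟨p, hp⟩ := CharP.exists F
    obtain ⟨d, hpp, hd⟩ := FiniteField.card F p
    rw [hF] at hd
    have h2 : p ∣ 2 ^ a := hd ▸ dvd_pow_self p d.2.ne'
    rwa [(Nat.prime_dvd_prime_iff_eq hpp Nat.prime_two).1 (hpp.dvd_of_dvd_pow h2)] at hp
  have hqa : 2 ^ (2 * a) = (2 ^ a) ^ 2 := by rw [← pow_mul, mul_comm]
  rw [hqa, ← Data.G2.datum_eq]
  set q := 2 ^ a with hq
  have hsub : ∀ n ∈ ({8, 12, 2 * (q + 1), 2 * (q - 1), q ^ 2 - 1, q ^ 2 + q + 1, q ^ 2 - q + 1} : Set ℕ),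
      n ∈ Set.range (orderOf : ↥((Data.G2.tbl).datum.group F) → ℕ) := by
    intro n hn
    obtain ⟨g, hg, ho⟩ := exists_orders hF ha hq n (by
      simpa only [List.mem_cons, List.not_mem_nil, or_false, Set.mem_insert_iff, Set.mem_singleton_iff]
        using hn)
    have hg' : g ∈ (Data.G2.tbl).datum.group F := hg
    exact ⟨⟨g, hg'⟩, (Subgroup.orderOf_coe (⟨g, hg'⟩ : ↥((Data.G2.tbl).datum.group F))).symm.trans ho⟩
  refine ⟨?_, hsub⟩
  rintro n ⟨⟨g, rfl⟩, hmax⟩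
  suffices h : ∃ d ∈ ({8, 12, 2 * (q + 1), 2 * (q - 1), q ^ 2 - 1, q ^ 2 + q + 1, q ^ 2 - q + 1} : Set ℕ),
      orderOf g ∣ d by
    obtain ⟨d, hd, hdvd⟩ := h
    exact hmax d (hsub d hd) hdvd ▸ hd
  rw [← Subgroup.orderOf_coe]
  set x : GL (Data.G2.tbl).I F := (g : GL (Data.G2.tbl).I F) with hxdef
  have hx : x ∈ (Data.G2.tbl).datum.group F := g.2
  have hN : orderOf x ≠ 0 := by
    rw [hxdef, Subgroup.orderOf_coe]
    exact (orderOf_pos g).ne'
  set N := orderOf x with hNdef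
  set k := N.factorization 2
  set m := N / 2 ^ k
  have hprod : 2 ^ k * m = N := Nat.ordProj_mul_ordCompl_eq_self N 2
  have hm : Odd m :=
    Nat.coprime_two_left.1 (Nat.coprime_ordCompl Nat.prime_two hN)
  set u := x ^ m
  set s := x ^ 2 ^ k
  have huk : u ^ 2 ^ k = 1 := by rw [← pow_mul, mul_comm, hprod]; exact pow_orderOf_eq_one x
  have hu8 := pow_eight_of_two (pow_mem hx m) huk
  have hso : orderOf s = m := by
    show orderOf (x ^ 2 ^ k) = _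
    rw [orderOf_pow' x (by positivity), ← hNdef, Nat.gcd_eq_right (Nat.ordProj_dvd N 2)]
  have hsu : s * u = u * s := ((Commute.refl x).pow_pow _ _).eq
  have hdvd : ∀ {c : ℕ}, u ^ c = 1 → N ∣ m * c := fun {c} h => by
    rw [hNdef]
    exact orderOf_dvd_of_pow_eq_one (by rw [pow_mul]; exact h)
  rcases (show m = 1 ∨ m = 3 ∨ 5 ≤ m by obtain ⟨c, hc'⟩ := hm; omega) with h1 | h3 | h5
  · exact ⟨8, by simp, by simpa [h1] using hdvd hu8⟩
  · exact ⟨12, by simp, by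
      simpa [h3] using hdvd (pow_four_of_commute (pow_mem hx m) huk (pow_mem hx _) (hso.trans h3) hsu)⟩
  obtain ⟨hm1, hu2, hm2⟩ := order_cases hF (pow_mem hx _) (pow_mem hx m) hm h5 hso huk hsu
  rcases hm2 with hu1 | h | h
  · have hNm : N ∣ m := by simpa using hdvd (c := 1) (by rw [pow_one]; exact hu1)
    rcases hm1 with h | h | h | h | h
    · exact ⟨2 * (q - 1), by simp, hNm.trans (h.trans (dvd_mul_left _ _))⟩
    · exact ⟨2 * (q + 1), by simp, hNm.trans (h.trans (dvd_mul_left _ _))⟩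
    · exact ⟨q ^ 2 - 1, by simp, hNm.trans h⟩
    · exact ⟨q ^ 2 + q + 1, by simp, hNm.trans h⟩
    · exact ⟨q ^ 2 - q + 1, by simp, hNm.trans h⟩
  · exact ⟨2 * (q - 1), by simp, (hdvd hu2).trans (by rw [mul_comm]; exact mul_dvd_mul_left 2 h)⟩
  · exact ⟨2 * (q + 1), by simp, (hdvd hu2).trans (by rw [mul_comm]; exact mul_dvd_mul_left 2 h)⟩

end Cfsg.Agent.S2520
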