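import Cfsg.Statements.S2522
import Cfsg.Agent.Lib.Classical.RegularUnipotentProduct.Factor

set_option autoImplicit false
open Cfsg CfsgLib.Classical.RegularUnipotentProduct Matrix Module

namespace Cfsg.Agent.S2522

/-- Let K be a field with at least four elements (finite or infinite), n ≥ 3, and J ∈ GL(n, K) the regular unipotent matrix (ones on the diagonal and the superdiagonal, zeros elsewhere). Then every non-scalar g ∈ GL(n, K) with det g = 1 is a product of two GL(n, K)-conjugates of J. -/
theorem result {K : Type*} [Field K] (hK : 4 ≤ Cardinal.mk K) (n : ℕ) (hn : 3 ≤ n) (J g : GL (Fin n) K)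
    (hJ : ∀ i j : Fin n, (J : Matrix (Fin n) (Fin n) K) i j = if i = j then 1 else if j.val = i.val + 1 then 1 else 0)
    (hg : ¬ ∃ c : K, (g : Matrix (Fin n) (Fin n) K) = c • (1 : Matrix (Fin n) (Fin n) K))
    (hdet : (g : Matrix (Fin n) (Fin n) K).det = 1) :
    ∃ x y : GL (Fin n) K, g = (x * J * x⁻¹) * (y * J * y⁻¹) := by
  classical
  have h4 : Four K := by
    intro s hs
    by_contra! hall
    haveI : Fintype K := ⟨s, hall⟩
    rw [Cardinal.mk_fintype] at hK
    have h1 : (4 : ℕ) ≤ Fintype.card K := by exact_mod_cast hK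
    have h2 : Fintype.card K ≤ s.card := Finset.card_le_card fun x _ => hall x
    omega
  obtain ⟨k, rfl⟩ : ∃ k, n = k + 2 + 1 := ⟨n - 3, by omega⟩
  have hJu : UpReg (J : Matrix (Fin (k + 2 + 1)) (Fin (k + 2 + 1)) K) := fun i j => by
    rw [hJ]
    refine ⟨fun h => ?_, fun h => if_pos h, fun h => ?_⟩
    · rw [if_neg (fun e => by subst e; omega), if_neg (by omega)]
    · rw [if_neg (fun e => by subst e; omega), if_pos h]; exact one_ne_zero
  set A : Matrix (Fin (k + 2 + 1)) (Fin (k + 2 + 1)) K := g.1 with hA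
  by_cases hrk : 2 ≤ finrank K (LinearMap.range (A - 1).mulVecLin)
  · have h0 : (Pi.single 0 1 : Fin (k + 2 + 1) → K) ≠ 0 := fun h => by simpa using congrFun h 0
    obtain ⟨Q, L, U, hQ, hgQ, hL, hU, -, -⟩ := factor h4 (k + 2) A hdet (fun _ => ⟨hg, hrk⟩) _ _ h0 h0
    exact exists_conjugates hJu hQ hgQ (sim_of_lowReg hL) (sim_of_upReg hU)
  · obtain ⟨⟨u, hu0⟩, hu⟩ := finrank_le_one_iff.1 (show finrank K (LinearMap.range (A - 1).mulVecLin) ≤ 1 by omega)
    choose f hf using fun j : Fin (k + 2 + 1) => hu ⟨(A - 1).mulVecLin (Pi.single j 1), LinearMap.mem_range_self _ _⟩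
    have hA1 : A = 1 + vecMulVec u f := by
      ext i j
      have e := congrFun (congrArg Subtype.val (hf j)) i
      simp only [SetLike.val_smul, Pi.smul_apply, smul_eq_mul, mulVecLin_apply, mulVec_single_one, col_apply,
        Matrix.sub_apply] at e
      rw [Matrix.add_apply, vecMulVec_apply, mul_comm, e]
      abel
    have hne : vecMulVec u f ≠ 0 := fun h => hg ⟨1, by rw [one_smul]; exact hA1.trans (by rw [h, add_zero])⟩
    have hun : u ≠ 0 := fun h => hne (by rw [h]; exact zero_vecMulVec f)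
    have hfn : f ≠ 0 := fun h => hne (by rw [h]; exact vecMulVec_zero u)
    have hfu : f ⬝ᵥ u = 0 := by
      have h := hdet
      rw [hA1, vecMulVec_eq Unit, det_one_add_replicateCol_mul_replicateRow] at h
      exact add_eq_left.1 h
    obtain ⟨Q, X, Y, hQ, hgQ, hX, hY⟩ := transvection (by omega) hun hfn hfu
    rw [← hA1] at hgQ
    exact exists_conjugates hJu hQ hgQ hX hY

end Cfsg.Agent.S2522
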