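import Cfsg.Statements.S2524
import Cfsg.Agent.Lib.KnownB.SpWeil.Count
-- import your own Cfsg.Agent.* helpers here

set_option autoImplicit false
open Cfsg

namespace Cfsg.Agent.S2524

/-- Let F be a finite field of odd order q and G = Sp(2n, F) with n ≥ 2. Then G has exactly four irreducible complex characters of degree (q^n + 1)/2 or (q^n − 1)/2 (two of each), and every other non-principal irreducible character has degree at least (q^n − 1)(q^n − q)/(2(q + 1)). -/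
theorem result {F : Type*} [Field F] [Fintype F] (hodd : Odd (Fintype.card F)) (n : ℕ) (hn : 2 ≤ n) :
    Nat.card {χ : Cfsg.IrrCharacter ↥(Matrix.symplecticGroup (Fin n) F) // (χ : ↥(Matrix.symplecticGroup (Fin n) F) → ℂ) 1 = (((Fintype.card F) ^ n + 1 : ℕ) : ℂ) / 2} = 2 ∧
    Nat.card {χ : Cfsg.IrrCharacter ↥(Matrix.symplecticGroup (Fin n) F) // (χ : ↥(Matrix.symplecticGroup (Fin n) F) → ℂ) 1 = (((Fintype.card F) ^ n - 1 : ℕ) : ℂ) / 2} = 2 ∧
    ∀ χ : Cfsg.IrrCharacter ↥(Matrix.symplecticGroup (Fin n) F),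
      (χ : ↥(Matrix.symplecticGroup (Fin n) F) → ℂ) 1 ≠ 1 →
      (χ : ↥(Matrix.symplecticGroup (Fin n) F) → ℂ) 1 ≠ (((Fintype.card F) ^ n + 1 : ℕ) : ℂ) / 2 →
      (χ : ↥(Matrix.symplecticGroup (Fin n) F) → ℂ) 1 ≠ (((Fintype.card F) ^ n - 1 : ℕ) : ℂ) / 2 →
      (((Fintype.card F) ^ n - 1 : ℕ) : ℝ) * (((Fintype.card F) ^ n - Fintype.card F : ℕ) : ℝ) / (2 * ((Fintype.card F : ℕ) + 1 : ℝ)) ≤ ‖(χ : ↥(Matrix.symplecticGroup (Fin n) F) → ℂ) 1‖ := by
  classical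
  obtain ⟨k, rfl⟩ : ∃ k, n = k + 2 := ⟨n - 2, by omega⟩
  obtain ⟨hfin, hcard⟩ := CfsgLib.KnownB.SpWeil.smallChars_card (F := F) hodd k
  have hdp := CfsgLib.KnownB.SpWeil.two_le_degree (F := F) hodd hn (ε := 1) (Or.inl rfl)
  have hdm := CfsgLib.KnownB.SpWeil.two_le_degree (F := F) hodd hn (ε := -1) (Or.inr rfl)
  obtain ⟨hm, hp⟩ := CfsgLib.MinDeg.finrank_parSpace (F := F) (n := k + 2)
    (CfsgLib.MinDeg.two_ne_zero_of_odd hodd)
  rw [hp] at hdp
  generalize Module.finrank ℂ (CfsgLib.MinDeg.parSpace F (k + 2) (-1)) = d at hm hp hdp hdm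
  have ep : (((Fintype.card F) ^ (k + 2) + 1 : ℕ) : ℂ) / 2 = ((d + 1 : ℕ) : ℂ) := by
    rw [← hm]; push_cast; ring
  have em : (((Fintype.card F) ^ (k + 2) - 1 : ℕ) : ℂ) / 2 = ((d : ℕ) : ℂ) := by
    rw [← hm, Nat.add_sub_cancel]; push_cast; ring
  simp only [ep, em]
  set A := {χ : Cfsg.IrrCharacter ↥(Matrix.symplecticGroup (Fin (k + 2)) F) |
    (χ : ↥(Matrix.symplecticGroup (Fin (k + 2)) F) → ℂ) 1 = ((d + 1 : ℕ) : ℂ)} with hA
  set B := {χ : Cfsg.IrrCharacter ↥(Matrix.symplecticGroup (Fin (k + 2)) F) |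
    (χ : ↥(Matrix.symplecticGroup (Fin (k + 2)) F) → ℂ) 1 = ((d : ℕ) : ℂ)} with hB
  -- both degrees are below the bound
  have hq : (3 : ℝ) ≤ (Fintype.card F : ℝ) := by
    have := Fintype.one_lt_card (α := F)
    obtain ⟨r, hr⟩ := hodd
    exact_mod_cast (show 3 ≤ Fintype.card F by omega)
  have hQ : (Fintype.card F : ℝ) ^ 2 ≤ ((2 * d + 1 : ℕ) : ℝ) := by
    rw [hm]; push_cast
    exact pow_le_pow_right₀ (by linarith) (by omega)
  have hgap : ((d + 1 : ℕ) : ℝ) < CfsgLib.KnownB.SpWeil.gap F (k + 2) := by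
    have h1 : Fintype.card F ≤ (Fintype.card F) ^ (k + 2) := Nat.le_self_pow (by omega) _
    rw [CfsgLib.KnownB.SpWeil.gap, lt_div_iff₀ (by positivity), Nat.cast_sub h1, ← hm, Nat.add_sub_cancel]
    push_cast at hQ ⊢
    nlinarith [mul_nonneg (sub_nonneg.2 hq) (sub_nonneg.2 hq)]
  have hd2 : 2 ≤ d := by
    have : (9 : ℝ) ≤ ((2 * d + 1 : ℕ) : ℝ) := by nlinarith
    have : 9 ≤ 2 * d + 1 := by exact_mod_cast this
    omega
  have hAS : A ⊆ CfsgLib.KnownB.SpWeil.smallChars F (k + 2) := fun χ hχ => by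
    rw [hA, Set.mem_setOf_eq] at hχ
    refine ⟨?_, ?_⟩
    · rw [hχ]; exact_mod_cast (show d + 1 ≠ 1 by omega)
    · rw [hχ, Complex.norm_natCast]; exact hgap
  have hBS : B ⊆ CfsgLib.KnownB.SpWeil.smallChars F (k + 2) := fun χ hχ => by
    rw [hB, Set.mem_setOf_eq] at hχ
    refine ⟨?_, ?_⟩
    · rw [hχ]; exact_mod_cast (show d ≠ 1 by omega)
    · rw [hχ, Complex.norm_natCast]
      exact lt_of_le_of_lt (by exact_mod_cast Nat.le_succ d) hgap
  have hAf := hfin.subset hAS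
  have hBf := hfin.subset hBS
  have hdisj : Disjoint A B := Set.disjoint_left.2 fun χ h1 h2 => by
    rw [hA, Set.mem_setOf_eq] at h1
    rw [hB, Set.mem_setOf_eq, h1] at h2
    exact absurd (Nat.cast_injective h2) (by omega)
  have hA2 : 2 ≤ A.ncard := by
    have := hdp
    rw [← hAf.cast_ncard_eq] at this
    exact_mod_cast this
  have hB2 : 2 ≤ B.ncard := by
    have := hdm
    rw [← hBf.cast_ncard_eq] at this
    exact_mod_cast this
  have hu : (A ∪ B).ncard = A.ncard + B.ncard := Set.ncard_union_eq hdisj hAf hBf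
  have hle := Set.ncard_le_ncard (Set.union_subset hAS hBS) hfin
  have hA' : A.ncard = 2 := by omega
  have hB' : B.ncard = 2 := by omega
  refine ⟨(Nat.card_coe_set_eq A).trans hA', (Nat.card_coe_set_eq B).trans hB', fun χ h1 hnA hnB => ?_⟩
  by_contra hlt
  have hsub : insert χ (A ∪ B) ⊆ CfsgLib.KnownB.SpWeil.smallChars F (k + 2) :=
    Set.insert_subset ⟨h1, not_le.1 hlt⟩ (Set.union_subset hAS hBS)
  have h5 := Set.ncard_le_ncard hsub hfin
  rw [Set.ncard_insert_of_notMem (fun h => h.elim hnA hnB) (hAf.union hBf)] at h5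
  omega

end Cfsg.Agent.S2524
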