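import Cfsg.Statements.S2530
import Cfsg.Agent.Lib.BNPair.Exchange

set_option autoImplicit false
open Cfsg

namespace Cfsg.Agent.S2530

open CfsgLib.BNPair.Exchange
/-- The Coxeter presentation of the symmetric group: for every n, the symmetric group on n+1 letters is the Coxeter group of type A_n with the adjacent transpositions (i, i+1) as simple reflections; that is, it is presented by generators r_1, …, r_n subject to r_i² = 1, (r_i r_j)² = 1 for |i − j| > 1 and (r_i r_{i+1})³ = 1, with r_i mapping to (i, i+1). -/
theorem result (n : ℕ) :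
    ∃ cs : CoxeterSystem (CoxeterMatrix.A n) (Equiv.Perm (Fin (n + 1))), ∀ i : Fin n, cs.simple i = Equiv.swap i.castSucc i.succ := by
  classical
  let σ : Fin n → Equiv.Perm (Fin (n + 1)) := fun i => Equiv.swap i.castSucc i.succ
  have hσ : IsInvGen σ := ⟨fun i => Equiv.swap_mul_self _ _, fun w => by
    have h : w ∈ Submonoid.closure (Set.range σ) := by
      rw [show (σ : Fin n → Equiv.Perm (Fin (n + 1))) = fun i : Fin n => Equiv.swap i.castSucc i.succ from rfl,
        Equiv.Perm.mclosure_swap_castSucc_succ]
      trivial
    induction h using Submonoid.closure_induction with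
    | mem x hx => obtain ⟨i, rfl⟩ := hx; exact ⟨[i], by simp⟩
    | one => exact ⟨[], rfl⟩
    | mul x y _ _ hx hy =>
      obtain ⟨l₁, rfl⟩ := hx; obtain ⟨l₂, rfl⟩ := hy
      exact ⟨l₁ ++ l₂, by simp⟩⟩
  have hinj : Function.Injective σ := by
    intro i j h
    by_contra hne
    have h1 := congrArg (fun e : Equiv.Perm (Fin (n + 1)) => e i.castSucc) h
    simp only [σ, Equiv.swap_apply_left, Equiv.swap_apply_def] at h1
    split_ifs at h1 with ha hb
    · exact hne (Fin.castSucc_injective _ ha)
    · exact absurd (congrArg Fin.val h1) (by
        have := congrArg Fin.val hb; simp at this ⊢; omega)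
    · exact absurd (congrArg Fin.val h1) (by simp)
  -- an inversion of the prefix sequence yields an exchange
  have hflip : ∀ (i : Fin n) (l : List (Fin n)),
      ((l.map σ).prod)⁻¹ i.succ < ((l.map σ).prod)⁻¹ i.castSucc →
      ∃ j, j < l.length ∧ σ i * ((l.take j).map σ).prod = ((l.take (j + 1)).map σ).prod := by
    intro i l
    induction l using List.reverseRecOn with
    | nil => intro h; simp [Fin.lt_def] at h
    | append_singleton l k ih =>
      intro h
      by_cases h' : ((l.map σ).prod)⁻¹ i.succ < ((l.map σ).prod)⁻¹ i.castSucc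
      · obtain ⟨j, hj, hje⟩ := ih h'
        refine ⟨j, by rw [List.length_append]; omega, ?_⟩
        rwa [List.take_append_of_le_length hj.le, List.take_append_of_le_length (by omega)]
      · set p := (l.map σ).prod with hp
        refine ⟨l.length, by simp, ?_⟩
        rw [List.take_left, List.take_of_length_le (by simp), List.map_append, List.prod_append,
          List.map_singleton, List.prod_singleton, ← hp]
        rw [List.map_append, List.prod_append, List.map_singleton, List.prod_singleton, ← hp,
          mul_inv_rev, inv_eq hσ, Equiv.Perm.mul_apply, Equiv.Perm.mul_apply] at h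
        have hne : p⁻¹ i.castSucc ≠ p⁻¹ i.succ := fun e =>
          Fin.castSucc_lt_succ.ne (p⁻¹.injective e)
        have hlt : p⁻¹ i.castSucc < p⁻¹ i.succ := lt_of_le_of_ne (not_lt.1 h') hne
        generalize ha : p⁻¹ i.castSucc = a at h hlt
        generalize hb : p⁻¹ i.succ = b at h hlt
        have hab : a = k.castSucc ∧ b = k.succ := by
          simp only [σ, Equiv.swap_apply_def, Fin.ext_iff, Fin.lt_def, Fin.val_castSucc, Fin.val_succ] at h hlt ⊢
          split_ifs at h <;> (try simp only [Fin.val_castSucc, Fin.val_succ] at h) <;> omega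
        have hc : p * σ k * p⁻¹ = σ i := by
          rw [← Equiv.swap_apply_apply, ← hab.1, ← hab.2, ← ha, ← hb]
          simp [σ]
        rw [← hc]; group
  have hx : HasExchange hσ := by
    intro i l hl hle
    apply hflip
    by_contra h
    obtain ⟨l', hl', he⟩ := exists_reduced hσ (σ i * (l.map σ).prod)
    obtain ⟨j, hj, hje⟩ := hflip i l' (by
      rw [he, mul_inv_rev, inv_eq hσ, Equiv.Perm.mul_apply, Equiv.Perm.mul_apply]
      simp only [σ, Equiv.swap_apply_left, Equiv.swap_apply_right]
      refine lt_of_le_of_ne (not_lt.1 h) fun e => Fin.castSucc_lt_succ.ne (((l.map σ).prod)⁻¹.injective e))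
    have h1 := prod_eraseIdx_of_exchange i l' j hje
    rw [he] at h1
    have h2 := len_le hσ (l'.eraseIdx j)
    rw [← mul_left_cancel h1, List.length_eraseIdx_of_lt hj] at h2
    have h3 : l'.length ≤ l.length := by
      rw [← hl', he]; exact hle
    rw [hl] at h2
    omega
  obtain ⟨M, cs, hcs, hM⟩ := exists_coxeterSystem hσ hx hinj
  have hMA : M = CoxeterMatrix.A n := by
    refine CoxeterMatrix.ext (Matrix.ext fun s t => ?_)
    show M s t = (CoxeterMatrix.A n) s t
    rw [hM]
    show _ = (if s = t then 1 else (if (t : ℕ) + 1 = s ∨ (s : ℕ) + 1 = t then 3 else 2))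
    rcases eq_or_ne s t with rfl | hst
    · simp [hσ.mul_self]
    · rw [if_neg hst]
      have hv : (s : ℕ) ≠ t := fun e => hst (Fin.ext e)
      split_ifs with h
      · rcases h with h | h
        · have e : s.castSucc = t.succ := Fin.ext (by simp; omega)
          refine (Equiv.Perm.IsThreeCycle.orderOf ?_)
          show (σ s * σ t).IsThreeCycle
          simp only [σ, Equiv.swap_comm t.castSucc t.succ, ← e]
          apply Equiv.Perm.isThreeCycle_swap_mul_swap_same <;> simp [Fin.ext_iff] <;> omega
        · have e : s.succ = t.castSucc := Fin.ext (by simp; omega)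
          refine (Equiv.Perm.IsThreeCycle.orderOf ?_)
          show (σ s * σ t).IsThreeCycle
          simp only [σ, Equiv.swap_comm s.castSucc s.succ, ← e]
          apply Equiv.Perm.isThreeCycle_swap_mul_swap_same <;> simp [Fin.ext_iff] <;> omega
      · apply orderOf_eq_prime
        · have hd : Commute (σ s) (σ t) := by
            refine (Equiv.Perm.Disjoint.commute ?_)
            intro x
            simp only [σ]
            by_cases hx : x = s.castSucc ∨ x = s.succ
            · right
              apply Equiv.swap_apply_of_ne_of_ne <;>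
                (rcases hx with rfl | rfl <;> simp [Fin.ext_iff] <;> omega)
            · left
              exact Equiv.swap_apply_of_ne_of_ne (fun e => hx (Or.inl e)) (fun e => hx (Or.inr e))
          rw [hd.mul_pow, pow_two, pow_two, hσ.mul_self, hσ.mul_self, one_mul]
        · rw [Ne, mul_eq_one_iff_eq_inv, inv_eq hσ]
          exact fun e => hst (hinj e)
  subst hMA
  exact ⟨cs, hcs⟩

end Cfsg.Agent.S2530
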