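import Cfsg.Statements.S2531

set_option autoImplicit false
open Cfsg

namespace Cfsg.Agent.S2531

/-- Let `F` be a finite field and `n ≥ 3`. No set of permutations of the points of the projective space of `Fⁿ`, each induced by an invertible semilinear transformation of `Fⁿ` (so a subset of the full projective semilinear group), is sharply 2-transitive on the points: it is impossible that for all pairs of distinct points `(a, b)` and `(c, d)` exactly one member of the set sends `a` to `c` and `b` to `d`. -/
theorem result {F : Type*} [Field F] [Finite F]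
    (n : ℕ) (hn : 3 ≤ n) (S : Set (Equiv.Perm (Projectivization F (Fin n → F))))
    (hS : ∀ s ∈ S, ∃ (σ : F ≃+* F) (f : (Fin n → F) →ₛₗ[(σ : F →+* F)] (Fin n → F)) (hf : Function.Injective f),
      ∀ x, s x = Projectivization.map f hf x) :
    ¬ (∀ a b c d : Projectivization F (Fin n → F), a ≠ b → c ≠ d →
        ∃! s, s ∈ S ∧ s a = c ∧ s b = d) := by
  classical
  haveI : Fintype F := Fintype.ofFinite F
  haveI : Finite (Projectivization F (Fin n → F)) := Quotient.finite _
  haveI : Fintype (Projectivization F (Fin n → F)) := Fintype.ofFinite _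
  intro htrans
  let pts : Submodule F (Fin n → F) → Finset (Projectivization F (Fin n → F)) :=
    fun W => Finset.univ.filter (fun x => x.rep ∈ W)
  have hmem : ∀ W x, x ∈ pts W ↔ x.rep ∈ W := fun W x => by simp [pts]
  have hmk : ∀ (W : Submodule F (Fin n → F)) (v : Fin n → F) (hv : v ≠ 0),
      Projectivization.mk F v hv ∈ pts W ↔ v ∈ W := by
    intro W v hv
    obtain ⟨u, hu⟩ := Projectivization.exists_smul_eq_mk_rep F v hv
    rw [hmem, ← hu]
    exact W.smul_mem_iff' u
  -- the number of points of a non-zero subspace is 1 in F
  have hcount : ∀ W, W ≠ ⊥ → ((pts W).card : F) = 1 := by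
    intro W hW
    haveI : Nontrivial W := Submodule.nontrivial_iff_ne_bot.2 hW
    let i : Projectivization F W → Projectivization F (Fin n → F) :=
      Projectivization.map W.subtype W.injective_subtype
    have hi : Function.Injective i := Projectivization.map_injective _ W.injective_subtype
    haveI : Finite (Projectivization F W) := Finite.of_injective i hi
    haveI : Fintype (Projectivization F W) := Fintype.ofFinite _
    have himg : Finset.univ.image i = pts W := by
      ext x
      constructor
      · intro hx
        obtain ⟨y, -, rfl⟩ := Finset.mem_image.1 hx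
        induction y using Projectivization.ind with
        | h v hv =>
          show Projectivization.map _ _ (Projectivization.mk F v hv) ∈ _
          rw [Projectivization.map_mk, hmk]
          exact v.2
      · intro hx
        refine Finset.mem_image.2 ⟨Projectivization.mk F (⟨x.rep, (hmem _ _).1 hx⟩ : W)
          (fun h => x.rep_nonzero (congrArg Subtype.val h)), Finset.mem_univ _, ?_⟩
        show Projectivization.map _ _ _ = _
        rw [Projectivization.map_mk]
        exact x.mk_rep
    have hcard : (pts W).card = Nat.card (Projectivization F W) := by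
      rw [← himg, Finset.card_image_of_injective _ hi, Finset.card_univ, Nat.card_eq_fintype_card]
    have h := Projectivization.card F W
    rw [← hcard, Module.natCard_eq_pow_finrank (K := F) (V := W), Nat.card_eq_fintype_card] at h
    have h' := congrArg (Nat.cast : ℕ → F) h
    have h1 : 1 ≤ Fintype.card F ^ Module.finrank F W := Nat.one_le_pow _ _ Fintype.card_pos
    rw [Nat.cast_sub h1, Nat.cast_mul, Nat.cast_sub Fintype.card_pos, Nat.cast_pow,
      FiniteField.cast_card_eq_zero, zero_pow Module.finrank_pos.ne', Nat.cast_one] at h'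
    linear_combination h'
  haveI : Nontrivial (Fin n → F) := Module.nontrivial_of_finrank_pos (R := F) (by simp; omega)
  obtain ⟨v0, hv0⟩ := exists_ne (0 : Fin n → F)
  set a := Projectivization.mk F v0 hv0 with ha
  obtain ⟨H, hH⟩ := Submodule.exists_isCompl (F ∙ v0)
  have hHrank : Module.finrank F H + 1 = n := by
    have := Submodule.finrank_add_eq_of_isCompl hH
    rw [finrank_span_singleton hv0, Module.finrank_fintype_fun_eq_card, Fintype.card_fin] at this
    omega
  have haH : a ∉ pts H := by
    rw [ha, hmk]
    intro h
    exact hv0 (Submodule.disjoint_def.1 hH.disjoint v0 (Submodule.mem_span_singleton_self v0) h)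
  have hHbot : H ≠ ⊥ := by
    rintro rfl
    simp at hHrank; omega
  -- image of the hyperplane under a member of S
  have himage : ∀ s ∈ S, ∃ W : Submodule F (Fin n → F), (∀ x, s x ∈ pts W ↔ x ∈ pts H) ∧
      Module.finrank F W = Module.finrank F H := by
    intro s hs
    obtain ⟨σ, f, hf, hsf⟩ := hS s hs
    haveI : RingHomSurjective (σ : F →+* F) := ⟨σ.surjective⟩
    refine ⟨H.map f, fun x => ?_, ?_⟩
    · rw [hsf]
      induction x using Projectivization.ind with
      | h v hv =>
        rw [Projectivization.map_mk, hmk, hmk]
        exact ⟨fun ⟨w, hw, hwv⟩ => hf hwv ▸ hw, fun h => ⟨v, h, rfl⟩⟩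
    · have h := Nat.card_congr (Equiv.Set.image f (H : Set (Fin n → F)) hf)
      rw [← Submodule.map_coe] at h
      change Nat.card H = Nat.card (H.map f) at h
      rw [Module.natCard_eq_pow_finrank (K := F) (V := H), Module.natCard_eq_pow_finrank (K := F) (V := H.map f)] at h
      exact (Nat.pow_right_injective (Nat.card_eq_fintype_card (α := F) ▸ Fintype.one_lt_card) h).symm
  let c : Projectivization F (Fin n → F) → F := fun x => if x ≠ a ∧ x ∉ pts H then 1 else 0
  let Sa : Finset (Equiv.Perm (Projectivization F (Fin n → F))) :=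
    Finset.univ.filter (fun s => s ∈ S ∧ s a = a)
  have hzero : ∀ s ∈ Sa, ∑ b ∈ pts H, c (s b) = 0 := by
    intro s hs
    obtain ⟨hsS, hsa⟩ := (Finset.mem_filter.1 hs).2
    obtain ⟨W, hW, hWr⟩ := himage s hsS
    have himg : (pts H).map s.toEmbedding = pts W := by
      ext y
      rw [Finset.mem_map_equiv, ← hW, Equiv.apply_symm_apply]
    have haW : a ∉ pts W := by
      rw [← hsa, hW]; exact haH
    calc ∑ b ∈ pts H, c (s b) = ∑ y ∈ pts W, c y := by rw [← himg, Finset.sum_map]; rfl
      _ = ∑ y ∈ pts W, (if y ∉ pts H then (1 : F) else 0) := by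
          refine Finset.sum_congr rfl fun y hy => ?_
          have : y ≠ a := fun h => haW (h ▸ hy)
          simp [c, this]
      _ = ((pts W \ pts H).card : F) := by
          rw [Finset.sum_boole, Finset.filter_notMem_eq_sdiff]
      _ = 0 := by
          have hsplit : (pts W \ pts H).card + (pts (W ⊓ H)).card = (pts W).card := by
            have : pts (W ⊓ H) = pts W ∩ pts H := by ext y; simp [pts, Submodule.mem_inf]
            rw [this, Finset.card_sdiff_add_card_inter]
          have hWH : W ⊓ H ≠ ⊥ := by
            intro h
            have h2 := Submodule.finrank_sup_add_finrank_inf_eq W H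
            rw [h, finrank_bot, hWr] at h2
            have h3 := Submodule.finrank_le (W ⊔ H)
            rw [Module.finrank_fintype_fun_eq_card, Fintype.card_fin] at h3
            omega
          have hWbot : W ≠ ⊥ := fun h => hWH (by rw [h, bot_inf_eq])
          have h2 := congrArg (Nat.cast : ℕ → F) hsplit
          rw [Nat.cast_add, hcount _ hWH, hcount _ hWbot] at h2
          linear_combination h2
  have hsharp : ∀ b ∈ pts H, ∑ s ∈ Sa, c (s b) = -1 := by
    intro b hb
    have hba : b ≠ a := fun h => haH (h ▸ hb)
    have h1 : ∑ s ∈ Sa, c (s b) = ∑ d ∈ Finset.univ.erase a, c d := by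
      refine Finset.sum_bij (fun s _ => s b) ?_ ?_ ?_ ?_
      · intro s hs
        refine Finset.mem_erase.2 ⟨fun h => hba ?_, Finset.mem_univ _⟩
        exact s.injective (h.trans (Finset.mem_filter.1 hs).2.2.symm)
      · intro s hs t ht hst
        obtain ⟨hsS, hsa⟩ := (Finset.mem_filter.1 hs).2
        obtain ⟨htS, hta⟩ := (Finset.mem_filter.1 ht).2
        have hne : a ≠ s b := fun h => hba (s.injective (hsa.trans h)).symm
        obtain ⟨u, -, hu⟩ := htrans a b a (s b) hba.symm hne
        exact (hu s ⟨hsS, hsa, rfl⟩).trans (hu t ⟨htS, hta, hst.symm⟩).symm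
      · intro d hd
        obtain ⟨u, ⟨huS, hua, hub⟩, -⟩ := htrans a b a d hba.symm (Finset.mem_erase.1 hd).1.symm
        exact ⟨u, Finset.mem_filter.2 ⟨Finset.mem_univ _, huS, hua⟩, hub⟩
      · intro s hs; rfl
    rw [h1, Finset.sum_boole]
    have h2 : (Finset.univ.erase a).filter (fun x => x ≠ a ∧ x ∉ pts H) = (pts ⊤ \ pts H).erase a := by
      ext x; simp [pts]
    rw [h2, Finset.card_erase_of_mem (by simp [hmem, haH, pts]; exact fun h => haH ((hmem _ _).2 h))]
    have hsub : pts H ⊆ pts ⊤ := fun x _ => by simp [pts]
    have hTop : (⊤ : Submodule F (Fin n → F)) ≠ ⊥ := top_ne_bot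
    have hpos : 1 ≤ (pts ⊤ \ pts H).card :=
      Finset.card_pos.2 ⟨a, Finset.mem_sdiff.2 ⟨by simp [pts], haH⟩⟩
    rw [Nat.cast_sub hpos, Finset.card_sdiff_of_subset hsub, Nat.cast_sub (Finset.card_le_card hsub),
      hcount _ hTop, hcount _ hHbot]
    simp
  have h1 := Finset.sum_comm (s := Sa) (t := pts H) (f := fun s b => c (s b))
  rw [Finset.sum_eq_zero hzero, Finset.sum_congr rfl hsharp, Finset.sum_const, nsmul_eq_mul,
    hcount _ hHbot, one_mul] at h1
  exact neg_ne_zero.2 one_ne_zero h1.symm

end Cfsg.Agent.S2531
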