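import Cfsg.Statements.S2532

set_option autoImplicit false
open Cfsg

namespace Cfsg.Agent.S2532

/-- There is a function `f` of two natural-number arguments such that, whenever `m ≥ f(n, r)`, every subgroup of order `n` of the alternating group of degree `m` centralizes some subgroup of that alternating group isomorphic to the alternating group of degree `r`. -/
theorem result :
    ∃ f : ℕ → ℕ → ℕ, ∀ (m r : ℕ) (H : Subgroup ↥(alternatingGroup (Fin m))), f (Nat.card H) r ≤ m →
      ∃ K : Subgroup ↥(alternatingGroup (Fin m)), Nonempty (↥K ≃* ↥(alternatingGroup (Fin r))) ∧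
        K ≤ Subgroup.centralizer (H : Set ↥(alternatingGroup (Fin m))) := by
  classical
  refine ⟨fun n r => n * 2 ^ n * r + 1, fun m r H hm => ?_⟩
  let act : H →* Equiv.Perm (Fin m) := (alternatingGroup (Fin m)).subtype.comp H.subtype
  have hcomp : ∀ (a b : H) (x : Fin m), act (a * b) x = act a (act b x) := fun a b x => by
    rw [map_mul]; rfl
  let S : Fin m → Finset H := fun x => Finset.univ.filter (fun h => act h x = x)
  have hS : ∀ h x, h ∈ S x ↔ act h x = x := fun h x => by simp [S]
  let orb : Fin m → Finset (Fin m) := fun x => Finset.univ.image (fun h => act h x)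
  have hn : Fintype.card H = Nat.card H := Nat.card_eq_fintype_card.symm
  -- a stabiliser that occurs at many points
  obtain ⟨T, hT⟩ : ∃ T : Finset H, Nat.card H * r < (Finset.univ.filter (fun x => S x = T)).card + 1 := by
    by_contra hne
    push Not at hne
    have h1 := Finset.card_eq_sum_card_fiberwise (f := S) (s := Finset.univ) (t := Finset.univ)
      (fun x _ => Finset.mem_univ _)
    rw [Finset.card_univ, Fintype.card_fin] at h1
    have h2 : m ≤ 2 ^ Nat.card H * (Nat.card H * r) := by
      refine le_of_eq_of_le h1 ((Finset.sum_le_card_nsmul _ _ (Nat.card H * r) fun T _ => ?_).trans ?_)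
      · have := hne T
        omega
      · rw [smul_eq_mul, Finset.card_univ, Fintype.card_finset, hn]
    have h3 : 2 ^ Nat.card H * (Nat.card H * r) = Nat.card H * 2 ^ Nat.card H * r := by ring
    have hm' : Nat.card H * 2 ^ Nat.card H * r + 1 ≤ m := hm
    omega
  set P := Finset.univ.filter (fun x => S x = T) with hP
  -- r points of P in distinct orbits
  obtain ⟨x, hxP, hxorb⟩ : ∃ x : Fin r → Fin m, (∀ i, S (x i) = T) ∧
      ∀ i j h, act h (x i) = x j → i = j := by
    have hsel : ∀ k ≤ r, ∃ Q : Finset (Fin m), Q ⊆ P ∧ Q.card = k ∧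
        ∀ a ∈ Q, ∀ b ∈ Q, ∀ h, act h a = b → a = b := by
      intro k
      induction k with
      | zero => exact fun _ => ⟨∅, by simp⟩
      | succ k ih =>
        intro hk
        obtain ⟨Q, hQP, hQc, hQ⟩ := ih (by omega)
        have hbig : (Q.biUnion orb).card < P.card := by
          have h1 : (Q.biUnion orb).card ≤ Q.card * Nat.card H :=
            Finset.card_biUnion_le_card_mul _ _ _ fun a _ => Finset.card_image_le.trans (le_of_eq (Finset.card_univ.trans hn))
          have h2 : k * Nat.card H + Nat.card H ≤ Nat.card H * r := by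
            rw [← Nat.succ_mul, mul_comm]; exact Nat.mul_le_mul_left _ hk
          have h3 : 0 < Nat.card H := Nat.card_pos
          rw [hQc] at h1
          omega
        obtain ⟨a, haP, ha⟩ : ∃ a ∈ P, a ∉ Q.biUnion orb :=
          Finset.exists_mem_notMem_of_card_lt_card hbig
        have hnotorb : ∀ b ∈ Q, ∀ h, act h b ≠ a := fun b hb h hh =>
          ha (Finset.mem_biUnion.2 ⟨b, hb, Finset.mem_image.2 ⟨h, Finset.mem_univ _, hh⟩⟩)
        have hself : ∀ b ∈ Q, b ≠ a := fun b hb hba => hnotorb b hb 1 (by simpa using hba)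
        refine ⟨insert a Q, Finset.insert_subset haP hQP, ?_, ?_⟩
        · rw [Finset.card_insert_of_notMem (fun h => hself a h rfl), hQc]
        · intro b hb c hc h hh
          rcases Finset.mem_insert.1 hb with hba | hb
          · rcases Finset.mem_insert.1 hc with hca | hc
            · rw [hba, hca]
            · rw [hba] at hh
              exact absurd (by rw [← hh, ← hcomp, inv_mul_cancel, map_one]; rfl) (hnotorb c hc h⁻¹)
          · rcases Finset.mem_insert.1 hc with hca | hc
            · exact absurd (hh.trans hca) (hnotorb b hb h)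
            · exact hQ b hb c hc h hh
    obtain ⟨Q, hQP, hQc, hQ⟩ := hsel r le_rfl
    refine ⟨fun i => (Q.equivFinOfCardEq hQc).symm i, fun i => ?_, fun i j h hh => ?_⟩
    · exact (Finset.mem_filter.1 (hQP ((Q.equivFinOfCardEq hQc).symm i).2)).2
    · exact (Q.equivFinOfCardEq hQc).symm.injective (Subtype.ext (hQ _ (Subtype.coe_prop _) _ (Subtype.coe_prop _) h hh))
  -- the pairs (coset, index) embed in the points
  let D : Finset (Fin m) := Finset.univ.image (fun p : H × Fin r => act p.1 (x p.2))
  have hmove : ∀ (π : Equiv.Perm (Fin r)) (a b : H) (i j : Fin r), act a (x i) = act b (x j) →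
      act a (x (π i)) = act b (x (π j)) := by
    intro π a b i j h
    have h' : act (b⁻¹ * a) (x i) = x j := by
      rw [hcomp, h, ← hcomp, inv_mul_cancel, map_one]; rfl
    have hij := hxorb i j _ h'
    subst hij
    have hmem : b⁻¹ * a ∈ S (x i) := (hS _ _).2 h'
    rw [hxP, ← hxP (π i), hS] at hmem
    calc act a (x (π i)) = act (b * (b⁻¹ * a)) (x (π i)) := by rw [mul_inv_cancel_left]
      _ = act b (x (π i)) := by rw [hcomp, hmem]
  have hrep : ∀ y : D, ∃ p : H × Fin r, act p.1 (x p.2) = (y : Fin m) := by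
    intro y
    obtain ⟨p, -, hp⟩ := Finset.mem_image.1 y.2
    exact ⟨p, hp⟩
  choose rep hrep using hrep
  let g : Equiv.Perm (Fin r) → D → D := fun π y =>
    ⟨act (rep y).1 (x (π (rep y).2)), Finset.mem_image.2 ⟨((rep y).1, π (rep y).2), Finset.mem_univ _, rfl⟩⟩
  have hg : ∀ π (a : H) i (hmem : act a (x i) ∈ D), (g π ⟨act a (x i), hmem⟩ : Fin m) = act a (x (π i)) :=
    fun π a i hmem => hmove π _ _ _ _ (hrep _)
  have hgmul : ∀ π π' y, g (π * π') y = g π (g π' y) := fun π π' y => Subtype.ext (hg π _ _ _).symm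
  have hg1 : ∀ y, g 1 y = y := fun y => Subtype.ext (hrep y)
  let Φ : Equiv.Perm (Fin r) →* Equiv.Perm D :=
    { toFun := fun π => ⟨g π, g π⁻¹, fun y => by rw [← hgmul, inv_mul_cancel, hg1],
        fun y => by rw [← hgmul, mul_inv_cancel, hg1]⟩
      map_one' := Equiv.ext hg1
      map_mul' := fun π π' => Equiv.ext (hgmul π π') }
  let Ψ : Equiv.Perm (Fin r) →* Equiv.Perm (Fin m) := Equiv.Perm.ofSubtype.comp Φ
  have hΨmem : ∀ π a i, Ψ π (act a (x i)) = act a (x (π i)) := by
    intro π a i
    have hmem : act a (x i) ∈ D := Finset.mem_image.2 ⟨(a, i), Finset.mem_univ _, rfl⟩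
    show Equiv.Perm.ofSubtype (Φ π) _ = _
    rw [Equiv.Perm.ofSubtype_apply_of_mem _ hmem]
    exact hg π a i hmem
  have hΨnot : ∀ π y, y ∉ D → Ψ π y = y := fun π y hy =>
    Equiv.Perm.ofSubtype_apply_of_not_mem _ hy
  have hinj : Function.Injective Ψ := by
    intro π π' h
    refine Equiv.ext fun i => ?_
    have h1 := hΨmem π 1 i
    rw [h, hΨmem π' 1 i] at h1
    exact (hxorb (π i) (π' i) 1 (by simpa using h1.symm))
  have hcentral : ∀ π (h : H) y, Ψ π (act h y) = act h (Ψ π y) := by
    intro π h y
    by_cases hy : y ∈ D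
    · obtain ⟨⟨a, i⟩, -, rfl⟩ := Finset.mem_image.1 hy
      rw [← hcomp, hΨmem, hΨmem, hcomp]
    · have hy' : act h y ∉ D := by
        intro hc
        obtain ⟨⟨a, i⟩, -, hai⟩ := Finset.mem_image.1 hc
        refine hy (Finset.mem_image.2 ⟨(h⁻¹ * a, i), Finset.mem_univ _, ?_⟩)
        rw [hcomp, hai, ← hcomp, inv_mul_cancel, map_one]; rfl
      rw [hΨnot π y hy, hΨnot π _ hy']
  have heven : ∀ π ∈ alternatingGroup (Fin r), Ψ π ∈ alternatingGroup (Fin m) := by
    intro π hπ
    rw [Equiv.Perm.mem_alternatingGroup] at hπ ⊢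
    set s := (Equiv.Perm.sign : Equiv.Perm (Fin m) →* ℤˣ).comp Ψ
    by_cases hs : Function.Surjective s
    · show s π = 1
      rw [Equiv.Perm.eq_sign_of_surjective_hom hs, hπ]
    · show s π = 1
      rcases Int.units_eq_one_or (s π) with h | h
      · exact h
      · refine absurd (fun u => ?_) hs
        rcases Int.units_eq_one_or u with rfl | rfl
        · exact ⟨1, map_one _⟩
        · exact ⟨π, h⟩
  let Θ : alternatingGroup (Fin r) →* alternatingGroup (Fin m) :=
    (Ψ.comp (alternatingGroup (Fin r)).subtype).codRestrict _ fun π => heven _ π.2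
  have hΘ : Function.Injective Θ := fun a b h => Subtype.ext (hinj (congrArg Subtype.val h))
  refine ⟨Θ.range, ⟨(MonoidHom.ofInjective hΘ).symm⟩, ?_⟩
  rintro _ ⟨π, rfl⟩
  rw [Subgroup.mem_centralizer_iff]
  intro h hh
  exact Subtype.ext (Equiv.ext fun y => (hcentral _ ⟨h, hh⟩ y).symm)

end Cfsg.Agent.S2532
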