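import Cfsg.Statements.S2533

set_option autoImplicit false
open Cfsg

namespace Cfsg.Agent.S2533

/-- For every odd prime `p` there is a finite group `H` of order `2p³` which, for infinitely many `n`, embeds in the projective special linear group `PSL(n, p)` as a subgroup with trivial centralizer. -/
theorem result
    (p : ℕ) [Fact p.Prime] (hp : p ≠ 2) :
    ∃ (H : Type) (_ : Group H) (_ : Finite H), Nat.card H = 2 * p ^ 3 ∧
      ∀ N : ℕ, ∃ n, N ≤ n ∧ ∃ φ : H →* Matrix.ProjectiveSpecialLinearGroup (Fin n) (ZMod p),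
        Function.Injective φ ∧ Subgroup.centralizer (φ.range : Set (Matrix.ProjectiveSpecialLinearGroup (Fin n) (ZMod p))) = ⊥ := by
  classical
  let inv' : ℤˣ →* MulAut (Multiplicative (Fin 3 → ZMod p)) :=
    (MulAutMultiplicative (Fin 3 → ZMod p)).symm.toMonoidHom.comp
      (DistribMulAction.toAddAut ℤˣ (Fin 3 → ZMod p))
  let H := Multiplicative (Fin 3 → ZMod p) ⋊[inv'] ℤˣ
  haveI : Finite H := Finite.of_equiv _ SemidirectProduct.equivProd.symm
  refine ⟨H, inferInstance, inferInstance, ?_, ?_⟩
  · rw [Nat.card_congr SemidirectProduct.equivProd, Nat.card_prod,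
      Nat.card_congr Multiplicative.toAdd, Nat.card_fun, Nat.card_zmod]
    simp [Nat.card_eq_fintype_card, mul_comm]
  haveI : Fact (2 < p) := ⟨by have := (Fact.out : p.Prime).two_le; omega⟩
  intro N
  -- n = m + m with m = 2 * (N + 2)
  obtain ⟨m, hm, hme, hNm⟩ : ∃ m : ℕ, 3 ≤ m ∧ Even m ∧ N ≤ m + m :=
    ⟨2 * (N + 2), by omega, even_two_mul _, by omega⟩
  refine ⟨m + m, hNm, ?_⟩
  let e : Matrix (Fin m ⊕ Fin m) (Fin m ⊕ Fin m) (ZMod p) ≃ₐ[ZMod p]
      Matrix (Fin (m + m)) (Fin (m + m)) (ZMod p) := Matrix.reindexAlgEquiv _ _ finSumFinEquiv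
  let N₁ : Matrix (Fin m) (Fin m) (ZMod p) := Matrix.of fun i j => if (i : ℕ) = j + 1 then 1 else 0
  let A : (Fin 3 → ZMod p) → Matrix (Fin m) (Fin m) (ZMod p) := fun v =>
    v 0 • (1 : Matrix (Fin m) (Fin m) (ZMod p)) + v 1 • N₁ + v 2 • N₁.transpose
  have hAadd : ∀ v w, A (v + w) = A v + A w := fun v w => by
    simp only [A, Pi.add_apply, add_smul]; abel
  have hAz : ∀ (u : ℤˣ) v, A (u • v) = ((u : ℤ) : ZMod p) • A v := by
    intro u v
    simp only [A, Pi.smul_apply, Units.smul_def, zsmul_eq_mul, smul_add, smul_smul, Pi.mul_apply, Pi.intCast_apply]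
  have hAneg : ∀ v, A (-v) = -A v := fun v => by simp only [A, Pi.neg_apply, neg_smul]; abel
  let U : (Fin 3 → ZMod p) → Matrix (Fin m ⊕ Fin m) (Fin m ⊕ Fin m) (ZMod p) := fun v =>
    Matrix.fromBlocks 1 (A v) 0 1
  let E : ℤˣ → Matrix (Fin m ⊕ Fin m) (Fin m ⊕ Fin m) (ZMod p) := fun u =>
    Matrix.fromBlocks 1 0 0 (((u : ℤ) : ZMod p) • 1)
  have hdetU : ∀ v, (U v).det = 1 := fun v => by simp [U, Matrix.det_fromBlocks_zero₂₁]
  have hdetE : ∀ u, (E u).det = 1 := fun u => by
    simp only [E, Matrix.det_fromBlocks_zero₂₁, Matrix.det_one, Matrix.det_smul, Fintype.card_fin]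
    rcases Int.units_eq_one_or u with rfl | rfl <;> simp [hme.neg_one_pow]
  let SL := Matrix.SpecialLinearGroup (Fin (m + m)) (ZMod p)
  let f₁ : Multiplicative (Fin 3 → ZMod p) →* SL :=
    { toFun := fun v => ⟨e (U v.toAdd), by rw [Matrix.det_reindexAlgEquiv]; exact hdetU _⟩
      map_one' := Subtype.ext (by simp [U, A])
      map_mul' := fun v w => Subtype.ext (by
        show e (U (v.toAdd + w.toAdd)) = e (U v.toAdd) * e (U w.toAdd)
        rw [← map_mul]; simp [U, Matrix.fromBlocks_multiply, hAadd, add_comm]) }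
  let f₂ : ℤˣ →* SL :=
    { toFun := fun u => ⟨e (E u), by rw [Matrix.det_reindexAlgEquiv]; exact hdetE _⟩
      map_one' := Subtype.ext (by simp [E])
      map_mul' := fun u w => Subtype.ext (by
        show e (E (u * w)) = e (E u) * e (E w)
        rw [← map_mul]; simp [E, Matrix.fromBlocks_multiply, smul_smul, mul_comm]) }
  let ψ : H →* SL := SemidirectProduct.lift f₁ f₂ (by
    intro u
    refine MonoidHom.ext fun v => ?_
    refine Subtype.ext ?_
    show e (U (u • v.toAdd)) = (f₂ u * f₁ v * (f₂ u)⁻¹ : SL).1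
    rw [← map_inv]
    show _ = e (E u) * e (U v.toAdd) * e (E u⁻¹)
    rw [← map_mul, ← map_mul]
    rcases Int.units_eq_one_or u with rfl | rfl <;>
      simp [U, E, Matrix.fromBlocks_multiply, hAz, hAneg])
  refine ⟨(QuotientGroup.mk' _).comp ψ, ?_, ?_⟩
  · -- injective
    rw [← MonoidHom.ker_eq_bot_iff, Subgroup.eq_bot_iff_forall]
    intro h hh
    rw [MonoidHom.mem_ker, MonoidHom.comp_apply, QuotientGroup.mk'_apply, QuotientGroup.eq_one_iff,
      Matrix.SpecialLinearGroup.mem_center_iff] at hh
    obtain ⟨c, -, hc⟩ := hh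
    have hval : (ψ h).1 = e (Matrix.fromBlocks 1 (((h.right : ℤ) : ZMod p) • A h.left.toAdd) 0
        (((h.right : ℤ) : ZMod p) • 1)) := by
      show (f₁ h.left * f₂ h.right : SL).1 = _
      show e (U _) * e (E _) = _
      rw [← map_mul]; simp [U, E, Matrix.fromBlocks_multiply]
    have hc' : Matrix.fromBlocks 1 (((h.right : ℤ) : ZMod p) • A h.left.toAdd) 0
        (((h.right : ℤ) : ZMod p) • 1) = Matrix.scalar (Fin m ⊕ Fin m) c := by
      apply e.injective
      rw [← hval, ← hc]
      ext a b
      simp [e, Matrix.scalar_apply, Matrix.diagonal_apply]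
    have i0 : Fin m := ⟨0, by omega⟩
    have h1 := congrFun (congrFun hc' (Sum.inl i0)) (Sum.inl i0)
    have h2 := congrFun (congrFun hc' (Sum.inr i0)) (Sum.inr i0)
    simp at h1 h2
    rw [← h1] at h2
    have hr : h.right = 1 := by
      rcases Int.units_eq_one_or h.right with hr | hr
      · exact hr
      · rw [hr] at h2
        exact absurd (by simpa using h2) (ZMod.neg_one_ne_one (n := p))
    have hA : ∀ a b, A h.left.toAdd a b = 0 := fun a b => by
      have := congrFun (congrFun hc' (Sum.inl a)) (Sum.inr b)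
      simpa [hr] using this
    have hv : h.left.toAdd = 0 := by
      funext k
      fin_cases k
      · simpa [A, N₁] using hA i0 i0
      · simpa [A, N₁, Matrix.one_apply, Fin.ext_iff] using hA ⟨1, by omega⟩ ⟨0, by omega⟩
      · simpa [A, N₁, Matrix.one_apply, Fin.ext_iff] using hA ⟨0, by omega⟩ ⟨1, by omega⟩
    exact SemidirectProduct.ext (Multiplicative.toAdd.injective (by simpa using hv)) hr
  · -- trivial centraliser
    refine (Subgroup.eq_bot_iff_forall _).2 fun g hg => ?_
    obtain ⟨g, rfl⟩ := QuotientGroup.mk_surjective g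
    obtain ⟨a, b, d, d', hgval⟩ : ∃ a b d d', g.1 = e (Matrix.fromBlocks a b d d') :=
      ⟨_, _, _, _, (e.apply_symm_apply g.1).symm.trans (congrArg e (Matrix.fromBlocks_toBlocks _).symm)⟩
    have key : ∀ h : H, ∃ c : ZMod p, g.1 * (ψ h).1 = c • ((ψ h).1 * g.1) := by
      intro h
      have := Subgroup.mem_centralizer_iff.1 hg _ ⟨h, rfl⟩
      simp only [MonoidHom.comp_apply, QuotientGroup.mk'_apply, ← QuotientGroup.mk_mul] at this
      obtain ⟨c, -, hc⟩ := Matrix.SpecialLinearGroup.mem_center_iff.1 (QuotientGroup.eq.1 this)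
      refine ⟨c, ?_⟩
      have h'' : g.1 * (ψ h).1 = ((ψ h).1 * g.1) * ((ψ h * g)⁻¹ * (g * ψ h)).1 :=
        congrArg Subtype.val (mul_inv_cancel_left (ψ h * g) (g * ψ h)).symm
      exact h''.trans (by rw [← hc, Matrix.scalar_apply, ← Matrix.smul_one_eq_diagonal, Matrix.mul_smul, mul_one])
    have keyU : ∀ v, ∃ c : ZMod p, a = c • (a + A v * d) ∧ a * A v + b = c • (b + A v * d') ∧
        d = c • d ∧ d * A v + d' = c • d' := by
      intro v
      obtain ⟨c, hc⟩ := key (SemidirectProduct.inl (Multiplicative.ofAdd v))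
      refine ⟨c, ?_⟩
      rw [show (ψ (SemidirectProduct.inl (Multiplicative.ofAdd v))).1 = e (U v) by
          show (f₁ (Multiplicative.ofAdd v) * f₂ 1).1 = _
          rw [map_one, mul_one]; rfl, hgval,
        ← map_mul, ← map_mul, ← map_smul] at hc
      have hc2 := e.injective hc
      simp only [U, Matrix.fromBlocks_multiply, Matrix.fromBlocks_smul, Matrix.fromBlocks_inj] at hc2
      simpa using hc2
    have hdet : ¬ (a = 0 ∧ d = 0) := by
      rintro ⟨rfl, rfl⟩
      have := g.2
      haveI hne : Nonempty (Fin m) := ⟨⟨0, by omega⟩⟩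
      rw [hgval, Matrix.det_reindexAlgEquiv, Matrix.det_fromBlocks_zero₂₁, Matrix.det_zero,
        zero_mul] at this
      exact zero_ne_one this
    let e0 : Fin 3 → ZMod p := Pi.single 0 1
    obtain ⟨c, h11, h12, h21, h22⟩ := keyU e0
    have hA0 : A e0 = 1 := by simp [A, e0]
    rw [hA0] at h11 h12 h22
    simp only [one_mul, mul_one] at h11 h12 h22
    have hc1 : c = 1 := by
      by_contra hne
      have hd : d = 0 := by
        have h : (1 - c) • d = 0 := by rw [sub_smul, one_smul, ← h21, sub_self]
        exact (smul_eq_zero.1 h).resolve_left (sub_ne_zero.2 (Ne.symm hne))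
      have ha : a = 0 := by
        have h : (1 - c) • a = 0 := by
          rw [sub_smul, one_smul]
          rw [hd, add_zero] at h11
          rw [← h11, sub_self]
        exact (smul_eq_zero.1 h).resolve_left (sub_ne_zero.2 (Ne.symm hne))
      exact hdet ⟨ha, hd⟩
    subst hc1
    simp only [one_smul] at h11 h12 h22
    have hd : d = 0 := add_eq_left.1 h11.symm
    have had : a = d' := by rw [add_comm b d'] at h12; exact add_right_cancel h12
    have hcomm : ∀ v, Commute a (A v) := by
      intro v
      obtain ⟨c, h11, h12, h21, h22⟩ := keyU v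
      rw [hd, Matrix.mul_zero, add_zero] at h11
      have hc1 : c = 1 := by
        by_contra hne
        have h : (1 - c) • a = 0 := by rw [sub_smul, one_smul, ← h11, sub_self]
        exact hdet ⟨(smul_eq_zero.1 h).resolve_left (sub_ne_zero.2 (Ne.symm hne)), hd⟩
      rw [hc1, one_smul, ← had, add_comm b] at h12
      exact add_right_cancel h12
    have hb : b = 0 := by
      obtain ⟨c, hc⟩ := key (SemidirectProduct.inr (-1))
      rw [show (ψ (SemidirectProduct.inr (-1))).1 = e (E (-1)) by
          show (f₁ 1 * f₂ (-1)).1 = _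
          rw [map_one, one_mul]; rfl, hgval,
        ← map_mul, ← map_mul, ← map_smul] at hc
      have hc2 := e.injective hc
      simp [E, Matrix.fromBlocks_multiply, Matrix.fromBlocks_smul] at hc2
      obtain ⟨h1, h2, -, -⟩ := hc2
      have hc1 : c = 1 := by
        by_contra hne
        have h : (1 - c) • a = 0 := by rw [sub_smul, one_smul, ← h1, sub_self]
        exact hdet ⟨(smul_eq_zero.1 h).resolve_left (sub_ne_zero.2 (Ne.symm hne)), hd⟩
      rw [hc1, one_smul] at h2
      have h3 : (2 : ZMod p) • b = 0 := by rw [two_smul]; nth_rw 1 [← h2]; exact neg_add_cancel b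
      refine (smul_eq_zero.1 h3).resolve_left ?_
      intro h4
      exact ZMod.neg_one_ne_one (n := p) (by linear_combination -h4)
    have hN : Commute a N₁ := by simpa [A] using hcomm (Pi.single 1 1)
    have hNT : Commute a N₁.transpose := by simpa [A] using hcomm (Pi.single 2 1)
    obtain ⟨t, ht⟩ : ∃ t : ZMod p, a = Matrix.scalar (Fin m) t := by
      obtain ⟨k, rfl⟩ : ∃ k, m = k + 1 := ⟨m - 1, by omega⟩
      have hN1 : ∀ i j : Fin (k + 1), N₁ i j = if (i : ℕ) = j + 1 then 1 else 0 := fun i j => rfl
      have e1 : ∀ (r c : Fin (k + 1)), (a * N₁) r c = if h : (c : ℕ) + 1 < k + 1 then a r ⟨c + 1, h⟩ else 0 := by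
        intro r c
        rw [Matrix.mul_apply]
        split_ifs with h
        · rw [Finset.sum_eq_single ⟨c + 1, h⟩ ?_ (fun hh => absurd (Finset.mem_univ _) hh), hN1, if_pos rfl, mul_one]
          intro b _ hb
          rw [hN1, if_neg fun hh => hb (Fin.ext hh), mul_zero]
        · refine Finset.sum_eq_zero fun b _ => ?_
          rw [hN1, if_neg (by omega), mul_zero]
      have e2 : ∀ (r c : Fin (k + 1)), (N₁ * a) r c = if h : 0 < (r : ℕ) then a ⟨r - 1, by omega⟩ c else 0 := by
        intro r c
        rw [Matrix.mul_apply]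
        split_ifs with h
        · rw [Finset.sum_eq_single ⟨r - 1, by omega⟩ ?_ (fun hh => absurd (Finset.mem_univ _) hh), hN1,
            if_pos (Nat.sub_add_cancel h).symm, one_mul]
          intro b _ hb
          rw [hN1, if_neg fun hh => hb (Fin.ext (show (b : ℕ) = r - 1 by omega)), zero_mul]
        · refine Finset.sum_eq_zero fun b _ => ?_
          rw [hN1, if_neg (by omega), zero_mul]
      have e3 : ∀ (r c : Fin (k + 1)), (N₁.transpose * a) r c = if h : (r : ℕ) + 1 < k + 1 then a ⟨r + 1, h⟩ c else 0 := by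
        intro r c
        rw [Matrix.mul_apply]
        split_ifs with h
        · rw [Finset.sum_eq_single ⟨r + 1, h⟩ ?_ (fun hh => absurd (Finset.mem_univ _) hh), Matrix.transpose_apply,
            hN1, if_pos rfl, one_mul]
          intro b _ hb
          rw [Matrix.transpose_apply, hN1, if_neg fun hh => hb (Fin.ext hh), zero_mul]
        · refine Finset.sum_eq_zero fun b _ => ?_
          rw [Matrix.transpose_apply, hN1, if_neg (by omega), zero_mul]
      have e4 : ∀ (r c : Fin (k + 1)), (a * N₁.transpose) r c = if h : 0 < (c : ℕ) then a r ⟨c - 1, by omega⟩ else 0 := by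
        intro r c
        rw [Matrix.mul_apply]
        split_ifs with h
        · rw [Finset.sum_eq_single ⟨c - 1, by omega⟩ ?_ (fun hh => absurd (Finset.mem_univ _) hh), Matrix.transpose_apply,
            hN1, if_pos (Nat.sub_add_cancel h).symm, mul_one]
          intro b _ hb
          rw [Matrix.transpose_apply, hN1, if_neg fun hh => hb (Fin.ext (show (b : ℕ) = c - 1 by omega)), mul_zero]
        · refine Finset.sum_eq_zero fun b _ => ?_
          rw [Matrix.transpose_apply, hN1, if_neg (by omega), mul_zero]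
      -- shift along diagonals
      have shift : ∀ r c : Fin (k + 1), ∀ (h : (r : ℕ) + 1 < k + 1) (h' : (c : ℕ) + 1 < k + 1),
          a ⟨r + 1, h⟩ ⟨c + 1, h'⟩ = a r c := by
        intro r c h h'
        have := congrFun (congrFun hN.eq ⟨r + 1, h⟩) c
        rw [e1, e2, dif_pos h', dif_pos (by simp)] at this
        simpa using this
      have top : ∀ c : Fin (k + 1), (c : ℕ) ≠ 0 → a 0 c = 0 := by
        intro c hc
        have := congrFun (congrFun hN.eq 0) ⟨c - 1, by omega⟩
        rw [e1, e2, dif_pos (show ((c : ℕ) - 1) + 1 < k + 1 by omega)] at this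
        simpa [show (c : ℕ) - 1 + 1 = c by omega] using this
      have left : ∀ r : Fin (k + 1), (r : ℕ) ≠ 0 → a r 0 = 0 := by
        intro r hr
        have := congrFun (congrFun hNT.eq ⟨r - 1, by omega⟩) 0
        rw [e3, e4, dif_pos (show ((r : ℕ) - 1) + 1 < k + 1 by omega)] at this
        simpa [show (r : ℕ) - 1 + 1 = r by omega] using this.symm
      refine ⟨a 0 0, ?_⟩
      have all : ∀ n : ℕ, ∀ r c : Fin (k + 1), min (r : ℕ) (c : ℕ) = n →
          a r c = if r = c then a 0 0 else 0 := by
        intro n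
        induction n with
        | zero =>
          intro r c hn
          by_cases hr : (r : ℕ) = 0
          · have hr0 : r = 0 := Fin.ext hr
            subst hr0
            by_cases hc : (c : ℕ) = 0
            · have hc0 : c = 0 := Fin.ext hc
              simp [hc0]
            · rw [top c hc, if_neg (fun h => hc (by rw [← h]; rfl))]
          · have hc0 : c = 0 := Fin.ext (by simp only [Fin.val_zero]; omega)
            subst hc0
            rw [left r hr, if_neg (fun h => hr (by rw [h]; rfl))]
        | succ n ih =>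
          intro r c hn
          have h1 := ih ⟨r - 1, by omega⟩ ⟨c - 1, by omega⟩ (by simp; omega)
          have h2 := shift ⟨r - 1, by omega⟩ ⟨c - 1, by omega⟩ (by simp; omega) (by simp; omega)
          simp only [show (r : ℕ) - 1 + 1 = r by omega, show (c : ℕ) - 1 + 1 = c by omega] at h2
          rw [h2, h1]
          by_cases hrc : r = c
          · simp [hrc]
          · rw [if_neg hrc, if_neg]
            intro h; apply hrc; ext
            have := congrArg Fin.val h
            simp at this; omega
      ext r c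
      rw [all _ r c rfl, Matrix.scalar_apply, Matrix.diagonal_apply]
    have hgs : g.1 = Matrix.scalar (Fin (m + m)) t := by
      rw [hgval, hd, hb, ← had, ht]
      ext r c
      obtain ⟨r, rfl⟩ := finSumFinEquiv.surjective r
      obtain ⟨c, rfl⟩ := finSumFinEquiv.surjective c
      rcases r with r | r <;> rcases c with c | c <;>
        simp only [e, Matrix.reindexAlgEquiv_apply, Matrix.reindex_apply, Matrix.submatrix_apply,
          Equiv.symm_apply_apply, Matrix.scalar_apply, Matrix.fromBlocks_apply₁₁, Matrix.fromBlocks_apply₁₂,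
          Matrix.fromBlocks_apply₂₁, Matrix.fromBlocks_apply₂₂, Matrix.diagonal_apply,
          finSumFinEquiv.injective.eq_iff, Sum.inl.injEq, Sum.inr.injEq, reduceCtorEq, if_false, Matrix.zero_apply]
    rw [QuotientGroup.eq_one_iff, Matrix.SpecialLinearGroup.mem_center_iff]
    refine ⟨t, ?_, hgs.symm⟩
    have := g.2
    rw [hgs, Matrix.scalar_apply, Matrix.det_diagonal, Finset.prod_const, Finset.card_univ] at this
    exact this

end Cfsg.Agent.S2533
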