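import Cfsg.Statements.S2534
import Cfsg.Agent.Lib.KnownC.AnHall.DPi
-- import your own Cfsg.Agent.* helpers here

set_option autoImplicit false
open Cfsg

namespace Cfsg.Agent.S2534

/-- For `n ≥ 5` and a set of primes `π`, the alternating group of degree `n` satisfies the full Sylow analogue for `π` (its maximal `π`-subgroups are pairwise conjugate; for a finite group this says Hall `π`-subgroups exist, are all conjugate, and contain every `π`-subgroup up to conjugacy) if and only if either at most one prime of `π` divides its order or every prime dividing its order lies in `π`. -/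
theorem result (n : ℕ) (hn : 5 ≤ n) (π : Set ℕ) :
    Cfsg.IsDPiGroup π ↥(alternatingGroup (Fin n)) ↔
      ((∀ r s : ℕ, r.Prime → s.Prime → r ∈ π → s ∈ π → r ∣ Nat.card ↥(alternatingGroup (Fin n)) → s ∣ Nat.card ↥(alternatingGroup (Fin n)) → r = s) ∨
        ∀ r : ℕ, r.Prime → r ∣ Nat.card ↥(alternatingGroup (Fin n)) → r ∈ π) := by
  classical
  have hle : ∀ r : ℕ, r.Prime → r ∣ Nat.card ↥(alternatingGroup (Fin n)) → r ≤ n := fun r hr hd => by
    simpa using Cfsg.Agent.KnownC.AnHall.le_of_dvd_alt hr hd
  have hdvd : ∀ r : ℕ, r.Prime → r ≤ n → r ∣ Nat.card ↥(alternatingGroup (Fin n)) := by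
    intro r hr hrn
    haveI : Nontrivial (Fin n) := Fin.nontrivial_iff_two_le.2 (by omega)
    have h1 : r ∣ 2 * Nat.card ↥(alternatingGroup (Fin n)) := by
      rw [two_mul_nat_card_alternatingGroup, Nat.card_perm, Nat.card_fin]
      exact hr.dvd_factorial.2 hrn
    rcases hr.dvd_mul.1 h1 with h | h
    · obtain rfl := (Nat.prime_dvd_prime_iff_eq hr Nat.prime_two).1 h
      have h4 : Nat.factorial 4 ∣ n.factorial := Nat.factorial_dvd_factorial (by omega)
      have h5 : 2 * Nat.card ↥(alternatingGroup (Fin n)) = n.factorial := by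
        rw [two_mul_nat_card_alternatingGroup, Nat.card_perm, Nat.card_fin]
      rw [← h5] at h4
      have : 2 * 2 ∣ 2 * Nat.card ↥(alternatingGroup (Fin n)) := dvd_trans (by decide) h4
      exact (Nat.mul_dvd_mul_iff_left (by norm_num : 0 < 2)).1 this
    · exact h
  constructor
  · intro hD
    by_contra hc
    simp only [not_or] at hc
    obtain ⟨hc1, hc2⟩ := hc
    refine Cfsg.Agent.KnownC.AnHall.not_D hn ?_ hc2 hD
    intro h1
    apply hc1
    intro r s hr hs hrp hsp hrd hsd
    exact h1 r s hr hs hrp hsp (hrd.trans (Subgroup.card_subgroup_dvd_card _))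
      (hsd.trans (Subgroup.card_subgroup_dvd_card _))
  · rintro (h | h)
    · exact Cfsg.Agent.KnownC.AnHall.D_of_atMostOne fun p r hp hr hpi hri hpd hrd =>
        h p r hp hr hpi hri hpd hrd
    · exact Cfsg.Agent.KnownC.AnHall.D_of_all h

end Cfsg.Agent.S2534
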