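import Cfsg.Statements.S2536
import Cfsg.Agent.Lib.KnownC.AnHall.Main

set_option autoImplicit false
open Cfsg

namespace Cfsg.Agent.S2536

open Cfsg.Agent.KnownC.AnHall

/-- A binomial coefficient without prime factors `≤ a` is coprime to what has only such factors. -/
theorem coprime_big {C d a : ℕ} (hC : ∀ p, p.Prime → p ≤ a → ¬ p ∣ C) (hd : ∀ p, p.Prime → p ∣ d → p ≤ a) :
    d.Coprime C :=
  Nat.coprime_of_dvd fun p hp h1 h2 => hC p hp (hd p hp h1) h2

theorem prime_le_of_dvd_composite {d a : ℕ} (hd : 1 < d) (hnp : ¬ d.Prime) (hle : d ≤ 2 * a + 1)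
    {p : ℕ} (hp : p.Prime) (h : p ∣ d) : p ≤ a := by
  obtain ⟨c, rfl⟩ := h
  rcases c with _ | _ | c
  · omega
  · exact absurd (by simpa using hp) hnp
  · have : p * 2 ≤ p * (c + 1 + 1) := Nat.mul_le_mul_left p (by omega)
    omega

theorem choose_mul_pair (n k : ℕ) : n.choose (k + 1) * (k + 1) = n.choose k * (n - k) :=
  Nat.choose_succ_right_eq n k

theorem small_cases : (∀ p, p.Prime → p ≤ 10 → ¬ p ∣ Nat.choose 19 9) → False := fun h =>
  h 2 Nat.prime_two (by norm_num) (by decide +kernel)

/-- The case of two parts of different sizes. -/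
theorem two_parts {a r : ℕ} (hr : 2 ≤ r) (hra : r < a)
    (hC : ∀ p, p.Prime → p ≤ a → ¬ p ∣ (a + r).choose r) : a = 4 ∧ r = 3 := by
  obtain ⟨r, rfl⟩ : ∃ s, r = s + 2 := ⟨r - 2, by omega⟩
  set n := a + (r + 2) with hn
  set C := n.choose (r + 2) with hCdef
  -- the neighbours of `C`
  have e1 : C * (r + 2) = n.choose (r + 1) * (a + 1) := by
    rw [hCdef, choose_mul_pair n (r + 1), show n - (r + 1) = a + 1 by omega]
  have e2 : C * ((r + 2) * (r + 1)) = n.choose r * ((a + 1) * (a + 2)) := by
    rw [← mul_assoc, e1, mul_right_comm, choose_mul_pair n r, show n - r = a + 2 by omega]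
    ring
  have e3 : n.choose (r + 3) * (r + 3) = C * a := by
    rw [hCdef, choose_mul_pair n (r + 2), show n - (r + 2) = a by omega]
  -- `a + 1` is a prime
  have hq : (a + 1).Prime := by
    by_contra hnp
    have hd : (a + 1) ∣ r + 2 :=
      (coprime_big hC fun p hp h => prime_le_of_dvd_composite (by omega) hnp (by omega) hp h).dvd_of_dvd_mul_left
        (Dvd.intro_left _ e1.symm)
    have := Nat.le_of_dvd (by omega) hd
    omega
  have heven : ¬ (a + 2).Prime := by
    intro h
    rcases hq.eq_two_or_odd with h' | h'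
    · omega
    rcases h.eq_two_or_odd with h'' | h'' <;> omega
  -- so `a + 2` divides `r (r - 1)` and `r + 1` divides `a`
  have hd2 : (a + 2) ∣ (r + 2) * (r + 1) := by
    refine (coprime_big hC fun p hp h => prime_le_of_dvd_composite (by omega) heven (by omega) hp h).dvd_of_dvd_mul_left
      ?_
    exact ⟨n.choose r * (a + 1), by rw [e2]; ring⟩
  have hd1 : (r + 3) ∣ a := by
    refine (coprime_big hC fun p hp h => ?_).dvd_of_dvd_mul_left (Dvd.intro_left _ e3)
    exact (Nat.le_of_dvd (by omega) h).trans (by omega)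
  obtain ⟨k, hk⟩ := hd1
  obtain ⟨e, he⟩ := hd2
  have hk0 : 1 ≤ k := by rcases k with _ | k <;> omega
  have he0 : 1 ≤ e := by rcases e with _ | e <;> [simp at he; omega]
  subst hk
  -- `(r + 2)(r + 1 - e k) = e (k + 2)`
  have hek : e * k < r + 1 := by
    by_contra hlt
    push Not at hlt
    have : (r + 1) * (r + 3) ≤ e * k * (r + 3) := Nat.mul_le_mul_right _ hlt
    nlinarith [Nat.mul_le_mul he0 (le_refl 2)]
  obtain ⟨m, hm⟩ : ∃ m, r + 1 = e * k + m + 1 := ⟨r - e * k, by omega⟩
  have key : (r + 2) * (m + 1) = e * (k + 2) := by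
    have : (r + 2) * (r + 1) = e * k * (r + 2) + e * (k + 2) := by rw [he]; ring
    rw [hm] at this
    nlinarith
  have hm2 : m + 1 < 3 := by
    by_contra hlt
    push Not at hlt
    have h3 : e * (k + 2) ≤ 3 * (e * k) := by nlinarith
    have : (r + 2) * 3 ≤ (r + 2) * (m + 1) := Nat.mul_le_mul_left _ hlt
    omega
  obtain hm' | hm' : m = 0 ∨ m = 1 := by omega
  · subst hm'
    have hr2 : r + 2 = e * k + 2 := by omega
    have : e * 2 = 2 := by nlinarith
    obtain rfl : e = 1 := by omega
    obtain rfl : r = k := by omega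
    -- `a = k (k + 3)` with `r = k`
    by_cases hone : r = 1
    · subst hone; omega
    have e4 : n.choose (r + 4) * ((r + 4) * (r + 3)) = C * (r * (r + 3) * (r * (r + 3) - 1)) := by
      have h4 := choose_mul_pair n (r + 3)
      rw [show n - (r + 3) = r * (r + 3) - 1 by rw [hn, mul_comm r]; omega] at h4
      rw [← mul_assoc, h4, mul_right_comm, e3]
      ring
    have hra' : r + 4 ≤ r * (r + 3) := by
      have : 2 * (r + 3) ≤ r * (r + 3) := Nat.mul_le_mul_right _ (by omega)
      omega
    have hd4 : (r + 4) * (r + 3) ∣ r * (r + 3) * (r * (r + 3) - 1) := by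
      refine (coprime_big hC fun p hp h => ?_).dvd_of_dvd_mul_left (Dvd.intro_left _ e4)
      have h1 : p ≤ r + 4 := by
        rcases hp.dvd_mul.1 h with h' | h' <;> have := Nat.le_of_dvd (by omega) h' <;> omega
      rw [mul_comm]; omega
    have hd5 : (r + 4) ∣ r * (r * (r + 3) - 1) := by
      rw [mul_right_comm] at hd4
      exact (Nat.mul_dvd_mul_iff_right (by omega)).1 hd4
    have h12 : (r + 4) ∣ 12 := by
      have hz : ((r : ℤ) + 4) ∣ 12 := by
        have h5 : ((r : ℤ) + 4) ∣ (r : ℤ) * ((r : ℤ) * (r + 3) - 1) := by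
          have := Int.natCast_dvd_natCast.2 hd5
          push_cast [Nat.cast_sub (show 1 ≤ r * (r + 3) by omega)] at this
          exact this
        have h6 : ((r : ℤ) + 4) ∣ (r : ℤ) * ((r : ℤ) * (r + 3) - 1) + 12 := ⟨(r : ℤ) ^ 2 - r + 3, by ring⟩
        simpa using dvd_sub h6 h5
      exact_mod_cast hz
    have hr8 : r ≤ 8 := by have := Nat.le_of_dvd (by norm_num) h12; omega
    exfalso
    interval_cases r <;> first | (norm_num at h12; done) | (norm_num at hone; done) | skip
    · exact hC 7 (by norm_num) (by norm_num) (by rw [hCdef, hn]; decide +kernel)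
    · exact hC 2 (by norm_num) (by norm_num) (by rw [hCdef, hn]; decide +kernel)
  · subst hm'
    have h6 : 2 * (e * k) + 6 = e * k + 2 * e := by nlinarith
    have hk1 : k = 1 := by
      by_contra hne
      have : e * 2 ≤ e * k := Nat.mul_le_mul_left e (by omega)
      omega
    subst hk1
    obtain rfl : e = 6 := by omega
    obtain rfl : r = 7 := by omega
    exact (small_cases hC).elim

/-- The case of two equal parts. -/
theorem equal_parts {e : ℕ} (ha : 4 ≤ 2 ^ e)
    (hC : ∀ p, p.Prime → p ≤ 2 ^ e → p ≠ 2 → ¬ p ∣ (2 * 2 ^ e).choose (2 ^ e)) : 2 ^ e = 4 := by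
  obtain ⟨e, rfl⟩ : ∃ f, e = f + 1 := ⟨e - 1, by rcases e with _ | e <;> [simp at ha; omega]⟩
  rw [pow_succ] at *
  set t := 2 ^ e with ht
  obtain ⟨s, hs⟩ : ∃ s, t * 2 = s + 2 := ⟨t * 2 - 2, by omega⟩
  rw [hs] at hC ha ⊢
  set C := (2 * (s + 2)).choose (s + 2) with hCdef
  have e1 : C * (s + 2) = (2 * (s + 2)).choose (s + 1) * (s + 3) := by
    rw [hCdef, choose_mul_pair (2 * (s + 2)) (s + 1), show 2 * (s + 2) - (s + 1) = s + 3 by omega]
  have hodd : ∀ d, Odd d → 1 < d → ¬ (d.Prime ∧ s + 2 < d) → d ≤ 2 * (s + 2) + 1 → d.Coprime C := by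
    intro d hd h1 hnp hle
    refine Nat.coprime_of_dvd fun p hp h1' h2' => hC p hp ?_ ?_ h2'
    · by_cases hdp : d.Prime
      · obtain rfl := (Nat.prime_dvd_prime_iff_eq hp hdp).1 h1'
        exact not_lt.1 fun h => hnp ⟨hdp, h⟩
      · exact prime_le_of_dvd_composite h1 hdp hle hp h1'
    · rintro rfl
      exact Nat.not_even_iff_odd.2 hd (even_iff_two_dvd.2 h1')
  have hq : (s + 3).Prime := by
    by_contra hnp
    have hd := (hodd (s + 3) ⟨t, by omega⟩ (by omega) (fun h => hnp h.1) (by omega)).dvd_of_dvd_mul_left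
      (Dvd.intro_left _ e1.symm)
    have := Nat.le_of_dvd (by omega) hd
    omega
  have e2 : C * ((s + 2) * (s + 1)) = (2 * (s + 2)).choose s * ((s + 3) * (s + 4)) := by
    rw [← mul_assoc, e1, mul_right_comm, choose_mul_pair (2 * (s + 2)) s, show 2 * (s + 2) - s = s + 4 by omega]
    ring
  have htodd : Odd (t + 1) := by
    rcases e with _ | f
    · simp at ht; omega
    · exact ⟨2 ^ f, by rw [ht, pow_succ]; ring⟩
  have hd : (t + 1) ∣ (s + 2) * (s + 1) := by
    refine (hodd (t + 1) htodd (by omega) (fun h => by omega) (by omega)).dvd_of_dvd_mul_left ?_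
    exact ⟨2 * ((2 * (s + 2)).choose s * (s + 3)), by rw [e2, show s + 4 = 2 * (t + 1) by omega]; ring⟩
  have hco : (t + 1).Coprime (s + 2) := by
    rw [← hs]
    exact Nat.Coprime.mul_right (Nat.coprime_self_add_left.2 (Nat.coprime_one_left t))
      (Nat.coprime_comm.1 ((Nat.Prime.coprime_iff_not_dvd Nat.prime_two).2 fun h =>
        Nat.not_even_iff_odd.2 htodd (even_iff_two_dvd.2 h)))
  have h3 := hco.dvd_of_dvd_mul_left hd
  have : (t + 1) ∣ 3 := by
    have h4 : (t + 1) ∣ (s + 1) + 3 := ⟨2, by omega⟩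
    exact (Nat.dvd_add_right h3).1 h4
  have := Nat.le_of_dvd (by norm_num) this
  omega

theorem point_hall {n : ℕ} {π : Set ℕ} (hn : n.Prime)
    (hπ : ∀ r : ℕ, r.Prime → r ≤ n → (r ∈ π ↔ r < n)) : Cfsg.IsEPiGroup π (Equiv.Perm (Fin n)) := by
  haveI : NeZero n := ⟨hn.ne_zero⟩
  haveI : MulAction.IsPretransitive (Equiv.Perm (Fin n)) (Fin n) :=
    ⟨fun x y => ⟨Equiv.swap x y, Equiv.swap_apply_left x y⟩⟩
  refine ⟨MulAction.stabilizer (Equiv.Perm (Fin n)) (0 : Fin n), ?_⟩
  have hi : (MulAction.stabilizer (Equiv.Perm (Fin n)) (0 : Fin n)).index = n := by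
    rw [MulAction.index_stabilizer_of_transitive, Nat.card_fin]
  have hc : Nat.card ↥(MulAction.stabilizer (Equiv.Perm (Fin n)) (0 : Fin n)) = (n - 1).factorial := by
    have h := Subgroup.card_mul_index (MulAction.stabilizer (Equiv.Perm (Fin n)) (0 : Fin n))
    rw [hi, Nat.card_perm, Nat.card_fin, ← Nat.mul_factorial_pred hn.ne_zero, mul_comm] at h
    exact Nat.eq_of_mul_eq_mul_left hn.pos h
  refine ⟨fun p hp hd => ?_, fun p hp hpi hd => ?_⟩
  · rw [hc] at hd
    have := hp.dvd_factorial.1 hd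
    exact (hπ p hp (by omega)).2 (by have := hn.two_le; omega)
  · rw [hi] at hd
    obtain rfl := (Nat.prime_dvd_prime_iff_eq hp hn).1 hd
    exact lt_irrefl p ((hπ p hp le_rfl).1 hpi)

theorem hall_of_card {n c i : ℕ} {π : Set ℕ} (hπ : ∀ r : ℕ, r.Prime → r ≤ n → (r ∈ π ↔ (r = 2 ∨ r = 3)))
    (H : Subgroup (Equiv.Perm (Fin n))) (hc : Nat.card H = c) (hci : c * i = n.factorial)
    (hcp : ∀ p, p.Prime → p ∣ c → p = 2 ∨ p = 3) (hip : ¬ 2 ∣ i ∧ ¬ 3 ∣ i) :
    Cfsg.IsEPiGroup π (Equiv.Perm (Fin n)) := by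
  have hi : H.index = i := by
    have h := Subgroup.card_mul_index H
    rw [Nat.card_perm, Nat.card_fin, hc, ← hci] at h
    exact Nat.eq_of_mul_eq_mul_left (hc ▸ Nat.card_pos) h
  refine ⟨H, fun p hp hd => ?_, fun p hp hpi hd => ?_⟩
  · rw [hc] at hd
    exact (hπ p hp (hp.dvd_factorial.1 (hci ▸ hd.mul_right i))).2 (hcp p hp hd)
  · rw [hi] at hd
    rcases (hπ p hp (hp.dvd_factorial.1 (hci ▸ hd.mul_left c))).1 hpi with rfl | rfl
    · exact hip.1 hd
    · exact hip.2 hd

theorem card_stabK_lab {n : ℕ} (f : Fin n → Fin 2) :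
    Nat.card ↥(stabK (Setoid.ker f)) = ∏ i, (Fintype.card {x // f x = i}).factorial := by
  rw [Nat.card_congr (Equiv.subtypeEquivRight (q := fun g : Equiv.Perm (Fin n) => f ∘ g = f) fun g => ?_),
    Nat.card_eq_fintype_card, DomMulAct.stabilizer_card]
  exact funext_iff.symm

theorem seven_hall {π : Set ℕ} (hπ : ∀ r : ℕ, r.Prime → r ≤ 7 → (r ∈ π ↔ (r = 2 ∨ r = 3))) :
    Cfsg.IsEPiGroup π (Equiv.Perm (Fin 7)) := by
  refine hall_of_card (c := 144) (i := 35) hπ (stabK (Setoid.ker fun x : Fin 7 => if x.val < 3 then (0 : Fin 2) else 1))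
    ?_ (by decide) (fun p hp h => ?_) (by decide)
  · rw [card_stabK_lab]; decide +kernel
  · rw [show 144 = 2 ^ 4 * 3 ^ 2 by norm_num] at h
    rcases hp.dvd_mul.1 h with h | h
    · exact Or.inl ((Nat.prime_dvd_prime_iff_eq hp Nat.prime_two).1 (hp.dvd_of_dvd_pow h))
    · exact Or.inr ((Nat.prime_dvd_prime_iff_eq hp Nat.prime_three).1 (hp.dvd_of_dvd_pow h))

/-- The two halves of eight points. -/
def halves (x : Fin 8) : Fin 2 := if x.val < 4 then 0 else 1

theorem eight_hall {π : Set ℕ} (hπ : ∀ r : ℕ, r.Prime → r ≤ 8 → (r ∈ π ↔ (r = 2 ∨ r = 3))) :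
    Cfsg.IsEPiGroup π (Equiv.Perm (Fin 8)) := by
  set s := Setoid.ker halves with hs
  have hK : Nat.card ↥(stabK s) = 576 := by rw [hs, card_stabK_lab]; decide +kernel
  let σ : Equiv.Perm (Fin 8) := Function.Involutive.toPerm (fun x : Fin 8 => x + 4) (fun x => by revert x; decide)
  have hσ : σ ∈ stabN s := by
    show ∀ a b, halves (σ a) = halves (σ b) ↔ halves a = halves b
    decide
  have hrel : (stabK s).relIndex (stabN s) = 2 := by
    rw [Subgroup.relIndex, Subgroup.index_eq_two_iff]
    refine ⟨⟨σ, hσ⟩, fun b => ?_⟩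
    obtain ⟨b, hb⟩ := b
    simp only [Subgroup.mem_subgroupOf, Subgroup.coe_mul, mem_stabK]
    have hb' : ∀ u v, halves (b u) = halves (b v) ↔ halves u = halves v := hb
    have hσ' : ∀ a, halves (σ a) ≠ halves a := by decide
    have hfin : ∀ u v w : Fin 2, u ≠ v → w ≠ v → u = w := by decide
    have h0 : ∀ u, halves u = halves 0 → halves (b u) = halves (b 0) := fun u h => (hb' u 0).2 h
    have h1 : ∀ u, halves u ≠ halves 0 → halves (b u) ≠ halves (b 0) := fun u h h' => h ((hb' u 0).1 h')
    by_cases hc : halves (b 0) = halves 0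
    · have hin : ∀ a, halves (b a) = halves a := fun a => by
        by_cases ha : halves a = halves 0
        · rw [h0 a ha, hc, ha]
        · exact hfin _ _ _ (hc ▸ h1 a ha) ha
      exact Or.inr ⟨fun a => hin a, fun h => hσ' 0 ((hin (σ 0)).symm.trans (h 0))⟩
    · have hout : ∀ a, halves (b a) ≠ halves a := fun a => by
        by_cases ha : halves a = halves 0
        · rw [h0 a ha, ha]; exact hc
        · exact fun h => h1 a ha (hfin _ _ _ (h ▸ ha) hc)
      exact Or.inl ⟨fun a => hfin _ _ _ (hout (σ a)) (hσ' a).symm, fun h => hout 0 (h 0)⟩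
  refine hall_of_card (c := 1152) (i := 35) hπ (stabN s) ?_ (by decide) (fun p hp h => ?_) (by decide)
  · have h : (stabK s).relIndex (stabN s) * Nat.card ↥(stabK s) = Nat.card ↥(stabN s) := by
      rw [mul_comm, Subgroup.relIndex, ← card_subgroupOf (stabK_le_stabN s), Subgroup.card_mul_index]
    rw [← h, hrel, hK]
  · rw [show 1152 = 2 ^ 7 * 3 ^ 2 by norm_num] at h
    rcases hp.dvd_mul.1 h with h | h
    · exact Or.inl ((Nat.prime_dvd_prime_iff_eq hp Nat.prime_two).1 (hp.dvd_of_dvd_pow h))
    · exact Or.inr ((Nat.prime_dvd_prime_iff_eq hp Nat.prime_three).1 (hp.dvd_of_dvd_pow h))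

/-- Let `π` be a set of primes and `n` a natural number such that at least two primes of `π` divide `n!` but not every prime dividing `n!` lies in `π`. Then the symmetric group of degree `n` has a Hall `π`-subgroup if and only if either `n` is prime and the primes of `π` dividing `n!` are exactly the primes smaller than `n` (a point stabilizer is then such a subgroup), or `n ∈ {7, 8}` and the primes of `π` dividing `n!` are exactly 2 and 3. -/
theorem result (n : ℕ) (π : Set ℕ)
    (h2 : ∃ r s : ℕ, r.Prime ∧ s.Prime ∧ r ≠ s ∧ r ∈ π ∧ s ∈ π ∧ r ≤ n ∧ s ≤ n)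
    (hns : ∃ r : ℕ, r.Prime ∧ r ≤ n ∧ r ∉ π) :
    Cfsg.IsEPiGroup π (Equiv.Perm (Fin n)) ↔
      ((n.Prime ∧ ∀ r : ℕ, r.Prime → r ≤ n → (r ∈ π ↔ r < n)) ∨
       ((n = 7 ∨ n = 8) ∧ ∀ r : ℕ, r.Prime → r ≤ n → (r ∈ π ↔ (r = 2 ∨ r = 3)))) := by
  constructor
  · rintro ⟨H, hH⟩
    obtain ⟨u, v, hu, hv, huv, hui, hvi, hun, hvn⟩ := h2
    rcases sym_cases hH with h1 | ⟨hp2, hp3, hn3⟩
    · refine absurd (h1 u v hu hv hui hvi ?_ ?_) huv
      · rw [prime_dvd_perm hu, Fintype.card_fin]; exact hun
      · rw [prime_dvd_perm hv, Fintype.card_fin]; exact hvn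
    obtain ⟨a, b, r, hshape, -, hcard, hprime⟩ := hall_shape hH hp2 hp3 (by omega)
    rw [Fintype.card_fin] at hshape hn3
    have hidx := Subgroup.card_mul_index H
    rw [Nat.card_perm, Nat.card_fin, hcard] at hidx
    obtain ⟨w, hw, hwn, hwi⟩ := hns
    have small : ∀ p, p.Prime → p ≤ 4 → p ∈ π := by
      intro p hp hp4
      have := hp.two_le
      interval_cases p
      · exact hp2
      · exact hp3
      · exact absurd hp (by norm_num)
    have tail : ∀ {m : ℕ}, m ≤ 8 → ∀ p, p.Prime → p ≤ m → 4 < p → p = 5 ∨ p = 7 := by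
      intro m hm p hp hpm h4
      have : p ≤ 8 := hpm.trans hm
      interval_cases p <;> revert hp <;> norm_num
    rcases hshape with ⟨hb, hra, -, hsum⟩ | ⟨hb, ha4, hra, ⟨e, hae⟩, hsum⟩
    · subst hb hsum
      have hC : H.index = (a + r).choose r := by
        have h := Nat.choose_mul_factorial_mul_factorial (show r ≤ a + r by omega)
        rw [show a + r - r = a by omega] at h
        refine Nat.eq_of_mul_eq_mul_left (show 0 < shapeCard a 0 r from hcard ▸ Nat.card_pos) ?_
        rw [hidx, ← h, shapeCard, if_pos rfl, Nat.factorial_zero]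
        ring
      have hCp : ∀ p, p.Prime → p ≤ a → ¬ p ∣ (a + r).choose r := fun p hp hpa =>
        hC ▸ hH.2 p hp (hprime p hp hpa)
      rcases Nat.lt_or_ge r 2 with hr | hr
      · interval_cases r
        · exact absurd (hprime w hw (by omega)) hwi
        · left
          rw [Nat.choose_one_right] at hCp
          have hnp : (a + 1).Prime := by
            by_contra hnp
            obtain ⟨p, hp, hd⟩ := Nat.exists_prime_and_dvd (show a + 1 ≠ 1 by omega)
            exact hCp p hp (prime_le_of_dvd_composite (by omega) hnp (by omega) hp hd) hd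
          refine ⟨hnp, fun p hp hpn => ⟨fun hpi => ?_, fun h => hprime p hp (by omega)⟩⟩
          by_contra hlt
          obtain rfl : p = a + 1 := by omega
          refine hwi ?_
          rcases Nat.lt_or_ge a w with h | h
          · rwa [show w = a + 1 by omega]
          · exact hprime w hw h
      · obtain ⟨rfl, rfl⟩ := two_parts hr hra hCp
        refine Or.inr ⟨Or.inl rfl, fun p hp hpn => ⟨fun hpi => ?_, fun h => ?_⟩⟩
        · by_contra hne
          push Not at hne
          have h4 : p ≠ 4 := fun h => absurd hp (by subst h; norm_num)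
          have := hp.two_le
          have hd := hH.2 p hp hpi
          rw [hC] at hd
          rcases tail (m := 7) (by norm_num) p hp (by omega) (by omega) with rfl | rfl <;> exact hd (by decide)
        · rcases h with rfl | rfl
          · exact hp2
          · exact hp3
    · subst b
      have hC : 2 * H.index = (2 * a + r).choose r * (2 * a).choose a := by
        have h1 := Nat.choose_mul_factorial_mul_factorial (show r ≤ 2 * a + r by omega)
        rw [show 2 * a + r - r = 2 * a by omega] at h1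
        have h2 := Nat.choose_mul_factorial_mul_factorial (show a ≤ 2 * a by omega)
        rw [show 2 * a - a = a by omega] at h2
        refine Nat.eq_of_mul_eq_mul_left (show 0 < a.factorial * a.factorial * r.factorial by positivity) ?_
        calc a.factorial * a.factorial * r.factorial * (2 * H.index) = shapeCard a a r * H.index := by
              rw [shapeCard, if_neg (by omega)]; ring
          _ = n.factorial := hidx
          _ = _ := by rw [← hsum, ← h1, ← h2]; ring
      have hCp : ∀ p, p.Prime → p ∈ π → p ≠ 2 → ¬ p ∣ (2 * a + r).choose r * (2 * a).choose a := by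
        intro p hp hpi hne hd
        rw [← hC] at hd
        rcases hp.dvd_mul.1 hd with h | h
        · exact hne ((Nat.prime_dvd_prime_iff_eq hp Nat.prime_two).1 h)
        · exact hH.2 p hp hpi h
      have h4 : a = 4 := by
        subst hae
        exact equal_parts ha4 fun p hp hpa hne hd => hCp p hp (hprime p hp hpa) hne (hd.mul_left _)
      subst h4
      obtain rfl : r = 0 := by
        by_contra hr0
        have hr2 : r = 1 ∨ r = 2 := by omega
        refine hCp 3 Nat.prime_three hp3 (by norm_num) (dvd_mul_of_dvd_left ?_ _)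
        rcases hr2 with rfl | rfl <;> decide
      obtain rfl : n = 8 := by omega
      refine Or.inr ⟨Or.inr rfl, fun p hp hpn => ⟨fun hpi => ?_, fun h => ?_⟩⟩
      · by_contra hne
        push Not at hne
        have h4 : p ≠ 4 := fun h => absurd hp (by subst h; norm_num)
        have := hp.two_le
        have hd := hCp p hp hpi hne.1
        rcases tail (m := 8) le_rfl p hp (by omega) (by omega) with rfl | rfl <;> exact hd (by decide)
      · rcases h with rfl | rfl
        · exact hp2
        · exact hp3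
  · rintro (⟨hn, hπ⟩ | ⟨hn | hn, hπ⟩)
    · exact point_hall hn hπ
    · subst hn; exact seven_hall hπ
    · subst hn; exact eight_hall hπ

end Cfsg.Agent.S2536
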