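import Cfsg.Statements.S2537
import Cfsg.Agent.Lib.Classical.Dickson.DihedralMax
import Cfsg.Agent.Lib.Classical.Dickson.MaxExist

set_option autoImplicit false
set_option linter.style.haveILetI false
open Cfsg

namespace Cfsg.Agent.S2537

/-- A subgroup of order twice the order of an element inverted by an involution. -/
theorem exists_dihedral_sub {G : Type*} [Group G] [Finite G] {c w : G} (hw : w * w = 1)
    (hwc : w * c * w⁻¹ = c⁻¹) (hn : w ∉ Subgroup.zpowers c) (S : Subgroup G) (hcS : c ∈ S)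
    (hwS : w ∈ S) : ∃ K : Subgroup G, K ≤ S ∧ Nat.card K = 2 * orderOf c := by
  have hwi : w⁻¹ = w := inv_eq_of_mul_eq_one_right hw
  have hflip : ∀ k : ℤ, w * c ^ k = c ^ (-k) * w := by
    intro k
    have h := (conj_zpow (i := k) (a := w) (b := c)).symm
    rw [hwc, inv_zpow, ← zpow_neg] at h
    rw [← h]
    group
  let K : Subgroup G :=
    { carrier := {g | ∃ k : ℤ, g = c ^ k ∨ g = c ^ k * w}
      one_mem' := ⟨0, Or.inl (zpow_zero c).symm⟩
      mul_mem' := by
        rintro a b ⟨i, rfl | rfl⟩ ⟨j, rfl | rfl⟩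
        · exact ⟨i + j, Or.inl (zpow_add c i j).symm⟩
        · exact ⟨i + j, Or.inr (by rw [zpow_add]; group)⟩
        · exact ⟨i - j, Or.inr (by rw [mul_assoc, hflip, ← mul_assoc, sub_eq_add_neg, zpow_add])⟩
        · exact ⟨i - j, Or.inl (by
            rw [mul_assoc (c ^ i) w, ← mul_assoc w, hflip, mul_assoc (c ^ (-j)), hw, mul_one,
              sub_eq_add_neg, zpow_add])⟩
      inv_mem' := by
        rintro a ⟨i, rfl | rfl⟩
        · exact ⟨-i, Or.inl (zpow_neg c i).symm⟩
        · exact ⟨i, Or.inr (by rw [mul_inv_rev, hwi, ← zpow_neg, hflip, neg_neg])⟩ }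
  have hle : Subgroup.zpowers c ≤ K := fun g hg => by
    obtain ⟨k, rfl⟩ := Subgroup.mem_zpowers_iff.mp hg
    exact ⟨k, Or.inl rfl⟩
  have hwK : w ∈ K := ⟨0, Or.inr (by simp)⟩
  refine ⟨K, ?_, ?_⟩
  · rintro g ⟨k, rfl | rfl⟩
    · exact zpow_mem hcS k
    · exact mul_mem (zpow_mem hcS k) hwS
  · have hidx : ((Subgroup.zpowers c).subgroupOf K).index = 2 := by
      refine Subgroup.index_eq_two_iff.mpr ⟨⟨w, hwK⟩, fun g => ?_⟩
      obtain ⟨g, k, rfl | rfl⟩ := g
      · refine Or.inr ⟨Subgroup.mem_zpowers_iff.mpr ⟨k, rfl⟩, fun e => hn ?_⟩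
        have := mul_mem (inv_mem (Subgroup.mem_zpowers_iff.mpr ⟨k, rfl⟩ : c ^ k ∈ Subgroup.zpowers c))
          (show c ^ k * w ∈ Subgroup.zpowers c from e)
        rwa [inv_mul_cancel_left] at this
      · refine Or.inl ⟨show c ^ k * w * w ∈ Subgroup.zpowers c from ?_, fun e => hn ?_⟩
        · rw [mul_assoc, hw, mul_one]; exact Subgroup.mem_zpowers_iff.mpr ⟨k, rfl⟩
        · have := mul_mem (inv_mem (Subgroup.mem_zpowers_iff.mpr ⟨k, rfl⟩ : c ^ k ∈ Subgroup.zpowers c))
            (show c ^ k * w ∈ Subgroup.zpowers c from e)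
          rwa [inv_mul_cancel_left] at this
    have := ((Subgroup.zpowers c).subgroupOf K).card_mul_index
    rw [hidx, Nat.card_congr (Subgroup.subgroupOfEquivOfLe hle).toEquiv, Nat.card_zpowers] at this
    omega

/-- Arithmetic of the `{2,3}`-part `2 h` of `q ^ 2 - 1`. -/
theorem part_facts {q : ℕ} (hq : 5 ≤ q) (h2 : q % 2 = 1) (h3 : q % 3 ≠ 0) :
    ∃ h, 2 ^ (q ^ 2 - 1).factorization 2 * 3 ^ (q ^ 2 - 1).factorization 3 = 2 * h ∧
      12 ∣ h ∧ 2 * h ∣ (q + 1) * (q - 1) ∧ ¬ 4 * h ∣ (q + 1) * (q - 1) ∧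
      ¬ 6 * h ∣ (q + 1) * (q - 1) ∧ (∀ k, k.Prime → k ∣ h → k = 2 ∨ k = 3) ∧ Nat.Coprime (6 * h) q := by
  set N := q ^ 2 - 1
  have hN : N = (q + 1) * (q - 1) := by
    rw [← Nat.sq_sub_sq]
  have hN0 : N ≠ 0 := by rw [hN]; exact Nat.mul_ne_zero (by omega) (by omega)
  have h8 : 2 ^ 3 ∣ N := by
    rw [hN, Nat.dvd_iff_mod_eq_zero, Nat.mul_mod]
    have : q % 8 = 1 ∨ q % 8 = 3 ∨ q % 8 = 5 ∨ q % 8 = 7 := by omega
    rcases this with e | e | e | e
    · rw [show (q - 1) % (2 ^ 3) = 0 by norm_num; omega]; simp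
    · rw [show (q - 1) % (2 ^ 3) = 2 by norm_num; omega, show (q + 1) % (2 ^ 3) = 4 by norm_num; omega]; rfl
    · rw [show (q - 1) % (2 ^ 3) = 4 by norm_num; omega, show (q + 1) % (2 ^ 3) = 6 by norm_num; omega]; rfl
    · rw [show (q + 1) % (2 ^ 3) = 0 by norm_num; omega]; simp
  have h31 : 3 ^ 1 ∣ N := by
    rw [hN, pow_one]
    rcases (show q % 3 = 1 ∨ q % 3 = 2 by omega) with e | e
    · exact Dvd.dvd.mul_left (by omega) _
    · exact Dvd.dvd.mul_right (by omega) _
  have ha := (Nat.prime_two.pow_dvd_iff_le_factorization hN0).mp h8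
  have hb := (Nat.prime_three.pow_dvd_iff_le_factorization hN0).mp h31
  set a := N.factorization 2 with hadef
  set b := N.factorization 3 with hbdef
  refine ⟨2 ^ (a - 1) * 3 ^ b, ?_, ?_, ?_, ?_, ?_, ?_, ?_⟩
  · rw [← mul_assoc, ← pow_succ', Nat.sub_add_cancel (by omega)]
  · exact Nat.mul_dvd_mul (pow_dvd_pow 2 (show 2 ≤ a - 1 by omega))
      (dvd_pow_self 3 (show b ≠ 0 by omega))
  · rw [← hN, ← mul_assoc, ← pow_succ', Nat.sub_add_cancel (by omega)]
    exact (Nat.Coprime.pow _ _ (by norm_num)).mul_dvd_of_dvd_of_dvd (Nat.ordProj_dvd N 2)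
      (Nat.ordProj_dvd N 3)
  · intro h
    rw [← hN] at h
    refine Nat.pow_succ_factorization_not_dvd hN0 Nat.prime_two (dvd_trans ?_ h)
    refine ⟨3 ^ b, ?_⟩
    rw [← hadef, show a + 1 = (a - 1) + 2 by omega, pow_add]
    ring
  · intro h
    rw [← hN] at h
    refine Nat.pow_succ_factorization_not_dvd hN0 Nat.prime_three (dvd_trans ?_ h)
    refine ⟨2 ^ (a - 1) * 2, ?_⟩
    rw [← hbdef, pow_succ]
    ring
  · intro k hk hkd
    rcases hk.dvd_mul.mp hkd with e | e
    · exact Or.inl ((Nat.prime_dvd_prime_iff_eq hk Nat.prime_two).mp (hk.dvd_of_dvd_pow e))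
    · exact Or.inr ((Nat.prime_dvd_prime_iff_eq hk Nat.prime_three).mp (hk.dvd_of_dvd_pow e))
  · have c2 : Nat.Coprime 2 q := Nat.coprime_two_left.mpr (Nat.odd_iff.mpr h2)
    have c3 : Nat.Coprime 3 q := (Nat.prime_three.coprime_iff_not_dvd).mpr (by omega)
    exact Nat.Coprime.mul_left (Nat.Coprime.mul_left c2 c3)
      (Nat.Coprime.mul_left (c2.pow_left _) (c3.pow_left _))

open CfsgLib.Classical.Dickson Matrix

/-- Let `F` be a finite field with `q` elements of characteristic `p ≥ 5`, and `ε = 1` if `q ≡ 1 (mod 4)`, `ε = -1` otherwise. Then `PSL(2, F)` has a Hall `{2, 3}`-subgroup if and only if `3` divides `q − ε`, or the `{2,3}`-part of `q² − 1` is 24, or the `{2,3}`-part of `q² − 1` is 48 (the `{2,3}`-part of `m` being the largest divisor of `m` with no prime factor other than 2 and 3). -/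
theorem result {F : Type*} [Field F] [Fintype F] {p : ℕ} [Fact p.Prime] [CharP F p]
    (hp : 5 ≤ p) (q : ℕ) (hq : Fintype.card F = q) :
    (∃ H : Subgroup (Matrix.ProjectiveSpecialLinearGroup (Fin 2) F), Cfsg.IsPiHall ({2, 3} : Set ℕ) H) ↔
      (3 ∣ q - 1 ∧ q % 4 = 1) ∨ (3 ∣ q + 1 ∧ q % 4 = 3) ∨
        2 ^ (q ^ 2 - 1).factorization 2 * 3 ^ (q ^ 2 - 1).factorization 3 = 24 ∨
        2 ^ (q ^ 2 - 1).factorization 2 * 3 ^ (q ^ 2 - 1).factorization 3 = 48 := by
  classical
  obtain ⟨m, hm0, hm⟩ := FiniteField.card F p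
  have hpp : p.Prime := Fact.out
  have hpodd : p % 2 = 1 := Nat.odd_iff.mp (hpp.odd_of_ne_two (by omega))
  have hF : Fintype.card F = q := hq
  have hq5 : 5 ≤ q := by
    rw [← hF, hm]
    exact le_trans hp (Nat.le_self_pow m.ne_zero p)
  have hodd : q % 2 = 1 := by
    rw [← hF, hm, Nat.pow_mod, hpodd, one_pow]; rfl
  have hq3 : q % 3 ≠ 0 := fun e => by
    rw [← hF, hm] at e
    have := (Nat.prime_dvd_prime_iff_eq Nat.prime_three hpp).mp
      (Nat.prime_three.dvd_of_dvd_pow (Nat.dvd_of_mod_eq_zero e))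
    omega
  obtain ⟨h, hD, h12, hdvd, h4, h6, hpr, hcop⟩ := part_facts hq5 hodd hq3
  rw [hD]
  set S : Subgroup (ProjGenLinGroup (Fin 2) F) := sln F with hS
  have hcardS : 2 * Nat.card (sln F) = q * ((q + 1) * (q - 1)) := by
    rw [card_sln_odd (F := F) (by omega), hF]; ring
  have hSP : Nat.card (ProjectiveSpecialLinearGroup (Fin 2) F) = Nat.card (sln F) := by
    rw [← range_toPGL']
    exact Nat.card_congr (MonoidHom.ofInjective ProjectiveSpecialLinearGroup.toPGL_injective).toEquiv
  have hpos : 0 < h := Nat.pos_of_ne_zero fun e => h4 (by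
    rw [e] at hdvd; simpa [e] using hdvd)
  have hhS : h ∣ Nat.card (sln F) := by
    obtain ⟨r, hr⟩ := hdvd
    refine ⟨q * r, ?_⟩
    rw [hr] at hcardS
    have e : q * (2 * h * r) = 2 * (h * (q * r)) := by ring
    omega
  constructor
  · rintro ⟨H, hH1, hH2⟩
    set K := inPGL H with hK
    have hKS : K ≤ sln F := (Subgroup.map_le_range _ H).trans_eq range_toPGL'
    have hKc : Nat.card K = Nat.card H := Nat.card_congr (inPGLEquiv H).symm.toEquiv
    have hmul : Nat.card H * H.index = Nat.card (sln F) := by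
      rw [H.card_mul_index, hSP]
    -- the order of a Hall subgroup
    have hcard : Nat.card K = h := by
      rw [hKc]
      refine Nat.dvd_antisymm ?_ ?_
      · have c1 : Nat.card H ∣ q * ((q + 1) * (q - 1)) :=
          ⟨2 * H.index, by rw [← hcardS, ← hmul]; ring⟩
        have c2 : Nat.Coprime (Nat.card H) q := Nat.coprime_of_dvd fun k hk k1 k2 => by
          have hk' := hH1 k hk k1
          simp only [Set.mem_insert_iff, Set.mem_singleton_iff] at hk'
          rcases hk' with rfl | rfl <;> omega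
        have c3 := c2.dvd_of_dvd_mul_left c1
        obtain ⟨r, hr⟩ := hdvd
        have c4 : Nat.Coprime (Nat.card H) r := Nat.coprime_of_dvd fun k hk k1 k2 => by
          have hk' := hH1 k hk k1
          simp only [Set.mem_insert_iff, Set.mem_singleton_iff] at hk'
          obtain ⟨s, rfl⟩ := k2
          rcases hk' with rfl | rfl
          · exact h4 ⟨s, by rw [hr]; ring⟩
          · exact h6 ⟨s, by rw [hr]; ring⟩
        have c5 : Nat.card H ∣ 2 * h := c4.dvd_of_dvd_mul_right (hr ▸ c3)
        have hl : Nat.card H * (2 * H.index) = q * r * (2 * h) := by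
          rw [mul_left_comm, hmul, hcardS, hr]; ring
        have c6 : Nat.card H ∣ Nat.card (sln F) := ⟨_, hmul.symm⟩
        -- 2 * h does not divide the order of the group
        have c7 : Nat.card H ≠ 2 * h := fun e => h4 (by
          obtain ⟨s, hs⟩ := c6
          rw [e] at hs
          have : 4 * h ∣ q * ((q + 1) * (q - 1)) := ⟨s, by rw [← hcardS, hs]; ring⟩
          exact (Nat.Coprime.coprime_dvd_left (Nat.mul_dvd_mul_right (by norm_num : 4 ∣ 36) h)
            (Nat.Coprime.coprime_dvd_left ⟨h, by ring⟩ (hcop.mul_left hcop))).dvd_of_dvd_mul_left this)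
        obtain ⟨s, hs⟩ := c5
        have h2h : 2 ∣ Nat.card H ∨ Nat.Coprime (Nat.card H) 2 := by
          rcases Nat.even_or_odd (Nat.card H) with e | e
          · exact Or.inl e.two_dvd
          · exact Or.inr (Nat.coprime_two_right.mpr e)
        rcases h2h with h2h | h2h
        · -- s is odd or the order would have too few factors two
          rcases Nat.even_or_odd s with ⟨u, hu⟩ | hs'
          · exact ⟨u, by rw [hu] at hs; nlinarith⟩
          · exfalso
            have hmax : 2 ∣ H.index := by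
              have e1 : q * r * (2 * h) = Nat.card H * (q * r * s) := by rw [hs]; ring
              have e2 : 2 * H.index = q * r * s := Nat.eq_of_mul_eq_mul_left Nat.card_pos (hl.trans e1)
              have e3 : Odd (q * r * s) := by
                refine ((Nat.odd_iff.mpr hodd).mul ?_).mul hs'
                rcases Nat.even_or_odd r with ⟨u, hu⟩ | e
                · exact absurd ⟨u, by rw [hr, hu]; ring⟩ h4
                · exact e
              exact absurd (e2 ▸ even_two_mul H.index) (Nat.not_even_iff_odd.mpr e3)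
            exact hH2 2 Nat.prime_two (by simp) hmax
        · exact h2h.dvd_of_dvd_mul_left (⟨s, hs⟩ : Nat.card H ∣ 2 * h)
      · refine Nat.Coprime.dvd_of_dvd_mul_right (Nat.coprime_of_dvd fun k hk k1 k2 => ?_) (hmul ▸ hhS)
        rcases hpr k hk k1 with rfl | rfl
        · exact hH2 2 hk (by simp) k2
        · exact hH2 3 hk (by simp) k2
    have key : ∀ n : ℕ, n ∣ (q - 1) / 2 ∨ n ∣ (q + 1) / 2 → 2 * n ∣ q - 1 ∨ 2 * n ∣ q + 1 := by
      rintro n (e | e)
      · left
        rw [show q - 1 = 2 * ((q - 1) / 2) by omega]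
        exact Nat.mul_dvd_mul_left 2 e
      · right
        rw [show q + 1 = 2 * ((q + 1) / 2) by omega]
        exact Nat.mul_dvd_mul_left 2 e
    have big : ¬ (2 * h ∣ q - 1 ∨ 2 * h ∣ q + 1) := by
      rintro (e | e)
      · exact h4 (by
          obtain ⟨s, hs⟩ := e
          obtain ⟨t, ht⟩ : 2 ∣ q + 1 := by omega
          exact ⟨s * t, by rw [hs, ht]; ring⟩)
      · exact h4 (by
          obtain ⟨s, hs⟩ := e
          obtain ⟨t, ht⟩ : 2 ∣ q - 1 := by omega
          exact ⟨s * t, by rw [hs, ht]; ring⟩)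
    have ord : ∀ c ∈ K, ¬ p ∣ orderOf c → 2 * orderOf c ∣ q - 1 ∨ 2 * orderOf c ∣ q + 1 := by
      intro c hc hcp
      obtain ⟨g, rfl⟩ := hKS hc
      refine key _ ?_
      have hd : Nat.gcd 2 (Fintype.card F - 1) = 2 := Nat.gcd_eq_left (by omega)
      have := order_dvd_psl p g hcp
      rw [hd, hF] at this
      exact this
    have hph : ¬ p ∣ h := fun e => by rcases hpr p hpp e with e | e <;> omega
    cases kind p K with
    | fixed x hx =>
      exfalso
      have hle : K ≤ stabIn (sln F) x := fun g hg => mem_stabIn.mpr ⟨hKS hg, hx g hg⟩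
      have h1 := Subgroup.card_dvd_of_le hle
      have h2 := card_stabIn (Γ := sln F) le_rfl x
      rw [hF] at h2
      rw [hcard] at h1
      have h3 : 2 * h ∣ q * (q - 1) := by
        have : 2 * Nat.card (stabIn (sln F) x) = q * (q - 1) :=
          Nat.eq_of_mul_eq_mul_right (show 0 < q + 1 by omega) (by
            rw [mul_assoc, h2, hcardS]; ring)
        exact this ▸ Nat.mul_dvd_mul_left 2 h1
      exact big (Or.inl ((Nat.Coprime.coprime_dvd_left
        (Nat.mul_dvd_mul_right (by norm_num : 2 ∣ 6) h) hcop).dvd_of_dvd_mul_left h3))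
    | cyclic c hc hcp =>
      exfalso
      have ho : orderOf c = h := by rw [← Nat.card_zpowers, ← hc, hcard]
      have := ord c (hc.symm ▸ Subgroup.mem_zpowers c) hcp
      rw [ho] at this
      exact big this
    | dihedral c hc hcp _ hG =>
      obtain ⟨f⟩ := hG
      have ho : 2 * orderOf c = h := by
        rw [← hcard, Nat.card_congr f.toEquiv, DihedralGroup.nat_card]
      have := ord c hc hcp
      rw [ho] at this
      rcases this with e | e <;> have e12 := h12.trans e
      · exact Or.inl ⟨by omega, by omega⟩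
      · exact Or.inr (Or.inl ⟨by omega, by omega⟩)
    | a4 hG =>
      obtain ⟨f⟩ := hG
      have : h = 12 := by
        rw [← hcard, Nat.card_congr f.toEquiv, Nat.card_eq_fintype_card]; rfl
      omega
    | s4 hG =>
      obtain ⟨f⟩ := hG
      have : h = 24 := by
        rw [← hcard, Nat.card_congr f.toEquiv, Nat.card_eq_fintype_card, Fintype.card_perm,
          Fintype.card_fin]; rfl
      omega
    | a5 hG =>
      obtain ⟨f⟩ := hG
      have : h = 60 := by
        rw [← hcard, Nat.card_congr f.toEquiv, Nat.card_eq_fintype_card]; rfl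
      have := hpr 5 (by norm_num) (by omega)
      omega
    | pgl A k hG =>
      exfalso
      have hA : Nat.card K = Nat.card (ratPGL A) := by
        rw [ratPGL, ← hG, card_map_conj]
      obtain ⟨t, ht⟩ : p ∣ Nat.card A := by
        letI := Fintype.ofFinite A
        haveI : CharP A p := Subfield.charP A p
        obtain ⟨n, -, hn⟩ := FiniteField.card A p
        rw [Nat.card_eq_fintype_card, hn]
        exact dvd_pow_self p n.ne_zero
      refine hph ⟨(Nat.card A + 1) * t * (Nat.card A - 1), ?_⟩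
      rw [← hcard, hA, card_ratPGL A, ht]
      ring
    | psl A hA k hG =>
      exfalso
      have hA' : Nat.card K = Nat.card (ratPSL A) := by
        rw [ratPSL, ← hG, card_map_conj]
      obtain ⟨t, ht⟩ : p ∣ Nat.card A := by
        letI := Fintype.ofFinite A
        haveI : CharP A p := Subfield.charP A p
        obtain ⟨n, -, hn⟩ := FiniteField.card A p
        rw [Nat.card_eq_fintype_card, hn]
        exact dvd_pow_self p n.ne_zero
      have hc2 := card_ratPSL A
      rw [← hA', hcard] at hc2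
      have : p ∣ Nat.gcd 2 (Nat.card A - 1) * h := by
        refine ⟨(Nat.card A + 1) * t * (Nat.card A - 1), ?_⟩
        rw [hc2, ht]; ring
      rcases hpp.dvd_mul.mp this with e | e
      · have := Nat.le_of_dvd (by norm_num) (e.trans (Nat.gcd_dvd_left 2 _))
        omega
      · exact hph e
  · intro hcond
    obtain ⟨K, hKS, hcard⟩ : ∃ K : Subgroup (ProjGenLinGroup (Fin 2) F), K ≤ sln F ∧ Nat.card K = h := by
      have h2 : (2 : F) ≠ 0 := Ring.two_ne_zero fun e => by
        have := FiniteField.even_card_iff_char_two.mp e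
        omega
      obtain ⟨Φ⟩ := exists_frame h2
      have dih : ∀ n, (n = q - 1 ∨ n = q + 1) → h ∣ n →
          ∃ K : Subgroup (ProjGenLinGroup (Fin 2) F), K ≤ sln F ∧ Nat.card K = h := by
        intro n hn hdn
        obtain ⟨c, hc, hco, hcp⟩ := exists_sln_semisimple p (F := F) (n := n) (by omega) (by omega)
        rw [show dd F = 2 from Nat.gcd_eq_left (by omega)] at hco
        obtain ⟨s, hs⟩ : h / 2 ∣ orderOf c := by
          obtain ⟨u, hu⟩ := h12
          refine (Nat.mul_dvd_mul_iff_left (show 0 < 2 by norm_num)).mp ?_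
          rw [show 2 * (h / 2) = h by omega, show 2 * orderOf c = n by omega]
          exact hdn
        have hs0 : s ≠ 0 := fun e => by
          subst e
          have := orderOf_pos c
          omega
        have hc' : orderOf (c ^ s) = h / 2 := by
          rw [orderOf_pow' c hs0, hs, Nat.gcd_eq_right ⟨h / 2, mul_comm _ _⟩,
            Nat.mul_div_cancel _ (Nat.pos_of_ne_zero hs0)]
        have hc1 : c ≠ 1 := fun e => by
          rw [e, orderOf_one] at hco
          omega
        obtain ⟨w, hw, hwT, hww, hinv, -⟩ := pairStab_data p (Γ := sln F) (Or.inr rfl)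
          (by omega) hcp hc1 hc
        have hcT : c ∈ torus p (sln F) c := ⟨hc, fun z hz => hz⟩
        obtain ⟨K, hK, hKc⟩ := exists_dihedral_sub hww (hinv _ (pow_mem hcT s))
          (fun e => hwT ((Subgroup.zpowers_le.mpr (pow_mem hcT s)) e)) (sln F) (pow_mem hc s) hw.1
        refine ⟨K, hK, ?_⟩
        rw [hKc, hc']
        obtain ⟨u, hu⟩ := h12
        omega
      rcases hcond with ⟨e3, e4⟩ | ⟨e3, e4⟩ | e | e
      · refine dih (q - 1) (Or.inl rfl) ?_
        obtain ⟨t, ht⟩ : 2 ∣ q + 1 := by omega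
        refine Nat.Coprime.dvd_of_dvd_mul_left (m := t) (Nat.coprime_of_dvd fun k hk k1 k2 => ?_) ?_
        · rcases hpr k hk k1 with rfl | rfl <;> omega
        · rw [ht, mul_assoc] at hdvd
          exact (Nat.mul_dvd_mul_iff_left (show 0 < 2 by norm_num)).mp hdvd
      · refine dih (q + 1) (Or.inr rfl) ?_
        obtain ⟨t, ht⟩ : 2 ∣ q - 1 := by omega
        refine Nat.Coprime.dvd_of_dvd_mul_left (m := t) (Nat.coprime_of_dvd fun k hk k1 k2 => ?_) ?_
        · rcases hpr k hk k1 with rfl | rfl <;> omega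
        · rw [ht, mul_left_comm, mul_comm (q + 1) t] at hdvd
          exact (Nat.mul_dvd_mul_iff_left (show 0 < 2 by norm_num)).mp hdvd
      · exact ⟨Φ.g12, Φ.g12_le_sln, by rw [Φ.card_g12]; omega⟩
      · refine ⟨Φ.g24, Φ.g24_le_sln_iff.mpr (FiniteField.isSquare_two_iff.mpr ?_), by
          rw [Φ.card_g24]; omega⟩
        by_contra hh
        apply not_eight_dvd_sln (F := F) (by omega)
        exact (show 8 ∣ h by omega).trans hhS
    refine ⟨K.comap ProjectiveSpecialLinearGroup.toPGL, ?_⟩
    set H := K.comap (ProjectiveSpecialLinearGroup.toPGL (n := Fin 2) (R := F))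
    have hHK : inPGL H = K := Subgroup.map_comap_eq_self (hKS.trans_eq range_toPGL'.symm)
    have hHc : Nat.card H = h := by
      rw [Nat.card_congr (inPGLEquiv H).toEquiv, hHK, hcard]
    refine ⟨fun k hk hkd => ?_, fun k hk hk23 hkd => ?_⟩
    · rw [hHc] at hkd
      rcases hpr k hk hkd with rfl | rfl <;> simp
    · obtain ⟨s, hs⟩ := hkd
      have e : 2 * h * k * s = q * ((q + 1) * (q - 1)) := by
        rw [← hcardS, ← hSP, ← H.card_mul_index, hHc, hs]; ring
      simp only [Set.mem_insert_iff, Set.mem_singleton_iff] at hk23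
      rcases hk23 with rfl | rfl
      · refine h4 ((Nat.Coprime.coprime_dvd_left (⟨9, by ring⟩ : 4 * h ∣ 36 * h)
          (Nat.Coprime.coprime_dvd_left ⟨h, by ring⟩ (hcop.mul_left hcop))).dvd_of_dvd_mul_left
            ⟨s, ?_⟩)
        rw [← e]; ring
      · refine h6 (hcop.dvd_of_dvd_mul_left ⟨s, ?_⟩)
        rw [← e]; ring

end Cfsg.Agent.S2537
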