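import Cfsg.Statements.S2540
import Cfsg.Agent.Lib.Classical.SLBasic


set_option autoImplicit false
open Cfsg

namespace Cfsg.Agent.S2540

/-- Let F be a finite field and n ≥ 1, excluding the case n = 2 with #F ≤ 3. A subgroup of GL_n(F) that is normalized by every element of SL_n(F) either consists of scalar matrices or contains SL_n(F). -/
theorem result {F : Type*} [Field F] [Fintype F] (n : ℕ) (hn : 1 ≤ n) (hex : ¬ (n = 2 ∧ Fintype.card F ≤ 3)) (G : Subgroup (Matrix.GeneralLinearGroup (Fin n) F)) (hG : ∀ s : Matrix.SpecialLinearGroup (Fin n) F, ∀ g ∈ G, (Matrix.SpecialLinearGroup.toGL s) * g * (Matrix.SpecialLinearGroup.toGL s)⁻¹ ∈ G) : (∀ g ∈ G, ∃ c : F, (g : Matrix (Fin n) (Fin n) F) = c • (1 : Matrix (Fin n) (Fin n) F)) ∨ (Matrix.SpecialLinearGroup.toGL : Matrix.SpecialLinearGroup (Fin n) F →* _).range ≤ G := by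
  classical
  rcases Nat.lt_or_ge n 2 with h1 | h2
  · left
    intro g _
    refine ⟨(g : Matrix (Fin n) (Fin n) F) ⟨0, by omega⟩ ⟨0, by omega⟩, ?_⟩
    ext i j
    obtain rfl : i = ⟨0, by omega⟩ := Fin.ext (by simp only; omega)
    obtain rfl : j = ⟨0, by omega⟩ := Fin.ext (by simp only; omega)
    simp
  have : Nontrivial (Fin n) := Fin.nontrivial_iff_two_le.2 h2
  have hperf : commutator (Matrix.SpecialLinearGroup (Fin n) F) = ⊤ := by
    rcases Nat.lt_or_ge n 3 with h3 | h3
    · have hq : 4 ≤ Fintype.card F := by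
        by_contra h
        exact hex ⟨by omega, by omega⟩
      obtain ⟨a, ha, hasq⟩ : ∃ a : F, a ≠ 0 ∧ a ^ 2 ≠ 1 := by
        by_contra h
        push Not at h
        have hsub : (Finset.univ : Finset F) ⊆ {0, 1, -1} := fun a _ => by
          rcases eq_or_ne a 0 with rfl | ha
          · simp
          · rcases sq_eq_one_iff.1 (h a ha) with rfl | rfl <;> simp
        have := (Finset.card_le_card hsub).trans Finset.card_le_three
        rw [Finset.card_univ] at this
        omega
      refine CfsgLib.Classical.sl_subgroup_eq_top _ fun i j hij c => ?_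
      rw [commutator_eq_closure]
      exact Subgroup.subset_closure (CfsgLib.Classical.transvection_mem_commutatorSet_two ha hasq hij c)
    · exact CfsgLib.Classical.sl_perfect (by simpa using h3)
  have hsimple : IsSimpleGroup (Matrix.ProjectiveSpecialLinearGroup (Fin n) F) :=
    CfsgLib.Classical.psl_fin_isSimpleGroup h2 (fun h => by
      by_contra h'
      exact hex ⟨h, by omega⟩)
  let ι : Matrix.SpecialLinearGroup (Fin n) F →* GL (Fin n) F := Matrix.SpecialLinearGroup.toGL
  let N : Subgroup (Matrix.SpecialLinearGroup (Fin n) F) := G.comap ι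
  have hN : N.Normal := ⟨fun a ha b => by
    show ι (b * a * b⁻¹) ∈ G
    rw [map_mul, map_mul, map_inv]
    exact hG b _ ha⟩
  rcases (hN.map (QuotientGroup.mk' (Subgroup.center (Matrix.SpecialLinearGroup (Fin n) F)))
      (QuotientGroup.mk'_surjective _)).eq_bot_or_eq_top with hb | ht
  · left
    have hle : N ≤ Subgroup.center _ := fun a ha => (QuotientGroup.eq_one_iff a).1 (by
      have h3 : (QuotientGroup.mk' (Subgroup.center (Matrix.SpecialLinearGroup (Fin n) F)) a) ∈ N.map (QuotientGroup.mk' _) := ⟨a, ha, rfl⟩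
      rw [hb, Subgroup.mem_bot] at h3
      exact h3)
    intro g hg
    let c : Matrix.SpecialLinearGroup (Fin n) F → Matrix.SpecialLinearGroup (Fin n) F := fun s =>
      s * ⟨(g : Matrix (Fin n) (Fin n) F) * ((s⁻¹ : Matrix.SpecialLinearGroup (Fin n) F) : Matrix (Fin n) (Fin n) F) *
        ((g⁻¹ : GL (Fin n) F) : Matrix (Fin n) (Fin n) F), by
        rw [Matrix.det_mul, Matrix.det_mul, (s⁻¹).2, mul_one, ← Matrix.det_mul, ← Units.val_mul, mul_inv_cancel,
          Units.val_one, Matrix.det_one]⟩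
    have hc : ∀ s, ι (c s) = ι s * g * (ι s)⁻¹ * g⁻¹ := fun s => Units.ext (by
      rw [← map_inv]
      show (s : Matrix (Fin n) (Fin n) F) * _ = _
      simp only [Units.val_mul, Matrix.mul_assoc]
      rfl)
    have hcmem : ∀ s, c s ∈ Subgroup.center (Matrix.SpecialLinearGroup (Fin n) F) := fun s => hle (by
      show ι (c s) ∈ G
      rw [hc]
      exact mul_mem (hG s g hg) (inv_mem hg))
    have hinj : Function.Injective ι := Matrix.SpecialLinearGroup.toGL_injective
    let χ : Matrix.SpecialLinearGroup (Fin n) F →* Subgroup.center (Matrix.SpecialLinearGroup (Fin n) F) :=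
      MonoidHom.mk' (fun s => ⟨c s, hcmem s⟩) fun s s' => Subtype.ext (hinj (by
        show ι (c (s * s')) = ι (c s * c s')
        have e : c s * c s' = s * (s⁻¹ * c s) * c s' := by group
        have e2 : ι (c s') * ι s = ι s * ι (c s') := by
          rw [← map_mul, ← map_mul]
          exact congrArg ι (Subgroup.mem_center_iff.1 (hcmem s') s).symm
        rw [map_mul, hc, hc, map_mul]
        calc _ = ι s * (ι s' * g * (ι s')⁻¹ * g⁻¹) * (g * (ι s)⁻¹ * g⁻¹) := by group
          _ = ι (c s') * ι s * (g * (ι s)⁻¹ * g⁻¹) := by rw [e2, hc]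
          _ = ι (c s') * ι (c s) := by rw [hc s]; group
          _ = ι (c s) * ι (c s') := by rw [← map_mul, ← map_mul]; exact congrArg ι (Subgroup.mem_center_iff.1 (hcmem s) _)
          _ = _ := by rw [hc, hc]))
    have hχ : ∀ s, χ s = 1 := by
      intro s
      have h4 : χ.ker = ⊤ := by
        rw [eq_top_iff, ← hperf, commutator_eq_closure, Subgroup.closure_le]
        rintro _ ⟨a, b, rfl⟩
        have e : χ a * χ b = χ b * χ a := Subtype.ext (Subgroup.mem_center_iff.1 (χ b).2 _)
        show χ _ = 1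
        rw [commutatorElement_def, map_mul, map_mul, map_mul, e, map_inv, map_inv]
        group
      exact MonoidHom.mem_ker.1 (h4 ▸ Subgroup.mem_top s)
    have hcomm : ∀ s, ι s * g = g * ι s := fun s => by
      have h5 := congrArg ι (congrArg Subtype.val (hχ s))
      rw [show ((χ s : Subgroup.center _) : Matrix.SpecialLinearGroup (Fin n) F) = c s from rfl, hc] at h5
      rw [show ((1 : Subgroup.center (Matrix.SpecialLinearGroup (Fin n) F)) : Matrix.SpecialLinearGroup (Fin n) F) = 1 from rfl,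
        map_one, mul_inv_eq_one, mul_inv_eq_iff_eq_mul] at h5
      exact h5
    obtain ⟨a, ha⟩ := Matrix.mem_range_scalar_of_commute_transvectionStruct (M := (g : Matrix (Fin n) (Fin n) F)) fun t =>
      congrArg Units.val (hcomm ⟨t.toMatrix, Matrix.TransvectionStruct.det _⟩)
    refine ⟨a, ?_⟩
    rw [← ha, Matrix.scalar_apply, Matrix.smul_one_eq_diagonal]
  · right
    rintro _ ⟨s, rfl⟩
    have hsup : N ⊔ Subgroup.center _ = ⊤ := by
      rw [eq_top_iff]
      intro a _
      obtain ⟨b, hb, he⟩ := (ht ▸ Subgroup.mem_top (QuotientGroup.mk' _ a) : _ ∈ N.map (QuotientGroup.mk' _))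
      have h6 : b⁻¹ * a ∈ Subgroup.center _ := QuotientGroup.eq.1 he
      simpa using Subgroup.mul_mem_sup hb h6
    have hle : commutator (Matrix.SpecialLinearGroup (Fin n) F) ≤ N := by
      rw [commutator_eq_closure, Subgroup.closure_le]
      rintro _ ⟨a, b, rfl⟩
      obtain ⟨a₁, ha₁, a₂, ha₂, rfl⟩ := Subgroup.mem_sup_of_normal_left.1 (hsup ▸ Subgroup.mem_top a)
      obtain ⟨b₁, hb₁, b₂, hb₂, rfl⟩ := Subgroup.mem_sup_of_normal_left.1 (hsup ▸ Subgroup.mem_top b)
      have e : a₁ * a₂ * (b₁ * b₂) * (a₁ * a₂)⁻¹ * (b₁ * b₂)⁻¹ = a₁ * b₁ * a₁⁻¹ * b₁⁻¹ := by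
        have q1 := Subgroup.mem_center_iff.1 ha₂
        have q2 := Subgroup.mem_center_iff.1 hb₂
        calc a₁ * a₂ * (b₁ * b₂) * (a₁ * a₂)⁻¹ * (b₁ * b₂)⁻¹
            = a₁ * (a₂ * b₁) * (b₂ * (a₂⁻¹ * a₁⁻¹)) * (b₂⁻¹ * b₁⁻¹) := by group
          _ = a₁ * (b₁ * a₂) * ((a₂⁻¹ * a₁⁻¹) * b₂) * (b₂⁻¹ * b₁⁻¹) := by rw [← q1 b₁, ← q2]
          _ = _ := by group
      rw [commutatorElement_def, e]
      exact mul_mem (mul_mem (mul_mem ha₁ hb₁) (inv_mem ha₁)) (inv_mem hb₁)
    exact (hle (hperf ▸ Subgroup.mem_top s) : s ∈ N)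
end Cfsg.Agent.S2540
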