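import Cfsg.Statements.S2541

set_option autoImplicit false
open Cfsg

namespace Cfsg.Agent.S2541

/-- Let F be a field with 9 elements. The symmetric group S_6 is not isomorphic to PGL_2(F) (although both have index-2 subgroups isomorphic to A_6). -/
theorem result {F : Type*} [Field F] [Fintype F] (hF : Fintype.card F = 9) : ¬ Nonempty (Equiv.Perm (Fin 6) ≃* Matrix.ProjGenLinGroup (Fin 2) F) := by
  classical
  rintro ⟨e⟩
  obtain ⟨ζ, hζ⟩ := IsCyclic.exists_ofOrder_eq_natCard (α := Fˣ)
  have h8 : orderOf ζ = 8 := by rw [hζ, Nat.card_units, Nat.card_eq_fintype_card, hF]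
  let D : GL (Fin 2) F := Matrix.GeneralLinearGroup.mkOfDetNeZero (Matrix.diagonal ![(ζ : F), 1])
    (by simp [Matrix.det_diagonal])
  have hDpow : ∀ k, ((D ^ k : GL (Fin 2) F) : Matrix (Fin 2) (Fin 2) F) = Matrix.diagonal (![(ζ : F), 1] ^ k) := by
    intro k
    rw [Units.val_pow_eq_pow_val, ← Matrix.diagonal_pow]
    rfl
  have hord : ∀ k, (Matrix.ProjGenLinGroup.mk D) ^ k = 1 → 8 ∣ k := by
    intro k hk
    rw [← map_pow, Matrix.ProjGenLinGroup.mk_eq_one, Matrix.GeneralLinearGroup.mem_center_iff_val_mem_range_scalar] at hk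
    obtain ⟨c, hc⟩ := hk
    rw [hDpow] at hc
    have h0 := congrFun (congrFun hc 0) 0
    have h1 := congrFun (congrFun hc 1) 1
    simp at h0 h1
    rw [← h8]
    refine orderOf_dvd_of_pow_eq_one (Units.ext ?_)
    simp [← h0, h1]
  obtain ⟨σ, hσ⟩ := e.surjective (Matrix.ProjGenLinGroup.mk D)
  have h8pow : σ ^ 8 = 1 := by
    apply e.injective
    rw [map_pow, hσ, map_one, ← map_pow, Matrix.ProjGenLinGroup.mk_eq_one]
    have : D ^ 8 = 1 := by
      refine Units.ext ?_
      rw [hDpow]
      have hz : (ζ : F) ^ 8 = 1 := by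
        rw [← Units.val_pow_eq_pow_val, ← h8, pow_orderOf_eq_one, Units.val_one]
      ext i j
      fin_cases i <;> fin_cases j <;> simp [hz]
    rw [this]; exact Subgroup.one_mem _
  have h4pow : σ ^ 4 = 1 := by
    apply orderOf_dvd_iff_pow_eq_one.1
    rw [← Equiv.Perm.lcm_cycleType, Multiset.lcm_dvd]
    intro b hb
    have hle : b ≤ 6 := by
      have h1 := Multiset.le_sum_of_mem hb
      rw [Equiv.Perm.sum_cycleType] at h1
      exact h1.trans ((Finset.card_le_univ _).trans (by simp))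
    have h8b : b ∣ 8 :=
      (Equiv.Perm.dvd_of_mem_cycleType hb).trans (orderOf_dvd_of_pow_eq_one h8pow)
    interval_cases b <;> omega
  have := hord 4 (by rw [← hσ, ← map_pow, h4pow, map_one])
  omega

end Cfsg.Agent.S2541
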