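import Cfsg.Statements.S2543
import Cfsg.Agent.Lib.KnownC.PSLEleven

set_option autoImplicit false
open scoped Pointwise
open Cfsg

namespace Cfsg.Agent.S2543

open CfsgLib.KnownC

/-- Subgroups under conjugation. -/
@[ext] structure ConjSub (G : Type*) [Group G] where
  /-- the subgroup -/
  val : Subgroup G

/-- Forgetting. -/
def ConjSub.equiv {G : Type*} [Group G] : Subgroup G ≃ ConjSub G := ⟨ConjSub.mk, ConjSub.val, fun _ => rfl, fun _ => rfl⟩

instance {G : Type*} [Group G] [Finite G] : Finite (ConjSub G) := Finite.of_equiv _ ConjSub.equiv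

instance {G : Type*} [Group G] : MulAction G (ConjSub G) where
  smul g H := ⟨H.val.map (MulAut.conj g).toMonoidHom⟩
  one_smul H := ConjSub.ext (by
    show H.val.map (MulAut.conj (1 : G)).toMonoidHom = H.val
    convert Subgroup.map_id H.val using 2
    ext x; simp)
  mul_smul a b H := ConjSub.ext (by
    show H.val.map (MulAut.conj (a * b)).toMonoidHom = (H.val.map (MulAut.conj b).toMonoidHom).map (MulAut.conj a).toMonoidHom
    rw [Subgroup.map_map]
    congr 1
    ext x; simp [mul_assoc])


/-- Let F be a field with 11 elements. PSL_2(F) has exactly 22 subgroups isomorphic to the alternating group A_5, and they form two conjugacy classes: there are two such subgroups that are not conjugate, and every such subgroup is conjugate to one of these two. -/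
theorem result {F : Type*} [Field F] [Fintype F] (hF : Fintype.card F = 11) : Nat.card {H : Subgroup (Matrix.ProjectiveSpecialLinearGroup (Fin 2) F) // Nonempty (H ≃* alternatingGroup (Fin 5))} = 22 ∧ ∃ H K : Subgroup (Matrix.ProjectiveSpecialLinearGroup (Fin 2) F), Nonempty (H ≃* alternatingGroup (Fin 5)) ∧ Nonempty (K ≃* alternatingGroup (Fin 5)) ∧ (∀ g : Matrix.ProjectiveSpecialLinearGroup (Fin 2) F, MulAut.conj g • H ≠ K) ∧ ∀ L : Subgroup (Matrix.ProjectiveSpecialLinearGroup (Fin 2) F), Nonempty (L ≃* alternatingGroup (Fin 5)) → ∃ g : Matrix.ProjectiveSpecialLinearGroup (Fin 2) F, MulAut.conj g • L = H ∨ MulAut.conj g • L = K := by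
  classical
  obtain ⟨f, hf⟩ := PSLEleven.exists_a5 hF
  obtain ⟨f', hf', hne⟩ := PSLEleven.exists_twin hF f hf
  have hG := PSLEleven.setup11 hF
  have hsm : ∀ (g : Matrix.ProjectiveSpecialLinearGroup (Fin 2) F) (H : Subgroup (Matrix.ProjectiveSpecialLinearGroup (Fin 2) F)),
      MulAut.conj g • H = H.map (MulAut.conj g).toMonoidHom := fun g H => rfl
  -- every such subgroup is conjugate to one of two
  have hall : ∀ L : Subgroup (Matrix.ProjectiveSpecialLinearGroup (Fin 2) F), Nonempty (L ≃* alternatingGroup (Fin 5)) →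
      ∃ g : Matrix.ProjectiveSpecialLinearGroup (Fin 2) F, MulAut.conj g • L = f.range ∨ MulAut.conj g • L = f'.range := by
    rintro L ⟨e⟩
    let h : A5InSixSixty.A5 →* Matrix.ProjectiveSpecialLinearGroup (Fin 2) F := L.subtype.comp e.symm.toMonoidHom
    have hh : Function.Injective h := L.subtype_injective.comp e.symm.injective
    have hL : h.range = L := by
      ext x
      exact ⟨fun ⟨a, ha⟩ => ha ▸ (e.symm a).2, fun hx => ⟨e ⟨x, hx⟩, by simp [h]⟩⟩
    rcases A5InSixSixty.three_classes hG f f' h hf hf' hh with ⟨g, hg⟩ | ⟨g, hg⟩ | ⟨g, hg⟩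
    · exfalso
      refine hne g⁻¹ ?_
      rw [← hg, Subgroup.map_map]
      convert Subgroup.map_id f'.range using 2
      ext x
      simp [mul_assoc]
    · exact ⟨g, Or.inl (by rw [hsm, ← hL, hg])⟩
    · exact ⟨g, Or.inr (by rw [hsm, ← hL, hg])⟩
  refine ⟨?_, f.range, f'.range, ⟨(MonoidHom.ofInjective hf).symm⟩, ⟨(MonoidHom.ofInjective hf').symm⟩,
    fun g => by rw [hsm]; exact hne g, hall⟩
  -- each class has eleven members
  have horb : ∀ φ : A5InSixSixty.A5 →* Matrix.ProjectiveSpecialLinearGroup (Fin 2) F, Function.Injective φ →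
      (MulAction.orbit (Matrix.ProjectiveSpecialLinearGroup (Fin 2) F) (⟨φ.range⟩ : Cfsg.Agent.S2543.ConjSub _)).ncard = 11 := by
    intro φ hφ
    rw [← MulAction.index_stabilizer, ← (A5InSixSixty.two_pretransitive hG φ hφ).1]
    congr 1
    ext g
    rw [← A5InSixSixty.normalizer_range hG φ hφ, MulAction.mem_stabilizer_iff, Subgroup.mem_normalizer_iff,
      A5InSixSixty.normalizer_range hG φ hφ]
    constructor
    · intro h n
      have h' : φ.range.map (MulAut.conj g).toMonoidHom = φ.range := congrArg ConjSub.val h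
      exact (Subgroup.mem_map_iff_mem (f := (MulAut.conj g).toMonoidHom) (MulEquiv.injective _)).symm.trans (by rw [h']; rfl)
    · intro h
      apply ConjSub.ext
      show φ.range.map (MulAut.conj g).toMonoidHom = φ.range
      refine Subgroup.eq_of_le_of_card_ge ?_ (Nat.card_congr (φ.range.equivMapOfInjective _ (MulEquiv.injective (MulAut.conj g))).toEquiv).le
      rintro _ ⟨n, hn, rfl⟩
      exact (h n).1 hn
  have key : Nat.card {H : Subgroup (Matrix.ProjectiveSpecialLinearGroup (Fin 2) F) // Nonempty (H ≃* alternatingGroup (Fin 5))} =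
      (MulAction.orbit (Matrix.ProjectiveSpecialLinearGroup (Fin 2) F) (⟨f.range⟩ : ConjSub _) ∪
        MulAction.orbit (Matrix.ProjectiveSpecialLinearGroup (Fin 2) F) (⟨f'.range⟩ : ConjSub _)).ncard := by
    rw [← Nat.card_coe_set_eq]
    refine Nat.card_congr ((Equiv.subtypeEquiv ConjSub.equiv fun H => ?_))
    constructor
    · intro hH
      obtain ⟨g, hg | hg⟩ := hall H hH
      · exact Or.inl (MulAction.mem_orbit_symm.1 ⟨g, ConjSub.ext hg⟩)
      · exact Or.inr (MulAction.mem_orbit_symm.1 ⟨g, ConjSub.ext hg⟩)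
    · rintro (⟨g, hg⟩ | ⟨g, hg⟩)
      · have := congrArg ConjSub.val hg
        rw [show (ConjSub.equiv H).val = H from rfl] at this
        rw [← this]
        exact ⟨((f.range.equivMapOfInjective _ (MulEquiv.injective (MulAut.conj g))).symm.trans (MonoidHom.ofInjective hf).symm)⟩
      · have := congrArg ConjSub.val hg
        rw [show (ConjSub.equiv H).val = H from rfl] at this
        rw [← this]
        exact ⟨((f'.range.equivMapOfInjective _ (MulEquiv.injective (MulAut.conj g))).symm.trans (MonoidHom.ofInjective hf').symm)⟩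
  rw [key, Set.ncard_union_eq, horb f hf, horb f' hf']
  rw [Set.disjoint_left]
  intro x hx hx'
  obtain ⟨g, rfl⟩ := hx
  obtain ⟨g', hg'⟩ := hx'
  refine hne (g'⁻¹ * g) ?_
  have e : (g'⁻¹ * g) • (⟨f.range⟩ : ConjSub _) = ⟨f'.range⟩ := by rw [mul_smul, inv_smul_eq_iff]; exact hg'.symm
  exact congrArg ConjSub.val e

end Cfsg.Agent.S2543
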