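import Cfsg.Statements.S2544
import Cfsg.Agent.Lib.PGroup.SteinbergSL

set_option autoImplicit false
open Cfsg

namespace Cfsg.Agent.S2544

/-- Let F be a finite field of characteristic p and consider the projective special linear group PSL_n(F) with n ≥ 2. This group has an irreducible complex character χ whose degree equals the order of a Sylow p-subgroup (namely q^(n(n−1)/2) when #F = q) and whose restriction to any Sylow p-subgroup P is the regular character of P: χ vanishes on the non-identity elements of P. (This is the Steinberg character.) -/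
theorem result {F : Type*} [Field F] [Fintype F] (p : ℕ) [Fact p.Prime] [CharP F p] (n : ℕ) (hn : 2 ≤ n) : ∃ χ : Matrix.ProjectiveSpecialLinearGroup (Fin n) F → ℂ, Cfsg.IsIrrCharacter (Matrix.ProjectiveSpecialLinearGroup (Fin n) F) χ ∧ ∀ P : Sylow p (Matrix.ProjectiveSpecialLinearGroup (Fin n) F), χ 1 = Nat.card P ∧ ∀ x : Matrix.ProjectiveSpecialLinearGroup (Fin n) F, x ∈ P → x ≠ 1 → χ x = 0 := by
  classical
  haveI : Fintype (Matrix.SpecialLinearGroup (Fin n) F) := Fintype.ofFinite _
  haveI : Fintype (CfsgLib.PGroup.SteinbergSL.N F n) := Fintype.ofFinite _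
  obtain ⟨P, hP⟩ := CfsgLib.PGroup.FusionPSL.exists_sylow (F := F) (n := n) (p := p)
    (π := QuotientGroup.mk' (Subgroup.center (Matrix.SpecialLinearGroup (Fin n) F))) (QuotientGroup.mk'_surjective _)
  refine CfsgLib.PGroup.SteinbergModule.exists_char CfsgLib.PGroup.SteinbergSL.splitData
    (QuotientGroup.mk'_surjective _) (fun z hz g => ?_) P hP
  rw [QuotientGroup.ker_mk'] at hz
  rw [Subgroup.mem_center_iff.1 hz g⁻¹, inv_mul_cancel_right]
  obtain ⟨r, -, hr⟩ := Matrix.SpecialLinearGroup.mem_center_iff.1 hz
  intro a c hac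
  rw [← hr, Matrix.scalar_apply]
  exact Matrix.diagonal_apply_ne _ (ne_of_gt hac)

end Cfsg.Agent.S2544
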