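import Cfsg.Statements.S2545
import Cfsg.Agent.Lib.PGroup.SteinbergSp

set_option autoImplicit false
open Cfsg

namespace Cfsg.Agent.S2545

/-- Let F be a finite field of characteristic p and consider the projective symplectic group PSp_{2m}(F) with m ≥ 1. This group has an irreducible complex character χ whose degree equals the order of a Sylow p-subgroup (namely q^(m²) when #F = q) and whose restriction to any Sylow p-subgroup P is the regular character of P: χ vanishes on the non-identity elements of P. (This is the Steinberg character.) -/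
theorem result {F : Type*} [Field F] [Fintype F] (p : ℕ) [Fact p.Prime] [CharP F p] (m : ℕ) (hm : 1 ≤ m) : ∃ χ : Cfsg.PSp m F → ℂ, Cfsg.IsIrrCharacter (Cfsg.PSp m F) χ ∧ ∀ P : Sylow p (Cfsg.PSp m F), χ 1 = Nat.card P ∧ ∀ x : Cfsg.PSp m F, x ∈ P → x ≠ 1 → χ x = 0 := by
  classical
  haveI : Fintype (CfsgLib.PGroup.BorelSp.Sp m F) := Fintype.ofFinite _
  haveI : Fintype (CfsgLib.PGroup.SteinbergSp.N F m) := Fintype.ofFinite _
  obtain ⟨P, hP⟩ := CfsgLib.PGroup.FusionSp.exists_sylow (F := F) (m := m) (p := p)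
    (π := QuotientGroup.mk' (Subgroup.center ↥(Matrix.symplecticGroup (Fin m) F))) (QuotientGroup.mk'_surjective _)
  refine CfsgLib.PGroup.SteinbergModule.exists_char CfsgLib.PGroup.SteinbergSp.splitData
    (QuotientGroup.mk'_surjective _) (fun z hz g => ?_) P hP
  rw [QuotientGroup.ker_mk'] at hz
  rw [Subgroup.mem_center_iff.1 hz g⁻¹, inv_mul_cancel_right]
  obtain ⟨d, u, hu, rfl⟩ := CfsgLib.PGroup.FusionSp.exists_diag z
    (CfsgLib.PGroup.BorelSp.upper_of_normalizes fun v hv => by
      rw [mul_assoc, Subgroup.mem_center_iff.1 hz v, inv_mul_cancel_left]; exact hv)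
  exact mul_mem (CfsgLib.PGroup.SteinbergSp.lev_diag_mem_B d) (CfsgLib.PGroup.SteinbergSp.U0_le_B hu)

end Cfsg.Agent.S2545
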