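import Cfsg.Statements.S2546
import Cfsg.Agent.Lib.PGroup.SteinbergSU

set_option autoImplicit false
open Cfsg

namespace Cfsg.Agent.S2546

/-- Let F be a finite field of characteristic p and consider the projective special unitary group PSU_n(q), n ≥ 2, realised over the field F with q² elements. This group has an irreducible complex character χ whose degree equals the order of a Sylow p-subgroup (namely q^(n(n−1)/2)) and whose restriction to any Sylow p-subgroup P is the regular character of P: χ vanishes on the non-identity elements of P. (This is the Steinberg character.) -/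
theorem result {F : Type*} [Field F] [Fintype F] (p : ℕ) [Fact p.Prime] [CharP F p] (n q : ℕ) (hn : 2 ≤ n) (hF : Fintype.card F = q ^ 2) : ∃ χ : Cfsg.PSU n F q → ℂ, Cfsg.IsIrrCharacter (Cfsg.PSU n F q) χ ∧ ∀ P : Sylow p (Cfsg.PSU n F q), χ 1 = Nat.card P ∧ ∀ x : Cfsg.PSU n F q, x ∈ P → x ≠ 1 → χ x = 0 := by
  classical
  obtain ⟨σ, hσ, ⟨e⟩⟩ := CfsgLib.PGroup.SUModel.exists_model (n := n) hF
  obtain ⟨D⟩ := CfsgLib.PGroup.SURoots.exists_datum hσ
  haveI : Fintype (CfsgLib.PGroup.SUModel.SUJ σ n) := Fintype.ofFinite _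
  haveI : Fintype (CfsgLib.PGroup.SURoots.N σ n) := Fintype.ofFinite _
  let π : CfsgLib.PGroup.SUModel.SUJ σ n →* Cfsg.PSU n F q :=
    (QuotientGroup.mk' (Subgroup.center (Cfsg.SU n F q))).comp e.toMonoidHom
  have hπ : Function.Surjective π := (QuotientGroup.mk'_surjective _).comp e.surjective
  obtain ⟨P, hP⟩ := CfsgLib.PGroup.SteinbergSU.exists_sylow D (p := p) hπ
  refine CfsgLib.PGroup.SteinbergModule.exists_char (CfsgLib.PGroup.SteinbergSU.splitData D) hπ
    (fun z hz g => ?_) P hP
  have hzc : z ∈ Subgroup.center (CfsgLib.PGroup.SUModel.SUJ σ n) := by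
    rw [MonoidHom.mem_ker] at hz
    have hz' : e z ∈ Subgroup.center (Cfsg.SU n F q) := (QuotientGroup.eq_one_iff _).1 hz
    refine Subgroup.mem_center_iff.2 fun x => e.injective ?_
    rw [map_mul, map_mul]
    exact Subgroup.mem_center_iff.1 hz' (e x)
  rw [Subgroup.mem_center_iff.1 hzc g⁻¹, inv_mul_cancel_right]
  exact CfsgLib.PGroup.SteinbergSU.center_le_B D hzc

end Cfsg.Agent.S2546
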