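import Cfsg.Statements.S2739
import Mathlib


set_option autoImplicit false
open scoped Pointwise
open Cfsg

namespace Cfsg.Agent.S2739

open Polynomial in
theorem exists_normal_form {F : Type*} [Field F] [Fintype F] (hF : Fintype.card F = 4) {ω : F} (hω : ω ^ 3 = 1) (hω1 : ω ≠ 1)
    (g : Matrix.SpecialLinearGroup (Fin 3) F)
    (hg : (g : Matrix (Fin 3) (Fin 3) F) ^ 3 = 1) (hns : ∀ c : F, (g : Matrix (Fin 3) (Fin 3) F) ≠ c • 1) :
    ∃ P : GL (Fin 3) F, (g : Matrix (Fin 3) (Fin 3) F) * (P : Matrix (Fin 3) (Fin 3) F) =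
      (P : Matrix (Fin 3) (Fin 3) F) * Matrix.diagonal ![1, ω, ω ^ 2] := by
  classical
  have : CharP F 2 := by
    obtain ⟨p, hp⟩ := CharP.exists F
    obtain ⟨k, hpp, hk⟩ := FiniteField.card F p
    have h1 : p ∣ 4 := hF ▸ hk ▸ dvd_pow_self p k.pos.ne'
    have h2 : p ≤ 4 := Nat.le_of_dvd (by norm_num) h1
    interval_cases p <;> first | exact hp | (exfalso; revert hpp h1; decide)
  have h2 : (2 : F) = 0 := CharP.cast_eq_zero F 2
  have hne0 : ω ≠ 0 := fun h => by rw [h] at hω; simp at hω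
  have hsum : 1 + ω + ω ^ 2 = 0 := by
    have : (ω - 1) * (1 + ω + ω ^ 2) = 0 := by linear_combination hω
    exact (mul_eq_zero.1 this).resolve_left (sub_ne_zero.2 hω1)
  have hω2 : ω ^ 2 ≠ 1 := fun h => hω1 (by linear_combination hω - ω * h)
  have hωω2 : ω ≠ ω ^ 2 := fun h => hω1 (mul_left_cancel₀ hne0 (by rw [mul_one, ← sq, ← h]))
  let r : Fin 3 → F := ![1, ω, ω ^ 2]
  have hr : ∀ i, r i ^ 3 = 1 := fun i => by
    fin_cases i <;> simp [r, hω]
    rw [← pow_mul, show (2 * 3 : ℕ) = 3 * 2 from rfl, pow_mul, hω, one_pow]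
  have hrinj : Function.Injective r := by
    intro i j h
    fin_cases i <;> fin_cases j <;> first | rfl | simp [r, hω1, hω2, hω1.symm, hω2.symm, hωω2, hωω2.symm] at h
  have hroots : ∀ c : F, c ^ 3 = 1 → ∃ i, r i = c := by
    intro c hc
    have : (c - 1) * ((c - ω) * (c - ω ^ 2)) = 0 := by linear_combination hc + (c - c ^ 2) * hsum + (c - 1) * hω
    rcases mul_eq_zero.1 this with h | h
    · exact ⟨0, (sub_eq_zero.1 h).symm⟩
    · rcases mul_eq_zero.1 h with h | h
      · exact ⟨1, (sub_eq_zero.1 h).symm⟩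
      · exact ⟨2, (sub_eq_zero.1 h).symm⟩
  set G := (g : Matrix (Fin 3) (Fin 3) F)
  let S : Set (Fin 3 → F) := {v | ∃ c : F, c ^ 3 = 1 ∧ G.mulVec v = c • v}
  have h3 : ∀ v, G.mulVec (G.mulVec (G.mulVec v)) = v := fun v => by
    rw [Matrix.mulVec_mulVec, Matrix.mulVec_mulVec, show G * G * G = G ^ 3 from by rw [pow_succ, pow_two], hg, Matrix.one_mulVec]
  have hspan : ⊤ ≤ Submodule.span F S := by
    intro v _
    let E : F → (Fin 3 → F) := fun c => v + c ^ 2 • G.mulVec v + c • G.mulVec (G.mulVec v)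
    have hE : ∀ c, c ^ 3 = 1 → E c ∈ S := fun c hc => ⟨c, hc, by
      simp only [E, Matrix.mulVec_add, Matrix.mulVec_smul, h3, smul_add, smul_smul]
      rw [show c * c ^ 2 = 1 by rw [← pow_succ']; exact hc, one_smul, ← sq]
      abel⟩
    have hv : v = E 1 + E ω + E (ω ^ 2) := by
      simp only [E, one_pow, one_smul]
      funext i
      simp only [Pi.add_apply, Pi.smul_apply, smul_eq_mul]
      linear_combination -(v i) * h2 - (ω * (G.mulVec v i)) * hω - (G.mulVec v i) * hsum -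
        (G.mulVec (G.mulVec v) i) * hsum
    rw [hv]
    exact add_mem (add_mem (Submodule.subset_span (hE 1 (one_pow 3))) (Submodule.subset_span (hE ω hω)))
      (Submodule.subset_span (hE (ω ^ 2) (by rw [← pow_mul, show (2 * 3 : ℕ) = 3 * 2 from rfl, pow_mul, hω, one_pow])))
  let b0 := Module.Basis.ofSpan hspan
  have hb0 : ∀ x, b0 x ∈ S := fun x => Module.Basis.ofSpan_subset hspan ⟨x, rfl⟩
  let e : _ ≃ Fin 3 := b0.indexEquiv (Pi.basisFun F (Fin 3))
  let b := b0.reindex e
  have hbS : ∀ i, b i ∈ S := fun i => by rw [Module.Basis.reindex_apply]; exact hb0 _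
  choose ev hev hev' using hbS
  let Q : Matrix (Fin 3) (Fin 3) F := Matrix.of fun i j => b j i
  have hQ : Q = (Pi.basisFun F (Fin 3)).toMatrix b := by
    ext i j; simp [Q, Module.Basis.toMatrix_apply]
  have hQdet : Q.det ≠ 0 := by
    rw [hQ]
    have := (Pi.basisFun F (Fin 3)).invertibleToMatrix b
    exact Matrix.det_ne_zero_of_right_inverse (mul_invOf_self _)
  have hGQ : G * Q = Q * Matrix.diagonal ev := by
    ext i j
    have h := congrFun (hev' j) i
    rw [Matrix.mul_diagonal, mul_comm]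
    exact h
  have hdet : ev 0 * ev 1 * ev 2 = 1 := by
    have h := congrArg Matrix.det hGQ
    rw [Matrix.det_mul, Matrix.det_mul, g.2, one_mul, Matrix.det_diagonal, Fin.prod_univ_three] at h
    exact (mul_eq_left₀ hQdet).1 h.symm
  have hinj : Function.Injective ev := by
    by_contra h
    have hall : ev 0 = ev 1 ∧ ev 1 = ev 2 := by
      have z : ∀ a c : F, a ^ 3 = 1 → a * a * c = 1 → c = a := fun a c ha hac => by
        linear_combination a * hac - c * ha
      have a0 : ev 0 = ev 1 → ev 0 = ev 1 ∧ ev 1 = ev 2 := fun q => by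
        have h' : ev 2 = ev 0 := z _ _ (hev 0) (by linear_combination hdet + (ev 0 * ev 2) * q)
        exact ⟨q, by rw [h', q]⟩
      have a1 : ev 0 = ev 2 → ev 0 = ev 1 ∧ ev 1 = ev 2 := fun q => by
        have h' : ev 1 = ev 0 := z _ _ (hev 0) (by linear_combination hdet + (ev 0 * ev 1) * q)
        exact ⟨h'.symm, h'.trans q⟩
      have a2 : ev 1 = ev 2 → ev 0 = ev 1 ∧ ev 1 = ev 2 := fun q => by
        have h' : ev 0 = ev 1 := z _ _ (hev 1) (by linear_combination hdet + (ev 0 * ev 1) * q)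
        exact ⟨h', q⟩
      simp only [Function.Injective, not_forall] at h
      obtain ⟨i, j, hij, hne⟩ := h
      fin_cases i <;> fin_cases j <;> first
        | exact absurd rfl hne
        | exact a0 hij
        | exact a0 hij.symm
        | exact a1 hij
        | exact a1 hij.symm
        | exact a2 hij
        | exact a2 hij.symm
    apply hns (ev 0)
    have hd : Matrix.diagonal ev = ev 0 • (1 : Matrix (Fin 3) (Fin 3) F) := by
      rw [Matrix.smul_one_eq_diagonal]
      congr 1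
      funext i
      fin_cases i
      · rfl
      · exact hall.1.symm
      · exact (hall.1.trans hall.2).symm
    rw [hd, Matrix.mul_smul, Matrix.mul_one] at hGQ
    have hu : IsUnit Q := (Matrix.isUnit_iff_isUnit_det _).2 (isUnit_iff_ne_zero.2 hQdet)
    refine hu.mul_left_injective (show G * Q = (ev 0 • (1 : Matrix (Fin 3) (Fin 3) F)) * Q from ?_)
    rw [hGQ, Matrix.smul_mul, Matrix.one_mul]
  have hσ : ∀ i, ∃ j, r j = ev i := fun i => hroots _ (hev i)
  choose σ hσ' using hσ
  have hσb : Function.Bijective σ := Finite.injective_iff_bijective.1 fun i j h => hinj (by rw [← hσ', ← hσ', h])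
  let τ := (Equiv.ofBijective σ hσb).symm
  refine ⟨Matrix.GeneralLinearGroup.mkOfDetNeZero (Q.submatrix id τ) ?_, ?_⟩
  · rw [Matrix.det_permute']
    rcases Int.units_eq_one_or (Equiv.Perm.sign τ) with h | h <;> simp [h, hQdet]
  · show G * Q.submatrix id τ = Q.submatrix id τ * Matrix.diagonal r
    ext i j
    rw [Matrix.mul_diagonal]
    have h := congrFun (congrFun hGQ i) (τ j)
    rw [Matrix.mul_diagonal] at h
    have hτ : ev (τ j) = r j := by rw [← hσ']; exact congrArg r ((Equiv.ofBijective σ hσb).apply_symm_apply j)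
    rw [hτ] at h
    exact h

open Polynomial in
theorem cube_eq_one_of_scalar {F : Type*} [Field F] [Fintype F] (hF : Fintype.card F = 4)
    (g : Matrix.SpecialLinearGroup (Fin 3) F) {c : F} (hg : (g : Matrix (Fin 3) (Fin 3) F) ^ 3 = c • 1) : c = 1 := by
  classical
  by_contra hc
  set G := (g : Matrix (Fin 3) (Fin 3) F)
  have hc0 : c ≠ 0 := fun h => by
    have := congrArg Matrix.det hg
    rw [Matrix.det_pow, g.2, h, zero_smul] at this
    simp at this
  have hirr : Irreducible (X ^ 3 - C c : F[X]) := by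
    rw [Monic.irreducible_iff_roots_eq_zero_of_degree_le_three (monic_X_pow_sub_C c (by norm_num)) (by simp) (by simp)]
    refine Multiset.eq_zero_of_forall_notMem fun a ha => ?_
    rw [mem_roots (monic_X_pow_sub_C c (by norm_num)).ne_zero, IsRoot.def, eval_sub, eval_pow, eval_X, eval_C, sub_eq_zero] at ha
    rcases eq_or_ne a 0 with rfl | ha0
    · simp at ha; exact hc0 ha.symm
    · have h := FiniteField.pow_card_sub_one_eq_one a ha0
      rw [hF] at h
      exact hc (ha.symm.trans h)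
  have hmin : minpoly F G = X ^ 3 - C c := (minpoly.eq_of_irreducible_of_monic hirr (by
    rw [map_sub, map_pow, aeval_X, aeval_C, Algebra.algebraMap_eq_smul_one, hg, sub_self]) (monic_X_pow_sub_C c (by norm_num))).symm
  have hchar : G.charpoly = X ^ 3 - C c := by
    refine (eq_of_monic_of_dvd_of_natDegree_le (monic_X_pow_sub_C c (by norm_num)) (Matrix.charpoly_monic G)
      (hmin ▸ Matrix.minpoly_dvd_charpoly G) ?_)
    rw [Matrix.charpoly_natDegree_eq_dim, natDegree_X_pow_sub_C, Fintype.card_fin]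
  have hd := Matrix.det_eq_sign_charpoly_coeff G
  rw [g.2, hchar, Fintype.card_fin, coeff_sub, coeff_C_zero, coeff_X_pow] at hd
  simp at hd
  exact hc (by linear_combination -hd)

theorem conj_of_order_three {F : Type*} [Field F] [Fintype F] (hF : Fintype.card F = 4)
    (x y : Matrix.ProjectiveSpecialLinearGroup (Fin 3) F) (hx : orderOf x = 3) (hy : orderOf y = 3) :
    ∃ w, MulAut.conj w x = y := by
  classical
  obtain ⟨u, hu⟩ := IsCyclic.exists_ofOrder_eq_natCard (α := Fˣ)
  rw [Nat.card_units, Nat.card_eq_fintype_card, hF] at hu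
  set ω : F := (u : F) with hωdef
  have hω : ω ^ 3 = 1 := by
    rw [← Units.val_pow_eq_pow_val, show (3 : ℕ) = orderOf u by rw [hu], pow_orderOf_eq_one, Units.val_one]
  have hω1 : ω ≠ 1 := fun h => by rw [show u = 1 from Units.ext h] at hu; simp at hu
  have lift : ∀ z : Matrix.ProjectiveSpecialLinearGroup (Fin 3) F, orderOf z = 3 → ∃ (s : Matrix.SpecialLinearGroup (Fin 3) F) (P : GL (Fin 3) F),
      QuotientGroup.mk s = z ∧ (s : Matrix (Fin 3) (Fin 3) F) * (P : Matrix (Fin 3) (Fin 3) F) =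
        (P : Matrix (Fin 3) (Fin 3) F) * Matrix.diagonal ![1, ω, ω ^ 2] := by
    intro z hz
    obtain ⟨s, rfl⟩ := QuotientGroup.mk_surjective z
    have h3 : s ^ 3 ∈ Subgroup.center (Matrix.SpecialLinearGroup (Fin 3) F) := by
      rw [← QuotientGroup.eq_one_iff]
      exact (congrArg (fun n => (QuotientGroup.mk s : Matrix.ProjectiveSpecialLinearGroup (Fin 3) F) ^ n) hz).symm.trans
        (pow_orderOf_eq_one _)
    obtain ⟨c, -, hc⟩ := Matrix.SpecialLinearGroup.mem_center_iff.1 h3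
    have hc' : (s : Matrix (Fin 3) (Fin 3) F) ^ 3 = c • 1 := by
      rw [Matrix.smul_one_eq_diagonal, ← Matrix.scalar_apply, hc]; rfl
    rw [cube_eq_one_of_scalar hF s hc', one_smul] at hc'
    have hns : ∀ a : F, (s : Matrix (Fin 3) (Fin 3) F) ≠ a • 1 := fun a ha => by
      have hcen : s ∈ Subgroup.center (Matrix.SpecialLinearGroup (Fin 3) F) := by
        refine Matrix.SpecialLinearGroup.mem_center_iff.2 ⟨a, ?_, ?_⟩
        · have := congrArg Matrix.det ha
          rw [s.2, Matrix.det_smul, Matrix.det_one, mul_one] at this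
          exact this.symm
        · rw [Matrix.scalar_apply, ← Matrix.smul_one_eq_diagonal, ha]
      have h1 : (QuotientGroup.mk s : Matrix.ProjectiveSpecialLinearGroup (Fin 3) F) = 1 := (QuotientGroup.eq_one_iff s).2 hcen
      rw [h1] at hz
      simp at hz
    obtain ⟨P, hP⟩ := exists_normal_form hF hω hω1 s hc' hns
    exact ⟨s, P, rfl, hP⟩
  obtain ⟨s, P, rfl, hP⟩ := lift x hx
  obtain ⟨t, Q, rfl, hQ⟩ := lift y hy
  set δ : F := (P : Matrix (Fin 3) (Fin 3) F).det * ((Q : Matrix (Fin 3) (Fin 3) F).det)⁻¹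
  let D : Matrix (Fin 3) (Fin 3) F := Matrix.diagonal ![δ, 1, 1]
  have hQ0 : (Q : Matrix (Fin 3) (Fin 3) F).det ≠ 0 := (Matrix.GeneralLinearGroup.det Q).ne_zero
  have hP0 : (P : Matrix (Fin 3) (Fin 3) F).det ≠ 0 := (Matrix.GeneralLinearGroup.det P).ne_zero
  let W : Matrix (Fin 3) (Fin 3) F := (Q : Matrix (Fin 3) (Fin 3) F) * D * ((P⁻¹ : GL (Fin 3) F) : Matrix (Fin 3) (Fin 3) F)
  have hW : W.det = 1 := by
    have hPi : ((P⁻¹ : GL (Fin 3) F) : Matrix (Fin 3) (Fin 3) F).det = ((P : Matrix (Fin 3) (Fin 3) F).det)⁻¹ := by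
      refine eq_inv_of_mul_eq_one_left ?_
      rw [← Matrix.det_mul, ← Units.val_mul, inv_mul_cancel, Units.val_one, Matrix.det_one]
    simp only [W, D, Matrix.det_mul, Matrix.det_diagonal, Fin.prod_univ_three, hPi, δ]
    simp
    field_simp
  refine ⟨QuotientGroup.mk (⟨W, hW⟩ : Matrix.SpecialLinearGroup (Fin 3) F), ?_⟩
  rw [MulAut.conj_apply]
  let w₀ : Matrix.SpecialLinearGroup (Fin 3) F := ⟨W, hW⟩
  show (QuotientGroup.mk (w₀ * s * w₀⁻¹) : Matrix.ProjectiveSpecialLinearGroup (Fin 3) F) = _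
  refine congrArg _ ((mul_inv_eq_iff_eq_mul (G := Matrix.SpecialLinearGroup (Fin 3) F)).2 (Subtype.ext ?_))
  show W * (s : Matrix (Fin 3) (Fin 3) F) = (t : Matrix (Fin 3) (Fin 3) F) * W
  have hs : ((P⁻¹ : GL (Fin 3) F) : Matrix (Fin 3) (Fin 3) F) * (s : Matrix (Fin 3) (Fin 3) F) =
      Matrix.diagonal ![1, ω, ω ^ 2] * ((P⁻¹ : GL (Fin 3) F) : Matrix (Fin 3) (Fin 3) F) := by
    calc _ = ((P⁻¹ : GL (Fin 3) F) : Matrix (Fin 3) (Fin 3) F) * ((s : Matrix (Fin 3) (Fin 3) F) * (P : Matrix (Fin 3) (Fin 3) F)) *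
          ((P⁻¹ : GL (Fin 3) F) : Matrix (Fin 3) (Fin 3) F) := by
          rw [Matrix.mul_assoc, Matrix.mul_assoc, ← Units.val_mul P, mul_inv_cancel, Units.val_one, Matrix.mul_one]
      _ = _ := by
          rw [hP, ← Matrix.mul_assoc, ← Units.val_mul, inv_mul_cancel, Units.val_one, Matrix.one_mul]
  simp only [W]
  rw [Matrix.mul_assoc _ _ (s : Matrix (Fin 3) (Fin 3) F), hs, ← Matrix.mul_assoc, ← Matrix.mul_assoc, ← Matrix.mul_assoc,
    hQ, Matrix.mul_assoc (Q : Matrix (Fin 3) (Fin 3) F) D, Matrix.mul_assoc (Q : Matrix (Fin 3) (Fin 3) F) _ D]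
  congr 2
  simp only [D, Matrix.diagonal_mul_diagonal]
  congr 1
  funext i
  ring


/-- In the projective special linear group PSL(3, 4) all subgroups of order 3 are conjugate. -/
theorem result (F : Type*) [Field F] [Fintype F] (hF : Fintype.card F = 4) (X Y : Subgroup (Matrix.ProjectiveSpecialLinearGroup (Fin 3) F)) (hX : Nat.card ↥X = 3) (hY : Nat.card ↥Y = 3) : ∃ g : Matrix.ProjectiveSpecialLinearGroup (Fin 3) F, MulAut.conj g • X = Y := by
  classical
  have : Fact (Nat.Prime 3) := ⟨Nat.prime_three⟩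
  obtain ⟨gx, hgx⟩ := exists_prime_orderOf_dvd_card' 3 (G := X) (by rw [hX])
  obtain ⟨gy, hgy⟩ := exists_prime_orderOf_dvd_card' 3 (G := Y) (by rw [hY])
  rw [← Subgroup.orderOf_coe] at hgx hgy
  obtain ⟨w, hw⟩ := conj_of_order_three hF (gx : Matrix.ProjectiveSpecialLinearGroup (Fin 3) F) (gy : _) hgx hgy
  refine ⟨w, ?_⟩
  have hz : ∀ (S : Subgroup (Matrix.ProjectiveSpecialLinearGroup (Fin 3) F)) (s : S),
      Nat.card S = 3 → orderOf (s : Matrix.ProjectiveSpecialLinearGroup (Fin 3) F) = 3 →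
      Subgroup.zpowers (s : Matrix.ProjectiveSpecialLinearGroup (Fin 3) F) = S := fun S s hS hs =>
    Subgroup.eq_of_le_of_card_ge (Subgroup.zpowers_le.2 s.2) (by rw [Nat.card_zpowers, hs, hS])
  rw [← hz X gx hX hgx, ← hz Y gy hY hgy, ← hw]
  exact MonoidHom.map_zpowers (MulAut.conj w).toMonoidHom _
end Cfsg.Agent.S2739
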