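import Cfsg.Statements.S2550
import Cfsg.Agent.S2739
import Cfsg.Agent.Lib.Classical.SLOrders


set_option autoImplicit false
open Cfsg

namespace Cfsg.Agent.S2550

open Matrix in
theorem exists_order_six {F : Type*} [Field F] [Fintype F] (hF : Fintype.card F = 2) :
    ∃ g : Matrix.ProjectiveSpecialLinearGroup (Fin 4) F, orderOf g = 6 := by
  classical
  haveI : CharP F 2 := charP_of_card_eq_prime hF
  let ι : ZMod 2 →+* F := ZMod.castHom (dvd_refl 2) F
  let A : Matrix.SpecialLinearGroup (Fin 4) (ZMod 2) := ⟨!![0, 1, 0, 0; 1, 1, 0, 0; 0, 0, 1, 1; 0, 0, 0, 1], by decide⟩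
  have hA : orderOf A = 6 := by
    rw [orderOf_eq_iff (by norm_num)]
    refine ⟨by decide +kernel, fun m hm hm0 => ?_⟩
    interval_cases m <;> decide +kernel
  have hinj : Function.Injective (SpecialLinearGroup.map (n := Fin 4) ι) := fun a b h =>
    Subtype.ext (Matrix.map_injective ι.injective (congrArg Subtype.val h))
  refine ⟨QuotientGroup.mk (SpecialLinearGroup.map ι A), ?_⟩
  have hcard : Nat.card (Subgroup.center (SpecialLinearGroup (Fin 4) F)) = 1 := by
    rw [CfsgLib.Classical.card_center_sl 4 (by norm_num), hF]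
    decide
  have hk : Function.Injective (QuotientGroup.mk' (Subgroup.center (SpecialLinearGroup (Fin 4) F))) := by
    rw [← MonoidHom.ker_eq_bot_iff, QuotientGroup.ker_mk']
    exact Subgroup.card_eq_one.1 hcard
  rw [← hA, ← orderOf_injective _ hinj A]
  exact orderOf_injective _ hk _

open Matrix in
theorem no_order_six {K : Type*} [Field K] [Fintype K] (hK : Fintype.card K = 4)
    (z : Matrix.ProjectiveSpecialLinearGroup (Fin 3) K) : orderOf z ≠ 6 := by
  classical
  intro hz
  have hz3 : orderOf (z ^ 2) = 3 := by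
    rw [orderOf_pow' z two_ne_zero, hz]
    decide
  obtain ⟨u, hu⟩ := IsCyclic.exists_ofOrder_eq_natCard (α := Kˣ)
  rw [Nat.card_units, Nat.card_eq_fintype_card, hK] at hu
  set ω : K := (u : K) with hωdef
  have hω : ω ^ 3 = 1 := by
    rw [← Units.val_pow_eq_pow_val, show (3 : ℕ) = orderOf u by rw [hu], pow_orderOf_eq_one, Units.val_one]
  have hω1 : ω ≠ 1 := fun h => by rw [show u = 1 from Units.ext h] at hu; simp at hu
  have h2 : (2 : K) = 0 := by
    have h4 : ((Fintype.card K : ℕ) : K) = 0 := FiniteField.cast_card_eq_zero K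
    rw [hK, show ((4 : ℕ) : K) = 2 * 2 by norm_num] at h4
    exact mul_self_eq_zero.1 h4
  obtain ⟨s, hs⟩ := QuotientGroup.mk_surjective (z ^ 2)
  obtain ⟨t, ht⟩ := QuotientGroup.mk_surjective (z ^ 3)
  have hscal : ∀ a : Matrix.SpecialLinearGroup (Fin 3) K, a ∈ Subgroup.center _ → ∃ c : K, c ^ 3 = 1 ∧
      (a : Matrix (Fin 3) (Fin 3) K) = c • 1 := by
    intro a ha
    obtain ⟨c, hc, he⟩ := Matrix.SpecialLinearGroup.mem_center_iff.1 ha
    exact ⟨c, by simpa using hc, by rw [← he, Matrix.scalar_apply, ← Matrix.smul_one_eq_diagonal]⟩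
  obtain ⟨c, hc3, hc⟩ := hscal _ (show (s * t) * (t * s)⁻¹ ∈ Subgroup.center _ by
    rw [← QuotientGroup.eq_one_iff, QuotientGroup.mk_mul, QuotientGroup.mk_inv, QuotientGroup.mk_mul, QuotientGroup.mk_mul, hs, ht,
      ← pow_add, ← pow_add]
    group)
  have hst : (s : Matrix (Fin 3) (Fin 3) K) * t = c • ((t : Matrix (Fin 3) (Fin 3) K) * s) := by
    have e : (((s * t) * (t * s)⁻¹ * (t * s) : Matrix.SpecialLinearGroup (Fin 3) K) : Matrix (Fin 3) (Fin 3) K) =
        c • ((t : Matrix (Fin 3) (Fin 3) K) * s) := by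
      show (((s * t) * (t * s)⁻¹ : Matrix.SpecialLinearGroup (Fin 3) K) : Matrix (Fin 3) (Fin 3) K) *
        ((t : Matrix (Fin 3) (Fin 3) K) * s) = _
      rw [hc, Matrix.smul_mul, Matrix.one_mul]
    rw [inv_mul_cancel_right] at e
    exact e
  obtain ⟨a, ha3, ha⟩ := hscal _ (show t * t ∈ Subgroup.center _ by
    rw [← QuotientGroup.eq_one_iff, QuotientGroup.mk_mul, ht, ← pow_add]
    exact (congrArg (fun n => z ^ n) hz).symm.trans (pow_orderOf_eq_one z))
  have ha' : (t : Matrix (Fin 3) (Fin 3) K) * t = a • 1 := ha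
  obtain ⟨P, hP⟩ : ∃ P : GL (Fin 3) K, (s : Matrix (Fin 3) (Fin 3) K) * (P : Matrix (Fin 3) (Fin 3) K) =
      (P : Matrix (Fin 3) (Fin 3) K) * Matrix.diagonal ![1, ω, ω ^ 2] := by
    obtain ⟨b, hb3, hb⟩ := hscal _ (show s ^ 3 ∈ Subgroup.center _ by
      rw [← QuotientGroup.eq_one_iff, QuotientGroup.mk_pow, hs]
      exact (congrArg (fun n => (z ^ 2) ^ n) hz3).symm.trans (pow_orderOf_eq_one _))
    have hb' : (s : Matrix (Fin 3) (Fin 3) K) ^ 3 = b • 1 := (Matrix.SpecialLinearGroup.coe_pow s 3).symm.trans hb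
    rw [Cfsg.Agent.S2739.cube_eq_one_of_scalar hK s hb', one_smul] at hb'
    refine Cfsg.Agent.S2739.exists_normal_form hK hω hω1 s hb' fun d hd => ?_
    have hcen : s ∈ Subgroup.center (Matrix.SpecialLinearGroup (Fin 3) K) := by
      refine Matrix.SpecialLinearGroup.mem_center_iff.2 ⟨d, ?_, ?_⟩
      · have := congrArg Matrix.det hd
        rw [s.2, Matrix.det_smul, Matrix.det_one, mul_one] at this
        exact this.symm
      · rw [Matrix.scalar_apply, ← Matrix.smul_one_eq_diagonal, hd]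
    rw [← hs, (QuotientGroup.eq_one_iff s).2 hcen, orderOf_one] at hz3
    exact absurd hz3 (by norm_num)
  set T : Matrix (Fin 3) (Fin 3) K := ((P⁻¹ : GL (Fin 3) K) : Matrix (Fin 3) (Fin 3) K) * t * (P : Matrix (Fin 3) (Fin 3) K) with hTdef
  set r : Fin 3 → K := ![1, ω, ω ^ 2]
  have hPi : (P : Matrix (Fin 3) (Fin 3) K) * ((P⁻¹ : GL (Fin 3) K) : Matrix (Fin 3) (Fin 3) K) = 1 := by
    rw [← Units.val_mul, mul_inv_cancel, Units.val_one]
  have hiP : ((P⁻¹ : GL (Fin 3) K) : Matrix (Fin 3) (Fin 3) K) * (P : Matrix (Fin 3) (Fin 3) K) = 1 := by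
    rw [← Units.val_mul, inv_mul_cancel, Units.val_one]
  have hs' : ((P⁻¹ : GL (Fin 3) K) : Matrix (Fin 3) (Fin 3) K) * s =
      Matrix.diagonal r * ((P⁻¹ : GL (Fin 3) K) : Matrix (Fin 3) (Fin 3) K) := by
    calc _ = ((P⁻¹ : GL (Fin 3) K) : Matrix (Fin 3) (Fin 3) K) * ((s : Matrix (Fin 3) (Fin 3) K) * P) *
          ((P⁻¹ : GL (Fin 3) K) : Matrix (Fin 3) (Fin 3) K) := by rw [Matrix.mul_assoc, Matrix.mul_assoc, hPi, Matrix.mul_one]
      _ = _ := by rw [hP, ← Matrix.mul_assoc, hiP, Matrix.one_mul]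
  have hDT : Matrix.diagonal r * T = c • (T * Matrix.diagonal r) := by
    simp only [hTdef]
    rw [← Matrix.mul_assoc, ← Matrix.mul_assoc, ← hs', Matrix.mul_assoc _ (s : Matrix (Fin 3) (Fin 3) K), hst, Matrix.mul_smul,
      Matrix.smul_mul, Matrix.mul_assoc _ _ (P : Matrix (Fin 3) (Fin 3) K), Matrix.mul_assoc _ _ (P : Matrix (Fin 3) (Fin 3) K), hP]
    simp only [Matrix.mul_assoc]
  have hTT : T * T = a • 1 := by
    simp only [hTdef]
    calc _ = ((P⁻¹ : GL (Fin 3) K) : Matrix (Fin 3) (Fin 3) K) *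
          ((t : Matrix (Fin 3) (Fin 3) K) * ((P : Matrix (Fin 3) (Fin 3) K) * ((P⁻¹ : GL (Fin 3) K) : Matrix (Fin 3) (Fin 3) K)) * t) *
          (P : Matrix (Fin 3) (Fin 3) K) := by simp only [Matrix.mul_assoc]
      _ = _ := by rw [hPi, Matrix.mul_one, ha', Matrix.mul_smul, Matrix.mul_one, Matrix.smul_mul, hiP]
  have hne0 : ω ≠ 0 := fun h => by rw [h] at hω; simp at hω
  have hω2 : ω ^ 2 ≠ 1 := fun h => hω1 (by linear_combination hω - ω * h)
  have hωω2 : ω ≠ ω ^ 2 := fun h => hω1 (mul_left_cancel₀ hne0 (by rw [mul_one, ← sq, ← h]))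
  have hrinj : Function.Injective r := by
    intro i j h
    fin_cases i <;> fin_cases j <;> first | rfl | simp [r, hω1, hω2, hω1.symm, hω2.symm, hωω2, hωω2.symm] at h
  have hr0 : ∀ i, r i ≠ 0 := fun i => by fin_cases i <;> simp [r, hne0]
  have hent : ∀ i j, T i j ≠ 0 → r i = c * r j := fun i j h => by
    have e := congrFun (congrFun hDT i) j
    rw [Matrix.diagonal_mul, Matrix.smul_apply, Matrix.mul_diagonal, smul_eq_mul] at e
    exact mul_right_cancel₀ h (by linear_combination e)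
  have hTdet : T.det ≠ 0 := by
    simp only [hTdef, Matrix.det_mul, t.2, mul_one]
    exact mul_ne_zero (Matrix.GeneralLinearGroup.det P⁻¹).ne_zero (Matrix.GeneralLinearGroup.det P).ne_zero
  have hrow : ∀ i, ∃ j, T i j ≠ 0 := fun i => by
    by_contra h
    push Not at h
    exact hTdet (Matrix.det_eq_zero_of_row_eq_zero i h)
  choose π hπ using hrow
  have hc0 : c ≠ 0 := fun h => by rw [h] at hc3; simp at hc3
  have huniq : ∀ i j, T i j ≠ 0 → j = π i := fun i j h =>
    hrinj (mul_left_cancel₀ hc0 ((hent i j h).symm.trans (hent i (π i) (hπ i))))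
  have hππ : ∀ i, π (π i) = i := by
    intro i
    by_contra hne
    have e := congrFun (congrFun hTT i) (π (π i))
    rw [Matrix.mul_apply, Finset.sum_eq_single (π i), Matrix.smul_apply, Matrix.one_apply_ne (Ne.symm hne), smul_zero] at e
    · exact mul_ne_zero (hπ i) (hπ (π i)) e
    · intro k _ hk
      rw [show T i k = 0 from by by_contra h; exact hk (huniq i k h), zero_mul]
    · simp
  have hc1 : c = 1 := by
    have e1 := hent 0 (π 0) (hπ 0)
    have e2 := hent (π 0) (π (π 0)) (hπ (π 0))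
    rw [hππ] at e2
    have e3 : c ^ 2 = 1 := mul_right_cancel₀ (hr0 0) (by linear_combination -e1 - c * e2)
    linear_combination hc3 - c * e3
  have hid : ∀ i, π i = i := fun i => hrinj (by
    have := hent i (π i) (hπ i)
    rw [hc1, one_mul] at this
    exact this.symm)
  have hdiag : ∀ i, T i i * T i i = a := fun i => by
    have e := congrFun (congrFun hTT i) i
    rw [Matrix.mul_apply, Finset.sum_eq_single i, Matrix.smul_apply, Matrix.one_apply_eq, smul_eq_mul, mul_one] at e
    · exact e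
    · intro k _ hk
      rw [show T i k = 0 from by by_contra h; exact hk ((huniq i k h).trans (hid i)), zero_mul]
    · simp
  have hconst : ∀ i, T i i = T 0 0 := fun i => by
    have : (T i i - T 0 0) * (T i i - T 0 0) = 0 := by linear_combination hdiag i - hdiag 0 + (T 0 0 * T 0 0 - T i i * T 0 0) * h2
    exact sub_eq_zero.1 (mul_self_eq_zero.1 this)
  have hT : T = T 0 0 • 1 := by
    ext i j
    rcases eq_or_ne i j with rfl | h
    · rw [Matrix.smul_apply, Matrix.one_apply_eq, smul_eq_mul, mul_one, hconst]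
    · rw [Matrix.smul_apply, Matrix.one_apply_ne h, smul_zero]
      by_contra h'
      exact h ((huniq i j h').trans (hid i)).symm
  have htsc : (t : Matrix (Fin 3) (Fin 3) K) = T 0 0 • 1 := by
    calc (t : Matrix (Fin 3) (Fin 3) K) = (P : Matrix (Fin 3) (Fin 3) K) * T * ((P⁻¹ : GL (Fin 3) K) : Matrix (Fin 3) (Fin 3) K) := by
          simp only [hTdef, ← Matrix.mul_assoc, hPi, Matrix.one_mul]
          rw [Matrix.mul_assoc, hPi, Matrix.mul_one]
      _ = _ := by rw [hT, Matrix.mul_smul, Matrix.mul_one, Matrix.smul_mul, hPi]; simp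
  have hcen : t ∈ Subgroup.center (Matrix.SpecialLinearGroup (Fin 3) K) := by
    refine Matrix.SpecialLinearGroup.mem_center_iff.2 ⟨T 0 0, ?_, ?_⟩
    · have := congrArg Matrix.det htsc
      rw [t.2, Matrix.det_smul, Matrix.det_one, mul_one] at this
      exact this.symm
    · rw [Matrix.scalar_apply, ← Matrix.smul_one_eq_diagonal, htsc]
  rw [(QuotientGroup.eq_one_iff t).2 hcen] at ht
  have := orderOf_dvd_of_pow_eq_one ht.symm
  rw [hz] at this
  exact absurd this (by decide)


/-- Let F be a field with 2 elements and K a field with 4 elements. PSL_4(F) and PSL_3(K) have the same order (20160) but are not isomorphic. -/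
theorem result {F K : Type*} [Field F] [Fintype F] [Field K] [Fintype K] (hF : Fintype.card F = 2) (hK : Fintype.card K = 4) : Nat.card (Matrix.ProjectiveSpecialLinearGroup (Fin 4) F) = Nat.card (Matrix.ProjectiveSpecialLinearGroup (Fin 3) K) ∧ ¬ Nonempty (Matrix.ProjectiveSpecialLinearGroup (Fin 4) F ≃* Matrix.ProjectiveSpecialLinearGroup (Fin 3) K) := by
  classical
  refine ⟨?_, ?_⟩
  · have h1 := CfsgLib.Classical.card_sl_mul (F := F) hF 4 (by norm_num)
    have h2 := CfsgLib.Classical.card_psl_mul (F := F) hF 4 (by norm_num)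
    have h3 := CfsgLib.Classical.card_sl_mul (F := K) hK 3 (by norm_num)
    have h4 := CfsgLib.Classical.card_psl_mul (F := K) hK 3 (by norm_num)
    simp [Fin.prod_univ_succ] at h1 h2 h3 h4
    norm_num at h1 h2 h3 h4 ⊢; omega
  · rintro ⟨e⟩
    obtain ⟨g, hg⟩ := exists_order_six hF
    exact no_order_six hK (e g) (e.orderOf_eq g ▸ hg)
end Cfsg.Agent.S2550
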