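import Cfsg.Statements.S2551
import Cfsg.Agent.Lib.Sporadic.LinearEight
import Cfsg.Agent.Lib.KnownC.A7OnFifteen

set_option autoImplicit false
open Cfsg

namespace Cfsg.Agent.S2551

/-- Let F be the field with 2 elements. GL_4(F) (≅ A_8) has a subgroup isomorphic to the alternating group A_7, and every such subgroup acts 2-transitively on the 15 non-zero vectors of F⁴: any ordered pair of distinct non-zero vectors is carried to any other by some element of the subgroup. -/
theorem result {F : Type*} [Field F] [Fintype F] (hF : Fintype.card F = 2) : (∃ H : Subgroup (Matrix.GeneralLinearGroup (Fin 4) F), Nonempty (H ≃* alternatingGroup (Fin 7))) ∧ ∀ H : Subgroup (Matrix.GeneralLinearGroup (Fin 4) F), Nonempty (H ≃* alternatingGroup (Fin 7)) → ∀ v w v' w' : Fin 4 → F, v ≠ 0 → w ≠ 0 → v ≠ w → v' ≠ 0 → w' ≠ 0 → v' ≠ w' → ∃ g ∈ H, (g : Matrix (Fin 4) (Fin 4) F).mulVec v = v' ∧ (g : Matrix (Fin 4) (Fin 4) F).mulVec w = w' := by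
  classical
  obtain ⟨e⟩ := CfsgLib.Sporadic.LinearEight.gl_four_two hF
  refine ⟨?_, ?_⟩
  · let i : Equiv.Perm (Fin 7) →* Equiv.Perm (Fin 8) := Equiv.Perm.viaEmbeddingHom Fin.castSuccEmb
    have hi : ∀ a : alternatingGroup (Fin 7), i a ∈ alternatingGroup (Fin 8) := fun a => by
      rw [Equiv.Perm.mem_alternatingGroup]
      show Equiv.Perm.sign (Equiv.Perm.viaEmbedding (a : Equiv.Perm (Fin 7)) Fin.castSuccEmb) = 1
      rw [Equiv.Perm.viaEmbedding, Equiv.Perm.sign_extendDomain]
      exact Equiv.Perm.mem_alternatingGroup.1 a.2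
    let j : alternatingGroup (Fin 7) →* GL (Fin 4) F :=
      e.symm.toMonoidHom.comp ((i.comp (alternatingGroup (Fin 7)).subtype).codRestrict _ hi)
    have hj : Function.Injective j := fun a b h => Subtype.ext
      (Equiv.Perm.viaEmbeddingHom_injective _ (congrArg Subtype.val (e.symm.injective h)))
    exact ⟨j.range, ⟨(MonoidHom.ofInjective hj).symm⟩⟩
  rintro H ⟨f⟩ v w v' w' hv hw hvw hv' hw' hvw'
  have hfix : ∀ (g : H) (p : ℕ) [Fact p.Prime], orderOf g = p →
      Nat.card {x : Fin 4 → F // ((g : GL (Fin 4) F) : Matrix (Fin 4) (Fin 4) F).mulVec x = x} ∣ 16 ∧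
      Nat.card {x : Fin 4 → F // ((g : GL (Fin 4) F) : Matrix (Fin 4) (Fin 4) F).mulVec x = x} ≠ 16 ∧
      Nat.card {x : Fin 4 → F // ((g : GL (Fin 4) F) : Matrix (Fin 4) (Fin 4) F).mulVec x = x} % p = 16 % p := by
    intro g p _ hg
    have hcard : Nat.card (Fin 4 → F) = 16 := by
      rw [Nat.card_eq_fintype_card, Fintype.card_fun, hF]; rfl
    let S : AddSubgroup (Fin 4 → F) :=
      (Matrix.mulVecLin ((g : GL (Fin 4) F) : Matrix (Fin 4) (Fin 4) F) - LinearMap.id).ker.toAddSubgroup
    have hS : ∀ x, x ∈ S ↔ ((g : GL (Fin 4) F) : Matrix (Fin 4) (Fin 4) F).mulVec x = x := fun x => by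
      simp [S, sub_eq_zero]
    have e1 : Nat.card S = Nat.card {x : Fin 4 → F // ((g : GL (Fin 4) F) : Matrix (Fin 4) (Fin 4) F).mulVec x = x} :=
      Nat.card_congr (Equiv.subtypeEquivRight hS)
    refine ⟨e1 ▸ hcard ▸ S.card_addSubgroup_dvd_card, fun h16 => ?_, ?_⟩
    · have htop : S = ⊤ := AddSubgroup.eq_top_of_card_eq S (by rw [e1, h16, hcard])
      have h1 : ((g : GL (Fin 4) F) : Matrix (Fin 4) (Fin 4) F) = 1 := by
        apply Matrix.mulVec_injective
        funext x
        rw [Matrix.one_mulVec]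
        exact (hS x).1 (htop ▸ AddSubgroup.mem_top x)
      have : g = 1 := Subtype.ext (Units.ext h1)
      rw [this, orderOf_one] at hg
      exact (Fact.out : p.Prime).one_lt.ne hg
    · let Z := Subgroup.zpowers (g : GL (Fin 4) F)
      have hZ : IsPGroup p Z := IsPGroup.of_card (n := 1) (by
        rw [Nat.card_zpowers, pow_one, Subgroup.orderOf_coe]; exact hg)
      letI : MulAction (GL (Fin 4) F) (Fin 4 → F) :=
        { smul := fun a x => (a : Matrix (Fin 4) (Fin 4) F).mulVec x
          one_smul := fun x => Matrix.one_mulVec x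
          mul_smul := fun a b x => (Matrix.mulVec_mulVec x _ _).symm }
      have h := hZ.card_modEq_card_fixedPoints (Fin 4 → F)
      rw [hcard] at h
      refine (h.trans ?_).symm
      refine congrArg (· % p) (Nat.card_congr (Equiv.subtypeEquivRight fun x => ?_))
      constructor
      · exact fun hx => hx ⟨_, Subgroup.mem_zpowers _⟩
      · intro hx k
        exact (Subgroup.zpowers_le.2 (show (g : GL (Fin 4) F) ∈ MulAction.stabilizer (GL (Fin 4) F) x from hx)) k.2
  let P := {x : Fin 4 → F // x ≠ 0}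
  letI : MulAction H P :=
    { smul := fun g x => ⟨((g : GL (Fin 4) F) : Matrix (Fin 4) (Fin 4) F).mulVec x.1, fun h => x.2
        ((Matrix.mulVec_injective_iff_isUnit.2 (g : GL (Fin 4) F).isUnit) (h.trans (Matrix.mulVec_zero _).symm))⟩
      one_smul := fun x => Subtype.ext (Matrix.one_mulVec x.1)
      mul_smul := fun a b x => Subtype.ext (Matrix.mulVec_mulVec x.1 _ _).symm }
  haveI : FaithfulSMul H P := ⟨fun {a b} h => Subtype.ext (Units.ext (Matrix.mulVec_injective (funext fun x => by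
    by_cases hx : x = 0
    · rw [hx, Matrix.mulVec_zero, Matrix.mulVec_zero]
    · exact congrArg Subtype.val (h ⟨x, hx⟩))))⟩
  haveI : IsSimpleGroup (alternatingGroup (Fin 7)) := alternatingGroup.isSimpleGroup (by simp)
  have h2 : MulAction.IsMultiplyPretransitive H P 2 := by
    refine CfsgLib.KnownC.A7OnFifteen.two_transitive f.isSimpleGroup ?_ ?_ ?_ ?_
    · rw [Nat.card_congr f.toEquiv, Nat.card_eq_fintype_card, card_alternatingGroup]; rfl
    · rw [Nat.card_eq_fintype_card, Fintype.card_subtype_compl, Fintype.card_subtype_eq, Fintype.card_fun, hF]; rfl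
    · intro g hg z hz
      haveI : Fact (Nat.Prime 5) := ⟨by norm_num⟩
      obtain ⟨a1, a2, a3⟩ := hfix g 5 hg
      have hge : 1 < Nat.card {x : Fin 4 → F // ((g : GL (Fin 4) F) : Matrix (Fin 4) (Fin 4) F).mulVec x = x} :=
        Finite.one_lt_card_iff_nontrivial.2 ⟨⟨0, Matrix.mulVec_zero _⟩, ⟨z.1, congrArg Subtype.val hz⟩,
          fun e => z.2 (congrArg Subtype.val e).symm⟩
      have := Nat.le_of_dvd (by norm_num) a1
      revert a1 a2 a3 hge this
      generalize Nat.card {x : Fin 4 → F // ((g : GL (Fin 4) F) : Matrix (Fin 4) (Fin 4) F).mulVec x = x} = c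
      intros
      interval_cases c <;> omega
    · intro g hg x y hx hy
      haveI : Fact (Nat.Prime 7) := ⟨by norm_num⟩
      obtain ⟨a1, a2, a3⟩ := hfix g 7 hg
      by_contra hne
      have hge : 2 < Nat.card {x : Fin 4 → F // ((g : GL (Fin 4) F) : Matrix (Fin 4) (Fin 4) F).mulVec x = x} := by
        rw [Nat.card_eq_fintype_card, Fintype.two_lt_card_iff]
        exact ⟨⟨0, Matrix.mulVec_zero _⟩, ⟨x.1, congrArg Subtype.val hx⟩, ⟨y.1, congrArg Subtype.val hy⟩,
          fun e => x.2 (congrArg Subtype.val e).symm, fun e => y.2 (congrArg Subtype.val e).symm,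
          fun e => hne (Subtype.ext (congrArg Subtype.val e :))⟩
      have := Nat.le_of_dvd (by norm_num) a1
      revert a1 a2 a3 hge this
      generalize Nat.card {x : Fin 4 → F // ((g : GL (Fin 4) F) : Matrix (Fin 4) (Fin 4) F).mulVec x = x} = c
      intros
      interval_cases c <;> omega
  rw [MulAction.is_two_pretransitive_iff] at h2
  obtain ⟨g, e1, e2⟩ := @h2 ⟨v, hv⟩ ⟨w, hw⟩ ⟨v', hv'⟩ ⟨w', hw'⟩ (fun e => hvw (congrArg Subtype.val e))
    (fun e => hvw' (congrArg Subtype.val e))
  exact ⟨g.1, g.2, congrArg Subtype.val e1, congrArg Subtype.val e2⟩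

end Cfsg.Agent.S2551
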