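import Cfsg.Statements.S2552

set_option autoImplicit false
open Cfsg

namespace Cfsg.Agent.S2552

open Matrix
/-- Let F be a finite field and n ≥ 1. For every k, the special linear group SL_n(F) acts transitively on the set of k-dimensional subspaces of F^n: any two subspaces of the same dimension are carried onto each other by some matrix of determinant 1. -/
theorem result {F : Type*} [Field F] [Fintype F] (n : ℕ) (hn : 1 ≤ n) (U₁ U₂ : Submodule F (Fin n → F)) (h : Module.finrank F U₁ = Module.finrank F U₂) : ∃ g : Matrix.SpecialLinearGroup (Fin n) F, U₁.map ((Matrix.SpecialLinearGroup.toLin' g : (Fin n → F) ≃ₗ[F] (Fin n → F)) : (Fin n → F) →ₗ[F] (Fin n → F)) = U₂ := by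
  classical
  obtain ⟨W₁, hW₁⟩ := Submodule.exists_isCompl U₁
  obtain ⟨W₂, hW₂⟩ := Submodule.exists_isCompl U₂
  have hW : Module.finrank F W₁ = Module.finrank F W₂ := by
    have e1 := Submodule.finrank_add_eq_of_isCompl hW₁
    have e2 := Submodule.finrank_add_eq_of_isCompl hW₂
    omega
  let g₀ : (Fin n → F) ≃ₗ[F] (Fin n → F) := (Submodule.prodEquivOfIsCompl _ _ hW₁).symm.trans
    (((LinearEquiv.ofFinrankEq U₁ U₂ h).prodCongr (LinearEquiv.ofFinrankEq W₁ W₂ hW)).trans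
      (Submodule.prodEquivOfIsCompl _ _ hW₂))
  have hg₀ : U₁.map (g₀ : (Fin n → F) →ₗ[F] (Fin n → F)) = U₂ := by
    apply le_antisymm
    · rintro _ ⟨u, hu, rfl⟩
      have : (Submodule.prodEquivOfIsCompl _ _ hW₁).symm u = (⟨u, hu⟩, 0) :=
        Submodule.prodEquivOfIsCompl_symm_apply_left _ _ hW₁ ⟨u, hu⟩
      simp [g₀, this]
    · intro u hu
      refine ⟨(((LinearEquiv.ofFinrankEq U₁ U₂ h).symm ⟨u, hu⟩ : U₁) : Fin n → F), Subtype.prop _, ?_⟩
      simp [g₀]
  by_cases hU : U₁ = ⊥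
  · refine ⟨1, ?_⟩
    subst hU
    rw [Submodule.map_bot] at hg₀ ⊢
    exact hg₀
  obtain ⟨v, hv, hv0⟩ := Submodule.exists_mem_ne_zero_of_ne_bot hU
  obtain ⟨i, hi⟩ := Function.ne_iff.1 hv0
  set G := LinearMap.toMatrix' (g₀ : (Fin n → F) →ₗ[F] (Fin n → F)) with hG
  have hGd : G.det ≠ 0 := by
    rw [hG, LinearMap.det_toMatrix']
    exact (LinearEquiv.isUnit_det' g₀).ne_zero
  let D : Matrix (Fin n) (Fin n) F :=
    1 + Matrix.vecMulVec ((G.det⁻¹ - 1) • v) (Pi.single i (v i)⁻¹)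
  have hD : D.det = G.det⁻¹ := by
    simp only [D, Matrix.vecMulVec_eq Unit, Matrix.det_one_add_replicateCol_mul_replicateRow, single_dotProduct, Pi.smul_apply, smul_eq_mul]
    field_simp [show v i ≠ 0 from hi]
    ring
  refine ⟨⟨G * D, by rw [Matrix.det_mul, hD, mul_inv_cancel₀ hGd]⟩, ?_⟩
  have hfd : FiniteDimensional F U₁ := inferInstance
  refine Submodule.eq_of_le_of_finrank_eq ?_ ?_
  · rintro _ ⟨u, hu, rfl⟩
    rw [← hg₀]
    refine ⟨D *ᵥ u, ?_, ?_⟩
    · simp only [D, Matrix.add_mulVec, Matrix.one_mulVec, Matrix.vecMulVec_mulVec, op_smul_eq_smul]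
      exact U₁.add_mem hu (U₁.smul_mem _ (U₁.smul_mem _ hv))
    · show g₀ (D *ᵥ u) = (G * D) *ᵥ u
      rw [← Matrix.mulVec_mulVec, hG, LinearMap.toMatrix'_mulVec]
      rfl
  · rw [LinearEquiv.finrank_map_eq, h]

end Cfsg.Agent.S2552
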