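import Cfsg.Statements.S2556
import Cfsg.Agent.Lib.KnownB.SuzukiSylowAut
import Cfsg.Agent.Lib.Solvable.Cores

set_option autoImplicit false
open Cfsg

namespace Cfsg.Agent.S2556

/-- Let S be a Sylow 2-subgroup of the Suzuki group Sz(q), q = 2ⁿ with n = 2m + 1 ≥ 3 (realised as 4 × 4 matrices over the field with q elements). Then the largest normal 2-subgroup of the automorphism group of S is elementary abelian of order 2^(n²), and the automorphism group of S has order 2^(n²) · n · (q − 1). -/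
theorem result {S : Type*} [Group S] [Finite S] (m : ℕ) (hm : 1 ≤ m)
    {F : Type*} [Field F] [Fintype F] (hF : Fintype.card F = 2 ^ (2 * m + 1))
    (P : Sylow 2 ↥(Cfsg.Lie.Sz F (2 ^ (m + 1)))) (hS : Nonempty (S ≃* ↥(P : Subgroup ↥(Cfsg.Lie.Sz F (2 ^ (m + 1)))))) :
    Cfsg.IsElementaryAbelian 2 (Cfsg.pCore 2 (MulAut S)) ∧ Nat.card ↥(Cfsg.pCore 2 (MulAut S)) = 2 ^ ((2 * m + 1) ^ 2) ∧
      Nat.card (MulAut S) = 2 ^ ((2 * m + 1) ^ 2) * ((2 * m + 1) * (2 ^ (2 * m + 1) - 1)) := by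
  obtain ⟨h1, h2, h3⟩ := CfsgLib.KnownB.Suzuki.aut_sylow hm hF
  set he := CfsgLib.KnownB.SzElem.twist_of_card hF
  obtain ⟨eS⟩ := hS
  have eP := (Sylow.equiv P (CfsgLib.KnownB.Suzuki.sylow2 he))
  rw [CfsgLib.KnownB.Suzuki.coe_sylow2] at eP
  let E : MulAut (CfsgLib.KnownB.Suzuki.uGroup he) ≃* MulAut S := MulAut.congr (eS.trans eP).symm
  rw [← CfsgLib.Solvable.Cores.map_pCore E 2]
  refine ⟨⟨⟨⟨fun a b => ?_⟩⟩, fun a ha => ?_⟩, ?_, ?_⟩
  · obtain ⟨x, hx, hxa⟩ := a.2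
    obtain ⟨y, hy, hyb⟩ := b.2
    refine Subtype.ext ?_
    show (a : MulAut S) * b = b * a
    rw [← hxa, ← hyb, ← map_mul, ← map_mul]
    congr 1
    exact congrArg Subtype.val (h1.1.is_comm.comm ⟨x, hx⟩ ⟨y, hy⟩)
  · obtain ⟨x, hx, rfl⟩ := ha
    rw [← map_pow, h1.2 x hx, map_one]
  · rw [Subgroup.card_map_of_injective E.injective, h2]
  · rw [← Nat.card_congr E.toEquiv, h3]

end Cfsg.Agent.S2556
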