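import Cfsg.Statements.S2617

set_option autoImplicit false
open Cfsg

namespace Cfsg.Agent.S2617

open Matrix
/-- The two standard quadratic forms of even dimension 2m over a finite field are not isometric: there is no linear isomorphism carrying the elliptic form Σ_(i<m−1) x_i y_i + z₁² + z₁z₂ + ζ z₂² (t² + t + ζ without roots) to the hyperbolic form Σ_(i<m) x_i y_i (they have different Witt index). -/
theorem result {F : Type*} [Field F] [Finite F] {m : ℕ} (hm : 1 ≤ m) (ζ : F) (hζ : ∀ t : F, t ^ 2 + t + ζ ≠ 0) (g : (Fin m ⊕ Fin m → F) ≃ₗ[F] ((Fin (m - 1) ⊕ Fin (m - 1)) ⊕ Fin 2 → F)) : ¬ (∀ v : Fin m ⊕ Fin m → F, Cfsg.quadFormMinus (m - 1) F 1 ζ (g v) = Cfsg.quadFormPlus m F v) := by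
  classical
  intro hg
  let f : (Fin m → F) →ₗ[F] ((Fin (m - 1) ⊕ Fin (m - 1)) ⊕ Fin 2 → F) :=
    { toFun := fun x => g (Sum.elim x 0)
      map_add' := fun x y => by
        rw [← map_add]; congr 1; ext (i | i) <;> simp
      map_smul' := fun a x => by
        rw [RingHom.id_apply, ← map_smul]; congr 1; ext (i | i) <;> simp }
  have hf : Function.Injective f := fun x y h => by
    have := g.injective h
    exact funext fun i => congrFun this (Sum.inl i)
  have hQ : ∀ x, Cfsg.quadFormMinus (m - 1) F 1 ζ (f x) = 0 := fun x => by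
    show Cfsg.quadFormMinus (m - 1) F 1 ζ (g (Sum.elim x 0)) = 0
    rw [hg]; simp [Cfsg.quadFormPlus]
  let P : (Fin m → F) →ₗ[F] (Fin (m - 1) → F) :=
    (LinearMap.funLeft F F (fun i => Sum.inl (Sum.inl i))).comp f
  let Y : (Fin m → F) →ₗ[F] (Fin (m - 1) → F) :=
    (LinearMap.funLeft F F (fun i => Sum.inl (Sum.inr i))).comp f
  have hker : ∀ x, P x = 0 → Y x = 0 → x = 0 := by
    intro x hP hY
    apply hf
    rw [map_zero]
    have hP' : ∀ i, f x (.inl (.inl i)) = 0 := fun i => congrFun hP i
    have hY' : ∀ i, f x (.inl (.inr i)) = 0 := fun i => congrFun hY i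
    have h0 := hQ x
    simp only [Cfsg.quadFormMinus, hP', zero_mul, Finset.sum_const_zero, zero_add] at h0
    have hz : f x (.inr 1) = 0 := by
      by_contra hz
      apply hζ (f x (.inr 0) / f x (.inr 1))
      field_simp
      linear_combination h0
    have hz0 : f x (.inr 0) = 0 := by
      rw [hz] at h0
      simpa using h0
    funext i
    rcases i with (i | i) | i
    · exact hP' i
    · exact hY' i
    · fin_cases i
      · exact hz0
      · exact hz
  have hdot : ∀ x y, P x = 0 → Y x ⬝ᵥ P y = 0 := by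
    intro x y hP
    have hP' : ∀ i, f x (.inl (.inl i)) = 0 := fun i => congrFun hP i
    have e1 := hQ x
    have e2 := hQ y
    have e3 := hQ (x + y)
    rw [map_add] at e3
    simp only [Cfsg.quadFormMinus, Pi.add_apply, hP', zero_mul, zero_add, Finset.sum_const_zero] at e1 e2 e3
    have hz1 : f x (.inr 1) = 0 := by
      by_contra hz
      apply hζ (f x (.inr 0) / f x (.inr 1))
      field_simp
      linear_combination e1
    have hz0 : f x (.inr 0) = 0 := by
      rw [hz1] at e1
      simpa using e1
    simp only [hz1, hz0, zero_add, mul_add, Finset.sum_add_distrib] at e3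
    show ∑ i, f x (.inl (.inr i)) * f y (.inl (.inl i)) = 0
    simp only [mul_comm (f x _)] at *
    linear_combination e3 - e2
  let K := P.ker
  have hYK : Function.Injective (Y.domRestrict K) := by
    intro a b h
    apply Subtype.ext
    refine sub_eq_zero.1 (hker _ ?_ ?_)
    · rw [map_sub, LinearMap.mem_ker.1 a.2, LinearMap.mem_ker.1 b.2, sub_zero]
    · rw [map_sub, sub_eq_zero]; exact h
  let Yk : Submodule F (Fin (m - 1) → F) := (Y.domRestrict K).range
  have hann : P.range.map (dotProductEquiv F (Fin (m - 1))).toLinearMap ≤ Yk.dualAnnihilator := by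
    rintro _ ⟨_, ⟨y, rfl⟩, rfl⟩
    rw [Submodule.mem_dualAnnihilator]
    rintro _ ⟨x, rfl⟩
    show P y ⬝ᵥ Y x = 0
    rw [dotProduct_comm]
    exact hdot x y (LinearMap.mem_ker.1 x.2)
  have h1 := Submodule.finrank_mono hann
  rw [LinearEquiv.finrank_map_eq] at h1
  have h2 : Module.finrank F P.range + Module.finrank F K = m := by
    rw [LinearMap.finrank_range_add_finrank_ker, Module.finrank_fin_fun]
  have h3 := Subspace.finrank_add_finrank_dualAnnihilator_eq Yk
  rw [Module.finrank_fin_fun] at h3
  have h4 : Module.finrank F Yk = Module.finrank F K := LinearMap.finrank_range_of_inj hYK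
  omega

end Cfsg.Agent.S2617
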