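import Cfsg.Statements.S2561
import Cfsg.Agent.Lib.Orth.F2Forms
import Cfsg.Agent.S2617


set_option autoImplicit false
open Cfsg

namespace Cfsg.Agent.S2561

open CfsgLib.Orth

/-- Fix the non-singular alternating form on the 2m-dimensional space over the field of two elements obtained by polarizing the plus-type form Σ xᵢyᵢ (m ≥ 1). The functions q on the space with q(u + v) = q(u) + q(v) + f(u, v) (the quadratic forms polarizing to f) number 2^(2m); each is equivalent under an invertible linear map either to the plus-type form or to the minus-type form Σ xᵢyᵢ + (z₁² + z₁z₂ + z₂²); and those of plus type number 2^(2m−1) + 2^(m−1), those of minus type 2^(2m−1) − 2^(m−1). -/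
theorem result (m : ℕ) (hm : 1 ≤ m) :
    Nat.card {q : (Fin m ⊕ Fin m → ZMod 2) → ZMod 2 // (∀ u v : (Fin m ⊕ Fin m → ZMod 2), q (u + v) = q u + q v + (Cfsg.quadFormPlus m (ZMod 2) (u + v) - Cfsg.quadFormPlus m (ZMod 2) u - Cfsg.quadFormPlus m (ZMod 2) v))} = 2 ^ (2 * m) ∧
    (∀ q : (Fin m ⊕ Fin m → ZMod 2) → ZMod 2, (∀ u v : (Fin m ⊕ Fin m → ZMod 2), q (u + v) = q u + q v + (Cfsg.quadFormPlus m (ZMod 2) (u + v) - Cfsg.quadFormPlus m (ZMod 2) u - Cfsg.quadFormPlus m (ZMod 2) v)) →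
      (∃ g : (Fin m ⊕ Fin m → ZMod 2) ≃ₗ[ZMod 2] (Fin m ⊕ Fin m → ZMod 2), ∀ v, q v = Cfsg.quadFormPlus m (ZMod 2) (g v)) ∨
      (∃ g : (Fin m ⊕ Fin m → ZMod 2) ≃ₗ[ZMod 2] ((Fin (m - 1) ⊕ Fin (m - 1)) ⊕ Fin 2 → ZMod 2), ∀ v, q v = Cfsg.quadFormMinus (m - 1) (ZMod 2) 1 1 (g v))) ∧
    Nat.card {q : (Fin m ⊕ Fin m → ZMod 2) → ZMod 2 // (∀ u v : (Fin m ⊕ Fin m → ZMod 2), q (u + v) = q u + q v + (Cfsg.quadFormPlus m (ZMod 2) (u + v) - Cfsg.quadFormPlus m (ZMod 2) u - Cfsg.quadFormPlus m (ZMod 2) v)) ∧ ∃ g : (Fin m ⊕ Fin m → ZMod 2) ≃ₗ[ZMod 2] (Fin m ⊕ Fin m → ZMod 2), ∀ v, q v = Cfsg.quadFormPlus m (ZMod 2) (g v)} = 2 ^ (2 * m - 1) + 2 ^ (m - 1) ∧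
    Nat.card {q : (Fin m ⊕ Fin m → ZMod 2) → ZMod 2 // (∀ u v : (Fin m ⊕ Fin m → ZMod 2), q (u + v) = q u + q v + (Cfsg.quadFormPlus m (ZMod 2) (u + v) - Cfsg.quadFormPlus m (ZMod 2) u - Cfsg.quadFormPlus m (ZMod 2) v)) ∧ ∃ g : (Fin m ⊕ Fin m → ZMod 2) ≃ₗ[ZMod 2] ((Fin (m - 1) ⊕ Fin (m - 1)) ⊕ Fin 2 → ZMod 2), ∀ v, q v = Cfsg.quadFormMinus (m - 1) (ZMod 2) 1 1 (g v)} = 2 ^ (2 * m - 1) - 2 ^ (m - 1) := by
  classical
  haveI : Fact (Nat.Prime 2) := ⟨Nat.prime_two⟩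
  have hzero : shiftFun (0 : Fin m ⊕ Fin m → ZMod 2) = fun v => plusForm (ZMod 2) m v := funext fun v => by
    rw [shiftFun_eq, QuadraticMap.polar_zero_right, add_zero]
  have hplus : ∀ a : Fin m ⊕ Fin m → ZMod 2, plusForm (ZMod 2) m a = 0 →
      ∃ g : (Fin m ⊕ Fin m → ZMod 2) ≃ₗ[ZMod 2] (Fin m ⊕ Fin m → ZMod 2),
        ∀ v, shiftFun a v = Cfsg.quadFormPlus m (ZMod 2) (g v) := by
    intro a ha
    obtain ⟨g, hg⟩ := exists_transvection (shiftFun 0) (shiftFun_add 0) (w := a) (by rw [hzero]; exact ha)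
    refine ⟨g, fun v => ?_⟩
    have h := hg v
    rw [hzero] at h
    rw [plusForm_apply, shiftFun_eq]; exact h
  have hnplus : ∀ a : Fin m ⊕ Fin m → ZMod 2, plusForm (ZMod 2) m a = 1 →
      ¬ ∃ g : (Fin m ⊕ Fin m → ZMod 2) ≃ₗ[ZMod 2] (Fin m ⊕ Fin m → ZMod 2),
        ∀ v, shiftFun a v = Cfsg.quadFormPlus m (ZMod 2) (g v) := by
    rintro a ha ⟨g, hg⟩
    have h := shift_equiv_iff 0 a g.toEquiv fun v => by
      show shiftFun (0 + a) v = shiftFun 0 (g v)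
      rw [zero_add, hg, hzero, plusForm_apply]
    rw [hzero] at h
    simp only at h
    rw [ha] at h
    exact one_ne_zero h
  have hminus : ∀ a : Fin m ⊕ Fin m → ZMod 2, plusForm (ZMod 2) m a = 1 →
      ∃ g : (Fin m ⊕ Fin m → ZMod 2) ≃ₗ[ZMod 2] ((Fin (m - 1) ⊕ Fin (m - 1)) ⊕ Fin 2 → ZMod 2),
        ∀ v, shiftFun a v = Cfsg.quadFormMinus (m - 1) (ZMod 2) 1 1 (g v) := by
    intro a ha
    let φ : (Fin m ⊕ Fin m → ZMod 2) →ₗ[ZMod 2] ZMod 2 := (QuadraticMap.polarBilin (plusForm (ZMod 2) m)).flip a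
    let Qa := plusForm (ZMod 2) m + QuadraticMap.linMulLin φ φ
    have hQa : ∀ v, Qa v = shiftFun a v := fun v => by
      rw [shiftFun_eq]
      show plusForm (ZMod 2) m v + φ v * φ v = plusForm (ZMod 2) m v + φ v
      rcases twoCases (φ v) with h | h <;> rw [h] <;> rfl
    have hnd : (QuadraticMap.polarBilin Qa).Nondegenerate := nondegenerate_of_left fun v hv => by
      refine (plusForm_nondeg m).1 v fun u => ?_
      have h := hv u
      simp only [QuadraticMap.polar, hQa, shiftFun_add] at h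
      show QuadraticMap.polar (plusForm (ZMod 2) m) v u = 0
      simp only [QuadraticMap.polar] at h ⊢
      linear_combination h
    rcases classify_even (m := m) hnd (by rw [Module.finrank_fintype_fun_eq_card, Fintype.card_sum, Fintype.card_fin]; omega) with
      ⟨e, he⟩ | ⟨-, e, ζ, hζ, he⟩
    · exact absurd ⟨e.symm, fun v => by rw [plusForm_apply, ← he, LinearEquiv.apply_symm_apply, hQa]⟩ (hnplus a ha)
    · have hζ1 : ζ = 1 := (twoCases ζ).resolve_left fun h => hζ 0 (by rw [h]; rfl)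
      subst hζ1
      exact ⟨e.symm, fun v => by rw [minusForm_apply, ← he, LinearEquiv.apply_symm_apply, hQa]⟩
  have hnminus : ∀ a : Fin m ⊕ Fin m → ZMod 2, plusForm (ZMod 2) m a = 0 →
      ¬ ∃ g : (Fin m ⊕ Fin m → ZMod 2) ≃ₗ[ZMod 2] ((Fin (m - 1) ⊕ Fin (m - 1)) ⊕ Fin 2 → ZMod 2),
        ∀ v, shiftFun a v = Cfsg.quadFormMinus (m - 1) (ZMod 2) 1 1 (g v) := by
    rintro a ha ⟨g, hg⟩
    obtain ⟨g', hg'⟩ := hplus a ha
    have h1 : ∀ t : ZMod 2, t ^ 2 + t + 1 ≠ 0 := fun t => by rcases twoCases t with h | h <;> rw [h] <;> exact one_ne_zero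
    refine Cfsg.Agent.S2617.result hm 1 h1 (g'.symm.trans g) fun v => ?_
    show Cfsg.quadFormMinus (m - 1) (ZMod 2) 1 1 (g (g'.symm v)) = _
    rw [← hg, hg', LinearEquiv.apply_symm_apply]
  refine ⟨?_, fun q hq => ?_, ?_, ?_⟩
  · rw [← Nat.card_congr shiftEquiv, Nat.card_eq_fintype_card, Fintype.card_fun, ZMod.card, Fintype.card_sum,
      Fintype.card_fin, two_mul]
  · obtain ⟨a, rfl⟩ := exists_shiftFun q fun u v => by rw [← plus_polar_eq]; exact hq u v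
    rcases twoCases (plusForm (ZMod 2) m a) with ha | ha
    · exact Or.inl (hplus a ha)
    · exact Or.inr (hminus a ha)
  · have h0 := card_plus_zeros (m := m)
    let F₀ : {a : Fin m ⊕ Fin m → ZMod 2 // plusForm (ZMod 2) m a = 0} → {q : (Fin m ⊕ Fin m → ZMod 2) → ZMod 2 //
        (∀ u v : (Fin m ⊕ Fin m → ZMod 2), q (u + v) = q u + q v + (Cfsg.quadFormPlus m (ZMod 2) (u + v) - Cfsg.quadFormPlus m (ZMod 2) u - Cfsg.quadFormPlus m (ZMod 2) v)) ∧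
        ∃ g : (Fin m ⊕ Fin m → ZMod 2) ≃ₗ[ZMod 2] (Fin m ⊕ Fin m → ZMod 2), ∀ v, q v = Cfsg.quadFormPlus m (ZMod 2) (g v)} :=
      fun a => ⟨shiftFun a.1, (fun u v => by rw [shiftFun_add, plus_polar_eq]), hplus _ a.2⟩
    have hF : Function.Bijective F₀ := by
      refine ⟨fun a b h => Subtype.ext (shiftFun_injective (congrArg Subtype.val h)), fun ⟨q, hq, hg⟩ => ?_⟩
      obtain ⟨a, rfl⟩ := exists_shiftFun q fun u v => by rw [← plus_polar_eq]; exact hq u v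
      exact ⟨⟨a, (twoCases _).resolve_right fun h => hnplus a h hg⟩, rfl⟩
    rw [← Nat.card_congr (Equiv.ofBijective F₀ hF)]
    obtain ⟨k, rfl⟩ : ∃ k, m = k + 1 := ⟨m - 1, by omega⟩
    rw [show 2 * (k + 1) = (2 * (k + 1) - 1) + 1 by omega, pow_succ, pow_succ] at h0
    simp only [Nat.add_sub_cancel] at *
    omega
  · have h1 := card_plus_ones (m := m)
    let F₁ : {a : Fin m ⊕ Fin m → ZMod 2 // plusForm (ZMod 2) m a = 1} → {q : (Fin m ⊕ Fin m → ZMod 2) → ZMod 2 //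
        (∀ u v : (Fin m ⊕ Fin m → ZMod 2), q (u + v) = q u + q v + (Cfsg.quadFormPlus m (ZMod 2) (u + v) - Cfsg.quadFormPlus m (ZMod 2) u - Cfsg.quadFormPlus m (ZMod 2) v)) ∧
        ∃ g : (Fin m ⊕ Fin m → ZMod 2) ≃ₗ[ZMod 2] ((Fin (m - 1) ⊕ Fin (m - 1)) ⊕ Fin 2 → ZMod 2), ∀ v, q v = Cfsg.quadFormMinus (m - 1) (ZMod 2) 1 1 (g v)} :=
      fun a => ⟨shiftFun a.1, (fun u v => by rw [shiftFun_add, plus_polar_eq]), hminus _ a.2⟩
    have hF : Function.Bijective F₁ := by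
      refine ⟨fun a b h => Subtype.ext (shiftFun_injective (congrArg Subtype.val h)), fun ⟨q, hq, hg⟩ => ?_⟩
      obtain ⟨a, rfl⟩ := exists_shiftFun q fun u v => by rw [← plus_polar_eq]; exact hq u v
      exact ⟨⟨a, (twoCases _).resolve_left fun h => hnminus a h hg⟩, rfl⟩
    rw [← Nat.card_congr (Equiv.ofBijective F₁ hF)]
    obtain ⟨k, rfl⟩ : ∃ k, m = k + 1 := ⟨m - 1, by omega⟩
    rw [show 2 * (k + 1) = (2 * (k + 1) - 1) + 1 by omega, pow_succ, pow_succ] at h1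
    simp only [Nat.add_sub_cancel] at *
    omega

end Cfsg.Agent.S2561
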