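import Cfsg.Statements.S2562
import Cfsg.Agent.Lib.Orth.WittIndex


set_option autoImplicit false
open Cfsg

namespace Cfsg.Agent.S2562

open CfsgLib.Orth

/-- Witt indices over the field of two elements, m ≥ 1: for the plus-type form Σ xᵢyᵢ in dimension 2m some m-dimensional subspace is totally singular and no totally singular subspace has larger dimension; for the minus-type form Σ xᵢyᵢ + (z₁² + z₁z₂ + z₂²) in dimension 2m the maximal dimension of a totally singular subspace is m − 1. -/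
theorem result (m : ℕ) (hm : 1 ≤ m) :
    (∃ U : Submodule (ZMod 2) (Fin m ⊕ Fin m → ZMod 2), (∀ u ∈ U, Cfsg.quadFormPlus m (ZMod 2) u = 0) ∧ Module.finrank (ZMod 2) ↥U = m) ∧
    (∀ U : Submodule (ZMod 2) (Fin m ⊕ Fin m → ZMod 2), (∀ u ∈ U, Cfsg.quadFormPlus m (ZMod 2) u = 0) → Module.finrank (ZMod 2) ↥U ≤ m) ∧
    (∃ U : Submodule (ZMod 2) ((Fin (m - 1) ⊕ Fin (m - 1)) ⊕ Fin 2 → ZMod 2), (∀ u ∈ U, Cfsg.quadFormMinus (m - 1) (ZMod 2) 1 1 u = 0) ∧ Module.finrank (ZMod 2) ↥U = m - 1) ∧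
    (∀ U : Submodule (ZMod 2) ((Fin (m - 1) ⊕ Fin (m - 1)) ⊕ Fin 2 → ZMod 2), (∀ u ∈ U, Cfsg.quadFormMinus (m - 1) (ZMod 2) 1 1 u = 0) → Module.finrank (ZMod 2) ↥U ≤ m - 1) := by
  classical
  haveI : Fact (Nat.Prime 2) := ⟨Nat.prime_two⟩
  have h11 : ∀ z₁ z₂ : ZMod 2, z₁ ^ 2 + 1 * z₁ * z₂ + 1 * z₂ ^ 2 = 0 → z₁ = 0 ∧ z₂ = 0 := by clear hm; revert m; intro m; decide +revert
  refine ⟨?_, fun U hU => ?_, ?_, fun U hU => minus_singular_finrank_le h11 U fun u hu => by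
    rw [← minusForm_apply]; exact hU u hu⟩
  · let s : (Fin m → ZMod 2) →ₗ[ZMod 2] (Fin m ⊕ Fin m → ZMod 2) :=
      LinearMap.pi (Sum.elim (fun i => LinearMap.proj i) (fun _ => 0))
    have hs : Function.Injective s := fun x y h => funext fun i => congrFun h (Sum.inl i)
    refine ⟨LinearMap.range s, ?_, by rw [LinearMap.finrank_range_of_inj hs, Module.finrank_fin_fun]⟩
    rintro _ ⟨x, rfl⟩
    simp [Cfsg.quadFormPlus, s]
  · have := singular_finrank_le (plusForm_nondeg m) U fun u hu => by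
      rw [← plusForm_apply]; exact hU u hu
    rw [Module.finrank_fintype_fun_eq_card, Fintype.card_sum, Fintype.card_fin] at this
    omega
  · let s : (Fin (m - 1) → ZMod 2) →ₗ[ZMod 2] ((Fin (m - 1) ⊕ Fin (m - 1)) ⊕ Fin 2 → ZMod 2) :=
      LinearMap.pi (Sum.elim (Sum.elim (fun i => LinearMap.proj i) (fun _ => 0)) (fun _ => 0))
    have hs : Function.Injective s := fun x y h => funext fun i => congrFun h (Sum.inl (Sum.inl i))
    refine ⟨LinearMap.range s, ?_, by rw [LinearMap.finrank_range_of_inj hs, Module.finrank_fin_fun]⟩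
    rintro _ ⟨x, rfl⟩
    simp [Cfsg.quadFormMinus, s]

end Cfsg.Agent.S2562
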