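import Cfsg.Statements.S2565
import Cfsg.Agent.Lib.Orth.EvenSubsets

set_option autoImplicit false
open Cfsg

namespace Cfsg.Agent.S2565

/-- The commutator subgroup of the full orthogonal group of the plus-type form Σ xᵢyᵢ in dimension 6 over the field of two elements (the group Ω⁺₆(2), of index 2) is isomorphic to the alternating group of degree 8. -/
theorem result :
    (Cfsg.Omega (ZMod 2) (Cfsg.quadFormPlus 3 (ZMod 2))).index = 2 ∧
    Nonempty (↥(Cfsg.Omega (ZMod 2) (Cfsg.quadFormPlus 3 (ZMod 2))) ≃* alternatingGroup (Fin 8)) := by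
  classical
  obtain ⟨φ, hφ⟩ := (CfsgLib.Orth.EvenSubsets.embeds 1 le_rfl).1 odd_one
  have hcard : Nat.card (CfsgLib.Orth.orthGroup (CfsgLib.Orth.plusForm (ZMod 2) (2 + 1))) = 40320 := by
    rw [CfsgLib.Classical.card_orth_plus (q := 2) (ZMod.card 2) 2]
    simp [Finset.prod_range_succ]
  have hbij : Function.Bijective φ := by
    refine (Nat.bijective_iff_injective_and_card φ).2 ⟨hφ, ?_⟩
    rw [Nat.card_perm, Nat.card_eq_fintype_card, Fintype.card_fin]
    exact Eq.trans (by norm_num [Nat.factorial]) hcard.symm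
  let e : Equiv.Perm (Fin (4 * 1 + 4)) ≃* ↥(Cfsg.isometryGroup (ZMod 2) (Cfsg.quadFormPlus 3 (ZMod 2))) :=
    (MulEquiv.ofBijective φ hbij).trans (CfsgLib.Orth.toOrth (CfsgLib.Orth.plusForm (ZMod 2) 3)
      (CfsgLib.Orth.plusForm_apply (F := ZMod 2) 3)).symm
  have hO : (alternatingGroup (Fin 8)).map (e : Equiv.Perm (Fin 8) →* _) =
      Cfsg.Omega (ZMod 2) (Cfsg.quadFormPlus 3 (ZMod 2)) := by
    rw [← alternatingGroup.commutator_perm_eq (by simp)]
    show (commutator _).map _ = commutator _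
    rw [commutator_def, commutator_def, Subgroup.map_commutator, Subgroup.map_top_of_surjective _ e.surjective]
  rw [← hO]
  refine ⟨?_, ⟨((alternatingGroup (Fin 8)).equivMapOfInjective _ e.injective).symm⟩⟩
  rw [Subgroup.index_map_equiv]
  exact alternatingGroup.index_eq_two

end Cfsg.Agent.S2565
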