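import Cfsg.Statements.S2566
import Cfsg.Agent.Lib.Classical.OrthCount
import Cfsg.Agent.Lib.Orth.Bridge

set_option autoImplicit false
open Cfsg

namespace Cfsg.Agent.S2566

open Matrix

abbrev V4 := Fin 2 ⊕ Fin 2

/-- the three non-zero vectors of a plane -/
def pts : Fin 3 → Fin 2 → ZMod 2 := ![![1, 0], ![0, 1], ![1, 1]]

/-- the plane representation -/
def rho (σ : Equiv.Perm (Fin 3)) : Matrix (Fin 2) (Fin 2) (ZMod 2) := Matrix.of fun i j => pts (σ j.castSucc) i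

/-- a vector as a two by two matrix -/
def toM (v : V4 → ZMod 2) : Matrix (Fin 2) (Fin 2) (ZMod 2) :=
  !![v (.inl 0), v (.inl 1); v (.inr 1), v (.inr 0)]

/-- and back -/
def ofM (M : Matrix (Fin 2) (Fin 2) (ZMod 2)) : V4 → ZMod 2 :=
  Sum.elim ![M 0 0, M 0 1] ![M 1 1, M 1 0]

/-- left action -/
def lmat (σ : Equiv.Perm (Fin 3)) : Matrix V4 V4 (ZMod 2) :=
  Matrix.of fun r c => ofM (rho σ * toM (fun k => if k = c then 1 else 0)) r

/-- right action -/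
def rmat (σ : Equiv.Perm (Fin 3)) : Matrix V4 V4 (ZMod 2) :=
  Matrix.of fun r c => ofM (toM (fun k => if k = c then 1 else 0) * (rho σ).transpose) r

/-- transposition -/
def tmat : Matrix V4 V4 (ZMod 2) :=
  Matrix.of fun r c => ofM (toM (fun k => if k = c then 1 else 0)).transpose r

theorem l_facts : lmat 1 = 1 ∧ rmat 1 = 1 ∧ tmat * tmat = 1 ∧
    (∀ σ τ, lmat (σ * τ) = lmat σ * lmat τ) ∧ (∀ σ τ, rmat (σ * τ) = rmat σ * rmat τ) := by decide +kernel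

theorem lr_facts : (∀ σ τ, lmat σ * rmat τ = rmat τ * lmat σ) ∧ (∀ σ τ, lmat σ = rmat τ → σ = 1) ∧
    (∀ σ, tmat * lmat σ * tmat = rmat σ) ∧ (∀ σ, lmat σ = 1 → σ = 1) ∧ (∀ σ, rmat σ = 1 → σ = 1) := by decide +kernel

theorem iso_facts : (∀ σ, ∀ u : V4 → ZMod 2, Cfsg.quadFormPlus 2 (ZMod 2) (lmat σ *ᵥ u) = Cfsg.quadFormPlus 2 (ZMod 2) u) ∧
    (∀ σ, ∀ u : V4 → ZMod 2, Cfsg.quadFormPlus 2 (ZMod 2) (rmat σ *ᵥ u) = Cfsg.quadFormPlus 2 (ZMod 2) u) ∧
    (∀ u : V4 → ZMod 2, Cfsg.quadFormPlus 2 (ZMod 2) (tmat *ᵥ u) = Cfsg.quadFormPlus 2 (ZMod 2) u) := by decide +kernel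

abbrev O4 := Cfsg.isometryGroup (ZMod 2) (Cfsg.quadFormPlus 2 (ZMod 2))

/-- left hom -/
def Lh : Equiv.Perm (Fin 3) →* O4 :=
  ((({ toFun := lmat, map_one' := l_facts.1, map_mul' := l_facts.2.2.2.1 } : _ →* Matrix V4 V4 (ZMod 2)).toHomUnits)).codRestrict
    O4 fun σ u _ => iso_facts.1 σ u

/-- right hom -/
def Rh : Equiv.Perm (Fin 3) →* O4 :=
  ((({ toFun := rmat, map_one' := l_facts.2.1, map_mul' := l_facts.2.2.2.2 } : _ →* Matrix V4 V4 (ZMod 2)).toHomUnits)).codRestrict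
    O4 fun σ u _ => iso_facts.2.1 σ u

theorem Lh_val (σ : Equiv.Perm (Fin 3)) : ((Lh σ).1 : Matrix V4 V4 (ZMod 2)) = lmat σ := rfl
theorem Rh_val (σ : Equiv.Perm (Fin 3)) : ((Rh σ).1 : Matrix V4 V4 (ZMod 2)) = rmat σ := rfl


/-- The full orthogonal group of the plus-type form x₁y₁ + x₂y₂ in dimension 4 over the field of two elements has order 72 and is isomorphic to the wreath product of the symmetric group of degree 3 by a group of order 2: it has a normal subgroup isomorphic to the direct product of two symmetric groups of degree 3, of index 2, whose two direct factors are interchanged by conjugation by some element. -/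
theorem result :
    Nat.card ↥(Cfsg.isometryGroup (ZMod 2) (Cfsg.quadFormPlus 2 (ZMod 2))) = 72 ∧
    ∃ (A B : Subgroup ↥(Cfsg.isometryGroup (ZMod 2) (Cfsg.quadFormPlus 2 (ZMod 2)))),
      Nonempty (↥A ≃* Equiv.Perm (Fin 3)) ∧ Nonempty (↥B ≃* Equiv.Perm (Fin 3)) ∧ A ⊓ B = ⊥ ∧ (∀ a ∈ A, ∀ b ∈ B, a * b = b * a) ∧
      (A ⊔ B).index = 2 ∧ ∃ g : ↥(Cfsg.isometryGroup (ZMod 2) (Cfsg.quadFormPlus 2 (ZMod 2))), A.map (MulAut.conj g).toMonoidHom = B := by
  classical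
  have hcard : Nat.card O4 = 72 := by
    rw [Nat.card_congr (CfsgLib.Orth.toOrth (CfsgLib.Orth.plusForm (ZMod 2) (1 + 1))
      (CfsgLib.Orth.plusForm_apply (F := ZMod 2) (1 + 1))).toEquiv, CfsgLib.Classical.card_orth_plus (q := 2) (ZMod.card 2) 1]
    simp
  have hL : Function.Injective Lh := (injective_iff_map_eq_one Lh).2 fun σ h =>
    lr_facts.2.2.2.1 σ (congrArg (fun z : O4 => ((z.1 : GL V4 (ZMod 2)) : Matrix V4 V4 (ZMod 2))) h)
  have hR : Function.Injective Rh := (injective_iff_map_eq_one Rh).2 fun σ h =>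
    lr_facts.2.2.2.2 σ (congrArg (fun z : O4 => ((z.1 : GL V4 (ZMod 2)) : Matrix V4 V4 (ZMod 2))) h)
  have hc : ∀ σ τ, Commute (Lh σ) (Rh τ) := fun σ τ => Subtype.ext (Units.ext (lr_facts.1 σ τ))
  have hd : Lh.range ⊓ Rh.range = ⊥ := by
    rw [Subgroup.eq_bot_iff_forall]
    rintro x ⟨⟨σ, rfl⟩, ⟨τ, hτ⟩⟩
    have e := congrArg (fun z : O4 => ((z.1 : GL V4 (ZMod 2)) : Matrix V4 V4 (ZMod 2))) hτ
    rw [lr_facts.2.1 σ τ e.symm, map_one]
  refine ⟨hcard, Lh.range, Rh.range, ⟨(MonoidHom.ofInjective hL).symm⟩, ⟨(MonoidHom.ofInjective hR).symm⟩, hd,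
    ?_, ?_, ?_⟩
  · rintro _ ⟨σ, rfl⟩ _ ⟨τ, rfl⟩; exact hc σ τ
  · have hinj : Function.Injective (Lh.noncommCoprod Rh hc) := by
      rw [injective_iff_map_eq_one]
      rintro ⟨σ, τ⟩ h
      rw [MonoidHom.noncommCoprod_apply] at h
      have hmem : Lh σ ∈ Lh.range ⊓ Rh.range := ⟨⟨σ, rfl⟩, ⟨τ⁻¹, by rw [map_inv]; exact (eq_inv_of_mul_eq_one_left h).symm⟩⟩
      rw [hd, Subgroup.mem_bot] at hmem
      rw [hmem, one_mul] at h
      exact Prod.ext (hL (hmem.trans (map_one _).symm)) (hR (h.trans (map_one _).symm))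
    have h := (Lh.noncommCoprod Rh hc).range.card_mul_index
    rw [MonoidHom.noncommCoprod_range, hcard] at h
    have h36 : Nat.card ↥(Lh.range ⊔ Rh.range) = 36 := by
      rw [← MonoidHom.noncommCoprod_range (comm := hc), ← Nat.card_congr (MonoidHom.ofInjective hinj).toEquiv,
        Nat.card_prod, Nat.card_perm, Nat.card_eq_fintype_card, Fintype.card_fin]
      rfl
    rw [h36] at h
    omega
  · let t : O4 := ⟨⟨tmat, tmat, l_facts.2.2.1, l_facts.2.2.1⟩, fun u _ => iso_facts.2.2 u⟩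
    have key : (MulAut.conj t).toMonoidHom.comp Lh = Rh :=
      MonoidHom.ext fun σ => Subtype.ext (Units.ext (lr_facts.2.2.1 σ))
    exact ⟨t, by rw [← MonoidHom.range_comp, key]⟩

end Cfsg.Agent.S2566
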