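import Cfsg.Statements.S2567

set_option autoImplicit false
open Cfsg

namespace Cfsg.Agent.S2567

/-- Lifting elements of prime order from PGL to GL: let F be a finite field with q elements, r a prime not dividing q − 1, and x an element of order r in GL_n(F) modulo its centre (the scalar matrices). Then x has exactly one preimage in GL_n(F) of order r. -/
theorem result {F : Type*} [Field F] [Fintype F] {q n r : ℕ} (hF : Fintype.card F = q) (hr : r.Prime) (hdiv : ¬ r ∣ q - 1) (x : GL (Fin n) F ⧸ Subgroup.center (GL (Fin n) F)) (hx : orderOf x = r) : ∃! g : GL (Fin n) F, (QuotientGroup.mk g : GL (Fin n) F ⧸ Subgroup.center (GL (Fin n) F)) = x ∧ orderOf g = r := by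
  classical
  haveI := Fact.mk hr
  have hcard : ∀ z ∈ Subgroup.center (GL (Fin n) F), z ^ (q - 1) = 1 := by
    intro z hz
    rw [Matrix.GeneralLinearGroup.center_eq_range_scalar] at hz
    obtain ⟨u, rfl⟩ := hz
    rw [← map_pow, ← hF, ← Fintype.card_units, pow_card_eq_one, map_one]
  have hco : Nat.Coprime r (q - 1) := hr.coprime_iff_not_dvd.2 hdiv
  have huniq : ∀ z ∈ Subgroup.center (GL (Fin n) F), z ^ r = 1 → z = 1 := fun z hz h => by
    have := pow_gcd_eq_one.2 ⟨h, hcard z hz⟩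
    rwa [hco.gcd_eq_one, pow_one] at this
  obtain ⟨g₀, rfl⟩ := QuotientGroup.mk_surjective x
  have hz0 : g₀ ^ r ∈ Subgroup.center (GL (Fin n) F) := by
    rw [← QuotientGroup.eq_one_iff, QuotientGroup.mk_pow, ← hx]
    exact pow_orderOf_eq_one _
  -- g = g₀ ^ k with k ≡ 1 mod r and k ≡ 0 mod q - 1
  obtain ⟨k, hk1, hk2⟩ := Nat.chineseRemainder hco 1 0
  have hgk : (g₀ ^ k) ^ r = 1 := by
    obtain ⟨j, rfl⟩ := Nat.modEq_zero_iff_dvd.1 hk2
    rw [← pow_mul, mul_comm, pow_mul, pow_mul]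
    simp [hcard _ hz0]
  have hmk : (QuotientGroup.mk (g₀ ^ k) : GL (Fin n) F ⧸ Subgroup.center (GL (Fin n) F)) = QuotientGroup.mk g₀ := by
    rw [QuotientGroup.mk_pow]
    conv_rhs => rw [← pow_one (QuotientGroup.mk g₀ : GL (Fin n) F ⧸ Subgroup.center (GL (Fin n) F))]
    rw [pow_eq_pow_iff_modEq, hx]
    exact hk1
  refine ⟨g₀ ^ k, ⟨hmk, ?_⟩, ?_⟩
  · refine orderOf_eq_prime hgk ?_
    intro h
    rw [h] at hmk
    rw [← hmk, QuotientGroup.mk_one, orderOf_one] at hx
    exact hr.one_lt.ne hx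
  · rintro g ⟨hg1, hg2⟩
    rw [← hmk] at hg1
    have hz : (g₀ ^ k)⁻¹ * g ∈ Subgroup.center (GL (Fin n) F) := QuotientGroup.eq.1 hg1.symm
    set z := (g₀ ^ k)⁻¹ * g with hzdef
    have hgz : g = g₀ ^ k * z := by rw [hzdef, mul_inv_cancel_left]
    have hc : Commute (g₀ ^ k) z := (Subgroup.mem_center_iff.1 hz (g₀ ^ k))
    have : z = 1 := huniq z hz (by
      have := pow_orderOf_eq_one g
      rwa [hg2, hgz, hc.mul_pow, hgk, one_mul] at this)
    rw [hgz, this, mul_one]

end Cfsg.Agent.S2567
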