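import Cfsg.Statements.S2568
import Cfsg.Agent.Lib.KnownC.CyclotomicFactors


set_option autoImplicit false
open Cfsg

namespace Cfsg.Agent.S2568

open CfsgLib.KnownC
open Polynomial CfsgLib.KnownC.SemisimpleClasses CfsgLib.KnownC.CyclotomicFactors

/-- Number of conjugacy classes of elements of a given prime order r, coprime to the characteristic, in GL_n(q): if i is the multiplicative order of q modulo r and t = (r − 1)/i, the classes correspond to the non-zero t-tuples of natural numbers (a_1, …, a_t) with i(a_1 + ⋯ + a_t) ≤ n (a_j is the multiplicity of the j-th Frobenius orbit of nontrivial r-th roots of unity among the eigenvalues), so there are exactly C(⌊n/i⌋ + t, t) − 1 of them. -/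
theorem result {F : Type*} [Field F] [Fintype F] {p q : ℕ} [Fact p.Prime] [CharP F p] (hF : Fintype.card F = q) (n r i t : ℕ) (hr : r.Prime) (hrp : r ≠ p) (hi : i = orderOf (q : ZMod r)) (ht : t * i = r - 1) : Nat.card {C : ConjClasses (GL (Fin n) F) // ∃ g : GL (Fin n) F, ConjClasses.mk g = C ∧ orderOf g = r} = Nat.choose (n / i + t) t - 1 := by
  classical
  have hrF : (r : F) ≠ 0 := fun h => hrp (((Nat.prime_dvd_prime_iff_eq (Fact.out : p.Prime) hr).1
    ((CharP.cast_eq_zero_iff F p r).1 h)).symm)
  have hirr : ∀ o, Irreducible (fac F r o) := irreducible_fac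
  have hco := coprime_fac (F := F) hr hrF
  have hiff : ∀ g : GL (Fin n) F, aeval g.val (∏ o, fac F r o) = 0 ↔ g ^ r = 1 := fun g => by
    rw [prod_fac hr hrF, map_sub, map_pow, aeval_X, map_one, sub_eq_zero, ← Units.val_pow_eq_pow_val,
      Units.val_eq_one]
  have hnone : ∀ g : GL (Fin n) F, g = 1 ↔ mult (fac F r) g none = n := fun g => by
    have e := mult_mul hirr g none
    have hd : (fac F r none).natDegree = 1 := natDegree_X_sub_C 1
    rw [hd, mul_one] at e
    rw [e]
    have ha : aeval (Matrix.toLin' g.val) (fac F r none) = Matrix.toLin' (g.val - 1) := by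
      show aeval _ (X - C 1) = _
      rw [map_sub, aeval_X, aeval_C, map_one, map_sub, Matrix.toLin'_one]
      rfl
    rw [SemisimpleClasses.comp, ha]
    constructor
    · rintro rfl
      rw [Units.val_one, sub_self, map_zero, LinearMap.ker_zero, finrank_top, Module.finrank_fin_fun]
    · intro h
      have h' : LinearMap.ker (Matrix.toLin' (g.val - 1)) = ⊤ :=
        Submodule.eq_top_of_finrank_eq (by rw [h, Module.finrank_fin_fun])
      refine Units.ext (sub_eq_zero.1 (Matrix.toLin'.injective ?_))
      rw [Units.val_one, LinearMap.ker_eq_top.1 h', map_zero]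
  rw [card_classes hirr hco (not_X_dvd hr hrF) (fun g => orderOf g = r)
    (fun a => ∃ o, a (some o) ≠ 0) (fun g h => (hiff g).2 (h ▸ pow_orderOf_eq_one g)) ?_]
  · have hi0 : 0 < i := by
      rcases Nat.eq_zero_or_pos i with h | h
      · rw [h, mul_zero] at ht
        have := hr.two_le
        omega
      · exact h
    have ht' : Fintype.card (Orbit F r) = t := by
      refine Nat.eq_of_mul_eq_mul_right hi0 ?_
      rw [ht, hi]
      exact card_orbit hr hrF hF
    have hsum : ∀ a : Option (Orbit F r) → ℕ,
        ∑ o, a o * (fac F r o).natDegree = a none + i * ∑ o, a (some o) := fun a => by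
      rw [Fintype.sum_option, Finset.mul_sum]
      congr 1
      · show a none * (X - C (1 : F)).natDegree = _
        rw [natDegree_X_sub_C, mul_one]
      · refine Finset.sum_congr rfl fun o _ => ?_
        show _ * o.1.natDegree = _
        rw [natDegree_some hr hrF hF o, hi, mul_comm]
    haveI : Finite {b : Orbit F r → ℕ // ∑ x, b x ≤ n / i} := Nat.finite_of_card_ne_zero (by
      rw [card_sum_le]; exact (Nat.choose_pos (Nat.le_add_left _ _)).ne')
    haveI := Fintype.ofFinite {b : Orbit F r → ℕ // ∑ x, b x ≤ n / i}
    have hcard : Fintype.card {b : Orbit F r → ℕ // ∑ x, b x ≤ n / i} = (n / i + t).choose t := by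
      rw [← Nat.card_eq_fintype_card, card_sum_le, ht']
    let z : {b : Orbit F r → ℕ // ∑ x, b x ≤ n / i} := ⟨0, by simp⟩
    have e : Nat.card {a : Option (Orbit F r) → ℕ //
        (∑ o, a o * (fac F r o).natDegree = n) ∧ ∃ o, a (some o) ≠ 0} =
          Nat.card {b : {b : Orbit F r → ℕ // ∑ x, b x ≤ n / i} // b ≠ z} := by
      refine Nat.card_congr
        { toFun := fun a => ⟨⟨fun o => a.1 (some o), ?_⟩, ?_⟩
          invFun := fun b => ⟨fun o => o.elim (n - i * ∑ x, b.1.1 x) b.1.1, ?_, ?_⟩
          left_inv := ?_
          right_inv := fun b => rfl }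
      · have h := a.2.1
        rw [hsum] at h
        rw [Nat.le_div_iff_mul_le hi0, mul_comm]
        exact Nat.le.intro ((add_comm _ _).trans h)
      · intro h
        obtain ⟨o, ho⟩ := a.2.2
        exact ho (congrFun (congrArg Subtype.val h) o)
      · rw [hsum]
        have h := b.1.2
        rw [Nat.le_div_iff_mul_le hi0, mul_comm] at h
        show n - i * ∑ x, b.1.1 x + i * ∑ x, b.1.1 x = n
        omega
      · by_contra hc
        push Not at hc
        exact b.2 (Subtype.ext (funext hc))
      · intro a
        refine Subtype.ext (funext fun o => ?_)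
        have h := a.2.1
        rw [hsum] at h
        cases o with
        | none => show n - i * ∑ x, a.1 (some x) = a.1 none; omega
        | some o => rfl
    rw [e, Nat.card_eq_fintype_card, Fintype.card_subtype_compl, hcard, Fintype.card_subtype_eq]
  · intro g hg
    have hs := sum_mult hirr hco hg
    constructor
    · intro h
      by_contra hc
      push Not at hc
      have hg1 : g = 1 := (hnone g).2 (by
        rw [Fintype.sum_option, Finset.sum_eq_zero (fun o _ => by rw [hc o, zero_mul]), add_zero,
          show (fac F r none).natDegree = 1 from natDegree_X_sub_C 1, mul_one] at hs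
        exact hs)
      rw [hg1, orderOf_one] at h
      exact hr.one_lt.ne h
    · rintro ⟨o, ho⟩
      haveI := Fact.mk hr
      refine orderOf_eq_prime ((hiff g).1 hg) fun h1 => ho ?_
      have h2 := (hnone g).1 h1
      rw [Fintype.sum_option, show (fac F r none).natDegree = 1 from natDegree_X_sub_C 1, mul_one, h2] at hs
      have h3 : ∑ o, mult (fac F r) g (some o) * (fac F r (some o)).natDegree = 0 := by omega
      have h4 := Finset.sum_eq_zero_iff.1 h3 o (Finset.mem_univ _)
      rcases Nat.mul_eq_zero.1 h4 with h5 | h5
      · exact h5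
      · exact absurd h5 (hirr (some o)).natDegree_pos.ne'
end Cfsg.Agent.S2568
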