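import Cfsg.Statements.S2569
import Mathlib


set_option autoImplicit false
open Cfsg

namespace Cfsg.Agent.S2569

theorem det_of_data {F W C K U V : Type*} [Field F] [AddCommGroup W] [Module F W] [Module.Finite F W] [AddCommGroup C]
    [Module F C] [Module.Finite F C] [CommRing K] [Algebra F K] [AddCommGroup U] [Module F U] [AddCommGroup V] [Module F V]
    (φ : W →ₗ[F] W) (e : W ≃ₗ[F] K) (k : K) (hφ : ∀ y, e (φ (e.symm y)) = k * y)
    (pe : (W × C) ≃ₗ[F] U) (tv : V ≃ₗ[F] U) (M : V →ₗ[F] V) (hM : ∀ w c, tv (M (tv.symm (pe (w, c)))) = pe (φ w, c)) :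
    LinearMap.det M = Algebra.norm F k := by
  have h1 : LinearMap.det φ = Algebra.norm F k := by
    rw [← LinearMap.det_conj φ e, Algebra.norm_apply]
    congr 1
    exact LinearMap.ext hφ
  rw [← h1, ← LinearMap.det_conj M (tv.trans pe.symm), ← mul_one (LinearMap.det φ), ← LinearMap.det_id (A := F) (M := C),
    ← LinearMap.det_prodMap]
  congr 1
  refine LinearMap.ext fun x => ?_
  obtain ⟨w, c⟩ := x
  show pe.symm (tv (M (tv.symm (pe (w, c))))) = (φ w, c)
  rw [hM, LinearEquiv.symm_apply_apply]

/-- In GL_n over a finite field of characteristic p, the conjugacy class of a semisimple element (an element of order prime to p) under the special linear group is its whole GL-conjugacy class: for every such x and every invertible g there is h of determinant one with h x h⁻¹ = g x g⁻¹. -/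
theorem result {F : Type*} [Field F] [Fintype F] {p : ℕ} [Fact p.Prime] [CharP F p] {n : ℕ} (x g : GL (Fin n) F) (hx : (orderOf x).Coprime p) : ∃ h : GL (Fin n) F, (h : Matrix (Fin n) (Fin n) F).det = 1 ∧ h * x * h⁻¹ = g * x * g⁻¹ := by
  classical
  rcases Nat.eq_zero_or_pos n with rfl | hn
  · exact ⟨g, by simp, rfl⟩
  open Polynomial in
  let f : Module.End F (Fin n → F) := Matrix.toLinAlgEquiv' (x : Matrix (Fin n) (Fin n) F)
  have hk : orderOf x ≠ 0 := (orderOf_pos x).ne'
  have hcast : ((orderOf x : ℕ) : F) ≠ 0 := by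
    rw [Ne, CharP.cast_eq_zero_iff F p]
    exact fun h => (Fact.out : p.Prime).one_lt.ne' (Nat.eq_one_of_dvd_coprimes hx h dvd_rfl)
  have hss : f.IsSemisimple := by
    refine Module.End.isSemisimple_of_squarefree_aeval_eq_zero (p := Polynomial.X ^ orderOf x - Polynomial.C 1)
      (Polynomial.separable_X_pow_sub_C (1 : F) hcast one_ne_zero).squarefree ?_
    rw [map_sub, map_pow, Polynomial.aeval_X, Polynomial.aeval_C, map_one, ← map_pow, ← Units.val_pow_eq_pow_val,
      pow_orderOf_eq_one, Units.val_one, map_one, sub_self]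
  have : IsSemisimpleModule (Polynomial F) (Module.AEval' f) := hss
  let tv : (Fin n → F) ≃ₗ[F] Module.AEval' f := Module.AEval'.of f
  have : Nontrivial (Module.AEval' f) := by
    have : Nonempty (Fin n) := ⟨⟨0, hn⟩⟩
    exact tv.symm.toEquiv.nontrivial
  obtain ⟨W, hW⟩ := IsSemisimpleModule.exists_simple_submodule (Polynomial F) (Module.AEval' f)
  obtain ⟨C, hC⟩ := exists_isCompl W
  obtain ⟨I, hI, ⟨e⟩⟩ := isSimpleModule_iff_quot_maximal.1 hW
  let : Field (Polynomial F ⧸ I) := Ideal.Quotient.field I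
  have : Module.Finite F W := Module.Finite.equiv (Submodule.restrictScalarsEquiv F (Polynomial F) (Module.AEval' f) W |>.restrictScalars F)
  have : Module.Finite F (Polynomial F ⧸ I) := Module.Finite.equiv (e.restrictScalars F)
  have : Finite (Polynomial F ⧸ I) := Module.finite_of_finite F
  set u : F := (((Matrix.GeneralLinearGroup.det g)⁻¹ : Fˣ) : F) with hu
  obtain ⟨k, hk'⟩ := FiniteField.norm_surjective F (Polynomial F ⧸ I) u
  obtain ⟨r, hr⟩ := Ideal.Quotient.mk_surjective k
  let φ : W →ₗ[Polynomial F] W := r • LinearMap.id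
  let pe : (W × C) ≃ₗ[Polynomial F] Module.AEval' f := Submodule.prodEquivOfIsCompl W C hC
  let T : Module.AEval' f →ₗ[Polynomial F] Module.AEval' f :=
    pe.toLinearMap ∘ₗ (φ.prodMap LinearMap.id) ∘ₗ pe.symm.toLinearMap
  let M : (Fin n → F) →ₗ[F] (Fin n → F) := tv.symm.toLinearMap ∘ₗ (T.restrictScalars F) ∘ₗ tv.toLinearMap
  have hdet : LinearMap.det M = u := by
    have : Module.Finite F C := Module.Finite.equiv (Submodule.restrictScalarsEquiv F (Polynomial F) (Module.AEval' f) C |>.restrictScalars F)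
    refine (det_of_data (W := W) (C := C) (K := Polynomial F ⧸ I) (φ.restrictScalars F) (e.restrictScalars F) k ?_
      (pe.restrictScalars F) tv M (fun w c => ?_)).trans hk'
    · intro y
      show e (r • e.symm y) = k * y
      rw [map_smul, LinearEquiv.apply_symm_apply, ← hr]
      rfl
    · show tv (tv.symm (T (tv (tv.symm (pe (w, c)))))) = pe (φ w, c)
      rw [LinearEquiv.apply_symm_apply, LinearEquiv.apply_symm_apply]
      show pe ((φ.prodMap LinearMap.id) (pe.symm (pe (w, c)))) = _
      rw [LinearEquiv.symm_apply_apply]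
      rfl
  have hM : ∀ v, M (Matrix.mulVec (x : Matrix (Fin n) (Fin n) F) v) = Matrix.mulVec (x : Matrix (Fin n) (Fin n) F) (M v) := fun v => by
    apply tv.injective
    show tv (tv.symm (T (tv (Matrix.mulVec (x : Matrix (Fin n) (Fin n) F) v)))) = tv (Matrix.mulVec (x : Matrix (Fin n) (Fin n) F) (tv.symm (T (tv v))))
    rw [LinearEquiv.apply_symm_apply, show tv (Matrix.mulVec (x : Matrix (Fin n) (Fin n) F) v) = Polynomial.X • tv v from
        (Module.AEval'.X_smul_of f v).symm,
      show tv (Matrix.mulVec (x : Matrix (Fin n) (Fin n) F) (tv.symm (T (tv v)))) = Polynomial.X • tv (tv.symm (T (tv v))) from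
        (Module.AEval'.X_smul_of f _).symm, LinearEquiv.apply_symm_apply, map_smul]
  have hMdet : (LinearMap.toMatrix' M).det = u := by rw [LinearMap.det_toMatrix', hdet]
  let t : GL (Fin n) F := Matrix.GeneralLinearGroup.mkOfDetNeZero (LinearMap.toMatrix' M) (by rw [hMdet]; exact Units.ne_zero _)
  have ht : t * x = x * t := Units.ext (Matrix.ext_of_mulVec_single fun j => by
    show Matrix.mulVec (LinearMap.toMatrix' M * (x : Matrix (Fin n) (Fin n) F)) _ = Matrix.mulVec ((x : Matrix (Fin n) (Fin n) F) * LinearMap.toMatrix' M) _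
    rw [← Matrix.mulVec_mulVec, ← Matrix.mulVec_mulVec, LinearMap.toMatrix'_mulVec, LinearMap.toMatrix'_mulVec, hM])
  refine ⟨g * t, ?_, ?_⟩
  · rw [Units.val_mul, Matrix.det_mul, show ((t : GL (Fin n) F) : Matrix (Fin n) (Fin n) F).det = u from hMdet]
    exact Units.mul_inv (Matrix.GeneralLinearGroup.det g)
  · calc g * t * x * (g * t)⁻¹ = g * (t * x) * t⁻¹ * g⁻¹ := by group
      _ = _ := by rw [ht]; group
end Cfsg.Agent.S2569
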