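import Cfsg.Statements.S2571
import Cfsg.Agent.Lib.KnownC.RegNilp


set_option autoImplicit false
open Cfsg

namespace Cfsg.Agent.S2571

/-- Centraliser of a regular unipotent element in GL_n(q): if u is an invertible n × n matrix over the field with q elements, n ≥ 1, with (u − 1)^n = 0 and rank(u − 1) = n − 1 (a single unipotent Jordan block), then its centraliser in GL_n(q) has order (q − 1) q^(n−1). -/
theorem result {F : Type*} [Field F] [Fintype F] {q n : ℕ} (hF : Fintype.card F = q) (hn : 1 ≤ n) (u : GL (Fin n) F) (hnil : ((u : Matrix (Fin n) (Fin n) F) - 1) ^ n = 0) (hreg : ((u : Matrix (Fin n) (Fin n) F) - 1).rank = n - 1) : Nat.card ↥(Subgroup.centralizer ({u} : Set (GL (Fin n) F))) = (q - 1) * q ^ (n - 1) := by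
  classical
  subst hF
  set N := (u : Matrix (Fin n) (Fin n) F) - 1
  have hR := CfsgLib.KnownC.RegNilp.reg_of_matrix N (by rwa [Fintype.card_fin]) (by rwa [Fintype.card_fin])
  have hd : Module.finrank F (Fin n → F) = n := Module.finrank_fin_fun F
  obtain ⟨v, hv⟩ := CfsgLib.KnownC.RegNilp.exists_cyclic hR (by rw [hd]; exact hn)
  set T : (Fin n → F) →ₗ[F] (Fin n → F) := Matrix.toLinAlgEquiv' N
  set K := LinearMap.ker (T ^ (Module.finrank F (Fin n → F) - 1))
  have hcomm : ∀ g : GL (Fin n) F, g ∈ Subgroup.centralizer ({u} : Set (GL (Fin n) F)) ↔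
      Commute (Matrix.toLinAlgEquiv' (g : Matrix (Fin n) (Fin n) F)) T := fun g => by
    rw [Subgroup.mem_centralizer_singleton_iff, CfsgLib.KnownC.RegNilp.commute_iff]
    exact ⟨fun h => congrArg Units.val h, fun h => Units.ext h⟩
  have hinj : ∀ g : GL (Fin n) F, Function.Injective (Matrix.toLinAlgEquiv' (g : Matrix (Fin n) (Fin n) F)) :=
    fun g => Matrix.mulVec_injective_iff_isUnit.2 g.isUnit
  let f : ↥(Subgroup.centralizer ({u} : Set (GL (Fin n) F))) → {w : Fin n → F // w ∉ K} := fun g =>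
    ⟨Matrix.toLinAlgEquiv' ((g : GL (Fin n) F) : Matrix (Fin n) (Fin n) F) v, fun h =>
      (CfsgLib.KnownC.RegNilp.commutant_injective_iff hR hv ((hcomm _).1 g.2)).1 (hinj _) (LinearMap.mem_ker.1 h)⟩
  have hbij : Function.Bijective f := by
    constructor
    · intro g g' h
      exact Subtype.ext (Units.ext (Matrix.toLinAlgEquiv'.injective (CfsgLib.KnownC.RegNilp.commutant_ext hR hv
        ((hcomm _).1 g.2) ((hcomm _).1 g'.2) (congrArg Subtype.val h))))
    · rintro ⟨w, hw⟩
      obtain ⟨g, hg, hgv⟩ := CfsgLib.KnownC.RegNilp.commutant_exists hR hv w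
      have hgi : Function.Injective g := (CfsgLib.KnownC.RegNilp.commutant_injective_iff hR hv hg).2 (by
        rw [hgv]; exact fun h => hw (LinearMap.mem_ker.2 h))
      have hu : IsUnit (Matrix.toLinAlgEquiv'.symm g) := Matrix.mulVec_injective_iff_isUnit.1 (by
        rwa [← Matrix.toLinAlgEquiv'.apply_symm_apply g] at hgi)
      refine ⟨⟨hu.unit, (hcomm _).2 (by rw [hu.unit_spec, AlgEquiv.apply_symm_apply]; exact hg)⟩, Subtype.ext ?_⟩
      show Matrix.toLinAlgEquiv' (hu.unit : Matrix (Fin n) (Fin n) F) v = w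
      rw [hu.unit_spec, AlgEquiv.apply_symm_apply, hgv]
  rw [Nat.card_congr (Equiv.ofBijective f hbij), Nat.card_eq_fintype_card, Fintype.card_subtype_compl,
    ← Nat.card_eq_fintype_card, ← Nat.card_eq_fintype_card (α := {x // x ∈ K})]
  have hK : Nat.card K = Fintype.card F ^ (n - 1) := by
    rw [Module.natCard_eq_pow_finrank (K := F) (V := K), CfsgLib.KnownC.RegNilp.finrank_ker_pow hR (Nat.sub_le _ _),
      hd, Nat.card_eq_fintype_card]
  rw [hK, Nat.card_fun, Nat.card_fin, Nat.card_eq_fintype_card, Nat.sub_mul, one_mul, ← pow_succ',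
    Nat.sub_add_cancel hn]
end Cfsg.Agent.S2571
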