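import Cfsg.Statements.S2572
import Cfsg.Agent.Lib.KnownC.TransvClass


set_option autoImplicit false
open Cfsg

namespace Cfsg.Agent.S2572

/-- Centraliser of a transvection in GL_n(q), n ≥ 2: if t − 1 has rank one and square zero, the centraliser of t in GL_n(q) has order q^(2n−3) (q − 1) |GL_(n−2)(q)| (a group of order q^(2n−3) extended by GL_1(q) × GL_(n−2)(q)). -/
theorem result {F : Type*} [Field F] [Fintype F] {q n : ℕ} (hF : Fintype.card F = q) (hn : 2 ≤ n) (t : GL (Fin n) F) (ht : Cfsg.IsTransvection (t : Matrix (Fin n) (Fin n) F)) : Nat.card ↥(Subgroup.centralizer ({t} : Set (GL (Fin n) F))) = q ^ (2 * n - 3) * (q - 1) * ∏ i : Fin (n - 2), (q ^ (n - 2) - q ^ (i : ℕ)) := by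
  classical
  obtain ⟨k, rfl⟩ : ∃ k, n = k + 2 := ⟨n - 2, by omega⟩
  subst hF
  set q := Fintype.card F
  open Matrix in
  let T := Σ w : {w : Fin (k + 2) → F // w ≠ 0}, {φ : Fin (k + 2) → F // φ ≠ 0 ∧ φ ⬝ᵥ (w : Fin (k + 2) → F) = 0}
  have hT : Nat.card T = (q ^ (k + 2) - 1) * (q ^ (k + 1) - 1) := by
    open Matrix in
    have hfib : ∀ w : {w : Fin (k + 2) → F // w ≠ 0},
        Nat.card {φ : Fin (k + 2) → F // φ ≠ 0 ∧ φ ⬝ᵥ (w : Fin (k + 2) → F) = 0} = q ^ (k + 1) - 1 := by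
      intro w
      let L : (Fin (k + 2) → F) →ₗ[F] F :=
        { toFun := fun φ => φ ⬝ᵥ (w : Fin (k + 2) → F)
          map_add' := fun a b => add_dotProduct a b _
          map_smul' := fun a b => smul_dotProduct a b _ }
      have hL : LinearMap.range L = ⊤ := by
        obtain ⟨i, hi⟩ := Function.ne_iff.1 w.2
        refine LinearMap.range_eq_top.2 fun x => ⟨Pi.single i (x / (w : Fin (k + 2) → F) i), ?_⟩
        show Pi.single i _ ⬝ᵥ (w : Fin (k + 2) → F) = x
        rw [single_dotProduct, div_mul_cancel₀ _ hi]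
      have h1 := LinearMap.finrank_range_add_finrank_ker L
      rw [hL, finrank_top, Module.finrank_self, Module.finrank_fin_fun] at h1
      have h2 : Nat.card (LinearMap.ker L) = q ^ (k + 1) := by
        rw [Module.natCard_eq_pow_finrank (K := F) (V := LinearMap.ker L), Nat.card_eq_fintype_card]
        congr 1; omega
      let e : {φ : Fin (k + 2) → F // φ ≠ 0 ∧ φ ⬝ᵥ (w : Fin (k + 2) → F) = 0} ≃ {x : LinearMap.ker L // x ≠ 0} :=
        { toFun := fun φ => ⟨⟨φ.1, φ.2.2⟩, fun h => φ.2.1 (congrArg Subtype.val h)⟩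
          invFun := fun x => ⟨x.1.1, fun h => x.2 (Subtype.ext h), x.1.2⟩
          left_inv := fun _ => rfl
          right_inv := fun _ => rfl }
      rw [Nat.card_congr e, Nat.card_eq_fintype_card, Fintype.card_subtype_compl, Fintype.card_subtype_eq,
        ← Nat.card_eq_fintype_card, h2]
    rw [Nat.card_sigma, Finset.sum_congr rfl (fun w _ => hfib w), Finset.sum_const, Finset.card_univ, smul_eq_mul,
      Fintype.card_subtype_compl, Fintype.card_subtype_eq, Fintype.card_fun, Fintype.card_fin]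
  let C := MulAction.orbit (ConjAct (GL (Fin (k + 2)) F)) t
  open Matrix in
  have hmem : ∀ x : T, ∃ s : GL (Fin (k + 2)) F, (s : Matrix (Fin (k + 2)) (Fin (k + 2)) F) =
      1 + vecMulVec x.1.1 x.2.1 ∧ s ∈ C := by
    intro x
    obtain ⟨⟨w, hw⟩, φ, hφ, horth⟩ := x
    set S := 1 + vecMulVec w φ
    have hsq : vecMulVec w φ * vecMulVec w φ = 0 := by
      rw [vecMulVec_mul_vecMulVec, horth, zero_smul, vecMulVec_zero]
    have hTS : Cfsg.IsTransvection S := by
      refine ⟨?_, by rw [add_sub_cancel_left]; exact hsq⟩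
      rw [add_sub_cancel_left]
      refine le_antisymm (rank_vecMulVec_le w φ) ?_
      rw [Nat.one_le_iff_ne_zero]
      intro h0
      obtain ⟨i, hi⟩ := Function.ne_iff.1 hw
      obtain ⟨j, hj⟩ := Function.ne_iff.1 hφ
      have hz : vecMulVec w φ = 0 := by
        have h1 : LinearMap.range (vecMulVec w φ).mulVecLin = ⊥ := Submodule.finrank_eq_zero.1 h0
        exact Matrix.toLin'.injective ((LinearMap.range_eq_bot.1 h1).trans (map_zero _).symm)
      exact mul_ne_zero hi hj (congrFun (congrFun hz i) j)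
    obtain ⟨a, ha⟩ := CfsgLib.KnownC.TransvClass.conj_std hTS (CfsgLib.KnownC.TransvClass.det_eq_one hTS)
    obtain ⟨b, hb⟩ := CfsgLib.KnownC.TransvClass.conj_std ht (CfsgLib.KnownC.TransvClass.det_eq_one ht)
    refine ⟨a * b⁻¹ * t * (a * b⁻¹)⁻¹, ?_, ⟨ConjAct.toConjAct (a * b⁻¹), rfl⟩⟩
    rw [ha]
    simp only [Units.val_mul, _root_.mul_inv_rev, inv_inv, hb, Matrix.mul_assoc]
    rw [← Matrix.mul_assoc ((b⁻¹ : GL (Fin (k + 2)) F) : Matrix (Fin (k + 2)) (Fin (k + 2)) F) (b : Matrix (Fin (k + 2)) (Fin (k + 2)) F),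
      ← Matrix.mul_assoc ((b⁻¹ : GL (Fin (k + 2)) F) : Matrix (Fin (k + 2)) (Fin (k + 2)) F) (b : Matrix (Fin (k + 2)) (Fin (k + 2)) F),
      ← Units.val_mul, inv_mul_cancel, Units.val_one, Matrix.one_mul, Matrix.one_mul]
  choose S hS hSC using hmem
  open Matrix in
  have hfacts : ∀ x y : T, S x = S y → ∃ a : Fˣ, (y.1.1 = (a : F) • x.1.1) ∧ (y.2.1 = ((a⁻¹ : Fˣ) : F) • x.2.1) := by
    intro x y h
    have h1 : vecMulVec x.1.1 x.2.1 = vecMulVec y.1.1 y.2.1 := add_left_cancel (by rw [← hS x, ← hS y, h])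
    obtain ⟨j, hj⟩ := Function.ne_iff.1 y.2.2.1
    simp only [Pi.zero_apply] at hj
    have hy1 : y.1.1 = (x.2.1 j / y.2.1 j) • x.1.1 := funext fun i => by
      have e := congrFun (congrFun h1 i) j
      simp only [vecMulVec_apply] at e
      rw [Pi.smul_apply, smul_eq_mul, div_mul_eq_mul_div, mul_comm, e, mul_div_assoc, div_self hj, mul_one]
    have ha : x.2.1 j / y.2.1 j ≠ 0 := fun h0 => y.1.2 (by rw [hy1, h0, zero_smul])
    refine ⟨Units.mk0 _ ha, hy1, funext fun l => ?_⟩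
    obtain ⟨i, hi⟩ := Function.ne_iff.1 x.1.2
    have e := congrFun (congrFun h1 i) l
    simp only [vecMulVec_apply, hy1, Pi.smul_apply, smul_eq_mul] at e
    rw [Pi.smul_apply, smul_eq_mul, Units.val_inv_eq_inv_val, Units.val_mk0, eq_inv_mul_iff_mul_eq₀ ha]
    refine mul_left_cancel₀ hi ?_
    rw [e]; ring
  let f : T → C := fun x => ⟨S x, hSC x⟩
  open Matrix in
  have hf : Function.Surjective f := by
    rintro ⟨s, g, rfl⟩
    set G := ConjAct.ofConjAct g
    set N : Matrix (Fin (k + 2)) (Fin (k + 2)) F := ((G * t * G⁻¹ : GL (Fin (k + 2)) F) : Matrix (Fin (k + 2)) (Fin (k + 2)) F)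
    obtain ⟨a, ha⟩ := CfsgLib.KnownC.TransvClass.conj_std ht (CfsgLib.KnownC.TransvClass.det_eq_one ht)
    set H : GL (Fin (k + 2)) F := G * a
    have hHw : (H : Matrix (Fin (k + 2)) (Fin (k + 2)) F) *ᵥ Pi.single 1 1 ≠ 0 := fun h0 => by
      have := Matrix.mulVec_injective_iff_isUnit.2 H.isUnit (a₁ := Pi.single 1 1) (a₂ := 0) (by rw [h0, mulVec_zero])
      simp at this
    have hHp : Pi.single 0 1 ᵥ* ((H⁻¹ : GL (Fin (k + 2)) F) : Matrix (Fin (k + 2)) (Fin (k + 2)) F) ≠ 0 := fun h0 => by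
      have := congrArg (fun v => v ᵥ* (H : Matrix (Fin (k + 2)) (Fin (k + 2)) F)) h0
      simp only [vecMul_vecMul, ← Units.val_mul, inv_mul_cancel, Units.val_one, vecMul_one, zero_vecMul] at this
      simp at this
    let x : T := ⟨⟨_, hHw⟩, ⟨_, hHp, by
      rw [dotProduct_mulVec, vecMul_vecMul, ← Units.val_mul, inv_mul_cancel, Units.val_one, vecMul_one, single_dotProduct]
      simp⟩⟩
    refine ⟨x, Subtype.ext (Units.ext ?_)⟩
    rw [hS x]
    show _ = ((G * t * G⁻¹ : GL (Fin (k + 2)) F) : Matrix (Fin (k + 2)) (Fin (k + 2)) F)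
    rw [Units.val_mul, Units.val_mul, ha]
    have e : ∀ M : Matrix (Fin (k + 2)) (Fin (k + 2)) F,
        (G : Matrix (Fin (k + 2)) (Fin (k + 2)) F) * ((a : Matrix (Fin (k + 2)) (Fin (k + 2)) F) * M * ((a⁻¹ : GL (Fin (k + 2)) F) : Matrix (Fin (k + 2)) (Fin (k + 2)) F)) *
          ((G⁻¹ : GL (Fin (k + 2)) F) : Matrix (Fin (k + 2)) (Fin (k + 2)) F) = (H : Matrix (Fin (k + 2)) (Fin (k + 2)) F) * M * ((H⁻¹ : GL (Fin (k + 2)) F) : Matrix (Fin (k + 2)) (Fin (k + 2)) F) := fun M => by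
      simp only [H, _root_.mul_inv_rev, Units.val_mul, Matrix.mul_assoc]
    rw [e, CfsgLib.KnownC.TransvClass.std, Matrix.mul_add, Matrix.add_mul, Matrix.mul_one, ← Units.val_mul, mul_inv_cancel,
      Units.val_one, mul_vecMulVec, vecMulVec_mul]
  open Matrix in
  let act : C × Fˣ → T := fun p => ⟨⟨(p.2 : F) • (Function.surjInv hf p.1).1.1, smul_ne_zero p.2.ne_zero (Function.surjInv hf p.1).1.2⟩,
    ⟨((p.2⁻¹ : Fˣ) : F) • (Function.surjInv hf p.1).2.1, smul_ne_zero (p.2⁻¹).ne_zero (Function.surjInv hf p.1).2.2.1, by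
      show (((p.2⁻¹ : Fˣ) : F) • (Function.surjInv hf p.1).2.1) ⬝ᵥ ((p.2 : F) • (Function.surjInv hf p.1).1.1) = 0
      rw [smul_dotProduct, dotProduct_smul, (Function.surjInv hf p.1).2.2.2, smul_zero, smul_zero]⟩⟩
  open Matrix in
  have hfact : ∀ p, f (act p) = p.1 := fun p => by
    refine Subtype.ext (Units.ext ?_)
    refine (hS (act p)).trans ?_
    rw [← congrArg Subtype.val (Function.surjInv_eq hf p.1)]
    refine Eq.trans ?_ (hS _).symm
    show 1 + vecMulVec ((p.2 : F) • _) (((p.2⁻¹ : Fˣ) : F) • _) = _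
    rw [smul_vecMulVec, vecMulVec_smul, smul_smul, Units.mul_inv, one_smul]
  have hact : Function.Bijective act := by
    refine ⟨fun p p' h => ?_, fun x => ?_⟩
    · obtain ⟨c, a⟩ := p
      obtain ⟨c', a'⟩ := p'
      obtain rfl : c = c' := ((hfact (c, a)).symm.trans (congrArg f h)).trans (hfact (c', a'))
      have h1 := congrArg (fun x : T => x.1.1) h
      refine Prod.ext rfl (Units.ext ?_)
      exact smul_left_injective F (Function.surjInv hf c).1.2 h1
    · obtain ⟨a, ha1, ha2⟩ := hfacts (Function.surjInv hf (f x)) x (congrArg Subtype.val (Function.surjInv_eq hf (f x)))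
      refine ⟨(f x, a), ?_⟩
      have key : ∀ y z : T, y.1.1 = z.1.1 → y.2.1 = z.2.1 → y = z := by
        rintro ⟨⟨w, hw⟩, ⟨φ, hφ⟩⟩ ⟨⟨w', hw'⟩, ⟨φ', hφ'⟩⟩ e1 e2
        simp only at e1 e2
        subst e1 e2
        rfl
      exact key _ _ ha1.symm ha2.symm
  have hC : (q - 1) * Nat.card C = (q ^ (k + 2) - 1) * (q ^ (k + 1) - 1) := by
    rw [← hT, ← Nat.card_congr (Equiv.ofBijective act hact), Nat.card_prod, Nat.card_units, Nat.card_eq_fintype_card (α := F),
      mul_comm]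
  have hos := MulAction.card_orbit_mul_card_stabilizer_eq_card_group (ConjAct (GL (Fin (k + 2)) F)) t
  have hstab : Fintype.card (MulAction.stabilizer (ConjAct (GL (Fin (k + 2)) F)) t) =
      Nat.card (Subgroup.centralizer ({t} : Set (GL (Fin (k + 2)) F))) := by
    rw [← Nat.card_eq_fintype_card, ConjAct.stabilizer_eq_centralizer]; rfl
  rw [hstab, ← Nat.card_eq_fintype_card, ← Nat.card_eq_fintype_card, Nat.card_congr ConjAct.ofConjAct.toEquiv,
    Matrix.card_GL_field, Fin.prod_univ_succ, Fin.prod_univ_succ, show Fintype.card F = q from rfl] at hos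
  simp only [Fin.val_zero, Fin.val_succ, pow_zero, zero_add, pow_one] at hos
  have e1 : q ^ (k + 2) - q = q * (q ^ (k + 1) - 1) := by rw [Nat.mul_sub, mul_one, ← pow_succ']
  have e2 : ∀ i : Fin k, q ^ (k + 2) - q ^ ((i : ℕ) + 1 + 1) = q ^ 2 * (q ^ k - q ^ (i : ℕ)) := fun i => by
    rw [Nat.mul_sub, ← pow_add, ← pow_add, add_comm 2 k, add_comm 2 (i : ℕ)]
  rw [Finset.prod_congr rfl (fun i _ => e2 i), Finset.prod_mul_distrib, Finset.prod_const, Finset.card_univ, Fintype.card_fin,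
    e1, ← pow_mul] at hos
  have hq2 : 2 ≤ q := Fintype.one_lt_card
  have hpos : 0 < Nat.card C := by
    have h1 : 0 < (q ^ (k + 2) - 1) * (q ^ (k + 1) - 1) := by
      have a1 : 2 ≤ q ^ (k + 2) := hq2.trans (Nat.le_self_pow (by omega) q)
      have a2 : 2 ≤ q ^ (k + 1) := hq2.trans (Nat.le_self_pow (by omega) q)
      exact Nat.mul_pos (by omega) (by omega)
    rw [← hC] at h1
    exact Nat.pos_of_mul_pos_left h1
  show _ = q ^ (2 * (k + 2) - 3) * (q - 1) * ∏ i : Fin (k + 2 - 2), (q ^ (k + 2 - 2) - q ^ (i : ℕ))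
  rw [show 2 * (k + 2) - 3 = 2 * k + 1 by omega]
  simp only [Nat.add_sub_cancel]
  refine Nat.eq_of_mul_eq_mul_left hpos (hos.trans ?_)
  calc _ = ((q ^ (k + 2) - 1) * (q ^ (k + 1) - 1)) * (q * q ^ (2 * k) * ∏ i : Fin k, (q ^ k - q ^ (i : ℕ))) := by ring
    _ = _ := by
        rw [← hC]
        ring_nf
        rfl
end Cfsg.Agent.S2572
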