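import Cfsg.Statements.S2574
import Cfsg.Agent.Lib.KnownC.RegNilp
import Cfsg.Agent.Lib.KnownC.AutPSp.Rank


set_option autoImplicit false
open Cfsg

namespace Cfsg.Agent.S2574

/-- A regular unipotent element of the symplectic group has totally isotropic small invariant subspaces: over a finite field, if u ∈ Sp_2m(F) satisfies (u − 1)^(2m) = 0 and rank(u − 1) = 2m − 1, and W is a u-invariant subspace with 2 dim W ≤ 2m, then the alternating form vanishes identically on W. -/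
theorem result {F : Type*} [Field F] [Finite F] {m : ℕ} (u : Matrix.symplecticGroup (Fin m) F) (hnil : ((u : Matrix (Fin m ⊕ Fin m) (Fin m ⊕ Fin m) F) - 1) ^ (2 * m) = 0) (hreg : ((u : Matrix (Fin m ⊕ Fin m) (Fin m ⊕ Fin m) F) - 1).rank = 2 * m - 1) (W : Submodule F (Fin m ⊕ Fin m → F)) (hW : ∀ v ∈ W, (u : Matrix (Fin m ⊕ Fin m) (Fin m ⊕ Fin m) F).mulVec v ∈ W) (hdim : 2 * Module.finrank F W ≤ 2 * m) : ∀ v ∈ W, ∀ w ∈ W, Cfsg.sympForm m F v w = 0 := by
  set N := (u : Matrix (Fin m ⊕ Fin m) (Fin m ⊕ Fin m) F) - 1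
  have hc : Fintype.card (Fin m ⊕ Fin m) = 2 * m := by rw [Fintype.card_sum, Fintype.card_fin, two_mul]
  have hR := CfsgLib.KnownC.RegNilp.reg_of_matrix N (by rwa [hc]) (by rwa [hc])
  have hinv : ∀ U : Submodule F (Fin m ⊕ Fin m → F),
      (∀ x ∈ U, (u : Matrix (Fin m ⊕ Fin m) (Fin m ⊕ Fin m) F).mulVec x ∈ U) →
      ∀ x ∈ U, Matrix.toLinAlgEquiv' N x ∈ U := fun U hU x hx => by
    show N.mulVec x ∈ U
    rw [Matrix.sub_mulVec, Matrix.one_mulVec]
    exact U.sub_mem (hU x hx) hx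
  have hW1 := CfsgLib.KnownC.RegNilp.invariant_eq hR W (hinv W hW)
  set P := CfsgLib.Classical.perp (CfsgLib.Classical.sympBil F m) W
  have hWmap : W.map (Matrix.toLin' (u : Matrix (Fin m ⊕ Fin m) (Fin m ⊕ Fin m) F)) = W :=
    Submodule.eq_of_le_of_finrank_eq (by rintro _ ⟨x, hx, rfl⟩; exact hW x hx)
      (Submodule.equivMapOfInjective _ (CfsgLib.KnownC.AutPSp.sp_injective u) W).finrank_eq.symm
  have hP : ∀ x ∈ P, (u : Matrix (Fin m ⊕ Fin m) (Fin m ⊕ Fin m) F).mulVec x ∈ P := fun x hx => by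
    have h := CfsgLib.KnownC.AutPSp.perp_map u W
    rw [hWmap] at h
    exact h.le ⟨x, hx, Matrix.toLin'_apply _ x⟩
  have hP1 := CfsgLib.KnownC.RegNilp.invariant_eq hR P (hinv P hP)
  have hdP : Module.finrank F P = 2 * m - Module.finrank F W := CfsgLib.KnownC.AutPSp.finrank_perp_sp W
  have hle : W ≤ P := by
    intro x hx
    rw [hP1, LinearMap.mem_ker, hdP,
      show 2 * m - Module.finrank F W = (2 * m - Module.finrank F W - Module.finrank F W) + Module.finrank F W by omega,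
      pow_add]
    rw [hW1, LinearMap.mem_ker] at hx
    show (Matrix.toLinAlgEquiv' N ^ _) ((Matrix.toLinAlgEquiv' N ^ _) x) = 0
    rw [hx, map_zero]
  intro v hv w hw
  rw [← CfsgLib.Classical.sympBil_apply]
  exact CfsgLib.Classical.mem_perp.1 (hle hw) v hv
end Cfsg.Agent.S2574
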