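import Cfsg.Statements.S2575

set_option autoImplicit false
open Cfsg

namespace Cfsg.Agent.S2575

/-- Which diagonal involutions of PGL_n(q) lie in PSL_n(q), q odd: for the diagonal matrix t with i entries −1 and n − i entries 1, some non-zero scalar multiple of t has determinant one if and only if i is even or the 2-part of q − 1 exceeds the 2-part of n (that is, −1 is an n-th power in the field exactly in the latter case). -/
theorem result {F : Type*} [Field F] [Fintype F] {q : ℕ} (hF : Fintype.card F = q) (hq : Odd q) {n : ℕ} (hn : 1 ≤ n) (i : ℕ) (hi : i ≤ n) : (∃ c : F, c ≠ 0 ∧ (c • Matrix.diagonal (fun j : Fin n => if (j : ℕ) < i then (-1 : F) else 1)).det = 1) ↔ (Even i ∨ padicValNat 2 n < padicValNat 2 (q - 1)) := by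
  classical
  have hdet : ∀ c : F, (c • Matrix.diagonal (fun j : Fin n => if (j : ℕ) < i then (-1 : F) else 1)).det =
      c ^ n * (-1) ^ i := by
    intro c
    rw [Matrix.det_smul, Fintype.card_fin, Matrix.det_diagonal, Finset.prod_ite, Finset.prod_const_one,
      mul_one, Finset.prod_const]
    congr 2
    rw [Fin.card_filter_val_lt]
    omega
  simp only [hdet]
  have hq1 : q - 1 ≠ 0 := by have := Fintype.one_lt_card (α := F); omega
  have hcard : Nat.card Fˣ = q - 1 := by rw [Nat.card_units, Nat.card_eq_fintype_card, hF]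
  have h2 : (2 : F) ≠ 0 := Ring.two_ne_zero (by
    rw [Ne, FiniteField.even_card_iff_char_two, hF]
    have := Nat.odd_iff.1 hq
    omega)
  have hneg : (-1 : F) ≠ 1 := by
    intro h; exact h2 (by linear_combination -h)
  set w := padicValNat 2 (q - 1)
  set v := padicValNat 2 n
  haveI : Fact (Nat.Prime 2) := ⟨Nat.prime_two⟩
  obtain ⟨o, hno⟩ : 2 ^ v ∣ n := pow_padicValNat_dvd
  have ho : Odd o := by
    rw [Nat.odd_iff]
    by_contra h
    have h' : 2 ^ (v + 1) ∣ n := by
      rw [hno, pow_succ]; exact mul_dvd_mul_left _ (by omega)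
    exact pow_succ_padicValNat_not_dvd (p := 2) (by omega : n ≠ 0) h'
  constructor
  · rintro ⟨c, hc0, hc⟩
    rcases Nat.even_or_odd i with hi2 | hi2
    · exact Or.inl hi2
    · right
      rw [hi2.neg_one_pow, mul_neg_one, neg_eq_iff_eq_neg] at hc
      rw [hno, mul_comm, pow_mul] at hc
      have hord : orderOf (c ^ o) = 2 ^ (v + 1) :=
        orderOf_eq_prime_pow (by rw [hc]; exact hneg) (by rw [pow_succ, pow_mul, hc]; ring)
      have hdvd : orderOf (c ^ o) ∣ q - 1 := by
        apply orderOf_dvd_of_pow_eq_one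
        rw [← hF]
        exact FiniteField.pow_card_sub_one_eq_one _ (pow_ne_zero _ hc0)
      rw [hord] at hdvd
      exact Nat.succ_le_iff.1 ((padicValNat_dvd_iff_le hq1).1 hdvd)
  · rintro (hi2 | hlt)
    · exact ⟨1, one_ne_zero, by simp [hi2.neg_one_pow]⟩
    · rcases Nat.even_or_odd i with hi2 | hi2
      · exact ⟨1, one_ne_zero, by simp [hi2.neg_one_pow]⟩
      obtain ⟨ζ, hζ⟩ := IsCyclic.exists_ofOrder_eq_natCard (α := Fˣ)
      have hdvd : 2 ^ (v + 1) ∣ orderOf ζ := by
        rw [hζ, hcard]; exact (padicValNat_dvd_iff_le hq1).2 hlt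
      set x := ζ ^ (orderOf ζ / 2 ^ (v + 1))
      have hx : orderOf (x : F) = 2 ^ (v + 1) := by
        rw [orderOf_units, orderOf_pow_orderOf_div (orderOf_pos ζ).ne' hdvd]
      have hxv : (x : F) ^ (2 ^ v) = -1 := by
        have h1 : ((x : F) ^ (2 ^ v)) ^ 2 = 1 := by
          rw [← pow_mul, ← pow_succ, ← hx, pow_orderOf_eq_one]
        have h2' : (x : F) ^ (2 ^ v) ≠ 1 :=
          pow_ne_one_of_lt_orderOf (by positivity) (by rw [hx, pow_succ]; have := Nat.two_pow_pos v; omega)
        exact (sq_eq_one_iff.1 h1).resolve_left h2'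
      refine ⟨x, Units.ne_zero x, ?_⟩
      rw [hno, pow_mul, hxv, ho.neg_one_pow, hi2.neg_one_pow]
      ring

end Cfsg.Agent.S2575
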