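import Cfsg.Statements.S2576

set_option autoImplicit false
open Cfsg

namespace Cfsg.Agent.S2576

/-- Which involutions of PGL_2m(q) coming from a scalar of the quadratic extension field lie in PSL_2m(q), q odd: let μ generate the Sylow 2-subgroup of the multiplicative group of the field with q elements (μ has order the 2-part of q − 1) and let t be the block-diagonal matrix with m diagonal blocks [[0, 1], [μ, 0]] (so t² is the scalar μ and t is an involution modulo scalars). Then some non-zero scalar multiple of t has determinant one if and only if q ≡ 3 (mod 4) or the 2-part of q − 1 is less than the 2-part of 2m. -/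
theorem result {F : Type*} [Field F] [Fintype F] {q : ℕ} (hF : Fintype.card F = q) (hq : Odd q) {m : ℕ} (hm : 1 ≤ m) (μ : F) (hμ : orderOf μ = 2 ^ padicValNat 2 (q - 1)) : (∃ c : F, c ≠ 0 ∧ (c • Matrix.blockDiagonal (fun _ : Fin m => !![(0 : F), 1; μ, 0])).det = 1) ↔ (q % 4 = 3 ∨ padicValNat 2 (q - 1) < padicValNat 2 (2 * m)) := by
  classical
  haveI : Fact (Nat.Prime 2) := ⟨Nat.prime_two⟩
  have hdet : ∀ c : F, (c • Matrix.blockDiagonal (fun _ : Fin m => !![(0 : F), 1; μ, 0])).det =
      (c ^ 2 * -μ) ^ m := by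
    intro c
    simp [Matrix.det_smul, Matrix.det_blockDiagonal, Matrix.det_fin_two, mul_comm 2 m, pow_mul, mul_pow]
    ring
  simp only [hdet]
  have hq1 : q - 1 ≠ 0 := by have := Fintype.one_lt_card (α := F); omega
  have h2 : (2 : F) ≠ 0 := Ring.two_ne_zero (by
    rw [Ne, FiniteField.even_card_iff_char_two, hF]
    have := Nat.odd_iff.1 hq
    omega)
  set w := padicValNat 2 (q - 1) with hw
  have h2m : padicValNat 2 (2 * m) = padicValNat 2 m + 1 := by
    rw [padicValNat.mul (by norm_num) (by omega), padicValNat.self (by norm_num), add_comm]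
  rw [h2m]
  set v := padicValNat 2 m with hv
  have hw1 : 1 ≤ w := one_le_padicValNat_of_dvd hq1 (by have := Nat.odd_iff.1 hq; omega)
  have hiff : q % 4 = 3 ↔ w = 1 := by
    constructor
    · intro h
      by_contra hne
      have : 2 ^ 2 ∣ q - 1 := (padicValNat_dvd_iff_le hq1).2 (by omega)
      omega
    · intro h
      have : ¬ 2 ^ 2 ∣ q - 1 := fun hd => by
        have := (padicValNat_dvd_iff_le hq1).1 hd; omega
      have := Nat.odd_iff.1 hq
      omega
  constructor
  · rintro ⟨c, hc0, hc⟩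
    by_contra hne
    push Not at hne
    rw [Ne, hiff] at hne
    obtain ⟨hw2, hlt⟩ := hne
    obtain ⟨o, hno⟩ : 2 ^ w ∣ q - 1 := pow_padicValNat_dvd
    have ho : ¬ 2 ∣ o := by
      intro hd
      exact pow_succ_padicValNat_not_dvd (p := 2) hq1 (by
        rw [← hw, hno, pow_succ]; exact mul_dvd_mul_left _ hd)
    set y := c ^ 2 * -μ with hy
    have hμ0 : μ ≠ 0 := by
      rintro rfl
      rw [orderOf_zero] at hμ
      exact absurd hμ (by positivity)
    have hone : y ^ (q - 1) = 1 := by
      rw [← hF]; exact FiniteField.pow_card_sub_one_eq_one _ (mul_ne_zero (pow_ne_zero _ hc0) (neg_ne_zero.2 hμ0))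
    have hhalf : q - 1 = 2 * (2 ^ (w - 1) * o) := by
      rw [hno, ← mul_assoc, ← pow_succ', Nat.sub_add_cancel hw1]
    have hev : Even (2 ^ (w - 1) * o) := (Nat.even_pow.2 ⟨even_two, by omega⟩).mul_right o
    have hne1 : y ^ (2 ^ (w - 1) * o) ≠ 1 := by
      intro h
      rw [hy, mul_pow, ← pow_mul, ← hhalf, hev.neg_pow, ← hF,
        FiniteField.pow_card_sub_one_eq_one c hc0, one_mul] at h
      have := orderOf_dvd_of_pow_eq_one h
      rw [hμ] at this
      have h3 : 2 ^ (w - 1) * 2 ∣ 2 ^ (w - 1) * o := by rwa [← pow_succ, Nat.sub_add_cancel hw1]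
      exact ho (Nat.dvd_of_mul_dvd_mul_left (by positivity) h3)
    have hd1 : orderOf y ∣ m := orderOf_dvd_of_pow_eq_one hc
    have hd2 : orderOf y ∣ q - 1 := orderOf_dvd_of_pow_eq_one hone
    have hd3 : ¬ orderOf y ∣ 2 ^ (w - 1) * o := fun h => hne1 (orderOf_dvd_iff_pow_eq_one.1 h)
    have hd4 : 2 ^ w ∣ orderOf y := by
      by_contra hc4
      apply hd3
      rw [hno] at hd2
      obtain ⟨a, b, ha, hb, hab⟩ := Nat.dvd_mul.1 hd2
      obtain ⟨k, hk, rfl⟩ := (Nat.dvd_prime_pow Nat.prime_two).1 ha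
      rw [← hab]
      refine mul_dvd_mul (pow_dvd_pow 2 ?_) hb
      by_contra hk2
      exact hc4 (hab ▸ (pow_dvd_pow 2 (by omega)).mul_right b)
    have := (padicValNat_dvd_iff_le (p := 2) (by omega : m ≠ 0)).1 (hd4.trans hd1)
    omega
  · rintro (h3 | hle)
    · have hw' := hiff.1 h3
      rw [hw', pow_one] at hμ
      have hμ' : μ = -1 := by
        have h1 : μ ^ 2 = 1 := by rw [← hμ]; exact pow_orderOf_eq_one μ
        exact (sq_eq_one_iff.1 h1).resolve_left (fun h => by simp [h] at hμ)
      exact ⟨1, one_ne_zero, by simp [hμ']⟩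
    · refine ⟨1, one_ne_zero, ?_⟩
      have hdvd : 2 ^ w ∣ m := (padicValNat_dvd_iff_le (by omega)).2 (by omega)
      have hev : Even m := by
        rw [even_iff_two_dvd]; exact (dvd_pow_self 2 (by omega)).trans hdvd
      rw [one_pow, one_mul, hev.neg_pow]
      exact orderOf_dvd_iff_pow_eq_one.1 (hμ ▸ hdvd)

end Cfsg.Agent.S2576
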