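import Cfsg.Statements.S2578
import Cfsg.Agent.Lib.KnownC.RegNilp
import Cfsg.Agent.Lib.KnownC.AutPSL.Outer


set_option autoImplicit false
open Cfsg

namespace Cfsg.Agent.S2578

/-- Regular unipotent classes of SL_n(q): for n ≥ 2 over the field with q elements, the matrices u of determinant one with (u − 1)^n = 0 and rank(u − 1) = n − 1 form a single GL_n(q)-class which splits into exactly gcd(n, q − 1) conjugacy classes of SL_n(q). -/
theorem result {F : Type*} [Field F] [Fintype F] {q : ℕ} (hF : Fintype.card F = q) {n : ℕ} (hn : 2 ≤ n) : Nat.card {C : ConjClasses (Matrix.SpecialLinearGroup (Fin n) F) // ∃ u : Matrix.SpecialLinearGroup (Fin n) F, ConjClasses.mk u = C ∧ ((u : Matrix (Fin n) (Fin n) F) - 1) ^ n = 0 ∧ ((u : Matrix (Fin n) (Fin n) F) - 1).rank = n - 1} = Nat.gcd n (q - 1) := by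
  classical
  subst hF
  have hR : ∀ u : Matrix (Fin n) (Fin n) F, (u - 1) ^ n = 0 → (u - 1).rank = n - 1 →
      CfsgLib.KnownC.RegNilp.Reg (Matrix.toLinAlgEquiv' (u - 1)) := fun u h1 h2 =>
    CfsgLib.KnownC.RegNilp.reg_of_matrix _ (by rwa [Fintype.card_fin]) (by rwa [Fintype.card_fin])
  let J : Matrix (Fin n) (Fin n) F := Matrix.of fun i j => if (i : ℕ) = (j : ℕ) + 1 then 1 else 0
  have hJapp : ∀ (w : Fin n → F) (i : Fin n) (h : 1 ≤ (i : ℕ)), J.mulVec w i = w ⟨i - 1, by omega⟩ := fun w i h => by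
    simp only [Matrix.mulVec, dotProduct, J, Matrix.of_apply]
    rw [Finset.sum_eq_single (⟨(i : ℕ) - 1, by omega⟩ : Fin n)]
    · rw [if_pos (by simp only; omega), one_mul]
    · intro b _ hb
      rw [if_neg, zero_mul]
      exact fun e => hb (Fin.ext (by simp only; omega))
    · simp
  have hlow : ∀ k (w : Fin n → F) (i : Fin n), (i : ℕ) < k → ((J ^ k).mulVec w) i = 0 := by
    intro k
    induction k with
    | zero => intro w i h; omega
    | succ k ih =>
      intro w i h
      rw [pow_succ', ← Matrix.mulVec_mulVec]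
      by_cases h1 : 1 ≤ (i : ℕ)
      · rw [hJapp _ i h1]
        exact ih w _ (by simp only; omega)
      · simp only [Matrix.mulVec, dotProduct, J, Matrix.of_apply]
        exact Finset.sum_eq_zero fun b _ => by rw [if_neg (by omega), zero_mul]
  have hJn : J ^ n = 0 := Matrix.ext_of_mulVec_single fun j => funext fun i => by
    rw [hlow n _ i i.2, Matrix.zero_mulVec]; rfl
  have hJr : J.rank = n - 1 := by
    have h := LinearMap.finrank_range_add_finrank_ker (Matrix.mulVecLin J)
    rw [Module.finrank_fin_fun] at h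
    let e : Fin n → F := Pi.single ⟨n - 1, by omega⟩ 1
    have hk : LinearMap.ker (Matrix.mulVecLin J) = F ∙ e := by
      ext w
      rw [LinearMap.mem_ker, Submodule.mem_span_singleton]
      constructor
      · intro hw
        refine ⟨w ⟨n - 1, by omega⟩, funext fun i => ?_⟩
        rcases eq_or_ne i ⟨n - 1, by omega⟩ with rfl | hi
        · simp [e]
        · have hi' : (i : ℕ) + 1 < n := by
            have : (i : ℕ) ≠ n - 1 := fun h => hi (Fin.ext h)
            omega
          have := congrFun hw ⟨(i : ℕ) + 1, hi'⟩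
          rw [Matrix.mulVecLin_apply, hJapp _ _ (by simp)] at this
          simp only [Pi.zero_apply, Nat.add_sub_cancel, Fin.eta] at this
          simp [e, hi, this]
      · rintro ⟨c, rfl⟩
        rw [map_smul, Matrix.mulVecLin_apply, Matrix.mulVec_single_one]
        funext i
        have : (i : ℕ) ≠ n - 1 + 1 := by omega
        simp [J, Matrix.col, this]
    have h1 : Module.finrank F (LinearMap.ker (Matrix.mulVecLin J)) = 1 := by
      rw [hk, finrank_span_singleton (by simp [e])]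
    have h2 : J.rank = Module.finrank F (LinearMap.range (Matrix.mulVecLin J)) := rfl
    omega
  have hu0 : (1 + J).det = 1 := by
    rw [Matrix.det_of_lowerTriangular]
    · refine Finset.prod_eq_one fun i _ => ?_
      simp [J]
    · intro i j hij
      have hij' : (i : ℕ) < (j : ℕ) := hij
      simp [J, Matrix.one_apply, ne_of_lt (show i < j from hij)]
      omega
  let u0 : Matrix.SpecialLinearGroup (Fin n) F := ⟨1 + J, hu0⟩
  have hu0J : (u0 : Matrix (Fin n) (Fin n) F) - 1 = J := by show 1 + J - 1 = J; abel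
  let P := (powMonoidHom n : Fˣ →* Fˣ).range
  let Cl := {C : ConjClasses (Matrix.SpecialLinearGroup (Fin n) F) // ∃ u : Matrix.SpecialLinearGroup (Fin n) F,
    ConjClasses.mk u = C ∧ ((u : Matrix (Fin n) (Fin n) F) - 1) ^ n = 0 ∧ ((u : Matrix (Fin n) (Fin n) F) - 1).rank = n - 1}
  let u0' : GL (Fin n) F := Matrix.SpecialLinearGroup.toGL u0
  let cj : GL (Fin n) F → Matrix.SpecialLinearGroup (Fin n) F := fun g =>
    ⟨(g : Matrix (Fin n) (Fin n) F) * (1 + J) * ((g⁻¹ : GL (Fin n) F) : Matrix (Fin n) (Fin n) F), by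
      rw [Matrix.det_mul, Matrix.det_mul, hu0, mul_one, ← Matrix.det_mul, ← Units.val_mul, mul_inv_cancel, Units.val_one,
        Matrix.det_one]⟩
  have hcjN : ∀ g, ((cj g : Matrix (Fin n) (Fin n) F) - 1) =
      (g : Matrix (Fin n) (Fin n) F) * J * ((g⁻¹ : GL (Fin n) F) : Matrix (Fin n) (Fin n) F) := fun g => by
    show (g : Matrix (Fin n) (Fin n) F) * (1 + J) * _ - 1 = _
    rw [Matrix.mul_add, Matrix.add_mul, Matrix.mul_one, ← Units.val_mul, mul_inv_cancel, Units.val_one, add_sub_cancel_left]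
  have hcjP : ∀ g, ((cj g : Matrix (Fin n) (Fin n) F) - 1) ^ n = 0 ∧
      ((cj g : Matrix (Fin n) (Fin n) F) - 1).rank = n - 1 := fun g => by
    rw [hcjN]
    refine ⟨by rw [Units.conj_pow, hJn, Matrix.mul_zero, Matrix.zero_mul], ?_⟩
    rw [Matrix.rank_mul_eq_left_of_isUnit_det _ _ ((Matrix.isUnit_iff_isUnit_det _).1 (g⁻¹).isUnit),
      Matrix.rank_mul_eq_right_of_isUnit_det _ _ ((Matrix.isUnit_iff_isUnit_det _).1 g.isUnit), hJr]
  let f : GL (Fin n) F → Cl := fun g => ⟨ConjClasses.mk (cj g), cj g, rfl, hcjP g⟩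
  let d : GL (Fin n) F →* Fˣ ⧸ P := (QuotientGroup.mk' P).comp Matrix.GeneralLinearGroup.det
  have hf : Function.Surjective f := by
    rintro ⟨_, u, rfl, h1, h2⟩
    obtain ⟨e, he⟩ := CfsgLib.KnownC.RegNilp.exists_equiv (hR (u0 : Matrix (Fin n) (Fin n) F) (by rw [hu0J, hJn])
      (by rw [hu0J, hJr])) (hR (u : Matrix (Fin n) (Fin n) F) h1 h2) rfl
    let g : GL (Fin n) F := Matrix.GeneralLinearGroup.toLin.symm (LinearMap.GeneralLinearGroup.ofLinearEquiv e)
    refine ⟨g, Subtype.ext (congrArg ConjClasses.mk ?_)⟩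
    have hg : ∀ x, (g : Matrix (Fin n) (Fin n) F).mulVec x = e x := fun x => by
      show Matrix.toLinAlgEquiv' (Matrix.toLinAlgEquiv'.symm (e : (Fin n → F) →ₗ[F] _)) x = e x
      rw [AlgEquiv.apply_symm_apply]; rfl
    have key : (g : Matrix (Fin n) (Fin n) F) * (1 + J) = (u : Matrix (Fin n) (Fin n) F) * (g : Matrix (Fin n) (Fin n) F) := by
      refine Matrix.ext_of_mulVec_single fun j => ?_
      have h := he (Pi.single j 1)
      simp only [Matrix.toLinAlgEquiv'_apply, hu0J, Matrix.sub_mulVec, Matrix.one_mulVec] at h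
      rw [← Matrix.mulVec_mulVec, ← Matrix.mulVec_mulVec, Matrix.add_mulVec, Matrix.one_mulVec, hg, hg, map_add, h]
      abel
    refine Subtype.ext ?_
    show (g : Matrix (Fin n) (Fin n) F) * (1 + J) * _ = _
    rw [key, Matrix.mul_assoc, ← Units.val_mul, mul_inv_cancel, Units.val_one, Matrix.mul_one]
  have hfd : ∀ g g', f g = f g' ↔ d g = d g' := by
    intro g g'
    constructor
    · intro h
      obtain ⟨s, hs⟩ := isConj_iff.1 (ConjClasses.mk_eq_mk_iff_isConj.1 (congrArg Subtype.val h))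
      set S : GL (Fin n) F := Matrix.SpecialLinearGroup.toGL s
      have hc : g'⁻¹ * (S * g) * u0' = u0' * (g'⁻¹ * (S * g)) := by
        have h1 : S * (g * u0' * g⁻¹) * S⁻¹ = g' * u0' * g'⁻¹ := Units.ext (congrArg Subtype.val hs)
        calc _ = g'⁻¹ * (S * (g * u0' * g⁻¹) * S⁻¹) * (S * g) := by group
          _ = _ := by rw [h1]; group
      obtain ⟨a, ha⟩ := CfsgLib.KnownC.RegNilp.commutant_scalar_add_nilpotent (hR (u0 : Matrix (Fin n) (Fin n) F)
        (by rw [hu0J, hJn]) (by rw [hu0J, hJr]))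
        ((CfsgLib.KnownC.RegNilp.commute_iff _ ((g'⁻¹ * (S * g) : GL (Fin n) F) : Matrix (Fin n) (Fin n) F)).2
          (congrArg Units.val hc))
      set M := ((g'⁻¹ * (S * g) : GL (Fin n) F) : Matrix (Fin n) (Fin n) F)
      have hdet : M.det = a ^ n := by
        have h2 := IsNilpotent.charpoly_eq_X_pow_finrank ha.neg
        have h3 : Matrix.toLinAlgEquiv' (a • 1 - M) = -(Matrix.toLinAlgEquiv' M - a • (1 : (Fin n → F) →ₗ[F] _)) := by
          rw [map_sub, map_smul, map_one, neg_sub]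
        rw [← h3, show Matrix.toLinAlgEquiv' (a • 1 - M) = Matrix.toLin' (a • 1 - M) from rfl, Matrix.charpoly_toLin', Module.finrank_fin_fun] at h2
        have h4 := Matrix.eval_charpoly (a • 1 - M) a
        rw [h2, Polynomial.eval_pow, Polynomial.eval_X, Matrix.scalar_apply, ← Matrix.smul_one_eq_diagonal, sub_sub_cancel] at h4
        exact h4.symm
      show (QuotientGroup.mk _ : Fˣ ⧸ P) = QuotientGroup.mk _
      rw [eq_comm, QuotientGroup.eq]
      have ha0 : a ≠ 0 := fun h0 => (Matrix.GeneralLinearGroup.det (g'⁻¹ * (S * g))).ne_zero (by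
        show M.det = 0
        rw [hdet, h0, zero_pow (by omega)])
      refine ⟨Units.mk0 a ha0, ?_⟩
      have h5 : Matrix.GeneralLinearGroup.det (g'⁻¹ * (S * g)) = Units.mk0 a ha0 ^ n := Units.ext (by
        rw [Units.val_pow_eq_pow_val]; exact hdet)
      have hS : Matrix.GeneralLinearGroup.det S = 1 := Units.ext s.2
      rw [map_mul, map_mul, map_inv, hS, one_mul] at h5
      exact h5.symm
    · intro h
      obtain ⟨c, hc⟩ := QuotientGroup.eq.1 h
      change c ^ n = _ at hc
      have hdetS : (((g' : Matrix (Fin n) (Fin n) F)) * ((c⁻¹ : Fˣ) : F) • ((g⁻¹ : GL (Fin n) F) : Matrix (Fin n) (Fin n) F)).det = 1 := by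
        rw [Matrix.det_mul, Matrix.det_smul, Fintype.card_fin, ← Units.val_pow_eq_pow_val, inv_pow, hc, _root_.mul_inv_rev,
          inv_inv, Units.val_mul, ← mul_assoc, ← mul_assoc]
        show Matrix.det (g' : Matrix (Fin n) (Fin n) F) * ((Matrix.GeneralLinearGroup.det g')⁻¹ : Fˣ) *
          (Matrix.GeneralLinearGroup.det g : F) * (Matrix.GeneralLinearGroup.det g⁻¹ : F) = 1
        rw [mul_assoc, ← Units.val_mul (Matrix.GeneralLinearGroup.det g), ← map_mul, mul_inv_cancel, map_one, Units.val_one, mul_one]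
        exact Units.mul_inv (Matrix.GeneralLinearGroup.det g')
      refine Subtype.ext (ConjClasses.mk_eq_mk_iff_isConj.2 (isConj_iff.2 ⟨⟨_, hdetS⟩, ?_⟩))
      refine (mul_inv_eq_iff_eq_mul (G := Matrix.SpecialLinearGroup (Fin n) F)).2 (Subtype.ext ?_)
      show ((g' : Matrix (Fin n) (Fin n) F) * _) * ((g : Matrix (Fin n) (Fin n) F) * (1 + J) * _) =
        ((g' : Matrix (Fin n) (Fin n) F) * (1 + J) * _) * ((g' : Matrix (Fin n) (Fin n) F) * _)
      simp only [Matrix.mul_smul, Matrix.smul_mul, Matrix.mul_assoc]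
      rw [← Matrix.mul_assoc ((g⁻¹ : GL (Fin n) F) : Matrix (Fin n) (Fin n) F) (g : Matrix (Fin n) (Fin n) F), ← Units.val_mul,
        inv_mul_cancel, ← Matrix.mul_assoc ((g'⁻¹ : GL (Fin n) F) : Matrix (Fin n) (Fin n) F) (g' : Matrix (Fin n) (Fin n) F),
        ← Units.val_mul, inv_mul_cancel, Units.val_one, Matrix.one_mul, Matrix.one_mul]
  have hd : Function.Surjective d := by
    intro q
    induction q using QuotientGroup.induction_on with
    | _ c =>
      exact ⟨CfsgLib.KnownC.AutPSL.dg (by omega : 1 ≤ n) c, congrArg _ (CfsgLib.KnownC.AutPSL.det_dg _ c)⟩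
  let Λ : Cl → Fˣ ⧸ P := fun C => d (Function.surjInv hf C)
  have hΛ : Function.Bijective Λ := by
    refine ⟨fun C C' h => ?_, fun q => ?_⟩
    · rw [← Function.surjInv_eq hf C, ← Function.surjInv_eq hf C']; exact (hfd _ _).2 h
    · obtain ⟨g, rfl⟩ := hd q
      exact ⟨f g, (hfd _ _).1 (Function.surjInv_eq hf (f g))⟩
  show Nat.card Cl = _
  rw [Nat.card_congr (Equiv.ofBijective Λ hΛ), ← Subgroup.index_eq_card, IsCyclic.index_powMonoidHom_range,
    Nat.card_units, Nat.card_eq_fintype_card, Nat.gcd_comm]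
end Cfsg.Agent.S2578
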