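import Cfsg.Statements.S2579
import Cfsg.Agent.Lib.KnownC.TransvClass


set_option autoImplicit false
open Cfsg

namespace Cfsg.Agent.S2579

/-- In SL_n(F) with n ≥ 3, over a finite field F, any two transvections (matrices t with t − 1 of rank one and square zero) are conjugate by an element of SL_n(F). -/
theorem result {F : Type*} [Field F] [Finite F] {n : ℕ} (hn : 3 ≤ n) (s t : Matrix.SpecialLinearGroup (Fin n) F) (hs : Cfsg.IsTransvection (s : Matrix (Fin n) (Fin n) F)) (ht : Cfsg.IsTransvection (t : Matrix (Fin n) (Fin n) F)) : IsConj s t := by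
  classical
  obtain ⟨k, rfl⟩ : ∃ k, n = k + 2 := ⟨n - 2, by omega⟩
  obtain ⟨g, hg⟩ := CfsgLib.KnownC.TransvClass.conj_std hs s.2
  obtain ⟨g', hg'⟩ := CfsgLib.KnownC.TransvClass.conj_std ht t.2
  let l : Fin (k + 2) := ⟨2, by omega⟩
  set c : Fˣ := Matrix.GeneralLinearGroup.det g * (Matrix.GeneralLinearGroup.det g')⁻¹
  let D : GL (Fin (k + 2)) F := Matrix.GeneralLinearGroup.mkOfDetNeZero
    (Matrix.diagonal (Function.update (1 : Fin (k + 2) → F) l (c : F))) (by
      rw [Matrix.det_diagonal, Finset.prod_update_of_mem (Finset.mem_univ _)]; simp)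
  have hdD : Matrix.GeneralLinearGroup.det D = c := Units.ext (by
    show (Matrix.diagonal (Function.update (1 : Fin (k + 2) → F) l (c : F))).det = c
    rw [Matrix.det_diagonal, Finset.prod_update_of_mem (Finset.mem_univ _)]; simp)
  have hcomm : (D : Matrix (Fin (k + 2)) (Fin (k + 2)) F) * CfsgLib.KnownC.TransvClass.std k =
      CfsgLib.KnownC.TransvClass.std k * (D : Matrix (Fin (k + 2)) (Fin (k + 2)) F) := by
    have h1 : Function.update (1 : Fin (k + 2) → F) l (c : F) 1 = 1 := by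
      rw [Function.update_of_ne (by simp [l, Fin.ext_iff])]; rfl
    have h0 : Function.update (1 : Fin (k + 2) → F) l (c : F) 0 = 1 := by
      rw [Function.update_of_ne (by simp [l, Fin.ext_iff])]; rfl
    show Matrix.diagonal _ * _ = _ * Matrix.diagonal _
    rw [CfsgLib.KnownC.TransvClass.std, Matrix.mul_add, Matrix.add_mul, Matrix.mul_one, Matrix.one_mul, add_right_inj,
      Matrix.mul_vecMulVec, Matrix.vecMulVec_mul]
    congr 1
    · funext i
      rw [Matrix.mulVec_diagonal]
      rcases eq_or_ne i 1 with rfl | h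
      · rw [h1, one_mul]
      · simp [h]
    · funext i
      rw [Matrix.vecMul_diagonal]
      rcases eq_or_ne i 0 with rfl | h
      · rw [h0, mul_one]
      · simp [h]
  let G : GL (Fin (k + 2)) F := g' * D * g⁻¹
  have hG : (G : Matrix (Fin (k + 2)) (Fin (k + 2)) F).det = 1 := by
    have h : Matrix.GeneralLinearGroup.det G = 1 := by
      rw [map_mul, map_mul, map_inv, hdD, mul_inv_eq_one]
      simp only [c]
      rw [mul_left_comm, mul_inv_cancel, mul_one]
    exact congrArg Units.val h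
  refine isConj_iff.2 ⟨⟨(G : Matrix (Fin (k + 2)) (Fin (k + 2)) F), hG⟩, ?_⟩
  refine (mul_inv_eq_iff_eq_mul (G := Matrix.SpecialLinearGroup (Fin (k + 2)) F)).2 (Subtype.ext ?_)
  show (G : Matrix (Fin (k + 2)) (Fin (k + 2)) F) * (s : Matrix (Fin (k + 2)) (Fin (k + 2)) F) =
    (t : Matrix (Fin (k + 2)) (Fin (k + 2)) F) * (G : Matrix (Fin (k + 2)) (Fin (k + 2)) F)
  rw [hg, hg']
  simp only [G, Units.val_mul, Matrix.mul_assoc]
  rw [← Matrix.mul_assoc ((g⁻¹ : GL (Fin (k + 2)) F) : Matrix (Fin (k + 2)) (Fin (k + 2)) F) (g : Matrix (Fin (k + 2)) (Fin (k + 2)) F), ← Units.val_mul,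
    inv_mul_cancel, Units.val_one, Matrix.one_mul,
    ← Matrix.mul_assoc ((g'⁻¹ : GL (Fin (k + 2)) F) : Matrix (Fin (k + 2)) (Fin (k + 2)) F) (g' : Matrix (Fin (k + 2)) (Fin (k + 2)) F), ← Units.val_mul,
    inv_mul_cancel, Units.val_one, Matrix.one_mul,
    ← Matrix.mul_assoc (D : Matrix (Fin (k + 2)) (Fin (k + 2)) F), hcomm, Matrix.mul_assoc]
end Cfsg.Agent.S2579
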