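import Cfsg.Statements.S2580
import Mathlib


set_option autoImplicit false
open Cfsg

namespace Cfsg.Agent.S2580

open Polynomial in
/-- A functional on a cyclic torsion module not vanishing on any nonzero submodule. -/
theorem exists_functional {F : Type*} [Field F] {g : F[X]} (hg : g ≠ 0) :
    ∃ L : (F[X] ⧸ (F[X] ∙ g)) →ₗ[F] F, ∀ a, (∀ b : F[X], L (b • a) = 0) → a = 0 := by
  set g' := g * C g.leadingCoeff⁻¹ with hg'
  have hm : g'.Monic := monic_mul_leadingCoeff_inv hg
  have hI : (F[X] ∙ g) = (F[X] ∙ g') := by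
    refine (Submodule.span_singleton_eq_span_singleton.2 ?_)
    refine ⟨(isUnit_C.2 (isUnit_iff_ne_zero.2 (inv_ne_zero (leadingCoeff_ne_zero.2 hg)))).unit, ?_⟩
    rw [Units.smul_def, IsUnit.unit_spec, smul_eq_mul, mul_comm, hg']
  let M : F[X] →ₗ[F] F := (lcoeff F (g'.natDegree - 1)).comp (modByMonicHom g')
  have hker : (F[X] ∙ g).restrictScalars F ≤ LinearMap.ker M := by
    intro x hx
    rw [Submodule.restrictScalars_mem, hI, Submodule.mem_span_singleton] at hx
    obtain ⟨c, rfl⟩ := hx
    show (((c • g') %ₘ g')).coeff _ = 0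
    rw [(modByMonic_eq_zero_iff_dvd hm).2 ⟨c, by rw [smul_eq_mul, mul_comm]⟩, coeff_zero]
  refine ⟨(Submodule.liftQ ((F[X] ∙ g).restrictScalars F) M hker).comp
    (Submodule.Quotient.restrictScalarsEquiv F (F[X] ∙ g)).symm.toLinearMap, fun a ha => ?_⟩
  obtain ⟨r, rfl⟩ := Submodule.Quotient.mk_surjective _ a
  by_contra hne
  set s := r %ₘ g'
  have hs : s ≠ 0 := fun h0 => hne (by
    rw [Submodule.Quotient.mk_eq_zero, hI, Submodule.mem_span_singleton]
    obtain ⟨c, hc⟩ := (modByMonic_eq_zero_iff_dvd hm).1 h0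
    exact ⟨c, by rw [smul_eq_mul, mul_comm, hc]⟩)
  have hlt : s.natDegree < g'.natDegree := natDegree_modByMonic_lt r hm (fun h1 => hs (by simp [s, h1]))
  have h := ha (X ^ (g'.natDegree - 1 - s.natDegree))
  rw [← Submodule.Quotient.mk_smul] at h
  change M (X ^ (g'.natDegree - 1 - s.natDegree) * r) = 0 at h
  have e : (X ^ (g'.natDegree - 1 - s.natDegree) * r) %ₘ g' = X ^ (g'.natDegree - 1 - s.natDegree) * s := by
    refine (div_modByMonic_unique (X ^ (g'.natDegree - 1 - s.natDegree) * (r /ₘ g')) _ hm ⟨?_, ?_⟩).2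
    · conv_rhs => rw [← modByMonic_add_div r g']
      ring
    · rw [degree_eq_natDegree (mul_ne_zero (pow_ne_zero _ X_ne_zero) hs), degree_eq_natDegree hm.ne_zero, natDegree_mul (pow_ne_zero _ X_ne_zero) hs,
        natDegree_X_pow]
      exact_mod_cast (by omega : g'.natDegree - 1 - s.natDegree + s.natDegree < g'.natDegree)
  change ((X ^ (g'.natDegree - 1 - s.natDegree) * r) %ₘ g').coeff (g'.natDegree - 1) = 0 at h
  rw [e] at h
  rw [show g'.natDegree - 1 = s.natDegree + (g'.natDegree - 1 - s.natDegree) by omega, add_tsub_cancel_left,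
    coeff_X_pow_mul] at h
  exact leadingCoeff_ne_zero.2 hs h


/-- Over a finite field, a square matrix is similar to its transpose: for every n × n matrix A there is an invertible matrix P with P A P⁻¹ = Aᵀ (stated as conjugacy in the monoid of matrices, whose units are the invertible matrices). -/
theorem result {F : Type*} [Field F] [Finite F] {n : ℕ} (A : Matrix (Fin n) (Fin n) F) : IsConj A A.transpose := by
  classical
  open Polynomial in
  let f : Module.End F (Fin n → F) := Matrix.toLinAlgEquiv' A
  open Polynomial in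
  let V := Module.AEval' f
  obtain ⟨ι, _, p, hp, ex, ⟨e⟩⟩ := Module.equiv_directSum_of_isTorsion (R := Polynomial F) (M := Module.AEval' f)
    (Module.AEval.isTorsion_of_finiteDimensional F (Fin n → F) f)
  have hlam : ∀ i, ∃ L : (Polynomial F ⧸ (Polynomial F ∙ p i ^ ex i)) →ₗ[F] F,
      ∀ a, (∀ b : Polynomial F, L (b • a) = 0) → a = 0 := fun i => exists_functional (pow_ne_zero _ (hp i).ne_zero)
  choose L hL using hlam
  let I := fun i => Polynomial F ∙ p i ^ ex i
  let tv : (Fin n → F) ≃ₗ[F] Module.AEval' f := Module.AEval'.of f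
  let co : (Fin n → F) → ∀ i, Polynomial F ⧸ I i := fun v i => e (tv v) i
  have co_add : ∀ v w i, co (v + w) i = co v i + co w i := fun v w i => by
    simp only [co, map_add]; rfl
  have co_smul : ∀ (c : F) v i, co (c • v) i = Polynomial.C c • co v i := fun c v i => by
    simp only [co]
    rw [map_smul, show c • tv v = Polynomial.C c • tv v from (algebraMap_smul (Polynomial F) c (tv v)).symm, map_smul,
      DirectSum.smul_apply]
  have co_A : ∀ v i, co (Matrix.mulVec A v) i = Polynomial.X • co v i := fun v i => by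
    simp only [co]
    rw [show tv (Matrix.mulVec A v) = Polynomial.X • tv v from (Module.AEval'.X_smul_of f v).symm, map_smul,
      DirectSum.smul_apply]
  -- multiplication of components
  let mu : ∀ i, (Polynomial F ⧸ I i) → (Polynomial F ⧸ I i) → (Polynomial F ⧸ I i) :=
    fun i a b => (Quotient.out a) • b
  have mu_mk : ∀ i (r : Polynomial F) (b), mu i (Submodule.Quotient.mk r) b = r • b := fun i r b => by
    obtain ⟨s, rfl⟩ := Submodule.Quotient.mk_surjective (I i) b
    show Quotient.out (Submodule.Quotient.mk r : Polynomial F ⧸ I i) • (Submodule.Quotient.mk s : Polynomial F ⧸ I i) = _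
    have h0 : Submodule.Quotient.mk (Quotient.out (Submodule.Quotient.mk r : Polynomial F ⧸ I i)) =
        (Submodule.Quotient.mk r : Polynomial F ⧸ I i) := Quotient.out_eq _
    rw [Submodule.Quotient.eq] at h0
    rw [← Submodule.Quotient.mk_smul, ← Submodule.Quotient.mk_smul, Submodule.Quotient.eq, smul_eq_mul, smul_eq_mul,
      ← sub_mul, mul_comm]
    exact (I i).smul_mem s h0
  let Ψ : (Fin n → F) →ₗ[F] (Fin n → F) →ₗ[F] F := LinearMap.mk₂ F (fun v w => ∑ i, L i (mu i (co v i) (co w i)))
    (fun v v' w => by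
      rw [← Finset.sum_add_distrib]
      refine Finset.sum_congr rfl fun i _ => ?_
      obtain ⟨a, ha⟩ := Submodule.Quotient.mk_surjective (I i) (co v i)
      obtain ⟨a', ha'⟩ := Submodule.Quotient.mk_surjective (I i) (co v' i)
      rw [co_add, ← ha, ← ha', ← Submodule.Quotient.mk_add, mu_mk, mu_mk, mu_mk, add_smul, map_add])
    (fun c v w => by
      rw [smul_eq_mul, Finset.mul_sum]
      refine Finset.sum_congr rfl fun i _ => ?_
      obtain ⟨a, ha⟩ := Submodule.Quotient.mk_surjective (I i) (co v i)
      rw [co_smul, ← ha, ← Submodule.Quotient.mk_smul, mu_mk, mu_mk, smul_eq_mul, mul_smul,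
        show Polynomial.C c • a • co w i = c • a • co w i from algebraMap_smul (Polynomial F) c _, map_smul, smul_eq_mul])
    (fun v w w' => by
      rw [← Finset.sum_add_distrib]
      refine Finset.sum_congr rfl fun i _ => ?_
      obtain ⟨a, ha⟩ := Submodule.Quotient.mk_surjective (I i) (co v i)
      rw [co_add, ← ha, mu_mk, mu_mk, mu_mk, smul_add, map_add])
    (fun c v w => by
      rw [smul_eq_mul, Finset.mul_sum]
      refine Finset.sum_congr rfl fun i _ => ?_
      obtain ⟨a, ha⟩ := Submodule.Quotient.mk_surjective (I i) (co v i)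
      rw [co_smul, ← ha, mu_mk, mu_mk, smul_comm,
        show Polynomial.C c • a • co w i = c • a • co w i from algebraMap_smul (Polynomial F) c _, map_smul, smul_eq_mul])
  have hbal : ∀ v w, Ψ (Matrix.mulVec A v) w = Ψ v (Matrix.mulVec A w) := fun v w => by
    show ∑ i, _ = ∑ i, _
    refine Finset.sum_congr rfl fun i _ => ?_
    obtain ⟨a, ha⟩ := Submodule.Quotient.mk_surjective (I i) (co v i)
    rw [co_A, co_A, ← ha, ← Submodule.Quotient.mk_smul, mu_mk, mu_mk, smul_eq_mul, mul_smul, smul_comm]
  have hinj : ∀ v, (∀ w, Ψ v w = 0) → v = 0 := by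
    intro v hv
    have h0 : e (tv v) = 0 := by
      refine DFunLike.ext _ _ fun i => ?_
      rw [DirectSum.zero_apply]
      refine hL i _ fun b => ?_
      obtain ⟨a, ha⟩ := Submodule.Quotient.mk_surjective (I i) (co v i)
      let w : Fin n → F := tv.symm (e.symm (DirectSum.of (fun j => Polynomial F ⧸ I j) i (Submodule.Quotient.mk b)))
      have hw : ∀ j, co w j = DirectSum.of (fun j => Polynomial F ⧸ I j) i (Submodule.Quotient.mk b) j := fun j => by
        simp only [co, w, LinearEquiv.apply_symm_apply]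
      have h := hv w
      change ∑ j, L j (mu j (co v j) (co w j)) = 0 at h
      rw [Finset.sum_eq_single i] at h
      · rw [hw, DirectSum.of_eq_same, ← ha, mu_mk] at h
        show L i (b • co v i) = 0
        rw [← ha]
        rw [← Submodule.Quotient.mk_smul, smul_eq_mul, mul_comm, ← smul_eq_mul, Submodule.Quotient.mk_smul]
        exact h
      · intro j _ hji
        obtain ⟨a', ha'⟩ := Submodule.Quotient.mk_surjective (I j) (co v j)
        rw [hw, DirectSum.of_eq_of_ne _ _ _ hji, ← ha', mu_mk, smul_zero, map_zero]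
      · simp
    exact tv.injective (by rw [map_zero]; exact e.injective (h0.trans (map_zero e).symm))
  let P : Matrix (Fin n) (Fin n) F := Matrix.of fun i j => Ψ (Pi.single j 1) (Pi.single i 1)
  have hP : ∀ v w, dotProduct w (Matrix.mulVec P v) = Ψ v w := fun v w => by
    conv_rhs => rw [pi_eq_sum_univ' v, pi_eq_sum_univ' w]
    simp only [map_sum, LinearMap.sum_apply, map_smul, LinearMap.smul_apply, smul_eq_mul]
    simp only [P, dotProduct, Matrix.mulVec, Matrix.of_apply, Finset.mul_sum]
    exact Finset.sum_congr rfl fun i _ => Finset.sum_congr rfl fun j _ => by ring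
  have hu : IsUnit P := Matrix.mulVec_injective_iff_isUnit.1 (fun v v' h => by
    have h1 : ∀ w, Ψ (v - v') w = 0 := fun w => by rw [← hP, Matrix.mulVec_sub, h, sub_self, dotProduct_zero]
    exact sub_eq_zero.1 (hinj _ h1))
  refine ⟨hu.unit, ?_⟩
  show P * A = A.transpose * P
  refine Matrix.ext_of_mulVec_single fun j => funext fun i => ?_
  rw [← Matrix.mulVec_mulVec, ← Matrix.mulVec_mulVec, ← single_one_dotProduct i (Matrix.mulVec P _), hP,
    ← single_one_dotProduct i (Matrix.mulVec A.transpose _), Matrix.dotProduct_mulVec, Matrix.vecMul_transpose, hP, hbal]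
end Cfsg.Agent.S2580
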