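import Cfsg.Statements.S2585
import Cfsg.Agent.Lib.KnownC.OrthTools

set_option autoImplicit false
open Cfsg

namespace Cfsg.Agent.S2585

open CfsgLib.Orth CfsgLib.KnownC.OrthTools
/-- Over a finite field of characteristic two every element of the symplectic group is orthogonal for a suitable quadratic form: for each A in Sp_2m(F) there is a quadratic form Q on F^(2m) whose polar form is the alternating form defining Sp_2m(F) (so Q is non-degenerate) and which A preserves. Equivalently, for m ≥ 1, Sp_2m(F) is the union of the conjugates of its two orthogonal subgroups O⁺_2m(F) and O⁻_2m(F). -/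
theorem result {F : Type*} [Field F] [Fintype F] [CharP F 2] {m : ℕ} (A : Matrix.symplecticGroup (Fin m) F) : ∃ Q : QuadraticForm F (Fin m ⊕ Fin m → F), (∀ u v : Fin m ⊕ Fin m → F, QuadraticMap.polar ⇑Q u v = Cfsg.sympForm m F u v) ∧ ∀ v : Fin m ⊕ Fin m → F, Q ((A : Matrix (Fin m ⊕ Fin m) (Fin m ⊕ Fin m) F).mulVec v) = Q v := by
  classical
  let M : Matrix (Fin m ⊕ Fin m) (Fin m ⊕ Fin m) F := A
  have hM := A.2
  rw [SymplecticGroup.mem_iff'] at hM
  change M.transpose * Matrix.J (Fin m) F * M = Matrix.J (Fin m) F at hM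
  let Q₀ := plusForm F m
  have hpol : ∀ u v, QuadraticMap.polar ⇑Q₀ u v = Cfsg.sympForm m F u v := fun u v => by
    rw [plusForm_polar]
    simp [Cfsg.sympForm, Matrix.J, Matrix.fromBlocks_mulVec, dotProduct, Matrix.neg_mulVec,
      CharTwo.neg_eq, Finset.sum_add_distrib]
  have hinv : ∀ u v, Cfsg.sympForm m F (M.mulVec u) (M.mulVec v) = Cfsg.sympForm m F u v := fun u v => by
    simp only [Cfsg.sympForm]
    rw [← Matrix.vecMul_transpose, ← Matrix.dotProduct_mulVec, Matrix.mulVec_mulVec, Matrix.mulVec_mulVec,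
      hM]
  have hD : ∀ u v, Q₀ (M.mulVec (u + v)) + Q₀ (u + v) = Q₀ (M.mulVec u) + Q₀ u + (Q₀ (M.mulVec v) + Q₀ v) := by
    intro u v
    rw [Matrix.mulVec_add, quad_add', quad_add', hpol, hpol, hinv]
    linear_combination (Cfsg.sympForm m F u v) * (CharTwo.two_eq_zero (R := F))
  haveI : Fact (Nat.Prime 2) := ⟨Nat.prime_two⟩
  let ℓ : (Fin m ⊕ Fin m → F) →ₗ[F] F :=
    { toFun := fun v => (frobeniusEquiv F 2).symm (Q₀ (M.mulVec v) + Q₀ v)
      map_add' := fun u v => by simp only [hD, map_add]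
      map_smul' := fun c v => by
        simp only [Matrix.mulVec_smul, quad_smul', RingHom.id_apply, smul_eq_mul, ← mul_add, map_mul]
        congr 1
        apply (frobeniusEquiv F 2).injective
        rw [map_mul, RingEquiv.apply_symm_apply, frobeniusEquiv_apply, frobenius_def, pow_two] }
  have hℓ : ∀ v, ℓ v * ℓ v = Q₀ (M.mulVec v) + Q₀ v := fun v => by
    rw [← pow_two]
    exact (frobeniusEquiv F 2).apply_symm_apply _
  set T : (Fin m ⊕ Fin m → F) →ₗ[F] (Fin m ⊕ Fin m → F) := M.mulVecLin + LinearMap.id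
  have hker : T.ker ≤ ℓ.ker := by
    intro v hv
    rw [LinearMap.mem_ker] at hv ⊢
    have hv' : M.mulVec v = v := by
      have h0 : M.mulVec v + v = 0 := hv
      rw [eq_neg_of_add_eq_zero_left h0]
      ext i; simp [CharTwo.neg_eq]
    have := hℓ v
    rw [hv', CharTwo.add_self_eq_zero] at this
    exact mul_self_eq_zero.1 this
  obtain ⟨μ, hμ⟩ : ∃ μ : (Fin m ⊕ Fin m → F) →ₗ[F] F, μ.comp T = ℓ := by
    obtain ⟨r, hr⟩ := T.rangeRestrict.exists_rightInverse_of_surjective (LinearMap.range_eq_top.2 T.surjective_rangeRestrict)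
    obtain ⟨μ, hμ⟩ := LinearMap.exists_extend (ℓ.comp r)
    refine ⟨μ, LinearMap.ext fun v => ?_⟩
    have h1 := LinearMap.congr_fun hμ (T.rangeRestrict v)
    have h2 : r (T.rangeRestrict v) - v ∈ T.ker := by
      rw [LinearMap.mem_ker, map_sub, sub_eq_zero]
      exact congrArg Subtype.val (LinearMap.congr_fun hr (T.rangeRestrict v))
    have h3 := hker h2
    rw [LinearMap.mem_ker, map_sub, sub_eq_zero] at h3
    exact h1.trans h3
  refine ⟨Q₀ + QuadraticMap.linMulLin μ μ, fun u v => ?_, fun v => ?_⟩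
  · rw [← hpol]
    simp only [QuadraticMap.polar, add_apply, QuadraticMap.linMulLin_apply, map_add]
    linear_combination (μ u * μ v) * (CharTwo.two_eq_zero (R := F))
  · show Q₀ (M.mulVec v) + μ (M.mulVec v) * μ (M.mulVec v) = Q₀ v + μ v * μ v
    have h := LinearMap.congr_fun hμ v
    simp only [T, LinearMap.comp_apply, LinearMap.add_apply, Matrix.mulVecLin_apply, LinearMap.id_apply, map_add] at h
    have h' := hℓ v
    rw [← h] at h'
    linear_combination (-1) * h' + (μ (M.mulVec v) * μ (M.mulVec v) + μ (M.mulVec v) * μ v - Q₀ v) * (CharTwo.two_eq_zero (R := F))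

end Cfsg.Agent.S2585
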