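import Cfsg.Statements.S2586
import Cfsg.Agent.Lib.NumberTheory.SymmetricIntertwiner

set_option autoImplicit false
open Cfsg

namespace Cfsg.Agent.S2586

/-- Over a finite field, every element of the symplectic group Sp_2m(F) is conjugate by an invertible matrix to its inverse. -/
theorem result {F : Type*} [Field F] [Finite F] {m : ℕ} (A : Matrix.symplecticGroup (Fin m) F) : IsConj (A : Matrix (Fin m ⊕ Fin m) (Fin m ⊕ Fin m) F) ((A⁻¹ : Matrix.symplecticGroup (Fin m) F) : Matrix (Fin m ⊕ Fin m) (Fin m ⊕ Fin m) F) := by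
  obtain ⟨S, hS, -, hSA⟩ := CfsgLib.NumberTheory.SymmetricIntertwiner.exists_symm
    (A : Matrix (Fin m ⊕ Fin m) (Fin m ⊕ Fin m) F)
  set a : Matrix (Fin m ⊕ Fin m) (Fin m ⊕ Fin m) F := (A : Matrix (Fin m ⊕ Fin m) (Fin m ⊕ Fin m) F) with ha
  have hA : a * Matrix.J (Fin m) F * a.transpose = Matrix.J (Fin m) F := SymplecticGroup.mem_iff.mp A.2
  have hu : IsUnit (Matrix.J (Fin m) F * S) :=
    ((Matrix.isUnit_iff_isUnit_det _).mpr (Matrix.isUnit_det_J (Fin m) F)).mul hS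
  refine ⟨hu.unit, ?_⟩
  have hinv : ((A⁻¹ : Matrix.symplecticGroup (Fin m) F) : Matrix (Fin m ⊕ Fin m) (Fin m ⊕ Fin m) F) * a = 1 := by
    rw [ha, ← Submonoid.coe_mul, inv_mul_cancel, Submonoid.coe_one]
  show Matrix.J (Fin m) F * S * a = _ * (Matrix.J (Fin m) F * S)
  calc Matrix.J (Fin m) F * S * a = Matrix.J (Fin m) F * (a.transpose * S) := by rw [mul_assoc, hSA]
    _ = (((A⁻¹ : Matrix.symplecticGroup (Fin m) F) : Matrix (Fin m ⊕ Fin m) (Fin m ⊕ Fin m) F) * a) *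
        (Matrix.J (Fin m) F * a.transpose) * S := by rw [hinv, one_mul, mul_assoc]
    _ = _ := by
      rw [mul_assoc _ a, ← mul_assoc a, hA, mul_assoc]

end Cfsg.Agent.S2586
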