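import Cfsg.Statements.S2589
import Cfsg.Agent.Lib.KnownC.SympConj


set_option autoImplicit false
open Cfsg

namespace Cfsg.Agent.S2589

open CfsgLib.Classical Matrix

/-- Two semisimple elements of the finite symplectic group Sp_2m(F) (elements of order prime to the characteristic) are conjugate in Sp_2m(F) if and only if they are conjugate in GL_2m(F). -/
theorem result {F : Type*} [Field F] [Fintype F] {p : ℕ} [Fact p.Prime] [CharP F p] {m : ℕ} (A B : Matrix.symplecticGroup (Fin m) F) (hA : (orderOf A).Coprime p) : IsConj A B ↔ IsConj (A : Matrix (Fin m ⊕ Fin m) (Fin m ⊕ Fin m) F) (B : Matrix (Fin m ⊕ Fin m) (Fin m ⊕ Fin m) F) := by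
  classical
  refine ⟨fun h => MonoidHom.map_isConj (Matrix.symplecticGroup (Fin m) F).subtype h, fun h => ?_⟩
  obtain ⟨c, hc⟩ := h
  let g : (Fin m ⊕ Fin m → F) ≃ₗ[F] (Fin m ⊕ Fin m → F) := (Matrix.GeneralLinearGroup.toLin c).toLinearEquiv
  have hg : ∀ x, g ((spEquiv m A).1 x) = (spEquiv m B).1 (g x) := fun x => by
    rw [spEquiv_apply, spEquiv_apply]
    show (c : Matrix (Fin m ⊕ Fin m) (Fin m ⊕ Fin m) F) *ᵥ (A.1 *ᵥ x) =
      B.1 *ᵥ ((c : Matrix (Fin m ⊕ Fin m) (Fin m ⊕ Fin m) F) *ᵥ x)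
    rw [Matrix.mulVec_mulVec, Matrix.mulVec_mulVec, hc]
  have hrF : ((orderOf A : ℕ) : F) ≠ 0 := fun h0 => by
    have h1 := (CharP.cast_eq_zero_iff F p _).1 h0
    exact (Fact.out : p.Prime).ne_one (Nat.eq_one_of_dvd_coprimes hA h1 dvd_rfl)
  obtain ⟨h, hh⟩ := CfsgLib.KnownC.SympConj.exists_conj (sympBil_isAlt m) (sympBil_nondegenerate m)
    (spEquiv m A) (spEquiv m B) g hg hrF (by rw [← map_pow, pow_orderOf_eq_one, map_one])
  refine isConj_iff.2 ⟨(spEquiv m).symm h, (spEquiv m).injective ?_⟩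
  rw [map_mul, map_mul, map_inv, MulEquiv.apply_symm_apply, mul_inv_eq_iff_eq_mul]
  exact Subtype.ext (LinearEquiv.ext hh)
end Cfsg.Agent.S2589
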