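import Cfsg.Statements.S2590
import Cfsg.Agent.Lib.KnownC.OrthConj


set_option autoImplicit false
open Cfsg

namespace Cfsg.Agent.S2590

open CfsgLib.Orth CfsgLib.KnownC.OrthConj Matrix

/-- Two semisimple elements of odd order of a finite orthogonal group (isometry group of a quadratic form on F^n with non-degenerate polar form, F finite of characteristic p; the elements have odd order prime to p) are conjugate in the orthogonal group if and only if they are conjugate in GL_n(F). -/
theorem result {F : Type*} [Field F] [Fintype F] {p : ℕ} [Fact p.Prime] [CharP F p] {n : ℕ} (Q : QuadraticForm F (Fin n → F)) (hQ : (QuadraticMap.polarBilin Q).Nondegenerate) (A B : ↥(Cfsg.isometryGroup F ⇑Q)) (hodd : Odd (orderOf A)) (hA : (orderOf A).Coprime p) : IsConj A B ↔ IsConj ((A : Matrix.GeneralLinearGroup (Fin n) F) : Matrix (Fin n) (Fin n) F) ((B : Matrix.GeneralLinearGroup (Fin n) F) : Matrix (Fin n) (Fin n) F) := by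
  classical
  have hQQ : ∀ v, (⇑Q) v = Q v := fun v => rfl
  refine ⟨fun h => MonoidHom.map_isConj ((Units.coeHom _).comp (Cfsg.isometryGroup F ⇑Q).subtype) h, fun h => ?_⟩
  obtain ⟨c, hc⟩ := h
  set α := toOrth Q hQQ A with hα
  set γ := toOrth Q hQQ B with hγ
  let g : (Fin n → F) ≃ₗ[F] (Fin n → F) := (Matrix.GeneralLinearGroup.toLin c).toLinearEquiv
  have hg : ∀ x, g (α.1 x) = γ.1 (g x) := fun x => by
    show (c : Matrix (Fin n) (Fin n) F) *ᵥ (((A : GL (Fin n) F) : Matrix (Fin n) (Fin n) F) *ᵥ x) =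
      ((B : GL (Fin n) F) : Matrix (Fin n) (Fin n) F) *ᵥ ((c : Matrix (Fin n) (Fin n) F) *ᵥ x)
    rw [Matrix.mulVec_mulVec, Matrix.mulVec_mulVec, hc]
  have hrF : ((orderOf A : ℕ) : F) ≠ 0 := fun h0 => by
    have h1 := (CharP.cast_eq_zero_iff F p _).1 h0
    exact (Fact.out : p.Prime).ne_one (Nat.eq_one_of_dvd_coprimes hA h1 dvd_rfl)
  have hord : orderOf α = orderOf A := by rw [hα]; exact (toOrth Q hQQ).orderOf_eq A
  obtain ⟨h, hh⟩ := exists_conj Q hQ α γ g hg (orderOf A) hodd hrF (hord ▸ pow_orderOf_eq_one α)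
  refine isConj_iff.2 ⟨(toOrth Q hQQ).symm h, (toOrth Q hQQ).injective ?_⟩
  rw [map_mul, map_mul, map_inv, MulEquiv.apply_symm_apply, mul_inv_eq_iff_eq_mul]
  exact Subtype.ext (LinearEquiv.ext hh)
end Cfsg.Agent.S2590
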