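import Cfsg.Statements.S2592
import Cfsg.Agent.Lib.Classical.SympMatrix
import Mathlib.Algebra.Polynomial.AlgebraMap
import Mathlib.LinearAlgebra.Matrix.ToLin

set_option autoImplicit false
open Cfsg

namespace Cfsg.Agent.S2592

open Finset Polynomial Module

/-! ### Norm one truncated series -/

section Series

variable {F : Type*} [Field F]

/-- Coefficient of degree `k` of `f(X) * f(-X)`. -/
def conv (c : ℕ → F) (k : ℕ) : F :=
  ∑ i ∈ range (k + 1), (-1) ^ (k - i) * (c i * c (k - i))

theorem conv_congr {c c' : ℕ → F} {k : ℕ} (h : ∀ i ≤ k, c i = c' i) : conv c k = conv c' k :=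
  Finset.sum_congr rfl fun i hi => by
    rw [mem_range] at hi
    rw [h i (by omega), h (k - i) (by omega)]

theorem conv_odd (h2 : (2 : F) ≠ 0) (c : ℕ → F) (k : ℕ) : conv c (2 * k + 1) = 0 := by
  have h : conv c (2 * k + 1) = - conv c (2 * k + 1) := by
    conv_lhs => rw [conv, ← Finset.sum_range_reflect]
    rw [conv, ← Finset.sum_neg_distrib]
    refine Finset.sum_congr rfl fun i hi => ?_
    rw [mem_range] at hi
    simp only [Nat.add_sub_cancel]
    have e1 : 2 * k + 1 - (2 * k + 1 - i) = i := by omega
    rw [e1, show ((-1 : F)) ^ i = -(-1) ^ (2 * k + 1 - i) from ?_]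
    · ring
    · rcases Nat.even_or_odd i with hi' | hi'
      · rw [hi'.neg_one_pow, Odd.neg_one_pow (Nat.Odd.sub_even (by omega) ⟨k, rfl⟩ hi'), neg_neg]
      · rw [hi'.neg_one_pow, Even.neg_one_pow (Nat.Odd.sub_odd ⟨k, rfl⟩ hi')]
  refine (mul_eq_zero.1 (show (2 : F) * conv c (2 * k + 1) = 0 by linear_combination h)).resolve_left h2

theorem conv_top (c : ℕ → F) {k : ℕ} (hk : 0 < k) :
    conv c (2 * k) = 2 * (c 0 * c (2 * k)) +
      ∑ i ∈ Finset.Ioo 0 (2 * k), (-1) ^ (2 * k - i) * (c i * c (2 * k - i)) := by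
  rw [conv, show range (2 * k + 1) = insert 0 (insert (2 * k) (Finset.Ioo 0 (2 * k))) by
    ext x; simp; omega]
  rw [Finset.sum_insert (by simp; omega), Finset.sum_insert (by simp), Nat.sub_zero, Nat.sub_self,
    Even.neg_one_pow ⟨k, by omega⟩, pow_zero]
  ring

/-- Extension by zero. -/
def ext {n : ℕ} (c : Fin n → F) (i : ℕ) : F := if h : i < n then c ⟨i, h⟩ else 0

/-- Solutions of `f(X) f(-X) = 1` up to degree `2 j`. -/
abbrev Sol (F : Type*) [Field F] (j : ℕ) :=
  {c : Fin (2 * j) → F // ∀ k < j, conv (ext c) (2 * k) = if k = 0 then 1 else 0}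

theorem sol_sq {j : ℕ} (hj : 0 < j) (s : Sol F j) : ext s.1 0 * ext s.1 0 = 1 := by
  simpa [conv] using s.2 0 hj

theorem card_sol [Fintype F] (h2 : (2 : F) ≠ 0) :
    ∀ j, 0 < j → Nat.card (Sol F j) = 2 * Fintype.card F ^ j := by
  classical
  intro j hj
  induction j, hj using Nat.le_induction with
  | base =>
    let e : Sol F 1 ≃ {a : F // a * a = 1} × F :=
      { toFun := fun s => (⟨ext s.1 0, sol_sq one_pos s⟩, ext s.1 1)
        invFun := fun x => ⟨![x.1.1, x.2], fun k hk => by
          obtain rfl : k = 0 := by omega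
          simp [conv, ext, x.1.2]⟩
        left_inv := fun s => Subtype.ext (funext fun i => by
          fin_cases i <;> simp [ext])
        right_inv := fun x => by simp [ext] }
    rw [Nat.card_congr e, Nat.card_prod, pow_one, Nat.card_eq_fintype_card (α := F)]
    congr 1
    refine (Nat.card_congr (Equiv.subtypeEquivRight (q := fun a : F => a ∈ ({1, -1} : Set F))
      fun a => by simp [mul_self_eq_one_iff])).trans ?_
    rw [show {a : F // a ∈ ({1, -1} : Set F)} = ↥({1, -1} : Set F) from rfl, Nat.card_coe_set_eq,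
      Set.ncard_pair]
    intro h
    exact h2 (by linear_combination h)
  | succ j hj ih =>
    rw [pow_succ, ← mul_assoc, ← ih, ← Nat.card_eq_fintype_card, ← Nat.card_prod]
    have hres : ∀ (s : Sol F (j + 1)), ∀ i < 2 * j,
        ext (fun a : Fin (2 * j) => ext s.1 a) i = ext s.1 i := fun s i hi => by
      conv_lhs => rw [ext, dif_pos hi]
    let f : Sol F (j + 1) → Sol F j × F := fun s => (⟨fun a => ext s.1 a, fun k hk => by
      rw [conv_congr (c' := ext s.1) fun i hi => hres s i (by omega)]
      exact s.2 k (by omega)⟩, ext s.1 (2 * j + 1))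
    refine Nat.card_congr (Equiv.ofBijective f ⟨fun s s' h => ?_, fun x => ?_⟩)
    · have h1 : ∀ i < 2 * j, ext s.1 i = ext s'.1 i := fun i hi =>
        congrFun (congrArg (fun x => x.1.1) h) ⟨i, hi⟩
      have h3 : ext s.1 (2 * j + 1) = ext s'.1 (2 * j + 1) := congrArg Prod.snd h
      have h0 : ext s.1 0 ≠ 0 := fun h0 => by
        simpa [h0] using sol_sq (by omega) s
      have e1 := s.2 j (by omega)
      have e2 := s'.2 j (by omega)
      rw [conv_top _ (by omega)] at e1 e2
      rw [← e2, ← h1 0 (by omega)] at e1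
      have h4 : ext s.1 (2 * j) = ext s'.1 (2 * j) := by
        have hs : ∀ i ∈ Finset.Ioo 0 (2 * j), (-1 : F) ^ (2 * j - i) * (ext s.1 i * ext s.1 (2 * j - i)) =
            (-1) ^ (2 * j - i) * (ext s'.1 i * ext s'.1 (2 * j - i)) := fun i hi => by
          rw [Finset.mem_Ioo] at hi
          rw [h1 i hi.2, h1 (2 * j - i) (by omega)]
        rw [Finset.sum_congr rfl hs] at e1
        exact mul_left_cancel₀ h0 (mul_left_cancel₀ h2 (add_right_cancel e1))
      refine Subtype.ext (funext fun i => ?_)
      have hi := i.2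
      have : ext s.1 i = ext s'.1 i := by
        rcases (show (i : ℕ) < 2 * j ∨ (i : ℕ) = 2 * j ∨ (i : ℕ) = 2 * j + 1 by omega) with h | h | h
        · exact h1 i h
        · rw [h]; exact h4
        · rw [h]; exact h3
      simpa [ext] using this
    · obtain ⟨s, a⟩ := x
      let b : F := (if j = 0 then 1 else 0) - ∑ i ∈ Finset.Ioo 0 (2 * j),
        (-1) ^ (2 * j - i) * (ext s.1 i * ext s.1 (2 * j - i))
      let c : Fin (2 * (j + 1)) → F := fun i =>
        if (i : ℕ) < 2 * j then ext s.1 i else if (i : ℕ) = 2 * j then b / (2 * ext s.1 0) else a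
      have hc : ∀ i < 2 * j, ext c i = ext s.1 i := fun i hi => by
        rw [ext, dif_pos (by omega)]
        simp [c, hi]
      have hc' : ext c (2 * j) = b / (2 * ext s.1 0) := by
        rw [ext, dif_pos (by omega)]
        simp [c]
      refine ⟨⟨c, fun k hk => ?_⟩, Prod.ext (Subtype.ext (funext fun i => ?_)) ?_⟩
      · rcases (show k < j ∨ k = j by omega) with h | rfl
        · rw [conv_congr (c' := ext s.1) fun i hi => hc i (by omega)]
          exact s.2 k h
        · have h0 : ext s.1 0 ≠ 0 := fun h0 => by simpa [h0] using sol_sq (by omega) s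
          have hs : ∑ i ∈ Finset.Ioo 0 (2 * k), (-1 : F) ^ (2 * k - i) * (ext c i * ext c (2 * k - i)) =
              ∑ i ∈ Finset.Ioo 0 (2 * k), (-1 : F) ^ (2 * k - i) * (ext s.1 i * ext s.1 (2 * k - i)) :=
            Finset.sum_congr rfl fun i hi => by
              rw [Finset.mem_Ioo] at hi
              rw [hc i hi.2, hc (2 * k - i) (by omega)]
          rw [conv_top _ (by omega), hc', hc 0 (by omega), hs, ← mul_assoc,
            mul_div_cancel₀ _ (mul_ne_zero h2 h0)]
          simp [b]
      · show ext c i = s.1 i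
        rw [hc i i.2, ext, dif_pos i.2]
      · show ext c (2 * j + 1) = a
        rw [ext, dif_pos (by omega)]
        simp [c]

end Series

/-! ### The centralizer of a cyclic skew nilpotent map -/

section Cyclic

variable {F : Type*} [Field F] {V : Type*} [AddCommGroup V] [Module F V] [FiniteDimensional F V]

theorem finrank_ker_comp_le (f g : Module.End F V) :
    finrank F (LinearMap.ker (f * g)) ≤ finrank F (LinearMap.ker f) + finrank F (LinearMap.ker g) := by
  let r : LinearMap.ker (f * g) →ₗ[F] LinearMap.ker f :=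
    LinearMap.restrict g fun x hx => by simpa using hx
  have h1 := LinearMap.finrank_range_add_finrank_ker r
  have h2 := Submodule.finrank_le (LinearMap.range r)
  have h3 : finrank F (LinearMap.ker r) ≤ finrank F (LinearMap.ker g) := by
    refine LinearMap.finrank_le_finrank_of_injective (f := LinearMap.restrict
      (LinearMap.ker (f * g)).subtype (fun x hx => ?_)) fun a b h => ?_
    · rw [LinearMap.mem_ker] at hx ⊢
      exact congrArg Subtype.val hx
    · refine Subtype.ext (Subtype.ext ?_)
      simpa using congrArg Subtype.val h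
  omega

theorem finrank_ker_pow_le (f : Module.End F V) (k : ℕ) :
    finrank F (LinearMap.ker (f ^ k)) ≤ k * finrank F (LinearMap.ker f) := by
  induction k with
  | zero => simp [LinearMap.ker_id, Module.End.one_eq_id]
  | succ k ih =>
    rw [pow_succ, Nat.succ_mul]
    exact (finrank_ker_comp_le _ _).trans (by omega)

variable (T : Module.End F V)

/-- A polynomial in `T`. -/
noncomputable def val {n : ℕ} (c : Fin n → F) : Module.End F V := ∑ i : Fin n, c i • T ^ (i : ℕ)

theorem val_eq_range {n : ℕ} (c : Fin n → F) : val T c = ∑ i ∈ range n, ext c i • T ^ i := by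
  rw [Finset.sum_range]
  exact Finset.sum_congr rfl fun i _ => by rw [ext, dif_pos i.2]

theorem commute_val {n : ℕ} (c : Fin n → F) {X : Module.End F V} (h : Commute X T) : Commute X (val T c) :=
  Commute.sum_right _ _ _ fun i _ => (h.pow_right _).smul_right _

variable {T} {B : V →ₗ[F] V →ₗ[F] F} (hB : ∀ x y, B (T x) y = - B x (T y))

include hB in
theorem adjoint_pow (k : ℕ) : ∀ x y, B ((T ^ k) x) y = (-1) ^ k * B x ((T ^ k) y) := by
  induction k with
  | zero => intro x y; simp
  | succ k ih =>
    intro x y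
    conv_lhs => rw [pow_succ, Module.End.mul_apply, ih, hB, ← Module.End.mul_apply, ← pow_succ']
    rw [pow_succ (-1 : F)]
    ring

/-- Alternate the signs. -/
def alt {n : ℕ} (c : Fin n → F) : Fin n → F := fun i => (-1) ^ (i : ℕ) * c i

include hB in
theorem adjoint_val {n : ℕ} (c : Fin n → F) (x y : V) : B (val T c x) y = B x (val T (alt c) y) := by
  simp only [val, alt, LinearMap.sum_apply, LinearMap.smul_apply, map_sum, map_smul, smul_eq_mul,
    adjoint_pow hB]
  exact Finset.sum_congr rfl fun i _ => by ring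

theorem val_mul {n : ℕ} (hT : T ^ n = 0) (c : Fin n → F) :
    val T (alt c) * val T c = ∑ k ∈ range n, conv (ext c) k • T ^ k := by
  classical
  let p : F[X] := ∑ i ∈ range n, Polynomial.C (ext (alt c) i) * X ^ i
  let r : F[X] := ∑ i ∈ range n, Polynomial.C (ext c i) * X ^ i
  have hp : ∀ (d : Fin n → F), aeval T (∑ i ∈ range n, Polynomial.C (ext d i) * X ^ i) = val T d := by
    intro d
    rw [val_eq_range, map_sum]
    exact Finset.sum_congr rfl fun i _ => by rw [map_mul, aeval_C, map_pow, aeval_X, ← Algebra.smul_def]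
  have hcoef : ∀ (d : Fin n → F) (k : ℕ),
      (∑ i ∈ range n, Polynomial.C (ext d i) * X ^ i).coeff k = ext d k := by
    intro d k
    rw [Polynomial.finsetSum_coeff]
    simp only [Polynomial.coeff_C_mul_X_pow]
    rw [Finset.sum_ite_eq, ext]
    simp [Finset.mem_range]
    intro h1 h2
    omega
  rw [← hp (alt c), ← hp c, ← map_mul]
  set s := (∑ i ∈ range n, Polynomial.C (ext (alt c) i) * X ^ i) *
    (∑ i ∈ range n, Polynomial.C (ext c i) * X ^ i) with hs
  rw [Polynomial.aeval_eq_sum_range' (n := n + (s.natDegree + 1)) (by omega), Finset.sum_range_add]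
  rw [Finset.sum_eq_zero (s := range (s.natDegree + 1)) (fun i _ => by rw [pow_add, hT, zero_mul, smul_zero]),
    add_zero]
  refine Finset.sum_congr rfl fun k hk => ?_
  rw [mem_range] at hk
  congr 1
  rw [hs, Polynomial.coeff_mul, Finset.Nat.sum_antidiagonal_eq_sum_range_succ_mk, conv,
    ← Finset.sum_range_reflect]
  refine Finset.sum_congr rfl fun i hi => ?_
  rw [mem_range] at hi
  rw [hcoef, hcoef]
  have hh : ext (alt c) (k + 1 - 1 - i) = (-1) ^ (k - i) * ext c (k - i) := by
    rw [ext, ext, dif_pos (by omega), dif_pos (by omega)]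
    simp [alt]
  rw [hh, show k - (k + 1 - 1 - i) = i by omega]
  ring

theorem basisVec {n : ℕ} (hn : finrank F V = n) (hT : T ^ n = 0) (hT' : T ^ (n - 1) ≠ 0) :
    ∃ v : V, LinearIndependent F (fun i : Fin n => (T ^ (i : ℕ)) v) ∧
      Submodule.span F (Set.range fun i : Fin n => (T ^ (i : ℕ)) v) = ⊤ := by
  classical
  obtain ⟨v, hv⟩ : ∃ v, (T ^ (n - 1)) v ≠ 0 := by
    by_contra h
    push Not at h
    exact hT' (LinearMap.ext h)
  have hli : LinearIndependent F (fun i : Fin n => (T ^ (i : ℕ)) v) := by
    rw [Fintype.linearIndependent_iff]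
    intro g hg
    by_contra hne
    push Not at hne
    obtain ⟨i, hi⟩ := hne
    obtain ⟨i₀, hi₀, hmin⟩ := Finset.exists_min_image (univ.filter fun i => g i ≠ 0) (fun i => (i : ℕ))
      ⟨i, by simp [hi]⟩
    rw [Finset.mem_filter] at hi₀
    have h1 := congrArg (fun x => (T ^ (n - 1 - (i₀ : ℕ))) x) hg
    simp only [map_sum, map_smul, map_zero, ← Module.End.mul_apply, ← pow_add] at h1
    rw [Finset.sum_eq_single i₀] at h1
    · rw [show n - 1 - (i₀ : ℕ) + i₀ = n - 1 by omega] at h1
      exact (smul_ne_zero hi₀.2 hv) h1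
    · intro b _ hb
      by_cases hgb : g b = 0
      · rw [hgb, zero_smul]
      · have := hmin b (by simp [hgb])
        have hbne : (b : ℕ) ≠ i₀ := fun h => hb (Fin.ext h)
        rw [show n - 1 - (i₀ : ℕ) + b = n + ((b : ℕ) - i₀ - 1) by omega, pow_add, hT, zero_mul,
          LinearMap.zero_apply, smul_zero]
    · simp
  exact ⟨v, hli, hli.span_eq_top_of_card_eq_finrank' (by rw [Fintype.card_fin, hn])⟩

end Cyclic


/-- Over a finite field with q elements, q odd, the centraliser in Sp_2m(F) (m ≥ 1) of a regular unipotent element (u − 1 nilpotent of rank 2m − 1) has order 2 q^m. -/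
theorem result {F : Type*} [Field F] [Fintype F] {q : ℕ} (hF : Fintype.card F = q) (hq : Odd q) {m : ℕ} (hm : 1 ≤ m) (u : Matrix.symplecticGroup (Fin m) F) (hnil : ((u : Matrix (Fin m ⊕ Fin m) (Fin m ⊕ Fin m) F) - 1) ^ (2 * m) = 0) (hreg : ((u : Matrix (Fin m ⊕ Fin m) (Fin m ⊕ Fin m) F) - 1).rank = 2 * m - 1) : Nat.card ↥(Subgroup.centralizer ({u} : Set ↥(Matrix.symplecticGroup (Fin m) F))) = 2 * q ^ m := by
  classical
  subst hF
  have hN := CfsgLib.Classical.sympBil_nondegenerate (F := F) m
  have h2 : (2 : F) ≠ 0 := by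
    intro h
    have h1 : addOrderOf (1 : F) = 2 := addOrderOf_eq_prime
      (by rw [two_nsmul]; linear_combination h) one_ne_zero
    exact Nat.not_even_iff_odd.2 hq (even_iff_two_dvd.2 (h1 ▸ addOrderOf_dvd_card))
  let B := CfsgLib.Classical.sympBil F m
  have hdim : finrank F (Fin m ⊕ Fin m → F) = 2 * m := by
    rw [Module.finrank_pi, Fintype.card_sum, Fintype.card_fin]; omega
  let U : Module.End F (Fin m ⊕ Fin m → F) := Matrix.toLinAlgEquiv' u.1
  have hUB : ∀ x y, B (U x) (U y) = B x y := fun x y => by
    simp only [B, U, CfsgLib.Classical.sympBil_apply, Matrix.toLinAlgEquiv'_apply]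
    exact (CfsgLib.Classical.mem_symplecticGroup_iff_preserves m).1 u.2 x y
  set N := U - 1 with hNdef
  have hNmat : N = Matrix.toLinAlgEquiv' (u.1 - 1) := by
    rw [hNdef, map_sub, map_one]
  have hNnil : N ^ (2 * m) = 0 := by rw [hNmat, ← map_pow, hnil, map_zero]
  have hNker : finrank F (LinearMap.ker N) = 1 := by
    have h := LinearMap.finrank_range_add_finrank_ker N
    rw [hdim] at h
    have hr : finrank F (LinearMap.range N) = 2 * m - 1 := by
      rw [hNmat, ← hreg]
      rfl
    omega
  have hN' : N ^ (2 * m - 1) ≠ 0 := by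
    intro h
    have h1 := finrank_ker_pow_le N (2 * m - 1)
    rw [h, LinearMap.ker_zero, finrank_top, hdim, hNker] at h1
    omega
  obtain ⟨P, hP⟩ : IsUnit (N + algebraMap F _ 2) :=
    IsNilpotent.isUnit_add_right_of_commute ⟨2 * m, hNnil⟩ ((isUnit_iff_ne_zero.2 h2).map _)
      (Algebra.commute_algebraMap_right 2 N)
  have hP' : (P : Module.End F (Fin m ⊕ Fin m → F)) = U + 1 := by
    rw [hP, hNdef, show (2 : F) = 1 + 1 by norm_num, map_add, map_one]
    abel
  have hNP : Commute N P := hP ▸ ((Commute.refl N).add_right (Algebra.commute_algebraMap_right 2 N))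
  have hNP' : Commute N (P⁻¹ : (Module.End F (Fin m ⊕ Fin m → F))ˣ) := hNP.units_inv_right
  set T := N * (P⁻¹ : (Module.End F (Fin m ⊕ Fin m → F))ˣ) with hTdef
  have hT : T ^ (2 * m) = 0 := by rw [hTdef, hNP'.mul_pow, hNnil, zero_mul]
  have hT' : T ^ (2 * m - 1) ≠ 0 := by
    rw [hTdef, hNP'.mul_pow, ← Units.val_pow_eq_pow_val]
    intro h
    exact hN' ((Units.mul_left_eq_zero _).1 h)
  have hTU : Commute U T := by
    have h1 : Commute U N := by
      rw [hNdef]; exact (Commute.refl U).sub_right (Commute.one_right U)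
    have h3 : Commute U P := hP' ▸ (Commute.refl U).add_right (Commute.one_right U)
    exact h1.mul_right h3.units_inv_right
  have hB : ∀ x y, B (T x) y = - B x (T y) := by
    intro x y
    obtain ⟨a, rfl⟩ : ∃ a, (P : Module.End F (Fin m ⊕ Fin m → F)) a = x :=
      ⟨(P⁻¹ : (Module.End F (Fin m ⊕ Fin m → F))ˣ).1 x, by rw [← Module.End.mul_apply, Units.mul_inv, Module.End.one_apply]⟩
    obtain ⟨b, rfl⟩ : ∃ b, (P : Module.End F (Fin m ⊕ Fin m → F)) b = y :=
      ⟨(P⁻¹ : (Module.End F (Fin m ⊕ Fin m → F))ˣ).1 y, by rw [← Module.End.mul_apply, Units.mul_inv, Module.End.one_apply]⟩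
    have hTP : ∀ z, T (P.1 z) = N z := fun z => by
      rw [← Module.End.mul_apply, hTdef, mul_assoc, Units.inv_mul, mul_one]
    rw [hTP, hTP, hP', hNdef]
    simp only [LinearMap.sub_apply, LinearMap.add_apply, Module.End.one_apply, map_sub, map_add, hUB]
    ring
  obtain ⟨v, hli, hspan⟩ := basisVec hdim hT hT'
  have hv0 : ∀ c c' : Fin (2 * m) → F, val T c v = val T c' v → c = c' := fun c c' h => by
    have := Fintype.linearIndependent_iff.1 hli (fun i => c i - c' i) (by
      simp only [sub_smul, Finset.sum_sub_distrib]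
      rw [sub_eq_zero]
      simpa [val, LinearMap.sum_apply] using h)
    exact funext fun i => sub_eq_zero.1 (this i)
  have hnorm : ∀ c : Fin (2 * m) → F, (∀ x y, B (val T c x) (val T c y) = B x y) ↔
      ∀ k < m, conv (ext c) (2 * k) = if k = 0 then 1 else 0 := by
    intro c
    have h1 : (∀ x y, B (val T c x) (val T c y) = B x y) ↔ val T (alt c) * val T c = 1 := by
      refine ⟨fun h => LinearMap.ext fun y => ?_, fun h x y => ?_⟩
      · refine sub_eq_zero.1 (hN.2 _ fun x => ?_)
        rw [map_sub, Module.End.one_apply, Module.End.mul_apply, ← adjoint_val hB, h, sub_self]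
      · rw [adjoint_val hB, ← Module.End.mul_apply, h, Module.End.one_apply]
    rw [h1, val_mul hT]
    let d : Fin (2 * m) → F := fun k => conv (ext c) k
    let e : Fin (2 * m) → F := fun k => if (k : ℕ) = 0 then 1 else 0
    have hd : ∑ k ∈ range (2 * m), conv (ext c) k • T ^ k = val T d := Finset.sum_range _
    have he : (1 : Module.End F (Fin m ⊕ Fin m → F)) = val T e := by
      have h0 : 0 < 2 * m := by omega
      rw [val, Finset.sum_eq_single (⟨0, h0⟩ : Fin (2 * m)) (fun b _ hb => by
        simp [e, show (b : ℕ) ≠ 0 from fun h => hb (Fin.ext h)]) (by simp)]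
      simp [e]
    rw [hd, he]
    constructor
    · intro h k hk
      have := congrFun (hv0 d e (by rw [h])) ⟨2 * k, by omega⟩
      simpa [d, e] using this
    · intro h
      have : d = e := funext fun k => by
        rcases Nat.even_or_odd' (k : ℕ) with ⟨i, hi | hi⟩
        · have := h i (by omega)
          simp only [d, e, hi, this]
          by_cases hi0 : i = 0 <;> simp [hi0]
        · simp only [d, e, hi, conv_odd h2]
          simp
      rw [this]
  let emb : Sol F m → Matrix.symplecticGroup (Fin m) F := fun s =>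
    ⟨Matrix.toLinAlgEquiv'.symm (val T s.1),
      (CfsgLib.Classical.mem_symplecticGroup_iff_preserves m).2 fun x y => by
        have h := (hnorm s.1).2 s.2 x y
        simp only [B, CfsgLib.Classical.sympBil_apply] at h
        rw [← Matrix.toLinAlgEquiv'_apply, ← Matrix.toLinAlgEquiv'_apply, AlgEquiv.apply_symm_apply]
        exact h⟩
  have hemb : ∀ s, Matrix.toLinAlgEquiv' (emb s).1 = val T s.1 := fun s => AlgEquiv.apply_symm_apply _ _
  let f : Sol F m → Subgroup.centralizer ({u} : Set ↥(Matrix.symplecticGroup (Fin m) F)) := fun s =>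
    ⟨emb s, Subgroup.mem_centralizer_singleton_iff.2 (Subtype.ext (Matrix.toLinAlgEquiv'.injective (by
      change Matrix.toLinAlgEquiv' ((emb s).1 * u.1) = Matrix.toLinAlgEquiv' (u.1 * (emb s).1)
      rw [map_mul, map_mul, hemb]
      exact (commute_val T s.1 hTU).symm.eq)))⟩
  have hf : Function.Bijective f := by
    constructor
    · intro s s' h
      apply Subtype.ext
      apply hv0
      rw [← hemb, ← hemb, show emb s = emb s' from congrArg Subtype.val h]
    · rintro ⟨g, hg⟩
      let G := Matrix.toLinAlgEquiv' g.1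
      have hGU : Commute G U := by
        have := congrArg (fun z : Matrix.symplecticGroup (Fin m) F => Matrix.toLinAlgEquiv' z.1)
          (Subgroup.mem_centralizer_singleton_iff.1 hg)
        show G * U = U * G
        rw [← map_mul, ← map_mul]
        exact this
      have hGT : Commute G T := by
        have h1 : Commute G N := by rw [hNdef]; exact hGU.sub_right (Commute.one_right G)
        have h3 : Commute G P := hP' ▸ hGU.add_right (Commute.one_right G)
        exact h1.mul_right h3.units_inv_right
      obtain ⟨c, hc⟩ := (Submodule.mem_span_range_iff_exists_fun F).1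
        (hspan ▸ Submodule.mem_top : G v ∈ Submodule.span F (Set.range fun i : Fin (2 * m) => (T ^ (i : ℕ)) v))
      have hG : G = val T c := by
        refine LinearMap.ext_on_range hspan fun i => ?_
        rw [← Module.End.mul_apply, (hGT.pow_right _).eq, Module.End.mul_apply,
          show val T c ((T ^ (i : ℕ)) v) = (T ^ (i : ℕ)) (val T c v) from
            congrArg (fun z : Module.End F (Fin m ⊕ Fin m → F) => z v)
              (commute_val T c ((Commute.refl T).pow_left (i : ℕ))).symm.eq]
        congr 1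
        rw [← hc]
        simp [val, LinearMap.sum_apply]
      refine ⟨⟨c, (hnorm c).1 fun x y => ?_⟩, ?_⟩
      · rw [← hG]
        simp only [B, G, CfsgLib.Classical.sympBil_apply, Matrix.toLinAlgEquiv'_apply]
        exact (CfsgLib.Classical.mem_symplecticGroup_iff_preserves m).1 g.2 x y
      · refine Subtype.ext (Subtype.ext (Matrix.toLinAlgEquiv'.injective ?_))
        change Matrix.toLinAlgEquiv' (emb ⟨c, _⟩).1 = G
        rw [hemb]
        exact hG.symm
  rw [← Nat.card_congr (Equiv.ofBijective f hf), card_sol h2 m hm]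

end Cfsg.Agent.S2592
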