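import Cfsg.Statements.S2591
import Cfsg.Agent.S2592

set_option autoImplicit false
open Cfsg

namespace Cfsg.Agent.S2591

open Module Cfsg.Agent.S2592

variable {F : Type*} [Field F] {m : ℕ}

local notation "W" => (Fin m ⊕ Fin m → F)
local notation "B₀" => CfsgLib.Classical.sympBil F m

/-- The Cayley transform relation. -/
def Good (u : Matrix.symplecticGroup (Fin m) F) (T : Module.End F W) : Prop :=
  (∀ x y, B₀ (T x) y = - B₀ x (T y)) ∧ T ^ (2 * m) = 0 ∧ T ^ (2 * m - 1) ≠ 0 ∧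
    (1 - T) * Matrix.toLinAlgEquiv' u.1 = 1 + T

/-- The scalar attached to a regular unipotent. -/
def HasVal (u : Matrix.symplecticGroup (Fin m) F) (b : F) : Prop :=
  ∃ T v, Good u T ∧ (T ^ (2 * m - 1)) v ≠ 0 ∧ B₀ v ((T ^ (2 * m - 1)) v) = b

theorem preserves (u : Matrix.symplecticGroup (Fin m) F) (x y : W) :
    B₀ (Matrix.toLinAlgEquiv' u.1 x) (Matrix.toLinAlgEquiv' u.1 y) = B₀ x y := by
  simp only [CfsgLib.Classical.sympBil_apply, Matrix.toLinAlgEquiv'_apply]
  exact (CfsgLib.Classical.mem_symplecticGroup_iff_preserves m).1 u.2 x y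

theorem finrank_W : finrank F W = 2 * m := by
  rw [Module.finrank_pi, Fintype.card_sum, Fintype.card_fin]; omega

/-- A regular unipotent element has a Cayley transform. -/
theorem exists_good (h2 : (2 : F) ≠ 0) (hm : 1 ≤ m) (u : Matrix.symplecticGroup (Fin m) F)
    (hnil : ((u : Matrix (Fin m ⊕ Fin m) (Fin m ⊕ Fin m) F) - 1) ^ (2 * m) = 0)
    (hreg : ((u : Matrix (Fin m ⊕ Fin m) (Fin m ⊕ Fin m) F) - 1).rank = 2 * m - 1) :
    ∃ T, Good u T := by
  set U : Module.End F W := Matrix.toLinAlgEquiv' u.1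
  set N := U - 1 with hNdef
  have hNmat : N = Matrix.toLinAlgEquiv' (u.1 - 1) := by rw [hNdef, map_sub, map_one]
  have hNnil : N ^ (2 * m) = 0 := by rw [hNmat, ← map_pow, hnil, map_zero]
  have hNker : finrank F (LinearMap.ker N) = 1 := by
    have h := LinearMap.finrank_range_add_finrank_ker N
    rw [finrank_W] at h
    have hr : finrank F (LinearMap.range N) = 2 * m - 1 := by rw [hNmat, ← hreg]; rfl
    omega
  have hN' : N ^ (2 * m - 1) ≠ 0 := by
    intro h
    have h1 := finrank_ker_pow_le N (2 * m - 1)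
    rw [h, LinearMap.ker_zero, finrank_top, finrank_W, hNker] at h1
    omega
  obtain ⟨P, hP⟩ : IsUnit (N + algebraMap F _ 2) :=
    IsNilpotent.isUnit_add_right_of_commute ⟨2 * m, hNnil⟩ ((isUnit_iff_ne_zero.2 h2).map _)
      (Algebra.commute_algebraMap_right 2 N)
  have hP' : (P : Module.End F W) = U + 1 := by
    rw [hP, hNdef, show (2 : F) = 1 + 1 by norm_num, map_add, map_one]
    abel
  have hNP : Commute N P := hP ▸ ((Commute.refl N).add_right (Algebra.commute_algebraMap_right 2 N))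
  have hNP' : Commute N (P⁻¹ : (Module.End F W)ˣ) := hNP.units_inv_right
  set T := N * (P⁻¹ : (Module.End F W)ˣ) with hTdef
  have hTP : T * (U + 1) = U - 1 := by rw [← hP', hTdef, mul_assoc, Units.inv_mul, mul_one]
  have hTU : T * U + T = U - 1 := by rw [← hTP, mul_add, mul_one]
  refine ⟨T, fun x y => ?_, by rw [hTdef, hNP'.mul_pow, hNnil, zero_mul], ?_, ?_⟩
  · obtain ⟨a, rfl⟩ : ∃ a, (P : Module.End F W) a = x :=
      ⟨(P⁻¹ : (Module.End F W)ˣ).1 x,
        by rw [← Module.End.mul_apply, Units.mul_inv, Module.End.one_apply]⟩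
    obtain ⟨b, rfl⟩ : ∃ b, (P : Module.End F W) b = y :=
      ⟨(P⁻¹ : (Module.End F W)ˣ).1 y,
        by rw [← Module.End.mul_apply, Units.mul_inv, Module.End.one_apply]⟩
    have hTP' : ∀ z, T (P.1 z) = U z - z := fun z => by
      rw [← Module.End.mul_apply, hP', hTP]; rfl
    rw [hTP', hTP', hP']
    simp only [LinearMap.add_apply, Module.End.one_apply, map_sub, map_add, LinearMap.sub_apply, U, preserves]
    ring
  · rw [hTdef, hNP'.mul_pow, ← Units.val_pow_eq_pow_val]
    intro h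
    exact hN' ((Units.mul_left_eq_zero _).1 h)
  · change (1 - T) * U = 1 + T
    rw [sub_mul, one_mul, eq_sub_of_add_eq hTU]
    abel

theorem isUnit_one_sub {T : Module.End F W} (hT : T ^ (2 * m) = 0) : IsUnit (1 - T) :=
  IsNilpotent.isUnit_one_sub ⟨_, hT⟩

/-- The value does not vanish. -/
theorem val_ne_zero {T : Module.End F W} (hB : ∀ x y, B₀ (T x) y = - B₀ x (T y))
    (hT : T ^ (2 * m) = 0) (hT' : T ^ (2 * m - 1) ≠ 0) {v : W} (hv : (T ^ (2 * m - 1)) v ≠ 0)
    (hspan : Submodule.span F (Set.range fun i : Fin (2 * m) => (T ^ (i : ℕ)) v) = ⊤) :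
    B₀ v ((T ^ (2 * m - 1)) v) ≠ 0 := by
  intro h
  have h1 : (B₀).flip ((T ^ (2 * m - 1)) v) = 0 := by
    refine LinearMap.ext_on_range hspan fun i => ?_
    rw [LinearMap.flip_apply, adjoint_pow hB, ← Module.End.mul_apply, ← pow_add, LinearMap.zero_apply]
    rcases Nat.eq_zero_or_pos (i : ℕ) with hi | hi
    · rw [hi, zero_add, h, mul_zero]
    · rw [show (i : ℕ) + (2 * m - 1) = 2 * m + ((i : ℕ) - 1) by omega, pow_add, hT, zero_mul]
      simp
  exact hv ((CfsgLib.Classical.sympBil_nondegenerate (F := F) m).2 _ fun x => LinearMap.congr_fun h1 x)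

/-- The powers on a cyclic vector form a basis. -/
theorem cyclic {T : Module.End F W} (hT : T ^ (2 * m) = 0) {v : W}
    (hv : (T ^ (2 * m - 1)) v ≠ 0) :
    LinearIndependent F (fun i : Fin (2 * m) => (T ^ (i : ℕ)) v) ∧
      Submodule.span F (Set.range fun i : Fin (2 * m) => (T ^ (i : ℕ)) v) = ⊤ := by
  classical
  have hli : LinearIndependent F (fun i : Fin (2 * m) => (T ^ (i : ℕ)) v) := by
    rw [Fintype.linearIndependent_iff]
    intro g hg
    by_contra hne
    push Not at hne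
    obtain ⟨i, hi⟩ := hne
    obtain ⟨i₀, hi₀, hmin⟩ := Finset.exists_min_image (Finset.univ.filter fun i => g i ≠ 0)
      (fun i => (i : ℕ)) ⟨i, by simp [hi]⟩
    rw [Finset.mem_filter] at hi₀
    have h1 := congrArg (fun x => (T ^ (2 * m - 1 - (i₀ : ℕ))) x) hg
    simp only [map_sum, map_smul, map_zero, ← Module.End.mul_apply, ← pow_add] at h1
    rw [Finset.sum_eq_single i₀] at h1
    · rw [show 2 * m - 1 - (i₀ : ℕ) + i₀ = 2 * m - 1 by omega] at h1
      exact (smul_ne_zero hi₀.2 hv) h1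
    · intro b _ hb
      by_cases hgb : g b = 0
      · rw [hgb, zero_smul]
      · have := hmin b (by simp [hgb])
        have hbne : (b : ℕ) ≠ i₀ := fun h => hb (Fin.ext h)
        rw [show 2 * m - 1 - (i₀ : ℕ) + b = 2 * m + ((b : ℕ) - i₀ - 1) by omega, pow_add, hT,
          zero_mul, LinearMap.zero_apply, smul_zero]
    · simp
  exact ⟨hli, hli.span_eq_top_of_card_eq_finrank' (by rw [Fintype.card_fin, finrank_W])⟩

theorem HasVal.ne_zero {u : Matrix.symplecticGroup (Fin m) F} {b : F} (h : HasVal u b) : b ≠ 0 := by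
  obtain ⟨T, v, ⟨hB, hT, hT', _⟩, hv, rfl⟩ := h
  exact val_ne_zero hB hT hT' hv (cyclic hT hv).2

theorem exists_hasVal {u : Matrix.symplecticGroup (Fin m) F} {T : Module.End F W} (h : Good u T) :
    ∃ b, HasVal u b := by
  obtain ⟨v, hv⟩ : ∃ v, (T ^ (2 * m - 1)) v ≠ 0 := by
    by_contra hne
    push Not at hne
    exact h.2.2.1 (LinearMap.ext hne)
  exact ⟨_, T, v, h, hv, rfl⟩

theorem HasVal.scale {u : Matrix.symplecticGroup (Fin m) F} {b : F} (h : HasVal u b) {a : F}
    (ha : a ≠ 0) : HasVal u (a * a * b) := by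
  obtain ⟨T, v, hG, hv, rfl⟩ := h
  refine ⟨T, a • v, hG, by rw [map_smul]; exact smul_ne_zero ha hv, ?_⟩
  rw [map_smul, map_smul, LinearMap.smul_apply, map_smul, smul_eq_mul, smul_eq_mul]
  ring

/-- Clearing the lower coefficients. -/
theorem normal (h2 : (2 : F) ≠ 0) {T : Module.End F W} (hB : ∀ x y, B₀ (T x) y = - B₀ x (T y))
    (hT : T ^ (2 * m) = 0) (hT' : T ^ (2 * m - 1) ≠ 0) {v : W} (hv : (T ^ (2 * m - 1)) v ≠ 0) :
    ∀ s : ℕ, ∃ v' : W, (T ^ (2 * m - 1)) v' = (T ^ (2 * m - 1)) v ∧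
      B₀ v' ((T ^ (2 * m - 1)) v') = B₀ v ((T ^ (2 * m - 1)) v) ∧
      ∀ k, k < 2 * m - 1 → 2 * m - 1 ≤ k + s → B₀ v' ((T ^ k) v') = 0 := by
  have hA := CfsgLib.Classical.sympBil_isAlt (F := F) m
  have hev : ∀ (x : W) (k : ℕ), Even k → B₀ x ((T ^ k) x) = 0 := fun x k hk => by
    have h := adjoint_pow hB k x x
    rw [hk.neg_one_pow, one_mul, CfsgLib.Classical.alt_swap hA] at h
    exact (mul_eq_zero.1 (show (2 : F) * B₀ x ((T ^ k) x) = 0 by linear_combination -h)).resolve_left h2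
  have hb := val_ne_zero hB hT hT' hv (cyclic hT hv).2
  intro s
  induction s with
  | zero => exact ⟨v, rfl, rfl, fun k hk hks => by omega⟩
  | succ s ih =>
    obtain ⟨w, hw1, hw2, hw3⟩ := ih
    by_cases hdone : 2 * m - 1 ≤ s
    · exact ⟨w, hw1, hw2, fun k hk _ => hw3 k hk (by omega)⟩
    obtain ⟨k₀, hk₀⟩ : ∃ k₀, k₀ + (s + 1) = 2 * m - 1 := ⟨2 * m - 1 - (s + 1), by omega⟩
    rcases Nat.even_or_odd k₀ with he | ho
    · refine ⟨w, hw1, hw2, fun k hk hks => ?_⟩
      rcases eq_or_ne k k₀ with rfl | hne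
      · exact hev w k he
      · exact hw3 k hk (by omega)
    · have hr : Even (s + 1) := by
        obtain ⟨a, ha⟩ := ho
        exact ⟨m - 1 - a, by omega⟩
      set b := B₀ v ((T ^ (2 * m - 1)) v)
      set t := - B₀ w ((T ^ k₀) w) / (2 * b)
      have hpow : ∀ n, 2 * m ≤ n → T ^ n = 0 := fun n hn => by
        rw [← Nat.add_sub_cancel' hn, pow_add, hT, zero_mul]
      have key : ∀ k, B₀ (w + t • (T ^ (s + 1)) w) ((T ^ k) (w + t • (T ^ (s + 1)) w)) =
          B₀ w ((T ^ k) w) + 2 * t * B₀ w ((T ^ (k + (s + 1))) w) +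
            t * t * B₀ w ((T ^ ((s + 1) + (k + (s + 1)))) w) := fun k => by
        simp only [map_add, map_smul, LinearMap.add_apply, LinearMap.smul_apply, smul_eq_mul,
          adjoint_pow hB (s + 1), hr.neg_one_pow, one_mul, ← Module.End.mul_apply, ← pow_add]
        rw [add_comm (s + 1) k]
        ring
      have htop : (T ^ (2 * m - 1)) (w + t • (T ^ (s + 1)) w) = (T ^ (2 * m - 1)) w := by
        rw [map_add, map_smul, ← Module.End.mul_apply, ← pow_add, hpow (2 * m - 1 + (s + 1)) (by omega),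
          LinearMap.zero_apply, smul_zero, add_zero]
      refine ⟨w + t • (T ^ (s + 1)) w, htop.trans hw1, ?_, fun k hk hks => ?_⟩
      · rw [key, hpow (2 * m - 1 + (s + 1)) (by omega),
          hpow (s + 1 + (2 * m - 1 + (s + 1))) (by omega)]
        simpa using hw2
      · rw [key, hpow (s + 1 + (k + (s + 1))) (by omega)]
        rcases eq_or_ne k k₀ with rfl | hne
        · rw [hk₀, hw2]
          simp only [LinearMap.zero_apply, map_zero, mul_zero, add_zero, t]
          field_simp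
          ring
        · rw [hpow (k + (s + 1)) (by omega), hw3 k hk (by omega)]
          simp

theorem HasVal.exists_normal (h2 : (2 : F) ≠ 0) {u : Matrix.symplecticGroup (Fin m) F} {b : F}
    (h : HasVal u b) : ∃ T v, Good u T ∧ (T ^ (2 * m - 1)) v ≠ 0 ∧
      ∀ i j : ℕ, B₀ ((T ^ i) v) ((T ^ j) v) = if i + j = 2 * m - 1 then (-1) ^ i * b else 0 := by
  obtain ⟨T, v, hG, hv, rfl⟩ := h
  obtain ⟨w, hw1, hw2, hw3⟩ := normal h2 hG.1 hG.2.1 hG.2.2.1 hv (2 * m - 1)
  refine ⟨T, w, hG, hw1 ▸ hv, fun i j => ?_⟩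
  rw [adjoint_pow hG.1, ← Module.End.mul_apply, ← pow_add]
  split_ifs with hij
  · rw [hij, hw2]
  · rcases lt_or_gt_of_ne hij with h' | h'
    · rw [hw3 _ h' (by omega), mul_zero]
    · rw [show T ^ (i + j) = 0 by
        rw [show i + j = 2 * m + (i + j - 2 * m) by omega, pow_add, hG.2.1, zero_mul]]
      simp

/-- Same square class gives conjugate elements. -/
theorem conj_of_hasVal (h2 : (2 : F) ≠ 0) {u₁ u₂ : Matrix.symplecticGroup (Fin m) F} {b : F}
    (h₁ : HasVal u₁ b) (h₂ : HasVal u₂ b) : IsConj u₁ u₂ := by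
  obtain ⟨T₁, v₁, hG₁, hv₁, hg₁⟩ := h₁.exists_normal h2
  obtain ⟨T₂, v₂, hG₂, hv₂, hg₂⟩ := h₂.exists_normal h2
  obtain ⟨hl₁, hs₁⟩ := cyclic hG₁.2.1 hv₁
  obtain ⟨hl₂, hs₂⟩ := cyclic hG₂.2.1 hv₂
  let b₁ := Module.Basis.mk hl₁ hs₁.ge
  let b₂ := Module.Basis.mk hl₂ hs₂.ge
  let G : W →ₗ[F] W := (b₁.equiv b₂ (Equiv.refl _)).toLinearMap
  have hGb : ∀ i : Fin (2 * m), G ((T₁ ^ (i : ℕ)) v₁) = (T₂ ^ (i : ℕ)) v₂ := fun i => by
    rw [← show b₁ i = (T₁ ^ (i : ℕ)) v₁ from Module.Basis.mk_apply _ _ i,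
      ← show b₂ i = (T₂ ^ (i : ℕ)) v₂ from Module.Basis.mk_apply _ _ i]
    exact Module.Basis.equiv_apply _ _ _ _
  have hiso : ∀ x y, B₀ (G x) (G y) = B₀ x y := by
    intro x y
    have : (B₀).compl₁₂ G G = B₀ := by
      refine LinearMap.ext_basis b₁ b₁ fun i j => ?_
      simp only [LinearMap.compl₁₂_apply, b₁, Module.Basis.mk_apply, hGb, hg₁, hg₂]
    exact LinearMap.congr_fun₂ this x y
  have hGT : (show Module.End F W from G) * T₁ = T₂ * G := by
    refine LinearMap.ext_on_range hs₁ fun i => ?_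
    simp only [Module.End.mul_apply, hGb]
    show G ((T₁ * T₁ ^ (i : ℕ)) v₁) = (T₂ * T₂ ^ (i : ℕ)) v₂
    rw [← pow_succ', ← pow_succ']
    by_cases hi : (i : ℕ) + 1 < 2 * m
    · exact hGb ⟨i + 1, hi⟩
    · have hi' : (i : ℕ) + 1 = 2 * m := by omega
      rw [hi', hG₁.2.1, hG₂.2.1]
      simp
  have hU : (show Module.End F W from G) * Matrix.toLinAlgEquiv' u₁.1 =
      Matrix.toLinAlgEquiv' u₂.1 * G := by
    refine (isUnit_one_sub hG₂.2.1).mul_left_cancel ?_
    rw [← mul_assoc, sub_mul, one_mul, ← hGT, ← mul_assoc, hG₂.2.2.2, add_mul, one_mul, ← hGT]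
    conv_lhs => rw [← mul_one (G : Module.End F W), mul_assoc, ← mul_sub, mul_assoc,
      one_mul, hG₁.2.2.2, mul_add, mul_one]
  refine isConj_iff.2 ⟨⟨Matrix.toLinAlgEquiv'.symm G,
    (CfsgLib.Classical.mem_symplecticGroup_iff_preserves m).2 fun x y => ?_⟩, ?_⟩
  · rw [← Matrix.toLinAlgEquiv'_apply, ← Matrix.toLinAlgEquiv'_apply, AlgEquiv.apply_symm_apply,
      ← CfsgLib.Classical.sympBil_apply, ← CfsgLib.Classical.sympBil_apply]
    exact hiso x y
  · rw [mul_inv_eq_iff_eq_mul]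
    refine Subtype.ext (Matrix.toLinAlgEquiv'.injective ?_)
    change Matrix.toLinAlgEquiv' (Matrix.toLinAlgEquiv'.symm G * u₁.1) =
      Matrix.toLinAlgEquiv' (u₂.1 * Matrix.toLinAlgEquiv'.symm G)
    rw [map_mul, map_mul, AlgEquiv.apply_symm_apply]
    exact hU

/-- Conjugate elements have values in the same square class. -/
theorem square_of_conj (h2 : (2 : F) ≠ 0) {u₁ u₂ : Matrix.symplecticGroup (Fin m) F} {b₁ b₂ : F}
    (h₁ : HasVal u₁ b₁) (h₂ : HasVal u₂ b₂) (hc : IsConj u₁ u₂) : IsSquare (b₁ / b₂) := by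
  have hb₂ := h₂.ne_zero
  obtain ⟨g, hg⟩ := isConj_iff.1 hc
  rw [mul_inv_eq_iff_eq_mul] at hg
  obtain ⟨T₁, v₁, ⟨_, hT₁, _, hU₁⟩, hv₁, rfl⟩ := h₁
  obtain ⟨T₂, v₂, ⟨hB₂, hT₂, _, hU₂⟩, hv₂, rfl⟩ := h₂
  let G : Module.End F W := Matrix.toLinAlgEquiv' g.1
  have hgU : G * Matrix.toLinAlgEquiv' u₁.1 = Matrix.toLinAlgEquiv' u₂.1 * G := by
    show Matrix.toLinAlgEquiv' g.1 * _ = _
    rw [← map_mul, ← map_mul]
    exact congrArg (fun z : Matrix.symplecticGroup (Fin m) F => Matrix.toLinAlgEquiv' z.1) hg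
  set U₁ := Matrix.toLinAlgEquiv' u₁.1
  set U₂ := Matrix.toLinAlgEquiv' u₂.1
  have e : ∀ {T U : Module.End F W}, (1 - T) * U = 1 + T → T * (U + 1) = U - 1 := by
    intro T U h
    rw [mul_add, mul_one, eq_sub_iff_add_eq, add_assoc, add_comm T 1, ← h, sub_mul, one_mul]
    abel
  have hu : IsUnit (U₁ + 1) := by
    have h : (1 - T₁) * (U₁ + 1) = algebraMap F _ 2 := by
      rw [mul_add, mul_one, hU₁, show (2 : F) = 1 + 1 by norm_num, map_add, map_one]
      abel
    obtain ⟨P, hP⟩ := isUnit_one_sub hT₁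
    rw [← Units.inv_mul_cancel_left P (U₁ + 1), hP, h]
    exact P⁻¹.isUnit.mul ((isUnit_iff_ne_zero.2 h2).map _)
  have hGT : G * T₁ = T₂ * G := by
    refine hu.mul_right_cancel ?_
    rw [mul_assoc, e hU₁, mul_assoc, mul_add G, mul_one, hgU, ← add_one_mul, ← mul_assoc,
      e hU₂, sub_mul, one_mul, mul_sub, mul_one, hgU]
  have hGp : ∀ k, G * T₁ ^ k = T₂ ^ k * G := fun k => SemiconjBy.pow_right hGT k
  obtain ⟨hl₂, hs₂⟩ := cyclic hT₂ hv₂
  obtain ⟨c, hc'⟩ := (Submodule.mem_span_range_iff_exists_fun F).1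
    (hs₂ ▸ Submodule.mem_top : G v₁ ∈ Submodule.span F (Set.range fun i : Fin (2 * m) => (T₂ ^ (i : ℕ)) v₂))
  have hm : 0 < 2 * m := by
    rcases Nat.eq_zero_or_pos m with rfl | h
    · exact absurd (Subsingleton.elim _ _) hv₂
    · omega
  set i₀ : Fin (2 * m) := ⟨0, hm⟩
  have htop : (T₂ ^ (2 * m - 1)) (G v₁) = c i₀ • (T₂ ^ (2 * m - 1)) v₂ := by
    rw [← hc', map_sum, Finset.sum_eq_single i₀]
    · rw [map_smul]
      simp [i₀]
    · intro i _ hi
      have hi' : (i : ℕ) ≠ 0 := fun h => hi (Fin.ext h)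
      rw [map_smul, ← Module.End.mul_apply, ← pow_add,
        show 2 * m - 1 + (i : ℕ) = 2 * m + ((i : ℕ) - 1) by omega, pow_add, hT₂, zero_mul]
      simp
    · simp
  have hval : B₀ v₁ ((T₁ ^ (2 * m - 1)) v₁) = c i₀ * c i₀ * B₀ v₂ ((T₂ ^ (2 * m - 1)) v₂) := by
    rw [← preserves g, show Matrix.toLinAlgEquiv' g.1 = G from rfl, ← Module.End.mul_apply G,
      hGp, Module.End.mul_apply, htop, map_smul, smul_eq_mul, mul_assoc]
    congr 1
    rw [← hc', map_sum, LinearMap.sum_apply, Finset.sum_eq_single i₀]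
    · simp [i₀]
    · intro i _ hi
      have hi' : (i : ℕ) ≠ 0 := fun h => hi (Fin.ext h)
      rw [map_smul, LinearMap.smul_apply, adjoint_pow hB₂, ← Module.End.mul_apply, ← pow_add,
        show (i : ℕ) + (2 * m - 1) = 2 * m + ((i : ℕ) - 1) by omega, pow_add, hT₂, zero_mul]
      simp
    · simp
  exact ⟨c i₀, by rw [hval, mul_div_assoc, div_self hb₂, mul_one]⟩

/-- The standard chain. -/
def chain (b : F) (k : ℕ) : W :=
  if h : k < m then Pi.single (.inr ⟨k, h⟩) ((-1) ^ k * b)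
  else if h' : k < 2 * m then Pi.single (.inl ⟨2 * m - 1 - k, by omega⟩) 1 else 0

theorem sympBil_single (a c : Fin m ⊕ Fin m) (s t : F) :
    B₀ (Pi.single a s) (Pi.single c t) = s * t * Matrix.J (Fin m) F a c := by
  simp [CfsgLib.Classical.sympBil, Matrix.toLinearMap₂'_apply', Matrix.mulVec_single]
  ring

theorem chain_gram (b : F) (i j : ℕ) :
    B₀ (chain b i) (chain b j) = if i + j = 2 * m - 1 ∧ i < 2 * m ∧ j < 2 * m then (-1) ^ i * b else 0 := by
  unfold chain
  split_ifs <;>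
    simp only [sympBil_single, map_zero, LinearMap.zero_apply, Matrix.J, Matrix.fromBlocks_apply₁₁,
      Matrix.fromBlocks_apply₁₂, Matrix.fromBlocks_apply₂₁, Matrix.fromBlocks_apply₂₂, Matrix.zero_apply,
      mul_zero, Matrix.neg_apply, Matrix.one_apply, Fin.ext_iff] <;>
    (try rfl) <;> (try omega) <;> (try (rw [if_pos (by omega)]; simp)) <;>
    (try (rw [if_neg (by omega)]; simp))
  all_goals
    rw [Odd.neg_one_pow (Nat.odd_iff.2 (by omega) : Odd (i + j)) |>.symm.trans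
      (pow_add (-1 : F) i j) |> fun h => show (-1 : F) ^ i = -(-1) ^ j from
        mul_right_cancel₀ (pow_ne_zero j (neg_ne_zero.2 one_ne_zero))
          (by rw [← h, neg_mul, ← pow_add, Even.neg_one_pow ⟨j, rfl⟩])]
    ring

/-- Every nonzero scalar occurs. -/
theorem exists_of_val (h2 : (2 : F) ≠ 0) (hm : 1 ≤ m) {b : F} (hb : b ≠ 0) :
    ∃ u : Matrix.symplecticGroup (Fin m) F,
      ((u : Matrix (Fin m ⊕ Fin m) (Fin m ⊕ Fin m) F) - 1) ^ (2 * m) = 0 ∧
      ((u : Matrix (Fin m ⊕ Fin m) (Fin m ⊕ Fin m) F) - 1).rank = 2 * m - 1 ∧ HasVal u b := by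
  classical
  have hli : LinearIndependent F (fun i : Fin (2 * m) => chain (m := m) b i) := by
    rw [Fintype.linearIndependent_iff]
    intro g hg i
    have := congrArg (fun x => B₀ x (chain b (2 * m - 1 - (i : ℕ)))) hg
    simp only [map_sum, map_smul, LinearMap.sum_apply, LinearMap.smul_apply, chain_gram,
      map_zero, LinearMap.zero_apply, smul_eq_mul] at this
    rw [Finset.sum_eq_single i (fun j _ hj => by
      rw [if_neg (by have : (j : ℕ) ≠ i := fun h => hj (Fin.ext h); omega), mul_zero]) (by simp),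
      if_pos ⟨by omega, i.2, by omega⟩] at this
    exact (mul_eq_zero.1 this).resolve_right (mul_ne_zero (pow_ne_zero _ (by norm_num)) hb)
  let bs := Module.Basis.mk hli (hli.span_eq_top_of_card_eq_finrank'
    (by rw [Fintype.card_fin, finrank_W])).ge
  let T : Module.End F W := bs.constr ℕ fun i => chain b ((i : ℕ) + 1)
  have hbs : ∀ i, bs i = chain b i := fun i => Module.Basis.mk_apply _ _ i
  have hT1 : ∀ k, T (chain b k) = chain b (k + 1) := fun k => by
    by_cases hk : k < 2 * m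
    · rw [← hbs ⟨k, hk⟩]; exact bs.constr_basis _ _ _
    · simp [chain, hk, show ¬ k < m by omega, show ¬ k + 1 < m by omega,
        show ¬ k + 1 < 2 * m by omega]
  have hTn : ∀ n k, (T ^ n) (chain b k) = chain b (k + n) := fun n => by
    induction n with
    | zero => intro k; simp
    | succ n ih => intro k; rw [pow_succ, Module.End.mul_apply, hT1, ih, add_right_comm, add_assoc]
  have hB : ∀ x y, B₀ (T x) y = - B₀ x (T y) := by
    have : (B₀).comp T = -((B₀).compl₂ T) := by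
      refine LinearMap.ext_basis bs bs fun i j => ?_
      simp only [LinearMap.comp_apply, LinearMap.neg_apply, LinearMap.compl₂_apply, hbs, hT1,
        chain_gram]
      split_ifs <;> first | omega | simp [pow_succ]
    exact fun x y => LinearMap.congr_fun₂ this x y
  have hT : T ^ (2 * m) = 0 := bs.ext fun i => by
    rw [hbs, hTn, LinearMap.zero_apply, chain, dif_neg (by omega), dif_neg (by omega)]
  have hv : (T ^ (2 * m - 1)) (chain b 0) ≠ 0 := by
    rw [hTn, zero_add]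
    exact hli.ne_zero ⟨2 * m - 1, by omega⟩
  have hval : B₀ (chain b 0) ((T ^ (2 * m - 1)) (chain b 0)) = b := by
    rw [hTn, chain_gram, if_pos ⟨by omega, by omega, by omega⟩]
    simp
  have hT' : T ^ (2 * m - 1) ≠ 0 := fun h => hv (by rw [h]; rfl)
  obtain ⟨P, hP⟩ := isUnit_one_sub hT
  set U : Module.End F W := (1 + T) * (P⁻¹ : (Module.End F W)ˣ) with hUdef
  have hUiso : ∀ x y, B₀ (U x) (U y) = B₀ x y := by
    intro x y
    obtain ⟨a, rfl⟩ : ∃ a, P.1 a = x :=
      ⟨(P⁻¹ : (Module.End F W)ˣ).1 x, by rw [← Module.End.mul_apply, Units.mul_inv, Module.End.one_apply]⟩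
    obtain ⟨c, rfl⟩ : ∃ c, P.1 c = y :=
      ⟨(P⁻¹ : (Module.End F W)ˣ).1 y, by rw [← Module.End.mul_apply, Units.mul_inv, Module.End.one_apply]⟩
    have hUP : ∀ z, U (P.1 z) = z + T z := fun z => by
      rw [← Module.End.mul_apply, hUdef, mul_assoc, Units.inv_mul, mul_one]; rfl
    rw [hUP, hUP, hP]
    simp only [LinearMap.sub_apply, Module.End.one_apply, map_sub, map_add, LinearMap.add_apply, hB]
    ring
  refine ⟨⟨Matrix.toLinAlgEquiv'.symm U,
    (CfsgLib.Classical.mem_symplecticGroup_iff_preserves m).2 fun x y => ?_⟩, ?_, ?_, ?_⟩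
  · rw [← Matrix.toLinAlgEquiv'_apply, ← Matrix.toLinAlgEquiv'_apply, AlgEquiv.apply_symm_apply,
      ← CfsgLib.Classical.sympBil_apply, ← CfsgLib.Classical.sympBil_apply]
    exact hUiso x y
  all_goals
    have hc : Commute T (P⁻¹ : (Module.End F W)ˣ) :=
      (hP ▸ (Commute.one_right T).sub_right (Commute.refl T) : Commute T P.1).units_inv_right
    have hU1 : U - 1 = T * ((2 : F) • ((P⁻¹ : (Module.End F W)ˣ) : Module.End F W)) := by
      rw [← Units.mul_inv P, hUdef, ← sub_mul, hP, mul_smul_comm, ← smul_mul_assoc, two_smul]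
      congr 1
      abel
  · apply Matrix.toLinAlgEquiv'.injective
    rw [map_pow, map_sub, map_one, AlgEquiv.apply_symm_apply, hU1,
      (hc.smul_right (2 : F)).mul_pow, hT, zero_mul, map_zero]
  · rw [Matrix.rank]
    have heq : (Matrix.toLinAlgEquiv'.symm U - 1).mulVecLin =
        T * ((2 : F) • ((P⁻¹ : (Module.End F W)ˣ) : Module.End F W)) := by
      rw [← hU1]
      refine LinearMap.ext fun x => ?_
      rw [Matrix.mulVecLin_apply, ← Matrix.toLinAlgEquiv'_apply, map_sub, map_one,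
        AlgEquiv.apply_symm_apply]
    rw [heq]
    have hsurj : LinearMap.range ((2 : F) • ((P⁻¹ : (Module.End F W)ˣ) : Module.End F W)) = ⊤ := by
      rw [LinearMap.range_smul _ _ h2, LinearMap.range_eq_top]
      exact fun y => ⟨P.1 y, by rw [← Module.End.mul_apply, Units.inv_mul]; rfl⟩
    rw [Module.End.mul_eq_comp, LinearMap.range_comp_of_range_eq_top _ hsurj]
    have h := LinearMap.finrank_range_add_finrank_ker T
    rw [finrank_W] at h
    have hk : finrank F (LinearMap.ker T) ≠ 0 := fun h0 => by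
      rw [Submodule.finrank_eq_zero, LinearMap.ker_eq_bot] at h0
      exact hv (h0.iterate (2 * m - 1) |> fun hi => by
        have : (T ^ (2 * m)) (chain b 0) = 0 := by rw [hT]; rfl
        rw [show 2 * m = 1 + (2 * m - 1) by omega, pow_add, pow_one, Module.End.mul_apply] at this
        exact h0 (this.trans (map_zero T).symm))
    have hle : 2 * m - 1 ≤ finrank F (LinearMap.range T) := by
      have h' : LinearIndependent F fun i : Fin (2 * m - 1) => (⟨chain b ((i : ℕ) + 1),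
          ⟨chain b i, hT1 i⟩⟩ : LinearMap.range T) :=
        LinearIndependent.of_comp (LinearMap.range T).subtype
          (hli.comp (fun i : Fin (2 * m - 1) => (⟨(i : ℕ) + 1, by omega⟩ : Fin (2 * m)))
            fun i j hij => Fin.ext (by simpa using congrArg Fin.val hij))
      simpa using h'.fintype_card_le_finrank
    omega
  · refine ⟨T, chain b 0, ⟨hB, hT, hT', ?_⟩, hv, hval⟩
    rw [AlgEquiv.apply_symm_apply, hUdef, ← hP, ← mul_assoc,
      show (P : Module.End F W) * (1 + T) = (1 + T) * P by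
        rw [hP]; exact ((Commute.one_right _).add_right ((Commute.one_left T).sub_left (Commute.refl T))).eq,
      mul_assoc, Units.mul_inv, mul_one]


/-- Over a finite field of odd order and for m ≥ 1, the regular unipotent elements of Sp_2m(F) (u − 1 nilpotent of rank 2m − 1, a single Jordan block) form exactly two conjugacy classes of Sp_2m(F) (one class under the similarity group, which splits in two). -/
theorem result {F : Type*} [Field F] [Fintype F] {q : ℕ} (hF : Fintype.card F = q) (hq : Odd q) {m : ℕ} (hm : 1 ≤ m) : Nat.card {C : ConjClasses ↥(Matrix.symplecticGroup (Fin m) F) // ∃ u : Matrix.symplecticGroup (Fin m) F, ConjClasses.mk u = C ∧ ((u : Matrix (Fin m ⊕ Fin m) (Fin m ⊕ Fin m) F) - 1) ^ (2 * m) = 0 ∧ ((u : Matrix (Fin m ⊕ Fin m) (Fin m ⊕ Fin m) F) - 1).rank = 2 * m - 1} = 2 := by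
  classical
  subst hF
  have h2 : (2 : F) ≠ 0 := by
    intro h
    have h1 : addOrderOf (1 : F) = 2 := addOrderOf_eq_prime
      (by rw [two_nsmul]; linear_combination h) one_ne_zero
    exact Nat.not_even_iff_odd.2 hq (even_iff_two_dvd.2 (h1 ▸ addOrderOf_dvd_card))
  have hchar : ringChar F ≠ 2 := fun h => h2 (by
    have := ringChar.Nat.cast_ringChar (R := F)
    rw [h] at this
    exact_mod_cast this)
  obtain ⟨ε, hε⟩ := FiniteField.exists_nonsquare hchar
  have hε0 : ε ≠ 0 := fun h => hε (h ▸ IsSquare.zero)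
  obtain ⟨u₁, hn₁, hr₁, hb₁⟩ := exists_of_val (m := m) h2 hm (one_ne_zero (α := F))
  obtain ⟨u₂, hn₂, hr₂, hb₂⟩ := exists_of_val (m := m) h2 hm hε0
  rw [Nat.card_eq_two_iff]
  refine ⟨⟨ConjClasses.mk u₁, u₁, rfl, hn₁, hr₁⟩, ⟨ConjClasses.mk u₂, u₂, rfl, hn₂, hr₂⟩, fun h => ?_,
    Set.eq_univ_of_forall ?_⟩
  · obtain ⟨a, ha⟩ := square_of_conj h2 hb₁ hb₂
      (ConjClasses.mk_eq_mk_iff_isConj.1 (congrArg Subtype.val h))
    exact hε ⟨a⁻¹, by rw [← inv_inv ε, ← mul_inv, ← ha, one_div, inv_inv]⟩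
  · rintro ⟨C, u, rfl, hn, hr⟩
    obtain ⟨T, hT⟩ := exists_good h2 hm u hn hr
    obtain ⟨b, hb⟩ := exists_hasVal hT
    have hb0 := hb.ne_zero
    by_cases hs : IsSquare b
    · obtain ⟨a, ha⟩ := hs
      have ha0 : a ≠ 0 := fun h => hb0 (by rw [ha, h, mul_zero])
      have h' := hb₁.scale ha0
      rw [mul_one, ← ha] at h'
      exact Or.inl (Subtype.ext (ConjClasses.mk_eq_mk_iff_isConj.2 (conj_of_hasVal h2 hb h')))
    · obtain ⟨a, ha⟩ : IsSquare (b * ε) := by
        rw [← quadraticChar_one_iff_isSquare (mul_ne_zero hb0 hε0), map_mul,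
          quadraticChar_neg_one_iff_not_isSquare.2 hs, quadraticChar_neg_one_iff_not_isSquare.2 hε]
        norm_num
      have ha0 : a / ε ≠ 0 := div_ne_zero (fun h => mul_ne_zero hb0 hε0 (by rw [ha, h, mul_zero])) hε0
      have h' := hb₂.scale ha0
      rw [show a / ε * (a / ε) * ε = b by field_simp; linear_combination -ha] at h'
      exact Or.inr (Subtype.ext (ConjClasses.mk_eq_mk_iff_isConj.2 (conj_of_hasVal h2 hb h')))

end Cfsg.Agent.S2591
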