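import Cfsg.Statements.S2594
import Cfsg.Agent.Lib.Classical.SympMatrix
import Mathlib

set_option autoImplicit false
open Cfsg

namespace Cfsg.Agent.S2594

open Matrix CfsgLib.Classical

/-- Over a finite field with q elements, q even, an element t of Sp_2m(F) with rank(t − 1) = 1 (a symplectic transvection) has centraliser in Sp_2m(F) of order q^(2m−1) · |Sp_(2m−2)(q)| = q^(2m−1) · q^((m−1)²) · Π_(i=1)^(m−1) (q^(2i) − 1). -/
theorem result {F : Type*} [Field F] [Fintype F] [CharP F 2] {q : ℕ} (hF : Fintype.card F = q) {m : ℕ} (hm : 1 ≤ m) (t : Matrix.symplecticGroup (Fin m) F) (ht : ((t : Matrix (Fin m ⊕ Fin m) (Fin m ⊕ Fin m) F) - 1).rank = 1) : Nat.card ↥(Subgroup.centralizer ({t} : Set ↥(Matrix.symplecticGroup (Fin m) F))) = q ^ (2 * m - 1) * (q ^ ((m - 1) ^ 2) * ∏ i : Fin (m - 1), (q ^ (2 * ((i : ℕ) + 1)) - 1)) := by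
  classical
  obtain ⟨k, rfl⟩ : ∃ k, m = k + 1 := ⟨m - 1, by omega⟩
  let V := Fin (k + 1) ⊕ Fin (k + 1) → F
  let T : Matrix (Fin (k + 1) ⊕ Fin (k + 1)) (Fin (k + 1) ⊕ Fin (k + 1)) F := t.1 - 1
  obtain ⟨v, hv0, hv⟩ := finrank_eq_one_iff'.mp (ht : Module.finrank F (LinearMap.range T.mulVecLin) = 1)
  have hvne : (v : V) ≠ 0 := fun h => hv0 (Subtype.ext h)
  have hφ : ∀ x : V, ∃ a : F, T *ᵥ x = a • (v : V) := fun x => by
    obtain ⟨a, ha⟩ := hv ⟨T *ᵥ x, x, rfl⟩
    exact ⟨a, (congrArg Subtype.val ha).symm⟩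
  choose φ hφ using hφ
  let B := sympBil F (k + 1)
  have hB : ∀ (A : Matrix.symplecticGroup (Fin (k + 1)) F) (x y : V), B (A.1 *ᵥ x) (A.1 *ᵥ y) = B x y := by
    intro A x y
    have h := (spEquiv (k + 1) A).2 x y
    simpa [spEquiv_apply] using h
  obtain ⟨y₀, hy₀⟩ : ∃ y, B (v : V) y = 1 := by
    obtain ⟨y, hy⟩ : ∃ y, B (v : V) y ≠ 0 := by
      by_contra h
      push Not at h
      exact hvne ((sympBil_nondegenerate (F := F) (k + 1)).1 _ h)
    exact ⟨(B (v : V) y)⁻¹ • y, by rw [map_smul, smul_eq_mul, inv_mul_cancel₀ hy]⟩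
  have htx : ∀ x, t.1 *ᵥ x = x + φ x • (v : V) := fun x => by
    rw [← hφ x]
    show t.1 *ᵥ x = x + (t.1 - 1) *ᵥ x
    rw [Matrix.sub_mulVec, Matrix.one_mulVec]
    abel
  have hvv : B (v : V) (v : V) = 0 := sympBil_isAlt (k + 1) _
  have hkey : ∀ x, φ x = φ y₀ * B (v : V) x := by
    intro x
    have h := hB t x y₀
    rw [htx, htx] at h
    simp only [map_add, map_smul, LinearMap.add_apply, LinearMap.smul_apply, smul_eq_mul, hvv] at h
    rw [← (sympBil_isAlt (k + 1)).neg (v : V) x] at h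
    simp only [B] at hy₀
    linear_combination h - φ x * hy₀
  have hc0 : φ y₀ ≠ 0 := fun h0 => by
    apply hvne
    obtain ⟨⟨_, x, rfl⟩, hx⟩ := (⟨v, rfl⟩ : ∃ w, w = v)
    rw [← hx]
    show T *ᵥ x = 0
    rw [hφ x, hkey x, h0, zero_mul, zero_smul]
  have hiff : ∀ g : Matrix.symplecticGroup (Fin (k + 1)) F,
      g * t = t * g ↔ g.1 *ᵥ (v : V) = (v : V) := by
    intro g
    constructor
    · intro h
      have h1 : ∀ x, φ x • (g.1 *ᵥ (v : V)) = φ (g.1 *ᵥ x) • (v : V) := fun x => by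
        have h2 := congrArg (fun z : Matrix.symplecticGroup (Fin (k + 1)) F => z.1 *ᵥ x) h
        simp only [Submonoid.coe_mul, ← Matrix.mulVec_mulVec, htx, Matrix.mulVec_add,
          Matrix.mulVec_smul] at h2
        exact add_left_cancel h2
      have h3 : g.1 *ᵥ (v : V) = B (v : V) (g.1 *ᵥ y₀) • (v : V) := by
        have h4 := h1 y₀
        rw [hkey (g.1 *ᵥ y₀), mul_smul] at h4
        exact smul_right_injective V hc0 h4
      have h5 := hB g (v : V) y₀
      rw [hy₀, h3, map_smul, LinearMap.smul_apply, smul_eq_mul] at h5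
      have h6 : B (v : V) (g.1 *ᵥ y₀) = 1 := by
        rcases mul_self_eq_one_iff.mp h5 with h7 | h7
        · exact h7
        · rw [h7, CharTwo.neg_eq]
      rw [h3, h6, one_smul]
    · intro h
      apply Subtype.ext
      refine Matrix.ext_of_mulVec_single fun i => ?_
      simp only [Submonoid.coe_mul, ← Matrix.mulVec_mulVec, htx, Matrix.mulVec_add,
        Matrix.mulVec_smul, h]
      have := hB g (v : V) (Pi.single i 1)
      rw [h] at this
      rw [hkey, hkey (g.1 *ᵥ _), this]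
  letI : MulAction (Matrix.symplecticGroup (Fin (k + 1)) F) V :=
    { smul := fun A x => A.1 *ᵥ x
      one_smul := fun x => Matrix.one_mulVec x
      mul_smul := fun A A' x => (Matrix.mulVec_mulVec x A.1 A'.1).symm }
  have hstab : Subgroup.centralizer ({t} : Set (Matrix.symplecticGroup (Fin (k + 1)) F)) =
      MulAction.stabilizer (Matrix.symplecticGroup (Fin (k + 1)) F) (v : V) := by
    ext g
    rw [Subgroup.mem_centralizer_singleton_iff, MulAction.mem_stabilizer_iff]
    exact hiff g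
  have horb : MulAction.orbit (Matrix.symplecticGroup (Fin (k + 1)) F) (v : V) = {0}ᶜ := by
    ext u
    constructor
    · rintro ⟨A, rfl⟩ h
      have h' : A.1 *ᵥ (v : V) = 0 := h
      refine hvne ?_
      have h2 := congrArg (fun z => (A⁻¹ : Matrix.symplecticGroup (Fin (k + 1)) F).1 *ᵥ z) h'
      simp only [Matrix.mulVec_mulVec, Matrix.mulVec_zero] at h2
      rw [← Submonoid.coe_mul, inv_mul_cancel] at h2
      simpa using h2
    · intro hu
      exact sp_transitive (k + 1) hvne hu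
  have hcard := Subgroup.card_mul_index (MulAction.stabilizer (Matrix.symplecticGroup (Fin (k + 1)) F) (v : V))
  rw [MulAction.index_stabilizer, horb, ← hstab, Set.ncard_compl, Set.ncard_singleton,
    Nat.card_fun, Nat.card_eq_fintype_card (α := F), hF, Nat.card_sum, Nat.card_fin,
    card_symplecticGroup, hF, Finset.prod_range_succ] at hcard
  rw [Nat.add_sub_cancel, Fin.prod_univ_eq_prod_range (fun i => q ^ (2 * (i + 1)) - 1) k]
  have hpos : 0 < q ^ (k + 1 + (k + 1)) - 1 := by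
    have hq1 : 1 < q := hF ▸ Fintype.one_lt_card
    exact Nat.sub_pos_of_lt (Nat.one_lt_pow (by omega) hq1)
  refine Nat.eq_of_mul_eq_mul_right hpos ?_
  rw [hcard, show 2 * (k + 1) - 1 = 2 * k + 1 by omega,
    show (k + 1) ^ 2 = 2 * k + 1 + k ^ 2 by ring, pow_add,
    show 2 * (k + 1) = k + 1 + (k + 1) by ring]
  ring

end Cfsg.Agent.S2594
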