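import Cfsg.Statements.S2599

set_option autoImplicit false
open Cfsg

namespace Cfsg.Agent.S2599

open Matrix
/-- An irreducible invariant subspace of a semisimple isometry is non-degenerate or totally singular: let Q be a quadratic form on F^n (F finite of characteristic p) with non-degenerate polar form f, x an isometry of Q of order prime to p, and U a non-zero x-invariant subspace containing no x-invariant subspace other than 0 and U. Then U meets its f-orthogonal trivially, or Q vanishes on U, or p = 2, U is a line spanned by a non-singular vector and x fixes U pointwise. -/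
theorem result {F : Type*} [Field F] [Fintype F] {p : ℕ} [Fact p.Prime] [CharP F p] {n : ℕ} (Q : QuadraticForm F (Fin n → F)) (hQ : (QuadraticMap.polarBilin Q).Nondegenerate) (x : ↥(Cfsg.isometryGroup F ⇑Q)) (hx : (orderOf x).Coprime p) (U : Submodule F (Fin n → F)) (hU0 : U ≠ ⊥) (hUx : ∀ u ∈ U, ((x : Matrix.GeneralLinearGroup (Fin n) F) : Matrix (Fin n) (Fin n) F).mulVec u ∈ U) (hirr : ∀ W : Submodule F (Fin n → F), W ≤ U → (∀ w ∈ W, ((x : Matrix.GeneralLinearGroup (Fin n) F) : Matrix (Fin n) (Fin n) F).mulVec w ∈ W) → W = ⊥ ∨ W = U) : U ⊓ LinearMap.BilinForm.orthogonal (QuadraticMap.polarBilin Q) U = ⊥ ∨ (∀ u ∈ U, Q u = 0) ∨ (p = 2 ∧ Module.finrank F U = 1 ∧ (∃ u ∈ U, Q u ≠ 0) ∧ ∀ u ∈ U, ((x : Matrix.GeneralLinearGroup (Fin n) F) : Matrix (Fin n) (Fin n) F).mulVec u = u) := by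
  classical
  set M := ((x : Matrix.GeneralLinearGroup (Fin n) F) : Matrix (Fin n) (Fin n) F)
  have hMinj : Function.Injective M.mulVec := Matrix.mulVec_injective_of_isUnit
    ((x : Matrix.GeneralLinearGroup (Fin n) F).isUnit)
  have hQx : ∀ v, Q (M *ᵥ v) = Q v := fun v => x.2 v v
  have hpol : ∀ u v, QuadraticMap.polar Q (M *ᵥ u) (M *ᵥ v) = QuadraticMap.polar Q u v := by
    intro u v
    simp only [QuadraticMap.polar, ← Matrix.mulVec_add, hQx]
  let f : U →ₗ[F] U := (Matrix.mulVecLin M).restrict hUx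
  have hfs : Function.Surjective f := LinearMap.injective_iff_surjective.1
    (fun a b h => Subtype.ext (hMinj (congrArg Subtype.val h)))
  set W := U ⊓ LinearMap.BilinForm.orthogonal (QuadraticMap.polarBilin Q) U with hW
  have hWinv : ∀ w ∈ W, M *ᵥ w ∈ W := by
    rintro w ⟨hwU, hwo⟩
    refine ⟨hUx w hwU, fun u hu => ?_⟩
    obtain ⟨⟨u', hu'⟩, hfu⟩ := hfs ⟨u, hu⟩
    have : M *ᵥ u' = u := congrArg Subtype.val hfu
    rw [← this]
    show QuadraticMap.polar Q _ _ = 0
    rw [hpol]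
    exact hwo u' hu'
  rcases hirr W inf_le_left hWinv with h | h
  · exact Or.inl h
  right
  have hperp : ∀ u ∈ U, ∀ v ∈ U, QuadraticMap.polar Q u v = 0 := fun u hu v hv => by
    have hv' : v ∈ W := h.symm ▸ hv
    exact hv'.2 u hu
  by_cases h2 : (2 : F) = 0
  swap
  · left
    intro u hu
    have := hperp u hu u hu
    rw [QuadraticMap.polar_self, nsmul_eq_mul] at this
    exact (mul_eq_zero.1 this).resolve_left (by exact_mod_cast h2)
  have hp2 : p = 2 := by
    have : ((2 : ℕ) : F) = 0 := by exact_mod_cast h2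
    rw [CharP.cast_eq_zero_iff F p] at this
    exact (Nat.prime_dvd_prime_iff_eq Fact.out Nat.prime_two).1 this
  subst hp2
  have hadd : ∀ u ∈ U, ∀ v ∈ U, Q (u + v) = Q u + Q v := fun u hu v hv => by
    have := hperp u hu v hv
    simp only [QuadraticMap.polar] at this
    linear_combination this
  let Z : Submodule F (Fin n → F) :=
    { carrier := {u | u ∈ U ∧ Q u = 0}
      add_mem' := fun {a b} ha hb => ⟨U.add_mem ha.1 hb.1, by rw [hadd a ha.1 b hb.1, ha.2, hb.2, add_zero]⟩
      zero_mem' := ⟨U.zero_mem, QuadraticMap.map_zero Q⟩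
      smul_mem' := fun c a ha => ⟨U.smul_mem c ha.1, by rw [QuadraticMap.map_smul, ha.2, smul_zero]⟩ }
  rcases hirr Z (fun u hu => hu.1) (fun w hw => ⟨hUx w hw.1, by rw [hQx]; exact hw.2⟩) with hZ | hZ
  swap
  · left
    intro u hu
    have hu' : u ∈ Z := hZ.symm ▸ hu
    exact hu'.2
  right
  have hzero : ∀ u ∈ U, Q u = 0 → u = 0 := fun u hu h0 => by
    have hu' : u ∈ Z := ⟨hu, h0⟩
    rw [hZ] at hu'
    exact (Submodule.mem_bot F).1 hu'
  obtain ⟨v, hv, hv0⟩ := Submodule.exists_mem_ne_zero_of_ne_bot hU0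
  have hQv : Q v ≠ 0 := fun h0 => hv0 (hzero v hv h0)
  have hmul : ∀ u ∈ U, ∃ a : F, a • v = u := by
    intro u hu
    obtain ⟨a, ha⟩ := FiniteField.isSquare_of_char_two (ringChar.eq F 2) (Q u / Q v)
    refine ⟨a, ?_⟩
    refine (sub_eq_zero.1 (hzero _ (U.sub_mem (U.smul_mem a hv) hu) ?_))
    rw [sub_eq_add_neg, hadd _ (U.smul_mem a hv) _ (U.neg_mem hu), QuadraticMap.map_neg,
      QuadraticMap.map_smul, smul_eq_mul, ← ha, div_mul_cancel₀ _ hQv, CharTwo.add_self_eq_zero]
  refine ⟨rfl, ?_, ⟨v, hv, hQv⟩, ?_⟩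
  · exact finrank_eq_one (⟨v, hv⟩ : U) (fun h0 => hv0 (congrArg Subtype.val h0))
      (fun w => by obtain ⟨a, ha⟩ := hmul w.1 w.2; exact ⟨a, Subtype.ext ha⟩)
  · intro u hu
    obtain ⟨a, ha⟩ := hmul _ (hUx v hv)
    have h1 : a * a = 1 := by
      have := congrArg Q ha
      rw [QuadraticMap.map_smul, hQx, smul_eq_mul] at this
      exact mul_right_cancel₀ hQv (by rw [this, one_mul])
    have ha1 : a = 1 := by
      rcases mul_self_eq_one_iff.1 h1 with h | h
      · exact h
      · rw [h, CharTwo.neg_eq]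
    obtain ⟨b, rfl⟩ := hmul u hu
    rw [Matrix.mulVec_smul, ← ha, ha1, one_smul]

end Cfsg.Agent.S2599
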