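import Cfsg.Statements.S2610
import Cfsg.Agent.Lib.KnownC.OrthTools

set_option autoImplicit false
open Cfsg

namespace Cfsg.Agent.S2610

open CfsgLib.Orth CfsgLib.KnownC.OrthTools
/-- For a quadratic form Q on F^n with non-degenerate polar form, F finite of odd order and n ≥ 2 even, the isometry −1 lies in Ω (the commutator subgroup of the orthogonal group) if and only if the discriminant of Q (the determinant of the Gram matrix of its polar form) is a square. -/
theorem result {F : Type*} [Field F] [Fintype F] (h2 : (2 : F) ≠ 0) {n : ℕ} (hn : 2 ≤ n) (he : Even n) (Q : QuadraticForm F (Fin n → F)) (hQ : (QuadraticMap.polarBilin Q).Nondegenerate) : (∃ g : ↥(Cfsg.isometryGroup F ⇑Q), g ∈ Cfsg.Omega F ⇑Q ∧ ((g : Matrix.GeneralLinearGroup (Fin n) F) : Matrix (Fin n) (Fin n) F) = -1) ↔ IsSquare (Matrix.of (fun i j : Fin n => QuadraticMap.polar ⇑Q (Pi.single i 1) (Pi.single j 1))).det := by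
  classical
  haveI : Invertible (2 : F) := invertibleOfNonzero h2
  obtain ⟨v, hv⟩ := LinearMap.BilinForm.exists_orthogonal_basis (B := QuadraticMap.polarBilin Q)
    ⟨fun x y => QuadraticMap.polar_comm _ _ _⟩
  have hne : ∀ i, Q (v i) ≠ 0 := by
    intro i h0
    refine v.ne_zero i (eq_zero_of_polar hQ fun w => ?_)
    rw [← v.sum_repr w, ← QuadraticMap.polarBilin_apply_apply, map_sum]
    refine Finset.sum_eq_zero fun j _ => ?_
    rw [map_smul, QuadraticMap.polarBilin_apply_apply]
    rcases eq_or_ne i j with rfl | hij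
    · rw [polar_self', h0]; simp
    · rw [show QuadraticMap.polar ⇑Q (v i) (v j) = 0 from hv hij, smul_zero]
  let e : Fin (Module.finrank F (Fin n → F)) ≃ Fin n := finCongr (Module.finrank_fin_fun F)
  let b := v.reindex e
  have hb : ∀ i j, i ≠ j → QuadraticMap.polar ⇑Q (b i) (b j) = 0 := fun i j hij => by
    simp only [b, Module.Basis.reindex_apply]
    exact hv (fun h => hij (e.symm.injective h))
  have hbne : ∀ i, Q (b i) ≠ 0 := fun i => by simpa [b] using hne (e.symm i)
  set L := (List.finRange n).map b with hL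
  have hLne : ∀ a ∈ L, Q a ≠ 0 := by
    intro a ha
    obtain ⟨i, -, rfl⟩ := List.mem_map.1 ha
    exact hbne i
  have hact : ∀ (l : List (Fin n)), l.Nodup → ∀ j, ((l.map b).map (refl Q)).prod.1 (b j) = (if j ∈ l then (-1 : F) else 1) • b j := by
    intro l
    induction l with
    | nil => intro _ j; simp
    | cons i l ih =>
      intro hnd j
      rw [List.nodup_cons] at hnd
      show (refl Q (b i)).1 (((l.map b).map (refl Q)).prod.1 (b j)) = _
      rw [ih hnd.2, map_smul]
      rcases eq_or_ne i j with rfl | hij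
      · rw [if_neg hnd.1, one_smul, refl_self Q (hbne i), if_pos (List.mem_cons_self), neg_one_smul]
      · rw [refl_fix Q (hb i j hij)]
        simp [List.mem_cons, hij.symm]
  have hneg : matOf Q (L.map (refl Q)).prod = -1 := by
    apply Matrix.toLin'.injective
    refine b.ext fun j => ?_
    rw [Matrix.toLin'_apply, Matrix.toLin'_apply, matOf_mulVec, hL, hact _ (List.nodup_finRange n) j,
      if_pos (List.mem_finRange j), Matrix.neg_mulVec, Matrix.one_mulVec, neg_one_smul]
  rw [exists_omega_iff Q (fun _ => rfl) _ _ hneg, prod_refl_mem_commutator_iff hQ h2 L hLne]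
  have hdisc := CfsgLib.KnownC.Discr.isSquare_gram (fun x y => QuadraticMap.polar ⇑Q x y)
    (Matrix.of (fun i j : Fin n => QuadraticMap.polar ⇑Q (Pi.single i 1) (Pi.single j 1))) (fun x y => ?_) b
  · rw [← hdisc]
    have hdiag : (Matrix.of fun i j => QuadraticMap.polar ⇑Q (b i) (b j)) = Matrix.diagonal (fun i => 2 * Q (b i)) := by
      ext i j
      rcases eq_or_ne i j with rfl | hij
      · simp [polar_self']
      · simp [hij, hb i j hij]
    rw [hdiag, Matrix.det_diagonal, Finset.prod_mul_distrib, Finset.prod_const, Finset.card_univ, Fintype.card_fin]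
    have hprod : (L.map (fun a => Q a)).prod = ∏ i, Q (b i) := by
      rw [hL, List.map_map, Fin.prod_univ_def]; rfl
    rw [hprod, hL, List.length_map, List.length_finRange]
    obtain ⟨k, rfl⟩ := he
    constructor
    · rintro ⟨-, r, hr⟩
      exact ⟨2 ^ k * r, by rw [hr, pow_add]; ring⟩
    · rintro ⟨r, hr⟩
      refine ⟨⟨k, rfl⟩, r / 2 ^ k, ?_⟩
      field_simp
      rw [pow_add] at hr
      linear_combination hr
  · show QuadraticMap.polar ⇑Q x y = _
    conv_lhs => rw [pi_eq_sum_univ' x, pi_eq_sum_univ' y]
    simp only [← QuadraticMap.polarBilin_apply_apply, map_sum, map_smul, LinearMap.sum_apply, LinearMap.smul_apply,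
      dotProduct, Matrix.mulVec, Matrix.of_apply, Finset.mul_sum, smul_eq_mul]
    rw [Finset.sum_comm]
    exact Finset.sum_congr rfl fun i _ => Finset.sum_congr rfl fun j _ => by
      simp only [QuadraticMap.polarBilin_apply_apply]; ring

end Cfsg.Agent.S2610
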