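import Cfsg.Statements.S2611
import Cfsg.Agent.Lib.KnownC.PlusTools

set_option autoImplicit false
open Cfsg

namespace Cfsg.Agent.S2611

open CfsgLib.Orth CfsgLib.KnownC.OrthTools CfsgLib.KnownC.PlusTools
open Matrix
/-- For the hyperbolic quadratic form Σ x_i y_i on F^(2m) (F finite, m ≥ 1, excluding m = 2 over the field of two elements) and an invertible m × m matrix A, the block-diagonal isometry diag(A, (A⁻¹)ᵀ), which stabilises the two maximal totally singular subspaces x = 0 and y = 0, lies in Ω⁺_2m(F) (the commutator subgroup of the orthogonal group) if and only if det A is a square in F. -/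
theorem result {F : Type*} [Field F] [Fintype F] {m : ℕ} (hm : 1 ≤ m) (h : Fintype.card F ≠ 2 ∨ m ≠ 2) (A : GL (Fin m) F) : (∃ g : ↥(Cfsg.isometryGroup F (Cfsg.quadFormPlus m F)), g ∈ Cfsg.Omega F (Cfsg.quadFormPlus m F) ∧ ((g : Matrix.GeneralLinearGroup (Fin m ⊕ Fin m) F) : Matrix (Fin m ⊕ Fin m) (Fin m ⊕ Fin m) F) = Matrix.fromBlocks (A : Matrix (Fin m) (Fin m) F) 0 0 ((A : Matrix (Fin m) (Fin m) F)⁻¹).transpose) ↔ IsSquare (A : Matrix (Fin m) (Fin m) F).det := by
  classical
  have h4 := good_plus h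
  have hQ := plusForm_nondeg (F := F) m
  have hpres : ∀ (B : GL (Fin m) F) (v : Fin m ⊕ Fin m → F), Cfsg.quadFormPlus m F
      ((Matrix.fromBlocks (B : Matrix (Fin m) (Fin m) F) 0 0 ((B : Matrix (Fin m) (Fin m) F)⁻¹).transpose) *ᵥ v) =
      Cfsg.quadFormPlus m F v := by
    intro B v
    have e : ∀ w : Fin m ⊕ Fin m → F, Cfsg.quadFormPlus m F w = (w ∘ Sum.inl) ⬝ᵥ (w ∘ Sum.inr) := fun w => rfl
    rw [e, e, Matrix.fromBlocks_mulVec]
    simp only [Matrix.zero_mulVec, add_zero, zero_add, Sum.elim_comp_inl, Sum.elim_comp_inr]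
    rw [Matrix.mulVec_transpose, dotProduct_comm, ← Matrix.dotProduct_mulVec, Matrix.mulVec_mulVec,
      Matrix.nonsing_inv_mul _ ((Matrix.isUnit_iff_isUnit_det _).1 B.isUnit), Matrix.one_mulVec, dotProduct_comm]
  have hex : ∀ B : GL (Fin m) F, ∃ g : orthGroup (plusForm F m), matOf (plusForm F m) g =
      Matrix.fromBlocks (B : Matrix (Fin m) (Fin m) F) 0 0 ((B : Matrix (Fin m) (Fin m) F)⁻¹).transpose := by
    intro B
    obtain ⟨g, hg⟩ := exists_of_preserving hQ (Matrix.mulVecLin
      (Matrix.fromBlocks (B : Matrix (Fin m) (Fin m) F) 0 0 ((B : Matrix (Fin m) (Fin m) F)⁻¹).transpose))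
      (fun v => by rw [← plusForm_apply, ← plusForm_apply]; exact hpres B v)
    refine ⟨g, Matrix.toLin'.injective (LinearMap.ext fun v => ?_)⟩
    rw [Matrix.toLin'_apply, matOf_mulVec, hg, Matrix.mulVecLin_apply, Matrix.toLin'_apply]
  choose ψ hψ using hex
  have hψmul : ∀ B C, ψ (B * C) = ψ B * ψ C := fun B C => by
    apply matOf_injective
    rw [matOf_mul, hψ, hψ, hψ, Matrix.fromBlocks_multiply]
    simp [Matrix.mul_inv_rev, Matrix.transpose_mul]
  let Ψ : GL (Fin m) F →* orthGroup (plusForm F m) := MonoidHom.mk' ψ hψmul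
  have hΨ : ∀ B, Ψ B = ψ B := fun _ => rfl
  rw [exists_omega_iff (plusForm F m) (plusForm_apply m) (ψ A) _ (hψ A)]
  have hpar : ∀ B, Even (lagDist (xSpace F m) ((xSpace F m).map ((ψ B).1 : (Fin m ⊕ Fin m → F) →ₗ[F] (Fin m ⊕ Fin m → F)))) := by
    intro B
    have hst : (xSpace F m).map ((ψ B).1 : (Fin m ⊕ Fin m → F) →ₗ[F] (Fin m ⊕ Fin m → F)) = xSpace F m := by
      refine mem_stab_of_le fun u hu => mem_xSpace.2 fun i => ?_
      rw [← matOf_mulVec, hψ, Matrix.fromBlocks_mulVec]
      have hu0 : u ∘ Sum.inr = 0 := funext (mem_xSpace.1 hu)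
      simp [hu0]
    rw [hst, lagDist_self]; exact ⟨0, rfl⟩
  by_cases h2 : (2 : F) = 0
  · haveI : CharP F 2 := CharTwo.of_one_ne_zero_of_two_eq_zero one_ne_zero h2
    exact iff_of_true ((mem_commutator_iff_even_two hQ h4 isLagrangian_xSpace _).2 (hpar A))
      (FiniteField.isSquare_of_char_two (ringChar.eq F 2) _)
  rw [mem_commutator_odd hQ h2, and_iff_right ((det_eq_one_iff hQ h2 isLagrangian_xSpace _).2 (hpar A))]
  let θ : GL (Fin m) F →* ℤˣ := (levelSign (plusForm F m) 1).comp Ψ
  suffices hθ : ((θ A : ℤˣ) : ℤ) = quadraticChar F (A : Matrix (Fin m) (Fin m) F).det by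
    rw [← quadraticChar_one_iff_isSquare (show (A : Matrix (Fin m) (Fin m) F).det ≠ 0 from
      ((Matrix.isUnit_iff_isUnit_det _).1 A.isUnit).ne_zero), ← hθ]
    exact ⟨fun h => by show ((levelSign _ 1 (ψ A) : ℤˣ) : ℤ) = 1; rw [h]; rfl, fun h => Units.ext h⟩
  let P : Matrix (Fin m) (Fin m) F → Prop := fun M => ∀ hM : M.det ≠ 0,
    ((θ (Matrix.GeneralLinearGroup.mkOfDetNeZero M hM) : ℤˣ) : ℤ) = quadraticChar F M.det
  have hdetA : (A : Matrix (Fin m) (Fin m) F).det ≠ 0 := ((Matrix.isUnit_iff_isUnit_det _).1 A.isUnit).ne_zero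
  suffices hP : P (A : Matrix (Fin m) (Fin m) F) by
    have e : Matrix.GeneralLinearGroup.mkOfDetNeZero (A : Matrix (Fin m) (Fin m) F) hdetA = A := Units.ext rfl
    have h' := hP hdetA
    rwa [e] at h'
  refine Matrix.diagonal_transvection_induction_of_det_ne_zero P _ hdetA ?_ ?_ ?_
  · intro D hD hD'
    have hDi : ∀ i, D i ≠ 0 := by
      intro i h0
      exact hD (by rw [Matrix.det_diagonal]; exact Finset.prod_eq_zero (Finset.mem_univ i) h0)
    let toD : (Fin m → Fˣ) →* GL (Fin m) F :=
      MonoidHom.toHomUnits ((Matrix.diagonalRingHom (Fin m) F).toMonoidHom.comp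
        (MonoidHom.pi fun i => (Units.coeHom F).comp (Pi.evalMonoidHom _ i)))
    let u : Fin m → Fˣ := fun i => Units.mk0 (D i) (hDi i)
    have hu : Matrix.GeneralLinearGroup.mkOfDetNeZero (Matrix.diagonal D) hD' = toD u := Units.ext rfl
    have hcoord : ∀ (i : Fin m) (c : Fˣ), ((θ (toD (Pi.mulSingle i c)) : ℤˣ) : ℤ) = quadraticChar F c := by
      intro i c
      obtain ⟨e1, e2, e3⟩ := pair_facts (F := F) i
      show ((levelSign (plusForm F m) 1 (ψ _) : ℤˣ) : ℤ) = _
      rw [← levelSign_torus hQ h2 e1 e2 e3 c.ne_zero]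
      congr 2
      apply matOf_injective
      rw [hψ]
      have hv : ((toD (Pi.mulSingle i c) : GL (Fin m) F) : Matrix (Fin m) (Fin m) F) =
          Matrix.diagonal (fun j => if j = i then (c : F) else 1) := by
        ext a b
        show Matrix.diagonal (fun j => ((Pi.mulSingle i c : Fin m → Fˣ) j : F)) a b = _
        rcases eq_or_ne a b with rfl | hab
        · simp [Pi.mulSingle_apply, apply_ite Units.val]
        · simp [hab]
      rw [hv, Matrix.inv_eq_right_inv (B := Matrix.diagonal fun j => if j = i then (c : F)⁻¹ else 1) (by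
        rw [Matrix.diagonal_mul_diagonal, ← Matrix.diagonal_one]
        congr 1; funext j; split_ifs <;> simp), Matrix.diagonal_transpose]
      refine (matOf_eq_diagonal _ _ (fun k => if k = Sum.inl i then (c : F) else if k = Sum.inr i then (c : F)⁻¹ else 1) fun k => ?_).trans ?_ |>.symm
      · funext l
        rw [torus_apply i c.ne_zero, Pi.smul_apply, smul_eq_mul]
        rcases eq_or_ne l k with rfl | hlk
        · rfl
        · simp [hlk]
      · rw [Matrix.fromBlocks_diagonal]
        congr 1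
        funext k
        rcases k with k | k <;> simp
    rw [hu]
    show (((θ.comp toD) u : ℤˣ) : ℤ) = _
    rw [← Finset.univ_prod_mulSingle u, map_prod, Units.coe_prod, Matrix.det_diagonal, map_prod]
    exact Finset.prod_congr rfl fun i _ => hcoord i (u i)
  · intro t ht
    have hdett : t.toMatrix.det = 1 := by rw [Matrix.TransvectionStruct.det]
    set E := Matrix.GeneralLinearGroup.mkOfDetNeZero t.toMatrix ht
    haveI : Fact (ringChar F).Prime := ⟨CharP.char_is_prime F _⟩
    have hp2 : ringChar F ≠ 2 := fun h' => by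
      haveI : CharP F 2 := ringChar.eq_iff.1 h'
      exact h2 CharTwo.two_eq_zero
    have hEp : E ^ ringChar F = 1 := by
      apply Units.ext
      rw [Units.val_pow_eq_pow_val, Units.val_one]
      show t.toMatrix ^ ringChar F = 1
      obtain ⟨i, j, hij, c⟩ := t
      show Matrix.transvection i j c ^ ringChar F = 1
      have hpow : ∀ k : ℕ, Matrix.transvection i j c ^ k = Matrix.transvection i j ((k : F) * c) := by
        intro k
        induction k with
        | zero => simp
        | succ k ih => rw [pow_succ, ih, Matrix.transvection_mul_transvection_same i j hij, Nat.cast_succ, add_mul, one_mul]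
      rw [hpow, CharP.cast_eq_zero, zero_mul, Matrix.transvection_zero]
    rw [hdett, map_one]
    rcases Int.units_eq_one_or (θ E) with h1 | h1
    · rw [h1]; rfl
    · have h3 := congrArg θ hEp
      rw [map_pow, map_one, h1, ((Nat.Prime.eq_two_or_odd' Fact.out).resolve_left hp2).neg_one_pow] at h3
      exact absurd h3 (by decide)
  · intro B C hB hC hPB hPC hBC
    have e : Matrix.GeneralLinearGroup.mkOfDetNeZero (B * C) hBC =
        Matrix.GeneralLinearGroup.mkOfDetNeZero B hB * Matrix.GeneralLinearGroup.mkOfDetNeZero C hC := Units.ext rfl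
    rw [e, map_mul, Units.val_mul, hPB hB, hPC hC, Matrix.det_mul, map_mul]

end Cfsg.Agent.S2611
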