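import Cfsg.Statements.S2612
import Cfsg.Agent.Lib.KnownC.PlusTools

set_option autoImplicit false
open Cfsg

namespace Cfsg.Agent.S2612

open CfsgLib.Orth CfsgLib.KnownC.OrthTools CfsgLib.KnownC.PlusTools
/-- For the hyperbolic quadratic form Σ x_i y_i on F^(2m) (F finite, m ≥ 1, excluding m = 2 over the field of two elements), Ω⁺_2m(F) (the commutator subgroup of the orthogonal group) contains an element interchanging the two complementary maximal totally singular subspaces {y = 0} and {x = 0} if and only if m is even (dimension divisible by 4). -/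
theorem result {F : Type*} [Field F] [Fintype F] {m : ℕ} (hm : 1 ≤ m) (h : Fintype.card F ≠ 2 ∨ m ≠ 2) : (∃ g : ↥(Cfsg.isometryGroup F (Cfsg.quadFormPlus m F)), g ∈ Cfsg.Omega F (Cfsg.quadFormPlus m F) ∧ (∀ v : Fin m ⊕ Fin m → F, (∀ i, v (Sum.inr i) = 0) → ∀ i, (((g : Matrix.GeneralLinearGroup (Fin m ⊕ Fin m) F) : Matrix (Fin m ⊕ Fin m) (Fin m ⊕ Fin m) F).mulVec v) (Sum.inl i) = 0) ∧ (∀ v : Fin m ⊕ Fin m → F, (∀ i, v (Sum.inl i) = 0) → ∀ i, (((g : Matrix.GeneralLinearGroup (Fin m ⊕ Fin m) F) : Matrix (Fin m ⊕ Fin m) (Fin m ⊕ Fin m) F).mulVec v) (Sum.inr i) = 0)) ↔ Even m := by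
  classical
  have h4 := good_plus h
  have hQ := plusForm_nondeg (F := F) m
  constructor
  · rintro ⟨g, hg, hxy, -⟩
    set φ := toOrth (plusForm F m) (plusForm_apply m) g
    have hcomm : φ ∈ commutator _ := (mem_Omega_iff (plusForm F m) (plusForm_apply m) g).1 hg
    have hdist : lagDist (xSpace F m) ((xSpace F m).map (φ.1 : (Fin m ⊕ Fin m → F) →ₗ[F] (Fin m ⊕ Fin m → F))) = m := by
      have hbot : xSpace F m ⊓ (xSpace F m).map (φ.1 : (Fin m ⊕ Fin m → F) →ₗ[F] (Fin m ⊕ Fin m → F)) = ⊥ := by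
        rw [Submodule.eq_bot_iff]
        rintro _ ⟨hu, v, hv, rfl⟩
        funext k
        rcases k with i | i
        · exact hxy v (mem_xSpace.1 hv) i
        · exact mem_xSpace.1 hu i
      rw [lagDist_eq, hbot, finrank_bot, Nat.sub_zero]
    rw [← hdist]
    by_cases h2 : (2 : F) = 0
    · haveI : CharP F 2 := CharTwo.of_one_ne_zero_of_two_eq_zero one_ne_zero h2
      exact (mem_commutator_iff_even_two hQ h4 isLagrangian_xSpace φ).1 hcomm
    · exact (det_eq_one_iff hQ h2 isLagrangian_xSpace φ).1 ((mem_commutator_odd hQ h2 φ).1 hcomm).1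
  · intro hev
    obtain ⟨σ, hσ⟩ := exists_swap (F := F) (m := m)
    have hdist : Even (lagDist (xSpace F m) ((xSpace F m).map (σ.1 : (Fin m ⊕ Fin m → F) →ₗ[F] (Fin m ⊕ Fin m → F)))) := by
      have hbot : xSpace F m ⊓ (xSpace F m).map (σ.1 : (Fin m ⊕ Fin m → F) →ₗ[F] (Fin m ⊕ Fin m → F)) = ⊥ := by
        rw [Submodule.eq_bot_iff]
        rintro _ ⟨hu, v, hv, rfl⟩
        funext k
        rcases k with i | i
        · show σ.1 v (Sum.inl i) = 0
          rw [hσ]; exact mem_xSpace.1 hv i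
        · exact mem_xSpace.1 hu i
      rw [lagDist_eq, hbot, finrank_bot, Nat.sub_zero]; exact hev
    let i₀ : Fin m := ⟨0, hm⟩
    obtain ⟨h1, h2, h3⟩ := pair_facts (F := F) i₀
    obtain ⟨c, hc, hmem⟩ := exists_mul_torus_mem hQ h4 isLagrangian_xSpace σ hdist h1 h2 h3
    refine exists_omega_of (plusForm F m) (plusForm_apply m)
      (P := fun M => (∀ v : Fin m ⊕ Fin m → F, (∀ i, v (Sum.inr i) = 0) → ∀ i, (M.mulVec v) (Sum.inl i) = 0) ∧
        ∀ v : Fin m ⊕ Fin m → F, (∀ i, v (Sum.inl i) = 0) → ∀ i, (M.mulVec v) (Sum.inr i) = 0) ⟨_, hmem, ?_, ?_⟩ <;>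
    · intro v hv i
      rw [matOf_mulVec]
      show σ.1 ((torus (plusForm F m) (Pi.single (Sum.inl i₀) 1) (Pi.single (Sum.inr i₀) 1) c).1 v) _ = 0
      rw [hσ]
      simp only [Function.comp_apply, Sum.swap_inl, Sum.swap_inr, torus_apply i₀ hc, hv i, mul_zero]

end Cfsg.Agent.S2612
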