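import Cfsg.Statements.S2614
import Cfsg.Agent.Lib.KnownC.OrthTools

set_option autoImplicit false
open Cfsg

namespace Cfsg.Agent.S2614

open CfsgLib.Orth CfsgLib.KnownC.OrthTools
/-- For the form x_0² + Σ x_j y_j on F^(2m+1), F finite with q elements, q odd, and 1 ≤ i ≤ m: the involution of determinant one negating the first i hyperbolic pairs (and fixing x_0 and the other pairs) lies in Ω_(2m+1)(q) (commutator subgroup of the orthogonal group) if and only if q^i ≡ 1 (mod 4); its (−1)-eigenspace is a hyperbolic 2i-space. -/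
theorem result {F : Type*} [Field F] [Fintype F] {q : ℕ} (hF : Fintype.card F = q) (hq : Odd q) {m : ℕ} (i : ℕ) (hi : 1 ≤ i) (him : i ≤ m) : (∃ g : ↥(Cfsg.isometryGroup F (Cfsg.quadFormOdd m F)), g ∈ Cfsg.Omega F (Cfsg.quadFormOdd m F) ∧ ((g : Matrix.GeneralLinearGroup (Unit ⊕ (Fin m ⊕ Fin m)) F) : Matrix (Unit ⊕ (Fin m ⊕ Fin m)) (Unit ⊕ (Fin m ⊕ Fin m)) F) = Matrix.diagonal (fun k : Unit ⊕ (Fin m ⊕ Fin m) => if (Sum.elim (fun _ : Unit => i) (Sum.elim (fun j : Fin m => (j : ℕ)) (fun j : Fin m => (j : ℕ))) k) < i then (-1 : F) else 1)) ↔ q ^ i % 4 = 1 := by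
  have h2 := two_ne_zero_of_odd hF hq
  rw [diag_neg_iff (oddForm F m) (oddForm_apply m) (oddForm_nondeg m h2) h2
    (fun j : Fin i => Sum.inr (Sum.inl (Fin.castLE him j))) (fun j : Fin i => Sum.inr (Sum.inr (Fin.castLE him j))) _ ?_ ?_ ?_ ?_ ?_ ?_,
    isSquare_neg_one_pow_iff hF hq]
  · intro j; simp [← oddForm_apply, Cfsg.quadFormOdd, Pi.single_apply]
  · intro j; simp [← oddForm_apply, Cfsg.quadFormOdd, Pi.single_apply]
  · intro j k
    simp [oddForm_polar, Pi.single_apply, eq_comm]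
  · intro j k _; simp [oddForm_polar, Pi.single_apply]
  · intro j k _; simp [oddForm_polar, Pi.single_apply]
  · intro k
    rcases k with u | l | l
    · exact Or.inr ⟨if_neg (lt_irrefl i), fun j => by simp [oddForm_polar, Pi.single_apply]⟩
    all_goals by_cases hl : (l : ℕ) < i
    · exact Or.inl ⟨if_pos hl, ⟨l, hl⟩, Or.inl rfl⟩
    · refine Or.inr ⟨if_neg hl, fun j => ?_⟩
      have : Fin.castLE him j ≠ l := fun e => hl (e ▸ j.2)
      simp [oddForm_polar, Pi.single_apply, this, this.symm]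
    · exact Or.inl ⟨if_pos hl, ⟨l, hl⟩, Or.inr rfl⟩
    · refine Or.inr ⟨if_neg hl, fun j => ?_⟩
      have : Fin.castLE him j ≠ l := fun e => hl (e ▸ j.2)
      simp [oddForm_polar, Pi.single_apply, this, this.symm]

end Cfsg.Agent.S2614
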