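import Cfsg.Statements.S2615
import Cfsg.Agent.Lib.KnownC.OrthTools

set_option autoImplicit false
open Cfsg

namespace Cfsg.Agent.S2615

open CfsgLib.Orth CfsgLib.KnownC.OrthTools
/-- For an elliptic form Σ_(j<m−1) x_j y_j + (z₁² + a z₁z₂ + b z₂²) (anisotropic binary part) on F^(2m), F finite with q elements, q odd, and 1 ≤ i ≤ m − 1: the involution negating the first i hyperbolic pairs and fixing the rest lies in Ω⁻_2m(q) (commutator subgroup of the orthogonal group) if and only if q^i ≡ 1 (mod 4). -/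
theorem result {F : Type*} [Field F] [Fintype F] {q : ℕ} (hF : Fintype.card F = q) (hq : Odd q) {m : ℕ} (a b : F) (hab : ∀ z₁ z₂ : F, z₁ ^ 2 + a * z₁ * z₂ + b * z₂ ^ 2 = 0 → z₁ = 0 ∧ z₂ = 0) (i : ℕ) (hi : 1 ≤ i) (him : i + 1 ≤ m) : (∃ g : ↥(Cfsg.isometryGroup F (Cfsg.quadFormMinus (m - 1) F a b)), g ∈ Cfsg.Omega F (Cfsg.quadFormMinus (m - 1) F a b) ∧ ((g : Matrix.GeneralLinearGroup ((Fin (m - 1) ⊕ Fin (m - 1)) ⊕ Fin 2) F) : Matrix ((Fin (m - 1) ⊕ Fin (m - 1)) ⊕ Fin 2) ((Fin (m - 1) ⊕ Fin (m - 1)) ⊕ Fin 2) F) = Matrix.diagonal (fun k : (Fin (m - 1) ⊕ Fin (m - 1)) ⊕ Fin 2 => if (Sum.elim (Sum.elim (fun j : Fin (m - 1) => (j : ℕ)) (fun j : Fin (m - 1) => (j : ℕ))) (fun _ : Fin 2 => i) k) < i then (-1 : F) else 1)) ↔ q ^ i % 4 = 1 := by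
  have h2 := two_ne_zero_of_odd hF hq
  have him' : i ≤ m - 1 := by omega
  rw [diag_neg_iff (minusForm F (m - 1) a b) (minusForm_apply (m - 1) a b) (minusForm_nondeg (m - 1) a b hab) h2
    (fun j : Fin i => Sum.inl (Sum.inl (Fin.castLE him' j))) (fun j : Fin i => Sum.inl (Sum.inr (Fin.castLE him' j))) _ ?_ ?_ ?_ ?_ ?_ ?_,
    isSquare_neg_one_pow_iff hF hq]
  · intro j; simp [← minusForm_apply, Cfsg.quadFormMinus, Pi.single_apply]
  · intro j; simp [← minusForm_apply, Cfsg.quadFormMinus, Pi.single_apply]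
  · intro j k
    simp [minusForm_polar, Pi.single_apply, eq_comm]
  · intro j k _; simp [minusForm_polar, Pi.single_apply]
  · intro j k _; simp [minusForm_polar, Pi.single_apply]
  · intro k
    rcases k with (l | l) | u
    rotate_left 2
    · exact Or.inr ⟨if_neg (lt_irrefl i), fun j => by simp [minusForm_polar, Pi.single_apply]⟩
    all_goals by_cases hl : (l : ℕ) < i
    · exact Or.inl ⟨if_pos hl, ⟨l, hl⟩, Or.inl rfl⟩
    · refine Or.inr ⟨if_neg hl, fun j => ?_⟩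
      have : Fin.castLE him' j ≠ l := fun e => hl (e ▸ j.2)
      simp [minusForm_polar, Pi.single_apply, this, this.symm]
    · exact Or.inl ⟨if_pos hl, ⟨l, hl⟩, Or.inr rfl⟩
    · refine Or.inr ⟨if_neg hl, fun j => ?_⟩
      have : Fin.castLE him' j ≠ l := fun e => hl (e ▸ j.2)
      simp [minusForm_polar, Pi.single_apply, this, this.symm]

end Cfsg.Agent.S2615
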