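import Cfsg.Statements.S2618
import Cfsg.Agent.Lib.Orth.Isometry

set_option autoImplicit false
open Cfsg

namespace Cfsg.Agent.S2618

open CfsgLib.Orth
/-- Standard (parabolic) basis of a non-degenerate quadratic space of odd dimension 2m + 1 over a finite field (the non-degeneracy of the polar form forces the characteristic to be odd): there is a basis e_i, f_i (i < m), x with Q(e_i) = Q(f_i) = 0, B(e_i, f_j) = δ_ij (B the polar form), the e's pairwise orthogonal and the f's pairwise orthogonal, x orthogonal to all of them and Q(x) ≠ 0. -/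
theorem result {F V : Type*} [Field F] [Finite F] [AddCommGroup V] [Module F V] [FiniteDimensional F V] {m : ℕ} (hV : Module.finrank F V = 2 * m + 1) (Q : QuadraticForm F V) (hQ : (QuadraticMap.polarBilin Q).Nondegenerate) : ∃ b : Module.Basis (Unit ⊕ (Fin m ⊕ Fin m)) F V, Q (b (Sum.inl ())) ≠ 0 ∧ (∀ i, QuadraticMap.polar ⇑Q (b (Sum.inl ())) (b (Sum.inr (Sum.inl i))) = 0 ∧ QuadraticMap.polar ⇑Q (b (Sum.inl ())) (b (Sum.inr (Sum.inr i))) = 0) ∧ (∀ i, Q (b (Sum.inr (Sum.inl i))) = 0 ∧ Q (b (Sum.inr (Sum.inr i))) = 0) ∧ (∀ i j, QuadraticMap.polar ⇑Q (b (Sum.inr (Sum.inl i))) (b (Sum.inr (Sum.inr j))) = if i = j then 1 else 0) ∧ (∀ i j, QuadraticMap.polar ⇑Q (b (Sum.inr (Sum.inl i))) (b (Sum.inr (Sum.inl j))) = 0 ∧ QuadraticMap.polar ⇑Q (b (Sum.inr (Sum.inr i))) (b (Sum.inr (Sum.inr j))) = 0) := by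
  classical
  haveI : Fintype F := Fintype.ofFinite F
  obtain ⟨k, A, T, hT, hTA, hdim, hA2, hanis, hnd⟩ := exists_decomposition hQ
  have hA : Module.finrank F A = 1 := by omega
  have hk : k = m := by omega
  subst hk
  obtain ⟨a, ha, ha0⟩ := Submodule.exists_mem_ne_zero_of_ne_bot (p := A) (fun h => by rw [h, finrank_bot] at hA; omega)
  have haQ : Q a ≠ 0 := fun h => ha0 (hanis a ha h)
  have h2 : (2 : F) ≠ 0 := by
    intro h2
    apply ha0
    have := hnd.1 ⟨a, ha⟩ fun w => by
      obtain ⟨c, hc⟩ := (finrank_eq_one_iff_of_nonzero' (⟨a, ha⟩ : A) (fun h => ha0 (congrArg Subtype.val h))).1 hA w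
      show QuadraticMap.polar ⇑Q a (w : V) = 0
      rw [← hc]
      show QuadraticMap.polar ⇑Q a (c • a) = 0
      rw [polar_smul_r', polar_self', h2, zero_mul, mul_zero]
    exact congrArg Subtype.val this
  let S : (Unit ⊕ (Fin k ⊕ Fin k) → F) →ₗ[F] V :=
    (LinearMap.proj (Sum.inl ())).smulRight a + T.comp (LinearMap.funLeft F F Sum.inr)
  have hSp : ∀ v w, QuadraticMap.polar ⇑Q (S v) (S w) = 2 * Q a * (v (Sum.inl ()) * w (Sum.inl ())) +
      QuadraticMap.polar ⇑(plusForm F k) (v ∘ Sum.inr) (w ∘ Sum.inr) := by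
    intro v w
    simp only [S, LinearMap.add_apply, LinearMap.comp_apply, LinearMap.smulRight_apply, LinearMap.proj_apply,
      QuadraticMap.polar_add_left, QuadraticMap.polar_add_right, polar_smul_l', polar_smul_r', polar_self',
      hTA _ a ha, QuadraticMap.polar_comm _ a (T _), polar_of_preserving T hT]
    show _ = _ + QuadraticMap.polar ⇑(plusForm F k) (LinearMap.funLeft F F Sum.inr v) (LinearMap.funLeft F F Sum.inr w)
    ring
  have hinj : Function.Injective S := by
    rw [injective_iff_map_eq_zero]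
    intro v hv
    have h0 : ∀ w, 2 * Q a * (v (Sum.inl ()) * w (Sum.inl ())) +
        QuadraticMap.polar ⇑(plusForm F k) (v ∘ Sum.inr) (w ∘ Sum.inr) = 0 := fun w => by
      rw [← hSp, hv, QuadraticMap.polar_zero_left]
    funext i
    rcases i with u | i
    · have := h0 (Pi.single (Sum.inl u) 1)
      simpa [plusForm_polar, Pi.single_apply, h2, haQ] using this
    · have hzero : v ∘ Sum.inr = 0 := (plusForm_nondeg k).1 _ fun w => by
        have := h0 (Sum.elim 0 w)
        rw [Sum.elim_inl, Pi.zero_apply, mul_zero, mul_zero, zero_add, Sum.elim_comp_inr] at this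
        exact this
      exact congrFun hzero i
  let e := LinearEquiv.ofBijective S ⟨hinj, (LinearMap.injective_iff_surjective_of_finrank_eq_finrank (by
    rw [hV, Module.finrank_fintype_fun_eq_card, Fintype.card_sum, Fintype.card_sum, Fintype.card_fin, Fintype.card_unit]
    omega)).1 hinj⟩
  have hb : ∀ v, ((Pi.basisFun F _).map e) v = S (Pi.single v 1) := fun v => by
    rw [Module.Basis.map_apply, Pi.basisFun_apply]; rfl
  have hSa : ∀ w, Q (S w) = Q a * (w (Sum.inl ()) * w (Sum.inl ())) + plusForm F k (w ∘ Sum.inr) := by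
    intro w
    apply mul_left_cancel₀ h2
    rw [← polar_self', hSp, polar_self']; ring
  refine ⟨(Pi.basisFun F _).map e, ?_, fun i => ⟨?_, ?_⟩, fun i => ⟨?_, ?_⟩, fun i j => ?_, fun i j => ⟨?_, ?_⟩⟩
  · rw [hb, hSa]
    simp [← plusForm_apply, Cfsg.quadFormPlus, haQ]
  all_goals simp [hb, hSa, hSp, ← plusForm_apply, Cfsg.quadFormPlus, plusForm_polar, Pi.single_apply, eq_comm]

end Cfsg.Agent.S2618
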