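import Cfsg.Statements.S2619

set_option autoImplicit false
open Cfsg

namespace Cfsg.Agent.S2619

/-- Over a finite field of characteristic two, given an alternating bilinear form B on a finite-dimensional space, a basis (v_i) and scalars (λ_i), there is exactly one quadratic form whose polar form is B and whose value at each v_i is λ_i. -/
theorem result {F V ι : Type*} [Field F] [Finite F] [CharP F 2] [AddCommGroup V] [Module F V] [Fintype ι] (b : Module.Basis ι F V) (B : LinearMap.BilinForm F V) (hB : B.IsAlt) (c : ι → F) : ∃! Q : QuadraticForm F V, QuadraticMap.polarBilin Q = B ∧ ∀ i, Q (b i) = c i := by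
  classical
  let e := Fintype.equivFin ι
  let M : Matrix ι ι F := Matrix.of fun i j => if i = j then c i else if e i < e j then B (b i) (b j) else 0
  let C : LinearMap.BilinForm F V := Matrix.toBilin b M
  have hC : ∀ i j, C (b i) (b j) = M i j := fun i j => by
    rw [← LinearMap.BilinForm.toMatrix_apply b C i j]
    simp [C, Finsupp.single_apply]
  set R : QuadraticForm F V := LinearMap.BilinMap.toQuadraticMap C
  have hR : QuadraticMap.polarBilin R = B := by
    refine LinearMap.ext_basis b b fun i j => ?_
    rw [QuadraticMap.polarBilin_apply_apply, LinearMap.BilinMap.polar_toQuadraticMap, hC, hC]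
    rcases eq_or_ne i j with rfl | hij
    · rw [hB (b i), CharTwo.add_self_eq_zero]
    · have hsymm : B (b j) (b i) = B (b i) (b j) := by
        rw [← hB.neg_eq, CharTwo.neg_eq]
      rcases lt_or_gt_of_ne (fun h => hij (e.injective h)) with h | h
      · simp [M, hij, hij.symm, h, h.not_gt]
      · simp [M, hij, hij.symm, h, h.not_gt, hsymm]
  have hRv : ∀ i, R (b i) = c i := fun i => by
    rw [LinearMap.BilinMap.toQuadraticMap_apply, hC]
    simp [M]
  refine ⟨R, ⟨hR, hRv⟩, ?_⟩
  rintro Q ⟨hp, hv⟩
  have hadd : ∀ u v, (Q - R) (u + v) = (Q - R) u + (Q - R) v := by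
    intro u v
    have h := LinearMap.congr_fun (LinearMap.congr_fun (hp.trans hR.symm) u) v
    simp only [QuadraticMap.polarBilin_apply_apply, QuadraticMap.polar] at h
    simp only [sub_apply]
    linear_combination h
  refine sub_eq_zero.1 (QuadraticMap.ext fun v => ?_)
  rw [← b.sum_repr v, zero_apply]
  let φ : V →+ F := AddMonoidHom.mk' (fun x => (Q - R) x) hadd
  show φ _ = 0
  rw [map_sum]
  refine Finset.sum_eq_zero fun i _ => ?_
  show (Q - R) _ = 0
  rw [QuadraticMap.map_smul, sub_apply, hv, hRv, sub_self, smul_zero]

end Cfsg.Agent.S2619
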