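import Cfsg.Statements.S2621
import Cfsg.Agent.Lib.KnownC.Discr

set_option autoImplicit false
open Cfsg

namespace Cfsg.Agent.S2621

/-- Discriminant of an elliptic quadratic form Σ_(i<m−1) x_i y_i + z₁² + a z₁z₂ + c z₂² (binary part anisotropic) in dimension 2m over a field with q elements, q odd, m ≥ 1: the determinant of the Gram matrix of its polar form in any basis is a square if and only if m(q − 1)/2 is odd (equivalently q^m ≡ 3 (mod 4)). -/
theorem result {F : Type*} [Field F] [Fintype F] {q : ℕ} (hF : Fintype.card F = q) (hq : Odd q) {m : ℕ} (hm : 1 ≤ m) (a c : F) (hac : ∀ z₁ z₂ : F, z₁ ^ 2 + a * z₁ * z₂ + c * z₂ ^ 2 = 0 → z₁ = 0 ∧ z₂ = 0) {ι : Type*} [Fintype ι] [DecidableEq ι] (b : Module.Basis ι F ((Fin (m - 1) ⊕ Fin (m - 1)) ⊕ Fin 2 → F)) : IsSquare (Matrix.of (fun i j : ι => QuadraticMap.polar (Cfsg.quadFormMinus (m - 1) F a c) (b i) (b j))).det ↔ ¬ Even (m * (q - 1) / 2) := by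
  subst hF
  have h2c : ringChar F ≠ 2 := fun h => by
    obtain ⟨n, hp, hn⟩ := FiniteField.card F (ringChar F)
    rw [hn, h, Nat.odd_pow_iff n.ne_zero] at hq
    exact absurd hq (by decide)
  have h2 : (2 : F) ≠ 0 := Ring.two_ne_zero h2c
  have hns : ¬ IsSquare (a ^ 2 - 4 * c) := by
    rintro ⟨d, hd⟩
    refine one_ne_zero (hac ((-a + d) / 2) 1 ?_).2
    field_simp
    linear_combination -hd
  rw [CfsgLib.KnownC.Discr.isSquare_gram _ _ (CfsgLib.KnownC.Discr.polar_minus a c) b,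
    Matrix.det_fromBlocks_zero₂₁, CfsgLib.KnownC.Discr.det_hyp, Matrix.det_fin_two_of]
  rw [show (-1 : F) ^ (m - 1) * (2 * (2 * c) - a * a) = (-1) ^ m * (a ^ 2 - 4 * c) by
      obtain ⟨k, rfl⟩ : ∃ k, m = k + 1 := ⟨m - 1, by omega⟩
      rw [Nat.add_sub_cancel, pow_succ]; ring,
    CfsgLib.KnownC.Discr.isSquare_mul_nonsquare h2c (pow_ne_zero _ (neg_ne_zero.2 one_ne_zero)) hns,
    CfsgLib.KnownC.Discr.isSquare_neg_one_pow hq]

end Cfsg.Agent.S2621
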