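import Cfsg.Statements.S2622

set_option autoImplicit false
open Cfsg

namespace Cfsg.Agent.S2622

/-- Over a finite field of characteristic two, a non-degenerate symmetric bilinear form that is not alternating (some vector v has B(v, v) ≠ 0) admits an orthonormal basis. -/
theorem result {F V : Type*} [Field F] [Finite F] [CharP F 2] [AddCommGroup V] [Module F V] [FiniteDimensional F V] {n : ℕ} (hV : Module.finrank F V = n) (B : LinearMap.BilinForm F V) (hS : B.IsSymm) (hB : B.Nondegenerate) (hna : ∃ v : V, B v v ≠ 0) : ∃ b : Module.Basis (Fin n) F V, ∀ i j, B (b i) (b j) = if i = j then 1 else 0 := by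
  classical
  haveI : Fintype F := Fintype.ofFinite F
  have hsym : ∀ u v, B u v = B v u := fun u v => by simpa using hS.eq u v
  have hsq : ∀ a : F, IsSquare a := fun a => FiniteField.isSquare_of_char_two (ringChar.eq F 2) a
  have unit : ∀ a : V, B a a ≠ 0 → ∃ c : F, c ≠ 0 ∧ B (c • a) (c • a) = 1 := by
    intro a ha
    obtain ⟨r, hr⟩ := hsq (B a a)
    have hr0 : r ≠ 0 := fun h => ha (by rw [hr, h, zero_mul])
    refine ⟨r⁻¹, inv_ne_zero hr0, ?_⟩
    simp [hr]; field_simp
  have key : ∀ j, j ≤ n → ∃ x : Fin j → V, (∀ i l, B (x i) (x l) = if i = l then 1 else 0) ∧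
      (j < n → ∃ a, (∀ i, B (x i) a = 0) ∧ B a a ≠ 0) := by
    intro j hj
    induction j with
    | zero =>
      obtain ⟨v, hv⟩ := hna
      exact ⟨Fin.elim0, fun i => i.elim0, fun _ => ⟨v, fun i => i.elim0, hv⟩⟩
    | succ j ih =>
      obtain ⟨x, hx, ha'⟩ := ih (by omega)
      obtain ⟨a₀, ha₀, ha₀'⟩ := ha' (by omega)
      obtain ⟨c, -, hc⟩ := unit a₀ ha₀'
      obtain ⟨a, ha, haa⟩ : ∃ a, (∀ i, B (x i) a = 0) ∧ B a a = 1 :=
        ⟨c • a₀, fun i => by simp [ha₀ i], hc⟩
      have mk : ∀ a : V, (∀ i, B (x i) a = 0) → B a a = 1 → ∀ i l : Fin (j + 1),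
          B ((Fin.snoc x a : Fin (j + 1) → V) i) ((Fin.snoc x a : Fin (j + 1) → V) l) = if i = l then 1 else 0 := by
        intro a ha haa i l
        refine Fin.lastCases ?_ (fun i => ?_) i <;> refine Fin.lastCases ?_ (fun l => ?_) l
        · simp [haa]
        · simp only [Fin.snoc_last, Fin.snoc_castSucc, if_neg (Fin.castSucc_lt_last l).ne']
          rw [hsym]; exact ha l
        · simp only [Fin.snoc_last, Fin.snoc_castSucc, if_neg (Fin.castSucc_lt_last i).ne]
          exact ha i
        · simp [hx]
      by_cases hlast : j + 1 < n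
      swap
      · exact ⟨Fin.snoc x a, mk a ha haa, fun h => absurd h hlast⟩
      by_cases hgood : ∃ b, (∀ i, B ((Fin.snoc x a : Fin (j + 1) → V) i) b = 0) ∧ B b b ≠ 0
      · exact ⟨Fin.snoc x a, mk a ha haa, fun _ => hgood⟩
      push Not at hgood
      set U := Submodule.span F (Set.range (Fin.snoc x a : Fin (j + 1) → V))
      have hU : Module.finrank F U ≤ j + 1 := le_trans (finrank_range_le_card _) (by simp)
      obtain ⟨e, he, he0⟩ := Submodule.exists_mem_ne_zero_of_ne_bot (p := LinearMap.BilinForm.orthogonal B U) (fun hb => by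
        have := congrArg (fun S : Submodule F V => Module.finrank F S) hb
        simp only [LinearMap.BilinForm.finrank_orthogonal hB, finrank_bot] at this
        omega)
      have hee : ∀ i, B ((Fin.snoc x a : Fin (j + 1) → V) i) e = 0 := fun i => he _ (Submodule.subset_span ⟨i, rfl⟩)
      obtain ⟨f, hf⟩ : ∃ f, B e f ≠ 0 := by
        by_contra h; push Not at h; exact he0 (hB.1 e h)
      set f₁ := (B e f)⁻¹ • (f - ∑ l, B ((Fin.snoc x a : Fin (j + 1) → V) l) f • (Fin.snoc x a : Fin (j + 1) → V) l) with hf₁
      have hef : B e f₁ = 1 := by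
        have h0 : ∀ l, B e ((Fin.snoc x a : Fin (j + 1) → V) l) = 0 := fun l => by rw [hsym]; exact hee l
        simp [hf₁, map_sub, map_sum, map_smul, h0, hf]
      have hxf : ∀ i, B ((Fin.snoc x a : Fin (j + 1) → V) i) f₁ = 0 := fun i => by
        simp [hf₁, map_sub, map_sum, map_smul, mk a ha haa, Finset.sum_ite_eq]
      have hax : ∀ i, B (x i) (a + e) = 0 := fun i => by
        have := hee i.castSucc
        rw [Fin.snoc_castSucc] at this
        simp [map_add, ha i, this]
      have hae : B a e = 0 := by simpa using hee (Fin.last j)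
      have hee' : B e e = 0 := hgood e hee
      have haf : B a f₁ = 0 := by simpa using hxf (Fin.last j)
      have haae : B (a + e) (a + e) = 1 := by
        simp [map_add, LinearMap.add_apply, haa, hae, hee', hsym e a]
      refine ⟨Fin.snoc x (a + e), mk _ hax haae, fun _ => ⟨a + f₁, fun i => ?_, ?_⟩⟩
      · refine Fin.lastCases ?_ (fun i => ?_) i
        · simp [map_add, LinearMap.add_apply, haa, haf, hef, hsym e a, hae, CharTwo.add_self_eq_zero]
        · have := hxf i.castSucc
          rw [Fin.snoc_castSucc] at this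
          simp [map_add, ha i, this]
      · have hff : B f₁ f₁ = 0 := hgood f₁ hxf
        simp [map_add, LinearMap.add_apply, haa, haf, hff, hsym f₁ a]
  obtain ⟨x, hx, -⟩ := key n le_rfl
  have hli : LinearIndependent F x := by
    rw [Fintype.linearIndependent_iff]
    intro g hg i
    have := congrArg (B (x i)) hg
    simpa [map_sum, map_smul, hx] using this
  rcases n with _ | k
  · exact ⟨Module.finBasisOfFinrankEq F V hV, fun i => i.elim0⟩
  refine ⟨basisOfLinearIndependentOfCardEqFinrank hli (by simp [hV]), fun i j => ?_⟩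
  simp [hx]

end Cfsg.Agent.S2622
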