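import Cfsg.Statements.S2623
import Cfsg.Agent.Lib.Orth.Isometry

set_option autoImplicit false
open Cfsg

namespace Cfsg.Agent.S2623

open CfsgLib.Orth
/-- Over a finite field of odd order, two quadratic forms on F^n with non-degenerate polar forms are isometric (related by an invertible linear change of variables) if and only if their discriminants (determinants of the Gram matrices of their polar forms) lie in the same square class. -/
theorem result {F : Type*} [Field F] [Fintype F] (h2 : (2 : F) ≠ 0) {n : ℕ} (Q₁ Q₂ : QuadraticForm F (Fin n → F)) (h₁ : (QuadraticMap.polarBilin Q₁).Nondegenerate) (h₂ : (QuadraticMap.polarBilin Q₂).Nondegenerate) : (∃ g : (Fin n → F) ≃ₗ[F] (Fin n → F), ∀ v, Q₂ (g v) = Q₁ v) ↔ IsSquare ((Matrix.of (fun i j : Fin n => QuadraticMap.polar ⇑Q₁ (Pi.single i 1) (Pi.single j 1))).det * (Matrix.of (fun i j : Fin n => QuadraticMap.polar ⇑Q₂ (Pi.single i 1) (Pi.single j 1))).det) := by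
  classical
  have hgram : ∀ Q : QuadraticForm F (Fin n → F), (Matrix.of (fun i j : Fin n => QuadraticMap.polar ⇑Q (Pi.single i 1) (Pi.single j 1))) =
      LinearMap.toMatrix₂' F (QuadraticMap.polarBilin Q) := fun Q => by
    ext i j; simp
  have hdet : ∀ (Q Q' : QuadraticForm F (Fin n → F)) (g : (Fin n → F) ≃ₗ[F] (Fin n → F)), (∀ v, Q' (g v) = Q v) →
      (LinearMap.toMatrix₂' F (QuadraticMap.polarBilin Q)).det =
        (LinearMap.det (g : (Fin n → F) →ₗ[F] (Fin n → F))) ^ 2 * (LinearMap.toMatrix₂' F (QuadraticMap.polarBilin Q')).det := by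
    intro Q Q' g hg
    have h : QuadraticMap.polarBilin Q = (QuadraticMap.polarBilin Q').compl₁₂
        (g : (Fin n → F) →ₗ[F] (Fin n → F)) (g : (Fin n → F) →ₗ[F] (Fin n → F)) :=
      LinearMap.ext fun u => LinearMap.ext fun v =>
        (polar_of_preserving (g : (Fin n → F) →ₗ[F] (Fin n → F)) hg u v).symm
    rw [h, LinearMap.toMatrix₂'_compl₁₂, Matrix.det_mul, Matrix.det_mul, Matrix.det_transpose, LinearMap.det_toMatrix']
    ring
  rw [hgram, hgram]
  constructor
  · rintro ⟨g, hg⟩
    rw [hdet Q₁ Q₂ g hg]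
    exact ⟨LinearMap.det (g : (Fin n → F) →ₗ[F] (Fin n → F)) * (LinearMap.toMatrix₂' F (QuadraticMap.polarBilin Q₂)).det, by ring⟩
  intro hsq
  rcases n with _ | k
  · exact ⟨LinearEquiv.refl F _, fun v => by
      rw [Subsingleton.elim v 0, LinearEquiv.refl_apply, QuadraticMap.map_zero, QuadraticMap.map_zero]⟩
  obtain ⟨d₁, e₁, hd₁, he₁⟩ := exists_diag h2 h₁ (Module.finrank_fin_fun F)
  obtain ⟨d₂, e₂, hd₂, he₂⟩ := exists_diag h2 h₂ (Module.finrank_fin_fun F)
  have hD : ∀ d : F, (LinearMap.toMatrix₂' F (QuadraticMap.polarBilin (diagForm k d))).det = 2 ^ (k + 1) * d := by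
    intro d
    have : LinearMap.toMatrix₂' F (QuadraticMap.polarBilin (diagForm k d)) =
        Matrix.diagonal (fun i : Fin (k + 1) => 2 * if i = Fin.last k then d else 1) := by
      ext i j
      rw [LinearMap.toMatrix₂'_apply, QuadraticMap.polarBilin_apply_apply]
      simp only [QuadraticMap.polar, diagForm, QuadraticMap.weightedSumSquares_apply, ← Finset.sum_sub_distrib,
        Pi.add_apply, smul_eq_mul]
      rcases eq_or_ne i j with rfl | hij
      · rw [Finset.sum_eq_single i (fun l _ hl => by simp [hl]) (by simp)]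
        simp only [Pi.single_eq_same, Matrix.diagonal_apply_eq]; ring
      · rw [Matrix.diagonal_apply_ne _ hij]
        refine Finset.sum_eq_zero fun l _ => ?_
        rcases eq_or_ne l i with rfl | hl
        · simp [hij]
        · simp [hl]
    rw [this, Matrix.det_diagonal, Finset.prod_mul_distrib, Finset.prod_const, Finset.card_univ, Fintype.card_fin,
      Finset.prod_ite_eq' Finset.univ (Fin.last k) (fun _ => d)]
    simp
  have q₁ := hdet _ Q₁ e₁ he₁
  have q₂ := hdet _ Q₂ e₂ he₂
  rw [hD] at q₁ q₂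
  set G₁ := (LinearMap.toMatrix₂' F (QuadraticMap.polarBilin Q₁)).det
  set G₂ := (LinearMap.toMatrix₂' F (QuadraticMap.polarBilin Q₂)).det
  obtain ⟨r, hr⟩ := hsq
  set l₁ := LinearMap.det (e₁ : (Fin (k + 1) → F) →ₗ[F] (Fin (k + 1) → F))
  set l₂ := LinearMap.det (e₂ : (Fin (k + 1) → F) →ₗ[F] (Fin (k + 1) → F))
  have h2k : (2 : F) ^ (k + 1) ≠ 0 := pow_ne_zero _ h2
  set t := l₁ * l₂ * r / 2 ^ (k + 1) / d₂ with ht
  have ht2 : t * t * d₂ = d₁ := by
    rw [ht]; field_simp
    linear_combination (-(l₁ ^ 2 * l₂ ^ 2)) * hr - (2 : F) ^ (k + 1) * d₂ * q₁ - l₁ ^ 2 * G₁ * q₂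
  let s : (Fin (k + 1) → F) →ₗ[F] (Fin (k + 1) → F) :=
    LinearMap.pi fun i => (if i = Fin.last k then t else 1) • LinearMap.proj i
  have hs : ∀ v, diagForm k d₂ (s v) = diagForm k d₁ v := by
    intro v
    simp only [diagForm_apply, s, LinearMap.pi_apply, LinearMap.smul_apply, LinearMap.proj_apply, smul_eq_mul]
    simp only [(Fin.castSucc_lt_last _).ne, if_false, if_true, one_mul]
    linear_combination (v (Fin.last k) * v (Fin.last k)) * ht2
  have hsinj : Function.Injective s := by
    intro v w h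
    funext i
    have := congrFun h i
    simp only [s, LinearMap.pi_apply, LinearMap.smul_apply, LinearMap.proj_apply, smul_eq_mul] at this
    refine mul_left_cancel₀ ?_ this
    split_ifs
    · intro h0; rw [h0, zero_mul, zero_mul] at ht2; exact hd₁ ht2.symm
    · exact one_ne_zero
  refine ⟨e₁.symm.trans ((LinearEquiv.ofInjectiveEndo s hsinj).trans e₂), fun v => ?_⟩
  show Q₂ (e₂ (s (e₁.symm v))) = Q₁ v
  rw [he₂, hs, ← he₁, LinearEquiv.apply_symm_apply]

end Cfsg.Agent.S2623
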