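import Cfsg.Statements.S2624
import Cfsg.Agent.Lib.Orth.Isometry
import Cfsg.Agent.S2617

set_option autoImplicit false
open Cfsg

namespace Cfsg.Agent.S2624

open CfsgLib.Orth
/-- For a quadratic form Q on F^n with non-degenerate polar form, F finite and n ≥ 2 even, every non-zero scalar c is the multiplier of some similarity: there is an invertible linear map g with Q(g v) = c·Q(v) for all v. -/
theorem result {F : Type*} [Field F] [Fintype F] {n : ℕ} (hn : 2 ≤ n) (he : Even n) (Q : QuadraticForm F (Fin n → F)) (hQ : (QuadraticMap.polarBilin Q).Nondegenerate) (c : F) (hc : c ≠ 0) : ∃ g : (Fin n → F) ≃ₗ[F] (Fin n → F), ∀ v, Q (g v) = c * Q v := by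
  classical
  obtain ⟨m, rfl⟩ := he
  have hV : Module.finrank F (Fin (m + m) → F) = 2 * m := by rw [Module.finrank_fin_fun]; omega
  have hcQ : (QuadraticMap.polarBilin (c • Q)).Nondegenerate := nondegenerate_of_left fun v hv => hQ.1 v fun w => by
    have h := hv w
    simp only [QuadraticMap.polar, QuadraticMap.smul_apply, smul_eq_mul] at h
    have : c * QuadraticMap.polar ⇑Q v w = 0 := by simp only [QuadraticMap.polar]; linear_combination h
    exact (mul_eq_zero.1 this).resolve_left hc
  have scale : ∀ d : F, d ≠ 0 → ∃ s : (Fin m ⊕ Fin m → F) ≃ₗ[F] (Fin m ⊕ Fin m → F),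
      ∀ v, plusForm F m (s v) = d * plusForm F m v := by
    intro d hd
    let s : (Fin m ⊕ Fin m → F) →ₗ[F] (Fin m ⊕ Fin m → F) :=
      LinearMap.pi fun k => Sum.elim (fun i => d • LinearMap.proj (Sum.inl i)) (fun i => LinearMap.proj (Sum.inr i)) k
    have hinj : Function.Injective s := by
      intro v w h
      funext k
      have := congrFun h k
      rcases k with i | i
      · simpa [s, hd] using this
      · simpa [s] using this
    refine ⟨LinearEquiv.ofInjectiveEndo s hinj, fun v => ?_⟩
    show plusForm F m (s v) = _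
    rw [← plusForm_apply, ← plusForm_apply]
    simp [Cfsg.quadFormPlus, s, Finset.mul_sum, mul_assoc]
  rcases classify_even hQ hV with ⟨e, he⟩ | ⟨h1, e, ζ, hζ, he⟩
  · obtain ⟨s, hs⟩ := scale c hc
    refine ⟨e.symm.trans (s.trans e), fun v => ?_⟩
    show Q (e (s (e.symm v))) = _
    rw [he, hs, ← he, LinearEquiv.apply_symm_apply]
  rcases classify_even hcQ hV with ⟨e', he'⟩ | ⟨-, e', ζ', hζ', he'⟩
  · exfalso
    obtain ⟨s, hs⟩ := scale c hc
    refine Cfsg.Agent.S2617.result (m := m) (by omega) ζ hζ (s.trans (e'.trans e.symm)) (fun v => ?_)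
    rw [minusForm_apply, plusForm_apply]
    show minusForm F (m - 1) 1 ζ (e.symm (e' (s v))) = _
    rw [← he, LinearEquiv.apply_symm_apply]
    apply mul_left_cancel₀ hc
    have h := he' (s v)
    rw [QuadraticMap.smul_apply, smul_eq_mul, hs] at h
    exact h
  · obtain ⟨σ, hσ⟩ := exists_minus_iso (m := m - 1) hζ hζ'
    refine ⟨e'.symm.trans (σ.trans e), fun v => ?_⟩
    show Q (e (σ (e'.symm v))) = _
    rw [he, hσ, ← he', LinearEquiv.apply_symm_apply, QuadraticMap.smul_apply, smul_eq_mul]

end Cfsg.Agent.S2624
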