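import Cfsg.Statements.S2625

set_option autoImplicit false
open Cfsg

namespace Cfsg.Agent.S2625

/-- For a quadratic form Q on F^n with non-degenerate polar form, F finite and n odd (so |F| is odd), the multiplier of any similarity is a square: if g is an invertible linear map with Q(g v) = c·Q(v) for all v then c is a square. -/
theorem result {F : Type*} [Field F] [Fintype F] {n : ℕ} (hn : Odd n) (Q : QuadraticForm F (Fin n → F)) (hQ : (QuadraticMap.polarBilin Q).Nondegenerate) (g : (Fin n → F) ≃ₗ[F] (Fin n → F)) (c : F) (hg : ∀ v, Q (g v) = c * Q v) : IsSquare c := by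
  classical
  set M := LinearMap.toMatrix₂' F (QuadraticMap.polarBilin Q) with hM
  set G := LinearMap.toMatrix' (g : (Fin n → F) →ₗ[F] (Fin n → F)) with hG
  have hM0 : M.det ≠ 0 := by
    have h := LinearMap.BilinForm.nondegenerate_iff_det_ne_zero (B := QuadraticMap.polarBilin Q) (Pi.basisFun F (Fin n))
    have := h.1 hQ
    rwa [LinearMap.BilinForm.toMatrix_basisFun] at this
  have hGd : G.det ≠ 0 := by
    rw [hG, LinearMap.det_toMatrix']
    exact (LinearEquiv.isUnit_det' g).ne_zero
  have hc : G.transpose * M * G = c • M := by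
    rw [hM, hG, ← LinearMap.toMatrix₂'_compl₁₂, ← map_smul]
    congr 1
    refine LinearMap.ext fun u => LinearMap.ext fun v => ?_
    simp only [LinearMap.compl₁₂_apply, LinearMap.smul_apply, smul_eq_mul, QuadraticMap.polarBilin_apply_apply,
      LinearEquiv.coe_coe]
    simp only [QuadraticMap.polar, ← map_add, hg]
    ring
  have h1 := congrArg Matrix.det hc
  rw [Matrix.det_mul, Matrix.det_mul, Matrix.det_transpose, Matrix.det_smul, Fintype.card_fin] at h1
  have h2 : G.det * G.det = c ^ n := by
    apply mul_right_cancel₀ hM0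
    rw [← h1]; ring
  obtain ⟨k, hk⟩ := hn
  have hc0 : c ≠ 0 := fun h => by
    rw [h, zero_pow (by omega)] at h2
    exact hGd (mul_self_eq_zero.1 h2)
  refine ⟨G.det / c ^ k, ?_⟩
  rw [div_mul_div_comm, h2, hk]
  field_simp
  ring

end Cfsg.Agent.S2625
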