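import Cfsg.Statements.S2626

set_option autoImplicit false
open Cfsg

namespace Cfsg.Agent.S2626

open Matrix
/-- Ω of an orthogonal direct sum contains the product of the Ω's: for quadratic forms Q₁ on F^k and Q₂ on F^l with non-degenerate polar forms (F finite) and Q = Q₁ ⊕ Q₂ on F^(k+l), if g₁ lies in Ω(Q₁) and g₂ in Ω(Q₂) (commutator subgroups of the orthogonal groups) then the block-diagonal isometry diag(g₁, g₂) lies in Ω(Q). -/
theorem result {F : Type*} [Field F] [Fintype F] {k l : ℕ} (Q₁ : QuadraticForm F (Fin k → F)) (Q₂ : QuadraticForm F (Fin l → F)) (h₁ : (QuadraticMap.polarBilin Q₁).Nondegenerate) (h₂ : (QuadraticMap.polarBilin Q₂).Nondegenerate) (g₁ : ↥(Cfsg.isometryGroup F ⇑Q₁)) (g₂ : ↥(Cfsg.isometryGroup F ⇑Q₂)) (hg₁ : g₁ ∈ Cfsg.Omega F ⇑Q₁) (hg₂ : g₂ ∈ Cfsg.Omega F ⇑Q₂) : ∃ g : ↥(Cfsg.isometryGroup F (fun v : Fin k ⊕ Fin l → F => Q₁ (v ∘ Sum.inl) + Q₂ (v ∘ Sum.inr))),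 g ∈ Cfsg.Omega F (fun v : Fin k ⊕ Fin l → F => Q₁ (v ∘ Sum.inl) + Q₂ (v ∘ Sum.inr)) ∧ ((g : Matrix.GeneralLinearGroup (Fin k ⊕ Fin l) F) : Matrix (Fin k ⊕ Fin l) (Fin k ⊕ Fin l) F) = Matrix.fromBlocks ((g₁ : Matrix.GeneralLinearGroup (Fin k) F) : Matrix (Fin k) (Fin k) F) 0 0 ((g₂ : Matrix.GeneralLinearGroup (Fin l) F) : Matrix (Fin l) (Fin l) F) := by
  classical
  let Q : (Fin k ⊕ Fin l → F) → F := fun v => Q₁ (v ∘ Sum.inl) + Q₂ (v ∘ Sum.inr)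
  let j : ↥(Cfsg.isometryGroup F ⇑Q₁) × ↥(Cfsg.isometryGroup F ⇑Q₂) →* Matrix (Fin k ⊕ Fin l) (Fin k ⊕ Fin l) F :=
    { toFun := fun a => Matrix.fromBlocks ((a.1 : Matrix.GeneralLinearGroup (Fin k) F) : Matrix (Fin k) (Fin k) F) 0 0
        ((a.2 : Matrix.GeneralLinearGroup (Fin l) F) : Matrix (Fin l) (Fin l) F)
      map_one' := by simp [Matrix.fromBlocks_one]
      map_mul' := fun a b => by simp [Matrix.fromBlocks_multiply] }
  let J := j.toHomUnits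
  have hJ : ∀ a, J a ∈ Cfsg.isometryGroup F Q := by
    intro a u _
    show Q (Matrix.fromBlocks _ 0 0 _ *ᵥ u) = Q u
    simp only [Q, Matrix.fromBlocks_mulVec, Matrix.zero_mulVec, add_zero, zero_add,
      Sum.elim_comp_inl, Sum.elim_comp_inr]
    exact congrArg₂ (· + ·) (a.1.2 _ (u ∘ Sum.inl)) (a.2.2 _ (u ∘ Sum.inr))
  let J' : ↥(Cfsg.isometryGroup F ⇑Q₁) × ↥(Cfsg.isometryGroup F ⇑Q₂) →* ↥(Cfsg.isometryGroup F Q) :=
    J.codRestrict _ hJ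
  refine ⟨J' (g₁, g₂), ?_, rfl⟩
  have hmap : ∀ {A : Type _} [Group A] (f : A →* ↥(Cfsg.isometryGroup F Q)) (a : A), a ∈ commutator A →
      f a ∈ commutator ↥(Cfsg.isometryGroup F Q) := by
    intro A _ f a ha
    refine (?_ : (commutator A).map f ≤ _) ⟨a, ha, rfl⟩
    rw [commutator_def, Subgroup.map_commutator]
    exact Subgroup.commutator_mono le_top le_top
  have h : J' (g₁, g₂) = J'.comp (MonoidHom.inl _ _) g₁ * J'.comp (MonoidHom.inr _ _) g₂ := by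
    simp only [MonoidHom.comp_apply, MonoidHom.inl_apply, MonoidHom.inr_apply, ← map_mul, Prod.mk_mul_mk,
      mul_one, one_mul]
  rw [h]
  exact mul_mem (hmap _ _ hg₁) (hmap _ _ hg₂)

end Cfsg.Agent.S2626
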