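import Cfsg.Statements.S2627
import Cfsg.Agent.Lib.KnownC.OrthTools
import Cfsg.Agent.Lib.Orth.Sum

set_option autoImplicit false
open Cfsg

namespace Cfsg.Agent.S2627

open CfsgLib.Orth CfsgLib.KnownC.OrthTools
open Matrix
/-- For an orthogonal direct sum Q = Q₁ ⊕ Q₂ of quadratic forms with non-degenerate polar forms over a finite field, an isometry g₁ of Q₁ extended by the identity on the second summand lies in Ω(Q) (the commutator subgroup of the orthogonal group of Q) if and only if g₁ lies in Ω(Q₁). (Excluded: the field of two elements when the first summand or the whole space has dimension 4, where the commutator subgroup of O⁺₄(2) is smaller than the group usually called Ω.) -/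
theorem result {F : Type*} [Field F] [Fintype F] {k l : ℕ} (h : Fintype.card F ≠ 2 ∨ (k ≠ 4 ∧ k + l ≠ 4)) (Q₁ : QuadraticForm F (Fin k → F)) (Q₂ : QuadraticForm F (Fin l → F)) (h₁ : (QuadraticMap.polarBilin Q₁).Nondegenerate) (h₂ : (QuadraticMap.polarBilin Q₂).Nondegenerate) (g₁ : ↥(Cfsg.isometryGroup F ⇑Q₁)) : (∃ g : ↥(Cfsg.isometryGroup F (fun v : Fin k ⊕ Fin l → F => Q₁ (v ∘ Sum.inl) + Q₂ (v ∘ Sum.inr))), g ∈ Cfsg.Omega F (fun v : Fin k ⊕ Fin l → F => Q₁ (v ∘ Sum.inl) + Q₂ (v ∘ Sum.inr)) ∧ ((g : Matrix.GeneralLinearGroup (Fin k ⊕ Fin l) F) : Matrix (Fin k ⊕ Fin l) (Fin k ⊕ Fin l) F) = Matrix.fromBlocks ((g₁ : Matrix.GeneralLinearGroup (Fin k) F) : Matrix (Fin k) (Fin k) F) 0 0 1) ↔ g₁ ∈ Cfsg.Omega F ⇑Q₁ := by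
  classical
  have hg₁ : Good F (Fin k → F) := good_of (h.imp_right fun hh => by rw [Module.finrank_fin_fun]; exact hh.1)
  have hg : Good F (Fin k ⊕ Fin l → F) := good_of (h.imp_right fun hh => by
    rw [Module.finrank_fintype_fun_eq_card, Fintype.card_sum, Fintype.card_fin, Fintype.card_fin]; exact hh.2)
  obtain ⟨J, hJ, hJr⟩ := exists_inlHom (Q₁ := Q₁) (Q₂ := Q₂) h₁ h₂
  rw [mem_Omega_iff Q₁ (fun _ => rfl) g₁, exists_omega_iff (sumForm Q₁ Q₂) (sumForm_apply Q₁ Q₂) (J (toOrth Q₁ (fun _ => rfl) g₁)) _ ?_,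
    inlHom_mem_commutator_iff h₁ h₂ hg₁ hg J hJr]
  refine Matrix.toLin'.injective (LinearMap.ext fun v => ?_)
  rw [Matrix.toLin'_apply, Matrix.toLin'_apply, matOf_mulVec, hJ, toOrth_apply, Matrix.fromBlocks_mulVec]
  simp

end Cfsg.Agent.S2627
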