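import Cfsg.Statements.S2628
import Cfsg.Agent.Lib.KnownC.OrthTools
import Cfsg.Agent.Lib.Orth.Sum

set_option autoImplicit false
open Cfsg

namespace Cfsg.Agent.S2628

open CfsgLib.Orth CfsgLib.KnownC.OrthTools
open Matrix
/-- For the orthogonal direct sum Q ⊕ Q of two copies of a quadratic form Q with non-degenerate polar form on F^k (F finite), every isometry g of Q acting diagonally, diag(g, g), lies in Ω(Q ⊕ Q), the commutator subgroup of the orthogonal group of Q ⊕ Q. (Excluded: k = 2 over the field of two elements, where Q ⊕ Q is the hyperbolic 4-space whose orthogonal group's commutator subgroup is smaller than the group usually called Ω.) -/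
theorem result {F : Type*} [Field F] [Fintype F] {k : ℕ} (h : Fintype.card F ≠ 2 ∨ k ≠ 2) (Q : QuadraticForm F (Fin k → F)) (hQ : (QuadraticMap.polarBilin Q).Nondegenerate) (g : ↥(Cfsg.isometryGroup F ⇑Q)) : ∃ x : ↥(Cfsg.isometryGroup F (fun v : Fin k ⊕ Fin k → F => Q (v ∘ Sum.inl) + Q (v ∘ Sum.inr))), x ∈ Cfsg.Omega F (fun v : Fin k ⊕ Fin k → F => Q (v ∘ Sum.inl) + Q (v ∘ Sum.inr)) ∧ ((x : Matrix.GeneralLinearGroup (Fin k ⊕ Fin k) F) : Matrix (Fin k ⊕ Fin k) (Fin k ⊕ Fin k) F) = Matrix.fromBlocks ((g : Matrix.GeneralLinearGroup (Fin k) F) : Matrix (Fin k) (Fin k) F) 0 0 ((g : Matrix.GeneralLinearGroup (Fin k) F) : Matrix (Fin k) (Fin k) F) := by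
  classical
  have hg : Good F (Fin k ⊕ Fin k → F) := good_of (h.imp_right fun hh => by
    rw [Module.finrank_fintype_fun_eq_card, Fintype.card_sum, Fintype.card_fin]; omega)
  have hS := sumForm_nondeg hQ hQ
  obtain ⟨J, hJ, -⟩ := exists_inlHom (Q₁ := Q) (Q₂ := Q) hQ hQ
  obtain ⟨σ, hσ⟩ := exists_of_preserving hS
    (LinearMap.funLeft F F (Sum.swap : Fin k ⊕ Fin k → Fin k ⊕ Fin k)) (fun v => by
      rw [← sumForm_apply, ← sumForm_apply, add_comm (Q (v ∘ Sum.inl))]
      rfl)
  let x := J (toOrth Q (fun _ => rfl) g)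
  refine exists_omega_of (sumForm Q Q) (sumForm_apply Q Q) (P := fun M => M = _) ⟨x * (σ * x * σ⁻¹), ?_, ?_⟩
  · rw [mem_commutator_iff, map_mul, map_mul, map_mul, mul_comm (Abelianization.of σ), mul_assoc (Abelianization.of x) (Abelianization.of σ),
      ← map_mul Abelianization.of σ, mul_inv_cancel, map_one, mul_one, ab_sq hS hg]
  refine Matrix.toLin'.injective (LinearMap.ext fun v => ?_)
  rw [Matrix.toLin'_apply, Matrix.toLin'_apply, matOf_mulVec]
  show x.1 (σ.1 (x.1 ((σ⁻¹).1 v))) = _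
  have hinv : (σ⁻¹).1 v = v ∘ Sum.swap := by
    apply σ.1.injective
    rw [inv_apply, hσ]
    funext k; simp [LinearMap.funLeft_apply]
  rw [hinv, hJ, hσ, hJ, toOrth_apply, toOrth_apply, Matrix.fromBlocks_mulVec]
  funext k
  rcases k with i | i
  · simp only [Sum.elim_inl, Matrix.zero_mulVec, add_zero]
    congr 1
  · simp only [Sum.elim_inr, Matrix.zero_mulVec, zero_add, Function.comp_apply, LinearMap.funLeft_apply, Sum.swap_inr, Sum.elim_inl]
    congr 1

end Cfsg.Agent.S2628
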