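import Cfsg.Statements.S2631
import Cfsg.Agent.Lib.KnownC.PlusTools

set_option autoImplicit false
open Cfsg

namespace Cfsg.Agent.S2631

open CfsgLib.Orth CfsgLib.KnownC.OrthTools CfsgLib.KnownC.PlusTools
/-- For the hyperbolic form Σ x_i y_i on F^(2m) over a finite field (m ≥ 1, excluding m = 2 over the field of two elements), Ω (the commutator subgroup of the orthogonal group) acts transitively on each of the two classes of maximal totally singular subspaces: if U and W are m-dimensional totally singular subspaces with m − dim(U ∩ W) even, some element of Ω carries U to W. -/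
theorem result {F : Type*} [Field F] [Fintype F] {m : ℕ} (hm : 1 ≤ m) (h : Fintype.card F ≠ 2 ∨ m ≠ 2) (U W : Submodule F (Fin m ⊕ Fin m → F)) (hU : Module.finrank F U = m) (hW : Module.finrank F W = m) (hU0 : ∀ u ∈ U, Cfsg.quadFormPlus m F u = 0) (hW0 : ∀ w ∈ W, Cfsg.quadFormPlus m F w = 0) (he : Even (m - Module.finrank F ↥(U ⊓ W))) : ∃ g : ↥(Cfsg.isometryGroup F (Cfsg.quadFormPlus m F)), g ∈ Cfsg.Omega F (Cfsg.quadFormPlus m F) ∧ U.map (Matrix.mulVecLin ((g : Matrix.GeneralLinearGroup (Fin m ⊕ Fin m) F) : Matrix (Fin m ⊕ Fin m) (Fin m ⊕ Fin m) F)) = W := by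
  classical
  have h4 := good_plus h
  have hQ := plusForm_nondeg (F := F) m
  have hU0' : ∀ u ∈ U, plusForm F m u = 0 := fun u hu => by rw [← plusForm_apply]; exact hU0 u hu
  have hW0' : ∀ w ∈ W, plusForm F m w = 0 := fun w hw => by rw [← plusForm_apply]; exact hW0 w hw
  have hUL : IsLagrangian (plusForm F m) U := isLagrangian_of_finrank hQ hU0' (by
    rw [hU, Module.finrank_fintype_fun_eq_card, Fintype.card_sum, Fintype.card_fin]; omega)
  obtain ⟨g, hg⟩ := exists_map_eq_submodule hQ h4 (LinearEquiv.ofFinrankEq U W (hU.trans hW.symm))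
    (fun u => by rw [hW0' _ (LinearEquiv.ofFinrankEq U W (hU.trans hW.symm) u).2, hU0' _ u.2])
  have hpar : Even (lagDist U (U.map (g.1 : (Fin m ⊕ Fin m → F) →ₗ[F] (Fin m ⊕ Fin m → F)))) := by
    rw [hg, lagDist, hU]; exact he
  refine exists_omega_of (plusForm F m) (plusForm_apply m) (P := fun M => U.map (Matrix.mulVecLin M) = W) ?_
  have hUne : U ≠ ⊥ := fun h0 => by rw [h0, finrank_bot] at hU; omega
  obtain ⟨d, hd, hd0⟩ := Submodule.exists_mem_ne_zero_of_ne_bot hUne
  by_cases h2 : (2 : F) = 0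
  · haveI : CharP F 2 := CharTwo.of_one_ne_zero_of_two_eq_zero one_ne_zero h2
    exact ⟨g, (mem_commutator_iff_even_two hQ h4 hUL g).2 hpar, by rw [mulVecLin_matOf]; exact hg⟩
  have hdet := (det_eq_one_iff hQ h2 hUL g).2 hpar
  rcases Int.units_eq_one_or (levelSign (plusForm F m) 1 g) with hs | hs
  · exact ⟨g, (mem_commutator_odd hQ h2 g).2 ⟨hdet, hs⟩, by rw [mulVecLin_matOf]; exact hg⟩
  obtain ⟨c, hc⟩ := FiniteField.exists_nonsquare (F := F) (by
    intro h'
    haveI : CharP F 2 := ringChar.eq_iff.1 h'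
    exact h2 CharTwo.two_eq_zero)
  have hc0 : c ≠ 0 := fun h => hc (h ▸ IsSquare.zero)
  obtain ⟨z, hz1, hzc, hts⟩ := exists_torus_stab hQ hU0' hd hd0 hc0
  have h1 := levelSign_refl (plusForm F m) h2 one_ne_zero (a := d + z) (by rw [hz1]; exact one_ne_zero)
  have h2' := levelSign_refl (plusForm F m) h2 one_ne_zero (a := d + c • z) (by rw [hzc]; exact hc0)
  rw [hz1, if_pos (by rw [one_mul]; exact IsSquare.one)] at h1
  rw [hzc, if_neg (by rw [one_mul]; exact hc)] at h2'
  refine ⟨g * torus (plusForm F m) d z c, (mem_commutator_odd hQ h2 _).2 ⟨?_, ?_⟩, ?_⟩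
  · show LinearMap.det ((g.1 : (Fin m ⊕ Fin m → F) →ₗ[F] (Fin m ⊕ Fin m → F)) *
      (((refl (plusForm F m) (d + z)).1 : (Fin m ⊕ Fin m → F) →ₗ[F] (Fin m ⊕ Fin m → F)) *
        ((refl (plusForm F m) (d + c • z)).1 : (Fin m ⊕ Fin m → F) →ₗ[F] (Fin m ⊕ Fin m → F)))) = 1
    rw [map_mul, map_mul, det_refl _ (by rw [hz1]; exact one_ne_zero), det_refl _ (by rw [hzc]; exact hc0), hdet]
    ring
  · rw [torus, map_mul, map_mul, hs, h1, h2']
    decide
  · rw [mulVecLin_matOf]
    show U.map ((g.1 : (Fin m ⊕ Fin m → F) →ₗ[F] (Fin m ⊕ Fin m → F)).comp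
      ((torus (plusForm F m) d z c).1 : (Fin m ⊕ Fin m → F) →ₗ[F] (Fin m ⊕ Fin m → F))) = W
    rw [Submodule.map_comp]
    exact (congrArg (Submodule.map _) hts).trans hg

end Cfsg.Agent.S2631
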