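import Cfsg.Statements.S2635
import Cfsg.Agent.Lib.KnownC.OrthTools
import Cfsg.Agent.Lib.Orth.Stab

set_option autoImplicit false
open Cfsg

namespace Cfsg.Agent.S2635

open CfsgLib.Orth CfsgLib.KnownC.OrthTools
/-- Over a finite field of characteristic two, for a quadratic form Q on F^n with non-degenerate polar form, n ≥ 2, other than dimension 4 over the field of two elements, Ω (the commutator subgroup of the orthogonal group) is exactly the subgroup generated by the products of two reflections (orthogonal transvections) x ↦ x − Q(v)⁻¹ f(x, v) v, Q(v) ≠ 0: the products of an even number of reflections. -/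
theorem result {F : Type*} [Field F] [Fintype F] [CharP F 2] {n : ℕ} (hn : 2 ≤ n) (h : Fintype.card F ≠ 2 ∨ n ≠ 4) (Q : QuadraticForm F (Fin n → F)) (hQ : (QuadraticMap.polarBilin Q).Nondegenerate) : Cfsg.Omega F ⇑Q = Subgroup.closure {g : ↥(Cfsg.isometryGroup F ⇑Q) | ∃ u v : Fin n → F, Q u ≠ 0 ∧ Q v ≠ 0 ∧ ((g : Matrix.GeneralLinearGroup (Fin n) F) : Matrix (Fin n) (Fin n) F) = Cfsg.reflectionMatrix ⇑Q u * Cfsg.reflectionMatrix ⇑Q v} := by
  classical
  have h4 : Good F (Fin n → F) := good_of (by rwa [Module.finrank_fin_fun])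
  obtain ⟨κ, hκ⟩ := exists_dickson Q hQ
  let φ : ↥(Cfsg.isometryGroup F ⇑Q) ≃* orthGroup Q := toOrth Q (fun _ => rfl)
  have hS : ∀ u v : Fin n → F, ((φ.symm (refl Q u * refl Q v) : Matrix.GeneralLinearGroup (Fin n) F) :
      Matrix (Fin n) (Fin n) F) = Cfsg.reflectionMatrix ⇑Q u * Cfsg.reflectionMatrix ⇑Q v := fun u v => by
    rw [toOrth_symm_coe, matOf_mul, matOf_refl, matOf_refl]
  apply le_antisymm
  · intro g hg
    set C := Subgroup.closure {g : ↥(Cfsg.isometryGroup F ⇑Q) | ∃ u v : Fin n → F, Q u ≠ 0 ∧ Q v ≠ 0 ∧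
      ((g : Matrix.GeneralLinearGroup (Fin n) F) : Matrix (Fin n) (Fin n) F) =
        Cfsg.reflectionMatrix ⇑Q u * Cfsg.reflectionMatrix ⇑Q v}
    have hpair : ∀ u v, Q u ≠ 0 → Q v ≠ 0 → φ.symm (refl Q u * refl Q v) ∈ C := fun u v hu hv =>
      Subgroup.subset_closure ⟨u, v, hu, hv, hS u v⟩
    have key : ∀ x : orthGroup Q, (κ x = 1 ∧ φ.symm x ∈ C) ∨
        (κ x = Multiplicative.ofAdd 1 ∧ ∀ v, Q v ≠ 0 → φ.symm (x * refl Q v) ∈ C) := by
      intro x
      have hx : x ∈ Subgroup.closure (Set.range (refl Q)) := by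
        have := reflGroup_eq_top hQ h4
        unfold reflGroup at this
        rw [this]; trivial
      induction hx using Subgroup.closure_induction_left with
      | one => exact Or.inl ⟨map_one κ, by rw [map_one]; exact one_mem _⟩
      | mul_left y hy z hz ih =>
        obtain ⟨a, rfl⟩ := hy
        by_cases ha : Q a = 0
        · have : refl Q a = 1 := Subtype.ext (LinearEquiv.ext fun v => by rw [refl_apply, ha]; simp)
          rw [this, one_mul]; exact ih
        rcases ih with ⟨h1, h2⟩ | ⟨h1, h2⟩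
        · refine Or.inr ⟨by rw [map_mul, hκ a ha, h1, mul_one], fun v hv => ?_⟩
          have hconj : refl Q a * z * refl Q v = z * (refl Q ((z⁻¹).1 a) * refl Q v) := by
            rw [← conj_refl, inv_inv]; group
          rw [hconj, map_mul]
          exact mul_mem h2 (hpair _ _ (by rw [apply_quad]; exact ha) hv)
        · refine Or.inl ⟨by rw [map_mul, hκ a ha, h1, ← ofAdd_add, CharTwo.add_self_eq_zero]; rfl, ?_⟩
          have hconj : refl Q a * z = z * refl Q ((z⁻¹).1 a) := by
            rw [← conj_refl, inv_inv]; group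
          rw [hconj]
          exact h2 _ (by rw [apply_quad]; exact ha)
      | inv_mul_cancel y hy z hz ih =>
        obtain ⟨a, rfl⟩ := hy
        rw [refl_inv]
        by_cases ha : Q a = 0
        · have : refl Q a = 1 := Subtype.ext (LinearEquiv.ext fun v => by rw [refl_apply, ha]; simp)
          rw [this, one_mul]; exact ih
        rcases ih with ⟨h1, h2⟩ | ⟨h1, h2⟩
        · refine Or.inr ⟨by rw [map_mul, hκ a ha, h1, mul_one], fun v hv => ?_⟩
          have hconj : refl Q a * z * refl Q v = z * (refl Q ((z⁻¹).1 a) * refl Q v) := by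
            rw [← conj_refl, inv_inv]; group
          rw [hconj, map_mul]
          exact mul_mem h2 (hpair _ _ (by rw [apply_quad]; exact ha) hv)
        · refine Or.inl ⟨by rw [map_mul, hκ a ha, h1, ← ofAdd_add, CharTwo.add_self_eq_zero]; rfl, ?_⟩
          have hconj : refl Q a * z = z * refl Q ((z⁻¹).1 a) := by
            rw [← conj_refl, inv_inv]; group
          rw [hconj]
          exact h2 _ (by rw [apply_quad]; exact ha)
    have hκg := (mem_commutator_two hQ h4 κ hκ _).1 ((mem_Omega_iff Q (fun _ => rfl) g).1 hg)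
    rcases key (φ g) with ⟨-, h⟩ | ⟨h, -⟩
    · rwa [φ.symm_apply_apply] at h
    · rw [hκg] at h
      exact absurd (congrArg Multiplicative.toAdd h) zero_ne_one
  · rw [Subgroup.closure_le]
    rintro g ⟨u, v, hu, hv, hg⟩
    refine (mem_Omega_iff Q (fun _ => rfl) g).2 ?_
    have : φ g = refl Q u * refl Q v :=
      matOf_injective Q (by rw [matOf_toOrth, hg, matOf_mul, matOf_refl, matOf_refl])
    show φ g ∈ _
    rw [this, mem_commutator_two hQ h4 κ hκ, map_mul, hκ u hu, hκ v hv, ← ofAdd_add, CharTwo.add_self_eq_zero]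
    rfl

end Cfsg.Agent.S2635
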