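import Cfsg.Statements.S2636

set_option autoImplicit false
open Cfsg

namespace Cfsg.Agent.S2636

/-- Centraliser of a field automorphism in PGL_n: let F be the field with q = q₀^r elements, σ a field automorphism of F of prime order r (so its fixed field has q₀ elements) and n ≥ 1. The invertible matrices g whose entrywise image under σ is a scalar multiple of g — those whose coset modulo scalars is fixed by σ — number (q − 1)/(q₀ − 1) · |GL_n(q₀)|; equivalently the centraliser in PGL_n(q) of the induced automorphism has the order of PGL_n(q₀). -/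
theorem result {F : Type*} [Field F] [Fintype F] {q₀ r n : ℕ} (hr : r.Prime) (hn : 1 ≤ n) (hF : Fintype.card F = q₀ ^ r) (σ : F ≃+* F) (hσ : orderOf σ = r) : Nat.card {g : GL (Fin n) F // ∃ c : F, c ≠ 0 ∧ (g : Matrix (Fin n) (Fin n) F).map σ = c • (g : Matrix (Fin n) (Fin n) F)} = (q₀ ^ r - 1) / (q₀ - 1) * ∏ i : Fin n, (q₀ ^ n - q₀ ^ (i : ℕ)) := by
  classical
  haveI : Finite (F ≃+* F) := Finite.of_injective _ DFunLike.coe_injective
  set Γ := Subgroup.zpowers σ with hΓ
  haveI : Fintype Γ := Fintype.ofFinite _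
  set F₀ := FixedPoints.subfield Γ F with hF₀
  have hmem : ∀ x : F, x ∈ F₀ ↔ σ x = x := by
    intro x
    constructor
    · intro h; exact h ⟨σ, Subgroup.mem_zpowers σ⟩
    · rintro h ⟨τ, hτ⟩
      show τ x = x
      have : σ ∈ MulAction.stabilizer (F ≃+* F) x := h
      exact (Subgroup.zpowers_le.2 this) hτ
  have hrank : Module.finrank F₀ F = r := by
    rw [FixedPoints.finrank_eq_card Γ F, ← Nat.card_eq_fintype_card, Nat.card_zpowers, hσ]
  haveI : Fintype F₀ := Fintype.ofFinite _
  have hcard : Fintype.card F₀ = q₀ := by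
    refine Nat.pow_left_injective hr.ne_zero ?_
    show Fintype.card F₀ ^ r = q₀ ^ r
    rw [← hF, Module.card_eq_pow_finrank (K := F₀) (V := F), hrank]
  have hq : 2 ≤ q₀ := hcard ▸ Fintype.one_lt_card
  set S := {g : GL (Fin n) F // ∃ c : F, c ≠ 0 ∧ (g : Matrix (Fin n) (Fin n) F).map σ = c • (g : Matrix (Fin n) (Fin n) F)}
  let ι : F₀ →+* F := F₀.subtype
  let ψ : Fˣ × GL (Fin n) F₀ →* GL (Fin n) F :=
    { toFun := fun th => Matrix.GeneralLinearGroup.scalar (Fin n) th.1 * Matrix.GeneralLinearGroup.map ι th.2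
      map_one' := by simp
      map_mul' := fun a b => by
        refine Units.ext ?_
        simp only [Prod.fst_mul, Prod.snd_mul, map_mul, Units.val_mul, Matrix.GeneralLinearGroup.coe_scalar]
        simp only [Matrix.scalar_apply, ← Matrix.smul_one_eq_diagonal, Matrix.smul_mul, Matrix.mul_smul, one_mul,
          mul_one, smul_smul, mul_comm (a.1 : F)] }
  have hval : ∀ th, ((ψ th : GL (Fin n) F) : Matrix (Fin n) (Fin n) F) =
      (th.1 : F) • ((th.2 : Matrix (Fin n) (Fin n) F₀).map ι) := by
    intro th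
    simp [ψ, Matrix.GeneralLinearGroup.coe_scalar, ← Matrix.smul_one_eq_diagonal, Matrix.smul_mul, Matrix.scalar_apply]
  have hrange : ∀ g : GL (Fin n) F, g ∈ ψ.range ↔
      ∃ c : F, c ≠ 0 ∧ (g : Matrix (Fin n) (Fin n) F).map σ = c • (g : Matrix (Fin n) (Fin n) F) := by
    intro g
    constructor
    · rintro ⟨th, rfl⟩
      refine ⟨σ th.1 / th.1, div_ne_zero (by simp) th.1.ne_zero, ?_⟩
      rw [hval, smul_smul, div_mul_cancel₀ _ th.1.ne_zero]
      ext i j
      simp [ι, (hmem _).1 ((th.2 : Matrix (Fin n) (Fin n) F₀) i j).2]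
    · rintro ⟨c, hc, hg⟩
      obtain ⟨i, j, hij⟩ : ∃ i j, (g : Matrix (Fin n) (Fin n) F) i j ≠ 0 := by
        by_contra h
        push Not at h
        have h0 : (g : Matrix (Fin n) (Fin n) F) = 0 := Matrix.ext h
        haveI : Nonempty (Fin n) := ⟨⟨0, by omega⟩⟩
        exact g.ne_zero h0
      set t := (g : Matrix (Fin n) (Fin n) F) i j with ht
      have hcoef : ∀ k l, σ ((g : Matrix (Fin n) (Fin n) F) k l) = c * (g : Matrix (Fin n) (Fin n) F) k l :=
        fun k l => by simpa using congrFun (congrFun hg k) l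
      have hfix : ∀ k l, t⁻¹ * (g : Matrix (Fin n) (Fin n) F) k l ∈ F₀ := fun k l => by
        rw [hmem, map_mul, map_inv₀, ht, hcoef, hcoef, mul_inv, mul_mul_mul_comm, inv_mul_cancel₀ hc, one_mul]
      let h₀ : Matrix (Fin n) (Fin n) F₀ := Matrix.of fun k l => ⟨_, hfix k l⟩
      have hh : h₀.map ι = t⁻¹ • (g : Matrix (Fin n) (Fin n) F) := by ext k l; rfl
      have hd : h₀.det ≠ 0 := by
        intro h
        have := congrArg ι h
        rw [RingHom.map_det, map_zero] at this
        change (h₀.map ι).det = 0 at this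
        rw [hh, Matrix.det_smul] at this
        rcases mul_eq_zero.1 this with h' | h'
        · exact pow_ne_zero _ (inv_ne_zero hij) h'
        · exact (Matrix.GeneralLinearGroup.det g).ne_zero h'
      refine ⟨(Units.mk0 t hij, Matrix.GeneralLinearGroup.mkOfDetNeZero h₀ hd), Units.ext ?_⟩
      rw [hval]
      show t • h₀.map ι = _
      rw [hh, smul_smul, mul_inv_cancel₀ hij, one_smul]
  have hS : Nat.card S = Nat.card ψ.range :=
    Nat.card_congr (Equiv.subtypeEquivRight fun g => (hrange g).symm)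
  let κ : F₀ˣ →* Fˣ × GL (Fin n) F₀ :=
    (Units.map ι.toMonoidHom).prod ((Matrix.GeneralLinearGroup.scalar (Fin n)).comp invMonoidHom)
  have hker : ψ.ker = κ.range := by
    ext th
    constructor
    · intro h
      have h1 := congrArg (fun g : GL (Fin n) F => (g : Matrix (Fin n) (Fin n) F)) h
      simp only [hval, Units.val_one] at h1
      let i0 : Fin n := ⟨0, by omega⟩
      have hii : (th.1 : F) * ι ((th.2 : Matrix (Fin n) (Fin n) F₀) i0 i0) = 1 := by
        simpa using congrFun (congrFun h1 i0) i0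
      have hu0 : (th.2 : Matrix (Fin n) (Fin n) F₀) i0 i0 ≠ 0 := fun h0 => by simp [h0] at hii
      refine ⟨(Units.mk0 _ hu0)⁻¹, Prod.ext (Units.ext ?_) (Units.ext (Matrix.ext fun k l => ι.injective ?_))⟩
      · show ι (((Units.mk0 _ hu0)⁻¹ : F₀ˣ) : F₀) = th.1
        rw [Units.val_inv_eq_inv_val, map_inv₀, Units.val_mk0]
        exact (eq_inv_of_mul_eq_one_left hii).symm
      · have hkl : (th.1 : F) * ι ((th.2 : Matrix (Fin n) (Fin n) F₀) k l) = (1 : Matrix (Fin n) (Fin n) F) k l := by
          simpa using congrFun (congrFun h1 k) l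
        apply mul_left_cancel₀ th.1.ne_zero
        rw [hkl]
        simp [κ, Matrix.GeneralLinearGroup.coe_scalar, Matrix.diagonal_apply, Matrix.one_apply, apply_ite ι, hii]
    · rintro ⟨u, rfl⟩
      refine Units.ext ?_
      rw [hval]
      ext k l
      show (u : F₀).1 * ι ((Matrix.GeneralLinearGroup.scalar (Fin n) u⁻¹ : Matrix (Fin n) (Fin n) F₀) k l) = _
      rw [Matrix.GeneralLinearGroup.coe_scalar, Matrix.scalar_apply, Matrix.diagonal_apply, Units.val_one,
        Matrix.one_apply]
      split_ifs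
      · show ι (u : F₀) * ι ((u⁻¹ : F₀ˣ) : F₀) = 1
        rw [← map_mul, Units.mul_inv, map_one]
      · rw [map_zero, mul_zero]
  have hκ : Function.Injective κ := fun u v h => by
    have := congrArg (fun p : Fˣ × GL (Fin n) F₀ => (p.1 : F)) h
    exact Units.ext (ι.injective this)
  have hmul := Subgroup.card_eq_card_quotient_mul_card_subgroup ψ.ker
  rw [Nat.card_prod, Nat.card_congr (QuotientGroup.quotientKerEquivRange ψ).toEquiv, hker,
    ← Nat.card_congr (MonoidHom.ofInjective hκ).toEquiv, Nat.card_units, Nat.card_units,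
    Matrix.card_GL_field, Nat.card_eq_fintype_card (α := F), Nat.card_eq_fintype_card (α := F₀),
    hF, hcard] at hmul
  rw [hS]
  have hdvd : q₀ - 1 ∣ q₀ ^ r - 1 := Nat.sub_one_dvd_pow_sub_one _ _
  apply Nat.eq_of_mul_eq_mul_right (by omega : 0 < q₀ - 1)
  conv_rhs => rw [mul_right_comm, Nat.div_mul_cancel hdvd]
  exact hmul.symm

end Cfsg.Agent.S2636
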