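import Cfsg.Statements.S2639
import Cfsg.Agent.Lib.KnownC.DescentGU
import Cfsg.Agent.Lib.Classical.SympModels


set_option autoImplicit false
open Cfsg

namespace Cfsg.Agent.S2639

open CfsgLib.KnownC.FieldExt

/-- The unitary group embeds in the symplectic group of twice the dimension over the subfield: for a field K with q² elements and a field F with q elements (isomorphic to the subfield of K of order q), there is an injective homomorphism GU_m(q) → Sp_2m(F). -/
theorem result {K F : Type*} [Field K] [Fintype K] [Field F] [Fintype F] {q : ℕ} (hK : Fintype.card K = q ^ 2) (hF : Fintype.card F = q) (m : ℕ) : ∃ φ : ↥(Cfsg.GU m K q) →* ↥(Matrix.symplecticGroup (Fin m) F), Function.Injective φ := by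
  classical
  obtain ⟨φ⟩ := exists_embedding F K hF hK
  letI : Algebra F K := φ.toAlgebra
  obtain ⟨⟨τ, hτ0, hτ⟩, -⟩ := exists_tau hF hK
  let B := descForm hF m τ
  have hA : B.IsAlt := fun u => by
    obtain ⟨a, ha⟩ := herm_self_mem hF hK u
    show τ (Cfsg.hermForm m K q u u) = 0
    rw [← ha, hτ]
  have hsep : B.SeparatingLeft := fun u hu => descForm_separating hF hK m hτ0 u hu
  have hN : B.Nondegenerate := ⟨hsep, fun v hv => hsep v fun u => by
    rw [← LinearMap.IsAlt.neg hA u v, hv u, neg_zero]⟩
  obtain ⟨e⟩ := CfsgLib.Classical.isom_alt_equiv_sp hA hN m (finrank_pi_K hF hK m)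
  let ρ : ↥(Cfsg.GU m K q) →* ↥(CfsgLib.Classical.isomGroup B) :=
    { toFun := fun g => ⟨guLin (F := F) m g.1, fun u v => by
        show τ _ = τ _
        rw [guLin_herm]⟩
      map_one' := Subtype.ext (map_one _)
      map_mul' := fun g h => Subtype.ext (map_mul _ _ _) }
  exact ⟨e.toMonoidHom.comp ρ, e.injective.comp fun g h hgh =>
    Subtype.ext (guLin_injective (F := F) m (congrArg Subtype.val hgh))⟩

end Cfsg.Agent.S2639
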