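import Cfsg.Statements.S2640
import Cfsg.Agent.Lib.KnownC.DescentGU


set_option autoImplicit false
open Cfsg

namespace Cfsg.Agent.S2640

open CfsgLib.KnownC.FieldExt CfsgLib.Orth

/-- For m even, the unitary group GU_m(q) (over the field with q² elements) embeds in the orthogonal group O⁺_2m(q) of the hyperbolic form Σ x_i y_i over the field with q elements (there is an injective homomorphism). -/
theorem result {K F : Type*} [Field K] [Fintype K] [Field F] [Fintype F] {q : ℕ} (hK : Fintype.card K = q ^ 2) (hF : Fintype.card F = q) (m : ℕ) (hm : Even m) : ∃ φ : ↥(Cfsg.GU m K q) →* ↥(Cfsg.isometryGroup F (Cfsg.quadFormPlus m F)), Function.Injective φ := by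
  classical
  obtain ⟨φ⟩ := exists_embedding F K hF hK
  letI : Algebra F K := φ.toAlgebra
  obtain ⟨-, τ, hτ⟩ := exists_tau hF hK
  obtain ⟨k, rfl⟩ := hm.two_dvd
  rw [mul_comm 2 k]
  obtain ⟨e, he⟩ := descQuad_plus hF hK k hτ
  refine embed_isometryGroup (descQuad hF (k * 2) τ) (plusForm F (k * 2)) _ (fun v => plusForm_apply _ v) e he
    ((guLin (F := F) (k * 2)).comp (Cfsg.GU (k * 2) K q).subtype)
    ((guLin_injective (F := F) (K := K) (k * 2)).comp Subtype.val_injective) fun g v => ?_
  show τ _ = τ _
  exact congrArg τ (guLin_herm (F := F) (k * 2) g v v)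

end Cfsg.Agent.S2640
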