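import Cfsg.Statements.S2641
import Cfsg.Agent.Lib.KnownC.DescentGU


set_option autoImplicit false
open Cfsg

namespace Cfsg.Agent.S2641

open CfsgLib.KnownC.FieldExt CfsgLib.Orth

/-- For m odd, the unitary group GU_m(q) (over the field with q² elements) embeds in the orthogonal group O⁻_2m(q) of an elliptic form (Σ_(i<m−1) x_i y_i plus an anisotropic binary form) over the field with q elements (there is an injective homomorphism). -/
theorem result {K F : Type*} [Field K] [Fintype K] [Field F] [Fintype F] {q : ℕ} (hK : Fintype.card K = q ^ 2) (hF : Fintype.card F = q) (m : ℕ) (hm : Odd m) (a b : F) (hab : ∀ z₁ z₂ : F, z₁ ^ 2 + a * z₁ * z₂ + b * z₂ ^ 2 = 0 → z₁ = 0 ∧ z₂ = 0) : ∃ φ : ↥(Cfsg.GU m K q) →* ↥(Cfsg.isometryGroup F (Cfsg.quadFormMinus (m - 1) F a b)), Function.Injective φ := by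
  classical
  obtain ⟨φ⟩ := exists_embedding F K hF hK
  letI : Algebra F K := φ.toAlgebra
  obtain ⟨-, τ, hτ⟩ := exists_tau hF hK
  obtain ⟨k, rfl⟩ := hm
  rw [Nat.add_sub_cancel, mul_comm 2 k]
  obtain ⟨ζ, e, hζ, he⟩ := descQuad_minus hF hK k hτ
  obtain ⟨σ, hσ⟩ := minusForm_iso (k * 2) a b hab hζ
  refine embed_isometryGroup (descQuad hF (k * 2 + 1) τ) (minusForm F (k * 2) a b) _
    (fun v => minusForm_apply _ a b v) (σ.trans e) (fun v => by rw [LinearEquiv.trans_apply, he, hσ])
    ((guLin (F := F) (k * 2 + 1)).comp (Cfsg.GU (k * 2 + 1) K q).subtype)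
    ((guLin_injective (F := F) (K := K) (k * 2 + 1)).comp Subtype.val_injective) fun g v => ?_
  show τ _ = τ _
  exact congrArg τ (guLin_herm (F := F) (k * 2 + 1) g v v)

end Cfsg.Agent.S2641
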