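import Cfsg.Statements.S2644
import Cfsg.Agent.Lib.KnownC.GUConj
import Cfsg.Agent.Lib.KnownC.TransvClass


set_option autoImplicit false
open Cfsg

namespace Cfsg.Agent.S2644

open Matrix CfsgLib.Classical CfsgLib.KnownC.GUConj

theorem exists_anisotropic {K : Type*} [Field K] {σ : K →+* K} (hc : IsConjugation σ) {n : ℕ} (hn : 3 ≤ n)
    (y : Fin n → K) (hy : y ≠ 0) : ∃ w : Fin n → K, y ⬝ᵥ w = 0 ∧ (σ ∘ w) ⬝ᵥ w ≠ 0 := by
  classical
  obtain ⟨j, hj⟩ := Function.ne_iff.1 hy
  simp only [Pi.zero_apply] at hj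
  by_contra hall
  push Not at hall
  let a : Fin n → K := fun i => -(y i / y j)
  let e : Fin n → Fin n → K := fun i => Pi.single i 1 + a i • Pi.single j 1
  have he : ∀ i, y ⬝ᵥ e i = 0 := fun i => by
    simp only [e, dotProduct_add, dotProduct_smul, dotProduct_single, mul_one, smul_eq_mul, a]
    field_simp
    ring
  have hiso : ∀ i, i ≠ j → σ (a i) * a i = -1 := fun i hi => by
    have h := hall _ (he i)
    simp only [e, dotProduct_add, dotProduct_smul, dotProduct_single, mul_one, smul_eq_mul, Function.comp_apply,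
      Pi.add_apply, Pi.smul_apply, Pi.single_eq_same, Pi.single_eq_of_ne hi, Pi.single_eq_of_ne (Ne.symm hi),
      mul_zero, add_zero, zero_add, map_one] at h
    linear_combination h
  obtain ⟨i, k, hik, hij, hkj⟩ : ∃ i k : Fin n, i ≠ k ∧ i ≠ j ∧ k ≠ j := by
    obtain ⟨i, hi, k, hk, hik⟩ := Finset.one_lt_card.1
      (show 1 < (Finset.univ.erase j).card by
        rw [Finset.card_erase_of_mem (Finset.mem_univ _), Finset.card_univ, Fintype.card_fin]; omega)
    exact ⟨i, k, hik, (Finset.mem_erase.1 hi).1, (Finset.mem_erase.1 hk).1⟩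
  obtain ⟨θ, hθ⟩ : ∃ θ : K, θ + σ θ ≠ 0 := by
    by_contra h
    push Not at h
    have h1 := h 1
    rw [map_one] at h1
    obtain ⟨x, hx⟩ := exists_conj_fix hc
    refine hx ?_
    have h2 := h x
    linear_combination h2 - (σ x) * h1
  have ha : σ (a i) * a k ≠ 0 := by
    refine mul_ne_zero ?_ ?_ <;> intro h0
    · simpa [h0] using hiso i hij
    · simpa [h0] using hiso k hkj
  let α := σ (θ / (σ (a i) * a k))
  have h := hall (α • e i + e k) (by rw [dotProduct_add, dotProduct_smul, he, he, smul_zero, add_zero])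
  simp only [e, dotProduct_add, dotProduct_smul, dotProduct_single, mul_one, smul_eq_mul, Function.comp_apply,
      Pi.add_apply, Pi.smul_apply, Pi.single_eq_same, Pi.single_eq_of_ne hij, Pi.single_eq_of_ne (Ne.symm hij),
      Pi.single_eq_of_ne hkj, Pi.single_eq_of_ne (Ne.symm hkj), Pi.single_eq_of_ne hik, Pi.single_eq_of_ne (Ne.symm hik),
      mul_zero, add_zero, zero_add, map_one, map_add, map_mul] at h
  have hα : σ α * (σ (a i) * a k) = θ := by
    simp only [α, hc.invol]
    exact div_mul_cancel₀ θ ha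
  have hα' : α * (a i * σ (a k)) = σ θ := by
    have := congrArg σ hα
    simpa [map_mul, hc.invol] using this
  refine hθ ?_
  linear_combination h - (σ α * α) * hiso i hij - hiso k hkj - hα - hα'

theorem exists_centraliser_det {K : Type*} [Field K] [Fintype K] {q n : ℕ} (hK : Fintype.card K = q ^ 2)
    {σ : K →+* K} (hσ : ∀ x, σ x = x ^ q) (hc : IsConjugation σ) (hn : 3 ≤ n) (s : GL (Fin n) K)
    (hs : s ∈ Cfsg.GU n K q) (ht : Cfsg.IsTransvection s.val) (x y : Fin n → K) (hy : y ≠ 0)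
    (hN : s.val - 1 = vecMulVec x y) (d : K) (hd : σ d * d = 1) :
    ∃ c : GL (Fin n) K, c ∈ Cfsg.GU n K q ∧ c.val.det = d ∧ Commute c s := by
  classical
  obtain ⟨w, hyw, hw⟩ := exists_anisotropic hc hn y hy
  set h := (σ ∘ w) ⬝ᵥ w with hh
  have hσh : σ h = h := by
    simp [hh, dotProduct, map_sum, map_mul, hc.invol, mul_comm]
  set P := vecMulVec w (σ ∘ w) with hP
  have hPP : P * P = h • P := by
    rw [hP, vecMulVec_mul_vecMulVec, vecMulVec_smul]
  have hadjP : adj σ P = P := by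
    ext i j; simp [hP, adj, vecMulVec_apply, hc.invol, mul_comm]
  set μ := (d - 1) / h with hμdef
  set M := 1 + μ • P with hM
  have hdet : M.det = d := by
    rw [hM, hP, ← smul_vecMulVec, vecMulVec_eq Unit, det_one_add_replicateCol_mul_replicateRow, dotProduct_smul,
      ← hh, smul_eq_mul, hμdef,
      div_mul_cancel₀ _ hw]
    ring
  let c : GL (Fin n) K := GeneralLinearGroup.mkOfDetNeZero M (by
    rw [hdet]; rintro rfl; simp at hd)
  refine ⟨c, (mem_GU_iff_adj hK hσ hc).2 (Units.ext ?_), hdet, Units.ext ?_⟩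
  · show adj σ M * M = 1
    have hadjM : adj σ M = 1 + σ μ • P := by
      rw [hM, adj_add, adj_one, Algebra.smul_def, adj_mul, adj_algebraMap, hadjP, ← Algebra.commutes,
        ← Algebra.smul_def]
    rw [hadjM, hM, add_mul, one_mul, mul_add, mul_one, Matrix.smul_mul, Matrix.mul_smul, hPP, smul_smul, smul_smul,
      add_assoc, ← add_smul, ← add_smul, show μ + (σ μ + σ μ * μ * h) = 0 from ?_, zero_smul, add_zero]
    rw [hμdef, map_div₀, hσh, map_sub, map_one]
    field_simp
    linear_combination hd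
  · show M * s.val = s.val * M
    have hadjN : adj σ (s.val - 1) = -(s.val - 1) := by
      have h1 : adj σ s.val * s.val = 1 := congrArg Units.val ((mem_GU_iff_adj hK hσ hc).1 hs)
      have h2 : (1 - (s.val - 1)) * s.val = 1 := by
        calc (1 - (s.val - 1)) * s.val = 1 - (s.val - 1) * (s.val - 1) := by noncomm_ring
          _ = 1 := by rw [ht.2, sub_zero]
      have h3 : adj σ s.val = 1 - (s.val - 1) := by
        calc adj σ s.val = adj σ s.val * (s.val * (1 - (s.val - 1))) := by rw [mul_eq_one_comm.1 h2, mul_one]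
          _ = _ := by rw [← mul_assoc, h1, one_mul]
      have h4 : adj σ (s.val - 1) + adj σ 1 = adj σ s.val := by rw [← adj_add, sub_add_cancel]
      rw [adj_one, h3] at h4
      rw [eq_sub_of_add_eq h4]
      abel
    have h1 : (s.val - 1) * P = 0 := by
      rw [hN, hP, vecMulVec_mul_vecMulVec, vecMulVec_smul, hyw, zero_smul]
    have h2 : P * (s.val - 1) = 0 := by
      have := congrArg (adj σ) h1
      rw [adj_mul, hadjP, hadjN, mul_neg, show adj σ (0 : Matrix (Fin n) (Fin n) K) = 0 by ext; simp [adj],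
        neg_eq_zero] at this
      exact this
    have e : s.val = 1 + (s.val - 1) := by abel
    rw [e, hM, show (1 + μ • P) * (1 + (s.val - 1)) = 1 + μ • P + (s.val - 1) + (μ • P) * (s.val - 1) by
      simp only [mul_add, add_mul, one_mul, mul_one]; abel,
      show (1 + (s.val - 1)) * (1 + μ • P) = 1 + μ • P + (s.val - 1) + (s.val - 1) * (μ • P) by
        simp only [mul_add, add_mul, one_mul, mul_one]; abel,
      Matrix.smul_mul, Matrix.mul_smul, h1, h2]

theorem isConj_transvection {K : Type*} [Field K] [Fintype K] {q n : ℕ} (hK : Fintype.card K = q ^ 2)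
    {σ : K →+* K} (hσ : ∀ x, σ x = x ^ q) (hc : IsConjugation σ) (hn : 3 ≤ n) (s t : ↥(Cfsg.SU n K q))
    (hs : Cfsg.IsTransvection (((s : GL (Fin n) K) : Matrix (Fin n) (Fin n) K)))
    (ht : Cfsg.IsTransvection (((t : GL (Fin n) K) : Matrix (Fin n) (Fin n) K))) : IsConj s t := by
  classical
  obtain ⟨m, rfl⟩ := Nat.exists_eq_add_of_le' (show 2 ≤ n by omega)
  let S : GL (Fin (m + 2)) K := (s : GL (Fin (m + 2)) K)
  let T : GL (Fin (m + 2)) K := (t : GL (Fin (m + 2)) K)
  obtain ⟨a, ha⟩ := CfsgLib.KnownC.TransvClass.conj_std hs s.1.2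
  obtain ⟨b, hb⟩ := CfsgLib.KnownC.TransvClass.conj_std ht t.1.2
  have hconj : IsConj S T := isConj_iff.2 ⟨b * a⁻¹, Units.ext (by
    show (b * a⁻¹).val * S.val * ((b * a⁻¹)⁻¹).val = T.val
    rw [show S.val = _ from ha, show T.val = _ from hb, _root_.mul_inv_rev, inv_inv]
    simp only [Units.val_mul, Matrix.mul_assoc]
    rw [← Matrix.mul_assoc (a⁻¹).val, Units.inv_mul, Matrix.one_mul, ← Matrix.mul_assoc (a⁻¹).val, Units.inv_mul,
      Matrix.one_mul])⟩
  have hSU : S ∈ Cfsg.GU (m + 2) K q := s.2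
  have hTU : T ∈ Cfsg.GU (m + 2) K q := t.2
  obtain ⟨⟨g, hgU⟩, hg⟩ := isConj_iff.1 ((isConj_iff_linear hK ⟨S, hSU⟩ ⟨T, hTU⟩).2 hconj)
  have hgST : g * S * g⁻¹ = T := congrArg Subtype.val hg
  have hx : S.val - 1 = vecMulVec (a.val *ᵥ Pi.single 1 1) (Pi.single 0 1 ᵥ* (a⁻¹).val) := by
    rw [show S.val = _ from ha, CfsgLib.KnownC.TransvClass.std, mul_add, add_mul, mul_one, Units.mul_inv, mul_vecMulVec,
      vecMulVec_mul, add_sub_cancel_left]
  have hy : Pi.single (0 : Fin (m + 2)) (1 : K) ᵥ* (a⁻¹).val ≠ 0 := fun h0 => by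
    have h1 := hs.1
    rw [show (((s : GL (Fin (m + 2)) K) : Matrix (Fin (m + 2)) (Fin (m + 2)) K)) - 1 = _ from hx, h0, vecMulVec_zero,
      rank_zero] at h1
    exact zero_ne_one h1
  have hdg : g.val.det * σ g.val.det = 1 := GU_det_norm hσ hgU
  have hg0 : g.val.det ≠ 0 := fun h0 => by simp [h0] at hdg
  obtain ⟨c, hcU, hcd, hcS⟩ := exists_centraliser_det hK hσ hc hn S hSU hs _ _ hy hx (g.val.det)⁻¹ (by
    rw [map_inv₀, ← mul_inv, mul_comm, hdg, inv_one])
  have hdet : (g * c).val.det = 1 := by rw [Units.val_mul, det_mul, hcd, mul_inv_cancel₀ hg0]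
  let k : SpecialLinearGroup (Fin (m + 2)) K := ⟨(g * c).val, hdet⟩
  have hk : SpecialLinearGroup.toGL k = g * c := Units.ext rfl
  have hmem : k ∈ Cfsg.SU (m + 2) K q := (Cfsg.GU (m + 2) K q).mul_mem hgU hcU
  refine isConj_iff.2 ⟨⟨k, hmem⟩, Subtype.ext (SpecialLinearGroup.toGL_injective ?_)⟩
  show SpecialLinearGroup.toGL (k * s.1 * k⁻¹) = SpecialLinearGroup.toGL t.1
  rw [map_mul, map_mul, map_inv, hk]
  show g * c * S * (g * c)⁻¹ = T
  rw [_root_.mul_inv_rev, mul_assoc g, hcS.eq, ← hgST]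
  group

/-- In the special unitary group SU_n(q) with n ≥ 3 (isometries of Σ u_i v_i^q of determinant one over the field with q² elements), any two transvections (elements t with t − 1 of rank one and square zero) are conjugate. -/
theorem result {K : Type*} [Field K] [Fintype K] {q n : ℕ} (hK : Fintype.card K = q ^ 2) (hn : 3 ≤ n) (s t : ↥(Cfsg.SU n K q)) (hs : Cfsg.IsTransvection (((s : GL (Fin n) K) : Matrix (Fin n) (Fin n) K))) (ht : Cfsg.IsTransvection (((t : GL (Fin n) K) : Matrix (Fin n) (Fin n) K))) : IsConj s t := by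
  obtain ⟨σ, hσ, hc⟩ := CfsgLib.Classical.exists_frob hK
  exact isConj_transvection hK hσ hc hn s t hs ht
end Cfsg.Agent.S2644
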