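import Cfsg.Statements.S2645
import Cfsg.Agent.Lib.KnownC.DualKernels
import Cfsg.Agent.Lib.KnownC.SympExist
import Cfsg.Agent.S2589


set_option autoImplicit false
open Cfsg

namespace Cfsg.Agent.S2645

open CfsgLib.KnownC
open Polynomial CfsgLib.KnownC.GUConj CfsgLib.KnownC.CyclotomicFactors
  CfsgLib.KnownC.SemisimpleClasses CfsgLib.KnownC.DualFactors CfsgLib.Classical

variable {F : Type*} [Field F] [Fintype F] {m : ℕ}

/-- A symplectic matrix on `Fin (m + m)`. -/
noncomputable def emb : Matrix.symplecticGroup (Fin m) F →* GL (Fin (m + m)) F :=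
  (Units.mapEquiv (Matrix.reindexAlgEquiv F F finSumFinEquiv).toMulEquiv).toMonoidHom.comp
    (Matrix.symplecticGroup (Fin m) F).subtype.toHomUnits

theorem isConj_adj_inv (A : Matrix.symplecticGroup (Fin m) F) :
    IsConj (emb A) (adjGL (RingHom.id F) (emb A))⁻¹ := by
  classical
  have hJ : (Matrix.J (Fin m) F).det ≠ 0 := Matrix.isUnit_det_J (Fin m) F |>.ne_zero
  let J : GL (Fin m ⊕ Fin m) F := Matrix.GeneralLinearGroup.mkOfDetNeZero _ hJ
  let R := Matrix.reindexAlgEquiv F F (finSumFinEquiv (m := m) (n := m))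
  refine isConj_iff.2 ⟨Units.mapEquiv R.toMulEquiv J, ?_⟩
  rw [eq_inv_iff_mul_eq_one, mul_eq_one_comm, ← mul_assoc, mul_inv_eq_one]
  refine Units.ext ?_
  have h1 : A.1.transpose * Matrix.J (Fin m) F * A.1 = Matrix.J (Fin m) F := SymplecticGroup.mem_iff'.1 A.2
  have h2 : (adjGL (RingHom.id F) (emb A)).val = R A.1.transpose := by
    show ((R A.1).map (RingHom.id F)).transpose = _
    ext a b
    rfl
  rw [Units.val_mul, Units.val_mul, h2]
  show R A.1.transpose * (R (Matrix.J (Fin m) F) * R A.1) = R (Matrix.J (Fin m) F)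
  rw [← map_mul, ← map_mul, ← Matrix.mul_assoc, h1]

theorem even_finrank {V : Type*} [AddCommGroup V] [Module F V] [FiniteDimensional F V]
    {B : V →ₗ[F] V →ₗ[F] F} (hA : B.IsAlt) (hN : B.Nondegenerate) : Even (Module.finrank F V) := by
  obtain ⟨k, b, -⟩ := exists_sympBasis hA hN
  exact ⟨k, by simp [Module.finrank_eq_card_basis b]⟩

theorem even_ker (A : Matrix.symplecticGroup (Fin m) F) {r : ℕ} (hr : (r : F) ≠ 0) (h : emb A ^ r = 1) :
    Even (Module.finrank F
      (LinearMap.ker ((Matrix.toLin' (emb A).val : Module.End F (Fin (m + m) → F)) - 1))) := by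
  classical
  let L : (Fin m ⊕ Fin m → F) ≃ₗ[F] (Fin (m + m) → F) := LinearEquiv.funCongrLeft F F finSumFinEquiv.symm
  let T : Module.End F (Fin (m + m) → F) := Matrix.toLin' (emb A).val
  let B := (sympBil F m).compl₁₂ L.symm.toLinearMap L.symm.toLinearMap
  have hLT : ∀ x, L.symm (T x) = A.1.mulVec (L.symm x) := fun x => by
    funext i
    show (Matrix.reindex finSumFinEquiv finSumFinEquiv A.1).mulVec x (finSumFinEquiv i) = _
    rw [Matrix.reindex_apply, Matrix.submatrix_mulVec_equiv, Function.comp_apply, Equiv.symm_apply_apply]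
    rfl
  have hiso : ∀ x y, B (T x) (T y) = B x y := fun x y => by
    show sympBil F m (L.symm (T x)) (L.symm (T y)) = _
    rw [hLT, hLT, sympBil_apply, (mem_symplecticGroup_iff_preserves m).1 A.2, ← sympBil_apply]
    rfl
  have hN : B.Nondegenerate := by
    refine ⟨fun x hx => L.symm.map_eq_zero_iff.1 ((sympBil_nondegenerate m).1 _ fun y => ?_),
      fun x hx => L.symm.map_eq_zero_iff.1 ((sympBil_nondegenerate m).2 _ fun y => ?_)⟩ <;>
    · obtain ⟨y', rfl⟩ := L.symm.surjective y
      exact hx y'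
  have hT : T ^ r = 1 := by
    rw [← Matrix.toLin'_pow, ← Units.val_pow_eq_pow_val, h, Units.val_one, Matrix.toLin'_one]
    rfl
  have hA : B.IsAlt := fun x => sympBil_isAlt m _
  refine even_finrank (B := restrictForm B (LinearMap.ker (T - 1))) (restrictForm_isAlt hA _) ?_
  have key : ∀ x ∈ LinearMap.ker (T - 1), (∀ y ∈ LinearMap.ker (T - 1), B x y = 0) → x = 0 := fun x hx hperp =>
    hN.1 x fun z => by
      have hz : z ∈ LinearMap.ker (T - 1) ⊔ LinearMap.range (T - 1) := by
        rw [(FormConj.isCompl_ker_range hT hr).sup_eq_top]; trivial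
      obtain ⟨w, hw, _, ⟨z', rfl⟩, rfl⟩ := Submodule.mem_sup.1 hz
      rw [map_add, hperp w hw, (FormConj.perp_ker_range hiso hx z').1, add_zero]
  exact ⟨fun x hx => Subtype.ext (key x x.2 fun y hy => hx ⟨y, hy⟩),
    fun x hx => Subtype.ext (key x x.2 fun y hy => hA.isRefl _ _ (hx ⟨y, hy⟩))⟩

theorem exists_isConj (g : GL (Fin (m + m)) F) {r : ℕ} (hodd : Odd r) (hr : (r : F) ≠ 0) (hg : g ^ r = 1)
    (hc : IsConj g (adjGL (RingHom.id F) g)⁻¹)
    (hev : Even (Module.finrank F (LinearMap.ker ((Matrix.toLin' g.val : Module.End F (Fin (m + m) → F)) - 1)))) :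
    ∃ A : Matrix.symplecticGroup (Fin m) F, IsConj g (emb A) := by
  classical
  obtain ⟨c, hc⟩ := isConj_iff.1 hc
  have hP : g.val.transpose * c.val * g.val = c.val := by
    have h1 : adjGL (RingHom.id F) g * c * g = c := by
      rw [eq_inv_iff_mul_eq_one, mul_eq_one_comm, ← mul_assoc, mul_inv_eq_one, ← mul_assoc] at hc
      exact hc
    have := congrArg Units.val h1
    rwa [Units.val_mul, Units.val_mul, show (adjGL (RingHom.id F) g).val = g.val.transpose from rfl] at this
  let B : (Fin (m + m) → F) →ₗ[F] (Fin (m + m) → F) →ₗ[F] F := Matrix.toLinearMap₂' F c.val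
  have hBa : ∀ x y, B x y = x ⬝ᵥ c.val.mulVec y := fun x y => Matrix.toLinearMap₂'_apply' _ _ _
  have hN : B.Nondegenerate := by
    refine ⟨fun x hx => ?_, fun y hy => ?_⟩
    · funext i
      have := hx ((c⁻¹).val.mulVec (Pi.single i 1))
      rw [hBa, Matrix.mulVec_mulVec, Units.mul_inv, Matrix.one_mulVec, dotProduct_single, mul_one] at this
      exact this
    · have h0 : c.val.mulVec y = 0 := funext fun i => by
        have := hy (Pi.single i 1)
        rwa [hBa, single_dotProduct, one_mul] at this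
      have := congrArg (Matrix.mulVec (c⁻¹).val) h0
      rwa [Matrix.mulVec_mulVec, Units.inv_mul, Matrix.one_mulVec, Matrix.mulVec_zero] at this
  let α : (Fin (m + m) → F) ≃ₗ[F] (Fin (m + m) → F) := (Matrix.GeneralLinearGroup.toLin g).toLinearEquiv
  have hαl : (α.toLinearMap : Module.End F (Fin (m + m) → F)) = Matrix.toLin' g.val := rfl
  obtain ⟨h, φ, hφ⟩ := SympExist.exists_symp (Module.finrank_fin_fun (R := F)) hN α (fun x y => by
    show B (g.val.mulVec x) (g.val.mulVec y) = _
    rw [hBa, hBa, ← Matrix.vecMul_transpose, ← Matrix.dotProduct_mulVec, Matrix.mulVec_mulVec,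
      Matrix.mulVec_mulVec, hP]) hodd hr (by
    rw [hαl, ← Matrix.toLin'_pow, ← Units.val_pow_eq_pow_val, hg, Units.val_one, Matrix.toLin'_one]; rfl)
    (by rw [hαl]; exact hev)
  refine ⟨(spEquiv m).symm h, ?_⟩
  let L : (Fin m ⊕ Fin m → F) ≃ₗ[F] (Fin (m + m) → F) := LinearEquiv.funCongrLeft F F finSumFinEquiv.symm
  let ψ := φ.trans L
  let d : GL (Fin (m + m)) F :=
    { val := LinearMap.toMatrix' ψ.toLinearMap
      inv := LinearMap.toMatrix' ψ.symm.toLinearMap
      val_inv := by rw [← LinearMap.toMatrix'_comp]; simp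
      inv_val := by rw [← LinearMap.toMatrix'_comp]; simp }
  refine isConj_iff.2 ⟨d, ?_⟩
  rw [mul_inv_eq_iff_eq_mul]
  refine Units.ext (Matrix.toLin'.injective (LinearMap.ext fun x => ?_))
  simp only [Units.val_mul, Matrix.toLin'_mul, LinearMap.comp_apply, d, Matrix.toLin'_toMatrix', LinearEquiv.coe_coe]
  show L (φ (g.val.mulVec x)) = (Matrix.reindex finSumFinEquiv finSumFinEquiv ((spEquiv m).symm h).1).mulVec (L (φ x))
  rw [show φ (g.val.mulVec x) = h.1 (φ x) from hφ x]
  funext i
  obtain ⟨j, rfl⟩ := finSumFinEquiv.surjective i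
  rw [Matrix.reindex_apply, Matrix.submatrix_mulVec_equiv, Function.comp_apply, Equiv.symm_apply_apply]
  have e := congrArg (fun f : isomGroup (sympBil F m) => f.1 (φ x)) ((spEquiv m).apply_symm_apply h)
  simp only [spEquiv_apply] at e
  show h.1 (φ x) (finSumFinEquiv.symm (finSumFinEquiv j)) = _
  rw [Equiv.symm_apply_apply, ← e]
  congr 2
  funext k
  simp [L]

/-- Number of conjugacy classes of elements of odd prime order r, r different from the characteristic, in the symplectic group Sp_2m(q): let i be the multiplicative order of q modulo r and t = (r − 1)/i. If i is odd the eigenvalue orbits pair off (Λ ≠ Λ⁻¹) and the classes correspond to the non-zero (t/2)-tuples (a_j) with 2i Σ a_j ≤ 2m, giving C(⌊m/i⌋ + t/2, t/2) − 1 classes; if i is even (Λ = Λ⁻¹) they correspond to the non-zero t-tuples with i Σ a_j ≤ 2m, giving C(⌊2m/i⌋ + t, t) − 1 classes. -/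
theorem result {F : Type*} [Field F] [Fintype F] {p q : ℕ} [Fact p.Prime] [CharP F p] (hF : Fintype.card F = q) (m r i t : ℕ) (hr : r.Prime) (hr2 : r ≠ 2) (hrp : r ≠ p) (hi : i = orderOf (q : ZMod r)) (ht : t * i = r - 1) : Nat.card {C : ConjClasses ↥(Matrix.symplecticGroup (Fin m) F) // ∃ g : Matrix.symplecticGroup (Fin m) F, ConjClasses.mk g = C ∧ orderOf g = r} = if Odd i then Nat.choose (m / i + t / 2) (t / 2) - 1 else Nat.choose (2 * m / i + t) t - 1 := by
  classical
  have hp : p.Prime := Fact.out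
  haveI := Fact.mk hr
  have hrF : (r : F) ≠ 0 := fun h => hrp (((Nat.prime_dvd_prime_iff_eq hp hr).1
    ((CharP.cast_eq_zero_iff F p r).1 h)).symm)
  have hodd : Odd r := hr.odd_of_ne_two hr2
  have hrq : ¬ r ∣ q := fun h => by
    obtain ⟨j, -, hj⟩ := FiniteField.card F p
    exact hrp ((Nat.prime_dvd_prime_iff_eq hr hp).1 (hr.dvd_of_dvd_pow (hj ▸ hF.symm ▸ h)))
  have hr1 : ¬ r ∣ 1 := hr.not_dvd_one
  have hq0 : (q : ZMod r) ≠ 0 := fun h => hrq ((ZMod.natCast_eq_zero_iff _ _).1 h)
  have hi0 : 0 < i := hi ▸ Nat.pos_of_ne_zero (fun h => by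
    rw [orderOf_eq_zero_iff] at h
    exact h (isOfFinOrder_iff_isUnit.2 (isUnit_iff_ne_zero.2 hq0)))
  have hdeg : ∀ o : Orbit F r, o.1.natDegree = i := fun o => (natDegree_some hr hrF hF o).trans hi.symm
  have hcard : Fintype.card (Orbit F r) = t := by
    refine Nat.eq_of_mul_eq_mul_right hi0 ?_
    rw [ht, hi]
    exact card_orbit hr hrF hF
  have hee : ∃ j : ℕ, ((1 : ℕ) : ZMod r) * ((1 : ℕ) : ZMod r) = (Fintype.card F : ZMod r) ^ j :=
    ⟨0, by rw [pow_zero, Nat.cast_one, mul_one]⟩
  have hcrit : (∃ j : ℕ, -((1 : ℕ) : ZMod r) = (Fintype.card F : ZMod r) ^ j) ↔ ¬ Odd i := by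
    rw [hF, Nat.cast_one, Nat.not_odd_iff_even]
    have hneg1 : (-1 : ZMod r) ≠ 1 := by
      intro h
      have h2 : ((2 : ℕ) : ZMod r) = 0 := by
        rw [Nat.cast_ofNat]; linear_combination -h
      exact hr2 ((Nat.prime_dvd_prime_iff_eq hr Nat.prime_two).1 ((ZMod.natCast_eq_zero_iff _ _).1 h2))
    constructor
    · rintro ⟨j, hj⟩
      by_contra ho
      rw [Nat.not_even_iff_odd] at ho
      refine hneg1 ?_
      rw [hj]
      refine orderOf_dvd_iff_pow_eq_one.1 ((dvd_of_eq hi.symm).trans ((Nat.coprime_two_right.2 ho).dvd_of_dvd_mul_left ?_))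
      exact (dvd_of_eq hi).trans (orderOf_dvd_of_pow_eq_one (by rw [mul_comm, pow_mul, ← hj, neg_one_sq]))
    · rintro ⟨j, hj⟩
      refine ⟨j, ?_⟩
      rcases sq_eq_one_iff.1 (show ((q : ZMod r) ^ j) ^ 2 = 1 by
        rw [← pow_mul, show j * 2 = i by omega, hi]; exact pow_orderOf_eq_one _) with h | h
      · have h2 := Nat.le_of_dvd (show 0 < j by omega) ((dvd_of_eq hi).trans (orderOf_dvd_of_pow_eq_one h))
        omega
      · exact h.symm
  let π := dual (F := F) hr hrF 1 hr1
  have hπ : ∀ o, π (π o) = o := dual_dual hr hrF 1 hr1 hee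
  let E : GL (Fin m ⊕ Fin m) F ≃* GL (Fin (m + m)) F :=
    Units.mapEquiv (Matrix.reindexAlgEquiv F F finSumFinEquiv).toMulEquiv
  let ι : Matrix.symplecticGroup (Fin m) F →* GL (Fin (m + m)) F :=
    E.toMonoidHom.comp (Matrix.symplecticGroup (Fin m) F).subtype.toHomUnits
  have hιinj : Function.Injective ι := fun A B h => Subtype.ext (congrArg Units.val (E.injective h))
  have hisConj : ∀ A B, IsConj (ι A) (ι B) →
      IsConj (A : Matrix (Fin m ⊕ Fin m) (Fin m ⊕ Fin m) F) (B : Matrix (Fin m ⊕ Fin m) (Fin m ⊕ Fin m) F) := by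
    intro A B h
    have h1 := MonoidHom.map_isConj ((Units.coeHom _).comp E.symm.toMonoidHom) h
    simpa [ι] using h1
  let σ : F →+* F := RingHom.id F
  let e : {C : ConjClasses ↥(Matrix.symplecticGroup (Fin m) F) //
      ∃ g : Matrix.symplecticGroup (Fin m) F, ConjClasses.mk g = C ∧ orderOf g = r} ≃
      {C : ConjClasses (GL (Fin (m + m)) F) //
        ∃ g : GL (Fin (m + m)) F, ConjClasses.mk g = C ∧ orderOf g = r ∧ IsConj g (adjGL σ g)⁻¹ ∧
          Even (Module.finrank F (LinearMap.ker ((Matrix.toLin' g.val : Module.End F (Fin (m + m) → F)) - 1)))} := by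
    refine Equiv.ofBijective (fun C => ⟨ConjClasses.map ι C.1, ?_⟩) ⟨?_, ?_⟩
    · obtain ⟨g, hg, ho⟩ := C.2
      refine ⟨ι g, by rw [← hg]; rfl, by rw [orderOf_injective ι hιinj, ho], ?_, ?_⟩
      · exact isConj_adj_inv g
      · refine even_ker g (r := r) hrF ?_
        rw [← map_pow, ← ho, pow_orderOf_eq_one, map_one]
    · intro a c hac
      obtain ⟨g, hg, hgo⟩ := a.2
      obtain ⟨h, hh, -⟩ := c.2
      refine Subtype.ext ?_
      have e : ConjClasses.map ι a.1 = ConjClasses.map ι c.1 := congrArg Subtype.val hac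
      rw [← hg, ← hh] at e ⊢
      refine ConjClasses.mk_eq_mk_iff_isConj.2 ((Cfsg.Agent.S2589.result g h (p := p) ?_).2
        (hisConj g h (ConjClasses.mk_eq_mk_iff_isConj.1 e)))
      rw [hgo]; exact (Nat.coprime_primes hr hp).2 hrp
    · rintro ⟨C, g, rfl, hg, hgc, hev⟩
      obtain ⟨A, hA⟩ := exists_isConj g hodd hrF (hg ▸ pow_orderOf_eq_one g) hgc hev
      refine ⟨⟨ConjClasses.mk A, A, rfl, ?_⟩, Subtype.ext (ConjClasses.mk_eq_mk_iff_isConj.2 hA.symm)⟩
      obtain ⟨c, hc⟩ := isConj_iff.1 hA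
      rw [← orderOf_injective ι hιinj, show ι A = c * g * c⁻¹ from hc.symm, ← hg]
      exact orderOf_injective (MulAut.conj c).toMonoidHom (MulAut.conj c).injective g
  rw [Nat.card_congr e, card_classes irreducible_fac (coprime_fac hr hrF) (not_X_dvd hr hrF)
    (fun g : GL (Fin (m + m)) F => orderOf g = r ∧ IsConj g (adjGL σ g)⁻¹ ∧
      Even (Module.finrank F (LinearMap.ker ((Matrix.toLin' g.val : Module.End F (Fin (m + m) → F)) - 1))))
    (fun a => (∃ o, a (some o) ≠ 0) ∧ (∀ o, a (some (π o)) = a (some o)) ∧ Even (a none))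
    (fun g h => by
      rw [prod_fac hr hrF, map_sub, map_pow, aeval_X, map_one, sub_eq_zero, ← Units.val_pow_eq_pow_val,
        ← h.1, pow_orderOf_eq_one, Units.val_one]) ?_]
  · have hfix : Odd i → ∀ o, π o ≠ o := fun ho o h =>
      (hcrit.1 ((dual_eq_self_iff hr hrF 1 hr1 o).1 h)) ho
    have hev : ∀ a : Option (Orbit F r) → ℕ, (∀ o, a (some (π o)) = a (some o)) →
        Even (i * ∑ o, a (some o)) := by
      intro a ha
      rcases Nat.even_or_odd i with he | ho
      · exact he.mul_right _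
      · refine Even.mul_left ?_ i
        rw [← ZMod.natCast_eq_zero_iff_even, Nat.cast_sum]
        refine Finset.sum_involution (fun o _ => π o) (fun o _ => ?_) (fun o _ _ => hfix ho o)
          (fun o _ => Finset.mem_univ _) (fun o _ => hπ o)
        rw [ha]
        exact CharTwo.add_self_eq_zero _
    have e2 : Nat.card {a : Option (Orbit F r) → ℕ // (∑ o, a o * (fac F r o).natDegree = m + m) ∧
        (∃ o, a (some o) ≠ 0) ∧ (∀ o, a (some (π o)) = a (some o)) ∧ Even (a none)} =
      Nat.card {a : Option (Orbit F r) → ℕ // a none + i * ∑ o, a (some o) = m + m ∧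
        (∀ o, a (some (π o)) = a (some o)) ∧ ∃ o, a (some o) ≠ 0} := by
      refine Nat.card_congr (Equiv.subtypeEquivRight fun a => ?_)
      rw [show ∑ o, a o * (fac F r o).natDegree = a none + i * ∑ o, a (some o) from ?_]
      · refine ⟨fun h => ⟨h.1, h.2.2.1, h.2.1⟩, fun h => ⟨h.1, h.2.2, h.2.1, ?_⟩⟩
        exact (Nat.even_add.1 (h.1 ▸ Even.add_self m)).2 (hev a h.2.1)
      rw [Fintype.sum_option, Finset.mul_sum]
      congr 1
      · show a none * (X - C (1 : F)).natDegree = _
        rw [natDegree_X_sub_C, mul_one]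
      · refine Finset.sum_congr rfl fun o _ => ?_
        show _ * o.1.natDegree = _
        rw [hdeg o, mul_comm]
    rw [e2]
    obtain ⟨hA, hB⟩ := card_invariant (Orbit F r) π hπ hi0 (m + m)
    split_ifs with h4
    · rw [hB (hfix h4), hcard, ← two_mul, Nat.mul_div_mul_left _ _ two_pos]
    · rw [hA (fun o => (dual_eq_self_iff hr hrF 1 hr1 o).2 (hcrit.2 h4)), hcard, two_mul]
  · intro g hg
    rw [order_iff hr hrF g hg]
    refine and_congr_right fun ho => and_congr ?_ ?_
    · exact isConj_adj_inv_iff σ (fun _ => rfl) hr hrF (p := p) (k := 0) (e := 1) (fun x => (pow_one x).symm) hr1 hee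
        (pow_zero p).symm g ((orderOf_dvd_iff_pow_eq_one).1 ((order_iff hr hrF g hg).2 ho).dvd)
    · rw [show Module.finrank F (LinearMap.ker ((Matrix.toLin' g.val : Module.End F (Fin (m + m) → F)) - 1)) =
        mult (fac F r) g none from ?_]
      have h1 := mult_mul irreducible_fac g (none : Option (Orbit F r))
      rw [show (fac F r none).natDegree = 1 from natDegree_X_sub_C 1, mul_one] at h1
      have e : aeval (Matrix.toLin' g.val : Module.End F (Fin (m + m) → F)) (fac F r none) =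
          (Matrix.toLin' g.val : Module.End F (Fin (m + m) → F)) - 1 := by
        show aeval _ (X - C 1) = _
        rw [map_sub, aeval_X, aeval_C, map_one]
      rw [h1, SemisimpleClasses.comp, e]
end Cfsg.Agent.S2645
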