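import Cfsg.Statements.S2647
import Cfsg.Agent.Lib.FusionSystem.OmegaSeven.Simple

set_option autoImplicit false
open Cfsg

namespace Cfsg.Agent.S2647

theorem result {F : Type*} [Field F] [Fintype F] [DecidableEq F] (q : ℕ) (hF : Fintype.card F = q) (hq : q % 8 = 3 ∨ q % 8 = 5) (S : Sylow 2 ↥(Cfsg.Omega F (Cfsg.quadFormOdd 3 F))) : (Cfsg.groupFusionSystem (S : Subgroup ↥(Cfsg.Omega F (Cfsg.quadFormOdd 3 F)))).autGroup (S : Subgroup ↥(Cfsg.Omega F (Cfsg.quadFormOdd 3 F))) = Cfsg.Inn ↥(S : Subgroup ↥(Cfsg.Omega F (Cfsg.quadFormOdd 3 F))) ∧ (∀ T : Subgroup ↥(Cfsg.Omega F (Cfsg.quadFormOdd 3 F)), (Cfsg.groupFusionSystem (S : Subgroup ↥(Cfsg.Omega F (Cfsg.quadFormOdd 3 F)))).StronglyClosed T → T = ⊥ ∨ T = (S : Subgroup ↥(Cfsg.Omega F (Cfsg.quadFormOdd 3 F)))) ∧ (Cfsg.groupFusionSystem (S : Subgroup ↥(Cfsg.Omega F (Cfsg.quadFormOdd 3 F)))).IsSimple 2 := by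
  have hodd : Odd (Fintype.card F) := by rw [hF, Nat.odd_iff]; omega
  have h2 := CfsgLib.OrthTwoRank.two_ne hodd
  have hnsq : ¬ IsSquare (2 : F) := fun h => by
    have := FiniteField.isSquare_two_iff.1 h
    omega
  obtain ⟨f, c, hc⟩ := CfsgLib.Fsys.OmegaSeven.exists_equal_frame (CfsgLib.Orth.oddForm_nondeg 3 h2) h2
    (by simp)
  exact CfsgLib.Fsys.OmegaSeven.main (CfsgLib.Orth.oddForm F 3) (CfsgLib.Orth.oddForm_apply 3)
    ⟨CfsgLib.Orth.oddForm_nondeg 3 h2, h2, f, c, hc, hnsq⟩ S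

end Cfsg.Agent.S2647
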