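import Cfsg.Statements.S2649
import Cfsg.Agent.Lib.Sporadic.M23Ext.Unique
import Cfsg.Agent.Lib.Sporadic.M23Ext.CodeCert

set_option autoImplicit false
open Cfsg CfsgLib.Sporadic.M23Cocode CfsgLib.Sporadic.M23Ext

namespace Cfsg.Agent.S2649

/-- Extensions of the Mathieu group M₂₃ by its code module split. Let E be a finite group with a normal subgroup N, an isomorphism φ from E/N onto M₂₃ = `Spor.M23` (the stabiliser of the extra point `none` in M₂₄ acting on the 24 points `GolayPt`), and an injective additive homomorphism ψ from N onto the set of words of the binary Golay code `golayCode` that vanish at `none` (an 11-dimensional space over the field with two elements), such that conjugation by g ∈ E on N corresponds under ψ to the coordinate permutation w ↦ w ∘ σ⁻¹, σ the permutation φ(gN). Then N has a complement in E: some subgroup H meets N trivially and generates E together with N. (Equivalently, the second cohomology group of M₂₃ with coefficients in this module vanishes.) -/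
theorem result
    {E : Type*} [Group E] [Finite E] (N : Subgroup E) [hN : N.Normal]
    (φ : E ⧸ N ≃* ↥Cfsg.Spor.M23)
    (ψ : Additive ↥N →+ (Cfsg.GolayPt → ZMod 2)) (hinj : Function.Injective ψ)
    (hrange : ∀ w : Cfsg.GolayPt → ZMod 2, w ∈ Set.range ψ ↔ (w ∈ Cfsg.golayCode ∧ w none = 0))
    (hψ : ∀ (g : E) (n : ↥N),
      ψ (Additive.ofMul ⟨g * n * g⁻¹, hN.conj_mem n n.2 g⟩)
        = ψ (Additive.ofMul n) ∘ ⇑(((φ (QuotientGroup.mk g) : ↥Cfsg.Spor.M23) : Equiv.Perm Cfsg.GolayPt)⁻¹)) :
    ∃ H : Subgroup E, H ⊓ N = ⊥ ∧ H ⊔ N = ⊤ := by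
  classical
  have hsel : ∀ v : Vec, ∃ n : ↥N, ψ (Additive.ofMul n) = iota v := fun v => by
    obtain ⟨x, hx⟩ := (hrange (iota v)).2 ⟨iota_mem v, iota_none v⟩
    exact ⟨x.toMul, hx⟩
  choose sel hsel using hsel
  let X : ModExt codeR E :=
    { π := φ.toMonoidHom.comp (QuotientGroup.mk' N)
      surj := φ.surjective.comp (QuotientGroup.mk'_surjective N)
      ι := fun v => (sel v : E)
      ι_add := fun a b => by
        rw [← Subgroup.coe_mul]
        refine congrArg Subtype.val (Additive.ofMul.injective (hinj ?_))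
        rw [ofMul_mul, map_add, hsel, hsel, hsel, map_add]
      ι_inj := fun a b h => by
        have := congrArg (fun n => ψ (Additive.ofMul n)) (Subtype.ext h : sel a = sel b)
        simp only [hsel] at this
        rw [← res_iota a, ← res_iota b, this]
      range_iff := fun e => by
        constructor
        · intro h
          have he : e ∈ N := (QuotientGroup.eq_one_iff e).1 (φ.injective (h.trans (map_one φ).symm))
          obtain ⟨hc, h0⟩ := (hrange _).1 ⟨Additive.ofMul (⟨e, he⟩ : ↥N), rfl⟩
          refine ⟨res (ψ (Additive.ofMul (⟨e, he⟩ : ↥N))), ?_⟩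
          exact congrArg Subtype.val (Additive.ofMul.injective (hinj ((hsel _).trans (iota_res hc h0))))
        · rintro ⟨v, rfl⟩
          show φ (QuotientGroup.mk' N (sel v : E)) = 1
          rw [show QuotientGroup.mk' N (sel v : E) = 1 from (QuotientGroup.eq_one_iff _).2 (sel v).2, map_one]
      conj := fun e v => by
        refine congrArg Subtype.val (?_ : (⟨e * sel v * e⁻¹, hN.conj_mem _ (sel v).2 e⟩ : ↥N) = sel _)
        refine Additive.ofMul.injective (hinj ?_)
        rw [hψ, hsel, hsel]
        funext p
        show iota v _ = iota (Q _ v) p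
        rw [iota_Q]
        rfl }
  obtain ⟨ℓ, hℓ, c, hc⟩ := CfsgLib.Sporadic.M23Ext.exists_normal CfsgLib.Sporadic.M23Ext.CodeCert.cert X
    CfsgLib.Sporadic.M23Ext.CodeCert.ok CfsgLib.Sporadic.M23Ext.CodeCert.actOK
  obtain ⟨H, h1, h2⟩ := X.complement_of_table hℓ fun a ha j => by
    rw [hc a ha j, CfsgLib.Sporadic.M23Ext.shape_eq_zero rfl]
    funext k
    exact mul_zero c
  have hk : X.π.ker = N := by
    ext e
    show φ (QuotientGroup.mk' N e) = 1 ↔ e ∈ N
    rw [map_eq_one_iff _ φ.injective, QuotientGroup.mk'_apply, QuotientGroup.eq_one_iff]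
  rw [hk] at h1 h2
  exact ⟨H, h1, h2⟩

end Cfsg.Agent.S2649
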