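import Cfsg.Statements.S2653
import Cfsg.Agent.Lib.AltRep.Reduction

set_option autoImplicit false
open scoped MatrixGroups
open Cfsg

namespace Cfsg.Agent.S2653

/-- Alternating sections of finite linear groups. Let `F` be a finite field of characteristic `p` and `n` a natural number, and suppose some subgroup `H` of GL_n(F) has a normal subgroup `K` with `H ⧸ K` isomorphic to the alternating group of degree `r ≥ 9`. Then `n ≥ r - 2` when `p` divides `r`, and `n ≥ r - 1` otherwise (the smallest degree of a nontrivial projective representation of that alternating group in characteristic `p`). The same bound follows for every classical group with natural module of dimension `n` over `F`, since each is a section of a subgroup of GL_n(F). -/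
theorem result {F : Type*} [Field F] [Fintype F] (p : ℕ) [Fact p.Prime] [CharP F p]
    (n : ℕ) (r : ℕ) (H : Subgroup (GL (Fin n) F)) (K : Subgroup ↥H) [K.Normal]
    (h : Nonempty (↥H ⧸ K ≃* ↥(alternatingGroup (Fin r)))) (hr : 9 ≤ r) :
    r - 1 - (if p ∣ r then 1 else 0) ≤ n := by
  obtain ⟨e⟩ := h
  haveI : CharP (AlgebraicClosure F) p := charP_of_injective_algebraMap (RingHom.injective (algebraMap F (AlgebraicClosure F))) p
  haveI : Finite H := Finite.of_injective _ Subtype.val_injective
  let ρ : H →* Module.End (AlgebraicClosure F) (Fin n → AlgebraicClosure F) :=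
    (Matrix.toLinAlgEquiv' (R := AlgebraicClosure F) (n := Fin n)).toAlgHom.toMonoidHom.comp
      (((algebraMap F (AlgebraicClosure F)).mapMatrix (m := Fin n)).toMonoidHom.comp
        ((Units.coeHom (Matrix (Fin n) (Fin n) F)).comp H.subtype))
  have hb := CfsgLib.AltRep.section_bound hr p (e.toMonoidHom.comp (QuotientGroup.mk' K)) ρ
    (e.surjective.comp (QuotientGroup.mk'_surjective K)) fun g hg => by
      have h1 : g = 1 := by
        refine Subtype.ext (Units.ext (Matrix.map_injective (f := algebraMap F (AlgebraicClosure F)) (RingHom.injective _) ?_))
        show (algebraMap F (AlgebraicClosure F)).mapMatrix _ = (algebraMap F (AlgebraicClosure F)).mapMatrix 1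
        rw [map_one]
        refine (Matrix.toLinAlgEquiv' (R := AlgebraicClosure F) (n := Fin n)).injective ?_
        rw [map_one]
        exact hg
      rw [h1, map_one]
  rwa [Module.finrank_fin_fun] at hb

end Cfsg.Agent.S2653
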