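import Cfsg.Statements.S2657
import Cfsg.Agent.Lib.Chevalley.F4AltSection.Lift
import Cfsg.Agent.Lib.Chevalley.F4AltSection.Fusion

set_option autoImplicit false
open scoped MatrixGroups
open Cfsg

namespace Cfsg.Agent.S2657

open CfsgLib.Chevalley

/-- The embedding of the first points. -/
def emb {k r : ℕ} (h : k ≤ r) : Fin k ≃ {i : Fin r // i.val < k} where
  toFun i := ⟨Fin.castLE h i, i.2⟩
  invFun i := ⟨i.1.val, i.2⟩
  left_inv _ := rfl
  right_inv _ := rfl

/-- The embedding of a smaller alternating group. -/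
def altEmb {k r : ℕ} (h : k ≤ r) : ↥(alternatingGroup (Fin k)) →* ↥(alternatingGroup (Fin r)) :=
  ((Equiv.Perm.extendDomainHom (emb h)).comp (alternatingGroup (Fin k)).subtype).codRestrict _ fun g =>
    Equiv.Perm.mem_alternatingGroup.2 ((Equiv.Perm.sign_extendDomain _ _).trans (Equiv.Perm.mem_alternatingGroup.1 g.2))

theorem altEmb_injective {k r : ℕ} (h : k ≤ r) : Function.Injective (altEmb h) := fun a b e =>
  Subtype.ext (Equiv.Perm.extendDomainHom_injective (emb h) (congrArg Subtype.val e))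

/-- An eleven-cycle. -/
def sigma : Equiv.Perm (Fin 11) where
  toFun := ![1, 2, 3, 4, 5, 6, 7, 8, 9, 10, 0]
  invFun := ![10, 0, 1, 2, 3, 4, 5, 6, 7, 8, 9]
  left_inv := by intro i; revert i; decide
  right_inv := by intro i; revert i; decide

/-- An element acting on the eleven-cycle as cubing. -/
def tau : Equiv.Perm (Fin 11) where
  toFun := ![0, 3, 6, 9, 1, 4, 7, 10, 2, 5, 8]
  invFun := ![0, 4, 8, 1, 5, 9, 2, 6, 10, 3, 7]
  left_inv := by intro i; revert i; decide
  right_inv := by intro i; revert i; decide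

theorem eleven_rel : ∃ s t : ↥(alternatingGroup (Fin 11)), orderOf s = 11 ∧ t * s * t⁻¹ = s ^ 3 := by
  refine ⟨⟨sigma, Equiv.Perm.mem_alternatingGroup.2 (by decide +kernel)⟩,
    ⟨tau, Equiv.Perm.mem_alternatingGroup.2 (by decide +kernel)⟩, ?_, ?_⟩
  · have : Fact (Nat.Prime 11) := ⟨by norm_num⟩
    rw [← Subgroup.orderOf_coe]
    exact orderOf_eq_prime (by decide +kernel) (by decide +kernel)
  · exact Subtype.ext (show tau * sigma * tau⁻¹ = sigma ^ 3 by decide +kernel)

/-- A five-cycle on the first points. -/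
def five : Equiv.Perm (Fin 12) where
  toFun := ![1, 2, 3, 4, 0, 5, 6, 7, 8, 9, 10, 11]
  invFun := ![4, 0, 1, 2, 3, 5, 6, 7, 8, 9, 10, 11]
  left_inv := by intro i; revert i; decide
  right_inv := by intro i; revert i; decide

/-- A seven-cycle on the other points. -/
def seven : Equiv.Perm (Fin 12) where
  toFun := ![0, 1, 2, 3, 4, 6, 7, 8, 9, 10, 11, 5]
  invFun := ![0, 1, 2, 3, 4, 11, 5, 6, 7, 8, 9, 10]
  left_inv := by intro i; revert i; decide
  right_inv := by intro i; revert i; decide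

/-- An element acting on both cycles. -/
def act : Equiv.Perm (Fin 12) where
  toFun := ![0, 2, 4, 1, 3, 5, 8, 11, 7, 10, 6, 9]
  invFun := ![0, 3, 1, 4, 2, 5, 10, 8, 6, 11, 9, 7]
  left_inv := by intro i; revert i; decide
  right_inv := by intro i; revert i; decide

theorem twelve_rel : ∃ u w t : ↥(alternatingGroup (Fin 12)), orderOf u = 5 ∧ orderOf w = 7 ∧
    u * w = w * u ∧ t * u * t⁻¹ = u ^ 2 ∧ t * w * t⁻¹ = w ^ 3 := by
  refine ⟨⟨five, Equiv.Perm.mem_alternatingGroup.2 (by decide +kernel)⟩,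
    ⟨seven, Equiv.Perm.mem_alternatingGroup.2 (by decide +kernel)⟩,
    ⟨act, Equiv.Perm.mem_alternatingGroup.2 (by decide +kernel)⟩, ?_, ?_, ?_, ?_, ?_⟩
  · have : Fact (Nat.Prime 5) := ⟨by norm_num⟩
    rw [← Subgroup.orderOf_coe]
    exact orderOf_eq_prime (by decide +kernel) (by decide +kernel)
  · have : Fact (Nat.Prime 7) := ⟨by norm_num⟩
    rw [← Subgroup.orderOf_coe]
    exact orderOf_eq_prime (by decide +kernel) (by decide +kernel)
  · exact Subtype.ext (show five * seven = seven * five by decide +kernel)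
  · exact Subtype.ext (show act * five * act⁻¹ = five ^ 2 by decide +kernel)
  · exact Subtype.ext (show act * seven * act⁻¹ = seven ^ 3 by decide +kernel)

theorem exp_eleven (j : ℕ) : ¬ (3 ^ 11 ^ j) ^ 1152 ≡ 1 [MOD 11] := by
  have h5 : 11 ^ j * 1152 % 5 = 2 := by rw [Nat.mul_mod, Nat.pow_mod]; norm_num
  unfold Nat.ModEq
  rw [← pow_mul, ← Nat.mod_add_div (11 ^ j * 1152) 5, h5, pow_add, pow_mul, Nat.mul_mod,
    Nat.pow_mod (3 ^ 5)]
  norm_num

theorem exp_roots (i j : ℕ) : IsPrimitiveRoot ((2 ^ (5 ^ i * 7 ^ j) : ℕ) : ZMod 5) 4 ∧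
    IsPrimitiveRoot ((3 ^ (5 ^ i * 7 ^ j) : ℕ) : ZMod 7) 6 := by
  have h2 : IsPrimitiveRoot (2 : ZMod 5) 4 := IsPrimitiveRoot.mk_of_lt _ (by norm_num) (by decide)
    (fun l h0 h4 => by interval_cases l <;> decide)
  have h3 : IsPrimitiveRoot (3 : ZMod 7) 6 := IsPrimitiveRoot.mk_of_lt _ (by norm_num) (by decide)
    (fun l h0 h6 => by interval_cases l <;> decide)
  constructor
  · rw [Nat.cast_pow]
    exact h2.pow_of_coprime _ (Nat.Coprime.mul_left (Nat.Coprime.pow_left _ (by norm_num))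
      (Nat.Coprime.pow_left _ (by norm_num)))
  · rw [Nat.cast_pow]
    exact h3.pow_of_coprime _ (Nat.Coprime.mul_left (Nat.Coprime.pow_left _ (by norm_num))
      (Nat.Coprime.pow_left _ (by norm_num)))

/-- Alternating sections of the groups of type F₄. Let `F` be a finite field of characteristic `p` and let `G` be the Chevalley group of type F₄ over `F`. If some subgroup of `G` has a quotient isomorphic to the alternating group of degree `r`, then `r` is at most 10, or 11 in characteristic 11. (Only an upper bound is asserted.) -/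
theorem result {F : Type*} [Field F] [Fintype F] (p : ℕ) [Fact p.Prime] [CharP F p]
    (r : ℕ) (H : Subgroup ↥(Cfsg.Lie.chevF4.group F)) (K : Subgroup ↥H) [K.Normal]
    (h : Nonempty (↥H ⧸ K ≃* ↥(alternatingGroup (Fin r)))) :
    r ≤ 10 + (if p = 11 then 1 else 0) := by
  classical
  revert H
  rw [← Data.F4.datum_eq]
  intro H K _ h
  obtain ⟨e⟩ := h
  let φ : ↥H →* ↥(alternatingGroup (Fin r)) := e.toMonoidHom.comp (QuotientGroup.mk' K)
  have hφ : ∀ z, z ∈ φ.range := e.surjective.comp (QuotientGroup.mk'_surjective K)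
  let C : ↥H →* GL (Data.F4.tbl).I F := ((Data.F4.tbl).datum.group F).subtype.comp H.subtype
  have hC : Function.Injective C := Subtype.val_injective.comp Subtype.val_injective
  have hCmem : ∀ z, C z ∈ (Data.F4.tbl).datum.group F := fun z => (z : ↥((Data.F4.tbl).datum.group F)).2
  have hab : ∀ ℓ : ℕ, ℓ.Prime → 5 ≤ ℓ → ℓ ≠ p → ∀ P : Subgroup ↥H, IsPGroup ℓ P →
      ∀ a ∈ P, ∀ b ∈ P, a * b = b * a := by
    intro ℓ hℓ h5 hℓp P hP a ha b hb
    have : Fact ℓ.Prime := ⟨hℓ⟩
    obtain ⟨L, _, _, ι, hL⟩ := F4AltSection.exists_field (F := F) (p := p) (d := ℓ - 1) (by omega)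
    exact Subtype.ext (F4AltSection.comm_of_isPGroup ι h5 (hL ℓ hℓ hℓp dvd_rfl) (hP.map H.subtype) _
      (Subgroup.mem_map_of_mem _ ha) _ (Subgroup.mem_map_of_mem _ hb))
  by_contra hlt
  by_cases hp : p = 11
  · rw [if_pos hp] at hlt
    have h12 : 12 ≤ r := by omega
    have : Fact (Nat.Prime 5) := ⟨by norm_num⟩
    have : Fact (Nat.Prime 7) := ⟨by norm_num⟩
    obtain ⟨u, w, t, hu, hw, huw, htu, htw⟩ := twelve_rel
    obtain ⟨g, g', m, i, j, hgo, hgo', hgg, hg, hg'⟩ := F4AltSection.double φ (a := 5) (b := 7)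
      (by norm_num) (hab 5 (by norm_num) le_rfl (by omega)) (hab 7 (by norm_num) (by norm_num) (by omega))
      (u := altEmb h12 u) (w := altEmb h12 w) (t := altEmb h12 t)
      ((orderOf_injective _ (altEmb_injective h12) u).trans hu)
      ((orderOf_injective _ (altEmb_injective h12) w).trans hw)
      (by rw [← map_mul, huw, map_mul]) (hφ _) (hφ _) (hφ _)
      (by rw [← map_inv, ← map_mul, ← map_mul, htu, map_pow])
      (by rw [← map_inv, ← map_mul, ← map_mul, htw, map_pow])
    refine F4AltSection.no_five_seven (F := F) (p := p) (by omega) (by omega) (hCmem g) (hCmem g') (hCmem m)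
      ((orderOf_injective _ hC g).trans hgo) ((orderOf_injective _ hC g').trans hgo')
      (by rw [← map_mul, hgg, map_mul]) (exp_roots i j).1 (exp_roots i j).2 ?_ ?_
    · rw [← map_inv, ← map_mul, ← map_mul, hg, map_pow]
    · rw [← map_inv, ← map_mul, ← map_mul, hg', map_pow]
  · rw [if_neg hp] at hlt
    have h11 : 11 ≤ r := by omega
    have : Fact (Nat.Prime 11) := ⟨by norm_num⟩
    obtain ⟨s, t, hs, hst⟩ := eleven_rel
    obtain ⟨g, m, j, hgo, hg⟩ := F4AltSection.single φ (ℓ := 11) (hab 11 (by norm_num) (by norm_num) (Ne.symm hp))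
      (s := altEmb h11 s) (t := altEmb h11 t) ((orderOf_injective _ (altEmb_injective h11) s).trans hs)
      (hφ _) (hφ _) (by rw [← map_inv, ← map_mul, ← map_mul, hst, map_pow])
    exact F4AltSection.no_eleven (F := F) (p := p) hp (hCmem g) (hCmem m)
      ((orderOf_injective _ hC g).trans hgo) (exp_eleven j) (by rw [← map_inv, ← map_mul, ← map_mul, hg, map_pow])

end Cfsg.Agent.S2657
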