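import Cfsg.Statements.S2658
import Cfsg.Agent.Lib.Chevalley.G2AltSection.Five
import Cfsg.Agent.Lib.Chevalley.G2AltSection.Eight

set_option autoImplicit false
open scoped MatrixGroups
open Cfsg

namespace Cfsg.Agent.S2658

open CfsgLib.Chevalley

/-- The embedding of the first points. -/
def emb {k r : ℕ} (h : k ≤ r) : Fin k ≃ {i : Fin r // i.val < k} where
  toFun i := ⟨Fin.castLE h i, i.2⟩
  invFun i := ⟨i.1.val, i.2⟩
  left_inv _ := rfl
  right_inv _ := rfl

/-- The embedding of a smaller alternating group. -/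
def altEmb {k r : ℕ} (h : k ≤ r) : ↥(alternatingGroup (Fin k)) →* ↥(alternatingGroup (Fin r)) :=
  ((Equiv.Perm.extendDomainHom (emb h)).comp (alternatingGroup (Fin k)).subtype).codRestrict _ fun g =>
    Equiv.Perm.mem_alternatingGroup.2 ((Equiv.Perm.sign_extendDomain _ _).trans (Equiv.Perm.mem_alternatingGroup.1 g.2))

theorem altEmb_injective {k r : ℕ} (h : k ≤ r) : Function.Injective (altEmb h) := fun a b e =>
  Subtype.ext (Equiv.Perm.extendDomainHom_injective (emb h) (congrArg Subtype.val e))

/-- A five-cycle. -/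
def sigma : Equiv.Perm (Fin 7) where
  toFun := ![1, 2, 3, 4, 0, 5, 6]
  invFun := ![4, 0, 1, 2, 3, 5, 6]
  left_inv := by intro i; revert i; decide
  right_inv := by intro i; revert i; decide

/-- An element acting on the five-cycle as squaring. -/
def tau : Equiv.Perm (Fin 7) where
  toFun := ![0, 2, 4, 1, 3, 6, 5]
  invFun := ![0, 3, 1, 4, 2, 6, 5]
  left_inv := by intro i; revert i; decide
  right_inv := by intro i; revert i; decide

theorem seven_rel : ∃ s t : ↥(alternatingGroup (Fin 7)), orderOf s = 5 ∧ t * s * t⁻¹ = s ^ 2 := by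
  refine ⟨⟨sigma, Equiv.Perm.mem_alternatingGroup.2 (by decide +kernel)⟩,
    ⟨tau, Equiv.Perm.mem_alternatingGroup.2 (by decide +kernel)⟩, ?_, ?_⟩
  · have : Fact (Nat.Prime 5) := ⟨by norm_num⟩
    rw [← Subgroup.orderOf_coe]
    exact orderOf_eq_prime (by decide +kernel) (by decide +kernel)
  · exact Subtype.ext (show tau * sigma * tau⁻¹ = sigma ^ 2 by decide +kernel)

/-- Translations of two blocks of four points. -/
def block (i : Fin 16) (j : Fin 8) : Fin 8 :=
  if j.val < 4 then ⟨(j.val ^^^ (i.val % 4)) % 8, Nat.mod_lt _ (by norm_num)⟩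
  else ⟨(4 + ((j.val - 4) ^^^ (i.val / 4))) % 8, Nat.mod_lt _ (by norm_num)⟩

theorem block_inv : ∀ i : Fin 16, Function.Involutive (block i) := by
  unfold Function.Involutive; decide +kernel

/-- The sixteen involutions and one. -/
def blockPerm (i : Fin 16) : Equiv.Perm (Fin 8) := (block_inv i).toPerm

theorem block_mul : ∀ p : Fin 16 × Fin 16, ∃ k : Fin 16, ∀ j, block p.1 (block p.2 j) = block k j := by
  decide +kernel

theorem block_sign : ∀ i : Fin 16, Equiv.Perm.sign (blockPerm i) = 1 := by decide +kernel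

theorem block_zero : ∀ j, block 0 j = j := by decide +kernel

theorem block_injective : ∀ p : Fin 16 × Fin 16, (∀ j, block p.1 j = block p.2 j) → p.1 = p.2 := by
  decide +kernel

theorem eight_facts : (∃ a b : ↥(alternatingGroup (Fin 8)), a * b ≠ b * a) ∧
    5040 < Nat.card ↥(alternatingGroup (Fin 8)) ∧
    ∃ V : Subgroup ↥(alternatingGroup (Fin 8)), (∀ v ∈ V, v * v = 1) ∧ Nat.card V = 16 := by
  classical
  let f : Fin 16 → ↥(alternatingGroup (Fin 8)) := fun i =>
    ⟨blockPerm i, Equiv.Perm.mem_alternatingGroup.2 (block_sign i)⟩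
  have hinv : ∀ i, f i * f i = 1 := fun i => Subtype.ext (Equiv.ext (block_inv i))
  refine ⟨?_, ?_, ?_⟩
  · obtain ⟨s, t, hs, hst⟩ := seven_rel
    refine ⟨altEmb (by norm_num : 7 ≤ 8) t, altEmb (by norm_num : 7 ≤ 8) s, fun h => ?_⟩
    rw [← map_mul, ← map_mul] at h
    have h' := altEmb_injective _ h
    rw [h', mul_inv_cancel_right, pow_two, left_eq_mul] at hst
    rw [hst, orderOf_one] at hs
    omega
  · have := two_mul_nat_card_alternatingGroup (α := Fin 8)
    rw [Nat.card_perm, Nat.card_fin] at this
    rw [show (8 : ℕ).factorial = 40320 from rfl] at this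
    change 5040 < Nat.card ↥(alternatingGroup (Fin 8))
    generalize Nat.card ↥(alternatingGroup (Fin 8)) = a at this ⊢
    omega
  · refine ⟨{ carrier := Set.range f
              one_mem' := ⟨0, Subtype.ext (Equiv.ext block_zero)⟩
              mul_mem' := ?_
              inv_mem' := ?_ }, ?_, ?_⟩
    · rintro _ _ ⟨i, rfl⟩ ⟨j, rfl⟩
      obtain ⟨k, hk⟩ := block_mul (i, j)
      exact ⟨k, Subtype.ext (Equiv.ext fun a => (hk a).symm)⟩
    · rintro _ ⟨i, rfl⟩
      exact ⟨i, (inv_eq_of_mul_eq_one_right (hinv i)).symm⟩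
    · rintro _ ⟨i, rfl⟩
      exact hinv i
    · have hf : Function.Injective f := fun a b h =>
        block_injective (a, b) fun j => congrArg (fun e : ↥(alternatingGroup (Fin 8)) => (e : Equiv.Perm (Fin 8)) j) h
      exact (Nat.card_range_of_injective hf).trans (Nat.card_fin 16)

/-- Alternating sections of the groups of type G₂. Let `F` be a finite field of characteristic `p` and let `G` be the Chevalley group of type G₂ over `F`. If some subgroup of `G` has a quotient isomorphic to the alternating group of degree `r`, then `r` is at most 6, or 7 in characteristic 5. (Only an upper bound is asserted.) -/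
theorem result {F : Type*} [Field F] [Fintype F] (p : ℕ) [Fact p.Prime] [CharP F p]
    (r : ℕ) (H : Subgroup ↥(Cfsg.Lie.chevG2.group F)) (K : Subgroup ↥H) [K.Normal]
    (h : Nonempty (↥H ⧸ K ≃* ↥(alternatingGroup (Fin r)))) :
    r ≤ 6 + (if p = 5 then 1 else 0) := by
  classical
  revert H
  rw [← Data.G2.datum_eq]
  intro H K _ h
  obtain ⟨e⟩ := h
  let φ : ↥H →* ↥(alternatingGroup (Fin r)) := e.toMonoidHom.comp (QuotientGroup.mk' K)
  have hφ : Function.Surjective φ := e.surjective.comp (QuotientGroup.mk'_surjective K)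
  by_contra hlt
  by_cases hp5 : p = 5
  · rw [if_pos hp5] at hlt
    have h8 : 8 ≤ r := by omega
    obtain ⟨hna, hbig, V, hV, hVc⟩ := eight_facts
    have : IsSimpleGroup ↥(alternatingGroup (Fin 8)) := alternatingGroup.isSimpleGroup (by simp)
    have hF : Odd (Fintype.card F) := by
      obtain ⟨a, hpp, ha⟩ := FiniteField.card F p
      rw [ha]
      exact (hpp.odd_of_ne_two (by omega)).pow
    let M : Subgroup ↥H := (altEmb h8).range.comap φ
    let ι := Subgroup.equivMapOfInjective M H.subtype H.subtype_injective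
    let ψ : ↥(M.map H.subtype) →* ↥(alternatingGroup (Fin 8)) :=
      (MonoidHom.ofInjective (altEmb_injective h8)).symm.toMonoidHom.comp
        ((φ.subgroupComap (altEmb h8).range).comp ι.symm.toMonoidHom)
    refine G2AltSection.no_big_section hF hna hbig V hV hVc (M.map H.subtype) ψ ?_
    exact (MonoidHom.ofInjective (altEmb_injective h8)).symm.surjective.comp ((MonoidHom.subgroupComap_surjective_of_surjective φ _ hφ).comp
      ι.symm.surjective)
  · rw [if_neg hp5] at hlt
    have h7 : 7 ≤ r := by omega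
    obtain ⟨s, t, hs, hst⟩ := seven_rel
    refine G2AltSection.no_seven (p := p) hp5 H φ hφ (σ := altEmb h7 s) (τ := altEmb h7 t)
      ((orderOf_injective _ (altEmb_injective h7) s).trans hs) ?_
    rw [← map_inv, ← map_mul, ← map_mul, hst, map_pow]

end Cfsg.Agent.S2658
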