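import Cfsg.Statements.S2660
import Cfsg.Agent.Lib.KnownA.D4Sec.Five
import Cfsg.Agent.Lib.KnownA.D4Sec.Eight
import Cfsg.Agent.S2658
-- import your own Cfsg.Agent.* helpers here

set_option autoImplicit false
open scoped MatrixGroups
open Cfsg

namespace Cfsg.Agent.S2660

open CfsgLib.Chevalley CfsgLib.KnownA
open Cfsg.Agent.S2658 (altEmb altEmb_injective seven_rel eight_facts)

/-- Alternating sections of the triality-twisted groups ³D₄. Let `q = p^a` be a prime power and `K` a field with `q³` elements, and let `G` be the twisted group ³D₄(q) realised over `K`. If some subgroup of `G` has a quotient isomorphic to the alternating group of degree `r`, then `r` is at most 6, or 7 in characteristic 5. (Only an upper bound is asserted.) -/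
theorem result {K : Type*} [Field K] [Fintype K] (p a : ℕ) [Fact p.Prime] [CharP K p]
    (ha : 1 ≤ a) (hK : Fintype.card K = (p ^ a) ^ 3) (r : ℕ) (H : Subgroup ↥(Cfsg.Lie.twistedD4 K (p ^ a))) (N : Subgroup ↥H) [N.Normal]
    (h : Nonempty (↥H ⧸ N ≃* ↥(alternatingGroup (Fin r)))) :
    r ≤ 6 + (if p = 5 then 1 else 0) := by
  classical
  have hq : IsPrimePow (p ^ a) := (Fact.out : p.Prime).isPrimePow.pow (by omega)
  have hK' : Nat.card K = (p ^ a) ^ 3 := Nat.card_eq_fintype_card.trans hK
  revert H
  refine Twist.D4.transfer hq hK' (fun _ G => ∀ (H : Subgroup ↥G) (N : Subgroup ↥H) [N.Normal],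
    Nonempty (↥H ⧸ N ≃* ↥(alternatingGroup (Fin r))) → r ≤ 6 + (if p = 5 then 1 else 0)) ?_
  intro H N _ h
  obtain ⟨e⟩ := h
  let φ : ↥H →* ↥(alternatingGroup (Fin r)) := e.toMonoidHom.comp (QuotientGroup.mk' N)
  have hφ : Function.Surjective φ := e.surjective.comp (QuotientGroup.mk'_surjective N)
  by_contra hlt
  by_cases hp5 : p = 5
  · rw [if_pos hp5] at hlt
    have h8 : 8 ≤ r := by omega
    obtain ⟨hna, hbig, V, hV, hVc⟩ := eight_facts
    have : IsSimpleGroup ↥(alternatingGroup (Fin 8)) := alternatingGroup.isSimpleGroup (by simp)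
    have hodd : Odd (p ^ a) := ((Fact.out : p.Prime).odd_of_ne_two (by omega)).pow
    let M : Subgroup ↥H := (altEmb h8).range.comap φ
    let ι := Subgroup.equivMapOfInjective M H.subtype H.subtype_injective
    let ψ : ↥(M.map H.subtype) →* ↥(alternatingGroup (Fin 8)) :=
      (MonoidHom.ofInjective (altEmb_injective h8)).symm.toMonoidHom.comp
        ((φ.subgroupComap (altEmb h8).range).comp ι.symm.toMonoidHom)
    refine D4Sec.no_big_section (hq := hq) (hK := hK') hodd hna hbig V hV hVc (M.map H.subtype) ψ ?_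
    exact (MonoidHom.ofInjective (altEmb_injective h8)).symm.surjective.comp
      ((MonoidHom.subgroupComap_surjective_of_surjective φ _ hφ).comp ι.symm.surjective)
  · rw [if_neg hp5] at hlt
    have h7 : 7 ≤ r := by omega
    obtain ⟨s, t, hs, hst⟩ := seven_rel
    refine D4Sec.no_seven hq hK' (fun h5 => hp5 ((Nat.prime_dvd_prime_iff_eq (by norm_num) Fact.out).1
      ((by norm_num : Nat.Prime 5).dvd_of_dvd_pow h5)).symm) H φ hφ (σ := altEmb h7 s) (τ := altEmb h7 t)
      ((orderOf_injective _ (altEmb_injective h7) s).trans hs) ?_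
    rw [← map_inv, ← map_mul, ← map_mul, hst, map_pow]

end Cfsg.Agent.S2660
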