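import Cfsg.Statements.S2669
import Cfsg.Agent.Lib.KnownC.Shintani

set_option autoImplicit false
open Cfsg

namespace Cfsg.Agent.S2669

/-- Shintani descent preserves numbers of fixed points on coset spaces (abstract form). Let `σ` be an automorphism of a group `X` and `e ≥ 1`; write `G` for the fixed points of `σᵉ` and `H` for the fixed points of `σ`, and assume `G` is finite. Let `Y` be a `σ`-stable subgroup of `X` on which the maps `a ↦ a σ(a)⁻¹` and `a ↦ a σᵉ(a)⁻¹` are surjective (as for a closed connected `σ`-stable subgroup of an algebraic group). Let `g ∈ G`, let `a ∈ X` satisfy `g = a σ(a)⁻¹` and put `x = σᵉ(a)⁻¹ a` (the Shintani image, an element of `H`). The element `g σ` of the semidirect product acts on the cosets of `Y ∩ G` in `G` by `k (Y ∩ G) ↦ g σ(k) (Y ∩ G)`, fixing that coset exactly when `k⁻¹ g σ(k) ∈ Y`; and `x` fixes the coset `h (Y ∩ H)` of `H` exactly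 when `h⁻¹ x h ∈ Y`. Then the two numbers of fixed cosets agree; in cross-multiplied form, `#{k ∈ G : k⁻¹ g σ(k) ∈ Y} · |Y ∩ H| = #{h ∈ H : h⁻¹ x h ∈ Y} · |Y ∩ G|`. -/
theorem result {X : Type*} [Group X] (σ : MulAut X) (e : ℕ) (he : 1 ≤ e)
    [Finite ↥((MulEquiv.toMonoidHom (σ ^ e)).eqLocus (MonoidHom.id X))]
    (Y : Subgroup X) (hY : ∀ y : X, y ∈ Y ↔ σ y ∈ Y)
    (hYL : ∀ y ∈ Y, ∃ a ∈ Y, y = a * (σ a)⁻¹) (hYLe : ∀ y ∈ Y, ∃ a ∈ Y, y = a * ((σ ^ e) a)⁻¹)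
    (g : X) (hg : g ∈ (MulEquiv.toMonoidHom (σ ^ e)).eqLocus (MonoidHom.id X)) (a : X) (ha : g = a * (σ a)⁻¹) :
    Nat.card {k : ↥((MulEquiv.toMonoidHom (σ ^ e)).eqLocus (MonoidHom.id X)) // (k : X)⁻¹ * g * σ k ∈ Y} *
        Nat.card ↥(Y ⊓ (MulEquiv.toMonoidHom σ).eqLocus (MonoidHom.id X)) =
      Nat.card {h : ↥((MulEquiv.toMonoidHom σ).eqLocus (MonoidHom.id X)) // (h : X)⁻¹ * (((σ ^ e) a)⁻¹ * a) * h ∈ Y} *
        Nat.card ↥(Y ⊓ (MulEquiv.toMonoidHom (σ ^ e)).eqLocus (MonoidHom.id X)) := by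
  classical
  set τ := σ ^ e
  set G := (MulEquiv.toMonoidHom τ).eqLocus (MonoidHom.id X)
  set H := (MulEquiv.toMonoidHom σ).eqLocus (MonoidHom.id X)
  have memG : ∀ k, k ∈ G ↔ τ k = k := fun _ => Iff.rfl
  have memH : ∀ k, k ∈ H ↔ σ k = k := fun _ => Iff.rfl
  have hHτ : ∀ h, σ h = h → τ h = h := fun h hh => CfsgLib.KnownC.Shintani.pow_apply_fixed σ hh e
  set x := (τ a)⁻¹ * a with hx
  let A := {kb : X × X // τ kb.1 = kb.1 ∧ kb.2 ∈ Y ∧ kb.1⁻¹ * g * σ kb.1 = kb.2 * (σ kb.2)⁻¹}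
  let B := {hb : X × X // σ hb.1 = hb.1 ∧ hb.2 ∈ Y ∧ hb.1⁻¹ * x * hb.1 = (τ hb.2)⁻¹ * hb.2}
  have fwd : ∀ k b : X, τ k = k → k⁻¹ * g * σ k = b * (σ b)⁻¹ →
      σ (a⁻¹ * k * b) = a⁻¹ * k * b ∧
        (a⁻¹ * k * b)⁻¹ * x * (a⁻¹ * k * b) = (τ b)⁻¹ * b := by
    intro k b hk hkb
    have h1 : σ (a⁻¹ * k * b) = a⁻¹ * k * b := by
      rw [map_mul, map_mul, map_inv]
      have : (σ b) = (k⁻¹ * g * σ k)⁻¹ * b := by rw [hkb]; group
      rw [this, ha]; group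
    refine ⟨h1, ?_⟩
    have h2 := hHτ _ h1
    rw [map_mul, map_mul, map_inv, hk] at h2
    have h3 : (τ a)⁻¹ = a⁻¹ * k * b * (τ b)⁻¹ * k⁻¹ := by rw [← h2]; group
    rw [hx, h3]; group
  have bwd : ∀ h b : X, σ h = h → h⁻¹ * x * h = (τ b)⁻¹ * b →
      τ (a * h * b⁻¹) = a * h * b⁻¹ ∧
        (a * h * b⁻¹)⁻¹ * g * σ (a * h * b⁻¹) = b * (σ b)⁻¹ := by
    intro h b hh hhb
    constructor
    · rw [map_mul, map_mul, map_inv, hHτ h hh]
      have : (τ b)⁻¹ = h⁻¹ * x * h * b⁻¹ := by rw [hhb]; group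
      rw [this, hx]; group
    · rw [map_mul, map_mul, map_inv, hh, ha]; group
  let eAB : A ≃ B :=
    { toFun := fun kb => ⟨(a⁻¹ * kb.1.1 * kb.1.2, kb.1.2), (fwd _ _ kb.2.1 kb.2.2.2).1, kb.2.2.1,
        (fwd _ _ kb.2.1 kb.2.2.2).2⟩
      invFun := fun hb => ⟨(a * hb.1.1 * hb.1.2⁻¹, hb.1.2), (bwd _ _ hb.2.1 hb.2.2.2).1, hb.2.2.1,
        (bwd _ _ hb.2.1 hb.2.2.2).2⟩
      left_inv := fun kb => Subtype.ext (Prod.ext (by group) rfl)
      right_inv := fun hb => Subtype.ext (Prod.ext (by group) rfl) }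
  have hA : ∀ k : {k : ↥G // (k : X)⁻¹ * g * σ k ∈ Y}, ∃ b ∈ Y, ((k.1 : X))⁻¹ * g * σ k.1 = b * (σ b)⁻¹ :=
    fun k => hYL _ k.2
  choose bA hbAY hbA using hA
  have hB : ∀ h : {h : ↥H // (h : X)⁻¹ * x * h ∈ Y}, ∃ b ∈ Y, ((h.1 : X))⁻¹ * x * h.1 = (τ b)⁻¹ * b := by
    intro h
    obtain ⟨b, hb, hbe⟩ := hYLe _ (Y.inv_mem h.2)
    exact ⟨b⁻¹, Y.inv_mem hb, by rw [← inv_inv ((h.1 : X)⁻¹ * x * h.1), hbe, map_inv]; group⟩
  choose bB hbBY hbB using hB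
  let eA : {k : ↥G // (k : X)⁻¹ * g * σ k ∈ Y} × ↥(Y ⊓ H) ≃ A :=
    { toFun := fun ku => ⟨((ku.1.1 : X), bA ku.1 * ku.2), (memG _).1 ku.1.1.2,
        Y.mul_mem (hbAY _) ku.2.2.1, by
          have hu : σ (ku.2 : X) = ku.2 := (memH _).1 ku.2.2.2
          rw [hbA, map_mul, hu]; group⟩
      invFun := fun kb => (⟨⟨kb.1.1, (memG _).2 kb.2.1⟩, by
          show kb.1.1⁻¹ * g * σ kb.1.1 ∈ Y
          rw [kb.2.2.2]; exact Y.mul_mem kb.2.2.1 (Y.inv_mem ((hY _).1 kb.2.2.1))⟩,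
        ⟨(bA ⟨⟨kb.1.1, (memG _).2 kb.2.1⟩, by
          show kb.1.1⁻¹ * g * σ kb.1.1 ∈ Y
          rw [kb.2.2.2]; exact Y.mul_mem kb.2.2.1 (Y.inv_mem ((hY _).1 kb.2.2.1))⟩)⁻¹ * kb.1.2,
          Y.mul_mem (Y.inv_mem (hbAY _)) kb.2.2.1, by
            show σ _ = _
            generalize hk : (⟨⟨kb.1.1, (memG _).2 kb.2.1⟩, _⟩ : {k : ↥G // (k : X)⁻¹ * g * σ k ∈ Y}) = k
            have h := hbA k
            have hk' : (k.1 : X) = kb.1.1 := by rw [← hk]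
            rw [hk', kb.2.2.2] at h
            rw [map_mul, map_inv]
            have : σ kb.1.2 = σ (bA k) * (bA k)⁻¹ * kb.1.2 := by
              rw [← inv_inv (σ kb.1.2)]
              have : (σ kb.1.2)⁻¹ = kb.1.2⁻¹ * (bA k * (σ (bA k))⁻¹) := by rw [← h]; group
              rw [this]; group
            rw [this]; simp only [MonoidHom.id_apply]; group⟩)
      left_inv := fun ku => Prod.ext rfl (Subtype.ext (inv_mul_cancel_left _ _))
      right_inv := fun kb => Subtype.ext (Prod.ext rfl (mul_inv_cancel_left _ _)) }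
  let eB : {h : ↥H // (h : X)⁻¹ * x * h ∈ Y} × ↥(Y ⊓ G) ≃ B :=
    { toFun := fun hu => ⟨((hu.1.1 : X), hu.2 * bB hu.1), (memH _).1 hu.1.1.2,
        Y.mul_mem hu.2.2.1 (hbBY _), by
          have hu' : τ (hu.2 : X) = hu.2 := (memG _).1 hu.2.2.2
          rw [hbB, map_mul, hu']; group⟩
      invFun := fun hb => (⟨⟨hb.1.1, (memH _).2 hb.2.1⟩, by
          show hb.1.1⁻¹ * x * hb.1.1 ∈ Y
          rw [hb.2.2.2]; exact Y.mul_mem (Y.inv_mem (CfsgLib.KnownC.Shintani.pow_mem_of_stable σ Y hY e hb.2.2.1)) hb.2.2.1⟩,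
        ⟨hb.1.2 * (bB ⟨⟨hb.1.1, (memH _).2 hb.2.1⟩, by
          show hb.1.1⁻¹ * x * hb.1.1 ∈ Y
          rw [hb.2.2.2]; exact Y.mul_mem (Y.inv_mem (CfsgLib.KnownC.Shintani.pow_mem_of_stable σ Y hY e hb.2.2.1)) hb.2.2.1⟩)⁻¹,
          Y.mul_mem hb.2.2.1 (Y.inv_mem (hbBY _)), by
            show τ _ = _
            generalize hk : (⟨⟨hb.1.1, (memH _).2 hb.2.1⟩, _⟩ : {h : ↥H // (h : X)⁻¹ * x * h ∈ Y}) = k
            have h := hbB k
            have hk' : (k.1 : X) = hb.1.1 := by rw [← hk]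
            rw [hk', hb.2.2.2] at h
            rw [map_mul, map_inv]
            have : τ hb.1.2 = hb.1.2 * (bB k)⁻¹ * τ (bB k) := by
              rw [← inv_inv (τ hb.1.2)]
              have : (τ hb.1.2)⁻¹ = (τ (bB k))⁻¹ * bB k * hb.1.2⁻¹ := by rw [← h]; group
              rw [this]; group
            rw [this]; simp only [MonoidHom.id_apply]; group⟩)
      left_inv := fun hu => Prod.ext rfl (Subtype.ext (mul_inv_cancel_right _ _))
      right_inv := fun hb => Subtype.ext (Prod.ext rfl (inv_mul_cancel_right _ _)) }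
  rw [← Nat.card_prod, ← Nat.card_prod]
  exact Nat.card_congr ((eA.trans eAB).trans eB.symm)

end Cfsg.Agent.S2669
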