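import Cfsg.Statements.S2671
import Cfsg.Agent.Lib.KnownC.DualKernels


set_option autoImplicit false
open Cfsg

namespace Cfsg.Agent.S2671

open Polynomial CfsgLib.Classical CfsgLib.KnownC.GUConj CfsgLib.KnownC.CyclotomicFactors
  CfsgLib.KnownC.SemisimpleClasses CfsgLib.KnownC.DualFactors

/-- Number of conjugacy classes of elements of odd prime order r in the general unitary group GU_n(q), for r not dividing q(q + 1): let i be the multiplicative order of q modulo r, b = i if i is odd and b = i/2 if i is even, and s = (r − 1)/b. If i ≢ 2 (mod 4) the eigenvalue orbits pair off into dual pairs of totally isotropic blocks and there are C(⌊n/(2b)⌋ + s/2, s/2) − 1 classes; if i ≡ 2 (mod 4) each orbit gives a non-degenerate block of dimension i/2 and there are C(⌊2n/i⌋ + s, s) − 1 classes. -/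
theorem result {K : Type*} [Field K] [Fintype K] {p q n r i b s : ℕ} [Fact p.Prime] [CharP K p] (hK : Fintype.card K = q ^ 2) (hr : r.Prime) (hr2 : r ≠ 2) (hrp : r ≠ p) (hi : i = orderOf (q : ZMod r)) (hi2 : i ≠ 2) (hb : b = if Odd i then i else i / 2) (hs : s * b = r - 1) : Nat.card {C : ConjClasses ↥(Cfsg.GU n K q) // ∃ g : ↥(Cfsg.GU n K q), ConjClasses.mk g = C ∧ orderOf g = r} = if i % 4 = 2 then Nat.choose (2 * n / i + s) s - 1 else Nat.choose (n / (2 * b) + s / 2) (s / 2) - 1 := by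
  classical
  obtain ⟨σ, hσ, hc⟩ := CfsgLib.Classical.exists_frob hK
  have hp : p.Prime := Fact.out
  haveI := Fact.mk hr
  obtain ⟨m, -, hm⟩ := FiniteField.card K p
  obtain ⟨k, -, hk⟩ := (Nat.dvd_prime_pow hp).1 (show q ∣ p ^ (m : ℕ) by
    rw [← hm, hK]; exact dvd_pow_self q two_ne_zero)
  have hrK : (r : K) ≠ 0 := fun h => hrp (((Nat.prime_dvd_prime_iff_eq hp hr).1
    ((CharP.cast_eq_zero_iff K p r).1 h)).symm)
  have hrq : ¬ r ∣ q := fun h => hrp ((Nat.prime_dvd_prime_iff_eq hr hp).1 (hr.dvd_of_dvd_pow (hk ▸ h)))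
  have hQ : (Fintype.card K : ZMod r) = (q : ZMod r) ^ 2 := by rw [hK, Nat.cast_pow]
  have hee : ∃ j : ℕ, (q : ZMod r) * q = (Fintype.card K : ZMod r) ^ j := ⟨1, by rw [hQ, pow_one, sq]⟩
  have hq0 : (q : ZMod r) ≠ 0 := fun h => hrq ((ZMod.natCast_eq_zero_iff _ _).1 h)
  have hi0 : 0 < i := hi ▸ Nat.pos_of_ne_zero (fun h => by
    rw [orderOf_eq_zero_iff] at h
    exact h (isOfFinOrder_iff_isUnit.2 (isUnit_iff_ne_zero.2 hq0)))
  have hb' : orderOf ((q : ZMod r) ^ 2) = b := by
    rw [orderOf_pow' _ two_ne_zero, ← hi, hb]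
    split_ifs with ho
    · rw [Nat.coprime_two_right.2 ho |>.gcd_eq_one, Nat.div_one]
    · rw [Nat.gcd_eq_right (even_iff_two_dvd.1 (Nat.not_odd_iff_even.1 ho))]
  have hb0 : 0 < b := by
    rw [hb]
    split_ifs with ho
    · exact hi0
    · obtain ⟨j, hj⟩ := Nat.not_odd_iff_even.1 ho
      omega
  have hdeg : ∀ o : Orbit K r, o.1.natDegree = b := fun o => by
    rw [natDegree_some hr hrK hK o, Nat.cast_pow, hb']
  have hcard : Fintype.card (Orbit K r) = s := by
    refine Nat.eq_of_mul_eq_mul_right hb0 ?_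
    rw [hs, ← card_orbit hr hrK hK, Nat.cast_pow, hb']
  have hneg1 : (-1 : ZMod r) ≠ 1 := by
    intro h
    have h2 : ((2 : ℕ) : ZMod r) = 0 := by
      rw [Nat.cast_ofNat]; linear_combination -h
    exact hr2 ((Nat.prime_dvd_prime_iff_eq hr Nat.prime_two).1 ((ZMod.natCast_eq_zero_iff _ _).1 h2))
  have hcrit : (∃ j : ℕ, -(q : ZMod r) = (Fintype.card K : ZMod r) ^ j) ↔ i % 4 = 2 := by
    rw [hQ]
    constructor
    · rintro ⟨j, hj⟩
      have hqi : (q : ZMod r) ^ i = 1 := hi ▸ pow_orderOf_eq_one _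
      have hm1 : (q : ZMod r) ^ (2 * j + i - 1) = -1 := by
        refine mul_right_cancel₀ hq0 ?_
        rw [← pow_succ, show 2 * j + i - 1 + 1 = 2 * j + i by omega, pow_add, hqi, mul_one, pow_mul, ← hj, neg_mul,
          one_mul]
      have hd : i ∣ 2 * (2 * j + i - 1) := (dvd_of_eq hi).trans (orderOf_dvd_of_pow_eq_one (by
        rw [mul_comm, pow_mul, hm1, neg_one_sq]))
      have hnd : ¬ i ∣ (2 * j + i - 1) := fun h => hneg1 (by
        rw [← hm1]
        exact orderOf_dvd_iff_pow_eq_one.1 ((dvd_of_eq hi.symm).trans h))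
      rcases Nat.even_or_odd i with he | ho
      · obtain ⟨l, hl⟩ := he
        have h2 : l ∣ 2 * j + i - 1 := by
          rw [hl, ← two_mul] at hd
          exact Nat.dvd_of_mul_dvd_mul_left two_pos (by rwa [hl, ← two_mul])
        have h3 : Odd l := Odd.of_dvd_nat ⟨j + l - 1, by omega⟩ h2
        obtain ⟨u, hu⟩ := h3
        omega
      · exact absurd ((Nat.coprime_two_right.2 ho).dvd_of_dvd_mul_left hd) hnd
    · intro h
      refine ⟨(i / 2 + 1) / 2, ?_⟩
      have hh : (q : ZMod r) ^ (i / 2) = -1 := by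
        have h1 : ((q : ZMod r) ^ (i / 2)) ^ 2 = 1 := by
          rw [← pow_mul, show i / 2 * 2 = i by omega, hi]
          exact pow_orderOf_eq_one _
        rcases sq_eq_one_iff.1 h1 with h2 | h2
        · exfalso
          have h3 := Nat.le_of_dvd (show 0 < i / 2 by omega) ((dvd_of_eq hi).trans (orderOf_dvd_of_pow_eq_one h2))
          omega
        · exact h2
      rw [← pow_mul, show 2 * ((i / 2 + 1) / 2) = i / 2 + 1 by omega, pow_succ, hh, neg_mul, one_mul]
  let π := dual (F := K) hr hrK q hrq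
  let e : {C : ConjClasses ↥(Cfsg.GU n K q) // ∃ g : ↥(Cfsg.GU n K q), ConjClasses.mk g = C ∧ orderOf g = r} ≃
      {C : ConjClasses (GL (Fin n) K) //
        ∃ g : GL (Fin n) K, ConjClasses.mk g = C ∧ orderOf g = r ∧ IsConj g (adjGL σ g)⁻¹} := by
    refine Equiv.ofBijective (fun C => ⟨ConjClasses.map (Cfsg.GU n K q).subtype C.1, ?_⟩) ⟨?_, ?_⟩
    · obtain ⟨g, hg, ho⟩ := C.2
      refine ⟨(g : GL (Fin n) K), by rw [← hg]; rfl, by rw [Subgroup.orderOf_coe, ho], ?_⟩
      rw [← eq_inv_of_mul_eq_one_right ((mem_GU_iff_adj hK hσ hc).1 g.2)]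
    · intro a c hac
      obtain ⟨g, hg, -⟩ := a.2
      obtain ⟨h, hh, -⟩ := c.2
      refine Subtype.ext ?_
      have e : ConjClasses.map (Cfsg.GU n K q).subtype a.1 = ConjClasses.map (Cfsg.GU n K q).subtype c.1 :=
        congrArg Subtype.val hac
      rw [← hg, ← hh] at e ⊢
      exact ConjClasses.mk_eq_mk_iff_isConj.2 ((isConj_iff_linear hK g h).2
        (ConjClasses.mk_eq_mk_iff_isConj.1 e))
    · rintro ⟨C, g, rfl, hg, hgc⟩
      have hmap : (((g : Matrix (Fin n) (Fin n) K).map (fun x : K => x ^ q)).transpose)⁻¹ =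
          (((adjGL σ g)⁻¹ : GL (Fin n) K) : Matrix (Fin n) (Fin n) K) := by
        rw [Matrix.coe_units_inv, ← funext hσ]
        rfl
      obtain ⟨B, hB⟩ := (similar_iff hK g).2 (by rw [hmap]; exact MonoidHom.map_isConj (Units.coeHom _) hgc)
      refine ⟨⟨ConjClasses.mk B, B, rfl, ?_⟩, Subtype.ext (ConjClasses.mk_eq_mk_iff_isConj.2 hB.symm)⟩
      obtain ⟨c, hc⟩ := isConj_iff.1 hB
      rw [← Subgroup.orderOf_coe, ← hc, ← hg]
      exact orderOf_injective (MulAut.conj c).toMonoidHom (MulAut.conj c).injective g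
  rw [Nat.card_congr e, card_classes irreducible_fac (coprime_fac hr hrK) (not_X_dvd hr hrK)
    (fun g => orderOf g = r ∧ IsConj g (adjGL σ g)⁻¹)
    (fun a => (∃ o, a (some o) ≠ 0) ∧ ∀ o, a (some (π o)) = a (some o))
    (fun g h => by
      rw [prod_fac hr hrK, map_sub, map_pow, aeval_X, map_one, sub_eq_zero, ← Units.val_pow_eq_pow_val,
        ← h.1, pow_orderOf_eq_one, Units.val_one]) ?_]
  · have e2 : Nat.card {a : Option (Orbit K r) → ℕ // (∑ o, a o * (fac K r o).natDegree = n) ∧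
        (∃ o, a (some o) ≠ 0) ∧ ∀ o, a (some (π o)) = a (some o)} =
      Nat.card {a : Option (Orbit K r) → ℕ // a none + b * ∑ o, a (some o) = n ∧
        (∀ o, a (some (π o)) = a (some o)) ∧ ∃ o, a (some o) ≠ 0} := by
      refine Nat.card_congr (Equiv.subtypeEquivRight fun a => ?_)
      rw [show ∑ o, a o * (fac K r o).natDegree = a none + b * ∑ o, a (some o) from ?_]
      · tauto
      rw [Fintype.sum_option, Finset.mul_sum]
      congr 1
      · show a none * (X - C (1 : K)).natDegree = _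
        rw [natDegree_X_sub_C, mul_one]
      · refine Finset.sum_congr rfl fun o _ => ?_
        show _ * o.1.natDegree = _
        rw [hdeg o, mul_comm]
    rw [e2]
    obtain ⟨hA, hB⟩ := card_invariant (Orbit K r) π (dual_dual hr hrK q hrq hee) hb0 n
    split_ifs with h4
    · rw [hA (fun o => (dual_eq_self_iff hr hrK q hrq o).2 (hcrit.2 h4)), hcard]
      have h5 : b = i / 2 := by
        rw [hb, if_neg (Nat.not_odd_iff_even.2 (Nat.even_iff.2 (by omega)))]
      rw [show n / b = 2 * n / i by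
        rw [h5]; conv_rhs => rw [show i = 2 * (i / 2) by omega, Nat.mul_div_mul_left _ _ two_pos]]
    · rw [hB (fun o h => h4 (hcrit.1 ((dual_eq_self_iff hr hrK q hrq o).1 h))), hcard]
  · intro g hg
    rw [order_iff hr hrK g hg]
    refine and_congr_right fun ho => ?_
    exact isConj_adj_inv_iff σ hc.invol hr hrK (k := k) hσ hrq hee hk g
      ((orderOf_dvd_iff_pow_eq_one).1 ((order_iff hr hrK g hg).2 ho).dvd)
end Cfsg.Agent.S2671
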