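import Cfsg.Statements.S2673
import Cfsg.Agent.Lib.KnownC.OrthClasses


set_option autoImplicit false
open Cfsg

namespace Cfsg.Agent.S2673

open CfsgLib.Orth CfsgLib.KnownC.OrthClasses CfsgLib.KnownC.OrthSign

/-- Number of conjugacy classes of elements of odd prime order r ≠ p in the orthogonal group O_(2m+1)(q) of x_0² + Σ x_j y_j, q odd: with i the multiplicative order of q mod r and t = (r − 1)/i, there are C(⌊m/i⌋ + t/2, t/2) − 1 classes if i is odd (dual pairs of totally singular i-blocks) and C(⌊(2m+1)/i⌋ + t, t) − 1 if i is even (elliptic i-blocks). -/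
theorem result {F : Type*} [Field F] [Fintype F] {p q : ℕ} [Fact p.Prime] [CharP F p] (hF : Fintype.card F = q) (hq : Odd q) (m r i t : ℕ) (hr : r.Prime) (hr2 : r ≠ 2) (hrp : r ≠ p) (hi : i = orderOf (q : ZMod r)) (ht : t * i = r - 1) : Nat.card {C : ConjClasses ↥(Cfsg.isometryGroup F (Cfsg.quadFormOdd m F)) // ∃ g : ↥(Cfsg.isometryGroup F (Cfsg.quadFormOdd m F)), ConjClasses.mk g = C ∧ orderOf g = r} = if Odd i then Nat.choose (m / i + t / 2) (t / 2) - 1 else Nat.choose ((2 * m + 1) / i + t) t - 1 := by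
  classical
  have hq2 : (2 : F) ≠ 0 := fun h => by
    have hp : p.Prime := Fact.out
    have hp2 : p ∣ 2 := (CharP.cast_eq_zero_iff F p 2).1 (by rw [Nat.cast_ofNat]; exact h)
    obtain ⟨j, -, hj⟩ := FiniteField.card F p
    rw [(Nat.prime_dvd_prime_iff_eq hp Nat.prime_two).1 hp2, hF] at hj
    rw [hj, Nat.odd_pow_iff j.ne_zero] at hq
    exact Nat.not_odd_iff_even.2 even_two hq
  rw [card_classes_orth (N := 2 * m + 1) (oddForm F m) (oddForm_apply m) (oddForm_nondeg m hq2) hF hr hr2 hrp hi ht
    (by simp; omega) (by omega) True (iff_of_true trivial fun m' hm' => by omega)]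
  simp only [not_true, false_and, if_false, Nat.sub_zero]
  rw [← Nat.div_div_eq_div_mul, show (2 * m + 1) / 2 = m by omega]
end Cfsg.Agent.S2673
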