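import Cfsg.Statements.S2674
import Cfsg.Agent.Lib.KnownC.OrthClasses


set_option autoImplicit false
open Cfsg

namespace Cfsg.Agent.S2674

open CfsgLib.Orth CfsgLib.KnownC.OrthClasses CfsgLib.KnownC.OrthSign

/-- Number of conjugacy classes of elements of odd prime order r ≠ p in the orthogonal group O⁺_2m(q) of Σ x_j y_j (m ≥ 1): with i the multiplicative order of q mod r and t = (r − 1)/i — if i is odd, C(⌊m/i⌋ + t/2, t/2) − 1; if i is even, C(⌊2m/i⌋ + t, t) − 1 minus, when i divides 2m with odd quotient, the C(2m/i + t − 1, t − 1) tuples using the whole space (an odd number of elliptic i-blocks fills an elliptic, not a hyperbolic, space). -/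
theorem result {F : Type*} [Field F] [Fintype F] {p q : ℕ} [Fact p.Prime] [CharP F p] (hF : Fintype.card F = q) (m r i t : ℕ) (hm : 1 ≤ m) (hr : r.Prime) (hr2 : r ≠ 2) (hrp : r ≠ p) (hi : i = orderOf (q : ZMod r)) (ht : t * i = r - 1) : Nat.card {C : ConjClasses ↥(Cfsg.isometryGroup F (Cfsg.quadFormPlus m F)) // ∃ g : ↥(Cfsg.isometryGroup F (Cfsg.quadFormPlus m F)), ConjClasses.mk g = C ∧ orderOf g = r} = if Odd i then Nat.choose (m / i + t / 2) (t / 2) - 1 else Nat.choose (2 * m / i + t) t - 1 - (if i ∣ 2 * m ∧ Odd (2 * m / i) then Nat.choose (2 * m / i + t - 1) (t - 1) else 0) := by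
  classical
  have hs := plus_sign (F := F) m
  rw [card_classes_orth (N := 2 * m) (plusForm F m) (plusForm_apply m) (plusForm_nondeg m) hF hr hr2 hrp hi ht
    (by simp; omega) (by omega) (Odd i ∨ Even (2 * m / i)) ?_]
  · by_cases h : Odd i
    · rw [if_pos h, if_pos h, if_neg (fun hh => hh.1 (Or.inl h)), Nat.sub_zero, Nat.mul_div_mul_left _ _ two_pos]
    · rw [if_neg h, if_neg h]
      congr 1
      refine if_congr ?_ rfl rfl
      rw [not_or, Nat.not_even_iff_odd]
      exact ⟨fun hh => ⟨hh.2, hh.1.2⟩, fun hh => ⟨⟨h, hh.2⟩, hh.1⟩⟩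
  · constructor
    · intro hok m' hm'
      obtain rfl : m' = m := by omega
      by_cases h : Odd i
      · rwa [if_pos h]
      · rw [if_neg h, (hok.resolve_left h).neg_one_pow]; exact hs
    · intro hall
      by_cases h : Odd i
      · exact Or.inl h
      · refine Or.inr ?_
        have e := sign_unique hs (hall m rfl)
        rw [if_neg h] at e
        rcases Nat.even_or_odd (2 * m / i) with he | he
        · exact he
        · rw [he.neg_one_pow] at e; norm_num at e
end Cfsg.Agent.S2674
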