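import Cfsg.Statements.S2678
import Cfsg.Agent.Lib.KnownC.DescentGU
import Cfsg.Agent.Lib.Classical.SympModels


set_option autoImplicit false
open Cfsg

namespace Cfsg.Agent.S2678

open CfsgLib.KnownC.FieldExt

/-- Field-extension embedding of symplectic groups: for a field K with q² elements and a field F with q elements there is an injective homomorphism Sp_2a(K) → Sp_4a(F). -/
theorem result {K F : Type*} [Field K] [Fintype K] [Field F] [Fintype F] {q : ℕ} (hK : Fintype.card K = q ^ 2) (hF : Fintype.card F = q) (a : ℕ) : ∃ φ : ↥(Matrix.symplecticGroup (Fin a) K) →* ↥(Matrix.symplecticGroup (Fin (2 * a)) F), Function.Injective φ := by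
  classical
  obtain ⟨φ⟩ := exists_embedding F K hF hK
  letI : Algebra F K := φ.toAlgebra
  obtain ⟨-, τ, hτ⟩ := exists_tau hF hK
  open CfsgLib.Classical in
  let B : (Fin a ⊕ Fin a → K) →ₗ[F] (Fin a ⊕ Fin a → K) →ₗ[F] F :=
    LinearMap.mk₂ F (fun u v => τ (sympBil K a u v))
      (fun u u' v => by simp)
      (fun c u v => by rw [LinearMap.map_smul_of_tower, LinearMap.smul_apply, map_smul])
      (fun u v v' => by simp)
      (fun c u v => by rw [LinearMap.map_smul_of_tower, map_smul])
  have hA : B.IsAlt := fun u => by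
    show τ _ = 0
    rw [CfsgLib.Classical.sympBil_isAlt a u, map_zero]
  have hsep : B.SeparatingLeft := fun u hu => (CfsgLib.Classical.sympBil_nondegenerate a).1 u fun v => by
    by_contra hne
    have h := hu ((CfsgLib.Classical.sympBil K a u v)⁻¹ • v)
    change τ (CfsgLib.Classical.sympBil K a u _) = 0 at h
    rw [map_smul, smul_eq_mul, inv_mul_cancel₀ hne, ← map_one (algebraMap F K), hτ] at h
    exact one_ne_zero h
  have hN : B.Nondegenerate := ⟨hsep, fun v hv => hsep v fun u => by
    rw [← LinearMap.IsAlt.neg hA u v, hv u, neg_zero]⟩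
  obtain ⟨e⟩ := CfsgLib.Classical.isom_alt_equiv_sp hA hN (2 * a) (by
    rw [Module.finrank_pi_fintype, Finset.sum_const, Finset.card_univ, Fintype.card_sum, Fintype.card_fin,
      finrank_eq_two hF hK, smul_eq_mul]
    omega)
  let ρ : ↥(Matrix.symplecticGroup (Fin a) K) →* ↥(CfsgLib.Classical.isomGroup B) :=
    { toFun := fun A => ⟨(CfsgLib.Classical.spEquiv a A).1.restrictScalars F, fun u v => by
        show τ _ = τ _
        exact congrArg τ ((CfsgLib.Classical.spEquiv a A).2 u v)⟩
      map_one' := Subtype.ext (LinearEquiv.ext fun v => by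
        show (CfsgLib.Classical.spEquiv (F := K) a 1).1 v = v
        rw [map_one]; rfl)
      map_mul' := fun A B' => Subtype.ext (LinearEquiv.ext fun v => by
        show (CfsgLib.Classical.spEquiv a (A * B')).1 v = _
        rw [map_mul]; rfl) }
  exact ⟨e.toMonoidHom.comp ρ, e.injective.comp fun A A' h => (CfsgLib.Classical.spEquiv a).injective
    (Subtype.ext (LinearEquiv.ext fun v => LinearEquiv.congr_fun (congrArg Subtype.val h) v))⟩

end Cfsg.Agent.S2678
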