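import Cfsg.Statements.S2679
import Cfsg.Agent.Lib.KnownC.FieldExt


set_option autoImplicit false
open Cfsg

namespace Cfsg.Agent.S2679

open CfsgLib.KnownC.FieldExt CfsgLib.Orth
open scoped Matrix

/-- An elliptic orthogonal group embeds in the hyperbolic orthogonal group of the same dimension over the quadratic extension: for a field F with q elements and a field K with q² elements there is an injective homomorphism from O⁻_2m(F) (isometries of Σ_(j<m−1) x_j y_j + z₁² + a z₁z₂ + c z₂², binary part anisotropic) to O⁺_2m(K) (isometries of Σ_(j<m) x_j y_j over K). -/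
theorem result {F K : Type*} [Field F] [Fintype F] [Field K] [Fintype K] {q : ℕ} (hF : Fintype.card F = q) (hK : Fintype.card K = q ^ 2) {m : ℕ} (hm : 1 ≤ m) (a c : F) (hac : ∀ z₁ z₂ : F, z₁ ^ 2 + a * z₁ * z₂ + c * z₂ ^ 2 = 0 → z₁ = 0 ∧ z₂ = 0) : ∃ φ : ↥(Cfsg.isometryGroup F (Cfsg.quadFormMinus (m - 1) F a c)) →* ↥(Cfsg.isometryGroup K (Cfsg.quadFormPlus m K)), Function.Injective φ := by
  classical
  obtain ⟨φ⟩ := exists_embedding F K hF hK
  letI : Algebra F K := φ.toAlgebra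
  obtain ⟨k, rfl⟩ : ∃ k, m = k + 1 := ⟨m - 1, by omega⟩
  change ∃ ψ : ↥(Cfsg.isometryGroup F (Cfsg.quadFormMinus k F a c)) →* _, Function.Injective ψ
  -- the binary form has a zero over `K`
  obtain ⟨r, hr⟩ : ∃ r : K, r ^ 2 + φ a * r + φ c = 0 := by
    let f : Polynomial F := Polynomial.X ^ 2 + Polynomial.C a * Polynomial.X + Polynomial.C c
    have hdeg : f.natDegree = 2 := by show (_ + _ + _ : Polynomial F).natDegree = 2; compute_degree!
    have hmon : f.Monic := by show (_ + _ + _ : Polynomial F).Monic; monicity!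
    have hirr : Irreducible f := by
      rw [hmon.irreducible_iff_roots_eq_zero_of_degree_le_three (by omega) (by omega),
        Multiset.eq_zero_iff_forall_notMem]
      intro x hx
      rw [Polynomial.mem_roots hmon.ne_zero] at hx
      have := (hac x 1 (by simpa [f] using hx)).2
      exact one_ne_zero this
    haveI := Fact.mk hirr
    obtain ⟨ι⟩ := FiniteField.nonempty_algHom_of_finrank_dvd (F := F) (K := AdjoinRoot f) (L := K) (by
      rw [finrank_eq_two hF hK, (AdjoinRoot.powerBasis hmon.ne_zero).finrank, AdjoinRoot.powerBasis_dim, hdeg])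
    refine ⟨ι (AdjoinRoot.root f), ?_⟩
    have h0 := congrArg ι (AdjoinRoot.eval₂_root f)
    simp only [f, Polynomial.eval₂_add, Polynomial.eval₂_pow, Polynomial.eval₂_X, Polynomial.eval₂_mul,
      Polynomial.eval₂_C, map_add, map_mul, map_pow, map_zero] at h0
    rw [← AdjoinRoot.algebraMap_eq, ι.commutes, ι.commutes] at h0
    exact h0
  -- the form over `K` is hyperbolic
  have hpol : ∀ u v : (Fin k ⊕ Fin k) ⊕ Fin 2 → F, QuadraticMap.polar (minusForm K k (φ a) (φ c)) (φ ∘ u) (φ ∘ v) =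
      φ (QuadraticMap.polar (minusForm F k a c) u v) := fun u v => by
    simp [minusForm_polar, map_sum, map_ofNat φ 2]
  have hnd : (QuadraticMap.polarBilin (minusForm K k (φ a) (φ c))).Nondegenerate := by
    refine nondegenerate_of_left fun v hv => ?_
    have h0 : 2 * v (.inr 0) + φ a * v (.inr 1) = 0 := by
      simpa [minusForm_polar, Pi.single_apply] using hv (Pi.single (Sum.inr 0) 1)
    have h1 : φ a * v (.inr 0) + 2 * φ c * v (.inr 1) = 0 := by
      simpa [minusForm_polar, Pi.single_apply] using hv (Pi.single (Sum.inr 1) 1)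
    have hD : a ^ 2 - 4 * c ≠ 0 := by
      intro hD
      have hnd' := (minusForm_nondeg 0 a c hac).1
      by_cases h2 : (2 : F) = 0
      · have ha : a = 0 := eq_zero_of_pow_eq_zero (n := 2) (by linear_combination hD + 2 * c * h2)
        have hz := hnd' (Pi.single (Sum.inr 0) 1) fun w => by
          show QuadraticMap.polar _ _ w = 0
          simp [minusForm_polar, Pi.single_apply, h2, ha]
        simpa using congrFun hz (Sum.inr 0)
      · have := (hac (-a) 2 (by linear_combination -hD)).2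
        exact h2 this
    have hz1 : φ (a ^ 2 - 4 * c) * v (.inr 1) = 0 := by
      rw [map_sub, map_pow, map_mul, map_ofNat]
      linear_combination φ a * h0 - 2 * h1
    have hz0 : φ (a ^ 2 - 4 * c) * v (.inr 0) = 0 := by
      rw [map_sub, map_pow, map_mul, map_ofNat]
      linear_combination φ a * h1 - 2 * φ c * h0
    have hφD : φ (a ^ 2 - 4 * c) ≠ 0 := (map_ne_zero φ).2 hD
    funext i
    rcases i with (i | i) | i
    · simpa [minusForm_polar, Pi.single_apply] using hv (Pi.single (Sum.inl (Sum.inr i)) 1)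
    · simpa [minusForm_polar, Pi.single_apply] using hv (Pi.single (Sum.inl (Sum.inl i)) 1)
    · fin_cases i
      · exact (mul_eq_zero.1 hz0).resolve_left hφD
      · exact (mul_eq_zero.1 hz1).resolve_left hφD
  let s : (Fin k ⊕ Unit → K) →ₗ[K] ((Fin k ⊕ Fin k) ⊕ Fin 2 → K) :=
    LinearMap.pi (Sum.elim (Sum.elim (fun i => LinearMap.proj (Sum.inl i)) (fun _ => 0))
      ![r • LinearMap.proj (Sum.inr ()), LinearMap.proj (Sum.inr ())])
  have hs : Function.Injective s := fun x y h => by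
    funext i
    rcases i with i | i
    · exact congrFun h (Sum.inl (Sum.inl i))
    · exact congrFun h (Sum.inr 1)
  obtain ⟨e, he⟩ := iso_plus_of_singular hnd (m := k + 1) (by
      rw [Module.finrank_fintype_fun_eq_card, Fintype.card_sum, Fintype.card_sum, Fintype.card_fin, Fintype.card_fin]
      omega) (LinearMap.range s) (by
      rintro _ ⟨x, rfl⟩
      rw [← minusForm_apply]
      simp [Cfsg.quadFormMinus, s]
      linear_combination (x (Sum.inr ()) ^ 2) * hr) (by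
      rw [LinearMap.finrank_range_of_inj hs, Module.finrank_fintype_fun_eq_card, Fintype.card_sum, Fintype.card_fin,
        Fintype.card_unit])
  let G := ↥(Cfsg.isometryGroup F (Cfsg.quadFormMinus k F a c))
  have hinv : ∀ (g : G) v, minusForm K k (φ a) (φ c)
      ((((g.1 : GL ((Fin k ⊕ Fin k) ⊕ Fin 2) F) : Matrix ((Fin k ⊕ Fin k) ⊕ Fin 2) ((Fin k ⊕ Fin k) ⊕ Fin 2) F).map φ) *ᵥ v) = minusForm K k (φ a) (φ c) v := by
    intro g v
    have hval : ∀ u : (Fin k ⊕ Fin k) ⊕ Fin 2 → F, minusForm K k (φ a) (φ c) (φ ∘ u) = φ (minusForm F k a c u) :=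
      fun u => by simp [← minusForm_apply, Cfsg.quadFormMinus, map_sum]
    have hg : ∀ u : (Fin k ⊕ Fin k) ⊕ Fin 2 → F,
        minusForm F k a c (((g.1 : GL ((Fin k ⊕ Fin k) ⊕ Fin 2) F) : Matrix ((Fin k ⊕ Fin k) ⊕ Fin 2) ((Fin k ⊕ Fin k) ⊕ Fin 2) F) *ᵥ u) = minusForm F k a c u := fun u => by
      rw [← minusForm_apply, ← minusForm_apply]; exact g.2 u u
    have hcol : ∀ i, (((g.1 : GL ((Fin k ⊕ Fin k) ⊕ Fin 2) F) : Matrix ((Fin k ⊕ Fin k) ⊕ Fin 2) ((Fin k ⊕ Fin k) ⊕ Fin 2) F).map φ) *ᵥ Pi.single i 1 = φ ∘ (((g.1 : GL ((Fin k ⊕ Fin k) ⊕ Fin 2) F) : Matrix ((Fin k ⊕ Fin k) ⊕ Fin 2) ((Fin k ⊕ Fin k) ⊕ Fin 2) F) *ᵥ Pi.single i 1) :=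
      fun i => by ext j; simp
    have hsing : ∀ i : (Fin k ⊕ Fin k) ⊕ Fin 2, (Pi.single i 1 : _ → K) = φ ∘ Pi.single i 1 := fun i => by
      ext j; simp [Pi.single_apply, apply_ite φ]
    refine quad_ext ((minusForm K k (φ a) (φ c)).comp (Matrix.toLin' (((g.1 : GL ((Fin k ⊕ Fin k) ⊕ Fin 2) F) : Matrix ((Fin k ⊕ Fin k) ⊕ Fin 2) ((Fin k ⊕ Fin k) ⊕ Fin 2) F).map φ)))
      (minusForm K k (φ a) (φ c)) (fun i => ?_) (fun i j => ?_) v
    · rw [QuadraticMap.comp_apply, Matrix.toLin'_apply, hcol, hval, hg, hsing, hval]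
    · simp only [QuadraticMap.polar, QuadraticMap.comp_apply, map_add, Matrix.toLin'_apply, hcol]
      have := congrArg φ (show QuadraticMap.polar (minusForm F k a c) (((g.1 : GL ((Fin k ⊕ Fin k) ⊕ Fin 2) F) : Matrix ((Fin k ⊕ Fin k) ⊕ Fin 2) ((Fin k ⊕ Fin k) ⊕ Fin 2) F) *ᵥ Pi.single i 1)
          (((g.1 : GL ((Fin k ⊕ Fin k) ⊕ Fin 2) F) : Matrix ((Fin k ⊕ Fin k) ⊕ Fin 2) ((Fin k ⊕ Fin k) ⊕ Fin 2) F) *ᵥ Pi.single j 1) = QuadraticMap.polar (minusForm F k a c) (Pi.single i 1) (Pi.single j 1) by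
        simp only [QuadraticMap.polar, ← Matrix.mulVec_add, hg])
      rw [← hpol, ← hpol, ← hsing, ← hsing] at this
      exact this
  let ρ : G →* (((Fin k ⊕ Fin k) ⊕ Fin 2 → K) ≃ₗ[K] ((Fin k ⊕ Fin k) ⊕ Fin 2 → K)) :=
    ((LinearMap.GeneralLinearGroup.generalLinearEquiv K _).toMonoidHom.comp
      Matrix.GeneralLinearGroup.toLin.toMonoidHom).comp ((Matrix.GeneralLinearGroup.map φ).comp (Subgroup.subtype _))
  have hρ : ∀ g v, ρ g v = (((g.1 : GL ((Fin k ⊕ Fin k) ⊕ Fin 2) F) : Matrix ((Fin k ⊕ Fin k) ⊕ Fin 2) ((Fin k ⊕ Fin k) ⊕ Fin 2) F).map φ) *ᵥ v := fun g v => by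
    simp [ρ, LinearMap.GeneralLinearGroup.generalLinearEquiv]
    rfl
  refine embed_isometryGroup (minusForm K k (φ a) (φ c)) (plusForm K (k + 1)) _
    (fun v => plusForm_apply _ v) e he ρ (fun g g' h => ?_) (fun g v => by rw [hρ]; exact hinv g v)
  have hmap : ((g.1 : GL ((Fin k ⊕ Fin k) ⊕ Fin 2) F) : Matrix ((Fin k ⊕ Fin k) ⊕ Fin 2) ((Fin k ⊕ Fin k) ⊕ Fin 2) F).map φ = ((g'.1 : GL ((Fin k ⊕ Fin k) ⊕ Fin 2) F) : Matrix ((Fin k ⊕ Fin k) ⊕ Fin 2) ((Fin k ⊕ Fin k) ⊕ Fin 2) F).map φ := Matrix.ext_of_mulVec_single fun i => by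
    rw [← hρ, ← hρ, h]
  exact Subtype.ext (Units.ext (Matrix.map_injective φ.injective hmap))

end Cfsg.Agent.S2679
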