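import Cfsg.Statements.S2686
import Cfsg.Agent.Lib.KnownC.AutPSL.Balance.Main

set_option autoImplicit false
open Cfsg

namespace Cfsg.Agent.S2686

/-- A criterion for the failure of local balance in almost simple groups with linear socle. Let F be a finite field of characteristic r and K = PSL_n(F) (n ≥ 2) simple. Let A be a group of automorphisms of K containing all inner automorphisms (an almost simple group with socle K), and β ∈ A an automorphism of prime order p ≠ r that is not inner-diagonal (not induced by conjugation by an invertible matrix). Then the largest normal subgroup of C_A(β) of order prime to p is nontrivial if and only if β is the composite of an inner-diagonal automorphism with the automorphism induced by a field automorphism applied entrywise (β is of field type) and p does not divide the number of fixed points of β on K. -/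
theorem result
    (F : Type*) [Field F] [Fintype F] (r : ℕ) [Fact r.Prime] [CharP F r] (n : ℕ) (hn : 2 ≤ n)
    (hK : IsSimpleGroup (Matrix.ProjectiveSpecialLinearGroup (Fin n) F))
    (𝒢 : Subgroup (MulAut (Matrix.ProjectiveSpecialLinearGroup (Fin n) F))) (hinn : ∀ k : Matrix.ProjectiveSpecialLinearGroup (Fin n) F, MulAut.conj k ∈ 𝒢)
    (p : ℕ) [Fact p.Prime] (hpr : p ≠ r) (β : MulAut (Matrix.ProjectiveSpecialLinearGroup (Fin n) F)) (hβ : β ∈ 𝒢) (hord : orderOf β = p)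
    (hnot : ¬ Cfsg.IsInnerDiagonalAutPSL β) :
    Cfsg.pPrimeCore p ↥(𝒢 ⊓ Subgroup.centralizer {β}) ≠ ⊥ ↔
      ((∃ γ φ : MulAut (Matrix.ProjectiveSpecialLinearGroup (Fin n) F), Cfsg.IsInnerDiagonalAutPSL γ ∧ Cfsg.IsFieldAutPSL φ ∧ β = φ.trans γ) ∧
        Nat.Coprime p (Nat.card ↥(MonoidHom.eqLocus β.toMonoidHom (MonoidHom.id (Matrix.ProjectiveSpecialLinearGroup (Fin n) F))))) := by
  classical
  have hp : p.Prime := Fact.out
  have hr : r.Prime := Fact.out
  haveI : Finite (Matrix.ProjectiveSpecialLinearGroup (Fin n) F) := Quotient.finite _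
  haveI : Finite (F ≃+* F) := Finite.of_injective (fun g : F ≃+* F => (g : F → F)) DFunLike.coe_injective
  -- field type
  have hfield : ∀ (A : GL (Fin n) F) (σ : F ≃+* F), β = CfsgLib.KnownC.AutPSL.semiAut A σ →
      (Cfsg.pPrimeCore p ↥(𝒢 ⊓ Subgroup.centralizer {β}) ≠ ⊥ ↔
        ((∃ γ φ : MulAut (Matrix.ProjectiveSpecialLinearGroup (Fin n) F), Cfsg.IsInnerDiagonalAutPSL γ ∧
          Cfsg.IsFieldAutPSL φ ∧ β = φ.trans γ) ∧
          Nat.Coprime p (Nat.card ↥(MonoidHom.eqLocus β.toMonoidHom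
            (MonoidHom.id (Matrix.ProjectiveSpecialLinearGroup (Fin n) F)))))) := by
    rintro A σ rfl
    have hpow : CfsgLib.KnownC.AutPSL.semiAut A σ ^ p = 1 := hord ▸ pow_orderOf_eq_one _
    have hσ1 : σ ≠ 1 := fun h => hnot ((CfsgLib.KnownC.AutPSL.innDiag_iff _).2 ⟨A, by rw [h]; rfl⟩)
    have hσ : orderOf σ = p := orderOf_eq_prime (by
      have h := hpow
      rw [CfsgLib.KnownC.AutPSL.semiAut_pow] at h
      exact (CfsgLib.KnownC.AutPSL.semi_eq_one hn h).1) hσ1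
    have hdec : ∃ γ φ : MulAut (Matrix.ProjectiveSpecialLinearGroup (Fin n) F), Cfsg.IsInnerDiagonalAutPSL γ ∧
        Cfsg.IsFieldAutPSL φ ∧ CfsgLib.KnownC.AutPSL.semiAut A σ = φ.trans γ :=
      ⟨CfsgLib.KnownC.AutPSL.semiAut A (RingEquiv.refl F), CfsgLib.KnownC.AutPSL.semiAut 1 σ,
        (CfsgLib.KnownC.AutPSL.innDiag_iff _).2 ⟨A, rfl⟩,
        ⟨σ, (CfsgLib.KnownC.AutPSL.stdField_iff σ _).2 rfl⟩, (CfsgLib.KnownC.AutPSL.std_conj A σ).1.symm⟩
    obtain ⟨g, hg⟩ := CfsgLib.KnownC.AutPSL.field_conj hn A σ hp.one_le hσ hpow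
    set α := (CfsgLib.KnownC.AutPSL.semiAut g (RingEquiv.refl F))⁻¹ with hα
    have hX : α * CfsgLib.KnownC.AutPSL.semiAut A σ * α⁻¹ = CfsgLib.KnownC.AutPSL.semiAut 1 σ := by
      rw [hg, hα]; group
    have hne : CfsgLib.KnownC.AutPSU.Balance.fixPts (CfsgLib.KnownC.AutPSL.semiAut A σ) ≠ ⊥ := fun h => by
      refine CfsgLib.KnownC.AutPSL.Balance.field_fix_ne_bot σ hn ?_
      rw [← hX, CfsgLib.KnownC.AutPSU.Balance.fixPts_conj, h, Subgroup.map_bot]
    refine ⟨fun hcore => ⟨hdec, hp.coprime_iff_not_dvd.2 fun hdiv => hcore ?_⟩,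
      fun h => CfsgLib.KnownC.AutPSU.Balance.core_ne_bot (CfsgLib.KnownC.AutPSL.Balance.conj_injective hn) _ 𝒢 hinn
        hne h.2⟩
    refine CfsgLib.KnownC.AutPSU.Balance.core_transport p _ α 𝒢 ?_
    rw [hX]
    refine CfsgLib.KnownC.AutPSL.Balance.field_core σ hn (r := r) hp hpr hσ _
      (fun l => ⟨MulAut.conj (α.symm l), hinn _, ?_⟩) ?_
    · show α * MulAut.conj (α.symm l) * α⁻¹ = MulAut.conj l
      rw [CfsgLib.KnownC.AutPSU.Balance.conj_apply_aut, MulEquiv.apply_symm_apply]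
    · rw [← hX, CfsgLib.KnownC.AutPSU.Balance.fixPts_conj,
        Subgroup.card_map_of_injective (f := α.toMonoidHom) α.injective]
      exact hdiv
  obtain ⟨A, σ, hsemi | hgraph⟩ := CfsgLib.KnownC.AutPSL.exists_semi hn β
  · exact hfield A σ hsemi
  rcases Nat.lt_or_ge n 3 with h3 | h3
  · obtain rfl : n = 2 := by omega
    obtain ⟨w, hw⟩ := CfsgLib.KnownC.AutPSL.Balance.it_two (F := F)
    exact hfield _ _ (hgraph.trans (by rw [hw, CfsgLib.KnownC.AutPSL.semiAut_mul]))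
  have hnofield : ¬ ∃ γ φ : MulAut (Matrix.ProjectiveSpecialLinearGroup (Fin n) F), Cfsg.IsInnerDiagonalAutPSL γ ∧
      Cfsg.IsFieldAutPSL φ ∧ β = φ.trans γ := by
    rintro ⟨γ, φ, hγ, ⟨τ, hφ⟩, hdec⟩
    obtain ⟨C, rfl⟩ := (CfsgLib.KnownC.AutPSL.innDiag_iff γ).1 hγ
    obtain rfl := (CfsgLib.KnownC.AutPSL.stdField_iff τ φ).1 hφ
    have e : (CfsgLib.KnownC.AutPSL.itAut : MulAut (Matrix.ProjectiveSpecialLinearGroup (Fin n) F)) =
        (CfsgLib.KnownC.AutPSL.semiAut A σ)⁻¹ *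
          (CfsgLib.KnownC.AutPSL.semiAut C (RingEquiv.refl F) * CfsgLib.KnownC.AutPSL.semiAut 1 τ) := by
      rw [eq_inv_mul_iff_mul_eq, ← hgraph]
      exact hdec
    rw [CfsgLib.KnownC.AutPSL.semiAut_inv, CfsgLib.KnownC.AutPSL.semiAut_mul,
      CfsgLib.KnownC.AutPSL.semiAut_mul] at e
    exact CfsgLib.KnownC.AutPSL.it_ne_semi h3 _ _ e
  obtain rfl : p = 2 := hp.eq_two_or_odd'.resolve_right fun hodd => by
    obtain ⟨j, hj⟩ := hodd
    have h1 := pow_orderOf_eq_one β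
    rw [hord, hj, pow_succ, pow_mul, hgraph, pow_two, CfsgLib.KnownC.AutPSL.gf_sq,
      CfsgLib.KnownC.AutPSL.semiAut_pow, ← mul_assoc, CfsgLib.KnownC.AutPSL.semiAut_mul] at h1
    have h2 := eq_inv_of_mul_eq_one_right h1
    rw [CfsgLib.KnownC.AutPSL.semiAut_inv] at h2
    exact CfsgLib.KnownC.AutPSL.it_ne_semi h3 _ _ h2
  have hrodd : Odd r := hr.eq_two_or_odd'.resolve_left (fun h => hpr h.symm)
  have h2F : (2 : F) ≠ 0 := fun h0 => by
    have := (CharP.cast_eq_zero_iff F r 2).1 (by exact_mod_cast h0)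
    exact hpr ((Nat.prime_dvd_prime_iff_eq hr Nat.prime_two).1 this).symm
  have hsq : β ^ 2 = 1 := hord ▸ pow_orderOf_eq_one β
  have hbot : Cfsg.pPrimeCore 2 ↥(𝒢 ⊓ Subgroup.centralizer {β}) = ⊥ := by
    subst hgraph
    have h := hsq
    rw [pow_two, CfsgLib.KnownC.AutPSL.gf_sq] at h
    have hσσ := (CfsgLib.KnownC.AutPSL.semi_eq_one hn h).1
    by_cases hσ1 : σ = 1
    · subst hσ1
      exact CfsgLib.KnownC.AutPSL.Balance.graph_core h3 hrodd h2F A hsq 𝒢 hinn
    · exact CfsgLib.KnownC.AutPSL.Balance.gf_core h3 h2F A σ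
        (orderOf_eq_prime (by rw [pow_two]; exact hσσ) hσ1) hsq 𝒢 hinn
  exact ⟨fun h => absurd hbot h, fun h => absurd h.1 hnofield⟩

end Cfsg.Agent.S2686
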