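import Cfsg.Statements.S2687
import Cfsg.Agent.Lib.KnownC.AutPSU.Balance.Graph
import Cfsg.Agent.Lib.KnownC.AutPSU.Balance.FieldMain

set_option autoImplicit false
open Cfsg

namespace Cfsg.Agent.S2687

/-- A criterion for the failure of local balance in almost simple groups with unitary socle. Let F be a finite field of characteristic r with q² elements and K = PSU_n(q) (n ≥ 3, the central quotient of the determinant-one isometries of the standard Hermitian form) simple. Let A be a group of automorphisms of K containing all inner automorphisms, and β ∈ A an automorphism of prime order p ≠ r that is not inner-diagonal (not induced by conjugation by a matrix of the general unitary group). Then the largest normal subgroup of C_A(β) of order prime to p is nontrivial if and only if β is the composite of an inner-diagonal automorphism with the automorphism induced by a field automorphism of F applied entrywise and p does not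 divide the number of fixed points of β on K. -/
theorem result
    (F : Type*) [Field F] [Fintype F] (r : ℕ) [Fact r.Prime] [CharP F r] (q : ℕ) (hF : Fintype.card F = q ^ 2)
    (n : ℕ) (hn : 3 ≤ n) (hK : IsSimpleGroup (Cfsg.PSU n F q))
    (𝒢 : Subgroup (MulAut (Cfsg.PSU n F q))) (hinn : ∀ k : Cfsg.PSU n F q, MulAut.conj k ∈ 𝒢)
    (p : ℕ) [Fact p.Prime] (hpr : p ≠ r) (β : MulAut (Cfsg.PSU n F q)) (hβ : β ∈ 𝒢) (hord : orderOf β = p)
    (hnot : ¬ Cfsg.IsInnerDiagonalAutPSU β) :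
    Cfsg.pPrimeCore p ↥(𝒢 ⊓ Subgroup.centralizer {β}) ≠ ⊥ ↔
      ((∃ γ φ : MulAut (Cfsg.PSU n F q), Cfsg.IsInnerDiagonalAutPSU γ ∧ (∃ σ : F ≃+* F, Cfsg.IsFieldAutPSUOf σ φ) ∧ β = φ.trans γ) ∧
        Nat.Coprime p (Nat.card ↥(MonoidHom.eqLocus β.toMonoidHom (MonoidHom.id (Cfsg.PSU n F q))))) := by
  classical
  haveI : Fact (Fintype.card F = q ^ 2) := ⟨hF⟩
  haveI : IsSimpleGroup (Cfsg.PSU n F q) := hK
  haveI : Nontrivial (Cfsg.PSU n F q) := IsSimpleGroup.toNontrivial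
  have hp : p.Prime := Fact.out
  have hr : r.Prime := Fact.out
  haveI : Finite (Cfsg.PSU n F q) :=
    Finite.of_surjective _ (QuotientGroup.mk'_surjective (Subgroup.center (Cfsg.SU n F q)))
  have hs : ¬ (n = 3 ∧ q = 2) := by
    rintro ⟨rfl, rfl⟩
    obtain ⟨h72, -, N, hNn, hN9, -, -⟩ := CfsgLib.Classical.psu32_structure (F := F) hF
    rcases hNn.eq_bot_or_eq_top with h | h
    · rw [h, Subgroup.card_bot] at hN9; omega
    · rw [h, Subgroup.card_top, h72] at hN9; omega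
  obtain ⟨A, σ, rfl⟩ := CfsgLib.KnownC.AutPSU.exists_semi hn hs β
  have hinj := CfsgLib.KnownC.AutPSU.conj_injective (F := F) (q := q) hn hs
  have hpow : CfsgLib.KnownC.AutPSU.semiAut A σ ^ p = 1 := hord ▸ pow_orderOf_eq_one _
  have hσ1 : σ ≠ 1 := fun h => hnot ((CfsgLib.KnownC.AutPSU.innDiag_iff _).2 ⟨A, by rw [h]⟩)
  have hσ : orderOf σ = p := orderOf_eq_prime (by
    have h := hpow
    rw [CfsgLib.KnownC.AutPSU.semiAut_pow] at h
    exact (CfsgLib.KnownC.AutPSU.semi_eq_one hn hs h).1) hσ1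
  have hdec : ∃ γ φ : MulAut (Cfsg.PSU n F q), Cfsg.IsInnerDiagonalAutPSU γ ∧
      (∃ τ : F ≃+* F, Cfsg.IsFieldAutPSUOf τ φ) ∧ CfsgLib.KnownC.AutPSU.semiAut A σ = φ.trans γ :=
    ⟨CfsgLib.KnownC.AutPSU.semiAut A 1, CfsgLib.KnownC.AutPSU.semiAut 1 σ,
      (CfsgLib.KnownC.AutPSU.innDiag_iff _).2 ⟨A, rfl⟩,
      ⟨σ, (CfsgLib.KnownC.AutPSU.stdField_iff σ _).2 rfl⟩, (CfsgLib.KnownC.AutPSU.semiAut_refl_mul A σ).symm⟩
  rcases hp.eq_two_or_odd' with h2 | hodd
  · subst h2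
    have hrodd : Odd r := hr.eq_two_or_odd'.resolve_left (fun h => hpr h.symm)
    have h2F : (2 : F) ≠ 0 := fun h0 => by
      have := (CharP.cast_eq_zero_iff F r 2).1 (by exact_mod_cast h0)
      exact hpr ((Nat.prime_dvd_prime_iff_eq hr Nat.prime_two).1 this).symm
    obtain ⟨hcore, hnc⟩ := CfsgLib.KnownC.AutPSU.Balance.graph_core hn hs hrodd (CharP.cast_eq_zero F r) h2F A σ hσ
      hpow 𝒢 hinn
    exact ⟨fun h => absurd hcore h, fun h => absurd h.2 hnc⟩
  obtain ⟨k, -, hk⟩ := FiniteField.card F r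
  obtain ⟨f, -, hqf⟩ := (Nat.dvd_prime_pow hr).1 (hk ▸ hF ▸ dvd_pow_self q two_ne_zero : q ∣ r ^ (k : ℕ))
  obtain ⟨hpf, hcard⟩ := CfsgLib.KnownC.AutPSU.fixed_field_data hqf hp hodd σ hσ
  letI := Fintype.ofFinite (CfsgLib.KnownC.AutPSL.fixField σ)
  have hF₀' : Fintype.card (CfsgLib.KnownC.AutPSL.fixField σ) = (r ^ (f / p)) ^ 2 := by
    rw [← Nat.card_eq_fintype_card, hcard]
  haveI : Fact (Fintype.card (CfsgLib.KnownC.AutPSL.fixField σ) = (r ^ (f / p)) ^ 2) := ⟨hF₀'⟩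
  obtain ⟨ι, hfix⟩ := CfsgLib.KnownC.AutPSU.exists_embedding σ (hF₀'.trans hcard.symm)
  haveI : Fact (∀ a, ι a ^ q = ι (a ^ r ^ (f / p))) :=
    ⟨CfsgLib.KnownC.AutPSU.pow_on_fixed hqf hodd hpf hF₀' ι⟩
  obtain ⟨g, hg⟩ := CfsgLib.KnownC.AutPSU.field_conj (q₀ := r ^ (f / p)) ι hn hs A σ hfix hodd hσ hpow
  set α := (CfsgLib.KnownC.AutPSU.semiAut g 1)⁻¹ with hα
  have hX : α * CfsgLib.KnownC.AutPSU.semiAut A σ * α⁻¹ = CfsgLib.KnownC.AutPSU.semiAut 1 σ := by
    rw [hg, hα]; group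
  have hne : CfsgLib.KnownC.AutPSU.Balance.fixPts (CfsgLib.KnownC.AutPSU.semiAut A σ) ≠ ⊥ := fun h => by
    refine CfsgLib.KnownC.AutPSU.Balance.field_fix_ne_bot (q₀ := r ^ (f / p)) ι σ hn hs hfix ?_
    rw [← hX, CfsgLib.KnownC.AutPSU.Balance.fixPts_conj, h, Subgroup.map_bot]
  refine ⟨fun hcore => ⟨hdec, hp.coprime_iff_not_dvd.2 fun hdiv => hcore ?_⟩,
    fun h => CfsgLib.KnownC.AutPSU.Balance.core_ne_bot hinj _ 𝒢 hinn hne h.2⟩
  refine CfsgLib.KnownC.AutPSU.Balance.core_transport p _ α 𝒢 ?_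
  rw [hX]
  refine CfsgLib.KnownC.AutPSU.Balance.field_core (q₀ := r ^ (f / p)) ι σ hn hs hfix hp hodd hσ _ (fun l =>
    ⟨MulAut.conj (α.symm l), hinn _, ?_⟩) ?_
  · show α * MulAut.conj (α.symm l) * α⁻¹ = MulAut.conj l
    rw [CfsgLib.KnownC.AutPSU.Balance.conj_apply_aut, MulEquiv.apply_symm_apply]
  · rw [← hX, CfsgLib.KnownC.AutPSU.Balance.fixPts_conj, Subgroup.card_map_of_injective (f := α.toMonoidHom) α.injective]
    exact hdiv

end Cfsg.Agent.S2687
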