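import Cfsg.Statements.S2697
import Cfsg.Agent.Lib.KnownC.AutPSL.Conj

set_option autoImplicit false
open Cfsg

namespace Cfsg.Agent.S2697

open CfsgLib.KnownC.AutPSL

/-- Let T = PSL_n(F) be simple over a finite field (n ≥ 2; |F| ≥ 4 when n = 2) and let x be a field automorphism or a graph-field automorphism of T of prime order r. Then an element y of the coset Inndiag(T)·x (that is, y = δ x with δ in the inner-diagonal group, the image of PGL_n(F)) has order r if and only if y is conjugate to x by an element of Inndiag(T). -/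
theorem result {F : Type*} [Field F] [Fintype F] {p f : ℕ} [Fact p.Prime] (hF : Fintype.card F = p ^ f) (hf : 1 ≤ f) {n : ℕ} (hn : 2 ≤ n) (hs : n = 2 → 4 ≤ Fintype.card F) (x δ : MulAut (Matrix.ProjectiveSpecialLinearGroup (Fin n) F)) (hx : Cfsg.IsFieldAutClassPSL x ∨ Cfsg.IsGraphFieldAutClassPSL x) {r : ℕ} (hr : r.Prime) (hxr : orderOf x = r) (hδ : δ ∈ Cfsg.inndiagPSL n F) :
    orderOf (δ * x) = r ↔ Cfsg.IsConjUnder (Cfsg.inndiagPSL n F) x (δ * x) := by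
  have key : ∀ x0 δ0 : MulAut (Matrix.ProjectiveSpecialLinearGroup (Fin n) F),
      (∃ σ : F ≃+* F, σ ≠ RingEquiv.refl F ∧ (x0 = semiAut 1 σ ∨ (3 ≤ n ∧ x0 = semiAut 1 σ * itAut))) →
      orderOf x0 = r → δ0 ∈ Cfsg.inndiagPSL n F →
      (orderOf (δ0 * x0) = r ↔ Cfsg.IsConjUnder (Cfsg.inndiagPSL n F) x0 (δ0 * x0)) := by
    intro x0 δ0 hx0 ho hδ0
    refine ⟨fun h => ?_, fun ⟨g, _, e⟩ => by rw [e]; exact ((MulAut.conj g).orderOf_eq x0).trans ho⟩
    have hpow : (δ0 * x0) ^ r = 1 := by rw [← h]; exact pow_orderOf_eq_one _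
    obtain ⟨A, rfl⟩ := (inndiag_iff_mem δ0).1 hδ0
    obtain ⟨σ, hne, rfl | ⟨h3, rfl⟩⟩ := hx0
    · rw [orderOf_std hn] at ho
      rw [semiAut_mul, map_one, mul_one] at hpow
      obtain ⟨g, hg⟩ := field_conj hn A σ hr.one_le ho hpow
      refine ⟨_, semi_mem_inndiag g, ?_⟩
      rw [semiAut_mul, map_one, mul_one]
      exact hg
    · obtain ⟨rfl, hσ⟩ := gf_order h3 σ hr ho
      rw [← mul_assoc, semiAut_mul, map_one, mul_one] at hpow
      obtain ⟨g, hg⟩ := gf_conj h3 A σ hσ hne hpow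
      refine ⟨_, semi_mem_inndiag g, ?_⟩
      rw [← mul_assoc, semiAut_mul, map_one, mul_one]
      exact hg
  have hN := inndiag_normal (F := F) hn
  obtain ⟨α, x0, hx0, hform⟩ : ∃ α x0 : MulAut (Matrix.ProjectiveSpecialLinearGroup (Fin n) F), α * x * α⁻¹ = x0 ∧
      ∃ σ : F ≃+* F, σ ≠ RingEquiv.refl F ∧ (x0 = semiAut 1 σ ∨ (3 ≤ n ∧ x0 = semiAut 1 σ * itAut)) := by
    rcases hx with ⟨α, σ, hne, h⟩ | ⟨h3, α, φ, γ, σ, hne, hφ, hγ, h⟩
    · exact ⟨α, _, (stdField_iff σ _).1 h, σ, hne, Or.inl rfl⟩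
    · rw [(stdField_iff σ φ).1 hφ, (invTranspose_iff γ).1 hγ] at h
      exact ⟨α, _, h, σ, hne, Or.inr ⟨h3, rfl⟩⟩
  have hxe : orderOf x0 = r := by rw [← hx0]; exact ((MulAut.conj α).orderOf_eq x).trans hxr
  have h := key x0 (α * δ * α⁻¹) hform hxe (hN.conj_mem δ hδ α)
  have hm : α * δ * α⁻¹ * x0 = α * (δ * x) * α⁻¹ := by rw [← hx0]; group
  rw [hm, show orderOf (α * (δ * x) * α⁻¹) = orderOf (δ * x) from (MulAut.conj α).orderOf_eq _] at h
  rw [h]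
  constructor
  · rintro ⟨g, hg, e⟩
    refine ⟨α⁻¹ * g * α, by simpa using hN.conj_mem g hg α⁻¹, ?_⟩
    calc δ * x = α⁻¹ * (α * (δ * x) * α⁻¹) * α := by group
      _ = _ := by rw [e, ← hx0]; group
  · rintro ⟨g, hg, e⟩
    exact ⟨α * g * α⁻¹, hN.conj_mem g hg α, by rw [e, ← hx0]; group⟩
end Cfsg.Agent.S2697
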