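import Cfsg.Statements.S2698
import Cfsg.Agent.Lib.KnownC.AutPSL.FieldClass

set_option autoImplicit false
open Cfsg

namespace Cfsg.Agent.S2698

open CfsgLib.KnownC.AutPSL

/-- Let T = PSL_n(F) be simple over the field F with p^f elements (n ≥ 2; p^f ≥ 4 when n = 2), G = Inndiag(T) the image of PGL_n(F) in Aut(T), and x a field automorphism of T of prime order r. Then r divides f; the centralizer C_G(x) is isomorphic to PGL_n(F₀) for the subfield size |F₀| = p^(f/r); and the G-class of x is the union of exactly gcd(n, (p^f − 1)/(p^(f/r) − 1)) classes under conjugation by T (the inner automorphism group). -/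
theorem result {F : Type*} [Field F] [Fintype F] {p f : ℕ} [Fact p.Prime] (hF : Fintype.card F = p ^ f) (hf : 1 ≤ f) {n : ℕ} (hn : 2 ≤ n) (hs : n = 2 → 4 ≤ Fintype.card F) (x : MulAut (Matrix.ProjectiveSpecialLinearGroup (Fin n) F)) (hx : Cfsg.IsFieldAutClassPSL x) {r : ℕ} (hr : r.Prime) (hxr : orderOf x = r) (F₀ : Type*) [Field F₀] [Fintype F₀] (hF₀ : Fintype.card F₀ = p ^ (f / r)) :
    r ∣ f ∧ Nonempty (↥(Cfsg.inndiagPSL n F ⊓ Subgroup.centralizer {x}) ≃* Matrix.ProjGenLinGroup (Fin n) F₀) ∧ Cfsg.splitClassCount (Cfsg.inndiagPSL n F) (Cfsg.Inn (Matrix.ProjectiveSpecialLinearGroup (Fin n) F)) x = Nat.gcd n ((p ^ f - 1) / (p ^ (f / r) - 1)) := by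
  classical
  obtain ⟨α, σ, hne, hstd⟩ := hx
  have h0 := (stdField_iff σ _).1 hstd
  have hσ : orderOf σ = r := by
    rw [← orderOf_std (n := n) hn σ, ← h0]
    exact ((MulAut.conj α).orderOf_eq x).trans hxr
  obtain ⟨hrf, hK⟩ := card_fixField hF σ hσ hr.one_le
  refine ⟨hrf, ?_, ?_⟩
  · obtain ⟨e1⟩ := centralizer_std (n := n) hn σ hσ hr.one_le
    have hN := inndiag_normal (F := F) hn
    have hmap : (Cfsg.inndiagPSL n F ⊓ Subgroup.centralizer {x}).map (MulAut.conj α).toMonoidHom =
        Cfsg.inndiagPSL n F ⊓ Subgroup.centralizer {semiAut (1 : GL (Fin n) F) σ} := by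
      ext y
      rw [Subgroup.mem_map_equiv, MulAut.conj_symm_apply, Subgroup.mem_inf, Subgroup.mem_inf,
        Subgroup.mem_centralizer_singleton_iff, Subgroup.mem_centralizer_singleton_iff, ← h0]
      refine and_congr ⟨fun h => ?_, fun h => ?_⟩ ⟨fun h => ?_, fun h => ?_⟩
      · have := hN.conj_mem _ h α
        simpa [mul_assoc] using this
      · simpa [mul_assoc] using hN.conj_mem _ h α⁻¹
      · calc _ = α * (α⁻¹ * y * α * x) * α⁻¹ := by group
          _ = _ := by rw [h]; group
      · calc _ = α⁻¹ * (y * (α * x * α⁻¹)) * α := by group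
          _ = _ := by rw [h]; group
    let e2 := ((MulAut.conj α).subgroupMap (Cfsg.inndiagPSL n F ⊓ Subgroup.centralizer {x})).trans
      (MulEquiv.subgroupCongr hmap)
    letI : Fintype (fixField σ) := Fintype.ofFinite _
    let e3 : fixField σ ≃+* F₀ := FiniteField.ringEquivOfCardEq (by rw [← Nat.card_eq_fintype_card, hK, hF₀])
    let eg : GL (Fin n) (fixField σ) ≃* GL (Fin n) F₀ := Units.mapEquiv (RingEquiv.mapMatrix (m := Fin n) e3).toMulEquiv
    have hc : (Subgroup.center (GL (Fin n) (fixField σ))).map eg.toMonoidHom = Subgroup.center (GL (Fin n) F₀) := by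
      ext y
      rw [Subgroup.mem_map_equiv, Subgroup.mem_center_iff, Subgroup.mem_center_iff]
      refine ⟨fun h z => ?_, fun h z => ?_⟩
      · have := congrArg eg (h (eg.symm z))
        simpa using this
      · have := congrArg eg.symm (h (eg z))
        simpa using this
    exact ⟨(e2.trans e1).trans (QuotientGroup.congr _ _ eg hc)⟩
  · have key := split_count_std (n := n) hn σ hσ hr.one_le
    rw [hK, hF] at key
    refine Eq.trans ?_ key
    have hN := inndiag_normal (F := F) hn
    have hI : (Cfsg.Inn (Matrix.ProjectiveSpecialLinearGroup (Fin n) F)).Normal := inferInstance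
    have hconj : ∀ (H : Subgroup (MulAut (Matrix.ProjectiveSpecialLinearGroup (Fin n) F))), H.Normal → ∀ a b,
        Cfsg.IsConjUnder H a b ↔ Cfsg.IsConjUnder H (α * a * α⁻¹) (α * b * α⁻¹) := fun H hH a b => by
      constructor
      · rintro ⟨h, hh, rfl⟩
        exact ⟨α * h * α⁻¹, hH.conj_mem h hh α, by group⟩
      · rintro ⟨h, hh, e⟩
        refine ⟨α⁻¹ * h * α, by simpa using hH.conj_mem h hh α⁻¹, ?_⟩
        calc b = α⁻¹ * (α * b * α⁻¹) * α := by group
          _ = _ := by rw [e]; group
    refine Nat.card_congr (Quot.congr ((MulAut.conj α).toEquiv.subtypeEquiv fun y => ?_) fun y z => ?_)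
    · rw [← h0]; exact hconj _ hN x y
    · exact hconj _ hI y.1 z.1
end Cfsg.Agent.S2698
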