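import Cfsg.Statements.S2702
import Cfsg.Agent.Lib.KnownC.GraphForms.LinSplit
import Cfsg.Agent.Lib.KnownC.GraphForms.LinClasses
import Cfsg.Agent.Lib.KnownC.GraphForms.Orders
import Cfsg.Agent.Lib.KnownC.OrthTools
-- import your own Cfsg.Agent.* helpers here

set_option autoImplicit false
open Cfsg

namespace Cfsg.Agent.S2702

/-- Let T = PSL_n(F) over the field with q = p^f elements, n ≥ 3, G = Inndiag(T) the image of PGL_n(F), and γ an involutory graph automorphism of T. The G-class of γ is the union of exactly c T-classes, where: if n is even and q is odd, c = gcd(n/2, q − 1) when C_G(γ) is isomorphic to the projective conformal symplectic group PGSp_n(F) (symplectic type) and c = gcd(n, q − 1)/2 otherwise; and c = gcd(n, q − 1) when n is odd or q is even. -/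
theorem result {F : Type*} [Field F] [Fintype F] {p f : ℕ} [Fact p.Prime] (hF : Fintype.card F = p ^ f) (hf : 1 ≤ f) {n : ℕ} (hn : 3 ≤ n) (γ : MulAut (Matrix.ProjectiveSpecialLinearGroup (Fin n) F)) (hγ : Cfsg.IsGraphAutClassPSL γ) (hγ2 : orderOf γ = 2) :
    ((Even n ∧ Odd p ∧ Nonempty (↥(Cfsg.inndiagPSL n F ⊓ Subgroup.centralizer {γ}) ≃* Cfsg.PGSp (n / 2) F)) → Cfsg.splitClassCount (Cfsg.inndiagPSL n F) (Cfsg.Inn (Matrix.ProjectiveSpecialLinearGroup (Fin n) F)) γ = Nat.gcd (n / 2) (p ^ f - 1)) ∧ ((Even n ∧ Odd p ∧ ¬ Nonempty (↥(Cfsg.inndiagPSL n F ⊓ Subgroup.centralizer {γ}) ≃* Cfsg.PGSp (n / 2) F)) → Cfsg.splitClassCount (Cfsg.inndiagPSL n F) (Cfsg.Inn (Matrix.ProjectiveSpecialLinearGroup (Fin n) F)) γ = Nat.gcd n (p ^ f - 1) / 2) ∧ (¬ (Even n ∧ Odd p) → Cfsg.splitClassCount (Cfsg.inndiagPSL n F) (Cfsg.Inn (Matrix.ProjectiveSpecialLinearGroup (Fin n) F)) γ = Nat.gcd n (p ^ f - 1)) := by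
  classical
  obtain ⟨M, ε, rfl, hM, hε⟩ := CfsgLib.KnownC.GraphForms.Lin.exists_form hn hγ hγ2
  have hq : Nat.card Fˣ = p ^ f - 1 := by rw [Nat.card_units, Nat.card_eq_fintype_card, hF]
  rw [CfsgLib.KnownC.GraphForms.Lin.split hn M, ← hq]
  have hodd : Odd p → Odd (Fintype.card F) := fun h => hF ▸ h.pow
  refine ⟨?_, ?_, ?_⟩
  · rintro ⟨⟨m, hm⟩, hp, ⟨e⟩⟩
    have hnm : n = 2 * m := by omega
    have hm2 : n / 2 = m := by omega
    rw [hm2] at e ⊢
    have h2 := CfsgLib.KnownC.OrthTools.two_ne_zero_of_odd rfl (hodd hp)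
    have hc : Fintype.card (Fin n) = 2 * m := by rw [Fintype.card_fin, hnm]
    rcases hε with rfl | rfl
    · rw [one_smul] at hM
      exact ((CfsgLib.KnownC.GraphForms.sym_not_pgsp (K := F) (m := m) (by omega) (hodd hp) h2 M.det_ne_zero hM hc).false
        ((CfsgLib.KnownC.GraphForms.Lin.centralizer hn M).some.symm.trans e)).elim
    · exact CfsgLib.KnownC.GraphForms.Lin.count_alt M
        (CfsgLib.KnownC.GraphForms.alt_of_neg h2 (by rw [hM, neg_one_smul])) hnm
  · rintro ⟨⟨m, hm⟩, hp, hno⟩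
    have hnm : n = 2 * m := by omega
    have hm2 : n / 2 = m := by omega
    rw [hm2] at hno
    have h2 := CfsgLib.KnownC.OrthTools.two_ne_zero_of_odd rfl (hodd hp)
    rcases hε with rfl | rfl
    · exact CfsgLib.KnownC.GraphForms.Lin.count_sym h2 M (by rw [hM, one_smul]) (by omega) hnm
    · obtain ⟨m', hm', hs⟩ := CfsgLib.KnownC.GraphForms.similar_J
        (CfsgLib.KnownC.GraphForms.alt_of_neg h2 (by rw [hM, neg_one_smul])) M.det_ne_zero
      rw [Fintype.card_fin] at hm'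
      obtain rfl : m' = m := by omega
      exact (hno (CfsgLib.KnownC.GraphForms.Lin.pgsp_iso hn hs)).elim
  · intro h
    refine CfsgLib.KnownC.GraphForms.Lin.count_full M ?_
    by_cases he : Even n
    · right
      have hpe : Even p := Nat.not_odd_iff_even.1 fun ho => h ⟨he, ho⟩
      obtain ⟨r, hr⟩ : Even (p ^ f) := (Nat.even_pow).2 ⟨hpe, by omega⟩
      have h1 : 1 ≤ p ^ f := Nat.one_le_pow _ _ (Fact.out : p.Prime).pos
      rw [hq, Nat.odd_iff]
      omega
    · exact Or.inl (Nat.not_even_iff_odd.1 he)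

end Cfsg.Agent.S2702
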