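import Cfsg.Statements.S2703
import Cfsg.Agent.Lib.KnownC.GraphForms.LinClasses
import Cfsg.Agent.Lib.KnownC.OrthTools
-- import your own Cfsg.Agent.* helpers here

set_option autoImplicit false
open Cfsg

namespace Cfsg.Agent.S2703

/-- Let T = PSL_n(F) over the field with q elements, q odd, n = 2m ≥ 4 even, and ι the inverse-transpose automorphism. Its centralizer in G = Inndiag(T) (the image of PGL_n(F)) is isomorphic to the projective conformal orthogonal group of the plus-type form Σ xᵢ yᵢ in dimension n when n(q − 1)/4 is even, and to that of a minus-type form (Σ xᵢ yᵢ + z₁² + a z₁ z₂ + b z₂² with anisotropic binary part) when n(q − 1)/4 is odd. -/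
theorem result {F : Type*} [Field F] [Fintype F] (hodd : Odd (Fintype.card F)) {n m : ℕ} (hm : 2 ≤ m) (hnm : n = 2 * m) (ι : MulAut (Matrix.ProjectiveSpecialLinearGroup (Fin n) F)) (hι : Cfsg.IsInverseTransposeAutPSL ι) :
    (Even (n * (Fintype.card F - 1) / 4) → Nonempty (↥(Cfsg.inndiagPSL n F ⊓ Subgroup.centralizer {ι}) ≃* Cfsg.PGO F (Cfsg.quadFormPlus m F))) ∧ (¬ Even (n * (Fintype.card F - 1) / 4) → ∃ a b : F, (∀ z₁ z₂ : F, z₁ ^ 2 + a * z₁ * z₂ + b * z₂ ^ 2 = 0 → z₁ = 0 ∧ z₂ = 0) ∧ Nonempty (↥(Cfsg.inndiagPSL n F ⊓ Subgroup.centralizer {ι}) ≃* Cfsg.PGO F (Cfsg.quadFormMinus (m - 1) F a b))) := by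
  obtain rfl := (CfsgLib.KnownC.AutPSL.invTranspose_iff ι).1 hι
  have hq := Nat.odd_iff.1 hodd
  have h2 : (2 : F) ≠ 0 := CfsgLib.KnownC.OrthTools.two_ne_zero_of_odd rfl hodd
  obtain ⟨j, hj⟩ : ∃ j, Fintype.card F = 2 * j + 1 := ⟨Fintype.card F / 2, by omega⟩
  have hk : n * (Fintype.card F - 1) / 4 = m * j := by
    rw [hnm, hj, Nat.add_sub_cancel, show 2 * m * (2 * j) = 4 * (m * j) by ring,
      Nat.mul_div_cancel_left _ (by norm_num : 0 < 4)]
  have key : Even (n * (Fintype.card F - 1) / 4) ↔ IsSquare ((-1 : F) ^ m) := by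
    rw [hk, Nat.even_mul]
    rcases Nat.even_or_odd m with hme | hmo
    · rw [hme.neg_one_pow]
      exact iff_of_true (Or.inl hme) IsSquare.one
    · rw [hmo.neg_one_pow, FiniteField.isSquare_neg_one_iff, hj]
      have : ¬ Even m := Nat.not_even_iff_odd.2 hmo
      constructor
      · rintro (h | h)
        · exact absurd h this
        · rcases h with ⟨r, rfl⟩; omega
      · intro h
        right
        rcases Nat.even_or_odd j with h' | ⟨r, rfl⟩
        · exact h'
        · omega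
  obtain ⟨hp, hq'⟩ := CfsgLib.KnownC.GraphForms.Lin.centralizer_it (F := F) (n := n) h2 hm hnm
  exact ⟨fun h => hp (key.1 h), fun h => hq' (fun h' => h (key.2 h'))⟩

end Cfsg.Agent.S2703
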