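import Cfsg.Statements.S2704
import Cfsg.Agent.Lib.KnownC.AutPSL.GraphField

set_option autoImplicit false
open Cfsg

namespace Cfsg.Agent.S2704

open CfsgLib.KnownC.AutPSL

/-- Let T = PSL_n(F) over the field F with p^f elements, n ≥ 3, and G = Inndiag(T) the image of PGL_n(F). If x is an involutory graph-field automorphism of T then f is even; x is G-conjugate to every other involutory graph-field automorphism; C_G(x) is isomorphic to the projective general unitary group PGU_n(q₀) with q₀² = p^f, realised over F itself through the Hermitian form Σ uᵢ vᵢ^{q₀}; and the G-class of x is the union of exactly gcd(n, q₀ − 1) T-classes. -/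
theorem result {F : Type*} [Field F] [Fintype F] {p f : ℕ} [Fact p.Prime] (hF : Fintype.card F = p ^ f) (hf : 1 ≤ f) {n : ℕ} (hn : 3 ≤ n) (x : MulAut (Matrix.ProjectiveSpecialLinearGroup (Fin n) F)) (hx : Cfsg.IsGraphFieldAutClassPSL x) (hx2 : orderOf x = 2) :
    Even f ∧ (∀ y : MulAut (Matrix.ProjectiveSpecialLinearGroup (Fin n) F), Cfsg.IsGraphFieldAutClassPSL y → orderOf y = 2 → Cfsg.IsConjUnder (Cfsg.inndiagPSL n F) x y) ∧ Nonempty (↥(Cfsg.inndiagPSL n F ⊓ Subgroup.centralizer {x}) ≃* Cfsg.PGU n F (p ^ (f / 2))) ∧ Cfsg.splitClassCount (Cfsg.inndiagPSL n F) (Cfsg.Inn (Matrix.ProjectiveSpecialLinearGroup (Fin n) F)) x = Nat.gcd n (p ^ (f / 2) - 1) := by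
  classical
  obtain ⟨σ, hσ, hconj⟩ := gf_normal_form hn x hx hx2
  obtain ⟨hf2, hpow⟩ := involution_eq_pow hF σ hσ
  obtain ⟨-, hK⟩ := card_fixField hF σ hσ (by omega)
  refine ⟨even_iff_two_dvd.2 hf2, fun y hy hy2 => ?_, ?_, ?_⟩
  · obtain ⟨τ, hτ, hconj'⟩ := gf_normal_form hn y hy hy2
    obtain ⟨-, hpow'⟩ := involution_eq_pow hF τ hτ
    obtain rfl : σ = τ := RingEquiv.ext fun a => by rw [hpow, hpow']
    obtain ⟨g, hg, rfl⟩ := hconj
    obtain ⟨h, hh, rfl⟩ := hconj'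
    exact ⟨h * g⁻¹, Subgroup.mul_mem _ hh (Subgroup.inv_mem _ hg), by group⟩
  · obtain ⟨e1⟩ := centralizer_conj_equiv (by omega : 2 ≤ n) x _ hconj
    obtain ⟨e2⟩ := gf_centralizer hn σ hσ (p ^ (f / 2)) hpow
    exact ⟨e1.trans e2⟩
  · rw [split_count_conj (by omega : 2 ≤ n) x _ hconj, gf_split hn σ hσ, hK]
end Cfsg.Agent.S2704
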