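import Cfsg.Statements.S2709
import Cfsg.Agent.Lib.KnownC.GraphForms.UniSplit
import Cfsg.Agent.Lib.KnownC.GraphForms.UniClasses
import Cfsg.Agent.Lib.KnownC.GraphForms.Orders
import Cfsg.Agent.Lib.KnownC.OrthTools
-- import your own Cfsg.Agent.* helpers here

set_option autoImplicit false
open Cfsg

namespace Cfsg.Agent.S2709

/-- Let T = PSU_n(q) be simple (n ≥ 3, (n,q) ≠ (3,2), q = p^f), realised over the field F with q² elements, G = Inndiag(T) the image of PGU_n(q), and γ an involutory graph automorphism of T. The G-class of γ is the union of exactly c T-classes, where: if n is even and q is odd, c = gcd(n/2, q + 1) when C_G(γ) is isomorphic to PGSp_n(F₀) for a field F₀ with q elements (symplectic type) and c = gcd(n, q + 1)/2 otherwise; and c = gcd(n, q + 1) when n is odd or q is even. -/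
theorem result {F : Type*} [Field F] [Fintype F] {p f q : ℕ} [Fact p.Prime] (hq : q = p ^ f) (hf : 1 ≤ f) (hF : Fintype.card F = q ^ 2) {n : ℕ} (hn : 3 ≤ n) (hs : ¬ (n = 3 ∧ q = 2)) (F₀ : Type*) [Field F₀] [Fintype F₀] (hF₀ : Fintype.card F₀ = q) (γ : MulAut (Cfsg.PSU n F q)) (hγ : Cfsg.IsGraphAutClassPSU γ) (hγ2 : orderOf γ = 2) :
    ((Even n ∧ Odd q ∧ Nonempty (↥(Cfsg.inndiagPSU n F q ⊓ Subgroup.centralizer {γ}) ≃* Cfsg.PGSp (n / 2) F₀)) → Cfsg.splitClassCount (Cfsg.inndiagPSU n F q) (Cfsg.Inn (Cfsg.PSU n F q)) γ = Nat.gcd (n / 2) (q + 1)) ∧ ((Even n ∧ Odd q ∧ ¬ Nonempty (↥(Cfsg.inndiagPSU n F q ⊓ Subgroup.centralizer {γ}) ≃* Cfsg.PGSp (n / 2) F₀)) → Cfsg.splitClassCount (Cfsg.inndiagPSU n F q) (Cfsg.Inn (Cfsg.PSU n F q)) γ = Nat.gcd n (q + 1) / 2) ∧ (¬ (Even n ∧ Odd q) → Cfsg.splitClassCount (Cfsg.inndiagPSU n F q) (Cfsg.Inn (Cfsg.PSU n F q)) γ = Nat.gcd n (q + 1)) := by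
  classical
  haveI : Fact (Fintype.card F = q ^ 2) := ⟨hF⟩
  obtain ⟨σ, ι, D⟩ := CfsgLib.KnownC.GraphForms.Uni.exists_data (F := F) hF₀
  obtain ⟨M, ⟨R⟩⟩ := CfsgLib.KnownC.GraphForms.Uni.exists_rep hn hs D hγ hγ2
  rw [CfsgLib.KnownC.GraphForms.Uni.split_eq hn hs]
  refine ⟨?_, ?_, ?_⟩
  · rintro ⟨⟨m, hm⟩, hqo, ⟨e⟩⟩
    have hnm : n = 2 * m := by omega
    have hm2 : n / 2 = m := by omega
    rw [hm2] at e ⊢
    have h2 := CfsgLib.KnownC.OrthTools.two_ne_zero_of_odd hF₀ hqo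
    rcases R.hε with hε | hε
    · have hM := R.hsym
      rw [hε, one_smul] at hM
      exact ((CfsgLib.KnownC.GraphForms.sym_not_pgsp (K := F₀) (m := m) (by omega) (hF₀ ▸ hqo) h2 M.det_ne_zero hM
        (by rw [Fintype.card_fin, hnm])).false
        ((CfsgLib.KnownC.GraphForms.Uni.centralizer hn hs D R).some.symm.trans e)).elim
    · exact CfsgLib.KnownC.GraphForms.Uni.count_alt hn hs D R
        (CfsgLib.KnownC.GraphForms.alt_of_neg h2 (by rw [R.hsym, hε, neg_one_smul])) hnm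
  · rintro ⟨⟨m, hm⟩, hqo, hno⟩
    have hnm : n = 2 * m := by omega
    have hm2 : n / 2 = m := by omega
    rw [hm2] at hno
    have h2 := CfsgLib.KnownC.OrthTools.two_ne_zero_of_odd hF₀ hqo
    rcases R.hε with hε | hε
    · exact CfsgLib.KnownC.GraphForms.Uni.count_sym hn hs h2 hqo D R (by rw [R.hsym, hε, one_smul]) (by omega) hnm
    · obtain ⟨m', hm', hsim⟩ := CfsgLib.KnownC.GraphForms.similar_J
        (CfsgLib.KnownC.GraphForms.alt_of_neg h2 (by rw [R.hsym, hε, neg_one_smul])) M.det_ne_zero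
      rw [Fintype.card_fin] at hm'
      obtain rfl : m' = m := by omega
      exact (hno (CfsgLib.KnownC.GraphForms.Uni.centralizer_similar hn hs D R hsim
        (CfsgLib.KnownC.GraphForms.gsp_eq m'))).elim
  · intro h
    refine CfsgLib.KnownC.GraphForms.Uni.count_full hn hs D R ?_
    by_cases he : Even n
    · exact Or.inr (Nat.not_odd_iff_even.1 fun ho => h ⟨he, ho⟩).add_one
    · exact Or.inl (Nat.not_even_iff_odd.1 he)

end Cfsg.Agent.S2709
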