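import Cfsg.Statements.S2711
import Cfsg.Agent.Lib.KnownC.AutPSU.FieldClass

set_option autoImplicit false
open Cfsg

namespace Cfsg.Agent.S2711

/-- Let T = PSU_n(q) be simple (n ≥ 3, (n,q) ≠ (3,2)), realised over the field F with q² elements, and let x be a field automorphism of T (conjugate to a standard field automorphism of odd order) of prime order r. Then an element y of the coset Inndiag(T)·x (y = δ x with δ in the image of PGU_n(q)) has order r if and only if y is conjugate to x by an element of Inndiag(T). (T has no graph-field automorphisms.) -/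
theorem result {F : Type*} [Field F] [Fintype F] {p f q : ℕ} [Fact p.Prime] (hq : q = p ^ f) (hf : 1 ≤ f) (hF : Fintype.card F = q ^ 2) {n : ℕ} (hn : 3 ≤ n) (hs : ¬ (n = 3 ∧ q = 2)) (x δ : MulAut (Cfsg.PSU n F q)) (hx : Cfsg.IsFieldAutClassPSU x) {r : ℕ} (hr : r.Prime) (hxr : orderOf x = r) (hδ : δ ∈ Cfsg.inndiagPSU n F q) :
    orderOf (δ * x) = r ↔ Cfsg.IsConjUnder (Cfsg.inndiagPSU n F q) x (δ * x) := by
  haveI : Fact (Fintype.card F = q ^ 2) := ⟨hF⟩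
  obtain ⟨σ, g, hodd, hord, hconj⟩ := CfsgLib.KnownC.AutPSU.field_class hn hs x hx
  have hσ : orderOf σ = r := hord ▸ hxr
  have hro : Odd r := hσ ▸ hodd
  refine ⟨fun h => ?_, fun ⟨k, _, hk⟩ => by rw [hk, ← hxr]; exact (MulAut.conj k).orderOf_eq x⟩
  obtain ⟨hrf, hcard⟩ := CfsgLib.KnownC.AutPSU.fixed_field_data hq hr hro σ hσ
  letI := Fintype.ofFinite (CfsgLib.KnownC.AutPSL.fixField σ)
  have hF₀' : Fintype.card (CfsgLib.KnownC.AutPSL.fixField σ) = (p ^ (f / r)) ^ 2 := by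
    rw [← Nat.card_eq_fintype_card, hcard]
  haveI : Fact (Fintype.card (CfsgLib.KnownC.AutPSL.fixField σ) = (p ^ (f / r)) ^ 2) := ⟨hF₀'⟩
  obtain ⟨ι, hfix⟩ := CfsgLib.KnownC.AutPSU.exists_embedding σ (hF₀'.trans hcard.symm)
  haveI : Fact (∀ a, ι a ^ q = ι (a ^ p ^ (f / r))) :=
    ⟨CfsgLib.KnownC.AutPSU.pow_on_fixed hq hro hrf hF₀' ι⟩
  obtain ⟨D, rfl⟩ := (CfsgLib.KnownC.AutPSU.inndiag_iff_mem δ).1 hδ
  obtain ⟨A, hA⟩ : ∃ A, CfsgLib.KnownC.AutPSU.semiAut D 1 * x = CfsgLib.KnownC.AutPSU.semiAut A σ := by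
    rw [hconj, CfsgLib.KnownC.AutPSU.semiAut_inv, CfsgLib.KnownC.AutPSU.semiAut_mul,
      CfsgLib.KnownC.AutPSU.semiAut_mul, CfsgLib.KnownC.AutPSU.semiAut_mul]
    simp only [inv_one, one_mul, mul_one]
    exact ⟨_, rfl⟩
  rw [hA] at h ⊢
  obtain ⟨k, hk⟩ := CfsgLib.KnownC.AutPSU.field_conj (q₀ := p ^ (f / r)) ι hn hs A σ hfix hro hσ
    (h ▸ pow_orderOf_eq_one _)
  refine ⟨CfsgLib.KnownC.AutPSU.semiAut k 1 * (CfsgLib.KnownC.AutPSU.semiAut g 1)⁻¹,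
    Subgroup.mul_mem _ ((CfsgLib.KnownC.AutPSU.inndiag_iff_mem _).2 ⟨k, rfl⟩)
      (Subgroup.inv_mem _ ((CfsgLib.KnownC.AutPSU.inndiag_iff_mem _).2 ⟨g, rfl⟩)), ?_⟩
  rw [hk, hconj]
  group

end Cfsg.Agent.S2711
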