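import Cfsg.Statements.S2712
import Cfsg.Agent.Lib.KnownC.AutPSp.Field


set_option autoImplicit false
open Cfsg

namespace Cfsg.Agent.S2712

open CfsgLib.KnownC.AutPSp

/-- Let T = PSp_{2m}(F) be simple over the field F with p^f elements (m ≥ 2, (2m, |F|) ≠ (4, 2)), G = Inndiag(T) the image of the projective conformal symplectic group PGSp_{2m}(F), and x a field automorphism of T of prime order r. Then r divides f; C_G(x) is isomorphic to PGSp_{2m}(F₀) for a field F₀ with p^(f/r) elements; and the G-class of x is the union of exactly gcd(gcd(2, p^f − 1), r) T-classes. -/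
theorem result {F : Type*} [Field F] [Fintype F] {p f : ℕ} [Fact p.Prime] (hF : Fintype.card F = p ^ f) (hf : 1 ≤ f) {m : ℕ} (hm : 2 ≤ m) (hs : m = 2 → 3 ≤ Fintype.card F) (x : MulAut (Cfsg.PSp m F)) (hx : Cfsg.IsFieldAutClassPSp x) {r : ℕ} (hr : r.Prime) (hxr : orderOf x = r) (F₀ : Type*) [Field F₀] [Fintype F₀] (hF₀ : Fintype.card F₀ = p ^ (f / r)) :
    r ∣ f ∧ Nonempty (↥(Cfsg.inndiagPSp m F ⊓ Subgroup.centralizer {x}) ≃* Cfsg.PGSp m F₀) ∧ Cfsg.splitClassCount (Cfsg.inndiagPSp m F) (Cfsg.Inn (Cfsg.PSp m F)) x = Nat.gcd (Nat.gcd 2 (p ^ f - 1)) r := by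
  classical
  obtain ⟨α, σ, -, hstd⟩ := hx
  have h0 := (stdField_iff σ _).1 hstd
  have hσ : orderOf σ = r := by
    rw [← orderOf_std (F := F) (m := m) (by omega) σ, ← h0]
    exact ((MulAut.conj α).orderOf_eq x).trans hxr
  have hN := inndiag_normal (F := F) hm
  have hI : (Cfsg.Inn (Cfsg.PSp m F)).Normal := ⟨fun β ⟨g, hg⟩ γ => ⟨γ g, by
    rw [← hg]; ext y; simp [MulAut.conj_apply]⟩⟩
  obtain ⟨hrf, hK⟩ := CfsgLib.KnownC.AutPSL.card_fixField hF σ hσ hr.one_le
  let K := CfsgLib.KnownC.AutPSL.fixField σ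
  have : Fintype K := Fintype.ofFinite K
  have hc : Fintype.card F₀ = Fintype.card K := by rw [hF₀, ← Nat.card_eq_fintype_card, hK]
  let ι : F₀ →+* F := K.subtype.comp (FiniteField.ringEquivOfCardEq (K := F₀) (K' := K) hc).toRingHom
  have hι : ∀ y, σ y = y ↔ y ∈ Set.range ι := fun y => by
    constructor
    · intro hy
      exact ⟨(FiniteField.ringEquivOfCardEq (K := F₀) (K' := K) hc).symm ⟨y, hy⟩, by simp [ι]⟩
    · rintro ⟨z, rfl⟩
      exact ((FiniteField.ringEquivOfCardEq (K := F₀) (K' := K) hc) z).2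
  refine ⟨hrf, ?_, ?_⟩
  · obtain ⟨e1⟩ := CfsgLib.KnownC.SplitGen.centralizer_conj hN α x
    rw [h0] at e1
    obtain ⟨e2⟩ := centralizer_std (F := F) (m := m) (by omega) ι σ hι hσ hr.one_le
    exact ⟨e1.trans e2⟩
  · rw [CfsgLib.KnownC.SplitGen.count_conj hN hI α x, h0, split_std (F := F) (m := m) (by omega) ι σ hι hσ hr.one_le,
      Nat.card_eq_fintype_card, Nat.card_eq_fintype_card, hF, hF₀]
    obtain ⟨k, rfl⟩ := hrf
    rw [Nat.mul_div_cancel_left _ hr.pos, mul_comm r k, pow_mul]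
    refine CfsgLib.KnownC.SplitGen.gcd_two_geom ?_ hr.one_le
    have h2 := (Fact.out : p.Prime).two_le
    calc 2 ≤ p := h2
      _ ≤ p ^ k := Nat.le_self_pow (by rintro rfl; simp at hf) p
end Cfsg.Agent.S2712
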