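import Cfsg.Statements.S2713
import Cfsg.Agent.Lib.KnownC.AutPSp.Descent

set_option autoImplicit false
open Cfsg

namespace Cfsg.Agent.S2713

open CfsgLib.KnownC.AutPSp

/-- Let T = PSp_{2m}(F) be simple over a finite field (m ≥ 2, (2m, |F|) ≠ (4, 2)) and let x be a field automorphism of T of prime order r. Then an element y of the coset Inndiag(T)·x (y = δ x with δ in the image of the projective conformal symplectic group) has order r if and only if y is conjugate to x by an element of Inndiag(T). -/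
theorem result {F : Type*} [Field F] [Fintype F] {m : ℕ} (hm : 2 ≤ m) (hs : m = 2 → 3 ≤ Fintype.card F) (x δ : MulAut (Cfsg.PSp m F)) (hx : Cfsg.IsFieldAutClassPSp x) {r : ℕ} (hr : r.Prime) (hxr : orderOf x = r) (hδ : δ ∈ Cfsg.inndiagPSp m F) :
    orderOf (δ * x) = r ↔ Cfsg.IsConjUnder (Cfsg.inndiagPSp m F) x (δ * x) := by
  refine ⟨fun h => ?_, fun ⟨g, _, e⟩ => by rw [e]; exact ((MulAut.conj g).orderOf_eq x).trans hxr⟩
  obtain ⟨α, σ, -, hstd⟩ := hx
  have h0 := (stdField_iff σ _).1 hstd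
  have hσ : orderOf σ = r := by
    rw [← orderOf_std (F := F) (m := m) (by omega) σ, ← h0]
    exact ((MulAut.conj α).orderOf_eq x).trans hxr
  have hN := inndiag_normal (F := F) hm
  obtain ⟨A, hA⟩ := (inndiag_iff_mem _).1 (hN.conj_mem δ hδ α)
  have hpow : (semiAut A σ) ^ r = 1 := by
    have e : semiAut A σ = α * (δ * x) * α⁻¹ := by
      rw [show α * (δ * x) * α⁻¹ = (α * δ * α⁻¹) * (α * x * α⁻¹) by group, hA, h0, semiAut_mul, gMap_one, mul_one, one_mul]
    rw [e, ← MulAut.conj_apply, ← map_pow, ← h, pow_orderOf_eq_one, map_one]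
  obtain ⟨g, hg⟩ := field_conj (by omega) A σ hr.one_le hσ hpow
  have hgm : semiAut g 1 ∈ Cfsg.inndiagPSp m F := (inndiag_iff_mem _).2 ⟨g, rfl⟩
  refine ⟨α⁻¹ * semiAut g 1 * α, by simpa using hN.conj_mem _ hgm α⁻¹, ?_⟩
  calc δ * x = α⁻¹ * ((α * δ * α⁻¹) * (α * x * α⁻¹)) * α := by group
    _ = α⁻¹ * semiAut A σ * α := by rw [hA, h0, semiAut_mul, gMap_one, mul_one, one_mul]
    _ = _ := by rw [hg, ← h0]; group
end Cfsg.Agent.S2713
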