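import Cfsg.Statements.S2715
import Cfsg.Agent.Lib.KnownC.AutPOmega.D4Transport
-- import your own Cfsg.Agent.* helpers here

set_option autoImplicit false
open Cfsg

namespace Cfsg.Agent.S2715

/-- Let T = PΩ⁺_{2m}(F) (m ≥ 4, |F| = p^f; the form Σ xᵢ yᵢ), G = Inndiag(T) the image of the class-preserving similarities in Aut(T), and x a field automorphism of T of prime order r. Then r divides f; C_G(x) is isomorphic to Inndiag(PΩ⁺_{2m}(F₀)) for a field F₀ with p^(f/r) elements; and the G-class of x is the union of exactly c T-classes, where c = 1 if r is odd or p = 2, and otherwise (r = 2, p odd) c = 2 when m is odd and p^(f/2) ≡ 1 (mod 4), and c = 4 in the remaining cases. -/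
theorem result {F : Type*} [Field F] [Fintype F] {p f : ℕ} [Fact p.Prime] (hF : Fintype.card F = p ^ f) (hf : 1 ≤ f) {m : ℕ} (hm : 4 ≤ m) (x : MulAut (Cfsg.POmega F (Cfsg.quadFormPlus m F))) (hx : Cfsg.IsFieldAutClassPOmega (Cfsg.quadFormPlus m F) x) {r : ℕ} (hr : r.Prime) (hxr : orderOf x = r) (F₀ : Type*) [Field F₀] [Fintype F₀] (hF₀ : Fintype.card F₀ = p ^ (f / r)) :
    r ∣ f ∧ Nonempty (↥(Cfsg.inndiagPOmegaPlus m F ⊓ Subgroup.centralizer {x}) ≃* ↥(Cfsg.inndiagPOmegaPlus m F₀)) ∧ ((Odd r ∨ p = 2) → Cfsg.splitClassCount (Cfsg.inndiagPOmegaPlus m F) (Cfsg.Inn (Cfsg.POmega F (Cfsg.quadFormPlus m F))) x = 1) ∧ ((r = 2 ∧ p ≠ 2 ∧ Odd m ∧ p ^ (f / 2) % 4 = 1) → Cfsg.splitClassCount (Cfsg.inndiagPOmegaPlus m F) (Cfsg.Inn (Cfsg.POmega F (Cfsg.quadFormPlus m F))) x = 2) ∧ ((r = 2 ∧ p ≠ 2 ∧ ¬ (Odd m ∧ p ^ (f / 2) % 4 = 1)) → Cfsg.splitClassCount (Cfsg.inndiagPOmegaPlus m F) (Cfsg.Inn (Cfsg.POmega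 F (Cfsg.quadFormPlus m F))) x = 4) := by
  obtain ⟨α, φ, σ, hne, hφ0, e⟩ := hx
  haveI := CfsgLib.KnownC.AutPOmega.octx0_plus (F := F) hm
  have hφ : CfsgLib.KnownC.POmegaAut.IsSemiInduced (Cfsg.quadFormPlus m F) (1 : GL (Fin m ⊕ Fin m) F) σ φ :=
    ⟨CfsgLib.KnownC.AutPOmega.std_pair (CfsgLib.KnownC.AutPOmega.plus_std m σ),
      (CfsgLib.KnownC.AutPOmega.induced_std_iff σ φ).2 hφ0⟩
  have hord : orderOf φ = r := by rw [← e, ← hxr]; exact (MulAut.conj α).orderOf_eq x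
  have hσ := CfsgLib.KnownC.AutPOmega.std_orderOf hφ hne hr hord
  obtain ⟨hrf, emb, hι⟩ := CfsgLib.KnownC.AutPOmega.exists_emb hF σ hσ hr.one_le F₀ hF₀
  have hN : (Cfsg.inndiagPOmegaPlus m F).Normal := by
    rcases Nat.eq_or_lt_of_le hm with h4 | h5
    · subst h4
      exact CfsgLib.KnownC.AutPOmega.inndiag_four_normal
    · haveI := CfsgLib.KnownC.AutPOmega.octx_plus (F := F) (m := m) h5
      rw [CfsgLib.KnownC.AutPOmega.inndiag_plus_eq']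
      exact CfsgLib.KnownC.AutPOmega.proper_normal _ _ (CfsgLib.KnownC.AutPOmega.card_plus_index m)
  have hI := CfsgLib.KnownC.POmegaAut.inn_normal (Cfsg.POmega F (Cfsg.quadFormPlus m F))
  obtain ⟨e1⟩ := CfsgLib.KnownC.SplitGen.centralizer_conj hN α x
  rw [e] at e1
  obtain ⟨e2⟩ := CfsgLib.KnownC.AutPOmega.std_centralizer (F₀ := F₀) hm hι hφ
  rw [CfsgLib.KnownC.SplitGen.count_conj hN hI α x, e]
  have hp : (2 : F) = 0 ↔ p = 2 := by
    haveI := CfsgLib.KnownC.AutPOmega.charP_of_card hF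
    refine ⟨fun h => ?_, fun h => by subst h; exact CharTwo.two_eq_zero⟩
    have h' : ((2 : ℕ) : F) = 0 := by exact_mod_cast h
    exact ((Nat.prime_two.eq_one_or_self_of_dvd p ((CharP.cast_eq_zero_iff F p 2).1 h')).resolve_left
      (Fact.out : p.Prime).ne_one)
  refine ⟨hrf, ⟨e1.trans e2⟩, fun h => ?_, fun ⟨h2, hp2, h⟩ => ?_, fun ⟨h2, hp2, h⟩ => ?_⟩
  · exact CfsgLib.KnownC.AutPOmega.std_split_one (F₀ := F₀) hm hι hσ hφ (h.imp_right hp.2)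
  · subst h2
    rw [CfsgLib.KnownC.AutPOmega.std_split_two (F₀ := F₀) hm hι hσ hφ (mt hp.1 hp2), if_pos (hF₀ ▸ h)]
  · subst h2
    rw [CfsgLib.KnownC.AutPOmega.std_split_two (F₀ := F₀) hm hι hσ hφ (mt hp.1 hp2), if_neg (hF₀ ▸ h)]

end Cfsg.Agent.S2715
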