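import Cfsg.Statements.S2718
import Cfsg.Agent.Lib.KnownC.POmegaGraph


set_option autoImplicit false
open Cfsg

namespace Cfsg.Agent.S2718

open CfsgLib.KnownC.POmegaAut

/-- Let T = PΩ⁺_{2m}(F) with m ≥ 4 and |F| = q odd, G = Inndiag(T), and γ an involutory graph automorphism of T induced by a similarity (one interchanging the two classes of maximal totally singular subspaces). Then the G-class of γ is either a single T-class or the union of exactly two T-classes, and it is the union of two unless m is odd and q ≡ 3 (mod 4). -/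
theorem result {F : Type*} [Field F] [Fintype F] (hodd : Odd (Fintype.card F)) {m : ℕ} (hm : 4 ≤ m) (γ : MulAut (Cfsg.POmega F (Cfsg.quadFormPlus m F))) (hγ : Cfsg.IsSimilarityGraphAutPOmegaPlus m γ) (hγ2 : orderOf γ = 2) :
    (Cfsg.splitClassCount (Cfsg.inndiagPOmegaPlus m F) (Cfsg.Inn (Cfsg.POmega F (Cfsg.quadFormPlus m F))) γ = 1 ∨ Cfsg.splitClassCount (Cfsg.inndiagPOmegaPlus m F) (Cfsg.Inn (Cfsg.POmega F (Cfsg.quadFormPlus m F))) γ = 2) ∧ (¬ (Odd m ∧ Fintype.card F % 4 = 3) → Cfsg.splitClassCount (Cfsg.inndiagPOmegaPlus m F) (Cfsg.Inn (Cfsg.POmega F (Cfsg.quadFormPlus m F))) γ = 2) := by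
  classical
  obtain ⟨D, hneg, heps, hI⟩ := plus_setup m hodd (by omega)
  obtain ⟨g, hg, hnp, hind⟩ := hγ
  obtain rfl := (induced_iff _ ⟨g, hg⟩ γ).1 hind
  have heven : (⟨g, hg⟩ : GS (Cfsg.quadFormPlus m F)) ∉ D.evenSub := by
    intro h
    apply hnp
    have h2 := two_ne_of_odd hodd
    rw [preserves_iff h2 (CfsgLib.Orth.plusForm_apply m) (LinearEquiv.refl F _) (fun v => rfl)
      (D.mult_ne ⟨g, hg⟩) (g : Matrix (Fin m ⊕ Fin m) (Fin m ⊕ Fin m) F)
      (fun v => (congrArg (CfsgLib.Orth.plusForm F m) (lin_apply (Cfsg.quadFormPlus m F) ⟨g, hg⟩ v).symm).trans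
        (D.isSimil ⟨g, hg⟩ v))
      ((Matrix.isUnit_iff_isUnit_det _).1 g.isUnit).ne_zero]
    exact (div_eq_one_iff_eq (pow_ne_zero _ (D.mult_ne _))).1 h
  have hsc : (⟨g, hg⟩ : GS (Cfsg.quadFormPlus m F)) * ⟨g, hg⟩ ∈ scalars _ := by
    rw [← D.ker_Φ, MonoidHom.mem_ker, map_mul, ← pow_two, ← hγ2, pow_orderOf_eq_one]
  have h := D.class_count (by omega) (by rw [heps]; exact neg_one_pow_eq_or F m) _ heven hsc
  rw [hI]
  exact ⟨h.1, fun hc => h.2 (hneg.2 hc)⟩

end Cfsg.Agent.S2718
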