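import Cfsg.Statements.S2719
import Cfsg.Agent.Lib.KnownC.POmegaGraphTwo


set_option autoImplicit false
open Cfsg

namespace Cfsg.Agent.S2719

open CfsgLib.KnownC.POmegaAut

/-- Let T = PΩ⁻_{2m+2}(F) with m ≥ 3 and |F| = q odd (form with anisotropic binary part z₁² + a z₁ z₂ + b z₂²), G = Inndiag(T), and γ an involutory graph automorphism of T (an automorphism in the image of the semisimilarity group, not inner-diagonal, of order 2). Then the G-class of γ is either a single T-class or the union of exactly two T-classes, and it is the union of two unless m is even and q ≡ 1 (mod 4). -/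
theorem result {F : Type*} [Field F] [Fintype F] (hodd : Odd (Fintype.card F)) {m : ℕ} (hm : 3 ≤ m) (a b : F) (hab : (∀ z₁ z₂ : F, z₁ ^ 2 + a * z₁ * z₂ + b * z₂ ^ 2 = 0 → z₁ = 0 ∧ z₂ = 0)) (γ : MulAut (Cfsg.POmega F (Cfsg.quadFormMinus m F a b))) (hγ : Cfsg.IsGraphAutClassPOmegaMinus m a b γ) (hγ2 : orderOf γ = 2) :
    (Cfsg.splitClassCount (Cfsg.inndiagPOmegaMinus m F a b) (Cfsg.Inn (Cfsg.POmega F (Cfsg.quadFormMinus m F a b))) γ = 1 ∨ Cfsg.splitClassCount (Cfsg.inndiagPOmegaMinus m F a b) (Cfsg.Inn (Cfsg.POmega F (Cfsg.quadFormMinus m F a b))) γ = 2) ∧ (¬ (Even m ∧ Fintype.card F % 4 = 1) → Cfsg.splitClassCount (Cfsg.inndiagPOmegaMinus m F a b) (Cfsg.Inn (Cfsg.POmega F (Cfsg.quadFormMinus m F a b))) γ = 2) := by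
  classical
  obtain ⟨D, hneg, heps, hI⟩ := minus_setup m hodd (by omega) a b hab
  obtain ⟨hγm, hγn, -⟩ := hγ
  obtain ⟨g, rfl, hsc⟩ := minus_gamma m hodd (by omega) a b hab D γ hγm
    (by rw [← pow_two]; exact (orderOf_dvd_iff_pow_eq_one).1 (dvd_of_eq hγ2))
  have heven : g ∉ D.evenSub := fun h => hγn (by rw [hI]; exact ⟨g, h, rfl⟩)
  have h := D.class_count (by omega) (by rw [heps]; exact neg_one_pow_eq_or F (m + 1)) _ heven hsc
  rw [hI]
  refine ⟨h.1, fun hc => ?_⟩
  have hodd4 := Nat.odd_iff.1 hodd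
  by_cases hs : Even m ∧ Fintype.card F % 4 = 3
  · exact h.2 (hneg.2 hs)
  · have hoddm : Odd m := by
      rcases Nat.even_or_odd m with he | ho
      · exfalso
        have h4 : Fintype.card F % 4 = 1 ∨ Fintype.card F % 4 = 3 := by omega
        rcases h4 with h4 | h4
        · exact hc ⟨he, h4⟩
        · exact hs ⟨he, h4⟩
      · exact ho
    exact D.class_count_two (by omega) hoddm.add_one (fun hn => hs (hneg.1 hn)) _ heven hsc

end Cfsg.Agent.S2719
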