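import Cfsg.Statements.S2730
import Cfsg.Agent.Lib.KnownC.AutPSp.Balance
import Cfsg.Agent.Lib.Solvable.Cores


set_option autoImplicit false
open Cfsg

namespace Cfsg.Agent.S2730

open CfsgLib.KnownC.AutPSp

theorem exists_semi_of_gamma {F : Type*} [Field F] {m : ℕ} (_hm : 2 ≤ m) (β : MulAut (Cfsg.PSp m F))
    (h : β ∈ Cfsg.gammaPSp m F) : ∃ (B : Cfsg.GSp m F) (τ : F ≃+* F), β = semiAut B τ := by
  induction h using Subgroup.closure_induction with
  | mem x hx =>
    obtain ⟨g, σ, hg, hx⟩ := hx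
    exact ⟨⟨g, hg⟩, σ, (induced_iff ⟨g, hg⟩ σ x).1 hx⟩
  | one => exact ⟨1, 1, semiAut_one.symm⟩
  | mul a b _ _ ha hb =>
    obtain ⟨A, σ, rfl⟩ := ha
    obtain ⟨B, τ, rfl⟩ := hb
    exact ⟨_, _, semiAut_mul A B σ τ⟩
  | inv a _ ha =>
    obtain ⟨A, σ, rfl⟩ := ha
    exact ⟨_, _, semiAut_inv A σ⟩


/-- A criterion for the failure of local balance in almost simple groups whose socle is a projective symplectic group PSp_{2m}(F) (m ≥ 2, (2m, |F|) ≠ (4, 2)). Let F be a finite field of characteristic r and K the (simple) group in question; let A be a group of automorphisms of K containing all inner automorphisms, and x ∈ A an automorphism of prime order p ≠ r that is not inner-diagonal (not induced by a conformal symplectic matrix). Then the largest normal subgroup of C_A(x) of order prime to p is nontrivial if and only if x is a field automorphism of K (conjugate under Aut(K) to a non-identity standard field automorphism) and p does not divide the number of fixed points of x on K. -/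
theorem result {F : Type*} [Field F] [Fintype F] {r : ℕ} [Fact r.Prime] [CharP F r] {m : ℕ} (hm : 2 ≤ m) (hs : m = 2 → 3 ≤ Fintype.card F) (hK : IsSimpleGroup (Cfsg.PSp m F)) (A : Subgroup (MulAut (Cfsg.PSp m F))) (hinn : ∀ k : Cfsg.PSp m F, MulAut.conj k ∈ A) {p : ℕ} [Fact p.Prime] (hpr : p ≠ r) (x : MulAut (Cfsg.PSp m F)) (hxA : x ∈ A) (hord : orderOf x = p) (hnot : ¬ Cfsg.IsInnerDiagonalAutPSp x) :
    Cfsg.pPrimeCore p ↥(A ⊓ Subgroup.centralizer {x}) ≠ ⊥ ↔ (Cfsg.IsFieldAutClassPSp x ∧ Nat.Coprime p (Nat.card ↥(MonoidHom.eqLocus x.toMonoidHom (MonoidHom.id (Cfsg.PSp m F))))) := by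
  classical
  have hp : p.Prime := Fact.out
  have hr : r.Prime := Fact.out
  obtain ⟨B, τ, hx⟩ : ∃ (B : Cfsg.GSp m F) (τ : F ≃+* F), x = semiAut B τ := by
    have hgam : x ∈ Cfsg.gammaPSp m F := by
      rcases hp.eq_two_or_odd' with h2 | hodd
      · have h2F : (2 : F) ≠ 0 := fun h0 => by
          have := (CharP.cast_eq_zero_iff F r 2).1 (by exact_mod_cast h0)
          exact hpr (h2.trans ((Nat.prime_dvd_prime_iff_eq hr Nat.prime_two).1 this).symm)
        obtain ⟨B, τ, rfl⟩ := exists_semi hm (fun _ => h2F) x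
        exact semi_mem_gamma B τ
      · by_contra hxg
        have hsq := sq_semi hm x x⁻¹ hxg (fun h => hxg (by simpa using inv_mem h))
        rw [inv_inv] at hsq
        obtain ⟨k, hk⟩ := hodd
        refine hxg ?_
        have e : x = (x * x) ^ (k + 1) := by
          rw [← pow_two, ← pow_mul, show 2 * (k + 1) = p + 1 by omega, pow_succ, ← hord, pow_orderOf_eq_one, one_mul]
        rw [e]
        exact pow_mem hsq _
    exact exists_semi_of_gamma hm x hgam
  have hτ1 : τ ≠ 1 := fun h => hnot ⟨(B : GL _ F), B.2, (induced_iff B _ x).2 (by rw [hx, h]; rfl)⟩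
  have hτ : orderOf τ = p := by
    refine orderOf_eq_prime ?_ hτ1
    have h := hord ▸ pow_orderOf_eq_one x
    rw [hx, semiAut_pow] at h
    exact (semi_eq_one (by omega) h).1
  obtain ⟨g, hg⟩ := field_conj (by omega) B τ hp.one_le hτ (by rw [← hx, ← hord, pow_orderOf_eq_one])
  set α : MulAut (Cfsg.PSp m F) := (semiAut g 1)⁻¹
  have hX : α * x * α⁻¹ = semiAut 1 τ := by rw [hx, hg]; simp only [α]; group
  have hclass : Cfsg.IsFieldAutClassPSp x := ⟨α, τ, hτ1, (stdField_iff τ _).2 hX⟩
  let L : Subgroup (Cfsg.PSp m F) := fixPts x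
  let C : Subgroup (MulAut (Cfsg.PSp m F)) := A ⊓ Subgroup.centralizer {x}
  have hmemL : ∀ k, k ∈ L ↔ MulAut.conj k ∈ Subgroup.centralizer {x} := fun k => by
    rw [Subgroup.mem_centralizer_singleton_iff]
    show x k = k ↔ _
    rw [eq_comm (b := x * _), ← mul_inv_eq_iff_eq_mul, conj_aut]
    exact ⟨fun h => by rw [h], fun h => conj_injective_psp (by omega) h⟩
  have hLmap : fixPts (semiAut 1 τ) = L.map α.toMonoidHom := by
    ext k
    rw [Subgroup.mem_map_equiv]
    show semiAut 1 τ k = k ↔ x (α.symm k) = α.symm k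
    rw [← hX]
    exact ⟨fun h => α.injective (by rw [MulEquiv.apply_symm_apply]; exact h),
      fun h => (congrArg α h).trans (α.apply_symm_apply k)⟩
  constructor
  · intro hne
    refine ⟨hclass, (hp.coprime_iff_not_dvd).2 fun hdiv => hne ?_⟩
    have hn := Cfsg.pPrimeCore_normal p ↥C
    let N : Subgroup (MulAut (Cfsg.PSp m F)) :=
      ((Cfsg.pPrimeCore p ↥C).map C.subtype).map (MulAut.conj α).toMonoidHom
    have hN : N = ⊥ := by
      refine core_trivial hm τ hp hpr hτ ?_ N ?_ ?_ ?_
      · rw [hLmap, ← Nat.card_congr (L.equivMapOfInjective α.toMonoidHom α.injective).toEquiv]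
        exact hdiv
      · rintro _ ⟨_, ⟨c, -, rfl⟩, rfl⟩
        have hc := Subgroup.mem_centralizer_singleton_iff.1 c.2.2
        rw [Subgroup.mem_centralizer_singleton_iff, ← hX]
        show α * (c : MulAut _) * α⁻¹ * (α * x * α⁻¹) = α * x * α⁻¹ * (α * (c : MulAut _) * α⁻¹)
        calc _ = α * ((c : MulAut _) * x) * α⁻¹ := by group
          _ = _ := by rw [hc]; group
      · rw [Subgroup.card_map_of_injective (MulEquiv.injective _),
          Subgroup.card_map_of_injective C.subtype_injective]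
        exact CfsgLib.Solvable.Cores.coprime_card_pPrimeCore p
      · rintro k hk _ ⟨_, ⟨c, hc, rfl⟩, rfl⟩
        rw [hLmap] at hk
        obtain ⟨l, hl, rfl⟩ := hk
        have hlC : MulAut.conj l ∈ C := ⟨hinn l, (hmemL l).1 hl⟩
        refine ⟨_, ⟨⟨_, hlC⟩ * c * ⟨_, hlC⟩⁻¹, hn.conj_mem c hc _, rfl⟩, ?_⟩
        show α * (MulAut.conj l * (c : MulAut _) * (MulAut.conj l)⁻¹) * α⁻¹ =
          MulAut.conj (α l) * (α * (c : MulAut _) * α⁻¹) * (MulAut.conj (α l))⁻¹
        rw [← conj_aut α l]
        group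
    rw [Subgroup.map_eq_bot_iff_of_injective _ (MulEquiv.injective _),
      Subgroup.map_eq_bot_iff_of_injective _ C.subtype_injective] at hN
    exact hN
  · rintro ⟨-, hcop⟩ hbot
    let H : Subgroup ↥C := (L.map MulAut.conj).subgroupOf C
    have hLC : L.map MulAut.conj ≤ C := by
      rintro _ ⟨l, hl, rfl⟩
      exact ⟨hinn l, (hmemL l).1 hl⟩
    have hHn : H.Normal := ⟨fun h hh c => by
      obtain ⟨l, hl, hle⟩ := hh
      refine ⟨(c : MulAut _) l, ?_, ?_⟩
      · have hc := Subgroup.mem_centralizer_singleton_iff.1 c.2.2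
        show x ((c : MulAut _) l) = (c : MulAut _) l
        rw [← MulAut.mul_apply, ← hc, MulAut.mul_apply]
        exact congrArg _ hl
      · rw [← conj_aut]
        show _ = (c : MulAut (Cfsg.PSp m F)) * (h : MulAut (Cfsg.PSp m F)) * (c : MulAut (Cfsg.PSp m F))⁻¹
        rw [hle]; rfl⟩
    have hcard : Nat.card H = Nat.card L := by
      rw [Nat.card_congr (Subgroup.subgroupOfEquivOfLe hLC).toEquiv,
        Subgroup.card_map_of_injective (conj_injective_psp (by omega))]
    have hle : H ≤ Cfsg.pPrimeCore p ↥C := CfsgLib.Solvable.Cores.le_pPrimeCore (by rw [hcard]; exact hcop.symm)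
    have hH : H = ⊥ := le_bot_iff.1 (hle.trans hbot.le)
    have hL : Nat.card L = 1 := by rw [← hcard, hH, Subgroup.card_bot]
    let v : Vec F m := Pi.single (Sum.inl ⟨0, by omega⟩) 1
    have hv : (QuotientGroup.mk (spT v 1) : Cfsg.PSp m F) ∈ fixPts (semiAut 1 τ) := by
      show semiAut 1 τ (QuotientGroup.mk _) = QuotientGroup.mk _
      rw [semiAut_mk]
      exact congrArg _ (spT_mem_fixSp (fun i => by
        rcases eq_or_ne i (Sum.inl ⟨0, by omega⟩) with rfl | h <;> simp [v, *]) (map_one τ))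
    rw [hLmap, Subgroup.eq_bot_of_card_eq L hL, Subgroup.map_bot, Subgroup.mem_bot, QuotientGroup.eq_one_iff] at hv
    exact spT_ne_center (by simp [v]) one_ne_zero hv
end Cfsg.Agent.S2730
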