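import Cfsg.Statements.S2733
import Cfsg.Agent.Lib.KnownC.AutPOmega.Balance.MinusClass
import Cfsg.Agent.Lib.KnownC.AutPOmega.Balance.MinusInvol

set_option autoImplicit false
open Cfsg

namespace Cfsg.Agent.S2733

open CfsgLib.KnownC CfsgLib.KnownC.AutPOmega CfsgLib.Orth in
open CfsgLib.KnownC.AutPSU.Balance (fixPts core_ne_bot) in
/-- A criterion for the failure of local balance in almost simple groups whose socle is a minus-type orthogonal group PΩ⁻_{2m+2}(F) (m ≥ 3; the form Σ xᵢ yᵢ + z₁² + a z₁ z₂ + b z₂² with anisotropic binary part). Let F be a finite field of characteristic r and K the (simple) group in question; let A be a group of automorphisms of K containing all inner automorphisms, and x ∈ A an automorphism of prime order p ≠ r that is not inner-diagonal (not induced by a class-preserving similarity, classes read over a quadratic extension). Then the largest normal subgroup of C_A(x) of order prime to p is nontrivial if and only if x is a field automorphism of K (conjugate under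 Aut(K) to a non-identity standard field automorphism) and p does not divide the number of fixed points of x on K. -/
theorem result {F : Type*} [Field F] [Fintype F] {r : ℕ} [Fact r.Prime] [CharP F r] {m : ℕ} (hm : 3 ≤ m) (a b : F) (hab : (∀ z₁ z₂ : F, z₁ ^ 2 + a * z₁ * z₂ + b * z₂ ^ 2 = 0 → z₁ = 0 ∧ z₂ = 0)) (hK : IsSimpleGroup (Cfsg.POmega F (Cfsg.quadFormMinus m F a b))) (A : Subgroup (MulAut (Cfsg.POmega F (Cfsg.quadFormMinus m F a b)))) (hinn : ∀ k : Cfsg.POmega F (Cfsg.quadFormMinus m F a b), MulAut.conj k ∈ A) {p : ℕ} [Fact p.Prime] (hpr : p ≠ r) (x : MulAut (Cfsg.POmega F (Cfsg.quadFormMinus m F a b))) (hxA : x ∈ A) (hord : orderOf x = p) (hnot : ¬ Cfsg.IsInnerDiagonalAutPOmegaMinus m a b x) :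
    Cfsg.pPrimeCore p ↥(A ⊓ Subgroup.centralizer {x}) ≠ ⊥ ↔ (Cfsg.IsFieldAutClassPOmegaMinus m x ∧ Nat.Coprime p (Nat.card ↥(MonoidHom.eqLocus x.toMonoidHom (MonoidHom.id (Cfsg.POmega F (Cfsg.quadFormMinus m F a b)))))) := by
  have hchar : CharP F r := inferInstance
  haveI := octx_minus (F := F) hm hab
  have hp : p.Prime := Fact.out
  have hQf := minusForm_apply (F := F) m a b
  obtain ⟨g, σ, hg, hg'⟩ := exists_semi (minusForm F m a b) hQf x
  by_cases hσ : σ = RingEquiv.refl F
  · subst hσ
    obtain ⟨c, hc⟩ := id hg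
    let g₀ : POmegaAut.GS (Cfsg.quadFormMinus m F a b) := ⟨g, c, fun v => hc v⟩
    have hx : x = POmegaAut.Φ _ g₀ := (POmegaAut.induced_iff _ g₀ x).1 hg'
    have hn := card_minus_index m
    set P := properSub (minusForm F m a b) hQf (m + 1)
    have hgP : g₀ ∉ P := fun h => hnot ⟨g₀.1, g₀.2, (preserves_minus hm hab g₀).2 h, hg'⟩
    have hxp : x ^ p = 1 := by rw [← hord, pow_orderOf_eq_one]
    have hp2 : p = 2 := hp.eq_two_or_odd'.resolve_right fun ho => by
      obtain ⟨j, rfl⟩ := ho
      have h2 : g₀ * g₀ ∈ P := proper_index_two _ _ hn hgP hgP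
      have hpow : g₀ ^ (2 * j + 1) ∈ P := ker_le_proper _ hQf hn (MonoidHom.mem_ker.2 (by
        rw [map_pow, ← hx]; exact hxp))
      rw [pow_succ, pow_mul, pow_two] at hpow
      exact hgP (by simpa using mul_mem (inv_mem (pow_mem h2 j)) hpow)
    subst hp2
    have h2 : (2 : F) ≠ 0 := fun h => hpr (CharP.eq F (charTwo_of_zero h) hchar)
    have hbot : Cfsg.pPrimeCore 2 ↥(A ⊓ Subgroup.centralizer {x}) = ⊥ := by
      rw [hx]
      exact CfsgLib.KnownC.AutPOmega.Balance.minus_invol hab hm h2 g₀ hgP (by rw [← hx, ← pow_two]; exact hxp) A hinn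
    refine ⟨fun h => absurd hbot h, fun h => ?_⟩
    exfalso
    obtain ⟨σ', A', hA', hσ', -⟩ := minus_field_class hab hm h.1 Nat.prime_two hord
    obtain ⟨π, hπ, -⟩ := exists_field_hom (minusForm F m a b) hQf
    have e : σ' = RingEquiv.refl F := (hπ A' σ' x hA').symm.trans (hπ g (RingEquiv.refl F) x ⟨hg, hg'⟩)
    rw [e, show (RingEquiv.refl F : F ≃+* F) = 1 from rfl, orderOf_one] at hσ'
    omega
  · obtain ⟨hcls, hne, hbot⟩ := CfsgLib.KnownC.AutPOmega.Balance.minus_field hm hab hσ hord ⟨hg, hg'⟩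
    refine ⟨fun h => ⟨hcls, hp.coprime_iff_not_dvd.2 fun hd => h (hbot hd A hinn)⟩, fun h => ?_⟩
    exact core_ne_bot (conj_injective (minusForm F m a b) hQf) x A hinn hne h.2

end Cfsg.Agent.S2733
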