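import Cfsg.Statements.S2734
import Cfsg.Agent.Lib.KnownB.GraphFix.InstD4

set_option autoImplicit false
open Cfsg CfsgLib.Chevalley

namespace Cfsg.Agent.S2734

/-- In the Chevalley group of type D₄ over a finite field F (the matrix group generated by the root elements), a graph automorphism attached to a symmetry π of the Dynkin diagram (sending each fundamental root element x_p(t) to x_{π(p)}(t) and each x_{−p}(t) to x_{−π(p)}(t)) that has order 3 — a standard triality graph automorphism, π being a 3-cycle of the three outer nodes — has fixed-point subgroup isomorphic to the Chevalley group of type G₂ over F. -/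
theorem result {F : Type*} [Field F] [Fintype F] (τ : MulAut ↥(Cfsg.Lie.chevD4.group F)) (hτ : Cfsg.Lie.chevD4.IsGraphAut τ) (hτ3 : orderOf τ = 3) :
    Nonempty (↥(MonoidHom.eqLocus τ.toMonoidHom (MonoidHom.id ↥(Cfsg.Lie.chevD4.group F))) ≃* ↥(Cfsg.Lie.chevG2.group F)) := by
  revert τ
  rw [← Data.D4.datum_eq, ← Data.G2.datum_eq]
  intro τ hτ hτ3
  obtain ⟨π, hπ, hx⟩ := hτ
  have hexp : ∀ i j : Fin 4, ∀ c, Data.D4.tbl.datum.graphExp c i.val j.val = 1 := by
    have hl : ∀ i : Fin 4, Data.D4.tbl.datum.isLong (Data.D4.tbl.datum.simple i.val) = false := by decide +kernel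
    intro i j c
    simp [Cfsg.Lie.ChevalleyDatum.graphExp, hl]
  have hcases : ∀ π : Equiv.Perm (Fin 4),
      (∀ i j : Fin 4, i ≠ j → Data.D4.tbl.datum.bonds (π i).val (π j).val = Data.D4.tbl.datum.bonds i.val j.val) →
      (∀ i : Fin 4, π (π i) = i) ∨ (∀ i : Fin 4, (π i).val = [2, 1, 3, 0].getD i.val 0) ∨
        (∀ i : Fin 4, (π.symm i).val = [2, 1, 3, 0].getD i.val 0) := by decide +kernel
  have hgen : ∀ (i : Fin 4) (u : ↥(Data.D4.tbl.datum.group F)) (t : F),
      ((u : GL Data.D4.tbl.I F) = Data.D4.tbl.xU F (Data.D4.tbl.simple i) t →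
        (τ u : GL Data.D4.tbl.I F) = Data.D4.tbl.xU F (Data.D4.tbl.simple (π i)) t) ∧
      ((u : GL Data.D4.tbl.I F) = Data.D4.tbl.xU F (Data.D4.tbl.neg (Data.D4.tbl.simple i)) t →
        (τ u : GL Data.D4.tbl.I F) = Data.D4.tbl.xU F (Data.D4.tbl.neg (Data.D4.tbl.simple (π i))) t) := by
    intro i u t
    have hT := Data.D4.valid
    have hi := Tbl.simple_lt hT i.2
    have hj := Tbl.simple_lt hT (π i).2
    refine ⟨fun hu => ?_, fun hu => ?_⟩
    · rw [← Tbl.eq_x_iff hT hi, ← Tbl.datum_simple i.2] at hu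
      have h := (hx u i t).1 hu
      rw [hexp i (π i), pow_one, Tbl.datum_simple (π i).2] at h
      exact (Tbl.eq_x_iff hT hj _ _).mp h
    · rw [← Tbl.eq_x_iff hT (Tbl.neg_lt' hi), ← Tbl.datum_neg hi, ← Tbl.datum_simple i.2] at hu
      have h := (hx u i t).2 hu
      rw [hexp i (π i), pow_one, Tbl.datum_simple (π i).2, Tbl.datum_neg hj] at h
      exact (Tbl.eq_x_iff hT (Tbl.neg_lt' hj) _ _).mp h
  obtain ⟨e⟩ := CfsgLib.KnownB.GraphFix.D4.iso F
  have main : ∀ σ : MulAut ↥(Data.D4.tbl.datum.group F),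
      (∀ i < Data.D4.tbl.rank, ∀ (u : ↥(Data.D4.tbl.datum.group F)) (t : F),
        ((u : GL Data.D4.tbl.I F) = Data.D4.tbl.xU F (Data.D4.tbl.simple i) t →
          (σ u : GL Data.D4.tbl.I F) = Data.D4.tbl.xU F (Data.D4.tbl.simple ([2, 1, 3, 0].getD i 0)) t) ∧
        ((u : GL Data.D4.tbl.I F) = Data.D4.tbl.xU F (Data.D4.tbl.neg (Data.D4.tbl.simple i)) t →
          (σ u : GL Data.D4.tbl.I F) =
            Data.D4.tbl.xU F (Data.D4.tbl.neg (Data.D4.tbl.simple ([2, 1, 3, 0].getD i 0))) t)) →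
      Nonempty (↥(MonoidHom.eqLocus σ.toMonoidHom (MonoidHom.id _)) ≃* ↥(Data.G2.tbl.datum.group F)) :=
    fun σ hσ => ⟨((Subgroup.equivMapOfInjective _ _ (Subgroup.subtype_injective _)).trans
      (MulEquiv.subgroupCongr (CfsgLib.KnownB.GraphFix.fixed_eq (CfsgLib.KnownB.GraphFix.D4.setup F).D (fun _ => rfl)
        (show CfsgLib.KnownB.GraphFix.chkPar Data.D4.tbl Data.D4.graph = true by decide +kernel) σ hσ))).trans e⟩
  rcases hcases π hπ with h | h | h
  · exfalso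
    have hsq : τ * τ = 1 := by
      refine MulEquiv.ext fun u => ?_
      refine DFunLike.congr_fun (CfsgLib.KnownA.ChevalleyGen.hom_ext Data.D4.valid
        (τ * τ : MulAut ↥(Data.D4.tbl.datum.group F)).toMonoidHom (MonoidHom.id _) fun i hi t u =>
          ⟨fun hu => Subtype.ext ?_, fun hu => Subtype.ext ?_⟩) u
      · refine ((hgen (π ⟨i, hi⟩) _ t).1 ((hgen ⟨i, hi⟩ u t).1 hu)).trans ?_
        rw [show π (π ⟨i, hi⟩) = ⟨i, hi⟩ from h ⟨i, hi⟩]
        exact hu.symm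
      · refine ((hgen (π ⟨i, hi⟩) _ t).2 ((hgen ⟨i, hi⟩ u t).2 hu)).trans ?_
        rw [show π (π ⟨i, hi⟩) = ⟨i, hi⟩ from h ⟨i, hi⟩]
        exact hu.symm
    have := orderOf_dvd_of_pow_eq_one (show τ ^ 2 = 1 by rw [pow_two, hsq])
    rw [hτ3] at this
    omega
  · refine main τ fun i hi u t => ?_
    obtain ⟨k, rfl⟩ : ∃ k : Fin 4, k.val = i := ⟨⟨i, hi⟩, rfl⟩
    rw [← h k]
    exact hgen k u t
  · obtain ⟨e'⟩ := main τ.symm fun i hi u t => by
      have hT := Data.D4.valid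
      have hj := Tbl.simple_lt hT (π.symm ⟨i, hi⟩).2
      refine ⟨fun hu => ?_, fun hu => ?_⟩
      · have h1 := (hgen (π.symm ⟨i, hi⟩) ⟨_, Tbl.xU_mem_group hT hj t⟩ t).1 rfl
        rw [Equiv.apply_symm_apply, ← hu] at h1
        rw [← Subtype.ext h1, MulEquiv.symm_apply_apply, ← show (π.symm ⟨i, hi⟩).val = _ from h ⟨i, hi⟩]
      · have h1 := (hgen (π.symm ⟨i, hi⟩) ⟨_, Tbl.xU_mem_group hT (Tbl.neg_lt' hj) t⟩ t).2 rfl
        rw [Equiv.apply_symm_apply, ← hu] at h1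
        rw [← Subtype.ext h1, MulEquiv.symm_apply_apply, ← show (π.symm ⟨i, hi⟩).val = _ from h ⟨i, hi⟩]
    refine ⟨(MulEquiv.subgroupCongr ?_).trans e'⟩
    ext x
    exact ⟨fun (hx' : τ x = x) => show τ.symm x = x from τ.symm_apply_eq.mpr hx'.symm,
      fun (hx' : τ.symm x = x) => show τ x = x from (τ.symm_apply_eq.mp hx').symm⟩

end Cfsg.Agent.S2734
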