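import Cfsg.Statements.S2738

set_option autoImplicit false
open Cfsg

namespace Cfsg.Agent.S2738

/-- The special linear group SL(3, 4) has centre of order 3 and does not split over it: no subgroup is a complement to the centre (so SL(3, 4) is a non-split central extension of PSL(3, 4) by a group of order 3). -/
theorem result (F : Type*) [Field F] [Fintype F] (hF : Fintype.card F = 4) : Nat.card ↥(Subgroup.center (Matrix.SpecialLinearGroup (Fin 3) F)) = 3 ∧ ¬ ∃ K : Subgroup (Matrix.SpecialLinearGroup (Fin 3) F), Subgroup.IsComplement' (Subgroup.center (Matrix.SpecialLinearGroup (Fin 3) F)) K := by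
  classical
  haveI : Fact (Nat.Prime 2) := ⟨Nat.prime_two⟩
  haveI : CharP F 2 := charP_of_card_eq_prime_pow (f := 2) (by rw [hF]; norm_num)
  have hcardu : Nat.card Fˣ = 3 := by rw [Nat.card_units, Nat.card_eq_fintype_card, hF]
  have hc3 : Nat.card ↥(Subgroup.center (Matrix.SpecialLinearGroup (Fin 3) F)) = 3 := by
    rw [Nat.card_congr (Matrix.SpecialLinearGroup.center_equiv_rootsOfUnity' (0 : Fin 3)).toEquiv]
    have htop : rootsOfUnity (Fintype.card (Fin 3)) F = ⊤ := by
      refine eq_top_iff.2 fun u _ => ?_
      rw [mem_rootsOfUnity, Fintype.card_fin, ← hcardu]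
      exact pow_card_eq_one'
    rw [htop, Subgroup.card_top, hcardu]
  refine ⟨hc3, ?_⟩
  rintro ⟨K, hK⟩
  set G := Matrix.SpecialLinearGroup (Fin 3) F
  set Z := Subgroup.center G
  have hcomm : ∀ (z : Z) (k : K), Commute (Z.subtype z) (K.subtype k) := fun z k =>
    (Subgroup.mem_center_iff.1 z.2 (k : G)).symm
  let e : Z × K ≃* G := MulEquiv.ofBijective (MonoidHom.noncommCoprod Z.subtype K.subtype hcomm) hK
  let f : G →* Z := (MonoidHom.fst Z K).comp e.symm.toMonoidHom
  have hf : ∀ z : Z, f (z : G) = z := by
    intro z
    have : e.symm (z : G) = (z, 1) := by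
      rw [MulEquiv.symm_apply_eq]
      show (z : G) = (z : G) * ((1 : K) : G)
      rw [OneMemClass.coe_one, mul_one]
    show (e.symm (z : G)).1 = z
    rw [this]
  have hcube : ∀ z : Z, z ^ 3 = 1 := fun z =>
    orderOf_dvd_iff_pow_eq_one.1 ((orderOf_dvd_natCard z).trans (dvd_of_eq hc3))
  have h2 : ∀ z : Z, z ^ 2 = 1 → z = 1 := fun z hz => by
    have := hcube z
    rwa [pow_succ, hz, one_mul] at this
  have hall : ∀ A : G, f A = 1 := by
    intro A
    refine Matrix.SpecialLinearGroup.diagonal_transvection_induction' (fun A => f A = 1) A ?_ ?_ ?_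
    · intro i j hij c hc
      obtain ⟨k, hki, hkj⟩ : ∃ k : Fin 3, k ≠ i ∧ k ≠ j := by
        revert hij
        revert i j
        decide
      let w : G := ⟨(Equiv.swap i j).permMatrix F, by
        rw [Matrix.det_permutation, Equiv.Perm.sign_swap hij]
        simp [CharTwo.neg_eq]⟩
      have hki' : i ≠ k := fun h => hki h.symm
      have hkj' : j ≠ k := fun h => hkj h.symm
      have h1 : w * Matrix.SpecialLinearGroup.diag2n hki' c hc =
          Matrix.SpecialLinearGroup.diag2n hkj' c hc * w := by
        apply Subtype.ext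
        show (Equiv.swap i j).permMatrix F * _ = _ * (Equiv.swap i j).permMatrix F
        rw [PEquiv.toMatrix_toPEquiv_mul, PEquiv.mul_toMatrix_toPEquiv, Matrix.SpecialLinearGroup.diag2n_coe,
          Matrix.SpecialLinearGroup.diag2n_coe]
        ext a b
        simp only [Matrix.submatrix_apply, Matrix.diagonal_apply, id_eq, Equiv.symm_swap,
          Equiv.swap_apply_def]
        grind
      have h3 : Matrix.SpecialLinearGroup.diag2n hki' c hc =
          Matrix.SpecialLinearGroup.diag2n hij c hc * Matrix.SpecialLinearGroup.diag2n hkj' c hc := by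
        apply Subtype.ext
        rw [Matrix.SpecialLinearGroup.coe_mul, Matrix.SpecialLinearGroup.diag2n_coe,
          Matrix.SpecialLinearGroup.diag2n_coe, Matrix.SpecialLinearGroup.diag2n_coe,
          Matrix.diagonal_mul_diagonal]
        congr 1
        funext a
        split_ifs <;> simp_all <;> grind
      have h4 := congrArg f h1
      rw [map_mul, map_mul,
        show f (Matrix.SpecialLinearGroup.diag2n hkj' c hc) * f w =
            f w * f (Matrix.SpecialLinearGroup.diag2n hkj' c hc) from
          Subtype.ext (Subgroup.mem_center_iff.1 (f w).2 _)] at h4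
      have h5 := congrArg f h3
      rw [map_mul, mul_left_cancel h4] at h5
      exact (mul_eq_right.1 h5.symm)
    · intro i j hij a
      apply h2
      rw [← map_pow, pow_two, ← Matrix.SpecialLinearGroup.transvection_add, CharTwo.add_self_eq_zero,
        Matrix.SpecialLinearGroup.transvection_coeff_zero, map_one]
    · intro A B hA hB
      rw [map_mul, hA, hB, one_mul]
  have htriv : ∀ z : Z, z = 1 := fun z => by rw [← hf z, hall]
  have : Subsingleton Z := ⟨fun a b => by rw [htriv a, htriv b]⟩
  rw [Nat.card_of_subsingleton (1 : Z)] at hc3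
  omega

end Cfsg.Agent.S2738
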