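import Cfsg.Statements.S2751
import Cfsg.Agent.Lib.LocalEven.AmalgamGold.Main
import Cfsg.Agent.Lib.ThompsonWielandt.Basic

set_option autoImplicit false
open Cfsg

namespace Cfsg.Agent.S2751

/-- Goldschmidt's bound for amalgams of index (3, 3): let M₁ and M₂ be finite subgroups of a group G such that M₁ ⊓ M₂ is a Sylow 2-subgroup of both M₁ and M₂, each quotient Mᵢ / O₂(Mᵢ) is isomorphic to the symmetric group of degree 3, and no nontrivial subgroup of M₁ ⊓ M₂ is normal in both M₁ and M₂. Then M₁ ⊓ M₂ has order at most 2^7. -/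
theorem result {G : Type*} [Group G] (M₁ M₂ : Subgroup G) [Finite M₁] [Finite M₂] (ha₁ : ∃ P : Sylow 2 M₁, (P : Subgroup M₁) = (M₁ ⊓ M₂).subgroupOf M₁) (ha₂ : ∃ P : Sylow 2 M₂, (P : Subgroup M₂) = (M₁ ⊓ M₂).subgroupOf M₂) (hb₁ : Nonempty (M₁ ⧸ Cfsg.pCore 2 M₁ ≃* Equiv.Perm (Fin 3))) (hb₂ : Nonempty (M₂ ⧸ Cfsg.pCore 2 M₂ ≃* Equiv.Perm (Fin 3))) (hc : ∀ N : Subgroup G, N ≤ M₁ ⊓ M₂ → (N.subgroupOf M₁).Normal → (N.subgroupOf M₂).Normal → N = ⊥) : Nat.card ↥(M₁ ⊓ M₂) ≤ 2 ^ 7 := by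
  set L := M₁ ⊔ M₂ with hL
  haveI : Finite ↥(M₁ ⊓ M₂ : Subgroup G) :=
    Finite.of_injective _ (Subgroup.inclusion_injective inf_le_left)
  have hTp : IsPGroup 2 ↥(M₁ ⊓ M₂) := by
    obtain ⟨P, hP⟩ := ha₁
    have := P.2
    rw [hP] at this
    exact this.of_equiv (Subgroup.subgroupOfEquivOfLe inf_le_left)
  have key : ∀ (M : Subgroup G), Finite ↥M → M₁ ⊓ M₂ ≤ M →
      (∃ P : Sylow 2 M, (P : Subgroup M) = (M₁ ⊓ M₂).subgroupOf M) →
      Nonempty (M ⧸ Cfsg.pCore 2 M ≃* Equiv.Perm (Fin 3)) →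
      Nat.card M = 3 * Nat.card ↥(M₁ ⊓ M₂) ∧ Nat.card M = 6 * Nat.card (Cfsg.pCore 2 M) := by
    rintro M hM hle ⟨P, hP⟩ ⟨e⟩
    have h6 : Nat.card M = 6 * Nat.card (Cfsg.pCore 2 M) := by
      rw [Subgroup.card_eq_card_quotient_mul_card_subgroup (Cfsg.pCore 2 M), Nat.card_congr e.toEquiv,
        Nat.card_eq_fintype_card, Fintype.card_perm, Fintype.card_fin]
      rfl
    refine ⟨?_, h6⟩
    obtain ⟨n, hn⟩ := (CfsgLib.LocalEven.SylowIn.isPGroup_pCore ↥M 2).exists_card_eq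
    obtain ⟨m, hm⟩ := hTp.exists_card_eq
    have hPc : Nat.card P = 2 ^ m := by
      rw [hP, Nat.card_congr (Subgroup.subgroupOfEquivOfLe hle).toEquiv, hm]
    have h1 : 2 ^ m ∣ 2 ^ (n + 1) := by
      have := (P : Subgroup M).card_subgroup_dvd_card
      rw [hPc, h6, hn, show 6 * 2 ^ n = 2 ^ (n + 1) * 3 by ring] at this
      exact Nat.Coprime.dvd_of_dvd_mul_right (Nat.Coprime.pow_left _ (by norm_num)) this
    have h2 : 2 ^ (n + 1) ∣ 2 ^ m :=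
      hPc ▸ P.pow_dvd_card_of_pow_dvd_card (n := n + 1) (by rw [h6, hn]; exact ⟨3, by ring⟩)
    rw [h6, hn, hm, Nat.dvd_antisymm h1 h2]
    ring
  obtain ⟨k1, k1'⟩ := key M₁ inferInstance inf_le_left ha₁ hb₁
  obtain ⟨k2, k2'⟩ := key M₂ inferInstance inf_le_right ha₂ hb₂
  -- pass to the group generated by the two subgroups
  have l1 : M₁ ≤ L := le_sup_left
  have l2 : M₂ ≤ L := le_sup_right
  let e1 := Subgroup.subgroupOfEquivOfLe l1
  let e2 := Subgroup.subgroupOfEquivOfLe l2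
  let eT := Subgroup.subgroupOfEquivOfLe (inf_le_left.trans l1 : M₁ ⊓ M₂ ≤ L)
  haveI : Finite ↥(M₁.subgroupOf L) := Finite.of_equiv _ e1.toEquiv.symm
  haveI : Finite ↥(M₂.subgroupOf L) := Finite.of_equiv _ e2.toEquiv.symm
  have hinf : M₁.subgroupOf L ⊓ M₂.subgroupOf L = (M₁ ⊓ M₂).subgroupOf L := (Subgroup.comap_inf _ _ _).symm
  have hfaith : ∀ N : Subgroup ↥L, N ≤ M₁.subgroupOf L ⊓ M₂.subgroupOf L →
      M₁.subgroupOf L ≤ Subgroup.normalizer (N : Set ↥L) →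
      M₂.subgroupOf L ≤ Subgroup.normalizer (N : Set ↥L) → N = ⊥ := by
    intro N hN n1 n2
    have hn : ∀ {M : Subgroup G}, M ≤ L → M.subgroupOf L ≤ Subgroup.normalizer (N : Set ↥L) →
        N.map L.subtype ≤ M → ((N.map L.subtype).subgroupOf M).Normal := by
      intro M hM hMn hle
      refine (Subgroup.normal_subgroupOf_iff_le_normalizer hle).2 (Subgroup.le_normalizer_iff.2 ?_)
      rintro g hg _ ⟨x, hx, rfl⟩
      exact ⟨⟨g, hM hg⟩ * x * (⟨g, hM hg⟩ : ↥L)⁻¹,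
        (Subgroup.mem_normalizer_iff.1 (hMn (show (⟨g, hM hg⟩ : ↥L) ∈ M.subgroupOf L from hg)) x).1 hx, rfl⟩
    have hle : N.map L.subtype ≤ M₁ ⊓ M₂ := by
      rintro _ ⟨x, hx, rfl⟩
      exact ⟨(hN hx).1, (hN hx).2⟩
    have := hc _ hle (hn l1 n1 (hle.trans inf_le_left)) (hn l2 n2 (hle.trans inf_le_right))
    exact (Subgroup.map_eq_bot_iff_of_injective N L.subtype_injective).1 this
  have hd : CfsgLib.LocalEven.AmalgamGold.Data (M₁.subgroupOf L) (M₂.subgroupOf L) := by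
    refine ⟨inferInstance, inferInstance, ?_, ?_, ?_, ?_, ?_, hfaith⟩
    · rw [hinf]; exact hTp.of_equiv eT.symm
    · rw [hinf, Nat.card_congr eT.toEquiv, Nat.card_congr e1.toEquiv, k1]
    · rw [hinf, Nat.card_congr eT.toEquiv, Nat.card_congr e2.toEquiv, k2]
    · rw [CfsgLib.ThompsonWielandt.card_pCore_congr 2 e1, Nat.card_congr e1.toEquiv, k1']
    · rw [CfsgLib.ThompsonWielandt.card_pCore_congr 2 e2, Nat.card_congr e2.toEquiv, k2']
  have hb := hd.bound (by rw [← Subgroup.subgroupOf_sup l1 l2, Subgroup.subgroupOf_self])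
  rwa [hinf, Nat.card_congr eT.toEquiv] at hb

end Cfsg.Agent.S2751
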