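import Cfsg.Statements.S2755
import Cfsg.Agent.Lib.LocalEven.GoldschmidtFree.Models
import Cfsg.Agent.Lib.LocalEven.GoldschmidtFree.Ree
import Cfsg.Agent.S0343

set_option autoImplicit false
set_option linter.style.haveILetI false
open Cfsg

namespace Cfsg.Agent.S2755

open CfsgLib.LocalEven.GoldschmidtFree CfsgLib.KGroups.AbelianTwo

universe u

theorem congr_three {G : Type u} {X : Type} [Group G] [Group X] (e : G ≃* X) :
    Cfsg.Involves (Equiv.Perm (Fin 3)) G ↔ Cfsg.Involves (Equiv.Perm (Fin 3)) X :=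
  ⟨involves_trans e, involves_trans e.symm⟩

theorem congr_four {G : Type u} {X : Type} [Group G] [Group X] (e : G ≃* X)
    (h : ¬ Cfsg.Involves (Equiv.Perm (Fin 4)) X) : ¬ Cfsg.Involves (Equiv.Perm (Fin 4)) G :=
  fun hi => h (involves_trans e hi)

theorem noThree_of_known {G : Type u} [Group G] (h : Cfsg.IsSuzukiOrPSL2OddPowerThree G) :
    ¬ Cfsg.Involves (Equiv.Perm (Fin 3)) G := by
  rcases h with ⟨F, _, _, m, hm, hF, ⟨e⟩⟩ | ⟨F, _, _, n, hF, ⟨e⟩⟩
  · exact fun h => (suzuki hm hF).2 ((congr_three e).1 h)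
  · exact fun h => psl2_noThree hF ((congr_three e).1 h)

/-- A group of Ree type. -/
theorem ree {G : Type u} [Group G] [Finite G] (h : Cfsg.IsReeType G) :
    ¬ Cfsg.Involves (Equiv.Perm (Fin 4)) G ∧ Cfsg.Involves (Equiv.Perm (Fin 3)) G := by
  obtain ⟨hs, -, t, K, n, hn, ht, hodd, hd, F, _, _, hF, ⟨eK⟩⟩ := h
  haveI := hs
  obtain ⟨e₀⟩ := exists_centralizer_equiv ht hd
  let e := e₀.trans (MulEquiv.prodCongr (MulEquiv.refl _) eK)
  have hq : 3 < Fintype.card F := by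
    rw [hF]
    calc 3 < 3 ^ 3 := by norm_num
      _ ≤ 3 ^ (2 * n + 1) := Nat.pow_le_pow_right (by norm_num) (by omega)
  have hab : ∀ P : Sylow 2 G, ∀ a b : P, a * b = b * a := fun P a b => by
    have h2 := (CfsgLib.Recognition.ReeCentralizer.sylow_eight hq ht e P).2
    have ha := h2 a a.2
    have hb := h2 b b.2
    have hab := h2 (a * b : P) (a * b : P).2
    rw [Subgroup.coe_mul, pow_two] at hab
    rw [pow_two] at ha hb
    refine Subtype.ext ?_
    rw [Subgroup.coe_mul, Subgroup.coe_mul]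
    calc (a : G) * b = (a : G) * ((a * b) * (a * b)) * b := by rw [hab, mul_one]
      _ = ((a : G) * a) * (b * a) * (b * b) := by group
      _ = b * a := by rw [ha, hb, one_mul, mul_one]
  refine ⟨noFour_of_abTwo fun P => ⟨⟨hab P⟩⟩, ree_three hF ht e ?_⟩
  rcases Cfsg.Agent.S0343.result hab hq.le t ht ⟨e⟩ with ⟨m, -, hm, hG⟩ | ⟨h45, -⟩
  · have hmn : 2 * m + 1 = 2 * n + 1 := Nat.pow_right_injective (by norm_num) (hm.symm.trans hF)
    rw [hG, hmn, ← pow_mul]
    exact Dvd.dvd.mul_right (Dvd.dvd.mul_right (pow_dvd_pow 3 (by omega)) _) _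
  · exfalso
    rw [hF] at h45
    have : 3 ∣ 3 ^ (2 * n + 1) := dvd_pow_self 3 (by omega)
    omega

/-- `3^b ≡ 3, 5 (mod 8)` only for odd `b`. -/
theorem odd_exponent {b : ℕ} (h : 3 ^ b % 8 = 3 ∨ 3 ^ b % 8 = 5) : ∃ n, b = 2 * n + 1 := by
  rcases Nat.even_or_odd b with ⟨j, rfl⟩ | ⟨j, rfl⟩
  · rw [← two_mul, pow_mul, Nat.pow_mod] at h
    norm_num at h
  · exact ⟨j, rfl⟩

/-- Every finite Goldschmidt group is S₄-free (the symmetric group of degree 4 is not involved in it); and for a finite Goldschmidt group G, the symmetric group of degree 3 is not involved in G exactly when G is a Suzuki group or PSL₂ over a field with 3^(2n+1) elements. -/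
theorem result {G : Type*} [Group G] [Finite G] (hG : Cfsg.IsGoldschmidtGroup G) : ¬ Cfsg.Involves (Equiv.Perm (Fin 4)) G ∧ (¬ Cfsg.Involves (Equiv.Perm (Fin 3)) G ↔ Cfsg.IsSuzukiOrPSL2OddPowerThree G) := by
  suffices h : ¬ Cfsg.Involves (Equiv.Perm (Fin 4)) G ∧
      (¬ Cfsg.Involves (Equiv.Perm (Fin 3)) G → Cfsg.IsSuzukiOrPSL2OddPowerThree G) from
    ⟨h.1, h.2, noThree_of_known⟩
  show ¬ Cfsg.Involves (Equiv.Perm (Fin 4)) G ∧
    (¬ Cfsg.Involves (Equiv.Perm (Fin 3)) G → Cfsg.IsSuzukiOrPSL2OddPowerThree G)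
  rcases hG with h | ⟨F, _, _, n, hn, hF, ⟨e⟩⟩ | h | ⟨F, _, _, n, hn, hF, ⟨e⟩⟩ |
    ⟨F, _, _, q, hF, h5, hq, ⟨e⟩⟩ | h
  · exact ⟨(ree h).1, fun h3 => absurd (ree h).2 h3⟩
  · exact ⟨congr_four e (psl2_even hn hF).1, fun h3 => absurd ((congr_three e).2 (psl2_even hn hF).2) h3⟩
  · exact ⟨by obtain ⟨F, _, _, m, hm, hF, ⟨e⟩⟩ := h; exact congr_four e (suzuki hm hF).1, fun _ => Or.inl h⟩
  · exact ⟨congr_four e (psu3_even hn hF).1, fun h3 => absurd ((congr_three e).2 (psu3_even hn hF).2) h3⟩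
  · subst hF
    refine ⟨congr_four e (noFour_of_abTwo (psl2_three_five h5 hq)), fun h3 => ?_⟩
    by_cases hc : (3 : F) = 0
    · haveI : Fact (Nat.Prime 3) := ⟨Nat.prime_three⟩
      haveI : CharP F 3 := CharP.charP_iff_prime_eq_zero Nat.prime_three |>.2 (by exact_mod_cast hc)
      obtain ⟨b, -, hb⟩ := FiniteField.card F 3
      rw [hb] at hq
      obtain ⟨j, hj⟩ := odd_exponent hq
      exact Or.inr ⟨F, inferInstance, inferInstance, j, hb.trans (by rw [hj]), ⟨e⟩⟩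
    · exact absurd ((congr_three e).2 (psl2_three hc)) h3
  · obtain ⟨e⟩ : Nonempty (G ≃* Cfsg.Spor.J1) := h
    exact ⟨congr_four e janko_one.1, fun h3 => absurd ((congr_three e).2 janko_one.2) h3⟩

end Cfsg.Agent.S2755
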