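import Cfsg.Statements.S2756
import Cfsg.Agent.Lib.LocalEven.InversionControl.Main
-- import your own Cfsg.Agent.* helpers here

set_option autoImplicit false
open Cfsg

namespace Cfsg.Agent.S2756

open CfsgLib.LocalEven.InversionControl CfsgLib.LocalEven.SylowIn

/-- A subgroup of a group with a normal Sylow `2`-subgroup has one. -/
theorem normal_sub {G : Type*} [Group G] [Finite G] (h : ∀ P : Sylow 2 G, (P : Subgroup G).Normal)
    (H : Subgroup G) (Q : Sylow 2 H) : (Q : Subgroup H).Normal := by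
  haveI : Fact (Nat.Prime 2) := ⟨Nat.prime_two⟩
  obtain ⟨P, hP⟩ := (Q.isPGroup'.map H.subtype).exists_le_sylow
  haveI := h P
  have e : (Q : Subgroup H) = (P : Subgroup G).subgroupOf H :=
    (Q.is_maximal' (P.isPGroup'.comap_of_injective H.subtype H.subtype_injective)
      fun x hx => hP (Subgroup.mem_map_of_mem H.subtype hx)).symm
  rw [e]
  infer_instance

/-- Without inversion inside the normalizer of a Sylow-`2`-normal subgroup. -/
theorem no_inverted {H : Type*} [Group H] [Finite H] (h : ∀ P : Sylow 2 H, (P : Subgroup H).Normal) {q : ℕ}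
    [Fact q.Prime] (hq : q ≠ 2) {g x : H} (hx : ∃ k, orderOf x = q ^ k) (hgx : g * x * g⁻¹ = x⁻¹) : x = 1 := by
  haveI : Fact (Nat.Prime 2) := ⟨Nat.prime_two⟩
  obtain ⟨m, k, hm, hk, -⟩ := exists_two_part g
  have hs : g ^ m * x * (g ^ m)⁻¹ = x⁻¹ := by
    obtain ⟨d, rfl⟩ := hm
    clear hk
    induction d with
    | zero => rw [mul_zero, zero_add, pow_one, hgx]
    | succ d ih =>
      have hgg : g * g * x * g⁻¹ * g⁻¹ = x := by
        calc g * g * x * g⁻¹ * g⁻¹ = g * (g * x * g⁻¹) * g⁻¹ := by group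
          _ = g * x⁻¹ * g⁻¹ := by rw [hgx]
          _ = (g * x * g⁻¹)⁻¹ := by group
          _ = x := by rw [hgx, inv_inv]
      calc g ^ (2 * (d + 1) + 1) * x * (g ^ (2 * (d + 1) + 1))⁻¹
          = g ^ (2 * d + 1) * (g * g * x * g⁻¹ * g⁻¹) * (g ^ (2 * d + 1))⁻¹ := by
            rw [show 2 * (d + 1) + 1 = (2 * d + 1) + 2 by ring, pow_add, pow_two]; group
        _ = x⁻¹ := by rw [hgg, ih]
  obtain ⟨P, hP⟩ := IsPGroup.exists_le_sylow (p := 2) (P := Subgroup.zpowers (g ^ m))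
    (IsPGroup.of_card (n := k) (by rw [Nat.card_zpowers, hk]))
  have hgm : g ^ m ∈ (P : Subgroup H) := hP (Subgroup.mem_zpowers _)
  have hx2 : x * x ∈ (P : Subgroup H) := by
    have h1 : x * (g ^ m) * x⁻¹ * (g ^ m)⁻¹ ∈ (P : Subgroup H) :=
      mul_mem ((h P).conj_mem _ hgm x) (inv_mem hgm)
    have h2 : g ^ m * x⁻¹ * (g ^ m)⁻¹ = x := by
      rw [show g ^ m * x⁻¹ * (g ^ m)⁻¹ = (g ^ m * x * (g ^ m)⁻¹)⁻¹ by group, hs, inv_inv]
    rwa [show x * (g ^ m) * x⁻¹ * (g ^ m)⁻¹ = x * (g ^ m * x⁻¹ * (g ^ m)⁻¹) by group, h2] at h1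
  obtain ⟨i, hi⟩ := IsPGroup.iff_orderOf.1 P.isPGroup' ⟨_, hx2⟩
  rw [Subgroup.orderOf_mk] at hi
  obtain ⟨j, hj⟩ := hx
  have hcop : ∀ a b : ℕ, (q ^ a).Coprime (2 ^ b) := fun a b =>
    ((Nat.coprime_primes (Fact.out : q.Prime) Nat.prime_two).2 hq).pow a b
  have h1 : orderOf (x * x) = 1 := Nat.eq_one_of_dvd_coprimes (hcop j i)
    (by rw [← pow_two, ← hj]; exact orderOf_pow_dvd 2) (dvd_of_eq hi)
  rw [orderOf_eq_one_iff, ← pow_two] at h1
  exact orderOf_eq_one_iff.1 (Nat.eq_one_of_dvd_coprimes (hcop j 1) (hj ▸ dvd_rfl)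
    (by rw [pow_one]; exact orderOf_dvd_of_pow_eq_one h1))

/-- For a finite group G the following are equivalent: (a) G has a normal Sylow 2-subgroup; (b) for every odd prime q dividing the order of G and every Sylow q-subgroup T, the normalizer of Z(J(T)) has a normal Sylow 2-subgroup; (c) for every odd prime q and every Sylow q-subgroup T, no nonidentity element of T is inverted by an element of the normalizer of Z(J(T)). Here J(T) is the Thompson subgroup generated by the abelian subgroups of T of largest order. Stated as the two equivalences (a) ⇔ (b) and (a) ⇔ (c). -/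
theorem result {G : Type*} [Group G] [Finite G] : ((∀ P : Sylow 2 G, (P : Subgroup G).Normal) ↔ ∀ (q : ℕ) [Fact q.Prime], q ≠ 2 → q ∣ Nat.card G → ∀ T : Sylow q G, ∀ P : Sylow 2 ↥(Subgroup.normalizer (Cfsg.centerThompsonAOf (T : Subgroup G) : Set G)), (P : Subgroup ↥(Subgroup.normalizer (Cfsg.centerThompsonAOf (T : Subgroup G) : Set G))).Normal) ∧ ((∀ P : Sylow 2 G, (P : Subgroup G).Normal) ↔ ∀ (q : ℕ) [Fact q.Prime], q ≠ 2 → ∀ T : Sylow q G, ∀ x ∈ (T : Subgroup G), x ≠ 1 → ∀ g ∈ Subgroup.normalizer (Cfsg.centerThompsonAOf (T : Subgroup G) : Set G), g * x * g⁻¹ ≠ x⁻¹) := by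
  haveI : Fact (Nat.Prime 2) := ⟨Nat.prime_two⟩
  have hbc : (∀ (q : ℕ) [Fact q.Prime], q ≠ 2 → q ∣ Nat.card G → ∀ T : Sylow q G, ∀ P : Sylow 2 ↥(Subgroup.normalizer (Cfsg.centerThompsonAOf (T : Subgroup G) : Set G)), (P : Subgroup ↥(Subgroup.normalizer (Cfsg.centerThompsonAOf (T : Subgroup G) : Set G))).Normal) →
      ∀ (q : ℕ) [Fact q.Prime], q ≠ 2 → ∀ T : Sylow q G, ∀ x ∈ (T : Subgroup G), x ≠ 1 →
        ∀ g ∈ Subgroup.normalizer (Cfsg.centerThompsonAOf (T : Subgroup G) : Set G), g * x * g⁻¹ ≠ x⁻¹ := by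
    intro h q hqF hq T x hx hx1 g hg he
    obtain ⟨k, hk⟩ := IsPGroup.iff_orderOf.1 T.isPGroup' ⟨x, hx⟩
    rw [Subgroup.orderOf_mk] at hk
    have hdvd : q ∣ Nat.card G := by
      rcases Nat.eq_zero_or_pos k with rfl | hk0
      · exact absurd (orderOf_eq_one_iff.1 (by rw [hk, pow_zero])) hx1
      · exact ((dvd_pow_self q hk0.ne').trans (dvd_of_eq hk.symm)).trans (orderOf_dvd_natCard x)
    have hxN : x ∈ Subgroup.normalizer (Cfsg.centerThompsonAOf (T : Subgroup G) : Set G) :=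
      (Subgroup.le_normalizer.trans (normalizer_le_normalizer_centerThompsonAOf _)) hx
    exact hx1 (congrArg Subtype.val (no_inverted (h q hq hdvd T) hq (g := ⟨g, hg⟩) (x := ⟨x, hxN⟩)
      ⟨k, by rw [Subgroup.orderOf_mk, hk]⟩ (Subtype.ext he)))
  have hca : (∀ (q : ℕ) [Fact q.Prime], q ≠ 2 → ∀ T : Sylow q G, ∀ x ∈ (T : Subgroup G), x ≠ 1 →
        ∀ g ∈ Subgroup.normalizer (Cfsg.centerThompsonAOf (T : Subgroup G) : Set G), g * x * g⁻¹ ≠ x⁻¹) →
      ∀ P : Sylow 2 G, (P : Subgroup G).Normal := by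
    intro h
    have hgood : ∀ (q : ℕ) [Fact q.Prime], q ≠ 2 → GoodIn q (⊤ : Subgroup G) := by
      intro q _ hq
      refine goodIn_top hq fun T s hs x hx hs2 hxq he => ?_
      by_contra hx1
      set N := Subgroup.normalizer (Cfsg.centerThompsonAOf (T : Subgroup G) : Set G)
      have hTN : IsSylowIn q (T : Subgroup G) N :=
        ⟨Subgroup.le_normalizer.trans (normalizer_le_normalizer_centerThompsonAOf _), T.2,
          fun U _ hU hTU => T.3 hU hTU⟩
      obtain ⟨k, hk⟩ := hxq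
      obtain ⟨T', hT', hle⟩ := exists_isSylowIn N (Subgroup.zpowers_le.2 hx)
        (IsPGroup.of_card (n := k) (by rw [Nat.card_zpowers, hk]))
      obtain ⟨c, hc, rfl⟩ := hTN.conjugate hT'
      have hxT := mem_map_conj.1 (hle (Subgroup.mem_zpowers x))
      refine h q hq T _ hxT (fun e => hx1 ?_) (c⁻¹ * s * c) (mul_mem (mul_mem (inv_mem hc) hs) hc) ?_
      · calc x = c * (c⁻¹ * x * c) * c⁻¹ := by group
          _ = 1 := by rw [e]; group
      · calc c⁻¹ * s * c * (c⁻¹ * x * c) * (c⁻¹ * s * c)⁻¹ = c⁻¹ * (s * x * s⁻¹) * c := by group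
          _ = (c⁻¹ * x * c)⁻¹ := by rw [he]; group
    intro P
    set O := Cfsg.pCore 2 G with hO
    haveI : O.Normal := CfsgLib.LocalEven.SylowIn.pCore_normal G 2
    by_cases hodd : Odd (Nat.card (G ⧸ O))
    · have hle : (P : Subgroup G) ≤ O := fun y hy => by
        obtain ⟨k, hk⟩ := IsPGroup.iff_orderOf.1 P.isPGroup' ⟨y, hy⟩
        rw [Subgroup.orderOf_mk] at hk
        rw [← QuotientGroup.eq_one_iff, ← orderOf_eq_one_iff]
        exact Nat.eq_one_of_dvd_coprimes ((Nat.coprime_two_right.2 hodd).pow_right k) (orderOf_dvd_natCard _)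
          (hk ▸ orderOf_map_dvd (QuotientGroup.mk' O) y)
      rw [le_antisymm hle (CfsgLib.Solvable.Cores.pCore_le_sylow P)]
      infer_instance
    exfalso
    obtain ⟨t, ht⟩ := exists_prime_orderOf_dvd_card' 2 (even_iff_two_dvd.1 (Nat.not_odd_iff_even.1 hodd))
    have htO : ∀ M : Subgroup (G ⧸ O), M.Normal → IsPGroup 2 M → t ∉ M := by
      intro M hM hM2 htM
      haveI := hM
      have hker : IsPGroup 2 (QuotientGroup.mk' O).ker := by
        rw [QuotientGroup.ker_mk']; exact CfsgLib.LocalEven.SylowIn.isPGroup_pCore G 2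
      have h1 : M.comap (QuotientGroup.mk' O) ≤ O :=
        CfsgLib.Solvable.Cores.le_pCore (hM2.comap_of_ker_isPGroup (QuotientGroup.mk' O) hker)
      obtain ⟨y, rfl⟩ := QuotientGroup.mk'_surjective O t
      rw [show QuotientGroup.mk' O y = 1 from (QuotientGroup.eq_one_iff y).2 (h1 htM), orderOf_one] at ht
      exact absurd ht (by norm_num)
    obtain ⟨u, hu1, huodd, hu⟩ := CfsgLib.Involution.BaerSuzuki.exists_inverted_odd t ht htO
    obtain ⟨q, hq, hqu⟩ := Nat.exists_prime_and_dvd (fun e => hu1 (orderOf_eq_one_iff.1 e))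
    haveI := Fact.mk hq
    have hq2 : q ≠ 2 := by rintro rfl; exact Nat.not_even_iff_odd.2 huodd (even_iff_two_dvd.2 hqu)
    have hpow : orderOf (u ^ (orderOf u / q)) = q := orderOf_pow_orderOf_div (orderOf_pos u).ne' hqu
    have h1 := GoodIn.map_top hq2 (QuotientGroup.mk' O) (QuotientGroup.mk'_surjective O) (hgood q hq2)
      t trivial _ trivial ⟨1, by rw [ht, pow_one]⟩ ⟨1, by rw [hpow, pow_one]⟩
      (CfsgLib.Involution.Dihedral.conj_pow hu (orderOf u / q))
    rw [h1, orderOf_one] at hpow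
    exact hq.ne_one hpow.symm
  exact ⟨⟨fun h q _ _ _ T => normal_sub h _, fun h => hca (hbc h)⟩,
    ⟨fun h => hbc fun q _ _ _ T => normal_sub h _, hca⟩⟩

end Cfsg.Agent.S2756
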