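import Cfsg.Statements.S2760
import Cfsg.Agent.Lib.LocalEven.PReduced
import Cfsg.Agent.Lib.LocalEvenB.CharP

set_option autoImplicit false
open Cfsg

namespace Cfsg.Agent.S2760

/-- Let G be a finite group with C_G(O₂(G)) ≤ O₂(G) and H a subgroup of G such that H is normal in G, or the subgroup O²(H) generated by the elements of H of odd order is normal in G. Then C_H(O₂(H)) ≤ O₂(H). -/
theorem result {G : Type*} [Group G] [Finite G] (hchar : Subgroup.centralizer (Cfsg.pCore 2 G : Set G) ≤ Cfsg.pCore 2 G) (H : Subgroup G) (hH : H.Normal ∨ ((Cfsg.pResidual 2 ↥H).map H.subtype).Normal) : Subgroup.centralizer (Cfsg.pCore 2 ↥H : Set ↥H) ≤ Cfsg.pCore 2 ↥H := by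
  rcases hH with h | h
  · exact CfsgLib.LocalEvenB.CharP.charP_of_subnormal hchar h.isSubnormal
  set K := (Cfsg.pResidual 2 ↥H).map H.subtype
  have hKH : K ≤ H := Subgroup.map_subtype_le _
  have hcK := (CfsgLib.LocalEven.SylowIn.charP_iff K).1
    (CfsgLib.LocalEvenB.CharP.charP_of_subnormal hchar h.isSubnormal)
  refine CfsgLib.KGroups.CharP.isPGroup_centralizer_pCore fun d hd hdc => Subtype.ext ?_
  have hdK : (d : G) ∈ K := CfsgLib.Fusion.Basic.mem_map_pResidual_of_coprime d.2 (by simpa using hd)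
  have hdc' : (d : G) ∈ Subgroup.centralizer (Cfsg.pCoreOf 2 K : Set G) := by
    refine Subgroup.mem_centralizer_iff.2 fun r hr => ?_
    obtain ⟨r', hr', hre⟩ := CfsgLib.LocalEven.SylowIn.le_pCoreOf (p := 2) (H := H)
      ((CfsgLib.LocalEven.SylowIn.pCoreOf_le K).trans hKH)
      (CfsgLib.LocalEven.SylowIn.le_normalizer_of_map_conj fun g _ => by
        rw [CfsgLib.LocalEven.SylowIn.pCoreOf_map_conj,
          CfsgLib.LocalEven.SylowIn.map_conj_eq_iff.2 ((Subgroup.normalizer_eq_top (H := K) (h := h)).symm ▸ Subgroup.mem_top g)])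
      (CfsgLib.LocalEven.SylowIn.isPGroup_pCoreOf K) hr
    exact hre ▸ congrArg Subtype.val (Subgroup.mem_centralizer_iff.1 hdc r' hr')
  exact CfsgLib.LocalEven.PReduced.eq_one_of_coprime_of_isPGroup
    (CfsgLib.LocalEven.SylowIn.isPGroup_pCoreOf K) (hcK ⟨hdK, hdc'⟩) (by simpa using hd)

end Cfsg.Agent.S2760
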