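import Cfsg.Statements.S2762
import Cfsg.Agent.Lib.Classical.SL2Sylow
import Cfsg.Agent.Lib.Solvable.Cores
import Mathlib.Algebra.CharP.Lemmas
import Mathlib.Tactic.LinearCombination

set_option autoImplicit false
open Cfsg

namespace Cfsg.Agent.S2762

open Matrix

set_option maxHeartbeats 1000000
open scoped MatrixGroups Pointwise

variable {F : Type*} [Field F]

local notation "Q" => Cfsg.qdOver F
local notation "mat" M => ((M : Matrix.SpecialLinearGroup (Fin 3) F) : Matrix (Fin 3) (Fin 3) F)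

theorem lastRow {M : Matrix.SpecialLinearGroup (Fin 3) F} (h : M ∈ Cfsg.qdOver F) :
    (mat M) 2 0 = 0 ∧ (mat M) 2 1 = 0 ∧ (mat M) 2 2 = 1 := by
  induction h using Subgroup.closure_induction with
  | mem M hM => exact hM
  | one => exact ⟨by simp, by simp, by simp⟩
  | mul A B _ _ hA hB =>
    obtain ⟨a0, a1, a2⟩ := hA
    obtain ⟨b0, b1, b2⟩ := hB
    refine ⟨?_, ?_, ?_⟩ <;>
      simp [Matrix.SpecialLinearGroup.coe_mul, Matrix.mul_apply, Fin.sum_univ_three, a0, a1, a2, b0, b1, b2]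
  | inv A _ hA =>
    obtain ⟨a0, a1, a2⟩ := hA
    set B := ((A⁻¹ : Matrix.SpecialLinearGroup (Fin 3) F) : Matrix (Fin 3) (Fin 3) F)
    have h : (A : Matrix (Fin 3) (Fin 3) F) * B = 1 := by
      rw [← Matrix.SpecialLinearGroup.coe_mul, mul_inv_cancel, Matrix.SpecialLinearGroup.coe_one]
    have h0 := congrFun (congrFun h 2) 0
    have h1 := congrFun (congrFun h 2) 1
    have h2 := congrFun (congrFun h 2) 2
    simp [Matrix.mul_apply, Fin.sum_univ_three, a0, a1, a2] at h0 h1 h2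
    exact ⟨h0, h1, h2⟩

theorem det_block (M : ↥(Cfsg.qdOver F)) :
    (!![(mat M) 0 0, (mat M) 0 1; (mat M) 1 0, (mat M) 1 1] : Matrix (Fin 2) (Fin 2) F).det = 1 := by
  obtain ⟨h0, h1, h2⟩ := lastRow M.2
  have h := (M : Matrix.SpecialLinearGroup (Fin 3) F).2
  rw [Matrix.det_fin_three, h0, h1, h2] at h
  rw [Matrix.det_fin_two_of]
  linear_combination h

/-- The upper left block. -/
def block : ↥(Cfsg.qdOver F) →* SL(2, F) where
  toFun M := ⟨!![(mat M) 0 0, (mat M) 0 1; (mat M) 1 0, (mat M) 1 1], det_block M⟩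
  map_one' := by
    refine Matrix.SpecialLinearGroup.ext _ _ fun i j => ?_
    fin_cases i <;> fin_cases j <;> simp
  map_mul' A B := by
    obtain ⟨b0, b1, b2⟩ := lastRow B.2
    refine Matrix.SpecialLinearGroup.ext _ _ fun i j => ?_
    show (!![(mat (A * B)) 0 0, (mat (A * B)) 0 1; (mat (A * B)) 1 0, (mat (A * B)) 1 1] : Matrix (Fin 2) (Fin 2) F) i j = (!![(mat A) 0 0, (mat A) 0 1; (mat A) 1 0, (mat A) 1 1] * !![(mat B) 0 0, (mat B) 0 1; (mat B) 1 0, (mat B) 1 1] : Matrix (Fin 2) (Fin 2) F) i j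
    fin_cases i <;> fin_cases j <;>
      simp [Matrix.mul_apply, Fin.sum_univ_three, Fin.sum_univ_two, b0, b1]

@[simp] theorem block_coe (M : ↥(Cfsg.qdOver F)) : ((block M : SL(2, F)) : Matrix (Fin 2) (Fin 2) F) =
    !![(mat M) 0 0, (mat M) 0 1; (mat M) 1 0, (mat M) 1 1] := rfl

/-- A member of `qdOver F` with the given block and translation part. -/
def mk (g : SL(2, F)) (a b : F) : ↥(Cfsg.qdOver F) :=
  ⟨⟨!![(g : Matrix (Fin 2) (Fin 2) F) 0 0, (g : Matrix (Fin 2) (Fin 2) F) 0 1, a;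
      (g : Matrix (Fin 2) (Fin 2) F) 1 0, (g : Matrix (Fin 2) (Fin 2) F) 1 1, b; 0, 0, 1], by
      have h := g.2
      rw [Matrix.det_fin_two] at h
      simp [Matrix.det_fin_three]
      linear_combination h⟩,
    Subgroup.subset_closure ⟨by simp, by simp, by simp⟩⟩

@[simp] theorem mk_coe (g : SL(2, F)) (a b : F) : (mat (mk g a b)) =
    !![(g : Matrix (Fin 2) (Fin 2) F) 0 0, (g : Matrix (Fin 2) (Fin 2) F) 0 1, a;
      (g : Matrix (Fin 2) (Fin 2) F) 1 0, (g : Matrix (Fin 2) (Fin 2) F) 1 1, b; 0, 0, 1] := rfl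

theorem block_mk (g : SL(2, F)) (a b : F) : block (mk g a b) = g := by
  refine Matrix.SpecialLinearGroup.ext _ _ fun i j => ?_
  fin_cases i <;> fin_cases j <;> simp

theorem mem_ker_iff (M : ↥(Cfsg.qdOver F)) :
    M ∈ (block (F := F)).ker ↔ (mat M) 0 0 = 1 ∧ (mat M) 0 1 = 0 ∧ (mat M) 1 0 = 0 ∧ (mat M) 1 1 = 1 := by
  constructor
  · intro h
    have h' : ∀ i j, ((block M : SL(2, F)) : Matrix (Fin 2) (Fin 2) F) i j = (1 : Matrix (Fin 2) (Fin 2) F) i j := fun i j => by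
      rw [MonoidHom.mem_ker.1 h]; rfl
    exact ⟨by simpa using h' 0 0, by simpa using h' 0 1, by simpa using h' 1 0,
      by simpa using h' 1 1⟩
  · rintro ⟨h1, h2, h3, h4⟩
    refine MonoidHom.mem_ker.2 (Matrix.SpecialLinearGroup.ext _ _ fun i j => ?_)
    fin_cases i <;> fin_cases j <;> simp [h1, h2, h3, h4]

theorem qd_ext {A B : ↥(Cfsg.qdOver F)} (h : block A = block B) (h1 : (mat A) 0 2 = (mat B) 0 2)
    (h2 : (mat A) 1 2 = (mat B) 1 2) : A = B := by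
  obtain ⟨a0, a1, a2⟩ := lastRow A.2
  obtain ⟨b0, b1, b2⟩ := lastRow B.2
  have e := congrArg (fun g : SL(2, F) => (g : Matrix (Fin 2) (Fin 2) F)) h
  have e00 := congrFun (congrFun e 0) 0
  have e01 := congrFun (congrFun e 0) 1
  have e10 := congrFun (congrFun e 1) 0
  have e11 := congrFun (congrFun e 1) 1
  simp at e00 e01 e10 e11
  refine Subtype.ext (Matrix.SpecialLinearGroup.ext _ _ fun i j => ?_)
  fin_cases i <;> fin_cases j <;> simp_all

theorem pCore_eq_ker [Fintype F] {p : ℕ} [Fact p.Prime] [CharP F p] :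
    Cfsg.pCore p ↥(Cfsg.qdOver F) = (block (F := F)).ker := by
  classical
  haveI : Finite ↥(Cfsg.qdOver F) := inferInstance
  refine le_antisymm ?_ (CfsgLib.Solvable.Cores.le_pCore ?_)
  · intro M hM
    have hsurj : Function.Surjective (block (F := F)) := fun g => ⟨mk g 0 0, block_mk g 0 0⟩
    haveI : ((Cfsg.pCore p ↥(Cfsg.qdOver F)).map (block (F := F))).Normal :=
      Subgroup.Normal.map inferInstance _ hsurj
    have hp : IsPGroup p ↥((Cfsg.pCore p ↥(Cfsg.qdOver F)).map (block (F := F))) :=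
      (CfsgLib.Solvable.Cores.isPGroup_pCore p).map _
    have h1 := hp.le_sylow_of_normal (CfsgLib.Classical.unipSLSylow (F := F) p) ⟨M, hM, rfl⟩
    let w : SL(2, F) := ⟨!![0, 1; -1, 0], by simp [Matrix.det_fin_two]⟩
    have h2 := hp.le_sylow_of_normal ((w • CfsgLib.Classical.unipSLSylow (F := F) p)) ⟨M, hM, rfl⟩
    rw [MonoidHom.mem_ker]
    obtain ⟨a, ha⟩ := h1
    obtain ⟨x, ⟨b, hb⟩, hbx⟩ := h2
    have e1 : (block M : Matrix (Fin 2) (Fin 2) F) = !![1, a.toAdd; 0, 1] := by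
      rw [← ha, ← CfsgLib.Classical.uSL_coe, ofAdd_toAdd]
    have e2 : (block M * w : SL(2, F)) = w * x := by
      rw [← hbx]
      show w * x * w⁻¹ * w = w * x
      group
    have e3 : (x : Matrix (Fin 2) (Fin 2) F) = !![1, b.toAdd; 0, 1] := by
      rw [← hb, ← CfsgLib.Classical.uSL_coe, ofAdd_toAdd]
    have e4 := congrArg (fun g : SL(2, F) => (g : Matrix (Fin 2) (Fin 2) F)) e2
    simp only [Matrix.SpecialLinearGroup.coe_mul, e1, e3] at e4
    have e5 := congrFun (congrFun e4 0) 0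
    simp [w, Matrix.mul_apply, Fin.sum_univ_two] at e5
    refine Matrix.SpecialLinearGroup.ext _ _ fun i j => ?_
    rw [e1]
    fin_cases i <;> fin_cases j <;> simp [e5]
  · intro M
    refine ⟨1, Subtype.ext ?_⟩
    obtain ⟨h1, h2, h3, h4⟩ := (mem_ker_iff M.1).1 M.2
    obtain ⟨m0, m1, m2⟩ := lastRow M.1.2
    refine qd_ext (MonoidHom.mem_ker.1 (M ^ p ^ 1).2 |>.trans (map_one block).symm) ?_ ?_
    all_goals
      have key : ∀ k : ℕ, (mat ((M.1 ^ k : ↥(Cfsg.qdOver F)))) 0 2 = k * (mat M.1) 0 2 ∧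
          (mat ((M.1 ^ k : ↥(Cfsg.qdOver F)))) 1 2 = k * (mat M.1) 1 2 ∧
          (mat ((M.1 ^ k : ↥(Cfsg.qdOver F)))) 2 2 = 1 := by
        intro k
        induction k with
        | zero => simp
        | succ k ih =>
          obtain ⟨i1, i2, i3⟩ := ih
          obtain ⟨j1, j2, j3, j4⟩ := (mem_ker_iff _).1 ((block (F := F)).ker.pow_mem M.2 k)
          obtain ⟨l0, l1, l2⟩ := lastRow (M.1 ^ k).2
          rw [pow_succ]
          simp only [Subgroup.coe_mul, SubmonoidClass.coe_pow] at i1 i2 i3 j1 j2 j3 j4 l0 l1 l2 ⊢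
          refine ⟨?_, ?_, ?_⟩ <;>
            simp only [Matrix.SpecialLinearGroup.coe_mul, Matrix.mul_apply, Fin.sum_univ_three, i1, i2, l0, l1, l2,
              j1, j2, j3, j4, m2] <;> push_cast <;> ring
      obtain ⟨k1, k2, -⟩ := key (p ^ 1)
      simp only [SubmonoidClass.coe_pow, pow_one, CharP.cast_eq_zero, zero_mul] at k1 k2
      simp [k1, k2]

/-- The block diagonal subgroup. -/
def diagSub : Subgroup ↥(Cfsg.qdOver F) where
  carrier := {M | (mat M) 0 2 = 0 ∧ (mat M) 1 2 = 0}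
  one_mem' := ⟨by simp, by simp⟩
  mul_mem' {A B} hA hB := by
    obtain ⟨b0, b1, b2⟩ := lastRow B.2
    constructor <;>
      simp [Matrix.mul_apply, Fin.sum_univ_three, hA.1, hA.2, hB.1, hB.2]
  inv_mem' {A} hA := by
    have e : A⁻¹ = mk (block A)⁻¹ 0 0 := by
      refine inv_eq_of_mul_eq_one_right (qd_ext ?_ ?_ ?_)
      · rw [map_mul, block_mk, mul_inv_cancel, map_one]
      all_goals simp [Matrix.SpecialLinearGroup.coe_mul, Matrix.mul_apply, Fin.sum_univ_three, hA.1, hA.2]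
    rw [e]
    exact ⟨by simp [mk], by simp [mk]⟩

theorem act_diag (L V : ↥(Cfsg.qdOver F)) (hL : L ∈ diagSub) (hV : V ∈ (block (F := F)).ker) :
    mk 1 ((mat L) 0 0 * (mat V) 0 2 + (mat L) 0 1 * (mat V) 1 2)
      ((mat L) 1 0 * (mat V) 0 2 + (mat L) 1 1 * (mat V) 1 2) = L * V * L⁻¹ := by
  obtain ⟨hl1, hl2⟩ := hL
  obtain ⟨l0, l1, l2⟩ := lastRow L.2
  obtain ⟨m0, m1, m2⟩ := lastRow V.2
  refine eq_mul_inv_iff_mul_eq.2 (qd_ext ?_ ?_ ?_)
  · rw [map_mul, map_mul, block_mk, MonoidHom.mem_ker.1 hV, one_mul, mul_one]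
  all_goals simp [Matrix.SpecialLinearGroup.coe_mul, Matrix.mul_apply, Fin.sum_univ_three, hl1, hl2, l2, m2]

theorem act_coord (L V : ↥(Cfsg.qdOver F)) :
    (![(mat (mk (1 : SL(2, F)) ((mat L) 0 0 * (mat V) 0 2 + (mat L) 0 1 * (mat V) 1 2)
      ((mat L) 1 0 * (mat V) 0 2 + (mat L) 1 1 * (mat V) 1 2))) 0 2,
      (mat (mk (1 : SL(2, F)) ((mat L) 0 0 * (mat V) 0 2 + (mat L) 0 1 * (mat V) 1 2)
      ((mat L) 1 0 * (mat V) 0 2 + (mat L) 1 1 * (mat V) 1 2))) 1 2] : Fin 2 → F)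
      = ((block L : SL(2, F)) : Matrix (Fin 2) (Fin 2) F).mulVec ![(mat V) 0 2, (mat V) 1 2] := by
  ext i
  fin_cases i <;> simp [Matrix.mulVec, dotProduct, Fin.sum_univ_two]

/-- Structure of Qd over a finite field F of characteristic p (the affine subgroup of SL₃(F)): its largest normal p-subgroup is the group of translations (matrices with upper-left block the identity), the block-diagonal matrices form a complement isomorphic to SL₂(F), and the translation subgroup is a natural SL₂(F)-module for that complement. -/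
theorem result {F : Type*} [Field F] [Fintype F] {p : ℕ} [Fact p.Prime] [CharP F p] : (∀ M : ↥(Cfsg.qdOver F), M ∈ Cfsg.pCore p ↥(Cfsg.qdOver F) ↔ ((M : Matrix.SpecialLinearGroup (Fin 3) F) : Matrix (Fin 3) (Fin 3) F) 0 0 = 1 ∧ ((M : Matrix.SpecialLinearGroup (Fin 3) F) : Matrix (Fin 3) (Fin 3) F) 0 1 = 0 ∧ ((M : Matrix.SpecialLinearGroup (Fin 3) F) : Matrix (Fin 3) (Fin 3) F) 1 0 = 0 ∧ ((M : Matrix.SpecialLinearGroup (Fin 3) F) : Matrix (Fin 3) (Fin 3) F) 1 1 = 1) ∧ ∃ K : Subgroup ↥(Cfsg.qdOver F), (∀ M : ↥(Cfsg.qdOver F), M ∈ K ↔ ((M : Matrix.SpecialLinearGroup (Fin 3) F) : Matrix (Fin 3) (Fin 3) F) 0 2 = 0 ∧ ((M : Matrix.SpecialLinearGroup (Fin 3) F) : Matrix (Fin 3) (Fin 3) F) 1 2 = 0) ∧ K ⊓ Cfsg.pCore p ↥(Cfsg.qdOver F) = ⊥ ∧ K ⊔ Cfsg.pCore p ↥(Cfsg.qdOver F) = ⊤ ∧ Nonempty (↥K ≃* Matrix.SpecialLinearGroup (Fin 2) F) ∧ Cfsg.IsNaturalSL2Module F (Cfsg.pCore p ↥(Cfsg.qdOver F)) K := by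
  rw [pCore_eq_ker (p := p)]
  have hinj : ∀ A B : ↥(Cfsg.qdOver F), A ∈ diagSub → B ∈ diagSub → block A = block B → A = B :=
    fun A B hA hB h => qd_ext h (hA.1.trans hB.1.symm) (hA.2.trans hB.2.symm)
  refine ⟨mem_ker_iff, diagSub, fun M => Iff.rfl, ?_, ?_, ?_, ?_⟩
  · exact eq_bot_iff.2 fun M hM => Subgroup.mem_bot.2
      (hinj M 1 (Subgroup.mem_inf.1 hM).1 (one_mem _) ((MonoidHom.mem_ker.1 (Subgroup.mem_inf.1 hM).2).trans (map_one block).symm))
  · refine top_le_iff.1 fun M _ => ?_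
    rw [show M = mk (block M) 0 0 * ((mk (block M) 0 0)⁻¹ * M) by group]
    refine Subgroup.mul_mem_sup ⟨by simp [mk], by simp [mk]⟩ (MonoidHom.mem_ker.2 ?_)
    rw [map_mul, map_inv, block_mk, inv_mul_cancel]
  · exact ⟨MulEquiv.ofBijective (block.comp diagSub.subtype)
      ⟨fun A B h => Subtype.ext (hinj A B A.2 B.2 h), fun g => ⟨⟨mk g 0 0, ⟨by simp [mk], by simp [mk]⟩⟩, block_mk g 0 0⟩⟩⟩
  · refine ⟨(Subgroup.normalizer_eq_top (H := (block (F := F)).ker)).symm ▸ le_top, block.comp diagSub.subtype,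
      { toFun := fun v => ![((((v.toMul : ↥(block (F := F)).ker) : ↥(Cfsg.qdOver F)) : Matrix.SpecialLinearGroup (Fin 3) F) : Matrix (Fin 3) (Fin 3) F) 0 2,
          ((((v.toMul : ↥(block (F := F)).ker) : ↥(Cfsg.qdOver F)) : Matrix.SpecialLinearGroup (Fin 3) F) : Matrix (Fin 3) (Fin 3) F) 1 2]
        invFun := fun x => Additive.ofMul ⟨mk 1 (x 0) (x 1), MonoidHom.mem_ker.2 (block_mk _ _ _)⟩
        left_inv := fun v => Additive.toMul.injective (Subtype.ext (qd_ext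
          ((block_mk _ _ _).trans (MonoidHom.mem_ker.1 v.toMul.2).symm) (by simp [mk]) (by simp [mk])))
        right_inv := fun x => by ext i; fin_cases i <;> simp [mk]
        map_add' := fun v w => by
          obtain ⟨h1, h2, h3, h4⟩ := (mem_ker_iff _).1 v.toMul.2
          obtain ⟨w0, w1, w2⟩ := lastRow w.toMul.1.2
          ext i
          fin_cases i <;> simp [Matrix.mul_apply, Fin.sum_univ_three, h1, h2, h3, h4, w2] <;> ring },
      fun g => ⟨⟨mk g 0 0, ⟨by simp [mk], by simp [mk]⟩⟩, block_mk g 0 0⟩, ?_, ?_⟩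
    · refine le_antisymm (fun A hA => ?_) fun A hA => MonoidHom.mem_ker.2 ?_
      · have e : A = 1 := Subtype.ext (hinj A.1 1 A.2 (one_mem _) ((MonoidHom.mem_ker.1 hA).trans (map_one block).symm))
        rw [e]; exact one_mem _
      · obtain ⟨hA1, hA2⟩ := A.2
        have h1 := Subgroup.mem_centralizer_iff.1 (Subgroup.mem_subgroupOf.1 hA) ((mk (1 : Matrix.SpecialLinearGroup (Fin 2) F) 1 0)) (MonoidHom.mem_ker.2 (block_mk _ _ _))
        have h2 := Subgroup.mem_centralizer_iff.1 (Subgroup.mem_subgroupOf.1 hA) ((mk (1 : Matrix.SpecialLinearGroup (Fin 2) F) 0 1)) (MonoidHom.mem_ker.2 (block_mk _ _ _))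
        obtain ⟨l0, l1, l2⟩ := lastRow A.1.2
        have a00 : ((((mk (1 : Matrix.SpecialLinearGroup (Fin 2) F) 1 0) * A.1 : ↥(Cfsg.qdOver F)) : Matrix.SpecialLinearGroup (Fin 3) F) : Matrix (Fin 3) (Fin 3) F) 0 2 = (((A.1 * (mk (1 : Matrix.SpecialLinearGroup (Fin 2) F) 1 0) : ↥(Cfsg.qdOver F)) : Matrix.SpecialLinearGroup (Fin 3) F) : Matrix (Fin 3) (Fin 3) F) 0 2 := by rw [h1]
        have a10 : ((((mk (1 : Matrix.SpecialLinearGroup (Fin 2) F) 1 0) * A.1 : ↥(Cfsg.qdOver F)) : Matrix.SpecialLinearGroup (Fin 3) F) : Matrix (Fin 3) (Fin 3) F) 1 2 = (((A.1 * (mk (1 : Matrix.SpecialLinearGroup (Fin 2) F) 1 0) : ↥(Cfsg.qdOver F)) : Matrix.SpecialLinearGroup (Fin 3) F) : Matrix (Fin 3) (Fin 3) F) 1 2 := by rw [h1]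
        have a01 : ((((mk (1 : Matrix.SpecialLinearGroup (Fin 2) F) 0 1) * A.1 : ↥(Cfsg.qdOver F)) : Matrix.SpecialLinearGroup (Fin 3) F) : Matrix (Fin 3) (Fin 3) F) 0 2 = (((A.1 * (mk (1 : Matrix.SpecialLinearGroup (Fin 2) F) 0 1) : ↥(Cfsg.qdOver F)) : Matrix.SpecialLinearGroup (Fin 3) F) : Matrix (Fin 3) (Fin 3) F) 0 2 := by rw [h2]
        have a11 : ((((mk (1 : Matrix.SpecialLinearGroup (Fin 2) F) 0 1) * A.1 : ↥(Cfsg.qdOver F)) : Matrix.SpecialLinearGroup (Fin 3) F) : Matrix (Fin 3) (Fin 3) F) 1 2 = (((A.1 * (mk (1 : Matrix.SpecialLinearGroup (Fin 2) F) 0 1) : ↥(Cfsg.qdOver F)) : Matrix.SpecialLinearGroup (Fin 3) F) : Matrix (Fin 3) (Fin 3) F) 1 2 := by rw [h2]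
        simp [Matrix.SpecialLinearGroup.coe_mul, Matrix.mul_apply, Fin.sum_univ_three, hA1, hA2, l2] at a00 a10 a01 a11
        refine Matrix.SpecialLinearGroup.ext _ _ fun i j => ?_
        fin_cases i <;> fin_cases j <;> simp [← a00, ← a10, ← a01, ← a11]
    · intro l v
      exact ⟨⟨_, MonoidHom.mem_ker.2 (block_mk 1 _ _)⟩, act_diag l.1 v.1 l.2 v.2, act_coord l.1 v.1⟩


end Cfsg.Agent.S2762
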