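import Cfsg.Statements.S2763
import Cfsg.Agent.Lib.LocalEvenB.OrderPCubed
import Cfsg.Agent.Lib.Components.GenFitting

set_option autoImplicit false
open Cfsg

namespace Cfsg.Agent.S2763

open CfsgLib.LocalEvenB.OrderPCubed CfsgLib.Components.QdRankTwo

variable {p : ℕ} [Fact p.Prime]

/-- The entries of a matrix in `SL₃`. -/
abbrev ent (M : SL3 p) (i j : Fin 3) : ZMod p := (M : Matrix (Fin 3) (Fin 3) (ZMod p)) i j

theorem ent_uni (a b c : ZMod p) : ent (tV a b * tX c) 0 2 = a ∧ ent (tV a b * tX c) 1 2 = b ∧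
    ent (tV a b * tX c) 0 1 = c ∧ ent (tV a b * tX c) 0 0 = 1 ∧ ent (tV a b * tX c) 1 1 = 1 ∧
    ent (tV a b * tX c) 1 0 = 0 := by
  simp [ent, Matrix.SpecialLinearGroup.coe_mul, Matrix.mul_apply, Fin.sum_univ_three]

theorem eq_of_mem_uni {M : SL3 p} (h : M ∈ uni p) : M = tV (ent M 0 2) (ent M 1 2) * tX (ent M 0 1) := by
  obtain ⟨a, b, c, rfl⟩ := h
  obtain ⟨h1, h2, h3, -⟩ := ent_uni a b c
  rw [h1, h2, h3]

theorem mem_uni_iff {M : SL3 p} :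
    M ∈ uni p ↔ M ∈ affine p ∧ ent M 0 0 = 1 ∧ ent M 1 1 = 1 ∧ ent M 1 0 = 0 := by
  constructor
  · intro h
    refine ⟨qd_le_affine (uni_le_qd h), ?_⟩
    obtain ⟨a, b, c, rfl⟩ := h
    exact (ent_uni a b c).2.2.2
  · rintro ⟨h, h0, h1, h10⟩
    refine ⟨ent M 0 2, ent M 1 2, ent M 0 1, Subtype.ext ?_⟩
    have e0 := h 0
    have e1 := h 1
    have e2 := h 2
    ext i j
    fin_cases i <;> fin_cases j <;>
      simp_all [ent, Matrix.SpecialLinearGroup.coe_mul, Matrix.mul_apply, Fin.sum_univ_three]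

theorem ent_mul {g u : SL3 p} (hu : u ∈ affine p) (i : Fin 3) :
    ent (g * u) i 0 = ent g i 0 * ent u 0 0 + ent g i 1 * ent u 1 0 ∧
    ent (g * u) i 1 = ent g i 0 * ent u 0 1 + ent g i 1 * ent u 1 1 ∧
    ent (g * u) i 2 = ent g i 0 * ent u 0 2 + ent g i 1 * ent u 1 2 + ent g i 2 := by
  have e0 := hu 0
  have e1 := hu 1
  have e2 := hu 2
  simp [ent, Matrix.SpecialLinearGroup.coe_mul, Matrix.mul_apply, Fin.sum_univ_three] at e0 e1 e2 ⊢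
  simp [e0, e1, e2]

theorem conj_mem_uni {g u : SL3 p} (hg : g ∈ affine p) (hg0 : ent g 1 0 = 0) (hu : u ∈ uni p) :
    g * u * g⁻¹ ∈ uni p := by
  obtain ⟨hua, u0, u1, u10⟩ := mem_uni_iff.1 hu
  have hn : g * u * g⁻¹ ∈ affine p := mul_mem (mul_mem hg hua) (inv_mem hg)
  set n := g * u * g⁻¹
  have hne : n * g = g * u := inv_mul_cancel_right _ _
  obtain ⟨a0, a1, -⟩ := ent_mul (g := g) hua 0
  obtain ⟨c0, c1, -⟩ := ent_mul (g := g) hua 1
  obtain ⟨b0, b1, -⟩ := ent_mul (g := n) hg 0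
  obtain ⟨d0, d1, -⟩ := ent_mul (g := n) hg 1
  rw [hne] at b0 b1 d0 d1
  rw [u0, u10] at a0 c0
  rw [hg0] at c0
  rw [hg0] at b0 c1 d0
  simp only [mul_zero, add_zero, mul_one, zero_mul, u1, zero_add] at a0 c0 b0 c1 d0
  have hd : ent g 0 0 * ent g 1 1 = 1 := by
    have hdet : Matrix.det (g : Matrix (Fin 3) (Fin 3) (ZMod p)) = 1 := Matrix.SpecialLinearGroup.det_coe g
    have e0 := hg 0
    have e1 := hg 1
    have e2 := hg 2
    rw [Matrix.det_fin_three, e0, e1, e2] at hdet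
    simp only [ent] at hg0 ⊢
    simp [hg0] at hdet
    exact hdet
  have hg00 : ent g 0 0 ≠ 0 := fun h => by simp [h] at hd
  have hg11 : ent g 1 1 ≠ 0 := fun h => by simp [h] at hd
  have n10 : ent n 1 0 = 0 := (mul_eq_zero.1 (d0.symm.trans c0)).resolve_right hg00
  refine mem_uni_iff.2 ⟨hn, ?_, ?_, n10⟩
  · exact (mul_eq_right₀ hg00).1 (b0.symm.trans a0)
  · rw [n10, zero_mul, zero_add] at d1
    exact (mul_eq_right₀ hg11).1 (d1.symm.trans c1)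

/-- The automorphism of the unitriangular group exchanging its two abelian maximal subgroups. -/
def swapAut (p : ℕ) [Fact p.Prime] : ↥(uni p) ≃* ↥(uni p) where
  toFun u := ⟨tV (ent u 1 2 * ent u 0 1 - ent u 0 2) (ent u 0 1) * tX (ent u 1 2), _, _, _, rfl⟩
  invFun u := ⟨tV (ent u 1 2 * ent u 0 1 - ent u 0 2) (ent u 0 1) * tX (ent u 1 2), _, _, _, rfl⟩
  left_inv u := by
    apply Subtype.ext
    obtain ⟨h1, h2, h3, -⟩ := ent_uni (ent u.1 1 2 * ent u.1 0 1 - ent u.1 0 2) (ent u.1 0 1) (ent u.1 1 2)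
    simp only [h1, h2, h3]
    conv_rhs => rw [eq_of_mem_uni u.2]
    congr 2
    ring
  right_inv u := by
    apply Subtype.ext
    obtain ⟨h1, h2, h3, -⟩ := ent_uni (ent u.1 1 2 * ent u.1 0 1 - ent u.1 0 2) (ent u.1 0 1) (ent u.1 1 2)
    simp only [h1, h2, h3]
    conv_rhs => rw [eq_of_mem_uni u.2]
    congr 2
    ring
  map_mul' u v := by
    obtain ⟨hv, v0, v1, v10⟩ := mem_uni_iff.1 v.2
    obtain ⟨hu, u0, u1, u10⟩ := mem_uni_iff.1 u.2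
    obtain ⟨-, q1, q2⟩ := ent_mul (g := u.1) hv 0
    obtain ⟨-, -, r2⟩ := ent_mul (g := u.1) hv 1
    apply Subtype.ext
    show tV (ent (u.1 * v.1) 1 2 * ent (u.1 * v.1) 0 1 - ent (u.1 * v.1) 0 2) (ent (u.1 * v.1) 0 1) * tX (ent (u.1 * v.1) 1 2) = _
    rw [q1, q2, r2, u0, u1, u10, v1]
    apply Subtype.ext
    ext i j
    fin_cases i <;> fin_cases j <;>
      simp [ent, Matrix.SpecialLinearGroup.coe_mul, Matrix.mul_apply, Fin.sum_univ_three] <;> ring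

theorem ent_ten_eq_zero {T : Subgroup (SL3 p)} (hTU : T ≤ uni p) (hT : T ≠ ⊥)
    (hσ : ∀ t (ht : t ∈ uni p), t ∈ T → (swapAut p ⟨t, ht⟩ : SL3 p) ∈ T) {g : SL3 p} (hg : g ∈ affine p)
    (hgT : g ∈ Subgroup.normalizer (T : Set (SL3 p))) : ent g 1 0 = 0 := by
  obtain ⟨t, htT, ht1⟩ : ∃ t ∈ T, t ≠ 1 := by
    by_contra h
    exact hT ((Subgroup.eq_bot_iff_forall _).2 fun t ht => by by_contra h'; exact h ⟨t, ht, h'⟩)
  have key : ∀ t ∈ T, g * t * g⁻¹ ∈ T ∧ g * t * g⁻¹ * g = g * t := fun t ht =>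
    ⟨(Subgroup.mem_normalizer_iff.1 hgT t).1 ht, inv_mul_cancel_right _ _⟩
  by_contra hg0
  -- all elements of `T` are translations
  have hc : ∀ t ∈ T, ent t 0 1 = 0 := by
    intro t ht
    obtain ⟨htu, t0, t1, t10⟩ := mem_uni_iff.1 (hTU ht)
    obtain ⟨hn, he⟩ := key t ht
    obtain ⟨-, n0, n1, n10⟩ := mem_uni_iff.1 (hTU hn)
    obtain ⟨-, c1, -⟩ := ent_mul (g := g) htu 1
    obtain ⟨-, d1, -⟩ := ent_mul (g := g * t * g⁻¹) hg 1
    rw [he, n10, n1, c1, t1] at d1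
    simp only [zero_mul, zero_add, mul_one, one_mul, add_eq_right, mul_eq_zero] at d1
    exact d1.resolve_left hg0
  have hb : ∀ t ∈ T, ent t 1 2 = 0 := by
    intro t ht
    have h := hc _ (hσ t (hTU ht) ht)
    exact (ent_uni _ _ _).2.2.1.symm.trans h
  obtain ⟨htu, t0, t1, t10⟩ := mem_uni_iff.1 (hTU htT)
  obtain ⟨hn, he⟩ := key t htT
  obtain ⟨-, n0, n1, n10⟩ := mem_uni_iff.1 (hTU hn)
  obtain ⟨-, -, c2⟩ := ent_mul (g := g) htu 1
  obtain ⟨-, -, d2⟩ := ent_mul (g := g * t * g⁻¹) hg 1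
  rw [he, n10, n1, c2, hb t htT, hb _ hn] at d2
  simp only [zero_mul, zero_add, mul_zero, add_zero, one_mul, add_eq_right, mul_eq_zero] at d2
  refine ht1 ?_
  rw [eq_of_mem_uni (hTU htT), hc t htT, hb t htT, d2.resolve_left hg0, tV_zero, tX_zero, one_mul]

/-- In the group Qd(p) (p prime; the natural semidirect product of an elementary abelian group of order p² by SL₂(p)), the normalizer of every nontrivial characteristic subgroup of a Sylow p-subgroup S equals the normalizer of S, which is a proper subgroup; in particular no such characteristic subgroup is normal. -/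
theorem result {p : ℕ} [Fact p.Prime] (S : Sylow p ↥(Cfsg.qd p)) (T : Subgroup ↥(S : Subgroup ↥(Cfsg.qd p))) (hT : T ≠ ⊥) (hTc : T.Characteristic) : Subgroup.normalizer ((T.map (S : Subgroup ↥(Cfsg.qd p)).subtype : Subgroup ↥(Cfsg.qd p)) : Set ↥(Cfsg.qd p)) = Subgroup.normalizer ((S : Subgroup ↥(Cfsg.qd p)) : Set ↥(Cfsg.qd p)) ∧ Subgroup.normalizer ((S : Subgroup ↥(Cfsg.qd p)) : Set ↥(Cfsg.qd p)) ≠ ⊤ := by
  classical
  set U : Subgroup ↥(Cfsg.qd p) := (uni p).subgroupOf (Cfsg.qd p)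
  let eU : U ≃* uni p := Subgroup.subgroupOfEquivOfLe uni_le_qd
  have hUc : Nat.card U = p ^ 3 := by rw [Nat.card_congr eU.toEquiv]; exact uni_card
  obtain ⟨Q, hQ⟩ := (IsPGroup.of_card hUc).exists_le_sylow
  have hQU : U = (Q : Subgroup ↥(Cfsg.qd p)) := by
    refine Subgroup.eq_of_le_of_card_ge hQ ?_
    obtain ⟨k, hk⟩ := IsPGroup.iff_card.1 Q.2
    have h2 : k < 4 := by
      by_contra h4
      exact card_qd_not_dvd (p := p) ((pow_dvd_pow p (not_lt.1 h4)).trans (hk ▸ Subgroup.card_subgroup_dvd_card _))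
    rw [hk, hUc]
    exact Nat.pow_le_pow_right (Fact.out : p.Prime).pos (by omega)
  obtain ⟨h, hh⟩ := MulAction.exists_smul_eq ↥(Cfsg.qd p) Q S
  have hS : (S : Subgroup ↥(Cfsg.qd p)) = U.map (MulAut.conj h).toMonoidHom := by rw [hQU, ← hh]; rfl
  have hmemS : ∀ u : uni p, h * ⟨u, uni_le_qd u.2⟩ * h⁻¹ ∈ (S : Subgroup ↥(Cfsg.qd p)) := fun u => by
    rw [hS]; exact ⟨⟨u, uni_le_qd u.2⟩, u.2, rfl⟩
  have hSmem : ∀ s ∈ (S : Subgroup ↥(Cfsg.qd p)), ((h⁻¹ * s * h : ↥(Cfsg.qd p)) : SL3 p) ∈ uni p := by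
    intro s hs
    rw [hS] at hs
    obtain ⟨u, hu, rfl⟩ := hs
    show ((h⁻¹ * (h * u * h⁻¹) * h : ↥(Cfsg.qd p)) : SL3 p) ∈ uni p
    rw [show h⁻¹ * (h * u * h⁻¹) * h = u by group]
    exact hu
  let e : uni p ≃* (S : Subgroup ↥(Cfsg.qd p)) :=
    { toFun := fun u => ⟨_, hmemS u⟩
      invFun := fun s => ⟨_, hSmem s s.2⟩
      left_inv := fun u => Subtype.ext (by
        show ((h⁻¹ * (h * ⟨(u : SL3 p), uni_le_qd u.2⟩ * h⁻¹) * h : ↥(Cfsg.qd p)) : SL3 p) = u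
        rw [show h⁻¹ * (h * ⟨(u : SL3 p), uni_le_qd u.2⟩ * h⁻¹) * h = (⟨(u : SL3 p), uni_le_qd u.2⟩ : ↥(Cfsg.qd p)) by group])
      right_inv := fun s => Subtype.ext (by
        show h * (h⁻¹ * (s : ↥(Cfsg.qd p)) * h) * h⁻¹ = (s : ↥(Cfsg.qd p))
        group)
      map_mul' := fun u v => Subtype.ext (by
        show h * ⟨((u * v : uni p) : SL3 p), _⟩ * h⁻¹ = (h * ⟨(u : SL3 p), _⟩ * h⁻¹) * (h * ⟨(v : SL3 p), _⟩ * h⁻¹)
        rw [show (⟨((u * v : uni p) : SL3 p), uni_le_qd (u * v).2⟩ : ↥(Cfsg.qd p)) = ⟨(u : SL3 p), uni_le_qd u.2⟩ * ⟨(v : SL3 p), uni_le_qd v.2⟩ from rfl]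
        group) }
  set T₀ : Subgroup (SL3 p) := (T.comap e.toMonoidHom).map (uni p).subtype
  have hT₀U : T₀ ≤ uni p := Subgroup.map_subtype_le _
  have hT₀ : T₀ ≠ ⊥ := by
    intro hb
    rw [Subgroup.map_eq_bot_iff_of_injective _ (uni p).subtype_injective] at hb
    refine hT ((Subgroup.eq_bot_iff_forall _).2 fun s hs => ?_)
    have hs' : e.symm s ∈ T.comap e.toMonoidHom := by simpa using hs
    rw [hb, Subgroup.mem_bot] at hs'
    simpa using congrArg e hs'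
  have hσ : ∀ t (ht : t ∈ uni p), t ∈ T₀ → (swapAut p ⟨t, ht⟩ : SL3 p) ∈ T₀ := by
    rintro t ht ⟨u, hu, rfl⟩
    refine ⟨swapAut p u, ?_, rfl⟩
    have hc := (Subgroup.characteristic_iff_comap_eq.1 hTc) ((e.symm.trans (swapAut p)).trans e)
    have h1 : e u ∈ T.comap ((e.symm.trans (swapAut p)).trans e).toMonoidHom := by rw [hc]; exact hu
    simpa using h1
  have key : ∀ g ∈ Subgroup.normalizer ((T.map (S : Subgroup ↥(Cfsg.qd p)).subtype : Subgroup ↥(Cfsg.qd p)) : Set ↥(Cfsg.qd p)),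
      g ∈ Subgroup.normalizer ((S : Subgroup ↥(Cfsg.qd p)) : Set ↥(Cfsg.qd p)) := by
    intro g hg
    set g' : ↥(Cfsg.qd p) := h⁻¹ * g * h
    have hg' : (g' : SL3 p) ∈ affine p := qd_le_affine g'.2
    have hn : (g' : SL3 p) ∈ Subgroup.normalizer (T₀ : Set (SL3 p)) := by
      refine Subgroup.mem_normalizer_fintype (fun t ht => ?_)
      obtain ⟨u, hu, rfl⟩ := ht
      have h1 : g * (e u : ↥(Cfsg.qd p)) * g⁻¹ ∈ T.map (S : Subgroup ↥(Cfsg.qd p)).subtype :=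
        (Subgroup.mem_normalizer_iff.1 hg _).1 ⟨e u, hu, rfl⟩
      obtain ⟨s, hs, hse⟩ := h1
      refine ⟨e.symm s, by simpa using hs, ?_⟩
      have hse' : (s : ↥(Cfsg.qd p)) = g * (h * ⟨(u : SL3 p), uni_le_qd u.2⟩ * h⁻¹) * g⁻¹ := hse
      show ((h⁻¹ * (s : ↥(Cfsg.qd p)) * h : ↥(Cfsg.qd p)) : SL3 p) = _
      rw [hse', show h⁻¹ * (g * (h * ⟨(u : SL3 p), uni_le_qd u.2⟩ * h⁻¹) * g⁻¹) * h =
        g' * ⟨(u : SL3 p), uni_le_qd u.2⟩ * g'⁻¹ by simp only [g']; group]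
      rfl
    have h10 := ent_ten_eq_zero hT₀U hT₀ hσ hg' hn
    refine Subgroup.mem_normalizer_fintype (fun s hs => ?_)
    have h1 := conj_mem_uni hg' h10 (hSmem s hs)
    have h2 := hmemS ⟨_, h1⟩
    rw [show (⟨(g' : SL3 p) * ((h⁻¹ * s * h : ↥(Cfsg.qd p)) : SL3 p) * (g' : SL3 p)⁻¹, uni_le_qd h1⟩ : ↥(Cfsg.qd p)) =
      g' * (h⁻¹ * s * h) * g'⁻¹ from Subtype.ext rfl] at h2
    rwa [show h * (g' * (h⁻¹ * s * h) * g'⁻¹) * h⁻¹ = g * s * g⁻¹ by simp only [g']; group] at h2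
  refine ⟨le_antisymm key fun g hg => CfsgLib.Components.map_subtype_normal_of_characteristic hg, fun htop => ?_⟩
  set y : ↥(Cfsg.qd p) := ⟨tY 1, tY_mem 1⟩
  have hy : h * y * h⁻¹ ∈ Subgroup.normalizer ((S : Subgroup ↥(Cfsg.qd p)) : Set ↥(Cfsg.qd p)) := by rw [htop]; exact Subgroup.mem_top _
  have h1 := (Subgroup.mem_normalizer_iff.1 hy _).1 (hmemS ⟨tX 1, 0, 0, 1, by rw [tV_zero, one_mul]⟩)
  have h2 := hSmem _ h1
  rw [show h⁻¹ * (h * y * h⁻¹ * (h * ⟨tX 1, _⟩ * h⁻¹) * (h * y * h⁻¹)⁻¹) * h = y * ⟨tX 1, tX_mem 1⟩ * y⁻¹ by group] at h2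
  obtain ⟨-, h00, -, -⟩ := mem_uni_iff.1 h2
  have hinv : (tY 1 : SL3 p)⁻¹ = tY (-1) := inv_eq_of_mul_eq_one_right (by rw [tY_mul, add_neg_cancel, tY_zero])
  have h00' : ent (tY 1 * tX 1 * tY (-1) : SL3 p) 0 0 = 1 := by rw [← hinv]; exact h00
  simp only [ent, Matrix.SpecialLinearGroup.coe_mul, tX_coe] at h00'
  simp [tY, Matrix.mul_apply, Fin.sum_univ_three] at h00'

end Cfsg.Agent.S2763
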