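import Cfsg.Statements.S2766
import Cfsg.Agent.Lib.PushingUpRankOne.Split
-- import your own Cfsg.Agent.* helpers here

set_option autoImplicit false
open Cfsg

namespace Cfsg.Agent.S2766

/-- Let p ≥ 5 be prime and G a maximal p-local subgroup of a finite group H (G is the normalizer of a nontrivial p-subgroup and lies in no other such normalizer). Suppose C_G(O_p(G)) ≤ O_p(G), G/K ≅ PSL₂(p^n) for some normal K and n ≥ 1, a Sylow p-subgroup S of G lies in exactly one maximal subgroup of G, and N_H(S) is not contained in G. Then G = G₀ × E for subgroups G₀ ≅ Qd(p^n) (the natural semidirect product of the plane over the field with p^n elements by SL₂) and E an elementary abelian p-group. -/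
theorem result {H : Type*} [Group H] [Finite H] {p : ℕ} [Fact p.Prime] (hp : 5 ≤ p) (G : Subgroup H) (hloc : ∃ R : Subgroup H, IsPGroup p ↥R ∧ R ≠ ⊥ ∧ G = Subgroup.normalizer (R : Set H)) (hmax : ∀ R : Subgroup H, IsPGroup p ↥R → R ≠ ⊥ → G ≤ Subgroup.normalizer (R : Set H) → Subgroup.normalizer (R : Set H) = G) (S : Sylow p ↥G) (hE₁ : Subgroup.centralizer (Cfsg.pCore p ↥G : Set ↥G) ≤ Cfsg.pCore p ↥G) (hE₂ : ∃! M : Subgroup ↥G, IsCoatom M ∧ (S : Subgroup ↥G) ≤ M) (K : Subgroup ↥G) [K.Normal] (F : Type) [Field F] [Fintype F] (n : ℕ) (hn : 1 ≤ n) (hF : Fintype.card F = p ^ n) (hE₃ : Nonempty (↥G ⧸ K ≃* Matrix.ProjectiveSpecialLinearGroup (Fin 2) F)) (hN : ¬ Subgroup.normalizer (((S : Subgroup ↥G).map G.subtype : Subgroup H) : Set H) ≤ G) : ∃ G₀ E : Subgroup H, Cfsg.IsInternalDirectProduct G₀ E G ∧ Cfsg.IsElementaryAbelian p E ∧ Nonempty (↥G₀ ≃* ↥(Cfsg.qdOver F)) := by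
  obtain ⟨σ, hσS, hσ⟩ := SetLike.not_le_iff_exists.1 hN
  have hd : ∀ T : Subgroup ↥(S : Subgroup ↥G), T ≠ ⊥ → T.Characteristic →
      ¬ (T.map (S : Subgroup ↥G).subtype).Normal := by
    intro T hT hchar hn
    set R := (T.map (S : Subgroup ↥G).subtype).map G.subtype
    have hR : G ≤ Subgroup.normalizer (R : Set H) := fun g hg => by
      refine Subgroup.mem_normalizer_iff.2 fun x => ⟨?_, ?_⟩
      · rintro ⟨t, ht, rfl⟩
        exact ⟨⟨g, hg⟩ * t * ⟨g, hg⟩⁻¹, hn.conj_mem t ht _, rfl⟩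
      · rintro ⟨t, ht, he⟩
        refine ⟨⟨g, hg⟩⁻¹ * t * ⟨g, hg⟩⁻¹⁻¹, hn.conj_mem t ht _, ?_⟩
        replace he : (t : H) = g * x * g⁻¹ := he
        show g⁻¹ * (t : H) * g⁻¹⁻¹ = x
        rw [he]; group
    have hne : R ≠ ⊥ := by
      intro h0
      rw [Subgroup.map_eq_bot_iff_of_injective _ G.subtype_injective,
        Subgroup.map_eq_bot_iff_of_injective _ (S : Subgroup ↥G).subtype_injective] at h0
      exact hT h0
    have e := hmax R (((S.isPGroup'.to_subgroup T).map _).map _) hne hR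
    refine hσ (e.le ?_)
    -- the element normalises every characteristic subgroup
    have hc : ∀ {s : ↥(S : Subgroup ↥G)}, ∃ t : ↥(S : Subgroup ↥G), ((t : ↥G) : H) = σ * ((s : ↥G) : H) * σ⁻¹ := fun {s} => by
      obtain ⟨t, ht, hte⟩ := (Subgroup.mem_normalizer_iff.1 hσS _).1 ⟨(s : ↥G), s.2, rfl⟩
      exact ⟨⟨t, ht⟩, hte⟩
    choose f hf using @hc
    let α : ↥(S : Subgroup ↥G) →* ↥(S : Subgroup ↥G) := MonoidHom.mk' (fun s => @f s) fun a b =>
      Subtype.ext (Subtype.ext (by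
        rw [hf, Subgroup.coe_mul, Subgroup.coe_mul, Subgroup.coe_mul, Subgroup.coe_mul, hf, hf]; group))
    have hα : Function.Bijective α := by
      refine ⟨fun a b h => Subtype.ext (Subtype.ext ?_), ?_⟩
      · have := congrArg (fun t : ↥(S : Subgroup ↥G) => ((t : ↥G) : H)) h
        simp only [α, MonoidHom.mk'_apply, hf] at this
        simpa using this
      · refine Finite.surjective_of_injective fun a b h => Subtype.ext (Subtype.ext ?_)
        have := congrArg (fun t : ↥(S : Subgroup ↥G) => ((t : ↥G) : H)) h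
        simp only [α, MonoidHom.mk'_apply, hf] at this
        simpa using this
    have hT' := (Subgroup.characteristic_iff_map_eq.1 hchar) (MulEquiv.ofBijective α hα)
    refine Subgroup.mem_normalizer_iff_map_conj_eq.2 (Subgroup.eq_of_le_of_card_ge ?_
      (le_of_eq (Subgroup.card_map_of_injective (MulAut.conj σ).injective).symm))
    rintro _ ⟨_, ⟨_, ⟨t, ht, rfl⟩, rfl⟩, rfl⟩
    exact ⟨(α t : ↥G), ⟨α t, hT'.le ⟨t, ht, rfl⟩, rfl⟩, hf⟩
  obtain ⟨M, φ, X⟩ := CfsgLib.PushingUpRankOne.exists_ctx S hE₁ hE₂ K F n hn hF hE₃ hd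
  exact CfsgLib.PushingUpRankOne.maximal_local hp X hmax hσS hσ

end Cfsg.Agent.S2766
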