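import Cfsg.Statements.S2772
import Cfsg.Agent.Lib.LocalEven.AmalgamS4.Main
import Cfsg.Agent.Lib.LocalEven.Parabolic
import Mathlib.GroupTheory.SpecificGroups.Dihedral

set_option autoImplicit false
open Cfsg

namespace Cfsg.Agent.S2772

/-- Sims' Theorem in local form: let H be a finite non-abelian simple group and G a maximal subgroup of H with C_G(O₂(G)) ≤ O₂(G), such that N_H(S) is not contained in G for a Sylow 2-subgroup S of G and G/O₂(G) is dihedral of order 2q for a prime q. Then G is isomorphic to the symmetric group of degree 4 or to its direct product with a group of order 2. -/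
theorem result {H : Type*} [Group H] [Finite H] [IsSimpleGroup H] (hna : ¬ IsMulCommutative H) (G : Subgroup H) (hG : IsCoatom G) (hchar : Subgroup.centralizer (Cfsg.pCore 2 ↥G : Set ↥G) ≤ Cfsg.pCore 2 ↥G) (S : Sylow 2 ↥G) (hN : ¬ Subgroup.normalizer (((S : Subgroup ↥G).map G.subtype : Subgroup H) : Set H) ≤ G) (q : ℕ) (hq : q.Prime) (hD : Nonempty (↥G ⧸ Cfsg.pCore 2 ↥G ≃* DihedralGroup q)) : Nonempty (↥G ≃* Equiv.Perm (Fin 4)) ∨ Nonempty (↥G ≃* Equiv.Perm (Fin 4) × Multiplicative (ZMod 2)) := by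
  haveI : Fact q.Prime := ⟨hq⟩
  obtain ⟨e⟩ := hD
  haveI := CfsgLib.LocalEven.SylowIn.pCore_normal ↥G 2
  have hidx : (Cfsg.pCore 2 ↥G).index = 2 * q := by
    rw [Subgroup.index_eq_card, Nat.card_congr e.toEquiv, DihedralGroup.nat_card]
  have hq2 : q ≠ 2 := by
    rintro rfl
    have hp : IsPGroup 2 ↥G := by
      obtain ⟨n, hn⟩ := (CfsgLib.LocalEven.SylowIn.isPGroup_pCore ↥G 2).exists_card_eq
      have := (Cfsg.pCore 2 ↥G).card_mul_index
      rw [hn, hidx] at this
      exact IsPGroup.of_card (n := n + 2) (by rw [← this, pow_add]; norm_num)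
    have htop : (Cfsg.pCore 2 ↥G) = ⊤ :=
      top_le_iff.1 (CfsgLib.LocalEven.SylowIn.le_pCore (hp.of_equiv Subgroup.topEquiv.symm))
    rw [htop, Subgroup.index_top] at hidx
    norm_num at hidx
  set S' := (S : Subgroup ↥G).map G.subtype with hS'
  have hS'G : S' ≤ G := Subgroup.map_subtype_le _
  have hSyl : CfsgLib.LocalEven.SylowIn.IsSylowIn 2 S' G := .of_map_subtype S
  obtain ⟨g, hg, hgG⟩ := SetLike.not_le_iff_exists.1 hN
  have hgS : S'.map (MulAut.conj g).toMonoidHom = S' := CfsgLib.LocalEven.SylowIn.map_conj_eq_iff.2 hg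
  set G' := G.map (MulAut.conj g).toMonoidHom with hG'
  have hS'G' : S' ≤ G' := hgS ▸ Subgroup.map_mono hS'G
  have hnorm : ∀ x, x ∈ Subgroup.normalizer (G : Set H) → x ∈ G := by
    intro x hx
    by_contra hxG
    have htop : Subgroup.normalizer (G : Set H) = ⊤ :=
      hG.2 _ (lt_of_le_of_ne Subgroup.le_normalizer fun e => hxG (e ▸ hx))
    haveI : G.Normal := Subgroup.normalizer_eq_top_iff.1 htop
    rcases IsSimpleGroup.eq_bot_or_eq_top_of_normal G inferInstance with hb | ht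
    · subst hb
      have := Subgroup.index_dvd_card (Cfsg.pCore 2 ↥(⊥ : Subgroup H))
      rw [hidx, Subgroup.card_bot, Nat.dvd_one] at this
      have := hq.two_le
      omega
    · exact hG.1 ht
  have hne : G' ≠ G := fun he => hgG (hnorm g (CfsgLib.LocalEven.SylowIn.map_conj_eq_iff.1 he))
  have hindex : S'.relIndex G = q := by
    have h1 : (Cfsg.pCore 2 ↥G) ≤ (S : Subgroup ↥G) :=
      (CfsgLib.LocalEven.SylowIn.isPGroup_pCore ↥G 2).le_sylow_of_normal S
    have h2 := Subgroup.relIndex_mul_index h1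
    obtain ⟨n, hn⟩ : ∃ n, (Cfsg.pCore 2 ↥G).relIndex (S : Subgroup ↥G) = 2 ^ n := S.2.index _
    have h3 : ¬ 2 ∣ (S : Subgroup ↥G).index := S.not_dvd_index
    rw [hidx, hn] at h2
    have hS2 : S'.relIndex G = (S : Subgroup ↥G).index := by
      rw [Subgroup.relIndex, Subgroup.subgroupOf, hS', Subgroup.comap_map_eq_self_of_injective G.subtype_injective]
    rcases n with _ | _ | n
    · rw [pow_zero, one_mul] at h2
      exact absurd (Dvd.intro q h2.symm) h3
    · omega
    · have : 2 ∣ q := ⟨2 ^ n * (S : Subgroup ↥G).index, by ring_nf at h2 ⊢; omega⟩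
      exact absurd ((Nat.prime_dvd_prime_iff_eq Nat.prime_two hq).1 this).symm hq2
  have hint : G ⊓ G' = S' := by
    have hm := Subgroup.relIndex_mul_relIndex S' (G ⊓ G') G (le_inf hS'G hS'G') inf_le_left
    rw [hindex] at hm
    rcases hq.eq_one_or_self_of_dvd _ (Dvd.intro _ hm) with h1 | h1
    · exact le_antisymm (Subgroup.relIndex_eq_one.1 h1) (le_inf hS'G hS'G')
    · rw [h1] at hm
      have h2 : G ≤ G ⊓ G' := Subgroup.relIndex_eq_one.1 ((mul_eq_left₀ hq.ne_zero).1 hm)
      exact absurd (Subgroup.eq_of_le_of_card_ge (h2.trans inf_le_right)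
        (Subgroup.card_map_of_injective (MulAut.conj g).injective).le).symm hne
  have hidx1 : (Cfsg.pCoreOf 2 G).relIndex G = 2 * q := by
    rw [Subgroup.relIndex, Subgroup.subgroupOf, Cfsg.pCoreOf,
      Subgroup.comap_map_eq_self_of_injective G.subtype_injective, hidx]
  have hidx2 : (Cfsg.pCoreOf 2 G').relIndex G' = 2 * q := by
    rw [hG', ← CfsgLib.LocalEven.SylowIn.pCoreOf_map_conj,
      Subgroup.relIndex_map_map_of_injective _ _ (MulAut.conj g).injective, hidx1]
  have hchar' : Subgroup.centralizer (Cfsg.pCore 2 ↥G' : Set ↥G') ≤ Cfsg.pCore 2 ↥G' := by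
    rw [CfsgLib.LocalEven.SylowIn.charP_iff, hG', ← CfsgLib.LocalEven.SylowIn.pCoreOf_map_conj,
      CfsgLib.LocalEven.SylowIn.centralizer_map_conj, ← Subgroup.map_inf _ _ _ (MulAut.conj g).injective]
    exact Subgroup.map_mono ((CfsgLib.LocalEven.SylowIn.charP_iff G).1 hchar)
  have hdvd : 2 ∣ Nat.card G := (dvd_mul_right 2 q).trans (hidx1 ▸ Subgroup.relIndex_dvd_card _ _)
  have hsimple : ∀ N : Subgroup H, N ≤ G → N.Normal → N = ⊥ := fun N hN hNn =>
    (IsSimpleGroup.eq_bot_or_eq_top_of_normal N hNn).resolve_right fun ht => hG.1 (top_le_iff.1 (ht ▸ hN))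
  have hgen : G ⊔ G' = ⊤ := hG.2 _ (lt_of_le_of_ne le_sup_left fun he => hne
    (Subgroup.eq_of_le_of_card_ge (he.ge.trans' le_sup_right)
      (Subgroup.card_map_of_injective (MulAut.conj g).injective).ge))
  have hG'top : G' ≠ ⊤ := fun ht => hG.1 (by
    have := congrArg (Subgroup.map (MulAut.conj g⁻¹).toMonoidHom) ht
    rw [hG', CfsgLib.LocalEven.SylowIn.map_conj_conj, inv_mul_cancel, CfsgLib.LocalEven.SylowIn.map_conj_one,
      Subgroup.map_top_of_surjective _ (MulAut.conj g⁻¹).surjective] at this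
    exact this)
  have hact : ¬ G ≤ Subgroup.centralizer (CfsgLib.LocalEven.SylowIn.omegaCenter 2 S' : Set H) := by
    intro hc
    have hc' : G' ≤ Subgroup.centralizer (CfsgLib.LocalEven.SylowIn.omegaCenter 2 S' : Set H) := by
      rw [← hgS, ← CfsgLib.LocalEven.SylowIn.omegaCenter_map, CfsgLib.LocalEven.SylowIn.centralizer_map_conj]
      exact Subgroup.map_mono hc
    have hcen : CfsgLib.LocalEven.SylowIn.omegaCenter 2 S' ≤ Subgroup.center H := fun x hx =>
      Subgroup.mem_center_iff.2 fun y =>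
        ((hgen ▸ sup_le hc hc' : (⊤ : Subgroup H) ≤ _) (Subgroup.mem_top y) x hx).symm
    have hne1 : S' ≠ ⊥ := fun hb => hSyl.toSylow.ne_bot_of_dvd_card hdvd (by
      show S'.subgroupOf G = ⊥
      rw [hb, Subgroup.bot_subgroupOf])
    refine CfsgLib.LocalEven.Parabolic.omegaCenter_ne_bot hSyl.2.1 hne1 (le_bot_iff.1 (hcen.trans ?_))
    rcases IsSimpleGroup.eq_bot_or_eq_top_of_normal (Subgroup.center H) inferInstance with hb | ht
    · exact hb.le
    · exact absurd ⟨⟨fun a c => (Subgroup.mem_center_iff.1 (ht.ge (Subgroup.mem_top c)) a)⟩⟩ hna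
  have hact' : ¬ G' ≤ Subgroup.centralizer (CfsgLib.LocalEven.SylowIn.omegaCenter 2 S' : Set H) := by
    intro hc
    rw [← hgS, ← CfsgLib.LocalEven.SylowIn.omegaCenter_map, CfsgLib.LocalEven.SylowIn.centralizer_map_conj,
      hG', Subgroup.map_le_map_iff_of_injective (MulAut.conj g).injective] at hc
    exact hact hc
  have h : CfsgLib.LocalEven.AmalgamS4.Hyp q G G' := by
    refine ⟨⟨⟨hgen, hG.1, hG'top, fun N hN => hsimple N (hN.trans inf_le_left)⟩, inferInstance, inferInstance,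
        hdvd, by rwa [hG', Subgroup.card_map_of_injective (MulAut.conj g).injective], ?_, hchar, hchar'⟩,
      hq, hq2, hint ▸ hSyl.2.1, hidx1, hidx2, by rw [hint]; exact hact, by rw [hint]; exact hact'⟩
    intro P P₁ P₂
    have hSyl' : CfsgLib.LocalEven.SylowIn.IsSylowIn 2 S' G' := hgS ▸ hSyl.map_conj g
    have hP : Nat.card P = Nat.card S' := by
      have hp : IsPGroup 2 ↥(⊤ : Subgroup ↥(G ⊓ G')) := (hint ▸ hSyl.2.1 : IsPGroup 2 ↥(G ⊓ G')).of_equiv
        Subgroup.topEquiv.symm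
      rw [show (P : Subgroup ↥(G ⊓ G')) = ⊤ from (P.is_maximal' hp le_top).symm, Subgroup.card_top, hint]
    constructor
    · rw [hP, P₁.card_eq_multiplicity, ← hSyl.toSylow.card_eq_multiplicity]
      exact (Nat.card_congr (Subgroup.subgroupOfEquivOfLe hSyl.1).toEquiv).symm
    · rw [hP, P₂.card_eq_multiplicity, ← hSyl'.toSylow.card_eq_multiplicity]
      exact (Nat.card_congr (Subgroup.subgroupOfEquivOfLe hSyl'.1).toEquiv).symm
  rcases h.main with ⟨⟨e₁⟩, -⟩ | ⟨⟨e₁⟩, -⟩
  · exact Or.inl ⟨e₁⟩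
  · exact Or.inr ⟨e₁.trans MulEquiv.prodComm⟩

end Cfsg.Agent.S2772
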