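import Cfsg.Statements.S2773
import Cfsg.Agent.Lib.PushingUpSingle.Constrained

set_option autoImplicit false
universe u
open Cfsg
open scoped Pointwise commutatorElement

namespace Cfsg.Agent.S2773

/-- For every nontrivial finite 3-group S there is a nontrivial characteristic subgroup K of S such that, in every finite group G containing S as a Sylow 3-subgroup, S ∩ G' is the product of S ∩ (C_G(Z(S)))' and S ∩ (N_G(K))' (derived subgroups; product taken elementwise). -/
theorem result {S : Type u} [Group S] [Finite S] [Nontrivial S] (hS : IsPGroup 3 S) : ∃ K : Subgroup S, K ≠ ⊥ ∧ K.Characteristic ∧ ∀ (G : Type u) [Group G] [Finite G] (τ : S →* G), Function.Injective τ → (∃ P : Sylow 3 G, (P : Subgroup G) = τ.range) → ∀ g : G, g ∈ τ.range ⊓ commutator G ↔ ∃ a ∈ τ.range ⊓ ⁅Subgroup.centralizer ((τ.range ⊓ Subgroup.centralizer (τ.range : Set G) : Subgroup G) : Set G), Subgroup.centralizer ((τ.range ⊓ Subgroup.centralizer (τ.range : Set G) : Subgroup G) : Set G)⁆, ∃ b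 ∈ τ.range ⊓ ⁅Subgroup.normalizer ((K.map τ : Subgroup G) : Set G), Subgroup.normalizer ((K.map τ : Subgroup G) : Set G)⁆, g = a * b := by
  classical
  haveI : Fact (Nat.Prime 3) := ⟨by norm_num⟩
  have h𝓦 := CfsgLib.PushingUpSingle.isCharPFunctor_zkPair.{u} (p := 3) (by norm_num)
  have hk := CfsgLib.PushingUpSingle.isCharPFunctor_kFunctor.{u} (p := 3) (by norm_num)
  set K := CfsgLib.PushingUpSingle.kFunctor 3 S with hKdef
  refine ⟨K, hk.1 S hS inferInstance, Subgroup.characteristic_iff_map_eq.2 fun e => hk.2 S S hS e,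
    fun G _ _ τ hτ hP g => ?_⟩
  obtain ⟨P, hP⟩ := hP
  have hctrl := CfsgLib.KGroups.Functor.familyTransfer_ind (G := G) h𝓦
    (fun X _ _ _ hc hsub hquo => CfsgLib.PushingUpSingle.constrained_step (by norm_num) hc hsub hquo)
    G (CfsgLib.KGroups.Functor.sec_self G)
  have key := CfsgLib.KGroups.Functor.familyTransfer_change
    (CfsgLib.KGroups.Functor.isConjugacyFunctor_ind h𝓦) hctrl (CfsgLib.KGroups.Functor.isSylowIn_top P)
  rw [← commutator_def] at key
  set Z₀ : Subgroup G := τ.range ⊓ Subgroup.centralizer (τ.range : Set G) with hZ₀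
  set C := Subgroup.centralizer (Z₀ : Set G) with hC
  set N := Subgroup.normalizer ((K.map τ : Subgroup G) : Set G) with hN
  set A := τ.range ⊓ ⁅C, C⁆ with hA
  set B := τ.range ⊓ ⁅N, N⁆ with hB
  have hWk : Cfsg.inducedFunctor (CfsgLib.PushingUpSingle.kFunctor 3) (P : Subgroup G) = K.map τ := by
    let e : S ≃* ↥(P : Subgroup G) := (MonoidHom.ofInjective hτ).trans (MulEquiv.subgroupCongr hP.symm)
    rw [Cfsg.inducedFunctor, ← hk.2 S _ hS e, Subgroup.map_map]
    rfl
  have hWz : Cfsg.inducedFunctor CfsgLib.Fusion.SFreeFF.zFunctor (P : Subgroup G) = Z₀ := by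
    rw [CfsgLib.Fusion.SFreeFF.inducedFunctor_zFunctor, hP]
  have hPC : (P : Subgroup G) ≤ C := fun s hs z hz => (hz.2 s (hP ▸ hs)).symm
  have hNS : Subgroup.normalizer ((P : Subgroup G) : Set G) ≤ N := by
    rw [hN, ← hWk]
    exact CfsgLib.KGroups.Functor.normalizer_le_normalizer_functor
      (CfsgLib.KGroups.Functor.isConjugacyFunctor_induced hk) P.2
  have hPN : τ.range ≤ Subgroup.normalizer (B : Set G) := by
    rw [← hP] at hB ⊢
    intro s hs
    have hsN := hNS (Subgroup.le_normalizer hs)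
    have hsC : s ∈ Subgroup.normalizer ((⁅N, N⁆ : Subgroup G) : Set G) := by
      have e : N.map (MulAut.conj s).toMonoidHom = N :=
        CfsgLib.LocalEven.SylowIn.map_conj_eq_iff.mpr (Subgroup.le_normalizer hsN)
      refine CfsgLib.LocalEven.SylowIn.map_conj_eq_iff.mp ?_
      rw [Subgroup.map_commutator, e]
    rw [hB, Subgroup.mem_normalizer_iff]
    intro x
    exact and_congr (Subgroup.mem_normalizer_iff.1 (Subgroup.le_normalizer hs) x)
      (Subgroup.mem_normalizer_iff.1 hsC x)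
  have hZn : (P : Subgroup G) ⊓ ⁅Subgroup.normalizer (Z₀ : Set G), Subgroup.normalizer (Z₀ : Set G)⁆ ≤ A ⊔ B := by
    set H := Subgroup.normalizer (Z₀ : Set G) with hH
    have hCH : C ≤ H := Subgroup.centralizer_le_normalizer _
    have hHC : H ≤ Subgroup.normalizer (C : Set G) := by
      have hf : ∀ h ∈ H, ∀ c ∈ C, h * c * h⁻¹ ∈ C := fun h hh c hc z hz => by
        have h1 : h⁻¹ * z * h ∈ Z₀ := by
          have := (Subgroup.mem_normalizer_iff.1 (inv_mem hh) z).1 hz
          simpa using this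
        calc z * (h * c * h⁻¹) = h * ((h⁻¹ * z * h) * c) * h⁻¹ := by group
          _ = h * (c * (h⁻¹ * z * h)) * h⁻¹ := by rw [hc _ h1]
          _ = _ := by group
      intro h hh
      rw [Subgroup.mem_normalizer_iff]
      refine fun c => ⟨hf h hh c, fun hc => ?_⟩
      simpa [mul_assoc] using hf h⁻¹ (inv_mem hh) _ hc
    refine CfsgLib.KGroups.Functor.inf_commutator_le_of_focal
      (CfsgLib.KGroups.Functor.isSylowIn_of_le P (hPC.trans hCH)) fun x hx u hu hux => ?_
    have hCP := CfsgLib.KGroups.Functor.isSylowIn_of_le P hPC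
    obtain ⟨c, hc, n, hn', rfl⟩ := CfsgLib.LocalEven.SylowIn.frattini_argument hCP hHC hCH hu
    have hn := hn'.2
    have hnx : n * x * n⁻¹ ∈ (P : Subgroup G) := (Subgroup.mem_normalizer_iff.1 hn x).1 hx
    have hux' : c * (n * x * n⁻¹) * c⁻¹ ∈ (P : Subgroup G) := by simpa [mul_assoc] using hux
    have h1 : c * (n * x * n⁻¹) * c⁻¹ * (n * x * n⁻¹)⁻¹ ∈ A :=
      Subgroup.mem_inf.2 ⟨hP ▸ Subgroup.mul_mem _ hux' (Subgroup.inv_mem _ hnx), Subgroup.commutator_mem_commutator hc (hPC hnx)⟩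
    have h2 : n * x * n⁻¹ * x⁻¹ ∈ B :=
      Subgroup.mem_inf.2 ⟨hP ▸ Subgroup.mul_mem _ hnx (Subgroup.inv_mem _ hx), Subgroup.commutator_mem_commutator (hNS hn) (hNS (Subgroup.le_normalizer hx))⟩
    have h3 := Subgroup.mul_mem_sup h1 h2
    convert h3 using 1
    group
  have hle : τ.range ⊓ commutator G ≤ A ⊔ B := by
    rw [← hP, key]
    refine iSup₂_le ?_
    rintro _ ⟨W, (rfl | rfl), rfl⟩
    · simp only [top_inf_eq, hWz]
      exact hZn
    · simp only [top_inf_eq, hWk]
      exact le_sup_of_le_right (le_of_eq (by rw [hB, hP]))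
  constructor
  · intro hg
    have h1 : g ∈ ((A ⊔ B : Subgroup G) : Set G) := hle hg
    rw [Subgroup.coe_mul_of_left_le_normalizer_right A B (inf_le_left.trans hPN)] at h1
    obtain ⟨a, ha, b, hb, rfl⟩ := h1
    exact ⟨a, ha, b, hb, rfl⟩
  · rintro ⟨a, ha, b, hb, rfl⟩
    refine mul_mem ⟨ha.1, ?_⟩ ⟨hb.1, ?_⟩
    · exact Subgroup.commutator_mono le_top le_top ha.2
    · exact Subgroup.commutator_mono le_top le_top hb.2

end Cfsg.Agent.S2773
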