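import Cfsg.Statements.S2779
import Cfsg.Agent.Lib.LocalEven.NaturalSL2

set_option autoImplicit false
open Cfsg
open scoped commutatorElement

namespace Cfsg.Agent.S2779

/-- Let L act on the elementary abelian p-group V (inside a finite group, by conjugation, faithfully) as SL₂(F) on its natural module, F a field with p^n elements, and let S be a Sylow p-subgroup of L. Then [V, S, S] = 1; |V| = p^(2n) and |C_V(S)| = p^n; and for every nonidentity s ∈ S and every v ∈ V outside C_V(S): C_V(s) = C_V(S) = [V, S] = [V, s] = the subgroup generated by the commutators [v, t], t ∈ S. -/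
theorem result {G : Type*} [Group G] [Finite G] {p : ℕ} [Fact p.Prime] {F : Type*} [Field F] [Fintype F] (n : ℕ) (hF : Fintype.card F = p ^ n) (V L : Subgroup G) (hnat : Cfsg.IsNaturalSL2Module F V L) (hf : L ⊓ Subgroup.centralizer (V : Set G) = ⊥) (S : Sylow p ↥L) (T : Subgroup G) (hT : T = ((S : Subgroup ↥L).map L.subtype)) : ⁅⁅V, T⁆, T⁆ = ⊥ ∧ Nat.card V = p ^ (2 * n) ∧ Nat.card ↥(V ⊓ Subgroup.centralizer ((T : Subgroup G) : Set G)) = p ^ n ∧ ∀ s ∈ T, s ≠ 1 → (V ⊓ Subgroup.centralizer ({s} : Set G)) = (V ⊓ Subgroup.centralizer ((T : Subgroup G) : Set G)) ∧ ⁅V, T⁆ = (V ⊓ Subgroup.centralizer ((T : Subgroup G) : Set G)) ∧ ⁅V, Subgroup.zpowers s⁆ = (V ⊓ Subgroup.centralizer ((T : Subgroup G) : Set G)) ∧ ∀ v ∈ V, v ∉ Subgroup.centralizer (T : Set G) → Subgroup.closure {x : G | ∃ t ∈ T, x = v * t * v⁻¹ * t⁻¹} = (V ⊓ Subgroup.centralizer ((T : Subgroup G) : Set G)) := by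
  obtain ⟨C⟩ := CfsgLib.LocalEven.NaturalSL2.exists_coord hF V L hnat hf S T hT
  have hVT : ⁅V, T⁆ ≤ C.axis := by
    refine Subgroup.commutator_le.2 fun g hg s hs => ?_
    obtain ⟨v, rfl⟩ := C.c_surj g hg
    obtain ⟨l, t, rfl, hl⟩ := C.exists_param hs
    rw [commutatorElement_def, C.commutator_c hl]
    exact ⟨_, rfl⟩
  have hcardV : Nat.card V = p ^ (2 * n) := by
    rw [← Nat.card_congr (Equiv.ofBijective (fun v => (⟨C.c v, C.c_mem v⟩ : V))
      ⟨fun a b h => C.c_inj (congrArg Subtype.val h), fun g => by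
        obtain ⟨v, hv⟩ := C.c_surj g g.2
        exact ⟨v, Subtype.ext hv⟩⟩), Nat.card_fun, Nat.card_fin, Nat.card_eq_fintype_card, hF, ← pow_mul, mul_comm]
  refine ⟨?_, hcardV, ?_, fun s hs hs1 => ⟨?_, ?_, ?_, fun v hv hvc => ?_⟩⟩
  · refine le_bot_iff.1 ((Subgroup.commutator_mono hVT le_rfl).trans ?_)
    refine Subgroup.commutator_le.2 fun g hg s hs => ?_
    rw [Subgroup.mem_bot, commutatorElement_eq_one_iff_mul_comm]
    exact (C.comm_axis hg hs).symm
  · rw [C.centralizer_T]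
    rw [← Nat.card_congr (Equiv.ofBijective (fun x : F => (⟨C.c ![x, 0], x, rfl⟩ : C.axis))
      ⟨fun a b h => by simpa using congrFun (C.c_inj (congrArg Subtype.val h)) 0, fun g => by
        obtain ⟨x, hx⟩ := g.2
        exact ⟨x, Subtype.ext hx⟩⟩), Nat.card_eq_fintype_card, hF]
  · rw [C.centralizer_T, C.centralizer_elem hs hs1]
  · rw [C.centralizer_T]
    refine le_antisymm hVT ?_
    rintro _ ⟨x, rfl⟩
    obtain ⟨l, hlT, hl⟩ := C.exists_T 1
    rw [show C.c ![x, 0] = C.c ![0, -x] * (l : G) * (C.c ![0, -x])⁻¹ * (l : G)⁻¹ by rw [C.commutator_c hl]; simp]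
    exact Subgroup.commutator_mem_commutator (C.c_mem _) hlT
  · rw [C.centralizer_T]
    refine le_antisymm ((Subgroup.commutator_mono le_rfl (Subgroup.zpowers_le.2 hs)).trans hVT) ?_
    rintro _ ⟨x, rfl⟩
    obtain ⟨l, t, rfl, hl⟩ := C.exists_param hs
    have ht := C.param_ne_zero hl hs1
    rw [show C.c ![x, 0] = C.c ![0, -(x / t)] * (l : G) * (C.c ![0, -(x / t)])⁻¹ * (l : G)⁻¹ by
      rw [C.commutator_c hl]; congr 1; simp; field_simp]
    exact Subgroup.commutator_mem_commutator (C.c_mem _) (Subgroup.mem_zpowers _)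
  · rw [C.centralizer_T]
    obtain ⟨w, rfl⟩ := C.c_surj v hv
    have hw : w 1 ≠ 0 := fun h => hvc (Subgroup.mem_centralizer_iff.2 fun s hs => C.comm_axis ((C.mem_axis w).2 h) hs)
    refine le_antisymm ((Subgroup.closure_le _).2 ?_) ?_
    · rintro _ ⟨s, hs, rfl⟩
      obtain ⟨l, t, rfl, hl⟩ := C.exists_param hs
      exact ⟨_, (C.commutator_c hl w).symm⟩
    · rintro _ ⟨x, rfl⟩
      obtain ⟨l, hlT, hl⟩ := C.exists_T (-(x / w 1))
      refine Subgroup.subset_closure ⟨l, hlT, ?_⟩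
      rw [C.commutator_c hl]
      congr 1
      simp; field_simp

end Cfsg.Agent.S2779
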