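import Cfsg.Statements.S2780
import Cfsg.Agent.Lib.LocalEven.NaturalSL2
import Mathlib.Algebra.CharP.Lemmas
import Mathlib.LinearAlgebra.Matrix.CharP

set_option autoImplicit false
open Cfsg

namespace Cfsg.Agent.S2780

/-- Let L act on the elementary abelian p-group V (inside a finite group, faithfully) as SL₂(F) on its natural module, F a field with p^n elements, S a Sylow p-subgroup of L. Then: for every g ∈ L not normalizing S, V is the internal direct product of C_V(S) and C_V(gSg⁻¹); every nonidentity element of L of order prime to p acts on V without nonidentity fixed points; and C_V(S) and V/C_V(S) are irreducible for N_L(S): the only N_L(S)-invariant subgroups of C_V(S) are 1 and C_V(S), and the only N_L(S)-invariant subgroups between C_V(S) and V are those two. -/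
theorem result {G : Type*} [Group G] [Finite G] {p : ℕ} [Fact p.Prime] {F : Type*} [Field F] [Fintype F] (n : ℕ) (hF : Fintype.card F = p ^ n) (V L : Subgroup G) (hnat : Cfsg.IsNaturalSL2Module F V L) (hf : L ⊓ Subgroup.centralizer (V : Set G) = ⊥) (S : Sylow p ↥L) (T : Subgroup G) (hT : T = ((S : Subgroup ↥L).map L.subtype)) : (∀ g ∈ L, g ∉ Subgroup.normalizer (T : Set G) → Cfsg.IsInternalDirectProduct (V ⊓ Subgroup.centralizer ((T : Subgroup G) : Set G)) (V ⊓ Subgroup.centralizer ((T.map (MulAut.conj g).toMonoidHom : Subgroup G) : Set G)) V) ∧ (∀ x ∈ L, x ≠ 1 → (orderOf x).Coprime p → (V ⊓ Subgroup.centralizer ({x} : Set G)) = ⊥) ∧ (∀ U : Subgroup G, U ≤ (V ⊓ Subgroup.centralizer ((T : Subgroup G) : Set G)) → L ⊓ Subgroup.normalizer (T : Set G) ≤ Subgroup.normalizer (U : Set G) → U = ⊥ ∨ U = (V ⊓ Subgroup.centralizer ((T : Subgroup G) : Set G))) ∧ (∀ U : Subgroup G, (V ⊓ Subgroup.centralizer ((T : Subgroup G) : Set G)) ≤ U → U ≤ V → L ⊓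 Subgroup.normalizer (T : Set G) ≤ Subgroup.normalizer (U : Set G) → U = (V ⊓ Subgroup.centralizer ((T : Subgroup G) : Set G)) ∨ U = V) := by
  haveI := charP_of_card_eq_prime_pow hF
  obtain ⟨C⟩ := CfsgLib.LocalEven.NaturalSL2.exists_coord hF V L hnat hf S T hT
  have hTL : T ≤ L := C.T_le
  have hdiag : ∀ a : F, a ≠ 0 → ∃ l : ↥L, (l : G) ∈ L ⊓ Subgroup.normalizer (T : Set G) ∧
      (C.ρ l : Matrix (Fin 2) (Fin 2) F) = !![a, 0; 0, a⁻¹] := by
    intro a ha
    obtain ⟨l, hl⟩ := C.ρ_surj ⟨!![a, 0; 0, a⁻¹], by simp [Matrix.det_fin_two, ha]⟩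
    have hl' : (C.ρ l : Matrix (Fin 2) (Fin 2) F) = !![a, 0; 0, a⁻¹] := congrArg Subtype.val hl
    refine ⟨l, ⟨l.2, Subgroup.mem_normalizer_iff.2 fun s => ?_⟩, hl'⟩
    have key : ∀ m : ↥L, ∀ b c : F, b * c = 1 → (C.ρ m : Matrix (Fin 2) (Fin 2) F) = !![b, 0; 0, c] →
        ∀ s ∈ T, (m : G) * s * (m : G)⁻¹ ∈ T := by
      intro m b c hbc hm s hs
      obtain ⟨k, t, rfl, hk⟩ := C.exists_param hs
      obtain ⟨k', hk'T, hk'⟩ := C.exists_T (b * t * b)
      have e : C.ρ (m * k) = C.ρ (k' * m) := Matrix.SpecialLinearGroup.ext _ _ fun i j => by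
        rw [map_mul, map_mul, Matrix.SpecialLinearGroup.coe_mul, Matrix.SpecialLinearGroup.coe_mul, hm, hk, hk']
        fin_cases i <;> fin_cases j <;> simp [Matrix.mul_apply, Fin.sum_univ_two]
        linear_combination -(b * t) * hbc
      have e2 := congrArg Subtype.val (C.ρ_inj e)
      simp only [Subgroup.coe_mul] at e2
      rw [e2, mul_inv_cancel_right]
      exact hk'T
    refine ⟨fun hs => key l a a⁻¹ (mul_inv_cancel₀ ha) hl' s hs, fun hs => ?_⟩
    have hinv : (C.ρ l⁻¹ : Matrix (Fin 2) (Fin 2) F) = !![a⁻¹, 0; 0, a] := by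
      rw [map_inv, Matrix.SpecialLinearGroup.coe_inv, hl', Matrix.adjugate_fin_two_of, neg_zero]
    have h2 := key l⁻¹ a⁻¹ a (inv_mul_cancel₀ ha) hinv _ hs
    simpa [mul_assoc] using h2
  have hcg : ∀ g : G, g ∈ L → V ⊓ Subgroup.centralizer ((T.map (MulAut.conj g).toMonoidHom : Subgroup G) : Set G)
      = C.axis.map (MulAut.conj g).toMonoidHom := by
    intro g hg
    rw [← C.centralizer_T]
    ext y
    constructor
    · rintro ⟨hyV, hyc⟩
      refine ⟨g⁻¹ * y * g, ⟨?_, Subgroup.mem_centralizer_iff.2 fun s hs => ?_⟩, by simp [mul_assoc]⟩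
      · simpa using (Subgroup.mem_normalizer_iff''.1 (hnat.1 hg) y).1 hyV
      · have := Subgroup.mem_centralizer_iff.1 hyc _ ⟨s, hs, rfl⟩
        simp only [MulEquiv.coe_toMonoidHom, MulAut.conj_apply] at this
        calc s * (g⁻¹ * y * g) = g⁻¹ * (g * s * g⁻¹ * y) * g := by group
          _ = g⁻¹ * (y * (g * s * g⁻¹)) * g := by rw [this]
          _ = g⁻¹ * y * g * s := by group
    · rintro ⟨x, ⟨hxV, hxc⟩, rfl⟩
      refine ⟨(Subgroup.mem_normalizer_iff.1 (hnat.1 hg) x).1 hxV, Subgroup.mem_centralizer_iff.2 ?_⟩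
      rintro _ ⟨s, hs, rfl⟩
      rw [← map_mul, ← map_mul, Subgroup.mem_centralizer_iff.1 hxc s hs]
  refine ⟨fun g hg hgn => ?_, fun x hx hx1 hxc => ?_, fun U hU hUn => ?_, fun U hU hUV hUn => ?_⟩
  · set M := (C.ρ ⟨g, hg⟩ : Matrix (Fin 2) (Fin 2) F)
    have hM : M 1 0 ≠ 0 := by
      intro h
      refine hgn (Subgroup.mem_normalizer_iff.2 fun s => ?_)
      have key : ∀ m : ↥L, (C.ρ m : Matrix (Fin 2) (Fin 2) F) 1 0 = 0 → ∀ s ∈ T, (m : G) * s * (m : G)⁻¹ ∈ T := by
        intro m hm s hs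
        obtain ⟨k, t, rfl, hk⟩ := C.exists_param hs
        set b := (C.ρ m : Matrix (Fin 2) (Fin 2) F) 0 0
        obtain ⟨k', hk'T, hk'⟩ := C.exists_T (b * t * b)
        have hd : b * (C.ρ m : Matrix (Fin 2) (Fin 2) F) 1 1 = 1 := by
          have hd := (C.ρ m).2
          rw [Matrix.det_fin_two, hm, mul_zero, sub_zero] at hd
          exact hd
        have e : C.ρ (m * k) = C.ρ (k' * m) := Matrix.SpecialLinearGroup.ext _ _ fun i j => by
          rw [map_mul, map_mul, Matrix.SpecialLinearGroup.coe_mul, Matrix.SpecialLinearGroup.coe_mul, hk, hk']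
          fin_cases i <;> fin_cases j <;> simp [Matrix.mul_apply, Fin.sum_univ_two, hm, b]
          linear_combination -(b * t) * hd
        have e2 := congrArg Subtype.val (C.ρ_inj e)
        simp only [Subgroup.coe_mul] at e2
        rw [e2, mul_inv_cancel_right]
        exact hk'T
      refine ⟨fun hs => key ⟨g, hg⟩ h s hs, fun hs => ?_⟩
      have hinv : (C.ρ (⟨g, hg⟩ : ↥L)⁻¹ : Matrix (Fin 2) (Fin 2) F) 1 0 = 0 := by
        rw [map_inv, Matrix.SpecialLinearGroup.coe_inv, Matrix.adjugate_fin_two]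
        simp [M] at h
        simp [h]
      simpa [mul_assoc] using key _ hinv _ hs
    rw [hcg g hg, C.centralizer_T]
    have himg : ∀ z : F, g * C.c ![z, 0] * g⁻¹ = C.c ![M 0 0 * z, M 1 0 * z] := fun z => by
      rw [C.act ⟨g, hg⟩]
      congr 1
      ext i; fin_cases i <;> simp [M, Matrix.mulVec, dotProduct, Fin.sum_univ_two]
    refine ⟨?_, ?_, ?_, ?_, ?_⟩
    · rintro _ ⟨z, rfl⟩; exact C.c_mem _
    · rintro _ ⟨_, ⟨z, rfl⟩, rfl⟩
      show g * C.c ![z, 0] * g⁻¹ ∈ V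
      rw [himg]; exact C.c_mem _
    · rintro _ ⟨z, rfl⟩ _ ⟨_, ⟨w, rfl⟩, rfl⟩
      show C.c _ * (g * C.c ![w, 0] * g⁻¹) = g * C.c ![w, 0] * g⁻¹ * C.c _
      rw [himg]; exact C.c_comm _ _
    · refine eq_bot_iff.2 ?_
      rintro y ⟨⟨z, rfl⟩, _, ⟨w, rfl⟩, he⟩
      have he' : g * C.c ![w, 0] * g⁻¹ = C.c ![z, 0] := he
      rw [himg] at he'
      have h1 := congrFun (C.c_inj he') 1
      have h0 := congrFun (C.c_inj he') 0
      simp at h1 h0
      rw [h1.resolve_left hM, mul_zero] at h0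
      rw [Subgroup.mem_bot, ← h0, show (![0, 0] : Fin 2 → F) = 0 by ext i; fin_cases i <;> rfl, C.c_zero]
    · refine le_antisymm (sup_le ?_ ?_) fun y hy => ?_
      · rintro _ ⟨z, rfl⟩; exact C.c_mem _
      · rintro _ ⟨_, ⟨z, rfl⟩, rfl⟩
        show g * C.c ![z, 0] * g⁻¹ ∈ V
        rw [himg]; exact C.c_mem _
      · obtain ⟨v, rfl⟩ := C.c_surj y hy
        have e : v = ![v 0 - M 0 0 * (v 1 / M 1 0), 0] + ![M 0 0 * (v 1 / M 1 0), M 1 0 * (v 1 / M 1 0)] := by
          ext i; fin_cases i <;> simp [mul_div_cancel₀ _ hM]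
        rw [e, C.c_add, ← himg]
        exact Subgroup.mul_mem_sup ⟨_, rfl⟩ ⟨_, ⟨_, rfl⟩, rfl⟩
  · refine eq_bot_iff.2 fun y hy => ?_
    obtain ⟨hyV, hyc⟩ := hy
    obtain ⟨v, rfl⟩ := C.c_surj y hyV
    rw [Subgroup.mem_bot]
    by_contra hv
    have hfix : (C.ρ ⟨x, hx⟩ : Matrix (Fin 2) (Fin 2) F).mulVec v = v := by
      refine C.c_inj ?_
      rw [← C.act ⟨x, hx⟩]
      show x * C.c v * x⁻¹ = C.c v
      rw [← Subgroup.mem_centralizer_singleton_iff.1 hyc, mul_inv_cancel_right]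
    set M := (C.ρ ⟨x, hx⟩ : Matrix (Fin 2) (Fin 2) F)
    have e0 := congrFun hfix 0
    have e1 := congrFun hfix 1
    simp [Matrix.mulVec, dotProduct, Fin.sum_univ_two] at e0 e1
    have hd : M 0 0 * M 1 1 - M 0 1 * M 1 0 = 1 := by
      have hd := (C.ρ ⟨x, hx⟩).2
      rwa [Matrix.det_fin_two] at hd
    have hv' : v 0 ≠ 0 ∨ v 1 ≠ 0 := by
      by_contra h
      push Not at h
      exact hv (by rw [show v = 0 by ext i; fin_cases i <;> simp [h.1, h.2], C.c_zero])
    have htr : M 0 0 + M 1 1 = 2 := by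
      rcases hv' with h | h
      · refine mul_left_cancel₀ h ?_
        linear_combination (1 - M 1 1) * e0 + (M 0 1) * e1 + (v 0) * hd
      · refine mul_left_cancel₀ h ?_
        linear_combination (M 1 0) * e0 + (1 - M 0 0) * e1 + (v 1) * hd
    have hsq : (M - 1) * (M - 1) = 0 := by
      ext i j
      fin_cases i <;> fin_cases j <;> simp [Matrix.mul_apply, Fin.sum_univ_two]
      · linear_combination (M 0 0) * htr - hd
      · linear_combination (M 0 1) * htr
      · linear_combination (M 1 0) * htr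
      · linear_combination (M 1 1) * htr - hd
    have hp : M ^ p = 1 := by
      have h1 := sub_pow_char_of_commute p (Commute.one_right M)
      obtain ⟨k, hk⟩ := Nat.exists_eq_add_of_le (Fact.out : p.Prime).two_le
      have h2 : (M - 1) ^ p = 0 := by rw [hk, pow_add, pow_two, hsq, zero_mul]
      rw [one_pow, h2] at h1
      exact sub_eq_zero.1 h1.symm
    have h3 : C.ρ (⟨x, hx⟩ ^ p) = 1 := Subtype.ext (by rw [map_pow, Matrix.SpecialLinearGroup.coe_pow]; exact hp)
    have h4 : x ^ p = 1 := by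
      have := C.ρ_inj (h3.trans (map_one C.ρ).symm)
      exact congrArg Subtype.val this
    exact hx1 (orderOf_eq_one_iff.1 (Nat.eq_one_of_dvd_coprimes hxc dvd_rfl (orderOf_dvd_of_pow_eq_one h4)))
  · rw [C.centralizer_T] at hU ⊢
    by_cases h : U = ⊥
    · exact Or.inl h
    refine Or.inr (le_antisymm hU ?_)
    obtain ⟨u, hu, hu1⟩ := (Subgroup.bot_or_exists_ne_one U).resolve_left h
    obtain ⟨z, rfl⟩ := hU hu
    have hz : z ≠ 0 := by
      rintro rfl
      exact hu1 (by rw [show (![0, 0] : Fin 2 → F) = 0 by ext i; fin_cases i <;> rfl, C.c_zero])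
    rintro _ ⟨w, rfl⟩
    by_cases hw : w = 0
    · rw [hw, show (![0, 0] : Fin 2 → F) = 0 by ext i; fin_cases i <;> rfl, C.c_zero]
      exact one_mem U
    obtain ⟨l, hlN, hl⟩ := hdiag (w / z) (div_ne_zero hw hz)
    have h2 := (Subgroup.mem_normalizer_iff.1 (hUn hlN) _).1 hu
    rw [C.act, hl] at h2
    convert h2 using 2
    ext i; fin_cases i <;> simp [Matrix.mulVec, dotProduct, Fin.sum_univ_two, div_mul_cancel₀ _ hz]
  · rw [C.centralizer_T] at hU ⊢
    by_cases h : U ≤ C.axis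
    · exact Or.inl (le_antisymm h hU)
    refine Or.inr (le_antisymm hUV ?_)
    obtain ⟨u, hu, hu1⟩ := SetLike.not_le_iff_exists.1 h
    obtain ⟨v, rfl⟩ := C.c_surj u (hUV hu)
    have hv : v 1 ≠ 0 := fun e => hu1 ((C.mem_axis v).2 e)
    intro y hy
    obtain ⟨w, rfl⟩ := C.c_surj y hy
    by_cases hw : w 1 = 0
    · exact hU ((C.mem_axis w).2 hw)
    obtain ⟨l, hlN, hl⟩ := hdiag (v 1 / w 1) (div_ne_zero hv hw)
    have h2 := (Subgroup.mem_normalizer_iff.1 (hUn hlN) _).1 hu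
    rw [C.act, hl] at h2
    have e : w = ![w 0 - v 1 / w 1 * v 0, 0] + (!![v 1 / w 1, 0; 0, (v 1 / w 1)⁻¹] : Matrix (Fin 2) (Fin 2) F).mulVec v := by
      ext i; fin_cases i <;> simp [Matrix.mulVec, dotProduct, Fin.sum_univ_two]
      field_simp
    rw [e, C.c_add]
    exact mul_mem (hU ⟨_, rfl⟩) h2

end Cfsg.Agent.S2780
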