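import Cfsg.Statements.S2781
import Cfsg.Agent.Lib.LocalEven.PReduced
import Cfsg.Agent.Lib.LocalEven.Averaging

set_option autoImplicit false
open Cfsg CfsgLib.LocalEven.SylowIn CfsgLib.LocalEven.PReduced CfsgLib.LocalEven.Averaging
open scoped commutatorElement

namespace Cfsg.Agent.S2781

/-- Let H act faithfully by conjugation on the elementary abelian p-subgroup V of a finite group, let O^p(H) be the subgroup of H generated by its elements of order prime to p, and T a Sylow p-subgroup of O^p(H). If V is generated by the H-conjugates of C_V(T) (V is the smallest H-invariant subgroup containing C_V(T)), then V = [V, O^p(H)]·C_V(O^p(H)). -/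
theorem result {G : Type*} [Group G] [Finite G] {p : ℕ} [Fact p.Prime] (V H : Subgroup G) (hV : Cfsg.IsElementaryAbelian p V) (hHV : H ≤ Subgroup.normalizer (V : Set G)) (hf : H ⊓ Subgroup.centralizer (V : Set G) = ⊥) (R : Subgroup G) (hR : R = (Cfsg.pResidual p ↥H).map H.subtype) (S : Sylow p ↥R) (T : Subgroup G) (hT : T = ((S : Subgroup ↥R).map R.subtype)) (hgen : ∀ W : Subgroup G, H ≤ Subgroup.normalizer (W : Set G) → (V ⊓ Subgroup.centralizer ((T : Subgroup G) : Set G)) ≤ W → V ≤ W) : ⁅V, R⁆ ⊔ (V ⊓ Subgroup.centralizer ((R : Subgroup G) : Set G)) = V := by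
  subst hT
  have hHR : H ≤ Subgroup.normalizer (R : Set G) := by
    rw [hR]; exact Subgroup.le_normalizer.trans (CfsgLib.LocalEven.Residual.normalizer_map_pResidual H)
  have hRH : R ≤ H := hR ▸ Subgroup.map_subtype_le _
  have hWV : ⁅V, R⁆ ≤ V := Subgroup.le_normalizer_iff_commutator_le_left.1 (hRH.trans hHV)
  refine le_antisymm (sup_le hWV inf_le_left) (hgen _
    (normalizer_sup (normalizer_commutator hHV hHR) (normalizer_inf hHV (normalizer_centralizer hHR))) ?_)
  intro v hv
  rw [sup_comm]
  have hS := IsSylowIn.of_map_subtype S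
  refine mem_fixed_sup hV.1 hWV (hRH.trans hHV) hS.1 hv.1 (fun t ht => ?_) (fun h hh => ?_) ?_
  · rw [Subgroup.mem_centralizer_iff.1 hv.2 t ht, mul_inv_cancel_right]
  · rw [CfsgLib.Coprime.commutatorElement_mem_iff]
    exact Subgroup.commutator_mem_commutator hv.1 hh
  · exact coprime_relIndex_of_pow hS (hV.2 v hv.1)

end Cfsg.Agent.S2781
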