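import Cfsg.Statements.S2787
import Cfsg.Agent.Lib.Fusion.SL2Sections
import Cfsg.Agent.Lib.Fusion.QuadStable
import Cfsg.Agent.Lib.Involution.SL2Redundant
import Cfsg.Agent.Lib.Classical.SL2Sylow
import Cfsg.Agent.S1157

set_option autoImplicit false
set_option linter.style.haveILetI false
set_option linter.unusedVariables false
set_option maxHeartbeats 1600000
open Cfsg Matrix
open scoped MatrixGroups IsMulCommutative

namespace Cfsg.Agent.S2787

/-- `PSL₂` of odd order field has no section `SL(2, p)`. -/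
theorem no_sl2_section {F : Type*} [Field F] [Fintype F] (h2 : (2 : F) ≠ 0) {p : ℕ} [Fact p.Prime] (hp : p ≠ 2) :
    ¬ CfsgLib.Fusion.SL2Sections.HasSL2Section p (Matrix.ProjectiveSpecialLinearGroup (Fin 2) F) := by
  classical
  rintro ⟨L, f, hf⟩
  haveI : Fact (Nat.Prime 2) := ⟨Nat.prime_two⟩
  have h2p : (2 : ZMod p) ≠ 0 := fun h => hp ((Nat.prime_dvd_prime_iff_eq Fact.out Nat.prime_two).1
    ((ZMod.natCast_eq_zero_iff 2 p).1 (by exact_mod_cast h)))
  -- a quaternion pair
  obtain ⟨a, b, hab⟩ := FiniteField.exists_root_sum_quadratic (f := Polynomial.X ^ 2) (g := Polynomial.X ^ 2 + Polynomial.C (1 : ZMod p))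
    (by simp) (Polynomial.degree_X_pow_add_C two_pos 1)
    (by rw [ZMod.card]; exact Nat.odd_iff.1 ((Fact.out : p.Prime).odd_of_ne_two hp))
  have hab : a ^ 2 + b ^ 2 + 1 = 0 := by simpa [add_assoc] using hab
  let i : SL(2, ZMod p) := ⟨!![0, 1; -1, 0], by simp [Matrix.det_fin_two]⟩
  let j : SL(2, ZMod p) := ⟨!![a, b; b, -a], by rw [Matrix.det_fin_two_of]; linear_combination -hab⟩
  have hi4 : i ^ 4 = 1 := by
    apply Subtype.ext
    show (!![0, 1; -1, 0] : Matrix (Fin 2) (Fin 2) (ZMod p)) ^ 4 = 1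
    ext r s; fin_cases r <;> fin_cases s <;> simp [pow_succ, Matrix.mul_apply, Fin.sum_univ_two]
  have hj2 : (j : Matrix (Fin 2) (Fin 2) (ZMod p)) * j = -1 := by
    ext r s; fin_cases r <;> fin_cases s <;> simp [j, Matrix.mul_apply, Fin.sum_univ_two] <;>
      first | linear_combination hab | ring
  have hj4 : j ^ 4 = 1 := by
    apply Subtype.ext
    show (j : Matrix (Fin 2) (Fin 2) (ZMod p)) ^ 4 = 1
    rw [show (4 : ℕ) = 2 * 2 from rfl, pow_mul, pow_two (j : Matrix (Fin 2) (Fin 2) (ZMod p)), hj2, neg_one_sq]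
  have hji : j * i = i⁻¹ * j := by
    apply Subtype.ext
    rw [Matrix.SpecialLinearGroup.coe_mul, Matrix.SpecialLinearGroup.coe_mul, Matrix.SpecialLinearGroup.coe_inv]
    simp [i, j, Matrix.adjugate_fin_two]
  have hii : i ^ 2 ≠ 1 := fun h => h2p (by
    have h' : (!![0, 1; -1, 0] : Matrix (Fin 2) (Fin 2) (ZMod p)) ^ 2 = 1 := congrArg Subtype.val h
    have := congrFun (congrFun h' 0) 0
    simp [pow_two] at this
    linear_combination -this)
  have hjj : j ^ 2 ≠ 1 := fun h => h2p (by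
    have h' : (j : Matrix (Fin 2) (Fin 2) (ZMod p)) ^ 2 = 1 := congrArg Subtype.val h
    rw [pow_two (j : Matrix (Fin 2) (Fin 2) (ZMod p)), hj2] at h'
    have := congrFun (congrFun h' 0) 0
    simp at this
    linear_combination -this)
  have hne : i * j ≠ j * i := fun h => hii (by
    rw [hji] at h
    have := mul_right_cancel h
    rw [pow_two]
    nth_rw 2 [this]
    exact mul_inv_cancel i)
  have hQ : IsPGroup 2 ↥(Subgroup.zpowers j ⊔ Subgroup.zpowers i : Subgroup SL(2, ZMod p)) := by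
    have h4 : ∀ g : SL(2, ZMod p), g ^ 4 = 1 → IsPGroup 2 (Subgroup.zpowers g) := fun g hg => by
      obtain ⟨k, -, hk⟩ := (Nat.dvd_prime_pow Nat.prime_two (m := 2)).1 (orderOf_dvd_of_pow_eq_one hg)
      exact IsPGroup.of_card (n := k) (by rw [Nat.card_zpowers, hk])
    refine (h4 j hj4).to_sup_of_normal_right' (h4 i hi4) ?_
    rw [Subgroup.zpowers_le, Subgroup.mem_normalizer_iff_map_conj_eq, MonoidHom.map_zpowers]
    show Subgroup.zpowers (j * i * j⁻¹) = _
    rw [hji, mul_inv_cancel_right, Subgroup.zpowers_inv]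
  -- a 2-subgroup mapping onto it
  set M : Subgroup L := (Subgroup.zpowers j ⊔ Subgroup.zpowers i).comap f with hM
  set f' : ↥M →* ↥(Subgroup.zpowers j ⊔ Subgroup.zpowers i : Subgroup SL(2, ZMod p)) := f.subgroupComap _ with hf'
  have hf's : Function.Surjective f' := by
    rintro ⟨y, hy⟩
    obtain ⟨x, rfl⟩ := hf y
    exact ⟨⟨x, hy⟩, rfl⟩
  obtain ⟨T⟩ : Nonempty (Sylow 2 ↥M) := inferInstance
  have hTf : ∀ y, ∃ x ∈ (T : Subgroup ↥M), f' x = y := fun y => by
    have h2 := ((T.mapSurjective hf's).is_maximal' (Q := ⊤) (hQ.of_equiv Subgroup.topEquiv.symm) le_top).le (Subgroup.mem_top y)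
    exact h2
  obtain ⟨X, hX, hXi⟩ := hTf ⟨i, Subgroup.mem_sup_right (Subgroup.mem_zpowers i)⟩
  obtain ⟨Y, hY, hYj⟩ := hTf ⟨j, Subgroup.mem_sup_left (Subgroup.mem_zpowers j)⟩
  -- the centre of the 2-subgroup contains an involution
  haveI : Nontrivial ↥(T : Subgroup ↥M) := ⟨⟨⟨X, hX⟩, 1, fun h => hii (by
    have hX1 : X = 1 := congrArg Subtype.val h
    rw [hX1, map_one] at hXi
    have : (1 : SL(2, ZMod p)) = i := congrArg Subtype.val hXi
    rw [← this, one_pow])⟩⟩
  haveI := T.2.center_nontrivial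
  obtain ⟨z, hz⟩ := exists_prime_orderOf_dvd_card' (G := Subgroup.center ↥(T : Subgroup ↥M)) 2
    (((T.2.to_subgroup _).card_eq_or_dvd).resolve_left (by
      have := Finite.one_lt_card (α := Subgroup.center ↥(T : Subgroup ↥M)); omega))
  set π : SL(2, F) →* Matrix.ProjectiveSpecialLinearGroup (Fin 2) F := QuotientGroup.mk' _ with hπ
  have hker : ∀ g, π g = 1 → g = 1 ∨ g = -1 := fun g hg => by
    obtain ⟨r, hr, hr'⟩ := Matrix.SpecialLinearGroup.mem_center_iff.1 ((QuotientGroup.eq_one_iff g).1 hg)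
    rw [Fintype.card_fin, pow_two, mul_self_eq_one_iff] at hr
    rcases hr with rfl | rfl
    · left; apply Subtype.ext; rw [← hr', map_one]; rfl
    · right; apply Subtype.ext; rw [← hr', map_neg, map_one]; simp
  set t : Matrix.ProjectiveSpecialLinearGroup (Fin 2) F :=
    ((((z : ↥(T : Subgroup ↥M)) : ↥M) : ↥L) : Matrix.ProjectiveSpecialLinearGroup (Fin 2) F) with ht
  have hto : orderOf t = 2 := by
    rw [ht, Subgroup.orderOf_coe, Subgroup.orderOf_coe, Subgroup.orderOf_coe, Subgroup.orderOf_coe, hz]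
  obtain ⟨τ, hτ⟩ := QuotientGroup.mk'_surjective _ t
  have hτ1 : τ ≠ 1 := fun h => by rw [← hτ, h, map_one, orderOf_one] at hto; omega
  have hτm : τ ≠ -1 := fun h => by
    have h1 : π (-1) = 1 := (QuotientGroup.eq_one_iff _).2 (Subgroup.mem_center_iff.2 fun g => by
      apply Subtype.ext; simp)
    rw [← hτ, h] at hto
    rw [show QuotientGroup.mk' _ (-1 : SL(2, F)) = 1 from h1, orderOf_one] at hto
    omega
  have key : ∀ W ∈ (T : Subgroup ↥M), ∀ g : SL(2, F),
      π g = (((W : ↥M) : ↥L) : Matrix.ProjectiveSpecialLinearGroup (Fin 2) F) → τ * g = g * τ ∨ π (g * g) = 1 := by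
    intro W hW g hg
    have hc0 := congrArg (fun u : ↥(T : Subgroup ↥M) => (((u : ↥M) : ↥L) : Matrix.ProjectiveSpecialLinearGroup (Fin 2) F))
      (Subgroup.mem_center_iff.1 z.2 ⟨W, hW⟩)
    have hcomm : π g * t = t * π g := by rw [hg]; exact hc0
    rw [← hτ] at hcomm
    have h1 : π (τ * g * (g * τ)⁻¹) = 1 := by
      rw [map_mul, map_mul, map_inv, map_mul, mul_inv_eq_one]
      exact hcomm.symm
    rcases hker _ h1 with h | h
    · exact Or.inl (mul_inv_eq_one.1 h)
    · right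
      have h' : τ * g = -(g * τ) := by
        have := mul_inv_eq_iff_eq_mul.1 h
        rw [this]; simp
      have h'' : (τ : Matrix (Fin 2) (Fin 2) F) * g = -((g : Matrix (Fin 2) (Fin 2) F) * τ) := by
        have := congrArg Subtype.val h'
        simpa using this
      have htr : (g : Matrix (Fin 2) (Fin 2) F).trace = 0 := by
        have h3 : ((τ⁻¹ : SL(2, F)) : Matrix (Fin 2) (Fin 2) F) * τ = 1 := by
          rw [← Matrix.SpecialLinearGroup.coe_mul, inv_mul_cancel, Matrix.SpecialLinearGroup.coe_one]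
        have h3' : (τ : Matrix (Fin 2) (Fin 2) F) * ((τ⁻¹ : SL(2, F)) : Matrix (Fin 2) (Fin 2) F) = 1 := by
          rw [← Matrix.SpecialLinearGroup.coe_mul, mul_inv_cancel, Matrix.SpecialLinearGroup.coe_one]
        have h4 : (((τ⁻¹ : SL(2, F)) : Matrix (Fin 2) (Fin 2) F) * ((τ : Matrix (Fin 2) (Fin 2) F) * g)).trace =
            (g : Matrix (Fin 2) (Fin 2) F).trace := by rw [← mul_assoc, h3, one_mul]
        rw [h'', mul_neg, Matrix.trace_neg, Matrix.trace_mul_comm, mul_assoc, h3', mul_one] at h4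
        have h5 : (2 : F) * (g : Matrix (Fin 2) (Fin 2) F).trace = 0 := by linear_combination -h4
        exact (mul_eq_zero.1 h5).resolve_left h2
      have hgg : g * g = -1 := by
        apply Subtype.ext
        have := CfsgLib.Classical.sl2_sq g
        rw [htr, zero_smul, zero_sub] at this
        rw [Matrix.SpecialLinearGroup.coe_mul, this]; simp
      rw [hgg]
      exact (QuotientGroup.eq_one_iff _).2 (Subgroup.mem_center_iff.2 fun g => by apply Subtype.ext; simp)
  obtain ⟨gX, hgX⟩ := QuotientGroup.mk'_surjective _ (((X : ↥M) : ↥L) : Matrix.ProjectiveSpecialLinearGroup (Fin 2) F)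
  obtain ⟨gY, hgY⟩ := QuotientGroup.mk'_surjective _ (((Y : ↥M) : ↥L) : Matrix.ProjectiveSpecialLinearGroup (Fin 2) F)
  have sq : ∀ W : ↥M, ∀ g : SL(2, F), π g = (((W : ↥M) : ↥L) : Matrix.ProjectiveSpecialLinearGroup (Fin 2) F) →
      π (g * g) = 1 → f (W : ↥L) ^ 2 = 1 := by
    intro W g hg hgg
    rw [map_mul, hg] at hgg
    have : (W : ↥L) * (W : ↥L) = 1 := Subtype.ext hgg
    rw [pow_two, ← map_mul, this, map_one]
  have hXi' : f (X : ↥L) = i := congrArg Subtype.val hXi
  have hYj' : f (Y : ↥L) = j := congrArg Subtype.val hYj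
  have cX : τ * gX = gX * τ := (key X hX gX hgX).resolve_right fun h => hii (hXi' ▸ sq X gX hgX h)
  have cY : τ * gY = gY * τ := (key Y hY gY hgY).resolve_right fun h => hjj (hYj' ▸ sq Y gY hgY h)
  have hXY := CfsgLib.Involution.SL2Redundant.commute_of_commute τ hτ1 hτm cX cY
  have hXY' : (X : ↥L) * Y = Y * X := Subtype.ext (by
    rw [Subgroup.coe_mul, Subgroup.coe_mul, ← hgX, ← hgY, ← map_mul, ← map_mul, hXY])
  exact hne (by rw [← hXi', ← hYj', ← map_mul, ← map_mul, hXY'])

/-- Let p be a prime and let H act by conjugation on the elementary abelian p-subgroup V of a finite group, irreducibly (no H-invariant subgroups of V other than 1 and V) and nontrivially, and suppose H/C_H(V) is isomorphic to PSL₂(F) for a field F with p^n elements, p^n odd, or p = 3 and H/C_H(V) is isomorphic to a Ree group ²G₂(3^(2m+1)), m ≥ 1. Then no subgroup A of H acting nontrivially on V acts quadratically: [V, A, A] = 1 forces [V, A] = 1. -/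
theorem result {G : Type*} [Group G] [Finite G] {p : ℕ} [Fact p.Prime] (V H : Subgroup G) (hV : Cfsg.IsElementaryAbelian p V) (hHV : H ≤ Subgroup.normalizer (V : Set G)) (hirr : ∀ U : Subgroup G, U ≤ V → H ≤ Subgroup.normalizer (U : Set G) → U = ⊥ ∨ U = V) (hnt : ¬ H ≤ Subgroup.centralizer (V : Set G)) [hn : ((Subgroup.centralizer (V : Set G)).subgroupOf H).Normal] (hq : (∃ (F : Type) (_ : Field F) (_ : Fintype F) (n : ℕ), Fintype.card F = p ^ n ∧ Odd (Fintype.card F) ∧ Nonempty (↥H ⧸ (Subgroup.centralizer (V : Set G)).subgroupOf H ≃* Matrix.ProjectiveSpecialLinearGroup (Fin 2) F)) ∨ (p = 3 ∧ Cfsg.Lie.IsoRee (↥H ⧸ (Subgroup.centralizer (V : Set G)).subgroupOf H))) (A : Subgroup G) (hA : A ≤ H) (hquad : ⁅⁅V, A⁆, A⁆ = ⊥) : ⁅V, A⁆ = ⊥ := by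
  classical
  have hp : p ≠ 2 := by
    rcases hq with ⟨F, _, _, n, hn, hodd, -⟩ | ⟨h3, -⟩
    · rintro rfl
      rcases Nat.eq_zero_or_pos n with rfl | h
      · have h1 := Fintype.one_lt_card (α := F); rw [hn] at h1; simp at h1
      · rw [hn] at hodd
        exact (Nat.not_odd_iff_even.2 (by simp [Nat.even_pow, h.ne'])) hodd
    · omega
  haveI : IsMulCommutative V := hV.1
  set C := (Subgroup.centralizer (V : Set G)).subgroupOf H with hC
  set Q := ↥H ⧸ C
  set ρ := CfsgLib.Fusion.QuadStable.conjEnd V H hHV with hρ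
  have hkerρ : ρ.ker = C := by
    ext x
    rw [MonoidHom.mem_ker, Subgroup.mem_subgroupOf]
    constructor
    · intro hx
      refine Subgroup.mem_centralizer_iff.mpr fun v hv => ?_
      have := CfsgLib.Fusion.QuadStable.conjEnd_apply V H hHV x (Additive.ofMul ⟨v, hv⟩)
      rw [← hρ, hx] at this
      exact (mul_inv_eq_iff_eq_mul.mp this.symm).symm
    · intro hx
      refine Units.ext (AddMonoidHom.ext fun v => Additive.toMul.injective (Subtype.ext ?_))
      refine (CfsgLib.Fusion.QuadStable.conjEnd_apply V H hHV x v).trans ?_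
      rw [← Subgroup.mem_centralizer_iff.1 hx _ (Additive.toMul v).2, mul_inv_cancel_right]
      rfl
  set ρ' : Q →* (AddMonoid.End (Additive ↥V))ˣ := QuotientGroup.lift C ρ hkerρ.ge with hρ'
  have hinj : Function.Injective ρ' := by
    rw [injective_iff_map_eq_one]
    intro x hx
    obtain ⟨x, rfl⟩ := QuotientGroup.mk_surjective x
    exact (QuotientGroup.eq_one_iff x).2 (hkerρ.le hx)
  -- no normal `p`-subgroup
  have hcore : Cfsg.pCore p Q = ⊥ := by
    set N := Cfsg.pCore p Q with hN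
    let U : Subgroup G :=
      { carrier := {v | v ∈ V ∧ ∀ h : ↥H, (h : Q) ∈ N → (h : G) * v * (h : G)⁻¹ = v}
        one_mem' := ⟨one_mem V, fun h _ => by simp⟩
        mul_mem' := fun {x y} hx hy => ⟨mul_mem hx.1 hy.1, fun h hh => by
          rw [show (h : G) * (x * y) * (h : G)⁻¹ = ((h : G) * x * (h : G)⁻¹) * ((h : G) * y * (h : G)⁻¹) by group, hx.2 h hh, hy.2 h hh]⟩
        inv_mem' := fun {x} hx => ⟨inv_mem hx.1, fun h hh => by
          rw [show (h : G) * x⁻¹ * (h : G)⁻¹ = ((h : G) * x * (h : G)⁻¹)⁻¹ by group, hx.2 h hh]⟩ }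
    have hUn : H ≤ Subgroup.normalizer (U : Set G) := by
      refine Subgroup.le_normalizer_iff.2 fun g hg v hv => ⟨(Subgroup.mem_normalizer_iff.1 (hHV hg) v).1 hv.1, fun h hh => ?_⟩
      have h1 := hv.2 (⟨g, hg⟩⁻¹ * h * ⟨g, hg⟩) (by
        have := (inferInstance : N.Normal).conj_mem _ hh ((⟨g, hg⟩ : ↥H) : Q)⁻¹
        rw [inv_inv] at this
        exact this)
      simp only [Subgroup.coe_mul, Subgroup.coe_inv] at h1
      calc (h : G) * (g * v * g⁻¹) * (h : G)⁻¹ = g * ((g⁻¹ * h * g) * v * (g⁻¹ * h * g)⁻¹) * g⁻¹ := by group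
        _ = _ := by rw [h1]
    rcases hirr U (fun v hv => hv.1) hUn with hU | hU
    · exfalso
      letI : MulAction ↥N (Additive ↥V) :=
        MulAction.compHom _ ((Units.coeHom (AddMonoid.End (Additive ↥V))).comp (ρ'.comp N.subtype))
      have hVne : V ≠ ⊥ := fun h => hnt (by rw [h]; intro x _ y hy; rw [Subgroup.mem_bot.1 hy, one_mul, mul_one])
      obtain ⟨v0, hv0, hv01⟩ := (Subgroup.bot_or_exists_ne_one V).resolve_left hVne
      have hpV : p ∣ Nat.card (Additive ↥V) := by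
        have h1 : IsPGroup p ↥V := fun v => ⟨1, Subtype.ext (by simpa using hV.2 v v.2)⟩
        rcases h1.card_eq_or_dvd with h | h
        · exact absurd (Subgroup.eq_bot_of_card_eq _ h) hVne
        · exact h
      obtain ⟨w, hw, hwne⟩ := (CfsgLib.Solvable.Cores.isPGroup_pCore (G := Q) p).exists_fixed_point_of_prime_dvd_card_of_fixed_point
        (Additive ↥V) hpV (a := 0) (fun n => map_zero ((ρ' (n : Q) : AddMonoid.End (Additive ↥V))))
      have hmem : ((Additive.toMul w : ↥V) : G) ∈ U := ⟨(Additive.toMul w).2, fun h hh => by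
        have h1 : (ρ' (h : Q) : AddMonoid.End (Additive ↥V)) w = w := hw ⟨(h : Q), hh⟩
        have h2 := CfsgLib.Fusion.QuadStable.conjEnd_apply V H hHV h w
        rw [← h2]
        exact congrArg (fun u : Additive ↥V => ((Additive.toMul u : ↥V) : G)) h1⟩
      rw [hU, Subgroup.mem_bot] at hmem
      exact hwne (show (0 : Additive ↥V) = w from Additive.toMul.injective (Subtype.ext hmem.symm))
    · rw [eq_bot_iff]
      intro x hx
      obtain ⟨h, rfl⟩ := QuotientGroup.mk_surjective x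
      rw [Subgroup.mem_bot, QuotientGroup.eq_one_iff, hC, Subgroup.mem_subgroupOf, Subgroup.mem_centralizer_iff]
      intro v hv
      have := (hU.ge hv).2 h hx
      exact (mul_inv_eq_iff_eq_mul.1 this).symm
  rw [Subgroup.commutator_eq_bot_iff_le_centralizer]
  suffices hAC : ∀ a ∈ A, a ∈ Subgroup.centralizer (V : Set G) by
    exact fun v hv a ha => (hAC a ha v hv).symm
  intro a ha
  by_contra hac
  have hq2 : ⁅⁅V, Subgroup.zpowers a⁆, Subgroup.zpowers a⁆ = ⊥ := le_bot_iff.1 (hquad ▸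
    Subgroup.commutator_mono (Subgroup.commutator_mono le_rfl (Subgroup.zpowers_le.2 ha)) (Subgroup.zpowers_le.2 ha))
  have hQuad : CfsgLib.Fusion.QuadStable.IsQuad ρ' ((⟨a, hA ha⟩ : ↥H) : Q) := fun u =>
    CfsgLib.Fusion.QuadStable.conjEnd_isQuad hHV (hA ha) hq2 u
  have hna : ((⟨a, hA ha⟩ : ↥H) : Q) ∉ Cfsg.pCore p Q := by
    rw [hcore, Subgroup.mem_bot, QuotientGroup.eq_one_iff]
    exact hac
  rcases hq with ⟨F, _, _, n, hn', hodd, ⟨e⟩⟩ | ⟨h3, K, _, _, m, hm, hK, ⟨e⟩⟩
  · have h2 : (2 : F) ≠ 0 := by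
      intro h
      obtain ⟨c, hc⟩ := CharP.exists F
      have hdvd : c ∣ 2 := (CharP.cast_eq_zero_iff F c 2).1 (by exact_mod_cast h)
      obtain ⟨k, hc', hk⟩ := FiniteField.card F c
      obtain rfl : c = 2 := (Nat.prime_dvd_prime_iff_eq hc' Nat.prime_two).1 hdvd
      rw [hk] at hodd
      exact (Nat.not_odd_iff_even.2 (by simp [Nat.even_pow])) hodd
    refine no_sl2_section h2 hp ?_
    exact (CfsgLib.Fusion.SL2Sections.slp_section_of_not_mem_pCore hp
      (CfsgLib.Fusion.QuadStable.additive_exponent hV) ρ' hinj hQuad hna).of_surjective e.symm.toMonoidHom e.symm.surjective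
  · obtain ⟨T⟩ : Nonempty (Sylow 2 Q) := inferInstance
    refine CfsgLib.Fusion.QuadStable.sylow_two_not_comm_of_not_mem_pCore hp
      (CfsgLib.Fusion.QuadStable.additive_exponent hV) ρ' hinj hQuad hna T ?_
    haveI : Fact (Nat.Prime 2) := ⟨Nat.prime_two⟩
    have hc := (Cfsg.Agent.S1157.result hm hK (T.mapSurjective (f := e.toMonoidHom) e.surjective)).1
    refine IsMulCommutative.of_comm fun s t => Subtype.ext (e.injective ?_)
    have hs : e (s : Q) ∈ ((T.mapSurjective (f := e.toMonoidHom) e.surjective : Sylow 2 ↥(Cfsg.Lie.twistedG2 K (3 ^ m))) : Subgroup ↥(Cfsg.Lie.twistedG2 K (3 ^ m))) :=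
      ⟨_, s.2, rfl⟩
    rw [← hc] at hs
    show e ((s : Q) * t) = e ((t : Q) * s)
    rw [map_mul, map_mul]
    exact (Subgroup.mem_centralizer_iff.1 hs _ ⟨_, t.2, rfl⟩).symm

end Cfsg.Agent.S2787
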