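import Cfsg.Statements.S2791
import Cfsg.Agent.Lib.LocalEven.PReduced
import Cfsg.Agent.Lib.Fusion.Alperin

set_option autoImplicit false
open Cfsg CfsgLib.LocalEven.SylowIn CfsgLib.LocalEven.PReduced CfsgLib.Fusion.Alperin
open scoped commutatorElement

namespace Cfsg.Agent.S2791

variable {G : Type*} [Group G]

/-- The elements of `M`'s centralizer which act trivially on `D` modulo `M`. -/
def stab (D M : Subgroup G) : Subgroup G where
  carrier := {y | y ∈ Subgroup.centralizer (M : Set G) ∧ ∀ d ∈ D, ⁅y, d⁆ ∈ M}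
  one_mem' := ⟨one_mem _, fun d _ => by simp⟩
  mul_mem' := by
    intro y z hy hz
    refine ⟨mul_mem hy.1 hz.1, fun d hd => ?_⟩
    rw [show ⁅y * z, d⁆ = y * ⁅z, d⁆ * y⁻¹ * ⁅y, d⁆ by simp only [commutatorElement_def]; group,
      ← Subgroup.mem_centralizer_iff.1 hy.1 _ (hz.2 d hd), mul_inv_cancel_right]
    exact mul_mem (hz.2 d hd) (hy.2 d hd)
  inv_mem' := by
    intro y hy
    refine ⟨inv_mem hy.1, fun d hd => ?_⟩
    rw [show ⁅y⁻¹, d⁆ = y⁻¹ * ⁅y, d⁆⁻¹ * y by simp only [commutatorElement_def]; group, mul_assoc,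
      Subgroup.mem_centralizer_iff.1 hy.1 _ (inv_mem (hy.2 d hd)), inv_mul_cancel_left]
    exact inv_mem (hy.2 d hd)

/-- Conjugation of the subgroup `D` by `g` is induced by an element of `N(A)`. -/
def Good (A : Subgroup G) (B : Set G) (g : G) : Prop :=
  ∃ n ∈ Subgroup.normalizer (A : Set G), ∀ a ∈ B, g⁻¹ * a * g = n⁻¹ * a * n

theorem normalizer_of_strong [Finite G] {P A D : Subgroup G} (hsc : IsStronglyClosed A P)
    (hD : D ≤ P) :
    Subgroup.normalizer (D : Set G) ≤ Subgroup.normalizer ((A ⊓ D : Subgroup G) : Set G) := by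
  refine le_normalizer_of_map_conj fun g hg => Subgroup.eq_of_le_of_card_ge ?_ ?_
  · rintro _ ⟨a, ⟨haA, haD⟩, rfl⟩
    have h1 : g * a * g⁻¹ ∈ D := (Subgroup.mem_normalizer_iff.1 hg a).1 haD
    exact ⟨hsc.2 a haA g (hD h1), h1⟩
  · exact (Nat.card_congr ((A ⊓ D).equivMapOfInjective _ (MulAut.conj g).injective).toEquiv).le

/-- One step of the fusion chain. -/
theorem step [Finite G] {p : ℕ} [Fact p.Prime] (P : Sylow p G) {A : Subgroup G}
    (hA : A ≤ Subgroup.centralizer (A : Set G)) (hsc : IsStronglyClosed A (P : Subgroup G))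
    {D : Subgroup G} (hD : D ≤ (P : Subgroup G))
    (hT : IsSylowIn p ((P : Subgroup G) ⊓ Subgroup.normalizer (D : Set G)) (Subgroup.normalizer (D : Set G)))
    (IH : ∀ E : Subgroup G, E ≤ (P : Subgroup G) → D < E → ∀ g : G,
      (∀ a ∈ E, g⁻¹ * a * g ∈ (P : Subgroup G)) → Good A (E : Set G) g)
    {x : G} (hx : x ∈ Subgroup.normalizer (D : Set G)) : Good A (D : Set G) x := by
  set N := Subgroup.normalizer (D : Set G)
  by_cases hAD : A ≤ D
  · refine ⟨x, ?_, fun a _ => rfl⟩
    have h := normalizer_of_strong hsc hD hx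
    rwa [inf_eq_left.2 hAD] at h
  set M := A ⊓ D
  set K := N ⊓ stab D M
  have hMN : N ≤ Subgroup.normalizer (M : Set G) := normalizer_of_strong hsc hD
  have hKn : N ≤ Subgroup.normalizer (K : Set G) := by
    refine normalizer_inf Subgroup.le_normalizer ?_
    refine le_normalizer_of_map_conj fun g hg => Subgroup.eq_of_le_of_card_ge ?_ ?_
    · rintro _ ⟨y, hy, rfl⟩
      refine ⟨?_, fun d hd => ?_⟩
      · rw [← map_conj_eq_iff.2 (hMN hg), centralizer_map_conj]
        exact ⟨y, hy.1, rfl⟩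
      · have hd' : g⁻¹ * d * g ∈ D := (Subgroup.mem_normalizer_iff''.1 hg d).1 hd
        have h1 := (Subgroup.mem_normalizer_iff.1 (hMN hg) _).1 (hy.2 _ hd')
        rwa [show g * ⁅y, g⁻¹ * d * g⁆ * g⁻¹ = ⁅MulAut.conj g y, d⁆ by
          simp only [commutatorElement_def, MulAut.conj_apply]; group] at h1
    · exact (Nat.card_congr ((stab D M).equivMapOfInjective _ (MulAut.conj g).injective).toEquiv).le
  set R := (P : Subgroup G) ⊓ K
  have hR : IsSylowIn p R K := by
    have h := IsSylowIn.inf_normal hT (inf_le_left : K ≤ N) hKn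
    rwa [show ((P : Subgroup G) ⊓ N) ⊓ K = R from by rw [inf_assoc, inf_eq_right.2 (inf_le_left : K ≤ N)]] at h
  have hcop : ∀ y ∈ K, (orderOf y).Coprime p → y ∈ Subgroup.centralizer (D : Set G) := fun y hy hc =>
    Subgroup.mem_centralizer_iff.2 fun d hd =>
      (CfsgLib.Coprime.commute_of_stabilizes (N := M)
        (CfsgLib.LocalEven.Residual.mem_of_coprime_card ((P.2.to_le hD).to_le inf_le_right) hc)
        hy.2.1 (hy.2.2 d hd)).eq.symm
  have hKR : K ≤ R ⊔ Subgroup.centralizer (D : Set G) :=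
    le_of_coprime_of_sylow hR (fun y hy hc => Subgroup.mem_sup_right (hcop y hy hc)) le_sup_left
  obtain ⟨l, hl, n, hn, rfl⟩ := frattini_argument hR hKn inf_le_left hx
  have hl' := hKR hl
  rw [← SetLike.mem_coe, Subgroup.coe_mul_of_left_le_normalizer_right _ _
    ((inf_le_right.trans inf_le_left).trans (normalizer_centralizer le_rfl))] at hl'
  obtain ⟨r, hr, c, hc, rfl⟩ := Set.mem_mul.1 hl'
  have hrN : r ∈ N := hr.2.1
  set m := r * n
  have hmN : m ∈ N := mul_mem hrN hn.1
  have hmR : m ∈ Subgroup.normalizer (R : Set G) := mul_mem (Subgroup.le_normalizer hr) hn.2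
  have hc' : r * c * r⁻¹ ∈ Subgroup.centralizer (D : Set G) :=
    (Subgroup.mem_normalizer_iff.1 (normalizer_centralizer le_rfl hrN) c).1 hc
  have hxm : r * c * n = r * c * r⁻¹ * m := by simp [m, mul_assoc]
  -- `R D` is larger than `D`
  have hDA : D < D ⊔ R := by
    refine lt_of_le_of_ne le_sup_left fun he => hAD ?_
    have hRD : R ≤ D := he ▸ le_sup_right
    have hAP : A ≤ (P : Subgroup G) := hsc.1
    by_contra hnot
    have hlt : D.subgroupOf (D ⊔ A) < ⊤ := lt_top_iff_ne_top.2 fun h =>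
      hnot fun a ha => (SetLike.ext_iff.1 h ⟨a, Subgroup.mem_sup_right ha⟩).2 (Subgroup.mem_top _)
    haveI := (P.2.to_le (sup_le hD hAP)).isNilpotent
    obtain ⟨u, hu, hu'⟩ := SetLike.exists_of_lt (Group.normalizerCondition_of_isNilpotent _ hlt)
    have huN : (u : G) ∈ N := by
      refine Subgroup.mem_normalizer_iff.2 fun z => ⟨fun hz => ?_, fun hz => ?_⟩
      · exact (Subgroup.mem_normalizer_iff.1 hu ⟨z, Subgroup.mem_sup_left hz⟩).1 hz
      · have hz' : z ∈ D ⊔ A := by
          have := mul_mem (mul_mem (inv_mem u.2) (Subgroup.mem_sup_left (T := A) hz)) u.2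
          simpa [mul_assoc] using this
        exact (Subgroup.mem_normalizer_iff.1 hu ⟨z, hz'⟩).2 hz
    have hAn : D ≤ Subgroup.normalizer (A : Set G) := by
      refine le_trans hD (le_trans (le_inf le_rfl Subgroup.le_normalizer) ?_)
      refine (inf_le_right.trans (normalizer_of_strong hsc le_rfl)).trans (le_of_eq ?_)
      rw [inf_eq_left.2 hAP]
    have hu2 := u.2
    rw [← SetLike.mem_coe, Subgroup.coe_mul_of_left_le_normalizer_right _ _ hAn] at hu2
    obtain ⟨d, hd, a, ha, he2⟩ := Set.mem_mul.1 hu2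
    refine hu' (?_ : (u : G) ∈ D)
    rw [← he2]
    have haN : a ∈ N := by
      rw [show a = d⁻¹ * (d * a) by group, he2]
      exact mul_mem (inv_mem (Subgroup.le_normalizer hd)) huN
    refine mul_mem hd (hRD ⟨hAP ha, haN, ?_, fun e he' => ?_⟩)
    · exact Subgroup.centralizer_le inf_le_left (hA ha)
    · refine Subgroup.mem_inf.2 ⟨?_, ?_⟩
      · rw [commutatorElement_def, mul_assoc, mul_assoc]
        refine mul_mem ha ?_
        rw [← mul_assoc]
        exact (Subgroup.mem_normalizer_iff.1 (hAn he') a⁻¹).1 (inv_mem ha)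
      · rw [commutatorElement_def]
        exact mul_mem ((Subgroup.mem_normalizer_iff.1 haN e).1 he') (inv_mem he')
  have hEP : D ⊔ R ≤ (P : Subgroup G) := sup_le hD inf_le_left
  have hmE : m ∈ Subgroup.normalizer ((D ⊔ R : Subgroup G) : Set G) :=
    normalizer_sup (A := D) (B := R) inf_le_left inf_le_right ⟨hmN, hmR⟩
  obtain ⟨k, hk, hkE⟩ := IH _ hEP hDA m fun a ha => hEP ((Subgroup.mem_normalizer_iff''.1 hmE a).1 ha)
  refine ⟨k, hk, fun a ha => ?_⟩
  rw [← hkE a (Subgroup.mem_sup_left (T := R) ha), hxm]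
  calc (r * c * r⁻¹ * m)⁻¹ * a * (r * c * r⁻¹ * m)
      = m⁻¹ * ((r * c * r⁻¹)⁻¹ * (a * (r * c * r⁻¹))) * m := by group
    _ = _ := by rw [Subgroup.mem_centralizer_iff.1 hc' a ha, inv_mul_cancel_left]

theorem good_of_le [Finite G] {p : ℕ} [Fact p.Prime] (P : Sylow p G) {A : Subgroup G}
    (hA : A ≤ Subgroup.centralizer (A : Set G)) (hsc : IsStronglyClosed A (P : Subgroup G)) :
    ∀ (k : ℕ) (D : Subgroup G), Nat.card (P : Subgroup G) - Nat.card D = k → D ≤ (P : Subgroup G) →
      ∀ g : G, (∀ a ∈ D, g⁻¹ * a * g ∈ (P : Subgroup G)) → Good A (D : Set G) g := by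
  intro k
  induction k using Nat.strong_induction_on with
  | _ k ih =>
    intro D hk hD g hg
    suffices h : ∀ (B : Set G) (y : G), Chain P B y → Nat.card D ≤ B.ncard → Good A B y by
      refine h _ g (chain_of_conj P _ g hD ?_) (le_of_eq (Nat.card_coe_set_eq _))
      rintro _ ⟨a, ha, rfl⟩
      exact hg a ha
    intro B y hch
    induction hch with
    | nil B hB => exact fun _ => ⟨1, one_mem _, fun a _ => rfl⟩
    | cons B Q x y ht hx hB _ ih2 =>
      intro hcard
      set D' := (P : Subgroup G) ⊓ (Q : Subgroup G)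
      have hTs : IsSylowIn p ((P : Subgroup G) ⊓ Subgroup.normalizer (D' : Set G))
          (Subgroup.normalizer (D' : Set G)) := by
        have h := IsSylowIn.of_map_subtype
          (CfsgLib.Fusion.Basic.sylowSubgroupOf inf_le_right (P.2.to_le inf_le_left) ht.1)
        rwa [CfsgLib.Fusion.Basic.map_sylowSubgroupOf] at h
      have hle : Nat.card D ≤ Nat.card D' := hcard.trans
        (((Set.ncard_le_ncard hB (Set.toFinite _))).trans (le_of_eq (Nat.card_coe_set_eq _).symm))
      obtain ⟨n, hn, hnD⟩ := step P hA hsc inf_le_left hTs (fun E hE hlt g' hg' => by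
        have h1 : Nat.card D' < Nat.card E := lt_of_le_of_ne (Subgroup.card_le_of_le hlt.le)
          fun h => hlt.ne (Subgroup.eq_of_le_of_card_ge hlt.le h.ge)
        have h2 := Subgroup.card_le_of_le hE
        exact ih _ (by omega) E rfl hE g' hg') hx
      obtain ⟨n', hn', hnB⟩ := ih2 (by
        rwa [Set.ncard_image_of_injective _ (fun a b h => by simpa using h)])
      refine ⟨n * n', mul_mem hn hn', fun a ha => ?_⟩
      calc (x * y)⁻¹ * a * (x * y) = y⁻¹ * (x⁻¹ * a * x) * y := by group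
        _ = n'⁻¹ * (x⁻¹ * a * x) * n' := hnB _ ⟨a, ha, rfl⟩
        _ = n'⁻¹ * (n⁻¹ * a * n) * n' := by rw [hnD a (hB ha)]
        _ = _ := by group

/-- Let S be a Sylow p-subgroup of the finite group G and A an abelian subgroup of S that is strongly closed in S with respect to G. Then A controls strong fusion in G: for some Sylow p-subgroup T containing A, whenever a subset of T is conjugated into T by an element of G, the same elementwise conjugation is induced by an element of N_G(A). -/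
theorem result {G : Type*} [Group G] [Finite G] {p : ℕ} [Fact p.Prime] (S : Sylow p G) (A : Subgroup G) (hA : IsMulCommutative ↥A) (hsc : Cfsg.IsStronglyClosed A (S : Subgroup G)) : Cfsg.ControlsStrongFusion p A := by
  have hA' : A ≤ Subgroup.centralizer (A : Set G) := Subgroup.le_centralizer A
  refine ⟨S, hsc.1, fun B hB => ⟨hB, fun g hg => ?_⟩⟩
  obtain ⟨n, hn, h⟩ := good_of_le S hA' hsc _ (Subgroup.closure B) rfl ((Subgroup.closure_le _).2 hB) g⁻¹
    fun a ha => by
      rw [inv_inv]
      have h1 : g * a * g⁻¹ ∈ (Subgroup.closure B).map (MulAut.conj g).toMonoidHom := ⟨a, ha, rfl⟩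
      rw [MonoidHom.map_closure] at h1
      exact (Subgroup.closure_le _).2 hg h1
  refine ⟨n⁻¹, inv_mem hn, fun a ha => ?_⟩
  simpa using h a (Subgroup.subset_closure ha)

end Cfsg.Agent.S2791
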