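import Cfsg.Statements.S2794
import Cfsg.Agent.Lib.LocalEvenB.ZJClosedStatements
import Cfsg.Agent.S2763
import Cfsg.Agent.Lib.Components.QdRankTwo
import Cfsg.Agent.Lib.FusionSystem.SectionFreeGroup

set_option autoImplicit false
open Cfsg

namespace Cfsg.Agent.S2794

/-- For an odd prime p and a finite group G, the group Qd(p) is not involved in G if and only if in every section K/R of G, for every Sylow p-subgroup S* of K/R, the centre of J(S*) (J generated by the abelian subgroups of largest order) controls strong fusion in K/R. -/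
theorem result {G : Type*} [Group G] [Finite G] {p : ℕ} [Fact p.Prime] (hp : p ≠ 2) : ¬ Cfsg.Involves ↥(Cfsg.qd p) G ↔ ∀ (K R : Subgroup G) [hR : (R.subgroupOf K).Normal], ∀ T : Sylow p (K ⧸ R.subgroupOf K), Cfsg.ControlsStrongFusion p (Cfsg.centerThompsonAOf (T : Subgroup (K ⧸ R.subgroupOf K))) := by
  open CfsgLib.Fusion.ZJGeneral CfsgLib.LocalEvenB.ZJControl CfsgLib.LocalEvenB.ZJClosedStatements in
  constructor
  · intro hfree K R hR T
    have hfree' : ¬ Cfsg.Involves ↥(Cfsg.qd p) (K ⧸ R.subgroupOf K) := fun h => hfree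
      (CfsgLib.Fusion.QdSections.hasQdSection_iff.mp
        (((CfsgLib.Fusion.QdSections.hasQdSection_iff.mpr h).of_surjective (QuotientGroup.mk' _)
          (QuotientGroup.mk'_surjective _)).of_subgroup K))
    have hcl : Cfsg.IsStronglyClosed (T : Subgroup (K ⧸ R.subgroupOf K)) (T : Subgroup (K ⧸ R.subgroupOf K)) :=
      ⟨le_rfl, fun _ _ _ h => h⟩
    rw [centerThompsonAOf_eq T le_rfl]
    exact ⟨T, Z_le _, fun A hA => controls_of_ctrl (ctrl_of_qdFree hp (odd_expo hp T) (dvd_expo T) hfree' T hcl) A hA⟩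
  · rintro h ⟨K, R, hR, ⟨e⟩⟩
    obtain ⟨T⟩ : Nonempty (Sylow p (K ⧸ R.subgroupOf K)) := inferInstance
    have hctl := h K R T
    rw [centerThompsonAOf_eq T le_rfl] at hctl
    set m := expo T with hm
    obtain ⟨T', hUT', hT'⟩ := hctl
    set X := K ⧸ R.subgroupOf K
    let φ : X →* ↥(Cfsg.qd p) := e.toMonoidHom
    set Tq : Sylow p ↥(Cfsg.qd p) := T.mapSurjective (f := φ) e.surjective with hTq
    have hUq : Z m (Tq : Subgroup ↥(Cfsg.qd p)) = (Z m (T : Subgroup X)).map φ := Z_map e (T : Subgroup X)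
    set U' := Z m (⊤ : Subgroup ↥(Tq : Subgroup ↥(Cfsg.qd p))) with hU'
    have hU'map : U'.map (Tq : Subgroup ↥(Cfsg.qd p)).subtype = Z m (Tq : Subgroup ↥(Cfsg.qd p)) := by
      rw [hU', ← CfsgLib.Fusion.ZJConstrained.Z_map_inj _ (Subgroup.subtype_injective _), ← MonoidHom.range_eq_map,
        Subgroup.range_subtype]
    have hchar : U'.Characteristic := Subgroup.characteristic_iff_map_eq.mpr fun ψ => by
      rw [hU', ← Z_map ψ, Subgroup.map_top_of_surjective _ ψ.surjective]
    have hTqne : (Tq : Subgroup ↥(Cfsg.qd p)) ≠ ⊥ := by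
      intro hb
      set y : ↥(Cfsg.qd p) := ⟨CfsgLib.Components.QdRankTwo.tX 1, CfsgLib.Components.QdRankTwo.tX_mem 1⟩ with hy
      have hyp : y ^ p = 1 := Subtype.ext (CfsgLib.Components.QdRankTwo.tX_pow_p 1)
      have hyP : IsPGroup p (Subgroup.zpowers y) := by
        rintro ⟨w, i, rfl⟩
        refine ⟨1, Subtype.ext ?_⟩
        show (y ^ i) ^ p ^ 1 = 1
        rw [pow_one, ← zpow_natCast, ← zpow_mul, mul_comm, zpow_mul, zpow_natCast, hyp, one_zpow]
      obtain ⟨g, hg⟩ := CfsgLib.KGroups.Functor.exists_conjG_le Tq hyP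
      rw [hb, le_bot_iff, Subgroup.map_eq_bot_iff_of_injective _ (MulAut.conj g).injective,
        Subgroup.zpowers_eq_bot] at hg
      have h1 : CfsgLib.Components.QdRankTwo.tX (p := p) 1 = CfsgLib.Components.QdRankTwo.tX 0 := by
        rw [CfsgLib.Components.QdRankTwo.tX_zero]; exact congrArg Subtype.val hg
      exact one_ne_zero (CfsgLib.Components.QdRankTwo.tX_injective h1)
    have hU'ne : U' ≠ ⊥ := fun hb => CfsgLib.LocalEvenB.ZJClosed.Z_ne_bot (m := m) (dvd_expo T) Tq.2 hTqne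
      (by rw [← hU'map, hb, Subgroup.map_bot])
    obtain ⟨hN, hNne⟩ := S2763.result Tq U' hU'ne hchar
    rw [hU'map] at hN
    obtain ⟨V, -, hVn, hV, -, -, -, hCV, -⟩ := CfsgLib.Fsys.qd_structure (p := p) hp
    have := hVn
    have hV' : IsPGroup p (V.comap φ) := hV.comap_of_injective φ e.injective
    refine hNne (eq_top_iff.mpr fun g _ => ?_)
    obtain ⟨g, rfl⟩ := e.surjective g
    obtain ⟨x, hx, hag⟩ := (hT' (V.comap φ : Subgroup X) (hV'.le_sylow_of_normal T')).2 g (by
      rintro _ ⟨a, ha, rfl⟩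
      exact hV'.le_sylow_of_normal T' ((inferInstance : (V.comap φ).Normal).conj_mem a ha g))
    have hc : φ (x⁻¹ * g) ∈ V := hCV (Subgroup.mem_centralizer_iff.mpr fun v hv => by
      obtain ⟨a, rfl⟩ := e.surjective v
      show φ a * φ (x⁻¹ * g) = φ (x⁻¹ * g) * φ a
      rw [← map_mul, ← map_mul]
      congr 1
      have h1 := hag a hv
      calc a * (x⁻¹ * g) = x⁻¹ * (x * a * x⁻¹) * g := by group
        _ = _ := by rw [← h1]; group)
    have hφx : φ x ∈ Subgroup.normalizer ((Tq : Subgroup ↥(Cfsg.qd p)) : Set ↥(Cfsg.qd p)) := by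
      rw [← hN, hUq]
      exact Subgroup.le_normalizer_map φ (Subgroup.mem_map_of_mem φ hx)
    show φ g ∈ _
    rw [show g = x * (x⁻¹ * g) by group, map_mul]
    exact mul_mem hφx (Subgroup.le_normalizer (hV.le_sylow_of_normal Tq hc))

end Cfsg.Agent.S2794
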