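import Cfsg.Statements.S2796
import Cfsg.Agent.Lib.LocalEven.TwoFactor.GenMain
-- import your own Cfsg.Agent.* helpers here

set_option autoImplicit false
universe u
open Cfsg

namespace Cfsg.Agent.S2796

/-- Let G be a finite group in which the symmetric group of degree 4 is not involved, such that for every section K/R of G with C(O₂(K/R)) ≤ O₂(K/R) every non-abelian composition factor of K/R is a Suzuki group Sz(2^(2n+1)) or PSL₂ over a field with 3^(2n+1) elements. Let S be a Sylow 2-subgroup, J_e(S) the subgroup generated by its elementary abelian subgroups of largest order, and A the normal closure of Ω₁(Z(S)) in N_G(J_e(S)). Then A is an elementary abelian subgroup of S, strongly closed in S with respect to G, and A controls strong fusion in G. -/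
theorem result {G : Type u} [Group G] [Finite G] (hfree : ¬ Cfsg.Involves (Equiv.Perm (Fin 4)) G) (hsec : ∀ (K R : Subgroup G) [hR : (R.subgroupOf K).Normal], Subgroup.centralizer (Cfsg.pCore 2 (K ⧸ R.subgroupOf K) : Set (K ⧸ R.subgroupOf K)) ≤ Cfsg.pCore 2 (K ⧸ R.subgroupOf K) → Cfsg.IsCompositionKGroupWith Cfsg.IsSuzukiOrPSL2OddPowerThree (K ⧸ R.subgroupOf K)) (S : Sylow 2 G) (N : Subgroup G) (hN : N = Subgroup.normalizer (Cfsg.thompsonSubgroupOf 2 (S : Subgroup G) : Set G)) (A : Subgroup G) (hA : A = (Subgroup.normalClosure (((Cfsg.omegaOne 2 ((S : Subgroup G) ⊓ Subgroup.centralizer ((S : Subgroup G) : Set G))).subgroupOf N : Subgroup ↥N) : Set ↥N)).map N.subtype) : A ≤ S ∧ Cfsg.IsElementaryAbelian 2 A ∧ Cfsg.IsStronglyClosed A (S : Subgroup G) ∧ Cfsg.ControlsStrongFusion 2 A := by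
  open CfsgLib.LocalEven.TwoFactor in
  classical
  haveI : Fact (Nat.Prime 2) := ⟨Nat.prime_two⟩
  have hs : HSec G := by
    intro K Y _ _ f hf hc
    set R := f.ker.map K.subtype
    have e : R.subgroupOf K = f.ker := Subgroup.comap_map_eq_self_of_injective K.subtype_injective f.ker
    haveI : (R.subgroupOf K).Normal := e.symm ▸ inferInstance
    let φ : (↥K ⧸ R.subgroupOf K) ≃* Y :=
      (QuotientGroup.quotientMulEquivOfEq e).trans (QuotientGroup.quotientKerEquivOfSurjective f hf)
    have hc' : Subgroup.centralizer (Cfsg.pCore 2 (↥K ⧸ R.subgroupOf K) : Set (↥K ⧸ R.subgroupOf K)) ≤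
        Cfsg.pCore 2 (↥K ⧸ R.subgroupOf K) := by
      intro x hx
      have h1 : φ x ∈ Cfsg.pCore 2 Y := hc (Subgroup.mem_centralizer_iff.2 fun y hy => by
        rw [SetLike.mem_coe, ← CfsgLib.Solvable.Cores.map_pCore φ 2] at hy
        obtain ⟨z, hz, rfl⟩ := hy
        show φ z * φ x = φ x * φ z
        rw [← map_mul, ← map_mul, Subgroup.mem_centralizer_iff.1 hx z hz])
      rw [← CfsgLib.Solvable.Cores.map_pCore φ 2] at h1
      exact (Subgroup.mem_map_iff_mem φ.injective).1 h1
    exact (KG.of_comp _ rfl (hsec K R hc')).of_surjective φ.toMonoidHom φ.surjective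
  have hNJ : N = Subgroup.normalizer (JE (S : Subgroup G) : Set G) := by
    rw [hN, thompsonSubgroupOf_eq_je]
  have hSN : (S : Subgroup G) ≤ N := hNJ ▸ Subgroup.le_normalizer.trans (normalizer_le_je _)
  have hA' : A = ZClosure (S : Subgroup G) := by
    subst hA
    apply le_antisymm
    · rw [Subgroup.normalClosure, MonoidHom.map_closure, Subgroup.closure_le]
      rintro _ ⟨x, hx, rfl⟩
      obtain ⟨z, hz, hzx⟩ := Group.mem_conjugatesOfSet_iff.1 hx
      obtain ⟨n, rfl⟩ := isConj_iff.1 hzx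
      exact Subgroup.subset_closure ⟨(n : G), hNJ ▸ n.2, (z : G), hz, rfl⟩
    · refine (Subgroup.closure_le _).2 ?_
      rintro _ ⟨n, hn, z, hz, rfl⟩
      have hzN : z ∈ N := hSN (omegaZ_le _ hz)
      refine ⟨⟨n, hNJ ▸ hn⟩ * ⟨z, hzN⟩ * (⟨n, hNJ ▸ hn⟩ : ↥N)⁻¹, ?_, rfl⟩
      exact Subgroup.normalClosure_normal.conj_mem _
        (Subgroup.subset_normalClosure (show (⟨z, hzN⟩ : ↥N) ∈ _ from hz)) _
  subst hA'
  have hb := zclosure_le_bhat S (free_subgroup hfree _) (hs.subgroup _)
  have key : ∀ (U : Subgroup G) (g : G), U ≤ (S : Subgroup G) → Maps (S : Subgroup G) U g →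
      ∃ m ∈ Subgroup.normalizer (ZClosure (S : Subgroup G) : Set G),
        ∀ u ∈ U, g * u * g⁻¹ = m * u * m⁻¹ := fun U g hU hm =>
    (gen_all _ rfl hfree hs S U g hU hm).exists_mem (centralizer_bhat_le _ hb)
      (normalizer_je_le_zclosure _)
  refine ⟨zclosure_le _, zclosure_elementary _, ⟨zclosure_le _, fun x hx g hg => ?_⟩,
    ⟨S, zclosure_le _, fun X hX => ⟨hX, fun g hg => ?_⟩⟩⟩
  · obtain ⟨m, hm, he⟩ := key (Subgroup.zpowers x) g (Subgroup.zpowers_le.2 (zclosure_le _ hx)) (by
      have : Subgroup.zpowers x ≤ (S : Subgroup G).comap (MulAut.conj g).toMonoidHom :=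
        Subgroup.zpowers_le.2 hg
      exact fun u hu => this hu)
    rw [he x (Subgroup.mem_zpowers x)]
    exact (Subgroup.mem_normalizer_iff.1 hm x).1 hx
  · obtain ⟨m, hm, he⟩ := key (Subgroup.closure X) g ((Subgroup.closure_le _).2 hX) (by
      have : Subgroup.closure X ≤ (S : Subgroup G).comap (MulAut.conj g).toMonoidHom :=
        (Subgroup.closure_le _).2 fun u hu => hg ⟨u, hu, rfl⟩
      exact fun u hu => this hu)
    exact ⟨m, hm, fun a ha => he a (Subgroup.subset_closure ha)⟩

end Cfsg.Agent.S2796
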