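import Cfsg.Statements.S2803
import Cfsg.Agent.Lib.LocalEven.PReduced

set_option autoImplicit false
open Cfsg CfsgLib.LocalEven.SylowIn CfsgLib.LocalEven.PReduced

namespace Cfsg.Agent.S2803

/-- Let L be a finite group and p a prime with C_L(O_p(L)) ≤ O_p(L), T a Sylow p-subgroup, and Y the largest p-reduced normal subgroup of L. Put T_L = C_T(Y) and L_T = N_L(T_L). Then L = L_T · C_L(Y) (elementwise), T_L = O_p(L_T), and Y = Ω₁(Z(T_L)). -/
theorem result {L : Type*} [Group L] [Finite L] {p : ℕ} [Fact p.Prime] (hchar : Subgroup.centralizer (Cfsg.pCore p L : Set L) ≤ Cfsg.pCore p L) (T : Sylow p L) (Y : Subgroup L) (hY : (Cfsg.IsPReducedNormal p Y ∧ ∀ V : Subgroup L, Cfsg.IsPReducedNormal p V → V ≤ Y)) (TL : Subgroup L) (hTL : TL = (T : Subgroup L) ⊓ Subgroup.centralizer (Y : Set L)) : (∀ g : L, ∃ a ∈ Subgroup.normalizer (TL : Set L), ∃ c ∈ Subgroup.centralizer (Y : Set L), g = a * c) ∧ (Cfsg.pCore p ↥(Subgroup.normalizer (TL : Set L))).map (Subgroup.normalizer (TL : Set L)).subtype = TL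 ∧ Y = Cfsg.omegaOne p (TL ⊓ Subgroup.centralizer (TL : Set L)) := by
  have hY' : Y = largestPReduced p L :=
    le_antisymm (le_sSup hY.1) (sSup_le hY.2)
  have hYr : IsReducedIn p Y ⊤ := isPReducedNormal_iff.1 hY.1
  have hT := isSylowIn_of_sylow T (L := ⊤) le_top
  have hchar' := charP_top_of hchar
  have hYof : largestPReducedOf p (⊤ : Subgroup L) = Y :=
    le_antisymm ((isReducedIn_largest (⊤ : Subgroup L)).le_largestPReduced.trans_eq hY'.symm) hYr.le_largest
  subst hTL
  set TL := (T : Subgroup L) ⊓ Subgroup.centralizer (Y : Set L)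
  set R := Subgroup.normalizer (TL : Set L)
  refine ⟨fun g => ?_, ?_, ?_⟩
  · obtain ⟨c, hc, n, hn, rfl⟩ := frattini_centralizer hT hYr.normalizer (Subgroup.mem_top g)
    refine ⟨n, hn.2, n⁻¹ * c * n, ?_, by group⟩
    exact (Subgroup.mem_normalizer_iff''.1 (normalizer_centralizer hYr.normalizer (Subgroup.mem_top n)) c).1 hc.2
  · show pCoreOf p R = TL
    set P := pCoreOf p R
    have hTP : TL ≤ P := CfsgLib.LocalEven.SylowIn.le_pCoreOf Subgroup.le_normalizer le_rfl (T.2.to_le inf_le_left)
    have h1 : P ⊔ ((⊤ : Subgroup L) ⊓ Subgroup.centralizer (Y : Set L)) ≤ Subgroup.centralizer (Y : Set L) :=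
      hYr.le_centralizer_of_coprime le_top
        (normalizer_sup_centralizer hT hYr.normalizer (inf_le_right.trans (normalizer_pCoreOf R)))
        fun x hx hc => (coprime_mem_sup
          (le_top.trans (normalizer_inf (Subgroup.le_normalizer (H := (⊤ : Subgroup L)))
            (normalizer_centralizer hYr.normalizer)))
          (fun y hy hcy => by
            rw [eq_one_of_coprime_of_isPGroup (isPGroup_pCoreOf R) hy hcy]; exact one_mem _) hx hc).2
    have hS := IsSylowIn.inf_normal hT (le_top : Subgroup.centralizer (Y : Set L) ≤ ⊤)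
      (normalizer_centralizer hYr.normalizer)
    exact hS.2.2 P (le_sup_left.trans h1) (isPGroup_pCoreOf R) hTP
  · have := largest_eq_omegaCenter hchar' hT
    rwa [hYof] at this

end Cfsg.Agent.S2803
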