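import Cfsg.Statements.S2804
import Cfsg.Agent.Lib.LocalEven.PReduced

set_option autoImplicit false
open Cfsg CfsgLib.LocalEven.SylowIn CfsgLib.LocalEven.PReduced
open scoped commutatorElement

namespace Cfsg.Agent.S2804

/-- Let L be a finite group and p a prime with C_L(O_p(L)) ≤ O_p(L), V a p-reduced normal subgroup of L and K a subnormal subgroup of L. Then [V, O^p(K)] is contained in K and is a p-reduced normal subgroup of K, where O^p(K) is the subgroup of K generated by its elements of order prime to p. -/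
theorem result {L : Type*} [Group L] [Finite L] {p : ℕ} [Fact p.Prime] (hchar : Subgroup.centralizer (Cfsg.pCore p L : Set L) ≤ Cfsg.pCore p L) (V : Subgroup L) (hV : Cfsg.IsPReducedNormal p V) (K : Subgroup L) (hK : K.IsSubnormal) : ⁅V, (Cfsg.pResidual p ↥K).map K.subtype⁆ ≤ K ∧ Cfsg.IsPReducedNormal p ((⁅V, (Cfsg.pResidual p ↥K).map K.subtype⁆).subgroupOf K) := by
  set R := (pResidual p K).map K.subtype
  haveI hVn : V.Normal := hV.1
  have hVr : IsReducedIn p V ⊤ := isPReducedNormal_iff.1 hV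
  have hVK : K ≤ Subgroup.normalizer (V : Set L) := le_top.trans hVr.normalizer
  have hWV : ⁅V, R⁆ ≤ V := Subgroup.commutator_le_left V R
  have hWK : ⁅V, R⁆ ≤ K := by
    rw [Subgroup.commutator_le]
    intro v hv r hr
    rw [show R = _ from CfsgLib.LocalEven.Residual.map_pResidual_eq_closure K] at hr
    suffices h : r ∈ K ∧ ∀ v ∈ V, ⁅v, r⁆ ∈ K from h.2 v hv
    refine Subgroup.closure_induction (p := fun r _ => r ∈ K ∧ ∀ v ∈ V, ⁅v, r⁆ ∈ K) ?_ ?_ ?_ ?_ hr
    · exact fun x hx => ⟨hx.1, fun v hv => commutator_zpowers_le_of_isSubnormal (elab_isPGroup hVr.elab) hK x hx.1 hx.2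
        (Subgroup.commutator_mem_commutator hv (Subgroup.mem_zpowers x))⟩
    · exact ⟨one_mem _, fun v _ => by simp⟩
    · intro x y _ _ hx hy
      refine ⟨mul_mem hx.1 hy.1, fun v hv => ?_⟩
      rw [show ⁅v, x * y⁆ = ⁅v, x⁆ * (x * ⁅v, y⁆ * x⁻¹) by simp only [commutatorElement_def]; group]
      exact mul_mem (hx.2 v hv) (mul_mem (mul_mem hx.1 (hy.2 v hv)) (inv_mem hx.1))
    · intro x _ hx
      refine ⟨inv_mem hx.1, fun v hv => ?_⟩
      rw [show ⁅v, x⁻¹⁆ = x⁻¹ * ⁅v, x⁆⁻¹ * x by simp only [commutatorElement_def]; group]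
      exact mul_mem (mul_mem (inv_mem hx.1) (inv_mem (hx.2 v hv))) hx.1
  refine ⟨hWK, (isPReducedNormal_subgroupOf hWK).2 ⟨hWK,
    normalizer_commutator hVK (Subgroup.le_normalizer.trans (CfsgLib.LocalEven.Residual.normalizer_map_pResidual K)),
    elab_of_le hVr.elab hWV, fun N hN hn hx => ?_⟩⟩
  refine (hVr.le_centralizer_of_isSubnormal (isSubnormal_of_normal hK hN hn) fun x hxN hc => ?_).trans
    (Subgroup.centralizer_le hWV)
  have hxR : x ∈ R := by
    rw [show R = _ from CfsgLib.LocalEven.Residual.map_pResidual_eq_closure K]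
    exact Subgroup.subset_closure ⟨hN hxN, hc⟩
  have hle : ⁅V, Subgroup.zpowers x⁆ ≤ ⁅V, R⁆ := Subgroup.commutator_mono le_rfl (Subgroup.zpowers_le.2 hxR)
  have h1 : ⁅V, Subgroup.zpowers x⁆ = ⊥ := by
    refine CfsgLib.Coprime.commutator_eq_bot_of_commutator_commutator ?_ ?_
    · rw [Nat.card_zpowers]
      exact CfsgLib.LocalEven.Residual.mem_of_coprime_card ((elab_isPGroup hVr.elab).to_le (hle.trans hWV)) hc
    · rw [Subgroup.commutator_comm, Subgroup.commutator_eq_bot_iff_le_centralizer]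
      exact Subgroup.zpowers_le.2 (Subgroup.centralizer_le hle (hx x hxN hc))
  rw [Subgroup.commutator_comm, Subgroup.commutator_eq_bot_iff_le_centralizer] at h1
  exact h1 (Subgroup.mem_zpowers x)

end Cfsg.Agent.S2804
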