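import Cfsg.Statements.S2805
import Cfsg.Agent.Lib.LocalEven.Large
import Cfsg.Agent.Lib.LocalEven.Averaging
import Cfsg.Agent.Lib.LocalEvenB.CharP

set_option autoImplicit false
open Cfsg

namespace Cfsg.Agent.S2805

open scoped commutatorElement
open CfsgLib.LocalEven.SylowIn CfsgLib.LocalEven.PReduced CfsgLib.LocalEven.Averaging

variable {G : Type*} [Group G] [Finite G] {p : ℕ} [Fact p.Prime]

/-- If `S` normalises `T ≤ C` and `U ≤ C(T)`, and `C` centralises the `S`-fixed points of `U`, then `C`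
centralises `U`, provided `(|C : T|, p) = 1`. -/
theorem le_centralizer_of_fixed {C T S V U : Subgroup G} (hV : IsElementaryAbelian p V)
    (hCV : C ≤ Subgroup.normalizer (V : Set G)) (hTC : T ≤ C) (hS : IsPGroup p S)
    (hSC : S ≤ Subgroup.normalizer (C : Set G)) (hST : S ≤ Subgroup.normalizer (T : Set G))
    (hUV : U ≤ V) (hUT : ∀ u ∈ U, u ∈ Subgroup.centralizer (T : Set G))
    (hU : ∀ v ∈ V ⊓ Subgroup.centralizer (C : Set G), v ∈ U)
    (hSU : S ≤ Subgroup.normalizer (U : Set G))
    (hcop : (T.relIndex C).Coprime p)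
    (hfix : U ⊓ Subgroup.centralizer (S : Set G) ≤ Subgroup.centralizer (C : Set G)) :
    U ≤ Subgroup.centralizer (C : Set G) := by
  classical
  haveI : Fintype (↥C ⧸ T.subgroupOf C) := Fintype.ofFinite _
  letI : CommGroup ↥V := { (inferInstance : Group ↥V) with mul_comm := fun a b => hV.1.is_comm.comm a b }
  let f : ↥U → ↥C ⧸ T.subgroupOf C → ↥V := fun u q =>
    ⟨(q.out : G) * u * (q.out : G)⁻¹, (Subgroup.mem_normalizer_iff.1 (hCV q.out.2) u).1 (hUV u.2)⟩
  have hf : ∀ (u : ↥U) (h : ↥C), ((f u (h : ↥C ⧸ T.subgroupOf C) : ↥V) : G) = (h : G) * u * (h : G)⁻¹ := by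
    intro u h
    obtain ⟨t, ht⟩ := QuotientGroup.mk_out_eq_mul (T.subgroupOf C) h
    show (((h : ↥C ⧸ T.subgroupOf C).out : ↥C) : G) * _ * _ = _
    rw [ht]
    have h1 : ((t : ↥C) : G) * u = u * ((t : ↥C) : G) := Subgroup.mem_centralizer_iff.1 (hUT u u.2) _ t.2
    simp only [Subgroup.coe_mul, mul_inv_rev]
    calc _ = (h : G) * (((t : ↥C) : G) * u) * ((t : ↥C) : G)⁻¹ * (h : G)⁻¹ := by group
      _ = _ := by rw [h1]; group
  let π : ↥U →* ↥V :=
    { toFun := fun u => ∏ q, f u q
      map_one' := Finset.prod_eq_one fun q _ => Subtype.ext (by simp [f])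
      map_mul' := fun a b => by
        rw [← Finset.prod_mul_distrib]
        exact Finset.prod_congr rfl fun q _ => Subtype.ext (by simp [f, mul_assoc]) }
  have hπC : ∀ u, ((π u : ↥V) : G) ∈ V ⊓ Subgroup.centralizer (C : Set G) := by
    intro u
    refine ⟨(π u).2, Subgroup.mem_centralizer_iff.2 fun h hh => ?_⟩
    let c : ↥V →* ↥V :=
      { toFun := fun x => ⟨h * x * h⁻¹, (Subgroup.mem_normalizer_iff.1 (hCV hh) x).1 x.2⟩
        map_one' := Subtype.ext (by simp)
        map_mul' := fun a b => Subtype.ext (by simp [mul_assoc]) }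
    have hc : c (π u) = π u := by
      show c (∏ q, f u q) = ∏ q, f u q
      rw [map_prod]
      refine Fintype.prod_equiv (MulAction.toPerm (⟨h, hh⟩ : ↥C)) _ _ fun q => ?_
      induction q using QuotientGroup.induction_on with
      | H g =>
        refine Subtype.ext ?_
        show h * _ * h⁻¹ = ((f u (((⟨h, hh⟩ * g : ↥C)) : ↥C ⧸ T.subgroupOf C) : ↥V) : G)
        rw [hf, hf]
        simp [mul_assoc]
    exact mul_inv_eq_iff_eq_mul.1 (congrArg Subtype.val hc)
  have hπfix : ∀ u : ↥U, (u : G) ∈ Subgroup.centralizer (C : Set G) →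
      ((π u : ↥V) : G) = (u : G) ^ T.relIndex C := by
    intro u hu
    have h : ∀ q, f u q = ⟨u, hUV u.2⟩ := fun q => Subtype.ext (by
      show (q.out : G) * u * (q.out : G)⁻¹ = u
      rw [Subgroup.mem_centralizer_iff.1 hu _ q.out.2]; group)
    show ((∏ q, f u q : ↥V) : G) = _
    rw [Finset.prod_congr rfl (fun q _ => h q), Finset.prod_const, Finset.card_univ, SubmonoidClass.coe_pow,
      Subgroup.relIndex, Subgroup.index, Nat.card_eq_fintype_card]
  have hker : π.ker.map U.subtype = ⊥ := by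
    by_contra h0
    have hn : S ≤ Subgroup.normalizer ((π.ker.map U.subtype : Subgroup G) : Set G) := by
      refine Subgroup.le_normalizer_iff.2 fun s hs z hz => ?_
      obtain ⟨u, hu, rfl⟩ := hz
      refine ⟨⟨s * u * s⁻¹, (Subgroup.mem_normalizer_iff.1 (hSU hs) u).1 u.2⟩, ?_, rfl⟩
      rw [SetLike.mem_coe, MonoidHom.mem_ker] at hu ⊢
      have hsC : ∀ x : ↥C, s * (x : G) * s⁻¹ ∈ C := fun x => (Subgroup.mem_normalizer_iff.1 (hSC hs) x).1 x.2
      let e : ↥C ⧸ T.subgroupOf C → ↥C ⧸ T.subgroupOf C := fun q =>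
        ((⟨s * q.out * s⁻¹, hsC q.out⟩ : ↥C) : ↥C ⧸ T.subgroupOf C)
      have he : Function.Bijective e := by
        refine Finite.injective_iff_bijective.1 fun a b hab => ?_
        rw [← a.out_eq', ← b.out_eq', QuotientGroup.eq, Subgroup.mem_subgroupOf]
        have h1 := QuotientGroup.eq.1 hab
        rw [Subgroup.mem_subgroupOf] at h1
        refine (Subgroup.mem_normalizer_iff.1 (hST hs) _).2 ?_
        simpa [mul_assoc] using h1
      let c : ↥V → G := fun x => s * x * s⁻¹
      refine Subtype.ext ?_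
      have key : ((∏ q, f ⟨s * u * s⁻¹, (Subgroup.mem_normalizer_iff.1 (hSU hs) u).1 u.2⟩ (e q) : ↥V) : G)
          = s * ((∏ q, f u q : ↥V) : G) * s⁻¹ := by
        have e1 : ∀ (F : Finset (↥C ⧸ T.subgroupOf C)),
            ((F.prod fun q => f ⟨s * u * s⁻¹, (Subgroup.mem_normalizer_iff.1 (hSU hs) u).1 u.2⟩ (e q) : ↥V) : G)
              = s * ((F.prod fun q => f u q : ↥V) : G) * s⁻¹ := by
          intro F
          induction F using Finset.induction_on with
          | empty => simp
          | insert a F ha ih =>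
            rw [Finset.prod_insert ha, Finset.prod_insert ha, Subgroup.coe_mul, Subgroup.coe_mul, ih, hf]
            show s * (a.out : G) * s⁻¹ * (s * u * s⁻¹) * (s * (a.out : G) * s⁻¹)⁻¹ * _ =
              s * ((a.out : G) * u * (a.out : G)⁻¹ * _) * s⁻¹
            group
        exact e1 _
      have hu' : (∏ q, f u q : ↥V) = 1 := hu
      show ((∏ q, f _ q : ↥V) : G) = 1
      rw [← Fintype.prod_bijective e he _ _ (fun q => rfl), key, hu']
      simp
    obtain ⟨z, ⟨hz, hzS⟩, hz1⟩ := CfsgLib.LocalEven.Large.exists_fixed hS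
      ((elab_isPGroup hV).to_le ((Subgroup.map_subtype_le _).trans hUV)) h0 hn
    obtain ⟨u, hu, rfl⟩ := hz
    have h1 := hπfix u (hfix ⟨u.2, hzS⟩)
    rw [MonoidHom.mem_ker.1 hu] at h1
    refine hz1 ?_
    have hdvd : orderOf (u : G) ∣ Nat.gcd (T.relIndex C) p :=
      Nat.dvd_gcd (orderOf_dvd_of_pow_eq_one h1.symm) (orderOf_dvd_of_pow_eq_one (hV.2 _ (hUV u.2)))
    rw [hcop] at hdvd
    exact orderOf_eq_one_iff.1 (Nat.dvd_one.1 hdvd)
  rw [Subgroup.map_eq_bot_iff_of_injective _ U.subtype_injective, MonoidHom.ker_eq_bot_iff] at hker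
  let g : ↥U → ↥(U ⊓ Subgroup.centralizer (C : Set G)) := fun u =>
    ⟨(π u : ↥V), hU _ (hπC u), (hπC u).2⟩
  have hg : Function.Injective g := fun a b hab =>
    hker (Subtype.ext (Subtype.mk.inj hab))
  exact inf_eq_left.1 (Subgroup.eq_of_le_of_card_ge inf_le_left (Nat.card_le_card_of_injective g hg))

/-- The normal step of Kieler's lemma. -/
theorem kieler_step {K L S : Subgroup G} (hS : IsSylowIn p S K) (hLK : L ≤ K)
    (hn : K ≤ Subgroup.normalizer (L : Set G))
    (hcK : K ⊓ Subgroup.centralizer (pCoreOf p K : Set G) ≤ pCoreOf p K)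
    (hcL : L ⊓ Subgroup.centralizer (pCoreOf p L : Set G) ≤ pCoreOf p L) :
    L ⊓ Subgroup.centralizer (omegaCenter p S : Set G)
      = L ⊓ Subgroup.centralizer (omegaCenter p (S ⊓ L) : Set G) := by
  have hT := IsSylowIn.inf_normal hS hLK hn
  set T := S ⊓ L with hTdef
  have hSc : S ≤ Subgroup.centralizer (omegaCenter p S : Set G) :=
    Subgroup.le_centralizer_iff.1 (omegaCenter_le_centralizer S)
  have hTc : T ≤ Subgroup.centralizer (omegaCenter p T : Set G) :=
    Subgroup.le_centralizer_iff.1 (omegaCenter_le_centralizer T)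
  refine le_antisymm ?_ ?_
  · set C := L ⊓ Subgroup.centralizer (omegaCenter p S : Set G)
    have hTC : T ≤ C := le_inf hT.1 (inf_le_left.trans hSc)
    have hUV : omegaCenter p T ≤ omegaCenter p (pCoreOf p L) := by
      have hc : omegaCenter p T ≤ Subgroup.centralizer (pCoreOf p L : Set G) :=
        (omegaCenter_le_centralizer T).trans (Subgroup.centralizer_le (pCoreOf_le_sylowIn hT))
      exact le_omegaCenter (elab_omegaCenter T)
        (le_trans (le_inf ((omegaCenter_le T).trans hT.1) hc) hcL) hc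
    have hS' : S ≤ Subgroup.normalizer (T : Set G) :=
      normalizer_inf Subgroup.le_normalizer (hS.1.trans hn)
    refine le_inf inf_le_left (Subgroup.le_centralizer_iff.1 (le_centralizer_of_fixed (S := S)
      (V := omegaCenter p (pCoreOf p L)) (elab_omegaCenter _)
      (inf_le_left.trans (normalizer_omegaCenter (normalizer_pCoreOf L))) hTC hS.2.1
      (normalizer_inf (hS.1.trans hn) (normalizer_centralizer (normalizer_omegaCenter Subgroup.le_normalizer)))
      hS' hUV (fun u hu => omegaCenter_le_centralizer T hu) ?_ (normalizer_omegaCenter hS') ?_ ?_))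
    · intro v hv
      have hvT : v ∈ T := pCoreOf_le_sylowIn hT (omegaCenter_le _ hv.1)
      exact Subgroup.subset_closure ⟨⟨hvT, Subgroup.centralizer_le hTC hv.2⟩, (elab_omegaCenter _).2 v hv.1⟩
    · exact ((Nat.Prime.coprime_iff_not_dvd Fact.out).2 (IsSylowIn.mono hT hTC inf_le_left).toSylow.not_dvd_index).symm
    · intro u hu
      have h1 : u ∈ omegaCenter p S :=
        Subgroup.subset_closure ⟨⟨(omegaCenter_le T hu.1).1, hu.2⟩, (elab_omegaCenter T).2 u hu.1⟩
      exact Subgroup.centralizer_le inf_le_right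
        (Subgroup.le_centralizer_iff.1 (le_refl (Subgroup.centralizer (omegaCenter p S : Set G))) h1)
  · set C := L ⊓ Subgroup.centralizer (omegaCenter p T : Set G)
    have hTC : T ≤ C := le_inf hT.1 hTc
    set V := omegaCenter p (pCoreOf p K)
    have hSV : omegaCenter p S ≤ V := by
      have hc : omegaCenter p S ≤ Subgroup.centralizer (pCoreOf p K : Set G) :=
        (omegaCenter_le_centralizer S).trans (Subgroup.centralizer_le (pCoreOf_le_sylowIn hS))
      exact le_omegaCenter (elab_omegaCenter S)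
        (le_trans (le_inf ((omegaCenter_le S).trans hS.1) hc) hcK) hc
    have hCV : C ≤ Subgroup.normalizer (V : Set G) :=
      (inf_le_left.trans hLK).trans (normalizer_omegaCenter (normalizer_pCoreOf K))
    refine le_inf inf_le_left (Subgroup.le_centralizer_iff.1 fun v hv => ?_)
    have hvS : ∀ t ∈ T, t * v = v * t := fun t ht =>
      Subgroup.mem_centralizer_iff.1 (omegaCenter_le_centralizer S hv) t ht.1
    have hvW : ∀ h ∈ C, ⁅h, v⁆ ∈ V ⊓ L := by
      intro h hh
      refine Subgroup.mem_inf.2 ⟨?_, ?_⟩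
      · rw [commutatorElement_def]
        exact mul_mem ((Subgroup.mem_normalizer_iff.1 (hCV hh) v).1 (hSV hv)) (inv_mem (hSV hv))
      · rw [commutatorElement_def, mul_assoc, mul_assoc, ← mul_assoc v]
        exact mul_mem hh.1 ((Subgroup.mem_normalizer_iff.1
          (hn (hS.1 (omegaCenter_le S hv))) _).1 (inv_mem hh.1))
    obtain ⟨u, hu, huW⟩ := exists_fixed_mul (T := T) (elab_omegaCenter _).1 inf_le_left hCV hTC (hSV hv)
      (fun t ht => by rw [hvS t ht]; group) hvW
    have hw : u⁻¹ * v ^ T.relIndex C ∈ omegaCenter p T := by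
      refine Subgroup.subset_closure ⟨⟨⟨pCoreOf_le_sylowIn hS (omegaCenter_le _ huW.1), huW.2⟩, ?_⟩,
        (elab_omegaCenter _).2 _ huW.1⟩
      show u⁻¹ * v ^ T.relIndex C ∈ Subgroup.centralizer (T : Set G)
      refine mul_mem (inv_mem (Subgroup.centralizer_le hTC hu.2)) (pow_mem ?_ _)
      exact Subgroup.mem_centralizer_iff.2 hvS
    have hvn : v ^ T.relIndex C ∈ Subgroup.centralizer (C : Set G) := by
      rw [show v ^ T.relIndex C = u * (u⁻¹ * v ^ T.relIndex C) by group]
      exact mul_mem hu.2 (Subgroup.centralizer_le inf_le_right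
        (Subgroup.le_centralizer_iff.1 (le_refl (Subgroup.centralizer (omegaCenter p T : Set G))) hw))
    obtain ⟨k, hk⟩ := exists_pow_eq_self_of_coprime
      (coprime_relIndex_of_pow (IsSylowIn.mono hT hTC inf_le_left) ((elab_omegaCenter S).2 v hv))
    rw [← hk]
    exact pow_mem hvn k

theorem kieler {L : Subgroup G} (hG : Subgroup.centralizer (Cfsg.pCore p G : Set G) ≤ Cfsg.pCore p G)
    (T : Sylow p G) (hL : L.IsSubnormal) :
    IsSylowIn p ((T : Subgroup G) ⊓ L) L ∧
    L ⊓ Subgroup.centralizer (omegaCenter p (T : Subgroup G) : Set G)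
      = L ⊓ Subgroup.centralizer (omegaCenter p ((T : Subgroup G) ⊓ L) : Set G) := by
  induction hL with
  | top => exact ⟨by rw [inf_top_eq]; exact isSylowIn_of_sylow T le_top, by rw [inf_top_eq]⟩
  | step H K hle hK hn ih =>
    obtain ⟨hS, he⟩ := ih
    have hn' : K ≤ Subgroup.normalizer (H : Set G) := (Subgroup.normal_subgroupOf_iff_le_normalizer hle).1 hn
    have hT := IsSylowIn.inf_normal hS hle hn'
    rw [inf_assoc, inf_eq_right.2 hle] at hT
    have h := kieler_step hS hle hn'
      ((charP_iff K).1 (CfsgLib.LocalEvenB.CharP.charP_of_subnormal hG hK))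
      ((charP_iff H).1 (CfsgLib.LocalEvenB.CharP.charP_of_subnormal hG (.step H K hle hK hn)))
    rw [inf_assoc, inf_eq_right.2 hle] at h
    refine ⟨hT, ?_⟩
    rw [← h, ← inf_eq_left.2 hle, inf_assoc, inf_assoc, he]

/-- Kieler's Lemma: let H be a finite group of characteristic p (C_H(O_p(H)) ≤ O_p(H)), T a Sylow p-subgroup of H and L a subnormal subgroup of H. Then C_L(Ω₁(Z(T))) = C_L(Ω₁(Z(T ∩ L))), Ω₁(Z(·)) denoting the elements of order dividing p in the centre. -/
theorem result {H : Type*} [Group H] [Finite H] {p : ℕ} [Fact p.Prime] (hH : Subgroup.centralizer (Cfsg.pCore p H : Set H) ≤ Cfsg.pCore p H) (T : Sylow p H) (L : Subgroup H) (hL : L.IsSubnormal) : L ⊓ Subgroup.centralizer ((Cfsg.omegaOne p ((T : Subgroup H) ⊓ Subgroup.centralizer ((T : Subgroup H) : Set H))) : Set H) = L ⊓ Subgroup.centralizer ((Cfsg.omegaOne p (((T : Subgroup H) ⊓ L) ⊓ Subgroup.centralizer ((((T : Subgroup H) ⊓ L) : Subgroup H) : Set H))) : Set H) :=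
  (kieler hH T hL).2

end Cfsg.Agent.S2805
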