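import Cfsg.Statements.S2807
import Cfsg.Agent.Lib.LocalEven.Yoshida
import Cfsg.Agent.Lib.Fusion.MaxClass

set_option autoImplicit false
set_option linter.style.haveILetI false
open Cfsg

namespace Cfsg.Agent.S2807

/-- Let S be a Sylow p-subgroup of the finite group G. If S ∩ G' ≠ S ∩ (N_G(S))' (derived subgroups), then the wreath product Z_p ≀ Z_p — realised as a Sylow p-subgroup of the symmetric group of degree p² — is a homomorphic image of S. -/
theorem result {G : Type*} [Group G] [Finite G] {p : ℕ} [Fact p.Prime] (S : Sylow p G) (h : (S : Subgroup G) ⊓ commutator G ≠ (S : Subgroup G) ⊓ ⁅Subgroup.normalizer ((S : Subgroup G) : Set G), Subgroup.normalizer ((S : Subgroup G) : Set G)⁆) : ∃ (P : Sylow p (Equiv.Perm (Fin (p ^ 2)))) (f : ↥(S : Subgroup G) →* ↥(P : Subgroup (Equiv.Perm (Fin (p ^ 2))))), Function.Surjective f := by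
  classical
  have hp : p.Prime := Fact.out
  obtain ⟨x, hx, z, hz, W₀, hW₀, ⟨u, hu, hiu⟩, hnot⟩ := CfsgLib.LocalEven.Yoshida.main S (S : Subgroup G)
    ⟨le_rfl, fun g hg => Subgroup.eq_of_le_of_card_ge hg
      (le_of_eq (Subgroup.card_map_of_injective (MulAut.conj g).injective).symm)⟩ h
  have hSp : IsPGroup p ↥(S : Subgroup G) := S.isPGroup'
  -- a maximal subgroup of `W₀` avoiding the iterated commutator
  obtain ⟨K, hK, huK⟩ : ∃ K : Subgroup ↥W₀, IsCoatom K ∧ (⟨u, hu⟩ : ↥W₀) ∉ K := by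
    by_contra hall
    push Not at hall
    refine hnot ⟨u, ⟨⟨u, hu⟩, ?_, rfl⟩, hiu⟩
    simp only [SetLike.mem_coe]
    show (⟨u, hu⟩ : ↥W₀) ∈ frattini ↥W₀
    simp only [frattini, Order.radical, Subgroup.mem_iInf, Set.mem_ofPred_eq]
    exact hall
  set K' : Subgroup ↥(S : Subgroup G) := K.map W₀.subtype with hK'
  have hidx : K'.index = p * p := by
    rw [← Subgroup.relIndex_mul_index (Subgroup.map_subtype_le K),
      CfsgLib.PGroup.Frattini.index_of_isCoatom hSp hW₀]
    congr 1
    rw [Subgroup.relIndex, Subgroup.subgroupOf, Subgroup.comap_map_eq_self_of_injective W₀.subtype_injective,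
      CfsgLib.PGroup.Frattini.index_of_isCoatom (hSp.to_subgroup W₀) hK]
  let eK : ↥(S : Subgroup G) ⧸ K' ≃ Fin (p ^ 2) := (Finite.equivFin _).trans (finCongr (by
    rw [← Subgroup.index_eq_card, hidx, pow_two]))
  let φ : ↥(S : Subgroup G) →* Equiv.Perm (Fin (p ^ 2)) :=
    (Equiv.permCongrHom eK).toMonoidHom.comp (MulAction.toPermHom _ (↥(S : Subgroup G) ⧸ K'))
  have hrange : IsPGroup p φ.range := by
    rw [MonoidHom.range_eq_map]; exact (hSp.to_subgroup ⊤).map φ
  obtain ⟨Q, hQ⟩ := hrange.exists_le_sylow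
  refine ⟨Q, φ.codRestrict _ (fun a => hQ ⟨a, rfl⟩), ?_⟩
  suffices hcard : Nat.card ↥(Q : Subgroup (Equiv.Perm (Fin (p ^ 2)))) ≤ Nat.card φ.range by
    have heq : φ.range = (Q : Subgroup (Equiv.Perm (Fin (p ^ 2)))) := Subgroup.eq_of_le_of_card_ge hQ hcard
    intro b
    obtain ⟨a, ha⟩ := heq.ge b.2
    exact ⟨a, Subtype.ext ha⟩
  have hQcard : Nat.card ↥(Q : Subgroup (Equiv.Perm (Fin (p ^ 2)))) = p ^ (p + 1) := by
    rw [Sylow.card_eq_multiplicity, Nat.card_perm, Nat.card_eq_fintype_card, Fintype.card_fin,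
      Nat.factorization_def _ hp, pow_two, padicValNat_factorial_mul]
    have h1 := padicValNat_factorial_mul (p := p) 1
    rw [mul_one] at h1
    rw [h1]
    simp [add_comm]
  rw [hQcard]
  obtain ⟨n, hn⟩ := hrange.exists_card_eq
  rw [hn]
  refine Nat.pow_le_pow_right hp.pos ?_
  by_contra hlt
  -- a small image has small class, but the iterated commutator acts nontrivially
  have hbot : (⊤ : Subgroup φ.range).lowerCentralSeries (p - 1) = ⊥ := by
    have hp2 := hp.two_le
    haveI := hrange.isNilpotent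
    rw [Subgroup.lowerCentralSeries_eq_bot_iff_nilpotencyClass_le]
    rcases le_or_gt 2 n with h2 | h2
    · exact le_trans (CfsgLib.Fusion.MaxClass.class_le' h2 hn) (by omega)
    · rw [← Subgroup.lowerCentralSeries_eq_bot_iff_nilpotencyClass_le, eq_bot_iff]
      refine le_trans (Subgroup.lowerCentralSeries_antitone _ (show 1 ≤ p - 1 by omega)) ?_
      rw [Subgroup.top_lowerCentralSeries_one, le_bot_iff, commutator_eq_bot_iff_center_eq_top,
        Subgroup.eq_top_iff']
      haveI : IsCyclic φ.range := by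
        rcases (show n = 0 ∨ n = 1 by omega) with rfl | rfl
        · haveI : Subsingleton φ.range := (Nat.card_eq_one_iff_unique.mp (by simpa using hn)).1
          infer_instance
        · exact isCyclic_of_prime_card (p := p) (by simpa using hn)
      exact fun a => Subgroup.mem_center_iff.2 fun b => (IsCyclic.isMulCommutative (α := φ.range)).is_comm.comm b a
  let f : G → G := fun y => y⁻¹ * z⁻¹ * y * z
  have hlcs : ∀ k, ∃ v : ↥(S : Subgroup G), (v : G) = f^[k] x ∧
      φ.rangeRestrict v ∈ (⊤ : Subgroup φ.range).lowerCentralSeries k := by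
    intro k
    induction k with
    | zero => exact ⟨⟨x, hx⟩, rfl, Subgroup.mem_top _⟩
    | succ k ih =>
      obtain ⟨v, hv, hvm⟩ := ih
      refine ⟨v⁻¹ * ⟨z, hz⟩⁻¹ * v * ⟨z, hz⟩, ?_, ?_⟩
      · rw [Function.iterate_succ_apply', ← hv]; rfl
      · rw [Subgroup.lowerCentralSeries_succ, map_mul, map_mul, map_mul, map_inv, map_inv]
        have := Subgroup.commutator_mem_commutator (inv_mem hvm)
          (Subgroup.mem_top ((φ.rangeRestrict ⟨z, hz⟩)⁻¹))
        simpa [commutatorElement_def] using this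
  obtain ⟨v, hv, hvm⟩ := hlcs (p - 1)
  rw [hbot, Subgroup.mem_bot] at hvm
  have hvu : v = (u : ↥(S : Subgroup G)) := Subtype.ext (hv.trans hiu.symm)
  rw [hvu] at hvm
  have h1 : φ u = 1 := congrArg Subtype.val hvm
  have h2 := Equiv.Perm.congr_fun ((Equiv.permCongrHom eK).injective (h1.trans (map_one _).symm))
    (((1 : ↥(S : Subgroup G))) : ↥(S : Subgroup G) ⧸ K')
  rw [MulAction.toPermHom_apply, MulAction.toPerm_apply, Equiv.Perm.one_apply, MulAction.Quotient.smul_coe,
    smul_eq_mul, mul_one, QuotientGroup.eq, mul_one] at h2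
  have h3 := inv_mem_iff.mp h2
  rw [hK'] at h3
  obtain ⟨w, hw, hwe⟩ := h3
  exact huK ((Subtype.ext hwe : w = (⟨u, hu⟩ : ↥W₀)) ▸ hw)

end Cfsg.Agent.S2807
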