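import Cfsg.Statements.S2808
import Cfsg.Agent.Lib.PushingUpFamily.Class

set_option autoImplicit false
universe u
open Cfsg

namespace Cfsg.Agent.S2808

/-- Let p be a prime and S a finite p-group with J(S) generated by the abelian subgroups of largest order, Z(J(S)) its centre and J̃(S) = C_S(Z(J(S))). Put S₀ = [Φ(S), S]·Φ(Φ(S)) if p = 2, S₀ = [[Φ(S), S], S]·Φ(Φ(S)) if p = 3, and S₀ = [Φ(S), S]·℧¹(S) if p > 3. If [Z(J(S)), S] ≠ 1 or S₀ ≠ 1, then S has nontrivial characteristic subgroups S₁ ≤ Z(S) and S₂ ≤ J̃(S), with S₂ characteristic in J̃(S), such that in every finite group G containing S as a Sylow p-subgroup with C_G(O_p(G)) ≤ O_p(G), S in exactly one maximal subgroup of G, and G/K ≅ PSL₂(p^n) for some normal K and n ≥ 1, at least one of S₁, S₂ is normal. -/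
theorem result {S : Type u} [Group S] [Finite S] {p : ℕ} [Fact p.Prime] (hS : IsPGroup p S) (S₀ : Subgroup S) (hS₀ : S₀ = if p = 2 then ⁅frattini S, (⊤ : Subgroup S)⁆ ⊔ (frattini ↥(frattini S)).map (frattini S).subtype else if p = 3 then ⁅⁅frattini S, (⊤ : Subgroup S)⁆, (⊤ : Subgroup S)⁆ ⊔ (frattini ↥(frattini S)).map (frattini S).subtype else ⁅frattini S, (⊤ : Subgroup S)⁆ ⊔ Cfsg.powerClosure p 1 (⊤ : Subgroup S)) (h : ⁅Cfsg.thompsonSubgroupA S ⊓ Subgroup.centralizer (Cfsg.thompsonSubgroupA S : Set S), (⊤ : Subgroup S)⁆ ≠ ⊥ ∨ S₀ ≠ ⊥) : ∃ S₁ S₂ : Subgroup S, S₁ ≠ ⊥ ∧ S₂ ≠ ⊥ ∧ S₁.Characteristic ∧ S₂.Characteristic ∧ S₁ ≤ Subgroup.center S ∧ S₂ ≤ Subgroup.centralizer ((Cfsg.thompsonSubgroupA S ⊓ Subgroup.centralizer (Cfsg.thompsonSubgroupA S : Set S) : Subgroup S) : Set S) ∧ (S₂.subgroupOf (Subgroup.centralizer ((Cfsg.thompsonSubgroupA S ⊓ Subgroup.centralizer (Cfsg.thompsonSubgroupA S : Set S) : Subgroup S) : Set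 S))).Characteristic ∧ ∀ (G : Type u) [Group G] [Finite G] (τ : S →* G), Function.Injective τ → (∃ P : Sylow p G, (P : Subgroup G) = τ.range) → Subgroup.centralizer (Cfsg.pCore p G : Set G) ≤ Cfsg.pCore p G → (∃! M : Subgroup G, IsCoatom M ∧ τ.range ≤ M) → (∃ (K : Subgroup G) (_ : K.Normal) (F : Type) (_ : Field F) (_ : Fintype F) (n : ℕ), 1 ≤ n ∧ Fintype.card F = p ^ n ∧ Nonempty (G ⧸ K ≃* Matrix.ProjectiveSpecialLinearGroup (Fin 2) F)) → (S₁.map τ).Normal ∨ (S₂.map τ).Normal := by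
  open CfsgLib.PushingUpFamily in
  exact (by
    have hne : Nontrivial S := by
      by_contra hn
      rw [not_nontrivial_iff_subsingleton] at hn
      exact h.elim (fun h => h (Subgroup.eq_bot_of_subsingleton _)) fun h => h (Subgroup.eq_bot_of_subsingleton _)
    rcases exists_works (p := p) hS with ⟨S₁, S₂, W, -⟩ | E
    · refine ⟨S₁, S₂, W.ne₁, W.ne₂, W.char₁, W.char₂, W.le₁, W.le₂, W.char₂', ?_⟩
      intro G _ _ τ hτ hP hc hM hq
      refine W.normal G τ hτ ⟨fun htop => ?_, hP, hc, hM, ?_⟩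
      · obtain ⟨M, ⟨hMc, -⟩, -⟩ := hM
        exact hMc.1 (le_antisymm le_top (htop.le.trans bot_le))
      · obtain ⟨K, hK, F, iF, iFt, n, -, hF, he⟩ := hq
        exact ⟨K, hK, F, iF, iFt, n, hF, he⟩
    · refine absurd (h.resolve_left ?_) (fun h0 => h0 (hS₀.trans E.lower))
      rw [not_not, Subgroup.commutator_eq_bot_iff_le_centralizer]
      exact CfsgLib.LocalEvenB.CDMeasure.le_centralizer_comm E.tilde.ge)

end Cfsg.Agent.S2808
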