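import Cfsg.Statements.S2809
import Cfsg.Agent.Lib.LocalEven.Residual

set_option autoImplicit false
open Cfsg CfsgLib.LocalEven.SylowIn CfsgLib.LocalEven.Residual
open scoped commutatorElement

namespace Cfsg.Agent.S2809


/-- Let H be a finite group, p a prime, R a p-subgroup of H with C_H(R) ≤ R, and L a subgroup of N_H(R) acting nilpotently on R (some iterated commutator [R, L, …, L] is trivial). Then L is a p-group. -/
theorem result {H : Type*} [Group H] [Finite H] {p : ℕ} [Fact p.Prime] (R : Subgroup H) (hR : IsPGroup p ↥R) (hC : Subgroup.centralizer (R : Set H) ≤ R) (L : Subgroup H) (hL : L ≤ Subgroup.normalizer (R : Set H)) (hnil : ∃ n : ℕ, Cfsg.iterCommutator R L n = ⊥) : IsPGroup p ↥L := by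
  obtain ⟨n, hn⟩ := hnil
  have hcl : ∀ i, Cfsg.iterCommutator R L i ≤ R := by
    intro i
    induction i with
    | zero => exact le_rfl
    | succ i ih =>
      exact (Subgroup.commutator_mono ih le_rfl).trans (Subgroup.le_normalizer_iff_commutator_le_left.1 hL)
  refine isPGroup_of_forall_coprime fun x hx hxc => ?_
  have key : ∀ j, ∀ k ∈ Cfsg.iterCommutator R L (n - j), Commute x k := by
    intro j
    induction j with
    | zero =>
      intro k hk
      rw [Nat.sub_zero, hn, Subgroup.mem_bot] at hk
      exact hk ▸ Commute.one_right x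
    | succ j ih =>
      by_cases hj : j < n
      · intro k hk
        have e : n - j = n - (j + 1) + 1 := by omega
        rw [e] at ih
        refine CfsgLib.Coprime.commute_of_stabilizes
          (N := Cfsg.iterCommutator R L (n - (j + 1) + 1)) (mem_of_coprime_card (hR.to_le (hcl _)) hxc) ?_ ?_
        · rw [Subgroup.mem_centralizer_iff]
          exact fun y hy => (ih y hy).eq.symm
        · rw [CfsgLib.Coprime.commutatorElement_mem_iff]
          exact Subgroup.commutator_mem_commutator hk hx
      · intro k hk
        rw [show n - (j + 1) = n - j by omega] at hk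
        exact ih k hk
  have hxC : x ∈ Subgroup.centralizer (R : Set H) := by
    rw [Subgroup.mem_centralizer_iff]
    intro k hk
    exact (key n k (by rw [Nat.sub_self]; exact hk)).eq.symm
  exact orderOf_eq_one_iff.1 (Nat.eq_one_of_dvd_coprimes (mem_of_coprime_card hR hxc) dvd_rfl
    (Subgroup.orderOf_dvd_natCard _ (hC hxC)))

end Cfsg.Agent.S2809
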