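import Cfsg.Statements.S2810
import Cfsg.Agent.Lib.LocalEven.Residual

set_option autoImplicit false
open Cfsg CfsgLib.LocalEven.SylowIn CfsgLib.LocalEven.Residual
open scoped commutatorElement

namespace Cfsg.Agent.S2810


/-- Let H be a finite group of characteristic p and L a subgroup of H centralizing every factor of some H-invariant chain 1 = A₀ ≤ A₁ ≤ … ≤ Aₙ = O_p(H) of normal subgroups (that is, [A_{i+1}, L] ≤ Aᵢ for each i). Then L ≤ O_p(H). -/
theorem result {H : Type*} [Group H] [Finite H] {p : ℕ} [Fact p.Prime] (hchar : Subgroup.centralizer (Cfsg.pCore p H : Set H) ≤ Cfsg.pCore p H) (L : Subgroup H) (n : ℕ) (A : Fin (n + 1) → Subgroup H) (h0 : A 0 = ⊥) (hn : A (Fin.last n) = Cfsg.pCore p H) (hmono : Monotone A) (hnorm : ∀ i, (A i).Normal) (hcent : ∀ i : Fin n, ⁅A i.succ, L⁆ ≤ A i.castSucc) : L ≤ Cfsg.pCore p H := by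
  have hQ := isPGroup_pCore H p
  have hN : ∀ i : Fin n, ⁅A i.succ, Subgroup.normalClosure (L : Set H)⁆ ≤ A i.castSucc := by
    intro i
    haveI := hnorm i.castSucc
    haveI := hnorm i.succ
    let f := QuotientGroup.mk' (A i.castSucc)
    haveI : ((A i.succ).map f).Normal := (hnorm i.succ).map f (QuotientGroup.mk'_surjective _)
    let D := (Subgroup.centralizer ((A i.succ).map f : Set (H ⧸ A i.castSucc))).comap f
    have hmem : ∀ a ∈ A i.succ, ∀ l, ⁅a, l⁆ ∈ A i.castSucc ↔ f a * f l = f l * f a := by
      intro a _ l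
      rw [← QuotientGroup.eq_one_iff, ← QuotientGroup.mk'_apply, map_commutatorElement,
        commutatorElement_eq_one_iff_mul_comm]
    have hLD : Subgroup.normalClosure (L : Set H) ≤ D := by
      refine Subgroup.normalClosure_le_normal fun l hl => ?_
      rintro _ ⟨a, ha, rfl⟩
      exact (hmem a ha l).1 (hcent i (Subgroup.commutator_mem_commutator ha hl))
    rw [Subgroup.commutator_le]
    exact fun a ha l hl => (hmem a ha l).2 ((hLD hl) _ ⟨a, ha, rfl⟩)
  refine Subgroup.le_normalClosure.trans (CfsgLib.LocalEven.SylowIn.le_pCore ?_)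
  refine isPGroup_of_forall_coprime fun x hx hxc => ?_
  have key : ∀ i : Fin (n + 1), ∀ k ∈ A i, Commute x k := by
    intro i
    induction i using Fin.induction with
    | zero =>
      intro k hk
      rw [h0, Subgroup.mem_bot] at hk
      exact hk ▸ Commute.one_right x
    | succ i ih =>
      intro k hk
      refine CfsgLib.Coprime.commute_of_stabilizes (N := A i.castSucc)
        (mem_of_coprime_card (hQ.to_le ((hmono (Fin.le_last _)).trans hn.le)) hxc) ?_ ?_
      · rw [Subgroup.mem_centralizer_iff]
        exact fun y hy => (ih y hy).eq.symm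
      · rw [CfsgLib.Coprime.commutatorElement_mem_iff]
        exact hN i (Subgroup.commutator_mem_commutator hk hx)
  have hxC : x ∈ Subgroup.centralizer (Cfsg.pCore p H : Set H) := by
    rw [Subgroup.mem_centralizer_iff]
    exact fun k hk => (key (Fin.last n) k (hn ▸ hk)).eq.symm
  exact orderOf_eq_one_iff.1 (Nat.eq_one_of_dvd_coprimes (mem_of_coprime_card hQ hxc) dvd_rfl
    (Subgroup.orderOf_dvd_natCard _ (hchar hxC)))

end Cfsg.Agent.S2810
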