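import Cfsg.Statements.S2813
import Cfsg.Agent.Lib.LocalEven.Residual

set_option autoImplicit false
open Cfsg CfsgLib.LocalEven.SylowIn CfsgLib.LocalEven.Residual
open scoped commutatorElement

namespace Cfsg.Agent.S2813


/-- Let K be a subgroup of the finite group H with O_p(K) = 1 and Y a p-subgroup of N_H(K) with [K, Y, Y] = 1. Then [K, Y] = 1. -/
theorem result {H : Type*} [Group H] [Finite H] {p : ℕ} [Fact p.Prime] (K : Subgroup H) (hO : Cfsg.pCore p ↥K = ⊥) (Y : Subgroup H) (hY : IsPGroup p ↥Y) (hYK : Y ≤ Subgroup.normalizer (K : Set H)) (hq : ⁅⁅K, Y⁆, Y⁆ = ⊥) : ⁅K, Y⁆ = ⊥ := by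
  set W := ⁅K, Y⁆
  have hWK : W ≤ K := Subgroup.le_normalizer_iff_commutator_le_left.1 hYK
  have hKW : K ≤ Subgroup.normalizer (W : Set H) := by
    intro k hk
    rw [← map_conj_eq_iff]
    have key : ∀ k ∈ K, W.map (MulAut.conj k).toMonoidHom ≤ W := by
      intro k hk
      rw [Subgroup.map_le_iff_le_comap, Subgroup.commutator_le]
      intro a ha y hy
      show k * ⁅a, y⁆ * k⁻¹ ∈ W
      have : k * ⁅a, y⁆ * k⁻¹ = ⁅k * a, y⁆ * ⁅k, y⁆⁻¹ := by simp only [commutatorElement_def]; group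
      rw [this]
      exact mul_mem (Subgroup.commutator_mem_commutator (mul_mem hk ha) hy)
        (inv_mem (Subgroup.commutator_mem_commutator hk hy))
    refine le_antisymm (key k hk) ?_
    have := Subgroup.map_mono (f := (MulAut.conj k).toMonoidHom) (key k⁻¹ (inv_mem hk))
    rwa [map_conj_conj, mul_inv_cancel, map_conj_one] at this
  have hWY : ∀ w ∈ W, ∀ y ∈ Y, w * y = y * w := fun w hw y hy =>
    commutatorElement_eq_one_iff_mul_comm.1
      (Subgroup.mem_bot.1 (hq ▸ Subgroup.commutator_mem_commutator hw hy))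
  have hWc : W ≤ Subgroup.centralizer (W : Set H) := by
    intro w hw
    have : W ≤ Subgroup.centralizer ({w} : Set H) := by
      rw [Subgroup.commutator_le]
      intro k hk y hy
      rw [commutatorElement_def]
      refine mul_mem ?_ (inv_mem (Subgroup.mem_centralizer_singleton_iff.2 (hWY w hw y hy).symm))
      rw [Subgroup.mem_centralizer_singleton_iff]
      have h1 : k⁻¹ * w * k ∈ W := (Subgroup.mem_normalizer_iff''.1 (hKW hk) w).1 hw
      calc k * y * k⁻¹ * w = k * (y * (k⁻¹ * w * k)) * k⁻¹ := by group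
        _ = k * (k⁻¹ * w * k * y) * k⁻¹ := by rw [hWY _ h1 y hy]
        _ = w * (k * y * k⁻¹) := by group
    rw [Subgroup.mem_centralizer_iff]
    exact fun v hv => Subgroup.mem_centralizer_singleton_iff.1 (this hv)
  let T : Subgroup H :=
    { carrier := {w | w ∈ W ∧ ∃ k : ℕ, w ^ p ^ k = 1}
      one_mem' := ⟨one_mem _, 0, one_pow _⟩
      mul_mem' := fun {a b} ⟨ha, i, hi⟩ ⟨hb, j, hj⟩ => ⟨mul_mem ha hb, i + j, by
        have hc : Commute a b := hWc hb a ha
        rw [hc.mul_pow, pow_add, pow_mul a, hi, one_pow, one_mul, mul_comm, pow_mul, hj, one_pow]⟩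
      inv_mem' := fun {a} ⟨ha, i, hi⟩ => ⟨inv_mem ha, i, by rw [inv_pow, hi, inv_one]⟩ }
  have hT : T = ⊥ := by
    have h1 : T ≤ Cfsg.pCoreOf p K := by
      refine le_pCoreOf (fun w hw => hWK hw.1) (fun k hk => ?_) (fun ⟨w, hw, i, hi⟩ => ⟨i, Subtype.ext hi⟩)
      rw [Subgroup.mem_normalizer_iff]
      intro w
      show w ∈ W ∧ _ ↔ k * w * k⁻¹ ∈ W ∧ _
      refine and_congr (Subgroup.mem_normalizer_iff.1 (hKW hk) w) (exists_congr fun i => ?_)
      rw [conj_pow, mul_inv_eq_one, mul_eq_left]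
    rw [Cfsg.pCoreOf, hO, Subgroup.map_bot] at h1
    exact le_bot_iff.1 h1
  rw [eq_bot_iff]
  refine (Subgroup.commutator_le).2 fun k hk y hy => ?_
  obtain ⟨m, hm⟩ := hY ⟨y, hy⟩
  have hc : ⁅k, y⁆ ∈ W := Subgroup.commutator_mem_commutator hk hy
  have : ⁅k, y⁆ ∈ T := ⟨hc, m, ?_⟩
  · rwa [hT] at this
  · have hcm : Commute ⁅k, y⁆ y := hWY _ hc y hy
    have e : ⁅k, y⁆ * y = k * y * k⁻¹ := by rw [commutatorElement_def]; group
    have h2 := hcm.mul_pow (p ^ m)
    have hy1 : y ^ p ^ m = 1 := congrArg Subtype.val hm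
    rw [e, conj_pow, hy1, mul_one, mul_inv_cancel, mul_one] at h2
    exact h2.symm

end Cfsg.Agent.S2813
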