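import Cfsg.Statements.S2814
import Cfsg.Agent.Lib.LocalEven.Residual

set_option autoImplicit false
open Cfsg CfsgLib.LocalEven.SylowIn CfsgLib.LocalEven.Residual
open scoped commutatorElement

namespace Cfsg.Agent.S2814

theorem sInf_isSubnormal {G : Type*} [Group G] [Finite G] (S : Set (Subgroup G))
    (h : ∀ L ∈ S, L.IsSubnormal) : (sInf S).IsSubnormal := by
  refine Set.Finite.induction_on (motive := fun S _ => (∀ L ∈ S, Subgroup.IsSubnormal L) → (sInf S).IsSubnormal) S
    (Set.toFinite S) (fun _ => sInf_empty (α := Subgroup G) ▸ Subgroup.IsSubnormal.top) ?_ h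
  intro L S _ _ ih h
  rw [sInf_insert]
  exact (h L (Set.mem_insert L S)).inf (ih fun M hM => h M (Set.mem_insert_of_mem L hM))

theorem subnormal_of_nilpotent {G : Type*} [Group G] [Finite G] [Group.IsNilpotent G] (H : Subgroup G) :
    H.IsSubnormal := by
  induction H using WellFoundedGT.induction with
  | ind H ih =>
    rcases eq_or_ne H ⊤ with rfl | hne
    · exact Subgroup.IsSubnormal.top
    · have h1 := Group.normalizerCondition_of_isNilpotent H hne.lt_top
      exact Subgroup.IsSubnormal.step H _ h1.le (ih _ h1) Subgroup.normal_in_normalizer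


/-- Let A be a subgroup of the finite group H and K the subnormal closure of A (intersection of the subnormal subgroups containing A). Then K is the normal closure of A inside K and N_H(A) ≤ N_H(K); K = A·O^p(K), O^p(K) being generated by the elements of K of order prime to p; and if A is a p-group, O^p(K) = [O^p(K), A]. -/
theorem result {H : Type*} [Group H] [Finite H] {p : ℕ} [Fact p.Prime] (A : Subgroup H) (K : Subgroup H) (hK : K = Cfsg.subnormalClosure A) : (Subgroup.normalClosure ((A.subgroupOf K : Subgroup ↥K) : Set ↥K)).map K.subtype = K ∧ Subgroup.normalizer (A : Set H) ≤ Subgroup.normalizer (K : Set H) ∧ A ⊔ (Cfsg.pResidual p ↥K).map K.subtype = K ∧ (IsPGroup p ↥A → ⁅(Cfsg.pResidual p ↥K).map K.subtype, A⁆ = (Cfsg.pResidual p ↥K).map K.subtype) := by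
  subst hK
  set K := Cfsg.subnormalClosure A
  have hAK : A ≤ K := le_sInf fun L hL => hL.1
  have hKsn : K.IsSubnormal := sInf_isSubnormal _ (fun L hL => hL.2)
  have hmin : ∀ L : Subgroup H, L.IsSubnormal → A ≤ L → K ≤ L := fun L h1 h2 => sInf_le ⟨h2, h1⟩
  have hminK : ∀ L : Subgroup ↥K, L.IsSubnormal → A.subgroupOf K ≤ L → L = ⊤ := fun L h1 h2 =>
    eq_top_iff.2 fun x _ => by
      have : K ≤ L.map K.subtype := hmin _ (Subgroup.IsSubnormal.trans' h1 hKsn)
        fun a ha => ⟨⟨a, hAK ha⟩, h2 ha, rfl⟩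
      obtain ⟨y, hy, he⟩ := this x.2
      exact Subtype.ext he ▸ hy
  have htop : Subgroup.normalClosure ((A.subgroupOf K : Subgroup ↥K) : Set ↥K) = ⊤ :=
    hminK _ Subgroup.normalClosure_normal.isSubnormal Subgroup.le_normalClosure
  refine ⟨?_, ?_, ?_⟩
  · rw [htop, ← MonoidHom.range_eq_map, Subgroup.range_subtype]
  · intro g hg
    rw [← map_conj_eq_iff]
    have key : ∀ g ∈ Subgroup.normalizer (A : Set H), K ≤ K.map (MulAut.conj g).toMonoidHom := fun g hg =>
      hmin _ (hKsn.map (MulAut.conj g).surjective) (map_conj_eq_iff.2 hg ▸ Subgroup.map_mono hAK)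
    refine le_antisymm ?_ (key g hg)
    have := Subgroup.map_mono (f := (MulAut.conj g).toMonoidHom) (key g⁻¹ (inv_mem hg))
    rwa [map_conj_conj, mul_inv_cancel, map_conj_one] at this
  set R := Cfsg.pResidual p ↥K
  have hRA : A.subgroupOf K ⊔ R = ⊤ := by
    refine hminK _ ?_ le_sup_left
    have hnil : Group.IsNilpotent (↥K ⧸ R) := CfsgLib.Fusion.Basic.isPGroup_quotient_pResidual.isNilpotent
    have e : A.subgroupOf K ⊔ R = ((A.subgroupOf K).map (QuotientGroup.mk' R)).comap (QuotientGroup.mk' R) := by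
      rw [Subgroup.comap_map_eq, QuotientGroup.ker_mk']
    rw [e]
    exact (subnormal_of_nilpotent _).comap _
  have hRA' : A ⊔ R.map K.subtype = K := by
    have h := congrArg (Subgroup.map K.subtype) hRA
    rwa [Subgroup.map_sup, Subgroup.map_subgroupOf_eq_of_le hAK, ← MonoidHom.range_eq_map, Subgroup.range_subtype] at h
  refine ⟨hRA', fun hAp => ?_⟩
  set A' := A.subgroupOf K
  set W : Subgroup ↥K := ⁅R, A'⁆
  haveI hWn : W.Normal := by
    refine Subgroup.normalizer_eq_top_iff.1 (top_le_iff.1 ?_)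
    rw [← hRA]
    refine sup_le ?_ ?_ <;> refine fun g hg => map_conj_eq_iff.1 ?_
    · rw [Subgroup.map_commutator, map_conj_eq_iff.2 (Subgroup.le_normalizer hg),
        map_conj_eq_iff.2 ((Subgroup.normalizer_eq_top_iff.2 (inferInstance : R.Normal)) ▸ Subgroup.mem_top g)]
    · have key : ∀ g ∈ R, W.map (MulAut.conj g).toMonoidHom ≤ W := by
        intro g hg
        rw [Subgroup.map_le_iff_le_comap, Subgroup.commutator_le]
        intro a ha y hy
        show g * ⁅a, y⁆ * g⁻¹ ∈ W
        rw [show g * ⁅a, y⁆ * g⁻¹ = ⁅g * a, y⁆ * ⁅g, y⁆⁻¹ by simp only [commutatorElement_def]; group]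
        exact mul_mem (Subgroup.commutator_mem_commutator (mul_mem hg ha) hy)
          (inv_mem (Subgroup.commutator_mem_commutator hg hy))
      refine le_antisymm (key g hg) ?_
      have := Subgroup.map_mono (f := (MulAut.conj g).toMonoidHom) (key g⁻¹ (inv_mem hg))
      rwa [map_conj_conj, mul_inv_cancel, map_conj_one] at this
  have hAW : (A' ⊔ W).Normal := by
    refine Subgroup.normalizer_eq_top_iff.1 (top_le_iff.1 ?_)
    rw [← hRA]
    refine sup_le (le_sup_left.trans Subgroup.le_normalizer) fun g hg => ?_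
    refine map_conj_eq_iff.1 ?_
    have key : ∀ g ∈ R, (A' ⊔ W).map (MulAut.conj g).toMonoidHom ≤ A' ⊔ W := by
      intro g hg
      rw [Subgroup.map_sup, sup_le_iff]
      refine ⟨?_, (Subgroup.map_mono le_rfl).trans ((map_conj_eq_iff.2 ((Subgroup.normalizer_eq_top_iff.2 hWn) ▸
        Subgroup.mem_top g)).le.trans le_sup_right)⟩
      rintro _ ⟨a, ha, rfl⟩
      show g * a * g⁻¹ ∈ A' ⊔ W
      rw [show g * a * g⁻¹ = ⁅g, a⁆ * a by rw [commutatorElement_def]; group]
      exact mul_mem (Subgroup.mem_sup_right (Subgroup.commutator_mem_commutator hg ha)) (Subgroup.mem_sup_left ha)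
    refine le_antisymm (key g hg) ?_
    have := Subgroup.map_mono (f := (MulAut.conj g).toMonoidHom) (key g⁻¹ (inv_mem hg))
    rwa [map_conj_conj, mul_inv_cancel, map_conj_one] at this
  have hAWtop : A' ⊔ W = ⊤ := hminK _ hAW.isSubnormal le_sup_left
  have hq : IsPGroup p (↥K ⧸ W) := by
    have hs : Function.Surjective ((QuotientGroup.mk' W).comp A'.subtype) := by
      intro q
      obtain ⟨x, rfl⟩ := QuotientGroup.mk'_surjective W q
      obtain ⟨a, ha, w, hw, rfl⟩ := (Subgroup.mem_sup_of_normal_right (ht := hWn)).1 (hAWtop ▸ Subgroup.mem_top x)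
      exact ⟨⟨a, ha⟩, QuotientGroup.eq.2 (by simpa using hw)⟩
    exact (hAp.comap_of_injective K.subtype K.subtype_injective : IsPGroup p A').of_surjective _ hs
  have hRW : R ≤ W := CfsgLib.Fusion.Basic.pResidual_le_of_isPGroup_quotient hq
  have hWR : W ≤ R := Subgroup.commutator_le_left R A'
  have h := congrArg (Subgroup.map K.subtype) (le_antisymm hWR hRW)
  rwa [Subgroup.map_commutator, Subgroup.map_subgroupOf_eq_of_le hAK] at h

end Cfsg.Agent.S2814
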