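import Cfsg.Statements.S2815
import Cfsg.Agent.Lib.LocalEven.PReduced
import Cfsg.Agent.Lib.LocalEven.Commutators
import Cfsg.Agent.Lib.Components.GenFitting

set_option autoImplicit false
open Cfsg

namespace Cfsg.Agent.S2815

open CfsgLib.LocalEven.SylowIn CfsgLib.Components
open scoped commutatorElement

theorem isPClosed_of_coprime {X : Type*} [Group X] [Finite X] {p : ℕ} [Fact p.Prime]
    (h : (Nat.card X).Coprime p) : Cfsg.IsPClosed p X := fun P => by
  have : (P : Subgroup X) = ⊥ := by
    obtain ⟨n, hn⟩ := IsPGroup.iff_card.1 P.2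
    rcases n.eq_zero_or_pos with rfl | hn0
    · exact Subgroup.eq_bot_of_card_eq _ (by simpa using hn)
    · exfalso
      refine (Nat.Prime.coprime_iff_not_dvd Fact.out).1 h.symm ?_
      exact ((dvd_pow_self p hn0.ne').trans hn.symm.dvd).trans (Subgroup.card_subgroup_dvd_card _)
  rw [this]; infer_instance

/-- Let H be a finite group and p a prime dividing its order with O_p(H) = 1, and suppose K = O^p(H) (generated by the elements of order prime to p) is quasisimple. Then K = F*(H); for every nontrivial p-subgroup Y of H, K = [K, Y] and K lies in the subgroup generated by the K-conjugates of Y; every normal subgroup of H not containing K has order prime to p; and H is p-irreducible. -/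
theorem result {H : Type*} [Group H] [Finite H] {p : ℕ} [Fact p.Prime] (hp : p ∣ Nat.card H) (hO : Cfsg.pCore p H = ⊥) (hq : Cfsg.IsQuasisimple ↥(Cfsg.pResidual p H)) : Cfsg.pResidual p H = Cfsg.generalizedFittingSubgroup H ∧ (∀ Y : Subgroup H, IsPGroup p ↥Y → Y ≠ ⊥ → ⁅Cfsg.pResidual p H, Y⁆ = Cfsg.pResidual p H ∧ Cfsg.pResidual p H ≤ ⨆ k : ↥(Cfsg.pResidual p H), Y.map (MulAut.conj (k : H)).toMonoidHom) ∧ (∀ C : Subgroup H, C.Normal → ¬ Cfsg.pResidual p H ≤ C → (Nat.card ↥C).Coprime p) ∧ Cfsg.IsPIrreducible p H := by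
  set K := Cfsg.pResidual p H
  haveI hKn : K.Normal := inferInstanceAs (Cfsg.pResidual p H).Normal
  haveI := hq.1
  have hKc : Cfsg.IsComponent K := ⟨hKn.isSubnormal, hq⟩
  set F := Cfsg.fittingSubgroup H
  haveI : Group.IsNilpotent F := CfsgLib.Solvable.Cores.fittingSubgroup_isNilpotent
  have hFp : (Nat.card F).Coprime p := by
    obtain ⟨P⟩ := (inferInstance : Nonempty (Sylow p F))
    haveI := P.characteristic_of_normal inferInstance
    have h := le_pCore (p := p) (N := (P : Subgroup F).map F.subtype) (P.2.map _)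
    rw [hO, le_bot_iff, Subgroup.map_eq_bot_iff_of_injective _ F.subtype_injective] at h
    exact ((Nat.Prime.coprime_iff_not_dvd Fact.out).2 fun hd => P.ne_bot_of_dvd_card hd h).symm
  have hFR : F ≤ K := fun x hx =>
    CfsgLib.Fusion.Basic.mem_pResidual_of_coprime (hFp.coprime_dvd_left (F.orderOf_dvd_natCard hx))
  have hcomp : ∀ L : Subgroup H, Cfsg.IsComponent L → L = K := fun L hL => by
    by_contra hne
    have hLK : L ≤ K := by
      haveI := IsComponent.isPerfect hL
      have hp' := (CfsgLib.Fusion.Basic.isPGroup_quotient_pResidual (p := p) (G := H)).isNilpotent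
      have h1 : L.map (QuotientGroup.mk' K) = ⊥ := by
        by_contra h0
        haveI : Nontrivial (L.map (QuotientGroup.mk' K)) := (Subgroup.nontrivial_iff_ne_bot _).2 h0
        haveI : Group.IsPerfect ↥(L.map (QuotientGroup.mk' K)) :=
          Group.IsPerfect.ofSurjective ((QuotientGroup.mk' K).subgroupMap_surjective L)
        exact Group.IsPerfect.not_isSolvable ↥(L.map (QuotientGroup.mk' K)) inferInstance
      rw [Subgroup.map_eq_bot_iff, QuotientGroup.ker_mk'] at h1
      exact h1
    exact IsComponent.not_le_centralizer hL ((IsComponent.le_centralizer_of_ne hL hKc hne).trans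
      (Subgroup.centralizer_le hLK))
  have hFs : K = Cfsg.generalizedFittingSubgroup H := by
    refine le_antisymm ((IsComponent.le_layer hKc).trans le_sup_left) (sup_le (layer_le_iff.2 fun L hL => (hcomp L hL).le) hFR)
  have hCK : Subgroup.centralizer (K : Set H) ≤ F := by
    rw [hFs]
    exact centralizer_generalizedFitting_le_fitting
  have hthree : ∀ X : Subgroup H, ⁅X, K⁆ ≤ K → (K ≤ Subgroup.normalizer ((⁅X, K⁆ : Subgroup H) : Set H)) → ⁅X, K⁆ ≠ K → X ≤ Subgroup.centralizer (K : Set H) := by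
    intro X hle hn hne
    haveI := (Subgroup.normal_subgroupOf_iff_le_normalizer hle).2 hn
    have hz : ⁅X, K⁆ ≤ Subgroup.centralizer (K : Set H) := by
      rcases IsQuasisimple.normal_le_center_or_top hq (⁅X, K⁆.subgroupOf K) with h | h
      · intro x hx
        refine Subgroup.mem_centralizer_iff.2 fun k hk => ?_
        exact congrArg Subtype.val (Subgroup.mem_center_iff.1 (h (show (⟨x, hle hx⟩ : K) ∈ _ from hx)) ⟨k, hk⟩)
      · exact absurd (le_antisymm hle (Subgroup.subgroupOf_eq_top.1 h)) hne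
    have h1 : ⁅⁅X, K⁆, K⁆ = ⊥ := Subgroup.commutator_eq_bot_iff_le_centralizer.2 hz
    have h2 : ⁅⁅K, X⁆, K⁆ = ⊥ := by rwa [Subgroup.commutator_comm K X]
    have h3 : ⁅⁅K, K⁆, X⁆ = ⊥ := Subgroup.commutator_commutator_eq_bot_of_rotate h2 h1
    rw [(IsComponent.commutator_self hKc)] at h3
    exact Subgroup.le_centralizer_iff.1 (Subgroup.commutator_eq_bot_iff_le_centralizer.1 h3)
  have hY : ∀ Y : Subgroup H, IsPGroup p ↥Y → Y ≠ ⊥ → ⁅K, Y⁆ = K := by
    intro Y hYp hY1
    by_contra hne
    rw [Subgroup.commutator_comm] at hne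
    have hle : ⁅Y, K⁆ ≤ K := Subgroup.commutator_le_right Y K
    have hn : K ≤ Subgroup.normalizer ((⁅Y, K⁆ : Subgroup H) : Set H) := by
      rw [Subgroup.commutator_comm]
      exact CfsgLib.LocalEven.Commutators.normalizer_commutator_left K Y
    have hYF := (hthree Y hle hn hne).trans hCK
    refine hY1 (eq_bot_iff.2 fun y hy => CfsgLib.LocalEven.PReduced.eq_one_of_coprime_of_isPGroup hYp hy ?_)
    exact hFp.coprime_dvd_left (F.orderOf_dvd_natCard (hYF hy))
  have hC : ∀ C : Subgroup H, C.Normal → ¬ K ≤ C → (Nat.card ↥C).Coprime p := by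
    intro C hCn hKC
    haveI := hCn
    refine Nat.Coprime.coprime_dvd_left (Subgroup.card_dvd_of_le ((hthree C (Subgroup.commutator_le_right C K)
      ?_ fun h => hKC (h.ge.trans (Subgroup.commutator_le_left C K))).trans hCK)) hFp
    exact (Subgroup.normalizer_eq_top (H := ⁅C, K⁆)).symm ▸ le_top
  refine ⟨hFs, fun Y hYp hY1 => ⟨hY Y hYp hY1, ?_⟩, hC, fun h => ?_, fun N hN hNc => ?_⟩
  · conv_lhs => rw [← hY Y hYp hY1]
    set W := ⨆ k : ↥K, Y.map (MulAut.conj (k : H)).toMonoidHom
    have hYW : Y ≤ W := le_trans (b := Y.map (MulAut.conj ((1 : ↥K) : H)).toMonoidHom) (fun y hy => ⟨y, hy, by simp⟩) (le_iSup (fun k : ↥K => Y.map (MulAut.conj (k : H)).toMonoidHom) 1)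
    refine Subgroup.commutator_le.2 fun k hk y hy => ?_
    rw [commutatorElement_def]
    exact mul_mem ((le_iSup (fun k : ↥K => Y.map (MulAut.conj (k : H)).toMonoidHom) ⟨k, hk⟩) ⟨y, hy, rfl⟩) (inv_mem (hYW hy))
  · obtain ⟨P⟩ := (inferInstance : Nonempty (Sylow p H))
    haveI := h P
    have h1 := le_pCore (p := p) (N := (P : Subgroup H)) P.2
    rw [hO, le_bot_iff] at h1
    exact P.ne_bot_of_dvd_card hp h1
  · by_contra hKN
    exact hNc (isPClosed_of_coprime (hC N hN hKN))

end Cfsg.Agent.S2815
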