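import Cfsg.Statements.S2816
import Cfsg.Agent.Lib.LocalEven.PReduced
import Cfsg.Agent.Lib.LocalEven.Commutators
import Cfsg.Agent.Lib.Components.GenFitting
import Cfsg.Agent.Lib.Coprime.Action

set_option autoImplicit false
open Cfsg

namespace Cfsg.Agent.S2816

open CfsgLib.LocalEven.SylowIn CfsgLib.LocalEven.Commutators CfsgLib.Components
open scoped commutatorElement

variable {G : Type*} [Group G] [Finite G]

theorem sup_commutator_le {A B Y W : Subgroup G} (hA : A ≤ Subgroup.normalizer (W : Set G))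
    (hB : B ≤ Subgroup.normalizer (W : Set G)) (h1 : ⁅A, Y⁆ ≤ W) (h2 : ⁅B, Y⁆ ≤ W) : ⁅A ⊔ B, Y⁆ ≤ W := by
  refine Subgroup.commutator_le.2 fun x hx y hy => ?_
  rw [Subgroup.sup_eq_closure] at hx
  refine (Subgroup.closure_induction (p := fun x _ => x ∈ Subgroup.normalizer (W : Set G) ∧ ⁅x, y⁆ ∈ W)
    ?_ ⟨one_mem _, by simp [commutatorElement_def]⟩ ?_ ?_ hx).2
  · rintro z (hz | hz)
    · exact ⟨hA hz, h1 (Subgroup.commutator_mem_commutator hz hy)⟩
    · exact ⟨hB hz, h2 (Subgroup.commutator_mem_commutator hz hy)⟩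
  · intro a b _ _ ha hb
    refine ⟨mul_mem ha.1 hb.1, ?_⟩
    rw [show ⁅a * b, y⁆ = a * ⁅b, y⁆ * a⁻¹ * ⁅a, y⁆ by simp only [commutatorElement_def]; group]
    exact mul_mem ((Subgroup.mem_normalizer_iff.1 ha.1 _).1 hb.2) ha.2
  · intro a _ ha
    refine ⟨inv_mem ha.1, ?_⟩
    rw [show ⁅a⁻¹, y⁆ = a⁻¹ * ⁅a, y⁆⁻¹ * (a⁻¹)⁻¹ by simp only [commutatorElement_def]; group]
    exact (Subgroup.mem_normalizer_iff.1 (inv_mem ha.1) _).1 (inv_mem ha.2)

/-- `[E(G), Y] = [E(G), Y, Y]`. -/
theorem commutator_layer_self (Y : Subgroup G) :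
    ⁅⁅Cfsg.layer G, Y⁆, Y⁆ = ⁅Cfsg.layer G, Y⁆ := by
  set E := Cfsg.layer G
  set A := ⁅E, Y⁆
  have hEn : ∀ X : Subgroup G, X ≤ Subgroup.normalizer (E : Set G) := fun X => by
    rw [Subgroup.normalizer_eq_top]; exact le_top
  have hAE : A ≤ E := Subgroup.le_normalizer_iff_commutator_le_left.1 (hEn Y)
  have hEA : E ≤ Subgroup.normalizer (A : Set G) := normalizer_commutator_left E Y
  have hYA : Y ≤ Subgroup.normalizer (A : Set G) := normalizer_commutator_right E Y
  have hEC : E ≤ A ⊔ Subgroup.centralizer (A : Set G) := layer_le_iff.2 fun L hL => by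
    rcases IsComponent.le_or_commutator_eq_bot_of_le_normalizer hL ((IsComponent.le_layer hL).trans hEA) with h | h
    · exact h.trans le_sup_left
    · exact (Subgroup.commutator_eq_bot_iff_le_centralizer.1 h).trans le_sup_right
  have hperf : ⁅A, A⁆ = A := by
    refine le_antisymm (Subgroup.commutator_le_self A) ?_
    have h1 : A ≤ ⁅A, E⁆ := by
      have hE : E ≤ Subgroup.normalizer ((⁅A, E⁆ : Subgroup G) : Set G) := normalizer_commutator_right A E
      have hY : Y ≤ Subgroup.normalizer ((⁅A, E⁆ : Subgroup G) : Set G) :=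
        CfsgLib.LocalEven.PReduced.normalizer_commutator hYA (hEn Y)
      have h := three_subgroup_mod (P := E) (A := E) (B := Y) hE hE hY le_rfl (by rw [Subgroup.commutator_comm Y E])
      rwa [layer_commutator_self] at h
    refine h1.trans ?_
    rw [Subgroup.commutator_comm]
    refine le_trans (Subgroup.commutator_mono hEC le_rfl) (sup_commutator_le ?_ ?_ le_rfl ?_)
    · exact (Subgroup.le_normalizer (H := A)).trans (CfsgLib.LocalEven.PReduced.normalizer_commutator le_rfl le_rfl)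
    · exact (Subgroup.centralizer_le_normalizer _).trans (CfsgLib.LocalEven.PReduced.normalizer_commutator le_rfl le_rfl)
    · rw [Subgroup.commutator_eq_bot_iff_le_centralizer.2 le_rfl]; exact bot_le
  set B := ⁅A, Y⁆
  have hBA : B ≤ A := Subgroup.le_normalizer_iff_commutator_le_left.1 hYA
  refine le_antisymm hBA ?_
  have hEB : E ≤ Subgroup.normalizer (B : Set G) := hEC.trans (sup_le (normalizer_commutator_left A Y)
    ((Subgroup.centralizer_le hBA).trans (Subgroup.centralizer_le_normalizer _)))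
  conv_lhs => rw [← hperf]
  refine three_subgroup_mod (P := E) (A := Y) (B := A) hEB (normalizer_commutator_right A Y)
    (hAE.trans hEB) ?_ ?_
  · rw [Subgroup.commutator_comm Y A]
    exact Subgroup.le_normalizer_iff_commutator_le_left.1 hEB
  · exact Subgroup.commutator_mono (Subgroup.le_normalizer_iff_commutator_le_left.1 hEA) le_rfl

/-- `[F*(G), Y] = [F*(G), Y, Y]` when `O_p(G) = 1`. -/
theorem commutator_genFitting_self {p : ℕ} [Fact p.Prime] (hO : Cfsg.pCore p G = ⊥) (Y : Subgroup G)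
    (hY : IsPGroup p Y) :
    ⁅⁅Cfsg.generalizedFittingSubgroup G, Y⁆, Y⁆ = ⁅Cfsg.generalizedFittingSubgroup G, Y⁆ ∧
      (Nat.card (Cfsg.fittingSubgroup G)).Coprime p := by
  set E := Cfsg.layer G
  set F := Cfsg.fittingSubgroup G
  haveI : Group.IsNilpotent F := CfsgLib.Solvable.Cores.fittingSubgroup_isNilpotent
  have hFp : (Nat.card F).Coprime p := by
    obtain ⟨P⟩ := (inferInstance : Nonempty (Sylow p F))
    haveI := P.characteristic_of_normal inferInstance
    have h := le_pCore (p := p) (N := (P : Subgroup F).map F.subtype) (P.2.map _)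
    rw [hO, le_bot_iff, Subgroup.map_eq_bot_iff_of_injective _ F.subtype_injective] at h
    exact ((Nat.Prime.coprime_iff_not_dvd Fact.out).2 fun hd => P.ne_bot_of_dvd_card hd h).symm
  refine ⟨?_, hFp⟩
  have hn : ∀ (X N : Subgroup G), N.Normal → X ≤ Subgroup.normalizer (N : Set G) := fun X N hN => by
    haveI := hN; rw [Subgroup.normalizer_eq_top]; exact le_top
  have hcF : ⁅⁅F, Y⁆, Y⁆ = ⁅F, Y⁆ := by
    obtain ⟨n, hn'⟩ := IsPGroup.iff_card.1 hY
    exact CfsgLib.Coprime.commutator_commutator_self (hn _ _ inferInstance)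
      (by rw [hn']; exact (hFp.symm.pow_left n)) (Or.inr inferInstance)
  have h1 : ⁅F, Y⁆ ≤ F := Subgroup.le_normalizer_iff_commutator_le_left.1 (hn _ _ inferInstance)
  have h2 : ⁅E, Y⁆ ≤ E := Subgroup.le_normalizer_iff_commutator_le_left.1 (hn _ _ inferInstance)
  have hcE : E ≤ Subgroup.centralizer (F : Set G) := layer_le_centralizer_fitting
  have hsup : ⁅E ⊔ F, Y⁆ ≤ ⁅E, Y⁆ ⊔ ⁅F, Y⁆ := by
    refine sup_commutator_le ?_ ?_ le_sup_left le_sup_right
    · exact CfsgLib.LocalEven.PReduced.normalizer_sup (normalizer_commutator_left E Y)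
        (hcE.trans ((Subgroup.centralizer_le h1).trans (Subgroup.centralizer_le_normalizer _)))
    · exact CfsgLib.LocalEven.PReduced.normalizer_sup
        ((Subgroup.le_centralizer_iff.1 (h2.trans hcE)).trans (Subgroup.centralizer_le_normalizer _))
        (normalizer_commutator_left F Y)
  have hnorm := hn Y (Cfsg.generalizedFittingSubgroup G) inferInstance
  refine le_antisymm (Subgroup.commutator_mono (Subgroup.le_normalizer_iff_commutator_le_left.1 hnorm) le_rfl) ?_
  refine hsup.trans (sup_le ?_ ?_)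
  · conv_lhs => rw [← commutator_layer_self Y]
    exact Subgroup.commutator_mono (Subgroup.commutator_mono le_sup_left le_rfl) le_rfl
  · conv_lhs => rw [← hcF]
    exact Subgroup.commutator_mono (Subgroup.commutator_mono le_sup_right le_rfl) le_rfl

theorem le_of_commutator_self {A Y K : Subgroup G} (hA : ⁅A, Y⁆ = A) (hK : K.IsSubnormal) :
    Y ≤ K → A ≤ K := by
  induction hK with
  | top => exact fun _ => le_top
  | step H K hle _ hn ih =>
    intro hY
    have hAK := ih (hY.trans hle)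
    rw [← hA]
    exact (Subgroup.commutator_mono hAK hY).trans
      (Subgroup.le_normalizer_iff_commutator_le_right.1 ((Subgroup.normal_subgroupOf_iff_le_normalizer hle).1 hn))

/-- Let H be a finite group and p a prime with O_p(H) = 1, and Y a p-subgroup of H. Then for every subnormal subgroup K of H containing Y, [F*(H), Y] = [F*(K), Y] = [F*(K), Y, Y]; and if Y₀ ≤ Y with [F*(H), Y, Y₀] = 1 then Y₀ = 1 (in particular [F*(H), Y] = 1 forces Y = 1). -/
theorem result {H : Type*} [Group H] [Finite H] {p : ℕ} [Fact p.Prime] (hO : Cfsg.pCore p H = ⊥) (Y : Subgroup H) (hY : IsPGroup p ↥Y) : (∀ K : Subgroup H, K.IsSubnormal → Y ≤ K → ⁅Cfsg.generalizedFittingSubgroup H, Y⁆ = ⁅(Cfsg.generalizedFittingSubgroup ↥K).map K.subtype, Y⁆ ∧ ⁅(Cfsg.generalizedFittingSubgroup ↥K).map K.subtype, Y⁆ = ⁅⁅(Cfsg.generalizedFittingSubgroup ↥K).map K.subtype, Y⁆, Y⁆) ∧ (∀ Y₀ : Subgroup H, Y₀ ≤ Y → ⁅⁅Cfsg.generalizedFittingSubgroup H, Y⁆, Y₀⁆ = ⊥ → Y₀ = ⊥) := by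
  obtain ⟨hA, hFp⟩ := commutator_genFitting_self hO Y hY
  refine ⟨fun K hK hYK => ?_, fun Y₀ h0 h => ?_⟩
  · rw [generalizedFitting_map_subtype_eq hK]
    set A := ⁅Cfsg.generalizedFittingSubgroup H, Y⁆
    have hAF : A ≤ Cfsg.generalizedFittingSubgroup H := Subgroup.commutator_le_left _ _
    have e : A = ⁅Cfsg.generalizedFittingSubgroup H ⊓ K, Y⁆ := by
      refine le_antisymm ?_ (Subgroup.commutator_mono inf_le_left le_rfl)
      conv_lhs => rw [← hA]
      exact Subgroup.commutator_mono (le_inf hAF (le_of_commutator_self hA hK hYK)) le_rfl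
    exact ⟨e, by rw [← e, hA]⟩
  · have hY₀ : IsPGroup p ↥Y₀ := hY.to_le h0
    obtain ⟨h1, -⟩ := commutator_genFitting_self hO Y₀ hY₀
    have h2 : ⁅Cfsg.generalizedFittingSubgroup H, Y₀⁆ = ⊥ := by
      refine le_bot_iff.1 ?_
      rw [← h1, ← h]
      exact Subgroup.commutator_mono (Subgroup.commutator_mono le_rfl h0) le_rfl
    rw [Subgroup.commutator_comm] at h2
    have h3 := (Subgroup.commutator_eq_bot_iff_le_centralizer.1 h2).trans centralizer_generalizedFitting_le_fitting
    exact eq_bot_iff.2 fun y hy => CfsgLib.LocalEven.PReduced.eq_one_of_coprime_of_isPGroup hY₀ hy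
      (hFp.coprime_dvd_left ((Cfsg.fittingSubgroup H).orderOf_dvd_natCard (h3 hy)))

end Cfsg.Agent.S2816
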