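import Cfsg.Statements.S2817
import Cfsg.Agent.Lib.LocalEven.FStar

set_option autoImplicit false
open Cfsg

namespace Cfsg.Agent.S2817

open CfsgLib.LocalEven CfsgLib.LocalEven.SylowIn CfsgLib.LocalEven.PReduced CfsgLib.Components CfsgLib.LocalEven.Commutators
open scoped commutatorElement

theorem mem_frattini_of_fixed {L Q : Type*} [Group L] [Finite L] [Group Q] [Finite Q] {p : ℕ} [Fact p.Prime]
    (hQ : IsPGroup p Q) (ρ : Q → (L ≃* L)) (hgen : Subgroup.closure {x : L | ∃ q l, x = (ρ q l) * l⁻¹} = ⊤)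
    (hperm : ∀ q : Q, ∀ r : Q, ∀ l, ρ r (ρ q l) = ρ (r * q) l)
    {z : L} (hz : z ∈ Subgroup.center L) (hfix : ∀ q, ρ q z = z) (hc : (orderOf z).Coprime p) :
    z ∈ frattini L := by
  classical
  haveI : Fintype Q := Fintype.ofFinite Q
  rw [frattini, Order.radical, Subgroup.mem_iInf]
  intro M
  rw [Subgroup.mem_iInf]
  intro hM
  by_contra hzM
  have htop : M ⊔ Subgroup.zpowers z = ⊤ := hM.2 _ (left_lt_sup.2 (fun h => hzM (h (Subgroup.mem_zpowers z))))
  haveI : M.Normal := Subgroup.normalizer_eq_top_iff.1 (top_le_iff.1 (by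
    rw [← htop]
    exact sup_le Subgroup.le_normalizer (Subgroup.zpowers_le.2 (Subgroup.center_le_normalizer M hz))))
  let π := QuotientGroup.mk' M
  have hgenq : ∀ a : L ⧸ M, ∃ k : ℤ, a = π z ^ k := by
    intro a
    obtain ⟨l, rfl⟩ := QuotientGroup.mk'_surjective M a
    have hl : l ∈ ((M ⊔ Subgroup.zpowers z : Subgroup L) : Set L) := by rw [htop]; trivial
    rw [Subgroup.normal_mul] at hl
    obtain ⟨m, hm, w, ⟨k, rfl⟩, rfl⟩ := hl
    refine ⟨k, ?_⟩
    rw [map_mul, show π m = 1 from (QuotientGroup.eq_one_iff m).2 hm, one_mul, map_zpow]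
  letI : CommGroup (L ⧸ M) :=
    { (inferInstance : Group (L ⧸ M)) with
      mul_comm := fun a b => by
        obtain ⟨i, rfl⟩ := hgenq a
        obtain ⟨j, rfl⟩ := hgenq b
        exact ((Commute.refl (π z)).zpow_zpow i j).eq }
  let ψ : L →* L ⧸ M :=
    { toFun := fun l => ∏ q, π (ρ q l)
      map_one' := Finset.prod_eq_one fun q _ => by rw [map_one, map_one]
      map_mul' := fun a b => by
        rw [← Finset.prod_mul_distrib]
        exact Finset.prod_congr rfl fun q _ => by rw [map_mul, map_mul] }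
  have hψ : ψ.ker = ⊤ := by
    rw [eq_top_iff, ← hgen, Subgroup.closure_le]
    rintro _ ⟨q, l, rfl⟩
    have e : ψ (ρ q l) = ψ l := by
      refine Fintype.prod_equiv (Equiv.mulRight q) _ _ fun r => ?_
      rw [Equiv.coe_mulRight, hperm]
    rw [SetLike.mem_coe, MonoidHom.mem_ker, map_mul, e, map_inv, mul_inv_cancel]
  have h1 : ψ z = 1 := MonoidHom.mem_ker.1 (hψ ▸ Subgroup.mem_top z)
  change ∏ q, π (ρ q z) = 1 at h1
  rw [Finset.prod_congr rfl fun q _ => by rw [hfix q], Finset.prod_const, Finset.card_univ,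
    ← Nat.card_eq_fintype_card] at h1
  obtain ⟨n, hn⟩ := IsPGroup.iff_card.1 hQ
  rw [hn] at h1
  refine hzM ((QuotientGroup.eq_one_iff z).1 ?_)
  exact orderOf_eq_one_iff.1 (Nat.eq_one_of_dvd_coprimes ((hc.pow_right n).coprime_dvd_left (orderOf_map_dvd π z))
    dvd_rfl (orderOf_dvd_of_pow_eq_one h1))

/-- Let H be a finite group and p a prime with O_p(H) = 1, Q a p-subgroup of H, L = [F*(H), Q], and F the largest normal subgroup of F*(H) centralized by Q (a normal subgroup of F*(H) centralized by Q and containing every such). Then F = C_{F*(H)}(LQ); L = [L, Q]; L ∩ F ≤ Φ(L); every p-subgroup B of N_H(Q) with [L, B] ≤ F satisfies [L, B] = 1; and C_H(FL) has order prime to p. -/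
theorem result {H : Type*} [Group H] [Finite H] {p : ℕ} [Fact p.Prime] (hO : Cfsg.pCore p H = ⊥) (Q : Subgroup H) (hQ : IsPGroup p ↥Q) (L : Subgroup H) (hL : L = ⁅Cfsg.generalizedFittingSubgroup H, Q⁆) (F : Subgroup H) (hF : F ≤ Cfsg.generalizedFittingSubgroup H ∧ Cfsg.generalizedFittingSubgroup H ≤ Subgroup.normalizer (F : Set H) ∧ Q ≤ Subgroup.centralizer (F : Set H) ∧ ∀ N : Subgroup H, N ≤ Cfsg.generalizedFittingSubgroup H → Cfsg.generalizedFittingSubgroup H ≤ Subgroup.normalizer (N : Set H) → Q ≤ Subgroup.centralizer (N : Set H) → N ≤ F) : F = Cfsg.generalizedFittingSubgroup H ⊓ Subgroup.centralizer ((L ⊔ Q : Subgroup H) : Set H) ∧ ⁅L, Q⁆ = L ∧ L ⊓ F ≤ (frattini ↥L).map L.subtype ∧ (∀ B : Subgroup H, IsPGroup p ↥B → B ≤ Subgroup.normalizer (Q : Set H) → ⁅L, B⁆ ≤ F → ⁅L, B⁆ = ⊥) ∧ (Nat.card ↥(Subgroup.centralizer ((F ⊔ L : Subgroup H) : Set H))).Coprime p := by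
  subst hL
  obtain ⟨hF1, hFn, hQF, hmax⟩ := hF
  set X := Cfsg.generalizedFittingSubgroup H
  set L := ⁅X, Q⁆
  have hnorm : ∀ K : Subgroup H, K ≤ Subgroup.normalizer (X : Set H) := fun K => by
    rw [Subgroup.normalizer_eq_top]; exact le_top
  have hXsn : X.IsSubnormal := (inferInstance : X.Normal).isSubnormal
  have hXh := FStar.hyps_of_subnormal hO hXsn le_rfl
  have hid : ∀ B : Subgroup H, IsPGroup p B → ⁅⁅X, B⁆, B⁆ = ⁅X, B⁆ := fun B hB =>
    (FStar.fstar_action hB (hnorm B) hXh.1 hXh.2).2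
  have hLQ : ⁅L, Q⁆ = L := hid Q hQ
  have hLX : L ≤ X := Subgroup.le_normalizer_iff_commutator_le_left.1 (hnorm Q)
  have hXL : X ≤ Subgroup.normalizer (L : Set H) := normalizer_commutator_left X Q
  have hQL : Q ≤ Subgroup.normalizer (L : Set H) := normalizer_commutator_right X Q
  haveI : Group.IsNilpotent (Cfsg.fittingSubgroup H) := CfsgLib.Solvable.Cores.fittingSubgroup_isNilpotent
  have hFit : (Nat.card (Cfsg.fittingSubgroup H)).Coprime p := by
    set F' := Cfsg.fittingSubgroup H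
    obtain ⟨P⟩ := (inferInstance : Nonempty (Sylow p F'))
    haveI := P.characteristic_of_normal inferInstance
    have h := SylowIn.le_pCore (p := p) (N := (P : Subgroup F').map F'.subtype) (P.2.map _)
    rw [hO, le_bot_iff, Subgroup.map_eq_bot_iff_of_injective _ F'.subtype_injective] at h
    exact ((Nat.Prime.coprime_iff_not_dvd Fact.out).2 fun hd => P.ne_bot_of_dvd_card hd h).symm
  have hkill : ∀ B : Subgroup H, IsPGroup p B → ⁅X, B⁆ = ⊥ → B = ⊥ := fun B hB h => by
    rw [Subgroup.commutator_comm] at h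
    have h3 := (Subgroup.commutator_eq_bot_iff_le_centralizer.1 h).trans centralizer_generalizedFitting_le_fitting
    exact eq_bot_iff.2 fun y hy => eq_one_of_coprime_of_isPGroup hB hy
      (hFit.coprime_dvd_left ((Cfsg.fittingSubgroup H).orderOf_dvd_natCard (h3 hy)))
  -- `F` centralises `L`
  have hLF : L ≤ Subgroup.centralizer (F : Set H) := by
    rw [← Subgroup.commutator_eq_bot_iff_le_centralizer]
    refine Subgroup.commutator_commutator_eq_bot_of_rotate ?_ ?_
    · rw [Subgroup.commutator_eq_bot_iff_le_centralizer.2 hQF, Subgroup.commutator_bot_left]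
    · refine le_bot_iff.1 ?_
      calc ⁅⁅F, X⁆, Q⁆ ≤ ⁅F, Q⁆ :=
            Subgroup.commutator_mono (Subgroup.le_normalizer_iff_commutator_le_left.1 hFn) le_rfl
        _ = ⊥ := by rw [Subgroup.commutator_comm, Subgroup.commutator_eq_bot_iff_le_centralizer.2 hQF]
  set C := X ⊓ Subgroup.centralizer ((L ⊔ Q : Subgroup H) : Set H)
  have hCn : X ≤ Subgroup.normalizer (C : Set H) := by
    have key : ∀ f ∈ X, ∀ c ∈ C, f * c * f⁻¹ ∈ C := by
      intro f hf c hc
      refine Subgroup.mem_inf.2 ⟨mul_mem (mul_mem hf (Subgroup.mem_inf.1 hc).1) (inv_mem hf), ?_⟩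
      have hcL : ∀ l ∈ L, l * c = c * l := fun l hl =>
        Subgroup.mem_centralizer_iff.1 (Subgroup.mem_inf.1 hc).2 l (Subgroup.mem_sup_left hl)
      have hcQ : ∀ q ∈ Q, q * c = c * q := fun q hq =>
        Subgroup.mem_centralizer_iff.1 (Subgroup.mem_inf.1 hc).2 q (Subgroup.mem_sup_right hq)
      refine (Subgroup.le_centralizer_iff.1 (sup_le ?_ ?_ : L ⊔ Q ≤ Subgroup.centralizer ((Subgroup.zpowers (f * c * f⁻¹) : Subgroup H) : Set H))) (Subgroup.mem_zpowers _)
      · intro l hl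
        rw [Subgroup.zpowers_eq_closure, Subgroup.centralizer_closure, Subgroup.mem_centralizer_singleton_iff]
        have hl' : f⁻¹ * l * f ∈ L := (Subgroup.mem_normalizer_iff''.1 (hXL hf) l).1 hl
        calc l * (f * c * f⁻¹) = f * (f⁻¹ * l * f * c) * f⁻¹ := by group
          _ = f * (c * (f⁻¹ * l * f)) * f⁻¹ := by rw [hcL _ hl']
          _ = f * c * f⁻¹ * l := by group
      · intro q hq
        rw [Subgroup.zpowers_eq_closure, Subgroup.centralizer_closure, Subgroup.mem_centralizer_singleton_iff]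
        have hl' : ⁅f⁻¹, q⁆ ∈ L := Subgroup.commutator_mem_commutator (inv_mem hf) hq
        calc q * (f * c * f⁻¹) = f * (⁅f⁻¹, q⁆ * (q * c)) * f⁻¹ := by rw [commutatorElement_def]; group
          _ = f * ((⁅f⁻¹, q⁆ * c) * q) * f⁻¹ := by rw [hcQ q hq]; group
          _ = f * (c * ⁅f⁻¹, q⁆ * q) * f⁻¹ := by rw [hcL _ hl']
          _ = f * c * f⁻¹ * q := by rw [commutatorElement_def]; group
    intro f hf
    refine Subgroup.mem_normalizer_iff.2 fun c => ⟨fun hc => key f hf c hc, fun hc => ?_⟩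
    have h' := key f⁻¹ (inv_mem hf) _ hc
    simpa [mul_assoc] using h'
  have hCF : C ≤ F := hmax C inf_le_left hCn
    (Subgroup.le_centralizer_iff.1 (inf_le_right.trans (Subgroup.centralizer_le (fun x hx => Subgroup.mem_sup_right hx))))
  have hFC : F ≤ C := le_inf hF1 (Subgroup.le_centralizer_iff.1 (sup_le hLF hQF))
  set Z := L ⊓ F
  have hZc : ⁅Z, Q⁆ = ⊥ := Subgroup.commutator_eq_bot_iff_le_centralizer.2
    (inf_le_right.trans (Subgroup.le_centralizer_iff.1 hQF))
  have hLsn : L.IsSubnormal := isSubnormal_of_normal hXsn hLX hXL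
  have hZfit : Z ≤ Cfsg.fittingSubgroup H := by
    have hFsn : F.IsSubnormal := isSubnormal_of_normal hXsn hF1 hFn
    haveI : IsMulCommutative Z := Subgroup.le_centralizer_iff_isMulCommutative.1
      (inf_le_left.trans (hLF.trans (Subgroup.centralizer_le inf_le_right)))
    exact le_fittingSubgroup_of_subnormal (hLsn.inf hFsn) (isNilpotent_of_isMulCommutative Z)
  refine ⟨le_antisymm hFC hCF, hLQ, ?_, ?_, ?_⟩
  · intro z hz
    have hzL : z ∈ L := (Subgroup.mem_inf.1 hz).1
    let ρ : ↥Q → (↥L ≃* ↥L) := fun q =>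
      { toFun := fun l => ⟨(q : H) * l * (q : H)⁻¹, (Subgroup.mem_normalizer_iff.1 (hQL q.2) l).1 l.2⟩
        invFun := fun l => ⟨(q : H)⁻¹ * l * q, (Subgroup.mem_normalizer_iff''.1 (hQL q.2) l).1 l.2⟩
        left_inv := fun l => Subtype.ext (by simp [mul_assoc])
        right_inv := fun l => Subtype.ext (by simp [mul_assoc])
        map_mul' := fun a b => Subtype.ext (by simp [mul_assoc]) }
    refine ⟨⟨z, hzL⟩, mem_frattini_of_fixed hQ ρ ?_ ?_ ?_ ?_ ?_, rfl⟩
    · refine top_le_iff.1 fun x _ => ?_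
      obtain ⟨x, hx⟩ := x
      have key : ⁅L, Q⁆ ≤ (Subgroup.closure {x : ↥L | ∃ q l, x = (ρ q l) * l⁻¹}).map L.subtype := by
        refine Subgroup.commutator_le.2 fun l hl q hq => ⟨(ρ ⟨q, hq⟩ ⟨l, hl⟩ * (⟨l, hl⟩ : ↥L)⁻¹)⁻¹,
          inv_mem (Subgroup.subset_closure ⟨_, _, rfl⟩), ?_⟩
        simp only [map_inv, map_mul, Subgroup.coe_subtype, commutatorElement_def]
        show ((q * l * q⁻¹) * l⁻¹)⁻¹ = l * q * l⁻¹ * q⁻¹
        group
      obtain ⟨y, hy, he⟩ := key (hLQ.ge hx)
      have e : y = ⟨x, hx⟩ := Subtype.ext he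
      exact e ▸ hy
    · intro q r l
      refine Subtype.ext ?_
      show (r : H) * ((q : H) * l * (q : H)⁻¹) * (r : H)⁻¹ = ((r * q : ↥Q) : H) * l * ((r * q : ↥Q) : H)⁻¹
      simp [mul_assoc]
    · exact Subgroup.mem_center_iff.2 fun l => Subtype.ext
        (Subgroup.mem_centralizer_iff.1 (hLF l.2) z (Subgroup.mem_inf.1 hz).2).symm
    · intro q
      refine Subtype.ext ?_
      show (q : H) * z * (q : H)⁻¹ = z
      rw [(Subgroup.mem_centralizer_iff.1 (hQF q.2) z (Subgroup.mem_inf.1 hz).2).symm, mul_inv_cancel_right]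
    · rw [Subgroup.orderOf_mk]
      exact hFit.coprime_dvd_left ((Cfsg.fittingSubgroup H).orderOf_dvd_natCard (hZfit hz))
  · intro B hB hBN hBF
    have hBL : B ≤ Subgroup.normalizer (L : Set H) :=
      PReduced.normalizer_commutator (hnorm B) hBN
    have hBZ : ⁅L, B⁆ ≤ Z := le_inf (Subgroup.le_normalizer_iff_commutator_le_left.1 hBL) hBF
    set D := ⁅Q, B⁆
    have hDQ : D ≤ Q := Subgroup.le_normalizer_iff_commutator_le_left.1 hBN
    have hLnZ : L ≤ Subgroup.normalizer (Z : Set H) :=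
      PReduced.normalizer_inf Subgroup.le_normalizer (hLX.trans hFn)
    have hQnZ : Q ≤ Subgroup.normalizer (Z : Set H) := by
      refine le_trans ?_ (Subgroup.centralizer_le_normalizer _)
      exact hQF.trans (Subgroup.centralizer_le inf_le_right)
    have hBnZ : B ≤ Subgroup.normalizer (Z : Set H) := PReduced.normalizer_inf hBL (by
      refine le_normalizer_of_map_conj fun b hb => ?_
      have key : ∀ g ∈ B, F.map (MulAut.conj g).toMonoidHom ≤ F := fun g hg => hmax _
        ((Subgroup.map_mono hF1).trans (map_conj_eq_iff.2 (hnorm B hg)).le)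
        (by
          have h1 := Subgroup.map_mono (f := (MulAut.conj g).toMonoidHom) hFn
          rwa [map_conj_eq_iff.2 (hnorm B hg), ← normalizer_map_conj] at h1)
        (by
          have h1 := Subgroup.map_mono (f := (MulAut.conj g).toMonoidHom) hQF
          rwa [map_conj_eq_iff.2 (hBN hg), ← centralizer_map_conj] at h1)
      refine le_antisymm (key b hb) ?_
      have := Subgroup.map_mono (f := (MulAut.conj b).toMonoidHom) (key b⁻¹ (inv_mem hb))
      rwa [map_conj_conj, mul_inv_cancel, map_conj_one] at this)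
    have hLD : ⁅L, D⁆ ≤ Z := by
      rw [Subgroup.commutator_comm]
      refine three_subgroup_mod (P := Q) (A := B) (B := L) hQnZ hBnZ hLnZ ?_ ?_
      · rw [Subgroup.commutator_comm B L]
        exact (Subgroup.commutator_mono hBZ le_rfl).trans (hZc.le.trans bot_le)
      · rw [hLQ]
        exact hBZ
    have hD : D = ⊥ := by
      refine hkill D (hQ.to_le hDQ) (le_bot_iff.1 ?_)
      rw [← hid D (hQ.to_le hDQ), ← hid D (hQ.to_le hDQ)]
      calc ⁅⁅⁅X, D⁆, D⁆, D⁆ ≤ ⁅⁅L, D⁆, D⁆ :=
            Subgroup.commutator_mono (Subgroup.commutator_mono (Subgroup.commutator_mono le_rfl hDQ) le_rfl) le_rfl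
        _ ≤ ⁅Z, Q⁆ := Subgroup.commutator_mono hLD hDQ
        _ = ⊥ := hZc
    have h1 : ⁅⁅Q, B⁆, L⁆ = ⊥ := by rw [show ⁅Q, B⁆ = ⊥ from hD, Subgroup.commutator_bot_left]
    have h2 : ⁅⁅B, L⁆, Q⁆ = ⊥ := by
      rw [Subgroup.commutator_comm B L, eq_bot_iff, ← hZc]
      exact Subgroup.commutator_mono hBZ le_rfl
    have h3 := Subgroup.commutator_commutator_eq_bot_of_rotate h1 h2
    rwa [hLQ] at h3
  · refine ((Nat.Prime.coprime_iff_not_dvd Fact.out).2 fun hd => ?_).symm
    obtain ⟨x, hx⟩ := exists_prime_orderOf_dvd_card' (G := ↥(Subgroup.centralizer ((F ⊔ L : Subgroup H) : Set H))) p hd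
    set B := Subgroup.zpowers (x : H)
    have hBp : IsPGroup p B := IsPGroup.of_card (n := 1) (by rw [pow_one, Nat.card_zpowers, Subgroup.orderOf_coe, hx])
    have hBc : B ≤ Subgroup.centralizer ((F ⊔ L : Subgroup H) : Set H) := Subgroup.zpowers_le.2 x.2
    have hLc : ⁅L, B⁆ = ⊥ := by
      rw [Subgroup.commutator_comm, Subgroup.commutator_eq_bot_iff_le_centralizer]
      exact hBc.trans (Subgroup.centralizer_le (fun y hy => Subgroup.mem_sup_right hy))
    set W := X ⊓ Subgroup.centralizer (L : Set H)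
    have hXW : X ≤ Subgroup.normalizer (W : Set H) :=
      PReduced.normalizer_inf Subgroup.le_normalizer (normalizer_centralizer hXL)
    have h1 : ⁅X, B⁆ ≤ W := by
      refine le_inf (Subgroup.le_normalizer_iff_commutator_le_left.1 (hnorm B)) ?_
      rw [← Subgroup.commutator_eq_bot_iff_le_centralizer, Subgroup.commutator_comm X B]
      refine Subgroup.commutator_commutator_eq_bot_of_rotate ?_ ?_
      · refine le_bot_iff.1 ((Subgroup.commutator_mono (Subgroup.le_normalizer_iff_commutator_le_right.1 hXL) le_rfl).trans hLc.le)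
      · rw [hLc, Subgroup.commutator_bot_left]
    have hWQ : Q ≤ Subgroup.normalizer (W : Set H) :=
      PReduced.normalizer_inf (hnorm Q) (normalizer_centralizer hQL)
    have hWh := FStar.hyps_of_subnormal hO (isSubnormal_of_normal hXsn inf_le_left hXW) inf_le_left
    have h2 : W ≤ F ⊔ L := by
      conv_lhs => rw [← (FStar.fstar_action hQ hWQ hWh.1 hWh.2).1]
      refine sup_le ((Subgroup.commutator_mono inf_le_left le_rfl).trans le_sup_right) (le_trans ?_ le_sup_left)
      exact le_trans (le_inf (inf_le_left.trans inf_le_left)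
        (Subgroup.le_centralizer_iff.1 (sup_le (Subgroup.le_centralizer_iff.1 (inf_le_left.trans inf_le_right))
          (Subgroup.le_centralizer_iff.1 inf_le_right)))) hCF
    have h3 : ⁅X, B⁆ = ⊥ := by
      rw [← hid B hBp]
      exact Subgroup.commutator_eq_bot_iff_le_centralizer.2
        (Subgroup.le_centralizer_iff.1 (hBc.trans (Subgroup.centralizer_le (h1.trans h2))))
    have h4 := hkill B hBp h3
    rw [Subgroup.zpowers_eq_bot, OneMemClass.coe_eq_one] at h4
    rw [h4, orderOf_one] at hx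
    exact (Fact.out : p.Prime).ne_one hx.symm

end Cfsg.Agent.S2817
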