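import Cfsg.Statements.S2818
import Cfsg.Agent.Lib.LocalEven.Residual

set_option autoImplicit false
open Cfsg CfsgLib.LocalEven.SylowIn CfsgLib.LocalEven.Residual
open scoped commutatorElement

namespace Cfsg.Agent.S2818


/-- Let P be a finite p-subgroup of a group G and H a subgroup of N_G(P) with [P, H] ≤ Ω₁(Z(P)) (the elements of order dividing p in the centre of P). Then H centralizes the Frattini subgroup of P. -/
theorem result {G : Type*} [Group G] [Finite G] {p : ℕ} [Fact p.Prime] (P : Subgroup G) (hP : IsPGroup p ↥P) (H : Subgroup G) (hH : H ≤ Subgroup.normalizer (P : Set G)) (h : ⁅P, H⁆ ≤ Cfsg.omegaOne p (P ⊓ Subgroup.centralizer (P : Set G))) : ⁅(frattini ↥P).map P.subtype, H⁆ = ⊥ := by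
  have hW : ∀ c ∈ ⁅P, H⁆, c ∈ Subgroup.centralizer (P : Set G) ∧ c ^ p = 1 := by
    intro c hc
    have hZ : ∀ c ∈ Cfsg.omegaOne p (P ⊓ Subgroup.centralizer (P : Set G)),
        c ∈ P ∧ c ∈ Subgroup.centralizer (P : Set G) ∧ c ^ p = 1 := by
      intro c hc
      induction hc using Subgroup.closure_induction with
      | mem x hx => exact ⟨hx.1.1, hx.1.2, hx.2⟩
      | one => exact ⟨one_mem _, one_mem _, one_pow p⟩
      | mul x y _ _ hx hy =>
        refine ⟨mul_mem hx.1 hy.1, mul_mem hx.2.1 hy.2.1, ?_⟩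
        rw [Commute.mul_pow (hy.2.1 x hx.1), hx.2.2, hy.2.2, one_mul]
      | inv x _ hx => exact ⟨inv_mem hx.1, inv_mem hx.2.1, by rw [inv_pow, hx.2.2, inv_one]⟩
    exact (hZ c (h hc)).2
  rw [Subgroup.commutator_eq_bot_iff_le_centralizer]
  intro x hx
  obtain ⟨a, ha, rfl⟩ := hx
  rw [Subgroup.mem_centralizer_iff]
  intro g hg
  have hmove : ∀ a : ↥P, ∃ c, (∀ b ∈ P, b * c = c * b) ∧ c ^ p = 1 ∧ g * (a : G) * g⁻¹ = c * a := by
    intro a
    have hc : ⁅(a : G), g⁆ ∈ ⁅P, H⁆ := Subgroup.commutator_mem_commutator a.2 hg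
    refine ⟨⁅(a : G), g⁆⁻¹, fun b hb => ((inv_mem (hW _ hc).1 : _ ∈ Subgroup.centralizer (P : Set G)) b hb),
      by rw [inv_pow, (hW _ hc).2, inv_one], ?_⟩
    rw [commutatorElement_def]
    group
  have hle := frattini_le (p := p) (N := (Subgroup.centralizer ({g} : Set G)).subgroupOf P) ?_ ?_ ha
  · exact (Subgroup.mem_centralizer_singleton_iff.1 hle).symm
  · intro a b
    obtain ⟨c, hc, -, hac⟩ := hmove a
    obtain ⟨d, hd, -, hbd⟩ := hmove b
    rw [Subgroup.mem_subgroupOf, Subgroup.mem_centralizer_singleton_iff]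
    have e : g * ⁅(a : G), (b : G)⁆ * g⁻¹ = ⁅(a : G), (b : G)⁆ := by
      have h1 : g * ⁅(a : G), (b : G)⁆ * g⁻¹ = ⁅c * (a : G), d * (b : G)⁆ := by
        rw [← hac, ← hbd]; simp only [commutatorElement_def]; group
      rw [h1]
      have c1 : Commute (a : G) c := hc _ a.2
      have c2 : Commute (b : G) c := hc _ b.2
      have d1 : Commute (a : G) d := hd _ a.2
      have d2 : Commute (b : G) d := hd _ b.2
      have hcP : c ∈ P := by
        rw [show c = g * (a : G) * g⁻¹ * (a : G)⁻¹ by rw [hac]; group]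
        exact mul_mem ((Subgroup.mem_normalizer_iff.1 (hH hg) _).1 a.2) (inv_mem a.2)
      have cd : Commute c d := hd _ hcP
      simp only [commutatorElement_def]
      calc c * a * (d * b) * (c * a)⁻¹ * (d * b)⁻¹
          = c * (↑a * d) * b * (↑a)⁻¹ * c⁻¹ * (↑b)⁻¹ * d⁻¹ := by group
        _ = c * d * (↑a * ↑b * (↑a)⁻¹) * c⁻¹ * (↑b)⁻¹ * d⁻¹ := by rw [d1.eq]; group
        _ = d * (↑a * ↑b * (↑a)⁻¹) * (↑b)⁻¹ * d⁻¹ := by
            rw [cd.eq]
            have : Commute ((a : G) * (b : G) * (a : G)⁻¹) c := (c1.mul_left c2).mul_left c1.inv_left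
            rw [mul_assoc d c, ← this.eq, mul_assoc d, mul_assoc ((a : G) * (b : G) * (a : G)⁻¹) c, mul_inv_cancel, mul_one]
        _ = _ := by
            have : Commute ((a : G) * (b : G) * (a : G)⁻¹ * (b : G)⁻¹) d := ((d1.mul_left d2).mul_left d1.inv_left).mul_left d2.inv_left
            rw [mul_assoc d, ← this.eq, mul_inv_cancel_right]
    rw [mul_inv_eq_iff_eq_mul] at e
    exact e.symm
  · intro a
    obtain ⟨c, hc, hcp, hac⟩ := hmove a
    rw [Subgroup.mem_subgroupOf, Subgroup.mem_centralizer_singleton_iff]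
    have e : g * (a : G) ^ p * g⁻¹ = (a : G) ^ p := by
      rw [← conj_pow, hac, Commute.mul_pow (hc _ a.2).symm, hcp, one_mul]
    rw [mul_inv_eq_iff_eq_mul] at e
    exact e.symm

end Cfsg.Agent.S2818
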