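import Cfsg.Statements.S2819
import Cfsg.Agent.Lib.LocalEven.Residual

set_option autoImplicit false
open Cfsg CfsgLib.LocalEven.SylowIn CfsgLib.LocalEven.Residual
open scoped commutatorElement

namespace Cfsg.Agent.S2819


/-- Let P be a finite p-subgroup of a group G, H a subgroup of N_G(P), and Y a subgroup of H centralizing the derived subgroup P' such that [P, Y] is elementary abelian. Then O^p(⟨Y^H⟩), the subgroup of the normal closure of Y in H generated by its elements of order prime to p, centralizes the Frattini subgroup of P. -/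
theorem result {G : Type*} [Group G] [Finite G] {p : ℕ} [Fact p.Prime] (P : Subgroup G) (hP : IsPGroup p ↥P) (H : Subgroup G) (hH : H ≤ Subgroup.normalizer (P : Set G)) (Y : Subgroup G) (hYH : Y ≤ H) (hYc : Y ≤ Subgroup.centralizer ((⁅P, P⁆ : Subgroup G) : Set G)) (hel : Cfsg.IsElementaryAbelian p ⁅P, Y⁆) (NY : Subgroup G) (hNY : NY = (Subgroup.normalClosure ((Y.subgroupOf H : Subgroup ↥H) : Set ↥H)).map H.subtype) : (Cfsg.pResidual p ↥NY).map NY.subtype ≤ Subgroup.centralizer (((frattini ↥P).map P.subtype : Subgroup G) : Set G) := by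
  subst hNY
  have hPD : ⁅P, P⁆ ≤ P := Subgroup.commutator_le_self P
  have hcl : H ≤ Subgroup.normalizer ((⁅P, P⁆ : Subgroup G) : Set G) :=
    le_normalizer_of_map_conj fun h hh => by rw [Subgroup.map_commutator, map_conj_eq_iff.2 (hH hh)]
  have mem_hom : ∀ a ∈ P, ∀ b ∈ P, ⁅a, b⁆ ∈ ⁅P, P⁆ := fun a ha b hb => Subgroup.commutator_mem_commutator ha hb
  let K : Subgroup G :=
    { carrier := {g | g ∈ Subgroup.normalizer (P : Set G) ∧ g ∈ Subgroup.normalizer ((⁅P, P⁆ : Subgroup G) : Set G) ∧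
        g ∈ Subgroup.centralizer ((⁅P, P⁆ : Subgroup G) : Set G) ∧ ∀ x ∈ P, ⁅g, x ^ p⁆ ∈ ⁅P, P⁆}
      one_mem' := ⟨one_mem _, one_mem _, one_mem _, fun x _ => by simp⟩
      mul_mem' := fun {a b} ha hb => ⟨mul_mem ha.1 hb.1, mul_mem ha.2.1 hb.2.1, mul_mem ha.2.2.1 hb.2.2.1,
        fun x hx => by
          rw [show ⁅a * b, x ^ p⁆ = a * ⁅b, x ^ p⁆ * a⁻¹ * ⁅a, x ^ p⁆ by simp only [commutatorElement_def]; group]
          exact mul_mem ((Subgroup.mem_normalizer_iff.1 ha.2.1 _).1 (hb.2.2.2 x hx)) (ha.2.2.2 x hx)⟩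
      inv_mem' := fun {a} ha => ⟨inv_mem ha.1, inv_mem ha.2.1, inv_mem ha.2.2.1, fun x hx => by
        rw [show ⁅a⁻¹, x ^ p⁆ = a⁻¹ * ⁅a, x ^ p⁆⁻¹ * a by simp only [commutatorElement_def]; group]
        exact (Subgroup.mem_normalizer_iff''.1 ha.2.1 _).1 (inv_mem (ha.2.2.2 x hx))⟩ }
  have hY : ∀ y ∈ Y, ∀ x ∈ P, ⁅y, x ^ p⁆ ∈ ⁅P, P⁆ := by
    intro y hy x hx
    have hc : ⁅x, y⁆ ∈ ⁅P, Y⁆ := Subgroup.commutator_mem_commutator hx hy
    have hcp : ⁅x, y⁆⁻¹ ^ p = 1 := by rw [inv_pow, hel.2 _ hc, inv_one]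
    have hcP : ⁅x, y⁆⁻¹ ∈ P := inv_mem (Subgroup.le_normalizer_iff_commutator_le_left.1 (hYH.trans hH) hc)
    haveI : ((⁅P, P⁆ : Subgroup G).subgroupOf P).Normal := Subgroup.normal_subgroupOf_of_le_normalizer
      (le_normalizer_of_map_conj fun g hg => by
        rw [Subgroup.map_commutator, map_conj_eq_iff.2 (Subgroup.le_normalizer hg)])
    let f := QuotientGroup.mk' ((⁅P, P⁆ : Subgroup G).subgroupOf P)
    have hab : ∀ u v : ↥P, f u * f v = f v * f u := fun u v => by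
      rw [← commutatorElement_eq_one_iff_mul_comm, ← map_commutatorElement, QuotientGroup.mk'_apply,
        QuotientGroup.eq_one_iff]
      exact mem_hom _ u.2 _ v.2
    have h1 : f ((⟨_, hcP⟩ * ⟨x, hx⟩) ^ p) = f (⟨x, hx⟩ ^ p) := by
      have h2 : f (⟨_, hcP⟩ ^ p) = 1 := by
        rw [show (⟨⁅x, y⁆⁻¹, hcP⟩ : ↥P) ^ p = 1 from Subtype.ext hcp, map_one]
      rw [map_pow, map_mul, Commute.mul_pow (hab _ _), ← map_pow, ← map_pow, h2, one_mul]
    have h3 := div_eq_one.2 h1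
    rw [← map_div, QuotientGroup.mk'_apply, QuotientGroup.eq_one_iff, Subgroup.mem_subgroupOf] at h3
    have e : ⁅y, x ^ p⁆ = (⁅x, y⁆⁻¹ * x) ^ p / x ^ p := by
      rw [show ⁅x, y⁆⁻¹ * x = y * x * y⁻¹ by rw [commutatorElement_def]; group, conj_pow, commutatorElement_def,
        div_eq_mul_inv]
    rw [e]
    simpa using h3
  have hNK : (Subgroup.normalClosure ((Y.subgroupOf H : Subgroup ↥H) : Set ↥H)).map H.subtype ≤ K := by
    rw [Subgroup.normalClosure, MonoidHom.map_closure, Subgroup.closure_le]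
    rintro _ ⟨w, hw, rfl⟩
    obtain ⟨y, hy, hyw⟩ := Group.mem_conjugatesOfSet_iff.1 hw
    obtain ⟨⟨h, hh⟩, rfl⟩ := isConj_iff.1 hyw
    have hy' : (y : G) ∈ Y := hy
    refine ⟨mul_mem (mul_mem (hH hh) (hH y.2)) (inv_mem (hH hh)),
      mul_mem (mul_mem (hcl hh) (hcl y.2)) (inv_mem (hcl hh)), ?_, ?_⟩
    · rw [Subgroup.mem_centralizer_iff]
      intro d hd
      have h1 := (hYc hy') _ ((Subgroup.mem_normalizer_iff''.1 (hcl hh) d).1 hd)
      show d * (h * y * h⁻¹) = h * y * h⁻¹ * d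
      calc d * (h * y * h⁻¹) = h * (h⁻¹ * d * h * y) * h⁻¹ := by group
        _ = h * (y * (h⁻¹ * d * h)) * h⁻¹ := by rw [h1]
        _ = _ := by group
    · intro x hx
      have h1 := hY y hy' (h⁻¹ * x * h) ((Subgroup.mem_normalizer_iff''.1 (hH hh) x).1 hx)
      have h2 := (Subgroup.mem_normalizer_iff.1 (hcl hh) _).1 h1
      show ⁅h * (y : G) * h⁻¹, x ^ p⁆ ∈ ⁅P, P⁆
      rw [show (h⁻¹ * x * h) ^ p = h⁻¹ * x ^ p * h by
        simpa using conj_pow (a := h⁻¹) (b := x) (i := p)] at h2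
      convert h2 using 1
      simp only [commutatorElement_def]
      group
  refine map_pResidual_le_iff.2 fun g hg hgc => ?_
  obtain ⟨-, -, hgC, hgp⟩ := hNK hg
  rw [Subgroup.mem_centralizer_iff]
  rintro _ ⟨a, ha, rfl⟩
  have hle := frattini_le (p := p) (N := (Subgroup.centralizer ({g} : Set G)).subgroupOf P) ?_ ?_ ha
  · exact Subgroup.mem_centralizer_singleton_iff.1 hle
  · intro a b
    rw [Subgroup.mem_subgroupOf, Subgroup.mem_centralizer_singleton_iff]
    exact hgC _ (mem_hom _ a.2 _ b.2)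
  · intro a
    rw [Subgroup.mem_subgroupOf, Subgroup.mem_centralizer_singleton_iff]
    exact (CfsgLib.Coprime.commute_of_stabilizes (N := ⁅P, P⁆) (mem_of_coprime_card (hP.to_le hPD) hgc) hgC
      (hgp _ a.2)).eq.symm

end Cfsg.Agent.S2819
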