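import Cfsg.Statements.S2820
import Cfsg.Agent.Lib.LocalEven.Residual

set_option autoImplicit false
open Cfsg CfsgLib.LocalEven.SylowIn CfsgLib.LocalEven.Residual
open scoped commutatorElement

namespace Cfsg.Agent.S2820


/-- Let A and B be subnormal subgroups of the finite group H with A a p-group and B = O^p(B) (B generated by its elements of order prime to p). Then A normalizes B and B = O^p(AB), the subgroup of ⟨A, B⟩ generated by its elements of order prime to p. -/
theorem result {H : Type*} [Group H] [Finite H] {p : ℕ} [Fact p.Prime] (A B : Subgroup H) (hA : A.IsSubnormal) (hB : B.IsSubnormal) (hAp : IsPGroup p ↥A) (hBres : (Cfsg.pResidual p ↥B).map B.subtype = B) : A ≤ Subgroup.normalizer (B : Set H) ∧ (Cfsg.pResidual p ↥(A ⊔ B)).map (A ⊔ B).subtype = B := by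
  have hAO := le_pCore_of_isSubnormal hA hAp
  haveI := CfsgLib.LocalEven.SylowIn.pCore_normal H p
  obtain ⟨hQn, hQr⟩ := le_normalizer_of_pResidual_eq hB hBres (isPGroup_pCore H p)
  refine ⟨hAO.trans hQn, le_antisymm ?_ ?_⟩
  · conv_rhs => rw [← hQr]
    refine map_pResidual_le_iff.2 fun g hg hc => ?_
    rw [map_pResidual_eq_closure]
    exact Subgroup.subset_closure ⟨(sup_le (hAO.trans le_sup_right) le_sup_left : A ⊔ B ≤ B ⊔ Cfsg.pCore p H) hg, hc⟩
  · conv_lhs => rw [← hBres]
    refine map_pResidual_le_iff.2 fun g hg hc => ?_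
    rw [map_pResidual_eq_closure]
    exact Subgroup.subset_closure ⟨le_sup_right (a := A) hg, hc⟩

end Cfsg.Agent.S2820
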