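import Cfsg.Statements.S2823
import Cfsg.Agent.Lib.LocalEven.PReduced
import Cfsg.Agent.Lib.LocalEven.Averaging

set_option autoImplicit false
open Cfsg CfsgLib.LocalEven.SylowIn CfsgLib.LocalEven.PReduced CfsgLib.LocalEven.Averaging
open scoped commutatorElement

namespace Cfsg.Agent.S2823

/-- Let H be a finite group, p a prime, T a Sylow p-subgroup and L a subgroup of characteristic p containing T; let Z_L be the subgroup generated by the Ω₁(Z(S)) over the Sylow p-subgroups S of L and O^p(L) the subgroup generated by the elements of L of order prime to p. Then Z_L = Ω₁(Z(L))·[Z_L, O^p(L)] and [Z_L, L] = [Z_L, O^p(L)]. -/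
theorem result {H : Type*} [Group H] [Finite H] {p : ℕ} [Fact p.Prime] (T : Sylow p H) (L : Subgroup H) (hTL : (T : Subgroup H) ≤ L) (hL : Subgroup.centralizer (Cfsg.pCore p ↥L : Set ↥L) ≤ Cfsg.pCore p ↥L) : Cfsg.sylowCenterClosure p L = (Cfsg.omegaOne p (L ⊓ Subgroup.centralizer ((L : Subgroup H) : Set H))) ⊔ ⁅Cfsg.sylowCenterClosure p L, (Cfsg.pResidual p ↥L).map L.subtype⁆ ∧ ⁅Cfsg.sylowCenterClosure p L, L⁆ = ⁅Cfsg.sylowCenterClosure p L, (Cfsg.pResidual p ↥L).map L.subtype⁆ := by
  set Z := sylowCenterClosure p L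
  set R := (pResidual p L).map L.subtype
  have hc := (charP_iff L).1 hL
  have hZY : Z ≤ largestPReducedOf p L := sylowCenterClosure_le_largest hc
  have hZ : IsElementaryAbelian p Z := elab_of_le (isReducedIn_largest L).elab hZY
  have hZn : L ≤ Subgroup.normalizer (Z : Set H) := normalizer_sylowCenterClosure L
  have hRL : R ≤ L := Subgroup.map_subtype_le _
  have hWZ : ⁅Z, R⁆ ≤ Z := Subgroup.le_normalizer_iff_commutator_le_left.1 (hRL.trans hZn)
  have hWn : L ≤ Subgroup.normalizer ((⁅Z, R⁆ : Subgroup H) : Set H) :=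
    normalizer_commutator hZn (Subgroup.le_normalizer.trans (CfsgLib.LocalEven.Residual.normalizer_map_pResidual L))
  have hsup : Z = (Z ⊓ Subgroup.centralizer (L : Set H)) ⊔ ⁅Z, R⁆ := by
    refine le_antisymm (sylowCenterClosure_le_iff.2 fun S hS v hv => ?_) (sup_le inf_le_left hWZ)
    have hfix : ∀ t ∈ S, t * v = v * t := fun t ht =>
      Subgroup.mem_centralizer_iff.1 (omegaCenter_le_centralizer S hv) t ht
    have hvZ : v ∈ Z := omegaCenter_le_sylowCenterClosure hS hv
    refine mem_fixed_sup hZ.1 hWZ hZn hS.1 hvZ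
      (fun t ht => by rw [hfix t ht, mul_inv_cancel_right]) (fun h hh => ?_)
      (coprime_relIndex_of_pow hS (hZ.2 v hvZ))
    obtain ⟨r, hr, u, hu, he⟩ := CfsgLib.Fusion.Basic.exists_eq_pResidual_mul hS.toSylow (⟨h, hh⟩ : L)
    have he' : h = r * u := congrArg Subtype.val he
    rw [he', show ⁅(r : H) * u, v⁆ = ⁅(r : H), v⁆ by
      rw [commutatorElement_def, commutatorElement_def,
        show (r : H) * u * v * ((r : H) * u)⁻¹ = r * ((u : H) * v * (u : H)⁻¹) * (r : H)⁻¹ by group,
        hfix (u : H) hu, mul_inv_cancel_right]]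
    rw [CfsgLib.Coprime.commutatorElement_mem_iff]
    exact Subgroup.commutator_mem_commutator hvZ ⟨r, hr, rfl⟩
  have hΩ : omegaOne p (L ⊓ Subgroup.centralizer (L : Set H)) ≤ Z := by
    obtain ⟨S, hS, -⟩ := exists_isSylowIn (p := p) L bot_le IsPGroup.of_bot
    refine le_trans ?_ (omegaCenter_le_sylowCenterClosure hS)
    have hel : IsElementaryAbelian p (omegaCenter p L) := elab_omegaCenter L
    refine le_omegaCenter hel ?_ ((omegaCenter_le_centralizer L).trans (Subgroup.centralizer_le hS.1))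
    exact (CfsgLib.LocalEven.SylowIn.le_pCoreOf (omegaCenter_le L) (normalizer_omegaCenter Subgroup.le_normalizer)
      (elab_isPGroup hel)).trans (pCoreOf_le_sylowIn hS)
  refine ⟨le_antisymm ?_ (sup_le hΩ hWZ), le_antisymm ?_ (Subgroup.commutator_mono le_rfl hRL)⟩
  · conv_lhs => rw [hsup]
    exact sup_le_sup_right (le_omegaCenter (elab_of_le hZ inf_le_left)
      (inf_le_left.trans (hZY.trans (isReducedIn_largest L).le)) inf_le_right) _
  · rw [Subgroup.commutator_le]
    intro v hv h hh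
    rw [hsup, ← SetLike.mem_coe, Subgroup.coe_mul_of_left_le_normalizer_right _ _
      (inf_le_left.trans ((elab_le_centralizer hZ).trans
        ((Subgroup.centralizer_le hWZ).trans (Subgroup.centralizer_le_normalizer _))))] at hv
    obtain ⟨c, hc, w, hw, rfl⟩ := Set.mem_mul.1 hv
    have hch : h * c = c * h := Subgroup.mem_centralizer_iff.1 hc.2 h hh
    have h1 : h * w * h⁻¹ ∈ ⁅Z, R⁆ := (Subgroup.mem_normalizer_iff.1 (hWn hh) w).1 hw
    have h2 : c * (w * (h * w * h⁻¹)⁻¹) * c⁻¹ = w * (h * w * h⁻¹)⁻¹ := by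
      rw [← Subgroup.mem_centralizer_iff.1 (elab_le_centralizer hZ hc.1) _
        (hWZ (mul_mem hw (inv_mem h1))), mul_inv_cancel_right]
    have h3 : ⁅c * w, h⁆ = w * (h * w * h⁻¹)⁻¹ := by
      rw [← h2, commutatorElement_def]
      calc c * w * h * (c * w)⁻¹ * h⁻¹ = c * w * h * w⁻¹ * c⁻¹ * h⁻¹ := by group
        _ = c * w * h * w⁻¹ * h⁻¹ * (h * c⁻¹ * h⁻¹) := by group
        _ = c * w * h * w⁻¹ * h⁻¹ * c⁻¹ := by
          congr 1
          rw [mul_inv_eq_iff_eq_mul, mul_inv_eq_iff_eq_mul, mul_assoc, ← hch.symm, inv_mul_cancel_left]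
        _ = _ := by group
    rw [h3]
    exact mul_mem hw (inv_mem h1)

end Cfsg.Agent.S2823
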