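import Cfsg.Statements.S2825
import Cfsg.Agent.Lib.LocalEven.PReduced

set_option autoImplicit false
open Cfsg CfsgLib.LocalEven.SylowIn CfsgLib.LocalEven.PReduced
open scoped commutatorElement

namespace Cfsg.Agent.S2825

/-- Let L be a subnormal subgroup of the finite group H, p a prime, Y_H and Y_L the largest p-reduced normal subgroups. Then Y_H ∩ L = Y_H ∩ Y_L and this subgroup is a p-reduced normal subgroup of L; C_L(Y_L) = C_L(Y_H) = C_L(Y_H ∩ L); and if O^p(H) ≤ L, then [Y_L, L] = 1 if and only if [Y_H, H] = 1. -/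
theorem result {H : Type*} [Group H] [Finite H] {p : ℕ} [Fact p.Prime] (L : Subgroup H) (hL : L.IsSubnormal) : Cfsg.largestPReduced p H ⊓ L = Cfsg.largestPReduced p H ⊓ (Cfsg.largestPReducedOf p L) ∧ Cfsg.IsPReducedNormal p ((Cfsg.largestPReduced p H ⊓ L).subgroupOf L) ∧ L ⊓ Subgroup.centralizer ((Cfsg.largestPReducedOf p L : Subgroup H) : Set H) = L ⊓ Subgroup.centralizer (Cfsg.largestPReduced p H : Set H) ∧ L ⊓ Subgroup.centralizer (Cfsg.largestPReduced p H : Set H) = L ⊓ Subgroup.centralizer ((Cfsg.largestPReduced p H ⊓ L : Subgroup H) : Set H) ∧ (Cfsg.pResidual p H ≤ L → (⁅(Cfsg.largestPReducedOf p L), L⁆ = ⊥ ↔ ⁅Cfsg.largestPReduced p H, (⊤ : Subgroup H)⁆ = ⊥)) := by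
  set Y := largestPReduced p H
  have hY : IsReducedIn p Y ⊤ := isReducedIn_largestPReduced
  haveI : Y.Normal := (isPReducedNormal_largestPReduced p H).1
  have hYp := elab_isPGroup hY.elab
  have key : ∀ N : Subgroup H, N ≤ L → L ≤ Subgroup.normalizer (N : Set H) →
      (∀ x ∈ N, (orderOf x).Coprime p → x ∈ Subgroup.centralizer ((Y ⊓ L : Subgroup H) : Set H)) →
      N ≤ Subgroup.centralizer (Y : Set H) := fun N hN hn hx =>
    hY.le_centralizer_of_isSubnormal (isSubnormal_of_normal hL hN hn)
      fun x hxN hc => mem_centralizer_of_isSubnormal hYp hL (hN hxN) hc (hx x hxN hc)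
  have hnL : L ≤ Subgroup.normalizer ((Y ⊓ L : Subgroup H) : Set H) :=
    normalizer_inf (le_top.trans hY.normalizer) Subgroup.le_normalizer
  have hred : IsReducedIn p (Y ⊓ L) L :=
    ⟨inf_le_right, hnL, elab_of_le hY.elab inf_le_left,
      fun N hN hn hx => (key N hN hn hx).trans (Subgroup.centralizer_le inf_le_left)⟩
  have hcap : L ⊓ Subgroup.centralizer (Y : Set H) =
      L ⊓ Subgroup.centralizer ((Y ⊓ L : Subgroup H) : Set H) := by
    refine le_antisymm (inf_le_inf_left _ (Subgroup.centralizer_le inf_le_left)) (le_inf inf_le_left ?_)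
    exact key _ inf_le_left (normalizer_inf Subgroup.le_normalizer (normalizer_centralizer hnL)) fun x hx _ => hx.2
  have hcen : L ⊓ Subgroup.centralizer ((largestPReducedOf p L : Subgroup H) : Set H) =
      L ⊓ Subgroup.centralizer (Y : Set H) := by
    refine le_antisymm ?_ (centralizer_largest_of_isSubnormal hL)
    rw [hcap]
    exact inf_le_inf_left _ (Subgroup.centralizer_le hred.le_largest)
  refine ⟨le_antisymm (le_inf inf_le_left hred.le_largest) (inf_le_inf_left _ (isReducedIn_largest L).le),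
    (isPReducedNormal_subgroupOf inf_le_right).2 hred, hcen, hcap, fun hres => ?_⟩
  rw [Subgroup.commutator_comm, Subgroup.commutator_eq_bot_iff_le_centralizer, Subgroup.commutator_comm,
    Subgroup.commutator_eq_bot_iff_le_centralizer]
  constructor
  · intro h
    refine hY.le_centralizer_of_coprime le_rfl Subgroup.le_normalizer fun x _ hc => ?_
    exact (((le_inf le_rfl h).trans hcen.le).trans inf_le_right) (hres (CfsgLib.Fusion.Basic.mem_pResidual_of_coprime hc))
  · intro h
    exact ((le_inf le_rfl (le_top.trans h)).trans hcen.ge).trans inf_le_right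

end Cfsg.Agent.S2825
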