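import Cfsg.Statements.S2826
import Cfsg.Agent.Lib.LocalEven.PReduced
import Cfsg.Agent.Lib.LocalEven.Averaging

set_option autoImplicit false
open Cfsg CfsgLib.LocalEven.SylowIn CfsgLib.LocalEven.PReduced CfsgLib.LocalEven.Averaging
open scoped commutatorElement

namespace Cfsg.Agent.S2826

/-- Let H be a finite group of characteristic p, T a Sylow p-subgroup, and V a normal elementary abelian p-subgroup of H containing Ω₁(Z(T)). Then C_H(Ω₁(Z(T))) = C_H([V, O^p(H)] ∩ Ω₁(Z(T))), O^p(H) being generated by the elements of order prime to p. -/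
theorem result {H : Type*} [Group H] [Finite H] {p : ℕ} [Fact p.Prime] (hH : Subgroup.centralizer (Cfsg.pCore p H : Set H) ≤ Cfsg.pCore p H) (T : Sylow p H) (V : Subgroup H) [V.Normal] (hV : Cfsg.IsElementaryAbelian p V) (hZV : (Cfsg.omegaOne p ((T : Subgroup H) ⊓ Subgroup.centralizer (((T : Subgroup H) : Subgroup H) : Set H))) ≤ V) : Subgroup.centralizer ((Cfsg.omegaOne p ((T : Subgroup H) ⊓ Subgroup.centralizer (((T : Subgroup H) : Subgroup H) : Set H))) : Set H) = Subgroup.centralizer (((⁅V, Cfsg.pResidual p H⁆ ⊓ (Cfsg.omegaOne p ((T : Subgroup H) ⊓ Subgroup.centralizer (((T : Subgroup H) : Subgroup H) : Set H)))) : Subgroup H) : Set H) := by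
  set Z := omegaOne p ((T : Subgroup H) ⊓ Subgroup.centralizer (((T : Subgroup H) : Subgroup H) : Set H))
  set W := ⁅V, pResidual p H⁆
  have hVn : (⊤ : Subgroup H) ≤ Subgroup.normalizer (V : Set H) := (Subgroup.normalizer_eq_top (H := V)).ge
  have hWV : W ≤ V := Subgroup.le_normalizer_iff_commutator_le_left.1 (le_top.trans hVn)
  refine le_antisymm (Subgroup.centralizer_le inf_le_right) fun x hx => Subgroup.mem_centralizer_iff.2 fun v hv => ?_
  have hfix : ∀ z ∈ Z, ∀ t ∈ (T : Subgroup H), t * z = z * t := fun z hz t ht =>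
    Subgroup.mem_centralizer_iff.1 (omegaCenter_le_centralizer (T : Subgroup H) hz) t ht
  have hv' : v ∈ (V ⊓ Subgroup.centralizer ((⊤ : Subgroup H) : Set H)) ⊔ W := by
    refine mem_fixed_sup hV.1 hWV hVn le_top (hZV hv)
      (fun t ht => by rw [hfix v hv t ht, mul_inv_cancel_right]) (fun h _ => ?_)
      (coprime_relIndex_of_pow (isSylowIn_of_sylow T le_top) ((elab_omegaCenter (T : Subgroup H)).2 v hv))
    obtain ⟨r, hr, u, hu, rfl⟩ := CfsgLib.Fusion.Basic.exists_eq_pResidual_mul T h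
    rw [show ⁅r * u, v⁆ = ⁅r, v⁆ by
      rw [commutatorElement_def, commutatorElement_def, show r * u * v * (r * u)⁻¹ = r * (u * v * u⁻¹) * r⁻¹ by group,
        hfix v hv u hu, mul_inv_cancel_right]]
    rw [CfsgLib.Coprime.commutatorElement_mem_iff]
    exact Subgroup.commutator_mem_commutator (hZV hv) hr
  have hnorm : V ⊓ Subgroup.centralizer ((⊤ : Subgroup H) : Set H) ≤ Subgroup.normalizer (W : Set H) :=
    inf_le_left.trans ((elab_le_centralizer hV).trans
      ((Subgroup.centralizer_le hWV).trans (Subgroup.centralizer_le_normalizer _)))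
  rw [← SetLike.mem_coe, Subgroup.coe_mul_of_left_le_normalizer_right _ _ hnorm] at hv'
  obtain ⟨c, hc, w, hw, rfl⟩ := Set.mem_mul.1 hv'
  have hVT : V ≤ (T : Subgroup H) := (elab_isPGroup hV).le_sylow_of_normal T
  have hc' : ∀ y : H, y * c = c * y := fun y => Subgroup.mem_centralizer_iff.1 hc.2 y (Subgroup.mem_top y)
  have hwZ : w ∈ Z := by
    refine Subgroup.subset_closure ⟨⟨hVT (hWV hw), Subgroup.mem_centralizer_iff.2 fun t ht => ?_⟩, hV.2 w (hWV hw)⟩
    calc t * w = c⁻¹ * (c * t) * w := by group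
      _ = c⁻¹ * (t * c) * w := by rw [hc' t]
      _ = c⁻¹ * (t * (c * w)) := by group
      _ = c⁻¹ * (c * w * t) := by rw [hfix _ hv t ht]
      _ = w * t := by group
  have hxw : w * x = x * w := Subgroup.mem_centralizer_iff.1 hx w ⟨hw, hwZ⟩
  rw [mul_assoc, hxw, ← mul_assoc, ← hc' x, mul_assoc]

end Cfsg.Agent.S2826
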