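import Cfsg.Statements.S2827
import Cfsg.Agent.Lib.LocalEven.Irreducible
import Cfsg.Agent.Lib.LocalEven.Commutators

set_option autoImplicit false
open Cfsg CfsgLib.LocalEven.SylowIn CfsgLib.LocalEven.PReduced CfsgLib.LocalEven.Irreducible
open scoped commutatorElement

namespace Cfsg.Agent.S2827

/-- Let H be a finite p-irreducible group (not p-closed, and O^p(H) lies in every normal subgroup that is not p-closed) and T a Sylow p-subgroup. Then H is generated by the conjugates of T and H = H'·T; O^p(H) ≤ H'; and for every normal subgroup Y of T not contained in O_p(H), O^p(H) = [O^p(H), Y] and O^p(H) is contained in the normal closure of Y in H. -/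
theorem result {H : Type*} [Group H] [Finite H] {p : ℕ} [Fact p.Prime] (hH : Cfsg.IsPIrreducible p H) (T : Sylow p H) : Subgroup.normalClosure ((T : Subgroup H) : Set H) = ⊤ ∧ commutator H ⊔ (T : Subgroup H) = ⊤ ∧ Cfsg.pResidual p H ≤ commutator H ∧ ∀ Y : Subgroup H, Y ≤ (T : Subgroup H) → (T : Subgroup H) ≤ Subgroup.normalizer (Y : Set H) → ¬ Y ≤ Cfsg.pCore p H → ⁅Cfsg.pResidual p H, Y⁆ = Cfsg.pResidual p H ∧ Cfsg.pResidual p H ≤ Subgroup.normalClosure (Y : Set H) := by
  obtain ⟨hT, hirr⟩ := (isPIrreducible_iff T).1 hH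
  have htopn : ∀ K : Subgroup H, K ≤ Subgroup.normalizer ((Cfsg.pResidual p H : Subgroup H) : Set H) := fun K =>
    (Subgroup.normalizer_eq_top (H := Cfsg.pResidual p H)).symm ▸ le_top
  have hnc : Subgroup.normalClosure ((T : Subgroup H) : Set H) = ⊤ := by
    refine sylow_normalClosure_sup T (hirr _ Subgroup.normalClosure_normal fun h => hT ?_) Subgroup.le_normalClosure
    exact le_trans (le_inf le_rfl Subgroup.le_normalClosure) h
  have hcomm : commutator H ⊔ (T : Subgroup H) = ⊤ := by
    haveI : (commutator H ⊔ (T : Subgroup H)).Normal := ⟨fun x hx g => by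
      rw [show g * x * g⁻¹ = ⁅g, x⁆ * x by simp only [commutatorElement_def]; group]
      exact mul_mem (Subgroup.mem_sup_left (Subgroup.commutator_mem_commutator (Subgroup.mem_top _) (Subgroup.mem_top _))) hx⟩
    exact top_le_iff.1 (hnc.ge.trans (Subgroup.normalClosure_le_normal (fun x hx => Subgroup.mem_sup_right hx)))
  refine ⟨hnc, hcomm, pResidual_le_of_sup_eq_top T hcomm, fun Y hYT hTY hY => ?_⟩
  set R := Cfsg.pResidual p H
  have hN : R ≤ Subgroup.normalClosure (Y : Set H) :=
    hirr _ Subgroup.normalClosure_normal fun h => hY ((le_inf hYT Subgroup.le_normalClosure).trans h)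
  refine ⟨?_, hN⟩
  set X := ⁅R, Y⁆
  have hXR : X ≤ R := Subgroup.le_normalizer_iff_commutator_le_left.1 (htopn Y)
  haveI hXn : X.Normal := by
    refine Subgroup.normalizer_eq_top_iff.1 (top_le_iff.1 ?_)
    rw [← CfsgLib.Fusion.Basic.pResidual_sup_sylow T]
    exact sup_le (CfsgLib.LocalEven.Commutators.normalizer_commutator_left R Y)
      (normalizer_commutator (htopn _) hTY)
  haveI : (X ⊔ Y).Normal := by
    refine Subgroup.normalizer_eq_top_iff.1 (top_le_iff.1 ?_)
    rw [← CfsgLib.Fusion.Basic.pResidual_sup_sylow T]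
    refine sup_le (le_normalizer_of_map_conj fun r hr => Subgroup.eq_of_le_of_card_ge ?_
      (Nat.card_congr ((X ⊔ Y).equivMapOfInjective _ (MulAut.conj r).injective).toEquiv).le)
      (normalizer_sup ((Subgroup.normalizer_eq_top (H := X)).symm ▸ le_top) hTY)
    rw [Subgroup.map_sup, sup_le_iff]
    refine ⟨le_trans (map_conj_eq_iff.2 ((Subgroup.normalizer_eq_top (H := X)).symm ▸ Subgroup.mem_top r)).le le_sup_left, ?_⟩
    rintro _ ⟨y, hy, rfl⟩
    show r * y * r⁻¹ ∈ X ⊔ Y
    rw [show r * y * r⁻¹ = ⁅r, y⁆ * y by simp only [commutatorElement_def]; group]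
    exact mul_mem (Subgroup.mem_sup_left (Subgroup.commutator_mem_commutator hr hy)) (Subgroup.mem_sup_right hy)
  have hRXY : R ≤ X ⊔ Y := hN.trans (Subgroup.normalClosure_le_normal (fun x hx => Subgroup.mem_sup_right hx))
  refine le_antisymm hXR ((Subgroup.closure_le _).2 fun x hx => ?_)
  refine coprime_mem_sup (N := Y) (C := X) ((Subgroup.normalizer_eq_top (H := X)).symm ▸ le_top) (fun y hy hc => ?_) ?_ hx
  · rw [eq_one_of_coprime_of_isPGroup (T.2.to_le hYT) hy hc]; exact one_mem _
  · rw [sup_comm]; exact hRXY (Subgroup.subset_closure hx)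

end Cfsg.Agent.S2827
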