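import Cfsg.Statements.S2828
import Cfsg.Agent.Lib.LocalEven.Irreducible

set_option autoImplicit false
open Cfsg CfsgLib.LocalEven.SylowIn CfsgLib.LocalEven.PReduced CfsgLib.LocalEven.Irreducible
open scoped commutatorElement

namespace Cfsg.Agent.S2828

/-- Let H be a finite group, p a prime and D a normal p-subgroup of H. Then H is p-irreducible if and only if H/D is p-irreducible, and H is strongly p-irreducible if and only if H/D is strongly p-irreducible. -/
theorem result {H : Type*} [Group H] [Finite H] {p : ℕ} [Fact p.Prime] (D : Subgroup H) [D.Normal] (hD : IsPGroup p ↥D) : (Cfsg.IsPIrreducible p H ↔ Cfsg.IsPIrreducible p (H ⧸ D)) ∧ (Cfsg.IsStronglyPIrreducible p H ↔ Cfsg.IsStronglyPIrreducible p (H ⧸ D)) := by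
  set f := QuotientGroup.mk' D
  have hf : Function.Surjective f := QuotientGroup.mk'_surjective D
  obtain ⟨T⟩ := (inferInstance : Nonempty (Sylow p H))
  set T' : Sylow p (H ⧸ D) := T.mapSurjective hf
  have hT' : (T' : Subgroup (H ⧸ D)) = (T : Subgroup H).map f := rfl
  set O := Cfsg.pCore p H
  haveI hOn : O.Normal := CfsgLib.LocalEven.SylowIn.pCore_normal H p
  have hDO : D ≤ O := CfsgLib.LocalEven.SylowIn.le_pCore hD
  have hDT : D ≤ (T : Subgroup H) := hD.le_sylow_of_normal T
  have hO : (Cfsg.pCore p (H ⧸ D)).comap f = O := by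
    refine le_antisymm ?_ (Subgroup.map_le_iff_le_comap.1 ?_)
    · haveI := CfsgLib.LocalEven.SylowIn.pCore_normal (H ⧸ D) p
      refine CfsgLib.LocalEven.SylowIn.le_pCore ?_
      refine (isPGroup_pCore (H ⧸ D) p).comap_of_ker_isPGroup f ?_
      rwa [QuotientGroup.ker_mk']
    · haveI : (O.map f).Normal := Subgroup.Normal.map hOn f hf
      exact CfsgLib.LocalEven.SylowIn.le_pCore ((isPGroup_pCore H p).map f)
  have hmap : ∀ U : Subgroup H, U.map f ≤ Cfsg.pCore p (H ⧸ D) ↔ U ≤ O := fun U => by
    rw [Subgroup.map_le_iff_le_comap, hO]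
  have hcl : Cfsg.IsPClosed p H ↔ Cfsg.IsPClosed p (H ⧸ D) := by
    rw [isPClosed_iff_le T, isPClosed_iff_le T', hT', hmap]
  have hres : (Cfsg.pResidual p H).map f = Cfsg.pResidual p (H ⧸ D) := CfsgLib.Fusion.Basic.map_pResidual_eq f hf
  have hback : ∀ N : Subgroup H, N.Normal → (Cfsg.pResidual p H).map f ≤ N.map f → Cfsg.pResidual p H ≤ N := by
    intro N hN h
    haveI := hN
    refine (Subgroup.closure_le _).2 fun x hx => coprime_mem_sup (N := D) (C := N)
      ((Subgroup.normalizer_eq_top (H := N)).symm ▸ le_top)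
      (fun y hy hc => by rw [eq_one_of_coprime_of_isPGroup hD hy hc]; exact one_mem _) ?_ hx
    have h2 := Subgroup.map_le_iff_le_comap.1 h (Subgroup.subset_closure hx)
    rwa [Subgroup.comap_map_eq, QuotientGroup.ker_mk', sup_comm] at h2
  refine ⟨?_, and_congr (not_congr hcl) ⟨fun h N hN hne => ?_, fun h N hN hne => ?_⟩⟩
  · rw [isPIrreducible_iff T, isPIrreducible_iff T', hT', hmap]
    refine and_congr_right fun _ => ⟨fun h N hN hne => ?_, fun h N hN hne => hback N hN ?_⟩
    · haveI := hN
      rw [← hres, Subgroup.map_le_iff_le_comap]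
      refine h _ (hN.comap f) fun hle => hne ?_
      rw [← Subgroup.map_comap_eq_self_of_surjective hf ((T : Subgroup H).map f ⊓ N), hmap, Subgroup.comap_inf,
        Subgroup.comap_map_eq, QuotientGroup.ker_mk', sup_eq_left.2 hDT]
      exact hle
    · haveI := hN
      haveI : (N.map f).Normal := Subgroup.Normal.map hN f hf
      rw [hres]
      exact h _ inferInstance fun hle => hne ((hmap _).1 ((Subgroup.map_inf_le _ _ f).trans hle))
  · haveI := hN
    rw [← hres, Subgroup.map_le_iff_le_comap]
    refine h _ (hN.comap f) fun hle => hne ?_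
    rw [← Subgroup.map_comap_eq_self_of_surjective hf N, ← Subgroup.map_top_of_surjective f hf, ← Subgroup.map_commutator]
    exact (hmap _).2 hle
  · haveI := hN
    haveI : (N.map f).Normal := Subgroup.Normal.map hN f hf
    refine hback N hN ?_
    rw [hres]
    refine h _ inferInstance fun hle => hne ((hmap _).1 ?_)
    rwa [Subgroup.map_commutator, Subgroup.map_top_of_surjective f hf]

end Cfsg.Agent.S2828
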