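import Cfsg.Statements.S2829
import Cfsg.Agent.Lib.LocalEven.Residual

set_option autoImplicit false
open Cfsg CfsgLib.LocalEven.SylowIn CfsgLib.LocalEven.Residual
open scoped commutatorElement

namespace Cfsg.Agent.S2829


/-- Every strongly p-irreducible finite group is p-irreducible. -/
theorem result {H : Type*} [Group H] [Finite H] {p : ℕ} [Fact p.Prime] (hH : Cfsg.IsStronglyPIrreducible p H) : Cfsg.IsPIrreducible p H := by
  refine ⟨hH.1, fun N hN hnc => hH.2 N hN fun hle => hnc fun P => ⟨fun x hx g => ?_⟩⟩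
  haveI := CfsgLib.LocalEven.SylowIn.pCore_normal H p
  haveI : ((Cfsg.pCore p H).subgroupOf N).Normal := Subgroup.Normal.subgroupOf inferInstance N
  have h1 := IsPGroup.le_sylow_of_normal
    ((isPGroup_pCore H p).comap_of_injective N.subtype N.subtype_injective : IsPGroup p ((Cfsg.pCore p H).subgroupOf N)) P
  have hc : ⁅g, x⁆ ∈ (Cfsg.pCore p H).subgroupOf N := by
    show ((⁅g, x⁆ : ↥N) : H) ∈ Cfsg.pCore p H
    exact hle (Subgroup.commutator_mem_commutator g.2 (Subgroup.mem_top _))
  have e : g * x * g⁻¹ = ⁅g, x⁆ * x := by rw [commutatorElement_def]; group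
  rw [e]
  exact mul_mem (h1 hc) hx

end Cfsg.Agent.S2829
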