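import Cfsg.Statements.S2830
import Cfsg.Agent.Lib.LocalEven.Irreducible

set_option autoImplicit false
open Cfsg CfsgLib.LocalEven.SylowIn CfsgLib.LocalEven.PReduced CfsgLib.LocalEven.Irreducible
open scoped commutatorElement

namespace Cfsg.Agent.S2830

/-- Let H act by conjugation on the elementary abelian p-subgroup V of a finite group G (H ≤ N(V)), with H p-irreducible and O^p(H) not centralizing V. Then C_H(V) is p-closed and C_T(V) ≤ O_p(H) for every p-subgroup T of H. If in addition O_p(H) centralizes V, then C_T(V) = T ∩ O_p(H) for every p-subgroup T of H, and V is p-reduced for H: O_p(H/C_H(V)) = 1. -/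
theorem result {G : Type*} [Group G] [Finite G] {p : ℕ} [Fact p.Prime] (V H : Subgroup G) (hV : Cfsg.IsElementaryAbelian p V) (hHV : H ≤ Subgroup.normalizer (V : Set G)) (hH : Cfsg.IsPIrreducible p ↥H) (hnc : ¬ (Cfsg.pResidual p ↥H).map H.subtype ≤ Subgroup.centralizer (V : Set G)) [hn : ((Subgroup.centralizer (V : Set G)).subgroupOf H).Normal] : Cfsg.IsPClosed p ↥(H ⊓ Subgroup.centralizer (V : Set G)) ∧ (∀ T : Subgroup G, T ≤ H → IsPGroup p ↥T → T ⊓ Subgroup.centralizer (V : Set G) ≤ Cfsg.pCoreOf p H) ∧ (Cfsg.pCoreOf p H ≤ Subgroup.centralizer (V : Set G) → (∀ T : Subgroup G, T ≤ H → IsPGroup p ↥T → T ⊓ Subgroup.centralizer (V : Set G) = T ⊓ Cfsg.pCoreOf p H) ∧ Cfsg.pCore p (↥H ⧸ (Subgroup.centralizer (V : Set G)).subgroupOf H) = ⊥) := by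
  set K := (Subgroup.centralizer (V : Set G)).subgroupOf H
  have hKres : ¬ Cfsg.pResidual p H ≤ K := fun h => hnc (Subgroup.map_le_iff_le_comap.2 h)
  have hclosed : Cfsg.IsPClosed p K := by_contra fun h => hKres (hH.2 K hn h)
  have hKC : K.map H.subtype = H ⊓ Subgroup.centralizer (V : Set G) := by
    rw [inf_comm]; exact Subgroup.subgroupOf_map_subtype _ _
  have hT : ∀ T : Subgroup G, T ≤ H → IsPGroup p T →
      T ⊓ Subgroup.centralizer (V : Set G) ≤ Cfsg.pCoreOf p H := by
    intro T hTH hTp x hx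
    have h : T.subgroupOf H ⊓ K ≤ Cfsg.pCore p H := le_pCore_of_le_closed hclosed inf_le_right
      ((hTp.comap_of_injective H.subtype H.subtype_injective).to_le inf_le_left)
    exact ⟨⟨x, hTH hx.1⟩, h ⟨hx.1, hx.2⟩, rfl⟩
  refine ⟨?_, hT, fun hO => ⟨fun T hTH hTp => le_antisymm (le_inf inf_le_left (hT T hTH hTp))
    (inf_le_inf_left _ hO), ?_⟩⟩
  · set S := (default : Sylow p ↥(H ⊓ Subgroup.centralizer (V : Set G)))
    have hS := IsSylowIn.of_map_subtype S
    set S' := (S : Subgroup ↥(H ⊓ Subgroup.centralizer (V : Set G))).map (H ⊓ Subgroup.centralizer (V : Set G)).subtype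
    rw [isPClosed_iff_normalizer hS]
    have hSH : S' ≤ H := hS.1.trans inf_le_left
    have hSK : S' ≤ K.map H.subtype := hKC ▸ hS.1
    have hS2 : IsSylowIn p (S'.subgroupOf H) K :=
      ⟨fun x hx => (hS.1 hx).2, hS.2.1.comap_of_injective H.subtype H.subtype_injective, fun U hU hUp hle => by
        have h := hS.2.2 (U.map H.subtype) (hKC ▸ Subgroup.map_mono hU) (hUp.map _)
          ((Subgroup.map_subgroupOf_eq_of_le hSH).ge.trans (Subgroup.map_mono hle))
        exact Subgroup.map_injective H.subtype_injective (h.trans (Subgroup.map_subgroupOf_eq_of_le hSH).symm)⟩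
    have h := Subgroup.map_mono (f := H.subtype) ((isPClosed_iff_normalizer hS2).1 hclosed)
    rw [hKC] at h
    refine h.trans ((Subgroup.le_normalizer_map H.subtype).trans ?_)
    rw [Subgroup.map_subgroupOf_eq_of_le hSH]
  · set f := QuotientGroup.mk' K
    have hf : Function.Surjective f := QuotientGroup.mk'_surjective K
    haveI := CfsgLib.LocalEven.SylowIn.pCore_normal (↥H ⧸ K) p
    set P := (Cfsg.pCore p (↥H ⧸ K)).comap f
    have hcop : ∀ x ∈ P, (orderOf x).Coprime p → x ∈ K := fun x hx hc => by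
      rw [← QuotientGroup.eq_one_iff]
      exact eq_one_of_coprime_of_isPGroup (isPGroup_pCore _ p) hx
        (Nat.Coprime.coprime_dvd_left (CfsgLib.Fusion.Basic.orderOf_map_dvd' f x) hc)
    have hPc : Cfsg.IsPClosed p P := by
      by_contra h
      refine hKres ((Subgroup.closure_le _).2 fun x hx => ?_)
      exact hcop x (hH.2 P inferInstance h (Subgroup.subset_closure hx)) hx
    obtain ⟨T, hT', -⟩ := exists_isSylowIn (p := p) P bot_le IsPGroup.of_bot
    have hPK : P ≤ K := le_of_coprime_of_sylow hT' hcop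
      ((le_pCore_of_le_closed hPc hT'.1 hT'.2.1).trans fun x hx => hO ⟨x, hx, rfl⟩)
    rw [eq_bot_iff, ← Subgroup.map_comap_eq_self_of_surjective hf (Cfsg.pCore p _), Subgroup.map_le_iff_le_comap]
    intro x hx
    exact Subgroup.mem_bot.2 ((QuotientGroup.eq_one_iff x).2 (hPK hx))

end Cfsg.Agent.S2830
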