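import Cfsg.Statements.S2832
import Cfsg.Agent.Lib.LocalEven.PReduced

set_option autoImplicit false
open Cfsg CfsgLib.LocalEven.SylowIn CfsgLib.LocalEven.PReduced
open scoped commutatorElement

namespace Cfsg.Agent.S2832

/-- Let H be a finite group with Sylow p-subgroup T such that H is T-minimal (generated by the conjugates of T, with T in exactly one maximal subgroup), and let N be a normal subgroup of H. Then either H/N is a p-group or H/N is minimal over the image of T in the same sense. -/
theorem result {H : Type*} [Group H] [Finite H] {p : ℕ} [Fact p.Prime] (T : Sylow p H) (hmin : Cfsg.IsMinimalOver (T : Subgroup H)) (N : Subgroup H) [N.Normal] : IsPGroup p (H ⧸ N) ∨ Cfsg.IsMinimalOver ((T : Subgroup H).map (QuotientGroup.mk' N)) := by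
  set f := QuotientGroup.mk' N
  have hf : Function.Surjective f := QuotientGroup.mk'_surjective N
  by_cases htop : (T : Subgroup H) ⊔ N = ⊤
  · left
    intro q
    obtain ⟨x, rfl⟩ := hf q
    have hx : x ∈ (T : Subgroup H) ⊔ N := htop ▸ Subgroup.mem_top x
    rw [← SetLike.mem_coe, Subgroup.mul_normal, Set.mem_mul] at hx
    obtain ⟨t, ht, n, hn, rfl⟩ := hx
    obtain ⟨k, hk⟩ := T.2 ⟨t, ht⟩
    refine ⟨k, ?_⟩
    have hk' : t ^ p ^ k = 1 := congrArg Subtype.val hk
    rw [map_mul, show f n = 1 from (QuotientGroup.eq_one_iff n).2 hn, mul_one, ← map_pow, hk', map_one]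
  · right
    obtain ⟨hnc, M, ⟨hM, hTM⟩, huniq⟩ := hmin
    refine ⟨?_, M.map f, ?_, fun K hK => ?_⟩
    · rw [eq_top_iff, ← Subgroup.map_top_of_surjective f hf, ← hnc, Subgroup.map_le_iff_le_comap,
        Subgroup.normalClosure, Subgroup.closure_le]
      intro x hx
      obtain ⟨t, ht, hc⟩ := Group.mem_conjugatesOfSet_iff.1 hx
      obtain ⟨c, rfl⟩ := isConj_iff.1 hc
      show f (c * t * c⁻¹) ∈ Subgroup.normalClosure _
      rw [map_mul, map_mul, map_inv]
      exact Subgroup.normalClosure_normal.conj_mem _ (Subgroup.subset_normalClosure (show f t ∈ (((T : Subgroup H).map f : Subgroup (H ⧸ N)) : Set (H ⧸ N)) from ⟨t, ht, rfl⟩)) _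
    · obtain ⟨M', hM', hle⟩ := (eq_top_or_exists_le_coatom ((T : Subgroup H) ⊔ N)).resolve_left htop
      have he : M' = M := huniq M' ⟨hM', le_sup_left.trans hle⟩
      subst he
      have hNM : N ≤ M' := le_sup_right.trans hle
      refine ⟨?_, Subgroup.map_mono hTM⟩
      have hcm : (M'.map f).comap f = M' := by
        rw [Subgroup.comap_map_eq, QuotientGroup.ker_mk', sup_eq_left.2 hNM]
      refine ⟨fun h => hM'.1 (by rw [← hcm, h, Subgroup.comap_top]), fun K hK => ?_⟩
      have hlt : M' < K.comap f := lt_of_le_of_ne (hcm ▸ Subgroup.comap_mono hK.le) fun h =>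
        hK.ne (by rw [h, Subgroup.map_comap_eq_self_of_surjective hf])
      rw [← Subgroup.map_comap_eq_self_of_surjective hf K, hM'.2 _ hlt, Subgroup.map_top_of_surjective f hf]
    · have hK' : IsCoatom (K.comap f) := Subgroup.isCoatom_comap_of_surjective hf hK.1
      rw [← huniq _ ⟨hK', Subgroup.map_le_iff_le_comap.1 hK.2⟩, Subgroup.map_comap_eq_self_of_surjective hf]

end Cfsg.Agent.S2832
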