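import Cfsg.Statements.S2833
import Cfsg.Agent.Lib.LocalEven.Commutators
import Cfsg.Agent.Lib.LocalEven.PReduced

set_option autoImplicit false
open Cfsg CfsgLib.LocalEven.SylowIn CfsgLib.LocalEven.PReduced
open scoped commutatorElement

namespace Cfsg.Agent.S2833

/-- Let V be a subgroup of a finite group G normalized by the subgroup L, let X ≤ L and g ∈ L with [V, X, X] = 1 and L generated by X and gXg⁻¹. Put W = [V, L]. Then W = [V, X]·[V, gXg⁻¹], C_W(X) = [V, X], and C_W(L) = [V, X] ∩ [V, gXg⁻¹]. -/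
theorem result {G : Type*} [Group G] [Finite G] (V L : Subgroup G) (hLV : L ≤ Subgroup.normalizer (V : Set G)) (X : Subgroup G) (hX : X ≤ L) (g : G) (hg : g ∈ L) (hq : ⁅⁅V, X⁆, X⁆ = ⊥) (hgen : X ⊔ X.map (MulAut.conj g).toMonoidHom = L) (W : Subgroup G) (hW : W = ⁅V, L⁆) : ⁅V, X⁆ ⊔ ⁅V, X.map (MulAut.conj g).toMonoidHom⁆ = W ∧ W ⊓ Subgroup.centralizer (X : Set G) = ⁅V, X⁆ ∧ W ⊓ Subgroup.centralizer (L : Set G) = ⁅V, X⁆ ⊓ ⁅V, X.map (MulAut.conj g).toMonoidHom⁆ := by
  subst hW
  set X' := X.map (MulAut.conj g).toMonoidHom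
  set A := ⁅V, X⁆
  set B := ⁅V, X'⁆
  have hX' : X' ≤ L := hgen ▸ le_sup_right
  have hAV : A ≤ V := Subgroup.le_normalizer_iff_commutator_le_left.1 (hX.trans hLV)
  have hBV : B ≤ V := Subgroup.le_normalizer_iff_commutator_le_left.1 (hX'.trans hLV)
  have hVA : V ≤ Subgroup.normalizer (A : Set G) := CfsgLib.LocalEven.Commutators.normalizer_commutator_left V X
  have hVB : V ≤ Subgroup.normalizer (B : Set G) := CfsgLib.LocalEven.Commutators.normalizer_commutator_left V X'
  have hmap : A.map (MulAut.conj g).toMonoidHom = B := by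
    rw [Subgroup.map_commutator, map_conj_eq_iff.2 (hLV hg)]
  have hXA : X ≤ Subgroup.centralizer (A : Set G) :=
    Subgroup.le_centralizer_iff.1 (Subgroup.commutator_eq_bot_iff_le_centralizer.1 hq)
  have hXB : X' ≤ Subgroup.centralizer (B : Set G) := by
    rw [← hmap, centralizer_map_conj]; exact Subgroup.map_mono hXA
  set S := A ⊔ B
  have hVS : V ≤ Subgroup.normalizer (S : Set G) := normalizer_sup hVA hVB
  have hLS : L ≤ Subgroup.normalizer (S : Set G) := by
    have key : ∀ K : Subgroup G, (∀ x ∈ K, ∀ s ∈ (A : Set G) ∪ (B : Set G), ⁅x, s⁆ ∈ S) →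
        K ≤ Subgroup.normalizer (S : Set G) := by
      intro K h
      refine le_normalizer_of_map_conj fun x hx => Subgroup.eq_of_le_of_card_ge ?_
        (Nat.card_congr (S.equivMapOfInjective _ (MulAut.conj x).injective).toEquiv).le
      rw [Subgroup.map_sup, sup_le_iff]
      constructor <;> rintro _ ⟨s, hs, rfl⟩ <;> show x * s * x⁻¹ ∈ S <;>
        rw [show x * s * x⁻¹ = ⁅x, s⁆ * s by simp only [commutatorElement_def]; group]
      · exact mul_mem (h x hx s (Or.inl hs)) (Subgroup.mem_sup_left hs)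
      · exact mul_mem (h x hx s (Or.inr hs)) (Subgroup.mem_sup_right hs)
    have hc : ∀ (K : Subgroup G) (s : G), s ∈ V → ∀ x ∈ K, ⁅x, s⁆ ∈ (⁅V, K⁆ : Subgroup G) := fun K s hs x hx => by
      rw [Subgroup.commutator_comm]; exact Subgroup.commutator_mem_commutator hx hs
    rw [← hgen]
    refine sup_le (key X fun x hx s hs => Subgroup.mem_sup_left ?_) (key X' fun x hx s hs => Subgroup.mem_sup_right ?_)
    · exact hc X s (hs.elim (fun h => hAV h) (fun h => hBV h)) x hx
    · exact hc X' s (hs.elim (fun h => hAV h) (fun h => hBV h)) x hx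
  have hWS : ⁅V, L⁆ = S := by
    refine le_antisymm (Subgroup.commutator_le.2 fun v hv l hl => ?_)
      (sup_le (Subgroup.commutator_mono le_rfl hX) (Subgroup.commutator_mono le_rfl hX'))
    have hl0 : l ∈ X ⊔ X' := hgen.symm ▸ hl
    rw [Subgroup.sup_eq_closure] at hl0
    suffices hh : l ∈ L ∧ ⁅v, l⁆ ∈ S from hh.2
    refine Subgroup.closure_induction (p := fun l _ => l ∈ L ∧ ⁅v, l⁆ ∈ S) ?_ ⟨one_mem _, by simp⟩ ?_ ?_ hl0
    · rintro l (hl | hl)
      · exact ⟨hX hl, Subgroup.mem_sup_left (Subgroup.commutator_mem_commutator hv hl)⟩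
      · exact ⟨hX' hl, Subgroup.mem_sup_right (Subgroup.commutator_mem_commutator hv hl)⟩
    · intro a b _ _ ha hb
      refine ⟨mul_mem ha.1 hb.1, ?_⟩
      rw [show ⁅v, a * b⁆ = ⁅v, a⁆ * (a * ⁅v, b⁆ * a⁻¹) by simp only [commutatorElement_def]; group]
      exact mul_mem ha.2 ((Subgroup.mem_normalizer_iff.1 (hLS ha.1) _).1 hb.2)
    · intro a _ ha
      refine ⟨inv_mem ha.1, ?_⟩
      rw [show ⁅v, a⁻¹⁆ = a⁻¹ * ⁅v, a⁆⁻¹ * a by simp only [commutatorElement_def]; group]
      exact (Subgroup.mem_normalizer_iff''.1 (hLS ha.1) _).1 (inv_mem ha.2)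
  have hCX : S ⊓ Subgroup.centralizer (X : Set G) = A := by
    refine le_antisymm (fun w hw => ?_) (le_inf le_sup_left (Subgroup.le_centralizer_iff.1 hXA))
    have hw1 : w ∈ A ⊔ B := hw.1
    rw [← SetLike.mem_coe, Subgroup.coe_mul_of_left_le_normalizer_right _ _ (hAV.trans hVB)] at hw1
    obtain ⟨a, ha, b, hb, rfl⟩ := Set.mem_mul.1 hw1
    have hbX : b ∈ Subgroup.centralizer (X : Set G) := by
      have := mul_mem (inv_mem (Subgroup.le_centralizer_iff.1 hXA ha)) hw.2
      simpa using this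
    have hbL : b ∈ Subgroup.centralizer (L : Set G) := by
      rw [← hgen, Subgroup.sup_eq_closure, Subgroup.centralizer_closure]
      exact Subgroup.mem_centralizer_iff.2 fun y hy => hy.elim (fun h => hbX y h)
        (fun h => Subgroup.le_centralizer_iff.1 hXB hb y h)
    refine mul_mem ha ?_
    rw [← hmap] at hb
    obtain ⟨a', ha', rfl⟩ := hb
    have e : g * (g * a' * g⁻¹) = (g * a' * g⁻¹) * g := hbL g hg
    have e2 : g * a' * g⁻¹ = a' := by
      rw [inv_mul_cancel_right] at e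
      exact mul_left_cancel e
    show g * a' * g⁻¹ ∈ A
    rw [e2]; exact ha'
  refine ⟨hWS.symm, by rw [hWS]; exact hCX, ?_⟩
  rw [hWS]
  refine le_antisymm ?_ ?_
  · intro w hw
    have hwA : w ∈ A := hCX.le ⟨hw.1, Subgroup.centralizer_le hX hw.2⟩
    refine ⟨hwA, ?_⟩
    rw [← hmap]
    refine ⟨w, hwA, ?_⟩
    show g * w * g⁻¹ = w
    rw [hw.2 g hg, mul_inv_cancel_right]
  · intro w hw
    refine ⟨Subgroup.mem_sup_left hw.1, ?_⟩
    rw [← hgen, Subgroup.sup_eq_closure, Subgroup.centralizer_closure]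
    exact Subgroup.mem_centralizer_iff.2 fun y hy => hy.elim
      (fun h => Subgroup.le_centralizer_iff.1 hXA hw.1 y h) (fun h => Subgroup.le_centralizer_iff.1 hXB hw.2 y h)

end Cfsg.Agent.S2833
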