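import Cfsg.Statements.S2834
import Cfsg.Agent.Lib.LocalEven.Irreducible
import Cfsg.Agent.Lib.Coprime.Sylow

set_option autoImplicit false
open Cfsg

namespace Cfsg.Agent.S2834

open CfsgLib.LocalEven.SylowIn CfsgLib.LocalEven.PReduced

variable {H : Type*} [Group H] [Finite H] {p : ℕ} [Fact p.Prime]

/-- The conjugate of a subgroup. -/
abbrev cj (g : H) (B : Subgroup H) : Subgroup H := B.map (MulAut.conj g).toMonoidHom

theorem cj_cj (g h : H) (B : Subgroup H) : cj g (cj h B) = cj (g * h) B := map_conj_conj B g h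

theorem cj_inv_cj (g : H) (B : Subgroup H) : cj g⁻¹ (cj g B) = B := by
  rw [cj_cj, inv_mul_cancel]; exact map_conj_one B

theorem cj_le {g : H} {B C : Subgroup H} (h : B ≤ C) : cj g B ≤ cj g C := Subgroup.map_mono h

theorem cj_le_iff {g : H} {B C : Subgroup H} : cj g B ≤ C ↔ B ≤ cj g⁻¹ C := by
  constructor
  · intro h
    have := cj_le (g := g⁻¹) h
    rwa [cj_inv_cj] at this
  · intro h
    have := cj_le (g := g) h
    rwa [cj_cj, mul_inv_cancel, show cj (1 : H) C = C from map_conj_one C] at this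

theorem cj_sSup (n : H) (S : Set (Subgroup H)) : cj n (sSup S) = sSup (cj n '' S) := by
  rw [sSup_image, sSup_eq_iSup]
  simp only [cj, Subgroup.map_iSup]

/-- The conjugates of `A` contained in `P`. -/
def conjIn (A P : Subgroup H) : Set (Subgroup H) := {B | (∃ g, B = cj g A) ∧ B ≤ P}

theorem conjIn_mono {A P P' : Subgroup H} (h : P ≤ P') : conjIn A P ⊆ conjIn A P' := fun _ hB => ⟨hB.1, hB.2.trans h⟩

theorem conjIn_cj (A P : Subgroup H) (g : H) : conjIn A (cj g P) = cj g '' conjIn A P := by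
  ext B
  constructor
  · rintro ⟨⟨h, rfl⟩, hB⟩
    refine ⟨cj (g⁻¹ * h) A, ⟨⟨_, rfl⟩, ?_⟩, by rw [cj_cj, mul_inv_cancel_left]⟩
    have := cj_le (g := g⁻¹) hB
    rwa [cj_cj, cj_inv_cj] at this
  · rintro ⟨C, ⟨⟨h, rfl⟩, hC⟩, rfl⟩
    exact ⟨⟨g * h, cj_cj g h A⟩, cj_le hC⟩

/-- In a `p`-group a proper set of conjugates cut out by a subgroup is normalized by a further conjugate. -/
theorem exists_normalizing {A S D : Subgroup H} (hS : IsPGroup p S) (hsub : conjIn A D ⊆ conjIn A S)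
    (hne : conjIn A D ≠ conjIn A S) :
    ∃ B ∈ conjIn A S, B ∉ conjIn A D ∧ B ≤ Subgroup.normalizer ((sSup (conjIn A D) : Subgroup H) : Set H) := by
  set K := sSup (conjIn A D)
  set P := sSup (conjIn A S)
  have hKD : K ≤ D := sSup_le fun B hB => hB.2
  have hKP : K ≤ P := sSup_le_sSup hsub
  have hP : IsPGroup p P := hS.to_le (sSup_le fun B hB => hB.2)
  set N1 := Subgroup.normalizer (K : Set H) ⊓ P
  by_contra hno
  have hN1 : ∀ B, (∃ g, B = cj g A) → B ≤ N1 → B ∈ conjIn A D := fun B hB hle => by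
    by_contra h
    exact hno ⟨B, ⟨hB, (hle.trans inf_le_right).trans (sSup_le fun C hC => hC.2)⟩, h, hle.trans inf_le_left⟩
  have hset : conjIn A N1 = conjIn A D := by
    ext B
    refine ⟨fun hB => hN1 B hB.1 hB.2, fun hB => ⟨hB.1, (le_sSup hB).trans ?_⟩⟩
    exact le_inf Subgroup.le_normalizer hKP
  rcases lt_or_eq_of_le (inf_le_right : N1 ≤ P) with hlt | heq
  · refine (CfsgLib.Coprime.lt_normalizer_inf_of_lt hP hlt).not_ge ?_
    rintro n ⟨hnP, hn⟩
    refine ⟨?_, hnP⟩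
    have e : cj n N1 = N1 := map_conj_eq_iff.2 hn
    refine map_conj_eq_iff.1 ?_
    show cj n (sSup (conjIn A D)) = sSup (conjIn A D)
    conv_rhs => rw [← hset, ← e, conjIn_cj, hset]
    exact cj_sSup n _
  · exact hne (hsub.antisymm fun B hB => hN1 B hB.1 ((le_sSup hB).trans heq.ge))

/-- The configuration from which the L-subgroup is built. -/
theorem exists_config (T : Sylow p H) (hmin : Cfsg.IsMinimalOver (T : Subgroup H)) {M : Subgroup H}
    (hM : IsCoatom M) (hTM : (T : Subgroup H) ≤ M) (A : Subgroup H) (hAT : A ≤ (T : Subgroup H))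
    (hA : ¬ A ≤ Cfsg.pCore p H) :
    ∃ (E : Set (Subgroup H)) (g : H) (L : Subgroup H), A ⊔ Cfsg.pCore p H ≤ L ∧ sSup E ≤ pCoreOf p L ∧
      ¬ A ≤ pCoreOf p L ∧ ¬ L ≤ cj g M ∧
      ∀ P : Subgroup H, IsPGroup p P → sSup E ≤ P → A ≤ P →
        P ≤ cj g M ∧ ∀ h : H, P ≤ cj h M → cj h M = cj g M := by
  classical
  set Q := Cfsg.pCore p H
  haveI hQn : Q.Normal := CfsgLib.LocalEven.SylowIn.pCore_normal H p
  have hQ : IsPGroup p Q := isPGroup_pCore H p
  have hQT : Q ≤ (T : Subgroup H) := hQ.le_sylow_of_normal T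
  have hmax : ∀ (h : H) (X : Subgroup H), X ≠ ⊤ → cj h (T : Subgroup H) ≤ X → X ≤ cj h M := by
    intro h X hX hle
    rw [cj_le_iff] at hle
    have h1 : cj h⁻¹ X ≤ M := CfsgLib.LocalEven.Irreducible.le_of_ne_top hmin hM hTM (fun he => hX ?_) hle
    · have := cj_le (g := h) h1
      rwa [cj_cj, mul_inv_cancel, show cj (1 : H) X = X from map_conj_one X] at this
    · have := cj_inv_cj h⁻¹ X
      rw [inv_inv] at this
      rw [← this, he]
      exact Subgroup.map_top_of_surjective _ (MulAut.conj h).surjective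
  have getS : ∀ (P : Subgroup H) (g : H), IsPGroup p P → P ≤ cj g M →
      ∃ h, cj h M = cj g M ∧ P ≤ cj h (T : Subgroup H) := by
    intro P g hP hPg
    have hT' : IsSylowIn p (cj g (T : Subgroup H)) (cj g M) := (isSylowIn_of_sylow T hTM).map_conj g
    obtain ⟨S, hS, hPS⟩ := exists_isSylowIn (cj g M) hPg hP
    obtain ⟨m, hm, rfl⟩ := hT'.conjugate hS
    refine ⟨m * g, ?_, hPS.trans (cj_cj m g _).le⟩
    rw [← cj_cj]
    exact map_conj_eq_iff.2 (Subgroup.le_normalizer hm)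
  -- a `p`-subgroup in two conjugates of `M` containing as many conjugates of `A` as possible
  let F : Set (Subgroup H) := {P | IsPGroup p P ∧ ∃ g h, cj g M ≠ cj h M ∧ P ≤ cj g M ∧ P ≤ cj h M}
  have hF : F.Nonempty := by
    obtain ⟨x, hx⟩ : ∃ x, x ∉ M := by
      by_contra h
      exact hM.1 (top_le_iff.1 fun x _ => by by_contra h'; exact h ⟨x, h'⟩)
    refine ⟨Q, hQ, 1, x, fun e => hx ?_, ?_, ?_⟩
    · rw [show cj (1 : H) M = M from map_conj_one M] at e
      have := map_conj_eq_iff.1 e.symm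
      rwa [CfsgLib.LocalEven.Irreducible.normalizer_coatom_eq hmin hM hTM] at this
    · rw [show cj (1 : H) M = M from map_conj_one M]; exact hQT.trans hTM
    · exact le_trans (le_of_eq (Subgroup.Normal.map_conj_eq Q x).symm) (cj_le (hQT.trans hTM))
  obtain ⟨D, ⟨hD, g₁, g₂, hne, hD1, hD2⟩, hDmax⟩ :=
    Set.exists_max_image F (fun P => (conjIn A P).ncard) (Set.toFinite _) hF
  set E := conjIn A D
  have huniq : ∀ P : Subgroup H, IsPGroup p P → E ⊂ conjIn A P → ∀ g h, P ≤ cj g M → P ≤ cj h M → cj g M = cj h M := by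
    intro P hP hlt g h hg hh
    by_contra hn
    exact absurd (hDmax P ⟨hP, g, h, hn, hg, hh⟩) (not_le.2 (Set.ncard_lt_ncard hlt (Set.toFinite _)))
  obtain ⟨h₁, e₁, hDS₁⟩ := getS D g₁ hD hD1
  obtain ⟨h₂, e₂, hDS₂⟩ := getS D g₂ hD hD2
  have hne' : cj h₁ M ≠ cj h₂ M := e₁ ▸ e₂ ▸ hne
  have hsize : ∀ h h', (conjIn A (cj h (T : Subgroup H))).ncard = (conjIn A (cj h' (T : Subgroup H))).ncard := by
    intro h h'
    rw [conjIn_cj, conjIn_cj, Set.ncard_image_of_injective _ (Subgroup.map_injective (MulAut.conj h).injective),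
      Set.ncard_image_of_injective _ (Subgroup.map_injective (MulAut.conj h').injective)]
  have hproper : ∀ h, D ≤ cj h (T : Subgroup H) → E ≠ conjIn A (cj h (T : Subgroup H)) := by
    intro h hh he
    have hall : ∀ k, D ≤ cj k (T : Subgroup H) → conjIn A (cj k (T : Subgroup H)) = E := fun k hk =>
      (Set.eq_of_subset_of_ncard_le (conjIn_mono hk) (le_of_eq ((hsize k h).trans (by rw [← he]))) (Set.toFinite _)).symm
    set P := sSup E
    have hP : IsPGroup p P := hD.to_le (sSup_le fun B hB => hB.2)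
    have hPn : ∀ k, D ≤ cj k (T : Subgroup H) → cj k (T : Subgroup H) ≤ Subgroup.normalizer (P : Set H) := by
      intro k hk
      refine le_normalizer_of_map_conj fun n hn => ?_
      show cj n (sSup E) = sSup E
      have e : cj n (cj k (T : Subgroup H)) = cj k (T : Subgroup H) := map_conj_eq_iff.2 (Subgroup.le_normalizer hn)
      conv_rhs => rw [← hall k hk, ← e, conjIn_cj, hall k hk]
      exact cj_sSup n _
    have hN : Subgroup.normalizer (P : Set H) ≠ ⊤ := by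
      intro he'
      haveI : P.Normal := Subgroup.normalizer_eq_top_iff.1 he'
      have h1 : cj h A ∈ E := by rw [← hall h hh]; exact ⟨⟨h, rfl⟩, cj_le hAT⟩
      have h2 : cj h A ≤ Q := (le_sSup h1).trans (le_pCore hP)
      rw [cj_le_iff, show cj h⁻¹ Q = Q from Subgroup.Normal.map_conj_eq Q _] at h2
      exact hA h2
    have h3 : cj h₂ (T : Subgroup H) ≤ cj h₁ M := (hPn h₂ hDS₂).trans (hmax h₁ _ hN (hPn h₁ hDS₁))
    have h4 : cj h₁ M ≠ ⊤ := fun e => hM.1 (by
      have := congrArg (cj h₁⁻¹) e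
      rw [cj_inv_cj] at this
      rw [this]
      exact Subgroup.map_top_of_surjective _ (MulAut.conj h₁⁻¹).surjective)
    have h5 := hmax h₂ _ h4 h3
    exact hne' (Subgroup.eq_of_le_of_card_ge h5 (le_of_eq (by
      rw [Subgroup.card_map_of_injective (MulAut.conj h₂).injective, Subgroup.card_map_of_injective (MulAut.conj h₁).injective])))
  have hS : ∀ h, IsPGroup p (cj h (T : Subgroup H)) := fun h => T.2.map _
  obtain ⟨B, hB, hBE, hBN⟩ := exists_normalizing (hS h₁) (conjIn_mono hDS₁) (hproper h₁ hDS₁)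
  obtain ⟨C, hC, hCE, hCN⟩ := exists_normalizing (hS h₂) (conjIn_mono hDS₂) (hproper h₂ hDS₂)
  set K := sSup E
  have hKD : K ≤ D := sSup_le fun U hU => hU.2
  have hlt : ∀ {U P : Subgroup H}, (∃ g, U = cj g A) → U ∉ E → K ≤ P → U ≤ P → E ⊂ conjIn A P := by
    intro U P hU hUE hKP hUP
    have hsub : E ⊆ conjIn A P := fun V hV => ⟨hV.1, (le_sSup hV).trans hKP⟩
    exact (Set.ssubset_iff_of_subset hsub).2 ⟨U, ⟨hU, hUP⟩, hUE⟩
  have hB1 : B ≤ cj h₁ M := hB.2.trans (cj_le hTM)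
  have hC2 : C ≤ cj h₂ M := hC.2.trans (cj_le hTM)
  have hK1 : K ≤ cj h₁ M := hKD.trans (hDS₁.trans (cj_le hTM))
  have hK2 : K ≤ cj h₂ M := hKD.trans (hDS₂.trans (cj_le hTM))
  -- every `p`-group over `K` and `B` lies in `cj h₁ M` only
  have hPB : ∀ P : Subgroup H, IsPGroup p P → K ≤ P → B ≤ P →
      P ≤ cj h₁ M ∧ ∀ h, P ≤ cj h M → cj h M = cj h₁ M := by
    intro P hP hKP hBP
    have hu : ∀ h, P ≤ cj h M → cj h M = cj h₁ M := fun h hh =>
      huniq (K ⊔ B) (hP.to_le (sup_le hKP hBP)) (hlt hB.1 hBE le_sup_left le_sup_right) h h₁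
        ((sup_le hKP hBP).trans hh) (sup_le hK1 hB1)
    obtain ⟨S, hPS⟩ := hP.exists_le_sylow
    obtain ⟨k, rfl⟩ := MulAction.exists_smul_eq H T S
    have hk : P ≤ cj k M := hPS.trans (cj_le hTM)
    exact ⟨hu k hk ▸ hk, hu⟩
  set L := K ⊔ B ⊔ C ⊔ Q
  have hLK : L ≤ Subgroup.normalizer ((K ⊔ Q : Subgroup H) : Set H) := by
    have hQQ : ∀ X : Subgroup H, X ≤ Subgroup.normalizer (Q : Set H) := fun X => Subgroup.normalizer_eq_top (H := Q) ▸ le_top
    have h : ∀ X : Subgroup H, X ≤ Subgroup.normalizer (K : Set H) → X ≤ Subgroup.normalizer ((K ⊔ Q : Subgroup H) : Set H) :=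
      fun X hX => (le_inf hX (hQQ X)).trans (Subgroup.normalizer_inf_normalizer_le_normalizer_sup K Q)
    exact sup_le (sup_le (sup_le (h K Subgroup.le_normalizer) (h B hBN)) (h C hCN))
      (le_sup_right.trans Subgroup.le_normalizer)
  have hKQ : K ⊔ Q ≤ pCoreOf p L := le_pCoreOf (sup_le (le_sup_left.trans (le_sup_left.trans le_sup_left)) le_sup_right) hLK
    (IsPGroup.to_sup_of_normal_right' (hD.to_le hKD) hQ (Subgroup.normalizer_eq_top (H := Q) ▸ le_top))
  have hLM : ¬ L ≤ cj h₁ M := by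
    intro hle
    refine hne' (huniq (K ⊔ C) ((hS h₂).to_le (sup_le (hKD.trans hDS₂) hC.2)) (hlt hC.1 hCE le_sup_left le_sup_right) h₁ h₂ ?_ (sup_le hK2 hC2))
    exact (sup_le (le_sup_left.trans (le_sup_left.trans le_sup_left)) (le_sup_right.trans le_sup_left)).trans hle
  have hBO : ¬ B ≤ pCoreOf p L := by
    intro hle
    refine hLM (hPB L ?_ (le_sup_left.trans (le_sup_left.trans le_sup_left)) (le_sup_right.trans (le_sup_left.trans le_sup_left))).1
    have hCp : IsPGroup p C := (hS h₂).to_le hC.2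
    have hLeq : L = C ⊔ pCoreOf p L := by
      refine le_antisymm (sup_le (sup_le (sup_le ?_ (hle.trans le_sup_right)) le_sup_left) ?_) (sup_le (le_sup_right.trans le_sup_left) (pCoreOf_le L))
      · exact (le_sup_left.trans hKQ).trans le_sup_right
      · exact (le_sup_right.trans hKQ).trans le_sup_right
    rw [hLeq]
    exact hCp.to_sup_of_normal_right' (isPGroup_pCoreOf L)
      ((le_sup_right.trans le_sup_left).trans (normalizer_pCoreOf L))
  -- translate so that `B` becomes `A`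
  obtain ⟨⟨b, rfl⟩, -⟩ := hB
  refine ⟨cj b⁻¹ '' E, b⁻¹ * h₁, cj b⁻¹ L, sup_le ?_ ?_, ?_, ?_, ?_, ?_⟩
  · rw [← cj_le_iff]; exact le_sup_right.trans (le_sup_left.trans le_sup_left)
  · calc Q = cj b⁻¹ Q := (Subgroup.Normal.map_conj_eq Q _).symm
      _ ≤ cj b⁻¹ L := cj_le le_sup_right
  · refine sSup_le ?_
    rintro _ ⟨U, hU, rfl⟩
    rw [← pCoreOf_map_conj]
    exact cj_le ((le_sSup hU).trans (le_sup_left.trans hKQ))
  · rw [← pCoreOf_map_conj, ← cj_le_iff]
    exact hBO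
  · intro hle
    refine hLM ?_
    have := cj_le (g := b) hle
    rwa [cj_cj, cj_cj, mul_inv_cancel, mul_inv_cancel_left, show cj (1 : H) L = L from map_conj_one L] at this
  · intro P hP hEP hAP
    have hK' : K ≤ cj b P := sSup_le fun U hU => by
      have := cj_le (g := b) ((le_sSup (Set.mem_image_of_mem (cj b⁻¹) hU)).trans hEP)
      rwa [cj_cj, mul_inv_cancel, show cj (1 : H) U = U from map_conj_one U] at this
    obtain ⟨hle, hu⟩ := hPB (cj b P) (hP.map _) hK' (cj_le hAP)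
    refine ⟨?_, fun h hh => ?_⟩
    · rw [cj_le_iff] at hle
      exact hle.trans (cj_cj _ _ _).le
    · have h1 := hu (b * h) (cj_cj b h M ▸ cj_le hh)
      have h2 := congrArg (cj b⁻¹) h1
      rwa [cj_cj, cj_cj, inv_mul_cancel_left] at h2

/-- The L-Lemma: let H be a finite group with Sylow p-subgroup T such that H is T-minimal (generated by the conjugates of T, T in exactly one maximal subgroup M), and let A ≤ T with A not contained in O_p(H). Then there is a subgroup L of H containing A·O_p(H) such that (a) A·O_p(L) lies in exactly one maximal subgroup L₀ of L, and L₀ = L ∩ gMg⁻¹ for some g ∈ H; (b) L = ⟨A, xAx⁻¹⟩·O_p(L) for every x ∈ L outside L₀. -/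
theorem result {H : Type*} [Group H] [Finite H] {p : ℕ} [Fact p.Prime] (T : Sylow p H) (hmin : Cfsg.IsMinimalOver (T : Subgroup H)) (M : Subgroup H) (hM : IsCoatom M ∧ (T : Subgroup H) ≤ M) (A : Subgroup H) (hAT : A ≤ (T : Subgroup H)) (hA : ¬ A ≤ Cfsg.pCore p H) : ∃ L : Subgroup H, A ⊔ Cfsg.pCore p H ≤ L ∧ ∃ L₀ : Subgroup H, A ⊔ (Cfsg.pCoreOf p L) ≤ L₀ ∧ L₀ < L ∧ (∀ X : Subgroup H, A ⊔ (Cfsg.pCoreOf p L) ≤ X → X < L → X ≤ L₀) ∧ (∃ g : H, L₀ = L ⊓ ((M : Subgroup H).map (MulAut.conj (g : H)).toMonoidHom)) ∧ ∀ x ∈ L, x ∉ L₀ → (A ⊔ ((A : Subgroup H).map (MulAut.conj (x : H)).toMonoidHom)) ⊔ (Cfsg.pCoreOf p L) = L := by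
  obtain ⟨E, g, L₁, hAQ₁, hE₁, hA₁, hLg₁, hP⟩ := exists_config T hmin hM.1 hM.2 A hAT hA
  obtain ⟨L, -, hLmin⟩ := exists_minimal_le_of_wellFoundedLT (fun L : Subgroup H => A ⊔ Cfsg.pCore p H ≤ L ∧
    sSup E ≤ Cfsg.pCoreOf p L ∧ ¬ A ≤ Cfsg.pCoreOf p L ∧ ¬ L ≤ cj g M) L₁ ⟨hAQ₁, hE₁, hA₁, hLg₁⟩
  obtain ⟨hAQ, hE, hAO, hLg⟩ := hLmin.prop
  set R := Cfsg.pCoreOf p L
  have hAL : A ≤ L := le_sup_left.trans hAQ
  have hAR : IsPGroup p ↥(A ⊔ R) :=
    (T.2.to_le hAT).to_sup_of_normal_right' (isPGroup_pCoreOf L) (hAL.trans (normalizer_pCoreOf L))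
  obtain ⟨hARM, -⟩ := hP _ hAR (hE.trans le_sup_right) le_sup_left
  set L₀ := L ⊓ cj g M
  have hL₀ : A ⊔ R ≤ L₀ := le_inf (sup_le hAL (pCoreOf_le L)) hARM
  have huniq : ∀ X : Subgroup H, A ⊔ R ≤ X → X < L → X ≤ L₀ := by
    intro X hX hXL
    refine le_inf hXL.le ?_
    have hRX : R ≤ Cfsg.pCoreOf p X :=
      le_pCoreOf (le_sup_right.trans hX) (hXL.le.trans (normalizer_pCoreOf L)) (isPGroup_pCoreOf L)
    by_cases hAX : A ≤ Cfsg.pCoreOf p X
    · obtain ⟨hle, hu⟩ := hP _ (isPGroup_pCoreOf X) (hE.trans hRX) hAX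
      intro x hx
      have h1 : cj (x * g) M = cj g M := by
        refine hu (x * g) ?_
        rw [← cj_cj]
        calc Cfsg.pCoreOf p X = cj x (Cfsg.pCoreOf p X) := (map_conj_eq_iff.2 (normalizer_pCoreOf X hx)).symm
          _ ≤ cj x (cj g M) := cj_le hle
      rw [← cj_cj] at h1
      have h2 := map_conj_eq_iff.1 h1
      rw [normalizer_map_conj, CfsgLib.LocalEven.Irreducible.normalizer_coatom_eq hmin hM.1 hM.2] at h2
      exact h2
    · by_contra hXM
      have hQR : Cfsg.pCore p H ≤ R := by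
        haveI := CfsgLib.LocalEven.SylowIn.pCore_normal H p
        exact le_pCoreOf (le_sup_right.trans hAQ) (Subgroup.normalizer_eq_top (H := Cfsg.pCore p H) ▸ le_top) (isPGroup_pCore H p)
      exact hXL.not_ge (hLmin.2 ⟨sup_le (le_sup_left.trans hX) (hQR.trans (le_sup_right.trans hX)), hE.trans hRX, hAX, hXM⟩ hXL.le)
  refine ⟨L, hAQ, L₀, hL₀, lt_of_le_not_ge inf_le_left fun h => hLg (h.trans inf_le_right), huniq, ⟨g, rfl⟩, fun x hx hx0 => ?_⟩
  set X := A ⊔ cj x A ⊔ R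
  have hxA : cj x A ≤ L := (cj_le hAL).trans (map_conj_eq_iff.2 (Subgroup.le_normalizer hx)).le
  have hXL : X ≤ L := sup_le (sup_le hAL hxA) (pCoreOf_le L)
  by_contra hne
  have h1 : X ≤ cj g M := (huniq X (sup_le (le_sup_left.trans le_sup_left) le_sup_right) (lt_of_le_of_ne hXL hne)).trans inf_le_right
  have hP' : IsPGroup p ↥(cj x A ⊔ R) :=
    ((T.2.to_le hAT).map _).to_sup_of_normal_right' (isPGroup_pCoreOf L) (hxA.trans (normalizer_pCoreOf L))
  have h2 : A ⊔ R ≤ cj x⁻¹ (cj g M) := by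
    rw [← cj_le_iff]
    refine le_trans ?_ h1
    show (A ⊔ R).map _ ≤ X
    rw [Subgroup.map_sup, map_conj_eq_iff.2 (normalizer_pCoreOf L hx)]
    exact sup_le (le_sup_right.trans le_sup_left) le_sup_right
  obtain ⟨-, hu⟩ := hP _ hAR (hE.trans le_sup_right) le_sup_left
  rw [cj_cj] at h2
  have h3 := hu _ h2
  rw [← cj_cj] at h3
  have h4 := map_conj_eq_iff.1 h3
  rw [normalizer_map_conj, CfsgLib.LocalEven.Irreducible.normalizer_coatom_eq hmin hM.1 hM.2] at h4
  exact hx0 (Subgroup.mem_inf.2 ⟨hx, inv_inv x ▸ inv_mem h4⟩)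

end Cfsg.Agent.S2834
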