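import Cfsg.Statements.S2835
import Cfsg.Agent.Lib.LocalEven.Irreducible
import Cfsg.Agent.Lib.Fusion.Alperin

set_option autoImplicit false
open Cfsg CfsgLib.LocalEven.SylowIn CfsgLib.LocalEven.PReduced CfsgLib.LocalEven.Irreducible
open scoped commutatorElement

namespace Cfsg.Agent.S2835

/-- Let L be a finite group, L₀ a maximal subgroup, T a Sylow p-subgroup of L₀ and Y ≤ T, and suppose L is Y-minimal (generated by the conjugates of Y, with Y in exactly one maximal subgroup, necessarily L₀). Then N_L(T) ≤ L₀, O_p(L) ≤ L₀ and T is a Sylow p-subgroup of L; N_L(L₀) = L₀; L = ⟨Y, gYg⁻¹⟩ for each g ∈ L outside L₀; and if Y is abelian then Y ∩ gYg⁻¹ = C_Y(L) for each such g. -/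
theorem result {L : Type*} [Group L] [Finite L] {p : ℕ} [Fact p.Prime] (L₀ : Subgroup L) (hL₀ : IsCoatom L₀) (T : Sylow p ↥L₀) (Y : Subgroup L) (hYT : Y ≤ (T : Subgroup ↥L₀).map L₀.subtype) (hmin : Cfsg.IsMinimalOver Y) : Subgroup.normalizer (((T : Subgroup ↥L₀).map L₀.subtype : Subgroup L) : Set L) ≤ L₀ ∧ Cfsg.pCore p L ≤ L₀ ∧ (∃ P : Sylow p L, (P : Subgroup L) = (T : Subgroup ↥L₀).map L₀.subtype) ∧ Subgroup.normalizer (L₀ : Set L) = L₀ ∧ (∀ g : L, g ∉ L₀ → Y ⊔ Y.map (MulAut.conj g).toMonoidHom = ⊤) ∧ (IsMulCommutative ↥Y → ∀ g : L, g ∉ L₀ → Y ⊓ Y.map (MulAut.conj g).toMonoidHom = Y ⊓ Subgroup.center L) := by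
  set T' := (T : Subgroup L₀).map L₀.subtype
  have hT : IsSylowIn p T' L₀ := IsSylowIn.of_map_subtype T
  have hYL : Y ≤ L₀ := hYT.trans hT.1
  have hN : Subgroup.normalizer (T' : Set L) ≤ L₀ := by
    refine le_of_ne_top hmin hL₀ hYL (fun he => ?_) (hYT.trans Subgroup.le_normalizer)
    haveI : T'.Normal := Subgroup.normalizer_eq_top_iff.1 he
    exact hL₀.1 (top_le_iff.1 ((not_le_of_normal hmin hYT).ge.trans hT.1))
  obtain ⟨P, hP⟩ := hT.2.1.exists_le_sylow
  have hPT : (P : Subgroup L) = T' := by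
    refine le_antisymm ?_ hP
    by_contra hle
    obtain ⟨u, ⟨huP, huN⟩, huT⟩ := SetLike.exists_of_lt (CfsgLib.Fusion.Alperin.exists_gt_of_lt_sylow P
      (lt_of_le_not_ge hP hle))
    have := hT.2.2 _ (inf_le_right.trans hN : (P : Subgroup L) ⊓ Subgroup.normalizer (T' : Set L) ≤ L₀)
      (P.2.to_le inf_le_left) (le_inf hP Subgroup.le_normalizer)
    exact huT (this.le ⟨huP, huN⟩)
  refine ⟨hN, ?_, ⟨P, hPT⟩, normalizer_coatom_eq hmin hL₀ hYL, fun g hg => sup_conj_eq_top hmin hL₀ hYL hg,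
    fun hab g hg => le_antisymm ?_ ?_⟩
  · haveI := CfsgLib.LocalEven.SylowIn.pCore_normal L p
    exact ((isPGroup_pCore L p).le_sylow_of_normal P).trans (hPT.le.trans hT.1)
  · refine le_inf inf_le_left ?_
    intro x hx
    have h : (⊤ : Subgroup L) ≤ Subgroup.centralizer ({x} : Set L) := by
      haveI := hab
      rw [← sup_conj_eq_top hmin hL₀ hYL hg]
      refine sup_le (fun y hy => ?_) (fun y hy => ?_) <;> refine Subgroup.mem_centralizer_iff.2 fun w hw => ?_ <;>
        rw [Set.mem_singleton_iff.1 hw]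
      · exact Subgroup.mem_centralizer_iff.1 (Subgroup.le_centralizer Y hy) x hx.1
      · haveI : IsMulCommutative ↥(Y.map (MulAut.conj g).toMonoidHom) := Subgroup.map_isMulCommutative Y _
        exact Subgroup.mem_centralizer_iff.1 (Subgroup.le_centralizer _ hy) x hx.2
    exact Subgroup.mem_center_iff.2 fun y => (Subgroup.mem_centralizer_iff.1 (h (Subgroup.mem_top y)) x rfl).symm
  · refine le_inf inf_le_left fun x hx => ⟨x, hx.1, ?_⟩
    show g * x * g⁻¹ = x
    rw [Subgroup.mem_center_iff.1 hx.2 g, mul_inv_cancel_right]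

end Cfsg.Agent.S2835
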