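import Cfsg.Statements.S2836
import Cfsg.Agent.Lib.LocalEven.Irreducible
import Cfsg.Agent.S2835
import Cfsg.Agent.Lib.Solvable.Cores

set_option autoImplicit false
open Cfsg CfsgLib.LocalEven.SylowIn CfsgLib.LocalEven.PReduced CfsgLib.LocalEven.Irreducible
open scoped commutatorElement

namespace Cfsg.Agent.S2836

/-- Let L be a finite group, L₀ a maximal subgroup, T a Sylow p-subgroup of L₀, Y ≤ T, and suppose L is Y-minimal. Let D be the intersection of the conjugates of L₀ (the core of L₀). Then D contains O_p(L) and D/O_p(L) is the Frattini subgroup of L/O_p(L), so D is p-closed; and every normal subgroup N of L contained in L₀ is p-closed with N/O_p(N) a nilpotent group of order prime to p. -/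
theorem result {L : Type*} [Group L] [Finite L] {p : ℕ} [Fact p.Prime] (L₀ : Subgroup L) (hL₀ : IsCoatom L₀) (T : Sylow p ↥L₀) (Y : Subgroup L) (hYT : Y ≤ (T : Subgroup ↥L₀).map L₀.subtype) (hmin : Cfsg.IsMinimalOver Y) : (Cfsg.pCore p L ≤ L₀.normalCore ∧ (L₀.normalCore).map (QuotientGroup.mk' (Cfsg.pCore p L)) = frattini (L ⧸ Cfsg.pCore p L) ∧ Cfsg.IsPClosed p ↥(L₀.normalCore)) ∧ ∀ (N : Subgroup L) [N.Normal], N ≤ L₀ → Cfsg.IsPClosed p ↥N ∧ Group.IsNilpotent (↥N ⧸ Cfsg.pCore p ↥N) ∧ (Nat.card (↥N ⧸ Cfsg.pCore p ↥N)).Coprime p := by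
  obtain ⟨hN, hO, ⟨P, hP⟩, -, -, -⟩ := Cfsg.Agent.S2835.result L₀ hL₀ T Y hYT hmin
  have hYL : Y ≤ L₀ := hYT.trans (Subgroup.map_subtype_le _)
  set O := Cfsg.pCore p L
  haveI hOn : O.Normal := CfsgLib.LocalEven.SylowIn.pCore_normal L p
  set D := L₀.normalCore
  have hOD : O ≤ D := Subgroup.normal_le_normalCore.2 hO
  have hDL : D ≤ L₀ := L₀.normalCore_le
  have hPL : (P : Subgroup L) ≤ L₀ := hP.le.trans (Subgroup.map_subtype_le _)
  have hYP : Y ≤ (P : Subgroup L) := hYT.trans hP.ge
  have hnormal : ∀ (N : Subgroup L), N.Normal → N ≤ L₀ → (P : Subgroup L) ⊓ N ≤ O := by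
    intro N hN' hle
    haveI := hN'
    have hn : (⊤ : Subgroup L) ≤ Subgroup.normalizer (N : Set L) := (Subgroup.normalizer_eq_top (H := N)).ge
    have hS := IsSylowIn.inf_normal (isSylowIn_of_sylow P (L := ⊤) le_top) le_top hn
    set U := (P : Subgroup L) ⊓ N
    have htop : Subgroup.normalizer (U : Set L) = ⊤ := by
      by_contra hne
      have h1 := le_of_ne_top hmin hL₀ hYL hne
        (hYP.trans (normalizer_inf Subgroup.le_normalizer ((le_top : (P : Subgroup L) ≤ ⊤).trans hn)))
      refine hL₀.1 (top_le_iff.1 fun g hg => ?_)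
      obtain ⟨l, hl, n, hn', rfl⟩ := frattini_argument hS hn le_top hg
      exact mul_mem (hle hl) (h1 hn'.2)
    haveI : U.Normal := Subgroup.normalizer_eq_top_iff.1 htop
    exact CfsgLib.LocalEven.SylowIn.le_pCore hS.2.1
  haveI hDn : D.Normal := L₀.normalCore_normal
  have hDP : (P : Subgroup L) ⊓ D ≤ O := hnormal D hDn hDL
  set f := QuotientGroup.mk' O
  have hf : Function.Surjective f := QuotientGroup.mk'_surjective O
  have hΦ : D.map f = frattini (L ⧸ O) := by
    have hker : ∀ W : Subgroup L, O ≤ W → (W.map f).comap f = W := fun W hW => by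
      rw [Subgroup.comap_map_eq, QuotientGroup.ker_mk', sup_eq_left.2 hW]
    refine le_antisymm ?_ ?_
    · rw [frattini, Order.radical]
      simp only [le_iInf_iff]
      intro W hW
      rw [Subgroup.map_le_iff_le_comap]
      set W₁ := W.comap f
      have hW₁ : IsCoatom W₁ := Subgroup.isCoatom_comap_of_surjective hf hW
      by_contra hnD
      have hsup : W₁ ⊔ D = ⊤ := hW₁.2 _ (lt_of_le_of_ne le_sup_left fun h => hnD (h ▸ le_sup_right))
      have hOW : O ≤ W₁ := fun x hx => by
        show f x ∈ W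
        rw [show f x = 1 from (QuotientGroup.eq_one_iff x).2 hx]; exact one_mem _
      have hidx : ¬ p ∣ W₁.index := by
        intro hdvd
        have a := Subgroup.relIndex_mul_index (inf_le_left : W₁ ⊓ D ≤ W₁)
        have b := Subgroup.relIndex_mul_index (inf_le_right : W₁ ⊓ D ≤ D)
        rw [Subgroup.inf_relIndex_left, ← Subgroup.relIndex_sup_right (H := W₁) (K := D), hsup,
          Subgroup.relIndex_top_right] at a
        rw [Subgroup.inf_relIndex_right] at b
        have h1 : W₁.index = W₁.relIndex D := Nat.eq_of_mul_eq_mul_left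
          (Nat.pos_of_ne_zero Subgroup.index_ne_zero_of_finite) (a.trans (b.symm.trans (mul_comm _ _)))
        refine CfsgLib.Fusion.Basic.not_dvd_relIndex_of_normal P D ((h1 ▸ hdvd).trans ?_)
        exact Subgroup.relIndex_dvd_of_le_left D (hDP.trans hOW)
      obtain ⟨R⟩ := (inferInstance : Nonempty (Sylow p W₁))
      have h0 : ¬ p ∣ ((R : Subgroup W₁).map W₁.subtype).index := by
        rw [Subgroup.index_map_subtype, (Fact.out : p.Prime).dvd_mul]
        exact not_or_intro R.not_dvd_index hidx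
      obtain ⟨g, -, he⟩ := (isSylowIn_of_sylow ((R.2.map W₁.subtype).toSylow h0) (L := ⊤) le_top).conjugate
        (isSylowIn_of_sylow P (L := ⊤) le_top)
      have hY' : Y ≤ W₁.map (MulAut.conj g).toMonoidHom :=
        hYP.trans (he.le.trans (Subgroup.map_mono (Subgroup.map_subtype_le _)))
      have he' := eq_of_coatom hmin hL₀ hYL (((MulAut.conj g).mapSubgroup.isCoatom_iff W₁).2 hW₁) hY'
      refine hnD fun x hx => ?_
      have hx' : g * x * g⁻¹ ∈ W₁.map (MulAut.conj g).toMonoidHom := he'.ge (hDL (hDn.conj_mem x hx g))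
      rw [mem_map_conj] at hx'
      simpa [mul_assoc] using hx'
    · have hc : IsCoatom (L₀.map f) := by
        refine ⟨fun h => hL₀.1 ?_, fun K hK => ?_⟩
        · rw [← hker L₀ hO, h, Subgroup.comap_top]
        · have hlt : L₀ < K.comap f := lt_of_le_of_ne (hker L₀ hO ▸ Subgroup.comap_mono hK.le) fun h =>
            hK.ne (by rw [h, Subgroup.map_comap_eq_self_of_surjective hf])
          rw [← Subgroup.map_comap_eq_self_of_surjective hf K, hL₀.2 _ hlt, Subgroup.map_top_of_surjective f hf]
      have h1 : (frattini (L ⧸ O)).comap f ≤ L₀ := (Subgroup.comap_mono (frattini_le_coatom hc)).trans (hker L₀ hO).le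
      rw [← Subgroup.map_comap_eq_self_of_surjective hf (frattini (L ⧸ O))]
      exact Subgroup.map_mono (Subgroup.normal_le_normalCore.2 h1)
  refine ⟨⟨hOD, hΦ, (isPClosed_normal_iff P D).2 hDP⟩, fun N _ hle => ?_⟩
  have hND : N ≤ D := Subgroup.normal_le_normalCore.2 hle
  have hNP : (P : Subgroup L) ⊓ N ≤ O := hnormal N inferInstance hle
  haveI := CfsgLib.LocalEven.SylowIn.pCore_normal N p
  have hsub : Cfsg.pCore p N = O.subgroupOf N := by
    refine le_antisymm (fun x hx => ?_) ?_
    · have : Cfsg.pCoreOf p N ≤ O := by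
        haveI : (Cfsg.pCoreOf p N).Normal := Subgroup.normalizer_eq_top_iff.1 (top_le_iff.1
          (le_normalizer_of_map_conj fun g _ => by
            rw [pCoreOf_map_conj, map_conj_eq_iff.2 ((Subgroup.normalizer_eq_top (H := N)).symm ▸ Subgroup.mem_top g)]))
        exact CfsgLib.LocalEven.SylowIn.le_pCore (isPGroup_pCoreOf N)
      exact this ⟨x, hx, rfl⟩
    · haveI : (O.subgroupOf N).Normal := hOn.subgroupOf N
      exact CfsgLib.LocalEven.SylowIn.le_pCore ((isPGroup_pCore L p).comap_of_injective N.subtype N.subtype_injective)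
  refine ⟨(isPClosed_normal_iff P N).2 hNP, ?_, ?_⟩
  · haveI := frattini_nilpotent (G := L ⧸ O)
    let φ : ↥N →* ↥(frattini (L ⧸ O)) := (f.comp N.subtype).codRestrict _ fun x => hΦ.le ⟨x, hND x.2, rfl⟩
    have hk : φ.ker = Cfsg.pCore p N := by
      rw [hsub]
      ext x
      rw [MonoidHom.mem_ker, Subgroup.mem_subgroupOf, ← QuotientGroup.eq_one_iff, ← Subtype.coe_inj]
      rfl
    haveI := Subgroup.isNilpotent φ.range
    exact Group.nilpotent_of_mulEquiv ((QuotientGroup.quotientMulEquivOfEq hk).symm.trans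
      (QuotientGroup.quotientKerEquivRange φ)).symm
  · refine ((Nat.Prime.coprime_iff_not_dvd Fact.out).2 fun h => ?_).symm
    obtain ⟨S⟩ := (inferInstance : Nonempty (Sylow p N))
    have hle' := (isPClosed_iff_le S).1 ((isPClosed_normal_iff P N).2 hNP)
    rw [← Subgroup.index_eq_card] at h
    exact S.not_dvd_index (h.trans (Subgroup.index_dvd_of_le hle'))

end Cfsg.Agent.S2836
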