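import Cfsg.Statements.S2837
import Cfsg.Agent.Lib.LocalEven.Irreducible
import Cfsg.Agent.Lib.PGroup.Frattini

set_option autoImplicit false
open Cfsg CfsgLib.LocalEven.SylowIn CfsgLib.LocalEven.PReduced CfsgLib.LocalEven.Irreducible
open scoped commutatorElement

namespace Cfsg.Agent.S2837

/-- Let L be a finite group of characteristic p, L₀ a maximal subgroup, Y an elementary abelian p-subgroup of L₀ with L Y-minimal and O_p(L) ≤ N_L(Y). Put A = the normal closure of O_p(L) ∩ Y in L. Then for every g ∈ L outside L₀: Φ(A) = A' = [A ∩ Y, A] = [A ∩ Y, A ∩ gYg⁻¹] ≤ C_Y(L), and Y ∩ gYg⁻¹ = (A ∩ Y) ∩ (A ∩ gYg⁻¹) = C_Y(L) = C_A(L). -/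
theorem result {L : Type*} [Group L] [Finite L] {p : ℕ} [Fact p.Prime] (hchar : Subgroup.centralizer (Cfsg.pCore p L : Set L) ≤ Cfsg.pCore p L) (L₀ : Subgroup L) (hL₀ : IsCoatom L₀) (Y : Subgroup L) (hYL₀ : Y ≤ L₀) (hYel : Cfsg.IsElementaryAbelian p Y) (hmin : Cfsg.IsMinimalOver Y) (hOY : Cfsg.pCore p L ≤ Subgroup.normalizer (Y : Set L)) (A : Subgroup L) (hA : A = Subgroup.normalClosure (((Cfsg.pCore p L ⊓ Y : Subgroup L)) : Set L)) (g : L) (hg : g ∉ L₀) : (frattini ↥A).map A.subtype = ⁅A, A⁆ ∧ ⁅A, A⁆ = ⁅A ⊓ Y, A⁆ ∧ ⁅A ⊓ Y, A⁆ = ⁅A ⊓ Y, A ⊓ Y.map (MulAut.conj g).toMonoidHom⁆ ∧ ⁅A ⊓ Y, A⁆ ≤ Y ⊓ Subgroup.center L ∧ Y ⊓ Y.map (MulAut.conj g).toMonoidHom = Y ⊓ Subgroup.center L ∧ (A ⊓ Y) ⊓ (A ⊓ Y.map (MulAut.conj g).toMonoidHom) = Y ⊓ Subgroup.center L ∧ A ⊓ Subgroup.center L = Y ⊓ Subgroup.center L := by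
  set O := Cfsg.pCore p L
  haveI hOn : O.Normal := CfsgLib.LocalEven.SylowIn.pCore_normal L p
  have htop := sup_conj_eq_top hmin hL₀ hYL₀ hg
  have hYc : Y ≤ Subgroup.centralizer (Y : Set L) := elab_le_centralizer hYel
  set Y' := Y.map (MulAut.conj g).toMonoidHom
  have hY'c : Y' ≤ Subgroup.centralizer (Y' : Set L) := by
    rw [centralizer_map_conj]; exact Subgroup.map_mono hYc
  set Y1 := O ⊓ Y
  set Z1 := O ⊓ Y'
  have hOn' : ∀ K : Subgroup L, K ≤ Subgroup.normalizer (O : Set L) := fun K =>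
    (Subgroup.normalizer_eq_top (H := O)).symm ▸ le_top
  have hOY' : O ≤ Subgroup.normalizer (Y' : Set L) := by
    rw [normalizer_map_conj]
    exact (map_conj_eq_iff.2 ((Subgroup.normalizer_eq_top (H := O)).symm ▸ Subgroup.mem_top g)).ge.trans
      (Subgroup.map_mono hOY)
  have hZ1 : Y1.map (MulAut.conj g).toMonoidHom = Z1 := by
    rw [Subgroup.map_inf _ _ _ (MulAut.conj g).injective,
      map_conj_eq_iff.2 ((Subgroup.normalizer_eq_top (H := O)).symm ▸ Subgroup.mem_top g)]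
  have hcY : ∀ K : Subgroup L, K ≤ O → ⁅Y, K⁆ ≤ Y1 := fun K hK =>
    le_inf ((Subgroup.commutator_mono le_rfl hK).trans (Subgroup.le_normalizer_iff_commutator_le_right.1 (hOn' Y)))
      ((Subgroup.commutator_mono le_rfl hK).trans (Subgroup.le_normalizer_iff_commutator_le_left.1 hOY))
  have hcY' : ∀ K : Subgroup L, K ≤ O → ⁅Y', K⁆ ≤ Z1 := fun K hK =>
    le_inf ((Subgroup.commutator_mono le_rfl hK).trans (Subgroup.le_normalizer_iff_commutator_le_right.1 (hOn' Y')))
      ((Subgroup.commutator_mono le_rfl hK).trans (Subgroup.le_normalizer_iff_commutator_le_left.1 hOY'))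
  set B := Y1 ⊔ Z1
  have hBn : (⊤ : Subgroup L) ≤ Subgroup.normalizer (B : Set L) := by
    have key : ∀ (K : Subgroup L), ⁅K, Y1⁆ ≤ B → ⁅K, Z1⁆ ≤ B → K ≤ Subgroup.normalizer (B : Set L) := by
      intro K h1 h2
      refine le_normalizer_of_map_conj fun x hx => Subgroup.eq_of_le_of_card_ge ?_
        (Nat.card_congr (B.equivMapOfInjective _ (MulAut.conj x).injective).toEquiv).le
      rw [Subgroup.map_sup, sup_le_iff]
      constructor <;> rintro _ ⟨s, hs, rfl⟩ <;> show x * s * x⁻¹ ∈ B <;>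
        rw [show x * s * x⁻¹ = ⁅x, s⁆ * s by simp only [commutatorElement_def]; group]
      · exact mul_mem (h1 (Subgroup.commutator_mem_commutator hx hs)) (Subgroup.mem_sup_left hs)
      · exact mul_mem (h2 (Subgroup.commutator_mem_commutator hx hs)) (Subgroup.mem_sup_right hs)
    rw [← htop]
    exact sup_le (key Y ((hcY _ inf_le_left).trans le_sup_left) ((hcY _ inf_le_left).trans le_sup_left))
      (key Y' ((hcY' _ inf_le_left).trans le_sup_right) ((hcY' _ inf_le_left).trans le_sup_right))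
  haveI : B.Normal := Subgroup.normalizer_eq_top_iff.1 (top_le_iff.1 hBn)
  have hA' : A = B := by
    rw [hA]
    refine le_antisymm (Subgroup.normalClosure_le_normal (fun x hx => Subgroup.mem_sup_left hx)) (sup_le Subgroup.le_normalClosure ?_)
    rw [← hZ1]
    rintro _ ⟨y, hy, rfl⟩
    exact Subgroup.normalClosure_normal.conj_mem y (Subgroup.subset_normalClosure hy) g
  clear hA
  subst hA'
  have hBO : B ≤ O := sup_le inf_le_left inf_le_left
  have hAY : B ⊓ Y = Y1 := le_antisymm (le_inf (inf_le_left.trans hBO) inf_le_right) (le_inf le_sup_left inf_le_right)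
  have hAY' : B ⊓ Y' = Z1 := le_antisymm (le_inf (inf_le_left.trans hBO) inf_le_right) (le_inf le_sup_right inf_le_right)
  have hcen : Y ⊓ Y' = Y ⊓ Subgroup.center L := by
    refine le_antisymm (le_inf inf_le_left fun x hx => Subgroup.mem_center_iff.2 fun y => ?_) ?_
    · have h : (⊤ : Subgroup L) ≤ Subgroup.centralizer ({x} : Set L) := by
        rw [← htop]
        refine sup_le (hYc.trans (Subgroup.centralizer_le ?_)) (hY'c.trans (Subgroup.centralizer_le ?_))
        exacts [Set.singleton_subset_iff.2 hx.1, Set.singleton_subset_iff.2 hx.2]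
      exact ((Subgroup.mem_centralizer_iff.1 (h (Subgroup.mem_top y))) x rfl).symm
    · refine le_inf inf_le_left fun x hx => ⟨x, hx.1, ?_⟩
      show g * x * g⁻¹ = x
      rw [Subgroup.mem_center_iff.1 hx.2 g, mul_inv_cancel_right]
  have hYZ : ⁅Y1, Z1⁆ ≤ Y ⊓ Subgroup.center L := by
    rw [← hcen]
    refine le_inf (((Subgroup.commutator_mono inf_le_right le_rfl).trans (hcY Z1 inf_le_left)).trans inf_le_right) ?_
    rw [Subgroup.commutator_comm]
    exact ((Subgroup.commutator_mono inf_le_right le_rfl).trans (hcY' Y1 inf_le_left)).trans inf_le_right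
  have hYCc : ⁅Y1, Y1⁆ = ⊥ := Subgroup.commutator_eq_bot_iff_le_centralizer.2
    (inf_le_right.trans (hYc.trans (Subgroup.centralizer_le inf_le_right)))
  have hZc : ⁅Z1, Z1⁆ = ⊥ := Subgroup.commutator_eq_bot_iff_le_centralizer.2
    (inf_le_right.trans (hY'c.trans (Subgroup.centralizer_le inf_le_right)))
  haveI hCn : ⁅Y1, Z1⁆.Normal := Subgroup.normalizer_eq_top_iff.1 (top_le_iff.1 fun x _ => by
    refine Subgroup.centralizer_le_normalizer _ (Subgroup.mem_centralizer_iff.2 fun c hc => ?_)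
    exact (Subgroup.mem_center_iff.1 (hYZ hc).2 x).symm)
  have hsupc : ∀ K K₁ K₂ : Subgroup L, ⁅K₁, K⁆ ≤ ⁅Y1, Z1⁆ → ⁅K₂, K⁆ ≤ ⁅Y1, Z1⁆ → ⁅K₁ ⊔ K₂, K⁆ ≤ ⁅Y1, Z1⁆ := by
    intro K K₁ K₂ h1 h2
    have e : ∀ J : Subgroup L, ⁅J, K⁆ ≤ ⁅Y1, Z1⁆ ↔ J ≤ (Subgroup.centralizer
        ((K.map (QuotientGroup.mk' ⁅Y1, Z1⁆)) : Set (L ⧸ ⁅Y1, Z1⁆))).comap (QuotientGroup.mk' ⁅Y1, Z1⁆) := fun J => by
      rw [← Subgroup.map_le_iff_le_comap, ← Subgroup.commutator_eq_bot_iff_le_centralizer, ← Subgroup.map_commutator,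
        Subgroup.map_eq_bot_iff, QuotientGroup.ker_mk']
    rw [e] at h1 h2 ⊢
    exact sup_le h1 h2
  have hY1B : ⁅Y1, B⁆ = ⁅Y1, Z1⁆ := by
    refine le_antisymm ?_ (Subgroup.commutator_mono le_rfl le_sup_right)
    rw [Subgroup.commutator_comm]
    exact hsupc _ _ _ (hYCc.le.trans bot_le) (Subgroup.commutator_comm _ _).le
  have hBB : ⁅B, B⁆ = ⁅Y1, Z1⁆ := by
    refine le_antisymm (hsupc _ _ _ hY1B.le ?_) (Subgroup.commutator_mono le_sup_left le_sup_right)
    rw [Subgroup.commutator_comm]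
    exact hsupc _ _ _ le_rfl (hZc.le.trans bot_le)
  have hBp : IsPGroup p B := (isPGroup_pCore L p).to_le hBO
  have hfr : (frattini B).map B.subtype = ⁅Y1, Z1⁆ := by
    refine le_antisymm ?_ ?_
    · rw [Subgroup.map_le_iff_le_comap]
      have hcomm : ∀ a b : B, ((⁅a, b⁆ : B) : L) ∈ ⁅Y1, Z1⁆ := fun a b =>
        hBB.le (Subgroup.commutator_mem_commutator a.2 b.2)
      refine CfsgLib.LocalEven.Residual.frattini_le (p := p) hcomm fun a => ?_
      show ((a ^ p : B) : L) ∈ ⁅Y1, Z1⁆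
      rw [SubmonoidClass.coe_pow, ← QuotientGroup.eq_one_iff]
      set φ := QuotientGroup.mk' ⁅Y1, Z1⁆
      have hab : ∀ x ∈ B, ∀ y ∈ B, φ x * φ y = φ y * φ x := fun x hx y hy => by
        have h : φ ⁅x, y⁆ = 1 := (QuotientGroup.eq_one_iff _).2 (hcomm ⟨x, hx⟩ ⟨y, hy⟩)
        rw [map_commutatorElement] at h
        exact commutatorElement_eq_one_iff_mul_comm.1 h
      have hpow : ∀ x ∈ B, φ x ^ p = 1 := by
        intro x hx
        have hx' : x ∈ Y1 ⊔ Z1 := hx
        rw [Subgroup.sup_eq_closure] at hx'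
        refine (Subgroup.closure_induction (p := fun x _ => x ∈ B ∧ φ x ^ p = 1) ?_ ⟨one_mem _, by simp⟩ ?_ ?_ hx').2
        · rintro x (hx | hx)
          · exact ⟨Subgroup.mem_sup_left hx, by rw [← map_pow, hYel.2 x hx.2, map_one]⟩
          · obtain ⟨y, hy, rfl⟩ := hx.2
            exact ⟨Subgroup.mem_sup_right hx, by rw [← map_pow, ← map_pow, hYel.2 y hy, map_one, map_one]⟩
        · intro x y _ _ hx hy
          refine ⟨mul_mem hx.1 hy.1, ?_⟩
          rw [map_mul, Commute.mul_pow (hab x hx.1 y hy.1), hx.2, hy.2, one_mul]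
        · intro x _ hx
          exact ⟨inv_mem hx.1, by rw [map_inv, inv_pow, hx.2, inv_one]⟩
      have := hpow a a.2
      rwa [← map_pow] at this
    · rw [← hBB]
      exact Subgroup.commutator_le.2 fun a ha b hb =>
        ⟨_, CfsgLib.PGroup.Frattini.commutatorElement_mem_frattini hBp (⟨a, ha⟩ : B) ⟨b, hb⟩, rfl⟩
  refine ⟨hfr.trans hBB.symm, by rw [hBB, hAY, hY1B], by rw [hAY, hAY', hY1B], by rw [hAY, hY1B]; exact hYZ, hcen, ?_, ?_⟩
  · rw [hAY, hAY']
    refine le_antisymm ((inf_le_inf inf_le_right inf_le_right).trans hcen.le) ?_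
    intro x hx
    haveI : (Subgroup.zpowers x).Normal := Subgroup.normalizer_eq_top_iff.1 (top_le_iff.1 fun y _ =>
      Subgroup.centralizer_le_normalizer _ (Subgroup.mem_centralizer_iff.2 fun z hz => by
        obtain ⟨k, rfl⟩ := Subgroup.mem_zpowers_iff.1 hz
        exact (Subgroup.mem_center_iff.1 (zpow_mem (show x ∈ Subgroup.center L from hx.2) k) y).symm))
    have hxO : x ∈ O := CfsgLib.LocalEven.SylowIn.le_pCore
      ((elab_isPGroup hYel).to_le (Subgroup.zpowers_le.2 hx.1)) (Subgroup.mem_zpowers x)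
    exact ⟨⟨hxO, hx.1⟩, hxO, (hcen.ge hx).2⟩
  · refine le_antisymm (fun a ha => ?_) fun x hx => ?_
    · refine ⟨?_, ha.2⟩
      have ha' : a ∈ Y1 ⊔ Z1 := ha.1
      rw [← SetLike.mem_coe, Subgroup.coe_mul_of_right_le_normalizer_left _ _
        (inf_le_left.trans (normalizer_inf (hOn' O) hOY)), Set.mem_mul] at ha'
      obtain ⟨y, hy, z, hz, rfl⟩ := ha'
      have hzc : z ∈ Subgroup.center L := by
        have h1 : ∀ w ∈ Y, w * z = z * w := fun w hw => by
          have e := Subgroup.mem_center_iff.1 ha.2 w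
          have e2 : w * y = y * w := Subgroup.mem_centralizer_iff.1 (hYc hy.2) w hw
          calc w * z = y⁻¹ * (y * w) * z := by group
            _ = y⁻¹ * (w * (y * z)) := by rw [← e2]; group
            _ = y⁻¹ * (y * z * w) := by rw [e]
            _ = z * w := by group
        refine Subgroup.mem_center_iff.2 fun x => ?_
        have hall : (⊤ : Subgroup L) ≤ Subgroup.centralizer ({z} : Set L) := by
          rw [← htop]
          refine sup_le (fun w hw => ?_) (hY'c.trans (Subgroup.centralizer_le (Set.singleton_subset_iff.2 hz.2)))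
          refine Subgroup.mem_centralizer_iff.2 fun u hu => ?_
          rw [Set.mem_singleton_iff.1 hu, h1 w hw]
        exact (Subgroup.mem_centralizer_iff.1 (hall (Subgroup.mem_top x)) z rfl).symm
      obtain ⟨z', hz', hzz⟩ := hz.2
      refine mul_mem hy.2 ?_
      have : z' = z := by
        have h : g * z' * g⁻¹ = z := hzz
        have h2 : z' = g⁻¹ * z * g := by rw [← h]; group
        rw [h2, mul_assoc, ← Subgroup.mem_center_iff.1 hzc g, inv_mul_cancel_left]
      exact this ▸ hz'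
    · refine ⟨Subgroup.mem_sup_left (Subgroup.mem_inf.2 ⟨?_, hx.1⟩), hx.2⟩
      haveI : (Subgroup.zpowers x).Normal := Subgroup.normalizer_eq_top_iff.1 (top_le_iff.1 fun y _ =>
        Subgroup.centralizer_le_normalizer _ (Subgroup.mem_centralizer_iff.2 fun z hz => by
          obtain ⟨k, rfl⟩ := Subgroup.mem_zpowers_iff.1 hz
          exact (Subgroup.mem_center_iff.1 (zpow_mem (show x ∈ Subgroup.center L from hx.2) k) y).symm))
      exact CfsgLib.LocalEven.SylowIn.le_pCore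
        ((elab_isPGroup hYel).to_le (Subgroup.zpowers_le.2 hx.1)) (Subgroup.mem_zpowers x)

end Cfsg.Agent.S2837
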