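import Cfsg.Statements.S2839
import Cfsg.Agent.Lib.LocalEven.WeakClosure

set_option autoImplicit false
open Cfsg CfsgLib.LocalEven.SylowIn CfsgLib.LocalEven.PReduced CfsgLib.LocalEven.WeakClosure
open scoped commutatorElement

namespace Cfsg.Agent.S2839

/-- Let Q be a nontrivial p-subgroup of the finite group H that is a weakly closed subgroup, K a subgroup containing Q and N a normal subgroup of H. Then Q is a weakly closed subgroup of K; every H-conjugate of Q contained in K is a K-conjugate of Q; N_K(Q) contains a Sylow p-subgroup of K; N = N_N(Q)·O^p(N); and QN/N is a weakly closed subgroup of H/N. -/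
theorem result {H : Type*} [Group H] [Finite H] {p : ℕ} [Fact p.Prime] (Q : Subgroup H) (hQp : IsPGroup p ↥Q) (hQ1 : Q ≠ ⊥) (hwc : Cfsg.IsWeaklyClosedSubgroup p Q) (K : Subgroup H) (hQK : Q ≤ K) (N' : Subgroup H) [N'.Normal] : Cfsg.IsWeaklyClosedSubgroup p (Q.subgroupOf K) ∧ (∀ g : H, ((Q : Subgroup H).map (MulAut.conj (g : H)).toMonoidHom) ≤ K → ∃ k ∈ K, ((Q : Subgroup H).map (MulAut.conj (g : H)).toMonoidHom) = ((Q : Subgroup H).map (MulAut.conj (k : H)).toMonoidHom)) ∧ Cfsg.IsParabolic p ((Subgroup.normalizer ((Q : Subgroup H) : Set H)).subgroupOf K) ∧ (N' ⊓ Subgroup.normalizer ((Q : Subgroup H) : Set H)) ⊔ (Cfsg.pResidual p ↥N').map N'.subtype = N' ∧ Cfsg.IsWeaklyClosedSubgroup p (Q.map (QuotientGroup.mk' N')) := by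
  refine ⟨of_normalizer_le (hQp.comap_of_injective K.subtype K.subtype_injective) fun R hR hQR k hk => ?_,
    fun g hg => exists_conj_in hwc hQK hg, ?_, ?_, ?_⟩
  · rw [← map_conj_eq_iff]
    have hk' : (k : H) ∈ Subgroup.normalizer (Q : Set H) := by
      refine normalizer_le hwc (R := R.map K.subtype) (hR.map _)
        ((Subgroup.map_subgroupOf_eq_of_le hQK).ge.trans (Subgroup.map_mono hQR))
        (Subgroup.le_normalizer_map K.subtype ⟨k, hk, rfl⟩)
    rw [map_conj_eq_iff, Subgroup.mem_normalizer_iff]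
    exact fun x => Subgroup.mem_normalizer_iff.1 hk' x
  · obtain ⟨P, hP, hQP⟩ := exists_isSylowIn (p := p) K hQK hQp
    exact ⟨hP.toSylow, fun x hx =>
      (Subgroup.le_normalizer.trans (normalizer_le hwc hP.2.1 hQP)) hx⟩
  · obtain ⟨T, hQT, -⟩ := id hwc
    have hTn : (T : Subgroup H) ≤ Subgroup.normalizer (Q : Set H) :=
      Subgroup.le_normalizer.trans (normalizer_le hwc T.2 hQT)
    refine le_antisymm (sup_le inf_le_left (Subgroup.map_subtype_le _)) ?_
    refine le_of_coprime_of_sylow (IsSylowIn.inf_normal (isSylowIn_of_sylow T le_top) (le_top : N' ≤ ⊤)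
      (Subgroup.normalizer_eq_top (H := N')).ge) (fun x hx hc => Subgroup.mem_sup_right ?_)
      ((le_inf inf_le_right (inf_le_left.trans hTn)).trans le_sup_left)
    rw [CfsgLib.LocalEven.Residual.map_pResidual_eq_closure]
    exact Subgroup.subset_closure ⟨hx, hc⟩
  · obtain ⟨T, hQT, -⟩ := id hwc
    refine ⟨T.mapSurjective (QuotientGroup.mk'_surjective N'), Subgroup.map_mono hQT, fun g hg => ?_⟩
    obtain ⟨g, rfl⟩ := QuotientGroup.mk'_surjective N' g
    have hconj : ∀ a : H, (Q.map (QuotientGroup.mk' N')).map (MulAut.conj (QuotientGroup.mk' N' a)).toMonoidHom =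
        (Q.map (MulAut.conj a).toMonoidHom).map (QuotientGroup.mk' N') := fun a => by
      rw [Subgroup.map_map, Subgroup.map_map]
      exact congrArg (fun f => Subgroup.map f Q) (MonoidHom.ext fun x => by simp)
    rw [hconj] at hg ⊢
    have hgK : Q.map (MulAut.conj g).toMonoidHom ≤ (T : Subgroup H) ⊔ N' := by
      intro x hx
      obtain ⟨t, ht, he⟩ := hg ⟨x, hx, rfl⟩
      rw [show x = t * (t⁻¹ * x) by group]
      exact mul_mem (Subgroup.mem_sup_left ht) (Subgroup.mem_sup_right (QuotientGroup.eq.1 he))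
    obtain ⟨k, hk, he⟩ := exists_conj_in hwc (hQT.trans le_sup_left) hgK
    rw [← SetLike.mem_coe, Subgroup.mul_normal, Set.mem_mul] at hk
    obtain ⟨t, ht, n, hn, rfl⟩ := hk
    have htQ : Q.map (MulAut.conj t).toMonoidHom = Q := eq_of_le_pgroup' hwc T.2 hQT
      ((Subgroup.map_mono hQT).trans (map_conj_eq_iff.2 (Subgroup.le_normalizer ht)).le)
    rw [he, show t * n = (t * n * t⁻¹) * t by group, ← map_conj_conj, htQ, ← hconj,
      (show QuotientGroup.mk' N' (t * n * t⁻¹) = 1 from
        (QuotientGroup.eq_one_iff _).2 (Subgroup.Normal.conj_mem inferInstance n hn t)), map_conj_one]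

end Cfsg.Agent.S2839
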