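import Cfsg.Statements.S2840
import Cfsg.Agent.Lib.LocalEven.WeakClosure

set_option autoImplicit false
open Cfsg CfsgLib.LocalEven.SylowIn CfsgLib.LocalEven.PReduced CfsgLib.LocalEven.WeakClosure
open scoped commutatorElement

namespace Cfsg.Agent.S2840

/-- Let Q be a nontrivial p-subgroup of the finite group H that is a weakly closed subgroup and K a subgroup containing Q; let K° be the weak closure of Q in K (generated by the H-conjugates of Q inside K). Then K° is generated by the K-conjugates of Q, and K° is the subnormal closure of Q in K. -/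
theorem result {H : Type*} [Group H] [Finite H] {p : ℕ} [Fact p.Prime] (Q : Subgroup H) (hQp : IsPGroup p ↥Q) (hQ1 : Q ≠ ⊥) (hwc : Cfsg.IsWeaklyClosedSubgroup p Q) (K : Subgroup H) (hQK : Q ≤ K) (Kc : Subgroup H) (hKc : Kc = Cfsg.weakClosure Q K) : Kc = ⨆ k : ↥K, ((Q : Subgroup H).map (MulAut.conj ((k : H) : H)).toMonoidHom) ∧ Kc = (Cfsg.subnormalClosure (Q.subgroupOf K)).map K.subtype := by
  subst hKc
  have hall : Cfsg.weakClosure Q K = ⨆ k : ↥K, Q.map (MulAut.conj (k : H)).toMonoidHom := by
    refine le_antisymm (iSup_le fun g => ?_) (iSup_le fun k => ?_)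
    · obtain ⟨k, hk, he⟩ := exists_conj_in hwc hQK g.2
      exact he.le.trans (le_iSup (fun k : ↥K => Q.map (MulAut.conj (k : H)).toMonoidHom) ⟨k, hk⟩)
    · have hk : Q.map (MulAut.conj (k : H)).toMonoidHom ≤ K :=
        (Subgroup.map_mono hQK).trans (map_conj_eq_iff.2 (Subgroup.le_normalizer k.2)).le
      exact le_iSup (fun g : {g : H // Q.map (MulAut.conj g).toMonoidHom ≤ K} =>
        Q.map (MulAut.conj (g : H)).toMonoidHom) ⟨k, hk⟩
  refine ⟨hall, ?_⟩
  rw [hall]
  set J := ⨆ k : ↥K, Q.map (MulAut.conj (k : H)).toMonoidHom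
  have hQJ : Q ≤ J := le_trans (by rw [OneMemClass.coe_one, map_conj_one])
    (le_iSup (fun k : ↥K => Q.map (MulAut.conj (k : H)).toMonoidHom) 1)
  have hJK : J ≤ K := iSup_le fun k =>
    (Subgroup.map_mono hQK).trans (map_conj_eq_iff.2 (Subgroup.le_normalizer k.2)).le
  have hJn : K ≤ Subgroup.normalizer (J : Set H) := by
    refine le_normalizer_of_map_conj fun g hg => ?_
    rw [Subgroup.map_iSup]
    simp only [map_conj_conj]
    exact (Equiv.mulLeft (⟨g, hg⟩ : ↥K)).surjective.iSup_comp
      (fun k : ↥K => Q.map (MulAut.conj (k : H)).toMonoidHom)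
  refine le_antisymm ?_ ?_
  · have key : ∀ U : Subgroup K, U.IsSubnormal → Q ≤ U.map K.subtype → J ≤ U.map K.subtype := by
      intro U hU
      induction hU with
      | top => rw [← MonoidHom.range_eq_map, Subgroup.range_subtype]; exact fun _ => hJK
      | step U V hle _ hn ih =>
        intro hQU
        have hV := ih (hQU.trans (Subgroup.map_mono hle))
        refine iSup_le fun k => ?_
        have h1 : Q.map (MulAut.conj (k : H)).toMonoidHom ≤ V.map K.subtype :=
          (le_iSup (fun k : ↥K => Q.map (MulAut.conj (k : H)).toMonoidHom) k).trans hV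
        obtain ⟨_, ⟨v, hv, rfl⟩, he⟩ := exists_conj_in hwc (hQU.trans (Subgroup.map_mono hle)) h1
        rw [he]
        rintro _ ⟨q, hq, rfl⟩
        obtain ⟨u, hu, rfl⟩ := hQU hq
        exact ⟨v * u * v⁻¹, (Subgroup.mem_normalizer_iff.1
          ((Subgroup.normal_subgroupOf_iff_le_normalizer hle).1 hn hv) u).1 hu, rfl⟩
    have h2 : J.subgroupOf K ≤ Cfsg.subnormalClosure (Q.subgroupOf K) := by
      refine le_sInf fun U hU x hx => ?_
      obtain ⟨y, hy, he⟩ := key U hU.2 ((Subgroup.map_subgroupOf_eq_of_le hQK).ge.trans (Subgroup.map_mono hU.1)) hx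
      exact Subtype.ext he ▸ hy
    exact (Subgroup.map_subgroupOf_eq_of_le hJK).ge.trans (Subgroup.map_mono h2)
  · refine le_trans (Subgroup.map_mono (sInf_le ?_)) (Subgroup.map_subgroupOf_eq_of_le hJK).le
    haveI : (J.subgroupOf K).Normal := (Subgroup.normal_subgroupOf_iff_le_normalizer hJK).2 hJn
    exact ⟨Subgroup.comap_mono hQJ, Subgroup.Normal.isSubnormal inferInstance⟩

end Cfsg.Agent.S2840
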