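import Cfsg.Statements.S2841
import Cfsg.Agent.Lib.LocalEven.WeakClosure
import Cfsg.Agent.Lib.LocalEven.Commutators

set_option autoImplicit false
open Cfsg CfsgLib.LocalEven.SylowIn CfsgLib.LocalEven.PReduced CfsgLib.LocalEven.WeakClosure
open scoped commutatorElement

namespace Cfsg.Agent.S2841

/-- Let Q be a nontrivial p-subgroup of the finite group H that is a weakly closed subgroup and N a normal subgroup of H. Then N = N_N(Q)·[N, Q] and [N, Q] = (Q ∩ [N, Q])·[N, Q, Q]. -/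
theorem result {H : Type*} [Group H] [Finite H] {p : ℕ} [Fact p.Prime] (Q : Subgroup H) (hQp : IsPGroup p ↥Q) (hQ1 : Q ≠ ⊥) (hwc : Cfsg.IsWeaklyClosedSubgroup p Q) (N' : Subgroup H) [N'.Normal] : (∀ n : H, n ∈ N' → ∃ a ∈ N' ⊓ Subgroup.normalizer ((Q : Subgroup H) : Set H), ∃ b ∈ ⁅N', Q⁆, n = a * b) ∧ (∀ c : H, c ∈ ⁅N', Q⁆ → ∃ a ∈ Q ⊓ ⁅N', Q⁆, ∃ b ∈ ⁅⁅N', Q⁆, Q⁆, c = a * b) := by
  set X := ⁅N', Q⁆
  have hQN : Q ≤ Subgroup.normalizer (N' : Set H) := (Subgroup.normalizer_eq_top (H := N')).symm ▸ le_top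
  have hXN : X ≤ N' := Subgroup.commutator_le_left N' Q
  have hXn : N' ≤ Subgroup.normalizer (X : Set H) := CfsgLib.LocalEven.Commutators.normalizer_commutator_left N' Q
  have hQX : Q ≤ Subgroup.normalizer (X : Set H) := CfsgLib.LocalEven.Commutators.normalizer_commutator_right N' Q
  have hfst : ∀ n ∈ N', ∃ a ∈ N' ⊓ Subgroup.normalizer (Q : Set H), ∃ b ∈ X, n = a * b := by
    intro n hn
    have h1 : Q.map (MulAut.conj n).toMonoidHom ≤ Q ⊔ X := by
      rintro _ ⟨q, hq, rfl⟩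
      show n * q * n⁻¹ ∈ Q ⊔ X
      rw [show n * q * n⁻¹ = ⁅n, q⁆ * q by simp only [commutatorElement_def]; group]
      exact mul_mem (Subgroup.mem_sup_right (Subgroup.commutator_mem_commutator hn hq)) (Subgroup.mem_sup_left hq)
    obtain ⟨m, hm, he⟩ := exists_conj_in hwc le_sup_left h1
    rw [sup_comm, ← SetLike.mem_coe, Subgroup.coe_mul_of_right_le_normalizer_left _ _ hQX, Set.mem_mul] at hm
    obtain ⟨x, hx, q, hq, rfl⟩ := hm
    rw [← map_conj_conj, map_conj_eq_iff.2 (Subgroup.le_normalizer hq)] at he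
    have ha : x⁻¹ * n ∈ Subgroup.normalizer (Q : Set H) := by
      rw [← map_conj_eq_iff, ← map_conj_conj, he, map_conj_conj, inv_mul_cancel, map_conj_one]
    have ha' : x⁻¹ * n ∈ N' := mul_mem (inv_mem (hXN hx)) hn
    exact ⟨_, ⟨ha', ha⟩, (x⁻¹ * n)⁻¹ * x * (x⁻¹ * n),
      (Subgroup.mem_normalizer_iff''.1 (hXn ha') x).1 hx, by group⟩
  refine ⟨fun n hn => hfst n hn, fun c hc => ?_⟩
  set W := ⁅X, Q⁆
  have hQW : Q ≤ Subgroup.normalizer (W : Set H) := CfsgLib.LocalEven.Commutators.normalizer_commutator_right X Q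
  have hle : X ≤ (Q ⊓ X) ⊔ W := by
    refine Subgroup.commutator_le.2 fun n hn q hq => ?_
    obtain ⟨a, ha, b, hb, rfl⟩ := hfst n hn
    rw [show ⁅a * b, q⁆ = a * ⁅b, q⁆ * a⁻¹ * ⁅a, q⁆ by simp only [commutatorElement_def]; group]
    refine mul_mem (Subgroup.mem_sup_right ?_) (Subgroup.mem_sup_left (Subgroup.mem_inf.2 ⟨?_, Subgroup.commutator_mem_commutator ha.1 hq⟩))
    · have haW : a ∈ Subgroup.normalizer (W : Set H) :=
        normalizer_commutator (L := N' ⊓ Subgroup.normalizer (Q : Set H)) (inf_le_left.trans hXn) inf_le_right ha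
      exact (Subgroup.mem_normalizer_iff.1 haW _).1 (Subgroup.commutator_mem_commutator hb hq)
    · rw [commutatorElement_def]
      exact mul_mem ((Subgroup.mem_normalizer_iff.1 ha.2 q).1 hq) (inv_mem hq)
  have hc' := hle hc
  rw [← SetLike.mem_coe, Subgroup.coe_mul_of_left_le_normalizer_right _ _ (inf_le_left.trans hQW), Set.mem_mul] at hc'
  obtain ⟨a, ha, b, hb, rfl⟩ := hc'
  exact ⟨a, ha, b, hb, rfl⟩

end Cfsg.Agent.S2841
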