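import Cfsg.Statements.S2843
import Cfsg.Agent.Lib.LocalEven.Large

set_option autoImplicit false
open Cfsg CfsgLib.LocalEven.SylowIn CfsgLib.LocalEven.PReduced CfsgLib.LocalEven.WeakClosure CfsgLib.LocalEven.Large
open scoped commutatorElement

namespace Cfsg.Agent.S2843

/-- Let Q be a nontrivial large p-subgroup of the finite group H, Q ≤ L ≤ H, and Y a nontrivial p-subgroup of H normalized by L. Let L° be the weak closure of Q in L (generated by the conjugates of Q inside L). Then L° equals the weak closure of Q in L·C_H(Y), and [L°, C_H(Y)] ≤ O_p(L°); in particular C_H(Y) normalizes L°. -/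
theorem result {H : Type*} [Group H] [Finite H] {p : ℕ} [Fact p.Prime] (Q : Subgroup H) (hQp : IsPGroup p ↥Q) (hQ1 : Q ≠ ⊥) (hL : Cfsg.IsLarge Q) (L : Subgroup H) (hQL : Q ≤ L) (Y : Subgroup H) (hYp : IsPGroup p ↥Y) (hY1 : Y ≠ ⊥) (hLY : L ≤ Subgroup.normalizer ((Y : Subgroup H) : Set H)) : Cfsg.weakClosure Q L = Cfsg.weakClosure Q (L ⊔ Subgroup.centralizer ((Y : Subgroup H) : Set H)) ∧ ⁅Cfsg.weakClosure Q L, Subgroup.centralizer ((Y : Subgroup H) : Set H)⁆ ≤ (Cfsg.pCoreOf p (Cfsg.weakClosure Q L)) ∧ Subgroup.centralizer ((Y : Subgroup H) : Set H) ≤ Subgroup.normalizer (((Cfsg.weakClosure Q L) : Subgroup H) : Set H) := by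
  set C := Subgroup.centralizer (Y : Set H)
  have hwc := isWeaklyClosedSubgroup_of_large hQp hQ1 hL
  set W := Cfsg.weakClosure Q L
  have hle : ∀ g : H, Q.map (MulAut.conj g).toMonoidHom ≤ L → Q.map (MulAut.conj g).toMonoidHom ≤ W := fun g hg =>
    le_iSup (fun g : {g : H // Q.map (MulAut.conj g).toMonoidHom ≤ L} => Q.map (MulAut.conj (g : H)).toMonoidHom) ⟨g, hg⟩
  have hCQ : ∀ g : H, Q.map (MulAut.conj g).toMonoidHom ≤ L →
      C ≤ Subgroup.normalizer ((Q.map (MulAut.conj g).toMonoidHom : Subgroup H) : Set H) := fun g hg =>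
    centralizer_le_normalizer (hQp.map _) (isLarge_map hL g) hYp hY1 (hg.trans hLY)
  have hLC : L ≤ Subgroup.normalizer (C : Set H) := normalizer_centralizer hLY
  have hWL : W ≤ L := iSup_le fun g => g.2
  have hCW : C ≤ Subgroup.normalizer (W : Set H) := le_normalizer_of_map_conj fun c hc => by
    simp only [W, Cfsg.weakClosure, Subgroup.map_iSup]
    exact iSup_congr fun g => map_conj_eq_iff.2 (hCQ g g.2 hc)
  refine ⟨le_antisymm (iSup_le fun g => le_iSup (fun g : {g : H // Q.map (MulAut.conj g).toMonoidHom ≤ L ⊔ C} => Q.map (MulAut.conj (g : H)).toMonoidHom) ⟨g, g.2.trans le_sup_left⟩) (iSup_le fun g => ?_), ?_, hCW⟩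
  · obtain ⟨k, hk, he⟩ := exists_conj_in hwc (hQL.trans le_sup_left) g.2
    rw [← SetLike.mem_coe, Subgroup.coe_mul_of_left_le_normalizer_right _ _ hLC, Set.mem_mul] at hk
    obtain ⟨l, hl, c, hc, rfl⟩ := hk
    have h1 : Q.map (MulAut.conj (l * c)).toMonoidHom = Q.map (MulAut.conj l).toMonoidHom := by
      rw [← map_conj_conj]
      congr 1
      have h := hCQ 1 (by rwa [map_conj_one]) hc
      rw [map_conj_one] at h
      exact map_conj_eq_iff.2 h
    rw [he, h1]
    exact hle l ((Subgroup.map_mono hQL).trans (map_conj_eq_iff.2 (Subgroup.le_normalizer hl)).le)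
  · set I := W ⊓ C
    have hWI : W ≤ Subgroup.normalizer (I : Set H) :=
      normalizer_inf Subgroup.le_normalizer (hWL.trans hLC)
    have hO : Cfsg.pCoreOf p I ≤ Cfsg.pCoreOf p W := by
      refine CfsgLib.LocalEven.SylowIn.le_pCoreOf ((pCoreOf_le I).trans inf_le_left)
        (le_normalizer_of_map_conj fun g hg => ?_) (isPGroup_pCoreOf I)
      rw [pCoreOf_map_conj, map_conj_eq_iff.2 (hWI hg)]
    have hOn : ∀ g : H, Q.map (MulAut.conj g).toMonoidHom ≤ L →
        ⁅Q.map (MulAut.conj g).toMonoidHom, C⁆ ≤ Cfsg.pCoreOf p W := fun g hg => by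
      refine le_trans ?_ hO
      have h1 : ⁅Q.map (MulAut.conj g).toMonoidHom, C⁆ ≤ Q.map (MulAut.conj g).toMonoidHom ⊓ C :=
        commutator_le_inf (hCQ g hg) (hg.trans hLC)
      refine h1.trans (CfsgLib.LocalEven.SylowIn.le_pCoreOf (le_inf (inf_le_left.trans (hle g hg)) inf_le_right) ?_
        ((hQp.map _).to_le inf_le_left))
      exact normalizer_inf (inf_le_right.trans (hCQ g hg)) (inf_le_right.trans Subgroup.le_normalizer)
    rw [Subgroup.commutator_le]
    intro w hw c hc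
    suffices hh : w ∈ W ∧ ⁅w, c⁆ ∈ Cfsg.pCoreOf p W from hh.2
    refine Subgroup.iSup_induction (fun g : {g : H // Q.map (MulAut.conj g).toMonoidHom ≤ L} =>
        Q.map (MulAut.conj (g : H)).toMonoidHom) (C := fun w => w ∈ W ∧ ⁅w, c⁆ ∈ Cfsg.pCoreOf p W) hw
      (fun g x hx => ⟨hle g g.2 hx, hOn g g.2 (Subgroup.commutator_mem_commutator hx hc)⟩) ⟨one_mem _, by simp⟩ ?_
    intro x y hx hy
    refine ⟨mul_mem hx.1 hy.1, ?_⟩
    rw [show ⁅x * y, c⁆ = x * ⁅y, c⁆ * x⁻¹ * ⁅x, c⁆ by simp only [commutatorElement_def]; group]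
    exact mul_mem ((Subgroup.mem_normalizer_iff.1 (normalizer_pCoreOf W hx.1) _).1 hy.2) hx.2

end Cfsg.Agent.S2843
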