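import Cfsg.Statements.S2844
import Cfsg.Agent.Lib.LocalEven.WeakClosure

set_option autoImplicit false
open Cfsg CfsgLib.LocalEven.SylowIn CfsgLib.LocalEven.PReduced CfsgLib.LocalEven.WeakClosure
open scoped commutatorElement

namespace Cfsg.Agent.S2844

/-- Let Q be a nontrivial large p-subgroup of the finite group H and Q• = O_p(N_H(Q)). Then for every g ∈ H outside N_H(Q): C_H(Q) ∩ C_H(gQg⁻¹) = 1, C_H(Q•) ∩ C_H(gQ•g⁻¹) = 1, Z(Q) ∩ Z(gQg⁻¹) = 1 and Z(Q•) ∩ Z(gQ•g⁻¹) = 1; moreover N_H(Q) = N_H(Q•) and Q• is large in H. -/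
theorem result {H : Type*} [Group H] [Finite H] {p : ℕ} [Fact p.Prime] (Q : Subgroup H) (hQp : IsPGroup p ↥Q) (hQ1 : Q ≠ ⊥) (hL : Cfsg.IsLarge Q) (Qb : Subgroup H) (hQb : Qb = Cfsg.largeBullet p Q) : (∀ g : H, g ∉ Subgroup.normalizer ((Q : Subgroup H) : Set H) → Subgroup.centralizer ((Q : Subgroup H) : Set H) ⊓ Subgroup.centralizer ((((Q : Subgroup H).map (MulAut.conj (g : H)).toMonoidHom) : Subgroup H) : Set H) = ⊥ ∧ Subgroup.centralizer ((Qb : Subgroup H) : Set H) ⊓ Subgroup.centralizer ((((Qb : Subgroup H).map (MulAut.conj (g : H)).toMonoidHom) : Subgroup H) : Set H) = ⊥ ∧ (Q ⊓ Subgroup.centralizer ((Q : Subgroup H) : Set H)) ⊓ (((Q : Subgroup H).map (MulAut.conj (g : H)).toMonoidHom) ⊓ Subgroup.centralizer ((((Q : Subgroup H).map (MulAut.conj (g : H)).toMonoidHom) : Subgroup H) : Set H)) = ⊥ ∧ (Qb ⊓ Subgroup.centralizer ((Qb : Subgroup H) : Set H)) ⊓ (((Qb : Subgroup H).map (MulAut.conj (g : H)).toMonoidHom)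 ⊓ Subgroup.centralizer ((((Qb : Subgroup H).map (MulAut.conj (g : H)).toMonoidHom) : Subgroup H) : Set H)) = ⊥) ∧ Subgroup.normalizer ((Q : Subgroup H) : Set H) = Subgroup.normalizer ((Qb : Subgroup H) : Set H) ∧ Cfsg.IsLarge Qb := by
  subst hQb
  set N := Subgroup.normalizer (Q : Set H)
  set Qb := Cfsg.largeBullet p Q
  have hQQb : Q ≤ Qb := CfsgLib.LocalEven.SylowIn.le_pCoreOf Subgroup.le_normalizer le_rfl hQp
  have hQbp : IsPGroup p Qb := isPGroup_pCoreOf N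
  have hn1 : Subgroup.normalizer (Qb : Set H) ≤ N := normalizer_le_of_large hL hQ1 hQbp hQQb
  have hn2 : N ≤ Subgroup.normalizer (Qb : Set H) := normalizer_pCoreOf N
  have hLb : Cfsg.IsLarge Qb := ⟨((Subgroup.centralizer_le hQQb).trans hL.1).trans hQQb,
    fun U hU hne => (hL.2 U (hU.trans (Subgroup.centralizer_le hQQb)) hne).trans hn2⟩
  refine ⟨fun g hg => ?_, le_antisymm hn2 hn1, hLb⟩
  have h1 := centralizer_inf_eq_bot hQp hL hg
  have h2 := centralizer_inf_eq_bot hQbp hLb (fun h => hg (hn1 h))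
  exact ⟨h1, h2, eq_bot_iff.2 ((inf_le_inf inf_le_right inf_le_right).trans h1.le),
    eq_bot_iff.2 ((inf_le_inf inf_le_right inf_le_right).trans h2.le)⟩

end Cfsg.Agent.S2844
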