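import Cfsg.Statements.S2845
import Cfsg.Agent.Lib.LocalEven.Large

set_option autoImplicit false
open Cfsg CfsgLib.LocalEven.SylowIn CfsgLib.LocalEven.PReduced CfsgLib.LocalEven.WeakClosure CfsgLib.LocalEven.Large
open scoped commutatorElement

namespace Cfsg.Agent.S2845

/-- Let Q be a nontrivial large p-subgroup of the finite group H. Then for every subgroup L ≥ Q with O_p(L) ≠ 1, C_H(O_p(L)) is a p-group and L has characteristic p, and either the weak closure L° of Q in L equals Q or C_H(L°) = 1; for every subgroup R of H containing a Sylow p-subgroup of H with O_p(R) ≠ 1, C_H(O_p(R)) ≤ O_p(R); and H has parabolic characteristic p. -/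
theorem result {H : Type*} [Group H] [Finite H] {p : ℕ} [Fact p.Prime] (Q : Subgroup H) (hQp : IsPGroup p ↥Q) (hQ1 : Q ≠ ⊥) (hL : Cfsg.IsLarge Q) : (∀ L : Subgroup H, Q ≤ L → Cfsg.pCore p ↥L ≠ ⊥ → IsPGroup p ↥(Subgroup.centralizer (((Cfsg.pCoreOf p L) : Subgroup H) : Set H)) ∧ Subgroup.centralizer (Cfsg.pCore p ↥L : Set ↥L) ≤ Cfsg.pCore p ↥L ∧ (Cfsg.weakClosure Q L = Q ∨ Subgroup.centralizer (((Cfsg.weakClosure Q L) : Subgroup H) : Set H) = ⊥)) ∧ (∀ R : Subgroup H, Cfsg.IsParabolic p R → Cfsg.pCore p ↥R ≠ ⊥ → Subgroup.centralizer (((Cfsg.pCoreOf p R) : Subgroup H) : Set H) ≤ (Cfsg.pCoreOf p R)) ∧ Cfsg.IsOfParabolicCharacteristic p H := by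
  have hwc := isWeaklyClosedSubgroup_of_large hQp hQ1 hL
  have hpar : ∀ R : Subgroup H, Cfsg.IsParabolic p R → Cfsg.pCore p R ≠ ⊥ →
      Subgroup.centralizer (Cfsg.pCoreOf p R : Set H) ≤ Cfsg.pCoreOf p R := by
    intro R ⟨S, hSR⟩ hR
    obtain ⟨T, hQT⟩ := hQp.exists_le_sylow
    obtain ⟨g, -, hg⟩ := (isSylowIn_of_sylow T (L := ⊤) le_top).conjugate (isSylowIn_of_sylow S (L := ⊤) le_top)
    have hne : Q.map (MulAut.conj g).toMonoidHom ≠ ⊥ := by
      rwa [ne_eq, Subgroup.map_eq_bot_iff_of_injective _ (MulAut.conj g).injective]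
    have hQR : Q.map (MulAut.conj g).toMonoidHom ≤ R :=
      ((Subgroup.map_mono hQT).trans hg.ge).trans hSR
    obtain ⟨h1, h2⟩ := centralizer_pCoreOf_of_large (hQp.map _) hne (isLarge_map hL g) hQR (pCore_ne_bot_iff.1 hR)
    have hSn : (S : Subgroup H) ≤ Subgroup.normalizer (Subgroup.centralizer (Cfsg.pCoreOf p R : Set H) : Set H) :=
      hSR.trans (normalizer_centralizer (normalizer_pCoreOf R))
    have h3 : Subgroup.centralizer (Cfsg.pCoreOf p R : Set H) ≤ (S : Subgroup H) :=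
      le_sup_right.trans (S.3 (isPGroup_sup S.2 h1 hSn) le_sup_left).le
    exact (le_inf (h3.trans hSR) le_rfl).trans h2
  refine ⟨fun L hQL hO => ?_, hpar, fun R hRp hR1 hP => ?_⟩
  · obtain ⟨h1, h2⟩ := centralizer_pCoreOf_of_large hQp hQ1 hL hQL (pCore_ne_bot_iff.1 hO)
    refine ⟨h1, (charP_iff L).2 h2, ?_⟩
    by_cases hall : ∀ g : H, Q.map (MulAut.conj g).toMonoidHom ≤ L → Q.map (MulAut.conj g).toMonoidHom = Q
    · left
      refine le_antisymm (iSup_le fun g => (hall g g.2).le) ?_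
      exact (map_conj_one Q).ge.trans (le_iSup (fun g : {g : H // Q.map (MulAut.conj g).toMonoidHom ≤ L} =>
        Q.map (MulAut.conj (g : H)).toMonoidHom) ⟨1, (map_conj_one Q).le.trans hQL⟩)
    · right
      simp only [not_forall] at hall
      obtain ⟨g, hg, hne⟩ := hall
      rw [eq_bot_iff, ← centralizer_inf_eq_bot hQp hL (fun h => hne (map_conj_eq_iff.2 h))]
      refine le_inf (Subgroup.centralizer_le ?_) (Subgroup.centralizer_le ?_)
      · exact (map_conj_one Q).ge.trans (le_iSup (fun g : {g : H // Q.map (MulAut.conj g).toMonoidHom ≤ L} =>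
          Q.map (MulAut.conj (g : H)).toMonoidHom) ⟨1, (map_conj_one Q).le.trans hQL⟩)
      · exact le_iSup (fun g : {g : H // Q.map (MulAut.conj g).toMonoidHom ≤ L} =>
          Q.map (MulAut.conj (g : H)).toMonoidHom) ⟨g, hg⟩
  · set N := Subgroup.normalizer (R : Set H)
    have hle : R ≤ Cfsg.pCoreOf p N :=
      CfsgLib.LocalEven.SylowIn.le_pCoreOf Subgroup.le_normalizer le_rfl hRp
    exact (charP_iff N).2 (inf_le_right.trans (hpar N hP (pCore_ne_bot_iff.2 fun h => hR1 (le_bot_iff.1 (h ▸ hle)))))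

end Cfsg.Agent.S2845
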