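import Cfsg.Statements.S2846
import Cfsg.Agent.Lib.LocalEven.Parabolic
import Cfsg.Agent.S2843
import Cfsg.Agent.S2845

set_option autoImplicit false
open Cfsg CfsgLib.LocalEven.SylowIn CfsgLib.LocalEven.PReduced CfsgLib.LocalEven.WeakClosure CfsgLib.LocalEven.Parabolic
open scoped commutatorElement

namespace Cfsg.Agent.S2846

/-- Let Q be a nontrivial large p-subgroup of the finite group H, S a Sylow p-subgroup containing Q, and L a subgroup containing S with O_p(L) ≠ 1 and C_H(O_p(L)) ≤ O_p(L). Then there are a subgroup M containing S having the basic property (M ∈ 𝔐_H, writing Y_X for the largest p-reduced normal subgroup of X and 𝓛_H for the set of subgroups X with O_p(X) ≠ 1 and C_H(O_p(X)) ≤ O_p(X): M ∈ 𝓛_H, M·C_H(Y_M) is the only maximal member of 𝓛_H containing M and its largest p-reduced normal subgroup is again Y_M, C_M(Y_M) is p-closed, and the image of C_M(Y_M) in M/O_p(M) lies in the Frattini subgroup of M/O_p(M)) and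 a subgroup L* with S ≤ L* ≤ M, O_p(L*) ≠ 1, C_H(O_p(L*)) ≤ O_p(L*), such that L·C_H(Y_L) = L*·C_H(Y_L), the weak closures of Q in L and in L* agree and lie in that of M, and Y_L = Y_{L*} ≤ Y_M. If moreover Q is not normal in L, then Q is normal in neither L* nor M. -/
theorem result {H : Type*} [Group H] [Finite H] {p : ℕ} [Fact p.Prime] (Q : Subgroup H) (hQp : IsPGroup p ↥Q) (hQ1 : Q ≠ ⊥) (hLg : Cfsg.IsLarge Q) (S : Sylow p H) (hQS : Q ≤ (S : Subgroup H)) (L : Subgroup H) (hSL : (S : Subgroup H) ≤ L) (hL : L ∈ Cfsg.charPSubgroups p H) : ∃ M Ls : Subgroup H, (S : Subgroup H) ≤ M ∧ Cfsg.IsInFrakM p M ∧ (S : Subgroup H) ≤ Ls ∧ Ls ≤ M ∧ Ls ∈ Cfsg.charPSubgroups p H ∧ L ⊔ Subgroup.centralizer (((Cfsg.largestPReducedOf p L) : Subgroup H) : Set H) = Ls ⊔ Subgroup.centralizer (((Cfsg.largestPReducedOf p L) : Subgroup H) : Set H) ∧ Cfsg.weakClosure Q L = Cfsg.weakClosure Q Ls ∧ Cfsg.weakClosure Q Ls ≤ Cfsg.weakClosure Q M ∧ (Cfsg.largestPReducedOf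 p L) = (Cfsg.largestPReducedOf p Ls) ∧ (Cfsg.largestPReducedOf p Ls) ≤ (Cfsg.largestPReducedOf p M) ∧ (¬ L ≤ Subgroup.normalizer ((Q : Subgroup H) : Set H) → ¬ Ls ≤ Subgroup.normalizer ((Q : Subgroup H) : Set H) ∧ ¬ M ≤ Subgroup.normalizer ((Q : Subgroup H) : Set H)) := by
  have hH : Cfsg.IsOfParabolicCharacteristic p H := (Cfsg.Agent.S2845.result Q hQp hQ1 hLg).2.2
  obtain ⟨M, Ls, hSM, hM, hSLs, hLsM, hLsc, hY, hYM, hC⟩ := exists_frakM hH S hSL hL
  have hY1 : Cfsg.largestPReducedOf p L ≠ ⊥ := largest_ne_bot hH S hSL ((mem_charP_iff hH S hSL).1 hL)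
  have hYp : IsPGroup p (Cfsg.largestPReducedOf p L) := elab_isPGroup (isReducedIn_largest L).elab
  have hLn : L ≤ Subgroup.normalizer (Cfsg.largestPReducedOf p L : Set H) := (isReducedIn_largest L).normalizer
  have hLsn : Ls ≤ Subgroup.normalizer (Cfsg.largestPReducedOf p L : Set H) :=
    hY ▸ (isReducedIn_largest Ls).normalizer
  have hw : Cfsg.weakClosure Q L = Cfsg.weakClosure Q Ls := by
    rw [(Cfsg.Agent.S2843.result Q hQp hQ1 hLg L (hQS.trans hSL) _ hYp hY1 hLn).1,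
      (Cfsg.Agent.S2843.result Q hQp hQ1 hLg Ls (hQS.trans hSLs) _ hYp hY1 hLsn).1, hC]
  refine ⟨M, Ls, hSM, hM, hSLs, hLsM, hLsc, hC, hw, iSup_le fun g => ?_, hY, hY ▸ hYM, fun hn => ?_⟩
  · exact le_iSup (fun g : {g : H // Q.map (MulAut.conj g).toMonoidHom ≤ M} =>
      Q.map (MulAut.conj (g : H)).toMonoidHom) ⟨g, g.2.trans hLsM⟩
  have hwc := isWeaklyClosedSubgroup_of_large hQp hQ1 hLg
  suffices h : ¬ Ls ≤ Subgroup.normalizer (Q : Set H) from ⟨h, fun h' => h (hLsM.trans h')⟩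
  intro hLsQ
  apply hn
  have hW : Cfsg.weakClosure Q Ls = Q := by
    refine le_antisymm (iSup_le fun g => ?_) ?_
    · exact (eq_of_le_pgroup' hwc (isPGroup_sup (hQp.map _) hQp (g.2.trans hLsQ)) le_sup_right le_sup_left).le
    · exact (map_conj_one Q).ge.trans (le_iSup (fun g : {g : H // Q.map (MulAut.conj g).toMonoidHom ≤ Ls} =>
        Q.map (MulAut.conj (g : H)).toMonoidHom) ⟨1, (map_conj_one Q).le.trans (hQS.trans hSLs)⟩)
  intro l hl
  rw [← map_conj_eq_iff]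
  refine Subgroup.eq_of_le_of_card_ge ?_ (Nat.card_congr (Q.equivMapOfInjective _ (MulAut.conj l).injective).toEquiv).le
  refine le_trans ?_ (hw.trans hW).le
  exact le_iSup (fun g : {g : H // Q.map (MulAut.conj g).toMonoidHom ≤ L} =>
    Q.map (MulAut.conj (g : H)).toMonoidHom)
    ⟨l, (Subgroup.map_mono (hQS.trans hSL)).trans (map_conj_eq_iff.2 (Subgroup.le_normalizer hl)).le⟩

end Cfsg.Agent.S2846
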