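import Cfsg.Statements.S2848
import Cfsg.Agent.Lib.LocalEven.WeakClosure

set_option autoImplicit false
open Cfsg CfsgLib.LocalEven.SylowIn CfsgLib.LocalEven.PReduced CfsgLib.LocalEven.WeakClosure
open scoped commutatorElement

namespace Cfsg.Agent.S2848

/-- Standing hypotheses: G a finite group, S a Sylow p-subgroup, Q a nontrivial large p-subgroup of G contained in S (C_G(Q) ≤ Q and N_G(U) ≤ N_G(Q) for all nontrivial U ≤ C_G(Q)), and M a subgroup containing S with the basic property (M ∈ 𝔐_G(S)); Y_M denotes the largest p-reduced normal subgroup of M and M† = M·C_G(Y_M). Then O_p(M) is a weakly closed subgroup of M† (for p): it is the only M†-conjugate of itself inside some Sylow p-subgroup of M† containing it. -/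
theorem result {G : Type*} [Group G] [Finite G] {p : ℕ} [Fact p.Prime] (S : Sylow p G) (Q : Subgroup G) (hQp : IsPGroup p ↥Q) (hQ1 : Q ≠ ⊥) (hQS : Q ≤ (S : Subgroup G)) (hQ : Cfsg.IsLarge Q) (M : Subgroup G) (hSM : (S : Subgroup G) ≤ M) (hM : Cfsg.IsInFrakM p M) : Cfsg.IsWeaklyClosedSubgroup p (((Cfsg.pCoreOf p M)).subgroupOf (M ⊔ Subgroup.centralizer (((Cfsg.largestPReducedOf p M) : Subgroup G) : Set G))) := by
  obtain ⟨-, -, -, -, hclosed, -⟩ := hM
  set Y := Cfsg.largestPReducedOf p M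
  set C := Subgroup.centralizer (Y : Set G)
  have hY : IsReducedIn p Y M := isReducedIn_largest M
  have hSY : (S : Subgroup G) ≤ Subgroup.normalizer (Y : Set G) := hSM.trans hY.normalizer
  have hT0 : IsSylowIn p ((S : Subgroup G) ⊓ C) C := IsSylowIn.inf_centralizer S hSY
  have hT0' : IsSylowIn p ((S : Subgroup G) ⊓ C) (M ⊓ C) :=
    IsSylowIn.mono hT0 (inf_le_inf_right _ hSM) inf_le_right
  have hnT : M ⊓ C ≤ Subgroup.normalizer (((S : Subgroup G) ⊓ C : Subgroup G) : Set G) :=
    (Subgroup.normal_subgroupOf_iff_le_normalizer hT0'.1).1 (hclosed hT0'.toSylow)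
  have hMn : M ≤ Subgroup.normalizer (((S : Subgroup G) ⊓ C : Subgroup G) : Set G) := by
    intro g hg
    obtain ⟨c, hc, n, hn, rfl⟩ := frattini_centralizer (isSylowIn_of_sylow S hSM) hY.normalizer hg
    exact mul_mem (hnT hc) hn.2
  have hO : Cfsg.pCoreOf p M = (S : Subgroup G) ⊓ C := le_antisymm
    (le_inf (pCoreOf_le_sylowIn (isSylowIn_of_sylow S hSM)) hY.pCoreOf_le_centralizer)
    (CfsgLib.LocalEven.SylowIn.le_pCoreOf (inf_le_left.trans hSM) hMn (S.2.to_le inf_le_left))
  set Md := M ⊔ C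
  have hMd : (S : Subgroup G) ≤ Md := hSM.trans le_sup_left
  refine ⟨(isSylowIn_of_sylow S hMd).toSylow, Subgroup.comap_mono (hO.le.trans inf_le_left), fun g hg => ?_⟩
  have hgC : (g : G) ∈ Subgroup.normalizer (C : Set G) :=
    (sup_le (normalizer_centralizer hY.normalizer) Subgroup.le_normalizer) g.2
  have hOle : Cfsg.pCoreOf p M ≤ Md := (pCoreOf_le M).trans le_sup_left
  have key : (Cfsg.pCoreOf p M).map (MulAut.conj (g : G)).toMonoidHom = Cfsg.pCoreOf p M := by
    refine Subgroup.eq_of_le_of_card_ge ?_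
      (Nat.card_congr ((Cfsg.pCoreOf p M).equivMapOfInjective _ (MulAut.conj (g : G)).injective).toEquiv).le
    rintro _ ⟨x, hx, rfl⟩
    rw [hO]
    refine ⟨hg ⟨⟨x, hOle hx⟩, hx, rfl⟩, ?_⟩
    exact (Subgroup.mem_normalizer_iff.1 hgC x).1 (hO.le hx).2
  refine SetLike.ext fun x => ?_
  rw [mem_map_conj, Subgroup.mem_subgroupOf, Subgroup.mem_subgroupOf]
  conv_rhs => rw [← key, mem_map_conj]
  rfl

end Cfsg.Agent.S2848
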