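import Cfsg.Statements.S2849
import Cfsg.Agent.Lib.LocalEven.WeakClosure

set_option autoImplicit false
open Cfsg CfsgLib.LocalEven.SylowIn CfsgLib.LocalEven.PReduced CfsgLib.LocalEven.WeakClosure
open scoped commutatorElement

namespace Cfsg.Agent.S2849

/-- Standing hypotheses: G a finite group, S a Sylow p-subgroup, Q a nontrivial large p-subgroup of G contained in S (C_G(Q) ≤ Q and N_G(U) ≤ N_G(Q) for all nontrivial U ≤ C_G(Q)), and M a subgroup containing S with the basic property (M ∈ 𝔐_G(S)); Y_M denotes the largest p-reduced normal subgroup of M and M† = M·C_G(Y_M). Suppose Y_M is asymmetric in G. Then for every subgroup R with Y_M ≤ R ≤ M†, the normal closure of Y_M in N_G(R) is elementary abelian. -/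
theorem result {G : Type*} [Group G] [Finite G] {p : ℕ} [Fact p.Prime] (S : Sylow p G) (Q : Subgroup G) (hQp : IsPGroup p ↥Q) (hQ1 : Q ≠ ⊥) (hQS : Q ≤ (S : Subgroup G)) (hQ : Cfsg.IsLarge Q) (M : Subgroup G) (hSM : (S : Subgroup G) ≤ M) (hM : Cfsg.IsInFrakM p M) (hasym : ¬ Cfsg.IsSymmetricIn (Cfsg.largestPReducedOf p M)) (R : Subgroup G) (hYR : (Cfsg.largestPReducedOf p M) ≤ R) (hRM : R ≤ (M ⊔ Subgroup.centralizer (((Cfsg.largestPReducedOf p M) : Subgroup G) : Set G))) : Cfsg.IsElementaryAbelian p ((Subgroup.normalClosure ((((Cfsg.largestPReducedOf p M)).subgroupOf (Subgroup.normalizer ((R : Subgroup G) : Set G)) : Subgroup ↥(Subgroup.normalizer ((R : Subgroup G) : Set G))) : Set ↥(Subgroup.normalizer ((R : Subgroup G) : Set G)))).map (Subgroup.normalizer ((R : Subgroup G) : Set G)).subtype) := by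
  set Y := Cfsg.largestPReducedOf p M
  have hY : IsReducedIn p Y M := isReducedIn_largest M
  set N := Subgroup.normalizer (R : Set G)
  have hYN : Y ≤ N := hYR.trans Subgroup.le_normalizer
  have hRY : R ≤ Subgroup.normalizer (Y : Set G) :=
    hRM.trans (sup_le hY.normalizer (Subgroup.centralizer_le_normalizer _))
  have key : ∀ a ∈ N, ∀ u ∈ Y, ∀ v ∈ Y, Commute u (a * v * a⁻¹) := by
    intro a ha u hu v hv
    have hRa := map_conj_eq_iff.2 ha
    have hbot : ⁅Y, Y.map (MulAut.conj a).toMonoidHom⁆ = ⊥ := by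
      by_contra hne
      refine hasym ⟨a, hne, commutator_le_inf (((Subgroup.map_mono hYR).trans hRa.le).trans hRY) ?_⟩
      exact (hYR.trans hRa.ge).trans (le_normalizer_map hRY)
    exact (Subgroup.mem_centralizer_iff.1 ((Subgroup.commutator_eq_bot_iff_le_centralizer.1 hbot) hu) _ ⟨v, hv, rfl⟩).symm
  set E := Subgroup.closure {x : G | ∃ a ∈ N, ∃ v ∈ Y, x = a * v * a⁻¹}
  have hE : E ≤ Subgroup.centralizer (E : Set G) := by
    rw [Subgroup.closure_le, Subgroup.centralizer_closure]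
    rintro _ ⟨a, ha, u, hu, rfl⟩
    refine Subgroup.mem_centralizer_iff.2 ?_
    rintro _ ⟨b, hb, v, hv, rfl⟩
    have h := key (a⁻¹ * b) (mul_mem (inv_mem ha) hb) u hu v hv
    calc b * v * b⁻¹ * (a * u * a⁻¹) = a * ((a⁻¹ * b) * v * (a⁻¹ * b)⁻¹ * u) * a⁻¹ := by group
      _ = a * (u * ((a⁻¹ * b) * v * (a⁻¹ * b)⁻¹)) * a⁻¹ := by rw [h.eq]
      _ = _ := by group
  refine elab_of_le (elab_omegaOne hE) ?_
  refine Subgroup.map_le_iff_le_comap.2 ?_
  rw [Subgroup.normalClosure, Subgroup.closure_le]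
  intro x hx
  obtain ⟨v, hv, hconj⟩ := Group.mem_conjugatesOfSet_iff.1 hx
  obtain ⟨c, hc⟩ := isConj_iff.1 hconj
  refine Subgroup.subset_closure ⟨Subgroup.subset_closure ⟨c, c.2, v, hv, ?_⟩, ?_⟩
  · rw [← hc]; simp
  · show (x : G) ^ p = 1
    rw [← hc]
    simp only [Subgroup.coe_mul, Subgroup.coe_inv]
    rw [conj_pow, show (v : G) ^ p = 1 from hY.elab.2 _ hv, mul_one, mul_inv_cancel]

end Cfsg.Agent.S2849
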