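import Cfsg.Statements.S2850
import Cfsg.Agent.Lib.LocalEven.Parabolic
import Cfsg.Agent.S2843
import Cfsg.Agent.S2845

set_option autoImplicit false
open Cfsg CfsgLib.LocalEven.SylowIn CfsgLib.LocalEven.PReduced CfsgLib.LocalEven.WeakClosure CfsgLib.LocalEven.Parabolic
open scoped commutatorElement

namespace Cfsg.Agent.S2850

/-- Standing hypotheses: G a finite group, S a Sylow p-subgroup, Q a nontrivial large p-subgroup of G contained in S (C_G(Q) ≤ Q and N_G(U) ≤ N_G(Q) for all nontrivial U ≤ C_G(Q)), and M a subgroup containing S with the basic property (M ∈ 𝔐_G(S)); Y_M denotes the largest p-reduced normal subgroup of M and M† = M·C_G(Y_M). Suppose Y_M is asymmetric in G. Then N_G(L) ≤ N_G(O_p(M)) ≤ M† for every p-subgroup L containing O_p(M); O_p(M) is a weakly closed subgroup of G; for every subgroup L containing O_p(M), L ∩ M† contains a Sylow p-subgroup of L; and two elements of Y_M conjugate in G are conjugate in M. -/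
theorem result {G : Type*} [Group G] [Finite G] {p : ℕ} [Fact p.Prime] (S : Sylow p G) (Q : Subgroup G) (hQp : IsPGroup p ↥Q) (hQ1 : Q ≠ ⊥) (hQS : Q ≤ (S : Subgroup G)) (hQ : Cfsg.IsLarge Q) (M : Subgroup G) (hSM : (S : Subgroup G) ≤ M) (hM : Cfsg.IsInFrakM p M) (hasym : ¬ Cfsg.IsSymmetricIn (Cfsg.largestPReducedOf p M)) : (∀ L : Subgroup G, IsPGroup p ↥L → (Cfsg.pCoreOf p M) ≤ L → Subgroup.normalizer ((L : Subgroup G) : Set G) ≤ Subgroup.normalizer (((Cfsg.pCoreOf p M) : Subgroup G) : Set G) ∧ Subgroup.normalizer (((Cfsg.pCoreOf p M) : Subgroup G) : Set G) ≤ (M ⊔ Subgroup.centralizer (((Cfsg.largestPReducedOf p M) : Subgroup G) : Set G))) ∧ Cfsg.IsWeaklyClosedSubgroup p (Cfsg.pCoreOf p M) ∧ (∀ L : Subgroup G, (Cfsg.pCoreOf p M) ≤ L → Cfsg.IsParabolic p ((L ⊓ (M ⊔ Subgroup.centralizer (((Cfsg.largestPReducedOf p M) : Subgroup G) : Set G))).subgroupOf L)) ∧ (∀ x ∈ (Cfsg.largestPReducedOf p M), ∀ g : G, g * x * g⁻¹ ∈ (Cfsg.largestPReducedOf p M)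 → ∃ m ∈ M, m * x * m⁻¹ = g * x * g⁻¹) := by
  have hG : Cfsg.IsOfParabolicCharacteristic p G := (Cfsg.Agent.S2845.result Q hQp hQ1 hQ).2.2
  set Y := Cfsg.largestPReducedOf p M
  set T₀ := Cfsg.pCoreOf p M
  set Md := M ⊔ Subgroup.centralizer (Y : Set G)
  have hY : IsReducedIn p Y M := isReducedIn_largest M
  have hT : T₀ = (S : Subgroup G) ⊓ Subgroup.centralizer (Y : Set G) := frakM_pCoreOf S hSM hM
  have hT₀ : IsSylowIn p T₀ (Subgroup.centralizer (Y : Set G)) := by
    rw [hT]; exact IsSylowIn.inf_centralizer S (hSM.trans hY.normalizer)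
  have hT₀p : IsPGroup p T₀ := isPGroup_pCoreOf M
  have hT₀Y : T₀ ≤ Subgroup.normalizer (Y : Set G) := (pCoreOf_le M).trans hY.normalizer
  have hMdY : Md ≤ Subgroup.normalizer (Y : Set G) := sup_le hY.normalizer (Subgroup.centralizer_le_normalizer _)
  have hNT : Subgroup.normalizer (T₀ : Set G) ≤ Md := normalizer_le_dagger hG S hSM hM hasym hT₀p le_rfl hT₀Y
  have small : ∀ L : Subgroup G, IsPGroup p L → T₀ ≤ L → L ≤ Subgroup.normalizer (Y : Set G) →
      Subgroup.normalizer (L : Set G) ≤ Subgroup.normalizer (T₀ : Set G) := by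
    intro L hL hTL hLY
    refine le_normalizer_of_map_conj fun g hg => ?_
    have hgY := hMdY (normalizer_le_dagger hG S hSM hM hasym hL hTL hLY hg)
    have hLC : L ⊓ Subgroup.centralizer (Y : Set G) = T₀ :=
      hT₀.2.2 _ inf_le_right (hL.to_le inf_le_left) (le_inf hTL hT₀.1)
    rw [← hLC, Subgroup.map_inf _ _ _ (MulAut.conj g).injective, map_conj_eq_iff.2 hg, ← centralizer_map_conj,
      map_conj_eq_iff.2 hgY]
  have main : ∀ L : Subgroup G, IsPGroup p L → T₀ ≤ L →
      Subgroup.normalizer (L : Set G) ≤ Subgroup.normalizer (T₀ : Set G) := by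
    intro L hL hTL
    refine small L hL hTL ?_
    set L₀ := L ⊓ Subgroup.normalizer (Y : Set G)
    by_contra hle
    have hlt : L₀.subgroupOf L < ⊤ := lt_top_iff_ne_top.2 fun h =>
      hle fun x hx => ((SetLike.ext_iff.1 h ⟨x, hx⟩).2 (Subgroup.mem_top _) : x ∈ L₀).2
    haveI := hL.isNilpotent
    obtain ⟨u, hu, hu'⟩ := SetLike.exists_of_lt (Group.normalizerCondition_of_isNilpotent _ hlt)
    refine hu' (?_ : (u : G) ∈ L₀)
    have huN : (u : G) ∈ Subgroup.normalizer (L₀ : Set G) := by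
      refine map_conj_eq_iff.1 (Subgroup.eq_of_le_of_card_ge ?_
        (Nat.card_congr (L₀.equivMapOfInjective _ (MulAut.conj (u : G)).injective).toEquiv).le)
      rintro _ ⟨x, hx, rfl⟩
      exact (Subgroup.mem_normalizer_iff.1 hu ⟨x, hx.1⟩).1 hx
    exact ⟨u.2, hMdY (hNT (small L₀ (hL.to_le inf_le_left) (le_inf hTL hT₀Y) inf_le_right huN))⟩
  have hwc : Cfsg.IsWeaklyClosedSubgroup p T₀ := of_normalizer_le hT₀p main
  refine ⟨fun L hL hTL => ⟨main L hL hTL, hNT⟩, hwc, fun L hTL => ?_, fun x hx g hy => ?_⟩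
  · obtain ⟨P, hP, hTP⟩ := exists_isSylowIn (p := p) L hTL hT₀p
    exact ⟨hP.toSylow, fun y hy => ⟨y.2, hNT (main P hP.2.1 hTP (Subgroup.le_normalizer hy))⟩⟩
  · set y := g * x * g⁻¹
    have hC : ∀ z ∈ Y, T₀ ≤ Subgroup.centralizer ({z} : Set G) := fun z hz =>
      hY.pCoreOf_le_centralizer.trans (Subgroup.centralizer_le (Set.singleton_subset_iff.2 hz))
    have hg : T₀.map (MulAut.conj g).toMonoidHom ≤ Subgroup.centralizer ({y} : Set G) := by
      have := Subgroup.map_mono (f := (MulAut.conj g).toMonoidHom) (hC x hx)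
      refine this.trans ?_
      rintro _ ⟨c, hc, rfl⟩
      refine Subgroup.mem_centralizer_iff.2 fun w hw => ?_
      rw [Set.mem_singleton_iff.1 hw]
      show g * x * g⁻¹ * (g * c * g⁻¹) = g * c * g⁻¹ * (g * x * g⁻¹)
      rw [conj_mul, conj_mul, Subgroup.mem_centralizer_iff.1 hc x rfl]
    obtain ⟨c, hc, he⟩ := exists_conj_in hwc (hC y hy) hg
    have hn : c⁻¹ * g ∈ Md := hNT (by
      rw [← map_conj_eq_iff, ← map_conj_conj, he, map_conj_conj, inv_mul_cancel, map_conj_one])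
    have hMn : M ≤ Subgroup.normalizer (Subgroup.centralizer (Y : Set G) : Set G) := normalizer_centralizer hY.normalizer
    rw [← SetLike.mem_coe, Subgroup.coe_mul_of_left_le_normalizer_right _ _ hMn, Set.mem_mul] at hn
    obtain ⟨m, hm, d, hd, he2⟩ := hn
    refine ⟨m, hm, ?_⟩
    have h1 : d * x * d⁻¹ = x := by
      rw [← Subgroup.mem_centralizer_iff.1 hd x hx, mul_inv_cancel_right]
    have h2 : c⁻¹ * y = y * c⁻¹ := (Subgroup.mem_centralizer_iff.1 (inv_mem hc) y rfl).symm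
    calc m * x * m⁻¹ = m * (d * x * d⁻¹) * m⁻¹ := by rw [h1]
      _ = (m * d) * x * (m * d)⁻¹ := by group
      _ = c⁻¹ * y * c := by rw [he2]; simp [y, mul_assoc]
      _ = y := by rw [h2, inv_mul_cancel_right]

end Cfsg.Agent.S2850
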