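import Cfsg.Statements.S2851
import Cfsg.Agent.S2850
import Cfsg.Agent.Lib.Components.GenFitting
import Cfsg.Agent.Lib.LocalEven.Residual

set_option autoImplicit false
open Cfsg

namespace Cfsg.Agent.S2851

open CfsgLib.Fusion.Basic CfsgLib.LocalEven.SylowIn CfsgLib.LocalEven.PReduced CfsgLib.LocalEven.Parabolic

/-- Standing hypotheses: G a finite group, S a Sylow p-subgroup, Q a nontrivial large p-subgroup of G contained in S, M a subgroup containing S with the basic property (M ∈ 𝔐_G(S)); Y_M the largest p-reduced normal subgroup of M and M† = M·C_G(Y_M). Let F be the preimage in M† of the generalized Fitting subgroup of M†/C_{M†}(Y_M). If Y_M is asymmetric in G and H is a subgroup of characteristic p containing F, then Y_M ≤ Y_H. -/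
theorem result {G : Type*} [Group G] [Finite G] {p : ℕ} [Fact p.Prime] (S : Sylow p G) (Q : Subgroup G) (hQp : IsPGroup p ↥Q) (hQ1 : Q ≠ ⊥) (hQS : Q ≤ (S : Subgroup G)) (hQ : Cfsg.IsLarge Q) (M : Subgroup G) (hSM : (S : Subgroup G) ≤ M) (hM : Cfsg.IsInFrakM p M) (hasym : ¬ Cfsg.IsSymmetricIn (Cfsg.largestPReducedOf p M)) [hn : ((Subgroup.centralizer (((Cfsg.largestPReducedOf p M) : Subgroup G) : Set G)).subgroupOf (M ⊔ Subgroup.centralizer (((Cfsg.largestPReducedOf p M) : Subgroup G) : Set G))).Normal] (F : Subgroup G) (hF : F = ((Cfsg.generalizedFittingSubgroup (↥(M ⊔ Subgroup.centralizer (((Cfsg.largestPReducedOf p M) : Subgroup G) : Set G)) ⧸ (Subgroup.centralizer (((Cfsg.largestPReducedOf p M) : Subgroup G) : Set G)).subgroupOf (M ⊔ Subgroup.centralizer (((Cfsg.largestPReducedOf p M) : Subgroup G) : Set G)))).comap (QuotientGroup.mk' ((Subgroup.centralizer (((Cfsg.largestPReducedOf p M) : Subgroup G) : Set G)).subgroupOf (M ⊔ Subgroup.centralizer (((Cfsg.largestPReducedOf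 p M) : Subgroup G) : Set G))))).map ((M ⊔ Subgroup.centralizer (((Cfsg.largestPReducedOf p M) : Subgroup G) : Set G))).subtype) (H : Subgroup G) (hFH : F ≤ H) (hH : Subgroup.centralizer (Cfsg.pCore p ↥H : Set ↥H) ≤ Cfsg.pCore p ↥H) : (Cfsg.largestPReducedOf p M) ≤ Cfsg.largestPReducedOf p H := by
  have h50 := Cfsg.Agent.S2850.result S Q hQp hQ1 hQS hQ M hSM hM hasym
  obtain ⟨hN, -, -, -⟩ := h50
  set Y := Cfsg.largestPReducedOf p M
  set Md := M ⊔ Subgroup.centralizer (Y : Set G)
  set C := (Subgroup.centralizer (Y : Set G)).subgroupOf Md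
  have hY : IsReducedIn p Y M := isReducedIn_largest M
  have hMdY : Md ≤ Subgroup.normalizer (Y : Set G) := sup_le hY.normalizer (Subgroup.centralizer_le_normalizer _)
  have hYMd : Y ≤ Md := hY.le.trans le_sup_left
  have hred : IsReducedIn p Y Md := by
    rw [show Y = Cfsg.largestPReducedOf p Md from hM.2.2.2.1]; exact isReducedIn_largest Md
  have hcore : Cfsg.pCore p (↥Md ⧸ C) = ⊥ := by
    obtain ⟨-, -, hC', hc⟩ := (isPReducedNormal_subgroupOf hYMd).2 hred
    haveI := hC'
    have e : Subgroup.centralizer (Y.subgroupOf Md : Set Md) = C := by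
      ext x
      simp only [C, Subgroup.mem_subgroupOf, Subgroup.mem_centralizer_iff]
      exact ⟨fun h y hy => congrArg Subtype.val (h ⟨y, hYMd hy⟩ hy), fun h y hy => Subtype.ext (h y hy)⟩
    rw [← CfsgLib.Solvable.Cores.map_pCore (QuotientGroup.quotientMulEquivOfEq e), hc, Subgroup.map_bot]
  set π := QuotientGroup.mk' C
  set Fb := Cfsg.generalizedFittingSubgroup (↥Md ⧸ C)
  have hFMd : F ≤ Md := hF ▸ Subgroup.map_subtype_le _
  have hmemF : ∀ x : Md, π x ∈ Fb → (x : G) ∈ F := fun x hx => hF ▸ ⟨x, hx, rfl⟩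
  have hCF : Subgroup.centralizer (Y : Set G) ≤ F := fun x hx => by
    refine hmemF ⟨x, Subgroup.mem_sup_right hx⟩ ?_
    rw [show π ⟨x, _⟩ = 1 from (QuotientGroup.eq_one_iff _).2 hx]
    exact one_mem _
  -- the key: subgroups normalized by `F` with `p'`-elements in `C(Y)` meet `M†` inside `C(Y)`
  have key : ∀ N : Subgroup G, F ≤ Subgroup.normalizer (N : Set G) →
      (∀ x ∈ N, (orderOf x).Coprime p → x ∈ Subgroup.centralizer (Y : Set G)) →
      N ⊓ Md ≤ Subgroup.centralizer (Y : Set G) := by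
    intro N hFN hx
    set Nb := (N.subgroupOf Md).map π
    have hFNb : Fb ≤ Subgroup.normalizer (Nb : Set (↥Md ⧸ C)) := by
      intro f hf
      obtain ⟨f', rfl⟩ := QuotientGroup.mk'_surjective C f
      have h1 : f' ∈ Subgroup.normalizer ((N.subgroupOf Md : Subgroup Md) : Set Md) :=
        Subgroup.mem_normalizer_iff.2 fun a => Subgroup.mem_normalizer_iff.1 (hFN (hmemF f' hf)) (a : G)
      exact Subgroup.le_normalizer_map π ⟨f', h1, rfl⟩
    have hNb : IsPGroup p Nb := by
      rintro ⟨_, y, hy, rfl⟩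
      obtain ⟨k, hk⟩ := exists_pow_coprime (p := p) (y : G)
      refine ⟨k, Subtype.ext ?_⟩
      show π y ^ p ^ k = 1
      rw [← map_pow]
      exact (QuotientGroup.eq_one_iff _).2 (hx _ (pow_mem hy (p ^ k)) hk)
    have hFn : Fb.Normal := inferInstance
    have hbot : Fb ⊓ Nb = ⊥ := by
      refine le_bot_iff.1 (hcore ▸ CfsgLib.LocalEven.Residual.le_pCore_of_isSubnormal ?_ (hNb.to_le inf_le_right))
      exact .step _ Fb inf_le_left hFn.isSubnormal
        ((Subgroup.normal_subgroupOf_iff_le_normalizer inf_le_left).2 (le_inf Subgroup.le_normalizer hFNb |>.trans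
          (CfsgLib.LocalEven.PReduced.normalizer_inf inf_le_left inf_le_right)))
    have hcent : Nb ≤ Subgroup.centralizer (Fb : Set (↥Md ⧸ C)) := by
      intro b hb
      refine Subgroup.mem_centralizer_iff.2 fun a ha => ?_
      have h1 : a * b * a⁻¹ * b⁻¹ ∈ Fb ⊓ Nb := by
        refine Subgroup.mem_inf.2 ⟨?_, mul_mem ((Subgroup.mem_normalizer_iff.1 (hFNb ha) b).1 hb) (inv_mem hb)⟩
        rw [mul_assoc, mul_assoc, ← mul_assoc b]
        exact mul_mem ha (hFn.conj_mem _ (inv_mem ha) b)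
      rw [hbot, Subgroup.mem_bot] at h1
      calc a * b = (a * b * a⁻¹ * b⁻¹) * b * a := by group
        _ = b * a := by rw [h1, one_mul]
    have h2 : Nb ≤ Fb ⊓ Nb := le_inf (hcent.trans CfsgLib.Components.centralizer_generalizedFitting_le) le_rfl
    rw [hbot] at h2
    intro x hx'
    have h3 : π ⟨x, hx'.2⟩ = 1 := Subgroup.mem_bot.1 (h2 ⟨⟨x, hx'.2⟩, hx'.1, rfl⟩)
    exact Subgroup.mem_subgroupOf.1 ((QuotientGroup.eq_one_iff (⟨x, hx'.2⟩ : Md)).1 h3)
  -- a Sylow subgroup of `H` inside `M†`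
  have hT₀H : Cfsg.pCoreOf p M ≤ H := hY.pCoreOf_le_centralizer.trans (hCF.trans hFH)
  obtain ⟨P, hP, hTP⟩ := exists_isSylowIn (p := p) H hT₀H (isPGroup_pCoreOf M)
  have hPMd : P ≤ Md := Subgroup.le_normalizer.trans ((hN P hP.2.1 hTP).1.trans (hN P hP.2.1 hTP).2)
  set D := Cfsg.pCoreOf p H
  have hDY : D ≤ Subgroup.centralizer (Y : Set G) := by
    have := key D (hFH.trans (normalizer_pCoreOf H)) fun x hx hc =>
      (eq_one_of_coprime_of_isPGroup (isPGroup_pCoreOf H) hx hc) ▸ one_mem _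
    exact le_trans (le_inf le_rfl ((pCoreOf_le_sylowIn hP).trans hPMd)) this
  have hYH : Y ≤ H := (elab_le_centralizer hY.elab).trans (hCF.trans hFH)
  have hYD : Y ≤ D := le_trans (le_inf hYH (Subgroup.le_centralizer_iff.1 hDY)) ((charP_iff H).1 hH)
  -- the normal closure
  set W := ⨆ h : H, Y.map (MulAut.conj (h : G)).toMonoidHom
  have hYW : Y ≤ W := le_trans (map_conj_one Y).ge (le_iSup (fun h : H => Y.map (MulAut.conj (h : G)).toMonoidHom) 1)
  have hconjD : ∀ h : H, Y.map (MulAut.conj (h : G)).toMonoidHom ≤ D ⊓ Subgroup.centralizer (D : Set G) := fun h =>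
    (Subgroup.map_mono (le_inf hYD (Subgroup.le_centralizer_iff.1 hDY))).trans
      (le_of_eq (map_conj_eq_iff.2 (normalizer_inf (normalizer_pCoreOf H) (normalizer_centralizer (normalizer_pCoreOf H)) h.2)))
  have hWn : H ≤ Subgroup.normalizer (W : Set G) := by
    intro g hg
    refine map_conj_eq_iff.1 (Subgroup.eq_of_le_of_card_ge ?_
      (Nat.card_congr (W.equivMapOfInjective _ (MulAut.conj g).injective).toEquiv).le)
    rw [Subgroup.map_iSup]
    refine iSup_le fun h => ?_
    rw [map_conj_conj]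
    exact le_iSup (fun h : H => Y.map (MulAut.conj (h : G)).toMonoidHom) (⟨g, hg⟩ * h)
  have hWel : Cfsg.IsElementaryAbelian p W := by
    refine elab_of_le (elab_omegaOne (Z := D ⊓ Subgroup.centralizer (D : Set G)) (inf_le_right.trans (Subgroup.centralizer_le inf_le_left))) (iSup_le fun h => ?_)
    rintro _ ⟨y, hy, rfl⟩
    refine Subgroup.subset_closure ⟨hconjD h ⟨y, hy, rfl⟩, ?_⟩
    rw [← map_pow, hY.elab.2 y hy, map_one]
  refine le_trans hYW (IsReducedIn.le_largest ⟨(iSup_le fun h => (hconjD h).trans (inf_le_left.trans (pCoreOf_le H))), hWn, hWel, fun N hNH hNn hx => ?_⟩)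
  have hCW : Subgroup.centralizer (W : Set G) ≤ Subgroup.centralizer (Y : Set G) := Subgroup.centralizer_le hYW
  have h1 : N ⊓ P ≤ Subgroup.centralizer (Y : Set G) :=
    (inf_le_inf_left N hPMd).trans (key N (hFH.trans hNn) fun x hx' hc => hCW (hx x hx' hc))
  have h2 : N ≤ Subgroup.centralizer (Y : Set G) :=
    le_of_coprime_of_sylow (inf_comm P N ▸ CfsgLib.LocalEven.PReduced.IsSylowIn.inf_normal hP hNH hNn) (fun x hx' hc => hCW (hx x hx' hc)) h1
  refine Subgroup.le_centralizer_iff.1 (iSup_le fun h => Subgroup.le_centralizer_iff.1 ?_)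
  rw [centralizer_map_conj]
  calc N = N.map (MulAut.conj (h : G)).toMonoidHom := (map_conj_eq_iff.2 (hNn h.2)).symm
    _ ≤ _ := Subgroup.map_mono h2

end Cfsg.Agent.S2851
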