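import Cfsg.Statements.S2852
import Cfsg.Agent.S2850
import Cfsg.Agent.Lib.Coprime.Action

set_option autoImplicit false
open Cfsg

namespace Cfsg.Agent.S2852

open CfsgLib.Fusion.Basic CfsgLib.LocalEven.SylowIn CfsgLib.LocalEven.PReduced CfsgLib.LocalEven.Parabolic
open scoped commutatorElement

/-- Standing hypotheses: G a finite group, S a Sylow p-subgroup, Q a nontrivial large p-subgroup of G contained in S, M a subgroup containing S with the basic property (M ∈ 𝔐_G(S)); Y_M the largest p-reduced normal subgroup of M. If Y_M is char-p-tall and asymmetric in G, then some subgroup H of G lies in ℌ_G(O_p(M)): H has characteristic p, O_p(M) ≤ H, Y_M ≰ O_p(H), and Y_M ≤ O_p(P) for every proper subgroup P of H containing O_p(M). -/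
theorem result {G : Type*} [Group G] [Finite G] {p : ℕ} [Fact p.Prime] (S : Sylow p G) (Q : Subgroup G) (hQp : IsPGroup p ↥Q) (hQ1 : Q ≠ ⊥) (hQS : Q ≤ (S : Subgroup G)) (hQ : Cfsg.IsLarge Q) (M : Subgroup G) (hSM : (S : Subgroup G) ≤ M) (hM : Cfsg.IsInFrakM p M) (htall : Cfsg.IsCharPTall p (Cfsg.largestPReducedOf p M)) (hasym : ¬ Cfsg.IsSymmetricIn (Cfsg.largestPReducedOf p M)) : ∃ H : Subgroup G, Cfsg.IsInFrakH p M H := by
  obtain ⟨hN, -, -, -⟩ := Cfsg.Agent.S2850.result S Q hQp hQ1 hQS hQ M hSM hM hasym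
  set Y := Cfsg.largestPReducedOf p M
  set T₀ := Cfsg.pCoreOf p M
  have hY : IsReducedIn p Y M := isReducedIn_largest M
  have hT₀p : IsPGroup p T₀ := isPGroup_pCoreOf M
  have hT₀ : IsSylowIn p T₀ (Subgroup.centralizer (Y : Set G)) := by
    rw [show T₀ = _ from frakM_pCoreOf S hSM hM]; exact IsSylowIn.inf_centralizer S (hSM.trans hY.normalizer)
  obtain ⟨T, L₁, hTL, hL₁, hYL₁⟩ := htall
  obtain ⟨c, hc, he⟩ := (IsSylowIn.of_map_subtype T).conjugate hT₀
  set L := L₁.map (MulAut.conj c).toMonoidHom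
  have hT₀L : T₀ ≤ L := he ▸ Subgroup.map_mono hTL
  have hYc : Y.map (MulAut.conj c).toMonoidHom = Y :=
    map_conj_eq_iff.2 (Subgroup.centralizer_le_normalizer _ hc)
  set D := Cfsg.pCoreOf p L
  have hLc : L ⊓ Subgroup.centralizer (D : Set G) ≤ D := by
    rw [show D = _ from (pCoreOf_map_conj L₁ c).symm, centralizer_map_conj, ← Subgroup.map_inf _ _ _ (MulAut.conj c).injective]
    exact Subgroup.map_mono ((charP_iff L₁).1 hL₁)
  have hYL : ¬ Y ≤ D := fun h => hYL₁ (by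
    rw [show D = _ from (pCoreOf_map_conj L₁ c).symm, ← hYc] at h
    exact (Subgroup.map_le_map_iff_of_injective (MulAut.conj c).injective).1 h)
  have hDT : D ≤ Subgroup.normalizer (T₀ : Set G) := by
    obtain ⟨P, hP, hTP⟩ := exists_isSylowIn (p := p) L hT₀L hT₀p
    exact (pCoreOf_le_sylowIn hP).trans (Subgroup.le_normalizer.trans (hN P hP.2.1 hTP).1)
  obtain ⟨H, -, hHmin⟩ := exists_minimal_le_of_wellFoundedLT
    (fun H : Subgroup G => T₀ ≤ H ∧ H ≤ L ∧ ¬ Y ≤ Cfsg.pCoreOf p H) L ⟨hT₀L, le_rfl, hYL⟩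
  obtain ⟨hTH, hHL, hYH⟩ := hHmin.prop
  have hsmall : ∀ P : Subgroup G, T₀ ≤ P → P < H → Y ≤ Cfsg.pCoreOf p P := fun P hTP hPH => by
    by_contra h
    exact hPH.not_ge (hHmin.2 ⟨hTP, hPH.le.trans hHL, h⟩ hPH.le)
  -- `H` is generated by the conjugates of `T₀`
  set N := ⨆ h : H, T₀.map (MulAut.conj (h : G)).toMonoidHom
  have hNH : N ≤ H := iSup_le fun h => (Subgroup.map_mono hTH).trans (le_of_eq (map_conj_eq_iff.2 (Subgroup.le_normalizer h.2)))
  have hTN : T₀ ≤ N := le_trans (map_conj_one T₀).ge (le_iSup (fun h : H => T₀.map (MulAut.conj (h : G)).toMonoidHom) 1)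
  have hNn : H ≤ Subgroup.normalizer (N : Set G) := by
    intro g hg
    refine map_conj_eq_iff.1 (Subgroup.eq_of_le_of_card_ge ?_
      (Nat.card_congr (N.equivMapOfInjective _ (MulAut.conj g).injective).toEquiv).le)
    rw [Subgroup.map_iSup]
    refine iSup_le fun h => ?_
    rw [map_conj_conj]
    exact le_iSup (fun h : H => T₀.map (MulAut.conj (h : G)).toMonoidHom) (⟨g, hg⟩ * h)
  have hgen : N = H := by
    by_contra hne
    refine hYH ((hsmall N hTN (lt_of_le_of_ne hNH hne)).trans (le_pCoreOf ((pCoreOf_le N).trans hNH) ?_ (isPGroup_pCoreOf N)))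
    exact le_normalizer_of_map_conj fun g hg => by rw [pCoreOf_map_conj, map_conj_eq_iff.2 (hNn hg)]
  have hHD : H ≤ Subgroup.normalizer (D : Set G) := hHL.trans (normalizer_pCoreOf L)
  have hDH : D ⊓ H ≤ Cfsg.pCoreOf p H :=
    le_pCoreOf inf_le_right (CfsgLib.LocalEven.PReduced.normalizer_inf hHD Subgroup.le_normalizer) ((isPGroup_pCoreOf L).to_le inf_le_left)
  have hcomm : ∀ x ∈ H, ∀ d ∈ D, ⁅x, d⁆ ∈ D ⊓ H := by
    set K := D ⊓ H
    have hKn : H ≤ Subgroup.normalizer (K : Set G) := CfsgLib.LocalEven.PReduced.normalizer_inf hHD Subgroup.le_normalizer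
    let S' : Subgroup G :=
      { carrier := {x | x ∈ H ∧ ∀ d ∈ D, ⁅x, d⁆ ∈ K}
        one_mem' := ⟨one_mem _, fun d _ => by rw [commutatorElement_one_left]; exact one_mem _⟩
        mul_mem' := by
          rintro a b ⟨ha, ha'⟩ ⟨hb, hb'⟩
          refine ⟨mul_mem ha hb, fun d hd => ?_⟩
          rw [show ⁅a * b, d⁆ = a * ⁅b, d⁆ * a⁻¹ * ⁅a, d⁆ by simp only [commutatorElement_def]; group]
          exact mul_mem ((Subgroup.mem_normalizer_iff.1 (hKn ha) _).1 (hb' d hd)) (ha' d hd)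
        inv_mem' := by
          rintro a ⟨ha, ha'⟩
          refine ⟨inv_mem ha, fun d hd => ?_⟩
          rw [show ⁅a⁻¹, d⁆ = a⁻¹ * ⁅a, d⁆⁻¹ * (a⁻¹)⁻¹ by simp only [commutatorElement_def]; group]
          exact (Subgroup.mem_normalizer_iff.1 (hKn (inv_mem ha)) _).1 (inv_mem (ha' d hd)) }
    have hle : N ≤ S' := by
      refine iSup_le fun h => ?_
      rintro _ ⟨t, ht, rfl⟩
      refine ⟨mul_mem (mul_mem h.2 (hTH ht)) (inv_mem h.2), fun d hd => ?_⟩
      show ⁅(h : G) * t * (h : G)⁻¹, d⁆ ∈ K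
      set d' := (h : G)⁻¹ * d * (h : G)
      have hd' : d' ∈ D := by
        have := (Subgroup.mem_normalizer_iff.1 (hHD (inv_mem h.2)) d).1 hd
        rwa [inv_inv] at this
      have h1 : ⁅t, d'⁆ ∈ K := Subgroup.mem_inf.2 ⟨by
          rw [commutatorElement_def]
          exact mul_mem ((Subgroup.mem_normalizer_iff.1 (hHD (hTH ht)) d').1 hd') (inv_mem hd'), hTH (by
          rw [commutatorElement_def, mul_assoc, mul_assoc, ← mul_assoc d']
          exact mul_mem ht ((Subgroup.mem_normalizer_iff.1 (hDT hd') _).1 (inv_mem ht)))⟩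
      rw [show ⁅(h : G) * t * (h : G)⁻¹, d⁆ = (h : G) * ⁅t, d'⁆ * (h : G)⁻¹ by simp only [d', commutatorElement_def]; group]
      exact (Subgroup.mem_normalizer_iff.1 (hKn h.2) _).1 h1
    exact fun x hx => (hle (hgen.ge hx)).2
  refine ⟨H, (charP_iff H).2 ?_, hTH, hYH, hsmall⟩
  set C := H ⊓ Subgroup.centralizer (Cfsg.pCoreOf p H : Set G)
  refine le_pCoreOf inf_le_left (CfsgLib.LocalEven.PReduced.normalizer_inf Subgroup.le_normalizer (normalizer_centralizer (normalizer_pCoreOf H))) ?_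
  refine CfsgLib.LocalEven.Residual.isPGroup_of_forall_coprime fun x hx hc => ?_
  have hxD : x ∈ Subgroup.centralizer (D : Set G) := by
    refine Subgroup.mem_centralizer_iff.2 fun d hd => ?_
    have hcop : (orderOf x).Coprime (Nat.card ↥(D ⊓ H)) :=
      CfsgLib.LocalEven.Residual.mem_of_coprime_card ((isPGroup_pCoreOf L).to_le inf_le_left) hc
    exact (CfsgLib.Coprime.commute_of_stabilizes hcop (Subgroup.centralizer_le (SetLike.coe_subset_coe.2 hDH) hx.2)
      (hcomm x hx.1 d hd)).eq.symm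
  exact eq_one_of_coprime_of_isPGroup (isPGroup_pCoreOf L) (hLc ⟨hHL hx.1, hxD⟩) hc

end Cfsg.Agent.S2852
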