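import Cfsg.Statements.S2853
import Cfsg.Agent.S2850
import Cfsg.Agent.Lib.LocalEven.Commutators

set_option autoImplicit false
open Cfsg

namespace Cfsg.Agent.S2853

open CfsgLib.Fusion.Basic CfsgLib.LocalEven.SylowIn CfsgLib.LocalEven.PReduced CfsgLib.LocalEven.Parabolic
open scoped commutatorElement

/-- Standing hypotheses: G a finite group, S a Sylow p-subgroup, Q a nontrivial large p-subgroup of G contained in S, M a subgroup containing S with the basic property (M ∈ 𝔐_G(S)); Y_M the largest p-reduced normal subgroup of M and M† = M·C_G(Y_M). Suppose Y_M is char-p-tall and asymmetric in G and H ∈ ℌ_G(O_p(M)). Then every Sylow p-subgroup of H ∩ M† is a Sylow p-subgroup of H; O_p(H) normalizes O_p(M) and Y_M; O^p(H) = [O^p(H), Y_M] and H = O^p(H)·O_p(M); O^p(H)·Y_M is the normal closure of Y_M in H; and H is the normal closure of O_p(M) in H. Here O^p(H) is the subgroup generated by the elements of H of order prime to p. -/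
theorem result {G : Type*} [Group G] [Finite G] {p : ℕ} [Fact p.Prime] (S : Sylow p G) (Q : Subgroup G) (hQp : IsPGroup p ↥Q) (hQ1 : Q ≠ ⊥) (hQS : Q ≤ (S : Subgroup G)) (hQ : Cfsg.IsLarge Q) (M : Subgroup G) (hSM : (S : Subgroup G) ≤ M) (hM : Cfsg.IsInFrakM p M) (htall : Cfsg.IsCharPTall p (Cfsg.largestPReducedOf p M)) (hasym : ¬ Cfsg.IsSymmetricIn (Cfsg.largestPReducedOf p M)) (H : Subgroup G) (hH : Cfsg.IsInFrakH p M H) (R : Subgroup G) (hR : R = (Cfsg.pResidual p ↥H).map H.subtype) : (∀ T : Sylow p ↥(H ⊓ (M ⊔ Subgroup.centralizer (((Cfsg.largestPReducedOf p M) : Subgroup G) : Set G))), ∃ P : Sylow p ↥H, ((P : Subgroup ↥H).map H.subtype) = (T : Subgroup ↥(H ⊓ (M ⊔ Subgroup.centralizer (((Cfsg.largestPReducedOf p M) : Subgroup G) : Set G)))).map (H ⊓ (M ⊔ Subgroup.centralizer (((Cfsg.largestPReducedOf p M) : Subgroup G) : Set G))).subtype) ∧ Cfsg.pCoreOf p H ≤ Subgroup.normalizer (((Cfsg.pCoreOf p M) : Subgroup G) : Set G) ⊓ Subgroup.normalizer (((Cfsg.largestPReducedOf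 p M) : Subgroup G) : Set G) ∧ ⁅R, (Cfsg.largestPReducedOf p M)⁆ = R ∧ R ⊔ (Cfsg.pCoreOf p M) = H ∧ R ⊔ (Cfsg.largestPReducedOf p M) = (Subgroup.normalClosure ((((Cfsg.largestPReducedOf p M)).subgroupOf H : Subgroup ↥H) : Set ↥H)).map H.subtype ∧ (Subgroup.normalClosure ((((Cfsg.pCoreOf p M)).subgroupOf H : Subgroup ↥H) : Set ↥H)).map H.subtype = H := by
  subst hR
  obtain ⟨hN, -, hpar, -⟩ := Cfsg.Agent.S2850.result S Q hQp hQ1 hQS hQ M hSM hM hasym
  obtain ⟨hHc, hTH, hYH, hsmall⟩ := hH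
  set Y := Cfsg.largestPReducedOf p M
  set T₀ := Cfsg.pCoreOf p M
  set Md := M ⊔ Subgroup.centralizer (Y : Set G)
  set R := (Cfsg.pResidual p ↥H).map H.subtype
  have hY : IsReducedIn p Y M := isReducedIn_largest M
  have hT₀p : IsPGroup p T₀ := isPGroup_pCoreOf M
  have hYT : Y ≤ T₀ := hY.le_pCoreOf
  have hYHle : Y ≤ H := hYT.trans hTH
  have hT₀Y : T₀ ≤ Subgroup.normalizer (Y : Set G) := (pCoreOf_le M).trans hY.normalizer
  have hRH : R ≤ H := Subgroup.map_subtype_le _
  have hHR : H ≤ Subgroup.normalizer (R : Set G) :=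
    Subgroup.le_normalizer.trans (CfsgLib.LocalEven.Residual.normalizer_map_pResidual H)
  set A := ⁅R, Y⁆
  have hAR : A ≤ R := Subgroup.le_normalizer_iff_commutator_le_left.1 (hYHle.trans hHR)
  have hAH : A ≤ H := hAR.trans hRH
  have hRA : R ≤ Subgroup.normalizer (A : Set G) := CfsgLib.LocalEven.Commutators.normalizer_commutator_left R Y
  have hYA : Y ≤ Subgroup.normalizer (A : Set G) := CfsgLib.LocalEven.Commutators.normalizer_commutator_right R Y
  have hT₀A : T₀ ≤ Subgroup.normalizer (A : Set G) :=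
    CfsgLib.LocalEven.PReduced.normalizer_commutator (hTH.trans hHR) hT₀Y
  -- `H = O^p(H) P` for a Sylow subgroup `P` over `O_p(M)`
  obtain ⟨P, hP, hTP⟩ := exists_isSylowIn (p := p) H hTH hT₀p
  have hPT : P ≤ Subgroup.normalizer (T₀ : Set G) := Subgroup.le_normalizer.trans (hN P hP.2.1 hTP).1
  have hPMd : P ≤ Md := hPT.trans (hN P hP.2.1 hTP).2
  have hHRP : H ≤ R ⊔ P := fun x hx => by
    obtain ⟨w, hw, u, hu, he⟩ := exists_eq_pResidual_mul hP.toSylow (⟨x, hx⟩ : H)
    rw [show x = (w : G) * (u : G) from congrArg Subtype.val he]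
    exact mul_mem (Subgroup.mem_sup_left ⟨w, hw, rfl⟩) (Subgroup.mem_sup_right hu)
  have hnormal : ∀ X : Subgroup G, R ≤ Subgroup.normalizer (X : Set G) → P ≤ Subgroup.normalizer (X : Set G) →
      H ≤ Subgroup.normalizer (X : Set G) := fun X h1 h2 => hHRP.trans (sup_le h1 h2)
  have hMdY : Md ≤ Subgroup.normalizer (Y : Set G) := sup_le hY.normalizer (Subgroup.centralizer_le_normalizer _)
  have hPA : P ≤ Subgroup.normalizer (A : Set G) :=
    CfsgLib.LocalEven.PReduced.normalizer_commutator (hP.1.trans hHR) (hPMd.trans hMdY)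
  have hHA : H ≤ Subgroup.normalizer (A : Set G) := hnormal A hRA hPA
  have hAY : H ≤ Subgroup.normalizer ((A ⊔ Y : Subgroup G) : Set G) := by
    refine hnormal _ ?_ (CfsgLib.LocalEven.PReduced.normalizer_sup hPA (hPMd.trans hMdY))
    refine le_normalizer_of_map_conj fun r hr => Subgroup.eq_of_le_of_card_ge ?_
      (Nat.card_congr ((A ⊔ Y).equivMapOfInjective _ (MulAut.conj r).injective).toEquiv).le
    rw [Subgroup.map_sup, map_conj_eq_iff.2 (hRA hr)]
    refine sup_le le_sup_left ?_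
    rintro _ ⟨y, hy, rfl⟩
    show r * y * r⁻¹ ∈ A ⊔ Y
    rw [show r * y * r⁻¹ = ⁅r, y⁆ * y by rw [commutatorElement_def, inv_mul_cancel_right]]
    exact mul_mem (Subgroup.mem_sup_left (Subgroup.commutator_mem_commutator hr hy)) (Subgroup.mem_sup_right hy)
  -- `H = [R, Y] O_p(M)`
  have hAT : A ⊔ T₀ = H := by
    by_contra hne
    have hle : A ⊔ T₀ ≤ H := sup_le hAH hTH
    have hYO := hsmall (A ⊔ T₀) le_sup_right (lt_of_le_of_ne hle hne)
    have hn1 : A ⊔ T₀ ≤ Subgroup.normalizer ((A ⊔ Y : Subgroup G) : Set G) := hle.trans hAY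
    have hn2 : A ⊔ T₀ ≤ Subgroup.normalizer ((Cfsg.pCoreOf p (A ⊔ T₀) ⊓ (A ⊔ Y) : Subgroup G) : Set G) :=
      CfsgLib.LocalEven.PReduced.normalizer_inf (normalizer_pCoreOf _) hn1
    have h1 : Y ≤ Cfsg.pCoreOf p (A ⊔ Y) :=
      le_trans (le_inf hYO le_sup_right) (le_pCoreOf inf_le_right ((sup_le_sup_left hYT A).trans hn2)
        ((isPGroup_pCoreOf _).to_le inf_le_left))
    refine hYH (h1.trans (le_pCoreOf ((pCoreOf_le _).trans (sup_le hAH hYHle)) ?_ (isPGroup_pCoreOf _)))
    exact le_normalizer_of_map_conj fun g hg => by rw [pCoreOf_map_conj, map_conj_eq_iff.2 (hAY hg)]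
  have hRle : R ≤ A := by
    refine CfsgLib.LocalEven.Residual.map_pResidual_le_iff.2 fun x hx hc => ?_
    refine coprime_mem_sup hT₀A (fun y hy hc' => ?_) (sup_comm A T₀ ▸ hAT.ge hx) hc
    rw [eq_one_of_coprime_of_isPGroup hT₀p hy hc']
    exact one_mem A
  have hAeq : A = R := le_antisymm hAR hRle
  refine ⟨fun T => ?_, le_inf ((pCoreOf_le_sylowIn hP).trans hPT) ((pCoreOf_le_sylowIn hP).trans (hPMd.trans hMdY)), hAeq, hAeq ▸ hAT, ?_, ?_⟩
  · have hPK : IsSylowIn p P (H ⊓ Md) := CfsgLib.LocalEven.PReduced.IsSylowIn.mono hP (le_inf hP.1 hPMd) inf_le_left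
    obtain ⟨k, hk, he⟩ := hPK.conjugate (IsSylowIn.of_map_subtype T)
    have hkH : k ∈ H := hk.1
    have hPk : IsSylowIn p (P.map (MulAut.conj k).toMonoidHom) H := by
      have := hP.map_conj k
      rwa [map_conj_eq_iff.2 (Subgroup.le_normalizer hkH)] at this
    exact ⟨hPk.toSylow, hPk.toSylow_map.trans he.symm⟩
  · haveI hWn : (Subgroup.comap H.subtype (R ⊔ Y)).Normal :=
      (Subgroup.normal_subgroupOf_iff_le_normalizer (sup_le hRH hYHle)).2 (hAeq ▸ hAY)
    set W := Subgroup.normalClosure ((Y.subgroupOf H : Subgroup ↥H) : Set ↥H)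
    refine le_antisymm ?_ ?_
    · have hYW : Y ≤ W.map H.subtype := fun y hy => ⟨⟨y, hYHle hy⟩, Subgroup.subset_normalClosure hy, rfl⟩
      refine sup_le ?_ hYW
      conv_lhs => rw [← hAeq]
      refine (Subgroup.commutator_mono hRH hYW).trans (Subgroup.le_normalizer_iff_commutator_le_right.1 ?_)
      exact (Subgroup.normal_subgroupOf_iff_le_normalizer (Subgroup.map_subtype_le W)).1 (by
        rw [Subgroup.subgroupOf, Subgroup.comap_map_eq_self_of_injective H.subtype_injective]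
        exact Subgroup.normalClosure_normal)
    · refine Subgroup.map_le_iff_le_comap.2 (Subgroup.normalClosure_le_normal ?_)
      exact fun y hy => (Subgroup.mem_sup_right hy : (y : G) ∈ R ⊔ Y)
  · set W := Subgroup.normalClosure ((T₀.subgroupOf H : Subgroup ↥H) : Set ↥H)
    refine le_antisymm (Subgroup.map_subtype_le W) ?_
    have hTW : T₀ ≤ W.map H.subtype := fun y hy => ⟨⟨y, hTH hy⟩, Subgroup.subset_normalClosure hy, rfl⟩
    conv_lhs => rw [← hAT]
    refine sup_le ?_ hTW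
    refine (Subgroup.commutator_mono hRH (hYT.trans hTW)).trans (Subgroup.le_normalizer_iff_commutator_le_right.1 ?_)
    exact (Subgroup.normal_subgroupOf_iff_le_normalizer (Subgroup.map_subtype_le W)).1 (by
      rw [Subgroup.subgroupOf, Subgroup.comap_map_eq_self_of_injective H.subtype_injective]
      exact Subgroup.normalClosure_normal)

end Cfsg.Agent.S2853
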