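import Cfsg.Statements.S2854
import Cfsg.Agent.S2850
import Cfsg.Agent.Lib.LocalEven.Commutators
import Cfsg.Agent.Lib.LocalEven.Irreducible

set_option autoImplicit false
open Cfsg

namespace Cfsg.Agent.S2854

open CfsgLib.Fusion.Basic CfsgLib.LocalEven.SylowIn CfsgLib.LocalEven.PReduced CfsgLib.LocalEven.Parabolic
open scoped commutatorElement

/-- `[O^p(H), Y] = O^p(H)` for a member `H` of `ℌ`. -/
theorem residual_eq {G : Type*} [Group G] [Finite G] {p : ℕ} [Fact p.Prime] {Y T₀ H : Subgroup G}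
    (hT₀p : IsPGroup p T₀) (hYT : Y ≤ T₀) (hT₀Y : T₀ ≤ Subgroup.normalizer (Y : Set G))
    (hTH : T₀ ≤ H) (hYH : ¬ Y ≤ Cfsg.pCoreOf p H)
    (hsmall : ∀ P : Subgroup G, T₀ ≤ P → P < H → Y ≤ Cfsg.pCoreOf p P)
    (hNY : Subgroup.normalizer (T₀ : Set G) ≤ Subgroup.normalizer (Y : Set G))
    (hN : ∀ L : Subgroup G, IsPGroup p L → T₀ ≤ L → Subgroup.normalizer (L : Set G) ≤ Subgroup.normalizer (T₀ : Set G)) :
    ⁅(Cfsg.pResidual p ↥H).map H.subtype, Y⁆ = (Cfsg.pResidual p ↥H).map H.subtype := by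
  set R := (Cfsg.pResidual p ↥H).map H.subtype
  have hYHle : Y ≤ H := hYT.trans hTH
  have hRH : R ≤ H := Subgroup.map_subtype_le _
  have hHR : H ≤ Subgroup.normalizer (R : Set G) :=
    Subgroup.le_normalizer.trans (CfsgLib.LocalEven.Residual.normalizer_map_pResidual H)
  set A := ⁅R, Y⁆
  have hAR : A ≤ R := Subgroup.le_normalizer_iff_commutator_le_left.1 (hYHle.trans hHR)
  have hAH : A ≤ H := hAR.trans hRH
  have hRA : R ≤ Subgroup.normalizer (A : Set G) := CfsgLib.LocalEven.Commutators.normalizer_commutator_left R Y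
  have hT₀A : T₀ ≤ Subgroup.normalizer (A : Set G) :=
    CfsgLib.LocalEven.PReduced.normalizer_commutator (hTH.trans hHR) hT₀Y
  obtain ⟨P, hP, hTP⟩ := exists_isSylowIn (p := p) H hTH hT₀p
  have hPY : P ≤ Subgroup.normalizer (Y : Set G) :=
    (Subgroup.le_normalizer.trans (hN P hP.2.1 hTP)).trans hNY
  have hHRP : H ≤ R ⊔ P := fun x hx => by
    obtain ⟨w, hw, u, hu, he⟩ := exists_eq_pResidual_mul hP.toSylow (⟨x, hx⟩ : H)
    rw [show x = (w : G) * (u : G) from congrArg Subtype.val he]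
    exact mul_mem (Subgroup.mem_sup_left ⟨w, hw, rfl⟩) (Subgroup.mem_sup_right hu)
  have hPA : P ≤ Subgroup.normalizer (A : Set G) :=
    CfsgLib.LocalEven.PReduced.normalizer_commutator (hP.1.trans hHR) hPY
  have hAY : H ≤ Subgroup.normalizer ((A ⊔ Y : Subgroup G) : Set G) := by
    refine hHRP.trans (sup_le ?_ (CfsgLib.LocalEven.PReduced.normalizer_sup hPA hPY))
    refine le_normalizer_of_map_conj fun r hr => Subgroup.eq_of_le_of_card_ge ?_
      (Nat.card_congr ((A ⊔ Y).equivMapOfInjective _ (MulAut.conj r).injective).toEquiv).le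
    rw [Subgroup.map_sup, map_conj_eq_iff.2 (hRA hr)]
    refine sup_le le_sup_left ?_
    rintro _ ⟨y, hy, rfl⟩
    show r * y * r⁻¹ ∈ A ⊔ Y
    rw [show r * y * r⁻¹ = ⁅r, y⁆ * y by rw [commutatorElement_def, inv_mul_cancel_right]]
    exact mul_mem (Subgroup.mem_sup_left (Subgroup.commutator_mem_commutator hr hy)) (Subgroup.mem_sup_right hy)
  have hAT : A ⊔ T₀ = H := by
    by_contra hne
    have hle : A ⊔ T₀ ≤ H := sup_le hAH hTH
    have hYO := hsmall (A ⊔ T₀) le_sup_right (lt_of_le_of_ne hle hne)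
    have h1 : Y ≤ Cfsg.pCoreOf p (A ⊔ Y) :=
      le_trans (le_inf hYO le_sup_right) (le_pCoreOf inf_le_right ((sup_le_sup_left hYT A).trans
        (CfsgLib.LocalEven.PReduced.normalizer_inf (normalizer_pCoreOf _) (hle.trans hAY)))
        ((isPGroup_pCoreOf _).to_le inf_le_left))
    refine hYH (h1.trans (le_pCoreOf ((pCoreOf_le _).trans (sup_le hAH hYHle)) ?_ (isPGroup_pCoreOf _)))
    exact le_normalizer_of_map_conj fun g hg => by rw [pCoreOf_map_conj, map_conj_eq_iff.2 (hAY hg)]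
  refine le_antisymm hAR (CfsgLib.LocalEven.Residual.map_pResidual_le_iff.2 fun x hx hc => ?_)
  refine coprime_mem_sup hT₀A (fun y hy hc' => ?_) (sup_comm A T₀ ▸ hAT.ge hx) hc
  rw [eq_one_of_coprime_of_isPGroup hT₀p hy hc']
  exact one_mem A

/-- Standing hypotheses: G a finite group, S a Sylow p-subgroup, Q a nontrivial large p-subgroup of G contained in S, M a subgroup containing S with the basic property (M ∈ 𝔐_G(S)); Y_M the largest p-reduced normal subgroup of M and M† = M·C_G(Y_M). Suppose Y_M is asymmetric in G, H ∈ ℌ_G(O_p(M)), and H ≤ N_G(gQg⁻¹) for some g ∈ G. Then gQg⁻¹ ≤ O_p(H·gQg⁻¹) ≤ N_G(O_p(M)) ≤ N_G(Y_M) = M†; H is normal in H·gQg⁻¹ with O^p(H) = O^p(H·gQg⁻¹); and H·gQg⁻¹ is p-irreducible. -/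
theorem result {G : Type*} [Group G] [Finite G] {p : ℕ} [Fact p.Prime] (S : Sylow p G) (Q : Subgroup G) (hQp : IsPGroup p ↥Q) (hQ1 : Q ≠ ⊥) (hQS : Q ≤ (S : Subgroup G)) (hQ : Cfsg.IsLarge Q) (M : Subgroup G) (hSM : (S : Subgroup G) ≤ M) (hM : Cfsg.IsInFrakM p M) (hasym : ¬ Cfsg.IsSymmetricIn (Cfsg.largestPReducedOf p M)) (H : Subgroup G) (hH : Cfsg.IsInFrakH p M H) (g : G) (hHQ : H ≤ Subgroup.normalizer ((((Q : Subgroup G).map (MulAut.conj (g : G)).toMonoidHom) : Subgroup G) : Set G)) : ((Q : Subgroup G).map (MulAut.conj (g : G)).toMonoidHom) ≤ Cfsg.pCoreOf p (H ⊔ ((Q : Subgroup G).map (MulAut.conj (g : G)).toMonoidHom)) ∧ Cfsg.pCoreOf p (H ⊔ ((Q : Subgroup G).map (MulAut.conj (g : G)).toMonoidHom)) ≤ Subgroup.normalizer (((Cfsg.pCoreOf p M) : Subgroup G) : Set G) ∧ Subgroup.normalizer (((Cfsg.pCoreOf p M) : Subgroup G) : Set G) ≤ Subgroup.normalizer (((Cfsg.largestPReducedOf p M) : Subgroup G) : Set G) ∧ Subgroup.normalizer (((Cfsg.largestPReducedOf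 p M) : Subgroup G) : Set G) = (M ⊔ Subgroup.centralizer (((Cfsg.largestPReducedOf p M) : Subgroup G) : Set G)) ∧ (H.subgroupOf (H ⊔ ((Q : Subgroup G).map (MulAut.conj (g : G)).toMonoidHom))).Normal ∧ (Cfsg.pResidual p ↥H).map H.subtype = (Cfsg.pResidual p ↥(H ⊔ ((Q : Subgroup G).map (MulAut.conj (g : G)).toMonoidHom))).map (H ⊔ ((Q : Subgroup G).map (MulAut.conj (g : G)).toMonoidHom)).subtype ∧ Cfsg.IsPIrreducible p ↥(H ⊔ ((Q : Subgroup G).map (MulAut.conj (g : G)).toMonoidHom)) := by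
  have hG : Cfsg.IsOfParabolicCharacteristic p G := (Cfsg.Agent.S2845.result Q hQp hQ1 hQ).2.2
  obtain ⟨hN, -, -, -⟩ := Cfsg.Agent.S2850.result S Q hQp hQ1 hQS hQ M hSM hM hasym
  obtain ⟨hHc, hTH, hYH, hsmall⟩ := hH
  set Y := Cfsg.largestPReducedOf p M
  set T₀ := Cfsg.pCoreOf p M
  set Md := M ⊔ Subgroup.centralizer (Y : Set G)
  set Qg := Q.map (MulAut.conj g).toMonoidHom
  set X := H ⊔ Qg
  have hY : IsReducedIn p Y M := isReducedIn_largest M
  have hT₀p : IsPGroup p T₀ := isPGroup_pCoreOf M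
  have hYT : Y ≤ T₀ := hY.le_pCoreOf
  have hYHle : Y ≤ H := hYT.trans hTH
  have hMdY : Md ≤ Subgroup.normalizer (Y : Set G) := sup_le hY.normalizer (Subgroup.centralizer_le_normalizer _)
  have hHX : H ≤ X := le_sup_left
  have hTX : T₀ ≤ X := hTH.trans hHX
  have hQgp : IsPGroup p Qg := hQp.map _
  have hQgO : Qg ≤ Cfsg.pCoreOf p X := le_pCoreOf le_sup_right (sup_le hHQ Subgroup.le_normalizer) hQgp
  obtain ⟨P, hP, hTP⟩ := exists_isSylowIn (p := p) X hTX hT₀p
  have hPT : P ≤ Subgroup.normalizer (T₀ : Set G) := Subgroup.le_normalizer.trans (hN P hP.2.1 hTP).1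
  have hNT : Subgroup.normalizer (T₀ : Set G) ≤ Md := (hN T₀ hT₀p le_rfl).2
  have hOX : Cfsg.pCoreOf p X ≤ Subgroup.normalizer (T₀ : Set G) := (pCoreOf_le_sylowIn hP).trans hPT
  have hQT : Qg ≤ Subgroup.normalizer (T₀ : Set G) := hQgO.trans hOX
  have hNY : Subgroup.normalizer (Y : Set G) = Md := by
    obtain ⟨hMc, hMmax, -, -, -, -⟩ := hM
    have hY1 : Y ≠ ⊥ := largest_ne_bot hG S hSM ((mem_charP_iff hG S hSM).1 hMc)
    have hS : (S : Subgroup G) ≤ Subgroup.normalizer (Y : Set G) := hSM.trans hY.normalizer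
    refine hMmax.2 _ ((mem_charP_iff hG S hS).2 fun h => hY1 (le_bot_iff.1 (le_trans ?_ h.le))) hMdY
    exact le_pCoreOf Subgroup.le_normalizer le_rfl (elab_isPGroup hY.elab)
  -- `Qg` normalizes `H`
  set N₁ := ⨆ h : H, T₀.map (MulAut.conj (h : G)).toMonoidHom
  have hN₁H : N₁ ≤ H := iSup_le fun h => (Subgroup.map_mono hTH).trans (le_of_eq (map_conj_eq_iff.2 (Subgroup.le_normalizer h.2)))
  have hTN₁ : T₀ ≤ N₁ := le_trans (map_conj_one T₀).ge (le_iSup (fun h : H => T₀.map (MulAut.conj (h : G)).toMonoidHom) 1)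
  have hN₁n : H ≤ Subgroup.normalizer (N₁ : Set G) := by
    intro a ha
    refine map_conj_eq_iff.1 (Subgroup.eq_of_le_of_card_ge ?_
      (Nat.card_congr (N₁.equivMapOfInjective _ (MulAut.conj a).injective).toEquiv).le)
    rw [Subgroup.map_iSup]
    refine iSup_le fun h => ?_
    rw [map_conj_conj]
    exact le_iSup (fun h : H => T₀.map (MulAut.conj (h : G)).toMonoidHom) (⟨a, ha⟩ * h)
  have hgen : N₁ = H := by
    by_contra hne
    refine hYH ((hsmall N₁ hTN₁ (lt_of_le_of_ne hN₁H hne)).trans (le_pCoreOf ((pCoreOf_le N₁).trans hN₁H) ?_ (isPGroup_pCoreOf N₁)))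
    exact le_normalizer_of_map_conj fun a ha => by rw [pCoreOf_map_conj, map_conj_eq_iff.2 (hN₁n ha)]
  have hQH : Qg ≤ Subgroup.normalizer (H : Set G) := by
    rw [← hgen]
    intro q hq
    refine map_conj_eq_iff.1 ?_
    rw [Subgroup.map_iSup]
    refine iSup_congr fun h => ?_
    have h1 : (h : G)⁻¹ * q * h ∈ Qg := by
      have := (Subgroup.mem_normalizer_iff.1 (hHQ (inv_mem h.2)) q).1 hq
      rwa [inv_inv] at this
    rw [map_conj_conj, show q * (h : G) = (h : G) * ((h : G)⁻¹ * q * h) by group, ← map_conj_conj,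
      map_conj_eq_iff.2 (hQT h1)]
  have hHn : X ≤ Subgroup.normalizer (H : Set G) := sup_le Subgroup.le_normalizer hQH
  have hres : ∀ x ∈ X, (orderOf x).Coprime p → x ∈ H := fun x hx hc =>
    coprime_mem_sup hQH (fun y hy hc' => (eq_one_of_coprime_of_isPGroup hQgp hy hc') ▸ one_mem H)
      (sup_comm H Qg ▸ hx) hc
  set R := (Cfsg.pResidual p ↥H).map H.subtype
  have hRX : R = (Cfsg.pResidual p ↥X).map X.subtype :=
    le_antisymm (CfsgLib.LocalEven.Residual.map_pResidual_le_iff.2 fun x hx hc => mem_map_pResidual_of_coprime (hHX hx) hc)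
      (CfsgLib.LocalEven.Residual.map_pResidual_le_iff.2 fun x hx hc => mem_map_pResidual_of_coprime (hres x hx hc) hc)
  have hRY : ⁅R, Y⁆ = R := residual_eq hT₀p hY.le_pCoreOf ((pCoreOf_le M).trans hY.normalizer)
    hTH hYH hsmall ((hN T₀ hT₀p le_rfl).2.trans hMdY) (fun L hL hTL => (hN L hL hTL).1)
  refine ⟨hQgO, hOX, hNT.trans hMdY, hNY, (Subgroup.normal_subgroupOf_iff_le_normalizer hHX).2 hHn, hRX, ?_⟩
  -- irreducibility
  set D := Cfsg.pCoreOf p H
  have hRH : R ≤ H := Subgroup.map_subtype_le _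
  have hHR : H ≤ Subgroup.normalizer (R : Set G) :=
    Subgroup.le_normalizer.trans (CfsgLib.LocalEven.Residual.normalizer_map_pResidual H)
  have hDX : X ≤ Subgroup.normalizer (D : Set G) :=
    le_normalizer_of_map_conj fun x hx => by rw [pCoreOf_map_conj, map_conj_eq_iff.2 (hHn hx)]
  have hDO : D ≤ Cfsg.pCoreOf p X := le_pCoreOf ((pCoreOf_le H).trans hHX) hDX (isPGroup_pCoreOf H)
  have hHP : X ≤ R ⊔ P := fun x hx => by
    obtain ⟨w, hw, u, hu, he⟩ := exists_eq_pResidual_mul hP.toSylow (⟨x, hx⟩ : X)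
    rw [show x = (w : G) * (u : G) from congrArg Subtype.val he]
    exact mul_mem (Subgroup.mem_sup_left (hRX ▸ ⟨w, hw, rfl⟩)) (Subgroup.mem_sup_right hu)
  rw [CfsgLib.LocalEven.Irreducible.isPIrreducible_iff hP.toSylow]
  have hO_eq : ∀ x : X, x ∈ Cfsg.pCore p ↥X ↔ (x : G) ∈ Cfsg.pCoreOf p X := fun x =>
    (Subgroup.mem_map_iff_mem X.subtype_injective).symm
  refine ⟨fun hle => hYH ?_, fun N hNn hnc => ?_⟩
  · refine le_trans (le_inf (fun y hy => ?_) hYHle) (le_pCoreOf inf_le_right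
      (CfsgLib.LocalEven.PReduced.normalizer_inf (hHX.trans (normalizer_pCoreOf X)) Subgroup.le_normalizer) ((isPGroup_pCoreOf X).to_le inf_le_left))
    exact (hO_eq ⟨y, hHX (hYHle hy)⟩).1 (hle (hTP (hYT hy)))
  · set N' := N.map X.subtype
    have hN'X : X ≤ Subgroup.normalizer (N' : Set G) := by
      refine (Subgroup.normal_subgroupOf_iff_le_normalizer (Subgroup.map_subtype_le N)).1 ?_
      rw [Subgroup.subgroupOf, Subgroup.comap_map_eq_self_of_injective X.subtype_injective]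
      exact hNn
    set NH := N' ⊓ H
    have hNHn : X ≤ Subgroup.normalizer (NH : Set G) := CfsgLib.LocalEven.PReduced.normalizer_inf hN'X hHn
    have hgoal : R ≤ N' → Cfsg.pResidual p ↥X ≤ N := fun h =>
      (Subgroup.map_le_map_iff_of_injective X.subtype_injective).1 (hRX ▸ h)
    refine hgoal ?_
    by_cases hK : NH ⊔ T₀ = H
    · refine CfsgLib.LocalEven.Residual.map_pResidual_le_iff.2 fun x hx hc => ?_
      exact (coprime_mem_sup (hTX.trans hNHn) (fun y hy hc' => (eq_one_of_coprime_of_isPGroup hT₀p hy hc') ▸ one_mem NH)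
        (sup_comm NH T₀ ▸ hK.ge hx) hc).1
    exfalso
    refine hnc ?_
    have hKH : NH ⊔ T₀ < H := lt_of_le_of_ne (sup_le inf_le_right hTH) hK
    have hYK := hsmall _ le_sup_right hKH
    have h1 : ⁅NH, Y⁆ ≤ D := by
      refine le_trans (le_inf ?_ ?_) (show Cfsg.pCoreOf p (NH ⊔ T₀) ⊓ NH ≤ D from ?_)
      · exact (Subgroup.commutator_mono le_sup_left hYK).trans
          (Subgroup.le_normalizer_iff_commutator_le_right.1 (normalizer_pCoreOf _))
      · exact Subgroup.le_normalizer_iff_commutator_le_left.1 ((hYHle.trans hHX).trans hNHn)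
      · refine le_trans ?_ (le_pCoreOf (N := Cfsg.pCoreOf p NH) ((pCoreOf_le NH).trans inf_le_right)
          (le_normalizer_of_map_conj fun a ha => by rw [pCoreOf_map_conj, map_conj_eq_iff.2 (hNHn (hHX ha))]) (isPGroup_pCoreOf NH))
        exact le_pCoreOf inf_le_right (CfsgLib.LocalEven.PReduced.normalizer_inf (le_sup_left.trans (normalizer_pCoreOf _)) Subgroup.le_normalizer)
          ((isPGroup_pCoreOf _).to_le inf_le_left)
    have hA : ⁅R, Y⁆ = R := hRY
    have hRD : R ≤ Subgroup.normalizer (D : Set G) := (hRH.trans hHX).trans hDX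
    have hDR : ⁅D, R⁆ ≤ D := Subgroup.le_normalizer_iff_commutator_le_left.1 hRD
    have hYn : Y ≤ Subgroup.normalizer (D : Set G) := (hYHle.trans hHX).trans hDX
    have hRN : R ≤ Subgroup.normalizer (NH : Set G) := (hRH.trans hHX).trans hNHn
    have h2 : ⁅R, NH⁆ ≤ D := by
      conv_lhs => rw [← hA]
      refine CfsgLib.LocalEven.Commutators.three_subgroup_mod hRD hYn ((inf_le_right.trans hHX).trans hDX) ?_ ?_
      · exact (Subgroup.commutator_mono (Subgroup.commutator_comm Y NH ▸ h1) le_rfl).trans hDR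
      · exact (Subgroup.commutator_mono (Subgroup.le_normalizer_iff_commutator_le_left.1 hRN) le_rfl).trans h1
    -- the `p`-part of `N`
    set U := P ⊓ N'
    have hUP : U ≤ P := inf_le_left
    have hUn : U ≤ Subgroup.normalizer (D : Set G) := (hUP.trans hP.1).trans hDX
    have hsmallp : ∀ V : Subgroup G, V ≤ P ⊓ NH → V ≤ D := by
      intro V hV
      refine hV.trans ?_
      set W := (P ⊓ NH) ⊔ D
      have hWH : W ≤ H := sup_le (inf_le_right.trans inf_le_right) (pCoreOf_le H)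
      have hRW : R ≤ Subgroup.normalizer (W : Set G) := by
        refine le_normalizer_of_map_conj fun r hr => Subgroup.eq_of_le_of_card_ge ?_
          (Nat.card_congr (W.equivMapOfInjective _ (MulAut.conj r).injective).toEquiv).le
        rw [Subgroup.map_sup, map_conj_eq_iff.2 (hRD hr)]
        refine sup_le ?_ le_sup_right
        rintro _ ⟨a, ha, rfl⟩
        show r * a * r⁻¹ ∈ W
        rw [show r * a * r⁻¹ = ⁅r, a⁆ * a by rw [commutatorElement_def, inv_mul_cancel_right]]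
        exact mul_mem (Subgroup.mem_sup_right (h2 (Subgroup.commutator_mem_commutator hr ha.2))) (Subgroup.mem_sup_left ha)
      have hXW : X ≤ Subgroup.normalizer (W : Set G) := hHP.trans (sup_le hRW
        (CfsgLib.LocalEven.PReduced.normalizer_sup (CfsgLib.LocalEven.PReduced.normalizer_inf Subgroup.le_normalizer (hP.1.trans hNHn)) (hP.1.trans hDX)))
      exact le_sup_left.trans (le_pCoreOf hWH (hHX.trans hXW)
        ((hP.2.1.to_le inf_le_left).to_sup_of_normal_right' (isPGroup_pCoreOf H) ((inf_le_left.trans hP.1).trans hDX)))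
    have hUY : ⁅Y, U⁆ ≤ D := hsmallp _ (le_inf
      ((Subgroup.commutator_mono (hYT.trans hTP) hUP).trans (Subgroup.le_normalizer_iff_commutator_le_left.1 Subgroup.le_normalizer))
      (le_inf ((Subgroup.commutator_mono (hYHle.trans hHX) inf_le_right).trans (Subgroup.le_normalizer_iff_commutator_le_right.1 hN'X))
        ((Subgroup.commutator_mono hYHle (hUP.trans hP.1)).trans (Subgroup.le_normalizer_iff_commutator_le_left.1 hHn))))
    have hUR : ⁅R, U⁆ ≤ D := by
      conv_lhs => rw [← hA]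
      refine CfsgLib.LocalEven.Commutators.three_subgroup_mod hRD hYn hUn ((Subgroup.commutator_mono hUY le_rfl).trans hDR) ?_
      refine (Subgroup.commutator_mono (le_inf ?_ ?_) le_rfl).trans h1
      · exact (Subgroup.commutator_mono inf_le_right (hRH.trans hHX)).trans (Subgroup.le_normalizer_iff_commutator_le_left.1 hN'X)
      · exact (Subgroup.commutator_mono (hUP.trans hP.1) hRH).trans (Subgroup.le_normalizer_iff_commutator_le_right.1 hHn)
    set W := U ⊔ D
    have hRW : R ≤ Subgroup.normalizer (W : Set G) := by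
      refine le_normalizer_of_map_conj fun r hr => Subgroup.eq_of_le_of_card_ge ?_
        (Nat.card_congr (W.equivMapOfInjective _ (MulAut.conj r).injective).toEquiv).le
      rw [Subgroup.map_sup, map_conj_eq_iff.2 (hRD hr)]
      refine sup_le ?_ le_sup_right
      rintro _ ⟨a, ha, rfl⟩
      show r * a * r⁻¹ ∈ W
      rw [show r * a * r⁻¹ = ⁅r, a⁆ * a by rw [commutatorElement_def, inv_mul_cancel_right]]
      exact mul_mem (Subgroup.mem_sup_right (hUR (Subgroup.commutator_mem_commutator hr ha))) (Subgroup.mem_sup_left ha)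
    have hWO : W ≤ Cfsg.pCoreOf p X := by
      refine le_pCoreOf (sup_le (hUP.trans hP.1) ((pCoreOf_le H).trans hHX)) (hHP.trans (sup_le hRW ?_))
        ((hP.2.1.to_le hUP).to_sup_of_normal_right' (isPGroup_pCoreOf H) hUn)
      exact CfsgLib.LocalEven.PReduced.normalizer_sup
        (CfsgLib.LocalEven.PReduced.normalizer_inf Subgroup.le_normalizer (hP.1.trans hN'X)) (hP.1.trans hDX)
    intro a ha
    exact (hO_eq a).2 (hWO (Subgroup.mem_sup_left ⟨ha.1, a, ha.2, rfl⟩))

end Cfsg.Agent.S2854
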