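import Cfsg.Statements.S2855
import Cfsg.Agent.Lib.LocalEven.Irreducible
import Cfsg.Agent.Lib.LocalEven.Commutators

set_option autoImplicit false
open Cfsg

namespace Cfsg.Agent.S2855

open CfsgLib.Fusion.Basic CfsgLib.LocalEven.SylowIn CfsgLib.LocalEven.PReduced
open scoped commutatorElement

variable {G : Type*} [Group G] [Finite G] {p : ℕ} [Fact p.Prime]

/-- `O^p` of a subgroup, in the ambient group. -/
abbrev res (p : ℕ) (E : Subgroup G) : Subgroup G := (Cfsg.pResidual p ↥E).map E.subtype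

theorem coprime_of_central {E : Subgroup G} (hO : pCoreOf p E = ⊥) {z : G} (hzE : z ∈ E)
    (hz : z ∈ Subgroup.centralizer (E : Set G)) : (orderOf z).Coprime p := by
  have hpp : p.Prime := Fact.out
  obtain ⟨k, m, hm, hk⟩ := Nat.exists_eq_pow_mul_and_not_dvd (orderOf_pos z).ne' p hpp.ne_one
  have hm0 : m ≠ 0 := by rintro rfl; exact hm (dvd_zero p)
  have ho : orderOf (z ^ m) = p ^ k := by
    rw [orderOf_pow' z hm0, hk, Nat.gcd_eq_right (Dvd.intro_left _ rfl), Nat.mul_div_cancel _ (Nat.pos_of_ne_zero hm0)]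
  have hle : Subgroup.zpowers (z ^ m) ≤ pCoreOf p E := by
    refine le_pCoreOf (Subgroup.zpowers_le.2 (pow_mem hzE m)) ?_ (IsPGroup.of_card (n := k) (by rw [Nat.card_zpowers, ho]))
    exact (Subgroup.le_centralizer_iff.1 (Subgroup.zpowers_le.2 (pow_mem hz m))).trans (Subgroup.centralizer_le_normalizer _)
  rw [hO] at hle
  have h1 : z ^ m = 1 := Subgroup.mem_bot.1 (hle (Subgroup.mem_zpowers _))
  exact Nat.Coprime.coprime_dvd_left (orderOf_dvd_of_pow_eq_one h1) ((hpp.coprime_iff_not_dvd.2 hm).symm)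

omit [Finite G] in
theorem eq_one_of_commutator {t a : G} (ht : ∃ k, orderOf t = p ^ k) (hc : Commute t ⁅t, a⁆)
    (hcop : (orderOf ⁅t, a⁆).Coprime p) : ⁅t, a⁆ = 1 := by
  obtain ⟨k, hk⟩ := ht
  set z := ⁅t, a⁆ with hz
  have h1 : ∀ n : ℕ, t ^ n * a = z ^ n * a * t ^ n := by
    intro n
    induction n with
    | zero => simp
    | succ n ih =>
      calc t ^ (n + 1) * a = t * (t ^ n * a) := by rw [pow_succ', mul_assoc]
        _ = z ^ n * (t * a) * t ^ n := by rw [ih, ← mul_assoc, ← mul_assoc, (hc.pow_right n).eq]; group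
        _ = z ^ n * (z * a * t) * t ^ n := by rw [show t * a = z * a * t by rw [hz, commutatorElement_def]; group]
        _ = z ^ (n + 1) * a * t ^ (n + 1) := by rw [pow_succ z n, pow_succ' t n]; simp only [mul_assoc]
  have h2 := h1 (p ^ k)
  rw [← hk, pow_orderOf_eq_one, one_mul, mul_one, hk] at h2
  have h3 : z ^ p ^ k = 1 := mul_eq_right.1 h2.symm
  exact orderOf_eq_one_iff.1 (Nat.eq_one_of_dvd_coprimes (Nat.Coprime.pow_right k hcop) dvd_rfl (orderOf_dvd_of_pow_eq_one h3))

theorem le_res_sup_sylow {E TE : Subgroup G} (hTE : IsSylowIn p TE E) : E ≤ res p E ⊔ TE := fun x hx => by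
  obtain ⟨w, hw, u, hu, he⟩ := exists_eq_pResidual_mul hTE.toSylow (⟨x, hx⟩ : E)
  rw [show x = (w : G) * (u : G) from congrArg Subtype.val he]
  exact mul_mem (Subgroup.mem_sup_left ⟨w, hw, rfl⟩) (Subgroup.mem_sup_right hu)

theorem isPElem {T : Subgroup G} (hT : IsPGroup p T) {t : G} (ht : t ∈ T) : ∃ k, orderOf t = p ^ k := by
  obtain ⟨k, hk⟩ := IsPGroup.iff_orderOf.1 hT ⟨t, ht⟩
  exact ⟨k, by rwa [Subgroup.orderOf_mk] at hk⟩

/-- If `[E, X]` is central in `E` then it is trivial. -/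
theorem commutator_eq_bot_of_central {E TE X : Subgroup G} (hO : pCoreOf p E = ⊥) (hTE : IsSylowIn p TE E)
    (hA : res p E ≤ ⁅E, E⁆) (hX : ⁅E, X⁆ ≤ E ⊓ Subgroup.centralizer (E : Set G)) : ⁅E, X⁆ = ⊥ := by
  rw [Subgroup.commutator_eq_bot_iff_le_centralizer]
  refine (le_res_sup_sylow hTE).trans (sup_le ?_ fun t ht => ?_)
  · refine hA.trans ?_
    have h1 : ⁅⁅E, X⁆, E⁆ = ⊥ := Subgroup.commutator_eq_bot_iff_le_centralizer.2 (hX.trans inf_le_right)
    rw [← Subgroup.commutator_eq_bot_iff_le_centralizer]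
    refine Subgroup.commutator_commutator_eq_bot_of_rotate h1 ?_
    rw [Subgroup.commutator_comm X E]
    exact h1
  · refine Subgroup.mem_centralizer_iff.2 fun x hx => ?_
    obtain ⟨hzE, hzC⟩ := Subgroup.mem_inf.1 (hX (Subgroup.commutator_mem_commutator (hTE.1 ht) hx))
    have h := eq_one_of_commutator (isPElem hTE.2.1 ht) (Subgroup.mem_centralizer_iff.1 hzC t (hTE.1 ht))
      (coprime_of_central hO hzE hzC)
    exact (commutatorElement_eq_one_iff_mul_comm.1 h).symm

theorem res_le (E : Subgroup G) : res p E ≤ E := Subgroup.map_subtype_le _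

omit [Finite G] [Fact p.Prime] in
theorem res_mem {E : Subgroup G} {x : G} (hx : x ∈ E) (hc : (orderOf x).Coprime p) : x ∈ res p E :=
  mem_map_pResidual_of_coprime hx hc

theorem res_map {H : Type*} [Group H] [Finite H] (f : G →* H) (E : Subgroup G) :
    (res p E).map f = res p (E.map f) := by
  unfold res
  rw [← map_pResidual_eq (f.subgroupMap E) (f.subgroupMap_surjective E), Subgroup.map_map, Subgroup.map_map]
  rfl

/-- The structure theorem in a group with trivial `O_p`. -/
theorem core (T : Sylow p G) (hO : Cfsg.pCore p G = ⊥) (𝒦 : Set (Subgroup G)) (hne : 𝒦.Nonempty)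
    (hinv : ∀ h : G, ∀ E ∈ 𝒦, E.map (MulAut.conj h).toMonoidHom ∈ 𝒦)
    (htr : ∀ E ∈ 𝒦, ∀ K ∈ 𝒦, ∃ h : G, K = E.map (MulAut.conj h).toMonoidHom)
    (hres : Cfsg.pResidual p G ≤ sSup 𝒦) (hn : ∀ E ∈ 𝒦, sSup 𝒦 ≤ Subgroup.normalizer (E : Set G))
    (hs : ∀ E ∈ 𝒦, ∀ N : Subgroup G, N ≤ E → E ≤ Subgroup.normalizer (N : Set G) → ⁅N, E⁆ = ⊥ ∨ res p E ≤ N)
    (hnc : ∀ E ∈ 𝒦, (T : Subgroup G) ⊓ E ≠ ⊥) :
    (∀ E ∈ 𝒦, ∀ K ∈ 𝒦, res p E = res p K ∨ ⁅E, K⁆ = ⊥) ∧
      ∀ N : Subgroup G, N.Normal → (T : Subgroup G) ⊓ N ≠ ⊥ → Cfsg.pResidual p G ≤ N := by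
  set R := sSup 𝒦
  haveI hRn : R.Normal := by
    refine ⟨fun x hx g => ?_⟩
    have h : R.map (MulAut.conj g).toMonoidHom ≤ R := by
      rw [Subgroup.map_le_iff_le_comap]
      exact sSup_le fun E hE => Subgroup.map_le_iff_le_comap.1 (le_sSup (hinv g E hE))
    exact h ⟨x, hx, rfl⟩
  have hER : ∀ E ∈ 𝒦, E ≤ R := fun E hE => le_sSup hE
  have hEsn : ∀ E ∈ 𝒦, E.IsSubnormal := fun E hE =>
    isSubnormal_of_normal hRn.isSubnormal (hER E hE) (hn E hE)
  have hsmall : ∀ U : Subgroup G, U.IsSubnormal → IsPGroup p U → U = ⊥ := fun U hU hp =>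
    le_bot_iff.1 (hO ▸ CfsgLib.LocalEven.Residual.le_pCore_of_isSubnormal hU hp)
  have hTR : IsSylowIn p ((T : Subgroup G) ⊓ R) R :=
    IsSylowIn.inf_normal (isSylowIn_of_sylow T (L := ⊤) le_top) le_top (Subgroup.normalizer_eq_top (H := R)).ge
  have hOE : ∀ E ∈ 𝒦, pCoreOf p E = ⊥ := fun E hE =>
    hsmall _ (isSubnormal_of_normal (hEsn E hE) (pCoreOf_le E) (normalizer_pCoreOf E)) (isPGroup_pCoreOf E)
  have hTE : ∀ E ∈ 𝒦, IsSylowIn p ((T : Subgroup G) ⊓ E) E := fun E hE => by
    have := IsSylowIn.inf_normal hTR (hER E hE) (hn E hE)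
    rwa [inf_assoc, inf_eq_right.2 (hER E hE)] at this
  have hA : ∀ E ∈ 𝒦, res p E ≤ ⁅E, E⁆ := by
    intro E hE
    refine (hs E hE ⁅E, E⁆ (Subgroup.commutator_le_self E) ?_).resolve_left fun h => hnc E hE ?_
    · exact CfsgLib.LocalEven.PReduced.normalizer_commutator Subgroup.le_normalizer Subgroup.le_normalizer
    · have hz : ⁅E, E⁆ ≤ Subgroup.centralizer (E : Set G) := Subgroup.commutator_eq_bot_iff_le_centralizer.1 h
      refine hsmall _ (isSubnormal_of_normal (hEsn E hE) inf_le_right ?_) (T.2.to_le inf_le_left)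
      refine Subgroup.le_centralizer_iff.1 ?_ |>.trans (Subgroup.centralizer_le_normalizer _)
      intro t ht
      refine Subgroup.mem_centralizer_iff.2 fun e he => ?_
      have hm := Subgroup.commutator_mem_commutator (hTE E hE |>.1 ht) he
      have h1 := eq_one_of_commutator (isPElem (hTE E hE).2.1 ht) (Subgroup.mem_centralizer_iff.1 (hz hm) t ((hTE E hE).1 ht))
        (coprime_of_central (hOE E hE) (Subgroup.commutator_le_self E hm) (hz hm))
      exact (commutatorElement_eq_one_iff_mul_comm.1 h1).symm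
  have hconj : ∀ E ∈ 𝒦, ∀ g : G, (res p E).map (MulAut.conj g).toMonoidHom = res p (E.map (MulAut.conj g).toMonoidHom) :=
    fun E _ g => res_map _ E
  have hdich : ∀ E ∈ 𝒦, ∀ K ∈ 𝒦, res p E = res p K ∨ ⁅E, K⁆ = ⊥ := by
    intro E hE K hK
    have hEK : ⁅E, K⁆ ≤ E ⊓ K :=
      le_inf (Subgroup.le_normalizer_iff_commutator_le_left.1 ((hER K hK).trans (hn E hE)))
        (Subgroup.le_normalizer_iff_commutator_le_right.1 ((hER E hE).trans (hn K hK)))
    rcases hs E hE (E ⊓ K) inf_le_left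
      (CfsgLib.LocalEven.PReduced.normalizer_inf Subgroup.le_normalizer ((hER E hE).trans (hn K hK))) with h | h
    · refine Or.inr (commutator_eq_bot_of_central (hOE E hE) (hTE E hE) (hA E hE) (le_inf (hEK.trans inf_le_left) ?_))
      exact hEK.trans (Subgroup.commutator_eq_bot_iff_le_centralizer.1 h)
    · refine Or.inl (Subgroup.eq_of_le_of_card_ge ?_ ?_)
      · exact CfsgLib.LocalEven.Residual.map_pResidual_le_iff.2 fun x hx hc => res_mem (h (res_mem hx hc) |>.2) hc
      · obtain ⟨g, rfl⟩ := htr E hE K hK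
        rw [← hconj E hE g, Subgroup.card_map_of_injective (MulAut.conj g).injective]
  refine ⟨hdich, fun N hN hTN => ?_⟩
  set C := ⨆ E : 𝒦, res p (E : Subgroup G)
  have hG : R ⊔ (T : Subgroup G) = ⊤ := top_le_iff.1 ((pResidual_sup_sylow T).ge.trans (sup_le_sup_right hres _))
  have hCT : C ⊔ (T : Subgroup G) = ⊤ := by
    refine top_le_iff.1 (hG.ge.trans (sup_le (sSup_le fun E hE => ?_) le_sup_right))
    exact (le_res_sup_sylow (hTE E hE)).trans (sup_le_sup (le_iSup (fun E : 𝒦 => res p (E : Subgroup G)) ⟨E, hE⟩) inf_le_left)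
  by_cases hall : ∀ E ∈ 𝒦, res p E ≤ N
  · refine CfsgLib.LocalEven.Irreducible.pResidual_le_of_sup_eq_top T (top_le_iff.1 (hCT.ge.trans ?_))
    exact sup_le_sup_right (iSup_le fun E : 𝒦 => hall _ E.2) _
  exfalso
  refine hTN ?_
  have hNn : ∀ U : Subgroup G, U ≤ Subgroup.normalizer (N : Set G) := fun U => (Subgroup.normalizer_eq_top (H := N)) ▸ le_top
  have hRnn : ∀ U : Subgroup G, U ≤ Subgroup.normalizer (R : Set G) := fun U => (Subgroup.normalizer_eq_top (H := R)) ▸ le_top
  have hcen : ∀ E ∈ 𝒦, E ⊓ N ≤ Subgroup.centralizer (E : Set G) := by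
    intro E hE
    rcases hs E hE (E ⊓ N) inf_le_left (CfsgLib.LocalEven.PReduced.normalizer_inf Subgroup.le_normalizer (hNn E)) with h | h
    · exact Subgroup.commutator_eq_bot_iff_le_centralizer.1 h
    · refine absurd (fun K hK => ?_) hall
      obtain ⟨g, rfl⟩ := htr E hE K hK
      rw [← hconj E hE g, ← Subgroup.Normal.map_conj_eq N g]
      exact Subgroup.map_mono (h.trans inf_le_right)
  have hRN : ∀ E ∈ 𝒦, ⁅E, N ⊓ R⁆ = ⊥ := fun E hE => by
    refine commutator_eq_bot_of_central (hOE E hE) (hTE E hE) (hA E hE) (le_inf ?_ (le_trans (le_inf ?_ ?_) (hcen E hE)))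
    · exact Subgroup.le_normalizer_iff_commutator_le_left.1 (inf_le_right.trans (hn E hE))
    · exact Subgroup.le_normalizer_iff_commutator_le_left.1 (inf_le_right.trans (hn E hE))
    · exact (Subgroup.le_normalizer_iff_commutator_le_right.1 (le_inf (hNn E) (hRnn E) |>.trans
        (CfsgLib.LocalEven.PReduced.normalizer_inf inf_le_left inf_le_right))).trans inf_le_left
  -- `T ∩ N ∩ R` is trivial
  set U := (T : Subgroup G) ⊓ (N ⊓ R)
  have hU : U = ⊥ := by
    refine hsmall U (Subgroup.Normal.isSubnormal (Subgroup.normalizer_eq_top_iff.1 (top_le_iff.1 (hG.ge.trans (sup_le ?_ ?_))))) (T.2.to_le inf_le_left)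
    · refine (sSup_le fun E hE => ?_)
      exact ((Subgroup.commutator_eq_bot_iff_le_centralizer.1 (hRN E hE)).trans (Subgroup.centralizer_le inf_le_right)).trans
        (Subgroup.centralizer_le_normalizer _)
    · exact CfsgLib.LocalEven.PReduced.normalizer_inf Subgroup.le_normalizer
        (CfsgLib.LocalEven.PReduced.normalizer_inf (hNn _) (hRnn _))
  have hTu : ∀ u ∈ (T : Subgroup G) ⊓ N, ∀ t ∈ (T : Subgroup G) ⊓ R, t * u = u * t := by
    intro u hu t ht
    have h : ⁅t, u⁆ ∈ U := by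
      refine Subgroup.mem_inf.2 ⟨?_, Subgroup.mem_inf.2 ⟨?_, ?_⟩⟩
      · rw [commutatorElement_def]
        exact mul_mem (mul_mem (mul_mem ht.1 hu.1) (inv_mem ht.1)) (inv_mem hu.1)
      · rw [commutatorElement_def]
        exact mul_mem (hN.conj_mem u hu.2 t) (inv_mem hu.2)
      · rw [commutatorElement_def, mul_assoc, mul_assoc, ← mul_assoc u]
        exact mul_mem ht.2 (hRn.conj_mem _ (inv_mem ht.2) u)
    rw [hU, Subgroup.mem_bot] at h
    exact commutatorElement_eq_one_iff_mul_comm.1 h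
  have hfix : ∀ u ∈ (T : Subgroup G) ⊓ N, ∀ E ∈ 𝒦, u ∈ Subgroup.normalizer (res p E : Set G) := by
    intro u hu E hE
    have hK := hinv u E hE
    rcases hdich E hE _ hK with h | h
    · exact map_conj_eq_iff.1 ((hconj E hE u).trans h.symm)
    · exfalso
      refine hnc E hE (hsmall _ (isSubnormal_of_normal (hEsn E hE) inf_le_right ?_) (T.2.to_le inf_le_left))
      refine le_trans (le_trans (Subgroup.commutator_eq_bot_iff_le_centralizer.1 h) (Subgroup.centralizer_le ?_))
        (Subgroup.centralizer_le_normalizer _)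
      intro t ht
      refine ⟨t, ht.2, ?_⟩
      show u * t * u⁻¹ = t
      rw [← hTu u hu t ⟨ht.1, hER E hE ht.2⟩, mul_inv_cancel_right]
  have hfin : ∀ u ∈ (T : Subgroup G) ⊓ N, ∀ E ∈ 𝒦, res p E ≤ Subgroup.centralizer ({u} : Set G) := by
    intro u hu E hE
    set A := res p E
    set TE := (T : Subgroup G) ⊓ E
    set Z := Subgroup.zpowers u
    have hAE : A ≤ E := res_le E
    have hEA : E ≤ Subgroup.normalizer (A : Set G) :=
      Subgroup.le_normalizer.trans (CfsgLib.LocalEven.Residual.normalizer_map_pResidual E)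
    -- `A = [A, T_E]`
    set B := ⁅A, TE⁆
    have hBA : B ≤ A := Subgroup.le_normalizer_iff_commutator_le_left.1 (inf_le_right.trans hEA)
    have hEB : E ≤ Subgroup.normalizer (B : Set G) := (le_res_sup_sylow (hTE E hE)).trans
      (sup_le (CfsgLib.LocalEven.Commutators.normalizer_commutator_left A TE) (CfsgLib.LocalEven.Commutators.normalizer_commutator_right A TE))
    have hAB : A ≤ B := by
      refine (hs E hE B (hBA.trans hAE) hEB).resolve_left fun h => hnc E hE ?_
      refine hsmall _ (isSubnormal_of_normal (hEsn E hE) inf_le_right ?_) (T.2.to_le inf_le_left)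
      refine (le_res_sup_sylow (hTE E hE)).trans (sup_le ?_ Subgroup.le_normalizer)
      refine le_trans (Subgroup.le_centralizer_iff.1 fun t ht => ?_) (Subgroup.centralizer_le_normalizer _)
      refine Subgroup.mem_centralizer_iff.2 fun a ha => ?_
      have hm : ⁅t, a⁆ ∈ B := by
        show ⁅t, a⁆ ∈ ⁅A, TE⁆
        rw [Subgroup.commutator_comm]; exact Subgroup.commutator_mem_commutator ht ha
      have hzC := Subgroup.commutator_eq_bot_iff_le_centralizer.1 h hm
      have h1 := eq_one_of_commutator (isPElem (hTE E hE).2.1 ht) (Subgroup.mem_centralizer_iff.1 hzC t ht.2)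
        (coprime_of_central (hOE E hE) (hAE (hBA hm)) hzC)
      exact (commutatorElement_eq_one_iff_mul_comm.1 h1).symm
    have hZA : Z ≤ Subgroup.normalizer (A : Set G) := Subgroup.zpowers_le.2 (hfix u hu E hE)
    have h1 : ⁅⁅TE, Z⁆, A⁆ = ⊥ := by
      have : ⁅TE, Z⁆ = ⊥ := Subgroup.commutator_eq_bot_iff_le_centralizer.2 fun t ht =>
        Subgroup.mem_centralizer_iff.2 fun z hz => by
          obtain ⟨k, rfl⟩ := hz
          exact ((Commute.zpow_right (hTu u hu t ⟨ht.1, hER E hE ht.2⟩ : Commute t u) k).eq).symm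
      rw [this, Subgroup.commutator_bot_left]
    have h2 : ⁅⁅Z, A⁆, TE⁆ = ⊥ := by
      refine Subgroup.commutator_eq_bot_iff_le_centralizer.2 ?_
      refine le_trans (le_trans (le_inf ?_ ?_) (hcen E hE)) (Subgroup.centralizer_le inf_le_right)
      · exact (Subgroup.le_normalizer_iff_commutator_le_right.1 hZA).trans hAE
      · exact (Subgroup.commutator_mono (Subgroup.zpowers_le.2 hu.2) le_rfl).trans (Subgroup.le_normalizer_iff_commutator_le_left.1 (hNn A))
    have h3 : ⁅⁅A, TE⁆, Z⁆ = ⊥ := Subgroup.commutator_commutator_eq_bot_of_rotate h1 h2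
    exact (hAB.trans (Subgroup.commutator_eq_bot_iff_le_centralizer.1 h3)).trans
      (Subgroup.centralizer_le (Set.singleton_subset_iff.2 (Subgroup.mem_zpowers u)))
  set W := (T : Subgroup G) ⊓ N
  refine hsmall W (Subgroup.Normal.isSubnormal (Subgroup.normalizer_eq_top_iff.1 (top_le_iff.1 (hCT.ge.trans (sup_le ?_ ?_))))) (T.2.to_le inf_le_left)
  · refine (iSup_le fun E : 𝒦 => ?_)
    refine le_trans ?_ (Subgroup.centralizer_le_normalizer _)
    intro a ha
    exact Subgroup.mem_centralizer_iff.2 fun u hu => (Subgroup.mem_centralizer_iff.1 (hfin u hu E E.2 ha) u rfl)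
  · exact CfsgLib.LocalEven.PReduced.normalizer_inf Subgroup.le_normalizer (hNn _)

theorem sylow_of_member (T : Sylow p G) {Q E R : Subgroup G} [hQ : Q.Normal] [hR : R.Normal] (hQp : IsPGroup p Q)
    (hER : E ≤ R) (hn : R ⊔ Q ≤ Subgroup.normalizer ((E ⊔ Q : Subgroup G) : Set G)) :
    ∃ TE, IsSylowIn p TE E ∧ (T : Subgroup G) ⊓ (E ⊔ Q) = TE ⊔ Q := by
  have hS : IsSylowIn p ((T : Subgroup G) ⊓ (E ⊔ Q)) (E ⊔ Q) := by
    have h1 : IsSylowIn p ((T : Subgroup G) ⊓ (R ⊔ Q)) (R ⊔ Q) :=
      IsSylowIn.inf_normal (isSylowIn_of_sylow T (L := ⊤) le_top) le_top (Subgroup.normalizer_eq_top (H := R ⊔ Q)).ge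
    have := IsSylowIn.inf_normal h1 (sup_le_sup_right hER Q) hn
    rwa [inf_assoc, inf_eq_right.2 (sup_le_sup_right hER Q)] at this
  obtain ⟨P, hP, -⟩ := exists_isSylowIn (p := p) E bot_le (IsPGroup.of_bot (G := G) (p := p))
  have hPQ : IsSylowIn p (P ⊔ Q) (E ⊔ Q) := by
    refine ⟨sup_le_sup_right hP.1 Q, hP.2.1.to_sup_of_normal_right' hQp ((Subgroup.normalizer_eq_top (H := Q)) ▸ le_top), fun U hU hUp hle => le_antisymm ?_ hle⟩
    intro x hx
    have hx' := hU hx
    rw [← SetLike.mem_coe, Subgroup.mul_normal] at hx'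
    obtain ⟨e, he, q, hq, rfl⟩ := hx'
    have heU : e ∈ U := by
      have := mul_mem hx (inv_mem (hle (Subgroup.mem_sup_right hq)))
      rwa [mul_inv_cancel_right] at this
    have h2 : U ⊓ E = P := hP.2.2 _ inf_le_right (hUp.to_le inf_le_left) (le_inf (le_sup_left.trans hle) hP.1)
    exact mul_mem (Subgroup.mem_sup_left (h2.le ⟨heU, he⟩)) (Subgroup.mem_sup_right hq)
  obtain ⟨x, hx, he⟩ := hPQ.conjugate hS
  rw [← SetLike.mem_coe, Subgroup.mul_normal] at hx
  obtain ⟨e, hee, q, hq, rfl⟩ := hx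
  refine ⟨P.map (MulAut.conj e).toMonoidHom, ?_, ?_⟩
  · have := hP.map_conj e
    rwa [map_conj_eq_iff.2 (Subgroup.le_normalizer hee)] at this
  · rw [he, ← map_conj_conj, map_conj_eq_iff.2 (Subgroup.le_normalizer (Subgroup.mem_sup_right hq)), Subgroup.map_sup,
      show Q.map (MulAut.conj e).toMonoidHom = Q from Subgroup.Normal.map_conj_eq Q e]

/-- Let H be a finite group, p a prime, and 𝒦 a nonempty set of subgroups of H permuted transitively by conjugation, with R the subgroup generated by the members of 𝒦. Suppose O^p(H) ≤ R, each E ∈ 𝒦 has E·O_p(H) normal in R·O_p(H), and each E ∈ 𝒦 is p-minimal (generated by the conjugates of a Sylow p-subgroup T_E of E, with T_E in exactly one maximal subgroup of E). Then H is p-minimal in the same sense. If instead each E ∈ 𝒦 is strongly p-irreducible, then H is p-irreducible and, for E, K ∈ 𝒦, either O^p(E·O_p(H)) = O^p(K·O_p(H)) or [E, K] ≤ O_p(H). -/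
theorem result {H : Type*} [Group H] [Finite H] {p : ℕ} [Fact p.Prime] (𝒦 : Set (Subgroup H)) (hne : 𝒦.Nonempty) (hinv : ∀ h : H, ∀ E ∈ 𝒦, E.map (MulAut.conj h).toMonoidHom ∈ 𝒦) (htr : ∀ E ∈ 𝒦, ∀ K ∈ 𝒦, ∃ h : H, K = E.map (MulAut.conj h).toMonoidHom) (hres : Cfsg.pResidual p H ≤ sSup 𝒦) (hnorm : ∀ E ∈ 𝒦, sSup 𝒦 ⊔ Cfsg.pCore p H ≤ Subgroup.normalizer ((E ⊔ Cfsg.pCore p H : Subgroup H) : Set H)) : ((∀ E ∈ 𝒦, ∀ T : Sylow p ↥E, Cfsg.IsMinimalOver (T : Subgroup ↥E)) → ∀ T : Sylow p H, Cfsg.IsMinimalOver (T : Subgroup H)) ∧ ((∀ E ∈ 𝒦, Cfsg.IsStronglyPIrreducible p ↥E) → Cfsg.IsPIrreducible p H ∧ ∀ E ∈ 𝒦, ∀ K ∈ 𝒦, (Cfsg.pResidual p ↥(E ⊔ Cfsg.pCore p H)).map (E ⊔ Cfsg.pCore p H).subtype = (Cfsg.pResidual p ↥(K ⊔ Cfsg.pCore p H)).map (K ⊔ Cfsg.pCore p H).subtype ∨ ⁅E, K⁆ ≤ Cfsg.pCore p H) := by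
  classical
  set Q := Cfsg.pCore p H
  set R := sSup 𝒦
  haveI hQn : Q.Normal := CfsgLib.LocalEven.SylowIn.pCore_normal H p
  have hQp : IsPGroup p Q := isPGroup_pCore H p
  haveI hRn : R.Normal := by
    refine ⟨fun x hx g => ?_⟩
    have h : R.map (MulAut.conj g).toMonoidHom ≤ R := by
      rw [Subgroup.map_le_iff_le_comap]
      exact sSup_le fun E hE => Subgroup.map_le_iff_le_comap.1 (le_sSup (hinv g E hE))
    exact h ⟨x, hx, rfl⟩
  have hER : ∀ E ∈ 𝒦, E ≤ R := fun E hE => le_sSup hE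
  have hsub : ∀ E ∈ 𝒦, (E ⊔ Q).IsSubnormal := fun E hE =>
    isSubnormal_of_normal (inferInstance : (R ⊔ Q).Normal).isSubnormal (sup_le_sup_right (hER E hE) Q) (hnorm E hE)
  constructor
  · intro hmin T
    have hQT : Q ≤ (T : Subgroup H) := hQp.le_sylow_of_normal T
    have hG : R ⊔ (T : Subgroup H) = ⊤ := top_le_iff.1 ((pResidual_sup_sylow T).ge.trans (sup_le_sup_right hres _))
    choose TE hTE hTeq using fun E : 𝒦 => sylow_of_member T hQp (hER E E.2) (hnorm E E.2)
    refine ⟨?_, ?_⟩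
    · set N := Subgroup.normalClosure ((T : Subgroup H) : Set H)
      have hTN : (T : Subgroup H) ≤ N := Subgroup.le_normalClosure
      refine top_le_iff.1 (hG.ge.trans (sup_le (sSup_le fun E hE => ?_) hTN))
      have h1 : TE ⟨E, hE⟩ ≤ N := le_trans (le_trans le_sup_left (hTeq ⟨E, hE⟩).ge) (inf_le_left.trans hTN)
      haveI : (N.subgroupOf E).Normal := Subgroup.normal_subgroupOf
      have h2 := CfsgLib.LocalEven.Irreducible.not_le_of_normal (hmin E hE (hTE ⟨E, hE⟩).toSylow) (N := N.subgroupOf E) (fun x hx => h1 hx)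
      exact Subgroup.subgroupOf_eq_top.1 h2
    · -- the proper subgroups of `E Q` over its Sylow subgroup
      let S : Subgroup H → Subgroup H := fun X => (T : Subgroup H) ⊓ X
      let U : Subgroup H → Subgroup H := fun X => sSup {K | S X ≤ K ∧ K ≤ X ∧ K ≠ X}
      have hUlt : ∀ E ∈ 𝒦, ¬ E ≤ U (E ⊔ Q) := by
        intro E hE
        obtain ⟨ME, hME, hTM⟩ := (hmin E hE (hTE ⟨E, hE⟩).toSylow).2.exists
        set M' := ME.map E.subtype
        have hb : U (E ⊔ Q) ≤ M' ⊔ Q := by
          refine sSup_le fun K hK => ?_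
          obtain ⟨hSK, hKE, hne'⟩ := hK
          have hQK : Q ≤ K := (le_inf hQT le_sup_right).trans hSK
          intro x hx
          have hx' := hKE hx
          rw [← SetLike.mem_coe, Subgroup.mul_normal] at hx'
          obtain ⟨e, he, q, hq, rfl⟩ := hx'
          refine mul_mem (Subgroup.mem_sup_left ?_) (Subgroup.mem_sup_right hq)
          have heK : e ∈ K := by
            have := mul_mem hx (inv_mem (hQK hq))
            rwa [mul_inv_cancel_right] at this
          have hKne : K.subgroupOf E ≠ ⊤ := fun h =>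
            hne' (le_antisymm hKE (sup_le (Subgroup.subgroupOf_eq_top.1 h) hQK))
          exact ⟨⟨e, he⟩, CfsgLib.LocalEven.Irreducible.le_of_ne_top (hmin E hE (hTE ⟨E, hE⟩).toSylow) hME hTM hKne
            (fun y hy => hSK ((hTeq ⟨E, hE⟩).ge (Subgroup.mem_sup_left hy))) heK, rfl⟩
        intro hle
        have hEM : E ≤ M' := by
          intro x hx
          have hx' := (hle.trans hb) hx
          rw [← SetLike.mem_coe, Subgroup.mul_normal] at hx'
          obtain ⟨m, hm, q, hq, rfl⟩ := hx'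
          refine mul_mem hm ?_
          have hqE : q ∈ E := by
            have := mul_mem (inv_mem (Subgroup.map_subtype_le ME hm)) hx
            rwa [inv_mul_cancel_left] at this
          have h1 : Q ⊓ E ≤ pCoreOf p E := le_pCoreOf inf_le_right
            (CfsgLib.LocalEven.PReduced.normalizer_inf ((Subgroup.normalizer_eq_top (H := Q)) ▸ le_top) Subgroup.le_normalizer) (hQp.to_le inf_le_left)
          exact ⟨⟨q, hqE⟩, hTM (pCoreOf_le_sylowIn (hTE ⟨E, hE⟩) (h1 ⟨hq, hqE⟩)), rfl⟩
        refine hME.1 (top_le_iff.1 fun y _ => ?_)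
        obtain ⟨z, hz, he⟩ := hEM y.2
        rwa [← Subtype.ext he]
      have hUn : ∀ X : Subgroup H, ∀ g, g ∈ Subgroup.normalizer (X : Set H) → g ∈ Subgroup.normalizer (S X : Set H) →
          g ∈ Subgroup.normalizer (U X : Set H) := by
        intro X g hgX hgS
        refine map_conj_eq_iff.1 (Subgroup.eq_of_le_of_card_ge ?_
          (Nat.card_congr ((U X).equivMapOfInjective _ (MulAut.conj g).injective).toEquiv).le)
        rw [Subgroup.map_le_iff_le_comap]
        refine sSup_le fun K hK => Subgroup.map_le_iff_le_comap.1 (le_sSup ?_)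
        refine ⟨?_, ?_, fun h => hK.2.2 ?_⟩
        · rw [← map_conj_eq_iff.2 hgS]; exact Subgroup.map_mono hK.1
        · rw [← map_conj_eq_iff.2 hgX]; exact Subgroup.map_mono hK.2.1
        · rw [← map_conj_eq_iff.2 hgX] at h
          exact Subgroup.map_injective (MulAut.conj g).injective h
      -- no member lies in a maximal subgroup over `T`
      have hRnQ : ∀ E ∈ 𝒦, R ≤ Subgroup.normalizer ((E ⊔ Q : Subgroup H) : Set H) := fun E hE => le_sup_left.trans (hnorm E hE)
      set Mmax := (T : Subgroup H) ⊔ ((R ⊔ Q) ⊓ ⨅ E : 𝒦, Subgroup.normalizer ((U ((E : Subgroup H) ⊔ Q) : Subgroup H) : Set H)) with hMmax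
      have hbound : ∀ M : Subgroup H, IsCoatom M → (T : Subgroup H) ≤ M → M ≤ Mmax := by
        intro M hM hTM
        have hnoE : ∀ E ∈ 𝒦, ¬ E ≤ M := by
          intro E hE hEM
          refine hM.1 (top_le_iff.1 (hG.ge.trans (sup_le (sSup_le fun K hK => ?_) hTM)))
          obtain ⟨g, rfl⟩ := htr E hE K hK
          have hg : g ∈ R ⊔ (T : Subgroup H) := hG ▸ Subgroup.mem_top g
          rw [sup_comm, ← SetLike.mem_coe, Subgroup.mul_normal] at hg
          obtain ⟨t, ht, r, hr, rfl⟩ := hg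
          rw [← map_conj_conj]
          refine (Subgroup.map_mono ((Subgroup.map_mono le_sup_left).trans (map_conj_eq_iff.2 (hRnQ E hE hr)).le)).trans ?_
          refine (Subgroup.map_mono (sup_le hEM (hQT.trans hTM))).trans ?_
          exact le_of_eq (map_conj_eq_iff.2 (Subgroup.le_normalizer (hTM ht)))
        have hMR : M ⊓ (R ⊔ Q) ≤ (R ⊔ Q) ⊓ ⨅ E : 𝒦, Subgroup.normalizer ((U ((E : Subgroup H) ⊔ Q) : Subgroup H) : Set H) := by
          refine le_inf inf_le_right (le_iInf fun ⟨E, hE⟩ => ?_)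
          set X := E ⊔ Q
          intro x hx
          have hxX : x ∈ Subgroup.normalizer (X : Set H) := hnorm E hE hx.2
          set Y := M ⊓ X
          have hSY : IsSylowIn p (S X) Y := by
            have h1 : IsSylowIn p (S X) X := by
              have h0 : IsSylowIn p ((T : Subgroup H) ⊓ (R ⊔ Q)) (R ⊔ Q) :=
                IsSylowIn.inf_normal (isSylowIn_of_sylow T (L := ⊤) le_top) le_top (Subgroup.normalizer_eq_top (H := R ⊔ Q)).ge
              have h2 := IsSylowIn.inf_normal h0 (sup_le_sup_right (hER E hE) Q) (hnorm E hE)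
              rwa [inf_assoc, inf_eq_right.2 (sup_le_sup_right (hER E hE) Q)] at h2
            exact IsSylowIn.mono h1 (le_inf (inf_le_left.trans hTM) inf_le_right) inf_le_right
          have hYn : x ∈ Subgroup.normalizer (Y : Set H) :=
            CfsgLib.LocalEven.PReduced.normalizer_inf (L := Subgroup.zpowers x)
              (Subgroup.zpowers_le.2 (Subgroup.le_normalizer hx.1)) (Subgroup.zpowers_le.2 hxX) (Subgroup.mem_zpowers x)
          have h3 := hSY.map_conj x
          rw [map_conj_eq_iff.2 hYn] at h3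
          obtain ⟨m, hm, he⟩ := hSY.conjugate h3
          have h4 : m⁻¹ * x ∈ Subgroup.normalizer (S X : Set H) := by
            rw [← map_conj_eq_iff, ← map_conj_conj, he, map_conj_conj, inv_mul_cancel, map_conj_one]
          have h5 : m⁻¹ * x ∈ Subgroup.normalizer (X : Set H) := mul_mem (inv_mem (Subgroup.le_normalizer hm.2)) hxX
          have h6 := hUn X _ h5 h4
          have hYU : Y ≤ U X := le_sSup ⟨le_inf (inf_le_left.trans hTM) inf_le_right, inf_le_right,
            fun h => hnoE E hE ((le_sup_left : E ≤ X).trans (h.ge.trans inf_le_left))⟩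
          have := mul_mem (Subgroup.le_normalizer (hYU hm)) h6
          rwa [mul_inv_cancel_left] at this
        intro x hx
        have hx' : x ∈ (T : Subgroup H) ⊔ R := by rw [sup_comm, hG]; exact Subgroup.mem_top x
        rw [← SetLike.mem_coe, Subgroup.mul_normal] at hx'
        obtain ⟨t, ht, r, hr, rfl⟩ := hx'
        refine mul_mem (Subgroup.mem_sup_left ht) (Subgroup.mem_sup_right (hMR ⟨?_, Subgroup.mem_sup_left hr⟩))
        have := mul_mem (inv_mem (hTM ht)) hx
        rwa [inv_mul_cancel_left] at this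
      have hMne : Mmax ≠ ⊤ := by
        intro h
        obtain ⟨E, hE⟩ := hne
        refine hUlt E hE ?_
        have hEn : E ≤ Subgroup.normalizer (U (E ⊔ Q) : Set H) := by
          intro e he
          have hT1 : (T : Subgroup H) ≤ Subgroup.normalizer (((R ⊔ Q) ⊓ ⨅ E : 𝒦, Subgroup.normalizer ((U ((E : Subgroup H) ⊔ Q) : Subgroup H) : Set H) : Subgroup H) : Set H) := by
            refine le_normalizer_of_map_conj fun t ht => Subgroup.eq_of_le_of_card_ge ?_
              (Nat.card_congr (((R ⊔ Q) ⊓ ⨅ E : 𝒦, Subgroup.normalizer ((U ((E : Subgroup H) ⊔ Q) : Subgroup H) : Set H)).equivMapOfInjective _ (MulAut.conj t).injective).toEquiv).le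
            refine le_inf ((Subgroup.map_mono inf_le_left).trans (le_of_eq (Subgroup.Normal.map_conj_eq _ t))) (le_iInf fun K => ?_)
            set K' := (K : Subgroup H).map (MulAut.conj t⁻¹).toMonoidHom
            refine (Subgroup.map_mono (inf_le_right.trans (iInf_le _ ⟨K', hinv t⁻¹ K K.2⟩))).trans ?_
            rw [← normalizer_map_conj]
            refine le_of_eq (congrArg (fun X : Subgroup H => Subgroup.normalizer (X : Set H)) ?_)
            have hKQ : (K' ⊔ Q).map (MulAut.conj t).toMonoidHom = (K : Subgroup H) ⊔ Q := by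
              rw [Subgroup.map_sup, map_conj_conj, mul_inv_cancel, map_conj_one, show Q.map (MulAut.conj t).toMonoidHom = Q from Subgroup.Normal.map_conj_eq Q t]
            have hS' : ∀ X : Subgroup H, (S X).map (MulAut.conj t).toMonoidHom = S (X.map (MulAut.conj t).toMonoidHom) := fun X => by
              show ((T : Subgroup H) ⊓ X).map _ = _
              rw [Subgroup.map_inf _ _ _ (MulAut.conj t).injective, map_conj_eq_iff.2 (Subgroup.le_normalizer ht)]
            show Subgroup.map (MulAut.conj t).toMonoidHom (sSup {Z : Subgroup H | S (K' ⊔ Q) ≤ Z ∧ Z ≤ K' ⊔ Q ∧ Z ≠ K' ⊔ Q}) = sSup {Z : Subgroup H | S ((K : Subgroup H) ⊔ Q) ≤ Z ∧ Z ≤ (K : Subgroup H) ⊔ Q ∧ Z ≠ (K : Subgroup H) ⊔ Q}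
            rw [(Subgroup.gc_map_comap (MulAut.conj t).toMonoidHom).l_sSup, ← hKQ, ← hS']
            refine le_antisymm (iSup₂_le fun Z hZ => le_sSup ⟨Subgroup.map_mono hZ.1, Subgroup.map_mono hZ.2.1,
              fun h' => hZ.2.2 (Subgroup.map_injective (MulAut.conj t).injective h')⟩) (sSup_le fun Z hZ => ?_)
            obtain ⟨h1, h2, h3⟩ := hZ
            set Z' := Z.map (MulAut.conj t⁻¹).toMonoidHom
            have hZ' : Z'.map (MulAut.conj t).toMonoidHom = Z := by rw [map_conj_conj, mul_inv_cancel, map_conj_one]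
            rw [← hZ'] at h1 h2 h3 ⊢
            exact le_iSup₂_of_le Z' ⟨(Subgroup.map_le_map_iff_of_injective (MulAut.conj t).injective).1 h1,
              (Subgroup.map_le_map_iff_of_injective (MulAut.conj t).injective).1 h2, fun h' => h3 (by rw [h'])⟩ le_rfl
          have he' : e ∈ Mmax := by rw [h]; exact Subgroup.mem_top e
          rw [hMmax, ← SetLike.mem_coe, Subgroup.coe_mul_of_left_le_normalizer_right _ _ hT1] at he'
          obtain ⟨t, ht, w, hw, rfl⟩ := he'
          have hwN : w ∈ Subgroup.normalizer (U (E ⊔ Q) : Set H) := (iInf_le (fun E : 𝒦 => Subgroup.normalizer ((U ((E : Subgroup H) ⊔ Q) : Subgroup H) : Set H)) ⟨E, hE⟩) hw.2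
          refine mul_mem (hUn _ _ ?_ ?_) hwN
          · refine hnorm E hE ?_
            have := mul_mem (Subgroup.mem_sup_left (hER E hE he)) (inv_mem hw.1)
            rwa [mul_inv_cancel_right] at this
          · exact CfsgLib.LocalEven.PReduced.normalizer_inf (L := Subgroup.zpowers t) (Subgroup.zpowers_le.2 (Subgroup.le_normalizer ht))
              (Subgroup.zpowers_le.2 (hnorm E hE (by
                have := mul_mem (Subgroup.mem_sup_left (hER E hE he)) (inv_mem hw.1)
                rwa [mul_inv_cancel_right] at this))) (Subgroup.mem_zpowers t)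
        have hXn : (E ⊔ Q) ≤ Subgroup.normalizer (U (E ⊔ Q) : Set H) := by
          refine sup_le hEn fun q hq => hUn _ _ (Subgroup.le_normalizer (Subgroup.mem_sup_right hq)) (Subgroup.le_normalizer ⟨hQT hq, Subgroup.mem_sup_right hq⟩)
        have hUX : U (E ⊔ Q) ≤ E ⊔ Q := sSup_le fun K hK => hK.2.1
        have hTU : TE ⟨E, hE⟩ ≤ U (E ⊔ Q) := by
          refine le_trans (le_trans le_sup_left (hTeq ⟨E, hE⟩).ge) (le_sSup ⟨le_rfl, inf_le_right, fun h' => ?_⟩)
          obtain ⟨ME, hME, -⟩ := (hmin E hE (hTE ⟨E, hE⟩).toSylow).2.exists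
          have hEp : IsPGroup p E := T.2.to_le ((le_sup_left : E ≤ E ⊔ Q).trans (h'.ge.trans inf_le_left))
          have := (hTE ⟨E, hE⟩).2.2 E le_rfl hEp (hTE ⟨E, hE⟩).1
          obtain ⟨M₁, hM₁, hle₁⟩ := (hmin E hE (hTE ⟨E, hE⟩).toSylow).2.exists
          exact hM₁.1 (top_le_iff.1 fun y _ => hle₁ (this.le y.2))
        haveI : ((U (E ⊔ Q)).subgroupOf E).Normal := Subgroup.normal_subgroupOf_of_le_normalizer (le_sup_left.trans hXn)
        exact Subgroup.subgroupOf_eq_top.1 (CfsgLib.LocalEven.Irreducible.not_le_of_normal (hmin E hE (hTE ⟨E, hE⟩).toSylow) (fun y hy => hTU hy))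
      obtain ⟨M, hM, hle⟩ := (eq_top_or_exists_le_coatom Mmax).resolve_left hMne
      refine ⟨M, ⟨hM, (show (T : Subgroup H) ≤ Mmax from le_sup_left).trans hle⟩, fun K hK => ?_⟩
      have h1 : K ≤ M := (hbound K hK.1 hK.2).trans hle
      exact ((hK.1.le_iff.1 h1).resolve_left hM.1).symm
  · intro hs
    set f := QuotientGroup.mk' Q
    have hf : Function.Surjective f := QuotientGroup.mk'_surjective Q
    obtain ⟨T⟩ : Nonempty (Sylow p H) := inferInstance
    have hQT : Q ≤ (T : Subgroup H) := hQp.le_sylow_of_normal T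
    set T' := T.mapSurjective hf
    have hT' : (T' : Subgroup (H ⧸ Q)) = (T : Subgroup H).map f := Sylow.coe_mapSurjective hf T
    have hfconj : ∀ (g : H) (E : Subgroup H), (E.map (MulAut.conj g).toMonoidHom).map f = (E.map f).map (MulAut.conj (f g)).toMonoidHom := by
      intro g E
      rw [Subgroup.map_map, Subgroup.map_map]
      rfl
    have hR' : R.map f = sSup ((Subgroup.map f) '' 𝒦) := by
      rw [sSup_image]; exact (Subgroup.gc_map_comap f).l_sSup
    have hres' : Cfsg.pResidual p (H ⧸ Q) ≤ sSup ((Subgroup.map f) '' 𝒦) := by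
      rw [← hR', ← map_pResidual_eq f hf]; exact Subgroup.map_mono hres
    have hmapQ : Q.map f = ⊥ := by rw [Subgroup.map_eq_bot_iff, QuotientGroup.ker_mk']
    have hsupQ : ∀ E : Subgroup H, (E ⊔ Q).map f = E.map f := fun E => by rw [Subgroup.map_sup, hmapQ, sup_bot_eq]
    have hO : Cfsg.pCore p (H ⧸ Q) = ⊥ := by
      haveI := CfsgLib.LocalEven.SylowIn.pCore_normal (H ⧸ Q) p
      have hle : (Cfsg.pCore p (H ⧸ Q)).comap f ≤ Q :=
        le_pCore ((isPGroup_pCore (H ⧸ Q) p).comap_of_ker_isPGroup f (by rw [QuotientGroup.ker_mk']; exact hQp))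
      rw [← Subgroup.map_comap_eq_self_of_surjective hf (Cfsg.pCore p (H ⧸ Q)), Subgroup.map_eq_bot_iff, QuotientGroup.ker_mk']
      exact hle
    have hOE : ∀ E ∈ 𝒦, pCoreOf p E ≤ Q := by
      intro E hE
      refine le_sup_left.trans (CfsgLib.LocalEven.Residual.le_pCore_of_isSubnormal
        (isSubnormal_of_normal (hsub E hE) (sup_le_sup_right (pCoreOf_le E) Q) (sup_le ?_ (le_sup_right.trans Subgroup.le_normalizer)))
        ((isPGroup_pCoreOf E).to_sup_of_normal_right' hQp ((Subgroup.normalizer_eq_top (H := Q)) ▸ le_top)))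
      exact CfsgLib.LocalEven.PReduced.normalizer_sup (normalizer_pCoreOf E) ((Subgroup.normalizer_eq_top (H := Q)) ▸ le_top)
    choose TE hTE hTeq using fun E : 𝒦 => sylow_of_member T hQp (hER E E.2) (hnorm E E.2)
    have hTEne : ∀ E : 𝒦, ¬ TE E ≤ Q := by
      intro E hle
      refine (hs E E.2).1 ?_
      rw [CfsgLib.LocalEven.Irreducible.isPClosed_iff_le (hTE E).toSylow]
      intro y hy
      refine le_pCore (N := Q.subgroupOf (E : Subgroup H)) (hQp.comap_of_injective _ Subtype.coe_injective) ?_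
      exact hle hy
    have hcore := core T' hO ((Subgroup.map f) '' 𝒦) (hne.image _)
      (by
        rintro h _ ⟨E, hE, rfl⟩
        obtain ⟨g, rfl⟩ := hf h
        exact ⟨_, hinv g E hE, hfconj g E⟩)
      (by
        rintro _ ⟨E, hE, rfl⟩ _ ⟨K, hK, rfl⟩
        obtain ⟨g, rfl⟩ := htr E hE K hK
        exact ⟨f g, hfconj g E⟩)
      hres'
      (by
        rintro _ ⟨E, hE, rfl⟩
        rw [← hR', ← hsupQ E]
        exact (Subgroup.map_mono (le_sup_left.trans (hnorm E hE))).trans (Subgroup.le_normalizer_map f))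
      (by
        rintro _ ⟨E, hE, rfl⟩ N hNE hn
        set N₀ := E ⊓ N.comap f
        have hmap : N₀.map f = N := by
          refine le_antisymm ((Subgroup.map_mono inf_le_right).trans (Subgroup.map_comap_le f N)) ?_
          intro y hy
          obtain ⟨e, he, rfl⟩ := hNE hy
          exact ⟨e, ⟨he, hy⟩, rfl⟩
        haveI hn0 : (N₀.subgroupOf E).Normal := Subgroup.normal_subgroupOf_of_le_normalizer (by
          refine CfsgLib.LocalEven.PReduced.normalizer_inf Subgroup.le_normalizer (fun e he => ?_)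
          refine Subgroup.mem_normalizer_iff.2 fun x => ?_
          have := Subgroup.mem_normalizer_iff.1 (hn ⟨e, he, rfl⟩) (f x)
          simpa using this)
        rcases Classical.em (⁅N₀.subgroupOf E, (⊤ : Subgroup E)⁆ ≤ Cfsg.pCore p E) with h | h
        · left
          have h1 := (Subgroup.map_mono (f := E.subtype) h).trans (hOE E hE)
          rw [Subgroup.map_commutator, Subgroup.map_subgroupOf_eq_of_le inf_le_left, ← MonoidHom.range_eq_map, Subgroup.range_subtype] at h1
          rw [← hmap, ← Subgroup.map_commutator, Subgroup.map_eq_bot_iff, QuotientGroup.ker_mk']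
          exact h1
        · right
          have h1 := Subgroup.map_mono (f := E.subtype) ((hs E hE).2 _ hn0 h)
          rw [Subgroup.map_subgroupOf_eq_of_le inf_le_left] at h1
          rw [← res_map f E, ← hmap]
          exact Subgroup.map_mono h1)
      (by
        rintro _ ⟨E, hE, rfl⟩ hbot
        refine hTEne ⟨E, hE⟩ fun t ht => ?_
        rw [← QuotientGroup.ker_mk' Q, MonoidHom.mem_ker, ← Subgroup.mem_bot, ← hbot, hT']
        exact ⟨⟨t, ((hTeq ⟨E, hE⟩).ge (Subgroup.mem_sup_left ht)).1, rfl⟩, ⟨t, (hTE ⟨E, hE⟩).1 ht, rfl⟩⟩)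
    obtain ⟨hdich, hirr⟩ := hcore
    refine ⟨?_, fun E hE K hK => ?_⟩
    · rw [CfsgLib.LocalEven.Irreducible.isPIrreducible_iff T]
      refine ⟨fun hle => ?_, fun N hNn hne' => ?_⟩
      · obtain ⟨E, hE⟩ := hne
        exact hTEne ⟨E, hE⟩ fun t ht => hle ((hTeq ⟨E, hE⟩).ge (Subgroup.mem_sup_left ht)).1
      · haveI := hNn
        have h1 := hirr (N.map f) (Subgroup.Normal.map hNn f hf) (by
          intro hbot
          refine hne' fun x hx => ?_
          rw [← QuotientGroup.ker_mk' (Cfsg.pCore p H), MonoidHom.mem_ker, ← Subgroup.mem_bot, ← hbot, hT']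
          exact ⟨⟨x, hx.1, rfl⟩, ⟨x, hx.2, rfl⟩⟩)
        rw [← map_pResidual_eq f hf, Subgroup.map_le_iff_le_comap, Subgroup.comap_map_eq, QuotientGroup.ker_mk'] at h1
        refine (Subgroup.closure_le _).2 fun x hx => ?_
        exact coprime_mem_sup ((Subgroup.normalizer_eq_top (H := N)) ▸ le_top)
          (fun y hy hc => (eq_one_of_coprime_of_isPGroup hQp hy hc) ▸ one_mem N) (sup_comm N Q ▸ h1 (mem_pResidual_of_coprime hx)) hx
    · rcases hdich _ ⟨E, hE, rfl⟩ _ ⟨K, hK, rfl⟩ with h | h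
      · left
        have key : ∀ E K : Subgroup H, res p (E.map f) = res p (K.map f) → res p (E ⊔ Q) ≤ res p (K ⊔ Q) := by
          intro E K he
          refine CfsgLib.LocalEven.Residual.map_pResidual_le_iff.2 fun x hx hc => ?_
          rw [← hsupQ E, ← hsupQ K, ← res_map f (K ⊔ Q)] at he
          have h1 : f x ∈ res p ((E ⊔ Q).map f) := res_mem ⟨x, hx, rfl⟩ (Nat.Coprime.coprime_dvd_left (orderOf_map_dvd f x) hc)
          rw [he] at h1
          obtain ⟨y, hy, hyx⟩ := h1
          have h2 : x ∈ Q ⊔ res p (K ⊔ Q) := by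
            have hq : x * y⁻¹ ∈ Q := by rw [← QuotientGroup.ker_mk' Q, MonoidHom.mem_ker, map_mul, map_inv, hyx, mul_inv_cancel]
            rw [show x = (x * y⁻¹) * y from (inv_mul_cancel_right x y).symm]
            exact mul_mem (Subgroup.mem_sup_left hq) (Subgroup.mem_sup_right hy)
          refine coprime_mem_sup ?_ (fun q hq hc' => (eq_one_of_coprime_of_isPGroup hQp hq hc') ▸ one_mem (res p (K ⊔ Q))) h2 hc
          exact (le_sup_right.trans Subgroup.le_normalizer).trans (CfsgLib.LocalEven.Residual.normalizer_map_pResidual (K ⊔ Q))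
        exact le_antisymm (key E K h) (key K E h.symm)
      · right
        rwa [← Subgroup.map_commutator, Subgroup.map_eq_bot_iff, QuotientGroup.ker_mk'] at h

end Cfsg.Agent.S2855
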