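import Cfsg.Statements.S2856
import Cfsg.Agent.Lib.LocalEven.AmalgamIter

set_option autoImplicit false
open Cfsg
open scoped commutatorElement

namespace Cfsg.Agent.S2856

/-- Let (M₁, M₂) be an amalgam pair in X satisfying the rank-two standing hypothesis (characteristic p, the normalizers in M₁ and in M₂ of a Sylow p-subgroup of M₁ ∩ M₂ equal and contained in M₁ ∩ M₂, and strongly p-embedded residues), λ a vertex of the coset graph, L_λ the subgroup of its stabilizer generated by the p-elements, Q_λ = O_p of the stabilizer, O^p(L_λ) the subgroup of L_λ generated by its elements of order prime to p, and V_λ^{(k)} the subgroup generated by the Z_μ over the vertices μ at distance at most k from λ (Z_μ being generated by the Ω₁(Z(S)), S a Sylow p-subgroup of the stabilizer of μ). If n ≥ 1 and V_λ^{(n)} ≤ Q_λ, then O^p(L_λ) does not centralize V_λ^{(n)}/[V_λ^{(n)}, Q_λ], that is, [V_λ^{(n)}, O^p(L_λ)] is not contained in [V_λ^{(n)}, Q_λ]. -/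
theorem result {X : Type*} [Group X] {p : ℕ} [Fact p.Prime] (M₁ M₂ : Subgroup X) (h : Cfsg.IsSpeAmalgamPair p M₁ M₂) (lam : Cfsg.CosetVertex M₁ M₂) (n : ℕ) (hn : 1 ≤ n) (V : Subgroup X) (hV : V = Cfsg.vertexVIter p M₁ M₂ n lam) (hVQ : V ≤ Cfsg.vertexQ p lam) : ¬ ⁅V, ((Cfsg.pResidual p ↥(Cfsg.pElementClosure p (MulAction.stabilizer X lam))).map (Cfsg.pElementClosure p (MulAction.stabilizer X lam)).subtype)⁆ ≤ ⁅V, Cfsg.vertexQ p lam⁆ := by
  have hc := CfsgLib.LocalEven.CosetGraph.connected h.1.1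
  haveI := CfsgLib.LocalEven.Amalgam.finite_stabilizer h.1 lam
  set H := MulAction.stabilizer X lam
  obtain ⟨μ, hμ⟩ := CfsgLib.LocalEven.CosetGraph.exists_adj lam
  set U := Cfsg.vertexVIter p M₁ M₂ (n - 1) μ
  have hd : (Cfsg.cosetGraph M₁ M₂).dist lam μ = 1 := SimpleGraph.dist_eq_one_iff_adj.2 hμ
  have hUV : ∀ k, k + 1 ≤ n → Cfsg.vertexVIter p M₁ M₂ k μ ≤ Cfsg.vertexVIter p M₁ M₂ n lam := fun k hk =>
    iSup_le fun ν => CfsgLib.LocalEven.AmalgamIter.vertexZ_le_iter
      ((hc.dist_triangle (u := lam) (v := μ) (w := ν.1)).trans (by have := ν.2; omega))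
  intro hcomm
  subst hV
  set Q := Cfsg.vertexQ p lam
  set V := Cfsg.vertexVIter p M₁ M₂ n lam
  set D := ⁅V, Q⁆
  set L := Cfsg.pElementClosure p H
  set R := (Cfsg.pResidual p ↥L).map L.subtype
  haveI : Finite L := Finite.of_injective _ (Subgroup.inclusion_injective (CfsgLib.LocalEven.SylowIn.pElementClosure_le H))
  haveI : Finite Q := Finite.of_injective _ (Subgroup.inclusion_injective (CfsgLib.LocalEven.SylowIn.pCoreOf_le H))
  have hQp : IsPGroup p Q := CfsgLib.LocalEven.SylowIn.isPGroup_pCoreOf H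
  have hHQ : H ≤ Subgroup.normalizer (Q : Set X) := CfsgLib.LocalEven.SylowIn.normalizer_pCoreOf H
  have hHV : H ≤ Subgroup.normalizer (V : Set X) := CfsgLib.LocalEven.AmalgamIter.normalizer_iter hc n lam
  have hHD : H ≤ Subgroup.normalizer (D : Set X) := CfsgLib.LocalEven.PReduced.normalizer_commutator hHV hHQ
  have hQH : Q ≤ H := CfsgLib.LocalEven.SylowIn.pCoreOf_le H
  have hUV' : U ≤ V := hUV _ (by omega)
  have hUQ : U ≤ Q := hUV'.trans hVQ
  have hDQ : D ≤ Q := (Subgroup.commutator_mono hVQ le_rfl).trans (Subgroup.commutator_le_self Q)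
  have hQμ : Q ≤ MulAction.stabilizer X μ :=
    (CfsgLib.LocalEven.Amalgam.vertexQ_le_neighbourKernel h.1 lam).trans (CfsgLib.LocalEven.Amalgam.neighbourKernel_le_stabilizer lam μ hμ)
  have hQU : Q ≤ Subgroup.normalizer (U : Set X) := hQμ.trans (CfsgLib.LocalEven.AmalgamIter.normalizer_iter hc _ μ)
  set W := U ⊔ D
  haveI : Finite W := Finite.of_injective _ (Subgroup.inclusion_injective (sup_le hUQ hDQ))
  have hRL : R ≤ L := Subgroup.map_subtype_le _
  have hLH : L ≤ H := CfsgLib.LocalEven.SylowIn.pElementClosure_le H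
  have hRW : R ≤ Subgroup.normalizer (W : Set X) := by
    intro r hr
    refine CfsgLib.LocalEven.SylowIn.map_conj_eq_iff.1 (Subgroup.eq_of_le_of_card_ge ?_
      (Nat.card_congr (W.equivMapOfInjective _ (MulAut.conj r).injective).toEquiv).le)
    rw [Subgroup.map_sup, CfsgLib.LocalEven.SylowIn.map_conj_eq_iff.2 (hHD (hLH (hRL hr)))]
    refine sup_le ?_ le_sup_right
    rintro _ ⟨u, hu, rfl⟩
    show r * u * r⁻¹ ∈ W
    rw [show r * u * r⁻¹ = ⁅r, u⁆ * u by rw [commutatorElement_def, inv_mul_cancel_right]]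
    refine mul_mem (Subgroup.mem_sup_right ?_) (Subgroup.mem_sup_left hu)
    rw [Subgroup.commutator_comm] at hcomm
    exact hcomm (Subgroup.commutator_mem_commutator hr (hUV' hu))
  -- `W` is normalised by `L`
  obtain ⟨T, hT⟩ := CfsgLib.LocalEven.Amalgam.exists_edge_sylow (p := p) lam μ
  have hTH := CfsgLib.LocalEven.Amalgam.edge_sylow h.1 hμ hT
  have hTL : CfsgLib.LocalEven.SylowIn.IsSylowIn p T L := ⟨CfsgLib.LocalEven.SylowIn.le_pElementClosure hTH.1 hTH.2.1, hTH.2.1,
    fun S hS hSp hle => hTH.2.2 S (hS.trans hLH) hSp hle⟩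
  have hLW : L ≤ Subgroup.normalizer (W : Set X) := by
    intro x hx
    obtain ⟨w, hw, u, hu, he⟩ := CfsgLib.Fusion.Basic.exists_eq_pResidual_mul hTL.toSylow (⟨x, hx⟩ : L)
    rw [show x = (w : X) * (u : X) from congrArg Subtype.val he]
    refine mul_mem (hRW ⟨w, hw, rfl⟩) ?_
    exact CfsgLib.LocalEven.PReduced.normalizer_sup ((hT.1.trans inf_le_right).trans (CfsgLib.LocalEven.AmalgamIter.normalizer_iter hc _ μ))
      (hTH.1.trans hHD) hu
  have hVW : V ≤ Cfsg.vertexZ p lam ⊔ W := by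
    refine CfsgLib.LocalEven.AmalgamIter.iter_le_step hc n fun ν hν => ?_
    obtain ⟨g, hg, rfl⟩ := Cfsg.Agent.S2750.transitive h hμ hT hLW μ ν hμ hν
    rw [← CfsgLib.LocalEven.AmalgamIter.iter_map hc]
    exact (Subgroup.map_mono le_sup_left).trans (CfsgLib.LocalEven.SylowIn.map_conj_eq_iff.2 hg.1).le
  -- `[V, Q] ≤ U [V, Q, Q]`, so `[V, Q] ≤ U`
  have hDU : D ≤ U := by
    refine CfsgLib.LocalEven.AmalgamIter.le_of_le_sup_commutator hQp hDQ hUQ hQU ?_
    set W₂ := U ⊔ ⁅D, Q⁆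
    have hQW₂ : Q ≤ Subgroup.normalizer (W₂ : Set X) := CfsgLib.LocalEven.PReduced.normalizer_sup hQU
      (CfsgLib.LocalEven.PReduced.normalizer_commutator ((hQH).trans hHD) Subgroup.le_normalizer)
    have hZc : ⁅Cfsg.vertexZ p lam, Q⁆ = ⊥ := by
      rw [Subgroup.commutator_eq_bot_iff_le_centralizer]
      refine CfsgLib.LocalEven.SylowIn.sylowCenterClosure_le_iff.2 fun S hS => ?_
      exact (CfsgLib.LocalEven.SylowIn.omegaCenter_le_centralizer S).trans
        (Subgroup.centralizer_le (CfsgLib.LocalEven.SylowIn.pCoreOf_le_sylowIn hS))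
    refine (Subgroup.commutator_mono hVW le_rfl).trans (CfsgLib.LocalEven.AmalgamIter.sup_commutator_le_inf ?_ ?_ ?_ ?_)
    · exact (CfsgLib.LocalEven.Amalgam.vertexZ_le_vertexQ h.1 lam).trans hQW₂
    · exact (sup_le hUQ hDQ).trans hQW₂
    · rw [hZc]; exact bot_le
    · refine CfsgLib.LocalEven.AmalgamIter.sup_commutator_le_inf (hUQ.trans hQW₂) (hDQ.trans hQW₂) ?_ le_sup_right
      exact (Subgroup.le_normalizer_iff_commutator_le_left.1 hQU).trans le_sup_left
  refine CfsgLib.LocalEven.AmalgamIter.not_normalized h hμ (n - 1) hUQ ?_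
  rwa [show W = U from sup_eq_left.2 hDU] at hRW

end Cfsg.Agent.S2856
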