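import Cfsg.Statements.S2857
import Cfsg.Agent.Lib.LocalEven.AmalgamIter

set_option autoImplicit false
open Cfsg
open scoped commutatorElement

namespace Cfsg.Agent.S2857

/-- Let (M₁, M₂) be an amalgam pair in X satisfying the rank-two standing hypothesis (characteristic p, the normalizers in M₁ and in M₂ of a Sylow p-subgroup of M₁ ∩ M₂ equal and contained in M₁ ∩ M₂, and strongly p-embedded residues), λ a vertex of the coset graph, L_λ the subgroup of its stabilizer generated by the p-elements, Q_λ = O_p of the stabilizer, O^p(L_λ) the subgroup of L_λ generated by its elements of order prime to p, and V_λ^{(k)} the subgroup generated by the Z_μ over the vertices μ at distance at most k from λ (Z_μ being generated by the Ω₁(Z(S)), S a Sylow p-subgroup of the stabilizer of μ). If n ≥ 2 and V_λ^{(n)} ≤ Q_λ, then O^p(L_λ) does not centralize V_λ^{(n)}/V_λ^{(n-2)}, that is, [V_λ^{(n)}, O^p(L_λ)] is not contained in V_λ^{(n-2)}. -/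
theorem result {X : Type*} [Group X] {p : ℕ} [Fact p.Prime] (M₁ M₂ : Subgroup X) (h : Cfsg.IsSpeAmalgamPair p M₁ M₂) (lam : Cfsg.CosetVertex M₁ M₂) (n : ℕ) (hn : 2 ≤ n) (hVQ : Cfsg.vertexVIter p M₁ M₂ n lam ≤ Cfsg.vertexQ p lam) : ¬ ⁅Cfsg.vertexVIter p M₁ M₂ n lam, ((Cfsg.pResidual p ↥(Cfsg.pElementClosure p (MulAction.stabilizer X lam))).map (Cfsg.pElementClosure p (MulAction.stabilizer X lam)).subtype)⁆ ≤ Cfsg.vertexVIter p M₁ M₂ (n - 2) lam := by
  have hc := CfsgLib.LocalEven.CosetGraph.connected h.1.1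
  haveI := CfsgLib.LocalEven.Amalgam.finite_stabilizer h.1 lam
  set H := MulAction.stabilizer X lam
  obtain ⟨μ, hμ⟩ := CfsgLib.LocalEven.CosetGraph.exists_adj lam
  set U := Cfsg.vertexVIter p M₁ M₂ (n - 1) μ
  have hd : (Cfsg.cosetGraph M₁ M₂).dist lam μ = 1 := SimpleGraph.dist_eq_one_iff_adj.2 hμ
  have hUV : ∀ k, k + 1 ≤ n → Cfsg.vertexVIter p M₁ M₂ k μ ≤ Cfsg.vertexVIter p M₁ M₂ n lam := fun k hk =>
    iSup_le fun ν => CfsgLib.LocalEven.AmalgamIter.vertexZ_le_iter
      ((hc.dist_triangle (u := lam) (v := μ) (w := ν.1)).trans (by have := ν.2; omega))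
  intro hcomm
  refine CfsgLib.LocalEven.AmalgamIter.not_normalized h hμ (n - 1) ((hUV _ (by omega)).trans hVQ) (fun r hr => ?_)
  refine CfsgLib.LocalEven.SylowIn.map_conj_eq_iff.1 (CfsgLib.LocalEven.SylowIn.map_conj_eq_iff.2 ?_)
  haveI : Finite U := Finite.of_injective _ (Subgroup.inclusion_injective (((hUV _ (by omega)).trans hVQ).trans (CfsgLib.LocalEven.SylowIn.pCoreOf_le _)))
  refine Subgroup.mem_normalizer_fintype (fun u hu => ?_)
  have h1 : ⁅r, u⁆ ∈ Cfsg.vertexVIter p M₁ M₂ (n - 2) lam := by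
    rw [Subgroup.commutator_comm] at hcomm
    exact hcomm (Subgroup.commutator_mem_commutator hr (hUV _ (by omega) hu))
  have h2 : Cfsg.vertexVIter p M₁ M₂ (n - 2) lam ≤ U := iSup_le fun ν => CfsgLib.LocalEven.AmalgamIter.vertexZ_le_iter
    ((hc.dist_triangle (u := μ) (v := lam) (w := ν.1)).trans (by have := ν.2; rw [SimpleGraph.dist_comm (u := μ), hd]; omega))
  show r * u * r⁻¹ ∈ U
  rw [show r * u * r⁻¹ = ⁅r, u⁆ * u by rw [commutatorElement_def, inv_mul_cancel_right]]
  exact mul_mem (h2 h1) hu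

end Cfsg.Agent.S2857
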