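import Cfsg.Statements.S2859
import Cfsg.Agent.Lib.LocalEven.WeakClosure
import Cfsg.Agent.Lib.LocalEven.Commutators

set_option autoImplicit false
open Cfsg
open scoped commutatorElement Pointwise

namespace Cfsg.Agent.S2859

open CfsgLib.LocalEven.SylowIn CfsgLib.LocalEven.PReduced CfsgLib.LocalEven.Residual
open CfsgLib.LocalEven.WeakClosure CfsgLib.LocalEven.Commutators

variable {G : Type*} [Group G] [Finite G] {p : ℕ} [Fact p.Prime]

theorem nle {T H : Subgroup G} (h : ∀ x ∈ H, ∀ t ∈ T, x * t * x⁻¹ ∈ T) :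
    H ≤ Subgroup.normalizer (T : Set G) := fun x hx => map_conj_eq_iff.1
  (Subgroup.eq_of_le_of_card_ge (by rintro _ ⟨t, ht, rfl⟩; exact h x hx t ht)
    (Nat.card_congr (T.equivMapOfInjective _ (MulAut.conj x).injective).toEquiv).le)

theorem coprime_mem {P C : Subgroup G} (hP : IsPGroup p P) (hPC : P ≤ Subgroup.normalizer (C : Set G))
    {g : G} (hg : g ∈ C ⊔ P) (hc : (orderOf g).Coprime p) : g ∈ C :=
  coprime_mem_sup hPC (fun x hx hx' => by rw [eq_one_of_coprime_of_isPGroup hP hx hx']; exact C.one_mem)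
    (by rwa [sup_comm]) hc

theorem exists_mul {N C : Subgroup G} (hC : C ≤ Subgroup.normalizer (N : Set G)) {x : G} (hx : x ∈ N ⊔ C) :
    ∃ n ∈ N, ∃ c ∈ C, x = n * c := by
  have := Subgroup.coe_mul_of_right_le_normalizer_left N C hC
  have hx' : x ∈ (N : Set G) * (C : Set G) := this ▸ hx
  obtain ⟨n, hn, c, hc, rfl⟩ := hx'
  exact ⟨n, hn, c, hc, rfl⟩

/-- Everything that is claimed about one factor. -/
theorem half {Q Hc A B : Subgroup G} (hwc : Cfsg.IsWeaklyClosedSubgroup p Q)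
    (hHc : Hc = Cfsg.weakClosure Q ⊤) (hA : A ≤ Hc) (hAn : Hc ≤ Subgroup.normalizer (A : Set G))
    (hB : B ≤ Hc) (hBn : Hc ≤ Subgroup.normalizer (B : Set G)) (hprod : A ⊔ B = Hc)
    (hcomm : ⁅A, B⁆ ≤ Subgroup.normalizer (Q : Set G)) (K : Subgroup G)
    (hK : K = (Cfsg.pResidual p ↥(Cfsg.weakClosure Q (A ⊔ Q))).map (Cfsg.weakClosure Q (A ⊔ Q)).subtype) :
    (⁅K, Q⁆ = K ∧ ⁅K, A⁆ = K ∧ K ≤ ⁅A, A⁆ ∧ Hc ≤ Subgroup.normalizer (K : Set G)) ∧ K ≤ A ∧
      K ≤ (Cfsg.pResidual p ↥Hc).map Hc.subtype ∧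
      (∀ a ∈ A, ∀ q ∈ Q, a * q * a⁻¹ ∈ K ⊔ Q) ∧ ⁅⁅A, B⁆, Hc⁆ ≤ Cfsg.pCoreOf p Hc := by
  have hQp : IsPGroup p Q := isPGroup_of_wc hwc
  have hconjHc : ∀ g : G, Q.map (MulAut.conj g).toMonoidHom ≤ Hc := fun g => by
    rw [hHc]
    exact le_iSup (fun x : {g : G // Q.map (MulAut.conj g).toMonoidHom ≤ ⊤} =>
      Q.map (MulAut.conj (x : G)).toMonoidHom) ⟨g, le_top⟩
  have hQHc : Q ≤ Hc := le_of_eq_of_le (map_conj_one Q).symm (hconjHc 1)
  set L := Cfsg.weakClosure Q (A ⊔ Q) with hLdef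
  have hLle : L ≤ A ⊔ Q := iSup_le fun g => g.2
  have hgen : ∀ g : G, Q.map (MulAut.conj g).toMonoidHom ≤ A ⊔ Q →
      Q.map (MulAut.conj g).toMonoidHom ≤ L := fun g hg =>
    le_iSup (fun x : {g : G // Q.map (MulAut.conj g).toMonoidHom ≤ A ⊔ Q} =>
      Q.map (MulAut.conj (x : G)).toMonoidHom) ⟨g, hg⟩
  have hQL : Q ≤ L := by
    have := hgen 1
    rw [map_conj_one] at this
    exact this le_sup_right
  have hLHc : L ≤ Hc := hLle.trans (sup_le hA hQHc)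
  have hLn : A ⊔ Q ≤ Subgroup.normalizer (L : Set G) := nle fun x hx t ht => by
    have h1 : L.map (MulAut.conj x).toMonoidHom ≤ L := by
      rw [hLdef]
      unfold Cfsg.weakClosure
      rw [Subgroup.map_iSup]
      refine iSup_le fun g => ?_
      rw [map_conj_conj]
      refine hgen _ ?_
      rw [← map_conj_conj]
      exact (Subgroup.map_mono g.2).trans (map_conj_eq_iff.2 (Subgroup.le_normalizer hx)).le
    exact h1 ⟨t, ht, rfl⟩
  have hKn : A ⊔ Q ≤ Subgroup.normalizer (K : Set G) := by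
    rw [hK]; exact hLn.trans (normalizer_map_pResidual L)
  have hQKn : Q ≤ Subgroup.normalizer (K : Set G) := le_sup_right.trans hKn
  have hAKn : A ≤ Subgroup.normalizer (K : Set G) := le_sup_left.trans hKn
  have hKL : K ≤ L := by rw [hK]; exact Subgroup.map_subtype_le _
  -- a criterion for containing `K`
  have hKcrit : ∀ C : Subgroup G, (∀ g ∈ L, (orderOf g).Coprime p → g ∈ C) → K ≤ C := fun C h => by
    rw [hK]; exact map_pResidual_le_iff.2 h
  have hKmem : ∀ g ∈ L, (orderOf g).Coprime p → g ∈ K := fun g hg hc => by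
    rw [hK]; exact CfsgLib.Fusion.Basic.mem_map_pResidual_of_coprime hg hc
  have hKA : K ≤ A := hKcrit A fun g hg hc => coprime_mem hQp (hQHc.trans hAn) (hLle hg) hc
  have hKres : K ≤ (Cfsg.pResidual p ↥Hc).map Hc.subtype := by
    rw [hK]; exact CfsgLib.Fusion.Basic.pResidual_map_subtype_mono hLHc
  -- `L = K Q`
  obtain ⟨T, hT, hQT⟩ := exists_isSylowIn (p := p) L hQL hQp
  have hTQ : T ≤ Subgroup.normalizer (Q : Set G) :=
    Subgroup.le_normalizer.trans (normalizer_le hwc hT.2.1 hQT)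
  have hLKT : L ≤ K ⊔ T := le_of_coprime_of_sylow hT
    (fun x hx hc => Subgroup.mem_sup_left (hKmem x hx hc)) le_sup_right
  have hLKn : L ≤ Subgroup.normalizer (K : Set G) := hLle.trans hKn
  have hLKQ : L ≤ K ⊔ Q := by
    refine iSup_le fun g => ?_
    obtain ⟨k, hk, he⟩ := exists_conj_in hwc hQL (hgen _ g.2)
    rw [he]
    have h1 : K ⊔ T ≤ Subgroup.normalizer ((K ⊔ Q : Subgroup G) : Set G) :=
      sup_le (le_sup_left.trans Subgroup.le_normalizer) (normalizer_sup (hT.1.trans hLKn) hTQ)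
    exact (Subgroup.map_mono le_sup_right).trans (map_conj_eq_iff.2 (h1 (hLKT hk))).le
  have hAQ : ∀ a ∈ A, ∀ q ∈ Q, a * q * a⁻¹ ∈ K ⊔ Q := fun a ha q hq =>
    hLKQ (hgen a ((Subgroup.map_mono le_sup_right).trans
      (map_conj_eq_iff.2 (Subgroup.le_normalizer (Subgroup.mem_sup_left ha))).le) ⟨q, hq, rfl⟩)
  -- `[K, Q] = K`
  have hKQ : ⁅K, Q⁆ = K := by
    refine le_antisymm (Subgroup.le_normalizer_iff_commutator_le_left.1 hQKn) ?_
    set C := ⁅K, Q⁆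
    have hC1 : Q ≤ Subgroup.normalizer (C : Set G) := normalizer_commutator_right K Q
    have hC2 : K ≤ Subgroup.normalizer ((C ⊔ Q : Subgroup G) : Set G) := by
      refine nle fun k hk t ht => ?_
      obtain ⟨c, hc, q, hq, rfl⟩ := exists_mul hC1 ht
      rw [show k * (c * q) * k⁻¹ = (k * c * k⁻¹) * (⁅k, q⁆ * q) by simp only [commutatorElement_def]; group]
      exact mul_mem (Subgroup.mem_sup_left ((Subgroup.mem_normalizer_iff.1
        (normalizer_commutator_left K Q hk) c).1 hc))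
        (mul_mem (Subgroup.mem_sup_left (Subgroup.commutator_mem_commutator hk hq)) (Subgroup.mem_sup_right hq))
    have hC3 : L ≤ C ⊔ Q := by
      refine iSup_le fun g => ?_
      obtain ⟨k, hk, he⟩ := exists_conj_in hwc hQL (hgen _ g.2)
      rw [he]
      exact (Subgroup.map_mono le_sup_right).trans
        (map_conj_eq_iff.2 ((sup_le hC2 (le_sup_right.trans Subgroup.le_normalizer)) (hLKQ hk))).le
    exact hKcrit C fun g hg hc => coprime_mem hQp hC1 (hC3 hg) hc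
  -- the commutator of the two factors
  set D := ⁅A, B⁆ with hD
  have hDn : Hc ≤ Subgroup.normalizer (D : Set G) := normalizer_commutator hAn hBn
  have hDA : D ≤ A := Subgroup.le_normalizer_iff_commutator_le_left.1 (hB.trans hAn)
  have hDQ : D ⊓ Q ≤ Cfsg.pCoreOf p Hc := by
    refine le_trans (le_pCoreOf inf_le_left ?_ (hQp.to_le inf_le_right)) (le_pCoreOf
      ((pCoreOf_le D).trans (hDA.trans hA)) (fun x hx => ?_) (isPGroup_pCoreOf D))
    · exact normalizer_inf Subgroup.le_normalizer hcomm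
    · rw [← map_conj_eq_iff, pCoreOf_map_conj, map_conj_eq_iff.2 (hDn hx)]
  have hPn : Hc ≤ Subgroup.normalizer ((Cfsg.pCoreOf p Hc : Subgroup G) : Set G) := normalizer_pCoreOf Hc
  have hDHc : ⁅D, Hc⁆ ≤ Cfsg.pCoreOf p Hc := by
    rw [Subgroup.commutator_le]
    intro d hd h hh
    have hh' : h ∈ ⨆ g : {g : G // Q.map (MulAut.conj g).toMonoidHom ≤ ⊤},
        Q.map (MulAut.conj (g : G)).toMonoidHom := by rw [hHc] at hh; exact hh
    suffices hkey : h ∈ Hc ∧ ∀ d ∈ D, ⁅d, h⁆ ∈ Cfsg.pCoreOf p Hc from hkey.2 d hd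
    refine Subgroup.iSup_induction
      (fun g : {g : G // Q.map (MulAut.conj g).toMonoidHom ≤ ⊤} => Q.map (MulAut.conj (g : G)).toMonoidHom)
      (C := fun h => h ∈ Hc ∧ ∀ d ∈ D, ⁅d, h⁆ ∈ Cfsg.pCoreOf p Hc) hh' ?_ ?_ ?_
    · rintro g x hx
      refine ⟨hconjHc _ hx, fun d hd => ?_⟩
      obtain ⟨k, hk, he⟩ := exists_conj_in hwc hQHc (hconjHc g.1)
      rw [he] at hx
      obtain ⟨q, hq, rfl⟩ := hx
      have hd' : k⁻¹ * d * k ∈ D := by
        have := (Subgroup.mem_normalizer_iff.1 (hDn (inv_mem hk)) d).1 hd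
        rwa [inv_inv] at this
      have h1 : ⁅k⁻¹ * d * k, q⁆ ∈ D ⊓ Q :=
        ⟨Subgroup.le_normalizer_iff_commutator_le_left.1 (hQHc.trans hDn)
          (Subgroup.commutator_mem_commutator hd' hq),
        Subgroup.le_normalizer_iff_commutator_le_right.1 hcomm (Subgroup.commutator_mem_commutator hd' hq)⟩
      have h2 := (Subgroup.mem_normalizer_iff.1 (hPn hk) _).1 (hDQ h1)
      show ⁅d, k * q * k⁻¹⁆ ∈ _
      rw [show ⁅d, k * q * k⁻¹⁆ = k * ⁅k⁻¹ * d * k, q⁆ * k⁻¹ by simp only [commutatorElement_def]; group]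
      exact h2
    · exact ⟨one_mem _, fun d _ => by rw [commutatorElement_one_right]; exact one_mem _⟩
    · rintro x y ⟨hx, hx'⟩ ⟨hy, hy'⟩
      refine ⟨mul_mem hx hy, fun d hd => ?_⟩
      rw [show ⁅d, x * y⁆ = ⁅d, x⁆ * (x * ⁅d, y⁆ * x⁻¹) by simp only [commutatorElement_def]; group]
      exact mul_mem (hx' d hd) ((Subgroup.mem_normalizer_iff.1 (hPn hx) _).1 (hy' d hd))
  -- `[K, A] = K`
  have hKA' : ⁅K, A⁆ = K := by
    refine le_antisymm (Subgroup.le_normalizer_iff_commutator_le_left.1 hAKn) ?_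
    set M := ⁅K, A⁆
    have hMK : M ≤ K := Subgroup.le_normalizer_iff_commutator_le_left.1 hAKn
    have hMn : Q ≤ Subgroup.normalizer (M : Set G) := normalizer_commutator hQKn (hQHc.trans hAn)
    have hMKn : K ≤ Subgroup.normalizer (M : Set G) := normalizer_commutator_left K A
    have h1 : K ≤ M ⊔ (D ⊓ K) := by
      conv_lhs => rw [← hKQ]
      rw [Subgroup.commutator_le]
      intro k hk q hq
      obtain ⟨a, ha, b, hb, rfl⟩ := exists_mul (hB.trans hAn) (hprod.symm ▸ hQHc hq : q ∈ A ⊔ B)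
      have e : ⁅k, a * b⁆ = ⁅k, a⁆ * (a * ⁅k, b⁆ * a⁻¹) := by simp only [commutatorElement_def]; group
      have h2 : ⁅k, a⁆ ∈ M := Subgroup.commutator_mem_commutator hk ha
      have h3 : ⁅k, a * b⁆ ∈ K := hKQ.le (Subgroup.commutator_mem_commutator hk hq)
      have h4 : a * ⁅k, b⁆ * a⁻¹ ∈ D ⊓ K := by
        refine ⟨(Subgroup.mem_normalizer_iff.1 (hDn (hA ha)) _).1
          (Subgroup.commutator_mem_commutator (hKA hk) hb), ?_⟩
        rw [← inv_mul_cancel_left ⁅k, a⁆ (a * ⁅k, b⁆ * a⁻¹), ← e]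
        exact (mul_mem (inv_mem (hMK h2)) h3 : _ ∈ K)
      rw [e]
      exact mul_mem (Subgroup.mem_sup_left h2) (Subgroup.mem_sup_right h4)
    have h5 : K ≤ M ⊔ (Q ⊓ K) := by
      conv_lhs => rw [← hKQ]
      rw [Subgroup.commutator_le]
      intro k hk q hq
      obtain ⟨m, hm, d, hd, rfl⟩ := exists_mul (inf_le_right.trans hMKn) (h1 hk)
      rw [show ⁅m * d, q⁆ = m * ⁅d, q⁆ * m⁻¹ * ⁅m, q⁆ by simp only [commutatorElement_def]; group]
      refine mul_mem (mul_mem (mul_mem (Subgroup.mem_sup_left hm) (Subgroup.mem_sup_right ⟨?_, ?_⟩))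
        (inv_mem (Subgroup.mem_sup_left hm))) (Subgroup.mem_sup_left ?_)
      · exact Subgroup.le_normalizer_iff_commutator_le_right.1 hcomm (Subgroup.commutator_mem_commutator hd.1 hq)
      · exact hKQ.le (Subgroup.commutator_mem_commutator hd.2 hq)
      · exact Subgroup.le_normalizer_iff_commutator_le_left.1 hMn (Subgroup.commutator_mem_commutator hm hq)
    exact hKcrit M fun g hg hc => coprime_mem (hQp.to_le inf_le_left) (inf_le_left.trans hMn)
      (h5 (hKmem g hg hc)) hc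
  refine ⟨⟨hKQ, hKA', ?_, ?_⟩, hKA, hKres, hAQ, hDHc⟩
  · calc K = ⁅K, A⁆ := hKA'.symm
      _ ≤ ⁅A, A⁆ := Subgroup.commutator_mono hKA le_rfl
  rw [← hprod]
  refine sup_le hAKn (nle fun h hh t ht => ?_)
  have hKD : ∀ k ∈ K, h * k * h⁻¹ ∈ K ⊔ D := fun k hk => by
    rw [show h * k * h⁻¹ = ⁅h, k⁆ * k by simp only [commutatorElement_def]; group]
    refine mul_mem (Subgroup.mem_sup_right ?_) (Subgroup.mem_sup_left hk)
    rw [hD, Subgroup.commutator_comm]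
    exact Subgroup.commutator_mem_commutator hh (hKA hk)
  have hAR : A ≤ Subgroup.normalizer ((Cfsg.pCoreOf p Hc ⊓ A : Subgroup G) : Set G) :=
    normalizer_inf (hA.trans hPn) Subgroup.le_normalizer
  have h1 : ⁅K.map (MulAut.conj h).toMonoidHom, A⁆ ≤ K ⊔ (Cfsg.pCoreOf p Hc ⊓ A) := by
    rw [Subgroup.commutator_le]
    rintro _ ⟨k', hk', rfl⟩ a ha
    obtain ⟨k, hk, d, hd, he⟩ := exists_mul (hDA.trans hAKn) (hKD k' hk')
    show ⁅h * k' * h⁻¹, a⁆ ∈ _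
    rw [he, show ⁅k * d, a⁆ = k * ⁅d, a⁆ * k⁻¹ * ⁅k, a⁆ by simp only [commutatorElement_def]; group]
    refine mul_mem (mul_mem (mul_mem (Subgroup.mem_sup_left hk) (Subgroup.mem_sup_right ⟨?_, ?_⟩))
      (inv_mem (Subgroup.mem_sup_left hk))) (Subgroup.mem_sup_left ?_)
    · exact hDHc (Subgroup.commutator_mem_commutator hd (hA ha))
    · exact (Subgroup.commutator_le_self A) (Subgroup.commutator_mem_commutator (hDA hd) ha)
    · exact hKA'.le (Subgroup.commutator_mem_commutator hk ha)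
  have hmapA : A.map (MulAut.conj h).toMonoidHom = A := map_conj_eq_iff.2 (hAn (hB hh))
  have h2 : K.map (MulAut.conj h).toMonoidHom ≤ K ⊔ (Cfsg.pCoreOf p Hc ⊓ A) := by
    have e : ⁅K.map (MulAut.conj h).toMonoidHom, A⁆ = K.map (MulAut.conj h).toMonoidHom := by
      conv_lhs => rw [← hmapA]
      rw [← Subgroup.map_commutator, hKA']
    exact e ▸ h1
  have h3 : K ≤ K.comap (MulAut.conj h).toMonoidHom := hKcrit _ fun g hg hc => by
    refine coprime_mem ((isPGroup_pCoreOf Hc).to_le inf_le_left) (inf_le_right.trans hAKn)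
      (h2 ⟨g, hKmem g hg hc, rfl⟩) ?_
    rwa [orderOf_injective _ (MulAut.conj h).injective]
  exact h3 ht

/-- Let Q be a nontrivial p-subgroup of the finite group H that is a weakly closed subgroup, H° the weak closure of Q in H (generated by the conjugates of Q) and H_∘ = O^p(H°). Suppose H₁, H₂ are normal subgroups of H° with H° = H₁H₂ and [H₁, H₂] ≤ N_H(Q), and put Kᵢ = O^p of the weak closure of Q in HᵢQ. Then for i = 1, 2: Kᵢ = [Kᵢ, Q] = [Kᵢ, Hᵢ] ≤ Hᵢ′ and Kᵢ is normal in H°; H_∘ = K₁K₂; and [K₁, K₂] ≤ O_p(H°). -/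
theorem result {G : Type*} [Group G] [Finite G] {p : ℕ} [Fact p.Prime] (Q : Subgroup G) (hQp : IsPGroup p ↥Q) (hQ1 : Q ≠ ⊥) (hwc : Cfsg.IsWeaklyClosedSubgroup p Q) (Hc : Subgroup G) (hHc : Hc = Cfsg.weakClosure Q ⊤) (H₁ H₂ : Subgroup G) (hn₁ : H₁ ≤ Hc ∧ Hc ≤ Subgroup.normalizer ((H₁ : Subgroup G) : Set G)) (hn₂ : H₂ ≤ Hc ∧ Hc ≤ Subgroup.normalizer ((H₂ : Subgroup G) : Set G)) (hprod : H₁ ⊔ H₂ = Hc) (hcomm : ⁅H₁, H₂⁆ ≤ Subgroup.normalizer ((Q : Subgroup G) : Set G)) (K₁ K₂ : Subgroup G) (hK₁ : K₁ = ((Cfsg.pResidual p ↥(Cfsg.weakClosure Q (H₁ ⊔ Q))).map ((Cfsg.weakClosure Q (H₁ ⊔ Q))).subtype)) (hK₂ : K₂ = ((Cfsg.pResidual p ↥(Cfsg.weakClosure Q (H₂ ⊔ Q))).map ((Cfsg.weakClosure Q (H₂ ⊔ Q))).subtype)) : (⁅K₁, Q⁆ = K₁ ∧ ⁅K₁, H₁⁆ = K₁ ∧ K₁ ≤ ⁅H₁, H₁⁆ ∧ Hc ≤ Subgroup.normalizer ((K₁ : Subgroup G) : Set G)) ∧ (⁅K₂, Q⁆ = K₂ ∧ ⁅K₂, H₂⁆ = K₂ ∧ K₂ ≤ ⁅H₂, H₂⁆ ∧ Hc ≤ Subgroup.normalizer ((K₂ : Subgroup G) : Set G))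 ∧ K₁ ⊔ K₂ = ((Cfsg.pResidual p ↥Hc).map (Hc).subtype) ∧ ⁅K₁, K₂⁆ ≤ (Cfsg.pCoreOf p Hc) := by
  obtain ⟨h1, h1A, h1res, h1Q, hDP⟩ := half hwc hHc hn₁.1 hn₁.2 hn₂.1 hn₂.2 hprod hcomm K₁ hK₁
  obtain ⟨h2, h2A, h2res, h2Q, -⟩ := half hwc hHc hn₂.1 hn₂.2 hn₁.1 hn₁.2 (by rw [sup_comm, hprod])
    (by rw [Subgroup.commutator_comm]; exact hcomm) K₂ hK₂
  refine ⟨h1, h2, le_antisymm (sup_le h1res h2res) ?_, ?_⟩
  · set N := K₁ ⊔ K₂
    have hN : Hc ≤ Subgroup.normalizer (N : Set G) := normalizer_sup h1.2.2.2 h2.2.2.2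
    have hconjHc : ∀ g : G, Q.map (MulAut.conj g).toMonoidHom ≤ Hc := fun g => by
      rw [hHc]
      exact le_iSup (fun x : {g : G // Q.map (MulAut.conj g).toMonoidHom ≤ ⊤} =>
        Q.map (MulAut.conj (x : G)).toMonoidHom) ⟨g, le_top⟩
    have hQHc : Q ≤ Hc := le_of_eq_of_le (map_conj_one Q).symm (hconjHc 1)
    have key : ∀ {H : Subgroup G}, H ≤ Hc → (∀ a ∈ H, ∀ q ∈ Q, a * q * a⁻¹ ∈ N ⊔ Q) →
        H ≤ Subgroup.normalizer ((N ⊔ Q : Subgroup G) : Set G) := by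
      intro H hH hq
      refine nle fun x hx t ht => ?_
      obtain ⟨n, hn, q, hq', rfl⟩ := exists_mul (hQHc.trans hN) ht
      rw [show x * (n * q) * x⁻¹ = (x * n * x⁻¹) * (x * q * x⁻¹) by group]
      exact mul_mem (Subgroup.mem_sup_left ((Subgroup.mem_normalizer_iff.1 (hN (hH hx)) n).1 hn))
        (hq x hx q hq')
    have hall : Hc ≤ Subgroup.normalizer ((N ⊔ Q : Subgroup G) : Set G) := by
      conv_lhs => rw [← hprod]
      exact sup_le (key hn₁.1 fun a ha q hq => sup_le_sup_right le_sup_left Q (h1Q a ha q hq))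
        (key hn₂.1 fun a ha q hq => sup_le_sup_right le_sup_right Q (h2Q a ha q hq))
    have hle : Hc ≤ N ⊔ Q := by
      conv_lhs => rw [hHc]
      refine iSup_le fun g => ?_
      obtain ⟨k, hk, he⟩ := exists_conj_in hwc hQHc (hconjHc g.1)
      rw [he]
      exact (Subgroup.map_mono le_sup_right).trans (map_conj_eq_iff.2 (hall hk)).le
    exact map_pResidual_le_iff.2 fun g hg hc => coprime_mem hQp (hQHc.trans hN) (hle hg) hc
  · have hP : Hc ≤ Subgroup.normalizer ((Cfsg.pCoreOf p Hc : Subgroup G) : Set G) := normalizer_pCoreOf Hc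
    calc ⁅K₁, K₂⁆ = ⁅⁅K₁, H₁⁆, K₂⁆ := by rw [h1.2.1]
      _ ≤ _ := three_subgroup_mod ((h1A.trans hn₁.1).trans hP) (hn₁.1.trans hP) ((h2A.trans hn₂.1).trans hP)
        ((Subgroup.commutator_mono (Subgroup.commutator_mono le_rfl h2A) (h1A.trans hn₁.1)).trans hDP)
        ((Subgroup.commutator_mono (le_trans (le_of_eq (Subgroup.commutator_comm K₂ K₁))
          (Subgroup.commutator_mono h1A h2A)) hn₁.1).trans hDP)

end Cfsg.Agent.S2859
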