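import Cfsg.Statements.S2864
import Cfsg.Agent.Lib.LocalEven.Large
import Cfsg.Agent.Lib.LocalEven.Residual

set_option autoImplicit false
open Cfsg
open scoped commutatorElement Pointwise

namespace Cfsg.Agent.S2864

open CfsgLib.LocalEven.SylowIn CfsgLib.LocalEven.PReduced

variable {G : Type*} [Group G]

theorem exists_mul {N C : Subgroup G} (hC : C ≤ Subgroup.normalizer (N : Set G)) {x : G} (hx : x ∈ C ⊔ N) :
    ∃ c ∈ C, ∃ n ∈ N, x = c * n := by
  have := Subgroup.coe_mul_of_left_le_normalizer_right C N hC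
  have hx' : x ∈ (C : Set G) * (N : Set G) := this ▸ hx
  obtain ⟨c, hc, n, hn, rfl⟩ := hx'
  exact ⟨c, hc, n, hn, rfl⟩

/-- The elements of `L` acting trivially on `A` modulo `D`. -/
def trivMod (L A D : Subgroup G) (hA : L ≤ Subgroup.normalizer (A : Set G))
    (hD : L ≤ Subgroup.normalizer (D : Set G)) : Subgroup G where
  carrier := {l | l ∈ L ∧ ∀ a ∈ A, ⁅l, a⁆ ∈ D}
  one_mem' := ⟨L.one_mem, fun a _ => by rw [commutatorElement_one_left]; exact D.one_mem⟩
  mul_mem' := by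
    rintro x y ⟨hx, hx'⟩ ⟨hy, hy'⟩
    refine ⟨mul_mem hx hy, fun a ha => ?_⟩
    rw [show ⁅x * y, a⁆ = x * ⁅y, a⁆ * x⁻¹ * ⁅x, a⁆ by simp only [commutatorElement_def]; group]
    exact mul_mem ((Subgroup.mem_normalizer_iff.1 (hD hx) _).1 (hy' a ha)) (hx' a ha)
  inv_mem' := by
    rintro x ⟨hx, hx'⟩
    refine ⟨inv_mem hx, fun a ha => ?_⟩
    have h := (Subgroup.mem_normalizer_iff.1 (hD (inv_mem hx)) _).1 (inv_mem (hx' a ha))
    rw [show ⁅x⁻¹, a⁆ = x⁻¹ * ⁅x, a⁆⁻¹ * x⁻¹⁻¹ by simp only [commutatorElement_def]; group]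
    exact h

theorem coe_conj (g x : G) : (MulAut.conj g).toMonoidHom x = g * x * g⁻¹ := rfl

theorem le_normalizer_trivMod [Finite G] {L A D : Subgroup G} (hA : L ≤ Subgroup.normalizer (A : Set G))
    (hD : L ≤ Subgroup.normalizer (D : Set G)) :
    L ≤ Subgroup.normalizer ((trivMod L A D hA hD : Subgroup G) : Set G) := fun g hg => map_conj_eq_iff.1
  (Subgroup.eq_of_le_of_card_ge (by
      rintro _ ⟨x, ⟨hx, hx'⟩, rfl⟩
      refine ⟨mul_mem (mul_mem hg hx) (inv_mem hg), fun a ha => ?_⟩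
      have ha' : g⁻¹ * a * g ∈ A := by
        have := (Subgroup.mem_normalizer_iff.1 (hA (inv_mem hg)) a).1 ha
        rwa [inv_inv] at this
      rw [show ⁅(MulAut.conj g).toMonoidHom x, a⁆ = g * ⁅x, g⁻¹ * a * g⁆ * g⁻¹ by
        rw [coe_conj]; simp only [commutatorElement_def]; group]
      exact (Subgroup.mem_normalizer_iff.1 (hD hg) _).1 (hx' _ ha'))
    (Nat.card_congr ((trivMod L A D hA hD).equivMapOfInjective _ (MulAut.conj g).injective).toEquiv).le)

/-- An element of order prime to `p` acting trivially on the abelianisation of a `p`-group centralizes it. -/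
theorem mem_centralizer_of_coprime [Finite G] {p : ℕ} [Fact p.Prime] {A : Subgroup G} (hAp : IsPGroup p A)
    {x : G} (hc : (orderOf x).Coprime p) (hx : ∀ b ∈ Subgroup.zpowers x, ∀ a ∈ A, ⁅b, a⁆ ∈ ⁅A, A⁆)
    (hxn : Subgroup.zpowers x ≤ Subgroup.normalizer (A : Set G)) :
    x ∈ Subgroup.centralizer (A : Set G) := by
  set B := A ⊓ Subgroup.centralizer (Subgroup.zpowers x : Set G)
  have hcop : (Nat.card (Subgroup.zpowers x)).Coprime (Nat.card (⁅A, A⁆ : Subgroup G)) := by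
    rw [Nat.card_zpowers]
    exact CfsgLib.LocalEven.Residual.mem_of_coprime_card (hAp.to_le (Subgroup.commutator_le_self A)) hc
  have h1 : A ≤ ⁅A, A⁆ ⊔ B := CfsgLib.Coprime.le_sup_centralizer
    (normalizer_commutator hxn hxn) (Subgroup.commutator_le_self A) hcop
    (.inl (CfsgLib.Coprime.isSolvable_zpowers x)) hx
  haveI := hAp.isNilpotent
  have hB : B.subgroupOf A = ⊤ := by
    by_contra hne
    obtain ⟨M, hM, hBM⟩ := (eq_top_or_exists_le_coatom (B.subgroupOf A)).resolve_left hne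
    haveI : M.Normal := Subgroup.NormalizerCondition.normal_of_coatom M Group.normalizerCondition_of_isNilpotent hM
    refine hM.1 (top_le_iff.1 (CfsgLib.Fusion.Basic.le_of_le_commutator_sup ?_))
    intro a _
    have h2 : A.subgroupOf A ≤ (⁅A, A⁆ ⊔ B).subgroupOf A := fun y hy => h1 hy
    rw [Subgroup.subgroupOf_self, Subgroup.subgroupOf_sup (Subgroup.commutator_le_self A) inf_le_left] at h2
    refine (sup_le_sup ?_ hBM) (h2 (Subgroup.mem_top a))
    intro y hy
    have h3 : (⁅(⊤ : Subgroup A), (⊤ : Subgroup A)⁆).map A.subtype = ⁅A, A⁆ := by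
      rw [Subgroup.map_commutator, ← MonoidHom.range_eq_map, Subgroup.range_subtype]
    obtain ⟨z, hz, he⟩ := (h3.symm ▸ hy : (y : G) ∈ (⁅(⊤ : Subgroup A), (⊤ : Subgroup A)⁆).map A.subtype)
    exact Subtype.ext he ▸ hz
  refine Subgroup.mem_centralizer_iff.2 fun a ha => ?_
  have h4 : a ∈ B := (SetLike.ext_iff.1 hB ⟨a, ha⟩).2 (Subgroup.mem_top _)
  exact (Subgroup.mem_centralizer_iff.1 h4.2 x (Subgroup.mem_zpowers x)).symm

/-- Standing hypotheses: G a finite group, S a Sylow p-subgroup, Q a nontrivial large p-subgroup of G contained in S, M a subgroup containing S with the basic property (M ∈ 𝔐_G(S)); Y_M the largest p-reduced normal subgroup of M and M† = M·C_G(Y_M). Let I be a nontrivial normal p-subgroup of M and Y ≤ O_p(M†); let L be a subgroup of G containing Y and A a normal p-subgroup of L with I ≤ A ≤ M. If [Y, A] ≤ [I, A], then Y ≤ O_p(L). -/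
theorem result {G : Type*} [Group G] [Finite G] {p : ℕ} [Fact p.Prime] (S : Sylow p G) (Q : Subgroup G) (hQp : IsPGroup p ↥Q) (hQ1 : Q ≠ ⊥) (hQS : Q ≤ (S : Subgroup G)) (hQ : Cfsg.IsLarge Q) (M : Subgroup G) (hSM : (S : Subgroup G) ≤ M) (hM : Cfsg.IsInFrakM p M) (I : Subgroup G) (hI1 : I ≠ ⊥) (hIp : IsPGroup p ↥I) (hIM : I ≤ M ∧ M ≤ Subgroup.normalizer ((I : Subgroup G) : Set G)) (Y : Subgroup G) (hY : Y ≤ (Cfsg.pCoreOf p (M ⊔ Subgroup.centralizer (((Cfsg.largestPReducedOf p M) : Subgroup G) : Set G)))) (L : Subgroup G) (hYL : Y ≤ L) (A : Subgroup G) (hAp : IsPGroup p ↥A) (hAL : A ≤ L ∧ L ≤ Subgroup.normalizer ((A : Subgroup G) : Set G)) (hIA : I ≤ A) (hAM : A ≤ M) (hc : ⁅Y, A⁆ ≤ ⁅I, A⁆) : Y ≤ (Cfsg.pCoreOf p L) := by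
  set Md := M ⊔ Subgroup.centralizer ((Cfsg.largestPReducedOf p M : Subgroup G) : Set G)
  -- `C(I) ≤ M†`
  have hCI : Subgroup.centralizer (I : Set G) ≤ Md := by
    set N := Subgroup.normalizer (I : Set G)
    have hO : I ≤ Cfsg.pCoreOf p N := le_pCoreOf Subgroup.le_normalizer le_rfl hIp
    have hO1 : Cfsg.pCoreOf p N ≠ ⊥ := fun h => hI1 (le_bot_iff.1 (h ▸ hO))
    have hc := (CfsgLib.LocalEven.Large.centralizer_pCoreOf_of_large hQp hQ1 hQ
      ((hQS.trans hSM).trans hIM.2) hO1).2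
    have hCN : Subgroup.centralizer ((Cfsg.pCoreOf p N : Subgroup G) : Set G) ≤ N :=
      (Subgroup.centralizer_le hO).trans (Subgroup.centralizer_le_normalizer _)
    have hN : N ∈ Cfsg.charPSubgroups p G :=
      ⟨CfsgLib.LocalEven.Large.pCore_ne_bot_iff.2 hO1, (le_inf hCN le_rfl).trans hc⟩
    obtain ⟨X, hNX, hX, hXmax⟩ := Finite.exists_le_maximal (p := fun X => X ∈ Cfsg.charPSubgroups p G) hN
    have := hM.2.2.1 X ⟨hX, fun L hL hle => le_antisymm (hXmax hL hle) hle⟩ (hIM.2.trans hNX)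
    exact (Subgroup.centralizer_le_normalizer _).trans (hNX.trans this.le)
  have hLA : L ≤ Subgroup.normalizer ((⁅A, A⁆ : Subgroup G) : Set G) := normalizer_commutator hAL.2 hAL.2
  set C := trivMod L A ⁅A, A⁆ hAL.2 hLA
  have hCL : C ≤ L := fun x hx => hx.1
  have hYC : Y ≤ C := fun y hy => ⟨hYL hy, fun a ha =>
    Subgroup.commutator_mono hIA le_rfl (hc (Subgroup.commutator_mem_commutator hy ha))⟩
  have hLC : L ≤ Subgroup.normalizer (C : Set G) := le_normalizer_trivMod hAL.2 hLA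
  set X := (Cfsg.pResidual p ↥C).map C.subtype
  have hXC : X ≤ C := Subgroup.map_subtype_le _
  have hXA : X ≤ Subgroup.centralizer (A : Set G) := CfsgLib.LocalEven.Residual.map_pResidual_le_iff.2
    fun x hx hc' => mem_centralizer_of_coprime hAp hc'
      (fun b hb a ha => ((Subgroup.zpowers_le.2 hx) hb).2 a ha)
      ((Subgroup.zpowers_le.2 (hCL hx)).trans hAL.2)
  have hXMd : X ≤ Md := hXA.trans ((Subgroup.centralizer_le hIA).trans hCI)
  have hCX : C ≤ Subgroup.normalizer (X : Set G) :=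
    Subgroup.le_normalizer.trans (CfsgLib.LocalEven.Residual.normalizer_map_pResidual C)
  set O := Cfsg.pCoreOf p Md
  set O₁ := Cfsg.pCoreOf p C
  have hXO : X ⊓ O ≤ O₁ := by
    refine le_trans (le_pCoreOf inf_le_left (normalizer_inf Subgroup.le_normalizer (hXMd.trans (normalizer_pCoreOf Md)))
      ((isPGroup_pCoreOf Md).to_le inf_le_right)) (le_pCoreOf ((pCoreOf_le X).trans hXC) ?_ (isPGroup_pCoreOf X))
    exact le_normalizer_of_map_conj fun g hg => by rw [pCoreOf_map_conj, map_conj_eq_iff.2 (hCX hg)]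
  have hW : IsPGroup p ↥(Y ⊔ O₁) :=
    ((isPGroup_pCoreOf Md).to_le hY).to_sup_of_normal_right' (isPGroup_pCoreOf C) (hYC.trans (normalizer_pCoreOf C))
  obtain ⟨T, hT, hWT⟩ := exists_isSylowIn (p := p) C (sup_le hYC (pCoreOf_le C)) hW
  have hCTX : C ≤ T ⊔ X := le_of_coprime_of_sylow hT
    (fun x hx hc' => Subgroup.mem_sup_right (CfsgLib.Fusion.Basic.mem_map_pResidual_of_coprime hx hc')) le_sup_left
  have hconj : ∀ c ∈ C, ∀ y ∈ Y, c * y * c⁻¹ ∈ T := by
    intro c hc' y hy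
    obtain ⟨t, ht, x, hx, rfl⟩ := exists_mul (hT.1.trans hCX) (hCTX hc')
    have h1 : ⁅x, y⁆ ∈ X ⊓ O :=
      ⟨Subgroup.le_normalizer_iff_commutator_le_left.1 (hYC.trans hCX) (Subgroup.commutator_mem_commutator hx hy),
        Subgroup.le_normalizer_iff_commutator_le_right.1 (hXMd.trans (normalizer_pCoreOf Md))
          (Subgroup.commutator_mem_commutator hx (hY hy))⟩
    rw [show t * x * y * (t * x)⁻¹ = t * (⁅x, y⁆ * y) * t⁻¹ by simp only [commutatorElement_def]; group]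
    exact mul_mem (mul_mem ht (mul_mem (hWT (Subgroup.mem_sup_right (hXO h1))) (hWT (Subgroup.mem_sup_left hy))))
      (inv_mem ht)
  set N := Subgroup.normalClosure ((Y.subgroupOf C : Subgroup C) : Set C)
  have hNT : N.map C.subtype ≤ T := by
    rw [Subgroup.map_le_iff_le_comap]
    refine (Subgroup.closure_le _).2 fun z hz => ?_
    obtain ⟨y, hy, hyz⟩ := Group.mem_conjugatesOfSet_iff.1 hz
    obtain ⟨c, rfl⟩ := isConj_iff.1 hyz
    exact hconj c c.2 y hy
  have hYN : Y ≤ N.map C.subtype := fun y hy => ⟨⟨y, hYC hy⟩, Subgroup.subset_normalClosure hy, rfl⟩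
  have hNn : C ≤ Subgroup.normalizer ((N.map C.subtype : Subgroup G) : Set G) :=
    (Subgroup.normal_subgroupOf_iff_le_normalizer (Subgroup.map_subtype_le _)).1 (by
      rw [Subgroup.subgroupOf, Subgroup.comap_map_eq_self_of_injective C.subtype_injective]
      exact Subgroup.normalClosure_normal)
  refine hYN.trans ((le_pCoreOf (Subgroup.map_subtype_le _) hNn (hT.2.1.to_le hNT)).trans ?_)
  refine le_pCoreOf ((pCoreOf_le C).trans hCL) ?_ (isPGroup_pCoreOf C)
  exact le_normalizer_of_map_conj fun g hg => by rw [pCoreOf_map_conj, map_conj_eq_iff.2 (hLC hg)]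

end Cfsg.Agent.S2864
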