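import Cfsg.Statements.S2860
import Cfsg.Agent.Lib.LocalEven.Large
import Cfsg.Agent.Lib.LocalEven.Commutators
import Cfsg.Agent.Lib.Components.Quasisimple
import Cfsg.Agent.S2864

set_option autoImplicit false
open Cfsg
open scoped commutatorElement Pointwise

namespace Cfsg.Agent.S2860

open CfsgLib.LocalEven.SylowIn CfsgLib.LocalEven.PReduced CfsgLib.LocalEven.Residual
open CfsgLib.LocalEven.WeakClosure CfsgLib.LocalEven.Commutators

variable {G : Type*} [Group G]

/-- A perfect central extension of a quasisimple group is quasisimple. -/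
theorem central_extension {H : Type*} [Group H] [Group.IsPerfect H] (M : Subgroup H) [M.Normal]
    (hM : M ≤ Subgroup.center H) (hq : Cfsg.IsQuasisimple (H ⧸ M)) : Cfsg.IsQuasisimple H := by
  refine ⟨inferInstance, ?_⟩
  haveI := hq.2
  exact ((QuotientGroup.quotientMulEquivOfEq (CfsgLib.Components.center_quotient_of_perfect M hM)).trans
    (QuotientGroup.quotientQuotientEquivQuotient M (Subgroup.center H) hM)).symm.isSimpleGroup

theorem commutator_sup_le {A B C : Subgroup G} (hA : A ≤ Subgroup.normalizer (C : Set G))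
    (hB : B ≤ Subgroup.normalizer (C : Set G)) : ⁅A ⊔ C, B⁆ ≤ ⁅A, B⁆ ⊔ C := by
  rw [Subgroup.commutator_le]
  intro x hx b hb
  obtain ⟨a, ha, c, hc, rfl⟩ := Cfsg.Agent.S2864.exists_mul hA hx
  rw [show ⁅a * c, b⁆ = a * ⁅c, b⁆ * a⁻¹ * ⁅a, b⁆ by simp only [commutatorElement_def]; group]
  refine mul_mem (Subgroup.mem_sup_right ((Subgroup.mem_normalizer_iff.1 (hA ha) _).1 ?_))
    (Subgroup.mem_sup_left (Subgroup.commutator_mem_commutator ha hb))
  exact Subgroup.le_normalizer_iff_commutator_le_left.1 hB (Subgroup.commutator_mem_commutator hc hb)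

variable [Finite G] {p : ℕ} [Fact p.Prime]

theorem coprime_mem {P C : Subgroup G} (hP : IsPGroup p P) (hPC : P ≤ Subgroup.normalizer (C : Set G))
    {g : G} (hg : g ∈ C ⊔ P) (hc : (orderOf g).Coprime p) : g ∈ C :=
  coprime_mem_sup hPC (fun x hx hx' => by rw [eq_one_of_coprime_of_isPGroup hP hx hx']; exact C.one_mem)
    (by rwa [sup_comm]) hc

/-- The facts about the closure of a weakly closed subgroup inside `E`. -/
theorem closure_facts {Q E L R : Subgroup G} (hwc : Cfsg.IsWeaklyClosedSubgroup p Q) (hQE : Q ≤ E)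
    (hL : L = Cfsg.weakClosure Q E) (hR : R = (Cfsg.pResidual p ↥L).map L.subtype) :
    Q ≤ L ∧ L ≤ E ∧ E ≤ Subgroup.normalizer (L : Set G) ∧ E ≤ Subgroup.normalizer (R : Set G) ∧
      L ≤ R ⊔ Q ∧ ⁅R, Q⁆ = R := by
  have hQp : IsPGroup p Q := isPGroup_of_wc hwc
  have hLE : L ≤ E := by rw [hL]; exact iSup_le fun g => g.2
  have hgen : ∀ g : G, Q.map (MulAut.conj g).toMonoidHom ≤ E → Q.map (MulAut.conj g).toMonoidHom ≤ L :=
    fun g hg => by
      rw [hL]
      exact le_iSup (fun x : {g : G // Q.map (MulAut.conj g).toMonoidHom ≤ E} =>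
        Q.map (MulAut.conj (x : G)).toMonoidHom) ⟨g, hg⟩
  have hQL : Q ≤ L := le_of_eq_of_le (map_conj_one Q).symm (hgen 1 (by rwa [map_conj_one]))
  have hLn : E ≤ Subgroup.normalizer (L : Set G) := fun x hx => map_conj_eq_iff.1
    (Subgroup.eq_of_le_of_card_ge (by
      conv_lhs => rw [hL, Cfsg.weakClosure, Subgroup.map_iSup]
      refine iSup_le fun g => ?_
      rw [map_conj_conj]
      refine hgen _ ?_
      rw [← map_conj_conj]
      exact (Subgroup.map_mono g.2).trans (map_conj_eq_iff.2 (Subgroup.le_normalizer hx)).le)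
      (Nat.card_congr (L.equivMapOfInjective _ (MulAut.conj x).injective).toEquiv).le)
  have hRn : E ≤ Subgroup.normalizer (R : Set G) := by rw [hR]; exact hLn.trans (normalizer_map_pResidual L)
  have hRmem : ∀ g ∈ L, (orderOf g).Coprime p → g ∈ R := fun g hg hc => by
    rw [hR]; exact CfsgLib.Fusion.Basic.mem_map_pResidual_of_coprime hg hc
  obtain ⟨T, hT, hQT⟩ := exists_isSylowIn (p := p) L hQL hQp
  have hTQ : T ≤ Subgroup.normalizer (Q : Set G) := Subgroup.le_normalizer.trans (normalizer_le hwc hT.2.1 hQT)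
  have hLRT : L ≤ R ⊔ T := le_of_coprime_of_sylow hT (fun x hx hc => Subgroup.mem_sup_left (hRmem x hx hc)) le_sup_right
  have hLRQ : L ≤ R ⊔ Q := by
    conv_lhs => rw [hL]
    refine iSup_le fun g => ?_
    obtain ⟨k, hk, he⟩ := exists_conj_in hwc hQL (hgen _ g.2)
    rw [he]
    have h1 : R ⊔ T ≤ Subgroup.normalizer ((R ⊔ Q : Subgroup G) : Set G) :=
      sup_le (le_sup_left.trans Subgroup.le_normalizer)
        (normalizer_sup ((hT.1.trans hLE).trans hRn) hTQ)
    exact (Subgroup.map_mono le_sup_right).trans (map_conj_eq_iff.2 (h1 (hLRT hk))).le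
  refine ⟨hQL, hLE, hLn, hRn, hLRQ, le_antisymm (Subgroup.le_normalizer_iff_commutator_le_left.1 (hQE.trans hRn)) ?_⟩
  set C := ⁅R, Q⁆
  have hC1 : Q ≤ Subgroup.normalizer (C : Set G) := normalizer_commutator_right R Q
  have hC2 : R ≤ Subgroup.normalizer ((C ⊔ Q : Subgroup G) : Set G) := fun k hk => map_conj_eq_iff.1
    (Subgroup.eq_of_le_of_card_ge (by
      rw [Subgroup.map_sup, map_conj_eq_iff.2 (normalizer_commutator_left R Q hk)]
      refine sup_le le_sup_left ?_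
      rintro _ ⟨q, hq, rfl⟩
      rw [show (MulAut.conj k).toMonoidHom q = ⁅k, q⁆ * q by
        rw [Cfsg.Agent.S2864.coe_conj]; simp only [commutatorElement_def]; group]
      exact mul_mem (Subgroup.mem_sup_left (Subgroup.commutator_mem_commutator hk hq)) (Subgroup.mem_sup_right hq))
      (Nat.card_congr ((C ⊔ Q).equivMapOfInjective _ (MulAut.conj k).injective).toEquiv).le)
  have hC3 : L ≤ C ⊔ Q := by
    conv_lhs => rw [hL]
    refine iSup_le fun g => ?_
    obtain ⟨k, hk, he⟩ := exists_conj_in hwc hQL (hgen _ g.2)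
    rw [he]
    exact (Subgroup.map_mono le_sup_right).trans
      (map_conj_eq_iff.2 ((sup_le hC2 (le_sup_right.trans Subgroup.le_normalizer)) (hLRQ hk))).le
  conv_lhs => rw [hR]
  exact map_pResidual_le_iff.2 fun g hg hc => coprime_mem hQp hC1 (hC3 hg) hc

/-- Let Q be a nontrivial large p-subgroup of the finite group H, U a nontrivial elementary abelian p-subgroup of H, and Q ≤ E ≤ N_H(U) with Q not normal in E. Suppose O_p(E/C_E(U)) = 1 and O^p(E)·C_E(U)/C_E(U) is quasisimple. Let E° be the weak closure of Q in E (generated by the conjugates of Q inside E) and E_∘ = O^p(E°). Then O^p(E)·C_E(U) = E_∘·C_E(U); E_∘ is perfect and equals O^p(E_∘); E_∘/C_{E_∘}(U) and E_∘/O_p(E_∘) are quasisimple; and E_∘ = [E_∘, Y] for every p-subgroup Y of E not centralizing U. -/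
theorem result {G : Type*} [Group G] [Finite G] {p : ℕ} [Fact p.Prime] (Q : Subgroup G) (hQp : IsPGroup p ↥Q) (hQ1 : Q ≠ ⊥) (hQ : Cfsg.IsLarge Q) (U : Subgroup G) (hU : Cfsg.IsElementaryAbelian p U) (hU1 : U ≠ ⊥) (E : Subgroup G) (hQE : Q ≤ E) (hEU : E ≤ Subgroup.normalizer ((U : Subgroup G) : Set G)) (hQn : ¬ E ≤ Subgroup.normalizer ((Q : Subgroup G) : Set G)) [hn : ((Subgroup.centralizer ((U : Subgroup G) : Set G)).subgroupOf E).Normal] (hred : Cfsg.pCore p (↥E ⧸ (Subgroup.centralizer ((U : Subgroup G) : Set G)).subgroupOf E) = ⊥) (hqs : Cfsg.IsQuasisimple ↥(((Cfsg.pResidual p ↥E) ⊔ (Subgroup.centralizer ((U : Subgroup G) : Set G)).subgroupOf E).map (QuotientGroup.mk' ((Subgroup.centralizer ((U : Subgroup G) : Set G)).subgroupOf E)))) (Er : Subgroup G) (hEr : Er = ((Cfsg.pResidual p ↥(Cfsg.weakClosure Q E)).map ((Cfsg.weakClosure Q E)).subtype)) [hn2 : ((Subgroup.centralizer ((U : Subgroup G) : Set G)).subgroupOf Er).Normal] : ((Cfsg.pResidual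 p ↥E).map (E).subtype) ⊔ (E ⊓ Subgroup.centralizer ((U : Subgroup G) : Set G)) = Er ⊔ (E ⊓ Subgroup.centralizer ((U : Subgroup G) : Set G)) ∧ ⁅Er, Er⁆ = Er ∧ ((Cfsg.pResidual p ↥Er).map (Er).subtype) = Er ∧ Cfsg.IsQuasisimple (↥Er ⧸ (Subgroup.centralizer ((U : Subgroup G) : Set G)).subgroupOf Er) ∧ Cfsg.IsQuasisimple (↥Er ⧸ Cfsg.pCore p ↥Er) ∧ ∀ Y : Subgroup G, Y ≤ E → IsPGroup p ↥Y → ¬ Y ≤ Subgroup.centralizer ((U : Subgroup G) : Set G) → ⁅Er, Y⁆ = Er := by
  set Z := Subgroup.centralizer ((U : Subgroup G) : Set G) with hZdef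
  set C := E ⊓ Z with hCdef
  set O := Cfsg.pCoreOf p E
  set R := (Cfsg.pResidual p ↥E).map E.subtype with hRdef
  have hwc := isWeaklyClosedSubgroup_of_large hQp hQ1 hQ
  have hQU : ¬ Q ≤ Z := fun h =>
    hQn (hEU.trans (hQ.2 U (Subgroup.le_centralizer_iff.1 h) hU1))
  have hCQ : C ≤ Subgroup.normalizer (Q : Set G) := inf_le_right.trans
    (CfsgLib.LocalEven.Large.centralizer_le_normalizer hQp hQ (elab_isPGroup hU) hU1 (hQE.trans hEU))
  have hCn : E ≤ Subgroup.normalizer (C : Set G) :=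
    normalizer_inf Subgroup.le_normalizer (normalizer_centralizer hEU)
  have hCE : C ≤ E := inf_le_left
  have hOn : E ≤ Subgroup.normalizer (O : Set G) := normalizer_pCoreOf E
  have hpc : ∀ {N : Subgroup G}, N ≤ E → E ≤ Subgroup.normalizer (N : Set G) → Cfsg.pCoreOf p N ≤ O :=
    fun {N} h1 h2 => le_pCoreOf ((pCoreOf_le N).trans h1)
      (le_normalizer_of_map_conj fun g hg => by rw [pCoreOf_map_conj, map_conj_eq_iff.2 (h2 hg)])
      (isPGroup_pCoreOf N)
  -- reduction modulo `C`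
  set f := QuotientGroup.mk' (Z.subgroupOf E)
  have sub_p : ∀ N W : Subgroup G, N ≤ W → W ≤ E → E ≤ Subgroup.normalizer (W : Set G) →
      W ≤ Subgroup.normalizer (N : Set G) → (∀ x ∈ N, (orderOf x).Coprime p → x ∈ C) → N ≤ C := by
    intro N W hNW hWE hWn hNn hcop x hx
    have hp : IsPGroup p ((N.subgroupOf E).map f) := by
      rintro ⟨_, y, hy, rfl⟩
      obtain ⟨k, hk⟩ := CfsgLib.Fusion.Basic.exists_pow_coprime (p := p) (y : G)
      refine ⟨k, Subtype.ext ?_⟩
      show f y ^ p ^ k = 1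
      rw [← map_pow, QuotientGroup.mk'_apply, QuotientGroup.eq_one_iff, Subgroup.mem_subgroupOf,
        SubmonoidClass.coe_pow]
      exact (hcop _ (pow_mem hy _) hk).2
    haveI : (W.subgroupOf E).Normal := (Subgroup.normal_subgroupOf_iff_le_normalizer hWE).2 hWn
    have hsn : (N.subgroupOf E).IsSubnormal := isSubnormal_of_normal (L := W.subgroupOf E)
      (Subgroup.Normal.isSubnormal inferInstance) (fun y hy => hNW hy) (fun y hy => Subgroup.mem_normalizer_iff.2 fun z =>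
        Subgroup.mem_normalizer_iff.1 (hNn hy) z)
    have h1 := CfsgLib.LocalEven.Residual.le_pCore_of_isSubnormal
      (hsn.map (QuotientGroup.mk'_surjective _) : ((N.subgroupOf E).map f).IsSubnormal) hp
    rw [hred, le_bot_iff, Subgroup.map_eq_bot_iff, QuotientGroup.ker_mk'] at h1
    exact ⟨hWE (hNW hx), h1 (show (⟨x, hWE (hNW hx)⟩ : E) ∈ N.subgroupOf E from hx)⟩
  -- `K = O^p(E) C`
  set K := R ⊔ C with hKdef
  have hRE : R ≤ E := Subgroup.map_subtype_le _
  have hKE : K ≤ E := sup_le hRE hCE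
  have hKn : E ≤ Subgroup.normalizer (K : Set G) :=
    normalizer_sup (Subgroup.le_normalizer.trans (normalizer_map_pResidual E)) hCn
  have hRmem : ∀ g ∈ E, (orderOf g).Coprime p → g ∈ R :=
    fun g hg hc => CfsgLib.Fusion.Basic.mem_map_pResidual_of_coprime hg hc
  set Kb := (Cfsg.pResidual p ↥E ⊔ Z.subgroupOf E).map f with hKb
  have hKsub : K.subgroupOf E = Cfsg.pResidual p ↥E ⊔ Z.subgroupOf E := by
    rw [hKdef, Subgroup.subgroupOf_sup hRE hCE, hCdef, Subgroup.inf_subgroupOf_left, hRdef,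
      Subgroup.subgroupOf, Subgroup.comap_map_eq_self_of_injective E.subtype_injective]
  have hKb' : Kb = (K.subgroupOf E).map f := by rw [hKb, hKsub]
  have hcompare : ∀ A B : Subgroup G, A ≤ E → C ≤ B → B ≤ E →
      (A.subgroupOf E).map f ≤ (B.subgroupOf E).map f → A ≤ B := by
    intro A B hA hCB hB h x hx
    obtain ⟨y, hy, he⟩ := h ⟨⟨x, hA hx⟩, hx, rfl⟩
    have h2 : (y : G)⁻¹ * x ∈ Z := (QuotientGroup.eq.1 he : y⁻¹ * (⟨x, hA hx⟩ : E) ∈ Z.subgroupOf E)
    have hyB : (y : G) ∈ B := hy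
    have hC' : (y : G)⁻¹ * x ∈ C := Subgroup.mem_inf.2 ⟨mul_mem (inv_mem y.2) (hA hx), h2⟩
    have h3 := mul_mem hyB (hCB hC')
    rwa [mul_inv_cancel_left] at h3
  haveI := hqs.1
  have hperfK : K ≤ ⁅K, K⁆ ⊔ C := by
    have hKKE : ⁅K, K⁆ ≤ E := (Subgroup.commutator_le_self K).trans hKE
    refine hcompare K _ hKE le_sup_right (sup_le hKKE hCE) ?_
    have e : (⁅K, K⁆.subgroupOf E).map f = ⁅Kb, Kb⁆ := by
      rw [hKb', ← Subgroup.map_commutator]
      congr 1
      apply Subgroup.map_injective E.subtype_injective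
      rw [Subgroup.map_commutator, Subgroup.map_subgroupOf_eq_of_le hKE, Subgroup.map_subgroupOf_eq_of_le hKKE]
    rw [← hKb', ← Subgroup.isPerfect_iff.1 hqs.1, ← e]
    exact Subgroup.map_mono (fun x hx => Subgroup.mem_sup_left hx)
  have qs : ∀ N : Subgroup G, C ≤ N → N ≤ K → K ≤ Subgroup.normalizer (N : Set G) → ⁅N, K⁆ ≤ C ∨ K ≤ N := by
    intro N hCN hNK hNn
    set Nb := (N.subgroupOf E).map f
    have hNbK : Nb ≤ Kb := hKb' ▸ Subgroup.map_mono (fun x hx => hNK hx)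
    haveI : (Nb.subgroupOf Kb).Normal := by
      rw [Subgroup.normal_subgroupOf_iff_le_normalizer hNbK, hKb']
      refine (Subgroup.map_mono ?_).trans (Subgroup.le_normalizer_map f)
      intro y hy
      exact Subgroup.mem_normalizer_iff.2 fun z => Subgroup.mem_normalizer_iff.1 (hNn hy) z
    rcases CfsgLib.Components.IsQuasisimple.normal_le_center_or_top hqs (Nb.subgroupOf Kb) with h | h
    · refine Or.inl (Subgroup.commutator_le.2 fun a ha b hb => ?_)
      have hfa : f ⟨a, hKE (hNK ha)⟩ ∈ Nb := ⟨_, ha, rfl⟩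
      have hfb : f ⟨b, hKE hb⟩ ∈ Kb := hKb' ▸ ⟨_, hb, rfl⟩
      have h2 := congrArg Subtype.val (Subgroup.mem_center_iff.1
        (h (show (⟨_, hNbK hfa⟩ : Kb) ∈ Nb.subgroupOf Kb from hfa)) ⟨_, hfb⟩)
      have h3 : f ⁅(⟨a, hKE (hNK ha)⟩ : E), ⟨b, hKE hb⟩⁆ = 1 := by
        rw [map_commutatorElement, commutatorElement_eq_one_iff_mul_comm]
        exact h2.symm
      have h4 : ⁅(⟨a, hKE (hNK ha)⟩ : E), ⟨b, hKE hb⟩⁆ ∈ Z.subgroupOf E := (QuotientGroup.eq_one_iff _).1 h3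
      exact (Subgroup.mem_inf.2 ⟨(⁅(⟨a, hKE (hNK ha)⟩ : E), (⟨b, hKE hb⟩ : E)⁆).2, h4⟩)
    · refine Or.inr (hcompare K N hKE hCN (hNK.trans hKE) ?_)
      rw [← hKb']
      exact Subgroup.subgroupOf_eq_top.1 h
  -- centralizing `K` modulo `C`
  have noncent : ∀ Y : Subgroup G, Y ≤ E → IsPGroup p Y → ⁅K, Y⁆ ≤ C → Y ≤ C := by
    intro Y hYE hYp hKY
    set W := Cfsg.Agent.S2864.trivMod E K C hKn hCn
    have hWE : W ≤ E := fun x hx => hx.1
    have hYW : Y ≤ W := fun y hy => ⟨hYE hy, fun k hk => by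
      rw [← commutatorElement_inv]
      exact inv_mem (hKY (Subgroup.commutator_mem_commutator hk hy))⟩
    have hCW : C ≤ W := fun c hc => ⟨hCE hc, fun k hk =>
      Subgroup.le_normalizer_iff_commutator_le_left.1 (hKE.trans hCn) (Subgroup.commutator_mem_commutator hc hk)⟩
    obtain ⟨T, hT, hYT⟩ := exists_isSylowIn (p := p) W hYW hYp
    have hWn : W ≤ Subgroup.normalizer ((T ⊔ C : Subgroup G) : Set G) := by
      refine le_trans (le_of_coprime_of_sylow hT (C := (W ⊓ K) ⊔ T) (fun x hx hc => Subgroup.mem_sup_left ?_) ?_)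
        (sup_le (fun x hx => ?_) (le_sup_left.trans Subgroup.le_normalizer) : (W ⊓ K) ⊔ T ≤ _)
      · exact ⟨hx, Subgroup.mem_sup_left (hRmem x (hWE hx) hc)⟩
      · exact le_sup_right
      · refine map_conj_eq_iff.1 (Subgroup.eq_of_le_of_card_ge ?_
          (Nat.card_congr ((T ⊔ C).equivMapOfInjective _ (MulAut.conj x).injective).toEquiv).le)
        rw [Subgroup.map_sup, map_conj_eq_iff.2 (hCn (hWE hx.1))]
        refine sup_le ?_ le_sup_right
        rintro _ ⟨t, ht, rfl⟩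
        rw [Cfsg.Agent.S2864.coe_conj, show x * t * x⁻¹ = ⁅t, x⁆⁻¹ * t by simp only [commutatorElement_def]; group]
        exact mul_mem (inv_mem (Subgroup.mem_sup_right ((hT.1 ht).2 x hx.2))) (Subgroup.mem_sup_left ht)
    exact hYT.trans (le_sup_left.trans (sub_p (T ⊔ C) W (sup_le hT.1 hCW) hWE
      (Cfsg.Agent.S2864.le_normalizer_trivMod hKn hCn) hWn fun x hx hc =>
        coprime_mem hT.2.1 ((hT.1.trans hWE).trans hCn) (by rwa [sup_comm]) hc))
  have halfcent : ∀ (A Y : Subgroup G), A ≤ K → Y ≤ E → K ≤ A ⊔ C → ⁅A, Y⁆ ≤ C → ⁅K, Y⁆ ≤ C :=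
    fun A Y hA hY h1 h2 => ((Subgroup.commutator_mono h1 le_rfl).trans
      (commutator_sup_le ((hA.trans hKE).trans hCn) (hY.trans hCn))).trans (sup_le h2 le_rfl)
  -- the weak closure
  obtain ⟨hQE0, hE0E, hE0n, hErn, hE0Q, hErQ⟩ := closure_facts hwc hQE rfl hEr
  set E0 := Cfsg.weakClosure Q E with hE0def
  have hErE0 : Er ≤ E0 := by rw [hEr]; exact Subgroup.map_subtype_le _
  have hErE : Er ≤ E := hErE0.trans hE0E
  have hErR : Er ≤ R := by rw [hEr]; exact CfsgLib.Fusion.Basic.pResidual_map_subtype_mono hE0E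
  have hKEr : K ≤ Er ⊔ C := by
    have hN : K ≤ C ⊔ (E0 ⊓ K) := by
      refine (qs (C ⊔ (E0 ⊓ K)) le_sup_left (sup_le le_sup_right inf_le_right) (hKE.trans
        (normalizer_sup hCn (normalizer_inf hE0n hKn)))).resolve_left fun h => ?_
      have h1 : ⁅K, Q⁆ ≤ E0 ⊓ K := le_inf
        ((Subgroup.commutator_mono le_rfl hQE0).trans (Subgroup.le_normalizer_iff_commutator_le_right.1 (hKE.trans hE0n)))
        (Subgroup.le_normalizer_iff_commutator_le_left.1 (hQE.trans hKn))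
      have h2 : ⁅⁅K, Q⁆, K⁆ ≤ C := (Subgroup.commutator_mono (h1.trans le_sup_right) le_rfl).trans h
      have h3 : ⁅⁅K, K⁆, Q⁆ ≤ C := three_subgroup_mod (hKE.trans hCn) (hKE.trans hCn) (hQE.trans hCn) h2
        (by rwa [Subgroup.commutator_comm Q K])
      exact hQU ((noncent Q hQE hQp (halfcent _ Q (Subgroup.commutator_le_self K) hQE hperfK h3)).trans inf_le_right)
    refine sup_le ?_ le_sup_right
    refine map_pResidual_le_iff.2 fun g hg hc => ?_
    refine coprime_mem hQp (hQE.trans (normalizer_sup hErn hCn)) ?_ hc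
    have hgN := hN (Subgroup.mem_sup_left (hRmem g hg hc))
    exact (sup_le (le_sup_right.trans le_sup_left)
      (inf_le_left.trans (hE0Q.trans (sup_le_sup_right le_sup_left Q))) :
        C ⊔ (E0 ⊓ K) ≤ (Er ⊔ C) ⊔ Q) hgN
  have hErK : Er ≤ K := hErR.trans le_sup_left
  have hgoal1 : R ⊔ C = Er ⊔ C := le_antisymm hKEr (sup_le hErK le_sup_right)
  have hCQO : ⁅C, E0⁆ ≤ O := by
    have hbase : ⁅C, Q⁆ ≤ O := by
      refine le_trans (le_inf (Subgroup.le_normalizer_iff_commutator_le_left.1 (hQE.trans hCn))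
        (Subgroup.le_normalizer_iff_commutator_le_right.1 hCQ)) ?_
      exact (le_pCoreOf inf_le_left (normalizer_inf Subgroup.le_normalizer hCQ)
        (hQp.to_le inf_le_right)).trans (hpc hCE hCn)
    rw [Subgroup.commutator_le]
    intro c hc h hh
    suffices hkey : h ∈ E ∧ ∀ c ∈ C, ⁅c, h⁆ ∈ O from hkey.2 c hc
    have hh' : h ∈ ⨆ g : {g : G // Q.map (MulAut.conj g).toMonoidHom ≤ E}, Q.map (MulAut.conj (g : G)).toMonoidHom := hh
    refine Subgroup.iSup_induction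
      (fun g : {g : G // Q.map (MulAut.conj g).toMonoidHom ≤ E} => Q.map (MulAut.conj (g : G)).toMonoidHom)
      (C := fun h => h ∈ E ∧ ∀ c ∈ C, ⁅c, h⁆ ∈ O) hh' ?_ ?_ ?_
    · rintro g x hx
      refine ⟨g.2 hx, fun c hc => ?_⟩
      obtain ⟨k, hk, he⟩ := exists_conj_in hwc hQE g.2
      rw [he] at hx
      obtain ⟨q, hq, rfl⟩ := hx
      have hc' : k⁻¹ * c * k ∈ C := by
        have := (Subgroup.mem_normalizer_iff.1 (hCn (inv_mem hk)) c).1 hc
        rwa [inv_inv] at this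
      show ⁅c, k * q * k⁻¹⁆ ∈ O
      rw [show ⁅c, k * q * k⁻¹⁆ = k * ⁅k⁻¹ * c * k, q⁆ * k⁻¹ by simp only [commutatorElement_def]; group]
      exact (Subgroup.mem_normalizer_iff.1 (hOn hk) _).1 (hbase (Subgroup.commutator_mem_commutator hc' hq))
    · exact ⟨one_mem _, fun c _ => by rw [commutatorElement_one_right]; exact one_mem _⟩
    · rintro x y ⟨hx, hx'⟩ ⟨hy, hy'⟩
      refine ⟨mul_mem hx hy, fun c hc => ?_⟩
      rw [show ⁅c, x * y⁆ = ⁅c, x⁆ * (x * ⁅c, y⁆ * x⁻¹) by simp only [commutatorElement_def]; group]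
      exact mul_mem (hx' c hc) ((Subgroup.mem_normalizer_iff.1 (hOn hx) _).1 (hy' c hc))
  have hErcrit : ∀ N : Subgroup G, Er ≤ Subgroup.normalizer (N : Set G) → Er ≤ N ⊔ (O ⊓ Er) → Er ≤ N := by
    intro N hN h
    conv_lhs => rw [hEr]
    refine map_pResidual_le_iff.2 fun g hg hc => ?_
    refine coprime_mem ((isPGroup_pCoreOf E).to_le inf_le_left) (inf_le_right.trans hN) (h ?_) hc
    rw [hEr]
    exact CfsgLib.Fusion.Basic.mem_map_pResidual_of_coprime hg hc
  have hdown : ∀ N : Subgroup G, N ≤ Er → Er ≤ N ⊔ C → Er ≤ N ⊔ (C ⊓ Er) := by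
    intro N hN h x hx
    obtain ⟨n, hn', c, hc, rfl⟩ := Cfsg.Agent.S2864.exists_mul ((hN.trans hErE).trans hCn) (h hx)
    refine mul_mem (Subgroup.mem_sup_left hn') (Subgroup.mem_sup_right ⟨hc, (?_ : _ ∈ Er)⟩)
    rw [← inv_mul_cancel_left n c]
    exact mul_mem (inv_mem (hN hn')) hx
  have absorb : ∀ (N B : Subgroup G), N ≤ Er → Er ≤ Subgroup.normalizer (N : Set G) →
      B ≤ E0 → B ≤ Subgroup.normalizer (N : Set G) → B ≤ Subgroup.normalizer (Er : Set G) →
      ⁅Er, B⁆ = Er → Er ≤ N ⊔ C → Er ≤ N := by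
    intro N B hN hNn hB hBN hBEr hEB h
    refine hErcrit N hNn ?_
    have hNO : N ≤ Subgroup.normalizer ((O ⊓ Er : Subgroup G) : Set G) :=
      (hN.trans (le_inf hErE le_rfl)).trans (normalizer_inf (inf_le_left.trans hOn) (inf_le_right.trans Subgroup.le_normalizer))
    calc Er = ⁅Er, B⁆ := hEB.symm
      _ ≤ ⁅(C ⊓ Er) ⊔ N, B⁆ := Subgroup.commutator_mono (by rw [sup_comm]; exact hdown N hN h) le_rfl
      _ ≤ ⁅C ⊓ Er, B⁆ ⊔ N := commutator_sup_le (inf_le_right.trans hNn) hBN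
      _ ≤ N ⊔ (O ⊓ Er) := sup_le (le_trans (le_inf
          ((Subgroup.commutator_mono inf_le_left hB).trans hCQO)
          ((Subgroup.commutator_mono inf_le_right le_rfl).trans hEB.le)) le_sup_right) le_sup_left
  have hperf : ⁅Er, Er⁆ = Er := by
    refine le_antisymm (Subgroup.commutator_le_self Er) ?_
    refine absorb _ Q (Subgroup.commutator_le_self Er) (normalizer_commutator Subgroup.le_normalizer Subgroup.le_normalizer)
      hQE0 (normalizer_commutator (hQE.trans hErn) (hQE.trans hErn)) (hQE.trans hErn) hErQ ?_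
    refine hErK.trans (hperfK.trans (sup_le ?_ le_sup_right))
    calc ⁅K, K⁆ ≤ ⁅Er ⊔ C, K⁆ := Subgroup.commutator_mono hKEr le_rfl
      _ ≤ ⁅Er, K⁆ ⊔ C := commutator_sup_le (hErE.trans hCn) (hKE.trans hCn)
      _ ≤ ⁅Er ⊔ C, Er⁆ ⊔ C := sup_le_sup_right (by rw [Subgroup.commutator_comm]; exact Subgroup.commutator_mono hKEr le_rfl) C
      _ ≤ ⁅Er, Er⁆ ⊔ C := sup_le (commutator_sup_le (hErE.trans hCn) (hErE.trans hCn)) le_sup_right
  have hres : ((Cfsg.pResidual p ↥Er).map (Er).subtype) = Er := by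
    refine le_antisymm (Subgroup.map_subtype_le _) ?_
    conv_lhs => rw [hEr]
    refine map_pResidual_le_iff.2 fun g hg hc => CfsgLib.Fusion.Basic.mem_map_pResidual_of_coprime ?_ hc
    rw [hEr]
    exact CfsgLib.Fusion.Basic.mem_map_pResidual_of_coprime hg hc
  -- the quotient by the centralizer
  haveI hErp : Group.IsPerfect Er := Subgroup.isPerfect_iff.2 hperf
  set φ : Er →* ↥E ⧸ Z.subgroupOf E := f.comp (Subgroup.inclusion hErE)
  have hrange : φ.range = Kb := by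
    rw [hKb', MonoidHom.range_eq_map, ← Subgroup.map_map, ← MonoidHom.range_eq_map, Subgroup.inclusion_range]
    refine le_antisymm (Subgroup.map_mono fun x hx => hErK hx) ?_
    rintro _ ⟨x, hx, rfl⟩
    obtain ⟨e, he, c, hc, hxe⟩ := Cfsg.Agent.S2864.exists_mul (hErE.trans hCn) (hKEr hx)
    refine ⟨⟨e, hErE he⟩, he, QuotientGroup.eq.2 ?_⟩
    show e⁻¹ * (x : G) ∈ Z
    rw [show (x : G) = e * c from hxe, inv_mul_cancel_left]
    exact hc.2
  have hker : φ.ker = Z.subgroupOf Er := by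
    ext x
    rw [MonoidHom.mem_ker, MonoidHom.comp_apply, QuotientGroup.mk'_apply, QuotientGroup.eq_one_iff,
      Subgroup.mem_subgroupOf, Subgroup.mem_subgroupOf]
    rfl
  have hq1 : Cfsg.IsQuasisimple (↥Er ⧸ Z.subgroupOf Er) :=
    CfsgLib.Components.IsQuasisimple.of_mulEquiv hqs
      (((QuotientGroup.quotientMulEquivOfEq hker.symm).trans (QuotientGroup.quotientKerEquivRange φ)).trans
        (MulEquiv.subgroupCongr hrange)).symm
  have hPC : Cfsg.pCoreOf p Er ≤ C := sub_p _ Er (pCoreOf_le Er) hErE hErn (normalizer_pCoreOf Er)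
    fun x hx hc => by rw [eq_one_of_coprime_of_isPGroup (isPGroup_pCoreOf Er) hx hc]; exact one_mem C
  have hCErP : ⁅C ⊓ Er, Er⁆ ≤ Cfsg.pCoreOf p Er := by
    refine le_trans (le_inf ((Subgroup.commutator_mono inf_le_left hErE0).trans hCQO)
      ((Subgroup.commutator_mono inf_le_right le_rfl).trans hperf.le)) ?_
    exact le_pCoreOf inf_le_right (normalizer_inf (hErE.trans hOn) Subgroup.le_normalizer)
      ((isPGroup_pCoreOf E).to_le inf_le_left)
  have hP : Cfsg.pCore p ↥Er ≤ Z.subgroupOf Er := fun x hx => (hPC ⟨x, hx, rfl⟩).2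
  haveI := CfsgLib.LocalEven.SylowIn.pCore_normal ↥Er p
  haveI : Group.IsPerfect (↥Er ⧸ Cfsg.pCore p ↥Er) := inferInstance
  have hq2 : Cfsg.IsQuasisimple (↥Er ⧸ Cfsg.pCore p ↥Er) := by
    refine central_extension ((Z.subgroupOf Er).map (QuotientGroup.mk' (Cfsg.pCore p ↥Er))) ?_
      (CfsgLib.Components.IsQuasisimple.of_mulEquiv hq1
        (QuotientGroup.quotientQuotientEquivQuotient (Cfsg.pCore p ↥Er) (Z.subgroupOf Er) hP).symm)
    rintro _ ⟨z, hz, rfl⟩
    refine Subgroup.mem_center_iff.2 fun g => ?_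
    obtain ⟨e, rfl⟩ := QuotientGroup.mk'_surjective _ g
    have h1 := hCErP (Subgroup.commutator_mem_commutator (show (z : G) ∈ C ⊓ Er from ⟨⟨hErE z.2, hz⟩, z.2⟩) e.2)
    obtain ⟨w, hw, hwe⟩ := h1
    have h2 : ⁅z, e⁆ ∈ Cfsg.pCore p ↥Er := by
      rwa [show w = ⁅z, e⁆ from Subtype.ext hwe] at hw
    have h3 : QuotientGroup.mk' (Cfsg.pCore p ↥Er) ⁅z, e⁆ = 1 := (QuotientGroup.eq_one_iff _).2 h2
    rw [map_commutatorElement, commutatorElement_eq_one_iff_mul_comm] at h3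
    exact h3.symm
  refine ⟨hgoal1, hperf, hres, hq1, hq2, fun Y hYE hYp hYZ => ?_⟩
  have hYEr : Y ≤ Subgroup.normalizer (Er : Set G) := hYE.trans hErn
  have hNEr : ⁅Er, Y⁆ ≤ Er := Subgroup.le_normalizer_iff_commutator_le_left.1 hYEr
  have hNn : Er ≤ Subgroup.normalizer ((⁅Er, Y⁆ : Subgroup G) : Set G) := normalizer_commutator_left Er Y
  refine le_antisymm hNEr (absorb _ Er hNEr hNn hErE0 hNn Subgroup.le_normalizer hperf ?_)
  have hKN : K ≤ Subgroup.normalizer ((⁅Er, Y⁆ ⊔ C : Subgroup G) : Set G) :=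
    hKEr.trans (sup_le (normalizer_sup hNn (hErE.trans hCn)) (le_sup_right.trans Subgroup.le_normalizer))
  refine hErK.trans ((qs _ le_sup_right (sup_le (hNEr.trans hErK) le_sup_right) hKN).resolve_left fun h => ?_)
  have h1 : ⁅⁅Er, Y⁆, Er⁆ ≤ C := (Subgroup.commutator_mono le_sup_left hErK).trans h
  have h2 : ⁅⁅Er, Er⁆, Y⁆ ≤ C := three_subgroup_mod (hErE.trans hCn) (hErE.trans hCn) (hYE.trans hCn) h1
    (by rwa [Subgroup.commutator_comm Y Er])
  rw [hperf] at h2
  exact hYZ ((noncent Y hYE hYp (halfcent Er Y hErK hYE hKEr h2)).trans inf_le_right)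

end Cfsg.Agent.S2860
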