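import Cfsg.Statements.S2861
import Cfsg.Agent.Lib.LocalEven.PReduced
import Cfsg.Agent.Lib.LocalEven.RootBorel
import Cfsg.Agent.Lib.Solvable.Cores
-- import your own Cfsg.Agent.* helpers here

set_option autoImplicit false
open Cfsg

namespace Cfsg.Agent.S2861

open CfsgLib.LocalEven CfsgLib.LocalEven.PReduced

/-- Standing hypotheses: G a finite group, S a Sylow p-subgroup, Q a nontrivial large p-subgroup of G contained in S, M a subgroup containing S with the basic property (M ∈ 𝔐_G(S)); Y_M the largest p-reduced normal subgroup of M and M† = M·C_G(Y_M). Let L ∈ 𝔏_G(Y_M) (L ∈ 𝔏_G(Y_M): Y_M ≤ L; O_p(L) is the normal closure in L of Y_M ∩ O_p(L) and normalizes Y_M; L is Y_M-minimal of characteristic p with N_L(Y_M) its unique maximal subgroup over Y_M; and L/O_p(L) ≅ SL₂(q) with q = |Y_M : Y_M ∩ O_p(L)|, or p = 2 and L/O_p(L) is a Suzuki group Sz(q) or dihedral of order 2r, r an odd prime) and A = O_p(L). Then Y_M·A/A is the unique nontrivial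 elementary abelian normal p-subgroup of N_L(Y_M)/A. -/
theorem result {G : Type*} [Group G] [Finite G] {p : ℕ} [Fact p.Prime] (S : Sylow p G) (Q : Subgroup G) (hQp : IsPGroup p ↥Q) (hQ1 : Q ≠ ⊥) (hQS : Q ≤ (S : Subgroup G)) (hQ : Cfsg.IsLarge Q) (M : Subgroup G) (hSM : (S : Subgroup G) ≤ M) (hM : Cfsg.IsInFrakM p M) (L : Subgroup G) (hL : Cfsg.IsInFrakL p M L) (NL : Subgroup G) (hNL : NL = L ⊓ Subgroup.normalizer (((Cfsg.largestPReducedOf p M) : Subgroup G) : Set G)) [hn : (((Cfsg.pCoreOf p L)).subgroupOf NL).Normal] : let Ybar : Subgroup (↥NL ⧸ ((Cfsg.pCoreOf p L)).subgroupOf NL) := (((Cfsg.largestPReducedOf p M)).subgroupOf NL).map (QuotientGroup.mk' (((Cfsg.pCoreOf p L)).subgroupOf NL)); Ybar ≠ ⊥ ∧ Ybar.Normal ∧ Cfsg.IsElementaryAbelian p Ybar ∧ ∀ (V : Subgroup (↥NL ⧸ ((Cfsg.pCoreOf p L)).subgroupOf NL)), V.Normal → Cfsg.IsElementaryAbelian p V → V ≠ ⊥ → V = Ybar := by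
  classical
  obtain ⟨hYL, -, -, hmin, -, ⟨-, hXmax⟩, hcases⟩ := hL
  set Y := Cfsg.largestPReducedOf p M with hYdef
  set A := Cfsg.pCoreOf p L with hAdef
  have hYel : Cfsg.IsElementaryAbelian p Y := (isReducedIn_largest (p := p) M).elab
  subst hNL
  set N := L ⊓ Subgroup.normalizer (Y : Set G) with hN
  have hYN : Y ≤ N := le_inf hYL Subgroup.le_normalizer
  -- the map into the quotient of `L`
  set π := QuotientGroup.mk' (Cfsg.pCore p ↥L)
  have hAmem : ∀ x : ↥L, (x : G) ∈ A ↔ x ∈ Cfsg.pCore p ↥L := fun x => by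
    rw [hAdef, Cfsg.pCoreOf]
    exact Subgroup.mem_map_iff_mem L.subtype_injective
  let incl : ↥N →* ↥L := Subgroup.inclusion inf_le_left
  have hker : A.subgroupOf N = (Cfsg.pCore p ↥L).comap incl := by
    ext x
    rw [Subgroup.mem_subgroupOf, Subgroup.mem_comap, ← hAmem]
    rfl
  let f : ↥N ⧸ A.subgroupOf N →* ↥L ⧸ Cfsg.pCore p ↥L :=
    QuotientGroup.map _ _ incl hker.le
  have hf : Function.Injective f := by
    rw [← MonoidHom.ker_eq_bot_iff, eq_bot_iff]
    intro x hx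
    obtain ⟨y, rfl⟩ := QuotientGroup.mk_surjective x
    rw [MonoidHom.mem_ker, QuotientGroup.map_mk, QuotientGroup.eq_one_iff] at hx
    rw [Subgroup.mem_bot, QuotientGroup.eq_one_iff, hker, Subgroup.mem_comap]
    exact hx
  intro Ybar
  set Y' : Subgroup (↥L ⧸ Cfsg.pCore p ↥L) := (Y.subgroupOf L).map π with hY'
  set N' : Subgroup (↥L ⧸ Cfsg.pCore p ↥L) := (N.subgroupOf L).map π with hN'
  have hfY : Ybar.map f = Y' := by
    show ((Y.subgroupOf N).map _).map f = _
    rw [Subgroup.map_map, hY', show f.comp (QuotientGroup.mk' (A.subgroupOf N)) = π.comp incl from rfl,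
      ← Subgroup.map_map]
    congr 1
    ext x
    simp only [Subgroup.mem_map, Subgroup.mem_subgroupOf]
    constructor
    · rintro ⟨y, hy, rfl⟩; exact hy
    · intro hx; exact ⟨⟨x, hYN hx⟩, hx, rfl⟩
  have hfN : (⊤ : Subgroup (↥N ⧸ A.subgroupOf N)).map f = N' := by
    rw [hN', ← Subgroup.map_top_of_surjective (QuotientGroup.mk' (A.subgroupOf N)) (QuotientGroup.mk'_surjective _),
      Subgroup.map_map, show f.comp (QuotientGroup.mk' (A.subgroupOf N)) = π.comp incl from rfl, ← Subgroup.map_map]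
    congr 1
    ext x
    simp only [Subgroup.mem_map, Subgroup.mem_top, true_and, Subgroup.mem_subgroupOf]
    constructor
    · rintro ⟨y, rfl⟩; exact y.2
    · intro hx; exact ⟨⟨x, hx⟩, rfl⟩
  have hntriv : Nontrivial (↥L ⧸ Cfsg.pCore p ↥L) := by
    rcases hcases with ⟨F, _, _, -, ⟨e⟩⟩ | ⟨-, F, _, _, m, hF, -, ⟨e⟩⟩ | ⟨-, r, hr, -, ⟨e⟩⟩
    · haveI : Nontrivial (Matrix.SpecialLinearGroup (Fin 2) F) := ⟨RootBorel.wEl, 1, fun h => by
        have h1 := congrArg (fun g : Matrix.SpecialLinearGroup (Fin 2) F => (g : Matrix (Fin 2) (Fin 2) F) 1 0) h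
        simp [RootBorel.coe_wEl] at h1⟩
      exact e.toEquiv.nontrivial
    · haveI : Nontrivial ↥(Cfsg.Lie.Sz F (2 ^ (m + 1))) :=
        ⟨CfsgLib.KnownB.Suzuki.W (CfsgLib.KnownB.SzElem.twist_of_card hF), 1, fun h =>
          CfsgLib.KnownB.Suzuki.W_notMem_borel (CfsgLib.KnownB.SzElem.twist_of_card hF) (h ▸ one_mem _)⟩
      exact e.toEquiv.nontrivial
    · haveI : NeZero r := ⟨hr.ne_zero⟩
      haveI : Nontrivial (DihedralGroup r) := ⟨DihedralGroup.sr 0, 1, fun h => by cases h⟩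
      exact e.toEquiv.nontrivial
  have hY'ne : Y' ≠ ⊥ := by
    intro h
    rw [hY', Subgroup.map_eq_bot_iff, QuotientGroup.ker_mk'] at h
    obtain ⟨a, b, hab⟩ := hntriv
    have htop : Cfsg.pCore p ↥L = ⊤ := top_le_iff.1 (hmin.1 ▸ Subgroup.normalClosure_le_normal h)
    apply hab
    obtain ⟨a, rfl⟩ := QuotientGroup.mk_surjective a
    obtain ⟨b, rfl⟩ := QuotientGroup.mk_surjective b
    rw [QuotientGroup.eq, htop]; exact Subgroup.mem_top _
  have hel : Cfsg.IsElementaryAbelian p Y' := RootBorel.elab_map _ (show Cfsg.IsElementaryAbelian p (Y.subgroupOf L) from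
    ⟨⟨⟨fun a b => Subtype.ext (Subtype.ext (congrArg Subtype.val (hYel.1.is_comm.comm ⟨_, a.2⟩ ⟨_, b.2⟩) :))⟩⟩,
      fun a ha => Subtype.ext (hYel.2 (a : G) ha)⟩)
  have hnorm : N' ≤ Subgroup.normalizer (Y' : Set (↥L ⧸ Cfsg.pCore p ↥L)) := by
    refine le_trans (Subgroup.map_mono ?_) (Subgroup.le_normalizer_map _)
    intro x hx
    exact Subgroup.mem_normalizer_iff.2 fun y => Subgroup.mem_normalizer_iff.1 (Subgroup.mem_inf.1 hx).2 (y : G)
  have hmax : ∀ K, Y' ≤ K → K ≠ ⊤ → K ≤ N' := by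
    intro K hYK hK
    set X := (K.comap π).map L.subtype with hX
    have hXY : Y ≤ X := fun y hy => ⟨⟨y, hYL hy⟩, hYK (Subgroup.mem_map_of_mem π hy), rfl⟩
    have hXL : X < L := by
      refine lt_of_le_of_ne (Subgroup.map_subtype_le _) fun h => hK ?_
      rw [← Subgroup.map_comap_eq_self_of_surjective (QuotientGroup.mk'_surjective _) K]
      have : K.comap π = ⊤ := Subgroup.map_injective L.subtype_injective
        (h.trans (by rw [← MonoidHom.range_eq_map, Subgroup.range_subtype]))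
      rw [this, Subgroup.map_top_of_surjective _ (QuotientGroup.mk'_surjective _)]
    intro k hk
    obtain ⟨x, rfl⟩ := QuotientGroup.mk'_surjective _ k
    exact Subgroup.mem_map_of_mem π (hXmax X hXY hXL ⟨x, hk, rfl⟩)
  have hproper : N' ≠ ⊤ := by
    intro h
    have hnY : Y'.Normal := Subgroup.normalizer_eq_top_iff.1 (top_le_iff.1 (h ▸ hnorm))
    have htop : Y' = ⊤ := by
      have h1 : Subgroup.normalClosure (Y.subgroupOf L : Set ↥L) ≤ Y'.comap π :=
        Subgroup.normalClosure_le_normal fun y hy => Subgroup.mem_map_of_mem π hy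
      rw [hmin.1] at h1
      rw [← Subgroup.map_comap_eq_self_of_surjective (QuotientGroup.mk'_surjective _) Y', top_le_iff.1 h1,
        Subgroup.map_top_of_surjective _ (QuotientGroup.mk'_surjective _)]
    have hp : IsPGroup p ↥(⊤ : Subgroup (↥L ⧸ Cfsg.pCore p ↥L)) := htop ▸ RootBorel.isPGroup_of_elab hel
    have hLp : IsPGroup p ↥L := by
      intro x
      obtain ⟨j, hj⟩ := hp ⟨π x, Subgroup.mem_top _⟩
      have hj' : x ^ p ^ j ∈ Cfsg.pCore p ↥L :=
        (QuotientGroup.eq_one_iff _).1 (by rw [QuotientGroup.mk_pow]; exact congrArg Subtype.val hj)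
      obtain ⟨i, hi⟩ := CfsgLib.Solvable.Cores.isPGroup_pCore p ⟨_, hj'⟩
      exact ⟨j + i, by rw [pow_add, pow_mul]; exact congrArg Subtype.val hi⟩
    have hall : Cfsg.pCore p ↥L = ⊤ := top_le_iff.1
      (le_sSup ⟨inferInstance, hLp.to_subgroup ⊤⟩)
    obtain ⟨a, b, hab⟩ := hntriv
    apply hab
    obtain ⟨a, rfl⟩ := QuotientGroup.mk_surjective a
    obtain ⟨b, rfl⟩ := QuotientGroup.mk_surjective b
    rw [QuotientGroup.eq, hall]; exact Subgroup.mem_top _
  have hset : RootBorel.Setup p Y' N' :=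
    ⟨Subgroup.map_mono (Subgroup.comap_mono hYN), hnorm, hproper, hmax, hel⟩
  have hcard : Nat.card Y' = (Y ⊓ A).relIndex Y := by
    let g : ↥Y →* ↥L ⧸ Cfsg.pCore p ↥L := π.comp (Subgroup.inclusion hYL)
    have hg : g.range = Y' := by
      rw [MonoidHom.range_eq_map, ← Subgroup.map_map, ← MonoidHom.range_eq_map, Subgroup.inclusion_range, hY']
    have hgk : g.ker = (Y ⊓ A).subgroupOf Y := by
      ext y
      rw [MonoidHom.mem_ker, Subgroup.mem_subgroupOf, Subgroup.mem_inf]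
      exact ⟨fun h => ⟨y.2, (hAmem _).2 ((QuotientGroup.eq_one_iff _).1 h)⟩,
        fun h => (QuotientGroup.eq_one_iff _).2 ((hAmem (Subgroup.inclusion hYL y)).1 h.2)⟩
    rw [← hg, ← Subgroup.index_ker, hgk]
    rfl
  have hmodel : ∀ V' : Subgroup (↥L ⧸ Cfsg.pCore p ↥L), RootBorel.Cand p N' V' → V' = Y' := by
    intro V' hV'
    rcases hcases with ⟨F, _, _, hq, ⟨e⟩⟩ | ⟨rfl, F, _, _, m, hF, hq, ⟨e⟩⟩ | ⟨rfl, r, hr, hr2, ⟨e⟩⟩
    · obtain ⟨n, hn⟩ := (RootBorel.isPGroup_of_elab hel).exists_card_eq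
      refine RootBorel.eq_of_map_eq e (RootBorel.sl2_case (n := n) ?_ (hset.map e) (hV'.map e) ?_)
      · rw [hq, ← hcard, hn]
      · exact (Subgroup.card_map_of_injective e.injective).trans (by rw [hcard, hq])
    · refine RootBorel.eq_of_map_eq e (RootBorel.sz_case (CfsgLib.KnownB.SzElem.twist_of_card hF) (hset.map e)
        (hV'.map e) ?_)
      exact (Subgroup.card_map_of_injective e.injective).trans (by rw [hcard, hq])
    · exact RootBorel.eq_of_map_eq e (RootBorel.dihedral_case hr hr2 (hset.map e) (hV'.map e)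
        fun h => hY'ne (Subgroup.map_injective (f := e.toMonoidHom) e.injective (h.trans (Subgroup.map_bot _).symm)))
  refine ⟨fun h => hY'ne ?_, ?_, RootBorel.elab_map _ ?_, fun V hVn hVel hV1 => ?_⟩
  · rw [← hfY, h, Subgroup.map_bot]
  · refine (Subgroup.Normal.map (f := QuotientGroup.mk' (A.subgroupOf N)) ⟨fun y hy n => ?_⟩ (QuotientGroup.mk'_surjective _))
    exact (Subgroup.mem_normalizer_iff.1 (Subgroup.mem_inf.1 n.2).2 (y : G)).1 hy
  · exact ⟨⟨⟨fun a b => Subtype.ext (Subtype.ext (congrArg Subtype.val (hYel.1.is_comm.comm ⟨_, a.2⟩ ⟨_, b.2⟩) :))⟩⟩,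
      fun a ha => Subtype.ext (hYel.2 (a : G) ha)⟩
  · refine Subgroup.map_injective hf (hfY.symm ▸ hmodel (V.map f) ⟨?_, ?_, RootBorel.elab_map f hVel, ?_⟩)
    · exact hfN ▸ Subgroup.map_mono le_top
    · rw [← hfN]
      refine (Subgroup.map_mono ?_).trans (Subgroup.le_normalizer_map f)
      rw [Subgroup.normalizer_eq_top V]
    · exact fun h => hV1 (Subgroup.map_injective hf (h.trans (Subgroup.map_bot f).symm))

end Cfsg.Agent.S2861
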