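import Cfsg.Statements.S2862
import Cfsg.Agent.S2850
import Cfsg.Agent.S2853
import Cfsg.Agent.Lib.LocalEven.AsymLMain

set_option autoImplicit false
open Cfsg CfsgLib.LocalEven.SylowIn CfsgLib.LocalEven.PReduced CfsgLib.LocalEven.AsymL

namespace Cfsg.Agent.S2862

/-- Standing hypotheses: G a finite group, S a Sylow p-subgroup, Q a nontrivial large p-subgroup of G contained in S, M a subgroup containing S with the basic property (M ∈ 𝔐_G(S)); Y_M the largest p-reduced normal subgroup of M and M† = M·C_G(Y_M). Suppose Y_M is char-p-tall and asymmetric in G, H ∈ ℌ_G(O_p(M)), and L is minimal among the subgroups of H containing Y_M with Y_M ≰ O_p(L). Then H = ⟨L, O_p(M)⟩ = ⟨hY_Mh⁻¹, O_p(M)⟩ for every h ∈ L outside N_L(Y_M); L is Y_M-minimal and of characteristic p, with N_L(Y_M) the unique maximal subgroup of L containing Y_M; [V, O^p(L)] ≠ 1 for every noncentral chief factor V/W of H inside O_p(H) (that is, O^p(L) does not act trivially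 on V/W); and the normal closure of O_p(L) ∩ Y_M in L lies in O_p(H). -/
theorem result {G : Type*} [Group G] [Finite G] {p : ℕ} [Fact p.Prime] (S : Sylow p G) (Q : Subgroup G) (hQp : IsPGroup p ↥Q) (hQ1 : Q ≠ ⊥) (hQS : Q ≤ (S : Subgroup G)) (hQ : Cfsg.IsLarge Q) (M : Subgroup G) (hSM : (S : Subgroup G) ≤ M) (hM : Cfsg.IsInFrakM p M) (htall : Cfsg.IsCharPTall p (Cfsg.largestPReducedOf p M)) (hasym : ¬ Cfsg.IsSymmetricIn (Cfsg.largestPReducedOf p M)) (H : Subgroup G) (hH : Cfsg.IsInFrakH p M H) (L : Subgroup G) (hLH : L ≤ H) (hYL : (Cfsg.largestPReducedOf p M) ≤ L) (hYO : ¬ (Cfsg.largestPReducedOf p M) ≤ (Cfsg.pCoreOf p L)) (hmin : ∀ L' : Subgroup G, L' ≤ L → (Cfsg.largestPReducedOf p M) ≤ L' → ¬ (Cfsg.largestPReducedOf p M) ≤ (Cfsg.pCoreOf p L') → L' = L) : (L ⊔ (Cfsg.pCoreOf p M) = H ∧ ∀ h ∈ L, h ∉ Subgroup.normalizer (((Cfsg.largestPReducedOf p M) : Subgroup G) : Set G) → (((Cfsg.largestPReducedOf p M) : Subgroup G).map (MulAut.conj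 (h : G)).toMonoidHom) ⊔ (Cfsg.pCoreOf p M) = H) ∧ (Cfsg.IsMinimalOver (((Cfsg.largestPReducedOf p M)).subgroupOf L) ∧ Subgroup.centralizer (Cfsg.pCore p ↥L : Set ↥L) ≤ Cfsg.pCore p ↥L ∧ L ⊓ Subgroup.normalizer (((Cfsg.largestPReducedOf p M) : Subgroup G) : Set G) < L ∧ ∀ X : Subgroup G, (Cfsg.largestPReducedOf p M) ≤ X → X < L → X ≤ L ⊓ Subgroup.normalizer (((Cfsg.largestPReducedOf p M) : Subgroup G) : Set G)) ∧ (∀ V W' : Subgroup G, V ≤ (Cfsg.pCoreOf p H) → H ≤ Subgroup.normalizer ((V : Subgroup G) : Set G) → H ≤ Subgroup.normalizer ((W' : Subgroup G) : Set G) → W' < V → (∀ Z' : Subgroup G, H ≤ Subgroup.normalizer ((Z' : Subgroup G) : Set G) → W' ≤ Z' → Z' ≤ V → Z' = W' ∨ Z' = V) → ¬ ⁅V, H⁆ ≤ W' → ¬ ⁅V, ((Cfsg.pResidual p ↥L).map (L).subtype)⁆ ≤ W') ∧ (Subgroup.normalClosure (((((Cfsg.pCoreOf p L) ⊓ (Cfsg.largestPReducedOf p M)).subgroupOf L : Subgroup ↥L)) : Set ↥L)).map L.subtype ≤ (Cfsg.pCoreOf p H) := by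
  obtain ⟨hN, -, -, -⟩ := Cfsg.Agent.S2850.result S Q hQp hQ1 hQS hQ M hSM hM hasym
  obtain ⟨-, hRn, hRY, hRT, -, -⟩ :=
    Cfsg.Agent.S2853.result S Q hQp hQ1 hQS hQ M hSM hM htall hasym H hH _ rfl
  obtain ⟨hHc, hTH, hYH, hsmall⟩ := hH
  set Y := Cfsg.largestPReducedOf p M
  set T := Cfsg.pCoreOf p M
  have hY : IsReducedIn p Y M := isReducedIn_largest M
  have hTN : Subgroup.normalizer (T : Set G) ≤ Subgroup.normalizer (Y : Set G) :=
    (hN T (isPGroup_pCoreOf M) le_rfl).2.trans (sup_le hY.normalizer (Subgroup.centralizer_le_normalizer _))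
  have hsetup : Setup p Y T H :=
    { yel := hY.elab
      yT := hY.le_pCoreOf
      cent := hY.pCoreOf_le_centralizer
      tp := isPGroup_pCoreOf M
      tH := hTH
      rT := hRn.trans inf_le_left
      charP := (charP_iff H).1 hHc
      comm := by
        intro a h1 h2 u hu v hv
        set Ya := Y.map (MulAut.conj a).toMonoidHom
        have hYa : Ya ≤ Subgroup.normalizer (Y : Set G) := by
          rintro _ ⟨w, hw, rfl⟩; exact h1 w hw
        have hY' : Y ≤ Subgroup.normalizer (Ya : Set G) := by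
          rw [normalizer_map_conj]
          exact fun w hw => mem_map_conj.2 (h2 w hw)
        have hbot : ⁅Y, Ya⁆ = ⊥ := by
          by_contra hne
          exact hasym ⟨a, hne, le_inf (Subgroup.le_normalizer_iff_commutator_le_left.1 hYa)
            (Subgroup.le_normalizer_iff_commutator_le_right.1 hY')⟩
        exact (Subgroup.mem_centralizer_iff.1 ((Subgroup.commutator_eq_bot_iff_le_centralizer.1 hbot) hu) _
          ⟨v, hv, rfl⟩).symm
      weak := fun P hP hTP => (hN P hP hTP).1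
      nT := hTN
      small := hsmall
      yH := hYH }
  have m : MinOver p Y T H L := ⟨hsetup, hLH, hYL, hYO, hmin⟩
  exact ⟨⟨m.sup_eq, fun h hh hn => m.conj_sup_eq hh hn⟩,
    ⟨m.minimalOver, m.charP, m.normalizer_lt, fun X hYX hXL => m.proper_le_M hYX hXL⟩,
    fun V W' hV hn1 hn2 hlt hchief hnc => m.chief hRY hRT hV hn1 hn2 hlt hchief hnc,
    m.closure_le⟩

end Cfsg.Agent.S2862
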