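import Cfsg.Statements.S2863
import Cfsg.Agent.Lib.LocalEven.FixedFreeModels
import Cfsg.Agent.Lib.LocalEven.PReduced
import Cfsg.Agent.Lib.Solvable.Cores

set_option autoImplicit false
open Cfsg CfsgLib.LocalEven

namespace Cfsg.Agent.S2863

/-- Standing hypotheses: G a finite group, S a Sylow p-subgroup, Q a nontrivial large p-subgroup of G contained in S, M a subgroup containing S with the basic property (M ∈ 𝔐_G(S)); Y_M the largest p-reduced normal subgroup of M and M† = M·C_G(Y_M). Let L ∈ 𝔏_G(Y_M) (L ∈ 𝔏_G(Y_M): Y_M ≤ L; O_p(L) is the normal closure in L of Y_M ∩ O_p(L) and normalizes Y_M; L is Y_M-minimal of characteristic p with N_L(Y_M) its unique maximal subgroup over Y_M; and L/O_p(L) ≅ SL₂(q) with q = |Y_M : Y_M ∩ O_p(L)|, or p = 2 and L/O_p(L) is a Suzuki group Sz(q) or dihedral of order 2r, r an odd prime), A = O_p(L), and C = C_{Y_M}(L). Then every element h of L whose order is not a power of p acts without nontrivial fixed points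 on A/C: for a ∈ A, hah⁻¹a⁻¹ ∈ C implies a ∈ C. -/
theorem result {G : Type*} [Group G] [Finite G] {p : ℕ} [Fact p.Prime] (S : Sylow p G) (Q : Subgroup G) (hQp : IsPGroup p ↥Q) (hQ1 : Q ≠ ⊥) (hQS : Q ≤ (S : Subgroup G)) (hQ : Cfsg.IsLarge Q) (M : Subgroup G) (hSM : (S : Subgroup G) ≤ M) (hM : Cfsg.IsInFrakM p M) (L : Subgroup G) (hL : Cfsg.IsInFrakL p M L) (h : G) (hh : h ∈ L) (hnp : ¬ ∃ k : ℕ, orderOf h = p ^ k) : ∀ a ∈ (Cfsg.pCoreOf p L), h * a * h⁻¹ * a⁻¹ ∈ (Cfsg.largestPReducedOf p M) ⊓ Subgroup.centralizer ((L : Subgroup G) : Set G) → a ∈ (Cfsg.largestPReducedOf p M) ⊓ Subgroup.centralizer ((L : Subgroup G) : Set G) := by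
  classical
  obtain ⟨hYL, hA, hAN, hmin, -, ⟨-, hXmax⟩, hcases⟩ := hL
  set Y := Cfsg.largestPReducedOf p M with hYdef
  have hYel : Cfsg.IsElementaryAbelian p Y := (PReduced.isReducedIn_largest (p := p) M).elab
  have hYcomm : ∀ a ∈ Y, ∀ b ∈ Y, a * b = b * a := fun a ha b hb =>
    congrArg Subtype.val (hYel.1.is_comm.comm ⟨a, ha⟩ ⟨b, hb⟩)
  set P := Cfsg.pCore p ↥L with hPdef
  have hAmem : ∀ x : ↥L, (x : G) ∈ Cfsg.pCoreOf p L ↔ x ∈ P := fun x => by
    rw [Cfsg.pCoreOf]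
    exact Subgroup.mem_map_iff_mem L.subtype_injective
  have hPp : IsPGroup p P := CfsgLib.Solvable.Cores.isPGroup_pCore p
  set C := (Y ⊓ Subgroup.centralizer (L : Set G)).subgroupOf L with hCdef
  haveI hCn : C.Normal := ⟨fun c hc g => by
    have h1 : (g : G) * c = c * g := Subgroup.mem_centralizer_iff.1 hc.2 g g.2
    have h2 : g * c * g⁻¹ = c := Subtype.ext (by simp [h1])
    rwa [h2]⟩
  have hCP : C ≤ P := le_sSup ⟨hCn, fun c => ⟨1, Subtype.ext (Subtype.ext (by
    simpa using hYel.2 _ c.2.1))⟩⟩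
  let mk := QuotientGroup.mk' C
  let π : ↥L ⧸ C →* ↥L ⧸ P := QuotientGroup.map C P (MonoidHom.id _) hCP
  have hπmk : π.comp mk = QuotientGroup.mk' P := MonoidHom.ext fun x => rfl
  have hker : π.ker = P.map mk := by
    ext q
    obtain ⟨x, rfl⟩ := QuotientGroup.mk'_surjective C q
    rw [MonoidHom.mem_ker]
    constructor
    · intro hx
      exact ⟨x, (QuotientGroup.eq_one_iff x).1 hx, rfl⟩
    · rintro ⟨y, hy, hyx⟩
      show π (mk x) = 1
      rw [← hyx]
      exact (QuotientGroup.eq_one_iff y).2 hy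
  set YQ := (Y.subgroupOf L).map mk with hYQdef
  set Y' := (Y.subgroupOf L).map (QuotientGroup.mk' P) with hY'
  have hYQ : YQ.map π = Y' := by rw [hYQdef, Subgroup.map_map, hπmk]
  have hel : Cfsg.IsElementaryAbelian p Y' := RootBorel.elab_map _ (show Cfsg.IsElementaryAbelian p (Y.subgroupOf L) from
    ⟨⟨⟨fun a b => Subtype.ext (Subtype.ext (hYcomm _ a.2 _ b.2))⟩⟩, fun a ha => Subtype.ext (hYel.2 (a : G) ha)⟩)
  have hcard : Nat.card Y' = (Y ⊓ Cfsg.pCoreOf p L).relIndex Y := by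
    let g : ↥Y →* ↥L ⧸ P := (QuotientGroup.mk' P).comp (Subgroup.inclusion hYL)
    have hg : g.range = Y' := by
      rw [MonoidHom.range_eq_map, ← Subgroup.map_map, ← MonoidHom.range_eq_map, Subgroup.inclusion_range, hY']
    have hgk : g.ker = (Y ⊓ Cfsg.pCoreOf p L).subgroupOf Y := by
      ext y
      rw [MonoidHom.mem_ker, Subgroup.mem_subgroupOf, Subgroup.mem_inf]
      exact ⟨fun h => ⟨y.2, (hAmem _).2 ((QuotientGroup.eq_one_iff _).1 h)⟩,
        fun h => (QuotientGroup.eq_one_iff _).2 ((hAmem (Subgroup.inclusion hYL y)).1 h.2)⟩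
    rw [← hg, ← Subgroup.index_ker, hgk]
    rfl
  have hback : ∀ {T : Type} [Group T] (e : ↥L ⧸ P ≃* T), FixedFree.Model p (Y'.map e.toMonoidHom) →
      FixedFree.Model p Y' := by
    intro T _ e hm
    have h1 := hm.map e.symm
    rw [Subgroup.map_map] at h1
    convert h1 using 1
    ext x
    simp
  have hmodel : FixedFree.Model p Y' := by
    rcases hcases with ⟨F, _, _, hq, ⟨e⟩⟩ | ⟨rfl, F, _, _, m, hF, hq, ⟨e⟩⟩ | ⟨rfl, r, hr, hr2, ⟨e⟩⟩
    · obtain ⟨k, hk⟩ := (RootBorel.isPGroup_of_elab hel).exists_card_eq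
      refine hback e (FixedFreeModels.sl2_model (n := k) (by rw [hq, ← hcard, hk]) (RootBorel.elab_map _ hel) ?_)
      exact (Subgroup.card_map_of_injective e.injective).trans (by rw [hcard, hq])
    · refine hback e (FixedFreeModels.sz_model hF (RootBorel.elab_map _ hel) ?_)
      exact (Subgroup.card_map_of_injective e.injective).trans (by rw [hcard, hq])
    · refine hback e (FixedFreeModels.dihedral_model hr hr2 (RootBorel.elab_map _ hel) fun h0 => ?_)
      -- otherwise `L` is a `p`-group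
      rw [Subgroup.map_eq_bot_iff_of_injective _ e.injective, hY', Subgroup.map_eq_bot_iff, QuotientGroup.ker_mk'] at h0
      have htop : P = ⊤ := top_le_iff.1 (hmin.1 ▸ Subgroup.normalClosure_le_normal h0)
      obtain ⟨x, hx⟩ := e.surjective (DihedralGroup.sr 0)
      obtain ⟨x, rfl⟩ := QuotientGroup.mk_surjective x
      rw [(QuotientGroup.eq_one_iff x).2 (show x ∈ P by rw [htop]; exact Subgroup.mem_top x), map_one] at hx
      cases hx
  have hgen : Subgroup.normalClosure ((YQ ⊓ π.ker : Subgroup (↥L ⧸ C)) : Set (↥L ⧸ C)) = π.ker := by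
    refine le_antisymm (Subgroup.normalClosure_le_normal inf_le_right) ?_
    have hP : P = Subgroup.normalClosure ((Y ⊓ Cfsg.pCoreOf p L).subgroupOf L : Set ↥L) :=
      Subgroup.map_injective L.subtype_injective hA
    have hsub : mk '' ((Y ⊓ Cfsg.pCoreOf p L).subgroupOf L : Set ↥L) ⊆ ((YQ ⊓ π.ker : Subgroup (↥L ⧸ C)) : Set (↥L ⧸ C)) := by
      rintro _ ⟨z, hz, rfl⟩
      exact Subgroup.mem_inf.2 ⟨⟨z, hz.1, rfl⟩, hker ▸ ⟨z, (hAmem z).1 hz.2, rfl⟩⟩
    have h1 : P.map mk ≤ Subgroup.normalClosure ((YQ ⊓ π.ker : Subgroup (↥L ⧸ C)) : Set (↥L ⧸ C)) := by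
      conv_lhs => rw [hP]
      rw [Subgroup.map_normalClosure _ _ (QuotientGroup.mk'_surjective C)]
      exact Subgroup.normalClosure_mono hsub
    exact hker.le.trans h1
  have H : FixedFree.Hyp p π YQ := by
    refine ⟨hker ▸ hPp.map mk, ?_, ?_, ?_, ?_, hgen, ?_, hYQ ▸ hmodel⟩
    · rintro _ ⟨y, hy, rfl⟩
      rw [← map_pow, show y ^ p = 1 from Subtype.ext (by simpa using hYel.2 _ hy), map_one]
    · rintro _ ⟨a, ha, rfl⟩ _ ⟨b, hb, rfl⟩
      rw [← map_mul, ← map_mul, show a * b = b * a from Subtype.ext (hYcomm _ ha _ hb)]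
    · rw [hker]
      refine (Subgroup.map_mono ?_).trans (Subgroup.le_normalizer_map _)
      intro a ha
      exact Subgroup.mem_normalizer_iff.2 fun z => Subgroup.mem_normalizer_iff.1 (hAN ((hAmem a).2 ha)) (z : G)
    · intro K hYK hK
      have hX : (K.comap mk).map L.subtype ≤ L ⊓ Subgroup.normalizer (Y : Set G) := by
        refine hXmax _ (fun y hy => ⟨⟨y, hYL hy⟩, hYK ⟨_, hy, rfl⟩, rfl⟩) (lt_of_le_of_ne (Subgroup.map_subtype_le _) ?_)
        intro h0
        refine hK ?_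
        have : K.comap mk = ⊤ := Subgroup.map_injective L.subtype_injective
          (h0.trans (by rw [← MonoidHom.range_eq_map, Subgroup.range_subtype]))
        rw [← Subgroup.map_comap_eq_self_of_surjective (QuotientGroup.mk'_surjective C) K, this,
          Subgroup.map_top_of_surjective _ (QuotientGroup.mk'_surjective C)]
      intro q hq
      obtain ⟨x, rfl⟩ := QuotientGroup.mk'_surjective C q
      refine Subgroup.le_normalizer_map mk ⟨x, ?_, rfl⟩
      exact Subgroup.mem_normalizer_iff.2 fun z =>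
        Subgroup.mem_normalizer_iff.1 (hX ⟨x, hq, rfl⟩).2 (z : G)
    · rintro _ ⟨y, hy, rfl⟩ hcen
      refine (QuotientGroup.eq_one_iff y).2 ⟨hy, ?_⟩
      have key : ∀ z ∈ Y.subgroupOf L, ∀ g : ↥L, Commute (g * z * g⁻¹) y := by
        intro z hz g
        have h1 : mk (g⁻¹ * y * g * y⁻¹) = 1 := by
          simp only [map_mul, map_inv]
          rw [mul_assoc (mk g)⁻¹, ← Subgroup.mem_center_iff.1 hcen (mk g), inv_mul_cancel_left, mul_inv_cancel]
        have h2 : g⁻¹ * y * g * y⁻¹ ∈ C := (QuotientGroup.eq_one_iff _).1 h1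
        have h3 : g⁻¹ * y * g ∈ Y.subgroupOf L := by
          have := mul_mem (show g⁻¹ * y * g * y⁻¹ ∈ Y.subgroupOf L from h2.1) hy
          rwa [inv_mul_cancel_right] at this
        have h4 : Commute z (g⁻¹ * y * g) := Subtype.ext (hYcomm _ hz _ h3)
        simpa [mul_assoc] using h4.map (MulAut.conj g).toMonoidHom
      have h5 : Subgroup.normalClosure (Y.subgroupOf L : Set ↥L) ≤ Subgroup.centralizer {y} := by
        rw [Subgroup.normalClosure, Subgroup.closure_le]
        intro u hu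
        obtain ⟨z, hz, hzu⟩ := Group.mem_conjugatesOfSet_iff.1 hu
        obtain ⟨g, hg⟩ := isConj_iff.1 hzu
        rw [SetLike.mem_coe, Subgroup.mem_centralizer_singleton_iff, ← hg]
        exact key z hz g
      rw [hmin.1] at h5
      refine Subgroup.mem_centralizer_iff.2 fun l hl => ?_
      exact congrArg Subtype.val (Subgroup.mem_centralizer_singleton_iff.1 (h5 (Subgroup.mem_top ⟨l, hl⟩)))
  intro a ha hc
  obtain ⟨a', ha', hae⟩ := Subgroup.mem_map.1 ha
  let h' : ↥L := ⟨h, hh⟩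
  have hc' : h' * a' * h'⁻¹ * a'⁻¹ ∈ C := by
    rw [hCdef, Subgroup.mem_subgroupOf]
    simpa [h', ← hae] using hc
  have hx : ¬ ∃ k, orderOf (π (mk h')) = p ^ k := by
    rintro ⟨k, hk⟩
    have h1 : h' ^ p ^ k ∈ P := by
      refine (QuotientGroup.eq_one_iff _).1 ?_
      show π (mk (h' ^ p ^ k)) = 1
      rw [map_pow, map_pow, ← hk, pow_orderOf_eq_one]
    obtain ⟨i, hi⟩ := hPp ⟨_, h1⟩
    have h2 : (h' ^ p ^ k) ^ p ^ i = 1 := congrArg Subtype.val hi
    rw [← pow_mul, ← pow_add] at h2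
    have h3 : h ^ p ^ (k + i) = 1 := by simpa [h'] using congrArg Subtype.val h2
    obtain ⟨j, -, hj⟩ := (Nat.dvd_prime_pow (Fact.out : p.Prime)).1 (orderOf_dvd_of_pow_eq_one h3)
    exact hnp ⟨j, hj⟩
  have hcomm : mk h' * mk a' = mk a' * mk h' := by
    have h1 : mk (h' * a' * h'⁻¹ * a'⁻¹) = 1 := (QuotientGroup.eq_one_iff _).2 hc'
    rw [map_mul, map_mul, map_mul, map_inv, map_inv, mul_inv_eq_one, mul_inv_eq_iff_eq_mul] at h1
    exact h1
  have hv : mk a' = 1 := FixedFree.main H (fun q => by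
      obtain ⟨x, rfl⟩ := QuotientGroup.mk'_surjective P q
      exact ⟨mk x, rfl⟩) hx (hker ▸ Subgroup.mem_map_of_mem mk ha') hcomm
  have h4 := (QuotientGroup.eq_one_iff a').1 hv
  rw [← hae]
  exact h4

end Cfsg.Agent.S2863
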