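import Cfsg.Statements.S2872
import Cfsg.Agent.Lib.Fusion.Basic
import Cfsg.Agent.Lib.PGroup.Frattini
import Mathlib.GroupTheory.Transfer

set_option autoImplicit false
open Cfsg

namespace Cfsg.Agent.S2872

open Subgroup MulAction in
/-- The transfer into `S ⧸ M` does not kill a central involution whose value is invariant under `N(S)`. -/
theorem no_hom {G : Type*} [Group G] [Finite G] (H : Subgroup G) (hH : IsPGroup 2 H)
    (hidx : ¬ 2 ∣ H.index) {z : G} (hz : z ∈ H ⊓ centralizer (H : Set G)) (hz2 : z ^ 2 = 1)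
    (hzN : ∀ g ∈ normalizer (H : Set G), g⁻¹ * z * g = z)
    (M : Subgroup ↥H) [M.Normal] (hi : M.index = 2)
    (hzM : (⟨z, hz.1⟩ : ↥H) ∉ M) : Cfsg.pResidual 2 G ≠ ⊤ := by
  classical
  let c : Multiplicative (ZMod 2) := Multiplicative.ofAdd 1
  let φ : ↥H →* Multiplicative (ZMod 2) :=
    { toFun := fun x => if x ∈ M then 1 else c
      map_one' := if_pos (one_mem M)
      map_mul' := fun a b => by
        have := Subgroup.mul_mem_iff_of_index_two hi (a := a) (b := b)
        by_cases ha : a ∈ M <;> by_cases hb : b ∈ M <;> simp [this, ha, hb, c]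
        all_goals exact (by decide : (1 : Multiplicative (ZMod 2)) = Multiplicative.ofAdd 1 * Multiplicative.ofAdd 1) }
  let P : G → Prop := fun g => ∃ hm : g⁻¹ * z * g ∈ H, (⟨_, hm⟩ : ↥H) ∉ M
  have hPr : ∀ (g : G) (s : G), s ∈ H → (P (g * s) ↔ P g) := by
    have key : ∀ (g : G) (s : G), s ∈ H → P g → P (g * s) := by
      rintro g s hs ⟨hm, hn⟩
      have e : (g * s)⁻¹ * z * (g * s) = s⁻¹ * (g⁻¹ * z * g) * s := by group
      refine ⟨e ▸ mul_mem (mul_mem (inv_mem hs) hm) hs, fun h => hn ?_⟩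
      have := ‹M.Normal›.conj_mem _ h ⟨s, hs⟩
      convert this using 1
      ext
      show g⁻¹ * z * g = s * ((g * s)⁻¹ * z * (g * s)) * s⁻¹
      group
    exact fun g s hs => ⟨fun h => by simpa using key (g * s) s⁻¹ (inv_mem hs) h, key g s hs⟩
  have hPl : ∀ (g : G) (s : G), s ∈ H → (P (s * g) ↔ P g) := by
    intro g s hs
    have e : (s * g)⁻¹ * z * (s * g) = g⁻¹ * z * g := by
      have h1 : s * z = z * s := hz.2 s hs
      calc (s * g)⁻¹ * z * (s * g) = g⁻¹ * s⁻¹ * (z * s) * g := by group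
        _ = g⁻¹ * s⁻¹ * (s * z) * g := by rw [h1]
        _ = _ := by group
    constructor <;> rintro ⟨hm, hn⟩
    · exact ⟨e ▸ hm, fun h => hn (by convert h using 2)⟩
    · exact ⟨e.symm ▸ hm, fun h => hn (by convert h using 2; exact e.symm)⟩
  let Q : G ⧸ H → Prop := fun q => P q.out
  have hQ : ∀ g : G, Q (g : G ⧸ H) ↔ P g := by
    intro g
    obtain ⟨s, hs⟩ := QuotientGroup.mk_out_eq_mul H g
    show P _ ↔ _
    rw [hs]
    exact hPr g s s.2
  haveI := Fintype.ofFinite (G ⧸ H)
  haveI := Fintype.ofFinite (Quotient (orbitRel (zpowers z) (G ⧸ H)))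
  let V : G →* Multiplicative (ZMod 2) := MonoidHom.transfer φ
  have hfix : ∀ q : G ⧸ H, z • q ≠ q → ¬ Q q := by
    intro q hq ⟨hm, _⟩
    apply hq
    rw [← q.out_eq']
    refine QuotientGroup.eq.2 ?_
    have : (z * q.out)⁻¹ * q.out = (q.out⁻¹ * z * q.out)⁻¹ := by group
    show (z * q.out)⁻¹ * q.out ∈ H
    rw [this]
    exact inv_mem hm
  let h : G ⧸ H → Multiplicative (ZMod 2) := fun q => if Q q then c else 1
  have hV : V z = ∏ q : G ⧸ H, h q := by
    show MonoidHom.transfer φ z = _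
    rw [MonoidHom.transfer_eq_prod_quotient_orbitRel_zpowers_quot,
      ← Finset.prod_fiberwise Finset.univ (Quotient.mk'' : G ⧸ H → Quotient (orbitRel (zpowers z) (G ⧸ H))) h]
    refine Finset.prod_congr rfl fun o _ => ?_
    by_cases hf : z • o.out = o.out
    · have hper : Function.minimalPeriod (z • ·) o.out = 1 := Function.minimalPeriod_eq_one_iff_isFixedPt.2 hf
      have hfib : Finset.univ.filter (fun q : G ⧸ H => (Quotient.mk'' q : Quotient (orbitRel (zpowers z) (G ⧸ H))) = o) = {o.out} := by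
        ext q
        simp only [Finset.mem_filter, Finset.mem_univ, true_and, Finset.mem_singleton]
        refine ⟨fun hq => ?_, fun hq => hq ▸ Quotient.out_eq' o⟩
        rw [← Quotient.out_eq' o] at hq
        obtain ⟨⟨w, hw⟩, rfl⟩ := Quotient.eq''.1 hq
        obtain ⟨k, rfl⟩ := mem_zpowers_iff.1 hw
        exact mem_stabilizer_iff.1 (zpow_mem (mem_stabilizer_iff.2 hf : z ∈ stabilizer G o.out) k)
      rw [hfib, Finset.prod_singleton]
      show (if _ then (1 : Multiplicative (ZMod 2)) else c) = if Q o.out then c else 1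
      have hm : o.out.out⁻¹ * z * o.out.out ∈ H := by
        have := QuotientGroup.out_conj_pow_minimalPeriod_mem H z o.out
        rwa [hper, pow_one] at this
      simp only [hper, pow_one]
      by_cases hh : (⟨_, hm⟩ : ↥H) ∈ M
      · rw [if_pos hh, if_neg (fun hP => hP.2 hh)]
      · rw [if_neg hh, if_pos ⟨hm, hh⟩]
    · have hp2 : Function.IsPeriodicPt (z • ·) 2 o.out := by
        show z • z • o.out = o.out
        rw [smul_smul, ← sq, hz2, one_smul]
      have hper : Function.minimalPeriod (z • ·) o.out = 2 :=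
        ((Nat.dvd_prime Nat.prime_two).1 hp2.minimalPeriod_dvd).resolve_left
          fun h1 => hf (Function.minimalPeriod_eq_one_iff_isFixedPt.1 h1)
      rw [Finset.prod_eq_one fun q hq => if_neg (hfix q fun hq' => hf ?_)]
      · refine (congrArg φ (Subtype.ext ?_)).trans φ.map_one
        show o.out.out⁻¹ * z ^ Function.minimalPeriod (z • ·) o.out * o.out.out = 1
        rw [hper, hz2, mul_one, inv_mul_cancel]
      · rw [Finset.mem_filter, ← Quotient.out_eq' o] at hq
        obtain ⟨⟨w, hw⟩, rfl⟩ := Quotient.eq''.1 hq.2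
        obtain ⟨k, rfl⟩ := mem_zpowers_iff.1 hw
        change z • z ^ k • o.out = z ^ k • o.out at hq'
        rw [smul_smul, (Commute.self_zpow z k).eq, mul_smul] at hq'
        exact smul_left_cancel _ hq'
  have hodd : Odd (Nat.card {q : G ⧸ H // Q q}) := by
    let U : SubMulAction ↥H (G ⧸ H) :=
      { carrier := {q | Q q}
        smul_mem' := fun s q hq => by
          induction q using QuotientGroup.induction_on with
          | H g => exact (hQ _).2 ((hPl g s s.2).2 ((hQ g).1 hq)) }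
    have hfp : ∀ q : G ⧸ H, q ∈ fixedPoints ↥H (G ⧸ H) → Q q := by
      intro q hq
      induction q using QuotientGroup.induction_on with
      | H g =>
        have hg := hzN g (Sylow.mem_fixedPoints_mul_left_cosets_iff_mem_normalizer.1 hq)
        exact (hQ g).2 ⟨hg.symm ▸ hz.1, fun h => hzM (by convert h using 2; exact hg.symm)⟩
    have h1 : Nat.card U ≡ Nat.card (fixedPoints ↥H U) [MOD 2] := hH.card_modEq_card_fixedPoints U
    have h2 : Nat.card (G ⧸ H) ≡ Nat.card (fixedPoints ↥H (G ⧸ H)) [MOD 2] := hH.card_modEq_card_fixedPoints (G ⧸ H)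
    have e : Nat.card (fixedPoints ↥H U) = Nat.card (fixedPoints ↥H (G ⧸ H)) := Nat.card_congr
      { toFun := fun x => ⟨x.1.1, fun s => congrArg Subtype.val (x.2 s)⟩
        invFun := fun x => ⟨⟨x.1, hfp x.1 x.2⟩, fun s => Subtype.ext (x.2 s)⟩
        left_inv := fun _ => rfl
        right_inv := fun _ => rfl }
    rw [e] at h1
    have h3 : Odd (Nat.card (G ⧸ H)) := by
      rw [Nat.odd_iff, ← Nat.two_dvd_ne_zero]
      exact hidx
    rw [Nat.odd_iff] at h3 ⊢
    exact Eq.trans (h1.trans h2.symm : Nat.card U % 2 = Nat.card (G ⧸ H) % 2) h3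
  have hVz : V z = c := by
    rw [hV, Finset.prod_ite, Finset.prod_const, Finset.prod_const_one, mul_one]
    have : (Finset.univ.filter fun q => Q q).card = Nat.card {q : G ⧸ H // Q q} := by
      rw [Nat.card_eq_fintype_card, Fintype.card_subtype]
    rw [this]
    obtain ⟨m, hm⟩ := hodd
    rw [hm, pow_succ, pow_mul, show c ^ 2 = 1 by decide, one_pow, one_mul]
  intro htop
  have hle := CfsgLib.Fusion.Basic.pResidual_le_ker (p := 2) V (IsPGroup.of_card (n := 1) (by simp))
  have : V z = 1 := hle (htop ▸ Subgroup.mem_top z)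
  rw [hVz] at this
  exact absurd this (by decide)


/-- Let S be a Sylow 2-subgroup of the finite group G. Then G has a proper normal subgroup of 2-power index (O²(G) ≠ G), or Ω₁(Z(S)) is contained in the Frattini subgroup of S, or N_G(S) acts nontrivially on Ω₁(Z(S)) by conjugation. -/
theorem result {G : Type*} [Group G] [Finite G] (S : Sylow 2 G) : Cfsg.pResidual 2 G ≠ ⊤ ∨ Cfsg.omegaOne 2 ((S : Subgroup G) ⊓ Subgroup.centralizer ((S : Subgroup G) : Set G)) ≤ (frattini ↥(S : Subgroup G)).map (S : Subgroup G).subtype ∨ ∃ g ∈ Subgroup.normalizer ((S : Subgroup G) : Set G), ∃ z ∈ Cfsg.omegaOne 2 ((S : Subgroup G) ⊓ Subgroup.centralizer ((S : Subgroup G) : Set G)), g * z * g⁻¹ ≠ z := by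
  by_contra hcon
  push Not at hcon
  obtain ⟨hO, hΦ, hN⟩ := hcon
  obtain ⟨z, ⟨hz, hz2⟩, hzΦ⟩ : ∃ z, (z ∈ (S : Subgroup G) ⊓ Subgroup.centralizer ((S : Subgroup G) : Set G) ∧ z ^ 2 = 1) ∧
      z ∉ (frattini ↥(S : Subgroup G)).map (S : Subgroup G).subtype := by
    by_contra h
    refine hΦ ((Subgroup.closure_le _).2 fun z hz => by_contra fun h' => h ⟨z, hz, h'⟩)
  have hzN : ∀ g ∈ Subgroup.normalizer ((S : Subgroup G) : Set G), g⁻¹ * z * g = z := fun g hg => by
    simpa using hN g⁻¹ (inv_mem hg) z (Subgroup.subset_closure ⟨hz, hz2⟩)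
  obtain ⟨M, hM, hzM⟩ : ∃ M : Subgroup ↥(S : Subgroup G), IsCoatom M ∧ (⟨z, hz.1⟩ : ↥(S : Subgroup G)) ∉ M := by
    by_contra h
    push Not at h
    refine hzΦ ⟨⟨z, hz.1⟩, ?_, rfl⟩
    show (⟨z, hz.1⟩ : ↥(S : Subgroup G)) ∈ frattini ↥(S : Subgroup G)
    rw [frattini, Order.radical]
    simp only [Subgroup.mem_iInf]
    exact h
  haveI := CfsgLib.PGroup.Frattini.normal_of_isCoatom S.2 hM
  exact no_hom _ S.2 S.not_dvd_index hz hz2 hzN M (CfsgLib.PGroup.Frattini.index_of_isCoatom S.2 hM) hzM hO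

end Cfsg.Agent.S2872
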