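import Cfsg.Statements.S2873
import Cfsg.Agent.Lib.LocalEven.PReduced
import Cfsg.Agent.Lib.Involution.Dihedral
import Mathlib.GroupTheory.SpecificGroups.Dihedral
import Mathlib.Tactic.LinearCombination

set_option autoImplicit false
open Cfsg

namespace Cfsg.Agent.S2873

theorem dihedral_involution {r : ℕ} [Fact r.Prime] (hr : r ≠ 2) {d : DihedralGroup r}
    (hd : orderOf d = 2) : ∃ i, d = DihedralGroup.sr i := by
  cases d with
  | r i =>
    exfalso
    have h2 : DihedralGroup.r (i + i) = (1 : DihedralGroup r) := by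
      rw [← DihedralGroup.r_mul_r, ← pow_two, ← hd, pow_orderOf_eq_one]
    have h3 : i + i = 0 := DihedralGroup.r.inj (h2.trans DihedralGroup.one_def)
    have h2' : (2 : ZMod r) ≠ 0 := fun h => by
      have h' : ((2 : ℕ) : ZMod r) = 0 := by exact_mod_cast h
      rw [ZMod.natCast_eq_zero_iff, Nat.prime_dvd_prime_iff_eq (Fact.out : r.Prime) Nat.prime_two] at h'
      exact hr h'
    rw [← two_mul] at h3
    rw [(mul_eq_zero.1 h3).resolve_left h2', ← DihedralGroup.one_def, orderOf_one] at hd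
    norm_num at hd
  | sr i => exact ⟨i, rfl⟩

theorem dihedral_conj {r : ℕ} [Fact r.Prime] (hr : r ≠ 2) (i j : ZMod r) :
    ∃ k : ZMod r, DihedralGroup.r k * DihedralGroup.sr i * (DihedralGroup.r k)⁻¹ = DihedralGroup.sr j := by
  have h2 : (2 : ZMod r) ≠ 0 := fun h => by
    have h' : ((2 : ℕ) : ZMod r) = 0 := by exact_mod_cast h
    rw [ZMod.natCast_eq_zero_iff, Nat.prime_dvd_prime_iff_eq (Fact.out : r.Prime) Nat.prime_two] at h'
    exact hr h'
  refine ⟨(i - j) / 2, ?_⟩
  rw [DihedralGroup.inv_r, DihedralGroup.r_mul_sr, DihedralGroup.sr_mul_r]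
  congr 1
  linear_combination -(mul_div_cancel₀ (i - j) h2)

/-- Let G be a finite group and r an odd prime such that G ⧸ O₂(G) is dihedral of order 2r, and let R be a Sylow r-subgroup of G with C_{O₂(G)}(R) = 1. Then N_G(R) is dihedral of order 2r; for any involution a of N_G(R), every involution of G outside O₂(G) is conjugate to a; and |C_{O₂(G)}(a)|² = |O₂(G)|. -/
theorem result {G : Type*} [Group G] [Finite G] {r : ℕ} [Fact r.Prime] (hr : r ≠ 2) [hN : (Cfsg.pCore 2 G).Normal] (hquot : Nonempty (G ⧸ Cfsg.pCore 2 G ≃* DihedralGroup r)) (R : Sylow r G) (hC : Cfsg.pCore 2 G ⊓ Subgroup.centralizer ((R : Subgroup G) : Set G) = ⊥) : Nonempty (↥(Subgroup.normalizer ((R : Subgroup G) : Set G)) ≃* DihedralGroup r) ∧ ∀ a : G, a ∈ Subgroup.normalizer ((R : Subgroup G) : Set G) → orderOf a = 2 → (∀ b : G, orderOf b = 2 → b ∉ Cfsg.pCore 2 G → ∃ g : G, g * a * g⁻¹ = b) ∧ Nat.card ↥(Cfsg.pCore 2 G ⊓ Subgroup.centralizer ({a} : Set G)) ^ 2 = Nat.card ↥(Cfsg.pCore 2 G) := by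
  obtain ⟨φ⟩ := hquot
  set O := Cfsg.pCore 2 G
  set N := Subgroup.normalizer ((R : Subgroup G) : Set G)
  set π := QuotientGroup.mk' O
  have hO2 : IsPGroup 2 O := CfsgLib.LocalEven.SylowIn.isPGroup_pCore G 2
  have hrp : r.Prime := Fact.out
  obtain ⟨n, hn⟩ := IsPGroup.iff_card.1 hO2
  have hcardG : Nat.card G = 2 ^ n * (2 * r) := by
    rw [← O.card_mul_index, hn, Subgroup.index_eq_card, Nat.card_congr φ.toEquiv, DihedralGroup.nat_card]
  have hr2 : ¬ r ∣ 2 := fun h => hr ((Nat.prime_dvd_prime_iff_eq hrp Nat.prime_two).1 h)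
  have hcardR : Nat.card (R : Subgroup G) = r := by
    rw [R.card_eq_multiplicity, hcardG,
      Nat.factorization_mul (pow_ne_zero _ two_ne_zero) (mul_ne_zero two_ne_zero hrp.ne_zero),
      Nat.factorization_mul two_ne_zero hrp.ne_zero, Finsupp.add_apply, Finsupp.add_apply,
      Nat.factorization_eq_zero_of_not_dvd hr2,
      Nat.factorization_eq_zero_of_not_dvd (fun h => hr2 (hrp.dvd_of_dvd_pow h)), Nat.Prime.factorization_self hrp]
    simp
  have hRO : ∀ x ∈ (R : Subgroup G), x ∈ O → x = 1 := by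
    intro x hxR hxO
    obtain ⟨k, hk⟩ := IsPGroup.iff_orderOf.1 hO2 ⟨x, hxO⟩
    rw [Subgroup.orderOf_mk] at hk
    refine CfsgLib.LocalEven.PReduced.eq_one_of_coprime_of_isPGroup R.2 hxR ?_
    rw [hk]
    exact Nat.Coprime.pow_left k ((Nat.coprime_primes Nat.prime_two hrp).2 (Ne.symm hr))
  have hNO : ∀ x ∈ N, x ∈ O → x = 1 := by
    intro x hxN hxO
    have : x ∈ O ⊓ Subgroup.centralizer ((R : Subgroup G) : Set G) := by
      refine ⟨hxO, Subgroup.mem_centralizer_iff.2 fun y hy => ?_⟩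
      have h1 : x * y * x⁻¹ * y⁻¹ ∈ (R : Subgroup G) := mul_mem ((Subgroup.mem_normalizer_iff.1 hxN y).1 hy) (inv_mem hy)
      have h2 : x * y * x⁻¹ * y⁻¹ ∈ O := by
        rw [mul_assoc, mul_assoc, ← mul_assoc y]
        exact mul_mem hxO (hN.conj_mem _ (inv_mem hxO) y)
      have h3 := hRO _ h1 h2
      calc y * x = (x * y * x⁻¹ * y⁻¹)⁻¹ * x * y := by group
        _ = x * y := by rw [h3]; group
    rw [hC, Subgroup.mem_bot] at this
    exact this
  have hGN : ∀ g : G, ∃ u ∈ O, ∃ m ∈ N, g = u * m := by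
    haveI hn1 : ((R : Subgroup G).map π).Normal := by
      refine Subgroup.normalizer_eq_top_iff.1 (top_le_iff.1 fun q _ => Subgroup.mem_normalizer_iff.2 ?_)
      have key : ∀ q x : G ⧸ O, x ∈ (R : Subgroup G).map π → q * x * q⁻¹ ∈ (R : Subgroup G).map π := by
        intro q x hx
        obtain ⟨y, hy, rfl⟩ := hx
        rcases eq_or_ne y 1 with rfl | hy1
        · simp
        have hyo : orderOf (φ (π y)) = r := by
          refine orderOf_eq_prime ?_ ?_
          · have : y ^ r = 1 := by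
              rw [← hcardR]
              exact congrArg Subtype.val (pow_card_eq_one' (x := (⟨y, hy⟩ : (R : Subgroup G))))
            rw [← map_pow, ← map_pow, this, map_one, map_one]
          · intro h
            have h' : π y = 1 := φ.injective (h.trans (map_one φ).symm)
            exact hy1 (hRO y hy ((QuotientGroup.eq_one_iff y).1 h'))
        obtain ⟨i, hi⟩ : ∃ i, φ (π y) = DihedralGroup.r i := by
          cases hd : φ (π y) with
          | r i => exact ⟨i, rfl⟩
          | sr i =>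
            rw [hd, DihedralGroup.orderOf_sr] at hyo
            exact absurd hyo.symm hr
        have hi0 : i ≠ 0 := fun h => by
          rw [hi, h, ← DihedralGroup.one_def, orderOf_one] at hyo
          exact hrp.ne_one hyo.symm
        obtain ⟨j, hj⟩ : ∃ j, φ (q * π y * q⁻¹) = DihedralGroup.r j := by
          rw [map_mul, map_mul, map_inv, hi]
          cases φ q with
          | r k => exact ⟨_, by rw [DihedralGroup.inv_r, DihedralGroup.r_mul_r, DihedralGroup.r_mul_r]⟩
          | sr k => exact ⟨_, by rw [DihedralGroup.inv_sr, DihedralGroup.sr_mul_r, DihedralGroup.sr_mul_sr]⟩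
        refine ⟨y ^ (j / i).val, pow_mem hy _, φ.injective ?_⟩
        rw [map_pow, map_pow, hi, hj, DihedralGroup.r_pow, ZMod.natCast_zmod_val, mul_div_cancel₀ j hi0]
      intro x
      refine ⟨key q x, fun h => ?_⟩
      have h' := key q⁻¹ _ h
      simpa [mul_assoc] using h'
    intro g
    have hS : CfsgLib.LocalEven.SylowIn.IsSylowIn r (R : Subgroup G) (((R : Subgroup G).map π).comap π) :=
      CfsgLib.LocalEven.PReduced.isSylowIn_of_sylow R (fun x hx => ⟨x, hx, rfl⟩)
    obtain ⟨l, hl, m, hm, rfl⟩ := CfsgLib.LocalEven.SylowIn.frattini_argument hS (H := ⊤)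
      (Subgroup.normalizer_eq_top (H := ((R : Subgroup G).map π).comap π)).ge le_top (Subgroup.mem_top g)
    obtain ⟨y, hy, hyl⟩ := hl
    have h1 : l * y⁻¹ ∈ O := by
      refine (QuotientGroup.eq_one_iff _).1 ?_
      show π (l * y⁻¹) = 1
      rw [map_mul, map_inv, hyl, mul_inv_cancel]
    exact ⟨l * y⁻¹, h1, y * m, mul_mem (Subgroup.le_normalizer hy) hm.2, by group⟩
  have hbij : Function.Bijective (π.comp N.subtype) := by
    refine ⟨(injective_iff_map_eq_one _).2 fun x hx => Subtype.ext (hNO x x.2 ((QuotientGroup.eq_one_iff _).1 hx)), fun q => ?_⟩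
    obtain ⟨g, rfl⟩ := QuotientGroup.mk'_surjective O q
    obtain ⟨u, hu, m, hm, rfl⟩ := hGN g
    refine ⟨⟨m, hm⟩, ?_⟩
    show π m = π (u * m)
    rw [map_mul, show π u = 1 from (QuotientGroup.eq_one_iff u).2 hu, one_mul]
  let e : ↥N ≃* DihedralGroup r := (MulEquiv.ofBijective _ hbij).trans φ
  have heq : ∀ (m : G) (hm : m ∈ N) (g : G), φ (π g) = e ⟨m, hm⟩ → g * m⁻¹ ∈ O := by
    intro m hm g h
    refine (QuotientGroup.eq_one_iff _).1 ?_
    show π (g * m⁻¹) = 1
    rw [map_mul, map_inv, φ.injective h]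
    exact mul_inv_cancel _
  refine ⟨⟨e⟩, fun a haN ha => ?_⟩
  obtain ⟨i, hi⟩ := dihedral_involution hr (d := e ⟨a, haN⟩) (by rw [MulEquiv.orderOf_eq, Subgroup.orderOf_mk, ha])
  set x : ↥N := e.symm (DihedralGroup.r 1)
  have hxo : orderOf (x : G) = r := by rw [Subgroup.orderOf_coe, MulEquiv.orderOf_eq, DihedralGroup.orderOf_r_one]
  set a' := (x : G) * a * (x : G)⁻¹
  have ha'N : a' ∈ N := mul_mem (mul_mem x.2 haN) (inv_mem x.2)
  have ha' : orderOf a' = 2 := by rw [CfsgLib.Involution.Dihedral.orderOf_conj, ha]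
  have hea' : e ⟨a', ha'N⟩ = DihedralGroup.r 1 * DihedralGroup.sr i * DihedralGroup.r (-1) := by
    rw [show (⟨a', ha'N⟩ : ↥N) = x * ⟨a, haN⟩ * x⁻¹ from Subtype.ext rfl, map_mul, map_mul, map_inv, hi]
    simp [x]
  have hzR : Subgroup.zpowers (a * a') = (R : Subgroup G) := by
    have hne : a * a' ≠ 1 := fun h => by
      have h1 : e (⟨a, haN⟩ * ⟨a', ha'N⟩) = 1 := by
        rw [show (⟨a, haN⟩ * ⟨a', ha'N⟩ : ↥N) = 1 from Subtype.ext h, map_one]
      rw [map_mul, hi, hea', DihedralGroup.r_mul_sr, DihedralGroup.sr_mul_r, DihedralGroup.sr_mul_sr,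
        DihedralGroup.one_def, DihedralGroup.r.injEq] at h1
      have h' : ((2 : ℕ) : ZMod r) = 0 := by push_cast; linear_combination -h1
      rw [ZMod.natCast_eq_zero_iff] at h'
      exact hr2 h'
    have hor : orderOf (a * a') = r := by
      refine orderOf_eq_prime ?_ hne
      have h1 : e ((⟨a, haN⟩ * ⟨a', ha'N⟩ : ↥N) ^ r) = 1 := by
        rw [map_pow, map_mul, hi, hea', DihedralGroup.r_mul_sr, DihedralGroup.sr_mul_r, DihedralGroup.sr_mul_sr,
          DihedralGroup.r_pow, ZMod.natCast_self, mul_zero, DihedralGroup.one_def]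
      exact congrArg Subtype.val (e.injective (h1.trans (map_one e).symm))
    have hp : IsPGroup r (Subgroup.zpowers (a * a')) := IsPGroup.of_card (n := 1) (by rw [Nat.card_zpowers, hor, pow_one])
    have hsup : IsPGroup r ↥((R : Subgroup G) ⊔ Subgroup.zpowers (a * a')) :=
      R.2.to_sup_of_normal_left' hp (Subgroup.zpowers_le.2 (mul_mem haN ha'N))
    refine Subgroup.eq_of_le_of_card_ge (le_sup_right.trans (R.3 hsup le_sup_left).le) ?_
    rw [hcardR, Nat.card_zpowers, hor]
  set C := O ⊓ Subgroup.centralizer ({a} : Set G)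
  set C' := O ⊓ Subgroup.centralizer ({a'} : Set G)
  have hint : ∀ u ∈ C, u ∈ C' → u = 1 := by
    rintro u ⟨huO, hu⟩ ⟨-, hu'⟩
    have : u ∈ O ⊓ Subgroup.centralizer ((R : Subgroup G) : Set G) := by
      refine ⟨huO, ?_⟩
      rw [← hzR, Subgroup.zpowers_eq_closure, Subgroup.centralizer_closure]
      show u ∈ Subgroup.centralizer _
      rw [Subgroup.mem_centralizer_singleton_iff]
      have h1 := Subgroup.mem_centralizer_singleton_iff.1 hu
      have h2 := Subgroup.mem_centralizer_singleton_iff.1 hu'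
      calc u * (a * a') = (u * a) * a' := (mul_assoc _ _ _).symm
        _ = (a * u) * a' := by rw [h1]
        _ = a * (u * a') := mul_assoc _ _ _
        _ = a * (a' * u) := by rw [h2]
        _ = a * a' * u := (mul_assoc _ _ _).symm
    rw [hC, Subgroup.mem_bot] at this
    exact this
  -- the key: an involution of `aO` is conjugate to `a` by an element of `C'`
  have key : ∀ b : G, orderOf b = 2 → b * a⁻¹ ∈ O → ∃ u ∈ C', b = u * a * u⁻¹ := by
    intro b hb hba
    set y := b * a'
    have hπy : π y = π (a * a') := by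
      show π (b * a') = _
      rw [map_mul π b a', map_mul π a a']
      congr 1
      have h1 : π (b * a⁻¹) = 1 := (QuotientGroup.eq_one_iff _).2 hba
      rw [map_mul, map_inv, mul_inv_eq_one] at h1
      exact h1
    obtain ⟨k, z, hz, hdec⟩ := Nat.exists_eq_pow_mul_and_not_dvd (orderOf_pos y).ne' 2 (by norm_num)
    set w := y ^ 2 ^ k
    have hwz : orderOf w = z := by
      rw [orderOf_pow' y (pow_ne_zero _ two_ne_zero), hdec, Nat.gcd_eq_right (Dvd.intro z rfl),
        Nat.mul_div_cancel_left _ (pow_pos two_pos k)]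
    have hwr : w ^ r = 1 := by
      have h1 : orderOf w ∣ 2 ^ n * 2 * r := by rw [mul_assoc, ← hcardG]; exact orderOf_dvd_natCard w
      have h2 : (orderOf w).Coprime (2 ^ n * 2) := by
        rw [hwz]
        have : z.Coprime 2 := ((Nat.prime_two.coprime_iff_not_dvd).2 hz).symm
        exact (this.pow_right n).mul_right this
      exact orderOf_dvd_iff_pow_eq_one.1 (h2.dvd_of_dvd_mul_left h1)
    have hw1 : w ≠ 1 := fun h => by
      have h1 : π (a * a') ^ 2 ^ k = 1 := by rw [← hπy, ← map_pow, show y ^ 2 ^ k = 1 from h, map_one]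
      have h2 : (a * a') ^ 2 ^ k ∈ O := (QuotientGroup.eq_one_iff _).1 ((map_pow π _ _).trans h1)
      have h3 : (a * a') ^ 2 ^ k = 1 := hRO _ (pow_mem (hzR.le (Subgroup.mem_zpowers _)) _) h2
      have h4 : (a * a') ^ r = 1 := by
        have h5 : orderOf (a * a') = r := by rw [← Nat.card_zpowers, hzR]; exact hcardR
        exact orderOf_dvd_iff_pow_eq_one.1 (h5 ▸ dvd_rfl)
      have h6 : a * a' = 1 := orderOf_eq_one_iff.1 (Nat.eq_one_of_dvd_coprimes
        (Nat.Coprime.pow_left k ((Nat.coprime_primes Nat.prime_two hrp).2 (Ne.symm hr)))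
        (orderOf_dvd_of_pow_eq_one h3) (orderOf_dvd_of_pow_eq_one h4))
      have := hzR.symm.le
      rw [h6, Subgroup.zpowers_one_eq_bot] at this
      have h7 := Subgroup.card_le_of_le this
      rw [hcardR, Subgroup.card_bot] at h7
      have := hrp.two_le
      omega
    obtain ⟨R', hR'⟩ := (IsPGroup.of_card (p := r) (n := 1)
      (by rw [Nat.card_zpowers, orderOf_eq_prime hwr hw1, pow_one]) : IsPGroup r (Subgroup.zpowers w)).exists_le_sylow
    obtain ⟨g, hg⟩ := MulAction.exists_smul_eq G R R'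
    obtain ⟨u, hu, m, hm, rfl⟩ := hGN g
    have hwu : Subgroup.zpowers w = (R : Subgroup G).map (MulAut.conj u).toMonoidHom := by
      have h1 : Subgroup.zpowers w ≤ (R : Subgroup G).map (MulAut.conj (u * m)).toMonoidHom := by
        intro z hz
        have := hR' hz
        rw [← hg] at this
        exact this
      rw [← CfsgLib.LocalEven.SylowIn.map_conj_conj, CfsgLib.LocalEven.SylowIn.map_conj_eq_iff.2 hm] at h1
      refine Subgroup.eq_of_le_of_card_ge h1 ?_
      rw [← Nat.card_congr ((R : Subgroup G).equivMapOfInjective _ (MulAut.conj u).injective).toEquiv, hcardR,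
        Nat.card_zpowers, orderOf_eq_prime hwr hw1]
    have hby : b * y * b⁻¹ = y⁻¹ := by
      show b * (b * a') * b⁻¹ = (b * a')⁻¹
      rw [mul_inv_rev, CfsgLib.Involution.Dihedral.inv_eq hb, CfsgLib.Involution.Dihedral.inv_eq ha',
        ← mul_assoc, CfsgLib.Involution.Dihedral.mul_self hb, one_mul]
    have ha'y : a' * y * a'⁻¹ = y⁻¹ := by
      show a' * (b * a') * a'⁻¹ = (b * a')⁻¹
      rw [mul_inv_rev b a', CfsgLib.Involution.Dihedral.inv_eq hb, CfsgLib.Involution.Dihedral.inv_eq ha']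
      calc a' * (b * a') * a' = a' * b * (a' * a') := by group
        _ = a' * b := by rw [CfsgLib.Involution.Dihedral.mul_self ha', mul_one]
    have hnorm : ∀ c : G, orderOf c = 2 → c * y * c⁻¹ = y⁻¹ → u⁻¹ * c * u ∈ N := by
      intro c hc hcy
      have hcw : c ∈ Subgroup.normalizer ((Subgroup.zpowers w : Subgroup G) : Set G) := by
        have key : ∀ z ∈ Subgroup.zpowers w, c * z * c⁻¹ ∈ Subgroup.zpowers w := by
          rintro _ ⟨j, rfl⟩
          refine ⟨-j, ?_⟩
          have := CfsgLib.Involution.Dihedral.conj_pow hcy (2 ^ k)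
          exact (CfsgLib.Involution.Dihedral.conj_zpow this j).symm
        refine Subgroup.mem_normalizer_iff.2 fun z => ⟨key z, fun h => ?_⟩
        have h' := key _ h
        rw [CfsgLib.Involution.Dihedral.inv_eq hc] at h'
        have e : c * (c * z * c) * c = z := by
          calc c * (c * z * c) * c = c * c * z * (c * c) := by group
            _ = z := by rw [CfsgLib.Involution.Dihedral.mul_self hc]; group
        rwa [e] at h'
      rw [hwu, CfsgLib.LocalEven.SylowIn.normalizer_map_conj] at hcw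
      obtain ⟨z, hz, he⟩ := hcw
      have he' : u * z * u⁻¹ = c := he
      rw [← he']
      have : u⁻¹ * (u * z * u⁻¹) * u = z := by group
      rw [this]; exact hz
    have hmod : ∀ c m' : G, m' ∈ N → c * m'⁻¹ ∈ O → u⁻¹ * c * u ∈ N → u⁻¹ * c * u = m' := by
      intro c m' hm' hc hcN
      have h1 : u⁻¹ * c * u * m'⁻¹ ∈ O := by
        rw [show u⁻¹ * c * u * m'⁻¹ = u⁻¹ * ((c * m'⁻¹) * (m' * u * m'⁻¹)) by group]
        exact mul_mem (inv_mem hu) (mul_mem hc (hN.conj_mem u hu m'))
      have h2 := hNO _ (mul_mem hcN (inv_mem hm')) h1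
      rwa [mul_inv_eq_one] at h2
    have hub := hmod b a haN hba (hnorm b hb hby)
    have hua := hmod a' a' ha'N (by rw [mul_inv_cancel]; exact one_mem O) (hnorm a' ha' ha'y)
    refine ⟨u, ⟨hu, Subgroup.mem_centralizer_singleton_iff.2 ?_⟩, ?_⟩
    · calc u * a' = u * (u⁻¹ * a' * u) := by rw [hua]
        _ = a' * u := by group
    · rw [← hub]; group
  refine ⟨fun b hb hbO => ?_, ?_⟩
  · have hπb : orderOf (φ (π b)) = 2 := by
      refine orderOf_eq_prime ?_ ?_
      · rw [← map_pow, ← map_pow, orderOf_dvd_iff_pow_eq_one.1 (hb ▸ dvd_refl _ : orderOf b ∣ 2), map_one, map_one]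
      · intro h
        have h' : π b = 1 := φ.injective (h.trans (map_one φ).symm)
        exact hbO ((QuotientGroup.eq_one_iff b).1 h')
    obtain ⟨j, hj⟩ := dihedral_involution hr hπb
    obtain ⟨k, hk⟩ := dihedral_conj hr i j
    set m : ↥N := e.symm (DihedralGroup.r k)
    set b' := (m : G)⁻¹ * b * (m : G)
    have hb' : orderOf b' = 2 := by
      rw [show b' = (m : G)⁻¹ * b * ((m : G)⁻¹)⁻¹ by rw [inv_inv], CfsgLib.Involution.Dihedral.orderOf_conj, hb]
    have hb'a : b' * a⁻¹ ∈ O := by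
      refine heq a haN b' ?_
      show φ (π ((m : G)⁻¹ * b * (m : G))) = _
      have hm' : φ (π (m : G)) = DihedralGroup.r k := e.apply_symm_apply _
      rw [map_mul, map_mul, map_mul, map_mul, map_inv, map_inv, hm', hj, hi, ← hk]
      group
    obtain ⟨u, -, hu⟩ := key b' hb' hb'a
    refine ⟨(m : G) * u, ?_⟩
    calc (m : G) * u * a * ((m : G) * u)⁻¹ = (m : G) * (u * a * u⁻¹) * (m : G)⁻¹ := by group
      _ = b := by rw [← hu]; show (m : G) * ((m : G)⁻¹ * b * (m : G)) * (m : G)⁻¹ = b; group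
  · have hCC : Nat.card C = Nat.card C' := by
      refine Nat.card_congr
        { toFun := fun c => ⟨(x : G) * c * (x : G)⁻¹, hN.conj_mem _ c.2.1 _, Subgroup.mem_centralizer_singleton_iff.2 ?_⟩
          invFun := fun c => ⟨(x : G)⁻¹ * c * (x : G), by simpa using hN.conj_mem _ c.2.1 (x : G)⁻¹, Subgroup.mem_centralizer_singleton_iff.2 ?_⟩
          left_inv := fun c => Subtype.ext (by simp [mul_assoc])
          right_inv := fun c => Subtype.ext (by simp [mul_assoc]) }
      · have h := Subgroup.mem_centralizer_singleton_iff.1 c.2.2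
        calc (x : G) * c * (x : G)⁻¹ * a' = (x : G) * ((c : G) * a) * (x : G)⁻¹ := by simp only [a']; group
          _ = a' * ((x : G) * c * (x : G)⁻¹) := by rw [h]; simp only [a']; group
      · have h := Subgroup.mem_centralizer_singleton_iff.1 c.2.2
        calc (x : G)⁻¹ * c * (x : G) * a = (x : G)⁻¹ * ((c : G) * a') * (x : G) := by simp only [a']; group
          _ = (x : G)⁻¹ * (a' * c) * (x : G) := by rw [h]
          _ = a * ((x : G)⁻¹ * c * (x : G)) := by simp only [a']; group
    let f : ↥C' × ↥C → ↥O := fun z => ⟨z.1 * z.2, mul_mem z.1.2.1 z.2.2.1⟩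
    have hf : Function.Bijective f := by
      refine ⟨?_, fun o => ?_⟩
      · rintro ⟨v₁, c₁⟩ ⟨v₂, c₂⟩ h
        have h' : (v₁ : G) * c₁ = v₂ * c₂ := congrArg Subtype.val h
        have e : (v₂ : G)⁻¹ * v₁ = c₂ * (c₁ : G)⁻¹ := by
          calc (v₂ : G)⁻¹ * v₁ = (v₂ : G)⁻¹ * (v₁ * c₁) * (c₁ : G)⁻¹ := by group
            _ = c₂ * (c₁ : G)⁻¹ := by rw [h']; group
        have h1 := hint _ (mul_mem c₂.2 (inv_mem c₁.2)) (e ▸ mul_mem (inv_mem v₂.2) v₁.2)
        have h2 : c₁ = c₂ := (Subtype.ext (mul_inv_eq_one.1 h1)).symm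
        subst h2
        rw [Prod.mk.injEq]
        exact ⟨Subtype.ext (mul_right_cancel h'), rfl⟩
      · obtain ⟨v, hv, he⟩ := key ((o : G) * a * (o : G)⁻¹) (by rw [CfsgLib.Involution.Dihedral.orderOf_conj, ha])
          (by rw [show (o : G) * a * (o : G)⁻¹ * a⁻¹ = o * (a * (o : G)⁻¹ * a⁻¹) by group]
              exact mul_mem o.2 (hN.conj_mem _ (inv_mem o.2) a))
        refine ⟨(⟨v, hv⟩, ⟨v⁻¹ * o, Subgroup.mem_inf.2 ⟨mul_mem (inv_mem (Subgroup.mem_inf.1 hv).1) o.2, Subgroup.mem_centralizer_singleton_iff.2 ?_⟩⟩),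
          Subtype.ext (mul_inv_cancel_left v _)⟩
        calc v⁻¹ * o * a = v⁻¹ * (o * a * (o : G)⁻¹) * o := by group
          _ = v⁻¹ * (v * a * v⁻¹) * o := by rw [he]
          _ = a * (v⁻¹ * o) := by group
    rw [← Nat.card_eq_of_bijective f hf, Nat.card_prod, ← hCC, pow_two]

end Cfsg.Agent.S2873
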