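import Cfsg.Statements.S2874
import Mathlib.Tactic.Module
import Mathlib.Tactic.NoncommRing
import Mathlib.Tactic.LinearCombination
-- import your own Cfsg.Agent.* helpers here

set_option autoImplicit false
open Cfsg

namespace Cfsg.Agent.S2874


open Matrix

variable {k : ℕ}

/-- The companion matrix of `X ^ 2 + X + 1`. -/
def cm (k : ℕ) : Matrix (Fin 2) (Fin 2) (ZMod (2 ^ k)) := !![0, -1; 1, -1]

theorem cm_cube (k : ℕ) : cm k * cm k * cm k = 1 := by
  ext i j; fin_cases i <;> fin_cases j <;> simp [cm]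

theorem mod_two_facts : ∀ m : Matrix (Fin 2) (Fin 2) (ZMod 2), m * m * m = 1 → m ≠ 1 →
    (m - 1).det = 1 ∧ m 1 0 = 1 := by
  decide

theorem isUnit_of_cast (hk : 1 ≤ k) {a : ZMod (2 ^ k)} (h : ZMod.castHom (dvd_pow_self 2 (by omega : k ≠ 0)) (ZMod 2) a = 1) :
    IsUnit a := by
  rw [← ZMod.natCast_zmod_val a] at h ⊢
  rw [map_natCast] at h
  rw [ZMod.isUnit_iff_coprime]
  refine Nat.Coprime.pow_right k ?_
  rw [Nat.coprime_two_right, ← ZMod.natCast_eq_one_iff_odd]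
  exact h

theorem isUnit_three (hk : 1 ≤ k) : IsUnit (3 : ZMod (2 ^ k)) :=
  isUnit_of_cast hk (by rw [map_ofNat]; rfl)

theorem torsion_mul (hk : 2 ≤ k) {x y : ZMod (2 ^ k)} (hx : 2 * x = 0) (hy : 2 * y = 0) : x * y = 0 := by
  have hxv : x = ((x.val : ℕ) : ZMod (2 ^ k)) := (ZMod.natCast_zmod_val x).symm
  have h1 : 2 ^ k ∣ 2 * x.val := by
    rw [← ZMod.natCast_eq_zero_iff, Nat.cast_mul, ← hxv]
    exact_mod_cast hx
  obtain ⟨c, hc⟩ := h1
  have h2 : x.val = 2 * (2 ^ (k - 2) * c) := by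
    obtain ⟨j, rfl⟩ : ∃ j, k = j + 2 := ⟨k - 2, by omega⟩
    have e : 2 ^ (j + 2) * c = 4 * (2 ^ j * c) := by ring
    simp only [Nat.add_sub_cancel]
    omega
  rw [hxv, h2, Nat.cast_mul, Nat.cast_ofNat, mul_right_comm, hy, zero_mul]

/-- An element of order three has a cyclic vector. -/
theorem conj_cm (hk : 1 ≤ k) (x : GL (Fin 2) (ZMod (2 ^ k))) (h3 : x ^ 3 = 1) (h1 : x ≠ 1) :
    ∃ P : GL (Fin 2) (ZMod (2 ^ k)), ((P⁻¹ * x * P : GL (Fin 2) (ZMod (2 ^ k))) : Matrix _ _ _) = cm k := by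
  set X : Matrix (Fin 2) (Fin 2) (ZMod (2 ^ k)) := x.val with hX
  have hX3 : X * X * X = 1 := by
    rw [hX, ← Units.val_mul, ← Units.val_mul, ← pow_two, ← pow_succ, h3, Units.val_one]
  set f := ZMod.castHom (dvd_pow_self 2 (by omega : k ≠ 0)) (ZMod 2)
  have hm3 : X.map f * X.map f * X.map f = 1 := by
    rw [← Matrix.map_mul, ← Matrix.map_mul, hX3, Matrix.map_one f (map_zero f) (map_one f)]
  have hm1 : X.map f ≠ 1 := by
    intro hm
    have hN : ∀ i j, ∃ n, X i j - (1 : Matrix (Fin 2) (Fin 2) (ZMod (2 ^ k))) i j = 2 * n := by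
      intro i j
      have h : f (X i j - (1 : Matrix (Fin 2) (Fin 2) (ZMod (2 ^ k))) i j) = 0 := by
        have := congrFun (congrFun hm i) j
        rw [Matrix.map_apply] at this
        rw [map_sub, this]
        by_cases hij : i = j <;> simp [hij, Matrix.one_apply]
      generalize X i j - (1 : Matrix (Fin 2) (Fin 2) (ZMod (2 ^ k))) i j = a at h
      rw [← ZMod.natCast_zmod_val a, map_natCast, ZMod.natCast_eq_zero_iff] at h
      obtain ⟨c, hc⟩ := h
      exact ⟨c, by rw [← ZMod.natCast_zmod_val a, hc, Nat.cast_mul, Nat.cast_ofNat]⟩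
    choose n hn using hN
    set N : Matrix (Fin 2) (Fin 2) (ZMod (2 ^ k)) := n with hN
    have hXN : X = 1 + (2 : ZMod (2 ^ k)) • N := by
      ext i j
      rw [Matrix.add_apply, Matrix.smul_apply, smul_eq_mul, ← hn]
      ring
    set W : Matrix (Fin 2) (Fin 2) (ZMod (2 ^ k)) := (3 : ZMod (2 ^ k)) • 1 + (2 : ZMod (2 ^ k)) • (((3 : ZMod (2 ^ k)) • N) + (2 : ZMod (2 ^ k)) • (N * N)) with hW
    have hWu : IsUnit W := by
      rw [Matrix.isUnit_iff_isUnit_det]
      refine isUnit_of_cast hk ?_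
      show f W.det = 1
      rw [RingHom.map_det]
      have : f.mapMatrix W = 1 := by
        ext i j
        have h2 : f 2 = 0 := by rw [map_ofNat]; rfl
        have h3 : f 3 = 1 := by rw [map_ofNat]; rfl
        simp [hW, h2, h3, Matrix.one_apply, apply_ite f]
      rw [this, Matrix.det_one]
    have hz : ((2 : ZMod (2 ^ k)) • N) * W = 0 := by
      have e : X * X * X - 1 = ((2 : ZMod (2 ^ k)) • N) * W := by
        rw [hXN, hW]
        simp only [mul_add, add_mul, Matrix.mul_one, Matrix.one_mul, smul_add, Matrix.smul_mul, Matrix.mul_smul,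
          smul_smul, Matrix.mul_assoc]
        module
      rw [← e, hX3, sub_self]
    obtain ⟨W', hW'⟩ := hWu
    rw [← hW'] at hz
    rw [Units.mul_left_eq_zero] at hz
    exact h1 (Units.ext (by rw [← hX, hXN, hz, add_zero, Units.val_one]))
  obtain ⟨hd, h10⟩ := mod_two_facts _ hm3 hm1
  have hu10 : IsUnit (X 1 0) := isUnit_of_cast hk (by rw [← h10]; rfl)
  have hq : X * X + X + 1 = 0 := by
    have hu : IsUnit (X - 1) := by
      rw [Matrix.isUnit_iff_isUnit_det]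
      refine isUnit_of_cast hk ?_
      show f (X - 1).det = 1
      rw [RingHom.map_det, map_sub, map_one]
      exact hd
    obtain ⟨U, hU⟩ := hu
    refine (Units.mul_right_eq_zero U).1 ?_
    rw [hU]
    have : (X - 1) * (X * X + X + 1) = X * X * X - 1 := by noncomm_ring
    rw [this, hX3, sub_self]
  set P : Matrix (Fin 2) (Fin 2) (ZMod (2 ^ k)) := !![1, X 0 0; 0, X 1 0] with hP
  have hPu : IsUnit P := by
    rw [Matrix.isUnit_iff_isUnit_det, hP, Matrix.det_fin_two_of]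
    simpa using hu10
  obtain ⟨P', hP'⟩ := hPu
  refine ⟨P', ?_⟩
  have h00 := congrFun (congrFun hq 0) 0
  have h10' := congrFun (congrFun hq 1) 0
  simp [Matrix.mul_apply, Fin.sum_univ_two] at h00 h10'
  have hXP : X * P = P * cm k := by
    ext i j
    fin_cases i <;> fin_cases j <;> simp [hP, cm, Matrix.mul_apply, Fin.sum_univ_two]
    · linear_combination h00
    · linear_combination h10'
  rw [Units.val_mul, Units.val_mul, ← hX, Matrix.mul_assoc, hP', hXP, ← Matrix.mul_assoc, ← hP', Units.inv_mul,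
    Matrix.one_mul]

/-- The only four-group normalised fixed-point-freely by the companion matrix. -/
theorem four_shape (hk : 2 ≤ k) (u : Matrix (Fin 2) (Fin 2) (ZMod (2 ^ k))) (hu : u * u = 1)
    (h : u * (cm k * u * (cm k * cm k)) = cm k * cm k * u * cm k) :
    u 1 1 = 2 - u 0 0 ∧ u 1 0 = u 0 0 + u 0 1 - 1 ∧ 2 * (u 0 0 - 1) = 0 ∧ 2 * u 0 1 = 0 := by
  obtain ⟨i, hi⟩ := (isUnit_three (k := k) (by omega)).exists_left_inv
  set p := i * (u 0 0 + 2 * u 1 1 + u 1 0 - u 0 1) with hp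
  set q := i * (2 * (u 1 0 - u 0 1) - (u 0 0 - u 1 1)) with hq
  set r := i * (2 * (u 0 0 - u 1 1) - (u 1 0 - u 0 1)) with hr
  set t := i * (u 1 0 + 2 * u 0 1 + u 0 0 - u 1 1) with ht
  have e00 : u 0 0 = p + r := by rw [hp, hr]; linear_combination -(u 0 0) * hi
  have e01 : u 0 1 = -q - r + t := by rw [hq, hr, ht]; linear_combination -(u 0 1) * hi
  have e10 : u 1 0 = q + t := by rw [hq, ht]; linear_combination -(u 1 0) * hi
  have e11 : u 1 1 = p - q - r := by rw [hp, hq, hr]; linear_combination -(u 1 1) * hi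
  clear_value p q r t
  rw [Matrix.eta_fin_two u, e00, e01, e10, e11] at hu h
  have s00 := congrFun (congrFun hu 0) 0
  have s01 := congrFun (congrFun hu 0) 1
  have s10 := congrFun (congrFun hu 1) 0
  have s11 := congrFun (congrFun hu 1) 1
  have t00 := congrFun (congrFun h 0) 0
  have t01 := congrFun (congrFun h 0) 1
  have t10 := congrFun (congrFun h 1) 0
  have t11 := congrFun (congrFun h 1) 1
  simp [cm, Matrix.mul_apply, Fin.sum_univ_two, e00, e01, e10, e11] at s00 s01 s10 s11 t00 t01 t10 t11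
  have cancel3 : ∀ z : ZMod (2 ^ k), 3 * z = 0 → z = 0 := fun z hz => by linear_combination i * hz - z * hi
  set β := r * r - r * t + t * t with hβ
  have E1 : β - q = 0 := cancel3 _ (by
    rw [hβ]
    linear_combination (2 * t10 - 2 * t01 - t00 + t11) - (2 * s10 - 2 * s01 - s00 + s11))
  have E0 : β + p - 1 = 0 := cancel3 _ (by
    rw [hβ]
    linear_combination (s00 + 2 * s11 + s10 - s01) - (t00 + 2 * t11 + t10 - t01))
  have F0 : t * (p + q + 1) = 0 := cancel3 _ (by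
    linear_combination (2 * t00 - 2 * t11 - t10 + t01))
  have F1 : (r - t) * (p + q + 1) = 0 := cancel3 _ (by
    linear_combination -(t10 + 2 * t01 + t00 - t11))
  have ht2 : 2 * t = 0 := by linear_combination F0 - t * E0 + t * E1
  have hr2 : 2 * r = 0 := by linear_combination F1 + F0 - r * E0 + r * E1
  have hb0 : β = 0 := by
    rw [hβ, torsion_mul hk hr2 hr2, torsion_mul hk hr2 ht2, torsion_mul hk ht2 ht2]; ring
  have hq0 : q = 0 := by linear_combination hb0 - E1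
  have hp1 : p = 1 := by linear_combination E0 - hb0
  refine ⟨?_, ?_, ?_, ?_⟩
  · rw [e00, e11, hq0, hp1]; ring
  · rw [e00, e01, e10, hq0, hp1]; ring
  · rw [e00, hp1]; linear_combination hr2
  · rw [e01, hq0]; linear_combination ht2 - hr2

theorem card_torsion (hk : 2 ≤ k) : Nat.card {a : ZMod (2 ^ k) // 2 * a = 0} ≤ 2 := by
  let g : {a : ZMod (2 ^ k) // 2 * a = 0} → ({0, ((2 ^ (k - 1) : ℕ) : ZMod (2 ^ k))} : Set (ZMod (2 ^ k))) :=
    fun a => ⟨a.1, by
      have hv : (a.1.val : ℕ) < 2 ^ k := ZMod.val_lt _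
      have h1 : 2 ^ k ∣ 2 * a.1.val := by
        rw [← ZMod.natCast_eq_zero_iff, Nat.cast_mul, ZMod.natCast_zmod_val]
        exact_mod_cast a.2
      obtain ⟨c, hc⟩ := h1
      have hk1 : 2 ^ k = 2 * 2 ^ (k - 1) := by rw [← pow_succ']; congr 1; omega
      have hv2 : a.1.val = 2 ^ (k - 1) * c := by
        have e : 2 * a.1.val = 2 * (2 ^ (k - 1) * c) := by rw [← mul_assoc, ← hk1]; exact hc
        omega
      have hc2 : c < 2 := by
        by_contra hc2
        have := Nat.mul_le_mul_left (2 ^ (k - 1)) (not_lt.1 hc2)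
        omega
      rw [← ZMod.natCast_zmod_val a.1, hv2]
      interval_cases c <;> simp⟩
  have := Nat.card_le_card_of_injective g fun a b h =>
    Subtype.ext (congrArg (fun z : ({0, ((2 ^ (k - 1) : ℕ) : ZMod (2 ^ k))} : Set (ZMod (2 ^ k))) => (z : ZMod (2 ^ k))) h :)
  rw [Nat.card_coe_set_eq] at this
  exact this.trans ((Set.ncard_insert_le _ _).trans (by simp))

/-- The exceptional four-group as a set. -/
def Four (k : ℕ) : Set (GL (Fin 2) (ZMod (2 ^ k))) :=
  {u | u.val 1 1 = 2 - u.val 0 0 ∧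
    u.val 1 0 = u.val 0 0 + u.val 0 1 - 1 ∧
    2 * (u.val 0 0 - 1) = 0 ∧ 2 * u.val 0 1 = 0}

theorem card_Four (hk : 2 ≤ k) : (Four k).ncard ≤ 4 := by
  rw [← Nat.card_coe_set_eq]
  refine le_trans (Nat.card_le_card_of_injective
    (fun u : Four k => ((⟨_, u.2.2.2.1⟩, ⟨_, u.2.2.2.2⟩) :
      {a : ZMod (2 ^ k) // 2 * a = 0} × {a : ZMod (2 ^ k) // 2 * a = 0})) ?_) ?_
  · rintro ⟨u, hu⟩ ⟨v, hv⟩ h
    simp only [Prod.mk.injEq, Subtype.mk.injEq] at h
    obtain ⟨h1, h2⟩ := h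
    have h0 : u.val 0 0 = v.val 0 0 := sub_left_injective h1
    refine Subtype.ext (Units.ext ?_)
    ext i j
    fin_cases i <;> fin_cases j
    · exact h0
    · exact h2
    · show u.val 1 0 = v.val 1 0
      rw [hu.2.1, hv.2.1, h0, h2]
    · show u.val 1 1 = v.val 1 1
      rw [hu.1, hv.1, h0]
  · rw [Nat.card_prod]
    exact Nat.mul_le_mul (card_torsion hk) (card_torsion hk)

theorem alt_facts : (∀ x u : alternatingGroup (Fin 4), x ^ 3 = 1 → x ≠ 1 → u ^ 2 = 1 →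
      u * (x * u * x ^ 2) = x ^ 2 * u * x) ∧
    (∃ x : alternatingGroup (Fin 4), x ^ 3 = 1 ∧ x ≠ 1) ∧
    Fintype.card {u : alternatingGroup (Fin 4) // u ^ 2 = 1} = 4 ∧
    (∀ x : alternatingGroup (Fin 4), x ^ 3 = 1 → x ≠ 1 → ∀ g : alternatingGroup (Fin 4),
      ∃ u : alternatingGroup (Fin 4), u ^ 2 = 1 ∧ (g = u ∨ g = u * x ∨ g = u * x ^ 2)) := by
  refine ⟨?_, ?_, ?_, ?_⟩ <;> decide +kernel

/-- Every subgroup isomorphic to the alternating group is conjugate to a fixed one. -/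
theorem normalise (hk : 2 ≤ k) (H : Subgroup (GL (Fin 2) (ZMod (2 ^ k)))) (e : H ≃* alternatingGroup (Fin 4)) :
    ∃ P c : GL (Fin 2) (ZMod (2 ^ k)), (c : Matrix _ _ _) = cm k ∧
      ∀ g, g ∈ H.map (MulAut.conj P⁻¹).toMonoidHom ↔ ∃ u ∈ Four k, g = u ∨ g = u * c ∨ g = u * c ^ 2 := by
  classical
  obtain ⟨hrel, ⟨x, hx3, hx1⟩, h4, hdec⟩ := alt_facts
  obtain ⟨P, hP⟩ := conj_cm (by omega) ((e.symm x : H) : GL (Fin 2) (ZMod (2 ^ k)))
    (by rw [← Subgroup.coe_pow, ← map_pow, hx3, map_one]; rfl)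
    (fun h => hx1 (e.symm.injective (by rw [map_one]; exact Subtype.ext h)))
  let ψ : alternatingGroup (Fin 4) →* GL (Fin 2) (ZMod (2 ^ k)) :=
    (MulAut.conj P⁻¹).toMonoidHom.comp (H.subtype.comp e.symm.toMonoidHom)
  have hψi : Function.Injective ψ :=
    (MulAut.conj P⁻¹).injective.comp (Subtype.val_injective.comp e.symm.injective)
  have hψr : ∀ g, g ∈ H.map (MulAut.conj P⁻¹).toMonoidHom ↔ ∃ a, ψ a = g := by
    intro g
    constructor
    · rintro ⟨h, hh, rfl⟩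
      exact ⟨e ⟨h, hh⟩, by simp [ψ]⟩
    · rintro ⟨a, rfl⟩
      exact ⟨_, (e.symm a).2, rfl⟩
  have hc : (ψ x : Matrix _ _ _) = cm k := by
    rw [← hP]; simp [ψ]
  have hmem : ∀ u : alternatingGroup (Fin 4), u ^ 2 = 1 → ψ u ∈ Four k := by
    intro u hu
    refine four_shape hk _ ?_ ?_
    · rw [← Units.val_mul, ← map_mul, ← pow_two, hu, map_one, Units.val_one]
    · have h := congrArg (fun a => (ψ a : Matrix (Fin 2) (Fin 2) (ZMod (2 ^ k)))) (hrel x u hx3 hx1 hu)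
      simp only [map_mul, Units.val_mul, pow_two, hc] at h
      exact h
  have hsurj : ∀ v ∈ Four k, ∃ u : alternatingGroup (Fin 4), u ^ 2 = 1 ∧ ψ u = v := by
    let S : Set (GL (Fin 2) (ZMod (2 ^ k))) := ψ '' {u | u ^ 2 = 1}
    have hS : S ⊆ Four k := by
      rintro _ ⟨u, hu, rfl⟩; exact hmem u hu
    have hS4 : S.ncard = 4 := by
      rw [Set.ncard_image_of_injective _ hψi, ← h4, ← Nat.card_coe_set_eq, Nat.card_eq_fintype_card]
      rfl
    have heq : S = Four k := Set.eq_of_subset_of_ncard_le hS (by rw [hS4]; exact card_Four hk)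
    intro v hv
    rw [← heq] at hv
    exact hv
  refine ⟨P, ψ x, hc, fun g => ?_⟩
  rw [hψr]
  constructor
  · rintro ⟨a, rfl⟩
    obtain ⟨u, hu, h | h | h⟩ := hdec x hx3 hx1 a
    · exact ⟨ψ u, hmem u hu, Or.inl (by rw [h])⟩
    · exact ⟨ψ u, hmem u hu, Or.inr (Or.inl (by rw [h, map_mul]))⟩
    · exact ⟨ψ u, hmem u hu, Or.inr (Or.inr (by rw [h, map_mul, map_pow]))⟩
  · rintro ⟨v, hv, h⟩
    obtain ⟨u, -, rfl⟩ := hsurj v hv
    rcases h with h | h | h <;> subst h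
    · exact ⟨u, rfl⟩
    · exact ⟨u * x, map_mul _ _ _⟩
    · exact ⟨u * x ^ 2, by rw [map_mul, map_pow]⟩

/-- For k ≥ 2, any two subgroups of GL₂(ℤ/2ᵏℤ) (the automorphism group of the homocyclic group ℤ/2ᵏ × ℤ/2ᵏ) that are isomorphic to the alternating group of degree 4 are conjugate. -/
theorem result (k : ℕ) (hk : 2 ≤ k) (H₁ H₂ : Subgroup (GL (Fin 2) (ZMod (2 ^ k)))) (h₁ : Nonempty (↥H₁ ≃* ↥(alternatingGroup (Fin 4)))) (h₂ : Nonempty (↥H₂ ≃* ↥(alternatingGroup (Fin 4)))) : ∃ g : GL (Fin 2) (ZMod (2 ^ k)), H₂ = H₁.map (MulAut.conj g).toMonoidHom := by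
  obtain ⟨e₁⟩ := h₁
  obtain ⟨e₂⟩ := h₂
  obtain ⟨P, c, hc, hP⟩ := normalise hk H₁ e₁
  obtain ⟨Q, d, hd, hQ⟩ := normalise hk H₂ e₂
  have hcd : c = d := Units.ext (hc.trans hd.symm)
  subst hcd
  have heq : H₁.map (MulAut.conj P⁻¹).toMonoidHom = H₂.map (MulAut.conj Q⁻¹).toMonoidHom :=
    Subgroup.ext fun g => (hP g).trans (hQ g).symm
  refine ⟨Q * P⁻¹, Subgroup.ext fun g => ?_⟩
  have key : ∀ (H : Subgroup (GL (Fin 2) (ZMod (2 ^ k)))) (a g : GL (Fin 2) (ZMod (2 ^ k))),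
      g ∈ H.map (MulAut.conj a).toMonoidHom ↔ a⁻¹ * g * a ∈ H := by
    intro H a g
    constructor
    · rintro ⟨h, hh, rfl⟩; simpa [mul_assoc] using hh
    · intro h; exact ⟨_, h, by simp [mul_assoc]⟩
  have h := SetLike.ext_iff.1 heq (Q⁻¹ * g * Q)
  rw [key, key] at h
  rw [key]
  simp only [inv_inv, _root_.mul_inv_rev, ← mul_assoc, mul_inv_cancel, one_mul] at h ⊢
  simp only [mul_assoc, mul_inv_cancel, mul_one] at h ⊢
  exact h.symm

end Cfsg.Agent.S2874
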