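import Cfsg.Statements.S2881
import Cfsg.Agent.S2880

set_option autoImplicit false
open Cfsg 

namespace Cfsg.Agent.S2881


/-- Let E be an extraspecial 2-group of order 2^(2m+1) of plus type (containing an elementary abelian subgroup of order 2^(m+1)), and let ω be an automorphism of E of order 5 whose fixed points are exactly the centre of E. Then m is divisible by 4. -/
theorem result {E : Type*} [Group E] [Finite E] (m : ℕ) (hm : 1 ≤ m) (hE : Cfsg.IsExtraspecial 2 E) (hcard : Nat.card E = 2 ^ (2 * m + 1)) (hplus : ∃ A : Subgroup E, Cfsg.IsElementaryAbelian 2 A ∧ Nat.card A = 2 ^ (m + 1)) (ω : E ≃* E) (hω : orderOf ω = 5) (hfix : ∀ x : E, ω x = x ↔ x ∈ Subgroup.center E) : 4 ∣ m := by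
  classical
  have hc := Cfsg.Agent.S2880.result m hm hE hcard hplus
  let H : Subgroup (MulAut E) := Subgroup.zpowers ω
  have h5 : IsPGroup 5 H := IsPGroup.of_card (n := 1) (by rw [Nat.card_zpowers, hω, pow_one])
  haveI : Fact (Nat.Prime 5) := ⟨by norm_num⟩
  let U : SubMulAction H E :=
    { carrier := {x | orderOf x = 4}
      smul_mem' := fun h x hx => by
        show orderOf ((h : MulAut E) x) = 4
        rw [← hx]
        exact orderOf_injective (h : MulAut E).toMonoidHom (h : MulAut E).injective x }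
  have h0 : IsEmpty (MulAction.fixedPoints H U) := by
    refine ⟨fun x => ?_⟩
    have hf : ω (x.1.1) = x.1.1 := congrArg Subtype.val (x.2 ⟨ω, Subgroup.mem_zpowers ω⟩)
    have hz := (hfix _).1 hf
    have h2 := pow_card_eq_one' (G := Subgroup.center E) (x := ⟨_, hz⟩)
    rw [hE.2] at h2
    have h4 : orderOf x.1.1 = 4 := x.1.2
    have := orderOf_dvd_of_pow_eq_one (congrArg Subtype.val h2 : (x.1.1 : E) ^ 2 = 1)
    rw [h4] at this
    exact absurd (Nat.le_of_dvd two_pos this) (by norm_num)
  have hmod := h5.card_modEq_card_fixedPoints U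
  rw [Nat.card_of_isEmpty (α := MulAction.fixedPoints H U)] at hmod
  have hd : 5 ∣ 2 ^ (2 * m) - 2 ^ m := hc ▸ Nat.modEq_zero_iff_dvd.1 hmod
  have e : 2 ^ (2 * m) - 2 ^ m = 2 ^ m * (2 ^ m - 1) := by
    rw [Nat.mul_sub, mul_one, two_mul, pow_add]
  rw [e] at hd
  rcases (Nat.Prime.dvd_mul (by norm_num)).1 hd with h | h
  · exact absurd ((Nat.prime_dvd_prime_iff_eq (by norm_num) Nat.prime_two).1 ((show Nat.Prime 5 by norm_num).dvd_of_dvd_pow h)) (by norm_num)
  · have h1 : 2 ^ m % 5 = 1 := by
      have := Nat.one_le_two_pow (n := m)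
      omega
    have h2 : 2 ^ m % 5 = 2 ^ (m % 4) % 5 := by
      conv_lhs => rw [← Nat.div_add_mod m 4, pow_add, pow_mul, Nat.mul_mod, Nat.pow_mod]
      norm_num
    rw [h2] at h1
    have : m % 4 < 4 := Nat.mod_lt _ (by norm_num)
    interval_cases h3 : m % 4
    · omega
    all_goals norm_num at h1

end Cfsg.Agent.S2881
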