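import Cfsg.Statements.S2897
import Cfsg.Agent.Lib.LocalEven.CharPCriteria

set_option autoImplicit false
open Cfsg

namespace Cfsg.Agent.S2897

/-- Let p be a prime dividing the order of the finite group G, suppose G has parabolic characteristic p, let S be a Sylow p-subgroup of G and G₁ a normal subgroup of G. If Ω₁(Z(S ∩ G₁)) is nontrivial and contained in Ω₁(Z(S)), then G₁ has parabolic characteristic p. -/
theorem result {G : Type*} [Group G] [Finite G] {p : ℕ} [Fact p.Prime] (hdiv : p ∣ Nat.card G) (hG : Cfsg.IsOfParabolicCharacteristic p G) (S : Sylow p G) (G₁ : Subgroup G) [G₁.Normal] (hne : Cfsg.omegaOne p (((S : Subgroup G) ⊓ G₁) ⊓ Subgroup.centralizer (((S : Subgroup G) ⊓ G₁ : Subgroup G) : Set G)) ≠ ⊥) (hle : Cfsg.omegaOne p (((S : Subgroup G) ⊓ G₁) ⊓ Subgroup.centralizer (((S : Subgroup G) ⊓ G₁ : Subgroup G) : Set G)) ≤ Cfsg.omegaOne p ((S : Subgroup G) ⊓ Subgroup.centralizer ((S : Subgroup G) : Set G))) : Cfsg.IsOfParabolicCharacteristic p ↥G₁ := by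
  have hT := CfsgLib.LocalEven.PReduced.IsSylowIn.inf_normal
    (CfsgLib.LocalEven.PReduced.isSylowIn_of_sylow S (L := ⊤) le_top) le_top
    (Subgroup.normalizer_eq_top (H := G₁)).ge
  refine CfsgLib.LocalEven.CharPCriteria.isOfParabolicCharacteristic_of hT.toSylow fun z hz1 hz => ?_
  have hz' : (z : G) ∈ CfsgLib.LocalEven.SylowIn.omegaCenter p (S : Subgroup G) := by
    refine hle ?_
    rw [← CfsgLib.LocalEven.SylowIn.IsSylowIn.toSylow_map hT]
    refine (Subgroup.closure_induction (p := fun (x : ↥G₁) _ => (x : G) ∈ Cfsg.omegaOne p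
      ((hT.toSylow : Subgroup ↥G₁).map G₁.subtype ⊓ Subgroup.centralizer
        (((hT.toSylow : Subgroup ↥G₁).map G₁.subtype : Subgroup G) : Set G))) ?_ (one_mem _) ?_ ?_ hz)
    · rintro x ⟨⟨hx, hxc⟩, hxp⟩
      refine Subgroup.subset_closure ⟨⟨⟨x, hx, rfl⟩, ?_⟩, by simpa using congrArg Subtype.val hxp⟩
      rintro _ ⟨y, hy, rfl⟩
      exact congrArg Subtype.val (hxc y hy)
    · exact fun x y _ _ hx hy => mul_mem hx hy
    · exact fun x _ hx => inv_mem hx
  have hC := CfsgLib.LocalEven.CharPCriteria.charPElem_of_parabolic hG S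
    (fun h => hz1 (Subtype.ext h)) hz'
  set C := Subgroup.centralizer ({(z : G)} : Set G)
  have hY := CfsgLib.LocalEvenB.CharP.charP_of_subnormal hC
    ((inferInstance : G₁.Normal).subgroupOf C).isSubnormal
  refine CfsgLib.LocalEvenB.CharP.charP_congr
    { toFun := fun x => ⟨⟨(x.1 : G), x.2⟩, Subgroup.mem_centralizer_singleton_iff.2
        (Subtype.ext (Subgroup.mem_centralizer_singleton_iff.1 x.1.2))⟩
      invFun := fun x => ⟨⟨((x : ↥G₁) : G), Subgroup.mem_centralizer_singleton_iff.2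
        (congrArg Subtype.val (Subgroup.mem_centralizer_singleton_iff.1 x.2))⟩, x.1.2⟩
      left_inv := fun x => rfl
      right_inv := fun x => rfl
      map_mul' := fun x y => rfl } hY

end Cfsg.Agent.S2897
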