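import Cfsg.Statements.S2898
import Cfsg.Agent.Lib.LocalEven.CharPCriteria
import Cfsg.Agent.Lib.Involution.ZStar.Basic

set_option autoImplicit false
open Cfsg

namespace Cfsg.Agent.S2898

open scoped commutatorElement

theorem conj_eq_inv {G : Type*} [Group G] [Finite G] (O : Subgroup G) [O.Normal] {z : G} (hz2 : z * z = 1)
    (hfix : ∀ x ∈ O, z * x = x * z → x = 1) : ∀ x ∈ O, z * x * z = x⁻¹ := by
  have hzi : z⁻¹ = z := inv_eq_of_mul_eq_one_right hz2
  have hmem : ∀ x ∈ O, z * x * z ∈ O := fun x hx => by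
    have := (inferInstance : O.Normal).conj_mem x hx z
    rwa [hzi] at this
  let f : O → O := fun x => ⟨(x : G)⁻¹ * (z * x * z), mul_mem (inv_mem x.2) (hmem x x.2)⟩
  have hf : Function.Injective f := by
    intro x y hxy
    have h : (x : G)⁻¹ * (z * x * z) = (y : G)⁻¹ * (z * y * z) := congrArg Subtype.val hxy
    have h2 := hfix ((y : G) * (x : G)⁻¹) (mul_mem y.2 (inv_mem x.2)) (by
      calc z * ((y : G) * (x : G)⁻¹) = (z * y * z) * z⁻¹ * (x : G)⁻¹ := by group
        _ = (y * ((x : G)⁻¹ * (z * x * z))) * z⁻¹ * (x : G)⁻¹ := by rw [h]; group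
        _ = y * (x : G)⁻¹ * z := by group)
    exact Subtype.ext (eq_of_mul_inv_eq_one h2).symm
  intro x hx
  obtain ⟨⟨y, hy⟩, hy'⟩ := (Finite.injective_iff_surjective.1 hf) ⟨x, hx⟩
  have e : y⁻¹ * (z * y * z) = x := congrArg Subtype.val hy'
  rw [← e]
  calc z * (y⁻¹ * (z * y * z)) * z = z * y⁻¹ * z * y * (z * z) := by group
    _ = z * y⁻¹ * z * y := by rw [hz2, mul_one]
    _ = (y⁻¹ * (z⁻¹ * y * z⁻¹))⁻¹ := by group
    _ = (y⁻¹ * (z * y * z))⁻¹ := by rw [hzi]

/-- Let G be a finite group of even order with parabolic characteristic 2. If the centre of G ⧸ O(G) is trivial, then O(G) = 1. -/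
theorem result {G : Type*} [Group G] [Finite G] (h2 : 2 ∣ Nat.card G) (hG : Cfsg.IsOfParabolicCharacteristic 2 G) [hN : (Cfsg.oddCore G).Normal] (hZ : Subgroup.center (G ⧸ Cfsg.oddCore G) = ⊥) : Cfsg.oddCore G = ⊥ := by
  set O := Cfsg.oddCore G
  by_contra hO
  haveI : O.Normal := hN
  obtain ⟨S⟩ := (inferInstance : Nonempty (Sylow 2 G))
  have hfix : ∀ z : G, z ≠ 1 → z ∈ CfsgLib.LocalEven.SylowIn.omegaCenter 2 (S : Subgroup G) →
      ∀ x ∈ O, z * x = x * z → x = 1 := by
    intro z hz1 hz x hx hc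
    have hC := CfsgLib.LocalEven.CharPCriteria.charPElem_of_parabolic hG S hz1 hz
    set C := Subgroup.centralizer ({z} : Set G)
    have hxC : x ∈ C := Subgroup.mem_centralizer_singleton_iff.2 hc.symm
    have hodd : Odd (orderOf x) := Odd.of_dvd_nat CfsgLib.Involution.ZStar.odd_card_oddCore (O.orderOf_dvd_natCard hx)
    have hd := CfsgLib.KGroups.CharP.eq_one_of_centralizer_pCore_le hC (⟨x, hxC⟩ : C)
      (by rw [Subgroup.orderOf_mk]; exact Nat.coprime_two_right.2 hodd) (Subgroup.mem_centralizer_iff.2 fun r hr => ?_)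
    · exact congrArg Subtype.val hd
    have h1 : ⁅(r : G), x⁆ ∈ O := by
      rw [commutatorElement_def]
      exact mul_mem (hN.conj_mem x hx _) (inv_mem hx)
    have h2 : ⁅r, (⟨x, hxC⟩ : C)⁆ ∈ Cfsg.pCore 2 C := by
      haveI := CfsgLib.LocalEven.SylowIn.pCore_normal C 2
      rw [commutatorElement_def, mul_assoc, mul_assoc, ← mul_assoc (⟨x, hxC⟩ : C)]
      exact mul_mem hr ((inferInstance : (Cfsg.pCore 2 C).Normal).conj_mem _ (inv_mem hr) _)
    obtain ⟨k, hk⟩ := CfsgLib.LocalEven.SylowIn.isPGroup_pCore C 2 ⟨_, h2⟩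
    have hk' : ⁅(r : G), x⁆ ^ 2 ^ k = 1 := by
      have h4 := congrArg Subtype.val (congrArg Subtype.val hk)
      simpa [commutatorElement_def] using h4
    have h3 : ⁅(r : G), x⁆ = 1 := CfsgLib.KGroups.CharP.eq_one_of_pow_coprime
      (Nat.coprime_two_right.2 (Odd.of_dvd_nat CfsgLib.Involution.ZStar.odd_card_oddCore (O.orderOf_dvd_natCard h1)))
      (pow_orderOf_eq_one _) hk'
    exact Subtype.ext (commutatorElement_eq_one_iff_mul_comm.1 h3)
  haveI : Nontrivial (S : Subgroup G) := (Subgroup.nontrivial_iff_ne_bot _).2 (S.ne_bot_of_dvd_card h2)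
  obtain ⟨z, ⟨-, hzS⟩, hzo⟩ := CfsgLib.LocalEven.CharPCriteria.exists_mem_omegaCenter S.2 le_rfl
    (S.ne_bot_of_dvd_card h2) Subgroup.le_normalizer
  have hz1 : z ≠ 1 := fun h => by simp [h] at hzo
  have hz2 : z * z = 1 := by rw [← pow_two, ← hzo, pow_orderOf_eq_one]
  have hinv := conj_eq_inv O hz2 (hfix z hz1 hzS)
  obtain ⟨x0, hx0, hx01⟩ := (Subgroup.bot_or_exists_ne_one O).resolve_left hO
  have hC : Subgroup.centralizer (O : Set G) ≤ O := by
    refine CfsgLib.Involution.ZStar.le_oddCore inferInstance ?_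
    by_contra hev
    rw [Nat.not_odd_iff_even] at hev
    have hSC := CfsgLib.LocalEven.PReduced.IsSylowIn.inf_normal
      (CfsgLib.LocalEven.PReduced.isSylowIn_of_sylow S (L := ⊤) le_top) le_top
      (Subgroup.normalizer_eq_top (H := Subgroup.centralizer (O : Set G))).ge
    have hne : (S : Subgroup G) ⊓ Subgroup.centralizer (O : Set G) ≠ ⊥ := fun h => by
      refine hSC.toSylow.ne_bot_of_dvd_card (even_iff_two_dvd.1 hev) ?_
      rw [← Subgroup.map_eq_bot_iff_of_injective _ (Subgroup.centralizer (O : Set G)).subtype_injective,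
        CfsgLib.LocalEven.SylowIn.IsSylowIn.toSylow_map hSC, h]
    obtain ⟨w, ⟨⟨-, hwC⟩, hwS⟩, hwo⟩ := CfsgLib.LocalEven.CharPCriteria.exists_mem_omegaCenter S.2 inf_le_left
      hne (CfsgLib.LocalEven.PReduced.normalizer_inf Subgroup.le_normalizer
        ((Subgroup.normalizer_eq_top (H := Subgroup.centralizer (O : Set G))).symm ▸ le_top))
    exact hx01 (hfix w (fun h => by simp [h] at hwo) hwS x0 hx0 (Subgroup.mem_centralizer_iff.1 hwC x0 hx0).symm)
  have hzO : z ∈ O := by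
    have hzc : QuotientGroup.mk' O z ∈ Subgroup.center (G ⧸ O) := by
      refine Subgroup.mem_center_iff.2 fun q => ?_
      obtain ⟨g, rfl⟩ := QuotientGroup.mk'_surjective O q
      rw [← map_mul, ← map_mul]
      refine (QuotientGroup.eq).2 ?_
      have key : g * z * g⁻¹ * z ∈ O := hC (Subgroup.mem_centralizer_iff.2 fun x hx => by
        have hx' : g⁻¹ * x * g ∈ O := by simpa using hN.conj_mem x hx g⁻¹
        have h1 : g * z * g⁻¹ * x * (g * z * g⁻¹) = x⁻¹ := by
          calc g * z * g⁻¹ * x * (g * z * g⁻¹) = g * (z * (g⁻¹ * x * g) * z) * g⁻¹ := by group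
            _ = g * (g⁻¹ * x * g)⁻¹ * g⁻¹ := by rw [hinv _ hx']
            _ = x⁻¹ := by group
        have h2 := hinv x hx
        have hw2 : g * z * g⁻¹ * (g * z * g⁻¹) = 1 := by
          calc g * z * g⁻¹ * (g * z * g⁻¹) = g * (z * z) * g⁻¹ := by group
            _ = 1 := by rw [hz2]; group
        calc x * (g * z * g⁻¹ * z) = g * z * g⁻¹ * (g * z * g⁻¹) * x * (g * z * g⁻¹) * z := by rw [hw2]; group
          _ = g * z * g⁻¹ * (g * z * g⁻¹ * x * (g * z * g⁻¹)) * z := by group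
          _ = g * z * g⁻¹ * (z * x * z) * z := by rw [h1, h2]
          _ = g * z * g⁻¹ * z * x * (z * z) := by group
          _ = g * z * g⁻¹ * z * x := by rw [hz2, mul_one])
      have hzi : z⁻¹ = z := inv_eq_of_mul_eq_one_right hz2
      have h3 := hN.conj_mem _ key z
      rw [hzi] at h3
      have h4 : z * (g * z * g⁻¹ * z) * z = z * g * z * g⁻¹ * (z * z) := by group
      rw [h4, hz2, mul_one] at h3
      have h5 := inv_mem (hN.conj_mem _ h3 g⁻¹)
      convert h5 using 1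
      simp only [mul_inv_rev, inv_inv]
      rw [hzi]
      group
    rw [hZ, Subgroup.mem_bot] at hzc
    exact (QuotientGroup.eq_one_iff z).1 hzc
  exact (Nat.not_odd_iff_even.2 ⟨1, by rw [hzo]⟩)
    (Odd.of_dvd_nat CfsgLib.Involution.ZStar.odd_card_oddCore (O.orderOf_dvd_natCard hzO))

end Cfsg.Agent.S2898
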