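import Cfsg.Statements.S3802
-- import your own Cfsg.Agent.* helpers here

set_option autoImplicit false
open Cfsg

namespace Cfsg.Agent.S3802

/-- A minimal normal subgroup normalises every subnormal subgroup: it lies in the join of the
minimal normal subgroups of any normal subgroup containing it. -/
lemma le_normalizer_of_minimal {G : Type*} [Group G] [Finite G] {N : Subgroup G} (hN : N.IsSubnormal) :
    ∀ L : Subgroup G, L.Normal → (∀ L' : Subgroup G, L'.Normal → L' ≤ L → L' = ⊥ ∨ L' = L) →
      L ≤ Subgroup.normalizer (N : Set G) := by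
  induction hk : Nat.card G using Nat.strong_induction_on generalizing G with
  | _ k ih =>
    intro L hLn hLmin
    by_cases htop : N = ⊤
    · subst htop
      rw [Subgroup.normalizer_eq_top]; exact le_top
    obtain ⟨K, hKn, hNK, hKlt⟩ := hN.exists_normal_and_le_and_lt_top_of_ne htop
    have hK : K ≠ ⊤ := hKlt.ne
    rcases hLmin (L ⊓ K) inferInstance inf_le_left with h | h
    · refine le_trans ?_ (Subgroup.centralizer_le_normalizer _)
      refine le_trans ?_ (Subgroup.centralizer_le hNK)
      rw [← Subgroup.commutator_eq_bot_iff_le_centralizer]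
      exact le_bot_iff.1 ((Subgroup.commutator_le_inf L K).trans h.le)
    · have hLK : L ≤ K := h.symm.le.trans inf_le_right
      have hcard : Nat.card K < k := by
        rw [← hk]
        exact lt_of_le_of_ne (Subgroup.card_le_card_group K) fun e => hK (Subgroup.eq_top_of_card_eq K e)
      -- a minimal normal subgroup of `K` inside `L`
      by_cases hL : L = ⊥
      · rw [hL]; exact bot_le
      obtain ⟨M, hM, hMmin⟩ := Finite.exists_le_minimal
        (p := fun M : Subgroup K => M.Normal ∧ M ≠ ⊥ ∧ M ≤ L.subgroupOf K)
        (a := L.subgroupOf K) ⟨hLn.subgroupOf K, fun e => hL (by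
          rw [Subgroup.subgroupOf_eq_bot, disjoint_iff, inf_eq_left.2 hLK] at e; exact e), le_rfl⟩
      obtain ⟨hMn, hM0, hML⟩ := hMmin.prop
      -- all conjugates of `M` are minimal normal in `K`
      have hnorm : ∀ g : G, ∀ m ∈ M, g * (m : G) * g⁻¹ ∈ Subgroup.normalizer (N : Set G) := by
        intro g m hm
        let σ : K ≃* K := MulAut.conjNormal g
        have := ih _ hcard hN.subgroupOf rfl (M.map σ.toMonoidHom)
          (hMn.map _ σ.surjective) (fun M' hM' hle => by
            by_cases hb : M' = ⊥
            · exact .inl hb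
            right
            refine le_antisymm hle ?_
            rw [Subgroup.map_le_iff_le_comap]
            refine hMmin.le_of_le ⟨hM'.comap _, ?_, ?_⟩ ?_
            · intro e
              apply hb
              rw [← Subgroup.map_comap_eq_self_of_surjective σ.surjective M']
              show (M'.comap σ.toMonoidHom).map _ = ⊥
              rw [e, Subgroup.map_bot]
            · intro x hx
              obtain ⟨y, hy, e⟩ := hle hx
              rw [← σ.injective e]; exact hML hy
            · intro x hx
              obtain ⟨y, hy, e⟩ := hle hx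
              rw [← σ.injective e]; exact hy)
        have h2 := this (Subgroup.mem_map_of_mem σ.toMonoidHom hm)
        rw [← Subgroup.subgroupOf_normalizer_eq hNK, Subgroup.mem_subgroupOf] at h2
        simpa [σ] using h2
      obtain ⟨m, hm, hm1⟩ := M.bot_or_exists_ne_one.resolve_left hM0
      have hnc : Subgroup.normalClosure ({(m : G)} : Set G) = L := by
        refine (hLmin _ inferInstance (Subgroup.normalClosure_le_normal (Set.singleton_subset_iff.2 (hML hm)))).resolve_left fun e => hm1 ?_
        have h3 := Subgroup.subset_normalClosure (Set.mem_singleton (m : G))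
        erw [e] at h3
        exact Subtype.ext h3
      rw [← hnc]
      refine (Subgroup.closure_le _).2 fun x hx => ?_
      obtain ⟨a, ha, hax⟩ := Group.mem_conjugatesOfSet_iff.1 hx
      obtain ⟨c, rfl⟩ := isConj_iff.1 hax
      rw [Set.mem_singleton_iff.1 ha]
      exact hnorm c m hm

lemma le_normalCore_of_isSubnormal {G : Type*} [Group G] [Finite G] {M N : Subgroup G}
    (hM : IsCoatom M) (hN : N.IsSubnormal) (hNM : N ≤ M) : N ≤ M.normalCore := by
  induction hk : Nat.card G using Nat.strong_induction_on generalizing G with
  | _ k ih =>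
    by_cases hc : M.normalCore = ⊥
    · have : Nontrivial G := by
        refine (subsingleton_or_nontrivial G).resolve_left fun _ => hM.1 (Subsingleton.elim _ _)
      obtain ⟨L, -, hL⟩ := Finite.exists_le_minimal (p := fun L : Subgroup G => L.Normal ∧ L ≠ ⊥)
        (a := ⊤) ⟨inferInstance, top_ne_bot⟩
      obtain ⟨hLn, hL0⟩ := hL.prop
      have hLmin : ∀ L' : Subgroup G, L'.Normal → L' ≤ L → L' = ⊥ ∨ L' = L := fun L' h1 h2 =>
        or_iff_not_imp_left.2 fun h3 => le_antisymm h2 (hL.le_of_le ⟨h1, h3⟩ h2)
      have hLM : ¬ L ≤ M := fun h => hL0 (le_bot_iff.1 (hc ▸ Subgroup.normal_le_normalCore.2 h))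
      have htop : M ⊔ L = ⊤ := hM.2 _ (lt_of_le_of_ne le_sup_left fun e => hLM (e ▸ le_sup_right))
      refine fun x hx g => ?_
      obtain ⟨m, hm, l, hl, rfl⟩ : ∃ m ∈ M, ∃ l ∈ L, m * l = g := by
        have : g ∈ (↑(M ⊔ L) : Set G) := by rw [htop]; trivial
        rw [Subgroup.mul_normal] at this
        exact Set.mem_mul.1 this
      have h1 : l * x * l⁻¹ ∈ N := (le_normalizer_of_minimal hN L hLn hLmin hl x).1 hx
      have h2 := mul_mem (mul_mem hm (hNM h1)) (inv_mem hm)
      simpa [mul_assoc] using h2
    · set C := M.normalCore
      let π := QuotientGroup.mk' C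
      have hπ : Function.Surjective π := QuotientGroup.mk'_surjective C
      have hCM : C ≤ M := Subgroup.normalCore_le M
      have hcm : (M.map π).comap π = M := by
        rw [Subgroup.comap_map_eq, QuotientGroup.ker_mk', sup_eq_left.2 hCM]
      have hM' : IsCoatom (M.map π) := by
        refine ⟨fun e => hM.1 (by rw [← hcm, e, Subgroup.comap_top]), fun S hS => ?_⟩
        have := hM.2 (S.comap π) (hcm.symm.le.trans_lt ((Subgroup.comap_lt_comap_of_surjective hπ).2 hS))
        rw [← Subgroup.map_comap_eq_self_of_surjective hπ S, this, Subgroup.map_top_of_surjective _ hπ]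
      have hlt : Nat.card (G ⧸ C) < k := by
        rw [← hk, ← C.index_mul_card, ← Subgroup.index_eq_card]
        exact lt_mul_of_one_lt_right (Nat.pos_of_ne_zero Subgroup.index_ne_zero_of_finite)
          ((Subgroup.one_lt_card_iff_ne_bot C).2 hc)
      have h := ih _ hlt hM' (hN.map hπ) (Subgroup.map_mono hNM) rfl
      have hcore : ((M.map π).normalCore).comap π ≤ C := Subgroup.normal_le_normalCore.2
        ((Subgroup.comap_mono (Subgroup.normalCore_le _)).trans hcm.le)
      exact fun x hx => hcore (h ⟨x, hx, rfl⟩)

/-- Let G be a finite group, M a maximal subgroup of G and N a subnormal subgroup of G contained in M. Then N is contained in every conjugate of M, that is, N lies in the core of M in G. -/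
theorem result {G : Type*} [Group G] [Finite G] (M N : Subgroup G) (hM : IsCoatom M) (hN : N.IsSubnormal) (hNM : N ≤ M) :
    N ≤ Subgroup.normalCore M := by
  exact le_normalCore_of_isSubnormal hM hN hNM

end Cfsg.Agent.S3802
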