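import Cfsg.Statements.S2905
import Cfsg.Agent.Lib.LocalEven.PReduced
import Cfsg.Agent.Lib.Components.Signalizer.Basic
import Cfsg.Agent.S3802

set_option autoImplicit false
open Cfsg

namespace Cfsg.Agent.S2905

open CfsgLib.LocalEven.SylowIn CfsgLib.Fusion.Basic

theorem exists_invariant_sylow {P : Type*} [Group P] [Finite P] {p : ℕ} [Fact p.Prime] (S : Sylow p P)
    (T : Subgroup P) [T.Normal] (hT : IsPGroup p T) (hTR : T ≤ Cfsg.pResidual p P)
    (hST : ∀ x ∈ Cfsg.pResidual p P, x ∈ (S : Subgroup P) → x ∈ T) {q : ℕ} [Fact q.Prime] (hqp : q ≠ p) :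
    ∃ Q : Subgroup P, IsPGroup q Q ∧ q ^ (Nat.card P).factorization q ∣ Nat.card Q ∧
      (S : Subgroup P) ≤ Subgroup.normalizer ((Q ⊔ T : Subgroup P) : Set P) := by
  set R := Cfsg.pResidual p P
  obtain ⟨Q₀⟩ := (inferInstance : Nonempty (Sylow q R))
  set Q := (Q₀ : Subgroup R).map R.subtype
  set N := Subgroup.normalizer (Q : Set P)
  have hNR : N ⊔ R = ⊤ := Q₀.normalizer_sup_eq_top
  obtain ⟨S₁⟩ := (inferInstance : Nonempty (Sylow p N))
  set S₂ := (S₁ : Subgroup N).map N.subtype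
  have hN : N ≤ R ⊔ S₂ := by
    conv_lhs => rw [← Subgroup.range_subtype N, MonoidHom.range_eq_map, ← pResidual_sup_sylow S₁, Subgroup.map_sup]
    exact sup_le_sup_right (pResidual_map_subtype_le N) _
  have htop : R ⊔ S₂ = ⊤ := top_le_iff.1 (hNR.ge.trans (sup_le hN le_sup_left))
  obtain ⟨S₃, hS₃⟩ := ((S₁.2.map N.subtype).to_sup_of_normal_right hT).exists_le_sylow
  have hS₃R : ∀ x ∈ R, x ∈ (S₃ : Subgroup P) → x ∈ T := by
    intro x hx hxS
    obtain ⟨g, hg⟩ := MulAction.exists_smul_eq P S S₃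
    rw [← hg] at hxS
    obtain ⟨y, hy, rfl⟩ := hxS
    have hyR : y ∈ R := by
      have := (inferInstance : R.Normal).conj_mem _ hx g⁻¹
      simpa [mul_assoc] using this
    exact (inferInstance : T.Normal).conj_mem _ (hST y hyR hy) g
  have hS₃n : (S₃ : Subgroup P) ≤ Subgroup.normalizer ((Q ⊔ T : Subgroup P) : Set P) := by
    intro x hx
    have hx' : x ∈ ((R ⊔ S₂ : Subgroup P) : Set P) := by rw [htop]; trivial
    rw [Subgroup.normal_mul] at hx'
    obtain ⟨r, hr, s, hs, rfl⟩ := hx'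
    have hsS : s ∈ (S₃ : Subgroup P) := hS₃ (Subgroup.mem_sup_left hs)
    have hrT : r ∈ T := hS₃R r hr (by simpa using mul_mem hx (inv_mem hsS))
    refine mul_mem (Subgroup.le_normalizer (Subgroup.mem_sup_right hrT)) ?_
    exact CfsgLib.LocalEven.PReduced.normalizer_sup (Subgroup.map_subtype_le _)
      ((Subgroup.normalizer_eq_top (H := T)).symm ▸ le_top) hs
  obtain ⟨g, hg⟩ := MulAction.exists_smul_eq P S₃ S
  refine ⟨Q.map (MulAut.conj g).toMonoidHom, (Q₀.2.map R.subtype).map _, ?_, ?_⟩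
  · rw [← Nat.card_congr (Q.equivMapOfInjective _ (MulAut.conj g).injective).toEquiv,
      ← Nat.card_congr ((Q₀ : Subgroup R).equivMapOfInjective _ R.subtype_injective).toEquiv,
      Q₀.card_eq_multiplicity]
    obtain ⟨k, hk⟩ := exists_index_pResidual (p := p) (G := P)
    rw [← R.card_mul_index, hk, Nat.factorization_mul Nat.card_pos.ne' (pow_ne_zero _ (Fact.out : p.Prime).ne_zero),
      Finsupp.add_apply, Nat.Prime.factorization_pow Fact.out, Finsupp.single_eq_of_ne (Ne.symm hqp).symm, add_zero]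
  · have hT' : T.map (MulAut.conj g).toMonoidHom = T :=
      map_conj_eq_iff.2 ((Subgroup.normalizer_eq_top (H := T)).symm ▸ Subgroup.mem_top g)
    rw [← hg, ← hT', ← Subgroup.map_sup, normalizer_map_conj]
    exact Subgroup.map_mono hS₃n

theorem sup_eq_top_of_not_le {P : Type*} [Group P] [Finite P] {M S X : Subgroup P}
    (huniq : ∀ M', IsCoatom M' → S ≤ M' → M' = M) (hX : ¬ X ≤ M) : X ⊔ S = ⊤ := by
  by_contra h
  obtain ⟨M', hM', hle⟩ := (eq_top_or_exists_le_coatom (X ⊔ S)).resolve_left h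
  exact hX ((le_sup_left.trans hle).trans (huniq M' hM' (le_sup_right.trans hle)).le)

theorem primeFactors_le_two {P : Type*} [Group P] [Finite P] {p : ℕ} [Fact p.Prime] (S : Sylow p P)
    {M : Subgroup P} (hM : IsCoatom M) (hSM : (S : Subgroup P) ≤ M)
    (huniq : ∀ M', IsCoatom M' → (S : Subgroup P) ≤ M' → M' = M)
    (h : ∀ T : Sylow p ↥(Cfsg.pResidual p P), (T : Subgroup ↥(Cfsg.pResidual p P)).Normal) :
    (Nat.card P).primeFactors.card ≤ 2 := by
  set R := Cfsg.pResidual p P
  obtain ⟨T₀⟩ := (inferInstance : Nonempty (Sylow p R))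
  haveI := T₀.characteristic_of_normal (h T₀)
  set T := (T₀ : Subgroup R).map R.subtype
  haveI : T.Normal := inferInstance
  have hST : ∀ x ∈ R, x ∈ (S : Subgroup P) → x ∈ T := by
    intro x hx hxS
    obtain ⟨U, hU⟩ := (S.2.comap_of_injective R.subtype R.subtype_injective).exists_le_sylow
    have hU' : U = T₀ := by
      letI := Sylow.unique_of_normal T₀ (h T₀)
      exact Subsingleton.elim _ _
    exact ⟨⟨x, hx⟩, hU' ▸ hU (show (⟨x, hx⟩ : R) ∈ (S : Subgroup P).comap R.subtype from hxS), rfl⟩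
  by_contra hcard
  refine hM.1 (Subgroup.eq_top_of_card_eq M (Nat.dvd_antisymm (Subgroup.card_subgroup_dvd_card M) ?_))
  rw [← Nat.factorization_le_iff_dvd Nat.card_pos.ne' Nat.card_pos.ne']
  intro q
  by_cases hq : q.Prime
  swap
  · rw [Nat.factorization_eq_zero_of_not_prime _ hq]; exact Nat.zero_le _
  haveI := Fact.mk hq
  rw [← hq.pow_dvd_iff_le_factorization Nat.card_pos.ne']
  rcases eq_or_ne q p with rfl | hqp
  · rw [← S.card_eq_multiplicity]
    exact Subgroup.card_dvd_of_le hSM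
  obtain ⟨Q, hQ, hQc, hn⟩ := exists_invariant_sylow S T (T₀.2.map _) (Subgroup.map_subtype_le _) hST hqp
  refine hQc.trans (Subgroup.card_dvd_of_le ?_)
  by_contra hQM
  have htop := sup_eq_top_of_not_le huniq (fun hle => hQM ((le_sup_left : Q ≤ Q ⊔ T).trans hle))
  refine hcard (le_trans (Finset.card_le_card (t := {p, q}) fun r hr => ?_) Finset.card_le_two)
  obtain ⟨hr, hrd, -⟩ := Nat.mem_primeFactors.1 hr
  have hQT : Q ⊔ T ≤ Subgroup.normalizer ((Q ⊔ T : Subgroup P) : Set P) := Subgroup.le_normalizer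
  have hd : Nat.card P ∣ Nat.card Q * Nat.card T * Nat.card (S : Subgroup P) := by
    rw [← Subgroup.card_top (G := P), ← htop]
    refine (CfsgLib.Components.Signalizer.card_sup_dvd_mul hn).trans (Nat.mul_dvd_mul_right ?_ _)
    rw [sup_comm, mul_comm]
    exact CfsgLib.Components.Signalizer.card_sup_dvd_mul ((Subgroup.normalizer_eq_top (H := T)).symm ▸ le_top)
  obtain ⟨a, ha⟩ := IsPGroup.iff_card.1 hQ
  obtain ⟨b, hb⟩ := IsPGroup.iff_card.1 (T₀.2.map R.subtype)
  obtain ⟨c, hc⟩ := IsPGroup.iff_card.1 S.2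
  have := hrd.trans hd
  rw [ha, hb, hc] at this
  simp only [Finset.mem_insert, Finset.mem_singleton]
  rcases hr.dvd_mul.1 this with h1 | h1
  · rcases hr.dvd_mul.1 h1 with h2 | h2
    · exact Or.inr ((Nat.prime_dvd_prime_iff_eq hr hq).1 (hr.dvd_of_dvd_pow h2))
    · exact Or.inl ((Nat.prime_dvd_prime_iff_eq hr Fact.out).1 (hr.dvd_of_dvd_pow h2))
  · exact Or.inl ((Nat.prime_dvd_prime_iff_eq hr Fact.out).1 (hr.dvd_of_dvd_pow h1))

/-- Let P be a finite p-minimal group (a Sylow p-subgroup S is not normal and lies in a unique maximal subgroup M of P) and let F be the normal core of M. Then: every subnormal subgroup N of P contained in M satisfies N ∩ S ≤ O_p(P); if O^p(P) has a normal Sylow p-subgroup then the order of P has at most two prime divisors; every normal subgroup N of P either contains O^p(P) or is contained in F; and O^p(P)F ⧸ F is a minimal normal subgroup of P ⧸ F. -/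
theorem result {P : Type*} [Group P] [Finite P] {p : ℕ} [Fact p.Prime] (hP : Cfsg.IsPMinimal p P) (S : Sylow p P) (M : Subgroup P) (hM : IsCoatom M) (hSM : (S : Subgroup P) ≤ M) [hF : M.normalCore.Normal] : (∀ N : Subgroup P, N.IsSubnormal → N ≤ M → N ⊓ (S : Subgroup P) ≤ Cfsg.pCore p P) ∧ ((∀ T : Sylow p ↥(Cfsg.pResidual p P), (T : Subgroup ↥(Cfsg.pResidual p P)).Normal) → (Nat.card P).primeFactors.card ≤ 2) ∧ (∀ N : Subgroup P, N.Normal → Cfsg.pResidual p P ≤ N ∨ N ≤ M.normalCore) ∧ (∀ N : Subgroup P, N.Normal → M.normalCore ≤ N → N ≤ Cfsg.pResidual p P ⊔ M.normalCore → N = M.normalCore ∨ N = Cfsg.pResidual p P ⊔ M.normalCore) ∧ M.normalCore < Cfsg.pResidual p P ⊔ M.normalCore := by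
  obtain ⟨hSn, hex⟩ := hP S
  have huniq : ∀ M', IsCoatom M' → (S : Subgroup P) ≤ M' → M' = M := fun M' h1 h2 =>
    hex.unique ⟨h1, h2⟩ ⟨hM, hSM⟩
  have hF1 : M.normalCore ⊓ (S : Subgroup P) ≤ Cfsg.pCore p P := by
    have hS := CfsgLib.LocalEven.PReduced.IsSylowIn.inf_normal
      (CfsgLib.LocalEven.PReduced.isSylowIn_of_sylow S (L := ⊤) le_top) le_top
      ((Subgroup.normalizer_eq_top (H := M.normalCore)).ge)
    rw [inf_comm]
    set U := (S : Subgroup P) ⊓ M.normalCore
    have hSU : (S : Subgroup P) ≤ Subgroup.normalizer (U : Set P) :=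
      CfsgLib.LocalEven.PReduced.normalizer_inf Subgroup.le_normalizer
        ((Subgroup.normalizer_eq_top (H := M.normalCore)).symm ▸ le_top)
    haveI : U.Normal := by
      refine Subgroup.normalizer_eq_top_iff.1 (by_contra fun h => ?_)
      obtain ⟨M', hM', hle⟩ := (eq_top_or_exists_le_coatom _).resolve_left h
      have e := huniq M' hM' (hSU.trans hle)
      refine hM.1 (top_le_iff.1 fun x hx => ?_)
      obtain ⟨l, hl, n, hn, rfl⟩ := frattini_argument hS
        ((Subgroup.normalizer_eq_top (H := M.normalCore)).ge) le_top hx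
      exact mul_mem (M.normalCore_le hl) (e ▸ hle hn.2)
    exact le_pCore (S.2.to_le inf_le_left)
  have hR : ∀ N : Subgroup P, N.Normal → Cfsg.pResidual p P ≤ N ∨ N ≤ M.normalCore := by
    intro N hN
    haveI := hN
    by_cases h : N ≤ M
    · exact Or.inr (Subgroup.normal_le_normalCore.2 h)
    · left
      have htop := sup_eq_top_of_not_le huniq h
      obtain ⟨k, hk⟩ := IsPGroup.iff_card.1 S.2
      have hd : N.index ∣ p ^ k := by
        rw [← Subgroup.relIndex_top_right, ← htop, sup_comm, Subgroup.relIndex_sup_right, ← hk]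
        exact Subgroup.relIndex_dvd_card _ _
      obtain ⟨j, -, hj⟩ := (Nat.dvd_prime_pow (Fact.out : p.Prime)).1 hd
      exact pResidual_le_of_index_eq_pow hj
  refine ⟨fun N hN hNM => ?_, fun h => primeFactors_le_two S hM hSM huniq h, hR, fun N hN h1 h2 => ?_, ?_⟩
  · exact (inf_le_inf_right _ (Cfsg.Agent.S3802.le_normalCore_of_isSubnormal hM hN hNM)).trans hF1
  · exact (hR N hN).symm.imp (fun h => le_antisymm h h1) (fun h => le_antisymm h2 (sup_le h h1))
  · refine lt_of_le_of_ne le_sup_right fun h => hM.1 (top_le_iff.1 ?_)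
    rw [← pResidual_sup_sylow S]
    exact sup_le ((le_sup_left.trans h.ge).trans (Subgroup.normalCore_le M)) hSM

end Cfsg.Agent.S2905
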