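import Cfsg.Statements.S2906
import Cfsg.Agent.Lib.LocalEven.PReduced
import Cfsg.Agent.Lib.Components.GenFitting
import Cfsg.Agent.Lib.Components.Signalizer.Basic
import Cfsg.Agent.Lib.Coprime.Sylow
import Cfsg.Agent.S0542
import Cfsg.Agent.S2790
import Cfsg.Agent.S2905

set_option autoImplicit false
open Cfsg

namespace Cfsg.Agent.S2906

open CfsgLib.LocalEven CfsgLib.LocalEven.SylowIn CfsgLib.LocalEven.PReduced CfsgLib.Components CfsgLib.Fusion.Basic
open scoped commutatorElement

variable {P : Type*} [Group P] [Finite P] {p : ℕ} [Fact p.Prime]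

theorem coprime_card_of_inf_eq_bot (S : Sylow p P) (N : Subgroup P) [N.Normal]
    (h : N ⊓ (S : Subgroup P) = ⊥) : (Nat.card N).Coprime p := by
  refine ((Nat.Prime.coprime_iff_not_dvd Fact.out).2 fun hd => ?_).symm
  have hS := PReduced.IsSylowIn.inf_normal (isSylowIn_of_sylow S (L := ⊤) le_top) le_top
    (Subgroup.normalizer_eq_top (H := N)).ge
  refine hS.toSylow.ne_bot_of_dvd_card hd ?_
  rw [← Subgroup.map_eq_bot_iff_of_injective _ N.subtype_injective, SylowIn.IsSylowIn.toSylow_map hS, inf_comm, h]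

/-- A normal subgroup of order prime to `p` of a `p`-minimal group is nilpotent. -/
theorem isNilpotent_of_normal_coprime (S : Sylow p P) {M : Subgroup P} (hM : IsCoatom M)
    (huniq : ∀ M', IsCoatom M' → (S : Subgroup P) ≤ M' → M' = M) (N : Subgroup P) [N.Normal]
    (hc : (Nat.card N).Coprime p) : Group.IsNilpotent N := by
  obtain ⟨n, hn⟩ := IsPGroup.iff_card.1 S.2
  have hinv : ∀ q : ℕ, ∀ _ : Fact q.Prime, ∃ Q : Sylow q N,
      (S : Subgroup P) ≤ Subgroup.normalizer (((Q : Subgroup N).map N.subtype : Subgroup P) : Set P) := fun q hq =>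
    CfsgLib.Coprime.exists_invariant_sylow ((Subgroup.normalizer_eq_top (H := N)).symm ▸ le_top)
      (by rw [hn]; exact hc.symm.pow_left n) (Or.inl (by haveI := S.2.isNilpotent; infer_instance)) q
  by_cases hNM : N ≤ M
  · refine (Group.isNilpotent_of_finite_tfae.out 0 3).mpr fun q hq Q₁ => ?_
    obtain ⟨Q, hQ⟩ := hinv q hq
    haveI := hq
    have hQn : (Q : Subgroup N).Normal := by
      by_contra hne
      have h1 : Subgroup.normalizer (((Q : Subgroup N).map N.subtype : Subgroup P) : Set P) ≠ ⊤ := fun h => hne <| by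
        haveI := Subgroup.normalizer_eq_top_iff.1 h
        have := (inferInstance : ((Q : Subgroup N).map N.subtype).Normal).subgroupOf N
        rwa [subgroupOf_map_subtype_eq] at this
      obtain ⟨M', hM', hle⟩ := (eq_top_or_exists_le_coatom _).resolve_left h1
      have e := huniq M' hM' (hQ.trans hle)
      refine hM.1 (top_le_iff.1 ?_)
      rw [← Q.normalizer_sup_eq_top]
      exact sup_le (hle.trans e.le) hNM
    letI := Sylow.unique_of_normal Q hQn
    rw [Subsingleton.elim Q₁ Q]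
    exact hQn
  · obtain ⟨q, hq, Q, hQ, hQM⟩ : ∃ q : ℕ, ∃ _ : Fact q.Prime, ∃ Q : Sylow q N,
        (S : Subgroup P) ≤ Subgroup.normalizer (((Q : Subgroup N).map N.subtype : Subgroup P) : Set P) ∧
          ¬ (Q : Subgroup N).map N.subtype ≤ M := by
      by_contra hall
      push Not at hall
      refine hNM ?_
      have hcard : Nat.card N ∣ Nat.card ↥(M.subgroupOf N) := by
        rw [← Nat.factorization_le_iff_dvd Nat.card_pos.ne' Nat.card_pos.ne']
        intro q
        by_cases hq : q.Prime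
        swap
        · rw [Nat.factorization_eq_zero_of_not_prime _ hq]; exact Nat.zero_le _
        haveI := Fact.mk hq
        obtain ⟨Q, hQ⟩ := hinv q ‹_›
        rw [← hq.pow_dvd_iff_le_factorization Nat.card_pos.ne', ← Q.card_eq_multiplicity]
        exact Subgroup.card_dvd_of_le fun x hx => hall q ‹_› Q hQ ⟨x, hx, rfl⟩
      exact Subgroup.subgroupOf_eq_top.1 (Subgroup.eq_top_of_card_eq _
        (Nat.dvd_antisymm (Subgroup.card_subgroup_dvd_card _) hcard))
    haveI := hq
    have htop := Cfsg.Agent.S2905.sup_eq_top_of_not_le (S := (S : Subgroup P)) huniq hQM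
    have hd : Nat.card P ∣ Nat.card ↥((Q : Subgroup N).map N.subtype) * Nat.card (S : Subgroup P) := by
      rw [← Subgroup.card_top (G := P), ← htop]
      exact CfsgLib.Components.Signalizer.card_sup_dvd_mul hQ
    rw [hn, ← Nat.card_congr ((Q : Subgroup N).equivMapOfInjective _ N.subtype_injective).toEquiv] at hd
    have hd2 : Nat.card N ∣ Nat.card (Q : Subgroup N) :=
      (hc.pow_right n).dvd_of_dvd_mul_right ((Subgroup.card_subgroup_dvd_card N).trans hd)
    have hQtop : (Q : Subgroup N) = ⊤ :=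
      Subgroup.eq_top_of_card_eq _ (Nat.dvd_antisymm (Subgroup.card_subgroup_dvd_card _) hd2)
    have hQp : IsPGroup q N := fun x => by
      obtain ⟨k, hk⟩ := Q.2 ⟨x, hQtop ▸ Subgroup.mem_top x⟩
      exact ⟨k, congrArg Subtype.val hk⟩
    exact hQp.isNilpotent

theorem perfect_eq_pResidual (hO : Cfsg.pCore p P = ⊥) (S : Sylow p P) {M : Subgroup P} (hM : IsCoatom M)
    (huniq : ∀ M', IsCoatom M' → (S : Subgroup P) ≤ M' → M' = M)
    (hsub : ∀ N : Subgroup P, N.IsSubnormal → N ≤ M → N ⊓ (S : Subgroup P) ≤ Cfsg.pCore p P)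
    (hdich : ∀ N : Subgroup P, N.Normal → Cfsg.pResidual p P ≤ N ∨ N ≤ M.normalCore)
    (N : Subgroup P) [N.Normal] (hN : Group.IsPerfect N) (hN1 : N ≠ ⊥) :
    N = Cfsg.pResidual p P ∧ ¬ (Nat.card N).Coprime p ∧ ¬ N ≤ M := by
  haveI := hN
  haveI : Nontrivial N := (Subgroup.nontrivial_iff_ne_bot N).2 hN1
  have h1 : ¬ (Nat.card N).Coprime p := fun hc => by
    haveI := isNilpotent_of_normal_coprime S hM huniq N hc
    exact Group.IsPerfect.not_isSolvable N inferInstance
  have h2 : ¬ N ≤ M := fun h => h1 (coprime_card_of_inf_eq_bot S N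
    (le_bot_iff.1 ((hsub N (inferInstance : N.Normal).isSubnormal h).trans hO.le)))
  refine ⟨le_antisymm ?_ ((hdich N inferInstance).resolve_right fun h => h2 (h.trans M.normalCore_le)), h1, h2⟩
  have hn := (isPGroup_quotient_pResidual (p := p) (G := P)).isNilpotent
  have h3 : N.map (QuotientGroup.mk' (Cfsg.pResidual p P)) = ⊥ := by
    by_contra h0
    haveI : Nontrivial (N.map (QuotientGroup.mk' (Cfsg.pResidual p P))) := (Subgroup.nontrivial_iff_ne_bot _).2 h0
    haveI : Group.IsPerfect ↥(N.map (QuotientGroup.mk' (Cfsg.pResidual p P))) :=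
      Group.IsPerfect.ofSurjective ((QuotientGroup.mk' (Cfsg.pResidual p P)).subgroupMap_surjective N)
    exact Group.IsPerfect.not_isSolvable ↥(N.map (QuotientGroup.mk' (Cfsg.pResidual p P))) inferInstance
  rw [Subgroup.map_eq_bot_iff, QuotientGroup.ker_mk'] at h3
  exact h3

/-- Let P be a finite p-minimal group with O_p(P) = 1, S a Sylow p-subgroup of P and K a component of P. Then O^p(P) = F*(P) = E(P) is generated by the S-conjugates of K, and the subgroup K·N_S(K) is again p-minimal. -/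
theorem result {P : Type*} [Group P] [Finite P] {p : ℕ} [Fact p.Prime] (hP : Cfsg.IsPMinimal p P) (hOp : Cfsg.pCore p P = ⊥) (S : Sylow p P) (K : Subgroup P) (hK : Cfsg.IsComponent K) : Cfsg.pResidual p P = Cfsg.generalizedFittingSubgroup P ∧ Cfsg.generalizedFittingSubgroup P = Cfsg.layer P ∧ Cfsg.layer P = ⨆ s : ↥(S : Subgroup P), K.map (MulAut.conj (s : P)).toMonoidHom ∧ Cfsg.IsPMinimal p ↥(K ⊔ ((S : Subgroup P) ⊓ Subgroup.normalizer (K : Set P))) := by
  obtain ⟨hSn, M, ⟨hM, hSM⟩, hu⟩ := hP S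
  have huniq : ∀ M', IsCoatom M' → (S : Subgroup P) ≤ M' → M' = M := fun M' h1 h2 => hu M' ⟨h1, h2⟩
  obtain ⟨hsub, -, hdich, -, -⟩ := Cfsg.Agent.S2905.result hP S M hM hSM
  have hperf := perfect_eq_pResidual hOp S hM huniq hsub hdich
  set R := Cfsg.pResidual p P
  set E := Cfsg.layer P
  have hKE : K ≤ E := IsComponent.le_layer hK
  have hE1 : E ≠ ⊥ := fun h => IsComponent.ne_bot hK (le_bot_iff.1 (h ▸ hKE))
  obtain ⟨hER, -, -⟩ := hperf E layer_isPerfect hE1
  have hES : E ⊔ (S : Subgroup P) = ⊤ := by rw [hER]; exact pResidual_sup_sylow S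
  haveI hFn : Group.IsNilpotent (Cfsg.fittingSubgroup P) := CfsgLib.Solvable.Cores.fittingSubgroup_isNilpotent
  have hFc : (Nat.card (Cfsg.fittingSubgroup P)).Coprime p := by
    set F := Cfsg.fittingSubgroup P
    obtain ⟨Q⟩ := (inferInstance : Nonempty (Sylow p F))
    haveI := Q.characteristic_of_normal inferInstance
    have h := SylowIn.le_pCore (p := p) (N := (Q : Subgroup F).map F.subtype) (Q.2.map _)
    rw [hOp, le_bot_iff, Subgroup.map_eq_bot_iff_of_injective _ F.subtype_injective] at h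
    exact ((Nat.Prime.coprime_iff_not_dvd Fact.out).2 fun hd => Q.ne_bot_of_dvd_card hd h).symm
  have hFs : Cfsg.generalizedFittingSubgroup P = E :=
    le_antisymm (sup_le le_rfl (hER.symm ▸ fun x hx => mem_pResidual_of_coprime
      (hFc.coprime_dvd_left ((Cfsg.fittingSubgroup P).orderOf_dvd_natCard hx)))) le_sup_left
  set f : ↥(S : Subgroup P) → Subgroup P := fun s => K.map (MulAut.conj (s : P)).toMonoidHom
  have hfc : ∀ s, Cfsg.IsComponent (f s) := fun s => IsComponent.conj hK _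
  have hKN : K ≤ ⨆ s, f s :=
    le_trans (le_of_eq (map_conj_one K).symm) (le_iSup f (⟨1, one_mem _⟩ : ↥(S : Subgroup P)))
  haveI hNn : (⨆ s, f s).Normal := by
    refine Subgroup.normalizer_eq_top_iff.1 (top_le_iff.1 ?_)
    rw [← hES]
    refine sup_le (layer_le_iff.2 fun L hL => ?_) ?_
    · refine le_normalizer_of_map_conj fun l hl => ?_
      rw [Subgroup.map_iSup]
      exact iSup_congr fun s => map_conj_eq_iff.2 (IsComponent.le_normalizer hL (hfc s) hl)
    · refine le_normalizer_of_map_conj fun t ht => ?_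
      rw [Subgroup.map_iSup]
      refine (Equiv.iSup_congr (Equiv.mulLeft (⟨t, ht⟩ : ↥(S : Subgroup P))) fun s => ?_)
      show K.map (MulAut.conj (((⟨t, ht⟩ : ↥(S : Subgroup P)) * s : ↥(S : Subgroup P)) : P)).toMonoidHom = _
      exact (map_conj_conj K t s).symm
  obtain ⟨hNR, hNc, -⟩ := hperf (⨆ s, f s) (isPerfect_sSup (by rintro _ ⟨s, rfl⟩; exact (hfc s).2.1))
    (fun h => IsComponent.ne_bot hK (le_bot_iff.1 (h ▸ hKN)))
  refine ⟨by rw [hFs, hER], hFs, hER.trans hNR.symm, ?_⟩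
  -- `p` divides the order of `K`
  have hpK : p ∣ Nat.card K := by
    by_contra hd
    have hKc : (Nat.card K).Coprime p := ((Nat.Prime.coprime_iff_not_dvd Fact.out).2 hd).symm
    classical
    haveI : Fintype ↥(S : Subgroup P) := Fintype.ofFinite _
    have key : ∀ s : Finset ↥(S : Subgroup P), (Nat.card ↥(s.sup f)).Coprime p ∧
        ∀ L, Cfsg.IsComponent L → L ≤ Subgroup.normalizer ((s.sup f : Subgroup P) : Set P) := by
      intro s
      induction s using Finset.induction_on with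
      | empty =>
        refine ⟨by simp, fun L _ => ?_⟩
        rw [Finset.sup_empty, Subgroup.normalizer_eq_top]; exact le_top
      | insert a s ha ih =>
        rw [Finset.sup_insert, sup_comm]
        refine ⟨Nat.Coprime.coprime_dvd_left (CfsgLib.Components.Signalizer.card_sup_dvd_mul (ih.2 _ (hfc a)))
          (Nat.Coprime.mul_left ih.1 ?_), fun L hL => normalizer_sup (ih.2 L hL) (IsComponent.le_normalizer hL (hfc a))⟩
        exact (Nat.card_congr (K.equivMapOfInjective (MulAut.conj (a : P)).toMonoidHom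
          (MulAut.conj (a : P)).injective).toEquiv) ▸ hKc
    exact hNc ((key Finset.univ).1.coprime_dvd_left (Subgroup.card_dvd_of_le (Finset.sup_univ_eq_iSup f).ge))
  -- the subgroup `L`
  set SK := (S : Subgroup P) ⊓ Subgroup.normalizer (K : Set P)
  set L := K ⊔ SK
  have hSKK : SK ≤ Subgroup.normalizer (K : Set P) := inf_le_right
  have hSKL : SK ≤ L := le_sup_right
  have hKL : K ≤ L := le_sup_left
  have hSK : IsSylowIn p ((S : Subgroup P) ⊓ K) K := by
    obtain ⟨Q, hQ⟩ := Cfsg.Agent.S0542.result p K hK.1 S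
    have := SylowIn.IsSylowIn.of_map_subtype Q
    rwa [hQ, Subgroup.subgroupOf_map_subtype] at this
  have hdec : ∀ x ∈ L, ∃ k ∈ K, ∃ s ∈ SK, x = k * s := by
    intro x hx
    rw [← SetLike.mem_coe, Subgroup.coe_mul_of_right_le_normalizer_left _ _ hSKK, Set.mem_mul] at hx
    obtain ⟨k, hk, s, hs, rfl⟩ := hx
    exact ⟨k, hk, s, hs, rfl⟩
  have hT : IsSylowIn p SK L := by
    refine ⟨hSKL, S.2.to_le inf_le_left, fun U hU hUp hle => le_antisymm (fun u hu => ?_) hle⟩
    obtain ⟨k, hk, s, hs, rfl⟩ := hdec u (hU hu)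
    have hkU : k ∈ U := by simpa using mul_mem hu (inv_mem (hle hs))
    have hSU : (S : Subgroup P) ⊓ K ≤ U ⊓ K :=
      le_inf ((le_inf inf_le_left (inf_le_right.trans Subgroup.le_normalizer)).trans hle) inf_le_right
    have e := hSK.2.2 (U ⊓ K) inf_le_right (hUp.to_le inf_le_left) hSU
    have hkS : k ∈ (S : Subgroup P) ⊓ K := e ▸ (Subgroup.mem_inf.2 ⟨hkU, hk⟩)
    exact mul_mem (Subgroup.mem_inf.2 ⟨hkS.1, Subgroup.le_normalizer hk⟩) hs
  haveI hKperf : Group.IsPerfect K := hK.2.1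
  set Z := (Subgroup.center K).map K.subtype
  have hZF : Z ≤ Cfsg.fittingSubgroup P := by
    haveI := isNilpotent_of_isMulCommutative (Subgroup.center K)
    exact le_fittingSubgroup_of_subnormal (IsSubnormal.map_subtype_normal hK.1 inferInstance)
      (Group.nilpotent_of_surjective _ (MonoidHom.subgroupMap_surjective _ _))
  -- `S_K` is not normal in `L`
  have hnn : ¬ (hT.toSylow : Subgroup L).Normal := fun h => by
    have hn : L ≤ Subgroup.normalizer (SK : Set P) := (Subgroup.normal_subgroupOf_iff_le_normalizer hSKL).1 h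
    have hKn : K ≤ Subgroup.normalizer (((S : Subgroup P) ⊓ K : Subgroup P) : Set P) := by
      have e : (S : Subgroup P) ⊓ K = SK ⊓ K :=
        le_antisymm (le_inf (le_inf inf_le_left (inf_le_right.trans Subgroup.le_normalizer)) inf_le_right)
          (inf_le_inf_right _ inf_le_left)
      rw [e]
      exact normalizer_inf (hKL.trans hn) Subgroup.le_normalizer
    haveI := (Subgroup.normal_subgroupOf_iff_le_normalizer (inf_le_right : (S : Subgroup P) ⊓ K ≤ K)).2 hKn
    rcases IsQuasisimple.normal_le_center_or_top hK.2 (((S : Subgroup P) ⊓ K).subgroupOf K) with h1 | h1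
    · refine hSK.toSylow.ne_bot_of_dvd_card hpK ?_
      rw [← Subgroup.map_eq_bot_iff_of_injective _ K.subtype_injective, SylowIn.IsSylowIn.toSylow_map hSK]
      have h2 : (S : Subgroup P) ⊓ K ≤ Cfsg.fittingSubgroup P := fun x hx =>
        hZF ⟨⟨x, hx.2⟩, h1 (show (⟨x, hx.2⟩ : K) ∈ ((S : Subgroup P) ⊓ K).subgroupOf K from hx), rfl⟩
      exact eq_bot_iff.2 fun x hx => eq_one_of_coprime_of_isPGroup S.2 hx.1
        (hFc.coprime_dvd_left ((Cfsg.fittingSubgroup P).orderOf_dvd_natCard (h2 hx)))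
    · have hKS : K ≤ (S : Subgroup P) := (Subgroup.subgroupOf_eq_top.1 h1).trans inf_le_left
      haveI := (S.2.to_le hKS).isNilpotent
      exact IsQuasisimple.not_isSolvable hK.2 inferInstance
  -- the unique maximal subgroup
  have hKM : ¬ K ≤ M := fun h => by
    refine (hperf E layer_isPerfect hE1).2.2 ?_
    rw [hER, ← hNR]
    refine iSup_le fun s => ?_
    rintro _ ⟨k, hk, rfl⟩
    exact mul_mem (mul_mem (hSM s.2) (h hk)) (inv_mem (hSM s.2))
  set A := (M ⊓ K) ⊔ SK
  have hAL : A ≤ L := sup_le (inf_le_right.trans hKL) hSKL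
  have hAM : A ≤ M := sup_le inf_le_left (inf_le_left.trans hSM)
  have hmain : ∀ X : Subgroup L, IsCoatom X → (hT.toSylow : Subgroup L) ≤ X → X ≤ A.subgroupOf L := by
    intro X hX hTX
    set X₀ := X.map L.subtype
    have hX₀L : X₀ ≤ L := Subgroup.map_subtype_le X
    have hSX : SK ≤ X₀ := by rw [← SylowIn.IsSylowIn.toSylow_map hT]; exact Subgroup.map_mono hTX
    have hKX : ¬ K ≤ X₀ := fun h => hX.1 (top_le_iff.1 fun x _ => by
      obtain ⟨y, hy, he⟩ := (sup_le h hSX : L ≤ X₀) x.2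
      exact Subtype.ext he ▸ hy)
    have hZL : L ≤ Subgroup.normalizer (Z : Set P) := sup_le
      ((Subgroup.normal_subgroupOf_iff_le_normalizer (Subgroup.map_subtype_le _)).1
        (by rw [subgroupOf_map_subtype_eq]; infer_instance))
      (le_normalizer_of_map_conj fun s hs => by
        have key : ∀ g ∈ Subgroup.normalizer (K : Set P), Z.map (MulAut.conj g).toMonoidHom ≤ Z := by
          rintro g hg _ ⟨_, ⟨z, hz, rfl⟩, rfl⟩
          refine ⟨⟨g * z * g⁻¹, (Subgroup.mem_normalizer_iff.1 hg z).1 z.2⟩, Subgroup.mem_center_iff.2 fun k => ?_, rfl⟩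
          refine Subtype.ext ?_
          have hk' : g⁻¹ * k * g ∈ K := (Subgroup.mem_normalizer_iff''.1 hg k).1 k.2
          have e : g⁻¹ * k * g * z = z * (g⁻¹ * k * g) :=
            congrArg Subtype.val (Subgroup.mem_center_iff.1 hz ⟨_, hk'⟩)
          show (k : P) * (g * z * g⁻¹) = g * z * g⁻¹ * k
          calc (k : P) * (g * z * g⁻¹) = g * (g⁻¹ * k * g * z) * g⁻¹ := by group
            _ = g * (z * (g⁻¹ * k * g)) * g⁻¹ := by rw [e]
            _ = g * z * g⁻¹ * k := by group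
        refine le_antisymm (key s (hSKK hs)) ?_
        have := Subgroup.map_mono (f := (MulAut.conj s).toMonoidHom) (key s⁻¹ (inv_mem (hSKK hs)))
        rwa [map_conj_conj, mul_inv_cancel, map_conj_one] at this)
    have hZX : Z ≤ X₀ := by
      by_contra hZX
      have hlt : X < X ⊔ Z.subgroupOf L := left_lt_sup.2 fun h => hZX fun z hz =>
        ⟨⟨z, hKL (Subgroup.map_subtype_le _ hz)⟩,
          h (show (⟨z, hKL (Subgroup.map_subtype_le _ hz)⟩ : L) ∈ Z.subgroupOf L from hz), rfl⟩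
      have h1 : X₀ ⊔ Z = L := by
        have := congrArg (Subgroup.map L.subtype) (hX.2 _ hlt)
        rwa [Subgroup.map_sup, Subgroup.map_subgroupOf_eq_of_le ((Subgroup.map_subtype_le _).trans hKL),
          ← MonoidHom.range_eq_map, Subgroup.range_subtype] at this
      refine hKX ?_
      have hmem : ∀ k ∈ K, ∃ z ∈ Z, ∃ x ∈ X₀ ⊓ K, k = z * x := by
        intro k hk
        have hk' : k ∈ Z ⊔ X₀ := by rw [sup_comm, h1]; exact hKL hk
        rw [← SetLike.mem_coe, Subgroup.coe_mul_of_right_le_normalizer_left _ _ (hX₀L.trans hZL), Set.mem_mul] at hk'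
        obtain ⟨z, hz, x, hx, rfl⟩ := hk'
        exact ⟨z, hz, x, ⟨hx, by simpa using mul_mem (inv_mem (Subgroup.map_subtype_le _ hz)) hk⟩, rfl⟩
      rw [← IsComponent.commutator_self hK]
      refine Subgroup.commutator_le.2 fun a ha b hb => ?_
      obtain ⟨_, ⟨z₁, hz₁, rfl⟩, x₁, hx₁, rfl⟩ := hmem a ha
      obtain ⟨_, ⟨z₂, hz₂, rfl⟩, x₂, hx₂, rfl⟩ := hmem b hb
      have hc : ∀ z : K, z ∈ Subgroup.center K → ∀ k ∈ K, k * (z : P) = z * k := fun z hz k hk =>
        congrArg Subtype.val (Subgroup.mem_center_iff.1 hz ⟨k, hk⟩)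
      have h2 : ⁅(z₁ : P) * x₁, (z₂ : P) * x₂⁆ = ⁅x₁, x₂⁆ := by
        have c1 : Commute (z₁ : P) x₁ := (hc z₁ hz₁ _ hx₁.2).symm
        have c2 : Commute (z₁ : P) x₂ := (hc z₁ hz₁ _ hx₂.2).symm
        have c3 : Commute (z₂ : P) x₂ := (hc z₂ hz₂ _ hx₂.2).symm
        have c4 : Commute (z₂ : P) x₁ := (hc z₂ hz₂ _ hx₁.2).symm
        have c5 : Commute (z₁ : P) (z₂ : P) := (hc z₁ hz₁ _ z₂.2).symm
        simp only [commutatorElement_def, mul_inv_rev]
        calc (z₁ : P) * x₁ * ((z₂ : P) * x₂) * (x₁⁻¹ * (z₁ : P)⁻¹) * (x₂⁻¹ * (z₂ : P)⁻¹)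
            = (z₁ : P) * (x₁ * (z₂ : P)) * x₂ * x₁⁻¹ * ((z₁ : P)⁻¹ * x₂⁻¹) * (z₂ : P)⁻¹ := by group
          _ = (z₁ : P) * ((z₂ : P) * x₁) * x₂ * x₁⁻¹ * (x₂⁻¹ * (z₁ : P)⁻¹) * (z₂ : P)⁻¹ := by
            rw [c4.eq, (c2.inv_inv).eq]
          _ = ((z₁ : P) * z₂) * (x₁ * x₂ * x₁⁻¹ * x₂⁻¹) * ((z₂ : P) * z₁)⁻¹ := by group
          _ = _ := by
            have c6 : Commute ((z₁ : P) * z₂) (x₁ * x₂ * x₁⁻¹ * x₂⁻¹) :=
              (((c1.mul_left c4).mul_right (c2.mul_left c3)).mul_right (c1.mul_left c4).inv_right).mul_right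
                (c2.mul_left c3).inv_right
            rw [c6.eq, c5.eq]; group
      show ⁅(z₁ : P) * x₁, (z₂ : P) * x₂⁆ ∈ X₀
      rw [h2, commutatorElement_def]
      exact mul_mem (mul_mem (mul_mem hx₁.1 hx₂.1) (inv_mem hx₁.1)) (inv_mem hx₂.1)
    -- `C_L(K) ≤ X`
    set W := L ⊓ Subgroup.centralizer (K : Set P)
    have hLK : L ≤ Subgroup.normalizer (K : Set P) := sup_le Subgroup.le_normalizer hSKK
    have hW : W ≤ X₀ := by
      have hn : L ≤ Subgroup.normalizer (W : Set P) := normalizer_inf Subgroup.le_normalizer (normalizer_centralizer hLK)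
      have hS' := PReduced.IsSylowIn.inf_normal hT inf_le_left hn
      have h1 : (Cfsg.pResidual p W).map W.subtype ≤ Z := by
        rw [Subgroup.map_le_iff_le_comap, Cfsg.pResidual, Subgroup.closure_le]
        intro w hw
        have hwK : (w : P) ∈ K := by
          refine coprime_mem_sup (p := p) (N := SK) (C := K) hSKK (fun x hx hxc => ?_) ?_ (by rw [Subgroup.orderOf_coe]; exact hw)
          · rw [eq_one_of_coprime_of_isPGroup (S.2.to_le inf_le_left) hx hxc]; exact one_mem _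
          · rw [sup_comm]; exact w.2.1
        exact ⟨⟨w, hwK⟩, Subgroup.mem_center_iff.2 fun k => Subtype.ext
          (Subgroup.mem_centralizer_iff.1 w.2.2 k k.2), rfl⟩
      conv_lhs => rw [← Subgroup.range_subtype W, MonoidHom.range_eq_map, ← pResidual_sup_sylow hS'.toSylow,
        Subgroup.map_sup, SylowIn.IsSylowIn.toSylow_map hS']
      exact sup_le (h1.trans hZX) (inf_le_left.trans hSX)
    -- the `S`-invariant subgroup
    set Y := ⨆ s : ↥(S : Subgroup P), (X₀ ⊓ K).map (MulAut.conj (s : P)).toMonoidHom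
    have hYS : (S : Subgroup P) ≤ Subgroup.normalizer (Y : Set P) := le_normalizer_of_map_conj fun t ht => by
      rw [Subgroup.map_iSup]
      refine (Equiv.iSup_congr (Equiv.mulLeft (⟨t, ht⟩ : ↥(S : Subgroup P))) fun s => ?_)
      show (X₀ ⊓ K).map (MulAut.conj (((⟨t, ht⟩ : ↥(S : Subgroup P)) * s : ↥(S : Subgroup P)) : P)).toMonoidHom = _
      exact (map_conj_conj (X₀ ⊓ K) t s).symm
    have hYE : Y ≤ E := iSup_le fun s =>
      (Subgroup.map_mono inf_le_right).trans (IsComponent.le_layer (hfc s))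
    have hXKn : SK ≤ Subgroup.normalizer ((X₀ ⊓ K : Subgroup P) : Set P) :=
      normalizer_inf (hSX.trans Subgroup.le_normalizer) hSKK
    have hYC : Y ≤ (X₀ ⊓ K) ⊔ Subgroup.centralizer (K : Set P) := iSup_le fun s => by
      by_cases hs : (s : P) ∈ Subgroup.normalizer (K : Set P)
      · rw [map_conj_eq_iff.2 (hXKn ⟨s.2, hs⟩)]; exact le_sup_left
      · refine le_trans ((Subgroup.map_mono inf_le_right).trans ?_) le_sup_right
        exact IsComponent.le_centralizer_of_ne (hfc s) hK fun h => hs (map_conj_eq_iff.1 h)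
    have hYtop : Y ⊔ (S : Subgroup P) ≠ ⊤ := fun h => hKX fun k hk => by
      have hk' : k ∈ Y ⊔ (S : Subgroup P) := h ▸ Subgroup.mem_top k
      rw [← SetLike.mem_coe, Subgroup.coe_mul_of_right_le_normalizer_left _ _ hYS, Set.mem_mul] at hk'
      obtain ⟨y, hy, t, ht, rfl⟩ := hk'
      have htE : t ∈ E := by simpa using mul_mem (inv_mem (hYE hy)) (hKE hk)
      have htK : t ∈ SK := Subgroup.mem_inf.2 ⟨ht, layer_le_normalizer hK htE⟩
      have hy' := hYC hy
      rw [← SetLike.mem_coe, sup_comm, Subgroup.coe_mul_of_right_le_normalizer_left _ _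
        ((inf_le_right.trans Subgroup.le_normalizer).trans (normalizer_centralizer le_rfl)), Set.mem_mul] at hy'
      obtain ⟨c, hc, a, ha, rfl⟩ := hy'
      have hcL : c ∈ L := by
        have h2 : c * a * t * (a * t)⁻¹ ∈ L :=
          mul_mem (hKL hk) (inv_mem (mul_mem (hKL (Subgroup.mem_inf.1 ha).2) (hSKL htK)))
        simpa [mul_assoc] using h2
      exact mul_mem (mul_mem (hW ⟨hcL, hc⟩) (Subgroup.mem_inf.1 ha).1) (hSX htK)
    obtain ⟨M', hM', hle⟩ := (eq_top_or_exists_le_coatom _).resolve_left hYtop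
    have e := huniq M' hM' (le_sup_right.trans hle)
    intro x hx
    show (x : P) ∈ A
    have hx0 : (x : P) ∈ X₀ := ⟨x, hx, rfl⟩
    obtain ⟨k, hk, s, hs, hks⟩ := hdec x x.2
    rw [hks] at hx0 ⊢
    refine mul_mem (Subgroup.mem_sup_left (Subgroup.mem_inf.2 ⟨?_, hk⟩)) (Subgroup.mem_sup_right hs)
    have hkX : k ∈ X₀ ⊓ K := ⟨by simpa using mul_mem hx0 (inv_mem (hSX hs)), hk⟩
    refine e ▸ hle (Subgroup.mem_sup_left ?_)
    exact le_iSup (fun s : ↥(S : Subgroup P) => (X₀ ⊓ K).map (MulAut.conj (s : P)).toMonoidHom)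
      (⟨1, one_mem _⟩ : ↥(S : Subgroup P)) ⟨k, hkX, by simp⟩
  have hA1 : A.subgroupOf L ≠ ⊤ := fun h => hKM (hKL.trans ((Subgroup.subgroupOf_eq_top.1 h).trans hAM))
  have hTA : (hT.toSylow : Subgroup L) ≤ A.subgroupOf L := fun x hx => Subgroup.mem_sup_right hx
  obtain ⟨X, hX, hXle⟩ := (eq_top_or_exists_le_coatom (hT.toSylow : Subgroup L)).resolve_left
    (fun h => hnn (h ▸ inferInstance))
  have heq : ∀ X : Subgroup L, IsCoatom X → (hT.toSylow : Subgroup L) ≤ X → X = A.subgroupOf L := fun X h1 h2 =>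
    ((h1.le_iff.1 (hmain X h1 h2)).resolve_left hA1).symm
  exact Cfsg.Agent.S2790.isPMinimal_of hT.toSylow hnn
    ⟨X, ⟨hX, hXle⟩, fun X' h => (heq X' h.1 h.2).trans (heq X hX hXle).symm⟩

end Cfsg.Agent.S2906
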