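import Cfsg.Statements.S2907
import Cfsg.Agent.Lib.LocalEven.Residual

set_option autoImplicit false
open Cfsg CfsgLib.LocalEven.SylowIn CfsgLib.LocalEven.Residual
open scoped commutatorElement

namespace Cfsg.Agent.S2907


/-- Let X be a finite semi-extraspecial p-group and x an element of X outside the centre. Then the index of C_X(x) in X equals the order of Z(X), and the commutators [x, y], y ∈ X, form exactly the centre Z(X). -/
theorem result {X : Type*} [Group X] [Finite X] {p : ℕ} [Fact p.Prime] (hX : Cfsg.IsSemiExtraspecial p X) (x : X) (hx : x ∉ Subgroup.center X) : (Subgroup.centralizer ({x} : Set X)).index = Nat.card ↥(Subgroup.center X) ∧ {z : X | ∃ y : X, z = x * y * x⁻¹ * y⁻¹} = (Subgroup.center X : Set X) := by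
  obtain ⟨⟨hp, -, hcomm⟩, hext⟩ := hX
  have hmem : ∀ y : X, x * y * x⁻¹ * y⁻¹ ∈ Subgroup.center X := fun y => by
    rw [← hcomm, ← commutatorElement_def]
    exact Subgroup.commutator_mem_commutator (Subgroup.mem_top _) (Subgroup.mem_top _)
  let f : X →* Subgroup.center X :=
    { toFun := fun y => ⟨x * y * x⁻¹ * y⁻¹, hmem y⟩
      map_one' := Subtype.ext (by simp)
      map_mul' := fun a b => Subtype.ext (by
        have h := Subgroup.mem_center_iff.1 (hmem b) a⁻¹
        show x * (a * b) * x⁻¹ * (a * b)⁻¹ = x * a * x⁻¹ * a⁻¹ * (x * b * x⁻¹ * b⁻¹)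
        calc x * (a * b) * x⁻¹ * (a * b)⁻¹ = x * a * x⁻¹ * ((x * b * x⁻¹ * b⁻¹) * a⁻¹) := by group
          _ = x * a * x⁻¹ * (a⁻¹ * (x * b * x⁻¹ * b⁻¹)) := by rw [h]
          _ = _ := by group) }
  have hsurj : f.range = ⊤ := by
    by_contra hne
    obtain ⟨Y₀, hY₀, hle⟩ := (eq_top_or_exists_le_coatom f.range).resolve_left hne
    set Y := Y₀.map (Subgroup.center X).subtype
    have hYZ : Y ≤ Subgroup.center X := Subgroup.map_subtype_le _
    have hYY : Y.subgroupOf (Subgroup.center X) = Y₀ :=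
      Subgroup.comap_map_eq_self_of_injective (Subgroup.center X).subtype_injective _
    obtain ⟨hn, hYe⟩ := hext Y hYZ (hYY ▸ hY₀)
    let π := QuotientGroup.mk' Y
    have hxc : π x ∈ Subgroup.center (X ⧸ Y) := by
      rw [Subgroup.mem_center_iff]
      intro q
      obtain ⟨y, rfl⟩ := QuotientGroup.mk'_surjective Y q
      refine (commutatorElement_eq_one_iff_mul_comm.1 ?_).symm
      rw [← map_commutatorElement, QuotientGroup.mk'_apply, QuotientGroup.eq_one_iff, commutatorElement_def]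
      exact ⟨f y, hle ⟨y, rfl⟩, rfl⟩
    set Zb := (Subgroup.center X).map π
    have hZc : Zb ≤ Subgroup.center (X ⧸ Y) := by
      rintro _ ⟨z, hz, rfl⟩
      rw [Subgroup.mem_center_iff]
      intro q
      obtain ⟨y, rfl⟩ := QuotientGroup.mk'_surjective Y q
      rw [← map_mul, Subgroup.mem_center_iff.1 hz y, map_mul]
    have hZne : Zb ≠ ⊥ := by
      rw [Ne, Subgroup.map_eq_bot_iff, QuotientGroup.ker_mk']
      intro h
      exact hY₀.1 (hYY ▸ Subgroup.subgroupOf_eq_top.2 h)
    have hZeq : Zb = Subgroup.center (X ⧸ Y) := by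
      haveI : Fact (Nat.card (Subgroup.center (X ⧸ Y))).Prime := ⟨hYe.2.symm ▸ Fact.out⟩
      rcases Subgroup.eq_bot_or_eq_top_of_prime_card (Zb.subgroupOf (Subgroup.center (X ⧸ Y))) with h | h
      · exact absurd (by rw [← Subgroup.map_subgroupOf_eq_of_le hZc, h, Subgroup.map_bot]) hZne
      · exact le_antisymm hZc (Subgroup.subgroupOf_eq_top.1 h)
    rw [← hZeq] at hxc
    obtain ⟨z, hz, he⟩ := hxc
    have := QuotientGroup.eq.1 he
    exact hx (by simpa using mul_mem hz (hYZ this))
  have hker : f.ker = Subgroup.centralizer ({x} : Set X) := by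
    ext y
    rw [MonoidHom.mem_ker, Subgroup.mem_centralizer_singleton_iff]
    refine ⟨fun h => ?_, fun h => Subtype.ext ?_⟩
    · have h' : x * y * x⁻¹ * y⁻¹ = 1 := congrArg Subtype.val h
      calc y * x = x * y * x⁻¹ * y⁻¹ * (y * x) := by rw [h', one_mul]
        _ = x * y := by group
    · show x * y * x⁻¹ * y⁻¹ = 1
      rw [← h]; group
  refine ⟨?_, Set.ext fun z => ⟨fun ⟨y, hy⟩ => hy ▸ hmem y, fun hz => ?_⟩⟩
  · rw [← hker, Subgroup.index_ker, hsurj, Subgroup.card_top]
  · obtain ⟨y, hy⟩ := (hsurj.symm ▸ Subgroup.mem_top _ : (⟨z, hz⟩ : Subgroup.center X) ∈ f.range)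
    exact ⟨y, (congrArg Subtype.val hy).symm⟩

end Cfsg.Agent.S2907
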