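import Cfsg.Statements.S2908
import Cfsg.Agent.Lib.LocalEven.Commutators

set_option autoImplicit false
open Cfsg CfsgLib.LocalEven.SylowIn CfsgLib.LocalEven.Residual
open scoped commutatorElement

namespace Cfsg.Agent.S2908


/-- Let P be a p-subgroup of a finite group, normalized by a p-subgroup A and by a subgroup B of order prime to p that commutes elementwise with A. If [P, B] ≤ [P, A], then B centralizes P. -/
theorem result {G : Type*} [Group G] [Finite G] {p : ℕ} [Fact p.Prime] (P A B : Subgroup G) (hP : IsPGroup p ↥P) (hA : IsPGroup p ↥A) (hB : ¬ p ∣ Nat.card ↥B) (hnA : A ≤ Subgroup.normalizer (P : Set G)) (hnB : B ≤ Subgroup.normalizer (P : Set G)) (hAB : ⁅A, B⁆ = ⊥) (hcomm : ⁅P, B⁆ ≤ ⁅P, A⁆) : ⁅P, B⁆ = ⊥ := by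
  set W := ⁅P, B⁆
  have hBP : (Nat.card B).Coprime (Nat.card P) := by
    obtain ⟨n, hn⟩ := IsPGroup.iff_card.1 hP
    rw [hn]
    exact (((Fact.out : p.Prime).coprime_iff_not_dvd.2 hB).symm).pow_right n
  have hsolv : Group.IsSolvable B ∨ Group.IsSolvable P := by
    haveI := hP.isNilpotent
    exact Or.inr inferInstance
  have hWP : W ≤ P := Subgroup.le_normalizer_iff_commutator_le_left.1 hnB
  have hcent : A ≤ Subgroup.centralizer (B : Set G) := Subgroup.commutator_eq_bot_iff_le_centralizer.1 hAB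
  have hnW : ∀ g, g ∈ P ∨ g ∈ A ∨ g ∈ B → g ∈ Subgroup.normalizer (W : Set G) := by
    rintro g (hg | hg | hg)
    · exact CfsgLib.LocalEven.Commutators.normalizer_commutator_left P B hg
    · rw [← map_conj_eq_iff, Subgroup.map_commutator, map_conj_eq_iff.2 (hnA hg),
        map_conj_eq_iff.2 (Subgroup.centralizer_le_normalizer _ (hcent hg))]
    · rw [← map_conj_eq_iff, Subgroup.map_commutator, map_conj_eq_iff.2 (hnB hg),
        map_conj_eq_iff.2 (Subgroup.le_normalizer hg)]
  set PA := P ⊔ A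
  have hPA : IsPGroup p PA := hP.to_sup_of_normal_left' hA hnA
  by_contra hne
  have hWn : PA ≤ Subgroup.normalizer (W : Set G) :=
    sup_le (fun g hg => hnW g (Or.inl hg)) (fun g hg => hnW g (Or.inr (Or.inl hg)))
  have hlt := CfsgLib.Coprime.commutator_lt_of_isPGroup hPA (hP.to_le hWP) hWn hne
  set N := ⁅W, PA⁆
  have hnN : ∀ g, g ∈ P ∨ g ∈ A ∨ g ∈ B → g ∈ Subgroup.normalizer (N : Set G) := by
    intro g hg
    rw [← map_conj_eq_iff, Subgroup.map_commutator, map_conj_eq_iff.2 (hnW g hg)]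
    congr 1
    rw [map_conj_eq_iff]
    rcases hg with hg | hg | hg
    · exact Subgroup.le_normalizer (le_sup_left (b := A) hg)
    · exact Subgroup.le_normalizer (le_sup_right (a := P) hg)
    · rw [← map_conj_eq_iff, Subgroup.map_sup, map_conj_eq_iff.2 (hnB hg),
        map_conj_eq_iff.2 (Subgroup.centralizer_le_normalizer _ ((Subgroup.le_centralizer_iff.1 hcent) hg))]
  have h3 : ⁅⁅P, A⁆, B⁆ ≤ N := by
    refine CfsgLib.LocalEven.Commutators.three_subgroup_mod (fun g hg => hnN g (Or.inl hg))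
      (fun g hg => hnN g (Or.inr (Or.inl hg))) (fun g hg => hnN g (Or.inr (Or.inr hg))) ?_ ?_
    · rw [hAB, Subgroup.commutator_bot_left]
      exact bot_le
    · rw [Subgroup.commutator_comm B P]
      exact Subgroup.commutator_mono le_rfl le_sup_right
  have hWW : ⁅W, B⁆ = W := CfsgLib.Coprime.commutator_commutator_self hnB hBP hsolv
  exact hlt.not_ge (hWW ▸ (Subgroup.commutator_mono hcomm le_rfl).trans h3)

end Cfsg.Agent.S2908
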