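import Cfsg.Statements.S2909
import Cfsg.Agent.Lib.LocalEven.PReduced
import Cfsg.Agent.Lib.LocalEven.Commutators
import Cfsg.Agent.Lib.Coprime.Generation
import Cfsg.Agent.Lib.PGroup.Frattini

set_option autoImplicit false
open Cfsg CfsgLib.LocalEven.SylowIn CfsgLib.LocalEven.PReduced
open scoped commutatorElement

namespace Cfsg.Agent.S2909

/-- Let p be a prime, E a normal p-subgroup of the finite group G, and U a non-cyclic elementary abelian p-subgroup of G such that either C_E(U) = C_E(u) for every nontrivial u ∈ U, or [E, U] = [E, ⟨u⟩] for every nontrivial u ∈ U. If R is a subgroup of order prime to p normalized by U, then [R, U] centralizes E. -/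
theorem result {G : Type*} [Group G] [Finite G] {p : ℕ} [Fact p.Prime] (E : Subgroup G) [E.Normal] (hE : IsPGroup p ↥E) (U : Subgroup G) (hU : Cfsg.IsElementaryAbelian p U) (hnc : ¬ IsCyclic ↥U) (hcond : (∀ u ∈ U, u ≠ 1 → E ⊓ Subgroup.centralizer (U : Set G) = E ⊓ Subgroup.centralizer ({u} : Set G)) ∨ (∀ u ∈ U, u ≠ 1 → ⁅E, U⁆ = ⁅E, Subgroup.zpowers u⁆)) (R : Subgroup G) (hR : ¬ p ∣ Nat.card ↥R) (hRU : U ≤ Subgroup.normalizer (R : Set G)) : ⁅R, U⁆ ≤ Subgroup.centralizer (E : Set G) := by
  have hUc : U ≤ Subgroup.centralizer (U : Set G) := elab_le_centralizer hU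
  have hUp : IsPGroup p U := elab_isPGroup hU
  haveI := hU.1
  haveI hCn : (Subgroup.centralizer (E : Set G)).Normal :=
    Subgroup.normalizer_eq_top_iff.1 (top_le_iff.1 (normalizer_centralizer (Subgroup.normalizer_eq_top (H := E)).ge))
  have hRp : (Nat.card R).Coprime p := ((Nat.Prime.coprime_iff_not_dvd Fact.out).2 hR).symm
  have hnE : ∀ K : Subgroup G, K ≤ Subgroup.normalizer (E : Set G) := fun K =>
    (Subgroup.normalizer_eq_top (H := E)).symm ▸ le_top
  -- it suffices to treat the centralizers of the nontrivial elements of `U`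
  suffices h : ∀ u ∈ U, u ≠ 1 → ⁅R ⊓ Subgroup.centralizer ({u} : Set G), U⁆ ≤ Subgroup.centralizer (E : Set G) by
    have hle : R ≤ (Subgroup.centralizer ((U.map (QuotientGroup.mk' (Subgroup.centralizer (E : Set G)))) :
        Set (G ⧸ Subgroup.centralizer (E : Set G)))).comap (QuotientGroup.mk' _) := by
      rw [← CfsgLib.Coprime.iSup_centralizer_singleton (A := U) hnc hRU (by
        obtain ⟨n, hn⟩ := IsPGroup.iff_card.1 hUp
        rw [hn]; exact Nat.Coprime.pow_left n hRp.symm)]
      refine iSup₂_le fun u hu => ?_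
      rw [← Subgroup.map_le_iff_le_comap, ← Subgroup.commutator_eq_bot_iff_le_centralizer, ← Subgroup.map_commutator,
        Subgroup.map_eq_bot_iff, QuotientGroup.ker_mk']
      exact h u hu.1 hu.2
    rwa [← Subgroup.map_le_iff_le_comap, ← Subgroup.commutator_eq_bot_iff_le_centralizer, ← Subgroup.map_commutator,
        Subgroup.map_eq_bot_iff, QuotientGroup.ker_mk'] at hle
  intro u hu hu1
  set R₀ := R ⊓ Subgroup.centralizer ({u} : Set G)
  set D := ⁅R₀, U⁆
  have hUu : U ≤ Subgroup.centralizer ({u} : Set G) :=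
    hUc.trans (Subgroup.centralizer_le (Set.singleton_subset_iff.2 hu))
  have hDu : D ≤ Subgroup.centralizer ({u} : Set G) := Subgroup.commutator_le.2 fun r hr t ht => by
    rw [commutatorElement_def]
    have hr2 : r ∈ Subgroup.centralizer ({u} : Set G) := hr.2
    exact mul_mem (mul_mem (mul_mem hr2 (hUu ht)) (inv_mem hr2)) (inv_mem (hUu ht))
  have hzu : Subgroup.zpowers u ≤ Subgroup.centralizer (D : Set G) :=
    Subgroup.zpowers_le.2 (Subgroup.mem_centralizer_iff.2 fun d hd => (Subgroup.mem_centralizer_iff.1 (hDu hd) u rfl).symm)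
  have hDp : (Nat.card D).Coprime p := Nat.Coprime.coprime_dvd_left
    (Subgroup.card_dvd_of_le ((Subgroup.commutator_mono inf_le_left le_rfl).trans
      (Subgroup.le_normalizer_iff_commutator_le_left.1 hRU))) hRp
  rcases hcond with h1 | h2
  · refine CfsgLib.Coprime.le_centralizer_of_prod (p := p) (hUp.to_le (Subgroup.zpowers_le.2 hu)) hDp
      (Subgroup.commutator_eq_bot_iff_le_centralizer.2 hzu) hE (hnE _) (hnE _) ?_
    rw [Subgroup.zpowers_eq_closure, Subgroup.centralizer_closure, ← h1 u hu hu1]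
    intro v hv
    refine Subgroup.mem_centralizer_iff.2 fun d hd => ?_
    have hfix : ∀ r ∈ R₀, r * v * r⁻¹ ∈ E ⊓ Subgroup.centralizer (U : Set G) := fun r hr => by
      rw [h1 u hu hu1] at hv ⊢
      refine Subgroup.mem_inf.2 ⟨Subgroup.Normal.conj_mem inferInstance v hv.1 r, ?_⟩
      have hr2 : r ∈ Subgroup.centralizer ({u} : Set G) := hr.2
      have hv2 : v ∈ Subgroup.centralizer ({u} : Set G) := hv.2
      exact mul_mem (mul_mem hr2 hv2) (inv_mem hr2)
    have hd' : D ≤ Subgroup.centralizer ({v} : Set G) := Subgroup.commutator_le.2 fun r hr t ht => by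
      refine Subgroup.mem_centralizer_iff.2 fun w hw => ?_
      rw [Set.mem_singleton_iff.1 hw]
      have a1 : t⁻¹ * v = v * t⁻¹ := Subgroup.mem_centralizer_iff.1 hv.2 t⁻¹ (inv_mem ht)
      have a2 : t * (r⁻¹ * v * r⁻¹⁻¹) = (r⁻¹ * v * r⁻¹⁻¹) * t :=
        Subgroup.mem_centralizer_iff.1 (hfix _ (inv_mem hr)).2 t ht
      rw [inv_inv] at a2
      calc v * ⁅r, t⁆ = r * ((r⁻¹ * v * r) * t) * r⁻¹ * t⁻¹ := by simp only [commutatorElement_def]; group
        _ = r * (t * (r⁻¹ * v * r)) * r⁻¹ * t⁻¹ := by rw [a2]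
        _ = r * t * r⁻¹ * (v * t⁻¹) := by group
        _ = r * t * r⁻¹ * (t⁻¹ * v) := by rw [a1]
        _ = ⁅r, t⁆ * v := by simp only [commutatorElement_def]; group
    exact (Subgroup.mem_centralizer_iff.1 (hd' hd) v rfl).symm
  · set A := Subgroup.zpowers u
    set M := ⁅E, A⁆
    have hM : M = ⁅E, U⁆ := (h2 u hu hu1).symm
    have hEM : E ≤ Subgroup.normalizer (M : Set G) := CfsgLib.LocalEven.Commutators.normalizer_commutator_left E A
    have hUM : U ≤ Subgroup.normalizer (M : Set G) := hM ▸ CfsgLib.LocalEven.Commutators.normalizer_commutator_right E U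
    have hR₀A : R₀ ≤ Subgroup.normalizer (A : Set G) := by
      refine le_trans ?_ (Subgroup.centralizer_le_normalizer _)
      rw [show A = Subgroup.closure {u} from Subgroup.zpowers_eq_closure u, Subgroup.centralizer_closure]
      exact inf_le_right
    have hR₀M : R₀ ≤ Subgroup.normalizer (M : Set G) := normalizer_commutator (hnE _) hR₀A
    have hDM : D ≤ Subgroup.normalizer (M : Set G) := Subgroup.commutator_le.2 fun r hr t ht => by
      rw [commutatorElement_def]
      exact mul_mem (mul_mem (mul_mem (hR₀M hr) (hUM ht)) (inv_mem (hR₀M hr))) (inv_mem (hUM ht))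
    have htriv : ⁅⁅R₀, U⁆, E⁆ ≤ M := by
      refine CfsgLib.LocalEven.Commutators.three_subgroup_mod hR₀M hUM hEM ?_ ?_
      · rw [Subgroup.commutator_comm U E, ← hM, Subgroup.commutator_comm]
        exact Subgroup.le_normalizer_iff_commutator_le_right.1 hR₀M
      · rw [hM]
        exact Subgroup.commutator_mono (Subgroup.le_normalizer_iff_commutator_le_left.1 (hnE _)) le_rfl
    have hME : M ≤ E := Subgroup.le_normalizer_iff_commutator_le_left.1 (hnE _)
    haveI := (hE.to_le hME).isNilpotent
    have hsplit : E ≤ M ⊔ (E ⊓ Subgroup.centralizer (D : Set G)) :=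
      CfsgLib.Coprime.le_sup_centralizer hDM hME (by
        obtain ⟨n, hn⟩ := IsPGroup.iff_card.1 (hE.to_le hME)
        rw [hn]; exact Nat.Coprime.pow_right n hDp) (.inr inferInstance)
        fun a ha k hk => htriv (Subgroup.commutator_mem_commutator ha hk)
    set P := E ⊔ A
    have hP : IsPGroup p P := hE.to_sup_of_normal_left' (hUp.to_le (Subgroup.zpowers_le.2 hu)) (hnE _)
    set F := (P ⊓ Subgroup.centralizer (D : Set G)).subgroupOf P
    have hF : F = ⊤ := by
      refine frattini_nongenerating (top_le_iff.1 ?_)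
      have hMF : M.subgroupOf P ≤ frattini P := by
        have h0 : M ≤ (frattini P).map P.subtype := Subgroup.commutator_le.2 fun e he a ha =>
          ⟨_, CfsgLib.PGroup.Frattini.commutatorElement_mem_frattini hP (⟨e, Subgroup.mem_sup_left he⟩ : P)
            ⟨a, Subgroup.mem_sup_right ha⟩, rfl⟩
        intro y hy
        obtain ⟨z, hz, he⟩ := h0 hy
        exact Subtype.ext he ▸ hz
      intro y _
      refine (sup_le_sup_left hMF F) ?_
      rw [← Subgroup.subgroupOf_sup inf_le_left (hME.trans le_sup_left), Subgroup.mem_subgroupOf]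
      refine (sup_le (hsplit.trans (sup_le le_sup_right ?_)) ?_ : P ≤ (P ⊓ Subgroup.centralizer (D : Set G)) ⊔ M) y.2
      · exact (inf_le_inf_right _ le_sup_left).trans le_sup_left
      · exact (le_inf le_sup_right hzu).trans le_sup_left
    intro d hd
    refine Subgroup.mem_centralizer_iff.2 fun e he => ?_
    have : (⟨e, Subgroup.mem_sup_left he⟩ : P) ∈ F := hF ▸ Subgroup.mem_top _
    exact (Subgroup.mem_centralizer_iff.1 this.2 d hd).symm

end Cfsg.Agent.S2909
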