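import Cfsg.Statements.S2910
import Cfsg.Agent.Lib.LocalEven.OmegaLemma
import Cfsg.Agent.Lib.Fusion.Alperin

set_option autoImplicit false
open Cfsg CfsgLib.LocalEven.SylowIn CfsgLib.LocalEven.PReduced CfsgLib.LocalEven.OmegaLemma
open scoped commutatorElement

namespace Cfsg.Agent.S2910

/-- Let p be an odd prime dividing the order of the finite group G and P a Sylow p-subgroup of G. If Ω₁(P) (generated by the elements of order dividing p) is contained in the centre of G, then G has a normal p-complement. In particular, if G is quasisimple then Ω₁(P) is not central in G. -/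
theorem result {G : Type*} [Group G] [Finite G] {p : ℕ} [Fact p.Prime] (hp : p ≠ 2) (hdiv : p ∣ Nat.card G) (P : Sylow p G) (hZ : Cfsg.omegaOne p (P : Subgroup G) ≤ Subgroup.center G) : Cfsg.HasNormalPComplement p G ∧ ¬ Cfsg.IsQuasisimple G := by
  have hnpc : Cfsg.HasNormalPComplement p G := by
    refine CfsgLib.Fusion.Alperin.npc_of_frobenius P fun Q hQ g hg ho => ?_
    refine mem_centralizer_of_omega hp (P.2.to_le hQ) hg ho fun y hy hyp => ?_
    exact Subgroup.mem_center_iff.1 (hZ (Subgroup.subset_closure ⟨hQ hy, hyp⟩)) g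
  refine ⟨hnpc, fun hq => ?_⟩
  have hres := CfsgLib.Fusion.Basic.npc_iff_coprime.1 hnpc
  have hne : pResidual p G ≠ ⊤ := by
    intro he
    rw [he, Subgroup.card_top] at hres
    exact (Nat.Prime.coprime_iff_not_dvd Fact.out).1 hres.symm hdiv
  haveI hI := CfsgLib.Fusion.Basic.isPGroup_quotient_pResidual (p := p) (G := G)
  haveI := IsPGroup.isNilpotent hI
  haveI := hq.1
  haveI : Group.IsPerfect (G ⧸ pResidual p G) := by
    rw [Group.isPerfect_def, commutator_def,
      ← Subgroup.map_top_of_surjective _ (QuotientGroup.mk'_surjective (pResidual p G)),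
      ← Subgroup.map_commutator, ← commutator_def, Group.isPerfect_def.1 hq.1]
  refine hne (Subgroup.eq_top_iff' _ |>.2 fun x => (QuotientGroup.eq_one_iff x).1 ?_)
  have h1 : (⊤ : Subgroup (G ⧸ pResidual p G)) = ⊥ := by
    obtain ⟨n, hn⟩ := (isSolvable_def (G ⧸ pResidual p G)).1 inferInstance
    have h2 : ∀ n, derivedSeries (G ⧸ pResidual p G) n = ⊤ := by
      intro n
      induction n with
      | zero => rfl
      | succ n ih => rw [derivedSeries_succ, ih, ← commutator_def]; exact Group.isPerfect_def.1 inferInstance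
    rw [← h2 n, hn]
  exact Subgroup.mem_bot.1 (h1 ▸ Subgroup.mem_top _)

end Cfsg.Agent.S2910
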