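import Cfsg.Statements.S2911
import Cfsg.Agent.Lib.LocalEven.PReduced
import Cfsg.Agent.Lib.Fusion.ThompsonTransfer

set_option autoImplicit false
open Cfsg CfsgLib.LocalEven.SylowIn CfsgLib.LocalEven.PReduced
open scoped commutatorElement

namespace Cfsg.Agent.S2911

abbrev X := Multiplicative (ZMod 2) × DihedralGroup 4

/-- Membership in one of the two elementary abelian subgroups of order eight. -/
def eaPred (j : Bool) : DihedralGroup 4 → Bool
  | .r i => i == 0 || i == 2
  | .sr i => if j then i == 1 || i == 3 else i == 0 || i == 2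

theorem eaPred_mul : ∀ (j : Bool) (a b : DihedralGroup 4),
    eaPred j a = true → eaPred j b = true → eaPred j (a * b) = true := by decide

theorem eaPred_inv : ∀ (j : Bool) (a : DihedralGroup 4), eaPred j a = true → eaPred j a⁻¹ = true := by decide

/-- One of the two elementary abelian subgroups of order eight. -/
def ea (j : Bool) : Subgroup X where
  carrier := {x | eaPred j x.2 = true}
  one_mem' := by revert j; decide
  mul_mem' := fun {a b} => eaPred_mul j a.2 b.2
  inv_mem' := fun {a} => eaPred_inv j a.2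

instance (j : Bool) : DecidablePred (· ∈ ea j) := fun x => inferInstanceAs (Decidable (eaPred j x.2 = true))

/-- The characters trivial on the commutator subgroup and nontrivial on the direct factor. -/
def chiAux (α β : ZMod 2) : DihedralGroup 4 → ZMod 2
  | .r i => if i == 0 || i == 2 then 0 else α + β
  | .sr i => if i == 0 || i == 2 then α else β

theorem chiAux_mul : ∀ (α β : ZMod 2) (a b : DihedralGroup 4),
    chiAux α β (a * b) = chiAux α β a + chiAux α β b := by decide

def chi (α β : ZMod 2) : X →* Multiplicative (ZMod 2) :=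
  MonoidHom.mk' (fun x => x.1 * Multiplicative.ofAdd (chiAux α β x.2))
    fun a b => by
      show a.1 * b.1 * Multiplicative.ofAdd (chiAux α β (a.2 * b.2)) = _
      rw [chiAux_mul, ofAdd_add, mul_mul_mul_comm]

def zX : X := (Multiplicative.ofAdd 1, 1)
def cX : X := (1, .r 2)

theorem zX_central : ∀ x : X, x * zX = zX * x := by unfold X zX; decide
theorem cX_central : ∀ x : X, x * cX = cX * x := by unfold X cX; decide
theorem zX_sq : zX * zX = 1 ∧ zX ≠ 1 := by unfold zX; decide
theorem cX_sq : (((1, .r 1) : X)) * (1, .r 1) = cX ∧ ∀ x : X, x * x ≠ zX := by unfold X cX zX; decide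
theorem ea_abelian : ∀ j : Bool, ∀ x : X, x ∈ ea j → ∀ y : X, y ∈ ea j → x * y = y * x := by unfold X; decide
theorem ea_sq : ∀ j : Bool, ∀ x : X, x ∈ ea j → x * x = 1 := by unfold X; decide
theorem ea_cover : ∀ x : X, x * x = 1 → x ∈ ea false ∨ x ∈ ea true := by unfold X; decide
theorem ea_normal : ∀ j : Bool, ∀ x y : X, x ∈ ea j → y * x * y⁻¹ ∈ ea j := by unfold X; decide
theorem ea_card_ne : Nat.card (ea false) = Nat.card (ea true) ∧ ea false ≠ ea true := by
  rw [Nat.card_eq_fintype_card, Nat.card_eq_fintype_card]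
  refine ⟨by decide, fun h => ?_⟩
  have := (SetLike.ext_iff.1 h ((1, .sr 0) : X)).1 (show eaPred false (.sr 0) = true from rfl)
  exact Bool.noConfusion (this : eaPred true (.sr 0) = true)

/-- Shape of the elements of an elementary abelian subgroup. -/
theorem ea_shape : ∀ j : Bool, ∀ x : X, x ∈ ea j → x = 1 ∨ x = cX ∨ x = zX * cX ∨ x = zX ∨
    (x.1 = 1 ∧ x.2 ∈ (if j then [.sr 1, .sr 3] else [.sr 0, .sr 2] : List (DihedralGroup 4))) ∨
    (x.1 = zX.1 ∧ x.2 ∈ (if j then [.sr 1, .sr 3] else [.sr 0, .sr 2] : List (DihedralGroup 4))) := by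
  unfold X cX zX; decide

theorem sr_conj : ∀ (j : Bool) (u : Multiplicative (ZMod 2)) (d d' : DihedralGroup 4),
    d ∈ (if j then [.sr 1, .sr 3] else [.sr 0, .sr 2] : List (DihedralGroup 4)) →
    d' ∈ (if j then [.sr 1, .sr 3] else [.sr 0, .sr 2] : List (DihedralGroup 4)) →
    ((u, d) : X) ∈ ea j ∧ ∃ y : X, y * (u, d) * y⁻¹ = (u, d') := by
  unfold X; decide

theorem ker_cases : ∀ α β : ZMod 2, chi α β zX ≠ 1 ∧ ∀ x : X, chi α β x = 1 → x * x = 1 → x ≠ 1 →
    x = cX ∨
    (x.1 = Multiplicative.ofAdd α ∧ x.2 ∈ ([.sr 0, .sr 2] : List (DihedralGroup 4))) ∨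
    (x.1 = Multiplicative.ofAdd β ∧ x.2 ∈ ([.sr 1, .sr 3] : List (DihedralGroup 4))) := by
  intro α β
  show _ ∧ ∀ x : X, x.1 * Multiplicative.ofAdd (chiAux α β x.2) = 1 → _
  refine ⟨?_, ?_⟩
  · show zX.1 * Multiplicative.ofAdd (chiAux α β zX.2) ≠ 1
    revert α β; unfold zX; decide
  · revert α β; unfold X cX; decide

section

variable {G : Type*} [Group G]

theorem sq_iff {f : X →* G} (hf : Function.Injective f) (x : X) : f x * f x = 1 ↔ x * x = 1 := by
  rw [← map_mul, map_eq_one_iff f hf]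

variable [Finite G] (S : Sylow 2 G)

/-- Central elements of `S` conjugate in `G` are conjugate in `N(S)`. -/
theorem central_conj {v w g : G} (hw : ∀ s ∈ (S : Subgroup G), s * w = w * s)
    (hv : ∀ s ∈ (S : Subgroup G), s * v = v * s) (h : g * v * g⁻¹ = w) :
    ∃ k ∈ Subgroup.normalizer ((S : Subgroup G) : Set G), k * v * k⁻¹ = w := by
  have h1 : (S : Subgroup G) ≤ Subgroup.centralizer ({w} : Set G) := fun s hs =>
    Subgroup.mem_centralizer_iff.2 fun y hy => by rw [Set.mem_singleton_iff.1 hy, hw s hs]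
  have h2 : (S : Subgroup G).map (MulAut.conj g).toMonoidHom ≤ Subgroup.centralizer ({w} : Set G) := by
    rintro _ ⟨s, hs, rfl⟩
    refine Subgroup.mem_centralizer_iff.2 fun y hy => ?_
    rw [Set.mem_singleton_iff.1 hy, ← h]
    show g * v * g⁻¹ * (g * s * g⁻¹) = g * s * g⁻¹ * (g * v * g⁻¹)
    calc g * v * g⁻¹ * (g * s * g⁻¹) = g * (v * s) * g⁻¹ := by group
      _ = g * (s * v) * g⁻¹ := by rw [hv s hs]
      _ = _ := by group
  have hS1 := isSylowIn_of_sylow S h1
  have hS2 : IsSylowIn 2 ((S : Subgroup G).map (MulAut.conj g).toMonoidHom) (Subgroup.centralizer ({w} : Set G)) :=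
    IsSylowIn.mono ((isSylowIn_of_sylow S (L := ⊤) le_top).map_conj g) h2
      (fun x _ => ⟨g⁻¹ * x * g, Subgroup.mem_top _, by simp [mul_assoc]⟩)
  obtain ⟨c, hc, he⟩ := hS1.conjugate hS2
  refine ⟨c⁻¹ * g, ?_, ?_⟩
  · rw [← map_conj_eq_iff, ← map_conj_conj, he, map_conj_conj, inv_mul_cancel, map_conj_one]
  · have h3 : c⁻¹ * w = w * c⁻¹ := ((Subgroup.mem_centralizer_iff.1 (inv_mem hc)) w rfl).symm
    calc c⁻¹ * g * v * (c⁻¹ * g)⁻¹ = c⁻¹ * (g * v * g⁻¹) * c := by group
      _ = c⁻¹ * w * c := by rw [h]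
      _ = w := by rw [h3, inv_mul_cancel_right]

/-- An element of `N(S)` cannot act as a transposition on objects fixed by `S`. -/
theorem no_swap {α : Type*} (act : G → α → α) (hone : ∀ a, act 1 a = a)
    (hmul : ∀ g h a, act (g * h) a = act g (act h a)) {a b : α} (hab : a ≠ b)
    (hfix : ∀ s ∈ (S : Subgroup G), act s a = a) {k : G}
    (hk : k ∈ Subgroup.normalizer ((S : Subgroup G) : Set G)) (h1 : act k a = b) : act k b ≠ a := by
  intro h2
  obtain ⟨i, m, hm, hord⟩ := Nat.exists_eq_two_pow_mul_odd (orderOf_pos k).ne'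
  obtain ⟨j, rfl⟩ := hm
  have hkm : IsPGroup 2 (Subgroup.zpowers (k ^ (2 * j + 1))) := by
    refine IsPGroup.of_card (n := i) ?_
    rw [Nat.card_zpowers, orderOf_pow, hord, Nat.gcd_mul_left_left, Nat.mul_div_cancel _ (by omega)]
  have hle := S.3 (IsPGroup.to_sup_of_normal_right' hkm S.2 (Subgroup.zpowers_le.2 (pow_mem hk _)))
    le_sup_right
  have hmem : k ^ (2 * j + 1) ∈ (S : Subgroup G) := hle ▸ Subgroup.mem_sup_left (Subgroup.mem_zpowers _)
  have key : ∀ j : ℕ, act (k ^ (2 * j + 1)) a = b := by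
    intro j
    induction j with
    | zero => simpa using h1
    | succ j ih => rw [show k ^ (2 * (j + 1) + 1) = k * (k * k ^ (2 * j + 1)) by
        rw [← pow_succ', ← pow_succ']; rfl, hmul, hmul, ih, h2, h1]
  exact hab ((hfix _ hmem).symm.trans (key j))

theorem exists_index_two (e : ↥(S : Subgroup G) ≃* X) : ∃ H : Subgroup G, H.index = 2 := by
  classical
  let f : X →* G := (S : Subgroup G).subtype.comp e.symm.toMonoidHom
  have hf : Function.Injective f := (Subgroup.subtype_injective _).comp e.symm.injective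
  have hfS : ∀ x, f x ∈ (S : Subgroup G) := fun x => (e.symm x).2
  have hsurj : ∀ s ∈ (S : Subgroup G), ∃ x, f x = s := fun s hs => ⟨e ⟨s, hs⟩, by simp [f]⟩
  have cent : ∀ v : X, (∀ x, x * v = v * x) → ∀ s ∈ (S : Subgroup G), s * f v = f v * s := fun v hv s hs => by
    obtain ⟨x, rfl⟩ := hsurj s hs
    rw [← map_mul, ← map_mul, hv]
  set z := f zX
  set c := f cX
  have hz := cent _ zX_central
  have hc := cent _ cX_central
  have hzc' := cent (zX * cX) fun x => by
    rw [← mul_assoc, zX_central, mul_assoc, cX_central, mul_assoc]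
  -- `c` and `z c` are not conjugate to `z`
  have hA : ∀ g : G, g * z * g⁻¹ ≠ c := by
    intro g hg
    obtain ⟨k, hk, hkz⟩ := central_conj S hc hz hg
    obtain ⟨x, hx⟩ := hsurj _ ((Subgroup.mem_normalizer_iff''.1 hk (f (1, .r 1))).1 (hfS _))
    refine cX_sq.2 x (hf ?_)
    rw [map_mul, hx]
    calc k⁻¹ * f (1, .r 1) * k * (k⁻¹ * f (1, .r 1) * k) = k⁻¹ * (f (1, .r 1) * f (1, .r 1)) * k := by group
      _ = k⁻¹ * c * k := by rw [← map_mul, cX_sq.1]
      _ = z := by rw [show c = k * z * k⁻¹ from hkz.symm]; group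
  have hAzc : ∀ g : G, g * z * g⁻¹ ≠ f (zX * cX) := by
    intro g hg
    obtain ⟨k, hk, hkz⟩ := central_conj S hzc' hz hg
    have hkc : k * c * k⁻¹ = c := by
      have h1 : k * c * k⁻¹ ∈ (S : Subgroup G) := (Subgroup.mem_normalizer_iff.1 hk c).1 (hfS _)
      obtain ⟨w, hw⟩ := hsurj _ h1
      obtain ⟨r, hr⟩ := hsurj _ ((Subgroup.mem_normalizer_iff.1 hk (f (1, .r 1))).1 (hfS _))
      have hwr : w = r * r := hf (by
        rw [map_mul, hw, hr, show c = f (1, .r 1) * f (1, .r 1) by rw [← map_mul, cX_sq.1]]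
        group)
      have hsq : ∀ r : X, r * r = 1 ∨ r * r = cX := by unfold X cX; decide
      rcases hsq r with h | h
      · exfalso
        rw [← hwr] at h
        rw [h, map_one] at hw
        have hc1 : c = 1 := by
          have := congrArg (fun t => k⁻¹ * t * k) hw.symm
          simpa [mul_assoc] using this
        exact absurd (hf (hc1.trans (map_one f).symm)) (by unfold cX; decide)
      · rw [← hw, hwr, h]
    refine no_swap S (fun g v => g * v * g⁻¹) (by simp) (fun g h v => by group) (a := z) (b := f (zX * cX))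
      (fun h => absurd (hf h) (by unfold zX cX; decide)) (fun s hs => by rw [hz s hs, mul_inv_cancel_right]) hk hkz ?_
    rw [map_mul, ← conj_mul, hkz, hkc, ← map_mul]
    exact congrArg f (by unfold zX cX; decide)
  -- the two elementary abelian subgroups
  let E : Bool → Subgroup G := fun j => (ea j).map f
  have hcard : ∀ i j, Nat.card (E i) = Nat.card (E j) := by
    intro i j
    simp only [E, Subgroup.card_map_of_injective hf]
    cases i <;> cases j <;> first | rfl | exact ea_card_ne.1 | exact ea_card_ne.1.symm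
  have hEn : ∀ j, (S : Subgroup G) ≤ Subgroup.normalizer (E j : Set G) := by
    intro j
    refine le_normalizer_of_map_conj fun s hs => Subgroup.eq_of_le_of_card_ge ?_
      (Nat.card_congr ((E j).equivMapOfInjective _ (MulAut.conj s).injective).toEquiv).le
    obtain ⟨y, rfl⟩ := hsurj s hs
    rintro _ ⟨_, ⟨x, hx, rfl⟩, rfl⟩
    exact ⟨y * x * y⁻¹, ea_normal j x y hx, by simp⟩
  have hconj : ∀ (i : Bool) (x : X), x ∈ ea i → (∃ g, g * f x * g⁻¹ = z) →
      ∃ n ∈ Subgroup.normalizer (E i : Set G), n * f x * n⁻¹ = z := by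
    intro i x hx ⟨g, hg⟩
    set C := Subgroup.centralizer ({z} : Set G)
    have hE'C : (E i).map (MulAut.conj g).toMonoidHom ≤ C := by
      rintro _ ⟨_, ⟨y, hy, rfl⟩, rfl⟩
      refine Subgroup.mem_centralizer_iff.2 fun w hw => ?_
      rw [Set.mem_singleton_iff.1 hw, ← hg]
      show g * f x * g⁻¹ * (g * f y * g⁻¹) = g * f y * g⁻¹ * (g * f x * g⁻¹)
      rw [conj_mul, conj_mul, ← map_mul, ea_abelian i x hx y hy, map_mul]
    have hS1 : IsSylowIn 2 (S : Subgroup G) C := isSylowIn_of_sylow S fun s hs =>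
      Subgroup.mem_centralizer_iff.2 fun w hw => by rw [Set.mem_singleton_iff.1 hw, hz s hs]
    obtain ⟨T, hT, hE'T⟩ := exists_isSylowIn C hE'C ((S.2.to_le (by rintro _ ⟨y, _, rfl⟩; exact hfS y)).map _)
    obtain ⟨h, hh, rfl⟩ := hS1.conjugate hT
    set n := h⁻¹ * g
    have hnx : n * f x * n⁻¹ = z := by
      calc n * f x * n⁻¹ = h⁻¹ * (g * f x * g⁻¹) * h := by simp only [n]; group
        _ = h⁻¹ * (z * h) := by rw [hg, mul_assoc]
        _ = h⁻¹ * (h * z) := by rw [Subgroup.mem_centralizer_iff.1 hh z rfl]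
        _ = z := by group
    have hle : (E i).map (MulAut.conj n).toMonoidHom ≤ (S : Subgroup G) := by
      have := Subgroup.map_mono (f := (MulAut.conj h⁻¹).toMonoidHom) hE'T
      rwa [map_conj_conj, map_conj_conj, inv_mul_cancel, map_conj_one] at this
    have hcov : ∀ y ∈ (E i).map (MulAut.conj n).toMonoidHom, y ∈ E false ∨ y ∈ E true := by
      intro y hy
      obtain ⟨w, rfl⟩ := hsurj y (hle hy)
      obtain ⟨_, ⟨u, hu, rfl⟩, he⟩ := hy
      have hw : w * w = 1 := (sq_iff hf w).1 (by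
        rw [← he]
        show n * f u * n⁻¹ * (n * f u * n⁻¹) = 1
        rw [conj_mul, (sq_iff hf u).2 (ea_sq i u hu), mul_one, mul_inv_cancel])
      exact (ea_cover w hw).imp (fun h => ⟨w, h, rfl⟩) fun h => ⟨w, h, rfl⟩
    have hone : (E i).map (MulAut.conj n).toMonoidHom ≤ E false ∨ (E i).map (MulAut.conj n).toMonoidHom ≤ E true := by
      by_contra hno
      rw [not_or] at hno
      obtain ⟨⟨u, hu, hu'⟩, v, hv, hv'⟩ := And.intro (SetLike.not_le_iff_exists.1 hno.1) (SetLike.not_le_iff_exists.1 hno.2)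
      have hu1 := (hcov u hu).resolve_left hu'
      have hv1 := (hcov v hv).resolve_right hv'
      rcases hcov (u * v) (mul_mem hu hv) with h | h
      · exact hu' (by simpa using mul_mem h (inv_mem hv1))
      · exact hv' (by simpa using mul_mem (inv_mem hu1) h)
    have heq : ∃ j, (E i).map (MulAut.conj n).toMonoidHom = E j := by
      have hc' := fun j => ((hcard j i).trans
        (Nat.card_congr ((E i).equivMapOfInjective (MulAut.conj n).toMonoidHom (MulAut.conj n).injective).toEquiv)).le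
      rcases hone with h | h
      · exact ⟨false, Subgroup.eq_of_le_of_card_ge h (hc' false)⟩
      · exact ⟨true, Subgroup.eq_of_le_of_card_ge h (hc' true)⟩
    obtain ⟨j, hj⟩ := heq
    by_cases hij : j = i
    · exact ⟨n, map_conj_eq_iff.1 (hij ▸ hj), hnx⟩
    exfalso
    have hEne : E i ≠ E j := fun he => by
      have := Subgroup.map_injective hf he
      cases i <;> cases j <;> first | exact hij rfl | exact ea_card_ne.2 this | exact ea_card_ne.2 this.symm
    -- `n` can be replaced by an element of `N(S)`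
    have hN1 : IsSylowIn 2 (S : Subgroup G) (Subgroup.normalizer (E j : Set G)) := isSylowIn_of_sylow S (hEn j)
    have hN2 : IsSylowIn 2 ((S : Subgroup G).map (MulAut.conj n).toMonoidHom) (Subgroup.normalizer (E j : Set G)) :=
      IsSylowIn.mono ((isSylowIn_of_sylow S (L := ⊤) le_top).map_conj n)
        (by rw [← hj, normalizer_map_conj]; exact Subgroup.map_mono (hEn i))
        (fun y _ => ⟨n⁻¹ * y * n, Subgroup.mem_top _, by simp [mul_assoc]⟩)
    obtain ⟨m, hm, he⟩ := hN1.conjugate hN2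
    set k := m⁻¹ * n
    have hk : k ∈ Subgroup.normalizer ((S : Subgroup G) : Set G) := by
      rw [← map_conj_eq_iff, ← map_conj_conj, he, map_conj_conj, inv_mul_cancel, map_conj_one]
    have hk1 : (E i).map (MulAut.conj k).toMonoidHom = E j := by
      rw [← map_conj_conj, hj, map_conj_eq_iff.2 (inv_mem hm)]
    refine no_swap S (fun g (U : Subgroup G) => U.map (MulAut.conj g).toMonoidHom) map_conj_one
      (fun g h U => (map_conj_conj U g h).symm) hEne (fun s hs => map_conj_eq_iff.2 (hEn i hs)) hk hk1 ?_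
    -- `k` permutes the two subgroups
    have hle2 : (E j).map (MulAut.conj k).toMonoidHom ≤ (S : Subgroup G) :=
      (Subgroup.map_mono (show E j ≤ (S : Subgroup G) by rintro _ ⟨y, _, rfl⟩; exact hfS y)).trans
        (map_conj_eq_iff.2 hk).le
    have hcov2 : ∀ y ∈ (E j).map (MulAut.conj k).toMonoidHom, y ∈ E false ∨ y ∈ E true := by
      intro y hy
      obtain ⟨w, rfl⟩ := hsurj y (hle2 hy)
      obtain ⟨_, ⟨u, hu, rfl⟩, he⟩ := hy
      have hw : w * w = 1 := (sq_iff hf w).1 (by
        rw [← he]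
        show k * f u * k⁻¹ * (k * f u * k⁻¹) = 1
        rw [conj_mul, (sq_iff hf u).2 (ea_sq j u hu), mul_one, mul_inv_cancel])
      exact (ea_cover w hw).imp (fun h => ⟨w, h, rfl⟩) fun h => ⟨w, h, rfl⟩
    have hor : ∀ y ∈ (E j).map (MulAut.conj k).toMonoidHom, y ∈ E i ∨ y ∈ E j := by
      intro y hy
      have := hcov2 y hy
      cases i <;> cases j <;> first | exact absurd rfl hij | exact this | exact this.symm
    have hnotj : ¬ (E j).map (MulAut.conj k).toMonoidHom ≤ E j := fun h => hEne (by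
      have h' : (E j).map (MulAut.conj k).toMonoidHom = (E i).map (MulAut.conj k).toMonoidHom := by
        rw [hk1]; exact Subgroup.eq_of_le_of_card_ge h
          (Nat.card_congr ((E j).equivMapOfInjective _ (MulAut.conj k).injective).toEquiv).le
      exact (Subgroup.map_injective (MulAut.conj k).injective h').symm)
    obtain ⟨u, hu, hu'⟩ := SetLike.not_le_iff_exists.1 hnotj
    refine Subgroup.eq_of_le_of_card_ge (fun v hv => ?_) ((hcard i j).trans
      (Nat.card_congr ((E j).equivMapOfInjective _ (MulAut.conj k).injective).toEquiv)).le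
    rcases hor v hv with h | h
    · exact h
    · have hui := (hor u hu).resolve_right hu'
      rcases hor (u * v) (mul_mem hu hv) with h' | h'
      · simpa using mul_mem (inv_mem hui) h'
      · exact absurd (by simpa using mul_mem h' (inv_mem h)) hu'
  -- no class meets both cosets of reflections
  have hB : ∀ (i : Bool) (d d' : DihedralGroup 4),
      d ∈ (if i then [.sr 1, .sr 3] else [.sr 0, .sr 2] : List (DihedralGroup 4)) →
      d' ∈ (if i then [.sr 1, .sr 3] else [.sr 0, .sr 2] : List (DihedralGroup 4)) →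
      (∃ g, g * f (1, d) * g⁻¹ = z) → (∃ g, g * f (zX.1, d') * g⁻¹ = z) → False := by
    intro i d d' hd hd' hx hy
    have hxE := (sr_conj i 1 d d hd hd).1
    obtain ⟨n, hn, hnx⟩ := hconj i _ hxE hx
    -- the elements of `E i` not conjugate to `z` are among `1`, `c`, `z c`
    have hcls : ∀ w, w ∈ ea i → (∀ g, g * f w * g⁻¹ ≠ z) → w ≠ 1 → w = cX ∨ w = zX * cX := by
      intro w hw hnz hw1
      rcases ea_shape i w hw with h | h | h | h | ⟨h1, h2⟩ | ⟨h1, h2⟩
      · exact absurd h hw1
      · exact .inl h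
      · exact .inr h
      · exact absurd (by rw [h]; simp [z]) (hnz 1)
      · obtain ⟨g, hg⟩ := hx
        obtain ⟨y, hy'⟩ := (sr_conj i 1 w.2 d h2 hd).2
        refine absurd ?_ (hnz (g * f y))
        have hw' : w = (1, w.2) := Prod.ext h1 rfl
        rw [← hg, ← hy', map_mul, map_mul, map_inv, ← hw']
        group
      · obtain ⟨g, hg⟩ := hy
        obtain ⟨y, hy'⟩ := (sr_conj i zX.1 w.2 d' h2 hd').2
        refine absurd ?_ (hnz (g * f y))
        have hw' : w = (zX.1, w.2) := Prod.ext h1 rfl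
        rw [← hg, ← hy', map_mul, map_mul, map_inv, ← hw']
        group
    have hcz : ∀ w ∈ ({cX, zX * cX} : Set X), ∀ g, g * f w * g⁻¹ ≠ z := by
      rintro w (rfl | rfl) g hg
      · exact hA g⁻¹ (by rw [← hg]; simp [mul_assoc, c])
      · exact hAzc g⁻¹ (by rw [← hg]; simp [mul_assoc])
    have hmem : cX ∈ ea i ∧ zX * cX ∈ ea i ∧ cX ≠ 1 ∧ zX * cX ≠ 1 := by
      have : ∀ i : Bool, cX ∈ ea i ∧ zX * cX ∈ ea i ∧ cX ≠ 1 ∧ zX * cX ≠ 1 := by unfold X cX zX; decide
      exact this i
    have himg : ∀ w ∈ ({cX, zX * cX} : Set X), ∃ w' ∈ ({cX, zX * cX} : Set X), n * f w * n⁻¹ = f w' := by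
      intro w hw
      have hwE : w ∈ ea i ∧ w ≠ 1 := by
        rcases hw with rfl | rfl
        exacts [⟨hmem.1, hmem.2.2.1⟩, ⟨hmem.2.1, hmem.2.2.2⟩]
      obtain ⟨w', hw', he⟩ := (Subgroup.mem_normalizer_iff.1 hn (f w)).1 ⟨w, hwE.1, rfl⟩
      refine ⟨w', hcls w' hw' (fun g hg => hcz w hw (g * n) ?_) ?_, he.symm⟩
      · rw [← hg, he]; group
      · rintro rfl
        rw [map_one] at he
        refine hwE.2 (hf ?_)
        rw [map_one]
        have := congrArg (fun t => n⁻¹ * t * n) he
        simpa [mul_assoc] using this.symm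
    obtain ⟨w₁, hw₁, he₁⟩ := himg cX (Or.inl rfl)
    obtain ⟨w₂, hw₂, he₂⟩ := himg (zX * cX) (Or.inr rfl)
    have hne : w₁ ≠ w₂ := fun he => by
      rw [he, ← he₂] at he₁
      exact absurd (hf (mul_left_cancel (mul_right_cancel he₁))) (by unfold zX cX; decide)
    have hprod : n * z * n⁻¹ = z := by
      have : w₁ * w₂ = zX := by
        rcases hw₁ with rfl | rfl <;> rcases hw₂ with rfl | rfl <;>
          first | exact absurd rfl hne | (unfold zX cX; decide)
      calc n * z * n⁻¹ = n * f cX * n⁻¹ * (n * f (zX * cX) * n⁻¹) := by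
            rw [conj_mul, ← map_mul, show cX * (zX * cX) = zX by unfold zX cX; decide]
        _ = z := by rw [he₁, he₂, ← map_mul, this]
    have := hf (mul_left_cancel (mul_right_cancel (hnx.trans hprod.symm)))
    exact absurd (congrArg Prod.fst this) (by show (1 : Multiplicative (ZMod 2)) ≠ zX.1; unfold zX; decide)
  -- choose the character
  let P : Bool → Prop := fun i => ∃ d : DihedralGroup 4,
    d ∈ (if i then [.sr 1, .sr 3] else [.sr 0, .sr 2] : List (DihedralGroup 4)) ∧ ∃ g, g * f (1, d) * g⁻¹ = z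
  let a : Bool → ZMod 2 := fun i => if P i then 1 else 0
  have hgood : ∀ (i : Bool) (d : DihedralGroup 4),
      d ∈ (if i then [.sr 1, .sr 3] else [.sr 0, .sr 2] : List (DihedralGroup 4)) →
      ∀ g, g * f (Multiplicative.ofAdd (a i), d) * g⁻¹ ≠ z := by
    intro i d hd g hg
    by_cases hP : P i
    · obtain ⟨d₀, hd₀, hx⟩ := hP
      refine hB i d₀ d hd₀ hd hx ⟨g, ?_⟩
      simp only [a, if_pos (show P i from ⟨d₀, hd₀, hx⟩)] at hg
      exact hg
    · simp only [a, if_neg hP, ofAdd_zero] at hg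
      exact hP ⟨d, hd, g, hg⟩
  obtain ⟨hzQ, hker⟩ := ker_cases (a false) (a true)
  set Q := (chi (a false) (a true)).ker.map f
  have hQS : Q ≤ (S : Subgroup G) := by rintro _ ⟨y, _, rfl⟩; exact hfS y
  have hQi : Q.relIndex (S : Subgroup G) = 2 := by
    have hrange : (⊤ : Subgroup X).map f = (S : Subgroup G) := le_antisymm
      (by rintro _ ⟨y, _, rfl⟩; exact hfS y)
      (fun s hs => by obtain ⟨x, rfl⟩ := hsurj s hs; exact ⟨x, Subgroup.mem_top _, rfl⟩)
    have htop : (chi (a false) (a true)).range = ⊤ := (Subgroup.eq_top_iff' _).2 fun u => by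
      have h2 : ∀ u v : Multiplicative (ZMod 2), v ≠ 1 → u = 1 ∨ u = v := by decide
      rcases h2 u _ hzQ with rfl | rfl
      exacts [one_mem _, ⟨zX, rfl⟩]
    rw [← hrange, Subgroup.relIndex_map_map_of_injective _ _ hf, Subgroup.relIndex_top_right, Subgroup.index_ker,
      htop, Subgroup.card_top, Nat.card_eq_fintype_card]
    rfl
  rcases CfsgLib.Fusion.ThompsonTransfer.thompson_transfer S Q hQS hQi z
    (by rw [pow_two, ← map_mul, zX_sq.1, map_one]) (hfS _)
    (fun ⟨y, hy, he⟩ => hzQ (hf he ▸ hy)) with ⟨M, -, hM, -⟩ | ⟨g, y, hy, he⟩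
  · exact ⟨M, hM⟩
  exfalso
  have hy1 : y ≠ 1 := by
    rintro rfl
    rw [map_one] at he
    refine zX_sq.2 (hf ?_)
    rw [map_one]
    have := congrArg (fun t => g⁻¹ * t * g) he
    simpa [mul_assoc, z] using this.symm
  have hy2 : y * y = 1 := (sq_iff hf y).1 (by
    rw [he, conj_mul, ← map_mul, zX_sq.1, map_one, mul_one, mul_inv_cancel])
  have hyz : g⁻¹ * f y * g⁻¹⁻¹ = z := by rw [he]; group
  rcases hker y hy hy2 hy1 with rfl | ⟨h1, h2⟩ | ⟨h1, h2⟩
  · exact hA g (by rw [← he])
  · exact hgood false y.2 h2 g⁻¹ (by rwa [← h1])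
  · exact hgood true y.2 h2 g⁻¹ (by rwa [← h1])

end

/-- A finite group whose Sylow 2-subgroups are isomorphic to the direct product of a group of order 2 and a dihedral group of order 8 has a subgroup of index two. -/
theorem result {G : Type*} [Group G] [Finite G] (S : Sylow 2 G) (hS : Nonempty (↥(S : Subgroup G) ≃* Multiplicative (ZMod 2) × DihedralGroup 4)) : ∃ H : Subgroup G, H.index = 2 := by
  obtain ⟨e⟩ := hS
  exact exists_index_two S e

end Cfsg.Agent.S2911
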