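import Cfsg.Statements.S2912
import Cfsg.Agent.Lib.LocalEven.SymplecticBound
import Cfsg.Agent.Lib.LocalEven.SylowIn

set_option autoImplicit false
open Cfsg
open scoped commutatorElement IsMulCommutative

namespace Cfsg.Agent.S2912

open CfsgLib.LocalEven.SylowIn

variable {G : Type*} [Group G]

/-- The conjugation action on an abelian subgroup, as additive endomorphisms. -/
def rho {E : Subgroup G} (V : Subgroup G) [IsMulCommutative V]
    (h : ∀ e ∈ E, ∀ v ∈ V, e * v * e⁻¹ ∈ V) : E →* AddMonoid.End (Additive V) where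
  toFun e :=
    { toFun := fun v => Additive.ofMul ⟨(e : G) * (Additive.toMul v : V) * (e : G)⁻¹, h e e.2 _ (Additive.toMul v).2⟩
      map_zero' := Additive.toMul.injective (Subtype.ext (by simp))
      map_add' := fun a b => Additive.toMul.injective (Subtype.ext (by simp [mul_assoc])) }
  map_one' := AddMonoidHom.ext fun v => Additive.toMul.injective (Subtype.ext (by simp; rfl))
  map_mul' := fun a b => AddMonoidHom.ext fun v => Additive.toMul.injective (Subtype.ext (by
    show ((a * b : E) : G) * ((Additive.toMul v : V) : G) * ((a * b : E) : G)⁻¹ =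
      (a : G) * ((b : G) * ((Additive.toMul v : V) : G) * (b : G)⁻¹) * (a : G)⁻¹
    simp [mul_assoc]))

/-- Let p and r be distinct primes, let E be an extraspecial subgroup of order p^(2w+1) of a finite group, and let A be an elementary abelian r-subgroup normalized by E on which E acts faithfully (C_E(A) = 1). If n ≥ 1 is least with p dividing rⁿ − 1 (the smallest dimension of a faithful representation of a group of order p over the field with r elements), then the order of A is at least r^(n·p^w). -/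
theorem result {G : Type*} [Group G] [Finite G] {p r : ℕ} [Fact p.Prime] [hr : Fact r.Prime] (hpr : p ≠ r) (E A : Subgroup G) (w : ℕ) (hE : Cfsg.IsExtraspecial p ↥E) (hEcard : Nat.card ↥E = p ^ (2 * w + 1)) (hA : Cfsg.IsElementaryAbelian r A) (hnorm : E ≤ Subgroup.normalizer (A : Set G)) (hfaith : E ⊓ Subgroup.centralizer (A : Set G) = ⊥) (n : ℕ) (hn : 1 ≤ n) (hdiv : p ∣ r ^ n - 1) (hmin : ∀ k : ℕ, 1 ≤ k → p ∣ r ^ k - 1 → n ≤ k) : r ^ (n * p ^ w) ≤ Nat.card ↥A := by
  have hpp : p.Prime := Fact.out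
  have hrp : r.Prime := Fact.out
  obtain ⟨⟨hEp, -, hder⟩, hcen⟩ := hE
  haveI := hA.1
  obtain ⟨z, hz⟩ : ∃ z : Subgroup.center E, z ≠ 1 := by
    haveI : Nontrivial (Subgroup.center E) := Finite.one_lt_card_iff_nontrivial.1 (hcen ▸ hpp.one_lt)
    exact exists_ne 1
  have hgen : ∀ c : Subgroup.center E, c ≠ 1 → z ∈ Subgroup.zpowers c := fun c hc => mem_zpowers_of_prime_card hcen hc
  have hz1 : (z : E) ≠ 1 := fun h => hz (Subtype.ext h)
  set g : G := ((z : E) : G) with hgdef
  have hgA : ∀ a ∈ A, g * a * g⁻¹ ∈ A := fun a ha => (Subgroup.mem_normalizer_iff.1 (hnorm (z : E).2) a).1 ha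
  have hAc : ∀ a ∈ A, ∀ b ∈ A, a * b = b * a := fun a ha b hb => congrArg Subtype.val (mul_comm' (⟨a, ha⟩ : A) ⟨b, hb⟩)
  have hzc : ∀ e : E, (e : G) * g = g * e := fun e => congrArg Subtype.val (Subgroup.mem_center_iff.1 z.2 e)
  have hzp : (z : E) ^ p = 1 := by
    rw [← SubgroupClass.coe_pow, ← hcen, pow_card_eq_one', OneMemClass.coe_one]
  -- `B = [z, A]`
  let δ : A →* G :=
    { toFun := fun a => ⁅g, (a : G)⁆
      map_one' := by simp
      map_mul' := fun a b => by
        show ⁅g, (a : G) * b⁆ = ⁅g, (a : G)⁆ * ⁅g, (b : G)⁆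
        have hb : ⁅g, (b : G)⁆ ∈ A := by
          rw [commutatorElement_def]; exact mul_mem (hgA b b.2) (inv_mem b.2)
        rw [show ⁅g, (a : G) * b⁆ = ⁅g, (a : G)⁆ * ((a : G) * ⁅g, (b : G)⁆ * (a : G)⁻¹) by
          simp only [commutatorElement_def]; group, hAc a a.2 _ hb, mul_inv_cancel_right] }
  set B := δ.range
  have hBA : B ≤ A := by
    rintro _ ⟨a, rfl⟩
    show ⁅g, (a : G)⁆ ∈ A
    rw [commutatorElement_def]; exact mul_mem (hgA a a.2) (inv_mem a.2)
  have hBn : ∀ e ∈ E, ∀ v ∈ B, e * v * e⁻¹ ∈ B := by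
    rintro e he _ ⟨a, rfl⟩
    refine ⟨⟨e * a * e⁻¹, (Subgroup.mem_normalizer_iff.1 (hnorm he) a).1 a.2⟩, ?_⟩
    show ⁅g, e * (a : G) * e⁻¹⁆ = e * ⁅g, (a : G)⁆ * e⁻¹
    rw [conjugate_commutatorElement]
    rw [show e * g * e⁻¹ = g by rw [hzc ⟨e, he⟩, mul_inv_cancel_right]]
  have hB1 : B ≠ ⊥ := by
    intro hB
    have hc : g ∈ E ⊓ Subgroup.centralizer (A : Set G) :=
      ⟨(z : E).2, Subgroup.mem_centralizer_iff.2 fun a ha => by
        have h1 : δ ⟨a, ha⟩ ∈ B := ⟨_, rfl⟩
        rw [hB, Subgroup.mem_bot] at h1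
        exact (commutatorElement_eq_one_iff_mul_comm.1 h1).symm⟩
    rw [hfaith, Subgroup.mem_bot] at hc
    exact hz1 (Subtype.ext hc)
  obtain ⟨V, hVB, ⟨hV1, hVn, -⟩, hmin'⟩ := Finite.exists_le_minimal
    (p := fun V : Subgroup G => V ≠ ⊥ ∧ (∀ e ∈ E, ∀ v ∈ V, e * v * e⁻¹ ∈ V) ∧ V ≤ B) (a := B) ⟨hB1, hBn, le_rfl⟩
  haveI : IsMulCommutative V := ⟨⟨fun a b => Subtype.ext (hAc a (hBA (hVB a.2)) b (hBA (hVB b.2)))⟩⟩
  have hfpf : ∀ v ∈ V, g * v * g⁻¹ = v → v = 1 := by
    intro v hv hfix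
    obtain ⟨a, ha⟩ := hVB hv
    have h1 : ∀ i : ℕ, g ^ i * (a : G) * (g ^ i)⁻¹ = v ^ i * a := by
      intro i
      induction i with
      | zero => simp
      | succ i ih =>
        have hga : g * (a : G) * g⁻¹ = v * a := by
          rw [← ha]; show g * (a : G) * g⁻¹ = ⁅g, (a : G)⁆ * a
          rw [commutatorElement_def]; group
        calc g ^ (i + 1) * (a : G) * (g ^ (i + 1))⁻¹ = g * (g ^ i * (a : G) * (g ^ i)⁻¹) * g⁻¹ := by
              rw [pow_succ']; group
          _ = (g * v * g⁻¹) ^ i * (g * (a : G) * g⁻¹) := by rw [ih, conj_pow]; group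
          _ = v ^ (i + 1) * a := by rw [hfix, hga, pow_succ, mul_assoc]
    have h2 := h1 p
    rw [show g ^ p = 1 by rw [hgdef, ← SubgroupClass.coe_pow, hzp, OneMemClass.coe_one], one_mul, inv_one, mul_one] at h2
    have h3 : v ^ p = 1 := mul_eq_right.1 h2.symm
    have h4 : v ^ r = 1 := hA.2 v (hBA (hVB hv))
    have h5 := pow_gcd_eq_one.2 ⟨h3, h4⟩
    rwa [(Nat.coprime_primes hpp hrp).2 hpr, pow_one] at h5
  obtain ⟨v₀, hv₀, hv₀1⟩ := (Subgroup.bot_or_exists_ne_one V).resolve_left hV1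
  have hρz : rho V hVn (z : E) ≠ 1 := fun h => hv₀1 (hfpf v₀ hv₀
    (congrArg (fun x : Additive V => ((Additive.toMul x : V) : G))
      (DFunLike.congr_fun h (Additive.ofMul (⟨v₀, hv₀⟩ : V)))))
  have key := CfsgLib.LocalEven.SymplecticBound.bound (p := p) (r := r) (n := n) (m := p ^ w) (rho V hVn)
    ⟨Additive.ofMul ⟨v₀, hv₀⟩, fun h => hv₀1 (congrArg (fun x : Additive V => ((Additive.toMul x : V) : G)) h)⟩
    (fun x => Additive.toMul.injective (Subtype.ext (by
      show (((Additive.toMul (r • x)) : V) : G) = 1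
      rw [toMul_nsmul, SubgroupClass.coe_pow]
      exact hA.2 _ (hBA (hVB (Additive.toMul x).2)))))
    (fun N hN => ?_) z.2 hzp hρz
    (fun a b => hder.le (by rw [commutator_def]; exact Subgroup.commutator_mem_commutator (Subgroup.mem_top a) (Subgroup.mem_top b)))
    (fun c hc h => ?_) hmin ?_
  · refine key.trans (Nat.le_of_dvd Nat.card_pos ?_)
    rw [Nat.card_congr Additive.toMul]
    exact Subgroup.card_dvd_of_le (hVB.trans hBA)
  · set W : Subgroup G := (AddSubgroup.toSubgroup' N).map V.subtype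
    have hWV : W ≤ V := Subgroup.map_subtype_le _
    by_cases hW : W = ⊥
    · refine Or.inl ((AddSubgroup.eq_bot_iff_forall _).2 fun x hx => Additive.toMul.injective (Subtype.ext ?_))
      have : ((Additive.toMul x : V) : G) ∈ W := ⟨Additive.toMul x, hx, rfl⟩
      rw [hW, Subgroup.mem_bot] at this
      exact this
    · have hWn : ∀ e ∈ E, ∀ v ∈ W, e * v * e⁻¹ ∈ W := by
        rintro e he _ ⟨u, hu, rfl⟩
        exact ⟨Additive.toMul (rho V hVn ⟨e, he⟩ (Additive.ofMul u)), hN ⟨e, he⟩ _ hu, rfl⟩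
      refine Or.inr (eq_top_iff.2 fun x _ => ?_)
      obtain ⟨u, hu, he⟩ := hmin' ⟨hW, hWn, hWV.trans hVB⟩ hWV (Additive.toMul x).2
      have : u = Additive.toMul x := Subtype.ext he
      rw [this] at hu
      exact hu
  · by_contra hne
    obtain ⟨i, hi⟩ := Subgroup.mem_zpowers_iff.1 (hgen ⟨c, hc⟩ fun h' => hne (congrArg Subtype.val h'))
    refine hρz ?_
    rw [← show (c : E) ^ i = (z : E) from congrArg Subtype.val hi]
    exact zpow_mem (show c ∈ (rho V hVn).ker from h) i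
  · have hmul := (Subgroup.center E).card_mul_index
    rw [hcen, hEcard] at hmul
    refine Nat.eq_of_mul_eq_mul_left hpp.pos ?_
    rw [hmul, two_mul, pow_succ, pow_add, mul_comm]

end Cfsg.Agent.S2912
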