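import Cfsg.Statements.S3592
import Cfsg.Agent.Lib.KGroups.M11Census
import Cfsg.Agent.Lib.SmallGroups.MathieuSimple
-- import your own Cfsg.Agent.* helpers here

set_option autoImplicit false
open Cfsg

namespace Cfsg.Agent.S3592

open CfsgLib.SmallGroups.Golay CfsgLib.SmallGroups.GolayOctads CfsgLib.SmallGroups.M24Group

theorem square_mem : Cfsg.Spor.squareDodecad ∈ dodecads :=
  ⟨⟨qrWord 0, Submodule.subset_span (Or.inl ⟨0, rfl⟩), rfl⟩, by decide +kernel⟩

theorem zero_mem_square : (some 0 : GolayPt) ∈ Cfsg.Spor.squareDodecad := by decide +kernel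

open scoped Pointwise in
/-- The two descriptions of the group. -/
def equivStab : ↥(MulAction.stabilizer M24 Cfsg.Spor.squareDodecad ⊓
    MulAction.stabilizer M24 (some 0 : GolayPt)) ≃* Cfsg.Spor.M11 where
  toFun g := ⟨g.1.1, ⟨g.1.2, g.2.1⟩, g.2.2⟩
  invFun g := ⟨⟨g.1, g.2.1.1⟩, g.2.1.2, g.2.2⟩
  left_inv _ := rfl
  right_inv _ := rfl
  map_mul' _ _ := rfl

open scoped Pointwise in
theorem simple_card : IsSimpleGroup Cfsg.Spor.M11 ∧ Nat.card Cfsg.Spor.M11 = 7920 := by
  have : IsSimpleGroup ↥(MulAction.stabilizer M24 Cfsg.Spor.squareDodecad ⊓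
      MulAction.stabilizer M24 (some 0 : GolayPt)) :=
    CfsgLib.SmallGroups.MathieuSimple.isSimple_M11 square_mem zero_mem_square
  refine ⟨CfsgLib.SmallGroups.MathieuSimple.isSimpleGroup_congr' equivStab, ?_⟩
  rw [← Nat.card_congr equivStab.toEquiv]
  exact CfsgLib.SmallGroups.MathieuSimple.card_stab_dodecad_point square_mem zero_mem_square

/-- Let M be the Mathieu group M₁₁ (order 7920). If a finite group G has the same order as M and the same set of values of the function 'number of elements of order n' (taken over the element orders n that occur), then G is isomorphic to M. -/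
theorem result {G : Type*} [Group G] [Finite G]
    (hcard : Nat.card G = Nat.card ↥Cfsg.Spor.M11)
    (hnse : {c : ℕ | 0 < c ∧ ∃ n : ℕ, c = Nat.card {g : G // orderOf g = n}} =
      {c : ℕ | 0 < c ∧ ∃ n : ℕ, c = Nat.card {g : ↥Cfsg.Spor.M11 // orderOf g = n}}) :
    Nonempty (G ≃* ↥Cfsg.Spor.M11) := by
  have := simple_card.1
  exact CfsgLib.KGroups.M11Census.nonempty_mulEquiv_of_counts simple_card.2 (hcard.trans simple_card.2) hnse

end Cfsg.Agent.S3592
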