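import Cfsg.Statements.S2916
import Cfsg.Agent.Lib.Recognition.GLTwoThree.Iso
import Cfsg.Agent.Lib.Classical.SLOrders
import Cfsg.Agent.S3592
import Cfsg.Agent.Lib.KGroups.M11Unique

set_option autoImplicit false
open Cfsg

namespace Cfsg.Agent.S2916

/-- Let G be a finite group with O²(G) = G (no proper normal subgroup of 2-power index), and let t be an involution of G whose centralizer C_G(t) is isomorphic to GL₂(3). Then G is isomorphic to PSL₃(3) or to the Mathieu group M₁₁. -/
theorem result {G : Type*} [Group G] [Finite G] (hO : Cfsg.pResidual 2 G = ⊤) (t : G) (ht : orderOf t = 2) (hC : Nonempty (↥(Subgroup.centralizer ({t} : Set G)) ≃* GL (Fin 2) (ZMod 3))) : (∃ (F : Type) (_ : Field F) (_ : Fintype F), Fintype.card F = 3 ∧ Nonempty (G ≃* Matrix.ProjectiveSpecialLinearGroup (Fin 3) F)) ∨ Cfsg.Spor.IsoM11 G := by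
  obtain ⟨e⟩ := hC
  obtain ⟨hs, hcard, ⟨D⟩⟩ := CfsgLib.Recognition.GLTwoThree.main hO t ht e
  haveI := hs
  rcases hcard with h | h
  · left
    haveI : Fact (Nat.Prime 3) := ⟨Nat.prime_three⟩
    refine ⟨ZMod 3, inferInstance, inferInstance, ZMod.card 3, ?_⟩
    obtain ⟨a⟩ := CfsgLib.Recognition.GLTwoThree.nonempty_mulEquiv_SG_of_data h D
    have hZ : Subgroup.center (Matrix.SpecialLinearGroup (Fin 3) (ZMod 3)) = ⊥ := by
      rw [← Subgroup.card_eq_one, CfsgLib.Classical.card_center_sl 3 (by norm_num), ZMod.card]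
      rfl
    let m := QuotientGroup.mk' (Subgroup.center (Matrix.SpecialLinearGroup (Fin 3) (ZMod 3)))
    have hm : Function.Bijective m :=
      ⟨by rw [← MonoidHom.ker_eq_bot_iff, QuotientGroup.ker_mk', hZ], QuotientGroup.mk'_surjective _⟩
    exact ⟨a.trans (MulEquiv.ofBijective m hm)⟩
  · right
    haveI := Cfsg.Agent.S3592.simple_card.1
    have hM := Cfsg.Agent.S3592.simple_card.2
    haveI : Finite Cfsg.Spor.M11 := Nat.finite_of_card_ne_zero (by rw [hM]; norm_num)
    exact CfsgLib.KGroups.M11Unique.nonempty_mulEquiv h hM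

end Cfsg.Agent.S2916
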