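import Cfsg.Statements.S2925
import Cfsg.Agent.Lib.LocalEven.PointStabilizer
import Cfsg.Agent.Lib.Components.Basic
-- import your own Cfsg.Agent.* helpers here

set_option autoImplicit false
open Cfsg

namespace Cfsg.Agent.S2925

/-- Let K be a component of the finite group X and T a Sylow 2-subgroup of X. If some abelian normal subgroup Y of T does not normalize K, then K ⧸ Z(K) has abelian Sylow 2-subgroups. -/
theorem result {X : Type*} [Group X] [Finite X] (K : Subgroup X) (hK : Cfsg.IsComponent K) (T : Sylow 2 X) (Y : Subgroup X) (hYT : Y ≤ (T : Subgroup X)) (hYn : (Y.subgroupOf (T : Subgroup X)).Normal) (hYab : IsMulCommutative ↥Y) (hnot : ¬ Y ≤ Subgroup.normalizer (K : Set X)) (P : Sylow 2 (↥K ⧸ Subgroup.center ↥K)) : IsMulCommutative ↥(P : Subgroup (↥K ⧸ Subgroup.center ↥K)) := by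
  open CfsgLib.Components in
  exact (by
  obtain ⟨y, hy, hyK⟩ := SetLike.not_le_iff_exists.mp hnot
  have hK' := CfsgLib.Components.IsComponent.conj hK y
  set K' := K.map (MulAut.conj y).toMonoidHom with hK'def
  have hne : K ≠ K' := fun e => hyK (mem_normalizer_iff_map_conj_eq.2 e.symm)
  have hc := IsComponent.le_centralizer_of_ne hK hK' hne
  have hyT := hYT hy
  have key : ∀ a b : ↥K, (a : X) ∈ (T : Subgroup X) → (b : X) ∈ (T : Subgroup X) →
      (b * a)⁻¹ * (a * b) ∈ Subgroup.center ↥K := by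
    intro a b ha hb
    have hu : ∀ a : ↥K, (a : X) ∈ (T : Subgroup X) → (a : X) * (y * (a : X)⁻¹ * y⁻¹) ∈ Y := fun a ha => by
      have h := hYn.conj_mem ⟨y, hyT⟩ hy ⟨_, ha⟩
      have h' : (a : X) * y * (a : X)⁻¹ ∈ Y := h
      have e : (a : X) * (y * (a : X)⁻¹ * y⁻¹) = ((a : X) * y * (a : X)⁻¹) * y⁻¹ := by group
      rw [e]
      exact Y.mul_mem h' (Y.inv_mem hy)
    have hm : ∀ a : ↥K, y * (a : X)⁻¹ * y⁻¹ ∈ K' := fun a => ⟨_, K.inv_mem a.2, rfl⟩
    have hcomm : ∀ k ∈ K, ∀ k' ∈ K', k' * k = k * k' := fun k hk k' hk' =>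
      (Subgroup.mem_centralizer_iff.1 (hc hk) k' hk')
    set a' := y * (a : X)⁻¹ * y⁻¹ with ha'
    set b' := y * (b : X)⁻¹ * y⁻¹ with hb'
    have h1 : ((a : X) * a') * ((b : X) * b') = ((b : X) * b') * ((a : X) * a') :=
      congrArg Subtype.val (hYab.is_comm.comm ⟨_, hu a ha⟩ ⟨_, hu b hb⟩)
    have h2 : ((a : X) * b) * (a' * b') = ((b : X) * a) * (b' * a') := by
      rw [mul_assoc (a : X) a', ← mul_assoc a' (b : X), hcomm _ b.2 _ (hm a), mul_assoc (b : X) a' b',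
        ← mul_assoc (a : X), mul_assoc (b : X) b', ← mul_assoc b' (a : X), hcomm _ a.2 _ (hm b),
        mul_assoc (a : X) b' a', ← mul_assoc (b : X)] at h1
      exact h1
    have h3 : (((b * a)⁻¹ * (a * b) : ↥K) : X) = (b' * a') * (a' * b')⁻¹ := by
      simp only [Subgroup.coe_mul, Subgroup.coe_inv]
      rw [inv_mul_eq_iff_eq_mul, ← mul_assoc, eq_mul_inv_iff_mul_eq]
      exact h2
    refine Subgroup.mem_center_iff.2 fun k => Subtype.ext ?_
    have h4 : (((b * a)⁻¹ * (a * b) : ↥K) : X) ∈ K' := by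
      rw [h3]
      exact K'.mul_mem (K'.mul_mem (hm b) (hm a)) (K'.inv_mem (K'.mul_mem (hm a) (hm b)))
    exact (hcomm _ k.2 _ h4).symm
  obtain ⟨Q, hQ⟩ := CfsgLib.LocalEven.PointStabilizer.sylow_inf T hK.1
  set π := QuotientGroup.mk' (Subgroup.center ↥K)
  let Q' : Sylow 2 (↥K ⧸ Subgroup.center ↥K) := Q.mapSurjective (f := π) (QuotientGroup.mk'_surjective _)
  have hQ' : ∀ x ∈ (Q' : Subgroup (↥K ⧸ Subgroup.center ↥K)), ∀ z ∈ (Q' : Subgroup (↥K ⧸ Subgroup.center ↥K)),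
      x * z = z * x := by
    rintro _ ⟨a, ha, rfl⟩ _ ⟨b, hb, rfl⟩
    have hT : ∀ c ∈ (Q : Subgroup ↥K), (c : X) ∈ (T : Subgroup X) := fun c hc' => by
      have := Subgroup.mem_map_of_mem K.subtype hc'
      rw [hQ] at this
      exact this.1
    have h := (QuotientGroup.eq (s := Subgroup.center ↥K)).2 (key a b (hT a ha) (hT b hb))
    rw [← map_mul, ← map_mul]
    exact h.symm
  let e := Sylow.equiv P Q'
  exact ⟨⟨fun x z => e.injective (by rw [map_mul, map_mul]; exact Subtype.ext (hQ' _ (e x).2 _ (e z).2))⟩⟩)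

end Cfsg.Agent.S2925
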