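import Cfsg.Statements.S2928
import Cfsg.Agent.Lib.LocalEvenB.PairMain

set_option autoImplicit false
open Cfsg

namespace Cfsg.Agent.S2928

/-- Let n ≥ 8 and let H be a subgroup of the symmetric group of degree n whose generalized Fitting subgroup F*(H) is quasisimple. If H contains a Sylow 2-subgroup of the alternating group of degree n, then F*(H) is isomorphic to an alternating group of degree m for some m ∈ {n − 3, n − 2, n − 1, n}. -/
theorem result (n : ℕ) (hn : 8 ≤ n) (H : Subgroup (Equiv.Perm (Fin n))) (hF : Cfsg.IsQuasisimple ↥(Cfsg.generalizedFittingSubgroup ↥H)) (hS : ∃ P : Sylow 2 ↥(alternatingGroup (Fin n)), ((P : Subgroup ↥(alternatingGroup (Fin n))).map (alternatingGroup (Fin n)).subtype) ≤ H) : ∃ m : ℕ, (m = n - 3 ∨ m = n - 2 ∨ m = n - 1 ∨ m = n) ∧ Nonempty (↥(Cfsg.generalizedFittingSubgroup ↥H) ≃* ↥(alternatingGroup (Fin m))) := by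
  classical
  obtain ⟨P, hP⟩ := hS
  haveI : Fact (Nat.Prime 2) := ⟨Nat.prime_two⟩
  let f : Fin n → Fin n := fun z =>
    if hz : z.val < 2 * (n / 2) then
      (if hp : z.val % 2 = 0 then ⟨z.val + 1, by omega⟩ else ⟨z.val - 1, by omega⟩)
    else z
  have hf : Function.Involutive f := by
    intro z
    by_cases hz : z.val < 2 * (n / 2)
    · by_cases hp : z.val % 2 = 0
      · have h1 : z.val + 1 < 2 * (n / 2) := by omega
        have h2 : ¬ (z.val + 1) % 2 = 0 := by omega
        simp [f, hz, hp, h1, h2]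
      · have h1 : z.val - 1 < 2 * (n / 2) := by omega
        have h2 : (z.val - 1) % 2 = 0 := by omega
        simp [f, hz, hp, h1, h2]
        exact Fin.ext (by simp; omega)
    · simp [f, hz]
  set σ : Equiv.Perm (Fin n) := hf.toPerm with hσdef
  have hσ2 : ∀ z, σ (σ z) = z := hf
  have hsupp : 2 * (n / 2) ≤ σ.support.card := by
    have hsub : (Finset.univ.filter fun z : Fin n => z.val < 2 * (n / 2)) ⊆ σ.support := by
      intro z hz
      simp only [Finset.mem_filter, Finset.mem_univ, true_and] at hz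
      rw [Equiv.Perm.mem_support]
      show f z ≠ z
      simp only [f, dif_pos hz]
      intro h
      split_ifs at h with hp <;> (have := congrArg Fin.val h; simp at this; try omega)
    refine le_trans (le_of_eq ?_) (Finset.card_le_card hsub)
    rw [Fin.card_filter_val_lt]
    omega
  set E := Subgroup.closure (Set.range fun a => Equiv.swap a (σ a)) with hE
  have hgen : ∀ a b, Equiv.swap a (σ a) * Equiv.swap b (σ b) = Equiv.swap b (σ b) * Equiv.swap a (σ a) := by
    intro a b
    by_cases h1 : b = a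
    · rw [h1]
    by_cases h2 : b = σ a
    · rw [h2, hσ2, Equiv.swap_comm (σ a) a]
    refine (Equiv.Perm.Disjoint.commute fun w => ?_).eq
    by_cases hw : w = a ∨ w = σ a
    · refine Or.inr (Equiv.swap_apply_of_ne_of_ne ?_ ?_)
      · rcases hw with rfl | rfl
        exacts [Ne.symm h1, Ne.symm h2]
      · rcases hw with rfl | rfl
        · exact fun e => h2 (by rw [e, hσ2])
        · exact fun e => h1 (σ.injective e).symm
    · push Not at hw
      exact Or.inl (Equiv.swap_apply_of_ne_of_ne hw.1 hw.2)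
  have hEc : ∀ a ∈ E, ∀ b ∈ E, a * b = b * a := by
    have h1 : E ≤ Subgroup.centralizer (Set.range fun a => Equiv.swap a (σ a)) := by
      rw [hE, Subgroup.closure_le]
      rintro _ ⟨a, rfl⟩
      rw [SetLike.mem_coe, Subgroup.mem_centralizer_iff]
      rintro _ ⟨b, rfl⟩
      exact hgen b a
    have h2 : E ≤ Subgroup.centralizer (E : Set (Equiv.Perm (Fin n))) := by
      nth_rewrite 1 [hE]
      rw [Subgroup.closure_le]
      rintro _ ⟨a, rfl⟩
      rw [SetLike.mem_coe, Subgroup.mem_centralizer_iff]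
      exact fun b hb => (Subgroup.mem_centralizer_iff.mp (h1 hb) _ ⟨a, rfl⟩).symm
    exact fun a ha b hb => Subgroup.mem_centralizer_iff.mp (h2 hb) a ha
  have hE2 : ∀ a ∈ E, a * a = 1 := by
    intro a ha
    induction ha using Subgroup.closure_induction with
    | mem a ha => obtain ⟨b, rfl⟩ := ha; exact Equiv.swap_mul_self _ _
    | one => simp
    | mul a b ha hb iha ihb =>
      calc a * b * (a * b) = a * (b * a) * b := by group
        _ = (a * a) * (b * b) := by rw [← hEc a ha b hb]; group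
        _ = 1 := by rw [iha, ihb, one_mul]
    | inv a _ iha => rw [← mul_inv_rev, iha, inv_one]
  have hRp : IsPGroup 2 ↥(E.subgroupOf (alternatingGroup (Fin n))) := fun a =>
    ⟨1, Subtype.ext (Subtype.ext (by
      rw [pow_one, pow_two]; exact hE2 _ a.2))⟩
  obtain ⟨Q, hQ⟩ := hRp.exists_le_sylow
  obtain ⟨g, hg⟩ := MulAction.exists_smul_eq ↥(alternatingGroup (Fin n)) Q P
  obtain ⟨g, hgA⟩ := g
  have hgood : CfsgLib.LocalEvenB.PairClasses.Good H (g * σ * g⁻¹) := by
    refine ⟨fun z => ?_, ?_, fun a b ha hb => ?_⟩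
    · simp only [Equiv.Perm.mul_apply]
      rw [show g⁻¹ (g (σ (g⁻¹ z))) = σ (g⁻¹ z) from g.symm_apply_apply _, hσ2]
      exact g.apply_symm_apply z
    · rw [Equiv.Perm.card_support_conj, Fintype.card_fin]; exact hsupp
    · obtain ⟨a, rfl⟩ := g.surjective a
      obtain ⟨b, rfl⟩ := g.surjective b
      rw [Cfsg.Agent.KnownC.AnHall.conj_apply] at ha hb ⊢
      rw [Cfsg.Agent.KnownC.AnHall.conj_apply, Equiv.swap_apply_apply, Equiv.swap_apply_apply]
      have ha' : a ≠ σ a := fun e => ha (by rw [← e])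
      have hb' : b ≠ σ b := fun e => hb (by rw [← e])
      set d := Equiv.swap a (σ a) * Equiv.swap b (σ b) with hd
      have hdA : d ∈ alternatingGroup (Fin n) := by
        rw [Equiv.Perm.mem_alternatingGroup, hd, map_mul, Equiv.Perm.sign_swap ha',
          Equiv.Perm.sign_swap hb']
        rfl
      have hdE : d ∈ E := E.mul_mem (Subgroup.subset_closure ⟨a, rfl⟩) (Subgroup.subset_closure ⟨b, rfl⟩)
      have hmem : g * d * g⁻¹ ∈ H := by
        refine hP ⟨⟨g, hgA⟩ * ⟨d, hdA⟩ * ⟨g, hgA⟩⁻¹, ?_, rfl⟩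
        rw [← hg]
        exact ⟨⟨d, hdA⟩, hQ hdE, rfl⟩
      rw [hd] at hmem
      convert hmem using 1
      group
  obtain ⟨m, hm1, hm2, hiso⟩ := CfsgLib.LocalEvenB.PairClasses.main (by rw [Fintype.card_fin]; exact hn) hF hgood
  rw [Fintype.card_fin] at hm1 hm2
  exact ⟨m, by omega, hiso⟩

end Cfsg.Agent.S2928
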