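import Cfsg.Statements.S2929
import Cfsg.Agent.Lib.LocalEvenB.ThreeClasses

set_option autoImplicit false
open Cfsg

namespace Cfsg.Agent.S2929

/-- Let n ≥ 5 and let H be a subgroup of the symmetric group of degree n whose generalized Fitting subgroup F*(H) is quasisimple. If H contains a Sylow 3-subgroup of the symmetric group, then F*(H) is isomorphic to an alternating group of degree m for some m ∈ {n − 2, n − 1, n}. -/
theorem result (n : ℕ) (hn : 5 ≤ n) (H : Subgroup (Equiv.Perm (Fin n))) (hF : Cfsg.IsQuasisimple ↥(Cfsg.generalizedFittingSubgroup ↥H)) (hS : ∃ P : Sylow 3 (Equiv.Perm (Fin n)), (P : Subgroup (Equiv.Perm (Fin n))) ≤ H) : ∃ m : ℕ, (m = n - 2 ∨ m = n - 1 ∨ m = n) ∧ Nonempty (↥(Cfsg.generalizedFittingSubgroup ↥H) ≃* ↥(alternatingGroup (Fin m))) := by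
  classical
  obtain ⟨P, hP⟩ := hS
  haveI : Fact (Nat.Prime 3) := ⟨Nat.prime_three⟩
  let pnt : ∀ (i : Fin (n / 3)) (j : Fin 3), Fin n := fun i j => ⟨3 * i.val + j.val, by omega⟩
  have hpnt : ∀ i j i' j', pnt i j = pnt i' j' → i = i' ∧ j = j' := by
    intro i j i' j' h
    have h' := congrArg Fin.val h
    simp only [pnt] at h'
    exact ⟨Fin.ext (by omega), Fin.ext (by omega)⟩
  let c : Fin (n / 3) → Equiv.Perm (Fin n) := fun i =>
    Equiv.swap (pnt i 0) (pnt i 1) * Equiv.swap (pnt i 0) (pnt i 2)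
  have hne : ∀ i (j j' : Fin 3), j ≠ j' → pnt i j ≠ pnt i j' := fun i j j' h e => h (hpnt _ _ _ _ e).2
  have hc3 : ∀ i, (c i).IsThreeCycle := fun i =>
    Equiv.Perm.isThreeCycle_swap_mul_swap_same (hne i 0 1 (by decide)) (hne i 0 2 (by decide))
      (hne i 1 2 (by decide))
  have hcmove : ∀ i j, c i (pnt i j) ≠ pnt i j := by
    intro i j
    have h01 := hne i 0 1 (by decide)
    have h02 := hne i 0 2 (by decide)
    have h12 := hne i 1 2 (by decide)
    fin_cases j
    · show Equiv.swap (pnt i 0) (pnt i 1) (Equiv.swap (pnt i 0) (pnt i 2) (pnt i 0)) ≠ pnt i 0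
      rw [Equiv.swap_apply_left, Equiv.swap_apply_of_ne_of_ne h02.symm h12.symm]
      exact h02.symm
    · show Equiv.swap (pnt i 0) (pnt i 1) (Equiv.swap (pnt i 0) (pnt i 2) (pnt i 1)) ≠ pnt i 1
      rw [Equiv.swap_apply_of_ne_of_ne h01.symm h12, Equiv.swap_apply_right]
      exact h01
    · show Equiv.swap (pnt i 0) (pnt i 1) (Equiv.swap (pnt i 0) (pnt i 2) (pnt i 2)) ≠ pnt i 2
      rw [Equiv.swap_apply_right, Equiv.swap_apply_left]
      exact h12
  have hcomm : ∀ i i', c i * c i' = c i' * c i := by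
    intro i i'
    by_cases h : i = i'
    · rw [h]
    refine (Equiv.Perm.Disjoint.commute fun z => ?_).eq
    by_cases hz : c i z = z
    · exact Or.inl hz
    refine Or.inr ?_
    by_contra hz'
    have key : ∀ k, c k z ≠ z → ∃ j, z = pnt k j := by
      intro k hk
      by_contra hcon
      push Not at hcon
      exact hk (by
        show Equiv.swap (pnt k 0) (pnt k 1) (Equiv.swap (pnt k 0) (pnt k 2) z) = z
        rw [Equiv.swap_apply_of_ne_of_ne (hcon 0) (hcon 2), Equiv.swap_apply_of_ne_of_ne (hcon 0) (hcon 1)])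
    obtain ⟨j, hj⟩ := key i hz
    obtain ⟨j', hj'⟩ := key i' hz'
    exact h (hpnt _ _ _ _ (hj.symm.trans hj')).1
  set R := Subgroup.closure (Set.range c) with hR
  have hRc : ∀ a ∈ R, ∀ b ∈ R, a * b = b * a := by
    have h1 : R ≤ Subgroup.centralizer (Set.range c) := by
      rw [hR, Subgroup.closure_le]
      rintro _ ⟨i, rfl⟩
      rw [SetLike.mem_coe, Subgroup.mem_centralizer_iff]
      rintro _ ⟨i', rfl⟩
      exact hcomm i' i
    have h2 : R ≤ Subgroup.centralizer (R : Set (Equiv.Perm (Fin n))) := by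
      nth_rewrite 1 [hR]
      rw [Subgroup.closure_le]
      rintro _ ⟨i, rfl⟩
      rw [SetLike.mem_coe, Subgroup.mem_centralizer_iff]
      intro a ha
      exact (Subgroup.mem_centralizer_iff.mp (h1 ha) (c i) ⟨i, rfl⟩).symm
    intro a ha b hb
    exact Subgroup.mem_centralizer_iff.mp (h2 hb) a ha
  have hR3 : ∀ a ∈ R, a ^ 3 = 1 := by
    intro a ha
    induction ha using Subgroup.closure_induction with
    | mem a ha =>
      obtain ⟨i, rfl⟩ := ha
      rw [← (hc3 i).orderOf]; exact pow_orderOf_eq_one _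
    | one => simp
    | mul a b ha hb iha ihb =>
      rw [(show Commute a b from hRc a ha b hb).mul_pow, iha, ihb, one_mul]
    | inv a _ iha => rw [inv_pow, iha, inv_one]
  have hRp : IsPGroup 3 R := fun a => ⟨1, Subtype.ext (by rw [pow_one]; exact hR3 a a.2)⟩
  obtain ⟨Q, hQ⟩ := hRp.exists_le_sylow
  obtain ⟨g, hg⟩ := MulAction.exists_smul_eq (Equiv.Perm (Fin n)) Q P
  have hmem : ∀ i, g * c i * g⁻¹ ∈ H := fun i => hP (by
    rw [← hg]
    exact ⟨c i, hQ (Subgroup.subset_closure ⟨i, rfl⟩), rfl⟩)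
  let U : Finset (Fin n) :=
    (Finset.univ : Finset (Fin (n / 3) × Fin 3)).image fun ij => g (pnt ij.1 ij.2)
  have hUc : U.card = n / 3 * 3 := by
    rw [Finset.card_image_of_injective _ (fun a b h => by
      obtain ⟨h1, h2⟩ := hpnt _ _ _ _ (g.injective h)
      exact Prod.ext h1 h2), Finset.card_univ, Fintype.card_prod, Fintype.card_fin, Fintype.card_fin]
  obtain ⟨m, hm1, hm2, hiso⟩ := CfsgLib.LocalEvenB.ThreeClasses.main H hF U
    (by rw [Finset.card_compl, hUc, Fintype.card_fin]; omega)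
    (fun z hz => by
      obtain ⟨⟨i, j⟩, -, rfl⟩ := Finset.mem_image.mp hz
      refine ⟨g * c i * g⁻¹, ⟨hmem i, Cfsg.Agent.KnownC.AnHall.three_conj (hc3 i) g⟩, ?_⟩
      rw [Cfsg.Agent.KnownC.AnHall.conj_apply]
      exact fun e => hcmove i j (g.injective e))
  rw [hUc] at hm1
  rw [Fintype.card_fin] at hm2
  exact ⟨m, by omega, hiso⟩

end Cfsg.Agent.S2929
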