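import Cfsg.Statements.S2930
import Cfsg.Agent.Lib.LocalEvenB.AltThreeMinimal
import Cfsg.Agent.Lib.PGroup.AltAut
import Cfsg.Agent.Lib.Components.GenFitting

set_option autoImplicit false
open Cfsg

namespace Cfsg.Agent.S2930

/-- Let X be a finite 3-minimal group (a Sylow 3-subgroup is not normal and lies in a unique maximal subgroup) whose generalized Fitting subgroup is isomorphic to an alternating group of degree n ≥ 5. Then X = F*(X), and n = 6, n = 9, or n = 3ᵃ + 1 for some a ≥ 2. -/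
theorem result {X : Type*} [Group X] [Finite X] (hX : Cfsg.IsPMinimal 3 X) (n : ℕ) (hn : 5 ≤ n) (hF : Nonempty (↥(Cfsg.generalizedFittingSubgroup X) ≃* ↥(alternatingGroup (Fin n)))) : Cfsg.generalizedFittingSubgroup X = ⊤ ∧ (n = 6 ∨ n = 9 ∨ ∃ a : ℕ, 2 ≤ a ∧ n = 3 ^ a + 1) := by
  classical
  haveI : Fact (Nat.Prime 3) := ⟨Nat.prime_three⟩
  obtain ⟨e⟩ := hF
  obtain ⟨T⟩ := (inferInstance : Nonempty (Sylow 3 X))
  obtain ⟨hTn, huniq⟩ := hX T
  set Fs := Cfsg.generalizedFittingSubgroup X with hFs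
  haveI hFn : Fs.Normal := inferInstanceAs (Cfsg.generalizedFittingSubgroup X).Normal
  have hsame : ∀ K L : Subgroup X, K ≠ ⊤ → L ≠ ⊤ → (T : Subgroup X) ≤ K → (T : Subgroup X) ≤ L →
      K ⊔ L ≠ ⊤ := by
    intro K L hK hL hTK hTL hsup
    obtain ⟨M₁, hM₁, hK₁⟩ := (eq_top_or_exists_le_coatom K).resolve_left hK
    obtain ⟨M₂, hM₂, hL₂⟩ := (eq_top_or_exists_le_coatom L).resolve_left hL
    have he : M₁ = M₂ := huniq.unique ⟨hM₁, hTK.trans hK₁⟩ ⟨hM₂, hTL.trans hL₂⟩
    exact hM₁.1 (top_le_iff.mp (hsup ▸ sup_le hK₁ (he ▸ hL₂)))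
  have hTF : (T : Subgroup X) ≤ Fs := by
    intro t ht
    let φ : MulAut ↥(alternatingGroup (Fin n)) := (MulAut.congr e) (MulAut.conjNormal t)
    obtain ⟨k, hk⟩ := T.isPGroup' ⟨t, ht⟩
    have hk' : t ^ 3 ^ k = 1 := congrArg Subtype.val hk
    have hodd : Odd (3 ^ k) := Odd.pow ⟨1, by norm_num⟩
    have hφk : φ ^ 3 ^ k = 1 := by
      show ((MulAut.congr e) (MulAut.conjNormal t)) ^ 3 ^ k = 1
      rw [← map_pow, ← map_pow, hk', map_one, map_one]
    obtain ⟨σ, hσ⟩ := CfsgLib.PGroup.AltAut.exists_conjNormal_of_odd (by omega) φ hodd hφk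
    have hσk : σ ^ 3 ^ k = 1 := CfsgLib.PGroup.AltAut.conjNormal_injective n (by omega)
      (by rw [map_pow, map_one, hσ, hφk])
    have hσA : σ ∈ alternatingGroup (Fin n) := by
      rw [Equiv.Perm.mem_alternatingGroup]
      have h1 : Equiv.Perm.sign σ ^ 3 ^ k = 1 := by rw [← map_pow, hσk, map_one]
      rcases Int.units_eq_one_or (Equiv.Perm.sign σ) with h | h
      · exact h
      · rw [h, hodd.neg_one_pow] at h1
        exact absurd h1 (by decide)
    set a : Fs := e.symm ⟨σ, hσA⟩ with ha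
    have hcent : (a : X)⁻¹ * t ∈ Subgroup.centralizer (Fs : Set X) := by
      rw [Subgroup.mem_centralizer_iff]
      intro f hf
      have h1 : φ (e ⟨f, hf⟩) = e (MulAut.conjNormal t ⟨f, hf⟩) := by
        show (MulAut.congr e) (MulAut.conjNormal t) (e ⟨f, hf⟩) = _
        simp [MulAut.congr]
      have h2 : φ (e ⟨f, hf⟩) = e (a * ⟨f, hf⟩ * a⁻¹) := by
        rw [← hσ, map_mul, map_mul, map_inv, ha, MulEquiv.apply_symm_apply]
        refine Subtype.ext ?_
        rw [MulAut.conjNormal_apply]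
        rfl
      have h3 : t * f * t⁻¹ = (a : X) * f * (a : X)⁻¹ := by
        have := congrArg Subtype.val (e.injective (h1.symm.trans h2))
        rwa [MulAut.conjNormal_apply] at this
      calc f * ((a : X)⁻¹ * t) = (a : X)⁻¹ * ((a : X) * f * (a : X)⁻¹) * t := by group
        _ = (a : X)⁻¹ * (t * f * t⁻¹) * t := by rw [h3]
        _ = (a : X)⁻¹ * t * f := by group
    have h4 := Fs.mul_mem a.2 (CfsgLib.Components.centralizer_generalizedFitting_le hcent)
    rwa [mul_inv_cancel_left] at h4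
  have htop : Fs = ⊤ := by
    by_contra hne
    refine hsame Fs (Subgroup.normalizer ((T : Subgroup X) : Set X)) hne ?_ hTF Subgroup.le_normalizer ?_
    · exact fun h => hTn (Subgroup.normalizer_eq_top_iff.mp h)
    · rw [sup_comm]; exact Sylow.normalizer_sup_eq_top' T hTF
  refine ⟨htop, ?_⟩
  -- transport to the alternating group
  let E : X ≃* ↥(alternatingGroup (Fin n)) :=
    (Subgroup.topEquiv.symm.trans (MulEquiv.subgroupCongr htop.symm)).trans e
  obtain ⟨M, ⟨hM, hTM⟩, -⟩ := id huniq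
  have habs : CfsgLib.LocalEvenB.AltThreeMinimal.Absorbs ((T : Subgroup X).map E.toMonoidHom)
      (M.map E.toMonoidHom) := by
    intro K hK hKne
    have hle : K.comap E.toMonoidHom ≤ M := by
      have hne' : K.comap E.toMonoidHom ≠ ⊤ := fun h => hKne (by
        have := congrArg (Subgroup.map E.toMonoidHom) h
        rwa [Subgroup.map_comap_eq_self_of_surjective E.surjective,
          Subgroup.map_top_of_surjective _ E.surjective] at this)
      obtain ⟨M₁, hM₁, hK₁⟩ := (eq_top_or_exists_le_coatom _).resolve_left hne'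
      have he : M₁ = M := huniq.unique
        ⟨hM₁, (Subgroup.map_le_iff_le_comap.mp hK).trans hK₁⟩ ⟨hM, hTM⟩
      exact he ▸ hK₁
    have := Subgroup.map_mono (f := E.toMonoidHom) hle
    rwa [Subgroup.map_comap_eq_self_of_surjective E.surjective] at this
  have hMne : M.map E.toMonoidHom ≠ ⊤ := fun h => hM.1 (Subgroup.map_injective E.injective
    (h.trans (Subgroup.map_top_of_surjective _ E.surjective).symm))
  have := CfsgLib.LocalEvenB.AltThreeMinimal.main habs hMne (T.isPGroup'.map _)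
    (by rw [Fintype.card_fin]; exact hn)
  rwa [Fintype.card_fin] at this

end Cfsg.Agent.S2930
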