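import Cfsg.Statements.S2932
import Cfsg.Agent.Lib.LocalEvenB.SL2Spread.Spread
import Cfsg.Agent.Lib.LocalEvenB.SL2Spread.Four

set_option autoImplicit false
open Cfsg

namespace Cfsg.Agent.S2932

open CfsgLib.LocalEven.NaturalSL2 CfsgLib.LocalEvenB.SL2Spread
open scoped Pointwise

/-- Let p be a prime. Inside a finite ambient group let V be an elementary abelian p-subgroup and G a subgroup normalizing V and acting faithfully on it (G ∩ C(V) = 1), and let L ≤ G act on V as SL₂(F) on its natural module, F a finite field of characteristic p, with L ≅ SL₂(F). If every Sylow p-subgroup of N_G(L) is a Sylow p-subgroup of G, then either L is normal in G, or F has 4 elements and G is isomorphic to the alternating group of degree 7. -/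
theorem result {X : Type*} [Group X] [Finite X] {p : ℕ} [Fact p.Prime] (F : Type) [Field F] [Fintype F] [CharP F p] (V G L : Subgroup X) (hV : Cfsg.IsElementaryAbelian p V) (hGV : G ≤ Subgroup.normalizer (V : Set X)) (hfaith : G ⊓ Subgroup.centralizer (V : Set X) = ⊥) (hLG : L ≤ G) (hnat : Cfsg.IsNaturalSL2Module F V L) (hLiso : Nonempty (↥L ≃* Matrix.SpecialLinearGroup (Fin 2) F)) (hSyl : ∀ S : Sylow p ↥(G ⊓ Subgroup.normalizer (L : Set X)), ∀ P : Sylow p ↥G, Nat.card S = Nat.card P) : (L.subgroupOf G).Normal ∨ (Fintype.card F = 4 ∧ Nonempty (↥G ≃* ↥(alternatingGroup (Fin 7)))) := by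
  classical
  have hf : L ⊓ Subgroup.centralizer (V : Set X) = ⊥ :=
    le_bot_iff.1 (hfaith ▸ inf_le_inf_right _ hLG)
  have hctx : Ctx V G L := ⟨hGV, hfaith, hLG⟩
  obtain ⟨n, hn0, hn⟩ : ∃ n, 0 < n ∧ Fintype.card F = p ^ n := by
    obtain ⟨n, hn⟩ := FiniteField.card F p
    exact ⟨n, n.pos, hn.2⟩
  let N : Subgroup X := G ⊓ Subgroup.normalizer (L : Set X)
  obtain ⟨S⟩ : Nonempty (Sylow p ↥L) := inferInstance
  let T : Subgroup X := (S : Subgroup ↥L).map L.subtype
  obtain ⟨C⟩ := exists_coord hn V L hnat hf S T rfl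
  have hTN : T ≤ N := fun x hx => ⟨hLG (C.T_le hx), Subgroup.le_normalizer (C.T_le hx)⟩
  have hTp : IsPGroup p T := S.2.map _
  obtain ⟨PN, hPN⟩ := (hTp.comap_of_injective N.subtype N.subtype_injective).exists_le_sylow
  let P : Subgroup X := (PN : Subgroup ↥N).map N.subtype
  have hPN' : P ≤ N := Subgroup.map_subtype_le _
  have hPG : P ≤ G := hPN'.trans inf_le_left
  have hPp : IsPGroup p P := PN.2.map _
  have hTP : T ≤ P := fun x hx => ⟨⟨x, hTN hx⟩, hPN hx, rfl⟩
  have hPcard : ∀ Q : Sylow p ↥G, Nat.card P = Nat.card Q := fun Q =>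
    (Subgroup.card_map_of_injective N.subtype_injective).trans (hSyl PN Q)
  have hPT : P ⊓ L = T := by
    refine le_antisymm (fun x hx => ?_) (le_inf hTP C.T_le)
    have hmax : (P.subgroupOf L) = (S : Subgroup ↥L) :=
      S.3 (hPp.comap_of_injective L.subtype L.subtype_injective) fun y hy =>
        hTP ⟨y, hy, rfl⟩
    exact ⟨⟨x, hx.2⟩, hmax ▸ (show (⟨x, hx.2⟩ : ↥L) ∈ P.subgroupOf L from hx.1), rfl⟩
  have hnormL : P ≤ Subgroup.normalizer (L : Set X) := hPN'.trans inf_le_right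
  have hnormT : P ≤ Subgroup.normalizer (T : Set X) := by
    intro a ha
    rw [← hPT]
    refine Subgroup.mem_normalizer_iff.2 fun x => ?_
    have hL := Subgroup.mem_normalizer_iff.1 (hnormL ha) x
    refine ⟨fun hx => Subgroup.mem_inf.2 ⟨mul_mem (mul_mem ha hx.1) (inv_mem ha), hL.1 hx.2⟩,
      fun hx => Subgroup.mem_inf.2 ⟨?_, hL.2 hx.2⟩⟩
    have := mul_mem (mul_mem (inv_mem ha) (Subgroup.mem_inf.1 hx).1) ha
    simpa [mul_assoc] using this
  obtain ⟨Q0⟩ : Nonempty (Sylow p ↥G) := inferInstance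
  have hcG : Nat.card (P.subgroupOf G) = p ^ (Nat.card G).factorization p := by
    rw [Nat.card_congr (Subgroup.subgroupOfEquivOfLe hPG).toEquiv, hPcard Q0, Q0.card_eq_multiplicity]
  have hconj : ∀ Q : Subgroup X, Q ≤ G → IsPGroup p Q → ∃ g ∈ G, MulAut.conj g • Q ≤ P := by
    intro Q hQG hQ
    obtain ⟨Q1, hQ1⟩ := (hQ.comap_of_injective G.subtype G.subtype_injective).exists_le_sylow
    obtain ⟨g, hg⟩ := MulAction.exists_smul_eq ↥G Q1 (Sylow.ofCard (P.subgroupOf G) hcG)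
    refine ⟨g.1, g.2, fun x hx => ?_⟩
    rw [mem_conj_iff] at hx
    have hxG : x ∈ G := by
      have := mul_mem (mul_mem g.2 (hQG hx)) (inv_mem g.2)
      simpa [mul_assoc] using this
    have h1 : g⁻¹ * ⟨x, hxG⟩ * g ∈ (Q1 : Subgroup ↥G) := hQ1 hx
    have h2 : (⟨x, hxG⟩ : ↥G) ∈ MulAut.conj g • (Q1 : Subgroup ↥G) := (mem_conj_iff _ _ _).2 h1
    have hg' : MulAut.conj g • (Q1 : Subgroup ↥G) = P.subgroupOf G := by
      rw [← Sylow.coe_subgroup_smul]
      exact congrArg (fun R : Sylow p ↥G => (R : Subgroup ↥G)) hg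
    rw [hg'] at h2
    exact h2
  have hP : Pad p G L T P := ⟨hPG, hnormL, hnormT, hPp, hTP, hconj⟩
  have hexp : ∀ v ∈ V, v ^ p = 1 := hV.2
  by_cases hq : Fintype.card F ≠ 4 ∨ P ≤ T
  · exact Or.inl (normal_of_pad C hctx hP hq hexp)
  push Not at hq
  obtain ⟨hq4, hPnT⟩ := hq
  have hp2 : p = 2 := by
    have h2 : p ∣ 2 ^ 2 := ⟨p ^ (n - 1), by rw [← pow_succ', Nat.sub_add_cancel hn0, ← hn, hq4]; norm_num⟩
    exact (Nat.prime_dvd_prime_iff_eq Fact.out Nat.prime_two).1 ((Fact.out : p.Prime).dvd_of_dvd_pow h2)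
  subst hp2
  have hn2 : n = 2 := Nat.pow_right_injective le_rfl (show 2 ^ n = 2 ^ 2 by rw [← hn, hq4])
  have hle := card_P_le C hctx hP hn
  rw [hq4, hn2] at hle
  have hTc : Nat.card T = 4 := (card_T C).trans hq4
  have hlt : 4 < Nat.card P := by
    by_contra hc
    exact hPnT (Subgroup.eq_of_le_of_card_ge hTP (by omega)).ge
  obtain ⟨e, he⟩ := IsPGroup.iff_card.1 hPp
  have hP8 : Nat.card P = 8 := by
    have h1 : e ≤ 3 := (Nat.pow_le_pow_iff_right (by norm_num : 1 < 2)).1 (by rw [← he]; omega)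
    interval_cases e <;> omega
  have h16 : ¬ 16 ∣ Nat.card G := by
    intro h
    have h4 : 4 ≤ (Nat.card G).factorization 2 :=
      (Nat.Prime.pow_dvd_iff_le_factorization Nat.prime_two Nat.card_pos.ne').1 h
    have := Nat.pow_le_pow_right (show 0 < 2 by norm_num) h4
    rw [← Q0.card_eq_multiplicity, ← hPcard Q0, hP8] at this
    omega
  have h8 : 8 ∣ Nat.card N := hP8 ▸ Subgroup.card_dvd_of_le hPN'
  rcases endgame C hctx hV hq4 h16 h8 with h | h
  · exact Or.inl h
  · exact Or.inr ⟨hq4, h⟩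

end Cfsg.Agent.S2932
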