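import Cfsg.Statements.S2933
import Cfsg.Agent.Lib.LocalEvenB.FourFixedModels

set_option autoImplicit false
open Cfsg

namespace Cfsg.Agent.S2933

/-- Let T be a 2-subgroup of a finite group G, V ≤ Z(T) a four-group, and t, ρ ∈ N_G(V) ∩ N_G(T) elements of order 2 and 3 with t commuting with ρ and with V. If [V, ρ] = V and C_T(t) = V, then T is elementary abelian of order 16, or homocyclic of rank 2 (ℤ/2ⁿ × ℤ/2ⁿ for some n ≥ 1), or isomorphic to a Sylow 2-subgroup of PSL₃(4) or of PSU₃(4). -/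
theorem result {G : Type*} [Group G] [Finite G] (T V : Subgroup G) (hT : IsPGroup 2 ↥T) (hVT : V ≤ T ⊓ Subgroup.centralizer (T : Set G)) (hV : Nat.card ↥V = 4 ∧ ∀ v ∈ V, v ^ 2 = 1) (t ρ : G) (ht : orderOf t = 2) (hρ : orderOf ρ = 3) (htn : t ∈ Subgroup.normalizer (V : Set G) ⊓ Subgroup.normalizer (T : Set G)) (hρn : ρ ∈ Subgroup.normalizer (V : Set G) ⊓ Subgroup.normalizer (T : Set G)) (htρ : t * ρ = ρ * t) (htV : t ∈ Subgroup.centralizer (V : Set G)) (hVρ : ⁅V, Subgroup.zpowers ρ⁆ = V) (hCt : T ⊓ Subgroup.centralizer ({t} : Set G) = V) : (Nat.card ↥T = 16 ∧ ∀ x ∈ T, x ^ 2 = 1) ∨ (∃ n : ℕ, 1 ≤ n ∧ Nonempty (↥T ≃* Multiplicative (ZMod (2 ^ n)) × Multiplicative (ZMod (2 ^ n)))) ∨ (∃ (F : Type) (_ : Field F) (_ : Fintype F), Fintype.card F = 4 ∧ ∀ P : Sylow 2 (Matrix.ProjectiveSpecialLinearGroup (Fin 3) F), Nonempty (↥T ≃* ↥(P : Subgroup (Matrix.ProjectiveSpecialLinearGroup (Fin 3) F)))) ∨ (∃ (F : Type) (_ : Field F) (_ : Fintype F), Fintype.card F = 16 ∧ ∀ P : Sylow 2 (Cfsg.PSU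 3 F 4), Nonempty (↥T ≃* ↥(P : Subgroup (Cfsg.PSU 3 F 4)))) := by
  classical
  obtain ⟨hV4, hVsq⟩ := hV
  obtain ⟨-, htT⟩ := Subgroup.mem_inf.1 htn
  obtain ⟨hρV, hρT⟩ := Subgroup.mem_inf.1 hρn
  let τ : MulAut ↥T := Subgroup.normalizerMonoidHom T ⟨t, htT⟩
  let σ : MulAut ↥T := Subgroup.normalizerMonoidHom T ⟨ρ, hρT⟩
  have hτ : ∀ x : ↥T, ((τ x : ↥T) : G) = t * x * t⁻¹ := fun _ => rfl
  have hσ : ∀ x : ↥T, ((σ x : ↥T) : G) = ρ * x * ρ⁻¹ := fun _ => rfl
  have htt : t * t = 1 := by rw [← pow_two, ← ht]; exact pow_orderOf_eq_one t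
  have hρ3 : ρ * ρ * ρ = 1 := by
    rw [← pow_two, ← pow_succ, show 2 + 1 = orderOf ρ by rw [hρ]]; exact pow_orderOf_eq_one ρ
  have hfixρ : ∀ v ∈ V, ρ * v * ρ⁻¹ = v → v = 1 := by
    intro v hv hfix
    by_contra hv1
    have hcom : ρ * v = v * ρ := mul_inv_eq_iff_eq_mul.1 hfix
    have hall : ∀ u ∈ V, ρ * u = u * ρ := by
      by_contra hne
      simp only [not_forall] at hne
      obtain ⟨u, hu, hne⟩ := hne
      have hu1 : u ≠ 1 := fun e => hne (by rw [e, mul_one, one_mul])
      have huv : u ≠ v := fun e => hne (e ▸ hcom)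
      have hv' : v * u ∈ V := mul_mem hv hu
      set ψ : G → G := fun x => ρ * x * ρ⁻¹ with hψ
      have hmem : ∀ x ∈ V, ψ x ∈ V := fun x hx => (Subgroup.mem_normalizer_iff.1 hρV x).1 hx
      have hψv : ψ v = v := hfix
      have hψu : ψ u ≠ u := fun e => hne (mul_inv_eq_iff_eq_mul.1 e)
      have hinj : Function.Injective ψ := fun a b e => by
        simpa [hψ] using e
      have hψmul : ∀ a b, ψ (a * b) = ψ a * ψ b := fun a b => by simp only [hψ]; group
      have hinvo : ∀ x ∈ V, x * x = 1 := fun x hx => by rw [← pow_two]; exact hVsq x hx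
      have hfour : ∀ x ∈ V, x = 1 ∨ x = v ∨ x = u ∨ x = v * u := by
        intro x hx
        by_contra hx'
        simp only [not_or] at hx'
        obtain ⟨x0, x1, x2, x3⟩ := hx'
        have a1 : v * u ≠ 1 := fun e => huv (by
          rw [eq_inv_of_mul_eq_one_right e, inv_eq_of_mul_eq_one_right (hinvo v hv)])
        have a2 : v * u ≠ v := fun e => hu1 (by simpa using e)
        have a3 : v * u ≠ u := fun e => hv1 (by simpa using e)
        let s : Finset G := {1, v, u, v * u, x}
        have hs : s.card = 5 := by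
          simp [s, Ne.symm hv1, Ne.symm hu1, Ne.symm a1, Ne.symm x0, huv.symm, Ne.symm a2,
            Ne.symm a3, Ne.symm x1, Ne.symm x2, Ne.symm x3, hu1, hv1]
        have hle : (s : Set G) ⊆ (V : Set G) := by
          intro y hy
          simp only [s, Finset.coe_insert, Finset.coe_singleton, Set.mem_insert_iff,
            Set.mem_singleton_iff] at hy
          rcases hy with rfl | rfl | rfl | rfl | rfl
          exacts [one_mem V, hv, hu, hv', hx]
        have := Set.ncard_le_ncard hle (Set.toFinite _)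
        rw [Set.ncard_coe_finset, hs, ← Nat.card_coe_set_eq] at this
        have hc : Nat.card (V : Set G) = 4 := hV4
        omega
      have h1 : ψ u = v * u := by
        rcases hfour _ (hmem u hu) with e | e | e | e
        · exact absurd (hinj (e.trans (show (1 : G) = ψ 1 by simp [hψ]))) hu1
        · exact absurd (hinj (e.trans hψv.symm)) huv
        · exact absurd e hψu
        · exact e
      have h2 : ψ (ψ u) = u := by
        rw [h1, hψmul, hψv, h1, ← mul_assoc, hinvo v hv, one_mul]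
      have h3 : ψ (ψ (ψ u)) = u := by
        simp only [hψ]
        calc ρ * (ρ * (ρ * u * ρ⁻¹) * ρ⁻¹) * ρ⁻¹ = (ρ * ρ * ρ) * u * (ρ * ρ * ρ)⁻¹ := by group
          _ = u := by rw [hρ3]; group
      rw [h2] at h3
      exact hψu h3
    have hbot : ⁅V, Subgroup.zpowers ρ⁆ = ⊥ := by
      rw [Subgroup.commutator_eq_bot_iff_le_centralizer]
      intro u hu
      rw [Subgroup.mem_centralizer_iff]
      intro k hk
      obtain ⟨n, rfl⟩ := Subgroup.mem_zpowers_iff.1 hk
      exact ((show Commute ρ u from hall u hu).zpow_left n).eq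
    rw [hbot] at hVρ
    rw [← hVρ, Subgroup.card_bot] at hV4
    omega
  have h : CfsgLib.LocalEvenB.FourFixed.Conf (V.subgroupOf T) τ σ :=
    { pgroup := hT
      central := fun v hv => by
        rw [Subgroup.mem_center_iff]
        intro x
        exact Subtype.ext ((Subgroup.mem_centralizer_iff.1 (Subgroup.mem_inf.1 (hVT hv)).2) _ x.2)
      card := by
        rw [Nat.card_congr (Subgroup.subgroupOfEquivOfLe
          (hVT.trans inf_le_left)).toEquiv, hV4]
      sq := fun v hv => Subtype.ext (by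
        rw [Subgroup.coe_mul, ← pow_two]; exact hVsq _ hv)
      tau2 := fun x => Subtype.ext (by
        rw [hτ, hτ]
        calc t * (t * x * t⁻¹) * t⁻¹ = (t * t) * x * (t * t)⁻¹ := by group
          _ = x := by rw [htt]; group)
      rho3 := fun x => Subtype.ext (by
        rw [hσ, hσ, hσ]
        calc ρ * (ρ * (ρ * x * ρ⁻¹) * ρ⁻¹) * ρ⁻¹ = (ρ * ρ * ρ) * x * (ρ * ρ * ρ)⁻¹ := by group
          _ = x := by rw [hρ3]; group)
      comm := fun x => Subtype.ext (by
        rw [hτ, hσ, hσ, hτ]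
        calc t * (ρ * x * ρ⁻¹) * t⁻¹ = (t * ρ) * x * (t * ρ)⁻¹ := by group
          _ = (ρ * t) * x * (ρ * t)⁻¹ := by rw [htρ]
          _ = ρ * (t * x * t⁻¹) * ρ⁻¹ := by group)
      fix := fun x => by
        rw [Subgroup.mem_subgroupOf]
        constructor
        · intro e
          have e' := congrArg Subtype.val e
          rw [hτ] at e'
          rw [← hCt, Subgroup.mem_inf, Subgroup.mem_centralizer_singleton_iff]
          exact ⟨x.2, (mul_inv_eq_iff_eq_mul.1 e').symm⟩
        · intro hx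
          refine Subtype.ext ?_
          rw [hτ, mul_inv_eq_iff_eq_mul]
          exact ((Subgroup.mem_centralizer_iff.1 htV) _ hx).symm
      freeV := fun v hv e => Subtype.ext (hfixρ _ hv (by rw [← hσ]; exact congrArg Subtype.val e)) }
  rcases CfsgLib.LocalEvenB.FourFixed.dichotomy h with hab | ⟨hc, hW, hel⟩
  · rcases h.exponent_two_or hab with ⟨hexp, htop⟩ | hinv
    · by_cases hVtop : V.subgroupOf T = ⊤
      · right; left
        have hall : ∀ x : ↥T, x * x = 1 → x ∈ V.subgroupOf T := fun x _ => hVtop ▸ trivial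
        obtain ⟨n, hn, a, -, hiso⟩ := h.homocyclic hab hall
        exact ⟨n, hn, hiso⟩
      · left
        refine ⟨?_, fun x hx => ?_⟩
        · rw [← Subgroup.card_top (G := ↥T), ← htop]
          exact h.card_layer hVtop
        · rw [pow_two]; exact congrArg Subtype.val (hexp ⟨x, hx⟩)
    · right; left
      obtain ⟨n, hn, a, -, hiso⟩ := h.homocyclic hab hinv
      exact ⟨n, hn, hiso⟩
  · right; right
    obtain ⟨b, x, y, d, e, z₁, z₂, r, hgen⟩ := h.exists_rel hW hel
    haveI : Fact (Nat.Prime 2) := ⟨Nat.prime_two⟩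
    letI : Fintype (GaloisField 2 2) := Fintype.ofFinite _
    letI : Fintype (GaloisField 2 4) := Fintype.ofFinite _
    cases b
    · left
      have hF : Fintype.card (GaloisField 2 2) = 4 := by
        rw [← Nat.card_eq_fintype_card, GaloisField.card 2 2 (by norm_num)]; norm_num
      refine ⟨GaloisField 2 2, inferInstance, inferInstance, hF, fun P => ?_⟩
      obtain ⟨hP, x', y', d', e', z₁', z₂', r', hgen'⟩ :=
        CfsgLib.LocalEvenB.FourFixed.psl_model hF P
      exact r.mulEquiv r' hc hP.ge hgen hgen'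
    · right
      have hF : Fintype.card (GaloisField 2 4) = 16 := by
        rw [← Nat.card_eq_fintype_card, GaloisField.card 2 4 (by norm_num)]; norm_num
      refine ⟨GaloisField 2 4, inferInstance, inferInstance, hF, fun P => ?_⟩
      obtain ⟨hP, x', y', d', e', z₁', z₂', r', hgen'⟩ :=
        CfsgLib.LocalEvenB.FourFixed.psu_model (F := GaloisField 2 4) hF P
      exact r.mulEquiv r' hc hP.ge hgen hgen'

end Cfsg.Agent.S2933
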