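import Cfsg.Statements.S2937
import Cfsg.Agent.Lib.BNPair.PMinimalLie
import Cfsg.Agent.Lib.BNPair.PMinimalUnitary
import Cfsg.Agent.Lib.BNPair.PMinimalExceptional
import Cfsg.Agent.Lib.BNPair.PMinimalSmall
import Cfsg.Agent.Lib.BNPair.PMinimalTwo
import Cfsg.Agent.Lib.Components.GenFitting
import Cfsg.Agent.S2936

set_option autoImplicit false
set_option maxRecDepth 20000
open Cfsg

namespace Cfsg.Agent.S2937

open CfsgLib.BNPair CfsgLib.BNPair.PMinimal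

/-- The list of the theorem. -/
def Listed (p : ℕ) (X : Type*) [Group X] (K : Subgroup X) : Prop :=
  Cfsg.IsLieRankOneChar p ↥K ∨ (p = 2 ∧ K ≠ ⊤ ∧
    ((∃ (F : Type) (_ : Field F) (_ : Fintype F) (_ : CharP F 2),
        Nonempty (↥K ≃* Matrix.ProjectiveSpecialLinearGroup (Fin 3) F)) ∨
      (∃ (F : Type) (_ : Field F) (_ : Fintype F) (_ : CharP F 2), 4 ≤ Fintype.card F ∧
        Nonempty (↥K ≃* Cfsg.PSp 2 F)) ∨
      Nonempty (↥K ≃* ↥(alternatingGroup (Fin 6)))))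

theorem four_le {F : Type*} [Field F] [Fintype F] [CharP F 2] (h : 3 ≤ Fintype.card F) :
    4 ≤ Fintype.card F := by
  obtain ⟨n, -, hn⟩ := FiniteField.card F 2
  rw [hn] at h ⊢
  have : 2 ≤ (n : ℕ) := by
    by_contra hlt
    interval_cases hk : (n : ℕ) <;> simp at h
  calc 4 = 2 ^ 2 := by norm_num
    _ ≤ 2 ^ (n : ℕ) := Nat.pow_le_pow_right (by norm_num) this

variable {X : Type*} [Group X] [Finite X] {K : Subgroup X} [K.Normal] {p : ℕ} [Fact p.Prime]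

theorem lie_main (hX : Cfsg.IsPMinimal p X) (hC : Subgroup.centralizer (K : Set X) ≤ K)
    (hK : Cfsg.IsLieTypeChar p ↥K) (U : Sylow p ↥K) : IsCoatom (NX U) ∧ Listed p X K := by
  obtain ⟨hs, hr⟩ := S2936.lie_case hK
  haveI := hs
  have hdvd := S2936.dvd_card p hK
  refine ⟨coatom_of_srigid hX hC hdvd hr U, ?_⟩
  have r3 : ∀ {Y : Type} [Group Y], (↥K ≃* Y) → (Finite Y → RankGE 3 p Y) → Listed p X K := fun {Y} _ e h => by
    have : Finite Y := Finite.of_equiv ↥K e.toEquiv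
    exact (false_of_rank hX hC hdvd ((h this).of_equiv e.symm)).elim
  have st : ∀ {Y : Type} [Group Y], (↥K ≃* Y) → (Finite Y → Stuck p Y) → Listed p X K := fun {Y} _ e h => by
    have : Finite Y := Finite.of_equiv ↥K e.toEquiv
    exact (false_of_stuck hX hC hdvd ((h this).of_equiv e.symm)).elim
  have r2 : ∀ {Y : Type} [Group Y], (↥K ≃* Y) → (Finite Y → RankGE 2 p Y) → p = 2 ∧ K ≠ ⊤ := fun {Y} _ e h => by
    have : Finite Y := Finite.of_equiv ↥K e.toEquiv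
    exact two_of_rank hX hC hdvd ((h this).of_equiv e.symm)
  rcases hK with ⟨F, i1, i2, i3, n, hn, h2, ⟨e⟩⟩ | ⟨F, i1, i2, i3, m, hm, h2, ⟨e⟩⟩ |
    ⟨F, i1, i2, i3, n, q, hF, hn, h2, ⟨e⟩⟩ | ⟨F, i1, i2, i3, m, hm, hodd, ⟨e⟩⟩ |
    ⟨F, i1, i2, i3, m, hm, ⟨e⟩⟩ | ⟨F, i1, i2, i3, m, a, b, hm, hab, ⟨e⟩⟩ |
    ⟨F, i1, i2, i3, hc⟩ | ⟨L, i1, i2, i3, q, hpp, hc⟩ | ⟨rfl, hS⟩ |
    ⟨rfl, L, i1, i2, m, hm, hL, ⟨e⟩⟩ | ⟨rfl, hR⟩
  · rcases (by omega : n = 2 ∨ n = 3 ∨ 4 ≤ n) with rfl | rfl | hn4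
    · exact .inl (.inl ⟨F, i1, i2, i3, h2 rfl, ⟨e⟩⟩)
    · obtain ⟨rfl, hne⟩ := r2 e fun _ => rankGE_psl (by norm_num)
      exact .inr ⟨rfl, hne, .inl ⟨F, i1, i2, i3, ⟨e⟩⟩⟩
    · exact r3 e fun _ => rankGE_psl hn4
  · rcases (by omega : m = 2 ∨ 3 ≤ m) with rfl | hm3
    · obtain ⟨rfl, hne⟩ := r2 e fun _ => rankGE_psp le_rfl
      exact .inr ⟨rfl, hne, .inr (.inl ⟨F, i1, i2, i3, four_le (h2 rfl), ⟨e⟩⟩)⟩
    · exact r3 e fun _ => rankGE_psp hm3
  · rcases (by omega : n = 3 ∨ (n = 4 ∨ n = 5) ∨ 6 ≤ n) with rfl | hn45 | hn6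
    · exact .inl (.inr (.inl ⟨F, i1, i2, i3, q, hF, fun hq => h2 ⟨rfl, hq⟩, ⟨e⟩⟩))
    · exact st e fun _ => stuck_psu hF hn45
    · exact r3 e fun _ => rankGE_psu hF hn6
  · exact r3 e fun _ => rankGE_odd hm hodd
  · exact r3 e fun _ => rankGE_plus hm
  · exact r3 e fun _ => rankGE_minus (show 3 ≤ m - 1 by omega) a b hab
  · rcases hc with ⟨h3, ⟨e⟩⟩ | ⟨⟨e⟩⟩ | ⟨⟨e⟩⟩ | ⟨⟨e⟩⟩ | ⟨⟨e⟩⟩
    · obtain ⟨rfl, -⟩ := r2 e fun _ => rankGE_chev (by simp) le_rfl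
      exact st e fun _ => stuck_g2 h3
    all_goals exact r3 e fun _ => rankGE_chev (by simp) (by decide)
  · rcases hc with ⟨hL, ⟨e⟩⟩ | ⟨hL, ⟨e⟩⟩
    · exact r3 e fun _ => rankGE_twistedE6 hpp hL
    · exact st e fun _ => stuck_twistedD4 hpp hL
  · exact .inl (.inr (.inr (.inl ⟨rfl, hS⟩)))
  · exact st e fun _ => stuck_twistedF4 hL
  · exact .inl (.inr (.inr (.inr ⟨rfl, .inl hR⟩)))

omit [Finite X] [K.Normal] in
theorem even_card {Y : Type*} [Group Y] (e : ↥K ≃* Y) (h : 2 ∣ Nat.card Y) : 2 ∣ Nat.card ↥K :=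
  (Nat.card_congr e.toEquiv).symm ▸ h

omit [Finite X] [K.Normal] in
/-- Simplicity along an isomorphism with a subgroup, so that the instances agree syntactically. -/
theorem simple_of {Y : Type*} [Group Y] (S : Subgroup Y) (e : ↥K ≃* ↥S) (h : IsSimpleGroup ↥S) :
    IsSimpleGroup ↥K :=
  haveI := h
  e.isSimpleGroup

open CfsgLib.Chevalley CfsgLib.Chevalley.TitsGroup in
theorem tits_false {X : Type*} [Group X] [Finite X] {K : Subgroup X} [K.Normal] [Fact (Nat.Prime 2)]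
    (hX : Cfsg.IsPMinimal 2 X) (hC : Subgroup.centralizer (K : Set X) ≤ K) (e : ↥K ≃* Cfsg.Lie.TitsGroup) :
    False := by
  obtain ⟨-, hs, -, hcard⟩ := CfsgLib.Chevalley.TitsGroup.main
  haveI := simple_of _ e hs
  have hc : Nat.card ↥K = 2 ^ 11 * 3 ^ 3 * 5 ^ 2 * 13 := (Nat.card_congr e.toEquiv).trans hcard
  have hdvd : 2 ∣ Nat.card ↥K := by rw [hc]; norm_num
  have h := Twist.F4.transfer hK2 (fun _ G => (↥K ≃* ↥(commutator ↥G)) → False) (case_tits hX hC hdvd)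
  exact h (by simpa using e)

theorem main (hX : Cfsg.IsPMinimal p X) (hC : Subgroup.centralizer (K : Set X) ≤ K)
    (hK : Cfsg.IsChevSimple p ↥K) (U : Sylow p ↥K) : IsCoatom (NX U) ∧ Listed p X K := by
  rcases hK with hK | ⟨rfl, hK⟩ | ⟨rfl, F, iF, iF', hF, ⟨e⟩⟩
  · exact lie_main hX hC hK U
  · rcases hK with ⟨⟨e⟩⟩ | ⟨F, _, _, hF, ⟨e⟩⟩ | ⟨⟨e⟩⟩
    · obtain ⟨h1, h2⟩ := case_A6 hX e U
      exact ⟨h1, .inr ⟨rfl, h2, .inr (.inr ⟨e⟩)⟩⟩
    · exfalso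
      haveI := Cfsg.Agent.S0283.result (F := F) (q := 3) (hF.trans (by norm_num)) 3 le_rfl (by omega)
      haveI := e.isSimpleGroup
      obtain ⟨e'⟩ := CfsgLib.Chevalley.G2Two.iso (F := ZMod 2) (K := F) (ZMod.card 2) hF
      refine case_U33 hX hC (even_card (e.trans e'.symm) ?_) (e.trans e'.symm)
      rw [CfsgLib.BNPair.AutFixU.card_derived]
      norm_num
    · exfalso
      exact tits_false hX hC e
  · haveI : IsSimpleGroup (Matrix.ProjectiveSpecialLinearGroup (Fin 2) F) :=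
      CfsgLib.Classical.psl_fin_isSimpleGroup le_rfl (fun _ => by omega)
    haveI := e.isSimpleGroup
    have hcard : Nat.card ↥K = 504 := by
      have h := Cfsg.Agent.S0243.result (F := F) hF 2 le_rfl
      rw [← Nat.card_congr e.toEquiv] at h
      norm_num [Fin.prod_univ_two] at h
      omega
    exact ⟨coatom_of_coatom hX U U (coatom_504 hcard U), .inl (.inr (.inr (.inr ⟨rfl, .inr ⟨F, iF, iF', hF, ⟨e⟩⟩⟩)))⟩

/-- Let X be a finite p-minimal group whose generalized Fitting subgroup K = F*(X) is a simple group of Lie type in characteristic p, and let U be a Sylow p-subgroup of K. Then N_X(U) is a maximal subgroup of X, and either K has Lie rank one (K ≅ PSL₂(pᵉ), PSU₃(pᵉ), a Suzuki group for p = 2, or a Ree group or PSL₂(8) for p = 3), or p = 2, K ≠ X and K is isomorphic to PSL₃(2ᵉ) or to PSp₄(2ᵉ) (e ≥ 2) or to the alternating group of degree 6. -/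
theorem result {X : Type*} [Group X] [Finite X] {p : ℕ} [Fact p.Prime] (hX : Cfsg.IsPMinimal p X) (hK : Cfsg.IsChevSimple p ↥(Cfsg.generalizedFittingSubgroup X)) (U : Sylow p ↥(Cfsg.generalizedFittingSubgroup X)) : IsCoatom (Subgroup.normalizer (((U : Subgroup ↥(Cfsg.generalizedFittingSubgroup X)).map (Cfsg.generalizedFittingSubgroup X).subtype : Subgroup X) : Set X)) ∧ (Cfsg.IsLieRankOneChar p ↥(Cfsg.generalizedFittingSubgroup X) ∨ (p = 2 ∧ Cfsg.generalizedFittingSubgroup X ≠ ⊤ ∧ ((∃ (F : Type) (_ : Field F) (_ : Fintype F) (_ : CharP F 2), Nonempty (↥(Cfsg.generalizedFittingSubgroup X) ≃* Matrix.ProjectiveSpecialLinearGroup (Fin 3) F)) ∨ (∃ (F : Type) (_ : Field F) (_ : Fintype F) (_ : CharP F 2), 4 ≤ Fintype.card F ∧ Nonempty (↥(Cfsg.generalizedFittingSubgroup X) ≃* Cfsg.PSp 2 F)) ∨ Nonempty (↥(Cfsg.generalizedFittingSubgroup X) ≃* ↥(alternatingGroup (Fin 6)))))) := by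
  haveI : (Cfsg.generalizedFittingSubgroup X).Characteristic :=
    CfsgLib.Components.generalizedFittingSubgroup_characteristic
  exact main hX CfsgLib.Components.centralizer_generalizedFitting_le hK U

end Cfsg.Agent.S2937
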