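import Cfsg.Statements.S2940


set_option autoImplicit false
open Cfsg

namespace Cfsg.Agent.S2940

/-- Let S be a Sylow p-subgroup of the finite group G and G₁, G₂ subgroups containing S with G = G₁G₂. Then for every g ∈ G there is a Sylow p-subgroup U of G with S ∩ S^g ≤ U ≤ G₁ ∩ G₂^g (conjugates taken as X^g = g⁻¹Xg). -/
theorem result {G : Type*} [Group G] [Finite G] {p : ℕ} [Fact p.Prime] (S : Sylow p G) (G₁ G₂ : Subgroup G) (h1 : (S : Subgroup G) ≤ G₁) (h2 : (S : Subgroup G) ≤ G₂) (hfact : ∀ g : G, ∃ g₁ ∈ G₁, ∃ g₂ ∈ G₂, g = g₁ * g₂) (g : G) : ∃ U : Sylow p G, (S : Subgroup G) ⊓ Cfsg.subgroupConjRight g (S : Subgroup G) ≤ (U : Subgroup G) ∧ (U : Subgroup G) ≤ G₁ ⊓ Cfsg.subgroupConjRight g G₂ := by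
  obtain ⟨a, ha, b, hb, hab⟩ := hfact g⁻¹
  set I := G₁ ⊓ Cfsg.subgroupConjRight g G₂ with hI
  have hmem : ∀ (X : Subgroup G) (y : G), y ∈ Cfsg.subgroupConjRight g X ↔ g * y * g⁻¹ ∈ X := by
    intro X y
    constructor
    · rintro ⟨z, hz, rfl⟩
      simpa [mul_assoc] using hz
    · exact fun h => ⟨_, h, by simp [mul_assoc]⟩
  have hS' : ((a • S : Sylow p G) : Subgroup G) ≤ I := by
    rw [Sylow.smul_def, Sylow.pointwise_smul_def]
    rintro _ ⟨s, hs, rfl⟩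
    refine Subgroup.mem_inf.mpr ⟨mul_mem (mul_mem ha (h1 hs)) (inv_mem ha), (hmem _ _).mpr ?_⟩
    have hg : g = b⁻¹ * a⁻¹ := by rw [← inv_inv g, hab, mul_inv_rev]
    show g * (a * s * a⁻¹) * g⁻¹ ∈ G₂
    rw [hg, show b⁻¹ * a⁻¹ * (a * s * a⁻¹) * (b⁻¹ * a⁻¹)⁻¹ = b⁻¹ * s * b by group]
    exact mul_mem (mul_mem (inv_mem hb) (h2 hs)) hb
  have hT : (S : Subgroup G) ⊓ Cfsg.subgroupConjRight g (S : Subgroup G) ≤ I :=
    inf_le_inf h1 (fun y hy => (hmem _ _).mpr (h2 ((hmem _ _).mp hy)))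
  have hTp : IsPGroup p (((S : Subgroup G) ⊓ Cfsg.subgroupConjRight g (S : Subgroup G)).subgroupOf I) :=
    ((S.isPGroup'.to_le inf_le_left)).of_equiv (Subgroup.subgroupOfEquivOfLe hT).symm
  obtain ⟨U, hU⟩ := hTp.exists_le_sylow
  have hUp : IsPGroup p ((U : Subgroup I).map I.subtype) := U.isPGroup'.map _
  obtain ⟨V, hV⟩ := hUp.exists_le_sylow
  have hcard : Nat.card ((U : Subgroup I).map I.subtype) = Nat.card (V : Subgroup G) := by
    refine le_antisymm (Subgroup.card_le_of_le hV) ?_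
    rw [Sylow.card_eq_multiplicity V, ← Sylow.card_eq_multiplicity (a • S),
      Subgroup.card_map_of_injective I.subtype_injective,
      Sylow.card_eq_multiplicity U, ← Sylow.card_eq_multiplicity ((a • S).subtype hS')]
    rw [Sylow.coe_subtype, Nat.card_congr (Subgroup.subgroupOfEquivOfLe hS').toEquiv]
  have heq := Subgroup.eq_of_le_of_card_ge hV hcard.ge
  refine ⟨V, ?_, ?_⟩
  · rw [← heq]
    exact fun y hy => ⟨⟨y, hT hy⟩, hU (Subgroup.mem_subgroupOf.mpr hy), rfl⟩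
  · rw [← heq]; exact Subgroup.map_subtype_le _

end Cfsg.Agent.S2940
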