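import Cfsg.Statements.S2945
import Cfsg.Agent.Lib.LocalEvenB.JPlaneOrbit

set_option autoImplicit false
open Cfsg
open Subgroup
open CfsgLib CfsgLib.LocalEven CfsgLib.LocalEvenB

namespace Cfsg.Agent.S2945

/-- Let G be a finite group of characteristic 2 type in which every 2-local subgroup is solvable and the centralizer of Ω₁(Z(S)) lies in N_G(S) for every Sylow 2-subgroup S, and let T be a nontrivial 2-subgroup (below, J is the Thompson subgroup generated by the elementary abelian 2-subgroups of largest order), L a subgroup in which T is a Sylow 2-subgroup with J(T) not contained in O₂(L) and C_G(O₂(L)) ≤ O₂(L), and K ≤ L a subgroup that is subnormal in ⟨K, J(T)⟩. If for some conjugate Tᵍ of T, K is a J(Tᵍ)-component with J(Tᵍ) the Thompson subgroup of every Sylow 2-subgroup of N_G(W_K) containing J(Tᵍ) (W_K = [Ω₁(Z(O₂(K))), K]), then K is a J(T)-component. -/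
theorem result {G : Type*} [Group G] [Finite G] (hL : Cfsg.IsCharacteristicTwoType G) (hN : ∀ N : Subgroup G, Cfsg.IsTwoLocal N → Group.IsSolvable ↥N)
    (hZ : ∀ S : Sylow 2 G, Subgroup.centralizer (Cfsg.omegaCenterOf (S : Subgroup G) : Set G) ≤ Subgroup.normalizer ((S : Subgroup G) : Set G)) (T : Subgroup G) (hT : IsPGroup 2 ↥T) (hT1 : T ≠ ⊥) (L : Subgroup G) (hLT : L ∈ Cfsg.jOvergroups T)
    (K : Subgroup G) (hKL : K ≤ L) (hKsn : (K.subgroupOf (K ⊔ Cfsg.thompsonSubgroupOf 2 T)).IsSubnormal)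
    (g : G) (hKg : K ∈ Cfsg.jComponentsZero (T.map (MulAut.conj g).toMonoidHom)) : Cfsg.IsJComponent T K := by
  classical
  haveI : Fact (Nat.Prime 2) := ⟨Nat.prime_two⟩
  haveI : Fact (Nat.Prime 3) := ⟨Nat.prime_three⟩
  obtain ⟨hK, hK0⟩ := hKg
  set J := Cfsg.thompsonSubgroupOf 2 T with hJdef
  set X := K ⊔ J with hX
  have hJL : J ≤ L := (Fusion.Thompson.thompsonSubgroupOf_le T).trans hLT.1.1
  have hXL : X ≤ L := sup_le hKL hJL
  have hKX : K ≤ X := le_sup_left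
  haveI := SylowIn.pCore_normal ↥X 2
  haveI := SylowIn.pCore_normal ↥X 3
  set W := Cfsg.wOf K with hW
  -- `O₂(X)` normalizes `K`
  have hgen := hK.1
  have hres : (Cfsg.pResidual 2 ↥(K.subgroupOf X)).map (K.subgroupOf X).subtype = K.subgroupOf X := by
    refine map_injective X.subtype_injective ?_
    rw [Residual.map_pResidual_eq_closure, MonoidHom.map_closure, map_subgroupOf_eq_of_le hKX]
    conv_rhs => rw [← hgen]
    congr 1
    ext y
    constructor
    · rintro ⟨z, ⟨hz, ho⟩, rfl⟩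
      exact ⟨hz, by rw [Subgroup.coe_subtype, orderOf_coe]; exact Nat.coprime_two_right.1 ho⟩
    · rintro ⟨hy, ho⟩
      exact ⟨⟨y, hKX hy⟩, ⟨hy, by rw [Nat.coprime_two_right, ← orderOf_coe]; exact ho⟩, rfl⟩
  obtain ⟨hQn, -⟩ := Residual.le_normalizer_of_pResidual_eq hKsn hres (SylowIn.isPGroup_pCore ↥X 2)
  set Q := Cfsg.pCoreOf 2 X with hQdef
  have hQK : Q ≤ Subgroup.normalizer (K : Set G) := by
    rintro _ ⟨x, hx, rfl⟩
    have h := hQn hx
    rw [← subgroupOf_normalizer_eq hKX] at h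
    exact h
  have hXQ : X ≤ Subgroup.normalizer (Q : Set G) := SylowIn.normalizer_pCoreOf X
  have hQp : IsPGroup 2 Q := SylowIn.isPGroup_pCoreOf X
  have hK2 : Cfsg.pCoreOf 2 K ≤ Q := by
    intro x hx
    haveI : (Cfsg.pCoreOf 2 K).subgroupOf K |>.Normal :=
      (normal_subgroupOf_iff_le_normalizer (SylowIn.pCoreOf_le (p := 2) K)).2 (SylowIn.normalizer_pCoreOf K)
    have hxK := SylowIn.pCoreOf_le K hx
    have hsn : ((Cfsg.pCoreOf 2 K).subgroupOf X).IsSubnormal := by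
      refine Subgroup.IsSubnormal.step _ (K.subgroupOf X) (fun y hy => SylowIn.pCoreOf_le K hy) hKsn ?_
      refine (normal_subgroupOf_iff_le_normalizer (H := (Cfsg.pCoreOf 2 K).subgroupOf X) fun y hy => SylowIn.pCoreOf_le (p := 2) K hy).2 fun y hy => ?_
      rw [← subgroupOf_normalizer_eq ((SylowIn.pCoreOf_le K).trans hKX)]
      exact SylowIn.normalizer_pCoreOf K hy
    have h := Residual.le_pCore_of_isSubnormal (p := 2) hsn
      ((SylowIn.isPGroup_pCoreOf K).comap_of_injective _ X.subtype_injective)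
      (show (⟨x, hKX hxK⟩ : ↥X) ∈ (Cfsg.pCoreOf 2 K).subgroupOf X from hx)
    exact ⟨_, h, rfl⟩
  have hW4 : Nat.card W = 4 := hK.2.2.2.2.1
  have hWsq : ∀ w ∈ W, w * w = 1 := hK.2.2.2.2.2
  have hWQ : W ≤ Q := ((JAmbient.wOf_le K).trans ((JComponent.omegaCenterOf_le _).trans inf_le_left)).trans hK2
  -- an element of `K` outside `O₂(K)`
  haveI hO2n : (Cfsg.pCoreOf 2 K).subgroupOf K |>.Normal :=
    (normal_subgroupOf_iff_le_normalizer (SylowIn.pCoreOf_le (p := 2) K)).2 (SylowIn.normalizer_pCoreOf K)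
  have hidx : ((Cfsg.pCoreOf 2 K).subgroupOf K).index = 3 := hK.2.2.1
  obtain ⟨k, hk, hkQ⟩ : ∃ k ∈ K, k ∉ Cfsg.pCoreOf 2 K := by
    by_contra h
    push Not at h
    rw [show ((Cfsg.pCoreOf 2 K).subgroupOf K) = ⊤ from subgroupOf_eq_top.2 h, index_top] at hidx
    omega
  have hcube : ∀ y ∈ K, y ^ 3 ∈ Cfsg.pCoreOf 2 K := fun y hy => by
    have h := ((Cfsg.pCoreOf 2 K).subgroupOf K).pow_index_mem ⟨y, hy⟩
    rw [hidx] at h
    exact h
  have hKfrom : ∀ y ∈ K, ∃ q ∈ Cfsg.pCoreOf 2 K, ∃ i : ℤ, y = k ^ i * q := by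
    intro y hy
    haveI : IsCyclic (↥K ⧸ (Cfsg.pCoreOf 2 K).subgroupOf K) := isCyclic_of_prime_card (p := 3) hidx
    have hne : ((⟨k, hk⟩ : ↥K) : ↥K ⧸ (Cfsg.pCoreOf 2 K).subgroupOf K) ≠ 1 := fun e => hkQ (mem_subgroupOf.1 ((QuotientGroup.eq_one_iff _).1 e))
    obtain ⟨i, hi⟩ := mem_zpowers_iff.1 (zpowers_eq_top_of_prime_card (p := 3) hidx hne ▸
      mem_top ((⟨y, hy⟩ : ↥K) : ↥K ⧸ (Cfsg.pCoreOf 2 K).subgroupOf K))
    rw [← QuotientGroup.mk_zpow, QuotientGroup.eq] at hi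
    refine ⟨_, hi, i, ?_⟩
    simp
  have hfpfW : ∀ w ∈ W, k * w * k⁻¹ = w → w = 1 := fun w hw he => JAmbient.wfix hK w hw fun y hy => by
    obtain ⟨q, hq, i, rfl⟩ := hKfrom y hy
    have c1 : Commute (k ^ i) w := (Commute.zpow_left (show Commute k w from mul_inv_eq_iff_eq_mul.1 he) i)
    exact (c1.mul_left (JAmbient.q_fix K q hq w hw)).eq
  have hKW : K ≤ Subgroup.normalizer (W : Set G) := Subgroup.le_normalizer.trans (JAmbient.conjK_le_normalizer_wOf K)
  -- `Q` centralizes `W`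
  have hQW : ∀ q ∈ Q, ∀ w ∈ W, q * w = w * q := by
    set C := W ⊓ Subgroup.centralizer (Q : Set G) with hC
    have hCk : ∀ c ∈ C, k * c * k⁻¹ ∈ C := fun c hc => by
      refine mem_inf.2 ⟨(mem_normalizer_iff.1 (hKW hk) c).1 hc.1, mem_centralizer_iff.2 fun q hq => ?_⟩
      have hq' : k⁻¹ * q * k ∈ Q := by simpa using (mem_normalizer_iff.1 (inv_mem (hXQ (hKX hk))) q).1 hq
      have := mem_centralizer_iff.1 hc.2 _ hq'
      calc q * (k * c * k⁻¹) = k * ((k⁻¹ * q * k) * c) * k⁻¹ := by group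
        _ = k * (c * (k⁻¹ * q * k)) * k⁻¹ := by rw [this]
        _ = k * c * k⁻¹ * q := by group
    obtain ⟨c, hc, hc1⟩ : ∃ c ∈ C, c ≠ 1 := by
      letI : MulAction ↥Q ↥W :=
        { smul := fun q w => ⟨q * w * (q : G)⁻¹, (mem_normalizer_iff.1 ((hQK.trans (JAmbient.conjK_le_normalizer_wOf K)) q.2) w).1 w.2⟩
          one_smul := fun w => Subtype.ext (by show (1 : G) * w * (1 : G)⁻¹ = w; group)
          mul_smul := fun a b w => Subtype.ext (by
            show (a : G) * b * w * ((a : G) * b)⁻¹ = a * (b * w * (b : G)⁻¹) * (a : G)⁻¹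
            group) }
      have h1 : (1 : ↥W) ∈ MulAction.fixedPoints ↥Q ↥W := fun q => Subtype.ext (by
        show (q : G) * 1 * (q : G)⁻¹ = 1
        group)
      obtain ⟨c, hc, hc1⟩ := hQp.exists_fixed_point_of_prime_dvd_card_of_fixed_point ↥W (by rw [hW4]; norm_num) h1
      refine ⟨c, ⟨c.2, mem_centralizer_iff.2 fun q hq => ?_⟩, fun e => hc1 (Subtype.ext e.symm)⟩
      exact mul_inv_eq_iff_eq_mul.1 (congrArg Subtype.val (hc ⟨q, hq⟩))
    have h3 : 3 ≤ Nat.card C := by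
      have hss : ({1, c, k * c * k⁻¹} : Set G) ⊆ (C : Set G) := by
        rintro y (rfl | rfl | rfl)
        exacts [one_mem _, hc, hCk c hc]
      have h3' : ({1, c, k * c * k⁻¹} : Set G).ncard = 3 := by
        rw [Set.ncard_eq_three]
        exact ⟨1, c, k * c * k⁻¹, Ne.symm hc1, fun e => hc1 (conj_eq_one_iff.1 e.symm),
          fun e => hc1 (hfpfW c hc.1 e.symm), rfl⟩
      have := Set.ncard_le_ncard hss (Set.toFinite _)
      rwa [h3', ← Nat.card_coe_set_eq] at this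
    have hCW : C = W := by
      refine eq_of_le_of_card_ge inf_le_left ?_
      have hd : Nat.card C ∣ 4 := hW4 ▸ card_dvd_of_le inf_le_left
      rw [hW4]
      have := Nat.le_of_dvd (by norm_num) hd
      rcases (by omega : Nat.card C = 3 ∨ Nat.card C = 4) with e | e
      · rw [e] at hd; norm_num at hd
      · exact e.ge
    exact fun q hq w hw => mem_centralizer_iff.1 (show w ∈ C from hCW.symm ▸ hw).2 q hq
  set V := Cfsg.omegaCenterOf Q with hVdef
  have hVQ : V ≤ Q := (JComponent.omegaCenterOf_le _).trans inf_le_left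
  have hVc : ∀ x ∈ V, ∀ y ∈ V, x * y = y * x := fun x hx y hy =>
    mem_centralizer_iff.1 (JComponent.omegaCenterOf_le _ hy).2 x (hVQ hx)
  have hV2 : ∀ v ∈ V, v * v = 1 := fun v hv => JComponent.mul_self_of_mem_omegaCenterOf _ hv
  have hVEA : Cfsg.IsElementaryAbelian 2 V := ⟨IsMulCommutative.of_comm fun a b =>
    Subtype.ext (hVc a a.2 b b.2), fun v hv => by rw [pow_two]; exact hV2 v hv⟩
  have hXV : X ≤ Subgroup.normalizer (V : Set G) := hXQ.trans (JComponent.normalizer_le_omegaCenterOf Q)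
  have hVX : V ≤ X := hVQ.trans (SylowIn.pCoreOf_le X)
  have hWV : W ≤ V := fun w hw => Subgroup.subset_closure
    ⟨⟨hWQ hw, mem_centralizer_iff.2 fun q hq => hQW q hq w hw⟩, by rw [pow_two]; exact hWsq w hw⟩
  have hO2V : ∀ q ∈ Cfsg.pCoreOf 2 K, ∀ v ∈ V, q * v * q⁻¹ = v := fun q hq v hv => by
    rw [mem_centralizer_iff.1 (JComponent.omegaCenterOf_le _ hv).2 q (hK2 hq), mul_inv_cancel_right]
  have hact : ∀ v ∈ V, k * v * k⁻¹ * v⁻¹ ∈ W := by
    intro v hv
    set c := k * v * k⁻¹ * v⁻¹ with hcdef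
    have hcV : c ∈ V := mul_mem ((mem_normalizer_iff.1 (hXV (hKX hk)) v).1 hv) (inv_mem hv)
    have hcK : c ∈ K := by
      have h1 : v * k⁻¹ * v⁻¹ ∈ K := (mem_normalizer_iff.1 (hQK (hVQ hv)) k⁻¹).1 (inv_mem hk)
      have := mul_mem hk h1
      rwa [← mul_assoc, ← mul_assoc] at this
    have hcO : c ∈ Cfsg.pCoreOf 2 K := by
      have hp : IsPGroup 2 ↥(Q ⊓ K : Subgroup G) := hQp.to_le inf_le_left
      refine SylowIn.le_pCoreOf (inf_le_right : Q ⊓ K ≤ K) ?_ hp ⟨hVQ hcV, hcK⟩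
      exact (le_inf (hKX.trans hXQ) Subgroup.le_normalizer).trans inf_normalizer_le_normalizer_inf
    have hZmem : ∀ z ∈ V, z ∈ Cfsg.pCoreOf 2 K → z ∈ Cfsg.omegaCenterOf (Cfsg.pCoreOf 2 K) := fun z hz hzO =>
      Subgroup.subset_closure ⟨⟨hzO, mem_centralizer_iff.2 fun q hq => mul_inv_eq_iff_eq_mul.1 (hO2V q hq z hz)⟩,
        by rw [pow_two]; exact hV2 z hz⟩
    have hkin : ∀ z ∈ Cfsg.omegaCenterOf (Cfsg.pCoreOf 2 K), ∀ y ∈ K, z * y * z⁻¹ * y⁻¹ ∈ W := fun z hz y hy => by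
      rw [← commutatorElement_def]; exact commutator_mem_commutator hz hy
    set x1 := k * c * k⁻¹ with hx1
    set x2 := k * x1 * k⁻¹ with hx2
    have hx1V : x1 ∈ V := (mem_normalizer_iff.1 (hXV (hKX hk)) c).1 hcV
    have hx2V : x2 ∈ V := (mem_normalizer_iff.1 (hXV (hKX hk)) x1).1 hx1V
    have hprod : x2 * x1 * c = 1 := by
      have h3 : k ^ 3 * v * (k ^ 3)⁻¹ = v := hO2V _ (hcube k hk) v hv
      have e : x2 * x1 * c = k ^ 3 * v * (k ^ 3)⁻¹ * v⁻¹ := by
        simp [hx2, hx1, hcdef, pow_succ, mul_assoc]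
      rw [e, h3, mul_inv_cancel]
    have hz := hZmem c hcV hcO
    have h1 : c * x1 ∈ W := by
      have e1 : c * k * c⁻¹ * k⁻¹ = c * x1⁻¹ := by rw [hx1]; group
      have := hkin c hz k hk
      rw [e1, inv_eq_of_mul_eq_one_right (hV2 x1 hx1V)] at this
      exact this
    have h2 : c * x2 ∈ W := by
      have e1 : c * (k * k) * c⁻¹ * (k * k)⁻¹ = c * x2⁻¹ := by rw [hx2, hx1]; simp [mul_assoc]
      have := hkin c hz (k * k) (mul_mem hk hk)
      rw [e1, inv_eq_of_mul_eq_one_right (hV2 x2 hx2V)] at this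
      exact this
    have h3 : c * x1 * (c * x2) = c := by
      rw [show c * x1 * (c * x2) = c * (x1 * c) * x2 by group, hVc x1 hx1V c hcV,
        show c * (c * x1) * x2 = c * c * (x1 * x2) by group, hV2 c hcV, one_mul, hVc x1 hx1V x2 hx2V]
      exact (eq_inv_of_mul_eq_one_left hprod).trans (inv_eq_of_mul_eq_one_right (hV2 c hcV))
    rw [← h3]; exact mul_mem h1 h2
  have hPl : JPlaneOrbit.Pl V k W :=
    ⟨hXV (hKX hk), hWV, hW4, hact, hfpfW, fun v hv => hO2V _ (hcube k hk) v hv⟩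
  -- a Sylow `3`-subgroup covering `O₃` of the induced group
  set C := (Subgroup.centralizer (V : Set G)).subgroupOf X with hCdef
  haveI hCn : C.Normal := by
    refine normalizer_eq_top_iff.1 (top_le_iff.1 fun x _ => ?_)
    refine mem_normalizer_iff.2 fun y => ?_
    have hx : (x : G) ∈ Subgroup.normalizer (Subgroup.centralizer (V : Set G) : Set G) := by
      refine SylowIn.map_conj_eq_iff.1 ?_
      rw [← SylowIn.centralizer_map_conj, SylowIn.map_conj_eq_iff.2 (hXV x.2)]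
    exact mem_normalizer_iff.1 hx y
  haveI := SylowIn.pCore_normal (↥X ⧸ C) 3
  set π := QuotientGroup.mk' C with hπ
  set M := (Cfsg.pCore 3 (↥X ⧸ C)).comap π with hM
  have hkM : (⟨k, hKX hk⟩ : ↥X) ∈ M := by
    have hsn : ((K.subgroupOf X).map π).IsSubnormal := hKsn.map (QuotientGroup.mk'_surjective C)
    refine Residual.le_pCore_of_isSubnormal (p := 3) hsn ?_ (mem_map_of_mem π hk)
    rintro ⟨_, y, hy, rfl⟩
    refine ⟨1, Subtype.ext ?_⟩
    show π y ^ 3 ^ 1 = 1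
    rw [pow_one, ← map_pow, hπ, QuotientGroup.mk'_apply, QuotientGroup.eq_one_iff]
    exact mem_centralizer_iff.2 fun v hv => (mul_inv_eq_iff_eq_mul.1 (hO2V _ (hcube y hy) v hv)).symm
  obtain ⟨R0⟩ : Nonempty (Sylow 3 ↥M) := inferInstance
  set R1 := (R0 : Subgroup ↥M).map M.subtype with hR1
  set R := R1.map X.subtype with hR
  have hRp : IsPGroup 3 R := (R0.isPGroup'.map _).map _
  have hcover : ∀ m ∈ M, ∃ r ∈ R1, π r = π m := by
    have hf : Function.Surjective (π.subgroupComap (Cfsg.pCore 3 (↥X ⧸ C))) := by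
      rintro ⟨y, hy⟩
      obtain ⟨x, rfl⟩ := QuotientGroup.mk'_surjective C y
      exact ⟨⟨x, hy⟩, rfl⟩
    set f := π.subgroupComap (Cfsg.pCore 3 (↥X ⧸ C)) with hfdef
    have htop : (R0 : Subgroup ↥M).map f = ⊤ := by
      have hmax := (R0.mapSurjective hf).is_maximal' (Q := ⊤)
        ((SylowIn.isPGroup_pCore (↥X ⧸ C) 3).to_subgroup ⊤) le_top
      exact hmax.symm
    intro m hm
    obtain ⟨r, hr, hrm⟩ := (htop.symm ▸ mem_top (f ⟨m, hm⟩) : f ⟨m, hm⟩ ∈ (R0 : Subgroup ↥M).map f)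
    exact ⟨(r : ↥X), mem_map_of_mem _ hr, congrArg Subtype.val hrm⟩
  haveI hMn : M.Normal := inferInstance
  have hnorm : ∀ A, JComponent.MaxIn T A → A ≤ Subgroup.normalizer (W : Set G) := by
    intro A hA
    have hAJ : A ≤ J := JComponent.maxIn_le hA
    have hAX : A ≤ X := hAJ.trans le_sup_right
    refine JPlaneOrbit.normalizes hVc hRp hA.2.1 (hAX.trans hXV) hV2 ?_ hPl ?_
    · intro B hBA
      set CV := V ⊓ Subgroup.centralizer (B : Set G)
      have hBEA : Cfsg.IsElementaryAbelian 2 B :=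
        ⟨IsMulCommutative.of_comm fun a b => Subtype.ext (Fusion.Thompson.mul_comm_of_isEA hA.2.1 (hBA a.2) (hBA b.2)),
          fun x hx => hA.2.1.2 x (hBA hx)⟩
      have hCVEA : Cfsg.IsElementaryAbelian 2 CV :=
        ⟨IsMulCommutative.of_comm fun a b => Subtype.ext (hVc a a.2.1 b b.2.1), fun v hv => hVEA.2 v hv.1⟩
      have hBC : B ≤ Subgroup.centralizer (CV : Set G) := le_centralizer_iff.1 inf_le_right
      have h1 := JPlanes.card_le_of_sylow hLT.1 hA (sup_le ((hBA.trans hAX).trans hXL) ((inf_le_left.trans hVX).trans hXL))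
        (JComponent.isEA_sup hBEA hCVEA hBC)
      have h2 := Fusion.Thompson.card_sup_mul_card_inf (N := B) (K := CV)
        ((le_centralizer_iff.1 hBC).trans (centralizer_le_normalizer _))
      have h3 : Nat.card ↥(B ⊓ CV) ≤ Nat.card ↥(V ⊓ Subgroup.centralizer (A : Set G)) :=
        card_le_of_le fun x hx => ⟨hx.2.1, mem_centralizer_iff.2 fun a ha =>
          Fusion.Thompson.mul_comm_of_isEA hA.2.1 ha (hBA hx.1)⟩
      rw [← h2]
      exact Nat.mul_le_mul h1 h3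
    · intro a ha
      have hm : (⟨a, hAX ha⟩ : ↥X) * ⟨k, hKX hk⟩ * (⟨a, hAX ha⟩ : ↥X)⁻¹ ∈ M := hMn.conj_mem _ hkM _
      obtain ⟨r, hr, hrm⟩ := hcover _ hm
      refine ⟨r, mem_map_of_mem _ hr, hXV r.2, fun v hv => ?_⟩
      rw [hπ, QuotientGroup.mk'_apply, QuotientGroup.mk'_apply, QuotientGroup.eq] at hrm
      have hc := mem_centralizer_iff.1 (mem_subgroupOf.1 hrm) v hv
      simp only [Subgroup.coe_mul, Subgroup.coe_inv] at hc
      set b := a * k * a⁻¹
      calc (r : G) * v * (r : G)⁻¹ = (r : G) * (v * ((r : G)⁻¹ * b)) * b⁻¹ := by group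
        _ = (r : G) * ((r : G)⁻¹ * b * v) * b⁻¹ := by rw [hc]
        _ = b * v * b⁻¹ := by group
  -- conclude with `J(T) ≤ N(W_K)`
  have hJN : J ≤ Subgroup.normalizer (W : Set G) := JComponent.thompson_le hnorm
  have hT'p : IsPGroup 2 ↥(T.map (MulAut.conj g).toMonoidHom) := hT.map _
  have hT'1 : T.map (MulAut.conj g).toMonoidHom ≠ ⊥ := fun e =>
    hT1 ((map_eq_bot_iff_of_injective _ (MulAut.conj g).injective).1 e)
  have hback : (T.map (MulAut.conj g).toMonoidHom).map (MulAut.conj g⁻¹).toMonoidHom = T := by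
    rw [SylowIn.map_conj_conj, inv_mul_cancel, SylowIn.map_conj_one]
  have h := (JAmbient.zero_main hL hN hZ hT'p hT'1 ⟨hK, hK0⟩).2 g⁻¹ (by rw [hback]; exact hJN)
  rwa [hback] at h

end Cfsg.Agent.S2945
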