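import Cfsg.Statements.S2947
import Cfsg.Agent.Lib.Fusion.Thompson


set_option autoImplicit false
open Cfsg

namespace Cfsg.Agent.S2947

/-- Let G be a finite group of characteristic 2 type in which every 2-local subgroup is solvable and the centralizer of Ω₁(Z(S)) lies in N_G(S) for every Sylow 2-subgroup S; suppose O₂(G) = 1, fix a Sylow 2-subgroup S and a 2-local subgroup M containing N_G(J(S)) (J the Thompson subgroup generated by the elementary abelian 2-subgroups of largest order). Then M is strongly embedded in G (a proper subgroup of even order whose intersection with each conjugate by an element outside M has odd order) if and only if no nontrivial 2-subgroup of M lies in a 2-local subgroup of G not contained in M. -/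
theorem result {G : Type*} [Group G] [Finite G] (hL : Cfsg.IsCharacteristicTwoType G) (hN : ∀ N : Subgroup G, Cfsg.IsTwoLocal N → Group.IsSolvable ↥N)
    (hZ : ∀ S : Sylow 2 G, Subgroup.centralizer (Cfsg.omegaCenterOf (S : Subgroup G) : Set G) ≤ Subgroup.normalizer ((S : Subgroup G) : Set G)) (hO : Cfsg.pCore 2 G = ⊥) (S : Sylow 2 G) (M : Subgroup G) (hM : Cfsg.IsTwoLocal M)
    (hMJ : Subgroup.normalizer (Cfsg.thompsonSubgroupOf 2 (S : Subgroup G) : Set G) ≤ M) :
    Cfsg.IsStronglyEmbedded M ↔ Cfsg.straddlingTwoSubgroups M = ∅ := by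
  constructor
  · rintro ⟨hne, hev, hodd⟩
    -- normalizers of nontrivial 2-subgroups of M lie in M
    have hnorm : ∀ V : Subgroup G, IsPGroup 2 V → V ≠ ⊥ → V ≤ M →
        Subgroup.normalizer (V : Set G) ≤ M := by
      intro V hV hV1 hVM g hg
      by_contra hgM
      have h1 : V ≤ M ⊓ M.map (MulAut.conj g).toMonoidHom := by
        refine le_inf hVM ?_
        intro v hv
        refine ⟨g⁻¹ * v * g, hVM ?_, ?_⟩
        · simpa using (Subgroup.mem_normalizer_iff.mp (inv_mem hg) v).mp hv
        · show g * (g⁻¹ * v * g) * g⁻¹ = v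
          group
      have h2 : 2 ∣ Nat.card V := by
        rcases (IsPGroup.iff_card.mp hV) with ⟨n, hn⟩
        cases n with
        | zero =>
          exact absurd (Subgroup.card_eq_one.mp (by simpa using hn)) hV1
        | succ n => exact ⟨2 ^ n, by rw [hn, pow_succ, mul_comm]⟩
      have h3 := h2.trans (Subgroup.card_dvd_of_le h1)
      exact (Nat.not_even_iff_odd.mpr (hodd g hgM)) (even_iff_two_dvd.mpr h3)
    rw [Set.eq_empty_iff_forall_notMem]
    rintro T ⟨hT, hT1, hTM, L, ⟨U, hU, hU1, rfl⟩, hTL, hLM⟩
    apply hLM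
    apply hnorm U hU hU1
    -- U ≤ M
    have hTU : IsPGroup 2 ↥(U ⊔ T) := IsPGroup.to_sup_of_normal_left' hU hT hTL
    haveI : Fact (Nat.Prime 2) := ⟨Nat.prime_two⟩
    haveI := hTU.isNilpotent
    by_contra hUM
    set H : Subgroup ↥(U ⊔ T) := M.subgroupOf (U ⊔ T) with hH
    have hlt : H < ⊤ := by
      rw [lt_top_iff_ne_top]
      intro h
      rw [hH, Subgroup.subgroupOf_eq_top] at h
      exact hUM (le_sup_left.trans h)
    have hlt2 := normalizerCondition_of_isNilpotent (G := ↥(U ⊔ T)) H hlt
    obtain ⟨x, hx, hxH⟩ := SetLike.exists_of_lt hlt2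
    apply hxH
    rw [hH, Subgroup.mem_subgroupOf]
    set V := M ⊓ (U ⊔ T) with hVdef
    have hV : IsPGroup 2 V := hTU.to_le inf_le_right
    have hV1 : V ≠ ⊥ := by
      intro h
      apply hT1
      rw [eq_bot_iff, ← h]
      exact le_inf hTM le_sup_right
    refine hnorm V hV hV1 inf_le_left ?_
    rw [Subgroup.mem_normalizer_iff]
    intro y
    constructor
    · intro hy
      rw [hVdef, Subgroup.mem_inf] at hy ⊢
      have := (Subgroup.mem_normalizer_iff.mp hx ⟨y, hy.2⟩).mp (by
        rw [hH, Subgroup.mem_subgroupOf]; exact hy.1)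
      rw [hH, Subgroup.mem_subgroupOf] at this
      exact ⟨this, mul_mem (mul_mem x.2 hy.2) (inv_mem x.2)⟩
    · intro hy
      rw [hVdef, Subgroup.mem_inf] at hy ⊢
      have hyU : y ∈ U ⊔ T := by
        have := mul_mem (mul_mem (inv_mem x.2) hy.2) x.2
        simpa [mul_assoc] using this
      have := (Subgroup.mem_normalizer_iff.mp hx ⟨y, hyU⟩).mpr (by
        rw [hH, Subgroup.mem_subgroupOf]; exact hy.1)
      rw [hH, Subgroup.mem_subgroupOf] at this
      exact ⟨this, hyU⟩
  · intro hemp
    obtain ⟨U, hU, hU1, hMU⟩ := hM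
    have hne : M ≠ ⊤ := by
      intro h
      apply hU1
      have : U.Normal := Subgroup.normalizer_eq_top_iff.mp (hMU ▸ h)
      rw [eq_bot_iff, ← hO]
      exact le_sSup ⟨this, hU⟩
    have hUM : U ≤ M := hMU ▸ Subgroup.le_normalizer
    have hev : Even (Nat.card M) := by
      rcases (IsPGroup.iff_card.mp hU) with ⟨n, hn⟩
      cases n with
      | zero => exact absurd (Subgroup.card_eq_one.mp (by simpa using hn)) hU1
      | succ n =>
        exact even_iff_two_dvd.mpr ((Dvd.intro_left _ (pow_succ 2 n).symm).trans (hn ▸ Subgroup.card_dvd_of_le hUM))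
    refine ⟨hne, hev, fun g hg => ?_⟩
    rw [← Nat.not_even_iff_odd]
    intro he
    haveI := Fact.mk Nat.prime_two
    obtain ⟨t, ht⟩ := exists_prime_orderOf_dvd_card' 2 (even_iff_two_dvd.mp he)
    have ht' : orderOf (t : G) = 2 := by rw [Subgroup.orderOf_coe]; exact ht
    have htM : (t : G) ∈ M := (Subgroup.mem_inf.mp t.2).1
    have htg : (t : G) ∈ M.map (MulAut.conj g).toMonoidHom := (Subgroup.mem_inf.mp t.2).2
    have hgL : Cfsg.IsTwoLocal (M.map (MulAut.conj g).toMonoidHom) := by
      refine ⟨U.map (MulAut.conj g).toMonoidHom, hU.map _, ?_, ?_⟩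
      · rwa [Ne, Subgroup.map_eq_bot_iff_of_injective _ (MulAut.conj g).injective]
      · rw [hMU, Subgroup.map_equiv_normalizer_eq]
    have hle : M.map (MulAut.conj g).toMonoidHom ≤ M := by
      by_contra h
      have hmem : Subgroup.zpowers (t : G) ∈ Cfsg.straddlingTwoSubgroups M := by
        refine ⟨IsPGroup.of_card (n := 1) (by rw [Nat.card_zpowers, ht', pow_one]), ?_,
          Subgroup.zpowers_le.mpr htM, _, hgL, Subgroup.zpowers_le.mpr htg, h⟩
        rw [Ne, Subgroup.zpowers_eq_bot]
        intro h1; rw [h1] at ht'; simp at ht'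
      rw [hemp] at hmem; exact hmem
    have heq : M.map (MulAut.conj g).toMonoidHom = M :=
      SetLike.coe_injective (Set.eq_of_subset_of_ncard_le hle
        (le_of_eq (Set.ncard_image_of_injective _ (MulAut.conj g).injective).symm)
        (Set.toFinite _))
    have hgN : g ∈ Subgroup.normalizer (M : Set G) := by
      rw [Subgroup.mem_normalizer_iff]
      intro x
      constructor
      · intro hx
        exact heq ▸ ⟨x, hx, rfl⟩
      · intro hx
        rw [← heq] at hx
        obtain ⟨y, hy, hyx⟩ := hx
        have : y = x := (MulAut.conj g).injective (show (MulAut.conj g) y = (MulAut.conj g) x from hyx)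
        exact this ▸ hy
    apply hg
    -- M contains the normalizer of S, so is self normalizing
    have hNS : Subgroup.normalizer ((S : Subgroup G) : Set G) ≤ M :=
      (CfsgLib.Fusion.Thompson.normalizer_le_normalizer_thompsonOf (p := 2) _).trans hMJ
    have hSM : (S : Subgroup G) ≤ M := Subgroup.le_normalizer.trans hNS
    have hS2 : (g • S : Sylow 2 G).toSubgroup ≤ M := by
      rintro x ⟨s, hs, rfl⟩
      exact (Subgroup.mem_normalizer_iff.mp hgN s).mp (hSM hs)
    obtain ⟨m, hm⟩ := MulAction.exists_smul_eq M ((g • S).subtype hS2) (S.subtype hSM)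
    have h3 : ((m : G) * g) • S = S := by
      rw [mul_smul]
      rw [Sylow.smul_subtype] at hm
      exact Sylow.subtype_injective hm
    have h4 : (m : G) * g ∈ M := hNS (Sylow.smul_eq_iff_mem_normalizer.mp h3)
    simpa using mul_mem (inv_mem m.2) h4

end Cfsg.Agent.S2947
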