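import Cfsg.Statements.S2951
import Cfsg.Agent.Lib.LocalEvenB.JGlobal

set_option autoImplicit false
open Cfsg

namespace Cfsg.Agent.S2951

/-- Let G be a finite group of characteristic 2 type in which every 2-local subgroup is solvable and the centralizer of Ω₁(Z(S)) lies in N_G(S) for every Sylow 2-subgroup S; suppose O₂(G) = 1, fix a Sylow 2-subgroup S and a 2-local subgroup M containing N_G(J(S)) (J the Thompson subgroup generated by the elementary abelian 2-subgroups of largest order), and put Z = Ω₁(Z(S)). Let T ≤ S be maximal (for the order of a largest elementary abelian subgroup, then the order of J(T), then the order of T) among the nontrivial 2-subgroups of M lying in a 2-local subgroup not inside M, K a J(T)-component not contained in M with J(T) the Thompson subgroup of every Sylow 2-subgroup of N_G(W_K) containing J(T), and O₂(⟨K, T⟩) ≠ 1, L a maximal 2-local subgroup containing ⟨K, J(T)⟩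 (there is only one), and Z₀ = Ω₁(Z(J(T))). Then Z₀ ∩ W_K ≠ 1, and one of: Z = Z₀ has order 2; Z = Z₀ has order 4 and T = S; Ω₁(Z(T)) = Z₀ has order 4 and C_L(Z₀) has index 2 in N_G(Z₀). -/
theorem result {G : Type*} [Group G] [Finite G] (hL : Cfsg.IsCharacteristicTwoType G) (hN : ∀ N : Subgroup G, Cfsg.IsTwoLocal N → Group.IsSolvable ↥N)
    (hZ : ∀ S : Sylow 2 G, Subgroup.centralizer (Cfsg.omegaCenterOf (S : Subgroup G) : Set G) ≤ Subgroup.normalizer ((S : Subgroup G) : Set G)) (hO : Cfsg.pCore 2 G = ⊥) (S : Sylow 2 G) (M : Subgroup G) (hM : Cfsg.IsTwoLocal M)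
    (hMJ : Subgroup.normalizer (Cfsg.thompsonSubgroupOf 2 (S : Subgroup G) : Set G) ≤ M) (T : Subgroup G) (hT : T ∈ Cfsg.maxStraddlingTwoSubgroups M)
    (hTS : T ≤ (S : Subgroup G)) (K : Subgroup G) (hK : K ∈ Cfsg.jComponentsOutside M T)
    (L : Subgroup G) (hLmax : Cfsg.IsMaximalTwoLocal L) (hKL : K ⊔ Cfsg.thompsonSubgroupOf 2 T ≤ L)
    (Z Z₀ : Subgroup G) (hZdef : Z = Cfsg.omegaCenterOf (S : Subgroup G)) (hZ₀ : Z₀ = Cfsg.omegaCenterOf (Cfsg.thompsonSubgroupOf 2 T)) :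
    Z₀ ⊓ Cfsg.wOf K ≠ ⊥ ∧
      ((Z = Z₀ ∧ Nat.card ↥Z₀ = 2) ∨ (Z = Z₀ ∧ Nat.card ↥Z₀ = 4 ∧ T = (S : Subgroup G)) ∨
        (Cfsg.omegaCenterOf T = Z₀ ∧ Nat.card ↥Z₀ = 4 ∧
          (L ⊓ Subgroup.centralizer (Z₀ : Set G)).relIndex (Subgroup.normalizer (Z₀ : Set G)) = 2)) := by
  classical
  have H : CfsgLib.LocalEvenB.JVertex.Hyp G := ⟨hL, hN, hZ⟩
  haveI : Fact (Nat.Prime 2) := ⟨Nat.prime_two⟩
  obtain ⟨hcen, A, N, A', N', b⟩ := CfsgLib.LocalEvenB.JGlobal.main H hO S hMJ hT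
  obtain ⟨L₀, hv, huniq⟩ := CfsgLib.LocalEvenB.JGlobal.vertex_of H hT hMJ hK
  obtain rfl : L = L₀ := huniq L hLmax hKL
  subst hZdef hZ₀
  obtain ⟨f, hfW, hfZ, hf1, -⟩ := CfsgLib.LocalEvenB.JVertex.Vertex.exists_f hv
  refine ⟨fun e => hf1 (Subgroup.mem_bot.1 (e ▸ ⟨hfZ, hfW⟩)), ?_⟩
  have hT2 := CfsgLib.LocalEvenB.JVertex.Vertex.t_pgroup hv
  rcases CfsgLib.LocalEvenB.JPairs.card_two_or_four hT2 hv.comp b.card_dd.2 with h | h
  · left
    refine ⟨Subgroup.eq_of_le_of_card_ge (CfsgLib.LocalEvenB.JGlobal.omega_le H hv S hTS) ?_, h⟩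
    obtain ⟨z, hz, hz1⟩ := CfsgLib.LocalEvenB.JGlobal.exists_omega hv S hTS
    rw [h]
    haveI : Nontrivial ↥(Cfsg.omegaCenterOf (S : Subgroup G)) :=
      ⟨⟨z, hz⟩, 1, fun e => hz1 (congrArg Subtype.val e)⟩
    exact Finite.one_lt_card
  by_cases hne : T = (S : Subgroup G)
  · subst hne
    exact Or.inr (Or.inl ⟨le_antisymm (CfsgLib.LocalEvenB.JGlobal.omega_le H hv S le_rfl)
      (CfsgLib.LocalEvenB.JGlobal.le_omega H S hv hcen), h, rfl⟩)
  right; right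
  obtain ⟨t, htS, htn, -, -, -, z, -, -, hzZ, -, hczS, -, hd⟩ :=
    CfsgLib.LocalEvenB.JGlobal.proper_facts H hv S hTS hne
  refine ⟨le_antisymm (fun x hx => ?_) (fun x hx => ?_), h, ?_⟩
  · have hxT := CfsgLib.LocalEvenB.JComponent.omegaCenterOf_le _ hx
    exact CfsgLib.LocalEvenB.JPairs.mem_z hxT.1 (CfsgLib.LocalEvenB.JComponent.mul_self_of_mem_omegaCenterOf _ hx)
      fun s hs => Subgroup.mem_centralizer_iff.1 hxT.2 s hs
  · exact Subgroup.subset_closure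
      ⟨⟨CfsgLib.Fusion.Thompson.thompsonSubgroupOf_le T (CfsgLib.LocalEvenB.JComponent.omegaCenterOf_le _ hx).1,
        Subgroup.mem_centralizer_iff.2 fun s hs => CfsgLib.LocalEvenB.JVertex.Vertex.t_fix H hv hcen hx hs⟩,
        by rw [pow_two]; exact CfsgLib.LocalEvenB.JPairs.z_sq hx⟩
  set Z₀ := Cfsg.omegaCenterOf (Cfsg.thompsonSubgroupOf 2 T) with hZ0
  obtain ⟨d, hdZ, hd1, hdK⟩ := CfsgLib.LocalEvenB.JPairs.exists_d hT2 hv.comp h
  obtain ⟨hdd, hz, htd⟩ := hd d hdZ hd1 hdK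
  have hCL : Subgroup.centralizer (Z₀ : Set G) ≤ L := fun x hx =>
    hv.uniq _ (CfsgLib.LocalEvenB.JPairs.isTwoLocal_cen hdZ hd1) hdK (CfsgLib.LocalEvenB.JPairs.j_cen hdZ)
      (Subgroup.mem_centralizer_singleton_iff.2 (Subgroup.mem_centralizer_iff.1 hx d hdZ).symm)
  have htZ : t ∈ Subgroup.normalizer (Z₀ : Set G) := CfsgLib.LocalEvenB.JComponent.normalizer_le_omegaCenterOf _
    (CfsgLib.Fusion.Thompson.normalizer_le_normalizer_thompsonOf T htn)
  set d' := t * d * t⁻¹ with hd'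
  have hd'Z : d' ∈ Z₀ := (Subgroup.mem_normalizer_iff.1 htZ d).1 hdZ
  have hd1' : d' ≠ 1 := fun e => hd1 (conj_eq_one_iff.1 e)
  have hcases := fun {x : G} (hx : x ∈ Z₀) => CfsgLib.LocalEvenB.JPairs.z_cases h hdZ hd1 hd'Z hd1' hdd hx
  have hgz : ∀ g ∈ Subgroup.normalizer (Z₀ : Set G), (g * d * g⁻¹ = d ∧ g * d' * g⁻¹ = d') ∨ (g * d * g⁻¹ = d' ∧ g * d' * g⁻¹ = d) := by
    intro g hg
    have hv' := CfsgLib.LocalEvenB.JPairs.vertex_cj hv htn
    have h1 := (hcases ((Subgroup.mem_normalizer_iff.1 hg d).1 hdZ)).resolve_left fun e => hd1 (conj_eq_one_iff.1 e)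
    have h2 := (hcases ((Subgroup.mem_normalizer_iff.1 hg d').1 hd'Z)).resolve_left fun e => hd1' (conj_eq_one_iff.1 e)
    have n1 : g * d * g⁻¹ ≠ d * d' := hz ▸ CfsgLib.LocalEvenB.JPath.not_conj hv hdK
      (CfsgLib.LocalEvenB.JPairs.j_cen hdZ) S hczS
    have n2 : g * d' * g⁻¹ ≠ d * d' := hz ▸ CfsgLib.LocalEvenB.JPath.not_conj hv'
      (CfsgLib.LocalEvenB.JPairs.cj_singleton hdK t) (CfsgLib.LocalEvenB.JPairs.j_cen hd'Z) S hczS
    have hinj : g * d * g⁻¹ ≠ g * d' * g⁻¹ := fun e => hdd (mul_left_cancel (mul_right_cancel e))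
    rcases h1 with e | e | e <;> rcases h2 with e' | e' | e'
    all_goals first
      | exact Or.inl ⟨e, e'⟩
      | exact Or.inr ⟨e, e'⟩
      | exact absurd e n1
      | exact absurd e' n2
      | exact absurd (e.trans e'.symm) hinj
  have hmemC : ∀ g : G, g * d * g⁻¹ = d → g * d' * g⁻¹ = d' → g ∈ Subgroup.centralizer (Z₀ : Set G) := by
    intro g e1 e2
    refine Subgroup.mem_centralizer_iff.2 fun x hx => ?_
    have c1 : Commute g d := mul_inv_eq_iff_eq_mul.1 e1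
    have c2 : Commute g d' := mul_inv_eq_iff_eq_mul.1 e2
    rcases hcases hx with rfl | rfl | rfl | rfl
    exacts [by simp, c1.eq.symm, c2.eq.symm, (c1.mul_right c2).eq.symm]
  have hfix : ∀ g : G, g ∈ Subgroup.centralizer (Z₀ : Set G) → g * d * g⁻¹ = d := fun g hg => by
    rw [← Subgroup.mem_centralizer_iff.1 hg d hdZ, mul_inv_cancel_right]
  rw [inf_eq_right.2 hCL, Subgroup.relIndex, Subgroup.index_eq_two_iff]
  refine ⟨⟨t, htZ⟩, fun g => ?_⟩
  simp only [Subgroup.mem_subgroupOf, Subgroup.coe_mul]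
  rcases hgz g g.2 with ⟨e1, e2⟩ | ⟨e1, e2⟩
  · refine Or.inr ⟨hmemC _ e1 e2, fun hc => hdd ?_⟩
    have h3 := hfix _ hc
    rw [show (g : G) * t * d * ((g : G) * t)⁻¹ = g * (t * d * t⁻¹) * (g : G)⁻¹ by group, e2] at h3
    exact h3.symm
  · refine Or.inl ⟨hmemC _ ?_ ?_, fun hc => hdd ?_⟩
    · rw [show (g : G) * t * d * ((g : G) * t)⁻¹ = g * (t * d * t⁻¹) * (g : G)⁻¹ by group, e2]
    · rw [show (g : G) * t * d' * ((g : G) * t)⁻¹ = g * (t * d' * t⁻¹) * (g : G)⁻¹ by group, htd, e1]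
    · rw [← hfix _ hc, e1]

end Cfsg.Agent.S2951
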