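import Cfsg.Statements.S2953
import Cfsg.Agent.Lib.LocalEvenB.JGlobal

set_option autoImplicit false
open Cfsg

namespace Cfsg.Agent.S2953

/-- Let G be a finite group of characteristic 2 type in which every 2-local subgroup is solvable and the centralizer of Ω₁(Z(S)) lies in N_G(S) for every Sylow 2-subgroup S; suppose O₂(G) = 1, fix a Sylow 2-subgroup S and a 2-local subgroup M containing N_G(J(S)) (J the Thompson subgroup generated by the elementary abelian 2-subgroups of largest order). Let T be maximal (for the order of a largest elementary abelian subgroup, then the order of J(T), then the order of T) among the nontrivial 2-subgroups of M lying in a 2-local subgroup not inside M. Then there are two distinct J(T)-components K₁, K₂ such that, with Pᵢ = ⟨Kᵢ, T⟩: C_G(O₂(Pᵢ)) ≤ O₂(Pᵢ), T is a Sylow 2-subgroup of Pᵢ, O₂(Pᵢ) has index 6 in Pᵢ with Pᵢ/O₂(Pᵢ) non-abelian, [Ω₁(Z(T)), Pᵢ] ≠ 1,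 O₂(⟨P₁, P₂⟩) = 1, and each Pᵢ lies in exactly one maximal 2-local subgroup Lᵢ of G, in which T is a Sylow 2-subgroup. -/
theorem result {G : Type*} [Group G] [Finite G] (hL : Cfsg.IsCharacteristicTwoType G) (hN : ∀ N : Subgroup G, Cfsg.IsTwoLocal N → Group.IsSolvable ↥N)
    (hZ : ∀ S : Sylow 2 G, Subgroup.centralizer (Cfsg.omegaCenterOf (S : Subgroup G) : Set G) ≤ Subgroup.normalizer ((S : Subgroup G) : Set G)) (hO : Cfsg.pCore 2 G = ⊥) (S : Sylow 2 G) (M : Subgroup G) (hM : Cfsg.IsTwoLocal M)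
    (hMJ : Subgroup.normalizer (Cfsg.thompsonSubgroupOf 2 (S : Subgroup G) : Set G) ≤ M) (T : Subgroup G) (hT : T ∈ Cfsg.maxStraddlingTwoSubgroups M) :
    ∃ K₁ K₂ : Subgroup G, K₁ ≠ K₂ ∧ Cfsg.IsJComponent T K₁ ∧ Cfsg.IsJComponent T K₂ ∧
      Cfsg.pCoreOf 2 ((K₁ ⊔ T) ⊔ (K₂ ⊔ T)) = ⊥ ∧
      ∀ P ∈ [K₁ ⊔ T, K₂ ⊔ T],
        Subgroup.centralizer (Cfsg.pCoreOf 2 P : Set G) ≤ Cfsg.pCoreOf 2 P ∧ Cfsg.IsSylowTwoIn T P ∧
        (Cfsg.pCoreOf 2 P).relIndex P = 6 ∧ ¬ ⁅P, P⁆ ≤ Cfsg.pCoreOf 2 P ∧ ⁅Cfsg.omegaCenterOf T, P⁆ ≠ ⊥ ∧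
        ∃ L : Subgroup G, Cfsg.IsMaximalTwoLocal L ∧ P ≤ L ∧ Cfsg.IsSylowTwoIn T L ∧
          ∀ L' : Subgroup G, Cfsg.IsMaximalTwoLocal L' → P ≤ L' → L' = L := by
  have H : CfsgLib.LocalEvenB.JVertex.Hyp G := ⟨hL, hN, hZ⟩
  haveI : Fact (Nat.Prime 2) := ⟨Nat.prime_two⟩
  obtain ⟨hcen, A, N, A', N', b⟩ := CfsgLib.LocalEvenB.JGlobal.main H hO S hMJ hT
  have key : ∀ {A N A' N' : Subgroup G}, CfsgLib.LocalEvenB.JShape.Edge T A N A' N' →
      Subgroup.centralizer (Cfsg.pCoreOf 2 (A ⊔ T) : Set G) ≤ Cfsg.pCoreOf 2 (A ⊔ T) ∧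
      Cfsg.IsSylowTwoIn T (A ⊔ T) ∧ (Cfsg.pCoreOf 2 (A ⊔ T)).relIndex (A ⊔ T) = 6 ∧
      ¬ ⁅A ⊔ T, A ⊔ T⁆ ≤ Cfsg.pCoreOf 2 (A ⊔ T) ∧ ⁅Cfsg.omegaCenterOf T, A ⊔ T⁆ ≠ ⊥ ∧
      ∃ L : Subgroup G, Cfsg.IsMaximalTwoLocal L ∧ (A ⊔ T) ≤ L ∧ Cfsg.IsSylowTwoIn T L ∧
        ∀ L' : Subgroup G, Cfsg.IsMaximalTwoLocal L' → (A ⊔ T) ≤ L' → L' = L := by
    intro A N A' N' b
    obtain ⟨hQn, hcore, hcard⟩ := CfsgLib.LocalEvenB.JVertex.Vertex.q_facts H b.v b.cen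
    have hct := CfsgLib.LocalEvenB.JVertex.Vertex.card_t H b.v b.cen
    obtain ⟨k, hk, hk3, -, hkfix⟩ := CfsgLib.LocalEvenB.JVertex.Vertex.exists_k H b.v
    obtain ⟨f, w, w', hfW, -, hfZ, hf1, hw, hwf, hw1, hw', hw'c, -, -⟩ := b.frame
    rw [hcore]
    refine ⟨fun x hx => b.cen_q fun q hq => Subgroup.mem_centralizer_iff.1 hx q hq, by rw [← b.l_eq]; exact b.v.syl,
      ?_, fun hle => ?_, fun e => hf1 ?_, N, b.v.max, b.l_eq.ge, b.v.syl, fun L' hL' hle => ?_⟩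
    · have h1 := (((T ⊓ Subgroup.centralizer (Cfsg.wOf A : Set G)) : Subgroup G).subgroupOf (A ⊔ T)).card_mul_index
      rw [Nat.card_congr (Subgroup.subgroupOfEquivOfLe
        ((inf_le_left : T ⊓ Subgroup.centralizer (Cfsg.wOf A : Set G) ≤ T).trans le_sup_right)).toEquiv, hcard, hct] at h1
      exact Nat.eq_of_mul_eq_mul_left Nat.card_pos (h1.trans (by ring))
    · have hw'T := b.symm.w_t hw'
      have h1 := hle (Subgroup.commutator_mem_commutator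
        (Subgroup.mem_sup_right hw'T : w' ∈ A ⊔ T) (Subgroup.mem_sup_left hk : k ∈ A ⊔ T))
      rw [commutatorElement_def] at h1
      have h2 := CfsgLib.LocalEvenB.JVertex.Vertex.invert H b.v b.cen hk hk3 hkfix hw'T hw'c
      have h3 := mul_mem (inv_mem h1) h2
      rw [show (w' * k * w'⁻¹ * k⁻¹)⁻¹ * (w' * k * w'⁻¹ * k) = k * k by group] at h3
      refine CfsgLib.LocalEvenB.JOffend.k_not_centralizes b.v hkfix ?_
      have h4 := mul_mem h3 h3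
      rw [show k * k * (k * k) = k ^ 3 * k by rw [pow_succ, pow_two]; group, hk3, one_mul] at h4
      exact h4.2
    · have hfΩ : f ∈ Cfsg.omegaCenterOf T := Subgroup.subset_closure
        ⟨⟨CfsgLib.Fusion.Thompson.thompsonSubgroupOf_le T (CfsgLib.LocalEvenB.JComponent.omegaCenterOf_le _ hfZ).1,
          Subgroup.mem_centralizer_iff.2 fun t ht =>
            CfsgLib.LocalEvenB.JVertex.Vertex.t_fix H b.v b.cen hfZ ht⟩,
          by rw [pow_two]; exact CfsgLib.LocalEvenB.JPairs.z_sq hfZ⟩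
      have h := Subgroup.mem_centralizer_iff.1 ((Subgroup.commutator_eq_bot_iff_le_centralizer.1 e) hfΩ) k
        (Subgroup.mem_sup_left hk)
      exact hkfix f hfW (by rw [h, mul_inv_cancel_right])
    · exact (hL'.2 N b.v.max.1 (b.v.uniq L' hL'.1 (le_sup_left.trans hle)
        ((CfsgLib.Fusion.Thompson.thompsonSubgroupOf_le T).trans (le_sup_right.trans hle)))).symm
  refine ⟨A, A', fun e => ?_, b.v.comp, b.v'.comp, ?_, ?_⟩
  · exact CfsgLib.LocalEvenB.JOffend.not_common b.v b.v' b.ne b.v.max.1 b.v.le (e ▸ b.v.le)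
      (CfsgLib.LocalEvenB.JVertex.Vertex.j_le b.v)
  · by_contra hne
    have hX := CfsgLib.LocalEven.SylowIn.normalizer_pCoreOf (p := 2) ((A ⊔ T) ⊔ (A' ⊔ T))
    exact CfsgLib.LocalEvenB.JOffend.not_common b.v b.v' b.ne
      ⟨_, CfsgLib.LocalEven.SylowIn.isPGroup_pCoreOf _, hne, rfl⟩
      ((le_sup_left.trans le_sup_left).trans hX) ((le_sup_left.trans le_sup_right).trans hX)
      (((CfsgLib.Fusion.Thompson.thompsonSubgroupOf_le T).trans (le_sup_right.trans le_sup_left)).trans hX)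
  · intro P hP
    rcases List.mem_pair.1 hP with rfl | rfl
    exacts [key b, key b.symm]

end Cfsg.Agent.S2953
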