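import Cfsg.Statements.S2958


set_option autoImplicit false
open Cfsg

namespace Cfsg.Agent.S2958

/-- Let X, A, B be subgroups of a group G such that G is generated by the conjugates of X and every conjugate of X is contained in A or in B. Then A = G or B = G. -/
theorem result {G : Type*} [Group G] (X A B : Subgroup G) (hgen : (⨆ g : G, X.map (MulAut.conj g).toMonoidHom) = ⊤) (hcover : ∀ g : G, X.map (MulAut.conj g).toMonoidHom ≤ A ∨ X.map (MulAut.conj g).toMonoidHom ≤ B) : A = ⊤ ∨ B = ⊤ := by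
  by_contra hcon
  push Not at hcon
  obtain ⟨hA, hB⟩ := hcon
  let c : G → Subgroup G := fun g => X.map (MulAut.conj g).toMonoidHom
  have hsmul : ∀ b g : G, ∀ x : G, x ∈ c (b * g) ↔ b⁻¹ * x * b ∈ c g := fun b g x => by
    simp only [c, Subgroup.mem_map_equiv, MulAut.conj_symm_apply, mul_inv_rev, mul_assoc]
  let K : Subgroup G := ⨆ g : {g : G // ¬ c g ≤ A}, c g.1
  have hKB : K ≤ B := iSup_le fun g => (hcover g.1).resolve_left g.2
  have hnA : A ≤ Subgroup.normalizer (K : Set G) := by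
    rw [Subgroup.le_normalizer_iff]
    intro a ha
    have : K ≤ K.comap (MulAut.conj a).toMonoidHom := iSup_le fun g y hy => by
      have hg' : ¬ c (a * g.1) ≤ A := fun hle => g.2 fun z hz => by
        have h2 : a * z * a⁻¹ ∈ A := hle ((hsmul a g.1 _).mpr (by simpa [mul_assoc] using hz))
        convert mul_mem (mul_mem (inv_mem ha) h2) ha using 1; group
      show a * y * a⁻¹ ∈ K
      exact le_iSup (fun g : {g : G // ¬ c g ≤ A} => c g.1) ⟨a * g.1, hg'⟩
        ((hsmul a g.1 _).mpr (by simpa [mul_assoc] using hy))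
    exact fun y hy => this hy
  have htop : Subgroup.normalizer (K : Set G) = ⊤ := top_le_iff.mp (hgen ▸ iSup_le fun g => by
    by_cases hg : c g ≤ A
    · exact hg.trans hnA
    · exact (le_iSup (fun g : {g : G // ¬ c g ≤ A} => c g.1) ⟨g, hg⟩).trans Subgroup.le_normalizer)
  have hKn : K.Normal := Subgroup.normalizer_eq_top_iff.mp htop
  obtain ⟨g₀, hg₀⟩ : ∃ g, ¬ c g ≤ A := by
    by_contra h; push Not at h
    exact hA (top_le_iff.mp (hgen ▸ iSup_le h))
  apply hB
  refine top_le_iff.mp (hgen ▸ iSup_le fun g => le_trans (fun y hy => ?_) hKB)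
  have h0 : g₀ * g⁻¹ * y * g * g₀⁻¹ ∈ K :=
    le_iSup (fun g : {g : G // ¬ c g ≤ A} => c g.1) ⟨g₀, hg₀⟩ (by
      obtain ⟨x, hx, rfl⟩ := hy
      exact ⟨x, hx, by simp only [MulEquiv.coe_toMonoidHom, MulAut.conj_apply]; group⟩)
  convert hKn.conj_mem _ h0 (g * g₀⁻¹) using 1; group

end Cfsg.Agent.S2958
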