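import Cfsg.Statements.S2963
import Mathlib.GroupTheory.Perm.MaximalSubgroups
import Mathlib.Data.Nat.Choose.Lucas

set_option autoImplicit false
open Cfsg
open scoped Pointwise

namespace Cfsg.Agent.S2963

/-- Let n be odd. If the symmetric group of degree n is a minimal parabolic group for the prime 2, that is, a Sylow 2-subgroup is not normal and lies in exactly one maximal subgroup, then n = 2^m + 1 for some natural number m. -/
theorem result (n : ℕ) (hn : Odd n) (h : Cfsg.IsPMinimal 2 (Equiv.Perm (Fin n))) : ∃ m : ℕ, n = 2 ^ m + 1 := by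
  classical
  have hodd : ∀ (a m : ℕ), m / 2 ^ a % 2 = 1 → m.choose (2 ^ a) % 2 = 1 := by
    intro a
    induction a with
    | zero => intro m hm; simpa using hm
    | succ a ih =>
      intro m hm
      haveI := Fact.mk Nat.prime_two
      have h1 := Choose.choose_modEq_choose_mod_mul_choose_div_nat (n := m) (k := 2 ^ (a + 1)) (p := 2)
      have h2 : 2 ^ (a + 1) % 2 = 0 := by rw [pow_succ]; exact Nat.mul_mod_left _ _
      have h3 : 2 ^ (a + 1) / 2 = 2 ^ a := by
        rw [pow_succ]; exact Nat.mul_div_cancel _ (by norm_num)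
      rw [h2, h3, Nat.choose_zero_right, one_mul] at h1
      rw [h1]
      apply ih
      rw [Nat.div_div_eq_div_mul, ← pow_succ']
      exact hm
  haveI := Fact.mk Nat.prime_two
  obtain ⟨S⟩ := (inferInstance : Nonempty (Sylow 2 (Equiv.Perm (Fin n))))
  obtain ⟨hnn, M, -, huniq⟩ := h S
  -- n ≥ 2
  by_cases hn1 : n = 1
  · subst hn1
    exfalso; apply hnn
    have : (S : Subgroup (Equiv.Perm (Fin 1))) = ⊥ := Subsingleton.elim _ _
    rw [this]; infer_instance
  have hn2 : 3 ≤ n := by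
    obtain ⟨c, rfl⟩ := hn; omega
  -- a fixed point of S
  have hx : ∃ x : Fin n, ∀ s ∈ (S : Subgroup (Equiv.Perm (Fin n))), s x = x := by
    have := S.isPGroup'.nonempty_fixed_point_of_prime_not_dvd_card (Fin n)
      (by rw [Nat.card_eq_fintype_card, Fintype.card_fin]; exact hn.not_two_dvd_nat)
    obtain ⟨x, hx⟩ := this
    exact ⟨x, fun s hs => hx ⟨s, hs⟩⟩
  obtain ⟨x, hx⟩ := hx
  set a := Nat.log 2 (n - 1) with ha
  have hle : 2 ^ a ≤ n - 1 := Nat.pow_log_le_self 2 (by omega)
  have hlt : n - 1 < 2 ^ (a + 1) := Nat.lt_pow_succ_log_self (by norm_num) _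
  rcases hle.eq_or_lt with heq | hlt'
  · exact ⟨a, by omega⟩
  exfalso
  have hbit : (n - 1) / 2 ^ a % 2 = 1 := by
    have h1 : (n - 1) / 2 ^ a = 1 := Nat.div_eq_of_lt_le (by omega) (by rw [pow_succ] at hlt; omega)
    rw [h1]
  have hch : ¬ 2 ∣ (n - 1).choose (2 ^ a) := by
    have := hodd a (n - 1) hbit
    omega
  -- the set of 2^a-subsets avoiding x
  set X := {s : Finset (Fin n) // s ∈ (Finset.univ.erase x).powersetCard (2 ^ a)} with hX
  have hmem : ∀ (g : (S : Subgroup (Equiv.Perm (Fin n)))) (s : Finset (Fin n)),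
      s ∈ (Finset.univ.erase x).powersetCard (2 ^ a) →
      s.map (g : Equiv.Perm (Fin n)).toEmbedding ∈ (Finset.univ.erase x).powersetCard (2 ^ a) := by
    intro g s hs
    rw [Finset.mem_powersetCard] at hs ⊢
    refine ⟨?_, by rw [Finset.card_map]; exact hs.2⟩
    intro y hy
    rw [Finset.mem_map] at hy
    obtain ⟨z, hz, rfl⟩ := hy
    rw [Finset.mem_erase]
    refine ⟨fun e => (Finset.mem_erase.mp (hs.1 hz)).1 ?_, Finset.mem_univ _⟩
    exact (g : Equiv.Perm (Fin n)).injective (e.trans (hx _ g.2).symm)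
  let act : MulAction (S : Subgroup (Equiv.Perm (Fin n))) X :=
    { smul := fun g s => ⟨s.1.map (g : Equiv.Perm (Fin n)).toEmbedding, hmem g s.1 s.2⟩
      one_smul := fun s => Subtype.ext (by
        show s.1.map _ = s.1
        ext y; simp only [Finset.mem_map]; exact ⟨fun ⟨w, hw, e⟩ => by rwa [show y = w from e.symm], fun hy => ⟨y, hy, rfl⟩⟩)
      mul_smul := fun g k s => Subtype.ext (by
        show s.1.map _ = (s.1.map _).map _
        rw [Finset.map_map]; rfl) }
  have hXcard : Nat.card X = (n - 1).choose (2 ^ a) := by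
    rw [hX, Nat.card_eq_fintype_card, Fintype.card_coe, Finset.card_powersetCard,
      Finset.card_erase_of_mem (Finset.mem_univ _), Finset.card_univ, Fintype.card_fin]
  obtain ⟨⟨Y, hY⟩, hYfix⟩ := S.isPGroup'.nonempty_fixed_point_of_prime_not_dvd_card X (by rw [hXcard]; exact hch)
  have hYfix' : ∀ s ∈ (S : Subgroup (Equiv.Perm (Fin n))), Y.map s.toEmbedding = Y :=
    fun s hs => congrArg Subtype.val (hYfix ⟨s, hs⟩)
  rw [Finset.mem_powersetCard] at hY
  have hnc : ∀ t : Set (Fin n), Nat.card (Fin n) ≠ 2 * t.ncard := by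
    intro t; rw [Nat.card_eq_fintype_card, Fintype.card_fin]
    obtain ⟨c, rfl⟩ := hn; omega
  have hpos : 0 < 2 ^ a := Nat.two_pow_pos a
  have hxY : x ∉ Y := fun h => (Finset.mem_erase.mp (hY.1 h)).1 rfl
  have hYne : Y.Nonempty := Finset.card_pos.mp (by omega)
  obtain ⟨z, hzY, hzx⟩ : ∃ z, z ∉ Y ∧ z ≠ x := by
    by_contra h
    push_neg at h
    have : Finset.univ.erase x ⊆ Y := by
      intro z hz
      by_contra hz'
      exact (Finset.mem_erase.mp hz).1 (h z hz')
    have := Finset.card_le_card this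
    rw [Finset.card_erase_of_mem (Finset.mem_univ _), Finset.card_univ, Fintype.card_fin] at this
    omega
  obtain ⟨y, hyY⟩ := hYne
  have hyx : y ≠ x := fun e => hxY (e ▸ hyY)
  set M₁ := MulAction.stabilizer (Equiv.Perm (Fin n)) ({x} : Set (Fin n)) with hM₁
  set M₂ := MulAction.stabilizer (Equiv.Perm (Fin n)) (Y : Set (Fin n)) with hM₂
  have h1 : IsCoatom M₁ := Equiv.Perm.isCoatom_stabilizer (Set.singleton_nonempty x)
    ⟨z, by simpa using hzx⟩ (hnc _)
  have h2 : IsCoatom M₂ := Equiv.Perm.isCoatom_stabilizer ⟨y, by simpa using hyY⟩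
    ⟨z, by simpa using hzY⟩ (hnc _)
  have hS1 : (S : Subgroup (Equiv.Perm (Fin n))) ≤ M₁ := by
    intro s hs
    rw [hM₁, MulAction.mem_stabilizer_iff, Set.smul_set_singleton, Equiv.Perm.smul_def, hx s hs]
  have hS2 : (S : Subgroup (Equiv.Perm (Fin n))) ≤ M₂ := by
    intro s hs
    rw [hM₂, MulAction.mem_stabilizer_iff]
    conv_rhs => rw [← hYfix' s hs]
    rw [Finset.coe_map]
    rfl
  have heq : M₁ = M₂ := (huniq M₁ ⟨h1, hS1⟩).trans (huniq M₂ ⟨h2, hS2⟩).symm
  have hsw : Equiv.swap y z ∈ M₁ := by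
    rw [hM₁, MulAction.mem_stabilizer_iff, Set.smul_set_singleton, Equiv.Perm.smul_def,
      Equiv.swap_apply_of_ne_of_ne hyx.symm hzx.symm]
  rw [heq, hM₂, MulAction.mem_stabilizer_iff] at hsw
  apply hzY
  have : Equiv.swap y z • y ∈ Equiv.swap y z • (Y : Set (Fin n)) :=
    Set.smul_mem_smul_set (by exact_mod_cast hyY)
  rw [hsw, Equiv.Perm.smul_def, Equiv.swap_apply_left] at this
  exact_mod_cast this

end Cfsg.Agent.S2963
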