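import Cfsg.Statements.S2972
import Cfsg.Agent.Lib.LocalEvenB.ZStarMinimal

set_option autoImplicit false
open Cfsg

namespace Cfsg.Agent.S2972

/-- Let G be a finite group, p a prime and x ∈ G an isolated element of order p (the only conjugate of x commuting with x is x) which is not central modulo the largest normal subgroup of order prime to p, while x is central modulo the largest normal subgroup of order prime to p in every proper subgroup containing x, and the image of x is so in every quotient of G by a nontrivial normal subgroup (a minimal counterexample to the Z*_p statement). Then the derived subgroup G' is a non-abelian simple group and G = G'⟨x⟩. -/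
theorem result {G : Type*} [Group G] [Finite G] {p : ℕ} [Fact p.Prime] (x : G) (hx : orderOf x = p) (hiso : Cfsg.IsIsolated x) (hnz : ¬ Cfsg.InZStar p x) (hmin : ∀ (H : Subgroup G) (hxH : x ∈ H), H ≠ ⊤ → Cfsg.InZStar p (⟨x, hxH⟩ : ↥H)) (hquot : ∀ (N : Subgroup G) [N.Normal], N ≠ ⊥ → Cfsg.InZStar p (QuotientGroup.mk x : G ⧸ N)) : IsSimpleGroup ↥(commutator G) ∧ ¬ IsMulCommutative ↥(commutator G) ∧ commutator G ⊔ Subgroup.zpowers x = ⊤ := by
  have h : CfsgLib.LocalEvenB.ZStarMinimal.MinCE p x := ⟨hx, hiso, hnz, hmin, hquot⟩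
  have hne : (⊤ : Subgroup G) ≠ ⊥ := by
    intro e
    have : x = 1 := Subgroup.mem_bot.1 (e ▸ Subgroup.mem_top x)
    rw [this, orderOf_one] at hx
    exact (Fact.out : p.Prime).one_lt.ne hx
  obtain ⟨N, hN, hN1, -, hNmin⟩ := CfsgLib.Solvable.Basic.exists_minimal_normal_le (H := (⊤ : Subgroup G)) hne
  obtain ⟨hnab, hcom, hsimp⟩ := CfsgLib.LocalEvenB.ZStarMinimal.structure_of_minimal h hN hN1 hNmin
  rw [hcom]
  exact ⟨hsimp, hnab, CfsgLib.LocalEvenB.ZStarMinimal.sup_zpowers_eq_top h hN hN1⟩

end Cfsg.Agent.S2972
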