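import Cfsg.Statements.S2975
import Cfsg.Agent.Lib.LocalEvenB.ZStarMinimal
import Cfsg.Agent.Lib.Coprime.Sylow
import Cfsg.Agent.Lib.Fusion.Thompson
import Cfsg.Agent.Lib.Fusion.Replacement

set_option autoImplicit false
open Cfsg

namespace Cfsg.Agent.S2975

/-- Let G be a finite group, p a prime and x ∈ G an isolated element of order p (the only conjugate of x commuting with x is x) which is not central modulo the largest normal subgroup of order prime to p, while x is central modulo the largest normal subgroup of order prime to p in every proper subgroup containing x, and the image of x is so in every quotient of G by a nontrivial normal subgroup (a minimal counterexample to the Z*_p statement). Then for every prime q, every q-subgroup of G that is normalized by x and maximal among the q-subgroups normalized by x is either trivial or a Sylow q-subgroup of G; and C_G(x) permutes the x-invariant Sylow q-subgroups of G transitively by conjugation. -/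
theorem result {G : Type*} [Group G] [Finite G] {p : ℕ} [Fact p.Prime] (x : G) (hx : orderOf x = p) (hiso : Cfsg.IsIsolated x) (hnz : ¬ Cfsg.InZStar p x) (hmin : ∀ (H : Subgroup G) (hxH : x ∈ H), H ≠ ⊤ → Cfsg.InZStar p (⟨x, hxH⟩ : ↥H)) (hquot : ∀ (N : Subgroup G) [N.Normal], N ≠ ⊥ → Cfsg.InZStar p (QuotientGroup.mk x : G ⧸ N)) (q : ℕ) [Fact q.Prime] : (∀ Q : Subgroup G, IsPGroup q ↥Q → x ∈ Subgroup.normalizer (Q : Set G) → (∀ R : Subgroup G, IsPGroup q ↥R → x ∈ Subgroup.normalizer (R : Set G) → Q ≤ R → R = Q) → Q = ⊥ ∨ ∃ S : Sylow q G, (S : Subgroup G) = Q) ∧ (∀ S₁ S₂ : Sylow q G, x ∈ Subgroup.normalizer ((S₁ : Subgroup G) : Set G) → x ∈ Subgroup.normalizer ((S₂ : Subgroup G) : Set G) → ∃ c ∈ Subgroup.centralizer ({x} : Set G), (S₁ : Subgroup G).map (MulAut.conj c).toMonoidHom = (S₂ : Subgroup G)) := by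
  have hM : CfsgLib.LocalEvenB.ZStarMinimal.MinCE p x := ⟨hx, hiso, hnz, hmin, hquot⟩
  have hxk : ∃ k : ℕ, orderOf x = p ^ k := ⟨1, by rw [hx, pow_one]⟩
  refine ⟨fun Q hQ hxQ hmax => ?_, fun S₁ S₂ h1 h2 => ?_⟩
  · by_cases hQ1 : Q = ⊥
    · exact Or.inl hQ1
    refine Or.inr ?_
    obtain ⟨S, hQS⟩ := hQ.exists_le_sylow
    by_cases hqp : q = p
    · subst hqp
      have hR : IsPGroup q ↥(Q ⊔ Subgroup.zpowers x) :=
        hQ.to_sup_of_normal_left' (CfsgLib.LocalEvenB.ZStarMinimal.isPGroup_zpowers_x hM)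
          (Subgroup.zpowers_le.2 hxQ)
      have hxN : x ∈ Subgroup.normalizer ((Q ⊔ Subgroup.zpowers x : Subgroup G) : Set G) :=
        Subgroup.le_normalizer (Subgroup.mem_sup_right (Subgroup.mem_zpowers x))
      have hxQ' : x ∈ Q := hmax _ hR hxN le_sup_left ▸ Subgroup.mem_sup_right (Subgroup.mem_zpowers x)
      exact ⟨S, hmax _ S.isPGroup' (Subgroup.le_normalizer (hQS hxQ')) hQS⟩
    set H := Subgroup.normalizer (Q : Set G) with hH
    have hHtop : H ≠ ⊤ := by
      intro e
      haveI := Subgroup.normalizer_eq_top_iff.1 e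
      refine hQ1 (CfsgLib.LocalEvenB.ZStarMinimal.eq_bot_of_subnormal hM
        (Subgroup.Normal.isSubnormal (H := Q) inferInstance) ?_)
      obtain ⟨k, hk⟩ := hQ.exists_card_eq
      rw [hk]
      exact ((Nat.coprime_primes Fact.out Fact.out).2 hqp).pow_left k
    have hz := hmin H hxQ hHtop
    obtain ⟨R₀, hR₀⟩ := (hQ.of_equiv
      (Subgroup.subgroupOfEquivOfLe (Subgroup.le_normalizer (H := Q))).symm).exists_le_sylow
    set O := (pPrimeCore p ↥H).map H.subtype with hO
    set R := (R₀ : Subgroup H).map H.subtype with hR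
    have hOH : O ≤ H := Subgroup.map_subtype_le _
    have hRH : R ≤ H := Subgroup.map_subtype_le _
    have hHO : H ≤ Subgroup.normalizer (O : Set G) := by
      refine (Subgroup.normal_subgroupOf_iff_le_normalizer hOH).mp ?_
      rw [show O.subgroupOf H = pPrimeCore p ↥H from
        Subgroup.comap_map_eq_self_of_injective H.subtype_injective _]
      infer_instance
    set K := O ⊔ R with hK
    have hxK : Subgroup.zpowers x ≤ Subgroup.normalizer (K : Set G) := by
      rw [Subgroup.zpowers_le, Subgroup.mem_normalizer_iff_map_conj_eq]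
      refine Subgroup.eq_of_le_of_card_ge ?_ (Subgroup.card_map_of_injective (MulAut.conj x).injective).ge
      rw [hK, Subgroup.map_sup]
      refine sup_le ?_ ?_
      · exact le_of_eq_of_le (Subgroup.mem_normalizer_iff_map_conj_eq.1 (hHO hxQ)) le_sup_left
      · rintro _ ⟨r, hr, rfl⟩
        have h3 : r * x * r⁻¹ * x⁻¹ ∈ O := ⟨_, hz ⟨r, hRH hr⟩, rfl⟩
        have e : x * r * x⁻¹ = (r * x * r⁻¹ * x⁻¹)⁻¹ * r := by group
        show x * r * x⁻¹ ∈ O ⊔ R
        rw [e]
        exact mul_mem (inv_mem (Subgroup.mem_sup_left h3))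
          (Subgroup.mem_sup_right hr)
    have hKp : (Nat.card K).Coprime p := by
      have h3 := CfsgLib.Fusion.Thompson.card_sup_mul_card_inf (hRH.trans hHO)
      have hOc : (Nat.card O).Coprime p := by
        rw [hO, CfsgLib.Coprime.card_map_subtype]
        exact CfsgLib.Solvable.Cores.coprime_card_pPrimeCore p
      have hRc : (Nat.card R).Coprime p := by
        obtain ⟨k, hk⟩ := (R₀.isPGroup'.map H.subtype).exists_card_eq
        rw [hR, hk]
        exact ((Nat.coprime_primes Fact.out Fact.out).2 hqp).pow_left k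
      exact Nat.Coprime.coprime_dvd_left (Dvd.intro _ h3) (Nat.Coprime.mul_left hOc hRc)
    obtain ⟨P, hP⟩ := CfsgLib.Coprime.exists_invariant_sylow (A := Subgroup.zpowers x) (K := K) hxK
      (by rw [Nat.card_zpowers, hx]; exact hKp.symm)
      (Or.inl (Group.isSolvable_of_comm fun a b => Subtype.ext (by
        obtain ⟨i, hi⟩ := a.2
        obtain ⟨j, hj⟩ := b.2
        simp only [Subgroup.coe_mul]
        rw [← hi, ← hj]
        exact (Commute.refl x).zpow_zpow i j))) q
    -- `P` is a Sylow subgroup of `H`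
    set P' := (P : Subgroup K).map K.subtype with hP'
    have hKH : K ≤ H := sup_le hOH hRH
    have hPR : Nat.card R ≤ Nat.card P' := by
      obtain ⟨k, hk⟩ := (R₀.isPGroup'.map H.subtype).exists_card_eq
      rw [hR, hk, hP', CfsgLib.Coprime.card_map_subtype, P.card_eq_multiplicity]
      refine Nat.pow_le_pow_right (Fact.out : q.Prime).pos ?_
      refine ((Fact.out : q.Prime).pow_dvd_iff_le_factorization Nat.card_pos.ne').1 ?_
      rw [← hk]
      exact Subgroup.card_dvd_of_le le_sup_right
    have hQP : Q ≤ P' := by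
      have hsub : IsPGroup q ↥(P' ⊔ Q) := (P.isPGroup'.map K.subtype).to_sup_of_normal_right' hQ
        ((Subgroup.map_subtype_le _).trans hKH)
      have hcard : Nat.card ↥(P' ⊔ Q) ≤ Nat.card P' := by
        refine le_trans ?_ hPR
        have hle : P' ⊔ Q ≤ H := sup_le ((Subgroup.map_subtype_le _).trans hKH) Subgroup.le_normalizer
        obtain ⟨U, hU⟩ := (hsub.of_equiv (Subgroup.subgroupOfEquivOfLe hle).symm).exists_le_sylow
        calc Nat.card ↥(P' ⊔ Q) = Nat.card ((P' ⊔ Q).subgroupOf H) :=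
              (Nat.card_congr (Subgroup.subgroupOfEquivOfLe hle).toEquiv).symm
          _ ≤ Nat.card (U : Subgroup H) := Subgroup.card_le_of_le hU
          _ = Nat.card R := by
            rw [U.card_eq_multiplicity, hR, CfsgLib.Coprime.card_map_subtype, R₀.card_eq_multiplicity]
      exact le_sup_right.trans (Subgroup.eq_of_le_of_card_ge le_sup_left hcard).ge
    have hPQ : P' = Q := hmax P' (P.isPGroup'.map K.subtype) (hP (Subgroup.mem_zpowers x)) hQP
    refine ⟨S, le_antisymm ?_ hQS⟩
    by_contra hnle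
    have hlt : Q.subgroupOf S < ⊤ := lt_top_iff_ne_top.2 fun e => hnle (Subgroup.subgroupOf_eq_top.1 e)
    haveI := S.isPGroup'.isNilpotent
    obtain ⟨⟨y, hyS⟩, hyN, hyQ⟩ := SetLike.exists_of_lt (Group.normalizerCondition_of_isNilpotent _ hlt)
    have hyH : y ∈ H := by
      rw [hH, Subgroup.mem_normalizer_iff_map_conj_eq]
      refine Subgroup.eq_of_le_of_card_ge ?_ (Subgroup.card_map_of_injective (MulAut.conj y).injective).ge
      rintro _ ⟨u, hu, rfl⟩
      exact (Subgroup.mem_normalizer_iff.1 hyN ⟨u, hQS hu⟩).1 hu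
    set T := Q ⊔ Subgroup.zpowers y with hT
    have hTS : T ≤ (S : Subgroup G) := sup_le hQS (Subgroup.zpowers_le.2 hyS)
    have hTH : T ≤ H := sup_le Subgroup.le_normalizer (Subgroup.zpowers_le.2 hyH)
    obtain ⟨U, hU⟩ := ((S.isPGroup'.to_le hTS).of_equiv (Subgroup.subgroupOfEquivOfLe hTH).symm).exists_le_sylow
    have hcard : Nat.card T ≤ Nat.card Q := by
      calc Nat.card T = Nat.card (T.subgroupOf H) :=
            (Nat.card_congr (Subgroup.subgroupOfEquivOfLe hTH).toEquiv).symm
        _ ≤ Nat.card (U : Subgroup H) := Subgroup.card_le_of_le hU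
        _ = Nat.card R := by
            rw [U.card_eq_multiplicity, hR, CfsgLib.Coprime.card_map_subtype, R₀.card_eq_multiplicity]
        _ ≤ Nat.card Q := by rw [← hPQ]; exact hPR
    exact hyQ ((Subgroup.eq_of_le_of_card_ge (le_sup_left : Q ≤ T) hcard).ge
      (Subgroup.mem_sup_right (Subgroup.mem_zpowers y)))
  · obtain ⟨g, hg⟩ := MulAction.exists_smul_eq G S₁ S₂
    have hg' : (S₁ : Subgroup G).map (MulAut.conj g).toMonoidHom = (S₂ : Subgroup G) := by
      rw [← hg]; rfl
    have hmem : g⁻¹ * x * g⁻¹⁻¹ ∈ Subgroup.normalizer ((S₁ : Subgroup G) : Set G) := by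
      rw [Subgroup.mem_normalizer_iff]
      intro z
      have h3 := Subgroup.mem_normalizer_iff.1 h2 (g * z * g⁻¹)
      have key : ∀ w, w ∈ (S₁ : Subgroup G) ↔ g * w * g⁻¹ ∈ (S₂ : Subgroup G) := by
        intro w
        rw [← hg']
        exact (Subgroup.mem_map_iff_mem (MulAut.conj g).injective (K := (S₁ : Subgroup G)) (x := w)).symm
      rw [key, key, h3]
      simp [mul_assoc]
    obtain ⟨h, hh, he⟩ := CfsgLib.LocalEvenB.Isolated.exists_conj hxk hiso h1 hmem
    refine ⟨g * h⁻¹, ?_, ?_⟩
    · rw [Subgroup.mem_centralizer_singleton_iff]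
      calc g * h⁻¹ * x = g * h⁻¹ * (h * (g⁻¹ * x * g⁻¹⁻¹) * h⁻¹) := by rw [he]
        _ = x * (g * h⁻¹) := by group
    · ext z
      have hh' := Subgroup.mem_normalizer_iff.1 (inv_mem hh)
      rw [← hg', CfsgLib.Fusion.Replacement.mem_map_conj_iff,
        CfsgLib.Fusion.Replacement.mem_map_conj_iff, hh' ((g * h⁻¹)⁻¹ * z * (g * h⁻¹))]
      simp [mul_assoc]

end Cfsg.Agent.S2975
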