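import Cfsg.Statements.S2989
import Cfsg.Agent.Lib.LocalEvenB.PushingUp

set_option autoImplicit false
open Cfsg
open scoped commutatorElement

namespace Cfsg.Agent.S2989

/-- Let G be a finite group and S a Sylow p-subgroup of G in the basic pushing-up situation (G ≠ 1, C_G(O_p(G)) ≤ O_p(G), S lies in a unique maximal subgroup of G, and some quotient of G is isomorphic to PSL₂ over a field of order a power of p), and suppose that S centralizes Z(J(S)), where J(S) is generated by the abelian subgroups of S of largest order (that is, J̃(S) = C_S(Z(J(S))) = S). Call a subgroup R of S centrally large if |R|·|Z(R)| is as large as possible among subgroups of S, and let S_Φ be the subgroup generated by the Frattini subgroups Φ(Q) of those minimal centrally large subgroups Q of S whose Ω₁(Z(Q)) has the largest order among minimal centrally large subgroups. Then Z(S) or S_Φ is normal in G; and if S_Φ = 1, the minimal centrally large subgroups of S are exactly the abelian subgroups of S of largest order, and at least one of them is elementary abelian. -/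
theorem result {G : Type*} [Group G] [Finite G] {p : ℕ} [Fact p.Prime] (S : Subgroup G) (hE : Cfsg.IsPushingUpSituation p S) (hJ : S ≤ Subgroup.centralizer (Cfsg.centerThompsonAOf S : Set G)) : ((S ⊓ Subgroup.centralizer (S : Set G)).Normal ∨ ((Cfsg.frattiniOfMinimalCLJoin p ↥S).map S.subtype).Normal) ∧ (Cfsg.frattiniOfMinimalCLJoin p ↥S = ⊥ → (∀ Q : Subgroup ↥S, Cfsg.IsMinimalCentrallyLarge Q ↔ Q ∈ Cfsg.maxAbelianSubgroups ↥S) ∧ ∃ A ∈ Cfsg.maxAbelianSubgroups ↥S, Cfsg.IsElementaryAbelian p A) := by
  classical
  open CfsgLib.LocalEvenB in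
  exact (by
    refine ⟨PushingUp.main_frattini hE, fun hbot => ?_⟩
    obtain ⟨M, hs⟩ := PushingUp.setup_of hE
    have hSp : IsPGroup p S := hs.isPGroup
    obtain ⟨Q, hQ⟩ := PushingUp.exists_maxOmega (p := p) (P := ↥S)
    have hphi : HSubgroup.phi Q = ⊥ := by
      rw [eq_bot_iff, ← hbot, PushingUp.frattiniJoin_eq]
      exact le_iSup (fun R : {R : Subgroup S // PushingUp.IsMaxOmega p R} => HSubgroup.phi R.1) ⟨Q, hQ⟩
    have hab : IsMulCommutative Q := by
      refine Subgroup.le_centralizer_iff_isMulCommutative.mp fun x hx => ?_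
      rw [Subgroup.mem_centralizer_iff]
      intro y hy
      have := HSubgroup.comm_mem_phi (hSp.to_subgroup Q) hy hx
      rw [hphi, Subgroup.mem_bot, commutatorElement_eq_one_iff_mul_comm] at this
      exact this
    obtain ⟨-, hiff⟩ := CentrallyLarge.mcl_eq_maxAbelian hQ.1 hab
    refine ⟨fun R => (CentrallyLarge.mcl_iff R).trans (hiff R), Q, (hiff Q).mp hQ.1, hab, fun x hx => ?_⟩
    have := HSubgroup.pow_mem_phi (hSp.to_subgroup Q) hx
    rwa [hphi, Subgroup.mem_bot] at this)

end Cfsg.Agent.S2989
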