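import Cfsg.Statements.S2998
import Cfsg.Agent.Lib.Fusion.Alperin

set_option autoImplicit false
open Cfsg

namespace Cfsg.Agent.S2998

/-- Let G be a finite group, p a prime, P a Sylow p-subgroup of G and x ∈ P an element such that N_G(R) ≤ C_G(x) for every nontrivial subgroup R of P. Then P ≤ C_G(x); every G-conjugate of x lying in P equals x (so g ∈ C_G(x) whenever g x g⁻¹ ∈ P); and for every normal subgroup N of G, the image of x in G ⧸ N has the same property with respect to the image of P: the normalizer of every nontrivial subgroup of the image of P centralizes the image of x. -/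
theorem result {G : Type*} [Group G] [Finite G] {p : ℕ} [Fact p.Prime] (P : Sylow p G) (x : G) (hxP : x ∈ (P : Subgroup G)) (hlc : ∀ R : Subgroup G, R ≤ (P : Subgroup G) → R ≠ ⊥ → Subgroup.normalizer (R : Set G) ≤ Subgroup.centralizer ({x} : Set G)) : (P : Subgroup G) ≤ Subgroup.centralizer ({x} : Set G) ∧ (∀ g : G, g * x * g⁻¹ ∈ (P : Subgroup G) → g * x * g⁻¹ = x) ∧ ∀ (N : Subgroup G) [N.Normal], ∀ R : Subgroup (G ⧸ N), R ≤ (P : Subgroup G).map (QuotientGroup.mk' N) → R ≠ ⊥ → Subgroup.normalizer (R : Set (G ⧸ N)) ≤ Subgroup.centralizer ({(QuotientGroup.mk x : G ⧸ N)} : Set (G ⧸ N)) := by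
  have hPC : (P : Subgroup G) ≤ Subgroup.centralizer ({x} : Set G) := by
    rcases eq_or_ne (P : Subgroup G) ⊥ with h | h
    · rw [h]; exact bot_le
    · exact Subgroup.le_normalizer.trans (hlc _ le_rfl h)
  refine ⟨hPC, fun g hg => ?_, fun N _ R hR hR1 => ?_⟩
  · rcases eq_or_ne x 1 with rfl | hx1
    · simp
    have key : ∀ (A : Set G) (k : G), CfsgLib.Fusion.Alperin.Chain P A k → (∃ a ∈ A, a ≠ 1) →
        k ∈ Subgroup.centralizer ({x} : Set G) := by
      intro A k hch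
      induction hch with
      | nil A hA => exact fun _ => one_mem _
      | cons A Q y k ht hy hA _ ih =>
        rintro ⟨a, ha, ha1⟩
        refine mul_mem (hlc _ inf_le_left (fun hb => ha1 ?_) hy) (ih ⟨_, ⟨a, ha, rfl⟩, ?_⟩)
        · exact Subgroup.mem_bot.mp (hb ▸ hA ha)
        · exact fun e => ha1 (by
            calc a = y * (y⁻¹ * a * y) * y⁻¹ := by group
              _ = 1 := by simp only at e; rw [e]; group)
    have hchain := CfsgLib.Fusion.Alperin.chain_of_conj P {g * x * g⁻¹} g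
      (Set.singleton_subset_iff.mpr hg)
      (by rw [Set.image_singleton]; exact Set.singleton_subset_iff.mpr
            (by rw [show g⁻¹ * (g * x * g⁻¹) * g = x by group]; exact hxP))
    have hgc := key _ _ hchain ⟨_, rfl, fun e => hx1 (conj_eq_one_iff.mp e)⟩
    rw [Subgroup.mem_centralizer_singleton_iff.mp hgc]; group
  set f := QuotientGroup.mk' N
  set H := R.comap f with hH
  set R0 := (P : Subgroup G) ⊓ H with hR0
  have hmap : ∀ r ∈ R, ∃ u ∈ R0, f u = r := by
    intro r hr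
    obtain ⟨u, hu, rfl⟩ := hR hr
    exact ⟨u, ⟨hu, hr⟩, rfl⟩
  have hR0ne : R0 ≠ ⊥ := fun hb => hR1 ((Subgroup.eq_bot_iff_forall R).mpr fun r hr => by
    obtain ⟨u, hu, rfl⟩ := hmap r hr
    rw [hb, Subgroup.mem_bot] at hu
    rw [hu, map_one])
  obtain ⟨S, hS⟩ := ((P.isPGroup'.to_le (inf_le_left : R0 ≤ _)).of_equiv
    (Subgroup.subgroupOfEquivOfLe (inf_le_right : R0 ≤ H)).symm).exists_le_sylow
  have hSeq : (S : Subgroup H) = R0.subgroupOf H := by
    refine le_antisymm (fun s hs => ?_) hS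
    obtain ⟨u, hu, he⟩ := hmap (f (s : G)) s.2
    set S' := (S : Subgroup H).map H.subtype
    have hu' : u ∈ S' := ⟨⟨u, hu.2⟩, hS (Subgroup.mem_subgroupOf.mpr hu), rfl⟩
    have hn : (s : G) * u⁻¹ ∈ S' ⊓ N := by
      refine Subgroup.mem_inf.mpr ⟨mul_mem ⟨s, hs, rfl⟩ (inv_mem hu'), (QuotientGroup.eq_one_iff _).mp ?_⟩
      show f ((s : G) * u⁻¹) = 1
      rw [map_mul, map_inv, he, mul_inv_cancel]
    have hPN : S' ⊓ N ≤ (P : Subgroup G) ⊓ N := by
      have hle : (P : Subgroup G) ⊓ N ≤ S' ⊓ N := fun z hz =>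
        ⟨⟨⟨z, by show f z ∈ R; rw [show f z = 1 from (QuotientGroup.eq_one_iff z).mpr hz.2]; exact one_mem R⟩,
          hS (Subgroup.mem_subgroupOf.mpr ⟨hz.1, by
            show f z ∈ R; rw [show f z = 1 from (QuotientGroup.eq_one_iff z).mpr hz.2]; exact one_mem R⟩),
          rfl⟩, hz.2⟩
      obtain ⟨k, hk⟩ := ((S.isPGroup'.map H.subtype).to_le
        (inf_le_left : S' ⊓ N ≤ S')).index ((((P : Subgroup G) ⊓ N)).subgroupOf (S' ⊓ N))
      rw [← Subgroup.relIndex_eq_one]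
      have hd : ((P : Subgroup G) ⊓ N).relIndex (S' ⊓ N) ∣ ((P : Subgroup G) ⊓ N).relIndex N :=
        ⟨_, (Subgroup.relIndex_mul_relIndex _ _ N hle inf_le_right).symm⟩
      have hnd := CfsgLib.Fusion.Basic.not_dvd_relIndex_of_normal P N
      rcases Nat.eq_zero_or_pos k with rfl | hk0
      · exact hk
      · exact absurd ((dvd_pow_self p hk0.ne').trans (hk ▸ dvd_rfl) |>.trans hd) hnd
    have h' := (hPN hn).1
    refine Subgroup.mem_subgroupOf.mpr ⟨?_, s.2⟩
    have h'' := mul_mem h' hu.1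
    rw [inv_mul_cancel_right] at h''
    exact h''
  intro gb hgb
  obtain ⟨g, rfl⟩ := QuotientGroup.mk'_surjective N gb
  have hgH : ∀ z, z ∈ H ↔ g * z * g⁻¹ ∈ H := fun z => by
    show f z ∈ R ↔ f (g * z * g⁻¹) ∈ R
    rw [map_mul, map_mul, map_inv]
    exact Subgroup.mem_normalizer_iff.mp hgb (f z)
  set R1 := R0.map (MulAut.conj g).toMonoidHom with hR1'
  have hR1H : R1 ≤ H := by
    rintro _ ⟨z, hz, rfl⟩
    exact (hgH z).mp hz.2
  obtain ⟨T, hT⟩ := (((P.isPGroup'.to_le (inf_le_left : R0 ≤ _)).map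
    (MulAut.conj g).toMonoidHom).of_equiv (Subgroup.subgroupOfEquivOfLe hR1H).symm).exists_le_sylow
  obtain ⟨h, hh⟩ := MulAction.exists_smul_eq H T S
  have hconj : ∀ z ∈ R0, ((h : G) * g) * z * ((h : G) * g)⁻¹ ∈ R0 := by
    intro z hz
    have h1 : h * ⟨g * z * g⁻¹, (hgH z).mp hz.2⟩ * h⁻¹ ∈ (S : Subgroup H) := by
      rw [← hh]
      exact ⟨⟨g * z * g⁻¹, (hgH z).mp hz.2⟩, hT ⟨z, hz, rfl⟩, rfl⟩
    rw [hSeq, Subgroup.mem_subgroupOf] at h1
    simpa [mul_assoc] using h1
  have hn : (h : G) * g ∈ Subgroup.normalizer (R0 : Set G) := by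
    refine Subgroup.mem_normalizer_fintype fun z hz => hconj z hz
  have hc := hlc R0 inf_le_left hR0ne hn
  obtain ⟨u, hu, he⟩ := hmap (f (h : G)) h.2
  rw [Subgroup.mem_centralizer_singleton_iff] at hc
  have hcu := Subgroup.mem_centralizer_singleton_iff.mp (hPC hu.1)
  have h3 : u⁻¹ * ((h : G) * g) ∈ Subgroup.centralizer ({x} : Set G) :=
    mul_mem (inv_mem (hPC hu.1)) (Subgroup.mem_centralizer_singleton_iff.mpr hc)
  rw [Subgroup.mem_centralizer_singleton_iff] at h3 ⊢
  have h4 := congrArg f h3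
  simp only [map_mul, map_inv, he, inv_mul_cancel_left] at h4
  exact h4

end Cfsg.Agent.S2998
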