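import Cfsg.Statements.S2999
import Cfsg.Agent.Lib.LocalEven.RankOneFF.MinimalPair
import Cfsg.Prelude.Def_BaumannBlocks

set_option autoImplicit false
open Cfsg CfsgLib.LocalEven.RankOneFF
open CfsgLib.Fusion.ReplacementEA (wt)
open scoped IsMulCommutative commutatorElement

namespace Cfsg.Agent.S2999

/-- Let p be a prime and let P and V be subgroups of a finite group with V elementary abelian, P normalizing V and acting faithfully on it (P ∩ C(V) = 1). Suppose P is p-minimal (a Sylow p-subgroup T of P is not normal and lies in a unique maximal subgroup M of P) and A ≤ T is an elementary abelian subgroup such that: |V/C_V(A)| ≤ |A| while |A₀|·|C_V(A₀)| < |A|·|C_V(A)| for every nontrivial proper subgroup A₀ of A; [C_V(T), P] ≠ 1; and P = ⟨A, xAx⁻¹⟩ for every x ∈ P outside M. Then, with q = |A|, there is a field F with q elements such that P ≅ SL₂(F), C_V(A) = [V, A]·C_V(P), and P acts on V/C_V(P) as SL₂(F) on its natural two-dimensional module. -/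
theorem result {G : Type*} [Group G] [Finite G] {p : ℕ} [Fact p.Prime] (V P : Subgroup G) (hV : Cfsg.IsElementaryAbelian p V) (hPV : P ≤ Subgroup.normalizer (V : Set G)) (hfaith : P ⊓ Subgroup.centralizer (V : Set G) = ⊥) (hmin : Cfsg.IsPMinimal p ↥P) (T : Sylow p ↥P) (M : Subgroup ↥P) (hM : IsCoatom M) (hTM : (T : Subgroup ↥P) ≤ M) (A : Subgroup G) (hAT : A ≤ ((T : Subgroup ↥P).map P.subtype)) (hAel : Cfsg.IsElementaryAbelian p A) (hi : Nat.card ↥V ≤ Nat.card ↥A * Nat.card ↥(V ⊓ Subgroup.centralizer ((A : Subgroup G) : Set G)) ∧ ∀ A₀ : Subgroup G, A₀ ≤ A → A₀ ≠ ⊥ → A₀ ≠ A → Nat.card ↥A₀ * Nat.card ↥(V ⊓ Subgroup.centralizer ((A₀ : Subgroup G) : Set G)) < Nat.card ↥A * Nat.card ↥(V ⊓ Subgroup.centralizer ((A : Subgroup G) : Set G))) (hii : ⁅(V ⊓ Subgroup.centralizer ((((T : Subgroup ↥P).map P.subtype) : Subgroup G) : Set G)), P⁆ ≠ ⊥) (hiii : ∀ x : ↥P, x ∉ M → A ⊔ A.map (MulAut.conj (x : G)).toMonoidHom = P) : ∃ (F : Type) (_ : Field F) (_ : Fintype F), Fintype.card F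 = Nat.card ↥A ∧ Nonempty (↥P ≃* Matrix.SpecialLinearGroup (Fin 2) F) ∧ (V ⊓ Subgroup.centralizer ((A : Subgroup G) : Set G)) = ⁅V, A⁆ ⊔ (V ⊓ Subgroup.centralizer ((P : Subgroup G) : Set G)) ∧ Cfsg.ActsAsSL2OnSection F ⊤ P V (V ⊓ Subgroup.centralizer ((P : Subgroup G) : Set G)) := by
  classical
  haveI := hV.1
  have hAP : A ≤ P := hAT.trans (Subgroup.map_subtype_le _)
  have hmapA : (A.subgroupOf P).map P.subtype = A := Subgroup.map_subgroupOf_eq_of_le hAP
  obtain ⟨x₀, -, hx₀⟩ := SetLike.exists_of_lt hM.1.lt_top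
  have hAne : A ≠ ⊥ := by
    intro e
    have h1 := hiii x₀ hx₀
    rw [e, Subgroup.map_bot, sup_bot_eq] at h1
    refine hx₀ ?_
    rw [show x₀ = 1 from Subtype.ext (Subgroup.mem_bot.1 (h1 ▸ x₀.2))]
    exact one_mem M
  have hVA : A ≤ Subgroup.normalizer (V : Set G) := hAP.trans hPV
  have hAab : ⁅A, A⁆ ≤ Subgroup.centralizer (V : Set G) := by
    rw [Subgroup.commutator_le]
    intro a ha b hb
    haveI := hAel.1
    have hab : a * b = b * a := congrArg Subtype.val (mul_comm (⟨a, ha⟩ : A) ⟨b, hb⟩)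
    rw [commutatorElement_eq_one_iff_mul_comm.2 hab]
    exact one_mem _
  have hoff : Nat.card V ≤ wt V A := hi.1
  have hmax : ∀ B ≤ A, wt V B ≤ wt V A := by
    intro B hB
    by_cases h0 : B = ⊥
    · subst h0
      refine le_trans ?_ hoff
      rw [wt, Subgroup.card_bot, one_mul]
      exact Subgroup.card_le_of_le inf_le_left
    by_cases h1 : B = A
    · rw [h1]
    exact (hi.2 B hB h0 h1).le
  have hVc : ∀ x ∈ V, ∀ y ∈ V, x * y = y * x := fun x hx y hy =>
    congrArg Subtype.val (mul_comm (⟨x, hx⟩ : V) ⟨y, hy⟩)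
  have hquad : A ≤ Subgroup.centralizer ((⁅V, A⁆ : Subgroup G) : Set G) := by
    obtain ⟨hw, hC⟩ := CfsgLib.Fusion.Offender.replacement hVc hVA hAab hmax (le_refl V)
    by_contra hnle
    set B := A ⊓ Subgroup.centralizer ((⁅V, A⁆ : Subgroup G) : Set G) with hBdef
    have hBA : B ≠ A := fun e => hnle (inf_eq_left.1 e)
    by_cases h0 : B = ⊥
    · rw [h0] at hC
      have hle : V ≤ ⁅V, A⁆ ⊔ (V ⊓ Subgroup.centralizer (A : Set G)) := by
        rw [← hC]
        exact le_inf le_rfl fun x _ => Subgroup.mem_centralizer_iff.2 fun y hy => by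
          rw [Subgroup.mem_bot.1 hy, one_mul, mul_one]
      have hVp : IsPGroup p V := fun v => ⟨1, Subtype.ext (by rw [pow_one]; exact hV.2 v v.2)⟩
      have h1 := CfsgLib.Fusion.Offender.commutator_eq_bot_of_le hVp hVc hVA
        (fun a ha => by rw [hAel.2 a ha]; exact one_mem _) hle
      rw [Subgroup.commutator_eq_bot_iff_le_centralizer] at h1
      refine hAne (eq_bot_iff.2 (hfaith ▸ le_inf hAP fun b hb => ?_))
      exact Subgroup.mem_centralizer_iff.2 fun v hv => (Subgroup.mem_centralizer_iff.1 (h1 hv) b hb).symm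
    · exact (hi.2 B inf_le_left h0 hBA).ne hw
  have hAmb := ambient_conjV hV hPV hfaith
  have hOff := off_conjV hPV hAP hAne hquad hoff
  have hpair : MinPair (conjV hPV) M (A.subgroupOf P) T := by
    refine ⟨hOff, fun A₀ hA₀ h0 h1 => ?_, ?_, hTM, hM.1, ?_, (hmin T).1, ?_, ?_⟩
    · have e0 : Nat.card A₀ = Nat.card (A₀.map P.subtype) :=
        (Subgroup.card_map_of_injective P.subtype_injective).symm
      have e1 : Nat.card (A.subgroupOf P) = Nat.card A := Nat.card_congr (Subgroup.subgroupOfEquivOfLe hAP).toEquiv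
      rw [card_fx_conjV, card_fx_conjV, hmapA, e0, e1]
      refine hi.2 _ (hmapA ▸ Subgroup.map_mono hA₀) (fun e => h0 ?_) (fun e => h1 ?_)
      · exact (Subgroup.map_eq_bot_iff_of_injective _ P.subtype_injective).1 e
      · exact Subgroup.map_injective P.subtype_injective (e.trans hmapA.symm)
    · intro a ha
      obtain ⟨t, ht, hte⟩ := hAT (show (a : G) ∈ A from ha)
      exact (Subtype.ext hte : t = a) ▸ hTM ht
    · intro L hTL hL
      obtain ⟨M', hM', hLM'⟩ := (eq_top_or_exists_le_coatom L).resolve_left hL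
      have := (hmin T).2.unique ⟨hM', hTL.trans hLM'⟩ ⟨hM, hTM⟩
      exact hLM'.trans this.le
    · intro x hx
      refine Subgroup.map_injective P.subtype_injective ?_
      rw [Subgroup.map_sup, hmapA, ← MonoidHom.range_eq_map, Subgroup.range_subtype, Subgroup.map_map,
        show P.subtype.comp (MulAut.conj x).toMonoidHom = (MulAut.conj (x : G)).toMonoidHom.comp P.subtype from
          MonoidHom.ext fun y => rfl, ← Subgroup.map_map, hmapA]
      exact hiii x hx
    · by_contra hall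
      push Not at hall
      refine hii ?_
      rw [Subgroup.commutator_eq_bot_iff_le_centralizer]
      rintro v ⟨hv, hvT⟩
      have h1 := hall (Additive.ofMul (⟨v, hv⟩ : V)) ((mem_fx_conjV hPV _ _).2 hvT)
      rw [mem_fx_conjV, ← MonoidHom.range_eq_map, Subgroup.range_subtype] at h1
      exact h1
  obtain ⟨F, instF, instFF, hN⟩ := exists_natural_of_block hAmb (hpair.block hAmb hx₀)
  obtain ⟨φ, ψ, hφ, hψs, hψ0, hψe⟩ := hN.equiv
  let φ' : P →* Matrix.SpecialLinearGroup (Fin 2) F := φ.comp Subgroup.topEquiv.symm.toMonoidHom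
  have hφ' : Function.Bijective φ' := hφ.comp Subgroup.topEquiv.symm.bijective
  have hZ : ∀ v : Additive V, v ∈ fx (conjV hPV) (⊤ : Subgroup P) ↔
      ((Additive.toMul v : V) : G) ∈ V ⊓ Subgroup.centralizer ((P : Subgroup G) : Set G) := fun v => by
    rw [mem_fx_conjV, ← MonoidHom.range_eq_map, Subgroup.range_subtype, Subgroup.mem_inf]
    exact ⟨fun e => ⟨(Additive.toMul v).2, e⟩, fun e => e.2⟩
  refine ⟨F, instF, instFF, hN.card.trans (Nat.card_congr (Subgroup.subgroupOfEquivOfLe hAP).toEquiv),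
    ⟨MulEquiv.ofBijective φ' hφ'⟩, ?_, hPV, inf_le_left, φ', AddMonoidHom.toMultiplicativeRight ψ,
    MonoidHom.range_eq_top.2 hφ'.2, fun c => ?_, fun u => ?_, fun e u => ?_⟩
  · refine le_antisymm ?_ (sup_le (le_inf ?_ ?_) (inf_le_inf_left _ (Subgroup.centralizer_le
      (SetLike.coe_subset_coe.2 hAP))))
    · rintro w ⟨hw, hwA⟩
      obtain ⟨a, ha, y, hay⟩ := hN.fixed (Additive.ofMul (⟨w, hw⟩ : V))
        ((mem_fx_conjV hPV _ _).2 (hmapA.symm ▸ hwA))
      rw [hZ] at hay
      set z := (Additive.ofMul (⟨w, hw⟩ : V)) - (conjV hPV a y - y) with hz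
      have e : w = ((Additive.toMul (conjV hPV a y - y) : V) : G) * ((Additive.toMul z : V) : G) := by
        have h2 : Additive.ofMul (⟨w, hw⟩ : V) = (conjV hPV a y - y) + z := by rw [hz]; abel
        exact congrArg (fun t : Additive V => ((Additive.toMul t : V) : G)) h2
      rw [e, coe_conjV_sub]
      refine mul_mem (Subgroup.mem_sup_left ?_) (Subgroup.mem_sup_right hay)
      rw [Subgroup.commutator_comm]
      exact Subgroup.commutator_mem_commutator (show ((a : P) : G) ∈ A from ha) (Additive.toMul y).2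
    · rw [Subgroup.commutator_le]
      intro v hv a ha
      rw [commutatorElement_def, show v * a * v⁻¹ * a⁻¹ = v * (a * v⁻¹ * a⁻¹) by group]
      exact mul_mem hv ((Subgroup.mem_normalizer_iff.mp (hVA ha) _).mp (inv_mem hv))
    · intro c hc
      exact Subgroup.mem_centralizer_iff.2 fun a ha => (Subgroup.mem_centralizer_iff.1 (hquad ha) c hc).symm
  · obtain ⟨v, hv⟩ := hψs (Multiplicative.toAdd c)
    exact ⟨Additive.toMul v, congrArg Multiplicative.ofAdd hv⟩
  · refine Iff.trans ?_ ((hψ0 (Additive.ofMul u)).trans (hZ _))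
    exact ⟨fun e => congrArg Multiplicative.toAdd e, fun e => congrArg Multiplicative.ofAdd e⟩
  · exact ⟨Additive.toMul (conjV hPV e (Additive.ofMul u)), rfl, hψe ⟨e, Subgroup.mem_top e⟩ (Additive.ofMul u)⟩

end Cfsg.Agent.S2999
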