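import Cfsg.Statements.S3000
import Cfsg.Agent.Lib.LocalEven.MovesFixed.Isolate
import Cfsg.Agent.Lib.LocalEven.RankOneFF.Glue
import Cfsg.Prelude.Def_BaumannBlocks

set_option autoImplicit false
open Cfsg CfsgLib.LocalEven.RankOneFF CfsgLib.LocalEven.SylowIn
open CfsgLib.Fusion.ReplacementEA (wt)
open scoped IsMulCommutative commutatorElement MatrixGroups

namespace Cfsg.Agent.S3000

/-- Let p be a prime and let P and V be subgroups of a finite group with V elementary abelian, P normalizing V and acting faithfully on it (P ∩ C(V) = 1). Suppose P is p-minimal (a Sylow p-subgroup T of P is not normal and lies in a unique maximal subgroup M of P), O_p(P) = 1, C_P(C_V(T)) ≤ M, and P has a best offender on V: a subgroup A not centralizing V, with A/C_A(V) elementary abelian, such that |B|·|C_V(B)| ≤ |A|·|C_V(A)| for every subgroup B of A. Then there are subgroups E₁, …, E_r of P (r ≥ 1), pairwise commuting and forming with T a product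 P = (E₁ × ⋯ × E_r)T (internal direct product of the E_i), any two of which are conjugate by an element of T, such that V = C_V(E₁⋯E_r)·∏[V, E_i] with [V, E_i, E_j] = 1 for i ≠ j, and for each i there is n ≥ 1 with either E_i ≅ SL₂(pⁿ) acting on [V, E_i]/C_{[V,E_i]}(E_i) as on its natural two-dimensional module, or p = 2 and E_i isomorphic to the symmetric group of degree 2ⁿ + 1 acting on [V, E_i]/C_{[V,E_i]}(E_i) as on its even-weight permutation module. -/
theorem result {G : Type*} [Group G] [Finite G] {p : ℕ} [Fact p.Prime] (V P : Subgroup G) (hV : Cfsg.IsElementaryAbelian p V) (hPV : P ≤ Subgroup.normalizer (V : Set G)) (hfaith : P ⊓ Subgroup.centralizer (V : Set G) = ⊥) (hmin : Cfsg.IsPMinimal p ↥P) (T : Sylow p ↥P) (M : Subgroup ↥P) (hM : IsCoatom M) (hTM : (T : Subgroup ↥P) ≤ M) (hOp : Cfsg.pCore p ↥P = ⊥) (hoff : ∃ A : Subgroup G, A ≤ P ∧ ¬ A ≤ Subgroup.centralizer (V : Set G) ∧ Cfsg.IsBestOffenderOn p V A) (hCT : P ⊓ Subgroup.centralizer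 ((V ⊓ Subgroup.centralizer ((((T : Subgroup ↥P).map P.subtype) : Subgroup G) : Set G)) : Set G) ≤ M.map P.subtype) : ∃ (r : ℕ) (E : Fin r → Subgroup G), 1 ≤ r ∧ (∀ i, E i ≤ P) ∧ (∀ i j, i ≠ j → ⁅E i, E j⁆ = ⊥) ∧ (∀ i, E i ⊓ (⨆ j ∈ {j | j ≠ i}, E j) = ⊥) ∧ (⨆ i, E i) ⊔ ((T : Subgroup ↥P).map P.subtype) = P ∧ (∀ i j, ∃ t ∈ ((T : Subgroup ↥P).map P.subtype), (E i).map (MulAut.conj t).toMonoidHom = E j) ∧ (V ⊓ Subgroup.centralizer (((⨆ i, E i) : Subgroup G) : Set G)) ⊔ (⨆ i, ⁅V, E i⁆) = V ∧ (∀ i j, i ≠ j → ⁅⁅V, E i⁆, E j⁆ = ⊥) ∧ ∀ i, ∃ n : ℕ, 1 ≤ n ∧ ((∃ (F : Type) (_ : Field F) (_ : Fintype F), Fintype.card F = p ^ n ∧ Nonempty (↥(E i) ≃* Matrix.SpecialLinearGroup (Fin 2) F) ∧ Cfsg.ActsAsSL2OnSection F ⊤ (E i) ⁅V, E i⁆ (⁅V, E i⁆ ⊓ Subgroup.centralizer ((E i : Subgroup G) : Set G))) ∨ (p = 2 ∧ Nonempty (↥(E i) ≃* Equiv.Perm (Fin (2 ^ n + 1))) ∧ Cfsg.ActsAsOddPermModuleOnSection (2 ^ n + 1) ⊤ (E i) ⁅V, E i⁆ (⁅V, E i⁆ ⊓ Subgroup.centralizer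 ((E i : Subgroup G) : Set G)))) := by
  classical
  haveI := hV.1
  obtain ⟨A₀, hA₀P, hA₀, hbest, hab, hpow⟩ := hoff
  have hne : A₀ ≠ ⊥ := fun e => hA₀ (e ▸ bot_le)
  have hwt : Nat.card V ≤ wt V A₀ := by
    have h := hbest ⊥ bot_le
    rw [Subgroup.card_bot, one_mul] at h
    refine le_trans (Subgroup.card_le_of_le (le_inf le_rfl fun x _ => ?_)) h
    exact Subgroup.mem_centralizer_iff.2 fun y hy => by rw [Subgroup.mem_bot.1 hy, one_mul, mul_one]
  obtain ⟨B, hBA, hBne, hquad, hBoff⟩ := exists_quadratic hV hPV hfaith hA₀P hab hpow hne hwt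
  set ρ := conjV (V := V) hPV with hρ
  have hbase : CfsgLib.LocalEven.MovesFixed.Base ρ T M := by
    refine ⟨ambient_conjV hV hPV hfaith, hTM, hM.1, fun K hTK hK => ?_,
      fun U hU hUp => eq_bot_iff.2 (hOp ▸ le_pCore (hN := hU) hUp), ?_⟩
    · obtain ⟨M', hM', hKM⟩ := (eq_top_or_exists_le_coatom K).resolve_left hK
      exact hKM.trans ((hmin T).2.unique ⟨hM', hTK.trans hKM⟩ ⟨hM, hTM⟩).le
    · by_contra hall
      push Not at hall
      refine hM.1 (eq_top_iff.2 fun x _ => ?_)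
      have hxc : (x : G) ∈ Subgroup.centralizer ((V ⊓ Subgroup.centralizer
          ((((T : Subgroup P).map P.subtype) : Subgroup G) : Set G) : Subgroup G) : Set G) := by
        refine Subgroup.mem_centralizer_iff.2 fun v hv => ?_
        have h := hall (Additive.ofMul (⟨v, hv.1⟩ : V)) ((mem_fx_conjV hPV _ _).2 hv.2)
        exact ((conjV_eq_self hPV x _).1 (h x (Subgroup.mem_top x))).symm
      obtain ⟨m, hm, hme⟩ := hCT (Subgroup.mem_inf.2 ⟨x.2, hxc⟩)
      exact (Subtype.ext hme : m = x) ▸ hm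
  obtain ⟨L, n, F, iF, iFF, φ, ψ, hLN, hn, hcard, hφ, hψ, hψ0, hψe⟩ :=
    CfsgLib.LocalEven.MovesFixed.exists_natural_outside hbase (off_conjV hPV (hBA.trans hA₀P) hBne hquad hBoff)
  set E : Subgroup G := L.map P.subtype with hE
  have hEP : E ≤ P := Subgroup.map_subtype_le _
  have hEV : E ≤ Subgroup.normalizer (V : Set G) := hEP.trans hPV
  have hUV : ⁅V, E⁆ ≤ V := by
    rw [Subgroup.commutator_le]
    intro v hv e he
    rw [commutatorElement_def, show v * e * v⁻¹ * e⁻¹ = v * (e * v⁻¹ * e⁻¹) by group]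
    exact mul_mem hv ((Subgroup.mem_normalizer_iff.mp (hEV he) _).mp (inv_mem hv))
  -- the commutators reach the whole section
  have hsurj : ∀ c : Fin 2 → F, ∃ u : Additive V, ((Additive.toMul u : V) : G) ∈ ⁅V, E⁆ ∧ ψ u = c := by
    intro c
    obtain ⟨k₁, hk₁⟩ := hφ.2 (upS 1)
    obtain ⟨k₂, hk₂⟩ := hφ.2 (lowS 1)
    obtain ⟨w₁, hw₁⟩ := hψ ![0, c 0]
    obtain ⟨w₂, hw₂⟩ := hψ ![c 1, 0]
    have hmem : ∀ (k : L) (w : Additive V), ((Additive.toMul (ρ (k : P) w - w) : V) : G) ∈ ⁅V, E⁆ := fun k w => by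
      rw [hρ, coe_conjV_sub, Subgroup.commutator_comm]
      exact Subgroup.commutator_mem_commutator (Subgroup.mem_map_of_mem P.subtype k.2) (Additive.toMul w).2
    refine ⟨(ρ (k₁ : P) w₁ - w₁) + (ρ (k₂ : P) w₂ - w₂), ?_, ?_⟩
    · rw [toMul_add, Subgroup.coe_mul]
      exact mul_mem (hmem k₁ w₁) (hmem k₂ w₂)
    · rw [map_add, map_sub, map_sub, hψe, hψe, hk₁, hk₂, hw₁, hw₂]
      funext i
      fin_cases i <;> simp [upS, lowS, Matrix.mulVec, Matrix.vecHead, Matrix.vecTail, dotProduct, Fin.sum_univ_two]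
  have hker : ∀ u : Additive V, ψ u = 0 ↔ ((Additive.toMul u : V) : G) ∈ Subgroup.centralizer (E : Set G) :=
    fun u => by rw [hψ0, hρ, mem_fx_conjV]
  refine ⟨1, fun _ => E, le_rfl, fun _ => hEP, fun i j h => absurd (Subsingleton.elim i j) h, fun i => ?_, ?_,
    fun i j => ⟨1, one_mem _, map_conj_one E⟩, ?_, fun i j h => absurd (Subsingleton.elim i j) h,
    fun i => ⟨n, hn, Or.inl ⟨F, iF, iFF, hcard, ?_, ?_⟩⟩⟩
  · refine eq_bot_iff.2 (inf_le_right.trans (iSup_le fun j => iSup_le fun hj => ?_))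
    exact absurd (Subsingleton.elim j i) hj
  · rw [iSup_const, hE, ← Subgroup.map_sup]
    have htop : L ⊔ (T : Subgroup P) = ⊤ := by
      by_contra h
      exact hLN (le_sup_left.trans (hbase.overgroup _ le_sup_right h))
    rw [htop, ← MonoidHom.range_eq_map, Subgroup.range_subtype]
  · rw [iSup_const, iSup_const]
    refine le_antisymm (sup_le inf_le_left hUV) fun v hv => ?_
    obtain ⟨u, hu, hue⟩ := hsurj (ψ (Additive.ofMul (⟨v, hv⟩ : V)))
    set z := Additive.ofMul (⟨v, hv⟩ : V) - u with hz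
    have hz0 : ψ z = 0 := by rw [hz, map_sub, hue, sub_self]
    have e : v = ((Additive.toMul z : V) : G) * ((Additive.toMul u : V) : G) :=
      congrArg (fun t : Additive V => ((Additive.toMul t : V) : G)) (sub_add_cancel (Additive.ofMul (⟨v, hv⟩ : V)) u).symm
    rw [e]
    exact mul_mem (Subgroup.mem_sup_left ⟨(Additive.toMul z).2, (hker z).1 hz0⟩) (Subgroup.mem_sup_right hu)
  · exact ⟨((L.equivMapOfInjective P.subtype P.subtype_injective).symm).trans (MulEquiv.ofBijective φ hφ)⟩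
  have hnorm : E ≤ Subgroup.normalizer ((⁅V, E⁆ : Subgroup G) : Set G) := le_normalizer_of_map_conj fun e he => by
    rw [Subgroup.map_commutator, map_conj_eq_iff.2 (hEV he), map_conj_eq_iff.2 (Subgroup.le_normalizer he)]
  let ε : E ≃* L := (L.equivMapOfInjective P.subtype P.subtype_injective).symm
  have hε : ∀ e : E, (((ε e : L) : P) : G) = (e : G) := fun e => by
    conv_rhs => rw [← ε.symm_apply_apply e]
    rfl
  refine ⟨hnorm, inf_le_left, φ.comp ε.toMonoidHom,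
    (AddMonoidHom.toMultiplicativeRight ψ).comp (Subgroup.inclusion hUV), ?_, fun c => ?_, fun u => ?_,
    fun e u => ?_⟩
  · exact MonoidHom.range_eq_top.2 (hφ.2.comp ε.surjective)
  · obtain ⟨u, hu, hue⟩ := hsurj (Multiplicative.toAdd c)
    refine ⟨⟨_, hu⟩, ?_⟩
    exact congrArg Multiplicative.ofAdd hue
  · constructor
    · exact fun h => ⟨u.2, (hker (Additive.ofMul (Subgroup.inclusion hUV u))).1 (congrArg Multiplicative.toAdd h)⟩
    · exact fun h => congrArg Multiplicative.ofAdd ((hker (Additive.ofMul (Subgroup.inclusion hUV u))).2 h.2)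
  · refine ⟨⟨(e : G) * u * (e : G)⁻¹, (Subgroup.mem_normalizer_iff.1 (hnorm e.2) _).1 u.2⟩, rfl, ?_⟩
    refine Eq.trans ?_ (hψe (ε e) (Additive.ofMul (Subgroup.inclusion hUV u)))
    refine congrArg ψ (congrArg Additive.ofMul (Subtype.ext ?_))
    show (e : G) * (u : G) * (e : G)⁻¹ = ((ε e : P) : G) * (u : G) * ((ε e : P) : G)⁻¹
    rw [hε]

end Cfsg.Agent.S3000
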