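import Cfsg.Statements.S3001
import Cfsg.Agent.Lib.LocalEven.MovesFixed.Main
import Cfsg.Agent.Lib.LocalEven.RankOneFF.Glue

set_option autoImplicit false
open Cfsg CfsgLib.LocalEven.RankOneFF CfsgLib.LocalEven.SylowIn
open CfsgLib.Fusion.ReplacementEA (wt)
open scoped IsMulCommutative commutatorElement

namespace Cfsg.Agent.S3001

/-- Let p be a prime and let P and V be subgroups of a finite group with V elementary abelian, P normalizing V and acting faithfully on it (P ∩ C(V) = 1). Suppose P is p-minimal (a Sylow p-subgroup is not normal and lies in a unique maximal subgroup), O_p(P) = 1, and P has a best offender on V (a subgroup A not centralizing V, with A/C_A(V) elementary abelian and |B|·|C_V(B)| ≤ |A|·|C_V(A)| for every B ≤ A). Then [C_V(T), P] ≠ 1 for every Sylow p-subgroup T of P. -/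
theorem result {G : Type*} [Group G] [Finite G] {p : ℕ} [Fact p.Prime] (V P : Subgroup G) (hV : Cfsg.IsElementaryAbelian p V) (hPV : P ≤ Subgroup.normalizer (V : Set G)) (hfaith : P ⊓ Subgroup.centralizer (V : Set G) = ⊥) (hmin : Cfsg.IsPMinimal p ↥P) (hOp : Cfsg.pCore p ↥P = ⊥) (hoff : ∃ A : Subgroup G, A ≤ P ∧ ¬ A ≤ Subgroup.centralizer (V : Set G) ∧ Cfsg.IsBestOffenderOn p V A) (T : Sylow p ↥P) : ⁅(V ⊓ Subgroup.centralizer ((((T : Subgroup ↥P).map P.subtype) : Subgroup G) : Set G)), P⁆ ≠ ⊥ := by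
  classical
  haveI := hV.1
  obtain ⟨hnT, N, ⟨hN, hTN⟩, huniq⟩ := hmin T
  obtain ⟨A₀, hA₀P, hA₀, hbest, hab, hpow⟩ := hoff
  have hne : A₀ ≠ ⊥ := fun e => hA₀ (e ▸ bot_le)
  have hwt : Nat.card V ≤ wt V A₀ := by
    have h := hbest ⊥ bot_le
    rw [Subgroup.card_bot, one_mul] at h
    refine le_trans (Subgroup.card_le_of_le (le_inf le_rfl fun x _ => ?_)) h
    exact Subgroup.mem_centralizer_iff.2 fun y hy => by rw [Subgroup.mem_bot.1 hy, one_mul, mul_one]
  obtain ⟨B, hBA, hBne, hquad, hBoff⟩ := exists_quadratic hV hPV hfaith hA₀P hab hpow hne hwt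
  obtain ⟨v, hv, hvP⟩ := CfsgLib.LocalEven.MovesFixed.exists_moved_fixed_point (ambient_conjV hV hPV hfaith)
    (T := T) hTN hN.1
    (fun K hTK hK => by
      obtain ⟨M, hM, hKM⟩ := (eq_top_or_exists_le_coatom K).resolve_left hK
      exact hKM.trans (huniq M ⟨hM, hTK.trans hKM⟩).le)
    (fun U hU hUp => eq_bot_iff.2 (hOp ▸ le_pCore (hN := hU) hUp))
    (off_conjV hPV (hBA.trans hA₀P) hBne hquad hBoff)
  intro hbot
  rw [Subgroup.commutator_eq_bot_iff_le_centralizer] at hbot
  refine hvP ((mem_fx_conjV hPV _ v).2 ?_)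
  rw [← MonoidHom.range_eq_map, Subgroup.range_subtype]
  exact hbot ⟨(Additive.toMul v).2, (mem_fx_conjV hPV _ v).1 hv⟩

end Cfsg.Agent.S3001
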