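import Cfsg.Statements.S3003
import Cfsg.Agent.Lib.Coprime.Generation

set_option autoImplicit false
open Cfsg

namespace Cfsg.Agent.S3003

/-- Let G be a finite group, p a prime and Q a large p-subgroup of G: C_G(Q) ≤ Q and N_G(U) ≤ N_G(Q) for every nontrivial subgroup U of C_G(Q). Let Q ≤ G₁ ≤ G, let R be a subgroup of order prime to p normalized by G₁, and let U ≤ G₁ be a p-subgroup. If U contains a nontrivial element which is G₁-conjugate to an element of Z(Q), then C_R(U) = 1. In particular, if U is elementary abelian of order at least p² and every maximal subgroup of U contains a nontrivial element G₁-conjugate into Z(Q), then R = 1. -/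
theorem result {G : Type*} [Group G] [Finite G] {p : ℕ} [Fact p.Prime] (Q : Subgroup G) (hQp : IsPGroup p ↥Q) (hlarge : Cfsg.IsLarge Q) (G₁ : Subgroup G) (hQG : Q ≤ G₁) (R : Subgroup G) (hR : (Nat.card ↥R).Coprime p) (hGR : G₁ ≤ Subgroup.normalizer (R : Set G)) (U : Subgroup G) (hUG : U ≤ G₁) (hUp : IsPGroup p ↥U) : ((∃ x ∈ U, x ≠ 1 ∧ ∃ g ∈ G₁, g * x * g⁻¹ ∈ Q ⊓ Subgroup.centralizer (Q : Set G)) → R ⊓ Subgroup.centralizer (U : Set G) = ⊥) ∧ (Cfsg.IsElementaryAbelian p U → p ^ 2 ≤ Nat.card ↥U → (∀ U₀ : Subgroup G, U₀ ≤ U → IsCoatom (U₀.subgroupOf U) → ∃ x ∈ U₀, x ≠ 1 ∧ ∃ g ∈ G₁, g * x * g⁻¹ ∈ Q ⊓ Subgroup.centralizer (Q : Set G)) → R = ⊥) := by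
  have hfix : ∀ z ∈ Q ⊓ Subgroup.centralizer (Q : Set G), z ≠ 1 →
      R ⊓ Subgroup.centralizer ({z} : Set G) = ⊥ := by
    intro z hz hz1
    rw [Subgroup.eq_bot_iff_forall]
    intro r hr
    have hrN : r ∈ Subgroup.normalizer (Q : Set G) := by
      refine hlarge.2 (Subgroup.zpowers z) (Subgroup.zpowers_le.mpr hz.2)
        (fun hb => hz1 (Subgroup.zpowers_eq_bot.mp hb)) (Subgroup.centralizer_le_normalizer _ ?_)
      rintro _ ⟨i, rfl⟩
      exact ((show Commute r z from Subgroup.mem_centralizer_singleton_iff.mp hr.2).zpow_right i).symm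
    have hdisj : Q ⊓ R = ⊥ := by
      apply Subgroup.inf_eq_bot_of_coprime
      obtain ⟨k, hk⟩ := hQp.exists_card_eq
      rw [hk]
      exact hR.symm.pow_left k
    have hrQ : r ∈ Q := hlarge.1 fun q hq => by
      have hm : q * r * q⁻¹ * r⁻¹ ∈ Q ⊓ R := by
        refine Subgroup.mem_inf.mpr ⟨?_, mul_mem ((Subgroup.mem_normalizer_iff.mp (hGR (hQG hq)) r).mp hr.1) (inv_mem hr.1)⟩
        rw [show q * r * q⁻¹ * r⁻¹ = q * (r * q⁻¹ * r⁻¹) by group]
        exact mul_mem hq ((Subgroup.mem_normalizer_iff.mp hrN _).mp (inv_mem hq))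
      rw [hdisj, Subgroup.mem_bot] at hm
      exact commutatorElement_eq_one_iff_mul_comm.mp hm
    exact Subgroup.mem_bot.mp (hdisj ▸ ⟨hrQ, hr.1⟩)
  have part1 : ∀ W : Subgroup G, (∃ x ∈ W, x ≠ 1 ∧ ∃ g ∈ G₁, g * x * g⁻¹ ∈
      Q ⊓ Subgroup.centralizer (Q : Set G)) → R ⊓ Subgroup.centralizer (W : Set G) = ⊥ := by
    rintro W ⟨x, hx, hx1, g, hg, hgx⟩
    rw [Subgroup.eq_bot_iff_forall]
    intro r hr
    have hm : g * r * g⁻¹ ∈ R ⊓ Subgroup.centralizer ({g * x * g⁻¹} : Set G) := by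
      refine Subgroup.mem_inf.mpr ⟨(Subgroup.mem_normalizer_iff.mp (hGR hg) r).mp hr.1, ?_⟩
      rw [Subgroup.mem_centralizer_singleton_iff, conj_mul, conj_mul, hr.2 x hx]
    rw [hfix _ hgx (fun e => hx1 (conj_eq_one_iff.mp e)), Subgroup.mem_bot] at hm
    exact conj_eq_one_iff.mp hm
  refine ⟨part1 U, fun hU hcard hmax => ?_⟩
  haveI := hU.1
  haveI : Nontrivial U := by
    rw [← Finite.one_lt_card_iff_nontrivial]
    exact lt_of_lt_of_le (Nat.one_lt_pow two_ne_zero (Fact.out : p.Prime).one_lt) hcard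
  have hcop : (Nat.card U).Coprime (Nat.card R) := by
    obtain ⟨k, hk⟩ := hUp.exists_card_eq
    rw [hk]
    exact hR.symm.pow_left k
  rw [← CfsgLib.Coprime.iSup_centralizer_of_cyclic_quotient (A := U) (K := R)
    (hUG.trans hGR) hcop, eq_bot_iff]
  refine iSup₂_le fun B hB => ?_
  obtain ⟨hBU, a, ha, hBa⟩ := hB
  have key : ∀ C : Subgroup U, IsCoatom C →
      R ⊓ Subgroup.centralizer ((C.map U.subtype : Subgroup G) : Set G) = ⊥ := fun C hC =>
    part1 _ (hmax _ (Subgroup.map_subtype_le C) (by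
      rwa [Subgroup.subgroupOf, Subgroup.comap_map_eq_self_of_injective U.subtype_injective]))
  rcases eq_top_or_exists_le_coatom (B.subgroupOf U) with h | ⟨C, hC, hBC⟩
  · obtain ⟨C, hC, -⟩ := (eq_top_or_exists_le_coatom (⊥ : Subgroup U)).resolve_left bot_ne_top
    have hle : C.map U.subtype ≤ B := (Subgroup.map_subtype_le C).trans (Subgroup.subgroupOf_eq_top.mp h)
    rw [← key C hC]
    exact inf_le_inf le_rfl (Subgroup.centralizer_le hle)
  · have hCB : C.map U.subtype ≤ B := by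
      rintro _ ⟨c, hc, rfl⟩
      have hcU : (c : G) ∈ B ⊔ Subgroup.zpowers a := hBa.symm ▸ c.2
      have hn : Subgroup.zpowers a ≤ Subgroup.normalizer (B : Set G) := by
        refine le_trans ?_ (Subgroup.centralizer_le_normalizer _)
        refine Subgroup.zpowers_le.mpr fun b hb => ?_
        exact congrArg Subtype.val (hU.1.is_comm.comm (⟨b, hBU hb⟩ : U) ⟨a, ha⟩)
      rw [← SetLike.mem_coe, Subgroup.coe_mul_of_right_le_normalizer_left _ _ hn] at hcU
      obtain ⟨b, hb, z, ⟨i, rfl⟩, he⟩ := Set.mem_mul.mp hcU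
      by_cases hdvd : (p : ℤ) ∣ i
      · obtain ⟨j, rfl⟩ := hdvd
        have hz : a ^ ((p : ℤ) * j) = 1 := by rw [zpow_mul, zpow_natCast, hU.2 a ha, one_zpow]
        rw [Subgroup.coe_subtype, ← he]
        simp only [hz, mul_one]
        exact hb
      · exfalso
        refine hC.1 ((Subgroup.eq_top_iff' C).mpr fun u => ?_)
        have hai : (⟨a, ha⟩ : U) ^ i ∈ C := by
          have : (⟨a, ha⟩ : U) ^ i = (⟨b, hBU hb⟩ : U)⁻¹ * c := by
            apply Subtype.ext
            simp [← he]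
          rw [this]
          exact mul_mem (inv_mem (hBC (Subgroup.mem_subgroupOf.mpr hb))) hc
        have haC : (⟨a, ha⟩ : U) ∈ C := by
          obtain ⟨s, t, hst⟩ :=
            ((Nat.prime_iff_prime_int.mp (Fact.out : p.Prime)).coprime_iff_not_dvd).mpr hdvd
          have h1 : (⟨a, ha⟩ : U) ^ (p : ℤ) = 1 := by
            rw [zpow_natCast]; exact Subtype.ext (by simpa using hU.2 a ha)
          rw [← zpow_one (⟨a, ha⟩ : U), ← hst, zpow_add, mul_comm s, zpow_mul, h1, one_zpow, one_mul,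
            mul_comm t, zpow_mul]
          exact zpow_mem hai t
        have huU : (u : G) ∈ B ⊔ Subgroup.zpowers a := hBa.symm ▸ u.2
        have hle : B ⊔ Subgroup.zpowers a ≤ C.map U.subtype :=
          sup_le (fun b' hb' => ⟨⟨b', hBU hb'⟩, hBC (Subgroup.mem_subgroupOf.mpr hb'), rfl⟩)
            (Subgroup.zpowers_le.mpr ⟨⟨a, ha⟩, haC, rfl⟩)
        obtain ⟨u', hu', he'⟩ := hle huU
        exact (Subtype.ext he' : u' = u) ▸ hu'
    rw [← key C hC]
    exact inf_le_inf le_rfl (Subgroup.centralizer_le hCB)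

end Cfsg.Agent.S3003
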