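import Cfsg.Statements.S3005
import Cfsg.Agent.Lib.LocalEvenB.CDMeasure


set_option autoImplicit false
open scoped Pointwise
open Cfsg

namespace Cfsg.Agent.S3005

/-- Let P be a finite p-group; call R ≤ P centrally large if |R|·|Z(R)| is as large as possible among subgroups of P, and measure-largest if |R|·|C_P(R)| is as large as possible. Then: a centrally large Q is measure-largest with C_P(Q) = Z(Q); a measure-largest Q is centrally large if and only if C_P(Q) ≤ Q; if Q and R are centrally large then QR = RQ is a centrally large subgroup; and the subgroups generated by all centrally large subgroups, respectively by all minimal centrally large subgroups, are themselves centrally large. -/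
theorem result {p : ℕ} [Fact p.Prime] (P : Type*) [Group P] [Finite P] (hP : IsPGroup p P) : (∀ Q : Subgroup P, Cfsg.IsCentrallyLarge Q → Cfsg.IsCentralizerLarge Q ∧ Subgroup.centralizer (Q : Set P) = Q ⊓ Subgroup.centralizer (Q : Set P)) ∧ (∀ Q : Subgroup P, Cfsg.IsCentralizerLarge Q → (Cfsg.IsCentrallyLarge Q ↔ Subgroup.centralizer (Q : Set P) ≤ Q)) ∧ (∀ Q R : Subgroup P, Cfsg.IsCentrallyLarge Q → Cfsg.IsCentrallyLarge R → ((Q ⊔ R : Subgroup P) : Set P) = (Q : Set P) * (R : Set P) ∧ Cfsg.IsCentrallyLarge (Q ⊔ R)) ∧ Cfsg.IsCentrallyLarge (Cfsg.centrallyLargeJoin P) ∧ Cfsg.IsCentrallyLarge (Cfsg.minimalCentrallyLargeJoin P) := by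
  open CfsgLib.LocalEvenB.CDMeasure in
  obtain ⟨T, hT, -, hgt⟩ := exists_greatest_isMaxCD P
  open CfsgLib.LocalEvenB.CDMeasure in
  have hsup : ∀ Q R : Subgroup P, Cfsg.IsCentrallyLarge Q → Cfsg.IsCentrallyLarge R →
      Cfsg.IsCentrallyLarge (Q ⊔ R) := fun Q R hQ hR => by
    rw [isCentrallyLarge_iff] at *
    exact ⟨hQ.1.sup hR.1, (Subgroup.centralizer_le (SetLike.coe_subset_coe.mpr le_sup_left)).trans
      (hQ.2.trans le_sup_left)⟩
  open CfsgLib.LocalEvenB.CDMeasure in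
  have hjoin : ∀ s : Set (Subgroup P), s.Nonempty → (∀ R ∈ s, Cfsg.IsCentrallyLarge R) →
      Cfsg.IsCentrallyLarge (sSup s) := fun s hs h => by
    rw [isCentrallyLarge_iff]
    refine ⟨IsMaxCD.sSup hs fun R hR => ((isCentrallyLarge_iff R).mp (h R hR)).1, ?_⟩
    obtain ⟨R, hR⟩ := hs
    exact (Subgroup.centralizer_le (SetLike.coe_subset_coe.mpr (le_sSup hR))).trans
      (((isCentrallyLarge_iff R).mp (h R hR)).2.trans (le_sSup hR))
  open CfsgLib.LocalEvenB.CDMeasure in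
  have hTL : Cfsg.IsCentrallyLarge T := (isCentrallyLarge_iff T).mpr ⟨hT, hgt _ hT.centralizer⟩
  open CfsgLib.LocalEvenB.CDMeasure in
  refine ⟨fun Q hQ => ⟨(isMaxCD_iff Q).mp ((isCentrallyLarge_iff Q).mp hQ).1,
      (inf_eq_right.mpr ((isCentrallyLarge_iff Q).mp hQ).2).symm⟩,
    fun Q hQ => ⟨fun h => ((isCentrallyLarge_iff Q).mp h).2,
      fun h => (isCentrallyLarge_iff Q).mpr ⟨(isMaxCD_iff Q).mpr hQ, h⟩⟩,
    fun Q R hQ hR => ⟨IsMaxCD.set_mul ((isCentrallyLarge_iff Q).mp hQ).1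
      ((isCentrallyLarge_iff R).mp hR).1, hsup Q R hQ hR⟩,
    hjoin _ ⟨T, hTL⟩ fun R hR => hR, hjoin _ ?_ fun R hR => hR.1⟩
  obtain ⟨⟨Q, hQ⟩, hmin⟩ := @Finite.exists_min {R : Subgroup P // Cfsg.IsCentrallyLarge R} _ _
    ⟨⟨T, hTL⟩⟩ _ (fun R => Nat.card R.1)
  exact ⟨Q, hQ, fun R hle hR => Subgroup.eq_of_le_of_card_ge hle (hmin ⟨R, hR⟩)⟩

end Cfsg.Agent.S3005
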