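import Cfsg.Statements.S3008
import Cfsg.Agent.Lib.LocalEvenB.CentrallyLarge

set_option autoImplicit false
open Cfsg

namespace Cfsg.Agent.S3008

/-- Let P be a finite p-group, with J(P) generated by its abelian subgroups of largest order and J̃(P) = C_P(Z(J(P))); call R ≤ P centrally large if |R|·|Z(R)| is as large as possible, and let P_MCL be generated by the minimal centrally large subgroups. Then: for every centrally large Q, Q·J(P) ⊇ J̃(P); some minimal centrally large subgroup of P is normalized by both J(P) and P_MCL; if P = J(P) and d(P)² = |P|·|Z(P)|, where d(P) is the largest order of an abelian subgroup, then every minimal centrally large subgroup of P is abelian; and if every minimal centrally large subgroup is abelian then J̃(P) = J(P). -/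
theorem result {p : ℕ} [Fact p.Prime] (P : Type*) [Group P] [Finite P] (hP : IsPGroup p P) : (∀ Q : Subgroup P, Cfsg.IsCentrallyLarge Q → Subgroup.centralizer ((Cfsg.thompsonSubgroupA P ⊓ Subgroup.centralizer (Cfsg.thompsonSubgroupA P : Set P) : Subgroup P) : Set P) ≤ Q ⊔ Cfsg.thompsonSubgroupA P) ∧ (∃ Q : Subgroup P, Cfsg.IsMinimalCentrallyLarge Q ∧ Cfsg.thompsonSubgroupA P ≤ Subgroup.normalizer (Q : Set P) ∧ Cfsg.minimalCentrallyLargeJoin P ≤ Subgroup.normalizer (Q : Set P)) ∧ (Cfsg.thompsonSubgroupA P = ⊤ → (∀ A ∈ Cfsg.maxAbelianSubgroups P, Nat.card ↥A ^ 2 = Nat.card P * Nat.card ↥(Subgroup.center P)) → ∀ Q : Subgroup P, Cfsg.IsMinimalCentrallyLarge Q → IsMulCommutative ↥Q) ∧ ((∀ Q : Subgroup P, Cfsg.IsMinimalCentrallyLarge Q → IsMulCommutative ↥Q) → Subgroup.centralizer ((Cfsg.thompsonSubgroupA P ⊓ Subgroup.centralizer (Cfsg.thompsonSubgroupA P : Set P) : Subgroup P) : Set P) = Cfsg.thompsonSubgroupA P) := by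
  classical
  haveI := hP.isNilpotent
  open CfsgLib.LocalEvenB CfsgLib.LocalEvenB.CDMeasure in
  exact (by
    rw [CentrallyLarge.inf_centralizer_join]
    refine ⟨fun Q hQ => ?_, ?_, fun hJ hA => ?_, fun hall => ?_⟩
    · obtain ⟨hQm, hQc⟩ := (isCentrallyLarge_iff Q).mp hQ
      exact (CentrallyLarge.join_thompson hQm hQc).2
    · obtain ⟨Q, hQ, hn⟩ := CentrallyLarge.exists_normalized (G := P)
      have hnQ : Subgroup.normalizer ((Subgroup.centralizer (Q : Set P) : Subgroup P) : Set P) ≤
          Subgroup.normalizer (Q : Set P) := by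
        intro x hx
        rw [Subgroup.mem_normalizer_iff_map_conj_eq] at hx ⊢
        have h := congrArg (fun K : Subgroup P => Subgroup.centralizer (K : Set P)) hx
        have hm := CentrallyLarge.map_centralizer (MulAut.conj x) (Subgroup.centralizer (Q : Set P))
        erw [hm] at h
        rw [hQ.1.double_centralizer] at h
        exact h
      refine ⟨Q, (CentrallyLarge.mcl_iff Q).mpr hQ, sSup_le fun A hA => ?_, sSup_le fun R hR => ?_⟩
      · exact (hn A (CentrallyLarge.target_maxAbelian hA)).trans hnQ
      · have hR' := (CentrallyLarge.mcl_iff R).mp hR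
        rw [← hR'.split hQ]
        exact sup_le (inf_le_right.trans Subgroup.le_normalizer)
          ((hn _ (CentrallyLarge.target_center hR')).trans hnQ)
    · intro Q hQ
      obtain ⟨hQm, hQc⟩ := (isCentrallyLarge_iff Q).mp hQ.1
      obtain ⟨A, hAmax⟩ := CentrallyLarge.exists_maxAbelian (G := P)
      have htop := (CentrallyLarge.join_thompson hQm hQc).1
      rw [hJ, sup_top_eq] at htop
      have hcA := CentrallyLarge.centralizer_maxAbelian hAmax
      have hAcd : IsMaxCD A := by
        refine htop.of_le (le_of_eq ?_)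
        unfold cd
        rw [hcA, Subgroup.card_top, Subgroup.coe_top, Subgroup.centralizer_univ, ← hA A hAmax, sq]
      have hAmcl : CentrallyLarge.MCL A := by
        refine ⟨hAcd, le_of_eq hcA, fun R hR _ hRc => le_antisymm hR ?_⟩
        calc A = Subgroup.centralizer (A : Set P) := hcA.symm
          _ ≤ Subgroup.centralizer (R : Set P) := Subgroup.centralizer_le hR
          _ ≤ R := hRc
      have hQ' := (CentrallyLarge.mcl_iff Q).mp hQ
      rw [CentrallyLarge.abelian_iff_commutator, hQ'.commutator_eq hAmcl, ← CentrallyLarge.abelian_iff_commutator]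
      exact hAmax.1
    · obtain ⟨Q, hQ⟩ := CentrallyLarge.exists_mcl (G := P)
      obtain ⟨hmax, -⟩ := CentrallyLarge.mcl_eq_maxAbelian hQ (hall Q ((CentrallyLarge.mcl_iff Q).mpr hQ))
      obtain ⟨A, hA⟩ := CentrallyLarge.exists_maxAbelian (G := P)
      have hJ : IsMaxCD (Cfsg.thompsonSubgroupA P) :=
        IsMaxCD.sSup ⟨A, hA⟩ fun B hB => (hmax B hB).1
      exact hJ.double_centralizer)

end Cfsg.Agent.S3008
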