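import Cfsg.Statements.S3009
import Cfsg.Agent.Lib.LocalEvenB.SL2Natural
import Cfsg.Agent.Lib.Classical.SL2Sylow

set_option autoImplicit false
open Cfsg
open scoped Pointwise

namespace Cfsg.Agent.S3009

/-- Let p be a prime and let G and V be subgroups of a finite group with V elementary abelian and normalized by G, and G isomorphic to SL₂(F) for a finite field F with pⁿ elements. Suppose G acts irreducibly and nontrivially on V by conjugation (no G-invariant subgroups of V other than 1 and V, and [V, G] ≠ 1), and let S be a Sylow p-subgroup of G and V₀ = C_V(S). If [V, S, S] = 1 or |V| ≤ |V₀|², then G acts on V as SL₂(F) on its natural two-dimensional module; in particular |V| = |F|². -/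
theorem result {X : Type*} [Group X] [Finite X] {p : ℕ} [Fact p.Prime] (G V : Subgroup X) (hV : Cfsg.IsElementaryAbelian p V) (hGV : G ≤ Subgroup.normalizer (V : Set X)) (F : Type) [Field F] [Fintype F] (n : ℕ) (hF : Fintype.card F = p ^ n) (hG : Nonempty (↥G ≃* Matrix.SpecialLinearGroup (Fin 2) F)) (hirr : ∀ U : Subgroup X, U ≤ V → G ≤ Subgroup.normalizer (U : Set X) → U = ⊥ ∨ U = V) (hnt : ⁅V, G⁆ ≠ ⊥) (S : Sylow p ↥G) (hyp : ⁅⁅V, (S : Subgroup ↥G).map G.subtype⁆, (S : Subgroup ↥G).map G.subtype⁆ = ⊥ ∨ Nat.card ↥V ≤ Nat.card ↥(V ⊓ Subgroup.centralizer (((S : Subgroup ↥G).map G.subtype : Subgroup X) : Set X)) ^ 2) : Cfsg.ActsAsSL2OnSection F ⊤ G V ⊥ := by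
  classical
  haveI := charP_of_card_eq_prime_pow hF
  obtain ⟨e0⟩ := hG
  obtain ⟨x0, hx0⟩ := CfsgLib.Classical.sylowSL2_exists_conj
    (S.mapSurjective (f := e0.toMonoidHom) e0.surjective)
  let e : ↥G ≃* Matrix.SpecialLinearGroup (Fin 2) F := e0.trans (MulAut.conj x0⁻¹)
  have hSmem : ∀ g : ↥G, g ∈ (S : Subgroup ↥G) ↔ ∃ c, e g = CfsgLib.Perm.SL2Unipotent.up c := by
    intro g
    have h1 : g ∈ (S : Subgroup ↥G) ↔ e0 g ∈ MulAut.conj x0 • CfsgLib.Classical.unipSL F := by
      rw [← hx0]
      exact (Subgroup.mem_map_iff_mem (f := e0.toMonoidHom) e0.injective).symm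
    rw [h1, Subgroup.mem_smul_pointwise_iff_exists]
    constructor
    · rintro ⟨_, ⟨c, rfl⟩, hc⟩
      refine ⟨c.toAdd, Subtype.ext ?_⟩
      show ((MulAut.conj x0⁻¹ (e0 g) : Matrix.SpecialLinearGroup (Fin 2) F) : Matrix (Fin 2) (Fin 2) F) = _
      rw [← hc, MulAut.smul_def, MulAut.conj_apply, MulAut.conj_apply,
        show x0⁻¹ * (x0 * CfsgLib.Classical.uSL c * x0⁻¹) * x0⁻¹⁻¹ = CfsgLib.Classical.uSL c by group]
      exact CfsgLib.Classical.uSL_coe c.toAdd
    · rintro ⟨c, hc⟩
      refine ⟨CfsgLib.Classical.uSL (Multiplicative.ofAdd c), ⟨_, rfl⟩, ?_⟩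
      have hu : CfsgLib.Classical.uSL (Multiplicative.ofAdd c) = MulAut.conj x0⁻¹ (e0 g) := by
        refine (Subtype.ext ?_).trans hc.symm
        exact CfsgLib.Classical.uSL_coe c
      rw [hu, MulAut.smul_def, MulAut.conj_apply, MulAut.conj_apply]
      group
  letI : CommGroup ↥V :=
    { (inferInstance : Group ↥V) with mul_comm := fun a b => hV.1.is_comm.comm a b }
  have hnorm : ∀ (g : ↥G) (v : ↥V), (g : X) * v * (g : X)⁻¹ ∈ V := fun g v =>
    (Subgroup.mem_normalizer_iff.1 (hGV g.2) v).1 v.2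
  let ρ : Matrix.SpecialLinearGroup (Fin 2) F →* AddMonoid.End (Additive ↥V) :=
    { toFun := fun s => AddMonoidHom.mk'
        (fun v => Additive.ofMul (⟨((e.symm s : ↥G) : X) * (Additive.toMul v : ↥V) * ((e.symm s : ↥G) : X)⁻¹,
          hnorm _ _⟩ : ↥V))
        (fun v w => by
          apply Additive.toMul.injective; apply Subtype.ext
          show ((e.symm s : ↥G) : X) * (((Additive.toMul v : ↥V) : X) * (Additive.toMul w : ↥V)) * _ = _ * _ * _ * (_ * _ * _)
          group)
      map_one' := AddMonoidHom.ext fun v => by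
        apply Additive.toMul.injective; apply Subtype.ext
        show ((e.symm 1 : ↥G) : X) * _ * _ = _
        rw [map_one, Subgroup.coe_one, one_mul, inv_one, mul_one]
        rfl
      map_mul' := fun s t => AddMonoidHom.ext fun v => by
        apply Additive.toMul.injective; apply Subtype.ext
        show ((e.symm (s * t) : ↥G) : X) * _ * _
          = ((e.symm s : ↥G) : X) * (((e.symm t : ↥G) : X) * _ * ((e.symm t : ↥G) : X)⁻¹) * ((e.symm s : ↥G) : X)⁻¹
        rw [map_mul, Subgroup.coe_mul]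
        group }
  have hρ : ∀ (g : ↥G) (v : ↥V), ((Additive.toMul (ρ (e g) (Additive.ofMul v)) : ↥V) : X) = (g : X) * v * (g : X)⁻¹ :=
    fun g v => by
      show ((e.symm (e g) : ↥G) : X) * _ * _ = _
      rw [MulEquiv.symm_apply_apply]; rfl
  have hS' : ∀ a : F, (e.symm (CfsgLib.Perm.SL2Unipotent.up a) : ↥G) ∈ (S : Subgroup ↥G) := fun a =>
    (hSmem _).2 ⟨a, MulEquiv.apply_symm_apply e _⟩
  obtain ⟨Ψ, hΨ⟩ := CfsgLib.LocalEvenB.SL2Natural.natural ρ (by
    intro Y hY
    let U : Subgroup X := (AddSubgroup.toSubgroup' Y).map V.subtype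
    have hUn : G ≤ Subgroup.normalizer (U : Set X) := by
      have hfw : ∀ (g : ↥G) (x : X), x ∈ U → (g : X) * x * (g : X)⁻¹ ∈ U := by
        rintro g _ ⟨v, hv, rfl⟩
        exact ⟨Additive.toMul (ρ (e g) (Additive.ofMul v)), hY (e g) _ hv, hρ g v⟩
      intro g hg
      refine Subgroup.mem_normalizer_iff.2 fun x => ⟨fun hx => hfw ⟨g, hg⟩ x hx, fun hx => ?_⟩
      have := hfw ⟨g⁻¹, inv_mem hg⟩ _ hx
      simpa [mul_assoc] using this
    rcases hirr U (Subgroup.map_subtype_le _) hUn with h | h
    · left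
      rw [eq_bot_iff]
      intro v hv
      have h1 : ((Additive.toMul v : ↥V) : X) ∈ U := ⟨_, hv, rfl⟩
      rw [h, Subgroup.mem_bot] at h1
      rw [AddSubgroup.mem_bot]
      apply Additive.toMul.injective
      exact Subtype.ext h1
    · right
      rw [eq_top_iff]
      intro v _
      obtain ⟨v', hv', e'⟩ : ((Additive.toMul v : ↥V) : X) ∈ U := h.symm ▸ (Additive.toMul v : ↥V).2
      have he : v' = Additive.toMul v := Subtype.ext e'
      rw [he] at hv'
      exact hv')
    (by
      by_contra h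
      push Not at h
      refine hnt ((Subgroup.commutator_eq_bot_iff_le_centralizer).2 fun v hv => ?_)
      refine Subgroup.mem_centralizer_iff.2 fun g hg => ?_
      have := hρ ⟨g, hg⟩ ⟨v, hv⟩
      rw [h] at this
      exact mul_inv_eq_iff_eq_mul.1 this.symm)
    p (fun z => by
      apply Additive.toMul.injective
      apply Subtype.ext
      simpa using hV.2 _ (Additive.toMul z).2)
    (by
      rcases hyp with h | h
      · left
        intro a b z
        apply Additive.toMul.injective
        apply Subtype.ext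
        set ga := (e.symm (CfsgLib.Perm.SL2Unipotent.up a) : ↥G)
        set gb := (e.symm (CfsgLib.Perm.SL2Unipotent.up b) : ↥G)
        set v := ((Additive.toMul z : ↥V) : X)
        have hga : (ga : X) ∈ (S : Subgroup ↥G).map G.subtype := Subgroup.mem_map_of_mem _ (hS' a)
        have hc : (gb : X) * v * (gb : X)⁻¹ * v⁻¹ ∈ ⁅V, (S : Subgroup ↥G).map G.subtype⁆ := by
          rw [Subgroup.commutator_comm, ← commutatorElement_def]
          exact Subgroup.commutator_mem_commutator (Subgroup.mem_map_of_mem _ (hS' b)) (Additive.toMul z : ↥V).2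
        rw [Subgroup.commutator_eq_bot_iff_le_centralizer] at h
        have h1 := Subgroup.mem_centralizer_iff.1 (h hc) _ hga
        set c := (gb : X) * v * (gb : X)⁻¹ * v⁻¹
        show (ga : X) * (((gb : X) * v * (gb : X)⁻¹) / v) * (ga : X)⁻¹ = ((gb : X) * v * (gb : X)⁻¹) / v
        rw [div_eq_mul_inv]
        exact mul_inv_eq_iff_eq_mul.2 h1
      · right
        refine h.trans (le_of_eq ?_)
        congr 1
        refine Nat.card_congr
          { toFun := fun z => ⟨Additive.ofMul ⟨z.1, z.2.1⟩, fun a => ?_⟩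
            invFun := fun z => ⟨((Additive.toMul z.1 : ↥V) : X), (Additive.toMul z.1 : ↥V).2, ?_⟩
            left_inv := fun z => rfl
            right_inv := fun z => rfl }
        · apply Additive.toMul.injective
          apply Subtype.ext
          show ((e.symm (CfsgLib.Perm.SL2Unipotent.up a) : ↥G) : X) * z.1 * _ = z.1
          exact mul_inv_eq_iff_eq_mul.2 (Subgroup.mem_centralizer_iff.1 z.2.2 _ (Subgroup.mem_map_of_mem _ (hS' a)))
        · refine Subgroup.mem_centralizer_iff.2 ?_
          rintro _ ⟨g, hg, rfl⟩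
          obtain ⟨c, hc⟩ := (hSmem g).1 hg
          have h1 := hρ g (Additive.toMul z.1)
          rw [hc, ofMul_toMul, z.2 c] at h1
          exact mul_inv_eq_iff_eq_mul.1 h1.symm)
  refine ⟨hGV, bot_le, e.toMonoidHom, MonoidHom.mk' (fun u => Multiplicative.ofAdd (Ψ (Additive.ofMul u))) (fun u u' => by rw [ofMul_mul, map_add, ofAdd_add]), ?_, ?_, fun u => ?_, fun g u => ?_⟩
  · exact MonoidHom.range_eq_top.2 e.surjective
  · intro c
    obtain ⟨z, hz⟩ := Ψ.surjective c.toAdd
    exact ⟨Additive.toMul z, Multiplicative.toAdd.injective hz⟩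
  · rw [Subgroup.mem_bot]
    constructor
    · intro h
      have h1 : Ψ (Additive.ofMul u) = 0 := congrArg Multiplicative.toAdd h
      have h2 := (map_eq_zero_iff Ψ Ψ.injective).1 h1
      exact congrArg Subtype.val (show u = 1 from h2)
    · intro h
      have hu : u = 1 := Subtype.ext h
      rw [hu, map_one]
  · exact ⟨Additive.toMul (ρ (e g) (Additive.ofMul u)), hρ g u, hΨ (e g) (Additive.ofMul u)⟩

end Cfsg.Agent.S3009
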