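import Cfsg.Statements.S3011
import Cfsg.Agent.Lib.Involution.BaerSuzuki

set_option autoImplicit false
open Cfsg

namespace Cfsg.Agent.S3011

/-- Let G be a finite group and V a nontrivial elementary abelian 2-subgroup of G of order at most 4 such that, whenever an element of V inverts an element h of G of odd order, some nontrivial element of V commutes with h. Then V meets O₂(G) nontrivially. (The case of order at most 4 has a short argument from the Baer–Suzuki theorem.) -/
theorem result {G : Type*} [Group G] [Finite G] (V : Subgroup G) (hV : Cfsg.IsElementaryAbelian 2 V) (hV1 : V ≠ ⊥) (hS : Cfsg.IsSidkiPair V) (h4 : Nat.card V ≤ 4) : V ⊓ Cfsg.pCore 2 G ≠ ⊥ := by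
  classical
  haveI : Fact (Nat.Prime 2) := ⟨Nat.prime_two⟩
  by_contra hcon
  have hsq : ∀ v ∈ V, v * v = 1 := by
    intro v hv
    simpa [pow_two] using hV.2 v hv
  have hcomm : ∀ v ∈ V, ∀ w ∈ V, v * w = w * v := fun v hv w hw =>
    congrArg Subtype.val (hV.1.is_comm.comm ⟨v, hv⟩ ⟨w, hw⟩)
  have hinvd : ∀ v ∈ V, v ≠ 1 → ∃ h : G, h ≠ 1 ∧ Odd (orderOf h) ∧ v * h * v⁻¹ = h⁻¹ := by
    intro v hv hv1
    refine CfsgLib.Involution.BaerSuzuki.exists_inverted_odd v
      (orderOf_eq_prime (by rw [pow_two]; exact hsq v hv) hv1) ?_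
    intro N hN hN2 hvN
    have hle : N ≤ Cfsg.pCore 2 G := le_sSup ⟨hN, hN2⟩
    exact hv1 ((Subgroup.mem_bot).1 (hcon ▸ ⟨hv, hle hvN⟩))
  have hodd : ∀ h : G, Odd (orderOf h) → ∀ x : G, (h * h) * x = x * (h * h) → h * x = x * h := by
    intro h hh x hx
    obtain ⟨k, hk⟩ := hh
    have e : (h * h) ^ (k + 1) = h := by
      rw [← pow_two, ← pow_mul, show 2 * (k + 1) = orderOf h + 1 by omega, pow_succ, pow_orderOf_eq_one,
        one_mul]
    have := (Commute.pow_left (a := h * h) (b := x) hx (k + 1)).eq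
    rwa [e] at this
  have hone : ∀ h : G, Odd (orderOf h) → h * h = 1 → h = 1 := by
    intro h hh h2
    rw [← orderOf_eq_one_iff]
    rcases (Nat.dvd_prime Nat.prime_two).1 (orderOf_dvd_of_pow_eq_one (x := h) (n := 2) (by rw [pow_two]; exact h2))
      with h1 | h1
    · exact h1
    · rw [h1] at hh; exact absurd hh (by decide)
  have hself : ∀ v h : G, Odd (orderOf h) → v * h * v⁻¹ = h⁻¹ → v * h = h * v → h = 1 := by
    intro v h hh hi hc
    rw [hc, mul_inv_cancel_right] at hi
    exact hone h hh (by nth_rewrite 2 [hi]; exact mul_inv_cancel h)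
  have four : ∀ a ∈ V, ∀ b ∈ V, a ≠ 1 → b ≠ 1 → a ≠ b →
      ∀ w ∈ V, w ≠ 1 → w = a ∨ w = b ∨ w = a * b := by
    intro a ha b hb ha1 hb1 hab w hw hw1
    by_contra hn
    push Not at hn
    obtain ⟨h1, h2, h3⟩ := hn
    have hab1 : a * b ≠ 1 := fun e => hab ((eq_inv_of_mul_eq_one_left e).trans
      (inv_eq_of_mul_eq_one_left (hsq b hb)))
    have haab : a ≠ a * b := fun e => hb1 (left_eq_mul.1 e)
    have hbab : b ≠ a * b := fun e => ha1 (right_eq_mul.1 e)
    have hsub : (({1, a, b, a * b, w} : Finset G) : Set G) ⊆ (V : Set G) := by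
      intro x hx
      simp only [Finset.coe_insert, Finset.coe_singleton, Set.mem_insert_iff,
        Set.mem_singleton_iff] at hx
      rcases hx with rfl | rfl | rfl | rfl | rfl
      · exact V.one_mem
      · exact ha
      · exact hb
      · exact V.mul_mem ha hb
      · exact hw
    have hc5 : ({1, a, b, a * b, w} : Finset G).card = 5 := by
      rw [Finset.card_insert_of_notMem (by
          simp only [Finset.mem_insert, Finset.mem_singleton]; push Not
          exact ⟨ha1.symm, hb1.symm, hab1.symm, hw1.symm⟩),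
        Finset.card_insert_of_notMem (by
          simp only [Finset.mem_insert, Finset.mem_singleton]; push Not
          exact ⟨hab, haab, h1.symm⟩),
        Finset.card_insert_of_notMem (by
          simp only [Finset.mem_insert, Finset.mem_singleton]; push Not
          exact ⟨hbab, h2.symm⟩),
        Finset.card_insert_of_notMem (by
          simp only [Finset.mem_singleton]; exact h3.symm), Finset.card_singleton]
    have := Set.ncard_le_ncard hsub (Set.toFinite _)
    rw [Set.ncard_coe_finset, hc5, ← Nat.card_coe_set_eq] at this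
    simp only [SetLike.coe_sort_coe] at this
    omega
  -- the key configuration
  have key : ∀ a ∈ V, ∀ b ∈ V, a ≠ 1 → b ≠ 1 → a ≠ b → ∀ h d : G, h ≠ 1 → d ≠ 1 →
      Odd (orderOf h) → Odd (orderOf d) → a * h * a⁻¹ = h⁻¹ → b * h = h * b →
      b * d * b⁻¹ = d⁻¹ → a * d = d * a → False := by
    intro a ha b hb ha1 hb1 hab h d hh1 hd1 hho hdo hah hbh hbd had
    have hbh' : b * h * b⁻¹ = h := by rw [hbh, mul_inv_cancel_right]
    have had' : a * d * a⁻¹ = d := by rw [had, mul_inv_cancel_right]
    have hdc : h * d = d * h := by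
      set x := h * d * h⁻¹ with hx
      have hxo : Odd (orderOf x) := by
        rw [hx, CfsgLib.Involution.Dihedral.orderOf_conj]
        exact hdo
      have hxi : b * x * b⁻¹ = x⁻¹ := by
        calc b * x * b⁻¹ = (b * h * b⁻¹) * (b * d * b⁻¹) * (b * h * b⁻¹)⁻¹ := by rw [hx]; group
          _ = x⁻¹ := by rw [hbh', hbd, hx]; group
      have hx1 : x ≠ 1 := fun e => hd1 (by simpa using (conj_eq_one_iff).1 e)
      obtain ⟨w, hw, hw1, hwx⟩ := hS x b hb hxo hxi
      have hax : a * x * a⁻¹ = h⁻¹ * d * h := by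
        calc a * x * a⁻¹ = (a * h * a⁻¹) * (a * d * a⁻¹) * (a * h * a⁻¹)⁻¹ := by rw [hx]; group
          _ = h⁻¹ * d * h := by rw [hah, had']; group
      rcases four a ha b hb ha1 hb1 hab w hw hw1 with rfl | rfl | rfl
      · rw [hwx, mul_inv_cancel_right, hx] at hax
        refine hodd h hho d ?_
        calc h * h * d = h * (h * d * h⁻¹) * h := by group
          _ = h * (h⁻¹ * d * h) * h := by rw [hax]
          _ = d * (h * h) := by group
      · exact absurd (hself _ x hxo hxi hwx) hx1
      · exfalso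
        have e : h⁻¹ * d⁻¹ * h = x := by
          calc h⁻¹ * d⁻¹ * h = (a * x * a⁻¹)⁻¹ := by rw [hax]; group
            _ = a * x⁻¹ * a⁻¹ := by group
            _ = a * (b * x * b⁻¹) * a⁻¹ := by rw [hxi]
            _ = (a * b * x) * (a * b)⁻¹ := by group
            _ = x := by rw [hwx, mul_inv_cancel_right]
        have e2 : (h * h) * d * (h * h)⁻¹ = d⁻¹ := by
          calc (h * h) * d * (h * h)⁻¹ = h * x * h⁻¹ := by rw [hx]; group
            _ = d⁻¹ := by rw [← e]; group
        have it : ∀ n : ℕ, ((h * h) ^ n) * d * ((h * h) ^ n)⁻¹ = if Even n then d else d⁻¹ := by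
          intro n
          induction n with
          | zero => simp
          | succ n ih =>
            have step : (h * h) ^ (n + 1) * d * ((h * h) ^ (n + 1))⁻¹ =
                (h * h) * ((h * h) ^ n * d * ((h * h) ^ n)⁻¹) * (h * h)⁻¹ := by
              simp only [pow_succ', mul_inv_rev, mul_assoc]
            rw [step, ih]
            by_cases hn : Even n
            · rw [if_pos hn, if_neg (by simp [Nat.even_add_one, hn]), e2]
            · rw [if_neg hn, if_pos (Nat.even_add_one.2 hn)]
              calc (h * h) * d⁻¹ * (h * h)⁻¹ = ((h * h) * d * (h * h)⁻¹)⁻¹ := by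
                    simp only [mul_inv_rev, inv_inv, mul_assoc]
                _ = d := by rw [e2, inv_inv]
        have := it (orderOf h)
        rw [← pow_two, ← pow_mul, mul_comm 2, pow_mul, pow_orderOf_eq_one, one_pow,
          if_neg (Nat.not_even_iff_odd.2 hho), one_mul, inv_one, mul_one] at this
        exact hd1 (hone d hdo (by nth_rewrite 2 [this]; exact mul_inv_cancel d))
    have hcm : Commute h d := hdc
    have hko : Odd (orderOf (h * d)) :=
      (hho.mul hdo).of_dvd_nat hcm.orderOf_mul_dvd_mul_orderOf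
    have hki : a * b * (h * d) * (a * b)⁻¹ = (h * d)⁻¹ := by
      calc a * b * (h * d) * (a * b)⁻¹
          = a * ((b * h * b⁻¹) * (b * d * b⁻¹)) * a⁻¹ := by group
        _ = (a * h * a⁻¹) * (a * d⁻¹ * a⁻¹) := by rw [hbh', hbd]; group
        _ = h⁻¹ * (a * d * a⁻¹)⁻¹ := by rw [hah]; group
        _ = (h * d)⁻¹ := by rw [had', hdc, mul_inv_rev]
    obtain ⟨w, hw, hw1, hwk⟩ := hS (h * d) (a * b) (V.mul_mem ha hb) hko hki
    rcases four a ha b hb ha1 hb1 hab w hw hw1 with rfl | rfl | rfl
    · refine hh1 (hself w h hho hah (mul_right_cancel (b := d) ?_))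
      calc w * h * d = h * d * w := by rw [mul_assoc w h d, hwk]
        _ = h * w * d := by rw [mul_assoc, ← had, ← mul_assoc]
    · refine hd1 (hself w d hdo hbd (mul_left_cancel (a := h) ?_))
      rw [← mul_assoc, ← hbh, mul_assoc, hwk, mul_assoc]
    · refine hh1 (hself a h hho hah ?_)
      have hk := hself _ (h * d) hko hki hwk
      rw [eq_inv_of_mul_eq_one_left hk]
      exact (Commute.inv_right (a := a) (b := d) had).eq
  have hne : ∃ a ∈ V, a ≠ 1 := by
    by_contra hn
    push Not at hn
    exact hV1 (le_bot_iff.1 fun x hx => Subgroup.mem_bot.2 (hn x hx))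
  obtain ⟨a, ha, ha1⟩ := hne
  obtain ⟨h, hh1, hho, hah⟩ := hinvd a ha ha1
  obtain ⟨b, hb, hb1, hbh⟩ := hS h a ha hho hah
  have hab : a ≠ b := fun e => hh1 (hself a h hho hah (e ▸ hbh))
  obtain ⟨d, hd1, hdo, hbd⟩ := hinvd b hb hb1
  obtain ⟨w, hw, hw1, hwd⟩ := hS d b hb hdo hbd
  rcases four a ha b hb ha1 hb1 hab w hw hw1 with rfl | rfl | rfl
  · exact key w hw b hb ha1 hb1 hab h d hh1 hd1 hho hdo hah hbh hbd hwd
  · exact hd1 (hself w d hdo hbd hwd)
  · refine key (a * b) hw b hb hw1 hb1 (fun e => ha1 (mul_eq_right.1 e)) h d hh1 hd1 hho hdo ?_ hbh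
      hbd hwd
    calc a * b * h * (a * b)⁻¹ = a * (b * h * b⁻¹) * a⁻¹ := by group
      _ = h⁻¹ := by rw [hbh, mul_inv_cancel_right, hah]

end Cfsg.Agent.S3011
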