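import Cfsg.Statements.S3012
import Cfsg.Agent.Lib.Fusion.Basic

set_option autoImplicit false
open Cfsg

namespace Cfsg.Agent.S3012

/-- Let G be a finite group, V a nontrivial elementary abelian 2-subgroup of G satisfying the Sidki pair condition (every odd-order element inverted by an element of V commutes with a nontrivial element of V), and K a normal subgroup of G with V ∩ K = 1. Then the image of V in G/K satisfies the Sidki pair condition in G/K. -/
theorem result {G : Type*} [Group G] [Finite G] (V K : Subgroup G) [K.Normal] (hV : Cfsg.IsElementaryAbelian 2 V) (hV1 : V ≠ ⊥) (hS : Cfsg.IsSidkiPair V) (hVK : V ⊓ K = ⊥) : Cfsg.IsSidkiPair (V.map (QuotientGroup.mk' K)) := by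
  set f := QuotientGroup.mk' K
  haveI : Fact (Nat.Prime 2) := ⟨Nat.prime_two⟩
  rintro hb vb ⟨v, hv, rfl⟩ hodd hinv
  obtain ⟨h, rfl⟩ := QuotientGroup.mk'_surjective K hb
  have hv2 : v * v = 1 := by rw [← sq]; exact hV.2 v hv
  have hvi : v⁻¹ = v := inv_eq_of_mul_eq_one_right hv2
  set d := h * v * h⁻¹ * v with hd
  have hd2 : f d = f h ^ 2 := by
    have h1 : f v * (f h)⁻¹ * (f v)⁻¹ = f h := by
      rw [← conj_inv, hinv, inv_inv]
    calc f d = f h * (f v * (f h)⁻¹ * f v) := by simp only [hd, map_mul, map_inv, mul_assoc]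
      _ = f h * (f v * (f h)⁻¹ * (f v)⁻¹) := by rw [← map_inv f v, hvi]
      _ = f h ^ 2 := by rw [h1, sq]
  have hdinv : v * d * v⁻¹ = d⁻¹ := by
    simp only [hd, mul_inv_rev, inv_inv, hvi]
    calc v * (h * v * h⁻¹ * v) * v = v * h * v * h⁻¹ * (v * v) := by group
      _ = v * (h * (v * h⁻¹)) := by rw [hv2]; group
  obtain ⟨k, hk⟩ := CfsgLib.Fusion.Basic.exists_pow_coprime (p := 2) d
  obtain ⟨w, hw, hw1, hwd⟩ := hS (d ^ 2 ^ k) v hv (Nat.coprime_two_right.mp hk)
    (by rw [← conj_pow, hdinv, inv_pow])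
  refine ⟨f w, ⟨w, hw, rfl⟩, fun e => hw1 ?_, ?_⟩
  · exact Subgroup.mem_bot.mp (hVK ▸ ⟨hw, (QuotientGroup.eq_one_iff w).mp e⟩)
  · have hcop : (2 * 2 ^ k).Coprime (orderOf (f h)) := by
      rw [← pow_succ']
      exact (Nat.coprime_two_left.mpr hodd).pow_left _
    obtain ⟨m, hm⟩ := exists_pow_eq_self_of_coprime hcop
    have hc : Commute (f w) (f h ^ (2 * 2 ^ k)) := by
      rw [pow_mul, ← hd2, ← map_pow]
      exact (show Commute w (d ^ 2 ^ k) from hwd).map f
    have := hc.pow_right m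
    rw [hm] at this
    exact this

end Cfsg.Agent.S3012
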