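import Cfsg.Statements.S3013


set_option autoImplicit false
open Cfsg

namespace Cfsg.Agent.S3013

/-- Let G be a finite group and V a nontrivial elementary abelian 2-subgroup of G satisfying the Sidki pair condition. Let v ∈ V and let x be an element of odd order inverted by v, and put C = C_G(v) ∩ C_G(x), the centralizer of the dihedral subgroup generated by v and x. Then C ∩ V is nontrivial and satisfies the Sidki pair condition inside C: every odd-order element of C inverted by an element of C ∩ V commutes with a nontrivial element of C ∩ V. -/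
theorem result {G : Type*} [Group G] [Finite G] (V : Subgroup G) (hV : Cfsg.IsElementaryAbelian 2 V) (hV1 : V ≠ ⊥) (hS : Cfsg.IsSidkiPair V) (v x : G) (hv : v ∈ V) (hx : Odd (orderOf x)) (hinv : v * x * v⁻¹ = x⁻¹) (C : Subgroup G) (hC : C = Subgroup.centralizer ({v} : Set G) ⊓ Subgroup.centralizer ({x} : Set G)) : C ⊓ V ≠ ⊥ ∧ Cfsg.IsSidkiPair ((C ⊓ V).subgroupOf C) := by
  have hab : ∀ a ∈ V, ∀ b ∈ V, a * b = b * a := fun a ha b hb =>
    congrArg Subtype.val (hV.1.is_comm.comm (⟨a, ha⟩ : V) ⟨b, hb⟩)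
  have hmem : ∀ y : G, y ∈ C ↔ y * v = v * y ∧ y * x = x * y := fun y => by
    rw [hC, Subgroup.mem_inf, Subgroup.mem_centralizer_singleton_iff,
      Subgroup.mem_centralizer_singleton_iff]
  refine ⟨?_, ?_⟩
  · obtain ⟨w, hw, hw1, hwx⟩ := hS x v hv hx hinv
    exact fun hbot => hw1 (Subgroup.mem_bot.mp
      (hbot ▸ ⟨(hmem w).mpr ⟨hab w hw v hv, hwx⟩, hw⟩))
  rintro ⟨h, hh⟩ ⟨u, hu⟩ hu' hodd hi
  obtain ⟨hhv, hhx⟩ := (hmem h).mp hh
  obtain ⟨-, huV⟩ := Subgroup.mem_subgroupOf.mp hu'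
  have hux : u * x * u⁻¹ = x := by rw [((hmem u).mp hu).2]; group
  have huh : u * h * u⁻¹ = h⁻¹ := congrArg Subtype.val hi
  rw [Subgroup.orderOf_mk] at hodd
  have hcx : Commute x h := (show Commute h x from hhx).symm
  have hinv' : ∀ y : G, (v * u) * y * (v * u)⁻¹ = v * (u * y * u⁻¹) * v⁻¹ := fun y => by group
  have h1 : (v * u) * (x * h) * (v * u)⁻¹ = (x * h)⁻¹ := by
    rw [← conj_mul, hinv', hinv', hux, huh, hinv, ← conj_inv]
    rw [show v * h * v⁻¹ = h by rw [← hhv]; group, hcx.eq, mul_inv_rev, hcx.inv_inv.eq]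
  obtain ⟨w, hw, hw1, hwxh⟩ := hS (x * h) (v * u) (mul_mem hv huV)
    ((hx.mul hodd).of_dvd_nat (hcx.orderOf_mul_dvd_mul_orderOf)) h1
  have hc1 : Commute w (x * h) := hwxh
  have hc2 : Commute w (x⁻¹ * h) := by
    have h2 : v * w * v⁻¹ = w := by rw [hab v hv w hw]; group
    have h3 : v * (x * h) * v⁻¹ = x⁻¹ * h := by
      rw [← conj_mul, hinv, show v * h * v⁻¹ = h by rw [← hhv]; group]
    have := hc1.map (MulAut.conj v).toMonoidHom
    simpa only [MulEquiv.coe_toMonoidHom, MulAut.conj_apply, h2, h3] using this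
  have h4 : Commute w (h ^ 2) := by
    have := hc1.mul_right hc2
    rwa [show x * h * (x⁻¹ * h) = h ^ 2 by rw [hcx.eq, sq]; group] at this
  obtain ⟨m, hm⟩ := exists_pow_eq_self_of_coprime (Nat.coprime_two_left.mpr hodd)
  have h5 : Commute w h := hm ▸ h4.pow_right m
  have h6 : Commute w x := by simpa using hc1.mul_right h5.inv_right
  exact ⟨⟨w, (hmem w).mpr ⟨hab w hw v hv, h6.eq⟩⟩,
    Subgroup.mem_subgroupOf.mpr ⟨(hmem w).mpr ⟨hab w hw v hv, h6.eq⟩, hw⟩,
    fun e => hw1 (congrArg Subtype.val e), Subtype.ext h5.eq⟩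

end Cfsg.Agent.S3013
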