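import Cfsg.Statements.S3020
import Cfsg.Agent.Lib.Fusion.Transfer
import Cfsg.Agent.Lib.Solvable.Cores

set_option autoImplicit false
open Cfsg

namespace Cfsg.Agent.S3020

/-- Let G be a finite group, p a prime and H an abelian p-subgroup of G that is extremely closed (for every g, the subgroup generated by H and g H g⁻¹ meets N_G(H) exactly in H). Then for every g ∈ G, the subgroup T generated by H and g H g⁻¹ is the product of H with O_{p'}(T), and H meets O_{p'}(T) trivially; that is, O_{p'}(T) is a normal p-complement of H in T. -/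
theorem result {G : Type*} [Group G] [Finite G] {p : ℕ} [Fact p.Prime] (H : Subgroup G) (hHp : IsPGroup p H) (hHab : IsMulCommutative H) (hcl : Cfsg.IsExtremelyClosed H) (g : G) (T : Subgroup G) (hT : T = H ⊔ H.map (MulAut.conj g).toMonoidHom) : H ⊔ (Cfsg.pPrimeCore p ↥T).map T.subtype = T ∧ H ⊓ (Cfsg.pPrimeCore p ↥T).map T.subtype = ⊥ := by
  subst hT
  set T := H ⊔ H.map (MulAut.conj g).toMonoidHom
  set H' := H.subgroupOf T with hH'
  have hNH : Subgroup.normalizer (H' : Set ↥T) = H' := by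
    refine le_antisymm (fun t ht => ?_) Subgroup.le_normalizer
    refine Subgroup.mem_subgroupOf.mpr ((hcl g).le ⟨t.2, ?_⟩)
    have hle : H.map (MulAut.conj (t : G)).toMonoidHom ≤ H := by
      rintro _ ⟨y, hy, rfl⟩
      exact (Subgroup.mem_normalizer_iff.mp ht ⟨y, le_sup_left (b := H.map _) hy⟩).mp hy
    exact Subgroup.mem_normalizer_iff_map_conj_eq.mpr (Subgroup.eq_of_le_of_card_ge hle
      (by rw [Subgroup.card_map_of_injective (MulAut.conj (t : G)).injective]))
  have hH'p : IsPGroup p H' := hHp.of_equiv (Subgroup.subgroupOfEquivOfLe le_sup_left).symm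
  obtain ⟨P, hP⟩ := hH'p.exists_le_sylow
  have hPH : (P : Subgroup ↥T) = H' := by
    by_contra hne
    haveI := P.isPGroup'.isNilpotent
    have hlt := Group.normalizerCondition_of_isNilpotent (H'.subgroupOf (P : Subgroup ↥T))
      (lt_top_iff_ne_top.mpr fun h => hne (le_antisymm (Subgroup.subgroupOf_eq_top.mp h) hP))
    obtain ⟨t, htN, htH⟩ := SetLike.exists_of_lt hlt
    refine htH (Subgroup.mem_subgroupOf.mpr (hNH.le ?_))
    have hle : H'.map (MulAut.conj (t : ↥T)).toMonoidHom ≤ H' := by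
      rintro _ ⟨y, hy, rfl⟩
      exact (Subgroup.mem_normalizer_iff.mp htN ⟨y, hP hy⟩).mp hy
    exact Subgroup.mem_normalizer_iff_map_conj_eq.mpr (Subgroup.eq_of_le_of_card_ge hle
      (by rw [Subgroup.card_map_of_injective (MulAut.conj (t : ↥T)).injective]))
  have hPab : IsMulCommutative ↥(P : Subgroup ↥T) :=
    ⟨⟨fun a b => Subtype.ext (Subtype.ext (by
      have e := hHab.is_comm.comm (⟨((a : ↥T) : G), Subgroup.mem_subgroupOf.mp (hPH.le a.2)⟩ : H)
        ⟨((b : ↥T) : G), Subgroup.mem_subgroupOf.mp (hPH.le b.2)⟩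
      simpa using congrArg Subtype.val e))⟩⟩
  have hnpc : Cfsg.HasNormalPComplement p ↥T := by
    refine CfsgLib.Fusion.Transfer.npc_of_controls_self P fun x hx y hy => ?_
    obtain ⟨h, hh, he⟩ := CfsgLib.Fusion.Transfer.controls_normalizer_of_comm P hPab x hx y hy
    refine ⟨h, hPH.ge (hNH.le ?_), he⟩
    have e : ((P : Subgroup ↥T) : Set ↥T) = (H' : Set ↥T) := by rw [hPH]
    rw [← e]; exact hh
  have hres : Cfsg.pResidual p ↥T ≤ Cfsg.pPrimeCore p ↥T :=
    le_sSup ⟨inferInstance, CfsgLib.Fusion.Basic.npc_iff_coprime.mp hnpc⟩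
  have hcop : (Nat.card ↥(Cfsg.pPrimeCore p ↥T)).Coprime p :=
    CfsgLib.Solvable.Cores.coprime_card_pPrimeCore p
  refine ⟨le_antisymm (sup_le le_sup_left (Subgroup.map_subtype_le _)) ?_, ?_⟩
  · have h := CfsgLib.Fusion.Basic.pResidual_sup_sylow P
    rw [hPH] at h
    have h' : (⊤ : Subgroup ↥T) ≤ H' ⊔ Cfsg.pPrimeCore p ↥T := by
      rw [← h, sup_comm]; exact sup_le_sup_left hres _
    have := Subgroup.map_mono (f := T.subtype) h'
    rwa [← MonoidHom.range_eq_map, Subgroup.range_subtype, Subgroup.map_sup,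
      Subgroup.map_subgroupOf_eq_of_le le_sup_left] at this
  · exact CfsgLib.Fusion.Basic.inf_eq_bot_of_coprime hHp
      (by rwa [Subgroup.card_map_of_injective T.subtype_injective])

end Cfsg.Agent.S3020
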