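import Cfsg.Statements.S3023
import Cfsg.Agent.Lib.LocalEvenB.CharP
import Cfsg.Agent.Lib.LocalEvenB.SubnormalSylow
import Cfsg.Agent.Lib.Fusion.NormalRankTwo
import Cfsg.Agent.Lib.Components.CentralizerComponents

set_option autoImplicit false
open Cfsg

namespace Cfsg.Agent.S3023

/-- Let p be a prime, G a finite group of parabolic characteristic p (every p-local subgroup containing a Sylow p-subgroup of G has characteristic p), S a Sylow p-subgroup of G and G₁ a subnormal subgroup of G. If the centre of S ∩ G₁ is nontrivial and contained in the centre of S, then G₁ has parabolic characteristic p. -/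
theorem result {G : Type*} [Group G] [Finite G] {p : ℕ} [Fact p.Prime] (hG : Cfsg.IsOfParabolicCharacteristic p G) (S : Sylow p G) (G₁ : Subgroup G) (hsn : G₁.IsSubnormal) (hne : ((S : Subgroup G) ⊓ G₁) ⊓ Subgroup.centralizer (((S : Subgroup G) ⊓ G₁ : Subgroup G) : Set G) ≠ ⊥) (hle : ((S : Subgroup G) ⊓ G₁) ⊓ Subgroup.centralizer (((S : Subgroup G) ⊓ G₁ : Subgroup G) : Set G) ≤ (S : Subgroup G) ⊓ Subgroup.centralizer ((S : Subgroup G) : Set G)) : Cfsg.IsOfParabolicCharacteristic p ↥G₁ := by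
  intro R hR hR1 hpar
  obtain ⟨T, hT⟩ := hpar
  obtain ⟨T0, hT0⟩ := CfsgLib.Coprime.exists_sylow_map_eq
    (inf_le_right : (S : Subgroup G) ⊓ G₁ ≤ G₁)
    (CfsgLib.LocalEvenB.SubnormalSylow.card_inf_sylow S hsn)
  obtain ⟨g, hg⟩ := MulAction.exists_smul_eq G₁ T0 T
  have hRT : R ≤ (T : Subgroup G₁) := le_sup_left.trans (T.is_maximal' (IsPGroup.to_sup_of_normal_left' hR T.isPGroup' hT) le_sup_right).le
  -- a nontrivial element of `R` central in `T`
  have hne' : R.subgroupOf (T : Subgroup G₁) ≠ ⊥ := by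
    intro e
    rw [Subgroup.subgroupOf_eq_bot] at e
    exact hR1 (le_bot_iff.1 fun x hx => e.le_bot ⟨hx, hRT hx⟩)
  haveI : (R.subgroupOf (T : Subgroup G₁)).Normal :=
    (Subgroup.normal_subgroupOf_iff_le_normalizer hRT).2 hT
  obtain ⟨⟨z, hzT⟩, hzR, hz1, -, hzZ⟩ :=
    CfsgLib.Fusion.NormalRankTwo.exists_central_of_lt T.isPGroup' (M := ⊥)
      (N := R.subgroupOf (T : Subgroup G₁)) (fun h => hne' (le_bot_iff.1 h))
  rw [Subgroup.mem_bot] at hz1
  have hz1' : z ≠ 1 := fun e => hz1 (Subtype.ext e)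
  have hzc : ∀ t ∈ (T : Subgroup G₁), t * z = z * t := fun t ht =>
    congrArg Subtype.val (commutatorElement_eq_one_iff_mul_comm.1 (Subgroup.mem_bot.1 (hzZ ⟨t, ht⟩)))
  have hmemT : ∀ w : G₁, w ∈ (T0 : Subgroup G₁) ↔ g * w * g⁻¹ ∈ (T : Subgroup G₁) := by
    intro w
    rw [← hg, Sylow.coe_subgroup_smul]
    exact (Subgroup.smul_mem_pointwise_smul_iff (a := MulAut.conj g) (S := (T0 : Subgroup G₁))).symm
  set z0 : G₁ := g⁻¹ * z * g with hz0
  have hz0T : z0 ∈ (T0 : Subgroup G₁) := (hmemT z0).2 (by simpa [hz0, mul_assoc] using hzT)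
  have hT0' : ∀ w : G₁, w ∈ (T0 : Subgroup G₁) ↔ (w : G) ∈ (S : Subgroup G) := by
    intro w
    have := congrArg (fun H : Subgroup G => (w : G) ∈ H) hT0
    simp only [Subgroup.mem_map, Subgroup.coe_subtype, Subgroup.mem_inf, eq_iff_iff] at this
    constructor
    · intro h; exact (this.1 ⟨w, h, rfl⟩).1
    · intro h
      obtain ⟨v, hv, e⟩ := this.2 ⟨h, w.2⟩
      exact (Subtype.ext e : v = w) ▸ hv
  have hz0S : (z0 : G) ∈ (S : Subgroup G) ⊓ Subgroup.centralizer ((S : Subgroup G) : Set G) := by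
    refine hle (Subgroup.mem_inf.2 ⟨Subgroup.mem_inf.2 ⟨(hT0' z0).1 hz0T, z0.2⟩, ?_⟩)
    rw [Subgroup.mem_centralizer_iff]
    rintro w ⟨hwS, hwG⟩
    have h1 := hzc _ ((hmemT ⟨w, hwG⟩).1 ((hT0' ⟨w, hwG⟩).2 hwS))
    have h2 := congrArg (fun t : G₁ => (g : G)⁻¹ * (t : G) * g) h1
    simpa [hz0, mul_assoc] using h2
  set N := Subgroup.normalizer ((Subgroup.zpowers (z : G) : Subgroup G) : Set G) with hN
  have hzp : IsPGroup p (Subgroup.zpowers (z : G)) :=
    (T.isPGroup'.map G₁.subtype).to_le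
      (Subgroup.zpowers_le.2 (Subgroup.mem_map_of_mem G₁.subtype hzT))
  have hzne : (Subgroup.zpowers (z : G)) ≠ ⊥ := fun e => hz1' (Subtype.ext (Subgroup.zpowers_eq_bot.1 e))
  have hCN : Subgroup.centralizer ({(z : G)} : Set G) ≤ N := by
    rw [hN, ← Subgroup.centralizer_closure, ← Subgroup.zpowers_eq_closure]
    exact Subgroup.centralizer_le_normalizer _
  have hparN : Cfsg.IsParabolic p N := by
    refine ⟨(g : G) • S, fun x hx => hCN ?_⟩
    rw [Sylow.coe_subgroup_smul, Subgroup.mem_pointwise_smul_iff_inv_smul_mem] at hx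
    rw [Subgroup.mem_centralizer_singleton_iff]
    have h1 := Subgroup.mem_centralizer_iff.1 hz0S.2 _ hx
    have h2 := congrArg (fun t : G => (g : G) * t * (g : G)⁻¹) h1
    simpa [hz0, mul_assoc, ← MulAut.conj_inv_apply, MulAut.smul_def, ← map_inv, MulAut.conj_apply] using h2
  have hNp := hG _ hzp hzne hparN
  -- `C_{G₁}(z)` has characteristic `p`
  set X := Subgroup.centralizer ({(z : G)} : Set G) ⊓ G₁ with hX
  have hXN : X ≤ N := inf_le_left.trans hCN
  have hXsn : (X.subgroupOf N).IsSubnormal := by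
    rw [hX, show (Subgroup.centralizer ({(z : G)} : Set G) ⊓ G₁).subgroupOf N =
      (Subgroup.centralizer ({(z : G)} : Set G)).subgroupOf N ⊓ G₁.subgroupOf N from rfl]
    refine Subgroup.IsSubnormal.inf (Subgroup.Normal.isSubnormal ?_) hsn.subgroupOf
    rw [Subgroup.normal_subgroupOf_iff_le_normalizer hCN, hN, ← Subgroup.centralizer_closure,
      ← Subgroup.zpowers_eq_closure]
    exact CfsgLib.Components.CentComp.normalizer_le_normalizer_centralizer' _
  have hXc := CfsgLib.LocalEvenB.CharP.charP_congr (Subgroup.subgroupOfEquivOfLe hXN)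
    (CfsgLib.LocalEvenB.CharP.charP_of_subnormal hNp hXsn)
  have e : X.subgroupOf G₁ = Subgroup.centralizer ({z} : Set G₁) := by
    ext w
    simp only [hX, Subgroup.mem_subgroupOf, Subgroup.mem_inf, w.2, and_true,
      Subgroup.mem_centralizer_singleton_iff]
    exact ⟨fun h => Subtype.ext h, fun h => congrArg Subtype.val h⟩
  have hMc := CfsgLib.LocalEvenB.CharP.charP_congr (Subgroup.subgroupOfEquivOfLe
    (inf_le_right : X ≤ G₁)).symm hXc
  rw [e] at hMc
  refine CfsgLib.LocalEvenB.CharP.charP_local hR ?_ hMc ?_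
    (Subgroup.centralizer_le_normalizer _) le_rfl (Or.inr Subgroup.le_normalizer)
  · intro r hr
    rw [Subgroup.mem_centralizer_singleton_iff]
    exact hzc r (hRT hr)
  · intro c hc
    rw [Subgroup.mem_centralizer_singleton_iff]
    exact (Subgroup.mem_centralizer_iff.1 hc z hzR).symm

end Cfsg.Agent.S3023
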