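import Cfsg.Statements.S3025
import Cfsg.Agent.Lib.FrobRealize.Quaternion
import Mathlib.RingTheory.IntegralDomain
import Mathlib.GroupTheory.SpecificGroups.Quaternion

set_option autoImplicit false
open Cfsg

namespace Cfsg.Agent.S3025

/-- Let F be a finite group and H a nontrivial subgroup of F that is contained in every nontrivial subgroup of F which H normalizes. Then F has a nontrivial normal subgroup N contained in every nontrivial normal subgroup of F (a unique minimal normal subgroup), N is simple, and one of the following holds: C_F(N) = 1; or H = N has prime order p, C_F(N) is cyclic of order a power of p, and F/C_F(N) is cyclic of order dividing p − 1; or H = N has order 2, N is central in F, and F is a generalized quaternion group. -/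
theorem result {F : Type*} [Group F] [Finite F] (H : Subgroup F) (hH : H ≠ ⊥)
    (hmin : ∀ R : Subgroup F, R ≠ ⊥ → H ≤ Subgroup.normalizer (R : Set F) → H ≤ R) :
    ∃ N : Subgroup F, N.Normal ∧ N ≠ ⊥ ∧ (∀ M : Subgroup F, M.Normal → M ≠ ⊥ → N ≤ M) ∧ IsSimpleGroup ↥N ∧
      (Subgroup.centralizer (N : Set F) = ⊥ ∨
       (H = N ∧ (Nat.card N).Prime ∧ IsCyclic ↥(Subgroup.centralizer (N : Set F)) ∧
          (∃ k : ℕ, 1 ≤ k ∧ Nat.card ↥(Subgroup.centralizer (N : Set F)) = Nat.card N ^ k) ∧
          (∃ g : F, Subgroup.centralizer (N : Set F) ⊔ Subgroup.zpowers g = ⊤) ∧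
          (Subgroup.centralizer (N : Set F)).index ∣ Nat.card N - 1) ∨
       (H = N ∧ Nat.card N = 2 ∧ Subgroup.centralizer (N : Set F) = ⊤ ∧
          ∃ k : ℕ, 1 ≤ k ∧ Nonempty (F ≃* QuaternionGroup (2 ^ k)))) := by
  classical
  -- a minimal normal subgroup
  obtain ⟨N, ⟨hNn, hNne⟩, hNmin⟩ := Set.Finite.exists_minimal
    (Set.toFinite {N : Subgroup F | N.Normal ∧ N ≠ ⊥})
    ⟨⊤, (inferInstance : (⊤ : Subgroup F).Normal), fun h => hH (eq_bot_iff.mpr (h ▸ le_top))⟩
  haveI := hNn
  have hnorm : ∀ M : Subgroup F, M.Normal → M ≠ ⊥ → H ≤ M := fun M hM hM1 =>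
    hmin M hM1 (by rw [Subgroup.normalizer_eq_top]; exact le_top)
  have huniq : ∀ M : Subgroup F, M.Normal → M ≠ ⊥ → N ≤ M := by
    intro M hM hM1
    have h1 : M ⊓ N ≠ ⊥ := fun h => hH (eq_bot_iff.mpr (h ▸ le_inf (hnorm M hM hM1) (hnorm N hNn hNne)))
    exact (hNmin ⟨Subgroup.normal_inf_normal M N, h1⟩ inf_le_right).trans inf_le_left
  have hHN : H ≤ N := hnorm N hNn hNne
  haveI hnt : Nontrivial ↥N := (Subgroup.nontrivial_iff_ne_bot N).mpr hNne
  have hsimple : IsSimpleGroup ↥N := by
    refine { eq_bot_or_eq_top_of_normal := fun R hR => ?_ }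
    by_contra hR'
    rw [not_or] at hR'
    set R' := R.map N.subtype with hR'def
    have hR'N : R' ≤ N := Subgroup.map_subtype_le _
    have hR'inv : ∀ n ∈ N, ∀ r ∈ R', n * r * n⁻¹ ∈ R' := by
      rintro n hn _ ⟨r, hr, rfl⟩
      exact ⟨⟨n, hn⟩ * r * ⟨n, hn⟩⁻¹, hR.conj_mem r hr ⟨n, hn⟩, rfl⟩
    obtain ⟨h, hh, hh1⟩ := (Subgroup.bot_or_exists_ne_one H).resolve_left hH
    have hcore : R'.normalCore ≠ ⊥ := by
      intro hc
      have : h ∈ R'.normalCore := by
        intro g
        -- the conjugate R'^g contains H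
        set Rg := R'.map (MulAut.conj g⁻¹).toMonoidHom with hRg
        have hle : H ≤ Rg := by
          refine hmin Rg ?_ ?_
          · rw [hRg, Ne, Subgroup.map_eq_bot_iff_of_injective _ (MulAut.conj g⁻¹).injective, hR'def,
              Subgroup.map_eq_bot_iff_of_injective _ N.subtype_injective]
            exact hR'.1
          · intro x hx
            have key : ∀ n ∈ N, ∀ r ∈ Rg, n * r * n⁻¹ ∈ Rg := by
              rintro n hn _ ⟨r, hr, rfl⟩
              refine ⟨(g * n * g⁻¹) * r * (g * n * g⁻¹)⁻¹, hR'inv _ (hNn.conj_mem n hn g) r hr, ?_⟩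
              show g⁻¹ * _ * g⁻¹⁻¹ = n * (g⁻¹ * r * g⁻¹⁻¹) * n⁻¹
              group
            rw [Subgroup.mem_normalizer_iff]
            refine fun r => ⟨key x (hHN hx) r, fun hr => ?_⟩
            simpa [mul_assoc] using key x⁻¹ (inv_mem (hHN hx)) _ hr
        obtain ⟨r, hr, hr'⟩ := hle hh
        have hr2 : g⁻¹ * r * g⁻¹⁻¹ = h := hr'
        have : g * h * g⁻¹ = r := by rw [← hr2]; group
        rwa [this]
      rw [hc, Subgroup.mem_bot] at this
      exact hh1 this
    have hle := huniq _ (Subgroup.normalCore_normal R') hcore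
    apply hR'.2
    rw [eq_top_iff]
    rintro ⟨x, hx⟩ -
    obtain ⟨r, hr, hr'⟩ := R'.normalCore_le (hle hx)
    rwa [show (⟨x, hx⟩ : N) = r from Subtype.ext hr'.symm]
  refine ⟨N, hNn, hNne, huniq, hsimple, ?_⟩
  set C := Subgroup.centralizer (N : Set F) with hCdef
  by_cases hC : C = ⊥
  · exact Or.inl hC
  have hNC : N ≤ C := huniq C inferInstance hC
  have hNcomm : IsMulCommutative N := Subgroup.le_centralizer_iff_isMulCommutative.mp hNC
  have hNprime : (Nat.card N).Prime := by
    haveI := hNcomm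
    haveI := hsimple
    haveI : Fintype N := Fintype.ofFinite N
    letI : CommGroup N := { mul_comm := fun a b => hNcomm.is_comm.comm a b }
    rw [Nat.card_eq_fintype_card, ← Nat.card_eq_fintype_card]
    exact IsSimpleGroup.prime_card
  set p := Nat.card N with hp
  haveI : Fact p.Prime := ⟨hNprime⟩
  have hHN' : H = N := by
    rcases (Nat.dvd_prime hNprime).mp (Subgroup.card_dvd_of_le hHN) with h | h
    · exact absurd (Subgroup.card_eq_one.mp h) hH
    · exact Subgroup.eq_of_le_of_card_ge hHN (le_of_eq (by rw [h]))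
  have hsub : ∀ x ∈ C, x ≠ 1 → N ≤ Subgroup.zpowers x := by
    intro x hx hx1
    rw [← hHN']
    refine hmin _ (by rwa [Ne, Subgroup.zpowers_eq_bot]) ?_
    rw [hHN']
    refine le_trans ?_ (Subgroup.centralizer_le_normalizer _)
    intro n hn
    rw [Subgroup.mem_centralizer_iff]
    rintro y hy
    obtain ⟨i, rfl⟩ := Subgroup.mem_zpowers_iff.mp hy
    exact ((show Commute x n from (Subgroup.mem_centralizer_iff.mp hx n hn).symm).zpow_left i).eq
  have hroots : ∀ x ∈ C, x ^ p = 1 → x ∈ N := by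
    intro x hx hxp
    by_cases h1 : x = 1
    · rw [h1]; exact one_mem _
    have : N = Subgroup.zpowers x := Subgroup.eq_of_le_of_card_ge (hsub x hx h1)
      (by rw [Nat.card_zpowers, orderOf_eq_prime hxp h1])
    rw [this]; exact Subgroup.mem_zpowers x
  have hCp : IsPGroup p C := by
    intro x
    have hdiv : ∀ q : ℕ, q.Prime → q ∣ Nat.card C → q = p := by
      intro q hq hqd
      haveI := Fact.mk hq
      obtain ⟨y, hy⟩ := exists_prime_orderOf_dvd_card' q hqd
      have hy1 : (y : F) ≠ 1 := by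
        intro h; rw [← Subgroup.orderOf_coe, h, orderOf_one] at hy; exact hq.one_lt.ne hy
      have h2 := Subgroup.card_dvd_of_le (hsub y y.2 hy1)
      rw [Nat.card_zpowers, Subgroup.orderOf_coe, hy] at h2
      exact ((Nat.prime_dvd_prime_iff_eq hNprime hq).mp h2).symm
    obtain ⟨k, hk⟩ : ∃ k, Nat.card C = p ^ k :=
      ⟨_, Nat.eq_prime_pow_of_unique_prime_dvd Nat.card_pos.ne' (fun hd hdd => hdiv _ hd hdd)⟩
    exact IsPGroup.of_card hk x
  have hfew : Nat.card {x : C // x ^ p = 1} ≤ p :=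
    Nat.card_le_card_of_injective (fun x => (⟨(x.1 : F), hroots _ x.1.2 (by
      rw [← SubmonoidClass.coe_pow, x.2]; rfl)⟩ : N))
      (fun a b h => Subtype.ext (Subtype.ext (congrArg Subtype.val h :)))
  obtain ⟨k, hk⟩ := IsPGroup.iff_card.mp hCp
  have hk1 : 1 ≤ k := by
    by_contra h0
    exact hC (Subgroup.card_eq_one.mp (by rw [hk, show k = 0 by omega, pow_zero]))
  -- the action on N
  let φ : F →* MulAut N := MulAut.conjNormal
  have hker : φ.ker = C := by
    ext x
    rw [MonoidHom.mem_ker, hCdef, Subgroup.mem_centralizer_iff]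
    constructor
    · intro h n hn
      have h2 := congrArg Subtype.val (DFunLike.congr_fun h ⟨n, hn⟩)
      simp only [φ, MulAut.conjNormal_apply, MulAut.one_apply] at h2
      calc n * x = x * n * x⁻¹ * x := by rw [h2]
        _ = x * n := by group
    · intro h
      ext n
      simp only [φ, MulAut.conjNormal_apply, MulAut.one_apply]
      rw [← h n n.2]; group
  haveI : IsCyclic N := isCyclic_of_prime_card hp.symm
  let e := IsCyclic.mulAutMulEquiv N
  have hcycr : IsCyclic (φ.range) := by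
    haveI : Fintype (ZMod (Nat.card N)) := ZMod.fintype _
    haveI : IsCyclic (ZMod (Nat.card N))ˣ := inferInstance
    haveI : IsCyclic (MulAut N) := isCyclic_of_surjective e.symm.toMonoidHom e.symm.surjective
    exact Subgroup.isCyclic _
  have hidx : C.index ∣ p - 1 := by
    rw [← hker, Subgroup.index_ker]
    refine (Subgroup.card_subgroup_dvd_card φ.range).trans (dvd_of_eq ?_)
    rw [Nat.card_congr e.toEquiv, Nat.card_eq_fintype_card, ZMod.card_units]
  have hgen : ∃ g : F, C ⊔ Subgroup.zpowers g = ⊤ := by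
    obtain ⟨⟨_, g, rfl⟩, hg⟩ := hcycr.exists_generator
    refine ⟨g, eq_top_iff.mpr fun x _ => ?_⟩
    obtain ⟨i, hi⟩ := Subgroup.mem_zpowers_iff.mp (hg ⟨φ x, x, rfl⟩)
    have hi' : φ g ^ i = φ x := congrArg Subtype.val hi
    have h1 : x * (g ^ i)⁻¹ ∈ C := by
      rw [← hker, MonoidHom.mem_ker, map_mul, map_inv, map_zpow, hi', mul_inv_cancel]
    have := mul_mem (Subgroup.mem_sup_left h1 : _ ∈ C ⊔ Subgroup.zpowers g)
      (Subgroup.mem_sup_right (Subgroup.zpow_mem _ (Subgroup.mem_zpowers g) i))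
    simpa using this
  rcases CfsgLib.FrobRealize.Quaternion.cyclic_or_quaternion hCp hfew with hcyc | ⟨hp2, n, ⟨ψ⟩⟩
  · exact Or.inr (Or.inl ⟨hHN', hNprime, hcyc, ⟨k, hk1, hk⟩, hgen, hidx⟩)
  · have hCtop : C = ⊤ := by
      rw [hp2] at hidx
      exact Subgroup.index_eq_one.mp (Nat.dvd_one.mp hidx)
    rcases n with _ | n
    · haveI : IsCyclic (QuaternionGroup (2 ^ 0)) := by
        rw [pow_zero]; exact QuaternionGroup.quaternionGroup_one_isCyclic
      exact Or.inr (Or.inl ⟨hHN', hNprime, isCyclic_of_surjective ψ.symm.toMonoidHom ψ.symm.surjective,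
        ⟨k, hk1, hk⟩, hgen, hidx⟩)
    · refine Or.inr (Or.inr ⟨hHN', hp2, hCtop, n + 1, by omega, ?_⟩)
      exact ⟨(Subgroup.topEquiv.symm.trans (MulEquiv.subgroupCongr hCtop.symm)).trans ψ⟩

end Cfsg.Agent.S3025
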