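import Cfsg.Statements.S3027
import Mathlib.GroupTheory.QuotientGroup.Finite
import Mathlib.Data.Fintype.Lattice
import Mathlib.Data.Fintype.Pigeonhole
import Mathlib.Algebra.Group.Subgroup.Pointwise


set_option autoImplicit false
open Cfsg

namespace Cfsg.Agent.S3027

/-- Let G be a finite group and D a normal subgroup of G such that G/D is perfect (that is, G = G′D). Then among the subnormal subgroups B of G with BD = G there is a least one, and it is normal in G. -/
theorem result {G : Type*} [Group G] [Finite G] (D : Subgroup G) [D.Normal] (hperf : ⁅(⊤ : Subgroup G), (⊤ : Subgroup G)⁆ ⊔ D = ⊤) :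
    ∃ B : Subgroup G, B.Normal ∧ B ⊔ D = ⊤ ∧ ∀ B' : Subgroup G, B'.IsSubnormal → B' ⊔ D = ⊤ → B ≤ B' := by
  classical
  let q := QuotientGroup.mk' D
  have hsup : ∀ B : Subgroup G, B ⊔ D = ⊤ ↔ B.map q = ⊤ := fun B => by
    refine ⟨fun h => ?_, fun h => ?_⟩
    · have := congrArg (Subgroup.map q) h
      rwa [Subgroup.map_sup, show D.map q = ⊥ from QuotientGroup.map_mk'_self D, sup_bot_eq,
        Subgroup.map_top_of_surjective q (QuotientGroup.mk'_surjective D)] at this
    · have := congrArg (Subgroup.comap q) h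
      rwa [Subgroup.comap_map_eq, QuotientGroup.ker_mk', Subgroup.comap_top] at this
  have hq : ⁅(⊤ : Subgroup (G ⧸ D)), (⊤ : Subgroup (G ⧸ D))⁆ = ⊤ := by
    rw [← Subgroup.map_top_of_surjective q (QuotientGroup.mk'_surjective D), ← Subgroup.map_commutator]
    rw [Subgroup.map_top_of_surjective q (QuotientGroup.mk'_surjective D)]
    exact (hsup _).mp hperf
  have hcomm : ∀ A B : Subgroup G, A.map q = ⊤ → B.map q = ⊤ → (⁅A, B⁆).map q = ⊤ := fun A B hA hB => by
    rw [Subgroup.map_commutator, hA, hB, hq]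
  obtain ⟨⟨B₀, hB₀n, hB₀⟩, hmin⟩ := @Finite.exists_min {B : Subgroup G // B.Normal ∧ B.map q = ⊤} _ _
    ⟨⟨⊤, inferInstance, Subgroup.map_top_of_surjective q (QuotientGroup.mk'_surjective D)⟩⟩ _
    (fun B => Nat.card B.1)
  have hleast : ∀ A : Subgroup G, A.Normal → A.map q = ⊤ → B₀ ≤ A := fun A hA hAq => by
    have h1 : ⁅B₀, A⁆ ≤ B₀ ⊓ A := @Subgroup.commutator_le_inf _ _ _ _ hB₀n hA
    have h2 : (B₀ ⊓ A).map q = ⊤ := top_le_iff.mp ((hcomm _ _ hB₀ hAq).ge.trans (Subgroup.map_mono h1))
    have h3 := hmin ⟨B₀ ⊓ A, Subgroup.normal_inf_normal B₀ A, h2⟩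
    exact inf_eq_left.mp (Subgroup.eq_of_le_of_card_ge inf_le_left h3)
  have key : ∀ B' : Subgroup G, B'.IsSubnormal → B'.map q = ⊤ → B₀ ≤ B' := by
    intro B' hB'
    induction hB' with
    | top => exact fun _ => le_top
    | step B' K hle _ hN ih =>
      intro hBq
      have hK : B₀ ≤ K := ih (top_le_iff.mp (hBq.ge.trans (Subgroup.map_mono hle)))
      have hKN : K ≤ Subgroup.normalizer (B' : Set G) :=
        (Subgroup.normal_subgroupOf_iff_le_normalizer hle).mp hN
      set W := B' ⊓ B₀
      have hWq : W.map q = ⊤ := by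
        refine top_le_iff.mp ((hcomm _ _ hBq hB₀).ge.trans (Subgroup.map_mono (le_inf ?_ ?_)))
        · exact Subgroup.le_normalizer_iff_commutator_le_left.mp (hK.trans hKN)
        · exact @Subgroup.commutator_le_right _ _ B' B₀ hB₀n
      have hWn : B₀ ≤ Subgroup.normalizer (W : Set G) := by
        rw [Subgroup.le_normalizer_iff]
        exact fun b hb w hw => Subgroup.mem_inf.mpr
          ⟨(Subgroup.le_normalizer_iff.mp (hK.trans hKN)) b hb w (Subgroup.mem_inf.mp hw).1,
           hB₀n.conj_mem w (Subgroup.mem_inf.mp hw).2 b⟩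
      let c : G → Subgroup G := fun g => W.map (MulAut.conj g).toMonoidHom
      have hcn : ∀ g, B₀ ≤ Subgroup.normalizer (c g : Set G) := fun g => by
        rw [Subgroup.le_normalizer_iff]
        intro b hb y hy
        obtain ⟨w, hw, rfl⟩ := hy
        refine ⟨(g⁻¹ * b * g) * w * (g⁻¹ * b * g)⁻¹, (Subgroup.le_normalizer_iff.mp hWn) _
          (by simpa using hB₀n.conj_mem b hb g⁻¹) w hw, ?_⟩
        simp only [MulEquiv.coe_toMonoidHom, MulAut.conj_apply]; group
      have hcq : ∀ g, (c g).map q = ⊤ := fun g => by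
        have h : q.comp (MulAut.conj g).toMonoidHom = (MulAut.conj (q g)).toMonoidHom.comp q := by
          ext x; simp
        show (W.map (MulAut.conj g).toMonoidHom).map q = ⊤
        rw [Subgroup.map_map, h, ← Subgroup.map_map, hWq]
        exact Subgroup.map_top_of_surjective _ (MulAut.conj (q g)).surjective
      have hall : ∀ t : Finset G, (B₀ ⊓ t.inf c).map q = ⊤ ∧
          B₀ ≤ Subgroup.normalizer ((B₀ ⊓ t.inf c : Subgroup G) : Set G) := by
        intro t
        induction t using Finset.induction_on with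
        | empty => simpa using ⟨hB₀, Subgroup.le_normalizer⟩
        | insert a t _ iht =>
          set U := B₀ ⊓ t.inf c
          have hcg : c a ≤ B₀ := by
            rintro _ ⟨w, hw, rfl⟩
            exact hB₀n.conj_mem w (Subgroup.mem_inf.mp hw).2 a
          have he : B₀ ⊓ (insert a t).inf c = c a ⊓ U := by
            rw [Finset.inf_insert, inf_left_comm]
          rw [he]
          refine ⟨top_le_iff.mp ((hcomm _ _ (hcq a) iht.1).ge.trans (Subgroup.map_mono (le_inf ?_ ?_))), ?_⟩
          · exact Subgroup.le_normalizer_iff_commutator_le_left.mp (inf_le_left.trans (hcn a))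
          · rw [Subgroup.commutator_comm]
            exact Subgroup.le_normalizer_iff_commutator_le_left.mp (hcg.trans iht.2)
          · exact (le_inf (hcn a) iht.2).trans (Subgroup.inf_normalizer_le_normalizer_inf ..)
      haveI := Fintype.ofFinite G
      obtain ⟨hcore, -⟩ := hall Finset.univ
      have hn : (B₀ ⊓ Finset.univ.inf c).Normal := by
        refine ⟨fun x hx g => Subgroup.mem_inf.mpr ⟨hB₀n.conj_mem x (Subgroup.mem_inf.mp hx).1 g, ?_⟩⟩
        have hxu := (Subgroup.mem_inf.mp hx).2
        rw [Finset.inf_univ_eq_iInf, Subgroup.mem_iInf] at hxu ⊢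
        intro a
        obtain ⟨w, hw, he⟩ := hxu (g⁻¹ * a)
        refine ⟨w, hw, ?_⟩
        simp only [MulEquiv.coe_toMonoidHom, MulAut.conj_apply] at he ⊢
        rw [← he]; group
      have h1 := hleast _ hn hcore
      intro x hx
      have h2 := (Subgroup.mem_inf.mp (h1 hx)).2
      rw [Finset.inf_univ_eq_iInf, Subgroup.mem_iInf] at h2
      obtain ⟨w, hw, he⟩ := h2 1
      simp only [MulEquiv.coe_toMonoidHom, MulAut.conj_apply, inv_one, mul_one, one_mul] at he
      exact he ▸ (Subgroup.mem_inf.mp hw).1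
  exact ⟨B₀, hB₀n, (hsup B₀).mpr hB₀, fun B' hB' hB'D => key B' hB' ((hsup B').mp hB'D)⟩

end Cfsg.Agent.S3027
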