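import Cfsg.Statements.S3037
import Cfsg.Agent.Lib.LocalEvenB.CDMeasure


set_option autoImplicit false
open Cfsg

namespace Cfsg.Agent.S3037

/-- Let V and G be subgroups of a finite group with V an elementary abelian p-group (p prime) on which G acts faithfully and irreducibly by conjugation: G normalizes V, G ∩ C(V) = 1, and the only subgroups of V normalized by G are 1 and V. If for some nontrivial subgroup A of G and some real α > 0 one has |V| ≤ |A|^α · |C_V(A)|, then |V| ≤ |G|^α. -/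
theorem result {X : Type*} [Group X] [Finite X] {p : ℕ} [Fact p.Prime] (V G : Subgroup X) (hV : Cfsg.IsElementaryAbelian p V)
    (hGV : G ≤ Subgroup.normalizer (V : Set X)) (hfaith : G ⊓ Subgroup.centralizer (V : Set X) = ⊥)
    (hirr : ∀ W : Subgroup X, W ≤ V → G ≤ Subgroup.normalizer (W : Set X) → W = ⊥ ∨ W = V)
    (A : Subgroup X) (hA : A ≤ G) (hA1 : A ≠ ⊥) (α : ℝ) (hα : 0 < α)
    (hbig : (Nat.card V : ℝ) ≤ (Nat.card A : ℝ) ^ α * (Nat.card ↥(V ⊓ Subgroup.centralizer (A : Set X)) : ℝ)) :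
    (Nat.card V : ℝ) ≤ (Nat.card G : ℝ) ^ α := by
  classical
  let C : Subgroup X → Subgroup X := fun H => V ⊓ Subgroup.centralizer (H : Set X)
  let m : Subgroup X → ℝ := fun H => (Nat.card H : ℝ) ^ α * (Nat.card ↥(C H) : ℝ)
  have hpos : ∀ H : Subgroup X, 0 < m H := fun H => by
    have h1 : (0:ℝ) < Nat.card H := Nat.cast_pos.mpr Nat.card_pos
    have h2 : (0:ℝ) < Nat.card ↥(C H) := Nat.cast_pos.mpr Nat.card_pos
    positivity
  open CfsgLib.LocalEvenB.CDMeasure in
  have hmod : ∀ H K : Subgroup X, m H * m K ≤ m (H ⊔ K) * m (H ⊓ K) := fun H K => by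
    have h1 : (Nat.card H : ℝ) * Nat.card K ≤ Nat.card ↥(H ⊔ K) * Nat.card ↥(H ⊓ K) := by
      exact_mod_cast card_mul_card_le H K
    have h2 : (Nat.card ↥(C H) : ℝ) * Nat.card ↥(C K) ≤
        Nat.card ↥(C (H ⊔ K)) * Nat.card ↥(C (H ⊓ K)) := by
      have e := card_mul_card_le (C H) (C K)
      have e1 : C H ⊓ C K = C (H ⊔ K) := by
        simp only [C, centralizer_sup]; exact (inf_inf_distrib_left _ _ _).symm
      have e2 : C H ⊔ C K ≤ C (H ⊓ K) := sup_le
        (inf_le_inf le_rfl (Subgroup.centralizer_le (SetLike.coe_subset_coe.mpr inf_le_left)))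
        (inf_le_inf le_rfl (Subgroup.centralizer_le (SetLike.coe_subset_coe.mpr inf_le_right)))
      rw [e1, mul_comm (Nat.card ↥(C H ⊔ C K))] at e
      exact_mod_cast e.trans (Nat.mul_le_mul_left _ (Subgroup.card_le_of_le e2))
    calc m H * m K = ((Nat.card H : ℝ) * Nat.card K) ^ α *
          ((Nat.card ↥(C H) : ℝ) * Nat.card ↥(C K)) := by
          rw [Real.mul_rpow (Nat.cast_nonneg _) (Nat.cast_nonneg _)]; ring
      _ ≤ ((Nat.card ↥(H ⊔ K) : ℝ) * Nat.card ↥(H ⊓ K)) ^ α *
          ((Nat.card ↥(C (H ⊔ K)) : ℝ) * Nat.card ↥(C (H ⊓ K))) := by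
          gcongr
      _ = _ := by rw [Real.mul_rpow (Nat.cast_nonneg _) (Nat.cast_nonneg _)]; ring
  obtain ⟨⟨H0, hH0⟩, hmax⟩ := @Finite.exists_max {H : Subgroup X // H ≤ G} _ _ ⟨⟨A, hA⟩⟩ _
    (fun H => m H.1)
  obtain ⟨⟨⟨T, hTG⟩, hT⟩, hgt⟩ := @Finite.exists_max
    {H : {H : Subgroup X // H ≤ G} // ∀ K : {H : Subgroup X // H ≤ G}, m K.1 ≤ m H.1} _ _
    ⟨⟨⟨H0, hH0⟩, hmax⟩⟩ _ (fun H => Nat.card H.1.1)
  have hle : ∀ K : Subgroup X, K ≤ G → m T ≤ m K → K ≤ T := fun K hK hmK => by
    have hi : m (T ⊓ K) ≤ m T := hT ⟨T ⊓ K, inf_le_of_left_le hTG⟩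
    have hm2 : ∀ L : {H : Subgroup X // H ≤ G}, m L.1 ≤ m (T ⊔ K) := fun L => by
      refine le_trans (hT L) (le_of_mul_le_mul_right ?_ (hpos T))
      calc m T * m T ≤ m T * m K := mul_le_mul_of_nonneg_left hmK (hpos T).le
        _ ≤ m (T ⊔ K) * m (T ⊓ K) := hmod T K
        _ ≤ m (T ⊔ K) * m T := mul_le_mul_of_nonneg_left hi (hpos _).le
    have := hgt ⟨⟨T ⊔ K, sup_le hTG hK⟩, hm2⟩
    exact sup_eq_left.mp (Subgroup.eq_of_le_of_card_ge le_sup_left this).symm
  have hbot : m ⊥ = Nat.card V := by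
    have : C ⊥ = V := inf_eq_left.mpr fun v _ => by simp [Subgroup.mem_centralizer_iff]
    simp [m, this]
  have hconj : ∀ g : X, ∀ H : Subgroup X, g ∈ Subgroup.normalizer (V : Set X) →
      m (H.map (MulAut.conj g).toMonoidHom) = m H := fun g H hg => by
    have hC : C (H.map (MulAut.conj g).toMonoidHom) = (C H).map (MulAut.conj g).toMonoidHom := by
      have hV' : V.map (MulAut.conj g).toMonoidHom = V := by
        ext x
        rw [Subgroup.mem_map_equiv, MulAut.conj_symm_apply]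
        exact (Subgroup.mem_normalizer_iff''.mp hg x).symm
      simp only [C]
      rw [Subgroup.map_inf _ _ _ (MulAut.conj g).injective, hV']
      congr 1
      ext x
      simp only [Subgroup.mem_map_equiv, Subgroup.mem_centralizer_iff, SetLike.mem_coe]
      constructor
      · intro h y hy
        have := h (MulAut.conj g y) (by simpa [mul_assoc] using hy)
        apply (MulAut.conj g).injective
        simpa [mul_assoc] using this
      · intro h y hy
        apply (MulAut.conj g).symm.injective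
        simpa [mul_assoc] using h _ hy
    simp only [m, hC]
    rw [Subgroup.card_map_of_injective (MulAut.conj g).injective,
      Subgroup.card_map_of_injective (MulAut.conj g).injective]
  have hTn : G ≤ Subgroup.normalizer (T : Set X) := by
    rw [Subgroup.le_normalizer_iff]
    intro g hg t ht
    refine hle _ ?_ (hconj g T (hGV hg)).ge ⟨t, ht, rfl⟩
    rintro _ ⟨u, hu, rfl⟩
    exact mul_mem (mul_mem hg (hTG hu)) (inv_mem hg)
  have hW : G ≤ Subgroup.normalizer (C T : Set X) := by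
    rw [Subgroup.le_normalizer_iff]
    intro g hg v hv
    refine ⟨(Subgroup.le_normalizer_iff.mp hGV) g hg v hv.1, fun t ht => ?_⟩
    have htt : g⁻¹ * t * g ∈ T := by
      have := (Subgroup.le_normalizer_iff.mp hTn) g⁻¹ (inv_mem hg) t ht
      simpa using this
    have := hv.2 _ htt
    calc t * (g * v * g⁻¹) = g * ((g⁻¹ * t * g) * v) * g⁻¹ := by group
      _ = g * (v * (g⁻¹ * t * g)) * g⁻¹ := by rw [this]
      _ = _ := by group
  rcases hirr (C T) inf_le_left hW with h | h
  · calc (Nat.card V : ℝ) ≤ m A := hbig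
      _ ≤ m T := hT ⟨A, hA⟩
      _ = (Nat.card T : ℝ) ^ α := by simp [m, h]
      _ ≤ (Nat.card G : ℝ) ^ α := by
          refine Real.rpow_le_rpow (Nat.cast_nonneg _) ?_ hα.le
          exact_mod_cast Subgroup.card_le_of_le hTG
  · exfalso
    have hT1 : T = ⊥ := by
      refine le_bot_iff.mp (hfaith ▸ le_inf hTG ?_)
      exact CfsgLib.LocalEvenB.CDMeasure.le_centralizer_comm (h.ge.trans inf_le_right)
    subst hT1
    exact hA1 (le_bot_iff.mp (hle A hA (hbot.le.trans hbig)))

end Cfsg.Agent.S3037
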