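import Cfsg.Statements.S3038
import Cfsg.Agent.Lib.LocalEvenB.IsolatedSylow.Main
-- import your own Cfsg.Agent.* helpers here

set_option autoImplicit false
open Cfsg

namespace Cfsg.Agent.S3038

/-- Let G be a finite group and p an odd prime with O_{p'}(G) = 1. Suppose that G has p-rank at most 2 and that some element x of order p is isolated in G and not central. Then F*(G) is a non-abelian simple group, and for every Sylow p-subgroup P of F*(G), either no conjugate of x lies in P and P is cyclic, or some conjugate of x lies in P and either P is extraspecial of order p³ and exponent p, or p = 3 and P has order 3^{2k+1} for some k ≥ 2 and is of maximal class (nilpotency class 2k). Since O_{p'}(G) = 1, such an x is not central modulo O_{p'}(G): the hypotheses describe a counterexample to the Z*_p statement in p-rank at most 2, and the conclusion records the structure it would have. -/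
theorem result {G : Type*} [Group G] [Finite G] {p : ℕ} [Fact p.Prime] (hp : p ≠ 2) (hcore : Cfsg.pPrimeCore p G = ⊥)
    (hrank : Cfsg.PRankLE p 2 G) (x : G) (hx : orderOf x = p) (hiso : Cfsg.IsIsolated x) (hnc : x ∉ Subgroup.center G) :
    IsSimpleGroup ↥(Cfsg.generalizedFittingSubgroup G) ∧ ¬ IsMulCommutative ↥(Cfsg.generalizedFittingSubgroup G) ∧
    ∀ P : Sylow p ↥(Cfsg.generalizedFittingSubgroup G),
      ((∀ g : G, g * x * g⁻¹ ∉ ((P : Subgroup ↥(Cfsg.generalizedFittingSubgroup G)).map (Cfsg.generalizedFittingSubgroup G).subtype)) ∧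
          IsCyclic ↥(P : Subgroup ↥(Cfsg.generalizedFittingSubgroup G))) ∨
      ((∃ g : G, g * x * g⁻¹ ∈ ((P : Subgroup ↥(Cfsg.generalizedFittingSubgroup G)).map (Cfsg.generalizedFittingSubgroup G).subtype)) ∧
        ((Cfsg.IsExtraspecial p ↥(P : Subgroup ↥(Cfsg.generalizedFittingSubgroup G)) ∧
            Nat.card (P : Subgroup ↥(Cfsg.generalizedFittingSubgroup G)) = p ^ 3 ∧
            ∀ y ∈ (P : Subgroup ↥(Cfsg.generalizedFittingSubgroup G)), y ^ p = 1) ∨
         (p = 3 ∧ ∃ k : ℕ, 2 ≤ k ∧ Nat.card (P : Subgroup ↥(Cfsg.generalizedFittingSubgroup G)) = 3 ^ (2 * k + 1) ∧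
            ∃ _ : Group.IsNilpotent ↥(P : Subgroup ↥(Cfsg.generalizedFittingSubgroup G)),
              Group.nilpotencyClass ↥(P : Subgroup ↥(Cfsg.generalizedFittingSubgroup G)) = 2 * k))) := by
  classical
  obtain ⟨hsimp, hna⟩ :=
    CfsgLib.LocalEvenB.IsolatedRankTwo.generalizedFitting_simple hp hcore hrank hx hiso hnc
  refine ⟨hsimp, hna, fun P => ?_⟩
  haveI := hsimp
  have hperf : commutator ↥(Cfsg.generalizedFittingSubgroup G) = ⊤ := by
    refine (IsSimpleGroup.eq_bot_or_eq_top_of_normal (commutator ↥(Cfsg.generalizedFittingSubgroup G))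
      inferInstance).resolve_left fun h => hna ⟨⟨fun u v => ?_⟩⟩
    exact commutatorElement_eq_one_iff_mul_comm.mp (Subgroup.mem_bot.mp
      (h.le (Subgroup.commutator_mem_commutator (Subgroup.mem_top u) (Subgroup.mem_top v))))
  by_cases hmem : ∃ g : G, g * x * g⁻¹ ∈ ((P : Subgroup ↥(Cfsg.generalizedFittingSubgroup G)).map
      (Cfsg.generalizedFittingSubgroup G).subtype)
  · obtain ⟨g, hg⟩ := hmem
    refine Or.inr ⟨⟨g, hg⟩, ?_⟩
    rcases CfsgLib.LocalEvenB.IsolatedSylow.structure_of_mem hp hrank hx hiso hperf P hg with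
      h | ⟨h3, k, hk, hcard, hcl⟩
    · exact Or.inl h
    · exact Or.inr ⟨h3, k, hk, hcard, P.2.isNilpotent, hcl⟩
  · push Not at hmem
    refine Or.inl ⟨hmem, ?_⟩
    have h := CfsgLib.LocalEvenB.IsolatedSylow.isCyclic_of_forall hp hrank hx hiso (P.2.map _) hmem
    exact (MulEquiv.isCyclic ((P : Subgroup ↥(Cfsg.generalizedFittingSubgroup G)).equivMapOfInjective _
      (Cfsg.generalizedFittingSubgroup G).subtype_injective)).mpr h

end Cfsg.Agent.S3038
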