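import Cfsg.Statements.S3040
import Cfsg.Agent.Lib.OrbitClosed.Solvable

set_option autoImplicit false
open Cfsg

namespace Cfsg.Agent.S3040

/-- Let G be a finite group of even order coprime to 3, and let Σ be a group of automorphisms of G isomorphic to the symmetric group of degree 3 that is fixed-point-free (only the identity of G is fixed by every element of Σ). Then G is solvable, O_{2′,2}(G) (the preimage in G of O₂(G/O(G))) has odd index in G, and G = O_{2′,2}(G) C_G(σ) for every element σ of Σ of order 3; that is, O₂(G/O(G)) is a Sylow 2-subgroup of G/O(G) and G/O(G) = O₂(G/O(G)) C_{G/O(G)}(σ). -/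
theorem result {G : Type*} [Group G] [Finite G] (heven : 2 ∣ Nat.card G) (h3 : ¬ 3 ∣ Nat.card G)
    (Sig : Subgroup (MulAut G)) (hS3 : Nonempty (↥Sig ≃* Equiv.Perm (Fin 3))) (hfpf : ∀ g : G, (∀ σ ∈ Sig, σ g = g) → g = 1) :
    Group.IsSolvable G ∧ ¬ 2 ∣ (Cfsg.pPrimePCore 2 G).index ∧ ∀ σ ∈ Sig, orderOf σ = 3 →
      Cfsg.pPrimePCore 2 G ⊔ Subgroup.closure {g : G | σ g = g} = ⊤ := by
  haveI : Finite Sig := Finite.of_equiv _ hS3.some.symm.toEquiv
  have hcard : Nat.card Sig = 6 := by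
    rw [Nat.card_congr hS3.some.toEquiv, Nat.card_perm, Nat.card_fin]; rfl
  haveI : Fact (Nat.Prime 2) := ⟨Nat.prime_two⟩
  haveI : Fact (Nat.Prime 3) := ⟨Nat.prime_three⟩
  obtain ⟨τ', hτ'⟩ := exists_prime_orderOf_dvd_card' (G := Sig) 2 (by rw [hcard]; norm_num)
  obtain ⟨σ₀, hσ₀⟩ := exists_prime_orderOf_dvd_card' (G := Sig) 3 (by rw [hcard]; norm_num)
  have hτ2 : ∀ g : G, (τ' : MulAut G) ((τ' : MulAut G) g) = g := fun g => by
    have h1 : (τ' : MulAut G) ^ 2 = 1 := by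
      rw [← SubmonoidClass.coe_pow, orderOf_dvd_iff_pow_eq_one.1 hτ'.dvd, OneMemClass.coe_one]
    rw [pow_two] at h1
    exact DFunLike.congr_fun h1 g
  set τ : MulAut G := (τ' : MulAut G)
  have hkey : ∀ σ ∈ Sig, orderOf σ = 3 → CfsgLib.OrbitClosed.Fix3 G σ ∧
      ∀ x y : G, σ x = x → σ y = y → x * y = y * x := by
    intro σ hσS hσ3
    have hσ' : orderOf (⟨σ, hσS⟩ : Sig) = 3 := by rwa [← Subgroup.orderOf_coe]
    set s : Sig := ⟨σ, hσS⟩
    have hidx : (Subgroup.zpowers s).index = 2 := by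
      have h1 := (Subgroup.zpowers s).card_mul_index
      rw [Nat.card_zpowers, hσ', hcard] at h1
      omega
    have hτC : ∀ x : G, σ x = x → σ (τ x) = τ x := by
      intro x hx
      have h1 := (Subgroup.normal_of_index_eq_two hidx).conj_mem s (Subgroup.mem_zpowers s) τ'⁻¹
      obtain ⟨j, hj⟩ := Subgroup.mem_zpowers_iff.1 h1
      have h2 : (σ ^ j : MulAut G) ∈ MulAction.stabilizer (MulAut G) x :=
        zpow_mem (MulAction.mem_stabilizer_iff.2 hx) j
      have h3 : σ ^ j = τ⁻¹ * σ * τ⁻¹⁻¹ := congrArg Subtype.val hj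
      rw [inv_inv] at h3
      have h4 : (τ⁻¹ * σ * τ) x = x := h3 ▸ MulAction.mem_stabilizer_iff.1 h2
      have h5 := congrArg τ h4
      simpa using h5
    have hboth : ∀ x : G, σ x = x → τ x = x → x = 1 := by
      intro x hx hy
      refine hfpf x fun ρ hρ => ?_
      set T := (MulAction.stabilizer (MulAut G) x).subgroupOf Sig
      have h2 : 2 ∣ Nat.card T := hτ' ▸ Subgroup.orderOf_dvd_natCard T (x := τ') (MulAction.mem_stabilizer_iff.2 hy)
      have h3 : 3 ∣ Nat.card T := hσ' ▸ Subgroup.orderOf_dvd_natCard T (x := s) (MulAction.mem_stabilizer_iff.2 hx)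
      have h6 : T = ⊤ := Subgroup.eq_top_of_card_eq _ (Nat.dvd_antisymm (Subgroup.card_subgroup_dvd_card T)
        (hcard ▸ Nat.Coprime.mul_dvd_of_dvd_of_dvd (by norm_num) h2 h3))
      exact MulAction.mem_stabilizer_iff.1 (h6 ▸ Subgroup.mem_top (⟨ρ, hρ⟩ : Sig) : (⟨ρ, hρ⟩ : Sig) ∈ T)
    have hinv : ∀ x : G, σ x = x → τ x = x⁻¹ := by
      intro x hx
      let f : {y : G // σ y = y} → {y : G // σ y = y} := fun y =>
        ⟨y.1⁻¹ * τ y.1, by rw [map_mul, map_inv, y.2, hτC _ y.2]⟩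
      have hf : Function.Injective f := by
        intro a b hab
        have h1 : a.1⁻¹ * τ a.1 = b.1⁻¹ * τ b.1 := congrArg Subtype.val hab
        refine Subtype.ext (mul_inv_eq_one.1 (hboth _ (by rw [map_mul, map_inv, a.2, b.2]) ?_))
        rw [map_mul, map_inv]
        calc τ a.1 * (τ b.1)⁻¹ = a.1 * (a.1⁻¹ * τ a.1) * (τ b.1)⁻¹ := by group
          _ = a.1 * (b.1⁻¹ * τ b.1) * (τ b.1)⁻¹ := by rw [h1]
          _ = _ := by group
      obtain ⟨⟨y, hy⟩, he⟩ := Finite.surjective_of_injective hf ⟨x, hx⟩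
      have he' : y⁻¹ * τ y = x := congrArg Subtype.val he
      rw [← he', map_mul, map_inv, hτ2, mul_inv_rev, inv_inv]
    refine ⟨⟨h3, fun g => ?_, fun x hx => ?_⟩, fun x y hx hy => ?_⟩
    · have h1 : σ ^ 3 = 1 := orderOf_dvd_iff_pow_eq_one.1 hσ3.dvd
      exact DFunLike.congr_fun h1 g
    · by_contra hodd
      obtain ⟨k, hk⟩ := even_iff_two_dvd.1 (Nat.not_odd_iff_even.1 hodd)
      have hk0 : 0 < k := by have := orderOf_pos x; omega
      have ht : σ (x ^ k) = x ^ k := by rw [map_pow, hx]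
      have h1 : x ^ k * x ^ k = 1 := by rw [← pow_add, ← two_mul, ← hk, pow_orderOf_eq_one]
      have h2 : x ^ k = 1 := hboth _ ht (by rw [hinv _ ht, inv_eq_of_mul_eq_one_right h1])
      exact absurd (Nat.le_of_dvd hk0 (orderOf_dvd_of_pow_eq_one h2)) (by omega)
    · have h1 := hinv (x * y) (by rw [map_mul, hx, hy])
      rw [map_mul, hinv x hx, hinv y hy, ← mul_inv_rev, inv_inj] at h1
      exact h1.symm
  have hσ₀' : orderOf (σ₀ : MulAut G) = 3 := by rwa [Subgroup.orderOf_coe]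
  obtain ⟨hfix, hcomm⟩ := hkey _ σ₀.2 hσ₀'
  have hsol := hfix.isSolvable hcomm
  refine ⟨hsol, fun hd => ?_, fun σ hσ hσ3 => ?_⟩
  · haveI : (Cfsg.pPrimePCore 2 G).Normal := by unfold Cfsg.pPrimePCore; infer_instance
    rw [Subgroup.index_eq_card] at hd
    obtain ⟨y, hy⟩ := exists_prime_orderOf_dvd_card' 2 hd
    have hinv := hfix.invariant_pPrimePCore 2
    have hq : CfsgLib.OrbitClosed.quotAut hfix _ hinv y = y := by
      obtain ⟨g, rfl⟩ := QuotientGroup.mk'_surjective (Cfsg.pPrimePCore 2 G) y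
      rw [CfsgLib.OrbitClosed.quotAut_mk]
      exact (QuotientGroup.eq.2 (hfix.solvable hsol g)).symm
    have := (hfix.quot _ hinv).odd y hq
    rw [hy] at this
    exact absurd this (by decide)
  · obtain ⟨hfix', -⟩ := hkey σ hσ hσ3
    refine eq_top_iff.2 fun g _ => ?_
    obtain ⟨x, hx, hgx⟩ := hfix'.exists_fixed_coset _ (hfix'.invariant_pPrimePCore 2)
      (hfix'.solvable hsol g)
    rw [show g = x * (g⁻¹ * x)⁻¹ by group]
    exact mul_mem (Subgroup.mem_sup_right (Subgroup.subset_closure hx))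
      (Subgroup.mem_sup_left (inv_mem hgx))

end Cfsg.Agent.S3040
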