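import Cfsg.Statements.S3041
import Cfsg.Agent.Lib.Coprime.FixedFree.BaseChange
import Cfsg.Agent.Lib.Coprime.FixedFree.NoSetupProof
import Cfsg.Agent.Lib.Coprime.SymplecticTypeTools

set_option autoImplicit false
open Cfsg
open scoped TensorProduct commutatorElement

namespace Cfsg.Agent.S3041

open Subgroup Cfsg.Agent.FixedFree

/-- A normal `p`-subgroup acts trivially in an irreducible representation. -/
theorem eq_bot_of_normal_pgroup {X : Type*} [Group X] [Finite X] {k : Type*} [Field k] {p : ℕ}
    [Fact p.Prime] [CharP k p] {V : Type*} [AddCommGroup V] [Module k V] [Nontrivial V]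
    (ρ : Representation k X V) (hfaith : Function.Injective ρ)
    (hirr : ∀ W : Submodule k V, (∀ x : X, W.map (ρ x) ≤ W) → W = ⊥ ∨ W = ⊤)
    (O : Subgroup X) [hOn : O.Normal] (hO : IsPGroup p O) : O = ⊥ := by
  let F : Submodule k V := ⨅ g : O, LinearMap.ker (ρ g - 1)
  have hF : ∀ v, v ∈ F ↔ ∀ g : O, ρ g v = v := fun v => by
    simp only [F, Submodule.mem_iInf, LinearMap.mem_ker, LinearMap.sub_apply, Module.End.one_apply,
      sub_eq_zero]
  have hFi : ∀ x : X, F.map (ρ x) ≤ F := by
    rintro x _ ⟨v, hv, rfl⟩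
    rw [SetLike.mem_coe, hF] at hv
    rw [hF]
    intro g
    have h1 : x⁻¹ * g * x ∈ O := by simpa using hOn.conj_mem g g.2 x⁻¹
    have := congrArg (ρ x) (hv ⟨_, h1⟩)
    rwa [← Module.End.mul_apply, ← map_mul, ← mul_assoc, mul_inv_cancel_left, map_mul,
      Module.End.mul_apply] at this
  obtain ⟨v, -, hv0, hv⟩ := CfsgLib.Perm.PermRep.exists_fixed hO (ρ.comp O.subtype) ⊤
    (fun _ _ _ => Submodule.mem_top) top_ne_bot
  rcases hirr F hFi with h | h
  · exact absurd ((Submodule.eq_bot_iff _).mp h v ((hF v).mpr fun g => hv g)) hv0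
  · rw [eq_bot_iff]
    intro g hg
    refine mem_bot.mpr (hfaith (LinearMap.ext fun w => ?_))
    rw [map_one, Module.End.one_apply]
    exact (hF w).mp (h ▸ Submodule.mem_top) ⟨g, hg⟩

/-- A fixed-point result of Shult type. Let X be a finite group with a normal subgroup G and a subgroup R of prime order r not dividing |G| such that X = GR, and let ρ be a faithful irreducible representation of X on a nonzero finite-dimensional vector space V over a field of prime characteristic in which R has no nonzero fixed vector. Then either [G, R] = 1, or r has the form 2^m + 1 and [G, R] is a non-abelian special 2-group. -/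
theorem result {X : Type*} [Group X] [Finite X] (G R : Subgroup X) [G.Normal] (hX : G ⊔ R = ⊤) (r : ℕ) (hr : r.Prime)
    (hR : Nat.card R = r) (hcop : ¬ r ∣ Nat.card G)
    {k : Type*} [Field k] {p : ℕ} [Fact p.Prime] [CharP k p] {V : Type*} [AddCommGroup V] [Module k V] [FiniteDimensional k V] [Nontrivial V]
    (ρ : Representation k X V) (hfaith : Function.Injective ρ)
    (hirr : ∀ W : Submodule k V, (∀ x : X, W.map (ρ x) ≤ W) → W = ⊥ ∨ W = ⊤)
    (hfix : ∀ v : V, (∀ x ∈ R, ρ x v = v) → v = 0) :
    ⁅G, R⁆ = ⊥ ∨ ((∃ m : ℕ, r = 2 ^ m + 1) ∧ ¬ IsMulCommutative ↥⁅G, R⁆ ∧ Cfsg.IsSpecial 2 ↥⁅G, R⁆) := by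
  haveI := Fact.mk hr
  haveI : IsCyclic R := isCyclic_of_prime_card hR
  obtain ⟨⟨c, hcR⟩, hgen⟩ := IsCyclic.exists_generator (α := R)
  have hcr : c ^ r = 1 := by
    have := congrArg Subtype.val (pow_card_eq_one' (x := (⟨c, hcR⟩ : R)))
    rwa [hR] at this
  have hpow : ∀ y ∈ R, ∃ i : ℕ, y = c ^ i := by
    intro y hy
    obtain ⟨i, hi⟩ := (IsOfFinOrder.mem_powers_iff_mem_zpowers
      (isOfFinOrder_of_finite (⟨c, hcR⟩ : R))).mpr (hgen ⟨y, hy⟩)
    exact ⟨i, (congrArg Subtype.val hi).symm⟩
  have hfree : ∀ v : V, ρ c v = v → v = 0 := by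
    intro v hv
    refine hfix v fun y hy => ?_
    obtain ⟨i, rfl⟩ := hpow y hy
    induction i with
    | zero => simp
    | succ i ih => rw [pow_succ, map_mul, Module.End.mul_apply, hv, ih (pow_mem hcR i)]
  -- the order is prime to the characteristic
  have hrp : r ≠ p := by
    rintro rfl
    have hP : IsPGroup r R := IsPGroup.of_card (n := 1) (by rw [hR, pow_one])
    obtain ⟨v, -, hv0, hv⟩ := CfsgLib.Perm.PermRep.exists_fixed hP (ρ.comp R.subtype) ⊤
      (fun _ _ _ => Submodule.mem_top) top_ne_bot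
    exact hv0 (hfree v (hv ⟨c, hcR⟩))
  have hst : Stable (MulAut.conj c) G := fun g hg => (inferInstance : G.Normal).conj_mem g hg c
  set α := resAut (MulAut.conj c) G hst with hα
  have hαr : α ^ r = 1 := resAut_pow_eq_one hst (by rw [← map_pow, hcr, map_one])
  have hcomm : ∀ x : G, ρ c * ρ x = ρ (α x : X) * ρ c := fun x => by
    rw [← map_mul, ← map_mul, hα, resAut_apply, MulAut.conj_apply, inv_mul_cancel_right]
  have hinjG : Function.Injective (ρ.comp G.subtype) := hfaith.comp G.subtype_injective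
  have hmod := twoModCoreTheorem_of_noSetup noSetup k p r G V (ρ.comp G.subtype) α (ρ c) hr hrp
    hinjG hαr (by rw [← map_pow, hcr, map_one]) hcomm hfree hcop
  -- the core is trivial
  haveI := CfsgLib.Solvable.Cores.pCore_characteristic (G := G) p
  have hcore : Cfsg.pCore p G = ⊥ := by
    rw [← Subgroup.map_eq_bot_iff_of_injective _ G.subtype_injective]
    exact eq_bot_of_normal_pgroup ρ hfaith hirr _
      ((CfsgLib.Solvable.Cores.isPGroup_pCore (G := G) p).map _)
  have h2 : IsPGroup 2 (commSub α (⊤ : Subgroup G)) := hmod.isPGroup_of_bot hcore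
  set D := commSub α (⊤ : Subgroup G) with hD
  -- it is the commutator
  have hmap : D.map G.subtype = ⁅G, R⁆ := by
    refine le_antisymm ?_ ?_
    · rw [hD, commSub, MonoidHom.map_closure, closure_le]
      rintro _ ⟨_, ⟨g, -, rfl⟩, rfl⟩
      have e : G.subtype (g⁻¹ * α g) = ⁅(g : X)⁻¹, c⁆ := by
        simp [hα, commutatorElement_def, mul_assoc]
      rw [e]
      exact commutator_mem_commutator (inv_mem g.2) hcR
    · rw [commutator_le]
      intro g hg y hy
      obtain ⟨i, rfl⟩ := hpow y hy
      set u : G := ⟨g, hg⟩⁻¹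
      have key : ∀ j : ℕ, u⁻¹ * (α ^ j) u ∈ D := by
        intro j
        induction j with
        | zero => simp
        | succ j ih =>
          have := mul_mem ih (inv_mul_apply_mem_commSub α (mem_top ((α ^ j) u)))
          rw [pow_succ', MulAut.mul_apply]
          simpa [mul_assoc] using this
      refine ⟨_, key i, ?_⟩
      have e : ((α ^ i) u : X) = c ^ i * u * (c ^ i)⁻¹ := by
        rw [hα, resAut_pow, ← map_pow, MulAut.conj_apply]
      show ((u⁻¹ : G) : X) * ((α ^ i) u : X) = ⁅g, c ^ i⁆
      rw [e]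
      simp [u, commutatorElement_def, mul_assoc]
  by_cases hD0 : D = ⊥
  · left
    rw [← hmap, hD0, Subgroup.map_bot]
  have hp2 : p ≠ 2 := by
    rintro rfl
    haveI : D.Normal :=
      normalizer_eq_top_iff.mp (top_le_iff.mp (le_normalizer_commSub α ⊤))
    exact hD0 (eq_bot_iff.mpr (hcore ▸ CfsgLib.Solvable.Cores.le_pCore h2))
  right
  -- over the algebraic closure
  have hr0 : (r : k) ≠ 0 := fun e => hrp
    ((Nat.prime_dvd_prime_iff_eq (Fact.out : p.Prime) hr).mp
      ((CharP.cast_eq_zero_iff k p r).mp e)).symm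
  have ht : Twist (ρ.comp G.subtype) α (ρ c) r :=
    ⟨hcomm, sum_pow_eq_zero (by rw [← map_pow, hcr, map_one]) hfree, hr, hr0, hαr⟩
  haveI : CharP (AlgebraicClosure k) p :=
    charP_of_injective_algebraMap (algebraMap k (AlgebraicClosure k)).injective p
  have ht' := ht.baseChange (AlgebraicClosure k)
  have hinj' := baseChange_faithful (AlgebraicClosure k) hinjG
  have hb : Base _ α _ r p := Base.mk ht' hinj' hcop hp2
  haveI : Fact (Nat.Prime 2) := ⟨Nat.prime_two⟩
  have hcopT : ¬ r ∣ Nat.card (⊤ : Subgroup G) := by rwa [card_top]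
  have hDs : Stable α D := stable_commSub (stable_top α)
  have hDg : commSub α D = D := commSub_commSub hαr (stable_top α) hcopT
  obtain ⟨-, hfx, hd, -, hsq, hcl⟩ := hb.lift_facts hDs h2 hDg
  have h2K : ((2 : ℕ) : AlgebraicClosure k) ≠ 0 := fun e => hp2
    ((Nat.prime_dvd_prime_iff_eq (Fact.out : p.Prime) Nat.prime_two).mp
      ((CharP.cast_eq_zero_iff _ p 2).mp e))
  have hDm : ¬ D ≤ fixedSub α := fun hle => hD0 (by
    rw [← hDg, commSub_eq_bot_iff]; exact hle)
  obtain ⟨-, ⟨m, -, hm⟩, -⟩ := ht'.eq_two_of_moved hinj' hDs h2 h2K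
    (fun hd => hcop (hd.trans (card_subgroup_dvd_card D))) hDm
  let e : D ≃* ↥⁅G, R⁆ :=
    (D.equivMapOfInjective G.subtype G.subtype_injective).trans (MulEquiv.subgroupCongr hmap)
  refine ⟨⟨m, hm⟩, fun hab => hDm fun x hx => ?_, ?_⟩
  · have hc : (⟨x, hx⟩ : D) ∈ center D := mem_center_iff.mpr fun y => e.injective (by
      rw [map_mul, map_mul]; exact hab.is_comm.comm _ _)
    rw [← hfx] at hc
    exact congrArg Subtype.val (mem_fixedSub.mp hc)
  · have hfr : frattini D = center D := by
      refine le_antisymm (CfsgLib.Coprime.SymplecticTools.frattini_le (p := 2) _ hsq hcl) ?_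
      rw [hd, _root_.commutator_def, commutator_le]
      exact fun x _ y _ => CfsgLib.PGroup.Frattini.commutatorElement_mem_frattini h2 x y
    have hZ : (center D).map e.toMonoidHom = center ↥⁅G, R⁆ := by
      ext b
      obtain ⟨a, rfl⟩ := e.surjective b
      rw [show e a = e.toMonoidHom a from rfl, Subgroup.mem_map_iff_mem (f := e.toMonoidHom) e.injective,
        mem_center_iff, mem_center_iff]
      refine ⟨fun h u => ?_, fun h u => e.injective (by rw [map_mul, map_mul]; exact h (e u))⟩
      obtain ⟨u, rfl⟩ := e.surjective u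
      show e u * e a = e a * e u
      rw [← map_mul, ← map_mul, h u]
    have hF : (frattini D).map e.toMonoidHom = frattini ↥⁅G, R⁆ := by
      refine le_antisymm (Subgroup.map_le_iff_le_comap.2
        (frattini_le_comap_frattini_of_surjective e.surjective))
        fun b hb => ⟨e.symm b, ?_, e.apply_symm_apply b⟩
      exact frattini_le_comap_frattini_of_surjective (φ := e.symm.toMonoidHom) e.symm.surjective hb
    refine ⟨h2.of_equiv e, by rw [← hF, ← hZ, hfr], ?_⟩
    rw [← hZ, hd, _root_.commutator_def, _root_.commutator_def, Subgroup.map_commutator,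
      Subgroup.map_top_of_surjective e.toMonoidHom e.surjective]

end Cfsg.Agent.S3041
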