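import Cfsg.Statements.S3044
import Cfsg.Agent.Lib.LocalEvenB.IsolatedMinimalQuot

set_option autoImplicit false
open Cfsg

namespace Cfsg.Agent.S3044

/-- Let G be a finite group, p a prime, S a Sylow p-subgroup of G and P a p-minimal subgroup of G containing S (S is not normal in P and lies in exactly one maximal subgroup of P). Let L be the subgroup generated by N_G(S) and all p-minimal subgroups of G containing S other than P, and suppose P is isolated: O_p(L) is not contained in O_p(P). Put Y for the normal closure of O^p(P) in G. Then G = YL; P is again isolated in the subgroup YS (the subgroup L₀ generated by N_{YS}(S) and the p-minimal subgroups of YS containing S other than P has O_p(L₀) not contained in O_p(P)); and either Y = O^p(P), or p divides |Y/O_p(Y)|, Y/O_p(Y) is generated by its components (a central product of quasisimple groups), and S permutes these components transitively by conjugation. -/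
theorem result {G : Type*} [Group G] [Finite G] {p : ℕ} [Fact p.Prime] (S : Sylow p G) (P : Subgroup G) (hSP : (S : Subgroup G) ≤ P) (hPmin : Cfsg.IsPMinimal p ↥P)
    (L Y : Subgroup G)
    (hL : L = Subgroup.normalizer ((S : Subgroup G) : Set G) ⊔ ⨆ P' : {P' : Subgroup G // (S : Subgroup G) ≤ P' ∧ Cfsg.IsPMinimal p ↥P' ∧ P' ≠ P}, (P' : Subgroup G))
    (hiso : ¬ (Cfsg.pCore p ↥L).map L.subtype ≤ (Cfsg.pCore p ↥P).map P.subtype)
    (hY : Y = Subgroup.normalClosure (((Cfsg.pResidual p ↥P).map P.subtype : Subgroup G) : Set G)) :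
    Y ⊔ L = ⊤ ∧
    ¬ (Cfsg.pCore p ↥((Subgroup.normalizer ((S : Subgroup G) : Set G) ⊓ (Y ⊔ (S : Subgroup G))) ⊔
          ⨆ P' : {P' : Subgroup G // (S : Subgroup G) ≤ P' ∧ P' ≤ Y ⊔ (S : Subgroup G) ∧ Cfsg.IsPMinimal p ↥P' ∧ P' ≠ P}, (P' : Subgroup G))).map
        (Subgroup.subtype _) ≤ (Cfsg.pCore p ↥P).map P.subtype ∧
    ((Cfsg.pResidual p ↥P).map P.subtype = Y ∨
     ∃ _ : (Cfsg.pCore p ↥Y).Normal,
       p ∣ Nat.card (↥Y ⧸ Cfsg.pCore p ↥Y) ∧ Cfsg.layer (↥Y ⧸ Cfsg.pCore p ↥Y) = ⊤ ∧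
       ∀ K₁ K₂ : Subgroup (↥Y ⧸ Cfsg.pCore p ↥Y), Cfsg.IsComponent K₁ → Cfsg.IsComponent K₂ →
         ∃ s ∈ (S : Subgroup G), ((K₂.comap (QuotientGroup.mk' (Cfsg.pCore p ↥Y))).map Y.subtype) = (((K₁.comap (QuotientGroup.mk' (Cfsg.pCore p ↥Y))).map Y.subtype)).map (MulAut.conj s).toMonoidHom) := by
  have hNL : Subgroup.normalizer ((S : Subgroup G) : Set G) ≤ L := hL ▸ le_sup_left
  have hSL : (S : Subgroup G) ≤ L := Subgroup.le_normalizer.trans hNL
  refine ⟨?_, ?_, ?_⟩
  · haveI : Y.Normal := hY ▸ Subgroup.normalClosure_normal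
    rw [eq_top_iff]
    refine CfsgLib.LocalEvenB.IsolatedMinimal.le_of_generators S (H := ⊤) le_top
      (inf_le_left.trans (hNL.trans le_sup_right)) fun P' h1 _ h3 => ?_
    by_cases e : P' = P
    · subst e
      intro x hx
      obtain ⟨w, hw, u, hu, e⟩ := CfsgLib.Fusion.Basic.exists_eq_pResidual_mul (S.subtype h1) ⟨x, hx⟩
      rw [show x = (w : G) * u from congrArg Subtype.val e]
      exact mul_mem (Subgroup.mem_sup_left (hY ▸ Subgroup.le_normalClosure (Subgroup.mem_map_of_mem _ hw)))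
        (Subgroup.mem_sup_right (hSL hu))
    · exact le_sup_of_le_right (hL ▸ (le_iSup (fun P' : {P' : Subgroup G // (S : Subgroup G) ≤ P' ∧
        Cfsg.IsPMinimal p ↥P' ∧ P' ≠ P} => (P' : Subgroup G)) ⟨P', h1, h3, e⟩).trans le_sup_right)
  · intro hle
    apply hiso
    refine le_trans ?_ hle
    set L₀ := (Subgroup.normalizer ((S : Subgroup G) : Set G) ⊓ (Y ⊔ (S : Subgroup G))) ⊔
      ⨆ P' : {P' : Subgroup G // (S : Subgroup G) ≤ P' ∧ P' ≤ Y ⊔ (S : Subgroup G) ∧ Cfsg.IsPMinimal p ↥P' ∧ P' ≠ P}, (P' : Subgroup G)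
    have hL0 : L₀ ≤ L := sup_le (inf_le_left.trans hNL) (iSup_le fun P' =>
      hL ▸ (le_iSup (fun P' : {P' : Subgroup G // (S : Subgroup G) ≤ P' ∧
        Cfsg.IsPMinimal p ↥P' ∧ P' ≠ P} => (P' : Subgroup G)) ⟨P', P'.2.1, P'.2.2.2.1, P'.2.2.2.2⟩).trans le_sup_right)
    set Q := (Cfsg.pCore p ↥L).map L.subtype
    have hQS : Q ≤ (S : Subgroup G) := fun x ⟨y, hy, e⟩ =>
      e ▸ CfsgLib.Solvable.Cores.pCore_le_sylow (S.subtype hSL) hy
    have hQ0 : Q ≤ L₀ :=
      hQS.trans ((le_inf Subgroup.le_normalizer le_sup_right).trans le_sup_left)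
    haveI : (Q.subgroupOf L₀).Normal := (Subgroup.normal_subgroupOf_iff_le_normalizer hQ0).mpr
      (hL0.trans fun l hl => Subgroup.le_normalizer_map L.subtype
        ⟨⟨l, hl⟩, by rw [Subgroup.normalizer_eq_top]; exact Subgroup.mem_top _, rfl⟩)
    intro x hx
    exact ⟨⟨x, hQ0 hx⟩, CfsgLib.Solvable.Cores.le_pCore (N := Q.subgroupOf L₀) ((S.2.to_le hQS).comap_subtype)
      (show (⟨x, hQ0 hx⟩ : L₀) ∈ Q.subgroupOf L₀ from hx), rfl⟩
  · rcases CfsgLib.LocalEvenB.IsolatedMinimal.structure_cases S P hSP hPmin L hL hiso Y hY with h | h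
    · exact Or.inl h.1
    · exact Or.inr h.2

end Cfsg.Agent.S3044
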