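import Cfsg.Statements.S3047
import Cfsg.Agent.Lib.LocalEven.RankOneRigid.Central
import Cfsg.Agent.Lib.LocalEven.RankOneRigid.SL2
import Cfsg.Agent.Lib.LocalEven.RankOneRigid.SU3

set_option autoImplicit false
open Cfsg

namespace Cfsg.Agent.S3047

/-- Let p ≥ 5 be a prime, G a finite group all of whose composition factors are known simple groups, S a Sylow p-subgroup and P a p-minimal subgroup of G containing S such that O^p(P/O_p(P)) is isomorphic to SL₂(pᵃ), PSL₂(pᵃ), SU₃(pᵃ) or PSU₃(pᵃ) for some a ≥ 1. Let L be the subgroup generated by N_G(S) and the p-minimal subgroups of G containing S other than P. Then either O^p(P) is normal in G, or every p-element of the centre of L lies in O_p(P). -/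
theorem result {G : Type*} [Group G] [Finite G] {p : ℕ} [Fact p.Prime] (hp : 5 ≤ p) (hK : Cfsg.IsCompositionKGroup G)
    (S : Sylow p G) (P : Subgroup G) (hSP : (S : Subgroup G) ≤ P) (hPmin : Cfsg.IsPMinimal p ↥P) [hn : (Cfsg.pCore p ↥P).Normal]
    (hrk1 : ∃ (F : Type) (_ : Field F) (_ : Fintype F) (a : ℕ), 1 ≤ a ∧
      ((Fintype.card F = p ^ a ∧ (Nonempty (↥(Cfsg.pResidual p (↥P ⧸ Cfsg.pCore p ↥P)) ≃* Matrix.SpecialLinearGroup (Fin 2) F) ∨
                                  Nonempty (↥(Cfsg.pResidual p (↥P ⧸ Cfsg.pCore p ↥P)) ≃* Matrix.ProjectiveSpecialLinearGroup (Fin 2) F))) ∨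
       (Fintype.card F = p ^ (2 * a) ∧ (Nonempty (↥(Cfsg.pResidual p (↥P ⧸ Cfsg.pCore p ↥P)) ≃* ↥(Cfsg.SU 3 F (p ^ a))) ∨
                                        Nonempty (↥(Cfsg.pResidual p (↥P ⧸ Cfsg.pCore p ↥P)) ≃* Cfsg.PSU 3 F (p ^ a))))))
    (L : Subgroup G)
    (hL : L = Subgroup.normalizer ((S : Subgroup G) : Set G) ⊔ ⨆ P' : {P' : Subgroup G // (S : Subgroup G) ≤ P' ∧ Cfsg.IsPMinimal p ↥P' ∧ P' ≠ P}, (P' : Subgroup G)) :
    ((Cfsg.pResidual p ↥P).map P.subtype).Normal ∨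
    ∀ z ∈ L ⊓ Subgroup.centralizer (L : Set G), (∃ k : ℕ, orderOf z = p ^ k) → z ∈ (Cfsg.pCore p ↥P).map P.subtype := by
  refine Or.inr fun z hz ⟨k, hk⟩ => ?_
  have hR : CfsgLib.LocalEven.RankOneRigid.Rigid p
      ↥(Cfsg.pResidual p (↥P ⧸ Cfsg.pCore p ↥P)) := by
    obtain ⟨F, _, _, a, ha, h⟩ := hrk1
    have hp2 : p ≠ 2 := by omega
    have hpa : 5 ≤ p ^ a := hp.trans (Nat.le_self_pow (by omega) p)
    rcases h with ⟨hF, h⟩ | ⟨hF, h⟩
    · haveI : CharP F p := charP_of_card_eq_prime_pow hF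
      rcases h with ⟨⟨e⟩⟩ | ⟨⟨e⟩⟩
      · exact (CfsgLib.LocalEven.RankOneRigid.rigid_SL2 (p := p) hp2 (by omega)).of_equiv e.symm
      · exact (CfsgLib.LocalEven.RankOneRigid.rigid_PSL2 (p := p) hp2 (by omega)).of_equiv e.symm
    · haveI : CharP F p := charP_of_card_eq_prime_pow hF
      have hq : Fintype.card F = (p ^ a) ^ 2 := by rw [hF, ← pow_mul, mul_comm]
      rcases h with ⟨⟨e⟩⟩ | ⟨⟨e⟩⟩
      · exact (CfsgLib.LocalEven.RankOneRigid.rigid_unitary (p := p) hq (by omega)).2.of_equiv e.symm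
      · exact (CfsgLib.LocalEven.RankOneRigid.rigid_unitary (p := p) hq (by omega)).1.of_equiv e.symm
  subst hL
  exact CfsgLib.LocalEven.RankOneRigid.mem_pCore S P hSP hR _ le_sup_left
    (fun P' h1 h2 h3 => le_trans (le_iSup (fun P' : {P' : Subgroup G // (S : Subgroup G) ≤ P' ∧
      Cfsg.IsPMinimal p ↥P' ∧ P' ≠ P} => (P' : Subgroup G)) ⟨P', h1, h2, h3⟩) le_sup_right) hz hk

end Cfsg.Agent.S3047
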