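import Cfsg.Statements.S3050
import Cfsg.Agent.Lib.LocalEvenB.HigmanSL2

set_option autoImplicit false
open Cfsg
open CfsgLib.LocalEvenB.HigmanSL2

namespace Cfsg.Agent.S3050

/-- Let G be a finite group with a normal 2-subgroup Q such that G/Q is isomorphic to SL(2, 2ⁿ) with n ≥ 2, and suppose some element of G of order 3 fixes no nonidentity element of Q under conjugation. Then Q is elementary abelian and is the direct product of normal subgroups of G on each of which G acts as SL(2, 2ⁿ) acts on its natural two-dimensional module (a Galois twist of the natural action allowed). -/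
theorem result {G : Type*} [Group G] [Finite G]
    (Q : Subgroup G) [Q.Normal] (hQ : IsPGroup 2 ↥Q) (n : ℕ) (hn : 2 ≤ n)
    (K : Type*) [Field K] [Fintype K] (hK : Fintype.card K = 2 ^ n)
    (e : G ⧸ Q ≃* Matrix.SpecialLinearGroup (Fin 2) K)
    (x : G) (hx : orderOf x = 3) (hfpf : ∀ q ∈ Q, x * q * x⁻¹ = q → q = 1) :
    Cfsg.IsElementaryAbelian 2 Q ∧
      ∃ (k : ℕ) (V : Fin k → Subgroup G), (∀ i, V i ≤ Q ∧ (V i).Normal ∧
        Cfsg.ActsAsSL2OnSection K ⊤ ⊤ (V i) ⊥) ∧ iSupIndep V ∧ ⨆ i, V i = Q := by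
  classical
  haveI : Fact (Nat.Prime 2) := ⟨Nat.prime_two⟩
  haveI := charP_of_card_eq_prime_pow hK
  have hF : ∃ a : K, a ≠ 0 ∧ a ≠ 1 := by
    by_contra h
    push Not at h
    have h1 : (Finset.univ : Finset K) ⊆ {0, 1} := fun a _ => by
      rcases eq_or_ne a 0 with e | e
      · simp [e]
      · simp [h a e]
    have h2 := Finset.card_le_card h1
    rw [Finset.card_univ, hK] at h2
    have h3 : 2 ^ 2 ≤ 2 ^ n := Nat.pow_le_pow_right (by norm_num) hn
    have h4 : ({0, 1} : Finset K).card ≤ 2 := (Finset.card_insert_le _ _).trans (by simp)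
    omega
  set p : G →* Matrix.SpecialLinearGroup (Fin 2) K := (e.toMonoidHom).comp (QuotientGroup.mk' Q) with hpdef
  have hp : Function.Surjective p := e.surjective.comp (QuotientGroup.mk'_surjective Q)
  have hker : p.ker = Q := by
    ext g
    show e (g : G ⧸ Q) = 1 ↔ g ∈ Q
    rw [MulEquiv.map_eq_one_iff, QuotientGroup.eq_one_iff]
  obtain ⟨hab, h2⟩ := elementary hF _ G Q hQ le_rfl p hp hker x hx hfpf
  letI : CommGroup ↥Q :=
    { (inferInstance : Group ↥Q) with mul_comm := fun a b => Subtype.ext (hab a a.2 b b.2) }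
  have hx1 : p x ≠ 1 := fun e1 => by
    have hxQ : x ∈ Q := by rw [← hker]; exact e1
    have h := h2 x hxQ
    rw [← orderOf_dvd_iff_pow_eq_one, hx] at h
    norm_num at h
  obtain ⟨-, W, iW, iM, Θ, hΘ⟩ := abelian_case Q hab (fun a ha => by
    rw [show (4 : ℕ) = 2 * 2 from rfl, pow_mul, h2 a ha, one_pow]) p hp (by
    rw [hker]; exact fun q hq => Subgroup.mem_centralizer_iff.2 fun b hb => hab b hb q hq) hx hx1 hfpf hF
  have hEA : Cfsg.IsElementaryAbelian 2 Q :=
    ⟨IsMulCommutative.of_comm fun a b => Subtype.ext (hab a a.2 b b.2), h2⟩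
  refine ⟨hEA, ?_⟩
  haveI : Finite W := Finite.of_injective (fun w => Θ.symm (w, 0)) fun a b h => by
    simpa using congrArg Θ h
  haveI : Module.Finite K W := Module.Finite.of_finite
  set k := Module.finrank K W
  let bas : Module.Basis (Fin k) K W := Module.finBasis K W
  -- the coordinates on each summand
  let crd : Fin k → ↥Q → Fin 2 → K := fun i q =>
    ![bas.repr (Θ (Additive.ofMul q)).1 i, bas.repr (Θ (Additive.ofMul q)).2 i]
  have hcrd_mul : ∀ i (q q' : ↥Q), crd i (q * q') = crd i q + crd i q' := fun i q q' => by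
    ext j; fin_cases j <;> simp [crd, ofMul_mul]
  have hcrd_one : ∀ i, crd i (1 : ↥Q) = 0 := fun i => by
    ext j; fin_cases j <;> simp [crd]
  let V : Fin k → Subgroup G := fun i =>
    ({ carrier := {q : ↥Q | ∀ j, j ≠ i → crd j q = 0}
       one_mem' := fun j _ => hcrd_one j
       mul_mem' := fun {a b} ha hb j hj => by rw [hcrd_mul, ha j hj, hb j hj, add_zero]
       inv_mem' := fun {a} ha j hj => by
        have h := hcrd_mul j a⁻¹ a
        rw [inv_mul_cancel, hcrd_one, ha j hj, add_zero] at h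
        exact h.symm } : Subgroup ↥Q).map Q.subtype
  have hcrd_conj : ∀ i (g : G) (q : ↥Q), crd i (MulAut.conjNormal g q) =
      ((p g : Matrix.SpecialLinearGroup (Fin 2) K) : Matrix (Fin 2) (Fin 2) K).mulVec (crd i q) := fun i g q => by
    ext j; fin_cases j <;> simp [crd, hΘ, act, Matrix.mulVec, dotProduct, Fin.sum_univ_two]
  have hmem : ∀ {i} {q : G}, q ∈ V i → ∃ hq : q ∈ Q, ∀ j, j ≠ i → crd j ⟨q, hq⟩ = 0 := by
    rintro i _ ⟨q, hq, rfl⟩
    exact ⟨q.2, hq⟩
  have hVn : ∀ i, (V i).Normal := fun i => ⟨by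
    rintro _ ⟨q, hq, rfl⟩ g
    exact ⟨MulAut.conjNormal g q, fun j hj => by rw [hcrd_conj, hq j hj, Matrix.mulVec_zero], rfl⟩⟩
  -- the part of an element in a summand
  let part : Fin k → (Fin 2 → K) → Additive ↥Q := fun i v => Θ.symm (v 0 • bas i, v 1 • bas i)
  have hpart : ∀ i v j, crd j (Additive.toMul (part i v)) = if j = i then v else 0 := fun i v j => by
    ext l
    fin_cases l <;> by_cases h : j = i <;>
      simp [crd, part, h, Module.Basis.repr_self, Ne.symm]
  have hpartV : ∀ i v, ((Additive.toMul (part i v) : ↥Q) : G) ∈ V i := fun i v =>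
    ⟨_, fun j hj => by rw [hpart, if_neg hj], rfl⟩
  have hext : ∀ q : ↥Q, (∀ j, crd j q = 0) → q = 1 := fun q hq => by
    have h1 : Θ (Additive.ofMul q) = 0 := Prod.ext
      (bas.ext_elem fun j => by simpa [crd] using congrFun (hq j) 0)
      (bas.ext_elem fun j => by simpa [crd] using congrFun (hq j) 1)
    simpa using Θ.injective (h1.trans (map_zero Θ).symm)
  refine ⟨k, V, fun i => ⟨Subgroup.map_subtype_le _, hVn i, ?_, ?_⟩, ?_, ?_⟩
  · rw [Subgroup.normalizer_eq_top_iff.2 (hVn i)]
  · refine ⟨bot_le, p.comp (⊤ : Subgroup G).subtype,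
      MonoidHom.mk' (fun u => Multiplicative.ofAdd (crd i ⟨u, (hmem u.2).1⟩)) (fun u u' => by
        rw [← ofAdd_add, ← hcrd_mul]; rfl), ?_, fun v => ?_, fun u => ⟨fun h => ?_, fun h => ?_⟩, fun g u => ?_⟩
    · rw [MonoidHom.range_eq_top]
      intro s
      obtain ⟨g, rfl⟩ := hp s
      exact ⟨⟨g, trivial⟩, rfl⟩
    · refine ⟨⟨_, hpartV i v.toAdd⟩, ?_⟩
      apply Multiplicative.toAdd.injective
      show crd i (Additive.toMul (part i v.toAdd)) = _
      rw [hpart, if_pos rfl]
    · obtain ⟨hq, h0⟩ := hmem u.2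
      rw [Subgroup.mem_bot]
      have h1 : crd i ⟨u, hq⟩ = 0 := Multiplicative.ofAdd.injective h
      exact congrArg Subtype.val (hext ⟨u, hq⟩ fun j => by
        by_cases hj : j = i
        · subst hj; exact h1
        · exact h0 j hj)
    · rw [Subgroup.mem_bot] at h
      have hu : (⟨(u : G), (hmem u.2).1⟩ : ↥Q) = 1 := Subtype.ext h
      show Multiplicative.ofAdd (crd i ⟨(u : G), (hmem u.2).1⟩) = 1
      rw [hu, hcrd_one]
      rfl
    · refine ⟨⟨_, (hVn i).conj_mem _ u.2 g⟩, rfl, ?_⟩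
      exact hcrd_conj i (g : G) ⟨u, (hmem u.2).1⟩
  · intro i
    rw [disjoint_iff, eq_bot_iff]
    intro q hq
    obtain ⟨hqi, hqs⟩ := Subgroup.mem_inf.1 hq
    obtain ⟨hqQ, h0⟩ := hmem hqi
    have hle : (⨆ (j : Fin k) (_ : j ≠ i), V j) ≤
        ({ carrier := {g : ↥Q | crd i g = 0}
           one_mem' := hcrd_one i
           mul_mem' := fun {a b} ha hb => by
            show crd i (a * b) = 0
            rw [hcrd_mul, ha, hb, add_zero]
           inv_mem' := fun {a} ha => by
            have h := hcrd_mul i a⁻¹ a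
            rw [inv_mul_cancel, hcrd_one, ha, add_zero] at h
            exact h.symm } : Subgroup ↥Q).map Q.subtype := by
      refine iSup₂_le fun j hj => ?_
      rintro _ ⟨g, hg, rfl⟩
      exact ⟨g, hg i (Ne.symm hj), rfl⟩
    obtain ⟨g, hg, hgq⟩ := hle hqs
    have hgq' : g = ⟨q, hqQ⟩ := Subtype.ext hgq
    rw [Subgroup.mem_bot]
    exact congrArg Subtype.val (hext ⟨q, hqQ⟩ fun j => by
      by_cases hj : j = i
      · subst hj; rw [← hgq']; exact hg
      · exact h0 j hj)
  · refine le_antisymm (iSup_le fun i => Subgroup.map_subtype_le _) fun q hq => ?_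
    have hsum : ∀ s : Finset (Fin k),
        ((Additive.toMul (∑ i ∈ s, part i (crd i ⟨q, hq⟩)) : ↥Q) : G) ∈ ⨆ i, V i := by
      intro s
      induction s using Finset.induction_on with
      | empty => exact one_mem _
      | insert i s his ih =>
        rw [Finset.sum_insert his, toMul_add, Subgroup.coe_mul]
        exact mul_mem (Subgroup.mem_iSup_of_mem i (hpartV i _)) ih
    have hall : ∑ i, part i (crd i ⟨q, hq⟩) = Additive.ofMul (⟨q, hq⟩ : ↥Q) := by
      simp only [part, ← map_sum]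
      rw [AddEquiv.symm_apply_eq]
      refine Prod.ext ?_ ?_ <;> simp [crd, Prod.fst_sum, Prod.snd_sum, bas.sum_repr]
    have := hsum Finset.univ
    rwa [hall] at this

end Cfsg.Agent.S3050
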