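import Cfsg.Statements.S3053
import Cfsg.Agent.Lib.LocalEvenB.OrderPCubed

set_option autoImplicit false
open Cfsg
open scoped Pointwise commutatorElement

namespace Cfsg.Agent.S3053

set_option maxHeartbeats 1000000 in
/-- Let p be an odd prime and G a finite group with a Sylow p-subgroup P that is extraspecial of order p³ and exponent p². Then the centre of P is strongly closed in P with respect to G: a G-conjugate of an element of Z(P) that lies in P already lies in Z(P). In particular a nontrivial central element of P is conjugate in G to no noncentral element of P. -/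
theorem result {G : Type*} [Group G] [Finite G]
    {p : ℕ} [Fact p.Prime] (hp : p ≠ 2) (P : Sylow p G) (hE : Cfsg.IsExtraspecial p ↥P)
    (hcard : Nat.card P = p ^ 3) (hexp : Monoid.exponent ↥P = p ^ 2) :
    Cfsg.IsStronglyClosed ((Subgroup.center ↥P).map (P : Subgroup G).subtype) (P : Subgroup G) := by
  classical
  open CfsgLib.LocalEvenB.OrderPCubed in
  have key : Cfsg.IsStronglyClosed ((Subgroup.center ↥P).map (P : Subgroup G).subtype) (P : Subgroup G) := by
    have hp1 : p.Prime := Fact.out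
    have hna : ∃ x y : P, x * y ≠ y * x := by
      by_contra h
      push Not at h
      have h1 : Subgroup.center ↥P = ⊤ := eq_top_iff.mpr fun x _ => Subgroup.mem_center_iff.mpr fun y => h y x
      have h1' := hE.2
      rw [h1, Subgroup.card_top] at h1'
      have this : p ^ 3 = p := hcard.symm.trans h1'
      have h2 : p ^ 3 = p ^ 1 := by rw [this, pow_one]
      exact absurd (Nat.pow_right_injective hp1.two_le h2) (by norm_num)
    have hexp' : ∃ x : P, x ^ p ≠ 1 := by
      by_contra h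
      push Not at h
      have h1 := Monoid.exponent_dvd_of_forall_pow_eq_one h
      rw [hexp] at h1
      have := (Nat.pow_dvd_pow_iff_le_right hp1.one_lt).mp (by simpa using h1 : p ^ 2 ∣ p ^ 1)
      omega
    set Z := (Subgroup.center ↥P).map (P : Subgroup G).subtype with hZdef
    have hZP : Z ≤ (P : Subgroup G) := Subgroup.map_subtype_le _
    refine ⟨hZP, fun z hz g hgz => ?_⟩
    set y := g * z * g⁻¹ with hydef
    by_contra hyZ
    have hz1 : z ≠ 1 := by
      intro h; apply hyZ; rw [hydef, h]; simp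
    have hZc : ∀ a ∈ Z, ∀ b ∈ (P : Subgroup G), b * a = a * b := by
      rintro _ ⟨a, ha, rfl⟩ b hb
      exact congrArg Subtype.val (Subgroup.mem_center_iff.mp ha ⟨b, hb⟩)
    have hZcard : Nat.card Z = p := by
      rw [hZdef, Subgroup.card_map_of_injective (P : Subgroup G).subtype_injective]
      exact hE.2
    -- y has order dividing p
    have hzp : z ^ p = 1 := by
      have := Subgroup.orderOf_dvd_natCard Z hz
      rw [hZcard] at this
      exact orderOf_dvd_iff_pow_eq_one.mp this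
    have hyp : y ^ p = 1 := by
      rw [hydef, conj_pow, hzp]; simp
    -- E inside P
    set E := (omega hp hcard hna).map (P : Subgroup G).subtype with hEdef
    have hEP : E ≤ (P : Subgroup G) := Subgroup.map_subtype_le _
    have hmemE : ∀ x : G, x ∈ E ↔ x ∈ (P : Subgroup G) ∧ x ^ p = 1 := by
      intro x
      constructor
      · rintro ⟨⟨x, hx⟩, hx', rfl⟩
        exact ⟨hx, congrArg Subtype.val ((mem_omega hp hcard hna _).mp hx')⟩
      · rintro ⟨hx, hxp⟩
        exact ⟨⟨x, hx⟩, (mem_omega hp hcard hna _).mpr (Subtype.ext (by simpa using hxp)), rfl⟩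
    have hEc : Nat.card E = p ^ 2 := by
      rw [hEdef, Subgroup.card_map_of_injective (P : Subgroup G).subtype_injective]
      exact card_omega hp hcard hna hexp'
    have hEab : ∀ a ∈ E, ∀ b ∈ E, a * b = b * a := fun a ha b hb =>
      congrArg Subtype.val (IsPGroup.commutative_of_card_eq_prime_sq hEc ⟨a, ha⟩ ⟨b, hb⟩)
    have hyE : y ∈ E := (hmemE y).mpr ⟨hgz, hyp⟩
    have hPE : ∀ x ∈ (P : Subgroup G), ∀ e ∈ E, x * e * x⁻¹ ∈ E := by
      intro x hx e he
      rw [hmemE] at he ⊢
      exact ⟨mul_mem (mul_mem hx he.1) (inv_mem hx), by rw [conj_pow, he.2]; simp⟩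
    -- Q
    set C := Subgroup.centralizer ({y} : Set G) with hCdef
    have hEC : E ≤ C := by
      intro e he
      rw [hCdef, Subgroup.mem_centralizer_singleton_iff]
      exact hEab e he y hyE
    have hgPC : (g • P : Sylow p G).toSubgroup ≤ C := by
      rintro _ ⟨x, hx, rfl⟩
      rw [hCdef, Subgroup.mem_centralizer_singleton_iff]
      show g * x * g⁻¹ * y = y * (g * x * g⁻¹)
      have h1 := hZc z hz x hx
      rw [hydef]
      have h2 : g * x * g⁻¹ * (g * z * g⁻¹) = g * (x * z) * g⁻¹ := by group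
      rw [h2, h1]; group
    obtain ⟨Q0, hQ0⟩ := (IsPGroup.of_equiv (P.isPGroup'.to_le hEP)
      (Subgroup.subgroupOfEquivOfLe hEC).symm).exists_le_sylow
    obtain ⟨R0, hR0⟩ : ∃ R0 : Sylow p C, (R0 : Subgroup C).map C.subtype = (g • P : Sylow p G).toSubgroup :=
      ⟨(g • P).subtype hgPC, by
        rw [Sylow.coe_subtype, Subgroup.map_subgroupOf_eq_of_le hgPC]⟩
    obtain ⟨c0, hc0⟩ := MulAction.exists_smul_eq C R0 Q0
    have hQsylow : ∃ Q : Sylow p G, E ≤ (Q : Subgroup G) ∧ (Q : Subgroup G) ≤ C := by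
      refine ⟨(c0 : G) • (g • P), ?_, ?_⟩
      · intro e he
        have h1 : (⟨e, hEC he⟩ : C) ∈ (Q0 : Subgroup C) := hQ0 (by rw [Subgroup.mem_subgroupOf]; exact he)
        rw [← hc0] at h1
        obtain ⟨r, hr, hre⟩ := h1
        have h2 : (r : G) ∈ (g • P : Sylow p G).toSubgroup := hR0 ▸ ⟨r, hr, rfl⟩
        exact ⟨(r : G), h2, congrArg Subtype.val hre⟩
      · rintro _ ⟨r, hr, rfl⟩
        exact mul_mem (mul_mem c0.2 (hgPC hr)) (inv_mem c0.2)
    obtain ⟨Q, hEQ, hQC⟩ := hQsylow
    let φ : Q ≃* P := Q.equiv P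
    have hQcard : Nat.card Q = p ^ 3 := by rw [Nat.card_congr φ.toEquiv, hcard]
    have hQna : ∃ a b : Q, a * b ≠ b * a := by
      obtain ⟨a, b, hab⟩ := hna
      refine ⟨φ.symm a, φ.symm b, fun h => hab (φ.symm.injective ?_)⟩
      rw [map_mul, map_mul, h]
    have hQexp : ∃ a : Q, a ^ p ≠ 1 := by
      obtain ⟨a, ha⟩ := hexp'
      exact ⟨φ.symm a, fun h => ha (φ.symm.injective (by rw [map_pow, map_one, h]))⟩
    have hEQ' : (omega hp hQcard hQna).map (Q : Subgroup G).subtype = E := by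
      symm
      refine Subgroup.eq_of_le_of_card_ge ?_ ?_
      · intro e he
        exact ⟨⟨e, hEQ he⟩, (mem_omega hp hQcard hQna _).mpr (Subtype.ext (by simpa using ((hmemE e).mp he).2)), rfl⟩
      · rw [Subgroup.card_map_of_injective (Q : Subgroup G).subtype_injective, card_omega hp hQcard hQna hQexp, hEc]
    have hQE : ∀ x ∈ (Q : Subgroup G), ∀ e ∈ E, x * e * x⁻¹ ∈ E := by
      intro x hx e he
      rw [← hEQ'] at he ⊢
      obtain ⟨⟨e, he0⟩, he', rfl⟩ := he
      refine ⟨⟨x * e * x⁻¹, mul_mem (mul_mem hx he0) (inv_mem hx)⟩, ?_, rfl⟩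
      rw [SetLike.mem_coe, mem_omega]
      have : e ^ p = 1 := congrArg Subtype.val ((mem_omega hp hQcard hQna _).mp he')
      exact Subtype.ext (by simp [conj_pow, this])
    -- u moves y
    obtain ⟨u, huP, huy⟩ : ∃ u ∈ (P : Subgroup G), u * y ≠ y * u := by
      by_contra h
      push Not at h
      exact hyZ ⟨⟨y, hgz⟩, Subgroup.mem_center_iff.mpr fun b => Subtype.ext (h b b.2), rfl⟩
    set c := u * y * u⁻¹ * y⁻¹ with hcdef
    have hcZ : c ∈ Z := ⟨⁅(⟨u, huP⟩ : P), ⟨y, hgz⟩⁆, quot_comm hcard hna _ _, by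
      simp [commutatorElement_def, hcdef]⟩
    have hc1 : c ≠ 1 := by
      intro h
      apply huy
      have : u * y = c * (y * u) := by rw [hcdef]; group
      rw [this, h, one_mul]
    have hcp : c ^ p = 1 := by
      have := Subgroup.orderOf_dvd_natCard Z hcZ
      rw [hZcard] at this
      exact orderOf_dvd_iff_pow_eq_one.mp this
    have hcE : c ∈ E := (hmemE c).mpr ⟨hZP hcZ, hcp⟩
    have hcord : orderOf c = p := orderOf_eq_prime hcp hc1
    -- y is central in Q, c is not
    have hyQ : ∀ b ∈ (Q : Subgroup G), b * y = y * b := fun b hb =>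
      Subgroup.mem_centralizer_singleton_iff.mp (hQC hb)
    have hy1 : y ≠ 1 := fun h => hyZ (h ▸ one_mem Z)
    have hyord : orderOf y = p := orderOf_eq_prime hyp hy1
    have hZQ : ∀ a : Q, a ∈ Subgroup.center ↥Q → ∃ n : ℤ, y ^ n = (a : G) := by
      intro a ha
      have h1 : (⟨y, hEQ hyE⟩ : Q) ∈ Subgroup.center ↥Q :=
        Subgroup.mem_center_iff.mpr fun b => Subtype.ext (hyQ b b.2)
      haveI := hp1
      have h2 := mem_zpowers_of_prime_card (G := Subgroup.center ↥Q) (p := p) (card_center hQcard hQna)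
        (g := ⟨_, h1⟩) (g' := ⟨a, ha⟩) (by
          intro h; exact hy1 (congrArg (fun x : Subgroup.center ↥Q => ((x : Q) : G)) h))
      obtain ⟨n, hn⟩ := Subgroup.mem_zpowers_iff.mp h2
      exact ⟨n, congrArg (fun x : Subgroup.center ↥Q => ((x : Q) : G)) hn⟩
    have hyEQ := hEQ hyE
    obtain ⟨v, hvQ, hvc⟩ : ∃ v ∈ (Q : Subgroup G), v * c ≠ c * v := by
      by_contra h
      push Not at h
      obtain ⟨n, hn⟩ := hZQ ⟨c, hEQ hcE⟩ (Subgroup.mem_center_iff.mpr fun b => Subtype.ext (h b b.2))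
      -- then y would be central in P
      apply huy
      have hcy : Subgroup.zpowers c ≤ Subgroup.zpowers y :=
        Subgroup.zpowers_le.mpr ⟨n, hn⟩
      have heq : Subgroup.zpowers c = Subgroup.zpowers y := Subgroup.eq_of_le_of_card_ge hcy (by
        rw [Nat.card_zpowers, Nat.card_zpowers, hcord, hyord])
      obtain ⟨m, hm⟩ := Subgroup.mem_zpowers_iff.mp (heq.symm ▸ Subgroup.mem_zpowers y : y ∈ Subgroup.zpowers c)
      rw [← hm]
      exact ((show Commute u c from hZc c hcZ u huP).zpow_right m).eq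
    obtain ⟨j, hj⟩ := hZQ ⁅(⟨v, hvQ⟩ : Q), ⟨c, hEQ hcE⟩⁆ (quot_comm hQcard hQna _ _)
    replace hj : v * c * v⁻¹ = c * y ^ j := by
      have h1 : v * c * v⁻¹ * c⁻¹ = y ^ j := by rw [hj]; simp [commutatorElement_def]
      have h2 : y ^ j * c = c * y ^ j := ((show Commute y c from hEab y hyE c hcE).zpow_left j).eq
      rw [← h2, ← h1]; group
    have hjp : ¬ (p : ℤ) ∣ j := by
      intro hd
      apply hvc
      have h1 : y ^ j = 1 := orderOf_dvd_iff_zpow_eq_one.mp (by rw [hyord]; exact hd)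
      rw [h1, mul_one] at hj
      calc v * c = v * c * v⁻¹ * v := by group
        _ = c * v := by rw [hj]
    -- powers of v
    have hvpow : ∀ k : ℕ, v ^ k * c * (v ^ k)⁻¹ = c * y ^ (j * k) := by
      intro k
      induction k with
      | zero => simp
      | succ k ih =>
        have hvy : v * y ^ (j * k) * v⁻¹ = y ^ (j * k) := by
          have h := (show Commute v y from hyQ v hvQ).zpow_right (j * k)
          rw [h.eq]; group
        calc v ^ (k + 1) * c * (v ^ (k + 1))⁻¹ = v * (v ^ k * c * (v ^ k)⁻¹) * v⁻¹ := by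
              rw [pow_succ']; group
          _ = (v * c * v⁻¹) * (v * y ^ (j * k) * v⁻¹) := by rw [ih]; group
          _ = c * y ^ j * y ^ (j * k) := by rw [hj, hvy]
          _ = c * y ^ (j * (k + 1 : ℕ)) := by
              rw [mul_assoc, ← zpow_add]; congr 2; push_cast; ring
    obtain ⟨w, hwQ, hwc⟩ : ∃ w ∈ (Q : Subgroup G), w * c * w⁻¹ = c * y⁻¹ := by
      have hj' : ((j : ZMod p)) ≠ 0 := by rwa [Ne, ZMod.intCast_zmod_eq_zero_iff_dvd]
      set k := (-(j : ZMod p)⁻¹).val with hk
      refine ⟨v ^ k, pow_mem hvQ k, ?_⟩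
      rw [hvpow k]
      congr 1
      rw [← zpow_neg_one y, zpow_eq_zpow_iff_modEq, hyord, ← ZMod.intCast_eq_intCast_iff]
      push_cast
      rw [hk, ZMod.natCast_zmod_val]
      field_simp
    have hwy : w * y * w⁻¹ = y := by rw [hyQ w hwQ]; group
    have huc : u * c * u⁻¹ = c := by rw [hZc c hcZ u huP]; group
    have huy' : u * y * u⁻¹ = c * y := by rw [hcdef]; group
    set s := u * w * u * (u * w * u) with hs
    have h1 : ∀ x, (u * w * u) * x * (u * w * u)⁻¹ = u * (w * (u * x * u⁻¹) * w⁻¹) * u⁻¹ := fun x => by group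
    have hcy : c * y = y * c := hEab c hcE y hyE
    have hn_c : (u * w * u) * c * (u * w * u)⁻¹ = y⁻¹ := by
      rw [h1, huc, hwc]
      calc u * (c * y⁻¹) * u⁻¹ = (u * c * u⁻¹) * (u * y * u⁻¹)⁻¹ := by group
        _ = c * (c * y)⁻¹ := by rw [huc, huy']
        _ = y⁻¹ := by rw [hcy]; group
    have hn_y : (u * w * u) * y * (u * w * u)⁻¹ = c := by
      rw [h1, huy']
      calc u * (w * (c * y) * w⁻¹) * u⁻¹ = u * ((w * c * w⁻¹) * (w * y * w⁻¹)) * u⁻¹ := by group
        _ = u * c * u⁻¹ := by rw [hwc, hwy]; group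
        _ = c := huc
    have hsc : s * c * s⁻¹ = c⁻¹ := by
      calc s * c * s⁻¹ = (u * w * u) * ((u * w * u) * c * (u * w * u)⁻¹) * (u * w * u)⁻¹ := by rw [hs]; group
        _ = ((u * w * u) * y * (u * w * u)⁻¹)⁻¹ := by rw [hn_c]; group
        _ = c⁻¹ := by rw [hn_y]
    have hsy : s * y * s⁻¹ = y⁻¹ := by
      calc s * y * s⁻¹ = (u * w * u) * ((u * w * u) * y * (u * w * u)⁻¹) * (u * w * u)⁻¹ := by rw [hs]; group
        _ = y⁻¹ := by rw [hn_y, hn_c]
    -- E is generated by c and y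
    have hgenE : E = Subgroup.closure {c, y} := by
      symm
      have hle : Subgroup.closure {c, y} ≤ E := (Subgroup.closure_le _).mpr (by
        rintro x (rfl | rfl)
        · exact hcE
        · exact hyE)
      refine Subgroup.eq_of_le_of_card_ge hle ?_
      obtain ⟨k, hk⟩ := IsPGroup.iff_card.mp ((P.isPGroup'.to_le hEP).to_le hle)
      have hlt : Nat.card (Subgroup.zpowers c) < Nat.card (Subgroup.closure ({c, y} : Set G)) := by
        refine lt_of_le_of_ne (Subgroup.card_le_of_le (Subgroup.zpowers_le.mpr (Subgroup.subset_closure (by simp)))) ?_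
        intro he
        have := Subgroup.eq_of_le_of_card_ge
          (Subgroup.zpowers_le.mpr (Subgroup.subset_closure (by simp) : c ∈ Subgroup.closure ({c, y} : Set G)))
          (le_of_eq he.symm)
        obtain ⟨m, hm⟩ := Subgroup.mem_zpowers_iff.mp
          (this.symm ▸ (Subgroup.subset_closure (by simp) : y ∈ Subgroup.closure ({c, y} : Set G)))
        apply huy
        rw [← hm]
        exact ((show Commute u c from hZc c hcZ u huP).zpow_right m).eq
      rw [Nat.card_zpowers, hcord, hk] at hlt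
      have : 1 < k := (Nat.pow_lt_pow_iff_right hp1.one_lt).mp (by simpa using hlt)
      rw [hEc, hk]
      exact Nat.pow_le_pow_right hp1.pos this
    have hsE : ∀ e ∈ E, s * e * s⁻¹ = e⁻¹ := by
      intro e he
      rw [hgenE] at he
      induction he using Subgroup.closure_induction with
      | mem x hx =>
        rcases hx with rfl | rfl
        · exact hsc
        · exact hsy
      | one => simp
      | mul a b ha hb ia ib =>
        rw [← hgenE] at ha hb
        calc s * (a * b) * s⁻¹ = (s * a * s⁻¹) * (s * b * s⁻¹) := by group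
          _ = (b * a)⁻¹ := by rw [ia, ib, mul_inv_rev]
          _ = (a * b)⁻¹ := by rw [hEab b hb a ha]
      | inv a ha ia =>
        calc s * a⁻¹ * s⁻¹ = (s * a * s⁻¹)⁻¹ := by group
          _ = a⁻¹⁻¹ := by rw [ia]
    -- L = C(E) P
    set D := Subgroup.centralizer (E : Set G) with hD
    have hPD : (P : Subgroup G) ≤ Subgroup.normalizer (D : Set G) := by
      have hone : ∀ x ∈ (P : Subgroup G), ∀ d ∈ D, x * d * x⁻¹ ∈ D := by
        intro x hx d hd
        rw [hD, Subgroup.mem_centralizer_iff] at hd ⊢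
        intro e he
        have h := hd (x⁻¹ * e * x) (by simpa using hPE x⁻¹ (inv_mem hx) e he)
        calc e * (x * d * x⁻¹) = x * ((x⁻¹ * e * x) * d) * x⁻¹ := by group
          _ = x * (d * (x⁻¹ * e * x)) * x⁻¹ := by rw [h]
          _ = x * d * x⁻¹ * e := by group
      intro x hx
      rw [Subgroup.mem_normalizer_iff]
      refine fun d => ⟨hone x hx d, fun h => ?_⟩
      simpa [mul_assoc] using hone x⁻¹ (inv_mem hx) _ h
    set L := D ⊔ (P : Subgroup G) with hL
    have hsPL : (s • P : Sylow p G).toSubgroup ≤ L := by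
      rintro _ ⟨x, hx, rfl⟩
      have h2 : x⁻¹ * (s * x * s⁻¹) ∈ D := by
        rw [hD, Subgroup.mem_centralizer_iff]
        intro e he
        have hxe := hPE x hx e he
        have hs' : ∀ e ∈ E, s⁻¹ * e * s = e⁻¹ := by
          intro e he
          have h := hsE e⁻¹ (inv_mem he)
          rw [inv_inv] at h
          calc s⁻¹ * e * s = s⁻¹ * (s * e⁻¹ * s⁻¹) * s := by rw [h]
            _ = e⁻¹ := by group
        have h4 : (s * x * s⁻¹) * e * (s * x * s⁻¹)⁻¹ = x * e * x⁻¹ := by
          calc (s * x * s⁻¹) * e * (s * x * s⁻¹)⁻¹ = s * (x * (s⁻¹ * e * s) * x⁻¹) * s⁻¹ := by group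
            _ = s * (x * e * x⁻¹)⁻¹ * s⁻¹ := by rw [hs' e he]; group
            _ = (s * (x * e * x⁻¹) * s⁻¹)⁻¹ := by group
            _ = x * e * x⁻¹ := by rw [hsE _ hxe, inv_inv]
        calc e * (x⁻¹ * (s * x * s⁻¹)) = x⁻¹ * (x * e * x⁻¹) * (s * x * s⁻¹) := by group
          _ = x⁻¹ * ((s * x * s⁻¹) * e * (s * x * s⁻¹)⁻¹) * (s * x * s⁻¹) := by rw [h4]
          _ = x⁻¹ * (s * x * s⁻¹) * e := by group
      have := mul_mem (Subgroup.mem_sup_right hx : x ∈ L) (Subgroup.mem_sup_left h2 : _ ∈ L)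
      simpa using this
    obtain ⟨⟨l, hl⟩, hlP⟩ := MulAction.exists_smul_eq L ((s • P).subtype hsPL) (P.subtype le_sup_right)
    rw [Sylow.smul_subtype] at hlP
    have hlP' : (l * s) • P = P := by rw [mul_smul]; exact Sylow.subtype_injective hlP
    have hlsN := Sylow.smul_eq_iff_mem_normalizer.mp hlP'
    have hl' : l ∈ ((D ⊔ (P : Subgroup G) : Subgroup G) : Set G) := hl
    rw [Subgroup.coe_mul_of_right_le_normalizer_left D _ hPD] at hl'
    obtain ⟨d, hd, x, hx, rfl⟩ := Set.mem_mul.mp hl'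
    set t := (x⁻¹ * d * x) * s with ht
    have htN : t ∈ Subgroup.normalizer ((P : Subgroup G) : Set G) := by
      have := mul_mem (inv_mem (Subgroup.le_normalizer (H := (P : Subgroup G)) hx)) hlsN
      rw [ht]; simpa [mul_assoc] using this
    have hdD : x⁻¹ * d * x ∈ D := by
      have := (Subgroup.mem_normalizer_iff.mp (hPD (inv_mem hx)) d).mp hd
      simpa using this
    have htE : ∀ e ∈ E, t * e * t⁻¹ = e⁻¹ := by
      intro e he
      have h1 := Subgroup.mem_centralizer_iff.mp hdD e⁻¹ (inv_mem he)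
      calc t * e * t⁻¹ = (x⁻¹ * d * x) * (s * e * s⁻¹) * (x⁻¹ * d * x)⁻¹ := by rw [ht]; group
        _ = ((x⁻¹ * d * x) * e⁻¹) * (x⁻¹ * d * x)⁻¹ := by rw [hsE e he]
        _ = e⁻¹ := by rw [← h1]; group
    -- action on u
    have htu : t * u * t⁻¹ ∈ (P : Subgroup G) := (Subgroup.mem_normalizer_iff.mp htN u).mp huP
    have huE : u ∉ E := fun h => huy (hEab u h y hyE)
    have hPgen : ∀ b ∈ (P : Subgroup G), ∃ e ∈ E, ∃ i : ℤ, b = e * u ^ i := by
      intro b hb
      have hn : Subgroup.zpowers u ≤ Subgroup.normalizer (E : Set G) := by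
        rw [Subgroup.zpowers_le, Subgroup.mem_normalizer_iff]
        refine fun e => ⟨hPE u huP e, fun h => ?_⟩
        simpa [mul_assoc] using hPE u⁻¹ (inv_mem huP) _ h
      have hle : E ⊔ Subgroup.zpowers u ≤ (P : Subgroup G) := sup_le hEP (Subgroup.zpowers_le.mpr huP)
      have heq : E ⊔ Subgroup.zpowers u = (P : Subgroup G) := by
        refine Subgroup.eq_of_le_of_card_ge hle ?_
        obtain ⟨k, hk⟩ := IsPGroup.iff_card.mp (P.isPGroup'.to_le hle)
        have hlt : Nat.card E < Nat.card ↥(E ⊔ Subgroup.zpowers u) := by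
          refine lt_of_le_of_ne (Subgroup.card_le_of_le le_sup_left) fun he => huE ?_
          have := Subgroup.eq_of_le_of_card_ge (le_sup_left : E ≤ E ⊔ Subgroup.zpowers u) (le_of_eq he.symm)
          exact this.symm ▸ Subgroup.mem_sup_right (Subgroup.mem_zpowers u)
        rw [hEc, hk] at hlt
        rw [hcard, hk]
        exact Nat.pow_le_pow_right hp1.pos ((Nat.pow_lt_pow_iff_right hp1.one_lt).mp hlt)
      rw [← heq, ← SetLike.mem_coe, Subgroup.coe_mul_of_right_le_normalizer_left E _ hn] at hb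
      obtain ⟨e, he, q, hq, rfl⟩ := Set.mem_mul.mp hb
      obtain ⟨i, rfl⟩ := Subgroup.mem_zpowers_iff.mp hq
      exact ⟨e, he, i, rfl⟩
    obtain ⟨e, he, i, hei⟩ := hPgen _ htu
    have huiy : ∀ i : ℕ, u ^ i * y * (u ^ i)⁻¹ = c ^ i * y := by
      intro i
      induction i with
      | zero => simp
      | succ i ih =>
        have huci : u * c ^ i * u⁻¹ = c ^ i := by
          rw [((show Commute u c from hZc c hcZ u huP).pow_right i).eq]; group
        calc u ^ (i + 1) * y * (u ^ (i + 1))⁻¹ = u * (u ^ i * y * (u ^ i)⁻¹) * u⁻¹ := by rw [pow_succ']; group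
          _ = (u * c ^ i * u⁻¹) * (u * y * u⁻¹) := by rw [ih]; group
          _ = c ^ (i + 1) * y := by rw [huci, huy', pow_succ]; group
    have hup : u ^ p ∈ E := by
      rw [hmemE]
      refine ⟨pow_mem huP p, ?_⟩
      have h2 := quot_pow hcard hna (⟨u, huP⟩ : P)
      have h3 : u ^ p ∈ Z := ⟨_, h2, rfl⟩
      have := Subgroup.orderOf_dvd_natCard Z h3
      rw [hZcard] at this
      exact orderOf_dvd_iff_pow_eq_one.mp this
    -- reduce i to a natural number below p
    obtain ⟨e', he', i', hei'⟩ : ∃ e' ∈ E, ∃ i' : ℕ, t * u * t⁻¹ = e' * u ^ i' ∧ i' < p := by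
      refine ⟨e * (u ^ p) ^ (i / (p : ℤ)), mul_mem he (zpow_mem hup _), (i % (p : ℤ)).toNat, ?_, ?_⟩
      · rw [hei, mul_assoc]; congr 1
        rw [← zpow_natCast u p, ← zpow_mul, ← zpow_natCast u (i % (p : ℤ)).toNat, ← zpow_add,
          Int.toNat_of_nonneg (Int.emod_nonneg _ (by exact_mod_cast hp1.ne_zero))]
        congr 1
        exact (Int.mul_ediv_add_emod i p).symm
      · have := Int.emod_lt_of_pos i (by exact_mod_cast hp1.pos : (0 : ℤ) < p)
        have hn0 : 0 ≤ i % (p : ℤ) := Int.emod_nonneg _ (by exact_mod_cast hp1.ne_zero)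
        exact (Int.toNat_lt hn0).mpr this
    obtain ⟨hei', hip⟩ := hei'
    have hi1 : i' = 1 := by
      have hc_inv : t * c * t⁻¹ = c⁻¹ := htE c hcE
      have hy_inv : t * y * t⁻¹ = y⁻¹ := htE y hyE
      have h2 : (e' * u ^ i') * y⁻¹ * (e' * u ^ i')⁻¹ = c⁻¹ * y⁻¹ := by
        calc (e' * u ^ i') * y⁻¹ * (e' * u ^ i')⁻¹ = (t * u * t⁻¹) * (t * y * t⁻¹) * (t * u * t⁻¹)⁻¹ := by
              rw [hy_inv, hei']
          _ = t * (u * y * u⁻¹) * t⁻¹ := by group
          _ = (t * c * t⁻¹) * (t * y * t⁻¹) := by rw [huy']; group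
          _ = c⁻¹ * y⁻¹ := by rw [hc_inv, hy_inv]
      have h3 : (e' * u ^ i') * y⁻¹ * (e' * u ^ i')⁻¹ = (c ^ i' * y)⁻¹ := by
        have hm : (c ^ i' * y)⁻¹ ∈ E := inv_mem (mul_mem (pow_mem hcE i') hyE)
        calc (e' * u ^ i') * y⁻¹ * (e' * u ^ i')⁻¹ = e' * (u ^ i' * y * (u ^ i')⁻¹)⁻¹ * e'⁻¹ := by group
          _ = e' * (c ^ i' * y)⁻¹ * e'⁻¹ := by rw [huiy]
          _ = (c ^ i' * y)⁻¹ := by rw [hEab e' he' _ hm]; group
      rw [h2] at h3
      have h4 : c ^ i' = c ^ 1 := by
        have h5 : c⁻¹ * y⁻¹ = (c * y)⁻¹ := by rw [hcy, mul_inv_rev y c]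
        rw [h5] at h3
        rw [pow_one]
        exact (mul_right_cancel (inv_injective h3)).symm
      rw [pow_inj_mod, hcord, Nat.mod_eq_of_lt hip, Nat.mod_eq_of_lt hp1.one_lt] at h4
      exact h4
    rw [hi1, pow_one] at hei'
    -- take p-th powers
    have h5 : t * u ^ p * t⁻¹ = u ^ p := by
      rw [← conj_pow, hei']
      have := congrArg Subtype.val (pow_mul_hom hp hcard hna (⟨e', hEP he'⟩ : P) ⟨u, huP⟩)
      simp only [SubmonoidClass.coe_pow, Subgroup.coe_mul] at this
      rw [this, ((hmemE e').mp he').2, one_mul]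
    rw [htE _ hup] at h5
    have h6 : (u ^ p) ^ 2 = 1 := by rw [sq]; nth_rw 1 [← h5]; exact inv_mul_cancel _
    have h7 : u ^ p = 1 := by
      refine orderOf_eq_one_iff.mp ?_
      have hd2 : orderOf (u ^ p) ∣ 2 := orderOf_dvd_of_pow_eq_one h6
      have hdp : orderOf (u ^ p) ∣ p := orderOf_dvd_of_pow_eq_one ((hmemE _).mp hup).2
      exact Nat.eq_one_of_dvd_coprimes ((Nat.coprime_primes hp1 Nat.prime_two).mpr hp) hdp hd2
    exact huE ((hmemE u).mpr ⟨huP, h7⟩)
  exact key

end Cfsg.Agent.S3053
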