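import Cfsg.Statements.S3054
import Cfsg.Agent.Lib.LocalEvenB.CubePGL
open scoped CfsgLib.Classical.Dickson
-- import your own Cfsg.Agent.* helpers here

set_option autoImplicit false
open Cfsg

namespace Cfsg.Agent.S3054

section
open CfsgLib.LocalEvenB.CubeLines

variable {G : Type*} [Group G] [Finite G] {p : ℕ} [hp' : Fact p.Prime]

/-- the transvection as an additive automorphism -/
def upEquiv (s : ZMod p) : (ZMod p × ZMod p) ≃+ (ZMod p × ZMod p) where
  toFun := up s
  invFun := up (-s)
  left_inv v := Prod.ext (by simp [up]) rfl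
  right_inv v := Prod.ext (by simp [up]) rfl
  map_add' v w := Prod.ext (by simp [up]; ring) rfl

/-- the transvection as an additive automorphism -/
def lowEquiv (s : ZMod p) : (ZMod p × ZMod p) ≃+ (ZMod p × ZMod p) where
  toFun := low s
  invFun := low (-s)
  left_inv v := Prod.ext rfl (by simp [low])
  right_inv v := Prod.ext rfl (by simp [low])
  map_add' v w := Prod.ext rfl (by simp [low]; ring)

theorem realises_of_order {A : Subgroup G} {z a : G}
    (hSL : ∀ φ : MulAut ↥A, orderOf φ = p → ∃ g : G, ∀ b : ↥A, (φ b : G) = g * (b : G) * g⁻¹)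
    (E : Multiplicative (ZMod p × ZMod p) ≃* A)
    (hE : ∀ v, (E (Multiplicative.ofAdd v) : G) = pr z a v)
    (f : ZMod p → (ZMod p × ZMod p) ≃+ (ZMod p × ZMod p))
    (hf : ∀ s t v, f (s + t) v = f s (f t v))
    (hne : ∀ s, s ≠ 0 → ∃ v, f s v ≠ v) (s : ZMod p) :
    Realises z a (f s) := by
  have h0 : ∀ v, f 0 v = v := by
    intro v
    have := hf 0 0 v
    rw [add_zero] at this
    exact ((f 0).injective this).symm
  by_cases hs : s = 0
  · subst hs
    exact ⟨1, fun v => by simp [h0]⟩
  let φ : ZMod p → MulAut A := fun t => E.symm.trans ((AddEquiv.toMultiplicative (f t)).trans E)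
  have hφ : ∀ t v, φ t (E (Multiplicative.ofAdd v)) = E (Multiplicative.ofAdd (f t v)) := by
    intro t v; simp [φ]
  have hext : ∀ (ψ χ : MulAut A), (∀ v, ψ (E (Multiplicative.ofAdd v)) = χ (E (Multiplicative.ofAdd v))) →
      ψ = χ := by
    intro ψ χ h
    refine MulEquiv.ext fun b => ?_
    obtain ⟨m, rfl⟩ := E.surjective b
    exact h (Multiplicative.toAdd m)
  have hpow : ∀ n : ℕ, φ s ^ n = φ ((n : ZMod p) * s) := by
    intro n
    induction n with
    | zero =>
      refine hext _ _ fun v => ?_
      rw [hφ, Nat.cast_zero, zero_mul, h0, pow_zero, MulAut.one_apply]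
    | succ n ih =>
      refine hext _ _ fun v => ?_
      rw [pow_succ', MulAut.mul_apply, ih, hφ, hφ, hφ, ← hf, Nat.cast_succ, add_mul, one_mul,
        add_comm s]
  have hord : orderOf (φ s) = p := by
    refine orderOf_eq_prime ?_ ?_
    · refine (hpow p).trans (hext _ _ fun v => ?_)
      rw [hφ, ZMod.natCast_self, zero_mul, h0, MulAut.one_apply]
    · intro h
      obtain ⟨v, hv⟩ := hne s hs
      apply hv
      have := hφ s v
      rw [h, MulAut.one_apply] at this
      exact (Multiplicative.ofAdd.injective (E.injective this)).symm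
  obtain ⟨g, hg⟩ := hSL _ hord
  refine ⟨g, fun v => ?_⟩
  rw [← hE, ← hE, ← hg, hφ]

theorem main (hp : p ≠ 2) (P : Sylow p G) (hE : Cfsg.IsExtraspecial p ↥P)
    (hcard : Nat.card P = p ^ 3) (hexp : Monoid.exponent ↥P = p)
    (A : Fin 3 → Subgroup G) (hA : Function.Injective A) (hAP : ∀ i, A i ≤ (P : Subgroup G))
    (hAcard : ∀ i, Nat.card ↥(A i) = p ^ 2)
    (hSL : ∀ i, ∀ φ : MulAut ↥(A i), orderOf φ = p → ∃ g : G, ∀ a : ↥(A i), (φ a : G) = g * (a : G) * g⁻¹) :
    p ≤ 13 := by
  classical
  by_contra h13
  push Not at h13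
  obtain ⟨z, C⟩ := exists_cube P hE hcard hexp
  obtain ⟨vec, H, hadd, hsurj, hker, hH, hfix⟩ := C.exists_group
  have hcommA : ∀ i, ∀ x ∈ A i, ∀ y ∈ A i, x * y = y * x := by
    intro i x hx y hy
    exact congrArg Subtype.val
      (IsPGroup.commutative_of_card_eq_prime_sq (hAcard i) (⟨x, hx⟩ : A i) ⟨y, hy⟩)
  have hzA : ∀ i, z ∈ A i := by
    intro i
    by_contra hz
    let F : A i → (Fin 2 → ZMod p) := fun x => vec ⟨x, hAP i x.2⟩
    have hinj : Function.Injective F := by
      intro x y hxy
      obtain ⟨k, hk⟩ := (C.vec_eq_iff vec hadd hker _ _).mp hxy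
      by_cases hk0 : (k : ZMod p) = 0
      · apply Subtype.ext
        have : z ^ k = 1 := by rw [← pow_val_natCast (C.pow z C.mem) k, hk0, ZMod.val_zero, pow_zero]
        simpa [this] using hk
      · exfalso
        apply hz
        have hzk : z ^ k ∈ A i := by
          have e : z ^ k = (y : G)⁻¹ * (x : G) := by
            rw [show (x : G) = (y : G) * z ^ k from hk]; group
          rw [e]; exact (A i).mul_mem ((A i).inv_mem y.2) x.2
        have := (A i).pow_mem hzk ((k : ZMod p)⁻¹).val
        rw [← pow_mul, ← pow_val_natCast (C.pow z C.mem), Nat.cast_mul, ZMod.natCast_zmod_val,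
          mul_inv_cancel₀ hk0, ZMod.val_one, pow_one] at this
        exact this
    have hbij : Function.Bijective F := by
      refine hinj.bijective_of_nat_card_le ?_
      rw [hAcard, Nat.card_fun, Nat.card_zmod, Nat.card_fin]
    -- then `P` would be abelian
    obtain ⟨x, hx⟩ := hsurj ![1, 0]
    have hxn : (x : G) ∉ Subgroup.zpowers z := fun h => by
      have := congrFun ((hker x).mpr h) 0
      rw [hx] at this
      simp at this
    obtain ⟨w, hw, hxw⟩ := C.nonab _ x.2 hxn
    obtain ⟨x', hx'⟩ := hbij.2 (vec x)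
    obtain ⟨w', hw'⟩ := hbij.2 (vec ⟨w, hw⟩)
    obtain ⟨k, hk⟩ := (C.vec_eq_iff vec hadd hker _ _).mp hx'.symm
    obtain ⟨l, hl⟩ := (C.vec_eq_iff vec hadd hker _ _).mp hw'.symm
    apply hxw
    simp only at hk hl
    rw [hk, hl]
    have hzc : ∀ (u : A i) (m : ℕ), Commute (u : G) (z ^ m) := fun u m =>
      (C.cent _ (hAP i u.2)).pow_right m
    exact Commute.mul_left (Commute.mul_right (hcommA i _ x'.2 _ w'.2) (hzc _ _))
      (Commute.mul_right (hzc _ _).symm (Commute.pow_pow_self z _ _))
  have hnz : ∀ i, ∃ a ∈ A i, a ∉ Subgroup.zpowers z := by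
    intro i
    by_contra h
    push Not at h
    have h1 := Subgroup.card_le_of_le (show A i ≤ Subgroup.zpowers z from h)
    rw [hAcard, Nat.card_zpowers, orderOf_eq_prime (C.pow z C.mem) C.ne] at h1
    nlinarith [hp'.out.two_le]
  choose a haA haz using hnz
  let α : Fin 3 → (P : Subgroup G) := fun i => ⟨a i, hAP i (haA i)⟩
  have hv : ∀ i, vec (α i) ≠ 0 := fun i h => haz i ((hker _).mp h)
  -- coordinates on each `A i`
  have hrange : ∀ i, ∃ E : Multiplicative (ZMod p × ZMod p) ≃* A i,
      ∀ v, (E (Multiplicative.ofAdd v) : G) = pr z (a i) v := by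
    intro i
    have hpair := C.pair (hAP i (haA i))
    let f : Multiplicative (ZMod p × ZMod p) →* A i :=
      MonoidHom.mk' (fun v => ⟨pr z (a i) (Multiplicative.toAdd v),
          (A i).mul_mem ((A i).pow_mem (hzA i) _) ((A i).pow_mem (haA i) _)⟩)
        fun v w => Subtype.ext (pr_add hpair _ _)
    have hinj : Function.Injective f := by
      rw [injective_iff_map_eq_one]
      intro v hv'
      have e : z ^ (Multiplicative.toAdd v).1.val * a i ^ (Multiplicative.toAdd v).2.val = 1 :=
        congrArg Subtype.val hv'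
      set j := (Multiplicative.toAdd v).2
      have hj : j = 0 := by
        by_contra hj
        apply haz i
        have hm : a i ^ j.val ∈ Subgroup.zpowers z := by
          rw [eq_inv_of_mul_eq_one_right e]
          exact Subgroup.inv_mem _ (Subgroup.npow_mem_zpowers _ _)
        have := Subgroup.pow_mem _ hm j⁻¹.val
        rw [← pow_mul, ← pow_val_natCast (C.pow _ (hAP i (haA i))), Nat.cast_mul,
          ZMod.natCast_zmod_val, ZMod.natCast_zmod_val, mul_inv_cancel₀ hj, ZMod.val_one, pow_one] at this
        exact this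
      rw [hj, ZMod.val_zero, pow_zero, mul_one] at e
      have hi' : (Multiplicative.toAdd v).1 = 0 := by
        have := natCast_eq_of_pow_eq (C.pow z C.mem) C.ne (m := (Multiplicative.toAdd v).1.val) (n := 0)
          (by rw [e, pow_zero])
        rwa [ZMod.natCast_zmod_val, Nat.cast_zero] at this
      exact Multiplicative.toAdd.injective (Prod.ext hi' hj)
    have hbij : Function.Bijective f := by
      refine hinj.bijective_of_nat_card_le ?_
      rw [hAcard, Nat.card_congr Multiplicative.toAdd, Nat.card_prod, Nat.card_zmod, pow_two]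
    exact ⟨MulEquiv.ofBijective f hbij, fun v => rfl⟩
  have hUL : ∀ i, UL p z (a i) := by
    intro i s
    obtain ⟨E, hE'⟩ := hrange i
    constructor
    · exact realises_of_order (hSL i) E hE' upEquiv
        (fun s t v => Prod.ext (by simp [upEquiv, up]; ring) rfl)
        (fun s hs => ⟨(0, 1), fun h => hs (by simpa [upEquiv, up] using congrArg Prod.fst h)⟩) s
    · exact realises_of_order (hSL i) E hE' lowEquiv
        (fun s t v => Prod.ext rfl (by simp [lowEquiv, low]; ring))
        (fun s hs => ⟨(1, 0), fun h => hs (by simpa [lowEquiv, low] using congrArg Prod.snd h)⟩) s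
  -- the three points
  let q : Fin 3 → OnePoint (ZMod p) := fun i => pt (vec (α i)) (hv i)
  have hq : Function.Injective q := by
    intro i j hij
    apply hA
    obtain ⟨c, hc⟩ := (pt_eq_iff (hv i) (hv j)).mp hij
    have hmem : a i ∈ A j := by
      have e : vec (α i) = vec (α j ^ c.val) := by
        rw [C.vec_pow vec hadd, ZMod.natCast_zmod_val, hc]
      obtain ⟨k, hk⟩ := (C.vec_eq_iff vec hadd hker _ _).mp e
      have hk' : a i = a j ^ c.val * z ^ k := by simpa [α] using hk
      rw [hk']
      exact (A j).mul_mem ((A j).pow_mem (haA j) _) ((A j).pow_mem (hzA j) _)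
    refine Subgroup.eq_of_le_of_card_ge ?_ (by rw [hAcard, hAcard])
    intro x hx
    obtain ⟨E, hE'⟩ := hrange i
    obtain ⟨m, hm⟩ := E.surjective ⟨x, hx⟩
    have := hE' (Multiplicative.toAdd m)
    rw [ofAdd_toAdd, hm] at this
    simp only at this
    rw [this]
    exact (A j).mul_mem ((A j).pow_mem (hzA j) _) ((A j).pow_mem hmem _)
  have h6 : ∀ x ∈ Finset.univ.image q, ∃ g ∈ H, g • x = x ∧ 6 ≤ orderOf g := by
    intro x hx
    obtain ⟨i, -, rfl⟩ := Finset.mem_image.mp hx
    obtain ⟨g, hg, hgx, hgd⟩ := hfix (α i) (hv i) (hUL i)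
    haveI : Finite H := inferInstance
    exact ⟨g, hg, hgx, (order_cases (by omega) (orderOf_pos g) hgd).2.2 h13⟩
  have hres := CfsgLib.LocalEvenB.PGL2Tame.card_le p H hH (Finset.univ.image q)
    (fun x hx => by
      obtain ⟨g, hg, hgx, hg6⟩ := h6 x hx
      exact ⟨g, hg, hgx, by omega, by omega⟩)
  have h3 := hres.2 h6
  rw [Finset.card_image_of_injective _ hq, Finset.card_univ, Fintype.card_fin] at h3
  omega

end

/-- Let p be an odd prime and G a finite group with a Sylow p-subgroup P that is extraspecial of order p³ and exponent p. Suppose P contains three distinct subgroups A of order p² (each is elementary abelian of rank 2) such that every automorphism of A of order p is induced by conjugation by an element of G; equivalently the automorphism group induced on A by its normalizer contains the special linear group of A. Then p ≤ 13. -/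
theorem result {G : Type*} [Group G] [Finite G]
    {p : ℕ} [Fact p.Prime] (hp : p ≠ 2) (P : Sylow p G) (hE : Cfsg.IsExtraspecial p ↥P)
    (hcard : Nat.card P = p ^ 3) (hexp : Monoid.exponent ↥P = p)
    (A : Fin 3 → Subgroup G) (hA : Function.Injective A) (hAP : ∀ i, A i ≤ (P : Subgroup G))
    (hAcard : ∀ i, Nat.card ↥(A i) = p ^ 2)
    (hSL : ∀ i, ∀ φ : MulAut ↥(A i), orderOf φ = p → ∃ g : G, ∀ a : ↥(A i), (φ a : G) = g * (a : G) * g⁻¹) :
    p ≤ 13 := by
  classical
  exact main hp P hE hcard hexp A hA hAP hAcard hSL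

end Cfsg.Agent.S3054
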