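import Cfsg.Statements.S3055
import Cfsg.Agent.Lib.LocalEvenB.CubePGL
open scoped CfsgLib.Classical.Dickson
-- import your own Cfsg.Agent.* helpers here

set_option autoImplicit false
open Cfsg

namespace Cfsg.Agent.S3055

section
open CfsgLib.LocalEvenB.CubeLines

variable {G : Type*} [Group G] [Finite G] {p : ℕ} [hp' : Fact p.Prime]

theorem main (hp : p ≠ 2) (P : Sylow p G) (hE : Cfsg.IsExtraspecial p ↥P)
    (hcard : Nat.card P = p ^ 3) (hexp : Monoid.exponent ↥P = p)
    (hconj : ∀ x y : ↥P, x ≠ 1 → y ≠ 1 → ∃ g : G, g * (x : G) * g⁻¹ = (y : G)) :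
    p ≤ 7 := by
  classical
  by_contra h7
  push Not at h7
  obtain ⟨z, C⟩ := exists_cube P hE hcard hexp
  obtain ⟨vec, H, hadd, hsurj, hker, hH, hfix⟩ := C.exists_group
  have hz := C.pow z C.mem
  have hUL : ∀ a : (P : Subgroup G), (a : G) ∉ Subgroup.zpowers z → UL p z (a : G) := by
    intro a han
    have hpair := C.pair a.2
    have hane : (a : G) ≠ 1 := fun h => han (by rw [h]; exact one_mem _)
    -- upper transvections from `P`
    obtain ⟨b, hb, k, hk, hk0⟩ := C.exists_partner a.2 han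
    have hup : ∀ s : ZMod p, Realises z (a : G) (up s) := realises_up_of hpair hk0
      (g := b) (by rw [(C.cent b hb).eq, mul_inv_cancel_right])
      (by rw [hk, pr, ZMod.val_one, pow_one, pow_val_natCast hz])
    -- a Sylow subgroup centralising `a` and containing `z`
    obtain ⟨g, hg⟩ := hconj ⟨z, C.mem⟩ a (fun h => C.ne (congrArg Subtype.val h))
      (fun h => hane (congrArg Subtype.val h))
    simp only at hg
    let M : Subgroup G := Subgroup.centralizer {(a : G)}
    have hM : ∀ u, u ∈ M ↔ Commute u (a : G) := fun u => by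
      rw [Subgroup.mem_centralizer_singleton_iff]; exact Iff.rfl
    have hle : ((g • P : Sylow p G) : Subgroup G) ≤ M := by
      intro u hu
      rw [Sylow.smul_def, Sylow.pointwise_smul_def] at hu
      obtain ⟨y, hy, rfl⟩ := hu
      rw [hM, ← hg]
      exact (Commute.conj_iff g).mpr (C.cent y hy)
    have hzM : z ∈ M := (hM z).mpr (C.cent _ a.2).symm
    have hzp : IsPGroup p (Subgroup.zpowers (⟨z, hzM⟩ : M)) := by
      refine IsPGroup.of_card (n := 1) ?_
      rw [Nat.card_zpowers, Subgroup.orderOf_mk, pow_one]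
      exact orderOf_eq_prime hz C.ne
    obtain ⟨S, hS⟩ := hzp.exists_le_sylow
    obtain ⟨⟨c, hcM⟩, hc⟩ := MulAction.exists_smul_eq M ((g • P).subtype hle) S
    have hzS : (⟨z, hzM⟩ : M) ∈ (S : Subgroup M) := hS (Subgroup.mem_zpowers _)
    rw [← hc, Sylow.smul_subtype hle, Sylow.coe_subtype, Subgroup.mem_subgroupOf] at hzS
    rw [Subgroup.smul_def, smul_smul, Sylow.smul_def, Sylow.pointwise_smul_def] at hzS
    obtain ⟨u, hu, hzu⟩ := hzS
    set g' := c * g with hg'
    have hzu' : g' * u * g'⁻¹ = z := hzu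
    have hga : g' * z * g'⁻¹ = (a : G) := by
      calc g' * z * g'⁻¹ = c * (g * z * g⁻¹) * c⁻¹ := by rw [hg']; group
        _ = c * (a : G) * c⁻¹ := by rw [hg]
        _ = (a : G) := by rw [((hM c).mp hcM).eq, mul_inv_cancel_right]
    have hun : u ∉ Subgroup.zpowers z := by
      intro hmem
      obtain ⟨j, hj⟩ := (Cube.zpowers_iff C).mp hmem
      have e : (a : G) ^ j = z := by rw [← hga, conj_pow, hj, hzu']
      have hj0 : (j : ZMod p) ≠ 0 := by
        intro h0
        apply C.ne
        rw [← e, ← pow_val_natCast (C.pow _ a.2) j, h0, ZMod.val_zero, pow_zero]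
      apply han
      have : (a : G) = z ^ ((j : ZMod p)⁻¹).val := by
        rw [← e, ← pow_mul, ← pow_val_natCast (C.pow _ a.2) (j * _), Nat.cast_mul,
          ZMod.natCast_zmod_val, mul_inv_cancel₀ hj0, ZMod.val_one, pow_one]
      rw [this]; exact Subgroup.npow_mem_zpowers _ _
    obtain ⟨w, hw, l, hl, hl0⟩ := C.exists_partner hu hun
    have hlow : ∀ s : ZMod p, Realises z (a : G) (low s) := by
      refine realises_low_of (p := p) hpair hl0 (g := g' * w * g'⁻¹) ?_ ?_
      · calc g' * w * g'⁻¹ * z * (g' * w * g'⁻¹)⁻¹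
            = g' * (w * u * w⁻¹) * g'⁻¹ := by rw [← hzu']; group
          _ = (g' * z * g'⁻¹) ^ l * (g' * u * g'⁻¹) := by rw [hl, conj_pow]; group
          _ = pr z (a : G) (1, (l : ZMod p)) := by
              rw [hga, hzu', pr, ZMod.val_one, pow_one, pow_val_natCast (C.pow _ a.2)]
              exact ((C.cent _ a.2).pow_left l).eq
      · calc g' * w * g'⁻¹ * (a : G) * (g' * w * g'⁻¹)⁻¹
            = g' * (w * z * w⁻¹) * g'⁻¹ := by rw [← hga]; group
          _ = (a : G) := by rw [(C.cent w hw).eq, mul_inv_cancel_right, hga]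
    exact fun s => ⟨hup s, hlow s⟩
  have hall : ∀ x : OnePoint (ZMod p), ∃ g ∈ H, g • x = x ∧ 4 ≤ orderOf g ∧ orderOf g ≠ 5 := by
    intro x
    obtain ⟨v, hv, rfl⟩ := pt_surjective x
    obtain ⟨a, rfl⟩ := hsurj v
    obtain ⟨g, hg, hgx, hgd⟩ := hfix a hv (hUL a fun h => hv ((hker a).mpr h))
    obtain ⟨h4, h5, -⟩ := order_cases h7 (orderOf_pos g) hgd
    exact ⟨g, hg, hgx, h4, h5⟩
  haveI : Fintype (OnePoint (ZMod p)) := Fintype.ofFinite _
  have h6 := (CfsgLib.LocalEvenB.PGL2Tame.card_le p H hH Finset.univ fun x _ => hall x).1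
  rw [Finset.card_univ, ← Nat.card_eq_fintype_card, CfsgLib.Classical.Dickson.natCard_points,
    Nat.card_zmod] at h6
  omega

end

/-- Let p be an odd prime and G a finite group with a Sylow p-subgroup P that is extraspecial of order p³ and exponent p. If all nonidentity elements of P are conjugate in G, then p ≤ 7. -/
theorem result {G : Type*} [Group G] [Finite G]
    {p : ℕ} [Fact p.Prime] (hp : p ≠ 2) (P : Sylow p G) (hE : Cfsg.IsExtraspecial p ↥P)
    (hcard : Nat.card P = p ^ 3) (hexp : Monoid.exponent ↥P = p)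
    (hconj : ∀ x y : ↥P, x ≠ 1 → y ≠ 1 → ∃ g : G, g * (x : G) * g⁻¹ = (y : G)) :
    p ≤ 7 := by
  exact main hp P hE hcard hexp hconj

end Cfsg.Agent.S3055
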