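import Cfsg.Statements.S3057
import Cfsg.Agent.Lib.LocalEvenB.SylowGraph
import Cfsg.Agent.Lib.FrobRealize.Quaternion
import Cfsg.Agent.Lib.Coprime.Generation
import Cfsg.Agent.Lib.Components.PComponents
import Cfsg.Agent.Lib.Fusion.PSolvable
import Cfsg.Agent.Lib.Fusion.NormalRankTwo
import Cfsg.Agent.Lib.NumberTheory.SylowCount

set_option autoImplicit false
open Cfsg

namespace Cfsg.Agent.S3057

open CfsgLib.LocalEvenB.SylowGraph
open scoped Pointwise

theorem zpowers_eq_of_few {H : Type*} [Group H] [Finite H] {p : ℕ} [Fact p.Prime]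
    (hfew : Nat.card {x : H // x ^ p = 1} ≤ p) {a b : H} (ha : orderOf a = p) (hb : b ^ p = 1) :
    b ∈ Subgroup.zpowers a := by
  have hsub : (Subgroup.zpowers a : Set H) ⊆ {x : H | x ^ p = 1} := by
    rintro _ ⟨k, rfl⟩
    show (a ^ k) ^ p = 1
    rw [← zpow_natCast (a ^ k), zpow_comm, zpow_natCast, ← ha, pow_orderOf_eq_one, one_zpow]
  have h : (Subgroup.zpowers a : Set H) = {x : H | x ^ p = 1} := by
    refine Set.eq_of_subset_of_ncard_le hsub ?_ (Set.toFinite _)
    rw [← Nat.card_coe_set_eq, ← Nat.card_coe_set_eq]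
    exact hfew.trans (le_of_eq (by rw [← ha]; exact (Nat.card_zpowers a).symm))
  have : b ∈ {x : H | x ^ p = 1} := hb
  rwa [← h] at this

theorem few_of_cyclic {H : Type*} [Group H] [Finite H] {p : ℕ} [Fact p.Prime] (h : IsCyclic H) :
    Nat.card {x : H // x ^ p = 1} ≤ p := by
  classical
  haveI := Fintype.ofFinite H
  rw [Nat.card_eq_fintype_card, Fintype.card_subtype]
  exact IsCyclic.card_pow_eq_one_le (Fact.out : p.Prime).pos

theorem few_of_quaternion {H : Type*} [Group H] [Finite H] {n : ℕ}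
    (e : H ≃* QuaternionGroup (2 ^ n)) : Nat.card {x : H // x ^ 2 = 1} ≤ 2 := by
  classical
  set m := 2 ^ n with hm
  haveI : NeZero m := ⟨(Nat.two_pow_pos n).ne'⟩
  have key : ∀ q : QuaternionGroup m, q ^ 2 = 1 → q = 1 ∨ q = QuaternionGroup.a (m : ZMod (2 * m)) := by
    intro q hq
    rcases q with i | i
    · rw [sq, QuaternionGroup.a_mul_a, QuaternionGroup.one_def, QuaternionGroup.a.injEq] at hq
      have h2 : (2 * m) ∣ i.val + i.val := by
        rw [← ZMod.natCast_eq_zero_iff, Nat.cast_add, ZMod.natCast_zmod_val, hq]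
      have hlt := ZMod.val_lt i
      obtain ⟨c, hc⟩ := h2
      have hc2 : c < 2 := by nlinarith
      rcases (show i.val = 0 ∨ i.val = m by
        interval_cases c <;> omega) with h | h
      · left
        rw [(ZMod.val_eq_zero i).1 h, QuaternionGroup.one_def]
      · right
        refine congrArg QuaternionGroup.a ?_
        calc i = ((i.val : ℕ) : ZMod (2 * m)) := (ZMod.natCast_zmod_val i).symm
          _ = (m : ZMod (2 * m)) := congrArg Nat.cast h
    · exfalso
      rw [QuaternionGroup.xa_sq, QuaternionGroup.one_def, QuaternionGroup.a.injEq,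
        ZMod.natCast_eq_zero_iff] at hq
      have := Nat.le_of_dvd (NeZero.pos m) hq
      have := NeZero.pos m
      omega
  have hsub : {x : H | x ^ 2 = 1} ⊆ ({1, e.symm (QuaternionGroup.a (m : ZMod (2 * m)))} : Set H) := by
    intro x hx
    have hx' : (e x) ^ 2 = 1 := by rw [← map_pow, show x ^ 2 = 1 from hx, map_one]
    rcases key _ hx' with h | h
    · left; exact e.injective (by rw [h, map_one])
    · right
      exact e.injective (by simpa using h)
  calc Nat.card {x : H // x ^ 2 = 1} = Set.ncard {x : H | x ^ 2 = 1} := Nat.card_coe_set_eq _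
    _ ≤ Set.ncard ({1, e.symm (QuaternionGroup.a (m : ZMod (2 * m)))} : Set H) :=
      Set.ncard_le_ncard hsub (Set.toFinite _)
    _ ≤ 2 := (Set.ncard_insert_le _ _).trans (by rw [Set.ncard_singleton])

/-- Few elements of order `p` and trivial `p`-core disconnect the Sylow graph. -/
theorem disconnected {G : Type*} [Group G] [Finite G] {p : ℕ} [Fact p.Prime]
    (hdiv : p ∣ Nat.card G) (P : Sylow p G) (hO : Cfsg.pCore p G = ⊥)
    (hfew : Nat.card {x : ↥(P : Subgroup G) // x ^ p = 1} ≤ p) :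
    ¬ Cfsg.IsSylowChainConnected p G := by
  obtain ⟨z, hz⟩ := exists_prime_orderOf_dvd_card' (G := ↥(P : Subgroup G)) p
    (Sylow.dvd_card_of_dvd_card P hdiv)
  set Z := Subgroup.zpowers (z : G) with hZ
  have hzo : orderOf (z : G) = p := by rw [Subgroup.orderOf_coe, hz]
  have hZne : Z ≠ ⊥ := fun e => by
    rw [hZ, Subgroup.zpowers_eq_bot] at e
    rw [e, orderOf_one] at hzo
    exact (Fact.out : p.Prime).one_lt.ne hzo
  have hZP : Z ≤ (P : Subgroup G) := Subgroup.zpowers_le.2 z.2
  have huniq : ∀ y ∈ (P : Subgroup G), orderOf y = p → Subgroup.zpowers y = Z := by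
    intro y hy hyo
    have hcard : Nat.card (Subgroup.zpowers y) = Nat.card Z := by
      rw [Nat.card_zpowers, Nat.card_zpowers, hyo, hzo]
    refine Subgroup.eq_of_le_of_card_ge (Subgroup.zpowers_le.2 ?_) hcard.ge
    obtain ⟨k, hk⟩ := zpowers_eq_of_few hfew hz (b := ⟨y, hy⟩)
      (Subtype.ext (show y ^ p = 1 from orderOf_dvd_iff_pow_eq_one.1 hyo.dvd))
    exact ⟨k, by simpa using congrArg Subtype.val hk⟩
  have hPN : (P : Subgroup G) ≤ Subgroup.normalizer (Z : Set G) := by
    intro g hg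
    rw [Subgroup.mem_normalizer_iff_map_conj_eq, hZ, MonoidHom.map_zpowers]
    exact huniq _ (mul_mem (mul_mem hg z.2) (inv_mem hg))
      ((MulEquiv.orderOf_eq (MulAut.conj g) (z : G)).trans hzo)
  refine disconnected_of_spe (H := Subgroup.normalizer (Z : Set G)) (fun h => ?_) ?_ fun g hg hdv => hg ?_
  · haveI : Z.Normal := Subgroup.normalizer_eq_top_iff.1 h
    exact hZne (le_bot_iff.1 (hO ▸ CfsgLib.Solvable.Cores.le_pCore (P.isPGroup'.to_le hZP)))
  · exact (hzo ▸ Subgroup.orderOf_dvd_natCard _ (hPN z.2) :)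
  obtain ⟨x, hxp⟩ := exists_prime_orderOf_dvd_card'
    (G := ↥(Subgroup.normalizer (Z : Set G) ⊓
      (Subgroup.normalizer (Z : Set G)).map (MulAut.conj g).toMonoidHom)) p hdv
  have hN : ∀ y ∈ Subgroup.normalizer (Z : Set G), orderOf y = p → Subgroup.zpowers y = Z := by
    intro y hy hyo
    obtain ⟨U, hU⟩ := ((CfsgLib.LocalEven.StronglyEmbedded.isPGroup_zpowers' hyo).of_equiv
      (Subgroup.subgroupOfEquivOfLe (Subgroup.zpowers_le.mpr hy)).symm).exists_le_sylow
    obtain ⟨k, rfl⟩ := MulAction.exists_smul_eq (Subgroup.normalizer (Z : Set G)) (P.subtype hPN) U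
    rw [Sylow.smul_subtype hPN] at hU
    have hyk : y ∈ (((k : G) • P : Sylow p G) : Subgroup G) :=
      Subgroup.mem_subgroupOf.mp (hU (x := ⟨y, hy⟩) (Subgroup.mem_zpowers y))
    obtain ⟨w, hw, hwy⟩ : y ∈ (P : Subgroup G).map (MulAut.conj (k : G)).toMonoidHom := hyk
    have hwo : orderOf w = p := by
      rw [← hyo, ← hwy, MulEquiv.coe_toMonoidHom, MulEquiv.orderOf_eq]
    rw [← hwy, ← MonoidHom.map_zpowers, huniq w hw hwo]
    exact Subgroup.mem_normalizer_iff_map_conj_eq.1 k.2
  obtain ⟨w, hw, hwx⟩ := x.2.2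
  have hwo : orderOf w = p := by
    rw [← hxp, ← Subgroup.orderOf_coe x, ← hwx]
    exact (MulEquiv.orderOf_eq (MulAut.conj g) w).symm
  rw [Subgroup.mem_normalizer_iff_map_conj_eq]
  conv_lhs => rw [← hN w hw hwo]
  refine (MonoidHom.map_zpowers _ w).trans ?_
  refine Eq.trans (congrArg Subgroup.zpowers hwx) ?_
  exact hN x x.2.1 (by rw [Subgroup.orderOf_coe, hxp])

/-- In a `p`-solvable group with a disconnected graph, Sylow subgroups have few elements of order `p`. -/
theorem few_of_disconnected {G : Type*} [Group G] [Finite G] {p : ℕ} [Fact p.Prime]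
    (hdiv : p ∣ Nat.card G) (hsol : Cfsg.IsPSolvable p G) (P : Sylow p G)
    (hdis : ¬ Cfsg.IsSylowChainConnected p G) :
    Nat.card {x : ↥(P : Subgroup G) // x ^ p = 1} ≤ p := by
  by_contra hmany
  push Not at hmany
  -- the elements moving `P` inside its component
  set K := Cfsg.pPrimeCore p G with hK
  obtain ⟨z, hzP, hz1, hzp, hzc⟩ : ∃ z ∈ (P : Subgroup G), z ≠ 1 ∧ z ^ p = 1 ∧
      ∀ y ∈ (P : Subgroup G), y * z = z * y := by
    have hne : ¬ (⊤ : Subgroup ↥(P : Subgroup G)) ≤ ⊥ := by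
      intro h
      have : Subsingleton ↥(P : Subgroup G) :=
        ⟨fun a b => ((h (Subgroup.mem_top a) : a ∈ (⊥ : Subgroup _)) : a = 1).trans
          ((h (Subgroup.mem_top b) : b ∈ (⊥ : Subgroup _)) : b = 1).symm⟩
      have hle : Nat.card {x : ↥(P : Subgroup G) // x ^ p = 1} ≤ 1 :=
        Finite.card_le_one_iff_subsingleton.2 inferInstance
      exact absurd (hmany.trans_le hle) (not_lt.2 (Fact.out : p.Prime).one_lt.le)
    obtain ⟨x, -, hx1, hxp, hxc⟩ :=
      CfsgLib.Fusion.NormalRankTwo.exists_central_of_lt P.isPGroup' (M := ⊥) (N := ⊤) hne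
    rw [Subgroup.mem_bot] at hx1 hxp
    exact ⟨x, x.2, fun e => hx1 (Subtype.ext e), congrArg Subtype.val hxp, fun y hy =>
      congrArg Subtype.val
        (commutatorElement_eq_one_iff_mul_comm.1 (Subgroup.mem_bot.1 (hxc ⟨y, hy⟩)))⟩
  obtain ⟨y, hyP, hyp, hyz⟩ : ∃ y ∈ (P : Subgroup G), y ^ p = 1 ∧ y ∉ Subgroup.zpowers z := by
    by_contra hc
    push Not at hc
    refine absurd ?_ (not_le.2 hmany)
    have hzo : orderOf z = p := orderOf_eq_prime hzp hz1
    calc Nat.card {x : ↥(P : Subgroup G) // x ^ p = 1} ≤ Nat.card (Subgroup.zpowers z) :=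
          Nat.card_le_card_of_injective
            (fun x => (⟨(x.1 : G), hc x.1 x.1.2 (congrArg Subtype.val x.2)⟩ : Subgroup.zpowers z))
            (fun a b hab => Subtype.ext (Subtype.ext (congrArg Subtype.val hab :)))
      _ = p := by rw [Nat.card_zpowers, hzo]
  set E := Subgroup.closure ({z, y} : Set G) with hE
  haveI hEc : IsMulCommutative E := by
    refine Subgroup.isMulCommutative_closure ?_
    rintro a (rfl | rfl) b (rfl | rfl)
    · rfl
    · exact (hzc b hyP).symm
    · exact hzc a hyP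
    · rfl
  have hEP : E ≤ (P : Subgroup G) := by
    rw [hE, Subgroup.closure_le]
    rintro a (rfl | rfl)
    · exact hzP
    · exact hyP
  have hnc : ¬ IsCyclic E := by
    intro h
    have hz' : z ∈ E := Subgroup.subset_closure (Or.inl rfl)
    have hy' : y ∈ E := Subgroup.subset_closure (Or.inr rfl)
    obtain ⟨k, hk⟩ := zpowers_eq_of_few (few_of_cyclic (p := p) h) (a := ⟨z, hz'⟩) (b := ⟨y, hy'⟩)
      (by rw [Subgroup.orderOf_mk]; exact orderOf_eq_prime hzp hz1) (Subtype.ext (by simpa using hyp))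
    exact hyz ⟨k, by simpa using congrArg Subtype.val hk⟩
  let M : Submonoid G :=
    { carrier := {g | Conn P (g • P)}
      one_mem' := by show Conn P ((1 : G) • P); rw [one_smul]
      mul_mem' := fun {a b} ha hb => by
        show Conn P ((a * b) • P)
        rw [mul_smul]
        exact Relation.ReflTransGen.trans ha (Conn.smul hb a) }
  let H : Subgroup G :=
    { M with
      inv_mem' := fun {a} ha => by
        rw [← zpow_neg_one]
        obtain ⟨n, hn⟩ : ∃ n : ℕ, a ^ (n : ℤ) = a ^ (-1 : ℤ) := by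
          refine ⟨orderOf a - 1, ?_⟩
          rw [zpow_natCast, zpow_neg_one, eq_inv_iff_mul_eq_one, ← pow_succ,
            Nat.sub_add_cancel (orderOf_pos a), pow_orderOf_eq_one]
        rw [← hn, zpow_natCast]
        exact pow_mem (show a ∈ M from ha) n }
  -- sharing a nontrivial element with a translate suffices
  have hshare : ∀ g : G, ∀ a ∈ (P : Subgroup G), a ≠ 1 → g⁻¹ * a * g ∈ (P : Subgroup G) → g ∈ H := by
    intro g a ha ha1 hga
    show Conn P (g • P)
    rcases eq_or_ne P (g • P) with e | e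
    · rw [← e]
    · refine Relation.ReflTransGen.single ⟨e, fun hb => ha1 (Subgroup.mem_bot.1 (hb ▸ ?_))⟩
      exact ⟨ha, g⁻¹ * a * g, hga, by simp [mul_assoc]⟩
  have hcop : (Nat.card E).Coprime (Nat.card K) := by
    obtain ⟨k, hk⟩ := (P.isPGroup'.to_le hEP).exists_card_eq
    rw [hk]
    exact ((CfsgLib.Solvable.Cores.coprime_card_pPrimeCore p).symm).pow_left k
  have hKH : K ≤ H := by
    rw [← CfsgLib.Coprime.iSup_centralizer_singleton (A := E) (K := K) hnc
      (Subgroup.normalizer_eq_top (H := K) ▸ le_top) hcop]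
    refine iSup₂_le fun a ha c hc => hshare c a (hEP ha.1) ha.2 ?_
    have := Subgroup.mem_centralizer_singleton_iff.1 (Subgroup.mem_inf.1 hc).2
    rw [mul_assoc, ← this, inv_mul_cancel_left]
    exact hEP ha.1
  have hKp : ¬ (P : Subgroup G) ≤ K := fun h => hz1 (orderOf_eq_one_iff.1
    (Nat.dvd_one.1 ((CfsgLib.Solvable.Cores.coprime_card_pPrimeCore (G := G) p).gcd_eq_one ▸
      Nat.dvd_gcd (Subgroup.orderOf_dvd_natCard _ (h hzP)) (orderOf_dvd_of_pow_eq_one hzp))))
  haveI : Nontrivial (G ⧸ K) := QuotientGroup.nontrivial_iff.2 fun e => hKp (e ▸ le_top)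
  set π := QuotientGroup.mk' K with hπ
  have hπs : Function.Surjective π := QuotientGroup.mk'_surjective K
  have hO := (CfsgLib.Fusion.PSolvable.pCore_or_pPrimeCore_ne_bot
    (CfsgLib.Fusion.PSolvable.psolvable_quotient hsol K)).resolve_right
    (fun h => h CfsgLib.Components.pPrimeCore_quotient_eq_bot)
  set L := (Cfsg.pCore p (G ⧸ K)).comap π with hL
  have hLP : L ≤ (P : Subgroup G) ⊔ K := by
    have h1 := Subgroup.comap_mono (f := π)
      (CfsgLib.Solvable.Cores.pCore_le_sylow (P.mapSurjective hπs))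
    rw [Sylow.coe_mapSurjective, Subgroup.comap_map_eq, hπ, QuotientGroup.ker_mk'] at h1
    exact h1
  set R := (P : Subgroup G) ⊓ L with hR
  have hR1 : R ≠ ⊥ := by
    intro e
    have h3 : L ≤ K := by
      intro l hl
      obtain ⟨u, hu, k, hk, rfl⟩ : ∃ u ∈ (P : Subgroup G), ∃ k ∈ K, u * k = l := by
        have h2 := hLP hl
        rw [← SetLike.mem_coe, Subgroup.mul_normal] at h2
        exact h2
      have huR : u ∈ R := by
        refine ⟨hu, ?_⟩
        have hkL : k ∈ L := by
          rw [hL, Subgroup.mem_comap, hπ, QuotientGroup.mk'_apply, (QuotientGroup.eq_one_iff k).2 hk]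
          exact one_mem _
        simpa using mul_mem hl (inv_mem hkL)
      rw [e, Subgroup.mem_bot] at huR
      rw [huR, one_mul]; exact hk
    refine hO (Subgroup.comap_injective hπs ?_)
    rw [MonoidHom.comap_bot, hπ, QuotientGroup.ker_mk', ← hπ, ← hL]
    exact le_antisymm h3 (fun k hk => by
      rw [hL, Subgroup.mem_comap, hπ, QuotientGroup.mk'_apply, (QuotientGroup.eq_one_iff k).2 hk]
      exact one_mem _)
  obtain ⟨Q, hQ⟩ := CfsgLib.NT.SylowCount.exists_sylow_inf P L
  have hfr : Subgroup.normalizer (R : Set G) ⊔ L = ⊤ := by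
    rw [hR, ← hQ]
    exact Sylow.normalizer_sup_eq_top Q
  obtain ⟨a, haR, ha1⟩ := R.bot_or_exists_ne_one.resolve_left hR1
  have hNH : Subgroup.normalizer (R : Set G) ≤ H := fun g hg => by
    exact hshare g a (Subgroup.mem_inf.1 haR).1 ha1
      (Subgroup.mem_inf.1 ((Subgroup.mem_normalizer_iff''.1 hg a).1 haR)).1
  have hPH : (P : Subgroup G) ≤ H := fun g hg =>
    hshare g z hzP hz1 (mul_mem (mul_mem (inv_mem hg) hzP) hg)
  have htop : H = ⊤ := eq_top_iff.2 (hfr ▸ sup_le hNH (hLP.trans (sup_le hPH hKH)))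
  refine hdis (connected_iff.2 fun A B => ?_)
  obtain ⟨g, rfl⟩ := MulAction.exists_smul_eq G P A
  obtain ⟨g', rfl⟩ := MulAction.exists_smul_eq G P B
  have h : Conn P ((g⁻¹ * g') • P) := (htop ▸ Subgroup.mem_top _ : g⁻¹ * g' ∈ H)
  have := Conn.smul h g
  rwa [smul_smul, mul_inv_cancel_left] at this

/-- Let p be a prime and G a finite p-solvable group of order divisible by p, with Sylow p-subgroup P. Then the Sylow p-subgroups of G fail to be chain-connected through nontrivial intersections (equivalently, G has a strongly p-embedded subgroup) if and only if O_p(G) = 1 and P is cyclic or, for p = 2, generalized quaternion. -/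
theorem result {G : Type*} [Group G] [Finite G]
    (p : ℕ) [Fact p.Prime] (hdiv : p ∣ Nat.card G) (hsol : Cfsg.IsPSolvable p G) (P : Sylow p G) :
    ¬ Cfsg.IsSylowChainConnected p G ↔
      Cfsg.pCore p G = ⊥ ∧ (IsCyclic ↥P ∨ (p = 2 ∧ ∃ n : ℕ, Nonempty (↥P ≃* QuaternionGroup (2 ^ n)))) := by
  constructor
  · intro hdis
    refine ⟨?_, CfsgLib.FrobRealize.Quaternion.cyclic_or_quaternion P.isPGroup'
      (few_of_disconnected hdiv hsol P hdis)⟩
    by_contra hne
    refine hdis (connected_iff.2 fun A B => ?_)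
    rcases eq_or_ne A B with rfl | e
    · exact Relation.ReflTransGen.refl
    · refine Relation.ReflTransGen.single ⟨e, fun h => hne (le_bot_iff.1 (h ▸ ?_))⟩
      exact le_inf (CfsgLib.Solvable.Cores.pCore_le_sylow A) (CfsgLib.Solvable.Cores.pCore_le_sylow B)
  · rintro ⟨hO, h⟩
    refine disconnected hdiv P hO ?_
    rcases h with h | ⟨rfl, n, ⟨e⟩⟩
    · exact few_of_cyclic h
    · exact few_of_quaternion e

end Cfsg.Agent.S3057
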