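import Cfsg.Statements.S3058
import Cfsg.Agent.Lib.LocalEvenB.SylowGraph
import Cfsg.Agent.Lib.Coprime.Generation
import Cfsg.Agent.Lib.Fusion.Basic

set_option autoImplicit false
open Cfsg

namespace Cfsg.Agent.S3058

/-- Let p be a prime and G a finite group whose Sylow p-subgroups are not chain-connected through nontrivial intersections (so G has a strongly p-embedded subgroup). If N and M are normal subgroups of G whose orders are both divisible by p, then the order of N ∩ M is divisible by p. Consequently, among the normal subgroups of G whose order is divisible by p there is a smallest one (the intersection of all of them). -/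
theorem result {G : Type*} [Group G] [Finite G]
    (p : ℕ) [Fact p.Prime] (hG : ¬ Cfsg.IsSylowChainConnected p G)
    (N M : Subgroup G) [N.Normal] [M.Normal] (hN : p ∣ Nat.card N) (hM : p ∣ Nat.card M) :
    p ∣ Nat.card ↥(N ⊓ M) := by
  obtain ⟨H, hH, hpH, hse⟩ := CfsgLib.LocalEvenB.SylowGraph.exists_spe_of_disconnected hG
  have hs := (CfsgLib.LocalEven.StronglyEmbedded.spe_iff_classical hH hpH).mpr hse
  obtain ⟨T, hT, hTne, -⟩ := CfsgLib.LocalEven.StronglyEmbedded.spe_basic hs
  by_contra hnd
  have hex : ∀ (X : Subgroup G) [X.Normal], p ∣ Nat.card X →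
      ∃ x ∈ (T : Subgroup G) ⊓ X, orderOf x = p := fun X _ hX =>
    CfsgLib.LocalEven.StronglyEmbedded.exists_order_p (T.2.to_le inf_le_left) fun hb =>
      (Fact.out : p.Prime).coprime_iff_not_dvd.mp
        (CfsgLib.Fusion.Basic.coprime_card_of_inf_sylow_eq_bot T X hb).symm hX
  obtain ⟨x, hx, hxp⟩ := hex N hN
  obtain ⟨y, hy, hyp⟩ := hex M hM
  set D := N ⊓ M
  have hD1 : (T : Subgroup G) ⊓ D = ⊥ := by
    by_contra hb
    obtain ⟨z, hz, hzp⟩ := CfsgLib.LocalEven.StronglyEmbedded.exists_order_p
      (T.2.to_le (inf_le_left : (T : Subgroup G) ⊓ D ≤ _)) hb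
    exact hnd (hzp ▸ Subgroup.orderOf_dvd_natCard _ hz.2)
  have hxy : Commute x y := by
    have hm : x * y * x⁻¹ * y⁻¹ ∈ (T : Subgroup G) ⊓ D :=
      Subgroup.mem_inf.mpr ⟨mul_mem (mul_mem (mul_mem hx.1 hy.1) (inv_mem hx.1)) (inv_mem hy.1), Subgroup.mem_inf.mpr ⟨by
        rw [show x * y * x⁻¹ * y⁻¹ = x * (y * x⁻¹ * y⁻¹) by group]
        exact mul_mem hx.2 ((inferInstance : N.Normal).conj_mem _ (inv_mem hx.2) y),
        mul_mem ((inferInstance : M.Normal).conj_mem _ hy.2 x) (inv_mem hy.2)⟩⟩
    rw [hD1, Subgroup.mem_bot] at hm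
    exact commutatorElement_eq_one_iff_commute.mp hm
  have hxy' : x ∉ Subgroup.zpowers y := fun hm => by
    have : x ∈ (T : Subgroup G) ⊓ D := ⟨hx.1, hx.2, Subgroup.zpowers_le.mpr hy.2 hm⟩
    rw [hD1, Subgroup.mem_bot] at this
    exact CfsgLib.LocalEven.StronglyEmbedded.ne_one_of_order_p hxp this
  set A := Subgroup.closure ({x, y} : Set G) with hA
  haveI : IsMulCommutative A := Subgroup.isMulCommutative_closure (by
    rintro a (rfl | rfl) b (rfl | rfl)
    · rfl
    · exact hxy.eq
    · exact hxy.symm.eq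
    · rfl)
  have hAT : A ≤ (T : Subgroup G) := (Subgroup.closure_le _).mpr (by
    rintro a (rfl | rfl)
    · exact hx.1
    · exact hy.1)
  have hnc : ¬ IsCyclic A := by
    intro hc
    haveI := hc
    have hxA : x ∈ A := Subgroup.subset_closure (Or.inl rfl)
    have hyA : y ∈ A := Subgroup.subset_closure (Or.inr rfl)
    have hexp : ∀ a ∈ A, a ^ p = 1 := by
      intro a ha
      induction ha using Subgroup.closure_induction with
      | mem a ha =>
        rcases ha with rfl | rfl
        · rw [← hxp, pow_orderOf_eq_one]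
        · rw [← hyp, pow_orderOf_eq_one]
      | one => exact one_pow p
      | mul a b ha hb iha ihb =>
        rw [(show Commute a b from congrArg Subtype.val (mul_comm' (⟨a, ha⟩ : A) ⟨b, hb⟩)).mul_pow,
          iha, ihb, one_mul]
      | inv a _ iha => rw [inv_pow, iha, inv_one]
    have hcard : Nat.card A ≤ p := by
      rw [← IsCyclic.exponent_eq_card]
      exact Nat.le_of_dvd (Fact.out : p.Prime).pos
        (Monoid.exponent_dvd_of_forall_pow_eq_one fun a => Subtype.ext (by simpa using hexp a a.2))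
    have he : Subgroup.zpowers y = A := Subgroup.eq_of_le_of_card_ge (Subgroup.zpowers_le.mpr hyA)
      (by rwa [Nat.card_zpowers, hyp])
    exact hxy' (he ▸ hxA)
  haveI : D.Normal := Subgroup.normal_inf_normal N M
  have hcop : (Nat.card A).Coprime (Nat.card D) := by
    obtain ⟨k, hk⟩ := (T.2.to_le hAT).exists_card_eq
    rw [hk]
    exact ((Fact.out : p.Prime).coprime_iff_not_dvd.mpr hnd).pow_left k
  have hgen := CfsgLib.Coprime.iSup_centralizer_singleton (A := A) (K := D) hnc
    (fun a _ => Subgroup.normalizer_eq_top (H := D) ▸ Subgroup.mem_top a) hcop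
  have hDH : D ≤ H := by
    rw [← hgen]
    refine iSup₂_le fun a ha c hc => ?_
    refine CfsgLib.LocalEven.StronglyEmbedded.spe_normalizer_le hs
      (Subgroup.zpowers_le.mpr (hT (hAT ha.1))) (T.2.to_le (Subgroup.zpowers_le.mpr (hAT ha.1)))
      (fun hb => ha.2 (Subgroup.zpowers_eq_bot.mp hb)) ?_
    refine Subgroup.centralizer_le_normalizer _ fun z hz => ?_
    obtain ⟨i, rfl⟩ := hz
    exact ((show Commute c a from Subgroup.mem_centralizer_singleton_iff.mp hc.2).zpow_right i).symm
  have hNH : N ≤ H := fun n hn => by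
    refine CfsgLib.LocalEven.StronglyEmbedded.spe_move hs (hT hy.1) hyp ?_
    have hd : n * y * n⁻¹ * y⁻¹ ∈ D :=
      Subgroup.mem_inf.mpr ⟨by
          rw [show n * y * n⁻¹ * y⁻¹ = n * (y * n⁻¹ * y⁻¹) by group]
          exact mul_mem hn ((inferInstance : N.Normal).conj_mem _ (inv_mem hn) y),
        mul_mem ((inferInstance : M.Normal).conj_mem _ hy.2 n) (inv_mem hy.2)⟩
    simpa using mul_mem (hDH hd) (hT hy.1)
  exact hH (eq_top_iff.mpr fun g _ =>
    CfsgLib.LocalEven.StronglyEmbedded.spe_move hs (hT hx.1) hxp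
      (hNH ((inferInstance : N.Normal).conj_mem x hx.2 g)))

end Cfsg.Agent.S3058
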