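import Cfsg.Statements.S3059
import Cfsg.Agent.Lib.LocalEvenB.SylowGraph
import Cfsg.Agent.Lib.Fusion.Basic

set_option autoImplicit false
open Cfsg

namespace Cfsg.Agent.S3059

/-- Let p be a prime and H a strongly p-embedded subgroup of the finite group G in the classical sense: H is proper, p divides the order of H, and H ∩ gHg⁻¹ has order prime to p for every g outside H. Then for every normal subgroup N of G of order divisible by p, G = H · O^p(N), where O^p(N) is the subgroup generated by the elements of N of order prime to p. -/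
theorem result {G : Type*} [Group G] [Finite G]
    (p : ℕ) [Fact p.Prime] (H : Subgroup G) (hH : H ≠ ⊤) (hpH : p ∣ Nat.card H)
    (hse : ∀ g : G, g ∉ H → ¬ p ∣ Nat.card ↥(H ⊓ H.map (MulAut.conj g).toMonoidHom))
    (N : Subgroup G) [N.Normal] (hN : p ∣ Nat.card N) :
    H ⊔ Subgroup.closure {g : G | g ∈ N ∧ (orderOf g).Coprime p} = ⊤ := by
  have hs := (CfsgLib.LocalEven.StronglyEmbedded.spe_iff_classical hH hpH).mpr hse
  obtain ⟨T, hT, -, -⟩ := CfsgLib.LocalEven.StronglyEmbedded.spe_basic hs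
  set S := {g : G | g ∈ N ∧ (orderOf g).Coprime p} with hSdef
  set L := Subgroup.closure S
  have hLN : L ≤ N := (Subgroup.closure_le N).mpr fun g hg => hg.1
  haveI : L.Normal := ⟨fun n hn g => by
    have hle : L.map (MulAut.conj g).toMonoidHom ≤ L := by
      rw [MonoidHom.map_closure, Subgroup.closure_le]
      rintro _ ⟨a, ⟨ha, hac⟩, rfl⟩
      exact Subgroup.subset_closure ⟨(inferInstance : N.Normal).conj_mem a ha g,
        by rw [MulEquiv.coe_toMonoidHom, MulEquiv.orderOf_eq]; exact hac⟩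
    exact hle ⟨n, hn, rfl⟩⟩
  set D := (T : Subgroup G) ⊓ N
  have hDne : D ≠ ⊥ := fun hb => by
    have := CfsgLib.Fusion.Basic.coprime_card_of_inf_sylow_eq_bot T N hb
    exact (Fact.out : p.Prime).coprime_iff_not_dvd.mp this.symm hN
  have hNle : N ≤ L ⊔ D := by
    rw [← Subgroup.relIndex_eq_one]
    have h1 : ¬ p ∣ (L ⊔ D).relIndex N := fun hd => CfsgLib.Fusion.Basic.not_dvd_relIndex_of_normal T N
      (hd.trans ⟨_, (Subgroup.relIndex_mul_relIndex D (L ⊔ D) N le_sup_right
        (sup_le hLN inf_le_right)).symm.trans (mul_comm _ _)⟩)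
    set L' := L.subgroupOf N
    have hq : IsPGroup p (N ⧸ L') := by
      intro q
      obtain ⟨n, rfl⟩ := QuotientGroup.mk_surjective q
      obtain ⟨k, hk⟩ := CfsgLib.Fusion.Basic.exists_pow_coprime (p := p) (n : G)
      refine ⟨k, ?_⟩
      rw [← QuotientGroup.mk_pow, QuotientGroup.eq_one_iff, Subgroup.mem_subgroupOf]
      exact Subgroup.subset_closure ⟨pow_mem n.2 _, hk⟩
    obtain ⟨k, hk⟩ := hq.exists_card_eq
    have h2 : (L ⊔ D).relIndex N ∣ p ^ k :=
      hk ▸ Subgroup.relIndex_dvd_of_le_left N (le_sup_left : L ≤ L ⊔ D)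
    obtain ⟨i, -, hi⟩ := (Nat.dvd_prime_pow Fact.out).mp h2
    rcases Nat.eq_zero_or_pos i with rfl | hi0
    · simpa using hi
    · exact absurd (hi ▸ dvd_pow_self p hi0.ne') h1
  rw [eq_top_iff]
  intro g _
  have hNH : N ≤ H ⊔ L := hNle.trans (sup_le le_sup_right (inf_le_left.trans (hT.trans le_sup_left)))
  set M := Subgroup.normalizer (D : Set G)
  have hMH : M ≤ H := CfsgLib.LocalEven.StronglyEmbedded.spe_normalizer_le hs
    (inf_le_left.trans hT) (T.2.to_le inf_le_left) hDne
  have htop : N ⊔ M = ⊤ := by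
    have h := Sylow.normalizer_sup_eq_top (((T.2.to_le (inf_le_left : D ≤ _)).of_equiv
      (Subgroup.subgroupOfEquivOfLe (inf_le_right : D ≤ N)).symm).toSylow
      (CfsgLib.Fusion.Basic.not_dvd_relIndex_of_normal T N))
    change Subgroup.normalizer (((D.subgroupOf N).map N.subtype : Subgroup G) : Set G) ⊔ N = ⊤ at h
    erw [Subgroup.subgroupOf_map_subtype, inf_of_le_left (inf_le_right : D ≤ N), sup_comm] at h
    exact h
  obtain ⟨n, hn, m, hm, rfl⟩ := Subgroup.mem_sup_of_normal_left.mp (htop ▸ Subgroup.mem_top g)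
  exact mul_mem (hNH hn) (le_sup_left (a := H) (hMH hm))

end Cfsg.Agent.S3059
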