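import Cfsg.Statements.S3063
import Cfsg.Agent.Lib.LocalEvenB.DStarThompson
import Cfsg.Agent.Lib.Fusion.Replacement

set_option autoImplicit false
open Cfsg

namespace Cfsg.Agent.S3063

/-- A weak replacement Theorem for metabelian p-groups: let S be a finite p-group whose derived subgroup is abelian and A an abelian subgroup of S of largest possible order. Then the normal closure of A in S contains an abelian subgroup B of the same order as A that is normal in S. -/
theorem result {S : Type*} [Group S] [Finite S] {p : ℕ} [Fact p.Prime]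
    (hS : IsPGroup p S) (hmeta : IsMulCommutative ↥(commutator S))
    (A : Subgroup S) (hA : A ∈ Cfsg.maxAbelianSubgroups S) :
    ∃ B ∈ Cfsg.maxAbelianSubgroups S, B.Normal ∧ B ≤ Subgroup.normalClosure (A : Set S) := by
  haveI : Group.IsNilpotent S := hS.isNilpotent
  set N := Subgroup.normalClosure (A : Set S) with hN
  set D := commutator S with hD
  obtain ⟨B, ⟨hB, hBN⟩, hmax⟩ := Set.exists_max_image
    {B : Subgroup S | B ∈ Cfsg.maxAbelianSubgroups S ∧ B ≤ N} (fun B => Nat.card ↥(B ⊓ D))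
    (Set.toFinite _) ⟨A, hA, Subgroup.le_normalClosure⟩
  refine ⟨B, hB, ?_, hBN⟩
  by_contra hnn
  have hlt : Subgroup.normalizer (B : Set S) < ⊤ :=
    lt_top_iff_ne_top.2 fun e => hnn (Subgroup.normalizer_eq_top_iff.1 e)
  obtain ⟨x, hxM, hxN⟩ := SetLike.exists_of_lt (Group.normalizerCondition_of_isNilpotent _ hlt)
  set B' := B.map (MulAut.conj x).toMonoidHom with hB'
  have hne : B' ≠ B := fun e => hxN (Subgroup.mem_normalizer_iff_map_conj_eq.2 e)
  have hB'M : B' ≤ Subgroup.normalizer (B : Set S) := by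
    rintro _ ⟨b, hb, rfl⟩
    exact (Subgroup.mem_normalizer_iff.1 hxM b).1 (Subgroup.le_normalizer hb)
  have hB'N : B' ≤ N := by
    rintro _ ⟨b, hb, rfl⟩
    exact Subgroup.normalClosure_normal.conj_mem b (hBN hb) x
  have hBN' : B ≤ Subgroup.normalizer (B' : Set S) := by
    intro b hb
    have h1 : x⁻¹ * b * x ∈ Subgroup.normalizer (B : Set S) :=
      (Subgroup.mem_normalizer_iff''.1 hxM b).1 (Subgroup.le_normalizer hb)
    rw [Subgroup.mem_normalizer_iff]
    intro z
    have h2 := Subgroup.mem_normalizer_iff.1 h1 (x⁻¹ * z * x)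
    rw [hB', CfsgLib.Fusion.Replacement.mem_map_conj_iff,
      CfsgLib.Fusion.Replacement.mem_map_conj_iff]
    simpa [mul_assoc] using h2
  set H := B ⊔ B' with hH
  have hHB : H ≤ Subgroup.normalizer (B : Set S) := sup_le Subgroup.le_normalizer hB'M
  have hHeq : (D ⊓ H) ⊔ B = H := by
    refine le_antisymm (sup_le inf_le_right le_sup_left) (sup_le le_sup_right ?_)
    rintro _ ⟨b, hb, rfl⟩
    have h1 : x * b * x⁻¹ * b⁻¹ ∈ D ⊓ H := Subgroup.mem_inf.2
      ⟨Subgroup.commutator_mem_commutator (Subgroup.mem_top x) (Subgroup.mem_top b),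
        mul_mem (Subgroup.mem_sup_right ⟨b, hb, rfl⟩) (inv_mem (Subgroup.mem_sup_left hb))⟩
    have := Subgroup.mul_mem_sup h1 hb
    simpa using this
  have hDc : D ≤ Subgroup.centralizer (D : Set S) :=
    CfsgLib.LocalEvenB.DStar.le_centralizer_self_of_comm hmeta
  have hBc : B ≤ Subgroup.centralizer (B : Set S) :=
    CfsgLib.LocalEvenB.DStar.le_centralizer_self_of_comm hB.1
  have hB'c : B' ≤ Subgroup.centralizer (B' : Set S) := by
    rintro _ ⟨y, hy, rfl⟩ _ ⟨z, hz, rfl⟩
    simp only [MulEquiv.coe_toMonoidHom, MulAut.conj_apply, conj_mul, hBc hy z hz]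
  have hI : B ⊓ B' ≤ Subgroup.centralizer (H : Set S) :=
    Subgroup.le_centralizer_iff.mp (sup_le
      (hBc.trans (Subgroup.centralizer_le inf_le_left))
      (hB'c.trans (Subgroup.centralizer_le inf_le_right)))
  set C := (D ⊓ H) ⊔ (B ⊓ B') with hC
  have hCab : IsMulCommutative C := CfsgLib.LocalEvenB.DStar.comm_of_le_centralizer_self
    (CfsgLib.LocalEvenB.DStarThompson.comm_sup
      (inf_le_left.trans (hDc.trans (Subgroup.centralizer_le inf_le_left)))
      ((inf_le_left.trans hBc).trans (Subgroup.centralizer_le inf_le_left))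
      (Subgroup.le_centralizer_iff.mp (hI.trans (Subgroup.centralizer_le inf_le_right))))
  have e1 := CfsgLib.Fusion.Thompson.card_sup_mul_card_inf (N := D ⊓ H) (K := B ⊓ B')
    ((hI.trans (Subgroup.centralizer_le inf_le_right)).trans (Subgroup.centralizer_le_normalizer _))
  have e2 := CfsgLib.Fusion.Thompson.card_sup_mul_card_inf (N := B') (K := B) hBN'
  have e3 := CfsgLib.Fusion.Thompson.card_sup_mul_card_inf (N := B) (K := D ⊓ H)
    (inf_le_right.trans hHB)
  rw [sup_comm B' B, ← hH, inf_comm B' B,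
    Subgroup.card_map_of_injective (MulAut.conj x).injective] at e2
  rw [sup_comm B (D ⊓ H), hHeq, show B ⊓ (D ⊓ H) = B ⊓ D by
    rw [← inf_assoc, inf_eq_left.mpr (inf_le_left.trans le_sup_left)]] at e3
  rw [← hC] at e1
  set i := Nat.card ↥((D ⊓ H) ⊓ (B ⊓ B'))
  have hipos : 0 < i := Nat.card_pos
  have hile : i ≤ Nat.card ↥(B ⊓ D) := Subgroup.card_le_of_le
    (le_inf (inf_le_right.trans inf_le_left) (inf_le_left.trans inf_le_left))
  have hHpos : 0 < Nat.card H := Nat.card_pos
  have key : Nat.card H * (Nat.card C * i) = Nat.card H * (Nat.card B * Nat.card ↥(B ⊓ D)) := by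
    calc Nat.card H * (Nat.card C * i)
        = Nat.card H * Nat.card ↥(B ⊓ B') * Nat.card ↥(D ⊓ H) := by rw [e1]; ring
      _ = Nat.card B * Nat.card B * Nat.card ↥(D ⊓ H) := by rw [e2]
      _ = Nat.card B * (Nat.card H * Nat.card ↥(B ⊓ D)) := by rw [e3]; ring
      _ = _ := by ring
  have key' := Nat.eq_of_mul_eq_mul_left hHpos key
  have hBC : Nat.card B ≤ Nat.card C := by
    refine Nat.le_of_mul_le_mul_right ?_ hipos
    rw [key']
    exact Nat.mul_le_mul_left _ hile
  have hcard : Nat.card B < Nat.card H := by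
    refine lt_of_le_of_ne (Subgroup.card_le_of_le le_sup_left) fun e => hne ?_
    have h1 := Subgroup.eq_of_le_of_card_ge (le_sup_left : B ≤ H) e.ge
    exact Subgroup.eq_of_le_of_card_ge (le_sup_right.trans h1.symm.le)
      (by rw [Subgroup.card_map_of_injective (MulAut.conj x).injective])
  have hlt' : Nat.card ↥(B ⊓ D) < Nat.card ↥(D ⊓ H) := by
    refine Nat.lt_of_mul_lt_mul_left (a := Nat.card B) ?_
    rw [← e3]
    exact Nat.mul_lt_mul_of_pos_right hcard Nat.card_pos
  refine absurd (hmax C ⟨⟨hCab, fun X hX => (hB.2 X hX).trans hBC⟩,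
    sup_le (inf_le_right.trans (sup_le hBN hB'N)) (inf_le_left.trans hBN)⟩) (not_le.2 ?_)
  exact hlt'.trans_le (Subgroup.card_le_of_le (le_inf le_sup_left inf_le_left))

end Cfsg.Agent.S3063
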