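import Cfsg.Statements.S3069
import Cfsg.Agent.Lib.KGroups.Functor.KInfControl
import Cfsg.Agent.Lib.KGroups.Functor.IndexP

set_option autoImplicit false
open Cfsg

namespace Cfsg.Agent.S3069

/-- Let p ≥ 7 be a prime and S a nontrivial Sylow p-subgroup of the finite group G. If N_G(S)/C_G(S) is a p-group (every element of N_G(S) of order prime to p centralizes S), then O^p(G) < G, i.e. G has a nontrivial p-factor group. -/
theorem result {G : Type*} [Group G] [Finite G] {p : ℕ} [Fact p.Prime]
    (hp : 7 ≤ p) (S : Sylow p G) (hS : (S : Subgroup G) ≠ ⊥)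
    (hN : ∀ g ∈ Subgroup.normalizer ((S : Subgroup G) : Set G), (orderOf g).Coprime p →
      g ∈ Subgroup.centralizer ((S : Subgroup G) : Set G)) :
    Cfsg.pResidual p G ≠ ⊤ := by
  open CfsgLib.KGroups in
  exact (by
  intro htop
  have hW := Functor.isCharPFunctor_kInfLower.{_} p
  have h := Functor.exists_index_p_sec hW
    (fun X _ _ _ => Functor.controlsTransfer_kInf_top (by omega) hW Functor.isKInf_lower) _ G rfl (Functor.sec_self G) S hS hN
  obtain ⟨N, hNn, hNi⟩ := Functor.exists_normal_index_of_not_le S h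
  have hle : Cfsg.pResidual p G ≤ N := by
    refine (Subgroup.closure_le _).mpr fun g hg => ?_
    have h1 : g ^ p ∈ N := hNi ▸ N.pow_index_mem g
    have h2 : (g : G ⧸ N) = 1 := by
      refine orderOf_eq_one_iff.mp (Nat.eq_one_of_dvd_coprimes (hg : (orderOf g).Coprime p)
        (orderOf_map_dvd (QuotientGroup.mk' N) g) (orderOf_dvd_of_pow_eq_one ?_))
      rw [← QuotientGroup.mk_pow]
      exact (QuotientGroup.eq_one_iff _).mpr h1
    exact (QuotientGroup.eq_one_iff _).mp h2
  rw [htop, top_le_iff] at hle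
  rw [hle, Subgroup.index_top] at hNi
  exact (Fact.out : p.Prime).one_lt.ne hNi)

end Cfsg.Agent.S3069
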