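import Cfsg.Statements.S3071
import Cfsg.Agent.Lib.LocalEvenB.ZJCentric
import Cfsg.Agent.Lib.Fusion.QuadSection

set_option autoImplicit false
open Cfsg

namespace Cfsg.Agent.S3071

/-- Let p be an odd prime and S a Sylow p-subgroup of the finite group G such that, for every subgroup P with Z(S) ≤ P ≤ S, the normalizer N_G(P) has no section isomorphic to SL₂(p). Let J(S) be the subgroup generated by the abelian subgroups of S of largest order. Then two elements of S are conjugate in G if and only if they are conjugate in N_G(Z(J(S))). -/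
theorem result {G : Type*} [Group G] [Finite G] {p : ℕ} [Fact p.Prime]
    (hp : p ≠ 2) (S : Sylow p G)
    (hfree : ∀ P : Subgroup G, (S : Subgroup G) ⊓ Subgroup.centralizer ((S : Subgroup G) : Set G) ≤ P → P ≤ S →
      ¬ ∃ (H K : Subgroup G) (hK : (K.subgroupOf H).Normal), H ≤ Subgroup.normalizer (P : Set G) ∧
        Nonempty ((H ⧸ K.subgroupOf H) ≃* Matrix.SpecialLinearGroup (Fin 2) (ZMod p))) :
    ∀ x ∈ S, ∀ y ∈ S, (∃ g : G, g * x * g⁻¹ = y) ↔
      ∃ n ∈ Subgroup.normalizer (Cfsg.centerThompsonAOf (S : Subgroup G) : Set G), n * x * n⁻¹ = y := by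
  intro x hx y hy
  refine ⟨fun ⟨g, hg⟩ => ?_, fun ⟨n, _, hn⟩ => ⟨n, hn⟩⟩
  set m := CfsgLib.LocalEvenB.ZJClosedStatements.expo S with hm
  have hexp : ∀ u ∈ (S : Subgroup G), u ^ m = 1 := fun u hu => by
    rw [hm, CfsgLib.LocalEvenB.ZJClosedStatements.expo, mul_comm, pow_mul,
      CfsgLib.Fusion.ZJBridge.sylow_pow_card S u hu, one_pow]
  have hctl := CfsgLib.LocalEvenB.ZJCentric.ctrl_of_qdFree_centric hp
    (CfsgLib.LocalEvenB.ZJClosedStatements.odd_expo hp S) (CfsgLib.LocalEvenB.ZJClosedStatements.dvd_expo S) S hexp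
    fun T hT hZT hq => ?_
  · rw [CfsgLib.LocalEvenB.ZJClosedStatements.centerThompsonAOf_eq S le_rfl]
    obtain ⟨n, hn, hag⟩ := hctl (Subgroup.zpowers x) g (Subgroup.zpowers_le.mpr hx) (by
      rw [MonoidHom.map_zpowers, Subgroup.zpowers_le]
      show g * x * g⁻¹ ∈ (S : Subgroup G)
      rw [hg]; exact hy)
    exact ⟨n, hn, (hag x (Subgroup.mem_zpowers x)).trans hg⟩
  · obtain ⟨L, f, hf⟩ := hq
    let φ : Matrix.SpecialLinearGroup (Fin 2) (ZMod p) →* ↥(Cfsg.qd p) :=
      MonoidHom.mk' (fun A => ⟨CfsgLib.Fusion.QdSections.aff A 0, CfsgLib.Fusion.QdSections.aff_mem A 0⟩)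
        fun A B => Subtype.ext (by
          show CfsgLib.Fusion.QdSections.aff (A * B) 0 = CfsgLib.Fusion.QdSections.aff A 0 * CfsgLib.Fusion.QdSections.aff B 0
          rw [CfsgLib.Fusion.QdSections.aff_mul, Matrix.mulVec_zero, add_zero])
    have hφ : Function.Injective φ := fun A B h => by
      have h1 := congrArg (fun M : ↥(Cfsg.qd p) => ((M : Matrix.SpecialLinearGroup (Fin 3) (ZMod p)) : Matrix (Fin 3) (Fin 3) (ZMod p))) h
      simp only [φ, MonoidHom.mk'_apply, CfsgLib.Fusion.QdSections.aff_val] at h1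
      apply Subtype.ext
      ext i j
      fin_cases i <;> fin_cases j
      · simpa using congrFun (congrFun h1 0) 0
      · simpa using congrFun (congrFun h1 0) 1
      · simpa using congrFun (congrFun h1 1) 0
      · simpa using congrFun (congrFun h1 1) 1
    set L₀ : Subgroup L := φ.range.comap f
    let g₀ : L₀ →* Matrix.SpecialLinearGroup (Fin 2) (ZMod p) :=
      (MonoidHom.ofInjective hφ).symm.toMonoidHom.comp (f.subgroupComap φ.range)
    have hg₀ : Function.Surjective g₀ :=
      (MonoidHom.ofInjective hφ).symm.surjective.comp (MonoidHom.subgroupComap_surjective_of_surjective f _ hf)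
    let e := L₀.equivMapOfInjective L.subtype L.subtype_injective
    obtain ⟨H, K, hK, hle, he⟩ := CfsgLib.Fusion.QuadSection.exists_section
      (L₀.map L.subtype) (g₀.comp e.symm.toMonoidHom) (hg₀.comp e.symm.surjective)
    exact hfree T hZT hT ⟨H, K, hK, hle, he⟩

end Cfsg.Agent.S3071
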