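import Cfsg.Statements.S3073
import Cfsg.Agent.Lib.KGroups.AxiomGT
import Cfsg.Agent.Lib.KGroups.Functor.KInfControl
import Cfsg.Agent.Lib.KGroups.Functor.NormalizerNpc
import Cfsg.Agent.Lib.KGroups.KInfinity
import Cfsg.Agent.Lib.FusionSystem.CenterFunctor
import Cfsg.Agent.Lib.Fusion.Alperin

set_option autoImplicit false
universe u
open Cfsg

namespace Cfsg.Agent.S3073

open CfsgLib CfsgLib.KGroups in
/-- `K_∞` detects `p`-groups among constrained groups. -/
theorem detects (p : ℕ) [Fact p.Prime] (hp : p ≠ 2) : ∀ (n : ℕ) (L : Type u) [Group L] [Finite L], Nat.card L = n →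
    ∀ T : Sylow p L, Subgroup.centralizer ((Cfsg.pCore p L : Subgroup L) : Set L) ≤ Cfsg.pCore p L →
      Subgroup.normalizer (Fsys.wOf (fun Q _ => Cfsg.kInfLower Q) (T : Subgroup L) : Set L) ≤ (T : Subgroup L) →
        (T : Subgroup L) = ⊤ := by
  classical
  have hW := Functor.isCharPFunctor_kInfLower.{u} p
  intro n
  induction n using Nat.strong_induction_on with
  | _ n ih =>
  intro L _ _ hn T hc hN
  by_contra hT
  set W := Fsys.wOf (fun Q _ => Cfsg.kInfLower Q) (T : Subgroup L) with hWdef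
  have hmax : ∀ X : Subgroup L, (T : Subgroup L) ≤ X → X ≠ ⊤ → X = (T : Subgroup L) := by
    intro X hTX hX
    have hcoe : ((T.subtype hTX : Sylow p ↥X) : Subgroup ↥X) = (T : Subgroup L).subgroupOf X := Sylow.coe_subtype ..
    have hlt : Nat.card ↥X < n := hn ▸ lt_of_le_of_ne (Subgroup.card_le_card_group X) fun e =>
      hX (Subgroup.eq_top_of_card_eq X e)
    have hmap := Fsys.wOf_map (W := fun Q _ => Cfsg.kInfLower Q) hW.2 X.subtype X.subtype_injective
      (T.subtype hTX : Subgroup ↥X) (T.subtype hTX).isPGroup'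
    rw [hcoe, Subgroup.map_subgroupOf_eq_of_le hTX] at hmap
    have htop := ih _ hlt ↥X rfl (T.subtype hTX) (AxiomGT.constrained_subgroup hc T hTX) (fun g hg => ?_)
    · rw [hcoe, Subgroup.subgroupOf_eq_top] at htop
      exact le_antisymm htop hTX
    · rw [hcoe]
      refine hN ?_
      rw [hcoe] at hg
      rw [hWdef, hmap]
      exact Subgroup.le_normalizer_map X.subtype ⟨g, hg, rfl⟩
  have hco : IsCoatom (T : Subgroup L) := ⟨hT, fun X hX => by
    by_contra h
    exact hX.ne' (hmax X hX.le h)⟩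
  have hnpc := AxiomGT.npc_quotient hp T hmax
  have hgood := Functor.AbelianResidual.good_of_coatom T hco hnpc
  by_cases hWn : W.Normal
  · exact hT (top_le_iff.1 (by rwa [Subgroup.normalizer_eq_top_iff.2 hWn] at hN))
  · obtain ⟨g, -, -, -, -, hex⟩ := Functor.Quartic.exists_quartic T (Or.inl hWn)
    obtain ⟨N', hN', hbad⟩ := hex hc
    exact hbad (Functor.AbelianResidual.stable hp (hgood.image _ (QuotientGroup.mk'_surjective N')))

/-- For an odd prime p, every finite p-group S has a characteristic subgroup K with C_S(K) ≤ K such that, whenever S is (isomorphic to) a Sylow p-subgroup of a finite group G, G has a normal p-complement if and only if N_G(K)/C_G(K) is a p-group, i.e. every element of N_G(K) of order prime to p centralizes K (K transported into G along the isomorphism). -/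
theorem result (p : ℕ) [Fact p.Prime] (hp : p ≠ 2)
    (S : Type u) [Group S] [Finite S] (hS : IsPGroup p S) :
    ∃ K : Subgroup S, K.Characteristic ∧ Subgroup.centralizer (K : Set S) ≤ K ∧
      ∀ (G : Type u) [Group G] [Finite G] (P : Sylow p G) (e : ↥(P : Subgroup G) ≃* S),
        Cfsg.HasNormalPComplement p G ↔
          ∀ g ∈ Subgroup.normalizer (((K.comap (e : ↥(P : Subgroup G) →* S)).map (P : Subgroup G).subtype : Subgroup G) : Set G),
            (orderOf g).Coprime p →
              g ∈ Subgroup.centralizer (((K.comap (e : ↥(P : Subgroup G) →* S)).map (P : Subgroup G).subtype : Subgroup G) : Set G) := by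
  open CfsgLib CfsgLib.KGroups in
  exact (by
  classical
  have hW := Functor.isCharPFunctor_kInfLower.{u} p
  refine ⟨Cfsg.kInfLower S, Subgroup.characteristic_iff_map_eq.mpr fun φ => hW.2 S S hS φ,
    KInfinity.centralizer_kInfLower_le hS, fun G _ _ P e => ?_⟩
  have hK : ((Cfsg.kInfLower S).comap (e : ↥(P : Subgroup G) →* S)).map (P : Subgroup G).subtype =
      Fsys.wOf (fun Q _ => Cfsg.kInfLower Q) (P : Subgroup G) := by
    show _ = (Cfsg.kInfLower ↥(P : Subgroup G)).map (P : Subgroup G).subtype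
    congr 1
    rw [← hW.2 _ _ P.2 e]
    exact Subgroup.comap_map_eq_self_of_injective (f := e.toMonoidHom) e.injective _
  rw [hK]
  set U := Fsys.wOf (fun Q _ => Cfsg.kInfLower Q) (P : Subgroup G) with hU
  have hUP : U ≤ (P : Subgroup G) := Fsys.wOf_le _
  constructor
  · intro hnpc g _ hgp
    exact Subgroup.mem_centralizer_iff.2 fun u hu => by
      exact Fusion.Alperin.centralizes_of_npc hnpc (P.2.to_le hUP) (by assumption) hgp u hu
  · intro hN
    have hPn : (P : Subgroup G) ≤ Subgroup.normalizer (U : Set G) := fun t ht =>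
      ((Fsys.normalizerIn_wOf (W := fun Q _ => Cfsg.kInfLower Q) hW.2 P.2).ge ht).2
    have hCU : (P : Subgroup G) ⊓ Subgroup.centralizer (U : Set G) ≤ U := fun x hx => ⟨⟨x, hx.1⟩,
      KInfinity.centralizer_kInfLower_le P.2 (Subgroup.mem_centralizer_iff.mpr fun w hw =>
        Subtype.ext (Subgroup.mem_centralizer_iff.mp hx.2 (w : G) ⟨w, hw, rfl⟩)), rfl⟩
    have hnpcN := Functor.npc_normalizer_of_centralizes P hPn hCU hN
    have hcop := Fusion.Basic.npc_iff_coprime.1 hnpcN
    set N := Subgroup.normalizer (U : Set G) with hNdef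
    haveI := Fusion.Basic.pResidual_normal (G := N) (p := p)
    have hloc : Fsys.LocPAut p (Cfsg.groupFusionSystem (P : Subgroup G)) U := by
      intro Q hQ hUQ α hα hαU
      obtain ⟨-, -, g, hg⟩ := Fsys.fn_group_iff.1 ((Fsys.mem_autGroup_iff_fn hQ).1 hα)
      have hgN : g ∈ N := by
        refine LocalEven.SylowIn.map_conj_eq_iff.1 ?_
        refine Eq.trans ?_ hαU
        rw [Fsys.img_congr (g := fun x => g * x * g⁻¹) (fun x hx => hg x (hUQ hx)), Fsys.img_conj]
      obtain ⟨k, hk⟩ := Fusion.Basic.exists_pow_coprime (p := p) g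
      refine ⟨k, Fsys.mulAut_ext fun x hx => ?_⟩
      have hpow : ∀ j : ℕ, ∀ x ∈ Q, Fsys.autFn (α ^ j) x = g ^ j * x * (g ^ j)⁻¹ := by
        intro j
        induction j with
        | zero => intro x hx; rw [pow_zero, Fsys.autFn_id hx]; simp
        | succ j ihj =>
          intro x hx
          rw [pow_succ' α, Fsys.autFn_mul _ _ hx, hg _ (Fsys.autFn_mem _ hx), ihj x hx, pow_succ']
          group
      rw [Fsys.autFn_id hx, hpow _ x hx]
      have hh : (⟨g, hgN⟩ : N) ^ p ^ k ∈ Cfsg.pResidual p N :=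
        Fusion.Basic.mem_pResidual_of_coprime (by rw [← Subgroup.orderOf_coe, SubgroupClass.coe_pow]; exact hk)
      have hxN : x ∈ N := hPn (hQ hx)
      have hinf := Fusion.Basic.inf_eq_bot_of_coprime
        ((P.2.to_le hQ).comap_of_injective N.subtype N.subtype_injective) hcop
      have hxO : (⟨g, hgN⟩ : N) ^ p ^ k * ⟨x, hxN⟩ * ((⟨g, hgN⟩ : N) ^ p ^ k)⁻¹ * (⟨x, hxN⟩ : N)⁻¹ ∈ Cfsg.pResidual p N := by
        have h1 := (inferInstance : (Cfsg.pResidual p N).Normal).conj_mem _ (inv_mem hh) ⟨x, hxN⟩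
        have h2 := mul_mem hh h1
        rwa [← mul_assoc, ← mul_assoc] at h2
      have hxQ : (⟨g, hgN⟩ : N) ^ p ^ k * ⟨x, hxN⟩ * ((⟨g, hgN⟩ : N) ^ p ^ k)⁻¹ * (⟨x, hxN⟩ : N)⁻¹ ∈ Q.comap N.subtype := by
        show g ^ p ^ k * x * (g ^ p ^ k)⁻¹ * x⁻¹ ∈ Q
        rw [← hpow _ x hx]
        exact Q.mul_mem (Fsys.autFn_mem _ hx) (Q.inv_mem hx)
      have h3 : (⟨g, hgN⟩ : N) ^ p ^ k * ⟨x, hxN⟩ * ((⟨g, hgN⟩ : N) ^ p ^ k)⁻¹ * (⟨x, hxN⟩ : N)⁻¹ ∈ (⊥ : Subgroup N) :=
        hinf.le ⟨hxQ, hxO⟩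
      exact mul_inv_eq_one.1 (congrArg Subtype.val (Subgroup.mem_bot.1 h3))
    have hpaut : Fsys.PAut p (Cfsg.groupFusionSystem (P : Subgroup G)) :=
      Fsys.pAut_of_wOf (W := fun Q _ => Cfsg.kInfLower Q) hW.1 hW.2
        (fun L _ _ T hc hT => detects p hp _ L rfl T hc hT) P.2 (Fsys.group_isSaturated P) hloc
    refine Fusion.Alperin.npc_of_frobenius P fun Q hQ g hg hgp x hx => ?_
    have hgQ : ∀ y ∈ Q, g * y * g⁻¹ ∈ Q := fun y hy => (Subgroup.mem_normalizer_iff.1 hg y).1 hy
    have hf : Fsys.Fn (Cfsg.groupFusionSystem (P : Subgroup G)) Q (fun y => g * y * g⁻¹) :=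
      Fsys.fn_group_conj hQ g fun y hy => hQ (hgQ y hy)
    obtain ⟨α, hα, hαe⟩ := Fsys.exists_aut_of_fn hf (hf.img_eq_self hgQ)
    have hpow : ∀ (j : ℕ) (y : ↥Q), ((α ^ j) y : G) = g ^ j * y * (g ^ j)⁻¹ := by
      intro j
      induction j with
      | zero => intro y; simp
      | succ j ihj =>
        intro y
        rw [pow_succ' α, MulAut.mul_apply, hαe, ihj, pow_succ']
        group
    obtain ⟨k, hk⟩ := hpaut Q hQ α hα
    have h1 : α ^ orderOf g = 1 := MulEquiv.ext fun y => Subtype.ext (by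
      rw [hpow, pow_orderOf_eq_one]; simp)
    have hα1 : α = 1 := orderOf_eq_one_iff.1 (Nat.eq_one_of_dvd_coprimes (hgp.pow_right k)
      (orderOf_dvd_of_pow_eq_one h1) (orderOf_dvd_of_pow_eq_one hk))
    have h2 := hpow 1 ⟨x, hx⟩
    rw [hα1, one_pow, pow_one] at h2
    exact eq_mul_inv_iff_mul_eq.1 h2)

end Cfsg.Agent.S3073
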