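import Cfsg.Statements.S3074
import Cfsg.Agent.Lib.LocalEvenB.OrderPCubed

set_option autoImplicit false
open Cfsg

namespace Cfsg.Agent.S3074

/-- Let p be an odd prime. A Sylow p-subgroup of Qd(p), the split extension of an elementary abelian group of order p² by SL₂(p) acting naturally, is extraspecial of order p³ and exponent p. -/
theorem result (p : ℕ) [Fact p.Prime] (hp : p ≠ 2) (P : Sylow p ↥(Cfsg.qd p)) :
    Cfsg.IsExtraspecial p ↥P ∧ Nat.card P = p ^ 3 ∧ Monoid.exponent ↥P = p := by
  classical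
  open CfsgLib.LocalEvenB.OrderPCubed in
  have key : Cfsg.IsExtraspecial p ↥P ∧ Nat.card P = p ^ 3 ∧ Monoid.exponent ↥P = p := by
    set U : Subgroup ↥(Cfsg.qd p) := (uni p).subgroupOf (Cfsg.qd p) with hUdef
    let e : U ≃* uni p := Subgroup.subgroupOfEquivOfLe uni_le_qd
    have hUc : Nat.card U = p ^ 3 := by rw [Nat.card_congr e.toEquiv]; exact uni_card
    have hUp : IsPGroup p U := IsPGroup.of_card hUc
    obtain ⟨Q, hQ⟩ := hUp.exists_le_sylow
    have hQc : Nat.card Q = p ^ 3 := by
      obtain ⟨k, hk⟩ := IsPGroup.iff_card.mp Q.isPGroup'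
      have h1 := Subgroup.card_dvd_of_le hQ
      rw [hUc, hk] at h1
      have h3 := (Nat.pow_dvd_pow_iff_le_right (Fact.out : p.Prime).one_lt).mp h1
      have h2 : k < 4 := by
        by_contra h4
        apply card_qd_not_dvd (p := p)
        exact (pow_dvd_pow p (not_lt.mp h4)).trans (hk ▸ Subgroup.card_subgroup_dvd_card (Q : Subgroup ↥(Cfsg.qd p)))
      rw [hk, show k = 3 by omega]
    have hQU : (Q : Subgroup ↥(Cfsg.qd p)) = U :=
      (Subgroup.eq_of_le_of_card_ge hQ (by rw [hQc, hUc])).symm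
    let e' : P ≃* uni p := ((P.equiv Q).trans (MulEquiv.subgroupCongr hQU)).trans e
    have hPc : Nat.card P = p ^ 3 := by rw [Nat.card_congr e'.toEquiv]; exact uni_card
    have hna : ∃ x y : P, x * y ≠ y * x := by
      obtain ⟨x, y, hxy⟩ := uni_nonabelian (p := p)
      refine ⟨e'.symm x, e'.symm y, fun h => hxy (e'.symm.injective ?_)⟩
      rw [map_mul, map_mul, h]
    have hpow : ∀ x : P, x ^ p = 1 := by
      intro x
      apply e'.injective
      rw [map_pow, map_one]
      exact uni_pow hp _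
    refine ⟨isExtraspecial hPc hna, hPc, ?_⟩
    rcases (Nat.dvd_prime (Fact.out : p.Prime)).mp (Monoid.exponent_dvd_of_forall_pow_eq_one hpow) with h | h
    · exfalso
      haveI := Monoid.exp_eq_one_iff.mp h
      obtain ⟨x, y, hxy⟩ := hna
      exact hxy (Subsingleton.elim _ _)
    · exact h
  exact key

end Cfsg.Agent.S3074
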