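import Cfsg.Statements.S3075
import Mathlib.FieldTheory.Finite.Basic
import Mathlib.LinearAlgebra.Matrix.SpecialLinearGroup
import Mathlib.GroupTheory.PGroup
import Mathlib.GroupTheory.Sylow

set_option autoImplicit false
open Cfsg

namespace Cfsg.Agent.S3075

/-- Let p be an odd prime and N a finite group with a normal elementary abelian subgroup A of order p² that is its own centralizer in N, such that N/A is isomorphic to SL₂(p) (over any field F with p elements). Then N splits over A: some subgroup U of N satisfies A ∩ U = 1 and AU = N. -/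
theorem result {N : Type*} [Group N] [Finite N] {p : ℕ} [Fact p.Prime] (hp : p ≠ 2)
    (A : Subgroup N) [A.Normal] (hAcomm : IsMulCommutative A) (hAcard : Nat.card A = p ^ 2) (hAexp : Monoid.exponent ↥A = p)
    (hAself : Subgroup.centralizer (A : Set N) = A)
    {F : Type*} [Field F] [Fintype F] (hF : Fintype.card F = p) (e : N ⧸ A ≃* Matrix.SpecialLinearGroup (Fin 2) F) :
    ∃ U : Subgroup N, A ⊓ U = ⊥ ∧ A ⊔ U = ⊤ := by
  classical
  have hp1 : p.Prime := Fact.out
  haveI : CharP F p := by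
    haveI := ringChar.charP F
    have : ringChar F = p := by
      obtain ⟨n, hr, hc⟩ := FiniteField.card F (ringChar F)
      rw [hF] at hc
      have hd : ringChar F ∣ p := hc ▸ dvd_pow_self _ n.ne_zero
      exact (Nat.prime_dvd_prime_iff_eq hr hp1).mp hd
    exact this ▸ ringChar.charP F
  have hneg : (-1 : F) ≠ 1 := by
    intro h
    have h2 : ((2 : ℕ) : F) = 0 := by push_cast; linear_combination -h
    rw [CharP.cast_eq_zero_iff F p] at h2
    exact hp ((Nat.prime_dvd_prime_iff_eq hp1 Nat.prime_two).mp h2)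
  -- -1 is a commutator
  obtain ⟨a0, b0, hab⟩ : ∃ a b : F, a ^ 2 + b ^ 2 = -1 := by
    obtain ⟨a, b, h⟩ := FiniteField.exists_root_sum_quadratic (R := F)
      (f := Polynomial.X ^ 2) (g := Polynomial.X ^ 2 + 1)
      (Polynomial.degree_X_pow 2)
      (by
        rw [show (1 : Polynomial F) = Polynomial.C 1 from (map_one Polynomial.C).symm]
        exact Polynomial.degree_X_pow_add_C (by norm_num) _)
      (by
        rw [hF]
        exact Nat.odd_iff.mp (hp1.odd_of_ne_two hp))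
    refine ⟨a, b, ?_⟩
    simp at h
    linear_combination h
  let W : Matrix.SpecialLinearGroup (Fin 2) F := ⟨!![0, 1; -1, 0], by simp [Matrix.det_fin_two]⟩
  let X : Matrix.SpecialLinearGroup (Fin 2) F := ⟨!![a0, b0; b0, -a0], by
    simp [Matrix.det_fin_two]; linear_combination -hab⟩
  let M1 : Matrix.SpecialLinearGroup (Fin 2) F := ⟨!![-1, 0; 0, -1], by simp [Matrix.det_fin_two]⟩
  have hXW : X * W = M1 * (W * X) := by
    apply Subtype.ext
    simp only [Matrix.SpecialLinearGroup.coe_mul]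
    ext i j
    fin_cases i <;> fin_cases j <;> simp [X, W, M1, Matrix.SpecialLinearGroup.coe_mul, Matrix.mul_apply, Fin.sum_univ_two]
  have hM1c : ∀ Y : Matrix.SpecialLinearGroup (Fin 2) F, M1 * Y = Y * M1 := by
    intro Y
    apply Subtype.ext
    simp only [Matrix.SpecialLinearGroup.coe_mul, Matrix.SpecialLinearGroup.coe_one]
    ext i j
    fin_cases i <;> fin_cases j <;> simp [M1, Matrix.SpecialLinearGroup.coe_mul, Matrix.mul_apply, Fin.sum_univ_two]
  have hM1ne : M1 ≠ 1 := by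
    intro h
    have := congrFun (congrFun (congrArg Subtype.val h) 0) 0
    exact hneg (by simpa [M1] using this)
  have hM1sq : M1 * M1 = 1 := by
    apply Subtype.ext
    simp only [Matrix.SpecialLinearGroup.coe_mul, Matrix.SpecialLinearGroup.coe_one]
    ext i j
    fin_cases i <;> fin_cases j <;> simp [M1, Matrix.SpecialLinearGroup.coe_mul, Matrix.mul_apply, Fin.sum_univ_two]
  -- an involution over M1
  set q : N →* Matrix.SpecialLinearGroup (Fin 2) F := e.toMonoidHom.comp (QuotientGroup.mk' A) with hq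
  have hqsur : Function.Surjective q := e.surjective.comp (QuotientGroup.mk'_surjective A)
  have hqker : ∀ n : N, q n = 1 ↔ n ∈ A := by
    intro n
    rw [← QuotientGroup.eq_one_iff n]
    exact map_eq_one_iff e e.injective
  have hAp : ∀ a ∈ A, a ^ p = 1 := fun a ha =>
    congrArg Subtype.val (hAexp ▸ Monoid.pow_exponent_eq_one (⟨a, ha⟩ : A))
  have hAcm : ∀ a ∈ A, ∀ b ∈ A, a * b = b * a := fun a ha b hb =>
    congrArg Subtype.val (hAcomm.is_comm.comm (⟨a, ha⟩ : A) ⟨b, hb⟩)
  obtain ⟨s0, hs0⟩ := hqsur M1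
  obtain ⟨s, hs1, hs⟩ : ∃ s : N, s * s = 1 ∧ q s = M1 := by
    refine ⟨s0 ^ p, ?_, ?_⟩
    · have h2 : s0 * s0 ∈ A := (hqker _).mp (by rw [map_mul, hs0, hM1sq])
      rw [← pow_add, ← two_mul, pow_mul, sq]
      exact hAp _ h2
    · obtain ⟨k, hk⟩ := hp1.odd_of_ne_two hp
      rw [map_pow, hs0, hk, pow_succ, pow_mul, sq, hM1sq, one_pow, one_mul]
  have hsA : s ∉ A := fun h => hM1ne (hs ▸ (hqker s).mpr h)
  have hnorm : ∀ n : N, ∀ a ∈ A, n * a * n⁻¹ ∈ A := fun n a ha => ‹A.Normal›.conj_mem a ha n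
  have hcent : ∀ n : N, n * s * n⁻¹ * s⁻¹ ∈ A := by
    intro n
    rw [← hqker, map_mul, map_mul, map_mul, map_inv, map_inv, hs, ← hM1c, mul_inv_cancel_right, mul_inv_cancel]
  -- fixed points of s on A
  set L := A ⊓ Subgroup.centralizer ({s} : Set N) with hLdef
  have hLinv : ∀ n : N, ∀ a ∈ L, n * a * n⁻¹ ∈ L := by
    intro n a ha
    rw [hLdef, Subgroup.mem_inf, Subgroup.mem_centralizer_singleton_iff] at ha ⊢
    refine ⟨hnorm n a ha.1, ?_⟩
    set c := n * s * n⁻¹ * s⁻¹ with hc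
    have h1 : s = c⁻¹ * (n * s * n⁻¹) := by rw [hc]; group
    have h2 : (n * a * n⁻¹) * c⁻¹ = c⁻¹ * (n * a * n⁻¹) := hAcm _ (hnorm n a ha.1) _ (inv_mem (hcent n))
    calc n * a * n⁻¹ * s = (n * a * n⁻¹) * c⁻¹ * (n * s * n⁻¹) := by rw [mul_assoc _ c⁻¹, ← h1]
      _ = c⁻¹ * (n * a * n⁻¹) * (n * s * n⁻¹) := by rw [h2]
      _ = c⁻¹ * (n * (a * s) * n⁻¹) := by group
      _ = c⁻¹ * (n * (s * a) * n⁻¹) := by rw [ha.2]
      _ = (c⁻¹ * (n * s * n⁻¹)) * (n * a * n⁻¹) := by group
      _ = s * (n * a * n⁻¹) := by rw [← h1]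
  have hLA : L ≤ A := inf_le_left
  have hAcent : ∀ x : N, (∀ a ∈ A, x * a = a * x) → x ∈ A := by
    intro x hx
    have : x ∈ Subgroup.centralizer (A : Set N) := Subgroup.mem_centralizer_iff.mpr fun a ha => (hx a ha).symm
    rwa [hAself] at this
  have hsinv : s⁻¹ = s := inv_eq_of_mul_eq_one_right hs1
  have hLbot : L = ⊥ := by
    by_contra hne
    obtain ⟨k, -, hk⟩ := (Nat.dvd_prime_pow hp1).mp (hAcard ▸ Subgroup.card_dvd_of_le hLA)
    have hk1 : k ≠ 0 := fun h => hne (Subgroup.card_eq_one.mp (by rw [hk, h, pow_zero]))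
    by_cases hk2 : 2 ≤ k
    · have hAL : A = L := (Subgroup.eq_of_le_of_card_ge hLA (by
        rw [hk, hAcard]; exact Nat.pow_le_pow_right hp1.pos hk2)).symm
      apply hsA
      apply hAcent
      intro a ha
      rw [hAL, hLdef, Subgroup.mem_inf, Subgroup.mem_centralizer_singleton_iff] at ha
      exact ha.2.symm
    have hk' : k = 1 := by omega
    rw [hk', pow_one] at hk
    haveI : L.Normal := ⟨fun a ha n => hLinv n a ha⟩
    haveI : Fact (Nat.card L).Prime := ⟨hk ▸ hp1⟩
    haveI := Fintype.ofFinite N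
    set π := QuotientGroup.mk' L with hπ
    set A' := A.map π with hA'
    haveI : A'.Normal := Subgroup.Normal.map inferInstance _ (QuotientGroup.mk'_surjective L)
    have hA'card : Nat.card A' = p := by
      have h1 := Subgroup.card_eq_card_quotient_mul_card_subgroup (L.subgroupOf A)
      rw [Nat.card_congr (Subgroup.subgroupOfEquivOfLe hLA).toEquiv, hk, hAcard] at h1
      have h2 : A' = (π.comp A.subtype).range := by rw [MonoidHom.range_comp, Subgroup.range_subtype]
      rw [h2, ← Nat.card_congr (QuotientGroup.quotientKerEquivRange (π.comp A.subtype)).toEquiv]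
      have h3 : (π.comp A.subtype).ker = L.subgroupOf A := by
        rw [← MonoidHom.comap_ker, QuotientGroup.ker_mk']; rfl
      rw [h3]
      exact Nat.eq_of_mul_eq_mul_right hp1.pos (by rw [← h1]; ring)
    haveI : IsCyclic A' := isCyclic_of_prime_card hA'card
    -- conjugations on a cyclic group commute
    have hcomm : ∀ g h : N ⧸ L, ∀ b ∈ A', g * (h * b * h⁻¹) * g⁻¹ = h * (g * b * g⁻¹) * h⁻¹ := by
      intro g h b hb
      obtain ⟨x, hx⟩ := IsCyclic.exists_generator (α := A')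
      have key : ∀ g : N ⧸ L, ∃ m : ℤ, ∀ b ∈ A', g * b * g⁻¹ = b ^ m := by
        intro g
        obtain ⟨m, hm⟩ := Subgroup.mem_zpowers_iff.mp
          (hx ⟨g * (x : N ⧸ L) * g⁻¹, ‹A'.Normal›.conj_mem _ x.2 g⟩)
        refine ⟨m, fun b hb => ?_⟩
        obtain ⟨i, hi⟩ := Subgroup.mem_zpowers_iff.mp (hx ⟨b, hb⟩)
        have hi' : (x : N ⧸ L) ^ i = b := congrArg Subtype.val hi
        have hm' : (x : N ⧸ L) ^ m = g * (x : N ⧸ L) * g⁻¹ := congrArg Subtype.val hm
        rw [← hi', ← conj_zpow, ← hm', ← zpow_mul, ← zpow_mul, mul_comm]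
      obtain ⟨m, hm⟩ := key g
      obtain ⟨n, hn⟩ := key h
      rw [hn b hb, hm b hb, hm _ (zpow_mem hb n), hn _ (zpow_mem hb m), ← zpow_mul, ← zpow_mul, mul_comm]
    obtain ⟨x0, hx0⟩ := hqsur X
    obtain ⟨w0, hw0⟩ := hqsur W
    have hsc : s⁻¹ * (x0 * w0 * (w0 * x0)⁻¹) ∈ A := by
      rw [← hqker, map_mul, map_inv, map_mul, map_mul, map_inv, map_mul, hs, hx0, hw0, hXW,
        mul_inv_cancel_right, inv_mul_cancel]
    have htriv : ∀ b ∈ A', π s * b * (π s)⁻¹ = b := by
      intro b hb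
      set d := s⁻¹ * (x0 * w0 * (w0 * x0)⁻¹) with hd
      have hsd : s = x0 * w0 * (w0 * x0)⁻¹ * d⁻¹ := by rw [hd]; group
      have hdb : π d⁻¹ * b * (π d⁻¹)⁻¹ = b := by
        obtain ⟨a, ha, rfl⟩ := hb
        rw [← map_mul, hAcm _ (inv_mem hsc) a ha, map_mul, mul_inv_cancel_right]
      calc π s * b * (π s)⁻¹
          = (π x0 * π w0 * (π w0 * π x0)⁻¹) * (π d⁻¹ * b * (π d⁻¹)⁻¹) * (π x0 * π w0 * (π w0 * π x0)⁻¹)⁻¹ := by
            rw [hsd]; simp only [map_mul, map_inv]; group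
        _ = π x0 * (π w0 * ((π x0)⁻¹ * ((π w0)⁻¹ * b * π w0) * π x0) * (π w0)⁻¹) * (π x0)⁻¹ := by
            rw [hdb]; group
        _ = b := by
            have hb2 : (π x0)⁻¹ * ((π w0)⁻¹ * b * π w0) * π x0 = (π w0)⁻¹ * ((π x0)⁻¹ * b * π x0) * π w0 := by
              simpa using hcomm (π x0)⁻¹ (π w0)⁻¹ b hb
            rw [hb2]; group
    apply hsA
    apply hAcent
    intro a ha
    have h1 : s * a * s⁻¹ * a⁻¹ ∈ L := by
      rw [← QuotientGroup.eq_one_iff]
      show π (s * a * s⁻¹ * a⁻¹) = 1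
      rw [map_mul, map_mul, map_mul, map_inv, map_inv, htriv _ ⟨a, ha, rfl⟩, mul_inv_cancel]
    set l := s * a * s⁻¹ * a⁻¹ with hl
    have hls : l * s = s * l := Subgroup.mem_centralizer_singleton_iff.mp (Subgroup.mem_inf.mp h1).2
    have h2 : s * a = l * a * s := by rw [hl]; group
    have h3 : l * l * a = a := by
      have hsls : s * l * s⁻¹ = l := by rw [← hls]; group
      calc l * l * a = (s * l * s⁻¹) * (l * a) := by rw [hsls, mul_assoc]
        _ = (s * l * s⁻¹) * (s * a * s⁻¹) := by rw [h2]; group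
        _ = s * (l * a * s) * s⁻¹ * s⁻¹ := by group
        _ = (s * s) * a * (s⁻¹ * s⁻¹) := by rw [← h2]; group
        _ = a := by rw [hsinv, hs1]; simp
    have h4 : l = 1 := by
      have h5 : l ^ 2 = 1 := by
        have := mul_eq_right.mp h3
        rwa [sq]
      exact orderOf_eq_one_iff.mp (Nat.eq_one_of_dvd_coprimes ((Nat.coprime_primes hp1 Nat.prime_two).mpr hp)
        (orderOf_dvd_of_pow_eq_one (hAp l (hLA h1))) (orderOf_dvd_of_pow_eq_one h5))
    rw [h2, h4, one_mul]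
  have hinv : ∀ a ∈ A, s * a * s⁻¹ = a⁻¹ := by
    intro a ha
    have h1 : s * a * s⁻¹ * a ∈ L := by
      rw [hLdef, Subgroup.mem_inf, Subgroup.mem_centralizer_singleton_iff]
      refine ⟨mul_mem (hnorm s a ha) ha, ?_⟩
      have h2 := hAcm _ (hnorm s a ha) a ha
      calc s * a * s⁻¹ * a * s = s * a * s * a * s := by rw [hsinv]
        _ = s * (a * (s * a * s⁻¹)) := by rw [hsinv]; group
        _ = s * (s * a * s⁻¹ * a) := by rw [h2]
    rw [hLbot, Subgroup.mem_bot] at h1
    exact eq_inv_of_mul_eq_one_left h1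
  refine ⟨Subgroup.centralizer ({s} : Set N), ?_, ?_⟩
  · exact hLbot
  · rw [eq_top_iff]
    intro n _
    set c := n * s * n⁻¹ * s⁻¹ with hc
    obtain ⟨b, hb, hbc⟩ : ∃ b ∈ A, b * b = c := by
      refine ⟨c ^ ((p + 1) / 2), pow_mem (hcent n) _, ?_⟩
      obtain ⟨k, hk⟩ := hp1.odd_of_ne_two hp
      rw [← pow_add, show (p + 1) / 2 + (p + 1) / 2 = p + 1 by omega, pow_succ, hAp c (hcent n), one_mul]
    have h1 : b⁻¹ * n ∈ Subgroup.centralizer ({s} : Set N) := by
      rw [Subgroup.mem_centralizer_singleton_iff]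
      have h2 : s * b⁻¹ = b * s := by
        have := hinv b⁻¹ (inv_mem hb)
        rw [inv_inv] at this
        calc s * b⁻¹ = s * b⁻¹ * s⁻¹ * s := by group
          _ = b * s := by rw [this]
      calc b⁻¹ * n * s = b⁻¹ * c * s * n := by rw [hc]; group
        _ = b⁻¹ * (b * b) * s * n := by rw [hbc]
        _ = (b * s) * n := by group
        _ = s * (b⁻¹ * n) := by rw [← h2, mul_assoc]
    have := mul_mem (Subgroup.mem_sup_left hb : b ∈ A ⊔ Subgroup.centralizer ({s} : Set N)) (Subgroup.mem_sup_right h1)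
    simpa using this

end Cfsg.Agent.S3075
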