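import Cfsg.Statements.S3076
import Cfsg.Agent.Lib.Solvable.Cores
import Mathlib.GroupTheory.Transfer

set_option autoImplicit false
open Cfsg

namespace Cfsg.Agent.S3076

/-- Let P be a Sylow p-subgroup of the finite group G and H ≤ P a subgroup with N_P(H) a Sylow p-subgroup of N_G(H). Let N be the preimage in N_G(H) of O_p(N_G(H)/C_G(H)). Then H is a Sylow p-subgroup of N if and only if C_P(H) ≤ H and O_{p',p}(N_G(H)) = H·C_G(H). -/
theorem result {G : Type*} [Group G] [Finite G] {p : ℕ} [Fact p.Prime]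
    (P : Sylow p G) (H : Subgroup G) (hHP : H ≤ (P : Subgroup G))
    (hSyl : ¬ p ∣ ((P : Subgroup G) ⊓ Subgroup.normalizer (H : Set G)).relIndex (Subgroup.normalizer (H : Set G)))
    [hC : ((Subgroup.centralizer (H : Set G)).subgroupOf (Subgroup.normalizer (H : Set G))).Normal] :
    (H ≤ ((Cfsg.pCore p (↥(Subgroup.normalizer (H : Set G)) ⧸
              (Subgroup.centralizer (H : Set G)).subgroupOf (Subgroup.normalizer (H : Set G)))).comap
            (QuotientGroup.mk' _)).map (Subgroup.normalizer (H : Set G)).subtype ∧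
      ¬ p ∣ H.relIndex (((Cfsg.pCore p (↥(Subgroup.normalizer (H : Set G)) ⧸
              (Subgroup.centralizer (H : Set G)).subgroupOf (Subgroup.normalizer (H : Set G)))).comap
            (QuotientGroup.mk' _)).map (Subgroup.normalizer (H : Set G)).subtype)) ↔
    ((P : Subgroup G) ⊓ Subgroup.centralizer (H : Set G) ≤ H ∧
      (Cfsg.pPrimePCore p ↥(Subgroup.normalizer (H : Set G))).map (Subgroup.normalizer (H : Set G)).subtype =
        H ⊔ Subgroup.centralizer (H : Set G)) := by
  classical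
  set K := Subgroup.normalizer (H : Set G) with hK
  set C := (Subgroup.centralizer (H : Set G)).subgroupOf K with hCdef
  set N := (Cfsg.pCore p (↥K ⧸ C)).comap (QuotientGroup.mk' C) with hNdef
  set O := Cfsg.pPrimeCore p ↥K with hOdef
  set H' := H.subgroupOf K with hH'
  have hHK : H ≤ K := Subgroup.le_normalizer
  have hCK : Subgroup.centralizer (H : Set G) ≤ K := Subgroup.centralizer_le_normalizer _
  have hmapH : H'.map K.subtype = H := by
    rw [hH', Subgroup.map_subgroupOf_eq_of_le hHK]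
  have hmapC : C.map K.subtype = Subgroup.centralizer (H : Set G) := by
    rw [hCdef, Subgroup.map_subgroupOf_eq_of_le hCK]
  haveI hH'n : H'.Normal := Subgroup.normal_in_normalizer
  haveI : O.Normal := inferInstance
  have hp1 : p.Prime := Fact.out
  set PC := (P : Subgroup G) ⊓ Subgroup.centralizer (H : Set G) with hPC
  set PK := ((P : Subgroup G) ⊓ K).subgroupOf K with hPK
  have hPKp : IsPGroup p PK :=
    (P.isPGroup'.to_le inf_le_left).of_equiv (Subgroup.subgroupOfEquivOfLe inf_le_right).symm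
  let S : Sylow p ↥K := hPKp.toSylow hSyl
  have hH'p : IsPGroup p H' :=
    (P.isPGroup'.to_le hHP).of_equiv (Subgroup.subgroupOfEquivOfLe hHK).symm
  have hH'N : H' ≤ N := by
    intro h hh
    show QuotientGroup.mk' C h ∈ Cfsg.pCore p (↥K ⧸ C)
    haveI : (H'.map (QuotientGroup.mk' C)).Normal :=
      Subgroup.Normal.map inferInstance _ (QuotientGroup.mk'_surjective C)
    exact CfsgLib.Solvable.Cores.le_pCore (hH'p.map _) ⟨h, hh, rfl⟩
  have hCN : C ≤ N := by
    intro c hc
    show QuotientGroup.mk' C c ∈ Cfsg.pCore p (↥K ⧸ C)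
    rw [show QuotientGroup.mk' C c = 1 from (QuotientGroup.eq_one_iff c).mpr hc]
    exact one_mem _
  have hN0 : H ≤ N.map K.subtype := hmapH ▸ Subgroup.map_mono hH'N
  -- O centralizes H
  have hOC : O ≤ C := by
    intro o ho
    rw [hCdef, Subgroup.mem_subgroupOf, Subgroup.mem_centralizer_iff]
    intro h hh
    have hd : H' ⊓ O = ⊥ := by
      apply Subgroup.inf_eq_bot_of_coprime
      obtain ⟨n, hn⟩ := IsPGroup.iff_card.mp hH'p
      rw [hn]
      exact (CfsgLib.Solvable.Cores.coprime_card_pPrimeCore (G := ↥K) p).symm.pow_left n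
    have := Subgroup.commute_of_normal_of_disjoint H' O inferInstance inferInstance
      (disjoint_iff.mpr hd) ⟨h, hHK hh⟩ o (by rw [hH', Subgroup.mem_subgroupOf]; exact hh) ho
    exact congrArg Subtype.val this
  -- structure of C, given C_P(H) ≤ H
  have key : PC ≤ H → ¬ p ∣ (H'.subgroupOf C).index ∧ C ≤ H' ⊔ O := by
    intro hPCH
    set SC := PK.subgroupOf C with hSC
    have hSCidx : ¬ p ∣ SC.index := by
      intro hd
      have h1 : (PK.subgroupOf C).index = PK.relIndex C := rfl
      rw [h1] at hd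
      have e : C.relIndex PK * PK.relIndex (PK ⊔ C) = C.relIndex PK * PK.relIndex C := by
        calc C.relIndex PK * PK.relIndex (PK ⊔ C)
            = (PK ⊓ C).relIndex PK * PK.relIndex (PK ⊔ C) := by rw [Subgroup.inf_relIndex_left]
          _ = (PK ⊓ C).relIndex (PK ⊔ C) := Subgroup.relIndex_mul_relIndex _ _ _ inf_le_left le_sup_left
          _ = (PK ⊓ C).relIndex C * C.relIndex (PK ⊔ C) :=
              (Subgroup.relIndex_mul_relIndex _ _ _ inf_le_right le_sup_right).symm
          _ = C.relIndex PK * PK.relIndex C := by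
              rw [Subgroup.inf_relIndex_right, Subgroup.relIndex_sup_right, mul_comm]
      have hne : C.relIndex PK ≠ 0 := Subgroup.index_ne_zero_of_finite
      rw [← Nat.eq_of_mul_eq_mul_left (Nat.pos_of_ne_zero hne) e] at hd
      exact hSyl (hd.trans (Subgroup.relIndex_dvd_index_of_le le_sup_left))
    have hSCp : IsPGroup p SC := hPKp.comap_subtype
    have hSCeq : SC = H'.subgroupOf C := by
      ext ⟨x, hx⟩
      simp only [hSC, hPK, hH', Subgroup.mem_subgroupOf]
      constructor
      · intro h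
        refine hPCH (Subgroup.mem_inf.mpr ⟨(Subgroup.mem_inf.mp h).1, ?_⟩)
        exact hx
      · intro h
        exact Subgroup.mem_inf.mpr ⟨hHP h, x.2⟩
    refine ⟨hSCeq ▸ hSCidx, ?_⟩
    let T : Sylow p C := hSCp.toSylow hSCidx
    have hT : Subgroup.normalizer ((T : Subgroup C) : Set C) ≤ Subgroup.centralizer ((T : Subgroup C) : Set C) := by
      intro x _
      rw [Subgroup.mem_centralizer_iff]
      intro t ht
      have htH : ((t : ↥K) : G) ∈ H := by
        have ht' : t ∈ SC := ht
        rw [hSCeq, Subgroup.mem_subgroupOf, hH', Subgroup.mem_subgroupOf] at ht'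
        exact ht'
      have hxC : ((x : ↥K) : G) ∈ Subgroup.centralizer (H : Set G) := x.2
      exact Subtype.ext (Subtype.ext (Subgroup.mem_centralizer_iff.mp hxC _ htH))
    have hker := MonoidHom.ker_transferSylow_isComplement' T hT
    set L := (MonoidHom.transferSylow T hT).ker with hL
    have hLcop : (Nat.card L).Coprime p := by
      rw [Nat.coprime_comm, hp1.coprime_iff_not_dvd]
      exact MonoidHom.not_dvd_card_ker_transferSylow T hT
    have hLchar : ∀ φ : C ≃* C, ∀ l ∈ L, φ l ∈ L := by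
      intro φ l hl
      rw [hL, MonoidHom.mem_ker] at hl ⊢
      have hd : orderOf (φ l) ∣ Nat.card L := by
        rw [show orderOf (φ l) = orderOf l from orderOf_injective φ.toMonoidHom φ.injective l]
        exact L.orderOf_dvd_natCard hl
      have hd1 : orderOf (MonoidHom.transferSylow T hT (φ l)) ∣ Nat.card L :=
        (orderOf_map_dvd _ _).trans hd
      obtain ⟨n, hn⟩ := IsPGroup.iff_card.mp T.isPGroup'
      have hd2 : orderOf (MonoidHom.transferSylow T hT (φ l)) ∣ p ^ n := hn ▸ orderOf_dvd_natCard _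
      exact orderOf_eq_one_iff.mp (Nat.eq_one_of_dvd_coprimes (hLcop.pow_right n) hd1 hd2)
    haveI : (L.map C.subtype).Normal := by
      refine ⟨?_⟩
      rintro _ ⟨l, hl, rfl⟩ k
      exact ⟨MulAut.conjNormal k l, hLchar _ l hl, rfl⟩
    have hLO : L.map C.subtype ≤ O := CfsgLib.Solvable.Cores.le_pPrimeCore
      (by rw [Subgroup.card_map_of_injective C.subtype_injective]; exact hLcop)
    intro c hc
    obtain ⟨⟨⟨l, hl⟩, ⟨t, ht⟩⟩, hlt⟩ := hker.2 ⟨c, hc⟩
    have h1 : (c : ↥K) = (l : ↥K) * (t : ↥K) := congrArg Subtype.val hlt.symm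
    rw [h1]
    refine mul_mem (Subgroup.mem_sup_right (hLO ⟨l, hl, rfl⟩)) (Subgroup.mem_sup_left ?_)
    have ht' : t ∈ SC := ht
    rw [hSCeq, Subgroup.mem_subgroupOf] at ht'
    exact ht'
  have hNp : IsPGroup p ↥(N.map (QuotientGroup.mk' C)) :=
    (CfsgLib.Solvable.Cores.isPGroup_pCore p).to_le (Subgroup.map_comap_le _ _)
  -- O_{p',p} lies in N
  have hON : Cfsg.pPrimePCore p ↥K ≤ N := by
    intro x hx
    show QuotientGroup.mk' C x ∈ Cfsg.pCore p (↥K ⧸ C)
    haveI : ((Cfsg.pPrimePCore p ↥K).map (QuotientGroup.mk' C)).Normal :=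
      Subgroup.Normal.map (by unfold Cfsg.pPrimePCore; infer_instance) _ (QuotientGroup.mk'_surjective C)
    refine CfsgLib.Solvable.Cores.le_pCore (N := (Cfsg.pPrimePCore p ↥K).map (QuotientGroup.mk' C)) ?_ ⟨x, hx, rfl⟩
    rintro ⟨_, y, hy, rfl⟩
    have hy' : QuotientGroup.mk' O y ∈ Cfsg.pCore p (↥K ⧸ O) := hy
    obtain ⟨a, ha⟩ := CfsgLib.Solvable.Cores.isPGroup_pCore p ⟨_, hy'⟩
    refine ⟨a, Subtype.ext ?_⟩
    rw [SubmonoidClass.coe_pow, OneMemClass.coe_one, ← map_pow]
    refine (QuotientGroup.eq_one_iff _).mpr (hOC ?_)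
    have := congrArg Subtype.val ha
    rw [SubmonoidClass.coe_pow, OneMemClass.coe_one] at this
    exact (QuotientGroup.eq_one_iff _).mp (by simpa using this)
  have hHO : H' ⊔ O ≤ Cfsg.pPrimePCore p ↥K := by
    refine sup_le ?_ ?_
    · intro x hx
      show QuotientGroup.mk' O x ∈ Cfsg.pCore p (↥K ⧸ O)
      haveI : (H'.map (QuotientGroup.mk' O)).Normal :=
        Subgroup.Normal.map inferInstance _ (QuotientGroup.mk'_surjective O)
      exact CfsgLib.Solvable.Cores.le_pCore (hH'p.map _) ⟨x, hx, rfl⟩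
    · intro x hx
      show QuotientGroup.mk' O x ∈ Cfsg.pCore p (↥K ⧸ O)
      rw [show QuotientGroup.mk' O x = 1 from (QuotientGroup.eq_one_iff x).mpr hx]
      exact one_mem _
  have hrel : H.relIndex (N.map K.subtype) = H'.relIndex N := by
    conv_lhs => rw [← hmapH]
    rw [Subgroup.relIndex_map_map_of_injective _ _ K.subtype_injective]
  have hchain : ∀ (hCN' : C ≤ N), H'.relIndex N = H'.relIndex (H' ⊔ C) * (H' ⊔ C).relIndex N :=
    fun hCN' => (Subgroup.relIndex_mul_relIndex _ _ _ le_sup_left (sup_le hH'N hCN')).symm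
  have hindex : H'.relIndex (H' ⊔ C) = (H'.subgroupOf C).index := by
    rw [Subgroup.relIndex_sup_left]
    rfl
  have hmapsup : (H' ⊔ C).map K.subtype = H ⊔ Subgroup.centralizer (H : Set G) := by
    rw [Subgroup.map_sup, hmapH, hmapC]
  constructor
  · rintro ⟨-, hnd⟩
    rw [hrel] at hnd
    have hpc : ∀ X : Subgroup ↥K, IsPGroup p X → X ≤ N → X ≤ H' := by
      intro X hX hXN
      have h1 : ¬ p ∣ H'.relIndex (H' ⊔ X) := by
        intro hd
        rw [← Subgroup.relIndex_mul_relIndex _ _ _ le_sup_left (sup_le hH'N hXN)] at hnd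
        exact hnd (hd.mul_right _)
      rw [Subgroup.relIndex_sup_left] at h1
      obtain ⟨n, hn⟩ := (IsPGroup.iff_card.mp hX)
      have h2 : H'.relIndex X ∣ p ^ n := hn ▸ Subgroup.index_dvd_card _
      obtain ⟨i, -, hi⟩ := (Nat.dvd_prime_pow hp1).mp h2
      have h3 : i = 0 := by
        by_contra h
        exact h1 (hi ▸ dvd_pow_self p h)
      rw [h3, pow_zero] at hi
      exact Subgroup.relIndex_eq_one.mp hi
    have hPCH : PC ≤ H := by
      intro x hx
      have h1 : PC.subgroupOf K ≤ N := fun y hy => hCN (Subgroup.mem_inf.mp hy).2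
      have h2 := hpc _ ((P.isPGroup'.to_le inf_le_left).of_equiv
        (Subgroup.subgroupOfEquivOfLe (inf_le_right.trans hCK : PC ≤ K)).symm) h1
        (x := ⟨x, hCK (Subgroup.mem_inf.mp hx).2⟩) (by rw [Subgroup.mem_subgroupOf]; exact hx)
      rwa [hH', Subgroup.mem_subgroupOf] at h2
    refine ⟨hPCH, ?_⟩
    obtain ⟨-, hCle⟩ := key hPCH
    -- N = H' ⊔ C
    have hNle : N ≤ H' ⊔ C := by
      rw [← Subgroup.relIndex_eq_one]
      have h1 : (H' ⊔ C).relIndex N = (H'.map (QuotientGroup.mk' C)).relIndex (N.map (QuotientGroup.mk' C)) := by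
        rw [Subgroup.relIndex_map_map, QuotientGroup.ker_mk', sup_eq_left.mpr hCN]
      obtain ⟨n, hn⟩ := IsPGroup.iff_card.mp hNp
      have h2 : (H' ⊔ C).relIndex N ∣ p ^ n := h1 ▸ hn ▸ Subgroup.index_dvd_card _
      obtain ⟨i, -, hi⟩ := (Nat.dvd_prime_pow hp1).mp h2
      rw [hchain hCN] at hnd
      cases i with
      | zero => rw [hi, pow_zero]
      | succ i => exact absurd (Dvd.dvd.mul_left (hi ▸ dvd_pow_self p (Nat.succ_ne_zero i)) _) hnd
    have heq : Cfsg.pPrimePCore p ↥K = H' ⊔ C :=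
      le_antisymm (hON.trans hNle) (sup_le (le_sup_left.trans hHO) (hCle.trans hHO))
    rw [heq, hmapsup]
  · rintro ⟨hPCH, heq⟩
    refine ⟨hN0, ?_⟩
    obtain ⟨hnd, hCle⟩ := key hPCH
    have heq' : Cfsg.pPrimePCore p ↥K = H' ⊔ C :=
      Subgroup.map_injective K.subtype_injective (by rw [heq, hmapsup])
    -- N/O is a p-group
    have hNle : N ≤ Cfsg.pPrimePCore p ↥K := by
      intro x hx
      show QuotientGroup.mk' O x ∈ Cfsg.pCore p (↥K ⧸ O)
      haveI : (N.map (QuotientGroup.mk' O)).Normal :=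
        Subgroup.Normal.map inferInstance _ (QuotientGroup.mk'_surjective O)
      refine CfsgLib.Solvable.Cores.le_pCore (N := N.map (QuotientGroup.mk' O)) ?_ ⟨x, hx, rfl⟩
      rintro ⟨_, y, hy, rfl⟩
      obtain ⟨a, ha⟩ := hNp ⟨_, y, hy, rfl⟩
      have hyC : y ^ p ^ a ∈ C := by
        have := congrArg Subtype.val ha
        rw [SubmonoidClass.coe_pow, OneMemClass.coe_one] at this
        exact (QuotientGroup.eq_one_iff _).mp (by simpa using this)
      have h1 : QuotientGroup.mk' O (y ^ p ^ a) ∈ H'.map (QuotientGroup.mk' O) := by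
        obtain ⟨h, hh, o, ho, ho'⟩ := Subgroup.mem_sup_of_normal_left.mp (hCle hyC)
        refine ⟨h, hh, ?_⟩
        rw [← ho', map_mul, show QuotientGroup.mk' O o = 1 from (QuotientGroup.eq_one_iff o).mpr ho, mul_one]
      obtain ⟨b, hb⟩ := hH'p.map (QuotientGroup.mk' O) ⟨_, h1⟩
      refine ⟨a + b, Subtype.ext ?_⟩
      have := congrArg Subtype.val hb
      rw [SubmonoidClass.coe_pow, OneMemClass.coe_one] at this ⊢
      rw [← map_pow, ← pow_mul, ← pow_add] at this
      simpa using this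
    rw [hrel, hchain hCN, Subgroup.relIndex_eq_one.mpr (hNle.trans heq'.le), mul_one, hindex]
    exact hnd

end Cfsg.Agent.S3076
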