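import Cfsg.Statements.S3078
import Cfsg.Agent.Lib.Fusion.Replacement
import Cfsg.Agent.Lib.OddOrder.OmegaLemma
import Cfsg.Agent.Lib.Coprime.Sylow

set_option autoImplicit false
open Cfsg

namespace Cfsg.Agent.S3078

open CfsgLib.Fusion.Replacement
open scoped commutatorElement

theorem mem_omegaOne {G : Type*} [Group G] {p : ℕ} {A : Subgroup G} (hA : IsMulCommutative A) {x : G} :
    x ∈ Cfsg.omegaOne p A ↔ x ∈ A ∧ x ^ p = 1 := by
  refine ⟨fun hx => ?_, fun hx => Subgroup.subset_closure hx⟩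
  induction hx using Subgroup.closure_induction with
  | mem y hy => exact hy
  | one => exact ⟨A.one_mem, one_pow p⟩
  | mul y z _ _ hy hz =>
    have hc : Commute y z := congrArg Subtype.val (hA.is_comm.comm ⟨y, hy.1⟩ ⟨z, hz.1⟩)
    exact ⟨A.mul_mem hy.1 hz.1, by rw [hc.mul_pow, hy.2, hz.2, one_mul]⟩
  | inv y _ hy => exact ⟨A.inv_mem hy.1, by rw [inv_pow, hy.2, inv_one]⟩

theorem omega_card_le {G : Type*} [Group G] [Finite G] {p : ℕ} [Fact p.Prime] (hp : p ≠ 2)
    {B A : Subgroup G} [B.Normal] {x : G} (h : Setup p B A x) :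
    Nat.card (Cfsg.omegaOne p A) ≤ Nat.card (Cfsg.omegaOne p (star A x)) := by
  set C := A ⊓ A.map (MulAut.conj x).toMonoidHom with hC
  set K := star A x with hK
  set ΩA := Cfsg.omegaOne p A
  set ΩK := Cfsg.omegaOne p K
  set ΩC := Cfsg.omegaOne p C
  haveI := h.star_comm
  have hCc : IsMulCommutative C := ⟨⟨fun u v => Subtype.ext (h.commA u.2.1 v.2.1).eq⟩⟩
  have hΩA : ΩA ≤ A := fun z hz => ((mem_omegaOne h.abelian).1 hz).1
  have hΩK : ΩK ≤ K := fun z hz => ((mem_omegaOne h.star_comm).1 hz).1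
  have hwK : ∀ a ∈ A, a * x * a⁻¹ * x⁻¹ ∈ K := fun a ha =>
    Subgroup.mem_sup_right (Subgroup.subset_closure ⟨a, ha, rfl⟩)
  let θ : A →* K ⧸ C.subgroupOf K :=
    MonoidHom.mk' (fun a => QuotientGroup.mk ⟨_, hwK a a.2⟩) fun a b => by
      rw [← QuotientGroup.mk_mul, QuotientGroup.eq, Subgroup.mem_subgroupOf]
      have he := (h.e_mem a.2 b.2)
      set wa := (a : G) * x * (a : G)⁻¹ * x⁻¹ with hwa
      set wb := (b : G) * x * (b : G)⁻¹ * x⁻¹ with hwb
      have e1 : ((a * b : A) : G) * x * ((a * b : A) : G)⁻¹ * x⁻¹ = ⁅(a : G), wb⁆ * (wa * wb) := by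
        rw [(h.comm_w a.2 b.2).eq]
        simp only [hwa, hwb, Subgroup.coe_mul, commutatorElement_def]
        group
      show (((a * b : A) : G) * x * ((a * b : A) : G)⁻¹ * x⁻¹)⁻¹ * (wa * wb) ∈ C
      rw [e1, (((h.comm_inf_w he a.2).mul_right (h.comm_inf_w he b.2)).eq)]
      rw [mul_inv_rev, mul_assoc, inv_mul_cancel, mul_one]
      exact inv_mem he
  have hw : ∀ a ∈ ΩA, a * x * a⁻¹ * x⁻¹ ∈ ΩK := by
    intro a ha
    obtain ⟨haA, hap⟩ := (mem_omegaOne h.abelian).1 ha
    refine (mem_omegaOne h.star_comm).2 ⟨hwK a haA, ?_⟩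
    rw [Setup.w_eq]
    set v := (x * a * x⁻¹)⁻¹ with hv
    have hvA2 : v ∈ A.map (MulAut.conj x).toMonoidHom := inv_mem ⟨a, haA, by simp⟩
    set z := ⁅v, a⁆ with hz
    have hz1 : z ∈ A :=
      mul_mem ((Subgroup.mem_normalizer_iff.mp (h.conj_le_normalizer hvA2) a).mp haA) (inv_mem haA)
    have hz2 : z ∈ A.map (MulAut.conj x).toMonoidHom := by
      have h1 := (Subgroup.mem_normalizer_iff.mp (h.le_normalizer_conj haA) _).mp (inv_mem hvA2)
      simpa [hz, commutatorElement_def, mul_assoc] using mul_mem hvA2 h1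
    have heq : v * a = z * (a * v) := by simp only [hz, commutatorElement_def]; group
    have hvp : v ^ p = 1 := by rw [hv, inv_pow, conj_pow, hap]; group
    have hzp : z ^ p = 1 := by
      have := CfsgLib.OddOrder.OmegaLemma.pow_mul_comm_central heq (h.commA2 hz2 hvA2)
        (h.commA hz1 haA) p
      rw [hvp, one_mul, mul_one] at this
      exact mul_eq_right.1 this.symm
    rw [CfsgLib.OddOrder.OmegaLemma.mul_pow_central heq (h.commA2 hz2 hvA2) (h.commA hz1 haA) p,
      hap, hvp]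
    obtain ⟨c, hc⟩ : p ∣ p.choose 2 :=
      Nat.Prime.dvd_choose_self Fact.out two_ne_zero
        (lt_of_le_of_ne (Fact.out : p.Prime).two_le (Ne.symm hp))
    rw [hc, pow_mul, hzp]; simp
  set f := θ.comp (Subgroup.inclusion hΩA) with hf
  set q := (QuotientGroup.mk' (C.subgroupOf K)).comp (Subgroup.inclusion hΩK) with hq
  have hrange : f.range ≤ q.range := by
    rintro _ ⟨a, rfl⟩
    exact ⟨⟨_, hw a a.2⟩, rfl⟩
  have hkerf : f.ker = (ΩC).subgroupOf ΩA := by
    ext a
    obtain ⟨haA, hap⟩ := (mem_omegaOne h.abelian).1 a.2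
    rw [MonoidHom.mem_ker, Subgroup.mem_subgroupOf, mem_omegaOne hCc]
    show (QuotientGroup.mk _ : K ⧸ C.subgroupOf K) = 1 ↔ _
    rw [QuotientGroup.eq_one_iff, Subgroup.mem_subgroupOf]
    refine ⟨fun hh => ⟨⟨haA, (h.w_mem_iff haA).1 hh.1⟩, hap⟩, fun hh => ?_⟩
    exact h.inf_B_le ⟨(h.w_mem_iff haA).2 hh.1.2, h.w_mem haA⟩
  have hkerq : q.ker = (ΩC).subgroupOf ΩK := by
    ext a
    obtain ⟨_, hap⟩ := (mem_omegaOne h.star_comm).1 a.2
    rw [MonoidHom.mem_ker, Subgroup.mem_subgroupOf, mem_omegaOne hCc]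
    show (QuotientGroup.mk _ : K ⧸ C.subgroupOf K) = 1 ↔ _
    rw [QuotientGroup.eq_one_iff, Subgroup.mem_subgroupOf]
    exact ⟨fun hh => ⟨hh, hap⟩, fun hh => hh.1⟩
  have hCA : ΩC ≤ ΩA := fun z hz =>
    (mem_omegaOne h.abelian).2 ⟨((mem_omegaOne hCc).1 hz).1.1, ((mem_omegaOne hCc).1 hz).2⟩
  have hCK : ΩC ≤ ΩK := fun z hz =>
    (mem_omegaOne h.star_comm).2 ⟨Subgroup.mem_sup_left ((mem_omegaOne hCc).1 hz).1,
      ((mem_omegaOne hCc).1 hz).2⟩
  have cf := Subgroup.card_mul_index f.ker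
  have cq := Subgroup.card_mul_index q.ker
  rw [Subgroup.index_ker, hkerf, Nat.card_congr (Subgroup.subgroupOfEquivOfLe hCA).toEquiv] at cf
  rw [Subgroup.index_ker, hkerq, Nat.card_congr (Subgroup.subgroupOfEquivOfLe hCK).toEquiv] at cq
  rw [← cf, ← cq]
  exact Nat.mul_le_mul_left _ (Subgroup.card_le_of_le hrange)

theorem omegaOne_map {G H : Type*} [Group G] [Group H] (f : H →* G) (hf : Function.Injective f)
    (p : ℕ) (A : Subgroup H) : Cfsg.omegaOne p (A.map f) = (Cfsg.omegaOne p A).map f := by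
  rw [Cfsg.omegaOne, Cfsg.omegaOne, MonoidHom.map_closure]
  congr 1
  ext x
  constructor
  · rintro ⟨⟨a, ha, rfl⟩, hxp⟩
    exact ⟨a, ⟨ha, hf (by rw [map_pow, hxp, map_one])⟩, rfl⟩
  · rintro ⟨a, ⟨ha, hap⟩, rfl⟩
    exact ⟨⟨a, ha, rfl⟩, by rw [← map_pow, hap, map_one]⟩

/-- The replacement inside a group in which `B` is normal. -/
theorem replace_normal {G : Type*} [Group G] [Finite G] {p : ℕ} [Fact p.Prime] (hp : p ≠ 2)
    (hG : IsPGroup p G) (B A : Subgroup G) [B.Normal] (hA : IsMulCommutative A) (hBA : ⁅B, B⁆ ≤ A)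
    (hnot : ¬ B ≤ Subgroup.normalizer (A : Set G)) :
    ∃ K : Subgroup G, IsMulCommutative K ∧ Nat.card K = Nat.card A ∧ A ⊓ B < K ⊓ B ∧
      K ≤ Subgroup.normalizer (A : Set G) ∧ K ≤ Subgroup.normalClosure (A : Set G) ∧
      Monoid.exponent K ∣ Monoid.exponent A ∧
      Nat.card (Cfsg.omegaOne p A) ≤ Nat.card (Cfsg.omegaOne p K) := by
  obtain ⟨x, hx⟩ := exists_setup (p := p) (hG.to_subgroup _) (fun h => absurd h hp) hA hBA hnot
  refine ⟨star A x, hx.star_comm, hx.card_star, hx.inf_lt, hx.star_le_normalizer,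
    star_le_normal Subgroup.le_normalClosure x, ?_, omega_card_le hp hx⟩
  have hodd : Odd (Monoid.exponent A) := by
    have hAp : IsPGroup p A := hG.to_subgroup A
    obtain ⟨n, hn⟩ := hAp.exists_card_eq
    have h1 : Monoid.exponent A ∣ p ^ n := hn ▸ Group.exponent_dvd_nat_card
    exact (((Fact.out : p.Prime).odd_of_ne_two hp).pow).of_dvd_nat h1
  refine Monoid.exponent_dvd_of_forall_pow_eq_one fun z => Subtype.ext ?_
  rw [Subgroup.coe_pow, Subgroup.coe_one]
  exact hx.star_pow hodd (fun a ha => congrArg Subtype.val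
    (Monoid.pow_exponent_eq_one (⟨a, ha⟩ : A))) z z.2

/-- A replacement Theorem for abelian subgroups of p-groups, p odd. Let G be a finite p-group with p odd, A an abelian subgroup of G, and B a subgroup of nilpotency class at most 2 with [B, B] ≤ A, such that A normalizes B but B does not normalize A. Then there is an abelian subgroup A* of G of the same order as A with A ∩ B strictly contained in A* ∩ B, A* contained in N_G(A) and in the normal closure of A, the exponent of A* dividing the exponent of A, and with the subgroup generated by the elements of order dividing p in A of order at most that of the corresponding subgroup of A* (the rank of A is at most the rank of A*). -/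
theorem result {G : Type*} [Group G] [Finite G] {p : ℕ} [Fact p.Prime] (hp : p ≠ 2) (hG : IsPGroup p G) (A B : Subgroup G) (hA : IsMulCommutative A) (hB2 : ⁅⁅B, B⁆, B⁆ = ⊥) (hBA : ⁅B, B⁆ ≤ A) (hAB : A ≤ Subgroup.normalizer (B : Set G)) (hBnA : ¬ B ≤ Subgroup.normalizer (A : Set G)) : ∃ Astar : Subgroup G, IsMulCommutative Astar ∧ Nat.card Astar = Nat.card A ∧ A ⊓ B < Astar ⊓ B ∧ Astar ≤ Subgroup.normalizer (A : Set G) ∧ Astar ≤ Subgroup.normalClosure (A : Set G) ∧ Monoid.exponent Astar ∣ Monoid.exponent A ∧ Nat.card (Cfsg.omegaOne p A) ≤ Nat.card (Cfsg.omegaOne p Astar) := by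
  set H := B ⊔ A with hH
  have hBH : B ≤ H := le_sup_left
  have hAH : A ≤ H := le_sup_right
  haveI : (B.subgroupOf H).Normal :=
    (Subgroup.normal_subgroupOf_iff_le_normalizer hBH).2 (sup_le Subgroup.le_normalizer hAB)
  have hd : ⁅B.subgroupOf H, B.subgroupOf H⁆ ≤ A.subgroupOf H := by
    intro z hz
    have := Subgroup.mem_map_of_mem H.subtype hz
    rw [Subgroup.map_commutator, Subgroup.subgroupOf_map_subtype, inf_eq_left.2 hBH] at this
    exact hBA this
  have hA' : IsMulCommutative (A.subgroupOf H) :=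
    ⟨⟨fun u v => Subtype.ext (Subtype.ext (congrArg (Subtype.val : A → G)
      (hA.is_comm.comm ⟨_, u.2⟩ ⟨_, v.2⟩)))⟩⟩
  have hnot : ¬ B.subgroupOf H ≤ Subgroup.normalizer ((A.subgroupOf H : Subgroup H) : Set H) := by
    intro h
    refine hBnA fun b hb => ?_
    rw [Subgroup.mem_normalizer_iff]
    intro a
    have h1 := Subgroup.mem_normalizer_iff.1 (h (x := ⟨b, hBH hb⟩) hb)
    constructor
    · intro ha; exact (h1 ⟨a, hAH ha⟩).1 ha
    · intro ha
      have ha' : a ∈ H := by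
        have := mul_mem (mul_mem (inv_mem (hBH hb)) (hAH ha)) (hBH hb)
        simpa [mul_assoc] using this
      exact (h1 ⟨a, ha'⟩).2 ha
  obtain ⟨K, hKc, hKcard, hlt, hKN, hKcl, hKe, hKo⟩ :=
    replace_normal hp (hG.to_subgroup H) (B.subgroupOf H) (A.subgroupOf H) hA' hd hnot
  have hAmap : (A.subgroupOf H).map H.subtype = A := by
    rw [Subgroup.subgroupOf_map_subtype, inf_eq_left.2 hAH]
  have hBmap : (B.subgroupOf H).map H.subtype = B := by
    rw [Subgroup.subgroupOf_map_subtype, inf_eq_left.2 hBH]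
  refine ⟨K.map H.subtype, ?_, ?_, ?_, ?_, ?_, ?_, ?_⟩
  · refine ⟨⟨?_⟩⟩
    rintro ⟨_, u, hu, rfl⟩ ⟨_, v, hv, rfl⟩
    exact Subtype.ext (congrArg (fun t : K => ((t : H) : G)) (hKc.is_comm.comm ⟨u, hu⟩ ⟨v, hv⟩))
  · rw [CfsgLib.Coprime.card_map_subtype, hKcard]
    exact Nat.card_congr (Subgroup.subgroupOfEquivOfLe hAH).toEquiv
  · have := (Subgroup.map_lt_map_iff_of_injective H.subtype_injective).2 hlt
    rwa [Subgroup.map_inf _ _ _ H.subtype_injective, Subgroup.map_inf _ _ _ H.subtype_injective,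
      hAmap, hBmap] at this
  · rintro _ ⟨k, hk, rfl⟩
    have h1 := Subgroup.mem_normalizer_iff.1 (hKN hk)
    rw [Subgroup.mem_normalizer_iff]
    intro a
    constructor
    · intro ha; exact (h1 ⟨a, hAH ha⟩).1 ha
    · intro ha
      have ha' : a ∈ H := by
        have := mul_mem (mul_mem (inv_mem k.2) (hAH ha)) k.2
        simpa [mul_assoc] using this
      exact (h1 ⟨a, ha'⟩).2 ha
  · rw [Subgroup.map_le_iff_le_comap]
    refine hKcl.trans (Subgroup.normalClosure_le_normal ?_)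
    intro a ha
    exact Subgroup.le_normalClosure (H := A) ha
  · rw [← Monoid.exponent_eq_of_mulEquiv
      (Subgroup.equivMapOfInjective K H.subtype H.subtype_injective),
      ← Monoid.exponent_eq_of_mulEquiv (Subgroup.subgroupOfEquivOfLe hAH)]
    exact hKe
  · conv_lhs => rw [← hAmap]
    rw [omegaOne_map _ H.subtype_injective, omegaOne_map _ H.subtype_injective,
      CfsgLib.Coprime.card_map_subtype, CfsgLib.Coprime.card_map_subtype]
    exact hKo

end Cfsg.Agent.S3078
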