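import Cfsg.Statements.S3084
import Cfsg.Agent.Lib.LocalEvenB.PlusExtraspecial

set_option autoImplicit false
open Cfsg
open CfsgLib.LocalEvenB.PlusExtraspecial

namespace Cfsg.Agent.S3084

/-- Let K be a group acting faithfully and linearly on a finite-dimensional vector space U of dimension 2n ≥ 2 over the field with two elements, preserving a quadratic form q whose polar bilinear form is non-degenerate and which vanishes on some n-dimensional subspace (a non-singular form of plus type). Then there is a finite group R with a normal extraspecial 2-subgroup Q of order 2^(2n+1), an isomorphism of R/Q with K, and a surjective homomorphism χ from Q onto (the additive group of) U with kernel the centre of Q, such that χ carries conjugation by any r in R to the action of the image of r in K, and an element a of Q squares to the identity exactly when q vanishes at χ(a). -/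
theorem result {K : Type*} [Group K] {U : Type*} [AddCommGroup U] [Module (ZMod 2) U] [Module.Finite (ZMod 2) U] (n : ℕ) (hn1 : 1 ≤ n) (hn : Module.finrank (ZMod 2) U = 2 * n) (ρ : Representation (ZMod 2) K U) (hρ : Function.Injective ρ) (q : QuadraticForm (ZMod 2) U) (hq : ∀ (k : K) (u : U), q (ρ k u) = q u) (hnd : (QuadraticMap.polarBilin q).Nondegenerate) (hplus : ∃ W : Submodule (ZMod 2) U, Module.finrank (ZMod 2) ↥W = n ∧ ∀ w ∈ W, q w = 0) : ∃ (R : Type) (_ : Group R) (_ : Finite R) (Q : Subgroup R) (hN : Q.Normal) (e : R ⧸ Q ≃* K) (χ : ↥Q →* Multiplicative U), Cfsg.IsExtraspecial 2 ↥Q ∧ Nat.card ↥Q = 2 ^ (2 * n + 1) ∧ Function.Surjective χ ∧ χ.ker = Subgroup.center ↥Q ∧ (∀ (r : R) (a : ↥Q), χ ⟨r * a * r⁻¹, hN.conj_mem (a : R) a.2 r⟩ = Multiplicative.ofAdd (ρ (e (r : R ⧸ Q)) (Multiplicative.toAdd (χ a)))) ∧ ∀ a : ↥Q, a * a = 1 ↔ q (Multiplicative.toAdd (χ a)) = 0 := by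
  classical
  obtain ⟨W, hWdim, hW⟩ := hplus
  let bW : Module.Basis (Fin n) (ZMod 2) ↥W := Module.finBasisOfFinrankEq _ _ hWdim
  let w : (Fin n → ZMod 2) →ₗ[ZMod 2] U := W.subtype.comp bW.equivFun.symm.toLinearMap
  have hwi : Function.Injective w := W.injective_subtype.comp bW.equivFun.symm.injective
  have hwq : ∀ a, q (w a) = 0 := fun a => hW _ (bW.equivFun.symm a).2
  set B := QuadraticMap.polarBilin q with hBdef
  have hB : ∀ x y : U, q (x + y) = q x + q y + B x y := fun x y => by
    show _ = _ + _ + QuadraticMap.polar q x y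
    rw [QuadraticMap.polar]; abel
  have hBinj : Function.Injective B := by
    rw [← LinearMap.ker_eq_bot]
    exact LinearMap.separatingLeft_iff_ker_eq_bot.1 hnd.1
  have hBsur : Function.Surjective B :=
    (LinearMap.injective_iff_surjective_of_finrank_eq_finrank Subspace.dual_finrank_eq.symm).1 hBinj
  have hsi : ∀ i : Fin n, ∃ u : U, ∀ a, B u (w a) = a i := fun i => by
    obtain ⟨φ, hφ⟩ := LinearMap.dualMap_surjective_of_injective hwi (LinearMap.proj i)
    obtain ⟨u, hu⟩ := hBsur φ
    exact ⟨u, fun a => by rw [hu]; exact LinearMap.congr_fun hφ a⟩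
  choose si hsi using hsi
  let s : (Fin n → ZMod 2) →ₗ[ZMod 2] U := Fintype.linearCombination (ZMod 2) si
  have hs : ∀ a b, B (s b) (w a) = b ⬝ᵥ a := fun a b => by
    simp [s, Fintype.linearCombination_apply, map_sum, map_smul, LinearMap.sum_apply, dotProduct, hsi]
  let η := (q.comp s).toBilin (Pi.basisFun (ZMod 2) (Fin n))
  have hη : ∀ b, η b b = q (s b) := fun b => by
    have h := QuadraticMap.toQuadraticMap_toBilin (q.comp s) (Pi.basisFun (ZMod 2) (Fin n))
    exact DFunLike.congr_fun h b
  let t : (Fin n → ZMod 2) →ₗ[ZMod 2] (Fin n → ZMod 2) :=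
    LinearMap.pi fun i => η.flip (Pi.single i 1)
  have ht : ∀ b, b ⬝ᵥ t b = q (s b) := fun b => by
    rw [← hη b]
    conv_rhs => rw [LinearMap.pi_apply_eq_sum_univ (η b) b]
    simp only [dotProduct, t, LinearMap.pi_apply, LinearMap.flip_apply, smul_eq_mul]
    refine Finset.sum_congr rfl fun i _ => ?_
    congr 2
    funext j; simp [Pi.single_apply, eq_comm]
  let Φ : (Fin n → ZMod 2) × (Fin n → ZMod 2) →ₗ[ZMod 2] U := w.coprod (s + w.comp t)
  have hBw : ∀ a a', B (w a) (w a') = 0 := fun a a' => by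
    have h := hB (w a) (w a')
    rw [← map_add, hwq, hwq, hwq, zero_add, zero_add] at h
    exact h.symm
  have hBcomm : ∀ x y, B x y = B y x := fun x y => QuadraticMap.polar_comm q x y
  have hΦq : ∀ u, q (Φ u) = β u u := fun u => by
    show q (w u.1 + (s u.2 + w (t u.2))) = u.2 ⬝ᵥ u.1
    rw [hB, hB, hwq, hwq, hBcomm (w u.1), map_add B, LinearMap.add_apply, hs, hs, hBw, ht]
    have key : ∀ x z : ZMod 2, 0 + (x + 0 + x) + (z + 0) = z := by decide
    exact key _ _
  have hΦi : Function.Injective Φ := by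
    rw [← LinearMap.ker_eq_bot, LinearMap.ker_eq_bot']
    intro u hu
    have hpol : ∀ v, β u v + β v u = 0 := fun v => by
      have h1 := hΦq (u + v)
      rw [map_add, hu, zero_add, hΦq, β_add_left, β_add_right, β_add_right] at h1
      have h0 := hΦq u
      rw [hu, map_zero] at h0
      rw [← h0] at h1
      have key : ∀ a b c : ZMod 2, c = (0 + a) + (b + c) → a + b = 0 := by decide
      exact key _ _ _ h1
    refine Prod.ext (funext fun i => ?_) (funext fun i => ?_)
    · simpa [β] using hpol (0, Pi.single i 1)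
    · simpa [β] using hpol (Pi.single i 1, 0)
  let Ψ : ((Fin n → ZMod 2) × (Fin n → ZMod 2)) ≃ₗ[ZMod 2] U := LinearEquiv.ofBijective Φ ⟨hΦi,
    (LinearMap.injective_iff_surjective_of_finrank_eq_finrank (by
      rw [Module.finrank_prod, Module.finrank_fin_fun, hn]; omega)).1 hΦi⟩
  let M : K →* Module.End (ZMod 2) (U0 n) :=
    { toFun := fun k => Ψ.symm.toLinearMap ∘ₗ (ρ k) ∘ₗ Ψ.toLinearMap
      map_one' := by ext u <;> simp
      map_mul' := fun k k' => LinearMap.ext fun u => by simp [Module.End.mul_apply] }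
  have hM : Function.Injective M := fun k k' h => hρ (LinearMap.ext fun x => Ψ.symm.injective (by
    simpa [M] using LinearMap.congr_fun h (Ψ.symm x)))
  have hMq : ∀ k u, β (M k u) (M k u) = β u u := fun k u => by
    rw [← hΦq, ← hΦq]
    show q (Ψ (Ψ.symm (ρ k (Ψ u)))) = q (Φ u)
    rw [LinearEquiv.apply_symm_apply, hq]
    rfl
  haveI : Finite (G0 n) := DFunLike.finite _
  let χ : ↥(proj M hM).ker →* Multiplicative U :=
    (Ψ.toAddEquiv.toAddMonoidHom.toMultiplicative).comp (chi M hM)
  have hχ : ∀ a, Multiplicative.toAdd (χ a) = Ψ (coords M hM a).2 := fun a => rfl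
  refine ⟨↥(R M), inferInstance, inferInstance, (proj M hM).ker, inferInstance,
    QuotientGroup.quotientKerEquivOfSurjective _ (proj_surjective M hM hMq), χ, isExtraspecial M hM hn1,
    card_ker M hM, ?_, ?_, ?_, ?_⟩
  · intro u
    obtain ⟨a, ha⟩ := chi_surjective M hM (Multiplicative.ofAdd (Ψ.symm u.toAdd))
    refine ⟨a, ?_⟩
    apply Multiplicative.toAdd.injective
    show Ψ (chi M hM a).toAdd = _
    rw [ha, toAdd_ofAdd, LinearEquiv.apply_symm_apply]
  · rw [center_eq]
    exact MonoidHom.ker_comp_of_injective _ _ Ψ.injective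
  · intro r a
    apply Multiplicative.toAdd.injective
    rw [toAdd_ofAdd, hχ, hχ, conj_coords M hM r a _ rfl]
    show Ψ (Ψ.symm (ρ (proj M hM r) (Ψ _))) = ρ (proj M hM r) (Ψ _)
    rw [LinearEquiv.apply_symm_apply]
  · intro a
    rw [mul_self_iff, hχ]
    show _ ↔ q (Φ _) = 0
    rw [hΦq]

end Cfsg.Agent.S3084
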