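import Cfsg.Statements.S3086
import Cfsg.Agent.Lib.PGV.Main
import Cfsg.Agent.Lib.Components.Basic
-- import your own Cfsg.Agent.* helpers here

set_option autoImplicit false
open Cfsg

namespace Cfsg.Agent.S3086

/-- The P(G,V)-theorem. Let p be a prime, G a finite group acting faithfully and linearly on a finite vector space V over the field with p elements, and A a nontrivial elementary abelian p-subgroup of G such that |A|·|C_V(A)| ≥ |B|·|C_V(B)| for every subgroup B of A. Then A normalizes every component (subnormal quasisimple subgroup) of G. -/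
theorem result {G V : Type*} [Group G] [Finite G] [AddCommGroup V] [Finite V] (p : ℕ) [Fact p.Prime] [Module (ZMod p) V]
    (ρ : Representation (ZMod p) G V) (hρ : Function.Injective ρ)
    (A : Subgroup G) (hA : A ≠ ⊥) (hAel : Cfsg.IsElementaryAbelian p A)
    (hP : ∀ B : Subgroup G, B ≤ A →
      Nat.card ↥B * Nat.card {v : V // ∀ b ∈ B, ρ b v = v} ≤ Nat.card ↥A * Nat.card {v : V // ∀ a ∈ A, ρ a v = v}) :
    ∀ K : Subgroup G, Cfsg.IsComponent K → A ≤ Subgroup.normalizer (K : Set G) := by
  intro K hK
  have hperf : ⁅K, K⁆ = K := CfsgLib.Components.IsComponent.commutator_self hK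
  have hc : CfsgLib.PGV.Cfg p ρ A K :=
    { commA := fun a ha c hc => congrArg Subtype.val (hAel.1.is_comm.comm (⟨a, ha⟩ : ↥A) ⟨c, hc⟩)
      powA := fun a ha => hAel.2 a ha
      perfect := hperf
      qs := fun S hS hn => by
        haveI : (S.subgroupOf K).Normal := ⟨fun s hs x => hn x x.2 s hs⟩
        rcases CfsgLib.Components.IsQuasisimple.normal_le_center_or_top hK.2 (S.subgroupOf K) with h | h
        · right
          intro s hs x hx
          exact (congrArg Subtype.val
            (Subgroup.mem_center_iff.1 (h (show (⟨s, hS hs⟩ : ↥K) ∈ S.subgroupOf K from hs)) ⟨x, hx⟩)).symm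
        · left
          exact le_antisymm hS (Subgroup.subgroupOf_eq_top.1 h)
      comm := fun a ha haN x hx y hy => by
        have hne : K.map (MulAut.conj a).toMonoidHom ≠ K := fun h => haN (by
          rw [Subgroup.mem_normalizer_iff]
          intro z
          constructor
          · intro hz
            rw [← h]; exact ⟨z, hz, rfl⟩
          · intro hz
            rw [← h] at hz
            obtain ⟨w, hw, hwz⟩ := hz
            have : w = z := mul_left_cancel (mul_right_cancel hwz)
            rwa [← this])
        have h1 := CfsgLib.Components.IsComponent.le_centralizer_of_ne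
          (CfsgLib.Components.IsComponent.conj hK a) hK hne
        exact (Subgroup.mem_centralizer_iff.1 (h1 ⟨x, hx, rfl⟩) y hy).symm
      nt := by
        obtain ⟨⟨g, hg⟩, hg1'⟩ := Subgroup.ne_bot_iff_exists_ne_one.1
          (CfsgLib.Components.IsComponent.ne_bot hK)
        have hg1 : g ≠ 1 := fun h => hg1' (Subtype.ext h)
        exact ⟨g, hg, fun h => hg1 (hρ (h.trans (map_one ρ).symm))⟩ }
  exact CfsgLib.PGV.main _ le_rfl hc fun B hB => hP B hB

end Cfsg.Agent.S3086
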