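import Cfsg.Statements.S3087
import Mathlib.Algebra.Field.ZMod
import Mathlib.LinearAlgebra.FiniteDimensional.Lemmas
import Mathlib.FieldTheory.Finiteness


set_option autoImplicit false
open Cfsg

namespace Cfsg.Agent.S3087

/-- Let p be a prime, G a finite group acting linearly on a finite vector space V over the field with p elements, W a G-invariant subspace, and A a subgroup of G with |A|·|C_V(A)| ≥ |B|·|C_V(B)| for every subgroup B of A. Then |A|·|C_W(A)| ≥ |B|·|C_W(B)| for every subgroup B of A that contains C_A(W); that is, the image of A in the group induced on W satisfies the same maximality condition. -/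
theorem result {G V : Type*} [Group G] [Finite G] [AddCommGroup V] [Finite V] (p : ℕ) [Fact p.Prime] [Module (ZMod p) V]
    (ρ : Representation (ZMod p) G V) (W : Submodule (ZMod p) V) (hW : ∀ g : G, ∀ w ∈ W, ρ g w ∈ W)
    (A : Subgroup G)
    (hP : ∀ B : Subgroup G, B ≤ A →
      Nat.card ↥B * Nat.card {v : V // ∀ b ∈ B, ρ b v = v} ≤ Nat.card ↥A * Nat.card {v : V // ∀ a ∈ A, ρ a v = v})
    (B : Subgroup G) (hBA : B ≤ A) (hCB : ∀ a ∈ A, (∀ w ∈ W, ρ a w = w) → a ∈ B) :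
    Nat.card ↥B * Nat.card {w : W // ∀ b ∈ B, ρ b w = w} ≤ Nat.card ↥A * Nat.card {w : W // ∀ a ∈ A, ρ a w = w} := by
  have h := hP B hBA
  let F : Subgroup G → Submodule (ZMod p) V := fun H => ⨅ x : H, LinearMap.ker (ρ x.1 - 1)
  have hmem : ∀ (H : Subgroup G) (v : V), v ∈ F H ↔ ∀ x ∈ H, ρ x v = v := fun H v => by
    simp [F, Submodule.mem_iInf, sub_eq_zero, LinearMap.mem_ker]
  have e1 : ∀ H : Subgroup G, Nat.card {v : V // ∀ x ∈ H, ρ x v = v} = Nat.card ↥(F H) :=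
    fun H => Nat.card_congr (Equiv.subtypeEquivRight fun v => (hmem H v).symm)
  have e2 : ∀ H : Subgroup G, Nat.card {w : W // ∀ x ∈ H, ρ x w = w} = Nat.card ↥(F H ⊓ W) :=
    fun H => Nat.card_congr ⟨fun w => ⟨w.1.1, (hmem H _).mpr w.2, w.1.2⟩,
      fun v => ⟨⟨v.1, v.2.2⟩, (hmem H _).mp v.2.1⟩, fun _ => rfl, fun _ => rfl⟩
  rw [e1, e1] at h
  rw [e2, e2]
  have hle : F A ≤ F B := fun v hv => (hmem B v).mpr fun x hx => (hmem A v).mp hv x (hBA hx)
  have key : Nat.card ↥(F A) * Nat.card ↥(F B ⊓ W) ≤ Nat.card ↥(F B) * Nat.card ↥(F A ⊓ W) := by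
    haveI : FiniteDimensional (ZMod p) V := Module.Finite.of_finite
    have h1 : Module.finrank (ZMod p) ↥(F A ⊔ (F B ⊓ W)) + Module.finrank (ZMod p) ↥(F A ⊓ (F B ⊓ W)) =
        Module.finrank (ZMod p) ↥(F A) + Module.finrank (ZMod p) ↥(F B ⊓ W) :=
      Submodule.finrank_sup_add_finrank_inf_eq _ _
    rw [← inf_assoc, inf_eq_left.mpr hle] at h1
    have h2 := Submodule.finrank_mono (sup_le hle inf_le_left : F A ⊔ (F B ⊓ W) ≤ F B)
    rw [Module.natCard_eq_pow_finrank (K := ZMod p) (V := ↥(F A)),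
      Module.natCard_eq_pow_finrank (K := ZMod p) (V := ↥(F B ⊓ W)),
      Module.natCard_eq_pow_finrank (K := ZMod p) (V := ↥(F B)),
      Module.natCard_eq_pow_finrank (K := ZMod p) (V := ↥(F A ⊓ W)), Nat.card_zmod, ← pow_add, ← pow_add]
    exact Nat.pow_le_pow_right (Fact.out : p.Prime).pos (by omega)
  refine Nat.le_of_mul_le_mul_left ?_ (Nat.card_pos : 0 < Nat.card ↥(F A))
  calc Nat.card ↥(F A) * (Nat.card ↥B * Nat.card ↥(F B ⊓ W))
      = Nat.card ↥B * (Nat.card ↥(F A) * Nat.card ↥(F B ⊓ W)) := by ring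
    _ ≤ Nat.card ↥B * (Nat.card ↥(F B) * Nat.card ↥(F A ⊓ W)) := by gcongr
    _ = (Nat.card ↥B * Nat.card ↥(F B)) * Nat.card ↥(F A ⊓ W) := by ring
    _ ≤ (Nat.card ↥A * Nat.card ↥(F A)) * Nat.card ↥(F A ⊓ W) := by gcongr
    _ = _ := by ring

end Cfsg.Agent.S3087
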