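import Cfsg.Statements.S3103
import Cfsg.Agent.S0256
import Cfsg.Agent.Lib.Components.Constrained
import Cfsg.Agent.Lib.Coprime.Action
import Cfsg.Agent.Lib.PGroup.Frattini

set_option autoImplicit false
open Cfsg

namespace Cfsg.Agent.S3103

open CfsgLib

lemma units_zmod_two : ∀ u : (ZMod 2)ˣ, u = 1 := by decide

lemma pow_four_zmod_two : ∀ s : ZMod 2, s ^ 4 = 1 → s = 1 := by decide

/-- `GL₄(2)` embeds in `A₈`. -/
lemma gl_four_two : ∃ f : GL (Fin 4) (ZMod 2) →* ↥(alternatingGroup (Fin 8)), Function.Injective f := by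
  haveI : Fact (Nat.Prime 2) := ⟨Nat.prime_two⟩
  have hdet : ∀ A : GL (Fin 4) (ZMod 2), (A : Matrix (Fin 4) (Fin 4) (ZMod 2)).det = 1 := fun A => by
    rw [← Matrix.GeneralLinearGroup.val_det_apply, units_zmod_two (Matrix.GeneralLinearGroup.det A), Units.val_one]
  let toSL : GL (Fin 4) (ZMod 2) →* Matrix.SpecialLinearGroup (Fin 4) (ZMod 2) :=
    { toFun := fun A => ⟨A, hdet A⟩
      map_one' := Subtype.ext rfl
      map_mul' := fun A B => Subtype.ext rfl }
  have htoSL : Function.Injective toSL := fun A B h => Units.ext (congrArg Subtype.val h)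
  have hcen : Subgroup.center (Matrix.SpecialLinearGroup (Fin 4) (ZMod 2)) = ⊥ := by
    rw [eq_bot_iff]
    intro A hA
    obtain ⟨r, hr, hA'⟩ := Matrix.SpecialLinearGroup.mem_center_iff.1 hA
    have h1 : ∀ s : ZMod 2, s ^ Fintype.card (Fin 4) = 1 → s = 1 := by
      intro s hs; rw [Fintype.card_fin] at hs; exact pow_four_zmod_two s hs
    rw [h1 r hr, map_one] at hA'
    exact Subgroup.mem_bot.2 (Subtype.ext hA'.symm)
  obtain ⟨e3⟩ := Cfsg.Agent.S0256.result (F := ZMod 2) (ZMod.card 2)
  let π : Matrix.SpecialLinearGroup (Fin 4) (ZMod 2) →* Matrix.ProjectiveSpecialLinearGroup (Fin 4) (ZMod 2) :=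
    QuotientGroup.mk' (Subgroup.center (Matrix.SpecialLinearGroup (Fin 4) (ZMod 2)))
  have hπ : Function.Injective π := by
    refine (MonoidHom.ker_eq_bot_iff π).1 ?_
    exact (QuotientGroup.ker_mk' (Subgroup.center (Matrix.SpecialLinearGroup (Fin 4) (ZMod 2)))).trans hcen
  exact ⟨(e3.toMonoidHom.comp π).comp toSL, (e3.injective.comp hπ).comp htoSL⟩

/-- Linear groups of four-dimensional spaces over two elements embed in `A₈`. -/
lemma gl_module (W : Type*) [AddCommGroup W] [Module (ZMod 2) W] [Finite W]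
    (hW : Nat.card W = 2 ^ 4) :
    ∃ f : LinearMap.GeneralLinearGroup (ZMod 2) W →* ↥(alternatingGroup (Fin 8)), Function.Injective f := by
  haveI : Fact (Nat.Prime 2) := ⟨Nat.prime_two⟩
  have hfr : Module.finrank (ZMod 2) W = 4 := by
    haveI := Fintype.ofFinite W
    have := Module.card_eq_pow_finrank (K := ZMod 2) (V := W)
    rw [← Nat.card_eq_fintype_card, hW, ZMod.card] at this
    exact (Nat.pow_right_injective le_rfl this).symm
  let b : W ≃ₗ[ZMod 2] (Fin 4 → ZMod 2) := LinearEquiv.ofFinrankEq _ _ (by rw [hfr]; simp)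
  let e1 : LinearMap.GeneralLinearGroup (ZMod 2) W ≃* LinearMap.GeneralLinearGroup (ZMod 2) (Fin 4 → ZMod 2) :=
    LinearMap.GeneralLinearGroup.congrLinearEquiv b
  let e2 : LinearMap.GeneralLinearGroup (ZMod 2) (Fin 4 → ZMod 2) ≃* GL (Fin 4) (ZMod 2) :=
    (Matrix.GeneralLinearGroup.toLin (n := Fin 4) (R := ZMod 2)).symm
  obtain ⟨f, hf⟩ := gl_four_two
  exact ⟨f.comp (e2.toMonoidHom.comp e1.toMonoidHom), hf.comp (e2.injective.comp e1.injective)⟩

/-- Automorphisms act linearly on a padded space. -/
lemma padded (V U : Type*) [CommGroup V] [AddCommGroup U] [Module (ZMod 2) (Additive V × U)] :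
    ∃ ψ : MulAut V →* LinearMap.GeneralLinearGroup (ZMod 2) (Additive V × U), Function.Injective ψ := by
  let ψ₀ : MulAut V →* Module.End (ZMod 2) (Additive V × U) :=
    { toFun := fun a => AddMonoidHom.toZModLinearMap 2
        (AddMonoidHom.prodMap (MonoidHom.toAdditive a.toMonoidHom) (AddMonoidHom.id U))
      map_one' := LinearMap.ext fun w => rfl
      map_mul' := fun a b => LinearMap.ext fun w => rfl }
  refine ⟨ψ₀.toHomUnits, fun a c h => MulEquiv.ext fun v => ?_⟩
  have h1 := congrArg (fun L : LinearMap.GeneralLinearGroup (ZMod 2) (Additive V × U) =>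
    (L : (Additive V × U) →ₗ[ZMod 2] (Additive V × U)) (Additive.ofMul v, 0)) h
  exact congrArg (fun w : Additive V × U => (w.1).toMul) h1

/-- Automorphisms of an elementary abelian 2-group of order at most 16 embed in `A₈`. -/
lemma exists_embedding {V : Type*} [Group V] [Finite V] (hab : ∀ a b : V, a * b = b * a)
    (h2 : ∀ a : V, a ^ 2 = 1) (hcard : Nat.card V ≤ 16) :
    ∃ f : MulAut V →* ↥(alternatingGroup (Fin 8)), Function.Injective f := by
  haveI : Fact (Nat.Prime 2) := ⟨Nat.prime_two⟩
  letI : CommGroup V := { (inferInstance : Group V) with mul_comm := hab }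
  have hp : IsPGroup 2 V := fun v => ⟨1, by simpa using h2 v⟩
  obtain ⟨j, hj⟩ := IsPGroup.iff_card.1 hp
  have hj4 : j ≤ 4 := by
    by_contra h
    have := Nat.pow_le_pow_right (show 0 < 2 by norm_num) (show 5 ≤ j by omega)
    rw [← hj] at this
    omega
  have hW2 : ∀ w : Additive V × (Fin (4 - j) → ZMod 2), 2 • w = 0 := by
    rintro ⟨v, f⟩
    refine Prod.ext ?_ ?_
    · exact congrArg Additive.ofMul (h2 v.toMul)
    · funext i
      show 2 • f i = 0
      rw [two_nsmul]; exact CharTwo.add_self_eq_zero _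
  letI : Module (ZMod 2) (Additive V × (Fin (4 - j) → ZMod 2)) := AddCommGroup.zmodModule hW2
  have hWc : Nat.card (Additive V × (Fin (4 - j) → ZMod 2)) = 2 ^ 4 := by
    rw [Nat.card_prod, Nat.card_congr Additive.toMul, hj, Nat.card_fun, Nat.card_zmod, Nat.card_fin, ← pow_add]
    congr 1; omega
  obtain ⟨ψ, hψ⟩ := padded V (Fin (4 - j) → ZMod 2)
  obtain ⟨f, hf⟩ := gl_module _ hWc
  exact ⟨f.comp ψ, hf.comp hψ⟩

/-- Let X be a finite 2-constrained group with no nontrivial normal subgroup of odd order such that O₂(X) has sectional 2-rank at most 4. Then X/O₂(X) is isomorphic to a subgroup of the alternating group of degree 8. -/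
theorem result {X : Type*} [Group X] [Finite X] (hc : Cfsg.IsPConstrained 2 X) (hO : Cfsg.oddCore X = ⊥)
    (h4 : Cfsg.SectionalPRankLE 2 4 ↥(Cfsg.pCore 2 X)) :
    ∃ f : X ⧸ Cfsg.pCore 2 X →* ↥(alternatingGroup (Fin 8)), Function.Injective f := by
  classical
  haveI : Fact (Nat.Prime 2) := ⟨Nat.prime_two⟩
  set Q := Cfsg.pCore 2 X with hQdef
  haveI hQn : Q.Normal := CfsgLib.Solvable.Cores.pCore_normal 2
  have hQ2 : IsPGroup 2 Q := CfsgLib.Solvable.Cores.isPGroup_pCore 2
  have hCQ : Subgroup.centralizer (Q : Set X) ≤ Q :=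
    (Components.centralizer_pCore_le_iff_layer hO).mpr
      (Components.layer_eq_bot_of_pLayer hO (Components.isPConstrained_iff.mp hc))
  have hVab := fun a b => CfsgLib.PGroup.Frattini.quotient_mul_comm hQ2 a b
  have hV2 := fun a => CfsgLib.PGroup.Frattini.quotient_pow_eq_one hQ2 a
  have hcard : Nat.card (Q ⧸ frattini Q) ≤ 16 := by
    have h := h4 ⊤ ((frattini Q).subgroupOf ⊤) ⊤
    let π : (⊤ : Subgroup Q) →* Q ⧸ frattini Q := (QuotientGroup.mk' (frattini Q)).comp (⊤ : Subgroup Q).subtype
    have hπ : Function.Surjective π := fun v => by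
      obtain ⟨v, rfl⟩ := QuotientGroup.mk'_surjective (frattini Q) v
      exact ⟨⟨v, Subgroup.mem_top v⟩, rfl⟩
    have hker : π.ker = (frattini Q).subgroupOf ⊤ := by
      ext v
      exact QuotientGroup.eq_one_iff (v : Q)
    let e := (QuotientGroup.quotientMulEquivOfEq hker.symm).trans (QuotientGroup.quotientKerEquivOfSurjective π hπ)
    have h2 := h ⟨⟨fun a b => Subtype.ext (e.injective (by rw [Subgroup.coe_mul, Subgroup.coe_mul, map_mul, map_mul]; exact hVab _ _))⟩⟩
      (fun a _ => e.injective (by rw [map_pow, map_one]; exact hV2 _))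
    rw [Subgroup.card_top, Nat.card_congr e.toEquiv] at h2
    exact h2
  obtain ⟨f, hf⟩ := exists_embedding hVab hV2 hcard
  -- the action on the Frattini quotient
  let cj : X →* MulAut Q := MulAut.conjNormal
  have hchar : ∀ g : X, (frattini Q).map (cj g : Q ≃* Q).toMonoidHom = frattini Q := fun g =>
    Subgroup.characteristic_iff_map_eq.1 inferInstance (cj g)
  let φ : X →* MulAut (Q ⧸ frattini Q) :=
    { toFun := fun g => QuotientGroup.congr _ _ (cj g) (hchar g)
      map_one' := MulEquiv.ext fun v => by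
        induction v using QuotientGroup.induction_on with
        | _ v => exact congrArg QuotientGroup.mk (by rw [map_one]; rfl)
      map_mul' := fun a b => MulEquiv.ext fun v => by
        induction v using QuotientGroup.induction_on with
        | _ v => exact congrArg QuotientGroup.mk (by rw [map_mul]; rfl) }
  have hφ : ∀ (g : X) (v : Q), φ g (v : Q ⧸ frattini Q) = ((cj g v : Q) : Q ⧸ frattini Q) := fun _ _ => rfl
  have hKQ : φ.ker = Q := by
    refine le_antisymm ?_ ?_
    · refine CfsgLib.Solvable.Cores.le_pCore ?_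
      -- the kernel is a 2-group
      rintro ⟨g, hg⟩
      obtain ⟨a, m, hm, he⟩ := Nat.exists_eq_pow_mul_and_not_dvd (orderOf_pos g).ne' 2 (by norm_num)
      refine ⟨a, Subtype.ext ?_⟩
      show g ^ 2 ^ a = 1
      set h := g ^ 2 ^ a with hh
      have hord : orderOf h = m := by
        rw [hh, orderOf_pow_of_dvd (by simp) (by rw [he]; exact dvd_mul_right _ m), he,
          Nat.mul_div_cancel_left _ (by positivity)]
      have hhK : h ∈ φ.ker := pow_mem hg _
      let N : Subgroup X := (frattini Q).map Q.subtype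
      haveI hNn : N.Normal := inferInstance
      have hcop : (Nat.card (Subgroup.zpowers h)).Coprime (Nat.card N) := by
        obtain ⟨j, hj⟩ := IsPGroup.iff_card.1 ((hQ2.to_subgroup (frattini Q)).map Q.subtype)
        rw [Nat.card_zpowers, hord, hj]
        exact ((Nat.prime_two.coprime_iff_not_dvd.2 hm).pow_left j).symm
      have hcen : ∀ q : Q, h * (q : X) = (q : X) * h := by
        let Cq : Subgroup Q := (Subgroup.centralizer ({h} : Set X)).subgroupOf Q
        have htop : Cq ⊔ frattini Q = ⊤ := by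
          rw [eq_top_iff]
          intro q _
          obtain ⟨n, hn, hnq⟩ := CfsgLib.Coprime.exists_mul_mem_centralizer (A := Subgroup.zpowers h) (N := N)
            (k := (q : X)) (by rw [Subgroup.normalizer_eq_top]; exact le_top) hcop
            (Or.inr (IsNilpotent.to_isSolvable
              (h := ((hQ2.to_subgroup (frattini Q)).map Q.subtype).isNilpotent)))
            (fun b hb => by
              have hbK : φ b = 1 := (Subgroup.zpowers_le.2 hhK) hb
              have h1 := hφ b q
              rw [hbK, MulAut.one_apply] at h1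
              have h2 : ((cj b q : Q) * q⁻¹) ∈ frattini Q := by
                rw [← QuotientGroup.eq_one_iff, QuotientGroup.mk_mul, QuotientGroup.mk_inv, ← h1, mul_inv_cancel]
              exact ⟨_, h2, by simp [cj, commutatorElement_def]⟩)
          obtain ⟨n', hn', rfl⟩ := hn
          have h3 : n' * q ∈ Cq := by
            refine Subgroup.mem_subgroupOf.2 (Subgroup.mem_centralizer_singleton_iff.2 ?_)
            exact (Subgroup.mem_centralizer_iff.1 hnq h (Subgroup.mem_zpowers h)).symm
          have h4 : q = n'⁻¹ * (n' * q) := (inv_mul_cancel_left n' q).symm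
          rw [h4]
          exact mul_mem (Subgroup.mem_sup_right (inv_mem hn')) (Subgroup.mem_sup_left h3)
        intro q
        have h5 : q ∈ Cq := by rw [frattini_nongenerating htop]; exact Subgroup.mem_top q
        exact (Subgroup.mem_centralizer_singleton_iff.1 (Subgroup.mem_subgroupOf.1 h5)).symm
      have hhQ : h ∈ Q := hCQ (Subgroup.mem_centralizer_iff.2 fun q hq => (hcen ⟨q, hq⟩).symm)
      obtain ⟨i, hi⟩ := IsPGroup.iff_orderOf.1 hQ2 ⟨h, hhQ⟩
      rw [Subgroup.orderOf_mk, hord] at hi
      rcases i with _ | i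
      · rw [← orderOf_eq_one_iff, hord, hi, pow_zero]
      · exact absurd (hi ▸ dvd_pow_self 2 i.succ_ne_zero) hm
    · intro q hq
      rw [MonoidHom.mem_ker]
      refine MulEquiv.ext fun v => ?_
      induction v using QuotientGroup.induction_on with
      | _ v =>
        rw [hφ, show cj q v = (⟨q, hq⟩ : Q) * v * (⟨q, hq⟩ : Q)⁻¹ from Subtype.ext (by simp [cj]),
          QuotientGroup.mk_mul, QuotientGroup.mk_mul, QuotientGroup.mk_inv, hVab ((⟨q, hq⟩ : Q) : Q ⧸ frattini Q) (v : Q ⧸ frattini Q),
          mul_inv_cancel_right]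
        rfl
  refine ⟨f.comp (QuotientGroup.lift Q φ hKQ.ge), hf.comp ?_⟩
  exact (QuotientGroup.injective_lift_iff Q φ hKQ.ge).2 hKQ.symm

end Cfsg.Agent.S3103
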