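import Cfsg.Statements.S3104
import Cfsg.Agent.Lib.Sectional.FrattiniAction
import Cfsg.Agent.Lib.Sectional.OddCoreA8
import Cfsg.Agent.Lib.LocalEven.TwoFactor.LeCore
import Cfsg.Agent.S2553
import Cfsg.Agent.S0255

set_option autoImplicit false
open Cfsg

namespace Cfsg.Agent.S3104

open CfsgLib.PGroup.TrivialCores in
/-- The possible quotients, with their orders. -/
theorem quotient_cases {Q : Type*} [Group Q] [Finite Q] (hns : ¬ Group.IsSolvable Q)
    (h2 : Cfsg.pCore 2 Q = ⊥) (θ : Q →* GL (Fin 4) (ZMod 2)) (hθ : Function.Injective θ) :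
    ((∃ (F : Type) (_ : Field F) (_ : Fintype F), Fintype.card F = 2 ∧
          Nonempty (Q ≃* Matrix.ProjectiveSpecialLinearGroup (Fin 3) F)) ∨
        (∃ n : ℕ, 5 ≤ n ∧ n ≤ 8 ∧ Nonempty (Q ≃* ↥(alternatingGroup (Fin n)))) ∨
        (∃ n : ℕ, 5 ≤ n ∧ n ≤ 7 ∧ Nonempty (Q ≃* Equiv.Perm (Fin n))) ∨
        (Nat.card ↥(Cfsg.pCore 3 Q) = 3 ∧
          (Nonempty (Q ⧸ Cfsg.pCore 3 Q ≃* ↥(alternatingGroup (Fin 5))) ∨
            Nonempty (Q ⧸ Cfsg.pCore 3 Q ≃* Equiv.Perm (Fin 5))))) := by
  classical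
  let eH : Q ≃* θ.range := MonoidHom.ofInjective hθ
  by_cases hodd : Cfsg.pPrimeCore 2 Q = ⊥
  · have hne : Nat.card Q ≠ 1 := fun h => by
      haveI : Subsingleton Q := (Nat.card_eq_one_iff_unique.1 h).1
      exact hns (Group.isSolvable_of_comm fun a b => Subsingleton.elim _ _)
    have hG : Good θ.range := (⟨hne, h2, hodd⟩ : Good Q).of_equiv eH
    rcases Cfsg.Agent.S2553.result θ.range (fun h => hG.ne_one (by rw [h, Subgroup.card_bot]))
        hG.odd hG.two with ⟨n, h5, h8, ⟨e⟩⟩ | ⟨⟨e⟩⟩ | ⟨⟨e⟩⟩ | ⟨⟨e⟩⟩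
    · exact Or.inr (Or.inl ⟨n, h5, h8, ⟨eH.trans e⟩⟩)
    · exact Or.inr (Or.inr (Or.inl ⟨5, le_rfl, by norm_num, ⟨eH.trans e⟩⟩))
    · exact Or.inr (Or.inr (Or.inl ⟨6, by norm_num, by norm_num, ⟨eH.trans e⟩⟩))
    · haveI := Cfsg.Agent.S2553.simple_gl3
      haveI := CfsgLib.Classical.psl_fin_isSimpleGroup (F := ZMod 2) (k := 3) (by norm_num) (by norm_num)
      obtain ⟨f⟩ := CfsgLib.Sporadic.SimpleIso168.unique (G := GL (Fin 3) (ZMod 2))
        (H := Matrix.ProjectiveSpecialLinearGroup (Fin 3) (ZMod 2))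
        (by rw [Matrix.card_GL_field, ZMod.card]; decide +kernel)
        (Cfsg.Agent.S0255.card168 (ZMod.card 2))
      exact Or.inl ⟨ZMod 2, inferInstance, inferInstance, ZMod.card 2, ⟨(eH.trans e).trans f⟩⟩
  · -- a normal subgroup of order three with quotient alternating or symmetric of degree five
    obtain ⟨e⟩ := CfsgLib.Sporadic.LinearEight.gl_four_two (F := ZMod 2) (ZMod.card 2)
    let ψ : Q →* Equiv.Perm (Fin 8) :=
      ((alternatingGroup (Fin 8)).subtype.comp e.toMonoidHom).comp θ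
    have hψ : Function.Injective ψ := (Subtype.val_injective.comp e.injective).comp hθ
    let eK : Q ≃* ψ.range := MonoidHom.ofInjective hψ
    have hK : ψ.range ≤ alternatingGroup (Fin 8) := by rintro _ ⟨q, rfl⟩; exact (e (θ q)).2
    have hnsK : ¬ Group.IsSolvable ψ.range := fun h =>
      hns (haveI := h; Group.isSolvable_of_isSolvable_injective (f := eK.toMonoidHom) eK.injective)
    haveI : ((Cfsg.pPrimeCore 2 Q).map eK.toMonoidHom).Normal :=
      Subgroup.Normal.map inferInstance _ eK.surjective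
    have hR : Nat.card ((Cfsg.pPrimeCore 2 Q).map eK.toMonoidHom) = Nat.card (Cfsg.pPrimeCore 2 Q) :=
      Subgroup.card_map_of_injective eK.injective
    obtain ⟨π, hπ3, hπns⟩ := CfsgLib.Sectional.OddCoreA8.structure_odd hK hnsK
      ((Cfsg.pPrimeCore 2 Q).map eK.toMonoidHom)
      (fun h => hodd ((Subgroup.map_eq_bot_iff_of_injective _ eK.injective).1 h))
      (by rw [hR]; exact Nat.Coprime.odd_of_right
            (CfsgLib.Solvable.Cores.coprime_card_pPrimeCore (G := Q) 2))
    let π' : Q →* Equiv.Perm (Fin 5) := π.comp eK.toMonoidHom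
    have hr : π'.range = π.range := by
      ext x
      exact ⟨fun ⟨q, hq⟩ => ⟨eK q, hq⟩, fun ⟨k, hk⟩ => ⟨eK.symm k, by
        show π (eK (eK.symm k)) = x; rw [eK.apply_symm_apply, hk]⟩⟩
    have hk3 : Nat.card π'.ker = 3 := by
      rw [← hπ3]
      exact Nat.card_congr (eK.toEquiv.subtypeEquiv fun q => Iff.rfl)
    have hcases := CfsgLib.Sectional.OddCoreA8.nonsolvable_five hπns
    haveI : IsSimpleGroup (alternatingGroup (Fin 5)) :=
      alternatingGroup.isSimpleGroup (by rw [Nat.card_fin])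
    have hle : Cfsg.pCore 3 Q ≤ π'.ker := by
      haveI : (Cfsg.pCore 3 Q).Normal := inferInstance
      set M := (Cfsg.pCore 3 Q).map π' with hM
      have hMp : IsPGroup 3 M := (CfsgLib.Solvable.Cores.isPGroup_pCore 3).map π'
      have hA : ∀ g ∈ alternatingGroup (Fin 5), g ∈ π.range := by
        rcases hcases with h | h <;> rw [h] <;> intro g hg
        · exact hg
        · exact Subgroup.mem_top g
      have hn : (M.subgroupOf (alternatingGroup (Fin 5))).Normal := ⟨fun x hx g => by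
        rw [Subgroup.mem_subgroupOf] at hx ⊢
        obtain ⟨q, hq⟩ := (show (g : Equiv.Perm (Fin 5)) ∈ π'.range by rw [hr]; exact hA g g.2)
        obtain ⟨p, hp, hp'⟩ := hx
        exact ⟨q * p * q⁻¹, Subgroup.Normal.conj_mem inferInstance p hp q, by
          rw [map_mul, map_mul, map_inv, hq, hp']; rfl⟩⟩
      have hbot : M ⊓ alternatingGroup (Fin 5) = ⊥ := by
        rcases hn.eq_bot_or_eq_top with h | h
        · exact disjoint_iff.1 (Subgroup.subgroupOf_eq_bot.1 h)
        · exfalso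
          haveI : Fact (Nat.Prime 3) := ⟨Nat.prime_three⟩
          obtain ⟨k, hk⟩ := IsPGroup.iff_card.1 hMp
          have hd := Subgroup.card_dvd_of_le (Subgroup.subgroupOf_eq_top.1 h)
          rw [hk, Nat.card_eq_fintype_card, card_alternatingGroup] at hd
          have : 5 ∣ 3 ^ k := (show 5 ∣ (Fintype.card (Fin 5)).factorial / 2 by decide).trans hd
          have := (Nat.prime_dvd_prime_iff_eq Nat.prime_five Nat.prime_three).1
            (Nat.prime_five.dvd_of_dvd_pow this)
          omega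
      have h2' := CfsgLib.PGroup.SubgroupsA8.card_le_two_of_inf_eq_bot hbot
      haveI : Fact (Nat.Prime 3) := ⟨Nat.prime_three⟩
      obtain ⟨k, hk⟩ := IsPGroup.iff_card.1 hMp
      have hk0 : k = 0 := by
        by_contra h0
        have : 3 ^ 1 ≤ 3 ^ k := Nat.pow_le_pow_right (by norm_num) (by omega)
        omega
      rw [hk0, pow_zero, Subgroup.card_eq_one] at hk
      exact (Subgroup.map_eq_bot_iff _).1 hk
    have heq : π'.ker = Cfsg.pCore 3 Q := by
      haveI : Fact (Nat.Prime 3) := ⟨Nat.prime_three⟩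
      refine le_antisymm ?_ hle
      exact CfsgLib.Solvable.Cores.le_pCore (IsPGroup.of_card (n := 1) (by rw [hk3, pow_one]))
    refine Or.inr (Or.inr (Or.inr ⟨by rw [← heq, hk3], ?_⟩))
    let q : Q ⧸ Cfsg.pCore 3 Q ≃* π.range := (QuotientGroup.quotientMulEquivOfEq heq.symm).trans
      ((QuotientGroup.quotientKerEquivRange π').trans (MulEquiv.subgroupCongr hr))
    rcases hcases with h | h
    · exact Or.inl ⟨q.trans (MulEquiv.subgroupCongr h)⟩
    · exact Or.inr ⟨q.trans ((MulEquiv.subgroupCongr h).trans Subgroup.topEquiv)⟩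

/-- Let X be a finite nonsolvable 2-constrained group with no nontrivial normal subgroup of odd order such that O₂(X) has sectional 2-rank at most 4, and write Q for X/O₂(X). Then Q is isomorphic to the projective special linear group of dimension 3 over the field with 2 elements, to an alternating group of degree n with 5 ≤ n ≤ 8, to a symmetric group of degree n with 5 ≤ n ≤ 7, or else O₃(Q) has order 3 and Q/O₃(Q) is isomorphic to the alternating or the symmetric group of degree 5 (so Q is the direct product of a group of order 3 with the alternating group of degree 5, or an extension of that direct product by a group of order 2). If moreover X itself has sectional 2-rank at most 4, then Q is not isomorphic to the symmetric group of degree 6 or 7 nor to the alternating group of degree 8. -/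
theorem result {X : Type*} [Group X] [Finite X] (hns : ¬ Group.IsSolvable X) (hc : Cfsg.IsPConstrained 2 X) (hO : Cfsg.oddCore X = ⊥)
    (h4 : Cfsg.SectionalPRankLE 2 4 ↥(Cfsg.pCore 2 X)) :
    ((∃ (F : Type) (_ : Field F) (_ : Fintype F), Fintype.card F = 2 ∧
          Nonempty (X ⧸ Cfsg.pCore 2 X ≃* Matrix.ProjectiveSpecialLinearGroup (Fin 3) F)) ∨
        (∃ n : ℕ, 5 ≤ n ∧ n ≤ 8 ∧ Nonempty (X ⧸ Cfsg.pCore 2 X ≃* ↥(alternatingGroup (Fin n)))) ∨
        (∃ n : ℕ, 5 ≤ n ∧ n ≤ 7 ∧ Nonempty (X ⧸ Cfsg.pCore 2 X ≃* Equiv.Perm (Fin n))) ∨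
        (Nat.card ↥(Cfsg.pCore 3 (X ⧸ Cfsg.pCore 2 X)) = 3 ∧
          (Nonempty ((X ⧸ Cfsg.pCore 2 X) ⧸ Cfsg.pCore 3 (X ⧸ Cfsg.pCore 2 X) ≃* ↥(alternatingGroup (Fin 5))) ∨
            Nonempty ((X ⧸ Cfsg.pCore 2 X) ⧸ Cfsg.pCore 3 (X ⧸ Cfsg.pCore 2 X) ≃* Equiv.Perm (Fin 5))))) ∧
      (Cfsg.SectionalPRankLE 2 4 X →
        ¬ (Nonempty (X ⧸ Cfsg.pCore 2 X ≃* Equiv.Perm (Fin 6)) ∨ Nonempty (X ⧸ Cfsg.pCore 2 X ≃* Equiv.Perm (Fin 7)) ∨
            Nonempty (X ⧸ Cfsg.pCore 2 X ≃* ↥(alternatingGroup (Fin 8))))) := by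
  classical
  set Q := X ⧸ Cfsg.pCore 2 X
  have hQns : ¬ Group.IsSolvable Q := by
    intro hQ
    haveI : Fact (Nat.Prime 2) := ⟨Nat.prime_two⟩
    refine hns (CfsgLib.Sectional.OddCoreA8.isSolvable_of_ker (QuotientGroup.mk' (Cfsg.pCore 2 X)) ?_ hQ)
    rw [QuotientGroup.ker_mk']
    exact IsNilpotent.to_isSolvable
      (h := (CfsgLib.Solvable.Cores.isPGroup_pCore (G := X) 2).isNilpotent)
  have hQ2 : Cfsg.pCore 2 Q = ⊥ := CfsgLib.LocalEven.TwoFactor.pCore_quotient_bot X
  obtain ⟨ρ, -, hker, -, -, -⟩ := CfsgLib.Sectional.FrattiniAction.exists_action hc hO h4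
  have hk : ρ.ker = Cfsg.pCore 2 X := by ext g; exact hker g
  refine ⟨quotient_cases hQns hQ2 (QuotientGroup.lift _ ρ hk.ge)
    ((QuotientGroup.injective_lift_iff _ ρ hk.ge).2 hk.symm), fun hX hor => ?_⟩
  have c720 : Nat.card (Equiv.Perm (Fin 6)) = 720 := by
    rw [Nat.card_perm, Nat.card_fin]; rfl
  have c20160 : Nat.card (alternatingGroup (Fin 8)) = 20160 := CfsgLib.Sectional.OddCoreA8.card_alt
  rcases hor with ⟨⟨e⟩⟩ | ⟨⟨e⟩⟩ | ⟨⟨e⟩⟩
  · exact CfsgLib.Sectional.FrattiniAction.not_sectional hc hO h4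
      (Or.inl ((Nat.card_congr e.toEquiv).trans c720)) hX
  · -- order 5040 would give a subgroup of index four of a simple group
    obtain ⟨g⟩ := CfsgLib.Sporadic.LinearEight.gl_four_two (F := ZMod 2) (ZMod.card 2)
    let ψ : Q →* Equiv.Perm (Fin 8) := ((alternatingGroup (Fin 8)).subtype.comp g.toMonoidHom).comp
      (QuotientGroup.lift _ ρ hk.ge)
    have hψ : Function.Injective ψ := (Subtype.val_injective.comp g.injective).comp
      ((QuotientGroup.injective_lift_iff _ ρ hk.ge).2 hk.symm)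
    have hle : ψ.range ≤ alternatingGroup (Fin 8) := by rintro _ ⟨q, rfl⟩; exact (g _).2
    have hcard : Nat.card ψ.range = 5040 := by
      rw [← Nat.card_congr (MonoidHom.ofInjective hψ).toEquiv, Nat.card_congr e.toEquiv, Nat.card_perm,
        Nat.card_fin]; rfl
    have hne : ψ.range ≠ alternatingGroup (Fin 8) := fun h => by rw [h, c20160] at hcard; omega
    have hfac := CfsgLib.PGroup.AltGen.card_le_factorial (by rw [Fintype.card_fin]; norm_num) hle hne
    have hmul := Subgroup.card_mul_index (ψ.range.subgroupOf (alternatingGroup (Fin 8)))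
    rw [Nat.card_congr (Subgroup.subgroupOfEquivOfLe hle).toEquiv, hcard, c20160] at hmul
    rw [c20160, Subgroup.relIndex, show (ψ.range.subgroupOf (alternatingGroup (Fin 8))).index = 4 by omega]
      at hfac
    exact absurd hfac (by decide)
  · exact CfsgLib.Sectional.FrattiniAction.not_sectional hc hO h4
      (Or.inr ((Nat.card_congr e.toEquiv).trans c20160)) hX

end Cfsg.Agent.S3104
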