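import Cfsg.Statements.S3105
import Cfsg.Agent.Lib.Sectional.L32.Radical
import Cfsg.Agent.Lib.Sectional.FrattiniAction
import Cfsg.Agent.Lib.NumberTheory.SectionalRankFour
import Cfsg.Agent.Lib.TwoGroups.MacWilliams.Central
import Cfsg.Agent.S2553
import Cfsg.Agent.S0255

set_option autoImplicit false
open Cfsg

namespace Cfsg.Agent.S3105

open CfsgLib.Sectional.L32

theorem vec_decomp : ∀ w : V3, ((w 0).val • (![1, 0, 0] : V3)) + (w 1).val • (![0, 1, 0] : V3) +
    (w 2).val • (![0, 0, 1] : V3) = w := by decide +kernel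

theorem pow_val_add {G : Type*} [Group G] {n : ℕ} [NeZero n] {x : G} (hx : x ^ n = 1) (a b : ZMod n) :
    x ^ (a + b).val = x ^ a.val * x ^ b.val := by
  rw [ZMod.val_add, ← pow_add, pow_eq_pow_mod (a.val + b.val) hx]

/-- The layer of order two gives the asserted direct product. -/
theorem product {Y : Type*} [Group Y] [Finite Y] {O P : Subgroup Y} {π : Y →* G3} (L : Lay O P π)
    (hrk : Cfsg.SectionalPRankLE 2 4 Y) (hg : Gen O P) (h2 : Nat.card P = 2) :
    Nonempty (O ≃* Multiplicative (ZMod 4) × (Fin 3 → Multiplicative (ZMod 2))) := by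
  classical
  haveI := L.normalP
  obtain ⟨hcomm, hcen, hO, K, hKn, hPK, hKO, hK16, hKmem⟩ := L.order_two hrk hg h2
  haveI := hKn
  obtain ⟨-, α, p, -, hadd, hzero, honto, -⟩ := L.hyper_coords hrk K hPK hKO (by rw [h2, hK16])
  obtain ⟨q, hq, hq1⟩ : ∃ q ∈ O, q * q ≠ 1 := by
    by_contra hcon
    push Not at hcon
    have := Subgroup.card_le_of_le (show O ≤ K from fun x hx => (hKmem x).2 ⟨hx, hcon x hx⟩)
    omega
  have hq4 : q ^ 4 = 1 := by
    have hm := L.sq_mem q hq
    have h := ((hKmem _).1 (hPK hm)).2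
    simpa [pow_succ, mul_assoc] using h
  have hp0 : ∀ k ∈ K, ∀ n : ℕ, p (k ^ n) = n • p k := by
    intro k hk n
    induction n with
    | zero => rw [pow_zero, zero_smul, (hzero 1 (one_mem K)).2 (one_mem P)]
    | succ n ih => rw [pow_succ, hadd _ (pow_mem hk n) _ hk, ih, succ_nsmul]
  obtain ⟨b0, hb0, e0⟩ := honto ![1, 0, 0]
  obtain ⟨b1, hb1, e1⟩ := honto ![0, 1, 0]
  obtain ⟨b2, hb2, e2⟩ := honto ![0, 0, 1]
  letI : CommGroup O := { (inferInstance : Group O) with
    mul_comm := fun x y => Subtype.ext (hcomm x x.2 y y.2) }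
  let Q : O := ⟨q, hq⟩
  let B : Fin 3 → O := ![⟨b0, hKO hb0⟩, ⟨b1, hKO hb1⟩, ⟨b2, hKO hb2⟩]
  have hQ : Q ^ 4 = 1 := Subtype.ext hq4
  have hb : ∀ b ∈ K, b ^ 2 = 1 := fun b hb => by rw [pow_two]; exact ((hKmem b).1 hb).2
  have hB : ∀ i, B i ^ 2 = 1 := by
    intro i
    fin_cases i
    · exact Subtype.ext (hb _ hb0)
    · exact Subtype.ext (hb _ hb1)
    · exact Subtype.ext (hb _ hb2)
  let f : Multiplicative (ZMod 4) × (Fin 3 → Multiplicative (ZMod 2)) →* O :=
    MonoidHom.mk' (fun x => Q ^ x.1.toAdd.val * (B 0 ^ (x.2 0).toAdd.val * B 1 ^ (x.2 1).toAdd.val *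
      B 2 ^ (x.2 2).toAdd.val)) fun a b => by
      simp only [Prod.fst_mul, Prod.snd_mul, Pi.mul_apply, toAdd_mul]
      rw [pow_val_add hQ, pow_val_add (hB 0), pow_val_add (hB 1), pow_val_add (hB 2)]
      simp only [mul_assoc, mul_comm, mul_left_comm]
  have hinj : Function.Injective f := by
    rw [injective_iff_map_eq_one]
    rintro ⟨i, w⟩ h
    have h' : q ^ i.toAdd.val * (b0 ^ (w 0).toAdd.val * b1 ^ (w 1).toAdd.val * b2 ^ (w 2).toAdd.val) = 1 :=
      congrArg Subtype.val h
    set θ := b0 ^ (w 0).toAdd.val * b1 ^ (w 1).toAdd.val * b2 ^ (w 2).toAdd.val with hθ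
    have hθK : θ ∈ K := mul_mem (mul_mem (pow_mem hb0 _) (pow_mem hb1 _)) (pow_mem hb2 _)
    have hqi : q ^ i.toAdd.val ∈ K := by
      rw [eq_inv_of_mul_eq_one_left h']; exact inv_mem hθK
    have hqP : q ^ i.toAdd.val ∈ P := by
      have h4 : i.toAdd.val < 4 := ZMod.val_lt _
      have hsq := ((hKmem _).1 hqi).2
      interval_cases hv : i.toAdd.val
      · rw [pow_zero]; exact one_mem P
      · rw [pow_one] at hsq; exact absurd hsq hq1
      · rw [pow_two]; exact L.sq_mem q hq
      · exfalso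
        rw [← pow_add, show 3 + 3 = 4 + 2 by norm_num, pow_add, hq4, one_mul, pow_two] at hsq
        exact hq1 hsq
    have hpθ : p θ = fun j => (w j).toAdd := by
      rw [hθ, hadd _ (mul_mem (pow_mem hb0 _) (pow_mem hb1 _)) _ (pow_mem hb2 _),
        hadd _ (pow_mem hb0 _) _ (pow_mem hb1 _), hp0 _ hb0, hp0 _ hb1, hp0 _ hb2, e0, e1, e2]
      exact vec_decomp fun j => (w j).toAdd
    have hθP : θ ∈ P := by
      rw [eq_inv_of_mul_eq_one_right h']; exact inv_mem hqP
    have hw : w = 1 := funext fun j => Multiplicative.toAdd.injective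
      (congrFun (hpθ.symm.trans ((hzero θ hθK).2 hθP)) j)
    have hi : i = 1 := by
      have hθ1 : θ = 1 := by rw [hθ, hw]; simp
      rw [hθ1, mul_one] at h'
      have h4 : i.toAdd.val < 4 := ZMod.val_lt _
      have hv0 : i.toAdd.val = 0 := by
        interval_cases hv : i.toAdd.val
        · rfl
        · rw [pow_one] at h'; exact absurd (by rw [h', one_mul]) hq1
        · rw [pow_two] at h'; exact absurd h' hq1
        · exfalso
          have := congrArg (fun t => t * q) h'
          simp only [← pow_succ, one_mul] at this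
          rw [hq4] at this
          exact hq1 (by rw [← this, one_mul])
      exact Multiplicative.toAdd.injective ((ZMod.val_eq_zero _).1 hv0)
    rw [hi, hw]; rfl
  haveI := Fintype.ofFinite O
  refine ⟨(MulEquiv.ofBijective f ((Nat.bijective_iff_injective_and_card f).2 ⟨hinj, ?_⟩)).symm⟩
  rw [hO, Nat.card_prod, Nat.card_fun, Nat.card_congr Multiplicative.toAdd, Nat.card_congr Multiplicative.toAdd,
    Nat.card_zmod, Nat.card_zmod, Nat.card_fin]
  rfl

/-- Let X be a finite nonsolvable 2-constrained group with no nontrivial normal subgroup of odd order and of sectional 2-rank at most 4, and suppose X/O₂(X) is isomorphic to the projective special linear group of dimension 3 over the field with 2 elements. Then O₂(X) is elementary abelian of order 8 or 16, or is isomorphic to the direct product of a cyclic group of order 4 and an elementary abelian group of order 8. -/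
theorem result {X : Type*} [Group X] [Finite X] (hns : ¬ Group.IsSolvable X) (hc : Cfsg.IsPConstrained 2 X) (hO : Cfsg.oddCore X = ⊥)
    (h4 : Cfsg.SectionalPRankLE 2 4 X) {F : Type*} [Field F] [Fintype F] (hF : Fintype.card F = 2)
    (hQ : Nonempty (X ⧸ Cfsg.pCore 2 X ≃* Matrix.ProjectiveSpecialLinearGroup (Fin 3) F)) :
    (Cfsg.IsElementaryAbelian 2 (Cfsg.pCore 2 X) ∧ (Nat.card ↥(Cfsg.pCore 2 X) = 8 ∨ Nat.card ↥(Cfsg.pCore 2 X) = 16)) ∨
      Nonempty (↥(Cfsg.pCore 2 X) ≃* Multiplicative (ZMod 4) × (Fin 3 → Multiplicative (ZMod 2))) := by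
  classical
  haveI : Fact (Nat.Prime 2) := ⟨Nat.prime_two⟩
  obtain ⟨eQ⟩ := hQ
  haveI := CfsgLib.Classical.psl_fin_isSimpleGroup (F := F) (k := 3) (by norm_num) (by norm_num)
  haveI := Cfsg.Agent.S2553.simple_gl3
  obtain ⟨iso⟩ := CfsgLib.Sporadic.SimpleIso168.unique (G := Matrix.ProjectiveSpecialLinearGroup (Fin 3) F)
    (H := G3) (Cfsg.Agent.S0255.card168 hF) card_g3
  haveI hOn : (Cfsg.pCore 2 X).Normal := CfsgLib.Solvable.Cores.pCore_normal 2
  have h2 : IsPGroup 2 (Cfsg.pCore 2 X) := CfsgLib.Solvable.Cores.isPGroup_pCore 2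
  set O := Cfsg.pCore 2 X with hOdef
  let π : X →* G3 := (eQ.trans iso).toMonoidHom.comp (QuotientGroup.mk' O)
  have hs : Function.Surjective π := (eQ.trans iso).surjective.comp (QuotientGroup.mk'_surjective O)
  have hk : π.ker = O := by
    ext x
    rw [MonoidHom.mem_ker]
    show (eQ.trans iso) (QuotientGroup.mk' O x) = 1 ↔ _
    rw [map_eq_one_iff _ (eQ.trans iso).injective, QuotientGroup.mk'_apply, QuotientGroup.eq_one_iff]
  obtain ⟨ρ, f, -, hadd, -, -, hmv⟩ := CfsgLib.Sectional.FrattiniAction.exists_action hc hO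
    (CfsgLib.NumberTheory.SectionalRankFour.sectional_subgroup h4 O)
  have hsq : ∀ q : O, q * q ∈ frattini O := fun q => by
    rw [← pow_two]; exact CfsgLib.PGroup.Frattini.pow_mem_frattini h2 q
  have hmoves : ∀ g : X, g ∉ O → ∃ q ∈ O, g * q * g⁻¹ * q⁻¹ ∉ (frattini O).map O.subtype := by
    intro g hg
    by_contra hcon
    push Not at hcon
    refine hg (hmv g fun q hq => ?_)
    let F' : O →* Multiplicative (Fin 4 → ZMod 2) :=
      MonoidHom.mk' (fun x => Multiplicative.ofAdd (f x)) fun x y => by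
        show Multiplicative.ofAdd (f ((x : X) * y)) = _
        rw [hadd x x.2 y y.2]; rfl
    have hF' : ∀ x ∈ frattini O, F' x = 1 := fun x hx =>
      MonoidHom.mem_ker.1 (CfsgLib.TwoGroups.MacWilliams.frattini_le_of_sq (N := F'.ker) (fun a => by
        rw [MonoidHom.mem_ker, map_pow, pow_two]
        exact Multiplicative.toAdd.injective (funext fun i => CharTwo.add_self_eq_zero _)) hx)
    obtain ⟨p, hp, hpe⟩ := hcon q hq
    have hp0 : f (g * q * g⁻¹ * q⁻¹) = 0 := by
      rw [← hpe]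
      exact congrArg Multiplicative.toAdd (hF' _ hp)
    have hm : g * q * g⁻¹ ∈ O := hOn.conj_mem q hq g
    have := hadd (g * q * g⁻¹ * q⁻¹) (mul_mem hm (inv_mem hq)) q hq
    rw [inv_mul_cancel_right, hp0, zero_add] at this
    exact this
  have L : Lay O ((frattini O).map O.subtype) π :=
    ⟨hOn, inferInstance, Subgroup.map_subtype_le _, h2, hs, hk, fun q hq => ⟨_, hsq ⟨q, hq⟩, rfl⟩, hmoves⟩
  have hg : Gen O ((frattini O).map O.subtype) := by
    intro N hN _ hNsq
    haveI := hN
    rw [Subgroup.map_le_iff_le_comap]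
    exact CfsgLib.TwoGroups.MacWilliams.frattini_le_of_sq (fun a => by
      rw [Subgroup.mem_comap, pow_two]; exact hNsq a a.2)
  rcases layer_le_two L h4 hg with h | h
  · left
    have hsq1 : ∀ x ∈ O, x * x = 1 := fun x hx => by
      have := L.sq_mem x hx
      rw [h, Subgroup.mem_bot] at this
      exact this
    refine ⟨⟨CfsgLib.Solvable.Basic.isMulCommutative_subgroup_iff.2 fun a ha b hb => ?_,
      fun a ha => by rw [pow_two]; exact hsq1 a ha⟩, ?_⟩
    · have hi : ∀ c ∈ O, c⁻¹ = c := fun c hc => inv_eq_of_mul_eq_one_right (hsq1 c hc)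
      rw [← hi _ (mul_mem ha hb), mul_inv_rev, hi a ha, hi b hb]
    · have := L.card_eq h4
      rw [h, Subgroup.card_bot] at this
      exact this
  · exact Or.inr (product L h4 hg h)

end Cfsg.Agent.S3105
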