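import Cfsg.Statements.S3106
import Cfsg.Agent.Lib.Sectional.A5Radical
import Cfsg.Agent.Lib.Sectional.FrattiniAction
import Cfsg.Agent.Lib.NumberTheory.SectionalRankFour
import Cfsg.Agent.Lib.TwoGroups.MacWilliams.Central

set_option autoImplicit false
open Cfsg

namespace Cfsg.Agent.S3106

/-- The conclusion in a convenient form for abstract groups. -/
theorem core {Y : Type*} [Group Y] [Finite Y] (O : Subgroup Y) (π : Y →* CfsgLib.Sectional.A5Module.A5)
    (hs : Function.Surjective π) (hk : π.ker = O) (h2 : IsPGroup 2 O)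
    (hmoves : ∀ g, g ∉ O → ∃ q ∈ O, g * q * g⁻¹ * q⁻¹ ∉ (frattini O).map O.subtype)
    (hrk : Cfsg.SectionalPRankLE 2 4 Y) :
    ((∀ x y : O, x * y = y * x) ∧ (∀ x : O, x * x = 1) ∧ Nat.card O = 16) ∨
      (Nat.card O = 32 ∧ ∃ A B : Subgroup O,
        Nonempty (A ≃* QuaternionGroup 2) ∧ Nonempty (B ≃* DihedralGroup 4) ∧
          (∀ a ∈ A, ∀ b ∈ B, a * b = b * a) ∧ A ⊔ B = ⊤ ∧ A ⊓ B = Subgroup.center O) := by
  haveI : Fact (Nat.Prime 2) := ⟨Nat.prime_two⟩
  haveI hOn : O.Normal := hk ▸ inferInstance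
  have hsq : ∀ q : O, q * q ∈ frattini O := fun q => by
    rw [← pow_two]; exact CfsgLib.PGroup.Frattini.pow_mem_frattini h2 q
  have L : CfsgLib.Sectional.Layer.Lay O ((frattini O).map O.subtype) π :=
    ⟨hOn, inferInstance, Subgroup.map_subtype_le _, h2, hs, hk,
      fun q hq => ⟨_, hsq ⟨q, hq⟩, rfl⟩, hmoves⟩
  have hg : CfsgLib.Sectional.A5Radical.Gen O ((frattini O).map O.subtype) := by
    intro N hN _ hNsq
    haveI := hN
    rw [Subgroup.map_le_iff_le_comap]
    exact CfsgLib.TwoGroups.MacWilliams.frattini_le_of_sq (fun a => by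
      rw [Subgroup.mem_comap, pow_two]; exact hNsq a a.2)
  rcases CfsgLib.Sectional.A5Radical.layer_le_two L hrk hg with h | h
  · left
    have hsq1 : ∀ x : O, x * x = 1 := fun x => by
      refine Subtype.ext ?_
      have := L.sq_mem x x.2
      rw [h, Subgroup.mem_bot] at this
      exact this
    refine ⟨fun x y => ?_, hsq1, ?_⟩
    · have hi : ∀ q : O, q⁻¹ = q := fun q => inv_eq_of_mul_eq_one_right (hsq1 q)
      rw [← hi (x * y), mul_inv_rev, hi, hi]
    · rw [L.card_eq hrk, h, Subgroup.card_bot]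
  · exact Or.inr (CfsgLib.Sectional.A5Radical.structure_two L hrk hg h)

/-- Let X be a finite nonsolvable 2-constrained group with no nontrivial normal subgroup of odd order and of sectional 2-rank at most 4, and suppose X/O₂(X) contains a subgroup isomorphic to the alternating group of degree 5. Then O₂(X) is elementary abelian of order 16, or O₂(X) is a central product of a quaternion group of order 8 and a dihedral group of order 8 (it has order 32 and is generated by two elementwise-commuting subgroups, one quaternion of order 8 and one dihedral of order 8, meeting in the centre). -/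
theorem result {X : Type*} [Group X] [Finite X] (hns : ¬ Group.IsSolvable X) (hc : Cfsg.IsPConstrained 2 X) (hO : Cfsg.oddCore X = ⊥)
    (h4 : Cfsg.SectionalPRankLE 2 4 X)
    (hQ : ∃ A : Subgroup (X ⧸ Cfsg.pCore 2 X), Nonempty (↥A ≃* ↥(alternatingGroup (Fin 5)))) :
    (Cfsg.IsElementaryAbelian 2 (Cfsg.pCore 2 X) ∧ Nat.card ↥(Cfsg.pCore 2 X) = 16) ∨
      (Nat.card ↥(Cfsg.pCore 2 X) = 32 ∧ ∃ A B : Subgroup ↥(Cfsg.pCore 2 X),
        Nonempty (↥A ≃* QuaternionGroup 2) ∧ Nonempty (↥B ≃* DihedralGroup 4) ∧ (∀ a ∈ A, ∀ b ∈ B, a * b = b * a) ∧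
          A ⊔ B = ⊤ ∧ A ⊓ B = Subgroup.center ↥(Cfsg.pCore 2 X)) := by
  classical
  haveI : Fact (Nat.Prime 2) := ⟨Nat.prime_two⟩
  obtain ⟨Aq, ⟨eA⟩⟩ := hQ
  set O := Cfsg.pCore 2 X with hOdef
  let X1 : Subgroup X := Aq.comap (QuotientGroup.mk' O)
  have hOX : O ≤ X1 := (QuotientGroup.ker_mk' O).symm.le.trans (MonoidHom.ker_le_comap _ _)
  let π : X1 →* CfsgLib.Sectional.A5Module.A5 :=
    eA.toMonoidHom.comp ((QuotientGroup.mk' O).subgroupComap Aq)
  have hs : Function.Surjective π := by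
    intro a
    obtain ⟨x, hx⟩ := QuotientGroup.mk'_surjective O (eA.symm a : X ⧸ O)
    refine ⟨⟨x, by rw [Subgroup.mem_comap, hx]; exact (eA.symm a).2⟩, ?_⟩
    exact (congrArg eA (Subtype.ext hx)).trans (eA.apply_symm_apply a)
  have hk : π.ker = O.subgroupOf X1 := by
    ext x
    rw [MonoidHom.mem_ker, Subgroup.mem_subgroupOf, ← QuotientGroup.eq_one_iff]
    show eA _ = 1 ↔ _
    rw [map_eq_one_iff eA eA.injective, Subtype.ext_iff]
    rfl
  let e := Subgroup.subgroupOfEquivOfLe hOX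
  have h2 : IsPGroup 2 O := CfsgLib.Solvable.Cores.isPGroup_pCore 2
  obtain ⟨ρ, f, -, hadd, -, -, hmv⟩ := CfsgLib.Sectional.FrattiniAction.exists_action hc hO
    (CfsgLib.NumberTheory.SectionalRankFour.sectional_subgroup h4 O)
  haveI hOn : O.Normal := CfsgLib.Solvable.Cores.pCore_normal 2
  have hmoves : ∀ g : X1, g ∉ O.subgroupOf X1 → ∃ q ∈ O.subgroupOf X1,
      g * q * g⁻¹ * q⁻¹ ∉ (frattini (O.subgroupOf X1)).map (O.subgroupOf X1).subtype := by
    intro g hg
    by_contra hcon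
    push Not at hcon
    refine hg (hmv g fun q hq => ?_)
    let F : O →* Multiplicative (Fin 4 → ZMod 2) :=
      MonoidHom.mk' (fun x => Multiplicative.ofAdd (f x)) fun x y => by
        show Multiplicative.ofAdd (f ((x : X) * y)) = _
        rw [hadd x x.2 y y.2]; rfl
    have hF : ∀ x ∈ frattini O, F x = 1 := fun x hx =>
      MonoidHom.mem_ker.1 (CfsgLib.TwoGroups.MacWilliams.frattini_le_of_sq (N := F.ker) (fun a => by
        rw [MonoidHom.mem_ker, map_pow, pow_two]
        exact Multiplicative.toAdd.injective (funext fun i => CharTwo.add_self_eq_zero _)) hx)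
    obtain ⟨p, hp, hpe⟩ := hcon ⟨q, hOX hq⟩ hq
    have hp' : e p ∈ frattini O := frattini_le_comap_frattini_of_surjective (φ := e.toMonoidHom) e.surjective hp
    have hp0 : f (g * q * (g : X)⁻¹ * q⁻¹) = 0 := by
      have hval : ((e p : O) : X) = (g : X) * q * (g : X)⁻¹ * q⁻¹ := congrArg (fun t : X1 => (t : X)) hpe
      rw [← hval]
      exact congrArg Multiplicative.toAdd (hF _ hp')
    have hm : (g : X) * q * (g : X)⁻¹ ∈ O := hOn.conj_mem q hq g
    have := hadd ((g : X) * q * (g : X)⁻¹ * q⁻¹) (mul_mem hm (inv_mem hq)) q hq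
    rw [inv_mul_cancel_right, hp0, zero_add] at this
    exact this
  have h2' : IsPGroup 2 (O.subgroupOf X1) := h2.of_equiv e.symm
  rcases core (O.subgroupOf X1) π hs hk h2' hmoves
      (CfsgLib.NumberTheory.SectionalRankFour.sectional_subgroup h4 X1) with
    ⟨hcomm, hsq, hcard⟩ | ⟨hcard, A, B, ⟨eQ⟩, ⟨eD⟩, hAB, hsup, hinf⟩
  · refine Or.inl ⟨⟨CfsgLib.Solvable.Basic.isMulCommutative_subgroup_iff.2 fun a ha b hb => ?_,
      fun a ha => ?_⟩, by rw [← Nat.card_congr e.toEquiv, hcard]⟩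
    · exact congrArg (fun t : O => (t : X)) (e.symm.injective (a₁ := ⟨a, ha⟩ * ⟨b, hb⟩) (a₂ := ⟨b, hb⟩ * ⟨a, ha⟩)
        (by rw [map_mul, map_mul]; exact hcomm _ _))
    · exact congrArg (fun t : O => (t : X)) (e.symm.injective (a₁ := ⟨a, ha⟩ ^ 2) (a₂ := 1)
        (by rw [map_pow, map_one, pow_two]; exact hsq _))
  · refine Or.inr ⟨by rw [← Nat.card_congr e.toEquiv, hcard], A.map e.toMonoidHom, B.map e.toMonoidHom,
      ⟨(A.equivMapOfInjective _ e.injective).symm.trans eQ⟩,
      ⟨(B.equivMapOfInjective _ e.injective).symm.trans eD⟩, ?_, ?_, ?_⟩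
    · rintro _ ⟨a, ha, rfl⟩ _ ⟨b, hb, rfl⟩
      rw [← map_mul, ← map_mul, hAB a ha b hb]
    · rw [← Subgroup.map_sup, hsup, Subgroup.map_top_of_surjective _ e.surjective]
    · rw [← Subgroup.map_inf A B _ e.injective, hinf]
      ext x
      obtain ⟨y, rfl⟩ := e.surjective x
      rw [show e y = e.toMonoidHom y from rfl, Subgroup.mem_map_iff_mem e.injective,
        Subgroup.mem_center_iff, Subgroup.mem_center_iff]
      constructor
      · intro h g
        obtain ⟨g, rfl⟩ := e.surjective g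
        show e g * e y = e y * e g
        rw [← map_mul, ← map_mul, h g]
      · intro h g
        exact e.injective (by rw [map_mul, map_mul]; exact h (e g))

end Cfsg.Agent.S3106
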