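import Cfsg.Statements.S3109
import Cfsg.Agent.Lib.FTApps.CoreClosureEmbedded
-- import your own Cfsg.Agent.* helpers here

set_option autoImplicit false
open Cfsg

namespace Cfsg.Agent.S3109

/-- Let G be a non-abelian finite simple group in which every 2-local subgroup is 2-constrained, and suppose some Sylow 2-subgroup S of G has a self-centralizing abelian normal subgroup A (C_S(A) = A) of 2-rank at least 3. Then the centralizer of every involution of G has no nontrivial normal subgroup of odd order. -/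
theorem result {G : Type*} [Group G] [Finite G] [IsSimpleGroup G] (hG : ¬ IsMulCommutative G)
    (h2c : ∀ T : Subgroup G, IsPGroup 2 T → T ≠ ⊥ → Cfsg.IsPConstrained 2 ↥(Subgroup.normalizer (T : Set G)))
    (S : Sylow 2 G) (A : Subgroup ↥(S : Subgroup G)) (hAn : A.Normal) (hAab : IsMulCommutative ↥A)
    (hAC : Subgroup.centralizer (A : Set ↥(S : Subgroup G)) = A) (hA3 : ¬ Cfsg.PRankLE 2 2 ↥A) :
    ∀ t : G, orderOf t = 2 → Cfsg.centralizerPPrimeCore 2 t = ⊥ := by
  classical
  haveI : Fact (Nat.Prime 2) := ⟨Nat.prime_two⟩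
  let E0 : Subgroup ↥(S : Subgroup G) :=
    { carrier := {x | x ∈ A ∧ x ^ 2 = 1}
      one_mem' := ⟨one_mem _, one_pow _⟩
      mul_mem' := fun {a b} ha hb => ⟨mul_mem ha.1 hb.1, by
        rw [Commute.mul_pow (show Commute a b from setLike_mul_comm ha.1 hb.1), ha.2, hb.2,
          one_mul]⟩
      inv_mem' := fun {a} ha => ⟨inv_mem ha.1, by rw [inv_pow, ha.2, inv_one]⟩ }
  haveI hE0n : E0.Normal := ⟨fun x hx g => ⟨hAn.conj_mem x hx.1 g, by
    rw [conj_pow, hx.2, mul_one, mul_inv_cancel]⟩⟩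
  have hE0 : Cfsg.IsElementaryAbelian 2 E0 :=
    ⟨⟨⟨fun a b => Subtype.ext (setLike_mul_comm a.2.1 b.2.1)⟩⟩, fun a ha => ha.2⟩
  have h8 : 8 ≤ Nat.card E0 := by
    simp only [Cfsg.PRankLE, not_forall, not_le] at hA3
    obtain ⟨C, hCc, hC2, hC4⟩ := hA3
    have hle : C.map A.subtype ≤ E0 := by
      rintro _ ⟨c, hc, rfl⟩
      exact ⟨c.2, by rw [← map_pow, hC2 c hc, map_one]⟩
    obtain ⟨n, hn⟩ := (CfsgLib.Components.Signalizer.isPGroup_of_elementary hE0).exists_card_eq
    have h5 := Subgroup.card_le_of_le hle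
    rw [Subgroup.card_map_of_injective A.subtype_injective, hn] at h5
    have h6 : 2 < n := (Nat.pow_lt_pow_iff_right (le_refl 2)).1 (hC4.trans_le h5)
    rw [hn]
    exact (show 8 = 2 ^ 3 by norm_num) ▸ Nat.pow_le_pow_right (by norm_num) h6
  have hconn : Cfsg.IsFourConnected ↥(S : Subgroup G) :=
    Cfsg.Agent.S0502.result S.isPGroup' E0 hE0.1 hE0.2 h8
  have hE : Cfsg.IsElementaryAbelian 2 (E0.map (S : Subgroup G).subtype) := by
    refine ⟨⟨⟨?_⟩⟩, ?_⟩
    · rintro ⟨_, a, ha, rfl⟩ ⟨_, b, hb, rfl⟩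
      refine Subtype.ext ?_
      simp only [Subgroup.coe_mul]
      rw [← map_mul, ← map_mul, setLike_mul_comm ha.1 hb.1]
    · rintro _ ⟨a, ha, rfl⟩
      rw [← map_pow, ha.2, map_one]
  have hE8 : 2 ^ 3 ≤ Nat.card (E0.map (S : Subgroup G).subtype) := by
    rw [Subgroup.card_map_of_injective (S : Subgroup G).subtype_injective]; norm_num; exact h8
  have hO : Cfsg.oddCore G = ⊥ := by
    haveI : (Cfsg.oddCore G).Normal := CfsgLib.Involution.ZStar.oddCore_normal
    refine (IsSimpleGroup.eq_bot_or_eq_top_of_normal _ inferInstance).resolve_right fun htop => ?_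
    have hodd := CfsgLib.Involution.ZStar.odd_card_oddCore (G := G)
    rw [htop, Subgroup.card_top] at hodd
    obtain ⟨n, hn⟩ := (CfsgLib.Components.Signalizer.isPGroup_of_elementary hE).exists_card_eq
    have hd := (E0.map (S : Subgroup G).subtype).card_subgroup_dvd_card
    rw [hn] at hd hE8
    rcases n with _ | n
    · norm_num at hE8
    · exact Nat.not_even_iff_odd.2 hodd
        (even_iff_two_dvd.2 ((dvd_pow_self 2 n.succ_ne_zero).trans hd))
  intro t ht
  exact CfsgLib.FTApps.CoreClosure.core_eq_bot hO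
    (fun _ h => CfsgLib.FTApps.pLayer_centralizer_eq_bot h2c h) S (Subgroup.map_subtype_le _)
    hE hE8 hconn ht

end Cfsg.Agent.S3109
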