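import Cfsg.Statements.S3113
import Cfsg.Agent.Lib.LocalEven.DihedralProduct.Four
import Cfsg.Agent.Lib.LocalEven.ProductFusion.Product

set_option autoImplicit false
open Cfsg

namespace Cfsg.Agent.S3113

/-- Let G be a finite group with no nontrivial normal subgroup of odd order, no proper normal subgroup of odd index and no normal subgroup of index 2, whose Sylow 2-subgroup S is non-abelian and is the internal direct product of two dihedral subgroups (each of order at least 4). Then G is the internal direct product of two normal subgroups G₁ and G₂, and for a suitable such factorization of S into dihedral subgroups S₁ × S₂ the factor Sᵢ is a Sylow 2-subgroup of Gᵢ for i = 1, 2. -/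
theorem result {G : Type*} [Group G] [Finite G] (hO : Cfsg.oddCore G = ⊥) (hidx : ∀ N : Subgroup G, N.Normal → Odd N.index → N = ⊤)
    (h2 : ∀ N : Subgroup G, N.Normal → N.index ≠ 2)
    (S : Sylow 2 G) (hS : ¬ IsMulCommutative ↥(S : Subgroup G))
    (D₁ D₂ : Subgroup G) (hD : Cfsg.IsInternalDirectProduct D₁ D₂ (S : Subgroup G))
    (hD₁ : ∃ m : ℕ, 2 ≤ m ∧ Nonempty (↥D₁ ≃* DihedralGroup m)) (hD₂ : ∃ m : ℕ, 2 ≤ m ∧ Nonempty (↥D₂ ≃* DihedralGroup m)) :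
    ∃ G₁ G₂ : Subgroup G, G₁.Normal ∧ G₂.Normal ∧ Cfsg.IsInternalDirectProduct G₁ G₂ ⊤ ∧
      ∃ S₁ S₂ : Subgroup G, Cfsg.IsInternalDirectProduct S₁ S₂ (S : Subgroup G) ∧
        (∃ m : ℕ, 2 ≤ m ∧ Nonempty (↥S₁ ≃* DihedralGroup m)) ∧ (∃ m : ℕ, 2 ≤ m ∧ Nonempty (↥S₂ ≃* DihedralGroup m)) ∧
        S₁ ≤ G₁ ∧ S₂ ≤ G₂ ∧ ¬ (2 ∣ (S₁.subgroupOf G₁).index) ∧ ¬ (2 ∣ (S₂.subgroupOf G₂).index) := by
  obtain ⟨m₁, hm₁, ⟨e₁⟩⟩ := hD₁
  obtain ⟨m₂, hm₂, ⟨e₂⟩⟩ := hD₂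
  obtain ⟨a₁, x₁, r₁, h₁, rfl⟩ :=
    CfsgLib.LocalEven.DihedralProduct.IsDih.of_equiv (S.2.to_le hD.1) hm₁ e₁
  obtain ⟨a₂, x₂, r₂, h₂', rfl⟩ :=
    CfsgLib.LocalEven.DihedralProduct.IsDih.of_equiv (S.2.to_le hD.2.1) hm₂ e₂
  have hP : CfsgLib.LocalEven.DihedralProduct.IsProd (S : Subgroup G) a₁ x₁ r₁ a₂ x₂ r₂ :=
    ⟨h₁, h₂', hD⟩
  obtain ⟨b₁, y₁, s₁, b₂, y₂, s₂, hQ, hc₁, hc₂⟩ :
      ∃ (b₁ y₁ : G) (s₁ : ℕ) (b₂ y₂ : G) (s₂ : ℕ),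
      CfsgLib.LocalEven.DihedralProduct.IsProd (S : Subgroup G) b₁ y₁ s₁ b₂ y₂ s₂ ∧
      Cfsg.IsStronglyClosed (CfsgLib.LocalEven.DihedralProduct.dih b₁ y₁) (S : Subgroup G) ∧
      Cfsg.IsStronglyClosed (CfsgLib.LocalEven.DihedralProduct.dih b₂ y₂) (S : Subgroup G) := by
    by_cases hr₁ : 2 ≤ r₁
    · by_cases hr₂ : 2 ≤ r₂
      · obtain ⟨b₁, y₁, b₂, y₂, h⟩ :=
          CfsgLib.LocalEven.DihedralProduct.big_case h2 hP hr₁ hr₂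
        exact ⟨b₁, y₁, r₁, b₂, y₂, r₂, h⟩
      · obtain rfl : r₂ = 1 := le_antisymm (by omega) h₂'.pos
        obtain ⟨b₁, y₁, b₂, y₂, h⟩ := CfsgLib.LocalEven.DihedralProduct.four_case h2 hP hr₁
        exact ⟨b₁, y₁, r₁, b₂, y₂, 1, h⟩
    · obtain rfl : r₁ = 1 := le_antisymm (by omega) h₁.pos
      by_cases hr₂ : 2 ≤ r₂
      · obtain ⟨b₁, y₁, b₂, y₂, h, h', h''⟩ :=
          CfsgLib.LocalEven.DihedralProduct.four_case h2 hP.symm hr₂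
        exact ⟨b₂, y₂, 1, b₁, y₁, r₂, h.symm, h'', h'⟩
      · obtain rfl : r₂ = 1 := le_antisymm (by omega) h₂'.pos
        refine absurd ⟨⟨fun s t => Subtype.ext ?_⟩⟩ hS
        obtain ⟨p, hp, q, hq, hs⟩ := hP.exists_coord s.2
        obtain ⟨p', hp', q', hq', ht⟩ := hP.exists_coord t.2
        show (s : G) * t = t * s
        rw [hs, ht, hP.mul hp' hq, hP.mul hp hq', (h₁.comm_of_one hp hp').eq,
          (h₂'.comm_of_one hq hq').eq]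
  obtain ⟨G₁, G₂, hG₁, hG₂, hprod, hl₁, hl₂, -, -, ho₁, ho₂⟩ :=
    CfsgLib.LocalEven.ProductFusion.exists_product hO hidx hQ.prod hc₁ hc₂
  have hodd : ∀ n : ℕ, Odd n → ¬ 2 ∣ n := fun n hn h => by
    rw [Nat.odd_iff] at hn
    omega
  exact ⟨G₁, G₂, hG₁, hG₂, hprod, _, _, hQ.prod,
    ⟨2 ^ s₁, le_self_pow₀ one_le_two (by have := hQ.d₁.pos; omega), hQ.d₁.exists_equiv⟩,
    ⟨2 ^ s₂, le_self_pow₀ one_le_two (by have := hQ.d₂.pos; omega), hQ.d₂.exists_equiv⟩,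
    hl₁, hl₂, hodd _ ho₁, hodd _ ho₂⟩

end Cfsg.Agent.S3113
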