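import Cfsg.Statements.S3154
import Cfsg.Agent.Lib.Involution.PSL3FourE16
import Cfsg.Agent.Lib.PGroup.Gaschutz
import Cfsg.Agent.Lib.Components.TwoRankLayer

set_option autoImplicit false
open Cfsg

namespace Cfsg.Agent.S3154

set_option maxHeartbeats 800000



/-- Let X be a finite quasisimple group whose centre is an elementary abelian 2-group and whose central quotient is isomorphic to the projective special linear group of dimension 3 over the field with 4 elements. Let T be a Sylow 2-subgroup of X and H ≠ K subgroups of T containing the centre Z(X) whose images in X/Z(X) are elementary abelian of order 16 (the two such subgroups of a Sylow 2-subgroup of the quotient). Then H and K are elementary abelian, H ∩ K is the centre of the subgroup they generate, and each of N_X(H), N_X(K) is a split extension of H, respectively K, by the projective special linear group of dimension 2 over the field with 4 elements (there is a complement isomorphic to that group). -/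
theorem result {X : Type*} [Group X] [Finite X] (hq : Cfsg.IsQuasisimple X) (hZ : Cfsg.IsElementaryAbelian 2 (Subgroup.center X))
    {F : Type*} [Field F] [Fintype F] (hF : Fintype.card F = 4) (hXL : Nonempty ((X ⧸ Subgroup.center X) ≃* Matrix.ProjectiveSpecialLinearGroup (Fin 3) F))
    (T : Sylow 2 X) (H K : Subgroup X) (hHK : H ≠ K) (hHT : H ≤ T) (hKT : K ≤ T) (hZH : Subgroup.center X ≤ H) (hZK : Subgroup.center X ≤ K)
    (hH : Cfsg.IsElementaryAbelian 2 (H.map (QuotientGroup.mk' (Subgroup.center X))) ∧ Nat.card ↥(H.map (QuotientGroup.mk' (Subgroup.center X))) = 16)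
    (hK : Cfsg.IsElementaryAbelian 2 (K.map (QuotientGroup.mk' (Subgroup.center X))) ∧ Nat.card ↥(K.map (QuotientGroup.mk' (Subgroup.center X))) = 16) :
    Cfsg.IsElementaryAbelian 2 H ∧ Cfsg.IsElementaryAbelian 2 K ∧
      H ⊓ K = (Subgroup.center ↥(H ⊔ K)).map (H ⊔ K).subtype ∧
      (∃ C : Subgroup X, C ≤ Subgroup.normalizer (H : Set X) ∧ C ⊓ H = ⊥ ∧ H ⊔ C = Subgroup.normalizer (H : Set X) ∧
        Nonempty (↥C ≃* Matrix.ProjectiveSpecialLinearGroup (Fin 2) F)) ∧
      (∃ C : Subgroup X, C ≤ Subgroup.normalizer (K : Set X) ∧ C ⊓ K = ⊥ ∧ K ⊔ C = Subgroup.normalizer (K : Set X) ∧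
        Nonempty (↥C ≃* Matrix.ProjectiveSpecialLinearGroup (Fin 2) F)) := by
  classical
  obtain ⟨e⟩ := hXL
  obtain ⟨hZc, hZx⟩ := hZ
  let f : X →* Matrix.ProjectiveSpecialLinearGroup (Fin 3) F :=
    e.toMonoidHom.comp (QuotientGroup.mk' (Subgroup.center X))
  have hfs : Function.Surjective f := e.surjective.comp (QuotientGroup.mk'_surjective _)
  have hker : ∀ x, f x = 1 ↔ x ∈ Subgroup.center X := fun x => by
    show e (x : X ⧸ Subgroup.center X) = 1 ↔ _
    rw [map_eq_one_iff e e.injective, QuotientGroup.eq_one_iff]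
  have hcenF : ∀ w ∈ Subgroup.center X, ∀ x, x * w = w * x := fun w hw x => Subgroup.mem_center_iff.mp hw x
  have main : ∀ H : Subgroup X, Subgroup.center X ≤ H →
      (Cfsg.IsElementaryAbelian 2 (H.map (QuotientGroup.mk' (Subgroup.center X))) ∧
        Nat.card ↥(H.map (QuotientGroup.mk' (Subgroup.center X))) = 16) →
      Cfsg.IsElementaryAbelian 2 H ∧ (∀ x, (∀ h ∈ H, x * h = h * x) → x ∈ H) ∧
        ∃ C : Subgroup X, C ≤ Subgroup.normalizer (H : Set X) ∧ C ⊓ H = ⊥ ∧
          H ⊔ C = Subgroup.normalizer (H : Set X) ∧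
          Nonempty (↥C ≃* Matrix.ProjectiveSpecialLinearGroup (Fin 2) F) := by
    intro H hZH hH
    let A : Subgroup (Matrix.ProjectiveSpecialLinearGroup (Fin 3) F) := H.map f
    have hmap : A = (H.map (QuotientGroup.mk' (Subgroup.center X))).map e.toMonoidHom :=
      (Subgroup.map_map H _ _).symm
    have hA16 : Nat.card A = 16 := by
      rw [hmap, ← hH.2]
      exact (Nat.card_congr (Subgroup.equivMapOfInjective _ _ e.injective).toEquiv).symm
    have hAab : ∀ a ∈ A, ∀ b ∈ A, a * b = b * a := by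
      rw [hmap]
      rintro _ ⟨a, ha, rfl⟩ _ ⟨b, hb, rfl⟩
      rw [← map_mul, ← map_mul, show a * b = b * a from congrArg Subtype.val (hH.1.1.is_comm.comm ⟨a, ha⟩ ⟨b, hb⟩)]
    have hAexp : ∀ a ∈ A, a ^ 2 = 1 := by
      rw [hmap]
      rintro _ ⟨a, ha, rfl⟩
      rw [← map_pow, hH.1.2 a ha, map_one]
    obtain ⟨j, hjn, hjt, hjf, hjN⟩ := CfsgLib.Involution.PSL3FourE16.good_of_card hF hAab hAexp hA16
    have memH : ∀ x, f x ∈ A → x ∈ H := by
      rintro x ⟨h, hh, ex⟩
      have : h⁻¹ * x ∈ Subgroup.center X := (hker _).mp (by rw [map_mul, map_inv, ex, inv_mul_cancel])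
      rw [← mul_inv_cancel_left h x]
      exact mul_mem hh (hZH this)
    have mem_norm : ∀ n, (∀ a ∈ A, f n * a * (f n)⁻¹ ∈ A) → n ∈ Subgroup.normalizer (H : Set X) := by
      intro n hn
      refine CfsgLib.Involution.PSL3FourE16.mem_normalizer_of_conj fun h hh => memH _ ?_
      rw [map_mul, map_mul, map_inv]
      exact hn _ ⟨h, hh, rfl⟩
    have hconst : ∀ h ∈ H, ∀ k ∈ H, h ∉ Subgroup.center X → k ∉ Subgroup.center X → h * h = k * k := by
      intro h hh k hk nh nk
      obtain ⟨s, hs⟩ := hjt _ ⟨h, hh, rfl⟩ _ ⟨k, hk, rfl⟩ (fun e => nh ((hker h).mp e)) (fun e => nk ((hker k).mp e))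
      obtain ⟨n, hn⟩ := hfs (j s)
      have hw : k⁻¹ * (n * h * n⁻¹) ∈ Subgroup.center X :=
        (hker _).mp (by rw [map_mul, map_mul, map_mul, map_inv, map_inv, hn, hs, inv_mul_cancel])
      have hhc : h * h ∈ Subgroup.center X := (hker _).mp (by
        rw [map_mul, ← pow_two]; exact hAexp _ ⟨h, hh, rfl⟩)
      have e1 : n * h * n⁻¹ = k * (k⁻¹ * (n * h * n⁻¹)) := (mul_inv_cancel_left _ _).symm
      generalize hwd : k⁻¹ * (n * h * n⁻¹) = w at hw e1
      have hw2 : w * w = 1 := by rw [← pow_two]; exact hZx w hw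
      calc h * h = n * (h * h) * n⁻¹ := by rw [hcenF _ hhc n, mul_inv_cancel_right]
        _ = (n * h * n⁻¹) * (n * h * n⁻¹) := by group
        _ = (k * w) * (k * w) := by rw [e1]
        _ = k * (w * k) * w := by group
        _ = k * k * (w * w) := by rw [← hcenF w hw k]; group
        _ = k * k := by rw [hw2, mul_one]
    have hsqc : ∀ h ∈ H, h * h ∈ Subgroup.center X := fun h hh => (hker _).mp (by
      rw [map_mul, ← pow_two]; exact hAexp _ ⟨h, hh, rfl⟩)
    obtain ⟨h, hh, k, hk, l, hl, nh, nk, nl, nhk, nkl, nhkl⟩ : ∃ h ∈ H, ∃ k ∈ H, ∃ l ∈ H,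
        f h ≠ 1 ∧ f k ≠ 1 ∧ f l ≠ 1 ∧ f (h * k) ≠ 1 ∧ f (k * l) ≠ 1 ∧ f (h * (k * l)) ≠ 1 ∧ f (h * l) ≠ 1 := by
      have key : ∀ S : Finset (Matrix.ProjectiveSpecialLinearGroup (Fin 3) F), S.card < 16 → ∃ a ∈ H, f a ∉ S := by
        intro S hS
        by_contra hne
        push Not at hne
        have hsub : (A : Set (Matrix.ProjectiveSpecialLinearGroup (Fin 3) F)) ⊆ S := by
          rintro _ ⟨a, ha, rfl⟩; exact hne a ha
        have := Set.ncard_le_ncard hsub S.finite_toSet
        rw [Set.ncard_coe_finset, ← Nat.card_coe_set_eq, SetLike.coe_sort_coe, hA16] at this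
        omega
      have inv2 : ∀ a ∈ H, (f a)⁻¹ = f a := fun a ha =>
        inv_eq_of_mul_eq_one_right (by rw [← pow_two]; exact hAexp _ ⟨a, ha, rfl⟩)
      obtain ⟨h, hh, h1⟩ := key {1} (by simp)
      obtain ⟨k, hk, k1⟩ := key {1, f h} ((Finset.card_le_two).trans_lt (by norm_num))
      obtain ⟨l, hl, l1⟩ := key {1, f h, f k, f h * f k}
        (Finset.card_le_four.trans_lt (by norm_num))
      simp only [Finset.mem_insert, Finset.mem_singleton, not_or] at h1 k1 l1
      refine ⟨h, hh, k, hk, l, hl, h1, k1.1, l1.1, ?_, ?_, ?_, ?_⟩ <;> rw [map_mul]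
      · intro e; exact k1.2 (by rw [eq_inv_of_mul_eq_one_right e, inv2 h hh])
      · intro e; exact l1.2.2.1 (by rw [eq_inv_of_mul_eq_one_right e, inv2 k hk])
      · intro e
        refine l1.2.2.2 ?_
        rw [map_mul, ← mul_assoc] at e
        rw [eq_inv_of_mul_eq_one_right e, _root_.mul_inv_rev, inv2 h hh, inv2 k hk]
        exact hAab _ ⟨k, hk, rfl⟩ _ ⟨h, hh, rfl⟩
      · intro e; exact l1.2.1 (by rw [eq_inv_of_mul_eq_one_right e, inv2 h hh])
    have hc1 : h * h = 1 := by
      have hne : ∀ x, f x ≠ 1 → x ∉ Subgroup.center X := fun x hx e => hx ((hker x).mpr e)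
      have hcz := hsqc h hh
      have hc2 : (h * h) * (h * h) = 1 := by rw [← pow_two]; exact hZx _ hcz
      have eqc : ∀ x ∈ H, f x ≠ 1 → x * x = h * h := fun x hx hx1 => hconst x hx h hh (hne x hx1) (hne h nh)
      have comm : ∀ y ∈ H, ∀ z ∈ H, f y ≠ 1 → f z ≠ 1 → f (y * z) ≠ 1 → y * z * y⁻¹ * z⁻¹ = h * h := by
        intro y hy z hz ny nz nyz
        have e1 := eqc _ (mul_mem hy hz) nyz
        have e2 := eqc _ hy ny
        have e3 := eqc _ hz nz
        have einv : ∀ x : X, x * x = h * h → x⁻¹ = x * (h * h) := fun x hx =>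
          inv_eq_of_mul_eq_one_right (by rw [← mul_assoc, hx, hc2])
        calc y * z * y⁻¹ * z⁻¹ = y * z * (y * (h * h)) * (z * (h * h)) := by rw [einv y e2, einv z e3]
          _ = y * z * y * ((h * h) * z) * (h * h) := by group
          _ = y * z * y * (z * (h * h)) * (h * h) := by rw [hcenF _ hcz z]
          _ = (y * z) * (y * z) * ((h * h) * (h * h)) := by group
          _ = h * h := by rw [e1, hc2, mul_one]
      have c1 := comm h hh k hk nh nk nhk
      have c2 := comm h hh l hl nh nl nhkl.2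
      have c3 := comm h hh (k * l) (mul_mem hk hl) nh nkl nhkl.1
      have : h * (k * l) * h⁻¹ * (k * l)⁻¹ = (h * k * h⁻¹ * k⁻¹) * (k * (h * l * h⁻¹ * l⁻¹) * k⁻¹) := by group
      rw [c3, c1, c2, hcenF _ hcz k, mul_inv_cancel_right, hc2] at this
      exact this
    have hsq : ∀ x ∈ H, x * x = 1 := by
      intro x hx
      by_cases hxz : x ∈ Subgroup.center X
      · rw [← pow_two]; exact hZx x hxz
      · rw [hconst x hx h hh hxz (fun e => nh ((hker h).mpr e)), hc1]
    have hHel : Cfsg.IsElementaryAbelian 2 H := by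
      refine ⟨⟨⟨fun a b => Subtype.ext ?_⟩⟩, fun a ha => by rw [pow_two]; exact hsq a ha⟩
      have ia : ∀ x ∈ H, x⁻¹ = x := fun x hx => inv_eq_of_mul_eq_one_right (hsq x hx)
      show a.1 * b.1 = b.1 * a.1
      calc a.1 * b.1 = (a.1 * b.1)⁻¹ := (ia _ (mul_mem a.2 b.2)).symm
        _ = b.1⁻¹ * a.1⁻¹ := _root_.mul_inv_rev _ _
        _ = b.1 * a.1 := by rw [ia _ a.2, ia _ b.2]
    have hcentral : ∀ x, (∀ y ∈ H, x * y = y * x) → x ∈ H := by
      intro x hx
      have hxa : ∀ a ∈ A, f x * a = a * f x := by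
        rintro _ ⟨y, hy, rfl⟩; rw [← map_mul, hx y hy, map_mul]
      obtain ⟨a, ha, s, hs⟩ := hjN (f x) fun b hb => by rw [hxa b hb, mul_inv_cancel_right]; exact hb
      have : s = 1 := hjf s fun b hb => by
        have h1 := hxa b hb
        rw [hs, mul_assoc, ← mul_assoc b a, hAab b hb a ha, mul_assoc] at h1
        exact mul_left_cancel h1
      rw [this, map_one, mul_one] at hs
      exact memH x (hs ▸ ha)
    refine ⟨hHel, hcentral, ?_⟩
    have hjinj : Function.Injective j := by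
      rw [injective_iff_map_eq_one]
      exact fun s hs => hjf s fun a _ => by rw [hs, one_mul, mul_one]
    let P : Subgroup X := j.range.comap f
    have hZP : Subgroup.center X ≤ P := fun z hz => by
      show f z ∈ j.range
      rw [(hker z).mpr hz]; exact one_mem _
    let Z : Subgroup P := (Subgroup.center X).subgroupOf P
    have : Z.Normal := ⟨fun z hz g => by
      have : g * z * g⁻¹ = z := Subtype.ext (by
        show g.1 * z.1 * g.1⁻¹ = z.1
        have e2 : g.1 * z.1 = z.1 * g.1 := hcenF z.1 hz g.1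
        rw [e2, mul_inv_cancel_right])
      rwa [this]⟩
    have : IsMulCommutative Z := ⟨⟨fun a b => Subtype.ext (Subtype.ext (hcenF _ b.2 _))⟩⟩
    have : Fact (Nat.Prime 2) := ⟨Nat.prime_two⟩
    obtain ⟨U⟩ : Nonempty (Sylow 2 P) := inferInstance
    have hZ2 : IsPGroup 2 Z := fun z => ⟨1, Subtype.ext (Subtype.ext (by simpa using hZx _ z.2))⟩
    have hZU : Z ≤ (U : Subgroup P) := by
      obtain ⟨Q, hQ⟩ := hZ2.exists_le_sylow
      obtain ⟨g, hg⟩ := MulAction.exists_smul_eq P Q U
      intro z hz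
      rw [← hg, Sylow.coe_subgroup_smul, Subgroup.mem_pointwise_smul_iff_inv_smul_mem]
      exact hQ ((inferInstance : Z.Normal).conj_mem z hz g⁻¹ |> fun h => by simpa using h)
    have hSL2 : Nat.card (Matrix.SpecialLinearGroup (Fin 2) F) = 60 := by
      have hsl := CfsgLib.Classical.card_sl_mul (F := F) rfl 2 (by norm_num)
      simp only [hF, Fin.prod_univ_two, Fin.val_zero, Fin.val_one] at hsl
      norm_num1 at hsl ⊢
      omega
    let g : P →* j.range := (f.comp P.subtype).codRestrict j.range fun p => p.2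
    have hg : Function.Surjective g := by
      rintro ⟨y, hy⟩
      obtain ⟨x, rfl⟩ := hfs y
      exact ⟨⟨x, hy⟩, rfl⟩
    have hgker : g.ker = Z := by
      ext p
      rw [MonoidHom.mem_ker, Subgroup.mem_subgroupOf, ← hker, Subtype.ext_iff]
      rfl
    have hinvU : ∀ u ∈ (U : Subgroup P), (g u) ^ 2 = 1 → u ^ 2 = 1 := by
      intro u _ hu
      apply Subtype.ext
      show (u : X) ^ 2 = 1
      by_cases hu1 : f u = 1
      · exact hZx _ ((hker _).mp hu1)
      have ho : orderOf (f u) = 2 := orderOf_eq_prime (congrArg Subtype.val hu) hu1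
      obtain ⟨y, hy, ny⟩ : ∃ y ∈ H, f y ≠ 1 := ⟨h, hh, nh⟩
      have hoy : orderOf (f y) = 2 := orderOf_eq_prime (hAexp _ ⟨y, hy, rfl⟩) ny
      obtain ⟨c, hc⟩ := isConj_iff.mp (((CfsgLib.Involution.PSL3Four.isConj_of_orderOf_two hF hoy).symm).trans
        (CfsgLib.Involution.PSL3Four.isConj_of_orderOf_two hF ho))
      obtain ⟨n, rfl⟩ := hfs c
      rw [← map_inv, ← map_mul, ← map_mul] at hc
      have hw : (n * y * n⁻¹)⁻¹ * (u : X) ∈ Subgroup.center X := (hker _).mp (by rw [map_mul, map_inv, hc, inv_mul_cancel])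
      rw [← mul_inv_cancel_left (n * y * n⁻¹) (u : X)]
      generalize (n * y * n⁻¹)⁻¹ * (u : X) = w at hw
      rw [(show Commute (n * y * n⁻¹) w from hcenF w hw _).mul_pow, hZx w hw, mul_one, pow_two,
        show n * y * n⁻¹ * (n * y * n⁻¹) = n * (y * y) * n⁻¹ by group, hsq y hy, mul_one, mul_inv_cancel]
    have hUel : Cfsg.IsElementaryAbelian 2 (U : Subgroup P) := by
      have hK : IsPGroup 2 ((U : Subgroup P).map g) := U.2.map g
      obtain ⟨m, hm⟩ := hK.exists_card_eq
      have hd : 2 ^ m ∣ 60 := by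
        rw [← hm, ← hSL2, Nat.card_congr (MonoidHom.ofInjective hjinj).toEquiv]
        exact Subgroup.card_subgroup_dvd_card _
      have hno4 : ∀ y : Matrix.SpecialLinearGroup (Fin 2) F, orderOf y ≠ 4 :=
        CfsgLib.Involution.PSL3FourE16.orderOf_ne_four_two hF
      have hsqU : ∀ u ∈ (U : Subgroup P), u ^ 2 = 1 := by
        intro u hu
        refine hinvU u hu ?_
        have h1 : orderOf (⟨g u, ⟨u, hu, rfl⟩⟩ : (U : Subgroup P).map g) ∣ 2 ^ m := hm ▸ orderOf_dvd_natCard _
        replace h1 : orderOf (g u) ∣ 2 ^ m := by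
          rw [← Subgroup.orderOf_coe] at h1
          exact h1
        have hm2 : m ≤ 2 := by
          by_contra hlt
          have : 2 ^ 3 ∣ 60 := (pow_dvd_pow 2 (by omega)).trans hd
          norm_num at this
        have h4 : orderOf (g u) ∣ 2 ^ 2 := h1.trans (pow_dvd_pow 2 hm2)
        obtain ⟨t, ht, hto⟩ := (Nat.dvd_prime_pow Nat.prime_two).mp h4
        have hne : orderOf (g u) ≠ 4 := by
          obtain ⟨y, hy⟩ := (g u).2
          intro he
          rw [← Subgroup.orderOf_coe, ← hy, orderOf_injective j hjinj] at he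
          exact hno4 y he
        have : orderOf (g u) ∣ 2 ^ 1 := by
          rw [hto] at hne ⊢
          refine pow_dvd_pow 2 ?_
          have : t ≠ 2 := fun e => hne (by rw [e]; rfl)
          omega
        exact orderOf_dvd_iff_pow_eq_one.mp this
      refine ⟨⟨⟨fun a b => Subtype.ext ?_⟩⟩, hsqU⟩
      have ia : ∀ x ∈ (U : Subgroup P), x⁻¹ = x := fun x hx =>
        inv_eq_of_mul_eq_one_right (by rw [← pow_two]; exact hsqU x hx)
      show a.1 * b.1 = b.1 * a.1
      calc a.1 * b.1 = (a.1 * b.1)⁻¹ := (ia _ (mul_mem a.2 b.2)).symm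
        _ = b.1⁻¹ * a.1⁻¹ := _root_.mul_inv_rev _ _
        _ = b.1 * a.1 := by rw [ia _ a.2, ia _ b.2]
    obtain ⟨W, hWU, hWZ, hWcard⟩ := CfsgLib.Components.TwoRankLayer.exists_complement hUel Z
    have hsup : Z ⊔ W = (U : Subgroup P) := by
      refine Subgroup.eq_of_le_of_card_ge (sup_le hZU hWU) ?_
      rw [inf_eq_right.mpr hZU] at hWcard
      refine hWcard.trans ?_
      rw [← Nat.card_prod]
      refine Nat.card_le_card_of_injective
        (fun t : W × Z => (⟨t.1.1 * t.2.1, mul_mem (Subgroup.mem_sup_right t.1.2) (Subgroup.mem_sup_left t.2.2)⟩ : ↥(Z ⊔ W))) ?_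
      intro s t hst
      have e := congrArg Subtype.val hst
      have hd := Subgroup.mul_injective_of_disjoint (disjoint_iff.mpr hWZ)
      exact hd e
    have hcop : (Nat.card Z).Coprime (U : Subgroup P).index := by
      obtain ⟨a, ha⟩ := hZ2.exists_card_eq
      rw [ha]
      exact ((Nat.Prime.coprime_iff_not_dvd Nat.prime_two).mpr U.not_dvd_index).pow_left a
    obtain ⟨C₀, hC₀⟩ := CfsgLib.Solvable.Gaschutz.exists_complement Z (U : Subgroup P) hZU hcop W hWZ hsup
    let C : Subgroup X := C₀.map P.subtype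
    have hCP : ∀ x ∈ C, f x ∈ j.range := by
      rintro _ ⟨p, hp, rfl⟩; exact p.2
    have hCZ : ∀ x ∈ C, f x = 1 → x = 1 := by
      rintro _ ⟨p, hp, rfl⟩ hx
      have hpZ : p ∈ Z := (hker _).mp hx
      have := Subgroup.disjoint_def.mp hC₀.disjoint hpZ hp
      rw [this]; rfl
    refine ⟨C, ?_, ?_, ?_, ?_⟩
    · intro x hx
      obtain ⟨s, hs⟩ := hCP x hx
      exact mem_norm x fun a ha => hs ▸ hjn s a ha
    · rw [eq_bot_iff]
      rintro x ⟨hxC, hxH⟩
      obtain ⟨s, hs⟩ := hCP x hxC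
      refine hCZ x hxC ?_
      rw [← hs, hjf s fun a ha => by rw [hs]; exact hAab _ ⟨x, hxH, rfl⟩ _ ha, map_one]
    · refine le_antisymm (sup_le Subgroup.le_normalizer ?_) ?_
      · intro x hx
        obtain ⟨s, hs⟩ := hCP x hx
        exact mem_norm x fun a ha => hs ▸ hjn s a ha
      · intro n hn
        obtain ⟨a, ha, s, hs⟩ := hjN (f n) (by
          rintro _ ⟨y, hy, rfl⟩
          exact ⟨_, (Subgroup.mem_normalizer_iff.mp hn y).mp hy, by simp⟩)
        obtain ⟨y, hy, rfl⟩ := ha
        obtain ⟨p, hp⟩ : ∃ p : P, f p = j s := by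
          obtain ⟨x, hx⟩ := hfs (j s); exact ⟨⟨x, show f x ∈ j.range from hx ▸ ⟨s, rfl⟩⟩, hx⟩
        obtain ⟨⟨z, c⟩, hzc⟩ := hC₀.2 p
        have hyz : f (y * (c.1 : P).1) = f n := by
          rw [map_mul, hs, ← hp, ← hzc]
          show _ = f y * f ((z.1 : P).1 * (c.1 : P).1)
          have ez : f (z.1 : P).1 = 1 := (hker _).mpr z.2
          rw [map_mul, ez, one_mul]
        have hzn : (y * (c.1 : P).1)⁻¹ * n ∈ H := hZH ((hker _).mp (by rw [map_mul, map_inv, hyz, inv_mul_cancel]))
        rw [← mul_inv_cancel_left (y * (c.1 : P).1) n]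
        exact mul_mem (mul_mem (Subgroup.mem_sup_left hy) (Subgroup.mem_sup_right ⟨_, c.2, rfl⟩))
          (Subgroup.mem_sup_left hzn)
    · have hbot : Subgroup.center (Matrix.SpecialLinearGroup (Fin 2) F) = ⊥ := by
        rw [← Subgroup.card_eq_one, CfsgLib.Classical.card_center_sl 2 (by norm_num), hF]
        rfl
      let q : C →* j.range := (f.comp C.subtype).codRestrict j.range fun x => hCP x.1 x.2
      have hq : Function.Bijective q := by
        constructor
        · rw [injective_iff_map_eq_one]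
          exact fun x hx => Subtype.ext (hCZ x.1 x.2 (congrArg Subtype.val hx))
        · rintro ⟨y, hy⟩
          obtain ⟨x, rfl⟩ := hfs y
          obtain ⟨⟨z, c⟩, hzc⟩ := hC₀.2 (⟨x, hy⟩ : P)
          refine ⟨⟨_, c.1, c.2, rfl⟩, Subtype.ext ?_⟩
          show f (c.1 : P).1 = f x
          rw [show x = ((z.1 : P) * (c.1 : P) : P).1 from (congrArg Subtype.val hzc).symm]
          show _ = f ((z.1 : P).1 * (c.1 : P).1)
          have ez : f (z.1 : P).1 = 1 := (hker _).mpr z.2
          rw [map_mul, ez, one_mul]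
      exact ⟨((MulEquiv.ofBijective q hq).trans (MonoidHom.ofInjective hjinj).symm).trans
        ((QuotientGroup.quotientBot).symm.trans (QuotientGroup.quotientMulEquivOfEq hbot.symm))⟩
  obtain ⟨hHe, hHc, hHC⟩ := main H hZH hH
  obtain ⟨hKe, hKc, hKC⟩ := main K hZK hK
  refine ⟨hHe, hKe, ?_, hHC, hKC⟩
  ext z
  constructor
  · intro hz
    obtain ⟨hzH, hzK⟩ := Subgroup.mem_inf.mp hz
    refine ⟨⟨z, Subgroup.mem_sup_left hzH⟩, Subgroup.mem_center_iff.mpr ?_, rfl⟩
    intro w
    apply Subtype.ext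
    show (w : X) * z = z * w
    have : H ⊔ K ≤ Subgroup.centralizer {z} := by
      refine sup_le (fun y hy => ?_) (fun y hy => ?_) <;> rw [Subgroup.mem_centralizer_singleton_iff]
      · exact congrArg Subtype.val (hHe.1.is_comm.comm ⟨y, hy⟩ ⟨z, hzH⟩)
      · exact congrArg Subtype.val (hKe.1.is_comm.comm ⟨y, hy⟩ ⟨z, hzK⟩)
    exact Subgroup.mem_centralizer_singleton_iff.mp (this w.2)
  · rintro ⟨⟨z, hz⟩, hzc, rfl⟩
    have hc := fun y (hy : y ∈ H ⊔ K) => congrArg Subtype.val (Subgroup.mem_center_iff.mp hzc ⟨y, hy⟩)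
    exact Subgroup.mem_inf.mpr ⟨hHc z fun y hy => (hc y (Subgroup.mem_sup_left hy)).symm,
      hKc z fun y hy => (hc y (Subgroup.mem_sup_right hy)).symm⟩

end Cfsg.Agent.S3154
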