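import Cfsg.Statements.S3155
import Mathlib

set_option autoImplicit false
open Cfsg

namespace Cfsg.Agent.S3155

/-- Let B be the direct product of three cyclic groups of order 4. Then the automorphism of B inverting every element is not the square of any automorphism of B. -/
theorem result {B : Type*} [CommGroup B] [Finite B] (hB : Nonempty (B ≃* Multiplicative (ZMod 4 × ZMod 4 × ZMod 4)))
    (τ : B ≃* B) : τ.trans τ ≠ MulEquiv.inv B := by
  obtain ⟨e⟩ := hB
  intro h
  let v : Multiplicative (ZMod 4 × ZMod 4 × ZMod 4) ≃* Multiplicative (Fin 3 → ZMod 4) :=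
    AddEquiv.toMultiplicative
      { toFun := fun a => ![a.1, a.2.1, a.2.2]
        invFun := fun f => (f 0, f 1, f 2)
        left_inv := fun a => by simp
        right_inv := fun f => by ext i; fin_cases i <;> simp
        map_add' := fun a b => by ext i; fin_cases i <;> simp }
  let e' : B ≃* Multiplicative (Fin 3 → ZMod 4) := e.trans v
  let f : (Fin 3 → ZMod 4) →+ (Fin 3 → ZMod 4) :=
    AddMonoidHom.mk' (fun a => (e' (τ (e'.symm (Multiplicative.ofAdd a)))).toAdd) (fun a b => by
      simp [ofAdd_add, toAdd_mul])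
  have hff : ∀ a, f (f a) = -a := by
    intro a
    show (e' (τ (e'.symm (Multiplicative.ofAdd ((e' (τ (e'.symm (Multiplicative.ofAdd a)))).toAdd))))).toAdd = -a
    rw [ofAdd_toAdd, MulEquiv.symm_apply_apply]
    have h1 : τ (τ (e'.symm (Multiplicative.ofAdd a))) = (e'.symm (Multiplicative.ofAdd a))⁻¹ :=
      DFunLike.congr_fun h _
    rw [h1, map_inv, MulEquiv.apply_symm_apply]
    rfl
  haveI : Fact (1 < 4) := ⟨by norm_num⟩
  haveI : Nontrivial (ZMod 4) := ⟨⟨0, 1, by decide⟩⟩
  let L := f.toZModLinearMap 4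
  have hLL : L ∘ₗ L = (-1 : ZMod 4) • LinearMap.id := by
    refine LinearMap.ext fun a => ?_; show f (f a) = _; rw [hff]; simp
  have hdet := congrArg LinearMap.det hLL
  rw [LinearMap.det_comp, LinearMap.det_smul, LinearMap.det_id, Module.finrank_fin_fun, mul_one] at hdet
  exact (by decide : ∀ x : ZMod 4, x * x ≠ (-1) ^ 3) _ hdet

end Cfsg.Agent.S3155
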