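import Cfsg.Statements.S3156
import Cfsg.Agent.Lib.RankOne.UnitaryAut
import Cfsg.Agent.Lib.Perm.SharpThreePGL
import Cfsg.Agent.Lib.KnownC.AutPSL.Outer

set_option autoImplicit false
open Cfsg

namespace Cfsg.Agent.S3156

/-- If a finite group T is isomorphic to a Sylow 2-subgroup of the projective special unitary group of dimension 3 with parameter 4 (realised over the field with 16 elements), then no subgroup of the automorphism group of T is isomorphic to the symmetric group of degree 3. -/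
theorem result {T : Type*} [Group T] [Finite T] (hT : (∃ (F : Type) (_ : Field F) (_ : Fintype F), Fintype.card F = 16 ∧ ∃ S : Sylow 2 (Cfsg.PSU 3 F 4), Nonempty (T ≃* ↥(S : Subgroup (Cfsg.PSU 3 F 4))))) (H : Subgroup (MulAut T)) : ¬ Nonempty (↥H ≃* Equiv.Perm (Fin 3)) := by
  rintro ⟨eH⟩
  obtain ⟨F, iF, iFF, hF, P, ⟨e₁⟩⟩ := hT
  open CfsgLib.RankOne in
  haveI : CharP F 2 := charP_of_card_eq_prime_pow (f := 4) (hp := ⟨Nat.prime_two⟩) (by rw [hF]; norm_num)
  have hF' : Fintype.card F = 4 ^ 2 := by rw [hF]; norm_num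
  obtain ⟨σ, hσq, hσ⟩ := CfsgLib.Classical.exists_frob hF'
  haveI : Fact (CfsgLib.Classical.IsConjugation σ) := ⟨hσ⟩
  haveI : Fact (Fintype.card F = 4 ^ 2 ∧ ∀ x, σ x = x ^ 4) := ⟨⟨hF', hσq⟩⟩
  -- `PSU(3,4)` is `SU(3,4)`
  have hcen : Subgroup.center (Cfsg.SU 3 F 4) = ⊥ := Subgroup.eq_bot_of_card_eq _ (by
    rw [CfsgLib.Classical.card_center_SU (F := F) (q := 4) hF' (by norm_num)]; norm_num)
  let π : Cfsg.SU 3 F 4 ≃* Cfsg.PSU 3 F 4 :=
    MulEquiv.ofBijective (QuotientGroup.mk' (Subgroup.center (Cfsg.SU 3 F 4)))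
      ⟨(MonoidHom.ker_eq_bot_iff _).1 (by rw [QuotientGroup.ker_mk', hcen]), QuotientGroup.mk'_surjective _⟩
  let P' : Sylow 2 (Cfsg.SU 3 F 4) := P.comapOfInjective π.toMonoidHom π.injective
    (fun x _ => ⟨π.symm x, π.apply_symm_apply x⟩)
  have e₃ : (P' : Subgroup (Cfsg.SU 3 F 4)) ≃* (P : Subgroup (Cfsg.PSU 3 F 4)) :=
    (π.subgroupMap (P' : Subgroup (Cfsg.SU 3 F 4))).trans (MulEquiv.subgroupCongr (by
      exact Subgroup.map_comap_eq_self_of_surjective π.surjective _))
  obtain ⟨e₂⟩ := CfsgLib.RankOne.UnitarySylow.sylow_equiv_SU (σ := σ) (q := 4) 2 (by norm_num) (by norm_num) P'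
  let E : MulAut T ≃* MulAut (CfsgLib.RankOne.UnitarySylow.Heis σ) := MulAut.congr (e₁.trans (e₂.trans e₃).symm)
  let j : Equiv.Perm (Fin 3) →* MulAut (CfsgLib.RankOne.UnitarySylow.Heis σ) :=
    E.toMonoidHom.comp (H.subtype.comp eH.symm.toMonoidHom)
  have hj : Function.Injective j := E.injective.comp (H.subtype_injective.comp eH.symm.injective)
  obtain ⟨r, s, hr, hs, hrs, hr1⟩ : ∃ r s : Equiv.Perm (Fin 3), r ^ 3 = 1 ∧ s * s = 1 ∧ s * r * s = r⁻¹ ∧ r ≠ 1 :=
    ⟨Equiv.swap 0 1 * Equiv.swap 1 2, Equiv.swap 0 1, by decide, by decide, by decide, by decide⟩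
  obtain ⟨-, -, -, hK⟩ := CfsgLib.RankOne.UnitarySylow.aut_structure (σ := σ) (q := 4) 2 (by norm_num) (by norm_num)
  obtain ⟨⟨f, u, τ⟩, hx⟩ := (CfsgLib.RankOne.UnitarySylow.decompose (σ := σ) (q := 4)).2 (j r)
  obtain ⟨⟨f', v, τ'⟩, hy⟩ := (CfsgLib.RankOne.UnitarySylow.decompose (σ := σ) (q := 4)).2 (j s)
  have hxc : ∀ g, (j r g).c = u * τ g.c := fun g => by rw [← hx]; rfl
  have hyc : ∀ g, (j s g).c = v * τ' g.c := fun g => by rw [← hy]; rfl
  choose e he using CfsgLib.RankOne.UnitarySylow.exists_elt (σ := σ)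
  have key : ∀ {φ : MulAut (CfsgLib.RankOne.UnitarySylow.Heis σ)} {B : F → F}, φ = 1 →
      (∀ g, (φ g).c = B g.c) → ∀ c, B c = c := fun {φ} {B} h1 h2 c => by
    have := h2 (e c)
    rw [h1, MulAut.one_apply, he] at this
    exact this.symm
  -- the field automorphism of the element of order three is trivial
  have h3 := key (show j r * (j r * j r) = 1 by rw [← map_mul, ← map_mul, ← mul_assoc, ← pow_three', hr, map_one])
    (B := fun c => u * τ (u * τ (u * τ c))) fun g => by rw [MulAut.mul_apply, MulAut.mul_apply, hxc, hxc, hxc]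
  have hu3 : (u : F) * τ (u * τ u) = 1 := by simpa using h3 1
  have hF4 : Nat.card F = 2 ^ 4 := by rw [Nat.card_eq_fintype_card, hF]; norm_num
  haveI : Fact (Nat.Prime 2) := ⟨Nat.prime_two⟩
  have hτ4 : τ ^ 4 = 1 := CfsgLib.Perm.SharpThreeFrame.ringEquiv_pow_eq_one hF4 τ
  have hτ3 : τ ^ 3 = 1 := RingEquiv.ext fun c => by
    have h := h3 c
    simp only [map_mul] at h hu3
    show τ (τ (τ c)) = c
    linear_combination h - τ (τ (τ c)) * hu3
  have hτ : τ = 1 := by rwa [pow_succ, hτ3, one_mul] at hτ4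
  have hu : (u : F) ^ 3 = 1 := by rw [hτ] at hu3; simpa [pow_three] using hu3
  -- the involution fixes `u`
  have h2 := key (show j s * j s = 1 by rw [← map_mul, hs, map_one])
    (B := fun c => v * τ' (v * τ' c)) fun g => by rw [MulAut.mul_apply, hyc, hyc]
  have hv2 : (v : F) * τ' v = 1 := by simpa using h2 1
  have hτ'2 : ∀ c, τ' (τ' c) = c := fun c => by
    have h := h2 c
    simp only [map_mul] at h
    linear_combination h - τ' (τ' c) * hv2
  obtain ⟨g, hg⟩ : ∃ g : F ≃+* F, τ' = g * g := by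
    obtain ⟨ε⟩ := CfsgLib.KnownC.AutPSL.ringAut_cyclic (F := F) (p := 2) (f := 4) (by rw [hF]; norm_num)
    have h4 : ∀ x : Multiplicative (ZMod 4), x * x = 1 → ∃ y, x = y * y := by decide
    obtain ⟨y, hy'⟩ := h4 (ε τ') (by
      rw [← map_mul, show τ' * τ' = 1 from RingEquiv.ext hτ'2, map_one])
    exact ⟨ε.symm y, ε.injective (by rw [map_mul, ε.apply_symm_apply, hy'])⟩
  have hfix : τ' u = u := by
    have hg3 : g u ^ 3 = 1 := by rw [← map_pow, hu, map_one]
    rw [hg, RingAut.mul_apply]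
    by_cases hu1' : (u : F) = 1
    · rw [hu1', map_one, map_one]
    have hgu1 : g u ≠ 1 := fun h => hu1' (g.injective (h.trans (map_one g).symm))
    have hq1 : (u : F) ^ 2 + u + 1 = 0 := mul_left_cancel₀ (sub_ne_zero.2 hu1') (by linear_combination hu)
    have hq2 : g u ^ 2 + g u + 1 = 0 := mul_left_cancel₀ (sub_ne_zero.2 hgu1) (by linear_combination hg3)
    rcases mul_eq_zero.1 (show (g u - u) * (g u + u + 1) = 0 by linear_combination hq2 - hq1) with h | h
    · rw [sub_eq_zero.1 h, sub_eq_zero.1 h]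
    · rw [show g u = -u - 1 by linear_combination h, map_sub, map_neg, map_one,
        show g u = -u - 1 by linear_combination h]
      ring
  -- conjugation
  have hc := key (show j s * (j r * (j s * j r)) = 1 by
      rw [← map_mul, ← map_mul, ← map_mul, show s * (r * (s * r)) = (s * r * s) * r by group, hrs,
        inv_mul_cancel, map_one])
    (B := fun c => v * τ' (u * τ (v * τ' (u * τ c)))) fun g => by
      rw [MulAut.mul_apply, MulAut.mul_apply, MulAut.mul_apply, hyc, hxc, hyc, hxc]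
  have hu2 := hc 1
  simp only [hτ, RingAut.one_apply, mul_one, map_mul, hfix, hτ'2, map_one] at hu2
  have hu1 : (u : F) = 1 := by
    have : (u : F) * u = 1 := by linear_combination hu2 - (u : F) * u * hv2
    linear_combination hu - (u : F) * this
  refine hr1 (hj ?_)
  rw [map_one]
  have hsq := hK (j r) fun g => by rw [hxc, hu1, one_mul, hτ, RingAut.one_apply]
  have hcube : j r ^ 3 = 1 := by rw [← map_pow, hr, map_one]
  rwa [pow_succ, hsq, one_mul] at hcube

end Cfsg.Agent.S3156
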