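import Cfsg.Statements.S3157
import Cfsg.Agent.Lib.Involution.SixtyFourSymThree
-- import your own Cfsg.Agent.* helpers here

set_option autoImplicit false
open Cfsg

namespace Cfsg.Agent.S3157

/-- Let T be a non-abelian group of order 64 admitting automorphisms ρ of order 3 and x of order 2 with x ρ x⁻¹ = ρ⁻¹ (so they generate a symmetric group of degree 3), where ρ fixes only the identity. Then T is isomorphic to a Sylow 2-subgroup of the projective special linear group of dimension 3 over the field with 4 elements, and the subgroup of fixed points of x is dihedral of order 8 or quaternion of order 8. -/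
theorem result {T : Type*} [Group T] [Finite T] (hT : Nat.card T = 64) (hna : ¬ IsMulCommutative T) (ρ x : MulAut T) (hρ : orderOf ρ = 3) (hx : orderOf x = 2)
    (hxr : x * ρ * x⁻¹ = ρ⁻¹) (hfp : ∀ y : T, ρ y = y → y = 1) (C : Subgroup T) (hC : ∀ y : T, y ∈ C ↔ x y = y) :
    (∃ (F : Type) (_ : Field F) (_ : Fintype F), Fintype.card F = 4 ∧
        ∃ S : Sylow 2 (Matrix.ProjectiveSpecialLinearGroup (Fin 3) F), Nonempty (T ≃* ↥(S : Subgroup (Matrix.ProjectiveSpecialLinearGroup (Fin 3) F)))) ∧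
      (Nonempty (↥C ≃* DihedralGroup 4) ∨ Nonempty (↥C ≃* QuaternionGroup 2)) := by
  classical
  let σ : T →* T := ρ.toMonoidHom
  let X : T →* T := x.toMonoidHom
  have h3 : ρ * ρ * ρ = 1 := by
    rw [← pow_two, ← pow_succ, show 2 + 1 = orderOf ρ by rw [hρ]]; exact pow_orderOf_eq_one ρ
  have h2 : x * x = 1 := by rw [← pow_two, ← hx]; exact pow_orderOf_eq_one x
  have hxr' : x * ρ = ρ * ρ * x := by
    have e : ρ⁻¹ = ρ * ρ := inv_eq_of_mul_eq_one_left h3
    rw [← e, ← hxr]; group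
  have hfpf : CfsgLib.Involution.SixtyFourSymThree.Fpf σ :=
    ⟨fun t => DFunLike.congr_fun h3 t, hfp⟩
  have hna' : ∃ t u : T, t * u ≠ u * t := by
    by_contra hne
    push Not at hne
    exact hna ⟨⟨hne⟩⟩
  have hS := CfsgLib.Involution.SixtyFourSymThree.special hfpf hT hna'
  have hx2 : ∀ t, X (X t) = t := fun t => DFunLike.congr_fun h2 t
  have hxs : ∀ t, X (σ t) = σ (σ (X t)) := fun t => DFunLike.congr_fun hxr' t
  obtain ⟨hC8, u, hu, v, hv, huv⟩ := hS.fixed_facts X hx2 hxs hT C hC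
  obtain ⟨a, b, ha, hb, hab⟩ := hS.exists_pair X hx2 hxs C hC hu hv huv
  obtain ⟨hrel, hgen⟩ := hS.rel_of_pair ha hb hab hT
  constructor
  · haveI : Fact (Nat.Prime 2) := ⟨Nat.prime_two⟩
    let := Fintype.ofFinite (GaloisField 2 2)
    have hF : Fintype.card (GaloisField 2 2) = 4 := by
      rw [← Nat.card_eq_fintype_card, GaloisField.card 2 2 (by norm_num)]; norm_num
    let P : Sylow 2 (Matrix.ProjectiveSpecialLinearGroup (Fin 3) (GaloisField 2 2)) := default
    obtain ⟨hP, x', y', d', e', z₁, z₂, hrel', hgen'⟩ := CfsgLib.LocalEvenB.FourFixed.psl_model hF P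
    exact ⟨GaloisField 2 2, inferInstance, inferInstance, hF, P, hrel.mulEquiv hrel' hT hP.ge hgen hgen'⟩
  · have hnaC : ∃ s t : C, s * t ≠ t * s := ⟨⟨u, hu⟩, ⟨v, hv⟩, fun e => huv (by
      have e' : u * v = v * u := congrArg Subtype.val e
      show u * v * u⁻¹ * v⁻¹ = 1
      rw [e']; group)⟩
    obtain ⟨A, hA, hAi⟩ := CfsgLib.TwoGroups.Classify.cyclic_max_of_order_eight hC8 hnaC
    obtain ⟨c, -, hc⟩ := CfsgLib.TwoGroups.Classify.exists_generator hA hAi
    have hc4 : orderOf c = 2 ^ 2 := by rw [hC8] at hc; omega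
    obtain ⟨d, hd, hcase⟩ :=
      CfsgLib.TwoGroups.Classify.classify (k := 2) le_rfl (by rw [hC8]; norm_num) hc4 hnaC
    rcases hcase with ⟨hd2, hdc⟩ | ⟨hd2, hdc⟩ | ⟨h, -, -⟩ | ⟨h, -, -⟩
    · exact Or.inl (CfsgLib.TwoGroups.CyclicMax.dihedral_iso (m := 4) hc4 (by rw [hC8]) hd
        (by rw [← pow_two]; exact hd2) hdc)
    · exact Or.inr (CfsgLib.TwoGroups.CyclicMax.quaternion_iso (m := 2) (by norm_num) hc4 (by rw [hC8]) hd
        (by rw [← pow_two]; simpa using hd2) hdc)
    · omega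
    · omega

end Cfsg.Agent.S3157
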