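import Cfsg.Statements.S3158
import Cfsg.Agent.Lib.Solvable.FrattiniFitting

set_option autoImplicit false
open Cfsg

namespace Cfsg.Agent.S3158

/-- Let U be a group of order q² with q = 2^n ≥ 2, and y an automorphism of U of order q − 1 all of whose nontrivial powers fix only the identity. Let V be a proper normal y-invariant subgroup of U such that V and U/V are elementary abelian 2-groups and there is an isomorphism from V to U/V commuting with the actions of y. Then U is abelian. -/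
theorem result {U : Type*} [Group U] [Finite U] (n : ℕ) (hn : 1 ≤ n) (hU : Nat.card U = (2 ^ n) ^ 2)
    (y : MulAut U) (hy : orderOf y = 2 ^ n - 1) (hfp : ∀ k : ℕ, y ^ k ≠ 1 → ∀ u : U, (y ^ k) u = u → u = 1)
    (V : Subgroup U) [V.Normal] (hV : V ≠ ⊤) (hyV : ∀ v ∈ V, y v ∈ V)
    (hVe : ∀ v ∈ V, v ^ 2 = 1) (hQe : ∀ u : U, u ^ 2 ∈ V) (hQc : ∀ u w : U, u * w * u⁻¹ * w⁻¹ ∈ V)
    (φ : ↥V ≃* U ⧸ V) (hφ : ∀ (v : ↥V) (u : U), (QuotientGroup.mk u : U ⧸ V) = φ v → φ ⟨y v, hyV v v.2⟩ = QuotientGroup.mk (y u)) :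
    IsMulCommutative U := by
  classical
  haveI : Fintype U := Fintype.ofFinite U
  have hq : 2 ≤ 2 ^ n := by
    calc (2:ℕ) = 2 ^ 1 := rfl
      _ ≤ 2 ^ n := Nat.pow_le_pow_right two_pos hn
  have hVcard : Nat.card V = 2 ^ n := by
    have h := Subgroup.card_eq_card_quotient_mul_card_subgroup V
    rw [← Nat.card_congr φ.toEquiv, hU, ← sq] at h
    exact (Nat.pow_left_injective two_ne_zero h).symm
  have hcomm : ∀ k : ℕ, ∀ v : U, v ∈ V → (y ^ k) v ∈ V := by
    intro k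
    induction k with
    | zero => intro v hv; simpa using hv
    | succ k ih => intro v hv; rw [pow_succ', MulAut.mul_apply]; exact hyV _ (ih v hv)
  have horb : ∀ v₀ : U, v₀ ∈ V → v₀ ≠ 1 → ∀ v : U, v ∈ V → v ≠ 1 → ∃ k : ℕ, (y ^ k) v₀ = v := by
    intro v₀ hv₀ hne v hv hv1
    let f : Fin (2 ^ n - 1) → {x : V // x ≠ 1} := fun k =>
      ⟨⟨(y ^ (k : ℕ)) v₀, hcomm k v₀ hv₀⟩, fun h => hne ((y ^ (k : ℕ)).map_eq_one_iff.mp (congrArg Subtype.val h))⟩
    have hf : Function.Injective f := by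
      intro a b hab
      have h : (y ^ (a : ℕ)) v₀ = (y ^ (b : ℕ)) v₀ := congrArg (fun x : {x : V // x ≠ 1} => ((x : V) : U)) hab
      apply Fin.ext
      by_contra hne'
      wlog hle : (a : ℕ) < b generalizing a b with H
      · exact H hab.symm h.symm (Ne.symm hne') (by omega)
      have hsplit : (y ^ ((b : ℕ) - a)) ((y ^ (a : ℕ)) v₀) = (y ^ (a : ℕ)) v₀ := by
        rw [← MulAut.mul_apply, ← pow_add, Nat.sub_add_cancel hle.le, ← h]
      have hk : y ^ ((b : ℕ) - a) ≠ 1 := fun h1 => by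
        have := orderOf_dvd_of_pow_eq_one h1
        rw [hy] at this
        have := Nat.le_of_dvd (by omega) this
        have := b.2
        omega
      exact hne ((y ^ (a : ℕ)).map_eq_one_iff.mp (hfp _ hk _ hsplit))
    have hsurj : Function.Surjective f := by
      refine (hf.bijective_of_nat_card_le ?_).2
      rw [Nat.card_eq_fintype_card, Fintype.card_subtype_compl, Fintype.card_subtype_eq,
        ← Nat.card_eq_fintype_card, hVcard, Nat.card_eq_fintype_card, Fintype.card_fin]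
    obtain ⟨k, hk⟩ := hsurj ⟨⟨v, hv⟩, fun h => hv1 (congrArg Subtype.val h)⟩
    exact ⟨k, congrArg (fun x : {x : V // x ≠ 1} => ((x : V) : U)) hk⟩
  have hVbot : (V : Subgroup U) ≠ ⊥ := fun h => by
    rw [h, Subgroup.card_bot] at hVcard; omega
  haveI := Fact.mk Nat.prime_two
  have hU2 : IsPGroup 2 U := IsPGroup.of_card (n := n * 2) (by rw [hU, ← pow_mul])
  obtain ⟨v₀, hv₀c, hv₀V, hv₀⟩ : ∃ v₀ ∈ Subgroup.center U, v₀ ∈ V ∧ v₀ ≠ 1 := by
    haveI := hU2.isNilpotent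
    have h := CfsgLib.Solvable.FrattiniFitting.inf_center_ne_bot V hVbot
    obtain ⟨x, hx, hx1⟩ := (Subgroup.bot_or_exists_ne_one (V ⊓ Subgroup.center U)).resolve_left h
    exact ⟨x, hx.2, hx.1, hx1⟩
  have hVc : ∀ v ∈ V, ∀ u : U, u * v = v * u := by
    intro v hv u
    by_cases h1 : v = 1
    · rw [h1]; simp
    obtain ⟨k, rfl⟩ := horb v₀ hv₀V hv₀ v hv h1
    have := congrArg (y ^ k) (Subgroup.mem_center_iff.mp hv₀c ((y ^ k).symm u))
    simpa using this
  have hsq : ∀ (u v : U), v ∈ V → (u * v) ^ 2 = u ^ 2 := by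
    intro u v hv
    rw [Commute.mul_pow (hVc v hv u), hVe v hv, mul_one]
  let s : U ⧸ V → V := fun q => Quotient.liftOn' q (fun u => (⟨u ^ 2, hQe u⟩ : V)) fun a b hab => Subtype.ext (by
    have := hsq a (a⁻¹ * b) (QuotientGroup.leftRel_apply.mp hab)
    rw [mul_inv_cancel_left] at this
    exact this.symm)
  have hs : ∀ u : U, (s (QuotientGroup.mk u) : U) = u ^ 2 := fun u => rfl
  have hφk : ∀ (k : ℕ) (v : V) (u : U), (QuotientGroup.mk u : U ⧸ V) = φ v →
      φ ⟨(y ^ k) v, hcomm k v v.2⟩ = QuotientGroup.mk ((y ^ k) u) := by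
    intro k
    induction k with
    | zero => intro v u h; simpa using h.symm
    | succ k ih =>
      intro v u h
      have := hφ ⟨_, hcomm k v v.2⟩ ((y ^ k) u) (ih v u h).symm
      have e : (⟨(y ^ (k + 1)) v, hcomm (k + 1) v v.2⟩ : V) = ⟨y ((y ^ k) v), hyV _ (hcomm k v v.2)⟩ :=
        Subtype.ext (by show (y ^ (k + 1)) (v : U) = _; rw [pow_succ', MulAut.mul_apply])
      rw [e, pow_succ', MulAut.mul_apply]
      exact this
  -- the squaring map is a power of `y` transported by `φ`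
  obtain ⟨c, hc⟩ : ∃ c : V, ∀ (k : ℕ), (s (φ ⟨(y ^ k) v₀, hcomm k v₀ hv₀V⟩) : U) = (y ^ k) c := by
    obtain ⟨u₀, hu₀⟩ := QuotientGroup.mk_surjective (φ ⟨v₀, hv₀V⟩)
    refine ⟨⟨u₀ ^ 2, hQe u₀⟩, fun k => ?_⟩
    rw [hφk k ⟨v₀, hv₀V⟩ u₀ hu₀, hs, map_pow]
  have hadd : ∀ a b : V, (s (φ (a * b)) : U) = (s (φ a) : U) * (s (φ b) : U) := by
    have hs1 : (s (φ 1) : U) = 1 := by rw [map_one]; exact (hs 1).trans (one_pow 2)
    by_cases hc1 : (c : U) = 1
    · have h0 : ∀ a : V, (s (φ a) : U) = 1 := fun a => by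
        by_cases ha : (a : U) = 1
        · rw [show a = 1 from Subtype.ext ha, hs1]
        obtain ⟨k, hk⟩ := horb v₀ hv₀V hv₀ a a.2 ha
        rw [show a = ⟨(y ^ k) v₀, hcomm k v₀ hv₀V⟩ from Subtype.ext hk.symm, hc, hc1, map_one]
      intro a b
      rw [h0, h0, h0, one_mul]
    obtain ⟨m, hm⟩ := horb v₀ hv₀V hv₀ c c.2 hc1
    have hlin : ∀ a : V, (s (φ a) : U) = (y ^ m) a := fun a => by
      by_cases ha : (a : U) = 1
      · rw [show a = 1 from Subtype.ext ha, hs1]; simp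
      obtain ⟨k, hk⟩ := horb v₀ hv₀V hv₀ a a.2 ha
      rw [show a = ⟨(y ^ k) v₀, hcomm k v₀ hv₀V⟩ from Subtype.ext hk.symm, hc, ← hm]
      show (y ^ k) ((y ^ m) v₀) = (y ^ m) ((y ^ k) v₀)
      rw [← MulAut.mul_apply, ← MulAut.mul_apply, ← pow_add, ← pow_add, add_comm]
    intro a b
    rw [hlin, hlin, hlin, Subgroup.coe_mul, map_mul]
  refine ⟨⟨fun u w => ?_⟩⟩
  have h := hadd (φ.symm (QuotientGroup.mk u)) (φ.symm (QuotientGroup.mk w))
  rw [← map_mul, φ.apply_symm_apply, φ.apply_symm_apply, φ.apply_symm_apply, ← QuotientGroup.mk_mul, hs, hs, hs, sq, sq, sq] at h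
  have h' : u * (w * u) * w = u * (u * w) * w := by simpa [mul_assoc] using h
  exact (mul_left_cancel (mul_right_cancel h')).symm

end Cfsg.Agent.S3158
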