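import Cfsg.Statements.S3161
import Cfsg.Agent.Lib.RankOne.FixedLine.Iso

set_option autoImplicit false
open Cfsg

namespace Cfsg.Agent.S3161

/-- Let Q be a non-abelian finite 2-group admitting commuting automorphisms α of order 2 and ρ of order 2^n − 1, where n ≥ 2, such that the fixed points of α form an elementary abelian subgroup of order 2^n on whose nonidentity elements the group generated by ρ acts transitively. Then Q is isomorphic to a Sylow 2-subgroup of the projective special unitary group of dimension 3 with parameter 2^n (realised over the field with 4^n elements) or of the projective special linear group of dimension 3 over the field with 2^n elements. -/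
theorem result {Q : Type*} [Group Q] [Finite Q] (hQ : IsPGroup 2 Q) (hna : ¬ IsMulCommutative Q) (n : ℕ) (hn : 2 ≤ n)
    (α ρ : MulAut Q) (hα : orderOf α = 2) (hρ : orderOf ρ = 2 ^ n - 1) (hc : Commute α ρ)
    (C : Subgroup Q) (hC : ∀ x : Q, x ∈ C ↔ α x = x) (hCE : Cfsg.IsElementaryAbelian 2 C ∧ Nat.card ↥C = 2 ^ n)
    (htr : ∀ x y : Q, x ∈ C → y ∈ C → x ≠ 1 → y ≠ 1 → ∃ k : ℕ, (ρ ^ k) x = y) :
    (∃ (F : Type) (_ : Field F) (_ : Fintype F), Fintype.card F = 4 ^ n ∧
        ∃ S : Sylow 2 (Cfsg.PSU 3 F (2 ^ n)), Nonempty (Q ≃* ↥(S : Subgroup (Cfsg.PSU 3 F (2 ^ n))))) ∨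
      (∃ (F : Type) (_ : Field F) (_ : Fintype F), Fintype.card F = 2 ^ n ∧
        ∃ S : Sylow 2 (Matrix.ProjectiveSpecialLinearGroup (Fin 3) F), Nonempty (Q ≃* ↥(S : Subgroup (Matrix.ProjectiveSpecialLinearGroup (Fin 3) F)))) := by
  classical
  haveI : IsMulCommutative C := hCE.1.1
  letI : CommGroup C :=
    { (inferInstance : Group C) with mul_comm := fun a b => hCE.1.1.is_comm.comm a b }
  have hCmem : ∀ (a : Subgroup.zpowers ρ) (x : Q), x ∈ C → (a : MulAut Q) x ∈ C := fun a x hx => by
    obtain ⟨k, hk⟩ := a.2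
    have h : Commute α (a : MulAut Q) := by rw [← hk]; exact hc.zpow_right k
    rw [hC] at hx ⊢
    have e := DFunLike.congr_fun h.eq x
    simp only [MulAut.mul_apply] at e
    rw [e, hx]
  letI : CommGroup (Subgroup.zpowers ρ) :=
    { (inferInstance : Group (Subgroup.zpowers ρ)) with mul_comm := fun a b => mul_comm' a b }
  let act : Subgroup.zpowers ρ →* AddMonoid.End (Additive C) :=
    { toFun := fun a => AddMonoidHom.mk'
        (fun v => Additive.ofMul (⟨(a : MulAut Q) (Additive.toMul v : C), hCmem a _ (Additive.toMul v).2⟩ : C))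
        (fun v w => Additive.toMul.injective (Subtype.ext (map_mul (a : MulAut Q) _ _)))
      map_one' := AddMonoidHom.ext fun v => rfl
      map_mul' := fun a b => AddMonoidHom.ext fun v => rfl }
  have hV : ∀ v : Additive C, v + v = 0 := fun v => by
    have h := hCE.1.2 _ (Additive.toMul v).2
    rw [pow_two] at h
    exact Additive.toMul.injective (Subtype.ext h)
  haveI : Nontrivial C := Finite.one_lt_card_iff_nontrivial.1 (by
    rw [hCE.2]; exact Nat.one_lt_two_pow (by omega))
  obtain ⟨c₀, hc₀⟩ := exists_ne (1 : C)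
  obtain ⟨K', _, _, _, e', he'b, he'a, -, he'1, he'2⟩ :=
    CfsgLib.RankOne.SuzukiTwoTypeA.exists_field_of_trans hV act (Additive.ofMul c₀) (fun h => hc₀ h)
      (fun v hv => by
        obtain ⟨k, hk⟩ := htr (c₀ : Q) (Additive.toMul v : C) c₀.2 (Additive.toMul v).2
          (fun h => hc₀ (Subtype.ext h)) (fun h => hv (Additive.toMul.injective (Subtype.ext h)))
        exact ⟨⟨ρ ^ k, Subgroup.npow_mem_zpowers ρ k⟩, Additive.toMul.injective (Subtype.ext hk)⟩)
  haveI : Fact (Nat.Prime 2) := ⟨Nat.prime_two⟩
  letI : Fintype (GaloisField 2 n) := Fintype.ofFinite _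
  have hK : Fintype.card (GaloisField 2 n) = 2 ^ n := by
    rw [← Nat.card_eq_fintype_card, GaloisField.card 2 n (by omega)]
  have hK' : Fintype.card K' = 2 ^ n := by
    rw [← Nat.card_eq_fintype_card, Nat.card_eq_of_bijective e' he'b]
    exact hCE.2
  let φ := FiniteField.ringEquivOfCardEq (K := GaloisField 2 n) (K' := K') (hK.trans hK'.symm)
  let e : GaloisField 2 n → Q := fun x => ((Additive.toMul (e' (φ x)) : C) : Q)
  have hein : Function.Injective e := fun x y h =>
    φ.injective (he'b.1 (Additive.toMul.injective (Subtype.ext h)))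
  have headd : ∀ a b, e (a + b) = e a * e b := fun a b => by
    simp only [e, map_add, he'a, toMul_add, Subgroup.coe_mul]
  have hfix : ∀ x, α x = x ↔ ∃ a, e a = x := fun x => by
    rw [← hC]
    constructor
    · intro hx
      obtain ⟨y, hy⟩ := he'b.2 (Additive.ofMul ⟨x, hx⟩)
      exact ⟨φ.symm y, by simp [e, hy]⟩
    · rintro ⟨a, rfl⟩
      exact (Additive.toMul (e' (φ a))).2
  have hone : ∀ s t : (GaloisField 2 n)ˣ, (∀ x, e ((s : GaloisField 2 n) * x) = e (t * x)) → s = t :=
    fun s t h => Units.ext (by simpa using hein (h 1))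
  have hex : ∀ a : Subgroup.zpowers ρ, ∃ s : (GaloisField 2 n)ˣ,
      ∀ x, (a : MulAut Q) (e x) = e ((s : GaloisField 2 n) * x) := fun a => by
    obtain ⟨s, hs0, hs⟩ := he'1 a
    refine ⟨Units.mk0 (φ.symm s) (by simpa using hs0), fun x => ?_⟩
    have h := congrArg (fun v : Additive C => ((Additive.toMul v : C) : Q)) (hs (φ x))
    simp only [e, Units.val_mk0, map_mul, RingEquiv.apply_symm_apply]
    exact h
  choose s hs using hex
  let χ : Subgroup.zpowers ρ →* (GaloisField 2 n)ˣ := MonoidHom.mk' s fun a b => hone _ _ fun x => by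
    rw [← hs, Subgroup.coe_mul, MulAut.mul_apply, hs, hs, Units.val_mul, mul_assoc]
  have hχ : Function.Bijective χ := by
    refine (Nat.bijective_iff_surjective_and_card χ).2 ⟨fun t => ?_, ?_⟩
    · obtain ⟨a, ha⟩ := he'2 (φ (t : GaloisField 2 n)) (by simp)
      refine ⟨a, hone _ _ fun x => ?_⟩
      have h := congrArg (fun v : Additive C => ((Additive.toMul v : C) : Q)) (ha (φ x))
      show e ((s a : GaloisField 2 n) * x) = _
      rw [← hs]
      simp only [e, map_mul]
      exact h
    · rw [Nat.card_zpowers, hρ, Nat.card_units, Nat.card_eq_fintype_card, hK]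
  let χe := MulEquiv.ofBijective χ hχ
  let d : CfsgLib.RankOne.FixedLine.Data Q (GaloisField 2 n) :=
    { α := α
      σ := (Subgroup.zpowers ρ).subtype.comp χe.symm.toMonoidHom
      e := e
      invol := fun x => by
        have h : α * α = 1 := by rw [← pow_two, ← hα, pow_orderOf_eq_one]
        exact DFunLike.congr_fun h x
      comm := fun t x => by
        obtain ⟨k, hk⟩ := (χe.symm t).2
        have h : Commute α (χe.symm t : MulAut Q) := by rw [← hk]; exact hc.zpow_right k
        exact (DFunLike.congr_fun h.eq x).symm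
      inj := hein
      e_add := headd
      fixed := hfix
      act := fun t a => by
        show (χe.symm t : MulAut Q) (e a) = _
        rw [hs]
        have : χ (χe.symm t) = t := χe.apply_symm_apply t
        rw [show s (χe.symm t) = t from this] }
  have hna' : ∃ x y : Q, x * y ≠ y * x := by
    by_contra h
    push Not at h
    exact hna ⟨⟨h⟩⟩
  have ht : ∃ t : GaloisField 2 n, t ≠ 0 ∧ t ≠ 1 := by
    by_contra h
    push Not at h
    have hle : Fintype.card (GaloisField 2 n) ≤ 2 := by
      refine (Finset.card_le_card (s := Finset.univ) (t := {0, 1}) fun t _ => ?_).trans Finset.card_le_two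
      rcases eq_or_ne t 0 with rfl | h0
      · simp
      · simp [h t h0]
    have h4 : 4 ≤ 2 ^ n := le_trans (by norm_num) (Nat.pow_le_pow_right (by norm_num) hn)
    omega
  obtain ⟨L⟩ := CfsgLib.RankOne.FixedLine.exists_lines d hQ ht hna'
  exact CfsgLib.RankOne.FixedLine.exists_models d hQ L hna' n hn hK

end Cfsg.Agent.S3161
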