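import Cfsg.Statements.S3162
import Cfsg.Agent.Lib.RankOne.UnitaryAut

set_option autoImplicit false
open Cfsg

namespace Cfsg.Agent.S3162

/-- Let S be a Sylow 2-subgroup of the special unitary group of dimension 3 with parameter q = 2^n (n ≥ 2; realised over the field with q² elements). Then the largest normal 2-subgroup of the automorphism group of S is elementary abelian of order 2^(2n²), and the automorphism group has order 2^(2n²) · 2n(q² − 1). -/
theorem result {S : Type*} [Group S] [Finite S] (n : ℕ) (hn : 2 ≤ n) {F : Type*} [Field F] [Fintype F] (hF : Fintype.card F = 4 ^ n)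
    (P : Sylow 2 ↥(Cfsg.SU 3 F (2 ^ n))) (hS : Nonempty (S ≃* ↥(P : Subgroup ↥(Cfsg.SU 3 F (2 ^ n))))) :
    Cfsg.IsElementaryAbelian 2 (Cfsg.pCore 2 (MulAut S)) ∧ Nat.card ↥(Cfsg.pCore 2 (MulAut S)) = 2 ^ (2 * n ^ 2) ∧
      Nat.card (MulAut S) = 2 ^ (2 * n ^ 2) * (2 * n * ((2 ^ n) ^ 2 - 1)) := by
  open CfsgLib.RankOne in
  haveI : CharP F 2 := charP_of_card_eq_prime_pow (p := 2) (f := 2 * n) (hp := ⟨Nat.prime_two⟩) (by rw [hF, pow_mul, show (2 : ℕ) ^ 2 = 4 by norm_num])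
  have hF' : Fintype.card F = (2 ^ n) ^ 2 := by rw [hF, ← pow_mul, mul_comm, pow_mul]; norm_num
  obtain ⟨σ, hσq, hσ⟩ := CfsgLib.Classical.exists_frob hF'
  haveI : Fact (CfsgLib.Classical.IsConjugation σ) := ⟨hσ⟩
  haveI : Fact (Fintype.card F = (2 ^ n) ^ 2 ∧ ∀ x, σ x = x ^ (2 ^ n)) := ⟨⟨hF', hσq⟩⟩
  obtain ⟨e₁⟩ := hS
  obtain ⟨e₂⟩ := CfsgLib.RankOne.UnitarySylow.sylow_equiv_SU (σ := σ) n (by omega) rfl P
  let E : MulAut (CfsgLib.RankOne.UnitarySylow.Heis σ) ≃* MulAut S := MulAut.congr (e₂.trans e₁.symm)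
  obtain ⟨h1, h2, h3, -⟩ := CfsgLib.RankOne.UnitarySylow.aut_structure (σ := σ) n (by omega) rfl
  have hmap : Cfsg.pCore 2 (MulAut S) = (Cfsg.pCore 2 (MulAut (CfsgLib.RankOne.UnitarySylow.Heis σ))).map E.toMonoidHom := by
    haveI := CfsgLib.Solvable.Cores.pCore_normal (G := MulAut (CfsgLib.RankOne.UnitarySylow.Heis σ)) 2
    haveI := CfsgLib.Solvable.Cores.pCore_normal (G := MulAut S) 2
    refine le_antisymm ?_ ?_
    · rw [Subgroup.map_equiv_eq_comap_symm', ← Subgroup.map_le_iff_le_comap]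
      haveI : ((Cfsg.pCore 2 (MulAut S)).map E.symm.toMonoidHom).Normal := Subgroup.Normal.map inferInstance _ E.symm.surjective
      exact CfsgLib.Solvable.Cores.le_pCore ((CfsgLib.Solvable.Cores.isPGroup_pCore 2).map _)
    · haveI : ((Cfsg.pCore 2 (MulAut (CfsgLib.RankOne.UnitarySylow.Heis σ))).map E.toMonoidHom).Normal := Subgroup.Normal.map inferInstance _ E.surjective
      exact CfsgLib.Solvable.Cores.le_pCore ((CfsgLib.Solvable.Cores.isPGroup_pCore 2).map _)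
  refine ⟨?_, ?_, ?_⟩
  · rw [hmap]
    refine ⟨?_, ?_⟩
    · refine ⟨⟨fun x y => Subtype.ext ?_⟩⟩
      obtain ⟨x', hx', hx⟩ := x.2
      obtain ⟨y', hy', hy⟩ := y.2
      rw [Subgroup.coe_mul, Subgroup.coe_mul, ← hx, ← hy, ← map_mul, ← map_mul]
      exact congrArg E (congrArg Subtype.val (h1.1.is_comm.comm ⟨x', hx'⟩ ⟨y', hy'⟩))
    · rintro _ ⟨x, hx, rfl⟩
      rw [← map_pow, h1.2 x hx, map_one]
  · rw [hmap, Subgroup.card_map_of_injective E.injective, h2]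
  · rw [← Nat.card_congr E.toEquiv, h3]

end Cfsg.Agent.S3162
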