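import Cfsg.Statements.S3163
import Mathlib

set_option autoImplicit false
open Cfsg

namespace Cfsg.Agent.S3163

theorem sq_comm {S : Type*} [Group S] {a b : S} (ha : a ^ 2 = 1) (hb : b ^ 2 = 1) (h : (a * b) ^ 2 = 1) :
    a * b = b * a := by
  rw [sq] at ha hb h
  calc a * b = (a * b)⁻¹ := (inv_eq_of_mul_eq_one_left h).symm
    _ = b⁻¹ * a⁻¹ := mul_inv_rev a b
    _ = b * a := by rw [inv_eq_of_mul_eq_one_left hb, inv_eq_of_mul_eq_one_left ha]

theorem card_centralizer_le {S : Type*} [Group S] [Finite S] (A B : Subgroup S) (x : S)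
    (hAB : ∀ s : S, ∃ b ∈ B, ∃ a ∈ A, s = b * a)
    (hx : ∀ y ∈ A, y * x = x * y → y ∈ B) (hBx : ∀ y ∈ A ⊓ B, y * x = x * y) :
    Nat.card ↥(Subgroup.centralizer ({x} : Set S)) ≤ Nat.card ↥B := by
  set C := Subgroup.centralizer ({x} : Set S) with hC
  have hCA : A ⊓ C = A ⊓ B := by
    ext y
    simp only [Subgroup.mem_inf, hC, Subgroup.mem_centralizer_singleton_iff]
    exact ⟨fun h => ⟨h.1, hx y h.1 h.2⟩, fun h => ⟨h.1, hBx y ⟨h.1, h.2⟩⟩⟩
  have hsurj : Function.Surjective (fun b : B => (QuotientGroup.mk (b : S) : S ⧸ A)) := by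
    intro q
    induction q using QuotientGroup.induction_on with
    | H s =>
      obtain ⟨b, hb, a, ha, rfl⟩ := hAB s
      exact ⟨⟨b, hb⟩, by simp [QuotientGroup.eq, ha]⟩
  have h1 : A.index ≤ A.relIndex B := by
    rw [Subgroup.index_eq_card, Subgroup.relIndex, Subgroup.index_eq_card]
    refine Nat.card_le_card_of_surjective
      (Quotient.map' (fun b : B => (b : S)) fun b c h => ?_) ?_
    · rw [QuotientGroup.leftRel_apply] at h ⊢
      exact h
    · intro q
      obtain ⟨b, hb⟩ := hsurj q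
      exact ⟨QuotientGroup.mk b, hb⟩
  have h2 : A.relIndex C ≤ A.index := by
    rw [← Subgroup.relIndex_top_right]
    exact Subgroup.relIndex_le_of_le_right le_top (by rw [Subgroup.relIndex_top_right]; exact Subgroup.index_ne_zero_of_finite)
  have e : ∀ K : Subgroup S, Nat.card (A ⊓ K : Subgroup S) * A.relIndex K = Nat.card K := by
    intro K
    rw [← Subgroup.card_mul_index (A.subgroupOf K), ← Nat.card_congr (Subgroup.subgroupOfEquivOfLe (inf_le_right : A ⊓ K ≤ K)).toEquiv,
      Subgroup.inf_subgroupOf_right, Subgroup.relIndex]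
  calc Nat.card C = Nat.card (A ⊓ C : Subgroup S) * A.relIndex C := (e C).symm
    _ ≤ Nat.card (A ⊓ B : Subgroup S) * A.relIndex B := by
        rw [hCA]; exact Nat.mul_le_mul_left _ (h2.trans h1)
    _ = Nat.card B := e B


/-- Let S be a non-abelian finite 2-group which is the product S = AB of two elementary abelian subgroups A and B, and suppose that the centralizer in S of every element of A outside B is exactly A. Then the centralizer of every element of B outside A is exactly B; A and B are maximal elementary abelian subgroups of S and the only ones; the centre of S is A ∩ B; and every element of S outside A ∪ B has centralizer of order at most min(|A|, |B|). -/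
theorem result {S : Type*} [Group S] [Finite S] (hS : IsPGroup 2 S) (hna : ¬ IsMulCommutative S) (A B : Subgroup S)
    (hA : Cfsg.IsElementaryAbelian 2 A) (hB : Cfsg.IsElementaryAbelian 2 B) (hAB : ∀ s : S, ∃ a ∈ A, ∃ b ∈ B, s = a * b)
    (hC : ∀ a ∈ A, a ∉ B → Subgroup.centralizer ({a} : Set S) = A) :
    (∀ b ∈ B, b ∉ A → Subgroup.centralizer ({b} : Set S) = B) ∧
      (∀ E : Subgroup S, Cfsg.IsElementaryAbelian 2 E → (∀ E' : Subgroup S, Cfsg.IsElementaryAbelian 2 E' → E ≤ E' → E' = E) → E = A ∨ E = B) ∧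
      (∀ E' : Subgroup S, Cfsg.IsElementaryAbelian 2 E' → A ≤ E' → E' = A) ∧ (∀ E' : Subgroup S, Cfsg.IsElementaryAbelian 2 E' → B ≤ E' → E' = B) ∧
      Subgroup.center S = A ⊓ B ∧
      (∀ x : S, x ∉ A → x ∉ B → Nat.card ↥(Subgroup.centralizer ({x} : Set S)) ≤ min (Nat.card ↥A) (Nat.card ↥B)) := by
  obtain ⟨hAc, hA2⟩ := hA
  obtain ⟨hBc, hB2⟩ := hB
  have cA : ∀ a ∈ A, ∀ a' ∈ A, a * a' = a' * a := fun a ha a' ha' => setLike_mul_comm ha ha'
  have cB : ∀ a ∈ B, ∀ a' ∈ B, a * a' = a' * a := fun a ha a' ha' => setLike_mul_comm ha ha'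
  have hex : ∃ a0 ∈ A, a0 ∉ B := by
    by_contra! h
    refine hna ⟨⟨fun s t => ?_⟩⟩
    obtain ⟨a, ha, b, hb, rfl⟩ := hAB s
    obtain ⟨a', ha', b', hb', rfl⟩ := hAB t
    exact cB _ (mul_mem (h a ha) hb) _ (mul_mem (h a' ha') hb')
  obtain ⟨a0, ha0, ha0B⟩ := hex
  have inA : ∀ s, s * a0 = a0 * s → s ∈ A := fun s h => by
    rw [← hC a0 ha0 ha0B]; exact Subgroup.mem_centralizer_singleton_iff.mpr h
  have hBA : ¬ B ≤ A := by
    intro h
    refine hna ⟨⟨fun s t => ?_⟩⟩
    obtain ⟨a, ha, b, hb, rfl⟩ := hAB s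
    obtain ⟨a', ha', b', hb', rfl⟩ := hAB t
    exact cA _ (mul_mem ha (h hb)) _ (mul_mem ha' (h hb'))
  have comm : ∀ a ∈ A, ∀ b ∈ B, a * b = b * a → a ∈ B ∨ b ∈ A := by
    intro a ha b hb h
    by_cases haB : a ∈ B
    · exact Or.inl haB
    · right; rw [← hC a ha haB]; exact Subgroup.mem_centralizer_singleton_iff.mpr h.symm
  have hinter : ∀ y ∈ A ⊓ B, ∀ s : S, y * s = s * y := by
    intro y hy s
    obtain ⟨a, ha, b, hb, rfl⟩ := hAB s
    calc y * (a * b) = (y * a) * b := by group
      _ = a * (y * b) := by rw [cA y hy.1 a ha]; group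
      _ = a * b * y := by rw [cB y hy.2 b hb]; group
  have first : ∀ b ∈ B, b ∉ A → Subgroup.centralizer ({b} : Set S) = B := by
    intro b hb hbA
    refine le_antisymm ?_ fun y hy => Subgroup.mem_centralizer_singleton_iff.mpr (cB y hy b hb)
    intro y hy
    rw [Subgroup.mem_centralizer_singleton_iff] at hy
    obtain ⟨a, ha, b', hb', rfl⟩ := hAB y
    have h : a * b = b * a := mul_right_cancel (b := b') (by
      calc a * b * b' = a * b' * b := by rw [mul_assoc, mul_assoc, cB b hb b' hb']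
        _ = b * a * b' := by rw [hy]; group)
    exact mul_mem ((comm a ha b hb h).resolve_right hbA) hb'
  have maxA : ∀ E : Subgroup S, Cfsg.IsElementaryAbelian 2 E → A ≤ E → E = A := fun E hE h =>
    le_antisymm (fun y hy => inA y (by haveI := hE.1; exact setLike_mul_comm hy (h ha0))) h
  obtain ⟨b0, hb0, hb0A⟩ := SetLike.not_le_iff_exists.mp hBA
  have maxB : ∀ E : Subgroup S, Cfsg.IsElementaryAbelian 2 E → B ≤ E → E = B := fun E hE h =>
    le_antisymm (fun y hy => by
      rw [← first b0 hb0 hb0A]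
      exact Subgroup.mem_centralizer_singleton_iff.mpr (by haveI := hE.1; exact setLike_mul_comm hy (h hb0))) h
  refine ⟨first, ?_, maxA, maxB, ?_, ?_⟩
  · intro E hE hmax
    haveI := hE.1
    by_cases h1 : ∃ a ∈ E, a ∈ A ∧ a ∉ B
    · obtain ⟨a, haE, haA, haB⟩ := h1
      left
      refine (hmax A ⟨hAc, hA2⟩ fun y hy => ?_).symm
      rw [← hC a haA haB]
      exact Subgroup.mem_centralizer_singleton_iff.mpr (setLike_mul_comm hy haE)
    · by_cases h2 : ∃ b ∈ E, b ∈ B ∧ b ∉ A
      · obtain ⟨b, hbE, hbB, hbA⟩ := h2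
        right
        refine (hmax B ⟨hBc, hB2⟩ fun y hy => ?_).symm
        rw [← first b hbB hbA]
        exact Subgroup.mem_centralizer_singleton_iff.mpr (setLike_mul_comm hy hbE)
      · left
        refine (hmax A ⟨hAc, hA2⟩ fun y hy => ?_).symm
        obtain ⟨a, ha, b, hb, rfl⟩ := hAB y
        have h := sq_comm (hA2 a ha) (hB2 b hb) (hE.2 _ hy)
        rcases comm a ha b hb h with haB | hbA
        · have : a * b ∈ A := by
            by_contra hn; exact h2 ⟨_, hy, mul_mem haB hb, hn⟩
          exact this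
        · exact mul_mem ha hbA
  · refine le_antisymm (fun z hz => ?_) (fun z hz => Subgroup.mem_center_iff.mpr fun s => (hinter z hz s).symm)
    rw [Subgroup.mem_center_iff] at hz
    refine ⟨inA z (hz a0).symm, ?_⟩
    rw [← first b0 hb0 hb0A]
    exact Subgroup.mem_centralizer_singleton_iff.mpr (hz b0).symm
  · intro x hxA hxB
    obtain ⟨a, ha, b, hb, rfl⟩ := hAB x
    have haB : a ∉ B := fun h => hxB (mul_mem h hb)
    have hbA : b ∉ A := fun h => hxA (mul_mem ha h)
    refine le_min ?_ ?_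
    · refine card_centralizer_le B A (a * b) (fun s => hAB s) ?_ (fun y hy => hinter y ⟨hy.2, hy.1⟩ _)
      intro y hy h
      have : a * y = y * a := mul_right_cancel (b := b) (by
        calc a * y * b = a * (b * y) := by rw [mul_assoc, cB y hy b hb]
          _ = y * a * b := by rw [← mul_assoc, ← h]; group)
      exact (comm a ha y hy this).resolve_left haB
    · refine card_centralizer_le A B (a * b) (fun s => ?_) ?_ (fun y hy => hinter y hy _)
      · obtain ⟨a', ha', b', hb', h⟩ := hAB s⁻¹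
        refine ⟨b'⁻¹, inv_mem hb', a'⁻¹, inv_mem ha', ?_⟩
        rw [← inv_inv s, h, mul_inv_rev]
      intro y hy h
      have : y * b = b * y := mul_left_cancel (a := a) (by
        calc a * (y * b) = y * (a * b) := by rw [← mul_assoc, ← cA y hy a ha]; group
          _ = a * (b * y) := by rw [h]; group)
      exact (comm y hy b hb this).resolve_right hbA

end Cfsg.Agent.S3163
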