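import Cfsg.Statements.S3164
import Cfsg.Agent.Lib.Characterizations.StandardCore
import Cfsg.Agent.Lib.Components.GenFitting
import Cfsg.Agent.Lib.Involution.Count
import Cfsg.Agent.Lib.Involution.Basic
-- import your own Cfsg.Agent.* helpers here

set_option autoImplicit false
open Cfsg

namespace Cfsg.Agent.S3164

open Subgroup CfsgLib
open scoped commutatorElement

variable {G : Type*} [Group G] [Finite G]

/-- An involution acting on a subgroup of even order fixes an involution of it. -/
theorem exists_fixed_involution {N : Subgroup G} [N.Normal] (hN : Even (Nat.card N)) {t : G}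
    (ht : t * t = 1) : ∃ j ∈ N, j ≠ 1 ∧ j * j = 1 ∧ t * j = j * t := by
  classical
  haveI : Fact (Nat.Prime 2) := ⟨Nat.prime_two⟩
  let s := {j : N // orderOf j = 2}
  haveI : Fintype s := Fintype.ofFinite _
  let f : Equiv.Perm s :=
    (MulAut.conjNormal (H := N) t).toEquiv.subtypeEquiv fun j =>
      (MulEquiv.orderOf_eq (MulAut.conjNormal (H := N) t) j).symm ▸ Iff.rfl
  have hf : f ^ 2 ^ 1 = 1 := by
    rw [pow_one, pow_two]
    ext j
    show t * (t * ((j.1 : N) : G) * t⁻¹) * t⁻¹ = ((j.1 : N) : G)
    rw [show t * (t * ((j.1 : N) : G) * t⁻¹) * t⁻¹ = (t * t) * (j.1 : N) * (t * t)⁻¹ by group, ht]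
    group
  have hodd : Odd (Fintype.card s) := by
    rw [← Nat.card_eq_fintype_card]; exact Involution.Count.odd_card_involutions hN
  have hmod := Equiv.Perm.card_compl_support_modEq (p := 2) (n := 1) hf
  obtain ⟨j, hj⟩ : ∃ j : s, f j = j := by
    by_contra hne
    push Not at hne
    rw [show f.supportᶜ = ∅ from Finset.eq_empty_of_forall_notMem fun j hj =>
      (Finset.mem_compl.1 hj) (Equiv.Perm.mem_support.2 (hne j))] at hmod
    rw [Finset.card_empty, Nat.ModEq, Nat.zero_mod] at hmod
    rw [Nat.odd_iff] at hodd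
    omega
  have h2 : orderOf ((j.1 : N) : G) = 2 := by rw [orderOf_coe]; exact j.2
  refine ⟨(j.1 : N), (j.1 : N).2, fun h => ?_, ?_, ?_⟩
  · rw [h, orderOf_one] at h2; omega
  · rw [← pow_two]; exact (congrArg (fun n => ((j.1 : N) : G) ^ n) h2.symm).trans (pow_orderOf_eq_one _)
  · exact mul_inv_eq_iff_eq_mul.1 (congrArg (fun z : s => ((z.1 : N) : G)) hj)

theorem main (A : Subgroup G) (hA : Cfsg.IsStandardSubgroup A)
    (hcyc : ∀ R : Sylow 2 ↥(centralizer (A : Set G)), IsCyclic ↥(R : Subgroup ↥(centralizer (A : Set G))))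
    (t : G) (ht : orderOf t = 2) (htA : t ∈ centralizer (A : Set G))
    (R : Subgroup G) (hRt : ∀ r ∈ R, t * r * t⁻¹ ∈ R)
    (hc1 : ⁅R, zpowers t⁆ ≠ ⊥) (hc2 : ⁅R, zpowers t⁆ ≤ A) :
    Cfsg.layer ↥(normalClosure (A : Set G)) = ⊤ ∧
      Odd (Nat.card ↥(center ↥(normalClosure (A : Set G)))) := by
  classical
  haveI : Fact (Nat.Prime 2) := ⟨Nat.prime_two⟩
  obtain ⟨hq, htight, -, hNC⟩ := hA
  set C := centralizer (A : Set G) with hCdef
  have ht2 : t * t = 1 := by rw [← pow_two, ← ht]; exact pow_orderOf_eq_one t
  have ht1 : t ≠ 1 := fun h => by simp [h] at ht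
  have hPC : ∀ x ∈ C, ∀ a ∈ A, a * x = x * a := fun x hx a ha => mem_centralizer_iff.1 hx a ha
  have hTI : ∀ x : G, x * t * x⁻¹ ∈ C → x ∈ normalizer (A : Set G) := by
    intro x hxs
    by_contra hx
    obtain ⟨j, hj⟩ := htight.2 x (by rwa [← hNC])
    have hmem : x * t * x⁻¹ ∈ C ⊓ C.map (MulAut.conj x).toMonoidHom := ⟨hxs, ⟨t, htA, rfl⟩⟩
    have hd := Subgroup.orderOf_dvd_natCard _ hmem
    rw [show orderOf (x * t * x⁻¹) = orderOf t from MulEquiv.orderOf_eq (MulAut.conj x) t, ht,
      hj] at hd
    omega
  have hCt : ∀ x, x * t = t * x → x ∈ normalizer (A : Set G) := fun x hx => hTI x (by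
    rw [hx, mul_inv_cancel_right]; exact htA)
  -- `t` is the only involution of `C` commuting with `t`
  have huniq : ∀ s ∈ C, s * s = 1 → s ≠ 1 → s * t = t * s → s = t := by
    intro s hs hs2 hs1 hst
    by_contra hne
    have ho1 : orderOf (⟨t, htA⟩ : C) = 2 :=
      orderOf_eq_prime (Subtype.ext (by simpa [pow_two] using ht2)) fun h =>
        ht1 (congrArg Subtype.val h)
    have ho2 : orderOf (⟨s, hs⟩ : C) = 2 :=
      orderOf_eq_prime (Subtype.ext (by simpa [pow_two] using hs2)) fun h =>
        hs1 (congrArg Subtype.val h)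
    obtain ⟨P, hP⟩ := (Involution.Basic.isPGroup_of_commute ho1 ho2
      (Subtype.ext hst.symm)).exists_le_sylow
    haveI := hcyc P
    haveI : Fintype ↥(P : Subgroup C) := Fintype.ofFinite _
    let a : (P : Subgroup C) := ⟨⟨t, htA⟩, hP (mem_sup_left (mem_zpowers _))⟩
    let b : (P : Subgroup C) := ⟨⟨s, hs⟩, hP (mem_sup_right (mem_zpowers _))⟩
    have hle := IsCyclic.card_pow_eq_one_le (α := (P : Subgroup C)) (n := 2) two_pos
    have hab : ({1, a, b} : Finset (P : Subgroup C)).card = 3 := by
      rw [Finset.card_eq_three]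
      refine ⟨1, a, b, ?_, ?_, ?_, rfl⟩
      · exact fun h => ht1 (congrArg (fun z : (P : Subgroup C) => ((z : C) : G)) h).symm
      · exact fun h => hs1 (congrArg (fun z : (P : Subgroup C) => ((z : C) : G)) h).symm
      · exact fun h => hne (congrArg (fun z : (P : Subgroup C) => ((z : C) : G)) h).symm
    have hsub : ({1, a, b} : Finset (P : Subgroup C)) ⊆ Finset.univ.filter fun x => x ^ 2 = 1 := by
      intro x hx
      simp only [Finset.mem_insert, Finset.mem_singleton] at hx
      simp only [Finset.mem_filter, Finset.mem_univ, true_and]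
      rcases hx with rfl | rfl | rfl
      · exact one_pow 2
      · exact Subtype.ext (Subtype.ext (by simpa [a, pow_two] using ht2))
      · exact Subtype.ext (Subtype.ext (by simpa [b, pow_two] using hs2))
    have := Finset.card_le_card hsub
    omega
  -- the moving element and its commutator
  obtain ⟨r, hr, hrt⟩ : ∃ r ∈ R, r * t ≠ t * r := by
    by_contra h
    push Not at h
    refine hc1 (commutator_eq_bot_iff_le_centralizer.2 fun r hr => mem_centralizer_iff.2 ?_)
    intro y hy
    obtain ⟨k, rfl⟩ := mem_zpowers_iff.1 hy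
    exact (((show Commute r t from h r hr)).zpow_right k).eq.symm
  set u := ⁅r, t⁆ with hu
  have huA : u ∈ A := hc2 (commutator_mem_commutator hr (mem_zpowers t))
  have hut : u * t = t * u := hPC t htA u huA
  have hut' : u * t = r * t * r⁻¹ := by
    rw [hu, commutatorElement_def]; group
  have hu2 : u * u = 1 := by
    have h : (u * t) * (u * t) = 1 := by
      rw [hut', show r * t * r⁻¹ * (r * t * r⁻¹) = r * (t * t) * r⁻¹ by group, ht2]; group
    rwa [(show Commute u t from hut).symm.mul_mul_mul_comm, ht2, mul_one] at h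
  have hu1 : u ≠ 1 := fun h => hrt (commutatorElement_eq_one_iff_mul_comm.1 h)
  have hrC : r * t * r⁻¹ ∉ C := fun h => by
    have h2 : r * t * r⁻¹ * (r * t * r⁻¹) = 1 := by
      rw [show r * t * r⁻¹ * (r * t * r⁻¹) = r * (t * t) * r⁻¹ by group, ht2]; group
    have := huniq _ h h2 (fun h' => ht1 (conj_eq_one_iff.1 h')) (by
      rw [← hut', mul_assoc, ← mul_assoc t u t, ← hut, mul_assoc])
    exact hrt (mul_inv_eq_iff_eq_mul.1 this)
  have huC : u ∉ C := fun h => hrC (hut' ▸ mul_mem h htA)
  -- elements commuting with `t` in a normal subgroup not containing `A` centralize `A`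
  have hnorm : ∀ N : Subgroup G, N.Normal → ¬ A ≤ N → ∀ x ∈ N, x * t = t * x → x ∈ C := by
    intro N hN hAN x hx hxt
    have hAN' : N.subgroupOf A ≤ center A :=
      (Components.IsQuasisimple.normal_le_center_or_top hq (N.subgroupOf A)).resolve_right
        fun h => hAN (subgroupOf_eq_top.1 h)
    refine Characterizations.StandardCore.centralizes_of_commutator_center hq.1 fun a ha => ?_
    have h1 : a * x * a⁻¹ * x⁻¹ ∈ N := N.mul_mem (hN.conj_mem x hx a) (N.inv_mem hx)
    have h2 : a * x * a⁻¹ * x⁻¹ ∈ A := by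
      have := (mem_normalizer_iff.1 (hCt x hxt) a⁻¹).1 (A.inv_mem ha)
      rw [show a * x * a⁻¹ * x⁻¹ = a * (x * a⁻¹ * x⁻¹) by group]
      exact A.mul_mem ha this
    exact ⟨⟨_, h2⟩, hAN' (mem_subgroupOf.2 h1), rfl⟩
  -- every normal subgroup of even order contains `A`
  have hEven : ∀ N : Subgroup G, N.Normal → Even (Nat.card N) → A ≤ N := by
    intro N hN hev
    by_contra hAN
    obtain ⟨j, hjN, hj1, hj2, hjt⟩ := exists_fixed_involution (N := N) hev ht2
    have hjt' : j = t := huniq j (hnorm N hN hAN j hjN hjt.symm) hj2 hj1 hjt.symm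
    subst hjt'
    have huN : u ∈ N := by
      rw [hu, commutatorElement_def]
      exact N.mul_mem (hN.conj_mem j hjN r) (N.inv_mem hjN)
    exact huC (hnorm N hN hAN u huN hut)
  set X := normalClosure (A : Set G) with hX
  have hAX : A ≤ X := subset_normalClosure
  have hXle : ∀ N : Subgroup G, N.Normal → A ≤ N → X ≤ N := fun N hN h =>
    @normalClosure_le_normal _ _ _ N hN h
  -- the odd core is centralized
  set O := Cfsg.oddCore G with hOdef
  haveI hOn : O.Normal := Solvable.Cores.pPrimeCore_normal 2
  have hOodd : Odd (Nat.card O) :=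
    Nat.coprime_two_left.1 (Solvable.Cores.coprime_card_pPrimeCore (G := G) 2).symm
  have hAO : ¬ A ≤ O := fun h => by
    have hd := Subgroup.orderOf_dvd_natCard O (h huA)
    rw [orderOf_eq_prime (by rw [pow_two, hu2]) hu1] at hd
    exact absurd hd hOodd.not_two_dvd_nat
  have hXO : X ≤ centralizer (O : Set G) := by
    obtain ⟨t', ht'⟩ : ∃ t', t' = u * t := ⟨_, rfl⟩
    have ht'2 : t' * t' = 1 := by
      rw [ht', (show Commute u t from hut).symm.mul_mul_mul_comm, hu2, ht2, one_mul]
    have htt' : t * t' = t' * t := by rw [ht', ← mul_assoc, ← hut]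
    have htt'u : t * t' = u := by rw [ht', hut, ← mul_assoc, ht2, one_mul]
    have hrA : r⁻¹ * u * r ∈ A := by
      have : r⁻¹ * u * r = (⁅r⁻¹, t⁆)⁻¹ := by
        rw [hu, commutatorElement_def, commutatorElement_def]; group
      rw [this]
      exact A.inv_mem (hc2 (commutator_mem_commutator (R.inv_mem hr) (mem_zpowers t)))
    have huO : u ∈ centralizer (O : Set G) := by
      rw [← htt'u]
      refine Characterizations.StandardCore.centralizes_of_four hOodd ht2 ht'2 htt' ?_ ht1 ?_
        (fun o ho hto => ?_) (fun o ho hto => ?_)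
      · exact fun h => hu1 (by rw [ht'] at h; exact mul_right_cancel (b := t) (by rw [one_mul, ← h]))
      · exact fun h => huC (by rw [ht'] at h; rw [eq_inv_of_mul_eq_one_left h]; exact inv_mem htA)
      · rw [htt'u]; exact hPC o (hnorm O hOn hAO o ho hto.symm) u huA
      · rw [htt'u]
        have ho' : r⁻¹ * o * r ∈ O := by simpa using hOn.conj_mem o ho r⁻¹
        have h1 : r⁻¹ * o * r * t = t * (r⁻¹ * o * r) := by
          calc r⁻¹ * o * r * t = r⁻¹ * (o * t') * r := by rw [ht', hut']; group
            _ = r⁻¹ * (t' * o) * r := by rw [hto]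
            _ = _ := by rw [ht', hut']; group
        have h2 := hPC _ (hnorm O hOn hAO _ ho' h1) _ hrA
        calc u * o = r * ((r⁻¹ * u * r) * (r⁻¹ * o * r)) * r⁻¹ := by group
          _ = r * ((r⁻¹ * o * r) * (r⁻¹ * u * r)) * r⁻¹ := by rw [h2]
          _ = o * u := by group
    refine hXle _ inferInstance ?_
    rcases Components.IsQuasisimple.normal_le_center_or_top hq
      ((centralizer (O : Set G)).subgroupOf A) with h | h
    · exfalso
      refine huC (mem_centralizer_iff.2 fun a ha => ?_)
      exact congrArg Subtype.val (mem_center_iff.1 (h (show (⟨u, huA⟩ : A) ∈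
        (centralizer (O : Set G)).subgroupOf A from huO)) ⟨a, ha⟩)
    · exact subgroupOf_eq_top.1 h
  -- characteristic subgroups of `X`
  have hAcomm : ¬ IsMulCommutative A := Components.IsQuasisimple.not_isMulCommutative hq
  have hodd_center : ∀ K : Subgroup X, K.Characteristic → Odd (Nat.card K) → K ≤ center X := by
    intro K hK hKodd k hk
    haveI := hK
    haveI : X.Normal := normalClosure_normal
    haveI : (K.map X.subtype).Normal := inferInstance
    have hKO : K.map X.subtype ≤ O := Solvable.Cores.le_pPrimeCore (by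
      rw [card_subtype]; exact (Nat.coprime_two_left.2 hKodd).symm)
    rw [mem_center_iff]
    intro x
    apply Subtype.ext
    exact (mem_centralizer_iff.1 (hXO x.2) _ (hKO ⟨k, hk, rfl⟩)).symm
  have hbig : ∀ K : Subgroup X, K.Characteristic → Even (Nat.card K) → K = ⊤ := by
    intro K hK hKev
    haveI := hK
    haveI : X.Normal := normalClosure_normal
    have hn : (K.map X.subtype).Normal := inferInstance
    have h := hXle _ hn (hEven _ hn (by rw [card_subtype]; exact hKev))
    rw [eq_top_iff]
    intro x _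
    obtain ⟨k, hk, hkx⟩ := h x.2
    rwa [← Subtype.ext (a1 := k) (a2 := x) hkx]
  have hXcomm : ¬ IsMulCommutative X := fun h => hAcomm ⟨⟨fun a b => Subtype.ext
    (congrArg (fun z : X => (z : G)) (mul_comm' (⟨a, hAX a.2⟩ : X) ⟨b, hAX b.2⟩))⟩⟩
  have hcenter : center X ≠ ⊤ := fun h => hXcomm
    ⟨⟨fun a b => mem_center_iff.1 (h ▸ mem_top b : b ∈ center X) a⟩⟩
  refine ⟨?_, ?_⟩
  · haveI hL : (Cfsg.layer X).Characteristic :=
      characteristic_iff_map_eq.mpr fun e => Components.layer_map_mulEquiv e
    rcases Nat.even_or_odd (Nat.card (Cfsg.layer X)) with h | h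
    · exact hbig _ hL h
    · exfalso
      have hLc := hodd_center _ hL h
      have hLbot : Cfsg.layer X = ⊥ := by
        rw [← Components.layer_commutator_self, commutator_eq_bot_iff_le_centralizer]
        intro x _
        rw [mem_centralizer_iff]
        intro y hy
        exact (mem_center_iff.1 (hLc hy) x).symm
      have hF : Cfsg.fittingSubgroup X ≤ center X := by
        rcases Nat.even_or_odd (Nat.card (Cfsg.fittingSubgroup X)) with h' | h'
        · exfalso
          have htop := hbig _ inferInstance h'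
          haveI : Group.IsNilpotent ↥(Cfsg.fittingSubgroup X) := by
            rw [Solvable.Cores.fittingSubgroup_eq_iSup_pCore]
            exact Solvable.Cores.iSup_pCore_isNilpotent
          haveI : Group.IsSolvable ↥(Cfsg.fittingSubgroup X) := inferInstance
          have hsol : Group.IsSolvable ↥X := Group.isSolvable_of_isSolvable_injective
            (f := (Subgroup.topEquiv.symm.trans (MulEquiv.subgroupCongr htop.symm)).toMonoidHom)
            (MulEquiv.injective _)
          exact Components.IsQuasisimple.not_isSolvable hq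
            (Group.isSolvable_of_isSolvable_injective (inclusion_injective hAX))
        · exact hodd_center _ inferInstance h'
      apply hcenter
      rw [eq_top_iff]
      intro x _
      refine hF (Components.centralizer_generalizedFitting_le_fitting ?_)
      rw [Components.generalizedFitting_eq_fitting_iff.2 hLbot, mem_centralizer_iff]
      intro y hy
      exact (mem_center_iff.1 (hF hy) x).symm
  · rcases Nat.even_or_odd (Nat.card (center X)) with h | h
    · exact absurd (hbig _ inferInstance h) hcenter
    · exact h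

/-- Let A be a standard subgroup of a finite group G whose centralizer has cyclic Sylow 2-subgroups, t an involution centralizing A, and X the normal closure of A in G. If X has a t-invariant 2-subgroup R with [R, t] nontrivial and contained in A, then X is semisimple (X equals its own layer, a central product of quasisimple groups) and the centre of X has odd order. -/
theorem result {G : Type*} [Group G] [Finite G] (A : Subgroup G) (hA : Cfsg.IsStandardSubgroup A)
    (hcyc : ∀ R : Sylow 2 ↥(Subgroup.centralizer (A : Set G)), IsCyclic ↥(R : Subgroup ↥(Subgroup.centralizer (A : Set G)))) (t : G) (ht : orderOf t = 2) (htA : t ∈ Subgroup.centralizer (A : Set G))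
    (R : Subgroup G) (hR2 : IsPGroup 2 ↥R) (hRX : R ≤ Subgroup.normalClosure (A : Set G)) (hRt : ∀ r ∈ R, t * r * t⁻¹ ∈ R)
    (hc1 : ⁅R, Subgroup.zpowers t⁆ ≠ ⊥) (hc2 : ⁅R, Subgroup.zpowers t⁆ ≤ A) :
    Cfsg.layer ↥(Subgroup.normalClosure (A : Set G)) = ⊤ ∧ Odd (Nat.card ↥(Subgroup.center ↥(Subgroup.normalClosure (A : Set G)))) := by
  exact main A hA hcyc t ht htA R hRt hc1 hc2

end Cfsg.Agent.S3164
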