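import Cfsg.Statements.S3166
import Mathlib

set_option autoImplicit false
open Cfsg

namespace Cfsg.Agent.S3166

/-- Let q = 2^n with n ≥ 1. If q⁴ − q³ + q² − q + 1 is a power p^m of a prime p, then m = 1: the value is never a prime power with exponent greater than 1. -/
theorem result (n p m : ℕ) (hn : 1 ≤ n) (hp : p.Prime) (h : (2 ^ n) ^ 4 - (2 ^ n) ^ 3 + (2 ^ n) ^ 2 - 2 ^ n + 1 = p ^ m) : m = 1 := by
  set q := 2 ^ n with hq
  have hq2 : 2 ≤ q := by
    calc 2 = 2 ^ 1 := rfl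
      _ ≤ q := Nat.pow_le_pow_right two_pos hn
  have h34 : q ^ 3 ≤ q ^ 4 := Nat.pow_le_pow_right (by omega) (by norm_num)
  have h12 : q ≤ q ^ 4 - q ^ 3 + q ^ 2 := by nlinarith [Nat.zero_le (q ^ 4 - q ^ 3)]
  have hz : (q:ℤ) ^ 4 - q ^ 3 + q ^ 2 - q + 1 = (p:ℤ) ^ m := by
    have := congrArg (fun x : ℕ => (x : ℤ)) h
    push_cast [Nat.cast_sub h34, Nat.cast_sub h12] at this
    linarith
  have hqz : (2:ℤ) ≤ q := by exact_mod_cast hq2
  have hp2 : (2:ℤ) ≤ p := by exact_mod_cast hp.two_le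
  rcases Nat.eq_zero_or_pos m with rfl | hm
  · exfalso
    rw [pow_zero] at hz
    nlinarith
  rcases Nat.even_or_odd m with ⟨a, ha⟩ | hodd
  · exfalso
    set X := 2 * (p:ℤ) ^ a with hX
    have hX2 : X * X = 4 * ((q:ℤ) ^ 4 - q ^ 3 + q ^ 2 - q + 1) := by rw [hz, ha, pow_add, hX]; ring
    set L := 2 * (q:ℤ) ^ 2 - q with hL
    have hX0 : 0 ≤ X := by positivity
    have hlow : L * L < X * X := by rw [hX2, hL]; nlinarith
    have hhigh : X * X < (L + 2) * (L + 2) := by rw [hX2, hL]; nlinarith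
    have hL0 : 0 ≤ L := by rw [hL]; nlinarith
    have hXL : X = L + 1 := by
      have h1 : L < X := by nlinarith
      have h2 : X < L + 2 := by nlinarith
      omega
    rw [hXL, hL] at hX2
    nlinarith
  · by_contra hm1
    have hm3 : 3 ≤ m := by rcases hodd with ⟨b, hb⟩; omega
    have hfac : (p:ℤ) ^ m - 1 = q * ((q - 1) * ((q:ℤ) ^ 2 + 1)) := by rw [← hz]; ring
    -- q divides p - 1
    have hpo : Odd (p:ℤ) := by
      have : Odd ((p:ℤ) ^ m) := by
        rw [← hz]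
        have he : Even (q:ℤ) := by
          rw [hq]; push_cast; exact Int.even_pow.mpr ⟨even_two, by omega⟩
        simp [parity_simps, he]
      exact (Int.odd_pow' (by omega)).mp this
    have hsum : Odd (∑ i ∈ Finset.range m, (p:ℤ) ^ i) := by
      have : ∀ k, (Odd (∑ i ∈ Finset.range k, (p:ℤ) ^ i) ↔ Odd k) := by
        intro k; induction k with
        | zero => simp
        | succ k ih => rw [Finset.sum_range_succ, Int.odd_add, ih]; simp [Int.even_pow, Int.not_even_iff_odd.mpr hpo, parity_simps]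
      exact (this m).mpr hodd
    have hdvd : (q:ℤ) ∣ (p:ℤ) - 1 := by
      have h1 : (q:ℤ) ∣ ((p:ℤ) - 1) * ∑ i ∈ Finset.range m, (p:ℤ) ^ i := by
        rw [mul_geom_sum, hfac]; exact dvd_mul_right _ _
      refine IsCoprime.dvd_of_dvd_mul_right ?_ h1
      rw [hq]; push_cast
      exact IsCoprime.pow_left (Int.prime_two.coprime_iff_not_dvd.mpr (fun hd => Int.not_even_iff_odd.mpr hsum (even_iff_two_dvd.mpr hd)))
    obtain ⟨k, hk⟩ := hdvd
    have hk1 : 1 ≤ k := by nlinarith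
    have hpk : (p:ℤ) = q * k + 1 := by linarith
    have hpq : (q:ℤ) < p := by nlinarith
    have hm4 : m = 3 := by
      by_contra hne
      have h4 : (p:ℤ) ^ 4 ≤ (p:ℤ) ^ m := pow_le_pow_right₀ (by omega) (by omega)
      have h5 : (q:ℤ) ^ 4 < (p:ℤ) ^ 4 := pow_lt_pow_left₀ hpq (by omega) (by norm_num)
      nlinarith
    subst hm4
    have he : k * (k ^ 2 * (q:ℤ) ^ 2 + 3 * k * q + 3) = (q - 1) * ((q:ℤ) ^ 2 + 1) := by
      have : (q:ℤ) * (k * (k ^ 2 * (q:ℤ) ^ 2 + 3 * k * q + 3)) = q * ((q - 1) * ((q:ℤ) ^ 2 + 1)) := by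
        rw [← hfac, hpk]; ring
      exact mul_left_cancel₀ (by omega) this
    have hk3 : k ^ 3 < (q:ℤ) := by nlinarith
    have hmod : (q:ℤ) ∣ 3 * k + 1 := ⟨(q:ℤ) ^ 2 - q + 1 - k ^ 3 * q - 3 * k ^ 2, by nlinarith⟩
    have hge : (q:ℤ) ≤ 3 * k + 1 := Int.le_of_dvd (by omega) hmod
    have hk2 : k ≤ 2 := by nlinarith [mul_nonneg (by omega : (0:ℤ) ≤ k) (sq_nonneg (k - 2))]
    interval_cases k
    · have : (q:ℤ) ≤ 4 := by omega
      interval_cases hq3 : (q:ℤ) <;> omega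
    · have : (q:ℤ) ≤ 7 := by omega
      interval_cases hq3 : (q:ℤ) <;> omega

end Cfsg.Agent.S3166
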