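import Cfsg.Statements.S3174
import Cfsg.Agent.Lib.Involution.ClassFourCentre

set_option autoImplicit false
open Cfsg

namespace Cfsg.Agent.S3174



/-- Let T be a finite 2-group of order at least 2^14 in which the fourth term of the upper central series has order 16. Let W be the centralizer in T of the third term Z₃(T), and suppose the Frattini subgroup of W has order at most 8 and lies in every subgroup of W of index at most 16. Then T has order exactly 2^14; the derived subgroup of W and the Frattini subgroup of W both equal Z₃(T), which is elementary abelian of order 8; the centre of W has order 8; W is normal in T with quotient dihedral of order 8; and W modulo its derived subgroup is elementary abelian of order 2^8. -/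
theorem result {T : Type*} [Group T] [Finite T]
    (hT : IsPGroup 2 T) (ha : 2 ^ 14 ≤ Nat.card T) (hb : Nat.card ↥(Subgroup.upperCentralSeries T 4) = 16)
    (W : Subgroup T) (hW : W = Subgroup.centralizer ((Subgroup.upperCentralSeries T 3 : Subgroup T) : Set T))
    (hc : Nat.card ↥(frattini ↥W) ≤ 8) (hd : ∀ U : Subgroup ↥W, U.index ≤ 16 → frattini ↥W ≤ U) :
    Nat.card T = 2 ^ 14 ∧
      (commutator ↥W).map W.subtype = Subgroup.upperCentralSeries T 3 ∧
      (frattini ↥W).map W.subtype = Subgroup.upperCentralSeries T 3 ∧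
      Nat.card ↥(Subgroup.center ↥W) = 8 ∧
      Nat.card ↥(Subgroup.upperCentralSeries T 3) = 8 ∧ (∀ z ∈ Subgroup.upperCentralSeries T 3, z ^ 2 = 1) ∧
      (∃ (_ : W.Normal), Nonempty (T ⧸ W ≃* DihedralGroup 4)) ∧
      Nat.card (↥W ⧸ commutator ↥W) = 2 ^ 8 ∧ (∀ x : ↥W ⧸ commutator ↥W, x ^ 2 = 1) := by
  have S : CfsgLib.Involution.ClassFour.Setting T W := ⟨hT, ha, hb, hW, hc, hd⟩
  have := S.normal
  have hq : ∀ x : ↥W ⧸ commutator ↥W, x ^ 2 = 1 := fun x => by
    obtain ⟨w, rfl⟩ := QuotientGroup.mk'_surjective _ x
    rw [← map_pow, QuotientGroup.mk'_apply, QuotientGroup.eq_one_iff]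
    have h := S.sq_mem w
    rw [← S.commutator_eq] at h
    obtain ⟨y, hy, hyw⟩ := h
    exact (Subtype.ext hyw : y = w ^ 2) ▸ hy
  refine ⟨S.card_T, S.commutator_eq, S.frattini_eq, S.card_center, S.card_Zu.2.2, S.Zu3_sq,
    ⟨S.normal, S.quotient_dihedral⟩, ?_, hq⟩
  have h := (commutator ↥W).card_eq_card_quotient_mul_card_subgroup
  rw [← Subgroup.card_map_of_injective (K := commutator ↥W) W.subtype_injective, S.commutator_eq,
    S.card_Zu.2.2, S.card_W] at h
  omega

end Cfsg.Agent.S3174
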