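import Cfsg.Statements.S3178
import Cfsg.Agent.Lib.BrauerSuzuki.Basic
import Cfsg.Agent.Lib.BrauerSuzuki.Setup
import Cfsg.Agent.Lib.NumberTheory.SylowCount

set_option autoImplicit false
open Cfsg

namespace Cfsg.Agent.S3178

/-- Groups with a modular Sylow 2-subgroup have a normal 2-complement. Let S, of order 2^(n+1) with n ≥ 3, be a Sylow 2-subgroup of a finite group G, and suppose S contains an element a of order 2^n and an involution b with b a b⁻¹ = a^(2^(n-1) + 1); so S is the non-abelian 2-group with a cyclic subgroup of index 2 that is neither dihedral, semidihedral nor generalized quaternion. Then G has a normal 2-complement. -/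
theorem result {G : Type*} [Group G] [Finite G]
    (S : Sylow 2 G) (n : ℕ) (hn : 3 ≤ n) (hS : Nat.card ↥(S : Subgroup G) = 2 ^ (n + 1))
    (a b : G) (ha : a ∈ (S : Subgroup G)) (hb : b ∈ (S : Subgroup G))
    (hao : orderOf a = 2 ^ n) (hbo : orderOf b = 2) (hrel : b * a * b⁻¹ = a ^ (2 ^ (n - 1) + 1)) :
    Cfsg.HasNormalPComplement 2 G := by
  classical
  haveI : Fintype G := Fintype.ofFinite G
  obtain ⟨m, rfl⟩ : ∃ m, n = m + 2 := ⟨n - 2, by omega⟩
  have hm : 1 ≤ m := by omega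
  rw [show m + 2 - 1 = m + 1 by omega] at hrel
  set z := a ^ (2 ^ (m + 1)) with hzdef
  have hz : orderOf z = 2 := by
    rw [hzdef, orderOf_pow_of_dvd (by positivity) (by rw [hao]; exact pow_dvd_pow 2 (by omega)), hao,
      show m + 2 = (m + 1) + 1 from rfl, pow_succ, Nat.mul_div_cancel_left _ (by positivity)]
  have hzz : z * z = 1 := CfsgLib.BrauerSuzuki.mul_self_of_orderOf_two hz
  have hbb : b * b = 1 := CfsgLib.BrauerSuzuki.mul_self_of_orderOf_two hbo
  have hba : ∀ i : ℕ, b * a ^ i * b⁻¹ = a ^ (i * (2 ^ (m + 1) + 1)) := fun i => by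
    rw [← conj_pow, hrel, ← pow_mul, mul_comm]
  have hzb : Commute b z := by
    refine mul_inv_eq_iff_eq_mul.mp ?_
    rw [hzdef, hba, mul_add, mul_one, pow_add, pow_mul, ← hzdef]
    rw [show z ^ (2 ^ (m + 1)) = 1 by
      rw [pow_succ', pow_mul, sq, hzz, one_pow], one_mul]
  have hza : ∀ x ∈ Subgroup.zpowers a, Commute x z := fun x hx => by
    obtain ⟨i, rfl⟩ := mem_powers_iff_mem_zpowers.mpr hx
    exact Commute.pow_pow_self a i _
  have hbA : b ∉ Subgroup.zpowers a := fun h => by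
    obtain ⟨i, hi⟩ := mem_powers_iff_mem_zpowers.mpr h
    have hc : b * a * b⁻¹ = a := by
      rw [← hi, (Commute.pow_self a i).eq, mul_inv_cancel_right]
    rw [hrel, pow_succ, mul_eq_right] at hc
    rw [← hzdef] at hc
    rw [hc, orderOf_one] at hz
    omega
  have hform : ∀ s ∈ (S : Subgroup G), s ∈ Subgroup.zpowers a ∨ s * b ∈ Subgroup.zpowers a := by
    intro s hs
    have hle : Subgroup.zpowers a ≤ (S : Subgroup G) := Subgroup.zpowers_le.mpr ha
    have hidx : ((Subgroup.zpowers a).subgroupOf (S : Subgroup G)).index = 2 := by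
      have h := ((Subgroup.zpowers a).subgroupOf (S : Subgroup G)).card_mul_index
      rw [hS, Nat.card_congr (Subgroup.subgroupOfEquivOfLe hle).toEquiv, Nat.card_zpowers, hao,
        pow_succ] at h
      exact Nat.eq_of_mul_eq_mul_left (by positivity) h
    have h := Subgroup.mul_mem_iff_of_index_two hidx (a := ⟨s, hs⟩) (b := ⟨b, hb⟩)
    by_cases h1 : s ∈ Subgroup.zpowers a
    · exact Or.inl h1
    · refine Or.inr ?_
      exact h.mpr (iff_of_false h1 hbA)
  have hinv2 : ∀ x ∈ Subgroup.zpowers a, x * x = 1 → x = 1 ∨ x = z := by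
    intro x hx h2
    obtain ⟨i, rfl⟩ := mem_powers_iff_mem_zpowers.mpr hx
    simp only at h2 ⊢
    rw [← pow_add] at h2
    have hd := orderOf_dvd_of_pow_eq_one h2
    rw [hao, ← two_mul, show m + 2 = (m + 1) + 1 from rfl, pow_succ'] at hd
    obtain ⟨q, hq⟩ := Nat.dvd_of_mul_dvd_mul_left two_pos hd
    rw [hq, pow_mul, ← hzdef]
    rcases Nat.even_or_odd q with ⟨r, rfl⟩ | ⟨r, rfl⟩
    · exact Or.inl (by rw [← two_mul, pow_mul, sq, hzz, one_pow])
    · exact Or.inr (by rw [pow_succ, pow_mul, sq, hzz, one_pow, one_mul])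
  have hsqb : ∀ x : G, x * b ∈ Subgroup.zpowers a → x * x = ((x * b) * (x * b)) ^ (2 ^ m + 1) := by
    intro x hx
    obtain ⟨i, hi⟩ := mem_powers_iff_mem_zpowers.mpr hx
    simp only at hi
    have hxe : x = a ^ i * b := by rw [hi, mul_assoc, hbb, mul_one]
    have hbi : b⁻¹ = b := CfsgLib.BrauerSuzuki.inv_eq_of_orderOf_two hbo
    calc x * x = a ^ i * (b * a ^ i * b⁻¹) := by rw [hbi, hxe]; simp [mul_assoc]
      _ = ((a ^ i) * (a ^ i)) ^ (2 ^ m + 1) := by
          rw [hba, ← pow_add, ← pow_add, ← pow_mul]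
          congr 1
          ring
      _ = _ := by rw [hi]
  have hsqA : ∀ x ∈ (S : Subgroup G), x * x ∈ Subgroup.zpowers a := by
    intro x hx
    rcases hform x hx with h | h
    · exact mul_mem h h
    · rw [hsqb x h]; exact pow_mem (mul_mem h h) _
  have hodd : Nat.Coprime (2 ^ m + 1) 2 := by
    rw [Nat.coprime_two_right]
    exact Even.add_one ((Nat.even_pow).mpr ⟨even_two, by omega⟩)
  have hpinj : ∀ x y : G, x ∈ Subgroup.zpowers a → y ∈ Subgroup.zpowers a →
      x ^ (2 ^ m + 1) = y ^ (2 ^ m + 1) → x = y := by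
    intro x y hx hy h
    obtain ⟨i, hi⟩ := mem_powers_iff_mem_zpowers.mpr hx
    obtain ⟨j, hj⟩ := mem_powers_iff_mem_zpowers.mpr hy
    obtain ⟨r, hr⟩ := exists_pow_eq_self_of_coprime (x := a) (n := 2 ^ m + 1)
      (by rw [hao]; exact Nat.Coprime.pow_right _ hodd)
    calc x = ((a ^ (2 ^ m + 1)) ^ r) ^ i := by rw [hr]; exact hi.symm
      _ = (x ^ (2 ^ m + 1)) ^ r := by rw [← hi]; simp only [← pow_mul]; congr 1; ring
      _ = (y ^ (2 ^ m + 1)) ^ r := by rw [h]
      _ = ((a ^ (2 ^ m + 1)) ^ r) ^ j := by rw [← hj]; simp only [← pow_mul]; congr 1; ring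
      _ = y := by rw [hr]; exact hj
  have hroot : ∀ s t : G, (s ∈ Subgroup.zpowers a ∧ t ∈ Subgroup.zpowers a ∨
      s * b ∈ Subgroup.zpowers a ∧ t * b ∈ Subgroup.zpowers a) → s * s = t * t → t = s ∨ t = s * z := by
    intro s t h hst
    have key : ∀ x y : G, x ∈ Subgroup.zpowers a → y ∈ Subgroup.zpowers a → x * x = y * y → y = x ∨ y = x * z := by
      intro x y hx hy hxy
      have hc : Commute x⁻¹ y := by
        obtain ⟨i, rfl⟩ := mem_powers_iff_mem_zpowers.mpr hx
        obtain ⟨j, rfl⟩ := mem_powers_iff_mem_zpowers.mpr hy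
        exact (Commute.pow_pow_self a i j).inv_left
      have h2 : x⁻¹ * y * (x⁻¹ * y) = 1 := by
        rw [← sq, hc.mul_pow, sq, sq, ← mul_inv_rev, hxy, inv_mul_cancel]
      rcases hinv2 _ (mul_mem (inv_mem hx) hy) h2 with h' | h'
      · exact Or.inl (inv_mul_eq_one.mp h').symm
      · exact Or.inr (inv_mul_eq_iff_eq_mul.mp h')
    rcases h with ⟨hs, ht⟩ | ⟨hs, ht⟩
    · exact key s t hs ht hst
    · rw [hsqb s hs, hsqb t ht] at hst
      rcases key _ _ hs ht (hpinj _ _ (mul_mem hs hs) (mul_mem ht ht) hst) with h' | h'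
      · exact Or.inl (mul_right_cancel h')
      · refine Or.inr (mul_right_cancel (h'.trans ?_))
        rw [mul_assoc, hzb.eq, ← mul_assoc]
  have hsq1 : ∀ x ∈ (S : Subgroup G), x * x = 1 → x = 1 ∨ x = z ∨ x = b ∨ x = z * b := by
    intro x hx h2
    rcases hform x hx with h | h
    · rcases hinv2 x h h2 with h' | h'
      exacts [Or.inl h', Or.inr (Or.inl h')]
    · have h3 : x * b * (x * b) = 1 := hpinj _ _ (mul_mem h h) (one_mem _) (by rw [← hsqb x h, h2, one_pow])
      rcases hinv2 _ h h3 with h' | h'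
      · refine Or.inr (Or.inr (Or.inl ?_))
        rw [mul_eq_one_iff_eq_inv, CfsgLib.BrauerSuzuki.inv_eq_of_orderOf_two hbo] at h'
        exact h'
      · refine Or.inr (Or.inr (Or.inr ?_))
        rw [← h', mul_assoc, hbb, mul_one]
  have hzpow : ∀ x ∈ (S : Subgroup G), x * x ≠ 1 → z ∈ Subgroup.zpowers (x * x) := by
    intro x hx h
    obtain ⟨j, hj⟩ := (IsPGroup.iff_orderOf.mp (IsPGroup.to_le S.2 (Subgroup.zpowers_le.mpr ha)))
      ⟨x * x, hsqA x hx⟩
    rw [Subgroup.orderOf_mk] at hj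
    have hj0 : 2 ∣ orderOf (x * x) := by
      rw [hj]
      refine dvd_pow_self 2 ?_
      rintro rfl
      exact h (orderOf_eq_one_iff.mp hj)
    have hw := CfsgLib.BrauerSuzuki.orderOf_half hj0
    rcases hinv2 ((x * x) ^ (orderOf (x * x) / 2)) (pow_mem (hsqA x hx) _)
      (CfsgLib.BrauerSuzuki.mul_self_of_orderOf_two hw) with h' | h'
    · rw [h', orderOf_one] at hw; omega
    · rw [← h']; exact pow_mem (Subgroup.mem_zpowers _) _
  have hsq : ∀ {x g : G}, g * x * g⁻¹ * (g * x * g⁻¹) = g * (x * x) * g⁻¹ := fun {x g} => by group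
  refine CfsgLib.Fusion.Alperin.npc_of_frobenius S fun Q hQ g hg ho => ?_
  rw [Nat.coprime_two_right] at ho
  have hn : ∀ {x}, x ∈ Q → g * x * g⁻¹ ∈ Q := fun hx => (Subgroup.mem_normalizer_iff.mp hg _).mp hx
  have hpow : ∀ {s : G} (j : ℕ), Commute (g ^ (2 ^ j)) s → Commute g s := by
    intro s j hc
    obtain ⟨r, hr⟩ := exists_pow_eq_self_of_coprime
      (x := g) (n := 2 ^ j) (Nat.Coprime.pow_left j (Nat.coprime_two_left.mpr ho))
    rw [← hr]
    exact hc.pow_left r
  -- squares are fixed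
  have hfixsq : ∀ x ∈ Q, Commute g (x * x) := by
    intro x hx
    let C : Subgroup G := Subgroup.closure {y | ∃ x ∈ Q, y = x * x}
    have hC : C ≤ Subgroup.zpowers a := (Subgroup.closure_le _).mpr fun y ⟨x, hx, e⟩ => e ▸ hsqA x (hQ hx)
    haveI : IsCyclic ↥C := Subgroup.isCyclic_of_le hC
    have hgC : g ∈ Subgroup.normalizer (C : Set G) := by
      have h1 : C.map (MulAut.conj g).toMonoidHom ≤ C := by
        rw [MonoidHom.map_closure, Subgroup.closure_le]
        rintro _ ⟨_, ⟨x, hx, rfl⟩, rfl⟩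
        exact Subgroup.subset_closure ⟨g * x * g⁻¹, hn hx, hsq.symm⟩
      rw [Subgroup.mem_normalizer_iff_map_conj_eq]
      exact Subgroup.eq_of_le_of_card_ge h1 (Subgroup.card_map_of_injective (MulAut.conj g).injective).ge
    have := CfsgLib.BrauerSuzuki.cyclic_fixed (S.2.to_le (hC.trans (Subgroup.zpowers_le.mpr ha))) hgC ho
    exact (Subgroup.mem_centralizer_iff.mp this _ (Subgroup.subset_closure ⟨x, hx, rfl⟩)).symm
  have hfixz : ∀ x ∈ Q, x * x ≠ 1 → Commute g z := by
    intro x hx h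
    obtain ⟨i, hi⟩ := Subgroup.mem_zpowers_iff.mp (hzpow x (hQ hx) h)
    rw [← hi]
    exact (hfixsq x hx).zpow_right i
  have horder4 : ∀ x ∈ Q, x * x ≠ 1 → Commute g x := by
    intro x hx h
    have hz' := hfixz x hx h
    set x1 := g * x * g⁻¹ with hx1
    set x2 := g * x1 * g⁻¹ with hx2
    have e1 : x1 * x1 = x * x := by rw [hx1, hsq, (hfixsq x hx).eq, mul_inv_cancel_right]
    have e2 : x2 * x2 = x * x := by rw [hx2, hsq, e1, (hfixsq x hx).eq, mul_inv_cancel_right]
    have hgz : g * z * g⁻¹ = z := by rw [hz'.eq, mul_inv_cancel_right]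
    have hzx : Commute x z := by
      rcases hform x (hQ hx) with h' | h'
      · exact hza x h'
      · have h'' := (hza _ h').mul_left hzb
        rwa [mul_assoc, hbb, mul_one] at h''
    have hclass : (x1 = x ∨ x1 = x * z) ∨ (x2 = x ∨ x2 = x * z) ∨ (x2 = x1 ∨ x2 = x1 * z) := by
      rcases hform x (hQ hx) with h0 | h0 <;> rcases hform x1 (hQ (hn hx)) with h1 | h1 <;>
        rcases hform x2 (hQ (hn (hn hx))) with h2 | h2 <;>
        first
          | exact Or.inl (hroot x x1 (Or.inl ⟨h0, h1⟩) e1.symm)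
          | exact Or.inl (hroot x x1 (Or.inr ⟨h0, h1⟩) e1.symm)
          | exact Or.inr (Or.inl (hroot x x2 (Or.inl ⟨h0, h2⟩) e2.symm))
          | exact Or.inr (Or.inl (hroot x x2 (Or.inr ⟨h0, h2⟩) e2.symm))
          | exact Or.inr (Or.inr (hroot x1 x2 (Or.inl ⟨h1, h2⟩) (e1.trans e2.symm)))
          | exact Or.inr (Or.inr (hroot x1 x2 (Or.inr ⟨h1, h2⟩) (e1.trans e2.symm)))
    have hfin : x1 = x ∨ x1 = x * z → Commute g x := by
      rintro (h' | h')
      · exact mul_inv_eq_iff_eq_mul.mp h'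
      · refine hpow 1 (mul_inv_eq_iff_eq_mul.mp ?_)
        have e : g ^ (2 ^ 1) * x * (g ^ (2 ^ 1))⁻¹ = x2 := by rw [pow_one, sq, hx2, hx1]; group
        have e' : x2 = x1 * (g * z * g⁻¹) := by
          have e'' : x2 = g * (x * z) * g⁻¹ := by rw [hx2, h']
          rw [e'', hx1]; group
        rw [e, e', hgz, h', mul_assoc, hzz, mul_one]
    rcases hclass with h' | h' | h'
    · exact hfin h'
    · refine hpow 2 (mul_inv_eq_iff_eq_mul.mp ?_)
      have e : g ^ (2 ^ 2) * x * (g ^ (2 ^ 2))⁻¹ = g * (g * x2 * g⁻¹) * g⁻¹ := by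
        rw [show (2 ^ 2 : ℕ) = 2 + 2 from rfl, pow_add, sq, hx2, hx1]; group
      rcases h' with h' | h' <;> rw [e, h']
      · exact hx2.symm.trans h'
      · calc g * (g * (x * z) * g⁻¹) * g⁻¹ = x2 * (g * (g * z * g⁻¹) * g⁻¹) := by rw [hx2, hx1]; group
          _ = x := by rw [hgz, hgz, h', mul_assoc, hzz, mul_one]
    · refine hfin (h'.imp (fun h' => ?_) fun h' => ?_) <;> rw [hx2] at h'
      · exact mul_left_cancel (mul_right_cancel (h'.trans hx1))
      · have e : g * x1 * g⁻¹ = g * (x * z) * g⁻¹ := by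
          rw [h', show g * (x * z) * g⁻¹ = g * x * g⁻¹ * (g * z * g⁻¹) by group, ← hx1, hgz]
        exact mul_left_cancel (mul_right_cancel e)
  -- the four group
  have hE : z ∈ Q → b ∈ Q → (∀ x ∈ Q, x * x = 1) → Commute g z := by
    intro hzQ hbQ hall
    have hz' := hsq1 _ (hQ (hn hzQ)) (hall _ (hn hzQ))
    let E : Subgroup G := Q
    have hQ4 : ∀ x ∈ Q, x = 1 ∨ x = z ∨ x = b ∨ x = z * b := fun x hx => hsq1 x (hQ hx) (hall x hx)
    have hSN : (S : Subgroup G) ≤ Subgroup.normalizer (Q : Set G) := by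
      intro s hs
      have h1 : Q.map (MulAut.conj s).toMonoidHom ≤ Q := by
        rintro _ ⟨x, hx, rfl⟩
        show s * x * s⁻¹ ∈ Q
        have hh : s * x * s⁻¹ * (s * x * s⁻¹) = 1 := by rw [hsq, hall x hx, mul_one, mul_inv_cancel]
        rcases hsq1 _ (mul_mem (mul_mem hs (hQ hx)) (inv_mem hs)) hh with h' | h' | h' | h' <;> rw [h']
        exacts [one_mem _, hzQ, hbQ, mul_mem hzQ hbQ]
      rw [Subgroup.mem_normalizer_iff_map_conj_eq]
      exact Subgroup.eq_of_le_of_card_ge h1 (Subgroup.card_map_of_injective (MulAut.conj s).injective).ge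
    let N := Subgroup.normalizer (Q : Set G)
    let K : Subgroup ↥N := (Subgroup.centralizer (Q : Set G)).subgroupOf N
    haveI : K.Normal := by
      show ((Subgroup.centralizer (Q : Set G)).subgroupOf N).Normal
      rw [← Subgroup.normalizerMonoidHom_ker]
      exact MonoidHom.normal_ker _
    obtain ⟨T, hT⟩ := CfsgLib.NT.SylowCount.exists_sylow_inf (S.subtype hSN) K
    set w := a ^ (2 ^ m) with hw
    have hwz : w * w = z := by rw [hw, ← pow_add, hzdef, ← two_mul, ← pow_succ']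
    have hwb : Commute b w := by
      refine mul_inv_eq_iff_eq_mul.mp ?_
      rw [hw, hba, mul_add, mul_one, pow_add, mul_comm (2 ^ m) (2 ^ (m + 1)), pow_mul, ← hzdef,
        show z ^ (2 ^ m) = 1 by
          obtain ⟨m', rfl⟩ : ∃ m', m = m' + 1 := ⟨m - 1, by omega⟩
          rw [pow_succ', pow_mul, sq, hzz, one_pow], one_mul]
    have hwC : w ∈ Subgroup.centralizer (Q : Set G) := Subgroup.mem_centralizer_iff.mpr fun x hx => by
      rcases hQ4 x hx with rfl | rfl | rfl | rfl
      · simp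
      · exact (Commute.pow_pow_self a _ _).eq
      · exact hwb.eq
      · exact (Commute.mul_left (Commute.pow_pow_self a _ _) hwb).eq
    have hwC' : g * w * g⁻¹ ∈ Subgroup.centralizer (Q : Set G) := Subgroup.mem_centralizer_iff.mpr fun x hx => by
      have := Subgroup.mem_centralizer_iff.mp hwC (g⁻¹ * x * g) (by
        have := (Subgroup.mem_normalizer_iff.mp (inv_mem hg) x).mp hx
        rwa [inv_inv] at this)
      calc x * (g * w * g⁻¹) = g * (g⁻¹ * x * g * w) * g⁻¹ := by group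
        _ = g * (w * (g⁻¹ * x * g)) * g⁻¹ := by rw [this]
        _ = _ := by group
    let w' : ↥K := ⟨⟨g * w * g⁻¹, Subgroup.centralizer_le_normalizer _ hwC'⟩, hwC'⟩
    obtain ⟨j, hj⟩ := IsPGroup.iff_orderOf.mp S.2 ⟨w, pow_mem ha _⟩
    rw [Subgroup.orderOf_mk] at hj
    obtain ⟨c, hc⟩ := CfsgLib.BrauerSuzuki.exists_conj_mem_sylow T (R := Subgroup.zpowers w')
      (IsPGroup.of_card (n := j) (by
        rw [Nat.card_zpowers, ← Subgroup.orderOf_coe, ← Subgroup.orderOf_coe,
          CfsgLib.BrauerSuzuki.orderOf_conj', hj]))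
    have h1 : ((c * w' * c⁻¹ : ↥K) : ↥N) ∈ (T : Subgroup ↥K).map K.subtype :=
      ⟨_, hc w' (Subgroup.mem_zpowers _), rfl⟩
    rw [hT] at h1
    have h2 : ((c : ↥N) : G) * (g * w * g⁻¹) * ((c : ↥N) : G)⁻¹ ∈ (S : Subgroup G) := h1.1
    have h3 : ((c : ↥N) : G) * (g * z * g⁻¹) * ((c : ↥N) : G)⁻¹ = g * z * g⁻¹ := by
      have hcC : ((c : ↥N) : G) ∈ Subgroup.centralizer (Q : Set G) := c.2
      rw [← Subgroup.mem_centralizer_iff.mp hcC _ (hn hzQ), mul_inv_cancel_right]
    have h4 : g * z * g⁻¹ ∈ Subgroup.zpowers a := by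
      have := hsqA _ h2
      rw [hsq, hsq, hwz, h3] at this
      exact this
    rcases hinv2 _ h4 (by rw [hsq, hzz, mul_one, mul_inv_cancel]) with h' | h'
    · rw [conj_eq_one_iff] at h'
      rw [h']; exact Commute.one_right g
    · exact mul_inv_eq_iff_eq_mul.mp h'
  refine Subgroup.mem_centralizer_iff.mpr fun x hx => (?_ : Commute g x).eq.symm
  by_cases h2 : x * x = 1
  swap
  · exact horder4 x hx h2
  by_cases hx1 : x = 1
  · rw [hx1]; exact Commute.one_right g
  -- an involution of `Q`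
  have hzfix : z ∈ Q → Commute g z := by
    intro hzQ
    by_cases hall : ∀ y ∈ Q, y * y = 1
    swap
    · push Not at hall
      obtain ⟨y, hy, hy2⟩ := hall
      exact hfixz y hy hy2
    by_cases hbQ : b ∈ Q
    · exact hE hzQ hbQ hall
    have hgz := hn hzQ
    rcases hsq1 _ (hQ hgz) (hall _ hgz) with h' | h' | h' | h'
    · rw [conj_eq_one_iff] at h'; rw [h']; exact Commute.one_right g
    · exact mul_inv_eq_iff_eq_mul.mp h'
    · exact absurd (h' ▸ hgz) hbQ
    · refine absurd ?_ hbQ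
      have := mul_mem hzQ (h' ▸ hgz)
      rwa [← mul_assoc, hzz, one_mul] at this
  have h21 : g * x * g⁻¹ * (g * x * g⁻¹) = 1 := by rw [hsq, h2, mul_one, mul_inv_cancel]
  have hne1 : g * x * g⁻¹ ≠ 1 := fun h => hx1 (conj_eq_one_iff.mp h)
  rcases hsq1 x (hQ hx) h2 with hxx | hxx | hxx
  · exact absurd hxx hx1
  · rw [hxx]; exact hzfix (hxx ▸ hx)
  have hxz : x ≠ z := fun h => by
    rcases hxx with h' | h'
    · exact hbA (by rw [← h', h]; exact pow_mem (Subgroup.mem_zpowers a) _)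
    · rw [h] at h'
      exact hbA (by rw [left_eq_mul.mp h']; exact one_mem _)
  have key : ∀ y, y * y = 1 → y ∈ Q → y ≠ 1 → y = z ∨ y = b ∨ y = z * b := fun y h h' h'' =>
    (hsq1 y (hQ h') h).resolve_left h''
  rcases key _ h21 (hn hx) hne1 with h' | h'
  · have hzQ : z ∈ Q := h' ▸ hn hx
    have hc := hzfix hzQ
    refine absurd ?_ hxz
    exact mul_left_cancel (mul_right_cancel (h'.trans (by rw [hc.eq, mul_inv_cancel_right] : z = g * z * g⁻¹)))
  · set x1 := g * x * g⁻¹ with hx1'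
    refine hpow 1 (mul_inv_eq_iff_eq_mul.mp ?_)
    have e : g ^ (2 ^ 1) * x * (g ^ (2 ^ 1))⁻¹ = g * x1 * g⁻¹ := by rw [pow_one, sq, hx1']; group
    rw [e]
    by_cases hh : x1 = x
    · rw [hh]; exact hx1'.symm.trans hh
    · have hz2 : z ∈ Q := by
        have hmem := mul_mem hx (hn hx)
        rw [← hx1'] at hmem
        rcases hxx with r | r <;> rcases h' with r' | r' <;> rw [r, r'] at hmem hh
        · exact absurd rfl hh
        · rwa [← mul_assoc, hzb.eq, mul_assoc, hbb, mul_one] at hmem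
        · rwa [mul_assoc, hbb, mul_one] at hmem
        · exact absurd rfl hh
      have hc := hzfix hz2
      have hgz : g * z * g⁻¹ = z := by rw [hc.eq, mul_inv_cancel_right]
      have hxe : x1 = z * x := by
        rcases hxx with r | r <;> rcases h' with r' | r' <;> rw [r, r'] at hh ⊢
        · exact absurd rfl hh
        · rw [← mul_assoc, hzz, one_mul]
        · exact absurd rfl hh
      calc g * x1 * g⁻¹ = g * z * g⁻¹ * x1 := by
            have h' : g * x1 * g⁻¹ = g * (z * x) * g⁻¹ := by rw [hxe]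
            rw [h', hx1']; group
        _ = x := by rw [hgz, hxe, ← mul_assoc, hzz, one_mul]

end Cfsg.Agent.S3178
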