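import Cfsg.Statements.S3179
import Cfsg.Agent.S0280
import Cfsg.Agent.Lib.Classical.SLOrders
import Cfsg.Agent.Lib.KnownB.SuzukiGroup
import Mathlib.GroupTheory.Sylow
import Mathlib.Tactic.IntervalCases
import Mathlib.Tactic.NormNum.DivMod
import Mathlib.Tactic.NormNum.Prime
import Mathlib.Tactic.LinearCombination

set_option autoImplicit false
open Cfsg

namespace Cfsg.Agent.S3179

theorem card_GL52 : Nat.card (GL (Fin 5) (ZMod 2)) = 2 ^ 10 * 9765 := by
  rw [Matrix.card_GL_field, ZMod.card]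
  norm_num [Fin.prod_univ_succ]

theorem pow_three_eq_one_of_orderOf {g : GL (Fin 5) (ZMod 2)} (hg : orderOf g = 9) : False := by
  haveI : Fact (Nat.Prime 3) := ⟨Nat.prime_three⟩
  let a : GL (Fin 5) (ZMod 2) :=
    { val := !![0, 1, 0, 0, 0; 1, 1, 0, 0, 0; 0, 0, 1, 0, 0; 0, 0, 0, 1, 0; 0, 0, 0, 0, 1]
      inv := !![1, 1, 0, 0, 0; 1, 0, 0, 0, 0; 0, 0, 1, 0, 0; 0, 0, 0, 1, 0; 0, 0, 0, 0, 1]
      val_inv := by decide
      inv_val := by decide }
  let b : GL (Fin 5) (ZMod 2) :=
    { val := !![1, 0, 0, 0, 0; 0, 1, 0, 0, 0; 0, 0, 0, 1, 0; 0, 0, 1, 1, 0; 0, 0, 0, 0, 1]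
      inv := !![1, 0, 0, 0, 0; 0, 1, 0, 0, 0; 0, 0, 1, 1, 0; 0, 0, 1, 0, 0; 0, 0, 0, 0, 1]
      val_inv := by decide
      inv_val := by decide }
  have ha3 : a ^ 3 = 1 := Units.ext (by decide)
  have hb3 : b ^ 3 = 1 := Units.ext (by decide)
  have hab : a * b = b * a := Units.ext (by decide)
  have hb1 : b ≠ 1 := fun h => absurd (congrArg Units.val h) (by decide)
  have hba : b ≠ a := fun h => absurd (congrArg Units.val h) (by decide)
  have hba2 : b ≠ a ^ 2 := fun h => absurd (congrArg Units.val h) (by decide)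
  have ha1 : a ≠ 1 := fun h => absurd (congrArg Units.val h) (by decide)
  set S : Subgroup (GL (Fin 5) (ZMod 2)) := Subgroup.zpowers a ⊔ Subgroup.zpowers b with hS
  have hmem : ∀ x ∈ S, x ^ 3 = 1 := by
    have hcl : S = Subgroup.closure {a, b} := by
      rw [hS, Subgroup.zpowers_eq_closure, Subgroup.zpowers_eq_closure, ← Subgroup.closure_union,
        Set.singleton_union]
    rw [hcl]
    intro x hx
    have hP : x ^ 3 = 1 ∧ Commute x a ∧ Commute x b := by
      induction hx using Subgroup.closure_induction with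
      | mem y hy =>
        rcases hy with rfl | rfl
        · exact ⟨ha3, Commute.refl _, hab⟩
        · exact ⟨hb3, hab.symm, Commute.refl _⟩
      | one => exact ⟨one_pow _, Commute.one_left _, Commute.one_left _⟩
      | mul y z hy _ ihy ihz =>
        have hc : Commute z y := by
          have hle : Subgroup.closure {a, b} ≤ Subgroup.centralizer ({z} : Set _) := by
            rw [Subgroup.closure_le]
            rintro w (rfl | rfl)
            · exact Subgroup.mem_centralizer_singleton_iff.2 ihz.2.1.eq.symm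
            · exact Subgroup.mem_centralizer_singleton_iff.2 ihz.2.2.eq.symm
          exact (Subgroup.mem_centralizer_singleton_iff.1 (hle hy)).symm
        exact ⟨by rw [hc.symm.mul_pow, ihy.1, ihz.1, one_mul], ihy.2.1.mul_left ihz.2.1,
          ihy.2.2.mul_left ihz.2.2⟩
      | inv y _ ih => exact ⟨by rw [inv_pow, ih.1, inv_one], ih.2.1.inv_left, ih.2.2.inv_left⟩
    exact hP.1
  have hSp : IsPGroup 3 S := fun x => ⟨1, Subtype.ext (by simpa using hmem x x.2)⟩
  obtain ⟨k, hk⟩ := hSp.exists_card_eq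
  have hfac : (Nat.card (GL (Fin 5) (ZMod 2))).factorization 3 = 2 := by
    rw [card_GL52, show 2 ^ 10 * 9765 = 3 ^ 2 * (2 ^ 10 * 1085) from by norm_num,
      Nat.factorization_mul (by norm_num) (by norm_num), Finsupp.add_apply,
      Nat.prime_three.factorization_pow, Finsupp.single_eq_same,
      Nat.factorization_eq_zero_of_not_dvd (by norm_num)]
  have hk2 : k = 2 := by
    have hle : k ≤ 2 := by
      have h := S.card_subgroup_dvd_card
      rw [hk] at h
      have := (Nat.prime_three.pow_dvd_iff_le_factorization Nat.card_pos.ne').1 h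
      omega
    have haS : a ∈ S := Subgroup.mem_sup_left (Subgroup.mem_zpowers a)
    have hbS : b ∈ S := Subgroup.mem_sup_right (Subgroup.mem_zpowers b)
    interval_cases k
    · exfalso
      have := Subgroup.eq_bot_of_card_eq S (by simpa using hk)
      rw [this, Subgroup.mem_bot] at haS
      exact ha1 haS
    · exfalso
      have ha : orderOf a = 3 := orderOf_eq_prime ha3 ha1
      have hza : Subgroup.zpowers a = S := Subgroup.eq_of_le_of_card_ge le_sup_left
        (by rw [hk, Nat.card_zpowers, ha]; rfl)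
      rw [← hza] at hbS
      obtain ⟨i, hi, hi2⟩ := (mem_zpowers_iff_mem_range_orderOf (x := a) (y := b)).1 hbS |>
        Finset.mem_image.1
      rw [Finset.mem_range, ha] at hi
      interval_cases i
      · exact hb1 (by simpa using hi2.symm)
      · exact hba (by simpa using hi2.symm)
      · exact hba2 hi2.symm
    · rfl
  let P : Sylow 3 (GL (Fin 5) (ZMod 2)) := Sylow.ofCard S (by rw [hk, hk2, hfac])
  obtain ⟨Q, hQ⟩ := (IsPGroup.of_card (n := 2)
    (by rw [Nat.card_zpowers, hg]; norm_num) : IsPGroup 3 (Subgroup.zpowers g)).exists_le_sylow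
  obtain ⟨c, hc⟩ := MulAction.exists_smul_eq (GL (Fin 5) (ZMod 2)) P Q
  have hgQ : g ∈ (Q : Subgroup (GL (Fin 5) (ZMod 2))) := hQ (Subgroup.mem_zpowers g)
  rw [← hc, Sylow.coe_subgroup_smul] at hgQ
  obtain ⟨s, hs, rfl⟩ := Subgroup.mem_map.1 hgQ
  have h3 : orderOf ((MulDistribMulAction.toMonoidEnd (MulAut (GL (Fin 5) (ZMod 2))) _)
      (MulAut.conj c) s) ∣ 3 := by
    refine orderOf_dvd_of_pow_eq_one ?_
    rw [← map_pow, hmem s hs, map_one]
  have h4 : (9 : ℕ) ∣ 3 := (dvd_of_eq hg.symm).trans h3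
  norm_num at h4

theorem psl_two_eight {F : Type*} [Field F] [Fintype F] (hF : Fintype.card F = 8) :
    ∃ x : Matrix.ProjectiveSpecialLinearGroup (Fin 2) F, orderOf x = 9 := by
  haveI : Fact (Nat.Prime 2) := ⟨Nat.prime_two⟩
  haveI : CharP F 2 := charP_of_card_eq_prime_pow (f := 3) (by rw [hF]; norm_num)
  have h2 : (2 : F) = 0 := by exact_mod_cast CharP.cast_eq_zero F 2
  obtain ⟨u, hu1, hu⟩ : ∃ u : F, u ≠ 1 ∧ u ^ 3 = u + 1 := by
    obtain ⟨u, hu⟩ : ∃ u : F, u ≠ 0 ∧ u ≠ 1 := by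
      classical
      by_contra h
      push Not at h
      have hcard := Finset.card_le_card (s := (Finset.univ : Finset F)) (t := {0, 1}) (fun u _ => by
        by_cases h0 : u = 0
        · simp [h0]
        · simp [h u h0])
      rw [Finset.card_univ, hF] at hcard
      have := hcard.trans Finset.card_le_two
      omega
    have h7 : u ^ 7 = 1 := by
      have := FiniteField.pow_card_sub_one_eq_one u hu.1
      rwa [hF] at this
    have hm : (u - 1) * ((u ^ 3 + u + 1) * (u ^ 3 + u ^ 2 + 1)) = 0 := by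
      linear_combination h7 + (u ^ 4 - u ^ 3) * h2
    rcases mul_eq_zero.1 ((mul_eq_zero.1 hm).resolve_left (sub_ne_zero.2 hu.2)) with h | h
    · exact ⟨u, hu.2, by linear_combination h - (u + 1) * h2⟩
    · refine ⟨u⁻¹, inv_ne_one.2 hu.2, ?_⟩
      field_simp [hu.1]
      linear_combination h - (u ^ 3 + u ^ 2) * h2
  let x : Matrix.SpecialLinearGroup (Fin 2) F := ⟨!![0, 1; 1, u], by
    rw [Matrix.det_fin_two_of]; linear_combination -h2⟩
  have hx3 : x ^ 3 ≠ 1 := by
    intro h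
    have hm := congrArg Subtype.val h
    rw [Matrix.SpecialLinearGroup.coe_pow, Matrix.SpecialLinearGroup.coe_one, pow_succ, pow_two] at hm
    have h01 := congrFun (congrFun hm 0) 1
    simp [x, Matrix.mul_apply, Fin.sum_univ_two] at h01
    exact hu1 (mul_self_eq_zero.1 (show (u - 1) * (u - 1) = 0 by
      linear_combination h01 + (-u) * h2) |> sub_eq_zero.1)
  have hx9 : x ^ 9 = 1 := by
    have h63 : (x : Matrix (Fin 2) (Fin 2) F) ^ 6 + (x : Matrix (Fin 2) (Fin 2) F) ^ 3 + 1 = 0 := by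
      show (!![0, 1; 1, u] : Matrix (Fin 2) (Fin 2) F) ^ 6 + !![0, 1; 1, u] ^ 3 + 1 = 0
      rw [show (6 : ℕ) = 3 + 3 from rfl, pow_add, pow_succ, pow_two]
      have hu4 : u ^ 4 = u ^ 2 + u := by linear_combination u * hu
      ext i j
      fin_cases i <;> fin_cases j <;> simp [Matrix.mul_apply, Fin.sum_univ_two]
      · linear_combination hu4 + (2 * u ^ 2 + u + 1) * h2
      · linear_combination (1 + u ^ 2) * hu + (1 + u ^ 2) * (2 * u + 1) * h2
      · linear_combination (1 + u ^ 2) * hu + (1 + u ^ 2) * (2 * u + 1) * h2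
      · linear_combination (u ^ 3 + u + 1) * hu + 5 * hu4 + hu + (6 * u ^ 2 + 5 * u + 2) * h2
    refine Subtype.ext ?_
    rw [Matrix.SpecialLinearGroup.coe_pow, Matrix.SpecialLinearGroup.coe_one, ← sub_eq_zero]
    calc (x : Matrix (Fin 2) (Fin 2) F) ^ 9 - 1
        = ((x : Matrix (Fin 2) (Fin 2) F) ^ 3 - 1)
          * ((x : Matrix (Fin 2) (Fin 2) F) ^ 6 + (x : Matrix (Fin 2) (Fin 2) F) ^ 3 + 1) := by
            noncomm_ring
      _ = 0 := by rw [h63, mul_zero]
  have hc : Nat.card (Subgroup.center (Matrix.SpecialLinearGroup (Fin 2) F)) = 1 := by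
    rw [CfsgLib.Classical.card_center_sl 2 (by norm_num), hF]; rfl
  have hinj : Function.Injective
      (QuotientGroup.mk' (Subgroup.center (Matrix.SpecialLinearGroup (Fin 2) F))) := by
    rw [← MonoidHom.ker_eq_bot_iff, QuotientGroup.ker_mk']
    exact Subgroup.eq_bot_of_card_eq _ hc
  refine ⟨QuotientGroup.mk' (Subgroup.center (Matrix.SpecialLinearGroup (Fin 2) F)) x, ?_⟩
  rw [orderOf_injective _ hinj]
  haveI : Fact (Nat.Prime 3) := ⟨Nat.prime_three⟩
  have := orderOf_eq_prime_pow (p := 3) (n := 1) (x := x) (by simpa using hx3) (by simpa using hx9)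
  simpa using this

/-- Let X be a section of the general linear group GL(5, 2), that is, a quotient of a subgroup of it. If X is isomorphic to PSL(2, 2^n) for some n ≥ 2, to a Suzuki group over the field with 2^(2m+1) elements for some m ≥ 1, or to PSU(3, 2^n) for some n ≥ 2, then X is isomorphic to PSL(2, 4). -/
theorem result {H : Subgroup (GL (Fin 5) (ZMod 2))}
    {K : Subgroup ↥H} [K.Normal]
    (hX : (∃ (n : ℕ) (F : Type) (_ : Field F) (_ : Fintype F), 2 ≤ n ∧ Fintype.card F = 2 ^ n ∧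
        Nonempty (↥H ⧸ K ≃* Matrix.ProjectiveSpecialLinearGroup (Fin 2) F)) ∨
      (∃ (m : ℕ) (F : Type) (_ : Field F) (_ : Fintype F), 1 ≤ m ∧ Fintype.card F = 2 ^ (2 * m + 1) ∧
        Nonempty (↥H ⧸ K ≃* ↥(Cfsg.Lie.Sz F (2 ^ (m + 1))))) ∨
      (∃ (n : ℕ) (F : Type) (_ : Field F) (_ : Fintype F), 2 ≤ n ∧ Fintype.card F = 4 ^ n ∧
        Nonempty (↥H ⧸ K ≃* Cfsg.PSU 3 F (2 ^ n)))) :
    ∃ (F : Type) (_ : Field F) (_ : Fintype F), Fintype.card F = 4 ∧
      Nonempty (↥H ⧸ K ≃* Matrix.ProjectiveSpecialLinearGroup (Fin 2) F) := by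
  have hdvd : Nat.card (↥H ⧸ K) ∣ 2 ^ 10 * 9765 := by
    rw [← card_GL52]
    exact (Subgroup.card_quotient_dvd_card K).trans H.card_subgroup_dvd_card
  rcases hX with ⟨n, F, iF, iFt, hn, hF, ⟨e⟩⟩ | ⟨m, F, iF, iFt, hm, hF, ⟨e⟩⟩ |
    ⟨n, F, iF, iFt, hn, hF, ⟨e⟩⟩
  · letI := iF; letI := iFt
    rw [Nat.card_congr e.toEquiv] at hdvd
    have h2n : 1 ≤ 2 ^ n := Nat.one_le_two_pow
    have h1 := CfsgLib.Classical.card_sl_mul hF 2 (by norm_num)
    have h2 := CfsgLib.Classical.card_psl_mul hF 2 (by norm_num)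
    have hg : Nat.gcd 2 (2 ^ n - 1) = 1 :=
      Nat.prime_two.coprime_iff_not_dvd.2 (by
        have : 2 ∣ 2 ^ n := dvd_pow_self 2 (by omega)
        omega)
    rw [hg, one_mul] at h2
    rw [← h2] at h1
    simp [Fin.prod_univ_two] at h1
    set N := Nat.card (Matrix.ProjectiveSpecialLinearGroup (Fin 2) F)
    have hN : N = 2 ^ n * (2 ^ n * 2 ^ n - 1) := by
      have hpos : 0 < 2 ^ n - 1 := by
        have : 4 ≤ 2 ^ n := le_trans (by norm_num) (Nat.pow_le_pow_right two_pos hn)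
        omega
      refine Nat.eq_of_mul_eq_mul_left hpos ?_
      rw [h1, ← pow_two (2 ^ n)]
      have e1 : (2 ^ n) ^ 2 - 2 ^ n = (2 ^ n - 1) * 2 ^ n := by
        rw [Nat.sub_mul, one_mul, pow_two]
      rw [e1]; ring
    rw [hN] at hdvd
    have hn10 : n ≤ 10 := by
      have h3 : 2 ^ n ∣ 2 ^ 10 * 9765 := dvd_trans (Dvd.intro _ rfl) hdvd
      exact (Nat.pow_dvd_pow_iff_le_right (by norm_num)).1
        ((Nat.Coprime.pow_left n (by norm_num : Nat.Coprime 2 9765)).dvd_of_dvd_mul_right h3)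
    interval_cases n <;> first
      | (refine ⟨F, iF, iFt, ?_, ⟨e⟩⟩; rw [hF]; norm_num; done)
      | (exfalso; norm_num at hdvd; done)
      | (exfalso; exact absurd hdvd (by decide))
      | skip
    exfalso
    obtain ⟨x, hx⟩ := psl_two_eight (F := F) (by rw [hF]; norm_num)
    obtain ⟨h, hh⟩ := QuotientGroup.mk_surjective (e.symm x)
    have h9 : 9 ∣ orderOf h := by
      rw [← hx, ← e.symm.orderOf_eq x, ← hh]
      exact orderOf_map_dvd (QuotientGroup.mk' K) h
    refine pow_three_eq_one_of_orderOf (g := ((h : GL (Fin 5) (ZMod 2)) ^ (orderOf h / 9))) ?_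
    rw [← SubmonoidClass.coe_pow, Subgroup.orderOf_coe,
      orderOf_pow_of_dvd (by
        have := orderOf_pos h
        exact (Nat.div_pos (Nat.le_of_dvd this h9) (by norm_num)).ne') (Nat.div_dvd_of_dvd h9),
      Nat.div_div_self h9 (orderOf_pos h).ne']
  · letI := iF; letI := iFt
    exfalso
    rw [Nat.card_congr e.toEquiv, CfsgLib.KnownB.Suzuki.card_Sz
      (CfsgLib.KnownB.SzElem.twist_of_card hF), hF] at hdvd
    have h3 : 2 ^ ((2 * m + 1) * 2) ∣ 2 ^ 10 * 9765 := by
      rw [pow_mul]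
      exact dvd_trans (Dvd.intro _ rfl) (dvd_trans (Dvd.intro _ rfl) hdvd)
    have h4 := (Nat.pow_dvd_pow_iff_le_right (by norm_num)).1
      ((Nat.Coprime.pow_left _ (by norm_num : Nat.Coprime 2 9765)).dvd_of_dvd_mul_right h3)
    have hm2 : m ≤ 2 := by omega
    interval_cases m <;> revert hdvd <;> norm_num
  · letI := iF; letI := iFt
    exfalso
    have hF' : Fintype.card F = (2 ^ n) ^ 2 := by rw [hF, ← pow_mul, mul_comm, pow_mul]; norm_num
    have h1 := Cfsg.Agent.S0280.result hF' 3 (by norm_num)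
    rw [Nat.card_congr e.toEquiv] at hdvd
    set N := Nat.card (Cfsg.PSU 3 F (2 ^ n))
    simp [Finset.prod_range_succ, parity_simps] at h1
    have h3 : 2 ^ (n * 3) ∣ Nat.gcd 3 (2 ^ n + 1) * ((2 ^ n + 1) * N) := by
      rw [h1, pow_mul]; exact Dvd.intro _ rfl
    have hodd : Odd (2 ^ n + 1) := (Nat.even_pow.2 ⟨even_two, by omega⟩).add_one
    have hc : Nat.Coprime (2 ^ (n * 3)) (2 ^ n + 1) :=
      Nat.Coprime.pow_left _ (Nat.coprime_two_left.2 hodd)
    have hc' : Nat.Coprime (2 ^ (n * 3)) (Nat.gcd 3 (2 ^ n + 1)) :=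
      hc.coprime_dvd_right (Nat.gcd_dvd_right _ _)
    have h4 : 2 ^ (n * 3) ∣ 2 ^ 10 * 9765 :=
      (hc.dvd_of_dvd_mul_left (hc'.dvd_of_dvd_mul_left h3)).trans hdvd
    have h5 := (Nat.pow_dvd_pow_iff_le_right (by norm_num)).1
      ((Nat.Coprime.pow_left _ (by norm_num : Nat.Coprime 2 9765)).dvd_of_dvd_mul_right h4)
    have hn3 : n ≤ 3 := by omega
    interval_cases n <;> norm_num at h1
    · have e4 : N = 62400 := by omega
      rw [e4] at hdvd; norm_num at hdvd
    · have e8 : N = 5515776 := by omega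
      rw [e8] at hdvd; norm_num at hdvd

end Cfsg.Agent.S3179
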