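import Cfsg.Statements.S3180
import Mathlib

set_option autoImplicit false
open Cfsg

namespace Cfsg.Agent.S3180

/-- Let P be a Sylow p-subgroup of a finite group J and P₁ a subgroup of P that is weakly closed in P with respect to J. If J acts on a set and two points, each fixed by every element of P₁, lie in one J-orbit, then they lie in one orbit of the normalizer of P₁ in J. -/
theorem result {J : Type*} [Group J] [Finite J]
    {p : ℕ} [Fact p.Prime] (P : Sylow p J) (P₁ : Subgroup J) (hW : Cfsg.IsWeaklyClosed P₁ (P : Subgroup J))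
    {Ω : Type*} [MulAction J Ω] (x y : Ω) (hx : ∀ g ∈ P₁, g • x = x) (hy : ∀ g ∈ P₁, g • y = y)
    (hc : ∃ g : J, g • x = y) :
    ∃ g ∈ Subgroup.normalizer (P₁ : Set J), g • x = y := by
  obtain ⟨g, hg⟩ := hc
  have key : ∀ (T : Sylow p J), P₁ ≤ (T : Subgroup J) → ∀ k : J,
      P₁.map (MulAut.conj k).toMonoidHom ≤ (T : Subgroup J) → k ∈ Subgroup.normalizer (P₁ : Set J) := by
    intro T hT k hk
    obtain ⟨c, rfl⟩ := MulAction.exists_smul_eq J P T
    have hc1 : P₁.map (MulAut.conj c⁻¹).toMonoidHom ≤ (P : Subgroup J) := by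
      rintro _ ⟨a, ha, rfl⟩
      have := hT ha
      rw [Sylow.coe_subgroup_smul, Subgroup.mem_pointwise_smul_iff_inv_smul_mem] at this
      simpa using this
    have hc2 : P₁.map (MulAut.conj (c⁻¹ * k)).toMonoidHom ≤ (P : Subgroup J) := by
      rintro _ ⟨a, ha, rfl⟩
      have := hk (Subgroup.mem_map_of_mem _ ha)
      rw [Sylow.coe_subgroup_smul, Subgroup.mem_pointwise_smul_iff_inv_smul_mem] at this
      simpa [mul_assoc] using this
    have e1 : c⁻¹ ∈ Subgroup.normalizer (P₁ : Set J) :=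
      Subgroup.mem_normalizer_iff_map_conj_eq.mpr (hW.2 _ hc1)
    have e2 : c⁻¹ * k ∈ Subgroup.normalizer (P₁ : Set J) :=
      Subgroup.mem_normalizer_iff_map_conj_eq.mpr (hW.2 _ hc2)
    simpa using mul_mem (inv_mem e1) e2
  set H := MulAction.stabilizer J y with hH
  have hP1H : P₁ ≤ H := fun a ha => hy a ha
  have hP1gH : P₁.map (MulAut.conj g).toMonoidHom ≤ H := by
    rintro _ ⟨a, ha, rfl⟩
    show (g * a * g⁻¹) • y = y
    rw [← hg, mul_smul, mul_smul, inv_smul_smul, hx a ha]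
  have hpP : IsPGroup p P₁ := P.2.to_le hW.1
  have hpg : IsPGroup p (P₁.map (MulAut.conj g).toMonoidHom) := hpP.map _
  obtain ⟨Q, hQ⟩ := (hpP.comap_subtype (K := H)).exists_le_sylow
  obtain ⟨Q', hQ'⟩ := (hpg.comap_subtype (K := H)).exists_le_sylow
  obtain ⟨h, rfl⟩ := MulAction.exists_smul_eq H Q' Q
  obtain ⟨T, hT⟩ := ((h • Q').2.map H.subtype).exists_le_sylow
  have h1 : P₁ ≤ (T : Subgroup J) := by
    intro a ha
    exact hT ⟨⟨a, hP1H ha⟩, hQ ha, rfl⟩
  have h2 : P₁.map (MulAut.conj ((h : J) * g)).toMonoidHom ≤ (T : Subgroup J) := by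
    rintro _ ⟨a, ha, rfl⟩
    have hmem : (⟨g * a * g⁻¹, hP1gH ⟨a, ha, rfl⟩⟩ : H) ∈ (Q' : Subgroup H) := hQ' ⟨a, ha, rfl⟩
    refine hT ⟨h * ⟨g * a * g⁻¹, hP1gH ⟨a, ha, rfl⟩⟩ * h⁻¹, ?_, ?_⟩
    · rw [SetLike.mem_coe, Sylow.coe_subgroup_smul, Subgroup.mem_pointwise_smul_iff_inv_smul_mem]
      simpa [mul_assoc] using hmem
    · simp [mul_assoc]
  refine ⟨(h : J) * g, key T h1 _ h2, ?_⟩
  rw [mul_smul, hg]
  exact h.2

end Cfsg.Agent.S3180
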