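import Cfsg.Statements.S3183
import Mathlib

set_option autoImplicit false
open Cfsg

namespace Cfsg.Agent.S3183

/-- Let G be a finite group in which the intersection of any two distinct Sylow 2-subgroups is contained in the centre of some Sylow 2-subgroup, and let S be a Sylow 2-subgroup. Then for every x in S the centralizer of x in S is a Sylow 2-subgroup of the centralizer of x in G (no 2-subgroup centralizing x is larger), and for every other Sylow 2-subgroup T the intersection S ∩ T lies in both the centre of S and the centre of T. -/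
theorem result {G : Type*} [Group G] [Finite G]
    (hCI : ∀ S T : Sylow 2 G, S ≠ T → ∃ U : Sylow 2 G,
      (S : Subgroup G) ⊓ (T : Subgroup G) ≤ (Subgroup.center ↥(U : Subgroup G)).map (U : Subgroup G).subtype)
    (S : Sylow 2 G) :
    (∀ x ∈ (S : Subgroup G), ∀ P : Subgroup G, IsPGroup 2 ↥P → P ≤ Subgroup.centralizer ({x} : Set G) →
        Nat.card ↥P ≤ Nat.card ↥((S : Subgroup G) ⊓ Subgroup.centralizer ({x} : Set G))) ∧
    (∀ T : Sylow 2 G, T ≠ S →
        (S : Subgroup G) ⊓ (T : Subgroup G) ≤
          (Subgroup.center ↥(S : Subgroup G)).map (S : Subgroup G).subtype ⊓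
            (Subgroup.center ↥(T : Subgroup G)).map (T : Subgroup G).subtype) := by
  haveI : Fact (Nat.Prime 2) := ⟨Nat.prime_two⟩
  have key : ∀ (S : Sylow 2 G) (x : G) (T : Sylow 2 G), x ∈ (S : Subgroup G) → x ∈ (T : Subgroup G) → S ≠ T →
      (S : Subgroup G) ≤ Subgroup.centralizer ({x} : Set G) := by
    intro S x T hxS hxT hST
    set D := (S : Subgroup G) ⊓ Subgroup.centralizer ({x} : Set G) with hD
    by_contra hnle
    obtain ⟨U0, hU0⟩ := hCI S T hST
    have hU0C : (U0 : Subgroup G) ≤ Subgroup.centralizer ({x} : Set G) := by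
      obtain ⟨z, hz, hzx⟩ := hU0 ⟨hxS, hxT⟩
      intro u hu
      rw [Subgroup.mem_centralizer_singleton_iff]
      have := congrArg Subtype.val (Subgroup.mem_center_iff.mp hz ⟨u, hu⟩)
      simpa [← hzx] using this
    -- extend D to a Sylow subgroup inside the centralizer
    have hDp : IsPGroup 2 (D.subgroupOf (Subgroup.centralizer ({x} : Set G))) :=
      (S.2.to_le inf_le_left).comap_subtype
    obtain ⟨Q, hQ⟩ := hDp.exists_le_sylow
    obtain ⟨U1, hU1⟩ := (Q.2.map (Subgroup.centralizer ({x} : Set G)).subtype).exists_le_sylow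
    have hU1C : (U1 : Subgroup G) ≤ Subgroup.centralizer ({x} : Set G) := by
      have hc : Nat.card (U1 : Subgroup G) ≤ Nat.card ((Q : Subgroup ↥(Subgroup.centralizer ({x} : Set G))).map (Subgroup.centralizer ({x} : Set G)).subtype : Subgroup G) := by
        rw [Subgroup.card_map_of_injective Subtype.coe_injective, ← U0.card_eq_multiplicity.trans U1.card_eq_multiplicity.symm]
        rw [Q.card_eq_multiplicity, U0.card_eq_multiplicity]
        refine Nat.pow_le_pow_right two_pos ?_
        have hd : 2 ^ (Nat.card G).factorization 2 ∣ Nat.card (Subgroup.centralizer ({x} : Set G)) :=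
          U0.card_eq_multiplicity ▸ Subgroup.card_dvd_of_le hU0C
        exact (Nat.Prime.pow_dvd_iff_le_factorization Nat.prime_two Nat.card_pos.ne').mp hd
      have := Subgroup.eq_of_le_of_card_ge hU1 hc
      rw [← this]
      exact Subgroup.map_subtype_le _
    have hDU1 : D ≤ (U1 : Subgroup G) := fun d hd => hU1 ⟨⟨d, hd.2⟩, hQ hd, rfl⟩
    have hSU1 : S ≠ U1 := fun h => hnle (h ▸ hU1C)
    obtain ⟨U, hU⟩ := hCI S U1 hSU1
    -- U centralizes D
    have hUD : (U : Subgroup G) ≤ Subgroup.centralizer (D : Set G) := by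
      intro u hu
      rw [Subgroup.mem_centralizer_iff]
      intro d hd
      obtain ⟨z, hz, hzd⟩ := hU ⟨hd.1, hDU1 hd⟩
      have := congrArg Subtype.val (Subgroup.mem_center_iff.mp hz ⟨u, hu⟩)
      simpa [← hzd] using this.symm
    -- a normalizer step
    have hlt : D.subgroupOf (S : Subgroup G) < ⊤ := by
      rw [lt_top_iff_ne_top, Ne, Subgroup.subgroupOf_eq_top]
      exact fun h => hnle (h.trans inf_le_right)
    haveI : Group.IsNilpotent (S : Subgroup G) := S.2.isNilpotent
    obtain ⟨y, hyN, hyD⟩ := Set.exists_of_ssubset (Group.normalizerCondition_of_isNilpotent _ hlt)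
    obtain ⟨M, hM⟩ : ∃ M, M = Subgroup.normalizer (D : Set G) := ⟨_, rfl⟩
    have hyM : (y : G) ∈ M := by
      rw [hM, Subgroup.mem_normalizer_iff]
      intro d
      simp only [SetLike.mem_coe, Subgroup.mem_normalizer_iff] at hyN
      constructor
      · intro hd
        exact (hyN ⟨d, hd.1⟩).mp hd
      · intro hd
        have hdS : d ∈ (S : Subgroup G) := by
          have h3 := mul_mem (mul_mem (inv_mem y.2) hd.1) y.2
          simpa [mul_assoc] using h3
        exact (hyN ⟨d, hdS⟩).mpr hd
    have hCM : Subgroup.centralizer (D : Set G) ≤ M := hM ▸ Subgroup.centralizer_le_normalizer _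
    haveI : ((Subgroup.centralizer (D : Set G)).subgroupOf M).Normal := by
      subst hM; infer_instance
    -- the centralizer of D contains all 2-elements of M
    have hodd : ¬ 2 ∣ (Subgroup.centralizer (D : Set G)).relIndex M := fun h =>
      U.not_dvd_index (h.trans ((Dvd.intro_left _ (Subgroup.relIndex_mul_relIndex _ _ _ hUD hCM)).trans
        (Subgroup.relIndex_dvd_index_of_le (hUD.trans hCM))))
    have hy2 : (⟨(y : G), hyM⟩ : M) ∈ (Subgroup.centralizer (D : Set G)).subgroupOf M := by
      rw [← QuotientGroup.eq_one_iff, ← orderOf_eq_one_iff]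
      obtain ⟨k, hk⟩ := S.2 y
      have hk' : (⟨(y : G), hyM⟩ : M) ^ 2 ^ k = 1 := by
        ext; simpa using congrArg Subtype.val hk
      have h1 : orderOf (QuotientGroup.mk ⟨(y : G), hyM⟩ : M ⧸ (Subgroup.centralizer (D : Set G)).subgroupOf M) ∣ 2 ^ k :=
        orderOf_dvd_of_pow_eq_one (by rw [← QuotientGroup.mk_pow, hk']; rfl)
      have h2 : orderOf (QuotientGroup.mk ⟨(y : G), hyM⟩ : M ⧸ (Subgroup.centralizer (D : Set G)).subgroupOf M) ∣
          (Subgroup.centralizer (D : Set G)).relIndex M := by
        rw [Subgroup.relIndex, Subgroup.index_eq_card]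
        exact orderOf_dvd_natCard _
      exact Nat.eq_one_of_dvd_coprimes
        ((Nat.Coprime.pow_left k (Nat.prime_two.coprime_iff_not_dvd.mpr hodd))) h1 h2
    refine hyD ⟨y.2, ?_⟩
    show (y : G) ∈ Subgroup.centralizer ({x} : Set G)
    rw [Subgroup.mem_centralizer_singleton_iff]
    have := (Subgroup.mem_centralizer_iff.mp hy2) x
      ⟨hxS, Subgroup.mem_centralizer_singleton_iff.mpr rfl⟩
    exact this.symm
  have key2 : ∀ (S T : Sylow 2 G), S ≠ T → (S : Subgroup G) ⊓ (T : Subgroup G) ≤
      (Subgroup.center ↥(S : Subgroup G)).map (S : Subgroup G).subtype := by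
    intro S T hne a ha
    refine ⟨⟨a, ha.1⟩, ?_, rfl⟩
    rw [SetLike.mem_coe, Subgroup.mem_center_iff]
    rintro ⟨s, hs⟩
    have := key S a T ha.1 ha.2 hne hs
    rw [Subgroup.mem_centralizer_singleton_iff] at this
    exact Subtype.ext this
  constructor
  · intro x hx P hP hPx
    by_cases hSx : (S : Subgroup G) ≤ Subgroup.centralizer ({x} : Set G)
    · rw [inf_of_le_left hSx]
      obtain ⟨T, hT⟩ := hP.exists_le_sylow
      refine (Subgroup.card_le_of_le hT).trans (le_of_eq ?_)
      exact T.card_eq_multiplicity.trans S.card_eq_multiplicity.symm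
    · have hxC : x ∈ Subgroup.centralizer ({x} : Set G) := Subgroup.mem_centralizer_singleton_iff.mpr rfl
      have hQp : IsPGroup 2 (P.subgroupOf (Subgroup.centralizer ({x} : Set G))) := hP.comap_subtype
      obtain ⟨Q, hQ⟩ := hQp.exists_le_sylow
      have hDp : IsPGroup 2 (((S : Subgroup G) ⊓ Subgroup.centralizer ({x} : Set G)).subgroupOf (Subgroup.centralizer ({x} : Set G))) :=
        (S.2.to_le inf_le_left).comap_subtype
      obtain ⟨Q', hQ'⟩ := hDp.exists_le_sylow
      obtain ⟨U1, hU1⟩ := (Q'.2.map (Subgroup.centralizer ({x} : Set G)).subtype).exists_le_sylow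
      have hU1S : U1 = S := by
        by_contra hne
        exact hSx (key S x U1 hx (hU1 ⟨⟨x, hxC⟩, hQ' ⟨hx, hxC⟩, rfl⟩) (Ne.symm hne))
      calc Nat.card P = Nat.card (P.subgroupOf (Subgroup.centralizer ({x} : Set G))) :=
            (Nat.card_congr (Subgroup.subgroupOfEquivOfLe hPx).toEquiv).symm
        _ ≤ Nat.card (Q : Subgroup ↥(Subgroup.centralizer ({x} : Set G))) := Subgroup.card_le_of_le hQ
        _ = Nat.card (Q' : Subgroup ↥(Subgroup.centralizer ({x} : Set G))) := Q.card_eq_multiplicity.trans Q'.card_eq_multiplicity.symm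
        _ = Nat.card ((Q' : Subgroup ↥(Subgroup.centralizer ({x} : Set G))).map (Subgroup.centralizer ({x} : Set G)).subtype : Subgroup G) :=
            (Subgroup.card_map_of_injective (K := (Q' : Subgroup ↥(Subgroup.centralizer ({x} : Set G)))) (f := (Subgroup.centralizer ({x} : Set G)).subtype)
              (Subgroup.subtype_injective _)).symm
        _ ≤ _ := by
            apply Subgroup.card_le_of_le
            refine le_inf ?_ (Subgroup.map_subtype_le _)
            rw [← hU1S]; exact hU1
  · intro T hT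
    refine le_inf (key2 S T (Ne.symm hT)) ?_
    rw [inf_comm]
    exact key2 T S hT

end Cfsg.Agent.S3183
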