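import Cfsg.Statements.S3184
import Cfsg.Agent.Lib.Involution.ZStar.Main

set_option autoImplicit false
open Cfsg

namespace Cfsg.Agent.S3184

/-- Let G be a finite group in which the intersection of any two distinct Sylow 2-subgroups is contained in the centre of some Sylow 2-subgroup, and let S be a Sylow 2-subgroup. If C is a nontrivial cyclic characteristic subgroup of S, then the involution of C is central modulo the largest normal subgroup of odd order of G: each of its conjugates has the same image in G/O(G). -/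
theorem result {G : Type*} [Group G] [Finite G]
    (hCI : ∀ S T : Sylow 2 G, S ≠ T → ∃ U : Sylow 2 G,
      (S : Subgroup G) ⊓ (T : Subgroup G) ≤ (Subgroup.center ↥(U : Subgroup G)).map (U : Subgroup G).subtype)
    (S : Sylow 2 G) (C : Subgroup ↥(S : Subgroup G)) (hC : C ≠ ⊥) (hCc : IsCyclic ↥C) (hCh : C.Characteristic)
    (c : ↥(S : Subgroup G)) (hc : c ∈ C) (hc2 : orderOf c = 2) :
    ∀ g : G, (QuotientGroup.mk (s := Cfsg.oddCore G) (g * (c : G) * g⁻¹)) =
      QuotientGroup.mk (s := Cfsg.oddCore G) (c : G) := by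
  haveI := Fact.mk Nat.prime_two
  have hfix : ∀ n : G, n ∈ Subgroup.normalizer ((S : Subgroup G) : Set G) → n * (c : G) * n⁻¹ = c := by
    intro n hn
    let α := (S : Subgroup G).normalizerMonoidHom ⟨n, hn⟩
    have hC' : α c ∈ C := by
      have := Subgroup.Characteristic.fixed hCh α
      have h1 : c ∈ C.comap α.toMonoidHom := by rw [this]; exact hc
      exact h1
    have h2 : orderOf (α c) = 2 := by rw [MulEquiv.orderOf_eq, hc2]
    have heq : (⟨α c, hC'⟩ : ↥C) = ⟨c, hc⟩ := by
      have h1 : orderOf (⟨α c, hC'⟩ : ↥C) = 2 := by rw [Subgroup.orderOf_mk, h2]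
      have h1' : orderOf (⟨c, hc⟩ : ↥C) = 2 := by rw [Subgroup.orderOf_mk, hc2]
      haveI := hCc
      letI : Fintype ↥C := Fintype.ofFinite _
      have hcard := IsCyclic.card_orderOf_eq_totient (α := ↥C) (d := 2) (dvd_trans (dvd_of_eq h1.symm) orderOf_dvd_card)
      rw [Nat.totient_two] at hcard
      exact Finset.card_le_one.mp hcard.le _ (by simp [h1]) _ (by simp [h1'])
    exact congrArg (fun z : ↥C => ((z : ↥(S : Subgroup G)) : G)) heq
  have hmem : ∀ h : G, h * (c : G) * h⁻¹ ∈ ((h • S : Sylow 2 G) : Subgroup G) := fun h => by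
    rw [Sylow.coe_subgroup_smul]
    exact Subgroup.smul_mem_pointwise_smul _ (MulAut.conj h) _ c.2
  have hcS : ∀ s ∈ (S : Subgroup G), s * (c : G) * s⁻¹ = c := fun s hs => hfix s (Subgroup.le_normalizer hs)
  have hcent : ∀ h : G, ((h • S : Sylow 2 G) : Subgroup G) ≤ Subgroup.centralizer ({h * (c : G) * h⁻¹} : Set G) := by
    intro h s hs
    rw [Sylow.coe_subgroup_smul, Subgroup.mem_pointwise_smul_iff_inv_smul_mem] at hs
    have h0 : h⁻¹ * s * h ∈ (S : Subgroup G) := by
      simpa [MulAut.smul_def, MulAut.conj_inv_apply] using hs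
    refine Subgroup.mem_centralizer_singleton_iff.mpr ?_
    calc s * (h * (c : G) * h⁻¹) = h * (h⁻¹ * s * h * c * (h⁻¹ * s * h)⁻¹) * (h⁻¹ * s * h) * h⁻¹ := by group
      _ = h * c * h⁻¹ * s := by rw [hcS _ h0]; group
  have huniq : ∀ (U : Sylow 2 G) (y h : G), y • S = U → h * (c : G) * h⁻¹ ∈ Subgroup.centralizer ((U : Subgroup G) : Set G) →
      h * (c : G) * h⁻¹ = y * (c : G) * y⁻¹ := by
    intro U y h hy hv
    set v := h * (c : G) * h⁻¹ with hvdef
    have hU : (U : Subgroup G) ≤ Subgroup.centralizer ({v} : Set G) := fun s hs =>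
      Subgroup.mem_centralizer_singleton_iff.mpr (Subgroup.mem_centralizer_iff.mp hv s hs)
    obtain ⟨w, hw⟩ := MulAction.exists_smul_eq (↥(Subgroup.centralizer ({v} : Set G))) ((h • S).subtype (hcent h)) (U.subtype hU)
    rw [Sylow.smul_subtype] at hw
    have hw' : (w : G) • (h • S) = U := Sylow.subtype_injective hw
    have hn : y⁻¹ * (w : G) * h ∈ Subgroup.normalizer ((S : Subgroup G) : Set G) := by
      apply Sylow.smul_eq_iff_mem_normalizer.mp
      rw [mul_smul, mul_smul, hw', ← hy, inv_smul_smul]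
    have hwv : (w : G) * v * (w : G)⁻¹ = v := by
      rw [Subgroup.mem_centralizer_singleton_iff.mp w.2, mul_inv_cancel_right]
    calc v = (w : G) * v * (w : G)⁻¹ := hwv.symm
      _ = y * (y⁻¹ * (w : G) * h * c * (y⁻¹ * (w : G) * h)⁻¹) * y⁻¹ :=
        (show ∀ W : G, W * (h * (c : G) * h⁻¹) * W⁻¹ = y * (y⁻¹ * W * h * c * (y⁻¹ * W * h)⁻¹) * y⁻¹ from fun W => by group) _
      _ = y * c * y⁻¹ := by rw [hfix _ hn]
  have ho : orderOf (c : G) = 2 := by rw [Subgroup.orderOf_coe, hc2]
  have hiso : Cfsg.IsIsolatedInvolution (c : G) := by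
    refine (CfsgLib.Involution.Isolated.isolated_iff_sylow ho (P := S) c.2).mpr fun g hg => ?_
    set c' := g * (c : G) * g⁻¹ with hc'
    have hcc : (c : G) ∈ Subgroup.centralizer ({c'} : Set G) := by
      refine Subgroup.mem_centralizer_singleton_iff.mpr ?_
      have := hcS c' hg
      exact (mul_inv_eq_iff_eq_mul.mp this).symm
    obtain ⟨T, hT⟩ := IsPGroup.exists_le_sylow (p := 2) (P := Subgroup.zpowers (⟨(c : G), hcc⟩ : ↥(Subgroup.centralizer ({c'} : Set G))))
      (IsPGroup.of_card (n := 1) (by rw [Nat.card_zpowers, Subgroup.orderOf_mk, ho, pow_one]))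
    obtain ⟨x, hx⟩ := MulAction.exists_smul_eq (↥(Subgroup.centralizer ({c'} : Set G))) ((g • S).subtype (hcent g)) T
    rw [Sylow.smul_subtype] at hx
    have hxc : (x : G) * c' * (x : G)⁻¹ = c' := by
      rw [Subgroup.mem_centralizer_singleton_iff.mp x.2, mul_inv_cancel_right]
    let T' : Sylow 2 G := ((x : G) * g) • S
    have hcT : (c : G) ∈ (T' : Subgroup G) := by
      have h1 := hT (Subgroup.mem_zpowers _)
      rw [← hx, Sylow.coe_subtype, Subgroup.mem_subgroupOf] at h1
      show _ ∈ ((((x : G) * g) • S : Sylow 2 G) : Subgroup G)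
      rw [mul_smul]
      exact h1
    have hc'T : c' = (x : G) * g * (c : G) * ((x : G) * g)⁻¹ := hxc.symm.trans
      ((show ∀ X : G, X * (g * (c : G) * g⁻¹) * X⁻¹ = X * g * c * (X * g)⁻¹ from fun X => by group) _)
    by_cases hne : S = T'
    · refine hc'T.trans ?_
      exact hfix _ (Sylow.smul_eq_iff_mem_normalizer.mp hne.symm)
    obtain ⟨U, hU⟩ := hCI S T' hne
    obtain ⟨y, hy⟩ := MulAction.exists_smul_eq G S U
    have hz : ∀ v ∈ (S : Subgroup G) ⊓ (T' : Subgroup G), v ∈ Subgroup.centralizer ((U : Subgroup G) : Set G) := by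
      intro v hv
      obtain ⟨u, hu, rfl⟩ := hU hv
      exact Subgroup.mem_centralizer_iff.mpr fun s hs => congrArg Subtype.val (Subgroup.mem_center_iff.mp hu ⟨s, hs⟩)
    have e1 := huniq U y 1 hy (by
      rw [one_mul, inv_one, mul_one]
      exact hz _ ⟨c.2, hcT⟩)
    have e2 := huniq U y g hy (hz _ ⟨hg, (congrArg (· ∈ (T' : Subgroup G)) hc'T).mpr (hmem _)⟩)
    rw [one_mul, inv_one, mul_one] at e1
    exact e2.trans e1.symm
  intro g
  have h := inv_mem (CfsgLib.Involution.ZStar.starCentral G (c : G) hiso g)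
  rw [QuotientGroup.eq]
  have hci : (c : G)⁻¹ = c := CfsgLib.BrauerSuzuki.inv_eq_of_orderOf_two ho
  have e : (g * (c : G) * g⁻¹)⁻¹ * (c : G) = ((c : G) * g * (c : G)⁻¹ * g⁻¹)⁻¹ := by
    simp only [mul_inv_rev, inv_inv, hci, mul_assoc]
  rw [e]
  exact h

end Cfsg.Agent.S3184
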