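import Cfsg.Statements.S3190
import Mathlib

set_option autoImplicit false
open Cfsg

namespace Cfsg.Agent.S3190

open scoped Pointwise in
theorem exists_central_of_normal {P : Type*} [Group P] [Finite P] {p : ℕ} [Fact p.Prime] (hP : IsPGroup p P)
    (B : Subgroup P) [B.Normal] (hB : B ≠ ⊥) : ∃ b ∈ B, b ≠ 1 ∧ b ∈ Subgroup.center P := by
  have hd : p ∣ Nat.card B := by
    obtain ⟨n, hn⟩ := (hP.to_subgroup B).exists_card_eq
    rcases n with _ | n
    · exact absurd (Subgroup.eq_bot_of_card_eq _ (by simpa using hn)) hB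
    · exact ⟨p ^ n, by rw [hn, pow_succ']⟩
  have h1 : (1 : B) ∈ MulAction.fixedPoints (ConjAct P) B := fun g => smul_one g
  obtain ⟨b, hb, hb1⟩ := (hP.of_equiv ConjAct.toConjAct).exists_fixed_point_of_prime_dvd_card_of_fixed_point B hd h1
  refine ⟨b, b.2, fun h => hb1 (Subtype.ext h.symm), Subgroup.mem_center_iff.mpr fun g => ?_⟩
  have h2 : ((ConjAct.toConjAct g • b : B) : P) = b := congrArg Subtype.val (hb _)
  rw [ConjAct.Subgroup.val_conj_smul, ConjAct.toConjAct_smul] at h2
  calc g * b = g * b * g⁻¹ * g := by group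
    _ = b * g := by rw [h2]


/-- Let p be an odd prime and, inside a finite group, let P be a p-subgroup normalized by a Klein four-group T. Let R be a subgroup of P, normal in P and normalized by T, such that P is the product of R with the centralizer of T in P. If T centralizes the centre of P, then T centralizes the centre of R. -/
theorem result {X : Type*} [Group X] [Finite X]
    {p : ℕ} (hp : p.Prime) (hodd : Odd p) (P T R : Subgroup X) (hP : IsPGroup p ↥P) (hT : IsKleinFour ↥T)
    (hTP : T ≤ Subgroup.normalizer (P : Set X)) (hRP : R ≤ P) (hRn : (R.subgroupOf P).Normal)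
    (hTR : T ≤ Subgroup.normalizer (R : Set X)) (hfac : R ⊔ (P ⊓ Subgroup.centralizer (T : Set X)) = P)
    (hZ : T ≤ Subgroup.centralizer (((Subgroup.center ↥P).map P.subtype : Subgroup X) : Set X)) :
    T ≤ Subgroup.centralizer (((Subgroup.center ↥R).map R.subtype : Subgroup X) : Set X) := by
  haveI : Fact p.Prime := ⟨hp⟩
  intro t ht
  rw [Subgroup.mem_centralizer_iff]
  set A := (Subgroup.center ↥R).map R.subtype with hA
  intro a ha
  have hAc : ∀ u ∈ A, ∀ r ∈ R, r * u = u * r := by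
    rintro _ ⟨u, hu, rfl⟩ r hr
    exact congrArg Subtype.val (Subgroup.mem_center_iff.mp hu ⟨r, hr⟩)
  have hAR : A ≤ R := Subgroup.map_subtype_le _
  have ht2 : t * t = 1 := by
    haveI := hT
    simpa [sq] using congrArg Subtype.val (IsKleinFour.mul_self (⟨t, ht⟩ : T))
  have hti : t⁻¹ = t := inv_eq_of_mul_eq_one_right ht2
  have hAconj : ∀ g ∈ Subgroup.normalizer (R : Set X), ∀ u ∈ A, g * u * g⁻¹ ∈ A := by
    intro g hg u hu
    have hgu : g * u * g⁻¹ ∈ R := (Subgroup.mem_normalizer_iff.mp hg u).mp (hAR hu)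
    refine ⟨⟨_, hgu⟩, Subgroup.mem_center_iff.mpr ?_, rfl⟩
    rintro ⟨r, hr⟩
    apply Subtype.ext
    have hr' : g⁻¹ * r * g ∈ R := (Subgroup.mem_normalizer_iff.mp hg _).mpr (by simpa [mul_assoc] using hr)
    have h1 := hAc u hu _ hr'
    show r * (g * u * g⁻¹) = g * u * g⁻¹ * r
    calc r * (g * u * g⁻¹) = g * ((g⁻¹ * r * g) * u) * g⁻¹ := by group
      _ = g * (u * (g⁻¹ * r * g)) * g⁻¹ := by rw [h1]
      _ = g * u * g⁻¹ * r := by group
  let B : Subgroup X :=
    { carrier := {u | u ∈ A ∧ t * u * t⁻¹ = u⁻¹}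
      one_mem' := ⟨one_mem _, by simp⟩
      mul_mem' := by
        rintro u v ⟨hu, hu'⟩ ⟨hv, hv'⟩
        refine ⟨mul_mem hu hv, ?_⟩
        calc t * (u * v) * t⁻¹ = (t * u * t⁻¹) * (t * v * t⁻¹) := by group
          _ = u⁻¹ * v⁻¹ := by rw [hu', hv']
          _ = (v * u)⁻¹ := by group
          _ = (u * v)⁻¹ := by rw [hAc u hu v (hAR hv)]
      inv_mem' := by
        rintro u ⟨hu, hu'⟩
        refine ⟨inv_mem hu, ?_⟩
        calc t * u⁻¹ * t⁻¹ = (t * u * t⁻¹)⁻¹ := by group
          _ = u⁻¹⁻¹ := by rw [hu'] }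
  have hBbot : B = ⊥ := by
    by_contra hB
    have hBP : B ≤ P := fun u hu => hRP (hAR hu.1)
    have hPN : P ≤ Subgroup.normalizer (B : Set X) := by
      rw [← hfac]
      refine sup_le ?_ ?_
      · intro r hr
        rw [Subgroup.mem_normalizer_iff]
        intro u
        constructor
        · intro hu
          have : r * u * r⁻¹ = u := by rw [hAc u hu.1 r hr]; group
          rwa [this]
        · intro hu
          have : r * u * r⁻¹ = u := by
            have h2 := hAc _ hu.1 r hr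
            calc r * u * r⁻¹ = r⁻¹ * (r * (r * u * r⁻¹)) := by group
              _ = r⁻¹ * ((r * u * r⁻¹) * r) := by rw [h2]
              _ = u := by group
          rwa [← this]
      · rintro c ⟨hcP, hcT⟩
        have hct : t * c = c * t := Subgroup.mem_centralizer_iff.mp hcT t ht
        have hcR : c ∈ Subgroup.normalizer (R : Set X) := ((Subgroup.normal_subgroupOf_iff_le_normalizer hRP).mp hRn) hcP
        rw [Subgroup.mem_normalizer_iff]
        intro u
        have hct' : c * t = t * c := hct.symm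
        have e : ∀ v, t * (c * v * c⁻¹) * t⁻¹ = c * (t * v * t⁻¹) * c⁻¹ := by
          intro v
          calc t * (c * v * c⁻¹) * t⁻¹ = (t * c) * v * (t * c)⁻¹ := by group
            _ = (c * t) * v * (c * t)⁻¹ := by rw [hct]
            _ = c * (t * v * t⁻¹) * c⁻¹ := by group
        constructor
        · rintro ⟨hu, hu'⟩
          exact ⟨hAconj c hcR u hu, by rw [e, hu']; group⟩
        · rintro ⟨hu, hu'⟩
          refine ⟨by simpa [mul_assoc] using hAconj c⁻¹ (inv_mem hcR) _ hu, ?_⟩
          rw [e] at hu'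
          have := congrArg (fun v => c⁻¹ * v * c) hu'
          simpa [mul_assoc] using this
    haveI : (B.subgroupOf P).Normal := (Subgroup.normal_subgroupOf_iff_le_normalizer hBP).mpr hPN
    have hB' : B.subgroupOf P ≠ ⊥ := by
      rw [Ne, Subgroup.subgroupOf_eq_bot, disjoint_iff, inf_of_le_left hBP]; exact hB
    obtain ⟨b, hb, hb1, hbc⟩ := exists_central_of_normal hP _ hB'
    have h1 := Subgroup.mem_centralizer_iff.mp (hZ ht) b ⟨b, hbc, rfl⟩
    have h2 : t * (b : X) * t⁻¹ = (b : X)⁻¹ := hb.2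
    rw [← h1] at h2
    have h3 : (b : X) * b = 1 := by
      have : (b : X) = (b : X)⁻¹ := by simpa [mul_assoc] using h2
      nth_rewrite 2 [this]; simp
    have hd : orderOf b ∣ 2 := orderOf_dvd_of_pow_eq_one (by rw [sq]; exact Subtype.ext h3)
    obtain ⟨k, hk⟩ := hP b
    have hd' : orderOf b ∣ p ^ k := orderOf_dvd_of_pow_eq_one hk
    have hcop : Nat.Coprime (p ^ k) 2 := Nat.Coprime.pow_left _ (Nat.coprime_two_right.mpr hodd)
    exact hb1 (orderOf_eq_one_iff.mp (Nat.eq_one_of_dvd_coprimes hcop hd' hd))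
  have hta : a⁻¹ * (t * a * t⁻¹) ∈ B := by
    have h1 : t * a * t⁻¹ ∈ A := hAconj t (hTR ht) a ha
    refine ⟨mul_mem (inv_mem ha) h1, ?_⟩
    have h2 := hAc _ h1 _ (hAR (inv_mem ha))
    have htt : t * t = 1 := ht2
    calc t * (a⁻¹ * (t * a * t⁻¹)) * t⁻¹ = (t * a * t⁻¹)⁻¹ * ((t * t) * a * (t * t)⁻¹) := by group
      _ = (a⁻¹ * (t * a * t⁻¹))⁻¹ := by rw [htt]; group
  rw [hBbot, Subgroup.mem_bot, inv_mul_eq_one] at hta
  conv_lhs => rw [hta]
  group

end Cfsg.Agent.S3190
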