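import Cfsg.Statements.S3191
import Cfsg.Agent.Lib.Involution.AltCentClasses.Alternating
import Cfsg.Agent.Lib.Involution.AltCentClasses.Count

set_option autoImplicit false
open Cfsg

namespace Cfsg.Agent.S3191

/-- Let n ≥ 1 and r = 2 or 3, and let H be the centralizer in the alternating group of degree 4n + r of an involution moving exactly 4n points (a product of 2n disjoint transpositions). Let G be a finite group that has no normal subgroup of index 2 and that contains an involution t which is central in some Sylow 2-subgroup of G and whose centralizer is isomorphic to H. Then G has exactly n conjugacy classes of involutions. -/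
theorem result (n r : ℕ) (hn : 1 ≤ n) (hr : r = 2 ∨ r = 3)
    (α : ↥(alternatingGroup (Fin (4 * n + r)))) (hα : orderOf α = 2)
    (hα4 : (α : Equiv.Perm (Fin (4 * n + r))).support.card = 4 * n)
    {G : Type*} [Group G] [Finite G] (h2 : ∀ H : Subgroup G, H.Normal → H.index ≠ 2)
    (t : G) (ht : orderOf t = 2) (S : Sylow 2 G) (htS : t ∈ (S : Subgroup G))
    (htZ : ∀ s ∈ (S : Subgroup G), s * t = t * s)
    (hiso : Nonempty (↥(Subgroup.centralizer ({t} : Set G)) ≃*
      ↥(Subgroup.centralizer ({α} : Set ↥(alternatingGroup (Fin (4 * n + r))))))) :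
    Nat.card {c : ConjClasses G // ∃ x ∈ c.carrier, orderOf x = 2} = n := by
  open CfsgLib.Involution.AltCentClasses in
  (obtain ⟨φ, π, hφ, hπ, hodd, hinv⟩ := exists_data n r hr α hα hα4
   obtain ⟨e⟩ := hiso
   haveI : Nonempty (Fin (2 * n)) := ⟨⟨0, by omega⟩⟩
   have hcent : ∀ y, Commute (φ (SP.neg _)) y := fun y => Subtype.ext (by
     simp only [Subgroup.coe_mul, hφ]
     exact (Subgroup.mem_centralizer_singleton_iff.1 y.2).symm)
   obtain ⟨D, -⟩ := Setup.exists_of_iso (G := G) φ π hπ hodd hinv hcent
     (by rw [Fintype.card_fin]; exact even_two_mul n) (t := t)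
     (fun h => by rw [h, orderOf_one] at ht; omega) e
     ⟨S, fun s hs => Subgroup.mem_centralizer_singleton_iff.2 (htZ s hs)⟩ h2
   exact D.count (Fintype.card_fin _))

end Cfsg.Agent.S3191
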