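import Cfsg.Statements.S3195
import Mathlib
import Cfsg.Agent.Lib.Involution.BaerSuzuki
import Cfsg.Agent.Lib.Solvable.Cores

set_option autoImplicit false
open Cfsg

namespace Cfsg.Agent.S3195

section
variable {G : Type*} [Group G]

/-- An element inverted by an involution and centralised by another element. -/
def Good (A : Subgroup G) (p : G) : Prop :=
  ∃ h : G, h ≠ 1 ∧ Odd (orderOf h) ∧ Commute p h ∧ ∀ t ∈ A, t ≠ 1 → t ≠ p → t * h * t⁻¹ = h⁻¹

theorem pow_two_generates [Finite G] {h : G} (ho : Odd (orderOf h)) : ∃ m : ℕ, (h * h) ^ m = h := by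
  obtain ⟨j, hj⟩ := ho
  refine ⟨j + 1, ?_⟩
  rw [← sq, ← pow_mul, show 2 * (j + 1) = orderOf h + 1 by omega, pow_succ, pow_orderOf_eq_one, one_mul]

theorem eq_one_of_sq [Finite G] {h : G} (ho : Odd (orderOf h)) (h2 : h * h = 1) : h = 1 := by
  obtain ⟨m, hm⟩ := pow_two_generates ho
  rw [h2, one_pow] at hm; exact hm.symm

/-- An element of odd order cannot invert an element whose square is nontrivial. -/
theorem no_odd_inversion [Finite G] {X Y : G} (hX : Odd (orderOf X)) (hY : Y * Y ≠ 1) (h : Y * X * Y = X) : False := by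
  have h1 : X⁻¹ * Y * X = Y⁻¹ := by
    calc X⁻¹ * Y * X = X⁻¹ * (Y * X * Y) * Y⁻¹ := by group
      _ = Y⁻¹ := by rw [h]; group
  have h2 : (X * X)⁻¹ * Y * (X * X) = Y := by
    calc (X * X)⁻¹ * Y * (X * X) = X⁻¹ * (X⁻¹ * Y * X) * X := by group
      _ = X⁻¹ * Y⁻¹ * X := by rw [h1]
      _ = (X⁻¹ * Y * X)⁻¹ := by group
      _ = Y := by rw [h1, inv_inv]
  have hc : Commute (X * X) Y := by
    show X * X * Y = Y * (X * X)
    conv_lhs => rw [← h2]
    group
  obtain ⟨m, hm⟩ := pow_two_generates hX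
  have hc' : Commute X Y := by have := hc.pow_left m; rwa [hm] at this
  apply hY
  have : X⁻¹ * Y * X = Y := by rw [mul_assoc, ← hc'.eq]; group
  rw [this] at h1
  exact mul_eq_one_iff_eq_inv.mpr h1

theorem good_pair_false [Finite G] {A : Subgroup G} {p q r : G} (hsq : ∀ a ∈ A, a * a = 1)
    (hp : p ∈ A) (hq : q ∈ A) (hr : r ∈ A) (hp1 : p ≠ 1) (hq1 : q ≠ 1) (hr1 : r ≠ 1)
    (hpq : p ≠ q) (hpr : p ≠ r) (hqr : q ≠ r)
    (hall : ∀ t ∈ A, t ≠ 1 → t = p ∨ t = q ∨ t = r)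
    (h : ∀ g : G, ∃ t ∈ A, t ≠ 1 ∧ Commute t (g * r * g⁻¹))
    (gp : Good A p) (gq : Good A q) : False := by
  obtain ⟨x, hx1, hxo, hpx, hxinv⟩ := gp
  obtain ⟨y, hy1, hyo, hqy, hyinv⟩ := gq
  have hqx : q * x * q⁻¹ = x⁻¹ := hxinv q hq hq1 hpq.symm
  have hrx : r * x * r⁻¹ = x⁻¹ := hxinv r hr hr1 hpr.symm
  have hpy : p * y * p⁻¹ = y⁻¹ := hyinv p hp hp1 hpq
  have hry : r * y * r⁻¹ = y⁻¹ := hyinv r hr hr1 hqr.symm
  have hpx' : p * x * p⁻¹ = x := by rw [hpx.eq]; group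
  have hqy' : q * y * q⁻¹ = y := by rw [hqy.eq]; group
  have fix : ∀ s ∈ A, ∀ t ∈ A, s * t * s⁻¹ = t := by
    intro s hs t ht
    have e : ∀ k ∈ A, k⁻¹ = k := fun k hk => inv_eq_of_mul_eq_one_right (hsq k hk)
    have h1 := e _ (mul_mem hs ht)
    rw [mul_inv_rev, e s hs, e t ht] at h1
    rw [← h1]; group
  set X := x * x with hX
  have hX1 : X ≠ 1 := fun e => hx1 (eq_one_of_sq hxo e)
  have hXo : Odd (orderOf X) := by
    rw [hX, ← sq, (Nat.Coprime.orderOf_pow (Nat.coprime_two_right.mpr hxo))]; exact hxo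
  have key : ∀ y : G, p * y * p⁻¹ = y⁻¹ → q * y * q⁻¹ = y → r * y * r⁻¹ = y⁻¹ →
      (y * y) * X * (y * y) = X ∨ (y * X * y) * (y * X * y) = 1 := by
    intro y hpy hqy hry
    have hu : (x * y)⁻¹ * r * (x * y) = r * (y * X * y) := by
      calc (x * y)⁻¹ * r * (x * y) = y⁻¹ * x⁻¹ * r * x * y := by group
        _ = (r * y * r⁻¹) * (r * x * r⁻¹) * r * x * y := by rw [hry, hrx]
        _ = r * (y * (x * x) * y) := by group
        _ = r * (y * X * y) := by rw [hX]
    obtain ⟨t, htA, ht1, htc⟩ := h ((x * y)⁻¹)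
    rw [inv_inv, hu] at htc
    have htc' : (t * r * t⁻¹) * ((t * y * t⁻¹) * ((t * x * t⁻¹) * (t * x * t⁻¹)) * (t * y * t⁻¹)) = r * (y * X * y) := by
      have h2 : t * (r * (y * X * y)) * t⁻¹ = r * (y * X * y) := by rw [htc.eq]; group
      rw [← h2, hX]; group
    rw [fix t htA r hr] at htc'
    have h3 := mul_left_cancel htc'
    rcases hall t htA ht1 with e | e | e
    · left
      rw [e, hpy, hpx', ← hX] at h3
      calc (y * y) * X * (y * y) = y * (y * X * y) * y := by group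
        _ = y * (y⁻¹ * X * y⁻¹) * y := by rw [h3]
        _ = X := by group
    · exfalso
      rw [e, hqy, hqx] at h3
      have h4 : x⁻¹ * x⁻¹ = X := mul_left_cancel (a := y) (mul_right_cancel h3)
      refine hX1 (eq_one_of_sq hXo ?_)
      conv_lhs => arg 1; rw [← h4]
      rw [hX]; group
    · right
      rw [e, hry, hrx] at h3
      conv_lhs => arg 1; rw [← h3]
      rw [hX]; group
  have hYne : ∀ z : G, Odd (orderOf z) → z ≠ 1 → (z * z) * (z * z) ≠ 1 := by
    intro z hz hz1 e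
    exact hz1 (eq_one_of_sq hz (eq_one_of_sq (by rw [← sq, Nat.Coprime.orderOf_pow (Nat.coprime_two_right.mpr hz)]; exact hz) e))
  rcases key y hpy hqy' hry with h1 | h1
  · exact no_odd_inversion hXo (hYne y hyo hy1) h1
  have hpy' : p * y⁻¹ * p⁻¹ = y⁻¹⁻¹ := by rw [← conj_inv, hpy]
  have hqy'' : q * y⁻¹ * q⁻¹ = y⁻¹ := by rw [← conj_inv, hqy']
  have hry' : r * y⁻¹ * r⁻¹ = y⁻¹⁻¹ := by rw [← conj_inv, hry]
  rcases key y⁻¹ hpy' hqy'' hry' with h2 | h2
  · exact no_odd_inversion hXo (hYne y⁻¹ (by rwa [orderOf_inv]) (inv_ne_one.mpr hy1)) h2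
  · -- combine the two involutory relations
    have e1 : X * (y * y) * X = (y * y)⁻¹ := by
      calc X * (y * y) * X = y⁻¹ * ((y * X * y) * (y * X * y)) * y⁻¹ := by group
        _ = (y * y)⁻¹ := by rw [h1]; group
    have e2 : X * (y * y)⁻¹ * X = y * y := by
      calc X * (y * y)⁻¹ * X = y * ((y⁻¹ * X * y⁻¹) * (y⁻¹ * X * y⁻¹)) * y := by group
        _ = y * y := by rw [h2]; group
    set Y := y * y with hY
    have hY2 : Y * Y * X * (Y * Y) = X := by
      have e3 : Y * X * Y = X⁻¹ := by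
        calc Y * X * Y = Y * (X * Y * X) * X⁻¹ := by group
          _ = X⁻¹ := by rw [e1]; group
      have e4 : Y⁻¹ * X * Y⁻¹ = X⁻¹ := by
        calc Y⁻¹ * X * Y⁻¹ = Y⁻¹ * (X * Y⁻¹ * X) * X⁻¹ := by group
          _ = X⁻¹ := by rw [e2]; group
      calc Y * Y * X * (Y * Y) = Y * (Y * X * Y) * Y := by group
        _ = Y * (Y⁻¹ * X * Y⁻¹) * Y := by rw [e3, e4]
        _ = X := by group
    refine no_odd_inversion hXo ?_ hY2
    intro e
    have hYo : Odd (orderOf Y) := by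
      rw [hY, ← sq, Nat.Coprime.orderOf_pow (Nat.coprime_two_right.mpr hyo)]; exact hyo
    exact hYne y hyo hy1 (eq_one_of_sq (by rw [← sq, Nat.Coprime.orderOf_pow (Nat.coprime_two_right.mpr hYo)]; exact hYo) e)

end


/-- Let A be a Klein four-subgroup of a finite group G. If every G-conjugate of every involution of A commutes with some involution of A (its centralizer meets A nontrivially), then A meets the largest normal 2-subgroup O₂(G) nontrivially. -/
theorem result {G : Type*} [Group G] [Finite G]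
    (A : Subgroup G) (hA : IsKleinFour ↥A)
    (h : ∀ a ∈ A, a ≠ 1 → ∀ g : G, A ⊓ Subgroup.centralizer ({g * a * g⁻¹} : Set G) ≠ ⊥) :
    A ⊓ Cfsg.pCore 2 G ≠ ⊥ := by
  haveI := hA
  intro hbot
  have hsq : ∀ a ∈ A, a * a = 1 := fun a ha => congrArg Subtype.val (IsKleinFour.mul_self (⟨a, ha⟩ : A))
  have hord : ∀ a ∈ A, a ≠ 1 → orderOf a = 2 := fun a ha ha1 => orderOf_eq_prime (by rw [sq]; exact hsq a ha) ha1
  have hthree : ∀ a ∈ A, ∀ b ∈ A, a ≠ 1 → b ≠ 1 → a ≠ b → ∀ t ∈ A, t ≠ 1 → t = a ∨ t = b ∨ t = a * b := by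
    intro a ha b hb ha1 hb1 hab t ht ht1
    by_contra! hc
    have hh := IsKleinFour.eq_mul_of_ne_all (G := A) (x := ⟨a, ha⟩) (y := ⟨b, hb⟩) (z := ⟨t, ht⟩)
      (fun e => ha1 (congrArg Subtype.val e)) (fun e => hb1 (congrArg Subtype.val e))
      (fun e => hab (congrArg Subtype.val e)) (fun e => ht1 (congrArg Subtype.val e))
      (fun e => hc.1 (congrArg Subtype.val e)) (fun e => hc.2.1 (congrArg Subtype.val e))
    exact hc.2.2 (congrArg Subtype.val hh)
  have hcomm : ∀ a ∈ A, a ≠ 1 → ∀ g : G, ∃ t ∈ A, t ≠ 1 ∧ Commute t (g * a * g⁻¹) := by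
    intro a ha ha1 g
    obtain ⟨⟨t, ht⟩, ht1⟩ := Subgroup.ne_bot_iff_exists_ne_one.mp (h a ha ha1 g)
    exact ⟨t, ht.1, fun e => ht1 (Subtype.ext e), Subgroup.mem_centralizer_singleton_iff.mp ht.2⟩
  have hgood : ∀ a ∈ A, a ≠ 1 → ∃ p ∈ A, p ≠ 1 ∧ p ≠ a ∧ Good A p := by
    intro a ha ha1
    have ho : ∀ N : Subgroup G, N.Normal → IsPGroup 2 N → a ∉ N := fun N hN h2 haN => by
      have : a ∈ A ⊓ Cfsg.pCore 2 G := ⟨ha, le_sSup (show N ∈ {N : Subgroup G | N.Normal ∧ IsPGroup 2 N} from ⟨hN, h2⟩) haN⟩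
      rw [hbot, Subgroup.mem_bot] at this
      exact ha1 this
    obtain ⟨y, hy1, hyo, hya⟩ := CfsgLib.Involution.BaerSuzuki.exists_inverted_odd a (hord a ha ha1) ho
    have hy2 : y * y ≠ 1 := fun e => hy1 (eq_one_of_sq hyo e)
    obtain ⟨t, htA, ht1, htc⟩ := hcomm a ha ha1 y
    have e : y * a * y⁻¹ = (y * y) * a := by
      calc y * a * y⁻¹ = y * (a * y * a⁻¹)⁻¹ * a := by group
        _ = (y * y) * a := by rw [hya, inv_inv]
    rw [e] at htc
    have hta : t ≠ a := by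
      intro e'
      rw [e'] at htc
      have h1 : a * (y * y) * a⁻¹ = y * y := by
        calc a * (y * y) * a⁻¹ = a * (y * y * a) * a⁻¹ * a⁻¹ := by group
          _ = (y * y * a) * a * a⁻¹ * a⁻¹ := by rw [htc.eq]
          _ = y * y := by group
      have h2 : a * (y * y) * a⁻¹ = (y * y)⁻¹ := by
        calc a * (y * y) * a⁻¹ = (a * y * a⁻¹) * (a * y * a⁻¹) := by group
          _ = (y * y)⁻¹ := by rw [hya]; group
      refine hy2 (eq_one_of_sq ?_ (mul_eq_one_iff_eq_inv.mpr (h1.symm.trans h2)))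
      rw [← sq, Nat.Coprime.orderOf_pow (Nat.coprime_two_right.mpr hyo)]; exact hyo
    have hta2 : Commute t a := by
      have h2 := hsq _ (mul_mem htA ha)
      show t * a = a * t
      rw [← inv_eq_of_mul_eq_one_right h2, mul_inv_rev, inv_eq_of_mul_eq_one_right (hsq t htA),
        inv_eq_of_mul_eq_one_right (hsq a ha)]
    have htyy : Commute t (y * y) := by
      have := htc.mul_right hta2.inv_right
      rwa [mul_inv_cancel_right] at this
    have hty : Commute t y := by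
      obtain ⟨m, hm⟩ := pow_two_generates hyo
      have := htyy.pow_right m; rwa [hm] at this
    refine ⟨t, htA, ht1, hta, y, hy1, hyo, hty, fun s hs hs1 hst => ?_⟩
    rcases hthree a ha t htA ha1 ht1 hta.symm s hs hs1 with e' | e' | e'
    · rw [e', hya]
    · exact absurd e' hst
    · rw [e']
      calc a * t * y * (a * t)⁻¹ = a * (t * y * t⁻¹) * a⁻¹ := by group
        _ = y⁻¹ := by rw [hty.eq, mul_inv_cancel_right, hya]
  haveI : Nontrivial A := Finite.one_lt_card_iff_nontrivial.mp (by rw [IsKleinFour.card_four]; norm_num)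
  obtain ⟨a, ha⟩ := exists_ne (1 : A)
  obtain ⟨p, hp, hp1, -, gp⟩ := hgood a a.2 (fun e => ha (Subtype.ext e))
  obtain ⟨q, hq, hq1, hqp, gq⟩ := hgood p hp hp1
  have hr1 : p * q ≠ 1 := fun e => hqp (by
    rw [← inv_eq_of_mul_eq_one_right e, inv_eq_of_mul_eq_one_right (hsq p hp)])
  refine good_pair_false hsq hp hq (mul_mem hp hq) hp1 hq1 hr1 hqp.symm ?_ ?_
    (hthree p hp q hq hp1 hq1 hqp.symm) (hcomm _ (mul_mem hp hq) hr1) gp gq
  · intro e; exact hq1 (by simpa using e.symm)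
  · intro e; exact hp1 (by simpa using e.symm)

end Cfsg.Agent.S3195
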