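import Cfsg.Statements.S3196
import Mathlib

set_option autoImplicit false
open Cfsg

namespace Cfsg.Agent.S3196

section
variable {G : Type*} [Group G]

/-- Elementwise commuting subgroups. -/
def Perp (X Y : Subgroup G) : Prop := ∀ x ∈ X, ∀ y ∈ Y, x * y = y * x

theorem Perp.symm {X Y : Subgroup G} (h : Perp X Y) : Perp Y X := fun y hy x hx => (h x hx y hy).symm

theorem perp_sup {X Y Z : Subgroup G} (hX : Perp X Z) (hY : Perp Y Z) : Perp (X ⊔ Y) Z := by
  have hle : X ⊔ Y ≤ Subgroup.centralizer (Z : Set G) := by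
    refine sup_le (fun x hx => ?_) (fun y hy => ?_)
    · exact Subgroup.mem_centralizer_iff.mpr fun z hz => (hX x hx z hz).symm
    · exact Subgroup.mem_centralizer_iff.mpr fun z hz => (hY y hy z hz).symm
  exact fun u hu z hz => (Subgroup.mem_centralizer_iff.mp (hle hu) z hz).symm

theorem Perp.mono {X X' Z : Subgroup G} (h : Perp X Z) (hle : X' ≤ X) : Perp X' Z :=
  fun x hx => h x (hle hx)

theorem perp_refl [Finite G] {p : ℕ} [Fact p.Prime] {X : Subgroup G} (hX : Nat.card X = p) : Perp X X := by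
  haveI : IsCyclic X := isCyclic_of_prime_card hX
  exact fun x hx y hy => setLike_mul_comm hx hy

theorem eq_zpowers_of_prime [Finite G] {p : ℕ} [Fact p.Prime] {X : Subgroup G} (hX : Nat.card X = p)
    {x : G} (hx : x ∈ X) (h1 : x ≠ 1) : Subgroup.zpowers x = X := by
  refine Subgroup.eq_of_le_of_card_ge (Subgroup.zpowers_le.mpr hx) ?_
  rw [hX]
  have hd : Nat.card (Subgroup.zpowers x) ∣ p := hX ▸ Subgroup.card_dvd_of_le (Subgroup.zpowers_le.mpr hx)
  rcases ((Fact.out : p.Prime)).eq_one_or_self_of_dvd _ hd with h | h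
  · exact absurd (Subgroup.eq_bot_of_card_eq _ h) (by simpa using h1)
  · exact h.ge

theorem exists_mul_of_mem_sup {X Y : Subgroup G} (h : Perp X Y) {u : G} (hu : u ∈ X ⊔ Y) :
    ∃ x ∈ X, ∃ y ∈ Y, u = x * y := by
  have hYN : Y ≤ Subgroup.normalizer (X : Set G) := by
    intro y hy
    rw [Subgroup.mem_normalizer_iff]
    intro a
    constructor
    · intro ha; rw [← h a ha y hy, mul_inv_cancel_right]; exact ha
    · intro ha
      have := h _ ha y⁻¹ (inv_mem hy)
      have e : a = y⁻¹ * (y * a * y⁻¹) * y := by group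
      rw [e, ← this, inv_mul_cancel_right]; exact ha
  rw [← SetLike.mem_coe, Subgroup.coe_mul_of_right_le_normalizer_left _ _ hYN] at hu
  obtain ⟨x, hx, y, hy, rfl⟩ := hu
  exact ⟨x, hx, y, hy, rfl⟩

theorem exists_point [Finite G] {p : ℕ} [Fact p.Prime] {X Y W : Subgroup G} (hX : Nat.card X = p) (hY : Nat.card Y = p)
    (hXY : Perp X Y) (h : (X ⊔ Y) ⊓ Subgroup.centralizer (W : Set G) ≠ ⊥) :
    ∃ P : Subgroup G, P ≤ X ⊔ Y ∧ Nat.card P = p ∧ Perp P W := by
  obtain ⟨⟨u, hu, huW⟩, hu1⟩ := Subgroup.ne_bot_iff_exists_ne_one.mp h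
  have hu1' : u ≠ 1 := fun e => hu1 (Subtype.ext e)
  refine ⟨Subgroup.zpowers u, Subgroup.zpowers_le.mpr hu, ?_, ?_⟩
  · rw [Nat.card_zpowers]
    obtain ⟨x, hx, y, hy, rfl⟩ := exists_mul_of_mem_sup hXY hu
    refine orderOf_eq_prime ?_ hu1'
    rw [(show Commute x y from hXY x hx y hy).mul_pow]
    have h1 : x ^ p = 1 := by
      have := congrArg Subtype.val (pow_card_eq_one' (G := X) (x := ⟨x, hx⟩)); rw [hX] at this; exact this
    have h2 : y ^ p = 1 := by
      have := congrArg Subtype.val (pow_card_eq_one' (G := Y) (x := ⟨y, hy⟩)); rw [hY] at this; exact this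
    rw [h1, h2, one_mul]
  · intro v hv w hw
    exact ((Subgroup.mem_centralizer_iff.mp
      ((Subgroup.zpowers_le.mpr huW : Subgroup.zpowers u ≤ Subgroup.centralizer (W : Set G)) hv)) w hw).symm

theorem le_sup_point [Finite G] {p : ℕ} [Fact p.Prime] {V R P : Subgroup G} (hV : Nat.card V = p) (hR : Nat.card R = p)
    (hP : Nat.card P = p) (hVR : Perp V R) (hle : P ≤ V ⊔ R) (hne : P ≠ V) : R ≤ V ⊔ P := by
  haveI : Nontrivial P := Finite.one_lt_card_iff_nontrivial.mp (hP ▸ (Fact.out : p.Prime).one_lt)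
  obtain ⟨⟨π, hπ⟩, hπ1⟩ := exists_ne (1 : P)
  obtain ⟨v, hv, r, hr, e⟩ := exists_mul_of_mem_sup hVR (hle hπ)
  have hr1 : r ≠ 1 := by
    rintro rfl
    rw [mul_one] at e
    have hπ1' : π ≠ 1 := fun h => hπ1 (Subtype.ext h)
    exact hne ((eq_zpowers_of_prime hP hπ hπ1').symm.trans (eq_zpowers_of_prime hV (e ▸ hv) hπ1'))
  rw [← eq_zpowers_of_prime hR hr hr1, Subgroup.zpowers_le]
  have : r = v⁻¹ * π := by rw [e, inv_mul_cancel_left]
  rw [this]
  exact mul_mem (Subgroup.mem_sup_left (inv_mem hv)) (Subgroup.mem_sup_right hπ)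

end


/-- Let p be a prime and K a set of subgroups of order p of a finite group G, closed under conjugation, such that at least two distinct members of K commute elementwise, and whenever two distinct members X, Y of K commute: every subgroup of order p of the group XY they generate belongs to K, and every member W of K has centralizer meeting XY nontrivially. Then some member V of K commutes elementwise with every member of K and lies in O_p(G); in particular G is not simple. -/
theorem result {G : Type*} [Group G] [Finite G]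
    {p : ℕ} (hp : p.Prime) (K : Set (Subgroup G)) (hK : ∀ X ∈ K, Nat.card ↥X = p)
    (hKc : ∀ X ∈ K, ∀ g : G, X.map (MulAut.conj g).toMonoidHom ∈ K)
    (hex : ∃ X ∈ K, ∃ Y ∈ K, X ≠ Y ∧ ∀ x ∈ X, ∀ y ∈ Y, x * y = y * x)
    (ha : ∀ X ∈ K, ∀ Y ∈ K, X ≠ Y → (∀ x ∈ X, ∀ y ∈ Y, x * y = y * x) →
      ∀ Z : Subgroup G, Z ≤ X ⊔ Y → Nat.card ↥Z = p → Z ∈ K)
    (hb : ∀ X ∈ K, ∀ Y ∈ K, X ≠ Y → (∀ x ∈ X, ∀ y ∈ Y, x * y = y * x) →
      ∀ W ∈ K, (X ⊔ Y) ⊓ Subgroup.centralizer (W : Set G) ≠ ⊥) :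
    (∃ V ∈ K, (∀ W ∈ K, ∀ v ∈ V, ∀ w ∈ W, v * w = w * v) ∧ V ≤ Cfsg.pCore p G) ∧ ¬ IsSimpleGroup G := by
  haveI : Fact p.Prime := ⟨hp⟩
  classical
  -- every member has a neighbour
  have hnb : ∀ W ∈ K, ∃ Y ∈ K, Y ≠ W ∧ Perp W Y := by
    intro W hW
    obtain ⟨X, hX, Y, hY, hne, hXY⟩ := hex
    obtain ⟨P, hle, hP, hPW⟩ := exists_point (hK X hX) (hK Y hY) hXY (hb X hX Y hY hne hXY W hW)
    by_cases hPW' : P = W
    · have hWXY : W ≤ X ⊔ Y := hPW' ▸ hle
      have hperp : ∀ Z ∈ K, (Z = X ∨ Z = Y) → Perp W Z := by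
        rintro Z - (rfl | rfl)
        · exact (perp_sup (perp_refl (hK Z hX)) (show Perp Z Y from hXY).symm).mono hWXY
        · exact (perp_sup (show Perp X Z from hXY) (perp_refl (hK Z hY))).mono hWXY
      by_cases hXW : X = W
      · exact ⟨Y, hY, hXW ▸ hne.symm, hperp Y hY (Or.inr rfl)⟩
      · exact ⟨X, hX, hXW, hperp X hX (Or.inl rfl)⟩
    · exact ⟨P, ha X hX Y hY hne hXY P hle hP, hPW', hPW.symm⟩
  let perp : Subgroup G → Set (Subgroup G) := fun W => {Z | Z ∈ K ∧ Perp W Z}
  obtain ⟨V, hV, hmax⟩ : ∃ V ∈ K, ∀ W ∈ K, perp V ⊆ perp W → perp W ⊆ perp V := by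
    haveI : Finite (Subgroup G) := inferInstance
    obtain ⟨X, hX, -⟩ := hex
    obtain ⟨V, hV, hm⟩ := (K.toFinite).exists_maximalFor perp K ⟨X, hX⟩
    exact ⟨V, hV, fun W hW h => hm hW h⟩
  have hVall : ∀ W ∈ K, Perp V W := by
    intro X hX
    by_contra hVX
    -- a point Z on a line through X centralised by V
    obtain ⟨Y₀, hY₀, hY₀X, hXY₀⟩ := hnb X hX
    obtain ⟨Z, hZle, hZp, hZV⟩ := exists_point (hK X hX) (hK Y₀ hY₀) hXY₀ (hb X hX Y₀ hY₀ hY₀X.symm hXY₀ V hV)
    have hZK : Z ∈ K := ha X hX Y₀ hY₀ hY₀X.symm hXY₀ Z hZle hZp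
    have hXZ : Perp X Z := ((perp_sup (perp_refl (hK X hX)) hXY₀.symm).mono hZle).symm
    have hZX : Z ≠ X := fun h => hVX (h ▸ hZV).symm
    haveI : Nontrivial X := Finite.one_lt_card_iff_nontrivial.mp (hK X hX ▸ hp.one_lt)
    obtain ⟨⟨x, hx⟩, hx1⟩ := exists_ne (1 : X)
    have hx1' : x ≠ 1 := fun h => hx1 (Subtype.ext h)
    have hXx : Subgroup.zpowers x = X := eq_zpowers_of_prime (hK X hX) hx hx1'
    set V' := V.map (MulAut.conj x).toMonoidHom with hV'
    have hV'K : V' ∈ K := hKc V hV x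
    have hV'ne : V' ≠ V := by
      intro he
      apply hVX
      have hxN : x ∈ Subgroup.normalizer (V : Set G) := Subgroup.mem_normalizer_iff_map_conj_eq.mpr he
      have hXN : X ≤ Subgroup.normalizer (V : Set G) := hXx ▸ Subgroup.zpowers_le.mpr hxN
      have hsup : IsPGroup p ↥(X ⊔ V) :=
        (IsPGroup.of_card (n := 1) (by rw [hK X hX, pow_one])).to_sup_of_normal_right'
          (IsPGroup.of_card (n := 1) (by rw [hK V hV, pow_one])) hXN
      have hdisj : X ⊓ V = ⊥ := by
        by_contra hne'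
        obtain ⟨⟨a, haX, haV⟩, ha1⟩ := Subgroup.ne_bot_iff_exists_ne_one.mp hne'
        have ha1' : a ≠ 1 := fun h => ha1 (Subtype.ext h)
        have e : X = V := (eq_zpowers_of_prime (hK X hX) haX ha1').symm.trans (eq_zpowers_of_prime (hK V hV) haV ha1')
        exact hVX (by rw [e]; exact perp_refl (hK V hV))
      -- a group of order p^2 is abelian
      have hcard : Nat.card ↥(X ⊔ V) = p ^ 2 := by
        have h1 := Subgroup.coe_mul_of_left_le_normalizer_right _ _ hXN
        have hinj : Function.Injective (fun q : X × V => (q.1 : G) * q.2) := by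
          rintro ⟨⟨a, hA⟩, ⟨b, hB⟩⟩ ⟨⟨a', hA'⟩, ⟨b', hB'⟩⟩ hq
          have hq' : a * b = a' * b' := hq
          have hmem : a'⁻¹ * a ∈ X ⊓ V := ⟨X.mul_mem (X.inv_mem hA') hA, by
            have : a'⁻¹ * a = b' * b⁻¹ := by
              rw [eq_mul_inv_iff_mul_eq, mul_assoc, hq', inv_mul_cancel_left]
            rw [this]; exact V.mul_mem hB' (V.inv_mem hB)⟩
          rw [hdisj, Subgroup.mem_bot, inv_mul_eq_one] at hmem
          subst hmem
          have := mul_left_cancel hq'
          subst this; rfl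
        have e : Set.range (fun q : X × V => (q.1 : G) * q.2) = ((X ⊔ V : Subgroup G) : Set G) := by
          rw [h1]; ext g
          simp [Set.mem_mul, eq_comm]
        rw [← SetLike.coe_sort_coe, ← e, ← Nat.card_congr (Equiv.ofInjective _ hinj), Nat.card_prod, hK X hX, hK V hV, sq]
      haveI := IsPGroup.isMulCommutative_of_card_eq_prime_sq hcard
      exact fun v hv w hw => setLike_mul_comm (s := X ⊔ V) (Subgroup.mem_sup_right hv) (Subgroup.mem_sup_left hw)
    have hPV' : ∀ P, Perp P V → Perp P X → Perp P V' := by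
      intro P h1 h2 π hπ w hw
      obtain ⟨v, hv, rfl⟩ := hw
      have c1 : Commute π v := h1 π hπ v hv
      have c2 : Commute π x := h2 π hπ x hx
      exact ((c2.mul_right c1).mul_right c2.inv_right).eq
    have hstrict : ∀ W ∈ K, Perp W X → ¬ (perp V ⊆ perp W) := fun W hW hWX hsub =>
      hVX (hmax W hW hsub ⟨hX, hWX⟩).2
    by_cases hVV' : Perp V V'
    · obtain ⟨Z', hle, hp', hZ'X⟩ := exists_point (hK V hV) (hK V' hV'K) hVV' (hb V hV V' hV'K hV'ne.symm hVV' X hX)
      have hZ'K := ha V hV V' hV'K hV'ne.symm hVV' Z' hle hp'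
      refine hstrict Z' hZ'K hZ'X ?_
      rintro R ⟨hR, hVR⟩
      refine ⟨hR, ?_⟩
      have hZ'V : Perp Z' V := (perp_sup (perp_refl (hK V hV)) hVV'.symm).mono hle
      by_cases hRV : R = V
      · exact hRV ▸ hZ'V
      obtain ⟨P, hPle, hPp, hPX⟩ := exists_point (hK V hV) (hK R hR) hVR (hb V hV R hR (Ne.symm hRV) hVR X hX)
      have hPV : Perp P V := (perp_sup (perp_refl (hK V hV)) hVR.symm).mono hPle
      have hPne : P ≠ V := fun h => hVX (h ▸ hPX)
      have hRle := le_sup_point (hK V hV) (hK R hR) hPp hVR hPle hPne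
      have hPZ' : Perp P Z' := ((perp_sup hPV.symm (hPV' P hPV hPX).symm).mono hle).symm
      exact ((perp_sup hZ'V.symm hPZ').mono hRle).symm
    · haveI : Nontrivial Z := Finite.one_lt_card_iff_nontrivial.mp (hZp ▸ hp.one_lt)
      obtain ⟨⟨z, hz⟩, hz1⟩ := exists_ne (1 : Z)
      have hz1' : z ≠ 1 := fun h => hz1 (Subtype.ext h)
      have hxz : Commute x z := hXZ x hx z hz
      set y := x⁻¹ * z with hy
      have hy1 : y ≠ 1 := fun h => hZX (by
        have : z = x := by rw [hy, inv_mul_eq_one] at h; exact h.symm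
        exact (eq_zpowers_of_prime hZp hz hz1').symm.trans (this ▸ hXx))
      set Y := Subgroup.zpowers y with hYdef
      have hYle : Y ≤ X ⊔ Z := Subgroup.zpowers_le.mpr (mul_mem (Subgroup.mem_sup_left (inv_mem hx)) (Subgroup.mem_sup_right hz))
      have hxp : x ^ p = 1 := by
        have := congrArg Subtype.val (pow_card_eq_one' (G := X) (x := ⟨x, hx⟩)); rw [hK X hX] at this; exact this
      have hzp : z ^ p = 1 := by
        have := congrArg Subtype.val (pow_card_eq_one' (G := Z) (x := ⟨z, hz⟩)); rw [hZp] at this; exact this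
      have hYp : Nat.card Y = p := by
        rw [hYdef, Nat.card_zpowers]
        refine orderOf_eq_prime ?_ hy1
        rw [hy, hxz.inv_left.mul_pow, inv_pow, hxp, hzp, inv_one, one_mul]
      have hYK : Y ∈ K := ha X hX Z hZK hZX.symm hXZ Y hYle hYp
      refine hstrict Z hZK hXZ.symm ?_
      rintro R ⟨hR, hVR⟩
      refine ⟨hR, ?_⟩
      by_cases hRV : R = V
      · exact hRV ▸ hZV
      obtain ⟨P, hPle, hPp, hPX⟩ := exists_point (hK V hV) (hK R hR) hVR (hb V hV R hR (Ne.symm hRV) hVR X hX)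
      obtain ⟨Q, hQle, hQp, hQY⟩ := exists_point (hK V hV) (hK R hR) hVR (hb V hV R hR (Ne.symm hRV) hVR Y hYK)
      have hPV : Perp P V := (perp_sup (perp_refl (hK V hV)) hVR.symm).mono hPle
      have hQV : Perp Q V := (perp_sup (perp_refl (hK V hV)) hVR.symm).mono hQle
      have hPne : P ≠ V := fun h => hVX (h ▸ hPX)
      -- Q also centralises the conjugate
      have hQV' : Perp Q V' := by
        intro π hπ w hw
        obtain ⟨v, hv, rfl⟩ := hw
        have c1 : Commute π v := hQV π hπ v hv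
        have c2 : Commute π y := hQY π hπ y (Subgroup.mem_zpowers y)
        have cz : Commute z v := hZV z hz v hv
        have e : (MulAut.conj x).toMonoidHom v = y⁻¹ * v * y := by
          show x * v * x⁻¹ = y⁻¹ * v * y
          calc x * v * x⁻¹ = x * (z⁻¹ * (z * v)) * x⁻¹ := by group
            _ = x * (z⁻¹ * (v * z)) * x⁻¹ := by rw [cz.eq]
            _ = (x * z⁻¹) * v * (z * x⁻¹) := by group
            _ = y⁻¹ * v * y := by rw [hy, mul_inv_rev, inv_inv, hxz.inv_right.eq, hxz.symm.inv_right.eq]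
        rw [e]
        exact ((c2.inv_right.mul_right c1).mul_right c2).eq
      have hPQ : P = Q := by
        by_contra hne'
        apply hVV'
        have hVle : V ≤ P ⊔ Q := by
          haveI : Nontrivial Q := Finite.one_lt_card_iff_nontrivial.mp (hQp ▸ hp.one_lt)
          obtain ⟨⟨π', hπ'⟩, hπ'1⟩ := exists_ne (1 : Q)
          have hπ'1' : π' ≠ 1 := fun h => hπ'1 (Subtype.ext h)
          obtain ⟨v', hv', r', hr', e'⟩ := exists_mul_of_mem_sup hVR (hQle hπ')
          have hr'P : r' ∈ V ⊔ P := le_sup_point (hK V hV) (hK R hR) hPp hVR hPle hPne hr'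
          obtain ⟨v, hv, π, hπ, e⟩ := exists_mul_of_mem_sup hPV.symm hr'P
          have hvv : v' * v = π' * π⁻¹ := by rw [e', e]; group
          by_cases hv0 : v' * v = 1
          · exfalso
            rw [hv0, eq_comm, mul_inv_eq_one] at hvv
            exact hne' ((eq_zpowers_of_prime hPp (hvv ▸ hπ : π' ∈ P) hπ'1').symm.trans
              (eq_zpowers_of_prime hQp hπ' hπ'1'))
          · rw [← eq_zpowers_of_prime (hK V hV) (mul_mem hv' hv) hv0, Subgroup.zpowers_le, hvv]
            exact mul_mem (Subgroup.mem_sup_right hπ') (Subgroup.mem_sup_left (inv_mem hπ))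
        exact (perp_sup (hPV' P hPV hPX) hQV').mono hVle
      have hPZ : Perp P Z := by
        have hzmem : z ∈ X ⊔ Y := by
          have : z = x * y := by rw [hy, mul_inv_cancel_left]
          rw [this]; exact mul_mem (Subgroup.mem_sup_left hx) (Subgroup.mem_sup_right (Subgroup.mem_zpowers y))
        have hZle' : Z ≤ X ⊔ Y := by rw [← eq_zpowers_of_prime hZp hz hz1', Subgroup.zpowers_le]; exact hzmem
        exact ((perp_sup hPX.symm (hPQ ▸ hQY : Perp P Y).symm).mono hZle').symm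
      exact ((perp_sup hZV.symm hPZ).mono (le_sup_point (hK V hV) (hK R hR) hPp hVR hPle hPne)).symm
  set N := Subgroup.normalClosure (V : Set G) with hN
  have hset : ∀ s ∈ Group.conjugatesOfSet (V : Set G), ∃ W ∈ K, s ∈ W := by
    intro s hs
    obtain ⟨v, hv, hc⟩ := Group.mem_conjugatesOfSet_iff.mp hs
    obtain ⟨g, rfl⟩ := isConj_iff.mp hc
    exact ⟨_, hKc V hV g, ⟨v, hv, rfl⟩⟩
  have hcommN : ∀ a ∈ N, ∀ W ∈ K, ∀ w ∈ W, a * w = w * a := by
    intro a haN W hW w hw
    have hle : N ≤ Subgroup.centralizer ({w} : Set G) := by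
      refine (Subgroup.closure_le _).mpr fun s hs => ?_
      obtain ⟨v, hv, hc⟩ := Group.mem_conjugatesOfSet_iff.mp hs
      obtain ⟨g, rfl⟩ := isConj_iff.mp hc
      rw [SetLike.mem_coe, Subgroup.mem_centralizer_singleton_iff]
      have h1 := hVall _ (hKc W hW g⁻¹) v hv _ ⟨w, hw, rfl⟩
      have h1' : v * (g⁻¹ * w * g⁻¹⁻¹) = g⁻¹ * w * g⁻¹⁻¹ * v := h1
      have h2 := congrArg (fun t => g * t * g⁻¹) h1'
      simpa [mul_assoc] using h2
    exact Subgroup.mem_centralizer_singleton_iff.mp (hle haN)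
  haveI hNc : IsMulCommutative N := by
    refine Subgroup.isMulCommutative_closure fun a ha b hb => ?_
    obtain ⟨W, hW, hbW⟩ := hset b hb
    exact hcommN a (Subgroup.subset_closure ha) W hW b hbW
  have hNp : ∀ a ∈ N, a ^ p = 1 := fun a haN => by
    refine Subgroup.closure_induction (p := fun a _ => a ^ p = 1) ?_ (one_pow p) ?_ ?_ haN
    · intro s hs
      obtain ⟨W, hW, hsW⟩ := hset s hs
      have := congrArg Subtype.val (pow_card_eq_one' (G := W) (x := ⟨s, hsW⟩)); rw [hK W hW] at this; exact this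
    · intro a b haN hbN ha2 hb2
      rw [(show Commute a b from setLike_mul_comm (s := N) haN hbN).mul_pow, ha2, hb2, one_mul]
    · intro a _ ha2; rw [inv_pow, ha2, inv_one]
  have hNn : N.Normal := Subgroup.normalClosure_normal
  have hNP : IsPGroup p N := fun a => ⟨1, Subtype.ext (by simpa using hNp a a.2)⟩
  have hVN : V ≤ N := Subgroup.subset_normalClosure
  refine ⟨⟨V, hV, hVall, hVN.trans (le_sSup (show N ∈ {N : Subgroup G | N.Normal ∧ IsPGroup p N} from ⟨hNn, hNP⟩))⟩, fun hs => ?_⟩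
  rcases hNn.eq_bot_or_eq_top with h0 | h0
  · have : V = ⊥ := le_bot_iff.mp (h0 ▸ hVN)
    have h' := hK V hV
    rw [this, Subgroup.card_bot] at h'
    exact hp.one_lt.ne h'
  · haveI : IsMulCommutative G := ⟨⟨fun a b => setLike_mul_comm (s := N) (h0 ▸ Subgroup.mem_top a) (h0 ▸ Subgroup.mem_top b)⟩⟩
    obtain ⟨X, hX, Y, hY, hne, -⟩ := hex
    have htop : ∀ W ∈ K, W = ⊤ := fun W hW => by
      haveI : W.Normal := ⟨fun a haW g => by rwa [mul_comm' g a, mul_inv_cancel_right]⟩
      refine (inferInstance : W.Normal).eq_bot_or_eq_top.resolve_left fun h => ?_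
      have h' := hK W hW
      rw [h, Subgroup.card_bot] at h'
      exact hp.one_lt.ne h'
    exact hne ((htop X hX).trans (htop Y hY).symm)

end Cfsg.Agent.S3196
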