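import Cfsg.Statements.S3200
import Mathlib
import Cfsg.Agent.Lib.Solvable.Hall
import Cfsg.Agent.S0143

set_option autoImplicit false
open Cfsg

namespace Cfsg.Agent.S3200
theorem arith {n a s A B : ℕ} (hn : 0 < n) (ha : a ∣ n) (hs : s ∣ n) (haB : a ∣ B) (hsA : s ∣ A) (hAB : A.Coprime B)
    (h1 : n ∣ a * A) (h2 : n ∣ s * B) : s * a = n := by
  refine Nat.dvd_antisymm ((hAB.coprime_dvd_left hsA).coprime_dvd_right haB |>.mul_dvd_of_dvd_of_dvd hs ha) ?_
  obtain ⟨A', rfl⟩ := hsA
  obtain ⟨B', rfl⟩ := haB
  have h := Nat.dvd_gcd h1 h2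
  rwa [show a * (s * A') = (a * s) * A' by ring, show s * (a * B') = (a * s) * B' by ring, Nat.gcd_mul_left,
    (Nat.Coprime.coprime_mul_left (Nat.Coprime.coprime_mul_left_right hAB)).gcd_eq_one, mul_one, mul_comm a s] at h

universe w

theorem isSolvable_aux : ∀ (m : ℕ) (G : Type w) [Group G] [Finite G] (S C : Subgroup G), Nat.card G = m →
    IsPGroup 2 ↥S → IsMulCommutative ↥C → Odd (Nat.card C) → Nat.card S * Nat.card C = Nat.card G →
    Group.IsSolvable G := by
  intro m
  induction m using Nat.strong_induction_on with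
  | _ m ih =>
    intro G _ _ S C hm hS hC hCo hcard
    obtain ⟨k, hk⟩ := hS.exists_card_eq
    have hcop : (Nat.card S).Coprime (Nat.card C) := hk ▸ (Nat.Coprime.pow_left k (Nat.coprime_two_left.mpr hCo))
    by_cases hb : C = ⊥
    · rw [hb, Subgroup.card_bot, mul_one, hk] at hcard
      haveI := (IsPGroup.of_card hcard.symm).isNilpotent
      infer_instance
    obtain ⟨z, hz, hz1⟩ := (Subgroup.ne_bot_iff_exists_ne_one.mp hb : ∃ z : C, z ≠ 1) |>.elim
      fun z hz => (⟨(z : G), z.2, fun h => hz (Subtype.ext h)⟩ : ∃ z, z ∈ C ∧ z ≠ 1)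
    haveI : Nontrivial G := ⟨⟨z, 1, hz1⟩⟩
    have hCS : C.index = Nat.card S := by
      have := C.card_mul_index
      rw [← hcard, mul_comm (Nat.card S)] at this
      exact Nat.eq_of_mul_eq_mul_left Nat.card_pos this
    have hSC : S.index = Nat.card C := by
      have := S.card_mul_index
      rw [← hcard] at this
      exact Nat.eq_of_mul_eq_mul_left Nat.card_pos this
    by_cases hsim : IsSimpleGroup G
    · haveI := hC
      obtain ⟨j, -, hj⟩ := (Nat.dvd_prime_pow Nat.prime_two).mp
        (show (Subgroup.centralizer ({z} : Set G)).index ∣ 2 ^ k from hk ▸ hCS ▸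
          Subgroup.index_dvd_of_le (fun c hc => Subgroup.mem_centralizer_singleton_iff.mpr
            (setLike_mul_comm (s := C) hc hz)))
      haveI := Fact.mk (Cfsg.Agent.S0143.card_prime 2 j Nat.prime_two z hz1 hj)
      haveI := isCyclic_of_prime_card (α := G) (p := Nat.card G) rfl
      exact Group.isSolvable_of_comm (fun a b => IsCyclic.isMulCommutative.is_comm.comm a b)
    · obtain ⟨N, hN, hN1, hN2⟩ : ∃ N : Subgroup G, N.Normal ∧ N ≠ ⊥ ∧ N ≠ ⊤ := by
        by_contra! h
        exact hsim ⟨fun H hH => or_iff_not_imp_left.mpr (h H hH)⟩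
      haveI := hN
      haveI : Group.IsSolvable ↥N := by
        have hlt : Nat.card N < m := hm ▸ lt_of_le_of_ne (Subgroup.card_le_card_group N)
          (fun h => hN2 (Subgroup.eq_top_of_card_eq N h))
        have hCN : IsMulCommutative ↥(C.subgroupOf N) := by
          haveI := hC
          infer_instance
        have hd : ∀ A : Subgroup G, Nat.card (A.subgroupOf N) ∣ Nat.card A := fun A => by
          rw [← Subgroup.card_map_of_injective N.subtype_injective, Subgroup.subgroupOf_map_subtype]
          exact Subgroup.card_dvd_of_le inf_le_left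
        have hi : ∀ A : Subgroup G, (A.subgroupOf N).index ∣ A.index := fun A => by
          show A.relIndex N ∣ A.index
          have h1 := CfsgLib.Solvable.Basic.card_sup_mul N A
          have h2 : Nat.card (A.subgroupOf N) * A.relIndex N = Nat.card N := (A.subgroupOf N).card_mul_index
          have h3 : Nat.card (A.subgroupOf N) = Nat.card (N ⊓ A : Subgroup G) := by
            rw [← Subgroup.card_map_of_injective N.subtype_injective, Subgroup.subgroupOf_map_subtype, inf_comm]
          rw [← h2, h3] at h1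
          have h4 : Nat.card (A ⊔ N : Subgroup G) = Nat.card A * A.relIndex N :=
            Nat.eq_of_mul_eq_mul_right Nat.card_pos (h1.trans (by ring))
          have h5 := Subgroup.card_subgroup_dvd_card (A ⊔ N)
          rw [h4, ← A.card_mul_index] at h5
          exact Nat.dvd_of_mul_dvd_mul_left Nat.card_pos h5
        refine ih _ hlt ↥N (S.subgroupOf N) (C.subgroupOf N) rfl (hS.comap_subtype) hCN
          (hCo.of_dvd_nat (hd C)) ?_
        refine arith Nat.card_pos (Subgroup.card_subgroup_dvd_card _) (Subgroup.card_subgroup_dvd_card _)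
          (hd C) (hd S) hcop ?_ ?_
        · nth_rw 1 [← (C.subgroupOf N).card_mul_index]
          exact Nat.mul_dvd_mul_left _ (hCS ▸ hi C)
        · nth_rw 1 [← (S.subgroupOf N).card_mul_index]
          exact Nat.mul_dvd_mul_left _ (hSC ▸ hi S)
      haveI : Group.IsSolvable (G ⧸ N) := by
        set f := QuotientGroup.mk' N
        have hf : Function.Surjective f := QuotientGroup.mk'_surjective N
        have hlt : Nat.card (G ⧸ N) < m := by
          rw [← hm, Subgroup.card_eq_card_quotient_mul_card_subgroup N]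
          exact lt_mul_of_one_lt_right Nat.card_pos ((Subgroup.one_lt_card_iff_ne_bot _).mpr hN1)
        refine ih _ hlt (G ⧸ N) (S.map f) (C.map f) rfl (hS.map f) (by haveI := hC; exact Subgroup.map_isMulCommutative C f)
          (hCo.of_dvd_nat (Subgroup.card_map_dvd C f)) ?_
        refine arith Nat.card_pos (Subgroup.card_subgroup_dvd_card _) (Subgroup.card_subgroup_dvd_card _)
          (Subgroup.card_map_dvd C f) (Subgroup.card_map_dvd S f) hcop ?_ ?_
        · nth_rw 1 [← (C.map f).card_mul_index]
          exact Nat.mul_dvd_mul_left _ (hCS ▸ Subgroup.index_map_dvd C hf)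
        · nth_rw 1 [← (S.map f).card_mul_index]
          exact Nat.mul_dvd_mul_left _ (hSC ▸ Subgroup.index_map_dvd S hf)
      exact Group.isSolvable_of_ker_le_range N.subtype (QuotientGroup.mk' N) (by simp [QuotientGroup.ker_mk'])

/-- Let H be a finite group in which a Sylow 2-subgroup has an abelian complement (an abelian subgroup meeting it trivially whose product with it is all of H). Then H is solvable, and every subgroup and every quotient group of H again has a Sylow 2-subgroup with an abelian complement. -/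
theorem result {H : Type*} [Group H] [Finite H]
    (S : Sylow 2 H) (C : Subgroup H) (hC : IsMulCommutative ↥C) (hSC : Subgroup.IsComplement' (S : Subgroup H) C) :
    Group.IsSolvable H ∧
    (∀ L : Subgroup H, ∃ (P : Sylow 2 ↥L) (D : Subgroup ↥L), IsMulCommutative ↥D ∧ Subgroup.IsComplement' (P : Subgroup ↥L) D) ∧
    (∀ (N : Subgroup H) [N.Normal], ∃ (P : Sylow 2 (H ⧸ N)) (D : Subgroup (H ⧸ N)),
      IsMulCommutative ↥D ∧ Subgroup.IsComplement' (P : Subgroup (H ⧸ N)) D) := by
  have hcard := hSC.card_mul_card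
  have hCi : C.index = Nat.card (S : Subgroup H) := hSC.index_eq_card
  have hSi : (S : Subgroup H).index = Nat.card C := hSC.symm.index_eq_card
  have hCo : Odd (Nat.card C) := by
    rw [Nat.odd_iff, ← Nat.two_dvd_ne_zero, ← hSi]
    exact S.not_dvd_index
  haveI hsol : Group.IsSolvable H := isSolvable_aux _ H S C rfl S.2 hC hCo hcard
  refine ⟨hsol, fun L => ?_, fun N _ => ?_⟩
  · obtain ⟨P⟩ : Nonempty (Sylow 2 ↥L) := inferInstance
    obtain ⟨k, hk⟩ := IsPGroup.iff_card.mp P.2
    have hcop : (P : Subgroup ↥L).index.Coprime (Nat.card (P : Subgroup ↥L)) := by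
      rw [hk]
      exact Nat.Coprime.pow_right k ((Nat.prime_two.coprime_iff_not_dvd.mpr P.not_dvd_index).symm)
    obtain ⟨D, hD⟩ := CfsgLib.Solvable.Hall.exists_card_eq (G := ↥L)
      (m := (P : Subgroup ↥L).index) (n := Nat.card (P : Subgroup ↥L)) (Subgroup.index_mul_card _).symm hcop
    have hDo : Odd (Nat.card (D.map L.subtype)) := by
      rw [Subgroup.card_map_of_injective L.subtype_injective, hD, Nat.odd_iff, ← Nat.two_dvd_ne_zero]
      exact P.not_dvd_index
    obtain ⟨j, hj⟩ := S.2.exists_card_eq
    obtain ⟨g, hg⟩ := CfsgLib.Solvable.Hall.le_conj_of_coprime_index (H := C) (K := D.map L.subtype)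
      (by rw [hCi, hj]; exact Nat.Coprime.pow_right j (Nat.coprime_two_right.mpr hCo))
      (by rw [hCi, hj]; exact Nat.Coprime.pow_right j (Nat.coprime_two_right.mpr hDo))
    refine ⟨P, D, ⟨⟨fun a b => ?_⟩⟩, ?_⟩
    · obtain ⟨a', ha', hae⟩ := hg ⟨a, a.2, rfl⟩
      obtain ⟨b', hb', hbe⟩ := hg ⟨b, b.2, rfl⟩
      haveI := hC
      apply Subtype.ext; apply Subtype.ext
      simp only [Subgroup.coe_mul]
      rw [show ((a : ↥L) : H) = MulAut.conj g a' from hae.symm, show ((b : ↥L) : H) = MulAut.conj g b' from hbe.symm, ← map_mul, ← map_mul,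
        setLike_mul_comm (s := C) ha' hb']
    · exact Subgroup.isComplement'_of_coprime (by rw [hD, Subgroup.card_mul_index]) (by rw [hD]; exact hcop.symm)
  · set f := QuotientGroup.mk' N
    have hf : Function.Surjective f := QuotientGroup.mk'_surjective N
    haveI := hC
    refine ⟨S.mapSurjective hf, C.map f, Subgroup.map_isMulCommutative C f, ?_⟩
    obtain ⟨j, hj⟩ := S.2.exists_card_eq
    have hcop : (Nat.card (S : Subgroup H)).Coprime (Nat.card C) := by
      rw [hj]; exact Nat.Coprime.pow_left j (Nat.coprime_two_left.mpr hCo)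
    refine Subgroup.isComplement'_of_coprime ?_ ((hcop.coprime_dvd_left (Subgroup.card_map_dvd _ f)).coprime_dvd_right
      (Subgroup.card_map_dvd C f))
    refine arith Nat.card_pos (Subgroup.card_subgroup_dvd_card _) (Subgroup.card_subgroup_dvd_card _)
      (Subgroup.card_map_dvd C f) (Subgroup.card_map_dvd (S : Subgroup H) f) hcop ?_ ?_
    · nth_rw 1 [← (C.map f).card_mul_index]
      exact Nat.mul_dvd_mul_left _ (hCi ▸ Subgroup.index_map_dvd C hf)
    · nth_rw 1 [← ((S : Subgroup H).map f).card_mul_index]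
      exact Nat.mul_dvd_mul_left _ (hSi ▸ Subgroup.index_map_dvd _ hf)

end Cfsg.Agent.S3200
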