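import Cfsg.Statements.S3201
import Mathlib
import Cfsg.Agent.Lib.Characterizations.CentralQuaternion

set_option autoImplicit false
open Cfsg

namespace Cfsg.Agent.S3201

/-- Let S be a finite 2-group whose centre Z(S) has n ≥ 2 distinct maximal subgroups C₁, …, Cₙ with trivial intersection such that each quotient S/Cᵢ is a non-abelian group with exactly one involution (a generalized quaternion group). Then S is the internal direct product of an elementary abelian subgroup and a non-abelian subgroup with exactly one involution. -/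
theorem result {S : Type*} [Group S] [Finite S]
    (hS : IsPGroup 2 S) (n : ℕ) (hn : 2 ≤ n) (C : Fin n → Subgroup ↥(Subgroup.center S))
    (hCmax : ∀ i, IsCoatom (C i)) (hCinj : Function.Injective C) (hCint : ⨅ i, C i = ⊥)
    (hCq : ∀ i, ∃ (_ : ((C i).map (Subgroup.center S).subtype).Normal),
      ¬ IsMulCommutative (S ⧸ (C i).map (Subgroup.center S).subtype) ∧
      ∃! x : S ⧸ (C i).map (Subgroup.center S).subtype, orderOf x = 2) :
    ∃ E Q : Subgroup S, Cfsg.IsInternalDirectProduct E Q ⊤ ∧ Cfsg.IsElementaryAbelian 2 E ∧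
      ¬ IsMulCommutative ↥Q ∧ ∃! x : ↥Q, orderOf x = 2 := by
  classical
  have h0 : 0 < n := by omega
  obtain ⟨hn0, hna, hu⟩ := hCq ⟨0, h0⟩
  obtain ⟨N, a, b, hN2, hNd, haN, haD, hb2, hb2D, -, hc, hapow, hbpow, -, hform⟩ :=
    CfsgLib.Characterizations.CentralQuaternion.exists_data hS (C ⟨0, h0⟩) (hCmax _) hna hu
  have hidx : ∀ i, (C i).index = 2 := fun i => CfsgLib.PGroup.Frattini.index_of_isCoatom (hS.to_subgroup _) (hCmax i)
  have hsq : ∀ i, ∀ x : S, ∀ h : x ^ 2 ∈ (Subgroup.center S), (⟨x ^ 2, h⟩ : ↥(Subgroup.center S)) ∈ C i → x ∈ (Subgroup.center S) := by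
    intro i x h hx
    obtain ⟨hni, hnai, hui⟩ := hCq i
    obtain ⟨-, -, -, -, -, -, -, -, -, -, -, -, -, hs, -⟩ :=
      CfsgLib.Characterizations.CentralQuaternion.exists_data hS (C i) (hCmax i) hnai hui
    exact hs x ⟨_, hx, rfl⟩
  have hint : ∀ x : ↥(Subgroup.center S), (∀ i, x ∈ C i) → x = 1 := fun x hx =>
    Subgroup.mem_bot.mp (hCint ▸ Subgroup.mem_iInf.mpr hx)
  have helem : ∀ x : ↥(Subgroup.center S), x ^ 2 = 1 := fun x => hint _ fun i => Subgroup.sq_mem_of_index_two (hidx i) x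
  obtain ⟨N', rfl⟩ := hNd
  have hout : ∀ x : S, x ∉ (Subgroup.center S) → ∀ h : x ^ 2 ∈ (Subgroup.center S), ∀ i, (⟨x ^ 2, h⟩ : ↥(Subgroup.center S)) ∉ C i :=
    fun x hx h i hi => hx (hsq i x h hi)
  have hhalf : a ^ N' ∉ (Subgroup.center S) := fun h => absurd (Nat.le_of_dvd (by omega) (hapow N' h)) (by omega)
  have ha2 : (a ^ N') ^ 2 = a ^ (2 * N') := by rw [← pow_mul, mul_comm]
  have hbZ : b ∉ (Subgroup.center S) := by simpa using hbpow 0
  have hbaZ : b * a ∉ (Subgroup.center S) := by simpa using hbpow 1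
  set z := a ^ (2 * N') with hz
  have hbz : b ^ 2 = z := by
    have : (⟨b ^ 2, hb2⟩ : ↥(Subgroup.center S)) * ⟨z, haN⟩ = 1 := hint _ fun i =>
      (Subgroup.mul_mem_iff_of_index_two (hidx i)).mpr (iff_of_false (hout b hbZ hb2 i)
        (fun h => hout (a ^ N') hhalf (ha2 ▸ haN) i (by simpa [ha2] using h)))
    have h2 : (⟨z, haN⟩ : ↥(Subgroup.center S)) * ⟨z, haN⟩ = 1 := by rw [← sq]; exact helem _
    exact congrArg Subtype.val (mul_right_cancel (this.trans h2.symm))
  have hc1 : b * a * b⁻¹ = a⁻¹ := by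
    set D := (C ⟨0, h0⟩).map (Subgroup.center S).subtype
    have hcZ : b * a * b⁻¹ * a ∈ (Subgroup.center S) := Subgroup.map_subtype_le _ hc
    have e : (b * a) ^ 2 = (b * a * b⁻¹ * a) * b ^ 2 := by
      have hbc : a * b ^ 2 = b ^ 2 * a := Subgroup.mem_center_iff.mp hb2 a
      calc (b * a) ^ 2 = b * a * b⁻¹ * (b ^ 2 * a) := by rw [sq, sq]; group
        _ = _ := by rw [← hbc]; group
    have hba2 : (b * a) ^ 2 ∈ (Subgroup.center S) := e ▸ (Subgroup.center S).mul_mem hcZ hb2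
    have : (⟨b * a * b⁻¹ * a, hcZ⟩ : ↥(Subgroup.center S)) = 1 := hint _ fun i => by
      have h1 := hout (b * a) hbaZ hba2 i
      have h2 := hout b hbZ hb2 i
      rw [show (⟨(b * a) ^ 2, hba2⟩ : ↥(Subgroup.center S)) = ⟨_, hcZ⟩ * ⟨_, hb2⟩ from Subtype.ext e,
        Subgroup.mul_mem_iff_of_index_two (hidx i)] at h1
      by_contra h
      exact h1 (iff_of_false h h2)
    exact eq_inv_of_mul_eq_one_left (congrArg Subtype.val this)
  set E := (C ⟨0, h0⟩).map (Subgroup.center S).subtype with hE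
  set A := Subgroup.zpowers a with hA
  have hbA : b ∈ Subgroup.normalizer (A : Set S) := by
    rw [Subgroup.mem_normalizer_iff_map_conj_eq, hA, MonoidHom.map_zpowers]
    show Subgroup.zpowers (b * a * b⁻¹) = _
    rw [hc1, Subgroup.zpowers_inv]
  set Q := A ⊔ Subgroup.zpowers b with hQ
  have hzz : z * z = 1 := by
    have := congrArg Subtype.val (helem ⟨z, haN⟩)
    simpa [sq] using this
  have hEQ : E ⊓ Q = ⊥ := by
    rw [eq_bot_iff]
    rintro x ⟨hxE, hxQ'⟩
    have hxQ : x ∈ Q := hxQ'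
    rw [Subgroup.mem_bot]
    have hxZ : x ∈ (Subgroup.center S) := Subgroup.map_subtype_le _ hxE
    rw [← SetLike.mem_coe, hQ, Subgroup.coe_mul_of_right_le_normalizer_left A (Subgroup.zpowers b)
      (Subgroup.zpowers_le.mpr hbA)] at hxQ
    obtain ⟨_, ⟨i, rfl⟩, _, ⟨j, rfl⟩, rfl⟩ := hxQ
    simp only at hxE hxZ ⊢
    have hred : ∀ k : ℤ, a ^ k ∈ (Subgroup.center S) → a ^ k ∈ E → a ^ k = 1 := by
      intro k hk hkE
      obtain ⟨l, hl⟩ := mem_powers_iff_mem_zpowers.mpr (⟨k, rfl⟩ : a ^ k ∈ Subgroup.zpowers a)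
      simp only at hl
      rw [← hl] at hk hkE ⊢
      obtain ⟨t, rfl⟩ := hapow l hk
      rw [pow_mul, ← hz] at hkE ⊢
      rcases Nat.even_or_odd t with ⟨s, rfl⟩ | ⟨s, rfl⟩
      · rw [← two_mul, pow_mul, sq, hzz, one_pow]
      · exfalso
        rw [pow_succ, pow_mul, sq, hzz, one_pow, one_mul] at hkE
        exact haD hkE
    rcases Int.even_or_odd j with ⟨s, rfl⟩ | ⟨s, rfl⟩
    · have e : a ^ i * b ^ (s + s) = a ^ (i + ((2 * N' : ℕ) : ℤ) * s) := by
        rw [← two_mul, zpow_mul, zpow_ofNat, hbz, hz, zpow_add, zpow_mul, zpow_natCast]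
      rw [e] at hxE hxZ ⊢
      exact hred _ hxZ hxE
    · exfalso
      have h1 : b * a ^ (-i) * b⁻¹ = a ^ i := by rw [← conj_zpow, hc1, inv_zpow', neg_neg]
      have e : a ^ i * b ^ (2 * s + 1) = b * a ^ (-i + ((2 * N' : ℕ) : ℤ) * s) := by
        rw [zpow_add_one, zpow_mul, zpow_ofNat, hbz, hz, ← h1, zpow_add, zpow_mul, zpow_natCast]
        have hcm : (a ^ (2 * N')) ^ s * b = b * (a ^ (2 * N')) ^ s := by
          rw [Subgroup.mem_center_iff.mp ((Subgroup.center S).zpow_mem haN s) b]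
        rw [hcm]
        group
      rw [e] at hxZ
      obtain ⟨l, hl⟩ := mem_powers_iff_mem_zpowers.mpr
        (⟨_, rfl⟩ : a ^ (-i + ((2 * N' : ℕ) : ℤ) * s) ∈ Subgroup.zpowers a)
      simp only at hl
      exact hbpow l (by rw [hl]; exact hxZ)
  have htop : E ⊔ Q = ⊤ := by
    refine (Subgroup.eq_top_iff' _).mpr fun g => ?_
    obtain ⟨i, h | h⟩ := hform g
    · have := (E ⊔ Q).mul_mem (Subgroup.mem_sup_right (Subgroup.mem_sup_left (pow_mem (Subgroup.mem_zpowers a) i)))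
        (Subgroup.mem_sup_left h)
      simpa using this
    · have := (E ⊔ Q).mul_mem (Subgroup.mem_sup_right ((A ⊔ Subgroup.zpowers b).mul_mem
        (Subgroup.mem_sup_right (Subgroup.mem_zpowers b)) (Subgroup.mem_sup_left (pow_mem (Subgroup.mem_zpowers a) i))))
        (Subgroup.mem_sup_left h)
      simpa [mul_assoc] using this
  set q := (QuotientGroup.mk' E).comp Q.subtype with hq
  have hinj : Function.Injective q := by
    rw [← MonoidHom.ker_eq_bot_iff, eq_bot_iff]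
    intro y hy
    have h1 : (y : S) ∈ E ⊓ Q := ⟨(QuotientGroup.eq_one_iff _).mp hy, y.2⟩
    rw [hEQ, Subgroup.mem_bot] at h1
    exact Subgroup.mem_bot.mpr (Subtype.ext h1)
  have hsurj : Function.Surjective q := by
    rw [← MonoidHom.range_eq_top, hq, MonoidHom.range_comp, Subgroup.range_subtype]
    have := congrArg (Subgroup.map (QuotientGroup.mk' E)) htop
    rw [Subgroup.map_sup, (Subgroup.map_eq_bot_iff E).mpr (QuotientGroup.ker_mk' E).ge, bot_sup_eq,
      ← MonoidHom.range_eq_map, MonoidHom.range_eq_top.mpr (QuotientGroup.mk'_surjective E)] at this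
    exact this
  let e := MulEquiv.ofBijective q ⟨hinj, hsurj⟩
  refine ⟨E, Q, ⟨le_top, le_top, ?_, hEQ, htop⟩, ⟨?_, ?_⟩, ?_, ?_⟩
  · exact fun x hx y _ => (Subgroup.mem_center_iff.mp (Subgroup.map_subtype_le _ hx : x ∈ (Subgroup.center S)) y).symm
  · exact ⟨⟨fun x y => Subtype.ext (Subgroup.mem_center_iff.mp (Subgroup.map_subtype_le _ x.2 : (x : S) ∈ Subgroup.center S) y).symm⟩⟩
  · rintro _ ⟨x, -, rfl⟩
    exact congrArg Subtype.val (helem x)
  · intro h
    exact hna ⟨⟨fun x y => e.symm.injective (by rw [map_mul, map_mul]; exact h.is_comm.comm _ _)⟩⟩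
  · obtain ⟨w, hw, huniq⟩ := hu
    refine ⟨e.symm w, (e.symm.orderOf_eq w).trans hw, fun y hy => ?_⟩
    rw [MulEquiv.eq_symm_apply]
    exact huniq _ ((e.orderOf_eq y).trans hy)

end Cfsg.Agent.S3201
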