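import Cfsg.Statements.S3202
import Mathlib
import Cfsg.Agent.Lib.Characterizations.CentralQuaternion

set_option autoImplicit false
open Cfsg

namespace Cfsg.Agent.S3202
open scoped commutatorElement

/-- Let S be a finite 2-group of 2-rank exactly 2 and D a maximal subgroup of the centre of S such that S/D is a non-abelian group with exactly one involution (a generalized quaternion group). Then S has a nontrivial cyclic characteristic subgroup. -/
theorem result {S : Type*} [Group S]
    [Finite S] (hS : IsPGroup 2 S) (hr2 : Cfsg.PRankLE 2 2 S) (hr1 : ¬ Cfsg.PRankLE 2 1 S)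
    (D : Subgroup ↥(Subgroup.center S)) (hD : IsCoatom D)
    (hq : ∃ (_ : (D.map (Subgroup.center S).subtype).Normal),
      ¬ IsMulCommutative (S ⧸ D.map (Subgroup.center S).subtype) ∧
      ∃! x : S ⧸ D.map (Subgroup.center S).subtype, orderOf x = 2) :
    ∃ C : Subgroup S, C ≠ ⊥ ∧ IsCyclic ↥C ∧ C.Characteristic := by
  obtain ⟨hn, hna, hu⟩ := hq
  obtain ⟨N, a, b, -, -, -, -, -, -, -, hc, -, -, -, hform⟩ :=
    CfsgLib.Characterizations.CentralQuaternion.exists_data hS D hD hna hu
  have hDZ : ∀ d ∈ D.map (Subgroup.center S).subtype, d ∈ Subgroup.center S := fun d hd => Subgroup.map_subtype_le _ hd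
  set c := b * a * b⁻¹ * a with hcdef
  have hcZ := hDZ c hc
  set u := b * a * b⁻¹ * a⁻¹ with hudef
  have hcc : ∀ g, Commute c g := fun g => (Subgroup.mem_center_iff.mp hcZ g).symm
  have hu2 : u = c * (a * a)⁻¹ := by rw [hudef, hcdef]; group
  have hau : Commute a u := by
    rw [hu2]
    exact (hcc a).symm.mul_right ((Commute.refl a).mul_right (Commute.refl a)).inv_right
  have hbu : b * u * b⁻¹ = u⁻¹ := by
    have h1 : b * c * b⁻¹ = c := by rw [← (hcc b).eq, mul_inv_cancel_right]
    have h3 : b * a * b⁻¹ = c * a⁻¹ := by rw [hcdef, mul_inv_cancel_right]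
    calc b * u * b⁻¹ = (b * c * b⁻¹) * ((b * a * b⁻¹) * (b * a * b⁻¹))⁻¹ := by rw [hu2]; group
      _ = c * ((a * c⁻¹) * (a * c⁻¹)) := by rw [h1, h3]; group
      _ = (a * a) * c⁻¹ := by
          rw [(hcc a).inv_left.symm.eq]
          calc c * (c⁻¹ * a * (c⁻¹ * a)) = a * (c⁻¹ * a) := by group
            _ = (a * a) * c⁻¹ := by rw [(hcc a).inv_left.eq, mul_assoc]
      _ = u⁻¹ := by rw [hu2, mul_inv_rev c, inv_inv]
  set U := Subgroup.zpowers u with hU
  have haU : a ∈ Subgroup.normalizer (U : Set S) := by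
    apply Subgroup.centralizer_le_normalizer
    intro y hy
    obtain ⟨i, rfl⟩ := Subgroup.mem_zpowers_iff.mp hy
    exact ((hau.zpow_right i).eq).symm
  have hbU : b ∈ Subgroup.normalizer (U : Set S) := by
    rw [Subgroup.mem_normalizer_iff_map_conj_eq, hU, MonoidHom.map_zpowers]
    show Subgroup.zpowers (b * u * b⁻¹) = _
    rw [hbu, Subgroup.zpowers_inv]
  have hgen : ∀ H : Subgroup S, a ∈ H → b ∈ H → Subgroup.center S ≤ H → H = ⊤ := by
    intro H ha hb hZ
    refine (Subgroup.eq_top_iff' H).mpr fun g => ?_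
    obtain ⟨i, h | h⟩ := hform g
    · simpa using H.mul_mem (H.pow_mem ha i) (hZ (hDZ _ h))
    · simpa [mul_assoc] using H.mul_mem (H.mul_mem hb (H.pow_mem ha i)) (hZ (hDZ _ h))
  haveI : U.Normal := Subgroup.normalizer_eq_top_iff.mp
    (hgen _ haU hbU (fun z hz => Subgroup.centralizer_le_normalizer _ (Subgroup.center_le_centralizer _ hz)))
  set f := QuotientGroup.mk' U
  have hab : Commute (f b) (f a) := by
    have : f u = 1 := (QuotientGroup.eq_one_iff _).mpr (Subgroup.mem_zpowers u)
    rw [hudef, map_mul, map_mul, map_mul, map_inv, map_inv, mul_inv_eq_one, mul_inv_eq_iff_eq_mul] at this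
    exact this
  have hall : ∀ g : S, Commute (f a) (f g) ∧ Commute (f b) (f g) := by
    have h := hgen ((Subgroup.centralizer {f a}).comap f ⊓ (Subgroup.centralizer {f b}).comap f)
      ⟨Subgroup.mem_centralizer_singleton_iff.mpr rfl, Subgroup.mem_centralizer_singleton_iff.mpr hab.symm.eq⟩
      ⟨Subgroup.mem_centralizer_singleton_iff.mpr hab.eq, Subgroup.mem_centralizer_singleton_iff.mpr rfl⟩
      (fun z hz => ⟨Subgroup.mem_centralizer_singleton_iff.mpr (by rw [← map_mul, ← map_mul, Subgroup.mem_center_iff.mp hz a]),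
        Subgroup.mem_centralizer_singleton_iff.mpr (by rw [← map_mul, ← map_mul, Subgroup.mem_center_iff.mp hz b])⟩)
    intro g
    obtain ⟨h1, h2⟩ := (Subgroup.eq_top_iff' _).mp h g
    exact ⟨(Subgroup.mem_centralizer_singleton_iff.mp h1).symm, (Subgroup.mem_centralizer_singleton_iff.mp h2).symm⟩
  have hle : commutator S ≤ U := by
    rw [commutator_def, Subgroup.commutator_le]
    intro x _ y _
    rw [← QuotientGroup.eq_one_iff]
    show f ⁅x, y⁆ = 1
    rw [map_commutatorElement, commutatorElement_eq_one_iff_mul_comm]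
    have h := hgen ((Subgroup.centralizer {f x}).comap f)
      (Subgroup.mem_centralizer_singleton_iff.mpr (hall x).1.eq)
      (Subgroup.mem_centralizer_singleton_iff.mpr (hall x).2.eq)
      (fun z hz => Subgroup.mem_centralizer_singleton_iff.mpr (by rw [← map_mul, ← map_mul, Subgroup.mem_center_iff.mp hz x]))
    exact (Subgroup.mem_centralizer_singleton_iff.mp ((Subgroup.eq_top_iff' _).mp h y)).symm
  refine ⟨commutator S, fun hb => hna ⟨⟨fun p q => ?_⟩⟩, Subgroup.isCyclic_of_le hle, inferInstance⟩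
  obtain ⟨x, rfl⟩ := QuotientGroup.mk_surjective p
  obtain ⟨y, rfl⟩ := QuotientGroup.mk_surjective q
  have h1 : ⁅x, y⁆ = 1 := by
    rw [← Subgroup.mem_bot, ← hb, commutator_def]
    exact Subgroup.commutator_mem_commutator (Subgroup.mem_top x) (Subgroup.mem_top y)
  rw [← QuotientGroup.mk_mul, ← QuotientGroup.mk_mul, commutatorElement_eq_one_iff_mul_comm.mp h1]

end Cfsg.Agent.S3202
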