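import Cfsg.Statements.S3203
import Mathlib

set_option autoImplicit false
open Cfsg

namespace Cfsg.Agent.S3203

/-- Let S be a Sylow 2-subgroup of a finite group G having exactly two subgroups A ≠ B that are maximal among its elementary abelian subgroups, with S = AB. Then A and B are each weakly closed in S with respect to G, and the normalizer of S normalizes both A and B. -/
theorem result {G : Type*} [Group G] [Finite G] (S : Sylow 2 G)
    (A B : Subgroup ↥(S : Subgroup G)) (hAB : A ≠ B)
    (hA : Cfsg.IsElementaryAbelian 2 A ∧ ∀ C : Subgroup ↥(S : Subgroup G), Cfsg.IsElementaryAbelian 2 C → A ≤ C → C = A)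
    (hB : Cfsg.IsElementaryAbelian 2 B ∧ ∀ C : Subgroup ↥(S : Subgroup G), Cfsg.IsElementaryAbelian 2 C → B ≤ C → C = B)
    (honly : ∀ C : Subgroup ↥(S : Subgroup G), Cfsg.IsElementaryAbelian 2 C →
      (∀ D : Subgroup ↥(S : Subgroup G), Cfsg.IsElementaryAbelian 2 D → C ≤ D → D = C) → C = A ∨ C = B)
    (hprod : ∀ s : ↥(S : Subgroup G), ∃ a ∈ A, ∃ b ∈ B, a * b = s)
    (A' B' : Subgroup G) (hA' : A' = A.map (S : Subgroup G).subtype) (hB' : B' = B.map (S : Subgroup G).subtype) :
    Cfsg.IsWeaklyClosed A' (S : Subgroup G) ∧ Cfsg.IsWeaklyClosed B' (S : Subgroup G) ∧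
      Subgroup.normalizer ((S : Subgroup G) : Set G) ≤ Subgroup.normalizer (A' : Set G) ⊓ Subgroup.normalizer (B' : Set G) := by
  haveI : Fact (Nat.Prime 2) := ⟨Nat.prime_two⟩
  subst hA' hB'
  have elem_map : ∀ (C : Subgroup ↥(S : Subgroup G)) (φ : ↥(S : Subgroup G) →* ↥(S : Subgroup G)), Cfsg.IsElementaryAbelian 2 C → Cfsg.IsElementaryAbelian 2 (C.map φ) := by
    intro C φ hC
    haveI := hC.1
    refine ⟨inferInstance, ?_⟩
    rintro _ ⟨a, ha, rfl⟩
    rw [← map_pow, hC.2 a ha, map_one]
  -- every automorphism of S permutes A and B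
  have perm : ∀ φ : ↥(S : Subgroup G) ≃* ↥(S : Subgroup G), A.map φ.toMonoidHom = A ∨ A.map φ.toMonoidHom = B := by
    intro φ
    refine honly _ (elem_map A _ hA.1) ?_
    intro C hC hle
    have hmem : A ≤ C.map φ.symm.toMonoidHom := by
      intro a ha
      exact ⟨φ a, hle (Subgroup.mem_map_of_mem _ ha), by simp⟩
    have := hA.2 _ (elem_map C _ hC) hmem
    refine le_antisymm ?_ hle
    intro c hc
    exact ⟨φ.symm c, this ▸ Subgroup.mem_map_of_mem _ hc, by simp⟩
  have permB : ∀ φ : ↥(S : Subgroup G) ≃* ↥(S : Subgroup G), A.map φ.toMonoidHom = A → B.map φ.toMonoidHom = B := by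
    intro φ hφ
    have hmax : ∀ C : Subgroup ↥(S : Subgroup G), Cfsg.IsElementaryAbelian 2 C → B.map φ.toMonoidHom ≤ C → C = B.map φ.toMonoidHom := by
      intro C hC hle
      have hmem : B ≤ C.map φ.symm.toMonoidHom := by
        intro a ha
        exact ⟨φ a, hle (Subgroup.mem_map_of_mem _ ha), by simp⟩
      have := hB.2 _ (elem_map C _ hC) hmem
      refine le_antisymm ?_ hle
      intro c hc
      exact ⟨φ.symm c, this ▸ Subgroup.mem_map_of_mem _ hc, by simp⟩
    rcases honly _ (elem_map B φ.toMonoidHom hB.1) hmax with h | h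
    · exfalso
      exact hAB (Subgroup.map_injective φ.injective (hφ.trans h.symm))
    · exact h
  -- inner automorphisms fix A
  have hcomp : ∀ (φ ψ : ↥(S : Subgroup G) ≃* ↥(S : Subgroup G)), A.map (φ.trans ψ).toMonoidHom = (A.map φ.toMonoidHom).map ψ.toMonoidHom := by
    intro φ ψ; rw [Subgroup.map_map]; rfl
  have innA : ∀ s : ↥(S : Subgroup G), A.map (MulAut.conj s).toMonoidHom = A := by
    intro s
    obtain ⟨a, ha, b, hb, rfl⟩ := hprod s
    have hfixA : A.map (MulAut.conj a).toMonoidHom = A :=
      Subgroup.mem_normalizer_iff_map_conj_eq.mp (Subgroup.le_normalizer ha)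
    have hfixB : B.map (MulAut.conj b).toMonoidHom = B :=
      Subgroup.mem_normalizer_iff_map_conj_eq.mp (Subgroup.le_normalizer hb)
    have hb' : A.map (MulAut.conj b).toMonoidHom = A := by
      rcases perm (MulAut.conj b) with h | h
      · exact h
      · exact absurd (Subgroup.map_injective (MulAut.conj b).injective (h.trans hfixB.symm)) hAB
    have e : MulAut.conj (a * b) = (MulAut.conj b).trans (MulAut.conj a) := by rw [map_mul]; rfl
    rw [e, hcomp, hb', hfixA]
  have innB : ∀ s : ↥(S : Subgroup G), B.map (MulAut.conj s).toMonoidHom = B := fun s => permB _ (innA s)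
  have hAn : A.Normal := ⟨fun a ha s => by rw [← innA s]; exact Subgroup.mem_map_of_mem _ ha⟩
  have hBn : B.Normal := ⟨fun a ha s => by rw [← innB s]; exact Subgroup.mem_map_of_mem _ ha⟩
  -- normalizer of S fixes A
  have hNS : ∀ g ∈ Subgroup.normalizer ((S : Subgroup G) : Set G), g ∈ Subgroup.normalizer ((A.map (S : Subgroup G).subtype : Subgroup G) : Set G) ∧
      g ∈ Subgroup.normalizer ((B.map (S : Subgroup G).subtype : Subgroup G) : Set G) := by
    let ρ := (S : Subgroup G).normalizerMonoidHom
    have key : ∀ n : ↥(Subgroup.normalizer ((S : Subgroup G) : Set G)), A.map (ρ n).toMonoidHom = A := by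
      intro n
      obtain ⟨k, m, hm, hkm⟩ := Nat.exists_eq_pow_mul_and_not_dvd (orderOf_pos n).ne' 2 (by norm_num)
      -- the odd power is in S
      have hmem : ((n ^ m : ↥(Subgroup.normalizer ((S : Subgroup G) : Set G))) : G) ∈ (S : Subgroup G) := by
        have hpz : IsPGroup 2 (Subgroup.zpowers ((n ^ m : ↥(Subgroup.normalizer ((S : Subgroup G) : Set G))) : G)) := by
          rintro ⟨y, hy⟩
          refine ⟨k, ?_⟩
          obtain ⟨j, rfl⟩ := Subgroup.mem_zpowers_iff.mp hy
          apply Subtype.ext
          have h1 : (((n ^ m : ↥(Subgroup.normalizer ((S : Subgroup G) : Set G))) : G)) ^ (2 ^ k) = 1 := by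
            rw [← Subgroup.coe_pow, ← pow_mul, mul_comm, ← hkm, pow_orderOf_eq_one, Subgroup.coe_one]
          show (_ ^ j : G) ^ 2 ^ k = 1
          rw [← zpow_natCast, ← zpow_mul, mul_comm, zpow_mul, zpow_natCast, h1, one_zpow]
        have := hpz.inf_normalizer_sylow S
        have h2 : ((n ^ m : ↥(Subgroup.normalizer ((S : Subgroup G) : Set G))) : G) ∈ Subgroup.zpowers ((n ^ m : ↥(Subgroup.normalizer ((S : Subgroup G) : Set G))) : G) ⊓ Subgroup.normalizer ((S : Subgroup G) : Set G) :=
          ⟨Subgroup.mem_zpowers _, (n ^ m).2⟩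
        exact (this.le h2).2
      rcases perm (ρ n) with h | h
      · exact h
      · exfalso
        have hswap : B.map (ρ n).toMonoidHom = A := by
          rcases perm ((ρ n).trans (ρ n)) with h2 | h2
          · rw [hcomp, h] at h2; exact h2
          · rw [hcomp, h] at h2
            exact absurd (Subgroup.map_injective (ρ n).injective (h.trans h2.symm)) hAB
        have hpow : ∀ j : ℕ, A.map (ρ (n ^ j)).toMonoidHom = if Even j then A else B := by
          intro j
          induction j with
          | zero =>
            rw [pow_zero, map_one, if_pos Even.zero]; exact Subgroup.map_id A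
          | succ j ih =>
            have e : ρ (n ^ (j + 1)) = (ρ (n ^ j)).trans (ρ n) := by rw [pow_succ', map_mul]; rfl
            rw [e, hcomp, ih]
            by_cases hj : Even j
            · rw [if_pos hj, if_neg (by simpa [Nat.even_add_one] using hj)]; exact h
            · rw [if_neg hj, if_pos (by simpa [Nat.even_add_one] using hj)]; exact hswap
        have h3 := hpow m
        have hme : ¬ Even m := fun he => hm he.two_dvd
        rw [if_neg hme] at h3
        have e : ρ (n ^ m) = MulAut.conj (⟨_, hmem⟩ : ↥(S : Subgroup G)) := by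
          ext s; rfl
        rw [e, innA] at h3
        exact hAB h3
    intro g hg
    have hA2 := key ⟨g, hg⟩
    have hB2 := permB _ hA2
    constructor <;>
    · rw [Subgroup.mem_normalizer_iff_map_conj_eq]
      first
        | (conv_rhs => rw [← hA2])
        | (conv_rhs => rw [← hB2])
      rw [Subgroup.map_map, Subgroup.map_map]
      rfl
  have cc : ∀ a b : G, (MulAut.conj a).toMonoidHom.comp (MulAut.conj b).toMonoidHom = (MulAut.conj (a * b)).toMonoidHom := by
    intro a b; ext x; simp [mul_assoc]
  have cm : ∀ (K : Subgroup G) (a b : G), (K.map (MulAut.conj b).toMonoidHom).map (MulAut.conj a).toMonoidHom = K.map (MulAut.conj (a * b)).toMonoidHom := by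
    intro K a b; rw [Subgroup.map_map, cc]
  -- weak closure
  have hinj : Function.Injective (S : Subgroup G).subtype := Subgroup.subtype_injective _
  have weak : ∀ (A B : Subgroup ↥(S : Subgroup G)), A.Normal → B.Normal →
      (∀ C : Subgroup ↥(S : Subgroup G), Cfsg.IsElementaryAbelian 2 C →
        (∀ D : Subgroup ↥(S : Subgroup G), Cfsg.IsElementaryAbelian 2 D → C ≤ D → D = C) → C = A ∨ C = B) →
      (Cfsg.IsElementaryAbelian 2 A ∧ ∀ C : Subgroup ↥(S : Subgroup G), Cfsg.IsElementaryAbelian 2 C → A ≤ C → C = A) →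
      (∀ g ∈ Subgroup.normalizer ((S : Subgroup G) : Set G), g ∈ Subgroup.normalizer ((A.map (S : Subgroup G).subtype : Subgroup G) : Set G)) →
      Cfsg.IsWeaklyClosed (A.map (S : Subgroup G).subtype) (S : Subgroup G) := by
    intro A B hAn hBn honly hA hN
    refine ⟨Subgroup.map_subtype_le _, ?_⟩
    intro g hg
    set A₁ := (A.map (S : Subgroup G).subtype).map (MulAut.conj g).toMonoidHom with hA₁
    by_contra hne
    -- the conjugate is elementary abelian
    haveI := hA.1.1
    have hel : Cfsg.IsElementaryAbelian 2 (A₁.subgroupOf (S : Subgroup G)) := by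
      refine ⟨inferInstance, ?_⟩
      intro a ha
      obtain ⟨_, ⟨c, hc, rfl⟩, hca⟩ := ha
      apply Subtype.ext
      rw [Subgroup.coe_pow, show (a : G) = _ from hca.symm, ← map_pow, ← map_pow, hA.1.2 c hc, map_one, map_one]
      rfl
    have hcard : Nat.card (A₁.subgroupOf (S : Subgroup G)) = Nat.card A := by
      rw [Nat.card_congr (Subgroup.subgroupOfEquivOfLe hg).toEquiv, hA₁,
        Subgroup.card_map_of_injective (MulAut.conj g).injective, Subgroup.card_map_of_injective hinj]
    -- it is contained in a maximal one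
    obtain ⟨M, hleM, ⟨hM, -⟩, hMmax⟩ : ∃ M, A₁.subgroupOf (S : Subgroup G) ≤ M ∧
        (Cfsg.IsElementaryAbelian 2 M ∧ A₁.subgroupOf (S : Subgroup G) ≤ M) ∧
        ∀ D, Cfsg.IsElementaryAbelian 2 D → M ≤ D → D = M := by
      haveI : Finite (Subgroup ↥(S : Subgroup G)) := inferInstance
      obtain ⟨M, hle, hMmax⟩ := Finite.exists_le_maximal (p := fun C => Cfsg.IsElementaryAbelian 2 C ∧ A₁.subgroupOf (S : Subgroup G) ≤ C) ⟨hel, le_rfl⟩
      exact ⟨M, hle, hMmax.prop, fun D hD hMD => (hMmax.eq_of_le ⟨hD, hle.trans hMD⟩ hMD).symm⟩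
    rcases honly M hM hMmax with rfl | rfl
    · apply hne
      apply Subgroup.eq_of_le_of_card_ge
      · intro a ha
        exact ⟨⟨a, hg ha⟩, hleM ha, rfl⟩
      · rw [Subgroup.card_map_of_injective hinj, hA₁, Subgroup.card_map_of_injective (MulAut.conj g).injective,
          Subgroup.card_map_of_injective hinj]
    · -- conjugate lands in M: Burnside's argument
      set M' := M.map (S : Subgroup G).subtype with hM'
      set A' := A.map (S : Subgroup G).subtype with hA'
      have hSN : ∀ C : Subgroup ↥(S : Subgroup G), C.Normal → (S : Subgroup G) ≤ Subgroup.normalizer ((C.map (S : Subgroup G).subtype : Subgroup G) : Set G) := by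
        intro C hC s hs
        have h1 : C.map (MulAut.conj (⟨s, hs⟩ : ↥(S : Subgroup G))).toMonoidHom = C :=
          Subgroup.mem_normalizer_iff_map_conj_eq.mp (by rw [Subgroup.normalizer_eq_top]; trivial)
        rw [Subgroup.mem_normalizer_iff_map_conj_eq]
        conv_rhs => rw [← h1]
        rw [Subgroup.map_map, Subgroup.map_map]
        rfl
      have hA₁M : A₁ = M' := by
        -- both are maximal elementary abelian subgroups
        refine le_antisymm (fun a ha => ⟨⟨a, hg ha⟩, hleM ha, rfl⟩) ?_
        intro a ha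
        by_contra hna
        -- the preimage of M' under conjugation is elementary abelian above A
        have hlt : A₁ < M' := lt_of_le_of_ne (fun a ha => ⟨⟨a, hg ha⟩, hleM ha, rfl⟩) (fun h => hna (h ▸ ha))
        let E := M'.map (MulAut.conj g⁻¹).toMonoidHom
        have hAE : A' < E := by
          have h1 : A₁.map (MulAut.conj g⁻¹).toMonoidHom = A' := by
            rw [hA₁, Subgroup.map_map]
            convert Subgroup.map_id A' using 2
            ext x; simp [mul_assoc]
          rw [← h1]
          exact (Subgroup.map_lt_map_iff_of_injective (MulAut.conj g⁻¹).injective).mpr hlt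
        haveI : IsMulCommutative E := by
          haveI := hM.1
          infer_instance
        obtain ⟨x, hxE, hxA⟩ := Set.exists_of_ssubset hAE
        have hE2 : ∀ x ∈ E, x ^ 2 = 1 := by
          rintro _ ⟨_, ⟨c, hc, rfl⟩, rfl⟩
          rw [← map_pow, ← map_pow, hM.2 c hc, map_one, map_one]
        -- E is a 2-group, so conjugate it into S above A
        have hE : IsPGroup 2 E := fun y => ⟨1, Subtype.ext (by simpa using hE2 y y.2)⟩
        set N := Subgroup.normalizer (A' : Set G) with hN'
        have hEN : E ≤ N := fun y hy => by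
          rw [hN', Subgroup.mem_normalizer_iff]
          have hcm : ∀ u ∈ E, y * u = u * y := fun u hu => setLike_mul_comm hy hu
          intro u
          constructor
          · intro hu
            rwa [hcm u (hAE.le hu), mul_inv_cancel_right]
          · intro hu
            have := hcm _ (hAE.le hu)
            have h2 : y * u * y⁻¹ = u := by
              calc y * u * y⁻¹ = y⁻¹ * (y * (y * u * y⁻¹)) := by group
                _ = y⁻¹ * ((y * u * y⁻¹) * y) := by rw [this]
                _ = u := by group
            rwa [h2] at hu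
        obtain ⟨Q, hQ⟩ := (hE.comap_subtype (K := N)).exists_le_sylow
        obtain ⟨n, hn⟩ := MulAction.exists_smul_eq N Q (S.subtype (hSN A hAn))
        have hxS : ∀ y ∈ E, (n : G) * y * (n : G)⁻¹ ∈ (S : Subgroup G) := by
          intro y hy
          have : n * ⟨y, hEN hy⟩ * n⁻¹ ∈ ((n • Q : Sylow 2 N) : Subgroup N) := by
            rw [Sylow.coe_subgroup_smul, Subgroup.mem_pointwise_smul_iff_inv_smul_mem]
            simpa [mul_assoc] using hQ (show (⟨y, hEN hy⟩ : N) ∈ E.comap N.subtype from hy)
          rw [hn] at this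
          exact this
        let E' := (E.map (MulAut.conj (n : G)).toMonoidHom).subgroupOf (S : Subgroup G)
        have hE' : Cfsg.IsElementaryAbelian 2 E' := by
          refine ⟨inferInstance, ?_⟩
          intro a ha
          obtain ⟨c, hc, hca⟩ := ha
          apply Subtype.ext
          rw [Subgroup.coe_pow, show (a : G) = _ from hca.symm, ← map_pow, hE2 c hc, map_one]
          rfl
        have hnA : A'.map (MulAut.conj (n : G)).toMonoidHom = A' := Subgroup.mem_normalizer_iff_map_conj_eq.mp n.2
        have hle : A ≤ E' := by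
          intro a ha
          show (a : G) ∈ E.map (MulAut.conj (n : G)).toMonoidHom
          have : (a : G) ∈ A'.map (MulAut.conj (n : G)).toMonoidHom := by rw [hnA]; exact ⟨a, ha, rfl⟩
          exact Subgroup.map_mono hAE.le this
        have hx' : (n : G) * x * (n : G)⁻¹ ∈ A' := by
          refine ⟨⟨_, hxS x hxE⟩, ?_, rfl⟩
          rw [← hA.2 E' hE' hle]
          exact ⟨x, hxE, rfl⟩
        exact hxA ((Subgroup.mem_normalizer_iff.mp n.2 x).mpr hx')
      -- now S and its conjugate are Sylow in the normalizer of M'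
      set N := Subgroup.normalizer (M' : Set G) with hNdef
      have hgS : ∀ s ∈ (S : Subgroup G), g * s * g⁻¹ ∈ N := by
        intro s hs
        have h1 : A'.map (MulAut.conj s).toMonoidHom = A' := Subgroup.mem_normalizer_iff_map_conj_eq.mp (hSN A hAn hs)
        rw [hNdef, Subgroup.mem_normalizer_iff_map_conj_eq, ← hA₁M, hA₁]
        show (A'.map (MulAut.conj g).toMonoidHom).map (MulAut.conj (g * s * g⁻¹)).toMonoidHom = A'.map (MulAut.conj g).toMonoidHom
        conv_rhs => rw [← h1]
        rw [cm, cm, inv_mul_cancel_right]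
      obtain ⟨n, hn⟩ := MulAction.exists_smul_eq N ((g • S).subtype (N := N) (by
        rintro _ ⟨s, hs, rfl⟩; exact hgS s hs)) (S.subtype (hSN M hBn))
      have hk : (n : G) * g ∈ Subgroup.normalizer ((S : Subgroup G) : Set G) := by
        rw [Sylow.smul_subtype] at hn
        have h2 := Sylow.subtype_injective hn
        rw [show (n • g • S) = ((n : G) * g) • S from (mul_smul (n : G) g S).symm] at h2
        exact Sylow.smul_eq_iff_mem_normalizer.mp h2
      have h3 := Subgroup.mem_normalizer_iff_map_conj_eq.mp (hN _ hk)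
      apply hne
      have h4 : A'.map (MulAut.conj ((n : G) * g)).toMonoidHom = M' := by
        rw [← cc, ← Subgroup.map_map]
        show A₁.map (MulAut.conj (n : G)).toMonoidHom = M'
        rw [hA₁M]
        exact Subgroup.mem_normalizer_iff_map_conj_eq.mp n.2
      have h3' : A'.map (MulAut.conj ((n : G) * g)).toMonoidHom = A' := h3
      rw [h3'] at h4
      rw [hA₁M, h4]
  have honly' : ∀ C : Subgroup ↥(S : Subgroup G), Cfsg.IsElementaryAbelian 2 C →
      (∀ D : Subgroup ↥(S : Subgroup G), Cfsg.IsElementaryAbelian 2 D → C ≤ D → D = C) → C = B ∨ C = A :=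
    fun C h1 h2 => (honly C h1 h2).symm
  exact ⟨weak A B hAn hBn honly hA fun g hg => (hNS g hg).1,
    weak B A hBn hAn honly' hB fun g hg => (hNS g hg).2,
    fun g hg => ⟨(hNS g hg).1, (hNS g hg).2⟩⟩

end Cfsg.Agent.S3203
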