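import Cfsg.Statements.S3208
import Mathlib

set_option autoImplicit false
open Cfsg

namespace Cfsg.Agent.S3208

/-- Let j be an involution of a finite group G, H a subgroup of G, and T a Sylow 2-subgroup of H ∩ C_G(j) containing j such that ⟨j⟩ is a characteristic subgroup of T. Then T is a Sylow 2-subgroup of H. -/
theorem result {G : Type*} [Group G] [Finite G]
    (j : G) (hj : orderOf j = 2) (H T : Subgroup G) (hT : T ≤ H ⊓ Subgroup.centralizer ({j} : Set G)) (h2 : IsPGroup 2 ↥T)
    (hSyl : ¬ 2 ∣ T.relIndex (H ⊓ Subgroup.centralizer ({j} : Set G))) (hjT : j ∈ T)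
    (hchar : ((Subgroup.zpowers j).subgroupOf T).Characteristic) :
    ¬ 2 ∣ T.relIndex H := by
  haveI : Fact (Nat.Prime 2) := ⟨Nat.prime_two⟩
  intro hdvd
  have hTH : T ≤ H := hT.trans inf_le_left
  have hT2 : IsPGroup 2 (T.subgroupOf H) := h2.comap_subtype
  obtain ⟨k, hk⟩ := hT2.exists_card_eq
  have hmod := Sylow.card_quotient_normalizer_modEq_card_quotient hk
  have h0 : 2 ∣ (T.subgroupOf H).relIndex (Subgroup.normalizer ((T.subgroupOf H : Subgroup H) : Set H)) := by
    rw [Subgroup.relIndex, Subgroup.index_eq_card]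
    exact (hmod.dvd_iff (dvd_refl 2)).mpr (by rw [← Subgroup.index_eq_card]; exact hdvd)
  refine hSyl (h0.trans ?_)
  have hN : (Subgroup.normalizer ((T.subgroupOf H : Subgroup H) : Set H)).map H.subtype ≤
      H ⊓ Subgroup.centralizer ({j} : Set G) := by
    rintro _ ⟨⟨g, hgH⟩, hg, rfl⟩
    refine ⟨hgH, ?_⟩
    show g ∈ Subgroup.centralizer ({j} : Set G)
    rw [Subgroup.mem_centralizer_singleton_iff]
    simp only [SetLike.mem_coe, Subgroup.mem_normalizer_iff] at hg
    have hgT : g ∈ Subgroup.normalizer (T : Set G) := by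
      rw [Subgroup.mem_normalizer_iff]
      intro a
      constructor
      · intro ha
        exact (hg ⟨a, hTH ha⟩).mp ha
      · intro ha
        have haH : a ∈ H := by
          have := hTH ha
          have h3 := H.mul_mem (H.mul_mem (H.inv_mem hgH) this) hgH
          simpa [mul_assoc] using h3
        exact (hg ⟨a, haH⟩).mpr ha
    have hz : Subgroup.zpowers j ≤ T := Subgroup.zpowers_le.mpr hjT
    have hfix := Subgroup.characteristic_iff_map_eq.mp hchar (T.normalizerMonoidHom ⟨g, hgT⟩)
    have hmem : ((T.normalizerMonoidHom ⟨g, hgT⟩) ⟨j, hjT⟩) ∈ (Subgroup.zpowers j).subgroupOf T :=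
      hfix ▸ Subgroup.mem_map_of_mem _ (Subgroup.mem_zpowers j)
    have hmem' : g * j * g⁻¹ ∈ Subgroup.zpowers j := hmem
    obtain ⟨i, hi, hi'⟩ : ∃ i, i < orderOf j ∧ j ^ i = g * j * g⁻¹ := by
      obtain ⟨i, hi⟩ := mem_powers_iff_mem_zpowers.mpr hmem'
      exact ⟨i % orderOf j, Nat.mod_lt _ (orderOf_pos j), by rw [pow_mod_orderOf]; exact hi⟩
    rw [hj] at hi
    interval_cases i
    · simp only [pow_zero] at hi'
      have : j = 1 := by simpa using hi'.symm
      simp [this] at hj
    · rw [pow_one] at hi'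
      show g * j = j * g
      conv_rhs => rw [hi']
      group
  calc (T.subgroupOf H).relIndex (Subgroup.normalizer ((T.subgroupOf H : Subgroup H) : Set H))
      = T.relIndex ((Subgroup.normalizer ((T.subgroupOf H : Subgroup H) : Set H)).map H.subtype) := by
        rw [Subgroup.subgroupOf, Subgroup.relIndex_comap]
    _ ∣ T.relIndex (H ⊓ Subgroup.centralizer ({j} : Set G)) := by
        refine Dvd.intro _ (Subgroup.relIndex_mul_relIndex _ _ _ ?_ hN)
        exact fun a ha => ⟨⟨a, hTH ha⟩, Subgroup.le_normalizer ha, rfl⟩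

end Cfsg.Agent.S3208
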