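import Cfsg.Statements.S3209
import Cfsg.Agent.Lib.Classical.SL2Fours

set_option autoImplicit false
open Cfsg

namespace Cfsg.Agent.S3209

open Matrix in
theorem sq_one {F : Type*} [Field F] (h2 : (2 : F) ≠ 0) (g : Matrix.SpecialLinearGroup (Fin 2) F)
    (hg : g * g = 1) : g = 1 ∨ g = -1 := by
  have e : (g : Matrix (Fin 2) (Fin 2) F) * (g : Matrix (Fin 2) (Fin 2) F) = 1 := by
    rw [← CfsgLib.Classical.sl2_coe_mul, hg]; simp
  have hd := g.2
  rw [det_fin_two] at hd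
  have h00 := congrFun (congrFun e 0) 0
  have h01 := congrFun (congrFun e 0) 1
  have h10 := congrFun (congrFun e 1) 0
  have h11 := congrFun (congrFun e 1) 1
  simp [Matrix.mul_apply, Fin.sum_univ_two] at h00 h01 h10 h11
  set a := (g : Matrix (Fin 2) (Fin 2) F) 0 0 with ha
  set b := (g : Matrix (Fin 2) (Fin 2) F) 0 1 with hb
  set c := (g : Matrix (Fin 2) (Fin 2) F) 1 0 with hc
  set d := (g : Matrix (Fin 2) (Fin 2) F) 1 1 with hd'
  have had : a + d ≠ 0 := fun h => by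
    have : (2 : F) = 0 := by linear_combination -h00 - hd + a * h
    exact h2 this
  have hb0 : b = 0 := (mul_eq_zero.1 (show b * (a + d) = 0 by linear_combination h01)).resolve_right had
  have hc0 : c = 0 := (mul_eq_zero.1 (show c * (a + d) = 0 by linear_combination h10)).resolve_right had
  rw [hb0, zero_mul, add_zero] at h00
  rw [hb0, zero_mul, sub_zero] at hd
  rcases mul_self_eq_one_iff.1 h00 with h | h
  · left
    refine CfsgLib.Classical.sl2_ext ?_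
    rw [h, one_mul] at hd
    ext i j; fin_cases i <;> fin_cases j <;> simp [← ha, ← hb, ← hc, ← hd', h, hd, hb0, hc0]
  · right
    refine CfsgLib.Classical.sl2_ext ?_
    rw [h, neg_one_mul, neg_eq_iff_eq_neg] at hd
    ext i j; fin_cases i <;> fin_cases j <;> simp [← ha, ← hb, ← hc, ← hd', h, hd, hb0, hc0]

theorem two_ne_zero' {F : Type*} [Field F] [Fintype F] (hF : Odd (Fintype.card F)) : (2 : F) ≠ 0 :=
  Ring.two_ne_zero (fun h => Nat.not_even_iff_odd.2 hF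
    (Nat.even_iff.2 (FiniteField.even_card_of_char_two h)))


theorem sl2J_sq {F : Type*} [Field F] :
    (CfsgLib.Classical.sl2J : Matrix.SpecialLinearGroup (Fin 2) F) * CfsgLib.Classical.sl2J = -1 :=
  (CfsgLib.Classical.sl2_mul_self_eq_neg_one_iff _).2 (by
    simp [CfsgLib.Classical.sl2J, Matrix.trace_fin_two])

theorem pair_key {G : Type*} [Group G] {F : Type*} [Field F] (h2 : (2 : F) ≠ 0) (L : Subgroup G)
    (e : ↥L ≃* Matrix.SpecialLinearGroup (Fin 2) F) (j : G) (hjj : j * j = 1) (hj1 : j ≠ 1) (hjL : j ∈ L) :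
    e ⟨j, hjL⟩ = -1 ∧ ∀ a ∈ L, a * a = 1 → a = 1 ∨ a = j := by
  have hej : e ⟨j, hjL⟩ = -1 := by
    rcases sq_one h2 (e ⟨j, hjL⟩) (by
      rw [← map_mul, show (⟨j, hjL⟩ : L) * ⟨j, hjL⟩ = 1 from Subtype.ext hjj, map_one]) with h | h
    · exact absurd (congrArg Subtype.val (e.injective (h.trans (map_one e).symm))) hj1
    · exact h
  refine ⟨hej, fun a ha haa => ?_⟩
  rcases sq_one h2 (e ⟨a, ha⟩) (by
    rw [← map_mul, show (⟨a, ha⟩ : L) * ⟨a, ha⟩ = 1 from Subtype.ext haa, map_one]) with h | h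
  · exact Or.inl (congrArg Subtype.val (e.injective (h.trans (map_one e).symm)))
  · exact Or.inr (congrArg Subtype.val (e.injective (h.trans hej.symm)))

/-- Let L₁ ≅ SL₂(q₁) and L₂ ≅ SL₂(q₂), q₁ and q₂ odd, be elementwise-commuting subgroups of a finite group meeting in ⟨j⟩ for an involution j. Then L₁L₂ has exactly two conjugacy classes of involutions: the central involution j, and one further class (there is an involution x ≠ j in L₁L₂, and every involution of L₁L₂ other than j is conjugate to x by an element of L₁L₂). -/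
theorem result {G : Type*} [Group G] [Finite G]
    {F₁ : Type*} [Field F₁] [Fintype F₁] {F₂ : Type*} [Field F₂] [Fintype F₂]
    (hF₁ : Odd (Fintype.card F₁)) (hF₂ : Odd (Fintype.card F₂)) (L₁ L₂ : Subgroup G)
    (e₁ : ↥L₁ ≃* Matrix.SpecialLinearGroup (Fin 2) F₁) (e₂ : ↥L₂ ≃* Matrix.SpecialLinearGroup (Fin 2) F₂)
    (hc : ∀ x ∈ L₁, ∀ y ∈ L₂, x * y = y * x) (j : G) (hj : orderOf j = 2) (hm : L₁ ⊓ L₂ = Subgroup.zpowers j) :
    ∃ x ∈ L₁ ⊔ L₂, orderOf x = 2 ∧ x ≠ j ∧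
      ∀ y ∈ L₁ ⊔ L₂, orderOf y = 2 → y = j ∨ ∃ g ∈ L₁ ⊔ L₂, g * x * g⁻¹ = y := by
  have h21 := two_ne_zero' hF₁
  have h22 := two_ne_zero' hF₂
  have hjj : j * j = 1 := by rw [← pow_two, ← hj, pow_orderOf_eq_one]
  have hj1 : j ≠ 1 := fun h => by simp [h] at hj
  have hjm : j ∈ L₁ ⊓ L₂ := hm ▸ Subgroup.mem_zpowers j
  obtain ⟨hej₁, hu₁⟩ := pair_key h21 L₁ e₁ j hjj hj1 hjm.1
  obtain ⟨hej₂, hu₂⟩ := pair_key h22 L₂ e₂ j hjj hj1 hjm.2
  set a₀ : G := ((e₁.symm CfsgLib.Classical.sl2J : L₁) : G) with ha₀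
  set b₀ : G := ((e₂.symm CfsgLib.Classical.sl2J : L₂) : G) with hb₀
  have ha₀2 : a₀ * a₀ = j := by
    rw [ha₀, ← Subgroup.coe_mul, ← map_mul, sl2J_sq, ← hej₁, e₁.symm_apply_apply]
  have hb₀2 : b₀ * b₀ = j := by
    rw [hb₀, ← Subgroup.coe_mul, ← map_mul, sl2J_sq, ← hej₂, e₂.symm_apply_apply]
  have ha₀L : a₀ ∈ L₁ := SetLike.coe_mem _
  have hb₀L : b₀ ∈ L₂ := SetLike.coe_mem _
  have hsq : ∀ a ∈ L₁, ∀ b ∈ L₂, a * b * (a * b) = a * a * (b * b) := fun a ha b hb =>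
    (show Commute b a from (hc a ha b hb).symm).mul_mul_mul_comm a b
  have hxne : ∀ a ∈ L₁, ∀ b ∈ L₂, a * a = j → a * b = j → False := by
    intro a ha b hb haa hab
    have hbj : b = a⁻¹ * j := by rw [← hab, inv_mul_cancel_left]
    have haL2 : a ∈ L₂ := by
      have : a⁻¹ = b * j⁻¹ := by rw [hbj, mul_inv_cancel_right]
      exact inv_mem_iff.1 (this ▸ L₂.mul_mem hb (L₂.inv_mem hjm.2))
    have hin : a ∈ L₁ ⊓ L₂ := Subgroup.mem_inf.2 ⟨ha, haL2⟩
    rw [hm] at hin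
    obtain ⟨k, rfl⟩ := Subgroup.mem_zpowers_iff.1 hin
    rw [← zpow_add] at haa
    apply hj1
    rw [← haa, ← two_mul, zpow_mul, zpow_ofNat, pow_two, hjj, one_zpow]
  have hxx : a₀ * b₀ * (a₀ * b₀) = 1 := by rw [hsq _ ha₀L _ hb₀L, ha₀2, hb₀2, hjj]
  have hx1 : a₀ * b₀ ≠ 1 := by
    intro h
    refine hxne a₀ ha₀L (b₀ * j) (L₂.mul_mem hb₀L hjm.2) ha₀2 ?_
    rw [← mul_assoc, h, one_mul]
  refine ⟨a₀ * b₀, mul_mem (Subgroup.mem_sup_left ha₀L) (Subgroup.mem_sup_right hb₀L),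
    orderOf_eq_prime (by rw [pow_two, hxx]) hx1, fun h => hxne _ ha₀L _ hb₀L ha₀2 h, fun y hy hy2 => ?_⟩
  have hcomm : L₁ ≤ Subgroup.normalizer (L₂ : Set G) := fun a ha =>
    Subgroup.centralizer_le_normalizer _ (Subgroup.mem_centralizer_iff.2 fun b hb => (hc a ha b hb).symm)
  obtain ⟨a, ha, b, hb, rfl⟩ : ∃ a ∈ L₁, ∃ b ∈ L₂, a * b = y := by
    rw [← SetLike.mem_coe, Subgroup.coe_mul_of_left_le_normalizer_right _ _ hcomm] at hy
    exact hy
  have hyy : a * a * (b * b) = 1 := by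
    rw [← hsq a ha b hb, ← pow_two, ← hy2, pow_orderOf_eq_one]
  have hmem : a * a ∈ L₁ ⊓ L₂ := ⟨L₁.mul_mem ha ha, by
    rw [eq_inv_of_mul_eq_one_left hyy]; exact L₂.inv_mem (L₂.mul_mem hb hb)⟩
  rw [hm] at hmem
  obtain ⟨k, hk⟩ := Subgroup.mem_zpowers_iff.1 hmem
  have hcase : a * a = 1 ∨ a * a = j := by
    rcases Int.even_or_odd k with ⟨i, rfl⟩ | ⟨i, rfl⟩
    · left; rw [← hk, ← two_mul, zpow_mul, zpow_ofNat, pow_two, hjj, one_zpow]
    · right; rw [← hk, zpow_add, zpow_mul, zpow_ofNat, pow_two, hjj, one_zpow, one_mul, zpow_one]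
  rcases hcase with h | h
  · left
    rw [h, one_mul] at hyy
    have hy1 : a * b ≠ 1 := fun e => by simp [e] at hy2
    rcases hu₁ a ha h with rfl | rfl <;> rcases hu₂ b hb hyy with rfl | rfl <;> simp_all
  · right
    have hbb : b * b = j := by
      rw [h] at hyy
      rw [← one_mul (b * b), ← hjj, mul_assoc, hyy, mul_one]
    obtain ⟨g₁, hg₁⟩ := CfsgLib.Classical.sl2_trace_zero_conj h21 sl2J_sq
      (y := e₁ ⟨a, ha⟩) (by rw [← map_mul, ← hej₁]; exact congrArg e₁ (Subtype.ext h))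
    obtain ⟨g₂, hg₂⟩ := CfsgLib.Classical.sl2_trace_zero_conj h22 sl2J_sq
      (y := e₂ ⟨b, hb⟩) (by rw [← map_mul, ← hej₂]; exact congrArg e₂ (Subtype.ext hbb))
    set u : G := ((e₁.symm g₁ : L₁) : G) with hu
    set v : G := ((e₂.symm g₂ : L₂) : G) with hv
    have hua : u * a₀ * u⁻¹ = a := by
      have := congrArg (fun z => ((e₁.symm z : L₁) : G)) hg₁
      simpa [hu, ha₀] using this
    have hvb : v * b₀ * v⁻¹ = b := by
      have := congrArg (fun z => ((e₂.symm z : L₂) : G)) hg₂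
      simpa [hv, hb₀] using this
    have huL : u ∈ L₁ := SetLike.coe_mem _
    have hvL : v ∈ L₂ := SetLike.coe_mem _
    refine ⟨u * v, mul_mem (Subgroup.mem_sup_left huL) (Subgroup.mem_sup_right hvL), ?_⟩
    rw [← hua, ← hvb]
    calc u * v * (a₀ * b₀) * (u * v)⁻¹ = u * (v * a₀) * b₀ * v⁻¹ * u⁻¹ := by group
      _ = u * (a₀ * v) * b₀ * v⁻¹ * u⁻¹ := by rw [← hc a₀ ha₀L v hvL]
      _ = u * a₀ * ((v * b₀ * v⁻¹) * u⁻¹) := by group
      _ = u * a₀ * (u⁻¹ * (v * b₀ * v⁻¹)) := by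
          rw [hc u⁻¹ (L₁.inv_mem huL) _ (L₂.mul_mem (L₂.mul_mem hvL hb₀L) (L₂.inv_mem hvL))]
      _ = _ := by group

end Cfsg.Agent.S3209
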