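import Cfsg.Statements.S3210
import Cfsg.Agent.Lib.Characterizations.SL2PairFactors

set_option autoImplicit false
open Cfsg

namespace Cfsg.Agent.S3210

theorem not_small {G : Type*} [Group G] {K : Type*} [Field K] (L : Subgroup G)
    (e : ↥L ≃* Matrix.SpecialLinearGroup (Fin 2) K) (h2 : (2 : K) ≠ 0) (x : G)
    (hall : ∀ y ∈ L, y = 1 ∨ y = x) : False := by
  obtain ⟨u, v, huv⟩ := CfsgLib.Characterizations.SL2PairFactors.exists_noncomm h2
  apply huv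
  apply e.symm.injective
  apply Subtype.ext
  rw [map_mul, map_mul, Subgroup.coe_mul, Subgroup.coe_mul]
  rcases hall _ (SetLike.coe_mem (e.symm u)) with h | h <;>
    rcases hall _ (SetLike.coe_mem (e.symm v)) with h' | h' <;> simp [h, h']

/-- Let G be a finite group with subgroups L₁ ≅ SL₂(q₁) and L₂ ≅ SL₂(q₂), q₁ and q₂ odd prime powers, which commute elementwise and meet in ⟨j⟩ for an involution j, and suppose L₁L₂ has index 2 in C_G(j). Then every element n of C_G(j) outside L₁L₂ either normalizes both L₁ and L₂, or conjugates L₁ onto L₂; in the second case q₁ = q₂ and there is an element n′ of C_G(j) outside L₁L₂ conjugating L₁ onto L₂ with n′² ∈ ⟨j⟩. -/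
theorem result {G : Type*} [Group G] [Finite G]
    {F₁ : Type*} [Field F₁] [Fintype F₁] {F₂ : Type*} [Field F₂] [Fintype F₂]
    (hF₁ : Odd (Fintype.card F₁)) (hF₂ : Odd (Fintype.card F₂)) (L₁ L₂ : Subgroup G)
    (e₁ : ↥L₁ ≃* Matrix.SpecialLinearGroup (Fin 2) F₁) (e₂ : ↥L₂ ≃* Matrix.SpecialLinearGroup (Fin 2) F₂)
    (hc : ∀ x ∈ L₁, ∀ y ∈ L₂, x * y = y * x) (j : G) (hj : orderOf j = 2) (hm : L₁ ⊓ L₂ = Subgroup.zpowers j)
    (hle : L₁ ⊔ L₂ ≤ Subgroup.centralizer ({j} : Set G)) (hi : (L₁ ⊔ L₂).relIndex (Subgroup.centralizer ({j} : Set G)) = 2) (n : G) (hn : n ∈ Subgroup.centralizer ({j} : Set G)) (hn' : n ∉ L₁ ⊔ L₂) :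
    (L₁.map (MulAut.conj n).toMonoidHom = L₁ ∧ L₂.map (MulAut.conj n).toMonoidHom = L₂) ∨
      (L₁.map (MulAut.conj n).toMonoidHom = L₂ ∧ Fintype.card F₁ = Fintype.card F₂ ∧
        ∃ n' ∈ Subgroup.centralizer ({j} : Set G), n' ∉ L₁ ⊔ L₂ ∧ L₁.map (MulAut.conj n').toMonoidHom = L₂ ∧ n' ^ 2 ∈ Subgroup.zpowers j) := by
  classical
  have h21 : (2 : F₁) ≠ 0 :=
    Ring.two_ne_zero (fun h => Nat.not_even_iff_odd.2 hF₁ (Nat.even_iff.2 (FiniteField.even_card_of_char_two h)))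
  have h22 : (2 : F₂) ≠ 0 :=
    Ring.two_ne_zero (fun h => Nat.not_even_iff_odd.2 hF₂ (Nat.even_iff.2 (FiniteField.even_card_of_char_two h)))
  have hjj : j * j = 1 := by rw [← pow_two, ← hj, pow_orderOf_eq_one]
  have hj1 : j ≠ 1 := fun h => by simp [h] at hj
  have hjm : j ∈ L₁ ⊓ L₂ := hm ▸ Subgroup.mem_zpowers j
  have hint : ∀ x, x ∈ L₁ → x ∈ L₂ → x = 1 ∨ x = j := fun x h1 h2 => by
    have h : x ∈ Subgroup.zpowers j := hm ▸ Subgroup.mem_inf.2 ⟨h1, h2⟩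
    obtain ⟨k, rfl⟩ := Subgroup.mem_zpowers_iff.1 h
    rcases Int.even_or_odd k with ⟨i, rfl⟩ | ⟨i, rfl⟩
    · left; rw [← two_mul, zpow_mul, zpow_ofNat, pow_two, hjj, one_zpow]
    · right; rw [zpow_add, zpow_mul, zpow_ofNat, pow_two, hjj, one_zpow, one_mul, zpow_one]
  set C := Subgroup.centralizer ({j} : Set G) with hC
  have hmemC : ∀ {x y : G}, x ∈ C → y ∈ C → (x * y ∈ L₁ ⊔ L₂ ↔ (x ∈ L₁ ⊔ L₂ ↔ y ∈ L₁ ⊔ L₂)) := by
    intro x y hx hy
    have := Subgroup.mul_mem_iff_of_index_two (H := (L₁ ⊔ L₂).subgroupOf C) hi (a := ⟨x, hx⟩) (b := ⟨y, hy⟩)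
    simpa [Subgroup.mem_subgroupOf] using this
  have hjn : n * j * n⁻¹ = j := by
    rw [Subgroup.mem_centralizer_singleton_iff.1 hn, mul_inv_cancel_right]
  set f := (MulAut.conj n).toMonoidHom with hf
  have hfi : Function.Injective f := (MulAut.conj n).injective
  set R := L₁.map f with hR
  set S := L₂.map f with hS
  have hRS : ∀ x ∈ R, ∀ y ∈ S, x * y = y * x := by
    rintro _ ⟨a, ha, rfl⟩ _ ⟨b, hb, rfl⟩
    rw [← map_mul, hc a ha b hb, map_mul]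
  have hjR : j ∈ R := ⟨j, hjm.1, hjn⟩
  have hjS : j ∈ S := ⟨j, hjm.2, hjn⟩
  have hintRS : ∀ x, x ∈ R → x ∈ S → x = 1 ∨ x = j := by
    rintro _ ⟨a, ha, rfl⟩ ⟨b, hb, hab⟩
    obtain rfl := hfi hab
    rcases hint b ha hb with rfl | rfl
    · exact Or.inl (map_one f)
    · exact Or.inr hjn
  have hnorm : ∀ x ∈ L₁ ⊔ L₂, n * x * n⁻¹ ∈ L₁ ⊔ L₂ := fun x hx => by
    rw [hmemC (C.mul_mem hn (hle hx)) (C.inv_mem hn), hmemC hn (hle hx), inv_mem_iff]
    tauto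
  have heq : R ⊔ S = L₁ ⊔ L₂ := by
    rw [hR, hS, ← Subgroup.map_sup]
    refine Subgroup.eq_of_le_of_card_ge ?_ (le_of_eq ?_)
    · rintro _ ⟨x, hx, rfl⟩; exact hnorm x hx
    · exact Nat.card_congr (Subgroup.equivMapOfInjective _ f hfi).toEquiv
  have hc' : ∀ x ∈ L₂, ∀ y ∈ L₁, x * y = y * x := fun x hx y hy => (hc y hy x hx).symm
  have h1 := CfsgLib.Characterizations.SL2PairFactors.le_or_le h21 h22 L₁ L₂ R S e₁ e₂ hc hRS hjj hj1 hjR hjS hjm.1 hjm.2 hintRS heq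
  have h2 := CfsgLib.Characterizations.SL2PairFactors.le_or_le h22 h21 L₂ L₁ R S e₂ e₁ hc' hRS hjj hj1 hjR hjS hjm.2 hjm.1 hintRS
    (by rw [heq, sup_comm])
  have hsub : ∀ {A B P T : Subgroup G}, A ≤ P → B ≤ T → P ⊔ T = A ⊔ B → j ∈ A →
      (∀ x ∈ A, ∀ y ∈ B, x * y = y * x) → (∀ x, x ∈ P → x ∈ T → x = 1 ∨ x = j) → P = A := by
    intro A B P T hA hB he hjA hAB hPT
    refine le_antisymm (fun x hx => ?_) hA
    obtain ⟨a, ha, b, hb, rfl⟩ := CfsgLib.Characterizations.SL2PairFactors.exists_mul_of_mem_sup hAB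
      (he ▸ Subgroup.mem_sup_left hx)
    refine A.mul_mem ha ?_
    rcases hPT b (by simpa using P.mul_mem (P.inv_mem (hA ha)) hx) (hB hb) with h | h <;> rw [h]
    exacts [A.one_mem, hjA]
  rcases h1 with h1 | h1 <;> rcases h2 with h2 | h2
  · exfalso
    refine not_small L₂ e₂ h22 j fun y hy => ?_
    have hSR : S ≤ R := (le_sup_right (a := R)).trans (heq.le.trans (sup_le h1 h2))
    rcases hintRS (f y) (hSR ⟨y, hy, rfl⟩) ⟨y, hy, rfl⟩ with h | h
    · exact Or.inl (hfi (h.trans (map_one f).symm))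
    · exact Or.inr (hfi (h.trans hjn.symm))
  · left
    exact ⟨hsub h1 h2 heq hjm.1 hc hintRS,
      hsub h2 h1 (by rw [sup_comm, heq, sup_comm]) hjm.2 hc' (fun x a b => hintRS x b a)⟩
  · right
    have hRL : R = L₂ := hsub h2 h1 (by rw [heq, sup_comm]) hjm.2 hc' hintRS
    have hSL : S = L₁ := hsub h1 h2 (by rw [sup_comm, heq]) hjm.1 hc (fun x a b => hintRS x b a)
    refine ⟨hRL, ?_, ?_⟩
    · have hcard : Nat.card L₁ = Nat.card L₂ := by
        rw [← hRL]; exact Nat.card_congr (Subgroup.equivMapOfInjective _ f hfi).toEquiv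
      rw [Nat.card_congr e₁.toEquiv, Nat.card_congr e₂.toEquiv, CfsgLib.Classical.card_sl2',
        CfsgLib.Classical.card_sl2'] at hcard
      have hmono : ∀ a b : ℕ, 2 ≤ a → a < b → a * ((a - 1) * (a + 1)) < b * ((b - 1) * (b + 1)) :=
        fun a b ha hab => Nat.mul_lt_mul'' hab (Nat.mul_lt_mul'' (by omega) (by omega))
      have ha : 2 ≤ Fintype.card F₁ := Fintype.one_lt_card
      have hb : 2 ≤ Fintype.card F₂ := Fintype.one_lt_card
      rcases lt_trichotomy (Fintype.card F₁) (Fintype.card F₂) with h | h | h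
      · exact absurd hcard (hmono _ _ ha h).ne
      · exact h
      · exact absurd hcard (hmono _ _ hb h).ne'
    · have hn2 : n * n ∈ L₁ ⊔ L₂ := (hmemC hn hn).2 Iff.rfl
      obtain ⟨a, ha, b, hb, hab⟩ := CfsgLib.Characterizations.SL2PairFactors.exists_mul_of_mem_sup hc hn2
      have hn'C : n * a⁻¹ ∈ C := C.mul_mem hn (C.inv_mem (hle (Subgroup.mem_sup_left ha)))
      have hn'mem : n * a⁻¹ ∉ L₁ ⊔ L₂ := fun h => hn' (by
        simpa using (L₁ ⊔ L₂).mul_mem h (Subgroup.mem_sup_left ha))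
      have hmap : L₁.map (MulAut.conj (n * a⁻¹)).toMonoidHom = L₂ := by
        rw [← hRL]
        refine le_antisymm ?_ ?_
        · rintro _ ⟨x, hx, rfl⟩
          exact ⟨a⁻¹ * x * a, L₁.mul_mem (L₁.mul_mem (L₁.inv_mem ha) hx) ha, by
            simp [f, MulAut.conj_apply, mul_assoc]⟩
        · rintro _ ⟨x, hx, rfl⟩
          exact ⟨a * x * a⁻¹, L₁.mul_mem (L₁.mul_mem ha hx) (L₁.inv_mem ha), by
            simp [f, MulAut.conj_apply, mul_assoc]⟩
      refine ⟨n * a⁻¹, hn'C, hn'mem, hmap, ?_⟩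
      have hX : n⁻¹ * a⁻¹ * n ∈ L₂ := by
        have hnC' : ∀ x ∈ L₁, n⁻¹ * x * n ∈ L₂ := fun x hx => by
          rw [← hSL] at hx
          obtain ⟨y, hy, rfl⟩ := hx
          simpa [f, MulAut.conj_apply, mul_assoc] using hy
        exact hnC' _ (L₁.inv_mem ha)
      have hsq2 : (n * a⁻¹) ^ 2 = b * (n⁻¹ * a⁻¹ * n) := by
        calc (n * a⁻¹) ^ 2 = n * n * (n⁻¹ * a⁻¹ * n) * a⁻¹ := by rw [pow_two]; group
          _ = a * (b * (n⁻¹ * a⁻¹ * n)) * a⁻¹ := by rw [← hab]; group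
          _ = b * (n⁻¹ * a⁻¹ * n) := by
              rw [hc a ha _ (L₂.mul_mem hb hX), mul_inv_cancel_right]
      have hL2 : (n * a⁻¹) ^ 2 ∈ L₂ := hsq2 ▸ L₂.mul_mem hb hX
      have hL1 : (n * a⁻¹) ^ 2 ∈ L₁ := by
        have h2' := hL2
        rw [← hmap] at h2'
        obtain ⟨x, hx, hxe⟩ := h2'
        have : x = (n * a⁻¹) ^ 2 := by
          have h3 : (n * a⁻¹) * x * (n * a⁻¹)⁻¹ = (n * a⁻¹) ^ 2 := hxe
          calc x = (n * a⁻¹)⁻¹ * ((n * a⁻¹) * x * (n * a⁻¹)⁻¹) * (n * a⁻¹) := by group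
            _ = (n * a⁻¹) ^ 2 := by rw [h3, mul_assoc, ← pow_succ, pow_succ', inv_mul_cancel_left]
        exact this ▸ hx
      exact hm ▸ Subgroup.mem_inf.2 ⟨hL1, hL2⟩
  · exfalso
    refine not_small L₁ e₁ h21 j fun y hy => ?_
    have hRS' : R ≤ S := (le_sup_left (b := S)).trans (heq.le.trans (sup_le h1 h2))
    rcases hintRS (f y) ⟨y, hy, rfl⟩ (hRS' ⟨y, hy, rfl⟩) with h | h
    · exact Or.inl (hfi (h.trans (map_one f).symm))
    · exact Or.inr (hfi (h.trans hjn.symm))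

end Cfsg.Agent.S3210
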