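import Cfsg.Statements.S3211
import Cfsg.Agent.Lib.Characterizations.WreathedSLTwo
import Cfsg.Agent.Lib.KnownA.SL2Products.PSL
import Cfsg.Agent.Lib.KnownB.GL2.Classes
-- import your own Cfsg.Agent.* helpers here

set_option autoImplicit false
open Cfsg

namespace Cfsg.Agent.S3211

open scoped MatrixGroups
open CfsgLib CfsgLib.KnownB.GL2 CfsgLib.Classical

section SLFacts

variable {F : Type*} [Field F] [Fintype F]

theorem trace_zero (h2 : (2 : F) ≠ 0) {x : SL(2, F)} (h : x * x = -1) :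
    (x : Matrix (Fin 2) (Fin 2) F).trace = 0 ∧ ¬ Scal (x : Matrix (Fin 2) (Fin 2) F) := by
  have hns : ¬ Scal (x : Matrix (Fin 2) (Fin 2) F) := fun hs => by
    rcases (KnownA.SL2Torus.scal_iff_pm x).1 hs with rfl | rfl
    · rw [one_mul] at h; exact sl2_neg_ne_one h2 h.symm
    · rw [KnownA.SL2Torus.neg_one_sq'] at h; exact sl2_neg_ne_one h2 h.symm
  refine ⟨?_, hns⟩
  have h1 := sl2_sq x
  rw [← Matrix.SpecialLinearGroup.coe_mul, h, Matrix.SpecialLinearGroup.coe_neg,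
    Matrix.SpecialLinearGroup.coe_one, eq_comm, sub_eq_neg_self, smul_eq_zero] at h1
  refine h1.resolve_right fun h0 => ?_
  have := x.2
  rw [h0] at this
  simp at this

theorem sl_conj (h2 : (2 : F) ≠ 0) {x y : SL(2, F)} (hx : x * x = -1) (hy : y * y = -1) :
    ∃ h, h * x * h⁻¹ = y := by
  obtain ⟨hx0, hxs⟩ := trace_zero h2 hx
  obtain ⟨hy0, hys⟩ := trace_zero h2 hy
  refine isConj_iff.1 (sl_isConj_of_trace hxs hys (hx0.trans hy0.symm) (Or.inl ?_))
  rw [hx0, dsc]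
  have : (-(2 * 2) : F) ≠ 0 := neg_ne_zero.2 (mul_ne_zero h2 h2)
  convert this using 1
  ring

theorem sl_anti (h2 : (2 : F) ≠ 0) {a x : SL(2, F)} (h : x * a = a * x * -1) : x * x = -1 := by
  apply KnownA.SL2Products.square_eq_neg_one
  have h1 : x = -(a * x * a⁻¹) := by
    calc x = x * a * a⁻¹ := by group
      _ = _ := by rw [h, mul_neg, mul_one, neg_mul]
  have h3 := congrArg (fun z : SL(2, F) => (z : Matrix (Fin 2) (Fin 2) F).trace) h1
  simp only [Matrix.SpecialLinearGroup.coe_neg, Matrix.trace_neg,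
    KnownA.SL2Torus.trace_conj] at h3
  have h4 : (2 : F) * (x : Matrix (Fin 2) (Fin 2) F).trace = 0 := by linear_combination h3
  exact (mul_eq_zero.1 h4).resolve_left h2

theorem sl_comm (h2 : (2 : F) ≠ 0) {a x y : SL(2, F)} (ha : a * a = -1) (hx : x * a = a * x)
    (hy : y * a = a * y) : x * y = y * x := by
  obtain ⟨p, q, hpq⟩ := exists_of_commute (trace_zero h2 ha).2 (congrArg Subtype.val hx :)
  obtain ⟨u, v, huv⟩ := exists_of_commute (trace_zero h2 ha).2 (congrArg Subtype.val hy :)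
  apply Subtype.ext
  show (x : Matrix (Fin 2) (Fin 2) F) * y = y * x
  rw [hpq, huv]
  simp only [Matrix.add_mul, Matrix.mul_add, Matrix.smul_mul, Matrix.mul_smul, Matrix.one_mul,
    Matrix.mul_one, smul_smul]
  module

theorem exists_root : ∃ a : SL(2, F), a * a = -1 := by
  exact ⟨mkSL !![0, 1; -1, 0] (by simp [Matrix.det_fin_two]),
    KnownA.SL2Products.square_eq_neg_one (by simp [mkSL, Matrix.trace_fin_two])⟩

end SLFacts

theorem main {G : Type*} [Group G] [Finite G] {F : Type*} [Field F] [Fintype F]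
    (hF : Odd (Fintype.card F)) (L₁ L₂ : Subgroup G)
    (e : ↥L₁ ≃* Matrix.SpecialLinearGroup (Fin 2) F)
    (hc : ∀ x ∈ L₁, ∀ y ∈ L₂, x * y = y * x) (j : G) (hj : orderOf j = 2)
    (hm : L₁ ⊓ L₂ = Subgroup.zpowers j)
    (hle : L₁ ⊔ L₂ ≤ Subgroup.centralizer ({j} : Set G))
    (hi : (L₁ ⊔ L₂).relIndex (Subgroup.centralizer ({j} : Set G)) = 2) (n : G)
    (hn : n ∈ Subgroup.centralizer ({j} : Set G)) (hn2 : n ^ 2 = j)
    (hswap : L₁.map (MulAut.conj n).toMonoidHom = L₂) :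
    Subgroup.centralizer ({j} : Set G) ⊔ Cfsg.oddCore G = ⊤ := by
  classical
  have h2 : (2 : F) ≠ 0 := KnownA.SL2Torus.two_ne_zero_of_odd' hF
  have hjj : j * j = 1 := by rw [← pow_two, ← hj, pow_orderOf_eq_one]
  have hj1 : j ≠ 1 := fun h => by simp [h] at hj
  have hjL : j ∈ L₁ := (Subgroup.mem_inf.1 (hm ▸ Subgroup.mem_zpowers j)).1
  have hej : e ⟨j, hjL⟩ = -1 := by
    refine sl2_eq_neg_one h2 (fun h => hj1 ?_) ?_
    · exact congrArg Subtype.val ((map_eq_one_iff e e.injective).1 h)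
    · rw [← map_mul, show (⟨j, hjL⟩ : L₁) * ⟨j, hjL⟩ = 1 from Subtype.ext hjj, map_one]
  have tr : ∀ x : L₁, (x : G) * x = j ↔ e x * e x = -1 := fun x => by
    rw [← hej, ← map_mul, e.injective.eq_iff, ← Subtype.coe_inj]; rfl
  have hθ : ∀ {y : G}, y ∈ L₁ → n * y * n⁻¹ ∈ L₂ := fun {y} hy => hswap ▸ ⟨y, hy, rfl⟩
  have hinter : ∀ x ∈ L₁, ∀ y ∈ L₁, x = n * y * n⁻¹ → x = 1 ∨ x = j := by
    intro x hx y hy h
    have hmem : x ∈ Subgroup.zpowers j := hm ▸ ⟨hx, h ▸ hθ hy⟩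
    obtain ⟨k, rfl⟩ := Subgroup.mem_zpowers_iff.1 hmem
    rcases Int.even_or_odd k with ⟨i, rfl⟩ | ⟨i, rfl⟩
    · left; rw [← two_mul, zpow_mul, zpow_ofNat, pow_two, hjj, one_zpow]
    · right; rw [zpow_add, zpow_mul, zpow_ofNat, pow_two, hjj, one_zpow, one_mul, zpow_one]
  have hθmem : ∀ w ∈ L₂, ∃ y ∈ L₁, w = n * y * n⁻¹ := fun w hw => by
    rw [← hswap] at hw
    obtain ⟨y, hy, rfl⟩ := hw
    exact ⟨y, hy, rfl⟩
  have hsupdec : ∀ c ∈ L₁ ⊔ L₂, ∃ x ∈ L₁, ∃ y ∈ L₁, c = x * (n * y * n⁻¹) := by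
    intro c hc'
    rw [← SetLike.mem_coe, Subgroup.coe_mul_of_right_le_normalizer_left L₁ L₂ (fun w hw =>
      Subgroup.centralizer_le_normalizer _ (Subgroup.mem_centralizer_iff.2 fun x hx => hc x hx w hw))]
      at hc'
    obtain ⟨x, hx, w, hw, rfl⟩ := hc'
    obtain ⟨y, hy, rfl⟩ := hθmem w hw
    exact ⟨x, hx, y, hy, rfl⟩
  have hnout : ∀ x ∈ L₁, ∀ y ∈ L₁, n ≠ x * (n * y * n⁻¹) := by
    intro x hx y hy h
    obtain ⟨A, hA⟩ := exists_root (F := F)
    set a : L₁ := e.symm A with ha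
    have ha2 : (a : G) * a = j := (tr a).2 (by rw [ha, e.apply_symm_apply, hA])
    have key : n * (a : G) * n⁻¹ = x * a * x⁻¹ := by
      calc n * (a : G) * n⁻¹ = x * ((n * y * n⁻¹) * a) * (n * y * n⁻¹)⁻¹ * x⁻¹ := by
            conv_lhs => rw [h]
            group
        _ = x * (a * (n * y * n⁻¹)) * (n * y * n⁻¹)⁻¹ * x⁻¹ := by rw [hc a a.2 _ (hθ hy)]
        _ = _ := by group
    rcases hinter _ (L₁.mul_mem (L₁.mul_mem hx a.2) (L₁.inv_mem hx)) a a.2 key.symm with e' | e'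
    · rw [conj_eq_one_iff.1 e', one_mul] at ha2
      exact hj1 ha2.symm
    · have hjx : j * x = x * j := (Subgroup.mem_centralizer_singleton_iff.1
        (hle (Subgroup.mem_sup_left hx))).symm
      have : (a : G) = j := by
        calc (a : G) = x⁻¹ * (x * a * x⁻¹) * x := by group
          _ = x⁻¹ * (j * x) := by rw [e', mul_assoc]
          _ = j := by rw [hjx, inv_mul_cancel_left]
      rw [this, hjj] at ha2
      exact hj1 ha2.symm
  have D : Characterizations.WreathedSLTwo.Data L₁ j n :=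
  { jL := hjL
    j1 := hj1
    j2 := hjj
    jc := fun x hx => Subgroup.mem_centralizer_singleton_iff.1 (hle (Subgroup.mem_sup_left hx))
    inv := fun x hx h => by
      by_cases h1 : e ⟨x, hx⟩ = 1
      · exact Or.inl (congrArg Subtype.val ((map_eq_one_iff e e.injective).1 h1))
      · right
        have h2' : e ⟨x, hx⟩ * e ⟨x, hx⟩ = 1 := by
          rw [← map_mul, show (⟨x, hx⟩ : L₁) * ⟨x, hx⟩ = 1 from Subtype.ext h, map_one]
        exact congrArg Subtype.val (e.injective ((sl2_eq_neg_one h2 h1 h2').trans hej.symm))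
    conj := fun x hx y hy hx2 hy2 => by
      obtain ⟨h, hh⟩ := sl_conj h2 ((tr ⟨x, hx⟩).1 hx2) ((tr ⟨y, hy⟩).1 hy2)
      refine ⟨e.symm h, (e.symm h).2, ?_⟩
      have : e.symm h * ⟨x, hx⟩ * (e.symm h)⁻¹ = ⟨y, hy⟩ := e.injective (by
        rw [map_mul, map_mul, map_inv, e.apply_symm_apply, hh])
      exact congrArg Subtype.val this
    anti := fun a ha x hx _ hxa => (tr ⟨x, hx⟩).2 (sl_anti h2 (a := e ⟨a, ha⟩) (by
      rw [← hej, ← map_mul, ← map_mul, ← map_mul]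
      exact congrArg e (Subtype.ext hxa)))
    comm := fun a ha x hx y hy ha2 hxa hya => by
      have : (⟨x, hx⟩ : L₁) * ⟨y, hy⟩ = ⟨y, hy⟩ * ⟨x, hx⟩ := e.injective (by
        rw [map_mul, map_mul]
        refine sl_comm h2 ((tr ⟨a, ha⟩).1 ha2) ?_ ?_
        · rw [← map_mul, ← map_mul]; exact congrArg e (Subtype.ext hxa)
        · rw [← map_mul, ← map_mul]; exact congrArg e (Subtype.ext hya))
      exact congrArg Subtype.val this
    hcomm := fun x hx y hy => hc x hx _ (hθ hy)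
    inter := hinter
    nn := by rw [← pow_two, hn2]
    dec := fun c hcj => by
      set C := Subgroup.centralizer ({j} : Set G)
      have hcC : c ∈ C := Subgroup.mem_centralizer_singleton_iff.2 hcj
      have hnN : (⟨n, hn⟩ : C)⁻¹ ∉ (L₁ ⊔ L₂).subgroupOf C := by
        rw [Subgroup.inv_mem_iff]
        intro h
        obtain ⟨x, hx, y, hy, e'⟩ := hsupdec n h
        exact hnout x hx y hy e'
      by_cases h : c ∈ L₁ ⊔ L₂
      · obtain ⟨x, hx, y, hy, rfl⟩ := hsupdec c h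
        exact ⟨x, hx, y, hy, Or.inl rfl⟩
      · have h' : (⟨n, hn⟩ : C)⁻¹ * ⟨c, hcC⟩ ∈ (L₁ ⊔ L₂).subgroupOf C :=
          (Subgroup.mul_mem_iff_of_index_two (H := (L₁ ⊔ L₂).subgroupOf C) hi).2
            (iff_of_false hnN h)
        obtain ⟨x, hx, y, hy, e'⟩ := hsupdec _ h'
        refine ⟨x, hx, y, hy, Or.inr ?_⟩
        rw [← e']
        simp
    nout := hnout }
  exact D.sup_oddCore_eq_top

/-- Let G be a finite group with subgroups L₁ ≅ SL₂(q₁) and L₂ ≅ SL₂(q₂), q₁ and q₂ odd prime powers, which commute elementwise and meet in ⟨j⟩ for an involution j, and suppose L₁L₂ has index 2 in C_G(j). If some n ∈ C_G(j) with n² = j interchanges L₁ and L₂ under conjugation (so that C_G(j) = L₁L₂⟨n⟩), then G = C_G(j)O(G). -/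
theorem result {G : Type*} [Group G] [Finite G]
    {F₁ : Type*} [Field F₁] [Fintype F₁] {F₂ : Type*} [Field F₂] [Fintype F₂]
    (hF₁ : Odd (Fintype.card F₁)) (hF₂ : Odd (Fintype.card F₂)) (L₁ L₂ : Subgroup G)
    (e₁ : ↥L₁ ≃* Matrix.SpecialLinearGroup (Fin 2) F₁) (e₂ : ↥L₂ ≃* Matrix.SpecialLinearGroup (Fin 2) F₂)
    (hc : ∀ x ∈ L₁, ∀ y ∈ L₂, x * y = y * x) (j : G) (hj : orderOf j = 2) (hm : L₁ ⊓ L₂ = Subgroup.zpowers j)
    (hle : L₁ ⊔ L₂ ≤ Subgroup.centralizer ({j} : Set G)) (hi : (L₁ ⊔ L₂).relIndex (Subgroup.centralizer ({j} : Set G)) = 2) (n : G) (hn : n ∈ Subgroup.centralizer ({j} : Set G))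
    (hn2 : n ^ 2 = j) (hswap : L₁.map (MulAut.conj n).toMonoidHom = L₂) :
    Subgroup.centralizer ({j} : Set G) ⊔ Cfsg.oddCore G = ⊤ := by
  exact main hF₁ L₁ L₂ e₁ hc j hj hm hle hi n hn hn2 hswap

end Cfsg.Agent.S3211
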