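import Cfsg.Statements.S3213
import Mathlib.FieldTheory.Finite.Basic
import Mathlib.Algebra.CharP.CharAndCard
import Mathlib.LinearAlgebra.SymplecticGroup
import Mathlib.LinearAlgebra.Dimension.Free
import Mathlib.LinearAlgebra.Matrix.ToLin
import Mathlib.Tactic.LinearCombination
import Mathlib.Tactic.NoncommRing
import Mathlib.Tactic.FieldSimp
import Mathlib.Tactic.NormNum.Prime
-- import your own Cfsg.Agent.* helpers here

set_option autoImplicit false
open Cfsg

namespace Cfsg.Agent.S3213

theorem exists_inverting {K : Type*} [Field K] [Fintype K] (hK : Fintype.card K = 5)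
    (x : Matrix.SpecialLinearGroup (Fin 2) K) (hx : orderOf x = 3) :
    ∃ y : Matrix.SpecialLinearGroup (Fin 2) K, y * x = x⁻¹ * y := by
  haveI : Fact (Nat.Prime 5) := ⟨by norm_num⟩
  haveI : CharP K 5 := charP_of_card_eq_prime hK
  have h5 : (5 : K) = 0 := by exact_mod_cast CharP.cast_eq_zero K 5
  have h3ne : (3 : K) ≠ 0 := by
    intro h
    have h' : ((3 : ℕ) : K) = 0 := by exact_mod_cast h
    exact absurd ((CharP.cast_eq_zero_iff K 5 3).1 h') (by norm_num)
  have hx3 : x ^ 3 = 1 := hx ▸ pow_orderOf_eq_one x
  set a := (x : Matrix (Fin 2) (Fin 2) K) 0 0 with ha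
  set b := (x : Matrix (Fin 2) (Fin 2) K) 0 1 with hb
  set c := (x : Matrix (Fin 2) (Fin 2) K) 1 0 with hc
  set d := (x : Matrix (Fin 2) (Fin 2) K) 1 1 with hd
  have hdet : a * d - b * c = 1 := by
    have := x.2; rwa [Matrix.det_fin_two] at this
  have hb0 : b ≠ 0 := by
    intro hb0
    have hm := congrArg Subtype.val hx3
    rw [Matrix.SpecialLinearGroup.coe_pow, Matrix.SpecialLinearGroup.coe_one, pow_succ, pow_two] at hm
    have h00 := congrFun (congrFun hm 0) 0
    have h10 := congrFun (congrFun hm 1) 0
    have h11 := congrFun (congrFun hm 1) 1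
    simp [Matrix.mul_apply, Fin.sum_univ_two, ← ha, ← hb, ← hc, ← hd, hb0] at h00 h10 h11
    rw [hb0, zero_mul, sub_zero] at hdet
    have ha4 : a ^ 4 = 1 := by
      have := FiniteField.pow_card_sub_one_eq_one a (left_ne_zero_of_mul_eq_one hdet)
      rwa [hK] at this
    have a1 : a = 1 := by linear_combination ha4 - a * h00
    have d1 : d = 1 := by rw [a1, one_mul] at hdet; exact hdet
    have c0 : c = 0 := by
      have h : (3 : K) * c = 0 := by rw [a1, d1] at h10; linear_combination h10
      exact (mul_eq_zero.1 h).resolve_left h3ne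
    have : x = 1 := by
      refine Subtype.ext (Matrix.ext fun i j => ?_)
      rw [Matrix.SpecialLinearGroup.coe_one]
      fin_cases i <;> fin_cases j <;> simp [← ha, ← hb, ← hc, ← hd, a1, d1, c0, hb0]
    rw [this, orderOf_one] at hx
    norm_num at hx
  refine ⟨⟨!![2, 0; -2 * (a - d) / b, -2], ?_⟩, ?_⟩
  · rw [Matrix.det_fin_two_of]; linear_combination -h5
  · refine Subtype.ext ?_
    show !![2, 0; -2 * (a - d) / b, -2] * (x : Matrix (Fin 2) (Fin 2) K)
      = ((x⁻¹ : Matrix.SpecialLinearGroup (Fin 2) K) : Matrix (Fin 2) (Fin 2) K)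
        * !![2, 0; -2 * (a - d) / b, -2]
    rw [Matrix.SpecialLinearGroup.coe_inv, Matrix.adjugate_fin_two]
    ext i j
    fin_cases i <;> fin_cases j <;>
      simp [Matrix.mul_apply, Fin.sum_univ_two, ← ha, ← hb, ← hc, ← hd] <;> field_simp <;> ring

theorem outer_of_finrank_le_one {F : Type*} [Field F] {ι : Type*} [Fintype ι] [DecidableEq ι]
    (A : Matrix ι ι F) (h : Module.finrank F (LinearMap.range (Matrix.toLin' A)) ≤ 1) :
    ∃ a c : ι → F, ∀ i j, A i j = a i * c j := by
  obtain ⟨v, hv⟩ := finrank_le_one_iff.1 h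
  choose c hc using fun j : ι => hv ⟨Matrix.toLin' A (Pi.single j 1), LinearMap.mem_range_self _ _⟩
  refine ⟨(v : ι → F), c, fun i j => ?_⟩
  have := congrFun (congrArg Subtype.val (hc j)) i
  simp only [Submodule.coe_smul, Pi.smul_apply, smul_eq_mul, Matrix.toLin'_apply,
    Matrix.mulVec_single_one] at this
  rw [mul_comm, this]
  rfl

/-- Unipotent elements of order three of `Sp₄(3)` that are inverted. -/
theorem core {F : Type*} [Field F] [Fintype F] (hF : Fintype.card F = 3)
    (U g : Matrix (Fin 2 ⊕ Fin 2) (Fin 2 ⊕ Fin 2) F)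
    (hUJ : U.transpose * Matrix.J (Fin 2) F * U = Matrix.J (Fin 2) F)
    (hgJ : g.transpose * Matrix.J (Fin 2) F * g = Matrix.J (Fin 2) F)
    (hU3 : U * U * U = 1) (hU1 : U ≠ 1) (hg : g * U = U * U * g) :
    Module.finrank F ↥(LinearMap.ker (Matrix.toLin' U - LinearMap.id)) = 2 ∧
      ∀ v w : Fin 2 ⊕ Fin 2 → F, U.mulVec v = v → U.mulVec w = w →
        dotProduct v ((Matrix.J (Fin 2) F).mulVec w) = 0 := by
  haveI : Fact (Nat.Prime 3) := ⟨by norm_num⟩
  haveI : CharP F 3 := charP_of_card_eq_prime hF
  have h3 : (3 : F) = 0 := by exact_mod_cast CharP.cast_eq_zero F 3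
  have h2 : (2 : F) ≠ 0 := by
    intro h
    exact one_ne_zero (show (1 : F) = 0 by linear_combination h3 - h)
  set J := Matrix.J (Fin 2) F with hJdef
  have hJt : J.transpose = -J := Matrix.J_transpose _ _
  have hJJ : J * J = -1 := Matrix.J_squared _ _
  set N := U - 1 with hN
  have hN3s : (3 : F) • N = 0 := by rw [h3, zero_smul]
  have hNN : N * N = U * U + U + 1 := by
    have e : N * N - (U * U + U + 1) = -((3 : F) • U) := by
      rw [hN, show (3 : F) • U = U + U + U by
        rw [show (3 : F) = 1 + 1 + 1 by norm_num, add_smul, add_smul, one_smul]]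
      noncomm_ring
    rw [h3, zero_smul, neg_zero] at e
    exact sub_eq_zero.1 e
  have hN3 : N * N * N = 0 := by
    rw [hNN, hN]
    calc (U * U + U + 1) * (U - 1) = U * U * U - 1 := by noncomm_ring
      _ = 0 := by rw [hU3, sub_self]
  have hUtJ : U.transpose * J = J * (U * U) := by
    calc U.transpose * J = U.transpose * J * (U * U * U) := by rw [hU3, Matrix.mul_one]
      _ = U.transpose * J * U * (U * U) := by noncomm_ring
      _ = _ := by rw [hUJ]
  have hsym : (N * N).transpose * J = J * (N * N) := by
    rw [hNN, Matrix.transpose_add, Matrix.transpose_add, Matrix.transpose_one,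
      Matrix.transpose_mul, Matrix.add_mul, Matrix.add_mul, Matrix.one_mul, Matrix.mul_assoc, hUtJ,
      ← Matrix.mul_assoc, hUtJ]
    calc J * (U * U) * (U * U) + J * (U * U) + J
        = J * ((U * U * U) * U) + J * (U * U) + J := by noncomm_ring
      _ = _ := by rw [hU3, Matrix.one_mul]; noncomm_ring
  have hdim : Module.finrank F (Fin 2 ⊕ Fin 2 → F) = 4 := by
    rw [Module.finrank_pi, Fintype.card_sum, Fintype.card_fin]
  set f := Matrix.toLin' N with hf
  have hkerf := f.finrank_range_add_finrank_ker
  rw [hdim] at hkerf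
  have hNN0 : N * N = 0 := by
    have hf2 : Matrix.toLin' (N * N) = f ∘ₗ f := Matrix.toLin'_mul N N
    have hle : Module.finrank F (LinearMap.range (Matrix.toLin' (N * N))) ≤ 1 := by
      rw [hf2]
      by_contra hlt
      -- the restriction of `f` to its range
      have e1 := (f.domRestrict (LinearMap.range f)).finrank_range_add_finrank_ker
      rw [LinearMap.range_domRestrict, ← LinearMap.range_comp] at e1
      have hk : LinearMap.range (f ∘ₗ f) ≤ LinearMap.ker f := by
        rintro _ ⟨v, rfl⟩
        rw [LinearMap.mem_ker, ← LinearMap.comp_apply, ← hf2, hf, ← Matrix.toLin'_mul,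
          ← Matrix.mul_assoc, hN3, map_zero, LinearMap.zero_apply]
      have e2 : Module.finrank F (LinearMap.range (f ∘ₗ f))
          ≤ Module.finrank F (LinearMap.ker (f.domRestrict (LinearMap.range f))) := by
        have hle' : LinearMap.range (f ∘ₗ f) ≤ LinearMap.range f := LinearMap.range_comp_le_range f f
        refine LinearMap.finrank_le_finrank_of_injective
          (f := (Submodule.inclusion hle').codRestrict (LinearMap.ker (f.domRestrict (LinearMap.range f)))
            fun v => by
              rw [LinearMap.mem_ker, LinearMap.domRestrict_apply]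
              exact LinearMap.mem_ker.1 (hk v.2)) ?_
        intro v w h
        exact Submodule.inclusion_injective hle' (congrArg Subtype.val h)
      have e3 := Submodule.finrank_mono hk
      omega
    obtain ⟨a, c, hac⟩ := outer_of_finrank_le_one _ hle
    set K := J * (N * N) with hKdef
    have hKt : K.transpose = -K := by
      rw [hKdef, Matrix.transpose_mul, hJt, Matrix.mul_neg, hsym]
    have hK : ∀ i j, K i j = (J.mulVec a) i * c j := fun i j => by
      simp only [hKdef, Matrix.mul_apply, Matrix.mulVec, dotProduct, Finset.sum_mul, hac, mul_assoc]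
    have hKz : K = 0 := by
      ext i j
      have hanti : ∀ i j, K j i = -K i j := fun i j => by
        have := congrFun (congrFun hKt i) j
        simpa using this
      have hdiag : K i i = 0 := by
        have := hanti i i
        exact (mul_eq_zero.1 (show (2 : F) * K i i = 0 by linear_combination this)).resolve_left h2
      have hsq : K i j * K i j = 0 := by
        have e := hanti i j
        have hh : K i j * K j i = K i i * K j j := by simp only [hK]; ring
        rw [e, hdiag, zero_mul] at hh
        linear_combination -hh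
      simpa using hsq
    calc N * N = -(J * J) * (N * N) := by rw [hJJ, neg_neg, Matrix.one_mul]
      _ = -(J * K) := by rw [hKdef, Matrix.neg_mul, Matrix.mul_assoc]
      _ = 0 := by rw [hKz, Matrix.mul_zero, neg_zero]
  have hrel : N.transpose * J + J * N + N.transpose * J * N = 0 := by
    have hU : U = N + 1 := by rw [hN, sub_add_cancel]
    rw [hU, Matrix.transpose_add, Matrix.transpose_one] at hUJ
    calc N.transpose * J + J * N + N.transpose * J * N
        = (N.transpose + 1) * J * (N + 1) - J := by noncomm_ring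
      _ = 0 := by rw [hUJ, sub_self]
  have hNJN : N.transpose * J * N = 0 := by
    calc N.transpose * J * N
        = (N.transpose * J + J * N + N.transpose * J * N) * N - (J + N.transpose * J) * (N * N) := by
          noncomm_ring
      _ = 0 := by rw [hrel, hNN0]; simp
  have hsymJN : (J * N).transpose = J * N := by
    rw [hNJN, add_zero] at hrel
    rw [Matrix.transpose_mul, hJt, Matrix.mul_neg, eq_comm, eq_neg_iff_add_eq_zero, add_comm]
    exact hrel
  have hne : N ≠ 0 := sub_ne_zero.2 hU1
  have hrk2 : Module.finrank F (LinearMap.range f) ≤ 2 := by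
    have hk : LinearMap.range f ≤ LinearMap.ker f := by
      rintro _ ⟨v, rfl⟩
      rw [LinearMap.mem_ker, ← LinearMap.comp_apply, hf, ← Matrix.toLin'_mul, hNN0, map_zero,
        LinearMap.zero_apply]
    have := Submodule.finrank_mono hk
    omega
  have hrk : Module.finrank F (LinearMap.range f) = 2 := by
    by_contra hne2
    obtain ⟨a, c, hac⟩ := outer_of_finrank_le_one N (by rw [← hf]; omega)
    set S := J * N with hS
    set b := J.mulVec a with hb
    have hSe : ∀ i j, S i j = b i * c j := fun i j => by
      simp only [hS, hb, Matrix.mul_apply, Matrix.mulVec, dotProduct, Finset.sum_mul, hac, mul_assoc]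
    have hSne : S ≠ 0 := by
      intro h0
      refine hne ?_
      calc N = -(J * J) * N := by rw [hJJ, neg_neg, Matrix.one_mul]
        _ = -(J * S) := by rw [hS, Matrix.neg_mul, Matrix.mul_assoc]
        _ = 0 := by rw [h0, Matrix.mul_zero, neg_zero]
    have hsymS : ∀ i j, b j * c i = b i * c j := fun i j => by
      have := congrFun (congrFun hsymJN i) j
      rw [Matrix.transpose_apply, hSe, hSe] at this
      exact this
    obtain ⟨i, hi⟩ : ∃ i, b i * c i ≠ 0 := by
      by_contra hall
      push Not at hall
      refine hSne (Matrix.ext fun i j => ?_)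
      have h := hsymS i j
      rw [hSe, Matrix.zero_apply]
      have hsq : (b i * c j) * (b i * c j) = 0 := by
        calc (b i * c j) * (b i * c j) = (b i * c j) * (b j * c i) := by rw [h]
          _ = (b i * c i) * (b j * c j) := by ring
          _ = 0 := by rw [hall i, zero_mul]
      exact mul_self_eq_zero.1 hsq
    obtain ⟨hbi, hci⟩ := mul_ne_zero_iff.1 hi
    have hgN : g.transpose * S * g = -S := by
      have hNU : U * U - 1 = -N := by
        have e : U * U - 1 + N = N * N + (3 : F) • N := by
          rw [show (3 : F) • N = N + N + N by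
            rw [show (3 : F) = 1 + 1 + 1 by norm_num, add_smul, add_smul, one_smul], hN]
          noncomm_ring
        rw [hNN0, hN3s, add_zero] at e
        exact eq_neg_of_add_eq_zero_left e
      have hgn : g * N = -(N * g) := by
        calc g * N = g * U - g := by rw [hN]; noncomm_ring
          _ = (U * U - 1) * g := by rw [hg]; noncomm_ring
          _ = _ := by rw [hNU, Matrix.neg_mul]
      have hgn' : N * g = -(g * N) := by rw [hgn, neg_neg]
      calc g.transpose * S * g = g.transpose * J * (N * g) := by rw [hS]; noncomm_ring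
        _ = -(g.transpose * J * g * N) := by rw [hgn']; noncomm_ring
        _ = _ := by rw [hgJ]
    set z := ∑ k, g k i * b k with hz
    have hcl : ∀ l, b i * c l = c i * b l := fun l => by rw [← hsymS i l]; ring
    have he : b i * ((g.transpose * S * g) i i) = c i * (z * z) := by
      simp only [Matrix.mul_apply, Matrix.transpose_apply, hSe, Finset.sum_mul, Finset.mul_sum, hz]
      exact Finset.sum_congr rfl fun l _ => Finset.sum_congr rfl fun k _ => by
        linear_combination (g k i * b k * g l i) * hcl l
    rw [hgN, Matrix.neg_apply, hSe] at he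
    have hz2 : z * z = -(b i * b i) :=
      mul_left_cancel₀ hci (by linear_combination -he)
    have hsq1 : ∀ w : F, w ≠ 0 → w * w = 1 := fun w hw => by
      have := FiniteField.pow_card_sub_one_eq_one w hw
      rw [hF] at this; simpa [pow_two] using this
    have hz0 : z ≠ 0 := fun h0 => hbi (mul_self_eq_zero.1 (by
      rw [h0, mul_zero] at hz2; linear_combination hz2))
    rw [hsq1 z hz0, hsq1 _ hbi] at hz2
    exact h2 (by linear_combination hz2)
  have hkeq : Matrix.toLin' U - LinearMap.id = f := by
    rw [hf, hN, map_sub, Matrix.toLin'_one]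
  refine ⟨by rw [hkeq]; omega, fun v w hv hw => ?_⟩
  have hrange : LinearMap.range f = LinearMap.ker f := by
    refine Submodule.eq_of_le_of_finrank_eq ?_ (by omega)
    rintro _ ⟨u, rfl⟩
    rw [LinearMap.mem_ker, ← LinearMap.comp_apply, hf, ← Matrix.toLin'_mul, hNN0, map_zero,
      LinearMap.zero_apply]
  have hmem : ∀ u : Fin 2 ⊕ Fin 2 → F, U.mulVec u = u → u ∈ LinearMap.range f := fun u hu => by
    rw [hrange, LinearMap.mem_ker, hf, Matrix.toLin'_apply, hN, Matrix.sub_mulVec, hu,
      Matrix.one_mulVec, sub_self]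
  obtain ⟨v', rfl⟩ := hmem v hv
  obtain ⟨w', rfl⟩ := hmem w hw
  rw [hf, Matrix.toLin'_apply, Matrix.toLin'_apply, dotProduct_comm, Matrix.dotProduct_mulVec,
    ← Matrix.mulVec_transpose, Matrix.mulVec_mulVec, Matrix.mulVec_mulVec, hNJN,
    Matrix.zero_mulVec, zero_dotProduct]

/-- Let F be the field with 3 elements and K the field with 5 elements. For every injective homomorphism φ from SL₂(K) into the symplectic group Sp₄(F) (4 × 4 matrices g with g J gᵀ = J for the standard alternating matrix J) and every element x of order 3 of SL₂(K), the vectors of F⁴ fixed by φ(x) form a 2-dimensional subspace that is totally isotropic for the alternating form defined by J. -/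
theorem result {F : Type*} [Field F] [Fintype F] (hF : Fintype.card F = 3)
    {K : Type*} [Field K] [Fintype K] (hK : Fintype.card K = 5)
    (φ : Matrix.SpecialLinearGroup (Fin 2) K →* ↥(Matrix.symplecticGroup (Fin 2) F)) (hφ : Function.Injective φ)
    (x : Matrix.SpecialLinearGroup (Fin 2) K) (hx : orderOf x = 3) :
    Module.finrank F ↥(LinearMap.ker (Matrix.toLin' ((φ x : Matrix (Fin 2 ⊕ Fin 2) (Fin 2 ⊕ Fin 2) F)) - LinearMap.id)) = 2 ∧
      ∀ v w : Fin 2 ⊕ Fin 2 → F, (φ x : Matrix (Fin 2 ⊕ Fin 2) (Fin 2 ⊕ Fin 2) F).mulVec v = v →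
        (φ x : Matrix (Fin 2 ⊕ Fin 2) (Fin 2 ⊕ Fin 2) F).mulVec w = w →
          dotProduct v ((Matrix.J (Fin 2) F).mulVec w) = 0 := by
  obtain ⟨y, hy⟩ := exists_inverting hK x hx
  have hx3 : x * x * x = 1 := by
    have := pow_orderOf_eq_one x
    rwa [hx, pow_succ, pow_two] at this
  refine core hF _ (φ y : Matrix (Fin 2 ⊕ Fin 2) (Fin 2 ⊕ Fin 2) F)
    (SymplecticGroup.mem_iff'.1 (φ x).2) (SymplecticGroup.mem_iff'.1 (φ y).2) ?_ ?_ ?_
  · have := congrArg (fun z => (φ z : Matrix (Fin 2 ⊕ Fin 2) (Fin 2 ⊕ Fin 2) F)) hx3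
    simpa using this
  · intro h
    have : x = 1 := hφ (Subtype.ext (by rw [map_one]; exact h))
    rw [this, orderOf_one] at hx
    norm_num at hx
  · have hinv : x⁻¹ = x * x := inv_eq_of_mul_eq_one_left hx3
    rw [hinv] at hy
    have := congrArg (fun z => (φ z : Matrix (Fin 2 ⊕ Fin 2) (Fin 2 ⊕ Fin 2) F)) hy
    simpa using this

end Cfsg.Agent.S3213
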