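import Cfsg.Statements.S3215
import Cfsg.Agent.Lib.Solvable.Cores
import Cfsg.Agent.Lib.Fusion.PSolvable
import Cfsg.Agent.Lib.Coprime.Generation
import Cfsg.Agent.Lib.FrobRealize.Quaternion
import Mathlib

set_option autoImplicit false
set_option linter.unusedSectionVars false
open Cfsg

namespace Cfsg.Agent.S3215

open Subgroup

variable {H : Type*} [Group H] [Finite H]

lemma odd_orderOf_of_mem {X : Subgroup H} (hX : Odd (Nat.card X)) {x : H} (hx : x ∈ X) :
    Odd (orderOf x) :=
  hX.of_dvd_nat (Subgroup.orderOf_mk x hx ▸ orderOf_dvd_natCard (⟨x, hx⟩ : X))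

lemma eq_one_of_odd_twoPow {G : Type*} [Group G] {a : G} {k n : ℕ} (hn : Odd n)
    (h1 : a ^ (2 ^ k) = 1) (h2 : a ^ n = 1) : a = 1 := by
  have hc : Nat.Coprime (2 ^ k) n := Nat.Coprime.pow_left _ (Nat.coprime_two_left.mpr hn)
  have := pow_gcd_eq_one.2 ⟨h1, h2⟩
  rwa [hc.gcd_eq_one, pow_one] at this

/-- A nontrivial element of 2-power order has an involution among its powers. -/
lemma exists_involution_pow {y : H} {Y : Subgroup H} (hY : IsPGroup 2 Y) (hy : y ∈ Y) (hy1 : y ≠ 1) :
    ∃ n : ℕ, orderOf (y ^ n) = 2 := by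
  obtain ⟨k, hk⟩ := IsPGroup.iff_orderOf.1 hY ⟨y, hy⟩
  rw [Subgroup.orderOf_mk] at hk
  cases k with
  | zero => exact absurd (orderOf_eq_one_iff.1 (by simpa using hk)) hy1
  | succ k =>
    refine ⟨2 ^ k, ?_⟩
    rw [orderOf_pow' _ (by positivity), hk,
      Nat.gcd_eq_right (by rw [pow_succ]; exact Dvd.intro _ rfl), pow_succ,
      Nat.mul_div_cancel_left _ (by positivity)]

/-- An odd-order element commuting with an involution is trivial. -/
lemma eq_one_of_commute (hsol : Group.IsSolvable H) (hO : Cfsg.oddCore H = ⊥)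
    (hI : ∀ t : H, orderOf t = 2 → Cfsg.HasNormalPComplement 2 ↥(centralizer ({t} : Set H)))
    {x t : H} (hx : Odd (orderOf x)) (ht : orderOf t = 2) (hxt : x * t = t * x) : x = 1 := by
  haveI := hsol
  set Y := Cfsg.pCore 2 H with hYdef
  have hY2 : IsPGroup 2 Y := CfsgLib.Solvable.Cores.isPGroup_pCore 2
  haveI hYn : Y.Normal := inferInstance
  have hCY : centralizer (Y : Set H) ≤ Y :=
    CfsgLib.Fusion.PSolvable.centralizer_pCore_le CfsgLib.Fusion.PSolvable.psolvable_of_solvable hO
  -- `x` centralises `C_Y(t)` for every involution `t` commuting with `x`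
  have step : ∀ t : H, orderOf t = 2 → x * t = t * x →
      ∀ y ∈ Y, t * y = y * t → x * y = y * x := by
    intro t ht hxt y hy hyt
    obtain ⟨P, N, hNn, hc⟩ := hI t ht
    have hxC : x ∈ centralizer ({t} : Set H) := mem_centralizer_singleton_iff.2 hxt
    have hyC : y ∈ centralizer ({t} : Set H) := mem_centralizer_singleton_iff.2 hyt.symm
    obtain ⟨m, hm⟩ := IsPGroup.iff_card.1 P.isPGroup'
    have hNodd : Odd (Nat.card N) := by
      rw [← hc.index_eq_card]
      exact Nat.odd_iff.2 (Nat.two_dvd_ne_zero.1 P.not_dvd_index)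
    haveI := hNn
    have hxN : (⟨x, hxC⟩ : centralizer ({t} : Set H)) ∈ N := by
      rw [← QuotientGroup.eq_one_iff]
      refine eq_one_of_odd_twoPow hx (k := m) ?_ ?_
      · rw [← hm, ← hc.symm.index_eq_card, Subgroup.index_eq_card]
        exact pow_card_eq_one'
      · rw [← QuotientGroup.mk_pow, ← orderOf_mk x hxC, pow_orderOf_eq_one]; rfl
    set a : centralizer ({t} : Set H) := ⟨x, hxC⟩ * ⟨y, hyC⟩ * (⟨x, hxC⟩)⁻¹ * (⟨y, hyC⟩)⁻¹ with ha
    have haN : a ∈ N := by
      rw [ha, mul_assoc, mul_assoc]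
      refine mul_mem hxN ?_
      rw [← mul_assoc]
      exact hNn.conj_mem _ (inv_mem hxN) _
    have haY : (a : H) ∈ Y := by
      show x * y * x⁻¹ * y⁻¹ ∈ Y
      exact mul_mem (hYn.conj_mem y hy x) (inv_mem hy)
    obtain ⟨j, hj⟩ := hY2 ⟨_, haY⟩
    have hj' : a ^ 2 ^ j = 1 := by
      apply Subtype.ext
      simpa using congrArg Subtype.val hj
    have : a = 1 := eq_one_of_odd_twoPow hNodd hj'
      (orderOf_dvd_iff_pow_eq_one.1 (Subgroup.orderOf_mk a haN ▸ orderOf_dvd_natCard (⟨a, haN⟩ : N)))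
    have h2 : x * y * x⁻¹ * y⁻¹ = 1 := congrArg Subtype.val this
    rw [mul_inv_eq_one, mul_inv_eq_iff_eq_mul] at h2
    exact h2
  -- an involution of `Y` commuting with `t`
  have hYne : Y ≠ ⊥ := by
    intro h
    have ht1 : t = 1 := by
      have : t ∈ Y := hCY (mem_centralizer_iff.2 fun b hb => by
        rw [SetLike.mem_coe, h, mem_bot] at hb
        simp [hb])
      rwa [h, mem_bot] at this
    rw [ht1, orderOf_one] at ht
    omega
  obtain ⟨b, hbY, hbt, hb1⟩ : ∃ b ∈ Y, t * b = b * t ∧ b ≠ 1 := by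
    haveI : Fintype Y := Fintype.ofFinite Y
    have hdvd : 2 ∣ Fintype.card Y := by
      rw [Fintype.card_eq_nat_card]
      obtain ⟨k, hk⟩ := IsPGroup.iff_card.1 hY2
      rw [hk]
      refine dvd_pow_self 2 ?_
      rintro rfl
      exact hYne (Subgroup.card_eq_one.1 (by simpa using hk))
    let σ : Equiv.Perm Y := (MulAut.conjNormal t : MulAut Y).toEquiv
    have hσ : σ ^ 2 ^ 1 = 1 := by
      refine Equiv.ext fun y => Subtype.ext ?_
      show t * (t * (y : H) * t⁻¹) * t⁻¹ = (y : H)
      have h2 : t * t = 1 := by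
        rw [← pow_two]
        simpa [ht] using pow_orderOf_eq_one t
      have h3 : t⁻¹ = t := inv_eq_of_mul_eq_one_right h2
      rw [h3, ← mul_assoc, ← mul_assoc, h2, one_mul, mul_assoc, h2, mul_one]
    obtain ⟨b, hb, hb1⟩ := Equiv.Perm.exists_fixed_point_of_prime' hdvd hσ
      (a := (1 : Y)) (map_one (MulAut.conjNormal t : MulAut Y))
    refine ⟨b, b.2, ?_, fun h => hb1 (Subtype.ext h)⟩
    have h4 : t * (b : H) * t⁻¹ = b := congrArg Subtype.val hb
    exact mul_inv_eq_iff_eq_mul.1 h4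
  obtain ⟨n, hn⟩ := exists_involution_pow hY2 hbY hb1
  set t' := b ^ n with ht'
  have ht'Y : t' ∈ Y := pow_mem hbY n
  have hxt' : x * t' = t' * x :=
    step t ht hxt t' ht'Y ((show Commute t b from hbt).pow_right n).eq
  have hcen := step t' hn hxt'
  -- `D = C_Y(x)` is everything
  set D : Subgroup Y := (centralizer ({x} : Set H)).subgroupOf Y with hD
  have hmemD : ∀ y : Y, y ∈ D ↔ (y : H) * x = x * y := fun y => by
    rw [hD, mem_subgroupOf, mem_centralizer_singleton_iff]
  have hDtop : D = ⊤ := by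
    haveI : Group.IsNilpotent Y := hY2.isNilpotent
    by_contra hne
    have hlt := Group.normalizerCondition_of_isNilpotent D (lt_top_iff_ne_top.2 hne)
    obtain ⟨u, hu, huD⟩ := SetLike.exists_of_lt hlt
    apply huD
    let c : Y := ⟨(u : H)⁻¹ * (x * u * x⁻¹), mul_mem (inv_mem u.2) (hYn.conj_mem _ u.2 x)⟩
    have hcD : c ∈ D := by
      rw [hmemD]
      refine (hcen (c : H) c.2 ?_).symm
      have hd : (⟨t', ht'Y⟩ : Y) ∈ D := (hmemD _).2 hxt'.symm
      have hd1 : u * ⟨t', ht'Y⟩ * u⁻¹ ∈ D := (Subgroup.mem_normalizer_iff.1 hu _).1 hd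
      rw [hmemD] at hd1
      have e1 : (u : H) * t' * (u : H)⁻¹ * x = x * ((u : H) * t' * (u : H)⁻¹) := hd1
      show t' * ((u : H)⁻¹ * (x * u * x⁻¹)) = (u : H)⁻¹ * (x * u * x⁻¹) * t'
      have e2 : x⁻¹ * t' = t' * x⁻¹ := ((show Commute x t' from hxt').inv_left).eq
      calc t' * ((u : H)⁻¹ * (x * u * x⁻¹))
          = (u : H)⁻¹ * (((u : H) * t' * (u : H)⁻¹ * x) * u * x⁻¹) := by group
        _ = (u : H)⁻¹ * ((x * ((u : H) * t' * (u : H)⁻¹)) * u * x⁻¹) := by rw [e1]
        _ = (u : H)⁻¹ * (x * u * (t' * x⁻¹)) := by group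
        _ = (u : H)⁻¹ * (x * u * x⁻¹) * t' := by rw [← e2]; group
    rw [hmemD] at hcD
    have hcx : Commute (c : H) x := hcD
    have hconj : (u : H)⁻¹ * x * u = c * x := by
      show _ = (u : H)⁻¹ * (x * u * x⁻¹) * x
      group
    have hcn : (c : H) ^ orderOf x = 1 := by
      have h0 : ((u : H)⁻¹ * x * u) ^ orderOf x = 1 := by
        have h00 : (u : H)⁻¹ * x * u = (u : H)⁻¹ * x * ((u : H)⁻¹)⁻¹ := by rw [inv_inv]
        rw [h00, conj_pow, pow_orderOf_eq_one, mul_one, mul_inv_cancel]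
      rwa [hconj, hcx.mul_pow, pow_orderOf_eq_one, mul_one] at h0
    obtain ⟨j, hj⟩ := hY2 c
    have hc1 : (c : H) = 1 :=
      eq_one_of_odd_twoPow hx (by simpa using congrArg Subtype.val hj) hcn
    rw [hmemD]
    have h5 : (u : H)⁻¹ * (x * u * x⁻¹) = 1 := hc1
    rw [inv_mul_eq_one, eq_mul_inv_iff_mul_eq] at h5
    exact h5
  have hxY : x ∈ Y := hCY (mem_centralizer_iff.2 fun y hy => by
    have : (⟨y, hy⟩ : Y) ∈ D := hDtop ▸ mem_top _
    exact (hmemD _).1 this)
  obtain ⟨j, hj⟩ := hY2 ⟨x, hxY⟩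
  exact eq_one_of_odd_twoPow hx (by simpa using congrArg Subtype.val hj) (pow_orderOf_eq_one x)

/-- Odd `p`-subgroups are cyclic. -/
lemma isCyclic_odd_pSubgroup (hsol : Group.IsSolvable H) (hO : Cfsg.oddCore H = ⊥)
    (hI : ∀ t : H, orderOf t = 2 → Cfsg.HasNormalPComplement 2 ↥(centralizer ({t} : Set H)))
    {p : ℕ} [hp : Fact p.Prime] (hp2 : p ≠ 2) {R : Subgroup H} (hR : IsPGroup p R) :
    IsCyclic R := by
  haveI := hsol
  set Y := Cfsg.pCore 2 H with hYdef
  have hY2 : IsPGroup 2 Y := CfsgLib.Solvable.Cores.isPGroup_pCore 2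
  haveI hYn : Y.Normal := inferInstance
  have hCY : centralizer (Y : Set H) ≤ Y :=
    CfsgLib.Fusion.PSolvable.centralizer_pCore_le CfsgLib.Fusion.PSolvable.psolvable_of_solvable hO
  have hpodd : Odd p := hp.out.odd_of_ne_two hp2
  refine (CfsgLib.FrobRealize.Quaternion.cyclic_or_quaternion hR ?_).resolve_right
    (fun h => hp2 h.1)
  by_contra hmany
  push Not at hmany
  rcases subsingleton_or_nontrivial R with hs | hnt
  · have h1 : Nat.card {x : R // x ^ p = 1} ≤ 1 := Finite.card_le_one_iff_subsingleton.2 inferInstance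
    have := hp.out.two_le
    omega
  obtain ⟨z₀, hz₀⟩ : ∃ z₀ : center R, z₀ ≠ 1 := by
    haveI := hR.center_nontrivial
    exact exists_ne 1
  obtain ⟨k, hk⟩ := IsPGroup.iff_orderOf.1 (hR.to_subgroup (center R)) z₀
  cases k with
  | zero => exact hz₀ (orderOf_eq_one_iff.1 (by simpa using hk))
  | succ k =>
  set z : R := ((z₀ ^ p ^ k : center R) : R) with hz
  have hzp : orderOf z = p := by
    rw [hz, Subgroup.orderOf_coe, orderOf_pow' _ (pow_ne_zero _ hp.out.ne_zero), hk,
      Nat.gcd_eq_right (by rw [pow_succ]; exact Dvd.intro _ rfl), pow_succ,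
      Nat.mul_div_cancel_left _ (pow_pos hp.out.pos _)]
  obtain ⟨x, hxp, hxz⟩ : ∃ x : R, x ^ p = 1 ∧ x ∉ zpowers z := by
    by_contra h
    push Not at h
    have := Nat.card_le_card_of_injective
      (fun x : {x : R // x ^ p = 1} => (⟨x.1, h x.1 x.2⟩ : zpowers z))
      (fun a b e => Subtype.ext (congrArg (fun w : zpowers z => (w : R)) e))
    rw [Nat.card_zpowers, hzp] at this
    omega
  have hzx : Commute (x : H) (z : H) :=
    congrArg Subtype.val (Subgroup.mem_center_iff.1 (z₀ ^ p ^ k : center R).2 x)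
  set A : Subgroup H := zpowers (z : H) ⊔ zpowers (x : H) with hA
  have hAR : A ≤ R := sup_le (zpowers_le.2 z.2) (zpowers_le.2 x.2)
  have hAab : A ≤ centralizer (A : Set H) := by
    have key : ∀ w ∈ A, ∀ g : H, Commute g (z : H) → Commute g (x : H) → Commute g w := by
      intro w hw g hgz hgx
      have : A ≤ centralizer ({g} : Set H) :=
        sup_le (zpowers_le.2 (mem_centralizer_singleton_iff.2 hgz.eq.symm))
          (zpowers_le.2 (mem_centralizer_singleton_iff.2 hgx.eq.symm))
      exact (mem_centralizer_singleton_iff.1 (this hw)).symm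
    intro w hw
    refine mem_centralizer_iff.2 fun g hg => ?_
    exact (key w hw g (key g hg _ (Commute.refl _) hzx.symm).symm
      (key g hg _ hzx (Commute.refl _)).symm).eq
  haveI : IsMulCommutative A :=
    ⟨⟨fun a b => Subtype.ext (mem_centralizer_iff.1 (hAab b.2) a a.2)⟩⟩
  obtain ⟨m, hm⟩ := IsPGroup.iff_card.1 (hR.to_le hAR)
  obtain ⟨j, hj⟩ := IsPGroup.iff_card.1 hY2
  have hcop : (Nat.card A).Coprime (Nat.card Y) := by
    rw [hm, hj]
    exact Nat.Coprime.pow _ _ ((Nat.coprime_primes hp.out Nat.prime_two).2 hp2)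
  have hAY : A ≤ normalizer (Y : Set H) := by
    rw [Subgroup.normalizer_eq_top]; exact le_top
  have hgen := CfsgLib.Coprime.iSup_centralizer_of_cyclic_quotient (A := A) (K := Y) hAY hcop
  have hAodd : Odd (Nat.card A) := by rw [hm]; exact hpodd.pow
  have hbot : Y = ⊥ := by
    rw [← hgen, eq_bot_iff]
    refine iSup₂_le fun B hB => ?_
    obtain ⟨hBA, a, haA, hBa⟩ := hB
    intro y hy
    obtain ⟨hyY, hyB⟩ := mem_inf.1 hy
    rw [mem_bot]
    by_contra hy1
    obtain ⟨n, hn⟩ := exists_involution_pow hY2 hyY hy1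
    have hB1 : B = ⊥ := by
      rw [eq_bot_iff]
      intro b hb
      rw [mem_bot]
      exact eq_one_of_commute hsol hO hI (odd_orderOf_of_mem hAodd (hBA hb)) hn
        ((show Commute b y from mem_centralizer_iff.1 hyB b hb).pow_right n).eq
    rw [hB1, bot_sup_eq] at hBa
    -- `A` would be cyclic
    have hzA : (z : H) ∈ zpowers a := hBa.symm ▸ mem_sup_left (mem_zpowers _)
    have hxA : (x : H) ∈ zpowers a := hBa.symm ▸ mem_sup_right (mem_zpowers _)
    haveI : Fintype (zpowers a) := Fintype.ofFinite _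
    classical
    have hle : (Finset.univ.filter fun w : zpowers a => w ^ p = 1).card ≤ p :=
      IsCyclic.card_pow_eq_one_le hp.out.pos
    have hlt : p < (Finset.univ.filter fun w : zpowers a => w ^ p = 1).card := by
      have hsub : Finset.univ.filter (fun w : zpowers a => (w : H) ∈ zpowers (z : H)) ⊂
          Finset.univ.filter fun w : zpowers a => w ^ p = 1 := by
        rw [Finset.ssubset_iff_of_subset]
        · refine ⟨⟨x, hxA⟩, ?_, ?_⟩
          · simp only [Finset.mem_filter, Finset.mem_univ, true_and]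
            exact Subtype.ext (congrArg Subtype.val hxp : _)
          · simp only [Finset.mem_filter, Finset.mem_univ, true_and]
            intro hx'
            obtain ⟨i, hi⟩ := mem_zpowers_iff.1 hx'
            exact hxz (mem_zpowers_iff.2 ⟨i, Subtype.ext (by simpa using hi)⟩)
        · intro w hw
          simp only [Finset.mem_filter, Finset.mem_univ, true_and] at hw ⊢
          obtain ⟨i, hi⟩ := mem_zpowers_iff.1 hw
          apply Subtype.ext
          show (w : H) ^ p = 1
          rw [← hi, ← zpow_natCast ((z : H) ^ i), ← zpow_mul, mul_comm, zpow_mul, zpow_natCast,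
            ← hzp, ← Subgroup.orderOf_coe z, pow_orderOf_eq_one, one_zpow]
      refine lt_of_eq_of_lt ?_ (Finset.card_lt_card hsub)
      have e1 : Nat.card {w : zpowers a // (w : H) ∈ zpowers (z : H)} = Nat.card (zpowers (z : H)) :=
        Nat.card_congr
          { toFun := fun w => ⟨w.1.1, w.2⟩
            invFun := fun w => ⟨⟨w.1, zpowers_le.2 hzA w.2⟩, w.2⟩
            left_inv := fun _ => rfl
            right_inv := fun _ => rfl }
      rw [Nat.card_zpowers, Subgroup.orderOf_coe, hzp, Nat.card_eq_fintype_card,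
        Fintype.card_subtype] at e1
      exact e1.symm
    omega
  have hz1 : (z : H) ≠ 1 := by
    intro h
    rw [← Subgroup.orderOf_coe, h, orderOf_one] at hzp
    exact hp.out.one_lt.ne hzp
  apply hz1
  have : (z : H) ∈ Y := hCY (mem_centralizer_iff.2 fun y hy => by
    rw [SetLike.mem_coe, hbot, mem_bot] at hy
    simp [hy])
  rwa [hbot, mem_bot] at this

lemma card_sup_of_normal_coprime {A B : Subgroup H} [A.Normal]
    (h : (Nat.card A).Coprime (Nat.card B)) : Nat.card (A ⊔ B : Subgroup H) ∣ Nat.card A * Nat.card B := by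
  have h1 := Subgroup.card_mul_index (A.subgroupOf (A ⊔ B))
  rw [Nat.card_congr (Subgroup.subgroupOfEquivOfLe (le_sup_left : A ≤ A ⊔ B)).toEquiv] at h1
  rw [← h1]
  refine mul_dvd_mul_left _ ?_
  have e : (A.subgroupOf (A ⊔ B)).index = A.relIndex B := by
    show A.relIndex (A ⊔ B) = A.relIndex B
    rw [sup_comm, Subgroup.relIndex_sup_right]
  rw [e]
  exact Subgroup.index_dvd_card _

theorem result {H : Type*} [Group H] [Finite H] (hsol : Group.IsSolvable H)
    (hO : Cfsg.oddCore H = ⊥)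
    (hI : ∀ t : H, orderOf t = 2 → Cfsg.HasNormalPComplement 2 ↥(Subgroup.centralizer ({t} : Set H)))
    (X : Subgroup H) (hXodd : Odd (Nat.card X)) (hXidx : ∃ k : ℕ, X.index = 2 ^ k) :
    (∀ x ∈ X, x ≠ 1 → ∀ y ∈ Cfsg.pCore 2 H, y ≠ 1 → x * y ≠ y * x) ∧
      (∀ (p : ℕ) [Fact p.Prime] (P : Sylow p ↥X), IsCyclic ↥(P : Subgroup ↥X)) ∧
      (X ⊔ Cfsg.pCore 2 H).Normal ∧
      ∀ hN : (X ⊔ Cfsg.pCore 2 H).Normal, IsCyclic (H ⧸ (X ⊔ Cfsg.pCore 2 H)) ∧ IsPGroup 2 (H ⧸ (X ⊔ Cfsg.pCore 2 H)) := by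
  haveI := hsol
  set Y := Cfsg.pCore 2 H with hYdef
  have hY2 : IsPGroup 2 Y := CfsgLib.Solvable.Cores.isPGroup_pCore 2
  haveI hYn : Y.Normal := inferInstance
  obtain ⟨k, hk⟩ := hXidx
  refine ⟨?_, ?_, ?_⟩
  · intro x hx hx1 y hy hy1 hxy
    obtain ⟨n, hn⟩ := exists_involution_pow hY2 hy hy1
    exact hx1 (eq_one_of_commute hsol hO hI (odd_orderOf_of_mem hXodd hx) hn
      ((show Commute x y from hxy).pow_right n).eq)
  · intro p _ P
    by_cases hp2 : p = 2
    · subst hp2
      have : Nat.card (P : Subgroup X) = 1 := by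
        obtain ⟨m, hm⟩ := IsPGroup.iff_card.1 P.isPGroup'
        have hd : 2 ^ m ∣ Nat.card X := hm ▸ Subgroup.card_subgroup_dvd_card _
        rcases m with _ | m
        · simpa using hm
        · exact absurd (hXodd.of_dvd_nat hd) (by simp [Nat.odd_pow_iff])
      haveI : Subsingleton (P : Subgroup X) := (Nat.card_eq_one_iff_unique.1 this).1
      infer_instance
    · haveI := isCyclic_odd_pSubgroup hsol hO hI hp2 (P.isPGroup'.map X.subtype)
      exact isCyclic_of_surjective
        ((P : Subgroup X).equivMapOfInjective X.subtype X.subtype_injective).symm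
        (MulEquiv.surjective _)
  -- a normal subgroup inside `X ⊔ Y` with cyclic quotient
  obtain ⟨K, hKn, hKM, hKcyc⟩ : ∃ K : Subgroup H, ∃ _ : K.Normal, K ≤ X ⊔ Y ∧ IsCyclic (H ⧸ K) := by
    by_cases hYtop : Y = ⊤
    · haveI : Subsingleton (H ⧸ (⊤ : Subgroup H)) := QuotientGroup.subsingleton_quotient_top
      exact ⟨⊤, inferInstance, by simp [hYtop], isCyclic_of_subsingleton⟩
    haveI : Nontrivial (H ⧸ Y) := by
      by_contra h
      rw [not_nontrivial_iff_subsingleton, QuotientGroup.subsingleton_iff] at h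
      exact hYtop h
    -- a `q`-group normal subgroup of `H ⧸ Y`
    obtain ⟨q, hq, hqne⟩ : ∃ q : ℕ, q.Prime ∧ Cfsg.pCore q (H ⧸ Y) ≠ ⊥ := by
      by_contra hcon
      push Not at hcon
      refine CfsgLib.Solvable.Cores.fittingSubgroup_ne_bot (G := H ⧸ Y) ?_
      rw [CfsgLib.Solvable.Cores.fittingSubgroup_eq_iSup_pCore]
      exact le_bot_iff.mp (iSup_le fun q => (hcon q q.2).le)
    haveI := Fact.mk hq
    set W := (Cfsg.pCore q (H ⧸ Y)).comap (QuotientGroup.mk' Y) with hW
    haveI hWn : W.Normal := Subgroup.Normal.comap inferInstance _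
    have hYW : Y ≤ W := by
      intro y hy
      rw [hW, mem_comap, QuotientGroup.mk'_apply, (QuotientGroup.eq_one_iff y).2 hy]
      exact one_mem _
    have hWne : ¬ W ≤ Y := by
      intro hle
      apply hqne
      rw [eq_bot_iff]
      intro w hw
      obtain ⟨w, rfl⟩ := QuotientGroup.mk'_surjective Y w
      rw [mem_bot, QuotientGroup.mk'_apply, QuotientGroup.eq_one_iff]
      exact hle (mem_comap.2 hw)
    obtain ⟨a, ha⟩ := IsPGroup.iff_card.1
      (CfsgLib.Solvable.Cores.isPGroup_pCore (G := H ⧸ Y) q)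
    have hWcard : Nat.card W = Nat.card Y * q ^ a := by
      have h1 := Subgroup.card_mul_index (Y.subgroupOf W)
      rw [Nat.card_congr (Subgroup.subgroupOfEquivOfLe hYW).toEquiv] at h1
      rw [← h1, ← ha]
      congr 1
      show Y.relIndex W = _
      have e := Subgroup.relIndex_ker (K := W) (QuotientGroup.mk' Y)
      rw [QuotientGroup.ker_mk'] at e
      rw [e, hW, Subgroup.map_comap_eq_self_of_surjective (QuotientGroup.mk'_surjective Y)]
    obtain ⟨j, hj⟩ := IsPGroup.iff_card.1 hY2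
    have hq2 : q ≠ 2 := by
      rintro rfl
      apply hWne
      refine CfsgLib.Solvable.Cores.le_pCore (IsPGroup.iff_card.2 ⟨j + a, ?_⟩)
      rw [hWcard, hj, pow_add]
    have hcopq : Nat.Coprime (2 ^ j) (q ^ a) :=
      Nat.Coprime.pow _ _ ((Nat.coprime_primes Nat.prime_two hq).2 hq2.symm)
    let R : Sylow q W := default
    set R' : Subgroup H := (R : Subgroup W).map W.subtype with hR'
    have hR'W : R' ≤ W := map_subtype_le _
    have hR'card : Nat.card R' = q ^ a := by
      rw [hR', Subgroup.card_map_of_injective W.subtype_injective, R.card_eq_multiplicity, hWcard,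
        hj, Nat.factorization_mul (by positivity) (pow_ne_zero _ hq.ne_zero)]
      simp [hq.factorization_self, Nat.factorization_eq_zero_of_not_dvd
        (show ¬ q ∣ 2 from fun h => hq2 ((Nat.prime_dvd_prime_iff_eq hq Nat.prime_two).1 h))]
    have hWeq : Y ⊔ R' = W := by
      refine Subgroup.eq_of_le_of_card_ge (sup_le hYW hR'W) (Nat.le_of_dvd Nat.card_pos ?_)
      rw [hWcard, hj]
      refine hcopq.mul_dvd_of_dvd_of_dvd ?_ ?_
      · rw [← hj]; exact Subgroup.card_dvd_of_le le_sup_left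
      · rw [← hR'card]; exact Subgroup.card_dvd_of_le le_sup_right
    have hR'ne : R' ≠ ⊥ := by
      intro h
      apply hWne
      rw [← hWeq, h, sup_bot_eq]
    set N : Subgroup H := normalizer (R' : Set H) with hN
    have hNY : N ⊔ Y = ⊤ := by
      rw [← top_le_iff, ← Sylow.normalizer_sup_eq_top R]
      exact sup_le le_sup_left
        (hWeq.ge.trans (sup_le le_sup_right (le_trans le_normalizer le_sup_left)))
    haveI hR'cyc : IsCyclic R' :=
      isCyclic_odd_pSubgroup hsol hO hI hq2 (R.isPGroup'.map W.subtype)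
    haveI : IsCyclic (MulAut R') := by
      haveI : IsCyclic (ZMod (Nat.card R'))ˣ := by
        rw [hR'card]; exact ZMod.isCyclic_units_of_prime_pow q hq hq2 a
      exact isCyclic_of_surjective (IsCyclic.mulAutMulEquiv R').symm (MulEquiv.surjective _)
    set C : Subgroup H := centralizer (R' : Set H) with hC
    have hCN : C ≤ N := fun c hc => by
      rw [hN, Subgroup.mem_normalizer_iff]
      intro r
      constructor
      · intro hr
        rwa [(mem_centralizer_iff.1 hc r hr).symm, mul_inv_cancel_right]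
      · intro hr
        have := mem_centralizer_iff.1 hc _ hr
        have e : c * r * c⁻¹ = r := by
          have h3 : c⁻¹ * (c * r * c⁻¹) * c = c * r * c⁻¹ := by
            rw [mul_assoc, this, ← mul_assoc, inv_mul_cancel, one_mul]
          simpa [mul_assoc] using h3.symm
        rwa [e] at hr
    have hCodd : Odd (Nat.card C) := by
      rw [← Nat.not_even_iff_odd, even_iff_two_dvd]
      intro h2
      obtain ⟨t, ht⟩ := exists_prime_orderOf_dvd_card' 2 h2
      obtain ⟨r, hr, hr1⟩ := R'.bot_or_exists_ne_one.resolve_left hR'ne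
      refine hr1 (eq_one_of_commute hsol hO hI (odd_orderOf_of_mem ?_ hr)
        ((Subgroup.orderOf_coe t).trans ht) (mem_centralizer_iff.1 t.2 r hr))
      rw [hR'card]; exact (hq.odd_of_ne_two hq2).pow
    haveI hKn : (Y ⊔ C).Normal := by
      constructor
      intro w hw g
      have hg : g ∈ N ⊔ Y := by rw [hNY]; exact mem_top g
      obtain ⟨n, hn, y, hy, rfl⟩ := Subgroup.mem_sup_of_normal_right.1 hg
      have hw' : y * w * y⁻¹ ∈ Y ⊔ C :=
        mul_mem (mul_mem (mem_sup_left hy) hw) (inv_mem (mem_sup_left hy))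
      obtain ⟨u, hu, c, hc, huc⟩ := Subgroup.mem_sup_of_normal_left.1 hw'
      have hcn : n * c * n⁻¹ ∈ C := by
        refine mem_centralizer_iff.2 fun r hr => ?_
        have hr' : n⁻¹ * r * n ∈ R' := (Subgroup.mem_normalizer_iff''.1 hn r).1 hr
        have h1 := mem_centralizer_iff.1 hc _ hr'
        calc r * (n * c * n⁻¹) = n * ((n⁻¹ * r * n) * c) * n⁻¹ := by group
          _ = n * (c * (n⁻¹ * r * n)) * n⁻¹ := by rw [h1]
          _ = n * c * n⁻¹ * r := by group
      have e : n * y * w * (n * y)⁻¹ = (n * u * n⁻¹) * (n * c * n⁻¹) := by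
        calc n * y * w * (n * y)⁻¹ = n * (y * w * y⁻¹) * n⁻¹ := by group
          _ = n * (u * c) * n⁻¹ := by rw [huc]
          _ = _ := by group
      rw [e]
      exact mul_mem (mem_sup_left (hYn.conj_mem u hu n)) (mem_sup_right hcn)
    refine ⟨Y ⊔ C, hKn, ?_, ?_⟩
    · -- cardinality
      have hXK : Nat.card (Y ⊔ C : Subgroup H) ∣ Nat.card ((Y ⊔ C) ⊓ X : Subgroup H) * 2 ^ k := by
        have h1 : Nat.card X ∣ Nat.card ((Y ⊔ C) ⊓ X : Subgroup H) * (Y ⊔ C).index := by
          have e := Subgroup.card_mul_index ((Y ⊔ C).subgroupOf X)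
          conv_lhs => rw [← e]
          refine Nat.mul_dvd_mul ?_ (Subgroup.relIndex_dvd_index_of_normal _ _)
          rw [Nat.card_congr
            (Subgroup.subgroupOfEquivOfLe (inf_le_right : (Y ⊔ C) ⊓ X ≤ X)).toEquiv.symm,
            Subgroup.inf_subgroupOf_right]
        have h2 : Nat.card (Y ⊔ C : Subgroup H) * (Y ⊔ C).index = Nat.card X * 2 ^ k := by
          rw [Subgroup.card_mul_index, ← hk, Subgroup.card_mul_index]
        refine (mul_dvd_mul_iff_right Subgroup.FiniteIndex.index_ne_zero).1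
          (h2 ▸ ?_ : Nat.card (Y ⊔ C : Subgroup H) * (Y ⊔ C).index ∣
            Nat.card ((Y ⊔ C) ⊓ X : Subgroup H) * 2 ^ k * (Y ⊔ C).index)
        rw [mul_right_comm]
        exact Nat.mul_dvd_mul_right h1 _
      have hcopC : Nat.Coprime (2 ^ k) (Nat.card C) :=
        Nat.Coprime.pow_left _ (Nat.coprime_two_left.mpr hCodd)
      have hCd : Nat.card C ∣ Nat.card ((Y ⊔ C) ⊓ X : Subgroup H) :=
        hcopC.symm.dvd_of_dvd_mul_right
          ((Subgroup.card_dvd_of_le (le_sup_right : C ≤ Y ⊔ C)).trans hXK)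
      have hcopY : (Nat.card Y).Coprime (Nat.card C) := by
        rw [hj]; exact Nat.Coprime.pow_left _ (Nat.coprime_two_left.mpr hCodd)
      have heq : (Y ⊔ C) ⊓ (X ⊔ Y) = Y ⊔ C := by
        refine Subgroup.eq_of_le_of_card_ge inf_le_left (Nat.le_of_dvd Nat.card_pos ?_)
        refine (card_sup_of_normal_coprime hcopY).trans (hcopY.mul_dvd_of_dvd_of_dvd ?_ ?_)
        · exact Subgroup.card_dvd_of_le (le_inf le_sup_left le_sup_right)
        · exact hCd.trans (Subgroup.card_dvd_of_le (inf_le_inf_left _ le_sup_left))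
      exact inf_eq_left.1 heq
    · let f : N →* H ⧸ (Y ⊔ C) := (QuotientGroup.mk' (Y ⊔ C)).comp N.subtype
      have hf : Function.Surjective f := by
        intro z
        obtain ⟨g, rfl⟩ := QuotientGroup.mk'_surjective (Y ⊔ C) z
        have hg : g ∈ N ⊔ Y := by rw [hNY]; exact mem_top g
        obtain ⟨n, hn, y, hy, rfl⟩ := Subgroup.mem_sup_of_normal_right.1 hg
        refine ⟨⟨n, hn⟩, ?_⟩
        show QuotientGroup.mk' (Y ⊔ C) n = QuotientGroup.mk' (Y ⊔ C) (n * y)
        rw [map_mul, show QuotientGroup.mk' (Y ⊔ C) y = 1 from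
          (QuotientGroup.eq_one_iff y).2 (mem_sup_left hy), mul_one]
      let g := R'.normalizerMonoidHom
      have hker : g.ker ≤ f.ker := by
        intro n hn
        rw [Subgroup.normalizerMonoidHom_ker, mem_subgroupOf] at hn
        exact (QuotientGroup.eq_one_iff _).2 (mem_sup_right hn)
      haveI : IsCyclic (N ⧸ g.ker) :=
        isCyclic_of_surjective (QuotientGroup.quotientKerEquivRange g).symm (MulEquiv.surjective _)
      exact isCyclic_of_surjective (QuotientGroup.lift g.ker f hker)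
        (QuotientGroup.lift_surjective_of_surjective _ f hf hker)
  have hMn : (X ⊔ Y).Normal := by
    haveI := hKn
    haveI := hKcyc
    have hcomm : commutator H ≤ K := by
      letI := IsCyclic.commGroup (α := H ⧸ K)
      have := Abelianization.commutator_subset_ker (QuotientGroup.mk' K)
      rwa [QuotientGroup.ker_mk'] at this
    constructor
    intro m hm g
    have h1 : g * m * g⁻¹ * m⁻¹ ∈ X ⊔ Y :=
      hKM (hcomm (Subgroup.commutator_mem_commutator (mem_top g) (mem_top m)))
    simpa using mul_mem h1 hm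
  refine ⟨hMn, fun hN => ⟨?_, ?_⟩⟩
  · haveI := hKn
    haveI := hKcyc
    exact isCyclic_of_surjective (QuotientGroup.map K (X ⊔ Y) (MonoidHom.id H) hKM)
      (fun z => by
        obtain ⟨w, rfl⟩ := QuotientGroup.mk_surjective z
        exact ⟨(w : H ⧸ K), rfl⟩)
  · have : Nat.card (H ⧸ (X ⊔ Y)) ∣ 2 ^ k := by
      rw [← Subgroup.index_eq_card, ← hk]
      exact Subgroup.index_dvd_of_le le_sup_left
    obtain ⟨i, -, hi⟩ := (Nat.dvd_prime_pow Nat.prime_two).1 this
    exact IsPGroup.of_card hi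

end Cfsg.Agent.S3215
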