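import Cfsg.Statements.S3222
import Cfsg.Agent.Lib.Characterizations.TwoTimesSymmetricFour
import Cfsg.Agent.Lib.Characterizations.AltSixExotic
import Cfsg.Agent.Lib.NumberTheory.SwapClosure
import Cfsg.Agent.Lib.Involution.ZStar.Main
import Cfsg.Agent.S3035

set_option autoImplicit false
open Cfsg

namespace Cfsg.Agent.S3222

open CfsgLib.Characterizations.TwoTimesSymmetricFour CfsgLib.Involution Equiv

/-- The rotation of the dihedral model. -/
def rho : Perm (Fin 4) := swap 0 1 * rr

/-- The dihedral model of the centralizer of `d`. -/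
def model : DihedralGroup 4 → Perm (Fin 4)
  | .r i => rho ^ i.val
  | .sr i => swap 0 1 * rho ^ i.val

theorem model_mul : ∀ x y, model (x * y) = model x * model y := by decide +kernel

theorem model_inj : ∀ x y, model x = model y → x = y := by decide +kernel

theorem model_surj : ∀ s : Perm (Fin 4), s * d = d * s → ∃ x, model x = s := by decide +kernel

theorem model_comm : ∀ x, model x * d = d * model x := by decide +kernel

theorem model_aux : (∃ c : Perm (Fin 4), c * d * c⁻¹ = rr) ∧ rr * d = d * rr ∧ rr ≠ d ∧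
    (swap 0 1 * swap 1 2 : Perm (Fin 4)) ^ 3 = 1 ∧ (swap 0 1 * swap 1 2 : Perm (Fin 4)) ≠ 1 := by
  decide +kernel

theorem main {G : Type*} [Group G] [Finite G] {t : G}
    (e : ↥(Subgroup.centralizer ({t} : Set G)) ≃* M) (hyp : Hyp t)
    (hC : Subgroup.centralizer ({t} : Set G) ≠ ⊤) : Nonempty (G ≃* Equiv.Perm (Fin 6)) := by
  classical
  obtain ⟨V, hV⟩ := exists_hom e hyp
  set C := Subgroup.centralizer ({t} : Set G) with hCdef
  set N := V.ker with hNdef
  have hVs : Function.Surjective V := fun a => by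
    by_cases ha : a = 1
    · exact ⟨1, by rw [map_one, ha]⟩
    · exact ⟨t, by rw [hV, two_cases a one' ha one'_ne]⟩
  have hNi : N.index = 2 := by
    rw [hNdef, Subgroup.index_ker, MonoidHom.range_eq_top.2 hVs, Subgroup.card_top,
      Nat.card_congr Multiplicative.toAdd, Nat.card_zmod]
  have htN : t ∉ N := fun h => one'_ne (hV.symm.trans h)
  -- the symmetric group inside the kernel
  let a : Perm (Fin 4) →* Multiplicative (ZMod 2) := (V.comp (emb e)).comp (MonoidHom.inr _ _)
  let ι0 : Perm (Fin 4) →* G := (emb e).comp (a.prod (MonoidHom.id _))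
  have hι : ∀ s, ι0 s = emb e (a s, s) := fun s => rfl
  have hVemb : ∀ p : M, V (emb e p) = p.1 * a p.2 := by
    rintro ⟨x, s⟩
    have h1 : V (emb e (x, 1)) = x := by
      by_cases hx : x = 1
      · subst hx
        exact (congrArg V (map_one (emb e))).trans (map_one V)
      · rw [two_cases x one' hx one'_ne, emb_one' e hyp.ne, hV]
    calc V (emb e (x, s)) = V (emb e (x, 1) * emb e (1, s)) := by
          rw [← map_mul (emb e), Prod.mk_mul_mk, mul_one, one_mul]
      _ = x * a s := by rw [map_mul, h1]; rfl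
  have hιN : ∀ s, ι0 s ∈ N := fun s => by
    show V (ι0 s) = 1
    rw [hι, hVemb]
    have : ∀ x : Multiplicative (ZMod 2), x * x = 1 := by decide
    exact this _
  let ι : Perm (Fin 4) →* N := ι0.codRestrict N hιN
  have hι0i : Function.Injective ι0 := fun x y h => congrArg Prod.snd (emb_injective e h)
  have hιi : Function.Injective ι := (MonoidHom.injective_codRestrict ι0 N hιN).2 hι0i
  have hrange : ∀ g : N, (g : G) ∈ C → ∃ s, ι s = g := by
    intro g hg
    obtain ⟨⟨x, s⟩, hp⟩ := exists_emb e hg
    refine ⟨s, Subtype.ext ?_⟩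
    show ι0 s = (g : G)
    rw [hι, ← hp]
    have h1 : V (emb e (x, s)) = 1 := by rw [hp]; exact g.2
    rw [hVemb] at h1
    have h2 : a s = x := by
      have : ∀ u v : Multiplicative (ZMod 2), u * v = 1 → v = u := by decide
      exact this _ _ h1
    rw [h2]
  have hzN : V (z e) = 1 := by
    obtain ⟨x, -, y, -, hxy⟩ := z_eq_comm e hyp
    rw [← hxy]
    simp only [map_mul, map_inv]
    rw [mul_comm (V x) (V y), mul_inv_cancel_right, mul_inv_cancel]
  have hιd : ι0 d = z e := by
    have h1 := hzN
    rw [z, hVemb] at h1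
    rw [one_mul] at h1
    rw [hι]
    rw [show a d = 1 from h1]
    rfl
  have hord : orderOf (ι d) = 2 := by
    rw [orderOf_injective ι hιi]
    exact orderOf_eq_prime (by decide) (by decide)
  -- the centralizer of `z` in the kernel
  let f : DihedralGroup 4 →* Perm (Fin 4) := MonoidHom.mk' model model_mul
  have hfi : Function.Injective (ι.comp f) := fun x y h => model_inj x y (hιi h)
  have hfr : (ι.comp f).range = Subgroup.centralizer ({ι d} : Set N) := by
    ext g
    rw [MonoidHom.mem_range, Subgroup.mem_centralizer_singleton_iff]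
    constructor
    · rintro ⟨x, rfl⟩
      show ι (model x) * ι d = ι d * ι (model x)
      rw [← map_mul, model_comm, map_mul]
    · intro hg
      have h1 : (g : G) ∈ Subgroup.centralizer ({z e} : Set G) := by
        rw [Subgroup.mem_centralizer_singleton_iff, ← hιd]
        exact congrArg Subtype.val hg
      obtain ⟨s, rfl⟩ := hrange g (centralizer_z_le e hyp h1)
      rw [← map_mul, ← map_mul] at hg
      obtain ⟨x, rfl⟩ := model_surj s (hιi hg)
      exact ⟨x, rfl⟩
  let eD : ↥(Subgroup.centralizer ({ι d} : Set N)) ≃* DihedralGroup 4 :=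
    ((MonoidHom.ofInjective hfi).trans (MulEquiv.subgroupCongr hfr)).symm
  obtain ⟨⟨c, hc⟩, hrd, hrne, hk3, hk1⟩ := model_aux
  have hgt : ∃ g, g * ι d * g⁻¹ = ι rr := ⟨ι c, by rw [← map_inv, ← map_mul, ← map_mul, hc]⟩
  obtain ⟨b, hS⟩ := CfsgLib.LocalEvenB.CentralizerDihedralEight.exists_std eD hord (t := ι rr)
    (Subgroup.mem_centralizer_singleton_iff.2 (by rw [← map_mul, hrd, map_mul]))
    (by
      obtain ⟨g, hg⟩ := hgt
      rw [← hg, CfsgLib.Involution.Dihedral.orderOf_conj]
      exact hord)
    (fun h => hrne (hιi h))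
  have hoddN : ∀ K : Subgroup N, K.Normal → Odd (Nat.card K) → K = ⊥ := fun K hKn hK =>
    CfsgLib.LocalEvenB.CentralizerDihedralEight.odd_eq_bot eD hord hS hgt hK
      (fun y hy => hKn.conj_mem y hy _) (fun y hy => hKn.conj_mem y hy _)
  have hO : ∀ x ∈ Cfsg.oddCore G, x = 1 := by
    have hodd : Odd (Nat.card (Cfsg.oddCore G)) := ZStar.odd_card_oddCore
    have hle : Cfsg.oddCore G ≤ N := by
      intro x hx
      show V x = 1
      by_contra hne
      have h1 : orderOf (V x) = 2 :=
        orderOf_eq_prime (by rw [two_cases _ one' hne one'_ne]; exact one'_sq) hne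
      have h2 : 2 ∣ Nat.card (Cfsg.oddCore G) := by
        refine (h1 ▸ orderOf_map_dvd V x).trans ?_
        have := orderOf_dvd_natCard (⟨x, hx⟩ : Cfsg.oddCore G)
        rwa [← Subgroup.orderOf_coe] at this
      exact Nat.not_even_iff_odd.2 hodd (even_iff_two_dvd.2 h2)
    haveI hOn : (Cfsg.oddCore G).Normal := ZStar.oddCore_normal
    have hb := hoddN ((Cfsg.oddCore G).subgroupOf N) inferInstance
      (by rw [Nat.card_congr (Subgroup.subgroupOfEquivOfLe hle).toEquiv]; exact hodd)
    intro x hx
    have h3 : (⟨x, hle hx⟩ : N) ∈ (Cfsg.oddCore G).subgroupOf N := hx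
    rw [hb, Subgroup.mem_bot] at h3
    exact congrArg Subtype.val h3
  -- a further conjugate of `t` in the centralizer
  obtain ⟨g, hgC, hgne⟩ : ∃ g, g * t * g⁻¹ ∈ C ∧ g * t * g⁻¹ ≠ t := by
    by_contra hcon
    push Not at hcon
    refine hC (eq_top_iff.2 fun g _ => ?_)
    have hiso : Cfsg.IsIsolatedInvolution t := by
      refine ⟨orderOf_eq_prime (by rw [sq]; exact hyp.sq) hyp.ne, fun g hg => ?_⟩
      exact hcon g (Subgroup.mem_centralizer_singleton_iff.2 hg.symm.eq)
    have h1 := hO _ (ZStar.comm_mem_oddCore hiso g)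
    exact Subgroup.mem_centralizer_singleton_iff.2
      (mul_inv_eq_iff_eq_mul.1 (mul_inv_eq_one.1 h1)).symm
  obtain ⟨h7, hfull⟩ := seven_le_index e hyp hgC hgne
  replace h7 : 7 ≤ C.index := h7
  have hcardN : Nat.card N = 24 * C.index := by
    have h1 : 2 * Nat.card N = C.index * 48 := by
      rw [← card_centralizer e, hCdef, Subgroup.index_mul_card, ← hNi, Subgroup.index_mul_card]
    omega
  have hNs : IsSimpleGroup N → Nat.card N = 168 → False := by
    intro _ h168
    have h7' : C.index = 7 := by omega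
    have hall := hfull h7'
    let A : Subgroup G := Subgroup.closure (Set.range fun y : G => y * t * y⁻¹)
    have hcomm : ∀ u ∈ Set.range (fun y : G => y * t * y⁻¹),
        ∀ v ∈ Set.range (fun y : G => y * t * y⁻¹), u * v = v * u := by
      rintro _ ⟨x, rfl⟩ _ ⟨y, rfl⟩
      have h1 := Subgroup.mem_centralizer_singleton_iff.1 (hall (y⁻¹ * x))
      calc x * t * x⁻¹ * (y * t * y⁻¹)
          = y * (y⁻¹ * x * t * (y⁻¹ * x)⁻¹ * t) * y⁻¹ := by group
        _ = y * (t * (y⁻¹ * x * t * (y⁻¹ * x)⁻¹)) * y⁻¹ := by rw [h1]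
        _ = _ := by group
    have hAcomm : ∀ u ∈ A, ∀ v ∈ A, u * v = v * u := by
      intro u hu v hv
      haveI := Subgroup.isMulCommutative_closure hcomm
      exact congrArg Subtype.val (IsMulCommutative.is_comm.comm (⟨u, hu⟩ : A) ⟨v, hv⟩)
    haveI hAn : A.Normal := by
      refine ⟨fun x hx y => ?_⟩
      have hmap : A.map (MulAut.conj y).toMonoidHom ≤ A := by
        rw [MonoidHom.map_closure, Subgroup.closure_le]
        rintro _ ⟨_, ⟨w, rfl⟩, rfl⟩
        exact Subgroup.subset_closure ⟨y * w, by simp [mul_assoc]⟩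
      exact hmap ⟨x, hx, by simp⟩
    rcases Subgroup.Normal.eq_bot_or_eq_top (inferInstance : (A.subgroupOf N).Normal) with hA | hA
    · have htA : t ∈ A := Subgroup.subset_closure ⟨1, by simp⟩
      have hgA : g * t * g⁻¹ ∈ A := Subgroup.subset_closure ⟨g, rfl⟩
      have hm : g * t * g⁻¹ * t ∈ N := by
        show V (g * t * g⁻¹ * t) = 1
        rw [map_mul, map_mul, map_mul, map_inv, mul_inv_cancel_comm, hV, ← sq, one'_sq]
      have h1 : (⟨_, hm⟩ : N) ∈ A.subgroupOf N := mul_mem hgA htA
      rw [hA, Subgroup.mem_bot] at h1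
      exact hgne ((eq_inv_of_mul_eq_one_left (congrArg Subtype.val h1)).trans
        (inv_eq_of_mul_eq_one_left hyp.sq))
    · have hNA : ∀ x : N, (x : G) ∈ A := fun x => by
        have : x ∈ A.subgroupOf N := hA ▸ Subgroup.mem_top x
        exact this
      have h0 : ι (swap 0 1 * swap 1 2) = ι (swap 1 2 * swap 0 1) := by
        rw [map_mul, map_mul]
        exact Subtype.ext (hAcomm _ (hNA _) _ (hNA _))
      have h2 := hιi h0
      exact (by decide : (swap 0 1 : Perm (Fin 4)) * swap 1 2 ≠ swap 1 2 * swap 0 1) h2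
  rcases Cfsg.Agent.S3035.result (ι d) hord ⟨eD⟩ with h | h | h | h | h
  · exfalso
    have hob : Cfsg.oddCore N = ⊥ := hoddN _ ZStar.oddCore_normal ZStar.odd_card_oddCore
    rw [hob, sup_bot_eq] at h
    obtain ⟨x, hx⟩ := hgt
    have hxc : x ∈ Subgroup.centralizer ({ι d} : Set N) := h ▸ Subgroup.mem_top x
    rw [Subgroup.mem_centralizer_singleton_iff.1 hxc, mul_inv_cancel_right] at hx
    exact hrne (hιi hx.symm)
  · obtain ⟨h⟩ := h
    rw [Nat.card_congr h.toEquiv, Nat.card_perm, Nat.card_fin] at hcardN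
    simp only [show Nat.factorial 4 = 24 from rfl] at hcardN
    omega
  · obtain ⟨h⟩ := h
    rw [Nat.card_congr h.toEquiv, Nat.card_perm, Nat.card_fin] at hcardN
    simp only [show Nat.factorial 5 = 120 from rfl] at hcardN
    omega
  · obtain ⟨h⟩ := h
    haveI := Cfsg.Agent.S3035.isSimple_sl
    exact (hNs h.isSimpleGroup ((Nat.card_congr h.toEquiv).trans Cfsg.Agent.S3035.card_sl)).elim
  · refine CfsgLib.Characterizations.AltSixExotic.equiv_perm_six N hNi h htN
      (k := ι0 (swap 0 1 * swap 1 2)) (hιN _) (by rw [← map_pow, hk3, map_one])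
      (fun hk => hk1 (hι0i (hk.trans (map_one ι0).symm))) (emb_comm_t e _).symm ?_
    intro x hx
    have hxz : x ∈ Subgroup.centralizer ({z e} : Set G) :=
      Subgroup.mem_centralizer_singleton_iff.2 (hx _ hzN)
    have hxC := centralizer_z_le e hyp hxz
    obtain ⟨p, rfl⟩ := exists_emb e hxC
    rcases center_cases p (fun q => by
        refine emb_injective e ?_
        rw [map_mul, map_mul]
        have h1 : emb e q * t ^ 0 = emb e q := by simp
        by_cases hq : V (emb e q) = 1
        · exact hx _ hq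
        · have hqt : emb e q * t ∈ N := by
            show V (emb e q * t) = 1
            rw [map_mul, hV, two_cases _ one' hq one'_ne, ← sq, one'_sq]
          have h2 := hx _ hqt
          rw [← mul_assoc, mul_assoc (emb e q) t, ← emb_comm_t e p, ← mul_assoc] at h2
          exact mul_right_cancel h2) with hp | hp
    · rw [hp, map_one]
    · exfalso
      rw [hp, emb_one' e hyp.ne] at hx
      refine hC (eq_top_iff.2 fun y _ => Subgroup.mem_centralizer_singleton_iff.2 ?_)
      by_cases hy : V y = 1
      · exact (hx y hy).symm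
      · have h2 := hx (y * t) (show V (y * t) = 1 by
          rw [map_mul, hV, two_cases _ one' hy one'_ne, ← sq, one'_sq])
        rw [← mul_assoc] at h2
        exact (mul_right_cancel h2).symm

/-- Let G be a finite group of even order such that (1) some involution t lying in the centre of a Sylow 2-subgroup of G has C_G(t) ≅ Z₂ × S₄, and (2) every Sylow 2-subgroup S of G satisfies C_G(S′) = S, where S′ is the derived subgroup of S. Then G = C_G(t) if G is solvable, and G ≅ S₆ otherwise. -/
theorem result {G : Type*} [Group G] [Finite G] (hev : Even (Nat.card G))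
    (t : G) (ht : orderOf t = 2) (T : Sylow 2 G) (htT : t ∈ (T : Subgroup G)) (htc : ∀ s ∈ (T : Subgroup G), s * t = t * s)
    (e : ↥(Subgroup.centralizer ({t} : Set G)) ≃* (Multiplicative (ZMod 2) × Equiv.Perm (Fin 4)))
    (h2 : ∀ S : Sylow 2 G, Subgroup.centralizer ((⁅(S : Subgroup G), (S : Subgroup G)⁆ : Subgroup G) : Set G) = (S : Subgroup G)) :
    (Group.IsSolvable G → Subgroup.centralizer ({t} : Set G) = ⊤) ∧
      (¬ Group.IsSolvable G → Nonempty (G ≃* Equiv.Perm (Fin 6))) := by
  classical
  have hsq : t * t = 1 := by rw [← pow_two, ← ht, pow_orderOf_eq_one]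
  have hne : t ≠ 1 := fun h => by rw [h, orderOf_one] at ht; omega
  have hT : (T : Subgroup G) ≤ Subgroup.centralizer ({t} : Set G) := fun s hs =>
    Subgroup.mem_centralizer_singleton_iff.2 (htc s hs)
  have hyp : Hyp t := by
    refine ⟨hne, hsq, ⟨T, hT, ?_⟩, h2⟩
    have h1 : 16 ∣ Nat.card G := by
      refine (show (16 : ℕ) ∣ 48 by norm_num).trans ?_
      rw [← card_centralizer e]
      exact Subgroup.card_subgroup_dvd_card _
    haveI : Fact (Nat.Prime 2) := ⟨Nat.prime_two⟩
    exact T.pow_dvd_card_of_pow_dvd_card (n := 4) h1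
  by_cases hC : Subgroup.centralizer ({t} : Set G) = ⊤
  · refine ⟨fun _ => hC, fun hns => (hns ?_).elim⟩
    haveI := CfsgLib.NumberTheory.SwapClosure.isSolvable_perm_fin_four
    haveI : Group.IsSolvable M := inferInstance
    let f : G →* M := e.toMonoidHom.comp
      ((MulEquiv.subgroupCongr hC).symm.toMonoidHom.comp Subgroup.topEquiv.symm.toMonoidHom)
    exact solvable_of_solvable_injective (f := f) (e.injective.comp
      ((MulEquiv.subgroupCongr hC).symm.injective.comp Subgroup.topEquiv.symm.injective))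
  · obtain ⟨E6⟩ := main e hyp hC
    refine ⟨fun hs => ?_, fun _ => ⟨E6⟩⟩
    exfalso
    have : Group.IsSolvable (Equiv.Perm (Fin 6)) :=
      Group.isSolvable_of_surjective (f := E6.toMonoidHom) E6.surjective
    exact Equiv.Perm.not_solvable (Fin 6) (by rw [Cardinal.mk_fin]; norm_num) this

end Cfsg.Agent.S3222
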