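import Cfsg.Statements.S3225
import Mathlib
import Cfsg.Agent.Lib.Fusion.ThompsonTransfer

set_option autoImplicit false
open Cfsg

namespace Cfsg.Agent.S3225

/-- Let G be a finite group of even order with no subgroup of index 2, S a Sylow 2-subgroup of G and M a subgroup of index 2 in S such that, for some n ≥ 1, every element of S outside M has order greater than 2^(n−1). Then every element of S of order 2ⁿ is conjugate in G to an element of M. -/
theorem result {G : Type*} [Group G] [Finite G] (hev : Even (Nat.card G))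
    (hG : ∀ H : Subgroup G, H.index ≠ 2) (S : Sylow 2 G) (M : Subgroup G) (hMS : M ≤ (S : Subgroup G)) (hM : M.relIndex (S : Subgroup G) = 2)
    (n : ℕ) (hn : 1 ≤ n) (hord : ∀ y ∈ (S : Subgroup G), y ∉ M → 2 ^ (n - 1) < orderOf y)
    (x : G) (hx : x ∈ (S : Subgroup G)) (hxn : orderOf x = 2 ^ n) :
    ∃ g : G, g * x * g⁻¹ ∈ M := by
  classical
  by_contra hconj
  simp only [not_exists] at hconj
  let Q' : Subgroup (S : Subgroup G) := M.subgroupOf (S : Subgroup G)
  have hQ'i : Q'.index = 2 := hM
  have : Q'.Normal := Subgroup.normal_of_index_eq_two hQ'i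
  let A := (S : Subgroup G) ⧸ Q'
  have hA : Nat.card A = 2 := hQ'i
  let : CommGroup A :=
    { (inferInstance : Group A) with
      mul_comm := fun a b => by
        have := isCyclic_of_prime_card (p := 2) hA
        exact IsCyclic.isMulCommutative.is_comm.comm a b }
  let φ : (S : Subgroup G) →* A := QuotientGroup.mk' Q'
  have hxM : x ∉ M := fun h => hconj 1 (by simpa using h)
  set a : A := φ ⟨x, hx⟩ with ha
  have ha1 : a ≠ 1 := fun h => hxM ((QuotientGroup.eq_one_iff (⟨x, hx⟩ : (S : Subgroup G))).mp h)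
  have ha2 : a ^ 2 = 1 := by
    have h := pow_card_eq_one' (x := a)
    rwa [hA] at h
  have hu2 : ∀ y : A, y ≠ 1 → y = a := fun y hy => ((Nat.card_eq_two_iff' (1 : A)).mp hA).unique hy ha1
  have : Fintype (Quotient (MulAction.orbitRel (Subgroup.zpowers x) (G ⧸ (S : Subgroup G)))) :=
    Fintype.ofFinite _
  have hτ : MonoidHom.transfer φ x = a := by
    have hodd : a ^ (S : Subgroup G).index = a := by
      have := S.not_dvd_index
      conv_lhs => rw [← Nat.div_add_mod (S : Subgroup G).index 2, pow_add, pow_mul, ha2, one_pow,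
        one_mul, show (S : Subgroup G).index % 2 = 1 by omega, pow_one]
    conv_rhs => rw [← hodd, Subgroup.index_eq_sum_minimalPeriod (S : Subgroup G) x,
      ← Finset.prod_pow_eq_pow_sum]
    rw [MonoidHom.transfer_eq_prod_quotient_orbitRel_zpowers_quot]
    refine Finset.prod_congr rfl fun q _ => ?_
    have hk : Function.minimalPeriod (x • ·) q.out ∣ 2 ^ n := by
      refine Function.IsPeriodicPt.minimalPeriod_dvd ?_
      show (x • ·)^[2 ^ n] q.out = q.out
      rw [smul_iterate, ← hxn, pow_orderOf_eq_one]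
      exact one_smul _ _
    have hmem := QuotientGroup.out_conj_pow_minimalPeriod_mem (S : Subgroup G) x q.out
    show φ ⟨_, hmem⟩ = _
    revert hmem
    generalize Function.minimalPeriod (x • ·) q.out = k at hk ⊢
    intro hmem
    obtain ⟨j, hj, rfl⟩ := (Nat.dvd_prime_pow Nat.prime_two).mp hk
    rcases Nat.eq_zero_or_pos j with rfl | hjp
    · conv_rhs => rw [pow_zero, pow_one]
      refine hu2 _ fun h1 => hconj q.out.out⁻¹ ?_
      have := (QuotientGroup.eq_one_iff _).mp h1
      rw [inv_inv]
      simpa [Q', Subgroup.mem_subgroupOf] using this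
    · obtain ⟨i, rfl⟩ : ∃ i, j = i + 1 := ⟨j - 1, by omega⟩
      conv_rhs => rw [pow_succ' 2 i, pow_mul, ha2, one_pow]
      refine (QuotientGroup.eq_one_iff _).mpr ?_
      rw [Subgroup.mem_subgroupOf]
      by_contra h
      have h2 := hord _ hmem h
      have h3 : orderOf (q.out.out⁻¹ * x ^ 2 ^ (i + 1) * q.out.out) ≤ 2 ^ (n - 1) := by
        refine Nat.le_of_dvd (by positivity) (orderOf_dvd_of_pow_eq_one ?_)
        have := conj_pow (i := 2 ^ (n - 1)) (a := q.out.out⁻¹) (b := x ^ 2 ^ (i + 1))
        rw [inv_inv] at this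
        rw [this, ← pow_mul, ← pow_add, show i + 1 + (n - 1) = n + i by omega, pow_add 2 n i, pow_mul, ← hxn,
          pow_orderOf_eq_one, one_pow, mul_one, inv_mul_cancel]
      rw [pow_succ' 2 i] at h2
      rw [pow_succ' 2 i] at h3
      exact absurd h3 (Nat.not_le.mpr (by simpa using h2))
  refine hG (MonoidHom.transfer φ).ker ?_
  rw [Subgroup.index_ker]
  have hne : (MonoidHom.transfer φ).range ≠ ⊥ := by
    rw [Ne, eq_bot_iff]
    intro h
    exact ha1 (by simpa using h ⟨x, hτ⟩)
  have := Fact.mk (hA ▸ Nat.prime_two : (Nat.card A).Prime)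
  rcases Subgroup.eq_bot_or_eq_top_of_prime_card (MonoidHom.transfer φ).range with h | h
  · exact absurd h hne
  · rw [h, Subgroup.card_top, hA]

end Cfsg.Agent.S3225
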