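import Cfsg.Statements.S3232
import Cfsg.Agent.Lib.Recognition.USixCentral.Main

set_option autoImplicit false
open Cfsg

namespace Cfsg.Agent.S3232

/-- Let G be a finite group with an involution z, H = C_G(z), such that J = O₂(H) is an (internal) direct product of a group of order 2 and an extraspecial group of order 2⁹, with derived subgroup J′ = ⟨z⟩, C_H(J) ≤ J and H/J ≅ Aut(PSp₄(3)). Then G = H·O(G); or some involution z₁ ∈ Z(J) outside ⟨z⟩ generates a normal subgroup of G and G has a subgroup G₀ of index 2 containing z₁ with G₀/⟨z₁⟩ ≅ U₆(2); or G is isomorphic to the Fischer group Fi₂₂. -/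
theorem result {G : Type*} [Group G] [Finite G] (z : G) (hz : orderOf z = 2)
    {F : Type*} [Field F] [Fintype F] (hF : Fintype.card F = 3) {K : Type*} [Field K] [Fintype K] (hK : Fintype.card K = 4)
    (A E : Subgroup ↥(Subgroup.centralizer ({z} : Set G))) (hAE : Cfsg.IsInternalDirectProduct A E (Cfsg.pCore 2 ↥(Subgroup.centralizer ({z} : Set G)))) (hA : Nat.card ↥A = 2)
    (hE : Cfsg.IsExtraspecial 2 ↥E) (hEc : Nat.card ↥E = 2 ^ 9)
    (zc : ↥(Subgroup.centralizer ({z} : Set G))) (hzc : (zc : G) = z) (hJ' : ⁅(Cfsg.pCore 2 ↥(Subgroup.centralizer ({z} : Set G))), (Cfsg.pCore 2 ↥(Subgroup.centralizer ({z} : Set G)))⁆ = Subgroup.zpowers zc)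
    (hCJ : Subgroup.centralizer ((Cfsg.pCore 2 ↥(Subgroup.centralizer ({z} : Set G))) : Set ↥(Subgroup.centralizer ({z} : Set G))) ≤ Cfsg.pCore 2 ↥(Subgroup.centralizer ({z} : Set G))) [hJn : (Cfsg.pCore 2 ↥(Subgroup.centralizer ({z} : Set G))).Normal]
    (e : (↥(Subgroup.centralizer ({z} : Set G)) ⧸ Cfsg.pCore 2 ↥(Subgroup.centralizer ({z} : Set G))) ≃* MulAut (Cfsg.PSp 2 F)) :
    Subgroup.centralizer ({z} : Set G) ⊔ Cfsg.oddCore G = ⊤ ∨
      (∃ z₁ : G, orderOf z₁ = 2 ∧ z₁ ∉ Subgroup.zpowers z ∧ (∃ h₁ : z₁ ∈ Subgroup.centralizer ({z} : Set G), (⟨z₁, h₁⟩ : ↥(Subgroup.centralizer ({z} : Set G))) ∈ Cfsg.pCore 2 ↥(Subgroup.centralizer ({z} : Set G)) ∧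
          ∀ j ∈ Cfsg.pCore 2 ↥(Subgroup.centralizer ({z} : Set G)), j * ⟨z₁, h₁⟩ = ⟨z₁, h₁⟩ * j) ∧ (Subgroup.zpowers z₁).Normal ∧
        ∃ (G₀ : Subgroup G) (hz₁ : z₁ ∈ G₀), G₀.index = 2 ∧
          ∃ hn : ((Subgroup.zpowers z₁).subgroupOf G₀).Normal,
            Nonempty ((↥G₀ ⧸ (Subgroup.zpowers z₁).subgroupOf G₀) ≃* Cfsg.PSU 6 K 2)) ∨
      Cfsg.Spor.IsoFi22 G := by
  classical
  set J := CfsgLib.Recognition.USixTwoOuter.coreTwo z with hJdef
  haveI : Fact (Nat.Prime 2) := ⟨Nat.prime_two⟩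
  obtain ⟨hAP, hEP, hAEc, hdisj, hsup⟩ := hAE
  -- the nontrivial element of `A`
  haveI : Nontrivial ↥A := Finite.one_lt_card_iff_nontrivial.1 (by rw [hA]; norm_num)
  obtain ⟨x, hx1⟩ := exists_ne (1 : ↥A)
  have hx2 : (x : ↥(Subgroup.centralizer ({z} : Set G))) * x = 1 := by
    have h1 : x ^ Nat.card ↥A = 1 := pow_card_eq_one'
    rw [hA, pow_two] at h1
    exact congrArg Subtype.val h1
  set a : G := ((x : ↥(Subgroup.centralizer ({z} : Set G))) : G) with hadef
  have haJ : a ∈ J := ⟨x, hAP x.2, rfl⟩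
  have ha2 : orderOf a = 2 := CfsgLib.Recognition.USixCentral.order_two (congrArg Subtype.val hx2)
    fun e' => hx1 (Subtype.ext (Subtype.ext e'))
  have hxc : ∀ j ∈ Cfsg.pCore 2 ↥(Subgroup.centralizer ({z} : Set G)),
      j * (x : ↥(Subgroup.centralizer ({z} : Set G))) = (x : ↥(Subgroup.centralizer ({z} : Set G))) * j := by
    intro j hj
    have h1 : j ∈ A ⊔ E := hsup.symm ▸ hj
    have h2 : A ⊔ E ≤ Subgroup.centralizer ({(x : ↥(Subgroup.centralizer ({z} : Set G)))} : Set _) := by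
      refine sup_le (fun y hy => Subgroup.mem_centralizer_singleton_iff.2 ?_)
        fun y hy => Subgroup.mem_centralizer_singleton_iff.2 (hAEc _ x.2 _ hy).symm
      haveI : IsCyclic ↥A := isCyclic_of_prime_card hA
      exact congrArg Subtype.val (Commute.eq (show Commute (⟨y, hy⟩ : ↥A) x from
        (IsCyclic.commutative (α := ↥A)).is_comm.comm _ _))
    exact Subgroup.mem_centralizer_singleton_iff.1 (h2 h1)
  have hac : ∀ j ∈ J, j * a = a * j := by
    rintro _ ⟨j, hj, rfl⟩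
    exact congrArg Subtype.val (hxc j hj)
  have hne : a ≠ z := fun e' => by
    have hzE : zc ∈ E := by
      obtain ⟨w, hw⟩ := CfsgLib.ThreeTransp.Extraspecial.exists_extra hE
      have h1 : w ∈ (Subgroup.center ↥E).map E.subtype := hw.center_eq ▸ Subgroup.mem_zpowers w
      have hm : w ∈ E := Subgroup.map_subtype_le _ h1
      rw [← hE.1.2.2, Subgroup.map_subtype_commutator] at h1
      have h2 := Subgroup.commutator_mono hEP hEP h1
      rw [hJ', CfsgLib.ThreeTransp.Extraspecial.mem_zpowers_involution (Subtype.ext (by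
        show (zc : G) * zc = 1
        rw [hzc]; exact CfsgLib.Recognition.USixCentral.mul_self_of_order_two hz))] at h2
      exact h2.resolve_left hw.z_ne ▸ hm
    have hxE : (x : ↥(Subgroup.centralizer ({z} : Set G))) ∈ E := by
      rw [show (x : ↥(Subgroup.centralizer ({z} : Set G))) = zc from Subtype.ext (e'.trans hzc.symm)]
      exact hzE
    have : (x : ↥(Subgroup.centralizer ({z} : Set G))) ∈ A ⊓ E := ⟨x.2, hxE⟩
    rw [hdisj, Subgroup.mem_bot] at this
    exact hx1 (Subtype.ext this)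
  have hAE' : Cfsg.IsInternalDirectProduct A E (Cfsg.pCore 2 ↥(Subgroup.centralizer ({z} : Set G))) :=
    ⟨hAP, hEP, hAEc, hdisj, hsup⟩
  have t := CfsgLib.Recognition.USixCentral.twin_of_hyps z hz A E hAE' hA hE hEc zc hzc hJ' hCJ e haJ ha2 hac hne
  have hsq := CfsgLib.Recognition.USixCentral.sq_of_product A E hAE' hA hE zc hzc hz hJ'
  rcases t.setting_or_supplement hF hsq with ⟨π, ψ, h⟩ | hs
  · rcases t.outcome hF hK h with hs | ⟨y, hy, hc, hN, hG⟩ | hfi
    · exact Or.inl hs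
    · have hyJ : y ∈ J := by
        rcases hy with rfl | rfl
        · exact haJ
        · exact mul_mem h.z_mem haJ
      obtain ⟨hyC, hyP⟩ := CfsgLib.Recognition.USixTwoOuter.coreTwo_mem hyJ
      refine Or.inr (Or.inl ⟨y, ?_, ?_, ⟨hyC, hyP, fun j _ => Subtype.ext (hc j)⟩, hN, hG⟩)
      · rcases hy with rfl | rfl
        · exact ha2
        · exact CfsgLib.Recognition.USixCentral.order_two h.za_sq h.za_ne_one
      · rw [CfsgLib.ThreeTransp.Extraspecial.mem_zpowers_involution h.zz]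
        rcases hy with rfl | rfl <;> rintro (e' | e')
        · exact CfsgLib.Recognition.USixCentral.ne_one_of_order_two ha2 e'
        · exact hne e'
        · exact h.za_ne_one e'
        · exact h.za_ne_z e'
    · exact Or.inr (Or.inr hfi)
  · exact Or.inl hs

end Cfsg.Agent.S3232
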