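import Cfsg.Statements.S3244
import Cfsg.Agent.Lib.Components.Constrained
import Cfsg.Agent.Lib.Involution.ZStar.Main
import Cfsg.Agent.S0661

set_option autoImplicit false
open Cfsg

namespace Cfsg.Agent.S3244

open Cfsg
open scoped Pointwise

section
variable {G : Type*} [Group G]

theorem mem_smul_sylow (S : Sylow 2 G) (g x : G) :
    x ∈ ((g • S : Sylow 2 G) : Subgroup G) ↔ g⁻¹ * x * g ∈ (S : Subgroup G) := by
  rw [Sylow.coe_subgroup_smul, Subgroup.mem_pointwise_smul_iff_inv_smul_mem]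
  simp [mul_assoc]

theorem comm_of_mem_centralizer {a x : G} (h : x ∈ Subgroup.centralizer ({a} : Set G)) : x * a = a * x :=
  Subgroup.mem_centralizer_singleton_iff.mp h

theorem orderOf_of_isConj {a b : G} (h : IsConj a b) : orderOf b = orderOf a := by
  obtain ⟨g, rfl⟩ := isConj_iff.mp h
  exact (MulAut.conj g).orderOf_eq a

variable [Finite G]

theorem normal_le_sylow (T : Sylow 2 G) {N : Subgroup G} [N.Normal] (hN : IsPGroup 2 ↥N) :
    N ≤ (T : Subgroup G) := by
  have h := T.3 (T.2.to_sup_of_normal_right hN) le_sup_left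
  rw [← h]
  exact le_sup_right

/-- If a constrained group has trivial odd core, its 2-core contains its centralizer. -/
theorem centralizer_pCore_le [Fact (Nat.Prime 2)] (hc : Cfsg.IsPConstrained 2 G) (hO : Cfsg.pPrimeCore 2 G = ⊥) :
    Subgroup.centralizer (Cfsg.pCore 2 G : Set G) ≤ Cfsg.pCore 2 G :=
  (CfsgLib.Components.centralizer_pCore_le_iff_layer hO).mpr
    (CfsgLib.Components.layer_eq_bot_of_pLayer hO (CfsgLib.Components.isPConstrained_iff.mp hc))

theorem centralizer_pCore_quotient_le [Fact (Nat.Prime 2)] (hc : Cfsg.IsPConstrained 2 G) :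
    Subgroup.centralizer (Cfsg.pCore 2 (G ⧸ Cfsg.pPrimeCore 2 G) : Set (G ⧸ Cfsg.pPrimeCore 2 G)) ≤
      Cfsg.pCore 2 (G ⧸ Cfsg.pPrimeCore 2 G) :=
  (CfsgLib.Components.centralizer_pCore_le_iff_layer CfsgLib.Components.pPrimeCore_quotient_eq_bot).mpr
    (CfsgLib.Components.pLayer_eq_bot_iff.mp (CfsgLib.Components.isPConstrained_iff.mp hc))

theorem normal_of_center (P : Subgroup G) [P.Normal] :
    ((Subgroup.center ↥P).map P.subtype).Normal := inferInstance

theorem eq_of_involutions_cyclic {A : Type*} [Group A] [Finite A] [IsCyclic A] {x y : A}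
    (hx : orderOf x = 2) (hy : orderOf y = 2) : x = y := by
  classical
  haveI := Fintype.ofFinite A
  have h : (Finset.univ.filter fun a : A => orderOf a = 2).card = Nat.totient 2 := by
    refine IsCyclic.card_orderOf_eq_totient ?_
    rw [← hx, Fintype.card_eq_nat_card]
    exact orderOf_dvd_natCard x
  rw [Nat.totient_two, Finset.card_eq_one] at h
  obtain ⟨a, ha⟩ := h
  have h1 : x ∈ ({a} : Finset A) := ha ▸ by simp [hx]
  have h2 : y ∈ ({a} : Finset A) := ha ▸ by simp [hy]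
  rw [Finset.mem_singleton] at h1 h2
  rw [h1, h2]

/-- In a 2-core with cyclic centre, two central involutions coincide. -/
theorem eq_of_central_involutions {P : Subgroup G} (hP : IsCyclic ↥(Subgroup.center ↥P)) {x y : G}
    (hxP : x ∈ P) (hx : ∀ p ∈ P, p * x = x * p) (hx2 : orderOf x = 2)
    (hyP : y ∈ P) (hy : ∀ p ∈ P, p * y = y * p) (hy2 : orderOf y = 2) : x = y := by
  haveI := hP
  let a : ↥(Subgroup.center ↥P) := ⟨⟨x, hxP⟩, Subgroup.mem_center_iff.mpr fun p => Subtype.ext (hx p p.2)⟩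
  let b : ↥(Subgroup.center ↥P) := ⟨⟨y, hyP⟩, Subgroup.mem_center_iff.mpr fun p => Subtype.ext (hy p p.2)⟩
  have ha : orderOf a = 2 := by rw [← Subgroup.orderOf_coe, ← Subgroup.orderOf_coe]; exact hx2
  have hb : orderOf b = 2 := by rw [← Subgroup.orderOf_coe, ← Subgroup.orderOf_coe]; exact hy2
  exact congrArg (fun c : ↥(Subgroup.center ↥P) => ((c : ↥P) : G)) (eq_of_involutions_cyclic ha hb)

theorem inverts_of_fixedPointFree {O : Subgroup G} [O.Normal] (hodd : Odd (Nat.card O)) {z : G}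
    (hz : z * z = 1) (hfree : ∀ o ∈ O, z * o = o * z → o = 1) : ∀ o ∈ O, z * o * z = o⁻¹ := by
  have hzi : z⁻¹ = z := inv_eq_of_mul_eq_one_right hz
  have hzo : ∀ o ∈ O, z * o * z ∈ O := fun o ho => by
    have := Subgroup.Normal.conj_mem (inferInstance : O.Normal) o ho z
    rwa [hzi] at this
  let f : ↥O → ↥O := fun o => ⟨(o : G)⁻¹ * (z * o * z), mul_mem (inv_mem o.2) (hzo o o.2)⟩
  have hinj : Function.Injective f := by
    intro a b hab
    have h : (a : G)⁻¹ * (z * a * z) = (b : G)⁻¹ * (z * b * z) := congrArg Subtype.val hab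
    refine Subtype.ext ?_
    have h2 : z * ((b : G) * (a : G)⁻¹) = ((b : G) * (a : G)⁻¹) * z := by
      have h3 : (b : G) * ((a : G)⁻¹ * (z * a * z)) = z * b * z := by rw [h, mul_inv_cancel_left]
      calc z * ((b : G) * (a : G)⁻¹) = (z * b * z) * (z * (a : G)⁻¹) := by
            rw [show z * (b : G) * z * (z * (a : G)⁻¹) = z * b * (z * z) * (a : G)⁻¹ by group, hz, mul_one, mul_assoc]
        _ = (b : G) * ((a : G)⁻¹ * (z * a * z)) * (z * (a : G)⁻¹) := by rw [h3]
        _ = (b : G) * (a : G)⁻¹ * (z * a * (z * z) * (a : G)⁻¹) := by group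
        _ = _ := by rw [hz, mul_one, mul_inv_cancel_right]
    exact (mul_inv_eq_one.mp (hfree _ (mul_mem b.2 (inv_mem a.2)) h2)).symm
  intro o ho
  obtain ⟨a, ha⟩ := (Finite.injective_iff_surjective.mp hinj) ⟨o, ho⟩
  have h : (a : G)⁻¹ * (z * a * z) = o := congrArg Subtype.val ha
  rw [← h, show z * ((a : G)⁻¹ * (z * a * z)) * z = z * (a : G)⁻¹ * z * a * (z * z) by group, hz, mul_one,
    mul_inv_rev, inv_inv, mul_inv_rev, mul_inv_rev, hzi]
  group

/-- In a constrained group whose 2-core has cyclic centre, the product of two commuting involutions that are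
central modulo the odd core in the 2-core and invert the odd core lies in that centre. -/
theorem central_of_invert [Fact (Nat.Prime 2)] {t : G} (ht : IsPGroup 2 ↥(Subgroup.zpowers t))
    (htO : ∀ o ∈ Cfsg.pPrimeCore 2 G, t * o = o * t)
    (htc : QuotientGroup.mk' (Cfsg.pPrimeCore 2 G) t ∈
      Subgroup.centralizer (Cfsg.pCore 2 (G ⧸ Cfsg.pPrimeCore 2 G) : Set (G ⧸ Cfsg.pPrimeCore 2 G)))
    (hc : Cfsg.IsPConstrained 2 G) :
    t ∈ Cfsg.pCore 2 G ∧ ∀ p ∈ Cfsg.pCore 2 G, p * t = t * p := by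
  haveI := CfsgLib.Solvable.Cores.pPrimeCore_normal (G := G) 2
  haveI := CfsgLib.Solvable.Cores.pCore_normal (G := G) 2
  set O := Cfsg.pPrimeCore 2 G with hO
  set π := QuotientGroup.mk' O with hπ
  haveI hPn : (Cfsg.pCore 2 (G ⧸ O)).Normal := CfsgLib.Solvable.Cores.pCore_normal 2
  haveI := hPn.comap π
  haveI : (Subgroup.centralizer (O : Set G)).Normal := Subgroup.normal_centralizer
  let A : Subgroup G := (Cfsg.pCore 2 (G ⧸ O)).comap π ⊓ Subgroup.centralizer (O : Set G)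
  haveI hAn : A.Normal := inferInstance
  have htA : t ∈ A := ⟨centralizer_pCore_quotient_le hc htc, fun o ho => (htO o ho).symm⟩
  let f : ↥A →* ↥(Cfsg.pCore 2 (G ⧸ O)) := (π.comp A.subtype).codRestrict _ fun a => (Subgroup.mem_inf.mp a.2).1
  have hker : f.ker ≤ Subgroup.center ↥A := by
    intro a ha
    have haO : (a : G) ∈ O := (QuotientGroup.eq_one_iff (a : G)).mp (congrArg Subtype.val ha)
    exact Subgroup.mem_center_iff.mpr fun b =>
      Subtype.ext (((Subgroup.mem_inf.mp b.2).2 (a : G) haO).symm)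
  haveI := (CfsgLib.Solvable.Cores.isPGroup_pCore (G := G ⧸ O) 2).isNilpotent
  haveI : Group.IsNilpotent ↥A := Subgroup.isNilpotent_of_ker_le_center f hker
  obtain ⟨T, hT⟩ := (ht.comap_subtype (K := A)).exists_le_sylow
  haveI hTn : (T : Subgroup ↥A).Normal :=
    Sylow.normal_of_normalizerCondition Group.normalizerCondition_of_isNilpotent T
  haveI := T.characteristic_of_normal hTn
  haveI : ((T : Subgroup ↥A).map A.subtype).Normal := inferInstance
  have htP : t ∈ Cfsg.pCore 2 G :=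
    CfsgLib.Solvable.Cores.le_pCore (N := (T : Subgroup ↥A).map A.subtype) (T.2.map _)
      ⟨⟨t, htA⟩, hT (Subgroup.mem_zpowers t), rfl⟩
  refine ⟨htP, fun p hp => ?_⟩
  have hpπ : π p ∈ Cfsg.pCore 2 (G ⧸ O) := by
    haveI : ((Cfsg.pCore 2 G).map π).Normal :=
      (CfsgLib.Solvable.Cores.pCore_normal (G := G) 2).map π (QuotientGroup.mk'_surjective O)
    exact CfsgLib.Solvable.Cores.le_pCore (N := (Cfsg.pCore 2 G).map π)
      ((CfsgLib.Solvable.Cores.isPGroup_pCore 2).map π) ⟨p, hp, rfl⟩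
  have h1 := htc (π p) hpπ
  have hmem : p * t * p⁻¹ * t⁻¹ ∈ O := by
    rw [← QuotientGroup.ker_mk' O, MonoidHom.mem_ker, ← hπ, map_mul, map_mul, map_mul, map_inv, map_inv, h1,
      mul_inv_cancel_right, mul_inv_cancel]
  have hmem2 : p * t * p⁻¹ * t⁻¹ ∈ Cfsg.pCore 2 G :=
    mul_mem (mul_mem (mul_mem hp htP) (inv_mem hp)) (inv_mem htP)
  have hone : p * t * p⁻¹ * t⁻¹ = 1 := by
    have h3 := CfsgLib.Components.inf_eq_bot_of_pGroup_coprime (CfsgLib.Solvable.Cores.isPGroup_pCore (G := G) 2)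
      (CfsgLib.Solvable.Cores.coprime_card_pPrimeCore (G := G) 2)
    exact (Subgroup.eq_bot_iff_forall _).mp h3 _ ⟨hmem2, hmem⟩
  rwa [mul_inv_eq_one, mul_inv_eq_iff_eq_mul] at hone

end


/-- Say that a finite group G is of characteristic 2 type in the early sense when a Sylow 2-subgroup S of G has a self-centralizing normal subgroup of rank at least 3, S normalizes no nontrivial subgroup of odd order, and every 2-local subgroup of G is 2-constrained. If G is a non-abelian simple group of characteristic 2 type in this sense, then for some maximal 2-local subgroup M of G the centre of O₂(M) is not cyclic. -/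
theorem result {G : Type*} [Group G] [Finite G] [IsSimpleGroup G]
    (hG : ¬ IsMulCommutative G) (S : Sylow 2 G) (A : Subgroup G) (hA : Cfsg.IsSCN (S : Subgroup G) A) (hA3 : ¬ Cfsg.PRankLE 2 2 ↥A)
    (hinv : ∀ X : Subgroup G, Odd (Nat.card ↥X) → (S : Subgroup G) ≤ Subgroup.normalizer (X : Set G) → X = ⊥)
    (hcon : ∀ T : Subgroup G, IsPGroup 2 ↥T → T ≠ ⊥ → Cfsg.IsPConstrained 2 ↥(Subgroup.normalizer (T : Set G))) :
    ∃ M : Subgroup G, Cfsg.IsMaximalTwoLocal M ∧ ¬ IsCyclic ↥(Subgroup.center ↥(Cfsg.pCore 2 ↥M)) := by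
  classical
  haveI := Fact.mk Nat.prime_two
  by_contra hneg
  push Not at hneg
  -- basic facts
  have hSne : (S : Subgroup G) ≠ ⊥ := by
    intro h
    have hcard : Odd (Nat.card G) := by
      by_contra hev
      rw [Nat.not_odd_iff_even, even_iff_two_dvd] at hev
      have := S.dvd_card_of_dvd_card hev
      rw [h, Subgroup.card_bot] at this
      norm_num at this
    have htop := hinv ⊤ (by rwa [Subgroup.card_top]) (by rw [h]; exact bot_le)
    exact hG ⟨⟨fun a b => by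
      rw [(Subgroup.mem_bot.mp (htop ▸ Subgroup.mem_top a) : a = 1), one_mul, mul_one]⟩⟩
  have hmax : ∀ H : Subgroup G, Cfsg.IsTwoLocal H → ∃ M : Subgroup G, Cfsg.IsMaximalTwoLocal M ∧ H ≤ M := by
    intro H hH
    obtain ⟨M, hHM, hM⟩ := exists_maximal_ge_of_wellFoundedGT (fun M : Subgroup G => Cfsg.IsTwoLocal M) H hH
    exact ⟨M, ⟨hM.prop, fun N hN hle => le_antisymm (hM.le_of_ge hN hle) hle⟩, hHM⟩
  have hinv' : ∀ (g : G) (X : Subgroup G), Odd (Nat.card ↥X) →
      ((g • S : Sylow 2 G) : Subgroup G) ≤ Subgroup.normalizer (X : Set G) → X = ⊥ := by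
    intro g X hX hle
    have h := hinv (X.map (MulAut.conj g⁻¹).toMonoidHom)
      (by rwa [Subgroup.card_map_of_injective (f := (MulAut.conj g⁻¹).toMonoidHom) (MulAut.conj g⁻¹).injective]) ?_
    · exact (Subgroup.map_eq_bot_iff_of_injective _ (MulAut.conj g⁻¹).injective).mp h
    · refine le_trans ?_ (Subgroup.le_normalizer_map _)
      intro s hs
      refine ⟨g * s * g⁻¹, hle ?_, ?_⟩
      · rw [mem_smul_sylow]
        simpa [mul_assoc] using hs
      · simp [mul_assoc]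
  -- the odd core of a subgroup containing a Sylow subgroup
  have hcore : ∀ (g : G) (M : Subgroup G), ((g • S : Sylow 2 G) : Subgroup G) ≤ M → Cfsg.pPrimeCore 2 ↥M = ⊥ := by
    intro g M hle
    refine (Subgroup.map_eq_bot_iff_of_injective _ M.subtype_injective).mp (hinv' g _ ?_ ?_)
    · rw [Subgroup.card_map_of_injective M.subtype_injective]
      exact Nat.coprime_two_right.mp (CfsgLib.Solvable.Cores.coprime_card_pPrimeCore 2)
    · refine hle.trans ?_
      haveI := CfsgLib.Solvable.Cores.pPrimeCore_normal (G := ↥M) 2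
      have h := Subgroup.le_normalizer_map (H := Cfsg.pPrimeCore 2 ↥M) M.subtype
      rwa [Subgroup.normalizer_eq_top, ← MonoidHom.range_eq_map, M.range_subtype] at h
  have huniqS : ∀ x y : G, orderOf x = 2 → orderOf y = 2 → x ∈ (S : Subgroup G) → y ∈ (S : Subgroup G) →
      (∀ s ∈ (S : Subgroup G), s * x = x * s) → (∀ s ∈ (S : Subgroup G), s * y = y * s) → x = y := by
    intro x y hx hy hxS hyS hxc hyc
    obtain ⟨M, hM, hNM⟩ := hmax (Subgroup.normalizer ((S : Subgroup G) : Set G)) ⟨_, S.2, hSne, rfl⟩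
    have hSM : (S : Subgroup G) ≤ M := Subgroup.le_normalizer.trans hNM
    obtain ⟨T₀, hT₀, hT₀1, hMT⟩ := hM.1
    have hcM : Cfsg.IsPConstrained 2 ↥M := by rw [hMT]; exact hcon T₀ hT₀ hT₀1
    have hOM : Cfsg.pPrimeCore 2 ↥M = ⊥ := hcore 1 M (by rwa [one_smul])
    haveI := CfsgLib.Solvable.Cores.pCore_normal (G := ↥M) 2
    have hPS : ∀ q ∈ Cfsg.pCore 2 ↥M, (q : G) ∈ (S : Subgroup G) := fun q hq =>
      normal_le_sylow (S.subtype hSM) (CfsgLib.Solvable.Cores.isPGroup_pCore 2) hq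
    have hin : ∀ v (hv : v ∈ M), (∀ s ∈ (S : Subgroup G), s * v = v * s) → (⟨v, hv⟩ : ↥M) ∈ Cfsg.pCore 2 ↥M :=
      fun v hv hvc => centralizer_pCore_le hcM hOM fun q hq => Subtype.ext (hvc q (hPS q hq))
    exact congrArg Subtype.val (eq_of_central_involutions (hneg M hM) (hin x (hSM hxS) hxc)
      (fun q hq => Subtype.ext (hxc q (hPS q hq))) (by rwa [Subgroup.orderOf_mk])
      (hin y (hSM hyS) hyc) (fun q hq => Subtype.ext (hyc q (hPS q hq))) (by rwa [Subgroup.orderOf_mk]))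
  obtain ⟨z, hz, hzS, hzc⟩ : ∃ z : G, orderOf z = 2 ∧ z ∈ (S : Subgroup G) ∧ ∀ s ∈ (S : Subgroup G), s * z = z * s := by
    haveI : Nontrivial ↥(S : Subgroup G) := (Subgroup.nontrivial_iff_ne_bot _).mpr hSne
    haveI := S.2.center_nontrivial
    obtain ⟨k, hk0, hk⟩ := (S.2.to_subgroup (Subgroup.center ↥(S : Subgroup G))).nontrivial_iff_card.mp inferInstance
    obtain ⟨c, hc⟩ := exists_prime_orderOf_dvd_card' (G := ↥(Subgroup.center ↥(S : Subgroup G))) 2 (hk ▸ dvd_pow_self 2 hk0.ne')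
    refine ⟨((c : ↥(S : Subgroup G)) : G), by rw [Subgroup.orderOf_coe, Subgroup.orderOf_coe, hc], (c : ↥(S : Subgroup G)).2, ?_⟩
    exact fun s hs => congrArg Subtype.val (Subgroup.mem_center_iff.mp c.2 ⟨s, hs⟩)
  have hord : ∀ a, IsConj z a → orderOf a = 2 := fun a ha => (orderOf_of_isConj ha).trans hz
  have hsq : ∀ a, IsConj z a → a * a = 1 := fun a ha => by
    rw [← sq, ← hord a ha, pow_orderOf_eq_one]
  have hunique : ∀ (U : Sylow 2 G) a b, IsConj z a → IsConj z b → a ∈ (U : Subgroup G) → b ∈ (U : Subgroup G) →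
      (U : Subgroup G) ≤ Subgroup.centralizer ({a} : Set G) → (U : Subgroup G) ≤ Subgroup.centralizer ({b} : Set G) →
      a = b := by
    intro U a b ha hb haU hbU hUa hUb
    obtain ⟨g, rfl⟩ := MulAction.exists_smul_eq G S U
    rw [mem_smul_sylow] at haU hbU
    have hc' : ∀ v, ((g • S : Sylow 2 G) : Subgroup G) ≤ Subgroup.centralizer ({v} : Set G) →
        ∀ s ∈ (S : Subgroup G), s * (g⁻¹ * v * g) = g⁻¹ * v * g * s := by
      intro v hv s hs
      have h := comm_of_mem_centralizer (hv (show g * s * g⁻¹ ∈ _ by rw [mem_smul_sylow]; simpa [mul_assoc] using hs))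
      calc s * (g⁻¹ * v * g) = g⁻¹ * (g * s * g⁻¹ * v) * g := by group
        _ = g⁻¹ * (v * (g * s * g⁻¹)) * g := by rw [h]
        _ = _ := by group
    have ho : ∀ v, IsConj z v → orderOf (g⁻¹ * v * g) = 2 := fun v hv => by
      have := (MulAut.conj g⁻¹).orderOf_eq v
      simp only [MulAut.conj_apply, inv_inv] at this
      rw [this]; exact hord v hv
    have := huniqS _ _ (ho a ha) (ho b hb) haU hbU (hc' a hUa) (hc' b hUb)
    exact mul_left_cancel (mul_right_cancel this)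
  have hexc : ∀ U : Sylow 2 G, ∃ a, IsConj z a ∧ a ∈ (U : Subgroup G) ∧ (U : Subgroup G) ≤ Subgroup.centralizer ({a} : Set G) := by
    intro U
    obtain ⟨g, rfl⟩ := MulAction.exists_smul_eq G S U
    refine ⟨g * z * g⁻¹, isConj_iff.mpr ⟨g, rfl⟩, by rw [mem_smul_sylow]; simpa [mul_assoc] using hzS, fun x hx => ?_⟩
    rw [mem_smul_sylow] at hx
    refine Subgroup.mem_centralizer_singleton_iff.mpr ?_
    calc x * (g * z * g⁻¹) = g * (g⁻¹ * x * g * z) * g⁻¹ := by group
      _ = g * (z * (g⁻¹ * x * g)) * g⁻¹ := by rw [hzc _ hx]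
      _ = _ := by group
  have hext : ∀ a, IsConj z a → ∀ R : Subgroup G, IsPGroup 2 ↥R → R ≤ Subgroup.centralizer ({a} : Set G) →
      ∃ U : Sylow 2 G, R ≤ (U : Subgroup G) ∧ a ∈ (U : Subgroup G) ∧ (U : Subgroup G) ≤ Subgroup.centralizer ({a} : Set G) := by
    intro a ha R hR hRa
    obtain ⟨g, rfl⟩ := isConj_iff.mp ha
    set C := Subgroup.centralizer ({g * z * g⁻¹} : Set G) with hC
    have hgS : ((g • S : Sylow 2 G) : Subgroup G) ≤ C := by
      intro x hx
      rw [mem_smul_sylow] at hx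
      refine Subgroup.mem_centralizer_singleton_iff.mpr ?_
      calc x * (g * z * g⁻¹) = g * (g⁻¹ * x * g * z) * g⁻¹ := by group
        _ = g * (z * (g⁻¹ * x * g)) * g⁻¹ := by rw [hzc _ hx]
        _ = _ := by group
    obtain ⟨T, hT⟩ := (hR.comap_subtype (K := C)).exists_le_sylow
    obtain ⟨c, hc⟩ := MulAction.exists_smul_eq ↥C ((g • S : Sylow 2 G).subtype hgS) T
    have hU : ∀ y : ↥C, y ∈ (T : Subgroup ↥C) ↔ (y : G) ∈ (((c : G) • (g • S) : Sylow 2 G) : Subgroup G) := by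
      intro y
      rw [← hc, Sylow.coe_subgroup_smul, Subgroup.mem_pointwise_smul_iff_inv_smul_mem, Sylow.coe_subgroup_smul,
        Subgroup.mem_pointwise_smul_iff_inv_smul_mem]
      exact Iff.rfl
    have hle : (((c : G) • (g • S) : Sylow 2 G) : Subgroup G) ≤ C := by
      intro x hx
      rw [mem_smul_sylow] at hx
      have h := mul_mem (mul_mem c.2 (hgS hx)) (inv_mem c.2)
      simpa [mul_assoc] using h
    refine ⟨(c : G) • (g • S), fun r hr => (hU ⟨r, hRa hr⟩).mp (hT hr), ?_, hle⟩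
    rw [mem_smul_sylow, mem_smul_sylow]
    have hcc : (c : G)⁻¹ * (g * z * g⁻¹) * c = g * z * g⁻¹ := by
      rw [mul_assoc, ← comm_of_mem_centralizer c.2, inv_mul_cancel_left]
    rw [hcc]
    simpa [mul_assoc] using hzS
  -- a pair of distinct commuting conjugates of `z`
  obtain ⟨y, hy, hyz, hyc⟩ : ∃ y, IsConj z y ∧ y ≠ z ∧ Commute z y := by
    by_contra hno
    push Not at hno
    have hiso : Cfsg.IsIsolatedInvolution z := ⟨hz, fun g hg => by
      by_contra hne
      exact hno _ (isConj_iff.mpr ⟨g, rfl⟩) hne hg⟩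
    have hO : Cfsg.oddCore G = ⊥ := by
      haveI := CfsgLib.Involution.ZStar.oddCore_normal (G := G)
      refine hinv _ CfsgLib.Involution.ZStar.odd_card_oddCore ?_
      rw [Subgroup.normalizer_eq_top]
      exact le_top
    have hzZ : z ∈ Subgroup.center G := Subgroup.mem_center_iff.mpr fun g => by
      have h := CfsgLib.Involution.ZStar.comm_mem_oddCore hiso g
      rw [hO, Subgroup.mem_bot, mul_inv_eq_one, mul_inv_eq_iff_eq_mul] at h
      exact h.symm
    rcases (inferInstance : (Subgroup.center G).Normal).eq_bot_or_eq_top with h | h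
    · rw [h, Subgroup.mem_bot] at hzZ
      rw [hzZ, orderOf_one] at hz
      omega
    · exact hG ⟨⟨fun a b => Subgroup.mem_center_iff.mp (h ▸ Subgroup.mem_top b) a⟩⟩
  -- a maximal 2-subgroup centralised by two conjugates of `z` lying in it
  let P : Subgroup G → Prop := fun R => IsPGroup 2 ↥R ∧ ∃ a b, IsConj z a ∧ IsConj z b ∧ a ≠ b ∧ a ∈ R ∧ b ∈ R ∧
    R ≤ Subgroup.centralizer ({a} : Set G) ∧ R ≤ Subgroup.centralizer ({b} : Set G)
  have hPne : ∃ R, P R := by
    obtain ⟨U, hzU', hyU, hUy⟩ := hext y hy (Subgroup.zpowers z) (IsPGroup.of_card (n := 1) (by rw [Nat.card_zpowers, hz, pow_one]))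
      (Subgroup.zpowers_le.mpr (Subgroup.mem_centralizer_singleton_iff.mpr hyc.eq))
    refine ⟨Subgroup.zpowers z ⊔ Subgroup.zpowers y, U.2.to_le (sup_le hzU' (Subgroup.zpowers_le.mpr hyU)),
      z, y, IsConj.refl z, hy, hyz.symm, Subgroup.mem_sup_left (Subgroup.mem_zpowers z),
      Subgroup.mem_sup_right (Subgroup.mem_zpowers y), sup_le ?_ ?_, sup_le ?_ ?_⟩ <;>
      refine Subgroup.zpowers_le.mpr (Subgroup.mem_centralizer_singleton_iff.mpr ?_)
    · rfl
    · exact hyc.eq.symm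
    · exact hyc.eq
    · rfl
  obtain ⟨R, ⟨hR, z₁, z₂, hz₁, hz₂, hne, hz₁R, hz₂R, hR₁, hR₂⟩, hRmax⟩ :=
    (Set.toFinite {R : Subgroup G | P R}).exists_maximal hPne
  -- above `R` there is a single central conjugate
  have hone : ∀ T : Subgroup G, IsPGroup 2 ↥T → R < T → ∀ a b, IsConj z a → IsConj z b → a ∈ T → b ∈ T →
      T ≤ Subgroup.centralizer ({a} : Set G) → T ≤ Subgroup.centralizer ({b} : Set G) → a = b := by
    intro T hT hlt a b ha hb haT hbT hTa hTb
    by_contra hab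
    exact hlt.not_ge (hRmax (show T ∈ {R : Subgroup G | P R} from ⟨hT, a, b, ha, hb, hab, haT, hbT, hTa, hTb⟩) hlt.le)
  have hzR : ∀ {a}, IsConj z a → R ≤ Subgroup.centralizer ({a} : Set G) → a ∈ R →
      ∃ R' : Subgroup G, R < R' ∧ R' ≤ Subgroup.normalizer (R : Set G) ∧ IsPGroup 2 ↥R' ∧
        R' ≤ Subgroup.centralizer ({a} : Set G) := by
    intro a ha hRa haR
    obtain ⟨U, hRU, haU, hUa⟩ := hext a ha R hR hRa
    have hlt : R < (U : Subgroup G) := by
      refine lt_of_le_of_ne hRU fun he => hne (hunique U z₁ z₂ hz₁ hz₂ (he ▸ hz₁R) (he ▸ hz₂R) (he ▸ hR₁) (he ▸ hR₂))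
    haveI := U.2.isNilpotent
    have h1 : R.subgroupOf (U : Subgroup G) < ⊤ := by
      rw [lt_top_iff_ne_top, Ne, Subgroup.subgroupOf_eq_top]
      exact hlt.not_ge
    obtain ⟨x, hx1, hx2⟩ := SetLike.exists_of_lt (Group.normalizerCondition_of_isNilpotent _ h1)
    rw [← Subgroup.subgroupOf_normalizer_eq hRU] at hx1
    refine ⟨(U : Subgroup G) ⊓ Subgroup.normalizer (R : Set G), lt_of_le_of_ne (le_inf hRU Subgroup.le_normalizer)
      (fun he => hx2 ?_), inf_le_right, U.2.to_le inf_le_left, inf_le_left.trans hUa⟩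
    show (x : G) ∈ R
    rw [he]
    exact ⟨x.2, hx1⟩
  have hRne : R ≠ ⊥ := fun h => by
    rw [h, Subgroup.mem_bot] at hz₁R
    have := hord _ hz₁
    rw [hz₁R, orderOf_one] at this
    omega
  set H := Subgroup.normalizer (R : Set G) with hH
  -- Sylow subgroups of `H` centralised by `z₁` and by `z₂`
  have hsyl : ∀ a, IsConj z a → R ≤ Subgroup.centralizer ({a} : Set G) → a ∈ R → ∃ T : Sylow 2 ↥H,
      R < (T : Subgroup ↥H).map H.subtype ∧ a ∈ (T : Subgroup ↥H).map H.subtype ∧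
      (T : Subgroup ↥H).map H.subtype ≤ Subgroup.centralizer ({a} : Set G) := by
    intro a ha hRa haR
    obtain ⟨R', hlt, hR'H, hR', hR'a⟩ := hzR ha hRa haR
    obtain ⟨T, hT⟩ := (hR'.comap_subtype (K := H)).exists_le_sylow
    set T' := (T : Subgroup ↥H).map H.subtype with hT'
    have hR'T : R' ≤ T' := fun x hx => ⟨⟨x, hR'H hx⟩, hT hx, rfl⟩
    refine ⟨T, hlt.trans_le hR'T, hR'T (hlt.le haR), ?_⟩
    obtain ⟨V, hV⟩ := (T.2.map H.subtype).exists_le_sylow
    obtain ⟨b, hb, hbV, hVb⟩ := hexc V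
    have hab : a = b := by
      refine hone (R' ⊔ Subgroup.zpowers b) (V.2.to_le (sup_le (hR'T.trans hV) (Subgroup.zpowers_le.mpr hbV)))
        (hlt.trans_le le_sup_left) a b ha hb (Subgroup.mem_sup_left (hlt.le haR))
        (Subgroup.mem_sup_right (Subgroup.mem_zpowers b)) (sup_le hR'a ?_) (sup_le ((hR'T.trans hV).trans hVb) ?_)
      · exact Subgroup.zpowers_le.mpr (Subgroup.mem_centralizer_singleton_iff.mpr
          (comm_of_mem_centralizer (hVb (hV (hR'T (hlt.le haR))))).symm)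
      · exact Subgroup.zpowers_le.mpr (Subgroup.mem_centralizer_singleton_iff.mpr rfl)
    rw [hab]
    exact hV.trans hVb
  obtain ⟨T₁, hT₁R, hz₁T, hT₁c⟩ := hsyl z₁ hz₁ hR₁ hz₁R
  obtain ⟨T₂, hT₂R, hz₂T, hT₂c⟩ := hsyl z₂ hz₂ hR₂ hz₂R
  obtain ⟨h, hh⟩ := MulAction.exists_smul_eq ↥H T₁ T₂
  have hT₂mem : ∀ x : ↥H, x ∈ (T₂ : Subgroup ↥H) ↔ h⁻¹ * x * h ∈ (T₁ : Subgroup ↥H) := fun x => by
    rw [← hh, mem_smul_sylow]
  have hmove : (h : G) * z₁ * (h : G)⁻¹ = z₂ := by
    obtain ⟨v, hv, hvz⟩ := hz₁T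
    have hvz' : (v : G) = z₁ := hvz
    refine hone _ (T₂.2.map H.subtype) hT₂R _ _ (hz₁.trans (isConj_iff.mpr ⟨(h : G), rfl⟩)) hz₂ ?_ hz₂T ?_ hT₂c
    · refine ⟨h * v * h⁻¹, (hT₂mem _).mpr (show h⁻¹ * (h * v * h⁻¹) * h ∈ (T₁ : Subgroup ↥H) by rwa [show h⁻¹ * (h * v * h⁻¹) * h = v by group]), ?_⟩
      rw [← hvz']; rfl
    · rintro _ ⟨x, hx, rfl⟩
      have hc := comm_of_mem_centralizer (hT₁c ⟨_, (hT₂mem x).mp hx, rfl⟩)
      refine Subgroup.mem_centralizer_singleton_iff.mpr ?_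
      show (x : G) * ((h : G) * z₁ * (h : G)⁻¹) = ((h : G) * z₁ * (h : G)⁻¹) * (x : G)
      calc (x : G) * ((h : G) * z₁ * (h : G)⁻¹) = (h : G) * (((h : G)⁻¹ * (x : G) * (h : G)) * z₁) * (h : G)⁻¹ := by group
        _ = (h : G) * (z₁ * ((h : G)⁻¹ * (x : G) * (h : G))) * (h : G)⁻¹ := by
          have hc' : (h : G)⁻¹ * (x : G) * (h : G) * z₁ = z₁ * ((h : G)⁻¹ * (x : G) * (h : G)) := hc
          rw [hc']
        _ = _ := by group
  -- a maximal 2-local over `H` and its central involution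
  obtain ⟨M, hM, hHM⟩ := hmax H ⟨R, hR, hRne, rfl⟩
  obtain ⟨T₀, hT₀, hT₀1, hMT⟩ := hM.1
  have hcM : Cfsg.IsPConstrained 2 ↥M := by rw [hMT]; exact hcon T₀ hT₀ hT₀1
  haveI hPn := CfsgLib.Solvable.Cores.pCore_normal (G := ↥M) 2
  set Q := Cfsg.pCore 2 ↥M with hQ
  have hQp : IsPGroup 2 ↥Q := CfsgLib.Solvable.Cores.isPGroup_pCore 2
  haveI hQnt : Nontrivial ↥Q := by
    rw [Subgroup.nontrivial_iff_ne_bot]
    intro hbot
    haveI : (T₀.subgroupOf M).Normal := by
      rw [hMT]; exact Subgroup.normal_in_normalizer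
    have h1 : T₀.subgroupOf M ≤ Q := CfsgLib.Solvable.Cores.le_pCore (hT₀.comap_subtype (K := M))
    rw [hbot, le_bot_iff, Subgroup.subgroupOf_eq_bot] at h1
    have hle : T₀ ≤ M := hMT ▸ Subgroup.le_normalizer
    exact hT₀1 ((inf_eq_left.mpr hle).symm.trans (disjoint_iff.mp h1))
  haveI := hQp.center_nontrivial
  obtain ⟨k, hk0, hk⟩ := (hQp.to_subgroup (Subgroup.center ↥Q)).nontrivial_iff_card.mp inferInstance
  obtain ⟨c, hc⟩ := exists_prime_orderOf_dvd_card' (G := ↥(Subgroup.center ↥Q)) 2 (hk ▸ dvd_pow_self 2 hk0.ne')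
  set wM : ↥M := ((c : ↥Q) : ↥M) with hwM
  set w : G := (wM : G) with hwdef
  have hwM2 : orderOf wM = 2 := by rw [hwM, Subgroup.orderOf_coe, Subgroup.orderOf_coe, hc]
  have hw2 : orderOf w = 2 := by rw [hwdef, Subgroup.orderOf_coe, hwM2]
  have hwQ : wM ∈ Q := (c : ↥Q).2
  have hwc : ∀ q ∈ Q, q * wM = wM * q := fun q hq =>
    congrArg Subtype.val (Subgroup.mem_center_iff.mp c.2 ⟨q, hq⟩)
  have huniqM : ∀ v ∈ Q, (∀ q ∈ Q, q * v = v * q) → orderOf v = 2 → v = wM := fun v hv hvc hv2 =>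
    eq_of_central_involutions (hneg M hM) hv hvc hv2 hwQ hwc hwM2
  have hMw : ∀ m : ↥M, m * wM = wM * m := fun m => by
    rw [← mul_inv_eq_iff_eq_mul]
    refine huniqM _ (hPn.conj_mem _ hwQ m) (fun q hq => ?_) ((MulAut.conj m).orderOf_eq wM ▸ hwM2)
    have h1 := hwc (m⁻¹ * q * m) (by simpa using hPn.conj_mem _ hq m⁻¹)
    calc q * (m * wM * m⁻¹) = m * (m⁻¹ * q * m * wM) * m⁻¹ := by group
      _ = m * (wM * (m⁻¹ * q * m)) * m⁻¹ := by rw [h1]
      _ = _ := by group
  have hCwM : Subgroup.centralizer ({w} : Set G) ≤ M := by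
    have hle : Subgroup.centralizer ({w} : Set G) ≤ Subgroup.normalizer (Subgroup.zpowers w : Set G) :=
      le_trans (by rw [Subgroup.zpowers_eq_closure, Subgroup.centralizer_closure]) (Subgroup.centralizer_le_normalizer _)
    have hMC : M ≤ Subgroup.centralizer ({w} : Set G) := fun m hm =>
      Subgroup.mem_centralizer_singleton_iff.mpr (congrArg Subtype.val (hMw ⟨m, hm⟩))
    have hloc : Cfsg.IsTwoLocal (Subgroup.normalizer (Subgroup.zpowers w : Set G)) :=
      ⟨_, IsPGroup.of_card (n := 1) (by rw [Nat.card_zpowers, hw2, pow_one]),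
        fun h => by rw [Subgroup.zpowers_eq_bot] at h; rw [h, orderOf_one] at hw2; omega, rfl⟩
    exact hle.trans (hM.2 _ hloc (hMC.trans hle)).le
  -- `z₁` is central in a Sylow subgroup of `M`
  have hH_R : R ≤ H := Subgroup.le_normalizer
  obtain ⟨T', hT'⟩ := ((T₁.2.map H.subtype).comap_subtype (K := M)).exists_le_sylow
  set z₁M : ↥M := ⟨z₁, hHM (hH_R hz₁R)⟩ with hz₁M
  have hz₁T' : z₁M ∈ (T' : Subgroup ↥M) := hT' hz₁T
  have hT₁T' : (T₁ : Subgroup ↥H).map H.subtype ≤ (T' : Subgroup ↥M).map M.subtype := by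
    intro x hx
    obtain ⟨v, hv, rfl⟩ := hx
    exact ⟨⟨(v : G), hHM v.2⟩, hT' ⟨v, hv, rfl⟩, rfl⟩
  have hwT' : wM ∈ (T' : Subgroup ↥M) := normal_le_sylow T' hQp hwQ
  have hz₁c : ∀ q ∈ (T' : Subgroup ↥M), q * z₁M = z₁M * q := by
    obtain ⟨V, hV⟩ := (T'.2.map M.subtype).exists_le_sylow
    obtain ⟨b, hb, hbV, hVb⟩ := hexc V
    have hbM : b ∈ M := hCwM (Subgroup.mem_centralizer_singleton_iff.mpr
      (comm_of_mem_centralizer (hVb (hV ⟨wM, hwT', rfl⟩))).symm)
    have hbz : z₁ = b := by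
      refine hone ((T₁ : Subgroup ↥H).map H.subtype ⊔ Subgroup.zpowers b)
        (V.2.to_le (sup_le (hT₁T'.trans hV) (Subgroup.zpowers_le.mpr hbV))) (hT₁R.trans_le le_sup_left) z₁ b hz₁ hb
        (Subgroup.mem_sup_left hz₁T) (Subgroup.mem_sup_right (Subgroup.mem_zpowers b)) (sup_le hT₁c ?_)
        (sup_le ((hT₁T'.trans hV).trans hVb) ?_)
      · exact Subgroup.zpowers_le.mpr (Subgroup.mem_centralizer_singleton_iff.mpr
          (comm_of_mem_centralizer (hVb (hV (hT₁T' hz₁T)))).symm)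
      · exact Subgroup.zpowers_le.mpr (Subgroup.mem_centralizer_singleton_iff.mpr rfl)
    intro q hq
    refine Subtype.ext ?_
    show (q : G) * z₁ = z₁ * q
    rw [hbz]
    exact comm_of_mem_centralizer (hVb (hV ⟨q, hq, rfl⟩))
  -- `z₁` inverts the odd core of `M`
  haveI hOn := CfsgLib.Solvable.Cores.pPrimeCore_normal (G := ↥M) 2
  set O := Cfsg.pPrimeCore 2 ↥M with hOdef
  have hOodd : Odd (Nat.card ↥O) := Nat.coprime_two_right.mp (CfsgLib.Solvable.Cores.coprime_card_pPrimeCore 2)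
  have hfree : ∀ o ∈ O, z₁M * o = o * z₁M → o = 1 := by
    obtain ⟨U, -, -, hUc⟩ := hext z₁ hz₁ ⊥ IsPGroup.of_bot bot_le
    obtain ⟨g, rfl⟩ := MulAction.exists_smul_eq G S U
    set Y := Subgroup.centralizer ({z₁} : Set G) with hY
    have hOY : Cfsg.pPrimeCore 2 ↥Y = ⊥ := hcore g Y hUc
    have hcY : Cfsg.IsPConstrained 2 ↥Y := by
      have he : Y = Subgroup.normalizer (Subgroup.zpowers z₁ : Set G) := by
        refine le_antisymm (le_trans (by rw [Subgroup.zpowers_eq_closure, Subgroup.centralizer_closure]) (Subgroup.centralizer_le_normalizer _)) ?_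
        intro x hx
        obtain ⟨i, hi⟩ := Subgroup.mem_zpowers_iff.mp ((Subgroup.mem_normalizer_iff.mp hx z₁).mp (Subgroup.mem_zpowers z₁))
        refine Subgroup.mem_centralizer_singleton_iff.mpr (mul_inv_eq_iff_eq_mul.mp ?_)
        rcases Int.even_or_odd i with ⟨r, hr⟩ | ⟨r, hr⟩
        · exfalso
          rw [hr, zpow_add, ← (Commute.refl z₁).mul_zpow, hsq _ hz₁, one_zpow, eq_comm, conj_eq_one_iff] at hi
          have := hord _ hz₁
          rw [hi, orderOf_one] at this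
          omega
        · rw [hr, zpow_add, two_mul, zpow_add, ← (Commute.refl z₁).mul_zpow, hsq _ hz₁, one_zpow, one_mul, zpow_one] at hi
          exact hi.symm
      rw [he]
      exact hcon _ (IsPGroup.of_card (n := 1) (by rw [Nat.card_zpowers, hord _ hz₁, pow_one]))
        (fun h => by
          have := hord _ hz₁
          rw [Subgroup.zpowers_eq_bot] at h
          rw [h, orderOf_one] at this
          omega)
    have hwY : w ∈ Y := Subgroup.mem_centralizer_singleton_iff.mpr (congrArg Subtype.val (hMw z₁M)).symm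
    set P := Subgroup.zpowers (⟨w, hwY⟩ : ↥Y) with hP
    have h661 := Cfsg.Agent.S0661.result (centralizer_pCore_quotient_le hcY) P
      (IsPGroup.of_card (n := 1) (by rw [Nat.card_zpowers, Subgroup.orderOf_mk, hw2, pow_one]))
    rw [hOY, bot_inf_eq, Subgroup.map_eq_bot_iff_of_injective _ (Subgroup.subtype_injective _)] at h661
    set N := Subgroup.normalizer (P : Set ↥Y) with hN
    have hNM : ∀ x : ↥N, ((x : ↥Y) : G) ∈ M := by
      intro x
      refine hCwM (Subgroup.mem_centralizer_singleton_iff.mpr ?_)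
      obtain ⟨i, hi⟩ := Subgroup.mem_zpowers_iff.mp
        ((Subgroup.mem_normalizer_iff.mp x.2 ⟨w, hwY⟩).mp (Subgroup.mem_zpowers _))
      have hi' : w ^ i = ((x : ↥Y) : G) * w * ((x : ↥Y) : G)⁻¹ := by
        have := congrArg Subtype.val hi
        simpa using this
      rcases Int.even_or_odd i with ⟨r, hr⟩ | ⟨r, hr⟩
      · exfalso
        rw [hr, zpow_add, ← (Commute.refl w).mul_zpow, show w * w = 1 by rw [← sq, ← hw2, pow_orderOf_eq_one],
          one_zpow, eq_comm, conj_eq_one_iff] at hi'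
        rw [hi', orderOf_one] at hw2
        omega
      · rw [hr, zpow_add, two_mul, zpow_add, ← (Commute.refl w).mul_zpow, show w * w = 1 by rw [← sq, ← hw2, pow_orderOf_eq_one],
          one_zpow, one_mul, zpow_one] at hi'
        exact mul_inv_eq_iff_eq_mul.mp hi'.symm
    let φ : ↥N →* ↥M := MonoidHom.mk' (fun x => ⟨((x : ↥Y) : G), hNM x⟩) (fun a b => rfl)
    have hφ : Function.Injective φ := fun a b hab => by
      have h1 : ((a : ↥Y) : G) = ((b : ↥Y) : G) := congrArg (fun y : ↥M => (y : G)) hab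
      exact Subtype.ext (Subtype.ext h1)
    haveI : (O.comap φ).Normal := hOn.comap φ
    have hcop : (Nat.card ↥(O.comap φ)).Coprime 2 := by
      refine (CfsgLib.Solvable.Cores.coprime_card_pPrimeCore (G := ↥M) 2).coprime_dvd_left ?_
      rw [← Subgroup.card_map_of_injective (K := O.comap φ) hφ]
      exact Subgroup.card_dvd_of_le (Subgroup.map_comap_le _ _)
    intro o ho hcomm
    have hoY : (o : G) ∈ Y := Subgroup.mem_centralizer_singleton_iff.mpr (congrArg Subtype.val hcomm).symm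
    have hoN : (⟨(o : G), hoY⟩ : ↥Y) ∈ N := by
      refine Subgroup.centralizer_le_normalizer _ ?_
      rw [hP, Subgroup.zpowers_eq_closure, Subgroup.centralizer_closure]
      exact Subgroup.mem_centralizer_singleton_iff.mpr (Subtype.ext (show (o : G) * w = w * (o : G) from congrArg Subtype.val (hMw o)))
    have := CfsgLib.Solvable.Cores.le_pPrimeCore (N := O.comap φ) hcop (show (⟨⟨(o : G), hoY⟩, hoN⟩ : ↥N) ∈ O.comap φ from ho)
    rw [h661, Subgroup.mem_bot] at this
    exact Subtype.ext (congrArg (fun x : ↥N => ((x : ↥Y) : G)) this)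
  have hz₁M1 : z₁M * z₁M = 1 := Subtype.ext (hsq _ hz₁)
  have hinvO := inverts_of_fixedPointFree hOodd hz₁M1 hfree
  -- the orbit of `z₁` under `H`
  have horbit : ∀ x : ↥H, (x : G) * z₁ * (x : G)⁻¹ = z₁ ∨ (x : G) * z₁ * (x : G)⁻¹ = w * z₁ := by
    intro x
    by_cases he : (x : G) * z₁ * (x : G)⁻¹ = z₁
    · exact Or.inl he
    refine Or.inr ?_
    set m : ↥M := ⟨(x : G), hHM x.2⟩ with hm
    set z' : ↥M := m * z₁M * m⁻¹ with hz'
    have hz'1 : z' * z' = 1 := by rw [hz']; rw [conj_mul, hz₁M1, mul_one, mul_inv_cancel]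
    have hz'R : (z' : G) ∈ R := (Subgroup.mem_normalizer_iff.mp x.2 z₁).mp hz₁R
    have hcomm : Commute z' z₁M := Subtype.ext (comm_of_mem_centralizer (hR₁ hz'R))
    have hinv2 : ∀ o ∈ O, z' * o * z' = o⁻¹ := by
      intro o ho
      have h1 := hinvO _ (hOn.conj_mem o ho m⁻¹)
      rw [inv_inv] at h1
      calc z' * o * z' = m * (z₁M * (m⁻¹ * o * m) * z₁M) * m⁻¹ := by rw [hz']; group
        _ = o⁻¹ := by rw [h1]; group
    set t := z' * z₁M with ht
    have ht1 : t * t = 1 := by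
      calc t * t = z' * (z₁M * z') * z₁M := by rw [ht]; group
        _ = (z' * z') * (z₁M * z₁M) := by rw [← hcomm.eq]; group
        _ = 1 := by rw [hz'1, hz₁M1, mul_one]
    have htne : t ≠ 1 := fun h1 => he (by
      have h2 : z' = z₁M := by rw [mul_eq_one_iff_eq_inv.mp h1, inv_eq_of_mul_eq_one_right hz₁M1]
      exact congrArg Subtype.val h2)
    have ht2 : orderOf t = 2 := orderOf_eq_prime (by rw [sq]; exact ht1) htne
    have htO : ∀ o ∈ O, t * o = o * t := by
      intro o ho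
      have h1 : t * o * t⁻¹ = o := by
        calc t * o * t⁻¹ = z' * (z₁M * o * z₁M⁻¹) * z'⁻¹ := by rw [ht]; group
          _ = z' * o⁻¹ * z' := by rw [inv_eq_of_mul_eq_one_right hz₁M1, hinvO o ho, inv_eq_of_mul_eq_one_right hz'1]
          _ = o := by rw [hinv2 _ (inv_mem ho), inv_inv]
      exact mul_inv_eq_iff_eq_mul.mp h1
    have hz1bar : QuotientGroup.mk' O z₁M ∈
        Subgroup.centralizer (Cfsg.pCore 2 (↥M ⧸ O) : Set (↥M ⧸ O)) := by
      haveI := CfsgLib.Solvable.Cores.pCore_normal (G := ↥M ⧸ O) 2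
      intro q hq
      have := normal_le_sylow (T'.mapSurjective (QuotientGroup.mk'_surjective O))
        (CfsgLib.Solvable.Cores.isPGroup_pCore 2) hq
      rw [Sylow.coe_mapSurjective] at this
      obtain ⟨y, hy, rfl⟩ := this
      rw [← map_mul, ← map_mul, hz₁c y hy]
    have hz'bar : QuotientGroup.mk' O z' ∈
        Subgroup.centralizer (Cfsg.pCore 2 (↥M ⧸ O) : Set (↥M ⧸ O)) := by
      haveI := CfsgLib.Solvable.Cores.pCore_normal (G := ↥M ⧸ O) 2
      haveI : (Subgroup.centralizer (Cfsg.pCore 2 (↥M ⧸ O) : Set (↥M ⧸ O))).Normal := Subgroup.normal_centralizer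
      rw [hz', map_mul, map_mul, map_inv]
      exact Subgroup.Normal.conj_mem inferInstance _ hz1bar _
    obtain ⟨htQ, htc⟩ := central_of_invert (IsPGroup.of_card (n := 1) (by rw [Nat.card_zpowers, ht2, pow_one])) htO
      (by rw [ht, map_mul]; exact mul_mem hz'bar hz1bar) hcM
    have htw := huniqM t htQ htc ht2
    have hfin : z' = wM * z₁M := by rw [← htw, ht, mul_assoc, hz₁M1, mul_one]
    exact congrArg Subtype.val hfin
  -- no element of `H` can exchange the two conjugates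
  have hwx : ∀ x : ↥H, (x : G) * w = w * (x : G) := fun x => congrArg Subtype.val (hMw ⟨(x : G), hHM x.2⟩)
  have hwne : w ≠ 1 := fun h1 => by rw [h1, orderOf_one] at hw2; omega
  have hsw : ∀ x : ↥H, (x : G) * z₁ * (x : G)⁻¹ = w * z₁ → ((x ^ 2 : ↥H) : G) * z₁ * ((x ^ 2 : ↥H) : G)⁻¹ = z₁ := by
    intro x hx
    have hw : (x : G) * w * (x : G)⁻¹ = w := by rw [hwx x, mul_inv_cancel_right]
    rw [Subgroup.coe_pow, sq]
    calc (x : G) * (x : G) * z₁ * ((x : G) * (x : G))⁻¹ = (x : G) * ((x : G) * z₁ * (x : G)⁻¹) * (x : G)⁻¹ := by group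
      _ = (x : G) * (w * z₁) * (x : G)⁻¹ := by rw [hx]
      _ = ((x : G) * w * (x : G)⁻¹) * ((x : G) * z₁ * (x : G)⁻¹) := by group
      _ = w * (w * z₁) := by rw [hw, hx]
      _ = z₁ := by rw [← mul_assoc, show w * w = 1 by rw [← sq, ← hw2, pow_orderOf_eq_one], one_mul]
  have hhw : (h : G) * z₁ * (h : G)⁻¹ = w * z₁ := (horbit h).resolve_left (by rw [hmove]; exact hne.symm)
  obtain ⟨a, m, hm, hord'⟩ := Nat.exists_eq_pow_mul_and_not_dvd (orderOf_pos h).ne' 2 (by norm_num)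
  let St : Subgroup ↥H := (Subgroup.centralizer ({z₁} : Set G)).comap H.subtype
  have hSt : ∀ x : ↥H, x ∈ St ↔ (x : G) * z₁ * (x : G)⁻¹ = z₁ := fun x =>
    ⟨fun hx => by rw [show (x : G) * z₁ = z₁ * x from comm_of_mem_centralizer hx, mul_inv_cancel_right],
      fun hx => Subgroup.mem_centralizer_singleton_iff.mpr (mul_inv_eq_iff_eq_mul.mp hx)⟩
  have hh2 : h ^ 2 ∈ St := (hSt _).mpr (hsw h hhw)
  have hhm : h ^ m ∈ St := by
    obtain ⟨T, hT⟩ := (IsPGroup.of_card (n := a) (G := ↥(Subgroup.zpowers (h ^ m))) (by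
      rw [Nat.card_zpowers, orderOf_pow_of_dvd (fun h0 => hm (by rw [h0]; exact dvd_zero 2)) (by rw [hord']; exact dvd_mul_left m _), hord',
        Nat.mul_div_cancel _ (Nat.pos_of_ne_zero fun h0 => hm (by rw [h0]; exact dvd_zero 2))])).exists_le_sylow
    obtain ⟨c, hc⟩ := MulAction.exists_smul_eq ↥H T₁ T
    have hu : c⁻¹ * h ^ m * c ∈ (T₁ : Subgroup ↥H) := by
      have := hT (Subgroup.mem_zpowers _)
      rwa [← hc, mem_smul_sylow] at this
    have hu' : c⁻¹ * h ^ m * c ∈ St :=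
      Subgroup.mem_centralizer_singleton_iff.mpr (comm_of_mem_centralizer (hT₁c ⟨_, hu, rfl⟩))
    have hu'' := (hSt _).mp hu'
    simp only [Subgroup.coe_mul, Subgroup.coe_inv] at hu''
    rw [hSt]
    set v := ((h ^ m : ↥H) : G) with hv
    have hvw : v * w * v⁻¹ = w := by rw [hwx, mul_inv_cancel_right]
    rcases horbit c with hc1 | hc1
    · calc v * z₁ * v⁻¹ = v * ((c : G) * z₁ * (c : G)⁻¹) * v⁻¹ := by rw [hc1]
        _ = (c : G) * ((c : G)⁻¹ * v * c * z₁ * ((c : G)⁻¹ * v * c)⁻¹) * (c : G)⁻¹ := by group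
        _ = z₁ := by rw [hu'', hc1]
    · have h1 : v * (w * z₁) * v⁻¹ = w * z₁ := by
        calc v * (w * z₁) * v⁻¹ = v * ((c : G) * z₁ * (c : G)⁻¹) * v⁻¹ := by rw [hc1]
          _ = (c : G) * ((c : G)⁻¹ * v * c * z₁ * ((c : G)⁻¹ * v * c)⁻¹) * (c : G)⁻¹ := by group
          _ = w * z₁ := by rw [hu'', hc1]
      calc v * z₁ * v⁻¹ = (v * w * v⁻¹)⁻¹ * (v * (w * z₁) * v⁻¹) := by group
        _ = z₁ := by rw [hvw, h1, inv_mul_cancel_left]
  have hmem : h ∈ St := by
    obtain ⟨r, hr⟩ := Nat.odd_iff.mpr (Nat.two_dvd_ne_zero.mp hm)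
    have : h = h ^ m * ((h ^ 2) ^ r)⁻¹ := by rw [hr, pow_succ', pow_mul, mul_inv_cancel_right]
    rw [this]
    exact mul_mem hhm (inv_mem (pow_mem hh2 r))
  exact hne (((hSt h).mp hmem).symm.trans hmove)

end Cfsg.Agent.S3244
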