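import Cfsg.Statements.S3247
import Mathlib
import Cfsg.Agent.Lib.Components.Constrained

set_option autoImplicit false
open Cfsg

namespace Cfsg.Agent.S3247
open CfsgLib.Components CfsgLib.Solvable in
theorem pLayer_congr {p : ℕ} [Fact p.Prime] {A B : Type*} [Group A] [Finite A] [Group B] [Finite B]
    (e : A ≃* B) (h : Cfsg.pLayer p A = ⊥) : Cfsg.pLayer p B = ⊥ := by
  rw [pLayer_eq_bot_iff] at h ⊢
  have h1 := pPrimeCore_map_le p e.toMonoidHom e.surjective
  have h2 := pPrimeCore_map_le p e.symm.toMonoidHom e.symm.surjective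
  have he : (Cfsg.pPrimeCore p A).map e.toMonoidHom = Cfsg.pPrimeCore p B := by
    refine le_antisymm h1 fun y hy => ⟨e.symm y, h2 ⟨y, hy, rfl⟩, e.apply_symm_apply y⟩
  have := layer_map_mulEquiv (QuotientGroup.congr _ _ e he)
  rw [h, Subgroup.map_bot] at this
  exact this.symm

open CfsgLib.Components CfsgLib.Solvable in
theorem pComponent_subgroupOf {p : ℕ} [Fact p.Prime] {A : Type*} [Group A] [Finite A] {K H : Subgroup A}
    (hK : Cfsg.IsPComponent p K) (hle : K ≤ H) : Cfsg.IsPComponent p (K.subgroupOf H) := by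
  let e : ↥(K.subgroupOf H) ≃* ↥K := Subgroup.subgroupOfEquivOfLe hle
  set L := K.subgroupOf H with hL
  have hsn : L.IsSubnormal := hK.1.subgroupOf
  refine isPComponent_of_no_pPrime_quotient hsn ⟨hsn.map (QuotientGroup.mk'_surjective _), ?_⟩ ?_
  · let φ : L →* ↥(L.map (QuotientGroup.mk' (Cfsg.pPrimeCore p ↥H))) := (QuotientGroup.mk' _).subgroupMap L
    have hker : φ.ker = Cfsg.pPrimeCore p ↥L := by
      ext x
      rw [mem_pPrimeCore_subgroup_iff hsn, MonoidHom.mem_ker, ← QuotientGroup.eq_one_iff (x : ↥H)]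
      exact ⟨fun h => congrArg Subtype.val h, fun h => Subtype.ext h⟩
    have h1 := pPrimeCore_map_le p e.toMonoidHom e.surjective
    have h2 := pPrimeCore_map_le p e.symm.toMonoidHom e.symm.surjective
    have he : (Cfsg.pPrimeCore p ↥L).map e.toMonoidHom = Cfsg.pPrimeCore p ↥K :=
      le_antisymm h1 fun y hy => ⟨e.symm y, h2 ⟨y, hy, rfl⟩, e.apply_symm_apply y⟩
    exact IsQuasisimple.of_mulEquiv (IsPComponent.quasisimple_quotient hK)
      ((QuotientGroup.congr _ _ e he).symm.trans ((QuotientGroup.quotientMulEquivOfEq hker.symm).trans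
        (QuotientGroup.quotientKerEquivOfSurjective φ ((QuotientGroup.mk' _).subgroupMap_surjective L))))
  · intro N hN hidx
    haveI := hN.map e.toMonoidHom e.surjective
    have h1 := IsPComponent.no_pPrime_quotient hK (N.map e.toMonoidHom) inferInstance
      (hidx.coprime_dvd_left (N.index_map_dvd e.surjective))
    exact Subgroup.map_injective e.injective (h1.trans (Subgroup.map_top_of_surjective e.toMonoidHom e.surjective).symm)

/-- Let G be a finite group and p a prime; here a p-local subgroup means the normalizer of a nontrivial p-subgroup, other than G itself. If every p-local subgroup of G that is maximal among p-local subgroups is p-constrained, or if the centralizer of every element of order p of G is p-constrained, then every p-local subgroup of G is p-constrained. -/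
theorem result {G : Type*} [Group G] [Finite G] (p : ℕ) [hp : Fact p.Prime]
    (h : (∀ M : Subgroup G, (∃ T : Subgroup G, IsPGroup p ↥T ∧ T ≠ ⊥ ∧ M = Subgroup.normalizer (T : Set G)) → M ≠ ⊤ →
        (∀ M' : Subgroup G, (∃ T' : Subgroup G, IsPGroup p ↥T' ∧ T' ≠ ⊥ ∧ M' = Subgroup.normalizer (T' : Set G)) → M' ≠ ⊤ → M ≤ M' → M = M') →
        Cfsg.IsPConstrained p ↥M) ∨
      (∀ x : G, orderOf x = p → Cfsg.IsPConstrained p ↥(Subgroup.centralizer ({x} : Set G))))
    (T : Subgroup G) (hT : IsPGroup p ↥T) (hT1 : T ≠ ⊥) (hTG : Subgroup.normalizer (T : Set G) ≠ ⊤) :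
    Cfsg.IsPConstrained p ↥(Subgroup.normalizer (T : Set G)) := by
  classical
  rw [CfsgLib.Components.isPConstrained_iff]
  set N := Subgroup.normalizer (T : Set G) with hN
  rcases h with h | h
  · obtain ⟨M, hNM, hM⟩ := exists_maximal_ge_of_wellFoundedGT
      (fun M : Subgroup G => (∃ T' : Subgroup G, IsPGroup p ↥T' ∧ T' ≠ ⊥ ∧ M = Subgroup.normalizer (T' : Set G)) ∧ M ≠ ⊤)
      N ⟨⟨T, hT, hT1, rfl⟩, hTG⟩
    have hc := h M hM.prop.1 hM.prop.2 fun M' h1 h2 hle => le_antisymm hle (hM.le_of_ge ⟨h1, h2⟩ hle)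
    rw [CfsgLib.Components.isPConstrained_iff] at hc
    have hTM : T ≤ M := Subgroup.le_normalizer.trans hNM
    have h2 := (CfsgLib.Components.normalizer_of_pLayer_eq_bot hc (P := T.subgroupOf M)
      (hT.of_equiv (Subgroup.subgroupOfEquivOfLe hTM).symm)).1
    rw [← Subgroup.subgroupOf_normalizer_eq hTM] at h2
    exact pLayer_congr (Subgroup.subgroupOfEquivOfLe hNM) h2
  · haveI : Nontrivial ↥T := (Subgroup.nontrivial_iff_ne_bot T).mpr hT1
    haveI := hT.center_nontrivial
    have hdvd : p ∣ Nat.card (Subgroup.center ↥T) := by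
      obtain ⟨m, hm, he⟩ := ((hT.to_subgroup (Subgroup.center ↥T)).nontrivial_iff_card).mp inferInstance
      exact he ▸ dvd_pow_self p (by omega)
    obtain ⟨z, hz⟩ := exists_prime_orderOf_dvd_card' p hdvd
    set x : G := ((z : ↥T) : G) with hx
    have hxo : orderOf x = p := by rw [hx, Subgroup.orderOf_coe, Subgroup.orderOf_coe]; exact hz
    have hc := h x hxo
    rw [CfsgLib.Components.isPConstrained_iff] at hc
    set C := Subgroup.centralizer ({x} : Set G) with hC
    have hTC : T ≤ C := fun t ht => Subgroup.mem_centralizer_singleton_iff.mpr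
      (congrArg Subtype.val (Subgroup.mem_center_iff.mp z.2 ⟨t, ht⟩))
    have h2 := (CfsgLib.Components.normalizer_of_pLayer_eq_bot hc (P := T.subgroupOf C)
      (hT.of_equiv (Subgroup.subgroupOfEquivOfLe hTC).symm)).1
    rw [← Subgroup.subgroupOf_normalizer_eq hTC] at h2
    let e : ↥(N.subgroupOf C) ≃* ↥(C.subgroupOf N) :=
      { toFun := fun u => ⟨⟨((u : ↥C) : G), u.2⟩, (u : ↥C).2⟩
        invFun := fun u => ⟨⟨((u : ↥N) : G), u.2⟩, (u : ↥N).2⟩
        left_inv := fun u => rfl
        right_inv := fun u => rfl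
        map_mul' := fun u v => rfl }
    have h3 := pLayer_congr e h2
    haveI : (T.subgroupOf N).Normal :=
      (Subgroup.normal_subgroupOf_iff_le_normalizer Subgroup.le_normalizer).mpr le_rfl
    have hTN : IsPGroup p ↥(T.subgroupOf N) :=
      hT.of_equiv (Subgroup.subgroupOfEquivOfLe Subgroup.le_normalizer).symm
    rw [eq_bot_iff]
    refine sSup_le fun K hK => ?_
    exfalso
    have hKC : K ≤ C.subgroupOf N := by
      intro k hk
      have h4 := CfsgLib.Components.le_centralizer_pGroup_of_pLayer hTN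
        (CfsgLib.Components.IsPComponent.le_pLayer hK hk)
      exact Subgroup.mem_centralizer_singleton_iff.mpr
        (congrArg Subtype.val (Subgroup.mem_centralizer_iff.mp h4 ⟨x, Subgroup.le_normalizer (z : ↥T).2⟩ (z : ↥T).2)).symm
    have hK' := pComponent_subgroupOf hK hKC
    have h5 := CfsgLib.Components.IsPComponent.le_pLayer hK'
    rw [h3, le_bot_iff] at h5
    exact (Fact.out : p.Prime).not_dvd_one (by simpa [h5] using CfsgLib.Components.IsPComponent.dvd_card hK')

end Cfsg.Agent.S3247
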