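import Cfsg.Statements.S3246
import Cfsg.Agent.S3247
import Cfsg.Agent.Lib.Components.Constrained
import Cfsg.Agent.Lib.Coprime.Generation
import Cfsg.Agent.Lib.Involution.NormalFour

set_option autoImplicit false
open Cfsg

namespace Cfsg.Agent.S3246

open CfsgLib

/-- A subgroup of odd order normalized by an index-two part of the 2-core of a core-free constrained
group is trivial. -/
lemma odd_trivial {M : Type*} [Group M] [Finite M] (hc : Cfsg.IsPConstrained 2 M)
    (hO : Cfsg.oddCore M = ⊥) {Y P₀ : Subgroup M} (hY : Odd (Nat.card Y))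
    (hn : P₀ ≤ Subgroup.normalizer (Y : Set M)) (hidx : P₀.relIndex (Cfsg.pCore 2 M) ≤ 2) : Y = ⊥ := by
  haveI : Fact (Nat.Prime 2) := ⟨Nat.prime_two⟩
  set Q := Cfsg.pCore 2 M with hQdef
  haveI hQn : Q.Normal := CfsgLib.Solvable.Cores.pCore_normal 2
  have hQ2 : IsPGroup 2 Q := CfsgLib.Solvable.Cores.isPGroup_pCore 2
  have hCQ : Subgroup.centralizer (Q : Set M) ≤ Q :=
    (Components.centralizer_pCore_le_iff_layer hO).mpr
      (Components.layer_eq_bot_of_pLayer hO (Components.isPConstrained_iff.mp hc))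
  have hone : ∀ c ∈ Q, ∀ n : ℕ, Odd n → c ^ n = 1 → c = 1 := by
    intro c hc n hn hcn
    obtain ⟨k, hk⟩ := hQ2 ⟨c, hc⟩
    have hk' : c ^ 2 ^ k = 1 := by simpa using congrArg Subtype.val hk
    have h := pow_gcd_eq_one.2 ⟨hk', hcn⟩
    rwa [(Nat.Coprime.pow_left k (Nat.coprime_two_left.mpr hn)).gcd_eq_one, pow_one] at h
  have hYord : ∀ y ∈ Y, Odd (orderOf y) := fun y hy =>
    hY.of_dvd_nat (Subgroup.orderOf_mk y hy ▸ orderOf_dvd_natCard (⟨y, hy⟩ : Y))
  have hdisj : ∀ c ∈ Q, c ∈ Y → c = 1 := fun c hc hcY =>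
    hone c hc _ (hYord c hcY) (pow_orderOf_eq_one c)
  -- `Y` centralizes `Q ∩ P₀`
  have h0 : ∀ q ∈ Q, q ∈ P₀ → ∀ y ∈ Y, y * q = q * y := by
    intro q hq hqP y hy
    have h1 : y * q * y⁻¹ * q⁻¹ ∈ Q := mul_mem (hQn.conj_mem q hq y) (inv_mem hq)
    have h2 : y * q * y⁻¹ * q⁻¹ ∈ Y := by
      rw [mul_assoc, mul_assoc]
      refine mul_mem hy ?_
      rw [← mul_assoc]
      exact (Subgroup.mem_normalizer_iff.1 (hn hqP) _).1 (inv_mem hy)
    have h3 := hdisj _ h1 h2
    rwa [mul_inv_eq_one, mul_inv_eq_iff_eq_mul] at h3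
  rw [eq_bot_iff]
  intro y hy
  rw [Subgroup.mem_bot]
  refine hdisj y (hCQ (Subgroup.mem_centralizer_iff.2 fun q hq => ?_)) hy
  by_cases hqP : q ∈ P₀
  · exact (h0 q hq hqP y hy).symm
  set D := P₀.subgroupOf Q
  have hDi : D.index = 2 := by
    have h1 : D.index ≠ 1 := fun h => hqP (by
      have := (Subgroup.index_eq_one.1 h) ▸ Subgroup.mem_top (⟨q, hq⟩ : Q)
      exact this)
    have h2 : D.index ≠ 0 := Subgroup.FiniteIndex.index_ne_zero
    have h3 : D.index ≤ 2 := hidx
    omega
  set c := q⁻¹ * (y * q * y⁻¹) with hcdef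
  have hyq : y * q * y⁻¹ ∈ Q := hQn.conj_mem q hq y
  have hc : c ∈ Q := mul_mem (inv_mem hq) hyq
  have hyqP : y * q * y⁻¹ ∉ P₀ := fun h => hqP (by
    have h4 := h0 _ hyq h y hy
    rw [show y * (y * q * y⁻¹) = y * (y * q * y⁻¹) from rfl] at h4
    have h5 : y * q * y⁻¹ = q := by
      have : y * (y * q * y⁻¹) * y⁻¹ = y * q * y⁻¹ := by rw [h4, mul_inv_cancel_right]
      calc y * q * y⁻¹ = y⁻¹ * (y * (y * q * y⁻¹) * y⁻¹) * y := by group
        _ = y⁻¹ * (y * q * y⁻¹) * y := by rw [this]
        _ = q := by group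
    rwa [h5] at h)
  have hcP : c ∈ P₀ := (Subgroup.mul_mem_iff_of_index_two hDi (a := (⟨q, hq⟩ : Q)⁻¹)
    (b := ⟨_, hyq⟩)).2 (iff_of_false (by rw [inv_mem_iff]; exact hqP) hyqP)
  have hcy : y * c = c * y := h0 c hc hcP y hy
  have hpow : ∀ n : ℕ, y ^ n * q * (y ^ n)⁻¹ = q * c ^ n := by
    intro n
    induction n with
    | zero => simp
    | succ n ih =>
      calc y ^ (n + 1) * q * (y ^ (n + 1))⁻¹ = y * (y ^ n * q * (y ^ n)⁻¹) * y⁻¹ := by rw [pow_succ']; group
        _ = y * (q * c ^ n) * y⁻¹ := by rw [ih]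
        _ = (y * q * y⁻¹) * (y * c ^ n * y⁻¹) := by group
        _ = (q * c) * c ^ n := by
          rw [((show Commute y c from hcy).pow_right n).eq, mul_inv_cancel_right, hcdef, mul_inv_cancel_left]
        _ = q * c ^ (n + 1) := by rw [pow_succ', mul_assoc]
  have h6 := hpow (orderOf y)
  rw [pow_orderOf_eq_one, inv_one, one_mul, mul_one, left_eq_mul] at h6
  have hc1 := hone c hc _ (hYord y hy) h6
  rw [hcdef, inv_mul_eq_one, eq_mul_inv_iff_mul_eq] at hc1
  exact hc1

/-- Let G be a finite group whose Sylow 2-subgroup S has a self-centralizing normal subgroup of rank at least 3. Suppose that either every maximal 2-local subgroup of G is 2-constrained with no nontrivial normal subgroup of odd order, or the centralizer of every involution of G is 2-constrained with no nontrivial normal subgroup of odd order. Then S normalizes no nontrivial subgroup of G of odd order and every 2-local subgroup of G is 2-constrained. -/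
theorem result {G : Type*} [Group G] [Finite G]
    (S : Sylow 2 G) (A : Subgroup G) (hA : Cfsg.IsSCN (S : Subgroup G) A) (hA3 : ¬ Cfsg.PRankLE 2 2 ↥A)
    (h : (∀ M : Subgroup G, Cfsg.IsMaximalTwoLocal M → Cfsg.IsPConstrained 2 ↥M ∧ Cfsg.oddCore ↥M = ⊥) ∨
      (∀ t : G, orderOf t = 2 → Cfsg.IsPConstrained 2 ↥(Subgroup.centralizer ({t} : Set G)) ∧
        Cfsg.oddCore ↥(Subgroup.centralizer ({t} : Set G)) = ⊥)) :
    (∀ X : Subgroup G, Odd (Nat.card ↥X) → (S : Subgroup G) ≤ Subgroup.normalizer (X : Set G) → X = ⊥) ∧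
      (∀ T : Subgroup G, IsPGroup 2 ↥T → T ≠ ⊥ → Cfsg.IsPConstrained 2 ↥(Subgroup.normalizer (T : Set G))) := by
  classical
  haveI : Fact (Nat.Prime 2) := ⟨Nat.prime_two⟩
  -- core-free constrained overgroups of the centralizers of involutions
  have hloc : ∀ T : Subgroup G, IsPGroup 2 ↥T → T ≠ ⊥ →
      (∀ M : Subgroup G, Cfsg.IsMaximalTwoLocal M → Cfsg.IsPConstrained 2 ↥M ∧ Cfsg.oddCore ↥M = ⊥) →
      ∃ M : Subgroup G, Subgroup.normalizer (T : Set G) ≤ M ∧ Cfsg.IsPConstrained 2 ↥M ∧ Cfsg.oddCore ↥M = ⊥ := by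
    intro T hT hT1 h
    obtain ⟨M, hNM, hM⟩ := exists_maximal_ge_of_wellFoundedGT
      (fun M : Subgroup G => Cfsg.IsTwoLocal M) (Subgroup.normalizer (T : Set G)) ⟨T, hT, hT1, rfl⟩
    exact ⟨M, hNM, h M ⟨hM.prop, fun N hN hle => le_antisymm (hM.le_of_ge hN hle) hle⟩⟩
  have hover : ∀ u : G, orderOf u = 2 → ∃ M : Subgroup G, Subgroup.centralizer ({u} : Set G) ≤ M ∧
      Cfsg.IsPConstrained 2 ↥M ∧ Cfsg.oddCore ↥M = ⊥ := by
    intro u hu
    rcases h with h | h
    · obtain ⟨M, hNM, hM⟩ := hloc (Subgroup.zpowers u)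
        (IsPGroup.of_card (n := 1) (by rw [Nat.card_zpowers, hu, pow_one]))
        (by rw [Ne, Subgroup.zpowers_eq_bot]; rintro rfl; simp at hu) h
      refine ⟨M, le_trans (fun c hc => ?_) hNM, hM⟩
      refine Subgroup.centralizer_le_normalizer _ (Subgroup.mem_centralizer_iff.2 fun w hw => ?_)
      obtain ⟨k, rfl⟩ := Subgroup.mem_zpowers_iff.1 hw
      exact ((show Commute c u from Subgroup.mem_centralizer_singleton_iff.1 hc).zpow_right k).eq.symm
    · exact ⟨_, le_rfl, h u hu⟩
  refine ⟨?_, ?_⟩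
  · intro X hX hSX
    obtain ⟨E, hEab, hE2, hE8⟩ : ∃ E : Subgroup ↥A, IsMulCommutative ↥E ∧ (∀ a ∈ E, a ^ 2 = 1) ∧
        2 ^ 2 < Nat.card E := by
      simp only [Cfsg.PRankLE] at hA3
      push Not at hA3
      obtain ⟨E, hEab, hE2, hE⟩ := hA3
      exact ⟨E, hEab, hE2, hE⟩
    set SS : Subgroup G := (S : Subgroup G) with hSS
    let E' : Subgroup SS := (E.map A.subtype).subgroupOf SS
    have hEle : E.map A.subtype ≤ SS := (Subgroup.map_subtype_le E).trans hA.1
    have hE'8 : 8 ≤ Nat.card E' := by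
      rw [Nat.card_congr (Subgroup.subgroupOfEquivOfLe hEle).toEquiv,
        Subgroup.card_map_of_injective A.subtype_injective]
      obtain ⟨j, hj⟩ := IsPGroup.iff_card.1 ((S.isPGroup'.to_le hA.1).to_subgroup E)
      rw [hj] at hE8 ⊢
      calc 8 = 2 ^ 3 := rfl
        _ ≤ 2 ^ j := Nat.pow_le_pow_right (by norm_num) (by
            by_contra hlt
            have := Nat.pow_le_pow_right (show 0 < 2 by norm_num) (show j ≤ 2 by omega)
            omega)
    have hE'2 : ∀ e ∈ E', e ^ 2 = 1 := by
      intro e he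
      obtain ⟨a, ha, hae⟩ := Subgroup.mem_subgroupOf.1 he
      apply Subtype.ext
      rw [SubmonoidClass.coe_pow, ← hae, ← map_pow, hE2 a ha]
      simp
    obtain ⟨U₀, hU₀n, hU₀c, hU₀2⟩ := CfsgLib.Involution.NormalFour.exists_normal_four S.isPGroup' hE'8 hE'2
    set U : Subgroup G := U₀.map SS.subtype with hU
    have hUc : Nat.card U = 4 := by rw [hU, Subgroup.card_map_of_injective SS.subtype_injective, hU₀c]
    have hU2 : ∀ u ∈ U, u * u = 1 := by
      rintro _ ⟨u, hu, rfl⟩
      rw [← map_mul, ← pow_two, hU₀2 u hu, map_one]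
    have hUn : ∀ s ∈ SS, ∀ u ∈ U, s * u * s⁻¹ ∈ U := by
      rintro s hs _ ⟨u, hu, rfl⟩
      exact ⟨⟨s, hs⟩ * u * ⟨s, hs⟩⁻¹, hU₀n.conj_mem u hu _, rfl⟩
    have hUS : U ≤ SS := Subgroup.map_subtype_le _
    have hUabel : ∀ u ∈ U, ∀ v ∈ U, u * v = v * u := by
      intro u hu v hv
      have h1 := hU2 _ (U.mul_mem hu hv)
      have hui : u⁻¹ = u := inv_eq_of_mul_eq_one_right (hU2 u hu)
      have hvi : v⁻¹ = v := inv_eq_of_mul_eq_one_right (hU2 v hv)
      calc u * v = (u * v)⁻¹ := (inv_eq_of_mul_eq_one_right h1).symm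
        _ = v * u := by rw [mul_inv_rev, hui, hvi]
    haveI : IsMulCommutative U := ⟨⟨fun a b => Subtype.ext (hUabel a a.2 b b.2)⟩⟩
    have hcop : (Nat.card U).Coprime (Nat.card X) := by
      rw [hUc, show 4 = 2 ^ 2 from rfl]
      exact Nat.Coprime.pow_left 2 (Nat.coprime_two_left.mpr hX)
    have hgen := CfsgLib.Coprime.iSup_centralizer_of_cyclic_quotient (A := U) (K := X)
      (hUS.trans hSX) hcop
    rw [← hgen, eq_bot_iff]
    refine iSup₂_le fun B hB => ?_
    obtain ⟨hBU, a, haU, hBa⟩ := hB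
    have hBne : B ≠ ⊥ := by
      intro hB0
      rw [hB0, bot_sup_eq] at hBa
      have : orderOf a ∣ 2 := orderOf_dvd_of_pow_eq_one (by rw [pow_two]; exact hU2 a haU)
      rw [← Nat.card_zpowers, hBa, hUc] at this
      omega
    obtain ⟨u, huB, hu1⟩ := B.bot_or_exists_ne_one.resolve_left hBne
    have huU := hBU huB
    have hu2 : orderOf u = 2 := orderOf_eq_prime (by rw [pow_two]; exact hU2 u huU) hu1
    obtain ⟨M, hCM, hMc, hMO⟩ := hover u hu2
    set Y : Subgroup G := X ⊓ Subgroup.centralizer ({u} : Set G) with hYdef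
    set P₀ : Subgroup G := SS ⊓ Subgroup.centralizer ({u} : Set G) with hP₀
    -- the centralizer of `u` has index at most two in `S`
    have hidx : Nat.card SS ≤ 2 * Nat.card P₀ := by
      let Cu : Subgroup SS := (Subgroup.centralizer ({u} : Set G)).subgroupOf SS
      have h3 : Cu.index ≤ 3 := by
        have hcard3 : Nat.card {v : U // v ≠ 1} = 3 := by
          haveI := Fintype.ofFinite U
          rw [Nat.card_eq_fintype_card, Fintype.card_subtype_compl, Fintype.card_subtype_eq,
            ← Nat.card_eq_fintype_card, hUc]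
        rw [Subgroup.index_eq_card, ← hcard3]
        refine Nat.card_le_card_of_injective (Quotient.lift (fun s : SS =>
          (⟨⟨(s : G) * u * (s : G)⁻¹, hUn s s.2 u huU⟩, fun h => hu1 (conj_eq_one_iff.1
            (congrArg Subtype.val h))⟩ : {v : U // v ≠ 1})) ?_) ?_
        · intro s t hst
          have h1 : ((s⁻¹ * t : SS) : G) * u = u * ((s⁻¹ * t : SS) : G) :=
            Subgroup.mem_centralizer_singleton_iff.1 (Subgroup.mem_subgroupOf.1
              (QuotientGroup.leftRel_apply.1 hst))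
          push_cast at h1
          apply Subtype.ext; apply Subtype.ext
          show (s : G) * u * (s : G)⁻¹ = (t : G) * u * (t : G)⁻¹
          calc (s : G) * u * (s : G)⁻¹ = (s : G) * (u * ((s : G)⁻¹ * t)) * (t : G)⁻¹ := by group
            _ = (s : G) * (((s : G)⁻¹ * t) * u) * (t : G)⁻¹ := by rw [h1]
            _ = _ := by group
        · intro s t
          induction s using Quotient.inductionOn with
          | _ s =>
          induction t using Quotient.inductionOn with
          | _ t =>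
          intro h
          have h1 : (s : G) * u * (s : G)⁻¹ = (t : G) * u * (t : G)⁻¹ :=
            congrArg (fun v : {v : U // v ≠ 1} => ((v : U) : G)) h
          refine Quotient.sound (QuotientGroup.leftRel_apply.2 (Subgroup.mem_subgroupOf.2
            (Subgroup.mem_centralizer_singleton_iff.2 ?_)))
          push_cast
          calc (s : G)⁻¹ * t * u = (s : G)⁻¹ * ((t : G) * u * (t : G)⁻¹) * t := by group
            _ = (s : G)⁻¹ * ((s : G) * u * (s : G)⁻¹) * t := by rw [h1]
            _ = _ := by group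
      obtain ⟨j, hj⟩ := S.isPGroup'.index Cu
      have hj2 : Cu.index ≤ 2 := by
        rw [hj] at h3 ⊢
        rcases j with _ | _ | j
        · norm_num
        · norm_num
        · exfalso
          have : 4 ≤ 2 ^ (j + 1 + 1) := by rw [pow_succ, pow_succ]; have := Nat.one_le_two_pow (n := j); omega
          omega
      have hmul := Subgroup.card_mul_index Cu
      rw [show Nat.card Cu = Nat.card P₀ from Nat.card_congr
        { toFun := fun v => ⟨((v : SS) : G), (v : SS).2, v.2⟩
          invFun := fun v => ⟨⟨v, v.2.1⟩, v.2.2⟩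
          left_inv := fun _ => rfl
          right_inv := fun _ => rfl }] at hmul
      rw [← hmul, mul_comm 2]
      exact Nat.mul_le_mul_left _ hj2
    have hYbot : Y = ⊥ := by
      have hYM : Y ≤ M := inf_le_right.trans hCM
      have hPM : P₀ ≤ M := inf_le_right.trans hCM
      obtain ⟨P, hP⟩ := IsPGroup.exists_le_sylow (P := P₀.subgroupOf M)
        ((S.isPGroup'.to_le inf_le_left).of_equiv (Subgroup.subgroupOfEquivOfLe hPM).symm)
      haveI : (Cfsg.pCore 2 ↥M).Normal := CfsgLib.Solvable.Cores.pCore_normal 2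
      have hQP : Cfsg.pCore 2 ↥M ≤ (P : Subgroup M) := CfsgLib.Solvable.Cores.pCore_le_sylow P
      have hPS : Nat.card (P : Subgroup M) ≤ Nat.card SS := by
        obtain ⟨S', hS'⟩ := (P.isPGroup'.map M.subtype).exists_le_sylow
        rw [← Subgroup.card_map_of_injective (K := (P : Subgroup M)) M.subtype_injective,
          hSS, S.card_eq_multiplicity, ← S'.card_eq_multiplicity]
        exact Subgroup.card_le_of_le hS'
      have hrel : (P₀.subgroupOf M).relIndex (Cfsg.pCore 2 ↥M) ≤ 2 := by
        refine le_trans (Subgroup.relIndex_le_of_le_right hQP Subgroup.FiniteIndex.index_ne_zero) ?_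
        have h1 := Subgroup.card_mul_index ((P₀.subgroupOf M).subgroupOf (P : Subgroup M))
        rw [Nat.card_congr (Subgroup.subgroupOfEquivOfLe hP).toEquiv,
          Nat.card_congr (Subgroup.subgroupOfEquivOfLe hPM).toEquiv] at h1
        show ((P₀.subgroupOf M).subgroupOf (P : Subgroup M)).index ≤ 2
        by_contra hlt
        have h2 : Nat.card P₀ * 3 ≤ Nat.card (P : Subgroup M) := by
          rw [← h1]; exact Nat.mul_le_mul_left _ (by omega)
        have hp := Nat.card_pos (α := P₀)
        omega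
      have h7 := odd_trivial hMc hMO (Y := Y.subgroupOf M) (P₀ := P₀.subgroupOf M)
        (by
          rw [Nat.card_congr (Subgroup.subgroupOfEquivOfLe hYM).toEquiv]
          exact hX.of_dvd_nat (Subgroup.card_dvd_of_le inf_le_left))
        (by
          intro p hp
          rw [Subgroup.mem_normalizer_iff]
          intro y
          have hpS : (p : G) ∈ Subgroup.normalizer (X : Set G) := hSX (Subgroup.mem_subgroupOf.1 hp).1
          have hpu := (Subgroup.mem_subgroupOf.1 hp).2
          simp only [Subgroup.mem_subgroupOf, hYdef, Subgroup.mem_inf, Subgroup.coe_mul,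
            InvMemClass.coe_inv]
          exact and_congr (Subgroup.mem_normalizer_iff.1 hpS _)
            (Subgroup.mem_normalizer_iff.1 (Subgroup.le_normalizer hpu) _))
        hrel
      rw [Subgroup.subgroupOf_eq_bot] at h7
      exact le_bot_iff.1 ((le_inf le_rfl hYM).trans h7.le_bot)
    refine le_trans (inf_le_inf_left X (Subgroup.centralizer_le (Set.singleton_subset_iff.2 huB))) ?_
    exact hYbot.le
  · intro T hT hT1
    rcases h with h | h
    · obtain ⟨M, hNM, hc, -⟩ := hloc T hT hT1 h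
      rw [CfsgLib.Components.isPConstrained_iff] at hc ⊢
      have hTM : T ≤ M := Subgroup.le_normalizer.trans hNM
      have h2 := (CfsgLib.Components.normalizer_of_pLayer_eq_bot hc (P := T.subgroupOf M)
        (hT.of_equiv (Subgroup.subgroupOfEquivOfLe hTM).symm)).1
      rw [← Subgroup.subgroupOf_normalizer_eq hTM] at h2
      exact S3247.pLayer_congr (Subgroup.subgroupOfEquivOfLe hNM) h2
    · rw [CfsgLib.Components.isPConstrained_iff]
      set N := Subgroup.normalizer (T : Set G) with hN
      haveI : Nontrivial ↥T := (Subgroup.nontrivial_iff_ne_bot T).mpr hT1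
      haveI := hT.center_nontrivial
      have hdvd : 2 ∣ Nat.card (Subgroup.center ↥T) := by
        obtain ⟨m, hm, he⟩ := ((hT.to_subgroup (Subgroup.center ↥T)).nontrivial_iff_card).mp inferInstance
        exact he ▸ dvd_pow_self 2 (by omega)
      obtain ⟨z, hz⟩ := exists_prime_orderOf_dvd_card' 2 hdvd
      set x : G := ((z : ↥T) : G) with hx
      have hxo : orderOf x = 2 := by rw [hx, Subgroup.orderOf_coe, Subgroup.orderOf_coe]; exact hz
      have hc := (h x hxo).1
      rw [CfsgLib.Components.isPConstrained_iff] at hc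
      set C := Subgroup.centralizer ({x} : Set G) with hC
      have hTC : T ≤ C := fun t ht => Subgroup.mem_centralizer_singleton_iff.mpr
        (congrArg Subtype.val (Subgroup.mem_center_iff.mp z.2 ⟨t, ht⟩))
      have h2 := (CfsgLib.Components.normalizer_of_pLayer_eq_bot hc (P := T.subgroupOf C)
        (hT.of_equiv (Subgroup.subgroupOfEquivOfLe hTC).symm)).1
      rw [← Subgroup.subgroupOf_normalizer_eq hTC] at h2
      let e : ↥(N.subgroupOf C) ≃* ↥(C.subgroupOf N) :=
        { toFun := fun u => ⟨⟨((u : ↥C) : G), u.2⟩, (u : ↥C).2⟩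
          invFun := fun u => ⟨⟨((u : ↥N) : G), u.2⟩, (u : ↥N).2⟩
          left_inv := fun u => rfl
          right_inv := fun u => rfl
          map_mul' := fun u v => rfl }
      have h3 := S3247.pLayer_congr e h2
      haveI : (T.subgroupOf N).Normal :=
        (Subgroup.normal_subgroupOf_iff_le_normalizer Subgroup.le_normalizer).mpr le_rfl
      have hTN : IsPGroup 2 ↥(T.subgroupOf N) :=
        hT.of_equiv (Subgroup.subgroupOfEquivOfLe Subgroup.le_normalizer).symm
      rw [eq_bot_iff]
      refine sSup_le fun K hK => ?_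
      exfalso
      have hKC : K ≤ C.subgroupOf N := by
        intro k hk
        have h4 := CfsgLib.Components.le_centralizer_pGroup_of_pLayer hTN
          (CfsgLib.Components.IsPComponent.le_pLayer hK hk)
        exact Subgroup.mem_centralizer_singleton_iff.mpr
          (congrArg Subtype.val (Subgroup.mem_centralizer_iff.mp h4 ⟨x, Subgroup.le_normalizer (z : ↥T).2⟩ (z : ↥T).2)).symm
      have hK' := S3247.pComponent_subgroupOf hK hKC
      have h5 := CfsgLib.Components.IsPComponent.le_pLayer hK'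
      rw [h3, le_bot_iff] at h5
      exact Nat.prime_two.not_dvd_one (by simpa [h5] using CfsgLib.Components.IsPComponent.dvd_card hK')

end Cfsg.Agent.S3246
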