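import Cfsg.Statements.S3252
import Cfsg.Agent.Lib.Factorization.CyclicZGroup.Reduce

set_option autoImplicit false
open Cfsg

namespace Cfsg.Agent.S3252

/-- Let G be a finite non-solvable group that is the product G = AB of a cyclic subgroup A and a subgroup B all of whose Sylow subgroups are cyclic. Then the quotient of G by its largest solvable normal subgroup is isomorphic to PGL₂(p) for some prime p > 3. -/
theorem result {G : Type*} [Group G] [Finite G] (hG : ¬ Group.IsSolvable G)
    (A B : Subgroup G) (hA : IsCyclic ↥A) (hB : ∀ (q : ℕ) [Fact q.Prime] (Q : Sylow q ↥B), IsCyclic ↥(Q : Subgroup ↥B))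
    (hAB : ∀ g : G, ∃ a ∈ A, ∃ b ∈ B, g = a * b)
    (R : Subgroup G) [hR : R.Normal] (hRs : Group.IsSolvable ↥R) (hRmax : ∀ N : Subgroup G, N.Normal → Group.IsSolvable ↥N → N ≤ R) :
    ∃ (F : Type) (_ : Field F) (_ : Fintype F) (p : ℕ), p.Prime ∧ 3 < p ∧ Fintype.card F = p ∧
      Nonempty ((G ⧸ R) ≃* (GL (Fin 2) F ⧸ Subgroup.center (GL (Fin 2) F))) := by
  classical
  haveI := hA
  haveI hBz : IsZGroup ↥B := ⟨fun q hq P => by haveI := Fact.mk hq; exact hB q P⟩
  set π := QuotientGroup.mk' R with hπ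
  haveI : IsCyclic ↥(A.map π) := isCyclic_of_surjective (f := π.subgroupMap A)
    (MonoidHom.subgroupMap_surjective _ _)
  haveI : IsZGroup ↥(B.map π) := IsZGroup.of_surjective (f := π.subgroupMap B)
    (MonoidHom.subgroupMap_surjective _ _)
  have hns : ¬ Group.IsSolvable (G ⧸ R) := by
    intro h
    haveI := hRs
    haveI := h
    exact hG (Group.isSolvable_of_ker_le_range R.subtype π (by simp [hπ]))
  letI : Fintype ((G ⧸ R) ⧸ B.map π) := Fintype.ofFinite _
  obtain ⟨hcore, p, hgood⟩ := CfsgLib.Factorization.CyclicZ.main _ (G ⧸ R) rfl hns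
    (CfsgLib.Factorization.CyclicZ.quotient_radical R hRs hRmax) (A.map π) (B.map π) inferInstance
    inferInstance (fun x => by
      obtain ⟨g, rfl⟩ := QuotientGroup.mk'_surjective R x
      obtain ⟨a, ha, b, hb, rfl⟩ := hAB g
      exact ⟨_, Subgroup.mem_map_of_mem _ ha, _, Subgroup.mem_map_of_mem _ hb, map_mul _ a b⟩)
  have hinj : Function.Injective (MulAction.toPermHom (G ⧸ R) ((G ⧸ R) ⧸ B.map π)) := by
    rw [← MonoidHom.ker_eq_bot_iff, ← hcore, Subgroup.normalCore_eq_ker]
  obtain ⟨F, hF, hFt, hFc, ⟨e⟩⟩ := hgood.exists_iso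
  refine ⟨F, hF, hFt, p, hgood.hp, ?_, hFc, ⟨(MonoidHom.ofInjective hinj).trans e⟩⟩
  -- the symmetric group of degree four is solvable
  by_contra hlt
  refine hns ?_
  haveI := CfsgLib.Recognition.Zassenhaus.perm_solvable ((G ⧸ R) ⧸ B.map π) (by
    rw [Nat.card_eq_fintype_card, hgood.hcard]; omega)
  exact Group.isSolvable_of_isSolvable_injective (f := MulAction.toPermHom (G ⧸ R) _) hinj

end Cfsg.Agent.S3252
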