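import Cfsg.Statements.S3254
import Cfsg.Agent.Lib.Perm.ThricePrime.Final
import Cfsg.Agent.Lib.Perm.ThricePrime.Imprimitive

set_option autoImplicit false
open Cfsg

namespace Cfsg.Agent.S3254

/-- Let p > 3 be a prime and G a finite non-abelian simple group acting faithfully and transitively on a set Ω of 3p points, such that the normalizer of a Sylow p-subgroup of G has order 2p. If the action is primitive then p = 5 and G ≅ A₆; if it is imprimitive then p = 2^m + 1 for some m and G ≅ PSL₂(2^m). -/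
theorem result {G : Type*} [Group G] [Finite G] [IsSimpleGroup G] (hG : ¬ IsMulCommutative G)
    (p : ℕ) (hp : p.Prime) (hp3 : 3 < p) {Ω : Type*} [Fintype Ω] [MulAction G Ω] [FaithfulSMul G Ω]
    (htr : MulAction.IsPretransitive G Ω) (hΩ : Fintype.card Ω = 3 * p)
    (P : Sylow p G) (hN : Nat.card ↥(Subgroup.normalizer ((P : Subgroup G) : Set G)) = 2 * p) :
    (MulAction.IsPreprimitive G Ω → p = 5 ∧ Nonempty (G ≃* ↥(alternatingGroup (Fin 6)))) ∧
      (¬ MulAction.IsPreprimitive G Ω → ∃ (F : Type) (_ : Field F) (_ : Fintype F) (m : ℕ), Fintype.card F = 2 ^ m ∧ p = 2 ^ m + 1 ∧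
        Nonempty (G ≃* Matrix.ProjectiveSpecialLinearGroup (Fin 2) F)) := by
  haveI : Fact p.Prime := ⟨hp⟩
  haveI := htr
  set φ : G →* Equiv.Perm Ω := MulAction.toPermHom G Ω with hφ
  have hinj : Function.Injective φ := MulAction.toPerm_injective
  let e : G ≃* φ.range := MonoidHom.ofInjective hinj
  let P' : Sylow p φ.range := P.mapSurjective (f := e.toMonoidHom) e.surjective
  have htr' : MulAction.IsPretransitive φ.range Ω := ⟨fun x y => by
    obtain ⟨g, hg⟩ := MulAction.exists_smul_eq G x y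
    exact ⟨e g, hg⟩⟩
  have hS : CfsgLib.Perm.ThricePrime.Setup φ.range p P' := by
    refine ⟨hp3, hΩ, htr', e.symm.isSimpleGroup,
      fun h => hG ⟨⟨fun x y => e.injective (by rw [map_mul, map_mul]; exact h.is_comm.comm _ _)⟩⟩, ?_⟩
    have hn : (Subgroup.normalizer ((P : Subgroup G) : Set G)).map e.toMonoidHom =
        Subgroup.normalizer (((P : Subgroup G).map e.toMonoidHom : Subgroup φ.range) : Set φ.range) :=
      Subgroup.map_equiv_normalizer_eq _ e
    rw [show (P' : Subgroup φ.range) = (P : Subgroup G).map e.toMonoidHom from rfl, ← hn,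
      Subgroup.card_map_of_injective (show Function.Injective e.toMonoidHom from e.injective)]
    exact hN
  have hiff : MulAction.IsPreprimitive G Ω ↔ MulAction.IsPreprimitive φ.range Ω := by
    refine MulAction.isPreprimitive_congr (φ := e) (f := ⟨id, fun g x => rfl⟩) e.surjective
      Function.bijective_id
  refine ⟨fun h => ?_, fun h => ?_⟩
  · obtain ⟨h5, ⟨ea⟩⟩ := hS.primitive (hiff.1 h)
    exact ⟨h5, ⟨e.trans ea⟩⟩
  · obtain ⟨F, iF, iFt, m, hF, hpm, ⟨ea⟩⟩ := hS.imprimitive (fun h' => h (hiff.2 h'))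
    exact ⟨F, iF, iFt, m, hF, hpm, ⟨e.trans ea⟩⟩

end Cfsg.Agent.S3254
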