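import Cfsg.Statements.S3261
import Cfsg.Agent.S3035
import Cfsg.Agent.Lib.Classical.SLBasic
import Cfsg.Agent.Lib.Classical.SLOrders
import Cfsg.Agent.Lib.Classical.SL2Sylow

set_option autoImplicit false
open Cfsg

namespace Cfsg.Agent.S3261

open Equiv

/-- A double transposition of six points. -/
def d6 : Perm (Fin 6) := swap 0 1 * swap 2 3

theorem d6_mem : d6 ∈ alternatingGroup (Fin 6) := Perm.mem_alternatingGroup.2 (by decide)

/-- The element `d6` in the alternating group. -/
def dA : alternatingGroup (Fin 6) := ⟨d6, d6_mem⟩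

/-- The dihedral model of the centralizer. -/
def model : DihedralGroup 4 → Perm (Fin 6)
  | .r i => (swap 0 1 * (swap 0 2 * swap 1 3) * swap 4 5) ^ i.val
  | .sr i => swap 0 1 * swap 4 5 * (swap 0 1 * (swap 0 2 * swap 1 3) * swap 4 5) ^ i.val

theorem model_mul : ∀ x y, model (x * y) = model x * model y := by decide +kernel

theorem model_inj : ∀ x y, model x = model y → x = y := by decide +kernel

theorem model_comm : ∀ x, model x * d6 = d6 * model x ∧ Perm.sign (model x) = 1 := by
  decide +kernel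

theorem model_surj : ∀ s : Perm (Fin 6), s * d6 = d6 * s → Perm.sign s = 1 → ∃ x, model x = s := by
  decide +kernel

theorem conj_d6 : ∀ s : Perm (Fin 6), s * s = 1 → s.support.card = 4 →
    ∃ c : Perm (Fin 6), Perm.sign c = 1 ∧ c * s * c⁻¹ = d6 := by
  decide +kernel

theorem centralizer_dihedral (a : alternatingGroup (Fin 6)) (ha : orderOf a = 2)
    (hs : (a : Perm (Fin 6)).support.card = 4) :
    Nonempty (↥(Subgroup.centralizer ({a} : Set (alternatingGroup (Fin 6)))) ≃* DihedralGroup 4) := by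
  obtain ⟨c, hc1, hc⟩ := conj_d6 a (by
    rw [← Subgroup.coe_mul, ← pow_two, ← ha, pow_orderOf_eq_one]; rfl) hs
  let cA : alternatingGroup (Fin 6) := ⟨c, Perm.mem_alternatingGroup.2 hc1⟩
  let f : DihedralGroup 4 →* alternatingGroup (Fin 6) :=
    (MonoidHom.mk' model model_mul).codRestrict _ fun x =>
      Perm.mem_alternatingGroup.2 (model_comm x).2
  have hfi : Function.Injective f := fun x y h => model_inj x y (congrArg Subtype.val h :)
  let g : DihedralGroup 4 →* alternatingGroup (Fin 6) := (MulAut.conj cA⁻¹).toMonoidHom.comp f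
  have hgi : Function.Injective g := (MulAut.conj cA⁻¹).injective.comp hfi
  have hca : cA * a * cA⁻¹ = dA := Subtype.ext hc
  have hr : g.range = Subgroup.centralizer ({a} : Set (alternatingGroup (Fin 6))) := by
    ext x
    rw [MonoidHom.mem_range, Subgroup.mem_centralizer_singleton_iff]
    constructor
    · rintro ⟨w, rfl⟩
      have hw : f w * dA = dA * f w := Subtype.ext (model_comm w).1
      show cA⁻¹ * f w * cA⁻¹⁻¹ * a = a * (cA⁻¹ * f w * cA⁻¹⁻¹)
      calc cA⁻¹ * f w * cA⁻¹⁻¹ * a = cA⁻¹ * (f w * (cA * a * cA⁻¹)) * cA := by group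
        _ = cA⁻¹ * ((cA * a * cA⁻¹) * f w) * cA := by rw [hca, hw]
        _ = _ := by group
    · intro hx
      have h1 : cA * x * cA⁻¹ * dA = dA * (cA * x * cA⁻¹) := by
        rw [← hca]
        calc cA * x * cA⁻¹ * (cA * a * cA⁻¹) = cA * (x * a) * cA⁻¹ := by group
          _ = cA * (a * x) * cA⁻¹ := by rw [hx]
          _ = _ := by group
      obtain ⟨w, hw⟩ := model_surj _ (congrArg Subtype.val h1)
        (Perm.mem_alternatingGroup.1 (cA * x * cA⁻¹).2)
      refine ⟨w, ?_⟩
      have h2 : f w = cA * x * cA⁻¹ := Subtype.ext hw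
      show cA⁻¹ * f w * cA⁻¹⁻¹ = x
      rw [h2]; group
  exact ⟨((MonoidHom.ofInjective hgi).trans (MulEquiv.subgroupCongr hr)).symm⟩

theorem exists_index_two {G : Type*} [Group G] [Finite G] {K : Type*} [Group K] [Finite K]
    (f : G →* K) (hf : Function.Surjective f) {n : ℕ} (hK : Nat.card K = 2 ^ (n + 1)) :
    ∃ H : Subgroup G, H.index = 2 := by
  haveI : Fact (Nat.Prime 2) := ⟨Nat.prime_two⟩
  obtain ⟨H, hH⟩ := Sylow.exists_subgroup_card_pow_prime 2
    (show 2 ^ n ∣ Nat.card K from hK ▸ pow_dvd_pow 2 n.le_succ)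
  refine ⟨H.comap f, ?_⟩
  rw [Subgroup.index_comap_of_surjective _ hf]
  have h := H.index_mul_card
  rw [hH, hK, pow_succ, mul_comm] at h
  exact Nat.eq_of_mul_eq_mul_left (by positivity) h

theorem psl_seven {G : Type*} [Group G] [Finite G]
    (h : G ≃* Matrix.SpecialLinearGroup (Fin 3) (ZMod 2)) :
    ∃ (F : Type) (_ : Field F) (_ : Fintype F), Fintype.card F = 7 ∧
      Nonempty (G ≃* Matrix.ProjectiveSpecialLinearGroup (Fin 2) F) := by
  haveI : Fact (Nat.Prime 7) := ⟨by norm_num⟩
  refine ⟨ZMod 7, inferInstance, inferInstance, ZMod.card 7, ?_⟩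
  haveI := CfsgLib.Classical.psl_fin_isSimpleGroup (F := ZMod 7) (k := 2) le_rfl
    (fun _ => by rw [ZMod.card]; omega)
  haveI := Cfsg.Agent.S3035.isSimple_sl
  haveI := h.isSimpleGroup
  refine CfsgLib.Sporadic.SimpleIso168.unique
    ((Nat.card_congr h.toEquiv).trans Cfsg.Agent.S3035.card_sl) ?_
  have hc := CfsgLib.Classical.card_psl_mul (F := ZMod 7) (ZMod.card 7) 2 (by norm_num)
  rw [CfsgLib.Classical.card_sl2 (ZMod.card 7), show Nat.gcd 2 (7 - 1) = 2 from rfl] at hc
  norm_num at hc
  rw [Nat.card_eq_fintype_card]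
  omega

/-- Let α̃ be an involution of the alternating group A₆ that is a product of two disjoint transpositions (it lies in the centre of a Sylow 2-subgroup of A₆; its centralizer is dihedral of order 8). Let G be a finite group that has no subgroup of index 2 and contains an involution α, central in some Sylow 2-subgroup of G, with C_G(α) ≅ C_{A₆}(α̃). Then G is isomorphic to A₆ or to PSL₂(7). -/
theorem result {G : Type*} [Group G] [Finite G]
    (hG : ∀ H : Subgroup G, H.index ≠ 2)
    (αt : ↥(alternatingGroup (Fin 6))) (hαt : orderOf αt = 2) (hsupp : (αt : Equiv.Perm (Fin 6)).support.card = 4)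
    (α : G) (hα : orderOf α = 2) (S : Sylow 2 G) (hαS : α ∈ (S : Subgroup G)) (hαc : ∀ s ∈ (S : Subgroup G), s * α = α * s)
    (e : ↥(Subgroup.centralizer ({α} : Set G)) ≃* ↥(Subgroup.centralizer ({αt} : Set ↥(alternatingGroup (Fin 6))))) :
    Nonempty (G ≃* ↥(alternatingGroup (Fin 6))) ∨
      (∃ (F : Type) (_ : Field F) (_ : Fintype F), Fintype.card F = 7 ∧ Nonempty (G ≃* Matrix.ProjectiveSpecialLinearGroup (Fin 2) F)) := by
  classical
  obtain ⟨eA⟩ := centralizer_dihedral αt hαt hsupp
  let eD := e.trans eA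
  rcases Cfsg.Agent.S3035.result α hα ⟨eD⟩ with h | ⟨⟨h⟩⟩ | ⟨⟨h⟩⟩ | ⟨⟨h⟩⟩ | h
  · exfalso
    haveI : Fact (Nat.Prime 2) := ⟨Nat.prime_two⟩
    haveI : (Cfsg.oddCore G).Normal := CfsgLib.Involution.ZStar.oddCore_normal
    let f := QuotientGroup.mk' (Cfsg.oddCore G)
    have hC : IsPGroup 2 ↥(Subgroup.centralizer ({α} : Set G)) := IsPGroup.of_card (n := 3) (by
      rw [CfsgLib.LocalEvenB.CentralizerDihedralEight.card_centralizer eD]; norm_num)
    have htop : (Subgroup.centralizer ({α} : Set G)).map f = ⊤ := by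
      have h1 : (Subgroup.centralizer ({α} : Set G) ⊔ Cfsg.oddCore G).map f = ⊤ := by
        rw [h, Subgroup.map_top_of_surjective f (QuotientGroup.mk'_surjective _)]
      rwa [Subgroup.map_sup, QuotientGroup.map_mk'_self, sup_bot_eq] at h1
    have hp := hC.map f
    rw [htop] at hp
    obtain ⟨n, hn⟩ := hp.exists_card_eq
    rw [Subgroup.card_top] at hn
    rcases n with _ | n
    · have h1 : α ∈ Cfsg.oddCore G := by
        haveI : Subsingleton (G ⧸ Cfsg.oddCore G) := (Nat.card_eq_one_iff_unique.1 hn).1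
        exact (QuotientGroup.eq_one_iff α).1 (Subsingleton.elim _ _)
      have h2 : 2 ∣ Nat.card (Cfsg.oddCore G) := by
        have := orderOf_dvd_natCard (⟨α, h1⟩ : Cfsg.oddCore G)
        rwa [← Subgroup.orderOf_coe, hα] at this
      exact Nat.not_even_iff_odd.2 CfsgLib.Involution.ZStar.odd_card_oddCore
        (even_iff_two_dvd.2 h2)
    · obtain ⟨H, hH⟩ := exists_index_two f (QuotientGroup.mk'_surjective _) hn
      exact hG H hH
  · exact absurd ((Subgroup.index_comap_of_surjective _ h.surjective).trans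
      (alternatingGroup.index_eq_two)) (hG ((alternatingGroup (Fin 4)).comap h.toMonoidHom))
  · exact absurd ((Subgroup.index_comap_of_surjective _ h.surjective).trans
      (alternatingGroup.index_eq_two)) (hG ((alternatingGroup (Fin 5)).comap h.toMonoidHom))
  · exact Or.inr (psl_seven h)
  · exact Or.inl h

end Cfsg.Agent.S3261
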