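import Cfsg.Statements.S3265
import Cfsg.Agent.Lib.Perm.OddProduct.Main
-- import your own Cfsg.Agent.* helpers here

set_option autoImplicit false
open Cfsg

namespace Cfsg.Agent.S3265

/-- Let n ≥ 5 and let X be a conjugacy class of involutions of the symmetric group of degree n. The graph on X joining two distinct involutions whose product has odd order is connected and has diameter exactly 2. -/
theorem result (n : ℕ) (hn : 5 ≤ n) (t : Equiv.Perm (Fin n)) (ht : orderOf t = 2) :
    (SimpleGraph.fromRel fun x y : {x : Equiv.Perm (Fin n) // IsConj t x} =>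
        Odd (orderOf (x.1 * y.1))).Connected ∧
      (SimpleGraph.fromRel fun x y : {x : Equiv.Perm (Fin n) // IsConj t x} =>
        Odd (orderOf (x.1 * y.1))).diam = 2 := by
  classical
  set G := SimpleGraph.fromRel fun x y : {x : Equiv.Perm (Fin n) // IsConj t x} =>
    Odd (orderOf (x.1 * y.1))
  have ht2 : ∀ v, t (t v) = v := fun v => by
    have : t * t = 1 := by rw [← pow_two, ← ht]; exact pow_orderOf_eq_one t
    exact DFunLike.congr_fun this v
  have hinv : ∀ x : Equiv.Perm (Fin n), IsConj t x → ∀ v, x (x v) = v := by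
    intro x hx v
    obtain ⟨g, rfl⟩ := isConj_iff.1 hx
    simp [ht2]
  have hswap : ∀ a b : Equiv.Perm (Fin n), (∀ v, a (a v) = v) → (∀ v, b (b v) = v) →
      orderOf (a * b) = orderOf (b * a) := by
    intro a b ha hb
    rw [← orderOf_inv (a * b), mul_inv_rev, inv_eq_of_mul_eq_one_right (Equiv.ext ha : a * a = 1),
      inv_eq_of_mul_eq_one_right (Equiv.ext hb : b * b = 1)]
  have hadj : ∀ u v : {x : Equiv.Perm (Fin n) // IsConj t x}, u ≠ v → Odd (orderOf (u.1 * v.1)) → G.Adj u v :=
    fun u v hne ho => by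
      simp only [G, SimpleGraph.fromRel_adj]
      exact ⟨hne, Or.inl ho⟩
  have hle : ∀ u v, ∃ w : G.Walk u v, w.length ≤ 2 := by
    rintro ⟨a, ha⟩ ⟨b, hb⟩
    obtain ⟨z, hz, hza, hzb⟩ := CfsgLib.Perm.OddProduct.exists_partner (by simpa using hn)
      ⟨hinv a ha, hinv b hb⟩ (ha.symm.trans hb)
    have hzt : IsConj t z := ha.trans hz
    by_cases hab : (⟨a, ha⟩ : {x : Equiv.Perm (Fin n) // IsConj t x}) = ⟨b, hb⟩
    · rw [hab]; exact ⟨.nil, by simp⟩
    by_cases h1 : a = z
    · subst h1
      refine ⟨(hadj _ _ hab ?_).toWalk, by simp⟩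
      rwa [hswap a b (hinv a ha) (hinv b hb)]
    by_cases h2 : b = z
    · subst h2
      exact ⟨(hadj ⟨a, ha⟩ ⟨b, hb⟩ hab hza).toWalk, by simp⟩
    have e1 := hadj ⟨a, ha⟩ ⟨z, hzt⟩ (fun e => h1 (congrArg Subtype.val e)) hza
    have e2 := hadj ⟨z, hzt⟩ ⟨b, hb⟩ (fun e => h2 (congrArg Subtype.val e).symm)
      (by rwa [hswap z b (hinv z hzt) (hinv b hb)])
    exact ⟨.cons e1 e2.toWalk, by simp⟩
  haveI : Nonempty {x : Equiv.Perm (Fin n) // IsConj t x} := ⟨⟨t, IsConj.refl t⟩⟩
  have hconn : G.Connected := ⟨fun u v => (hle u v).choose.reachable⟩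
  refine ⟨hconn, ?_⟩
  have hed : G.ediam ≤ 2 := SimpleGraph.ediam_le_of_edist_le fun u v => by
    obtain ⟨w, hw⟩ := hle u v
    exact (SimpleGraph.edist_le w).trans (by exact_mod_cast hw)
  -- two distinct commuting members
  obtain ⟨g, hg1, hg2⟩ : ∃ g : Equiv.Perm (Fin n), g * t * g⁻¹ ≠ t ∧ t * (g * t * g⁻¹) = g * t * g⁻¹ * t := by
    obtain ⟨a, ha⟩ : ∃ a, t a ≠ a := by
      by_contra hne
      push Not at hne
      rw [show t = 1 from Equiv.ext hne, orderOf_one] at ht
      norm_num at ht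
    have hb : t (t a) = a := ht2 a
    obtain ⟨c, hc⟩ : ∃ c, c ∉ ({a, t a} : Finset (Fin n)) :=
      Finset.exists_mem_notMem_of_card_lt_card (t := Finset.univ) (by
        rw [Finset.card_univ, Fintype.card_fin]; exact lt_of_le_of_lt Finset.card_le_two (by omega)) |>.imp fun _ h => h.2
    simp only [Finset.mem_insert, Finset.mem_singleton, not_or] at hc
    by_cases h2 : ∃ c, c ≠ a ∧ c ≠ t a ∧ t c ≠ c
    · obtain ⟨c, c1, c2, c3⟩ := h2
      have hd : t (t c) = c := ht2 c
      have d1 : t c ≠ a := fun e => c2 (by rw [← e, hd])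
      have d2 : t c ≠ t a := fun e => c1 (t.injective e)
      refine ⟨Equiv.swap (t a) c, fun e => ?_, Equiv.ext fun v => ?_⟩
      · have := DFunLike.congr_fun e a
        simp [Equiv.swap_apply_def, ha, (Ne.symm c1), (Ne.symm ha)] at this
        exact c2 this
      · simp only [Equiv.Perm.mul_apply, Equiv.swap_inv]
        by_cases v1 : v = a
        · subst v1; simp [Equiv.swap_apply_def, ha, (Ne.symm ha), c1, (Ne.symm c1), c2, (Ne.symm c2), c3, (Ne.symm c3), d1, (Ne.symm d1), d2, (Ne.symm d2), hb, hd]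
        by_cases v2 : v = t a
        · subst v2; simp [Equiv.swap_apply_def, ha, (Ne.symm ha), c1, (Ne.symm c1), c2, (Ne.symm c2), c3, (Ne.symm c3), d1, (Ne.symm d1), d2, (Ne.symm d2), hb, hd]
        by_cases v3 : v = c
        · subst v3; simp [Equiv.swap_apply_def, ha, (Ne.symm ha), c1, (Ne.symm c1), c2, (Ne.symm c2), c3, (Ne.symm c3), d1, (Ne.symm d1), d2, (Ne.symm d2), hb, hd]
        by_cases v4 : v = t c
        · subst v4; simp [Equiv.swap_apply_def, ha, (Ne.symm ha), c1, (Ne.symm c1), c2, (Ne.symm c2), c3, (Ne.symm c3), d1, (Ne.symm d1), d2, (Ne.symm d2), hb, hd]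
        have w1 : t v ≠ a := fun e => v2 (by rw [← e, ht2])
        have w2 : t v ≠ t a := fun e => v1 (t.injective e)
        have w3 : t v ≠ c := fun e => v4 (by rw [← e, ht2])
        simp [Equiv.swap_apply_def, v2, v3, w2, w3, ht2]
    · push Not at h2
      obtain ⟨d, hd⟩ : ∃ d, d ∉ ({a, t a, c} : Finset (Fin n)) :=
        Finset.exists_mem_notMem_of_card_lt_card (t := Finset.univ) (by
          rw [Finset.card_univ, Fintype.card_fin]; exact lt_of_le_of_lt Finset.card_le_three (by omega)) |>.imp fun _ h => h.2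
      simp only [Finset.mem_insert, Finset.mem_singleton, not_or] at hd
      obtain ⟨c1, c2⟩ := hc
      obtain ⟨d1, d2, d3⟩ := hd
      have tc := h2 c c1 c2
      have td := h2 d d1 d2
      have hts : t = Equiv.swap a (t a) := Equiv.ext fun v => by
        by_cases v1 : v = a
        · rw [v1, Equiv.swap_apply_left]
        by_cases v2 : v = t a
        · rw [v2, Equiv.swap_apply_right, hb]
        rw [Equiv.swap_apply_of_ne_of_ne v1 v2, h2 v v1 v2]
      have hz : Equiv.swap a c * Equiv.swap (t a) d * t * (Equiv.swap a c * Equiv.swap (t a) d)⁻¹ =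
          Equiv.swap c d := by
        conv_lhs => arg 1; arg 2; rw [hts]
        rw [← Equiv.swap_apply_apply]
        simp [Equiv.swap_apply_def, ha, (Ne.symm ha), d1, (Ne.symm d1), d2, (Ne.symm d2), c2, (Ne.symm c2), d3, (Ne.symm d3)]
      refine ⟨Equiv.swap a c * Equiv.swap (t a) d, ?_, ?_⟩ <;> rw [hz]
      · intro e
        have := DFunLike.congr_fun e c
        rw [Equiv.swap_apply_left, tc] at this
        exact d3 this
      · rw [hts]
        refine (Equiv.Perm.Disjoint.commute fun v => ?_).eq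
        by_cases v1 : v = a
        · exact Or.inr (by rw [v1, Equiv.swap_apply_of_ne_of_ne (Ne.symm c1) (Ne.symm d1)])
        by_cases v2 : v = t a
        · exact Or.inr (by rw [v2, Equiv.swap_apply_of_ne_of_ne (Ne.symm c2) (Ne.symm d2)])
        exact Or.inl (Equiv.swap_apply_of_ne_of_ne v1 v2)
  set y := g * t * g⁻¹
  have hy : IsConj t y := isConj_iff.2 ⟨g, rfl⟩
  have hne : (⟨t, IsConj.refl t⟩ : {x : Equiv.Perm (Fin n) // IsConj t x}) ≠ ⟨y, hy⟩ :=
    fun e => hg1 (congrArg Subtype.val e).symm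
  have hnadj : ¬ G.Adj ⟨t, IsConj.refl t⟩ ⟨y, hy⟩ := by
    have h2 : orderOf (t * y) = 2 := by
      refine orderOf_eq_prime ?_ fun e => hg1 ?_
      · have htt : t * t = 1 := Equiv.ext ht2
        have hyy : y * y = 1 := Equiv.ext (hinv y hy)
        rw [pow_two]
        calc t * y * (t * y) = t * (y * t) * y := by simp [mul_assoc]
          _ = t * t * (y * y) := by rw [← hg2]; simp [mul_assoc]
          _ = 1 := by rw [htt, hyy, mul_one]
      · rw [eq_inv_of_mul_eq_one_right e, inv_eq_of_mul_eq_one_right (Equiv.ext ht2 : t * t = 1)]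
    simp only [G, SimpleGraph.fromRel_adj, not_and, not_or]
    intro _
    rw [h2, hswap y t (hinv y hy) ht2, h2]
    decide
  have hge : (2 : ℕ∞) ≤ G.ediam := by
    refine le_trans ?_ (SimpleGraph.edist_le_ediam (u := ⟨t, IsConj.refl t⟩) (v := ⟨y, hy⟩))
    by_contra hlt
    push Not at hlt
    obtain ⟨k, hk⟩ := ENat.ne_top_iff_exists.1 (ne_top_of_lt hlt)
    rw [← hk] at hlt
    have hk2 : k < 2 := by exact_mod_cast hlt
    interval_cases k
    · exact hne (SimpleGraph.edist_eq_zero_iff.1 hk.symm)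
    · exact hnadj (SimpleGraph.edist_eq_one_iff_adj.1 hk.symm)
  rw [SimpleGraph.diam, le_antisymm hed hge]
  rfl

end Cfsg.Agent.S3265
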