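import Cfsg.Statements.S3266
import Cfsg.Agent.Lib.Perm.OddProduct.PSLTwo
-- import your own Cfsg.Agent.* helpers here

set_option autoImplicit false
open Cfsg

namespace Cfsg.Agent.S3266

/-- Let F be a finite field with at least 4 elements and let X be a conjugacy class of involutions of PSL(2, F). The graph on X joining two distinct involutions whose product has odd order is connected and has diameter exactly 2. -/
theorem result {F : Type*} [Field F] [Fintype F] (hF : 4 ≤ Fintype.card F)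
    (t : Matrix.ProjectiveSpecialLinearGroup (Fin 2) F) (ht : orderOf t = 2) :
    (SimpleGraph.fromRel fun x y : {x : Matrix.ProjectiveSpecialLinearGroup (Fin 2) F // IsConj t x} =>
        Odd (orderOf (x.1 * y.1))).Connected ∧
      (SimpleGraph.fromRel fun x y : {x : Matrix.ProjectiveSpecialLinearGroup (Fin 2) F // IsConj t x} =>
        Odd (orderOf (x.1 * y.1))).diam = 2 := by
  classical
  set G := SimpleGraph.fromRel fun x y : {x : Matrix.ProjectiveSpecialLinearGroup (Fin 2) F // IsConj t x} =>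
    Odd (orderOf (x.1 * y.1))
  have ht1 : t ≠ 1 := fun e => by rw [e, orderOf_one] at ht; norm_num at ht
  have ht2 : t * t = 1 := by have := pow_orderOf_eq_one t; rwa [ht, pow_two] at this
  have hmem : ∀ x, IsConj t x → x ≠ 1 ∧ x * x = 1 := by
    intro x hx
    obtain ⟨g, rfl⟩ := isConj_iff.1 hx
    exact ⟨fun e => ht1 (conj_eq_one_iff.1 e), by rw [conj_mul, ht2, mul_one, mul_inv_cancel]⟩
  have hmem' : ∀ x, x ≠ 1 → x * x = 1 → IsConj t x := fun x h1 h2 =>
    CfsgLib.Perm.OddProduct.PSLTwo.isConj_of_involution ht1 ht2 h1 h2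
  have hswap : ∀ a b : Matrix.ProjectiveSpecialLinearGroup (Fin 2) F, a * a = 1 → b * b = 1 →
      orderOf (a * b) = orderOf (b * a) := by
    intro a b ha hb
    rw [← orderOf_inv (a * b), _root_.mul_inv_rev, inv_eq_of_mul_eq_one_right ha, inv_eq_of_mul_eq_one_right hb]
  have hadj : ∀ u v : {x : Matrix.ProjectiveSpecialLinearGroup (Fin 2) F // IsConj t x}, u ≠ v →
      Odd (orderOf (u.1 * v.1)) → G.Adj u v := fun u v hne ho => by
    simp only [G, SimpleGraph.fromRel_adj]
    exact ⟨hne, Or.inl ho⟩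
  have hle : ∀ u v, ∃ w : G.Walk u v, w.length ≤ 2 := by
    rintro ⟨a, ha⟩ ⟨b, hb⟩
    obtain ⟨z, hz1, hz2, hza, hzb⟩ := CfsgLib.Perm.OddProduct.PSLTwo.exists_partner hF (hmem a ha).1 (hmem a ha).2
      (hmem b hb).1 (hmem b hb).2
    have hzt : IsConj t z := hmem' z hz1 hz2
    by_cases hab : (⟨a, ha⟩ : {x : Matrix.ProjectiveSpecialLinearGroup (Fin 2) F // IsConj t x}) = ⟨b, hb⟩
    · rw [hab]; exact ⟨.nil, by simp⟩
    by_cases h1 : a = z
    · subst h1
      refine ⟨(hadj _ _ hab ?_).toWalk, by simp⟩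
      rwa [hswap a b (hmem a ha).2 (hmem b hb).2]
    by_cases h2 : b = z
    · subst h2
      exact ⟨(hadj ⟨a, ha⟩ ⟨b, hb⟩ hab hza).toWalk, by simp⟩
    have e1 := hadj ⟨a, ha⟩ ⟨z, hzt⟩ (fun e => h1 (congrArg Subtype.val e)) hza
    have e2 := hadj ⟨z, hzt⟩ ⟨b, hb⟩ (fun e => h2 (congrArg Subtype.val e).symm)
      (by rwa [hswap z b hz2 (hmem b hb).2])
    exact ⟨.cons e1 e2.toWalk, by simp⟩
  have : Nonempty {x : Matrix.ProjectiveSpecialLinearGroup (Fin 2) F // IsConj t x} := ⟨⟨t, IsConj.refl t⟩⟩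
  refine ⟨⟨fun u v => (hle u v).choose.reachable⟩, ?_⟩
  have hed : G.ediam ≤ 2 := SimpleGraph.ediam_le_of_edist_le fun u v => by
    obtain ⟨w, hw⟩ := hle u v
    exact (SimpleGraph.edist_le w).trans (by exact_mod_cast hw)
  obtain ⟨x, y, hx1, hx2, hy1, hy2, hxy, hcomm⟩ := CfsgLib.Perm.OddProduct.PSLTwo.exists_commuting (F := F) hF
  have hne : (⟨x, hmem' x hx1 hx2⟩ : {x : Matrix.ProjectiveSpecialLinearGroup (Fin 2) F // IsConj t x}) ≠
      ⟨y, hmem' y hy1 hy2⟩ := fun e => hxy (congrArg Subtype.val e)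
  have hnadj : ¬ G.Adj ⟨x, hmem' x hx1 hx2⟩ ⟨y, hmem' y hy1 hy2⟩ := by
    have h2 : orderOf (x * y) = 2 := by
      refine orderOf_eq_prime ?_ fun e => hxy ?_
      · rw [pow_two]
        calc x * y * (x * y) = x * (y * x) * y := by simp [mul_assoc]
          _ = x * x * (y * y) := by rw [← hcomm]; simp [mul_assoc]
          _ = 1 := by rw [hx2, hy2, mul_one]
      · rw [eq_inv_of_mul_eq_one_left e, inv_eq_of_mul_eq_one_right hy2]
    simp only [G, SimpleGraph.fromRel_adj, not_and, not_or]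
    intro _
    rw [h2, hswap y x hy2 hx2, h2]
    decide
  have hge : (2 : ℕ∞) ≤ G.ediam := by
    refine le_trans ?_ (SimpleGraph.edist_le_ediam (u := ⟨x, hmem' x hx1 hx2⟩) (v := ⟨y, hmem' y hy1 hy2⟩))
    by_contra hlt
    push Not at hlt
    obtain ⟨k, hk⟩ := ENat.ne_top_iff_exists.1 (ne_top_of_lt hlt)
    rw [← hk] at hlt
    have hk2 : k < 2 := by exact_mod_cast hlt
    interval_cases k
    · exact hne (SimpleGraph.edist_eq_zero_iff.1 hk.symm)
    · exact hnadj (SimpleGraph.edist_eq_one_iff_adj.1 hk.symm)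
  rw [SimpleGraph.diam, le_antisymm hed hge]
  rfl

end Cfsg.Agent.S3266
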