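import Cfsg.Statements.S3269
import Cfsg.Agent.Lib.Involution.ZStar.Main
import Cfsg.Agent.Lib.Fusion.Transfer

set_option autoImplicit false
open Cfsg

namespace Cfsg.Agent.S3269
open QuaternionGroup in
theorem exists_fixed_involution {N : ℕ} [NeZero N] (hN : 2 ≤ N) (hpow : ∃ j, N = 2 ^ j) (hU : ∀ s t : QuaternionGroup N, orderOf s = 2 → orderOf t = 2 → s = t)
    {R : Type*} [Group R] [Finite R] (hR : ∀ r : R, orderOf r = 2 → r ∈ Subgroup.center R) :
    ∃ w : QuaternionGroup N × R, w ≠ 1 ∧ w ^ 2 = 1 ∧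
      ∀ β : MulAut (QuaternionGroup N × R), β w = w := by
  classical
  haveI := Fact.mk Nat.prime_two
  obtain ⟨u, hu⟩ : ∃ u : QuaternionGroup N, orderOf u = 2 := exists_prime_orderOf_dvd_card' 2
    (by rw [Nat.card_eq_fintype_card, QuaternionGroup.card]; exact ⟨2 * N, by ring⟩)
  have hu1 : u ≠ 1 := fun h => by rw [h, orderOf_one] at hu; omega
  have huu : u * u = 1 := CfsgLib.BrauerSuzuki.mul_self_of_orderOf_two hu
  have hinv : ∀ q : QuaternionGroup N, q * q = 1 → q = 1 ∨ q = u := fun q hq => by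
    by_cases h : q = 1
    · exact Or.inl h
    · exact Or.inr (hU q u (orderOf_eq_prime (by rw [sq, hq]) h) hu)
  have huc : u ∈ Subgroup.center (QuaternionGroup N) := Subgroup.mem_center_iff.mpr fun g => by
    have := hU _ u (show orderOf (g * u * g⁻¹) = 2 by rw [CfsgLib.BrauerSuzuki.orderOf_conj', hu]) hu
    exact mul_inv_eq_iff_eq_mul.mp this
  have hu0 : ((u, 1) : QuaternionGroup N × R) ∈ Subgroup.center (QuaternionGroup N × R) :=
    Subgroup.mem_center_iff.mpr fun g => Prod.ext (Subgroup.mem_center_iff.mp huc g.1) (by simp)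
  -- the orbit of `(u, 1)`
  have key : ∀ β : MulAut (QuaternionGroup N × R), β (u, 1) = (u, 1) ∨ (β (u, 1)).1 = 1 := by
    intro β
    set v := β (u, 1) with hv
    have hvv : v * v = 1 := by rw [hv, ← map_mul, Prod.mk_mul_mk, huu, mul_one]; exact map_one β
    rcases hinv v.1 (congrArg Prod.fst hvv) with h1 | h1
    · exact Or.inr h1
    by_cases h2 : v.2 = 1
    · exact Or.inl (Prod.ext h1 h2)
    exfalso
    let g : QuaternionGroup N →* QuaternionGroup N :=
      (MonoidHom.fst _ _).comp (β.toMonoidHom.comp (MonoidHom.inl _ _))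
    let f : QuaternionGroup N →* R := (MonoidHom.snd _ _).comp (β.toMonoidHom.comp (MonoidHom.inl _ _))
    have hQ2 : IsPGroup 2 (QuaternionGroup N) := by
      obtain ⟨m, hm⟩ := hpow
      exact IsPGroup.of_card (n := m + 2) (by rw [Nat.card_eq_fintype_card, QuaternionGroup.card, hm, pow_add]; ring)
    have hker : ∀ K : Subgroup (QuaternionGroup N), u ∉ K → K = ⊥ := by
      intro K hφ
      rw [eq_bot_iff]
      intro q hq
      rw [Subgroup.mem_bot]
      obtain ⟨m, hm⟩ := IsPGroup.iff_orderOf.mp hQ2 q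
      rcases Nat.eq_zero_or_pos m with rfl | hmpos
      · exact orderOf_eq_one_iff.mp hm
      have hd : 2 ∣ orderOf q := hm ▸ dvd_pow_self 2 hmpos.ne'
      have := pow_mem hq (orderOf q / 2)
      rw [hU _ u (CfsgLib.BrauerSuzuki.orderOf_half hd) hu] at this
      exact absurd this hφ
    have hfu : f u ≠ 1 := h2
    have hgu : g u ≠ 1 := by show v.1 ≠ 1; rw [h1]; exact hu1
    have hf : Function.Injective f := (MonoidHom.ker_eq_bot_iff f).mp (hker _ hfu)
    have hg : Function.Surjective g := Finite.surjective_of_injective ((MonoidHom.ker_eq_bot_iff g).mp (hker _ hgu))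
    let C : Subgroup R := Subgroup.centralizer (Set.range f)
    -- the second factor commutes with the image of the first
    let j : R →* QuaternionGroup N × R := β.toMonoidHom.comp (MonoidHom.inr _ _)
    have hcomm : ∀ (q : QuaternionGroup N) (r : R), Commute (g q, f q) (j r) := fun q r =>
      (Commute.map (show Commute ((q, 1) : QuaternionGroup N × R) (1, r) by
        simp [Commute, SemiconjBy]) β.toMonoidHom)
    have hj1 : ∀ r, (j r).1 = 1 ∨ (j r).1 = u := fun r => hinv _
      (CfsgLib.BrauerSuzuki.sq_eq_one_of_central_quat hN fun q => by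
        obtain ⟨q', rfl⟩ := hg q
        exact congrArg Prod.fst (hcomm q' r).eq)
    have hj2 : ∀ r, (j r).2 ∈ C := fun r => by
      rw [Subgroup.mem_centralizer_iff]
      rintro _ ⟨q, rfl⟩
      exact congrArg Prod.snd (hcomm q r).eq
    have hle : Nat.card R ≤ 2 * Nat.card C := by
      have := Nat.card_le_card_of_injective
        (fun r => ((if (j r).1 = 1 then true else false), (⟨(j r).2, hj2 r⟩ : C))) (fun r s hrs => by
          simp only [Prod.mk.injEq, Subtype.mk.injEq] at hrs
          refine congrArg Prod.snd (β.injective (Prod.ext ?_ hrs.2 : j r = j s) : ((1, r) : QuaternionGroup N × R) = (1, s))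
          rcases hj1 r with h | h <;> rcases hj1 s with h' | h' <;> simp [h, h', hu1] at hrs ⊢)
      rwa [Nat.card_prod, show Nat.card Bool = 2 by simp] at this
    -- three cosets of the centralizer
    let x : Fin 3 → QuaternionGroup N := ![1, a 1, xa 0]
    have hD : ∀ i k : Fin 3, i ≠ k → (x k)⁻¹ * x i * ((x k)⁻¹ * x i) ≠ 1 := by
      have hxa : ∀ j : ZMod (2 * N), xa j * xa j ≠ 1 := fun j h => by
        have := orderOf_dvd_of_pow_eq_one (show (xa j) ^ 2 = 1 by rw [sq]; exact h)
        rw [orderOf_xa] at this; norm_num at this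
      have ha : (a 1 : QuaternionGroup N) * a 1 ≠ 1 := fun h => by
        have := orderOf_dvd_of_pow_eq_one (show (a (1 : ZMod (2 * N))) ^ 2 = 1 by rw [sq]; exact h)
        rw [orderOf_a_one] at this
        have := Nat.le_of_dvd two_pos this
        omega
      have h10 : (x 0)⁻¹ * x 1 * ((x 0)⁻¹ * x 1) ≠ 1 := by simpa [x] using ha
      have h20 : (x 0)⁻¹ * x 2 * ((x 0)⁻¹ * x 2) ≠ 1 := by simpa [x] using hxa 0
      have h21 : (x 1)⁻¹ * x 2 * ((x 1)⁻¹ * x 2) ≠ 1 := by
        rw [show (x 1)⁻¹ * x 2 = xa (0 - -1) from rfl]; exact hxa _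
      have hrev : ∀ i k, (x k)⁻¹ * x i * ((x k)⁻¹ * x i) ≠ 1 → (x i)⁻¹ * x k * ((x i)⁻¹ * x k) ≠ 1 :=
        fun i k h h' => h (by
          have := congrArg (·⁻¹) h'
          simpa [mul_inv_rev, mul_assoc] using this)
      intro i k hik
      fin_cases i <;> fin_cases k
      exacts [absurd rfl hik, hrev _ _ h10, hrev _ _ h20, h10, absurd rfl hik, hrev _ _ h21, h20, h21,
        absurd rfl hik]
    have hge : 3 * Nat.card C ≤ Nat.card R := by
      have := Nat.card_le_card_of_injective (fun p : Fin 3 × C => f (x p.1) * (p.2 : R)) (by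
        rintro ⟨i, c⟩ ⟨k, d⟩ h
        simp only at h
        by_cases hik : i = k
        · subst hik; exact Prod.ext rfl (Subtype.ext (mul_left_cancel h))
        exfalso
        have hmem : f ((x k)⁻¹ * x i) ∈ C := by
          rw [map_mul, map_inv]
          have : (f (x k))⁻¹ * f (x i) = (d : R) * (c : R)⁻¹ := by
            rw [inv_mul_eq_iff_eq_mul, ← mul_assoc, ← h, mul_inv_cancel_right]
          rw [this]
          exact mul_mem d.2 (inv_mem c.2)
        have hsq := CfsgLib.BrauerSuzuki.sq_eq_one_of_central_quat hN (q := (x k)⁻¹ * x i) fun q => hf (by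
          rw [map_mul f q, map_mul f ((x k)⁻¹ * x i) q]; exact Subgroup.mem_centralizer_iff.mp hmem _ ⟨q, rfl⟩)
        exact hD i k hik hsq)
      rwa [Nat.card_prod, Nat.card_eq_fintype_card, Fintype.card_fin] at this
    have := Nat.card_pos (α := C)
    omega
  haveI : Fintype R := Fintype.ofFinite R
  let P := QuaternionGroup N × R
  haveI : Fintype (Subgroup.center P) := Fintype.ofFinite _
  let Z := Subgroup.center P
  letI : CommGroup ↥(Subgroup.center P) :=
    { (inferInstance : Group ↥(Subgroup.center P)) with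
      mul_comm := fun a b => Subtype.ext (Subgroup.mem_center_iff.mp b.2 a) }
  letI : CommGroup ↥(Subgroup.center (QuaternionGroup N)) :=
    { (inferInstance : Group ↥(Subgroup.center (QuaternionGroup N))) with
      mul_comm := fun a b => Subtype.ext (Subgroup.mem_center_iff.mp b.2 a) }
  let U : Finset Z := Finset.univ.filter fun z => ∃ β : MulAut P, β (u, 1) = z
  have hu0U : (⟨(u, 1), hu0⟩ : Z) ∈ U := Finset.mem_filter.2 ⟨Finset.mem_univ _, 1, rfl⟩
  refine ⟨((∏ z ∈ U, z : Z) : P), ?_, ?_, fun β => ?_⟩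
  · intro h
    have h1 : (MonoidHom.fst (QuaternionGroup N) R).comp Z.subtype (∏ z ∈ U, z) = 1 := by
      show ((∏ z ∈ U, z : Z) : P).1 = 1
      rw [h]; rfl
    have hfc : ∀ z : Z, (z : P).1 ∈ Subgroup.center (QuaternionGroup N) := fun z =>
      Subgroup.mem_center_iff.mpr fun q => congrArg Prod.fst (Subgroup.mem_center_iff.mp z.2 (q, 1))
    let p : Z →* Subgroup.center (QuaternionGroup N) :=
      ((MonoidHom.fst (QuaternionGroup N) R).comp Z.subtype).codRestrict _ hfc
    have h2 : p (∏ z ∈ U, z) = 1 := Subtype.ext h1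
    rw [map_prod, Finset.prod_eq_single_of_mem _ hu0U] at h2
    · exact hu1 (congrArg Subtype.val h2)
    · intro z hz hne
      obtain ⟨β, hβ⟩ := (Finset.mem_filter.1 hz).2
      rcases key β with h' | h'
      · exact absurd (Subtype.ext (hβ.symm.trans h')) hne
      · exact Subtype.ext (by show (z : P).1 = 1; rw [← hβ]; exact h')
  · rw [← Subgroup.coe_pow, ← Finset.prod_pow, Finset.prod_eq_one fun z hz => ?_, Subgroup.coe_one]
    obtain ⟨β, hβ⟩ := (Finset.mem_filter.1 hz).2
    exact Subtype.ext (by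
      rw [Subgroup.coe_pow, ← hβ, ← map_pow, Prod.pow_mk, sq, huu, one_pow]
      exact map_one β)
  · have h : Subgroup.centerCongr β (∏ z ∈ U, z) = ∏ z ∈ U, z := by
      rw [map_prod]
      refine Finset.prod_nbij' (fun z => Subgroup.centerCongr β z) (fun z => (Subgroup.centerCongr β).symm z)
        ?_ ?_ ?_ ?_ ?_
      · intro z hz
        obtain ⟨γ, hγ⟩ := (Finset.mem_filter.1 hz).2
        refine Finset.mem_filter.2 ⟨Finset.mem_univ _, β * γ, ?_⟩
        show β (γ (u, 1)) = β (z : P)
        rw [hγ]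
      · intro z hz
        obtain ⟨γ, hγ⟩ := (Finset.mem_filter.1 hz).2
        refine Finset.mem_filter.2 ⟨Finset.mem_univ _, β⁻¹ * γ, ?_⟩
        show β⁻¹ (γ (u, 1)) = β.symm (z : P)
        rw [hγ]; rfl
      · intro z _; exact (Subgroup.centerCongr β).symm_apply_apply z
      · intro z _; exact (Subgroup.centerCongr β).apply_symm_apply z
      · intro z _; rfl
    exact congrArg Subtype.val h


/-- Let G be a finite group whose Sylow 2-subgroup S is an internal direct product Q × R with Q generalized quaternion (of order at least 8) and R a subgroup all of whose involutions are central in R. Then G is not simple. In particular no finite simple group has a Sylow 2-subgroup that is a direct product of one or more generalized quaternion groups. -/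
theorem result {G : Type*} [Group G] [Finite G]
    (S : Sylow 2 G) (Q R : Subgroup G) (hQR : Cfsg.IsInternalDirectProduct Q R (S : Subgroup G))
    (n : ℕ) (hn : 1 ≤ n) (eQ : ↥Q ≃* QuaternionGroup (2 ^ n))
    (hR : ∀ r ∈ R, orderOf r = 2 → ∀ s ∈ R, r * s = s * r) :
    ¬ IsSimpleGroup G := by
  intro hsimple
  classical
  haveI : Fintype G := Fintype.ofFinite G
  haveI := Fact.mk Nat.prime_two
  obtain ⟨hQS, hRS, hc, hinf, hsup⟩ := hQR
  let ψ : ↥Q × ↥R →* G := MonoidHom.noncommCoprod Q.subtype R.subtype fun q r => hc q q.2 r r.2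
  have hψ : Function.Injective ψ := by
    rw [← MonoidHom.ker_eq_bot_iff, eq_bot_iff]
    rintro ⟨q, r⟩ h
    have h1 : (q : G) * (r : G) = 1 := h
    have hq : (q : G) ∈ Q ⊓ R := ⟨q.2, by rw [eq_inv_of_mul_eq_one_left h1]; exact R.inv_mem r.2⟩
    rw [hinf, Subgroup.mem_bot] at hq
    rw [hq, one_mul] at h1
    exact Subgroup.mem_bot.mpr (Prod.ext (Subtype.ext hq) (Subtype.ext h1))
  have hrange : ψ.range = (S : Subgroup G) := by
    apply le_antisymm
    · rintro _ ⟨⟨q, r⟩, rfl⟩; exact (S : Subgroup G).mul_mem (hQS q.2) (hRS r.2)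
    · rw [← hsup]
      refine sup_le (fun q hq => ⟨(⟨q, hq⟩, 1), ?_⟩) fun r hr => ⟨(1, ⟨r, hr⟩), ?_⟩
      · show q * ((1 : ↥R) : G) = q
        rw [OneMemClass.coe_one, mul_one]
      · show ((1 : ↥Q) : G) * r = r
        rw [OneMemClass.coe_one, one_mul]
  let Φ : ↥Q × ↥R ≃* ↥(S : Subgroup G) := (MonoidHom.ofInjective hψ).trans (MulEquiv.subgroupCongr hrange)
  let Ψ : QuaternionGroup (2 ^ n) × ↥R ≃* ↥(S : Subgroup G) := (MulEquiv.prodCongr eQ.symm (MulEquiv.refl ↥R)).trans Φ
  have h2n : 2 ≤ 2 ^ n := by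
    calc (2:ℕ) = 2 ^ 1 := rfl
      _ ≤ 2 ^ n := Nat.pow_le_pow_right two_pos hn
  have hRc : ∀ r : ↥R, orderOf r = 2 → r ∈ Subgroup.center ↥R := fun r hr =>
    Subgroup.mem_center_iff.mpr fun s => Subtype.ext (hR r r.2 (by rw [Subgroup.orderOf_coe, hr]) s s.2).symm
  have hU : ∀ s t : QuaternionGroup (2 ^ n), orderOf s = 2 → orderOf t = 2 → s = t := fun s t hs ht =>
    (CfsgLib.BrauerSuzuki.quat_involution hs).trans (CfsgLib.BrauerSuzuki.quat_involution ht).symm
  obtain ⟨w0, hw1, hw2, hwfix⟩ := exists_fixed_involution h2n ⟨n, rfl⟩ hU hRc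
  set w : ↥(S : Subgroup G) := Ψ w0 with hwdef
  have hwS : orderOf (w : G) = 2 := by
    rw [Subgroup.orderOf_coe, hwdef, MulEquiv.orderOf_eq]
    exact orderOf_eq_prime hw2 hw1
  have hcent : ∀ x : ↥(S : Subgroup G), x * x = 1 → (x : G) ∈ Subgroup.centralizer ((S : Subgroup G) : Set G) := by
    intro x hx
    refine Subgroup.mem_centralizer_iff.mpr fun s hs => ?_
    refine congrArg Subtype.val (?_ : (⟨s, hs⟩ : ↥(S : Subgroup G)) * x = x * ⟨s, hs⟩)
    apply Ψ.symm.injective
    simp only [map_mul]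
    have hx' : Ψ.symm x * Ψ.symm x = 1 := by rw [← map_mul, hx, map_one]
    set p := Ψ.symm x
    refine Prod.ext ?_ ?_
    · have h1 : p.1 * p.1 = 1 := congrArg Prod.fst hx'
      show _ * p.1 = p.1 * _
      by_cases h : p.1 = 1
      · rw [h, one_mul, mul_one]
      · have ho := orderOf_eq_prime (p := 2) (by rw [sq, h1]) h
        exact mul_inv_eq_iff_eq_mul.mp (hU _ _ (show orderOf ((Ψ.symm ⟨s, hs⟩).1 * p.1 * (Ψ.symm ⟨s, hs⟩).1⁻¹) = 2 by
          rw [CfsgLib.BrauerSuzuki.orderOf_conj', ho]) ho)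
    · have h1 : p.2 * p.2 = 1 := congrArg Prod.snd hx'
      show _ * p.2 = p.2 * _
      by_cases h : p.2 = 1
      · rw [h, one_mul, mul_one]
      · exact Subgroup.mem_center_iff.mp (hRc _ (orderOf_eq_prime (by rw [sq, h1]) h)) _
  have hiso : Cfsg.IsIsolatedInvolution (w : G) := by
    refine (CfsgLib.Involution.Isolated.isolated_iff_sylow hwS (P := S) w.2).mpr fun g hg => ?_
    have hww : w * w = 1 := by rw [hwdef, ← map_mul, ← sq, hw2, map_one]
    have hg2 : (⟨_, hg⟩ : ↥(S : Subgroup G)) * ⟨_, hg⟩ = 1 := Subtype.ext (by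
      show g * (w : G) * g⁻¹ * (g * (w : G) * g⁻¹) = 1
      rw [show g * (w : G) * g⁻¹ * (g * (w : G) * g⁻¹) = g * ((w : G) * (w : G)) * g⁻¹ by group,
        show (w : G) * (w : G) = 1 from congrArg Subtype.val hww, mul_one, mul_inv_cancel])
    obtain ⟨m, hm, hm'⟩ := CfsgLib.Fusion.Transfer.burnside_central S (hcent w hww) (hcent _ hg2) ⟨g, rfl⟩
    refine hm'.symm.trans ?_
    let α : MulAut ↥(S : Subgroup G) := (S : Subgroup G).normalizerMonoidHom ⟨m, hm⟩
    have := congrArg Ψ (hwfix ((Ψ.trans α).trans Ψ.symm))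
    simp only [MulEquiv.trans_apply, MulEquiv.apply_symm_apply] at this
    exact congrArg Subtype.val this
  have heven : 2 ∣ Nat.card G := hwS ▸ orderOf_dvd_natCard (w : G)
  have hO : Cfsg.oddCore G = ⊥ := by
    rcases (CfsgLib.Involution.ZStar.oddCore_normal (G := G)).eq_bot_or_eq_top with h | h
    · exact h
    · have := CfsgLib.Involution.ZStar.odd_card_oddCore (G := G)
      rw [h, Subgroup.card_top, Nat.odd_iff] at this
      omega
  have hwc : (w : G) ∈ Subgroup.center G := Subgroup.mem_center_iff.mpr fun g => by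
    have := CfsgLib.Involution.ZStar.starCentral G (w : G) hiso g
    rw [hO, Subgroup.mem_bot, mul_inv_eq_one, mul_inv_eq_iff_eq_mul] at this
    exact this.symm
  rcases (inferInstance : (Subgroup.center G).Normal).eq_bot_or_eq_top with h | h
  · rw [h, Subgroup.mem_bot] at hwc
    rw [hwc, orderOf_one] at hwS
    omega
  · have hall : ∀ p q : QuaternionGroup (2 ^ n), Commute p q := fun p q => by
      have : Commute ((eQ.symm p : ↥Q) : G) ((eQ.symm q : ↥Q) : G) :=
        (Subgroup.mem_center_iff.mp (h ▸ Subgroup.mem_top ((eQ.symm q : ↥Q) : G)) _)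
      have h' : Commute (eQ.symm p) (eQ.symm q) := Subtype.ext this
      simpa using h'.map eQ
    have h4 := CfsgLib.BrauerSuzuki.sq_eq_one_of_central_quat h2n (q := QuaternionGroup.xa 0) fun r => hall r _
    have := orderOf_dvd_of_pow_eq_one (show (QuaternionGroup.xa (0 : ZMod (2 * 2 ^ n))) ^ 2 = 1 by rw [sq]; exact h4)
    rw [QuaternionGroup.orderOf_xa] at this
    norm_num at this

end Cfsg.Agent.S3269
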