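import Cfsg.Statements.S3276
import Mathlib
import Cfsg.Agent.Lib.Characterizations.TwoInvolutions

set_option autoImplicit false
open Cfsg

namespace Cfsg.Agent.S3276

open CfsgLib.Characterizations


/-- Let x and y be commuting, non-conjugate involutions of a finite group G, and suppose that for every involution u commuting with x, each conjugate of y that commutes with u also commutes with y. Then the normal closure of y is a proper, normal, elementary abelian 2-subgroup of G; and if y is the only involution of that normal closure commuting with x, it has order at most 4. -/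
theorem result {G : Type*} [Group G] [Finite G] (x y : G) (hx : orderOf x = 2) (hy : orderOf y = 2)
    (hxy : Commute x y) (hnc : ¬ IsConj x y)
    (hstar : ∀ u : G, orderOf u = 2 → Commute u x → ∀ g : G, Commute (g * y * g⁻¹) u → Commute (g * y * g⁻¹) y) :
    Subgroup.normalClosure ({y} : Set G) ≠ ⊤ ∧ Cfsg.IsElementaryAbelian 2 (Subgroup.normalClosure ({y} : Set G)) ∧
      ((∀ u ∈ Subgroup.normalClosure ({y} : Set G), orderOf u = 2 → Commute u x → u = y) →
        Nat.card ↥(Subgroup.normalClosure ({y} : Set G)) ≤ 4) := by
  have hy2 : y * y = 1 := TwoInvolutions.mul_self_eq_one_of_orderOf hy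
  have hordy : ∀ g : G, orderOf (g * y * g⁻¹) = 2 := by
    intro g
    rw [← hy]
    exact orderOf_injective (MulAut.conj g).toMonoidHom (MulAut.conj g).injective y
  have hall : ∀ g : G, Commute (g * y * g⁻¹) y := by
    intro g
    have hn : ¬ IsConj x (g * y * g⁻¹) := fun h => hnc (h.trans (isConj_iff.mpr ⟨g, rfl⟩).symm)
    obtain ⟨w, hw, hwx, hwy, -⟩ := TwoInvolutions.exists_central_involution_of_not_isConj hx (hordy g) hn
    exact hstar w hw hwx g hwy.symm
  have hNset : ∀ s ∈ Group.conjugatesOfSet ({y} : Set G), ∃ g : G, g * y * g⁻¹ = s := by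
    intro s hs
    obtain ⟨a, ha, hc⟩ := Group.mem_conjugatesOfSet_iff.mp hs
    rw [Set.mem_singleton_iff] at ha; subst ha
    exact isConj_iff.mp hc
  have hpair : ∀ g h : G, Commute (g * y * g⁻¹) (h * y * h⁻¹) := by
    intro g h
    have h1 := (hall (h⁻¹ * g)).map (MulAut.conj h).toMonoidHom
    simpa [mul_assoc] using h1
  have hcomm : IsMulCommutative ↥(Subgroup.normalClosure ({y} : Set G)) := by
    refine ⟨⟨fun a b => Subtype.ext ?_⟩⟩
    have key : Subgroup.normalClosure ({y} : Set G) ≤ Subgroup.centralizer (Group.conjugatesOfSet ({y} : Set G)) := by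
      refine (Subgroup.closure_le _).mpr ?_
      intro s hs
      rw [SetLike.mem_coe, Subgroup.mem_centralizer_iff]
      intro t ht
      obtain ⟨g, rfl⟩ := hNset s hs
      obtain ⟨h, rfl⟩ := hNset t ht
      exact (hpair h g).eq
    have key2 : Subgroup.normalClosure ({y} : Set G) ≤
        Subgroup.centralizer (Subgroup.normalClosure ({y} : Set G) : Set G) := by
      rw [Subgroup.le_centralizer_iff]
      refine (Subgroup.closure_le _).mpr ?_
      intro s hs
      rw [SetLike.mem_coe, Subgroup.mem_centralizer_iff]
      intro t ht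
      exact (Subgroup.mem_centralizer_iff.mp (key ht) s hs).symm
    exact Subgroup.mem_centralizer_iff.mp (key2 b.2) a a.2
  have hsq : ∀ a ∈ Subgroup.normalClosure ({y} : Set G), a ^ 2 = 1 := by
    intro a ha
    haveI := hcomm
    refine Subgroup.closure_induction (k := Group.conjugatesOfSet ({y} : Set G)) (p := fun a _ => a ^ 2 = 1) ?_ (one_pow 2) ?_ ?_ ha
    · intro s hs
      obtain ⟨g, rfl⟩ := hNset s hs
      rw [← hordy g]; exact pow_orderOf_eq_one _
    · intro a b ha hb ha2 hb2
      rw [(show Commute a b from setLike_mul_comm (s := Subgroup.normalClosure ({y} : Set G)) ha hb).mul_pow, ha2, hb2, one_mul]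
    · intro a _ ha2
      rw [inv_pow, ha2, inv_one]
  have hel : Cfsg.IsElementaryAbelian 2 (Subgroup.normalClosure ({y} : Set G)) := ⟨hcomm, hsq⟩
  refine ⟨?_, hel, ?_⟩
  · intro htop
    apply hnc
    have hyc : ∀ g : G, g * y = y * g := fun g => by
      haveI := hcomm
      exact setLike_mul_comm (s := Subgroup.normalClosure ({y} : Set G)) (by rw [htop]; trivial) (by rw [htop]; trivial)
    have hle : Subgroup.normalClosure ({y} : Set G) ≤ Subgroup.zpowers y := by
      haveI : (Subgroup.zpowers y).Normal := ⟨fun a ha g => by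
        obtain ⟨j, rfl⟩ := Subgroup.mem_zpowers_iff.mp ha
        have : Commute g (y ^ j) := Commute.zpow_right (hyc g) j
        rw [this.eq, mul_inv_cancel_right]; exact ha⟩
      exact Subgroup.normalClosure_le_normal (by simp)
    have hxm : x ∈ Subgroup.zpowers y := hle (by rw [htop]; trivial)
    obtain ⟨i, hi⟩ := mem_powers_iff_mem_zpowers.mpr hxm
    have hi' : y ^ (i % 2) = x := by rw [← hy, pow_mod_orderOf]; exact hi
    rcases Nat.mod_two_eq_zero_or_one i with h | h <;> rw [h] at hi'
    · simp at hi'; simp [← hi'] at hx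
    · rw [pow_one] at hi'; rw [hi']
  · intro huniq
    set N := Subgroup.normalClosure ({y} : Set G) with hN
    haveI := hcomm
    haveI : N.Normal := Subgroup.normalClosure_normal
    have hx2 := TwoInvolutions.mul_self_eq_one_of_orderOf hx
    have hxi : x⁻¹ = x := TwoInvolutions.inv_eq_self hx2
    let f : ↥N →* ↥N := MonoidHom.mk' (fun a => a * MulAut.conjNormal x a) (fun a b => by
      have hcm : ∀ s t : ↥N, s * t = t * s := fun s t => Subtype.ext (setLike_mul_comm (s := N) s.2 t.2)
      rw [map_mul, mul_assoc, ← mul_assoc b, hcm b (MulAut.conjNormal x a)]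
      simp only [mul_assoc])
    have hf : ∀ a : ↥N, f a = a * MulAut.conjNormal x a := fun a => rfl
    have hker : ∀ a : ↥N, a * MulAut.conjNormal x a = 1 → a = 1 ∨ (a : G) = y := by
      intro a ha
      by_cases h1 : a = 1
      · exact Or.inl h1
      right
      apply huniq a a.2
      · exact orderOf_eq_prime (hsq a a.2) (fun h => h1 (Subtype.ext h))
      · have h2 : MulAut.conjNormal x a = a := by
          rw [eq_inv_of_mul_eq_one_right ha, eq_comm]
          exact eq_inv_of_mul_eq_one_right (Subtype.ext (by rw [Subgroup.coe_mul, ← sq]; exact hsq a a.2))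
        have h3 := congrArg Subtype.val h2
        rw [MulAut.conjNormal_apply] at h3
        show (a : G) * x = x * a
        conv_lhs => rw [← h3]
        group
    have hfix : ∀ a : ↥N, MulAut.conjNormal x (f a) = f a := by
      intro a
      show MulAut.conjNormal x (a * MulAut.conjNormal x a) = a * MulAut.conjNormal x a
      rw [map_mul, ← MulAut.mul_apply, ← map_mul, hx2, map_one, MulAut.one_apply]
      exact Subtype.ext (setLike_mul_comm (s := N) (Subtype.coe_prop _) a.2)
    have hsmall : ∀ T : Set ↥N, (∀ a ∈ T, a = 1 ∨ (a : G) = y) → T.ncard ≤ 2 := by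
      intro T hT
      by_cases hyN : y ∈ N
      · calc T.ncard ≤ ({1, ⟨y, hyN⟩} : Set ↥N).ncard := Set.ncard_le_ncard (fun a ha => by
              rcases hT a ha with h | h
              · exact Or.inl h
              · exact Or.inr (Subtype.ext h))
          _ ≤ 2 := (Set.ncard_insert_le _ _).trans (by rw [Set.ncard_singleton])
      · exact (hyN (Subgroup.subset_normalClosure (Set.mem_singleton y))).elim
    have h1 : Nat.card f.ker ≤ 2 := by
      rw [← SetLike.coe_sort_coe, Nat.card_coe_set_eq]
      exact (hsmall (f.ker : Set ↥N) (fun a ha => hker a (by rw [← hf a]; exact MonoidHom.mem_ker.mp ha)))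
    have h2 : Nat.card f.range ≤ 2 := by
      rw [← SetLike.coe_sort_coe, Nat.card_coe_set_eq]
      exact (hsmall (f.range : Set ↥N) (fun a ha => by
        obtain ⟨b, rfl⟩ := MonoidHom.mem_range.mp ha
        apply hker
        rw [hfix]
        exact Subtype.ext (by rw [Subgroup.coe_mul, ← sq]; exact hsq _ (f b).2)))
    rw [← Subgroup.card_mul_index f.ker, Subgroup.index_ker]
    calc Nat.card f.ker * Nat.card f.range ≤ 2 * 2 := Nat.mul_le_mul h1 h2
      _ = 4 := rfl

end Cfsg.Agent.S3276
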