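import Cfsg.Statements.S3277
import Cfsg.Agent.S1230
import Cfsg.Agent.S0252
import Cfsg.Agent.S3276

set_option autoImplicit false
open Cfsg

namespace Cfsg.Agent.S3277

/-- Let G be a finite group containing an involution whose centralizer is elementary abelian of order 4. If G has no normal 2-complement and no normal elementary abelian 2-subgroup of order 2 or 4, then G is isomorphic to the alternating group of degree 5 (that is, to PSL(2, 5)). -/
theorem result {G : Type*} [Group G] [Finite G] (x : G) (hx : orderOf x = 2)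
    (hC4 : Nat.card ↥(Subgroup.centralizer ({x} : Set G)) = 4) (hCe : ∀ c ∈ Subgroup.centralizer ({x} : Set G), c ^ 2 = 1)
    (hnc : ¬ Cfsg.HasNormalPComplement 2 G)
    (hne : ∀ E : Subgroup G, E.Normal → Cfsg.IsElementaryAbelian 2 E → Nat.card ↥E ≠ 2 ∧ Nat.card ↥E ≠ 4) :
    Nonempty (G ≃* ↥(alternatingGroup (Fin 5))) := by
  classical
  haveI : Fact (Nat.Prime 2) := ⟨Nat.prime_two⟩
  set V : Subgroup G := Subgroup.centralizer ({x} : Set G) with hV
  have hVsq : ∀ v ∈ V, v * v = 1 := fun v hv => by rw [← pow_two]; exact hCe v hv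
  have hVinv : ∀ v ∈ V, v⁻¹ = v := fun v hv => inv_eq_of_mul_eq_one_right (hVsq v hv)
  have hVab : ∀ u ∈ V, ∀ v ∈ V, u * v = v * u := by
    intro u hu v hv
    calc u * v = (u * v)⁻¹ := (hVinv _ (mul_mem hu hv)).symm
      _ = v * u := by rw [mul_inv_rev, hVinv u hu, hVinv v hv]
  have hx1 : x ≠ 1 := by rintro rfl; simp at hx
  have hxV : x ∈ V := Subgroup.mem_centralizer_singleton_iff.2 rfl
  have hV2 : IsPGroup 2 V := IsPGroup.of_card (n := 2) (by rw [hC4]; rfl)
  have hcover : ∀ a ∈ V, ∀ b ∈ V, a ≠ 1 → b ≠ 1 → a ≠ b → ∀ v ∈ V, v = 1 ∨ v = a ∨ v = b ∨ v = a * b := by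
    intro a ha b hb ha1 hb1 hab v hv
    haveI := Fintype.ofFinite V
    have hab1 : a * b ≠ 1 := fun h => hab (by rw [← inv_eq_of_mul_eq_one_right h, hVinv a ha])
    have hc : ({1, ⟨a, ha⟩, ⟨b, hb⟩, ⟨a * b, mul_mem ha hb⟩} : Finset V).card = 4 :=
      Finset.card_eq_four.2 ⟨_, _, _, _, fun h => ha1 (congrArg Subtype.val h).symm,
        fun h => hb1 (congrArg Subtype.val h).symm, fun h => hab1 (congrArg Subtype.val h).symm,
        fun h => hab (congrArg Subtype.val h),
        fun h => hb1 (by simpa using (congrArg Subtype.val h).symm),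
        fun h => ha1 (by simpa using (congrArg Subtype.val h).symm), rfl⟩
    have he := Finset.eq_univ_of_card _ (hc.trans (by rw [← hC4, Nat.card_eq_fintype_card]))
    have hv' := Finset.mem_univ (⟨v, hv⟩ : V)
    rw [← he] at hv'
    simpa [Subtype.ext_iff] using hv'
  obtain ⟨S, hS⟩ := hV2.exists_le_sylow
  by_cases hS4 : Nat.card (S : Subgroup G) = 4
  · have hSV : (S : Subgroup G) = V := (Subgroup.eq_of_le_of_card_ge hS (by rw [hS4, hC4])).symm
    have hSn : ¬ (S : Subgroup G).Normal := by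
      intro h
      refine (hne V (hSV ▸ h) ⟨⟨⟨fun a b => Subtype.ext (hVab a a.2 b b.2)⟩⟩, hCe⟩).2 hC4
    have hnc4 : ¬ IsCyclic (S : Subgroup G) := by
      rw [hSV]
      intro hcyc
      obtain ⟨g, hg⟩ := IsCyclic.exists_ofOrder_eq_natCard (α := V)
      have : orderOf g ∣ 2 := orderOf_dvd_of_pow_eq_one (Subtype.ext (by simpa using hCe g g.2))
      rw [hg, hC4] at this
      omega
    obtain ⟨n, hn, hnC⟩ : ∃ n ∈ Subgroup.normalizer (V : Set G), n ∉ Subgroup.centralizer (V : Set G) := by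
      by_contra h
      push Not at h
      refine hnc ⟨S, _, inferInstance, MonoidHom.ker_transferSylow_isComplement' S ?_⟩
      change Subgroup.normalizer ((S : Subgroup G) : Set G) ≤ Subgroup.centralizer ((S : Subgroup G) : Set G)
      rw [hSV]
      exact h
    have hnV : n ∉ V := fun h => hnC (Subgroup.mem_centralizer_iff.2 fun v hv => hVab v hv n h)
    have hxn : n * x * n⁻¹ ∈ V := (Subgroup.mem_normalizer_iff.1 hn x).1 hxV
    have hn1 : n * x * n⁻¹ ≠ x := fun h => hnV (Subgroup.mem_centralizer_singleton_iff.2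
      (mul_inv_eq_iff_eq_mul.1 h))
    have hn2 : n * (n * x * n⁻¹) * n⁻¹ ≠ x := by
      intro h
      have hsq : n * n ∈ V := Subgroup.mem_centralizer_singleton_iff.2 (mul_inv_eq_iff_eq_mul.1
        ((show n * n * x * (n * n)⁻¹ = n * (n * x * n⁻¹) * n⁻¹ by group).trans h))
      apply hnV
      have hP : IsPGroup 2 (V ⊔ Subgroup.zpowers n : Subgroup G) :=
        hV2.to_sup_of_normal_left' (IsPGroup.of_card_dvd_pow (n := 2) (by
          rw [Nat.card_zpowers]
          exact orderOf_dvd_of_pow_eq_one (by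
            rw [show (2 : ℕ) ^ 2 = 2 * 2 from rfl, pow_mul, pow_two n, pow_two]
            exact hVsq _ hsq))) (Subgroup.zpowers_le.2 hn)
      have hle := S.3 hP (hSV ▸ le_sup_left)
      exact hSV ▸ hle ▸ Subgroup.mem_sup_right (Subgroup.mem_zpowers n)
    have hn1' : n * x * n⁻¹ ≠ 1 := fun h => hx1 (conj_eq_one_iff.1 h)
    have hall : ∀ v ∈ V, v ≠ 1 → ∃ g : G, g * x * g⁻¹ = v := by
      intro v hv hv1
      rcases hcover x hxV _ hxn hx1 hn1' hn1.symm v hv with h | h | h | h
      · exact absurd h hv1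
      · exact ⟨1, by rw [h]; group⟩
      · exact ⟨n, h.symm⟩
      · refine ⟨n * n, ?_⟩
        rcases hcover x hxV _ hxn hx1 hn1' hn1.symm _
          ((Subgroup.mem_normalizer_iff.1 hn _).1 hxn) with h' | h' | h' | h'
        · exact absurd (conj_eq_one_iff.1 h') hn1'
        · exact absurd h' hn2
        · exact absurd (mul_left_cancel (mul_right_cancel h')) hn1
        · rw [h, ← h']; group
    have helem : ∀ t : G, orderOf t = 2 → IsMulCommutative (Subgroup.centralizer ({t} : Set G)) ∧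
        ∀ c ∈ Subgroup.centralizer ({t} : Set G), c ^ 2 = 1 := by
      intro t ht
      have htP : IsPGroup 2 (Subgroup.zpowers t) := IsPGroup.of_card (n := 1) (by rw [Nat.card_zpowers, ht, pow_one])
      obtain ⟨S', hS'⟩ := htP.exists_le_sylow
      obtain ⟨g, hg⟩ := MulAction.exists_smul_eq G S' S
      have htV : g * t * g⁻¹ ∈ V := by
        rw [← hSV, ← hg, Sylow.coe_subgroup_smul]
        exact ⟨t, hS' (Subgroup.mem_zpowers t), rfl⟩
      obtain ⟨k, hk⟩ := hall _ htV (fun h => by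
        rw [conj_eq_one_iff.1 h, orderOf_one] at ht; omega)
      have hm : ∀ c ∈ Subgroup.centralizer ({t} : Set G), k⁻¹ * g * c * (k⁻¹ * g)⁻¹ ∈ V := by
        intro c hc
        rw [Subgroup.mem_centralizer_singleton_iff] at hc ⊢
        have hxe : x = (k⁻¹ * g) * t * (k⁻¹ * g)⁻¹ := by
          calc x = k⁻¹ * (k * x * k⁻¹) * k := by group
            _ = k⁻¹ * (g * t * g⁻¹) * k := by rw [hk]
            _ = _ := by group
        rw [hxe]
        calc k⁻¹ * g * c * (k⁻¹ * g)⁻¹ * (k⁻¹ * g * t * (k⁻¹ * g)⁻¹)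
            = k⁻¹ * g * (c * t) * (k⁻¹ * g)⁻¹ := by group
          _ = k⁻¹ * g * (t * c) * (k⁻¹ * g)⁻¹ := by rw [hc]
          _ = _ := by group
      refine ⟨⟨⟨fun a b => Subtype.ext ?_⟩⟩, fun c hc => ?_⟩
      · have h1 := hVab _ (hm a a.2) _ (hm b b.2)
        rw [show k⁻¹ * g * a * (k⁻¹ * g)⁻¹ * (k⁻¹ * g * b * (k⁻¹ * g)⁻¹) =
          k⁻¹ * g * ((a : G) * b) * (k⁻¹ * g)⁻¹ by group,
          show k⁻¹ * g * b * (k⁻¹ * g)⁻¹ * (k⁻¹ * g * a * (k⁻¹ * g)⁻¹) =
          k⁻¹ * g * ((b : G) * a) * (k⁻¹ * g)⁻¹ by group] at h1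
        exact mul_left_cancel (mul_right_cancel h1)
      · have h1 := hCe _ (hm c hc)
        rw [conj_pow] at h1
        exact conj_eq_one_iff.1 h1
    obtain ⟨F, hFf, hFt, hFc, ⟨e⟩⟩ := S1230.result S hnc4 hSn helem
    obtain ⟨e'⟩ := S0252.result (F := F) (by rw [hFc, hS4])
    exact ⟨e.trans e'⟩
  -- a larger Sylow subgroup leads to a small normal subgroup
  exfalso
  have hnVS : ¬ (S : Subgroup G) ≤ V := fun h => hS4 (by rw [le_antisymm h hS, hC4])
  haveI : Nontrivial (S : Subgroup G) := (Subgroup.nontrivial_iff_ne_bot _).2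
    fun h => hnVS (h ▸ bot_le)
  haveI := S.isPGroup'.center_nontrivial
  obtain ⟨z₀, hz₀⟩ : ∃ z₀ : Subgroup.center (S : Subgroup G), orderOf z₀ = 2 := by
    refine exists_prime_orderOf_dvd_card' 2 ?_
    obtain ⟨m, hm, he⟩ := ((S.isPGroup'.to_subgroup (Subgroup.center _)).nontrivial_iff_card).mp inferInstance
    exact he ▸ dvd_pow_self 2 (by omega)
  set z : G := ((z₀ : (S : Subgroup G)) : G) with hzdef
  have hz2 : orderOf z = 2 := by rw [hzdef, Subgroup.orderOf_coe, Subgroup.orderOf_coe, hz₀]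
  have hz1 : z ≠ 1 := fun h => by rw [h, orderOf_one] at hz2; omega
  have hzS : ∀ s ∈ (S : Subgroup G), s * z = z * s := fun s hs =>
    congrArg Subtype.val (Subgroup.mem_center_iff.1 z₀.2 ⟨s, hs⟩)
  have hzV : z ∈ V := Subgroup.mem_centralizer_singleton_iff.2 (hzS x (hS hxV)).symm
  have hzx : z ≠ x := fun h => hnVS fun s hs => Subgroup.mem_centralizer_singleton_iff.2 (h ▸ hzS s hs)
  have hxz : x * z = z * x := hVab x hxV z hzV
  have hncj : ¬ IsConj x z := by
    intro h
    obtain ⟨g, hg⟩ := isConj_iff.1 h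
    have hle : (S : Subgroup G).map (MulAut.conj g⁻¹).toMonoidHom ≤ V := by
      rintro _ ⟨s, hs, rfl⟩
      rw [Subgroup.mem_centralizer_singleton_iff]
      show g⁻¹ * s * g⁻¹⁻¹ * x = x * (g⁻¹ * s * g⁻¹⁻¹)
      calc g⁻¹ * s * g⁻¹⁻¹ * x = g⁻¹ * (s * (g * x * g⁻¹)) * g := by group
        _ = g⁻¹ * ((g * x * g⁻¹) * s) * g := by rw [hg, hzS s hs]
        _ = _ := by group
    have h1 := Subgroup.card_le_of_le hle
    have h2 : Nat.card V ≤ Nat.card (S : Subgroup G) := Subgroup.card_le_of_le hS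
    rw [Subgroup.card_map_of_injective (MulAut.conj g⁻¹).injective, hC4] at h1
    rw [hC4] at h2
    omega
  -- an element of `S` moving `x` to `x * z`
  obtain ⟨s, hs, hsV, hsn⟩ : ∃ s ∈ (S : Subgroup G), s ∉ V ∧ s ∈ Subgroup.normalizer (V : Set G) := by
    haveI := S.isPGroup'.isNilpotent
    have hlt : V.subgroupOf (S : Subgroup G) < ⊤ := by
      rw [lt_top_iff_ne_top, Ne, Subgroup.subgroupOf_eq_top]
      exact hnVS
    obtain ⟨s, hs, hsV⟩ := SetLike.exists_of_lt
      (Group.normalizerCondition_of_isNilpotent (V.subgroupOf (S : Subgroup G)) hlt)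
    rw [← Subgroup.subgroupOf_normalizer_eq hS] at hs
    exact ⟨s, s.2, hsV, hs⟩
  have hsx : s * x * s⁻¹ = x * z := by
    rcases hcover x hxV z hzV hx1 hz1 hzx.symm _ ((Subgroup.mem_normalizer_iff.1 hsn x).1 hxV) with h | h | h | h
    · exact absurd (conj_eq_one_iff.1 h) hx1
    · exact absurd (Subgroup.mem_centralizer_singleton_iff.2 (mul_inv_eq_iff_eq_mul.1 h)) hsV
    · exact absurd (mul_left_cancel (mul_right_cancel (h.trans (by rw [hzS s hs, mul_inv_cancel_right])))) hzx.symm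
    · exact h
  have hCxz : ∀ c : G, Commute c (x * z) → c ∈ V := by
    intro c hc
    have h1 : s⁻¹ * c * s ∈ V := by
      rw [Subgroup.mem_centralizer_singleton_iff]
      calc s⁻¹ * c * s * x = s⁻¹ * (c * (s * x * s⁻¹)) * s := by group
        _ = s⁻¹ * ((s * x * s⁻¹) * c) * s := by rw [hsx, hc.eq]
        _ = _ := by group
    have h2 := (Subgroup.mem_normalizer_iff.1 hsn _).1 h1
    rwa [show s * (s⁻¹ * c * s) * s⁻¹ = c by group] at h2
  obtain ⟨-, hel, hcard⟩ := S3276.result x z hx hz2 hxz hncj (fun u hu hux g hgu => by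
    have huV : u ∈ V := Subgroup.mem_centralizer_singleton_iff.2 hux.eq
    rcases hcover x hxV z hzV hx1 hz1 hzx.symm u huV with rfl | rfl | rfl | rfl
    · rw [orderOf_one] at hu; omega
    · exact hVab _ (Subgroup.mem_centralizer_singleton_iff.2 hgu.eq) z hzV
    · exact hgu
    · exact hVab _ (hCxz _ hgu) z hzV)
  set N := Subgroup.normalClosure ({z} : Set G)
  have hzN : z ∈ N := Subgroup.subset_normalClosure rfl
  have hN4 : Nat.card N ≤ 4 := by
    by_cases hxN : x ∈ N
    · rw [← hC4]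
      refine Subgroup.card_le_of_le fun v hv => Subgroup.mem_centralizer_singleton_iff.2 ?_
      haveI := hel.1
      exact setLike_mul_comm hv hxN
    · refine hcard fun u hu hu2 hux => ?_
      rcases hcover x hxV z hzV hx1 hz1 hzx.symm u (Subgroup.mem_centralizer_singleton_iff.2 hux.eq)
        with rfl | rfl | rfl | rfl
      · rw [orderOf_one] at hu2; omega
      · exact absurd hu hxN
      · rfl
      · exact absurd ((N.mul_mem_cancel_right hzN).1 hu) hxN
  have hN2 : IsPGroup 2 N := fun v => ⟨1, Subtype.ext (by simpa using hel.2 v v.2)⟩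
  obtain ⟨j, hj⟩ := IsPGroup.iff_card.1 hN2
  obtain ⟨h2, h4⟩ := hne N inferInstance hel
  rw [hj] at hN4 h2 h4
  rcases j with _ | _ | _ | j
  · apply hz1
    have hb : N = ⊥ := Subgroup.card_eq_one.1 (by simpa using hj)
    rw [hb] at hzN
    exact Subgroup.mem_bot.1 hzN
  · exact h2 (by norm_num)
  · exact h4 (by norm_num)
  · have : (8 : ℕ) ≤ 2 ^ (j + 3) := by
      calc (8 : ℕ) = 2 ^ 3 := rfl
        _ ≤ _ := Nat.pow_le_pow_right (by norm_num) (by omega)
    have h' : (2 : ℕ) ^ (j + 3) ≤ 4 := hN4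
    omega

end Cfsg.Agent.S3277
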