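import Cfsg.Statements.S3279
import Mathlib
import Cfsg.Agent.Lib.Characterizations.TwoInvolutions

set_option autoImplicit false
open Cfsg

namespace Cfsg.Agent.S3279

open CfsgLib.Characterizations

theorem false_of_conjugates_centralize {G : Type*} [Group G] [IsSimpleGroup G]
    (hZ : Subgroup.center G = ⊥) {z a : G} (ha : a ≠ 1) (hz : z ≠ 1)
    (h : ∀ g : G, Commute (g * a * g⁻¹) z) : False := by
  have hle : Subgroup.normalClosure ({a} : Set G) ≤ Subgroup.centralizer ({z} : Set G) := by
    refine (Subgroup.closure_le _).mpr ?_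
    intro s hs
    obtain ⟨b, hb, hc⟩ := Group.mem_conjugatesOfSet_iff.mp hs
    rw [Set.mem_singleton_iff] at hb; subst hb
    obtain ⟨g, rfl⟩ := isConj_iff.mp hc
    exact Subgroup.mem_centralizer_singleton_iff.mpr (h g).eq
  rcases (Subgroup.normalClosure_normal (s := ({a} : Set G))).eq_bot_or_eq_top with h0 | h0
  · exact ha (by
      have : a ∈ Subgroup.normalClosure ({a} : Set G) := Subgroup.subset_normalClosure rfl
      rwa [h0, Subgroup.mem_bot] at this)
  · refine hz (Subgroup.mem_bot.mp (hZ ▸ Subgroup.mem_center_iff.mpr fun g => ?_))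
    have := hle (h0 ▸ Subgroup.mem_top g)
    exact Subgroup.mem_centralizer_singleton_iff.mp this

/-- Three pairwise commuting involutions lie in one Sylow 2-subgroup up to conjugation. -/
theorem exists_conj_mem_sylow {G : Type*} [Group G] [Finite G] (S : Sylow 2 G) {p q : G}
    (hp : orderOf p = 2) (hq : orderOf q = 2) (h : Commute p q) :
    ∃ g : G, g * p * g⁻¹ ∈ (S : Subgroup G) ∧ g * q * g⁻¹ ∈ (S : Subgroup G) := by
  haveI : Fact (Nat.Prime 2) := ⟨Nat.prime_two⟩
  have hP : IsPGroup 2 (Subgroup.zpowers p ⊔ Subgroup.zpowers q : Subgroup G) := by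
    refine IsPGroup.to_sup_of_normal_right' (IsPGroup.of_card (n := 1) (by rw [Nat.card_zpowers, hp, pow_one]))
      (IsPGroup.of_card (n := 1) (by rw [Nat.card_zpowers, hq, pow_one])) ?_
    rw [Subgroup.zpowers_le, Subgroup.mem_normalizer_iff]
    intro a
    constructor
    · intro ha
      obtain ⟨j, rfl⟩ := Subgroup.mem_zpowers_iff.mp ha
      rw [(h.zpow_right j).eq, mul_inv_cancel_right]; exact ha
    · intro ha
      obtain ⟨j, hj⟩ := Subgroup.mem_zpowers_iff.mp ha
      have : a = q ^ j := by
        calc a = p⁻¹ * (p * a * p⁻¹) * p := by group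
          _ = p⁻¹ * q ^ j * p := by rw [hj]
          _ = p⁻¹ * (p * q ^ j) := by rw [mul_assoc, ← (h.zpow_right j).eq]
          _ = q ^ j := by group
      exact this ▸ Subgroup.zpow_mem _ (Subgroup.mem_zpowers q) j
  obtain ⟨T, hT⟩ := hP.exists_le_sylow
  obtain ⟨g, rfl⟩ := MulAction.exists_smul_eq G S T
  refine ⟨g⁻¹, ?_, ?_⟩
  · have := hT (Subgroup.mem_sup_left (Subgroup.mem_zpowers p))
    rw [Sylow.coe_subgroup_smul, Subgroup.mem_pointwise_smul_iff_inv_smul_mem] at this
    simpa using this
  · have := hT (Subgroup.mem_sup_right (Subgroup.mem_zpowers q))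
    rw [Sylow.coe_subgroup_smul, Subgroup.mem_pointwise_smul_iff_inv_smul_mem] at this
    simpa using this

/-- If every other conjugate pair is exclusive, conjugation preserves a bipartition of the class. -/
theorem false_of_bipartite {G : Type*} [Group G] [IsSimpleGroup G] (hZ : Subgroup.center G = ⊥) {a b : G}
    (hab : Commute a b) (hne : a ≠ b) (hconj : IsConj a b)
    (hcover : ∀ g h : G, g * a * g⁻¹ ≠ h * a * h⁻¹ → Commute (g * a * g⁻¹) (h * a * h⁻¹) →
      ∀ k : G, Commute (k * a * k⁻¹) (g * a * g⁻¹) ∨ Commute (k * a * k⁻¹) (h * a * h⁻¹))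
    (htri : ∀ p q r : G, IsConj a p → IsConj a q → IsConj a r → p ≠ q → q ≠ r → p ≠ r →
      Commute p q → Commute q r → Commute p r → False) : False := by
  have hcv : ∀ p q r : G, IsConj a p → IsConj a q → IsConj a r → p ≠ q → Commute p q →
      Commute r p ∨ Commute r q := by
    intro p q r hp hq hr hpq hc
    obtain ⟨g, rfl⟩ := isConj_iff.mp hp
    obtain ⟨h, rfl⟩ := isConj_iff.mp hq
    obtain ⟨k, rfl⟩ := isConj_iff.mp hr
    exact hcover g h hpq hc k
  -- `adj`: distinct and commuting
  let adj : G → G → Prop := fun p q => p ≠ q ∧ Commute p q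
  have hsymm : ∀ p q, adj p q → adj q p := fun p q h => ⟨h.1.symm, h.2.symm⟩
  have hA : ∀ q, IsConj a q → (adj a q ↔ ¬ adj b q) := by
    intro q hq
    constructor
    · intro h1 h2
      exact htri a b q (IsConj.refl a) hconj hq hne h2.1 h1.1 hab h2.2 h1.2
    · intro h
      rcases eq_or_ne a q with rfl | haq
      · exact absurd ⟨hne.symm, hab.symm⟩ h
      rcases eq_or_ne b q with rfl | hbq
      · exact ⟨hne, hab⟩
      rcases hcv a b q (IsConj.refl a) hconj hq hne hab with h1 | h1
      · exact ⟨haq, h1.symm⟩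
      · exact absurd ⟨hbq, h1.symm⟩ h
  -- adjacency means lying on different sides
  have hadj : ∀ p q, IsConj a p → IsConj a q → (adj p q ↔ ¬ (adj a p ↔ adj a q)) := by
    intro p q hp hq
    constructor
    · intro h hiff
      by_cases hap : adj a p
      · exact htri a p q (IsConj.refl a) hp hq hap.1 h.1 (hiff.mp hap).1 hap.2 h.2 (hiff.mp hap).2
      · have hbp : adj b p := by by_contra hh; exact hap ((hA p hp).mpr hh)
        have hbq : adj b q := by by_contra hh; exact hap (hiff.mpr ((hA q hq).mpr hh))
        exact htri b p q hconj hp hq hbp.1 h.1 hbq.1 hbp.2 h.2 hbq.2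
    · intro h
      have key : ∀ p q, IsConj a p → IsConj a q → adj a p → ¬ adj a q → adj p q := by
        intro p q hp hq h1 h2
        rcases eq_or_ne a q with rfl | haq
        · exact hsymm _ _ h1
        have hpq : p ≠ q := fun e => h2 (e ▸ h1)
        rcases hcv a p q (IsConj.refl a) hp hq h1.1 h1.2 with h3 | h3
        · exact absurd ⟨haq, h3.symm⟩ h2
        · exact ⟨hpq, h3.symm⟩
      by_cases hap : adj a p
      · exact key p q hp hq hap (fun h' => h ⟨fun _ => h', fun _ => hap⟩)
      · have : adj a q := by by_contra hh; exact h ⟨fun x => absurd x hap, fun x => absurd x hh⟩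
        exact hsymm _ _ (key q p hq hp this hap)
  have hinv : ∀ g p q, (adj (g * p * g⁻¹) (g * q * g⁻¹) ↔ adj p q) := by
    intro g p q
    refine and_congr (not_congr (by simp)) ⟨fun h => ?_, fun h => ?_⟩
    · have := h.map (MulAut.conj g⁻¹).toMonoidHom; simpa [mul_assoc] using this
    · have := h.map (MulAut.conj g).toMonoidHom; simpa using this
  have hc : ∀ g : G, IsConj a (g * a * g⁻¹) := fun g => isConj_iff.mpr ⟨g, rfl⟩
  have hflip : ∀ g h : G, (adj a (g * h * a * (g * h)⁻¹) ↔ ¬ (adj a (g * a * g⁻¹) ↔ adj a (h * a * h⁻¹))) := by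
    intro g h
    have e : g * h * a * (g * h)⁻¹ = g * (h * a * h⁻¹) * g⁻¹ := by group
    have h1 := hadj _ _ (hc g) (hc (g * h))
    rw [e] at h1 ⊢
    rw [hinv g a (h * a * h⁻¹)] at h1
    tauto
  have hna : ¬ adj a a := fun h => h.1 rfl
  let K : Subgroup G :=
    { carrier := {g | ¬ adj a (g * a * g⁻¹)}
      one_mem' := by simpa using hna
      mul_mem' := fun {g h} hg hh => by
        simp only [Set.mem_setOf_eq] at *
        rw [hflip g h]; tauto
      inv_mem' := fun {g} hg => by
        simp only [Set.mem_setOf_eq] at *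
        have := hflip g g⁻¹
        simp only [mul_inv_cancel, one_mul, inv_one, mul_one, hna, false_iff, not_not] at this
        tauto }
  have hK : K.Normal := ⟨fun g hg h => by
    show ¬ adj a (h * g * h⁻¹ * a * (h * g * h⁻¹)⁻¹)
    have hg' : ¬ adj a (g * a * g⁻¹) := hg
    rw [hflip (h * g) h⁻¹, hflip h g]
    have := hflip h h⁻¹
    simp only [mul_inv_cancel, one_mul, inv_one, mul_one, hna, false_iff, not_not] at this
    tauto⟩
  obtain ⟨g₀, hg₀⟩ := isConj_iff.mp hconj
  have hg₀K : g₀ ∉ K := fun h => h (show adj a (g₀ * a * g₀⁻¹) by rw [hg₀]; exact ⟨hne, hab⟩)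
  rcases hK.eq_bot_or_eq_top with h0 | h0
  · have hsq : ∀ g : G, g * g = 1 := fun g => by
      rw [← Subgroup.mem_bot, ← h0]
      show ¬ adj a (g * g * a * (g * g)⁻¹)
      rw [hflip g g]; tauto
    have : Subgroup.center G = ⊤ := by
      rw [eq_top_iff]; intro g _
      refine Subgroup.mem_center_iff.mpr fun h => ?_
      have hi : ∀ k : G, k⁻¹ = k := fun k => inv_eq_of_mul_eq_one_right (hsq k)
      rw [← hi (g * h), mul_inv_rev, hi, hi]
    exact hg₀K (by
      have : g₀ ∈ Subgroup.center G := this ▸ Subgroup.mem_top _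
      rw [hZ, Subgroup.mem_bot] at this
      rw [this]; exact K.one_mem)
  · exact hg₀K (h0 ▸ Subgroup.mem_top _)


/-- Let G be a finite simple group and x an involution of G whose centralizer contains at most three involutions. Then C_G(x) contains a Sylow 2-subgroup of G, and all involutions of G are conjugate. -/
theorem result {G : Type*} [Group G] [Finite G] [IsSimpleGroup G] (x : G) (hx : orderOf x = 2)
    (h3 : Nat.card {u : ↥(Subgroup.centralizer ({x} : Set G)) // orderOf u = 2} ≤ 3) :
    (∃ S : Sylow 2 G, (S : Subgroup G) ≤ Subgroup.centralizer ({x} : Set G)) ∧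
      ∀ u v : G, orderOf u = 2 → orderOf v = 2 → IsConj u v := by
  haveI : Fact (Nat.Prime 2) := ⟨Nat.prime_two⟩
  have hxne : x ≠ 1 := fun h => by simp [h] at hx
  by_cases hZ : Subgroup.center G = ⊥
  swap
  · have hZ' : Subgroup.center G = ⊤ :=
      (inferInstance : (Subgroup.center G).Normal).eq_bot_or_eq_top.resolve_left hZ
    have hcen : Subgroup.centralizer ({x} : Set G) = ⊤ := by
      rw [eq_top_iff]; intro g _
      rw [Subgroup.mem_centralizer_singleton_iff]
      exact (Subgroup.mem_center_iff.mp (hZ' ▸ Subgroup.mem_top x) g)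
    obtain ⟨S⟩ := (inferInstance : Nonempty (Sylow 2 G))
    refine ⟨⟨S, hcen ▸ le_top⟩, fun u v hu hv => ?_⟩
    have key : ∀ u : G, orderOf u = 2 → u = x := by
      intro u hu
      haveI : (Subgroup.zpowers x).Normal := ⟨fun a ha g => by
        rw [Subgroup.mem_center_iff.mp (hZ' ▸ Subgroup.mem_top a) g, mul_inv_cancel_right]; exact ha⟩
      have htop : Subgroup.zpowers x = ⊤ :=
        (inferInstance : (Subgroup.zpowers x).Normal).eq_bot_or_eq_top.resolve_left (by simp [hxne])
      obtain ⟨i, hi⟩ := mem_powers_iff_mem_zpowers.mpr (htop ▸ Subgroup.mem_top u : u ∈ Subgroup.zpowers x)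
      have hi' : x ^ (i % 2) = u := by rw [← hx, pow_mod_orderOf]; exact hi
      rcases Nat.mod_two_eq_zero_or_one i with h | h <;> rw [h] at hi'
      · simp at hi'; simp [← hi'] at hu
      · rw [pow_one] at hi'; exact hi'.symm
    rw [key u hu, key v hv]
  have conj2 : ∀ (g a : G), orderOf (g * a * g⁻¹) = orderOf a :=
    fun g a => orderOf_injective (MulAut.conj g).toMonoidHom (MulAut.conj g).injective a
  have three : ∀ p q r : G, orderOf p = 2 → orderOf q = 2 → orderOf r = 2 → Commute p x → Commute q x → Commute r x →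
      p ≠ x → q ≠ x → r ≠ x → p = q ∨ p = r ∨ q = r := by
    intro p q r hp hq hr cp cq cr px qx rx
    by_contra! hne
    let T := {u : ↥(Subgroup.centralizer ({x} : Set G)) // orderOf u = 2}
    have mk : ∀ a : G, Commute a x → a ∈ Subgroup.centralizer ({x} : Set G) :=
      fun a h => Subgroup.mem_centralizer_singleton_iff.mpr h.eq
    let v : Fin 4 → G := ![x, p, q, r]
    have hv : ∀ i, Commute (v i) x ∧ orderOf (v i) = 2 := fun i => by fin_cases i <;> simp [v, hx, hp, hq, hr, cp, cq, cr]
    let f : Fin 4 → T := fun i => ⟨⟨v i, mk _ (hv i).1⟩, by rw [Subgroup.orderOf_mk]; exact (hv i).2⟩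
    have hf : Function.Injective f := by
      intro i j h
      have h' : v i = v j := congrArg (fun t : T => (t.1 : G)) h
      have := px.symm; have := qx.symm; have := rx.symm
      have := hne.1.symm; have := hne.2.1.symm; have := hne.2.2.symm
      fin_cases i <;> fin_cases j <;> simp_all [v]
    have := (Nat.card_le_card_of_injective f hf).trans h3
    simp at this
  have mul_inv2 : ∀ p q : G, orderOf p = 2 → orderOf q = 2 → Commute p q → p ≠ q → orderOf (p * q) = 2 := by
    intro p q hp hq hc hne
    refine orderOf_eq_prime ?_ fun h => hne ?_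
    · rw [hc.mul_pow, ← hp, pow_orderOf_eq_one, hp, ← hq, pow_orderOf_eq_one, one_mul]
    · rw [eq_inv_of_mul_eq_one_left h]
      exact TwoInvolutions.inv_eq_self (TwoInvolutions.mul_self_eq_one_of_orderOf hq)
  -- if z is a further involution commuting with x, the involutions of C(x) are x, z, x*z
  have only : ∀ z : G, orderOf z = 2 → Commute z x → z ≠ x → ∀ u : G, orderOf u = 2 → Commute u x →
      u = x ∨ u = z ∨ u = x * z := by
    intro z hz hzx hne u hu hux
    by_contra! h
    have h2 : orderOf (x * z) = 2 := mul_inv2 x z hx hz hzx.symm (Ne.symm hne)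
    have hz1 : z ≠ 1 := fun e => by simp [e] at hz
    rcases three u z (x * z) hu hz h2 hux hzx ((Commute.refl x).mul_left hzx) h.1 hne (by simpa using hz1) with e | e | e
    · exact h.2.1 e
    · exact h.2.2 e
    · exact hxne (by simpa using e.symm)
  have other : ∀ {a : G}, orderOf a = 2 → a ≠ 1 := fun {a} ha e => by simp [e] at ha
  -- first part
  obtain ⟨S, hS⟩ : ∃ S : Sylow 2 G, x ∈ (S : Subgroup G) ∧ True := by
    obtain ⟨S, hS⟩ := (IsPGroup.of_card (p := 2) (n := 1) (G := Subgroup.zpowers x) (by rw [Nat.card_zpowers, hx, pow_one])).exists_le_sylow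
    exact ⟨S, hS (Subgroup.mem_zpowers x), trivial⟩
  have hfirst : ∃ S : Sylow 2 G, (S : Subgroup G) ≤ Subgroup.centralizer ({x} : Set G) := by
    by_contra hno
    haveI : Nontrivial ↥(S : Subgroup G) := ⟨⟨x, hS.1⟩, 1, fun h => hxne (congrArg Subtype.val h)⟩
    haveI := S.2.center_nontrivial
    obtain ⟨⟨z0, hz0⟩, hz2⟩ : ∃ z : ↥(Subgroup.center ↥(S : Subgroup G)), orderOf z = 2 := by
      refine exists_prime_orderOf_dvd_card' 2 ?_
      obtain ⟨n, hn⟩ := (S.2.to_subgroup (Subgroup.center ↥(S : Subgroup G))).exists_card_eq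
      rcases n with _ | n
      · exact absurd hn (by rw [pow_zero]; exact Finite.one_lt_card.ne')
      · exact ⟨2 ^ n, by rw [hn, pow_succ']⟩
    rw [Subgroup.orderOf_mk] at hz2
    set z : G := (z0 : G) with hzdef
    have hz : orderOf z = 2 := by rw [hzdef, Subgroup.orderOf_coe]; exact hz2
    have hcen : ∀ s ∈ (S : Subgroup G), s * z = z * s := fun s hs =>
      congrArg Subtype.val (Subgroup.mem_center_iff.mp hz0 ⟨s, hs⟩)
    have hnc : ¬ IsConj x z := by
      intro hc
      obtain ⟨g, hg⟩ := isConj_iff.mp hc
      refine hno ⟨g⁻¹ • S, fun s hs => ?_⟩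
      rw [Sylow.coe_subgroup_smul, Subgroup.mem_pointwise_smul_iff_inv_smul_mem] at hs
      rw [Subgroup.mem_centralizer_singleton_iff]
      have := hcen _ hs
      simp only [map_inv, inv_inv, MulAut.smul_def, MulAut.conj_apply] at this
      rw [← hg] at this
      have h2 := congrArg (fun t => g⁻¹ * t * g) this
      simpa [mul_assoc] using h2
    have hzx : Commute z x := (hcen x hS.1).symm
    have hne : z ≠ x := fun h => hnc (h ▸ IsConj.refl _)
    have honly := only z hz hzx hne
    -- an element of S moving x to x*z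
    obtain ⟨s, hsz, hs⟩ : ∃ s : G, s * z = z * s ∧ s * x * s⁻¹ = x * z := by
      set C := (Subgroup.centralizer ({x} : Set G)).subgroupOf (S : Subgroup G) with hC
      have hlt : C < ⊤ := by
        rw [lt_top_iff_ne_top, Ne, hC, Subgroup.subgroupOf_eq_top]
        exact fun h => hno ⟨S, h⟩
      haveI : Group.IsNilpotent ↥(S : Subgroup G) := S.2.isNilpotent
      obtain ⟨y, hyN, hyC⟩ := Set.exists_of_ssubset (Group.normalizerCondition_of_isNilpotent _ hlt)
      have hxC : (⟨x, hS.1⟩ : ↥(S : Subgroup G)) ∈ C := Subgroup.mem_centralizer_singleton_iff.mpr rfl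
      have h1 := (Subgroup.mem_normalizer_iff.mp hyN _).mp hxC
      have h2 : (y : G) * x * (y : G)⁻¹ ∈ Subgroup.centralizer ({x} : Set G) := h1
      rw [Subgroup.mem_centralizer_singleton_iff] at h2
      refine ⟨y, hcen y y.2, ?_⟩
      rcases honly _ ((conj2 _ _).trans hx) h2 with e | e | e
      · exact absurd (show y ∈ C from Subgroup.mem_centralizer_singleton_iff.mpr (by
          have := congrArg (fun t => t * (y : G)) e; simpa [mul_assoc] using this)) hyC
      · exact absurd (isConj_iff.mpr ⟨_, e⟩) hnc
      · exact e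
    have hxz : IsConj x (x * z) := isConj_iff.mpr ⟨s, hs⟩
    refine false_of_conjugates_centralize hZ (other hz) (other hz) fun g => ?_
    set u := g * z * g⁻¹ with hu
    have huord : orderOf u = 2 := (conj2 _ _).trans hz
    have hzu : IsConj z u := isConj_iff.mpr ⟨g, rfl⟩
    have hxu : ¬ IsConj x u := fun h => hnc (h.trans hzu.symm)
    obtain ⟨w, hw, hwx, hwu, -⟩ := TwoInvolutions.exists_central_involution_of_not_isConj hx huord hxu
    rcases honly w hw hwx with e | e | e
    · rw [e] at hwu
      rcases honly u huord hwu.symm with e | e | e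
      · exact absurd (e ▸ IsConj.refl x) hxu
      · rw [e]
      · exact absurd (e ▸ hxz) hxu
    · rw [e] at hwu; exact hwu.symm
    · rw [e] at hwu
      have h1 : orderOf (s⁻¹ * u * s) = 2 := by have := conj2 s⁻¹ u; rw [inv_inv] at this; rw [this, huord]
      have h2 : Commute (s⁻¹ * u * s) x := by
        have h3 := hwu.symm.map (MulAut.conj s⁻¹).toMonoidHom
        rw [← hs] at h3
        simpa [mul_assoc] using h3
      have hc' : IsConj u (s⁻¹ * u * s) := isConj_iff.mpr ⟨s⁻¹, by rw [inv_inv]⟩
      rcases honly _ h1 h2 with e | e | e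
      · exact absurd ((e ▸ hc').symm) hxu
      · have h4 := congrArg (fun t => s * t * s⁻¹) e
        simp only [← mul_assoc, mul_inv_cancel, one_mul, mul_inv_cancel_right] at h4
        rw [h4, hsz, mul_inv_cancel_right]
      · exact absurd ((hc'.trans ((e ▸ hxz.symm : IsConj (s⁻¹ * u * s) x))).symm) hxu
  refine ⟨hfirst, ?_⟩
  obtain ⟨S, hSC⟩ := hfirst
  have hxS : x ∈ (S : Subgroup G) := by
    have : IsPGroup 2 (Subgroup.zpowers x ⊔ (S : Subgroup G) : Subgroup G) := by
      refine IsPGroup.to_sup_of_normal_left' (IsPGroup.of_card (n := 1) (by rw [Nat.card_zpowers, hx, pow_one])) S.2 ?_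
      intro s hs
      have hc : Commute s x := Subgroup.mem_centralizer_singleton_iff.mp (hSC hs)
      rw [Subgroup.mem_normalizer_iff]
      intro a
      constructor
      · intro ha
        obtain ⟨j, rfl⟩ := Subgroup.mem_zpowers_iff.mp ha
        rw [(hc.zpow_right j).eq, mul_inv_cancel_right]; exact ha
      · intro ha
        obtain ⟨j, hj⟩ := Subgroup.mem_zpowers_iff.mp ha
        have : a = x ^ j := by
          calc a = s⁻¹ * (s * a * s⁻¹) * s := by group
            _ = s⁻¹ * x ^ j * s := by rw [hj]
            _ = s⁻¹ * (s * x ^ j) := by rw [mul_assoc, ← (hc.zpow_right j).eq]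
            _ = x ^ j := by group
        exact this ▸ Subgroup.zpow_mem _ (Subgroup.mem_zpowers x) j
    have h := S.3 this le_sup_right
    exact h ▸ Subgroup.mem_sup_left (Subgroup.mem_zpowers x)
  have hScx : ∀ s ∈ (S : Subgroup G), Commute s x := fun s hs => Subgroup.mem_centralizer_singleton_iff.mp (hSC hs)
  suffices h : ∀ u : G, orderOf u = 2 → IsConj x u from fun u v hu hv => (h u hu).symm.trans (h v hv)
  have into : ∀ u : G, orderOf u = 2 → ∃ g : G, g * u * g⁻¹ ∈ (S : Subgroup G) := fun u hu =>
    (exists_conj_mem_sylow S hu hu (Commute.refl u)).imp fun g h => h.1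
  by_contra hnot
  push_neg at hnot
  obtain ⟨u0, hu0, hu0x⟩ := hnot
  obtain ⟨g0, hg0⟩ := into u0 hu0
  set a := g0 * u0 * g0⁻¹ with ha'
  have ha : orderOf a = 2 := (conj2 _ _).trans hu0
  have hax : ¬ IsConj x a := fun h => hu0x (h.trans (isConj_iff.mpr ⟨g0, rfl⟩).symm)
  have hne : a ≠ x := fun h => hax (h ▸ IsConj.refl _)
  have hcax : Commute a x := hScx a hg0
  have honly := only a ha hcax hne
  set b := x * a with hb'
  have hb : orderOf b = 2 := mul_inv2 x a hx ha hcax.symm (Ne.symm hne)
  have hcbx : Commute b x := (Commute.refl x).mul_left hcax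
  have hbS : b ∈ (S : Subgroup G) := mul_mem hxS hg0
  have honlyS : ∀ s ∈ (S : Subgroup G), orderOf s = 2 → s = x ∨ s = a ∨ s = b := fun s hs h2 => honly s h2 (hScx s hs)
  have hab : Commute a b := hcax.mul_right (Commute.refl a)
  have hane : a ≠ b := fun h => hxne (by simpa [hb'] using h.symm)
  by_cases hxb : IsConj x b
  · -- b is conjugate to x
    obtain ⟨k, hk⟩ := isConj_iff.mp hxb
    refine false_of_conjugates_centralize hZ (other ha) (other ha) fun g => ?_
    set u := g * a * g⁻¹ with hu
    have huord : orderOf u = 2 := (conj2 _ _).trans ha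
    have hxu : ¬ IsConj x u := fun h => hax (h.trans (isConj_iff.mpr ⟨g, rfl⟩).symm)
    obtain ⟨w, hw, hwx, hwu, -⟩ := TwoInvolutions.exists_central_involution_of_not_isConj hx huord hxu
    have finish : ∀ (k : G) (y : G), k * x * k⁻¹ = y → Commute u y → Commute a y → Commute x y → Commute u a := by
      intro k y hy h1 h2 h4
      -- the three involutions commuting with y include x, a and u
      have down : ∀ t : G, Commute t y → Commute (k⁻¹ * t * k) x := fun t ht => by
        have h5 := ht.map (MulAut.conj k⁻¹).toMonoidHom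
        rw [← hy] at h5
        simpa [mul_assoc] using h5
      have ord : ∀ t : G, orderOf t = 2 → orderOf (k⁻¹ * t * k) = 2 := fun t ht => by
        have h5 := conj2 k⁻¹ t; rw [inv_inv] at h5; rw [h5, ht]
      have inj : ∀ s t : G, k⁻¹ * s * k = k⁻¹ * t * k → s = t := fun s t h => by simpa using h
      have hxy : ∀ t : G, orderOf t = 2 → ¬ IsConj x t → k⁻¹ * t * k ≠ x := fun t ht hn h => hn
        (isConj_iff.mpr ⟨k, by rw [← h]; group⟩)
      by_contra huc
      have hua : u ≠ a := fun h => huc (h ▸ Commute.refl _)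
      by_cases hyx : y = x
      · rw [hyx] at h1
        rcases honly u huord h1 with e | e | e
        · exact hxu (e ▸ IsConj.refl x)
        · exact hua e
        · exact hxu (by rw [e]; exact hxb)
      rcases three _ _ _ (ord u huord) (ord a ha) (ord x hx) (down u h1) (down a h2) (down x h4)
        (hxy u huord hxu) (hxy a ha hax) (fun h => hyx (by rw [← hy]; nth_rewrite 1 [← h]; group)) with e | e | e
      · exact hua (inj _ _ e)
      · exact hxu ((inj _ _ e).symm ▸ IsConj.refl _)
      · exact hne (inj _ _ e)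
    rcases honly w hw hwx with e | e | e
    · exact finish 1 x (by simp) (e ▸ hwu.symm) hcax (Commute.refl x)
    · exact e ▸ hwu.symm
    · exact finish k b hk (e ▸ hwu.symm) hab hcbx.symm
  · have noclass : ∀ s ∈ (S : Subgroup G), ∀ c : G, orderOf c = 2 → IsConj c s → (IsConj x c) ∨ (s = a ∧ IsConj c a) ∨ (s = b ∧ IsConj c b) := by
      intro s hs c hc hcs
      have : orderOf s = 2 := by obtain ⟨k, rfl⟩ := isConj_iff.mp hcs; exact (conj2 _ _).trans hc
      rcases honlyS s hs this with e | e | e
      · exact Or.inl (e ▸ hcs).symm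
      · exact Or.inr (Or.inl ⟨e, e ▸ hcs⟩)
      · exact Or.inr (Or.inr ⟨e, e ▸ hcs⟩)
    have notx : ∀ p : G, IsConj a p → ¬ IsConj x p := fun p hp h => hax (h.trans hp.symm)
    have ordp : ∀ p : G, IsConj a p → orderOf p = 2 := fun p hp => by
      obtain ⟨k, rfl⟩ := isConj_iff.mp hp; exact (conj2 _ _).trans ha
    by_cases hab' : IsConj a b
    · -- the bipartite case
      have tri : ∀ p q r : G, IsConj a p → IsConj a q → IsConj a r → p ≠ q → q ≠ r → p ≠ r →
          Commute p q → Commute q r → Commute p r → False := by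
        intro p q r hp hq hr hpq hqr hpr cpq cqr cpr
        have hPN : IsPGroup 2 ↥(Subgroup.closure ({p, q, r} : Set G)) := by
          have hcm : IsMulCommutative ↥(Subgroup.closure ({p, q, r} : Set G)) :=
            Subgroup.isMulCommutative_closure (by
              intro s hs t ht
              simp only [Set.mem_insert_iff, Set.mem_singleton_iff] at hs ht
              rcases hs with rfl | rfl | rfl <;> rcases ht with rfl | rfl | rfl <;>
                first | rfl | exact cpq.eq | exact cqr.eq | exact cpr.eq | exact cpq.symm.eq | exact cqr.symm.eq | exact cpr.symm.eq)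
          intro t
          refine ⟨1, Subtype.ext ?_⟩
          rw [Subgroup.coe_pow, pow_one, Subgroup.coe_one]
          refine Subgroup.closure_induction (p := fun t _ => t ^ 2 = 1) ?_ (one_pow 2) ?_ ?_ t.2
          · intro s hs
            simp only [Set.mem_insert_iff, Set.mem_singleton_iff] at hs
            rcases hs with rfl | rfl | rfl
            · rw [← ordp _ hp]; exact pow_orderOf_eq_one _
            · rw [← ordp _ hq]; exact pow_orderOf_eq_one _
            · rw [← ordp _ hr]; exact pow_orderOf_eq_one _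
          · intro s t hs ht hs2 ht2
            haveI := hcm
            rw [(show Commute s t from setLike_mul_comm (s := Subgroup.closure ({p, q, r} : Set G)) hs ht).mul_pow, hs2, ht2, one_mul]
          · intro s _ hs2; rw [inv_pow, hs2, inv_one]
        obtain ⟨T, hT⟩ := hPN.exists_le_sylow
        obtain ⟨g, rfl⟩ := MulAction.exists_smul_eq G S T
        have hin : ∀ t, t ∈ ({p, q, r} : Set G) → g⁻¹ * t * g ∈ (S : Subgroup G) := by
          intro t ht
          have := hT (Subgroup.subset_closure ht)
          rw [Sylow.coe_subgroup_smul, Subgroup.mem_pointwise_smul_iff_inv_smul_mem] at this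
          simpa using this
        have cls : ∀ t, t ∈ ({p, q, r} : Set G) → IsConj a t → g⁻¹ * t * g = a ∨ g⁻¹ * t * g = b := by
          intro t ht hta
          have hc : IsConj t (g⁻¹ * t * g) := isConj_iff.mpr ⟨g⁻¹, by rw [inv_inv]⟩
          rcases noclass _ (hin t ht) t (ordp t hta) hc with e | ⟨e, -⟩ | ⟨e, -⟩
          · exact absurd e (notx t hta)
          · exact Or.inl e
          · exact Or.inr e
        rcases cls p (by simp) hp with e1 | e1 <;> rcases cls q (by simp) hq with e2 | e2 <;>
          rcases cls r (by simp) hr with e3 | e3 <;>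
          first
            | exact hpq (by simpa using e1.trans e2.symm)
            | exact hqr (by simpa using e2.trans e3.symm)
            | exact hpr (by simpa using e1.trans e3.symm)
      refine false_of_bipartite hZ hab hane hab' (fun g h hgh hc k => ?_) tri
      -- conjugate the pair into S
      have hp : IsConj a (g * a * g⁻¹) := isConj_iff.mpr ⟨g, rfl⟩
      have hq : IsConj a (h * a * h⁻¹) := isConj_iff.mpr ⟨h, rfl⟩
      obtain ⟨c, hcp, hcq⟩ := exists_conj_mem_sylow S (ordp _ hp) (ordp _ hq) hc
      have hcp' : IsConj (g * a * g⁻¹) (c * (g * a * g⁻¹) * c⁻¹) := isConj_iff.mpr ⟨c, rfl⟩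
      have hcq' : IsConj (h * a * h⁻¹) (c * (h * a * h⁻¹) * c⁻¹) := isConj_iff.mpr ⟨c, rfl⟩
      set u := c * (k * a * k⁻¹) * c⁻¹ with hu
      have huc : IsConj a u := isConj_iff.mpr ⟨c * k, by rw [hu]; group⟩
      have key : Commute u a ∨ Commute u b := by
        obtain ⟨w, hw, hwx, hwu, -⟩ :=
          TwoInvolutions.exists_central_involution_of_not_isConj hx (ordp u huc) (notx u huc)
        rcases honly w hw hwx with e | e | e
        · rw [e] at hwu
          rcases honly u (ordp u huc) hwu.symm with e | e | e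
          · exact absurd (e ▸ IsConj.refl x) (notx u huc)
          · exact Or.inl (e ▸ Commute.refl _)
          · exact Or.inr (e ▸ Commute.refl _)
        · exact Or.inl (e ▸ hwu.symm)
        · exact Or.inr (e ▸ hwu.symm)
      have back : ∀ t, Commute u (c * t * c⁻¹) → Commute (k * a * k⁻¹) t := by
        intro t ht
        have := ht.map (MulAut.conj c⁻¹).toMonoidHom
        rw [hu] at this
        simpa [mul_assoc] using this
      rcases noclass _ hcp _ (ordp _ hp) hcp' with e | ⟨e, -⟩ | ⟨e, -⟩
      · exact absurd e (notx _ hp)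
      all_goals
        rcases noclass _ hcq _ (ordp _ hq) hcq' with e' | ⟨e', -⟩ | ⟨e', -⟩
        · exact absurd e' (notx _ hq)
      · exact absurd (by simpa using e.trans e'.symm) hgh
      · rcases key with h1 | h1
        · exact Or.inl (back _ (by rw [e]; exact h1))
        · exact Or.inr (back _ (by rw [e']; exact h1))
      · rcases key with h1 | h1
        · exact Or.inr (back _ (by rw [e']; exact h1))
        · exact Or.inl (back _ (by rw [e]; exact h1))
      · exact absurd (by simpa using e.trans e'.symm) hgh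
    · -- three classes
      refine false_of_conjugates_centralize hZ (other ha) (other hb) fun g => ?_
      set u := g * a * g⁻¹ with hu
      have huc : IsConj a u := isConj_iff.mpr ⟨g, rfl⟩
      obtain ⟨w, hw, hwx, hwu, -⟩ :=
        TwoInvolutions.exists_central_involution_of_not_isConj hx (ordp u huc) (notx u huc)
      rcases honly w hw hwx with e | e | e
      · rw [e] at hwu
        rcases honly u (ordp u huc) hwu.symm with e | e | e
        · exact absurd (e ▸ IsConj.refl x) (notx u huc)
        · exact e ▸ hab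
        · exact e ▸ Commute.refl _
      · rw [e] at hwu
        obtain ⟨c, hcu, hca⟩ := exists_conj_mem_sylow S (ordp u huc) ha hwu.symm
        have h1 := noclass _ hcu _ (ordp u huc) (isConj_iff.mpr ⟨c, rfl⟩)
        have h2 := noclass _ hca _ ha (isConj_iff.mpr ⟨c, rfl⟩)
        rcases h1 with h1 | ⟨h1, -⟩ | ⟨-, h1⟩
        · exact absurd h1 (notx u huc)
        · rcases h2 with h2 | ⟨h2, -⟩ | ⟨-, h2⟩
          · exact absurd h2 hax
          · have : u = a := by simpa using h1.trans h2.symm
            rw [this]; exact hab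
          · exact absurd h2 hab'
        · exact absurd (huc.trans h1) hab'
      · exact e ▸ hwu.symm

end Cfsg.Agent.S3279
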