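import Cfsg.Statements.S3283
import Cfsg.Agent.Lib.Characterizations.ExtraNine.Apply

set_option autoImplicit false
open Cfsg

namespace Cfsg.Agent.S3283

/-- Let G be a finite group with an involution z whose centralizer M has Q = O₂(M) extraspecial of order 2⁹ with C_M(Q) ≤ Q, and M/Q isomorphic to S₃ × A₆ or to S₃ × S₆. Then G is not simple. -/
theorem result {G : Type*} [Group G] [Finite G] (z : G) (hz : orderOf z = 2)
    (hQ : Cfsg.IsExtraspecial 2 ↥(Cfsg.pCore 2 ↥(Subgroup.centralizer ({z} : Set G)))) (hQ9 : Nat.card ↥(Cfsg.pCore 2 ↥(Subgroup.centralizer ({z} : Set G))) = 2 ^ 9)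
    (hCQ : Subgroup.centralizer ((Cfsg.pCore 2 ↥(Subgroup.centralizer ({z} : Set G))) : Set ↥(Subgroup.centralizer ({z} : Set G))) ≤ Cfsg.pCore 2 ↥(Subgroup.centralizer ({z} : Set G)))
    (hMQ : Nonempty (↥(Subgroup.centralizer ({z} : Set G)) ⧸ Cfsg.pCore 2 ↥(Subgroup.centralizer ({z} : Set G)) ≃* (Equiv.Perm (Fin 3) × ↥(alternatingGroup (Fin 6)))) ∨
      Nonempty (↥(Subgroup.centralizer ({z} : Set G)) ⧸ Cfsg.pCore 2 ↥(Subgroup.centralizer ({z} : Set G)) ≃* (Equiv.Perm (Fin 3) × Equiv.Perm (Fin 6)))) :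
    ¬ IsSimpleGroup G := by
  intro hs
  rcases hMQ with ⟨⟨e⟩⟩ | ⟨⟨e⟩⟩
  · let φ := (((MonoidHom.id (Equiv.Perm (Fin 3))).prodMap (alternatingGroup (Fin 6)).subtype).comp e.toMonoidHom).comp
      (QuotientGroup.mk' (Cfsg.pCore 2 ↥(Subgroup.centralizer ({z} : Set G))))
    refine CfsgLib.Characterizations.ExtraNine.not_simple z hz hQ hQ9 hCQ φ ?_ ?_ ?_ hs
    · ext x
      rw [MonoidHom.mem_ker, ← QuotientGroup.eq_one_iff x, ← e.map_eq_one_iff]
      show Prod.map id Subtype.val (e (QuotientGroup.mk' _ x)) = (1 : Equiv.Perm (Fin 3) × Equiv.Perm (Fin 6)) ↔ e (QuotientGroup.mk' _ x) = 1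
      simp [Prod.ext_iff]
      rw [← QuotientGroup.eq_one_iff x, ← e.map_eq_one_iff]
      exact ⟨fun h => Prod.ext h.1 h.2, fun h => by rw [h]; exact ⟨rfl, rfl⟩⟩
    · intro g _ h2
      obtain ⟨x, hx⟩ := QuotientGroup.mk'_surjective _ (e.symm (g.1, ⟨g.2, Equiv.Perm.mem_alternatingGroup.2 h2⟩))
      refine ⟨x, ?_⟩
      show Prod.map id Subtype.val (e (QuotientGroup.mk' _ x)) = g
      rw [hx, e.apply_symm_apply]
      rfl
    · obtain ⟨x, hx⟩ := QuotientGroup.mk'_surjective _ (e.symm (Equiv.swap 0 1, 1))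
      refine ⟨(Equiv.swap 0 1, 1), ⟨x, ?_⟩, ?_⟩
      · show Prod.map id Subtype.val (e (QuotientGroup.mk' _ x)) = _
        rw [hx, e.apply_symm_apply]
        rfl
      exact Equiv.Perm.sign_swap (by decide)
  · let φ := e.toMonoidHom.comp (QuotientGroup.mk' (Cfsg.pCore 2 ↥(Subgroup.centralizer ({z} : Set G))))
    have hsurj : Function.Surjective φ := e.surjective.comp (QuotientGroup.mk'_surjective _)
    refine CfsgLib.Characterizations.ExtraNine.not_simple z hz hQ hQ9 hCQ φ ?_ (fun g _ _ => hsurj g)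
      ⟨(Equiv.swap 0 1, 1), hsurj _, Equiv.Perm.sign_swap (by decide)⟩ hs
    ext x
    rw [MonoidHom.mem_ker, ← QuotientGroup.eq_one_iff x, ← e.map_eq_one_iff]
    rfl

end Cfsg.Agent.S3283
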