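import Cfsg.Statements.S3284
import Cfsg.Agent.Lib.Characterizations.ExtraNine.Apply

set_option autoImplicit false
open Cfsg

namespace Cfsg.Agent.S3284

/-- There is no non-abelian finite simple group with an involution z whose centralizer M has generalized Fitting subgroup Q = F*(M) extraspecial of order 2⁹ and M/Q isomorphic to the subgroup of S₃ × S₆ consisting of the pairs of permutations with equal sign (a group (3 × A₆)·2 in which an involution outside 3 × A₆ induces S₃ on the first factor and S₆ on the second). -/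
theorem result {G : Type*} [Group G] [Finite G] [IsSimpleGroup G] (hG : ¬ IsMulCommutative G) (z : G) (hz : orderOf z = 2)
    [hn : (Cfsg.generalizedFittingSubgroup ↥(Subgroup.centralizer ({z} : Set G))).Normal]
    (hQ : Cfsg.IsExtraspecial 2 ↥(Cfsg.generalizedFittingSubgroup ↥(Subgroup.centralizer ({z} : Set G)))) (hQ9 : Nat.card ↥(Cfsg.generalizedFittingSubgroup ↥(Subgroup.centralizer ({z} : Set G))) = 2 ^ 9)
    (e : (↥(Subgroup.centralizer ({z} : Set G)) ⧸ Cfsg.generalizedFittingSubgroup ↥(Subgroup.centralizer ({z} : Set G))) ≃*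
      ↥(MonoidHom.ker (Equiv.Perm.sign.comp (MonoidHom.fst (Equiv.Perm (Fin 3)) (Equiv.Perm (Fin 6))) *
          Equiv.Perm.sign.comp (MonoidHom.snd (Equiv.Perm (Fin 3)) (Equiv.Perm (Fin 6)))))) :
    False := by
  have hF : Cfsg.pCore 2 ↥(Subgroup.centralizer ({z} : Set G)) =
      Cfsg.generalizedFittingSubgroup ↥(Subgroup.centralizer ({z} : Set G)) := by
    refine le_antisymm (fun x hx => ?_) (CfsgLib.Solvable.Cores.le_pCore hQ.1.1)
    have hsurj : Function.Surjective (e.toMonoidHom.comp (QuotientGroup.mk'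
        (Cfsg.generalizedFittingSubgroup ↥(Subgroup.centralizer ({z} : Set G))))) :=
      e.surjective.comp (QuotientGroup.mk'_surjective _)
    haveI := Subgroup.Normal.map (inferInstance : (Cfsg.pCore 2 ↥(Subgroup.centralizer ({z} : Set G))).Normal) _ hsurj
    have hb := CfsgLib.Characterizations.ExtraNine.evenPart_core
      ((CfsgLib.Solvable.Cores.isPGroup_pCore (p := 2) (G := ↥(Subgroup.centralizer ({z} : Set G)))).map
        (e.toMonoidHom.comp (QuotientGroup.mk' (Cfsg.generalizedFittingSubgroup ↥(Subgroup.centralizer ({z} : Set G))))))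
    have h1 := (Subgroup.map_eq_bot_iff _).1 hb hx
    rw [MonoidHom.mem_ker] at h1
    exact (QuotientGroup.eq_one_iff x).1 (e.map_eq_one_iff.1 h1)
  let φ := (Subgroup.subtype _).comp (e.toMonoidHom.comp
    (QuotientGroup.mk' (Cfsg.generalizedFittingSubgroup ↥(Subgroup.centralizer ({z} : Set G)))))
  have hsurj : ∀ g, g ∈ CfsgLib.Characterizations.ExtraNine.evenPart → g ∈ φ.range := fun g hg => by
    obtain ⟨x, hx⟩ := (e.surjective.comp (QuotientGroup.mk'_surjective _)) ⟨g, hg⟩
    exact ⟨x, congrArg Subtype.val hx⟩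
  refine CfsgLib.Characterizations.ExtraNine.not_simple z hz (hF ▸ hQ) (hF ▸ hQ9) ?_ φ ?_
    (fun g h1 h2 => hsurj g (CfsgLib.Characterizations.ExtraNine.mem_evenPart.2 (by rw [h1, h2, one_mul])))
    ⟨(Equiv.swap 0 1, Equiv.swap 0 1), hsurj _ (CfsgLib.Characterizations.ExtraNine.mem_evenPart.2 (by decide +kernel)),
      Equiv.Perm.sign_swap (by decide)⟩ inferInstance
  · rw [hF]; exact CfsgLib.Components.centralizer_generalizedFitting_le
  · rw [hF]
    ext x
    rw [MonoidHom.mem_ker, ← QuotientGroup.eq_one_iff x, ← e.map_eq_one_iff]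
    exact ⟨fun h => Subtype.ext h, fun h => congrArg Subtype.val h⟩

end Cfsg.Agent.S3284
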