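import Cfsg.Statements.S3285
import Cfsg.Agent.Lib.Involution.TwoTimesAlt.Four
import Cfsg.Agent.Lib.Involution.TwoTimesAlt.Five

set_option autoImplicit false
open Cfsg

namespace Cfsg.Agent.S3285

/-- Let G be a finite non-solvable group with no normal subgroup of index 2, and J an involution lying in the centre of a Sylow 2-subgroup of G whose centralizer is the internal direct product of ⟨J⟩ with a subgroup isomorphic to the alternating group of degree m. Then either m = 4 and G is isomorphic to the automorphism group PΓL(2, 8) of PSL(2, 8), or m = 5 and G is isomorphic to the first Janko group. -/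
theorem result {G : Type*} [Group G] [Finite G] (hns : ¬ Group.IsSolvable G) (h2 : ∀ N : Subgroup G, N.Normal → N.index ≠ 2)
    (J : G) (hJ : Cfsg.IsTwoCentralInvolution J) (m : ℕ) (T : Subgroup G)
    (hT : Nonempty (↥T ≃* ↥(alternatingGroup (Fin m))))
    (hd : Cfsg.IsInternalDirectProduct (Subgroup.zpowers J) T (Subgroup.centralizer ({J} : Set G))) :
    (m = 4 ∧ ∃ (F : Type) (_ : Field F) (_ : Fintype F), Fintype.card F = 8 ∧
        Nonempty (G ≃* MulAut (Matrix.ProjectiveSpecialLinearGroup (Fin 2) F))) ∨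
      (m = 5 ∧ Cfsg.Spor.IsoJ1 G) := by
  obtain ⟨e⟩ := hT
  have hcen := CfsgLib.Involution.TwoTimesAlt.Cen.of_product hJ.1 hd
  obtain ⟨g, hg⟩ := hcen.exists_conj hJ h2
  have hJ' := hJ
  obtain ⟨-, P, hJP, hPc⟩ := hJ
  have hPC : (P : Subgroup G) ≤ Subgroup.centralizer ({J} : Set G) := fun x hx =>
    Subgroup.mem_centralizer_singleton_iff.2 (hPc x hx)
  rcases le_or_gt m 3 with h3 | h3
  · exact (hcen.false_of_small e h3 hg).elim
  rcases le_or_gt 6 m with h6 | h6
  · exact (hcen.false_of_six e h6 hg).elim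
  obtain rfl | rfl : m = 4 ∨ m = 5 := by omega
  · exact Or.inl ⟨rfl, CfsgLib.Involution.TwoTimesAlt.autPSL (P := P) (J := J) (T := T)
      ⟨hcen, ⟨e⟩, CfsgLib.Involution.TwoTimesAlt.smallAlt_four, hJP, hPC, h2, hns⟩⟩
  · exact Or.inr ⟨rfl, CfsgLib.Involution.TwoTimesAlt.isoJ1 (P := P) (J := J) (T := T)
      ⟨hcen, ⟨e⟩, CfsgLib.Involution.TwoTimesAlt.smallAlt_five, hJP, hPC, h2, hns⟩ hJ'⟩

end Cfsg.Agent.S3285
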