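import Cfsg.Statements.S3294
import Mathlib
import Cfsg.Agent.Lib.Fusion.Basic
import Cfsg.Agent.Lib.Solvable.Cores
import Cfsg.Agent.Lib.Components.PComponents

set_option autoImplicit false
open Cfsg

namespace Cfsg.Agent.S3294
theorem cyclic_fixed {G : Type*} [Group G] [Finite G] {C : Subgroup G} [IsCyclic ↥C] (hC : IsPGroup 2 ↥C) {g : G}
    (hg : g ∈ Subgroup.normalizer (C : Set G)) (ho : Odd (orderOf g)) : g ∈ Subgroup.centralizer (C : Set G) := by
  obtain ⟨k, hk⟩ := hC.exists_card_eq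
  set u := Subgroup.normalizerMonoidHom C ⟨g, hg⟩ with hu
  have h1 : orderOf u ∣ orderOf g := by
    rw [← Subgroup.orderOf_mk g hg]; exact orderOf_map_dvd _ _
  have h2 : orderOf u ∣ 2 ^ (k - 1) := by
    have := orderOf_dvd_natCard u
    rw [IsCyclic.card_mulAut, hk] at this
    rcases Nat.eq_zero_or_pos k with rfl | hk0
    · simpa using this
    · rwa [Nat.totient_prime_pow Nat.prime_two hk0, show (2 - 1 : ℕ) = 1 from rfl, mul_one] at this
  have h3 : orderOf u = 1 :=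
    Nat.eq_one_of_dvd_coprimes (Nat.Coprime.pow_right _ (Nat.coprime_two_right.mpr ho)) h1 h2
  have h4 : (⟨g, hg⟩ : Subgroup.normalizer (C : Set G)) ∈ (Subgroup.normalizerMonoidHom C).ker :=
    orderOf_eq_one_iff.mp h3
  rw [Subgroup.normalizerMonoidHom_ker] at h4
  exact h4

theorem fixed_of_quaternion {G : Type*} [Group G] [Finite G] {T P : Subgroup G} {n : ℕ} (hn : 3 ≤ n)
    (e : ↥T ≃* QuaternionGroup (2 ^ n)) (hPT : P ≤ T) (hTP : ∀ t ∈ T, ∀ x ∈ P, t * x * t⁻¹ ∈ P) {g : G}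
    (hg : g ∈ Subgroup.normalizer (P : Set G)) (ho : Odd (orderOf g)) : g ∈ Subgroup.centralizer (P : Set G) := by
  set a' : ↥T := e.symm (QuaternionGroup.a 1) with ha'
  set a : G := (a' : G) with ha
  have hao : orderOf a = 2 ^ (n + 1) := by
    rw [ha, Subgroup.orderOf_coe, ha', MulEquiv.orderOf_eq, QuaternionGroup.orderOf_a_one, pow_succ']
  have hT : IsPGroup 2 ↥T := IsPGroup.of_card (n := n + 2) (by
    rw [Nat.card_congr e.toEquiv, Nat.card_eq_fintype_card, QuaternionGroup.card, pow_add]; ring)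
  have hcase : ∀ x ∈ T, x ∈ Subgroup.zpowers a ∨ (orderOf x = 4 ∧ x * a * x⁻¹ = a⁻¹) := by
    intro x hx
    rcases hq : e ⟨x, hx⟩ with i | i
    · left
      refine ⟨(i.val : ℤ), ?_⟩
      have : a' ^ i.val = ⟨x, hx⟩ := e.injective (by
        rw [map_pow, ha', MulEquiv.apply_symm_apply, hq, QuaternionGroup.a_one_pow, ZMod.natCast_zmod_val])
      show a ^ (i.val : ℤ) = x
      rw [zpow_natCast]
      exact congrArg Subtype.val this
    · right
      constructor
      · rw [show x = ((⟨x, hx⟩ : ↥T) : G) from rfl, Subgroup.orderOf_coe, ← MulEquiv.orderOf_eq e, hq,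
          QuaternionGroup.orderOf_xa]
      · have : (⟨x, hx⟩ : ↥T) * a' = a'⁻¹ * ⟨x, hx⟩ := e.injective (by
          rw [map_mul, map_mul, map_inv, hq, ha', MulEquiv.apply_symm_apply]
          show QuaternionGroup.xa (i + 1) = QuaternionGroup.a (-1) * QuaternionGroup.xa i
          rw [QuaternionGroup.a_mul_xa, sub_neg_eq_add])
        rw [mul_inv_eq_iff_eq_mul]
        exact congrArg Subtype.val this
  have hbig : ∀ x ∈ T, 4 < orderOf x → x ∈ Subgroup.zpowers a := fun x hx h =>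
    (hcase x hx).resolve_right fun h' => by omega
  by_cases hPa : P ≤ Subgroup.zpowers a
  · haveI := Subgroup.isCyclic_of_le hPa
    exact cyclic_fixed (hT.to_le hPT) hg ho
  obtain ⟨x₀, hx₀, hx₀a⟩ := SetLike.not_le_iff_exists.mp hPa
  have ha2 : a ^ 2 ∈ P := by
    have h1 := mul_mem (hTP a a'.2 x₀ hx₀) (inv_mem hx₀)
    have h2 := ((hcase x₀ (hPT hx₀)).resolve_left hx₀a).2
    have h3 : x₀ * a⁻¹ * x₀⁻¹ = a := by rw [← conj_inv, h2, inv_inv]
    rwa [show a * x₀ * a⁻¹ * x₀⁻¹ = a * (x₀ * a⁻¹ * x₀⁻¹) by group, h3, ← sq] at h1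
  set C := P ⊓ Subgroup.zpowers a with hC
  haveI : IsCyclic ↥C := Subgroup.isCyclic_of_le inf_le_right
  obtain ⟨c, hc⟩ := IsCyclic.exists_generator (α := ↥C)
  have hco : 4 < orderOf (c : G) := by
    rw [Subgroup.orderOf_coe, orderOf_eq_card_of_forall_mem_zpowers hc]
    have h1 := Subgroup.orderOf_dvd_natCard C (⟨ha2, Subgroup.pow_mem _ (Subgroup.mem_zpowers a) 2⟩ : a ^ 2 ∈ C)
    rw [orderOf_pow_of_dvd two_ne_zero (hao ▸ dvd_pow_self 2 (by omega)), hao, pow_succ, Nat.mul_div_cancel _ two_pos] at h1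
    have : 2 ^ 3 ≤ 2 ^ n := Nat.pow_le_pow_right two_pos hn
    have := Nat.le_of_dvd Nat.card_pos h1
    omega
  have hgC : g ∈ Subgroup.normalizer (C : Set G) := by
    have hle : C.map (MulAut.conj g).toMonoidHom ≤ C := by
      rintro _ ⟨y, hy, rfl⟩
      obtain ⟨i, hi⟩ := Subgroup.mem_zpowers_iff.mp (hc ⟨y, hy⟩)
      have hyc : (c : G) ^ i = y := by rw [← Subgroup.coe_zpow, hi]
      have h1 : g * (c : G) * g⁻¹ ∈ P := (Subgroup.mem_normalizer_iff.mp hg _).mp c.2.1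
      have h2 : g * (c : G) * g⁻¹ ∈ C := ⟨h1, hbig _ (hPT h1) (by
        rw [show g * (c : G) * g⁻¹ = MulAut.conj g (c : G) from rfl, MulEquiv.orderOf_eq]; exact hco)⟩
      show g * y * g⁻¹ ∈ C
      rw [← hyc, ← conj_zpow]
      exact zpow_mem h2 i
    rw [Subgroup.mem_normalizer_iff_map_conj_eq]
    exact Subgroup.eq_of_le_of_card_ge hle
      (Nat.card_congr (C.equivMapOfInjective _ (MulAut.conj g).injective).toEquiv).le
  have hfix : ∀ y ∈ C, g * y * g⁻¹ = y := fun y hy => by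
    rw [← Subgroup.mem_centralizer_iff.mp (cyclic_fixed (hT.to_le (inf_le_left.trans hPT)) hgC ho) y hy, mul_inv_cancel_right]
  intro x hx'
  have hx : x ∈ P := hx'
  by_cases hxa : x ∈ Subgroup.zpowers a
  · exact (mul_inv_eq_iff_eq_mul.mp (hfix x ⟨hx, hxa⟩)).symm
  have hgx : g * x * g⁻¹ ∈ P := (Subgroup.mem_normalizer_iff.mp hg _).mp hx
  have hout : g * x * g⁻¹ ∉ Subgroup.zpowers a := fun h => hxa (by
    have h1 := hfix _ ⟨hgx, h⟩
    have : g * x * g⁻¹ = x := mul_left_cancel (mul_right_cancel h1)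
    exact this ▸ h)
  have hd : x⁻¹ * (g * x * g⁻¹) ∈ C := by
    refine ⟨P.mul_mem (P.inv_mem hx) hgx, ?_⟩
    rcases hcase _ (mul_mem (T.inv_mem (hPT hx)) (hPT hgx)) with h | ⟨-, h⟩
    · exact h
    · exfalso
      have h1 := ((hcase x (hPT hx)).resolve_left hxa).2
      have h2 := ((hcase _ (hPT hgx)).resolve_left hout).2
      rw [show x⁻¹ * (g * x * g⁻¹) * a * (x⁻¹ * (g * x * g⁻¹))⁻¹ = x⁻¹ * ((g * x * g⁻¹) * a * (g * x * g⁻¹)⁻¹) * x by group, h2] at h
      have h3 : x⁻¹ * a⁻¹ * x = a := by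
        conv_lhs => rw [← h1]
        group
      rw [h3, eq_inv_iff_mul_eq_one, ← sq, ← orderOf_dvd_iff_pow_eq_one, hao] at h
      have h4 := Nat.le_of_dvd two_pos h
      have : 2 ^ 2 ≤ 2 ^ (n + 1) := Nat.pow_le_pow_right two_pos (by omega)
      omega
  set d := x⁻¹ * (g * x * g⁻¹) with hd'
  have hit : ∀ k : ℕ, g ^ k * x * (g ^ k)⁻¹ = x * d ^ k := by
    intro k
    induction k with
    | zero => simp
    | succ k ih =>
      rw [pow_succ' g k, show g * g ^ k * x * (g * g ^ k)⁻¹ = g * (g ^ k * x * (g ^ k)⁻¹) * g⁻¹ by group, ih,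
        show g * (x * d ^ k) * g⁻¹ = (g * x * g⁻¹) * (g * d ^ k * g⁻¹) by group, hfix _ (pow_mem hd k),
        pow_succ' d k, ← mul_assoc x]
      simp [hd']
  have h1 := hit (orderOf g)
  rw [pow_orderOf_eq_one, one_mul, inv_one, mul_one, left_eq_mul] at h1
  obtain ⟨j, hj⟩ := hT.exists_card_eq
  have h2 : orderOf d = 1 :=
    Nat.eq_one_of_dvd_coprimes (Nat.Coprime.pow_right _ (Nat.coprime_two_right.mpr ho))
      (orderOf_dvd_of_pow_eq_one h1) (hj ▸ Subgroup.orderOf_dvd_natCard T (hPT hd.1))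
  rw [orderOf_eq_one_iff, hd', inv_mul_eq_one] at h2
  exact (mul_inv_eq_iff_eq_mul.mp h2.symm).symm

/-- A finite solvable group whose Sylow 2-subgroups are generalized quaternion of order at least 32 has a normal 2-complement. -/
theorem result {G : Type*} [Group G] [Finite G] (hsol : Group.IsSolvable G) (T : Sylow 2 G) (n : ℕ) (hn : 3 ≤ n) (hT : Nonempty ((T : Subgroup G) ≃* QuaternionGroup (2 ^ n))) : Cfsg.HasNormalPComplement 2 G := by
  classical
  obtain ⟨e⟩ := hT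
  set O := Cfsg.pPrimeCore 2 G with hO
  have hOc := CfsgLib.Solvable.Cores.coprime_card_pPrimeCore (G := G) 2
  refine CfsgLib.Fusion.Basic.npc_of_isPGroup_quotient O hOc ?_
  set f := QuotientGroup.mk' O
  have hf : Function.Surjective f := QuotientGroup.mk'_surjective O
  set T' := T.mapSurjective hf with hT'
  have hinj : Function.Injective (f.subgroupMap (T : Subgroup G)) := by
    rw [← MonoidHom.ker_eq_bot_iff, eq_bot_iff]
    intro y hy
    have h1 : (y : G) ∈ (T : Subgroup G) ⊓ O := ⟨y.2, (QuotientGroup.eq_one_iff _).mp (congrArg Subtype.val hy)⟩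
    rw [CfsgLib.Fusion.Basic.inf_eq_bot_of_coprime T.2 hOc, Subgroup.mem_bot] at h1
    exact Subgroup.mem_bot.mpr (Subtype.ext h1)
  let e' : ↥(T' : Subgroup (G ⧸ O)) ≃* QuaternionGroup (2 ^ n) :=
    (MulEquiv.ofBijective _ ⟨hinj, f.subgroupMap_surjective _⟩).symm.trans e
  set P := Cfsg.pCore 2 (G ⧸ O) with hP
  haveI hPn : P.Normal := by rw [hP]; infer_instance
  haveI : Group.IsSolvable (G ⧸ O) := Group.isSolvable_of_surjective (f := f) hf
  have hC : Subgroup.centralizer (P : Set (G ⧸ O)) ≤ P := by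
    rw [hP, ← CfsgLib.Solvable.Cores.fittingSubgroup_eq_pCore 2 CfsgLib.Components.pPrimeCore_quotient_eq_bot]
    exact CfsgLib.Solvable.Cores.centralizer_fittingSubgroup_le
  have hodd : ∀ g : G ⧸ O, Odd (orderOf g) → g = 1 := by
    intro g ho
    have hgP : g ∈ Subgroup.normalizer (P : Set (G ⧸ O)) := by rw [Subgroup.normalizer_eq_top]; trivial
    have h1 := hC (fixed_of_quaternion hn e' (CfsgLib.Solvable.Cores.pCore_le_sylow T')
      (fun t _ x hx => hPn.conj_mem x hx t) hgP ho)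
    obtain ⟨j, hj⟩ := (CfsgLib.Solvable.Cores.isPGroup_pCore (G := G ⧸ O) 2).exists_card_eq
    exact orderOf_eq_one_iff.mp (Nat.eq_one_of_dvd_coprimes (Nat.Coprime.pow_right _ (Nat.coprime_two_right.mpr ho))
      dvd_rfl (hj ▸ Subgroup.orderOf_dvd_natCard _ h1))
  refine IsPGroup.iff_card.mpr ?_
  refine ⟨_, Nat.eq_prime_pow_of_unique_prime_dvd Nat.card_pos.ne' fun {d} hd hdvd => ?_⟩
  by_contra hne
  haveI := Fact.mk hd
  obtain ⟨g, hg⟩ := exists_prime_orderOf_dvd_card' (G := G ⧸ O) d hdvd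
  have := hodd g (hg ▸ hd.odd_of_ne_two hne)
  rw [this, orderOf_one] at hg
  exact hd.one_lt.ne hg

end Cfsg.Agent.S3294
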