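import Cfsg.Statements.S3301
import Cfsg.Agent.Lib.Characterizations.LargeExtraspecialTransfer
import Cfsg.Agent.Lib.CharDeep.Blichfeldt

set_option autoImplicit false
open Cfsg

namespace Cfsg.Agent.S3301

open Subgroup CfsgLib.Characterizations.LargeExtraspecialTransfer

/-- An extraspecial 2-group of order less than `32` has order `8`. -/
lemma card_eq_eight {Q : Type*} [Group Q] [Finite Q] (hQ : Cfsg.IsExtraspecial 2 Q)
    (h : Nat.card Q < 32) : Nat.card Q = 8 := by
  haveI : Fact (Nat.Prime 2) := ⟨Nat.prime_two⟩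
  obtain ⟨A, -, hAab, hAC⟩ := CfsgLib.CharDeep.Blichfeldt.exists_maximal_abelian_normal hQ.1.1
  have hA : centralizer (A : Set Q) = A :=
    le_antisymm hAC fun a ha => mem_centralizer_iff.2 fun b hb => hAab b hb a ha
  have hZA : center Q ≤ A := (CfsgLib.KGroups.ExtraspecialDual.center_le_centralizer A).trans hAC
  have h1 := CfsgLib.KGroups.ExtraspecialDual.card_mul hQ hZA
  rw [hA] at h1
  obtain ⟨i, hi⟩ := IsPGroup.iff_card.1 hQ.1.1
  obtain ⟨j, hj⟩ := IsPGroup.iff_card.1 (hQ.1.1.to_subgroup A)
  rw [hi, hj, ← pow_add, ← pow_succ'] at h1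
  have hij := Nat.pow_right_injective le_rfl h1
  have hi5 : i < 5 := by
    by_contra hge
    have := Nat.pow_le_pow_right (show 0 < 2 by norm_num) (show 5 ≤ i by omega)
    omega
  have hi1 : i ≠ 1 := by
    intro h
    have htop : center Q = ⊤ := Subgroup.eq_top_of_card_eq _ (by rw [hQ.2, hi, h]; norm_num)
    haveI : IsCyclic Q := isCyclic_of_prime_card (p := 2) (by rw [hi, h]; norm_num)
    have hc : commutator Q = ⊥ := by
      rw [_root_.commutator_def, commutator_eq_bot_iff_le_centralizer]
      intro x _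
      exact mem_centralizer_iff.2 fun y _ => (IsCyclic.commGroup (α := Q)).mul_comm y x
    rw [hQ.1.2.2, htop] at hc
    have := congrArg (fun K : Subgroup Q => Nat.card K) hc
    simp [hi, h] at this
  have hi3 : i = 3 := by omega
  rw [hi, hi3]; norm_num

lemma small_case {G : Type*} [Group G] [Finite G] {E : Subgroup G} {z : G}
    (hS : Setting E z)
    (hE : E = (Cfsg.pCore 2 ↥(centralizer ({z} : Set G))).map (centralizer ({z} : Set G)).subtype)
    (h8 : Nat.card E = 8) (f : centralizer ({z} : Set G) → ZMod 4)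
    (hf : ∀ a b, f (a * b) = f a + f b) (u : centralizer ({z} : Set G)) :
    ZMod.castHom (show 2 ∣ 4 by norm_num) (ZMod 2) (f u) = 0 := by
  classical
  have h4dec : ∀ a : ZMod 4, a + a = 0 → ZMod.castHom (show 2 ∣ 4 by norm_num) (ZMod 2) a = 0 := by
    decide
  have hf1 : f 1 = 0 := map_one_zero f hf
  -- the homomorphism
  let F : (centralizer ({z} : Set G)) →* Multiplicative (ZMod 4) :=
    { toFun := fun x => Multiplicative.ofAdd (f x)
      map_one' := by rw [hf1]; rfl
      map_mul' := fun a b => by rw [hf]; rfl }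
  have hFf : ∀ a, f a = Multiplicative.toAdd (F a) := fun _ => rfl
  let ι : E →* (centralizer ({z} : Set G)) := Subgroup.inclusion hS.le_H
  let Z := center E
  haveI : Fact (Nat.Prime 2) := ⟨Nat.prime_two⟩
  have hcomm : commutator E = Z := hS.extra.ext.1.2.2
  -- `F` factors through `E/Z`
  have hFZ : Z ≤ (F.comp ι).ker := by
    rw [← hcomm]; exact Abelianization.commutator_subset_ker _
  let Fb : E ⧸ Z →* Multiplicative (ZMod 4) := QuotientGroup.lift Z (F.comp ι) hFZ
  have hEZ : Nat.card (E ⧸ Z) = 4 := by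
    have := Subgroup.card_mul_index Z
    rw [hS.extra.ext.2, h8, Subgroup.index_eq_card] at this
    omega
  have hsq : ∀ e : E, f (ι e) + f (ι e) = 0 := by
    intro e
    rw [← hf]
    have : (e * e : E) ∈ Z := by
      rw [← pow_two, show Z = frattini E from hS.extra.ext.1.2.1.symm]
      exact CfsgLib.PGroup.Frattini.pow_mem_frattini hS.extra.ext.1.1 e
    rw [hFf, ← map_mul]
    exact congrArg Multiplicative.toAdd (hFZ this)
  -- the action on `E/Z`
  let aut : (centralizer ({z} : Set G)) →* MulAut E :=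
    { toFun := fun h =>
        { toFun := fun e => ⟨(h : G) * e * (h : G)⁻¹, hS.normal h h.2 e e.2⟩
          invFun := fun e => ⟨(h : G)⁻¹ * e * ((h : G)⁻¹)⁻¹, hS.normal _ (inv_mem h.2) e e.2⟩
          left_inv := fun e => Subtype.ext (by simp [mul_assoc])
          right_inv := fun e => Subtype.ext (by simp [mul_assoc])
          map_mul' := fun a b => Subtype.ext (by simp [mul_assoc]) }
      map_one' := MulEquiv.ext fun e => Subtype.ext (by simp)
      map_mul' := fun a b => MulEquiv.ext fun e => Subtype.ext (by simp [mul_assoc]) }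
  have hZchar : ∀ h : (centralizer ({z} : Set G)), Z.map (aut h : E ≃* E).toMonoidHom = Z := fun h =>
    Subgroup.characteristic_iff_map_eq.1 inferInstance (aut h)
  let φ : (centralizer ({z} : Set G)) →* Equiv.Perm (E ⧸ Z) :=
    { toFun := fun h => (QuotientGroup.congr Z Z (aut h) (hZchar h)).toEquiv
      map_one' := Equiv.ext fun x => by
        induction x using QuotientGroup.induction_on with
        | _ e => exact congrArg QuotientGroup.mk (Subtype.ext (by simp [aut]))
      map_mul' := fun a b => Equiv.ext fun x => by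
        induction x using QuotientGroup.induction_on with
        | _ e => exact congrArg QuotientGroup.mk (Subtype.ext (by simp [aut, mul_assoc])) }
  have hφ : ∀ (h : (centralizer ({z} : Set G))) (e : E), φ h (e : E ⧸ Z) = ((aut h e : E) : E ⧸ Z) := fun _ _ => rfl
  have hφinv : ∀ (h : (centralizer ({z} : Set G))) (x : E ⧸ Z), Fb (φ h x) = Fb x := by
    intro h x
    induction x using QuotientGroup.induction_on with
    | _ e =>
      rw [hφ]
      show F (ι (aut h e)) = F (ι e)
      rw [show ι (aut h e) = h * ι e * h⁻¹ from Subtype.ext rfl, map_mul, map_mul, map_inv,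
        mul_comm (F h), mul_inv_cancel_right]
  -- the kernel
  have hker : ∀ h ∈ φ.ker, (h : G) ∈ E := by
    have hz2 : z * z = 1 := hS.extra.z_sq
    have hfour : ∀ h ∈ φ.ker, (((h * h : (centralizer ({z} : Set G))) : G)) ∈ E := by
      intro h hh
      refine hS.cent (mem_centralizer_iff.2 fun e he => ?_)
      have h1 : ((aut h ⟨e, he⟩ : E) : E ⧸ Z) = ((⟨e, he⟩ : E) : E ⧸ Z) := by
        rw [← hφ, MonoidHom.mem_ker.1 hh]; rfl
      rw [QuotientGroup.eq] at h1
      have hhz : ∀ w : G, w = 1 ∨ w = z → (h : G) * w * (h : G)⁻¹ = w := by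
        rintro w (rfl | rfl)
        · group
        · rw [mem_centralizer_singleton_iff.1 h.2, mul_inv_cancel_right]
      have hw := hS.extra.eq_one_or_z_of_mem_center h1
      have hww : ∀ w : G, w = 1 ∨ w = z → w * w = 1 := by
        rintro w (rfl | rfl)
        · exact one_mul _
        · exact hz2
      set w : G := ((((aut h ⟨e, he⟩ : E))⁻¹ * ⟨e, he⟩ : E) : G) with hwdef
      have e1 : e = (h : G) * e * (h : G)⁻¹ * w := by
        simp [hwdef, aut, mul_assoc]
      have e2 : (h : G) * e * (h : G)⁻¹ = e * w := by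
        calc (h : G) * e * (h : G)⁻¹ = (h : G) * e * (h : G)⁻¹ * (w * w) := by rw [hww w hw, mul_one]
          _ = (h : G) * e * (h : G)⁻¹ * w * w := by rw [mul_assoc _ w w]
          _ = e * w := by rw [← e1]
      have e3 : ((h * h : (centralizer ({z} : Set G))) : G) * e * ((h * h : (centralizer ({z} : Set G))) : G)⁻¹ = e := by
        calc ((h * h : (centralizer ({z} : Set G))) : G) * e * ((h * h : (centralizer ({z} : Set G))) : G)⁻¹
            = (h : G) * ((h : G) * e * (h : G)⁻¹) * (h : G)⁻¹ := by push_cast; group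
          _ = (h : G) * (e * w) * (h : G)⁻¹ := by rw [e2]
          _ = ((h : G) * e * (h : G)⁻¹) * ((h : G) * w * (h : G)⁻¹) := by group
          _ = e * w * w := by rw [hhz w hw, e2]
          _ = e := by rw [mul_assoc, hww w hw, mul_one]
      exact (mul_inv_eq_iff_eq_mul.1 e3).symm
    have hP : IsPGroup 2 φ.ker := by
      intro h
      obtain ⟨k, hk⟩ := hS.extra.isPGroup ⟨_, hfour h h.2⟩
      refine ⟨k + 1, ?_⟩
      apply Subtype.ext; apply Subtype.ext
      have hk' : (((h : (centralizer ({z} : Set G))) : G) * ((h : (centralizer ({z} : Set G))) : G)) ^ 2 ^ k = 1 := by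
        simpa using congrArg Subtype.val hk
      simpa [pow_succ', pow_mul, pow_two] using hk'
    intro h hh
    rw [hE]
    exact ⟨h, CfsgLib.Solvable.Cores.le_pCore hP hh, rfl⟩
  -- the image fixes `1`
  have hfix : φ.range ≤ MulAction.stabilizer (Equiv.Perm (E ⧸ Z)) (1 : E ⧸ Z) := by
    rintro _ ⟨h, rfl⟩
    show φ h ((1 : E) : E ⧸ Z) = _
    rw [hφ, map_one]; rfl
  have hstab : Nat.card (MulAction.stabilizer (Equiv.Perm (E ⧸ Z)) (1 : E ⧸ Z)) = 6 := by
    have h1 := Subgroup.card_mul_index (MulAction.stabilizer (Equiv.Perm (E ⧸ Z)) (1 : E ⧸ Z))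
    rw [MulAction.index_stabilizer, MulAction.orbit_eq_univ, Set.ncard_univ, hEZ, Nat.card_perm, hEZ,
      show (4 : ℕ).factorial = 24 from rfl] at h1
    omega
  have hdvd : Nat.card φ.range ∣ 6 := hstab ▸ Subgroup.card_dvd_of_le hfix
  by_cases h3 : 3 ∣ Nat.card φ.range
  · -- an element of order three
    haveI : Fact (Nat.Prime 3) := ⟨Nat.prime_three⟩
    obtain ⟨⟨σ, hσm⟩, hσ⟩ := exists_prime_orderOf_dvd_card' 3 h3
    rw [Subgroup.orderOf_mk] at hσ
    obtain ⟨g, rfl⟩ := MonoidHom.mem_range.1 hσm
    have hσ3 : ∀ x, φ g (φ g (φ g x)) = x := fun x => by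
      have := congrArg (fun p : Equiv.Perm (E ⧸ Z) => p x) (hσ ▸ pow_orderOf_eq_one (φ g))
      simpa [pow_succ, Equiv.Perm.mul_apply] using this
    obtain ⟨A, hA⟩ : ∃ A, φ g A ≠ A := by
      by_contra h
      push Not at h
      rw [show φ g = 1 from Equiv.ext h, orderOf_one] at hσ
      omega
    have h1fix : φ g 1 = 1 := by
      show φ g ((1 : E) : E ⧸ Z) = _
      rw [hφ, map_one]; rfl
    have hA1 : A ≠ 1 := fun h => hA (by rw [h, h1fix])
    set B := φ g A with hB
    have hB1 : B ≠ 1 := fun h => hA1 ((φ g).injective (h.trans h1fix.symm))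
    have hAA : ∀ x : E ⧸ Z, x * x = 1 := by
      intro x
      induction x using QuotientGroup.induction_on with
      | _ e =>
        rw [← QuotientGroup.mk_mul, QuotientGroup.eq_one_iff, ← pow_two,
          show Z = frattini E from hS.extra.ext.1.2.1.symm]
        exact CfsgLib.PGroup.Frattini.pow_mem_frattini hS.extra.ext.1.1 e
    have hBA : B ≠ A := hA
    have hAB1 : A * B ≠ 1 := fun h => hBA (by
      rw [← mul_left_cancel_iff (a := A), hAA A, h])
    have huniv : ∀ x : E ⧸ Z, x = 1 ∨ x = A ∨ x = B ∨ x = A * B := by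
      haveI : Fintype (E ⧸ Z) := Fintype.ofFinite _
      have hc : ({1, A, B, A * B} : Finset (E ⧸ Z)).card = 4 :=
        Finset.card_eq_four.2 ⟨1, A, B, A * B, hA1.symm, hB1.symm, hAB1.symm, hBA.symm,
          fun h => hB1 (by simpa using h.symm), fun h => hA1 (by simpa using h.symm), rfl⟩
      have := Finset.eq_univ_of_card _ (hc.trans (by rw [← hEZ, Nat.card_eq_fintype_card]))
      intro x
      have hx := Finset.mem_univ x
      rw [← this] at hx
      simpa using hx
    have hgB : φ g B = A * B := by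
      rcases huniv (φ g B) with h | h | h | h
      · exact absurd ((φ g).injective (h.trans h1fix.symm)) hB1
      · exfalso
        have := hσ3 A
        rw [← hB, h] at this
        exact hA this
      · exact absurd ((φ g).injective h) hBA
      · exact h
    have hFA : Fb A = 1 := by
      have e1 := hφinv g B
      rw [hgB, map_mul] at e1
      exact mul_eq_right.1 e1
    have hFB : Fb B = 1 := by rw [hB, hφinv, hFA]
    have hFE : ∀ x : E ⧸ Z, Fb x = 1 := by
      intro x
      rcases huniv x with rfl | rfl | rfl | rfl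
      · exact map_one _
      · exact hFA
      · exact hFB
      · rw [map_mul, hFA, hFB, one_mul]
    -- so `F` factors through the image of `φ`
    have hle : φ.ker ≤ F.ker := by
      intro h hh
      have : F (ι ⟨h, hker h hh⟩) = 1 := hFE ((⟨h, hker h hh⟩ : E) : E ⧸ Z)
      exact this
    have hord : orderOf (F u) ∣ Nat.card φ.range := by
      rw [orderOf_dvd_iff_pow_eq_one, ← map_pow]
      refine hle ?_
      rw [MonoidHom.mem_ker, map_pow]
      exact orderOf_dvd_iff_pow_eq_one.1 (Subgroup.orderOf_mk (φ u) (MonoidHom.mem_range.2 ⟨u, rfl⟩) ▸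
        orderOf_dvd_natCard (⟨φ u, MonoidHom.mem_range.2 ⟨u, rfl⟩⟩ : φ.range))
    apply h4dec
    have h2 : orderOf (F u) ∣ 2 := by
      have h4 : orderOf (F u) ∣ 4 := by
        have := orderOf_dvd_natCard (F u)
        rwa [Nat.card_eq_fintype_card, Fintype.card_multiplicative, ZMod.card] at this
      exact (Nat.dvd_gcd h4 (hord.trans hdvd)).trans (by norm_num)
    rw [orderOf_dvd_iff_pow_eq_one, pow_two] at h2
    exact congrArg Multiplicative.toAdd h2
  · -- then `(centralizer ({z} : Set G))` is a 2-group, hence equal to `E`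
    have hr : Nat.card φ.range ∣ 2 := by
      have : (Nat.card φ.range).Coprime 3 := (Nat.prime_three.coprime_iff_not_dvd.2 h3).symm
      exact this.dvd_of_dvd_mul_right (show Nat.card φ.range ∣ 2 * 3 from hdvd)
    have hP : IsPGroup 2 (centralizer ({z} : Set G)) := by
      intro h
      have hh : h * h ∈ φ.ker := by
        rw [MonoidHom.mem_ker, map_mul, ← pow_two]
        exact orderOf_dvd_iff_pow_eq_one.1 ((Subgroup.orderOf_mk (φ h) (MonoidHom.mem_range.2 ⟨h, rfl⟩) ▸
          orderOf_dvd_natCard (⟨φ h, MonoidHom.mem_range.2 ⟨h, rfl⟩⟩ : φ.range)).trans hr)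
      obtain ⟨k, hk⟩ := hS.extra.isPGroup ⟨_, hker _ hh⟩
      refine ⟨k + 1, Subtype.ext ?_⟩
      have hk' : ((h : G) * (h : G)) ^ 2 ^ k = 1 := by simpa using congrArg Subtype.val hk
      simpa [pow_succ', pow_mul, pow_two] using hk'
    have huE : (u : G) ∈ E := by
      rw [hE]
      exact ⟨u, CfsgLib.Solvable.Cores.le_pCore (N := ⊤)
        (hP.to_subgroup ⊤) (mem_top u), rfl⟩
    exact h4dec _ (hsq ⟨u, huE⟩)

/-- Let G be a finite group with no nontrivial 2-group quotient (O^2(G) = G), z an involution of G with H = C_G(z), and suppose E = O_2(H) is extraspecial with C_G(E) ≤ E. Then the Sylow 2-subgroups of H/[H, H] are elementary abelian: every element of 2-power order of the abelianization of H has order at most 2. -/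
theorem result {G : Type*} [Group G] [Finite G] (hres : Cfsg.pResidual 2 G = ⊤) (z : G) (hz : orderOf z = 2)
    (E : Subgroup G) (hE : E = (Cfsg.pCore 2 ↥(Subgroup.centralizer ({z} : Set G))).map (Subgroup.centralizer ({z} : Set G)).subtype)
    (hext : Cfsg.IsExtraspecial 2 ↥E) (hcent : Subgroup.centralizer (E : Set G) ≤ E) :
    ∀ q : Abelianization ↥(Subgroup.centralizer ({z} : Set G)), (∃ k : ℕ, orderOf q = 2 ^ k) → q ^ 2 = 1 := by
  classical
  rintro q ⟨k, hk⟩
  by_contra hq
  have hS := setting_of hz hE hext hcent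
  obtain ⟨ι, hι, n, hn, ⟨e⟩⟩ :=
    CommGroup.equiv_prod_multiplicative_zmod_of_finite (Abelianization (centralizer ({z} : Set G)))
  obtain ⟨i, hi⟩ : ∃ i, (e q) i ^ 2 ≠ 1 := by
    by_contra h
    push Not at h
    apply hq
    apply e.injective
    rw [map_pow, map_one]
    funext i
    exact h i
  have h4 : 4 ∣ n i := by
    have hd : orderOf (e q i) ∣ 2 ^ k := by
      rw [orderOf_dvd_iff_pow_eq_one]
      have := congrFun (congrArg e (hk ▸ pow_orderOf_eq_one q)) i
      simpa using this
    obtain ⟨j, -, hj⟩ := (Nat.dvd_prime_pow Nat.prime_two).1 hd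
    have hj2 : 2 ≤ j := by
      by_contra hlt
      apply hi
      rw [← orderOf_dvd_iff_pow_eq_one, hj]
      exact (pow_dvd_pow 2 (show j ≤ 1 by omega)).trans (by norm_num)
    haveI : NeZero (n i) := ⟨by have := hn i; omega⟩
    have hd2 := orderOf_dvd_natCard (e q i)
    rw [hj, Nat.card_eq_fintype_card, Fintype.card_multiplicative, ZMod.card] at hd2
    exact (pow_dvd_pow 2 hj2).trans hd2
  let f : centralizer ({z} : Set G) → ZMod 4 := fun h =>
    ZMod.castHom h4 (ZMod 4) (Multiplicative.toAdd (e (Abelianization.of h) i))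
  have hf : ∀ a b, f (a * b) = f a + f b := fun a b => by
    simp only [f, map_mul, Pi.mul_apply, toAdd_mul, map_add]
  obtain ⟨u, hu⟩ := QuotientGroup.mk_surjective
    (e.symm (Pi.mulSingle i (Multiplicative.ofAdd 1)) : Abelianization (centralizer ({z} : Set G)))
  have hfu : f u = 1 := by
    show ZMod.castHom h4 (ZMod 4) (Multiplicative.toAdd (e (Abelianization.of u) i)) = 1
    rw [show Abelianization.of u = e.symm (Pi.mulSingle i (Multiplicative.ofAdd 1)) from hu,
      MulEquiv.apply_symm_apply, Pi.mulSingle_eq_same, toAdd_ofAdd, map_one]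
  have h0 : ZMod.castHom (show 2 ∣ 4 by norm_num) (ZMod 2) (f u) = 0 := by
    by_cases h32 : 32 ≤ Nat.card E
    · haveI := Fintype.ofFinite (G ⧸ centralizer ({z} : Set G))
      let red := ZMod.castHom (show 2 ∣ 4 by norm_num) (ZMod 2)
      have h4dec : ∀ a : ZMod 4, a + a = 0 → ZMod.castHom (show 2 ∣ 4 by norm_num) (ZMod 2) a = 0 := by
        decide
      have hcast : ∀ g p, cocy (fun h => red (f h)) g p = red (cocy f g p) := fun _ _ => rfl
      refine chi_eq_zero hS hres (fun h => red (f h)) (fun a b => by simp only [hf, map_add])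
        (fun p hp => ⟨fun hzp => ?_, fun h2 x hx hxp => ?_⟩) u
      · rw [hcast]
        refine h4dec _ ?_
        have h := cocy_mul f hf z z p
        rwa [hS.extra.z_sq, cocy_one f hf, hzp, eq_comm] at h
      · rw [hcast]
        refine h4dec _ ?_
        obtain ⟨hzp, hz0⟩ := cocy_z_of_card_two f hf hS h32 h2
        have h := cocy_mul f hf x x p
        rw [hxp] at h
        rcases hS.extra.sq_cases hx with h' | h'
        · rwa [h', cocy_one f hf, eq_comm] at h
        · rwa [h', hz0, eq_comm] at h
    · exact small_case hS hE (card_eq_eight hext (not_le.1 h32)) f hf u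
  rw [hfu, map_one] at h0
  exact one_ne_zero h0

end Cfsg.Agent.S3301
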