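import Cfsg.Statements.S3303
import Mathlib
import Cfsg.Agent.S3294
import Cfsg.Agent.S3305

set_option autoImplicit false
open Cfsg

namespace Cfsg.Agent.S3303

/-- Let G be a finite solvable group in which the intersection of any two distinct Sylow 2-subgroups is cyclic. Then G/O(G) has a normal Sylow 2-subgroup, where O(G) is the largest normal subgroup of odd order. -/
theorem result {G : Type*} [Group G] [Finite G] (hs : Group.IsSolvable G)
    (hC : ∀ S T : Sylow 2 G, S ≠ T → IsCyclic ↥((S : Subgroup G) ⊓ (T : Subgroup G))) :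
    ∃ P : Sylow 2 (G ⧸ Cfsg.oddCore G), (P : Subgroup (G ⧸ Cfsg.oddCore G)).Normal := by
  classical
  haveI := hs
  set O := Cfsg.oddCore G with hO
  set Q := G ⧸ O with hQ
  haveI : Group.IsSolvable Q := Group.isSolvable_of_surjective (f := QuotientGroup.mk' O) (QuotientGroup.mk'_surjective O)
  have hCQ := Cfsg.Agent.S3305.result hC O
  obtain ⟨S⟩ : Nonempty (Sylow 2 Q) := inferInstance
  by_cases hu : ∀ T : Sylow 2 Q, T = S
  · exact ⟨S, Subgroup.normalizer_eq_top_iff.mp ((Subgroup.eq_top_iff' _).mpr fun g =>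
      Sylow.smul_eq_iff_mem_normalizer.mp (hu (g • S)))⟩
  obtain ⟨T, hT⟩ := not_forall.mp hu
  set P := Cfsg.pCore 2 Q with hP
  haveI hPn : P.Normal := by rw [hP]; infer_instance
  haveI := hCQ T S hT
  haveI : IsCyclic ↥P := Subgroup.isCyclic_of_le
    (le_inf (CfsgLib.Solvable.Cores.pCore_le_sylow T) (CfsgLib.Solvable.Cores.pCore_le_sylow S))
  have hCP : Subgroup.centralizer (P : Set Q) ≤ P := by
    rw [hP, ← CfsgLib.Solvable.Cores.fittingSubgroup_eq_pCore 2 CfsgLib.Components.pPrimeCore_quotient_eq_bot]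
    exact CfsgLib.Solvable.Cores.centralizer_fittingSubgroup_le
  obtain ⟨j, hj⟩ := (CfsgLib.Solvable.Cores.isPGroup_pCore (G := Q) 2).exists_card_eq
  have hodd : ∀ g : Q, Odd (orderOf g) → g = 1 := by
    intro g ho
    have hgP : g ∈ Subgroup.normalizer (P : Set Q) := by rw [Subgroup.normalizer_eq_top]; trivial
    have h1 := hCP (Cfsg.Agent.S3294.cyclic_fixed (CfsgLib.Solvable.Cores.isPGroup_pCore 2) hgP ho)
    exact orderOf_eq_one_iff.mp (Nat.eq_one_of_dvd_coprimes (Nat.Coprime.pow_right _ (Nat.coprime_two_right.mpr ho))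
      dvd_rfl (hj ▸ Subgroup.orderOf_dvd_natCard _ h1))
  have hp : IsPGroup 2 Q := by
    refine IsPGroup.iff_card.mpr ⟨_, Nat.eq_prime_pow_of_unique_prime_dvd Nat.card_pos.ne' fun {d} hd hdvd => ?_⟩
    by_contra hne
    haveI := Fact.mk hd
    obtain ⟨g, hg⟩ := exists_prime_orderOf_dvd_card' (G := Q) d hdvd
    rw [hodd g (hg ▸ hd.odd_of_ne_two hne), orderOf_one] at hg
    exact hd.one_lt.ne hg
  refine ⟨S, ?_⟩
  have e : (S : Subgroup Q) = ⊤ := (S.3 (hp.to_subgroup ⊤) le_top).symm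
  rw [e]
  infer_instance

end Cfsg.Agent.S3303
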