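import Cfsg.Statements.S3304
import Cfsg.Agent.Lib.TwoGroups.SolvableQuaternionCore
import Cfsg.Agent.Lib.Involution.ZStar.Basic

set_option autoImplicit false
open Cfsg

namespace Cfsg.Agent.S3304

/-- Let G be a finite solvable group in which the intersection of any two distinct Sylow 2-subgroups has 2-rank at most 1 (contains no Klein four-group). Write Q = G/O(G), O(G) the largest normal subgroup of odd order. Then Q has a normal Sylow 2-subgroup; or Q is isomorphic to GL(2,3); or Q has order 48, centre of order 2 with central quotient isomorphic to the symmetric group of degree 4, and generalized quaternion Sylow 2-subgroups of order 16 (the binary octahedral group). The last two are the two representation groups of the symmetric group of degree 4. -/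
theorem result {G : Type*} [Group G] [Finite G] (hs : Group.IsSolvable G)
    (hI : ∀ S T : Sylow 2 G, S ≠ T → Cfsg.PRankLE 2 1 ↥((S : Subgroup G) ⊓ (T : Subgroup G))) :
    (∃ P : Sylow 2 (G ⧸ Cfsg.oddCore G), (P : Subgroup (G ⧸ Cfsg.oddCore G)).Normal) ∨
    Nonempty ((G ⧸ Cfsg.oddCore G) ≃* GL (Fin 2) (ZMod 3)) ∨
    (Nat.card (G ⧸ Cfsg.oddCore G) = 48 ∧ Nat.card ↥(Subgroup.center (G ⧸ Cfsg.oddCore G)) = 2 ∧
      Nonempty ((G ⧸ Cfsg.oddCore G) ⧸ Subgroup.center (G ⧸ Cfsg.oddCore G) ≃* Equiv.Perm (Fin 4)) ∧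
      ∀ P : Sylow 2 (G ⧸ Cfsg.oddCore G), Nonempty (↥(P : Subgroup (G ⧸ Cfsg.oddCore G)) ≃* QuaternionGroup 4)) := by
  classical
  haveI : Fact (Nat.Prime 2) := ⟨Nat.prime_two⟩
  set O := Cfsg.oddCore G with hOdef
  haveI : O.Normal := CfsgLib.Solvable.Cores.pPrimeCore_normal 2
  haveI : Group.IsSolvable G := hs
  haveI : Group.IsSolvable (G ⧸ O) :=
    solvable_of_surjective (QuotientGroup.mk'_surjective O)
  set π := QuotientGroup.mk' O with hπ
  have hπs : Function.Surjective π := QuotientGroup.mk'_surjective O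
  have hOodd : (Nat.card O).Coprime 2 := CfsgLib.Solvable.Cores.coprime_card_pPrimeCore 2
  by_cases hnorm : ∃ P : Sylow 2 (G ⧸ O), (P : Subgroup (G ⧸ O)).Normal
  · exact Or.inl hnorm
  -- two distinct Sylow subgroups of the quotient
  obtain ⟨S₀⟩ : Nonempty (Sylow 2 G) := inferInstance
  obtain ⟨g, hg⟩ : ∃ g : G ⧸ O, g • S₀.mapSurjective hπs ≠ S₀.mapSurjective hπs := by
    by_contra hall
    push Not at hall
    exact hnorm ⟨S₀.mapSurjective hπs, Subgroup.normalizer_eq_top_iff.1
      (eq_top_iff.2 fun x _ => Sylow.smul_eq_iff_mem_normalizer.1 (hall x))⟩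
  obtain ⟨g₀, rfl⟩ := hπs g
  have hrank : Cfsg.PRankLE 2 1 ↥(Cfsg.pCore 2 (G ⧸ O)) := by
    intro A hAc hA2
    set A' : Subgroup (G ⧸ O) := A.map (Cfsg.pCore 2 (G ⧸ O)).subtype with hA'
    have hA'card : Nat.card A' = Nat.card A :=
      (Nat.card_congr (Subgroup.equivMapOfInjective A _ (Subgroup.subtype_injective _)).toEquiv).symm
    have hA'core : A' ≤ Cfsg.pCore 2 (G ⧸ O) := by
      rintro _ ⟨a, -, rfl⟩; exact a.2
    have hA'2 : ∀ a ∈ A', a ^ 2 = 1 := by
      rintro _ ⟨a, ha, rfl⟩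
      rw [← map_pow, hA2 a ha, map_one]
    have hinj : ∀ (T : Sylow 2 G), ∀ x ∈ (T : Subgroup G), π x = 1 → x = 1 := fun T x hx h1 => by
      have hxO : x ∈ O := (QuotientGroup.eq_one_iff x).1 h1
      obtain ⟨k, hk⟩ := T.2.exists_orderOf_eq_pow ⟨x, hx⟩
      rw [Subgroup.orderOf_mk] at hk
      have hd : orderOf x ∣ Nat.card O := Subgroup.orderOf_dvd_natCard O hxO
      rw [hk] at hd
      have h0 := Nat.eq_one_of_dvd_coprimes (hOodd.pow_right k) hd dvd_rfl
      rw [← hk] at h0
      exact orderOf_eq_one_iff.1 h0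
    -- the two-part of the preimage of `A'` in `S₀`
    set B : Subgroup G := (S₀ : Subgroup G) ⊓ A'.comap π with hB
    have hle : A' ≤ B.map π := by
      intro a ha
      have h1 : a ∈ ((S₀.mapSurjective hπs : Sylow 2 (G ⧸ O)) : Subgroup (G ⧸ O)) :=
        CfsgLib.Solvable.Cores.pCore_le_sylow _ (hA'core ha)
      obtain ⟨x, hx, rfl⟩ := h1
      exact ⟨x, ⟨hx, ha⟩, rfl⟩
    have hBcard : Nat.card A' ≤ Nat.card B :=
      le_trans (Subgroup.card_le_of_le hle) (Nat.le_of_dvd Nat.card_pos (Subgroup.card_map_dvd B π))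
    -- a second Sylow subgroup over `B`
    set Tbar := π g₀ • S₀.mapSurjective hπs with hTbar
    set That : Subgroup G := (Tbar : Subgroup (G ⧸ O)).comap π with hThat
    have hBT : B ≤ That := fun x hx => CfsgLib.Solvable.Cores.pCore_le_sylow Tbar (hA'core hx.2)
    obtain ⟨T', hT'⟩ := ((S₀.2.to_le (inf_le_left : B ≤ _)).comap_subtype :
      IsPGroup 2 (B.subgroupOf That)).exists_le_sylow
    have hidx : ¬ 2 ∣ That.index := by
      rw [hThat, Subgroup.index_comap_of_surjective _ hπs]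
      exact Tbar.not_dvd_index
    have hT'idx : ¬ 2 ∣ ((T' : Subgroup That).map That.subtype).index := by
      rw [Subgroup.index_map_subtype]
      exact fun h => (Nat.prime_two.dvd_mul.1 h).elim T'.not_dvd_index hidx
    let T : Sylow 2 G := (T'.2.map That.subtype).toSylow hT'idx
    have hBT' : B ≤ (T : Subgroup G) := fun x hx =>
      ⟨⟨x, hBT hx⟩, hT' (Subgroup.mem_subgroupOf.2 hx), rfl⟩
    have hne : S₀ ≠ T := by
      intro h
      refine hg (Sylow.ext ?_).symm
      refine Subgroup.eq_of_le_of_card_ge ?_ (le_of_eq ?_)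
      · rintro _ ⟨x, hx, rfl⟩
        rw [h] at hx
        obtain ⟨y, -, rfl⟩ := hx
        exact y.2
      · rw [Sylow.card_eq_multiplicity, Sylow.card_eq_multiplicity]
    have hB2 : ∀ b ∈ B, b ^ 2 = 1 := fun b hb =>
      hinj S₀ _ (Subgroup.pow_mem _ hb.1 2) (by rw [map_pow]; exact hA'2 _ hb.2)
    set B' : Subgroup ↥((S₀ : Subgroup G) ⊓ (T : Subgroup G)) := B.subgroupOf _ with hB'
    have hBle : B ≤ (S₀ : Subgroup G) ⊓ (T : Subgroup G) := le_inf inf_le_left hBT'
    haveI : IsMulCommutative B' := ⟨⟨fun a b => by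
      apply Subtype.ext; apply Subtype.ext
      have ha : ((a : ↥((S₀ : Subgroup G) ⊓ (T : Subgroup G))) : G) ∈ B := Subgroup.mem_subgroupOf.1 a.2
      have hb : ((b : ↥((S₀ : Subgroup G) ⊓ (T : Subgroup G))) : G) ∈ B := Subgroup.mem_subgroupOf.1 b.2
      have hab := hB2 _ (mul_mem ha hb)
      have ha2 := hB2 _ ha
      have hb2 := hB2 _ hb
      rw [pow_two] at hab ha2 hb2
      have := eq_inv_of_mul_eq_one_left hab
      rw [mul_inv_rev, ← eq_inv_of_mul_eq_one_left hb2, ← eq_inv_of_mul_eq_one_left ha2] at this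
      simpa using this⟩⟩
    have h := hI S₀ T hne B' inferInstance fun b hb =>
      Subtype.ext (by rw [SubgroupClass.coe_pow]; exact hB2 _ (Subgroup.mem_subgroupOf.1 hb))
    rw [hB', Nat.card_congr (Subgroup.subgroupOfEquivOfLe hBle).toEquiv] at h
    omega
  rcases CfsgLib.TwoGroups.SolvableQuaternionCore.classify (G ⧸ O)
    CfsgLib.Involution.ZStar.oddCore_quotient hrank with h | h | h
  · exact Or.inl h
  · exact Or.inr (Or.inl h)
  · exact Or.inr (Or.inr h)

end Cfsg.Agent.S3304
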