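import Cfsg.Statements.S3309
import Cfsg.Agent.Lib.BrauerSuzuki.Main
import Cfsg.Agent.Lib.Blocks.Parts
import Cfsg.Agent.Lib.Fusion.ThompsonTransfer
import Cfsg.Agent.Lib.Involution.ZStar.Reduction

set_option autoImplicit false
open Cfsg

namespace Cfsg.Agent.S3309
abbrev HH := Multiplicative (ZMod 2) × DihedralGroup 4

def zH : HH := (Multiplicative.ofAdd 1, 1)
def tH : HH := (1, DihedralGroup.r 2)
def wH : HH := (Multiplicative.ofAdd 1, DihedralGroup.r 2)
def lab : Fin 4 → HH := ![(1, DihedralGroup.sr 0), (1, DihedralGroup.sr 1),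
  (Multiplicative.ofAdd 1, DihedralGroup.sr 0), (Multiplicative.ofAdd 1, DihedralGroup.sr 1)]

def par (a b : ZMod 2) : HH → ZMod 2 := fun h =>
  Multiplicative.toAdd h.1 + match h.2 with
    | DihedralGroup.r j => b * (j.val : ZMod 2)
    | DihedralGroup.sr j => a + b * (j.val : ZMod 2)

theorem par_mul : ∀ (a b : ZMod 2) (x y : HH), par a b (x * y) = par a b x + par a b y := by decide

theorem par_one : ∀ a b : ZMod 2, par a b 1 = 0 := by decide

def kerPar (a b : ZMod 2) : Subgroup HH where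
  carrier := {h | par a b h = 0}
  one_mem' := par_one a b
  mul_mem' := fun {x y} hx hy => by
    show par a b (x * y) = 0
    rw [par_mul, show par a b x = 0 from hx, show par a b y = 0 from hy, add_zero]
  inv_mem' := fun {x} hx => by
    show par a b x⁻¹ = 0
    have := par_mul a b x x⁻¹
    rw [mul_inv_cancel, show par a b x = 0 from hx, zero_add] at this
    rw [← this]
    exact par_one a b

theorem card_kerPar : ∀ a b : ZMod 2, Fintype.card {h : HH // par a b h = 0} = 8 := by decide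

theorem par_z : ∀ a b : ZMod 2, par a b zH ≠ 0 ∧ par a b wH ≠ 0 := by decide

theorem inv_cases : ∀ h : HH, h * h = 1 → h ≠ 1 → h = zH ∨ h = tH ∨ h = wH ∨ ∃ i, ∃ c : HH, c * lab i * c⁻¹ = h := by
  decide

theorem sq_cases : ∀ h : HH, h * h = 1 ∨ h * h = tH := by decide

theorem zero_or_one : ∀ (a b : ZMod 2) (i : Fin 4) (c : HH), par a b (c * lab i * c⁻¹) = 0 →
    par a b (lab i) = 0 := by decide

theorem lab_pairs : ∀ i : Fin 4, par 0 0 (lab i) = 0 → i = 0 ∨ i = 1 := by decide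
theorem lab_pairs1 : ∀ i : Fin 4, par 0 1 (lab i) = 0 → i = 0 ∨ i = 3 := by decide
theorem lab_pairs2 : ∀ i : Fin 4, par 1 1 (lab i) = 0 → i = 2 ∨ i = 1 := by decide
theorem lab_pairs3 : ∀ i : Fin 4, par 1 0 (lab i) = 0 → i = 2 ∨ i = 3 := by decide

theorem central_HH : ∀ h : HH, zH * h = h * zH ∧ tH * h = h * tH ∧ wH * h = h * wH := by decide

theorem zwt : zH * zH = 1 ∧ wH * wH = 1 ∧ tH * tH = 1 ∧ zH ≠ 1 ∧ wH ≠ 1 ∧ tH ≠ 1 ∧ zH * tH = wH ∧
    ∃ r : HH, r * r = tH := by decide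


/-- A finite group whose Sylow 2-subgroups are isomorphic to the direct product of a group of order 2 and the dihedral group of order 8 is not a non-abelian simple group. -/
theorem result {G : Type*} [Group G] [Finite G] (S : Sylow 2 G) (hS : Nonempty (↥(S : Subgroup G) ≃* Multiplicative (ZMod 2) × DihedralGroup 4))
    [IsSimpleGroup G] (hG : ¬ IsMulCommutative G) : False := by
  classical
  haveI : Fintype G := Fintype.ofFinite G
  haveI := Fact.mk Nat.prime_two
  obtain ⟨e⟩ := hS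
  let ι : HH →* G := (S : Subgroup G).subtype.comp e.symm.toMonoidHom
  have hι : Function.Injective ι := Subtype.val_injective.comp e.symm.injective
  have hιS : ∀ h, ι h ∈ (S : Subgroup G) := fun h => (e.symm h).2
  have hsurj : ∀ s ∈ (S : Subgroup G), ∃ h, ι h = s := fun s hs =>
    ⟨e ⟨s, hs⟩, congrArg Subtype.val (e.symm_apply_apply ⟨s, hs⟩)⟩
  have hcard : Nat.card ↥(S : Subgroup G) = 16 := by
    rw [Nat.card_congr e.toEquiv, Nat.card_eq_fintype_card]; rfl
  have h16 : 16 ∣ Nat.card G := hcard ▸ Subgroup.card_subgroup_dvd_card _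
  have hnoidx : ∀ M : Subgroup G, M.Normal → M.index ≠ 2 := by
    intro M hM h
    rcases hM.eq_bot_or_eq_top with rfl | rfl
    · rw [Subgroup.index_bot] at h
      rw [h] at h16; norm_num at h16
    · rw [Subgroup.index_top] at h; omega
  have hO : Cfsg.oddCore G = ⊥ := by
    rcases (CfsgLib.Involution.ZStar.oddCore_normal (G := G)).eq_bot_or_eq_top with h | h
    · exact h
    · have := CfsgLib.Involution.ZStar.odd_card_oddCore (G := G)
      rw [h, Subgroup.card_top] at this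
      obtain ⟨q, hq⟩ := h16
      rw [hq, Nat.odd_iff] at this
      omega
  obtain ⟨hzz, hww, htt, hz1, hw1, ht1, hztw, r0, hr0⟩ := zwt
  have hcent : ∀ h, h = zH ∨ h = tH ∨ h = wH → ι h ∈ Subgroup.centralizer ((S : Subgroup G) : Set G) := by
    intro h hh
    rw [Subgroup.mem_centralizer_iff]
    intro s hs
    obtain ⟨k, rfl⟩ := hsurj s hs
    rw [← map_mul, ← map_mul]
    congr 1
    rcases hh with rfl | rfl | rfl
    exacts [(central_HH k).1.symm, (central_HH k).2.1.symm, (central_HH k).2.2.symm]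
  -- fusion of central involutions
  have hfix : ∀ n ∈ Subgroup.normalizer ((S : Subgroup G) : Set G), n * ι tH * n⁻¹ = ι tH := by
    intro n hn
    obtain ⟨k, hk⟩ := hsurj _ ((Subgroup.mem_normalizer_iff.mp hn _).mp (hιS r0))
    have he : n * ι tH * n⁻¹ = ι (k * k) := by rw [map_mul, hk, ← hr0, map_mul]; group
    rcases sq_cases k with h | h
    · rw [h, map_one, conj_eq_one_iff] at he
      exact absurd (hι (he.trans (map_one ι).symm)) ht1
    · rw [he, h]
  have hzw : ∀ n ∈ Subgroup.normalizer ((S : Subgroup G) : Set G), n * ι zH * n⁻¹ ≠ ι wH := by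
    intro n hn hzn
    obtain ⟨n2, n', -, hnn, hcomm, hreg, ⟨j, hj⟩, hm2, hm'⟩ := CfsgLib.Blocks.exists_isPPart Nat.prime_two n
    have hle : Subgroup.zpowers n ≤ Subgroup.normalizer ((S : Subgroup G) : Set G) := Subgroup.zpowers_le.mpr hn
    have hn2S : n2 ∈ (S : Subgroup G) := by
      have hp : IsPGroup 2 (Subgroup.zpowers n2) := IsPGroup.of_card (n := j) (by rw [Nat.card_zpowers, hj])
      have := hp.inf_normalizer_sylow S
      have h1 : n2 ∈ Subgroup.zpowers n2 ⊓ Subgroup.normalizer ((S : Subgroup G) : Set G) :=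
        ⟨Subgroup.mem_zpowers _, hle hm2⟩
      exact (this.le h1).2
    have hn' : n' ∈ Subgroup.normalizer ((S : Subgroup G) : Set G) := hle hm'
    have hzn' : n' * ι zH * n'⁻¹ = ι wH := by
      have hc := Subgroup.mem_centralizer_iff.mp (hcent wH (Or.inr (Or.inr rfl))) n2 hn2S
      have e1 : n * ι zH * n⁻¹ = n2 * (n' * ι zH * n'⁻¹) * n2⁻¹ := by rw [← hnn]; group
      rw [e1] at hzn
      calc n' * ι zH * n'⁻¹ = n2⁻¹ * (n2 * (n' * ι zH * n'⁻¹) * n2⁻¹) * n2 := by group
        _ = n2⁻¹ * (ι wH * n2) := by rw [hzn, mul_assoc]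
        _ = ι wH := by rw [← hc, inv_mul_cancel_left]
    have hz2 : n' * ι wH * n'⁻¹ = ι zH := by
      have e1 : n' * ι wH * n'⁻¹ = (n' * ι zH * n'⁻¹) * (n' * ι tH * n'⁻¹) := by rw [← hztw, map_mul]; group
      rw [e1, hzn', hfix n' hn', ← map_mul, ← hztw, mul_assoc, htt, mul_one]
    have hc2 : Commute (n' ^ 2) (ι zH) := by
      refine mul_inv_eq_iff_eq_mul.mp ?_
      calc n' ^ 2 * ι zH * (n' ^ 2)⁻¹ = n' * (n' * ι zH * n'⁻¹) * n'⁻¹ := by rw [sq]; group
        _ = ι zH := by rw [hzn', hz2]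
    obtain ⟨m, hm⟩ := exists_pow_eq_self_of_coprime (x := n') (n := 2)
      ((Nat.Prime.coprime_iff_not_dvd Nat.prime_two).mpr hreg)
    have hc1 : Commute n' (ι zH) := hm ▸ hc2.pow_left m
    rw [hc1.eq, mul_inv_cancel_right] at hzn'
    have : zH = wH := hι hzn'
    rw [← hztw, left_eq_mul] at this
    exact ht1 this
  have hne : ∀ x y : HH, (x = zH ∧ y = wH) ∨ (x = tH ∧ y = zH) ∨ (x = tH ∧ y = wH) → ¬ IsConj (ι x) (ι y) := by
    intro x y hxy hc
    obtain ⟨g, hg⟩ := isConj_iff.mp hc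
    obtain ⟨n, hn, hn'⟩ := CfsgLib.Fusion.Transfer.burnside_central S
      (hcent x (by rcases hxy with ⟨h, -⟩ | ⟨h, -⟩ | ⟨h, -⟩ <;> simp [h]))
      (hcent y (by rcases hxy with ⟨-, h⟩ | ⟨-, h⟩ | ⟨-, h⟩ <;> simp [h])) ⟨g, hg⟩
    rcases hxy with ⟨rfl, rfl⟩ | ⟨rfl, rfl⟩ | ⟨rfl, rfl⟩
    · exact hzw n hn hn'
    · have h := hι ((hfix n hn).symm.trans hn')
      rw [← h] at hztw
      rw [htt] at hztw
      exact hw1 hztw.symm
    · have h := hι ((hfix n hn).symm.trans hn')
      rw [← hztw, right_eq_mul] at h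
      exact hz1 h
  -- transfer
  have hcover : ∀ x : HH, x = zH ∨ x = wH → ∀ a b : ZMod 2, ∃ i, par a b (lab i) = 0 ∧ IsConj (ι x) (ι (lab i)) := by
    intro x hx a b
    let Q : Subgroup G := (kerPar a b).map ι
    have hQS : Q ≤ (S : Subgroup G) := by rintro _ ⟨h, -, rfl⟩; exact hιS h
    have hQi : Q.relIndex (S : Subgroup G) = 2 := by
      have hc : Nat.card (kerPar a b) = 8 := by
        rw [Nat.card_eq_fintype_card, ← card_kerPar a b]
        exact Fintype.card_congr (Equiv.refl _)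
      have h := (Q.subgroupOf (S : Subgroup G)).card_mul_index
      rw [Nat.card_congr (Subgroup.subgroupOfEquivOfLe hQS).toEquiv,
        Subgroup.card_map_of_injective hι, hc, hcard] at h
      rw [Subgroup.relIndex]; omega
    have hxQ : ι x ∉ Q := by
      rintro ⟨h, hh, he⟩
      rw [hι he] at hh
      rcases hx with rfl | rfl
      exacts [(par_z a b).1 hh, (par_z a b).2 hh]
    have hx2 : ι x ^ 2 = 1 := by
      rw [← map_pow, sq]; rcases hx with rfl | rfl <;> simp [hzz, hww]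
    rcases CfsgLib.Fusion.ThompsonTransfer.thompson_transfer S Q hQS hQi (ι x) hx2 (hιS x) hxQ with
      ⟨M, hM, hMi, -⟩ | ⟨g, k, hk, hgk⟩
    · exact absurd hMi (hnoidx M hM)
    · have hconj : IsConj (ι x) (ι k) := isConj_iff.mpr ⟨g, hgk.symm⟩
      have hk2 : k * k = 1 := hι (by
        rw [map_mul, hgk, map_one, show g * ι x * g⁻¹ * (g * ι x * g⁻¹) = g * (ι x * ι x) * g⁻¹ by group,
          ← sq, hx2, mul_one, mul_inv_cancel])
      have hk1 : k ≠ 1 := fun h => by
        rw [h, map_one] at hgk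
        have : ι x = 1 := conj_eq_one_iff.mp hgk.symm
        rw [← map_one ι] at this
        rcases hx with rfl | rfl
        exacts [hz1 (hι this), hw1 (hι this)]
      rcases inv_cases k hk2 hk1 with rfl | rfl | rfl | ⟨i, c, rfl⟩
      · exact absurd hk (par_z a b).1
      · rcases hx with rfl | rfl
        · exact absurd hconj.symm (hne _ _ (Or.inr (Or.inl ⟨rfl, rfl⟩)))
        · exact absurd hconj.symm (hne _ _ (Or.inr (Or.inr ⟨rfl, rfl⟩)))
      · exact absurd hk (par_z a b).2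
      · refine ⟨i, zero_or_one a b i c hk, hconj.trans (isConj_iff.mpr ⟨(ι c)⁻¹, ?_⟩)⟩
        rw [map_mul, map_mul, map_inv]; group
  have hiso : Cfsg.IsIsolatedInvolution (ι tH) := by
    have ho : orderOf (ι tH) = 2 := by
      rw [orderOf_injective ι hι]
      exact orderOf_eq_prime (by rw [sq, htt]) ht1
    refine (CfsgLib.Involution.Isolated.isolated_iff_sylow ho (P := S) (hιS tH)).mpr fun g hg => ?_
    obtain ⟨k, hk⟩ := hsurj _ hg
    have hconj : IsConj (ι tH) (ι k) := isConj_iff.mpr ⟨g, hk.symm⟩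
    have hk2 : k * k = 1 := hι (by
      rw [map_mul, hk, map_one, show g * ι tH * g⁻¹ * (g * ι tH * g⁻¹) = g * (ι tH * ι tH) * g⁻¹ by group,
        ← map_mul, htt, map_one, mul_one, mul_inv_cancel])
    have hk1 : k ≠ 1 := fun h => by
      rw [h, map_one] at hk
      exact ht1 (hι ((conj_eq_one_iff.mp hk.symm).trans (map_one ι).symm))
    rcases inv_cases k hk2 hk1 with rfl | rfl | rfl | ⟨i, c, rfl⟩
    · exact absurd hconj (hne _ _ (Or.inr (Or.inl ⟨rfl, rfl⟩)))
    · exact hk.symm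
    · exact absurd hconj (hne _ _ (Or.inr (Or.inr ⟨rfl, rfl⟩)))
    · exfalso
      have hti : IsConj (ι tH) (ι (lab i)) := hconj.trans (isConj_iff.mpr ⟨(ι c)⁻¹, by rw [map_mul, map_mul, map_inv]; group⟩)
      let Zr : Fin 4 → Prop := fun j => IsConj (ι zH) (ι (lab j))
      let Wr : Fin 4 → Prop := fun j => IsConj (ι wH) (ι (lab j))
      have hpair : ∀ x, x = zH ∨ x = wH → ∀ (a b : ZMod 2) (p q : Fin 4),
          (∀ j, par a b (lab j) = 0 → j = p ∨ j = q) →
          IsConj (ι x) (ι (lab p)) ∨ IsConj (ι x) (ι (lab q)) := by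
        intro x hx a b p q hpq
        obtain ⟨j, hj, hc'⟩ := hcover x hx a b
        rcases hpq j hj with rfl | rfl
        exacts [Or.inl hc', Or.inr hc']
      have d : ∀ j, Zr j → Wr j → False := fun j h1 h2 => hne _ _ (Or.inl ⟨rfl, rfl⟩) (h1.trans h2.symm)
      have tz : ¬ Zr i := fun h => hne _ _ (Or.inr (Or.inl ⟨rfl, rfl⟩)) (hti.trans h.symm)
      have tw : ¬ Wr i := fun h => hne _ _ (Or.inr (Or.inr ⟨rfl, rfl⟩)) (hti.trans h.symm)
      have a1 : Zr 0 ∨ Zr 1 := hpair _ (Or.inl rfl) 0 0 0 1 lab_pairs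
      have a2 : Zr 0 ∨ Zr 3 := hpair _ (Or.inl rfl) 0 1 0 3 lab_pairs1
      have a3 : Zr 2 ∨ Zr 1 := hpair _ (Or.inl rfl) 1 1 2 1 lab_pairs2
      have a4 : Zr 2 ∨ Zr 3 := hpair _ (Or.inl rfl) 1 0 2 3 lab_pairs3
      have b1 : Wr 0 ∨ Wr 1 := hpair _ (Or.inr rfl) 0 0 0 1 lab_pairs
      have b2 : Wr 0 ∨ Wr 3 := hpair _ (Or.inr rfl) 0 1 0 3 lab_pairs1
      have b3 : Wr 2 ∨ Wr 1 := hpair _ (Or.inr rfl) 1 1 2 1 lab_pairs2
      have b4 : Wr 2 ∨ Wr 3 := hpair _ (Or.inr rfl) 1 0 2 3 lab_pairs3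
      have d0 := d 0; have d1 := d 1; have d2 := d 2; have d3 := d 3
      clear hcover hpair d hconj hti
      have zc : (Zr 0 ∧ Zr 2) ∨ (Zr 1 ∧ Zr 3) := by
        rcases a1 with h | h
        · rcases a3 with h' | h'
          · exact Or.inl ⟨h, h'⟩
          · exact a4.imp (fun h'' => ⟨h, h''⟩) fun h'' => ⟨h', h''⟩
        · rcases a2 with h' | h'
          · exact a4.imp (fun h'' => ⟨h', h''⟩) fun h'' => ⟨h, h''⟩
          · exact Or.inr ⟨h, h'⟩
      have wc : (Wr 0 ∧ Wr 2) ∨ (Wr 1 ∧ Wr 3) := by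
        rcases b1 with h | h
        · rcases b3 with h' | h'
          · exact Or.inl ⟨h, h'⟩
          · exact b4.imp (fun h'' => ⟨h, h''⟩) fun h'' => ⟨h', h''⟩
        · rcases b2 with h' | h'
          · exact b4.imp (fun h'' => ⟨h', h''⟩) fun h'' => ⟨h, h''⟩
          · exact Or.inr ⟨h, h'⟩
      rcases zc with ⟨p, q⟩ | ⟨p, q⟩ <;> rcases wc with ⟨r, v⟩ | ⟨r, v⟩
      · exact d0 p r
      · fin_cases i
        exacts [tz p, tw r, tz q, tw v]
      · fin_cases i
        exacts [tw r, tz p, tw v, tz q]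
      · exact d1 p r
  have hstar := CfsgLib.Involution.ZStar.starCentral_of
    (fun H _ _ P n e' hO' => CfsgLib.BrauerSuzuki.card_center_eq_two P n e' hO') G (ι tH) hiso
  have htc : ι tH ∈ Subgroup.center G := Subgroup.mem_center_iff.mpr fun g => by
    have := hstar g
    rw [hO, Subgroup.mem_bot, mul_inv_eq_one, mul_inv_eq_iff_eq_mul] at this
    exact this.symm
  rcases (inferInstance : (Subgroup.center G).Normal).eq_bot_or_eq_top with h | h
  · rw [h, Subgroup.mem_bot] at htc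
    exact ht1 (hι (htc.trans (map_one ι).symm))
  · exact hG ⟨⟨fun a b => Subgroup.mem_center_iff.mp (h ▸ Subgroup.mem_top b) a⟩⟩

end Cfsg.Agent.S3309
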