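import Cfsg.Statements.S3312
import Cfsg.Agent.Lib.Involution.WeakCosetCriterion

set_option autoImplicit false
open Cfsg

namespace Cfsg.Agent.S3312

/-- A non-simplicity criterion by weak closure. Let T be a Sylow 2-subgroup of a finite group G, W a nontrivial subgroup of the centre of T that is weakly closed in T with respect to G, and t an involution of T outside W. Suppose that for every involution x in the coset Wt, W lies in O_{2',2}(C_G(x)), the preimage of O₂ of C_G(x)/O_{2'}(C_G(x)). Then G is not simple. -/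
theorem result {G : Type*} [Group G] [Finite G]
    (T : Sylow 2 G) (W : Subgroup G) (hW1 : W ≠ ⊥) (hWZ : W ≤ (T : Subgroup G) ⊓ Subgroup.centralizer ((T : Subgroup G) : Set G))
    (hwc : Cfsg.IsWeaklyClosed W (T : Subgroup G)) (t : G) (ht : orderOf t = 2) (htT : t ∈ (T : Subgroup G)) (htW : t ∉ W)
    (hcos : ∀ w ∈ W, orderOf (w * t) = 2 →
      W.subgroupOf (Subgroup.centralizer ({w * t} : Set G)) ≤ Cfsg.pPrimePCore 2 ↥(Subgroup.centralizer ({w * t} : Set G))) :
    ¬ IsSimpleGroup G := by
  exact CfsgLib.Involution.WeakCoset.not_isSimpleGroup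
    ⟨fun w hw => (hWZ hw).1, fun w hw s hs => ((hWZ hw).2 s hs).symm, hwc⟩ hW1 ht htT htW hcos

end Cfsg.Agent.S3312
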