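import Cfsg.Statements.S3313
import Cfsg.Agent.Lib.Characterizations.HallJankoCount
import Cfsg.Agent.Lib.Involution.OrderFormula
import Cfsg.Agent.Lib.LocalEvenB.CharP
import Cfsg.Agent.Lib.Fusion.Thompson
import Cfsg.Agent.Lib.ThompsonWielandt.Basic

set_option autoImplicit false
set_option linter.style.haveILetI false
open Cfsg

namespace Cfsg.Agent.S3313

/-- The order of a simple group with the involution pattern of the Hall–Janko group. Let G be a non-abelian finite simple group with exactly two conjugacy classes of involutions, represented by z and t, such that: F*(C_G(z)) is an extraspecial 2-group; Q = O₂(C_G(z)) has order 32 and C_G(z) is the semidirect product of Q by a subgroup isomorphic to A₅; every involution of Q is conjugate to z and every other involution of C_G(z) is conjugate to t; C_G(t) is an internal direct product V × B with V a four-group containing t and B ≅ A₅; every involution of B is conjugate to z and every other involution of C_G(t) is conjugate to t. Then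 |G| = 604800. -/
theorem result {G : Type*} [Group G] [Finite G]
    [IsSimpleGroup G] (hna : ¬ IsMulCommutative G) (z t : G) (hz : orderOf z = 2) (ht : orderOf t = 2)
    (hzt : ¬ IsConj z t) (hcl : ∀ x : G, orderOf x = 2 → IsConj x z ∨ IsConj x t)
    (hex : Cfsg.IsExtraspecial 2 ↥(Cfsg.generalizedFittingSubgroup ↥(Subgroup.centralizer ({z} : Set G))))
    (hQ : Nat.card ↥(Cfsg.pCore 2 ↥(Subgroup.centralizer ({z} : Set G))) = 32)
    (K : Subgroup G) (hK : Nonempty (↥K ≃* alternatingGroup (Fin 5)))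
    (hKC : K ⊔ (Cfsg.pCore 2 ↥(Subgroup.centralizer ({z} : Set G))).map (Subgroup.centralizer ({z} : Set G)).subtype = Subgroup.centralizer ({z} : Set G))
    (hKQ : K ⊓ (Cfsg.pCore 2 ↥(Subgroup.centralizer ({z} : Set G))).map (Subgroup.centralizer ({z} : Set G)).subtype = ⊥)
    (hQz : ∀ x ∈ (Cfsg.pCore 2 ↥(Subgroup.centralizer ({z} : Set G))).map (Subgroup.centralizer ({z} : Set G)).subtype, orderOf x = 2 → IsConj x z)
    (hCz : ∀ x ∈ Subgroup.centralizer ({z} : Set G), orderOf x = 2 →
      x ∉ (Cfsg.pCore 2 ↥(Subgroup.centralizer ({z} : Set G))).map (Subgroup.centralizer ({z} : Set G)).subtype → IsConj x t)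
    (V B : Subgroup G) (hVB : Cfsg.IsInternalDirectProduct V B (Subgroup.centralizer ({t} : Set G)))
    (hV : Nat.card ↥V = 4) (hV2 : ∀ v ∈ V, v ^ 2 = 1) (htV : t ∈ V) (hB : Nonempty (↥B ≃* alternatingGroup (Fin 5)))
    (hBz : ∀ x ∈ B, orderOf x = 2 → IsConj x z)
    (hCt : ∀ x ∈ Subgroup.centralizer ({t} : Set G), orderOf x = 2 → x ∉ B → IsConj x t) :
    Nat.card G = 604800 := by
  classical
  haveI : Fact (Nat.Prime 2) := ⟨Nat.prime_two⟩
  have ho : ∀ a w : G, IsConj a w → orderOf a = 2 → orderOf w = 2 := fun a w h h2 => by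
    obtain ⟨c, rfl⟩ := isConj_iff.1 h
    rw [CfsgLib.Involution.Dihedral.orderOf_conj, h2]
  -- the core of the centraliser of `z`
  set C := Subgroup.centralizer ({z} : Set G) with hCdef
  set QG := (Cfsg.pCore 2 ↥C).map C.subtype with hQGdef
  have hQC : QG ≤ C := Subgroup.map_subtype_le _
  have hKC' : K ≤ C := le_sup_left.trans hKC.le
  have hFQ : Cfsg.generalizedFittingSubgroup ↥C = Cfsg.pCore 2 ↥C := by
    refine le_antisymm ?_ ((CfsgLib.Solvable.Cores.pCore_le_fittingSubgroup 2).trans le_sup_right)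
    exact CfsgLib.Solvable.Cores.le_pCore hex.1.1
  have hnormQ : ∀ c ∈ C, ∀ q ∈ QG, c * q * c⁻¹ ∈ QG := by
    rintro c hc _ ⟨q, hq, rfl⟩
    exact ⟨⟨c, hc⟩ * q * ⟨c, hc⟩⁻¹, Subgroup.Normal.conj_mem (CfsgLib.Solvable.Cores.pCore_normal 2) q hq _, by simp⟩
  have hexQ : Cfsg.IsExtraspecial 2 ↥(Cfsg.pCore 2 ↥C) := hFQ ▸ hex
  have hzC : z ∈ C := Subgroup.mem_centralizer_singleton_iff.2 rfl
  have hzn : (Subgroup.zpowers (⟨z, hzC⟩ : ↥C)).Normal := ⟨fun x hx g => by
    obtain ⟨j, rfl⟩ := hx
    refine ⟨j, Subtype.ext ?_⟩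
    have hg : Commute (g : G) z := Subgroup.mem_centralizer_singleton_iff.1 g.2
    simp only [Subgroup.coe_mul, Subgroup.coe_inv, Subgroup.coe_zpow]
    rw [(hg.zpow_right j).eq, mul_inv_cancel_right]⟩
  have hzQ : z ∈ QG := by
    refine ⟨⟨z, hzC⟩, ?_, rfl⟩
    haveI := hzn
    exact CfsgLib.Solvable.Cores.le_pCore (IsPGroup.of_card (n := 1) (by
      rw [Nat.card_zpowers, ← Subgroup.orderOf_coe, hz, pow_one])) (Subgroup.mem_zpowers _)
  have eQ : ↥(Cfsg.pCore 2 ↥C) ≃* ↥QG := Subgroup.equivMapOfInjective _ _ C.subtype_injective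
  have hextra : CfsgLib.ThreeTransp.Extraspecial.Extra QG z := by
    have hQ' : Cfsg.IsExtraspecial 2 ↥QG := CfsgLib.Characterizations.HallJankoCount.isExtraspecial_congr eQ hexQ
    obtain ⟨z', hz'⟩ := CfsgLib.ThreeTransp.Extraspecial.exists_extra hQ'
    rcases hz'.mem_center_cases hzQ (fun q hq => ((Subgroup.mem_centralizer_singleton_iff.1 (hQC hq))).symm) with e | e
    · exact absurd e (CfsgLib.Involution.Dihedral.ne_one hz)
    · exact e ▸ hz'
  have hQ32 : Nat.card QG = 32 := by rw [← Nat.card_congr eQ.toEquiv, hQ]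
  have hS : CfsgLib.Characterizations.HallJankoCount.Setting QG K z :=
    { extra := hextra
      card_Q := hQ32
      norm := fun k hk => hnormQ k (hKC' hk)
      cent := fun k hk => Subgroup.mem_centralizer_singleton_iff.1 (hKC' hk)
      disj := by rw [inf_comm]; exact hKQ
      faith := fun k hk hfix => by
        have h1 : (⟨k, hKC' hk⟩ : ↥C) ∈ Cfsg.pCore 2 ↥C := by
          refine CfsgLib.LocalEvenB.CharP.centralizer_pCore_le_of_generalizedFitting hFQ ?_
          rw [Subgroup.mem_centralizer_iff]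
          intro q hq
          exact Subtype.ext (mul_inv_eq_iff_eq_mul.1 (hfix _ ⟨q, hq, rfl⟩)).symm
        have h2 : k ∈ K ⊓ QG := Subgroup.mem_inf.2 ⟨hk, ⟨⟨k, hKC' hk⟩, h1, rfl⟩⟩
        rwa [hKQ, Subgroup.mem_bot] at h2
      alt := hK }
  obtain ⟨h120, h8⟩ := CfsgLib.Characterizations.HallJankoCount.main hS
  have hnK : K ≤ Subgroup.normalizer (QG : Set G) := fun k hk => by
    refine CfsgLib.ThompsonWielandt.mem_normalizer_of_forall fun q hq => hnormQ k (hKC' hk) q hq
  have hCcard : Nat.card C = 1920 := by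
    have := CfsgLib.Fusion.Thompson.card_sup_mul_card_inf hnK
    rw [inf_comm, hKQ, Subgroup.card_bot, mul_one, sup_comm, hKC, hQ32, Nat.card_congr hK.some.toEquiv] at this
    rw [this, Nat.card_eq_fintype_card]
    rfl
  -- the centraliser of `t`
  obtain ⟨hVC, hBC, hcomm, hVB, hsup⟩ := hVB
  obtain ⟨eB⟩ := hB
  have hnB : B ≤ Subgroup.normalizer (V : Set G) := fun b hb =>
    CfsgLib.ThompsonWielandt.mem_normalizer_of_forall fun v hv => by
      rw [← hcomm v hv b hb, mul_inv_cancel_right]; exact hv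
  have hDcard : Nat.card ↥(Subgroup.centralizer ({t} : Set G)) = 240 := by
    have := CfsgLib.Fusion.Thompson.card_sup_mul_card_inf hnB
    rw [hVB, Subgroup.card_bot, mul_one, hsup, hV, Nat.card_congr eB.toEquiv] at this
    rw [this, Nat.card_eq_fintype_card]
    rfl
  have hdec : ∀ v ∈ Subgroup.centralizer ({t} : Set G), ∃ a ∈ V, ∃ b ∈ B, v = a * b := by
    intro v hv
    rw [← hsup] at hv
    have : v ∈ ((V ⊔ B : Subgroup G) : Set G) := hv
    rw [Subgroup.coe_mul_of_right_le_normalizer_left V B hnB] at this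
    obtain ⟨a, ha, b, hb, rfl⟩ := this
    exact ⟨a, ha, b, hb, rfl⟩
  have hzC_iff : ∀ {x u v : G}, orderOf u = 2 → orderOf v = 2 → orderOf x = 2 →
      (∃ m : ℕ, (u * v) ^ m = x) → Even (orderOf (u * v)) →
      u ∈ Subgroup.centralizer ({x} : Set G) ∧ v ∈ Subgroup.centralizer ({x} : Set G) := by
    intro x u v hu hv hx ⟨m, hm⟩ he
    rw [← CfsgLib.Involution.OrderFormula.eq_half hx hm]
    exact ⟨Subgroup.mem_centralizer_singleton_iff.2 (CfsgLib.Involution.Dihedral.half_commute_left hu hv he).eq.symm,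
      Subgroup.mem_centralizer_singleton_iff.2 (CfsgLib.Involution.Dihedral.half_commute_right hu hv he).eq.symm⟩
  have heven : ∀ {u v : G}, IsConj z u → IsConj t v → Even (orderOf (u * v)) := fun hu hv =>
    CfsgLib.Involution.Dihedral.even_of_not_isConj (ho _ _ hu hz) (ho _ _ hv ht) fun h =>
      hzt ((hu.trans h).trans hv.symm)
  -- pairs for `z`
  have haz : Nat.card (CfsgLib.Involution.OrderFormula.Pairs z t z) = 960 := by
    let S := Σ v : CfsgLib.Characterizations.HallJankoCount.outer QG K,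
      CfsgLib.Characterizations.HallJankoCount.moved QG (v : G)
    have hout : ∀ v ∈ CfsgLib.Characterizations.HallJankoCount.outer QG K,
        v ∈ C ∧ v ∉ QG ∧ IsConj t v := by
      rintro v ⟨q, hq, k, hk, hk1, rfl, hv⟩
      have hvQ : q * k ∉ QG := fun h => hk1 (by
        have : k ∈ K ⊓ QG := Subgroup.mem_inf.2 ⟨hk, by simpa using mul_mem (inv_mem hq) h⟩
        rwa [hKQ, Subgroup.mem_bot] at this)
      have hmem : q * k ∈ C := mul_mem (hQC hq) (hKC' hk)
      refine ⟨hmem, hvQ, (hCz _ hmem (CfsgLib.Involution.Dihedral.orderOf_eq_two hv fun e => hvQ (e ▸ one_mem _)) hvQ).symm⟩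
    let f : S → CfsgLib.Involution.OrderFormula.Pairs z t z := fun s => ⟨((s.2 : G), (s.1 : G)),
      (hQz _ s.2.2.1 s.2.2.2.1).symm, (hout _ s.1.2).2.2, 4, (h8 _ s.1.2).2 _ s.2.2⟩
    have hf : Function.Bijective f := by
      constructor
      · rintro ⟨⟨v, hv⟩, ⟨u, hu⟩⟩ ⟨⟨v', hv'⟩, ⟨u', hu'⟩⟩ e
        have e' : ((u, v) : G × G) = (u', v') := congrArg Subtype.val e
        simp only [Prod.mk.injEq] at e'
        obtain ⟨rfl, rfl⟩ := e'
        rfl
      · rintro ⟨⟨u, v⟩, hu, hv, m, hm⟩
        have hu2 : orderOf u = 2 := ho _ _ hu hz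
        have hv2 : orderOf v = 2 := ho _ _ hv ht
        obtain ⟨huC, hvC⟩ := hzC_iff hu2 hv2 hz ⟨m, hm⟩ (heven hu hv)
        have huQ : u ∈ QG := by
          by_contra h
          exact hzt (hu.trans (hCz u huC hu2 h))
        have hvQ : v ∉ QG := fun h => hzt (((hQz v h hv2).symm.trans hv.symm))
        have hvout : v ∈ CfsgLib.Characterizations.HallJankoCount.outer QG K := by
          have h1 : v ∈ ((K ⊔ QG : Subgroup G) : Set G) := by rw [hKC]; exact hvC
          rw [sup_comm, Subgroup.coe_mul_of_right_le_normalizer_left QG K hnK] at h1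
          obtain ⟨q, hq, k, hk, rfl⟩ := h1
          refine ⟨q, hq, k, hk, fun e => hvQ ?_, rfl, CfsgLib.Involution.Dihedral.mul_self hv2⟩
          simpa [e] using hq
        have hmv : u ∈ CfsgLib.Characterizations.HallJankoCount.moved QG v := by
          refine ⟨huQ, hu2, fun hc => hvQ ?_⟩
          have h2 : (u * v) * (u * v) = 1 := by
            rw [Commute.mul_mul_mul_comm hc.symm, CfsgLib.Involution.Dihedral.mul_self hu2,
              CfsgLib.Involution.Dihedral.mul_self hv2, one_mul]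
          rcases Nat.even_or_odd m with ⟨i, rfl⟩ | ⟨i, rfl⟩
          · rw [← two_mul, pow_mul, pow_two, h2, one_pow] at hm
            exact absurd hm.symm (CfsgLib.Involution.Dihedral.ne_one hz)
          · rw [pow_add, pow_mul, pow_two, h2, one_pow, one_mul, pow_one] at hm
            rw [show v = u * (u * v) by rw [← mul_assoc, CfsgLib.Involution.Dihedral.mul_self hu2, one_mul], hm]
            exact mul_mem huQ hzQ
        exact ⟨⟨⟨v, hvout⟩, ⟨u, hmv⟩⟩, rfl⟩
    rw [← Nat.card_eq_of_bijective f hf]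
    haveI := Fintype.ofFinite (CfsgLib.Characterizations.HallJankoCount.outer QG K)
    rw [Nat.card_sigma, Finset.sum_congr rfl (fun (v : CfsgLib.Characterizations.HallJankoCount.outer QG K) _ =>
        (Nat.card_coe_set_eq (CfsgLib.Characterizations.HallJankoCount.moved QG (v : G))).trans (h8 v.1 v.2).1),
      Finset.sum_const, smul_eq_mul, Finset.card_univ, ← Nat.card_eq_fintype_card, Nat.card_coe_set_eq, h120]
  -- pairs for `t`
  have hat : Nat.card (CfsgLib.Involution.OrderFormula.Pairs z t t) = 195 := by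
    let W := {p : ↥B × ↥B // (orderOf p.1 = 2 ∧ p.2 * p.2 = 1) ∧ ((p.1 * p.2) ^ 3 = 1 ∨ (p.1 * p.2) ^ 5 = 1)}
    have hW : Nat.card W = 195 := by
      rw [← CfsgLib.Characterizations.HallJankoPerm.card_odd_pairs, ← Nat.card_eq_finsetCard]
      let ψ : ↥B →* Equiv.Perm (Fin 5) := (alternatingGroup (Fin 5)).subtype.comp eB.toMonoidHom
      have hψ : Function.Injective ψ := (alternatingGroup (Fin 5)).subtype_injective.comp eB.injective
      have hψs : ∀ b, Equiv.Perm.sign (ψ b) = 1 := fun b => Equiv.Perm.mem_alternatingGroup.1 (eB b).2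
      refine Nat.card_congr (Equiv.ofBijective (fun w => ⟨(ψ w.1.1, ψ w.1.2), ?_⟩) ⟨fun w w' e => ?_, fun σ => ?_⟩)
      · simp only [Finset.mem_filter, Finset.mem_product, Finset.mem_univ, true_and, hψs, ← map_mul, ← map_pow]
        refine ⟨⟨⟨by rw [CfsgLib.Involution.Dihedral.mul_self w.2.1.1, map_one], fun e =>
          CfsgLib.Involution.Dihedral.ne_one w.2.1.1 (hψ (e.trans (map_one ψ).symm))⟩,
          by rw [w.2.1.2, map_one]⟩, ?_⟩
        rcases w.2.2 with e | e
        · left; rw [e, map_one]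
        · right; rw [e, map_one]
      · have e' := congrArg Subtype.val e
        simp only [Prod.mk.injEq] at e'
        exact Subtype.ext (Prod.ext (hψ e'.1) (hψ e'.2))
      · obtain ⟨⟨σ, τ⟩, hστ⟩ := σ
        simp only [Finset.mem_filter, Finset.mem_product, Finset.mem_univ, true_and] at hστ
        obtain ⟨⟨⟨hσs, hσ2, hσ1⟩, hτs, hτ2⟩, hp⟩ := hστ
        let u : ↥B := eB.symm ⟨σ, Equiv.Perm.mem_alternatingGroup.2 hσs⟩
        let b : ↥B := eB.symm ⟨τ, Equiv.Perm.mem_alternatingGroup.2 hτs⟩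
        have hu : ψ u = σ := by simp [ψ, u]
        have hb : ψ b = τ := by simp [ψ, b]
        refine ⟨⟨(u, b), ⟨CfsgLib.Involution.Dihedral.orderOf_eq_two (hψ (by rw [map_mul, hu, hσ2, map_one]))
          fun e => hσ1 (by rw [← hu]; simp only at e; rw [e, map_one]), hψ (by rw [map_mul, hb, hτ2, map_one])⟩, ?_⟩, ?_⟩
        · rcases hp with e | e
          · left; exact hψ (by rw [map_pow, map_mul, hu, hb, e, map_one])
          · right; exact hψ (by rw [map_pow, map_mul, hu, hb, e, map_one])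
        · exact Subtype.ext (Prod.ext hu hb)
    have htB : t ∉ B := fun h => CfsgLib.Involution.Dihedral.ne_one ht (by
      have : t ∈ V ⊓ B := Subgroup.mem_inf.2 ⟨htV, h⟩
      rwa [hVB, Subgroup.mem_bot] at this)
    have hcb : ∀ b ∈ B, Commute t b := fun b hb => hcomm t htV b hb
    have hW' : ∀ w : W, (IsConj z ((w.1.1 : ↥B) : G) ∧ IsConj t (t * ((w.1.2 : ↥B) : G)) ∧
        ∃ m : ℕ, (((w.1.1 : ↥B) : G) * (t * ((w.1.2 : ↥B) : G))) ^ m = t) := by
      rintro ⟨⟨u, b⟩, ⟨hu, hb⟩, hp⟩
      have hu' : orderOf (u : G) = 2 := by rw [Subgroup.orderOf_coe, hu]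
      have htb : t * (b : G) ∉ B := fun h => htB (by simpa using mul_mem h (inv_mem b.2))
      have hsq : t * (b : G) * (t * b) = 1 := by
        rw [Commute.mul_mul_mul_comm (hcb b b.2).symm, CfsgLib.Involution.Dihedral.mul_self ht, one_mul,
          ← Subgroup.coe_mul, hb, Subgroup.coe_one]
      refine ⟨(hBz _ u.2 hu').symm, (hCt _ (mul_mem (Subgroup.mem_centralizer_singleton_iff.2 rfl) (hBC b.2))
        (CfsgLib.Involution.Dihedral.orderOf_eq_two hsq fun e => htb (by rw [e]; exact one_mem _)) htb).symm, 15, ?_⟩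
      have e : ((u : G) * (t * (b : G))) = t * ((u * b : ↥B) : G) := by
        rw [Subgroup.coe_mul, ← mul_assoc, ← (hcb u u.2).eq, mul_assoc]
      have h15 : (u * b) ^ 15 = 1 := by
        rcases hp with e3 | e5
        · rw [show 15 = 3 * 5 from rfl, pow_mul, e3, one_pow]
        · rw [show 15 = 5 * 3 from rfl, pow_mul, e5, one_pow]
      rw [e, (hcb _ (u * b).2).mul_pow, ← Subgroup.coe_pow, h15, Subgroup.coe_one, mul_one,
        show (15 : ℕ) = 2 * 7 + 1 from rfl, pow_add, pow_mul, pow_two, CfsgLib.Involution.Dihedral.mul_self ht,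
        one_pow, one_mul, pow_one]
    let f : W → CfsgLib.Involution.OrderFormula.Pairs z t t := fun w => ⟨(_, _), hW' w⟩
    have hf : Function.Bijective f := by
      constructor
      · rintro ⟨⟨u, b⟩, hw⟩ ⟨⟨u', b'⟩, hw'⟩ e
        have e' : (((u : G), t * (b : G)) : G × G) = ((u' : G), t * (b' : G)) := congrArg Subtype.val e
        simp only [Prod.mk.injEq, mul_right_inj, Subtype.val_inj] at e'
        obtain ⟨rfl, rfl⟩ := e'
        rfl
      · rintro ⟨⟨u, v⟩, hu, hv, m, hm⟩
        have hu2 : orderOf u = 2 := ho _ _ hu hz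
        have hv2 : orderOf v = 2 := ho _ _ hv ht
        obtain ⟨huC, hvC⟩ := hzC_iff hu2 hv2 ht ⟨m, hm⟩ (heven hu hv)
        have huB : u ∈ B := by
          by_contra h
          exact hzt (hu.trans (hCt u huC hu2 h))
        obtain ⟨a, ha, b, hb, rfl⟩ := hdec v hvC
        have hab : Commute a b := hcomm a ha b hb
        have ha2 : a * a = 1 := by rw [← pow_two]; exact hV2 a ha
        have hb2 : b * b = 1 := by
          have := CfsgLib.Involution.Dihedral.mul_self hv2
          rwa [Commute.mul_mul_mul_comm hab.symm, ha2, one_mul] at this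
        have hw : u * (a * b) = a * (u * b) := by
          rw [← mul_assoc, ← (show Commute a u from hcomm a ha u huB).eq, mul_assoc]
        simp only at hm
        rw [hw, Commute.mul_pow (hcomm a ha _ (mul_mem huB hb))] at hm
        have hmem : a⁻¹ ^ m * t ∈ V ⊓ B := Subgroup.mem_inf.2 ⟨mul_mem (pow_mem (inv_mem ha) m) htV, by
          rw [← hm, inv_pow, inv_mul_cancel_left]; exact pow_mem (mul_mem huB hb) m⟩
        rw [hVB, Subgroup.mem_bot, inv_pow, inv_mul_eq_one] at hmem
        rw [hmem, mul_eq_left] at hm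
        have hodd : Odd m := by
          rcases Nat.even_or_odd m with ⟨i, rfl⟩ | h
          · exfalso
            rw [← two_mul, pow_mul, pow_two, ha2, one_pow] at hmem
            exact CfsgLib.Involution.Dihedral.ne_one ht hmem.symm
          · exact h
        have hat : a = t := by
          obtain ⟨i, rfl⟩ := hodd
          rw [← hmem, pow_add, pow_mul, pow_two, ha2, one_pow, one_mul, pow_one]
        have hp : ((⟨u, huB⟩ : ↥B) * ⟨b, hb⟩) ^ 3 = 1 ∨ ((⟨u, huB⟩ : ↥B) * ⟨b, hb⟩) ^ 5 = 1 := by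
          set w : ↥B := ⟨u, huB⟩ * ⟨b, hb⟩ with hwdef
          have hwm : w ^ m = 1 := Subtype.ext (by rw [Subgroup.coe_pow, Subgroup.coe_one]; exact hm)
          rcases CfsgLib.Characterizations.HallJankoPerm.pow_thirty _
              (Equiv.Perm.mem_alternatingGroup.1 (eB w).2) with e | e | e <;>
            rw [← Subgroup.coe_pow, ← Subgroup.coe_one, Subtype.val_inj, ← map_pow, ← map_one eB, eB.injective.eq_iff] at e
          · left
            obtain ⟨i, rfl⟩ := hodd
            rw [pow_add, pow_mul, e, one_pow, one_mul, pow_one] at hwm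
            rw [hwm, one_pow]
          · exact Or.inl e
          · exact Or.inr e
        refine ⟨⟨(⟨u, huB⟩, ⟨b, hb⟩), ⟨by rw [← Subgroup.orderOf_coe]; exact hu2, Subtype.ext hb2⟩, hp⟩,
          Subtype.ext (Prod.ext rfl ?_)⟩
        show t * b = a * b
        rw [hat]
    rw [← Nat.card_eq_of_bijective f hf, hW]
  rw [CfsgLib.Involution.OrderFormula.card_eq z t hz ht hzt (fun x hx => (hcl x hx).imp IsConj.symm IsConj.symm),
    haz, hat, hDcard, ← hCdef, hCcard]

end Cfsg.Agent.S3313
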