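import Cfsg.Statements.S3315
import Cfsg.Agent.Lib.RankOne.UnitaryIndexTwo

set_option autoImplicit false
open Cfsg

namespace Cfsg.Agent.S3315

/-- Let S be a Sylow 2-subgroup of SU₃(2ⁿ), n ≥ 2 (realised over the field with 4ⁿ elements). If a finite 2-group R contains a subgroup S' of index 2 isomorphic to S, then the centre of S' is contained in the centre of R. -/
theorem result {R : Type*} [Group R] [Finite R]
    (hR : IsPGroup 2 R) (n : ℕ) (hn : 2 ≤ n) {F : Type*} [Field F] [Fintype F] (hF : Fintype.card F = 4 ^ n)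
    (P : Sylow 2 ↥(Cfsg.SU 3 F (2 ^ n))) (S' : Subgroup R) (hS : Nonempty (↥S' ≃* ↥(P : Subgroup ↥(Cfsg.SU 3 F (2 ^ n)))))
    (hidx : S'.index = 2) :
    (Subgroup.center ↥S').map S'.subtype ≤ Subgroup.center R := by
  haveI : CharP F 2 := charP_of_card_eq_prime_pow (p := 2) (f := 2 * n) (hp := ⟨Nat.prime_two⟩)
    (by rw [hF, pow_mul, show (2 : ℕ) ^ 2 = 4 by norm_num])
  have hF' : Fintype.card F = (2 ^ n) ^ 2 := by rw [hF, ← pow_mul, mul_comm, pow_mul]; norm_num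
  obtain ⟨σ, hσq, hσ⟩ := CfsgLib.Classical.exists_frob hF'
  haveI : Fact (CfsgLib.Classical.IsConjugation σ) := ⟨hσ⟩
  haveI : Fact (Fintype.card F = (2 ^ n) ^ 2 ∧ ∀ x, σ x = x ^ (2 ^ n)) := ⟨⟨hF', hσq⟩⟩
  obtain ⟨e₁⟩ := hS
  obtain ⟨e₂⟩ := CfsgLib.RankOne.UnitarySylow.sylow_equiv_SU (σ := σ) n (by omega) rfl P
  let E := e₁.trans e₂.symm
  haveI hn' : S'.Normal := Subgroup.normal_of_index_eq_two hidx
  rintro r ⟨z, hz, rfl⟩
  rw [Subgroup.mem_center_iff]
  intro a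
  let φ : MulAut (CfsgLib.RankOne.UnitarySylow.Heis σ) :=
    MulAut.congr E (MulAut.conjNormal a : MulAut ↥S')
  have hφ : ∀ g, φ g = E ((MulAut.conjNormal a : MulAut ↥S') (E.symm g)) := fun g => rfl
  have ha2 : a * a ∈ S' := Subgroup.mul_self_mem_of_index_two hidx a
  have hsq : ∀ g, φ (φ g) = E ⟨a * a, ha2⟩ * g * (E ⟨a * a, ha2⟩)⁻¹ := by
    intro g
    obtain ⟨s, rfl⟩ := E.surjective g
    rw [hφ, hφ, E.symm_apply_apply, E.symm_apply_apply, ← map_mul, ← map_inv, ← map_mul]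
    refine congrArg E (Subtype.ext ?_)
    simp [mul_assoc]
  have h2 : ∀ g, (φ (φ g)).c = g.c := fun g => by
    rw [hsq, CfsgLib.RankOne.UnitarySylow.mul_c, CfsgLib.RankOne.UnitarySylow.mul_c,
      CfsgLib.RankOne.UnitarySylow.inv_c, add_comm (E ⟨a * a, ha2⟩).c, add_assoc,
      CharTwo.add_self_eq_zero, add_zero]
  have hEz : E z ∈ Subgroup.center (CfsgLib.RankOne.UnitarySylow.Heis σ) := by
    rw [Subgroup.mem_center_iff]
    intro g
    obtain ⟨s, rfl⟩ := E.surjective g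
    rw [← map_mul, ← map_mul, Subgroup.mem_center_iff.1 hz s]
  have h := CfsgLib.RankOne.UnitarySylow.center_fixed (σ := σ) (q := 2 ^ n) φ h2 hEz
  rw [hφ, E.symm_apply_apply] at h
  have h' := congrArg Subtype.val (E.injective h)
  simp only [MulAut.conjNormal_apply] at h'
  exact mul_inv_eq_iff_eq_mul.1 h'

end Cfsg.Agent.S3315
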