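import Cfsg.Statements.S3332
import Cfsg.Agent.Lib.FTApps.CoreClosureEmbedded
-- import your own Cfsg.Agent.* helpers here

set_option autoImplicit false
open Cfsg

namespace Cfsg.Agent.S3332

/-- Let G be a finite group of 2-rank at least 4 with O_{2'}(G) = 1 whose Sylow 2-subgroup S has a normal abelian subgroup of rank at least 3 that is its own centralizer in S. If the centralizer of every involution of G is solvable, then O_{2'}(C_G(t)) = 1 for every involution t of G. -/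
theorem result {G : Type*} [Group G] [Finite G]
    (hrank : ¬ Cfsg.PRankLE 2 3 G) (hO : Cfsg.oddCore G = ⊥) (S : Sylow 2 G)
    (A : Subgroup G) (hAS : A ≤ S) (hAn : (A.subgroupOf S).Normal) (hAc : IsMulCommutative A)
    (hAself : (S : Subgroup G) ⊓ Subgroup.centralizer (A : Set G) = A) (hA3 : ¬ Cfsg.PRankLE 2 2 A)
    (hsol : ∀ t : G, orderOf t = 2 → Group.IsSolvable (Subgroup.centralizer ({t} : Set G))) :
    ∀ t : G, orderOf t = 2 → Cfsg.oddCore (Subgroup.centralizer ({t} : Set G)) = ⊥ := by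
  classical
  haveI : Fact (Nat.Prime 2) := ⟨Nat.prime_two⟩
  have hL : ∀ t : G, orderOf t = 2 →
      Cfsg.pLayer 2 ↥(Subgroup.centralizer ({t} : Set G)) = ⊥ := fun t ht => by
    haveI := hsol t ht
    refine CfsgLib.Components.pLayer_eq_bot_iff.2 (CfsgLib.Components.layer_eq_bot_iff.2
      fun L hLc => ?_)
    haveI : Group.IsPerfect ↥L := hLc.2.1
    haveI : Nontrivial ↥L :=
      (Subgroup.nontrivial_iff_ne_bot L).2 (CfsgLib.Components.IsComponent.ne_bot hLc)
    exact Group.IsPerfect.not_isSolvable ↥L inferInstance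
  simp only [Cfsg.PRankLE, not_forall, not_le] at hA3
  obtain ⟨C, hCc, hC2, hC8⟩ := hA3
  have hC : Cfsg.IsElementaryAbelian 2 C := ⟨hCc, hC2⟩
  obtain ⟨n, hn⟩ :=
    (CfsgLib.Components.Signalizer.isPGroup_of_elementary hC).exists_card_eq
  have hn3 : 3 ≤ n := (Nat.pow_lt_pow_iff_right (le_refl 2)).1 (hn ▸ hC8)
  let E0 : Subgroup ↥(S : Subgroup G) :=
    { carrier := {x | (x : G) ∈ A ∧ x ^ 2 = 1}
      one_mem' := ⟨one_mem _, one_pow _⟩
      mul_mem' := fun {a b} ha hb => ⟨mul_mem ha.1 hb.1, by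
        rw [Commute.mul_pow (show Commute a b from
          Subtype.ext (setLike_mul_comm ha.1 hb.1)), ha.2, hb.2, one_mul]⟩
      inv_mem' := fun {a} ha => ⟨inv_mem ha.1, by rw [inv_pow, ha.2, inv_one]⟩ }
  haveI : E0.Normal := ⟨fun x hx g =>
    ⟨Subgroup.mem_subgroupOf.1 (hAn.conj_mem x (Subgroup.mem_subgroupOf.2 hx.1) g), by
      rw [conj_pow, hx.2, mul_one, mul_inv_cancel]⟩⟩
  have hE0 : Cfsg.IsElementaryAbelian 2 E0 :=
    ⟨⟨⟨fun a b => Subtype.ext (Subtype.ext (setLike_mul_comm a.2.1 b.2.1))⟩⟩, fun a ha => ha.2⟩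
  have h8 : 2 ^ 3 ≤ Nat.card E0 := by
    refine le_trans (Nat.pow_le_pow_right two_pos hn3) (hn ▸ ?_)
    refine Nat.card_le_card_of_injective (fun c : C => (⟨⟨((c : A) : G), hAS (c : A).2⟩,
      ⟨(c : A).2, Subtype.ext (by simpa using congrArg Subtype.val (hC2 c c.2))⟩⟩ : E0)) ?_
    intro x y h
    exact Subtype.ext (Subtype.ext (congrArg (fun z : E0 => ((z : ↥(S : Subgroup G)) : G)) h))
  have hconn : Cfsg.IsFourConnected ↥(S : Subgroup G) :=
    Cfsg.Agent.S0502.result S.isPGroup' E0 hE0.1 hE0.2 h8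
  have hE : Cfsg.IsElementaryAbelian 2 (E0.map (S : Subgroup G).subtype) := by
    refine ⟨⟨⟨?_⟩⟩, ?_⟩
    · rintro ⟨_, a, ha, rfl⟩ ⟨_, b, hb, rfl⟩
      exact Subtype.ext (setLike_mul_comm ha.1 hb.1)
    · rintro _ ⟨a, ha, rfl⟩
      rw [← map_pow, ha.2, map_one]
  intro t ht
  exact (Subgroup.map_eq_bot_iff_of_injective _ (Subgroup.subtype_injective _)).1
    (CfsgLib.FTApps.CoreClosure.core_eq_bot hO hL S (Subgroup.map_subtype_le _) hE
      (by rwa [Subgroup.card_map_of_injective (S : Subgroup G).subtype_injective]) hconn ht)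

end Cfsg.Agent.S3332
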