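import Cfsg.Statements.S3333
import Cfsg.Agent.Lib.Char.SylowNine.RecogSix
-- import your own Cfsg.Agent.* helpers here

set_option autoImplicit false
open Cfsg

namespace Cfsg.Agent.S3333

/-- Let G be a finite group with a Sylow 3-subgroup S of order 9 that is its own centralizer, with N_G(S)/S dihedral of order 8, and such that C_G(x) ≤ N_G(S) for every non-identity x in S. Then S is normal in G or G is isomorphic to the symmetric group of degree 6. -/
theorem result {G : Type*} [Group G] [Finite G]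
    (P : Sylow 3 G) (S : Subgroup G) (hSP : S = P) (hcard : Nat.card S = 9)
    (hC : Subgroup.centralizer (S : Set G) = S)
    (eN : Subgroup.normalizer (S : Set G) ⧸ S.subgroupOf (Subgroup.normalizer (S : Set G)) ≃* DihedralGroup 4)
    (hcent : ∀ x ∈ S, x ≠ 1 → Subgroup.centralizer ({x} : Set G) ≤ Subgroup.normalizer (S : Set G)) :
    S.Normal ∨ Nonempty (G ≃* Equiv.Perm (Fin 6)) := by
  classical
  haveI := Fintype.ofFinite G
  haveI : Fact (Nat.Prime 3) := ⟨Nat.prime_three⟩
  refine or_iff_not_imp_left.2 fun hSn => ?_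
  let φ : ↥(Subgroup.normalizer (S : Set G)) →* DihedralGroup 4 :=
    eN.toMonoidHom.comp (QuotientGroup.mk' (S.subgroupOf (Subgroup.normalizer (S : Set G))))
  have hker : ∀ x, φ x = 1 ↔ (x : G) ∈ S := fun x => by
    show eN (QuotientGroup.mk x) = 1 ↔ _
    rw [map_eq_one_iff _ eN.injective, QuotientGroup.eq_one_iff, Subgroup.mem_subgroupOf]
  have hsurj : Function.Surjective φ := eN.surjective.comp (QuotientGroup.mk'_surjective _)
  have hexp : ∀ s ∈ S, s ^ 3 = 1 := by
    intro s hs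
    by_contra h3
    have h9 : orderOf s = 9 := by
      have hd : orderOf s ∣ 3 ^ 2 := (Subgroup.orderOf_dvd_natCard S hs).trans (by rw [hcard]; norm_num)
      obtain ⟨i, hi, hio⟩ := (Nat.dvd_prime_pow Nat.prime_three).1 hd
      interval_cases i
      · exact absurd (orderOf_dvd_iff_pow_eq_one.1 (by rw [hio]; norm_num)) h3
      · exact absurd (orderOf_dvd_iff_pow_eq_one.1 (by rw [hio]; norm_num)) h3
      · rw [hio]; norm_num
    have hgen : S = Subgroup.zpowers s := (Subgroup.eq_of_le_of_card_ge (Subgroup.zpowers_le.2 hs)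
      (by rw [Nat.card_zpowers, h9, hcard])).symm
    have hpow : ∀ x : ↥(Subgroup.normalizer (S : Set G)), ∃ i : ℤ, (x : G) * s * (x : G)⁻¹ = s ^ i := by
      intro x
      have hm := (Subgroup.mem_normalizer_iff.1 x.2 s).1 hs
      obtain ⟨i, hi⟩ := Subgroup.mem_zpowers_iff.1 ((SetLike.ext_iff.1 hgen _).1 hm)
      exact ⟨i, hi.symm⟩
    have hcomm : ∀ x y, φ x * φ y = φ y * φ x := by
      intro x y
      rw [← map_mul, ← map_mul, ← mul_inv_eq_one, ← map_inv, ← map_mul, hker]
      obtain ⟨i, hi⟩ := hpow x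
      obtain ⟨j, hj⟩ := hpow y
      have e1 : ((x * y : ↥(Subgroup.normalizer (S : Set G))) : G) * s *
          ((x * y : ↥(Subgroup.normalizer (S : Set G))) : G)⁻¹ = s ^ (i * j) := by
        push_cast
        rw [show (x : G) * y * s * ((x : G) * y)⁻¹ = x * (y * s * (y : G)⁻¹) * (x : G)⁻¹ by group, hj,
          ← conj_zpow, hi, ← zpow_mul]
      have e2 : ((y * x : ↥(Subgroup.normalizer (S : Set G))) : G) * s *
          ((y * x : ↥(Subgroup.normalizer (S : Set G))) : G)⁻¹ = s ^ (i * j) := by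
        push_cast
        rw [show (y : G) * x * s * ((y : G) * x)⁻¹ = y * (x * s * (x : G)⁻¹) * (y : G)⁻¹ by group, hi,
          ← conj_zpow, hj, ← zpow_mul, mul_comm]
      refine hC.le (Subgroup.mem_centralizer_iff.2 fun t ht => ?_)
      obtain ⟨k, rfl⟩ := Subgroup.mem_zpowers_iff.1 ((SetLike.ext_iff.1 hgen _).1 ht)
      refine (Commute.zpow_left ?_ k).eq
      push_cast at e1 e2 ⊢
      set u := (x : G) * y
      set v := (y : G) * x
      have e3 : u * v⁻¹ * (s ^ (i * j)) * (u * v⁻¹)⁻¹ = s ^ (i * j) := by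
        rw [show u * v⁻¹ * (s ^ (i * j)) * (u * v⁻¹)⁻¹ = u * (v⁻¹ * s ^ (i * j) * v) * u⁻¹ by group, ← e2,
          show u * (v⁻¹ * (v * s * v⁻¹) * v) * u⁻¹ = u * s * u⁻¹ by group, e1, e2]
      have hsmem : s ∈ Subgroup.zpowers (s ^ (i * j)) := by
        have hle : Subgroup.zpowers (s ^ (i * j)) ≤ Subgroup.zpowers s :=
          Subgroup.zpowers_le.2 (zpow_mem (Subgroup.mem_zpowers s) _)
        have hcd : Nat.card (Subgroup.zpowers (s ^ (i * j))) = Nat.card (Subgroup.zpowers s) := by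
          rw [Nat.card_zpowers, Nat.card_zpowers, ← e1]
          exact (MulEquiv.orderOf_eq (MulAut.conj u) s)
        exact (SetLike.ext_iff.1 (Subgroup.eq_of_le_of_card_ge hle hcd.ge) s).2 (Subgroup.mem_zpowers s)
      obtain ⟨l, hl⟩ := Subgroup.mem_zpowers_iff.1 hsmem
      have e4 : Commute (s ^ (i * j)) (u * v⁻¹) := (mul_inv_eq_iff_eq_mul.1 e3).symm
      have e5 := e4.zpow_left l
      rwa [hl] at e5
    obtain ⟨x, hx⟩ := hsurj (DihedralGroup.r 1)
    obtain ⟨y, hy⟩ := hsurj (DihedralGroup.sr 0)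
    have := hcomm x y
    rw [hx, hy] at this
    exact absurd this (by decide)
  exact CfsgLib.Char.SylowNine.Dih.recog (φ := φ)
    ⟨⟨hcard, hexp, hSP ▸ P.not_dvd_index, hcent⟩, hC.le, hsurj, hker⟩ hSn

end Cfsg.Agent.S3333
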