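import Cfsg.Statements.S3334
import Cfsg.Agent.Lib.Sporadic.McLUnique.Bound
import Cfsg.Agent.Lib.Sporadic.McLUnique.Main
import Cfsg.Agent.Lib.Sporadic.McLUnique.Cover

set_option autoImplicit false
open Cfsg

namespace Cfsg.Agent.S3334

/-- Let G be a finite group with an involution t whose centralizer is a non-split double cover of the alternating group of degree 8. Then either G = C_G(t) O_{2'}(G), or G is isomorphic to the McLaughlin group. -/
theorem result {G : Type*} [Group G] [Finite G]
    (t : G) (ht : orderOf t = 2)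
    (hcov : Cfsg.IsNonsplitDoubleCover (Subgroup.centralizer ({t} : Set G)) (alternatingGroup (Fin 8))) :
    Subgroup.centralizer ({t} : Set G) ⊔ Cfsg.oddCore G = ⊤ ∨ Nonempty (G ≃* Cfsg.Spor.McL) := by
  classical
  obtain ⟨φ⟩ := CfsgLib.Sporadic.McLUnique.cover_unique CfsgLib.Sporadic.OutCert.McL.cover hcov
  let T : ↥(Subgroup.centralizer ({t} : Set G)) := ⟨t, Subgroup.mem_centralizer_singleton_iff.2 rfl⟩
  have hinj : Function.Injective ((Subgroup.centralizer ({t} : Set G)).subtype.comp φ.toMonoidHom) :=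
    Subtype.coe_injective.comp φ.injective
  have hmap : φ CfsgLib.Sporadic.McLUnique.tB = T := by
    obtain ⟨h2, -, -⟩ := hcov
    have hc : ∀ u, u * φ CfsgLib.Sporadic.McLUnique.tB = φ CfsgLib.Sporadic.McLUnique.tB * u := fun u => by
      obtain ⟨c, rfl⟩ := φ.surjective u
      rw [← map_mul, ← map_mul, CfsgLib.Sporadic.McLUnique.tB_central]
    have hT : T ∈ Subgroup.center _ :=
      Subgroup.mem_center_iff.2 fun u => Subtype.ext (Subgroup.mem_centralizer_singleton_iff.1 u.2)
    have hT1 : T ≠ 1 := fun e => by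
      have : t = 1 := congrArg Subtype.val e
      rw [this, orderOf_one] at ht
      omega
    obtain ⟨a, b, -, hab⟩ := Nat.card_eq_two_iff.1 h2
    have mem : ∀ z : ↥(Subgroup.center ↥(Subgroup.centralizer ({t} : Set G))), z = a ∨ z = b := fun z => by
      have := hab ▸ Set.mem_univ z
      simpa using this
    have h1 := mem 1
    have h3 := mem ⟨T, hT⟩
    have h4 := mem ⟨_, Subgroup.mem_center_iff.2 hc⟩
    have n1 : (⟨T, hT⟩ : ↥(Subgroup.center _)) ≠ 1 := fun e => hT1 (congrArg Subtype.val e)
    have n2 : (⟨_, Subgroup.mem_center_iff.2 hc⟩ : ↥(Subgroup.center _)) ≠ 1 := fun e =>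
      CfsgLib.Sporadic.McLUnique.tB_ne_one (φ.map_eq_one_iff.1 (congrArg Subtype.val e))
    refine congrArg Subtype.val (show (⟨_, Subgroup.mem_center_iff.2 hc⟩ : ↥(Subgroup.center _)) = ⟨T, hT⟩ from ?_)
    rcases h1 with h1 | h1 <;> rcases h3 with h3 | h3 <;> rcases h4 with h4 | h4 <;>
      first | exact h4.trans h3.symm | exact absurd (h3.trans h1.symm) n1 | exact absurd (h4.trans h1.symm) n2
  let S : CfsgLib.Sporadic.McLUnique.Setting G :=
    { t := t
      f := (Subgroup.centralizer ({t} : Set G)).subtype.comp φ.toMonoidHom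
      inj := hinj
      range_eq := by
        rw [MonoidHom.range_comp, MonoidHom.range_eq_top.2 φ.surjective, ← MonoidHom.range_eq_map,
          Subgroup.range_subtype]
      map_t := congrArg Subtype.val hmap }
  rcases S.dichotomy with h | hx
  · exact Or.inl h
  · right
    obtain ⟨w, w2, hact⟩ := CfsgLib.Sporadic.McLUnique.exists_w hx
    obtain ⟨M, ⟨e⟩, hM⟩ := CfsgLib.Sporadic.McLUnique.exists_model S w w2 hact
    have htop := CfsgLib.Sporadic.McLUnique.eq_top_of_centralizer_le M e t ht
      (hM (Subgroup.mem_centralizer_singleton_iff.2 rfl)) hM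
    obtain ⟨e'⟩ := CfsgLib.Sporadic.OutCert.McL.H_spec.1
    exact ⟨((Subgroup.topEquiv.symm.trans (MulEquiv.subgroupCongr htop.symm)).trans e).trans e'.symm⟩

end Cfsg.Agent.S3334
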