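import Cfsg.Statements.S3349

set_option autoImplicit false
open Cfsg

namespace Cfsg.Agent.S3349

/-- Let Q be a finite extraspecial p-group and α an automorphism of Q fixing every element of some maximal abelian subgroup of Q. Then the order of α is a power of p. -/
theorem result {Q : Type*} [Group Q] [Finite Q]
    (p : ℕ) [Fact p.Prime] (hQ : Cfsg.IsExtraspecial p Q) (α : MulAut Q)
    (A : Subgroup Q) (hA : IsMulCommutative A) (hmax : ∀ B : Subgroup Q, A ≤ B → IsMulCommutative B → B = A)
    (hfix : ∀ a ∈ A, α a = a) :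
    ∃ k : ℕ, orderOf α = p ^ k := by
  obtain ⟨⟨hP, -, hder⟩, -⟩ := hQ
  have hAc : ∀ a ∈ A, ∀ b ∈ A, a * b = b * a := fun a ha b hb =>
    congrArg Subtype.val (hA.1.comm ⟨a, ha⟩ ⟨b, hb⟩)
  have hmem : ∀ y : Q, (∀ a ∈ A, a * y = y * a) → y ∈ A := by
    intro y hy
    let B := Subgroup.closure ((A : Set Q) ∪ {y})
    have hB : IsMulCommutative B := Subgroup.isMulCommutative_closure (by
      rintro a (ha | ha) b (hb | hb)
      · exact hAc a ha b hb
      · rw [Set.mem_singleton_iff.mp hb]; exact hy a ha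
      · rw [Set.mem_singleton_iff.mp ha]; exact (hy b hb).symm
      · rw [Set.mem_singleton_iff.mp ha, Set.mem_singleton_iff.mp hb])
    have := hmax B (fun a ha => Subgroup.subset_closure (Or.inl ha)) hB
    rw [← this]; exact Subgroup.subset_closure (Or.inr rfl)
  have hZA : Subgroup.center Q ≤ A := fun z hz => hmem z fun a _ => Subgroup.mem_center_iff.mp hz a
  have hnorm : ∀ x a : Q, a ∈ A → x * a * x⁻¹ ∈ A := by
    intro x a ha
    have : x * a * x⁻¹ * a⁻¹ ∈ A := by
      apply hZA; rw [← hder]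
      exact Subgroup.commutator_mem_commutator (Subgroup.mem_top x) (Subgroup.mem_top a)
    have h := A.mul_mem this ha
    simpa using h
  have key : ∀ x : Q, x⁻¹ * α x ∈ A := by
    intro x
    apply hmem
    intro a ha
    have h1 := hfix _ (hnorm x a ha)
    rw [map_mul, map_mul, map_inv, hfix a ha] at h1
    calc a * (x⁻¹ * α x) = x⁻¹ * (x * a * x⁻¹) * α x := by group
      _ = x⁻¹ * (α x * a * (α x)⁻¹) * α x := by rw [h1]
      _ = x⁻¹ * α x * a := by group
  have hpow : ∀ (n : ℕ) (x : Q), (α ^ n) x = x * (x⁻¹ * α x) ^ n := by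
    intro n x
    induction n with
    | zero => simp
    | succ n ih =>
      rw [pow_succ', MulAut.mul_apply, ih, map_mul, map_pow, hfix _ (key x)]
      rw [pow_succ', ← mul_assoc, mul_inv_cancel_left]
  obtain ⟨e, he⟩ := (IsPGroup.iff_card.mp hP)
  have : orderOf α ∣ p ^ e := by
    rw [orderOf_dvd_iff_pow_eq_one]
    ext x
    rw [hpow, ← he, pow_card_eq_one']
    simp
  obtain ⟨k, -, hk⟩ := (Nat.dvd_prime_pow Fact.out).mp this
  exact ⟨k, hk⟩

end Cfsg.Agent.S3349
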