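import Cfsg.Statements.S3356
import Mathlib
import Cfsg.Agent.Lib.Perm.ThreeHalvesRegular
-- import your own Cfsg.Agent.* helpers here

set_option autoImplicit false
open Cfsg

namespace Cfsg.Agent.S3356

/-- Let G be a finite 3/2-transitive permutation group: G acts faithfully and transitively on a finite set, the point stabilizers are non-trivial, and for each point a all orbits of G_a on the remaining points have the same size. Suppose G has a regular normal subgroup N and G is not a Frobenius group (some two-point stabilizer is non-trivial). Then N is an elementary abelian p-group for some prime p, and every non-trivial normal subgroup of G contains N (so N is the unique minimal normal subgroup). -/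
theorem result {G Ω : Type*} [Group G] [Finite G]
    [MulAction G Ω] [FaithfulSMul G Ω] [Finite Ω] (htrans : MulAction.IsPretransitive G Ω)
    (hne : ∀ a : Ω, MulAction.stabilizer G a ≠ ⊥)
    (hhalf : ∀ a b c : Ω, b ≠ a → c ≠ a →
      Nat.card (MulAction.orbit (MulAction.stabilizer G a) b) = Nat.card (MulAction.orbit (MulAction.stabilizer G a) c))
    (N : Subgroup G) [hN : N.Normal] (hNt : MulAction.IsPretransitive N Ω) (hNr : ∀ a : Ω, MulAction.stabilizer N a = ⊥)
    (hnotF : ∃ a b : Ω, a ≠ b ∧ MulAction.stabilizer G a ⊓ MulAction.stabilizer G b ≠ ⊥) :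
    (∃ p : ℕ, p.Prime ∧ IsMulCommutative N ∧ ∀ x ∈ N, x ^ p = 1) ∧
    (∀ M : Subgroup G, M.Normal → M ≠ ⊥ → N ≤ M) := by
  obtain ⟨a, b, hab, hnab⟩ := hnotF
  haveI := hNt
  obtain ⟨h₀, ⟨hh₀a, hh₀b⟩, hh₀1⟩ :=
    (Subgroup.bot_or_exists_ne_one _).resolve_left hnab
  -- translate orbits to centralizers
  have htr : ∀ y : Ω, ∃ n ∈ N, n • a = y := fun y => by
    obtain ⟨n, hn⟩ := MulAction.exists_smul_eq (↥N) a y
    exact ⟨n, n.2, hn⟩
  have hfix : ∀ n ∈ N, n • a = a → n = 1 := fun n hn e => by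
    have h : (⟨n, hn⟩ : ↥N) ∈ MulAction.stabilizer (↥N) a := e
    rw [hNr a] at h
    exact congrArg Subtype.val (Subgroup.mem_bot.1 h)
  have hact : ∀ w ∈ MulAction.stabilizer G a, ∀ n ∈ N, (w • n • a = n • a ↔ w * n = n * w) := by
    intro w hw n hn
    constructor
    · intro e
      have h1 : (n⁻¹ * (w * n * w⁻¹)) • a = a := by
        have hwi : w⁻¹ • a = a := inv_smul_eq_iff.2 (Eq.symm hw)
        rw [mul_smul, mul_smul, mul_smul, hwi, e, inv_smul_smul]
      have h2 := hfix _ (mul_mem (inv_mem hn) (hN.conj_mem n hn w)) h1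
      exact mul_inv_eq_iff_eq_mul.1 (inv_mul_eq_one.1 h2).symm
    · intro e
      rw [← mul_smul, e, mul_smul, show w • a = a from hw]
  have hidx : ∀ n ∈ N, Nat.card (MulAction.orbit (MulAction.stabilizer G a) (n • a)) =
      (Subgroup.centralizer ({n} : Set G)).relIndex (MulAction.stabilizer G a) := by
    intro n hn
    rw [Nat.card_coe_set_eq, ← MulAction.index_stabilizer, Subgroup.relIndex]
    congr 1
    ext w
    rw [MulAction.mem_stabilizer_iff, Subgroup.mem_subgroupOf, Subgroup.mem_centralizer_singleton_iff]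
    exact hact w w.2 n hn
  have hH : CfsgLib.Perm.ThreeHalvesRegular.Hyp N (MulAction.stabilizer G a) := by
    refine ⟨fun w hw hc => eq_of_smul_eq_smul (α := Ω) fun y => ?_, fun n hn hn1 m hm hm1 => ?_, ?_⟩
    · obtain ⟨n, hn, rfl⟩ := htr y
      rw [one_smul]
      exact (hact w hw n hn).2 (hc n hn)
    · rw [← hidx n hn, ← hidx m hm]
      exact hhalf a _ _ (fun e => hn1 (hfix n hn e)) (fun e => hm1 (hfix m hm e))
    · obtain ⟨n, hn, rfl⟩ := htr b
      exact ⟨n, hn, fun e => hab (by rw [e, one_smul]), h₀, hh₀a, hh₀1, (hact h₀ hh₀a n hn).1 hh₀b⟩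
  have hcomm := CfsgLib.Perm.ThreeHalvesRegular.commutative hH
  obtain ⟨n₀, hn₀, hn₀1, -⟩ := hH.notFree
  haveI : Nontrivial N := ⟨⟨⟨n₀, hn₀⟩, 1, fun e => hn₀1 (congrArg Subtype.val e)⟩⟩
  refine ⟨?_, fun M hM hM1 => ?_⟩
  · obtain ⟨p, hp, hpd⟩ := Nat.exists_prime_and_dvd (Finite.one_lt_card (α := N)).ne'
    haveI := Fact.mk hp
    obtain ⟨x, hx⟩ := exists_prime_orderOf_dvd_card' (G := ↥N) p hpd
    let B : Subgroup G :=
      { carrier := {y | y ∈ N ∧ y ^ p = 1}
        one_mem' := ⟨one_mem N, one_pow p⟩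
        mul_mem' := fun {u v} hu hv => ⟨mul_mem hu.1 hv.1, by
          rw [(show Commute u v from hcomm u hu.1 v hv.1).mul_pow, hu.2, hv.2, one_mul]⟩
        inv_mem' := fun {u} hu => ⟨inv_mem hu.1, by rw [inv_pow, hu.2, inv_one]⟩ }
    haveI : B.Normal := ⟨fun y hy g => ⟨hN.conj_mem y hy.1 g, by rw [conj_pow, hy.2, mul_one, mul_inv_cancel]⟩⟩
    rcases CfsgLib.Perm.ThreeHalvesRegular.minimal hH B (fun y hy => hy.1) with hB | hB
    · have h : (x : G) ∈ B := ⟨x.2, by rw [← hx, ← SubgroupClass.coe_pow, pow_orderOf_eq_one, OneMemClass.coe_one]⟩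
      rw [hB, Subgroup.mem_bot, OneMemClass.coe_eq_one] at h
      rw [h, orderOf_one] at hx
      exact absurd hx.symm hp.ne_one
    · exact ⟨p, hp, ⟨⟨fun u v => Subtype.ext (hcomm u u.2 v v.2)⟩⟩, fun y hy => (hB.ge hy).2⟩
  · haveI := hM
    rcases CfsgLib.Perm.ThreeHalvesRegular.minimal hH (M ⊓ N) inf_le_right with hB | hB
    · -- `M` centralises `N`, hence lies in it
      exfalso
      have hMN : M ≤ Subgroup.centralizer (N : Set G) := by
        rw [← Subgroup.commutator_eq_bot_iff_le_centralizer, eq_bot_iff, ← hB]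
        exact le_inf (Subgroup.commutator_le_left _ _) (Subgroup.commutator_le_right _ _)
      obtain ⟨m, hm, hm1⟩ := M.bot_or_exists_ne_one.resolve_left hM1
      obtain ⟨n, hn, hna⟩ := htr (m • a)
      have hst : n⁻¹ * m ∈ MulAction.stabilizer G a := by
        rw [MulAction.mem_stabilizer_iff, mul_smul, ← hna, inv_smul_smul]
      have h1 := hH.faith _ hst fun y hy => by
        have h2 : Commute m y := (Subgroup.mem_centralizer_iff.1 (hMN hm) y hy).symm
        exact ((show Commute n y from hcomm n hn y hy).inv_left.mul_left h2).eq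
      rw [inv_mul_eq_one] at h1
      subst h1
      exact hm1 (Subgroup.mem_bot.1 (hB.le ⟨hm, hn⟩))
    · exact hB ▸ inf_le_left

end Cfsg.Agent.S3356
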