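import Cfsg.Statements.S3357
import Cfsg.Agent.Lib.FrobRealize.Transfer

set_option autoImplicit false
open Cfsg

namespace Cfsg.Agent.S3357

open CfsgLib.FrobRealize.Transfer Subgroup in
/-- From a free function to an irreducible fixed-point-free representation. -/
theorem exists_fpf_irreducible {A : Type*} [Group A] [Fintype A] [DecidableEq A] [Nontrivial A]
    {K : Type*} [Field K] [CharZero K] (h : Free A K) :
    ∃ (n : ℕ) (ρ : A →* GL (Fin n) K), 0 < n ∧ Function.Injective ρ ∧
      (∀ W : Submodule K (Fin n → K),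
        (∀ g : A, ∀ w ∈ W, ((ρ g : GL (Fin n) K) : Matrix (Fin n) (Fin n) K).mulVec w ∈ W) →
          W = ⊥ ∨ W = ⊤) ∧
      ∀ g : A, g ≠ 1 → ∀ v : Fin n → K,
        ((ρ g : GL (Fin n) K) : Matrix (Fin n) (Fin n) K).mulVec v = v → v = 0 := by
  classical
  obtain ⟨f, hf, hfE⟩ := h
  let L : Submodule K (A → K) :=
    { carrier := {u | ∀ g : A, g ≠ 1 → E g u = 0}
      add_mem' := fun hu hv g hg => by rw [E_add, hu g hg, hv g hg, add_zero]
      zero_mem' := fun g _ => by funext x; simp [E]
      smul_mem' := fun c u hu g hg => by rw [E_smul, hu g hg, smul_zero] }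
  let Inv : Submodule K (A → K) → Prop := fun U => ∀ a : A, ∀ u ∈ U, tau a u ∈ U
  have hLinv : Inv L := fun a u hu g hg => by
    have hg' : a⁻¹ * g * a ≠ 1 := fun e => hg (by
      calc g = a * (a⁻¹ * g * a) * a⁻¹ := by group
        _ = 1 := by rw [e]; group)
    funext x
    have h1 := congrFun (hu _ hg') (a⁻¹ * x)
    rw [Pi.zero_apply] at h1 ⊢
    rw [← h1]
    let e : zpowers g ≃ zpowers (a⁻¹ * g * a) :=
      { toFun := fun d => ⟨a⁻¹ * d * a, by
          obtain ⟨m, hm⟩ := mem_zpowers_iff.1 d.2
          refine mem_zpowers_iff.2 ⟨m, ?_⟩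
          rw [show a⁻¹ * g * a = a⁻¹ * g * a⁻¹⁻¹ by rw [inv_inv], conj_zpow, hm, inv_inv]⟩
        invFun := fun d => ⟨a * d * a⁻¹, by
          obtain ⟨m, hm⟩ := mem_zpowers_iff.1 d.2
          refine mem_zpowers_iff.2 ⟨m, ?_⟩
          rw [← hm, ← conj_zpow]
          congr 1
          group⟩
        left_inv := fun d => Subtype.ext (by simp [mul_assoc])
        right_inv := fun d => Subtype.ext (by simp [mul_assoc]) }
    refine Fintype.sum_equiv e _ _ fun d => ?_
    show u (a⁻¹ * ((d : A) * x)) = u (a⁻¹ * (d : A) * a * (a⁻¹ * x))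
    congr 1
    group
  have hex : ∃ m, ∃ U : Submodule K (A → K), U ≤ L ∧ U ≠ ⊥ ∧ Inv U ∧ Module.finrank K U = m :=
    ⟨_, L, le_rfl, (Submodule.ne_bot_iff L).mpr ⟨f, hfE, hf⟩, hLinv, rfl⟩
  obtain ⟨U, hUL, hU0, hUinv, hUm⟩ := Nat.find_spec hex
  let act : A →* Module.End K U :=
    { toFun := fun a => (tau (R := K) a).restrict (hUinv a)
      map_one' := LinearMap.ext fun u => Subtype.ext (funext fun x => by simp)
      map_mul' := fun a b => LinearMap.ext fun u => Subtype.ext (funext fun x => by
        simp [mul_assoc]) }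
  let e := (Module.finBasis K U).equivFun
  let σ : A →* Module.End K (Fin (Module.finrank K U) → K) :=
    (e.conjAlgEquiv K).toAlgHom.toMonoidHom.comp act
  let ρ : A →* GL (Fin (Module.finrank K U)) K :=
    (LinearMap.toMatrixAlgEquiv'.toAlgHom.toMonoidHom.comp σ).toHomUnits
  have hρ : ∀ (a : A) (v : Fin (Module.finrank K U) → K),
      ((ρ a : GL (Fin (Module.finrank K U)) K) : Matrix _ _ K).mulVec v = e (act a (e.symm v)) := by
    intro a v
    show (LinearMap.toMatrix' (σ a)).mulVec v = _
    rw [LinearMap.toMatrix'_mulVec]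
    rfl
  have hfpf : ∀ g : A, g ≠ 1 → ∀ v : Fin (Module.finrank K U) → K,
      ((ρ g : GL (Fin (Module.finrank K U)) K) : Matrix _ _ K).mulVec v = v → v = 0 := by
    intro g hg v hv
    rw [hρ, ← e.eq_symm_apply] at hv
    set w := e.symm v with hw
    have hfix : tau g (w : A → K) = w := congrArg Subtype.val hv
    have hz : ∀ d ∈ zpowers g, ∀ x, (w : A → K) (d * x) = (w : A → K) x := by
      intro d hd
      obtain ⟨m, rfl⟩ := (mem_powers_iff_mem_zpowers).2 hd
      induction m with
      | zero => simp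
      | succ m ih =>
        intro x
        have h1 := congrFun hfix (g ^ (m + 1) * x)
        have e : g⁻¹ * (g ^ (m + 1) * x) = g ^ m * x := by rw [pow_succ']; group
        rw [tau_apply, e] at h1
        exact h1.symm.trans (ih (pow_mem (mem_zpowers g) m) x)
    have hw0 : w = 0 := by
      refine Subtype.ext (funext fun x => ?_)
      have h1 := congrFun (hUL w.2 g hg) x
      simp only [E, Pi.zero_apply] at h1
      rw [Finset.sum_congr rfl fun (d : zpowers g) _ => hz (d : A) d.2 x, Finset.sum_const,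
        Finset.card_univ, ← Nat.card_eq_fintype_card, nsmul_eq_mul, mul_eq_zero] at h1
      exact h1.resolve_left (Nat.cast_ne_zero.mpr Nat.card_pos.ne')
    rw [← e.apply_symm_apply v, ← hw, hw0, map_zero]
  have hn : 0 < Module.finrank K U :=
    Nat.pos_of_ne_zero fun h0 => hU0 (Submodule.finrank_eq_zero.mp h0)
  refine ⟨_, ρ, hn, ?_, fun W hW => ?_, hfpf⟩
  · refine (injective_iff_map_eq_one ρ).2 fun g hg => ?_
    by_contra hg1
    have := hfpf g hg1 (fun _ => 1) (by rw [hg]; simp)
    exact one_ne_zero (congrFun this ⟨0, hn⟩)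
  · set W' : Submodule K (A → K) := (W.map e.symm.toLinearMap).map U.subtype with hW'
    have hle : W' ≤ U := Submodule.map_subtype_le U _
    have hinv : Inv W' := by
      rintro a _ ⟨_, ⟨w, hw, rfl⟩, rfl⟩
      refine ⟨act a (e.symm w), ⟨_, hW a w hw, ?_⟩, rfl⟩
      rw [LinearEquiv.coe_coe, hρ, LinearEquiv.symm_apply_apply]
    by_cases h0 : W' = ⊥
    · left
      refine Submodule.map_injective_of_injective (f := e.symm.toLinearMap) e.symm.injective
        (Submodule.map_injective_of_injective (f := U.subtype) Subtype.val_injective ?_)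
      rw [Submodule.map_bot, Submodule.map_bot]
      exact h0
    · right
      have hm := Nat.find_min' hex ⟨W', hle.trans hUL, h0, hinv, rfl⟩
      rw [← hUm] at hm
      have hWU : W' = U := Submodule.eq_of_le_of_finrank_le hle hm
      refine Submodule.eq_top_iff'.2 fun v => ?_
      have hv : (e.symm v : A → K) ∈ W' := by rw [hWU]; exact (e.symm v).2
      obtain ⟨_, ⟨w, hw, rfl⟩, hval⟩ := hv
      rwa [← e.symm.injective (Subtype.ext hval)]

/-- Let G be a finite group that occurs as a Frobenius complement. Then G has a faithful irreducible representation over an algebraic closure of the rationals in which no non-identity element of G has 1 as an eigenvalue: there are n ≥ 1 and an injective homomorphism ρ from G to GL(n) over that field, with no invariant subspace other than 0 and the whole space, such that for g ≠ 1 the only vector fixed by ρ(g) is 0. -/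
theorem result {G : Type*} [Group G] [Finite G]
    (hFC : ∃ (L : Type) (_ : Group L) (_ : Finite L) (H : Subgroup L), Cfsg.IsFrobeniusComplement H ∧ Nonempty (G ≃* H)) :
    ∃ (n : ℕ) (ρ : G →* GL (Fin n) (AlgebraicClosure ℚ)), 0 < n ∧ Function.Injective ρ ∧
      (∀ W : Submodule (AlgebraicClosure ℚ) (Fin n → AlgebraicClosure ℚ),
        (∀ g : G, ∀ w ∈ W, ((ρ g : GL (Fin n) (AlgebraicClosure ℚ)) : Matrix (Fin n) (Fin n) (AlgebraicClosure ℚ)).mulVec w ∈ W) → W = ⊥ ∨ W = ⊤) ∧
      ∀ g : G, g ≠ 1 → ∀ v : Fin n → AlgebraicClosure ℚ,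
        ((ρ g : GL (Fin n) (AlgebraicClosure ℚ)) : Matrix (Fin n) (Fin n) (AlgebraicClosure ℚ)).mulVec v = v → v = 0 := by
  classical
  have := Fintype.ofFinite G
  have hnt : Nontrivial G := by
    obtain ⟨L, _, _, H, hH, ⟨e⟩⟩ := hFC
    have : Nontrivial H := (Subgroup.nontrivial_iff_ne_bot H).2 hH.1
    exact e.toEquiv.nontrivial
  obtain ⟨f, hf, hfE⟩ := CfsgLib.FrobRealize.Transfer.complement_iff.1 hFC
  refine exists_fpf_irreducible ⟨(Int.castRingHom (AlgebraicClosure ℚ)) ∘ f, fun h0 => hf ?_,
    fun g hg => ?_⟩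
  · funext x
    have h := congrFun h0 x
    simpa using h
  · rw [CfsgLib.FrobRealize.Transfer.E_map, hfE g hg]
    funext x
    simp

end Cfsg.Agent.S3357
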