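import Cfsg.Statements.S3358
import Cfsg.Agent.Lib.Recognition.Zassenhaus.Presentation

set_option autoImplicit false
open Cfsg

namespace Cfsg.Agent.S3358

/-- Structure of solvable Frobenius complements. Let G be a finite solvable group that occurs as a Frobenius complement. Then G has a normal subgroup G₀ such that G/G₀ is isomorphic to a subgroup of Sym(4) (G₀ is the kernel of a homomorphism to Sym(4)), all Sylow subgroups of G₀ are cyclic, and G₀ has a presentation ⟨x, y | x^n = 1, y^m = 1, x⁻¹ y x = y^r⟩ with n, m ≥ 1, gcd(r − 1, m) = gcd(n, m) = 1 and r^(n/n′) ≡ 1 (mod m), where n′ is the product of the distinct primes dividing n. -/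
theorem result {G : Type*} [Group G] [Finite G] (hsol : Group.IsSolvable G)
    (hFC : ∃ (L : Type) (_ : Group L) (_ : Finite L) (H : Subgroup L), Cfsg.IsFrobeniusComplement H ∧ Nonempty (G ≃* H)) :
    ∃ G₀ : Subgroup G, G₀.Normal ∧
      (∃ f : G →* Equiv.Perm (Fin 4), f.ker = G₀) ∧
      (∀ (p : ℕ) [Fact p.Prime] (P : Sylow p G₀), IsCyclic P) ∧
      ∃ n m r : ℕ, 0 < n ∧ 0 < m ∧ Nat.Coprime (r - 1) m ∧ Nat.Coprime n m ∧ 1 ≤ r ∧
        r ^ (n / ∏ p ∈ n.primeFactors, p) % m = 1 % m ∧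
        Nonempty (G₀ ≃* PresentedGroup
          ({FreeGroup.of (0 : Fin 2) ^ n, FreeGroup.of (1 : Fin 2) ^ m,
            (FreeGroup.of (0 : Fin 2))⁻¹ * FreeGroup.of 1 * FreeGroup.of 0 * (FreeGroup.of (1 : Fin 2) ^ r)⁻¹} :
            Set (FreeGroup (Fin 2)))) := by
  obtain ⟨L, _, _, H, hH, ⟨e⟩⟩ := hFC
  obtain ⟨N, ⟨hN, hZ, hs⟩, -⟩ := CfsgLib.Recognition.Zassenhaus.frobenius_kernel_shape hH e
  haveI := hN
  haveI := hZ
  obtain ⟨n, m, r, hn, hm, h1, h2, h3, h4, hi⟩ := CfsgLib.Recognition.Zassenhaus.zgroup_presentation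
    ((CfsgLib.Recognition.Zassenhaus.pq_of_complement hH e).of_injective N.subtype N.subtype_injective)
  refine ⟨N, hN, ?_, fun p hp P => hZ.isZGroup p hp.out P, n, m, r, hn, hm, h1, h2, h3, h4, hi⟩
  have hns : ∀ {X : Type} [Group X] (f : G →* X), Function.Surjective f → ¬ Group.IsSolvable X → False :=
    fun f hf hX => hX (Group.isSolvable_of_surjective (f := f) hf)
  rcases hs with e' | ⟨f, hf, hk⟩ | ⟨f, hf, hk⟩ | ⟨f, hf, hk⟩ | ⟨f, hf, hk⟩ | ⟨f, hf, hk⟩
  · exact ⟨1, by rw [MonoidHom.ker_one, e']⟩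
  · let φ := MulAction.toPermHom (DihedralGroup 2) (DihedralGroup 2)
    let j : DihedralGroup 2 ≃ Fin 4 := Finite.equivFinOfCardEq DihedralGroup.nat_card
    refine ⟨((j.permCongrHom.toMonoidHom).comp φ).comp f, ?_⟩
    rw [← hk]
    ext g
    simp only [MonoidHom.mem_ker, MonoidHom.comp_apply]
    constructor
    · intro h
      have h1 : φ (f g) = 1 := j.permCongrHom.injective (h.trans (map_one _).symm)
      have h2 := DFunLike.congr_fun h1 (1 : DihedralGroup 2)
      simpa [φ] using h2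
    · intro h; rw [h, map_one, map_one]
  · exact ⟨(alternatingGroup (Fin 4)).subtype.comp f, by
      rw [← MonoidHom.comap_ker, Subgroup.ker_subtype, MonoidHom.comap_bot, hk]⟩
  · exact ⟨f, hk⟩
  · refine (hns f hf fun hs => Equiv.Perm.not_isSolvable (Fin 5) (by simp) ?_).elim
    haveI := hs
    exact Group.isSolvable_of_ker_le_range (alternatingGroup (Fin 5)).subtype Equiv.Perm.sign
      (by rw [Subgroup.range_subtype]; exact le_rfl)
  · exact (hns f hf (Equiv.Perm.not_isSolvable (Fin 5) (by simp))).elim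

end Cfsg.Agent.S3358
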