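import Cfsg.Statements.S3361
import Cfsg.Agent.Lib.Recognition.NearField.Main

set_option autoImplicit false
open Cfsg

namespace Cfsg.Agent.S3361

/-- Let q be a prime and V a non-trivial finite vector space over the field with q elements, and let G be a finite solvable group acting faithfully and linearly on V and regularly on the non-zero vectors (transitively, with only the identity fixing a non-zero vector). Then either V can be identified with the additive group of a finite field F so that every element of G acts as x ↦ a·σ(x) (a ∈ F, σ a field automorphism), or V has 5^2, 7^2, 11^2 or 23^2 elements. Moreover, if q ≠ 2 then G has a normal subgroup of index 2, except that when V has 25 elements G may be isomorphic to SL(2,3) and when V has 121 elements G may be isomorphic to SL(2,3) × C₅. -/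
theorem result
    (q : ℕ) [Fact q.Prime] {V : Type*} [AddCommGroup V] [Module (ZMod q) V] [Finite V] [Nontrivial V]
    {G : Type*} [Group G] [Finite G] (hsol : Group.IsSolvable G)
    (ρ : G →* (V ≃ₗ[ZMod q] V)) (hρ : Function.Injective ρ)
    (htrans : ∀ v w : V, v ≠ 0 → w ≠ 0 → ∃ g : G, ρ g v = w)
    (hreg : ∀ v : V, v ≠ 0 → ∀ g : G, ρ g v = v → g = 1) :
    ((∃ (F : Type) (_ : Field F) (_ : Fintype F) (e : V ≃+ F),
        ∀ g : G, ∃ (a : F) (σ : F ≃+* F), ∀ v : V, e (ρ g v) = a * σ (e v)) ∨
      Nat.card V ∈ ({25, 49, 121, 529} : Set ℕ)) ∧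
    (q ≠ 2 → (∃ N : Subgroup G, N.Normal ∧ N.index = 2) ∨
      (Nat.card V = 25 ∧ Nonempty (G ≃* Matrix.SpecialLinearGroup (Fin 2) (ZMod 3))) ∨
      (Nat.card V = 121 ∧ Nonempty (G ≃* Matrix.SpecialLinearGroup (Fin 2) (ZMod 3) × Multiplicative (ZMod 5)))) := by
  classical
  haveI := hsol
  let ρ' : G →* Module.End (ZMod q) V :=
    { toFun := fun g => (ρ g).toLinearMap
      map_one' := by ext v; simp
      map_mul' := fun a b => by ext v; simp }
  have hfpf : CfsgLib.Recognition.NearField.Fpf ρ' := fun g v hv hg => hreg v hv g hg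
  have hcard : Nat.card G = Nat.card V - 1 := by
    obtain ⟨v0, hv0⟩ := exists_ne (0 : V)
    have hne : ∀ g : G, ρ g v0 ≠ 0 := fun g h => hv0 ((ρ g).map_eq_zero_iff.mp h)
    have hbij : Function.Bijective (fun g : G => (⟨ρ g v0, hne g⟩ : {v : V // v ≠ 0})) := by
      refine ⟨fun a b hab => ?_, fun v => ?_⟩
      · have h1 : ρ a v0 = ρ b v0 := congrArg Subtype.val hab
        have h2 : (ρ (b⁻¹ * a)) v0 = v0 := by
          rw [map_mul]
          show ρ b⁻¹ (ρ a v0) = v0
          rw [h1]
          show (ρ b⁻¹ * ρ b) v0 = v0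
          rw [← map_mul, inv_mul_cancel, map_one]
          rfl
        exact (eq_of_inv_mul_eq_one (hreg v0 hv0 _ h2)).symm
      · obtain ⟨g, hg⟩ := htrans v0 v.1 hv0 v.2
        exact ⟨g, Subtype.ext hg⟩
    rw [Nat.card_congr (Equiv.ofBijective _ hbij)]
    haveI := Fintype.ofFinite V
    rw [Nat.card_eq_fintype_card, Nat.card_eq_fintype_card, Fintype.card_subtype_compl, Fintype.card_subtype_eq]
  obtain ⟨h1, h2⟩ := CfsgLib.Recognition.NearField.main hfpf hcard
  exact ⟨h1, h2⟩

end Cfsg.Agent.S3361
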