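import Cfsg.Statements.S3362
import Cfsg.Agent.S0709
import Cfsg.Agent.Lib.SmallGroups.SharpMathieu

set_option autoImplicit false
open Cfsg

namespace Cfsg.Agent.S3362

open Equiv MulAction
open scoped Pointwise

abbrev P12 := Equiv.Perm (Fin 12)

/-- A permutation from two tables. -/
def mk12 (f g : List (Fin 12)) (h1 : ∀ i, g.getD (f.getD (i : Fin 12).val 0).val 0 = i)
    (h2 : ∀ i, f.getD (g.getD (i : Fin 12).val 0).val 0 = i) : P12 :=
  ⟨fun i => f.getD i.val 0, fun i => g.getD i.val 0, h1, h2⟩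

def pU : P12 := mk12 [0, 1, 2, 3, 6, 9, 5, 8, 11, 4, 7, 10] [0, 1, 2, 3, 9, 6, 4, 10, 7, 5, 11, 8] (by decide +kernel) (by decide +kernel)
def qU2 : P12 := mk12 [0, 1, 2, 3, 5, 4, 9, 11, 10, 6, 8, 7] [0, 1, 2, 3, 5, 4, 9, 11, 10, 6, 8, 7] (by decide +kernel) (by decide +kernel)
def qU3 : P12 := mk12 [0, 1, 2, 3, 9, 6, 4, 10, 7, 5, 11, 8] [0, 1, 2, 3, 6, 9, 5, 8, 11, 4, 7, 10] (by decide +kernel) (by decide +kernel)
def pV : P12 := mk12 [0, 1, 2, 3, 7, 11, 10, 5, 6, 8, 9, 4] [0, 1, 2, 3, 11, 7, 8, 4, 9, 10, 6, 5] (by decide +kernel) (by decide +kernel)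
def qV3 : P12 := mk12 [0, 1, 2, 3, 11, 7, 8, 4, 9, 10, 6, 5] [0, 1, 2, 3, 7, 11, 10, 5, 6, 8, 9, 4] (by decide +kernel) (by decide +kernel)
def pW : P12 := mk12 [0, 1, 2, 3, 10, 8, 11, 6, 4, 7, 5, 9] [0, 1, 2, 3, 8, 10, 7, 9, 5, 11, 4, 6] (by decide +kernel) (by decide +kernel)
def qW3 : P12 := mk12 [0, 1, 2, 3, 8, 10, 7, 9, 5, 11, 4, 6] [0, 1, 2, 3, 10, 8, 11, 6, 4, 7, 5, 9] (by decide +kernel) (by decide +kernel)
def pT : P12 := mk12 [0, 1, 2, 6, 7, 8, 9, 10, 11, 3, 4, 5] [0, 1, 2, 9, 10, 11, 3, 4, 5, 6, 7, 8] (by decide +kernel) (by decide +kernel)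
def tT2 : P12 := mk12 [0, 1, 2, 9, 10, 11, 3, 4, 5, 6, 7, 8] [0, 1, 2, 6, 7, 8, 9, 10, 11, 3, 4, 5] (by decide +kernel) (by decide +kernel)
def pS : P12 := mk12 [0, 1, 2, 4, 5, 3, 7, 8, 6, 10, 11, 9] [0, 1, 2, 5, 3, 4, 8, 6, 7, 11, 9, 10] (by decide +kernel) (by decide +kernel)
def tST : P12 := mk12 [0, 1, 2, 7, 8, 6, 10, 11, 9, 4, 5, 3] [0, 1, 2, 11, 9, 10, 5, 3, 4, 8, 6, 7] (by decide +kernel) (by decide +kernel)
def tST2 : P12 := mk12 [0, 1, 2, 10, 11, 9, 4, 5, 3, 7, 8, 6] [0, 1, 2, 8, 6, 7, 11, 9, 10, 5, 3, 4] (by decide +kernel) (by decide +kernel)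
def tS2 : P12 := mk12 [0, 1, 2, 5, 3, 4, 8, 6, 7, 11, 9, 10] [0, 1, 2, 4, 5, 3, 7, 8, 6, 10, 11, 9] (by decide +kernel) (by decide +kernel)
def tS2T : P12 := mk12 [0, 1, 2, 8, 6, 7, 11, 9, 10, 5, 3, 4] [0, 1, 2, 10, 11, 9, 4, 5, 3, 7, 8, 6] (by decide +kernel) (by decide +kernel)
def tS2T2 : P12 := mk12 [0, 1, 2, 11, 9, 10, 5, 3, 4, 8, 6, 7] [0, 1, 2, 7, 8, 6, 10, 11, 9, 4, 5, 3] (by decide +kernel) (by decide +kernel)
def pX1 : P12 := mk12 [3, 1, 2, 0, 4, 5, 7, 6, 10, 11, 8, 9] [3, 1, 2, 0, 4, 5, 7, 6, 10, 11, 8, 9] (by decide +kernel) (by decide +kernel)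
def pX2 : P12 := mk12 [1, 0, 2, 3, 4, 5, 9, 10, 11, 6, 7, 8] [1, 0, 2, 3, 4, 5, 9, 10, 11, 6, 7, 8] (by decide +kernel) (by decide +kernel)
def pX3 : P12 := mk12 [0, 2, 1, 3, 4, 5, 11, 9, 10, 7, 8, 6] [0, 2, 1, 3, 4, 5, 11, 9, 10, 7, 8, 6] (by decide +kernel) (by decide +kernel)

/-- The eight elements fixing the first four points. -/
def qList : List P12 := [1, pU, qU2, qU3, pV, qV3, pW, qW3]

/-- The elementary abelian group of order nine. -/
def tList : List P12 := [1, pT, tT2, pS, tST, tST2, tS2, tS2T, tS2T2]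

/-- The table of a permutation, used for comparisons in the kernel. -/
def key (p : P12) : List ℕ := (List.finRange 12).map fun i => (p i).val

lemma eq_of_key {a b : P12} (h : (key a == key b) = true) : a = b := by
  have h' := eq_of_beq h
  exact Equiv.ext fun i => Fin.ext ((List.map_inj_left.1 h') i (List.mem_finRange i))

lemma mem_of_key {a : P12} {l : List P12} (h : (l.map key).contains (key a) = true) : a ∈ l := by
  obtain ⟨b, hb, e⟩ := List.mem_map.1 (List.contains_iff_mem.1 h)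
  rwa [← eq_of_key (beq_iff_eq.2 e)]

lemma all_mem {l l' : List P12} (f : P12 → P12)
    (h : (l.all fun a => (l'.map key).contains (key (f a))) = true) : ∀ a ∈ l, f a ∈ l' :=
  fun a ha => mem_of_key (List.all_eq_true.1 h a ha)

lemma all_mem₂ {l l' l'' : List P12} (f : P12 → P12 → P12)
    (h : (l.all fun a => l'.all fun b => (l''.map key).contains (key (f a b))) = true) :
    ∀ a ∈ l, ∀ b ∈ l', f a b ∈ l'' :=
  fun a ha b hb => mem_of_key (List.all_eq_true.1 (List.all_eq_true.1 h a ha) b hb)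

def QQ : Subgroup P12 := Subgroup.closure {pU, pV, pW}
def TT : Subgroup P12 := Subgroup.closure {pS, pT}
def NN : Subgroup P12 := TT ⊔ QQ
def GG : Subgroup P12 := NN ⊔ Subgroup.zpowers pX1
def M11' : Subgroup P12 := GG ⊔ Subgroup.zpowers pX2

/-- A subgroup generated by a set lying in a closed list lies in the list. -/
lemma closure_list (S : Set P12) (l : List P12) (h1 : (1 : P12) ∈ l) (hS : ∀ x ∈ S, x ∈ l)
    (hmul : ∀ a ∈ l, ∀ b ∈ l, a * b ∈ l) (hinv : ∀ a ∈ l, a⁻¹ ∈ l) :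
    ∀ g ∈ Subgroup.closure S, g ∈ l := fun g hg => by
  induction hg using Subgroup.closure_induction with
  | mem x hx => exact hS x hx
  | one => exact h1
  | mul a b _ _ iha ihb => exact hmul a iha b ihb
  | inv a _ ih => exact hinv a ih

lemma mem_qList : ∀ g ∈ QQ, g ∈ qList :=
  closure_list _ qList (List.mem_cons_self ..)
    (by rintro x (rfl | rfl | rfl) <;> exact mem_of_key (by decide +kernel))
    (all_mem₂ (fun a b => a * b) (by decide +kernel)) (all_mem (fun a => a⁻¹) (by decide +kernel))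

lemma mem_tList : ∀ g ∈ TT, g ∈ tList :=
  closure_list _ tList (List.mem_cons_self ..)
    (by rintro x (rfl | rfl) <;> exact mem_of_key (by decide +kernel))
    (all_mem₂ (fun a b => a * b) (by decide +kernel)) (all_mem (fun a => a⁻¹) (by decide +kernel))

lemma u_mem : pU ∈ QQ := Subgroup.subset_closure (by simp)
lemma v_mem : pV ∈ QQ := Subgroup.subset_closure (by simp)
lemma w_mem : pW ∈ QQ := Subgroup.subset_closure (by simp)

lemma qList_mem : ∀ g ∈ qList, g ∈ QQ := by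
  intro g hg
  simp only [qList, List.mem_cons, List.not_mem_nil, or_false] at hg
  rcases hg with rfl | rfl | rfl | rfl | rfl | rfl | rfl | rfl
  · exact one_mem _
  · exact u_mem
  · rw [eq_of_key (show (key qU2 == key (pU * pU)) = true by decide +kernel)]
    exact mul_mem u_mem u_mem
  · rw [eq_of_key (show (key qU3 == key (pU * pU * pU)) = true by decide +kernel)]
    exact mul_mem (mul_mem u_mem u_mem) u_mem
  · exact v_mem
  · rw [eq_of_key (show (key qV3 == key (pV * pV * pV)) = true by decide +kernel)]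
    exact mul_mem (mul_mem v_mem v_mem) v_mem
  · exact w_mem
  · rw [eq_of_key (show (key qW3 == key (pW * pW * pW)) = true by decide +kernel)]
    exact mul_mem (mul_mem w_mem w_mem) w_mem

lemma s_mem : pS ∈ TT := Subgroup.subset_closure (by simp)
lemma t_mem : pT ∈ TT := Subgroup.subset_closure (by simp)

lemma tList_mem : ∀ g ∈ tList, g ∈ TT := by
  intro g hg
  simp only [tList, List.mem_cons, List.not_mem_nil, or_false] at hg
  rcases hg with rfl | rfl | rfl | rfl | rfl | rfl | rfl | rfl | rfl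
  · exact one_mem _
  · exact t_mem
  · rw [eq_of_key (show (key tT2 == key (pT * pT)) = true by decide +kernel)]
    exact mul_mem t_mem t_mem
  · exact s_mem
  · rw [eq_of_key (show (key tST == key (pS * pT)) = true by decide +kernel)]
    exact mul_mem s_mem t_mem
  · rw [eq_of_key (show (key tST2 == key (pS * (pT * pT))) = true by decide +kernel)]
    exact mul_mem s_mem (mul_mem t_mem t_mem)
  · rw [eq_of_key (show (key tS2 == key (pS * pS)) = true by decide +kernel)]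
    exact mul_mem s_mem s_mem
  · rw [eq_of_key (show (key tS2T == key (pS * pS * pT)) = true by decide +kernel)]
    exact mul_mem (mul_mem s_mem s_mem) t_mem
  · rw [eq_of_key (show (key tS2T2 == key (pS * pS * (pT * pT))) = true by decide +kernel)]
    exact mul_mem (mul_mem s_mem s_mem) (mul_mem t_mem t_mem)

lemma conj_tList : ∀ q ∈ qList, ∀ t ∈ tList, q * t * q⁻¹ ∈ tList :=
  all_mem₂ (fun q t => q * t * q⁻¹) (by decide +kernel)

lemma mem_NN {g : P12} (hg : g ∈ NN) : ∃ a ∈ tList, ∃ b ∈ qList, g = a * b := by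
  have hnorm : QQ ≤ Subgroup.normalizer (TT : Set P12) := by
    intro q hq
    rw [Subgroup.mem_normalizer_iff]
    intro t
    refine ⟨fun ht => tList_mem _ (conj_tList q (mem_qList q hq) t (mem_tList t ht)), fun ht => ?_⟩
    have h := tList_mem _ (conj_tList q⁻¹ (mem_qList _ (inv_mem hq)) _ (mem_tList _ ht))
    simpa [mul_assoc] using h
  obtain ⟨a, ha, b, hb, rfl⟩ := Set.mem_mul.1
    ((Subgroup.coe_mul_of_right_le_normalizer_left TT QQ hnorm).subset
      (show g ∈ ((TT ⊔ QQ : Subgroup P12) : Set P12) from hg))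
  exact ⟨a, mem_tList a ha, b, mem_qList b hb, rfl⟩

lemma tq_mem {a b : P12} (ha : a ∈ tList) (hb : b ∈ qList) : a * b ∈ NN :=
  mul_mem ((le_sup_left : TT ≤ NN) (tList_mem a ha)) ((le_sup_right : QQ ≤ NN) (qList_mem b hb))

lemma q_fix : ∀ q ∈ qList, q 0 = 0 ∧ q 1 = 1 ∧ q 2 = 2 ∧ q 3 = 3 := fun q hq => by
  simpa [and_assoc] using List.all_eq_true.1
    (show (qList.all fun q => q 0 == 0 && q 1 == 1 && q 2 == 2 && q 3 == 3) = true by decide +kernel) q hq

lemma n_fix : ∀ a ∈ tList, ∀ b ∈ qList,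
    (a * b) 0 = 0 ∧ (a * b) 1 = 1 ∧ (a * b) 2 = 2 := fun a ha b hb => by
  simpa [and_assoc] using List.all_eq_true.1 (List.all_eq_true.1
    (show (tList.all fun a => qList.all fun b =>
      (a * b) 0 == 0 && (a * b) 1 == 1 && (a * b) 2 == 2) = true by decide +kernel) a ha) b hb

lemma NN_fix {g : P12} (hg : g ∈ NN) : g 0 = 0 ∧ g 1 = 1 ∧ g 2 = 2 := by
  obtain ⟨a, ha, b, hb, rfl⟩ := mem_NN hg
  exact n_fix a ha b hb

lemma NN_stab_three {g : P12} (hg : g ∈ NN) (h3 : g 3 = 3) : g ∈ QQ := by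
  obtain ⟨a, ha, b, hb, rfl⟩ := mem_NN hg
  have hk : ∀ a ∈ tList, a 3 = 3 → a = 1 := fun a ha h => by
    have := List.all_eq_true.1
      (show (tList.all fun a => a 3 != 3 || key a == key 1) = true by decide +kernel) a ha
    rw [h] at this
    exact eq_of_key (by simpa using this)
  rw [Perm.mul_apply, (q_fix b hb).2.2.2] at h3
  rw [hk a ha h3, one_mul]
  exact qList_mem b hb

/-- The involution used for the braid relation. -/
def pR : P12 := pS * qU2

lemma u2_mem : qU2 ∈ QQ := qList_mem _ (by simp [qList])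

lemma r_mem : pR ∈ NN := mul_mem ((le_sup_left : TT ≤ NN) s_mem)
  ((le_sup_right : QQ ≤ NN) u2_mem)

lemma NN_cases : ∀ g ∈ NN, g ∈ QQ ∨ ∃ x ∈ QQ, ∃ y ∈ QQ, g = x * pR * y := by
  intro g hg
  obtain ⟨a, ha, b, hb, rfl⟩ := mem_NN hg
  have hk : ∀ a ∈ tList, a = 1 ∨ ∃ q ∈ qList, a = q * pS * q⁻¹ := fun a ha => by
    have := List.all_eq_true.1 (show (tList.all fun a =>
      key a == key 1 || qList.any fun q => key a == key (q * pS * q⁻¹)) = true by decide +kernel) a ha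
    rcases Bool.or_eq_true_iff.1 this with h | h
    · exact Or.inl (eq_of_key h)
    · obtain ⟨q, hq, h⟩ := List.any_eq_true.1 h
      exact Or.inr ⟨q, hq, eq_of_key h⟩
  rcases hk a ha with rfl | ⟨q, hq, rfl⟩
  · exact Or.inl (by rw [one_mul]; exact qList_mem b hb)
  · have hq' := qList_mem q hq
    refine Or.inr ⟨q, hq', qU2⁻¹ * q⁻¹ * b, mul_mem (mul_mem (inv_mem u2_mem)
      (inv_mem hq')) (qList_mem b hb), ?_⟩
    rw [pR]; group

lemma x1_norm : ∀ q ∈ qList, pX1 * q * pX1⁻¹ ∈ qList :=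
  all_mem (fun q => pX1 * q * pX1⁻¹) (by decide +kernel)

lemma GG_cases : ∀ g ∈ GG, g ∈ NN ∨ ∃ x ∈ NN, ∃ y ∈ NN, g = x * pX1 * y :=
  Cfsg.Agent.S0709.double_coset_step (le_refl QQ) (le_sup_right : QQ ≤ NN) r_mem NN_cases
    (by
      rw [show pX1 ^ 2 = (1 : P12) from (pow_two pX1).trans (eq_of_key (by decide +kernel))]
      exact one_mem _)
    (by
      rw [show (pR * pX1) ^ 3 = (1 : P12) from pow_three (pR * pX1) |>.trans (eq_of_key (by decide +kernel))]
      exact one_mem _)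
    (fun g hg => qList_mem _ (x1_norm g (mem_qList g hg)))

lemma GG_le {H : Subgroup P12} (hs : pS ∈ H) (ht : pT ∈ H) (hu : pU ∈ H) (hv : pV ∈ H)
    (hw : pW ∈ H) (hx : pX1 ∈ H) : GG ≤ H := by
  refine sup_le (sup_le ?_ ?_) ((Subgroup.zpowers_le).2 hx)
  · rw [TT, Subgroup.closure_le]; rintro x (rfl | rfl) <;> assumption
  · rw [QQ, Subgroup.closure_le]; rintro x (rfl | rfl | rfl) <;> assumption

lemma GG_fix {g : P12} (hg : g ∈ GG) : g 1 = 1 ∧ g 2 = 2 := by
  have h : GG ≤ stabilizer P12 (1 : Fin 12) ⊓ stabilizer P12 (2 : Fin 12) := by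
    refine GG_le ?_ ?_ ?_ ?_ ?_ ?_ <;>
      exact Subgroup.mem_inf.2 ⟨mem_stabilizer_iff.2 (by decide +kernel),
        mem_stabilizer_iff.2 (by decide +kernel)⟩
  obtain ⟨h1, h2⟩ := Subgroup.mem_inf.1 (h hg)
  exact ⟨mem_stabilizer_iff.1 h1, mem_stabilizer_iff.1 h2⟩

lemma GG_stab_zero {g : P12} (hg : g ∈ GG) (h0 : g 0 = 0) : g ∈ NN := by
  rcases GG_cases g hg with h | ⟨x, hx, y, hy, rfl⟩
  · exact h
  · exfalso
    rw [Perm.mul_apply, Perm.mul_apply, (NN_fix hy).1, show pX1 0 = 3 by decide +kernel] at h0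
    have := x.injective (h0.trans (NN_fix hx).1.symm)
    exact absurd this (by decide)

lemma NN_trans : ∀ c : Fin 12, c ≠ 0 → c ≠ 1 → c ≠ 2 → ∃ g ∈ NN, g 3 = c := by
  have hk : ∀ c : Fin 12, (c == 0 || c == 1 || c == 2 || tList.any fun a => a 3 == c) = true := by
    decide +kernel
  intro c h0 h1 h2
  have := hk c
  simp only [Bool.or_eq_true, beq_iff_eq, h0, h1, h2, false_or, List.any_eq_true] at this
  obtain ⟨a, ha, h⟩ := this
  exact ⟨a, (le_sup_left : TT ≤ NN) (tList_mem a ha), h⟩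

lemma GG_trans : ∀ c : Fin 12, c ≠ 1 → c ≠ 2 → ∃ g ∈ GG, g 0 = c := by
  intro c h1 h2
  rcases eq_or_ne c 0 with h0 | h0
  · exact ⟨1, one_mem _, h0.symm ▸ rfl⟩
  · obtain ⟨g, hg, h⟩ := NN_trans c h0 h1 h2
    refine ⟨g * pX1, mul_mem ((le_sup_left : NN ≤ GG) hg)
      ((le_sup_right : Subgroup.zpowers pX1 ≤ GG) (Subgroup.mem_zpowers _)), ?_⟩
    rw [Perm.mul_apply, show pX1 0 = 3 by decide +kernel, h]

/-- `GG` moves the pair `(0, 3)` to any pair avoiding `1, 2`. -/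
lemma GG_two {c d : Fin 12} (hc1 : c ≠ 1) (hc2 : c ≠ 2) (hd1 : d ≠ 1) (hd2 : d ≠ 2) (hcd : c ≠ d) :
    ∃ g ∈ GG, g 0 = c ∧ g 3 = d := by
  obtain ⟨g, hg, h0⟩ := GG_trans c hc1 hc2
  obtain ⟨f1, f2⟩ := GG_fix hg
  obtain ⟨k, hk, hk3⟩ := NN_trans (g⁻¹ d)
    (fun e => hcd (by rw [← h0, ← e, show g (g⁻¹ d) = d from g.apply_symm_apply d]))
    (fun e => hd1 (by rw [← f1, ← e, show g (g⁻¹ d) = d from g.apply_symm_apply d]))
    (fun e => hd2 (by rw [← f2, ← e, show g (g⁻¹ d) = d from g.apply_symm_apply d]))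
  refine ⟨g * k, mul_mem hg ((le_sup_left : NN ≤ GG) hk), ?_, ?_⟩
  · rw [Perm.mul_apply, (NN_fix hk).1, h0]
  · rw [Perm.mul_apply, hk3]; exact g.apply_symm_apply d

lemma q_trans : ∀ c d : Fin 12, c ≠ 0 → c ≠ 1 → c ≠ 2 → c ≠ 3 → d ≠ 0 → d ≠ 1 → d ≠ 2 → d ≠ 3 →
    ∃ q ∈ qList, q c = d := by
  have hk : ∀ c d : Fin 12, (c == 0 || c == 1 || c == 2 || c == 3 || d == 0 || d == 1 || d == 2 ||
      d == 3 || qList.any fun q => q c == d) = true := by decide +kernel
  intro c d a1 a2 a3 a4 b1 b2 b3 b4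
  have := hk c d
  simpa only [Bool.or_eq_true, beq_iff_eq, a1, a2, a3, a4, b1, b2, b3, b4, false_or,
    List.any_eq_true] using this

lemma q_free : ∀ q ∈ qList, ∀ c : Fin 12, c ≠ 0 → c ≠ 1 → c ≠ 2 → c ≠ 3 → q c = c → q = 1 := by
  intro q hq c a1 a2 a3 a4 h
  have h1 := List.all_eq_true.1 (show (qList.all fun q => (List.finRange 12).all fun c =>
    c == 0 || c == 1 || c == 2 || c == 3 || q c != c || key q == key 1) = true by decide +kernel) q hq
  have := List.all_eq_true.1 h1 c (List.mem_finRange c)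
  simp only [Bool.or_eq_true, beq_iff_eq, bne_iff_ne, a1, a2, a3, a4, h, ne_eq, not_true, false_or] at this
  exact eq_of_key (beq_iff_eq.2 this)

lemma norm_x2 {g : P12} (hg : g ∈ NN) : pX2 * g * pX2⁻¹ ∈ NN := by
  obtain ⟨a, ha, b, hb, rfl⟩ := mem_NN hg
  have k1 := all_mem (l := tList) (l' := tList) (fun a => pX2 * a * pX2⁻¹) (by decide +kernel)
  have k2 := all_mem (l := qList) (l' := qList) (fun b => pX2 * b * pX2⁻¹) (by decide +kernel)
  rw [show pX2 * (a * b) * pX2⁻¹ = (pX2 * a * pX2⁻¹) * (pX2 * b * pX2⁻¹) by group]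
  exact tq_mem (k1 a ha) (k2 b hb)

lemma norm_x3 {g : P12} (hg : g ∈ NN) : pX3 * g * pX3⁻¹ ∈ NN := by
  obtain ⟨a, ha, b, hb, rfl⟩ := mem_NN hg
  have k1 := all_mem (l := tList) (l' := tList) (fun a => pX3 * a * pX3⁻¹) (by decide +kernel)
  have k2 := all_mem (l := qList) (l' := qList) (fun b => pX3 * b * pX3⁻¹) (by decide +kernel)
  rw [show pX3 * (a * b) * pX3⁻¹ = (pX3 * a * pX3⁻¹) * (pX3 * b * pX3⁻¹) by group]
  exact tq_mem (k1 a ha) (k2 b hb)

/-- The chain of points. -/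
def qq : ℕ → Fin 12
  | 1 => 3
  | 2 => 0
  | 3 => 1
  | _ => 2

/-- The chain of involutions. -/
def ss : ℕ → P12
  | 1 => pX1
  | 2 => pX2
  | _ => pX3

lemma witt : IsMultiplyPretransitive ↥(M11' ⊔ Subgroup.zpowers pX3) (Fin 12) 4 ∧
    ∀ g ∈ M11' ⊔ Subgroup.zpowers pX3, g 0 = 0 → g 1 = 1 → g 2 = 2 → g 3 = 3 → g ∈ QQ := by
  have hH : QQ = GG ⊓ stabilizer P12 (qq 1) ⊓ stabilizer P12 (qq 2) := by
    refine le_antisymm (fun g hg => ?_) (fun g hg => ?_)
    · obtain ⟨h0, h1, h2, h3⟩ := q_fix g (mem_qList g hg)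
      exact Subgroup.mem_inf.2 ⟨Subgroup.mem_inf.2 ⟨(le_sup_left : NN ≤ GG)
        ((le_sup_right : QQ ≤ NN) hg), mem_stabilizer_iff.2 h3⟩, mem_stabilizer_iff.2 h0⟩
    · obtain ⟨h, h0⟩ := Subgroup.mem_inf.1 hg
      obtain ⟨hgG, h3⟩ := Subgroup.mem_inf.1 h
      exact NN_stab_three (GG_stab_zero hgG (mem_stabilizer_iff.1 h0)) (mem_stabilizer_iff.1 h3)
  have hx1 : pX1 ∈ GG := (le_sup_right : Subgroup.zpowers pX1 ≤ GG) (Subgroup.mem_zpowers _)
  obtain ⟨h1, h2⟩ := Cfsg.Agent.S0709.result 4 (by norm_num) qq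
    (by intro i j hi hi' hj hj'; interval_cases i <;> interval_cases j <;> decide)
    GG (fun g hg i hi hi' => by
      obtain ⟨f1, f2⟩ := GG_fix hg
      interval_cases i
      · exact f1
      · exact f2)
    (fun a b c d h hab hcd => by
      obtain ⟨ha1, hb1, hc1, hd1⟩ := h 3 le_rfl (by norm_num)
      obtain ⟨ha2, hb2, hc2, hd2⟩ := h 4 (by norm_num) le_rfl
      obtain ⟨g, hg, hga, hgb⟩ := GG_two ha1 ha2 hb1 hb2 hab
      obtain ⟨k, hk, hkc, hkd⟩ := GG_two hc1 hc2 hd1 hd2 hcd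
      refine ⟨k * g⁻¹, mul_mem hk (inv_mem hg), ?_, ?_⟩
      · rw [Perm.mul_apply, ← hga, show g⁻¹ (g 0) = 0 from g.symm_apply_apply 0, hkc]
      · rw [Perm.mul_apply, ← hgb, show g⁻¹ (g 3) = 3 from g.symm_apply_apply 3, hkd])
    ss hx1 ⟨by decide +kernel, by decide +kernel⟩
    (fun i hi hi' => by
      rcases (show i = 2 ∨ i = 3 by omega) with rfl | rfl
      · refine ⟨by decide +kernel, by decide +kernel, fun j hj hj' a b => ?_⟩
        interval_cases j <;> first | (exfalso; omega) | decide +kernel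
      · refine ⟨by decide +kernel, by decide +kernel, fun j hj hj' a b => ?_⟩
        interval_cases j <;> first | (exfalso; omega) | decide +kernel)
    QQ hH
    (fun i hi hi' => by
      refine qList_mem _ (mem_of_key ?_)
      rcases (show i = 1 ∨ i = 2 ∨ i = 3 by omega) with rfl | rfl | rfl <;> rw [pow_two] <;>
        decide +kernel)
    (fun i hi hi' => by
      refine qList_mem _ (mem_of_key ?_)
      rcases (show i = 1 ∨ i = 2 by omega) with rfl | rfl <;> rw [pow_three] <;> decide +kernel)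
    (fun i j hi hij hj => by
      obtain rfl : i = 1 := by omega
      obtain rfl : j = 3 := by omega
      exact ⟨qList_mem _ (mem_of_key (by rw [pow_two]; decide +kernel)),
        qList_mem _ (mem_of_key (by rw [pow_two]; decide +kernel))⟩)
    (fun i hi hi' g hg => by
      obtain ⟨hgG, hg0⟩ := Subgroup.mem_inf.1 hg
      have hN := GG_stab_zero hgG (mem_stabilizer_iff.1 hg0)
      have : ∀ k ∈ NN, k ∈ GG ⊓ stabilizer P12 (qq 2) := fun k hk =>
        Subgroup.mem_inf.2 ⟨(le_sup_left : NN ≤ GG) hk, mem_stabilizer_iff.2 (NN_fix hk).1⟩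
      refine this _ ?_
      rcases (show i = 2 ∨ i = 3 by omega) with rfl | rfl
      · exact norm_x2 hN
      · exact norm_x3 hN)
  have heq : Subgroup.closure ((GG : Set P12) ∪ {x | ∃ i : ℕ, 2 ≤ i ∧ i + 1 ≤ 4 ∧ x = ss i}) =
      M11' ⊔ Subgroup.zpowers pX3 := by
    refine le_antisymm ((Subgroup.closure_le _).2 ?_) (sup_le (sup_le ?_ ?_) ?_)
    · rintro x (hx | ⟨i, hi, hi', rfl⟩)
      · exact (le_sup_left : M11' ≤ _) ((le_sup_left : GG ≤ M11') hx)
      · rcases (show i = 2 ∨ i = 3 by omega) with rfl | rfl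
        · exact (le_sup_left : M11' ≤ _)
            ((le_sup_right : Subgroup.zpowers pX2 ≤ M11') (Subgroup.mem_zpowers _))
        · exact (le_sup_right : Subgroup.zpowers pX3 ≤ _) (Subgroup.mem_zpowers _)
    · exact fun x hx => Subgroup.subset_closure (Or.inl hx)
    · exact Subgroup.zpowers_le.2 (Subgroup.subset_closure (Or.inr ⟨2, le_rfl, by norm_num, rfl⟩))
    · exact Subgroup.zpowers_le.2 (Subgroup.subset_closure (Or.inr ⟨3, by norm_num, le_rfl, rfl⟩))
  rw [heq] at h1 h2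
  refine ⟨h1, fun g hg e0 e1 e2 e3 => ?_⟩
  rw [← h2]
  refine Subgroup.mem_inf.2 ⟨hg, ?_⟩
  rw [mem_fixingSubgroup_iff]
  rintro x ⟨i, hi, hi', rfl⟩
  interval_cases i <;> assumption

lemma M11_trans : ∀ c : Fin 12, c ≠ 2 → ∃ g ∈ M11', g 1 = c := by
  intro c hc
  rcases eq_or_ne c 1 with h | h
  · exact ⟨1, one_mem _, h.symm ▸ rfl⟩
  · obtain ⟨g, hg, hg0⟩ := GG_trans c h hc
    refine ⟨g * pX2, mul_mem ((le_sup_left : GG ≤ M11') hg)
      ((le_sup_right : Subgroup.zpowers pX2 ≤ M11') (Subgroup.mem_zpowers _)), ?_⟩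
    rw [Perm.mul_apply, show pX2 1 = 0 by decide +kernel, hg0]


lemma QQ_le_M : QQ ≤ M11' ⊔ Subgroup.zpowers pX3 :=
  ((le_sup_right : QQ ≤ NN).trans (le_sup_left : NN ≤ GG)).trans
    ((le_sup_left : GG ≤ M11').trans le_sup_left)

/-- The first four points. -/
def base4 : Fin 4 ↪ Fin 12 := ⟨![0, 1, 2, 3], by decide⟩

set_option maxHeartbeats 800000 in
lemma five_transitive : IsMultiplyPretransitive ↥(M11' ⊔ Subgroup.zpowers pX3) (Fin 12) 5 := by
  obtain ⟨h4, hstab⟩ := witt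
  have hQM := QQ_le_M
  refine ⟨fun a c => ?_⟩
  obtain ⟨g, hg⟩ := h4.exists_smul_eq ((Fin.castLEEmb (by norm_num : 4 ≤ 5)).trans a) base4
  obtain ⟨k, hk⟩ := h4.exists_smul_eq ((Fin.castLEEmb (by norm_num : 4 ≤ 5)).trans c) base4
  have hgi : ∀ i : Fin 4, (g : P12) (a (Fin.castLE (by norm_num) i)) = base4 i := fun i =>
    congrArg (fun f : Fin 4 ↪ Fin 12 => f i) hg
  have hki : ∀ i : Fin 4, (k : P12) (c (Fin.castLE (by norm_num) i)) = base4 i := fun i =>
    congrArg (fun f : Fin 4 ↪ Fin 12 => f i) hk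
  have hav : ∀ (f : P12) (e : Fin 5 ↪ Fin 12), (∀ i : Fin 4, f (e (Fin.castLE (by norm_num) i)) = base4 i) →
      ∀ i : Fin 4, f (e 4) ≠ base4 i := by
    intro f e h i heq
    rw [← h i] at heq
    have hval := congrArg Fin.val (e.injective (f.injective heq))
    simp at hval
    omega
  obtain ⟨q, hq, hqe⟩ := q_trans ((g : P12) (a 4)) ((k : P12) (c 4))
    (hav _ a hgi 0) (hav _ a hgi 1) (hav _ a hgi 2) (hav _ a hgi 3)
    (hav _ c hki 0) (hav _ c hki 1) (hav _ c hki 2) (hav _ c hki 3)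
  refine ⟨k⁻¹ * ⟨q, hQM (qList_mem q hq)⟩ * g, ?_⟩
  ext i : 1
  show (k : P12)⁻¹ (q ((g : P12) (a i))) = c i
  rw [Equiv.Perm.inv_eq_iff_eq]
  rcases (show (∃ j : Fin 4, i = Fin.castLE (by norm_num) j) ∨ i = 4 by
    revert i; decide) with ⟨j, rfl⟩ | rfl
  · obtain ⟨f0, f1, f2, f3⟩ := q_fix q hq
    rw [hgi, hki]
    fin_cases j <;> assumption
  · exact hqe

set_option maxHeartbeats 800000 in
lemma sharp_five : ∀ y : Fin 5 ↪ Fin 12, stabilizer ↥(M11' ⊔ Subgroup.zpowers pX3) y = ⊥ := by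
  obtain ⟨h4, hstab⟩ := witt
  intro y
  refine (Subgroup.eq_bot_iff_forall _).2 fun g hg => ?_
  obtain ⟨k, hk⟩ := h4.exists_smul_eq ((Fin.castLEEmb (by norm_num : 4 ≤ 5)).trans y) base4
  have hki : ∀ i : Fin 4, (k : P12) (y (Fin.castLE (by norm_num) i)) = base4 i := fun i =>
    congrArg (fun f : Fin 4 ↪ Fin 12 => f i) hk
  have hgy : ∀ i, (g : P12) (y i) = y i := fun i =>
    congrArg (fun f : Fin 5 ↪ Fin 12 => f i) (mem_stabilizer_iff.1 hg)
  set h : ↥(M11' ⊔ Subgroup.zpowers pX3) := k * g * k⁻¹ with hh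
  have hhy : ∀ i, (h : P12) ((k : P12) (y i)) = (k : P12) (y i) := fun i => by
    show (k : P12) ((g : P12) ((k : P12)⁻¹ ((k : P12) (y i)))) = _
    rw [show (k : P12)⁻¹ ((k : P12) (y i)) = y i from (k : P12).symm_apply_apply _, hgy]
  have hf : ∀ i : Fin 4, (h : P12) (base4 i) = base4 i := fun i => by rw [← hki]; exact hhy _
  have hq := mem_qList _ (hstab _ h.2 (hf 0) (hf 1) (hf 2) (hf 3))
  have hne : ∀ i : Fin 4, (k : P12) (y 4) ≠ base4 i := by
    intro i heq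
    rw [← hki] at heq
    have hval := congrArg Fin.val (y.injective ((k : P12).injective heq))
    simp at hval
    omega
  have h1 : h = 1 := Subtype.ext (q_free _ hq _ (hne 0) (hne 1) (hne 2) (hne 3) (hhy 4))
  have e : g = k⁻¹ * h * k := by rw [hh]; group
  rw [e, h1]; group

lemma M11_eq : M11' = (M11' ⊔ Subgroup.zpowers pX3) ⊓ stabilizer P12 (2 : Fin 12) := by
  obtain ⟨h4, hstab⟩ := witt
  set M := M11' ⊔ Subgroup.zpowers pX3 with hM
  have hfix2 : ∀ g ∈ M11', g 2 = 2 := by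
    have h : M11' ≤ stabilizer P12 (2 : Fin 12) :=
      sup_le (fun g hg => mem_stabilizer_iff.2 (GG_fix hg).2)
        (Subgroup.zpowers_le.2 (mem_stabilizer_iff.2 (by decide +kernel)))
    exact fun g hg => mem_stabilizer_iff.1 (h hg)
  have hinf : M11' = M ⊓ stabilizer P12 (2 : Fin 12) := by
    refine le_antisymm (le_inf le_sup_left fun g hg => mem_stabilizer_iff.2 (hfix2 g hg))
      fun g hg => ?_
    obtain ⟨hgM, h2⟩ := Subgroup.mem_inf.1 hg
    rw [mem_stabilizer_iff] at h2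
    obtain ⟨m, hm, hm1⟩ := M11_trans (g 1) (fun e => absurd (g.injective (e.trans h2.symm)) (by decide))
    set g₁ := m⁻¹ * g with hg₁
    have hg₁M : g₁ ∈ M := mul_mem (inv_mem ((le_sup_left : M11' ≤ M) hm)) hgM
    have e1 : g₁ 1 = 1 := by rw [hg₁, Perm.mul_apply, Perm.inv_eq_iff_eq, hm1]
    have e2 : g₁ 2 = 2 := by
      rw [hg₁, Perm.mul_apply, show g 2 = 2 from h2, Perm.inv_eq_iff_eq, hfix2 m hm]
    obtain ⟨k, hk, hk0, hk3⟩ := GG_two (c := g₁ 0) (d := g₁ 3)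
      (fun e => absurd (g₁.injective (e.trans e1.symm)) (by decide))
      (fun e => absurd (g₁.injective (e.trans e2.symm)) (by decide))
      (fun e => absurd (g₁.injective (e.trans e1.symm)) (by decide))
      (fun e => absurd (g₁.injective (e.trans e2.symm)) (by decide))
      (fun e => absurd (g₁.injective e) (by decide))
    obtain ⟨f1, f2⟩ := GG_fix hk
    have hq : k⁻¹ * g₁ ∈ QQ := by
      refine hstab _ (mul_mem (inv_mem ((le_sup_left : M11' ≤ M) ((le_sup_left : GG ≤ M11') hk))) hg₁M)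
        ?_ ?_ ?_ ?_ <;> rw [Perm.mul_apply, Perm.inv_eq_iff_eq]
      · exact hk0.symm
      · rw [e1, f1]
      · rw [e2, f2]
      · exact hk3.symm
    have e : g = m * (k * (k⁻¹ * g₁)) := by rw [hg₁]; group
    rw [e]
    exact mul_mem hm ((le_sup_left : GG ≤ M11') (mul_mem hk
      ((le_sup_left : NN ≤ GG) ((le_sup_right : QQ ≤ NN) hq))))
  exact hinf

lemma M11_fix {g : P12} (hg : g ∈ M11') : g 2 = 2 :=
  mem_stabilizer_iff.1 (Subgroup.mem_inf.1 (M11_eq.le hg)).2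

lemma card_inf_stabilizer {α : Type*} [Finite α] (M H : Subgroup (Equiv.Perm α)) (a : α)
    (h : H = M ⊓ stabilizer (Equiv.Perm α) a) [IsPretransitive M α] :
    Nat.card α * Nat.card H = Nat.card M := by
  have hi := (stabilizer M a).index_mul_card
  rw [index_stabilizer_of_transitive] at hi
  rw [← hi]
  congr 1
  subst h
  exact Nat.card_congr
    { toFun := fun g => ⟨⟨g.1, (Subgroup.mem_inf.1 g.2).1⟩, (Subgroup.mem_inf.1 g.2).2⟩
      invFun := fun g => ⟨g.1.1, Subgroup.mem_inf.2 ⟨g.1.2, g.2⟩⟩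
      left_inv := fun g => rfl
      right_inv := fun g => rfl }

lemma cards : Nat.card ↥(M11' ⊔ Subgroup.zpowers pX3) = 95040 ∧ Nat.card M11' = 7920 := by
  have h5 := five_transitive
  have hcard : Nat.card ↥(M11' ⊔ Subgroup.zpowers pX3) = 95040 := by
    haveI := five_transitive
    rw [CfsgLib.SmallGroups.SharpMathieu.card_of_sharp (n := 5) (by simp) sharp_five, Fintype.card_fin]
    rfl
  haveI : IsPretransitive ↥(M11' ⊔ Subgroup.zpowers pX3) (Fin 12) := is_one_pretransitive_iff.1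
    (isMultiplyPretransitive_of_le (n := 5) (by norm_num) (le_of_eq_of_le rfl
      (le_trans (by norm_num : 5 ≤ 12) (le_of_eq (Nat.card_fin 12).symm))))
  have hi := card_inf_stabilizer (M11' ⊔ Subgroup.zpowers pX3) M11' 2 M11_eq
  rw [hcard, Nat.card_fin] at hi
  exact ⟨hcard, Nat.eq_of_mul_eq_mul_left (by norm_num : 0 < 12) (hi.trans (by norm_num))⟩

/-- An explicit construction of the Mathieu groups of degrees 11 and 12. On the points 0, …, 11 let s = (3 4 5)(6 7 8)(9 10 11), t = (3 6 9)(4 7 10)(5 8 11), u = (4 6 5 9)(7 8 11 10), v = (4 7 5 11)(6 10 9 8), w = (4 10 5 8)(6 11 9 7), x₁ = (0 3)(6 7)(8 10)(9 11), x₂ = (0 1)(6 9)(7 10)(8 11), x₃ = (1 2)(6 11)(7 9)(8 10) (each written as a product of transpositions). Then the group M₁₂ generated by all eight permutations is sharply 5-transitive on the 12 points and has order 95040, and the group M₁₁ generated by the first seven has order 7920 and is the stabilizer of the point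 2 in M₁₂. -/
theorem result
    (s t u v w x₁ x₂ x₃ : Equiv.Perm (Fin 12))
    (hs : s = Equiv.swap (3 : Fin 12) 5 * Equiv.swap (3 : Fin 12) 4 * Equiv.swap (6 : Fin 12) 8 * Equiv.swap (6 : Fin 12) 7 * Equiv.swap (9 : Fin 12) 11 * Equiv.swap (9 : Fin 12) 10) (ht : t = Equiv.swap (3 : Fin 12) 9 * Equiv.swap (3 : Fin 12) 6 * Equiv.swap (4 : Fin 12) 10 * Equiv.swap (4 : Fin 12) 7 * Equiv.swap (5 : Fin 12) 11 * Equiv.swap (5 : Fin 12) 8)
    (hu : u = Equiv.swap (4 : Fin 12) 9 * Equiv.swap (4 : Fin 12) 5 * Equiv.swap (4 : Fin 12) 6 * Equiv.swap (7 : Fin 12) 10 * Equiv.swap (7 : Fin 12) 11 * Equiv.swap (7 : Fin 12) 8) (hv : v = Equiv.swap (4 : Fin 12) 11 * Equiv.swap (4 : Fin 12) 5 * Equiv.swap (4 : Fin 12) 7 * Equiv.swap (6 : Fin 12) 8 * Equiv.swap (6 : Fin 12) 9 * Equiv.swap (6 : Fin 12) 10) (hw : w = Equiv.swap (4 : Fin 12) 8 * Equiv.swap (4 : Fin 12) 5 * Equiv.swap (4 : Fin 12) 10 * Equiv.swap (6 : Fin 12) 7 * Equiv.swap (6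 : Fin 12) 9 * Equiv.swap (6 : Fin 12) 11)
    (hx₁ : x₁ = Equiv.swap (0 : Fin 12) 3 * Equiv.swap (6 : Fin 12) 7 * Equiv.swap (8 : Fin 12) 10 * Equiv.swap (9 : Fin 12) 11) (hx₂ : x₂ = Equiv.swap (0 : Fin 12) 1 * Equiv.swap (6 : Fin 12) 9 * Equiv.swap (7 : Fin 12) 10 * Equiv.swap (8 : Fin 12) 11)
    (hx₃ : x₃ = Equiv.swap (1 : Fin 12) 2 * Equiv.swap (6 : Fin 12) 11 * Equiv.swap (7 : Fin 12) 9 * Equiv.swap (8 : Fin 12) 10)
    (M₁₂ M₁₁ : Subgroup (Equiv.Perm (Fin 12))) (hM₁₂ : M₁₂ = Subgroup.closure {s, t, u, v, w, x₁, x₂, x₃})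
    (hM₁₁ : M₁₁ = Subgroup.closure {s, t, u, v, w, x₁, x₂}) :
    MulAction.IsMultiplyPretransitive M₁₂ (Fin 12) 5 ∧ (∀ y : Fin 5 ↪ Fin 12, MulAction.stabilizer M₁₂ y = ⊥) ∧
    Nat.card M₁₂ = 95040 ∧ Nat.card M₁₁ = 7920 ∧
    M₁₁ = M₁₂ ⊓ MulAction.stabilizer (Equiv.Perm (Fin 12)) (2 : Fin 12) := by
  classical
  obtain rfl : s = pS := hs.trans (eq_of_key (by decide +kernel))
  obtain rfl : t = pT := ht.trans (eq_of_key (by decide +kernel))
  obtain rfl : u = pU := hu.trans (eq_of_key (by decide +kernel))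
  obtain rfl : v = pV := hv.trans (eq_of_key (by decide +kernel))
  obtain rfl : w = pW := hw.trans (eq_of_key (by decide +kernel))
  obtain rfl : x₁ = pX1 := hx₁.trans (eq_of_key (by decide +kernel))
  obtain rfl : x₂ = pX2 := hx₂.trans (eq_of_key (by decide +kernel))
  obtain rfl : x₃ = pX3 := hx₃.trans (eq_of_key (by decide +kernel))
  have e11 : M₁₁ = M11' := by
    rw [hM₁₁]
    refine le_antisymm ((Subgroup.closure_le _).2 ?_)
      (sup_le (GG_le ?_ ?_ ?_ ?_ ?_ ?_) (Subgroup.zpowers_le.2 (Subgroup.subset_closure (by simp))))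
    · rintro x (rfl | rfl | rfl | rfl | rfl | rfl | rfl)
      all_goals first
        | exact (le_sup_right : Subgroup.zpowers pX2 ≤ M11') (Subgroup.mem_zpowers _)
        | exact (le_sup_left : GG ≤ M11') ((le_sup_right : Subgroup.zpowers pX1 ≤ GG) (Subgroup.mem_zpowers _))
        | exact (le_sup_left : GG ≤ M11') ((le_sup_left : NN ≤ GG) ((le_sup_left : TT ≤ NN) s_mem))
        | exact (le_sup_left : GG ≤ M11') ((le_sup_left : NN ≤ GG) ((le_sup_left : TT ≤ NN) t_mem))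
        | exact (le_sup_left : GG ≤ M11') ((le_sup_left : NN ≤ GG) ((le_sup_right : QQ ≤ NN) u_mem))
        | exact (le_sup_left : GG ≤ M11') ((le_sup_left : NN ≤ GG) ((le_sup_right : QQ ≤ NN) v_mem))
        | exact (le_sup_left : GG ≤ M11') ((le_sup_left : NN ≤ GG) ((le_sup_right : QQ ≤ NN) w_mem))
    all_goals exact Subgroup.subset_closure (by simp)
  have e12 : M₁₂ = M11' ⊔ Subgroup.zpowers pX3 := by
    rw [← e11, hM₁₁, hM₁₂, Subgroup.zpowers_eq_closure, ← Subgroup.closure_union]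
    congr 1
    ext y
    simp only [Set.mem_union, Set.mem_insert_iff, Set.mem_singleton_iff]
    tauto
  clear hM₁₁ hM₁₂
  subst e11 e12
  exact ⟨five_transitive, sharp_five, cards.1, cards.2, M11_eq⟩

end Cfsg.Agent.S3362
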