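import Cfsg.Statements.S3365
import Cfsg.Agent.Lib.Perm.FixityFour.SmallFix
import Cfsg.Agent.Lib.Perm.FixityFour.OddPart
import Cfsg.Agent.Lib.Perm.FixityFour.FourFix
import Cfsg.Agent.Lib.Perm.FixityFour.Embedded
-- import your own Cfsg.Agent.* helpers here

set_option autoImplicit false
set_option linter.style.haveILetI false
open Cfsg

namespace Cfsg.Agent.S3365

open CfsgLib.Perm.FixityFour

/-- Semidihedral groups are recognised up to isomorphism. -/
theorem isQuasiDihedral_of_equiv {A B : Type*} [Group A] [Group B] (e : A ≃* B) (h : Cfsg.IsQuasiDihedral A) :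
    Cfsg.IsQuasiDihedral B := by
  obtain ⟨n, hn, hc, x, y, hx, hy, hxy⟩ := h
  refine ⟨n, hn, (Nat.card_congr e.toEquiv).symm.trans hc, e x, e y, by rw [MulEquiv.orderOf_eq, hx],
    by rw [MulEquiv.orderOf_eq, hy], ?_⟩
  rw [← map_inv, ← map_mul, ← map_mul, hxy, map_pow]

/-- Finite simple groups acting with fixity 4. Let G be a finite non-abelian simple group acting faithfully and transitively on a finite set so that every non-identity element fixes at most 4 points and some non-identity element fixes exactly 4 (fixity 4). Let P be a Sylow 3-subgroup, S a Sylow 2-subgroup, f the largest number of fixed points of an involution of G, and a a point. Then one of the following holds: (1) f ≥ 1 and G has a strongly embedded subgroup; (2) 1 ≤ f ≤ 3 and S is dihedral or semidihedral; (3) f = 4 and G has sectional 2-rank at most 4; (4) the point stabilizer G_a has odd order divisible by 3 and either G has a strongly 3-embedded subgroup (a proper subgroup H of order divisible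 by 3 such that H ∩ gHg⁻¹ has order prime to 3 for every element g outside H), or |P| = 3 and a Sylow 2-subgroup of N_G(P) has order at most 4, or P is elementary abelian of order 9, or P is extraspecial of order 27 and exponent 3, or P is isomorphic to a Sylow 3-subgroup of Sym(9) (the wreath product C₃ ≀ C₃); (5) G_a has order prime to 6. -/
theorem result {G Ω : Type*} [Group G] [Finite G] [IsSimpleGroup G] (hna : ¬ IsMulCommutative G)
    [MulAction G Ω] [FaithfulSMul G Ω] [Finite Ω] (htrans : MulAction.IsPretransitive G Ω)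
    (hfix : ∀ g : G, g ≠ 1 → Nat.card (MulAction.fixedBy Ω g) ≤ 4)
    (hfix4 : ∃ g : G, g ≠ 1 ∧ Nat.card (MulAction.fixedBy Ω g) = 4)
    (P : Sylow 3 G) (S : Sylow 2 G) (f : ℕ)
    (hf : ∀ g : G, orderOf g = 2 → Nat.card (MulAction.fixedBy Ω g) ≤ f)
    (hf' : ∃ g : G, orderOf g = 2 ∧ Nat.card (MulAction.fixedBy Ω g) = f) (a : Ω) :
    (1 ≤ f ∧ ∃ H : Subgroup G, Cfsg.IsStronglyEmbedded H) ∨
    (1 ≤ f ∧ f ≤ 3 ∧ ((∃ n : ℕ, Nonempty ((S : Subgroup G) ≃* DihedralGroup n)) ∨ Cfsg.IsQuasiDihedral (S : Subgroup G))) ∨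
    (f = 4 ∧ Cfsg.SectionalPRankLE 2 4 G) ∨
    (Odd (Nat.card (MulAction.stabilizer G a)) ∧ 3 ∣ Nat.card (MulAction.stabilizer G a) ∧
      ((∃ H : Subgroup G, H ≠ ⊤ ∧ 3 ∣ Nat.card H ∧ ∀ g : G, g ∉ H → ¬ 3 ∣ Nat.card ↥(H ⊓ H.map (MulAut.conj g).toMonoidHom)) ∨
       (Nat.card P = 3 ∧ ∀ T : Sylow 2 (Subgroup.normalizer ((P : Subgroup G) : Set G)), Nat.card T ≤ 4) ∨
       (Nat.card P = 9 ∧ ∀ x ∈ (P : Subgroup G), x ^ 3 = 1) ∨
       (Nat.card P = 27 ∧ Cfsg.IsExtraspecial 3 (P : Subgroup G) ∧ ∀ x ∈ (P : Subgroup G), x ^ 3 = 1) ∨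
       (∃ T : Sylow 3 (Equiv.Perm (Fin 9)), Nonempty ((P : Subgroup G) ≃* (T : Subgroup (Equiv.Perm (Fin 9))))))) ∨
    (Nat.card (MulAction.stabilizer G a)).Coprime 6 := by
  classical
  haveI := htrans
  haveI : Fact (Nat.Prime 2) := ⟨Nat.prime_two⟩
  haveI : Fact (Nat.Prime 3) := ⟨Nat.prime_three⟩
  obtain ⟨t, ht, htf⟩ := hf'
  have hf4 : f ≤ 4 := htf ▸ hfix t (ne_one_of_order_two ht)
  rcases Nat.eq_zero_or_pos f with rfl | hpos
  · have hodd : ∀ b : Ω, Odd (Nat.card (MulAction.stabilizer G b)) := by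
      intro b
      by_contra he
      rw [Nat.not_odd_iff_even, even_iff_two_dvd] at he
      obtain ⟨⟨u, hu⟩, hu2⟩ := exists_prime_orderOf_dvd_card' 2 he
      rw [Subgroup.orderOf_mk] at hu2
      have h0 := Nat.le_zero.mp (hf u hu2)
      rw [Nat.card_coe_set_eq, Set.ncard_eq_zero (Set.toFinite _)] at h0
      have hb : b ∈ MulAction.fixedBy Ω u := hu
      rw [h0] at hb
      exact hb
    right; right; right
    by_cases h3 : 3 ∣ Nat.card (MulAction.stabilizer G a)
    · refine Or.inl ⟨hodd a, h3, ?_⟩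
      rcases odd_part hna htrans hfix hodd a h3 P with hse | hp
      · exact Or.inl hse
      · exact Or.inr (Or.inr (Or.inl hp))
    · refine Or.inr ?_
      rw [show (6 : ℕ) = 2 * 3 from rfl]
      exact Nat.Coprime.mul_right (Nat.coprime_two_right.mpr (hodd a))
        ((Nat.Prime.coprime_iff_not_dvd Nat.prime_three).mpr h3).symm
  rcases Nat.lt_or_ge f 4 with hlt | hge
  · rcases small_fix hna f hpos (by omega) hf ht htf with hse | ⟨S', hS'⟩
    · exact Or.inl ⟨hpos, hse⟩
    · refine Or.inr (Or.inl ⟨hpos, by omega, ?_⟩)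
      obtain ⟨g, hg⟩ := MulAction.exists_smul_eq G S' S
      have e : (S' : Subgroup G) ≃* (S : Subgroup G) := hg ▸ Sylow.equivSMul S' g
      rcases hS' with ⟨n, ⟨d⟩⟩ | hq
      · exact Or.inl ⟨n, ⟨e.symm.trans d⟩⟩
      · exact Or.inr (isQuasiDihedral_of_equiv e hq)
  · obtain rfl : f = 4 := by omega
    rcases four_fix hna htrans hfix ht htf (fun _ _ D hD => D.embedded hna hD) with hse | hsec
    · exact Or.inl ⟨hpos, hse⟩
    · exact Or.inr (Or.inr (Or.inl ⟨rfl, hsec⟩))

end Cfsg.Agent.S3365
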