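import Cfsg.Statements.S3366
import Cfsg.Agent.Lib.Classical.HeisSL.Recognition
import Cfsg.Agent.Lib.Classical.HeisSL.Model
import Cfsg.Agent.Lib.Classical.PSpThree.Congr
-- import your own Cfsg.Agent.* helpers here

set_option autoImplicit false
open Cfsg

namespace Cfsg.Agent.S3366

/-- Let X be a finite group with O₃(X) extraspecial of order 27 and exponent 3, X/O₃(X) isomorphic to SL(2,3), O₂(X) = 1, and a Sylow 3-subgroup of X containing an elementary abelian subgroup of order 27. Then X is isomorphic to the centralizer in PSp(4,3) of a 3-central element of order 3 (an element of order 3 in the centre of a Sylow 3-subgroup). -/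
theorem result {X : Type*} [Group X] [Finite X]
    (hR : Cfsg.IsExtraspecial 3 (Cfsg.pCore 3 X)) (hRcard : Nat.card (Cfsg.pCore 3 X) = 27)
    (hRexp : ∀ r ∈ Cfsg.pCore 3 X, r ^ 3 = 1)
    (e : X ⧸ Cfsg.pCore 3 X ≃* Matrix.SpecialLinearGroup (Fin 2) (ZMod 3))
    (hO2 : Cfsg.pCore 2 X = ⊥)
    (hE : ∃ E : Subgroup X, IsMulCommutative E ∧ (∀ a ∈ E, a ^ 3 = 1) ∧ Nat.card E = 27)
    (F : Type*) [Field F] [Fintype F] (hF : Fintype.card F = 3) :
    ∃ (c : Cfsg.PSp 2 F) (S : Sylow 3 (Cfsg.PSp 2 F)), orderOf c = 3 ∧ c ∈ (S : Subgroup (Cfsg.PSp 2 F)) ∧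
      c ∈ Subgroup.centralizer ((S : Subgroup (Cfsg.PSp 2 F)) : Set (Cfsg.PSp 2 F)) ∧
      Nonempty (X ≃* Subgroup.centralizer ({c} : Set (Cfsg.PSp 2 F))) := by
  classical
  have : Fact (Nat.Prime 3) := ⟨Nat.prime_three⟩
  obtain ⟨⟨hRp, hRf, hRc⟩, hRz⟩ := hR
  let π : X →* CfsgLib.Classical.HeisSL.SL2 := e.toMonoidHom.comp (QuotientGroup.mk' (Cfsg.pCore 3 X))
  have hker : π.ker = Cfsg.pCore 3 X := by
    ext x; simp [π]
  have hz : CfsgLib.Classical.HeisSL.zen π = (Subgroup.center (Cfsg.pCore 3 X)).map (Cfsg.pCore 3 X).subtype := by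
    rw [CfsgLib.Classical.HeisSL.zen, hker]
    ext x
    simp only [Subgroup.mem_inf, Subgroup.mem_map, Subgroup.mem_center_iff, Subgroup.mem_centralizer_iff,
      Subgroup.coe_subtype, SetLike.mem_coe]
    constructor
    · rintro ⟨h1, h2⟩
      exact ⟨⟨x, h1⟩, fun g => Subtype.ext (h2 g g.2), rfl⟩
    · rintro ⟨y, hy, rfl⟩
      exact ⟨y.2, fun g hg => congrArg Subtype.val (hy ⟨g, hg⟩)⟩
  have hS : CfsgLib.Classical.HeisSL.Setting π := by
    refine ⟨e.surjective.comp (QuotientGroup.mk'_surjective _), fun r hr => hRexp r (hker ▸ hr),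
      fun r hr s hs => ?_, by rw [hker, hRcard], ?_, fun c hc hcc => ?_⟩
    · rw [hker] at hr hs
      rw [hz, ← hRc]
      exact ⟨_, Subgroup.commutator_mem_commutator (Subgroup.mem_top (⟨r, hr⟩ : Cfsg.pCore 3 X))
        (Subgroup.mem_top ⟨s, hs⟩), by simp [commutatorElement_def]⟩
    · rw [hz, ← Nat.card_congr (Subgroup.equivMapOfInjective _ _ (Subgroup.subtype_injective _)).toEquiv, hRz]
    · by_contra h1
      have ho : orderOf c = 2 := by
        have : Fact (Nat.Prime 2) := ⟨Nat.prime_two⟩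
        exact orderOf_eq_prime (by rw [pow_two, hc]) h1
      have hn : (Subgroup.zpowers c).Normal := ⟨fun n hn g => by
        obtain ⟨k, rfl⟩ := hn
        show g * c ^ k * g⁻¹ ∈ _
        rw [((hcc g).zpow_right k).eq, mul_inv_cancel_right]
        exact ⟨k, rfl⟩⟩
      have hp : IsPGroup 2 (Subgroup.zpowers c) := IsPGroup.of_card (n := 1) (by
        rw [Nat.card_zpowers, ho]; norm_num)
      have hle : Subgroup.zpowers c ≤ Cfsg.pCore 2 X := le_sSup ⟨hn, hp⟩
      rw [hO2, le_bot_iff, Subgroup.zpowers_eq_bot] at hle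
      exact h1 hle
  obtain ⟨P⟩ := CfsgLib.Classical.HeisSL.exists_param hS hE
  obtain ⟨c, S, hc, hcS, hcC, ⟨Q⟩⟩ := CfsgLib.Classical.HeisSL.exists_central
  obtain ⟨iso⟩ := CfsgLib.Classical.PSpThree.psp_congr'
    (ZMod.ringEquivOfPrime F Nat.prime_three hF) 2
  obtain ⟨f⟩ := CfsgLib.Classical.HeisSL.Param.iso P Q
  have hmap : (Subgroup.centralizer ({c} : Set (Cfsg.PSp 2 (ZMod 3)))).map iso.toMonoidHom =
      Subgroup.centralizer ({iso c} : Set (Cfsg.PSp 2 F)) := by
    ext y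
    obtain ⟨x, rfl⟩ := iso.surjective y
    rw [Subgroup.mem_map_equiv, MulEquiv.symm_apply_apply, Subgroup.mem_centralizer_singleton_iff,
      Subgroup.mem_centralizer_singleton_iff, ← map_mul, ← map_mul, iso.injective.eq_iff]
  refine ⟨iso c, Sylow.mapSurjective (f := iso.toMonoidHom) iso.surjective S, ?_, ⟨c, hcS, rfl⟩, ?_,
    ⟨(f.trans (iso.subgroupMap _)).trans (MulEquiv.subgroupCongr hmap)⟩⟩
  · rw [MulEquiv.orderOf_eq, hc]
  · intro y hy
    obtain ⟨x, hx, rfl⟩ := hy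
    show iso x * iso c = iso c * iso x
    rw [← map_mul, ← map_mul, hcC x hx]

end Cfsg.Agent.S3366
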