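import Cfsg.Statements.S3370
import Cfsg.Agent.S0106
import Cfsg.Agent.Lib.Fusion.Thompson
-- import your own Cfsg.Agent.* helpers here

set_option autoImplicit false
open Cfsg

namespace Cfsg.Agent.S3370


theorem mersenne {p n j : ℕ} (hp : p.Prime) (hj : 1 ≤ j) (h : p ^ j + 1 = 2 ^ n) : j = 1 := by
  have hodd : Odd (p ^ j) := by
    rcases Nat.even_or_odd (p ^ j) with he | ho
    · exfalso
      obtain ⟨n, rfl⟩ : ∃ m, n = m + 1 := ⟨n - 1, by
        rcases n with _ | n
        · simp at h; exact absurd h.1 hp.ne_zero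
        · rfl⟩
      obtain ⟨r, hr⟩ := he
      rw [hr, pow_succ] at h
      omega
    · exact ho
  have hpodd : Odd p := (Nat.odd_pow_iff (by omega)).1 hodd
  have hn2 : 2 ≤ n := by
    by_contra hn
    have h3 : 3 ≤ p := by rcases hpodd with ⟨r, rfl⟩; have := hp.two_le; omega
    have : 3 ≤ p ^ j := h3.trans (Nat.le_self_pow (by omega) p)
    interval_cases n <;> omega
  have h4 : 4 ∣ 2 ^ n := pow_dvd_pow 2 hn2
  rcases Nat.even_or_odd j with ⟨r, rfl⟩ | hjo
  · exfalso
    obtain ⟨s, hs⟩ := (Odd.pow hpodd : Odd (p ^ r))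
    rw [pow_add, hs] at h
    obtain ⟨c, hc⟩ := h4
    have he : (2 * s + 1) * (2 * s + 1) + 1 = 4 * (s * s + s) + 2 := by ring
    omega
  · by_contra hj1
    -- `p + 1` times the alternating sum
    have hd : p + 1 ∣ p ^ j + 1 := by simpa using hjo.nat_add_dvd_pow_add_pow p 1
    rw [h] at hd
    obtain ⟨a, -, ha⟩ := (Nat.dvd_prime_pow Nat.prime_two).1 hd
    -- expand `p = 2 ^ a - 1` modulo `2 ^ (a + 1)`
    have hlt : p + 1 < p ^ j + 1 := by
      have : p ^ 1 < p ^ j := Nat.pow_lt_pow_right hp.one_lt (by omega)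
      rw [pow_one] at this
      omega
    rw [h, ha] at hlt
    have han : a < n := (Nat.pow_lt_pow_iff_right (by norm_num)).1 hlt
    have hz : ((p : ℤ) + 1) * (∑ i ∈ Finset.range j, (-(p : ℤ)) ^ i) = (2 : ℤ) ^ n := by
      have := geom_sum_mul (-(p : ℤ)) j
      rw [hjo.neg_pow] at this
      have h' : ((p : ℤ)) ^ j + 1 = 2 ^ n := by exact_mod_cast h
      linarith
    have ha' : ((p : ℤ) + 1) = 2 ^ a := by exact_mod_cast ha
    rw [ha', show n = a + (n - a) by omega, pow_add] at hz
    have hS := mul_left_cancel₀ (pow_ne_zero a (two_ne_zero (α := ℤ))) hz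
    have hpar : ((∑ i ∈ Finset.range j, (-(p : ℤ)) ^ i : ℤ) : ZMod 2) = 1 := by
      push_cast
      have hp1 : (p : ZMod 2) = 1 := ZMod.natCast_eq_one_iff_odd.2 hpodd
      rw [hp1, ZMod.neg_eq_self_mod_two, Finset.sum_congr rfl (fun i _ => one_pow i), Finset.sum_const,
        Finset.card_range, nsmul_one]
      exact ZMod.natCast_eq_one_iff_odd.2 hjo
    rw [hS] at hpar
    push_cast at hpar
    rw [show (2 : ZMod 2) = 0 from rfl, zero_pow (by omega)] at hpar
    exact zero_ne_one hpar

theorem fermat_or_nine {q n j : ℕ} (hq : q.Prime) (hodd : Odd q) (hn : 1 ≤ n) (h : 2 ^ j + 1 = q ^ n) :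
    n = 1 ∨ (q = 3 ∧ n = 2) := by
  rcases Nat.even_or_odd n with ⟨m, rfl⟩ | hno
  · right
    have hm : 1 ≤ m := by omega
    have h3 : 3 ≤ q := by rcases hodd with ⟨r, rfl⟩; have := hq.two_le; omega
    have hqm : 3 ≤ q ^ m := h3.trans (Nat.le_self_pow (by omega) q)
    have hfac : (q ^ m - 1) * (q ^ m + 1) = 2 ^ j := by
      obtain ⟨t, ht⟩ : ∃ t, q ^ m = t + 1 := ⟨q ^ m - 1, by omega⟩
      rw [pow_add, ht] at h
      rw [ht, Nat.add_sub_cancel]
      ring_nf at h ⊢
      omega
    obtain ⟨a, -, ha⟩ := (Nat.dvd_prime_pow Nat.prime_two).1 (Dvd.intro _ hfac : q ^ m - 1 ∣ 2 ^ j)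
    obtain ⟨b, -, hb⟩ := (Nat.dvd_prime_pow Nat.prime_two).1 (Dvd.intro_left _ hfac : q ^ m + 1 ∣ 2 ^ j)
    have ha1 : a = 1 := by
      by_contra hne
      rcases a with _ | _ | a
      · norm_num at ha; omega
      · exact hne rfl
      · rcases b with _ | _ | b
        · norm_num at hb; omega
        · norm_num at hb; omega
        · rw [pow_add] at ha hb
          norm_num at ha hb
          omega
    subst ha1
    have hqm3 : q ^ m = 3 := by omega
    have hqle : q ≤ 3 := hqm3 ▸ Nat.le_self_pow (by omega) q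
    have hq3 : q = 3 := by omega
    subst hq3
    have : m = 1 := Nat.pow_right_injective (a := 3) (by norm_num) (hqm3.trans (pow_one 3).symm)
    exact ⟨rfl, by omega⟩
  · left
    by_contra hn1
    have hz : ((q : ℤ) - 1) * (∑ i ∈ Finset.range n, (q : ℤ) ^ i) = 2 ^ j := by
      have := geom_sum_mul (q : ℤ) n
      have h' : (2 : ℤ) ^ j + 1 = (q : ℤ) ^ n := by exact_mod_cast h
      linarith
    have hnat : (∑ i ∈ Finset.range n, q ^ i) ∣ 2 ^ j := by
      have hd : ((∑ i ∈ Finset.range n, q ^ i : ℕ) : ℤ) ∣ ((2 ^ j : ℕ) : ℤ) := ⟨(q : ℤ) - 1, by push_cast; linarith⟩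
      exact_mod_cast hd
    obtain ⟨a, -, ha⟩ := (Nat.dvd_prime_pow Nat.prime_two).1 hnat
    have hpar : ((∑ i ∈ Finset.range n, q ^ i : ℕ) : ZMod 2) = 1 := by
      push_cast
      rw [ZMod.natCast_eq_one_iff_odd.2 hodd, Finset.sum_congr rfl (fun i _ => one_pow i), Finset.sum_const,
        Finset.card_range, nsmul_one]
      exact ZMod.natCast_eq_one_iff_odd.2 hno
    rw [ha] at hpar
    rcases a with _ | a
    · have h1 : ∑ i ∈ Finset.range 2, q ^ i ≤ ∑ i ∈ Finset.range n, q ^ i :=
        Finset.sum_le_sum_of_subset (Finset.range_mono (by omega))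
      rw [ha, Finset.sum_range_succ, Finset.sum_range_one] at h1
      simp at h1
      have := hq.two_le
      omega
    · rw [Nat.cast_pow, show ((2 : ℕ) : ZMod 2) = 0 from rfl, zero_pow (by omega)] at hpar
      exact zero_ne_one hpar

def mX : GL (Fin 2) (ZMod 3) := ⟨!![1, 1; -1, 1], !![2, -2; 2, 2], by decide, by decide⟩

def mY : GL (Fin 2) (ZMod 3) := ⟨!![1, 0; 0, -1], !![1, 0; 0, -1], by decide, by decide⟩

theorem mX_order : orderOf mX = 8 := by
  haveI : Fact (Nat.Prime 2) := ⟨Nat.prime_two⟩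
  rw [show 8 = 2 ^ (2 + 1) by norm_num]
  exact orderOf_eq_prime_pow (by decide) (by decide)

theorem mY_order : orderOf mY = 2 := by
  haveI : Fact (Nat.Prime 2) := ⟨Nat.prime_two⟩
  exact orderOf_eq_prime (by decide) (by decide)

theorem mYX : mY * mX = mX ^ 3 * mY := by decide

theorem mXY_ne : mX ^ 3 * mY ≠ mX * mY := by decide

/-- Two-groups of order at least eight acting faithfully on the plane over the field with three elements,
regularly or with order sixteen. -/
theorem nine_case {G : Type*} [Group G] [Finite G] (hG : IsPGroup 2 G)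
    (ρ : G →* ((Fin 2 → ZMod 3) ≃ₗ[ZMod 3] (Fin 2 → ZMod 3))) (hρ : Function.Injective ρ)
    (h8 : 8 ∣ Nat.card G) (hreg : Nat.card G = 8 → ∀ g : G, ∀ v, v ≠ 0 → ρ g v = v → g = 1) :
    (IsCyclic G ∧ Nat.card G = 8) ∨ Nonempty (G ≃* QuaternionGroup 2) ∨ (Cfsg.IsQuasiDihedral G ∧ Nat.card G = 16) := by
  classical
  haveI : Fact (Nat.Prime 2) := ⟨Nat.prime_two⟩
  haveI : Fact (Nat.Prime 3) := ⟨Nat.prime_three⟩
  let L := (Matrix.GeneralLinearGroup.toLin (n := Fin 2) (R := ZMod 3)).symm
  let φ : G →* GL (Fin 2) (ZMod 3) :=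
    L.toMonoidHom.comp ((LinearMap.GeneralLinearGroup.generalLinearEquiv (ZMod 3) (Fin 2 → ZMod 3)).symm.toMonoidHom.comp ρ)
  have hφ : Function.Injective φ :=
    L.injective.comp ((LinearMap.GeneralLinearGroup.generalLinearEquiv (ZMod 3) (Fin 2 → ZMod 3)).symm.injective.comp hρ)
  have h48 : Nat.card (GL (Fin 2) (ZMod 3)) = 48 := by
    rw [Matrix.card_GL_field, Fin.prod_univ_two, ZMod.card]
    norm_num
  have hdvd : Nat.card G ∣ 48 := h48 ▸ Subgroup.card_dvd_of_injective φ hφ
  obtain ⟨k, hk⟩ := IsPGroup.iff_card.1 hG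
  have hk' : k = 3 ∨ k = 4 := by
    have h1 : 3 ≤ k := by
      rw [hk, show 8 = 2 ^ 3 by norm_num] at h8
      exact (Nat.pow_dvd_pow_iff_le_right (by norm_num)).1 h8
    have h2 : k ≤ 4 := by
      by_contra h5
      have : 2 ^ 5 ∣ 48 := (pow_dvd_pow 2 (by omega : 5 ≤ k)).trans (hk ▸ hdvd)
      norm_num at this
    omega
  rcases hk' with rfl | rfl
  · -- regular case
    norm_num at hk
    have hneg : ∀ g : G, g * g = 1 → g ≠ 1 → ∀ v, ρ g v = -v := fun g hg hg1 v => by
      by_contra hne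
      apply hg1
      refine hreg hk g (ρ g v + v) (fun h => hne (eq_neg_of_add_eq_zero_left h)) ?_
      rw [map_add, ← LinearEquiv.mul_apply, ← map_mul, hg, map_one, add_comm]
      rfl
    obtain ⟨z, hz⟩ := exists_prime_orderOf_dvd_card' (G := G) 2 (by rw [hk]; norm_num)
    have hzz : z * z = 1 := by rw [← pow_two, ← hz, pow_orderOf_eq_one]
    have hz1 : z ≠ 1 := fun h => by rw [h, orderOf_one] at hz; norm_num at hz
    have huniq : ∀ g : G, g * g = 1 → g = 1 ∨ g = z := fun g hg => by
      by_cases hg1 : g = 1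
      · exact Or.inl hg1
      · right
        apply hρ
        ext1 v
        rw [hneg g hg hg1, hneg z hzz hz1]
    by_cases hex : ∃ x : G, orderOf x = 8
    · obtain ⟨x, hx⟩ := hex
      exact Or.inl ⟨isCyclic_of_orderOf_eq_card x (hx.trans hk.symm), hk⟩
    · right; left
      obtain ⟨e⟩ := S0106.equiv_q8 (⊤ : Subgroup G) (by rw [Subgroup.card_top, hk]) z hz1 (fun x _ => by
        obtain ⟨i, hi, hxi⟩ := (Nat.dvd_prime_pow Nat.prime_two).1
          (show orderOf x ∣ 2 ^ 3 by rw [show 2 ^ 3 = Nat.card G by rw [hk]; norm_num]; exact orderOf_dvd_natCard x)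
        have hi3 : i ≤ 2 := by
          by_contra h
          obtain rfl : i = 3 := by omega
          exact hex ⟨x, hxi⟩
        have h4 : (x * x) * (x * x) = 1 := by
          have : orderOf x ∣ 4 := hxi ▸ (pow_dvd_pow 2 hi3)
          rw [orderOf_dvd_iff_pow_eq_one] at this
          rw [← this]; simp only [pow_succ, pow_zero, one_mul, mul_assoc]
        rcases huniq _ h4 with h | h
        · rcases huniq x h with h' | h'
          · exact Or.inl h'
          · exact Or.inr (Or.inl h')
        · exact Or.inr (Or.inr h)) hzz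
      exact ⟨Subgroup.topEquiv.symm.trans e⟩
  · -- a Sylow 2-subgroup
    norm_num at hk
    right; right
    refine ⟨?_, hk⟩
    let X := mX
    let Y := mY
    have hX8 : orderOf X = 8 := mX_order
    have hY2 : orderOf Y = 2 := mY_order
    have hYX : Y * X = X ^ 3 * Y := mYX
    have hn : Subgroup.zpowers Y ≤ Subgroup.normalizer (Subgroup.zpowers X : Set (GL (Fin 2) (ZMod 3))) := by
      rw [Subgroup.zpowers_le, Subgroup.mem_normalizer_iff_map_conj_eq]
      refine Subgroup.eq_of_le_of_card_ge ?_ (by rw [Subgroup.card_map_of_injective (MulAut.conj Y).injective])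
      rw [MonoidHom.map_zpowers, Subgroup.zpowers_le]
      show Y * X * Y⁻¹ ∈ _
      rw [hYX, mul_inv_cancel_right]
      exact Subgroup.pow_mem _ (Subgroup.mem_zpowers X) 3
    have hYn : Y ∉ Subgroup.zpowers X := fun h => by
      obtain ⟨i, hi⟩ := Subgroup.mem_zpowers_iff.1 h
      have hc : Y * X = X * Y := by rw [← hi, ← zpow_add_one, ← zpow_one_add, add_comm]
      exact mXY_ne (hYX.symm.trans hc)
    set P0 := Subgroup.zpowers X ⊔ Subgroup.zpowers Y with hP0
    have hP0c : Nat.card P0 = 16 := by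
      have hc := CfsgLib.Fusion.Thompson.card_sup_mul_card_inf hn
      have hcap : Nat.card ↥(Subgroup.zpowers X ⊓ Subgroup.zpowers Y) = 1 := by
        have h1 := Subgroup.card_dvd_of_le (inf_le_right : Subgroup.zpowers X ⊓ Subgroup.zpowers Y ≤ Subgroup.zpowers Y)
        rw [Nat.card_zpowers, hY2, Nat.dvd_prime Nat.prime_two] at h1
        refine h1.resolve_right fun h => hYn ?_
        exact ((Subgroup.eq_of_le_of_card_ge inf_le_right (by rw [h, Nat.card_zpowers, hY2]) :
          Subgroup.zpowers X ⊓ Subgroup.zpowers Y = Subgroup.zpowers Y).ge (Subgroup.mem_zpowers Y)).1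
      rw [hcap, mul_one, Nat.card_zpowers, Nat.card_zpowers, hX8, hY2] at hc
      exact hc
    have hfac : Nat.factorization 48 2 = 4 := by
      rw [show (48 : ℕ) = 2 ^ 4 * 3 by norm_num, Nat.factorization_mul (by norm_num) (by norm_num),
        Nat.Prime.factorization_pow Nat.prime_two, Nat.Prime.factorization Nat.prime_three]
      simp
    let S1 : Sylow 2 (GL (Fin 2) (ZMod 3)) := Sylow.ofCard P0 (by rw [hP0c, h48, hfac]; norm_num)
    let S2 : Sylow 2 (GL (Fin 2) (ZMod 3)) := Sylow.ofCard φ.range (by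
      rw [← Nat.card_congr (MonoidHom.ofInjective hφ).toEquiv, hk, h48, hfac]; norm_num)
    have e : G ≃* P0 := (MonoidHom.ofInjective hφ).trans (Sylow.equiv S2 S1)
    let x0 : P0 := ⟨X, Subgroup.mem_sup_left (Subgroup.mem_zpowers X)⟩
    let y0 : P0 := ⟨Y, Subgroup.mem_sup_right (Subgroup.mem_zpowers Y)⟩
    refine ⟨3, le_rfl, by rw [hk]; norm_num, e.symm x0, e.symm y0, ?_, ?_, ?_⟩
    · rw [MulEquiv.orderOf_eq, ← Subgroup.orderOf_coe]; exact hX8.trans (by norm_num)
    · rw [MulEquiv.orderOf_eq, ← Subgroup.orderOf_coe]; exact hY2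
    · rw [← map_inv, ← map_mul, ← map_mul, ← map_pow]
      refine congrArg e.symm (Subtype.ext ?_)
      show Y * X * Y⁻¹ = X ^ (2 ^ (3 - 1) - 1)
      rw [hYX, mul_inv_cancel_right]
      rfl

/-- Let q be a prime, V a non-trivial finite vector space over the field with q elements, and G a non-trivial finite p-group (p prime) acting faithfully and linearly on V and transitively on the non-zero vectors. Then either q = 2 and G has prime order p = |V| − 1; or p = 2, V has q elements with q = 2^m + 1 and G is cyclic of order 2^m; or p = 2, q = 3, V has 9 elements and G is cyclic of order 8, quaternion of order 8, or semidihedral of order 16. -/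
theorem result (q : ℕ) [Fact q.Prime] {V : Type*} [AddCommGroup V] [Module (ZMod q) V] [Finite V] [Nontrivial V]
    {G : Type*} [Group G] [Finite G] [Nontrivial G] (p : ℕ) [Fact p.Prime] (hG : IsPGroup p G)
    (ρ : G →* (V ≃ₗ[ZMod q] V)) (hρ : Function.Injective ρ)
    (htrans : ∀ v w : V, v ≠ 0 → w ≠ 0 → ∃ g : G, ρ g v = w) :
    (q = 2 ∧ p = Nat.card V - 1 ∧ Nat.card G = p) ∨
    (p = 2 ∧ Nat.card V = q ∧ (∃ m : ℕ, q = 2 ^ m + 1 ∧ Nat.card G = 2 ^ m) ∧ IsCyclic G) ∨
    (p = 2 ∧ q = 3 ∧ Nat.card V = 9 ∧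
      ((IsCyclic G ∧ Nat.card G = 8) ∨ Nonempty (G ≃* QuaternionGroup 2) ∨ (Cfsg.IsQuasiDihedral G ∧ Nat.card G = 16))) := by
  classical
  haveI : Fintype V := Fintype.ofFinite V
  have hq := (Fact.out : q.Prime)
  have hp := (Fact.out : p.Prime)
  set n := Module.finrank (ZMod q) V with hn
  have hn1 : 1 ≤ n := Module.finrank_pos
  have hV : Nat.card V = q ^ n := by
    rw [Module.natCard_eq_pow_finrank (K := ZMod q), Nat.card_zmod]
  letI : MulAction G V :=
    { smul := fun g v => ρ g v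
      one_smul := fun v => by show ρ 1 v = v; rw [map_one]; rfl
      mul_smul := fun g h v => by show ρ (g * h) v = ρ g (ρ h v); rw [map_mul]; rfl }
  have horb : ∀ v : V, v ≠ 0 → Nat.card (MulAction.orbit G v) = q ^ n - 1 := fun v hv => by
    have : MulAction.orbit G v = {w : V | w ≠ 0} := by
      ext w
      refine ⟨fun ⟨g, hg⟩ => hg ▸ (by simpa using (LinearEquiv.map_ne_zero_iff (ρ g)).2 hv : ρ g v ≠ 0), fun hw => ?_⟩
      obtain ⟨g, hg⟩ := htrans v w hv hw
      exact ⟨g, hg⟩
    rw [this, Nat.card_eq_fintype_card, ← hV, Nat.card_eq_fintype_card]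
    exact (Fintype.card_subtype_compl (fun w : V => w = 0)).trans (by rw [Fintype.card_subtype_eq])
  obtain ⟨v₀, hv₀⟩ := exists_ne (0 : V)
  obtain ⟨k, hk⟩ := IsPGroup.iff_card.1 hG
  have hdiv : q ^ n - 1 ∣ p ^ k := by
    rw [← horb v₀ hv₀, ← hk]
    refine Dvd.intro (Nat.card (MulAction.stabilizer G v₀)) ?_
    rw [Nat.card_congr (MulAction.orbitEquivQuotientStabilizer G v₀)]
    exact Subgroup.index_mul_card _
  obtain ⟨j, -, hj⟩ := (Nat.dvd_prime_pow hp).1 hdiv
  have hqn : 2 ≤ q ^ n := hq.two_le.trans (Nat.le_self_pow (by omega) q)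
  have hk1 : 1 ≤ k := by
    by_contra h
    rw [show k = 0 by omega, pow_zero] at hk
    exact (Finite.one_lt_card (α := G)).ne' hk
  have hj0 : j ≠ 0 := fun h0 => by
    rw [h0, pow_zero] at hj
    have h2 : Nat.card V = 2 := by omega
    obtain ⟨g, hg⟩ := exists_ne (1 : G)
    refine hg (hρ (LinearEquiv.ext fun v => ?_))
    rw [map_one]
    show ρ g v = v
    by_cases hv : v = 0
    · rw [hv, map_zero]
    · obtain ⟨a, ha⟩ := Nat.card_eq_two_iff' (0 : V) |>.1 h2
      exact (ha.2 _ ((LinearEquiv.map_ne_zero_iff (ρ g)).2 hv)).trans (ha.2 v hv).symm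
  have hstab : ∀ v : V, v ≠ 0 → p ^ j * Nat.card (MulAction.stabilizer G v) = Nat.card G := fun v hv => by
    rw [← hj, ← horb v hv, Nat.card_congr (MulAction.orbitEquivQuotientStabilizer G v)]
    exact Subgroup.index_mul_card _
  by_cases hq2 : q = 2
  · left
    subst hq2
    have hj1 : j = 1 := mersenne hp (by omega) (n := n) (by omega)
    subst hj1
    rw [pow_one] at hj
    refine ⟨rfl, by omega, ?_⟩
    rw [← hstab v₀ hv₀, pow_one]
    suffices h : MulAction.stabilizer G v₀ = ⊥ by rw [h, Subgroup.card_bot, mul_one]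
    by_contra hne
    have hd : p ∣ Nat.card (MulAction.stabilizer G v₀) := by
      obtain ⟨i, hi⟩ := IsPGroup.iff_card.1 (hG.to_subgroup (MulAction.stabilizer G v₀))
      rw [hi]
      refine dvd_pow_self p fun h0 => hne (Subgroup.card_eq_one.1 ?_)
      rw [hi, h0, pow_zero]
    obtain ⟨⟨g, hgv⟩, hgo⟩ := exists_prime_orderOf_dvd_card' (G := MulAction.stabilizer G v₀) p hd
    rw [← Subgroup.orderOf_coe] at hgo
    change orderOf g = p at hgo
    let W : Submodule (ZMod 2) V := LinearMap.ker ((ρ g : V →ₗ[ZMod 2] V) - LinearMap.id)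
    have hmem : ∀ v, v ∈ W ↔ ρ g v = v := fun v => by simp [W, sub_eq_zero]
    have hfix : Nat.card W = Nat.card (MulAction.fixedPoints (Subgroup.zpowers g) V) :=
      Nat.card_congr (Equiv.subtypeEquivRight fun v => (hmem v).trans
        ⟨fun h ⟨x, hx⟩ => (Subgroup.zpowers_le (H := MulAction.stabilizer G v)).2 h hx,
         fun h => h ⟨g, Subgroup.mem_zpowers g⟩⟩)
    have hmod : 2 ^ n ≡ Nat.card W [MOD p] := by
      rw [hfix, ← hV]
      exact (IsPGroup.of_card (n := 1) (by rw [Nat.card_zpowers, hgo, pow_one]) : IsPGroup p (Subgroup.zpowers g)).card_modEq_card_fixedPoints V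
    set m := Module.finrank (ZMod 2) W with hm
    have hW : Nat.card W = 2 ^ m := by rw [Module.natCard_eq_pow_finrank (K := ZMod 2), Nat.card_zmod]
    have hmn : m < n := by
      refine lt_of_le_of_ne (Submodule.finrank_le W) fun e => ?_
      have htop : W = ⊤ := Submodule.eq_top_of_finrank_eq e
      have hg1 : g = 1 := hρ (LinearEquiv.ext fun v => by rw [map_one]; exact (hmem v).1 (htop ▸ Submodule.mem_top))
      rw [hg1, orderOf_one] at hgo
      exact hp.one_lt.ne hgo
    have hm1 : 1 ≤ m := by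
      by_contra h
      rw [show m = 0 by omega, pow_zero] at hW
      haveI : Subsingleton W := (Nat.card_eq_one_iff_unique.1 hW).1
      exact hv₀ (congrArg Subtype.val (Subsingleton.elim (⟨v₀, (hmem v₀).2 hgv⟩ : W) 0))
    rw [hW] at hmod
    have hsub : p ∣ 2 ^ n - 2 ^ m := (Nat.modEq_iff_dvd' (Nat.pow_le_pow_right (by norm_num) hmn.le)).1 hmod.symm
    rw [show 2 ^ n - 2 ^ m = 2 ^ m * (2 ^ (n - m) - 1) by rw [Nat.mul_sub, ← pow_add, Nat.add_sub_cancel' hmn.le, mul_one]] at hsub
    have hcop : Nat.Coprime p (2 ^ m) := by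
      refine Nat.Coprime.pow_right m ((Nat.coprime_primes hp Nat.prime_two).2 fun h => ?_)
      have : 2 ^ 1 ∣ 2 ^ n := pow_dvd_pow 2 hn1
      omega
    have hle := Nat.le_of_dvd (by
      have : 2 ≤ 2 ^ (n - m) := Nat.le_self_pow (by omega) 2
      omega) (hcop.dvd_of_dvd_mul_left hsub)
    have : 2 ^ (n - m) < 2 ^ n := Nat.pow_lt_pow_right (by norm_num) (by omega)
    omega
  · right
    have hqodd : Odd q := hq.odd_of_ne_two hq2
    have hp2 : p = 2 := by
      have he : Even (q ^ n - 1) := Nat.Odd.sub_odd (Odd.pow hqodd) odd_one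
      rw [hj] at he
      exact (Nat.prime_dvd_prime_iff_eq Nat.prime_two hp).1 (Nat.prime_two.dvd_of_dvd_pow (even_iff_two_dvd.1 he)) |>.symm
    subst hp2
    rcases fermat_or_nine hq hqodd hn1 (j := j) (by omega) with h1 | ⟨h3, h2⟩
    · left
      rw [h1, pow_one] at hV hj
      have hscal : ∀ g : G, ∃ c : ZMod q, ∀ v, ρ g v = c • v := fun g => by
        obtain ⟨c, hc⟩ := (finrank_eq_one_iff_of_nonzero' v₀ hv₀).1 h1 (ρ g v₀)
        refine ⟨c, fun v => ?_⟩
        obtain ⟨d, rfl⟩ := (finrank_eq_one_iff_of_nonzero' v₀ hv₀).1 h1 v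
        rw [map_smul, ← hc, smul_comm]
      choose c hc using hscal
      let χ : G →* ZMod q :=
        { toFun := c
          map_one' := smul_left_injective (ZMod q) hv₀ (by
            show c 1 • v₀ = (1 : ZMod q) • v₀
            rw [← hc, map_one, one_smul]; rfl)
          map_mul' := fun g h => smul_left_injective (ZMod q) hv₀ (by
            show c (g * h) • v₀ = (c g * c h) • v₀
            rw [← hc, map_mul, mul_smul, ← hc h, ← hc g]; rfl) }
      have hχ : Function.Injective χ := fun g h e => hρ (LinearEquiv.ext fun v => by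
        rw [hc, hc, show c g = c h from e])
      refine ⟨rfl, hV, ⟨j, by have := hq.two_le; omega, ?_⟩, isCyclic_of_subgroup_isDomain χ hχ⟩
      rw [← hstab v₀ hv₀]
      suffices h : MulAction.stabilizer G v₀ = ⊥ by rw [h, Subgroup.card_bot, mul_one]
      rw [Subgroup.eq_bot_iff_forall]
      intro g hg
      apply hχ
      rw [map_one]
      exact smul_left_injective (ZMod q) hv₀ (by
        show c g • v₀ = (1 : ZMod q) • v₀
        rw [← hc, one_smul]; exact hg)
    · right
      subst h3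
      rw [h2] at hV hj
      refine ⟨rfl, rfl, hV, ?_⟩
      have hj3 : j = 3 := Nat.pow_right_injective le_rfl (hj.symm.trans (by norm_num))
      let e : V ≃ₗ[ZMod 3] (Fin 2 → ZMod 3) := LinearEquiv.ofFinrankEq _ _ (by simp [← hn, h2])
      let conjE : (V ≃ₗ[ZMod 3] V) →* ((Fin 2 → ZMod 3) ≃ₗ[ZMod 3] (Fin 2 → ZMod 3)) :=
        MonoidHom.mk' (fun f => e.symm.trans (f.trans e)) fun f f' => by ext1 v; simp
      refine nine_case hG (conjE.comp ρ) (fun a b hab => hρ (LinearEquiv.ext fun v => ?_)) ?_ fun h8 g w hw hgw => ?_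
      · have := LinearEquiv.congr_fun hab (e v)
        simpa [conjE] using this
      · rw [← hstab v₀ hv₀, hj3]
        exact Dvd.intro _ rfl
      · have hv : e.symm w ≠ 0 := (LinearEquiv.map_ne_zero_iff e.symm).2 hw
        have h := hstab _ hv
        rw [hj3, h8] at h
        have hb : MulAction.stabilizer G (e.symm w) = ⊥ := Subgroup.card_eq_one.1 (by omega)
        have hmem : g ∈ MulAction.stabilizer G (e.symm w) := by
          show ρ g (e.symm w) = e.symm w
          apply e.injective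
          rw [e.apply_symm_apply]
          simpa [conjE] using hgw
        rwa [hb, Subgroup.mem_bot] at hmem

end Cfsg.Agent.S3370
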