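import Cfsg.Statements.S3371
import Cfsg.Agent.Lib.LocalEven.HalfTransitiveMain

set_option autoImplicit false
open Cfsg CfsgLib.LocalEven.HalfTransitive

namespace Cfsg.Agent.S3371

/-- Let q be a prime, V a non-trivial finite vector space over the field with q elements, and G a finite p-group (p prime) acting faithfully and linearly on V such that all G-orbits on the non-zero vectors have the same size. Then one of the following holds: G is cyclic or generalized quaternion and acts semiregularly on the non-zero vectors; or V has q² elements with q = 2^m − 1 and G is dihedral of order 2^(m+1) or semidihedral of order 2^(m+2); or V has q² elements with q = 2^m + 1 and, in suitable coordinates V = F_q², G is exactly the group of maps (x, y) ↦ (a x, ± a⁻¹ y) and (x, y) ↦ (± a⁻¹ y, a x) with a ≠ 0; or V has 81 elements (q = 3) and G is a 2-group. -/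
theorem result (q : ℕ) [Fact q.Prime] {V : Type*} [AddCommGroup V] [Module (ZMod q) V] [Finite V] [Nontrivial V]
    {G : Type*} [Group G] [Finite G] (p : ℕ) [Fact p.Prime] (hG : IsPGroup p G)
    (ρ : G →* (V ≃ₗ[ZMod q] V)) (hρ : Function.Injective ρ)
    (hhalf : ∀ v w : V, v ≠ 0 → w ≠ 0 → Nat.card {u : V | ∃ g : G, ρ g v = u} = Nat.card {u : V | ∃ g : G, ρ g w = u}) :
    ((IsCyclic G ∨ ∃ n : ℕ, Nonempty (G ≃* QuaternionGroup n)) ∧ ∀ v : V, v ≠ 0 → ∀ g : G, ρ g v = v → g = 1) ∨
    (Nat.card V = q ^ 2 ∧ ∃ m : ℕ, q = 2 ^ m - 1 ∧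
      (Nonempty (G ≃* DihedralGroup (2 ^ m)) ∨ (Cfsg.IsQuasiDihedral G ∧ Nat.card G = 2 ^ (m + 2)))) ∨
    (Nat.card V = q ^ 2 ∧ (∃ m : ℕ, q = 2 ^ m + 1) ∧
      ∃ e : V ≃ₗ[ZMod q] (Fin 2 → ZMod q), ∀ f : (Fin 2 → ZMod q) ≃ₗ[ZMod q] (Fin 2 → ZMod q),
        (∃ g : G, f = e.symm.trans ((ρ g).trans e)) ↔
        ∃ a s : ZMod q, a ≠ 0 ∧ (s = 1 ∨ s = -1) ∧
          ((∀ v, f v = ![a * v 0, s * a⁻¹ * v 1]) ∨ (∀ v, f v = ![s * a⁻¹ * v 1, a * v 0]))) ∨
    (Nat.card V = 81 ∧ q = 3 ∧ p = 2) := by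
  classical
  have hqp : q.Prime := Fact.out
  have hE : ∀ e : V, q • e = 0 := fun e => by
    rw [← Nat.cast_smul_eq_nsmul (ZMod q), ZMod.natCast_self, zero_smul]
  letI : DistribMulAction G V :=
    { smul := fun g v => ρ g v
      one_smul := fun v => show ρ 1 v = v by rw [map_one]; rfl
      mul_smul := fun g h v => show ρ (g * h) v = ρ g (ρ h v) by rw [map_mul]; rfl
      smul_zero := fun g => map_zero (ρ g)
      smul_add := fun g v w => map_add (ρ g) v w }
  haveI : FaithfulSMul G V := ⟨fun {g h} e => hρ (LinearEquiv.ext e)⟩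
  have hlin : ∀ (g : G) (c : ZMod q) (e : V), g • (c • e) = c • (g • e) := fun g c e => map_smul (ρ g) c e
  have hconst : ∀ a b : V, a ≠ 0 → b ≠ 0 →
      Nat.card (MulAction.stabilizer G a) = Nat.card (MulAction.stabilizer G b) := by
    intro a b ha hb
    have e : ∀ v : V, {u : V | ∃ g : G, ρ g v = u} = MulAction.orbit G v := fun v => rfl
    have h := hhalf a b ha hb
    rw [e, e, Nat.card_coe_set_eq, Nat.card_coe_set_eq, ← MulAction.index_stabilizer,
      ← MulAction.index_stabilizer] at h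
    have h1 := (MulAction.stabilizer G a).card_mul_index
    have h2 := (MulAction.stabilizer G b).card_mul_index
    rw [h] at h1
    exact Nat.eq_of_mul_eq_mul_right
      (Nat.pos_of_ne_zero (Subgroup.index_ne_zero_of_finite (H := MulAction.stabilizer G b))) (h1.trans h2.symm)
  by_cases hp2 : p = 2
  swap
  · obtain ⟨hc, hfree⟩ := CfsgLib.RankOne.ConstStab.main hp2 hG hqp hE hconst
    refine Or.inl ⟨Or.inl hc, fun v hv g hg => ?_⟩
    by_contra hg1
    exact hv (hfree g hg1 v hg)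
  subst hp2
  by_cases hq2 : q = 2
  · -- fixed points
    obtain ⟨v, hv⟩ := exists_ne (0 : V)
    have hd : 2 ∣ Nat.card V := by
      have h := addOrderOf_dvd_natCard (x := v)
      rw [addOrderOf_eq_prime (hE v) hv] at h
      rwa [hq2] at h
    have h0 : (0 : V) ∈ MulAction.fixedPoints G V := fun g => smul_zero g
    obtain ⟨b, hb, hb0⟩ := hG.exists_fixed_point_of_prime_dvd_card_of_fixed_point V hd h0
    haveI : Subsingleton G := by
      refine ⟨fun x y => eq_of_smul_eq_smul (α := V) fun e => ?_⟩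
      by_cases he : e = 0
      · rw [he, smul_zero, smul_zero]
      · have h2 := hconst e b he hb0.symm
        rw [(Subgroup.eq_top_iff' (MulAction.stabilizer G b)).mpr hb, Subgroup.card_top] at h2
        have h3 := Subgroup.eq_top_of_card_eq _ h2
        rw [(Subgroup.eq_top_iff' _).mp h3 x, (Subgroup.eq_top_iff' _).mp h3 y]
    exact Or.inl ⟨Or.inl inferInstance, fun v _ g _ => Subsingleton.elim _ _⟩
  have hq : OddExp V q := ⟨hqp, hqp.odd_of_ne_two hq2, hE⟩
  rcases main_two hq hG hconst hlin with ⟨h1, h2⟩ | h | ⟨hV, hm, e₀, e₁, hbij, hall, hex⟩ | h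
  · exact Or.inl ⟨h1, fun v hv g hg => h2 v hv g hg⟩
  · exact Or.inr (Or.inr (Or.inr ⟨h.1, h.2, rfl⟩))
  · let L : (Fin 2 → ZMod q) →ₗ[ZMod q] V :=
      (LinearMap.proj 0).smulRight e₀ + (LinearMap.proj 1).smulRight e₁
    let E := LinearEquiv.ofBijective L hbij
    refine Or.inr (Or.inr (Or.inl ⟨hV, hm, E.symm, fun f => ?_⟩))
    have hE' : ∀ w : Fin 2 → ZMod q, E w = w 0 • e₀ + w 1 • e₁ := fun w => rfl
    have himg : ∀ (g : G) (w : Fin 2 → ZMod q), ρ g (E w) = w 0 • (g • e₀) + w 1 • (g • e₁) := fun g w => by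
      rw [hE', map_add, map_smul, map_smul]; rfl
    have key : ∀ (g : G) (φ : (Fin 2 → ZMod q) → (Fin 2 → ZMod q)),
        (∀ w, ρ g (E w) = E (φ w)) → ∀ w, (E.symm.symm.trans ((ρ g).trans E.symm)) w = φ w := by
      intro g φ hφ w
      simp only [LinearEquiv.symm_symm, LinearEquiv.trans_apply, hφ, LinearEquiv.symm_apply_apply]
    constructor
    · rintro ⟨g, rfl⟩
      obtain ⟨a, s, ha, hs, ⟨h1, h2⟩ | ⟨h1, h2⟩⟩ := hall g
      · refine ⟨a, s, ha, hs, Or.inl (key g _ fun w => ?_)⟩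
        rw [himg, h1, h2, hE']
        simp [smul_smul, mul_comm, mul_left_comm]
      · refine ⟨a, s, ha, hs, Or.inr (key g _ fun w => ?_)⟩
        rw [himg, h1, h2, hE']
        simp [smul_smul, mul_comm, mul_left_comm, add_comm]
    · rintro ⟨a, s, ha, hs, hf | hf⟩
      · obtain ⟨g, h1, h2⟩ := (hex a s ha hs).1
        refine ⟨g, LinearEquiv.ext fun w => (hf w).trans
          (key g (fun w => ![a * w 0, s * a⁻¹ * w 1]) (fun w => ?_) w).symm⟩
        rw [himg, h1, h2, hE']
        simp [smul_smul, mul_comm, mul_left_comm]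
      · obtain ⟨g, h1, h2⟩ := (hex a s ha hs).2
        refine ⟨g, LinearEquiv.ext fun w => (hf w).trans
          (key g (fun w => ![s * a⁻¹ * w 1, a * w 0]) (fun w => ?_) w).symm⟩
        rw [himg, h1, h2, hE']
        simp [smul_smul, mul_comm, mul_left_comm, add_comm]
  · exact Or.inr (Or.inl h)

end Cfsg.Agent.S3371
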