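import Cfsg.Statements.S3375

set_option autoImplicit false
open Cfsg

namespace Cfsg.Agent.S3375

/-- A fixed-point-free involutory automorphism inverts every element. -/
lemma inverts_of_fpf {K : Type*} [Group K] [Finite K] (δ : MulAut K) (h2 : ∀ h, δ (δ h) = h)
    (hfpf : ∀ h, δ h = h → h = 1) : ∀ h : K, δ h = h⁻¹ := by
  have hinj : Function.Injective (fun h : K => h⁻¹ * δ h) := by
    intro a b hab
    have h' : a⁻¹ * δ a = b⁻¹ * δ b := hab
    have : δ (b * a⁻¹) = b * a⁻¹ := by
      have e1 : δ a = a * (b⁻¹ * δ b) := by rw [← h', mul_inv_cancel_left]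
      rw [map_mul, map_inv, e1]; group
    exact (mul_inv_eq_one.mp (hfpf _ this)).symm
  intro h
  obtain ⟨y, rfl⟩ := Finite.injective_iff_surjective.mp hinj h
  simp [h2]

lemma comm_of_inverts {K : Type*} [Group K] (δ : MulAut K) (h : ∀ a : K, δ a = a⁻¹) (a b : K) :
    a * b = b * a := by
  have := map_mul δ a⁻¹ b⁻¹
  rw [h, h, h, mul_inv_rev, inv_inv, inv_inv] at this
  exact this.symm

/-- Let γ be an automorphism of order 2 of a finite group H. (i) If γ fixes only the identity, then H is abelian and γ inverts every element. (ii) If γ has exactly two fixed points and H has a subgroup of index 2, then H has a γ-invariant abelian subgroup of index 2 on which γ acts by inversion. -/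
theorem result {H : Type*} [Group H] [Finite H] (γ : MulAut H) (hγ : orderOf γ = 2) :
    ((∀ h : H, γ h = h → h = 1) → (∀ a b : H, a * b = b * a) ∧ ∀ h : H, γ h = h⁻¹) ∧
    ((Nat.card {h : H // γ h = h} = 2 ∧ ∃ M : Subgroup H, M.index = 2) →
      ∃ A : Subgroup H, A.index = 2 ∧ IsMulCommutative A ∧ (∀ a ∈ A, γ a ∈ A) ∧ ∀ a ∈ A, γ a = a⁻¹) := by
  classical
  have h2 : ∀ h, γ (γ h) = h := by
    intro h
    have : γ ^ 2 = 1 := by rw [← hγ]; exact pow_orderOf_eq_one γ
    rw [pow_two] at this
    exact congrArg (fun f : MulAut H => f h) this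
  refine ⟨fun hfpf => ?_, ?_⟩
  · have h := inverts_of_fpf γ h2 hfpf
    exact ⟨comm_of_inverts γ h, h⟩
  rintro ⟨hfix, M₀, hM₀⟩
  obtain ⟨M, hM, hMinv⟩ : ∃ M : Subgroup H, M.index = 2 ∧ ∀ h ∈ M, γ h ∈ M := by
    by_cases hinv : ∀ h ∈ M₀, γ h ∈ M₀
    · exact ⟨M₀, hM₀, hinv⟩
    push Not at hinv
    obtain ⟨w, hw, hγw⟩ := hinv
    let M : Subgroup H :=
      { carrier := {h | h ∈ M₀ ↔ γ h ∈ M₀}
        one_mem' := by simp
        mul_mem' := fun {a b} ha hb => by
          simp only [Set.mem_setOf_eq, map_mul, Subgroup.mul_mem_iff_of_index_two hM₀] at *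
          tauto
        inv_mem' := fun {a} ha => by simpa [map_inv] using ha }
    refine ⟨M, ?_, ?_⟩
    · rw [Subgroup.index_eq_two_iff]
      refine ⟨w, fun b => ?_⟩
      change Xor' ((b * w ∈ M₀ ↔ γ (b * w) ∈ M₀)) ((b ∈ M₀ ↔ γ b ∈ M₀))
      rw [map_mul, Subgroup.mul_mem_iff_of_index_two hM₀, Subgroup.mul_mem_iff_of_index_two hM₀, Xor']
      tauto
    · intro h hh
      change (γ h ∈ M₀ ↔ γ (γ h) ∈ M₀)
      rw [h2]; exact (Iff.symm hh)
  let δ : MulAut M :=
    { toFun := fun x => ⟨γ x, hMinv _ x.2⟩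
      invFun := fun x => ⟨γ x, hMinv _ x.2⟩
      left_inv := fun x => Subtype.ext (h2 x)
      right_inv := fun x => Subtype.ext (h2 x)
      map_mul' := fun x y => Subtype.ext (map_mul γ (x : H) (y : H)) }
  suffices hkey : ∀ m : M, δ m = m⁻¹ by
    refine ⟨M, hM, ⟨⟨comm_of_inverts δ hkey⟩⟩, hMinv, fun a ha => ?_⟩
    exact congrArg Subtype.val (hkey ⟨a, ha⟩)
  by_cases hz : ∀ h, γ h = h → h ∈ M → h = 1
  · exact inverts_of_fpf δ (fun x => Subtype.ext (h2 x)) (fun x hx =>
      Subtype.ext (hz x (congrArg Subtype.val hx) x.2))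
  push Not at hz
  obtain ⟨z, hzfix, hzM, hz1⟩ := hz
  -- all fixed points lie in M
  have hall : ∀ h, γ h = h → h = 1 ∨ h = z := by
    obtain ⟨x, y, hxy, huniv⟩ := Nat.card_eq_two_iff.mp hfix
    intro h hh
    have m1 : (⟨1, map_one γ⟩ : {h : H // γ h = h}) ∈ ({x, y} : Set _) := huniv ▸ trivial
    have m2 : (⟨z, hzfix⟩ : {h : H // γ h = h}) ∈ ({x, y} : Set _) := huniv ▸ trivial
    have m3 : (⟨h, hh⟩ : {h : H // γ h = h}) ∈ ({x, y} : Set _) := huniv ▸ trivial
    simp only [Set.mem_insert_iff, Set.mem_singleton_iff] at m1 m2 m3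
    rcases m1 with rfl | rfl <;> rcases m2 with h' | h' <;> rcases m3 with h'' | h'' <;>
      first
        | exact absurd (congrArg Subtype.val h') hz1
        | exact Or.inl (congrArg Subtype.val h'')
        | exact Or.inr (congrArg Subtype.val (h''.trans h'.symm))
  -- the map h ↦ h⁻¹ γ h lands in M and has fibres of size at most two
  have hφM : ∀ h, h⁻¹ * γ h ∈ M := by
    intro h
    by_cases hh : h ∈ M
    · exact M.mul_mem (M.inv_mem hh) (hMinv h hh)
    · have : γ h ∉ M := fun h' => hh (by simpa [h2] using hMinv _ h')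
      rw [Subgroup.mul_mem_iff_of_index_two hM, inv_mem_iff]
      tauto
  let φ : H → M := fun h => ⟨h⁻¹ * γ h, hφM h⟩
  have hsurj : Function.Surjective φ := by
    by_contra hns
    simp only [Function.Surjective, not_forall, not_exists] at hns
    obtain ⟨m, hm⟩ := hns
    haveI : Fintype H := Fintype.ofFinite H
    haveI : Fintype M := Fintype.ofFinite M
    have hle : (Finset.univ.image φ).card < Fintype.card M := by
      rw [← Finset.card_univ]
      refine Finset.card_lt_card ⟨Finset.subset_univ _, fun h => ?_⟩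
      obtain ⟨a, -, ha⟩ := Finset.mem_image.mp (h (Finset.mem_univ m))
      exact hm a ha
    have hbound : Fintype.card H ≤ 2 * (Finset.univ.image φ).card := by
      rw [← Finset.card_univ]
      apply Finset.card_le_mul_card_image
      intro b hb
      obtain ⟨a, -, rfl⟩ := Finset.mem_image.mp hb
      calc (Finset.univ.filter fun x => φ x = φ a).card ≤ ({a, z * a} : Finset H).card := by
            apply Finset.card_le_card
            intro x hx
            have hx' : x⁻¹ * γ x = a⁻¹ * γ a := congrArg Subtype.val (Finset.mem_filter.mp hx).2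
            have hf : γ (x * a⁻¹) = x * a⁻¹ := by
              have e1 : γ x = x * (a⁻¹ * γ a) := by rw [← hx', mul_inv_cancel_left]
              rw [map_mul, map_inv, e1]; group
            rcases hall _ hf with h | h
            · simp [mul_inv_eq_one.mp h]
            · simp [← mul_inv_eq_iff_eq_mul.mp h]
        _ ≤ 2 := Finset.card_le_two
    have hMH : Fintype.card H = Fintype.card M * 2 := by
      rw [← Nat.card_eq_fintype_card, ← Nat.card_eq_fintype_card, ← M.card_mul_index, hM]
    omega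
  intro m
  obtain ⟨h, rfl⟩ := hsurj m
  apply Subtype.ext
  change γ (h⁻¹ * γ h) = (h⁻¹ * γ h)⁻¹
  simp [h2]

end Cfsg.Agent.S3375
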