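import Cfsg.Statements.S3376
import Cfsg.Agent.Lib.Fusion.Thompson
import Cfsg.Agent.Lib.Fusion.NormalRankTwo
-- import your own Cfsg.Agent.* helpers here

set_option autoImplicit false
open Cfsg

namespace Cfsg.Agent.S3376


open Equiv in
theorem cycleType_of_free (π : Perm (Fin 9)) (h3 : π ^ 3 = 1) (hfp : ∀ x, π x ≠ x) :
    π.cycleType = Multiset.replicate 3 3 := by
  haveI : Fact (Nat.Prime 3) := ⟨by norm_num⟩
  have ho : orderOf π = 3 := orderOf_eq_prime h3 fun h => hfp 0 (by rw [h]; rfl)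
  obtain ⟨n, hn⟩ := Equiv.Perm.cycleType_prime_order (σ := π) (by rw [ho]; norm_num)
  rw [ho] at hn
  have hs : π.support = Finset.univ := Finset.eq_univ_iff_forall.2 fun x => Equiv.Perm.mem_support.2 (hfp x)
  have hsum := π.sum_cycleType
  rw [hn, hs, Multiset.sum_replicate, Finset.card_univ, Fintype.card_fin, smul_eq_mul] at hsum
  rw [hn, show n + 1 = 3 by omega]

theorem card_centralizer (π : Equiv.Perm (Fin 9)) (h : π.cycleType = Multiset.replicate 3 3) :
    Nat.card (Subgroup.centralizer ({π} : Set (Equiv.Perm (Fin 9)))) = 162 := by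
  rw [Equiv.Perm.nat_card_centralizer, h]
  rfl

/-- A group of order `162` with a central element of order three and a core-free subgroup of index nine avoiding it. -/
theorem equiv_of_subgroup {G : Type*} [Group G] [Finite G] (hG : Nat.card G = 162) (z : G)
    (hz : z ∈ Subgroup.center G) (hz3 : z ^ 3 = 1) (H : Subgroup G) (hH : Nat.card H = 18) (hzH : z ∉ H)
    (hcore : H.normalCore = ⊥) :
    Nonempty (G ≃* Subgroup.centralizer ({Equiv.swap (0 : Fin 9) 1 * Equiv.swap 1 2 * Equiv.swap 3 4 * Equiv.swap 4 5 * Equiv.swap 6 7 * Equiv.swap 7 8} : Set (Equiv.Perm (Fin 9)))) := by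
  classical
  set σ : Equiv.Perm (Fin 9) := Equiv.swap (0 : Fin 9) 1 * Equiv.swap 1 2 * Equiv.swap 3 4 * Equiv.swap 4 5 * Equiv.swap 6 7 * Equiv.swap 7 8 with hσ
  have hσc : σ.cycleType = Multiset.replicate 3 3 := by
    apply cycleType_of_free
    · apply Equiv.ext; intro x; rw [hσ]; revert x; decide
    · intro x; rw [hσ]; revert x; decide
  have hidx : Nat.card (G ⧸ H) = 9 := by
    have := H.card_mul_index
    rw [hH, hG] at this
    show H.index = 9
    omega
  have e : (G ⧸ H) ≃ Fin 9 := (Finite.equivFinOfCardEq hidx)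
  let φ : G →* Equiv.Perm (Fin 9) :=
    (Equiv.permCongrHom e).toMonoidHom.comp (MulAction.toPermHom G (G ⧸ H))
  have hinj : Function.Injective φ := by
    refine (Equiv.permCongrHom e).injective.comp ?_
    rw [← MonoidHom.ker_eq_bot_iff, ← Subgroup.normalCore_eq_ker, hcore]
  have hπ : (φ z).cycleType = Multiset.replicate 3 3 := by
    apply cycleType_of_free
    · rw [← map_pow, hz3, map_one]
    · intro x hx
      have h1 : z • e.symm x = e.symm x := by
        have := congrArg e.symm hx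
        simpa [φ, Equiv.permCongrHom, Equiv.permCongr_apply] using this
      revert h1
      refine QuotientGroup.induction_on (e.symm x) fun g hg => hzH ?_
      have h2 : (z * g)⁻¹ * g ∈ H := QuotientGroup.eq.1 hg
      rw [show z * g = g * z from (Subgroup.mem_center_iff.1 hz g).symm, mul_inv_rev, inv_mul_cancel_right] at h2
      exact (H.inv_mem_iff).1 h2
  obtain ⟨c, hc⟩ := isConj_iff.1 (Equiv.Perm.isConj_iff_cycleType_eq.2 (hπ.trans hσc.symm))
  let ψ : G →* Equiv.Perm (Fin 9) := (MulAut.conj c).toMonoidHom.comp φ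
  have hψz : ψ z = σ := hc
  have hψmem : ∀ g, ψ g ∈ Subgroup.centralizer ({σ} : Set (Equiv.Perm (Fin 9))) := fun g => by
    rw [Subgroup.mem_centralizer_singleton_iff, ← hψz, ← map_mul, ← map_mul, Subgroup.mem_center_iff.1 hz g]
  refine ⟨MulEquiv.ofBijective (ψ.codRestrict _ hψmem) ?_⟩
  rw [Nat.bijective_iff_injective_and_card]
  exact ⟨fun a b hab => hinj ((MulAut.conj c).injective (congrArg Subtype.val hab)),
    by rw [hG, card_centralizer σ hσc]⟩

/-- Let G be a group of order 162 = 3⁴·2 with Sylow 3-subgroup S and Sylow 2-subgroup T, having an elementary abelian normal subgroup J of order 27, such that Z = Z(S) has order 3, Z centralizes T, and C_S(T) ≠ S. Then G is isomorphic to the centralizer in Sym(9) of a product of three disjoint 3-cycles. -/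
theorem result {G : Type*} [Group G] [Finite G] (hG : Nat.card G = 162)
    (S : Sylow 3 G) (T : Sylow 2 G) (J : Subgroup G) [hJn : J.Normal] (hJcomm : IsMulCommutative J)
    (hJexp : ∀ a ∈ J, a ^ 3 = 1) (hJcard : Nat.card J = 27)
    (Z : Subgroup G) (hZ : Z = (S : Subgroup G) ⊓ Subgroup.centralizer ((S : Subgroup G) : Set G)) (hZcard : Nat.card Z = 3)
    (hZT : Z ≤ Subgroup.centralizer ((T : Subgroup G) : Set G))
    (hST : (S : Subgroup G) ⊓ Subgroup.centralizer ((T : Subgroup G) : Set G) ≠ S) :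
    Nonempty (G ≃* Subgroup.centralizer ({Equiv.swap (0 : Fin 9) 1 * Equiv.swap 1 2 * Equiv.swap 3 4 * Equiv.swap 4 5 * Equiv.swap 6 7 * Equiv.swap 7 8} : Set (Equiv.Perm (Fin 9)))) := by
  classical
  haveI : Fact (Nat.Prime 3) := ⟨by norm_num⟩
  haveI : Fact (Nat.Prime 2) := ⟨by norm_num⟩
  have hS81 : Nat.card (S : Subgroup G) = 81 := by
    rw [Sylow.card_eq_multiplicity, hG, show (162 : ℕ) = 3 ^ 4 * 2 by norm_num, Nat.factorization_mul (by norm_num) (by norm_num),
      Nat.Prime.factorization_pow (by norm_num), Nat.Prime.factorization (by norm_num : Nat.Prime 2)]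
    simp
  have hT2 : Nat.card (T : Subgroup G) = 2 := by
    rw [Sylow.card_eq_multiplicity, hG, show (162 : ℕ) = 2 ^ 1 * 81 by norm_num, Nat.factorization_mul (by norm_num) (by norm_num),
      Nat.Prime.factorization_pow (by norm_num), show (81 : ℕ) = 3 ^ 4 by norm_num, Nat.Prime.factorization_pow (by norm_num)]
    simp
  have hSn : (S : Subgroup G).Normal := Subgroup.normal_of_index_eq_two (by
    have := (S : Subgroup G).card_mul_index
    rw [hS81, hG] at this
    omega)
  have hcov : ∀ K : Subgroup G, (S : Subgroup G) ≤ K → (T : Subgroup G) ≤ K → K = ⊤ := fun K h1 h2 => by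
    apply Subgroup.eq_top_of_card_eq
    have d1 := Subgroup.card_dvd_of_le h1
    have d2 := Subgroup.card_dvd_of_le h2
    rw [hS81] at d1
    rw [hT2] at d2
    refine Nat.dvd_antisymm K.card_subgroup_dvd_card ?_
    rw [hG, show (162 : ℕ) = 81 * 2 by norm_num]
    exact Nat.Coprime.mul_dvd_of_dvd_of_dvd (by norm_num) d1 d2
  have hZmem : ∀ z ∈ Z, z ∈ Subgroup.center G := fun z hz => by
    have : Subgroup.centralizer ({z} : Set G) = ⊤ := by
      refine hcov _ (fun s hs => ?_) fun t ht => ?_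
      · rw [hZ] at hz
        exact Subgroup.mem_centralizer_singleton_iff.2 (Subgroup.mem_centralizer_iff.1 hz.2 s hs)
      · exact Subgroup.mem_centralizer_singleton_iff.2 (Subgroup.mem_centralizer_iff.1 (hZT hz) t ht)
    exact Subgroup.mem_center_iff.2 fun g => Subgroup.mem_centralizer_singleton_iff.1 (this ▸ Subgroup.mem_top g)
  have hJc : ∀ a ∈ J, ∀ b ∈ J, a * b = b * a := fun a ha b hb => congrArg Subtype.val (hJcomm.is_comm.comm ⟨a, ha⟩ ⟨b, hb⟩)
  have hJp : IsPGroup 3 J := IsPGroup.of_card (n := 3) (by rw [hJcard]; norm_num)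
  have hJS : J ≤ (S : Subgroup G) := by
    have := (hJp.to_sup_of_normal_left S.isPGroup' : IsPGroup 3 ↥(J ⊔ (S : Subgroup G)))
    exact le_sup_left.trans (S.is_maximal' this le_sup_right).le
  have hZS : Z ≤ (S : Subgroup G) := hZ ▸ inf_le_left
  have hZJ : Z ≤ J := by
    by_contra hle
    have hn : Z ≤ Subgroup.normalizer (J : Set G) := by rw [Subgroup.normalizer_eq_top]; exact le_top
    have hc := CfsgLib.Fusion.Thompson.card_sup_mul_card_inf hn
    have hinf : Nat.card ↥(J ⊓ Z) = 1 := by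
      have h1 := Subgroup.card_dvd_of_le (inf_le_right : J ⊓ Z ≤ Z)
      rw [hZcard, Nat.dvd_prime (by norm_num)] at h1
      refine h1.resolve_right fun h => hle ?_
      exact (Subgroup.eq_of_le_of_card_ge (inf_le_right : J ⊓ Z ≤ Z) (by rw [h, hZcard])).ge.trans inf_le_left
    rw [hinf, mul_one, hJcard, hZcard] at hc
    have htop : J ⊔ Z = (S : Subgroup G) := Subgroup.eq_of_le_of_card_ge (sup_le hJS hZS) (by rw [hc, hS81])
    have hab : (S : Subgroup G) ≤ Subgroup.centralizer ((S : Subgroup G) : Set G) := by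
      rw [← htop]
      refine sup_le (Subgroup.le_centralizer_iff.2 (sup_le (fun a ha => Subgroup.mem_centralizer_iff.2 fun b hb => hJc b hb a ha)
        fun z hz => Subgroup.center_le_centralizer _ (hZmem z hz))) fun z hz => Subgroup.center_le_centralizer _ (hZmem z hz)
    rw [inf_eq_left.2 hab] at hZ
    rw [hZ, hS81] at hZcard
    omega
  obtain ⟨z, hzZ, hz1⟩ := Z.bot_or_exists_ne_one.resolve_left fun h => by rw [h, Subgroup.card_bot] at hZcard; omega
  have hzgen : Subgroup.zpowers z = Z := Subgroup.eq_of_le_of_card_ge (Subgroup.zpowers_le.2 hzZ) (by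
    rw [hZcard, Nat.card_zpowers, orderOf_eq_prime (hJexp z (hZJ hzZ)) hz1])
  obtain ⟨t, htT, ht1⟩ := (T : Subgroup G).bot_or_exists_ne_one.resolve_left fun h => by rw [h, Subgroup.card_bot] at hT2; omega
  have ht2 : t ^ 2 = 1 := by
    have h := pow_card_eq_one' (x := (⟨t, htT⟩ : (T : Subgroup G)))
    rw [hT2] at h
    exact congrArg Subtype.val h
  have hto : orderOf t = 2 := orderOf_eq_prime ht2 ht1
  have htgen : Subgroup.zpowers t = (T : Subgroup G) := Subgroup.eq_of_le_of_card_ge (Subgroup.zpowers_le.2 htT) (by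
    rw [hT2, Nat.card_zpowers, hto])
  have htinv : t⁻¹ = t := inv_eq_of_mul_eq_one_right (by rw [← pow_two, ht2])
  -- a `t`-invariant complement of `Z` in `J`
  obtain ⟨W, ⟨hWJ, hWZ, hWt⟩, hWmax⟩ := Set.exists_max_image
    {W : Subgroup G | W ≤ J ∧ W ⊓ Z = ⊥ ∧ ∀ w ∈ W, t * w * t ∈ W} (fun W => Nat.card W) (Set.toFinite _)
    ⟨⊥, bot_le, bot_inf_eq _, fun w hw => by rw [Subgroup.mem_bot.1 hw, mul_one, ← pow_two, ht2]; exact Subgroup.one_mem _⟩
  have hnorm : ∀ A B : Subgroup G, A ≤ J → B ≤ J → B ≤ Subgroup.normalizer (A : Set G) := fun A B hA hB b hb => by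
    refine Subgroup.mem_normalizer_iff.2 fun a => ⟨fun ha => ?_, fun ha => ?_⟩
    · rw [hJc b (hB hb) a (hA ha), mul_inv_cancel_right]; exact ha
    · have h := hA ha
      have haJ : a ∈ J := by
        have := J.mul_mem (J.mul_mem (J.inv_mem (hB hb)) h) (hB hb)
        simpa [mul_assoc] using this
      rwa [hJc b (hB hb) a haJ, mul_inv_cancel_right] at ha
  have hWZtop : W ⊔ Z = J := by
    refine le_antisymm (sup_le hWJ hZJ) fun x hx => ?_
    by_contra hxn
    have hx' : t * x * t ∈ J := by have := hJn.conj_mem x hx t; rwa [htinv] at this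
    obtain ⟨y, hyJ, hyn, hyt⟩ : ∃ y ∈ J, y ∉ W ⊔ Z ∧ (t * y * t = y ∨ t * y * t = y⁻¹) := by
      by_cases hp : x * (t * x * t) ∈ W ⊔ Z
      · refine ⟨x * (t * x * t)⁻¹, J.mul_mem hx (J.inv_mem hx'), fun hm => hxn ?_, Or.inr ?_⟩
        · have h2 := Subgroup.mul_mem _ hp hm
          have : x * (t * x * t) * (x * (t * x * t)⁻¹) = x ^ 2 := by
            rw [hJc (x * (t * x * t)) (J.mul_mem hx hx') (x * (t * x * t)⁻¹) (J.mul_mem hx (J.inv_mem hx')),
              ← mul_assoc, mul_assoc x, hJc ((t * x * t)⁻¹) (J.inv_mem hx') x hx, ← mul_assoc x, mul_assoc,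
              inv_mul_cancel, mul_one, pow_two]
          rw [this] at h2
          have h4 := Subgroup.mul_mem _ h2 h2
          rwa [← pow_add, pow_succ, hJexp x hx, one_mul] at h4
        · rw [mul_inv_rev x, inv_inv]
          calc t * (x * (t * x * t)⁻¹) * t = t * x * t⁻¹ * x⁻¹ * (t⁻¹ * t) := by group
            _ = t * x * t * x⁻¹ := by rw [inv_mul_cancel, mul_one, htinv]
      · refine ⟨x * (t * x * t), J.mul_mem hx hx', hp, Or.inl ?_⟩
        calc t * (x * (t * x * t)) * t = (t * x * t) * x * (t * t) := by group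
          _ = x * (t * x * t) := by rw [← pow_two, ht2, mul_one, hJc _ hx' x hx]
    have hyW : W ⊔ Subgroup.zpowers y ≤ J := sup_le hWJ (Subgroup.zpowers_le.2 hyJ)
    have hc := CfsgLib.Fusion.Thompson.card_sup_mul_card_inf (hnorm W (Subgroup.zpowers y) hWJ (Subgroup.zpowers_le.2 hyJ))
    have hy1 : y ≠ 1 := fun h => hyn (h ▸ Subgroup.one_mem _)
    have hyc : Nat.card (Subgroup.zpowers y) = 3 := by rw [Nat.card_zpowers, orderOf_eq_prime (hJexp y hyJ) hy1]
    have hcap : Nat.card ↥(W ⊓ Subgroup.zpowers y) = 1 := by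
      have h1 := Subgroup.card_dvd_of_le (inf_le_right : W ⊓ Subgroup.zpowers y ≤ Subgroup.zpowers y)
      rw [hyc, Nat.dvd_prime (by norm_num)] at h1
      refine h1.resolve_right fun h => hyn ?_
      exact Subgroup.mem_sup_left ((Subgroup.eq_of_le_of_card_ge (inf_le_right : W ⊓ Subgroup.zpowers y ≤ Subgroup.zpowers y)
        (by rw [h, hyc])).ge (Subgroup.mem_zpowers y)).1
    rw [hcap, mul_one, hyc] at hc
    have hnot : (W ⊔ Subgroup.zpowers y) ⊓ Z = ⊥ := by
      by_contra hne
      have h1 := Subgroup.card_dvd_of_le (inf_le_right : (W ⊔ Subgroup.zpowers y) ⊓ Z ≤ Z)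
      rw [hZcard, Nat.dvd_prime (by norm_num)] at h1
      have h3 := h1.resolve_left fun h => hne (Subgroup.card_eq_one.1 h)
      have hZle : Z ≤ W ⊔ Subgroup.zpowers y :=
        (Subgroup.eq_of_le_of_card_ge inf_le_right (by rw [h3, hZcard])).ge.trans inf_le_left
      have hcz := CfsgLib.Fusion.Thompson.card_sup_mul_card_inf (hnorm W Z hWJ hZJ)
      rw [hWZ, Subgroup.card_bot, mul_one, hZcard] at hcz
      exact hyn ((Subgroup.eq_of_le_of_card_ge (sup_le le_sup_left hZle) (by rw [hc, hcz])).ge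
        (Subgroup.mem_sup_right (Subgroup.mem_zpowers y)))
    have hinv : ∀ w ∈ W ⊔ Subgroup.zpowers y, t * w * t ∈ W ⊔ Subgroup.zpowers y := by
      have hle : (W ⊔ Subgroup.zpowers y).map (MulAut.conj t).toMonoidHom ≤ W ⊔ Subgroup.zpowers y := by
        rw [Subgroup.map_le_iff_le_comap, sup_le_iff, Subgroup.zpowers_le]
        refine ⟨fun w hw => ?_, ?_⟩
        · show t * w * t⁻¹ ∈ W ⊔ Subgroup.zpowers y
          rw [htinv]
          exact Subgroup.mem_sup_left (hWt w hw)
        · show t * y * t⁻¹ ∈ W ⊔ Subgroup.zpowers y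
          rw [htinv]
          rcases hyt with h | h <;> rw [h]
          · exact Subgroup.mem_sup_right (Subgroup.mem_zpowers y)
          · exact Subgroup.mem_sup_right (Subgroup.inv_mem _ (Subgroup.mem_zpowers y))
      intro w hw
      have : t * w * t⁻¹ ∈ W ⊔ Subgroup.zpowers y := hle ⟨w, hw, rfl⟩
      rwa [htinv] at this
    have hbig := hWmax (W ⊔ Subgroup.zpowers y) ⟨hyW, hnot, hinv⟩
    rw [hc] at hbig
    have := Nat.card_pos (α := W)
    omega
  have hWc : Nat.card W = 9 := by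
    have hc := CfsgLib.Fusion.Thompson.card_sup_mul_card_inf (hnorm W Z hWJ hZJ)
    rw [hWZtop, hWZ, Subgroup.card_bot, mul_one, hJcard, hZcard] at hc
    omega
  have htW : Subgroup.zpowers t ≤ Subgroup.normalizer (W : Set G) := by
    rw [Subgroup.zpowers_le, Subgroup.mem_normalizer_iff]
    intro w
    rw [htinv]
    refine ⟨fun h => hWt w h, fun h => ?_⟩
    have h' := hWt _ h
    rwa [show t * (t * w * t) * t = (t * t) * w * (t * t) by group, ← pow_two, ht2, one_mul, mul_one] at h'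
  set H := W ⊔ Subgroup.zpowers t with hHdef
  have hH : Nat.card H = 18 := by
    have hc := CfsgLib.Fusion.Thompson.card_sup_mul_card_inf htW
    have hcap : W ⊓ Subgroup.zpowers t = ⊥ := Subgroup.inf_eq_bot_of_coprime (by rw [hWc, Nat.card_zpowers, hto]; norm_num)
    rw [hcap, Subgroup.card_bot, mul_one, hWc, Nat.card_zpowers, hto] at hc
    exact hc
  have hHS : H ⊓ (S : Subgroup G) = W := by
    refine (Subgroup.eq_of_le_of_card_ge (le_inf le_sup_left (hWJ.trans hJS)) ?_).symm
    have d1 := Subgroup.card_dvd_of_le (inf_le_left : H ⊓ (S : Subgroup G) ≤ H)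
    have d2 := Subgroup.card_dvd_of_le (inf_le_right : H ⊓ (S : Subgroup G) ≤ S)
    have := Nat.dvd_gcd d1 d2
    rw [hH, hS81] at this
    rw [hWc]
    exact Nat.le_of_dvd (by norm_num) this
  have hzH : z ∉ H := fun h => hz1 (Subgroup.mem_bot.1 (hWZ ▸ ⟨hHS ▸ ⟨h, hZS hzZ⟩, hzZ⟩))
  refine equiv_of_subgroup hG z (hZmem z hzZ) (hJexp z (hZJ hzZ)) H hH hzH ?_
  -- the core is trivial
  set N := H.normalCore with hNdef
  haveI : N.Normal := H.normalCore_normal
  have hNS : N ⊓ (S : Subgroup G) = ⊥ := by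
    by_contra hne
    set M := (N ⊓ (S : Subgroup G)).subgroupOf (S : Subgroup G) with hM
    haveI : M.Normal := inferInstance
    have hMne : M ≠ ⊥ := by
      rw [hM, Ne, Subgroup.subgroupOf_eq_bot, disjoint_iff, inf_assoc, inf_idem]
      exact hne
    obtain ⟨⟨s, hs⟩, h1, h1n, -, h2⟩ := CfsgLib.Fusion.NormalRankTwo.exists_central_of_lt S.isPGroup'
      (M := ⊥) (N := M) (fun h => hMne (le_bot_iff.1 h))
    apply h1n
    have hsZ : s ∈ Z := by
      rw [hZ]
      exact ⟨hs, Subgroup.mem_centralizer_iff.2 fun u hu =>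
        congrArg Subtype.val (commutatorElement_eq_one_iff_mul_comm.1 (Subgroup.mem_bot.1 (h2 ⟨u, hu⟩)))⟩
    have hsW : s ∈ W := hHS ▸ ⟨H.normalCore_le (Subgroup.mem_subgroupOf.1 h1).1, hs⟩
    exact Subgroup.mem_bot.2 (Subtype.ext (Subgroup.mem_bot.1 (hWZ ▸ ⟨hsW, hsZ⟩)))
  by_contra hne
  have hNc : Nat.card N ∣ 2 := by
    have h := CfsgLib.Fusion.Thompson.card_sup_mul_card_inf
      (show N ≤ Subgroup.normalizer ((S : Subgroup G) : Set G) by rw [Subgroup.normalizer_eq_top]; exact le_top)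
    rw [inf_comm, hNS, Subgroup.card_bot, mul_one, hS81] at h
    have hd : 81 * Nat.card N ∣ 81 * 2 := by
      rw [← h, show 81 * 2 = Nat.card G by rw [hG]]
      exact Subgroup.card_subgroup_dvd_card _
    exact Nat.dvd_of_mul_dvd_mul_left (by norm_num) hd
  have hN2 : Nat.card N = 2 := ((Nat.dvd_prime Nat.prime_two).1 hNc).resolve_left fun h => hne (Subgroup.card_eq_one.1 h)
  obtain ⟨g, hg⟩ := (IsPGroup.of_card (p := 2) (n := 1) (by rw [hN2, pow_one]) : IsPGroup 2 N).exists_le_sylow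
  obtain ⟨c, hc⟩ := MulAction.exists_smul_eq G g T
  have hNT : N = (T : Subgroup G) := by
    refine Subgroup.eq_of_le_of_card_ge ?_ (by rw [hN2, hT2])
    rw [← hc, Sylow.coe_subgroup_smul]
    intro n hn
    refine Subgroup.mem_pointwise_smul_iff_inv_smul_mem.2 (hg ?_)
    rw [← map_inv, MulAut.smul_def, MulAut.conj_apply]
    exact (inferInstance : N.Normal).conj_mem n hn _
  refine hST (inf_eq_left.2 fun s hs => Subgroup.mem_centralizer_iff.2 fun u hu => ?_)
  have hu' : u ∈ N := hNT ▸ hu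
  have hk : u * s * u⁻¹ * s⁻¹ ∈ N ⊓ (S : Subgroup G) := by
    refine ⟨?_, Subgroup.mul_mem _ (hSn.conj_mem s hs u) (Subgroup.inv_mem _ hs)⟩
    rw [show u * s * u⁻¹ * s⁻¹ = u * (s * u⁻¹ * s⁻¹) by group]
    exact N.mul_mem hu' ((inferInstance : N.Normal).conj_mem _ (N.inv_mem hu') s)
  rw [hNS, Subgroup.mem_bot, mul_inv_eq_one, mul_inv_eq_iff_eq_mul] at hk
  exact hk

end Cfsg.Agent.S3376
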