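import Cfsg.Statements.S3379
import Mathlib

set_option autoImplicit false
open Cfsg

namespace Cfsg.Agent.S3379

theorem commutator_le_of_gen {G : Type*} [Group G] (M : Subgroup G) [M.Normal] {x y : G}
    (hgen : Subgroup.closure {x, y} = ⊤) (hxy : (QuotientGroup.mk' M x) * (QuotientGroup.mk' M y) = (QuotientGroup.mk' M y) * (QuotientGroup.mk' M x)) :
    commutator G ≤ M := by
  set π := QuotientGroup.mk' M with hπ
  have hcomm : ∀ a b : G, π a * π b = π b * π a := by
    have h1 : ∀ a ∈ ({x, y} : Set G), ∀ b ∈ ({x, y} : Set G), π a * π b = π b * π a := by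
      rintro a (rfl | rfl) b (rfl | rfl)
      · rfl
      · exact hxy
      · exact hxy.symm
      · rfl
    have h2 : ∀ a ∈ ({x, y} : Set G), ∀ b : G, π a * π b = π b * π a := by
      intro a ha b
      have hb : b ∈ Subgroup.closure ({x, y} : Set G) := hgen ▸ Subgroup.mem_top b
      have hle : Subgroup.closure ({x, y} : Set G) ≤ (Subgroup.centralizer {π a}).comap π := by
        rw [Subgroup.closure_le]
        intro c hc
        exact Subgroup.mem_centralizer_singleton_iff.mpr (h1 a ha c hc).symm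
      exact (Subgroup.mem_centralizer_singleton_iff.mp (hle hb)).symm
    intro a b
    have ha : a ∈ Subgroup.closure ({x, y} : Set G) := hgen ▸ Subgroup.mem_top a
    have hle : Subgroup.closure ({x, y} : Set G) ≤ (Subgroup.centralizer {π b}).comap π := by
      rw [Subgroup.closure_le]
      intro c hc
      exact Subgroup.mem_centralizer_singleton_iff.mpr (h2 c hc b)
    exact Subgroup.mem_centralizer_singleton_iff.mp (hle ha)
  rw [commutator_def, Subgroup.commutator_le]
  intro a _ b _
  rw [← QuotientGroup.ker_mk' M, MonoidHom.mem_ker]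
  show π (a * b * a⁻¹ * b⁻¹) = 1
  rw [map_mul, map_mul, map_mul, map_inv, map_inv, hcomm a b, mul_inv_cancel_right, mul_inv_cancel]

/-- Let G be a finite group all of whose Sylow subgroups are cyclic. Then G is generated by two elements x and y of coprime orders n and m with x⁻¹yx = y^r, where gcd(r − 1, m) = 1 and r^n ≡ 1 (mod m). -/
theorem result {G : Type*} [Group G] [Finite G]
    (hZ : ∀ (p : ℕ) [Fact p.Prime] (P : Sylow p G), IsCyclic (P : Subgroup G)) :
    ∃ (x y : G) (n m r : ℕ), Subgroup.closure {x, y} = ⊤ ∧ orderOf x = n ∧ orderOf y = m ∧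
      x⁻¹ * y * x = y ^ r ∧ Nat.Coprime (r - 1) m ∧ Nat.Coprime n m ∧ 1 ≤ r ∧ r ^ n % m = 1 % m := by
  haveI hzg : IsZGroup G := ⟨fun p hp P => by haveI := Fact.mk hp; exact hZ p P⟩
  have hcop := hzg.coprime_commutator_index
  obtain ⟨H, hH⟩ := Subgroup.exists_right_complement'_of_coprime hcop
  haveI hA : IsCyclic (G ⧸ commutator G) := IsZGroup.isCyclic_abelianization
  haveI hHc : IsCyclic H := isCyclic_of_surjective _ (hH.symm.QuotientMulEquiv).surjective
  haveI hNc : IsCyclic (commutator G) := hzg.isCyclic_commutator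
  obtain ⟨⟨y, hy⟩, hygen⟩ := IsCyclic.exists_generator (α := commutator G)
  obtain ⟨⟨x, hx⟩, hxgen⟩ := IsCyclic.exists_generator (α := H)
  have hyN : Subgroup.zpowers y = commutator G := by
    refine le_antisymm (Subgroup.zpowers_le.mpr hy) fun a ha => ?_
    obtain ⟨t, ht⟩ := Subgroup.mem_zpowers_iff.mp (hygen ⟨a, ha⟩)
    exact Subgroup.mem_zpowers_iff.mpr ⟨t, congrArg Subtype.val ht⟩
  have hxH : Subgroup.zpowers x = H := by
    refine le_antisymm (Subgroup.zpowers_le.mpr hx) fun a ha => ?_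
    obtain ⟨t, ht⟩ := Subgroup.mem_zpowers_iff.mp (hxgen ⟨a, ha⟩)
    exact Subgroup.mem_zpowers_iff.mpr ⟨t, congrArg Subtype.val ht⟩
  have hgen : Subgroup.closure {x, y} = ⊤ := by
    rw [eq_top_iff, ← hH.sup_eq_top, ← hyN, ← hxH]
    refine sup_le (Subgroup.zpowers_le.mpr (Subgroup.subset_closure (Or.inr rfl))) (Subgroup.zpowers_le.mpr (Subgroup.subset_closure (Or.inl rfl)))
  have hm : orderOf y = Nat.card (commutator G) := by rw [← Nat.card_zpowers, hyN]
  have hn : orderOf x = Nat.card H := by rw [← Nat.card_zpowers, hxH]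
  have hnm : Nat.Coprime (orderOf x) (orderOf y) := by
    rw [hm, hn]
    rw [← hH.symm.index_eq_card] at *
    exact hcop.symm
  have hxy : x⁻¹ * y * x ∈ Subgroup.zpowers y := by
    rw [hyN]
    have := (inferInstance : (commutator G).Normal).conj_mem y hy x⁻¹
    simpa using this
  obtain ⟨k, hk⟩ := mem_powers_iff_mem_zpowers.mpr hxy
  simp only at hk
  set r := k + orderOf y with hr
  have hpow : x⁻¹ * y * x = y ^ r := by rw [hr, pow_add, pow_orderOf_eq_one, mul_one, hk]
  have hr1 : 1 ≤ r := by have := orderOf_pos y; omega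
  have hiter : ∀ i : ℕ, (x ^ i)⁻¹ * y * x ^ i = y ^ (r ^ i) := by
    intro i
    induction i with
    | zero => simp
    | succ i ih =>
      have hc : x⁻¹ * (y ^ (r ^ i)) * x = (x⁻¹ * y * x) ^ (r ^ i) := by
        have := conj_pow (a := x⁻¹) (b := y) (i := r ^ i)
        rw [inv_inv] at this
        exact this.symm
      rw [pow_succ, mul_inv_rev, show x⁻¹ * (x ^ i)⁻¹ * y * (x ^ i * x) = x⁻¹ * ((x ^ i)⁻¹ * y * x ^ i) * x by group, ih,
        hc, hpow, ← pow_mul, ← pow_succ']
  set M := Subgroup.zpowers (y ^ (r - 1)) with hM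
  haveI : M.Normal := by
    refine ⟨fun a ha g => ?_⟩
    obtain ⟨j, rfl⟩ := Subgroup.mem_zpowers_iff.mp ha
    have hgy : g * y * g⁻¹ ∈ Subgroup.zpowers y := by
      rw [hyN]; exact (inferInstance : (commutator G).Normal).conj_mem y hy g
    obtain ⟨t, ht⟩ := Subgroup.mem_zpowers_iff.mp hgy
    rw [← conj_zpow, ← conj_pow, ← ht]
    refine Subgroup.mem_zpowers_iff.mpr ⟨t * j, ?_⟩
    rw [← zpow_natCast, ← zpow_natCast, ← zpow_mul, ← zpow_mul, ← zpow_mul]
    ring_nf
  have hle : commutator G ≤ M := by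
    refine commutator_le_of_gen M hgen ?_
    rw [← map_mul, ← map_mul, QuotientGroup.mk'_eq_mk']
    refine ⟨y ^ (r - 1), Subgroup.mem_zpowers _, ?_⟩
    have e : y * x = x * y ^ r := by rw [← hpow]; group
    rw [e, mul_assoc, show r = (r - 1) + 1 by omega, pow_succ']
    simp
  have hco : Nat.Coprime (r - 1) (orderOf y) := by
    have h1 : M = Subgroup.zpowers y :=
      le_antisymm (Subgroup.zpowers_le.mpr (Subgroup.pow_mem _ (Subgroup.mem_zpowers y) _)) (hyN ▸ hle)
    have h2 : orderOf (y ^ (r - 1)) = orderOf y := by rw [← Nat.card_zpowers, ← hM, h1, Nat.card_zpowers]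
    rw [orderOf_pow] at h2
    have h3 := (Nat.div_eq_self).mp h2
    rcases h3 with h3 | h3
    · have := orderOf_pos y; omega
    · exact Nat.coprime_comm.mp h3
  refine ⟨x, y, orderOf x, orderOf y, r, hgen, rfl, rfl, hpow, hco, hnm, hr1, ?_⟩
  have h1 := hiter (orderOf x)
  rw [pow_orderOf_eq_one, inv_one, one_mul, mul_one] at h1
  exact (pow_eq_pow_iff_modEq.mp ((pow_one y).trans h1)).symm

end Cfsg.Agent.S3379
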