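import Cfsg.Statements.S3380
import Mathlib
import Cfsg.Agent.S0519
import Cfsg.Agent.S0016
import Cfsg.Agent.Lib.Fusion.NormalRankTwo
-- import your own Cfsg.Agent.* helpers here

set_option autoImplicit false
open Cfsg

namespace Cfsg.Agent.S3380
open scoped commutatorElement

/-- Let a finite p-group G act faithfully and irreducibly on a non-trivial finite vector space V over the field with q elements (q prime), and suppose G is not cyclic, generalized quaternion, dihedral or semidihedral. Then G has a subgroup H of index p and V is the direct sum of p subspaces, each invariant under H, on none of which H acts faithfully, and which every element of G outside H permutes in a single p-cycle. -/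
theorem result
    (q : ℕ) [Fact q.Prime] {V : Type*} [AddCommGroup V] [Module (ZMod q) V] [Finite V] [Nontrivial V]
    {G : Type*} [Group G] [Finite G] (p : ℕ) [Fact p.Prime] (hG : IsPGroup p G)
    (ρ : G →* (V ≃ₗ[ZMod q] V)) (hρ : Function.Injective ρ)
    (hirr : ∀ W : Submodule (ZMod q) V, (∀ g : G, ∀ w ∈ W, ρ g w ∈ W) → W = ⊥ ∨ W = ⊤)
    (hnc : ¬ IsCyclic G) (hnq : ∀ n : ℕ, ¬ Nonempty (G ≃* QuaternionGroup n))
    (hnd : ∀ n : ℕ, ¬ Nonempty (G ≃* DihedralGroup n)) (hnsd : ¬ Cfsg.IsQuasiDihedral G) :
    ∃ (H : Subgroup G) (W : Fin p → Submodule (ZMod q) V), H.index = p ∧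
      iSup W = ⊤ ∧ iSupIndep W ∧
      (∀ h ∈ H, ∀ i, ∀ w ∈ W i, ρ h w ∈ W i) ∧
      (∀ i, ∃ h ∈ H, h ≠ 1 ∧ ∀ w ∈ W i, ρ h w = w) ∧
      ∀ g : G, g ∉ H → ∃ σ : Equiv.Perm (Fin p), orderOf σ = p ∧ ∀ i, (W i).map (ρ g : V →ₗ[ZMod q] V) = W (σ i) := by
  classical
  have hp : p.Prime := Fact.out
  have : NeZero p := ⟨hp.ne_zero⟩
  -- a noncyclic abelian normal subgroup
  obtain ⟨A, hAn, hAc, hAnc⟩ : ∃ A : Subgroup G, A.Normal ∧ IsMulCommutative A ∧ ¬ IsCyclic A := by
    by_contra hcon
    have hall : ∀ A : Subgroup G, A.Normal → IsMulCommutative A → IsCyclic A := fun A h1 h2 => by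
      by_contra h
      exact hcon ⟨A, h1, h2, h⟩
    by_cases hB : ∃ B : Subgroup G, IsMulCommutative B ∧ ¬ IsCyclic B
    · rcases (Cfsg.Agent.S0519.result p hG hall hB).2 with ⟨n, hn⟩ | ⟨n, -, hn⟩ | hn
      · exact hnq n hn
      · exact hnd n hn
      · exact hnsd hn
    · have huniq : ∀ H K : Subgroup G, Nat.card H = p → Nat.card K = p → H = K := by
        have : Nontrivial G := by
          by_contra h
          rw [not_nontrivial_iff_subsingleton] at h
          exact hnc inferInstance
        obtain ⟨z, hz, hz1⟩ : ∃ z ∈ Subgroup.center G, orderOf z = p := by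
          have := hG.center_nontrivial
          obtain ⟨z, hz⟩ := exists_prime_orderOf_dvd_card' (G := Subgroup.center G) p
            ((hG.to_subgroup _).exists_card_eq.elim fun n hn => by
              rw [hn]; exact dvd_pow_self p (fun h => by
                rw [h, pow_zero] at hn
                exact absurd hn (Finite.one_lt_card.ne')))
          exact ⟨z, z.2, by rw [Subgroup.orderOf_coe]; exact hz⟩
        suffices h : ∀ H : Subgroup G, Nat.card H = p → H = Subgroup.zpowers z from
          fun H K hH hK => (h H hH).trans (h K hK).symm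
        intro H hH
        have hHc : IsCyclic H := isCyclic_of_prime_card hH
        obtain ⟨h, hh⟩ := hHc.exists_generator
        have hcomm : Commute (h : G) z := Subgroup.mem_center_iff.mp hz h
        have hBc : IsMulCommutative (Subgroup.closure ({(h : G), z} : Set G)) :=
          Subgroup.isMulCommutative_closure (by
            rintro x (rfl | rfl) y (rfl | rfl)
            · rfl
            · exact hcomm
            · exact hcomm.symm
            · rfl)
        have hcyc : IsCyclic (Subgroup.closure ({(h : G), z} : Set G)) := by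
          by_contra h'
          exact hB ⟨_, hBc, h'⟩
        have h1 : (h : G) ∈ Subgroup.closure ({(h : G), z} : Set G) := Subgroup.subset_closure (by simp)
        have h2 : z ∈ Subgroup.closure ({(h : G), z} : Set G) := Subgroup.subset_closure (by simp)
        have ho : orderOf h = p := by rw [orderOf_eq_card_of_forall_mem_zpowers hh, hH]
        apply Subgroup.eq_of_le_of_card_ge
        · intro x hx
          obtain ⟨k, hk⟩ := hh ⟨x, hx⟩
          have hx' : x = (h : G) ^ k := by rw [← Subgroup.coe_zpow]; exact (congrArg Subtype.val hk).symm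
          rw [hx']
          apply Subgroup.zpow_mem
          have hzp : Subgroup.zpowers (⟨(h : G), h1⟩ : Subgroup.closure ({(h : G), z} : Set G)) =
              Subgroup.zpowers ⟨z, h2⟩ := by
            have oh : orderOf (⟨(h : G), h1⟩ : Subgroup.closure ({(h : G), z} : Set G)) = p := by
              rw [Subgroup.orderOf_mk, Subgroup.orderOf_coe, ho]
            have oz : orderOf (⟨z, h2⟩ : Subgroup.closure ({(h : G), z} : Set G)) = p := by
              rw [Subgroup.orderOf_mk, hz1]
            let S : Set (Subgroup.closure ({(h : G), z} : Set G)) := {x | x ^ p = 1}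
            have hS : Nat.card S ≤ p := by
              have : Fintype (Subgroup.closure ({(h : G), z} : Set G)) := Fintype.ofFinite _
              rw [Nat.card_coe_set_eq, Set.ncard_eq_toFinset_card']
              simpa [S, Set.toFinset_ofFinset] using IsCyclic.card_pow_eq_one_le (α := Subgroup.closure ({(h : G), z} : Set G)) hp.pos
            have key : ∀ w : Subgroup.closure ({(h : G), z} : Set G), orderOf w = p →
                ((Subgroup.zpowers w : Set _)) = S := by
              intro w hw
              refine Set.eq_of_subset_of_ncard_le ?_ ?_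
              · rintro x ⟨m, rfl⟩
                show (w ^ m) ^ p = 1
                rw [← zpow_natCast, ← zpow_mul, mul_comm, zpow_mul, zpow_natCast, ← hw,
                  pow_orderOf_eq_one, one_zpow]
              · rw [← Nat.card_coe_set_eq, ← Nat.card_coe_set_eq]
                exact hS.trans (by rw [SetLike.coe_sort_coe, Nat.card_zpowers, hw])
            exact SetLike.coe_injective ((key _ oh).trans (key _ oz).symm)
          obtain ⟨m, hm⟩ := Subgroup.mem_zpowers_iff.mp (hzp ▸ Subgroup.mem_zpowers _)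
          exact Subgroup.mem_zpowers_iff.mpr ⟨m, by simpa using congrArg Subtype.val hm⟩
        · rw [Nat.card_zpowers, hz1, hH]
      rcases Cfsg.Agent.S0016.result p hG huniq with h | ⟨-, n, hn⟩
      · exact hnc h
      · exact hnq _ hn
  have := hAn
  obtain ⟨Ee, -, hEn, hEel, hEcard⟩ := CfsgLib.Fusion.NormalRankTwo.exists_of_abelian hG hAc hAnc
  have := hEn
  -- central element
  have hcenter : ∃ z ∈ Ee, z ∈ Subgroup.center G ∧ z ≠ 1 := by
    obtain ⟨x, hxE, hx1, -, hxc⟩ := CfsgLib.Fusion.NormalRankTwo.exists_central_of_lt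
      (M := (⊥ : Subgroup G)) (N := Ee) hG (by
        intro h
        rw [le_bot_iff] at h
        rw [h, Subgroup.card_bot] at hEcard
        exact absurd hEcard (Nat.one_lt_pow two_ne_zero hp.one_lt).ne)
    refine ⟨x, hxE, Subgroup.mem_center_iff.mpr fun g => ?_, by simpa using hx1⟩
    exact commutatorElement_eq_one_iff_mul_comm.mp (by simpa using hxc g)
  obtain ⟨z, hzE, hzc, hz1⟩ := hcenter
  have hzp : z ^ p = 1 := hEel.2 z hzE
  have hzo : orderOf z = p := orderOf_eq_prime hzp hz1
  have hzn : (Subgroup.zpowers z).Normal := by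
    refine ⟨fun x hx g => ?_⟩
    obtain ⟨k, rfl⟩ := Subgroup.mem_zpowers_iff.mp hx
    rw [show g * z ^ k * g⁻¹ = z ^ k by
      rw [(Subgroup.mem_center_iff.mp (Subgroup.zpow_mem _ hzc k) g), mul_inv_cancel_right]]
    exact Subgroup.zpow_mem _ (Subgroup.mem_zpowers z) k
  obtain ⟨a, haE, haz, -, hacomm⟩ := CfsgLib.Fusion.NormalRankTwo.exists_central_of_lt
    (M := Subgroup.zpowers z) (N := Ee) hG (by
      intro h
      have := Subgroup.card_le_of_le h
      rw [hEcard, Nat.card_zpowers, hzo] at this
      nlinarith [hp.two_le])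
  have hap : a ^ p = 1 := hEel.2 a haE
  have hcz : ∀ x : G, Commute x z := fun x => Subgroup.mem_center_iff.mp hzc x
  have hzmod : ∀ k : ℕ, z ^ (k % p) = z ^ k := fun k => by rw [← hzo, pow_mod_orderOf]
  -- elements of order p fixing everything are trivial
  have hfix : ∀ b ∈ Subgroup.center G, b ≠ 1 → ∀ v : V, ρ b v = v → v = 0 := by
    intro b hb hb1 v hv
    let W0 : Submodule (ZMod q) V := LinearMap.eqLocus (ρ b : V →ₗ[ZMod q] V) LinearMap.id
    rcases hirr W0 (fun g w hw => by
      show ρ b (ρ g w) = ρ g w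
      rw [← LinearEquiv.mul_apply, ← map_mul, ← Subgroup.mem_center_iff.mp hb g, map_mul,
        LinearEquiv.mul_apply, show ρ b w = w from hw]) with h | h
    · exact (Submodule.eq_bot_iff _).mp h v hv
    · exfalso
      apply hb1
      apply hρ
      rw [map_one]
      ext w
      exact (h.ge Submodule.mem_top : w ∈ W0)
  have hsum : ∀ b ∈ Subgroup.center G, b ≠ 1 → b ^ p = 1 → ∀ v : V,
      ∑ i : Fin p, ρ (b ^ (i : ℕ)) v = 0 := by
    intro b hb hb1 hbp v
    refine hfix b hb hb1 _ ?_
    rw [map_sum]
    simp only [← LinearEquiv.mul_apply, ← map_mul, ← pow_succ']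
    refine Fintype.sum_equiv (Equiv.addRight (1 : Fin p)) _ _ fun i => ?_
    congr 2
    rw [Equiv.coe_addRight, Fin.val_add, Fin.val_one', Nat.add_mod_mod, ← pow_eq_pow_mod _ hbp]
  have hpq : p ≠ q := by
    rintro rfl
    let act : MulAction G V := MulAction.compHom V ρ
    have hcard : ∃ n, Nat.card V = p ^ n := by
      have : Fintype V := Fintype.ofFinite _
      rw [Nat.card_eq_fintype_card, Module.card_eq_pow_finrank (K := ZMod p), ZMod.card]
      exact ⟨_, rfl⟩
    obtain ⟨n, hn⟩ := hcard
    have hdvd : p ∣ Nat.card V := by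
      rw [hn]
      refine dvd_pow_self p fun h => ?_
      rw [h, pow_zero] at hn
      exact absurd hn (Finite.one_lt_card.ne')
    obtain ⟨w, hw, hw0⟩ := hG.exists_fixed_point_of_prime_dvd_card_of_fixed_point (α := V) hdvd
      (a := (0 : V)) (fun g => map_zero (ρ g))
    exact hw0 (hfix z hzc hz1 w (hw z)).symm
  have hpne : (p : ZMod q) ≠ 0 := by
    rw [Ne, ZMod.natCast_eq_zero_iff]
    exact fun h => hpq ((Nat.prime_dvd_prime_iff_eq Fact.out hp).mp h).symm
  -- the spaces
  let c : Fin p → G := fun i => a * z ^ (i : ℕ)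
  have hcp : ∀ i, c i ^ p = 1 := fun i => by
    rw [(((hcz a).pow_right _)).mul_pow, hap, ← pow_mul, mul_comm, pow_mul, hzp, one_pow, one_mul]
  let W : Fin p → Submodule (ZMod q) V :=
    fun i => LinearMap.eqLocus (ρ (c i) : V →ₗ[ZMod q] V) LinearMap.id
  have hWmem : ∀ i v, v ∈ W i ↔ ρ (c i) v = v := fun i v => Iff.rfl
  let s : Fin p → (V →ₗ[ZMod q] V) :=
    fun i => ∑ k : Fin p, (ρ (c i ^ (k : ℕ)) : V →ₗ[ZMod q] V)
  have hsapp : ∀ i v, s i v = ∑ k : Fin p, ρ (c i ^ (k : ℕ)) v := fun i v => by
    simp [s, LinearMap.sum_apply]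
  have hsW : ∀ i v, s i v ∈ W i := by
    intro i v
    rw [hWmem, hsapp, map_sum]
    simp only [← LinearEquiv.mul_apply, ← map_mul, ← pow_succ']
    refine Fintype.sum_equiv (Equiv.addRight (1 : Fin p)) _ _ fun k => ?_
    congr 2
    rw [Equiv.coe_addRight, Fin.val_add, Fin.val_one', Nat.add_mod_mod, ← pow_eq_pow_mod _ (hcp i)]
  have htot : ∀ v, ∑ i, s i v = (p : ZMod q) • v := by
    intro v
    simp only [hsapp]
    rw [Finset.sum_comm, Finset.sum_eq_single (0 : Fin p)]
    · simp [Nat.cast_smul_eq_nsmul]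
    · intro k _ hk
      have hb1 : z ^ (k : ℕ) ≠ 1 := by
        intro h
        have h3 := orderOf_dvd_of_pow_eq_one h
        have h2 : p ∣ (k : ℕ) := Eq.mp (congrArg (fun n => n ∣ (k : ℕ)) hzo) h3
        exact hk (Fin.ext (by simpa using Nat.eq_zero_of_dvd_of_lt h2 k.2))
      have e : ∀ i : Fin p, ρ (c i ^ (k : ℕ)) v = ρ (a ^ (k : ℕ)) (ρ ((z ^ (k : ℕ)) ^ (i : ℕ)) v) := by
        intro i
        rw [← LinearEquiv.mul_apply, ← map_mul, ← pow_mul, mul_comm (k : ℕ), pow_mul,
          ← ((hcz a).pow_right _).mul_pow]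
      rw [Finset.sum_congr rfl fun i _ => e i, ← map_sum,
        hsum _ (Subgroup.pow_mem _ hzc _) hb1 (by rw [← pow_mul, mul_comm, pow_mul, hzp, one_pow]) v, map_zero]
    · simp
  have hH : ∀ g : G, ∃ t : Fin p, ∀ i : Fin p, g * c i * g⁻¹ = c (i + t) := by
    intro g
    obtain ⟨m, hm⟩ : ∃ m : ℕ, g * a * g⁻¹ = a * z ^ m := by
      obtain ⟨m, hm⟩ := ((isOfFinOrder_of_finite z).mem_zpowers_iff_mem_range_orderOf.trans
        Finset.mem_image).mp (hacomm g)
      refine ⟨m, ?_⟩
      rw [(hcz a).pow_right m |>.eq, show z ^ m = ⁅g, a⁆ from hm.2, commutatorElement_def]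
      group
    refine ⟨⟨m % p, Nat.mod_lt _ hp.pos⟩, fun i => ?_⟩
    show g * (a * z ^ (i : ℕ)) * g⁻¹ = a * z ^ ((i + ⟨m % p, _⟩ : Fin p) : ℕ)
    rw [Fin.val_add, hzmod, pow_add, hzmod, show g * (a * z ^ (i : ℕ)) * g⁻¹ = (g * a * g⁻¹) * (g * z ^ (i : ℕ) * g⁻¹) by group,
      ((hcz g).pow_right (i : ℕ)).eq, mul_inv_cancel_right, hm, mul_assoc, ← pow_add, ← pow_add, add_comm]
  choose t ht using hH
  have hc_inj : Function.Injective c := by
    intro i j hij
    have h := mul_left_cancel hij
    exact Fin.ext (pow_injOn_Iio_orderOf (by simp [hzo, i.2]) (by simp [hzo, j.2]) h)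
  have hc0 : c 0 = a := by simp [c]
  refine ⟨Subgroup.centralizer {a}, W, ?_, ?_, ?_, ?_, ?_, ?_⟩
  · -- index
    have hle : (Subgroup.centralizer ({a} : Set G)).index ≤ p := by
      let f : G ⧸ Subgroup.centralizer ({a} : Set G) → Fin p := fun x => t x.out
      have hf : Function.Injective f := by
        intro x y hxy
        rw [← QuotientGroup.out_eq' x, ← QuotientGroup.out_eq' y, QuotientGroup.eq,
          Subgroup.mem_centralizer_singleton_iff]
        have h1 := ht x.out 0
        have h2 := ht y.out 0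
        rw [hc0] at h1 h2
        rw [show t x.out = t y.out from hxy] at h1
        have h3 := h1.trans h2.symm
        calc x.out⁻¹ * y.out * a = x.out⁻¹ * (y.out * a * y.out⁻¹) * y.out := by group
          _ = x.out⁻¹ * (x.out * a * x.out⁻¹) * y.out := by rw [h3]
          _ = a * (x.out⁻¹ * y.out) := by group
      have := Nat.card_le_card_of_injective f hf
      simpa [Subgroup.index] using this
    have hne : (Subgroup.centralizer ({a} : Set G)).index ≠ 1 := by
      rw [Ne, Subgroup.index_eq_one]
      intro h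
      have hac : ∀ i, c i ∈ Subgroup.center G := fun i => Subgroup.mul_mem _
        (Subgroup.mem_center_iff.mpr fun g => Subgroup.mem_centralizer_singleton_iff.mp (h ▸ Subgroup.mem_top g))
        (Subgroup.pow_mem _ hzc _)
      have hc1 : ∀ i, c i ≠ 1 := fun i h1 => haz (by
        rw [show a = (z ^ (i : ℕ))⁻¹ from eq_inv_of_mul_eq_one_left h1]
        exact Subgroup.inv_mem _ (Subgroup.pow_mem _ (Subgroup.mem_zpowers z) _))
      obtain ⟨v, hv⟩ := exists_ne (0 : V)
      have := htot v
      rw [Finset.sum_eq_zero fun i _ => hfix (c i) (hac i) (hc1 i) _ ((hWmem i _).mp (hsW i v))] at this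
      exact (smul_ne_zero hpne hv) this.symm
    obtain ⟨k, hk⟩ := hG.index (Subgroup.centralizer ({a} : Set G))
    rw [hk] at hle hne ⊢
    rcases Nat.lt_trichotomy k 1 with h | h | h
    · exact absurd (by rw [show k = 0 by omega, pow_zero]) hne
    · rw [h, pow_one]
    · exact absurd hle (not_le.mpr (by
        calc p = p ^ 1 := (pow_one p).symm
          _ < p ^ k := Nat.pow_lt_pow_right hp.one_lt h))
  · -- the sum
    rw [eq_top_iff]
    intro v _
    have : v = (p : ZMod q)⁻¹ • ∑ i, s i v := by rw [htot, smul_smul, inv_mul_cancel₀ hpne, one_smul]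
    rw [this]
    exact Submodule.smul_mem _ _ (Submodule.sum_mem _ fun i _ => Submodule.mem_iSup_of_mem i (hsW i v))
  · -- independence
    rw [iSupIndep_def]
    intro i
    rw [Submodule.disjoint_def]
    intro w hwi hw
    have hker : (⨆ (j) (_ : j ≠ i), W j) ≤ LinearMap.ker (s i) := by
      refine iSup₂_le fun j hji w hw => ?_
      rw [LinearMap.mem_ker, hsapp]
      set b := z ^ ((i : ℕ) + p - (j : ℕ)) with hb
      have hb1 : b ≠ 1 := fun h => hji (hc_inj (by
        show a * z ^ (j : ℕ) = a * z ^ (i : ℕ)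
        rw [← mul_one (a * z ^ (j : ℕ)), ← h, mul_assoc, ← pow_add, Nat.add_sub_cancel' (by omega), pow_add, hzp, mul_one]))
      have hcb : c i = b * c j := by
        show a * z ^ (i : ℕ) = b * (a * z ^ (j : ℕ))
        rw [← mul_assoc, ← ((hcz a).pow_right _).eq, mul_assoc, ← pow_add, Nat.sub_add_cancel (by omega),
          pow_add, hzp, mul_one]
      have hstab : ∀ k : ℕ, ρ (c j ^ k) w = w := fun k => by
        induction k with
        | zero => simp
        | succ k ih => rw [pow_succ, map_mul, LinearEquiv.mul_apply, (hWmem j w).mp hw, ih]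
      have e : ∀ k : Fin p, ρ (c i ^ (k : ℕ)) w = ρ (b ^ (k : ℕ)) w := fun k => by
        rw [hcb, ((hcz (c j)).pow_right _).symm.mul_pow, map_mul, LinearEquiv.mul_apply, hstab]
      rw [Finset.sum_congr rfl fun k _ => e k]
      exact hsum b (Subgroup.pow_mem _ hzc _) hb1 (by rw [← pow_mul, mul_comm, pow_mul, hzp, one_pow]) w
    have h1 : s i w = 0 := hker hw
    have hstab : ∀ k : ℕ, ρ (c i ^ k) w = w := fun k => by
      induction k with
      | zero => simp
      | succ k ih => rw [pow_succ, map_mul, LinearEquiv.mul_apply, (hWmem i w).mp hwi, ih]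
    simp only [hsapp, hstab, Finset.sum_const, Finset.card_univ, Fintype.card_fin,
      ← Nat.cast_smul_eq_nsmul (ZMod q)] at h1
    exact (smul_eq_zero.mp h1).resolve_left hpne
  · intro h hh i w hw
    rw [hWmem] at hw ⊢
    have hcomm : c i * h = h * c i := by
      have h' : Commute h a := Subgroup.mem_centralizer_singleton_iff.mp hh
      exact (h'.mul_right ((hcz h).pow_right _)).eq.symm
    rw [← LinearEquiv.mul_apply, ← map_mul, hcomm, map_mul, LinearEquiv.mul_apply, hw]
  · intro i
    refine ⟨c i, Subgroup.mem_centralizer_singleton_iff.mpr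
      (((Commute.refl a).mul_right ((hcz a).pow_right _)).eq.symm), fun h1 => haz ?_, fun w hw => hw⟩
    rw [show a = (z ^ (i : ℕ))⁻¹ from eq_inv_of_mul_eq_one_left h1]
    exact Subgroup.inv_mem _ (Subgroup.pow_mem _ (Subgroup.mem_zpowers z) _)
  · intro g hg
    have ht0 : t g ≠ 0 := by
      intro h
      apply hg
      rw [Subgroup.mem_centralizer_singleton_iff]
      have := ht g 0
      rw [h, add_zero, hc0] at this
      calc g * a = g * a * g⁻¹ * g := by group
        _ = a * g := by rw [this]
    refine ⟨Equiv.addRight (t g), ?_, fun i => ?_⟩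
    · apply orderOf_eq_prime
      · have hpow : ∀ k : ℕ, ∀ x : Fin p, ((Equiv.addRight (t g)) ^ k) x = x + k • t g := by
          intro k
          induction k with
          | zero => simp
          | succ k ih =>
            intro x
            rw [pow_succ', Equiv.Perm.mul_apply, ih, succ_nsmul]
            exact add_assoc _ _ _
        ext x
        have h0 : Nat.card (Fin p) • t g = 0 := card_nsmul_eq_zero'
        rw [Nat.card_fin] at h0
        rw [hpow, h0, add_zero]
        rfl
      · intro h
        exact ht0 (by simpa using Equiv.ext_iff.mp h 0)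
    · ext v
      rw [Submodule.mem_map, Equiv.coe_addRight, hWmem, ← ht g i]
      constructor
      · rintro ⟨w, hw, rfl⟩
        show ρ (g * c i * g⁻¹) (ρ g w) = ρ g w
        rw [← LinearEquiv.mul_apply, ← map_mul, inv_mul_cancel_right, map_mul, LinearEquiv.mul_apply,
          (hWmem i w).mp hw]
      · intro hv
        refine ⟨ρ g⁻¹ v, (hWmem i _).mpr ?_, ?_⟩
        · calc ρ (c i) (ρ g⁻¹ v) = ρ (c i * g⁻¹) v := (LinearEquiv.congr_fun (map_mul ρ (c i) g⁻¹) v).symm
            _ = ρ g⁻¹ (ρ (g * c i * g⁻¹) v) := by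
              rw [← LinearEquiv.mul_apply, ← map_mul]; congr 2; group
            _ = ρ g⁻¹ v := by rw [hv]
        · show ρ g (ρ g⁻¹ v) = v
          rw [← LinearEquiv.mul_apply, ← map_mul, mul_inv_cancel, map_one]
          rfl

end Cfsg.Agent.S3380
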