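import Cfsg.Statements.S3381
import Mathlib

set_option autoImplicit false
open Cfsg

namespace Cfsg.Agent.S3381

/-- Let G be a finite group acting faithfully and linearly on a non-trivial finite vector space V over the field with q elements (q prime) so that every non-zero vector has a stabilizer of order 2, and suppose G has a central involution. Then V has q^(2r) elements for some r and G contains exactly q^r + 1 non-central involutions. -/
theorem result
    (q : ℕ) [Fact q.Prime] {V : Type*} [AddCommGroup V] [Module (ZMod q) V] [Finite V] [Nontrivial V]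
    {G : Type*} [Group G] [Finite G] (ρ : G →* (V ≃ₗ[ZMod q] V)) (hρ : Function.Injective ρ)
    (hstab : ∀ v : V, v ≠ 0 → Nat.card {g : G // ρ g v = v} = 2)
    (z : G) (hz : orderOf z = 2) (hzc : z ∈ Subgroup.center G) :
    ∃ r : ℕ, Nat.card V = q ^ (2 * r) ∧
      Nat.card {g : G // orderOf g = 2 ∧ g ∉ Subgroup.center G} = q ^ r + 1 := by
  have hq : q.Prime := Fact.out
  have happ : ∀ (a b : G) (v : V), ρ (a * b) v = ρ a (ρ b v) := fun a b v => by
    rw [map_mul]; rfl
  have hone : ∀ v : V, ρ 1 v = v := fun v => by rw [map_one]; rfl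
  have hinv : ∀ g : G, orderOf g = 2 → g * g = 1 ∧ g ≠ 1 := fun g hg =>
    ⟨by rw [← pow_two, ← hg, pow_orderOf_eq_one], by rintro rfl; simp at hg⟩
  -- the involution fixing a vector
  have hσ : ∀ v : V, v ≠ 0 → ∃ g : G, orderOf g = 2 ∧ ρ g v = v ∧
      ∀ h, ρ h v = v → h = 1 ∨ h = g := by
    intro v hv
    obtain ⟨a, b, hab, huniv⟩ := Nat.card_eq_two_iff.1 (hstab v hv)
    have hmem : ∀ h, ρ h v = v → h = a.1 ∨ h = b.1 := by
      intro h hh
      have : (⟨h, hh⟩ : {g : G // ρ g v = v}) ∈ ({a, b} : Set _) := huniv.symm ▸ Set.mem_univ _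
      rcases this with e | e
      · exact Or.inl (congrArg Subtype.val e)
      · exact Or.inr (congrArg Subtype.val e)
    obtain ⟨g, hg1, hgv, hg⟩ : ∃ g, g ≠ 1 ∧ ρ g v = v ∧ ∀ h, ρ h v = v → h = 1 ∨ h = g := by
      have hne : a.1 ≠ b.1 := fun e => hab (Subtype.ext e)
      rcases hmem 1 (hone v) with e | e
      · exact ⟨b, fun e' => hne (by rw [← e, e']), b.2, fun h hh => e ▸ hmem h hh⟩
      · exact ⟨a, fun e' => hne (by rw [← e, e']), a.2, fun h hh => e ▸ (hmem h hh).symm⟩
    have hsq : g * g = 1 := (hg (g * g) (by rw [happ, hgv, hgv])).resolve_right (by simpa using hg1)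
    exact ⟨g, orderOf_eq_prime (by rw [pow_two, hsq]) hg1, hgv, hg⟩
  have hfix : ∀ g h : G, g ≠ 1 → h ≠ 1 → g ≠ h → ∀ v, ρ g v = v → ρ h v = v → v = 0 := by
    intro g h hg hh hne v hgv hhv
    by_contra hv
    obtain ⟨k, -, -, hk⟩ := hσ v hv
    exact hne (((hk g hgv).resolve_left hg).trans ((hk h hhv).resolve_left hh).symm)
  -- a central involution acts as minus one
  have hcentral : ∀ c : G, orderOf c = 2 → c ∈ Subgroup.center G →
      (∀ v, ρ c v = -v) ∧ ∀ v, ρ c v = v → v = 0 := by
    intro c hc hcc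
    obtain ⟨hcc2, hc1⟩ := hinv c hc
    have hneg : ∀ v, ρ c v ≠ v → ρ c v = -v := by
      intro v hv
      have hv0 : v ≠ 0 := by rintro rfl; exact hv (map_zero _)
      obtain ⟨t, ht2, htv, htu⟩ := hσ v hv0
      have htc : t ≠ c := fun e => hv (e ▸ htv)
      have hcomm : ρ t (ρ c v) = ρ c v := by
        rw [← happ, Subgroup.mem_center_iff.1 hcc t, happ, htv]
      have := hfix t c (hinv t ht2).2 hc1 htc (v + ρ c v) (by rw [map_add, htv, hcomm])
        (by rw [map_add, ← happ, hcc2, hone, add_comm])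
      exact (neg_eq_of_add_eq_zero_right this).symm
    have h0 : ∀ w, ρ c w = w → w = 0 := by
      intro w hw
      by_contra hw0
      apply hc1
      apply hρ
      rw [map_one]
      refine LinearEquiv.ext fun v => ?_
      show ρ c v = v
      by_contra hv
      have hvw : ρ c (v + w) ≠ v + w := by rw [map_add, hw]; simpa using hv
      have h1 := hneg _ hvw
      rw [map_add, hw, hneg v hv] at h1
      have h2 : w + w = 0 := by
        have h1' : -v + w + (v + w) = -(v + w) + (v + w) := by rw [h1]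
        rw [neg_add_cancel] at h1'
        rw [← h1']; abel
      rcases hq.eq_two_or_odd' with h2' | hodd
      · subst h2'
        apply hv
        rw [hneg v hv]
        have : v + v = 0 := by
          rw [← two_smul (ZMod 2) v, show (2 : ZMod 2) = 0 from rfl, zero_smul]
        exact neg_eq_of_add_eq_zero_right this
      · apply hw0
        have h2' : (2 : ZMod q) ≠ 0 := by
          have : ¬ q ∣ 2 := fun hd => by
            have := (Nat.prime_dvd_prime_iff_eq hq Nat.prime_two).1 hd
            subst this; exact Nat.not_odd_iff_even.2 (by decide) hodd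
          exact fun h => this ((ZMod.natCast_eq_zero_iff 2 q).1 (by exact_mod_cast h))
        rwa [← two_smul (ZMod q) w, smul_eq_zero_iff_right h2'] at h2
    refine ⟨fun v => ?_, h0⟩
    by_cases hv : ρ c v = v
    · rw [h0 v hv]; simp
    · exact hneg v hv
  obtain ⟨hzneg, hz0⟩ := hcentral z hz hzc
  obtain ⟨hzz, hz1⟩ := hinv z hz
  have hzuniq : ∀ c : G, orderOf c = 2 → c ∈ Subgroup.center G → c = z := fun c hc hcc =>
    hρ (LinearEquiv.ext fun v => by rw [(hcentral c hc hcc).1, hzneg])
  have h2 : (2 : ZMod q) ≠ 0 := by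
    intro h2
    obtain ⟨v, hv⟩ := exists_ne (0 : V)
    apply hv
    apply hz0
    rw [hzneg]
    exact neg_eq_of_add_eq_zero_right (by rw [← two_smul (ZMod q) v, h2, zero_smul])
  let S := {g : G // orderOf g = 2 ∧ g ∉ Subgroup.center G}
  let P : G → Submodule (ZMod q) V := fun g => LinearMap.eqLocus (ρ g).toLinearMap LinearMap.id
  have hP : ∀ g v, v ∈ P g ↔ ρ g v = v := fun g v => Iff.rfl
  have hdisj : ∀ s t : S, (s : G) ≠ t → Module.finrank (ZMod q) (P s) +
      Module.finrank (ZMod q) (P t) ≤ Module.finrank (ZMod q) V := by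
    intro s t hst
    refine Submodule.finrank_add_finrank_le_of_disjoint (Submodule.disjoint_def.2 fun v h1 h2 => ?_)
    exact hfix s t (hinv _ s.2.1).2 (hinv _ t.2.1).2 hst v h1 h2
  have hzmul : ∀ t : S, orderOf ((t : G) * z) = 2 ∧ (t : G) * z ∉ Subgroup.center G := by
    intro t
    have hne : (t : G) * z ∉ Subgroup.center G := fun h => t.2.2 (by
      have := mul_mem h (inv_mem hzc)
      rwa [mul_inv_cancel_right] at this)
    refine ⟨orderOf_eq_prime ?_ (fun h => hne (h ▸ one_mem _)), hne⟩
    rw [pow_two, mul_assoc, ← mul_assoc z, ← Subgroup.mem_center_iff.1 hzc (t : G), mul_assoc,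
      hzz, mul_one, (hinv _ t.2.1).1]
  let mz : S → S := fun t => ⟨(t : G) * z, hzmul t⟩
  have hmz : ∀ (t : S) v, v ∈ P (mz t) ↔ ρ (t : G) v = -v := by
    intro t v
    rw [hP]
    show ρ ((t : G) * z) v = v ↔ _
    rw [happ, hzneg, map_neg, neg_eq_iff_eq_neg]
  have hcompl : ∀ t : S, Module.finrank (ZMod q) (P t) + Module.finrank (ZMod q) (P (mz t)) =
      Module.finrank (ZMod q) V := by
    intro t
    refine Submodule.finrank_add_eq_of_isCompl ⟨Submodule.disjoint_def.2 fun v h1 h2' => ?_, ?_⟩
    · refine hfix t (mz t) (hinv _ t.2.1).2 (hinv _ (mz t).2.1).2 ?_ v h1 h2'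
      intro e
      exact hz1 (mul_left_cancel (a := (t : G)) ((mul_one _).trans e)).symm
    · rw [codisjoint_iff, eq_top_iff]
      intro v _
      have hv : v = (2 : ZMod q)⁻¹ • (v + ρ t v) + (2 : ZMod q)⁻¹ • (v - ρ t v) := by
        rw [← smul_add, show v + ρ t v + (v - ρ t v) = (2 : ZMod q) • v by rw [two_smul]; abel,
          inv_smul_smul₀ h2]
      have htt : ρ t (ρ t v) = v := by rw [← happ, (hinv _ t.2.1).1, hone]
      rw [hv]
      refine Submodule.add_mem_sup (Submodule.smul_mem _ _ ?_) (Submodule.smul_mem _ _ ?_)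
      · rw [hP, map_add, htt, add_comm]
      · rw [hmz, map_sub, htt, neg_sub]
  have hnon : ∀ v : V, v ≠ 0 → ∃ s : S, v ∈ P s := by
    intro v hv
    obtain ⟨g, hg2, hgv, -⟩ := hσ v hv
    refine ⟨⟨g, hg2, fun hgc => hv (hz0 v ?_)⟩, hgv⟩
    rw [← hzuniq g hg2 hgc]; exact hgv
  have hhalf : ∀ t : S, 2 * Module.finrank (ZMod q) (P t) = Module.finrank (ZMod q) V := by
    intro t
    have hne : ∀ u : S, ∃ v ∈ P u, v ≠ 0 := by
      intro u
      by_contra hcon
      have hbot : P u = ⊥ := (Submodule.eq_bot_iff _).2 fun v hv => by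
        by_contra hv0; exact hcon ⟨v, hv, hv0⟩
      refine u.2.2 ?_
      have : (u : G) = z := hρ (LinearEquiv.ext fun v => by
        rw [hzneg]
        have hfx : v + ρ u v ∈ P u := by
          rw [hP, map_add, ← happ, (hinv _ u.2.1).1, hone, add_comm]
        rw [hbot, Submodule.mem_bot] at hfx
        exact (neg_eq_of_add_eq_zero_right hfx).symm)
      rwa [this]
    obtain ⟨a, ha, ha0⟩ := hne t
    obtain ⟨b, hb, hb0⟩ := hne (mz t)
    have hab : a + b ≠ 0 := fun h => by
      have ha' : a ∈ P (mz t) := by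
        rw [eq_neg_of_add_eq_zero_left h]; exact neg_mem hb
      rw [hP] at ha; rw [hmz, ha] at ha'
      apply ha0
      have h3 : (2 : ZMod q) • a = 0 := by
        rw [two_smul]; nth_rewrite 2 [ha']; exact add_neg_cancel a
      rwa [smul_eq_zero_iff_right h2] at h3
    obtain ⟨s, hs⟩ := hnon _ hab
    have h1 : (s : G) ≠ t := by
      intro e
      apply hb0
      rw [hP, e, map_add, (hP _ _).1 ha, add_right_inj] at hs
      have h3 := (hmz t b).1 hb
      rw [hs] at h3
      have h4 : (2 : ZMod q) • b = 0 := by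
        rw [two_smul]; nth_rewrite 2 [h3]; exact add_neg_cancel b
      rwa [smul_eq_zero_iff_right h2] at h4
    have h1' : (s : G) ≠ (mz t : G) := by
      intro e
      apply ha0
      rw [hP, e, map_add, (hP _ _).1 hb, add_left_inj] at hs
      have h3 := (hmz t a).1 hs
      rw [(hP _ _).1 ha] at h3
      have h4 : (2 : ZMod q) • a = 0 := by
        rw [two_smul]; nth_rewrite 2 [h3]; exact add_neg_cancel a
      rwa [smul_eq_zero_iff_right h2] at h4
    have h1'' : (mz s : G) ≠ t := fun e => h1' (by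
      show (s : G) = t * z
      rw [← e]; show (s : G) = s * z * z
      rw [mul_assoc, hzz, mul_one])
    have h1''' : (mz s : G) ≠ (mz t : G) := fun e => h1 (mul_right_cancel e)
    have := hdisj s t h1
    have := hdisj s (mz t) h1'
    have := hdisj (mz s) t h1''
    have := hdisj (mz s) (mz t) h1'''
    have := hcompl t
    have := hcompl s
    omega
  obtain ⟨v, hv⟩ := exists_ne (0 : V)
  obtain ⟨t, -⟩ := hnon v hv
  refine ⟨Module.finrank (ZMod q) (P t), ?_, ?_⟩
  · rw [hhalf t, Module.natCard_eq_pow_finrank (K := ZMod q), Nat.card_zmod]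
  set r := Module.finrank (ZMod q) (P t) with hr
  let e : (Σ s : S, {v : P (s : G) // v ≠ 0}) → {v : V // v ≠ 0} :=
    fun x => ⟨(x.2.1 : V), fun h => x.2.2 (Subtype.ext h)⟩
  have he : Function.Bijective e := by
    refine ⟨?_, fun w => ?_⟩
    · rintro ⟨s, ⟨a, ha⟩, ha0⟩ ⟨s', ⟨b, hb⟩, hb0⟩ hab
      have hab' : a = b := congrArg Subtype.val hab
      subst hab'
      have hs : s = s' := by
        by_contra hne
        exact ha0 (Subtype.ext (hfix s s' (hinv _ s.2.1).2 (hinv _ s'.2.1).2
          (fun e => hne (Subtype.ext e)) a ha hb))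
      subst hs; rfl
    · obtain ⟨s, hs⟩ := hnon w w.2
      exact ⟨⟨s, ⟨w, hs⟩, fun h => w.2 (congrArg Subtype.val h)⟩, rfl⟩
  have hcard : ∀ (W : Submodule (ZMod q) V), Nat.card {v : W // v ≠ 0} = Nat.card W - 1 := by
    intro W
    haveI := Fintype.ofFinite W
    classical
    rw [Nat.card_eq_fintype_card, Nat.card_eq_fintype_card, Fintype.card_subtype_compl,
      Fintype.card_subtype_eq]
  have hc1 := Nat.card_congr (Equiv.ofBijective e he)
  have hV : Nat.card {v : V // v ≠ 0} = Nat.card V - 1 := by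
    haveI := Fintype.ofFinite V
    classical
    rw [Nat.card_eq_fintype_card, Nat.card_eq_fintype_card, Fintype.card_subtype_compl,
      Fintype.card_subtype_eq]
  haveI : Fintype S := Fintype.ofFinite S
  rw [Nat.card_sigma, Finset.sum_congr rfl (g := fun _ => q ^ r - 1) (fun s _ => by
      rw [hcard, Module.natCard_eq_pow_finrank (K := ZMod q), Nat.card_zmod,
        show Module.finrank (ZMod q) (P (s : G)) = r by
          have := hhalf s; have := hhalf t; omega]),
    Finset.sum_const, Finset.card_univ, smul_eq_mul, hV, Module.natCard_eq_pow_finrank (K := ZMod q),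
    Nat.card_zmod, ← hhalf t] at hc1
  rw [Nat.card_eq_fintype_card]
  have hr1 : 2 ≤ q ^ r := by
    refine le_trans hq.two_le (Nat.le_self_pow ?_ q)
    intro h0
    have h1 := hhalf t
    have : 0 < Module.finrank (ZMod q) V := Module.finrank_pos
    omega
  have hsq : q ^ (2 * r) - 1 = (q ^ r + 1) * (q ^ r - 1) := by
    rw [pow_mul', ← Nat.sq_sub_sq, one_pow]
  exact Nat.eq_of_mul_eq_mul_right (show 0 < q ^ r - 1 by omega) (hc1.trans hsq)

end Cfsg.Agent.S3381
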