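import Cfsg.Statements.S3382
import Mathlib

set_option autoImplicit false
open Cfsg

namespace Cfsg.Agent.S3382

section

variable {T : Type*} [Group T]

/-- An automorphism fixing an abelian index-two subgroup pointwise has order dividing its exponent. -/
lemma pow_eq_one_of_fix {φ : MulAut T} {w : T} {P : T → Prop} {N : ℕ}
    (hdec : ∀ t, P t ∨ P (w⁻¹ * t)) (hfix : ∀ t, P t → φ t = t) (hw : ¬ P w)
    (hexp : ∀ t, P t → t ^ N = 1) : φ ^ N = 1 := by
  have hd : P (w⁻¹ * φ w) := by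
    rcases hdec (φ w) with h | h
    · exact absurd (φ.injective (hfix _ h) ▸ h) hw
    · exact h
  have hk : ∀ k : ℕ, (φ ^ k) w = w * (w⁻¹ * φ w) ^ k ∧ ∀ t, P t → (φ ^ k) t = t := by
    intro k
    induction k with
    | zero => simp
    | succ k ih =>
      refine ⟨?_, fun t ht => ?_⟩
      · calc (φ ^ (k + 1)) w = (φ ^ k) (w * (w⁻¹ * φ w)) := by
              rw [pow_succ, MulAut.mul_apply, mul_inv_cancel_left]
          _ = _ := by rw [map_mul, ih.1, ih.2 _ hd, pow_succ, mul_assoc]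
      · rw [pow_succ, MulAut.mul_apply, hfix t ht, ih.2 t ht]
  ext t
  rcases hdec t with h | h
  · rw [(hk N).2 t h]; rfl
  · rw [← mul_inv_cancel_left w t, map_mul, (hk N).1, (hk N).2 _ h, hexp _ hd, mul_one]
    rfl

end

variable {q : ℕ}


/-- `f` is diagonal with entries `x`, `y`. -/
def IsD (f : (Fin 2 → ZMod q) ≃ₗ[ZMod q] (Fin 2 → ZMod q)) (x y : ZMod q) : Prop :=
  ∀ v, f v = ![x * v 0, y * v 1]

/-- `f` interchanges the two axes, with entries `x`, `y`. -/
def IsW (f : (Fin 2 → ZMod q) ≃ₗ[ZMod q] (Fin 2 → ZMod q)) (x y : ZMod q) : Prop :=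
  ∀ v, f v = ![y * v 1, x * v 0]

variable {f g : (Fin 2 → ZMod q) ≃ₗ[ZMod q] (Fin 2 → ZMod q)} {x y x' y' : ZMod q}

lemma IsD.mul (hf : IsD f x y) (hg : IsD g x' y') : IsD (f * g) (x * x') (y * y') := fun v => by
  show f (g v) = _
  rw [hg, hf]; simp [mul_assoc]

lemma IsD.ext (hf : IsD f x y) (hg : IsD g x y) : f = g :=
  LinearEquiv.ext fun v => by rw [hf, hg]

lemma IsW.ext (hf : IsW f x y) (hg : IsW g x y) : f = g :=
  LinearEquiv.ext fun v => by rw [hf, hg]

lemma IsD.one : IsD (1 : (Fin 2 → ZMod q) ≃ₗ[ZMod q] (Fin 2 → ZMod q)) 1 1 := fun v => by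
  show v = _
  ext i; fin_cases i <;> simp

lemma IsD.pow (hf : IsD f x y) : ∀ k : ℕ, IsD (f ^ k) (x ^ k) (y ^ k)
  | 0 => by simpa using IsD.one
  | k + 1 => by simpa [pow_succ] using (hf.pow k).mul hf

lemma IsD.inj (hf : IsD f x y) (hg : IsD f x' y') : x = x' ∧ y = y' := by
  constructor
  · simpa using congr_fun ((hf ![1, 0]).symm.trans (hg ![1, 0])) 0
  · simpa using congr_fun ((hf ![0, 1]).symm.trans (hg ![0, 1])) 1

lemma IsW.mul_isW (hf : IsW f x y) (hg : IsW g x' y') : IsD (f * g) (y * x') (x * y') := fun v => by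
  show f (g v) = _
  rw [hg, hf]; simp [mul_assoc]

lemma IsW.mul_isD (hf : IsW f x y) (hg : IsD g x' y') : IsW (f * g) (x * x') (y * y') := fun v => by
  show f (g v) = _
  rw [hg, hf]; simp [mul_assoc]

lemma IsW.sq (hf : IsW f x y) : IsD (f ^ 2) (x * y) (x * y) := by
  have := hf.mul_isW hf
  rwa [mul_comm y x, ← pow_two] at this

lemma eq_one_of_ne_zero_two : ∀ a : ZMod 2, a ≠ 0 → a = 1 := by decide

lemma eq_one_or_of_ne_zero_three : ∀ a : ZMod 3, a ≠ 0 → a = 1 ∨ a = -1 := by decide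

lemma neg_one_ne_one_three : (-1 : ZMod 3) ≠ 1 := by decide

lemma not_isD_isW (hf : IsD f x y) (hg : IsW f x' y') (hx : x ≠ 0) : False := by
  apply hx
  simpa using congr_fun ((hf ![1, 0]).symm.trans (hg ![1, 0])) 0

/-- Let q = 2^m + 1 be a prime other than 5. Then the automorphism group of the group of linear maps of F_q² of the forms (x, y) ↦ (a x, ± a⁻¹ y) and (x, y) ↦ (± a⁻¹ y, a x) with a ≠ 0 is itself a 2-group. -/
theorem result (q m : ℕ) [Fact q.Prime] (hq : q = 2 ^ m + 1) (hq5 : q ≠ 5)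
    (T : Subgroup ((Fin 2 → ZMod q) ≃ₗ[ZMod q] (Fin 2 → ZMod q)))
    (hT : ∀ f, f ∈ T ↔ ∃ a s : ZMod q, a ≠ 0 ∧ (s = 1 ∨ s = -1) ∧
      ((∀ v, f v = ![a * v 0, s * a⁻¹ * v 1]) ∨ (∀ v, f v = ![s * a⁻¹ * v 1, a * v 0]))) :
    IsPGroup 2 (MulAut T) := by
  have hrep : ∀ t : T, ∃ x y : ZMod q, x ≠ 0 ∧ (x * y = 1 ∨ x * y = -1) ∧
      (IsD (t : (Fin 2 → ZMod q) ≃ₗ[ZMod q] (Fin 2 → ZMod q)) x y ∨ IsW (t : (Fin 2 → ZMod q) ≃ₗ[ZMod q] (Fin 2 → ZMod q)) x y) := by
    intro t
    obtain ⟨a, s, ha, hs, h⟩ := (hT _).1 t.2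
    refine ⟨a, s * a⁻¹, ha, ?_, h⟩
    have e : a * (s * a⁻¹) = s := by field_simp
    rwa [e]
  have hmk : ∀ x y : ZMod q, x * y = 1 ∨ x * y = -1 →
      (∃ t : T, IsD (t : (Fin 2 → ZMod q) ≃ₗ[ZMod q] (Fin 2 → ZMod q)) x y) ∧ ∃ t : T, IsW (t : (Fin 2 → ZMod q) ≃ₗ[ZMod q] (Fin 2 → ZMod q)) x y := by
    intro x y h
    have hx : x ≠ 0 := by rintro rfl; simp at h
    have hy : y ≠ 0 := by rintro rfl; simp at h
    let D : (Fin 2 → ZMod q) ≃ₗ[ZMod q] (Fin 2 → ZMod q) :=
      { toFun := fun v => ![x * v 0, y * v 1]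
        invFun := fun v => ![x⁻¹ * v 0, y⁻¹ * v 1]
        map_add' := fun u v => by ext i; fin_cases i <;> simp [mul_add]
        map_smul' := fun c v => by ext i; fin_cases i <;> simp [mul_left_comm]
        left_inv := fun v => by ext i; fin_cases i <;> simp [hx, hy]
        right_inv := fun v => by ext i; fin_cases i <;> simp [hx, hy] }
    let W : (Fin 2 → ZMod q) ≃ₗ[ZMod q] (Fin 2 → ZMod q) :=
      { toFun := fun v => ![y * v 1, x * v 0]
        invFun := fun v => ![x⁻¹ * v 1, y⁻¹ * v 0]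
        map_add' := fun u v => by ext i; fin_cases i <;> simp [mul_add]
        map_smul' := fun c v => by ext i; fin_cases i <;> simp [mul_left_comm]
        left_inv := fun v => by ext i; fin_cases i <;> simp [hx, hy]
        right_inv := fun v => by ext i; fin_cases i <;> simp [hx, hy] }
    have e : x * y * x⁻¹ = y := by field_simp
    exact ⟨⟨⟨D, (hT D).2 ⟨x, x * y, hx, h, Or.inl fun v => by rw [e]; rfl⟩⟩, fun v => rfl⟩,
      ⟨W, (hT W).2 ⟨x, x * y, hx, h, Or.inr fun v => by rw [e]; rfl⟩⟩, fun v => rfl⟩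
  obtain ⟨w, hw⟩ := (hmk 1 1 (Or.inl (one_mul 1))).2
  let P : T → Prop := fun t => ∃ x y, x ≠ 0 ∧ (x * y = 1 ∨ x * y = -1) ∧
    IsD (t : (Fin 2 → ZMod q) ≃ₗ[ZMod q] (Fin 2 → ZMod q)) x y
  have hwP : ¬ P w := fun ⟨x, y, hx, _, h⟩ => not_isD_isW h hw hx
  have hww : w⁻¹ = w := inv_eq_of_mul_eq_one_right (Subtype.ext
    ((hw.mul_isW hw).ext (by simpa using IsD.one)))
  have hdec : ∀ t, P t ∨ P (w⁻¹ * t) := by
    intro t
    obtain ⟨x, y, hx, hxy, h | h⟩ := hrep t
    · exact Or.inl ⟨x, y, hx, hxy, h⟩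
    · refine Or.inr ⟨x, y, hx, hxy, ?_⟩
      rw [hww]
      simpa using hw.mul_isW h
  intro φ
  rcases Nat.lt_or_ge m 2 with hm | hm
  · interval_cases m
    · -- `q = 2`
      have hq2 : q = 2 := by simpa using hq
      subst hq2
      refine ⟨0, ?_⟩
      rw [pow_zero, pow_one]
      ext t : 1
      have h1 : ∀ t : T, t = 1 ∨ t = w := by
        intro t
        have h01 := eq_one_of_ne_zero_two
        obtain ⟨x, y, hx, hxy, h⟩ := hrep t
        obtain rfl := h01 x hx
        have hy : y = 1 := h01 y (by rintro rfl; simp at hxy)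
        subst hy
        rcases h with h | h
        · exact Or.inl (Subtype.ext (h.ext IsD.one))
        · exact Or.inr (Subtype.ext (h.ext hw))
      rcases h1 t with h0 | h0 <;> subst t
      · simp
      · rcases h1 (φ w) with h | h
        · exfalso
          exact hwP ⟨1, 1, one_ne_zero, Or.inl (one_mul 1), by
            rw [φ.injective (h.trans (map_one φ).symm)]; exact IsD.one⟩
        · simpa using h
    · -- `q = 3`
      have hq3 : q = 3 := by simpa using hq
      subst hq3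
      have h31 := eq_one_or_of_ne_zero_three
      obtain ⟨r, hr⟩ := (hmk 1 (-1) (Or.inr (one_mul _))).2
      let C : T → Prop := fun t => t = 1 ∨ t = r ∨ t = r ^ 2 ∨ t = r ^ 3
      have hr2D : IsD ((r ^ 2 : T) : (Fin 2 → ZMod 3) ≃ₗ[ZMod 3] (Fin 2 → ZMod 3)) (-1) (-1) := by simpa using hr.sq
      have hr4 : r ^ 4 = 1 := Subtype.ext (by
        rw [show (4 : ℕ) = 2 * 2 by rfl, pow_mul, SubmonoidClass.coe_pow]
        exact (hr2D.pow 2).ext (by simpa using IsD.one))
      have hr3W : IsW ((r ^ 3 : T) : (Fin 2 → ZMod 3) ≃ₗ[ZMod 3] (Fin 2 → ZMod 3)) (-1) 1 := by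
        rw [pow_succ', Subgroup.coe_mul]; simpa using hr.mul_isD hr2D
      have hsq : ∀ t : T, t ^ 2 ≠ 1 → t = r ∨ t = r ^ 3 := by
        intro t ht
        obtain ⟨x, y, hx, hxy, h | h⟩ := hrep t
        · refine absurd (Subtype.ext ?_) ht
          rw [SubmonoidClass.coe_pow]
          have hy : y ≠ 0 := by rintro rfl; simp at hxy
          refine (h.pow 2).ext ?_
          rcases h31 x hx with rfl | rfl <;> rcases h31 y hy with rfl | rfl <;>
            simpa using IsD.one
        · have hy : y ≠ 0 := by rintro rfl; simp at hxy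
          rcases h31 x hx with rfl | rfl <;> rcases h31 y hy with rfl | rfl
          · refine absurd (Subtype.ext ?_) ht
            rw [SubmonoidClass.coe_pow]; exact h.sq.ext (by simpa using IsD.one)
          · exact Or.inl (Subtype.ext (h.ext hr))
          · exact Or.inr (Subtype.ext (h.ext hr3W))
          · refine absurd (Subtype.ext ?_) ht
            rw [SubmonoidClass.coe_pow]; exact h.sq.ext (by simpa using IsD.one)
      have hr2 : r ^ 2 ≠ 1 := by
        intro h
        have h' : IsD ((r ^ 2 : T) : (Fin 2 → ZMod 3) ≃ₗ[ZMod 3] (Fin 2 → ZMod 3)) 1 1 := by rw [h]; exact IsD.one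
        exact absurd (hr2D.inj h').1 neg_one_ne_one_three
      have hfixr : (φ ^ 2) r = r := by
        have h := hsq (φ r) (fun h => hr2 (φ.injective (by rw [map_pow, h, map_one])))
        rw [pow_two, MulAut.mul_apply]
        rcases h with h | h
        · rw [h, h]
        · rw [h, map_pow, h, ← pow_mul, show 3 * 3 = 4 * 2 + 1 by rfl, pow_succ, pow_mul, hr4,
            one_pow, one_mul]
      have hfix : ∀ t, C t → (φ ^ 2) t = t := by
        rintro t (rfl | rfl | rfl | rfl) <;> simp [hfixr]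
      have hdec' : ∀ t, C t ∨ C (w⁻¹ * t) := by
        intro t
        obtain ⟨x, y, hx, hxy, h | h⟩ := hrep t
        · have hy : y ≠ 0 := by rintro rfl; simp at hxy
          have h' : IsW ((w⁻¹ * t : T) : (Fin 2 → ZMod 3) ≃ₗ[ZMod 3] (Fin 2 → ZMod 3)) x y := by
            rw [hww]; simpa using hw.mul_isD h
          rcases h31 x hx with rfl | rfl <;> rcases h31 y hy with rfl | rfl
          · exact Or.inl (Or.inl (Subtype.ext (h.ext IsD.one)))
          · exact Or.inr (Or.inr (Or.inl (Subtype.ext (h'.ext hr))))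
          · exact Or.inr (Or.inr (Or.inr (Or.inr (Subtype.ext (h'.ext hr3W)))))
          · exact Or.inl (Or.inr (Or.inr (Or.inl (Subtype.ext (h.ext hr2D)))))
        · have hy : y ≠ 0 := by rintro rfl; simp at hxy
          have h' : IsD ((w⁻¹ * t : T) : (Fin 2 → ZMod 3) ≃ₗ[ZMod 3] (Fin 2 → ZMod 3)) x y := by
            rw [hww]; simpa using hw.mul_isW h
          rcases h31 x hx with rfl | rfl <;> rcases h31 y hy with rfl | rfl
          · exact Or.inr (Or.inl (Subtype.ext (h'.ext IsD.one)))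
          · exact Or.inl (Or.inr (Or.inl (Subtype.ext (h.ext hr))))
          · exact Or.inl (Or.inr (Or.inr (Or.inr (Subtype.ext (h.ext hr3W)))))
          · exact Or.inr (Or.inr (Or.inr (Or.inl (Subtype.ext (h'.ext hr2D)))))
      have hwC : ¬ C w := by
        rintro (h | h | h | h)
        · exact hwP ⟨1, 1, one_ne_zero, Or.inl (one_mul 1), by rw [h]; exact IsD.one⟩
        · have := hw ![0, 1]; rw [h, hr ![0, 1]] at this
          exact absurd (by simpa using congr_fun this 0) neg_one_ne_one_three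
        · exact hwP ⟨-1, -1, by simp, Or.inl (by simp), by rw [h]; exact hr2D⟩
        · have := hw ![1, 0]; rw [h, hr3W ![1, 0]] at this
          exact absurd (by simpa using congr_fun this 1) neg_one_ne_one_three
      refine ⟨3, ?_⟩
      rw [show (2 : ℕ) ^ 3 = 2 * 4 by rfl, pow_mul]
      refine pow_eq_one_of_fix hdec' hfix hwC ?_
      rintro t (rfl | rfl | rfl | rfl)
      · simp
      · exact hr4
      · rw [← pow_mul, mul_comm, pow_mul, hr4, one_pow]
      · rw [← pow_mul, mul_comm, pow_mul, hr4, one_pow]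
  · -- `8 ≤ 2 ^ m`
    have hm3 : 3 ≤ m := by
      rcases hm.lt_or_eq with h | h
      · exact h
      · subst h; exact absurd hq (by simpa using hq5)
    have h8 : 8 ≤ 2 ^ m := le_trans (by norm_num) (Nat.pow_le_pow_right two_pos hm3)
    have hne : (-1 : ZMod q) ≠ 1 := by
      intro h
      haveI : Fact (2 < q) := ⟨by omega⟩
      exact ZMod.neg_one_ne_one h
    obtain ⟨g, hg⟩ := IsCyclic.exists_generator (α := (ZMod q)ˣ)
    have hgord : orderOf g = 2 ^ m := by
      rw [orderOf_eq_card_of_forall_mem_zpowers hg, Nat.card_eq_fintype_card, ZMod.card_units]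
      omega
    have hgpow : ∀ x : ZMod q, x ≠ 0 → ∃ i : ℕ, (g : ZMod q) ^ i = x := by
      intro x hx
      obtain ⟨i, hi⟩ := (Submonoid.mem_powers_iff _ _).1
        ((mem_powers_iff_mem_zpowers).2 (hg (Units.mk0 x hx)))
      exact ⟨i, by simpa using congrArg Units.val hi⟩
    have hg0 : (g : ZMod q) ≠ 0 := g.ne_zero
    have hgm : (g : ZMod q) ^ 2 ^ m = 1 := by
      rw [← Units.val_pow_eq_pow_val, ← hgord, pow_orderOf_eq_one, Units.val_one]
    obtain ⟨c, hc⟩ := (hmk g (g : ZMod q)⁻¹ (Or.inl (mul_inv_cancel₀ hg0))).1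
    obtain ⟨e, he⟩ := (hmk 1 (-1) (Or.inr (one_mul _))).1
    obtain ⟨z, hz⟩ := (hmk (-1) (-1) (Or.inl (by ring))).1
    have hPmul : ∀ s t, P s → P t → P (s * t) := by
      rintro s t ⟨x, y, hx, hxy, h⟩ ⟨x', y', hx', hxy', h'⟩
      refine ⟨x * x', y * y', mul_ne_zero hx hx', ?_, h.mul h'⟩
      rw [mul_mul_mul_comm]
      rcases hxy with h1 | h1 <;> rcases hxy' with h2 | h2 <;> rw [h1, h2] <;> simp
    have hPone : P 1 := ⟨1, 1, one_ne_zero, Or.inl (one_mul 1), IsD.one⟩
    have hPpow : ∀ s, P s → ∀ k : ℕ, P (s ^ k) := fun s hs k => by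
      induction k with
      | zero => simpa using hPone
      | succ k ih => rw [pow_succ]; exact hPmul _ _ ih hs
    have hPsq : ∀ v : T, P (v ^ 2) := by
      intro v
      rw [pow_two]
      obtain ⟨x, y, hx, hxy, h | h⟩ := hrep v
      · exact hPmul _ _ ⟨x, y, hx, hxy, h⟩ ⟨x, y, hx, hxy, h⟩
      · refine ⟨x * y, x * y, ?_, ?_, by simpa [pow_two] using h.sq⟩
        · rcases hxy with h1 | h1 <;> rw [h1] <;> simp
        · rcases hxy with h1 | h1 <;> rw [h1] <;> simp
    have hP4 : ∀ t : T, t ^ 4 ≠ 1 → P t := by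
      intro t ht
      obtain ⟨x, y, hx, hxy, h | h⟩ := hrep t
      · exact ⟨x, y, hx, hxy, h⟩
      · refine absurd (Subtype.ext ?_) ht
        rw [SubmonoidClass.coe_pow, show (4 : ℕ) = 2 * 2 by rfl, pow_mul]
        exact (h.sq.pow 2).ext (by rcases hxy with h1 | h1 <;> rw [h1] <;> simpa using IsD.one)
    have hPimg : ∀ (d : T) y, IsD (d : (Fin 2 → ZMod q) ≃ₗ[ZMod q] (Fin 2 → ZMod q)) g y → ∀ ψ : MulAut T, P (ψ d) := by
      intro d y hd ψ
      refine hP4 _ fun h => ?_
      have h1 : d ^ 4 = 1 := ψ.injective (by rw [map_pow, h, map_one])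
      have h' : IsD ((d : (Fin 2 → ZMod q) ≃ₗ[ZMod q] (Fin 2 → ZMod q)) ^ 4) 1 1 := by
        rw [← SubmonoidClass.coe_pow, h1]; exact IsD.one
      have hg4 : g ^ 4 = 1 := Units.ext (by simpa using ((hd.pow 4).inj h').1)
      have hle := Nat.le_of_dvd (by norm_num) (orderOf_dvd_of_pow_eq_one hg4)
      omega
    have hgen : ∀ t, P t → ∃ i j : ℕ, t = c ^ i * e ^ j := by
      rintro t ⟨x, y, hx, hxy, h⟩
      obtain ⟨i, hi⟩ := hgpow x hx
      have hb : ((g : ZMod q)⁻¹) ^ i = x⁻¹ := by rw [inv_pow, hi]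
      rcases hxy with h1 | h1
      · refine ⟨i, 0, Subtype.ext (h.ext ?_)⟩
        simp only [pow_zero, mul_one, SubmonoidClass.coe_pow]
        have := hc.pow i
        rwa [hi, hb, ← eq_inv_of_mul_eq_one_right h1] at this
      · refine ⟨i, 1, Subtype.ext (h.ext ?_)⟩
        simp only [pow_one, Subgroup.coe_mul, SubmonoidClass.coe_pow]
        have := (hc.pow i).mul he
        rw [hi, hb, mul_one, mul_neg_one] at this
        have hy : y = -x⁻¹ := by
          field_simp
          linear_combination h1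
        rwa [hy]
    have hcm : c ^ 2 ^ m = 1 := Subtype.ext (by
      rw [SubmonoidClass.coe_pow]
      exact (hc.pow _).ext (by rw [inv_pow, hgm]; simpa using IsD.one))
    have he2 : e ^ 2 = 1 := Subtype.ext (by
      rw [SubmonoidClass.coe_pow]; exact (he.pow 2).ext (by simpa using IsD.one))
    have hz2 : z ^ 2 = 1 := Subtype.ext (by
      rw [SubmonoidClass.coe_pow]; exact (hz.pow 2).ext (by simpa using IsD.one))
    have hnsq : ∀ v : T, v ^ 2 ≠ e ∧ v ^ 2 ≠ z * e := by
      intro v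
      have key : ∀ a b : ZMod q, a * b = -1 → IsD ((v : (Fin 2 → ZMod q) ≃ₗ[ZMod q] (Fin 2 → ZMod q)) ^ 2) a b → a ≠ b →
          False := by
        intro a b hab hE hne'
        obtain ⟨x, y, hx, hxy, h | h⟩ := hrep v
        · obtain ⟨e1, e2⟩ := (h.pow 2).inj hE
          have e3 : (x * y) ^ 2 = -1 := by rw [mul_pow, e1, e2, hab]
          rcases hxy with h1 | h1 <;> rw [h1] at e3 <;> simp at e3 <;> exact hne e3.symm
        · obtain ⟨e1, e2⟩ := h.sq.inj hE
          exact hne' (e1.symm.trans e2)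
      constructor <;> intro h
      · exact key 1 (-1) (one_mul _) (by rw [← SubmonoidClass.coe_pow, h]; exact he) hne.symm
      · refine key (-1) 1 (mul_one _) ?_ hne
        rw [← SubmonoidClass.coe_pow, h]; simpa using hz.mul he
    obtain ⟨u, hu⟩ : ∃ u : T, u ^ 2 = z := by
      obtain ⟨i, hi⟩ := hgpow (-1) (neg_ne_zero.2 one_ne_zero)
      rcases Nat.even_or_odd i with ⟨j, rfl⟩ | hodd
      · refine ⟨c ^ j, Subtype.ext ?_⟩
        rw [SubmonoidClass.coe_pow, SubmonoidClass.coe_pow, ← pow_mul, mul_two]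
        refine (hc.pow (j + j)).ext ?_
        rw [inv_pow, hi]
        simpa using hz
      · exfalso
        have h1 : (g : ZMod q) ^ (i * 2) = 1 := by rw [pow_mul, hi]; simp
        have h2 : g ^ (i * 2) = 1 := Units.ext (by simpa using h1)
        have h3 := orderOf_dvd_of_pow_eq_one h2
        rw [hgord] at h3
        have h4 : 2 * 2 ∣ i * 2 := dvd_trans (pow_dvd_pow 2 (show 2 ≤ m by omega)) h3
        obtain ⟨k, hk⟩ := hodd
        omega
    have hinv : ∀ t, P t → t ^ 2 = 1 → t = 1 ∨ t = z ∨ t = e ∨ t = z * e := by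
      rintro t ⟨x, y, -, -, h⟩ h2
      have h' : IsD ((t : (Fin 2 → ZMod q) ≃ₗ[ZMod q] (Fin 2 → ZMod q)) ^ 2) 1 1 := by
        rw [← SubmonoidClass.coe_pow, h2]; exact IsD.one
      obtain ⟨hx2, hy2⟩ := (h.pow 2).inj h'
      rcases sq_eq_one_iff.1 hx2 with rfl | rfl <;> rcases sq_eq_one_iff.1 hy2 with rfl | rfl
      · exact Or.inl (Subtype.ext (h.ext IsD.one))
      · exact Or.inr (Or.inr (Or.inl (Subtype.ext (h.ext he))))
      · refine Or.inr (Or.inr (Or.inr (Subtype.ext (h.ext ?_))))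
        simpa using hz.mul he
      · exact Or.inr (Or.inl (Subtype.ext (h.ext hz)))
    have hz1 : z ≠ 1 := fun h => by
      have h' : IsD (z : (Fin 2 → ZMod q) ≃ₗ[ZMod q] (Fin 2 → ZMod q)) 1 1 := by rw [h]; exact IsD.one
      exact hne (hz.inj h').1
    have hze : ∀ ψ : MulAut T, (ψ e = e ∨ ψ e = z * e) ∧ ψ z = z := by
      intro ψ
      have hψz : ψ z = (ψ u) ^ 2 := by rw [← map_pow, hu]
      have hzf : ψ z = z := by
        rcases hinv _ (hψz ▸ hPsq _) (by rw [← map_pow, hz2, map_one]) with h | h | h | h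
        · exact absurd (ψ.injective (h.trans (map_one ψ).symm)) hz1
        · exact h
        · exact absurd (hψz.symm.trans h) (hnsq _).1
        · exact absurd (hψz.symm.trans h) (hnsq _).2
      refine ⟨?_, hzf⟩
      have hPe : P (ψ e) := by
        have e' : e = c ^ (2 ^ m - 1) * (c * e) := by
          rw [← mul_assoc, ← pow_succ, show 2 ^ m - 1 + 1 = 2 ^ m by omega, hcm, one_mul]
        rw [e', map_mul, map_pow]
        exact hPmul _ _ (hPpow _ (hPimg _ _ hc ψ) _)
          (hPimg (c * e) ((g : ZMod q)⁻¹ * -1) (by have h1 := hc.mul he; rw [mul_one] at h1; exact h1) ψ)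
      rcases hinv _ hPe (by rw [← map_pow, he2, map_one]) with h | h | h | h
      · exact absurd ((one_pow 2).trans (ψ.injective (h.trans (map_one ψ).symm)).symm) (hnsq 1).1
      · exact absurd (hu.trans (ψ.injective (h.trans hzf.symm)).symm) (hnsq u).1
      · exact Or.inl h
      · exact Or.inr h
    have hzz : z * z = 1 := by rw [← pow_two, hz2]
    have hαe : (φ ^ 2) e = e := by
      obtain ⟨h, h'⟩ := hze φ
      rw [pow_two, MulAut.mul_apply]
      rcases h with h | h
      · rw [h, h]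
      · rw [h, map_mul, h', h, ← mul_assoc, hzz, one_mul]
    obtain ⟨i, j, hij⟩ := hgen _ (hPimg _ _ hc (φ ^ 2))
    have hcomm : Commute c e := Subtype.ext ((hc.mul he).ext (by
      have h' := he.mul hc
      rwa [mul_comm (1 : ZMod q), mul_comm (-1 : ZMod q)] at h'))
    have hαk : ∀ k : ℕ, ((φ ^ 2) ^ k) e = e ∧
        ∃ j' : ℕ, ((φ ^ 2) ^ k) c = c ^ (i ^ k) * e ^ j' := by
      intro k
      induction k with
      | zero => exact ⟨rfl, 0, by simp⟩
      | succ k ih =>
        obtain ⟨ih1, j', ih2⟩ := ih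
        refine ⟨by rw [pow_succ, MulAut.mul_apply, hαe, ih1], j' * i + j, ?_⟩
        rw [pow_succ, MulAut.mul_apply, hij, map_mul, map_pow, map_pow, ih1, ih2,
          (hcomm.pow_pow _ _).mul_pow, ← pow_mul, ← pow_mul, mul_assoc, ← pow_add, pow_succ]
    have hexp : ∀ t, P t → t ^ 2 ^ m = 1 := by
      intro t ht
      obtain ⟨a, b, rfl⟩ := hgen t ht
      rw [(hcomm.pow_pow _ _).mul_pow, ← pow_mul, ← pow_mul, mul_comm a, mul_comm b, pow_mul,
        pow_mul e, hcm, one_pow, one_mul, show (2 : ℕ) ^ m = 2 * 2 ^ (m - 1) by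
          rw [← pow_succ', show m - 1 + 1 = m by omega], pow_mul, he2, one_pow, one_pow]
    have hi : Nat.Coprime i 2 := by
      by_contra h
      obtain ⟨k, hk⟩ : 2 ∣ i := by
        rw [Nat.coprime_two_right] at h
        exact (Nat.not_odd_iff_even.1 h).two_dvd
      have e1 : (φ ^ 2) c = (c ^ k) ^ 2 * e ^ j := by rw [hij, hk, mul_comm 2 k, pow_mul]
      have e2 : ((φ ^ 2) c) ^ 2 ^ (m - 1) = 1 := by
        rw [e1, ((hcomm.pow_pow k j).pow_left 2).mul_pow, ← pow_mul (c ^ k), ← pow_succ',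
          show m - 1 + 1 = m by omega, hexp _ (hPpow _ ⟨g, _, hg0, Or.inl (mul_inv_cancel₀ hg0),
            hc⟩ k), one_mul, show m - 1 = m - 2 + 1 by omega, pow_succ', ← pow_mul, ← mul_assoc,
          pow_mul, mul_comm j 2, pow_mul, he2, one_pow, one_pow]
      have h3 : c ^ 2 ^ (m - 1) = 1 := (φ ^ 2).injective (by rw [map_pow, e2, map_one])
      have h4 : g ^ 2 ^ (m - 1) = 1 := Units.ext (by
        have h' : IsD ((c : (Fin 2 → ZMod q) ≃ₗ[ZMod q] (Fin 2 → ZMod q)) ^ 2 ^ (m - 1)) 1 1 := by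
          rw [← SubmonoidClass.coe_pow, h3]; exact IsD.one
        simpa using ((hc.pow _).inj h').1)
      have h5 := orderOf_dvd_of_pow_eq_one h4
      rw [hgord] at h5
      have := Nat.le_of_dvd (by positivity) h5
      have : 2 ^ (m - 1) < 2 ^ m := Nat.pow_lt_pow_right (by norm_num) (by omega)
      omega
    obtain ⟨hβe, j', hβc⟩ := hαk (Nat.totient (2 ^ m))
    set β := (φ ^ 2) ^ Nat.totient (2 ^ m) with hβ
    have hmod : c ^ (i ^ Nat.totient (2 ^ m)) = c := by
      have := Nat.ModEq.pow_totient (Nat.Coprime.pow_right m hi)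
      conv_rhs => rw [← pow_one c]
      exact (pow_eq_pow_iff_modEq).2 (this.of_dvd (orderOf_dvd_of_pow_eq_one hcm))
    rw [hmod] at hβc
    have hγc : (β ^ 2) c = c := by
      rw [pow_two, MulAut.mul_apply, hβc, map_mul, map_pow, hβe, hβc, mul_assoc, ← pow_add,
        ← two_mul, pow_mul, he2, one_pow, mul_one]
    have hγe : (β ^ 2) e = e := by rw [pow_two, MulAut.mul_apply, hβe, hβe]
    have hfix : ∀ t, P t → (β ^ 2) t = t := by
      intro t ht
      obtain ⟨a, b, rfl⟩ := hgen t ht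
      rw [map_mul, map_pow, map_pow, hγc, hγe]
    refine ⟨1 + (m - 1) + 1 + m, ?_⟩
    have htot : Nat.totient (2 ^ m) = 2 ^ (m - 1) := by
      rw [Nat.totient_prime_pow Nat.prime_two (by omega)]; simp
    rw [pow_add 2, pow_mul, pow_add, pow_mul, pow_add, pow_mul, pow_one, ← htot]
    exact pow_eq_one_of_fix hdec hfix hwP hexp

end Cfsg.Agent.S3382
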