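import Cfsg.Statements.S3383

set_option autoImplicit false
open Cfsg

namespace Cfsg.Agent.S3383

open Pointwise

/-- Let H be a Frobenius complement in a finite group L and K the Frobenius kernel (as a subgroup). Then K is characteristic in L, and every normal subgroup of L either contains K or is contained in K. -/
theorem result {L : Type*} [Group L] [Finite L]
    (H : Subgroup L) (hH : Cfsg.IsFrobeniusComplement H)
    (K : Subgroup L) (hK : (K : Set L) = Cfsg.frobeniusKernel H) :
    K.Characteristic ∧ ∀ N : Subgroup L, N.Normal → K ≤ N ∨ N ≤ K := by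
  have hnorm : K.Normal := by
    constructor
    intro x hx g
    rw [← SetLike.mem_coe, hK] at hx ⊢
    rcases hx with rfl | hx
    · left; group
    · right
      intro a ha
      apply hx (g⁻¹ * a)
      rw [Subgroup.mem_pointwise_smul_iff_inv_smul_mem] at ha ⊢
      simp only [MulAut.smul_def, MulAut.inv_def, MulAut.conj_symm_apply] at ha ⊢
      convert ha using 1
      group
  have hKH : ∀ x ∈ K, x ∈ H → x = 1 := by
    intro x hx hxH
    rw [← SetLike.mem_coe, hK] at hx
    rcases hx with rfl | hx
    · rfl
    · exfalso; apply hx 1; simpa using hxH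
  have hdich : ∀ N : Subgroup L, N.Normal → K ≤ N ∨ N ≤ K := by
    intro N hN
    by_contra hc
    push Not at hc
    obtain ⟨hc1, hc2⟩ := hc
    obtain ⟨x, hxN, hxK⟩ := SetLike.not_le_iff_exists.mp hc2
    rw [← SetLike.mem_coe, hK] at hxK
    simp only [Cfsg.frobeniusKernel, Set.mem_setOf_eq, not_or, not_forall, not_not] at hxK
    obtain ⟨hx1, g, hg⟩ := hxK
    rw [Subgroup.mem_pointwise_smul_iff_inv_smul_mem] at hg
    simp only [MulAut.smul_def, MulAut.inv_def, MulAut.conj_symm_apply] at hg
    let n := g⁻¹ * x * g
    have hnN : n ∈ N := by simpa [n] using hN.conj_mem x hxN g⁻¹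
    have hn1 : n ≠ 1 := by
      intro h; apply hx1
      calc x = g * n * g⁻¹ := by simp only [n]; group
        _ = 1 := by rw [h]; group
    let f : K → K := fun k => ⟨(k : L) * n * (k : L)⁻¹ * n⁻¹, by
      have := hnorm.conj_mem _ (K.inv_mem k.2) n
      have h := K.mul_mem k.2 this
      convert h using 1
      group⟩
    have hf : Function.Injective f := by
      intro a b hab
      have h : (a : L) * n * (a : L)⁻¹ = (b : L) * n * (b : L)⁻¹ := by
        simpa [f, Subtype.ext_iff] using hab
      let c := (b : L)⁻¹ * a
      have hcn : c * n * c⁻¹ = n := by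
        calc c * n * c⁻¹ = (b:L)⁻¹ * ((a : L) * n * (a : L)⁻¹) * b := by simp only [c]; group
          _ = n := by rw [h]; group
      have hcK : c ∈ K := K.mul_mem (K.inv_mem b.2) a.2
      have hcH : c ∈ H := by
        by_contra hcH
        have hh := hH.2.2 c hcH
        have : n ∈ H ⊓ (MulAut.conj c • H) := by
          rw [Subgroup.mem_inf]
          refine ⟨hg, ?_⟩
          rw [Subgroup.mem_pointwise_smul_iff_inv_smul_mem]
          simp only [MulAut.smul_def, MulAut.inv_def, MulAut.conj_symm_apply]
          have : c⁻¹ * n * c = n := by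
            conv_lhs => rw [← hcn]
            group
          rw [this]; exact hg
        rw [hh] at this
        exact hn1 this
      have := hKH c hcK hcH
      exact Subtype.ext (inv_mul_eq_one.mp this).symm
    apply hc1
    intro y hy
    obtain ⟨k, hk⟩ := (Finite.injective_iff_surjective.mp hf) ⟨y, hy⟩
    have : y = (k : L) * n * (k : L)⁻¹ * n⁻¹ := (congrArg Subtype.val hk).symm
    rw [this]
    exact N.mul_mem (hN.conj_mem n hnN k) (N.inv_mem hnN)
  refine ⟨?_, hdich⟩
  rw [Subgroup.characteristic_iff_map_eq]
  intro φ
  have hn' : (K.map φ.toMonoidHom).Normal := hnorm.map _ φ.surjective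
  have hcard : Nat.card (K.map φ.toMonoidHom) = Nat.card K :=
    (Nat.card_congr (K.equivMapOfInjective φ.toMonoidHom φ.injective).toEquiv).symm
  rcases hdich _ hn' with h | h
  · exact (Subgroup.eq_of_le_of_card_ge h hcard.le).symm
  · exact Subgroup.eq_of_le_of_card_ge h hcard.ge

end Cfsg.Agent.S3383
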