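import Cfsg.Statements.S3389

set_option autoImplicit false
open Cfsg

namespace Cfsg.Agent.S3389

/-- Let G be a finite group acting faithfully and transitively on a finite set Ω with fixity k ≥ 1: every non-identity element fixes at most k points and some non-identity element fixes exactly k points. Then |Z(G)| divides k; if k = 2 then |G| is even; and for every prime p > k dividing |G| and every point α, either p does not divide |G_α| or G_α contains a Sylow p-subgroup of G. -/
theorem result {G : Type*} [Group G] [Finite G] {Ω : Type*} [Fintype Ω] [MulAction G Ω] [FaithfulSMul G Ω]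
    (htr : MulAction.IsPretransitive G Ω) (k : ℕ) (hk : 1 ≤ k)
    (hfix : ∀ g : G, g ≠ 1 → Nat.card (MulAction.fixedBy Ω g) ≤ k) (hex : ∃ g : G, g ≠ 1 ∧ Nat.card (MulAction.fixedBy Ω g) = k) :
    Nat.card (Subgroup.center G) ∣ k ∧ (k = 2 → 2 ∣ Nat.card G) ∧
      ∀ (p : ℕ), p.Prime → k < p → p ∣ Nat.card G → ∀ α : Ω,
        ¬ p ∣ Nat.card (MulAction.stabilizer G α) ∨ ¬ p ∣ (MulAction.stabilizer G α).index := by
  classical
  have hstabmul : ∀ (g : G) (ω : Ω), g ∈ MulAction.stabilizer G ω ↔ g • ω = ω := fun g ω => MulAction.mem_stabilizer_iff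
  -- central elements fixing a point are trivial
  have hZfree : ∀ z ∈ Subgroup.center G, ∀ ω : Ω, z • ω = ω → z = 1 := by
    intro z hz ω hω
    apply FaithfulSMul.eq_of_smul_eq_smul (α := Ω)
    intro x
    obtain ⟨y, rfl⟩ := htr.exists_smul_eq ω x
    rw [one_smul, smul_smul, ← Subgroup.mem_center_iff.mp hz y, ← smul_smul, hω]
  refine ⟨?_, ?_, ?_⟩
  · obtain ⟨g, hg1, hgk⟩ := hex
    let Z := Subgroup.center G
    letI : MulAction Z (MulAction.fixedBy Ω g) :=
      { smul := fun z x => ⟨(z : G) • (x : Ω), by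
          have hx : g • (x : Ω) = x := x.2
          change g • ((z : G) • (x : Ω)) = (z : G) • (x : Ω)
          rw [smul_smul, Subgroup.mem_center_iff.mp z.2 g, ← smul_smul, hx]⟩
        one_smul := fun x => Subtype.ext (by change ((1 : Z) : G) • (x : Ω) = x; simp)
        mul_smul := fun a b x => Subtype.ext (by
          change ((a * b : Z) : G) • (x : Ω) = (a : G) • (b : G) • (x : Ω); simp [mul_smul]) }
    have hfree : ∀ x : MulAction.fixedBy Ω g, MulAction.stabilizer Z x = ⊥ := by
      intro x
      rw [eq_bot_iff]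
      intro z hz
      rw [Subgroup.mem_bot]
      have : (z : G) • (x : Ω) = x := congrArg Subtype.val hz
      exact Subtype.ext (hZfree z z.2 x this)
    have := Nat.card_congr (MulAction.selfEquivOrbitsQuotientProd hfree)
    rw [Nat.card_prod, hgk] at this
    exact ⟨_, by rw [this, mul_comm]⟩
  · intro hk2
    subst hk2
    by_contra hodd
    obtain ⟨g, hg1, hg2⟩ := hex
    obtain ⟨⟨α, hα⟩, ⟨β, hβ⟩, hne, hall⟩ := Nat.card_eq_two_iff.mp hg2
    have hαβ : α ≠ β := fun h => hne (Subtype.ext h)
    obtain ⟨x, hx⟩ := htr.exists_smul_eq β α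
    -- no element swaps two points
    have hswap : ∀ y : G, ∀ a b : Ω, y • a = b → y • b = a → a = b := by
      intro y a b h1 h2
      have hy2 : y ^ 2 ∈ MulAction.stabilizer G a := by
        rw [hstabmul, pow_two, mul_smul, h1, h2]
      have hcop : Nat.Coprime 2 (orderOf y) := (Nat.prime_two.coprime_iff_not_dvd).mpr
        (fun h => hodd (h.trans (orderOf_dvd_natCard y)))
      obtain ⟨j, hj⟩ := exists_pow_eq_self_of_coprime hcop
      have : y ∈ MulAction.stabilizer G a := by
        rw [← hj]; exact Subgroup.pow_mem _ hy2 j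
      rw [← h1]; exact ((hstabmul _ _).mp this).symm
    let A := MulAction.stabilizer G α
    set γ := x • α with hγ
    -- the two suborbits
    have hdisj : ∀ a : G, a ∈ A → a • β ≠ γ := by
      intro a ha h
      apply hαβ
      apply hswap (a⁻¹ * x) α β
      · rw [mul_smul, ← hγ, ← h, inv_smul_smul]
      · rw [mul_smul, hx, inv_smul_eq_iff]; exact ((hstabmul _ _).mp ha).symm
    have hβA : ∃ u : A, u ≠ 1 ∧ (u : G) • β = β :=
      ⟨⟨g, hα⟩, fun h => hg1 (congrArg Subtype.val h), hβ⟩
    have hγA : ∃ u : A, u ≠ 1 ∧ (u : G) • γ = γ := by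
      refine ⟨⟨x * g * x⁻¹, ?_⟩, ?_, ?_⟩
      · rw [hstabmul, mul_smul, mul_smul]
        nth_rewrite 1 [← hx]
        rw [inv_smul_smul, show g • β = β from hβ, hx]
      · intro h
        apply hg1
        have h' : x * g * x⁻¹ = 1 := congrArg Subtype.val h
        simpa using (mul_inv_eq_one.mp h')
      · change (x * g * x⁻¹) • γ = γ
        rw [hγ, smul_smul, inv_mul_cancel_right, mul_smul, show g • α = α from hα]
    have hγα : γ ≠ α := by
      intro h
      have : x⁻¹ • α = α := by rw [inv_smul_eq_iff]; exact h.symm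
      rw [← hx, inv_smul_smul] at this
      rw [hx] at this
      exact hαβ this.symm
    have key : ∀ δ : Ω, (∃ u : A, u ≠ 1 ∧ (u : G) • δ = δ) →
        2 * Nat.card (MulAction.orbit A δ) ≤ Nat.card A := by
      intro δ ⟨u, hu, hfixu⟩
      have h2 : 2 ≤ Nat.card (MulAction.stabilizer A δ) := by
        rw [Nat.succ_le_iff, Finite.one_lt_card_iff_nontrivial]
        exact ⟨⟨u, hfixu⟩, 1, fun h => hu (congrArg Subtype.val h)⟩
      have h3 := Nat.card_congr (MulAction.orbitProdStabilizerEquivGroup A δ)
      rw [Nat.card_prod] at h3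
      nlinarith
    have kβ := key β hβA
    have kγ := key γ hγA
    let P := {q : Ω × A // (q.1 ∈ MulAction.orbit A β ∨ q.1 ∈ MulAction.orbit A γ) ∧ q.2 ≠ 1 ∧ (q.2 : G) • q.1 = q.1}
    have hPinj : Function.Injective (fun q : P => (⟨q.1.2, q.2.2.1⟩ : {a : A // a ≠ 1})) := by
      rintro ⟨⟨d1, a1⟩, hd1, ha1, hf1⟩ ⟨⟨d2, a2⟩, hd2, ha2, hf2⟩ h
      have ha : a1 = a2 := congrArg Subtype.val h
      subst ha
      have hnα : ∀ d, (d ∈ MulAction.orbit A β ∨ d ∈ MulAction.orbit A γ) → d ≠ α := by
        rintro d (⟨c, rfl⟩ | ⟨c, rfl⟩) hd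
        · apply hαβ
          change (c : G) • β = α at hd
          rw [← (inv_smul_eq_iff.mpr hd.symm), eq_inv_smul_iff]
          exact (hstabmul _ _).mp c.2
        · apply hγα
          change (c : G) • γ = α at hd
          rw [← (inv_smul_eq_iff.mpr hd.symm), inv_smul_eq_iff]
          exact ((hstabmul _ _).mp c.2).symm
      by_contra hneq
      have hd12 : d1 ≠ d2 := fun h => hneq (by subst h; rfl)
      have h3 := hfix (a1 : G) (fun h => ha1 (Subtype.ext h))
      have : 3 ≤ Nat.card (MulAction.fixedBy Ω (a1 : G)) := by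
        have hs : ({α, d1, d2} : Set Ω) ⊆ MulAction.fixedBy Ω (a1 : G) := by
          rintro y (rfl | rfl | rfl)
          · exact a1.2
          · exact hf1
          · exact hf2
        have hc : ({α, d1, d2} : Set Ω).ncard = 3 :=
          Set.ncard_eq_three.mpr ⟨α, d1, d2, (hnα d1 hd1).symm, (hnα d2 hd2).symm, hd12, rfl⟩
        rw [Nat.card_coe_set_eq, ← hc]
        exact Set.ncard_le_ncard hs (Set.toFinite _)
      omega
    have hle := Nat.card_le_card_of_injective _ hPinj
    have hA1 : Nat.card {a : A // a ≠ 1} + 1 = Nat.card A := by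
      have := Nat.card_congr (Equiv.optionSubtypeNe (1 : A))
      rw [Finite.card_option] at this
      exact this
    have hsum : ∀ δ : Ω, Nat.card {q : Ω × A // q.1 ∈ MulAction.orbit A δ ∧ q.2 ≠ 1 ∧ (q.2 : G) • q.1 = q.1} +
        Nat.card (MulAction.orbit A δ) = Nat.card A := by
      intro δ
      let S := {q : Ω × A // q.1 ∈ MulAction.orbit A δ ∧ (q.2 : G) • q.1 = q.1}
      have hS : Nat.card S = Nat.card A := by
        let e : S ≃ Σ d : MulAction.orbit A δ, MulAction.stabilizer A (d : Ω) :=
          { toFun := fun q => ⟨⟨q.1.1, q.2.1⟩, ⟨q.1.2, q.2.2⟩⟩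
            invFun := fun q => ⟨(q.1.1, q.2.1), q.1.2, q.2.2⟩
            left_inv := fun q => rfl
            right_inv := fun q => rfl }
        rw [Nat.card_congr e, Nat.card_sigma]
        have hst : ∀ d : MulAction.orbit A δ, Nat.card (MulAction.stabilizer A (d : Ω)) = Nat.card (MulAction.stabilizer A δ) := by
          rintro ⟨d, c, rfl⟩
          exact Nat.card_congr (MulAction.stabilizerEquivStabilizerOfOrbitRel
            (MulAction.orbitRel_apply.mpr (MulAction.mem_orbit δ c))).toEquiv
        rw [Finset.sum_congr rfl (fun d _ => hst d), Finset.sum_const, Finset.card_univ, smul_eq_mul,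
          ← Nat.card_eq_fintype_card, ← Nat.card_prod]
        exact Nat.card_congr (MulAction.orbitProdStabilizerEquivGroup A δ)
      let e2 : S ≃ {q : Ω × A // q.1 ∈ MulAction.orbit A δ ∧ q.2 ≠ 1 ∧ (q.2 : G) • q.1 = q.1} ⊕ MulAction.orbit A δ :=
        { toFun := fun q => if h : q.1.2 = 1 then Sum.inr ⟨q.1.1, q.2.1⟩ else Sum.inl ⟨q.1, q.2.1, h, q.2.2⟩
          invFun := fun q => match q with
            | Sum.inl q => ⟨q.1, q.2.1, q.2.2.2⟩
            | Sum.inr d => ⟨(d.1, 1), d.2, by simp⟩
          left_inv := fun q => by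
            rcases q with ⟨⟨d, a⟩, h1, h2⟩
            by_cases h : a = 1
            · subst h; simp
            · simp [h]
          right_inv := fun q => by
            rcases q with ⟨⟨d, a⟩, h1, h2, h3⟩ | ⟨d, hd⟩
            · simp [h2]
            · simp }
      rw [← hS, Nat.card_congr e2, Nat.card_sum]
    have sβ := hsum β
    have sγ := hsum γ
    have hP : Nat.card P = Nat.card {q : Ω × A // q.1 ∈ MulAction.orbit A β ∧ q.2 ≠ 1 ∧ (q.2 : G) • q.1 = q.1} +
        Nat.card {q : Ω × A // q.1 ∈ MulAction.orbit A γ ∧ q.2 ≠ 1 ∧ (q.2 : G) • q.1 = q.1} := by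
      rw [← Nat.card_sum]
      refine Nat.card_congr ?_
      refine (Equiv.subtypeEquivRight fun q => ?_).trans (subtypeOrEquiv _ _ ?_)
      · exact or_and_right
      · rw [Pi.disjoint_iff]
        intro q
        simp only [Prop.disjoint_iff]
        rintro ⟨⟨h1, -⟩, h2, -⟩
        have : γ ∈ MulAction.orbit A β := by
          rw [← MulAction.orbit_eq_iff] at h1 h2 ⊢
          rw [← h1, h2]
        obtain ⟨c, hc⟩ := this
        exact hdisj c c.2 hc
    have hpos : 0 < Nat.card A := Nat.card_pos
    omega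
  · intro p hp hkp _ α
    by_contra hcon
    push Not at hcon
    obtain ⟨h1, h2⟩ := hcon
    haveI : Fact p.Prime := ⟨hp⟩
    set A := MulAction.stabilizer G α with hA
    let P : Sylow p A := default
    let P' : Subgroup G := (P : Subgroup A).map A.subtype
    have hP'card : Nat.card P' = Nat.card (P : Subgroup A) :=
      (Nat.card_congr ((P : Subgroup A).equivMapOfInjective _ A.subtype_injective).toEquiv).symm
    have hPcard := P.card_eq_multiplicity
    set n := (Nat.card A).factorization p with hn
    have hn1 : 1 ≤ n := (Nat.Prime.dvd_iff_one_le_factorization hp Nat.card_pos.ne').mp h1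
    have hdvd : p ^ (n + 1) ∣ Nat.card G := by
      rw [← A.card_mul_index, pow_succ]
      exact mul_dvd_mul (Nat.ordProj_dvd _ _) h2
    obtain ⟨K, hKcard, hPK⟩ := Sylow.exists_subgroup_card_pow_succ hdvd (hP'card.trans hPcard)
    have hKA : ¬ K ≤ A := by
      intro h
      have := Subgroup.card_dvd_of_le h
      rw [hKcard, Nat.Prime.pow_dvd_iff_le_factorization hp Nat.card_pos.ne', ← hn] at this
      omega
    have hnormal : (P'.subgroupOf K).Normal := by
      apply Subgroup.normal_of_index_eq_minFac_card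
      have hcardsub : Nat.card (P'.subgroupOf K) = p ^ n := by
        rw [Nat.card_congr (Subgroup.subgroupOfEquivOfLe hPK).toEquiv, hP'card, hPcard]
      have := (P'.subgroupOf K).card_mul_index
      rw [hcardsub, hKcard, pow_succ] at this
      rw [mul_left_cancel₀ (pow_ne_zero _ hp.ne_zero) this, hKcard, Nat.Prime.pow_minFac hp (Nat.succ_ne_zero n)]
    obtain ⟨u, hu⟩ : ∃ u : P', u ≠ 1 := by
      have : 1 < Nat.card P' := by rw [hP'card, hPcard]; exact Nat.one_lt_pow (by omega) hp.one_lt
      rw [Finite.one_lt_card_iff_nontrivial] at this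
      exact exists_ne _
    have hP'A : P' ≤ A := Subgroup.map_subtype_le _
    have hsub : MulAction.orbit K α ⊆ MulAction.fixedBy Ω (u : G) := by
      rintro _ ⟨y, rfl⟩
      change (u : G) • ((y : G) • α) = (y : G) • α
      have := hnormal.conj_mem ⟨u, hPK u.2⟩ u.2 y⁻¹
      have hmem : (y : G)⁻¹ * u * y ∈ A := hP'A (by simpa [Subgroup.mem_subgroupOf] using this)
      rw [hA, hstabmul, mul_smul, mul_smul, inv_smul_eq_iff] at hmem
      exact hmem
    have hle : p ≤ Nat.card (MulAction.orbit K α) := by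
      have h3 := Nat.card_congr (MulAction.orbitProdStabilizerEquivGroup K α)
      rw [Nat.card_prod, hKcard] at h3
      obtain ⟨j, -, hj⟩ := (Nat.dvd_prime_pow hp).mp ⟨_, h3.symm⟩
      rcases Nat.eq_zero_or_pos j with rfl | hj0
      · exfalso; apply hKA
        intro y hy
        rw [pow_zero, Nat.card_eq_one_iff_unique] at hj
        have := hj.1.elim ⟨y • α, ⟨⟨y, hy⟩, rfl⟩⟩ ⟨α, MulAction.mem_orbit_self _⟩
        exact congrArg Subtype.val this
      · rw [hj]; exact Nat.le_self_pow hj0.ne' p
    have h4 := hfix (u : G) (fun h => hu (Subtype.ext h))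
    have h5 : Nat.card (MulAction.orbit K α) ≤ Nat.card (MulAction.fixedBy Ω (u : G)) :=
      Nat.card_le_card_of_injective _ (Set.inclusion_injective hsub)
    omega

end Cfsg.Agent.S3389
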