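import Cfsg.Statements.S3390
import Cfsg.Agent.Lib.Solvable.FixityTwo

set_option autoImplicit false
open Cfsg

namespace Cfsg.Agent.S3390

open CfsgLib.Solvable

variable {G : Type*} [Group G] [Finite G] {Ω : Type*} [Fintype Ω] [MulAction G Ω]

/-- Three fixed points force the identity. -/
theorem eq_one_of_three (hfix : ∀ g : G, g ≠ 1 → Nat.card (MulAction.fixedBy Ω g) ≤ 2) {g : G} {a b c : Ω}
    (ha : g • a = a) (hb : g • b = b) (hc : g • c = c) (hab : a ≠ b) (hac : a ≠ c) (hbc : b ≠ c) : g = 1 := by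
  by_contra hg
  let f : Fin 3 → MulAction.fixedBy Ω g := ![⟨a, ha⟩, ⟨b, hb⟩, ⟨c, hc⟩]
  have hf : Function.Injective f := by
    intro i j h
    fin_cases i <;> fin_cases j <;> simp_all [f, Subtype.ext_iff, hab.symm, hac.symm, hbc.symm]
  have h3 := Nat.card_le_card_of_injective f hf
  rw [Nat.card_fin] at h3
  have := hfix g hg
  omega

theorem three_le_card {X : Type*} [Finite X] {a b c : X} (hab : a ≠ b) (hac : a ≠ c) (hbc : b ≠ c) :
    3 ≤ Nat.card X := by
  classical
  haveI := Fintype.ofFinite X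
  rw [Nat.card_eq_fintype_card, ← Finset.card_eq_three.mpr ⟨a, b, c, hab, hac, hbc, rfl⟩]
  exact Finset.card_le_univ _

/-- The subgroup of index two of the third case is a Frobenius group with complement `G_α`. -/
theorem frobenius [FaithfulSMul G Ω] (htr : MulAction.IsPretransitive G Ω)
    (hfix : ∀ g : G, g ≠ 1 → Nat.card (MulAction.fixedBy Ω g) ≤ 2)
    (hbig : 2 < Fintype.card Ω) (α : Ω) {M T : Subgroup G} (hMn : M.Normal) (hMi : M.index = 2)
    (hTM : T ≤ M) (hTα : T ≤ MulAction.stabilizer G α) (hT2 : IsPGroup 2 T) (hT1 : T ≠ ⊥)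
    (hTodd : Odd (T.relIndex (MulAction.stabilizer G α)))
    {u : G} (hu : u ∉ M) (huT : ∀ x ∈ T, x • (u • α) = u • α) :
    ∃ H : Subgroup ↥M, Cfsg.IsFrobeniusComplement H := by
  classical
  set A := MulAction.stabilizer G α with hA
  have hAmem : ∀ g, g ∈ A ↔ g • α = α := fun g => MulAction.mem_stabilizer_iff
  have hAM : A ≤ M := by
    rw [← Subgroup.relIndex_eq_one]
    have h1 : M.relIndex A ∣ 2 := hMi ▸ Subgroup.relIndex_dvd_index_of_normal M A
    have h2 : M.relIndex A ∣ T.relIndex A := Subgroup.relIndex_dvd_of_le_left A hTM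
    have h3 := Odd.of_dvd_nat hTodd h2
    rcases (Nat.dvd_prime Nat.prime_two).mp h1 with h | h
    · exact h
    · rw [h] at h3; exact absurd h3 (by decide)
  have hindA : A.index = Fintype.card Ω := by
    rw [hA, MulAction.index_stabilizer_of_transitive, Nat.card_eq_fintype_card]
  have hne : A.subgroupOf M ≠ ⊤ := by
    intro h
    rw [Subgroup.subgroupOf_eq_top] at h
    rw [le_antisymm hAM h, hMi] at hindA
    omega
  refine ⟨A.subgroupOf M, ?_, hne, ?_⟩
  · intro h
    rw [Subgroup.subgroupOf_eq_bot, disjoint_iff, inf_eq_left.mpr hAM] at h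
    exact hT1 (eq_bot_iff.mpr (h ▸ hTα))
  intro m hm
  rw [eq_bot_iff]
  intro x hx
  rw [Subgroup.mem_bot]
  obtain ⟨hxA, hxc⟩ := Subgroup.mem_inf.mp hx
  rw [Subgroup.mem_subgroupOf, hAmem] at hxA
  rw [Subgroup.mem_smul_pointwise_iff_exists] at hxc
  obtain ⟨y, hy, hyx⟩ := hxc
  rw [Subgroup.mem_subgroupOf, hAmem] at hy
  rw [Subgroup.mem_subgroupOf, hAmem] at hm
  set γ := (m : G) • α with hγ
  have hxγ : (x : G) • γ = γ := by
    rw [← hyx, hγ]
    simp [MulAut.smul_def, mul_smul, hy]
  by_contra hx1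
  have hxg : (x : G) ≠ 1 := by simpa using hx1
  -- a power of prime order
  obtain ⟨p, hp, hpd⟩ := Nat.exists_prime_and_dvd (mt orderOf_eq_one_iff.mp hxg)
  haveI := Fact.mk hp
  set z₀ := (x : G) ^ (orderOf (x : G) / p) with hz₀
  have hz₀o : orderOf z₀ = p := orderOf_pow_orderOf_div (orderOf_pos _).ne' hpd
  have hz₀1 : z₀ ≠ 1 := fun e => by rw [e, orderOf_one] at hz₀o; exact hp.ne_one hz₀o.symm
  have hz₀α : z₀ • α = α := by
    rw [← hAmem]; exact pow_mem ((hAmem _).mpr hxA) _
  have hz₀γ : z₀ • γ = γ := by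
    rw [← MulAction.mem_stabilizer_iff]; exact pow_mem (MulAction.mem_stabilizer_iff.mpr hxγ) _
  have hαγ : α ≠ γ := fun e => hm e.symm
  rcases hp.eq_two_or_odd' with rfl | hpo
  · -- conjugate into `T`
    haveI : Fact (Nat.Prime 2) := ⟨Nat.prime_two⟩
    have hTA : IsPGroup 2 (T.subgroupOf A) := hT2.comap_of_injective A.subtype A.subtype_injective
    have hTi : ¬ 2 ∣ (T.subgroupOf A).index := hTodd.not_two_dvd_nat
    let P₂ := hTA.toSylow hTi
    obtain ⟨Q₂, hQ₂⟩ := (IsPGroup.of_card (G := Subgroup.zpowers (⟨z₀, (hAmem _).mpr hz₀α⟩ : A))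
      (p := 2) (n := 1) (by rw [Nat.card_zpowers, Subgroup.orderOf_mk, hz₀o, pow_one])).exists_le_sylow
    obtain ⟨h, hh⟩ := MulAction.exists_smul_eq A P₂ Q₂
    have hzQ : (⟨z₀, (hAmem _).mpr hz₀α⟩ : A) ∈ Q₂ := hQ₂ (Subgroup.mem_zpowers _)
    rw [← hh] at hzQ
    obtain ⟨s, hs, hsz⟩ := Subgroup.mem_smul_pointwise_iff_exists _ _ _ |>.mp hzQ
    have hsT : ((s : A) : G) ∈ T := hs
    have hse : (h : G) * (s : G) * (h : G)⁻¹ = z₀ := congrArg Subtype.val hsz
    have hhα : (h : G) • α = α := (hAmem _).mp h.2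
    have hsα : (s : G) • α = α := (hAmem _).mp s.2
    have hsβ := huT _ hsT
    have hsγ : (s : G) • ((h : G)⁻¹ • γ) = (h : G)⁻¹ • γ := by
      have : (s : G) = (h : G)⁻¹ * z₀ * h := by rw [← hse]; group
      rw [this]
      simp [mul_smul, hz₀γ]
    have hs1 : (s : G) ≠ 1 := fun e => hz₀1 (by rw [← hse, e]; group)
    have hαβ : α ≠ u • α := fun e => hu (hAM ((hAmem u).mpr e.symm))
    by_cases hb : (h : G)⁻¹ • γ = u • α
    · have h1 : u⁻¹ * ((h : G)⁻¹ * m) ∈ A := by
        rw [hAmem, mul_smul, mul_smul, ← hγ, hb, inv_smul_smul]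
      have h2 : (h : G)⁻¹ * m ∈ M := mul_mem (inv_mem (hAM h.2)) m.2
      have h3 := mul_mem h2 (inv_mem (hAM h1))
      rw [mul_inv_rev, inv_inv, mul_inv_cancel_left] at h3
      exact hu h3
    · exact hs1 (eq_one_of_three hfix hsα hsβ hsγ hαβ
        (fun e => hαγ (by rw [← hhα]; exact (smul_eq_iff_eq_inv_smul _).mpr e)) (Ne.symm hb))
  · -- odd primes
    obtain ⟨Q, hQ⟩ := (IsPGroup.of_card (G := Subgroup.zpowers (⟨z₀, (hAmem _).mpr hz₀α⟩ : A))
      (p := p) (n := 1) (by rw [Nat.card_zpowers, Subgroup.orderOf_mk, hz₀o, pow_one])).exists_le_sylow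
    have hzQ : (⟨z₀, (hAmem _).mpr hz₀α⟩ : A) ∈ Q := hQ (Subgroup.mem_zpowers _)
    haveI : Nontrivial (Q : Subgroup A) :=
      ⟨⟨⟨_, hzQ⟩, 1, fun e => hz₀1 (congrArg (fun q : (Q : Subgroup A) => ((q : A) : G)) e)⟩⟩
    haveI := Q.isPGroup'.center_nontrivial
    obtain ⟨⟨z, hzc⟩, hz1⟩ := exists_ne (1 : Subgroup.center (Q : Subgroup A))
    have hzcomm : ∀ q : (Q : Subgroup A), ((q : A) : G) * ((z : A) : G) = ((z : A) : G) * ((q : A) : G) :=
      fun q => congrArg (fun r : (Q : Subgroup A) => ((r : A) : G)) (Subgroup.mem_center_iff.mp hzc q)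
    have hzg1 : ((z : A) : G) ≠ 1 := fun e => hz1 (Subtype.ext (Subtype.ext (Subtype.ext e)))
    have hQα : ∀ q : (Q : Subgroup A), ((q : A) : G) • α = α := fun q => (hAmem _).mp q.1.2
    have hzγ : ((z : A) : G) • γ = γ := by
      by_contra hne'
      refine hz₀1 (eq_one_of_three hfix hz₀α hz₀γ (c := ((z : A) : G) • γ) ?_ hαγ
        (fun e => hαγ (MulAction.injective ((z : A) : G) ((hQα z).trans e))) (Ne.symm hne'))
      have hc : z₀ * ((z : A) : G) = ((z : A) : G) * z₀ := hzcomm ⟨_, hzQ⟩
      rw [← mul_smul, hc, mul_smul, hz₀γ]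
    have hQγ : ∀ q : (Q : Subgroup A), ((q : A) : G) • γ = γ := by
      intro q
      by_contra hne'
      refine hzg1 (eq_one_of_three hfix (hQα z) hzγ (c := ((q : A) : G) • γ) ?_ hαγ
        (fun e => hαγ (MulAction.injective ((q : A) : G) ((hQα q).trans e))) (Ne.symm hne'))
      rw [← mul_smul, ← hzcomm q, mul_smul, hzγ]
    set QG : Subgroup G := (Q : Subgroup A).map A.subtype with hQG
    have hQG2 : IsPGroup p QG := Q.isPGroup'.map _
    have hQGfix : MulAction.fixedPoints QG Ω = {α, γ} := by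
      ext w
      constructor
      · intro hw
        by_contra hne'
        simp only [Set.mem_insert_iff, Set.mem_singleton_iff, not_or] at hne'
        exact hzg1 (eq_one_of_three hfix (hQα z) hzγ (hw ⟨_, (z : A), z.2, rfl⟩) hαγ (Ne.symm hne'.1) (Ne.symm hne'.2))
      · rintro hw ⟨g, ⟨q, hq, rfl⟩⟩
        rcases hw with rfl | rfl
        · exact hQα ⟨q, hq⟩
        · exact hQγ ⟨q, hq⟩
    have hpΩ : ¬ p ∣ Fintype.card Ω := by
      intro hd
      have hmod := hQG2.card_modEq_card_fixedPoints Ω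
      rw [Nat.card_eq_fintype_card (α := Ω), hQGfix, Nat.card_coe_set_eq, Set.ncard_pair hαγ,
        Nat.ModEq, Nat.mod_eq_zero_of_dvd hd] at hmod
      have : p ∣ 2 := Nat.dvd_of_mod_eq_zero hmod.symm
      exact absurd ((Nat.prime_dvd_prime_iff_eq hp Nat.prime_two).mp this)
        (fun e => by rw [e] at hpo; exact absurd hpo (by decide))
    have hQi : ¬ p ∣ QG.index := by
      rw [hQG, Subgroup.index_map_subtype, hindA]
      exact fun hd => (hp.dvd_mul.mp hd).elim Q.not_dvd_index hpΩ
    let QS := hQG2.toSylow hQi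
    have hQM : (QS : Subgroup G) ≤ M := (Subgroup.map_subtype_le _).trans hAM
    have htop := Sylow.normalizer_sup_eq_top' QS hQM
    refine hu ?_
    have : Subgroup.normalizer (((QS : Subgroup G)) : Set G) ≤ M := by
      intro g hg
      have hgα : g • α ∈ MulAction.fixedPoints QG Ω := by
        intro q
        have hq' : g⁻¹ * (q : G) * g ∈ QG := (Subgroup.mem_normalizer_iff''.mp hg q).mp q.2
        obtain ⟨a, ha, hae⟩ := hq'
        show (q : G) • g • α = g • α
        have : (q : G) = g * (a : G) * g⁻¹ := by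
          rw [show (a : G) = g⁻¹ * (q : G) * g from hae]; group
        rw [this, mul_smul, mul_smul, inv_smul_smul, hQα ⟨a, ha⟩]
      rw [hQGfix] at hgα
      rcases hgα with h | h
      · exact hAM ((hAmem g).mpr h)
      · have : (m : G)⁻¹ * g ∈ A := by
          rw [hAmem, mul_smul, h, hγ, inv_smul_smul]
        simpa using mul_mem m.2 (hAM this)
    have hle : Subgroup.normalizer (((QS : Subgroup G)) : Set G) ⊔ M ≤ M := sup_le this le_rfl
    exact (htop.ge.trans hle) (Subgroup.mem_top u)

/-- Let G be a finite group acting faithfully and transitively on a finite set Ω with fixity 2 (every non-identity element fixes at most two points, and some fixes exactly two). Let α ∈ Ω and S a Sylow 2-subgroup of G. Then one of the following holds: the stabilizer S_α of α in S is trivial; S is dihedral or semidihedral and either |S_α| = 2 or |S : S_α| = 2; |S| ≥ 4, S has exactly one orbit of size 2 on Ω, every other S-orbit is regular, and G has a normal subgroup of index 2 or of index |S| which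 is a Frobenius group; or S ≤ G_α. -/
theorem result {G : Type*} [Group G] [Finite G] {Ω : Type*} [Fintype Ω] [MulAction G Ω] [FaithfulSMul G Ω] (htr : MulAction.IsPretransitive G Ω)
    (hfix : ∀ g : G, g ≠ 1 → Nat.card (MulAction.fixedBy Ω g) ≤ 2) (hex : ∃ g : G, g ≠ 1 ∧ Nat.card (MulAction.fixedBy Ω g) = 2) (α : Ω) (S : Sylow 2 G) :
    (S : Subgroup G) ⊓ MulAction.stabilizer G α = ⊥ ∨
    (((∃ n : ℕ, Nonempty (↥(S : Subgroup G) ≃* DihedralGroup n)) ∨ Cfsg.IsQuasiDihedral ↥(S : Subgroup G)) ∧
       (Nat.card ↥((S : Subgroup G) ⊓ MulAction.stabilizer G α) = 2 ∨ ((S : Subgroup G) ⊓ MulAction.stabilizer G α).relIndex (S : Subgroup G) = 2)) ∨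
    (4 ≤ Nat.card (S : Subgroup G) ∧
       (∃ ω : Ω, Nat.card (MulAction.orbit ↥(S : Subgroup G) ω) = 2 ∧
          ∀ ω' : Ω, ω' ∉ MulAction.orbit ↥(S : Subgroup G) ω → Nat.card (MulAction.orbit ↥(S : Subgroup G) ω') = Nat.card (S : Subgroup G)) ∧
       ∃ N : Subgroup G, N.Normal ∧ (N.index = 2 ∨ N.index = Nat.card (S : Subgroup G)) ∧ (∃ H : Subgroup ↥N, Cfsg.IsFrobeniusComplement H)) ∨
    (S : Subgroup G) ≤ MulAction.stabilizer G α := by
  classical
  haveI : Fact (Nat.Prime 2) := ⟨Nat.prime_two⟩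
  set A := MulAction.stabilizer G α with hA
  set P := (S : Subgroup G) with hP
  set T := P ⊓ A with hT
  by_cases hT0 : T = ⊥
  · exact Or.inl hT0
  by_cases hPA : P ≤ A
  · exact Or.inr (Or.inr (Or.inr hPA))
  have hAmem : ∀ g, g ∈ A ↔ g • α = α := fun g => MulAction.mem_stabilizer_iff
  have hTP : T ≤ P := inf_le_left
  have hP2 : IsPGroup 2 P := S.isPGroup'
  have hT2 : IsPGroup 2 T := hP2.to_le hTP
  -- the normalizer of `T` in `P`
  set T' := T.subgroupOf P with hT'
  haveI : Group.IsNilpotent P := hP2.isNilpotent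
  have hT'top : T' ≠ ⊤ := fun h => hPA ((Subgroup.subgroupOf_eq_top.mp h).trans inf_le_right)
  have hT'mem : ∀ x : P, x ∈ T' ↔ (x : G) • α = α := fun x => by
    rw [hT', Subgroup.mem_subgroupOf, hT, Subgroup.mem_inf, hAmem]; exact ⟨fun h => h.2, fun h => ⟨x.2, h⟩⟩
  set U := Subgroup.normalizer (T' : Set P) with hU
  obtain ⟨u, huU, huT'⟩ := SetLike.exists_of_lt (Group.normalizerCondition_of_isNilpotent T' (Ne.lt_top hT'top))
  have huα : (u : G) • α ≠ α := fun h => huT' ((hT'mem u).mpr h)
  set β := (u : G) • α with hβ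
  have hnorm : ∀ n ∈ U, ∀ x ∈ T', (x : G) • ((n : G) • α) = (n : G) • α := by
    intro n hn x hx
    have h := (hT'mem _).mp ((Subgroup.mem_normalizer_iff''.mp hn x).mp hx)
    push_cast at h
    rw [mul_smul, mul_smul, inv_smul_eq_iff] at h
    exact h
  have hTβ : ∀ x ∈ T, x • β = β := fun x hx => hnorm u huU ⟨x, hTP hx⟩ hx
  obtain ⟨t, htT, ht1⟩ : ∃ t ∈ T, t ≠ 1 := by
    by_contra! h; exact hT0 (eq_bot_iff.mpr fun x hx => Subgroup.mem_bot.mpr (h x hx))
  have htα : t • α = α := (hAmem t).mp htT.2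
  have hUcase : ∀ n ∈ U, (n : G) • α = α ∨ (n : G) • α = β := by
    intro n hn
    by_contra! h
    exact ht1 (eq_one_of_three hfix htα (hTβ t htT) (hnorm n hn ⟨t, hTP htT⟩ htT) (Ne.symm huα) h.1.symm h.2.symm)
  have hT'U : T' ≤ U := Subgroup.le_normalizer
  have hTUi : T'.relIndex U = 2 := by
    rw [Subgroup.relIndex, Subgroup.index_eq_two_iff]
    refine ⟨⟨u, huU⟩, fun b => ?_⟩
    show Xor ((b : P) * u ∈ T') ((b : P) ∈ T')
    rw [hT'mem, hT'mem]
    push_cast
    rw [mul_smul]
    rcases hUcase _ b.2 with h | h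
    · exact Or.inr ⟨h, fun e => huα (MulAction.injective ((b : P) : G) (e.trans h.symm))⟩
    · refine Or.inl ⟨?_, fun e => huα (h ▸ e)⟩
      have hub : (b : P) * u ∈ U := mul_mem b.2 huU
      rcases hUcase _ hub with h' | h'
      · simpa [mul_smul] using h'
      · exfalso
        have h'' : ((b : P) : G) • β = β := by simpa [mul_smul, hβ] using h'
        exact huα (MulAction.injective ((b : P) : G) (h''.trans h.symm))
  have hcT : Nat.card T' = Nat.card T := Nat.card_congr (Subgroup.subgroupOfEquivOfLe hTP).toEquiv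
  have hcU : Nat.card U = 2 * Nat.card T := by
    rw [← hcT, ← Subgroup.card_mul_index (T'.subgroupOf U), ← Subgroup.relIndex, hTUi,
      Nat.card_congr (Subgroup.subgroupOfEquivOfLe hT'U).toEquiv, mul_comm]
  have hT2' : 2 ≤ Nat.card T := by
    have := (Subgroup.one_lt_card_iff_ne_bot T).mpr hT0
    omega
  by_cases hcT2 : Nat.card T = 2 ∧ ¬ IsCyclic P
  · -- `|T| = 2`
    refine Or.inr (Or.inl ⟨?_, Or.inl hcT2.1⟩)
    have hto : orderOf (⟨t, hTP htT⟩ : P) = 2 := by
      rw [Subgroup.orderOf_mk]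
      have hd : orderOf (⟨t, htT⟩ : T) ∣ 2 := hcT2.1 ▸ orderOf_dvd_natCard _
      rw [Subgroup.orderOf_mk] at hd
      exact ((Nat.dvd_prime Nat.prime_two).mp hd).resolve_left (mt orderOf_eq_one_iff.mp ht1)
    have hTel : ∀ x ∈ T', x = 1 ∨ x = ⟨t, hTP htT⟩ := by
      intro x hx
      by_contra! h
      have h3 := three_le_card (X := T') (a := 1) (b := ⟨⟨t, hTP htT⟩, htT⟩) (c := ⟨x, hx⟩)
        (fun e => ht1 (congrArg (fun q : T' => ((q : P) : G)) e).symm)
        (fun e => h.1 (congrArg Subtype.val e).symm) (fun e => h.2 (congrArg Subtype.val e).symm)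
      rw [hcT, hcT2.1] at h3
      omega
    have hCU : Subgroup.centralizer ({⟨t, hTP htT⟩} : Set P) = U := by
      ext c
      rw [Subgroup.mem_centralizer_singleton_iff, hU, Subgroup.mem_normalizer_iff'']
      constructor
      · intro hc x
        have hc' : c⁻¹ * ⟨t, hTP htT⟩ * c = ⟨t, hTP htT⟩ := by rw [mul_assoc, ← hc, inv_mul_cancel_left]
        have hc'' : c * ⟨t, hTP htT⟩ * c⁻¹ = ⟨t, hTP htT⟩ := by rw [hc, mul_inv_cancel_right]
        constructor
        · intro hx
          rcases hTel x hx with rfl | rfl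
          · simp
          · rw [hc']; exact hx
        · intro hx
          have e : x = c * (c⁻¹ * x * c) * c⁻¹ := by group
          rcases hTel _ hx with h | h
          · rw [e, h]; simp
          · rw [e, h, hc'']; exact htT
      · intro hc
        rcases hTel _ ((hc ⟨t, hTP htT⟩).mp htT) with h | h
        · exfalso; exact ht1 (congrArg Subtype.val (show (⟨t, hTP htT⟩ : P) = 1 by
            rw [show (⟨t, hTP htT⟩ : P) = c * (c⁻¹ * ⟨t, hTP htT⟩ * c) * c⁻¹ by group, h]; group))
        · conv_lhs => rw [← h]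
          group
    exact FixityTwo.dihedral_or_quasiDihedral hP2 hto (by rw [hCU, hcU, hcT2.1]) hcT2.2
  -- `P` normalizes `T`
  have hUtop : U = ⊤ := by
    by_contra hUne
    obtain ⟨x, hxN, hxU⟩ := SetLike.exists_of_lt (Group.normalizerCondition_of_isNilpotent U (Ne.lt_top hUne))
    have hxT : (x : G) • α ≠ α := fun h => hxU (hT'U ((hT'mem x).mpr h))
    have hxβ : (x : G) • α ≠ β := by
      intro h
      have : u⁻¹ * x ∈ T' := by rw [hT'mem]; push_cast; rw [mul_smul, h, inv_smul_smul]
      exact hxU (by simpa using mul_mem huU (hT'U this))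
    let f : T' × T' → U := fun ab => ⟨(ab.1 : P) * (x * ab.2 * x⁻¹),
      mul_mem (hT'U ab.1.2) ((Subgroup.mem_normalizer_iff.mp hxN _).mp (hT'U ab.2.2))⟩
    have hf : Function.Injective f := by
      rintro ⟨a, b⟩ ⟨a', b'⟩ h
      have h' : (a : P) * (x * b * x⁻¹) = a' * (x * b' * x⁻¹) := congrArg Subtype.val h
      have he : (a' : P)⁻¹ * a = x * ((b' : P) * (b : P)⁻¹) * x⁻¹ := by
        calc (a' : P)⁻¹ * a = (a' : P)⁻¹ * (a * (x * b * x⁻¹)) * (x * b * x⁻¹)⁻¹ := by group
          _ = (a' : P)⁻¹ * (a' * (x * b' * x⁻¹)) * (x * b * x⁻¹)⁻¹ := by rw [h']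
          _ = _ := by group
      have hk : (a' : P)⁻¹ * a ∈ T' := mul_mem (inv_mem a'.2) a.2
      have hk2 : (b' : P) * (b : P)⁻¹ ∈ T' := mul_mem b'.2 (inv_mem b.2)
      have hkx : (((a' : P)⁻¹ * a : P) : G) • ((x : G) • α) = (x : G) • α := by
        rw [he]
        have h0 := (hT'mem _).mp hk2
        push_cast at h0 ⊢
        rw [mul_smul, mul_smul, inv_smul_smul, mul_smul]
        rw [mul_smul] at h0
        rw [h0]
      have hk1 : (a' : P)⁻¹ * a = 1 := Subtype.ext (eq_one_of_three hfix ((hT'mem _).mp hk)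
        (hTβ _ hk) hkx (Ne.symm huα) (Ne.symm hxT) (Ne.symm hxβ))
      have ha : a = a' := Subtype.ext (inv_mul_eq_one.mp hk1).symm
      subst ha
      have : (b : P) = b' := by simpa using h'
      exact Prod.ext rfl (Subtype.ext this)
    have hle := Nat.card_le_card_of_injective f hf
    rw [Nat.card_prod, hcT, hcU] at hle
    have hT2eq : Nat.card T = 2 := le_antisymm (Nat.le_of_mul_le_mul_right hle (by omega)) hT2'
    have hcyc : IsCyclic P := by
      by_contra h
      exact hcT2 ⟨hT2eq, h⟩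
    letI := IsCyclic.commGroup (α := P)
    exact hUne ((Subgroup.eq_top_iff' _).mpr fun g => Subgroup.mem_normalizer_iff.mpr fun y => by
      rw [mul_comm g y, mul_inv_cancel_right])
  have hTi : T'.index = 2 := by
    rw [← Subgroup.relIndex_top_right, ← hUtop]; exact hTUi
  have hrel : T.relIndex P = 2 := hTi
  by_cases hD : (∃ n : ℕ, Nonempty (P ≃* DihedralGroup n)) ∨ Cfsg.IsQuasiDihedral P
  · exact Or.inr (Or.inl ⟨hD, Or.inr hrel⟩)
  refine Or.inr (Or.inr (Or.inl ?_))
  have hcP : Nat.card P = 2 * Nat.card T := by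
    rw [← Subgroup.card_mul_index T', hTi, hcT, mul_comm]
  have hP4 : 4 ≤ Nat.card P := by omega
  have hPcase : ∀ n : P, (n : G) • α = α ∨ (n : G) • α = β := fun n => hUcase n (hUtop ▸ Subgroup.mem_top n)
  have horb : MulAction.orbit P α = {α, β} := by
    ext w
    constructor
    · rintro ⟨n, rfl⟩
      exact hPcase n
    · rintro (rfl | rfl)
      · exact MulAction.mem_orbit_self _
      · exact ⟨u, rfl⟩
  have horbc : Nat.card (MulAction.orbit P α) = 2 := by
    rw [horb, Nat.card_coe_set_eq, Set.ncard_pair (Ne.symm huα)]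
  have hreg : ∀ w : Ω, w ∉ MulAction.orbit P α → ∀ x : P, (x : G) • w = w → x = 1 := by
    intro w hw
    rw [horb] at hw
    simp only [Set.mem_insert_iff, Set.mem_singleton_iff, not_or] at hw
    set R := MulAction.stabilizer P w with hR
    have hRmem : ∀ x : P, x ∈ R ↔ (x : G) • w = w := fun x => MulAction.mem_stabilizer_iff
    have hRT : ∀ x ∈ R, x ∈ T' → x = 1 := fun x hx hxT => Subtype.ext (eq_one_of_three hfix
      ((hT'mem x).mp hxT) (hTβ _ hxT) ((hRmem x).mp hx) (Ne.symm huα) (Ne.symm hw.1) (Ne.symm hw.2))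
    have hRcard : Nat.card R ≤ 2 := by
      let f : R → P ⧸ T' := fun r => QuotientGroup.mk (r : P)
      have hf : Function.Injective f := by
        intro a b h
        have h' : (a : P)⁻¹ * b ∈ T' := QuotientGroup.eq.mp h
        exact Subtype.ext (inv_mul_eq_one.mp (hRT _ (mul_mem (inv_mem a.2) b.2) h'))
      exact (Nat.card_le_card_of_injective f hf).trans_eq hTi
    intro x hx
    by_contra hx1
    have hxT : x ∉ T' := fun h => hx1 (hRT x ((hRmem x).mpr hx) h)
    have hxo : orderOf x = 2 := by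
      have hd : orderOf (⟨x, (hRmem x).mpr hx⟩ : R) ≤ 2 :=
        (Nat.le_of_dvd Nat.card_pos (orderOf_dvd_natCard _)).trans hRcard
      rw [Subgroup.orderOf_mk] at hd
      have := orderOf_pos x
      have : orderOf x ≠ 1 := mt orderOf_eq_one_iff.mp hx1
      omega
    have hnc : ¬ IsCyclic P := by
      intro hc
      obtain ⟨s, hs⟩ := exists_prime_orderOf_dvd_card' (G := T') 2 (by
        rw [hcT]
        obtain ⟨k, hk⟩ := hT2.exists_card_eq
        rcases k with _ | k
        · rw [pow_zero] at hk; omega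
        · exact hk ▸ dvd_pow_self 2 k.succ_ne_zero)
      haveI := Fintype.ofFinite P
      have hle := IsCyclic.card_pow_eq_one_le (α := P) two_pos
      rw [← Subgroup.orderOf_coe] at hs
      have hs1 : (s : P) ≠ 1 := fun e => by simp [e] at hs
      have hsx : (s : P) ≠ x := fun e => hxT (e ▸ s.2)
      have hsub : ({1, (s : P), x} : Finset P) ⊆ Finset.univ.filter fun a => a ^ 2 = 1 := by
        intro a ha
        simp only [Finset.mem_insert, Finset.mem_singleton] at ha
        simp only [Finset.mem_filter, Finset.mem_univ, true_and]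
        rcases ha with rfl | rfl | rfl
        · simp
        · rw [← hs, pow_orderOf_eq_one]
        · rw [← hxo, pow_orderOf_eq_one]
      have h3 := Finset.card_le_card hsub
      rw [Finset.card_eq_three.mpr ⟨_, _, _, hs1.symm, Ne.symm hx1, hsx, rfl⟩] at h3
      exact absurd (h3.trans hle) (by norm_num)
    refine hD (FixityTwo.dihedral_or_quasiDihedral hP2 hxo ?_ hnc)
    set C := Subgroup.centralizer ({x} : Set P) with hC
    have hfixC : ∀ c : C, c • w ∈ MulAction.fixedBy Ω (x : G) := by
      intro c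
      show (x : G) • ((c : P) : G) • w = ((c : P) : G) • w
      have e : ((c : P) : G) * (x : G) = (x : G) * ((c : P) : G) :=
        congrArg Subtype.val (Subgroup.mem_centralizer_singleton_iff.mp c.2)
      rw [← mul_smul, ← e, mul_smul, hx]
    have hxg : (x : G) ≠ 1 := fun e => hx1 (Subtype.ext e)
    have hC4 : Nat.card C ≤ 4 := by
      rw [← Subgroup.card_mul_index (MulAction.stabilizer C w), MulAction.index_stabilizer]
      have h1 : Nat.card (MulAction.stabilizer C w) ≤ 2 := by
        let f : MulAction.stabilizer C w → R := fun c => ⟨((c : C) : P), c.2⟩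
        exact (Nat.card_le_card_of_injective f fun a b h =>
          Subtype.ext (Subtype.ext (congrArg (fun r : R => (r : P)) h))).trans hRcard
      have h2 : (MulAction.orbit C w).ncard ≤ 2 := by
        have hsub : MulAction.orbit C w ⊆ MulAction.fixedBy Ω (x : G) := by
          rintro _ ⟨c, rfl⟩; exact hfixC c
        exact (Set.ncard_le_ncard hsub (Set.toFinite _)).trans
          ((Nat.card_coe_set_eq _).symm.trans_le (hfix _ hxg))
      calc _ ≤ 2 * 2 := Nat.mul_le_mul h1 h2
        _ = 4 := rfl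
    obtain ⟨k, hk⟩ := (hP2.to_subgroup C).exists_card_eq
    have hC3 : 3 ≤ Nat.card C := by
      by_cases hxc : x ∈ Subgroup.center P
      · have : C = ⊤ := (Subgroup.eq_top_iff' _).mpr fun g =>
          Subgroup.mem_centralizer_singleton_iff.mpr (Subgroup.mem_center_iff.mp hxc g)
        rw [this, Subgroup.card_top]; omega
      · obtain ⟨z, -, hz, hzc⟩ := CfsgLib.TwoGroups.Classify.exists_central_involution hP2 (⊤ : Subgroup P)
          (fun e => hx1 (Subgroup.mem_bot.mp (e ▸ Subgroup.mem_top x)))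
        have hz1 : z ≠ 1 := fun e => by simp [e] at hz
        have hzx : z ≠ x := fun e => hxc (e ▸ hzc)
        exact three_le_card (X := C) (a := 1) (b := ⟨x, Subgroup.mem_centralizer_singleton_iff.mpr rfl⟩)
          (c := ⟨z, Subgroup.mem_centralizer_singleton_iff.mpr (Subgroup.mem_center_iff.mp hzc x).symm⟩)
          (fun e => hx1 (congrArg Subtype.val e).symm) (fun e => hz1 (congrArg Subtype.val e).symm)
          (fun e => hzx (congrArg Subtype.val e).symm)
    rw [hk] at hC4 hC3 ⊢
    rcases k with _ | _ | _ | k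
    · omega
    · omega
    · rfl
    · have : 2 ^ 3 ≤ 2 ^ (k + 3) := Nat.pow_le_pow_right two_pos (by omega)
      omega
  have hregc : ∀ w : Ω, w ∉ MulAction.orbit P α → Nat.card (MulAction.orbit P w) = Nat.card P := by
    intro w hw
    have : MulAction.stabilizer P w = ⊥ :=
      eq_bot_iff.mpr fun x hx => Subgroup.mem_bot.mpr (hreg w hw x (MulAction.mem_stabilizer_iff.mp hx))
    rw [Nat.card_coe_set_eq, ← MulAction.index_stabilizer, this, Subgroup.index_bot]
  refine ⟨hP4, ⟨α, horbc, hregc⟩, ?_⟩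
  -- `|Ω| ≡ 2` modulo `|P|`
  have hΩ : ∃ k, Fintype.card Ω = 2 + k * Nat.card P := by
    haveI := Fintype.ofFinite (MulAction.orbitRel.Quotient P Ω)
    have h1 : Nat.card Ω = ∑ q : MulAction.orbitRel.Quotient P Ω, Nat.card (MulAction.orbit P q.out) := by
      rw [Nat.card_congr (MulAction.selfEquivSigmaOrbits P Ω), Nat.card_sigma]
    rw [Nat.card_eq_fintype_card (α := Ω)] at h1
    let q₀ : MulAction.orbitRel.Quotient P Ω := ⟦α⟧
    rw [h1, ← Finset.add_sum_erase _ _ (Finset.mem_univ q₀)]
    have hq0 : MulAction.orbit P q₀.out = MulAction.orbit P α :=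
      MulAction.orbit_eq_iff.mpr (MulAction.orbitRel_apply.mp (Quotient.mk_out (s := MulAction.orbitRel P Ω) α))
    refine ⟨(Finset.univ.erase q₀).card, ?_⟩
    rw [hq0, horbc, Finset.sum_congr rfl (g := fun _ => Nat.card P), Finset.sum_const, smul_eq_mul]
    intro q hq
    refine hregc _ fun h => (Finset.mem_erase.mp hq).1 ?_
    rw [← Quotient.out_eq q]
    exact Quotient.sound (MulAction.orbitRel_apply.mpr h)
  obtain ⟨k, hk⟩ := hΩ
  have hPeven : 4 ∣ Nat.card P := by
    obtain ⟨j, hj⟩ := hP2.exists_card_eq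
    rw [hj] at hP4 ⊢
    have : 2 ≤ j := by
      by_contra hh
      interval_cases j <;> simp at hP4
    exact pow_dvd_pow 2 this
  have hbig : 2 < Fintype.card Ω := by
    rcases Nat.eq_zero_or_pos k with rfl | hk0
    · exfalso
      obtain ⟨g, hg1, hg2⟩ := hex
      apply hg1
      apply eq_of_smul_eq_smul (α := Ω)
      intro w
      rw [one_smul]
      have hall : MulAction.fixedBy Ω g = Set.univ := by
        apply Set.eq_of_subset_of_ncard_le (Set.subset_univ _) ?_ (Set.toFinite _)
        rw [Set.ncard_univ, Nat.card_eq_fintype_card, hk, ← Nat.card_coe_set_eq, hg2]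
        simp
      exact (Set.eq_univ_iff_forall.mp hall) w
    · have := Nat.le_mul_of_pos_left (Nat.card P) hk0
      omega
  have hTodd : Odd (T.relIndex A) := by
    rw [Nat.odd_iff, ← Nat.not_even_iff, even_iff_two_dvd]
    intro h2
    have hi : P.index * 2 = T.index := by rw [← hrel, mul_comm, Subgroup.relIndex_mul_index hTP]
    have hi2 : T.relIndex A * Fintype.card Ω = T.index := by
      rw [← Nat.card_eq_fintype_card, ← MulAction.index_stabilizer_of_transitive G α,
        Subgroup.relIndex_mul_index inf_le_right]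
    have h4 : 2 * 2 ∣ P.index * 2 := by
      rw [hi, ← hi2]
      refine Nat.mul_dvd_mul h2 ?_
      rw [hk]
      exact dvd_add dvd_rfl (dvd_mul_of_dvd_right (dvd_trans (by norm_num) hPeven) k)
    exact S.not_dvd_index (Nat.dvd_of_mul_dvd_mul_right two_pos h4)
  have huP : (u : G) ∈ P := u.2
  obtain ⟨M, hMn, hMi, hMT⟩ : ∃ M : Subgroup G, M.Normal ∧ M.index = 2 ∧ ∀ x ∈ P, x ∈ M → x ∈ T := by
    by_cases hcyc : IsCyclic P
    · -- cyclic case: transfer
      have hmin : (Nat.card G).minFac = 2 :=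
        Nat.minFac_eq_two_iff _ |>.mpr (((dvd_trans (by norm_num) hPeven)).trans (Subgroup.card_subgroup_dvd_card P))
      have hN := IsCyclic.normalizer_le_centralizer (P := S) hmin hcyc
      set f := MonoidHom.transferSylow S hN with hf
      have hdodd : Nat.Coprime (Nat.card P) P.index := by
        obtain ⟨j, hj⟩ := hP2.exists_card_eq
        rw [hj]
        exact Nat.Coprime.pow_left _ ((Nat.prime_two.coprime_iff_not_dvd).mpr S.not_dvd_index)
      have hfP : ∀ x : P, f x = x ^ P.index := fun x =>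
        (MonoidHom.transferSylow_eq_pow S hN _ x.2).trans (Subtype.ext (by simp [hP]))
      have hsurj : Function.Surjective f := fun y => by
        refine ⟨(((powCoprime hdodd).symm y : P) : G), ?_⟩
        rw [hfP]
        exact (powCoprime hdodd).apply_symm_apply y
      haveI : T'.Normal := Subgroup.normal_of_index_eq_two hTi
      refine ⟨T'.comap f, inferInstance, (Subgroup.index_comap_of_surjective _ hsurj).trans hTi, ?_⟩
      intro x hx hxM
      have h1 : (⟨x, hx⟩ : P) ^ P.index ∈ T' := by rw [← hfP]; exact hxM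
      have h2 : (⟨x, hx⟩ : P) ^ 2 ∈ T' := by rw [sq]; exact Subgroup.mul_self_mem_of_index_two hTi _
      obtain ⟨j, hj⟩ := Nat.not_even_iff_odd.mp (fun e => S.not_dvd_index (even_iff_two_dvd.mp e))
      have h3 : (⟨x, hx⟩ : P) ^ P.index = ((⟨x, hx⟩ : P) ^ 2) ^ j * ⟨x, hx⟩ := by
        rw [← pow_mul, ← pow_succ]; congr 1
      rw [h3] at h1
      exact (Subgroup.mul_mem_cancel_left T' (pow_mem h2 j)).mp h1
    · -- noncyclic case: the sign
      set f : G →* ℤˣ := Equiv.Perm.sign.comp (MulAction.toPermHom G Ω) with hf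
      have hodd : ∀ x : P, x ∉ T' → f x = -1 := by
        intro x hx
        have hxα : (x : G) • α = β := (hPcase x).resolve_left fun h => hx ((hT'mem x).mpr h)
        have hxβ : (x : G) • β = α := by
          rcases hPcase (x * u) with h | h
          · simpa [mul_smul] using h
          · exfalso
            have h' : (x : G) • β = β := by simpa [mul_smul, hβ] using h
            exact huα (MulAction.injective (x : G) (h'.trans hxα.symm))
        have hnotorb : ∀ w, w ≠ α → w ≠ β → w ∉ MulAction.orbit P α := by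
          intro w h1 h2; rw [horb]; simp [h1, h2]
        apply FixityTwo.sign_eq_neg_one (MulAction.toPerm (x : G)) α β (Ne.symm huα) hxα hxβ
        · intro n w h1 h2 hfixw
          have hpow : (MulAction.toPerm (x : G) : Equiv.Perm Ω) ^ n = MulAction.toPerm ((x : G) ^ n) :=
            (map_pow (MulAction.toPermHom G Ω) (x : G) n).symm
          rw [hpow] at hfixw ⊢
          have := hreg w (hnotorb w h1 h2) (x ^ n) (by simpa using hfixw)
          have hxn : (x : G) ^ n = 1 := by simpa using congrArg Subtype.val this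
          rw [hxn]; ext; simp
        · intro w hw
          by_cases h1 : w = α
          · subst h1; exact huα (hxα.symm.trans hw)
          by_cases h2 : w = β
          · subst h2; exact huα (hw.symm.trans hxβ)
          exact hx (hreg w (hnotorb w h1 h2) x hw ▸ one_mem _)
        · rw [hk, Nat.add_sub_cancel_left]
          refine dvd_mul_of_dvd_right ?_ k
          obtain ⟨j, hj⟩ := hP2.exists_card_eq
          have hd1 : orderOf x ∣ 2 ^ j := hj ▸ orderOf_dvd_natCard x
          obtain ⟨i, hi, hix⟩ := (Nat.dvd_prime_pow Nat.prime_two).mp hd1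
          have hij : i ≠ j := fun e => hcyc (isCyclic_of_orderOf_eq_card x (by rw [hix, e, hj]))
          have hperm : orderOf (MulAction.toPerm (x : G) : Equiv.Perm Ω) ∣ orderOf x := by
            rw [← Subgroup.orderOf_coe]
            exact orderOf_map_dvd (MulAction.toPermHom G Ω) (x : G)
          refine (Nat.mul_dvd_mul_left 2 hperm).trans ?_
          rw [hix, hj, ← pow_succ']
          exact pow_dvd_pow 2 (by omega)
      refine ⟨f.ker, inferInstance, ?_, ?_⟩
      · rw [Subgroup.index_ker]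
        have hrange : f.range = ⊤ := by
          rw [eq_top_iff]
          intro y _
          rcases Int.units_eq_one_or y with rfl | rfl
          · exact one_mem _
          · exact ⟨u, hodd u huT'⟩
        rw [hrange, Subgroup.card_top, Nat.card_eq_fintype_card]
        rfl
      · intro x hx hxM
        by_contra h
        exact absurd ((MonoidHom.mem_ker.mp hxM).symm.trans (hodd ⟨x, hx⟩ h)) (by decide)
  have hTM : T ≤ M := by
    have h1 : M ⊓ P ≤ T := fun x hx => hMT x hx.2 hx.1
    have h2 : M.relIndex P ∣ 2 := hMi ▸ Subgroup.relIndex_dvd_index_of_normal M P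
    have h3 : (M ⊓ P).relIndex P = M.relIndex P := Subgroup.inf_relIndex_right M P
    have h4 := Subgroup.relIndex_mul_relIndex (M ⊓ P) T P h1 hTP
    rw [h3, hrel] at h4
    have h5 := Nat.le_of_dvd two_pos h2
    have h6 : 1 ≤ (M ⊓ P).relIndex T := Nat.one_le_iff_ne_zero.mpr Subgroup.index_ne_zero_of_finite
    have h7 : (M ⊓ P).relIndex T = 1 := by omega
    exact (Subgroup.relIndex_eq_one.mp h7).trans inf_le_left
  exact ⟨M, hMn, Or.inl hMi, frobenius htr hfix hbig α hMn hMi hTM inf_le_right hT2 hT0 hTodd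
    (fun h => huT' (hMT _ huP h)) hTβ⟩

end Cfsg.Agent.S3390
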