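import Cfsg.Statements.S3391
import Cfsg.Agent.Lib.KnownB.SuzukiFixedPoints
-- import your own Cfsg.Agent.* helpers here

set_option autoImplicit false
open Cfsg

open CfsgLib.KnownB.Suzuki

namespace Cfsg.Agent.S3391

/-- Let q = 2^{2m+1} ≥ 8 and let G be isomorphic to the Suzuki group Sz(q). If G acts faithfully and transitively on a finite set Ω with fixity 2 (every non-identity element fixes at most two points, and some fixes exactly two), then either |Ω| = q² + 1 and the action is 2-transitive, or |Ω| = q²(q² + 1) and the point stabilizers have order q − 1. -/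
theorem result {G : Type*} [Group G] [Finite G] (F : Type) [Field F] [Fintype F] (m : ℕ) (hm : 1 ≤ m) (hF : Fintype.card F = 2 ^ (2 * m + 1))
    (e : G ≃* ↥(Cfsg.Lie.Sz F (2 ^ (m + 1)))) {Ω : Type*} [Fintype Ω] [MulAction G Ω] [FaithfulSMul G Ω] (htr : MulAction.IsPretransitive G Ω)
    (hfix : ∀ g : G, g ≠ 1 → Nat.card (MulAction.fixedBy Ω g) ≤ 2) (hex : ∃ g : G, g ≠ 1 ∧ Nat.card (MulAction.fixedBy Ω g) = 2) :
    (Fintype.card Ω = Fintype.card F ^ 2 + 1 ∧ MulAction.IsMultiplyPretransitive G Ω 2) ∨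
    (Fintype.card Ω = Fintype.card F ^ 2 * (Fintype.card F ^ 2 + 1) ∧ ∀ α : Ω, Nat.card (MulAction.stabilizer G α) = Fintype.card F - 1) := by
  classical
  haveI := htr
  obtain ⟨g₁, hg₁, hc₁⟩ := hex
  have : Nonempty Ω := by
    by_contra hne
    rw [not_nonempty_iff] at hne
    rw [Nat.card_of_isEmpty] at hc₁
    omega
  obtain ⟨α⟩ := this
  have hp := params_of_card hm hF
  set M := (MulAction.stabilizer G α).map e.toMonoidHom with hMdef
  have hcM : Nat.card M = Nat.card (MulAction.stabilizer G α) :=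
    Subgroup.card_map_of_injective e.injective
  have hcnt : ∀ g : G, cnt M (e g) = Nat.card (MulAction.fixedBy Ω g) * Nat.card M := fun g => by
    rw [hMdef, cnt_map, hcM, card_fixedBy_mul]
  have hle : ∀ z, z ≠ 1 → cnt M z ≤ 2 * Nat.card M := by
    intro z hz
    obtain ⟨g, rfl⟩ := e.surjective z
    rw [hcnt]
    exact Nat.mul_le_mul_right _ (hfix g fun h => hz (by rw [h, map_one]))
  have hindex : ∀ β : Ω, Fintype.card Ω * Nat.card (MulAction.stabilizer G β) =
      Fintype.card F ^ 2 * (Fintype.card F ^ 2 + 1) * (Fintype.card F - 1) := by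
    intro β
    rw [← card_eq hp, ← Nat.card_congr e.toEquiv, ← (MulAction.stabilizer G β).index_mul_card,
      MulAction.index_stabilizer_of_transitive, Nat.card_eq_fintype_card (α := Ω)]
  have hq := hp.eight
  have hΩ : 0 < Fintype.card Ω := Fintype.card_pos_iff.2 ⟨α⟩
  rcases stabilizer_cases hm hF M hle
    ⟨e g₁, fun h => hg₁ (e.injective (h.trans (map_one e).symm)), by rw [hcnt, hc₁]⟩ with h | ⟨c, hc⟩
  · have h1 := hindex α
    rw [hcM] at h
    rw [h] at h1
    have hΩeq : Fintype.card Ω = Fintype.card F ^ 2 * (Fintype.card F ^ 2 + 1) :=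
      Nat.eq_of_mul_eq_mul_right (by omega) h1
    refine Or.inr ⟨hΩeq, fun β => ?_⟩
    have h2 := hindex β
    rw [hΩeq] at h2
    exact Nat.eq_of_mul_eq_mul_left (by positivity) h2
  · left
    set β := e.symm c • α with hβ
    have hstab : ∀ g : G, g • β = β ↔ e g ∈ borel F (2 ^ (m + 1)) := by
      intro g
      have h1 : g • β = β ↔ (e.symm c)⁻¹ * g * e.symm c ∈ MulAction.stabilizer G α := by
        rw [MulAction.mem_stabilizer_iff, hβ, mul_smul, mul_smul, inv_smul_eq_iff]
      rw [h1, ← hc, mem_conjSub', hMdef, ← Subgroup.mem_map_iff_mem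
        (f := e.toMonoidHom) e.injective]
      simp
    let f : Cfsg.Lie.Sz F (2 ^ (m + 1)) ⧸ borel F (2 ^ (m + 1)) → Ω :=
      Quotient.lift (fun x => e.symm x • β) (fun x y hxy => by
        have hxy' : x⁻¹ * y ∈ borel F (2 ^ (m + 1)) := QuotientGroup.leftRel_apply.1 hxy
        have h2 : e.symm (x⁻¹ * y) • β = β := (hstab _).2 (by rwa [e.apply_symm_apply])
        rw [map_mul, map_inv, mul_smul, inv_smul_eq_iff] at h2
        exact h2.symm)
    have hfmk : ∀ x : Cfsg.Lie.Sz F (2 ^ (m + 1)), f (QuotientGroup.mk x) = e.symm x • β :=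
      fun _ => rfl
    have hbij : Function.Bijective f := by
      constructor
      · intro a b hab
        obtain ⟨x, rfl⟩ := QuotientGroup.mk_surjective a
        obtain ⟨y, rfl⟩ := QuotientGroup.mk_surjective b
        rw [hfmk, hfmk] at hab
        rw [QuotientGroup.eq]
        have h2 : e.symm (x⁻¹ * y) • β = β := by
          rw [map_mul, map_inv, mul_smul, inv_smul_eq_iff, hab]
        simpa using (hstab _).1 h2
      · intro ω
        obtain ⟨g, hg⟩ := MulAction.exists_smul_eq G β ω
        exact ⟨QuotientGroup.mk (e g), by rw [hfmk, e.symm_apply_apply, hg]⟩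
    refine ⟨?_, ?_⟩
    · rw [← Nat.card_eq_fintype_card, ← Nat.card_congr (Equiv.ofBijective f hbij),
        card_coset hp.twist]
    · have h2 := two_pretransitive hp.twist
      rw [MulAction.is_two_pretransitive_iff] at h2 ⊢
      intro a b a' b' hab hab'
      obtain ⟨a, rfl⟩ := hbij.2 a
      obtain ⟨b, rfl⟩ := hbij.2 b
      obtain ⟨a', rfl⟩ := hbij.2 a'
      obtain ⟨b', rfl⟩ := hbij.2 b'
      obtain ⟨z, hz1, hz2⟩ := @h2 a b a' b' (fun h => hab (congrArg f h))
        (fun h => hab' (congrArg f h))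
      have hsm : ∀ (z : Cfsg.Lie.Sz F (2 ^ (m + 1))) x, e.symm z • f x = f (z • x) := by
        intro z x
        obtain ⟨x, rfl⟩ := QuotientGroup.mk_surjective x
        rw [MulAction.Quotient.smul_mk, hfmk, hfmk, smul_smul, smul_eq_mul, map_mul]
      exact ⟨e.symm z, by rw [hsm, hz1], by rw [hsm, hz2]⟩

end Cfsg.Agent.S3391
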