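import Cfsg.Statements.S3396
import Cfsg.Agent.Lib.Recognition.PrimeOrders.Reduce

set_option autoImplicit false
open Cfsg

namespace Cfsg.Agent.S3396

/-- Let G be a finite group whose order has at least three distinct prime divisors, and suppose every nonidentity element of G has order a power of 2 or a prime other than 5. Then G is isomorphic to PSL₂(7) (here F is any field with 7 elements). In particular a finite group whose set of element orders is {1, 2, 3, 4, 7} is PSL₂(7). -/
theorem result {G : Type*} [Group G] [Finite G]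
    {F : Type*} [Field F] [Fintype F] (hF : Fintype.card F = 7)
    (h3 : 3 ≤ (Nat.card G).primeFactors.card)
    (hord : ∀ g : G, g ≠ 1 → (∃ k : ℕ, orderOf g = 2 ^ k) ∨ ((orderOf g).Prime ∧ orderOf g ≠ 5)) :
    Nonempty (G ≃* Matrix.ProjectiveSpecialLinearGroup (Fin 2) F) := by
  haveI : Fact (Nat.Prime 7) := ⟨by norm_num⟩
  obtain ⟨e⟩ := CfsgLib.Recognition.PrimeOrders.Ord.nonempty_equiv hord h3
  obtain ⟨j⟩ := CfsgLib.Classical.Dickson.psl_congr (RingEquiv.refl (ZMod 7))
  obtain ⟨i⟩ := CfsgLib.Classical.Dickson.psl_congr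
    (FiniteField.ringEquivOfCardEq (K := ZMod 7) (K' := F) (by rw [hF, ZMod.card]))
  exact ⟨e.trans (j.symm.trans i)⟩

end Cfsg.Agent.S3396
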