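import Cfsg.Statements.S3406
import Cfsg.Agent.Lib.Recognition.FiveOrbits.CaseA
import Cfsg.Agent.Lib.Recognition.FiveOrbits.FourOrder
import Cfsg.Agent.Lib.Recognition.FiveOrbits.Mixed.Main
import Cfsg.Agent.Lib.Recognition.CIT.Main

set_option autoImplicit false
open Cfsg

namespace Cfsg.Agent.S3406

/-- A non-abelian finite simple group on whose elements the full automorphism group has at most five orbits is isomorphic to the alternating group of degree 5 or 6, to PSL(2, 7) or to PSL(2, 8). -/
theorem result {G : Type*} [Group G] [Finite G] [IsSimpleGroup G] (hG : ¬ IsMulCommutative G)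
    (h5 : Nat.card (MulAction.orbitRel.Quotient (MulAut G) G) ≤ 5) :
    Nonempty (G ≃* ↥(alternatingGroup (Fin 5))) ∨ Nonempty (G ≃* ↥(alternatingGroup (Fin 6))) ∨
      (∃ (F : Type) (_ : Field F) (_ : Fintype F), (Fintype.card F = 7 ∨ Fintype.card F = 8) ∧
        Nonempty (G ≃* Matrix.ProjectiveSpecialLinearGroup (Fin 2) F)) := by
  classical
  change CfsgLib.Recognition.FiveOrbits.Concl G
  open CfsgLib.Recognition.FiveOrbits in
  by_cases h4 : 4 ∈ spec G
  · refine concl_of_four hG h5 h4 (CfsgLib.Recognition.CIT.IsCIT.classification (fun t ht => ?_) hG)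
    haveI : Fact (Nat.Prime 2) := ⟨Nat.prime_two⟩
    refine IsPGroup.iff_orderOf.2 fun x => ?_
    rw [← Subgroup.orderOf_coe]
    by_cases hx1 : (x : G) = 1
    · exact ⟨0, by rw [hx1]; simp⟩
    obtain ⟨p, k, hp, hk, he⟩ := (isPrimePow_nat_iff _).1 (isPrimePow_orders hG h5 h4 (x : G) hx1)
    by_cases hp2 : p = 2
    · exact ⟨k, by rw [← he, hp2]⟩
    exfalso
    have hc : Commute t (x : G) := (Subgroup.mem_centralizer_singleton_iff.1 x.2).symm
    have hco : (orderOf t).Coprime (orderOf (x : G)) := by
      rw [ht, ← he]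
      exact ((Nat.coprime_primes Nat.prime_two hp).2 (Ne.symm hp2)).pow_right k
    have hm := hc.orderOf_mul_eq_mul_orderOf_of_coprime hco
    rw [ht, ← he] at hm
    by_cases htx : t * (x : G) = 1
    · rw [htx, orderOf_one] at hm
      omega
    obtain ⟨p', k', hp', -, he'⟩ := (isPrimePow_nat_iff _).1 (isPrimePow_orders hG h5 h4 _ htx)
    rw [hm] at he'
    have h2 := (Nat.prime_dvd_prime_iff_eq Nat.prime_two hp').1
      (Nat.prime_two.dvd_of_dvd_pow (he'.symm ▸ dvd_mul_right 2 _))
    have hpp := (Nat.prime_dvd_prime_iff_eq hp hp').1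
      (hp.dvd_of_dvd_pow (he'.symm ▸ (dvd_pow_self p hk.ne').mul_left 2))
    exact hp2 (hpp.trans h2.symm)
  · by_cases hA : ∀ t x : G, orderOf t = 2 → Commute t x → x * x = 1
    · exact CfsgLib.Recognition.FiveOrbits.concl_of_elementary hG h5 hA
    · exfalso
      push Not at hA
      obtain ⟨t, x, ht, hc, hx⟩ := hA
      obtain ⟨a, m, hm, hord⟩ := Nat.exists_eq_two_pow_mul_odd (orderOf_pos x).ne'
      have hdvd : ∀ d : ℕ, d ∣ orderOf x → ∃ y : G, Commute t y ∧ orderOf y = d := by
        rintro d ⟨c, hc'⟩
        refine ⟨x ^ c, hc.pow_right c, ?_⟩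
        have hc0 : c ≠ 0 := by rintro rfl; rw [mul_zero] at hc'; exact (orderOf_pos x).ne' hc'
        rw [orderOf_pow_of_dvd hc0 (hc' ▸ dvd_mul_left c d), hc', Nat.mul_div_cancel _ (Nat.pos_of_ne_zero hc0)]
      have hm1 : m ≠ 1 := by
        rintro rfl
        rw [mul_one] at hord
        rcases Nat.lt_or_ge a 2 with h | h
        · refine hx ?_
          rw [← pow_two]
          refine orderOf_dvd_iff_pow_eq_one.1 (hord ▸ ?_)
          interval_cases a <;> norm_num
        · obtain ⟨y, -, hy⟩ := hdvd (2 ^ 2) (hord ▸ pow_dvd_pow 2 h)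
          exact h4 (mem_spec.2 ⟨y, by rw [hy]; rfl⟩)
      set q := m.minFac
      have hq : q.Prime := Nat.minFac_prime hm1
      have hqd : q ∣ m := Nat.minFac_dvd m
      have hq2 : q ≠ 2 := fun e => Nat.not_even_iff_odd.2 hm (even_iff_two_dvd.2 (e ▸ hqd))
      obtain ⟨y, hty, hy⟩ := hdvd q (hord ▸ hqd.mul_left _)
      have hco : (orderOf t).Coprime (orderOf y) := by
        rw [ht, hy]; exact (Nat.coprime_primes Nat.prime_two hq).2 hq2.symm
      have hty2 : orderOf (t * y) = 2 * q := by
        rw [hty.orderOf_mul_eq_mul_orderOf_of_coprime hco, ht, hy]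
      obtain ⟨r, hr, hr2, hrq⟩ : ∃ r ∈ (Nat.card G).primeFactors, r ≠ 2 ∧ r ≠ q := by
        by_contra hcon
        push Not at hcon
        have hsub : (Nat.card G).primeFactors ⊆ {2, q} := fun p hp => by
          simp only [Finset.mem_insert, Finset.mem_singleton]
          by_cases h : p = 2
          · exact Or.inl h
          · exact Or.inr (hcon p hp h)
        have := (three_le_primes hG).trans ((Finset.card_le_card hsub).trans Finset.card_le_two)
        omega
      have hrp : r.Prime := Nat.prime_of_mem_primeFactors hr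
      have hq3 : 3 ≤ q := by have := hq.two_le; omega
      have hr3 : 3 ≤ r := by have := hrp.two_le; omega
      have hrodd := Nat.odd_iff.1 (hrp.odd_of_ne_two hr2)
      have hcard : ({1, 2, q, r, 2 * q} : Finset ℕ).card = 5 := by
        rw [Finset.card_insert_of_notMem (by simp; omega), Finset.card_insert_of_notMem (by simp; omega),
          Finset.card_insert_of_notMem (by simp; omega), Finset.card_insert_of_notMem (by simp; omega),
          Finset.card_singleton]
      have hsub : ({1, 2, q, r, 2 * q} : Finset ℕ) ⊆ spec G := by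
        intro k hk
        simp only [Finset.mem_insert, Finset.mem_singleton] at hk
        rcases hk with rfl | rfl | rfl | rfl | rfl
        · exact one_mem_spec
        · exact mem_spec.2 ⟨t, ht⟩
        · exact mem_spec.2 ⟨y, hy⟩
        · exact prime_mem_spec hr
        · exact mem_spec.2 ⟨t * y, hty2⟩
      have heq : ({1, 2, q, r, 2 * q} : Finset ℕ) = spec G :=
        Finset.eq_of_subset_of_card_le hsub (by rw [hcard]; exact spec_card_le h5)
      exact Mixed.elim (q := q) (r := r)
        { hq := hq, hr := hrp, q2 := hq2, r2 := hr2, qr := hrq.symm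
          ord := fun z => by
            have := heq ▸ orderOf_mem_spec z
            simpa using this
          orb := fun a b hab => orbit_of_orderOf_eq h5 (by rw [← heq, hcard]) hab
          mixed := ⟨t * y, hty2⟩
          dvd := Nat.dvd_of_mem_primeFactors hr
          simple := inferInstance
          noncomm := hG }

end Cfsg.Agent.S3406
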