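import Cfsg.Statements.S3410
import Cfsg.Agent.Lib.CentreFamily.Result
import Cfsg.Agent.Lib.Components.GenFitting

set_option autoImplicit false
open Cfsg

namespace Cfsg.Agent.S3410

/-- Let a finite group G act faithfully and 2-transitively on a finite set X, and let N be an abelian normal subgroup of the stabilizer of a point x which is not semiregular on the remaining points (some non-identity element of N fixes a second point). Then the generalized Fitting subgroup of G is isomorphic to PSL_n(F) for some n ≥ 3 and some finite field F. -/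
theorem result {G X : Type*} [Group G] [Finite G] [Fintype X]
    [MulAction G X] [FaithfulSMul G X] (h2 : MulAction.IsMultiplyPretransitive G X 2) (x : X)
    (N : Subgroup G) (hNle : N ≤ MulAction.stabilizer G x)
    (hNnormal : ∀ g ∈ MulAction.stabilizer G x, ∀ n ∈ N, g * n * g⁻¹ ∈ N) (hNab : IsMulCommutative N)
    (hnsr : ∃ n ∈ N, n ≠ 1 ∧ ∃ y : X, y ≠ x ∧ n • y = y) :
    ∃ (F : Type) (_ : Field F) (_ : Fintype F) (n : ℕ), 3 ≤ n ∧
      Nonempty (↥(Cfsg.generalizedFittingSubgroup G) ≃* Matrix.ProjectiveSpecialLinearGroup (Fin n) F) := by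
  obtain ⟨m, F, hF, hFt, hm, -, M, hM, ⟨e⟩, hc⟩ := CfsgLib.CentreFamily.exists_psl h2 x N hNle hNnormal
    (fun a ha b hb => congrArg Subtype.val (hNab.is_comm.comm (⟨a, ha⟩ : N) ⟨b, hb⟩)) hnsr
  refine ⟨F, hF, hFt, m + 1, by omega, ?_⟩
  haveI := hM
  haveI hsimp : IsSimpleGroup M := by
    haveI := CfsgLib.Classical.psl_fin_isSimpleGroup (F := F) (k := m + 1) (by omega) (fun h => absurd h (by omega))
    haveI : Nontrivial M := e.toEquiv.nontrivial
    exact IsSimpleGroup.isSimpleGroup_of_surjective e.symm.toMonoidHom e.symm.surjective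
  have key : Cfsg.generalizedFittingSubgroup G = M := by
    set Fs := Cfsg.generalizedFittingSubgroup G
    have hinf : Cfsg.fittingSubgroup G ⊓ M = ⊥ := by
      by_contra hne
      have htop : M ≤ Cfsg.fittingSubgroup G := by
        rcases hsimp.eq_bot_or_eq_top_of_normal ((Cfsg.fittingSubgroup G).subgroupOf M) inferInstance with h | h
        · rw [Subgroup.subgroupOf_eq_bot] at h
          exact absurd (disjoint_iff.1 h) hne
        · exact Subgroup.subgroupOf_eq_top.1 h
      haveI : Group.IsNilpotent M :=
        (Group.isNilpotent_congr (Subgroup.subgroupOfEquivOfLe htop)).mp inferInstance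
      have hab : IsMulCommutative M := by
        have hs : Group.IsSolvable M := inferInstance
        exact ⟨⟨IsSimpleGroup.comm_iff_isSolvable.2 hs⟩⟩
      have : M ≤ Subgroup.centralizer (M : Set G) := Subgroup.le_centralizer_iff_isMulCommutative.2 hab
      rw [hc, le_bot_iff] at this
      exact hne (by rw [this, inf_bot_eq])
    have hFc : Cfsg.fittingSubgroup G ≤ Subgroup.centralizer (M : Set G) := fun a ha =>
      Subgroup.mem_centralizer_iff.2 fun b hb =>
        ((Subgroup.commute_of_normal_of_disjoint _ _ inferInstance hM (disjoint_iff.2 hinf)) a b ha hb).symm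
    rw [hc] at hFc
    have hle : Fs ≤ M := CfsgLib.Components.generalizedFitting_le_of_centralizer_le M
      (hFc.trans bot_le) (hc.trans_le bot_le)
    refine le_antisymm hle ?_
    rcases hsimp.eq_bot_or_eq_top_of_normal (Fs.subgroupOf M) inferInstance with h | h
    · have hbot : Fs = ⊥ := by
        rw [Subgroup.subgroupOf_eq_bot, disjoint_iff, inf_eq_left.2 hle] at h
        exact h
      have h1 := CfsgLib.Components.centralizer_generalizedFitting_le (G := G)
      rw [show Cfsg.generalizedFittingSubgroup G = ⊥ from hbot] at h1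
      intro a _
      have : a ∈ (⊥ : Subgroup G) := h1 (Subgroup.mem_centralizer_iff.2 fun b hb => by
        rw [SetLike.mem_coe, Subgroup.mem_bot] at hb
        rw [hb, one_mul, mul_one])
      rw [Subgroup.mem_bot.1 this]
      exact one_mem _
    · exact Subgroup.subgroupOf_eq_top.1 h
  exact ⟨(MulEquiv.subgroupCongr key).trans e⟩

end Cfsg.Agent.S3410
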