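import Cfsg.Statements.S3412
import Cfsg.Agent.Lib.Recognition.CommutingGraphPSL33.Main

set_option autoImplicit false
open Cfsg

namespace Cfsg.Agent.S3412

/-- Let H be a finite group whose commuting graph (vertices the non-identity elements, two joined when they commute) is isomorphic to that of PSL_3(3): there is a bijection between the non-identity elements of H and of PSL_3(3) under which two elements commute exactly when their images do. Then H ≅ PSL_3(3). -/
theorem result {H : Type*} [Group H] [Finite H]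
    (f : {h : H // h ≠ 1} ≃ {g : Matrix.ProjectiveSpecialLinearGroup (Fin 3) (ZMod 3) // g ≠ 1})
    (hf : ∀ x y : {h : H // h ≠ 1}, (x : H) * y = y * x ↔ ((f x) : Matrix.ProjectiveSpecialLinearGroup (Fin 3) (ZMod 3)) * (f y) = (f y) * (f x)) :
    Nonempty (H ≃* Matrix.ProjectiveSpecialLinearGroup (Fin 3) (ZMod 3)) := by
  haveI : Fact (Nat.Prime 3) := ⟨by norm_num⟩
  have hZ : Subgroup.center (Matrix.SpecialLinearGroup (Fin 3) (ZMod 3)) = ⊥ := by
    rw [← Subgroup.card_eq_one, CfsgLib.Classical.card_center_sl 3 (by norm_num), ZMod.card]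
    rfl
  let m := QuotientGroup.mk' (Subgroup.center (Matrix.SpecialLinearGroup (Fin 3) (ZMod 3)))
  have hm : Function.Bijective m :=
    ⟨by rw [← MonoidHom.ker_eq_bot_iff, QuotientGroup.ker_mk', hZ], QuotientGroup.mk'_surjective _⟩
  let π : Matrix.SpecialLinearGroup (Fin 3) (ZMod 3) ≃*
      Matrix.ProjectiveSpecialLinearGroup (Fin 3) (ZMod 3) := MulEquiv.ofBijective m hm
  let q : {g : Matrix.ProjectiveSpecialLinearGroup (Fin 3) (ZMod 3) // g ≠ 1} ≃
      {g : Matrix.SpecialLinearGroup (Fin 3) (ZMod 3) // g ≠ 1} :=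
    π.symm.toEquiv.subtypeEquiv fun g => by simp
  obtain ⟨e⟩ := CfsgLib.Recognition.CommutingGraphPSL33.nonempty_mulEquiv_SG (f.trans q) fun x y => by
    rw [hf x y]
    show _ ↔ π.symm (f x).1 * π.symm (f y).1 = π.symm (f y).1 * π.symm (f x).1
    rw [← map_mul, ← map_mul, π.symm.injective.eq_iff]
  exact ⟨e.trans π⟩

end Cfsg.Agent.S3412
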