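import Cfsg.Statements.S3413
import Cfsg.Agent.S3592
import Cfsg.Agent.Lib.KGroups.Order7920

set_option autoImplicit false
open Cfsg

namespace Cfsg.Agent.S3413

open Subgroup in
/-- In a simple group of order 7920 a centraliser of order divisible by 11 has order 11. -/
theorem card_centralizer_eleven {G : Type*} [Group G] [Finite G] [IsSimpleGroup G]
    (hG : Nat.card G = 7920) {g : G} (hg : g ≠ 1)
    (h : 11 ∣ Nat.card ↥(centralizer ({g} : Set G))) :
    Nat.card ↥(centralizer ({g} : Set G)) = 11 := by
  haveI : Fact (Nat.Prime 11) := ⟨by norm_num⟩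
  letI := Fintype.ofFinite G
  obtain ⟨⟨x, hx⟩, hxo⟩ := exists_prime_orderOf_dvd_card' (G := centralizer ({g} : Set G)) 11 h
  rw [Subgroup.orderOf_mk] at hxo
  have hC := (CfsgLib.KGroups.M11Classes.eleven_data hG hxo).2
  have hgx : g ∈ centralizer ({x} : Set G) :=
    mem_centralizer_singleton_iff.mpr (mem_centralizer_singleton_iff.mp hx).symm
  have hgo : orderOf g = 11 := by
    have h1 := Subgroup.orderOf_dvd_natCard _ hgx
    rw [hC] at h1
    exact ((Nat.dvd_prime (by norm_num)).mp h1).resolve_left fun e => hg (orderOf_eq_one_iff.mp e)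
  exact (CfsgLib.KGroups.M11Classes.eleven_data hG hgo).2

/-- Let H be a finite group whose commuting graph (vertices the non-identity elements, two joined when they commute) is isomorphic to that of the Mathieu group M_11: there is a bijection between the non-identity elements of H and of M_11 under which two elements commute exactly when their images do. Then H ≅ M_11. -/
theorem result {H : Type*} [Group H] [Finite H]
    (f : {h : H // h ≠ 1} ≃ {g : ↥Cfsg.Spor.M11 // g ≠ 1})
    (hf : ∀ x y : {h : H // h ≠ 1}, (x : H) * y = y * x ↔ ((f x) : ↥Cfsg.Spor.M11) * (f y) = (f y) * (f x)) :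
    Nonempty (H ≃* ↥Cfsg.Spor.M11) := by
  classical
  haveI : IsSimpleGroup ↥Cfsg.Spor.M11 := S3592.simple_card.1
  haveI : Finite ↥Cfsg.Spor.M11 := inferInstance
  let F : H ≃ ↥Cfsg.Spor.M11 :=
    (Equiv.optionSubtypeNe (1 : H)).symm.trans ((Equiv.optionCongr f).trans (Equiv.optionSubtypeNe 1))
  have h1 : F 1 = 1 := by simp [F]
  have hne : ∀ x (hx : x ≠ 1), F x = (f ⟨x, hx⟩ : ↥Cfsg.Spor.M11) := fun x hx => by
    simp [F, hx]
  have hF : ∀ x y : H, F x * F y = F y * F x ↔ x * y = y * x := by
    intro x y
    by_cases hx : x = 1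
    · subst hx; simp [h1]
    by_cases hy : y = 1
    · subst hy; simp [h1]
    rw [hne x hx, hne y hy]
    exact (hf ⟨x, hx⟩ ⟨y, hy⟩).symm
  have hcard : Nat.card H = 7920 := (Nat.card_congr F).trans S3592.simple_card.2
  have hcent : ∀ h : H, h ≠ 1 → 11 ∣ Nat.card ↥(Subgroup.centralizer ({h} : Set H)) →
      Nat.card ↥(Subgroup.centralizer ({h} : Set H)) = 11 := by
    intro h hh
    rw [show Nat.card ↥(Subgroup.centralizer ({h} : Set H)) =
      Nat.card ↥(Subgroup.centralizer ({F h} : Set ↥Cfsg.Spor.M11)) from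
      Nat.card_congr (F.subtypeEquiv fun g => by
        simp only [Subgroup.mem_centralizer_singleton_iff]; exact (hF g h).symm)]
    exact card_centralizer_eleven S3592.simple_card.2 fun e => hh (F.injective (e.trans h1.symm))
  have hjoin : ∀ q : ℕ, q.Prime → CfsgLib.KGroups.Order7920.Joined H 11 q → q = 11 := by
    rintro q hq ⟨a, b, hab, ha, hb⟩
    have hane : a ≠ 1 := fun e => by rw [e, orderOf_one] at ha; norm_num at ha
    have hmem : ∀ c : H, Commute a c → orderOf c ∣ Nat.card ↥(Subgroup.centralizer ({a} : Set H)) :=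
      fun c hc => Subgroup.orderOf_dvd_natCard _ (Subgroup.mem_centralizer_singleton_iff.mpr hc.eq.symm)
    have h11 := hcent a hane (ha ▸ hmem a (Commute.refl a))
    have := hmem b hab
    rw [h11, hb] at this
    exact (Nat.prime_dvd_prime_iff_eq hq (by norm_num)).mp this
  haveI : IsSimpleGroup H := CfsgLib.KGroups.Order7920.isSimple hcard {11}
    (fun p q hp hq hpq _ _ hJ => by
      have hJ' : CfsgLib.KGroups.Order7920.Joined H q p := by
        obtain ⟨a, b, hab, ha, hb⟩ := hJ
        exact ⟨b, a, hab.symm, hb, ha⟩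
      constructor <;> intro he <;> simp only [Set.mem_singleton_iff] at he <;> subst he
      · exact absurd (hjoin q hq hJ).symm hpq
      · exact absurd (hjoin p hp hJ') hpq)
    (by simp)
  exact CfsgLib.KGroups.M11Unique.nonempty_mulEquiv hcard S3592.simple_card.2

end Cfsg.Agent.S3413
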