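import Cfsg.Statements.S3419
import Cfsg.Agent.Lib.Char.TwoPrimesInterval
import Cfsg.Agent.Lib.Solvable.Hall

set_option autoImplicit false
open Cfsg

namespace Cfsg.Agent.S3419


open scoped Nat in
theorem sylow_normal_of_card {H : Type*} [Group H] [Finite H] {p a q : ℕ} (hp : p.Prime) [Fact q.Prime]
    (hcard : Nat.card H = p ^ a * q) (hbad : ∀ i, 1 ≤ i → i ≤ a → p ^ i % q ≠ 1) (hpq : p ≠ q)
    (Q : Sylow q H) : (Q : Subgroup H).Normal := by
  have h1 : Nat.card (Sylow q H) ∣ p ^ a * q := hcard ▸ (Q.card_dvd_index.trans (Subgroup.index_dvd_card _))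
  have hm : Nat.card (Sylow q H) % q = 1 := by
    have := card_sylow_modEq_one q H
    rw [Nat.ModEq, Nat.one_mod_eq_one.2 (Nat.Prime.one_lt Fact.out).ne'] at this
    exact this
  have hcop : (Nat.card (Sylow q H)).Coprime q := by
    refine Nat.Coprime.symm ((Nat.Prime.coprime_iff_not_dvd Fact.out).2 fun h => ?_)
    rw [Nat.mod_eq_zero_of_dvd (Nat.dvd_of_mod_eq_zero (Nat.mod_eq_zero_of_dvd h))] at hm
    omega
  have h2 : Nat.card (Sylow q H) ∣ p ^ a := hcop.dvd_of_dvd_mul_right h1
  obtain ⟨i, hi, hi'⟩ := (Nat.dvd_prime_pow hp).1 h2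
  have hone : Nat.card (Sylow q H) = 1 := by
    rcases Nat.eq_zero_or_pos i with h | h
    · rw [hi', h, pow_zero]
    · exact absurd (hi' ▸ hm) (hbad i h hi)
  haveI : Subsingleton (Sylow q H) := (Nat.card_eq_one_iff_unique.1 hone).1
  exact Sylow.normal_of_subsingleton Q

/-- A group of order `p ^ a * q` (`a ≥ 1`) in which both Sylow numbers are forced to be one has an
element of order `p * q`. -/
theorem exists_orderOf_eq_mul {H : Type*} [Group H] [Finite H] {p a q : ℕ} [Fact p.Prime] [Fact q.Prime]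
    (hcard : Nat.card H = p ^ a * q) (ha : 1 ≤ a) (hbad : ∀ i, 1 ≤ i → i ≤ a → p ^ i % q ≠ 1)
    (hqp : q % p ≠ 1) (hpq : p ≠ q) : ∃ z : H, orderOf z = p * q := by
  have hp : p.Prime := Fact.out
  have hq : q.Prime := Fact.out
  obtain ⟨Q⟩ : Nonempty (Sylow q H) := inferInstance
  obtain ⟨P⟩ : Nonempty (Sylow p H) := inferInstance
  have hQn := sylow_normal_of_card hp hcard hbad hpq Q
  have hPn : (P : Subgroup H).Normal := by
    have h1 : Nat.card (Sylow p H) ∣ p ^ a * q := hcard ▸ (P.card_dvd_index.trans (Subgroup.index_dvd_card _))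
    have hm : Nat.card (Sylow p H) % p = 1 := by
      have := card_sylow_modEq_one p H
      rw [Nat.ModEq, Nat.one_mod_eq_one.2 hp.one_lt.ne'] at this
      exact this
    have hcop : (Nat.card (Sylow p H)).Coprime (p ^ a) := by
      refine Nat.Coprime.pow_right _ (Nat.Coprime.symm (hp.coprime_iff_not_dvd.2 fun h => ?_))
      rw [Nat.mod_eq_zero_of_dvd h] at hm
      omega
    have h2 : Nat.card (Sylow p H) ∣ q := hcop.dvd_of_dvd_mul_left h1
    rcases (Nat.dvd_prime hq).1 h2 with h | h
    · haveI : Subsingleton (Sylow p H) := (Nat.card_eq_one_iff_unique.1 h).1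
      exact Sylow.normal_of_subsingleton P
    · exact absurd (h ▸ hm) hqp
  obtain ⟨x, hx⟩ := exists_prime_orderOf_dvd_card' (G := (P : Subgroup H)) p (by
    rw [P.card_eq_multiplicity, hcard]
    refine dvd_pow_self p ?_
    rw [Nat.factorization_mul (pow_ne_zero _ hp.ne_zero) hq.ne_zero, Finsupp.add_apply,
      hp.factorization_pow, Finsupp.single_eq_same]
    omega)
  obtain ⟨y, hy⟩ := exists_prime_orderOf_dvd_card' (G := (Q : Subgroup H)) q (by
    rw [Q.card_eq_multiplicity, hcard]
    refine dvd_pow_self q ?_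
    rw [Nat.factorization_mul (pow_ne_zero _ hp.ne_zero) hq.ne_zero, Finsupp.add_apply,
      hq.factorization_self]
    omega)
  have hdisj : Disjoint (P : Subgroup H) (Q : Subgroup H) :=
    IsPGroup.disjoint_of_ne p q hpq _ _ P.isPGroup' Q.isPGroup'
  have hcomm : Commute (x : H) (y : H) :=
    Subgroup.commute_of_normal_of_disjoint _ _ hPn hQn hdisj _ _ x.2 y.2
  refine ⟨x * y, ?_⟩
  rw [hcomm.orderOf_mul_eq_mul_orderOf_of_coprime (by
    rw [Subgroup.orderOf_coe, Subgroup.orderOf_coe, hx, hy]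
    exact (Nat.coprime_primes hp hq).2 hpq), Subgroup.orderOf_coe, Subgroup.orderOf_coe, hx, hy]

theorem orderOf_perm_ne {n p q : ℕ} (hp : p.Prime) (hq : q.Prime) (hne : p ≠ q) (hsum : n < p + q)
    (hmul : n < p * q) (σ : Equiv.Perm (Fin n)) : orderOf σ ≠ p * q := by
  intro h
  have hl := Equiv.Perm.lcm_cycleType σ
  rw [h] at hl
  have key : ∀ r : ℕ, r.Prime → r ∣ σ.cycleType.lcm → ∃ c ∈ σ.cycleType, r ∣ c := by
    intro r hr
    induction σ.cycleType using Multiset.induction with
    | empty => simp [hr.ne_one]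
    | cons a s ih =>
      intro hd
      rw [Multiset.lcm_cons] at hd
      rcases (Nat.Prime.dvd_mul hr).1 (hd.trans (Nat.lcm_dvd_mul a s.lcm)) with h' | h'
      · exact ⟨a, Multiset.mem_cons_self _ _, h'⟩
      · obtain ⟨c, hc, hc'⟩ := ih h'
        exact ⟨c, Multiset.mem_cons_of_mem hc, hc'⟩
  obtain ⟨c, hc, hpc⟩ := key p hp (hl ▸ Dvd.intro q rfl)
  obtain ⟨d, hd, hqd⟩ := key q hq (hl ▸ Dvd.intro_left p rfl)
  have hle : σ.cycleType.sum ≤ n := (Equiv.Perm.sum_cycleType_le σ).trans_eq (Fintype.card_fin n)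
  have hcpos : 0 < c := lt_trans one_pos (Equiv.Perm.one_lt_of_mem_cycleType hc)
  have hdpos : 0 < d := lt_trans one_pos (Equiv.Perm.one_lt_of_mem_cycleType hd)
  by_cases hcd : c = d
  · subst hcd
    have := Nat.le_of_dvd hcpos (((Nat.coprime_primes hp hq).2 hne).mul_dvd_of_dvd_of_dvd hpc hqd)
    have := Multiset.single_le_sum (fun x _ => Nat.zero_le x) c hc
    omega
  · have hpc' := Nat.le_of_dvd hcpos hpc
    have hqd' := Nat.le_of_dvd hdpos hqd
    have hd' : d ∈ σ.cycleType.erase c := (Multiset.mem_erase_of_ne (Ne.symm hcd)).2 hd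
    have := Multiset.single_le_sum (fun x _ => Nat.zero_le x) d hd'
    have h2 : σ.cycleType.sum = c + (σ.cycleType.erase c).sum := by
      rw [← Multiset.sum_cons, Multiset.cons_erase hc]
    omega

theorem factorization_card_alternating {n p : ℕ} (hn : 2 ≤ n) (hp : p.Prime) (h2 : 2 < p)
    (hsq : n < p * p) : (Nat.card (alternatingGroup (Fin n))).factorization p = n / p := by
  haveI : Nontrivial (Fin n) := Fin.nontrivial_iff_two_le.2 hn
  have h := two_mul_nat_card_alternatingGroup (α := Fin n)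
  rw [Nat.card_perm, Nat.card_eq_fintype_card (α := Fin n), Fintype.card_fin] at h
  have h' : (2 * Nat.card (alternatingGroup (Fin n))).factorization p = n.factorial.factorization p := by rw [h]
  rw [Nat.factorization_mul (by norm_num) Nat.card_pos.ne', Finsupp.add_apply,
    Nat.factorization_eq_zero_of_not_dvd (n := 2) (fun hd => by
      have := Nat.le_of_dvd two_pos hd; omega), zero_add] at h'
  rw [h', Nat.factorization_factorial hp (b := 2)]
  · simp
  · exact Nat.log_lt_of_lt_pow (by omega) (by rw [pow_two]; exact hsq)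

theorem exists_primes {n : ℕ} (hn : 5 ≤ n) : ∃ p q : ℕ, p.Prime ∧ q.Prime ∧ p ≠ q ∧ 2 < p ∧ 2 < q ∧
    n < p * p ∧ n < q * q ∧ n < p * q ∧ n / q = 1 ∧ n < p + q ∧ 1 ≤ n / p ∧
    (∀ i, 1 ≤ i → i ≤ n / p → p ^ i % q ≠ 1) ∧ q % p ≠ 1 := by
  by_cases hbig : 11 ≤ n
  · obtain ⟨p, q, hp, hq, hlo, hpq, hhi⟩ : ∃ p q : ℕ, p.Prime ∧ q.Prime ∧ n < 2 * p ∧ p < q ∧ q ≤ n := by
      by_cases h11 : n = 11
      · exact ⟨7, 11, by norm_num, by norm_num, by omega, by omega, by omega⟩
      · obtain ⟨p, q, hp, hq, h1, h2, h3⟩ :=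
          CfsgLib.Char.TwoPrimesInterval.exists_two_primes (n := n / 2) (by omega)
        exact ⟨p, q, hp, hq, by omega, h2, by omega⟩
    have hp2 : 2 < p := by omega
    refine ⟨p, q, hp, hq, hpq.ne, hp2, by omega, by nlinarith, by nlinarith, by nlinarith,
      Nat.div_eq_of_lt_le (by omega) (by omega), by omega,
      (Nat.one_le_div_iff hp.pos).2 (by omega), ?_, ?_⟩
    · intro i hi hi2
      have : n / p = 1 := Nat.div_eq_of_lt_le (by omega) (by omega)
      obtain rfl : i = 1 := by omega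
      rw [pow_one, Nat.mod_eq_of_lt hpq]
      exact hp.ne_one
    · intro h
      have hdiv := Nat.div_add_mod q p
      have h1 : q / p = 1 := Nat.div_eq_of_lt_le (by omega) (by omega)
      rw [h1, h] at hdiv
      have hqodd := hq.eq_two_or_odd
      have hpodd := hp.eq_two_or_odd
      omega
  · interval_cases n
    · exact ⟨3, 5, by decide⟩
    · exact ⟨3, 5, by decide⟩
    · exact ⟨5, 7, by decide⟩
    · exact ⟨5, 7, by decide⟩
    · exact ⟨5, 7, by decide⟩
    · exact ⟨5, 7, by decide⟩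

/-- Let n ≥ 5 and let G be a finite group with the same order and the same set of element orders as the alternating group of degree n. Then G is not solvable. -/
theorem result {G : Type*} [Group G] [Finite G] (n : ℕ) (hn : 5 ≤ n)
    (hcard : Nat.card G = Nat.card ↥(alternatingGroup (Fin n)))
    (hspec : Set.range (orderOf : G → ℕ) = Set.range (orderOf : ↥(alternatingGroup (Fin n)) → ℕ)) :
    ¬ Group.IsSolvable G := by
  intro hsol
  obtain ⟨p, q, hp, hq, hne, hp2, hq2, hpsq, hqsq, hmul, hnq, hsum, hnp, hbad, hqp⟩ := exists_primes hn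
  haveI := Fact.mk hp
  haveI := Fact.mk hq
  have hvp : (Nat.card G).factorization p = n / p := by
    rw [hcard]; exact factorization_card_alternating (by omega) hp hp2 hpsq
  have hvq : (Nat.card G).factorization q = 1 := by
    rw [hcard, factorization_card_alternating (by omega) hq hq2 hqsq, hnq]
  set a := n / p with ha
  have hdvd : p ^ a * q ∣ Nat.card G := by
    refine (Nat.Coprime.pow_left _ ((Nat.coprime_primes hp hq).2 hne)).mul_dvd_of_dvd_of_dvd ?_ ?_
    · rw [← hvp]; exact Nat.ordProj_dvd _ _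
    · exact Nat.dvd_of_factorization_pos (by omega)
  obtain ⟨m, hm⟩ := hdvd
  have hm0 : m ≠ 0 := fun h => (Nat.card_pos (α := G)).ne' (by rw [hm, h, mul_zero])
  have hfm : ∀ r, (Nat.card G).factorization r =
      (p ^ a).factorization r + q.factorization r + m.factorization r := by
    intro r
    rw [hm, Nat.factorization_mul (mul_ne_zero (pow_ne_zero _ hp.ne_zero) hq.ne_zero) hm0,
      Finsupp.add_apply, Nat.factorization_mul (pow_ne_zero _ hp.ne_zero) hq.ne_zero, Finsupp.add_apply]
  have hmp : ¬ p ∣ m := by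
    intro h
    have := hfm p
    have := hp.factorization_pos_of_dvd hm0 h
    rw [hvp, hp.factorization_pow, Finsupp.single_eq_same] at *
    omega
  have hmq : ¬ q ∣ m := by
    intro h
    have := hfm q
    have := hq.factorization_pos_of_dvd hm0 h
    rw [hq.factorization_self] at *
    omega
  have hcop : (p ^ a * q).Coprime m :=
    Nat.Coprime.mul_left (Nat.Coprime.pow_left _ (hp.coprime_iff_not_dvd.2 hmp))
      (hq.coprime_iff_not_dvd.2 hmq)
  obtain ⟨H, hH, -⟩ := CfsgLib.Solvable.Hall.exists_hall_ge (G := G) hm hcop (K := ⊥) (by simp)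
  obtain ⟨z, hz⟩ := exists_orderOf_eq_mul hH hnp hbad hqp hne
  have hmem : p * q ∈ Set.range (orderOf : G → ℕ) := ⟨z, by rw [Subgroup.orderOf_coe, hz]⟩
  rw [hspec] at hmem
  obtain ⟨σ, hσ⟩ := hmem
  exact orderOf_perm_ne hp hq hne hsum hmul σ (by rw [Subgroup.orderOf_coe, hσ])

end Cfsg.Agent.S3419
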