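import Cfsg.Statements.S3420
import Cfsg.Agent.S3419

set_option autoImplicit false
open Cfsg

namespace Cfsg.Agent.S3420


/-- If `x` of order `p` normalises a subgroup of prime order `q` with `p ∤ q - 1`, they give an element
of order `p * q`. -/
theorem exists_mul_order {G : Type*} [Group G] [Finite G] {p q : ℕ} (hp : p.Prime) (hq : q.Prime)
    (hne : p ≠ q) (hndvd : ¬ p ∣ q - 1) (Q : Subgroup G) (hQ : Nat.card Q = q) {x : G}
    (hx : orderOf x = p) (hxQ : x ∈ Subgroup.normalizer (Q : Set G)) : ∃ z : G, orderOf z = p * q := by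
  haveI := Fact.mk hq
  haveI : IsCyclic Q := isCyclic_of_prime_card hQ
  let φ : Subgroup.normalizer (Q : Set G) →* MulAut Q := Q.normalizerMonoidHom
  have h1 : orderOf (φ ⟨x, hxQ⟩) ∣ p := by
    refine (orderOf_map_dvd φ _).trans ?_
    rw [← Subgroup.orderOf_coe]
    exact hx ▸ dvd_rfl
  have h2 : orderOf (φ ⟨x, hxQ⟩) ∣ q - 1 := by
    have := orderOf_dvd_natCard (φ ⟨x, hxQ⟩)
    rwa [IsCyclic.card_mulAut, hQ, Nat.totient_prime hq] at this
  have h3 : φ ⟨x, hxQ⟩ = 1 := by
    rcases (Nat.dvd_prime hp).1 h1 with h | h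
    · exact orderOf_eq_one_iff.1 h
    · exact absurd (h ▸ h2) hndvd
  obtain ⟨y, hy⟩ := exists_prime_orderOf_dvd_card' (G := Q) q (hQ ▸ dvd_rfl)
  have hc : x * (y : G) * x⁻¹ = y :=
    congrArg (fun f : MulAut Q => ((f y : Q) : G)) h3
  have hcomm : Commute x (y : G) := mul_inv_eq_iff_eq_mul.1 hc
  refine ⟨x * y, ?_⟩
  rw [hcomm.orderOf_mul_eq_mul_orderOf_of_coprime, hx, Subgroup.orderOf_coe, hy]
  rw [hx, Subgroup.orderOf_coe, hy]
  exact (Nat.coprime_primes hp hq).2 hne

theorem not_sq_dvd_of_factorization {m p : ℕ} (hm : m ≠ 0) (hp : p.Prime) (h : m.factorization p = 1) :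
    ¬ p * p ∣ m := by
  intro hd
  rw [← pow_two] at hd
  have := (hp.pow_dvd_iff_le_factorization hm).1 hd
  omega

/-- Frattini: `q` in a normal subgroup and `p` above it give an element of order `p * q`. -/
theorem frattini_mul_order {G : Type*} [Group G] [Finite G] {p q : ℕ} (hp : p.Prime) (hq : q.Prime)
    (hne : p ≠ q) (hndvd : ¬ p ∣ q - 1) (hvq : (Nat.card G).factorization q = 1)
    (N : Subgroup G) [N.Normal] (hqN : q ∣ Nat.card N) (hpi : p ∣ N.index) :
    ∃ z : G, orderOf z = p * q := by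
  haveI := Fact.mk hp
  haveI := Fact.mk hq
  obtain ⟨Q⟩ : Nonempty (Sylow q N) := inferInstance
  have htop := Sylow.normalizer_sup_eq_top Q
  set Q' := (Q : Subgroup N).map N.subtype with hQ'
  set M := Subgroup.normalizer (Q' : Set G) with hM
  have hcard : Nat.card Q' = q := by
    rw [hQ', Subgroup.card_map_of_injective N.subtype_injective, Q.card_eq_multiplicity]
    have h1 : 1 ≤ (Nat.card N).factorization q := hq.factorization_pos_of_dvd Nat.card_pos.ne' hqN
    have h2 := (Nat.factorization_le_iff_dvd Nat.card_pos.ne' (Nat.card_pos (α := G)).ne').2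
      (Subgroup.card_subgroup_dvd_card N) q
    rw [show (Nat.card N).factorization q = 1 by omega, pow_one]
  have hidx : N.index ∣ Nat.card M := by
    have h := Subgroup.relIndex_dvd_card N M
    rwa [← Subgroup.relIndex_sup_right, htop, Subgroup.relIndex_top_right] at h
  obtain ⟨x, hx⟩ := exists_prime_orderOf_dvd_card' (G := M) p (hpi.trans hidx)
  exact exists_mul_order hp hq hne hndvd Q' hcard (by rw [Subgroup.orderOf_coe, hx]) x.2

theorem not_dvd_card_sup {G : Type*} [Group G] [Finite G] {p : ℕ} [Fact p.Prime]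
    (M K : Subgroup G) [M.Normal] (hM : ¬ p ∣ Nat.card M) (hK : ¬ p ∣ Nat.card K) :
    ¬ p ∣ Nat.card (K ⊔ M : Subgroup G) := by
  intro hd
  obtain ⟨x, hx⟩ := exists_prime_orderOf_dvd_card' (G := (K ⊔ M : Subgroup G)) p hd
  obtain ⟨k, hk, m, hm, hkm⟩ := Subgroup.mem_sup_of_normal_right.1 x.2
  have h1 : orderOf (QuotientGroup.mk' M (x : G)) ∣ p := by
    refine (orderOf_map_dvd _ _).trans ?_
    rw [Subgroup.orderOf_coe, hx]
  have h2 : orderOf (QuotientGroup.mk' M (x : G)) ∣ Nat.card K := by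
    rw [← hkm, map_mul, show QuotientGroup.mk' M m = 1 from (QuotientGroup.eq_one_iff m).2 hm, mul_one]
    refine (orderOf_map_dvd _ _).trans ?_
    exact Subgroup.orderOf_dvd_natCard K hk
  rcases (Nat.dvd_prime Fact.out).1 h1 with h | h
  · have hxM : (x : G) ∈ M := (QuotientGroup.eq_one_iff _).1 (orderOf_eq_one_iff.1 h)
    refine hM ?_
    have := Subgroup.orderOf_dvd_natCard M hxM
    rwa [Subgroup.orderOf_coe, hx] at this
  · exact hK (h ▸ h2)

/-- A chief factor in which some prime occurs exactly once is simple. -/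
theorem simple_factor {G : Type*} [Group G] [Finite G] {p : ℕ} [Fact p.Prime]
    (hvp : (Nat.card G).factorization p = 1) (N H : Subgroup G) [N.Normal] [H.Normal] (hlt : N < H)
    (hpN : ¬ p ∣ Nat.card N) (hpH : p ∣ Nat.card H)
    (hmin : ∀ L : Subgroup G, L.Normal → N ≤ L → L ≤ H → L = N ∨ L = H) :
    IsSimpleGroup (H ⧸ N.subgroupOf H) := by
  classical
  haveI : Nontrivial (H ⧸ N.subgroupOf H) := QuotientGroup.nontrivial_iff.2 fun h =>
    not_le_of_gt hlt (Subgroup.subgroupOf_eq_top.1 h)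
  refine ⟨fun K hK => ?_⟩
  set K' := K.comap (QuotientGroup.mk' (N.subgroupOf H)) with hK'
  have hK'n : K'.Normal := hK.comap _
  have hNK : N.subgroupOf H ≤ K' := fun x hx => by
    rw [hK', Subgroup.mem_comap, QuotientGroup.mk'_apply, (QuotientGroup.eq_one_iff x).2 hx]
    exact one_mem K
  have hback : K = K'.map (QuotientGroup.mk' (N.subgroupOf H)) :=
    (Subgroup.map_comap_eq_self_of_surjective (QuotientGroup.mk'_surjective _) K).symm
  -- transport along conjugation
  let c : G → (H ≃* H) := fun g => MulAut.conjNormal g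
  have hc : ∀ g (x : H), ((c g x : H) : G) = g * x * g⁻¹ := fun g x => MulAut.conjNormal_apply g x
  suffices h : K' = N.subgroupOf H ∨ K' = ⊤ by
    rcases h with h | h
    · left; rw [hback, h, QuotientGroup.map_mk'_self]
    · right
      rw [hback, h, Subgroup.map_top_of_surjective _ (QuotientGroup.mk'_surjective _)]
  by_cases hp : p ∣ Nat.card K'
  · right
    have hmem : ∀ x : H, orderOf x = p → x ∈ K' := by
      intro x hx
      have hi : ¬ p ∣ K'.index := by
        intro hi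
        refine not_sq_dvd_of_factorization Nat.card_pos.ne' (Fact.out : p.Prime) hvp ?_
        exact ((mul_dvd_mul hp hi).trans (dvd_of_eq K'.card_mul_index)).trans
          (Subgroup.card_subgroup_dvd_card H)
      rw [← QuotientGroup.eq_one_iff, ← orderOf_eq_one_iff]
      have h1 : orderOf (x : H ⧸ K') ∣ p := hx ▸ orderOf_map_dvd (QuotientGroup.mk' K') x
      rcases (Nat.dvd_prime Fact.out).1 h1 with h | h
      · exact h
      · refine absurd ?_ hi
        rw [Subgroup.index_eq_card, ← h]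
        exact orderOf_dvd_natCard _
    set W := N ⊔ Subgroup.closure {g : G | g ∈ H ∧ orderOf g = p} with hW
    haveI : (Subgroup.closure {g : G | g ∈ H ∧ orderOf g = p}).Normal := by
      constructor
      intro n hn g
      have h2 : Subgroup.closure {g : G | g ∈ H ∧ orderOf g = p} ≤
          (Subgroup.closure {g : G | g ∈ H ∧ orderOf g = p}).comap (MulAut.conj g).toMonoidHom := by
        refine (Subgroup.closure_le _).2 fun y hy => Subgroup.subset_closure ?_
        exact ⟨Subgroup.Normal.conj_mem inferInstance y hy.1 g, by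
          rw [← hy.2]; exact (MulAut.conj g).orderOf_eq y⟩
      exact h2 hn
    have hWn : W.Normal := inferInstance
    have hWH : W ≤ H := sup_le hlt.le ((Subgroup.closure_le _).2 fun y hy => hy.1)
    obtain ⟨x, hx⟩ := exists_prime_orderOf_dvd_card' (G := H) p hpH
    have hxW : (x : G) ∈ W :=
      le_sup_right (a := N) (Subgroup.subset_closure ⟨x.2, by rw [Subgroup.orderOf_coe, hx]⟩)
    have hWeq : W = H := by
      rcases hmin W hWn le_sup_left hWH with h | h
      · exfalso
        refine hpN ?_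
        have := Subgroup.orderOf_dvd_natCard N (h ▸ hxW)
        rwa [Subgroup.orderOf_coe, hx] at this
      · exact h
    have hWK : W ≤ K'.map H.subtype := by
      refine sup_le (fun y hy => ⟨⟨y, hlt.le hy⟩, hNK (by simpa [Subgroup.mem_subgroupOf]), rfl⟩) ?_
      refine (Subgroup.closure_le _).2 fun y hy => ⟨⟨y, hy.1⟩, hmem _ ?_, rfl⟩
      rw [← Subgroup.orderOf_coe]; exact hy.2
    rw [eq_top_iff]
    intro y _
    obtain ⟨y', hy', he⟩ := hWK (hWeq.symm ▸ y.2 : (y : G) ∈ W)
    have : y' = y := Subtype.ext he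
    exact this ▸ hy'
  · left
    -- the largest normal subgroup of `H` of order prime to `p`
    let S : Set (Subgroup H) := {L | L.Normal ∧ N.subgroupOf H ≤ L ∧ ¬ p ∣ Nat.card L}
    obtain ⟨M, hKM, hMS, hMmax⟩ := (Set.toFinite S).exists_le_maximal (a := K') ⟨hK'n, hNK, hp⟩
    haveI := hMS.1
    have hge : ∀ L ∈ S, L ≤ M := fun L hL => by
      haveI := hL.1
      exact le_sup_left.trans (hMmax ⟨inferInstance, hL.2.1.trans le_sup_left,
        not_dvd_card_sup M L hMS.2.2 hL.2.2⟩ le_sup_right)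
    have hconj : ∀ g, M.map (c g).toMonoidHom ≤ M := by
      intro g
      refine hge _ ⟨Subgroup.Normal.map hMS.1 _ (c g).surjective, ?_, ?_⟩
      · intro y hy
        refine ⟨(c g).symm y, hMS.2.1 ?_, (c g).apply_symm_apply y⟩
        have h1 := hc g ((c g).symm y)
        rw [(c g).apply_symm_apply] at h1
        rw [Subgroup.mem_subgroupOf] at hy ⊢
        have h2 := Subgroup.Normal.conj_mem (inferInstance : N.Normal) _ hy g⁻¹
        rw [h1] at h2
        simpa [mul_assoc] using h2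
      · rw [Subgroup.card_map_of_injective (f := (c g).toMonoidHom) (c g).injective]
        exact hMS.2.2
    set M₀ := M.map H.subtype with hM₀
    have hM₀n : M₀.Normal := ⟨fun n hn g => by
      obtain ⟨m, hm, rfl⟩ := hn
      exact ⟨c g m, hconj g ⟨m, hm, rfl⟩, hc g m⟩⟩
    rcases hmin M₀ hM₀n (fun y hy => ⟨⟨y, hlt.le hy⟩, hMS.2.1 (by simpa [Subgroup.mem_subgroupOf]), rfl⟩)
      (Subgroup.map_subtype_le M) with h | h
    · refine le_antisymm (hKM.trans fun y hy => ?_) hNK
      rw [Subgroup.mem_subgroupOf, ← h]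
      exact ⟨y, hy, rfl⟩
    · refine absurd hpH ?_
      rw [← h, hM₀, Subgroup.card_map_of_injective H.subtype_injective]
      exact hMS.2.2

/-- Let n ≥ 11 and let G be a finite group with the same order and the same set of element orders as the alternating group of degree n. Then G has normal subgroups N < H such that H/N is a non-abelian simple group whose order is divisible by every prime p with n/2 < p ≤ n. -/
theorem result {G : Type*} [Group G] [Finite G] (n : ℕ) (hn : 11 ≤ n)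
    (hcard : Nat.card G = Nat.card ↥(alternatingGroup (Fin n)))
    (hspec : Set.range (orderOf : G → ℕ) = Set.range (orderOf : ↥(alternatingGroup (Fin n)) → ℕ)) :
    ∃ (N H : Subgroup G) (_ : N.Normal), H.Normal ∧ N < H ∧
      IsSimpleGroup (↥H ⧸ N.subgroupOf H) ∧ ¬ IsMulCommutative (↥H ⧸ N.subgroupOf H) ∧
      ∀ p : ℕ, p.Prime → n < 2 * p → p ≤ n → p ∣ Nat.card (↥H ⧸ N.subgroupOf H) := by
  classical
  have hbig : ∀ p : ℕ, p.Prime → n < 2 * p → p ≤ n → (Nat.card G).factorization p = 1 ∧ 2 < p := by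
    intro p hp h1 h2
    have h3 : 2 < p := by omega
    rw [hcard, Cfsg.Agent.S3419.factorization_card_alternating (by omega) hp h3 (by nlinarith)]
    exact ⟨Nat.div_eq_of_lt_le (by omega) (by omega), h3⟩
  have hnone : ∀ p q : ℕ, p.Prime → q.Prime → p ≠ q → n < 2 * p → n < 2 * q →
      ∀ z : G, ¬ p * q ∣ orderOf z := by
    intro p q hp hq hne h1 h2 z hz
    have hmem : p * q ∈ Set.range (orderOf : G → ℕ) :=
      ⟨z ^ (orderOf z / (p * q)), orderOf_pow_orderOf_div (orderOf_pos z).ne' hz⟩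
    rw [hspec] at hmem
    obtain ⟨σ, hσ⟩ := hmem
    exact Cfsg.Agent.S3419.orderOf_perm_ne (n := n) hp hq hne (by omega) (by nlinarith) σ
      (by rw [Subgroup.orderOf_coe, hσ])
  have hndvd : ∀ p q : ℕ, p.Prime → q.Prime → n < 2 * p → q ≤ n → 2 < q → ¬ p ∣ q - 1 := by
    intro p q hp hq h1 h2 h3 hd
    obtain ⟨k, hk⟩ := hd
    have hqo := hq.eq_two_or_odd
    have hpo := hp.eq_two_or_odd
    rcases Nat.lt_or_ge k 2 with h | h
    · interval_cases k <;> omega
    · nlinarith [Nat.sub_le q 1]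
  obtain ⟨p₀, q₀, hp₀, hq₀, hp₀lo, hpq₀, hq₀hi⟩ :
      ∃ p q : ℕ, p.Prime ∧ q.Prime ∧ n < 2 * p ∧ p < q ∧ q ≤ n := by
    by_cases h11 : n = 11
    · exact ⟨7, 11, by norm_num, by norm_num, by omega, by omega, by omega⟩
    · obtain ⟨p, q, hp, hq, h1, h2, h3⟩ :=
        CfsgLib.Char.TwoPrimesInterval.exists_two_primes (n := n / 2) (by omega)
      exact ⟨p, q, hp, hq, by omega, h2, by omega⟩
  haveI := Fact.mk hp₀
  haveI := Fact.mk hq₀
  obtain ⟨hv₀, h2p₀⟩ := hbig p₀ hp₀ hp₀lo (by omega)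
  have hpG : p₀ ∣ Nat.card G := Nat.dvd_of_factorization_pos (by omega)
  let S : Set (Subgroup G) := {L | L.Normal ∧ ¬ p₀ ∣ Nat.card L}
  obtain ⟨N, -, hNS, hNmax⟩ := (Set.toFinite S).exists_le_maximal (a := ⊥)
    ⟨inferInstance, by rw [Subgroup.card_bot]; exact fun h => hp₀.ne_one (Nat.dvd_one.1 h)⟩
  haveI := hNS.1
  let U : Set (Subgroup G) := {L | L.Normal ∧ N < L}
  obtain ⟨H, -, hHU, hHmin⟩ := (Set.toFinite U).exists_le_minimal (a := ⊤)
    ⟨inferInstance, lt_top_iff_ne_top.2 fun h => hNS.2 (by rw [h, Subgroup.card_top]; exact hpG)⟩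
  haveI := hHU.1
  have hpH : p₀ ∣ Nat.card H := by
    by_contra h
    exact not_le_of_gt hHU.2 (hNmax ⟨hHU.1, h⟩ hHU.2.le)
  have hrel : Nat.card (H ⧸ N.subgroupOf H) * Nat.card N = Nat.card H := by
    rw [← Nat.card_congr (Subgroup.subgroupOfEquivOfLe hHU.2.le).toEquiv,
      ← Subgroup.index_eq_card, Subgroup.index_mul_card]
  have hdiv : ∀ p : ℕ, p.Prime → n < 2 * p → p ≤ n → p ∣ Nat.card (H ⧸ N.subgroupOf H) := by
    intro p hp h1 h2
    obtain ⟨hv, h2p⟩ := hbig p hp h1 h2
    have hpG' : p ∣ Nat.card G := Nat.dvd_of_factorization_pos (by omega)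
    have hnotN : ¬ p ∣ Nat.card N := by
      intro hd
      by_cases he : p = p₀
      · exact hNS.2 (he ▸ hd)
      obtain ⟨z, hz⟩ := frattini_mul_order hp₀ hp (Ne.symm he) (hndvd p₀ p hp₀ hp hp₀lo h2 h2p) hv N hd
        ((hp₀.dvd_mul.1 (N.card_mul_index.symm ▸ hpG)).resolve_left hNS.2)
      exact hnone p₀ p hp₀ hp (Ne.symm he) hp₀lo h1 z (hz ▸ dvd_rfl)
    have hH : p ∣ Nat.card H := by
      by_contra hd
      by_cases he : p = p₀
      · exact hd (he ▸ hpH)
      obtain ⟨z, hz⟩ := frattini_mul_order hp hp₀ he (hndvd p p₀ hp hp₀ h1 (by omega) h2p₀) hv₀ H hpH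
        ((hp.dvd_mul.1 (H.card_mul_index.symm ▸ hpG')).resolve_left hd)
      exact hnone p p₀ hp hp₀ he h1 hp₀lo z (hz ▸ dvd_rfl)
    exact (hp.dvd_mul.1 (hrel.symm ▸ hH)).resolve_right hnotN
  refine ⟨N, H, hNS.1, hHU.1, hHU.2, ?_, ?_, hdiv⟩
  · refine simple_factor hv₀ N H hHU.2 hNS.2 hpH fun L hL h1 h2 => ?_
    by_cases h : L = N
    · exact Or.inl h
    · exact Or.inr (le_antisymm h2 (hHmin ⟨hL, lt_of_le_of_ne h1 (Ne.symm h)⟩ h2))
  · intro hab
    obtain ⟨x, hx⟩ := exists_prime_orderOf_dvd_card' (G := H ⧸ N.subgroupOf H) p₀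
      (hdiv p₀ hp₀ hp₀lo (by omega))
    obtain ⟨y, hy⟩ := exists_prime_orderOf_dvd_card' (G := H ⧸ N.subgroupOf H) q₀
      (hdiv q₀ hq₀ (by omega) hq₀hi)
    have hcomm : Commute x y := hab.is_comm.comm x y
    have hxy : orderOf (x * y) = p₀ * q₀ := by
      rw [hcomm.orderOf_mul_eq_mul_orderOf_of_coprime (by
        rw [hx, hy]; exact (Nat.coprime_primes hp₀ hq₀).2 hpq₀.ne), hx, hy]
    obtain ⟨z, hz⟩ := QuotientGroup.mk_surjective (x * y)
    refine hnone p₀ q₀ hp₀ hq₀ hpq₀.ne hp₀lo (by omega) (z : G) ?_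
    rw [Subgroup.orderOf_coe, ← hxy, ← hz]
    exact orderOf_map_dvd (QuotientGroup.mk' (N.subgroupOf H)) z

end Cfsg.Agent.S3420
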