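import Cfsg.Statements.S3421
import Cfsg.Agent.Lib.Characterizations.PSL2Spectrum.Recognise
import Cfsg.Agent.S1230
import Cfsg.Agent.S2475

set_option autoImplicit false
open Cfsg

namespace Cfsg.Agent.S3421

open CfsgLib.Characterizations.PSL2Spectrum

/-- Isomorphic fields have isomorphic projective special linear groups. -/
theorem psl_congr {K L : Type*} [Field K] [Field L] (φ : K ≃+* L) :
    Nonempty (Matrix.ProjectiveSpecialLinearGroup (Fin 2) K ≃*
      Matrix.ProjectiveSpecialLinearGroup (Fin 2) L) := by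
  let e : Matrix.SpecialLinearGroup (Fin 2) K ≃* Matrix.SpecialLinearGroup (Fin 2) L :=
    { toFun := Matrix.SpecialLinearGroup.map (φ : K →+* L)
      invFun := Matrix.SpecialLinearGroup.map (φ.symm : L →+* K)
      left_inv := fun A => by ext i j; simp
      right_inv := fun A => by ext i j; simp
      map_mul' := map_mul _ }
  refine ⟨QuotientGroup.congr _ _ e ?_⟩
  ext A
  constructor
  · rintro ⟨B, hB, rfl⟩
    exact Subgroup.mem_center_iff.2 fun C => by
      obtain ⟨D, rfl⟩ := e.surjective C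
      simp only [MonoidHom.coe_coe]
      rw [← map_mul, ← map_mul, Subgroup.mem_center_iff.1 hB D]
  · intro hA
    obtain ⟨B, rfl⟩ := e.surjective A
    refine ⟨B, Subgroup.mem_center_iff.2 fun C => e.injective ?_, rfl⟩
    rw [map_mul, map_mul, Subgroup.mem_center_iff.1 hA (e C)]

/-- Even characteristic: the centralisers of involutions are elementary abelian. -/
theorem even_case {G : Type*} [Group G] [Finite G] {q : ℕ} (hq : Even q) (h4 : 4 ≤ q) {f : ℕ}
    (hqf : q = 2 ^ f) (hcard : Nat.card G = q * ((q - 1) * (q + 1)))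
    (hord : ∀ m : ℕ, (∃ x : G, orderOf x = m) ↔ m ∣ 2 ∨ m ∣ q - 1 ∨ m ∣ q + 1) :
    ∃ (K : Type) (_ : Field K) (_ : Fintype K), Fintype.card K = q ∧
      Nonempty (G ≃* Matrix.ProjectiveSpecialLinearGroup (Fin 2) K) := by
  haveI : Fact (Nat.Prime 2) := ⟨Nat.prime_two⟩
  have ho1 : Odd (q - 1) := Nat.Even.sub_odd (by omega) hq odd_one
  have ho2 : Odd (q + 1) := hq.add_one
  have hpow2 : ∀ z : G, 2 ∣ orderOf z → orderOf z ∣ 2 := fun z hz => by
    rcases (hord _).1 ⟨z, rfl⟩ with e | e | e
    · exact e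
    · exact absurd (hz.trans e) (fun h => Nat.not_even_iff_odd.2 ho1 (even_iff_two_dvd.2 h))
    · exact absurd (hz.trans e) (fun h => Nat.not_even_iff_odd.2 ho2 (even_iff_two_dvd.2 h))
  have hC : ∀ t : G, orderOf t = 2 → ∀ c ∈ Subgroup.centralizer ({t} : Set G), c ^ 2 = 1 := by
    intro t ht c hc
    have hcm : Commute c t := Subgroup.mem_centralizer_singleton_iff.1 hc
    by_cases h2 : 2 ∣ orderOf c
    · exact orderOf_dvd_iff_pow_eq_one.1 (hpow2 c h2)
    · have hcop : (orderOf c).Coprime (orderOf t) := by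
        rw [ht]; exact ((Nat.Prime.coprime_iff_not_dvd Nat.prime_two).2 h2).symm
      have h := hpow2 (c * t) (by rw [hcm.orderOf_mul_eq_mul_orderOf_of_coprime hcop, ht]; exact dvd_mul_left 2 _)
      rw [hcm.orderOf_mul_eq_mul_orderOf_of_coprime hcop, ht] at h
      have h1 : orderOf c = 1 := by
        have := Nat.le_of_dvd two_pos h
        have := orderOf_pos c
        omega
      rw [orderOf_eq_one_iff.1 h1, one_pow]
  obtain ⟨T⟩ : Nonempty (Sylow 2 G) := inferInstance
  have hodd : ¬ 2 ∣ (q - 1) * (q + 1) := fun h =>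
    Nat.not_even_iff_odd.2 (ho1.mul ho2) (even_iff_two_dvd.2 h)
  have hTcard : Nat.card T = q := by
    have h0 : (q - 1) * (q + 1) ≠ 0 := fun h => hodd (by simp [h])
    rw [T.card_eq_multiplicity, hcard, Nat.factorization_mul (by omega) h0, Finsupp.add_apply,
      Nat.factorization_eq_zero_of_not_dvd hodd, hqf, Nat.Prime.factorization_pow Nat.prime_two,
      Finsupp.single_eq_same, add_zero]
  have hnc : ¬ IsCyclic (T : Subgroup G) := by
    intro hcy
    obtain ⟨z, hz⟩ := IsCyclic.exists_ofOrder_eq_natCard (α := (T : Subgroup G))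
    rw [hTcard, ← Subgroup.orderOf_coe] at hz
    have h := hpow2 (z : G) (by rw [hz]; exact hq.two_dvd)
    rw [hz] at h
    have := Nat.le_of_dvd two_pos h
    omega
  have hnn : ¬ (T : Subgroup G).Normal := by
    intro hn
    obtain ⟨y, hy⟩ := (hord (q + 1)).2 (Or.inr (Or.inr dvd_rfl))
    have hd := card_dvd_of_free (Subgroup.zpowers y) (T : Subgroup G)
      (fun d _ z hz => hn.conj_mem z hz d) (fun d hd z hz hd1 hz1 e => by
        have hzd : Commute z d := (mul_inv_eq_iff_eq_mul.1 e).symm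
        have hdo : Odd (orderOf d) := ho2.of_dvd_nat (hy ▸ orderOf_dvd_of_mem_zpowers hd)
        obtain ⟨k, hk⟩ := (IsPGroup.iff_orderOf.1 T.isPGroup') ⟨z, hz⟩
        rw [← Subgroup.orderOf_coe] at hk
        change orderOf z = _ at hk
        have h1 : 2 ∣ orderOf z := hk ▸ dvd_pow_self 2 (fun h => hz1 (orderOf_eq_one_iff.1 (by
          simpa [h] using hk)))
        have hz2 : orderOf z = 2 := Nat.dvd_antisymm (hpow2 z h1) h1
        have hd2 := orderOf_dvd_iff_pow_eq_one.2
          (hC z hz2 d (Subgroup.mem_centralizer_singleton_iff.2 hzd.eq.symm))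
        rcases (Nat.dvd_prime Nat.prime_two).1 hd2 with h | h
        · exact hd1 (orderOf_eq_one_iff.1 h)
        · rw [h] at hdo; exact absurd hdo (by decide))
    rw [Nat.card_zpowers, hy, hTcard] at hd
    have := Nat.le_of_dvd (by omega) hd
    omega
  obtain ⟨K, i1, i2, hK, he⟩ := Cfsg.Agent.S1230.result T hnc hnn fun t ht =>
    ⟨⟨⟨fun u v => Subtype.ext (by
      have hu := hC t ht u u.2
      have hv := hC t ht v v.2
      have huv := hC t ht _ (Subgroup.mul_mem _ u.2 v.2)
      rw [pow_two] at hu hv huv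
      calc (u : G) * v = ((u : G) * v)⁻¹ := eq_inv_of_mul_eq_one_left huv
        _ = (v : G)⁻¹ * (u : G)⁻¹ := mul_inv_rev _ _
        _ = v * u := by rw [← eq_inv_of_mul_eq_one_left hu, ← eq_inv_of_mul_eq_one_left hv])⟩⟩,
      hC t ht⟩
  exact ⟨K, i1, i2, hK.trans hTcard, he⟩

/-- Let F be a finite field with more than 3 elements. A finite group G is isomorphic to PSL(2, F) if and only if G has the same set of element orders and the same order as PSL(2, F). -/
theorem result {G : Type*} [Group G] [Finite G] {F : Type*} [Field F] [Fintype F] (hF : 3 < Fintype.card F) :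
    Nonempty (G ≃* Matrix.ProjectiveSpecialLinearGroup (Fin 2) F) ↔
      (Set.range (orderOf : G → ℕ) = Set.range (orderOf : Matrix.ProjectiveSpecialLinearGroup (Fin 2) F → ℕ) ∧
        Nat.card G = Nat.card (Matrix.ProjectiveSpecialLinearGroup (Fin 2) F)) := by
  constructor
  · rintro ⟨e⟩
    refine ⟨?_, Nat.card_congr e.toEquiv⟩
    ext m
    constructor
    · rintro ⟨x, rfl⟩; exact ⟨e x, MulEquiv.orderOf_eq e x⟩
    · rintro ⟨x, rfl⟩; exact ⟨e.symm x, MulEquiv.orderOf_eq e.symm x⟩
  rintro ⟨hr, hc⟩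
  obtain ⟨⟨f, hf⟩, hp, hcardF⟩ := FiniteField.card F (ringChar F)
  haveI : Fact (ringChar F).Prime := ⟨hp⟩
  have hgcd := CfsgLib.Perm.ZGroup.card_psl2_gcd (F := F)
  have hspec := Cfsg.Agent.S2475.result (F := F) (ringChar F) (by omega : 4 ≤ Fintype.card F)
  rw [← hc] at hgcd
  rw [← hr] at hspec
  have hord : ∀ m : ℕ, (∃ x : G, orderOf x = m) ↔ m ∣ ringChar F ∨
      m ∣ (Fintype.card F - 1) / Nat.gcd 2 (Fintype.card F - 1) ∨
      m ∣ (Fintype.card F + 1) / Nat.gcd 2 (Fintype.card F - 1) := fun m => Set.ext_iff.1 hspec m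
  set q := Fintype.card F with hq
  suffices h : ∃ (K : Type) (_ : Field K) (_ : Fintype K), Fintype.card K = q ∧
      Nonempty (G ≃* Matrix.ProjectiveSpecialLinearGroup (Fin 2) K) by
    obtain ⟨K, i1, i2, hK, ⟨e⟩⟩ := h
    obtain ⟨e'⟩ := psl_congr (FiniteField.ringEquivOfCardEq (K := K) (K' := F) (hK.trans hq))
    exact ⟨e.trans e'⟩
  rcases hp.eq_two_or_odd' with h2 | hodd
  · have he : Even q := by
      rw [hcardF, h2]; exact Nat.even_pow.2 ⟨even_two, by simpa using hf.ne'⟩
    have hg1 : Nat.gcd 2 (q - 1) = 1 := Nat.coprime_two_left.2 (Nat.Even.sub_odd (by omega) he odd_one)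
    rw [hg1, one_mul] at hgcd
    refine even_case he (by omega) (f := f) (by rw [hcardF, h2]; rfl) hgcd fun m => ?_
    rw [hord m, hg1, Nat.div_one, Nat.div_one, h2]
  · have hoq : Odd q := hcardF ▸ hodd.pow
    obtain ⟨k, hk⟩ := hoq
    have hg2 : Nat.gcd 2 (q - 1) = 2 := Nat.gcd_eq_left ⟨k, by omega⟩
    rw [hg2] at hgcd hord
    rw [show (q - 1) / 2 = k by omega, show (q + 1) / 2 = k + 1 by omega] at hord
    have hcardG : Nat.card G = 2 * q * k * (k + 1) := by
      rw [show q - 1 = 2 * k by omega, show q + 1 = 2 * (k + 1) by omega] at hgcd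
      exact Nat.eq_of_mul_eq_mul_left two_pos (hgcd.trans (by ring))
    have h5 : 5 ≤ q := by omega
    rcases Nat.even_or_odd k with hke | hko
    · exact recognise (p := ringChar F) (f := f) (a := k) (b := k + 1)
        ⟨hp, hcardF, by omega, Or.inl rfl, hke, hke.add_one, h5, hcardG, hord⟩
    · exact recognise (p := ringChar F) (f := f) (a := k + 1) (b := k)
        ⟨hp, hcardF, by omega, Or.inr rfl, hko.add_one, hko, h5, by rw [hcardG]; ring,
          fun m => (hord m).trans (by tauto)⟩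

end Cfsg.Agent.S3421
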