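import Cfsg.Statements.S3427
import Cfsg.Agent.Lib.Recognition.G2TwoSpectrum.Action
import Cfsg.Agent.Lib.Recognition.G2TwoSpectrum.Reduce
-- import your own Cfsg.Agent.* helpers here

set_option autoImplicit false
open Cfsg

namespace Cfsg.Agent.S3427

open CfsgLib.Recognition.G2TwoSpectrum in
/-- Let F be the field with 2 elements and let M be the Chevalley group of type G₂ over F (a non-simple group of order 12096 whose derived subgroup, of index 2, is isomorphic to PSU(3, 3)). A finite group G is isomorphic to M if and only if G has the same set of element orders and the same order as M. -/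
theorem result {G : Type*} [Group G] [Finite G] {F : Type*} [Field F] [Fintype F] (hF : Fintype.card F = 2) :
    Nonempty (G ≃* ↥(Cfsg.Lie.chevG2.group F)) ↔
      (Set.range (orderOf : G → ℕ) = Set.range (orderOf : ↥(Cfsg.Lie.chevG2.group F) → ℕ) ∧ Nat.card G = Nat.card ↥(Cfsg.Lie.chevG2.group F)) := by
  have hM := cond_chevG2 hF
  refine ⟨fun ⟨e⟩ => ⟨?_, Nat.card_congr e.toEquiv⟩, fun ⟨hs, hc⟩ => ?_⟩
  · ext n
    constructor
    · rintro ⟨g, rfl⟩; exact ⟨e g, MulEquiv.orderOf_eq e g⟩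
    · rintro ⟨g, rfl⟩; exact ⟨e.symm g, MulEquiv.orderOf_eq e.symm g⟩
  · haveI : Finite ↥(Cfsg.Lie.chevG2.group F) := Nat.finite_of_card_ne_zero (by rw [hM.card]; norm_num)
    obtain ⟨N₁, hn₁, hs₁, hc₁, hC₁⟩ := exists_simple_index_two (cond_of_spectrum hM hs hc)
    obtain ⟨N₂, hn₂, hs₂, hc₂, hC₂⟩ := exists_simple_index_two hM
    obtain ⟨a⟩ := iso_H0_of_normal (cond_of_spectrum hM hs hc) N₁ hc₁ hC₁
    obtain ⟨b⟩ := iso_H0_of_normal hM N₂ hc₂ hC₂
    exact ⟨a.trans b.symm⟩

end Cfsg.Agent.S3427
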