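import Cfsg.Statements.S3430
import Cfsg.Agent.NumberTheory.PrimitivePart

set_option autoImplicit false
open Cfsg

namespace Cfsg.Agent.S3430

/-- Let q, n ≥ 2 be integers. Unless (n = 2 and q + 1 = 2^s·3^t for some s ≥ 0 and t ≤ 1), or (q = 2 and n ∈ {4, 6, 10, 12, 18}), or (q = 3 and n ∈ {4, 6}), or (q, n) = (5, 6), there is a prime p dividing q^n − 1 but no q^i − 1 with 1 ≤ i < n (a primitive prime divisor), such that p > n + 1 or p² divides q^n − 1. -/
theorem result (q n : ℕ) (hq : 2 ≤ q) (hn : 2 ≤ n)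
    (h1 : ¬ (n = 2 ∧ ∃ s t : ℕ, t ≤ 1 ∧ q + 1 = 2 ^ s * 3 ^ t))
    (h2 : ¬ (q = 2 ∧ (n = 4 ∨ n = 6 ∨ n = 10 ∨ n = 12 ∨ n = 18)))
    (h3 : ¬ (q = 3 ∧ (n = 4 ∨ n = 6))) (h4 : ¬ (q = 5 ∧ n = 6)) :
    ∃ p : ℕ, p.Prime ∧ p ∣ q ^ n - 1 ∧ (∀ i : ℕ, 1 ≤ i → i < n → ¬ p ∣ q ^ i - 1) ∧ (n + 1 < p ∨ p ^ 2 ∣ q ^ n - 1) := by
  by_cases hn2 : n = 2
  · subst hn2
    by_cases hex : ∃ r, r.Prime ∧ 3 < r ∧ r ∣ q + 1
    · obtain ⟨r, hr, hr3, hrd⟩ := hex
      obtain ⟨ha, hb⟩ := CfsgLib.NT.primitive_two_of_dvd_add_one hq hr (by omega) hrd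
      exact ⟨r, hr, ha, fun i hi hi2 => hb i hi hi2, Or.inl (by omega)⟩
    · by_cases h9 : 9 ∣ q + 1
      · obtain ⟨ha, hb⟩ := CfsgLib.NT.primitive_two_of_dvd_add_one hq Nat.prime_three (by omega)
          ((by norm_num : (3:ℕ) ∣ 9).trans h9)
        exact ⟨3, Nat.prime_three, ha, fun i hi hi2 => hb i hi hi2,
          Or.inr (h9.trans ⟨q - 1, by simpa using Nat.sq_sub_sq q 1⟩)⟩
      · exfalso
        obtain ⟨s, m, hm, hsm⟩ := Nat.exists_eq_pow_mul_and_not_dvd (show q + 1 ≠ 0 by omega) 2 (by omega)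
        have hm0 : m ≠ 0 := fun h => by simp [h] at hsm
        have hall : ∀ {d : ℕ}, d.Prime → d ∣ m → d = 3 := fun {d} hd hdm => by
          by_contra hc
          refine hex ⟨d, hd, ?_, hdm.trans ⟨2 ^ s, by rw [hsm, mul_comm]⟩⟩
          have := hd.two_le
          have : d ≠ 2 := fun h => hm (h ▸ hdm)
          omega
        have hmt := Nat.eq_prime_pow_of_unique_prime_dvd hm0 hall
        generalize m.primeFactorsList.length = t at hmt
        refine h1 ⟨rfl, s, t, not_lt.1 fun ht => h9 ?_, by rw [hsm, hmt]⟩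
        rw [hsm, hmt]
        exact (pow_dvd_pow 3 ht).trans (dvd_mul_left _ _)
  · obtain ⟨M, hM1, hM2, hM3⟩ : ∃ M : ℕ, M ∣ q ^ n - 1 ∧
        (∀ i : ℕ, 1 ≤ i → i < n → Nat.Coprime M (q ^ i - 1)) ∧ n + 1 < M := by
      by_cases hex : (q, n) ∈ CfsgLib.NT.exceptionalPairs
      · suffices hs : ((q ^ n - 1) % CfsgLib.NT.primPartComp q n = 0 ∧
            ∀ i ∈ List.range n, i = 0 ∨
              Nat.gcd (CfsgLib.NT.primPartComp q n) (q ^ i - 1) = 1) ∧
            n + 1 < CfsgLib.NT.primPartComp q n from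
          ⟨_, Nat.dvd_of_mod_eq_zero hs.1.1, fun i hi hin =>
            (hs.1.2 i (List.mem_range.2 hin)).resolve_left (by omega), hs.2⟩
        simp only [CfsgLib.NT.exceptionalPairs, List.mem_cons, Prod.mk.injEq, List.not_mem_nil,
          or_false] at hex
        rcases hex with h | h | h | h | h | h | h | h | h | h | h | h | h <;>
          obtain ⟨rfl, rfl⟩ := h <;> first | omega | decide +kernel
      · obtain ⟨M, a, b, c⟩ := CfsgLib.NT.exists_primitive_divisor_large hq (by omega) hex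
        exact ⟨M, a, b, by omega⟩
    by_cases hbig : ∃ p, p.Prime ∧ p ∣ M ∧ n + 1 < p
    · obtain ⟨p, hp, hpM, hgt⟩ := hbig
      obtain ⟨a, b⟩ := CfsgLib.NT.primitive_of_dvd_primitive_part hp hM1 hM2 hpM
      exact ⟨p, hp, a, fun i hi hin => b i hi hin, Or.inl hgt⟩
    · have hall : ∀ {d : ℕ}, d.Prime → d ∣ M → d = n + 1 := fun {d} hd hdM => by
        obtain ⟨a, b⟩ := CfsgLib.NT.primitive_of_dvd_primitive_part hd hM1 hM2 hdM
        have := CfsgLib.NT.primitive_gt hq (by omega) hd a b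
        have : ¬ n + 1 < d := fun h => hbig ⟨d, hd, hdM, h⟩
        omega
      obtain ⟨p, hp, hpM⟩ := Nat.exists_prime_and_dvd (show M ≠ 1 by omega)
      obtain ⟨a, b⟩ := CfsgLib.NT.primitive_of_dvd_primitive_part hp hM1 hM2 hpM
      refine ⟨p, hp, a, fun i hi hin => b i hi hin, Or.inr (dvd_trans ?_ hM1)⟩
      have he := Nat.eq_prime_pow_of_unique_prime_dvd (show M ≠ 0 by omega) hall
      generalize M.primeFactorsList.length = t at he
      rw [he, hall hp hpM]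
      refine pow_dvd_pow _ (not_lt.1 fun ht => ?_)
      rw [he] at hM3
      have := Nat.pow_le_pow_right (show 0 < n + 1 by omega) (show t ≤ 1 by omega)
      rw [pow_one] at this
      omega

end Cfsg.Agent.S3430
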