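import Cfsg.Statements.S3433
import Cfsg.Agent.Lib.Recognition.OneToFive.Main

set_option autoImplicit false
open Cfsg

namespace Cfsg.Agent.S3433

/-- A finite group whose set of element orders is exactly {1, 2, 3, 4, 5} is isomorphic to the alternating group of degree 6, or has a normal elementary abelian 2-subgroup with quotient isomorphic to the alternating group of degree 5. -/
theorem result {G : Type*} [Group G] [Finite G] (h : Set.range (orderOf : G → ℕ) = {k : ℕ | 1 ≤ k ∧ k ≤ 5}) :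
    Nonempty (G ≃* ↥(alternatingGroup (Fin 6))) ∨
      ∃ (N : Subgroup G) (_ : N.Normal), Cfsg.IsElementaryAbelian 2 N ∧ Nonempty (G ⧸ N ≃* ↥(alternatingGroup (Fin 5))) := by
  open CfsgLib.Recognition.OneToFive in
  classical
  have hG : CfsgLib.Recognition.OneToFive.Small G := fun g => ((Set.ext_iff.1 h (orderOf g)).1 ⟨g, rfl⟩).2
  have hk : ∀ k, 1 ≤ k → k ≤ 5 → k ∣ Nat.card G := by
    intro k h1 h2
    obtain ⟨g, hg⟩ := (Set.ext_iff.1 h k).2 ⟨h1, h2⟩
    exact hg ▸ orderOf_dvd_natCard g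
  have h30 : 30 ∣ Nat.card G :=
    Nat.Coprime.mul_dvd_of_dvd_of_dvd (by norm_num : Nat.Coprime 6 5)
      (Nat.Coprime.mul_dvd_of_dvd_of_dvd (by norm_num : Nat.Coprime 2 3) (hk 2 (by norm_num) (by norm_num))
        (hk 3 (by norm_num) (by norm_num))) (hk 5 (by norm_num) le_rfl)
  have hns := not_solvable_of_thirty _ G rfl hG h30
  have hI : Ind G := fun H _ _ _ hS hns' => classify _ H rfl hS hns'
  obtain ⟨R, hRn, hR2, hmax, hR⟩ := classify _ G rfl hG hns
  haveI := hRn
  haveI : Fact (Nat.Prime 2) := ⟨Nat.prime_two⟩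
  rcases hR with h60 | ⟨hR1, h360⟩
  · right
    have hQT : ∀ K : Subgroup (G ⧸ R), K.Normal → Group.IsSolvable K → K = ⊥ := by
      intro K hK hKs
      have hle : R ≤ K.comap (QuotientGroup.mk' R) := fun y hy => by
        show (QuotientGroup.mk' R) y ∈ K
        rw [show (QuotientGroup.mk' R) y = 1 from (QuotientGroup.eq_one_iff y).2 hy]
        exact one_mem K
      haveI := hKs
      haveI := solvable_of_pGroup hR2
      have hs : Group.IsSolvable (K.comap (QuotientGroup.mk' R)) :=
        Group.isSolvable_of_ker_le_range (Subgroup.inclusion hle)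
          ((QuotientGroup.mk' R).subgroupComap K)
          (fun x hx => ⟨⟨x, (QuotientGroup.eq_one_iff (x : G)).1 (congrArg Subtype.val hx)⟩, rfl⟩)
      have := hmax _ (hK.comap _) hs
      refine le_bot_iff.1 fun x hx => ?_
      obtain ⟨y, rfl⟩ := QuotientGroup.mk'_surjective R x
      exact Subgroup.mem_bot.2 ((QuotientGroup.eq_one_iff y).2 (this hx))
    obtain ⟨φ⟩ := iso_A5 hI
      (Nat.le_of_dvd Nat.card_pos (Subgroup.card_quotient_dvd_card R)) (hG.quotient R)
      ((Subgroup.index_eq_card R).symm.trans h60) hQT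
    refine ⟨R, hRn, ?_, ⟨φ⟩⟩
    -- the radical is elementary
    let π := QuotientGroup.mk' R
    let ψ := φ.toMonoidHom.comp π
    have hψ : ∀ {g : G}, ψ g = 1 ↔ g ∈ R := fun {g} =>
      φ.map_eq_one_iff.trans (QuotientGroup.eq_one_iff g)
    have hψs : Function.Surjective ψ := φ.surjective.comp (QuotientGroup.mk'_surjective R)
    obtain ⟨u, hu⟩ := hψs (FiveFacts.inv 0)
    obtain ⟨s', hs', hs1, hsu⟩ := FiveFacts.inv_three _ (FiveFacts.inv_spec 0).1 (FiveFacts.inv_spec 0).2.1
    obtain ⟨s, rfl⟩ := hψs s'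
    haveI : Fact (Nat.Prime 3) := ⟨Nat.prime_three⟩
    have h3 : orderOf (π s) = 3 := by
      refine orderOf_eq_prime (φ.injective ?_) (fun e => hs1 (show φ (π s) = 1 by rw [e, map_one]))
      rw [map_pow, map_one, pow_succ, pow_two]
      exact hs'
    have hs3 : orderOf s = 3 := orderOf_of_image hG R (Or.inl rfl) h3
    have hinvu : (FiveFacts.inv 0)⁻¹ = FiveFacts.inv 0 :=
      inv_eq_of_mul_eq_one_right (FiveFacts.inv_spec 0).1
    have hexp : ∀ x ∈ R, x * x = 1 := by
      refine two_elementary _ G R rfl hR2 s u 3 (by decide) (by rw [← hs3]; exact pow_orderOf_eq_one s)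
        ?_ (hψ.1 ?_) (hψ.1 ?_) ?_
      · intro x hx hfx
        by_contra hx1
        obtain ⟨k, hk'⟩ := IsPGroup.iff_orderOf.1 hR2 ⟨x, hx⟩
        rw [← Subgroup.orderOf_coe] at hk'
        refine hG.no_comm (fun e => ?_) hx1 (mul_inv_eq_iff_eq_mul.1 hfx) ?_
        · rw [e, orderOf_one] at hs3; omega
        · rw [hs3, hk']; exact Nat.Coprime.pow_right k (by norm_num)
      · rw [map_mul, map_mul, map_mul, map_inv, hu, hinvu]
        exact hsu
      · rw [map_mul, hu]
        exact (FiveFacts.inv_spec 0).1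
      · intro x hx
        refine hG.pow_four ?_
        have h2 : orderOf (ψ (u * x)) = 2 := by
          refine orderOf_eq_prime ?_ ?_
          · rw [map_mul, hψ.2 hx, mul_one, hu, pow_two]; exact (FiveFacts.inv_spec 0).1
          · rw [map_mul, hψ.2 hx, mul_one, hu]; exact (FiveFacts.inv_spec 0).2.1
        exact h2 ▸ orderOf_map_dvd ψ (u * x)
    exact ⟨⟨⟨fun a b => Subtype.ext (sq_one_comm (hexp a a.2) (hexp b b.2)
      (hexp _ (R.mul_mem a.2 b.2)))⟩⟩, fun a ha => by rw [pow_two]; exact hexp a ha⟩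
  · left
    exact iso_A6 hI le_rfl hG h360 (fun K hK hKs => le_bot_iff.1 (hR1 ▸ hmax K hK hKs))

end Cfsg.Agent.S3433
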