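import Cfsg.Statements.S3437
import Cfsg.Agent.Lib.PGroup.SpectrumFPF

set_option autoImplicit false
set_option synthInstance.maxSize 1024
open Cfsg

namespace Cfsg.Agent.S3437

open Matrix CfsgLib.PGroup.SpectrumFPF

/-- The coefficient ring with 169 elements. -/
abbrev K := QuadraticAlgebra (ZMod 13) ((2 : ℕ) : ZMod 13) 0

instance : Fintype K := Fintype.ofEquiv _ (QuadraticAlgebra.equivProd _ _).symm

/-- The first generator. -/
def a' : Quad := ((0, 3), (0, 0), (0, 0), (0, 11))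
/-- The second generator. -/
def b' : Quad := ((2, 0), (3, 0), (2, 0), (10, 0))
/-- The inverse of the first generator. -/
def ai' : Quad := ((0, 11), (0, 0), (0, 0), (0, 3))
/-- The inverse of the second generator. -/
def bi' : Quad := ((10, 0), (10, 0), (11, 0), (2, 0))

/-- The nontrivial elements of the complement with their powers. -/
def cert : List (Quad × List Quad) :=
  [(((0, 3), (0, 0), (0, 0), (0, 11)), [((5, 0), (0, 0), (0, 0), (8, 0)), ((0, 2), (0, 0), (0, 0), (0, 10)), ((12, 0), (0, 0), (0, 0), (12, 0)), ((0, 10), (0, 0), (0, 0), (0, 2)), ((8, 0), (0, 0), (0, 0), (5, 0)), ((0, 11), (0, 0), (0, 0), (0, 3))]),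
    (((2, 0), (3, 0), (2, 0), (10, 0)), [((10, 0), (10, 0), (11, 0), (2, 0))]),
    (((5, 0), (0, 0), (0, 0), (8, 0)), [((12, 0), (0, 0), (0, 0), (12, 0)), ((8, 0), (0, 0), (0, 0), (5, 0))]),
    (((0, 6), (0, 7), (0, 6), (0, 6)), [((0, 0), (12, 0), (1, 0), (0, 0)), ((0, 7), (0, 7), (0, 6), (0, 7)), ((12, 0), (0, 0), (0, 0), (12, 0)), ((0, 7), (0, 6), (0, 7), (0, 7)), ((0, 0), (1, 0), (12, 0), (0, 0)), ((0, 6), (0, 6), (0, 7), (0, 6))]),
    (((0, 6), (0, 9), (0, 9), (0, 6)), [((0, 0), (8, 0), (8, 0), (0, 0)), ((0, 7), (0, 9), (0, 9), (0, 7)), ((12, 0), (0, 0), (0, 0), (12, 0)), ((0, 7), (0, 4), (0, 4), (0, 7)), ((0, 0), (5, 0), (5, 0), (0, 0)), ((0, 6), (0, 4), (0, 4), (0, 6))]),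
    (((10, 0), (10, 0), (11, 0), (2, 0)), [((2, 0), (3, 0), (2, 0), (10, 0))]),
    (((0, 2), (0, 0), (0, 0), (0, 10)), [((8, 0), (0, 0), (0, 0), (5, 0)), ((0, 3), (0, 0), (0, 0), (0, 11)), ((12, 0), (0, 0), (0, 0), (12, 0)), ((0, 11), (0, 0), (0, 0), (0, 3)), ((5, 0), (0, 0), (0, 0), (8, 0)), ((0, 10), (0, 0), (0, 0), (0, 2))]),
    (((10, 0), (11, 0), (10, 0), (2, 0)), [((2, 0), (2, 0), (3, 0), (10, 0))]),
    (((10, 0), (3, 0), (2, 0), (2, 0)), [((2, 0), (10, 0), (11, 0), (10, 0))]),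
    (((0, 4), (0, 6), (0, 7), (0, 9)), [((12, 0), (0, 0), (0, 0), (12, 0)), ((0, 9), (0, 7), (0, 6), (0, 4))]),
    (((10, 0), (2, 0), (3, 0), (2, 0)), [((2, 0), (11, 0), (10, 0), (10, 0))]),
    (((0, 0), (0, 10), (0, 11), (0, 0)), [((12, 0), (0, 0), (0, 0), (12, 0)), ((0, 0), (0, 3), (0, 2), (0, 0))]),
    (((0, 4), (0, 4), (0, 4), (0, 9)), [((12, 0), (0, 0), (0, 0), (12, 0)), ((0, 9), (0, 9), (0, 9), (0, 4))]),
    (((12, 0), (0, 0), (0, 0), (12, 0)), []),
    (((0, 4), (0, 7), (0, 6), (0, 9)), [((12, 0), (0, 0), (0, 0), (12, 0)), ((0, 9), (0, 6), (0, 7), (0, 4))]),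
    (((11, 0), (2, 0), (3, 0), (3, 0)), [((10, 0), (2, 0), (3, 0), (2, 0)), ((12, 0), (0, 0), (0, 0), (12, 0)), ((2, 0), (11, 0), (10, 0), (10, 0)), ((3, 0), (11, 0), (10, 0), (11, 0))]),
    (((0, 4), (0, 9), (0, 9), (0, 9)), [((12, 0), (0, 0), (0, 0), (12, 0)), ((0, 9), (0, 4), (0, 4), (0, 4))]),
    (((0, 0), (12, 0), (1, 0), (0, 0)), [((12, 0), (0, 0), (0, 0), (12, 0)), ((0, 0), (1, 0), (12, 0), (0, 0))]),
    (((11, 0), (10, 0), (11, 0), (3, 0)), [((10, 0), (10, 0), (11, 0), (2, 0)), ((12, 0), (0, 0), (0, 0), (12, 0)), ((2, 0), (3, 0), (2, 0), (10, 0)), ((3, 0), (3, 0), (2, 0), (11, 0))]),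
    (((3, 0), (10, 0), (11, 0), (11, 0)), [((2, 0), (10, 0), (11, 0), (10, 0)), ((12, 0), (0, 0), (0, 0), (12, 0)), ((10, 0), (3, 0), (2, 0), (2, 0)), ((11, 0), (3, 0), (2, 0), (3, 0))]),
    (((0, 0), (8, 0), (8, 0), (0, 0)), [((12, 0), (0, 0), (0, 0), (12, 0)), ((0, 0), (5, 0), (5, 0), (0, 0))]),
    (((0, 7), (0, 7), (0, 6), (0, 7)), [((0, 0), (1, 0), (12, 0), (0, 0)), ((0, 6), (0, 7), (0, 6), (0, 6)), ((12, 0), (0, 0), (0, 0), (12, 0)), ((0, 6), (0, 6), (0, 7), (0, 6)), ((0, 0), (12, 0), (1, 0), (0, 0)), ((0, 7), (0, 6), (0, 7), (0, 7))]),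
    (((11, 0), (11, 0), (10, 0), (3, 0)), [((10, 0), (11, 0), (10, 0), (2, 0)), ((12, 0), (0, 0), (0, 0), (12, 0)), ((2, 0), (2, 0), (3, 0), (10, 0)), ((3, 0), (2, 0), (3, 0), (11, 0))]),
    (((0, 7), (0, 9), (0, 9), (0, 7)), [((0, 0), (5, 0), (5, 0), (0, 0)), ((0, 6), (0, 9), (0, 9), (0, 6)), ((12, 0), (0, 0), (0, 0), (12, 0)), ((0, 6), (0, 4), (0, 4), (0, 6)), ((0, 0), (8, 0), (8, 0), (0, 0)), ((0, 7), (0, 4), (0, 4), (0, 7))]),
    (((0, 10), (0, 0), (0, 0), (0, 2)), [((5, 0), (0, 0), (0, 0), (8, 0)), ((0, 11), (0, 0), (0, 0), (0, 3)), ((12, 0), (0, 0), (0, 0), (12, 0)), ((0, 3), (0, 0), (0, 0), (0, 11)), ((8, 0), (0, 0), (0, 0), (5, 0)), ((0, 2), (0, 0), (0, 0), (0, 10))]),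
    (((11, 0), (3, 0), (2, 0), (3, 0)), [((10, 0), (3, 0), (2, 0), (2, 0)), ((12, 0), (0, 0), (0, 0), (12, 0)), ((2, 0), (10, 0), (11, 0), (10, 0)), ((3, 0), (10, 0), (11, 0), (11, 0))]),
    (((0, 0), (0, 2), (0, 3), (0, 0)), [((12, 0), (0, 0), (0, 0), (12, 0)), ((0, 0), (0, 11), (0, 10), (0, 0))]),
    (((0, 7), (0, 6), (0, 7), (0, 7)), [((0, 0), (12, 0), (1, 0), (0, 0)), ((0, 6), (0, 6), (0, 7), (0, 6)), ((12, 0), (0, 0), (0, 0), (12, 0)), ((0, 6), (0, 7), (0, 6), (0, 6)), ((0, 0), (1, 0), (12, 0), (0, 0)), ((0, 7), (0, 7), (0, 6), (0, 7))]),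
    (((0, 9), (0, 6), (0, 7), (0, 4)), [((12, 0), (0, 0), (0, 0), (12, 0)), ((0, 4), (0, 7), (0, 6), (0, 9))]),
    (((3, 0), (11, 0), (10, 0), (11, 0)), [((2, 0), (11, 0), (10, 0), (10, 0)), ((12, 0), (0, 0), (0, 0), (12, 0)), ((10, 0), (2, 0), (3, 0), (2, 0)), ((11, 0), (2, 0), (3, 0), (3, 0))]),
    (((0, 7), (0, 4), (0, 4), (0, 7)), [((0, 0), (8, 0), (8, 0), (0, 0)), ((0, 6), (0, 4), (0, 4), (0, 6)), ((12, 0), (0, 0), (0, 0), (12, 0)), ((0, 6), (0, 9), (0, 9), (0, 6)), ((0, 0), (5, 0), (5, 0), (0, 0)), ((0, 7), (0, 9), (0, 9), (0, 7))]),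
    (((3, 0), (3, 0), (2, 0), (11, 0)), [((2, 0), (3, 0), (2, 0), (10, 0)), ((12, 0), (0, 0), (0, 0), (12, 0)), ((10, 0), (10, 0), (11, 0), (2, 0)), ((11, 0), (10, 0), (11, 0), (3, 0))]),
    (((0, 9), (0, 4), (0, 4), (0, 4)), [((12, 0), (0, 0), (0, 0), (12, 0)), ((0, 4), (0, 9), (0, 9), (0, 9))]),
    (((0, 0), (1, 0), (12, 0), (0, 0)), [((12, 0), (0, 0), (0, 0), (12, 0)), ((0, 0), (12, 0), (1, 0), (0, 0))]),
    (((0, 0), (0, 11), (0, 10), (0, 0)), [((12, 0), (0, 0), (0, 0), (12, 0)), ((0, 0), (0, 2), (0, 3), (0, 0))]),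
    (((0, 0), (5, 0), (5, 0), (0, 0)), [((12, 0), (0, 0), (0, 0), (12, 0)), ((0, 0), (8, 0), (8, 0), (0, 0))]),
    (((3, 0), (2, 0), (3, 0), (11, 0)), [((2, 0), (2, 0), (3, 0), (10, 0)), ((12, 0), (0, 0), (0, 0), (12, 0)), ((10, 0), (11, 0), (10, 0), (2, 0)), ((11, 0), (11, 0), (10, 0), (3, 0))]),
    (((8, 0), (0, 0), (0, 0), (5, 0)), [((12, 0), (0, 0), (0, 0), (12, 0)), ((5, 0), (0, 0), (0, 0), (8, 0))]),
    (((2, 0), (2, 0), (3, 0), (10, 0)), [((10, 0), (11, 0), (10, 0), (2, 0))]),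
    (((0, 9), (0, 7), (0, 6), (0, 4)), [((12, 0), (0, 0), (0, 0), (12, 0)), ((0, 4), (0, 6), (0, 7), (0, 9))]),
    (((2, 0), (10, 0), (11, 0), (10, 0)), [((10, 0), (3, 0), (2, 0), (2, 0))]),
    (((0, 0), (0, 3), (0, 2), (0, 0)), [((12, 0), (0, 0), (0, 0), (12, 0)), ((0, 0), (0, 10), (0, 11), (0, 0))]),
    (((0, 9), (0, 9), (0, 9), (0, 4)), [((12, 0), (0, 0), (0, 0), (12, 0)), ((0, 4), (0, 4), (0, 4), (0, 9))]),
    (((2, 0), (11, 0), (10, 0), (10, 0)), [((10, 0), (2, 0), (3, 0), (2, 0))]),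
    (((0, 11), (0, 0), (0, 0), (0, 3)), [((8, 0), (0, 0), (0, 0), (5, 0)), ((0, 10), (0, 0), (0, 0), (0, 2)), ((12, 0), (0, 0), (0, 0), (12, 0)), ((0, 2), (0, 0), (0, 0), (0, 10)), ((5, 0), (0, 0), (0, 0), (8, 0)), ((0, 3), (0, 0), (0, 0), (0, 11))]),
    (((0, 6), (0, 6), (0, 7), (0, 6)), [((0, 0), (1, 0), (12, 0), (0, 0)), ((0, 7), (0, 6), (0, 7), (0, 7)), ((12, 0), (0, 0), (0, 0), (12, 0)), ((0, 7), (0, 7), (0, 6), (0, 7)), ((0, 0), (12, 0), (1, 0), (0, 0)), ((0, 6), (0, 7), (0, 6), (0, 6))]),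
    (((0, 6), (0, 4), (0, 4), (0, 6)), [((0, 0), (5, 0), (5, 0), (0, 0)), ((0, 7), (0, 4), (0, 4), (0, 7)), ((12, 0), (0, 0), (0, 0), (12, 0)), ((0, 7), (0, 9), (0, 9), (0, 7)), ((0, 0), (8, 0), (8, 0), (0, 0)), ((0, 6), (0, 9), (0, 9), (0, 6))])]

/-- The elements of the complement. -/
def elts : List Quad := qone :: cert.map Prod.fst

/-- The first generator as an invertible matrix. -/
def ga : GL (Fin 2) K := ⟨toMat 13 2 a', toMat 13 2 ai',
  by rw [← toMat_mm, ← toMat_one]; exact congrArg _ (qeq_iff (by decide +kernel)),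
  by rw [← toMat_mm, ← toMat_one]; exact congrArg _ (qeq_iff (by decide +kernel))⟩
/-- The second generator as an invertible matrix. -/
def gb : GL (Fin 2) K := ⟨toMat 13 2 b', toMat 13 2 bi',
  by rw [← toMat_mm, ← toMat_one]; exact congrArg _ (qeq_iff (by decide +kernel)),
  by rw [← toMat_mm, ← toMat_one]; exact congrArg _ (qeq_iff (by decide +kernel))⟩

/-- The complement. -/
def C : Subgroup (GL (Fin 2) K) := Subgroup.closure {ga, gb}

theorem mem_elts {g : GL (Fin 2) K} (hg : g ∈ C) : ∃ x ∈ elts, g.1 = toMat 13 2 x := by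
  refine exists_mem_list (List.mem_cons_self ..) ?_ ?_ hg
  · rintro s (rfl | rfl)
    · exact ⟨a', by decide +kernel, rfl⟩
    · exact ⟨b', by decide +kernel, rfl⟩
  · rintro s (rfl | rfl)
    · exact ⟨ai', by decide +kernel, rfl⟩
    · exact ⟨bi', by decide +kernel, rfl⟩

theorem cert_ok : cert.all (fun c => cyc 13 2 c.1 c.1 c.2 &&
    !(Nat.beq (detNorm 13 2 c.1) 0) && ([1, 2, 3, 4, 6, 8] : List ℕ).any (Nat.beq (c.2.length + 2))) = true := by
  decide +kernel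

theorem orderOf_mem {g : GL (Fin 2) K} (hg : g ∈ C) :
    orderOf g ∈ ([1, 2, 3, 4, 6, 8] : List ℕ) ∧ (g ≠ 1 → IsUnit (g.1 - 1).det) := by
  obtain ⟨x, hx, he⟩ := mem_elts hg
  rcases List.mem_cons.1 hx with rfl | hx'
  · have hg1 : g = 1 := Units.ext (by rw [he, toMat_one, Units.val_one])
    subst hg1
    exact ⟨by simp, fun h => absurd rfl h⟩
  · obtain ⟨⟨x', l⟩, hc, rfl⟩ := List.mem_map.1 hx'
    have h := List.all_eq_true.1 cert_ok _ hc
    simp only [Bool.and_eq_true, Bool.not_eq_true', List.any_eq_true, Nat.beq_eq] at h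
    obtain ⟨⟨h1, h2⟩, d, hd, h3⟩ := h
    refine ⟨?_, fun _ => he ▸ isUnit_det_sub (by norm_num) h2⟩
    rw [orderOf_eq_of_cyc (by norm_num) he h1, h3]
    exact hd

theorem solvable : Group.IsSolvable C := by
  refine isSolvable_of_bound (B := 48) (by norm_num) ?_ fun g => ?_
  · classical
    choose f hf hf' using fun g : C => mem_elts g.2
    calc Nat.card C ≤ Nat.card {x // x ∈ elts.toFinset} := Nat.card_le_card_of_injective
          (fun g => (⟨f g, List.mem_toFinset.2 (hf g)⟩ : {x // x ∈ elts.toFinset})) (fun g h e => by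
            have e' : f g = f h := congrArg Subtype.val e
            exact Subtype.ext (Units.ext (by rw [hf', hf', e'])))
      _ ≤ 48 := by
          rw [Nat.card_eq_fintype_card, Fintype.card_coe]
          exact (List.toFinset_card_le _).trans (le_of_eq rfl)
  · rw [← Subgroup.orderOf_coe]
    have hd := (orderOf_mem g.2).1
    simp only [List.mem_cons, List.not_mem_nil, or_false] at hd
    rcases hd with h | h | h | h | h | h <;> rw [h] <;> norm_num

theorem range_orderOf_C : Set.range (orderOf : C → ℕ) = {d | d ∈ ([1, 2, 3, 4, 6, 8] : List ℕ)} := by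
  have hc : ∀ g ∈ C, ∀ d : ℕ, orderOf g = d → d ∈ Set.range (orderOf : C → ℕ) := fun g hg d h =>
    ⟨⟨g, hg⟩, by rw [← Subgroup.orderOf_coe]; exact h⟩
  have ha : ga ∈ C := Subgroup.subset_closure (Or.inl rfl)
  have hb : gb ∈ C := Subgroup.subset_closure (Or.inr rfl)
  refine Set.Subset.antisymm ?_ ?_
  · rintro _ ⟨g, rfl⟩
    rw [← Subgroup.orderOf_coe]
    exact (orderOf_mem g.2).1
  · intro d hd
    simp only [Set.mem_setOf_eq, List.mem_cons, List.not_mem_nil, or_false] at hd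
    rcases hd with rfl | rfl | rfl | rfl | rfl | rfl
    · exact hc 1 (one_mem C) 1 orderOf_one
    · refine hc _ (pow_mem ha 4) 2 (orderOf_eq_of_cyc (r := 2) (by norm_num) (x := ((12, 0), (0, 0), (0, 0), (12, 0))) ?_
        (l := []) (by decide +kernel))
      simp only [Units.val_mul, Units.val_pow_eq_pow_val, pow_succ, pow_zero, one_mul, ga, gb, ← toMat_mm]
      exact congrArg _ (qeq_iff (by decide +kernel))
    · refine hc _ (hb) 3 (orderOf_eq_of_cyc (r := 2) (by norm_num) (x := ((2, 0), (3, 0), (2, 0), (10, 0))) ?_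
        (l := [((10, 0), (10, 0), (11, 0), (2, 0))]) (by decide +kernel))
      simp only [Units.val_mul, Units.val_pow_eq_pow_val, pow_succ, pow_zero, one_mul, ga, gb, ← toMat_mm]
      exact congrArg _ (qeq_iff (by decide +kernel))
    · refine hc _ (pow_mem ha 2) 4 (orderOf_eq_of_cyc (r := 2) (by norm_num) (x := ((5, 0), (0, 0), (0, 0), (8, 0))) ?_
        (l := [((12, 0), (0, 0), (0, 0), (12, 0)), ((8, 0), (0, 0), (0, 0), (5, 0))]) (by decide +kernel))
      simp only [Units.val_mul, Units.val_pow_eq_pow_val, pow_succ, pow_zero, one_mul, ga, gb, ← toMat_mm]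
      exact congrArg _ (qeq_iff (by decide +kernel))
    · refine hc _ (mul_mem (pow_mem ha 4) hb) 6 (orderOf_eq_of_cyc (r := 2) (by norm_num) (x := ((11, 0), (10, 0), (11, 0), (3, 0))) ?_
        (l := [((10, 0), (10, 0), (11, 0), (2, 0)), ((12, 0), (0, 0), (0, 0), (12, 0)), ((2, 0), (3, 0), (2, 0), (10, 0)), ((3, 0), (3, 0), (2, 0), (11, 0))]) (by decide +kernel))
      simp only [Units.val_mul, Units.val_pow_eq_pow_val, pow_succ, pow_zero, one_mul, ga, gb, ← toMat_mm]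
      exact congrArg _ (qeq_iff (by decide +kernel))
    · refine hc _ (ha) 8 (orderOf_eq_of_cyc (r := 2) (by norm_num) (x := ((0, 3), (0, 0), (0, 0), (0, 11))) ?_
        (l := [((5, 0), (0, 0), (0, 0), (8, 0)), ((0, 2), (0, 0), (0, 0), (0, 10)), ((12, 0), (0, 0), (0, 0), (12, 0)), ((0, 10), (0, 0), (0, 0), (0, 2)), ((8, 0), (0, 0), (0, 0), (5, 0)), ((0, 11), (0, 0), (0, 0), (0, 3))]) (by decide +kernel))
      simp only [Units.val_mul, Units.val_pow_eq_pow_val, pow_succ, pow_zero, one_mul, ga, gb, ← toMat_mm]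
      exact congrArg _ (qeq_iff (by decide +kernel))

section target

variable {F : Type*} [Field F] [Fintype F]

/-- Witnesses for the element orders. -/
theorem witnesses : ∀ d ∈ [1, 2, 3, 4, 6, 8, 13], ∃ g : Matrix.SpecialLinearGroup (Fin 3) (ZMod 3), orderOf g = d := by
  have mk : ∀ (M : Matrix (Fin 3) (Fin 3) (ZMod 3)) (d : ℕ), 0 < d → M.det = 1 →
      (cpow M.trace M.adjugate.trace d).1 • (1 : Matrix (Fin 3) (Fin 3) (ZMod 3)) +
        (cpow M.trace M.adjugate.trace d).2.1 • M + (cpow M.trace M.adjugate.trace d).2.2 • (M * M) = 1 →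
      (∀ e < d, 0 < e → (cpow M.trace M.adjugate.trace e).1 • (1 : Matrix (Fin 3) (Fin 3) (ZMod 3)) +
        (cpow M.trace M.adjugate.trace e).2.1 • M + (cpow M.trace M.adjugate.trace e).2.2 • (M * M) ≠ 1) →
      ∃ g : Matrix.SpecialLinearGroup (Fin 3) (ZMod 3), orderOf g = d := fun M d hd hdet h1 h2 =>
    let g : Matrix.SpecialLinearGroup (Fin 3) (ZMod 3) := ⟨M, hdet⟩
    ⟨g, (orderOf_eq_iff hd).2 ⟨Subtype.ext ((Matrix.SpecialLinearGroup.coe_pow g d).trans
      ((pow_eq_cpow hdet rfl rfl d).trans h1)),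
      fun e he he0 h => h2 e he he0 (by
        rw [← pow_eq_cpow hdet rfl rfl e]
        exact (Matrix.SpecialLinearGroup.coe_pow _ e).symm.trans (congrArg Subtype.val h))⟩⟩
  intro d hd
  simp only [List.mem_cons, List.not_mem_nil, or_false] at hd
  rcases hd with rfl | rfl | rfl | rfl | rfl | rfl | rfl
  · exact mk !![1, 0, 0; 0, 1, 0; 0, 0, 1] 1 (by norm_num) (by decide +kernel) (by decide +kernel) (by decide +kernel)
  · exact mk !![2, 0, 0; 0, 2, 0; 0, 0, 1] 2 (by norm_num) (by decide +kernel) (by decide +kernel) (by decide +kernel)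
  · exact mk !![1, 1, 0; 0, 1, 0; 0, 0, 1] 3 (by norm_num) (by decide +kernel) (by decide +kernel) (by decide +kernel)
  · exact mk !![0, 2, 0; 1, 0, 0; 0, 0, 1] 4 (by norm_num) (by decide +kernel) (by decide +kernel) (by decide +kernel)
  · exact mk !![2, 2, 0; 0, 2, 0; 0, 0, 1] 6 (by norm_num) (by decide +kernel) (by decide +kernel) (by decide +kernel)
  · exact mk !![1, 1, 0; 1, 0, 0; 0, 0, 2] 8 (by norm_num) (by decide +kernel) (by decide +kernel) (by decide +kernel)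
  · exact mk !![0, 0, 1; 1, 0, 1; 0, 1, 0] 13 (by norm_num) (by decide +kernel) (by decide +kernel) (by decide +kernel)

theorem range_orderOf_sl (hF : Fintype.card F = 3) :
    Set.range (orderOf : Matrix.SpecialLinearGroup (Fin 3) F → ℕ) = {d | d ∈ [1, 2, 3, 4, 6, 8, 13]} := by
  haveI : CharP F 3 := charP_of_card_eq_prime hF
  let φ : ZMod 3 →+* F := ZMod.castHom (dvd_refl 3) F
  have hφ : Function.Bijective φ :=
    (Fintype.bijective_iff_injective_and_card _).2 ⟨φ.injective, by rw [hF, ZMod.card]⟩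
  let e := RingEquiv.ofBijective φ hφ
  refine Set.Subset.antisymm ?_ ?_
  · rintro _ ⟨g, rfl⟩
    let h := Matrix.SpecialLinearGroup.map (n := Fin 3) e.symm.toRingHom g
    have hinj : Function.Injective (Matrix.SpecialLinearGroup.map (n := Fin 3) e.symm.toRingHom) := fun x y hxy =>
      Subtype.ext (Matrix.map_injective e.symm.injective (congrArg Subtype.val hxy))
    rw [← orderOf_injective _ hinj g]
    have key : ∀ a b : ZMod 3, cpow a b 13 = (1, 0, 0) ∨ cpow a b 8 = (1, 0, 0) ∨ cpow a b 6 = (1, 0, 0) := by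
      decide +kernel
    have hd : ∀ {k : ℕ}, cpow (Matrix.trace h.1) (Matrix.trace h.1.adjugate) k = (1, 0, 0) → orderOf h ∣ k := fun hk =>
      orderOf_dvd_of_pow_eq_one (Subtype.ext (by
        rw [Matrix.SpecialLinearGroup.coe_pow, pow_eq_one_of_cpow h.2 rfl rfl hk]; rfl))
    show orderOf h ∈ _
    rcases key (Matrix.trace h.1) (Matrix.trace h.1.adjugate) with hk | hk | hk
    · exact (by decide : ∀ d ∈ Nat.divisors 13, d ∈ [1, 2, 3, 4, 6, 8, 13]) _ (Nat.mem_divisors.2 ⟨hd hk, by norm_num⟩)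
    · exact (by decide : ∀ d ∈ Nat.divisors 8, d ∈ [1, 2, 3, 4, 6, 8, 13]) _ (Nat.mem_divisors.2 ⟨hd hk, by norm_num⟩)
    · exact (by decide : ∀ d ∈ Nat.divisors 6, d ∈ [1, 2, 3, 4, 6, 8, 13]) _ (Nat.mem_divisors.2 ⟨hd hk, by norm_num⟩)
  · intro d hd
    obtain ⟨g, hg⟩ := witnesses d hd
    have hinj : Function.Injective (Matrix.SpecialLinearGroup.map (n := Fin 3) φ) := fun x y hxy =>
      Subtype.ext (Matrix.map_injective φ.injective (congrArg Subtype.val hxy))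
    exact ⟨Matrix.SpecialLinearGroup.map (n := Fin 3) φ g, by rw [orderOf_injective _ hinj, hg]⟩

end target

/-- There is a finite solvable group with exactly the same set of element orders as the simple group PSL(3,3). -/
theorem result {F : Type*} [Field F] [Fintype F] (hF : Fintype.card F = 3) :
    ∃ (H : Type) (_ : Group H) (_ : Fintype H), Group.IsSolvable H ∧
      Set.range (orderOf : H → ℕ) = Set.range (orderOf : Matrix.ProjectiveSpecialLinearGroup (Fin 3) F → ℕ) := by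
  classical
  haveI : Finite (Semi C) := finite_semi C
  refine ⟨Semi C, inferInstance, Fintype.ofFinite _, isSolvable_semi C solvable, ?_⟩
  haveI : Fact (Nat.Prime 13) := ⟨by norm_num⟩
  haveI : CharP K 13 := charP_of_injective_algebraMap (algebraMap (ZMod 13) K).injective 13
  haveI : Nontrivial K := CharP.nontrivial_of_char_ne_one (R := K) (v := 13) (by norm_num)
  rw [range_orderOf C (p := 13) (by norm_num) (fun c hc h => (orderOf_mem hc).2 h), range_orderOf_C]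
  have hcen : Subgroup.center (Matrix.SpecialLinearGroup (Fin 3) F) = ⊥ := by
    refine (Subgroup.eq_bot_iff_forall _).2 fun z hz => ?_
    obtain ⟨r, hr, hrz⟩ := Matrix.SpecialLinearGroup.mem_center_iff.1 hz
    rw [Fintype.card_fin] at hr
    have h1 : r = 1 := by
      have h3 := FiniteField.pow_card r
      rw [hF, hr] at h3
      exact h3.symm
    exact Subtype.ext (by rw [← hrz, h1, map_one]; rfl)
  have hinj : Function.Injective (QuotientGroup.mk' (Subgroup.center (Matrix.SpecialLinearGroup (Fin 3) F))) := by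
    rw [← MonoidHom.ker_eq_bot_iff, QuotientGroup.ker_mk', hcen]
  have hproj : Set.range (orderOf : Matrix.ProjectiveSpecialLinearGroup (Fin 3) F → ℕ) =
      Set.range (orderOf : Matrix.SpecialLinearGroup (Fin 3) F → ℕ) := by
    refine Set.Subset.antisymm ?_ ?_
    · rintro _ ⟨x, rfl⟩
      obtain ⟨g, rfl⟩ := QuotientGroup.mk'_surjective _ x
      exact ⟨g, (orderOf_injective _ hinj g).symm⟩
    · rintro _ ⟨g, rfl⟩
      exact ⟨_, orderOf_injective _ hinj g⟩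
  rw [hproj, range_orderOf_sl hF]
  ext d
  simp only [Set.mem_insert_iff, Set.mem_setOf_eq, List.mem_cons, List.not_mem_nil, or_false]
  tauto

end Cfsg.Agent.S3437
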