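import Cfsg.Statements.S3438
import Cfsg.Agent.Lib.PGroup.SpectrumFPF
import Cfsg.Agent.S0279

set_option autoImplicit false
set_option synthInstance.maxSize 1024
open Cfsg

namespace Cfsg.Agent.S3438

open Matrix CfsgLib.PGroup.SpectrumFPF

/-- The coefficient ring with 49 elements. -/
abbrev K := QuadraticAlgebra (ZMod 7) ((6 : ℕ) : ZMod 7) 0

instance : Fintype K := Fintype.ofEquiv _ (QuadraticAlgebra.equivProd _ _).symm

/-- The first generator. -/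
def a' : Quad := ((2, 0), (0, 0), (0, 0), (4, 0))
/-- The second generator. -/
def b' : Quad := ((0, 0), (0, 1), (1, 0), (0, 0))
/-- The inverse of the first generator. -/
def ai' : Quad := ((4, 0), (0, 0), (0, 0), (2, 0))
/-- The inverse of the second generator. -/
def bi' : Quad := ((0, 0), (1, 0), (0, 6), (0, 0))

/-- The nontrivial elements of the complement with their powers. -/
def cert : List (Quad × List Quad) :=
  [(((2, 0), (0, 0), (0, 0), (4, 0)), [((4, 0), (0, 0), (0, 0), (2, 0))]),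
    (((0, 0), (0, 1), (1, 0), (0, 0)), [((0, 1), (0, 0), (0, 0), (0, 1)), ((0, 0), (6, 0), (0, 1), (0, 0)), ((6, 0), (0, 0), (0, 0), (6, 0)), ((0, 0), (0, 6), (6, 0), (0, 0)), ((0, 6), (0, 0), (0, 0), (0, 6)), ((0, 0), (1, 0), (0, 6), (0, 0))]),
    (((4, 0), (0, 0), (0, 0), (2, 0)), [((2, 0), (0, 0), (0, 0), (4, 0))]),
    (((0, 0), (0, 4), (2, 0), (0, 0)), [((0, 1), (0, 0), (0, 0), (0, 1)), ((0, 0), (3, 0), (0, 2), (0, 0)), ((6, 0), (0, 0), (0, 0), (6, 0)), ((0, 0), (0, 3), (5, 0), (0, 0)), ((0, 6), (0, 0), (0, 0), (0, 6)), ((0, 0), (4, 0), (0, 5), (0, 0))]),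
    (((0, 0), (0, 2), (4, 0), (0, 0)), [((0, 1), (0, 0), (0, 0), (0, 1)), ((0, 0), (5, 0), (0, 4), (0, 0)), ((6, 0), (0, 0), (0, 0), (6, 0)), ((0, 0), (0, 5), (3, 0), (0, 0)), ((0, 6), (0, 0), (0, 0), (0, 6)), ((0, 0), (2, 0), (0, 3), (0, 0))]),
    (((0, 1), (0, 0), (0, 0), (0, 1)), [((6, 0), (0, 0), (0, 0), (6, 0)), ((0, 6), (0, 0), (0, 0), (0, 6))]),
    (((0, 2), (0, 0), (0, 0), (0, 4)), [((3, 0), (0, 0), (0, 0), (5, 0)), ((0, 6), (0, 0), (0, 0), (0, 6)), ((2, 0), (0, 0), (0, 0), (4, 0)), ((0, 4), (0, 0), (0, 0), (0, 2)), ((6, 0), (0, 0), (0, 0), (6, 0)), ((0, 5), (0, 0), (0, 0), (0, 3)), ((4, 0), (0, 0), (0, 0), (2, 0)), ((0, 1), (0, 0), (0, 0), (0, 1)), ((5, 0), (0, 0), (0, 0), (3, 0)), ((0, 3), (0, 0), (0, 0), (0, 5))]),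
    (((0, 4), (0, 0), (0, 0), (0, 2)), [((5, 0), (0, 0), (0, 0), (3, 0)), ((0, 6), (0, 0), (0, 0), (0, 6)), ((4, 0), (0, 0), (0, 0), (2, 0)), ((0, 2), (0, 0), (0, 0), (0, 4)), ((6, 0), (0, 0), (0, 0), (6, 0)), ((0, 3), (0, 0), (0, 0), (0, 5)), ((2, 0), (0, 0), (0, 0), (4, 0)), ((0, 1), (0, 0), (0, 0), (0, 1)), ((3, 0), (0, 0), (0, 0), (5, 0)), ((0, 5), (0, 0), (0, 0), (0, 3))]),
    (((0, 0), (6, 0), (0, 1), (0, 0)), [((0, 6), (0, 0), (0, 0), (0, 6)), ((0, 0), (0, 1), (1, 0), (0, 0)), ((6, 0), (0, 0), (0, 0), (6, 0)), ((0, 0), (1, 0), (0, 6), (0, 0)), ((0, 1), (0, 0), (0, 0), (0, 1)), ((0, 0), (0, 6), (6, 0), (0, 0))]),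
    (((0, 0), (3, 0), (0, 2), (0, 0)), [((0, 6), (0, 0), (0, 0), (0, 6)), ((0, 0), (0, 4), (2, 0), (0, 0)), ((6, 0), (0, 0), (0, 0), (6, 0)), ((0, 0), (4, 0), (0, 5), (0, 0)), ((0, 1), (0, 0), (0, 0), (0, 1)), ((0, 0), (0, 3), (5, 0), (0, 0))]),
    (((0, 0), (5, 0), (0, 4), (0, 0)), [((0, 6), (0, 0), (0, 0), (0, 6)), ((0, 0), (0, 2), (4, 0), (0, 0)), ((6, 0), (0, 0), (0, 0), (6, 0)), ((0, 0), (2, 0), (0, 3), (0, 0)), ((0, 1), (0, 0), (0, 0), (0, 1)), ((0, 0), (0, 5), (3, 0), (0, 0))]),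
    (((6, 0), (0, 0), (0, 0), (6, 0)), []),
    (((5, 0), (0, 0), (0, 0), (3, 0)), [((4, 0), (0, 0), (0, 0), (2, 0)), ((6, 0), (0, 0), (0, 0), (6, 0)), ((2, 0), (0, 0), (0, 0), (4, 0)), ((3, 0), (0, 0), (0, 0), (5, 0))]),
    (((3, 0), (0, 0), (0, 0), (5, 0)), [((2, 0), (0, 0), (0, 0), (4, 0)), ((6, 0), (0, 0), (0, 0), (6, 0)), ((4, 0), (0, 0), (0, 0), (2, 0)), ((5, 0), (0, 0), (0, 0), (3, 0))]),
    (((0, 0), (0, 6), (6, 0), (0, 0)), [((0, 1), (0, 0), (0, 0), (0, 1)), ((0, 0), (1, 0), (0, 6), (0, 0)), ((6, 0), (0, 0), (0, 0), (6, 0)), ((0, 0), (0, 1), (1, 0), (0, 0)), ((0, 6), (0, 0), (0, 0), (0, 6)), ((0, 0), (6, 0), (0, 1), (0, 0))]),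
    (((0, 0), (0, 3), (5, 0), (0, 0)), [((0, 1), (0, 0), (0, 0), (0, 1)), ((0, 0), (4, 0), (0, 5), (0, 0)), ((6, 0), (0, 0), (0, 0), (6, 0)), ((0, 0), (0, 4), (2, 0), (0, 0)), ((0, 6), (0, 0), (0, 0), (0, 6)), ((0, 0), (3, 0), (0, 2), (0, 0))]),
    (((0, 0), (0, 5), (3, 0), (0, 0)), [((0, 1), (0, 0), (0, 0), (0, 1)), ((0, 0), (2, 0), (0, 3), (0, 0)), ((6, 0), (0, 0), (0, 0), (6, 0)), ((0, 0), (0, 2), (4, 0), (0, 0)), ((0, 6), (0, 0), (0, 0), (0, 6)), ((0, 0), (5, 0), (0, 4), (0, 0))]),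
    (((0, 6), (0, 0), (0, 0), (0, 6)), [((6, 0), (0, 0), (0, 0), (6, 0)), ((0, 1), (0, 0), (0, 0), (0, 1))]),
    (((0, 5), (0, 0), (0, 0), (0, 3)), [((3, 0), (0, 0), (0, 0), (5, 0)), ((0, 1), (0, 0), (0, 0), (0, 1)), ((2, 0), (0, 0), (0, 0), (4, 0)), ((0, 3), (0, 0), (0, 0), (0, 5)), ((6, 0), (0, 0), (0, 0), (6, 0)), ((0, 2), (0, 0), (0, 0), (0, 4)), ((4, 0), (0, 0), (0, 0), (2, 0)), ((0, 6), (0, 0), (0, 0), (0, 6)), ((5, 0), (0, 0), (0, 0), (3, 0)), ((0, 4), (0, 0), (0, 0), (0, 2))]),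
    (((0, 3), (0, 0), (0, 0), (0, 5)), [((5, 0), (0, 0), (0, 0), (3, 0)), ((0, 1), (0, 0), (0, 0), (0, 1)), ((4, 0), (0, 0), (0, 0), (2, 0)), ((0, 5), (0, 0), (0, 0), (0, 3)), ((6, 0), (0, 0), (0, 0), (6, 0)), ((0, 4), (0, 0), (0, 0), (0, 2)), ((2, 0), (0, 0), (0, 0), (4, 0)), ((0, 6), (0, 0), (0, 0), (0, 6)), ((3, 0), (0, 0), (0, 0), (5, 0)), ((0, 2), (0, 0), (0, 0), (0, 4))]),
    (((0, 0), (1, 0), (0, 6), (0, 0)), [((0, 6), (0, 0), (0, 0), (0, 6)), ((0, 0), (0, 6), (6, 0), (0, 0)), ((6, 0), (0, 0), (0, 0), (6, 0)), ((0, 0), (6, 0), (0, 1), (0, 0)), ((0, 1), (0, 0), (0, 0), (0, 1)), ((0, 0), (0, 1), (1, 0), (0, 0))]),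
    (((0, 0), (4, 0), (0, 5), (0, 0)), [((0, 6), (0, 0), (0, 0), (0, 6)), ((0, 0), (0, 3), (5, 0), (0, 0)), ((6, 0), (0, 0), (0, 0), (6, 0)), ((0, 0), (3, 0), (0, 2), (0, 0)), ((0, 1), (0, 0), (0, 0), (0, 1)), ((0, 0), (0, 4), (2, 0), (0, 0))]),
    (((0, 0), (2, 0), (0, 3), (0, 0)), [((0, 6), (0, 0), (0, 0), (0, 6)), ((0, 0), (0, 5), (3, 0), (0, 0)), ((6, 0), (0, 0), (0, 0), (6, 0)), ((0, 0), (5, 0), (0, 4), (0, 0)), ((0, 1), (0, 0), (0, 0), (0, 1)), ((0, 0), (0, 2), (4, 0), (0, 0))])]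

/-- The elements of the complement. -/
def elts : List Quad := qone :: cert.map Prod.fst

/-- The first generator as an invertible matrix. -/
def ga : GL (Fin 2) K := ⟨toMat 7 6 a', toMat 7 6 ai',
  by rw [← toMat_mm, ← toMat_one]; exact congrArg _ (qeq_iff (by decide +kernel)),
  by rw [← toMat_mm, ← toMat_one]; exact congrArg _ (qeq_iff (by decide +kernel))⟩
/-- The second generator as an invertible matrix. -/
def gb : GL (Fin 2) K := ⟨toMat 7 6 b', toMat 7 6 bi',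
  by rw [← toMat_mm, ← toMat_one]; exact congrArg _ (qeq_iff (by decide +kernel)),
  by rw [← toMat_mm, ← toMat_one]; exact congrArg _ (qeq_iff (by decide +kernel))⟩

/-- The complement. -/
def C : Subgroup (GL (Fin 2) K) := Subgroup.closure {ga, gb}

theorem mem_elts {g : GL (Fin 2) K} (hg : g ∈ C) : ∃ x ∈ elts, g.1 = toMat 7 6 x := by
  refine exists_mem_list (List.mem_cons_self ..) ?_ ?_ hg
  · rintro s (rfl | rfl)
    · exact ⟨a', by decide +kernel, rfl⟩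
    · exact ⟨b', by decide +kernel, rfl⟩
  · rintro s (rfl | rfl)
    · exact ⟨ai', by decide +kernel, rfl⟩
    · exact ⟨bi', by decide +kernel, rfl⟩

theorem cert_ok : cert.all (fun c => cyc 7 6 c.1 c.1 c.2 &&
    !(Nat.beq (detNorm 7 6 c.1) 0) && ([1, 2, 3, 4, 6, 8, 12] : List ℕ).any (Nat.beq (c.2.length + 2))) = true := by
  decide +kernel

theorem orderOf_mem {g : GL (Fin 2) K} (hg : g ∈ C) :
    orderOf g ∈ ([1, 2, 3, 4, 6, 8, 12] : List ℕ) ∧ (g ≠ 1 → IsUnit (g.1 - 1).det) := by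
  obtain ⟨x, hx, he⟩ := mem_elts hg
  rcases List.mem_cons.1 hx with rfl | hx'
  · have hg1 : g = 1 := Units.ext (by rw [he, toMat_one, Units.val_one])
    subst hg1
    exact ⟨by simp, fun h => absurd rfl h⟩
  · obtain ⟨⟨x', l⟩, hc, rfl⟩ := List.mem_map.1 hx'
    have h := List.all_eq_true.1 cert_ok _ hc
    simp only [Bool.and_eq_true, Bool.not_eq_true', List.any_eq_true, Nat.beq_eq] at h
    obtain ⟨⟨h1, h2⟩, d, hd, h3⟩ := h
    refine ⟨?_, fun _ => he ▸ isUnit_det_sub (by norm_num) h2⟩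
    rw [orderOf_eq_of_cyc (by norm_num) he h1, h3]
    exact hd

theorem solvable : Group.IsSolvable C := by
  refine isSolvable_of_bound (B := 24) (by norm_num) ?_ fun g => ?_
  · classical
    choose f hf hf' using fun g : C => mem_elts g.2
    calc Nat.card C ≤ Nat.card {x // x ∈ elts.toFinset} := Nat.card_le_card_of_injective
          (fun g => (⟨f g, List.mem_toFinset.2 (hf g)⟩ : {x // x ∈ elts.toFinset})) (fun g h e => by
            have e' : f g = f h := congrArg Subtype.val e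
            exact Subtype.ext (Units.ext (by rw [hf', hf', e'])))
      _ ≤ 24 := by
          rw [Nat.card_eq_fintype_card, Fintype.card_coe]
          exact (List.toFinset_card_le _).trans (le_of_eq rfl)
  · rw [← Subgroup.orderOf_coe]
    have hd := (orderOf_mem g.2).1
    simp only [List.mem_cons, List.not_mem_nil, or_false] at hd
    rcases hd with h | h | h | h | h | h | h <;> rw [h] <;> norm_num

theorem range_orderOf_C : Set.range (orderOf : C → ℕ) = {d | d ∈ ([1, 2, 3, 4, 6, 8, 12] : List ℕ)} := by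
  have hc : ∀ g ∈ C, ∀ d : ℕ, orderOf g = d → d ∈ Set.range (orderOf : C → ℕ) := fun g hg d h =>
    ⟨⟨g, hg⟩, by rw [← Subgroup.orderOf_coe]; exact h⟩
  have ha : ga ∈ C := Subgroup.subset_closure (Or.inl rfl)
  have hb : gb ∈ C := Subgroup.subset_closure (Or.inr rfl)
  refine Set.Subset.antisymm ?_ ?_
  · rintro _ ⟨g, rfl⟩
    rw [← Subgroup.orderOf_coe]
    exact (orderOf_mem g.2).1
  · intro d hd
    simp only [Set.mem_setOf_eq, List.mem_cons, List.not_mem_nil, or_false] at hd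
    rcases hd with rfl | rfl | rfl | rfl | rfl | rfl | rfl
    · exact hc 1 (one_mem C) 1 orderOf_one
    · refine hc _ (pow_mem hb 4) 2 (orderOf_eq_of_cyc (r := 6) (by norm_num) (x := ((6, 0), (0, 0), (0, 0), (6, 0))) ?_
        (l := []) (by decide +kernel))
      simp only [Units.val_mul, Units.val_pow_eq_pow_val, pow_succ, pow_zero, one_mul, ga, gb, ← toMat_mm]
      exact congrArg _ (qeq_iff (by decide +kernel))
    · refine hc _ (ha) 3 (orderOf_eq_of_cyc (r := 6) (by norm_num) (x := ((2, 0), (0, 0), (0, 0), (4, 0))) ?_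
        (l := [((4, 0), (0, 0), (0, 0), (2, 0))]) (by decide +kernel))
      simp only [Units.val_mul, Units.val_pow_eq_pow_val, pow_succ, pow_zero, one_mul, ga, gb, ← toMat_mm]
      exact congrArg _ (qeq_iff (by decide +kernel))
    · refine hc _ (pow_mem hb 2) 4 (orderOf_eq_of_cyc (r := 6) (by norm_num) (x := ((0, 1), (0, 0), (0, 0), (0, 1))) ?_
        (l := [((6, 0), (0, 0), (0, 0), (6, 0)), ((0, 6), (0, 0), (0, 0), (0, 6))]) (by decide +kernel))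
      simp only [Units.val_mul, Units.val_pow_eq_pow_val, pow_succ, pow_zero, one_mul, ga, gb, ← toMat_mm]
      exact congrArg _ (qeq_iff (by decide +kernel))
    · refine hc _ (mul_mem (pow_mem hb 4) ha) 6 (orderOf_eq_of_cyc (r := 6) (by norm_num) (x := ((5, 0), (0, 0), (0, 0), (3, 0))) ?_
        (l := [((4, 0), (0, 0), (0, 0), (2, 0)), ((6, 0), (0, 0), (0, 0), (6, 0)), ((2, 0), (0, 0), (0, 0), (4, 0)), ((3, 0), (0, 0), (0, 0), (5, 0))]) (by decide +kernel))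
      simp only [Units.val_mul, Units.val_pow_eq_pow_val, pow_succ, pow_zero, one_mul, ga, gb, ← toMat_mm]
      exact congrArg _ (qeq_iff (by decide +kernel))
    · refine hc _ (hb) 8 (orderOf_eq_of_cyc (r := 6) (by norm_num) (x := ((0, 0), (0, 1), (1, 0), (0, 0))) ?_
        (l := [((0, 1), (0, 0), (0, 0), (0, 1)), ((0, 0), (6, 0), (0, 1), (0, 0)), ((6, 0), (0, 0), (0, 0), (6, 0)), ((0, 0), (0, 6), (6, 0), (0, 0)), ((0, 6), (0, 0), (0, 0), (0, 6)), ((0, 0), (1, 0), (0, 6), (0, 0))]) (by decide +kernel))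
      simp only [Units.val_mul, Units.val_pow_eq_pow_val, pow_succ, pow_zero, one_mul, ga, gb, ← toMat_mm]
      exact congrArg _ (qeq_iff (by decide +kernel))
    · refine hc _ (mul_mem (pow_mem hb 2) ha) 12 (orderOf_eq_of_cyc (r := 6) (by norm_num) (x := ((0, 2), (0, 0), (0, 0), (0, 4))) ?_
        (l := [((3, 0), (0, 0), (0, 0), (5, 0)), ((0, 6), (0, 0), (0, 0), (0, 6)), ((2, 0), (0, 0), (0, 0), (4, 0)), ((0, 4), (0, 0), (0, 0), (0, 2)), ((6, 0), (0, 0), (0, 0), (6, 0)), ((0, 5), (0, 0), (0, 0), (0, 3)), ((4, 0), (0, 0), (0, 0), (2, 0)), ((0, 1), (0, 0), (0, 0), (0, 1)), ((5, 0), (0, 0), (0, 0), (3, 0)), ((0, 3), (0, 0), (0, 0), (0, 5))]) (by decide +kernel))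
      simp only [Units.val_mul, Units.val_pow_eq_pow_val, pow_succ, pow_zero, one_mul, ga, gb, ← toMat_mm]
      exact congrArg _ (qeq_iff (by decide +kernel))

section target

/-- The field with nine elements, concretely. -/
abbrev K9 := QuadraticAlgebra (ZMod 3) (-1) 0

instance : Fintype K9 := Fintype.ofEquiv _ (QuadraticAlgebra.equivProd _ _).symm

theorem cpow_map {R S : Type*} [CommRing R] [CommRing S] (f : R →+* S) (a b : R) (k : ℕ) :
    cpow (f a) (f b) k = (f (cpow a b k).1, f (cpow a b k).2.1, f (cpow a b k).2.2) := by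
  induction k with
  | zero => simp [cpow]
  | succ k ih => simp [cpow, step, ih]

/-- Witnesses for the element orders. -/
theorem witnesses : ∀ d ∈ [1, 2, 3, 4, 6, 7, 8, 12], ∃ g : Matrix.SpecialLinearGroup (Fin 3) K9,
    g.1ᵀ * g.1.map (· ^ 3) = 1 ∧ orderOf g = d := by
  have mk : ∀ (M : Matrix (Fin 3) (Fin 3) K9) (d : ℕ), 0 < d → M.det = 1 → Mᵀ * M.map (· ^ 3) = 1 →
      (cpow M.trace M.adjugate.trace d).1 • (1 : Matrix (Fin 3) (Fin 3) K9) +
        (cpow M.trace M.adjugate.trace d).2.1 • M + (cpow M.trace M.adjugate.trace d).2.2 • (M * M) = 1 →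
      (∀ e < d, 0 < e → (cpow M.trace M.adjugate.trace e).1 • (1 : Matrix (Fin 3) (Fin 3) K9) +
        (cpow M.trace M.adjugate.trace e).2.1 • M + (cpow M.trace M.adjugate.trace e).2.2 • (M * M) ≠ 1) →
      ∃ g : Matrix.SpecialLinearGroup (Fin 3) K9, g.1ᵀ * g.1.map (· ^ 3) = 1 ∧ orderOf g = d :=
    fun M d hd hdet hu h1 h2 =>
    let g : Matrix.SpecialLinearGroup (Fin 3) K9 := ⟨M, hdet⟩
    ⟨g, hu, (orderOf_eq_iff hd).2 ⟨Subtype.ext ((Matrix.SpecialLinearGroup.coe_pow g d).trans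
      ((pow_eq_cpow hdet rfl rfl d).trans h1)),
      fun e he he0 h => h2 e he he0 (by
        rw [← pow_eq_cpow hdet rfl rfl e]
        exact (Matrix.SpecialLinearGroup.coe_pow _ e).symm.trans (congrArg Subtype.val h))⟩⟩
  intro d hd
  simp only [List.mem_cons, List.not_mem_nil, or_false] at hd
  rcases hd with rfl | rfl | rfl | rfl | rfl | rfl | rfl | rfl
  · exact mk !![⟨1,0⟩, ⟨0,0⟩, ⟨0,0⟩; ⟨0,0⟩, ⟨1,0⟩, ⟨0,0⟩; ⟨0,0⟩, ⟨0,0⟩, ⟨1,0⟩] 1 (by norm_num) (by decide +kernel) (by decide +kernel) (by decide +kernel) (by decide +kernel)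
  · exact mk !![⟨0,0⟩, ⟨0,0⟩, ⟨0,2⟩; ⟨0,0⟩, ⟨2,0⟩, ⟨0,0⟩; ⟨0,1⟩, ⟨0,0⟩, ⟨0,0⟩] 2 (by norm_num) (by decide +kernel) (by decide +kernel) (by decide +kernel) (by decide +kernel)
  · exact mk !![⟨0,0⟩, ⟨0,1⟩, ⟨0,0⟩; ⟨0,0⟩, ⟨0,0⟩, ⟨2,0⟩; ⟨0,1⟩, ⟨0,0⟩, ⟨0,0⟩] 3 (by norm_num) (by decide +kernel) (by decide +kernel) (by decide +kernel) (by decide +kernel)
  · exact mk !![⟨0,0⟩, ⟨0,0⟩, ⟨0,1⟩; ⟨0,0⟩, ⟨1,0⟩, ⟨0,0⟩; ⟨0,1⟩, ⟨0,0⟩, ⟨0,0⟩] 4 (by norm_num) (by decide +kernel) (by decide +kernel) (by decide +kernel) (by decide +kernel)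
  · exact mk !![⟨0,1⟩, ⟨0,1⟩, ⟨2,2⟩; ⟨0,1⟩, ⟨2,1⟩, ⟨2,0⟩; ⟨1,1⟩, ⟨1,0⟩, ⟨0,1⟩] 6 (by norm_num) (by decide +kernel) (by decide +kernel) (by decide +kernel) (by decide +kernel)
  · exact mk !![⟨0,0⟩, ⟨1,1⟩, ⟨1,1⟩; ⟨0,0⟩, ⟨1,1⟩, ⟨2,2⟩; ⟨0,1⟩, ⟨0,0⟩, ⟨0,0⟩] 7 (by norm_num) (by decide +kernel) (by decide +kernel) (by decide +kernel) (by decide +kernel)
  · exact mk !![⟨0,0⟩, ⟨0,0⟩, ⟨1,0⟩; ⟨0,0⟩, ⟨0,1⟩, ⟨0,0⟩; ⟨0,1⟩, ⟨0,0⟩, ⟨0,0⟩] 8 (by norm_num) (by decide +kernel) (by decide +kernel) (by decide +kernel) (by decide +kernel)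
  · exact mk !![⟨0,0⟩, ⟨1,1⟩, ⟨1,2⟩; ⟨0,0⟩, ⟨2,1⟩, ⟨2,2⟩; ⟨0,1⟩, ⟨0,0⟩, ⟨0,0⟩] 12 (by norm_num) (by decide +kernel) (by decide +kernel) (by decide +kernel) (by decide +kernel)

theorem K9_inv : ∀ z : K9, z ≠ 0 → ∃ w, w * z = 1 := by decide +kernel

theorem K9_key : ∀ a : K9, cpow a (a ^ 3) 12 = (1, 0, 0) ∨ cpow a (a ^ 3) 8 = (1, 0, 0) ∨
    cpow a (a ^ 3) 7 = (1, 0, 0) := by decide +kernel

variable {F : Type*} [Field F] [Fintype F]

theorem range_orderOf_su (hF : Fintype.card F = 9) :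
    Set.range (orderOf : Cfsg.SU 3 F 3 → ℕ) = {d | d ∈ [1, 2, 3, 4, 6, 7, 8, 12]} := by
  classical
  haveI : Fact (Nat.Prime 3) := ⟨Nat.prime_three⟩
  haveI : CharP F 3 := charP_of_card_eq_prime_pow (f := 2) (by rw [hF]; norm_num)
  letI : Algebra (ZMod 3) F := ZMod.algebra F 3
  obtain ⟨i, hi⟩ : IsSquare (-1 : F) := FiniteField.isSquare_neg_one_iff.2 (by rw [hF]; norm_num)
  let φ : K9 →ₐ[ZMod 3] F := QuadraticAlgebra.lift ⟨i, by simp [← hi]⟩
  have hinv := K9_inv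
  have hφi : Function.Injective φ := (injective_iff_map_eq_zero φ).2 fun z hz => by
    by_contra h
    obtain ⟨w, hw⟩ := hinv z h
    have := congrArg φ hw
    rw [map_mul, hz, mul_zero, map_one] at this
    exact zero_ne_one this
  have hφ : Function.Bijective φ.toRingHom := (Fintype.bijective_iff_injective_and_card _).2 ⟨hφi, by
    rw [hF, Fintype.card_congr (QuadraticAlgebra.equivProd _ _), Fintype.card_prod, ZMod.card]⟩
  have hherm : ∀ (g : Matrix.SpecialLinearGroup (Fin 3) F),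
      g ∈ Cfsg.SU 3 F 3 ↔ g.1ᵀ * g.1.map (· ^ 3) = 1 := by
    intro g
    have hmem : g ∈ Cfsg.SU 3 F 3 ↔ ∀ u v, Cfsg.hermForm 3 F 3 (g.1 *ᵥ u) (g.1 *ᵥ v) = Cfsg.hermForm 3 F 3 u v := Iff.rfl
    have hform : ∀ u v : Fin 3 → F, Cfsg.hermForm 3 F 3 u v = u ⬝ᵥ (fun x => v x ^ 3) := fun u v => rfl
    have hpow : ∀ v : Fin 3 → F, (fun x => (g.1 *ᵥ v) x ^ 3) = g.1.map (· ^ 3) *ᵥ fun x => v x ^ 3 := fun v => by
      funext x
      simp only [Matrix.mulVec, dotProduct, Matrix.map_apply]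
      rw [sum_pow_char 3]
      simp [mul_pow]
    rw [hmem]
    simp only [hform, hpow, Matrix.dotProduct_mulVec, Matrix.vecMul_mulVec]
    constructor
    · intro h
      ext a b
      have h1 := h (Pi.single a 1) (Pi.single b 1)
      have e : (fun x => (Pi.single b (1 : F) : Fin 3 → F) x ^ 3) = Pi.single b 1 := by
        funext x; rcases eq_or_ne x b with rfl | hx <;> simp [*]
      rw [e] at h1
      simpa [Matrix.vecMul, dotProduct, Matrix.one_apply, Pi.single_apply, eq_comm] using h1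
    · intro h u v
      rw [h, Matrix.vecMul_one]
  refine Set.Subset.antisymm ?_ ?_
  · rintro _ ⟨⟨g, hg⟩, rfl⟩
    rw [← Subgroup.orderOf_coe]
    show orderOf g ∈ _
    have hb : g.1.adjugate.trace = g.1.trace ^ 3 := by
      have h1 := (hherm g).1 hg
      have h2 : g.1.adjugateᵀ = g.1.map (· ^ 3) := by
        rw [Matrix.adjugate_transpose]
        calc g.1ᵀ.adjugate = g.1ᵀ.adjugate * (g.1ᵀ * g.1.map (· ^ 3)) := by rw [h1, mul_one]
          _ = g.1.map (· ^ 3) := by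
            rw [← mul_assoc, Matrix.adjugate_mul, Matrix.det_transpose, g.2, one_smul, one_mul]
      rw [← Matrix.trace_transpose, h2]
      simp only [Matrix.trace, Matrix.diag_apply, Matrix.map_apply]
      rw [sum_pow_char 3]
    obtain ⟨a, ha⟩ := hφ.2 g.1.trace
    have key := K9_key
    have hd : ∀ {k : ℕ}, cpow a (a ^ 3) k = (1, 0, 0) → orderOf g ∣ k := fun {k} hk =>
      orderOf_dvd_of_pow_eq_one (Subtype.ext (by
        rw [Matrix.SpecialLinearGroup.coe_pow, pow_eq_one_of_cpow g.2 rfl hb (k := k)]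
        · rfl
        · rw [← ha, ← map_pow, cpow_map, hk]
          simp))
    rcases key a with hk | hk | hk
    · exact (by decide : ∀ d ∈ Nat.divisors 12, d ∈ [1, 2, 3, 4, 6, 7, 8, 12]) _ (Nat.mem_divisors.2 ⟨hd hk, by norm_num⟩)
    · exact (by decide : ∀ d ∈ Nat.divisors 8, d ∈ [1, 2, 3, 4, 6, 7, 8, 12]) _ (Nat.mem_divisors.2 ⟨hd hk, by norm_num⟩)
    · exact (by decide : ∀ d ∈ Nat.divisors 7, d ∈ [1, 2, 3, 4, 6, 7, 8, 12]) _ (Nat.mem_divisors.2 ⟨hd hk, by norm_num⟩)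
  · intro d hd
    obtain ⟨g, hu, hg⟩ := witnesses d hd
    have hinj : Function.Injective (Matrix.SpecialLinearGroup.map (n := Fin 3) φ.toRingHom) := fun x y hxy =>
      Subtype.ext (Matrix.map_injective hφi (congrArg Subtype.val hxy))
    refine ⟨⟨Matrix.SpecialLinearGroup.map (n := Fin 3) φ.toRingHom g, (hherm _).2 ?_⟩, ?_⟩
    · have h := congrArg (RingHom.mapMatrix φ.toRingHom) hu
      rw [map_mul, map_one] at h
      rw [show (Matrix.SpecialLinearGroup.map (n := Fin 3) φ.toRingHom g).1 = g.1.map φ.toRingHom from rfl]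
      rw [← h]
      ext a b
      simp [Matrix.mul_apply]
    · rw [← Subgroup.orderOf_coe, orderOf_injective _ hinj, hg]

end target

/-- There is a finite solvable group with exactly the same set of element orders as the simple group PSU(3,3) (realised over the field with 9 elements). -/
theorem result {F : Type*} [Field F] [Fintype F] (hF : Fintype.card F = 9) :
    ∃ (H : Type) (_ : Group H) (_ : Fintype H), Group.IsSolvable H ∧ Set.range (orderOf : H → ℕ) = Set.range (orderOf : Cfsg.PSU 3 F 3 → ℕ) := by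
  classical
  haveI : Finite (Semi C) := finite_semi C
  refine ⟨Semi C, inferInstance, Fintype.ofFinite _, isSolvable_semi C solvable, ?_⟩
  haveI : Fact (Nat.Prime 7) := ⟨by norm_num⟩
  haveI : CharP K 7 := charP_of_injective_algebraMap (algebraMap (ZMod 7) K).injective 7
  haveI : Nontrivial K := CharP.nontrivial_of_char_ne_one (R := K) (v := 7) (by norm_num)
  rw [range_orderOf C (p := 7) (by norm_num) (fun c hc h => (orderOf_mem hc).2 h), range_orderOf_C]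
  have hcen : Subgroup.center (Cfsg.SU 3 F 3) = ⊥ := Subgroup.eq_bot_of_card_eq _
    (Cfsg.Agent.S0279.result (q := 3) (by rw [hF]; norm_num) 3 le_rfl)
  have hinj : Function.Injective (QuotientGroup.mk' (Subgroup.center (Cfsg.SU 3 F 3))) := by
    rw [← MonoidHom.ker_eq_bot_iff, QuotientGroup.ker_mk', hcen]
  have hproj : Set.range (orderOf : Cfsg.PSU 3 F 3 → ℕ) = Set.range (orderOf : Cfsg.SU 3 F 3 → ℕ) := by
    refine Set.Subset.antisymm ?_ ?_
    · rintro _ ⟨x, rfl⟩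
      obtain ⟨g, rfl⟩ := QuotientGroup.mk'_surjective _ x
      exact ⟨g, (orderOf_injective _ hinj g).symm⟩
    · rintro _ ⟨g, rfl⟩
      exact ⟨_, orderOf_injective _ hinj g⟩
  rw [hproj, range_orderOf_su hF]
  ext d
  simp only [Set.mem_insert_iff, Set.mem_setOf_eq, List.mem_cons, List.not_mem_nil, or_false]
  tauto

end Cfsg.Agent.S3438
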