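import Cfsg.Statements.S3439
import Cfsg.Agent.Lib.Recognition.SolvableNine
import Cfsg.Agent.Lib.Recognition.SpFourElements

set_option autoImplicit false
open Cfsg

namespace Cfsg.Agent.S3439

/-- There is a finite solvable group with exactly the same set of element orders as the simple group PSp(4,3). -/
theorem result {F : Type*} [Field F] [Fintype F] (hF : Fintype.card F = 3) :
    ∃ (H : Type) (_ : Group H) (_ : Fintype H), Group.IsSolvable H ∧ Set.range (orderOf : H → ℕ) = Set.range (orderOf : Cfsg.PSp 2 F → ℕ) := by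

  haveI : Fact (Nat.Prime 3) := ⟨Nat.prime_three⟩
  haveI : CharP F 3 := charP_of_card_eq_prime hF
  haveI : Fintype (GaloisField 3 4) := Fintype.ofFinite _
  classical
  have hK : Fintype.card (GaloisField 3 4) = 81 := by
    rw [← Nat.card_eq_fintype_card, GaloisField.card 3 4 (by norm_num)]; norm_num
  obtain ⟨u, hu⟩ := IsCyclic.exists_ofOrder_eq_natCard (α := (GaloisField 3 4)ˣ)
  have hu80 : orderOf u = 80 := by
    rw [hu, Nat.card_units, Nat.card_eq_fintype_card, hK]
  have hc : (u : GaloisField 3 4) ^ 9 ≠ u := by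
    intro h
    have h1 : u ^ 9 = u ^ 1 := by
      rw [pow_one]; exact Units.ext (by rw [Units.val_pow_eq_pow_val]; exact h)
    rw [pow_inj_mod, hu80] at h1
    norm_num at h1
  have hζ : ((u : GaloisField 3 4) ^ 16) ^ 5 = 1 := by
    rw [← pow_mul, ← Units.val_pow_eq_pow_val, show 16 * 5 = orderOf u by rw [hu80], pow_orderOf_eq_one, Units.val_one]
  have hζ1 : (u : GaloisField 3 4) ^ 16 ≠ 1 := by
    intro h
    have h1 : u ^ 16 = u ^ 0 := by
      rw [pow_zero]; exact Units.ext (by rw [Units.val_pow_eq_pow_val, Units.val_one]; exact h)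
    rw [pow_inj_mod, hu80] at h1
    norm_num at h1
  haveI : Finite (CfsgLib.Recognition.SolvableNine.A (GaloisField 3 4)) := Finite.of_equiv _ SemidirectProduct.equivProd.symm
  haveI : Finite (CfsgLib.Recognition.SolvableNine.Solv _ hζ) := Finite.of_equiv _ SemidirectProduct.equivProd.symm
  refine ⟨CfsgLib.Recognition.SolvableNine.Solv _ hζ, inferInstance, Fintype.ofFinite _, CfsgLib.Recognition.SolvableNine.solv_isSolvable hK _ hζ, ?_⟩
  refine CfsgLib.Recognition.SpFourElements.range_eq_of_good 3 (fun x => ?_) (fun n hn => ?_)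
  · unfold CfsgLib.Recognition.SpFourSpectrum.Good CfsgLib.Recognition.SpFourSpectrum.unipExp
    rw [hF]
    rcases CfsgLib.Recognition.SolvableNine.solv_orderOf hK _ hζ hζ1 x with h | h | h
    · exact Or.inl (by simpa using h)
    · exact Or.inr (Or.inr (Or.inr (Or.inr (by norm_num; exact h))))
    · exact Or.inr (Or.inr (Or.inl (by norm_num; exact h)))
  · rw [hF] at hn
    unfold CfsgLib.Recognition.SpFourSpectrum.unipExp at hn
    norm_num at hn
    obtain ⟨x9, h9⟩ := CfsgLib.Recognition.SolvableNine.exists_nine _ hζ hc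
    obtain ⟨x5, h5⟩ := CfsgLib.Recognition.SolvableNine.exists_five _ hζ hζ1
    obtain ⟨x12, h12⟩ := CfsgLib.Recognition.SolvableNine.exists_twelve hK _ hζ hc
    rcases hn with rfl | rfl | rfl | rfl | rfl
    · exact ⟨x9, h9⟩
    · exact ⟨x12, dvd_trans (by norm_num) h12⟩
    · exact ⟨x12, h12⟩
    · exact ⟨x12, dvd_trans (by norm_num) h12⟩
    · exact ⟨x5, h5⟩

end Cfsg.Agent.S3439
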