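import Cfsg.Statements.S3443

set_option autoImplicit false
open Cfsg

namespace Cfsg.Agent.S3443

/-- Let G be a finite group and V a normal elementary abelian subgroup of G (abelian of prime exponent p, possibly trivial). Then the semidirect product V ⋊ G, with G acting on V by conjugation, has exactly the same set of element orders as G. -/
theorem result {G : Type*} [Group G] [Finite G] (V : Subgroup G) [V.Normal] (p : ℕ) (hp : p.Prime)
    (hcomm : ∀ x y : V, x * y = y * x) (hexp : ∀ x : V, x ^ p = 1) :
    Set.range (orderOf : V ⋊[MulAut.conjNormal] G → ℕ) = Set.range (orderOf : G → ℕ) := by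
  ext n
  constructor
  · rintro ⟨x, rfl⟩
    let π : (V ⋊[MulAut.conjNormal] G) →* G := SemidirectProduct.rightHom
    let μ : (V ⋊[MulAut.conjNormal] G) →* G :=
      SemidirectProduct.lift V.subtype (MonoidHom.id G) (fun g => by ext v; simp)
    have hμ : ∀ y, μ y = (y.left : G) * y.right := fun y => rfl
    have hinj : Function.Injective (π.prod μ) := by
      intro a b hab
      have h1 : a.right = b.right := congrArg Prod.fst hab
      have h2 : μ a = μ b := congrArg Prod.snd hab
      rw [hμ, hμ, h1] at h2
      exact SemidirectProduct.ext (Subtype.ext (mul_right_cancel h2)) h1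
    rw [← orderOf_injective _ hinj x, MonoidHom.prod_apply, Prod.orderOf_mk]
    set a := π x with ha
    set b := μ x with hb
    let q := QuotientGroup.mk' V
    have hq : q a = q b := by
      rw [ha, hb, hμ]
      change q x.right = q (x.left * x.right)
      rw [map_mul, show q (x.left : G) = 1 from (QuotientGroup.eq_one_iff _).mpr x.left.2, one_mul]
    set k := orderOf (q a) with hk
    have key : ∀ c : G, q c = q a → orderOf c = k ∨ orderOf c = k * p := by
      intro c hc
      have h1 : k ∣ orderOf c := by rw [hk, ← hc]; exact orderOf_map_dvd q c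
      have h2 : orderOf c ∣ k * p := by
        rw [orderOf_dvd_iff_pow_eq_one, pow_mul]
        have : c ^ k ∈ V := by
          rw [← QuotientGroup.eq_one_iff]
          change q (c ^ k) = 1
          rw [map_pow, hk, ← hc, pow_orderOf_eq_one]
        have h := hexp ⟨_, this⟩
        exact congrArg Subtype.val h
      obtain ⟨d, hd⟩ := h1
      rw [hd] at h2
      have hk0 : 0 < k := orderOf_pos _
      rcases (Nat.dvd_prime hp).mp ((Nat.mul_dvd_mul_iff_left hk0).mp h2) with rfl | rfl
      · left; rw [hd, mul_one]
      · right; exact hd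
    rcases key a rfl with h1 | h1 <;> rcases key b hq.symm with h2 | h2 <;> rw [h1, h2]
    · exact ⟨a, by rw [Nat.lcm_self, h1]⟩
    · exact ⟨b, by rw [Nat.lcm_eq_right (dvd_mul_right k p), h2]⟩
    · exact ⟨a, by rw [Nat.lcm_eq_left (dvd_mul_right k p), h1]⟩
    · exact ⟨a, by rw [Nat.lcm_self, h1]⟩
  · rintro ⟨g, rfl⟩
    exact ⟨SemidirectProduct.inr g, orderOf_injective _ SemidirectProduct.inr_injective g⟩

end Cfsg.Agent.S3443
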