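import Cfsg.Statements.S3448
import Cfsg.Agent.Lib.Recognition.AltFiveSpectrum

set_option autoImplicit false
open Cfsg

namespace Cfsg.Agent.S3448

/-- The set of element orders of the direct product of two copies of the alternating group of degree 5 is {1, 2, 3, 5, 6, 10, 15}. (It is shared by the direct product of two Frobenius groups of orders 50 and 75, so this direct product is not determined by its element orders.) -/
theorem result : Set.range (orderOf : alternatingGroup (Fin 5) × alternatingGroup (Fin 5) → ℕ) = {1, 2, 3, 5, 6, 10, 15} := by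
  ext n
  constructor
  · rintro ⟨⟨a, b⟩, rfl⟩
    rw [Prod.orderOf_mk]
    have ha := CfsgLib.Recognition.AltFiveSpectrum.orderOf_mem a
    have hb := CfsgLib.Recognition.AltFiveSpectrum.orderOf_mem b
    generalize orderOf a = m at ha ⊢
    generalize orderOf b = k at hb ⊢
    simp only [Finset.mem_insert, Finset.mem_singleton] at ha hb
    rcases ha with rfl | rfl | rfl | rfl <;> rcases hb with rfl | rfl | rfl | rfl <;> simp [Nat.lcm]
  · intro hn
    obtain ⟨a, b, ha, hb, rfl⟩ : ∃ a b : ℕ, a ∈ ({1, 2, 3, 5} : Finset ℕ) ∧ b ∈ ({1, 2, 3, 5} : Finset ℕ) ∧ Nat.lcm a b = n := by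
      simp only [Set.mem_insert_iff, Set.mem_singleton_iff] at hn
      rcases hn with rfl | rfl | rfl | rfl | rfl | rfl | rfl
      · exact ⟨1, 1, by simp, by simp, rfl⟩
      · exact ⟨2, 1, by simp, by simp, rfl⟩
      · exact ⟨3, 1, by simp, by simp, rfl⟩
      · exact ⟨5, 1, by simp, by simp, rfl⟩
      · exact ⟨2, 3, by simp, by simp, rfl⟩
      · exact ⟨2, 5, by simp, by simp, rfl⟩
      · exact ⟨3, 5, by simp, by simp, rfl⟩
    obtain ⟨x, rfl⟩ := CfsgLib.Recognition.AltFiveSpectrum.exists_of_mem ha
    obtain ⟨y, rfl⟩ := CfsgLib.Recognition.AltFiveSpectrum.exists_of_mem hb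
    exact ⟨(x, y), Prod.orderOf_mk⟩

end Cfsg.Agent.S3448
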