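import Cfsg.Statements.S3449
import Cfsg.Agent.Lib.Recognition.AltFiveSpectrum

set_option autoImplicit false
open Cfsg

namespace Cfsg.Agent.S3449

/-- The direct product of three copies of the alternating group of degree 5 has exactly the same set of element orders as the cyclic group of order 30, namely the divisors of 30; in particular a direct power of a non-abelian simple group need not be determined by its element orders. -/
theorem result : Set.range (orderOf : alternatingGroup (Fin 5) × alternatingGroup (Fin 5) × alternatingGroup (Fin 5) → ℕ) =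
      Set.range (orderOf : Multiplicative (ZMod 30) → ℕ) := by
  have hr : ∀ n, n ∈ Set.range (orderOf : Multiplicative (ZMod 30) → ℕ) ↔ n ∣ 30 := by
    intro n
    constructor
    · rintro ⟨x, rfl⟩
      have := orderOf_dvd_natCard x
      simpa using this
    · intro hn
      refine ⟨Multiplicative.ofAdd ((30 / n : ℕ) : ZMod 30), ?_⟩
      rw [orderOf_ofAdd_eq_addOrderOf]
      rw [ZMod.addOrderOf_coe' _ (Nat.div_pos (Nat.le_of_dvd (by norm_num) hn) (Nat.pos_of_dvd_of_pos hn (by norm_num))).ne']
      rw [Nat.gcd_eq_right (Nat.div_dvd_of_dvd hn), Nat.div_div_self hn (by norm_num)]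
  ext n
  rw [hr]
  constructor
  · rintro ⟨⟨a, b, c⟩, rfl⟩
    rw [Prod.orderOf_mk, Prod.orderOf_mk]
    have h : ∀ g : alternatingGroup (Fin 5), orderOf g ∣ 30 := by
      intro g
      have := CfsgLib.Recognition.AltFiveSpectrum.orderOf_mem g
      generalize orderOf g = m at this ⊢
      simp only [Finset.mem_insert, Finset.mem_singleton] at this
      rcases this with rfl | rfl | rfl | rfl <;> norm_num
    exact Nat.lcm_dvd (h a) (Nat.lcm_dvd (h b) (h c))
  · intro hn
    obtain ⟨a, b, c, ha, hb, hc, rfl⟩ : ∃ a b c : ℕ, a ∈ ({1, 2, 3, 5} : Finset ℕ) ∧ b ∈ ({1, 2, 3, 5} : Finset ℕ) ∧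
        c ∈ ({1, 2, 3, 5} : Finset ℕ) ∧ Nat.lcm a (Nat.lcm b c) = n := by
      refine ⟨if 2 ∣ n then 2 else 1, if 3 ∣ n then 3 else 1, if 5 ∣ n then 5 else 1, ?_⟩
      have : n ∈ Nat.divisors 30 := Nat.mem_divisors.mpr ⟨hn, by norm_num⟩
      clear hn hr
      revert this
      revert n
      decide +kernel
    obtain ⟨x, rfl⟩ := CfsgLib.Recognition.AltFiveSpectrum.exists_of_mem ha
    obtain ⟨y, rfl⟩ := CfsgLib.Recognition.AltFiveSpectrum.exists_of_mem hb
    obtain ⟨z, rfl⟩ := CfsgLib.Recognition.AltFiveSpectrum.exists_of_mem hc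
    exact ⟨(x, y, z), by rw [Prod.orderOf_mk, Prod.orderOf_mk]⟩

end Cfsg.Agent.S3449
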