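import Cfsg.Statements.S3452
import Cfsg.Agent.Lib.Recognition.CuspidalTwo
import Cfsg.Agent.Lib.Recognition.SpecTenNine
import Cfsg.Agent.Lib.NumberTheory.SwapClosure
import Cfsg.Agent.Lib.Classical.SLOrders

set_option autoImplicit false
open Cfsg

namespace Cfsg.Agent.S3452

theorem solvable_of_card {G : Type*} [Group G] [Finite G] {a : ℕ} (h : Nat.card G = 2 ^ a * 3) :
    Group.IsSolvable G := by
  classical
  haveI : Fact (Nat.Prime 2) := ⟨Nat.prime_two⟩
  let P : Sylow 2 G := default
  have hP : Nat.card P = 2 ^ a := by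
    rw [Sylow.card_eq_multiplicity, h, Nat.factorization_mul (by positivity) (by norm_num), Finsupp.add_apply,
      Nat.factorization_pow, Finsupp.smul_apply, Nat.Prime.factorization_self Nat.prime_two,
      Nat.factorization_eq_zero_of_not_dvd (show ¬ (2 : ℕ) ∣ 3 by norm_num)]
    simp
  have hidx : (P : Subgroup G).index = 3 := by
    have h1 := Subgroup.card_mul_index (P : Subgroup G)
    rw [h, show Nat.card (P : Subgroup G) = 2 ^ a from hP] at h1
    exact Nat.eq_of_mul_eq_mul_left (by positivity) h1
  haveI : Fintype (G ⧸ (P : Subgroup G)) := Fintype.ofFinite _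
  have hc : Fintype.card (G ⧸ (P : Subgroup G)) ≤ Fintype.card (Fin 4) := by
    rw [← Nat.card_eq_fintype_card, ← Subgroup.index, hidx, Fintype.card_fin]; norm_num
  obtain ⟨e⟩ := Function.Embedding.nonempty_of_card_le hc
  haveI := CfsgLib.NumberTheory.SwapClosure.isSolvable_perm_fin_four
  let f : G →* Equiv.Perm (Fin 4) := (Equiv.Perm.viaEmbeddingHom e).comp (MulAction.toPermHom G (G ⧸ (P : Subgroup G)))
  have hker : f.ker ≤ (P : Subgroup G) := by
    intro g hg
    rw [MonoidHom.mem_ker, MonoidHom.comp_apply, ← map_one (Equiv.Perm.viaEmbeddingHom e)] at hg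
    have := DFunLike.congr_fun ((Equiv.Perm.viaEmbeddingHom_injective e) hg) ((1 : G) : G ⧸ (P : Subgroup G))
    change ((g * 1 : G) : G ⧸ (P : Subgroup G)) = ((1 : G) : G ⧸ (P : Subgroup G)) at this
    rw [mul_one, QuotientGroup.eq, mul_one] at this
    exact (inv_mem_iff).mp this
  haveI : Group.IsSolvable (P : Subgroup G) := by
    haveI := P.2.isNilpotent
    infer_instance
  haveI : Group.IsSolvable f.ker := Group.isSolvable_of_isSolvable_injective (Subgroup.inclusion_injective hker)
  exact Group.isSolvable_of_ker_le_range f.ker.subtype f (by rw [Subgroup.range_subtype])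

/-- For F a finite field whose number of elements is a prime or equals 9, the group PGL(2,F) = GL(2,F)/Z(GL(2,F)) is not determined by its set of element orders: for every bound N there is a finite group of order greater than N with exactly the same set of element orders as PGL(2,F). -/
theorem result {F : Type*} [Field F] [Fintype F] (hF : (Fintype.card F).Prime ∨ Fintype.card F = 9) (N : ℕ) :
    ∃ (H : Type) (_ : Group H) (_ : Fintype H), N < Fintype.card H ∧
      Set.range (orderOf : H → ℕ) = Set.range (orderOf : Matrix.GeneralLinearGroup (Fin 2) F ⧸ Subgroup.center (Matrix.GeneralLinearGroup (Fin 2) F) → ℕ) := by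
  classical
  obtain ⟨p, hchar⟩ := CharP.exists F
  haveI : Fact p.Prime := ⟨CharP.char_is_prime F p⟩
  obtain ⟨n, hp, hq⟩ := FiniteField.card F p
  rcases hF with hpr | h9
  · have hcard : Fintype.card F = p := by
      have h1 := (Nat.Prime.pow_eq_iff hpr (a := p) (k := (n : ℕ))).mp hq.symm
      rw [h1.1]
    by_cases h5 : 5 ≤ p
    · exact CfsgLib.Recognition.CuspidalTwo.exists_large h5 hcard N
    · obtain ⟨a, ha⟩ : ∃ a, Nat.card (Matrix.GeneralLinearGroup (Fin 2) F ⧸
          Subgroup.center (Matrix.GeneralLinearGroup (Fin 2) F)) = 2 ^ a * 3 := by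
        have h1 : Nat.card (Matrix.GeneralLinearGroup (Fin 2) F ⧸ Subgroup.center (Matrix.GeneralLinearGroup (Fin 2) F)) *
            Nat.card Fˣ = Nat.card (Matrix.GeneralLinearGroup (Fin 2) F) := CfsgLib.Classical.card_pgl_mul (n := Fin 2) (F := F)
        rw [Matrix.card_GL_field, Fin.prod_univ_two, Nat.card_units, Nat.card_eq_fintype_card (α := F), hcard] at h1
        have := hp.two_le
        interval_cases p
        · exact ⟨1, by simpa using h1⟩
        · refine ⟨3, Nat.eq_of_mul_eq_mul_right (show 0 < 2 by norm_num) ?_⟩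
          simpa using h1
        · exact absurd hp (by norm_num)
      haveI := solvable_of_card ha
      haveI : Group.IsSolvable (⊤ : Subgroup (Matrix.GeneralLinearGroup (Fin 2) F ⧸
          Subgroup.center (Matrix.GeneralLinearGroup (Fin 2) F))) :=
        Group.isSolvable_of_isSolvable_injective (Subgroup.subtype_injective _)
      refine CfsgLib.Recognition.FibrePower.exists_large_of_solvable_normal ⊤ ?_ N
      intro h
      have h1 := congrArg (fun K : Subgroup _ => Nat.card K) h
      simp only [Subgroup.card_top, Subgroup.card_bot, ha] at h1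
      have := Nat.le_mul_of_pos_left 3 (show 0 < 2 ^ a by positivity)
      omega
  · have hp3 : p = 3 := by
      have h := Nat.Prime.dvd_of_dvd_pow hp (show p ∣ 3 ^ 2 by rw [show (3 : ℕ) ^ 2 = 9 by norm_num, ← h9, hq]; exact dvd_pow_self p n.ne_zero)
      exact (Nat.prime_dvd_prime_iff_eq hp Nat.prime_three).mp h
    subst hp3
    obtain ⟨H, i1, i2, hlt, hspec⟩ := CfsgLib.Recognition.FibrePower.exists_large_of_solvable_normal
      CfsgLib.Recognition.SpecTenNine.translations CfsgLib.Recognition.SpecTenNine.translations_ne_bot N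
    refine ⟨H, i1, i2, hlt, hspec.trans (Set.ext fun m => ⟨?_, ?_⟩)⟩
    · rintro ⟨x, rfl⟩
      rcases CfsgLib.Recognition.SpecTenNine.orderOf_cases x with h | h | h
      · obtain ⟨y, hy⟩ := CfsgLib.Recognition.TwoByTwo.pgl_exists_char 3 (F := F)
        exact CfsgLib.Recognition.CuspidalTwo.exists_divisor_order y hy h
      · obtain ⟨y, hy⟩ := CfsgLib.Recognition.TwoByTwo.pgl_exists_minus (F := F)
        rw [Nat.card_eq_fintype_card, h9] at hy
        exact CfsgLib.Recognition.CuspidalTwo.exists_divisor_order y hy h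
      · obtain ⟨y, hy⟩ := CfsgLib.Recognition.TwoByTwo.pgl_exists_plus 3 (F := F) (by norm_num)
        rw [h9] at hy
        exact CfsgLib.Recognition.CuspidalTwo.exists_divisor_order y hy h
    · rintro ⟨x, rfl⟩
      obtain ⟨⟨a, ha⟩, ⟨b, hb⟩, ⟨c, hc⟩⟩ := CfsgLib.Recognition.SpecTenNine.exists_orderOf
      rcases CfsgLib.Recognition.TwoByTwo.pgl_orderOf_dvd 3 (by norm_num) x with h | h | h
      · exact CfsgLib.Recognition.CuspidalTwo.exists_divisor_order a ha h
      · rw [h9] at h; exact CfsgLib.Recognition.CuspidalTwo.exists_divisor_order b hb h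
      · rw [h9] at h; exact CfsgLib.Recognition.CuspidalTwo.exists_divisor_order c hc h

end Cfsg.Agent.S3452
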