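import Cfsg.Statements.S3466
import Cfsg.Agent.Lib.Recognition.SpFourOdd
import Cfsg.Agent.Lib.Recognition.SpFourThree
import Cfsg.Agent.Lib.Recognition.SpFourSmall

set_option autoImplicit false
open Cfsg

namespace Cfsg.Agent.S3466

open CfsgLib.Recognition in
theorem large_of_realises {F : Type*} [Field F] [Fintype F] (p : ℕ) [Fact p.Prime] [CharP F p]
    {W : Type*} [AddCommGroup W] [Finite W] [Nontrivial W] {L : Type*} [Group L] [Finite L]
    (f : L →* AddMonoid.End W) (h : SpFourGroups.Realises p (Fintype.card F) (AffineGroup.Aff f)) (N : ℕ) :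
    ∃ (H : Type) (_ : Group H) (_ : Fintype H), N < Fintype.card H ∧
      Set.range (orderOf : H → ℕ) = Set.range (orderOf : Cfsg.PSp 2 F → ℕ) := by
  obtain ⟨H, i1, i2, hlt, hspec⟩ := AffineGroup.exists_large f N
  haveI : Finite (AffineGroup.Aff f) := Finite.of_equiv _ SemidirectProduct.equivProd.symm
  exact ⟨H, i1, i2, hlt, hspec.trans (SpFourElements.range_eq_of_good p h.1 h.2)⟩

/-- Let F be a finite field with q ≥ 3 elements such that q is not of the form 3^(2t+1) with t ≥ 1. Then PSp(4,F) is not determined by its set of element orders, not even up to finitely many groups: for every bound N there is a finite group of order greater than N with exactly the same set of element orders as PSp(4,F). -/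
theorem result {F : Type*} [Field F] [Fintype F] (h3 : 3 ≤ Fintype.card F) (hq : ∀ t : ℕ, 1 ≤ t → Fintype.card F ≠ 3 ^ (2 * t + 1)) (N : ℕ) :
    ∃ (H : Type) (_ : Group H) (_ : Fintype H), N < Fintype.card H ∧ Set.range (orderOf : H → ℕ) = Set.range (orderOf : Cfsg.PSp 2 F → ℕ) := by
  classical
  obtain ⟨p, hchar⟩ := CharP.exists F
  haveI : Fact p.Prime := ⟨CharP.char_is_prime F p⟩
  obtain ⟨e, hp, hqe⟩ := FiniteField.card F p
  have he : 1 ≤ (e : ℕ) := e.pos
  haveI : NeZero 2 := ⟨two_ne_zero⟩
  let K := FiniteField.Extension F p 2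
  haveI : CharP K p := charP_of_injective_algebraMap (algebraMap F K).injective p
  letI : Fintype K := Fintype.ofFinite K
  have hK : Fintype.card K = (p ^ (e : ℕ)) ^ 2 := by
    rw [← Nat.card_eq_fintype_card, FiniteField.natCard_extension F p 2, Nat.card_eq_fintype_card, hqe]
  by_cases h2 : p = 2
  · subst h2
    refine large_of_realises 2 (CfsgLib.Recognition.SpFourGroups.evenAct (iterateFrobenius K 2 e)) ?_ N
    rw [hqe]
    exact CfsgLib.Recognition.SpFourGroups.even_realises e he hK
  by_cases h33 : p = 3
  · subst h33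
    rcases Nat.even_or_odd' (e : ℕ) with ⟨m, hm | hm⟩
    · have h9 : (3 : ℕ) ^ (e : ℕ) = 9 ^ m := by rw [hm, pow_mul]; norm_num
      refine large_of_realises 3
        (CfsgLib.Recognition.SpFourGroups.threeAct (iterateFrobenius K 3 1) (iterateFrobenius K 3 (2 * m))) ?_ N
      rw [hqe, h9]
      exact CfsgLib.Recognition.SpFourGroups.three_realises m (by omega) (by rw [hK, h9])
    · obtain rfl : m = 0 := by
        by_contra hm0
        exact hq m (by omega) (by rw [hqe, hm])
      haveI : Nontrivial CfsgLib.Recognition.SpFourSmall.W :=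
        ⟨⟨CfsgLib.Recognition.SpFourSmall.vecFour, 0, fun h =>
          CfsgLib.Recognition.SpFourSmall.vecFour_ne (congrFun (congrArg Subtype.val h) 0)⟩⟩
      refine large_of_realises 3 CfsgLib.Recognition.SpFourSmall.act ?_ N
      rw [hqe, hm]
      exact CfsgLib.Recognition.SpFourSmall.realises
  · have h5 : 5 ≤ p := by
      have := hp.two_le
      have h4 : p ≠ 4 := by rintro rfl; exact absurd hp (by norm_num)
      omega
    have hτ : ∀ x : K, iterateFrobenius K p e (iterateFrobenius K p e x) = x := fun x => by
      rw [iterateFrobenius_def, iterateFrobenius_def, ← pow_mul, ← pow_two, ← hK, FiniteField.pow_card]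
    haveI : Finite (CfsgLib.Recognition.SpFourGroups.PTwo (iterateFrobenius K p e) hτ) :=
      Finite.of_equiv _ SemidirectProduct.equivProd.symm
    refine large_of_realises p (CfsgLib.Recognition.SpFourGroups.oddAct (iterateFrobenius K p e) hτ) ?_ N
    rw [hqe]
    exact ⟨CfsgLib.Recognition.SpFourGroups.odd_good e he h5 hK hτ,
      CfsgLib.Recognition.SpFourGroups.odd_witness e he h5 hqe hK hτ⟩

end Cfsg.Agent.S3466
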