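import Cfsg.Statements.S3485
import Cfsg.Agent.Lib.Sporadic.Icosian.Group
import Cfsg.Agent.Lib.Sporadic.Icosian.Spectrum
import Cfsg.Agent.Lib.Recognition.SymEightSpectrum

set_option autoImplicit false
open Cfsg

namespace Cfsg.Agent.S3485

/-- The symmetric group of degree 8 and the Hall–Janko sporadic group J₂ have exactly the same set of element orders (namely 1, 2, 3, 4, 5, 6, 7, 8, 10, 12, 15); in particular J₂ is not determined by its element orders. -/
theorem result : Set.range (orderOf : Equiv.Perm (Fin 8) → ℕ) = Set.range (orderOf : Cfsg.Spor.J2 → ℕ) := by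
  open CfsgLib.Sporadic.Icosian in
  rw [CfsgLib.Recognition.SymEightSpectrum.range_orderOf]
  rw [← equivJ.symm.surjective.range_comp (orderOf : Cfsg.Spor.J2 → ℕ)]
  rw [show (orderOf : Cfsg.Spor.J2 → ℕ) ∘ equivJ.symm = (orderOf : J → ℕ) from
    funext fun g => orderOf_injective equivJ.symm.toMonoidHom equivJ.symm.injective g]
  exact Spectrum.range_orderOf.symm

end Cfsg.Agent.S3485
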