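import Cfsg.Statements.S3489
import Cfsg.Agent.Lib.Recognition.FibrePower
import Cfsg.Agent.Lib.Recognition.TenCover

set_option autoImplicit false
open Cfsg

namespace Cfsg.Agent.S3489

/-- The alternating group of degree 10 is not determined by its set of element orders, not even up to finitely many groups: for every bound N there is a finite group of order greater than N with exactly the same set of element orders as the alternating group of degree 10. -/
theorem result (N : ℕ) : ∃ (H : Type) (_ : Group H) (_ : Fintype H), N < Fintype.card H ∧ Set.range (orderOf : H → ℕ) = Set.range (orderOf : alternatingGroup (Fin 10) → ℕ) := by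
  obtain ⟨H, i1, i2, hlt, hspec⟩ :=
    CfsgLib.Recognition.FibrePower.exists_large_of_solvable_normal
      CfsgLib.Recognition.TenCover.translations CfsgLib.Recognition.TenCover.translations_ne_bot N
  refine ⟨H, i1, i2, hlt, ?_⟩
  rw [hspec, CfsgLib.Recognition.TenCover.range_orderOf, CfsgLib.Recognition.AltTenSpectrum.range_orderOf]

end Cfsg.Agent.S3489
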