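import Cfsg.Statements.S3491
import Cfsg.Agent.Lib.Recognition.AffineSL24
import Cfsg.Agent.Lib.Recognition.FibrePower

set_option autoImplicit false
open Cfsg

namespace Cfsg.Agent.S3491

/-- The alternating group of degree 6 is not determined by its set of element orders, not even up to finitely many groups: for every bound N there is a finite group of order greater than N with exactly the same set of element orders as the alternating group of degree 6. -/
theorem result (N : ℕ) : ∃ (H : Type) (_ : Group H) (_ : Fintype H), N < Fintype.card H ∧ Set.range (orderOf : H → ℕ) = Set.range (orderOf : alternatingGroup (Fin 6) → ℕ) := by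
  classical
  letI : Fintype (GaloisField 2 2) := Fintype.ofFinite _
  have hF : Fintype.card (GaloisField 2 2) = 4 := by
    rw [← Nat.card_eq_fintype_card, GaloisField.card 2 2 (by norm_num)]; norm_num
  have two := CfsgLib.Recognition.AffineSL24.two_eq_zero hF
  let f := CfsgLib.Recognition.AffineSL24.block (GaloisField 2 2)
  have hne : f.ker ≠ ⊥ := by
    intro h
    have hm : CfsgLib.Recognition.AffineSL24.mk (F := GaloisField 2 2) 1 0 0 1 1 0 (by simp) ∈ f.ker := by
      rw [MonoidHom.mem_ker]
      ext i j
      fin_cases i <;> fin_cases j <;> simp [f, CfsgLib.Recognition.AffineSL24.mk, CfsgLib.Recognition.AffineSL24.block]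
    rw [h, Subgroup.mem_bot] at hm
    have := congrArg (fun M : CfsgLib.Recognition.AffineSL24.aff (GaloisField 2 2) => M.1.1 0 2) hm
    simp [CfsgLib.Recognition.AffineSL24.mk] at this
  obtain ⟨H, iG, iF, hN, hr⟩ := CfsgLib.Recognition.FibrePower.exists_large_isospectral f.ker Nat.prime_two
    (fun x hx => CfsgLib.Recognition.AffineSL24.sq_eq_one_of_block two x hx) hne N
  exact ⟨H, iG, iF, hN, hr.trans (CfsgLib.Recognition.AffineSL24.range_orderOf hF)⟩

end Cfsg.Agent.S3491
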