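import Cfsg.Statements.S3495

set_option autoImplicit false
open Cfsg

namespace Cfsg.Agent.S3495

/-- Let a finite group G act faithfully and primitively on a finite set Ω with non-trivial point stabilizers, each acting primitively on every one of its orbits (an extremely primitive group), and suppose G has an elementary abelian normal p-subgroup N acting regularly on Ω (affine type). Then every non-trivial subgroup M of a point stabilizer G_α that is normal in G_α has the same orbits on Ω as G_α, and normalizes no subgroup of N other than 1 and N. -/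
theorem result {G : Type*} [Group G] [Finite G] {Ω : Type*} [Fintype Ω] [MulAction G Ω] [FaithfulSMul G Ω] (hprim : MulAction.IsPreprimitive G Ω) (hH : ∀ α : Ω, MulAction.stabilizer G α ≠ ⊥) (hep : ∀ (α : Ω) (ω : Ω), MulAction.IsPreprimitive (MulAction.stabilizer G α) (MulAction.orbit (MulAction.stabilizer G α) ω))
    (N : Subgroup G) [N.Normal] (hNc : IsMulCommutative N) (p : ℕ) (hp : p.Prime) (hNp : ∀ n ∈ N, n ^ p = 1)
    (hNtr : MulAction.IsPretransitive N Ω) (hNreg : ∀ ω : Ω, MulAction.stabilizer N ω = ⊥) (α : Ω) (M : Subgroup G) (hM : M ≠ ⊥) (hMle : M ≤ MulAction.stabilizer G α)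
    (hMn : MulAction.stabilizer G α ≤ Subgroup.normalizer (M : Set G)) :
    (∀ ω : Ω, MulAction.orbit M ω = MulAction.orbit (MulAction.stabilizer G α) ω) ∧
    (∀ L : Subgroup G, L ≤ N → M ≤ Subgroup.normalizer (L : Set G) → L = ⊥ ∨ L = N) := by
  set A := MulAction.stabilizer G α with hA
  have hfixA : ∀ a ∈ A, a • α = α := fun a ha => ha
  have hNinj : ∀ x ∈ N, ∀ y ∈ N, x • α = y • α → x = y := by
    intro x hx y hy h
    have : (⟨y⁻¹ * x, N.mul_mem (N.inv_mem hy) hx⟩ : N) ∈ MulAction.stabilizer N α := by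
      change (y⁻¹ * x) • α = α
      rw [mul_smul, h, inv_smul_smul]
    rw [hNreg, Subgroup.mem_bot] at this
    exact (inv_mul_eq_one.mp (congrArg Subtype.val this)).symm
  have hdec : ∀ g : G, ∃ n ∈ N, ∃ a ∈ A, g = n * a := by
    intro g
    obtain ⟨n, hn⟩ := hNtr.exists_smul_eq α (g • α)
    refine ⟨n, n.2, (n : G)⁻¹ * g, ?_, by group⟩
    change ((n : G)⁻¹ * g) • α = α
    rw [mul_smul, inv_smul_eq_iff]
    exact hn.symm
  have hcm : ∀ x ∈ N, ∀ y ∈ N, x * y = y * x := fun x hx y hy =>
    congrArg Subtype.val (hNc.1.comm (⟨x, hx⟩ : N) ⟨y, hy⟩)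
  have hmin : ∀ L : Subgroup G, L ≤ N → (∀ a ∈ A, ∀ l ∈ L, a * l * a⁻¹ ∈ L) → L = ⊥ ∨ L = N := by
    intro L hL hnorm
    have hLn : L.Normal := by
      constructor
      intro l hl g
      obtain ⟨n, hn, a, ha, rfl⟩ := hdec g
      have h1 := hnorm a ha l hl
      have h2 : n * a * l * (n * a)⁻¹ = a * l * a⁻¹ := by
        calc n * a * l * (n * a)⁻¹ = n * (a * l * a⁻¹) * n⁻¹ := by group
          _ = (a * l * a⁻¹) * n * n⁻¹ := by rw [hcm n hn _ (hL h1)]
          _ = _ := by group
      rw [h2]; exact h1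
    by_cases hL1 : L = ⊥
    · exact Or.inl hL1
    right
    have hfp : MulAction.fixedPoints L Ω ≠ ⊤ := by
      intro h
      apply hL1
      rw [eq_bot_iff]
      intro l hl
      rw [Subgroup.mem_bot]
      refine hNinj l (hL hl) 1 N.one_mem ?_
      have : α ∈ MulAction.fixedPoints L Ω := h ▸ trivial
      rw [one_smul]
      exact this ⟨l, hl⟩
    have ht : MulAction.IsPretransitive L Ω :=
      MulAction.IsQuasiPreprimitive.isPretransitive_of_normal hfp
    refine le_antisymm hL fun n hn => ?_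
    obtain ⟨l, hl⟩ := ht.exists_smul_eq α (n • α)
    have : (l : G) = n := hNinj _ (hL l.2) _ hn hl
    exact this ▸ l.2
  have hMA : ∀ a ∈ A, ∀ m ∈ M, a * m * a⁻¹ ∈ M := fun a ha m hm =>
    (Subgroup.mem_normalizer_iff.mp (hMn ha) m).mp hm
  have hnofix : ∀ n ∈ N, (∀ m ∈ M, m • n • α = n • α) → n = 1 := by
    intro n hn hfix
    let C := N ⊓ Subgroup.centralizer (M : Set G)
    have hC : C = ⊥ ∨ C = N := by
      apply hmin C inf_le_left
      intro a ha l hl
      rw [Subgroup.mem_inf]
      refine ⟨‹N.Normal›.conj_mem l hl.1 a, ?_⟩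
      rw [Subgroup.mem_centralizer_iff]
      intro m hm
      have hm' := hMA a⁻¹ (A.inv_mem ha) m hm
      rw [inv_inv] at hm'
      have := Subgroup.mem_centralizer_iff.mp hl.2 _ hm'
      calc m * (a * l * a⁻¹) = a * ((a⁻¹ * m * a) * l) * a⁻¹ := by group
        _ = a * (l * (a⁻¹ * m * a)) * a⁻¹ := by rw [this]
        _ = a * l * a⁻¹ * m := by group
    have hnC : n ∈ C := by
      rw [Subgroup.mem_inf]
      refine ⟨hn, ?_⟩
      rw [Subgroup.mem_centralizer_iff]
      intro m hm
      have : m * n * m⁻¹ = n := hNinj _ (‹N.Normal›.conj_mem n hn m) _ hn (by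
        rw [mul_smul, mul_smul, inv_smul_eq_iff.mpr (hfixA m (hMle hm)).symm]
        exact hfix m hm)
      exact mul_inv_eq_iff_eq_mul.mp this
    rcases hC with h | h
    · rw [h] at hnC; exact hnC
    · exfalso
      apply hM
      rw [eq_bot_iff]
      intro m hm
      rw [Subgroup.mem_bot]
      apply FaithfulSMul.eq_of_smul_eq_smul (α := Ω)
      intro y
      obtain ⟨x, rfl⟩ := hNtr.exists_smul_eq α y
      have hx : (x : G) ∈ C := by rw [h]; exact x.2
      change m • (x : G) • α = (1 : G) • (x : G) • α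
      rw [one_smul, smul_smul, Subgroup.mem_centralizer_iff.mp hx.2 m hm, mul_smul, hfixA m (hMle hm)]
  haveI hMn' : (M.subgroupOf A).Normal := (Subgroup.normal_subgroupOf_iff_le_normalizer hMle).mpr hMn
  have first : ∀ ω : Ω, MulAction.orbit M ω = MulAction.orbit A ω := by
    intro ω
    apply le_antisymm
    · rintro _ ⟨m, rfl⟩; exact ⟨⟨m, hMle m.2⟩, rfl⟩
    haveI := hep α ω
    let x0 : MulAction.orbit A ω := ⟨ω, MulAction.mem_orbit_self ω⟩
    have hB : MulAction.IsBlock A (MulAction.orbit (M.subgroupOf A) x0) := MulAction.IsBlock.orbit_of_normal x0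
    rcases MulAction.IsPreprimitive.isTrivialBlock_of_isBlock hB with h | h
    · obtain ⟨n, rfl⟩ := hNtr.exists_smul_eq α ω
      have hfix : ∀ m ∈ M, m • (n : G) • α = (n : G) • α := by
        intro m hm
        have := h (MulAction.mem_orbit x0 (⟨⟨m, hMle hm⟩, hm⟩ : M.subgroupOf A)) (MulAction.mem_orbit_self x0)
        exact congrArg Subtype.val this
      have hn1 : (n : G) = 1 := hnofix _ n.2 hfix
      rintro _ ⟨a, rfl⟩
      change (a : G) • (n : G) • α ∈ MulAction.orbit M ((n : G) • α)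
      rw [hn1, one_smul, hfixA _ a.2]
      exact MulAction.mem_orbit_self α
    · intro y hy
      have : (⟨y, hy⟩ : MulAction.orbit A ω) ∈ MulAction.orbit (M.subgroupOf A) x0 := h ▸ trivial
      obtain ⟨m, hm⟩ := this
      exact ⟨⟨(m : A), m.2⟩, congrArg Subtype.val hm⟩
  refine ⟨first, fun L hL hML => hmin L hL fun a ha l hl => ?_⟩
  have hmem : a • l • α ∈ MulAction.orbit M (l • α) := by
    rw [first]; exact ⟨⟨a, ha⟩, rfl⟩
  obtain ⟨m, hm⟩ := hmem
  have hm' : (m : G) • l • α = a • l • α := hm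
  have heq : a * l * a⁻¹ = (m : G) * l * (m : G)⁻¹ := by
    apply hNinj _ (‹N.Normal›.conj_mem l (hL hl) a) _ (‹N.Normal›.conj_mem l (hL hl) m)
    rw [mul_smul, mul_smul, mul_smul, mul_smul, inv_smul_eq_iff.mpr (hfixA a ha).symm,
      inv_smul_eq_iff.mpr (hfixA m (hMle m.2)).symm, hm']
  rw [heq]
  exact (Subgroup.mem_normalizer_iff.mp (hML m.2) l).mp hl

end Cfsg.Agent.S3495
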