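import Cfsg.Statements.S3497
import Cfsg.Agent.Lib.Recognition.ExtremelyPrimitive
import Cfsg.Agent.Lib.Solvable.Cores

set_option autoImplicit false
open Cfsg

namespace Cfsg.Agent.S3497

/-- Restrictions on the point stabilizer of an extremely primitive group. Let a finite group G act faithfully and primitively on a finite set Ω with point stabilizers H = G_α whose order is neither 1 nor a prime, each acting primitively on every one of its orbits. Then H has trivial center, the Fitting subgroup F(H) is an elementary abelian p-group for some prime p, and if F(H) ≠ 1 has order p ^ e then p ^ e divides the number of points minus one and H / F(H) embeds in GL_e(p) (there is a homomorphism from H to GL_e(p) with kernel exactly F(H)). -/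
theorem result {G : Type*} [Group G] [Finite G] {Ω : Type*} [Fintype Ω] [MulAction G Ω] [FaithfulSMul G Ω] (hprim : MulAction.IsPreprimitive G Ω) (hep : ∀ (α : Ω) (ω : Ω), MulAction.IsPreprimitive (MulAction.stabilizer G α) (MulAction.orbit (MulAction.stabilizer G α) ω)) (α : Ω)
    (hH1 : MulAction.stabilizer G α ≠ ⊥) (hHp : ¬ (Nat.card (MulAction.stabilizer G α)).Prime) :
    Subgroup.center (MulAction.stabilizer G α) = ⊥ ∧
    IsMulCommutative (Cfsg.fittingSubgroup (MulAction.stabilizer G α)) ∧
    ∃ p e : ℕ, p.Prime ∧ Nat.card (Cfsg.fittingSubgroup (MulAction.stabilizer G α)) = p ^ e ∧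
      (∀ x ∈ Cfsg.fittingSubgroup (MulAction.stabilizer G α), x ^ p = 1) ∧
      (Cfsg.fittingSubgroup (MulAction.stabilizer G α) ≠ ⊥ →
        p ^ e ∣ Fintype.card Ω - 1 ∧
        ∃ φ : MulAction.stabilizer G α →* GL (Fin e) (ZMod p), φ.ker = Cfsg.fittingSubgroup (MulAction.stabilizer G α)) := by
  haveI := hprim
  set H := MulAction.stabilizer G α with hHdef
  obtain ⟨ω, hω⟩ : ∃ ω : Ω, ω ≠ α := by
    by_contra h
    push_neg at h
    refine hH1 ((Subgroup.eq_bot_iff_forall _).mpr fun g _ => eq_of_smul_eq_smul fun x : Ω => ?_)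
    rw [h x, h (g • α), one_smul]
  obtain ⟨hf, hnt⟩ := CfsgLib.Recognition.ExtremelyPrimitive.orbit_facts hep hω hH1
  haveI := hep α ω
  refine ⟨CfsgLib.Recognition.ExtremelyPrimitive.center_eq_bot (X := MulAction.orbit H ω) hHp, ?_⟩
  by_cases hF : Cfsg.fittingSubgroup H = ⊥
  · refine ⟨⟨⟨fun a b => Subtype.ext ?_⟩⟩, 2, 0, Nat.prime_two, ?_, ?_, fun h => absurd hF h⟩
    · have ha : (a : H) = 1 := Subgroup.mem_bot.mp (hF.le a.2)
      show (a : H) * b = b * a
      rw [ha, one_mul, mul_one]
    · rw [hF, Subgroup.card_bot, pow_zero]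
    · intro x hx
      rw [hF, Subgroup.mem_bot] at hx
      rw [hx, one_pow]
  · obtain ⟨hc, p, e, hp, hcard, hexp⟩ :=
      CfsgLib.Recognition.ExtremelyPrimitive.nilpotent_normal (X := MulAction.orbit H ω) (Cfsg.fittingSubgroup H) hF
    haveI := Fact.mk hp
    refine ⟨⟨⟨fun a b => Subtype.ext (hc a a.2 b b.2)⟩⟩, p, e, hp, hcard, hexp, fun _ => ⟨?_, ?_⟩⟩
    · rw [← hcard, ← Nat.card_eq_fintype_card]
      exact CfsgLib.Recognition.ExtremelyPrimitive.card_dvd_pred hep α hH1 _ hF hc
    · obtain ⟨φ, hφ⟩ := CfsgLib.Recognition.ExtremelyPrimitive.exists_hom_GL (Cfsg.fittingSubgroup H) p e hcard hc hexp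
      exact ⟨φ, hφ.trans (CfsgLib.Recognition.ExtremelyPrimitive.regular_of_comm (X := MulAction.orbit H ω) _ hF hc).2.1⟩

end Cfsg.Agent.S3497
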