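import Cfsg.Statements.S3498

set_option autoImplicit false
open Cfsg

namespace Cfsg.Agent.S3498

open Pointwise

/-- A maximal subgroup of a finite almost simple group does not have prime order. Here G is almost simple in the sense that it has a non-abelian simple normal subgroup T with trivial centralizer. -/
theorem result {G : Type*} [Group G] [Finite G] (T : Subgroup G) [T.Normal] (hT : IsSimpleGroup T) (hTc : ¬ IsMulCommutative T)
    (hC : Subgroup.centralizer (T : Set G) = ⊥) (H : Subgroup G) (hmax : IsCoatom H) : ¬ (Nat.card H).Prime := by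
  intro hp
  set p := Nat.card H with hpdef
  haveI : Fact p.Prime := ⟨hp⟩
  have hTne : Nontrivial T := hT.toNontrivial
  have hTbot : T ≠ ⊥ := (Subgroup.nontrivial_iff_ne_bot T).mp hTne
  have hcyc : IsCyclic H := isCyclic_of_prime_card rfl
  have hTH : ¬ T ≤ H := by
    intro h
    apply hTc
    exact ⟨⟨fun a b => Subtype.ext (congrArg Subtype.val (hcyc.isMulCommutative.is_comm.comm ⟨a.1, h a.2⟩ ⟨b.1, h b.2⟩) :)⟩⟩
  have hsup : H ⊔ T = ⊤ := hmax.2 _ (lt_of_le_of_ne le_sup_left (fun h => hTH (h ▸ le_sup_right)))
  have hbotH : H ≠ ⊥ := by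
    intro h; rw [hpdef, h] at hp; simp at hp; exact Nat.not_prime_one hp
  have hnn : ¬ H.Normal := by
    intro hn
    have hdisj : H ⊓ T = ⊥ ∨ H ⊓ T = H := by
      have := Subgroup.card_dvd_of_le (inf_le_left : H ⊓ T ≤ H)
      rcases (Nat.dvd_prime hp).mp this with h | h
      · left; exact Subgroup.eq_bot_of_card_eq _ h
      · right; exact Subgroup.eq_of_le_of_card_ge inf_le_left h.ge
    rcases hdisj with h | h
    · apply hbotH
      rw [eq_bot_iff, ← hC]
      intro x hx
      rw [Subgroup.mem_centralizer_iff]
      intro t ht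
      exact (Subgroup.commute_of_normal_of_disjoint H T hn inferInstance (disjoint_iff.mpr h) x t hx ht).symm
    · -- then H is a normal subgroup of the simple group T
      have hle : H ≤ T := inf_eq_left.mp h
      rcases (hn.subgroupOf T).eq_bot_or_eq_top with h' | h'
      · rw [Subgroup.subgroupOf_eq_bot, disjoint_iff, h] at h'
        exact hbotH h'
      · rw [Subgroup.subgroupOf_eq_top] at h'
        exact hTH h'
  have hN : Subgroup.normalizer (H : Set G) = H := by
    refine le_antisymm ?_ Subgroup.le_normalizer
    by_contra h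
    exact hnn (Subgroup.normalizer_eq_top_iff.mp (hmax.2 _ (lt_of_le_not_ge Subgroup.le_normalizer h)))
  have hp2 : ¬ p ∣ H.index := by
    intro h
    obtain ⟨K, hK, hHK⟩ := Sylow.exists_subgroup_card_pow_succ (n := 1) (p := p)
      (by rw [← H.card_mul_index, ← hpdef, pow_succ, pow_one]; exact Nat.mul_dvd_mul_left p h)
      (by rw [pow_one])
    have hcomm : ∀ a b : K, a * b = b * a :=
      fun a b => (IsPGroup.commGroupOfCardEqPrimeSq hK).mul_comm a b
    have hKN : K ≤ H := by
      rw [← hN]
      intro k hk
      rw [Subgroup.mem_normalizer_iff]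
      intro x
      constructor
      · intro hx
        have := congrArg Subtype.val (hcomm ⟨k, hk⟩ ⟨x, hHK hx⟩)
        change k * x = x * k at this
        rw [this, mul_inv_cancel_right]
        exact hx
      · intro hx
        have := congrArg Subtype.val (hcomm ⟨k, hk⟩ ⟨k * x * k⁻¹, hHK hx⟩)
        change k * (k * x * k⁻¹) = k * x * k⁻¹ * k at this
        rw [inv_mul_cancel_right, mul_right_inj] at this
        rw [← this]; exact hx
    have := Subgroup.card_le_of_le hKN
    rw [hK, ← hpdef, pow_succ, pow_one] at this
    have := hp.two_le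
    nlinarith
  have hPc : IsPGroup p H := IsPGroup.of_card (n := 1) (by rw [pow_one])
  let S : Sylow p G := hPc.toSylow hp2
  by_cases hHT : H ≤ T
  · have htop : T = ⊤ := by rw [← hsup, sup_eq_right.mpr hHT]
    have hs : IsSimpleGroup G := by
      haveI := hT
      obtain ⟨t, ht, ht1⟩ := T.bot_or_exists_ne_one.resolve_left hTbot
      haveI : Nontrivial G := ⟨⟨t, 1, ht1⟩⟩
      exact IsSimpleGroup.isSimpleGroup_of_surjective T.subtype (fun x => ⟨⟨x, htop ▸ Subgroup.mem_top x⟩, rfl⟩)
    have hSN : Subgroup.normalizer ((S : Subgroup G) : Set G) ≤ Subgroup.centralizer ((S : Subgroup G) : Set G) := by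
      change Subgroup.normalizer (H : Set G) ≤ Subgroup.centralizer (H : Set G)
      rw [hN]
      intro x hx
      rw [Subgroup.mem_centralizer_iff]
      intro y hy
      exact congrArg Subtype.val (hcyc.isMulCommutative.is_comm.comm ⟨y, hy⟩ ⟨x, hx⟩)
    have hc := MonoidHom.ker_transferSylow_isComplement' S hSN
    rcases (MonoidHom.normal_ker (MonoidHom.transferSylow S hSN)).eq_bot_or_eq_top with h | h
    · rw [h] at hc
      have hHtop : H = ⊤ := Subgroup.isComplement'_bot_left.mp hc
      exact hmax.1 hHtop
    · rw [h] at hc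
      exact hbotH (Subgroup.isComplement'_top_left.mp hc)
  · have hHTbot : H ⊓ T = ⊥ := by
      have := Subgroup.card_dvd_of_le (inf_le_left : H ⊓ T ≤ H)
      rcases (Nat.dvd_prime hp).mp this with h | h
      · exact Subgroup.eq_bot_of_card_eq _ h
      · exact absurd (inf_eq_left.mp (Subgroup.eq_of_le_of_card_ge inf_le_left h.ge)) hHT
    -- T is not a group of prime power order
    have hnotpgroup : ∀ r : ℕ, [Fact r.Prime] → ¬ IsPGroup r T := by
      intro r _ hr
      apply hTc
      haveI : Group.IsNilpotent T := hr.isNilpotent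
      haveI := hT
      have hc : (Subgroup.center T) = ⊤ := by
        rcases (inferInstance : (Subgroup.center T).Normal).eq_bot_or_eq_top with h | h
        · have := hr.center_nontrivial
          rw [Subgroup.nontrivial_iff_ne_bot] at this
          exact absurd h this
        · exact h
      exact ⟨⟨fun a b => (Subgroup.mem_center_iff.mp (hc ▸ Subgroup.mem_top b) a)⟩⟩
    obtain ⟨r, hr, hrT⟩ := Nat.exists_prime_and_dvd (n := Nat.card T)
      (by rw [Ne, Nat.card_eq_one_iff_unique]; exact fun h => not_subsingleton T h.1)
    haveI : Fact r.Prime := ⟨hr⟩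
    let R : Sylow r T := default
    let N := Subgroup.normalizer ((((R : Subgroup T).map T.subtype : Subgroup G)) : Set G)
    have hNT : N ⊔ T = ⊤ := Sylow.normalizer_sup_eq_top R
    -- some conjugate of H normalizes R
    have hpN : p ∣ Nat.card N := by
      have h1 : Nat.card G = Nat.card T * p := by
        have hc : T.IsComplement' H := Subgroup.isComplement'_of_disjoint_and_mul_eq_univ
          (disjoint_iff.mpr (by rw [inf_comm]; exact hHTbot))
          (by rw [← Subgroup.normal_mul, sup_comm, hsup, Subgroup.coe_top])
        exact (hc.card_mul).symm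
      have h2 : p ∣ T.index := by
        have := T.card_mul_index
        rw [h1] at this
        rw [mul_left_cancel₀ Nat.card_pos.ne' this]
      have h3 : T.index ∣ Nat.card N := by
        have : T.relIndex N = T.index := by
          rw [← Subgroup.relIndex_sup_right (K := T), hNT, Subgroup.relIndex_top_right]
        rw [← this]; exact T.relIndex_dvd_card N
      exact h2.trans h3
    obtain ⟨P⟩ : Nonempty (Sylow p N) := inferInstance
    have hPne : (P : Subgroup N).map N.subtype ≠ ⊥ := by
      rw [Ne, Subgroup.map_eq_bot_iff_of_injective _ N.subtype_injective]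
      exact P.ne_bot_of_dvd_card hpN
    obtain ⟨S', hS'⟩ := (P.2.map N.subtype).exists_le_sylow
    obtain ⟨x, hx⟩ := MulAction.exists_smul_eq G S S'
    have hPeq : (P : Subgroup N).map N.subtype = (S' : Subgroup G) := by
      have hcS : Nat.card (S' : Subgroup G) = p := by
        rw [Nat.card_congr (Sylow.equiv S' S).toEquiv]; rfl
      have := Subgroup.card_dvd_of_le hS'
      rw [hcS] at this
      rcases (Nat.dvd_prime hp).mp this with h | h
      · exact absurd (Subgroup.eq_bot_of_card_eq _ h) hPne
      · exact Subgroup.eq_of_le_of_card_ge hS' (by rw [h, hcS])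
    have hle : ∀ h ∈ H, x * h * x⁻¹ ∈ N := by
      intro h hh
      have : x * h * x⁻¹ ∈ (S' : Subgroup G) := by
        rw [← hx, Sylow.coe_subgroup_smul, ← MulAut.conj_apply]
        exact Subgroup.smul_mem_pointwise_smul h _ _ hh
      rw [← hPeq] at this
      exact Subgroup.map_subtype_le _ this
    -- transport back
    let R' : Subgroup G := ((R : Subgroup T).map T.subtype).comap (MulAut.conj x).toMonoidHom
    have hR'T : R' ≤ T := by
      intro y hy
      have h1 : x * y * x⁻¹ ∈ T := Subgroup.map_subtype_le (R : Subgroup T) hy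
      have := ‹T.Normal›.conj_mem _ h1 x⁻¹
      simpa [mul_assoc] using this
    have hHR' : H ≤ Subgroup.normalizer (R' : Set G) := by
      intro h hh
      have := hle h hh
      rw [Subgroup.mem_normalizer_iff] at this ⊢
      intro y
      have h2 := this (x * y * x⁻¹)
      simp only [R', Subgroup.mem_comap, MulEquiv.coe_toMonoidHom, MulAut.conj_apply]
      convert h2 using 2
      group
    rcases eq_or_lt_of_le hHR' with h | h
    · have : R' ≤ H ⊓ T := le_inf (h ▸ Subgroup.le_normalizer) hR'T
      rw [hHTbot, le_bot_iff] at this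
      apply R.ne_bot_of_dvd_card hrT
      rw [eq_bot_iff]
      intro y hy
      have : x⁻¹ * (y : G) * x ∈ R' := by
        simp only [R', Subgroup.mem_comap, MulEquiv.coe_toMonoidHom, MulAut.conj_apply]
        exact ⟨y, hy, by simp [mul_assoc]⟩
      rw [‹R' = ⊥›, Subgroup.mem_bot] at this
      rw [Subgroup.mem_bot]
      apply Subtype.ext
      have h3 : (y : G) = x * (x⁻¹ * (y : G) * x) * x⁻¹ := by group
      rw [h3, this]; simp
    · have hn : R'.Normal := Subgroup.normalizer_eq_top_iff.mp (hmax.2 _ h)
      have hyR : ∀ y : T, y ∈ (R : Subgroup T) ↔ x⁻¹ * (y : G) * x ∈ R' := by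
        intro y
        simp only [R', Subgroup.mem_comap, MulEquiv.coe_toMonoidHom, MulAut.conj_apply, Subgroup.mem_map]
        constructor
        · exact fun hy => ⟨y, hy, by simp [mul_assoc]⟩
        · rintro ⟨z, hz, he⟩
          have : z = y := Subtype.ext (by simpa [mul_assoc] using he)
          exact this ▸ hz
      have hRn : (R : Subgroup T).Normal := by
        constructor
        intro y hy g
        rw [hyR] at hy ⊢
        have := hn.conj_mem _ hy (x⁻¹ * (g : G) * x)
        convert this using 1
        simp [mul_assoc]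
      rcases hRn.eq_bot_or_eq_top with h' | h'
      · exact R.ne_bot_of_dvd_card hrT h'
      · exact hnotpgroup r (fun g => by
          obtain ⟨k, hk⟩ := R.2 ⟨g, h' ▸ Subgroup.mem_top g⟩
          exact ⟨k, congrArg Subtype.val hk⟩)

end Cfsg.Agent.S3498
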