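import Cfsg.Statements.S3504

set_option autoImplicit false
open Cfsg

namespace Cfsg.Agent.S3504

/-- For n ≥ 5, the fixed-point-free permutations of prime order in the symmetric group of degree n form a single conjugacy class if and only if n is a prime power. -/
theorem result (n : ℕ) (hn : 5 ≤ n) :
    Nat.card {c : ConjClasses (Equiv.Perm (Fin n)) // ∃ g : Equiv.Perm (Fin n), ConjClasses.mk g = c ∧ (orderOf g).Prime ∧ ∀ i : Fin n, g i ≠ i} = 1 ↔ IsPrimePow n := by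
  classical
  have hct : ∀ g : Equiv.Perm (Fin n), (orderOf g).Prime → (∀ i, g i ≠ i) →
      orderOf g ∣ n ∧ g.cycleType = Multiset.replicate (n / orderOf g) (orderOf g) := by
    intro g hg hd
    obtain ⟨k, hk⟩ := Equiv.Perm.cycleType_prime_order hg
    have hsum := g.sum_cycleType
    have hsupp : g.support = Finset.univ := Finset.eq_univ_iff_forall.mpr fun i => Equiv.Perm.mem_support.mpr (hd i)
    rw [hk, Multiset.sum_replicate, hsupp, Finset.card_univ, Fintype.card_fin, smul_eq_mul] at hsum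
    refine ⟨⟨k + 1, by rw [mul_comm, hsum]⟩, ?_⟩
    have : n / orderOf g = k + 1 := Nat.div_eq_of_eq_mul_left hg.pos hsum.symm
    rw [this]; exact hk
  have hex : ∀ p : ℕ, p.Prime → p ∣ n → ∃ g : Equiv.Perm (Fin n), orderOf g = p ∧ ∀ i, g i ≠ i := by
    intro p hp hpn
    obtain ⟨k, hk⟩ := hpn
    have hk0 : k ≠ 0 := by rintro rfl; omega
    obtain ⟨g, hg⟩ := (Equiv.Perm.exists_with_cycleType_iff (α := Fin n) (m := Multiset.replicate k p)).mpr
      ⟨by simp [hk, mul_comm], fun a ha => (Multiset.eq_of_mem_replicate ha) ▸ hp.two_le⟩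
    refine ⟨g, ?_, fun i => ?_⟩
    · rw [← Equiv.Perm.lcm_cycleType, hg]
      apply Nat.dvd_antisymm
      · exact Multiset.lcm_dvd.mpr fun a ha => (Multiset.eq_of_mem_replicate ha).symm ▸ dvd_rfl
      · exact Multiset.dvd_lcm (Multiset.mem_replicate.mpr ⟨hk0, rfl⟩)
    · have hsum := g.sum_cycleType
      rw [hg, Multiset.sum_replicate, smul_eq_mul] at hsum
      have : g.support = Finset.univ := by
        apply Finset.eq_univ_of_card
        rw [← hsum, Fintype.card_fin, hk, mul_comm]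
      exact Equiv.Perm.mem_support.mp (this ▸ Finset.mem_univ i)
  rw [isPrimePow_iff_unique_prime_dvd, Nat.card_eq_one_iff_unique]
  constructor
  · rintro ⟨hsub, ⟨⟨c, g, hgc, hg, hgd⟩⟩⟩
    refine ⟨orderOf g, ⟨hg, (hct g hg hgd).1⟩, ?_⟩
    rintro q ⟨hq, hqn⟩
    obtain ⟨h, hh, hhd⟩ := hex q hq hqn
    have := hsub.elim ⟨ConjClasses.mk g, g, rfl, hg, hgd⟩ ⟨ConjClasses.mk h, h, rfl, hh ▸ hq, hhd⟩
    have hconj : IsConj g h := ConjClasses.mk_eq_mk_iff_isConj.mp (congrArg Subtype.val this)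
    rw [Equiv.Perm.isConj_iff_cycleType_eq] at hconj
    rw [← hh, ← Equiv.Perm.lcm_cycleType, ← Equiv.Perm.lcm_cycleType, hconj]
  · rintro ⟨p, ⟨hp, hpn⟩, huniq⟩
    refine ⟨⟨?_⟩, ?_⟩
    · rintro ⟨c, g, rfl, hg, hgd⟩ ⟨d, h, rfl, hh, hhd⟩
      apply Subtype.ext
      change ConjClasses.mk g = ConjClasses.mk h
      rw [ConjClasses.mk_eq_mk_iff_isConj, Equiv.Perm.isConj_iff_cycleType_eq, (hct g hg hgd).2, (hct h hh hhd).2,
        huniq _ ⟨hg, (hct g hg hgd).1⟩, huniq _ ⟨hh, (hct h hh hhd).1⟩]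
    · obtain ⟨g, hg, hgd⟩ := hex p hp hpn
      exact ⟨⟨_, g, rfl, hg ▸ hp, hgd⟩⟩

end Cfsg.Agent.S3504
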