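import Cfsg.Statements.S3508

set_option autoImplicit false
open Cfsg

namespace Cfsg.Agent.S3508

open scoped IsMulCommutative

/-- Let a finite group G act faithfully on a set Ω with p ^ m points (p prime) and have an elementary abelian normal p-subgroup N acting regularly on Ω (so G is a group of affine transformations of an m-dimensional space over the field with p elements). If G contains an element of order p ^ r with r ≥ 1, then p ^ (r − 1) ≤ m. In particular an element of order p ^ m forces m ≤ 2, and m ≤ 1 when p is odd. -/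
theorem result {G : Type*} [Group G] [Finite G] {Ω : Type*} [Fintype Ω] [MulAction G Ω] [FaithfulSMul G Ω] (p m : ℕ) (hp : p.Prime) (hcard : Fintype.card Ω = p ^ m)
    (N : Subgroup G) [N.Normal] (hNc : IsMulCommutative N) (hNp : ∀ n ∈ N, n ^ p = 1)
    (hNtr : MulAction.IsPretransitive N Ω) (hNreg : ∀ ω : Ω, MulAction.stabilizer N ω = ⊥)
    (g : G) (r : ℕ) (hr : 1 ≤ r) (hg : orderOf g = p ^ r) :
    p ^ (r - 1) ≤ m ∧ (r = m → m ≤ 2 ∧ (2 < p → m ≤ 1)) := by
  haveI : Fact p.Prime := ⟨hp⟩
  haveI : Module (ZMod p) (Additive N) := AddCommGroup.zmodModule (n := p) (fun x => by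
    apply Additive.toMul.injective
    change (Additive.toMul x) ^ p = 1
    exact Subtype.ext (hNp _ (Additive.toMul x).2))
  obtain ⟨ω⟩ : Nonempty Ω := Fintype.card_pos_iff.mp (by rw [hcard]; exact pow_pos hp.pos m)
  obtain ⟨n, hn⟩ := hNtr.exists_smul_eq ω (g • ω)
  have hn' : (n : G) • ω = g • ω := hn
  let a : G := (n : G)⁻¹ * g
  have haω : a • ω = ω := by rw [mul_smul, ← hn', inv_smul_smul]
  have hga : g = (n : G) * a := by simp [a]
  have hNfix : ∀ x ∈ N, x • ω = ω → x = 1 := by
    intro x hx h
    have : (⟨x, hx⟩ : N) ∈ MulAction.stabilizer N ω := h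
    rw [hNreg, Subgroup.mem_bot] at this
    exact congrArg Subtype.val this
  have hcent : ∀ b : G, b • ω = ω → (∀ x ∈ N, b * x * b⁻¹ = x) → b = 1 := by
    intro b hb h
    apply FaithfulSMul.eq_of_smul_eq_smul (α := Ω)
    intro y
    obtain ⟨x, rfl⟩ := hNtr.exists_smul_eq ω y
    change b • (x : G) • ω = (1 : G) • (x : G) • ω
    rw [one_smul, smul_smul, mul_inv_eq_iff_eq_mul.mp (h x x.2), ← smul_smul, hb]
  let c : N →* N := (MulAut.conjNormal a).toMonoidHom
  let f : Module.End (ZMod p) (Additive N) := (MonoidHom.toAdditive c).toZModLinearMap p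
  have hf : ∀ (k : ℕ) (x : N), (((f ^ k) (Additive.ofMul x)).toMul : G) = a ^ k * x * (a ^ k)⁻¹ := by
    intro k
    induction k with
    | zero => intro x; simp
    | succ k ih =>
      intro x
      rw [pow_succ, Module.End.mul_apply, pow_succ]
      have := ih (c x)
      rw [show f (Additive.ofMul x) = Additive.ofMul (c x) from rfl, this]
      change a ^ k * ((MulAut.conjNormal a x : N) : G) * (a ^ k)⁻¹ = _
      rw [MulAut.conjNormal_apply]
      group
  let v : Additive N := Additive.ofMul n
  have hprod : ∀ k : ℕ, ((n : G) * a) ^ k =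
      ((((∑ i ∈ Finset.range k, f ^ i) v).toMul : N) : G) * a ^ k := by
    intro k
    induction k with
    | zero => simp
    | succ k ih =>
      have hsum : (∑ i ∈ Finset.range (k + 1), f ^ i) v = v + f ((∑ i ∈ Finset.range k, f ^ i) v) := by
        have : ∑ i ∈ Finset.range (k + 1), f ^ i = 1 + f * ∑ i ∈ Finset.range k, f ^ i := by
          rw [Finset.sum_range_succ', pow_zero, Finset.mul_sum, add_comm]
          simp only [pow_succ']
        rw [this]; rfl
      rw [hsum, pow_succ', ih]
      change _ = ((n * c ((∑ i ∈ Finset.range k, f ^ i) v).toMul : N) : G) * a ^ (k + 1)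
      set y := ((∑ i ∈ Finset.range k, f ^ i) v).toMul
      change _ = (n : G) * ((MulAut.conjNormal a y : N) : G) * a ^ (k + 1)
      rw [MulAut.conjNormal_apply, pow_succ']
      group
  have hpow : a ^ (p ^ r) = 1 := by
    have h1 := hprod (p ^ r)
    rw [← hga, ← hg, pow_orderOf_eq_one, hg] at h1
    set y := ((∑ i ∈ Finset.range (p ^ r), f ^ i) v).toMul
    have h2 : (a ^ (p ^ r)) = (y : G)⁻¹ := eq_inv_of_mul_eq_one_right h1.symm
    have hfix : ∀ k : ℕ, a ^ k • ω = ω := fun k => by
      induction k with
      | zero => simp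
      | succ k ih => rw [pow_succ, mul_smul, haω, ih]
    exact hNfix _ (h2 ▸ N.inv_mem y.2) (hfix _)
  have hfp : f ^ (p ^ r) = 1 := by
    apply LinearMap.ext
    intro x
    apply Additive.toMul.injective
    apply Subtype.ext
    rw [show x = Additive.ofMul (Additive.toMul x) from rfl, hf, hpow]
    simp
  have hfin : Module.finrank (ZMod p) (Additive N) = m := by
    haveI : Finite (Additive N) := inferInstanceAs (Finite N)
    have h1 := Module.natCard_eq_pow_finrank (K := ZMod p) (V := Additive N)
    rw [Nat.card_zmod] at h1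
    have h2 : Nat.card (Additive N) = p ^ m := by
      rw [← hcard, ← Nat.card_eq_fintype_card]
      refine Nat.card_eq_of_bijective (fun x => ((Additive.toMul x : N) : G) • ω) ⟨?_, ?_⟩
      · intro x y hxy
        apply Additive.toMul.injective
        apply Subtype.ext
        have := hNfix _ (N.mul_mem (N.inv_mem (Additive.toMul y).2) (Additive.toMul x).2)
          (by rw [mul_smul, inv_smul_eq_iff]; exact hxy)
        exact (inv_mul_eq_one.mp this).symm
      · intro y
        obtain ⟨x, hx⟩ := hNtr.exists_smul_eq ω y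
        exact ⟨Additive.ofMul x, hx⟩
    exact Nat.pow_right_injective hp.two_le (h1.symm.trans h2)
  have hpoly : ∀ s : ℕ, (∑ i ∈ Finset.range (p ^ s), (Polynomial.X : Polynomial (ZMod p)) ^ i) = (Polynomial.X - 1) ^ (p ^ s - 1) := by
    intro s
    apply mul_right_cancel₀ (Polynomial.X_sub_C_ne_zero (1 : ZMod p))
    rw [map_one, geom_sum_mul, ← pow_succ, Nat.sub_add_cancel (pow_pos hp.pos s), sub_pow_char_pow, one_pow]
  have hnil : (f - 1) ^ m = 0 := by
    have h1 : IsNilpotent (f - 1) := by
      refine ⟨p ^ r, ?_⟩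
      have := congrArg (Polynomial.aeval f)
        (sub_pow_char_pow (p := p) (n := r) (Polynomial.X : Polynomial (ZMod p)) 1)
      simp only [map_sub, map_pow, map_one, one_pow, Polynomial.aeval_X] at this
      rw [this, hfp, sub_self]
    have h2 := IsNilpotent.charpoly_eq_X_pow_finrank h1
    have h3 := LinearMap.aeval_self_charpoly (f - 1)
    rw [h2, map_pow, Polynomial.aeval_X, hfin] at h3
    exact h3
  have main : p ^ (r - 1) ≤ m := by
    by_contra hlt
    push Not at hlt
    set q := p ^ (r - 1) with hq
    have h0 : ∀ j, m ≤ j → (f - 1) ^ j = 0 := fun j hj => pow_eq_zero_of_le hj hnil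
    have hsum0 : ∑ i ∈ Finset.range q, f ^ i = 0 := by
      have := congrArg (Polynomial.aeval f) (hpoly (r - 1))
      simp only [map_sum, map_pow, map_sub, map_one, Polynomial.aeval_X] at this
      rw [this, h0 _ (by omega)]
    have hfq : f ^ q = 1 := by
      have := geom_sum_mul f q
      rw [hsum0, zero_mul] at this
      exact sub_eq_zero.mp this.symm
    have haq : a ^ q = 1 := by
      apply hcent
      · clear_value q
        clear hq hlt hsum0 hfq
        induction q with
        | zero => simp
        | succ k ih => rw [pow_succ, mul_smul, haω, ih]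
      · intro x hx
        have := hf q ⟨x, hx⟩
        rw [hfq] at this
        exact this.symm
    have hgq := hprod q
    rw [hsum0, haq, ← hga] at hgq
    have : g ^ q = 1 := by rw [hgq]; simp
    have hd := orderOf_dvd_of_pow_eq_one this
    rw [hg, hq] at hd
    have := (Nat.pow_dvd_pow_iff_le_right hp.one_lt).mp hd
    omega
  refine ⟨main, ?_⟩
  rintro rfl
  have hexp : ∀ k : ℕ, k + 3 < 2 ^ (k + 2) := by
    intro k; induction k with
    | zero => norm_num
    | succ k ih => rw [pow_succ]; omega
  have hexp3 : ∀ k : ℕ, k + 2 < 3 ^ (k + 1) := by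
    intro k; induction k with
    | zero => norm_num
    | succ k ih => rw [pow_succ]; omega
  constructor
  · by_contra h
    obtain ⟨k, rfl⟩ : ∃ k, r = k + 3 := ⟨r - 3, by omega⟩
    have := Nat.pow_le_pow_left hp.two_le (k + 2)
    have := hexp k
    simp at main
    omega
  · intro h2
    by_contra h
    obtain ⟨k, rfl⟩ : ∃ k, r = k + 2 := ⟨r - 2, by omega⟩
    have h3 := Nat.pow_le_pow_left (show 3 ≤ p from h2) (k + 1)
    have := hexp3 k
    simp at main
    omega

end Cfsg.Agent.S3508
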