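import Cfsg.Statements.S3511

set_option autoImplicit false
open Cfsg

namespace Cfsg.Agent.S3511

/-- Let a finite group G act faithfully on a set Ω. If every element of G of square-free order has a regular cycle (an orbit of the cyclic group it generates with trivial stabilizer), then every element of G has a regular cycle. -/
theorem result {G : Type*} [Group G] [Finite G] {Ω : Type*} [MulAction G Ω] [FaithfulSMul G Ω]
    (h : ∀ g : G, Squarefree (orderOf g) → ∃ ω : Ω, MulAction.stabilizer (Subgroup.zpowers g) ω = ⊥) (g : G) :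
    ∃ ω : Ω, MulAction.stabilizer (Subgroup.zpowers g) ω = ⊥ := by
  let n := orderOf g
  have hn : n ≠ 0 := (orderOf_pos g).ne'
  let r := ∏ p ∈ n.primeFactors, p
  have hrn : r ∣ n := Nat.prod_primeFactors_dvd n
  obtain ⟨m, hm⟩ := hrn
  have hm0 : m ≠ 0 := by
    intro h0; apply hn; rw [hm, h0, mul_zero]
  have ho : orderOf (g ^ m) = r := by
    rw [orderOf_pow' g hm0]
    have : Nat.gcd (orderOf g) m = m := Nat.gcd_eq_right ⟨r, by rw [mul_comm]; exact hm⟩
    rw [this]
    change n / m = r
    rw [hm, Nat.mul_div_cancel _ (Nat.pos_of_ne_zero hm0)]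
  have hsq : Squarefree r := by
    refine Finset.squarefree_prod_of_pairwise_isCoprime ?_ ?_
    · intro a ha b hb hab
      have h1 := Nat.prime_of_mem_primeFactors ha
      have h2 := Nat.prime_of_mem_primeFactors hb
      exact Nat.coprime_iff_isRelPrime.mp ((Nat.coprime_primes h1 h2).mpr hab)
    · intro a ha
      exact (Nat.prime_of_mem_primeFactors ha).prime.squarefree
  obtain ⟨ω, hω⟩ := h (g ^ m) (ho ▸ hsq)
  refine ⟨ω, ?_⟩
  rw [eq_bot_iff]
  intro x hx
  rw [Subgroup.mem_bot]
  by_contra hx1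
  obtain ⟨p, hp, hpd⟩ := Nat.exists_prime_and_dvd (n := orderOf x) (by simpa [orderOf_eq_one_iff] using hx1)
  have hpn : p ∣ n := by
    apply hpd.trans
    have := orderOf_dvd_natCard x
    rwa [Nat.card_zpowers] at this
  have hpr : p ∣ r := Finset.dvd_prod_of_mem _ (Nat.mem_primeFactors.mpr ⟨hp, hpn, hn⟩)
  let y := x ^ (orderOf x / p)
  have hy : orderOf y = p := orderOf_pow_orderOf_div (orderOf_pos x).ne' hpd
  have hyr : (y : G) ^ r = 1 := by
    have : orderOf (y : G) = p := by rw [← hy]; exact Subgroup.orderOf_coe y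
    exact orderOf_dvd_iff_pow_eq_one.mp (this ▸ hpr)
  obtain ⟨j, hj⟩ : ∃ j : ℕ, g ^ j = (y : G) := Submonoid.mem_powers_iff _ _ |>.mp
    (mem_powers_iff_mem_zpowers.mpr y.2)
  have hmj : m ∣ j := by
    rw [← hj, ← pow_mul, ← orderOf_dvd_iff_pow_eq_one] at hyr
    change n ∣ j * r at hyr
    rw [hm, mul_comm r m] at hyr
    have hr0 : 0 < r := by rw [← ho]; exact orderOf_pos _
    exact (Nat.mul_dvd_mul_iff_right hr0).mp hyr
  have hymem : (y : G) ∈ Subgroup.zpowers (g ^ m) := by
    obtain ⟨c, rfl⟩ := hmj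
    rw [← hj, pow_mul]; exact Subgroup.pow_mem _ (Subgroup.mem_zpowers _) _
  have hfix : (y : G) • ω = ω := by
    have : y ∈ MulAction.stabilizer (Subgroup.zpowers g) ω := Subgroup.pow_mem _ hx _
    exact this
  have : (⟨(y : G), hymem⟩ : Subgroup.zpowers (g ^ m)) ∈ MulAction.stabilizer (Subgroup.zpowers (g ^ m)) ω := hfix
  rw [hω, Subgroup.mem_bot] at this
  have : orderOf y = 1 := by
    rw [orderOf_eq_one_iff]; apply Subtype.ext; simpa using congrArg Subtype.val this
  rw [hy] at this
  exact hp.ne_one this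

end Cfsg.Agent.S3511
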