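import Cfsg.Statements.S3514

set_option autoImplicit false
open Cfsg

namespace Cfsg.Agent.S3514

/-- Let p be a prime, V a finite vector space over the field with p elements, and H a group of linear transformations of V all of whose orbits on V have size coprime to p. (i) Every normal subgroup K of H has all its orbits on V of size coprime to p. (ii) If N is a group of linear transformations of V of order coprime to p that is normalized by H, then the group generated by N and H has all its orbits on V of size coprime to p. -/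
theorem result (p : ℕ) [Fact p.Prime] {V : Type*} [AddCommGroup V] [Module (ZMod p) V] [Finite V]
    (H : Subgroup (V ≃ₗ[ZMod p] V)) (hH : ∀ v : V, ¬ p ∣ Nat.card {u : V | ∃ h ∈ H, h v = u}) :
    (∀ K : Subgroup (V ≃ₗ[ZMod p] V), K ≤ H → H ≤ Subgroup.normalizer (K : Set (V ≃ₗ[ZMod p] V)) →
        ∀ v : V, ¬ p ∣ Nat.card {u : V | ∃ k ∈ K, k v = u}) ∧
    (∀ N : Subgroup (V ≃ₗ[ZMod p] V), ¬ p ∣ Nat.card N → H ≤ Subgroup.normalizer (N : Set (V ≃ₗ[ZMod p] V)) →
        ∀ v : V, ¬ p ∣ Nat.card {u : V | ∃ x ∈ N ⊔ H, x v = u}) := by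
  classical
  let T := V ≃ₗ[ZMod p] V
  have hfin : Finite T := Finite.of_injective (fun f : T => (f : V → V)) DFunLike.coe_injective
  let st : Subgroup T → V → Subgroup T := fun X v =>
    { carrier := {x | x ∈ X ∧ x v = v}
      one_mem' := ⟨X.one_mem, rfl⟩
      mul_mem' := fun {a b} ha hb => ⟨X.mul_mem ha.1 hb.1, by change a (b v) = v; rw [hb.2, ha.2]⟩
      inv_mem' := fun {a} ha => ⟨X.inv_mem ha.1, by
        change a.symm v = v; rw [LinearEquiv.symm_apply_eq]; exact ha.2.symm⟩ }
  have horb : ∀ (X : Subgroup T) (v : V),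
      Nat.card {u : V | ∃ x ∈ X, x v = u} * Nat.card (st X v) = Nat.card X := by
    intro X v
    letI : MulAction X V :=
      { smul := fun x w => (x : T) w, one_smul := fun _ => rfl, mul_smul := fun _ _ _ => rfl }
    have h := Nat.card_congr (MulAction.orbitProdStabilizerEquivGroup X v)
    rw [Nat.card_prod] at h
    have h1 : MulAction.orbit X v = {u : V | ∃ x ∈ X, x v = u} := by
      ext u
      constructor
      · rintro ⟨x, hx⟩; exact ⟨x, x.2, hx⟩
      · rintro ⟨x, hx, h⟩; exact ⟨⟨x, hx⟩, h⟩
    have h2 : Nat.card (MulAction.stabilizer X v) = Nat.card (st X v) :=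
      Nat.card_congr ⟨fun x => ⟨x.1.1, x.1.2, x.2⟩, fun x => ⟨⟨x.1, x.2.1⟩, x.2.2⟩, fun _ => rfl, fun _ => rfl⟩
    rw [h1, h2] at h
    exact h
  have hp : p.Prime := Fact.out
  have hrel : ∀ (K S : Subgroup T), S ≤ Subgroup.normalizer (K : Set T) → K.relIndex (K ⊔ S) = K.relIndex S := by
    intro K S hSK
    haveI := Subgroup.normal_subgroupOf_of_le_normalizer hSK
    haveI := Subgroup.normal_subgroupOf_sup_of_le_normalizer hSK
    rw [sup_comm]
    exact (Nat.card_congr (QuotientGroup.quotientInfEquivProdNormalizerQuotient S K hSK).toEquiv).symm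
  constructor
  · intro K hKH hHK v
    haveI : (K.subgroupOf H).Normal := (Subgroup.normal_subgroupOf_iff_le_normalizer hKH).mpr hHK
    let S := st H v
    have hSH : S ≤ H := fun x hx => hx.1
    have hKS : K ⊓ S = st K v := by
      ext x
      rw [Subgroup.mem_inf]
      exact ⟨fun h => ⟨h.1, h.2.2⟩, fun h => ⟨h.1, hKH h.1, h.2⟩⟩
    have hSK : S ≤ Subgroup.normalizer (K : Set T) := hSH.trans hHK
    have hJ : Nat.card (K ⊔ S : Subgroup T) * Nat.card (st K v) = Nat.card K * Nat.card S := by
      haveI : (K.subgroupOf (K ⊔ S)).Normal := (Subgroup.normal_subgroupOf_iff_le_normalizer le_sup_left).mpr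
        (sup_le Subgroup.le_normalizer hSK)
      have h1 : Nat.card (K ⊔ S : Subgroup T) = Nat.card K * K.relIndex (K ⊔ S) := by
        rw [← Subgroup.card_mul_index (K.subgroupOf (K ⊔ S)),
          Nat.card_congr (Subgroup.subgroupOfEquivOfLe (le_sup_left : K ≤ K ⊔ S)).toEquiv]
        rfl
      have h2 : K.relIndex (K ⊔ S) = K.relIndex S :=
        hrel K S hSK
      have h3 : Nat.card (K ⊓ S : Subgroup T) * K.relIndex S = Nat.card S := by
        rw [← Subgroup.card_mul_index (K.subgroupOf S)]
        congr 1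
        rw [← Subgroup.inf_subgroupOf_right, Nat.card_congr (Subgroup.subgroupOfEquivOfLe inf_le_right).toEquiv]
      rw [h1, h2, ← hKS, ← h3]
      ring
    have h4 := Subgroup.card_dvd_of_le (sup_le hKH hSH : K ⊔ S ≤ H)
    obtain ⟨c, hc⟩ := h4
    intro hpK
    apply hH v
    have e1 := horb H v
    have e2 := horb K v
    set O := Nat.card {u : V | ∃ h ∈ H, h v = u}
    set O' := Nat.card {u : V | ∃ k ∈ K, k v = u}
    refine hpK.trans ⟨c, ?_⟩
    apply mul_right_cancel₀ (Nat.card_pos (α := S)).ne'
    have e3 : Nat.card (K ⊔ S : Subgroup T) = O' * Nat.card S := by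
      apply mul_right_cancel₀ (Nat.card_pos (α := st K v)).ne'
      rw [hJ, ← e2]; ring
    calc O * Nat.card S = Nat.card H := e1
      _ = O' * c * Nat.card S := by rw [hc, e3]; ring
  · intro N hN hHN v
    let X := N ⊔ H
    haveI : (N.subgroupOf X).Normal := (Subgroup.normal_subgroupOf_iff_le_normalizer le_sup_left).mpr
      (sup_le Subgroup.le_normalizer hHN)
    have h1 : Nat.card X ∣ Nat.card N * Nat.card H := by
      rw [← Subgroup.card_mul_index (N.subgroupOf X),
        Nat.card_congr (Subgroup.subgroupOfEquivOfLe (le_sup_left : N ≤ X)).toEquiv]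
      apply Nat.mul_dvd_mul_left
      change N.relIndex (N ⊔ H) ∣ Nat.card H
      rw [hrel N H hHN]
      exact Subgroup.relIndex_dvd_card N H
    have h2 : Nat.card (st H v) ∣ Nat.card (st X v) := Subgroup.card_dvd_of_le
      (fun x hx => ⟨(le_sup_right : H ≤ X) hx.1, hx.2⟩)
    obtain ⟨c, hc⟩ := h2
    have e1 := horb H v
    have e2 := horb X v
    rw [← e1, ← e2, hc] at h1
    intro hpX
    have : p ∣ Nat.card N * Nat.card {u : V | ∃ h ∈ H, h v = u} := by
      refine hpX.trans (dvd_trans (Dvd.intro c rfl) (Nat.dvd_of_mul_dvd_mul_right (Nat.card_pos (α := st H v)) ?_))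
      convert h1 using 1 <;> ring
    rcases hp.dvd_mul.mp this with h | h
    · exact hN h
    · exact hH v h

end Cfsg.Agent.S3514
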