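import Cfsg.Statements.S3515

set_option autoImplicit false
open Cfsg

namespace Cfsg.Agent.S3515

lemma line_fixed {K V : Type*} [Field K] [AddCommGroup V] [Module K V] (τ : V → V)
    (hτ : ∀ x y z : V, ∃ (A : V ≃ₗ[K] V) (b : V), τ x = A x + b ∧ τ y = A y + b ∧ τ z = A z + b)
    (x y : V) (hx : τ x = x) (hy : τ y = y) (t : K) : τ (x + t • (y - x)) = x + t • (y - x) := by
  obtain ⟨A, b, h1, h2, h3⟩ := hτ x y (x + t • (y - x))
  rw [hx] at h1
  rw [hy] at h2
  rw [h3, map_add, map_smul, map_sub]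
  have h4 : A y - A x = y - x := by
    rw [eq_sub_of_add_eq h1.symm, eq_sub_of_add_eq h2.symm]; abel
  rw [h4]
  calc A x + t • (y - x) + b = (A x + b) + t • (y - x) := by abel
    _ = x + t • (y - x) := by rw [← h1]

lemma plane_two : ∀ w : Fin 2 → ZMod 2, w = 0 ∨ w = ![1, 0] ∨ w = ![0, 1] ∨ w = ![1, 1] := by decide

lemma plane_two_ne : ![(1 : ZMod 2), 1] ≠ 0 ∧ ![(1 : ZMod 2), 1] ≠ ![1, 0] ∧ ![(1 : ZMod 2), 1] ≠ ![0, 1] := by decide

/-- Every primitive affine permutation group of degree p² is 3-closed. Let p be a prime and G a group of permutations of the plane V = F_p² consisting of affine maps x ↦ Ax + b, containing all translations, and acting primitively on V. Then any permutation σ of V that agrees on every triple of points with some element of G (σ preserves every G-orbit on ordered triples) already lies in G. -/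
theorem result (p : ℕ) [Fact p.Prime] (G : Subgroup (Equiv.Perm (Fin 2 → ZMod p)))
    (haff : (G : Set (Equiv.Perm (Fin 2 → ZMod p))) ⊆ {τ : Equiv.Perm (Fin 2 → ZMod p) | ∃ (A : (Fin 2 → ZMod p) ≃ₗ[ZMod p] (Fin 2 → ZMod p)) (b : Fin 2 → ZMod p), ∀ x, τ x = A x + b})
    (htrans : ∀ b : Fin 2 → ZMod p, ∃ g ∈ G, ∀ x, g x = x + b) (hprim : MulAction.IsPreprimitive G (Fin 2 → ZMod p))
    (σ : Equiv.Perm (Fin 2 → ZMod p)) (hσ : (∀ t : Fin 3 → (Fin 2 → ZMod p), ∃ g ∈ G, ∀ i, σ (t i) = g (t i))) : σ ∈ G := by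
  obtain ⟨g, hgG, hg⟩ := hσ ![0, ![1, 0], ![0, 1]]
  have g0 : σ 0 = g 0 := hg 0
  have g1 : σ ![1, 0] = g ![1, 0] := hg 1
  have g2 : σ ![0, 1] = g ![0, 1] := hg 2
  let τ : Equiv.Perm (Fin 2 → ZMod p) := g⁻¹ * σ
  have hτ : ∀ x y z, ∃ (A : (Fin 2 → ZMod p) ≃ₗ[ZMod p] (Fin 2 → ZMod p)) (b : Fin 2 → ZMod p),
      τ x = A x + b ∧ τ y = A y + b ∧ τ z = A z + b := by
    intro x y z
    obtain ⟨k, hkG, hk⟩ := hσ ![x, y, z]
    obtain ⟨A, b, hAb⟩ := haff (G.mul_mem (G.inv_mem hgG) hkG)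
    have e0 : σ x = k x := hk 0
    have e1 : σ y = k y := hk 1
    have e2 : σ z = k z := hk 2
    refine ⟨A, b, ?_, ?_, ?_⟩ <;> rw [← hAb] <;> simp [τ, e0, e1, e2]
  have f0 : τ 0 = 0 := by simp [τ, g0]
  have f1 : τ ![1, 0] = ![1, 0] := by simp [τ, g1]
  have f2 : τ ![0, 1] = ![0, 1] := by simp [τ, g2]
  suffices h : ∀ v, τ v = v by
    have : σ = g := Equiv.ext fun v => by
      have := congrArg g (h v)
      simpa [τ] using this
    exact this ▸ hgG
  have a1 : ∀ a : ZMod p, τ ![a, 0] = ![a, 0] := fun a => by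
    simpa using line_fixed τ hτ 0 ![1, 0] f0 f1 a
  have a2 : ∀ a : ZMod p, τ ![0, a] = ![0, a] := fun a => by
    simpa using line_fixed τ hτ 0 ![0, 1] f0 f2 a
  intro v
  by_cases hp2 : p = 2
  · subst hp2
    have hall := plane_two
    rcases hall v with rfl | rfl | rfl | rfl
    · exact f0
    · exact f1
    · exact f2
    · rcases hall (τ ![1, 1]) with h | h | h | h
      · exact absurd (τ.injective (h.trans f0.symm)) plane_two_ne.1
      · exact absurd (τ.injective (h.trans f1.symm)) plane_two_ne.2.1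
      · exact absurd (τ.injective (h.trans f2.symm)) plane_two_ne.2.2
      · exact h
  · have h2 : (2 : ZMod p) ≠ 0 := by
      intro h
      have h' : ((2 : ℕ) : ZMod p) = 0 := by exact_mod_cast h
      rw [ZMod.natCast_eq_zero_iff] at h'
      exact hp2 ((Nat.prime_dvd_prime_iff_eq Fact.out Nat.prime_two).mp h')
    have := line_fixed τ hτ ![2 * v 0, 0] ![0, 2 * v 1] (a1 _) (a2 _) (2 : ZMod p)⁻¹
    have hv : ![2 * v 0, 0] + (2 : ZMod p)⁻¹ • (![0, 2 * v 1] - ![2 * v 0, 0]) = v := by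
      ext i
      fin_cases i <;> simp <;> field_simp <;> ring
    rwa [hv] at this

end Cfsg.Agent.S3515
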