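import Cfsg.Statements.S3516

set_option autoImplicit false
open Cfsg

namespace Cfsg.Agent.S3516

/-- Let p be an odd prime, d ≥ 3, and G a group of affine permutations x ↦ Ax + b of V = F_p^d containing all translations and all maps x ↦ Ax with A of determinant 1. Then the 3-closure of G is the full affine group: a permutation σ of V agrees on every triple of points with some element of G if and only if σ is an affine map. -/
theorem result (p : ℕ) [Fact p.Prime] (hp : p ≠ 2) (d : ℕ) (hd : 3 ≤ d) (G : Subgroup (Equiv.Perm (Fin d → ZMod p)))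
    (haff : (G : Set (Equiv.Perm (Fin d → ZMod p))) ⊆ {τ : Equiv.Perm (Fin d → ZMod p) | ∃ (A : (Fin d → ZMod p) ≃ₗ[ZMod p] (Fin d → ZMod p)) (b : Fin d → ZMod p), ∀ x, τ x = A x + b})
    (htrans : ∀ b : Fin d → ZMod p, ∃ g ∈ G, ∀ x, g x = x + b)
    (hsl : ∀ A : (Fin d → ZMod p) ≃ₗ[ZMod p] (Fin d → ZMod p), LinearMap.det (A : (Fin d → ZMod p) →ₗ[ZMod p] (Fin d → ZMod p)) = 1 → ∃ g ∈ G, ∀ x, g x = A x)
    (σ : Equiv.Perm (Fin d → ZMod p)) :
    (∀ t : Fin 3 → (Fin d → ZMod p), ∃ g ∈ G, ∀ i, σ (t i) = g (t i)) ↔ σ ∈ {τ : Equiv.Perm (Fin d → ZMod p) | ∃ (A : (Fin d → ZMod p) ≃ₗ[ZMod p] (Fin d → ZMod p)) (b : Fin d → ZMod p), ∀ x, τ x = A x + b} := by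
  constructor
  · intro hσ
    have hline : ∀ (x y : (Fin d → ZMod p)) (t : ZMod p), σ (x + t • (y - x)) = σ x + t • (σ y - σ x) := by
      intro x y t
      obtain ⟨g, hgG, hg⟩ := hσ ![x, y, x + t • (y - x)]
      obtain ⟨A, b, hAb⟩ := haff hgG
      have e0 : σ x = g x := hg 0
      have e1 : σ y = g y := hg 1
      have e2 : σ (x + t • (y - x)) = g (x + t • (y - x)) := hg 2
      rw [e2, e1, e0, hAb, hAb, hAb, map_add, map_smul, map_sub]
      simp only [add_sub_add_right_eq_sub]
      abel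
    have h2 : (2 : ZMod p) ≠ 0 := by
      intro h
      have h' : ((2 : ℕ) : ZMod p) = 0 := by exact_mod_cast h
      rw [ZMod.natCast_eq_zero_iff] at h'
      exact hp ((Nat.prime_dvd_prime_iff_eq Fact.out Nat.prime_two).mp h')
    let L : (Fin d → ZMod p) → (Fin d → ZMod p) := fun x => σ x - σ 0
    have hsmul : ∀ (t : ZMod p) (x : (Fin d → ZMod p)), L (t • x) = t • L x := by
      intro t x
      have := hline 0 x t
      simp only [zero_add, sub_zero] at this
      simp only [L]
      rw [this]; abel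
    have hadd : ∀ x y : (Fin d → ZMod p), L (x + y) = L x + L y := by
      intro x y
      have hmid := hline x y (2 : ZMod p)⁻¹
      have he : x + (2 : ZMod p)⁻¹ • (y - x) = (2 : ZMod p)⁻¹ • (x + y) := by
        ext i; simp; field_simp; ring
      rw [he] at hmid
      have h3 : L ((2 : ZMod p)⁻¹ • (x + y)) = (2 : ZMod p)⁻¹ • (L x + L y) := by
        simp only [L]
        rw [hmid]
        ext i; simp; field_simp; ring
      rw [hsmul] at h3
      exact (smul_right_injective (Fin d → ZMod p) (inv_ne_zero h2)) h3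
    let A : (Fin d → ZMod p) ≃ₗ[ZMod p] (Fin d → ZMod p) :=
      { toFun := L
        invFun := fun y => σ.symm (y + σ 0)
        map_add' := hadd
        map_smul' := hsmul
        left_inv := fun x => by simp [L]
        right_inv := fun y => by simp [L] }
    exact ⟨A, σ 0, fun x => by
      change σ x = σ x - σ 0 + σ 0
      rw [sub_add_cancel]⟩
  · rintro ⟨A, b, hAb⟩ t
    let W : Submodule (ZMod p) (Fin d → ZMod p) := Submodule.span (ZMod p) {t 1 - t 0, t 2 - t 0}
    have hW : W < ⊤ := by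
      rw [lt_top_iff_ne_top]
      intro h
      have h1 := finrank_span_le_card (R := ZMod p) ({t 1 - t 0, t 2 - t 0} : Set (Fin d → ZMod p))
      change Module.finrank (ZMod p) W ≤ _ at h1
      rw [h, finrank_top, Module.finrank_fin_fun] at h1
      have : ({t 1 - t 0, t 2 - t 0} : Set (Fin d → ZMod p)).toFinset.card ≤ 2 := by
        rw [Set.toFinset_insert, Set.toFinset_singleton]; exact Finset.card_le_two
      omega
    obtain ⟨f, hf0, hfW⟩ := Submodule.exists_le_ker_of_lt_top W hW
    obtain ⟨u, hu⟩ : ∃ u, f u ≠ 0 := by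
      by_contra h; push Not at h; exact hf0 (LinearMap.ext h)
    let c : ZMod p := (LinearMap.det (A : (Fin d → ZMod p) →ₗ[ZMod p] (Fin d → ZMod p)))⁻¹
    have hdetA : LinearMap.det (A : (Fin d → ZMod p) →ₗ[ZMod p] (Fin d → ZMod p)) ≠ 0 := (LinearEquiv.isUnit_det' A).ne_zero
    let D : (Fin d → ZMod p) →ₗ[ZMod p] (Fin d → ZMod p) := LinearMap.transvection f (((c - 1) / f u) • u)
    have hD : LinearMap.det D = c := by
      rw [LinearMap.transvection.det, map_smul, smul_eq_mul, div_mul_cancel₀ _ hu]; ring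
    let B := (LinearMap.equivOfDetNeZero D (by rw [hD]; exact inv_ne_zero hdetA)).trans A
    have hBdet : LinearMap.det (B : (Fin d → ZMod p) →ₗ[ZMod p] (Fin d → ZMod p)) = 1 := by
      change LinearMap.det ((A : (Fin d → ZMod p) →ₗ[ZMod p] (Fin d → ZMod p)).comp D) = 1
      rw [LinearMap.det_comp, hD]
      exact mul_inv_cancel₀ hdetA
    obtain ⟨g₁, hg₁G, hg₁⟩ := hsl B hBdet
    obtain ⟨g₂, hg₂G, hg₂⟩ := htrans (σ (t 0) - g₁ (t 0))
    refine ⟨g₂ * g₁, G.mul_mem hg₂G hg₁G, fun i => ?_⟩
    have hfix : ∀ w ∈ W, B w = A w := by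
      intro w hw
      change A (D w) = A w
      have : f w = 0 := hfW hw
      simp [D, LinearMap.transvection.apply, this]
    have hi : t i - t 0 ∈ W := by
      fin_cases i
      · simp
      · exact Submodule.subset_span (Or.inl rfl)
      · exact Submodule.subset_span (Or.inr rfl)
    have := hfix _ hi
    rw [map_sub, map_sub] at this
    rw [Equiv.Perm.mul_apply, hg₂, hg₁, hg₁, hAb, hAb]
    have h' : B (t i) = A (t i) - A (t 0) + B (t 0) := by rw [← this]; abel
    rw [h']; abel

end Cfsg.Agent.S3516
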