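import Cfsg.Statements.S3517

set_option autoImplicit false
open Cfsg

namespace Cfsg.Agent.S3517

lemma exists_equiv_extend {V : Type*} [AddCommGroup V] [Module (ZMod 2) V] [FiniteDimensional (ZMod 2) V]
    (P : Submodule (ZMod 2) V) (f : P →ₗ[ZMod 2] V) (hf : Function.Injective f) :
    ∃ A : V ≃ₗ[ZMod 2] V, ∀ x : P, A x = f x := by
  obtain ⟨C, hC⟩ := Submodule.exists_isCompl P
  obtain ⟨D, hD⟩ := Submodule.exists_isCompl (LinearMap.range f)
  have h1 := Submodule.finrank_add_eq_of_isCompl hC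
  have h2 := Submodule.finrank_add_eq_of_isCompl hD
  have h3 : Module.finrank (ZMod 2) (LinearMap.range f) = Module.finrank (ZMod 2) P :=
    LinearMap.finrank_range_of_inj hf
  let e : C ≃ₗ[ZMod 2] D := LinearEquiv.ofFinrankEq C D (by omega)
  let A : V ≃ₗ[ZMod 2] V := (Submodule.prodEquivOfIsCompl P C hC).symm ≪≫ₗ
    ((LinearEquiv.ofInjective f hf).prodCongr e) ≪≫ₗ Submodule.prodEquivOfIsCompl _ D hD
  refine ⟨A, fun x => ?_⟩
  simp [A]

lemma exists_equiv_pair {V : Type*} [AddCommGroup V] [Module (ZMod 2) V] [FiniteDimensional (ZMod 2) V]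
    (v₁ v₂ w₁ w₂ : V) (h1 : v₁ = 0 ↔ w₁ = 0) (h2 : v₂ = 0 ↔ w₂ = 0) (h12 : v₁ = v₂ ↔ w₁ = w₂) :
    ∃ A : V ≃ₗ[ZMod 2] V, A v₁ = w₁ ∧ A v₂ = w₂ := by
  let F : (ZMod 2 × ZMod 2) →ₗ[ZMod 2] V :=
    ((LinearMap.fst _ _ _).smulRight v₁) + ((LinearMap.snd _ _ _).smulRight v₂)
  let F' : (ZMod 2 × ZMod 2) →ₗ[ZMod 2] V :=
    ((LinearMap.fst _ _ _).smulRight w₁) + ((LinearMap.snd _ _ _).smulRight w₂)
  have neg_self : ∀ a : V, -a = a := fun a => by
    rw [← neg_one_smul (ZMod 2) a]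
    simp [show (-1 : ZMod 2) = 1 from rfl]
  have key : ∀ (a b c d : V), (a + b = 0 ↔ a = b) := fun a b _ _ => by
    rw [add_eq_zero_iff_eq_neg, neg_self]
  have hker : LinearMap.ker F = LinearMap.ker F' := by
    ext ⟨a, b⟩
    have : ∀ a : ZMod 2, a = 0 ∨ a = 1 := by decide
    rcases this a with rfl | rfl <;> rcases this b with rfl | rfl <;>
      simp [F, F', LinearMap.mem_ker, h1, h2, key _ _ v₁ v₁, h12]
  let g : LinearMap.range F →ₗ[ZMod 2] V :=
    (Submodule.liftQ (LinearMap.ker F) F' hker.le).comp F.quotKerEquivRange.symm.toLinearMap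
  have hg : ∀ p, g ⟨F p, LinearMap.mem_range_self F p⟩ = F' p := by
    intro p
    have : F.quotKerEquivRange.symm ⟨F p, LinearMap.mem_range_self F p⟩ = Submodule.Quotient.mk p := by
      rw [LinearEquiv.symm_apply_eq]; rfl
    simp only [g, LinearMap.comp_apply, LinearEquiv.coe_coe, this, Submodule.liftQ_apply]
  have hginj : Function.Injective g := by
    apply Function.Injective.comp (g := Submodule.liftQ (LinearMap.ker F) F' hker.le)
    · rw [← LinearMap.ker_eq_bot, Submodule.ker_liftQ_eq_bot _ _ _ hker.ge]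
    · exact F.quotKerEquivRange.symm.injective
  obtain ⟨A, hA⟩ := exists_equiv_extend _ g hginj
  refine ⟨A, ?_, ?_⟩
  · have := (hA ⟨F (1, 0), LinearMap.mem_range_self F _⟩).trans (hg (1, 0))
    simpa [F, F'] using this
  · have := (hA ⟨F (0, 1), LinearMap.mem_range_self F _⟩).trans (hg (0, 1))
    simpa [F, F'] using this

/-- For d ≥ 3, the 3-closure of the affine group AGL_d(2) acting on F_2^d is the full symmetric group: every permutation of F_2^d agrees on every ordered triple of points with some affine map (AGL_d(2) is 3-transitive). -/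
theorem result (d : ℕ) (hd : 3 ≤ d) (σ : Equiv.Perm (Fin d → ZMod 2)) (t : Fin 3 → (Fin d → ZMod 2)) :
    ∃ (A : (Fin d → ZMod 2) ≃ₗ[ZMod 2] (Fin d → ZMod 2)) (b : Fin d → ZMod 2), ∀ i, σ (t i) = A (t i) + b := by
  obtain ⟨A, hA1, hA2⟩ := exists_equiv_pair (t 1 - t 0) (t 2 - t 0) (σ (t 1) - σ (t 0)) (σ (t 2) - σ (t 0))
    (by simp [sub_eq_zero]) (by simp [sub_eq_zero]) (by simp [sub_left_inj])
  refine ⟨A, σ (t 0) - A (t 0), fun i => ?_⟩
  rw [map_sub] at hA1 hA2
  fin_cases i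
  · simp
  · simp only [Fin.mk_one, Fin.isValue]
    rw [← eq_add_of_sub_eq hA1.symm |>.symm]
    abel
  · simp only [Fin.reduceFinMk, Fin.isValue]
    rw [← eq_add_of_sub_eq hA2.symm |>.symm]
    abel

end Cfsg.Agent.S3517
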