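import Cfsg.Statements.S3518

set_option autoImplicit false
open Cfsg

namespace Cfsg.Agent.S3518

open Polynomial in
/-- Rédei-type lemma: a permutation of `𝔽_p` with `(f x - f y) ^ m = (x - y) ^ m` for some `m` with
`1 ≤ m` and `2 * m < p` is affine. -/
lemma affine_of_pow_sub_eq {p : ℕ} [Fact p.Prime] (f : ZMod p → ZMod p) (hf : Function.Injective f)
    (m : ℕ) (hm1 : 1 ≤ m) (hm : 2 * m < p)
    (h : ∀ x y, (f x - f y) ^ m = (x - y) ^ m) : ∃ a b : ZMod p, ∀ x, f x = a * x + b := by
  classical
  obtain ⟨s, -, hs⟩ := Finset.exists_subset_card_eq (s := (Finset.univ : Finset (ZMod p))) (n := m + 1)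
    (by rw [Finset.card_univ, ZMod.card]; omega)
  have key : ∀ k, k ≤ m → ∃ P : (ZMod p)[X], P.natDegree ≤ m ∧ ∀ x, P.eval x = f x ^ k := by
    intro k hk
    have hchoose : ((m.choose (m - k) : ℕ) : ZMod p) ≠ 0 := by
      rw [Ne, ZMod.natCast_eq_zero_iff, ← (Fact.out : p.Prime).coprime_iff_not_dvd]
      exact (Nat.Prime.coprime_iff_not_dvd Fact.out).mpr fun hd => by
        have h1 : p ∣ m.factorial :=
          hd.trans ⟨(m - k).factorial * (m - (m - k)).factorial, by
            rw [← mul_assoc]; exact (Nat.choose_mul_factorial_mul_factorial (Nat.sub_le _ _)).symm⟩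
        have := (Fact.out : p.Prime).dvd_factorial.mp h1
        omega
    let c : ZMod p → ZMod p := fun y => (Lagrange.basis s f y).coeff (m - k)
    let Q : (ZMod p)[X] := ∑ y ∈ s, C (c y) * (C y - X) ^ m
    refine ⟨C (((m.choose (m - k) : ℕ) : ZMod p)⁻¹ * (-1) ^ k) * Q, ?_, fun x => ?_⟩
    · refine (natDegree_C_mul_le _ _).trans (natDegree_sum_le_of_forall_le _ _ fun y _ => ?_)
      refine (natDegree_C_mul_le _ _).trans (natDegree_pow_le.trans ?_)
      have : (C y - X : (ZMod p)[X]).natDegree ≤ 1 := by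
        refine (natDegree_sub_le _ _).trans ?_
        simp
      calc m * (C y - X : (ZMod p)[X]).natDegree ≤ m * 1 := Nat.mul_le_mul_left m this
        _ = m := mul_one m
    · have hint : (X + C (-f x)) ^ m = Lagrange.interpolate s f (fun y => (y - x) ^ m) := by
        apply Lagrange.eq_interpolate_of_eval_eq _ hf.injOn
        · rw [hs, degree_pow, degree_X_add_C]
          simp only [nsmul_eq_mul, mul_one]
          exact_mod_cast Nat.lt_succ_self m
        · intro y _
          simp only [eval_pow, eval_add, eval_X, eval_C]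
          rw [← sub_eq_add_neg, h]
      have hco := congrArg (fun P : (ZMod p)[X] => P.coeff (m - k)) hint
      simp only [coeff_X_add_C_pow, Lagrange.interpolate_apply, finsetSum_coeff, coeff_C_mul] at hco
      rw [Nat.sub_sub_self hk] at hco
      simp only [Q, eval_mul, eval_C, eval_finsetSum, eval_pow, eval_sub, eval_X]
      have hsum : ∑ y ∈ s, c y * (y - x) ^ m = (-f x) ^ k * (m.choose (m - k) : ZMod p) := by
        rw [hco]; exact Finset.sum_congr rfl fun y _ => mul_comm _ _
      rw [hsum, neg_pow (f x)]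
      field_simp
      rw [← pow_mul, pow_mul', neg_one_sq, one_pow]
      ring
  choose P hPd hPe using key
  let n := (P 1 hm1).natDegree
  have hP : ∀ k (hk : k ≤ m), P k hk = P 1 hm1 ^ k := by
    intro k
    induction k with
    | zero =>
      intro hk
      refine sub_eq_zero.mp (eq_zero_of_natDegree_lt_card_of_eval_eq_zero' _ Finset.univ (fun x _ => by simp [hPe]) ?_)
      rw [Finset.card_univ, ZMod.card]
      refine (natDegree_sub_le _ _).trans_lt ?_
      have := hPd 0 hk
      simp; omega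
    | succ k ih =>
      intro hk
      rw [pow_succ, ← ih (by omega)]
      refine sub_eq_zero.mp (eq_zero_of_natDegree_lt_card_of_eval_eq_zero' _ Finset.univ
        (fun x _ => by simp [hPe, pow_succ]) ?_)
      rw [Finset.card_univ, ZMod.card]
      refine (natDegree_sub_le _ _).trans_lt ?_
      have := hPd (k + 1) hk
      have := (natDegree_mul_le (p := P k (by omega)) (q := P 1 hm1)).trans (Nat.add_le_add (hPd k _) (hPd 1 _))
      omega
  have hn : (P 1 hm1).natDegree ≤ 1 := by
    have := hPd m le_rfl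
    rw [hP m le_rfl, natDegree_pow] at this
    by_contra hc
    nlinarith
  obtain ⟨a, b, hab⟩ := exists_eq_X_add_C_of_natDegree_le_one hn
  exact ⟨a, b, fun x => by
    have := hPe 1 hm1 x
    rw [hab, pow_one] at this
    simpa using this.symm⟩

/-- Closures of subgroups of the one-dimensional affine group. Let p be a prime and G a group of permutations of F_p lying in the affine group AGL₁(p) = {x ↦ ax + b, a ≠ 0} and containing all translations. (1) If G is a proper subgroup of AGL₁(p), then G is 2-closed: a permutation of F_p agreeing on every ordered pair of points with some element of G lies in G. (2) Every permutation of F_p agrees on every ordered pair with some element of AGL₁(p) (the 2-closure of AGL₁(p) is the symmetric group). (3) AGL₁(p) is 3-closed: a permutation agreeing on every ordered triple with some affine map is affine. -/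
theorem result (p : ℕ) [Fact p.Prime] (G : Subgroup (Equiv.Perm (ZMod p))) (hG : G ≤ Cfsg.affineGroup (ZMod p))
    (htrans : ∀ b : ZMod p, ∃ g ∈ G, ∀ x, g x = x + b) :
    (G ≠ Cfsg.affineGroup (ZMod p) → ∀ σ : Equiv.Perm (ZMod p), (∀ t : Fin 2 → ZMod p, ∃ g ∈ G, ∀ i, σ (t i) = g (t i)) → σ ∈ G) ∧
    (∀ σ : Equiv.Perm (ZMod p), (∀ t : Fin 2 → ZMod p, ∃ g ∈ Cfsg.affineGroup (ZMod p), ∀ i, σ (t i) = g (t i))) ∧
    (∀ σ : Equiv.Perm (ZMod p), (∀ t : Fin 3 → ZMod p, ∃ g ∈ Cfsg.affineGroup (ZMod p), ∀ i, σ (t i) = g (t i)) → σ ∈ Cfsg.affineGroup (ZMod p)) := by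
  classical
  have hp : p.Prime := Fact.out
  refine ⟨?_, ?_, ?_⟩
  · intro hne σ hσ
    let D : Subgroup (ZMod p)ˣ :=
      { carrier := {a | ∃ g ∈ G, ∃ b, ∀ x, g x = (a : ZMod p) * x + b}
        one_mem' := ⟨1, G.one_mem, 0, fun x => by simp⟩
        mul_mem' := by
          rintro a c ⟨g, hg, b, hb⟩ ⟨h, hh, e, he⟩
          exact ⟨g * h, G.mul_mem hg hh, (a : ZMod p) * e + b, fun x => by
            rw [Equiv.Perm.mul_apply, he, hb, Units.val_mul]; ring⟩
        inv_mem' := by
          rintro a ⟨g, hg, b, hb⟩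
          refine ⟨g⁻¹, G.inv_mem hg, -((a⁻¹ : (ZMod p)ˣ) : ZMod p) * b, fun x => ?_⟩
          rw [Equiv.Perm.inv_eq_iff_eq, hb, mul_add, ← mul_assoc, ← mul_assoc, mul_neg,
            a.mul_inv]
          ring }
    have hD : D ≠ ⊤ := by
      intro hD
      apply hne
      refine le_antisymm hG ?_
      rintro τ ⟨a, b, hτ⟩
      obtain ⟨g, hg, b', hb'⟩ : a ∈ D := hD ▸ Subgroup.mem_top a
      obtain ⟨h, hh, hh'⟩ := htrans (b - b')
      have : τ = h * g := Equiv.ext fun x => by rw [Equiv.Perm.mul_apply, hh', hb', hτ]; ring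
      rw [this]; exact G.mul_mem hh hg
    set m := Nat.card D with hm
    have hunits : Nat.card (ZMod p)ˣ = p - 1 := by
      rw [Nat.card_eq_fintype_card, ZMod.card_units]
    have h2m : 2 * m < p := by
      have h1 := D.card_mul_index
      have h2 : D.index ≠ 1 := by rwa [Ne, Subgroup.index_eq_one]
      have h3 : D.index ≠ 0 := Subgroup.FiniteIndex.index_ne_zero
      have h4 : 2 * m ≤ m * D.index := by rw [mul_comm]; exact Nat.mul_le_mul_left m (by omega)
      rw [h1, hunits] at h4
      have := hp.two_le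
      omega
    have hpow : ∀ x y, (σ x - σ y) ^ m = (x - y) ^ m := by
      intro x y
      obtain ⟨g, hg, hgt⟩ := hσ ![x, y]
      have e0 : σ x = g x := hgt 0
      have e1 : σ y = g y := hgt 1
      obtain ⟨a, b, hab⟩ := hG hg
      have ha : a ∈ D := ⟨g, hg, b, hab⟩
      have ham : (a : ZMod p) ^ m = 1 := by
        have := pow_card_eq_one' (G := D) (x := ⟨a, ha⟩)
        have h' : a ^ m = 1 := congrArg Subtype.val this
        rw [← Units.val_pow_eq_pow_val, h', Units.val_one]
      rw [e0, e1, hab, hab, show (a : ZMod p) * x + b - ((a : ZMod p) * y + b) = (a : ZMod p) * (x - y) by ring,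
        mul_pow, ham, one_mul]
    obtain ⟨a, b, hab⟩ := affine_of_pow_sub_eq σ σ.injective m Nat.card_pos h2m hpow
    obtain ⟨g, hg, hgt⟩ := hσ ![0, 1]
    obtain ⟨a', b', hab'⟩ := hG hg
    have e0 : σ 0 = g 0 := hgt 0
    have e1 : σ 1 = g 1 := hgt 1
    rw [hab, hab'] at e0 e1
    simp only [mul_zero, zero_add, mul_one] at e0 e1
    have : σ = g := Equiv.ext fun x => by
      rw [hab, hab', e0]
      rw [e0, add_left_inj] at e1
      rw [e1]
    rw [this]; exact hg
  · intro σ t
    by_cases h : t 0 = t 1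
    · exact ⟨Equiv.addRight (σ (t 0) - t 0), ⟨1, σ (t 0) - t 0, fun x => by simp⟩, fun i => by
        fin_cases i
        · simp
        · simp [← h]⟩
    · have h1 : t 1 - t 0 ≠ 0 := sub_ne_zero.mpr (Ne.symm h)
      have h2 : σ (t 1) - σ (t 0) ≠ 0 := sub_ne_zero.mpr (fun e => h (σ.injective e).symm)
      let a : (ZMod p)ˣ := Units.mk0 _ (div_ne_zero h2 h1)
      refine ⟨(Units.mulLeft a).trans (Equiv.addRight (σ (t 0) - (a : ZMod p) * t 0)),
        ⟨a, σ (t 0) - (a : ZMod p) * t 0, fun x => by simp⟩, fun i => ?_⟩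
      have ha : (a : ZMod p) * (t 1 - t 0) = σ (t 1) - σ (t 0) := div_mul_cancel₀ _ h1
      fin_cases i
      · simp
      · simp only [Fin.mk_one, Fin.isValue, Equiv.trans_apply, Units.mulLeft_apply, Equiv.coe_addRight]
        linear_combination -ha
  · intro σ hσ
    have h1 : σ 1 - σ 0 ≠ 0 := sub_ne_zero.mpr (fun e => one_ne_zero (σ.injective e))
    refine ⟨Units.mk0 _ h1, σ 0, fun x => ?_⟩
    obtain ⟨g, ⟨a, b, hab⟩, hg⟩ := hσ ![0, 1, x]
    have e0 : σ 0 = g 0 := hg 0
    have e1 : σ 1 = g 1 := hg 1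
    have e2 : σ x = g x := hg 2
    rw [Units.val_mk0, e0, e1, e2, hab, hab, hab]
    ring

end Cfsg.Agent.S3518
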