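import Cfsg.Statements.S3524

set_option autoImplicit false
open Cfsg

namespace Cfsg.Agent.S3524

/-- A permutation group with a base is closed at one level above the base size. Let G be a group of permutations of a set Ω and suppose some k points α₁, …, α_k are fixed simultaneously only by the identity of G (a base of size k). Then G is (k+1)-closed: a permutation of Ω that agrees on every (k+1)-tuple of points with some element of G belongs to G. -/
theorem result {Ω : Type*} (G : Subgroup (Equiv.Perm Ω)) (k : ℕ) (α : Fin k → Ω)
    (hbase : ∀ g ∈ G, (∀ i, g (α i) = α i) → g = 1) (σ : Equiv.Perm Ω)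
    (hσ : ∀ t : Fin (k + 1) → Ω, ∃ g ∈ G, ∀ i, σ (t i) = g (t i)) : σ ∈ G := by
  choose g hgG hg using fun x : Ω => hσ (Fin.snoc α x)
  have hlast : ∀ x, σ x = g x x := by
    intro x; simpa using hg x (Fin.last k)
  have hcast : ∀ x i, σ (α i) = g x (α i) := by
    intro x i; simpa using hg x i.castSucc
  have heq : ∀ x y, g x = g y := by
    intro x y
    have := hbase ((g x)⁻¹ * g y) (G.mul_mem (G.inv_mem (hgG x)) (hgG y)) (fun i => by
      rw [Equiv.Perm.mul_apply, ← hcast y i, hcast x i]
      simp)
    exact inv_mul_eq_one.mp this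
  rcases isEmpty_or_nonempty Ω with h | ⟨⟨x₀⟩⟩
  · have : σ = 1 := Equiv.ext fun x => (h.false x).elim
    rw [this]; exact G.one_mem
  · have : σ = g x₀ := Equiv.ext fun x => by rw [hlast x, heq x x₀]
    rw [this]; exact hgG x₀

end Cfsg.Agent.S3524
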