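import Cfsg.Statements.S3532
import Cfsg.Agent.Lib.LocalEven.Spectrum
import Mathlib.FieldTheory.Finite.GaloisField
import Mathlib.GroupTheory.SemidirectProduct

set_option autoImplicit false
open Cfsg

namespace Cfsg.Agent.S3532

open CfsgLib.LocalEven

variable (K : Type) [Field K]

/-- Multiplication by units, on the additive group. -/
def act (C : Subgroup Kˣ) : C →* MulAut (Multiplicative K) where
  toFun c := AddEquiv.toMultiplicative
    { toFun := fun v => ((c : Kˣ) : K) * v
      invFun := fun v => (((c : Kˣ)⁻¹ : Kˣ) : K) * v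
      left_inv := fun v => Units.inv_mul_cancel_left (c : Kˣ) v
      right_inv := fun v => Units.mul_inv_cancel_left (c : Kˣ) v
      map_add' := fun a b => mul_add _ a b }
  map_one' := MulEquiv.ext fun v => Multiplicative.toAdd.injective (one_mul (Multiplicative.toAdd v))
  map_mul' a b := MulEquiv.ext fun v => Multiplicative.toAdd.injective
    (mul_assoc ((a : Kˣ) : K) ((b : Kˣ) : K) (Multiplicative.toAdd v))

/-- The affine group of `K` with multipliers in `C`. -/
abbrev Aff (C : Subgroup Kˣ) : Type := SemidirectProduct (Multiplicative K) C (act K C)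

instance [Finite K] (C : Subgroup Kˣ) : Finite (Aff K C) := Finite.of_equiv _ SemidirectProduct.equivProd.symm

theorem aff_solvable (C : Subgroup Kˣ) : Group.IsSolvable (Aff K C) :=
  Group.isSolvable_of_ker_le_range SemidirectProduct.inl SemidirectProduct.rightHom
    (le_of_eq SemidirectProduct.range_inl_eq_ker_rightHom.symm)

theorem pow_shape (C : Subgroup Kˣ) (g : Aff K C) (k : ℕ) : (g ^ k).right = g.right ^ k ∧
    ((g ^ k).left.toAdd : K) = (∑ j ∈ Finset.range k, ((g.right : Kˣ) : K) ^ j) * g.left.toAdd := by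
  induction k with
  | zero => exact ⟨by rw [pow_zero, pow_zero]; rfl, by rw [pow_zero]; simp⟩
  | succ k ih =>
    refine ⟨by rw [pow_succ, SemidirectProduct.mul_right, ih.1, pow_succ], ?_⟩
    rw [pow_succ, SemidirectProduct.mul_left, toAdd_mul, ih.2, ih.1, Finset.sum_range_succ, add_mul]
    congr 1


theorem aff_range [Finite K] (p : ℕ) [Fact p.Prime] [CharP K p] (ζ : Kˣ) :
    Set.range (orderOf : Aff K (Subgroup.zpowers ζ) → ℕ) = {d | ∃ n ∈ ({orderOf ζ, p} : Set ℕ), d ∣ n} := by
  refine Spectrum.range_of_bound (fun g => ?_) ?_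
  · by_cases hg : g.right = 1
    · refine ⟨p, by simp, orderOf_dvd_of_pow_eq_one ?_⟩
      obtain ⟨e1, e2⟩ := pow_shape K _ g p
      refine SemidirectProduct.ext (Multiplicative.toAdd.injective ?_) (by rw [e1, hg, one_pow]; rfl)
      rw [e2, hg]
      simp
    · refine ⟨orderOf ζ, by simp, orderOf_dvd_of_pow_eq_one ?_⟩
      obtain ⟨e1, e2⟩ := pow_shape K _ g (orderOf ζ)
      have hz : ((g.right : Kˣ)) ^ orderOf ζ = 1 := by
        obtain ⟨i, hi⟩ := Subgroup.mem_zpowers_iff.1 g.right.2
        rw [← hi, ← zpow_natCast, ← zpow_mul, mul_comm, zpow_mul, zpow_natCast, pow_orderOf_eq_one, one_zpow]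
      refine SemidirectProduct.ext (Multiplicative.toAdd.injective ?_) (by rw [e1]; exact Subtype.ext hz)
      rw [e2, geom_sum_eq (fun h => hg (Subtype.ext (Units.ext h))), ← Units.val_pow_eq_pow_val, hz]
      simp
  · rintro n (rfl | rfl)
    · refine ⟨SemidirectProduct.inr ⟨ζ, Subgroup.mem_zpowers ζ⟩, ?_⟩
      rw [orderOf_injective _ SemidirectProduct.inr_injective, ← Subgroup.orderOf_coe]
    · refine ⟨SemidirectProduct.inl (Multiplicative.ofAdd (1 : K)), orderOf_eq_prime ?_ ?_⟩
      · rw [← map_pow, ← ofAdd_nsmul, nsmul_one, CharP.cast_eq_zero, ofAdd_zero, map_one]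
      · intro h
        exact one_ne_zero (congrArg (fun g : Aff K (Subgroup.zpowers ζ) => g.left.toAdd) h : (1 : K) = 0)

/-- Let q ≥ 4 be a prime power and L = PSL(2,q). There is a finite solvable group with the same set of element orders as L × L (so L × L is not determined by its spectrum). -/
theorem result {F : Type*} [Field F] [Fintype F] (hF : 4 ≤ Fintype.card F) :
    ∃ (H : Type) (_ : Group H) (_ : Finite H), Group.IsSolvable H ∧
      Set.range (orderOf : H → ℕ) = Set.range (orderOf : Matrix.ProjectiveSpecialLinearGroup (Fin 2) F × Matrix.ProjectiveSpecialLinearGroup (Fin 2) F → ℕ) := by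
  obtain ⟨p, hpF⟩ := CharP.exists F
  obtain ⟨k, hp, hq⟩ := FiniteField.card F p
  haveI : Fact p.Prime := ⟨hp⟩
  set q := Fintype.card F
  set d := Nat.gcd 2 (q - 1)
  set A := (q - 1) / d
  set B := (q + 1) / d
  have hd : d = 1 ∨ d = 2 := (Nat.dvd_prime Nat.prime_two).1 (Nat.gcd_dvd_left _ _)
  have hA0 : A ≠ 0 := by
    rcases hd with h | h <;> simp only [A, h] <;> omega
  have hB0 : B ≠ 0 := by
    rcases hd with h | h <;> simp only [B, h] <;> omega
  have hL : Set.range (orderOf : Matrix.ProjectiveSpecialLinearGroup (Fin 2) F → ℕ) =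
      {m | ∃ n ∈ ({p, A, B} : Set ℕ), m ∣ n} :=
    Spectrum.range_of_bound (fun x => by
      rcases Spectrum.psl_orderOf_dvd p x with h | h | h
      exacts [⟨p, by simp, h⟩, ⟨A, by simp [A, d, q], h⟩, ⟨B, by simp [B, d, q], h⟩]) (Spectrum.psl_exists p)
  have hL0 : (0 : ℕ) ∉ ({p, A, B} : Set ℕ) := by
    simp only [Set.mem_insert_iff, Set.mem_singleton_iff, not_or]
    exact ⟨hp.ne_zero.symm, hA0.symm, hB0.symm⟩
  -- the field of order `q ^ 2`
  let K := GaloisField p (2 * (k : ℕ))
  haveI : Fintype K := Fintype.ofFinite K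
  have hK : Nat.card Kˣ = q ^ 2 - 1 := by
    rw [Nat.card_units, GaloisField.card p _ (by have := k.pos; omega), hq, ← pow_mul, mul_comm]
  obtain ⟨z, hz⟩ := IsCyclic.exists_ofOrder_eq_natCard (α := Kˣ)
  have hroot : ∀ n, n ∣ q ^ 2 - 1 → ∃ ζ : Kˣ, orderOf ζ = n := fun n hn =>
    ⟨z ^ (orderOf z / n), orderOf_pow_orderOf_div (orderOf_pos z).ne' (by rwa [hz, hK])⟩
  have hsq : q ^ 2 - 1 = (q + 1) * (q - 1) := by rw [← Nat.sq_sub_sq, one_pow]
  have hdB : d ∣ q + 1 := by
    rw [show q + 1 = (q - 1) + 2 by omega]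
    exact Nat.dvd_add (Nat.gcd_dvd_right _ _) (Nat.gcd_dvd_left _ _)
  obtain ⟨a, ha⟩ := hroot A (hsq ▸ (Nat.div_dvd_of_dvd (Nat.gcd_dvd_right _ _)).trans (dvd_mul_left _ _))
  obtain ⟨b, hb⟩ := hroot B (hsq ▸ (Nat.div_dvd_of_dvd hdB).trans (dvd_mul_right _ _))
  refine ⟨Aff K (Subgroup.zpowers a) × Aff K (Subgroup.zpowers b), inferInstance, inferInstance, ?_, ?_⟩
  · haveI := aff_solvable K (Subgroup.zpowers a)
    haveI := aff_solvable K (Subgroup.zpowers b)
    exact inferInstance
  have hFA := aff_range K p a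
  have hFB := aff_range K p b
  rw [ha] at hFA
  rw [hb] at hFB
  rw [Spectrum.range_prod hFA hFB (by simp [hA0.symm, hp.ne_zero.symm]) (by simp [hB0.symm, hp.ne_zero.symm]),
    Spectrum.range_prod hL hL hL0 hL0]
  ext m
  simp only [Set.mem_ofPred_eq, Set.mem_insert_iff, Set.mem_singleton_iff, exists_eq_or_imp, exists_eq_left,
    Nat.lcm_self]
  constructor
  · rintro ((h | h) | (h | h))
    · exact Or.inr (Or.inl (Or.inr (Or.inr h)))
    · exact Or.inr (Or.inl (Or.inl h))
    · exact Or.inl (Or.inr (Or.inr h))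
    · exact Or.inl (Or.inl h)
  · rintro ((h | h | h) | (h | h | h) | (h | h | h))
    · exact Or.inr (Or.inr h)
    · exact Or.inl (Or.inr (by rwa [Nat.lcm_comm]))
    · exact Or.inr (Or.inl h)
    · exact Or.inl (Or.inr h)
    · exact Or.inl (Or.inl (h.trans (Nat.dvd_lcm_left A B)))
    · exact Or.inl (Or.inl h)
    · exact Or.inr (Or.inl (by rwa [Nat.lcm_comm]))
    · exact Or.inl (Or.inl (by rwa [Nat.lcm_comm]))
    · exact Or.inl (Or.inl (h.trans (Nat.dvd_lcm_right A B)))

end Cfsg.Agent.S3532
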