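import Cfsg.Statements.S3547
import Cfsg.Agent.Lib.Derangements.Basic

set_option linter.style.haveILetI false

set_option autoImplicit false
open Cfsg

namespace Cfsg.Agent.S3547

open CfsgLib.Derangements.Basic

/-- Let G act faithfully and transitively on a finite set Ω, let D be the subgroup generated by the derangements, and let r_G and r_D be the numbers of orbits of G and of D on ordered pairs of points (the permutation ranks). Then r_D − 1 = (r_G − 1)·[G : D]. -/
theorem result {G Ω : Type*} [Group G] [Finite G] [MulAction G Ω] [FaithfulSMul G Ω] [Finite Ω]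
    (htrans : MulAction.IsPretransitive G Ω) :
    Nat.card (MulAction.orbitRel.Quotient ↥(Subgroup.closure {g : G | ∀ ω : Ω, g • ω ≠ ω}) (Ω × Ω)) - 1 =
      (Nat.card (MulAction.orbitRel.Quotient G (Ω × Ω)) - 1) * (Subgroup.closure {g : G | ∀ ω : Ω, g • ω ≠ ω}).index := by
  haveI := htrans
  classical
  set D := Subgroup.closure {g : G | ∀ ω : Ω, g • ω ≠ ω} with hD
  haveI : D.Normal := derSubgroup_normal
  by_cases hne : Nonempty Ω
  swap
  · haveI : IsEmpty Ω := not_nonempty_iff.1 hne
    rw [Nat.card_of_isEmpty, Nat.card_of_isEmpty]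
    simp
  haveI : Fintype G := Fintype.ofFinite G
  haveI : Fintype Ω := Fintype.ofFinite Ω
  haveI : Fintype (MulAction.orbitRel.Quotient G (Ω × Ω)) := Fintype.ofFinite _
  haveI : Fintype (MulAction.orbitRel.Quotient D (Ω × Ω)) := Fintype.ofFinite _
  have hcard : ∀ g : G, Fintype.card (MulAction.fixedBy (Ω × Ω) g) =
      Nat.card (MulAction.fixedBy Ω g) ^ 2 := by
    intro g
    rw [← Nat.card_eq_fintype_card, sq, ← Nat.card_prod]
    refine Nat.card_congr
      { toFun := fun x => (⟨x.1.1, congrArg Prod.fst x.2⟩, ⟨x.1.2, congrArg Prod.snd x.2⟩)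
        invFun := fun x => ⟨(x.1.1, x.2.1), Prod.ext x.1.2 x.2.2⟩
        left_inv := fun x => rfl
        right_inv := fun x => rfl }
  have hG := MulAction.sum_card_fixedBy_eq_card_orbits_mul_card_group G (Ω × Ω)
  have hD' := MulAction.sum_card_fixedBy_eq_card_orbits_mul_card_group D (Ω × Ω)
  have e1 : (∑ d : D, Fintype.card (MulAction.fixedBy (Ω × Ω) d)) =
      ∑ g ∈ (Finset.univ.filter (· ∈ D)), Nat.card (MulAction.fixedBy Ω g) ^ 2 := by
    rw [Finset.sum_subtype _ (p := (· ∈ D)) (by simp) (fun g => Nat.card (MulAction.fixedBy Ω g) ^ 2)]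
    refine Finset.sum_congr rfl fun d _ => ?_
    rw [← hcard (d : G)]
    exact Fintype.card_congr (Equiv.refl _)
  have e2 : ∀ g ∈ (Finset.univ.filter (fun x : G => ¬ x ∈ D)),
      Fintype.card (MulAction.fixedBy (Ω × Ω) g) = 1 := fun g hg => by
    rw [hcard, card_fixedBy_eq_one D le_rfl (Finset.mem_filter.1 hg).2, one_pow]
  rw [← Finset.sum_filter_add_sum_filter_not Finset.univ (· ∈ D),
    Finset.sum_congr rfl e2, Finset.sum_const, smul_eq_mul, mul_one,
    Finset.sum_congr rfl (fun g _ => hcard g), ← e1, hD'] at hG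
  have hsplit := Finset.card_filter_add_card_filter_not (s := (Finset.univ : Finset G)) (· ∈ D)
  have hDc : (Finset.univ.filter (· ∈ D)).card = Fintype.card D := by
    rw [Fintype.card_subtype]
  rw [Finset.card_univ, hDc] at hsplit
  have hind : D.index * Fintype.card D = Fintype.card G := by
    rw [← Nat.card_eq_fintype_card, ← Nat.card_eq_fintype_card, Subgroup.index_mul_card]
  simp only [Nat.card_eq_fintype_card]
  set rG := Fintype.card (MulAction.orbitRel.Quotient G (Ω × Ω))
  set rD := Fintype.card (MulAction.orbitRel.Quotient D (Ω × Ω))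
  set c := Fintype.card D
  have hc : 0 < c := Fintype.card_pos
  haveI : Nonempty (MulAction.orbitRel.Quotient G (Ω × Ω)) :=
    ⟨Quotient.mk'' (Classical.arbitrary Ω, Classical.arbitrary Ω)⟩
  have hrG : 1 ≤ rG := Fintype.card_pos
  have hidx : 1 ≤ D.index := Nat.one_le_iff_ne_zero.2 Subgroup.index_ne_zero_of_finite
  have key : rD + (D.index - 1) = rG * D.index := by
    apply Nat.eq_of_mul_eq_mul_right hc
    rw [add_mul, Nat.sub_mul, one_mul, mul_assoc, hind, ← hG]
    omega
  rw [Nat.sub_mul, one_mul]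
  have : D.index ≤ rG * D.index := Nat.le_mul_of_pos_left _ hrG
  omega

end Cfsg.Agent.S3547
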