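import Cfsg.Statements.S3548
import Cfsg.Agent.Lib.Derangements.Basic

set_option linter.style.haveILetI false

set_option autoImplicit false
open Cfsg

namespace Cfsg.Agent.S3548

open MulAction CfsgLib.Derangements.Basic

/-- Let G act faithfully and transitively on a finite set with n ≥ 2 points and let D be the subgroup generated by the derangements. Then the index of D in G divides n − 1, and if it equals n − 1 then n is a prime power. -/
theorem result {G Ω : Type*} [Group G] [Finite G] [MulAction G Ω] [FaithfulSMul G Ω] [Finite Ω]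
    (htrans : MulAction.IsPretransitive G Ω) (hΩ : 2 ≤ Nat.card Ω) :
    (Subgroup.closure {g : G | ∀ ω : Ω, g • ω ≠ ω}).index ∣ Nat.card Ω - 1 ∧
    ((Subgroup.closure {g : G | ∀ ω : Ω, g • ω ≠ ω}).index = Nat.card Ω - 1 → IsPrimePow (Nat.card Ω)) := by
  haveI := htrans
  classical
  haveI : Nontrivial Ω := Finite.one_lt_card_iff_nontrivial.1 hΩ
  refine ⟨index_derSubgroup_dvd_card_sub_one, fun heq => ?_⟩
  set D := derSubgroup G Ω
  haveI hDn : D.Normal := derSubgroup_normal
  have hDt : IsPretransitive D Ω := derSubgroup_transitive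
  -- every point stabilizer is transitive on the other points, with kernel in `D`
  have key : ∀ a b : Ω, a ≠ b → (∀ c, c ≠ a → ∃ g : G, g • a = a ∧ g • b = c) ∧
      (∀ g : G, g ∈ D → g • a = a → g • b = b) := by
    intro a b hab
    let H := stabilizer G a
    let b' : SubMulAction.ofStabilizer G a := ⟨b, Ne.symm hab⟩
    let S := stabilizer H b'
    have hle : S ≤ D.subgroupOf H := fun g hg =>
      mem_derSubgroup_of_fixed_two hab g.2 (congrArg Subtype.val hg)
    have hidx : (D.subgroupOf H).index = Nat.card Ω - 1 := by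
      rw [index_subgroupOf_stabilizer D hDt a]; exact heq
    have hcard : Nat.card (SubMulAction.ofStabilizer G a) = Nat.card Ω - 1 :=
      SubMulAction.nat_card_ofStabilizer_eq G a
    have horb : S.index = (MulAction.orbit H b').ncard := index_stabilizer H b'
    have hup : S.index ≤ Nat.card Ω - 1 := by
      rw [horb, ← hcard, ← Set.ncard_univ]
      exact Set.ncard_le_ncard (Set.subset_univ _) (Set.toFinite _)
    have hdvd := Subgroup.index_dvd_of_le hle
    have hpos : 0 < S.index := Nat.pos_of_ne_zero Subgroup.index_ne_zero_of_finite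
    have hSidx : S.index = Nat.card Ω - 1 :=
      le_antisymm hup (hidx ▸ Nat.le_of_dvd hpos hdvd)
    refine ⟨fun c hc => ?_, fun g hgD hga => ?_⟩
    · have huniv : MulAction.orbit H b' = Set.univ := by
        refine Set.eq_of_subset_of_ncard_le (Set.subset_univ _) ?_ (Set.toFinite _)
        rw [Set.ncard_univ, hcard, ← horb, hSidx]
      obtain ⟨g, hg⟩ : (⟨c, hc⟩ : SubMulAction.ofStabilizer G a) ∈ MulAction.orbit H b' := by
        rw [huniv]; trivial
      exact ⟨g, g.2, congrArg Subtype.val hg⟩
    · have hSeq : S = D.subgroupOf H :=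
        Subgroup.eq_of_le_of_card_ge hle (Nat.le_of_mul_le_mul_left (by
          conv_lhs => rw [Subgroup.index_mul_card]
          rw [show (D.subgroupOf H).index = S.index by rw [hSidx, hidx], Subgroup.index_mul_card])
          (Nat.pos_of_ne_zero (Subgroup.index_ne_zero_of_finite (H := D.subgroupOf H))))
      have : (⟨g, hga⟩ : H) ∈ S := hSeq.symm ▸ hgD
      exact congrArg Subtype.val this
  -- so `D` is regular and its nontrivial elements are conjugate
  have hreg : ∀ g ∈ D, ∀ a : Ω, g • a = a → g = 1 := by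
    intro g hg a ha
    refine eq_of_smul_eq_smul (α := Ω) fun c => ?_
    rw [one_smul]
    by_cases hc : c = a
    · rw [hc, ha]
    · exact (key a c (Ne.symm hc)).2 g hg ha
  have hcardD : Nat.card D = Nat.card Ω := by
    obtain ⟨a⟩ : Nonempty Ω := inferInstance
    refine Nat.card_eq_of_bijective (fun d : D => (d : G) • a) ⟨fun d d' h => ?_, fun x => ?_⟩
    · apply Subtype.ext
      have h1 : ((d' : G)⁻¹ * d) • a = a := by
        rw [mul_smul]; exact inv_smul_eq_iff.2 h
      exact (inv_mul_eq_one.1 (hreg _ (mul_mem (inv_mem d'.2) d.2) a h1)).symm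
    · exact hDt.exists_smul_eq a x
  have hord : ∀ d ∈ D, ∀ e ∈ D, d ≠ 1 → e ≠ 1 → orderOf d = orderOf e := by
    intro d hd e he hd1 he1
    obtain ⟨a⟩ : Nonempty Ω := inferInstance
    have hda : d • a ≠ a := fun h => hd1 (hreg d hd a h)
    have hea : e • a ≠ a := fun h => he1 (hreg e he a h)
    obtain ⟨g, hga, hgd⟩ := (key a (d • a) (Ne.symm hda)).1 (e • a) hea
    have hga' : g⁻¹ • a = a := inv_smul_eq_iff.2 hga.symm
    have h1 : e⁻¹ * (g * d * g⁻¹) = 1 := hreg _ (mul_mem (inv_mem he) (hDn.conj_mem d hd g)) a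
      (by rw [mul_smul, mul_smul, mul_smul, hga', hgd, inv_smul_smul])
    rw [inv_mul_eq_one.1 h1]
    exact (orderOf_injective (MulAut.conj g).toMonoidHom (MulEquiv.injective _) d).symm
  obtain ⟨p, hp, hpdvd⟩ := Nat.exists_prime_and_dvd (n := Nat.card D) (by rw [hcardD]; omega)
  haveI := Fact.mk hp
  obtain ⟨d, hd⟩ := exists_prime_orderOf_dvd_card' (G := D) p hpdvd
  have hd1 : (d : G) ≠ 1 := fun h => by
    rw [← Subgroup.orderOf_coe, h, orderOf_one] at hd
    exact hp.one_lt.ne hd
  have hP : IsPGroup p D := fun e => by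
    refine ⟨1, ?_⟩
    rw [pow_one]
    by_cases he : (e : G) = 1
    · rw [Subtype.ext (a1 := e) (a2 := 1) he, one_pow]
    · rw [← hd, ← Subgroup.orderOf_coe d, hord d d.2 e e.2 hd1 he, Subgroup.orderOf_coe,
        pow_orderOf_eq_one]
  obtain ⟨k, hk⟩ := IsPGroup.iff_card.1 hP
  rw [hcardD] at hk
  rw [hk]
  refine hp.isPrimePow.pow ?_
  rintro rfl
  rw [pow_zero] at hk
  omega

end Cfsg.Agent.S3548
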