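import Cfsg.Statements.S3549
import Cfsg.Agent.Lib.Derangements.Basic

set_option linter.style.haveILetI false

set_option autoImplicit false
open Cfsg

namespace Cfsg.Agent.S3549

open MulAction CfsgLib.Derangements.Basic
open scoped Pointwise

/-- Let G act faithfully, transitively but imprimitively on a finite set with n points, and let D be the subgroup generated by the derangements. Then the index of D in G is at most √n − 1. -/
theorem result {G Ω : Type*} [Group G] [Finite G] [MulAction G Ω] [FaithfulSMul G Ω] [Finite Ω]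
    (htrans : MulAction.IsPretransitive G Ω) (himp : ¬ MulAction.IsPreprimitive G Ω) :
    ((Subgroup.closure {g : G | ∀ ω : Ω, g • ω ≠ ω}).index : ℝ) ≤ Real.sqrt (Nat.card Ω) - 1 := by
  haveI := htrans
  classical
  rcases isEmpty_or_nonempty Ω with hΩ | hΩ
  · exact absurd ({ isTrivialBlock_of_isBlock := fun {B} _ => Or.inl Set.subsingleton_of_subsingleton } :
      MulAction.IsPreprimitive G Ω) himp
  obtain ⟨B, hB, hBnt⟩ : ∃ B : Set Ω, IsBlock G B ∧ ¬ IsTrivialBlock B := by
    by_contra h
    push Not at h
    exact himp { isTrivialBlock_of_isBlock := fun {B} hb => h B hb }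
  obtain ⟨a, haB⟩ : B.Nonempty := by
    rcases B.eq_empty_or_nonempty with h | h
    · exact absurd (Or.inl (h ▸ Set.subsingleton_empty)) hBnt
    · exact h
  set m := (derSubgroup G Ω).index
  set x := B.ncard with hx
  set c := Nat.card (MulAction.orbit G B) with hc
  have hxc : x * c = Nat.card Ω := hB.ncard_block_mul_ncard_orbit_eq ⟨a, haB⟩
  have hx2 : 2 ≤ x := by
    by_contra h
    exact hBnt (Or.inl (Set.ncard_le_one_iff_subsingleton.1 (by omega)))
  have hc2 : 2 ≤ c := by
    by_contra h
    apply hBnt
    refine Or.inr ?_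
    have : Nonempty (MulAction.orbit G B) := ⟨⟨B, mem_orbit_self B⟩⟩
    have hpos : 0 < c := Nat.card_pos
    refine Set.eq_of_subset_of_ncard_le (Set.subset_univ _) ?_ (Set.toFinite _)
    rw [Set.ncard_univ, ← hxc, show c = 1 by omega, mul_one]
  let H := stabilizer G a
  have hHB : ∀ g : H, (g : G) • B = B := fun g => by
    apply isBlock_iff_smul_eq_of_nonempty.1 hB
    exact ⟨a, ⟨a, haB, g.2⟩, haB⟩
  -- the points of `B` other than `a`
  let X₁ : SubMulAction H Ω :=
    { carrier := B \ {a}
      smul_mem' := fun g y hy => ⟨by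
          rw [← hHB g]; exact Set.smul_mem_smul_set hy.1, fun h => hy.2 (by
          have h' : (g : G) • y = (g : G) • a := (Set.mem_singleton_iff.1 h).trans g.2.symm
          exact smul_left_cancel _ h')⟩ }
  have h1 : m ∣ x - 1 := by
    have h := index_derSubgroup_dvd (G := G) a (X := X₁) fun y g hg =>
      mem_derSubgroup_of_fixed_two (fun h => y.2.2 h.symm) g.2 (congrArg Subtype.val hg)
    have hcard : Nat.card X₁ = x - 1 := by
      rw [hx, ← Set.ncard_diff_singleton_of_mem haB]
      exact Nat.card_coe_set_eq (B \ {a})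
    rwa [hcard] at h
  -- the other blocks
  let X₂ : SubMulAction H (Set Ω) :=
    { carrier := MulAction.orbit G B \ {B}
      smul_mem' := fun g C hC => ⟨by
          obtain ⟨k, hk⟩ := hC.1
          exact ⟨(g : G) * k, by rw [← hk]; exact mul_smul (g : G) k B⟩, fun h => hC.2 (by
          have h' : (g : G) • C = (g : G) • B := (Set.mem_singleton_iff.1 h).trans (hHB g).symm
          exact smul_left_cancel _ h')⟩ }
  haveI : Finite (MulAction.orbit G B) := Set.Finite.to_subtype (Set.toFinite _)
  have h2 : m ∣ c - 1 := by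
    have h := index_derSubgroup_dvd (G := G) a (X := X₂) fun C g hg => by
      by_contra hgD
      obtain ⟨⟨k, hk⟩, hCB⟩ := C.2
      have hgC : (g : G) • (C : Set Ω) = C := congrArg Subtype.val hg
      have hkblock : IsBlock G (k • B) := hB.translate k
      have hk' : k • B = (C : Set Ω) := hk
      -- act by the stabilizer of the block `C`
      let L := stabilizer G (C : Set Ω)
      let Y : SubMulAction L Ω :=
        { carrier := (C : Set Ω)
          smul_mem' := fun l y hy => by
            have := Set.smul_mem_smul_set (a := (l : G)) hy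
            rwa [mem_stabilizer_iff.1 l.2] at this }
      haveI : Nonempty Y := ⟨⟨k • a, by change k • a ∈ (C : Set Ω); rw [← hk']; exact Set.smul_mem_smul_set haB⟩⟩
      haveI : ((derSubgroup G Ω).subgroupOf L).Normal := derSubgroup_normal.subgroupOf L
      haveI : Fintype ((derSubgroup G Ω).subgroupOf L) := Fintype.ofFinite _
      have htr : IsPretransitive ((derSubgroup G Ω).subgroupOf L) Y := by
        refine ⟨fun y z => ?_⟩
        obtain ⟨d, hd⟩ := (derSubgroup_transitive (G := G) (Ω := Ω)).exists_smul_eq (y : Ω) z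
        have hdL : (d : G) ∈ L := by
          rw [mem_stabilizer_iff, ← hk']
          apply isBlock_iff_smul_eq_of_nonempty.1 hkblock
          refine ⟨(z : Ω), ?_, ?_⟩
          · rw [hk']; exact ⟨y, y.2, hd⟩
          · rw [hk']; exact z.2
        exact ⟨⟨⟨d, hdL⟩, d.2⟩, Subtype.ext hd⟩
      have hgL : (g : G) ∈ L := hgC
      have hsum := sum_fixed_coset _ htr ⟨(g : G), hgL⟩
      rw [Nat.card_eq_fintype_card (α := (derSubgroup G Ω).subgroupOf L), ← Finset.card_univ,
        Finset.card_eq_sum_ones] at hsum
      haveI := derSubgroup_normal (G := G) (Ω := Ω)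
      have hle : ∀ d ∈ (Finset.univ : Finset ((derSubgroup G Ω).subgroupOf L)),
          Nat.card (fixedBy Y ((⟨(g : G), hgL⟩ : L) * d)) ≤ 1 := by
        intro d _
        have hnm : (g : G) * (d : L) ∉ derSubgroup G Ω := fun h =>
          hgD ((Subgroup.mul_mem_cancel_right (derSubgroup G Ω) (x := ((d : L) : G)) d.2).1 h)
        rw [← card_fixedBy_eq_one (derSubgroup G Ω) le_rfl hnm]
        exact Nat.card_le_card_of_injective
          (fun y => (⟨(y.1 : Ω), congrArg Subtype.val y.2⟩ : fixedBy Ω ((g : G) * (d : L))))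
          (fun y y' h => Subtype.ext (Subtype.ext (congrArg Subtype.val h :)))
      have hone := (Finset.sum_eq_sum_iff_of_le hle).1 hsum 1 (Finset.mem_univ _)
      obtain ⟨⟨y, hy⟩⟩ := (Nat.card_eq_one_iff_unique.1 hone).2
      have hy' : (g : G) • (y : Ω) = y := by simpa using congrArg Subtype.val hy
      refine hgD (mem_derSubgroup_of_fixed_two (fun h => hCB ?_) g.2 hy')
      rw [← hk', isBlock_iff_smul_eq_of_nonempty.1 hB (g := k) ⟨a, ?_, haB⟩]
      · rfl
      · rw [hk', h]; exact y.2
    have hcard : Nat.card X₂ = c - 1 := by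
      rw [hc, Nat.card_coe_set_eq, ← Set.ncard_diff_singleton_of_mem (mem_orbit_self B)]
      exact Nat.card_coe_set_eq (MulAction.orbit G B \ {B})
    rwa [hcard] at h
  have hm1 : m + 1 ≤ x := by have := Nat.le_of_dvd (by omega) h1; omega
  have hm2 : m + 1 ≤ c := by have := Nat.le_of_dvd (by omega) h2; omega
  have hsq : ((m : ℝ) + 1) ^ 2 ≤ (Nat.card Ω : ℝ) := by
    rw [← hxc, sq]
    exact_mod_cast Nat.mul_le_mul hm1 hm2
  have := Real.le_sqrt_of_sq_le hsq
  change (m : ℝ) ≤ _
  linarith

end Cfsg.Agent.S3549
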