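import Cfsg.Statements.S3554
import Cfsg.Agent.Lib.Derangements.Basic

set_option linter.style.haveILetI false

set_option autoImplicit false
open Cfsg

namespace Cfsg.Agent.S3554

/-- Let G act faithfully and transitively on a finite set and suppose G has a non-trivial cyclic normal subgroup. Then some element of G of prime order fixes no point. -/
theorem result {G Ω : Type*} [Group G] [Finite G] [MulAction G Ω] [FaithfulSMul G Ω] [Finite Ω]
    (htrans : MulAction.IsPretransitive G Ω) (C : Subgroup G) (hC : C.Normal) (hC1 : C ≠ ⊥) (hcyc : IsCyclic ↥C) :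
    ∃ g : G, (orderOf g).Prime ∧ ∀ ω : Ω, g • ω ≠ ω := by
  haveI := htrans
  haveI := hC
  haveI := hcyc
  obtain ⟨p, hp, hdvd⟩ := Nat.exists_prime_and_dvd
    (n := Nat.card C) (fun h => hC1 ((Subgroup.card_eq_one).1 h))
  haveI := Fact.mk hp
  obtain ⟨x, hx⟩ := exists_prime_orderOf_dvd_card' (G := C) p hdvd
  have hxG : orderOf (x : G) = p := by rw [← hx]; exact Subgroup.orderOf_coe x
  refine ⟨x, hxG ▸ hp, fun ω hω => ?_⟩
  have hn : (Subgroup.zpowers (x : G)).Normal := by
    have hmap : Subgroup.zpowers (x : G) = (Subgroup.zpowers x).map C.subtype :=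
      (MonoidHom.map_zpowers C.subtype x).symm
    rw [hmap]
    haveI : (Subgroup.zpowers x).Characteristic := by
      rw [Subgroup.characteristic_iff_map_le]
      intro φ
      obtain ⟨m, hm⟩ := MonoidHom.map_cyclic φ.toMonoidHom
      rw [MonoidHom.map_zpowers, Subgroup.zpowers_le, hm x]
      exact Subgroup.zpow_mem_zpowers x m
    infer_instance
  have h1 : (x : G) = 1 := by
    refine eq_of_smul_eq_smul (α := Ω) fun y => ?_
    obtain ⟨g, rfl⟩ := MulAction.exists_smul_eq G ω y
    rw [one_smul]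
    obtain ⟨k, hk⟩ := Subgroup.mem_zpowers_iff.1 (hn.conj_mem _ (Subgroup.mem_zpowers (x : G)) g⁻¹)
    have h2 : (g⁻¹ * (x : G) * g) • ω = ω := by
      rw [show g⁻¹ * (x : G) * g = g⁻¹ * (x : G) * g⁻¹⁻¹ by rw [inv_inv], ← hk]
      exact MulAction.mem_stabilizer_iff.1 (zpow_mem (MulAction.mem_stabilizer_iff.2 hω) k)
    rwa [mul_smul, mul_smul, inv_smul_eq_iff] at h2
  rw [h1, orderOf_one] at hxG
  exact hp.one_lt.ne hxG

end Cfsg.Agent.S3554
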