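import Cfsg.Statements.S3555
-- import your own Cfsg.Agent.* helpers here

set_option autoImplicit false
open Cfsg

namespace Cfsg.Agent.S3555

open scoped Pointwise

open Finset

variable {G : Type*} [Group G]

/-- Some conjugate of `H` contains `g`. -/
def Cov (H : Subgroup G) (g : G) : Prop := ∃ x : G, x⁻¹ * g * x ∈ H

/-- Elements in no conjugate of `H` square to one. -/
def Hyp (H : Subgroup G) : Prop := ∀ g, ¬ Cov H g → g ^ 2 = 1

theorem cov_pow {H : Subgroup G} {g : G} (h : Cov H g) (k : ℕ) : Cov H (g ^ k) := by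
  obtain ⟨x, hx⟩ := h
  refine ⟨x, ?_⟩
  have : x⁻¹ * g ^ k * x = (x⁻¹ * g * x) ^ k := by
    induction k with
    | zero => simp
    | succ k ih => rw [pow_succ, pow_succ, ← ih]; group
  rw [this]; exact pow_mem hx k

theorem cov_conj {H : Subgroup G} {g : G} (h : Cov H g) (y : G) : Cov H (y * g * y⁻¹) := by
  obtain ⟨x, hx⟩ := h
  exact ⟨y * x, by simpa [mul_assoc] using hx⟩

theorem cov_one (H : Subgroup G) : Cov H 1 := ⟨1, by simp⟩

theorem closure_normal {X : Set G} (hX : ∀ a ∈ X, ∀ y : G, y * a * y⁻¹ ∈ X) : (Subgroup.closure X).Normal := by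
  refine ⟨fun a ha y => ?_⟩
  induction ha using Subgroup.closure_induction with
  | mem b hb => exact Subgroup.subset_closure (hX b hb y)
  | one => simp
  | mul b c _ _ hb hc => rw [conj_mul.symm]; exact mul_mem hb hc
  | inv b _ hb => rw [← conj_inv]; exact inv_mem hb

theorem orderOf_eq_two {H : Subgroup G} (hyp : Hyp H) {g : G} (h : ¬ Cov H g) : orderOf g = 2 :=
  orderOf_eq_prime (hyp g h) fun h1 => h (h1 ▸ cov_one H)

/-- A subgroup of index two containing `H` forces `H` to be trivial. -/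
theorem eq_bot_of_index_two {H M : Subgroup G} (hyp : Hyp H) (hcore : H.normalCore = ⊥)
    (hM : M.index = 2) (hle : H ≤ M) : H = ⊥ := by
  haveI hn : M.Normal := Subgroup.normal_of_index_eq_two hM
  obtain ⟨t, ht⟩ : ∃ t, t ∉ M := by
    by_contra h
    push Not at h
    rw [(Subgroup.eq_top_iff' M).2 h, Subgroup.index_top] at hM
    omega
  have hsq : ∀ g, g ∉ M → g ^ 2 = 1 := fun g hg => hyp g fun ⟨x, hx⟩ => hg (by
    simpa [mul_assoc] using hn.conj_mem _ (hle hx) x)
  have hinv : ∀ u, u ∉ M → ∀ m ∈ M, u * m * u⁻¹ = m⁻¹ := by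
    intro u hu m hm
    have h1 := hsq (u * m) (fun h => hu (by simpa using mul_mem h (inv_mem hm)))
    have h2 : u⁻¹ = u := inv_eq_of_mul_eq_one_right (by rw [← pow_two]; exact hsq u hu)
    rw [h2]
    exact eq_inv_of_mul_eq_one_left (by rw [pow_two] at h1; rw [← h1]; group)
  have hcomm : ∀ a ∈ M, ∀ b ∈ M, a * b = b * a := by
    intro a ha b hb
    have h1 := hinv t ht (a * b) (mul_mem ha hb)
    rw [conj_mul.symm, hinv t ht a ha, hinv t ht b hb, mul_inv_rev] at h1
    have h2 := congrArg (·⁻¹) h1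
    simpa [mul_inv_rev] using h2.symm
  have hN : H.Normal := ⟨fun h hh g => by
    by_cases hg : g ∈ M
    · rw [hcomm g hg h (hle hh), mul_inv_cancel_right]; exact hh
    · rw [hinv g hg h (hle hh)]; exact inv_mem hh⟩
  rw [← hcore]
  exact le_antisymm ((@Subgroup.normal_le_normalCore G _ H H hN).2 le_rfl) (Subgroup.normalCore_le H)

/-- Number of fixed cosets. -/
noncomputable def fix (H : Subgroup G) (g : G) : ℕ := Nat.card {q : G ⧸ H // g • q = q}

theorem fix_pos_iff [Finite G] {H : Subgroup G} {g : G} : 0 < fix H g ↔ Cov H g := by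
  constructor
  · intro h
    obtain ⟨⟨q, hq⟩⟩ := (Nat.card_pos_iff.1 h).1
    obtain ⟨x, rfl⟩ := QuotientGroup.mk_surjective q
    refine ⟨x, ?_⟩
    rw [MulAction.Quotient.smul_mk, smul_eq_mul, QuotientGroup.eq] at hq
    have := inv_mem hq
    simpa [mul_assoc] using this
  · rintro ⟨x, hx⟩
    haveI : Nonempty {q : G ⧸ H // g • q = q} := ⟨⟨QuotientGroup.mk x, by
      rw [MulAction.Quotient.smul_mk, smul_eq_mul, QuotientGroup.eq]
      simpa [mul_assoc] using inv_mem hx⟩⟩
    exact Nat.card_pos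

theorem two_le_fix [Finite G] {H : Subgroup G} {g d : G} (hd : ¬ Cov H d) (hg : Cov H g)
    (hdg : d * g = g⁻¹ * d ∨ d * g = g * d) : 2 ≤ fix H g := by
  obtain ⟨⟨q, hq⟩⟩ := (Nat.card_pos_iff.1 (fix_pos_iff.2 hg)).1
  have hne : d • q ≠ q := fun h => by
    have h0 : 0 < fix H d := by
      haveI : Nonempty {q : G ⧸ H // d • q = q} := ⟨⟨q, h⟩⟩
      exact Nat.card_pos
    exact hd (fix_pos_iff.1 h0)
  have hdq : g • (d • q) = d • q := by
    rcases hdg with h | h
    · have h' : g * d = d * g⁻¹ := by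
        calc g * d = g * (d * g) * g⁻¹ := by group
          _ = d * g⁻¹ := by rw [h]; group
      rw [← mul_smul, h', mul_smul, inv_smul_eq_iff.2 hq.symm]
    · rw [← mul_smul, ← h, mul_smul, hq]
  haveI : Nontrivial {q : G ⧸ H // g • q = q} :=
    ⟨⟨⟨q, hq⟩, ⟨d • q, hdq⟩, fun h => hne (Subtype.ext_iff.1 h).symm⟩⟩
  exact Finite.one_lt_card

theorem sum_fix [Finite G] (H L : Subgroup G) [Fintype L] :
    ∃ r, 0 < r ∧ ∑ g : L, fix H (g : G) = r * Nat.card L := by
  classical
  haveI := Fintype.ofFinite G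
  have h := MulAction.sum_card_fixedBy_eq_card_orbits_mul_card_group L (G ⧸ H)
  refine ⟨Nat.card (Quotient (MulAction.orbitRel L (G ⧸ H))), Nat.card_pos, ?_⟩
  rw [Nat.card_eq_fintype_card, Nat.card_eq_fintype_card, ← h]
  refine Finset.sum_congr rfl fun g _ => ?_
  rw [fix, ← Nat.card_eq_fintype_card]
  rfl

theorem sum_fix_univ [Finite G] [Fintype G] (H : Subgroup G) : ∑ g : G, ((fix H g : ℤ) - 1) = 0 := by
  classical
  have h := MulAction.sum_card_fixedBy_eq_card_orbits_mul_card_group G (G ⧸ H)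
  haveI : Subsingleton (Quotient (MulAction.orbitRel G (G ⧸ H))) :=
    (MulAction.pretransitive_iff_subsingleton_quotient G (G ⧸ H)).1 inferInstance
  haveI : Unique (Quotient (MulAction.orbitRel G (G ⧸ H))) :=
    uniqueOfSubsingleton (Quotient.mk _ ((1 : G) : G ⧸ H))
  rw [Fintype.card_unique, one_mul] at h
  have h2 : ∑ g : G, fix H g = Fintype.card G := by
    rw [← h]
    refine Finset.sum_congr rfl fun g _ => ?_
    rw [fix, ← Nat.card_eq_fintype_card]
    rfl
  rw [Finset.sum_sub_distrib, ← Nat.cast_sum, h2]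
  simp

theorem exists_not_cov [Finite G] {H : Subgroup G} (hH : H ≠ ⊤) : ∃ g, ¬ Cov H g := by
  classical
  cases nonempty_fintype G
  by_contra h
  push Not at h
  have h0 := sum_fix_univ H
  rw [Finset.sum_eq_zero_iff_of_nonneg (fun g _ => by
    have := fix_pos_iff.2 (h g); omega)] at h0
  have h1 := h0 1 (mem_univ _)
  have h2 : fix H 1 = H.index := Nat.card_congr (Equiv.subtypeUnivEquiv fun q => one_smul G q)
  rw [h2] at h1
  exact hH (Subgroup.index_eq_one.1 (by omega))

theorem isPGroup_centralizer [Finite G] {H : Subgroup G} (hyp : Hyp H) {d : G} (hd : ¬ Cov H d) :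
    IsPGroup 2 (Subgroup.centralizer {d}) := by
  haveI : Fact (Nat.Prime 2) := ⟨Nat.prime_two⟩
  refine IsPGroup.of_card (n := (Nat.card (Subgroup.centralizer {d})).primeFactorsList.length) ?_
  refine Nat.eq_prime_pow_of_unique_prime_dvd Nat.card_pos.ne' fun {p} hp hpd => ?_
  by_contra hp2
  haveI := Fact.mk hp
  obtain ⟨x, hx⟩ := exists_prime_orderOf_dvd_card' p hpd
  rw [← Subgroup.orderOf_coe] at hx
  have hcomm : Commute d (x : G) := (Subgroup.mem_centralizer_singleton_iff.1 x.2).symm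
  have hdo := orderOf_eq_two hyp hd
  have hord : orderOf (d * (x : G)) = 2 * p := by
    rw [hcomm.orderOf_mul_eq_mul_orderOf_of_coprime, hdo, hx]
    rw [hdo, hx]; exact (Nat.coprime_primes Nat.prime_two hp).2 (Ne.symm hp2)
  have hc : Cov H (d * (x : G)) := by
    by_contra h
    have := orderOf_eq_two hyp h
    have := hp.two_le
    omega
  have := cov_pow hc p
  rw [hcomm.mul_pow, show (x : G) ^ p = 1 from hx ▸ pow_orderOf_eq_one (x : G), mul_one] at this
  obtain ⟨j, hj⟩ := hp.odd_of_ne_two hp2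
  rw [hj, pow_succ, pow_mul, hyp d hd, one_pow, one_mul] at this
  exact hd this

/-- The key count: the group has a nontrivial normal 2-subgroup. -/
theorem false_of_no_two_core [Finite G] {H : Subgroup G} (hyp : Hyp H) (hcore : H.normalCore = ⊥)
    (hH : H ≠ ⊥) (hO : ∀ N : Subgroup G, N.Normal → IsPGroup 2 N → N = ⊥) : False := by
  classical
  cases nonempty_fintype G
  have htop : H ≠ ⊤ := fun h => hH (by
    rw [← hcore, h]
    exact (le_antisymm (Subgroup.normalCore_le ⊤) ((Subgroup.normal_le_normalCore).2 le_rfl)).symm)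
  let f : G → ℤ := fun g => (fix H g : ℤ) - 1
  have hf0 : ∀ g, Cov H g → 0 ≤ f g := fun g h => by
    have := fix_pos_iff.2 h; simp only [f]; omega
  have hfD : ∀ g, ¬ Cov H g → f g = -1 := fun g h => by
    have : fix H g = 0 := by
      by_contra h0; exact h (fix_pos_iff.1 (Nat.pos_of_ne_zero h0))
    simp only [f]; omega
  -- the count at one derangement
  have key : ∀ d, ¬ Cov H d →
      (∑ g ∈ univ.filter (fun g => g ∈ Subgroup.centralizer {d}), f g = 0) ∧
      (∀ e : G, e ^ 2 = 1 → Cov H e → e * d = d * e) ∧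
      (∀ g, Cov H g → g * d ≠ d * g → 2 ≤ fix H g → d * g = g⁻¹ * d) := by
    intro d hd
    have hd2 : d * d = 1 := by rw [← pow_two]; exact hyp d hd
    set Cs := univ.filter (fun g => g ∈ Subgroup.centralizer {d}) with hCs
    have hmC : ∀ g, g ∈ Cs ↔ g * d = d * g := fun g => by
      simp [hCs, Subgroup.mem_centralizer_singleton_iff]
    set I := univ.filter (fun e : G => e ^ 2 = 1 ∧ e * d ≠ d * e) with hI
    set A := I.image (fun e => d * e) with hA
    have hAc : A.card = I.card := card_image_of_injective _ (mul_right_injective d)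
    have hAp : ∀ g ∈ A, g * d ≠ d * g ∧ Cov H g ∧ d * g = g⁻¹ * d := by
      intro g hg
      obtain ⟨e, he, rfl⟩ := mem_image.1 hg
      obtain ⟨-, he2, hne⟩ := mem_filter.1 he
      have hei : e⁻¹ = e := inv_eq_of_mul_eq_one_right (by rw [← pow_two]; exact he2)
      have hdi : d⁻¹ = d := inv_eq_of_mul_eq_one_right hd2
      refine ⟨fun h => hne ?_, ?_, ?_⟩
      · rw [mul_assoc] at h; exact mul_left_cancel h
      · by_contra h
        have h1 := hyp _ h
        rw [pow_two] at h1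
        apply hne
        calc e * d = e⁻¹ * d⁻¹ := by rw [hei, hdi]
          _ = (d * e)⁻¹ := by rw [mul_inv_rev]
          _ = d * e := inv_eq_of_mul_eq_one_right h1
      · rw [mul_inv_rev, hei, hdi, ← mul_assoc, hd2, one_mul, mul_assoc, hd2, mul_one]
    set Dn := univ.filter (fun g => ¬ Cov H g ∧ g * d ≠ d * g) with hDn
    set Jn := univ.filter (fun e : G => (e ^ 2 = 1 ∧ Cov H e) ∧ e * d ≠ d * e) with hJn
    have hIc : I.card = Dn.card + Jn.card := by
      rw [← card_union_of_disjoint]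
      · refine congrArg Finset.card (Finset.ext fun g => ?_)
        simp only [hI, hDn, hJn, mem_union, mem_filter, mem_univ, true_and]
        by_cases hg : Cov H g
        · simp [hg]
        · simp [hg, hyp g hg]
      · rw [disjoint_left]
        intro g h1 h2
        exact (mem_filter.1 h1).2.1 (mem_filter.1 h2).2.1.2
    have d1 : Disjoint Cs Dn := disjoint_left.2 fun g h1 h2 => (mem_filter.1 h2).2.2 ((hmC g).1 h1)
    have d2 : Disjoint (Cs ∪ Dn) A := disjoint_left.2 fun g h1 h2 => by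
      rcases mem_union.1 h1 with h | h
      · exact (hAp g h2).1 ((hmC g).1 h)
      · exact (mem_filter.1 h).2.1 (hAp g h2).2.1
    set R := univ \ (Cs ∪ Dn ∪ A) with hR
    have hRcov : ∀ g ∈ R, Cov H g := by
      intro g hg
      simp only [hR, mem_sdiff, mem_univ, true_and, mem_union, not_or] at hg
      by_contra h
      exact hg.1.2 (mem_filter.2 ⟨mem_univ _, h, fun e => hg.1.1 ((hmC g).2 e)⟩)
    have hsplit : ∑ g ∈ R, f g + (∑ g ∈ Cs, f g + ∑ g ∈ Dn, f g + ∑ g ∈ A, f g) = 0 := by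
      rw [← Finset.sum_union d1, ← Finset.sum_union d2, hR, Finset.sum_sdiff (subset_univ _)]
      exact sum_fix_univ H
    have sD : ∑ g ∈ Dn, f g = -(Dn.card : ℤ) := by
      rw [Finset.sum_congr rfl (fun g hg => hfD g (mem_filter.1 hg).2.1), Finset.sum_const]
      simp
    have sA : (A.card : ℤ) ≤ ∑ g ∈ A, f g := by
      have := Finset.card_nsmul_le_sum A f 1 (fun g hg => by
        have := two_le_fix hd (hAp g hg).2.1 (Or.inl (hAp g hg).2.2)
        simp only [f]; omega)
      simpa using this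
    have sR : 0 ≤ ∑ g ∈ R, f g := Finset.sum_nonneg fun g hg => hf0 g (hRcov g hg)
    have sC : 0 ≤ ∑ g ∈ Cs, f g := by
      haveI := Fintype.ofFinite (Subgroup.centralizer {d})
      obtain ⟨r, hr, hs⟩ := sum_fix H (Subgroup.centralizer {d})
      rw [hCs, Finset.sum_subtype (p := fun g => g ∈ Subgroup.centralizer {d}) _ (fun g => by simp) f]
      simp only [f, Finset.sum_sub_distrib, ← Nat.cast_sum, Finset.sum_const, card_univ, smul_eq_mul,
        nsmul_eq_mul, mul_one, hs, Nat.card_eq_fintype_card, Nat.cast_mul]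
      nlinarith [Int.natCast_nonneg (Fintype.card (Subgroup.centralizer {d})), Int.ofNat_le.2 hr]
    rw [sD] at hsplit
    rw [hAc, hIc, Nat.cast_add] at sA
    refine ⟨by omega, fun e he hcov => ?_, fun g hg hne hfix => ?_⟩
    · by_contra hne
      have : 0 < Jn.card := card_pos.2 ⟨e, mem_filter.2 ⟨mem_univ _, ⟨he, hcov⟩, hne⟩⟩
      omega
    · by_cases hgA : g ∈ A
      · exact (hAp g hgA).2.2
      exfalso
      have hgR : g ∈ R := by
        simp only [hR, mem_sdiff, mem_univ, true_and, mem_union, not_or]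
        exact ⟨⟨fun h => hne ((hmC g).1 h), fun h => (mem_filter.1 h).2.1 hg⟩, hgA⟩
      have := Finset.single_le_sum (fun x hx => hf0 x (hRcov x hx)) hgR
      simp only [f] at this sR hsplit sA sC
      omega
  obtain ⟨d, hd⟩ := exists_not_cov htop
  have hD2 : IsPGroup 2 (Subgroup.centralizer {d}) := isPGroup_centralizer hyp hd
  -- covered involutions do not exist
  have hJ : ∀ e : G, e ^ 2 = 1 → Cov H e → e = 1 := by
    let X : Set G := {e | e ^ 2 = 1 ∧ Cov H e}
    haveI hn : (Subgroup.closure X).Normal := closure_normal ?_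
    · intro e he hcov
      have hle : Subgroup.closure X ≤ Subgroup.centralizer {d} := (Subgroup.closure_le _).2 fun a ha =>
        Subgroup.mem_centralizer_singleton_iff.2 ((key d hd).2.1 a ha.1 ha.2)
      have := hO _ hn (hD2.to_le hle)
      exact Subgroup.mem_bot.1 (this ▸ Subgroup.subset_closure (show e ∈ X from ⟨he, hcov⟩))
    · intro a ha y
      exact ⟨by rw [conj_pow, ha.1, mul_one, mul_inv_cancel], cov_conj ha.2 y⟩
  have hinvD : ∀ e : G, e ^ 2 = 1 → e ≠ 1 → ¬ Cov H e := fun e he hne hc => hne (hJ e he hc)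
  have hC1 : ∀ g, g * d = d * g → g ^ 2 = 1 := by
    intro g hg
    obtain ⟨k, hk⟩ := hD2 ⟨g, Subgroup.mem_centralizer_singleton_iff.2 hg⟩
    have hk' : g ^ 2 ^ k = 1 := by simpa using congrArg Subtype.val hk
    clear hk
    induction k generalizing g with
    | zero => rw [pow_zero, pow_one] at hk'; rw [hk', one_pow]
    | succ k ih =>
      have h2 := ih (g ^ 2) ((Commute.pow_left hg 2)) (by rw [← pow_mul, ← pow_succ']; exact hk')
      by_cases hc : Cov H g
      · exact hJ _ h2 (cov_pow hc 2)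
      · exact hyp g hc
  obtain ⟨d1, hd1, hd1d⟩ : ∃ d1, ¬ Cov H d1 ∧ d1 * d ≠ d * d1 := by
    by_contra h
    push Not at h
    haveI hn : (Subgroup.closure {e : G | ¬ Cov H e}).Normal :=
      closure_normal fun a ha y hc => ha (by
        have := cov_conj hc y⁻¹
        simpa [mul_assoc] using this)
    have hle : Subgroup.closure {e : G | ¬ Cov H e} ≤ Subgroup.centralizer {d} :=
      (Subgroup.closure_le _).2 fun a ha => Subgroup.mem_centralizer_singleton_iff.2 (h a ha)
    have h1 := hO _ hn (hD2.to_le hle)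
    have h2 : d ∈ (⊥ : Subgroup G) := h1 ▸ Subgroup.subset_closure (show d ∈ {e : G | ¬ Cov H e} from hd)
    exact hd (Subgroup.mem_bot.1 h2 ▸ cov_one H)
  have hd2 : d * d = 1 := by rw [← pow_two]; exact hyp d hd
  have hd12 : d1 * d1 = 1 := by rw [← pow_two]; exact hyp d1 hd1
  set g := d * d1 with hg
  have hgd : d * g = g⁻¹ * d := by
    rw [hg, mul_inv_rev, inv_eq_of_mul_eq_one_right hd2, inv_eq_of_mul_eq_one_right hd12, ← mul_assoc, hd2,
      one_mul, mul_assoc, hd2, mul_one]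
  have hg2 : g ^ 2 ≠ 1 := by
    intro h
    rw [pow_two, hg] at h
    apply hd1d
    calc d1 * d = d1⁻¹ * d⁻¹ := by rw [inv_eq_of_mul_eq_one_right hd2, inv_eq_of_mul_eq_one_right hd12]
      _ = (d * d1)⁻¹ := by rw [mul_inv_rev]
      _ = d * d1 := inv_eq_of_mul_eq_one_right h
  have hgc : Cov H g := by
    by_contra h; exact hg2 (hyp g h)
  have hgf := two_le_fix hd hgc (Or.inl hgd)
  have hinv : ∀ e, ¬ Cov H e → e * g = g⁻¹ * e := by
    intro e he
    by_cases hne : g * e = e * g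
    · exfalso
      -- the centraliser of every derangement has exponent two
      have hP := isPGroup_centralizer hyp he
      obtain ⟨k, hk⟩ := hP ⟨g, Subgroup.mem_centralizer_singleton_iff.2 hne⟩
      have hk' : g ^ 2 ^ k = 1 := by simpa using congrArg Subtype.val hk
      obtain ⟨j, hj, hj1, hj2⟩ : ∃ j, 1 ≤ j ∧ g ^ 2 ^ j ≠ 1 ∧ (g ^ 2 ^ j) ^ 2 = 1 := by
        clear hk
        induction k with
        | zero => rw [pow_zero, pow_one] at hk'; exact absurd (by rw [hk', one_pow]) hg2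
        | succ k ih =>
          by_cases h : g ^ 2 ^ k = 1
          · exact ih h
          · refine ⟨k, ?_, h, by rw [← pow_mul, ← pow_succ]; exact hk'⟩
            rcases Nat.eq_zero_or_pos k with rfl | h0
            · exact absurd (by simpa using hk') hg2
            · exact h0
      exact hinvD _ hj2 hj1 (cov_pow hgc _)
    · exact (key e he).2.2 g hgc hne hgf
  have hCd : ∀ e, e * d = d * e → e = 1 ∨ e = d := by
    intro e he
    by_cases h1 : e = 1
    · exact Or.inl h1
    by_cases h2 : e = d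
    · exact Or.inr h2
    exfalso
    have he2 := hC1 e he
    have hee : e⁻¹ = e := inv_eq_of_mul_eq_one_right (by rw [← pow_two]; exact he2)
    have hde : (d * e) ^ 2 = 1 := hC1 _ (by rw [mul_assoc, he])
    have hde1 : d * e ≠ 1 := fun h => h2 (by
      have := eq_inv_of_mul_eq_one_right h
      rw [this, inv_eq_of_mul_eq_one_right hd2])
    have a1 := hinv (d * e) (hinvD _ hde hde1)
    have a2 := hinv e (hinvD e he2 h1)
    have a3 : d * g⁻¹ = g * d := by
      calc d * g⁻¹ = g * (g⁻¹ * d) * g⁻¹ := by group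
        _ = g * d := by rw [← hgd]; group
    rw [mul_assoc, a2, ← mul_assoc, a3, mul_assoc] at a1
    apply hg2
    rw [pow_two]
    have := mul_right_cancel a1
    exact mul_eq_one_iff_eq_inv.2 this
  -- so two cosets only
  have hs := (key d hd).1
  have hd1' : d ≠ 1 := fun h => hd (h ▸ cov_one H)
  have hset : univ.filter (fun g => g ∈ Subgroup.centralizer {d}) = {1, d} := by
    ext x
    simp only [mem_filter, mem_univ, true_and, Subgroup.mem_centralizer_singleton_iff, mem_insert, mem_singleton]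
    exact ⟨hCd x, fun h => by rcases h with rfl | rfl <;> simp⟩
  rw [hset, Finset.sum_pair hd1'.symm, hfD d hd] at hs
  have h1 : fix H 1 = H.index := Nat.card_congr (Equiv.subtypeUnivEquiv fun q => one_smul G q)
  simp only [f, h1] at hs
  exact hH (eq_bot_of_index_two hyp hcore (by omega) le_rfl)

theorem normal_of_normalized {N H : Subgroup G} [N.Normal] (hsup : N ⊔ H = ⊤) {X : Subgroup G}
    (hN : ∀ n ∈ N, ∀ x ∈ X, n * x * n⁻¹ ∈ X) (hH : ∀ h ∈ H, ∀ x ∈ X, h * x * h⁻¹ ∈ X) : X.Normal := by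
  refine ⟨fun x hx g => ?_⟩
  have hg : g ∈ N ⊔ H := hsup ▸ Subgroup.mem_top g
  obtain ⟨n, hn, h, hh, rfl⟩ := Subgroup.mem_sup_of_normal_left.1 hg
  have := hN n hn _ (hH h hh x hx)
  simpa [mul_assoc] using this

theorem eq_bot_of_normal_le {X H : Subgroup G} (hX : X.Normal) (hle : X ≤ H) (hcore : H.normalCore = ⊥) :
    X = ⊥ := by
  rw [eq_bot_iff, ← hcore]
  exact (@Subgroup.normal_le_normalCore G _ H X hX).2 hle

theorem primitive [Finite G] {H : Subgroup G} (hyp : Hyp H) (hcore : H.normalCore = ⊥) (hH : H ≠ ⊥)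
    (hmax : IsCoatom H) :
    ∃ E : Subgroup G, E.Normal ∧ (∀ e ∈ E, e ^ 2 = 1) ∧ E ⊓ H = ⊥ ∧ E ⊔ H = ⊤ ∧ Odd (Nat.card H) := by
  classical
  haveI : Fact (Nat.Prime 2) := ⟨Nat.prime_two⟩
  by_cases hO : ∀ N : Subgroup G, N.Normal → IsPGroup 2 N → N = ⊥
  · exact (false_of_no_two_core hyp hcore hH hO).elim
  push Not at hO
  obtain ⟨N, hNn, hN2, hNne⟩ := hO
  let E : Subgroup G :=
    { carrier := {x | x ∈ N ∧ x ^ 2 = 1 ∧ ∀ n ∈ N, n * x = x * n}
      mul_mem' := by
        rintro a b ⟨ha, ha2, hac⟩ ⟨hb, hb2, hbc⟩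
        refine ⟨mul_mem ha hb, ?_, fun n hn => ?_⟩
        · rw [Commute.mul_pow (hbc a ha), ha2, hb2, one_mul]
        · rw [← mul_assoc, hac n hn, mul_assoc, hbc n hn, ← mul_assoc]
      one_mem' := ⟨one_mem _, one_pow 2, fun n _ => by simp⟩
      inv_mem' := by
        rintro a ⟨ha, ha2, hac⟩
        have : a⁻¹ = a := inv_eq_of_mul_eq_one_right (by rw [← pow_two]; exact ha2)
        rw [Set.mem_setOf_eq, this]; exact ⟨ha, ha2, hac⟩ }
  haveI hEn : E.Normal := ⟨fun x ⟨hx, hx2, hxc⟩ g => ⟨hNn.conj_mem x hx g,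
    by rw [conj_pow, hx2, mul_one, mul_inv_cancel], fun n hn => by
      have h1 := hxc (g⁻¹ * n * g) (by simpa using hNn.conj_mem n hn g⁻¹)
      calc n * (g * x * g⁻¹) = g * ((g⁻¹ * n * g) * x) * g⁻¹ := by group
        _ = g * (x * (g⁻¹ * n * g)) * g⁻¹ := by rw [h1]
        _ = g * x * g⁻¹ * n := by group⟩⟩
  have hEne : E ≠ ⊥ := by
    haveI : Nontrivial N := (Subgroup.nontrivial_iff_ne_bot N).2 hNne
    haveI := hN2.center_nontrivial
    have h2 : 2 ∣ Nat.card (Subgroup.center N) :=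
      ((hN2.to_subgroup (Subgroup.center N)).nontrivial_iff_card.1 inferInstance).elim
        fun k hk => by obtain ⟨hk0, hkc⟩ := hk; rw [hkc]; exact dvd_pow_self 2 hk0.ne'
    obtain ⟨z, hz⟩ := exists_prime_orderOf_dvd_card' 2 h2
    intro h
    have hzE : ((z : N) : G) ∈ E := by
      refine ⟨(z : N).2, ?_, fun n hn => ?_⟩
      · have := pow_orderOf_eq_one z
        rw [hz] at this
        simpa using congrArg (fun w : Subgroup.center N => ((w : N) : G)) this
      · simpa using congrArg Subtype.val (Subgroup.mem_center_iff.1 z.2 ⟨n, hn⟩)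
    rw [h, Subgroup.mem_bot] at hzE
    have : z = 1 := Subtype.ext (Subtype.ext hzE)
    rw [this, orderOf_one] at hz
    omega
  have hEc : ∀ a ∈ E, ∀ b ∈ E, a * b = b * a := fun a ha b hb => hb.2.2 a ha.1
  have hsup : E ⊔ H = ⊤ := hmax.2 _ (lt_of_le_of_ne le_sup_right fun h =>
    hEne (eq_bot_of_normal_le hEn (h ▸ le_sup_left) hcore))
  have hinf : E ⊓ H = ⊥ := eq_bot_of_normal_le (normal_of_normalized hsup
    (fun n hn x hx => by rw [hEc n hn x hx.1, mul_inv_cancel_right]; exact hx)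
    (fun h hh x hx => Subgroup.mem_inf.2 ⟨hEn.conj_mem x hx.1 h, H.mul_mem (H.mul_mem hh hx.2) (H.inv_mem hh)⟩)) inf_le_right hcore
  refine ⟨E, hEn, fun e he => he.2.1, hinf, hsup, ?_⟩
  by_contra hodd
  rw [Nat.not_odd_iff_even, even_iff_two_dvd] at hodd
  obtain ⟨⟨h, hh⟩, hho⟩ := exists_prime_orderOf_dvd_card' 2 hodd
  rw [← Subgroup.orderOf_coe] at hho
  simp only at hho
  have hh2 : h * h = 1 := by rw [← pow_two, ← hho]; exact pow_orderOf_eq_one h
  have hhi : h⁻¹ = h := inv_eq_of_mul_eq_one_right hh2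
  obtain ⟨e, he, hne⟩ : ∃ e ∈ E, e * h ≠ h * e := by
    by_contra hall
    push Not at hall
    let X : Subgroup G := H ⊓ Subgroup.centralizer (E : Set G)
    have hXn : X.Normal := normal_of_normalized hsup
      (fun n hn x hx => by
        rw [Subgroup.mem_centralizer_iff.1 hx.2 n hn, mul_inv_cancel_right]; exact hx)
      (fun a ha x hx => Subgroup.mem_inf.2 ⟨H.mul_mem (H.mul_mem ha hx.1) (H.inv_mem ha), Subgroup.mem_centralizer_iff.2 fun n hn => by
        have h1 := Subgroup.mem_centralizer_iff.1 hx.2 (a⁻¹ * n * a) (by simpa using hEn.conj_mem n hn a⁻¹)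
        calc n * (a * x * a⁻¹) = a * ((a⁻¹ * n * a) * x) * a⁻¹ := by group
          _ = a * (x * (a⁻¹ * n * a)) * a⁻¹ := by rw [h1]
          _ = a * x * a⁻¹ * n := by group⟩)
    have : h ∈ X := ⟨hh, Subgroup.mem_centralizer_iff.2 hall⟩
    rw [eq_bot_of_normal_le hXn inf_le_left hcore, Subgroup.mem_bot] at this
    rw [this, orderOf_one] at hho
    omega
  have hei : e⁻¹ = e := inv_eq_of_mul_eq_one_right (by rw [← pow_two]; exact he.2.1)
  by_cases hcov : Cov H (h * e)
  · obtain ⟨x, hx⟩ := hcov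
    have hxt : x ∈ E ⊔ H := hsup ▸ Subgroup.mem_top x
    obtain ⟨u, hu, a, ha, rfl⟩ := Subgroup.mem_sup_of_normal_left.1 hxt
    have hk : u⁻¹ * (h * e) * u ∈ H := by
      have := mul_mem (mul_mem ha hx) (inv_mem ha)
      simpa [mul_assoc] using this
    have hmem : h⁻¹ * (u⁻¹ * (h * e) * u) ∈ E := by
      have : h⁻¹ * (u⁻¹ * (h * e) * u) = (h⁻¹ * u⁻¹ * (h⁻¹)⁻¹) * e * u := by group
      rw [this]
      exact mul_mem (mul_mem (hEn.conj_mem _ (inv_mem hu) _) he) hu
    have h1 : h⁻¹ * (u⁻¹ * (h * e) * u) = 1 :=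
      Subgroup.mem_bot.1 (hinf ▸ Subgroup.mem_inf.2 ⟨hmem, H.mul_mem (H.inv_mem hh) hk⟩)
    have hee : e = h⁻¹ * u * h * u⁻¹ := by
      calc e = h⁻¹ * u * h * (h⁻¹ * (u⁻¹ * (h * e) * u)) * u⁻¹ := by group
        _ = h⁻¹ * u * h * u⁻¹ := by rw [h1, mul_one]
    have hui : u⁻¹ = u := inv_eq_of_mul_eq_one_right (by rw [← pow_two]; exact hu.2.1)
    rw [hhi, hui] at hee
    have hc := hEc (h * u * h) (by have := hEn.conj_mem u hu h; rwa [hhi] at this) u hu
    apply hne
    calc e * h = h * u * h * u * h := by rw [hee]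
      _ = h * (u * (h * u * h)) := by group
      _ = h * (h * u * h * u) := by rw [hc]
      _ = h * e := by rw [← hee]
  · apply hne
    have h1 := hyp _ hcov
    rw [pow_two] at h1
    calc e * h = e⁻¹ * h⁻¹ := by rw [hei, hhi]
      _ = (h * e)⁻¹ := by rw [mul_inv_rev]
      _ = h * e := inv_eq_of_mul_eq_one_right h1

theorem exists_regular [Finite G] {H : Subgroup G} (hyp : Hyp H) (hcore : H.normalCore = ⊥) (hH : H ≠ ⊥) :
    ∃ F : Subgroup G, F.Normal ∧ (∀ f ∈ F, f ^ 2 = 1) ∧ F ⊓ H = ⊥ ∧ F ⊔ H = ⊤ ∧ Odd (Nat.card H) ∧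
      ∀ g, ¬ Cov H g → g ∈ F := by
  classical
  have htop : H ≠ ⊤ := fun h => hH (by
    rw [← hcore, h]
    exact (le_antisymm (Subgroup.normalCore_le ⊤) ((Subgroup.normal_le_normalCore).2 le_rfl)).symm)
  obtain ⟨M, hM, hHM⟩ := (eq_top_or_exists_le_coatom H).resolve_left htop
  set π := QuotientGroup.mk' M.normalCore with hπ
  have hπs : Function.Surjective π := QuotientGroup.mk'_surjective _
  have hker : π.ker ≤ M := by rw [hπ, QuotientGroup.ker_mk']; exact Subgroup.normalCore_le M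
  set Mb := M.map π with hMb
  have hcm : Mb.comap π = M := Subgroup.comap_map_eq_self hker
  have hcovb : ∀ g, Cov Mb (π g) ↔ Cov M g := by
    intro g
    constructor
    · rintro ⟨x, hx⟩
      obtain ⟨y, rfl⟩ := hπs x
      refine ⟨y, ?_⟩
      rw [← hcm, Subgroup.mem_comap, map_mul, map_mul, map_inv]; exact hx
    · rintro ⟨y, hy⟩
      exact ⟨π y, by rw [← map_inv, ← map_mul, ← map_mul]; exact Subgroup.mem_map_of_mem π hy⟩
  have hMHcov : ∀ g, ¬ Cov M g → g ^ 2 = 1 := fun g hg => hyp g fun ⟨x, hx⟩ => hg ⟨x, hHM hx⟩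
  have hypb : Hyp Mb := fun q hq => by
    obtain ⟨g, rfl⟩ := hπs q
    rw [← map_pow, hMHcov g (fun h => hq ((hcovb g).2 h)), map_one]
  have hcoreb : Mb.normalCore = ⊥ := by
    rw [eq_bot_iff]
    intro q hq
    obtain ⟨g, rfl⟩ := hπs q
    have : g ∈ M.normalCore := (Subgroup.normal_le_normalCore).2
      (le_of_le_of_eq (Subgroup.comap_mono (Subgroup.normalCore_le Mb)) hcm) hq
    exact Subgroup.mem_bot.2 ((QuotientGroup.eq_one_iff g).2 this)
  have hmaxb : IsCoatom Mb := by
    refine ⟨fun h => hM.1 (by rw [← hcm, h, Subgroup.comap_top]), fun X hX => ?_⟩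
    have : X.comap π = ⊤ := hM.2 _
      (lt_of_eq_of_lt hcm.symm ((Subgroup.comap_lt_comap_of_surjective hπs).2 hX))
    exact Subgroup.comap_injective hπs (this.trans (Subgroup.comap_top π).symm)
  have hMbne : Mb ≠ ⊥ := by
    intro h
    have hMeq : M = M.normalCore := by
      refine le_antisymm ?_ (Subgroup.normalCore_le M)
      have := (Subgroup.map_eq_bot_iff M).1 h
      rwa [hπ, QuotientGroup.ker_mk'] at this
    haveI hMn : M.Normal := hMeq ▸ inferInstance
    obtain ⟨g, hg⟩ := exists_not_cov hM.1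
    have hgM : g ∉ M := fun h => hg ⟨1, by simpa using h⟩
    have hq : Nat.card (G ⧸ M.normalCore) = 2 := by
      have hall : ∀ q : G ⧸ M.normalCore, q = 1 ∨ q = π g := by
        intro q
        have hlt : ⊥ < Subgroup.zpowers (π g) := bot_lt_iff_ne_bot.2 fun hb => hgM (by
          rw [hMeq]; exact (QuotientGroup.eq_one_iff g).1 (Subgroup.zpowers_eq_bot.1 hb))
        have hz := hmaxb.2 (Subgroup.zpowers (π g)) (h ▸ hlt)
        obtain ⟨k, rfl⟩ := Subgroup.mem_zpowers_iff.1 (hz ▸ Subgroup.mem_top q)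
        have h2 : π g ^ (2 : ℤ) = 1 := by rw [zpow_ofNat, ← map_pow, hMHcov g hg, map_one]
        rcases Int.even_or_odd' k with ⟨m, rfl | rfl⟩
        · left; rw [zpow_mul, h2, one_zpow]
        · right; rw [zpow_add, zpow_mul, h2, one_zpow, one_mul, zpow_one]
      rw [Nat.card_eq_two_iff' 1]
      exact ⟨π g, fun hb => hgM (by rw [hMeq]; exact (QuotientGroup.eq_one_iff g).1 hb),
        fun q hq => (hall q).resolve_left hq⟩
    exact hH (eq_bot_of_index_two hyp hcore (M := M) (by rw [hMeq, Subgroup.index_eq_card]; exact hq) hHM)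
  obtain ⟨E, hEn, hE2, hEinf, hEsup, hodd⟩ := primitive hypb hcoreb hMbne hmaxb
  set F := E.comap π with hF
  haveI hFn : F.Normal := hEn.comap π
  set K := M.normalCore with hK
  have hKF : K ≤ F := fun k hk => by
    rw [hF, Subgroup.mem_comap, show π k = 1 from (QuotientGroup.eq_one_iff k).2 hk]; exact one_mem _
  have hout : ∀ f ∈ F, f ∉ K → f ^ 2 = 1 := fun f hf hfK => hMHcov f fun hc => hfK (by
    obtain ⟨x, hx⟩ := (hcovb f).2 hc
    have hxE : x⁻¹ * π f * x ∈ E := by simpa using hEn.conj_mem _ hf x⁻¹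
    have h1 : x⁻¹ * π f * x = 1 := Subgroup.mem_bot.1 (hEinf ▸ ⟨hxE, hx⟩)
    refine (QuotientGroup.eq_one_iff f).1 ?_
    calc π f = x * (x⁻¹ * π f * x) * x⁻¹ := by group
      _ = 1 := by rw [h1, mul_one, mul_inv_cancel])
  have hE4 : ∃ a ∈ E, ∃ b ∈ E, a ≠ 1 ∧ b ≠ 1 ∧ a ≠ b := by
    by_contra h
    push Not at h
    have hEne : E ≠ ⊥ := fun hb => hmaxb.1 (by rwa [hb, bot_sup_eq] at hEsup)
    obtain ⟨a, haE, ha1⟩ := (Subgroup.bot_or_exists_ne_one E).resolve_left hEne
    have hcomm : ∀ q : G ⧸ K, q * a = a * q := by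
      intro q
      have := h a haE _ (hEn.conj_mem a haE q) ha1 (fun hb => ha1 (conj_eq_one_iff.1 hb))
      calc q * a = q * a * q⁻¹ * q := by group
        _ = a * q := by rw [← this]
    have : Mb.Normal := normal_of_normalized hEsup (fun n hn x hx => by
      have hn' : n = 1 ∨ n = a := (em (n = 1)).imp_right fun hn1 => (h a haE n hn ha1 hn1).symm
      rcases hn' with rfl | rfl
      · simpa using hx
      · rw [← hcomm, mul_inv_cancel_right]; exact hx) (fun a ha x hx => mul_mem (mul_mem ha hx) (inv_mem ha))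
    exact hMbne (eq_bot_of_normal_le this le_rfl hcoreb)
  have hF2 : ∀ f ∈ F, f ^ 2 = 1 := by
    obtain ⟨a, haE, b, hbE, ha, hb, hab⟩ := hE4
    obtain ⟨t, rfl⟩ := hπs a
    obtain ⟨t', rfl⟩ := hπs b
    have hK1 : ∀ x, π x ≠ 1 → x ∉ K := fun x hx h => hx ((QuotientGroup.eq_one_iff x).2 h)
    have hinv : ∀ x ∈ F, x ∉ K → ∀ k ∈ K, x * k * x⁻¹ = k⁻¹ := by
      intro x hx hxK k hk
      have h1 := hout (x * k) (mul_mem hx (hKF hk)) (fun h => hxK (by simpa using mul_mem h (inv_mem hk)))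
      have hxi : x⁻¹ = x := inv_eq_of_mul_eq_one_right (by rw [← pow_two]; exact hout x hx hxK)
      rw [hxi]
      exact eq_inv_of_mul_eq_one_left (by rw [pow_two] at h1; rw [← h1]; group)
    intro f hf
    by_cases hfK : f ∈ K
    · have h1 := hinv t haE (hK1 t ha) f hfK
      have h2 := hinv t' hbE (hK1 t' hb) f⁻¹ (inv_mem hfK)
      have h12 : π (t' * t) ≠ 1 := by
        rw [map_mul]
        intro h
        apply hab
        have hb2 : π t' * π t' = 1 := by rw [← pow_two]; exact hE2 _ hbE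
        rw [eq_inv_of_mul_eq_one_right h, inv_eq_of_mul_eq_one_right hb2]
      have h3 := hinv (t' * t) (mul_mem hbE haE) (hK1 _ h12) f hfK
      have h4 : t' * t * f * (t' * t)⁻¹ = f := by
        calc t' * t * f * (t' * t)⁻¹ = t' * (t * f * t⁻¹) * t'⁻¹ := by group
          _ = f := by rw [h1, h2, inv_inv]
      rw [h4] at h3
      rw [pow_two]; nth_rewrite 2 [h3]; exact mul_inv_cancel f
    · exact hout f hf hfK
  have hcompl : Subgroup.IsComplement' E Mb :=
    Subgroup.isComplement'_of_disjoint_and_mul_eq_univ (disjoint_iff.2 hEinf) (by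
      rw [← Subgroup.normal_mul E Mb, hEsup]; rfl)
  have hindex : F.index = Nat.card Mb := by
    rw [hF, Subgroup.index_comap_of_surjective _ hπs]
    exact hcompl.symm.index_eq_card
  have hodd' : ∀ g, g ^ 2 = 1 → g ∈ F := by
    intro g hg
    have h1 : orderOf (g : G ⧸ F) ∣ 2 := orderOf_dvd_of_pow_eq_one (by rw [← QuotientGroup.mk_pow, hg]; rfl)
    have h2 : orderOf (g : G ⧸ F) ∣ F.index := by rw [Subgroup.index_eq_card]; exact orderOf_dvd_natCard _
    rw [hindex] at h2
    have h3 := Nat.eq_one_of_dvd_coprimes ((Nat.coprime_two_left).2 hodd) h1 h2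
    exact (QuotientGroup.eq_one_iff g).1 (orderOf_eq_one_iff.1 h3)
  have hsup : F ⊔ H = ⊤ := by
    by_contra hne
    obtain ⟨g, hg⟩ := exists_not_cov hne
    have hgH : ¬ Cov H g := fun ⟨x, hx⟩ => hg ⟨x, (le_sup_right : H ≤ F ⊔ H) hx⟩
    exact hg ⟨1, by simpa using (le_sup_left : F ≤ F ⊔ H) (hodd' g (hyp g hgH))⟩
  have hFc : ∀ a ∈ F, ∀ b ∈ F, a * b = b * a := fun a ha b hb => by
    have hi : ∀ c ∈ F, c⁻¹ = c := fun c hc => inv_eq_of_mul_eq_one_right (by rw [← pow_two]; exact hF2 c hc)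
    calc a * b = (a * b)⁻¹ := (hi _ (mul_mem ha hb)).symm
      _ = b * a := by rw [mul_inv_rev, hi a ha, hi b hb]
  have hinf : F ⊓ H = ⊥ := eq_bot_of_normal_le (normal_of_normalized hsup
    (fun n hn x hx => by rw [hFc n hn x hx.1, mul_inv_cancel_right]; exact hx)
    (fun h hh x hx => Subgroup.mem_inf.2 ⟨hFn.conj_mem x hx.1 h, H.mul_mem (H.mul_mem hh hx.2) (H.inv_mem hh)⟩)) inf_le_right hcore
  refine ⟨F, hFn, hF2, hinf, hsup, ?_, fun g hg => hodd' g (hyp g hg)⟩
  have hc : Subgroup.IsComplement' F H :=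
    Subgroup.isComplement'_of_disjoint_and_mul_eq_univ (disjoint_iff.2 hinf) (by
      rw [← Subgroup.normal_mul F H, hsup]; rfl)
  rw [← hc.symm.index_eq_card, hindex]
  exact hodd

/-- Let G act faithfully and transitively on a finite set and suppose every element of G fixing no point is an involution. Then either G is an elementary abelian 2-group, or G is a Frobenius group whose Frobenius kernel is an elementary abelian 2-group: G has a Frobenius complement H, and the elements lying in no conjugate of H, together with the identity, pairwise commute and square to the identity. -/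
theorem result {G Ω : Type*} [Group G] [Finite G] [MulAction G Ω] [FaithfulSMul G Ω] [Finite Ω]
    (htrans : MulAction.IsPretransitive G Ω) (hinv : ∀ g : G, (∀ ω : Ω, g • ω ≠ ω) → orderOf g = 2) :
    (IsMulCommutative G ∧ ∀ g : G, g ^ 2 = 1) ∨
    (∃ H : Subgroup G, Cfsg.IsFrobeniusComplement H ∧
      (∀ x ∈ Cfsg.frobeniusKernel H, x ^ 2 = 1) ∧
      ∀ x ∈ Cfsg.frobeniusKernel H, ∀ y ∈ Cfsg.frobeniusKernel H, x * y = y * x) := by
  classical
  by_cases hΩ : Nonempty Ω
  swap
  · have h1 : ∀ g : G, g = 1 := fun g => eq_of_smul_eq_smul (fun ω : Ω => (hΩ ⟨ω⟩).elim)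
    exact Or.inl ⟨⟨⟨fun a b => by rw [h1 a, h1 b]⟩⟩, fun g => by rw [h1 g, one_pow]⟩
  obtain ⟨ω⟩ := hΩ
  set H := MulAction.stabilizer G ω with hHdef
  have hyp : Hyp H := fun g hg => by
    have := hinv g fun ω' h => by
      obtain ⟨x, rfl⟩ := MulAction.exists_smul_eq G ω ω'
      exact hg ⟨x, by rw [hHdef, MulAction.mem_stabilizer_iff, mul_smul, mul_smul, h, inv_smul_smul]⟩
    rw [← this]; exact pow_orderOf_eq_one g
  have hcore : H.normalCore = ⊥ := by
    rw [eq_bot_iff]
    intro g hg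
    refine Subgroup.mem_bot.2 (eq_of_smul_eq_smul fun ω' : Ω => ?_)
    obtain ⟨x, rfl⟩ := MulAction.exists_smul_eq G ω ω'
    have h1 : x⁻¹ * g * x ∈ H := by simpa [mul_assoc] using hg x⁻¹
    rw [hHdef, MulAction.mem_stabilizer_iff, mul_smul, mul_smul, inv_smul_eq_iff] at h1
    rw [h1, one_smul]
  by_cases hH : H = ⊥
  · left
    have h2 : ∀ g : G, g ^ 2 = 1 := fun g => by
      by_cases h : Cov H g
      · obtain ⟨x, hx⟩ := h
        rw [hH, Subgroup.mem_bot] at hx
        have : g = 1 := by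
          calc g = x * (x⁻¹ * g * x) * x⁻¹ := by group
            _ = 1 := by rw [hx, mul_one, mul_inv_cancel]
        rw [this, one_pow]
      · exact hyp g h
    refine ⟨⟨⟨fun a b => ?_⟩⟩, h2⟩
    have hi : ∀ c : G, c⁻¹ = c := fun c => inv_eq_of_mul_eq_one_right (by rw [← pow_two]; exact h2 c)
    calc a * b = (a * b)⁻¹ := (hi _).symm
      _ = b * a := by rw [mul_inv_rev, hi, hi]
  right
  obtain ⟨F, hFn, hF2, hinf, hsup, hodd, hnc⟩ := exists_regular hyp hcore hH
  have hfpf : ∀ f ∈ F, ∀ h ∈ H, f * h = h * f → f = 1 ∨ h = 1 := by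
    intro f hf h hh hcomm
    by_cases hcov : Cov H (f * h)
    · left
      have h1 := cov_pow hcov (orderOf h)
      rw [Commute.mul_pow hcomm, pow_orderOf_eq_one, mul_one] at h1
      obtain ⟨j, hj⟩ := hodd.of_dvd_nat (show orderOf h ∣ Nat.card H by
        rw [← Subgroup.orderOf_mk h hh]; exact orderOf_dvd_natCard _)
      rw [hj, pow_succ, pow_mul, hF2 f hf, one_pow, one_mul] at h1
      obtain ⟨x, hx⟩ := h1
      have h2 : x⁻¹ * f * x = 1 := Subgroup.mem_bot.1 (hinf ▸ ⟨by simpa using hFn.conj_mem f hf x⁻¹, hx⟩)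
      calc f = x * (x⁻¹ * f * x) * x⁻¹ := by group
        _ = 1 := by rw [h2, mul_one, mul_inv_cancel]
    · right
      have : h ∈ F := by simpa using mul_mem (inv_mem hf) (hnc _ hcov)
      exact Subgroup.mem_bot.1 (hinf ▸ ⟨this, hh⟩)
  have hker : ∀ x ∈ Cfsg.frobeniusKernel H, x ∈ F := by
    rintro x (rfl | hx)
    · exact one_mem _
    · refine hnc x fun ⟨y, hy⟩ => hx y ?_
      rw [Subgroup.mem_pointwise_smul_iff_inv_smul_mem, MulAut.smul_def, MulAut.conj_inv_apply]
      exact hy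
  have hHtop : H ≠ ⊤ := fun h => hH (by
    rw [← hcore, h]
    exact (le_antisymm (Subgroup.normalCore_le ⊤) ((Subgroup.normal_le_normalCore).2 le_rfl)).symm)
  refine ⟨H, ⟨hH, hHtop, fun g hg => ?_⟩, fun x hx => hF2 x (hker x hx), fun x hx y hy => ?_⟩
  · rw [eq_bot_iff]
    intro z hzz
    obtain ⟨hz, hz'⟩ := Subgroup.mem_inf.1 hzz
    rw [Subgroup.mem_pointwise_smul_iff_inv_smul_mem, MulAut.smul_def,
      MulAut.conj_inv_apply] at hz'
    have hgt : g ∈ F ⊔ H := hsup ▸ Subgroup.mem_top g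
    obtain ⟨f, hf, k, hk, rfl⟩ := Subgroup.mem_sup_of_normal_left.1 hgt
    have hzk : f⁻¹ * z * f ∈ H := by
      have := mul_mem (mul_mem hk hz') (inv_mem hk)
      simpa [mul_assoc] using this
    have h1 : f⁻¹ * z * f * z⁻¹ = 1 := Subgroup.mem_bot.1 (hinf ▸ Subgroup.mem_inf.2 ⟨by
      have := mul_mem (inv_mem hf) (hFn.conj_mem f hf z)
      simpa [mul_assoc] using this, H.mul_mem hzk (H.inv_mem hz)⟩)
    have hc : f * z = z * f := by
      calc f * z = f * (f⁻¹ * z * f * z⁻¹) * z := by rw [h1, mul_one]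
        _ = z * f := by group
    rcases hfpf f hf z hz hc with rfl | rfl
    · exact absurd (by simpa using hk) hg
    · exact Subgroup.mem_bot.2 rfl
  · have hi : ∀ c ∈ F, c⁻¹ = c := fun c hc => inv_eq_of_mul_eq_one_right (by rw [← pow_two]; exact hF2 c hc)
    calc x * y = (x * y)⁻¹ := (hi _ (mul_mem (hker x hx) (hker y hy))).symm
      _ = y * x := by rw [mul_inv_rev, hi x (hker x hx), hi y (hker y hy)]

end Cfsg.Agent.S3555
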