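import Cfsg.Statements.S3556
import Cfsg.Agent.Lib.Derangements.Basic

set_option autoImplicit false
set_option linter.style.haveILetI false
open Cfsg

namespace Cfsg.Agent.S3556

open MulAction CfsgLib.Derangements.Basic

/-- The conjugate of a subgroup. -/
def cj {G : Type*} [Group G] (g : G) (T : Subgroup G) : Subgroup G := T.map (MulAut.conj g).toMonoidHom

theorem mem_cj {G : Type*} [Group G] {g x : G} {T : Subgroup G} :
    x ∈ cj g T ↔ g⁻¹ * x * g ∈ T := by
  constructor
  · rintro ⟨y, hy, rfl⟩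
    rw [show g⁻¹ * (MulAut.conj g).toMonoidHom y * g = y by simp [mul_assoc]]
    exact hy
  · intro h
    exact ⟨_, h, by simp [mul_assoc]⟩

theorem no_derangements_only_p {G Ω : Type*} [Group G] [Finite G] [MulAction G Ω] [FaithfulSMul G Ω]
    [Finite Ω] [IsPreprimitive G Ω] [Nontrivial Ω] (p : ℕ) (hp : p.Prime)
    (hder : ∀ g : G, (∀ ω : Ω, g • ω ≠ ω) → ∃ k : ℕ, orderOf g = p ^ k)
    (hab : ∀ A : Subgroup G, A.Normal → IsMulCommutative A → A = ⊥)
    (N : Subgroup G) (hN : N.Normal) (hN1 : N ≠ ⊥)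
    (hmin : ∀ M : Subgroup G, M.Normal → M ≤ N → M = ⊥ ∨ M = N) :
    IsSimpleGroup N ∧ Subgroup.centralizer (N : Set G) = ⊥ := by
  haveI := Fact.mk hp
  haveI := hN
  -- a normal `p`-subgroup is trivial
  have hpgrp : ∀ P : Subgroup G, P.Normal → IsPGroup p P → P = ⊥ := by
    intro P hPn hP
    by_contra hP1
    obtain ⟨A, hAP, hAn, hA1, hAmin⟩ := exists_minimal_normal hPn hP1
    haveI := hAn
    haveI : Nontrivial A := (Subgroup.nontrivial_iff_ne_bot A).2 hA1
    haveI : Nontrivial (Subgroup.center A) := (hP.to_le hAP).center_nontrivial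
    have hZn : ((Subgroup.center A).map A.subtype).Normal :=
      inferInstance
    rcases hAmin _ hZn (Subgroup.map_subtype_le _) with h | h
    · rw [Subgroup.map_eq_bot_iff_of_injective _ A.subtype_injective] at h
      exact (Subgroup.nontrivial_iff_ne_bot _).1 inferInstance h
    · refine hA1 (hab A hAn ⟨⟨fun a b => ?_⟩⟩)
      have ha : (a : G) ∈ (Subgroup.center A).map A.subtype := h.symm ▸ a.2
      obtain ⟨a', ha', haa⟩ := ha
      obtain rfl : a' = a := Subtype.ext haa
      exact (Subgroup.mem_center_iff.1 ha' b).symm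
  have htr : IsPretransitive N Ω := normal_transitive N hN hN1
  have hC : Subgroup.centralizer (N : Set G) = ⊥ := by
    by_contra hC1
    have hMt := normal_transitive (Ω := Ω) (Subgroup.centralizer (N : Set G)) inferInstance hC1
    refine hN1 (hpgrp N hN fun x => ?_)
    by_cases hx : x = 1
    · exact ⟨0, by simp [hx]⟩
    obtain ⟨k, hk⟩ := hder (x : G) fun ω hω => hx (Subtype.ext
      (eq_one_of_fixed_of_commute _ hMt (fun m hm => Subgroup.mem_centralizer_iff.1 hm x x.2) hω))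
    exact ⟨k, Subtype.ext (by rw [SubmonoidClass.coe_pow, ← hk]; exact pow_orderOf_eq_one _)⟩
  refine ⟨?_, hC⟩
  haveI : Nontrivial N := (Subgroup.nontrivial_iff_ne_bot N).2 hN1
  refine ⟨fun K hK => ?_⟩
  by_contra hK2
  push Not at hK2
  -- a minimal subgroup normalised by `N`
  let P : Subgroup G → Prop := fun T => T ≠ ⊥ ∧ T ≤ N ∧ ∀ n ∈ N, ∀ t ∈ T, n * t * n⁻¹ ∈ T
  have hK0 : P (K.map N.subtype) := by
    refine ⟨?_, Subgroup.map_subtype_le _, ?_⟩
    · rw [ne_eq, Subgroup.map_eq_bot_iff_of_injective _ N.subtype_injective]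
      exact hK2.1
    · rintro n hn t ⟨t', ht', rfl⟩
      exact ⟨⟨n, hn⟩ * t' * ⟨n, hn⟩⁻¹, hK.conj_mem t' ht' _, rfl⟩
  obtain ⟨T, hTK, hT⟩ := exists_minimal_le_of_wellFoundedLT P _ hK0
  obtain ⟨hT1, hTN, hTn⟩ := hT.prop
  have hTne : T ≠ N := by
    intro h
    apply hK2.2
    rw [eq_top_iff]
    intro x _
    have hx : (x : G) ∈ K.map N.subtype := hTK (h.symm ▸ x.2)
    obtain ⟨x', hx', hxx⟩ := hx
    obtain rfl : x' = x := Subtype.ext hxx
    exact hx'
  have hTmin : ∀ X : Subgroup G, X ≤ T → (∀ n ∈ N, ∀ t ∈ X, n * t * n⁻¹ ∈ X) → X = ⊥ ∨ X = T :=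
    fun X hX hXn => or_iff_not_imp_left.2 fun h =>
      le_antisymm hX (hT.2 ⟨h, hX.trans hTN, hXn⟩ hX)
  let C : Subgroup G := Subgroup.centralizer (T : Set G) ⊓ N
  have hCn : ∀ n ∈ N, ∀ c ∈ C, n * c * n⁻¹ ∈ C := by
    rintro n hn c ⟨hc, hcN⟩
    refine ⟨Subgroup.mem_centralizer_iff.2 fun t ht => ?_, hN.conj_mem c hcN n⟩
    have h1 : n⁻¹ * t * n ∈ T := by simpa using hTn n⁻¹ (N.inv_mem hn) t ht
    have h2 := Subgroup.mem_centralizer_iff.1 hc _ h1
    calc t * (n * c * n⁻¹) = n * ((n⁻¹ * t * n) * c) * n⁻¹ := by group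
      _ = n * (c * (n⁻¹ * t * n)) * n⁻¹ := by rw [h2]
      _ = n * c * n⁻¹ * t := by group
  -- the conjugates of `T` are equal to `T` or lie in `C`
  have hcjle : ∀ g, cj g T ≤ N := fun g x hx => by
    have := hN.conj_mem _ (hTN (mem_cj.1 hx)) g
    simpa [mul_assoc] using this
  have hcjn : ∀ g, ∀ n ∈ N, ∀ x ∈ cj g T, n * x * n⁻¹ ∈ cj g T := by
    intro g n hn x hx
    rw [mem_cj] at hx ⊢
    have h1 : g⁻¹ * n * g ∈ N := by simpa using hN.conj_mem n hn g⁻¹
    have h2 := hTn _ h1 _ hx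
    rwa [show g⁻¹ * (n * x * n⁻¹) * g = g⁻¹ * n * g * (g⁻¹ * x * g) * (g⁻¹ * n * g)⁻¹ by group]
  have hcj : ∀ g, T ≤ cj g T ∨ cj g T ≤ C := by
    intro g
    rcases hTmin (T ⊓ cj g T) inf_le_left
      (fun n hn t ht => ⟨hTn n hn t ht.1, hcjn g n hn t ht.2⟩) with h | h
    · refine Or.inr fun x hx => ⟨Subgroup.mem_centralizer_iff.2 fun t ht => ?_, hcjle g hx⟩
      have hm : t * x * t⁻¹ * x⁻¹ ∈ T ⊓ cj g T := by
        refine Subgroup.mem_inf.2 ⟨?_, mul_mem (hcjn g t (hTN ht) x hx) (inv_mem hx)⟩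
        rw [show t * x * t⁻¹ * x⁻¹ = t * (x * t⁻¹ * x⁻¹) by group]
        exact mul_mem ht (hTn x (hcjle g hx) _ (inv_mem ht))
      rw [h, Subgroup.mem_bot, mul_inv_eq_one, mul_inv_eq_iff_eq_mul] at hm
      exact hm
    · exact Or.inl (inf_eq_left.1 h)
  have hcjcard : ∀ g, T ≤ cj g T → cj g T = T := fun g h =>
    (Subgroup.eq_of_le_of_card_ge h (Subgroup.card_map_of_injective (MulEquiv.injective _)).le).symm
  obtain ⟨g₀, hg₀⟩ : ∃ g, cj g T ≤ C := by
    by_contra hne
    push Not at hne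
    have hTG : T.Normal := ⟨fun t ht g => by
      have := hcjcard g ((hcj g).resolve_right (hne g))
      rw [← this]
      exact mem_cj.2 (by simpa [mul_assoc] using ht)⟩
    exact (hmin T hTG hTN).elim hT1 hTne
  have hTC : T ⊔ C = N := by
    refine le_antisymm (sup_le hTN inf_le_right) ?_
    let M : Subgroup G := Subgroup.normalClosure (T : Set G)
    have hMN : M ≤ N := Subgroup.normalClosure_le_normal hTN
    rcases hmin M Subgroup.normalClosure_normal hMN with h | h
    · exact absurd (le_bot_iff.1 (h ▸ Subgroup.subset_normalClosure : T ≤ ⊥)) hT1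
    · refine h.symm.le.trans ((Subgroup.closure_le _).2 fun x hx => ?_)
      obtain ⟨t, ht, hconj⟩ := Group.mem_conjugatesOfSet_iff.1 hx
      obtain ⟨g, rfl⟩ := isConj_iff.1 hconj
      have hm : g * t * g⁻¹ ∈ cj g T := mem_cj.2 (by simpa [mul_assoc] using ht)
      rcases hcj g with h' | h'
      · exact Subgroup.mem_sup_left (hcjcard g h' ▸ hm)
      · exact Subgroup.mem_sup_right (h' hm)
  have hTab : ¬ (∀ a ∈ T, ∀ b ∈ T, a * b = b * a) := by
    intro hT2
    have hTZ : T ≤ Subgroup.centralizer (N : Set G) := by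
      intro a ha
      have hle : T ⊔ C ≤ Subgroup.centralizer ({a} : Set G) := by
        refine sup_le (fun b hb => ?_) fun c hc => ?_
        · exact Subgroup.mem_centralizer_singleton_iff.2 (hT2 b hb a ha)
        · exact Subgroup.mem_centralizer_singleton_iff.2 (Subgroup.mem_centralizer_iff.1 hc.1 a ha).symm
      rw [hTC] at hle
      exact Subgroup.mem_centralizer_iff.2 fun b hb =>
        Subgroup.mem_centralizer_singleton_iff.1 (hle hb)
    exact hT1 (le_bot_iff.1 (hC ▸ hTZ))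
  have hdisj : ∀ x ∈ T, x ∈ C → x = 1 := by
    rcases hTmin (T ⊓ C) inf_le_left
      (fun n hn t ht => ⟨hTn n hn t ht.1, hCn n hn t ht.2⟩) with h | h
    · intro x hx hx'
      exact (Subgroup.mem_bot).1 (h ▸ (⟨hx, hx'⟩ : x ∈ T ⊓ C))
    · exact absurd (fun a ha b hb =>
        Subgroup.mem_centralizer_iff.1 ((inf_eq_left.1 h) hb).1 a ha) hTab
  have hTp : ¬ IsPGroup p T := by
    intro hTp
    haveI : Nontrivial T := (Subgroup.nontrivial_iff_ne_bot T).2 hT1
    haveI := hTp.center_nontrivial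
    rcases hTmin ((Subgroup.center T).map T.subtype) (Subgroup.map_subtype_le _) (by
      rintro n hn _ ⟨z, hz, rfl⟩
      refine ⟨⟨n * z * n⁻¹, hTn n hn z z.2⟩, ?_, rfl⟩
      refine Subgroup.mem_center_iff.2 fun w => Subtype.ext ?_
      have hw : n⁻¹ * w * n ∈ T := by simpa using hTn n⁻¹ (N.inv_mem hn) w w.2
      have := congrArg Subtype.val (Subgroup.mem_center_iff.1 hz ⟨_, hw⟩)
      simp only [Subgroup.coe_mul] at this ⊢
      calc (w : G) * (n * z * n⁻¹) = n * (n⁻¹ * w * n * z) * n⁻¹ := by group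
        _ = n * (z * (n⁻¹ * w * n)) * n⁻¹ := by rw [this]
        _ = n * z * n⁻¹ * w := by group) with h | h
    · rw [Subgroup.map_eq_bot_iff_of_injective _ T.subtype_injective] at h
      exact (Subgroup.nontrivial_iff_ne_bot _).1 inferInstance h
    · refine hTab fun a ha b hb => ?_
      rw [← h] at ha
      obtain ⟨z, hz, rfl⟩ := ha
      exact (congrArg Subtype.val (Subgroup.mem_center_iff.1 hz ⟨b, hb⟩)).symm
  let K₀ : Ω → Subgroup G := fun ω => (stabilizer G ω ⊓ N) ⊔ C
  by_cases hcase : ∀ ω, N ≤ K₀ ω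
  · -- `T` moves every point
    apply hTp
    intro t
    by_cases ht : t = 1
    · exact ⟨0, by simp [ht]⟩
    obtain ⟨k, hk⟩ := hder (t : G) (fun ω hω => by
      let X : Subgroup G := T ⊓ stabilizer G ω
      have hnor : ∀ n ∈ K₀ ω, ∀ x ∈ X, n * x * n⁻¹ ∈ X ∧ n⁻¹ * x * n ∈ X := by
        intro n hn
        rw [show K₀ ω = Subgroup.closure (((stabilizer G ω ⊓ N : Subgroup G) : Set G) ∪ C) by
          rw [Subgroup.closure_union, Subgroup.closure_eq, Subgroup.closure_eq]] at hn
        induction hn using Subgroup.closure_induction with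
        | mem n hn =>
          intro x hx
          rcases hn with hn | hn
          · obtain ⟨hn1, hn2⟩ := Subgroup.mem_inf.1 hn
            obtain ⟨hx1, hx2⟩ := Subgroup.mem_inf.1 hx
            refine ⟨Subgroup.mem_inf.2 ⟨hTn n hn2 x hx1, ?_⟩, Subgroup.mem_inf.2 ⟨?_, ?_⟩⟩
            · exact mul_mem (mul_mem hn1 hx2) (inv_mem hn1)
            · simpa using hTn n⁻¹ (inv_mem hn2) x hx1
            · exact mul_mem (mul_mem (inv_mem hn1) hx2) hn1
          · have h := Subgroup.mem_centralizer_iff.1 hn.1 x hx.1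
            refine ⟨?_, ?_⟩
            · rwa [← h, mul_inv_cancel_right]
            · rwa [mul_assoc, h, inv_mul_cancel_left]
        | one => intro x hx; simpa using hx
        | mul a b _ _ ha hb =>
          intro x hx
          refine ⟨?_, ?_⟩
          · simpa [mul_assoc] using (ha _ (hb x hx).1).1
          · simpa [mul_assoc] using (hb _ (ha x hx).2).2
        | inv a _ ha => intro x hx; exact ⟨by simpa using (ha x hx).2, by simpa using (ha x hx).1⟩
      rcases hTmin X inf_le_left (fun n hn x hx => (hnor n (hcase ω hn) x hx).1) with h | h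
      · exact ht (Subtype.ext ((Subgroup.mem_bot).1 (h ▸ (⟨t.2, hω⟩ : (t : G) ∈ X))))
      · apply hT1
        rw [Subgroup.eq_bot_iff_forall]
        intro u hu
        refine eq_of_smul_eq_smul (α := Ω) fun y => ?_
        obtain ⟨n, rfl⟩ := htr.exists_smul_eq ω y
        rw [one_smul]
        have hu' : (n : G)⁻¹ * u * n ∈ X := h.symm ▸ (by simpa using hTn _ (inv_mem n.2) u hu)
        have hfix : ((n : G)⁻¹ * u * n) • ω = ω := hu'.2
        rw [mul_smul, mul_smul, inv_smul_eq_iff] at hfix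
        exact hfix)
    exact ⟨k, Subtype.ext (by rw [SubmonoidClass.coe_pow, ← hk]; exact pow_orderOf_eq_one _)⟩
  · push Not at hcase
    obtain ⟨ω, hω⟩ := hcase
    obtain ⟨⟨x, hxN⟩, hx⟩ := exists_notMem_conj (H := (K₀ ω).subgroupOf N)
      (fun h => hω (Subgroup.subgroupOf_eq_top.1 h))
    -- write `x` as a product
    have hprod : ∀ y ∈ T ⊔ C, ∃ a ∈ T, ∃ c ∈ C, y = a * c := by
      intro y hy
      rw [show T ⊔ C = Subgroup.closure ((T : Set G) ∪ C) by
        rw [Subgroup.closure_union, Subgroup.closure_eq, Subgroup.closure_eq]] at hy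
      induction hy using Subgroup.closure_induction with
      | mem y hy =>
        rcases hy with h | h
        · exact ⟨y, h, 1, one_mem _, (mul_one y).symm⟩
        · exact ⟨1, one_mem _, y, h, (one_mul y).symm⟩
      | one => exact ⟨1, one_mem _, 1, one_mem _, (mul_one 1).symm⟩
      | mul y z _ _ hy hz =>
        obtain ⟨a, ha, c, hc, rfl⟩ := hy
        obtain ⟨a', ha', c', hc', rfl⟩ := hz
        refine ⟨a * a', mul_mem ha ha', c * c', mul_mem hc hc', ?_⟩
        rw [mul_assoc a c, ← mul_assoc c a', ← Subgroup.mem_centralizer_iff.1 hc.1 a' ha']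
        group
      | inv y _ hy =>
        obtain ⟨a, ha, c, hc, rfl⟩ := hy
        refine ⟨a⁻¹, inv_mem ha, c⁻¹, inv_mem hc, ?_⟩
        rw [mul_inv_rev, Subgroup.mem_centralizer_iff.1 (inv_mem hc).1 a⁻¹ (inv_mem ha)]
    obtain ⟨a, ha, c, hc, rfl⟩ := hprod x (hTC.symm ▸ hxN)
    have hCp : IsPGroup p C := by
      rintro ⟨u, hu⟩
      obtain ⟨k, hk⟩ := hder (a * u) (fun y hy => by
        obtain ⟨n, rfl⟩ := htr.exists_smul_eq ω y
        apply hx n⁻¹
        rw [Subgroup.mem_subgroupOf]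
        change (n : G)⁻¹ * (a * c) * ((n : G)⁻¹)⁻¹ ∈ K₀ ω
        rw [inv_inv, show (n : G)⁻¹ * (a * c) * n =
          ((n : G)⁻¹ * (a * u) * n) * ((n : G)⁻¹ * (u⁻¹ * c) * n) by group]
        refine Subgroup.mul_mem_sup (Subgroup.mem_inf.2 ⟨?_, ?_⟩) ?_
        · rw [mem_stabilizer_iff, mul_smul, mul_smul, inv_smul_eq_iff,
            ← mul_smul]
          rw [mul_smul]; exact hy
        · exact mul_mem (mul_mem (inv_mem n.2) (mul_mem (hTN ha) (Subgroup.mem_inf.1 hu).2)) n.2
        · simpa using hCn _ (inv_mem n.2) _ (mul_mem (inv_mem hu) hc))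
      refine ⟨k, Subtype.ext ?_⟩
      rw [SubmonoidClass.coe_pow, Subgroup.coe_one]
      have h1 := pow_orderOf_eq_one (a * u)
      rw [hk, Commute.mul_pow (Subgroup.mem_centralizer_iff.1 hu.1 a ha)] at h1
      refine hdisj _ ?_ (pow_mem hu _)
      rw [← inv_eq_of_mul_eq_one_right h1]
      exact inv_mem (pow_mem ha _)
    apply hTp
    exact (hCp.to_le hg₀).of_equiv
      (T.equivMapOfInjective _ (MulEquiv.injective (MulAut.conj g₀))).symm

/-- Let G act faithfully and primitively on a finite set with at least two points, and suppose that for some fixed prime p every element of G fixing no point has order a power of p. Then G is of affine type (it has a regular normal subgroup that is an elementary abelian r-group for some prime r) or almost simple (it has a non-abelian simple normal subgroup with trivial centralizer). -/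
theorem result {G Ω : Type*} [Group G] [Finite G] [MulAction G Ω] [FaithfulSMul G Ω] [Finite Ω]
    (hprim : MulAction.IsPreprimitive G Ω) (hΩ : 2 ≤ Nat.card Ω) (p : ℕ) (hp : p.Prime)
    (hder : ∀ g : G, (∀ ω : Ω, g • ω ≠ ω) → ∃ k : ℕ, orderOf g = p ^ k) :
    (∃ (N : Subgroup G) (r : ℕ), r.Prime ∧ N.Normal ∧ Cfsg.IsElementaryAbelian r N ∧
      MulAction.IsPretransitive N Ω ∧ ∀ a : Ω, MulAction.stabilizer N a = ⊥) ∨
    (∃ T : Subgroup G, T.Normal ∧ IsSimpleGroup ↥T ∧ ¬ IsMulCommutative ↥T ∧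
      Subgroup.centralizer (T : Set G) = ⊥) := by
  haveI := hprim
  haveI : Nontrivial Ω := (Finite.one_lt_card_iff_nontrivial).1 hΩ
  by_cases hab : ∀ A : Subgroup G, A.Normal → IsMulCommutative A → A = ⊥
  · obtain ⟨x, y, hxy⟩ := exists_pair_ne Ω
    obtain ⟨g, hg⟩ := MulAction.exists_smul_eq G x y
    haveI : Nontrivial G := ⟨⟨g, 1, fun h => hxy (by rw [← hg, h, one_smul])⟩⟩
    obtain ⟨N, -, hN, hN1, hmin⟩ := exists_minimal_normal (G := G) (K := ⊤) inferInstance top_ne_bot
    obtain ⟨h1, h2⟩ := no_derangements_only_p p hp hder hab N hN hN1 hmin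
    exact Or.inr ⟨N, hN, h1, fun hc => hN1 (hab N hN hc), h2⟩
  · push Not at hab
    obtain ⟨A, hA, hAc, hA1⟩ := hab
    obtain ⟨N, hNA, hN, hN1, hmin⟩ := exists_minimal_normal hA hA1
    have hNc : IsMulCommutative N := ⟨⟨fun a b => Subtype.ext (by
      simpa using congrArg Subtype.val (hAc.is_comm.comm ⟨a, hNA a.2⟩ ⟨b, hNA b.2⟩))⟩⟩
    obtain ⟨r, hr, hpow⟩ := exists_prime_pow_eq_one hN hN1 hNc hmin
    have htr : MulAction.IsPretransitive N Ω := normal_transitive N hN hN1
    refine Or.inl ⟨N, r, hr, hN, ⟨hNc, hpow⟩, htr, fun a => ?_⟩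
    rw [Subgroup.eq_bot_iff_forall]
    intro x hx
    exact Subtype.ext (eq_one_of_fixed_of_commute N htr
      (fun m hm => congrArg Subtype.val (hNc.is_comm.comm x ⟨m, hm⟩)) hx)

end Cfsg.Agent.S3556
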