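import Cfsg.Statements.S3557
import Mathlib
import Cfsg.Agent.Lib.Fusion.NormalRankTwo
-- import your own Cfsg.Agent.* helpers here

set_option autoImplicit false
open Cfsg

namespace Cfsg.Agent.S3557

/-- Let G act faithfully and transitively on a finite set with 2p² points, p a prime, and suppose G is 2-closed: every permutation of the set which, on each ordered pair of points, agrees with some element of G, is itself induced by an element of G. Then some element of G of prime order fixes no point. -/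
theorem result {G Ω : Type*} [Group G] [Finite G] [MulAction G Ω] [FaithfulSMul G Ω] [Finite Ω]
    (htrans : MulAction.IsPretransitive G Ω) (p : ℕ) (hp : p.Prime) (hcard : Nat.card Ω = 2 * p ^ 2)
    (hcl : ∀ σ : Equiv.Perm Ω, (∀ a b : Ω, ∃ g : G, σ a = g • a ∧ σ b = g • b) → ∃ g : G, ∀ a : Ω, σ a = g • a) :
    ∃ g : G, (orderOf g).Prime ∧ ∀ ω : Ω, g • ω ≠ ω := by
  classical
  have hpf : Fact p.Prime := ⟨hp⟩
  have : NeZero p := ⟨hp.ne_zero⟩
  have hne : Nonempty Ω := by
    rw [← not_isEmpty_iff]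
    intro h
    have := hp.pos
    rw [Nat.card_of_isEmpty] at hcard
    nlinarith
  obtain ⟨a₀⟩ := hne
  let P : Sylow p G := default
  have hP : IsPGroup p ↥(P : Subgroup G) := P.2
  -- every orbit of the Sylow subgroup has at least `p ^ 2` points
  have horb : ∀ ω : Ω, p ^ 2 ∣ Nat.card (MulAction.orbit ↥(P : Subgroup G) ω) ∧
      ∃ k, Nat.card (MulAction.orbit ↥(P : Subgroup G) ω) = p ^ k := by
    intro ω
    have h1 : Nat.card (MulAction.orbit ↥(P : Subgroup G) ω) * Nat.card (MulAction.stabilizer ↥(P : Subgroup G) ω) =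
        Nat.card ↥(P : Subgroup G) := by
      rw [← Nat.card_prod, Nat.card_congr (MulAction.orbitProdStabilizerEquivGroup ↥(P : Subgroup G) ω)]
    obtain ⟨n, hn⟩ := hP.exists_card_eq
    obtain ⟨k, -, hk⟩ := (Nat.dvd_prime_pow hp).mp (hn ▸ Dvd.intro _ h1)
    refine ⟨?_, k, hk⟩
    have h2 : Nat.card Ω * Nat.card (MulAction.stabilizer G ω) = Nat.card G := by
      rw [← MulAction.index_stabilizer_of_transitive G ω, mul_comm, Subgroup.card_mul_index]
    have h3 : Nat.card (MulAction.stabilizer ↥(P : Subgroup G) ω) ∣ Nat.card (MulAction.stabilizer G ω) :=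
      Subgroup.card_dvd_of_injective
        (((P : Subgroup G).subtype.comp (MulAction.stabilizer ↥(P : Subgroup G) ω).subtype).codRestrict
          (MulAction.stabilizer G ω) fun x => x.2)
        (fun x y h => Subtype.ext (Subtype.ext (congrArg (fun w : MulAction.stabilizer G ω => (w : G)) h)))
    have h4 : p ^ 2 * Nat.card (MulAction.stabilizer ↥(P : Subgroup G) ω) ∣ Nat.card G := by
      rw [← h2, hcard, mul_assoc 2, ← mul_assoc]
      exact dvd_trans (Nat.mul_dvd_mul_left _ h3) (Nat.mul_dvd_mul_right (Dvd.intro_left _ rfl) _)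
    obtain ⟨j, hj⟩ := (hP.to_subgroup (MulAction.stabilizer ↥(P : Subgroup G) ω)).exists_card_eq
    rw [hj, ← pow_add] at h4
    have h5 : p ^ (2 + j) ∣ Nat.card ↥(P : Subgroup G) := P.pow_dvd_card_of_pow_dvd_card h4
    rw [← h1, hj, pow_add] at h5
    exact Nat.dvd_of_mul_dvd_mul_right (pow_pos hp.pos j) h5
  have hlarge : ∀ ω : Ω, p ^ 2 ≤ Nat.card (MulAction.orbit ↥(P : Subgroup G) ω) := fun ω =>
    haveI : Nonempty (MulAction.orbit ↥(P : Subgroup G) ω) := (MulAction.nonempty_orbit ω).to_subtype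
    Nat.le_of_dvd Nat.card_pos (horb ω).1
  -- a central element fixes a point only if it fixes the orbit
  have hcent : ∀ (z : ↥(P : Subgroup G)), (∀ h, h * z = z * h) → ∀ ω ω' : Ω,
      ω' ∈ MulAction.orbit ↥(P : Subgroup G) ω → z • ω = ω → z • ω' = ω' := by
    rintro z hz ω _ ⟨h, rfl⟩ hω
    show z • h • ω = h • ω
    rw [← mul_smul, ← hz h, mul_smul, hω]
  have hPne : Nontrivial ↥(P : Subgroup G) := by
    by_contra h
    rw [not_nontrivial_iff_subsingleton] at h
    have := hlarge a₀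
    have h2 : Nat.card (MulAction.orbit ↥(P : Subgroup G) a₀) ≤ 1 :=
      Finite.card_le_one_iff_subsingleton.mpr ⟨fun ⟨_, g, hg⟩ ⟨_, g', hg'⟩ =>
        Subtype.ext (hg.symm.trans ((congrArg (fun m => m • a₀) (Subsingleton.elim g g')).trans hg'))⟩
    have : 1 < p ^ 2 := Nat.one_lt_pow two_ne_zero hp.one_lt
    omega
  -- central elements of order `p` in a nontrivial normal subgroup
  have hexz : ∀ N : Subgroup ↥(P : Subgroup G), N.Normal → N ≠ ⊥ →
      ∃ z ∈ N, z ≠ 1 ∧ z ^ p = 1 ∧ ∀ h, h * z = z * h := by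
    intro N hN hN1
    obtain ⟨x, hxN, hx1, hxp, hxc⟩ := CfsgLib.Fusion.NormalRankTwo.exists_central_of_lt
      (M := (⊥ : Subgroup ↥(P : Subgroup G))) (N := N) hP (fun h => hN1 (le_bot_iff.mp h))
    exact ⟨x, hxN, by simpa using hx1, by simpa using hxp,
      fun h => commutatorElement_eq_one_iff_mul_comm.mp (by simpa using hxc h)⟩
  have hfinish : ∀ g : G, g ^ p = 1 → (∀ ω : Ω, g • ω ≠ ω) → ∃ g : G, (orderOf g).Prime ∧ ∀ ω : Ω, g • ω ≠ ω := by
    intro g hg hfree
    refine ⟨g, ?_, hfree⟩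
    rw [orderOf_eq_prime hg (fun h => hfree a₀ (by rw [h, one_smul]))]
    exact hp
  let Δ₁ := MulAction.orbit ↥(P : Subgroup G) a₀
  by_cases htr : ∀ ω : Ω, ω ∈ Δ₁
  · obtain ⟨z, -, hz1, hzp, hzc⟩ := hexz ⊤ inferInstance top_ne_bot
    refine hfinish z (congrArg Subtype.val hzp) fun ω hω => hz1 ?_
    apply Subtype.ext
    apply FaithfulSMul.eq_of_smul_eq_smul (α := Ω)
    intro ω'
    rw [Subgroup.coe_one, one_smul]
    exact hcent z hzc ω ω' (by rw [MulAction.orbit_eq_iff.mpr (htr ω)]; exact htr ω') hω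
  simp only [not_forall] at htr
  obtain ⟨b₀, hb₀⟩ := htr
  let Δ₂ := MulAction.orbit ↥(P : Subgroup G) b₀
  have hdisj : ∀ ω, ω ∈ Δ₁ → ω ∉ Δ₂ := fun ω h1 h2 => hb₀ (by
    show b₀ ∈ MulAction.orbit _ a₀
    rw [← MulAction.orbit_eq_iff.mpr h1, MulAction.orbit_eq_iff.mpr h2]
    exact MulAction.mem_orbit_self b₀)
  have hsplit : Nat.card Δ₁ = p ^ 2 ∧ Nat.card Δ₂ = p ^ 2 ∧ ∀ ω, ω ∈ Δ₁ ∨ ω ∈ Δ₂ := by
    have h1 := hlarge a₀
    have h2 := hlarge b₀
    have hdd : Disjoint Δ₁ Δ₂ := Set.disjoint_left.mpr hdisj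
    have h3 : Nat.card (↥(Δ₁ ∪ Δ₂)) = Nat.card Δ₁ + Nat.card Δ₂ := by
      rw [Nat.card_coe_set_eq, Nat.card_coe_set_eq, Nat.card_coe_set_eq, Set.ncard_union_eq hdd]
    have h4 : Nat.card (↥(Δ₁ ∪ Δ₂)) ≤ Nat.card Ω := Finite.card_subtype_le _
    have h5 : (Δ₁ ∪ Δ₂) = Set.univ := by
      apply Set.eq_of_subset_of_ncard_le (Set.subset_univ _)
      rw [Set.ncard_univ, ← Nat.card_coe_set_eq, h3, hcard]
      change p ^ 2 ≤ Nat.card Δ₁ at h1
      change p ^ 2 ≤ Nat.card Δ₂ at h2
      omega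
    change p ^ 2 ≤ Nat.card Δ₁ at h1
    change p ^ 2 ≤ Nat.card Δ₂ at h2
    rw [h3, hcard] at h4
    exact ⟨by omega, by omega, fun ω => by have := Set.mem_univ ω; rwa [← h5] at this⟩
  obtain ⟨hc1, hc2, hcov⟩ := hsplit
  -- kernels
  let ker : Ω → Subgroup ↥(P : Subgroup G) := fun c =>
    fixingSubgroup ↥(P : Subgroup G) (MulAction.orbit ↥(P : Subgroup G) c)
  have hkermem : ∀ c g, g ∈ ker c ↔ ∀ ω ∈ MulAction.orbit ↥(P : Subgroup G) c, g • ω = ω := fun c g =>
    mem_fixingSubgroup_iff _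
  have hkern : ∀ c, (ker c).Normal := fun c => ⟨fun g hg h => (hkermem c _).mpr fun ω hω => by
    rw [mul_smul, mul_smul, (hkermem c g).mp hg _ (MulAction.mem_orbit_of_mem_orbit h⁻¹ hω), smul_inv_smul]⟩
  have hsame : ∀ (c : Ω) (g : ↥(P : Subgroup G)), (∀ h, h * g = g * h) → g ∉ ker c →
      ∀ ω ∈ MulAction.orbit ↥(P : Subgroup G) c, g • ω ≠ ω := by
    intro c g hg hgk ω hω hfix
    apply hgk
    rw [hkermem]
    intro ω' hω'
    exact hcent g hg ω ω' (by rw [MulAction.orbit_eq_iff.mpr hω]; exact hω') hfix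
  have hmeet : ∀ g : ↥(P : Subgroup G), g ∈ ker a₀ → g ∈ ker b₀ → g = 1 := by
    intro g h1 h2
    apply Subtype.ext
    apply FaithfulSMul.eq_of_smul_eq_smul (α := Ω)
    intro ω
    rw [Subgroup.coe_one, one_smul]
    rcases hcov ω with h | h
    · exact (hkermem a₀ g).mp h1 ω h
    · exact (hkermem b₀ g).mp h2 ω h
  -- the main case: `ker c = ⊥`, `ker d ≠ ⊥`
  have hmain : ∀ c d : Ω, Nat.card (MulAction.orbit ↥(P : Subgroup G) c) = p ^ 2 →
      Nat.card (MulAction.orbit ↥(P : Subgroup G) d) = p ^ 2 →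
      (∀ ω, ω ∈ MulAction.orbit ↥(P : Subgroup G) c ∨ ω ∈ MulAction.orbit ↥(P : Subgroup G) d) →
      (∀ ω, ω ∈ MulAction.orbit ↥(P : Subgroup G) c → ω ∉ MulAction.orbit ↥(P : Subgroup G) d) →
      ker c = ⊥ → ker d ≠ ⊥ → ∃ g : G, (orderOf g).Prime ∧ ∀ ω : Ω, g • ω ≠ ω := by
    intro c d hc hd hcv hdj hkc hkd
    have := hkern d
    obtain ⟨z, hzd, hz1, hzp, hzc⟩ := hexz (ker d) (hkern d) hkd
    set St := MulAction.stabilizer ↥(P : Subgroup G) c with hSt
    set N := ker d ⊔ St with hN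
    have hSti : St.index = p ^ 2 := by
      rw [hSt, MulAction.index_stabilizer, ← Nat.card_coe_set_eq]; exact hc
    have hNi : N.index ∣ p ∧ St < N := by
      have hlt : St < N := by
        refine lt_of_le_of_ne le_sup_right fun h => hsame c z hzc (by
          rw [hkc, Subgroup.mem_bot]; exact hz1) c (MulAction.mem_orbit_self c) ?_
        have : z ∈ St := h ▸ Subgroup.mem_sup_left hzd
        exact this
      refine ⟨?_, hlt⟩
      have h1 := Subgroup.relIndex_mul_index hlt.le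
      rw [hSti] at h1
      obtain ⟨k, hk2, hk⟩ := (Nat.dvd_prime_pow hp).mp (Dvd.intro_left _ h1)
      rw [hk]
      have hk' : k ≠ 2 := fun h => by
        rw [hk, h] at h1
        have hr : St.relIndex N = 1 := (mul_eq_right₀ (pow_ne_zero 2 hp.ne_zero)).mp h1
        exact hlt.not_ge (Subgroup.relIndex_eq_one.mp hr)
      calc p ^ k ∣ p ^ 1 := Nat.pow_dvd_pow p (by omega)
        _ = p := pow_one p
    have hNn : N.Normal := by
      rcases (Nat.dvd_prime hp).mp hNi.1 with h | h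
      · rw [Subgroup.index_eq_one.mp h]; infer_instance
      · apply Subgroup.normal_of_index_eq_minFac_card
        obtain ⟨k, hk⟩ := hP.exists_card_eq
        have hk0 : k ≠ 0 := fun h0 => by
          rw [h0, pow_zero] at hk
          exact absurd hk Finite.one_lt_card.ne'
        rw [h, hk, Nat.pow_minFac hk0, hp.minFac_eq]
    have hblock : ∀ g ∈ N, ∀ ω ∈ MulAction.orbit ↥(P : Subgroup G) c, ∃ k ∈ ker d, k • ω = g • ω := by
      rintro g hg _ ⟨h, rfl⟩
      have h1 : h⁻¹ * g * h ∈ N := by simpa [mul_assoc] using hNn.conj_mem g hg h⁻¹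
      obtain ⟨k, hk, s, hs, hks⟩ := Subgroup.mem_sup_of_normal_left.mp h1
      refine ⟨h * k * h⁻¹, (hkern d).conj_mem k hk h, ?_⟩
      show (h * k * h⁻¹) • h • c = g • h • c
      rw [← mul_smul, ← mul_smul, show g * h = h * (h⁻¹ * g * h) by group, ← hks, inv_mul_cancel_right,
        ← mul_assoc, mul_smul (h * k) s c, show s • c = c from hs]
    have hNd : ¬ N ≤ ker d := by
      intro h
      have h1 : (ker d).index ∣ p := (Subgroup.index_dvd_of_le h).trans hNi.1
      have h2 : ker d ≤ MulAction.stabilizer ↥(P : Subgroup G) d := fun g hg =>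
        (hkermem d g).mp hg d (MulAction.mem_orbit_self d)
      have h3 := Subgroup.index_dvd_of_le h2
      rw [MulAction.index_stabilizer, ← Nat.card_coe_set_eq, hd] at h3
      have h4 := Nat.le_of_dvd hp.pos (h3.trans h1)
      have : p ^ 1 < p ^ 2 := Nat.pow_lt_pow_right hp.one_lt one_lt_two
      rw [pow_one] at this
      omega
    have := hNn
    obtain ⟨x, hxN, hxd, hxp, hxc⟩ := CfsgLib.Fusion.NormalRankTwo.exists_central_of_lt
      (M := ker d) (N := N) hP hNd
    have hxfree : ∀ ω ∈ MulAction.orbit ↥(P : Subgroup G) d, x • ω ≠ ω := by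
      rintro _ ⟨h, rfl⟩ hfix
      apply hxd
      rw [hkermem]
      rintro _ ⟨u, rfl⟩
      have hcomm : ∀ (v : ↥(P : Subgroup G)) (ω : Ω), ω ∈ MulAction.orbit ↥(P : Subgroup G) d → v • x • ω = x • v • ω := by
        intro v ω hω
        have hvω : x • v • ω ∈ MulAction.orbit ↥(P : Subgroup G) d :=
          MulAction.mem_orbit_of_mem_orbit x (MulAction.mem_orbit_of_mem_orbit v hω)
        have := (hkermem d _).mp (hxc v) _ hvω
        rw [← mul_smul, ← mul_smul] at this
        rw [← mul_smul, ← mul_smul]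
        refine Eq.trans ?_ (this.trans (mul_smul x v ω).symm)
        rw [commutatorElement_def]
        congr 1
        group
      show x • u • d = u • d
      have h1 := hcomm (u * h⁻¹) (h • d) ⟨h, rfl⟩
      rw [show x • h • d = h • d from hfix, ← mul_smul, inv_mul_cancel_right] at h1
      exact h1.symm
    let C := MulAction.orbit ↥(P : Subgroup G) c
    let f : Ω → Ω := fun ω => if ω ∈ C then z • ω else x • ω
    have hf1 : ∀ ω ∈ C, f ω = z • ω := fun ω h => if_pos h
    have hf2 : ∀ ω ∉ C, f ω = x • ω := fun ω h => if_neg h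
    have hinC : ∀ (g : ↥(P : Subgroup G)) ω, g • ω ∈ C ↔ ω ∈ C := fun g ω =>
      ⟨fun h => by simpa using MulAction.mem_orbit_of_mem_orbit g⁻¹ h, fun h => MulAction.mem_orbit_of_mem_orbit g h⟩
    have hinj : Function.Injective f := by
      intro u v huv
      by_cases hu : u ∈ C <;> by_cases hv : v ∈ C
      · rw [hf1 u hu, hf1 v hv] at huv; exact MulAction.injective z huv
      · rw [hf1 u hu, hf2 v hv] at huv
        exact absurd ((hinC x v).mp (huv ▸ (hinC z u).mpr hu)) hv
      · rw [hf2 u hu, hf1 v hv] at huv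
        exact absurd ((hinC x u).mp (huv ▸ (hinC z v).mpr hv)) hu
      · rw [hf2 u hu, hf2 v hv] at huv; exact MulAction.injective x huv
    let σ : Equiv.Perm Ω := Equiv.ofBijective f (Finite.injective_iff_bijective.mp hinj)
    have hd' : ∀ ω ∉ C, ω ∈ MulAction.orbit ↥(P : Subgroup G) d := fun ω h => (hcv ω).resolve_left h
    have cross : ∀ u ∈ C, ∀ v ∉ C, ∃ g : ↥(P : Subgroup G), g • u = z • u ∧ g • v = x • v := by
      intro u hu v hv
      have hzN : z ∈ N := Subgroup.mem_sup_left hzd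
      obtain ⟨k, hk, hku⟩ := hblock (z * x⁻¹) (N.mul_mem hzN (N.inv_mem hxN)) (x • u) ((hinC x u).mpr hu)
      refine ⟨k * x, ?_, ?_⟩
      · rw [mul_smul, hku, mul_smul, inv_smul_smul]
      · rw [mul_smul, (hkermem d k).mp hk _ (MulAction.mem_orbit_of_mem_orbit x (hd' v hv))]
    obtain ⟨g, hg⟩ := hcl σ (by
      intro u v
      show ∃ g : G, f u = g • u ∧ f v = g • v
      by_cases hu : u ∈ C <;> by_cases hv : v ∈ C
      · exact ⟨z, hf1 u hu, hf1 v hv⟩
      · obtain ⟨k, h1, h2⟩ := cross u hu v hv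
        exact ⟨k, (hf1 u hu).trans h1.symm, (hf2 v hv).trans h2.symm⟩
      · obtain ⟨k, h1, h2⟩ := cross v hv u hu
        exact ⟨k, (hf2 u hu).trans h2.symm, (hf1 v hv).trans h1.symm⟩
      · exact ⟨x, hf2 u hu, hf2 v hv⟩)
    have hg' : ∀ ω, g • ω = f ω := fun ω => (hg ω).symm
    refine hfinish g ?_ ?_
    · apply FaithfulSMul.eq_of_smul_eq_smul (α := Ω)
      intro ω
      rw [one_smul]
      by_cases hω : ω ∈ C
      · have : ∀ k : ℕ, g ^ k • ω = (z ^ k) • ω := by
          intro k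
          induction k with
          | zero => simp
          | succ k ih => rw [pow_succ', mul_smul, ih, hg', hf1 _ ((hinC _ _).mpr hω), ← mul_smul, ← pow_succ']
        rw [this, hzp, one_smul]
      · have : ∀ k : ℕ, g ^ k • ω = (x ^ k) • ω := by
          intro k
          induction k with
          | zero => simp
          | succ k ih => rw [pow_succ', mul_smul, ih, hg', hf2 _ (fun h => hω ((hinC _ _).mp h)), ← mul_smul, ← pow_succ']
        rw [this, (hkermem d _).mp hxp ω (hd' ω hω)]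
    · intro ω hω
      rw [hg'] at hω
      by_cases h : ω ∈ C
      · rw [hf1 ω h] at hω
        exact hsame c z hzc (by rw [hkc, Subgroup.mem_bot]; exact hz1) ω h hω
      · rw [hf2 ω h] at hω
        exact hxfree ω (hd' ω h) hω
  by_cases hka : ker a₀ = ⊥
  · by_cases hkb : ker b₀ = ⊥
    · obtain ⟨z, -, hz1, hzp, hzc⟩ := hexz ⊤ inferInstance top_ne_bot
      refine hfinish z (congrArg Subtype.val hzp) fun ω => ?_
      rcases hcov ω with h | h
      · exact hsame a₀ z hzc (by rw [hka, Subgroup.mem_bot]; exact hz1) ω h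
      · exact hsame b₀ z hzc (by rw [hkb, Subgroup.mem_bot]; exact hz1) ω h
    · exact hmain a₀ b₀ hc1 hc2 hcov hdisj hka hkb
  · by_cases hkb : ker b₀ = ⊥
    · exact hmain b₀ a₀ hc2 hc1 (fun ω => (hcov ω).symm) (fun ω h h' => hdisj ω h' h) hkb hka
    · obtain ⟨z1, hz1k, hz1, hz1p, hz1c⟩ := hexz (ker a₀) (hkern a₀) hka
      obtain ⟨z2, hz2k, hz2, hz2p, hz2c⟩ := hexz (ker b₀) (hkern b₀) hkb
      refine hfinish ((z1 * z2 : ↥(P : Subgroup G)) : G) ?_ fun ω => ?_
      · rw [← SubgroupClass.coe_pow, (Commute.mul_pow (hz2c z1) p), hz1p, hz2p, one_mul, Subgroup.coe_one]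
      · show (z1 * z2) • ω ≠ ω
        rw [mul_smul]
        rcases hcov ω with h | h
        · intro he
          rw [(hkermem a₀ z1).mp hz1k _ (MulAction.mem_orbit_of_mem_orbit z2 h)] at he
          exact hsame a₀ z2 hz2c (fun hh => hz2 (hmeet z2 hh hz2k)) ω h he
        · rw [(hkermem b₀ z2).mp hz2k ω h]
          exact hsame b₀ z1 hz1c (fun hh => hz1 (hmeet z1 hz1k hh)) ω h

end Cfsg.Agent.S3557
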