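import Cfsg.Statements.S3560


set_option linter.style.haveILetI false

set_option autoImplicit false
open Cfsg

namespace Cfsg.Agent.S3560

variable {ι : Type*} {m n : ℕ}

/-- Hamming distance one. -/
def d1 (u v : ι → Fin m) : Prop := ∃ i, u i ≠ v i ∧ ∀ j, j ≠ i → u j = v j

lemma d1_map (π : ι → Equiv.Perm (Fin m)) (u v : ι → Fin m) :
    d1 u v ↔ d1 (fun i => π i (u i)) (fun i => π i (v i)) := by
  refine exists_congr fun i => and_congr (π i).injective.ne_iff.symm ?_
  exact forall_congr' fun j => imp_congr Iff.rfl (π j).injective.eq_iff.symm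

lemma d1_comp (σ : Equiv.Perm ι) (u v : ι → Fin m) : d1 u v ↔ d1 (u ∘ σ) (v ∘ σ) := by
  constructor
  · rintro ⟨i, hi, hj⟩
    exact ⟨σ.symm i, by simpa using hi, fun j h => hj _ fun e => h (by simp [← e])⟩
  · rintro ⟨i, hi, hj⟩
    exact ⟨σ i, hi, fun j h => by simpa using hj (σ.symm j) fun e => h (by simp [← e])⟩

/-- The automorphism group of the Hamming graph. -/
def graphAut (E : Fin n ≃ (ι → Fin m)) : Subgroup (Equiv.Perm (Fin n)) where
  carrier := {g | ∀ a b, d1 (E a) (E b) ↔ d1 (E (g a)) (E (g b))}
  mul_mem' := fun {g h} hg hh a b => (hh a b).trans (hg (h a) (h b))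
  one_mem' := fun a b => Iff.rfl
  inv_mem' := fun {g} hg a b => by
    conv_rhs => rw [hg (g⁻¹ a) (g⁻¹ b)]
    simp

lemma primitive [Fintype ι] [DecidableEq ι] (hm : 3 ≤ m) (E : Fin n ≃ (ι → Fin m)) :
    MulAction.IsPreprimitive (graphAut E) (Fin n) := by
  let coord : (ι → Equiv.Perm (Fin m)) → graphAut E := fun π =>
    ⟨E.symm.permCongr (Equiv.piCongrRight π), fun a b => by
      simp only [Equiv.permCongr_apply, Equiv.symm_symm, Equiv.apply_symm_apply]
      exact d1_map π (E a) (E b)⟩
  let perm : Equiv.Perm ι → graphAut E := fun σ =>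
    ⟨E.symm.permCongr (σ.symm.arrowCongr (Equiv.refl (Fin m))), fun a b => by
      simp only [Equiv.permCongr_apply, Equiv.symm_symm, Equiv.apply_symm_apply]
      exact d1_comp σ (E a) (E b)⟩
  have hcoord : ∀ π a, coord π • a = E.symm (fun i => π i (E a i)) := fun _ _ => rfl
  have hperm : ∀ σ a, perm σ • a = E.symm (fun i => E a (σ i)) := fun _ _ => rfl
  haveI htr : MulAction.IsPretransitive (graphAut E) (Fin n) := by
    refine ⟨fun a b => ⟨coord fun i => Equiv.swap (E a i) (E b i), ?_⟩⟩
    rw [hcoord]
    simp
  refine MulAction.IsPreprimitive.mk fun {B} hB => ?_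
  rcases B.subsingleton_or_nontrivial with hs | ⟨x, hx, y, hy, hxy⟩
  · exact Or.inl hs
  right
  have stab : ∀ (g : graphAut E), ∀ a ∈ B, g • a ∈ B → ∀ b ∈ B, g • b ∈ B := by
    intro g a ha hga b hb
    have := MulAction.isBlock_iff_smul_eq_of_mem.1 hB ha hga
    rw [← this]
    exact ⟨b, hb, rfl⟩
  obtain ⟨i, hi⟩ : ∃ i, E x i ≠ E y i := by
    by_contra hcon
    push Not at hcon
    exact hxy (E.injective (funext hcon))
  obtain ⟨z, hzx, hzy⟩ : ∃ z : Fin m, z ≠ E x i ∧ z ≠ E y i := by
    by_contra hcon
    push Not at hcon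
    have h : (Finset.univ : Finset (Fin m)) ⊆ {E x i, E y i} := fun z _ => by
      simp only [Finset.mem_insert, Finset.mem_singleton]
      exact (em (z = E x i)).imp id (hcon z)
    have := (Finset.card_le_card h).trans Finset.card_le_two
    rw [Finset.card_univ, Fintype.card_fin] at this
    omega
  set y' := E.symm (Function.update (E y) i z) with hy'def
  have hy' : y' ∈ B := by
    let π : ι → Equiv.Perm (Fin m) := Function.update (fun _ => 1) i (Equiv.swap (E y i) z)
    have hfx : coord π • x = x := by
      rw [hcoord, Equiv.symm_apply_eq]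
      funext j
      rcases eq_or_ne j i with rfl | hj
      · simp [π, Equiv.swap_apply_of_ne_of_ne hi hzx.symm]
      · simp [π, hj]
    have hfy : coord π • y = y' := by
      rw [hcoord, hy'def, EmbeddingLike.apply_eq_iff_eq]
      funext j
      rcases eq_or_ne j i with rfl | hj
      · simp [π]
      · simp [π, hj]
    rw [← hfy]
    exact stab _ x hx (by rw [hfx]; exact hx) y hy
  have line : ∀ t, E.symm (Function.update (E y) i t) ∈ B := by
    intro t
    by_cases ht : t = E y i
    · rw [ht, Function.update_eq_self, E.symm_apply_apply]; exact hy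
    let π : ι → Equiv.Perm (Fin m) := Function.update (fun _ => 1) i (Equiv.swap z t)
    have hfy : coord π • y = y := by
      rw [hcoord, Equiv.symm_apply_eq]
      funext j
      rcases eq_or_ne j i with rfl | hj
      · simp [π, Equiv.swap_apply_of_ne_of_ne hzy.symm (Ne.symm ht)]
      · simp [π, hj]
    have hfy' : coord π • y' = E.symm (Function.update (E y) i t) := by
      rw [hcoord, EmbeddingLike.apply_eq_iff_eq]
      funext j
      rcases eq_or_ne j i with rfl | hj
      · simp [π, hy'def]
      · simp [π, hy'def, hj]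
    rw [← hfy']
    exact stab _ y hy (by rw [hfy]; exact hy) y' hy'
  have lines : ∀ j t, E.symm (Function.update (E y) j t) ∈ B := by
    intro j t
    let π : ι → Equiv.Perm (Fin m) := fun k => Equiv.swap (E y (Equiv.swap i j k)) (E y k)
    have happ : ∀ a, coord π • (perm (Equiv.swap i j) • a) =
        E.symm (fun k => π k (E a (Equiv.swap i j k))) := by
      intro a
      rw [hperm, hcoord]
      simp
    have hfy : (coord π * perm (Equiv.swap i j)) • y = y := by
      rw [mul_smul, happ, Equiv.symm_apply_eq]
      funext k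
      simp [π]
    have h2 := stab _ y hy (by rw [hfy]; exact hy) _ (line ((π j).symm t))
    rw [mul_smul, happ] at h2
    convert h2 using 2
    funext k
    rw [E.apply_symm_apply]
    rcases eq_or_ne k j with rfl | hk
    · simp
    · have hki : Equiv.swap i j k ≠ i := by
        intro h
        apply hk
        rw [← Equiv.swap_apply_self i j k, h, Equiv.swap_apply_left]
      rw [Function.update_of_ne hk, Function.update_of_ne hki]
      simp [π]
  have all : ∀ b ∈ B, ∀ j t, E.symm (Function.update (E b) j t) ∈ B := by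
    intro b hb j t
    let π : ι → Equiv.Perm (Fin m) := fun k => Equiv.swap (E y k) (E b k)
    have hyb : coord π • y = b := by
      rw [hcoord, Equiv.symm_apply_eq]
      funext k
      simp [π]
    have h2 := stab _ y hy (by rw [hyb]; exact hb) _ (lines j ((π j).symm t))
    rw [hcoord] at h2
    convert h2 using 2
    funext k
    rw [E.apply_symm_apply]
    rcases eq_or_ne k j with rfl | hk
    · simp
    · rw [Function.update_of_ne hk, Function.update_of_ne hk]
      simp [π]
  refine Set.eq_univ_iff_forall.2 fun a => ?_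
  suffices ∀ S : Finset ι, E.symm (fun k => if k ∈ S then E a k else E y k) ∈ B by
    simpa using this Finset.univ
  intro S
  induction S using Finset.induction_on with
  | empty => simpa using hy
  | insert j S hj ih =>
    convert all _ ih j (E a j) using 2
    funext k
    rw [E.apply_symm_apply]
    rcases eq_or_ne k j with rfl | hk
    · simp
    · simp [Function.update_of_ne hk, hk]

/-- Let K be a finite group isomorphic to a direct product of r ≥ 2 groups all of the same order m ≥ 3. Then K is not a B-group: there is a primitive but not doubly transitive permutation group (on some finite set) containing a regular subgroup isomorphic to K. -/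
theorem result {K : Type*} [Group K] [Finite K] {ι : Type*} [Fintype ι] (F : ι → Type*) [∀ i, Group (F i)]
    (hr : 2 ≤ Fintype.card ι) (m : ℕ) (hm : 3 ≤ m) (hcard : ∀ i, Nat.card (F i) = m) (e : K ≃* (∀ i, F i)) :
    ∃ (n : ℕ) (G R : Subgroup (Equiv.Perm (Fin n))), R ≤ G ∧ Nonempty (↥R ≃* K) ∧
      MulAction.IsPretransitive ↥R (Fin n) ∧ (∀ a : Fin n, MulAction.stabilizer ↥R a = ⊥) ∧
      MulAction.IsPreprimitive ↥G (Fin n) ∧ ¬ MulAction.IsMultiplyPretransitive ↥G (Fin n) 2 := by
  classical
  obtain ⟨i₀, j₀, hij⟩ := Fintype.exists_pair_of_one_lt_card (show 1 < Fintype.card ι by omega)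
  have hfin : ∀ i, Finite (F i) := fun i => Nat.finite_of_card_ne_zero (by rw [hcard i]; omega)
  let c : ∀ i, F i ≃ Fin m := fun i => (Finite.equivFin (F i)).trans (finCongr (hcard i))
  obtain ⟨n, E, -⟩ : ∃ (n : ℕ) (E : Fin n ≃ (ι → Fin m)), True := ⟨_, (Fintype.equivFin _).symm, trivial⟩
  let T : K →* Equiv.Perm (Fin n) :=
    E.symm.permCongrHom.toMonoidHom.comp
      ((((Equiv.piCongrRight c).permCongrHom).toMonoidHom.comp (MulAction.toPermHom (∀ i, F i) (∀ i, F i))).comp
        e.toMonoidHom)
  have hTapp : ∀ k a, T k a = E.symm (fun i => c i (e k i * (c i).symm (E a i))) := fun _ _ => rfl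
  have hTinj : Function.Injective T := by
    intro k k' h
    apply e.injective
    funext i
    have := congrArg (fun p => E (p (E.symm fun i => c i 1)) i) h
    simpa [hTapp] using this
  have hd : ∀ k a b, d1 (E a) (E b) ↔ d1 (E (T k a)) (E (T k b)) := by
    intro k a b
    rw [hTapp, hTapp, E.apply_symm_apply, E.apply_symm_apply]
    exact d1_map (fun i => ((c i).symm.trans ((Equiv.mulLeft (e k i)).trans (c i))))
      (E a) (E b)
  refine ⟨n, graphAut E, T.range, ?_, ⟨(MonoidHom.ofInjective hTinj).symm⟩, ⟨fun a b => ?_⟩,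
    fun a => ?_, primitive hm E, ?_⟩
  · rintro _ ⟨k, rfl⟩
    exact hd k
  · refine ⟨⟨T (e.symm fun i => (c i).symm (E b i) * ((c i).symm (E a i))⁻¹), _, rfl⟩, ?_⟩
    show T _ a = b
    rw [hTapp]
    simp
  · rw [Subgroup.eq_bot_iff_forall]
    rintro ⟨_, k, rfl⟩ hk
    have hk' : T k a = a := hk
    rw [hTapp] at hk'
    have hk1 : k = 1 := by
      apply e.injective
      funext i
      have := congrArg (fun p => (c i).symm (E p i)) hk'
      simpa using this
    subst hk1
    exact Subtype.ext (map_one T)
  · intro h2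
    let z : Fin m := ⟨0, by omega⟩
    let o : Fin m := ⟨1, by omega⟩
    have hzo : z ≠ o := by simp [z, o]
    let u : ι → Fin m := fun _ => z
    let v : ι → Fin m := Function.update u i₀ o
    let w : ι → Fin m := Function.update v j₀ o
    have huv : d1 u v := ⟨i₀, by simp [u, v, hzo], fun j hj => by simp [u, v, hj]⟩
    have huw : u ≠ w := fun h => hzo (by simpa [u, v, w] using congrFun h j₀)
    have huv' : u ≠ v := fun h => hzo (by simpa [u, v] using congrFun h i₀)
    obtain ⟨g, hgu, hgv⟩ := MulAction.is_two_pretransitive_iff.1 h2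
      (E.symm.injective.ne huv') (E.symm.injective.ne huw)
    have := (g.2 (E.symm u) (E.symm v)).1 (by simpa using huv)
    rw [show g.1 (E.symm u) = E.symm u from hgu, show g.1 (E.symm v) = E.symm w from hgv,
      E.apply_symm_apply, E.apply_symm_apply] at this
    obtain ⟨i, -, hi⟩ := this
    by_cases h : i = i₀
    · have := hi j₀ (by rw [h]; exact hij.symm)
      simp [u, v, w, hzo] at this
    · have := hi i₀ (Ne.symm h)
      simp [u, v, w, hij, hzo] at this

end Cfsg.Agent.S3560
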