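import Cfsg.Statements.S3573
-- import your own Cfsg.Agent.* helpers here

set_option autoImplicit false
open Cfsg

namespace Cfsg.Agent.S3573


open Equiv Finset

variable {α : Type*} [DecidableEq α] {r : ℕ} {σ : Perm α}

theorem extend_orbit (hr : r.Prime) (hσ : σ ^ r = 1) {A B : Finset α} (hA : ∀ x ∈ A, σ x ∈ A)
    (hfix : ∀ x ∈ A, σ x ≠ x) (hB : ∀ x ∈ B, σ x ∈ B) (hBA : B ⊆ A) {x : α} (hxA : x ∈ A) (hxB : x ∉ B) :
    ∃ B', B' ⊆ A ∧ (∀ y ∈ B', σ y ∈ B') ∧ B'.card = B.card + r := by
  haveI := Fact.mk hr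
  have hne : σ ≠ 1 := fun h => hfix x hxA (by simp [h])
  have hord : orderOf σ = r := orderOf_eq_prime hσ hne
  have hpowA : ∀ t : ℕ, (σ ^ t) x ∈ A := by
    intro t
    induction t with
    | zero => simpa using hxA
    | succ t ih => rw [pow_succ', Perm.mul_apply]; exact hA _ ih
  have hpowB : ∀ y ∈ B, ∀ t : ℕ, (σ ^ t) y ∈ B := by
    intro y hy t
    induction t with
    | zero => simpa using hy
    | succ t ih => rw [pow_succ', Perm.mul_apply]; exact hB _ ih
  have hinj : Set.InjOn (fun t => (σ ^ t) x) (Finset.range r : Set ℕ) := by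
    have key : ∀ t u, t ≤ u → u < r → (σ ^ t) x = (σ ^ u) x → t = u := by
      intro t u htu hu he
      by_contra hd
      have h1 : (σ ^ (u - t)) x = x := by
        apply (σ ^ t).injective
        rw [← Perm.mul_apply, ← pow_add, Nat.add_sub_cancel' htu]
        exact he.symm
      obtain ⟨m, hm⟩ := exists_pow_eq_self_of_coprime (x := σ) (n := u - t) (by
        rw [hord]
        exact ((hr.coprime_iff_not_dvd).2 fun h => by
          have := Nat.le_of_dvd (by omega) h; omega).symm)
      have h2 := Perm.pow_apply_eq_self_of_apply_eq_self h1 m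
      rw [hm] at h2
      exact hfix x hxA h2
    intro t ht u hu he
    simp only [Finset.coe_range, Set.mem_Iio] at ht hu
    rcases le_total t u with h | h
    · exact key t u h hu he
    · exact (key u t h ht he.symm).symm
  refine ⟨B ∪ (Finset.range r).image (fun t => (σ ^ t) x), ?_, ?_, ?_⟩
  · exact union_subset hBA (image_subset_iff.2 fun t _ => hpowA t)
  · intro y hy
    rcases mem_union.1 hy with hy | hy
    · exact mem_union_left _ (hB y hy)
    · obtain ⟨t, -, rfl⟩ := mem_image.1 hy
      refine mem_union_right _ (mem_image.2 ⟨(t + 1) % r, mem_range.2 (Nat.mod_lt _ hr.pos), ?_⟩)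
      rw [← hord, pow_mod_orderOf, pow_succ', Perm.mul_apply]
  · rw [card_union_of_disjoint, card_image_of_injOn hinj, card_range]
    rw [disjoint_left]
    intro y hyB hy
    obtain ⟨t, ht, rfl⟩ := mem_image.1 hy
    have h1 := hpowB _ hyB (r - t)
    rw [← Perm.mul_apply, ← pow_add, Nat.sub_add_cancel (mem_range.1 ht).le, hσ, Perm.one_apply] at h1
    exact hxB h1

theorem exists_invariant (hr : r.Prime) (hσ : σ ^ r = 1) {A : Finset α} (hA : ∀ x ∈ A, σ x ∈ A)
    (hfix : ∀ x ∈ A, σ x ≠ x) :
    ∀ i, i * r ≤ A.card → ∃ B, B ⊆ A ∧ (∀ y ∈ B, σ y ∈ B) ∧ B.card = i * r := by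
  intro i
  induction i with
  | zero => exact fun _ => ⟨∅, by simp⟩
  | succ i ih =>
    intro hi
    obtain ⟨B, hBA, hB, hc⟩ := ih (le_trans (Nat.mul_le_mul_right r i.le_succ) hi)
    obtain ⟨x, hxA, hxB⟩ := exists_mem_notMem_of_card_lt_card (s := B) (t := A) (by
      rw [hc]; have := hr.pos; rw [Nat.succ_mul] at hi; omega)
    obtain ⟨B', h1, h2, h3⟩ := extend_orbit hr hσ hA hfix hB hBA hxA hxB
    exact ⟨B', h1, h2, by rw [h3, hc, Nat.succ_mul]⟩

theorem dvd_card_invariant (hr : r.Prime) (hσ : σ ^ r = 1) {A : Finset α} (hA : ∀ x ∈ A, σ x ∈ A)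
    (hfix : ∀ x ∈ A, σ x ≠ x) : r ∣ A.card := by
  obtain ⟨B, hBA, hB, hc⟩ := exists_invariant hr hσ hA hfix (A.card / r) (Nat.div_mul_le_self _ _)
  by_cases h : B = A
  · rw [← h, hc]; exact Dvd.intro_left _ rfl
  obtain ⟨x, hxA, hxB⟩ := Finset.exists_of_ssubset (lt_of_le_of_ne hBA h)
  obtain ⟨B', h1, -, h3⟩ := extend_orbit hr hσ hA hfix hB hBA hxA hxB
  have := Finset.card_le_card h1
  rw [h3, hc] at this
  have h4 := Nat.lt_div_mul_add (a := A.card) hr.pos
  omega

theorem fixes_iff (n k r : ℕ) (hr : r.Prime) (hrn : r ≤ n) (hkn : k ≤ n) :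
    (∀ σ : Perm (Fin n), orderOf σ = r → ∃ s : Finset (Fin n), s.card = k ∧ s.image σ = s) ↔ k % r ≤ n % r := by
  haveI := Fact.mk hr
  constructor
  · intro h
    obtain ⟨σ, hσ⟩ : ∃ σ : Perm (Fin n), σ.cycleType = Multiset.replicate (n / r) r :=
      (Perm.exists_with_cycleType_iff (α := Fin n)).2 ⟨by
        rw [Multiset.sum_replicate, smul_eq_mul, Fintype.card_fin]; exact Nat.div_mul_le_self n r,
        fun a ha => by rw [Multiset.eq_of_mem_replicate ha]; exact hr.two_le⟩
    have hj : 0 < n / r := Nat.div_pos hrn hr.pos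
    have hord : orderOf σ = r := by
      rw [← Perm.lcm_cycleType, hσ]
      exact Nat.dvd_antisymm (Multiset.lcm_dvd.2 fun a ha => by rw [Multiset.eq_of_mem_replicate ha])
        (Multiset.dvd_lcm (Multiset.mem_replicate.2 ⟨hj.ne', rfl⟩))
    have hσr : σ ^ r = 1 := by rw [← hord]; exact pow_orderOf_eq_one σ
    have hsupp : σ.support.card = n / r * r := by
      rw [← Perm.sum_cycleType, hσ, Multiset.sum_replicate, smul_eq_mul]
    obtain ⟨s, hs, hsi⟩ := h σ hord
    have hmem : ∀ x ∈ s, σ x ∈ s := fun x hx => by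
      have := mem_image_of_mem σ hx
      rwa [hsi] at this
    obtain ⟨i, hi⟩ := dvd_card_invariant hr hσr (A := s ∩ σ.support) (fun x hx => by
      obtain ⟨h1, h2⟩ := mem_inter.1 hx
      exact mem_inter.2 ⟨hmem x h1, Perm.apply_mem_support.2 h2⟩)
      (fun x hx => Perm.mem_support.1 (mem_inter.1 hx).2)
    have h1 := card_sdiff_add_card_inter s σ.support
    have h2 : (s \ σ.support).card ≤ n - σ.support.card := by
      have := card_le_card (sdiff_subset_sdiff (subset_univ s) (le_refl σ.support))
      rwa [card_univ_diff, Fintype.card_fin] at this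
    have h3 := Nat.mod_add_div n r
    rw [mul_comm] at h3
    rw [← hs, ← h1, hi, Nat.add_mul_mod_self_left]
    refine (Nat.mod_le _ _).trans (h2.trans ?_)
    omega
  · intro h σ hord
    have hσr : σ ^ r = 1 := by rw [← hord]; exact pow_orderOf_eq_one σ
    obtain ⟨j, hj⟩ := Perm.cycleType_prime_order (σ := σ) (hord.symm ▸ hr)
    have hsupp : σ.support.card = (j + 1) * r := by
      rw [← Perm.sum_cycleType, hj, Multiset.sum_replicate, smul_eq_mul, hord]
    obtain ⟨B, hBA, hB, hBc⟩ := exists_invariant hr hσr (A := σ.support)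
      (fun x hx => Perm.apply_mem_support.2 hx) (fun x hx => Perm.mem_support.1 hx) (min (j + 1) (k / r))
      (by rw [hsupp]; exact Nat.mul_le_mul_right r (min_le_left _ _))
    have hle : B.card ≤ k := by
      rw [hBc]; exact (Nat.mul_le_mul_right r (min_le_right _ _)).trans (Nat.div_mul_le_self k r)
    have hsn : σ.support.card ≤ n := by simpa using card_le_univ σ.support
    have hrest : k - B.card ≤ (univ \ σ.support).card := by
      rw [card_univ_diff, Fintype.card_fin, hBc]
      rcases le_total (j + 1) (k / r) with hm | hm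
      · rw [min_eq_left hm, ← hsupp]; omega
      · rw [min_eq_right hm]
        have h3 := Nat.mod_add_div k r
        rw [mul_comm] at h3
        have h4 : n % r ≤ n - σ.support.card := by
          have h5 : (n - σ.support.card) % r = n % r := by
            conv_rhs => rw [← Nat.sub_add_cancel hsn, hsupp, Nat.add_mul_mod_self_right]
            rw [hsupp]
          rw [← h5]; exact Nat.mod_le _ _
        omega
    obtain ⟨F, hF, hFc⟩ := exists_subset_card_eq hrest
    refine ⟨B ∪ F, ?_, ?_⟩
    · rw [card_union_of_disjoint, hFc]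
      · omega
      · exact (disjoint_sdiff (s := σ.support) (t := univ)).mono hBA hF
    · refine eq_of_subset_of_card_le (image_subset_iff.2 fun x hx => ?_) (by
        rw [card_image_of_injective _ σ.injective])
      rcases mem_union.1 hx with hx | hx
      · exact mem_union_left _ (hB x hx)
      · rw [show σ x = x from Perm.notMem_support.1 (mem_sdiff.1 (hF hx)).2]
        exact mem_union_right _ hx

/-- Let 1 ≤ k with 2k < n and consider the symmetric group of degree n acting on the k-subsets of an n-set. Let r be a prime dividing the number C(n,k) of k-subsets. If r is odd, then every permutation of order r fixes some k-subset if and only if r ≤ k and the remainder of k modulo r is at most the remainder of n modulo r. If r = 2, then every involution fixes some k-subset if and only if k is even or n is odd. -/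
theorem result (n k : ℕ) (hk : 1 ≤ k) (hkn : 2 * k < n) (r : ℕ) (hr : r.Prime) (hrd : r ∣ Nat.choose n k) :
    (r ≠ 2 → ((∀ σ : Equiv.Perm (Fin n), orderOf σ = r → ∃ s : Finset (Fin n), s.card = k ∧ s.image σ = s) ↔
      (r ≤ k ∧ k % r ≤ n % r))) ∧
    (r = 2 → ((∀ σ : Equiv.Perm (Fin n), orderOf σ = 2 → ∃ s : Finset (Fin n), s.card = k ∧ s.image σ = s) ↔
      (Even k ∨ Odd n))) := by
  haveI := Fact.mk hr
  have hrn : r ≤ n := by
    refine ((Nat.Prime.dvd_factorial hr).1 (hrd.trans ?_))
    exact Dvd.intro _ ((mul_assoc _ _ _).symm.trans (Nat.choose_mul_factorial_mul_factorial (by omega : k ≤ n)))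
  have hiff := fixes_iff n k r hr hrn (by omega)
  constructor
  · intro _
    rw [hiff]
    refine ⟨fun h => ⟨?_, h⟩, And.right⟩
    by_contra hlt
    rw [Nat.mod_eq_of_lt (not_le.1 hlt)] at h
    have hL := Choose.choose_modEq_choose_mod_mul_choose_div_nat (n := n) (k := k) (p := r)
    rw [Nat.mod_eq_of_lt (not_le.1 hlt), Nat.div_eq_of_lt (not_le.1 hlt), Nat.choose_zero_right, mul_one] at hL
    have h1 : r ∣ (n % r).choose k := (Nat.ModEq.dvd_iff hL dvd_rfl).1 hrd
    have h2 : (n % r).choose k ∣ (n % r).factorial :=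
      Dvd.intro _ ((mul_assoc _ _ _).symm.trans (Nat.choose_mul_factorial_mul_factorial h))
    exact absurd ((Nat.Prime.dvd_factorial hr).1 (h1.trans h2)) (not_le.2 (Nat.mod_lt _ hr.pos))
  · rintro rfl
    rw [hiff, Nat.even_iff, Nat.odd_iff]
    omega

end Cfsg.Agent.S3573
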