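import Cfsg.Statements.S3571
import Cfsg.Agent.Lib.Perm.SylvesterSchur
import Cfsg.Agent.Lib.PGroup.AltGen
import Cfsg.Agent.Lib.PGroup.TwoPrimes
import Cfsg.Agent.S2119
import Cfsg.Agent.S3573
import Cfsg.Agent.S0713

set_option autoImplicit false
open Cfsg

namespace Cfsg.Agent.S3571

open Equiv Equiv.Perm MulAction
open scoped Pointwise

theorem two_mul_le_of_sq_dvd {r : ℕ} (hr : r.Prime) : ∀ {m : ℕ}, r ^ 2 ∣ m.factorial → 2 * r ≤ m := by
  intro m
  induction m with
  | zero =>
    intro h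
    have h1 : r ^ 2 ≤ 1 := Nat.le_of_dvd Nat.one_pos h
    have h4 : 2 ^ 2 ≤ r ^ 2 := Nat.pow_le_pow_left hr.two_le 2
    omega
  | succ m ih =>
    intro h
    rw [Nat.factorial_succ] at h
    by_cases hd : r ∣ m + 1
    · obtain ⟨c, hc⟩ := hd
      rcases Nat.lt_or_ge c 2 with h2 | h2
      · exfalso
        obtain rfl : c = 1 := by
          rcases (show c = 0 ∨ c = 1 by omega) with rfl | rfl
          · omega
          · rfl
        rw [mul_one] at hc
        rw [hc, pow_two] at h
        have := hr.dvd_factorial.1 (Nat.dvd_of_mul_dvd_mul_left hr.pos h)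
        omega
      · have := Nat.mul_le_mul_left r h2
        omega
    · have := ih ((Nat.Coprime.pow_left 2 (hr.coprime_iff_not_dvd.2 hd)).dvd_of_dvd_mul_left h)
      omega

theorem exists_long_prime {m : ℕ} (hm : 8 ≤ m) : ∃ p : ℕ, p.Prime ∧ m < 2 * p ∧ p + 3 ≤ m := by
  rcases Nat.lt_or_ge m 10 with h | h
  · exact ⟨5, by norm_num, by omega, by omega⟩
  rcases Nat.lt_or_ge m 11 with h' | h'
  · exact ⟨7, by norm_num, by omega, by omega⟩
  by_cases h15 : m = 15 ∨ m = 16
  · exact ⟨11, by norm_num, by omega, by omega⟩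
  push Not at h15
  obtain ⟨p, q, hp, hq, h1, h2, h3, h4⟩ := CfsgLib.PGroup.TwoPrimes.exists_good m h' h15.1 h15.2
  rcases h4 with h4 | h4
  · exact ⟨q, hq, by omega, h4⟩
  · exact ⟨p, hp, h4, by omega⟩

theorem not_index_le {m i : ℕ} (hm : 5 ≤ m) (K : Subgroup ↥(alternatingGroup (Fin m))) (hK : K ≠ ⊤)
    (hi : K.index ≤ i) : Nat.card ↥(alternatingGroup (Fin m)) ≤ i.factorial := by
  have hle : K.map (alternatingGroup (Fin m)).subtype ≤ alternatingGroup (Fin m) := Subgroup.map_subtype_le K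
  have hne : K.map (alternatingGroup (Fin m)).subtype ≠ alternatingGroup (Fin m) := fun h => hK (by
    apply Subgroup.map_injective (alternatingGroup (Fin m)).subtype_injective
    rw [h, ← MonoidHom.range_eq_map, Subgroup.range_subtype])
  have h := CfsgLib.PGroup.AltGen.card_le_factorial (by simpa using hm) hle hne
  refine h.trans (Nat.factorial_le ?_)
  rw [Subgroup.relIndex, Subgroup.subgroupOf, Subgroup.comap_map_eq_self_of_injective
    (alternatingGroup (Fin m)).subtype_injective]
  exact hi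

/-- A subgroup of order 60 of `A_6` misses the conjugates of some element of order three. -/
theorem sixty (K : Subgroup ↥(alternatingGroup (Fin 6))) (h60 : K.index = 6) :
    ∃ σ : ↥(alternatingGroup (Fin 6)), orderOf σ = 3 ∧ ∀ τ, τ * σ * τ⁻¹ ∉ K := by
  classical
  haveI : IsSimpleGroup ↥(alternatingGroup (Fin 6)) :=
    alternatingGroup.isSimpleGroup (by simp)
  let Q := ↥(alternatingGroup (Fin 6)) ⧸ K
  haveI : Fintype Q := Fintype.ofFinite _
  have hQ : Fintype.card Q = 6 := by rw [← Nat.card_eq_fintype_card, ← h60]; rfl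
  let f := MulAction.toPermHom ↥(alternatingGroup (Fin 6)) Q
  have hf : Function.Injective f := by
    rw [← MonoidHom.ker_eq_bot_iff]
    refine (MonoidHom.normal_ker f).eq_bot_or_eq_top.resolve_right fun h => ?_
    have hle : (⊤ : Subgroup ↥(alternatingGroup (Fin 6))) ≤ K := fun g _ => by
      have h1 : f g = 1 := MonoidHom.mem_ker.1 (h ▸ Subgroup.mem_top g : g ∈ f.ker)
      have h2 := congrArg (fun σ : Perm Q => σ ((1 : ↥(alternatingGroup (Fin 6))) : Q)) h1
      change (((g * 1 : ↥(alternatingGroup (Fin 6)))) : Q) = _ at h2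
      simpa [QuotientGroup.eq] using h2
    rw [top_le_iff.1 hle, Subgroup.index_top] at h60
    omega
  have hA : Nat.card ↥(alternatingGroup (Fin 6)) = 360 := by
    rw [CfsgLib.PGroup.AltGen.card_alternating (Fintype.card_fin 6) (by norm_num)]; rfl
  have hrange : f.range = alternatingGroup Q := by
    refine Equiv.Perm.eq_alternatingGroup_of_index_eq_two ?_
    have h1 := Subgroup.card_mul_index f.range
    rw [← Nat.card_congr (MonoidHom.ofInjective hf).toEquiv, hA, Nat.card_perm,
      Nat.card_eq_fintype_card, hQ, show Nat.factorial 6 = 360 * 2 from rfl] at h1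
    exact Nat.eq_of_mul_eq_mul_left (by norm_num) h1
  obtain ⟨c, hc⟩ : ∃ c : Perm Q, c.cycleType = Multiset.replicate 2 3 :=
    (Equiv.Perm.exists_with_cycleType_iff _).2 ⟨by simp [hQ], fun a ha => by
      rw [Multiset.eq_of_mem_replicate ha]; norm_num⟩
  have hsupp : c.support.card = 6 := by rw [← Equiv.Perm.sum_cycleType, hc]; rfl
  have hfree : ∀ y : Q, c y ≠ y := fun y => by
    rw [← Equiv.Perm.mem_support, Finset.eq_univ_of_card _ (hsupp.trans hQ.symm)]
    exact Finset.mem_univ y
  have hcalt : c ∈ alternatingGroup Q := by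
    rw [Equiv.Perm.mem_alternatingGroup, Equiv.Perm.sign_of_cycleType, hc]; decide
  have hord : orderOf c = 3 := by rw [← Equiv.Perm.lcm_cycleType, hc]; decide
  obtain ⟨σ, hσ⟩ : c ∈ f.range := hrange ▸ hcalt
  refine ⟨σ, by rw [← orderOf_injective f hf, hσ, hord], fun τ hτ => ?_⟩
  refine hfree ((τ⁻¹ : ↥(alternatingGroup (Fin 6))) : Q) ?_
  rw [← hσ]
  change (((σ * τ⁻¹ : ↥(alternatingGroup (Fin 6)))) : Q) = _
  rw [eq_comm, QuotientGroup.eq]
  simpa [mul_assoc] using hτ

/-- Derangements of prime order in `A_6`. -/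
theorem six (K : Subgroup ↥(alternatingGroup (Fin 6))) (hK : K ≠ ⊤) (r : ℕ) (hr : r.Prime)
    (hrd : r ∣ K.index) (hmax : ∀ s : ℕ, s.Prime → s ∣ K.index → s ≤ r) (hrK : r ∣ Nat.card ↥K)
    (h2r : 2 * r ≤ 6) :
    ∃ σ : ↥(alternatingGroup (Fin 6)), orderOf σ = r ∧ ∀ τ, τ * σ * τ⁻¹ ∉ K := by
  classical
  have hA : Nat.card ↥(alternatingGroup (Fin 6)) = 360 := by
    rw [CfsgLib.PGroup.AltGen.card_alternating (Fintype.card_fin 6) (by norm_num)]; rfl
  have hmul := K.card_mul_index
  rw [hA] at hmul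
  have hidx : 6 ≤ K.index := by
    by_contra h
    have := not_index_le (by norm_num) K hK (show K.index ≤ 5 by omega)
    rw [hA] at this; norm_num [Nat.factorial] at this
  have h5 : ¬ 5 ∣ K.index := fun h => by have := hmax 5 (by norm_num) h; omega
  rcases (show r = 2 ∨ r = 3 by have := hr.two_le; omega) with rfl | rfl
  · exfalso
    have h3 : ¬ 3 ∣ K.index := fun h => by have := hmax 3 (by norm_num) h; omega
    have h45 : 45 ∣ Nat.card ↥K := by
      have : (45 : ℕ) ∣ Nat.card ↥K * K.index := by rw [hmul]; norm_num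
      exact (Nat.Coprime.mul_left (m := 9) (n := 5) (Nat.Coprime.pow_left 2
        ((show Nat.Prime 3 by norm_num).coprime_iff_not_dvd.2 h3))
        ((show Nat.Prime 5 by norm_num).coprime_iff_not_dvd.2 h5)).dvd_of_dvd_mul_right this
    obtain ⟨u, hu⟩ : 90 ∣ Nat.card ↥K := Nat.Coprime.mul_dvd_of_dvd_of_dvd (m := 2) (n := 45) (by norm_num) hrK h45
    rw [hu] at hmul
    have : 1 ≤ u := by
      rcases Nat.eq_zero_or_pos u with rfl | h
      · simp at hmul
      · exact h
    nlinarith
  haveI : Fact (Nat.Prime 5) := ⟨by norm_num⟩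
  have h5K : 5 ∣ Nat.card ↥K :=
    ((show Nat.Prime 5 by norm_num).coprime_iff_not_dvd.2 h5).dvd_of_dvd_mul_right
      (by rw [hmul]; norm_num)
  obtain ⟨u, hu⟩ : 15 ∣ Nat.card ↥K := Nat.Coprime.mul_dvd_of_dvd_of_dvd (m := 3) (n := 5) (by norm_num) hrK h5K
  have hu4 : u ≤ 4 := by rw [hu] at hmul; nlinarith
  by_cases h60 : Nat.card ↥K = 60
  · rw [h60] at hmul
    exact sixty K (by omega)
  exfalso
  set Kp := K.map (alternatingGroup (Fin 6)).subtype with hKp
  have hKpA : Kp ≤ alternatingGroup (Fin 6) := Subgroup.map_subtype_le K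
  have hcard : Nat.card ↥Kp = Nat.card ↥K :=
    (Nat.card_congr (K.equivMapOfInjective _ (alternatingGroup (Fin 6)).subtype_injective).toEquiv).symm
  obtain ⟨c, hc⟩ := exists_prime_orderOf_dvd_card' (G := ↥K) 5 h5K
  set cp : Perm (Fin 6) := ((c : ↥(alternatingGroup (Fin 6))) : Perm (Fin 6)) with hcp
  have hcpK : cp ∈ Kp := ⟨_, c.2, rfl⟩
  have hcord : orderOf cp = 5 := by rw [hcp, Subgroup.orderOf_coe, Subgroup.orderOf_coe, hc]
  have hcyc : cp.IsCycle := Equiv.Perm.isCycle_of_prime_order' (hcord ▸ by norm_num) (by rw [hcord]; simp)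
  have hsupp : cp.support.card = 5 := by rw [← hcyc.orderOf, hcord]
  by_cases htr : IsPretransitive ↥Kp (Fin 6)
  · haveI : Fact (Nat.Prime 3) := ⟨by norm_num⟩
    obtain ⟨x, hx⟩ := exists_prime_orderOf_dvd_card' (G := ↥K) 3 hrK
    have hprim := CfsgLib.PGroup.AltGen.isPreprimitive_of_long_cycle hcyc hcpK (hsupp ▸ by norm_num)
      (by rw [hsupp]; simp)
    rcases CfsgLib.PGroup.AltGen.deg_six (Fintype.card_fin 6) hKpA hprim hcyc hcpK hsupp
      (x := ((x : ↥(alternatingGroup (Fin 6))) : Perm (Fin 6))) ⟨_, x.2, rfl⟩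
      (by rw [Subgroup.orderOf_coe, Subgroup.orderOf_coe, hx]) with h | ⟨⟨e⟩⟩
    · exact hK (Subgroup.eq_top_of_card_eq K (by rw [← hcard, h]))
    · refine h60 ?_
      rw [← hcard, Nat.card_congr e.toEquiv,
        CfsgLib.PGroup.AltGen.card_alternating (Fintype.card_fin 5) (by norm_num)]
      rfl
  · obtain ⟨a, ha⟩ : ∃ a : Fin 6, ∀ g ∈ Kp, g a = a := by
      obtain ⟨a, ha⟩ : ∃ a : Fin 6, a ∉ cp.support := by
        by_contra h; push Not at h
        have := Finset.card_le_card (s := Finset.univ) fun y _ => h y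
        rw [hsupp] at this; simp at this
      refine ⟨a, fun g hg => ?_⟩
      by_contra hga
      refine htr ?_
      have hb : g a ∈ cp.support := by
        by_contra h
        have h2 := Finset.card_le_card (show ({a, g a} : Finset (Fin 6)) ⊆ cp.supportᶜ by
          intro y hy
          simp only [Finset.mem_insert, Finset.mem_singleton] at hy
          rcases hy with rfl | rfl <;> simp_all [Finset.mem_compl])
        rw [Finset.card_pair (Ne.symm hga), Finset.card_compl, hsupp, Fintype.card_fin] at h2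
        omega
      have hall : ∀ y, ∃ k ∈ Kp, k a = y := by
        intro y
        by_cases hy : y ∈ cp.support
        · obtain ⟨i, hi⟩ := hcyc.exists_zpow_eq (Equiv.Perm.mem_support.1 hb) (Equiv.Perm.mem_support.1 hy)
          exact ⟨cp ^ i * g, mul_mem (zpow_mem hcpK i) hg, by rw [Equiv.Perm.mul_apply, hi]⟩
        · refine ⟨1, one_mem _, ?_⟩
          by_contra hne
          have h2 := Finset.card_le_card (show ({a, y} : Finset (Fin 6)) ⊆ cp.supportᶜ by
            intro z hz
            simp only [Finset.mem_insert, Finset.mem_singleton] at hz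
            rcases hz with rfl | rfl <;> simp_all [Finset.mem_compl])
          rw [Finset.card_pair (by simpa using hne), Finset.card_compl, hsupp, Fintype.card_fin] at h2
          omega
      refine ⟨fun y z => ?_⟩
      obtain ⟨k1, hk1, rfl⟩ := hall y
      obtain ⟨k2, hk2, rfl⟩ := hall z
      exact ⟨⟨k2 * k1⁻¹, mul_mem hk2 (inv_mem hk1)⟩, by simp [Subgroup.smul_def]⟩
    set S : Subgroup (Perm (Fin 6)) := alternatingGroup (Fin 6) ⊓ stabilizer (Perm (Fin 6)) a with hS
    have hSA : S ≤ alternatingGroup (Fin 6) := inf_le_left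
    have hKS : Kp ≤ S := fun g hg => ⟨hKpA hg, ha g hg⟩
    have hScard : Nat.card ↥S = 60 := by
      haveI : IsPretransitive ↥(alternatingGroup (Fin 6)) (Fin 6) :=
        alternatingGroup.isPretransitive_of_three_le_card (Fin 6) (by simp)
      have h := CfsgLib.PGroup.AltGen.card_mul_stabilizer (G := alternatingGroup (Fin 6)) a
      rw [hA, Fintype.card_fin] at h
      have e : Nat.card ↥S = Nat.card ↥(stabilizer ↥(alternatingGroup (Fin 6)) a) :=
        Nat.card_congr
          { toFun := fun g => ⟨⟨g.1, g.2.1⟩, g.2.2⟩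
            invFun := fun g => ⟨g.1.1, ⟨g.1.2, g.2⟩⟩
            left_inv := fun g => rfl
            right_inv := fun g => rfl }
      rw [e]; omega
    obtain ⟨e⟩ := CfsgLib.PGroup.AltGen.index_six (Fintype.card_fin 6) hSA hScard
    set L : Subgroup ↥(alternatingGroup (Fin 5)) := (Kp.subgroupOf S).map e.toMonoidHom with hL
    have hLcard : Nat.card ↥L = Nat.card ↥K := by
      rw [hL, ← Nat.card_congr ((Kp.subgroupOf S).equivMapOfInjective e.toMonoidHom e.injective).toEquiv,
        Nat.card_congr (Subgroup.subgroupOfEquivOfLe hKS).toEquiv, hcard]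
    have hA5 : Nat.card ↥(alternatingGroup (Fin 5)) = 60 := by
      rw [CfsgLib.PGroup.AltGen.card_alternating (Fintype.card_fin 5) (by norm_num)]; rfl
    have hLtop : L ≠ ⊤ := fun h => h60 (by rw [← hLcard, h, Subgroup.card_top, hA5])
    have hm5 := L.card_mul_index
    rw [hLcard, hA5, hu] at hm5
    have := not_index_le (le_refl 5) L hLtop (show L.index ≤ 4 by
      have : 1 ≤ u := by
        rcases Nat.eq_zero_or_pos u with rfl | h
        · simp at hm5
        · exact h
      nlinarith)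
    rw [hA5] at this
    norm_num [Nat.factorial] at this

/-- A permutation of two-power degree `m ≥ 4` which is fixed-point-free, even, of order two. -/
theorem exists_even_involution {m : ℕ} (hm : 4 ∣ m) (hm0 : 0 < m) :
    ∃ σ : Perm (Fin m), orderOf σ = 2 ∧ Equiv.Perm.sign σ = 1 ∧ ∀ y, σ y ≠ y := by
  classical
  obtain ⟨σ, hσ⟩ : ∃ σ : Perm (Fin m), σ.cycleType = Multiset.replicate (m / 2) 2 :=
    (Equiv.Perm.exists_with_cycleType_iff _).2 ⟨by simp; omega, fun a ha => by
      rw [Multiset.eq_of_mem_replicate ha]⟩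
  have hsupp : σ.support.card = m := by rw [← Equiv.Perm.sum_cycleType, hσ]; simp; omega
  refine ⟨σ, ?_, ?_, fun y => ?_⟩
  · haveI : Fact (Nat.Prime 2) := ⟨Nat.prime_two⟩
    refine orderOf_eq_prime ?_ ?_
    · exact orderOf_dvd_iff_pow_eq_one.1 (by
        rw [← Equiv.Perm.lcm_cycleType, hσ, Multiset.lcm_dvd]
        exact fun b hb => (Multiset.eq_of_mem_replicate hb).dvd)
    · intro h
      rw [h, Equiv.Perm.support_one, Finset.card_empty] at hsupp
      omega
  · rw [Equiv.Perm.sign_of_cycleType, hσ, Multiset.sum_replicate, Multiset.card_replicate]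
    refine Even.neg_one_pow ?_
    obtain ⟨c, rfl⟩ := hm
    exact ⟨3 * c, by simp; omega⟩
  · rw [← Equiv.Perm.mem_support, Finset.eq_univ_of_card _ (hsupp.trans (Fintype.card_fin m).symm)]
    exact Finset.mem_univ y

/-- Finsets of equal size at least two are conjugate under the alternating group. -/
theorem exists_alt_smul {m : ℕ} {s t : Finset (Fin m)} (h : s.card = t.card) (h2 : 2 ≤ s.card) :
    ∃ σ : ↥(alternatingGroup (Fin m)), σ • s = t := by
  classical
  set σ := (Finset.equivOfCardEq h).extendSubtype with hσ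
  have hmap : s.image σ = t := by
    refine Finset.eq_of_subset_of_card_le (fun y hy => ?_) ?_
    · obtain ⟨x, hx, rfl⟩ := Finset.mem_image.1 hy
      exact Equiv.extendSubtype_mem _ x hx
    · rw [Finset.card_image_of_injective _ σ.injective, h]
  rcases Int.units_eq_one_or (Equiv.Perm.sign σ) with hs | hs
  · exact ⟨⟨σ, hs⟩, hmap⟩
  · obtain ⟨x, hx, y, hy, hxy⟩ := Finset.one_lt_card.1 h2
    refine ⟨⟨σ * Equiv.swap x y, by
      rw [Equiv.Perm.mem_alternatingGroup, map_mul, hs, Equiv.Perm.sign_swap hxy]; decide⟩, ?_⟩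
    change s.image (⇑(σ * Equiv.swap x y)) = t
    rw [← hmap, Equiv.Perm.coe_mul, ← Finset.image_image]
    congr 1
    refine Finset.eq_of_subset_of_card_le (fun z hz => ?_) ?_
    · obtain ⟨w, hw, rfl⟩ := Finset.mem_image.1 hz
      rw [Equiv.swap_apply_def]
      split_ifs <;> assumption
    · rw [Finset.card_image_of_injective _ (Equiv.swap x y).injective]

/-- The intransitive case: the stabiliser of a set. -/
theorem setwise {m : ℕ} (hm : 5 ≤ m) (O : Finset (Fin m)) (hO : m < 2 * O.card) (hOu : O ≠ Finset.univ)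
    (K : Subgroup ↥(alternatingGroup (Fin m))) (hK : K = stabilizer ↥(alternatingGroup (Fin m)) O)
    (r : ℕ) (hr : r.Prime) (hrd : r ∣ K.index) (hmax : ∀ s : ℕ, s.Prime → s ∣ K.index → s ≤ r)
    (h2r : 2 * r ≤ m) :
    ∃ σ : ↥(alternatingGroup (Fin m)), orderOf σ = r ∧ ∀ τ, τ * σ * τ⁻¹ ∉ K := by
  classical
  have hlt : O.card < m := by
    have h1 : O.card ≤ m := by simpa using Finset.card_le_univ O
    rcases h1.eq_or_lt with h | h
    · exact absurd (Finset.eq_univ_of_card O (by simpa using h)) hOu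
    · exact h
  obtain ⟨k, hkdef⟩ : ∃ k, k = m - O.card := ⟨_, rfl⟩
  have hindex : K.index = m.choose k := by
    rw [hK, MulAction.index_stabilizer]
    have horb : orbit ↥(alternatingGroup (Fin m)) O
        = ↑((Finset.univ : Finset (Fin m)).powersetCard O.card) := by
      ext s
      simp only [Finset.mem_coe, Finset.mem_powersetCard, Finset.subset_univ, true_and]
      constructor
      · rintro ⟨σ, rfl⟩
        change (σ • O).card = _
        exact Finset.card_smul_finset σ O
      · intro hs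
        exact (exists_alt_smul hs.symm (by omega)).imp fun σ h => h
    rw [horb, Set.ncard_coe_finset, Finset.card_powersetCard, Finset.card_univ, Fintype.card_fin, hkdef,
      Nat.choose_symm hlt.le]
  obtain ⟨p, hp, hkp, hpd⟩ := CfsgLib.Perm.SylvesterSchur.exists_prime_gt_dvd_choose
    (show 1 ≤ k by omega) (show 2 * k ≤ m by omega)
  have hkr : k < r := lt_of_lt_of_le hkp (hmax p hp (hindex ▸ hpd))
  rw [hindex] at hrd
  have hder : ∀ σ : ↥(alternatingGroup (Fin m)),
      (∀ s : Finset (Fin m), s.card = k → s.image (⇑(σ : Perm (Fin m))) ≠ s) →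
        ∀ τ, τ * σ * τ⁻¹ ∉ K := by
    intro σ hσ τ hτ
    rw [hK, mem_stabilizer_iff, mul_smul, mul_smul] at hτ
    have h1 : σ • (τ⁻¹ • O) = τ⁻¹ • O := by
      conv_rhs => rw [← hτ]
      rw [inv_smul_smul]
    set O' := τ⁻¹ • O with hO'
    have hc : O'.card = O.card := Finset.card_smul_finset _ _
    refine hσ O'ᶜ (by rw [Finset.card_compl, hc, Fintype.card_fin]; omega) ?_
    have h2 : O'.image (⇑(σ : Perm (Fin m))) = O' := h1
    refine Finset.eq_of_subset_of_card_le (fun y hy => ?_)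
      (by rw [Finset.card_image_of_injective _ (σ : Perm (Fin m)).injective])
    obtain ⟨z, hz, rfl⟩ := Finset.mem_image.1 hy
    rw [Finset.mem_compl] at hz ⊢
    intro hm'
    rw [← h2] at hm'
    obtain ⟨w, hw, hwz⟩ := Finset.mem_image.1 hm'
    exact hz ((σ : Perm (Fin m)).injective hwz ▸ hw)
  haveI := Fact.mk hr
  rcases hr.eq_two_or_odd' with rfl | hodd
  · obtain rfl : k = 1 := by omega
    rw [Nat.choose_one_right] at hrd hindex
    have h4 : 4 ∣ m := by
      obtain ⟨c, rfl⟩ := hrd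
      by_contra hc
      have hc1 : c ≠ 1 := by omega
      obtain ⟨s, hs, hsd⟩ := Nat.exists_prime_and_dvd hc1
      have := hmax s hs (by rw [hindex]; exact hsd.mul_left 2)
      have := hs.two_le
      obtain rfl : s = 2 := by omega
      exact hc (by omega)
    obtain ⟨σ, h1, h2, h3⟩ := exists_even_involution h4 (by omega)
    refine ⟨⟨σ, h2⟩, by rw [← Subgroup.orderOf_coe]; exact h1, hder _ fun s hs hσs => ?_⟩
    obtain ⟨y, rfl⟩ := Finset.card_eq_one.1 hs
    exact h3 y (by simpa using hσs)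
  · have hmr : m % r < k := by
      have hd : r ∣ m.descFactorial k := by
        rw [Nat.descFactorial_eq_factorial_mul_choose]; exact Dvd.dvd.mul_left hrd _
      rw [Nat.descFactorial_eq_prod_range, (Nat.prime_iff.1 hr).dvd_finset_prod_iff] at hd
      obtain ⟨i, hi, hid⟩ := hd
      rw [Finset.mem_range] at hi
      obtain ⟨c, hc⟩ := hid
      rw [show m = i + r * c from by omega, Nat.add_mul_mod_self_left, Nat.mod_eq_of_lt (by omega)]
      exact hi
    have hnot : ¬ k % r ≤ m % r := by rw [Nat.mod_eq_of_lt hkr]; omega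
    rw [← Cfsg.Agent.S3573.fixes_iff m k r hr (by omega) (by omega)] at hnot
    push Not at hnot
    obtain ⟨σ, hσ, hnone⟩ := hnot
    have hsign : Equiv.Perm.sign σ = 1 := by
      rcases Int.units_eq_one_or (Equiv.Perm.sign σ) with h | h
      · exact h
      · exfalso
        have h1 : Equiv.Perm.sign (σ ^ r) = -1 := by rw [map_pow, h, Odd.neg_one_pow hodd]
        rw [← hσ, pow_orderOf_eq_one, map_one] at h1
        exact absurd h1 (by decide)
    exact ⟨⟨σ, hsign⟩, by rw [← Subgroup.orderOf_coe]; exact hσ, hder _ hnone⟩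

/-- The combinatorial core. -/
theorem core {m : ℕ} (hm : 5 ≤ m) (K : Subgroup ↥(alternatingGroup (Fin m))) (hK : K ≠ ⊤)
    (hset : m ≠ 6 → ∀ O : Finset (Fin m), m < 2 * O.card → O ≠ Finset.univ →
      (∀ h : Perm (Fin m), (∀ σ ∈ K.map (alternatingGroup (Fin m)).subtype,
          h * σ * h⁻¹ ∈ K.map (alternatingGroup (Fin m)).subtype) → O.image (⇑h) = O) →
      stabilizer ↥(alternatingGroup (Fin m)) O ≤ K)
    (r : ℕ) (hr : r.Prime) (hrd : r ∣ K.index) (hmax : ∀ s : ℕ, s.Prime → s ∣ K.index → s ≤ r) :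
    ∃ σ : ↥(alternatingGroup (Fin m)), orderOf σ = r ∧ ∀ τ, τ * σ * τ⁻¹ ∉ K := by
  classical
  haveI := Fact.mk hr
  have hmul := K.card_mul_index
  by_cases hrK : r ∣ Nat.card ↥K
  swap
  · obtain ⟨σ, hσ⟩ := exists_prime_orderOf_dvd_card' (G := ↥(alternatingGroup (Fin m))) r
      (hrd.trans (hmul ▸ Dvd.intro_left _ rfl))
    refine ⟨σ, hσ, fun τ hτ => hrK ?_⟩
    have hc : orderOf (τ * σ * τ⁻¹) = r := by
      rw [← MulAut.conj_apply, MulEquiv.orderOf_eq, hσ]
    exact hc ▸ Subgroup.orderOf_dvd_natCard _ hτ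
  haveI : Nontrivial (Fin m) := Fin.nontrivial_iff_two_le.2 (by omega)
  have hAm : Nat.card ↥(alternatingGroup (Fin m)) = m.factorial / 2 :=
    CfsgLib.PGroup.AltGen.card_alternating (Fintype.card_fin m) (by omega)
  have hA2 : Nat.card ↥(alternatingGroup (Fin m)) ∣ m.factorial := by
    have h := Subgroup.card_subgroup_dvd_card (alternatingGroup (Fin m))
    rwa [Nat.card_perm, Nat.card_eq_fintype_card (α := Fin m), Fintype.card_fin] at h
  have h2r : 2 * r ≤ m := two_mul_le_of_sq_dvd hr (by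
    rw [pow_two]
    exact ((mul_dvd_mul hrK hrd).trans hmul.dvd).trans hA2)
  by_cases h6 : m = 6
  · subst h6; exact six K hK r hr hrd hmax hrK h2r
  by_cases h5 : m = 5
  · exfalso
    subst h5
    obtain rfl : r = 2 := by have := hr.two_le; omega
    rw [hAm, show (5 : ℕ).factorial / 2 = 60 from rfl] at hmul
    have hidx : 5 ≤ K.index := by
      by_contra h
      have := not_index_le hm K hK (show K.index ≤ 4 by omega)
      rw [hAm] at this; norm_num [Nat.factorial] at this
    have h3 : ¬ 3 ∣ K.index := fun h => by have := hmax 3 (by norm_num) h; omega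
    have h5' : ¬ 5 ∣ K.index := fun h => by have := hmax 5 (by norm_num) h; omega
    have h15 : 15 ∣ Nat.card ↥K :=
      (Nat.Coprime.mul_left (m := 3) (n := 5) ((show Nat.Prime 3 by norm_num).coprime_iff_not_dvd.2 h3)
        ((show Nat.Prime 5 by norm_num).coprime_iff_not_dvd.2 h5')).dvd_of_dvd_mul_right
          (by rw [hmul]; norm_num)
    obtain ⟨u, hu⟩ : 30 ∣ Nat.card ↥K :=
      Nat.Coprime.mul_dvd_of_dvd_of_dvd (m := 2) (n := 15) (by norm_num) hrK h15
    rw [hu] at hmul
    have : 1 ≤ u := by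
      rcases Nat.eq_zero_or_pos u with rfl | h
      · simp at hmul
      · exact h
    nlinarith
  obtain ⟨q, hq, hmq, hqm, hqspec⟩ : ∃ q : ℕ, q.Prime ∧ m < 2 * q ∧ q ≤ m ∧ (q + 3 ≤ m ∨ (m = 7 ∧ q = 5)) := by
    rcases Nat.lt_or_ge m 8 with h | h
    · exact ⟨5, by norm_num, by omega, by omega, Or.inr ⟨by omega, rfl⟩⟩
    · obtain ⟨p, h1, h2, h3⟩ := exists_long_prime h
      exact ⟨p, h1, h2, by omega, Or.inl h3⟩
  haveI := Fact.mk hq
  have hqA : q ∣ Nat.card ↥(alternatingGroup (Fin m)) := by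
    rw [hAm]
    refine ((Nat.Prime.coprime_iff_not_dvd hq).2 fun h => ?_).dvd_of_dvd_mul_left
      (m := 2) (by
        rw [Nat.mul_div_cancel' (Nat.dvd_factorial (by norm_num) (by omega))]
        exact Nat.dvd_factorial hq.pos hqm)
    have := Nat.le_of_dvd (by norm_num) h
    omega
  have hqK : q ∣ Nat.card ↥K := by
    rw [← hmul] at hqA
    rcases hq.dvd_mul.1 hqA with h | h
    · exact h
    · have := hmax q hq h; omega
  obtain ⟨c, hc⟩ := exists_prime_orderOf_dvd_card' (G := ↥K) q hqK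
  set Kp := K.map (alternatingGroup (Fin m)).subtype with hKp
  have hKpA : Kp ≤ alternatingGroup (Fin m) := Subgroup.map_subtype_le K
  have hKne : Kp ≠ alternatingGroup (Fin m) := fun h => hK (by
    apply Subgroup.map_injective (alternatingGroup (Fin m)).subtype_injective
    rw [← hKp, h, ← MonoidHom.range_eq_map, Subgroup.range_subtype])
  set cp : Perm (Fin m) := ((c : ↥(alternatingGroup (Fin m))) : Perm (Fin m)) with hcp
  have hcpK : cp ∈ Kp := ⟨_, c.2, rfl⟩
  have hcord : orderOf cp = q := by rw [hcp, Subgroup.orderOf_coe, Subgroup.orderOf_coe, hc]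
  have hcyc : cp.IsCycle := Equiv.Perm.isCycle_of_prime_order' (hcord ▸ hq) (by rw [hcord]; simpa using hmq)
  have hsupp : cp.support.card = q := by rw [← hcyc.orderOf, hcord]
  obtain ⟨x0, hx0⟩ := Finset.card_pos.1 (hsupp ▸ hq.pos)
  set O : Finset (Fin m) := Finset.univ.filter fun y => ∃ g ∈ Kp, g x0 = y with hO
  have hbig : m < 2 * O.card := by
    have hsub : cp.support ⊆ O := fun y hy => by
      obtain ⟨i, hi⟩ := hcyc.exists_zpow_eq (Equiv.Perm.mem_support.1 hx0) (Equiv.Perm.mem_support.1 hy)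
      exact Finset.mem_filter.2 ⟨Finset.mem_univ _, _, zpow_mem hcpK i, hi⟩
    have := Finset.card_le_card hsub
    omega
  by_cases hOu : O = Finset.univ
  · exfalso
    haveI : IsPretransitive ↥Kp (Fin m) := ⟨fun y z => by
      obtain ⟨g1, h1, rfl⟩ := (Finset.mem_filter.1 (hOu ▸ Finset.mem_univ y : y ∈ O)).2
      obtain ⟨g2, h2, rfl⟩ := (Finset.mem_filter.1 (hOu ▸ Finset.mem_univ z : z ∈ O)).2
      exact ⟨⟨g2 * g1⁻¹, mul_mem h2 (inv_mem h1)⟩, by simp [Subgroup.smul_def]⟩⟩
    have hprim := CfsgLib.PGroup.AltGen.isPreprimitive_of_long_cycle hcyc hcpK (hsupp ▸ hq)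
      (by rw [hsupp]; simpa using hmq)
    rcases hqspec with h | ⟨h7, rfl⟩
    · exact hKne (le_antisymm hKpA
        (Cfsg.Agent.S0713.result Kp hprim hq (by simpa using hm) (by simpa using h) hcyc hsupp hcpK))
    · exact hKne (CfsgLib.PGroup.AltGen.deg_seven (by simpa using h7) hKpA hprim hcyc hcpK hsupp)
  have horbit : ∀ g ∈ Kp, O.image (⇑g) = O := fun g hg => by
    refine Finset.eq_of_subset_of_card_le (fun y hy => ?_) (by rw [Finset.card_image_of_injective _ g.injective])
    obtain ⟨z, hz, rfl⟩ := Finset.mem_image.1 hy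
    obtain ⟨g', hg', rfl⟩ := (Finset.mem_filter.1 hz).2
    exact Finset.mem_filter.2 ⟨Finset.mem_univ _, g * g', mul_mem hg hg', rfl⟩
  have hle : stabilizer ↥(alternatingGroup (Fin m)) O ≤ K := by
    refine hset h6 O hbig hOu fun h hh => ?_
    obtain ⟨y, hy1, hy2⟩ : ∃ y, y ∈ O ∧ y ∈ O.image (⇑h) := by
      by_contra hcon
      push Not at hcon
      have hd : Disjoint O (O.image (⇑h)) := Finset.disjoint_left.2 hcon
      have := Finset.card_le_univ (O ∪ O.image (⇑h))
      rw [Finset.card_union_of_disjoint hd, Finset.card_image_of_injective _ h.injective, Fintype.card_fin] at this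
      omega
    obtain ⟨z, hz, rfl⟩ := Finset.mem_image.1 hy2
    obtain ⟨g0, hg0, hz0⟩ := (Finset.mem_filter.1 hz).2
    obtain ⟨g1, hg1, hz1⟩ := (Finset.mem_filter.1 hy1).2
    refine Finset.eq_of_subset_of_card_le (fun w hw => ?_) (by rw [Finset.card_image_of_injective _ h.injective])
    obtain ⟨v, hv, rfl⟩ := Finset.mem_image.1 hw
    obtain ⟨g2, hg2, rfl⟩ := (Finset.mem_filter.1 hv).2
    refine Finset.mem_filter.2 ⟨Finset.mem_univ _,
      h * (g2 * g0⁻¹) * h⁻¹ * g1, mul_mem (hh _ (mul_mem hg2 (inv_mem hg0))) hg1, ?_⟩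
    simp only [Equiv.Perm.mul_apply, hz1, Equiv.Perm.coe_inv, Equiv.symm_apply_apply]
    rw [← hz0, Equiv.symm_apply_apply]
  have heq : K = stabilizer ↥(alternatingGroup (Fin m)) O :=
    le_antisymm (fun g hg => horbit _ ⟨g, hg, rfl⟩) hle
  exact setwise hm O hbig hOu K heq r hr hrd hmax h2r

/-- Let G be an almost simple group whose socle is an alternating group of degree m ≥ 5 (G has a normal subgroup T isomorphic to that alternating group with trivial centralizer), acting faithfully and primitively on a finite set Ω with at least two points, and let r be the largest prime divisor of the number of points. Then G contains an element of order r fixing no point. -/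
theorem result {G Ω : Type*} [Group G] [Finite G] [MulAction G Ω] [FaithfulSMul G Ω] [Finite Ω]
    (T : Subgroup G) (hT : T.Normal) (hTc : Subgroup.centralizer (T : Set G) = ⊥) (m : ℕ) (hm : 5 ≤ m)
    (eT : ↥T ≃* ↥(alternatingGroup (Fin m))) (hprim : MulAction.IsPreprimitive G Ω) (hΩ : 2 ≤ Nat.card Ω)
    (r : ℕ) (hr : r.Prime) (hrd : r ∣ Nat.card Ω) (hmax : ∀ s : ℕ, s.Prime → s ∣ Nat.card Ω → s ≤ r) :
    ∃ g : G, orderOf g = r ∧ ∀ ω : Ω, g • ω ≠ ω := by
  classical
  haveI := Fintype.ofFinite Ω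
  haveI := hprim
  have hnt : Nontrivial Ω := Finite.one_lt_card_iff_nontrivial.1 (by omega)
  obtain ⟨a⟩ := hnt.to_nonempty
  haveI : Nontrivial (Fin m) := Fin.nontrivial_iff_two_le.2 (by omega)
  have hAnt : Nontrivial ↥T := by
    haveI : Nontrivial ↥(alternatingGroup (Fin m)) :=
      alternatingGroup.nontrivial_of_three_le_card (by simpa using (by omega : 3 ≤ m))
    exact eT.toEquiv.nontrivial
  haveI : IsPretransitive ↥T Ω := by
    haveI := hT
    refine IsQuasiPreprimitive.isPretransitive_of_normal (G := G) (N := T) (fun hfix => ?_)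
    obtain ⟨t, ht⟩ := exists_ne (1 : ↥T)
    refine ht (Subtype.ext (FaithfulSMul.eq_of_smul_eq_smul (α := Ω) fun ω => ?_))
    have hω : ω ∈ fixedPoints T Ω := by rw [hfix]; exact Set.mem_univ ω
    rw [Subgroup.coe_one, one_smul]
    exact hω t
  set A := alternatingGroup (Fin m) with hA
  set Ta := stabilizer ↥T a with hTa
  set K : Subgroup ↥A := Ta.map eT.toMonoidHom with hK
  have hKidx : K.index = Nat.card Ω := by
    rw [hK, show (Ta.map eT.toMonoidHom).index = Ta.index from Subgroup.index_map_equiv Ta eT, hTa, MulAction.index_stabilizer, orbit_eq_univ, Set.ncard_univ]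
  have hKtop : K ≠ ⊤ := fun h => by
    rw [h, Subgroup.index_top] at hKidx; omega
  suffices hcore : ∃ σ : ↥A, orderOf σ = r ∧ ∀ τ, τ * σ * τ⁻¹ ∉ K by
    obtain ⟨σ, hσ, hfree⟩ := hcore
    refine ⟨((eT.symm σ : ↥T) : G), ?_, fun ω hω => ?_⟩
    · rw [Subgroup.orderOf_coe, MulEquiv.orderOf_eq, hσ]
    · obtain ⟨t, ht⟩ := exists_smul_eq ↥T a ω
      refine hfree (eT t⁻¹) ⟨t⁻¹ * eT.symm σ * t, ?_, by simp⟩
      change (t⁻¹ * eT.symm σ * t) • a = a
      rw [mul_smul, mul_smul, ht, inv_smul_eq_iff, ht]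
      exact hω
  refine core hm K hKtop (fun h6 O hO hOu hnorm => ?_) r hr (hKidx ▸ hrd) (hKidx ▸ hmax)
  -- extend the isomorphism to the whole group
  haveI := hT
  let Φ : Equiv.Perm (Fin m) ≃* MulAut ↥A :=
    MulEquiv.ofBijective _ (Cfsg.Agent.S2119.result m (by omega) h6)
  let Ψ : G →* Equiv.Perm (Fin m) :=
    Φ.symm.toMonoidHom.comp ((MulAut.congr eT).toMonoidHom.comp (MulAut.conjNormal (H := T)))
  have hΨ : ∀ (g : G) (t : ↥T), (Ψ g) * (eT t : Equiv.Perm (Fin m)) * (Ψ g)⁻¹
      = (eT (MulAut.conjNormal g t) : Equiv.Perm (Fin m)) := by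
    intro g t
    have h1 : Φ (Ψ g) = (MulAut.congr eT) (MulAut.conjNormal g) := Φ.apply_symm_apply _
    have h2 := congrArg (fun φ : MulAut ↥A => ((φ (eT t) : ↥A) : Equiv.Perm (Fin m))) h1
    simpa [Φ, MulAut.congr] using h2
  have hΨT : ∀ t : ↥T, Ψ (t : G) = (eT t : Equiv.Perm (Fin m)) := by
    intro t
    apply Φ.injective
    rw [show Φ (Ψ (t : G)) = (MulAut.congr eT) (MulAut.conjNormal (t : G)) from Φ.apply_symm_apply _]
    refine MulEquiv.ext fun u => Subtype.ext ?_
    obtain ⟨s, rfl⟩ := eT.surjective u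
    have e : MulAut.conjNormal (t : G) s = t * s * t⁻¹ := Subtype.ext (by simp)
    simp [Φ, MulAut.congr, e, MulAut.conjNormal_apply]
  set H := stabilizer G a with hH
  have hHO : ∀ h ∈ H, O.image (⇑(Ψ h)) = O := by
    intro h hh
    refine hnorm (Ψ h) ?_
    rintro _ ⟨u, ⟨t, ht, rfl⟩, rfl⟩
    refine ⟨eT (MulAut.conjNormal h t), ⟨_, ?_, rfl⟩, ?_⟩
    · change ((MulAut.conjNormal h t : ↥T) : G) • a = a
      rw [MulAut.conjNormal_apply, mul_smul, mul_smul,
        show h⁻¹ • a = a from inv_smul_eq_iff.2 (mem_stabilizer_iff.1 hh).symm]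
      rw [show (t : G) • a = a from ht]
      exact mem_stabilizer_iff.1 hh
    · exact (hΨ h t).symm
  have hcoatom : IsCoatom H := IsPreprimitive.isCoatom_stabilizer_of_isPreprimitive (G := G) a
  let S : Subgroup G := (stabilizer (Equiv.Perm (Fin m)) O).comap Ψ
  have hHS : H ≤ S := fun h hh => hHO h hh
  have hS : H = S := by
    rcases hcoatom.le_iff.1 hHS with h | h
    · exfalso
      obtain ⟨x, hx⟩ : ∃ x, x ∈ O := Finset.card_pos.1 (by omega)
      obtain ⟨y, hy⟩ : ∃ y, y ∉ O := by
        by_contra hc; push Not at hc; exact hOu (Finset.eq_univ_iff_forall.2 hc)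
      haveI : IsPretransitive ↥A (Fin m) :=
        alternatingGroup.isPretransitive_of_three_le_card (Fin m) (by simp; omega)
      obtain ⟨u, hu⟩ := exists_smul_eq ↥A x y
      obtain ⟨t, rfl⟩ := eT.surjective u
      have h1 : Ψ (t : G) • O = O := (h ▸ Subgroup.mem_top (t : G) : (t : G) ∈ S)
      refine hy ?_
      rw [← h1, ← hu]
      exact Finset.mem_image.2 ⟨x, hx, by rw [hΨT]; rfl⟩
    · exact h.symm
  intro u hu
  obtain ⟨t, rfl⟩ := eT.surjective u
  refine ⟨t, ?_, rfl⟩
  have h1 : (t : G) ∈ H := by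
    rw [hS]
    change Ψ (t : G) • O = O
    rw [hΨT]
    exact mem_stabilizer_iff.1 hu
  exact mem_stabilizer_iff.1 h1


end Cfsg.Agent.S3571
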