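import Cfsg.Statements.S3572
import Cfsg.Agent.Lib.LocalEvenB.DihedralMain

set_option autoImplicit false
open Cfsg

namespace Cfsg.Agent.S3572

/-- A finite primitive permutation group containing a dihedral subgroup that acts regularly (transitively with trivial point stabilizers) is doubly transitive. -/
theorem result {G Ω : Type*} [Group G] [Finite G] [MulAction G Ω] [FaithfulSMul G Ω] [Finite Ω]
    (hprim : MulAction.IsPreprimitive G Ω) (D : Subgroup G) (m : ℕ) (hD : Nonempty (↥D ≃* DihedralGroup m))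
    (hDreg : MulAction.IsPretransitive ↥D Ω ∧ ∀ a : Ω, MulAction.stabilizer ↥D a = ⊥) :
    MulAction.IsMultiplyPretransitive G Ω 2 := by
  classical
  obtain ⟨e⟩ := hD
  rw [MulAction.is_two_pretransitive_iff]
  intro a b c d hab hcd
  have : NeZero m := ⟨fun h0 => by
    subst h0
    have : Finite (DihedralGroup 0) := Finite.of_equiv _ e.toEquiv
    have h := Nat.card_pos (α := DihedralGroup 0)
    rw [DihedralGroup.nat_card] at h
    omega⟩
  let f : DihedralGroup m → Ω := fun x => ((e.symm x : ↥D) : G) • a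
  have hf : Function.Bijective f := by
    constructor
    · intro x y h
      have hmem : (e.symm y)⁻¹ * e.symm x ∈ MulAction.stabilizer ↥D a := by
        rw [MulAction.mem_stabilizer_iff]
        change ((((e.symm y)⁻¹ * e.symm x : ↥D)) : G) • a = a
        rw [Subgroup.coe_mul, Subgroup.coe_inv, mul_smul, inv_smul_eq_iff]
        exact h
      rw [hDreg.2 a, Subgroup.mem_bot, inv_mul_eq_one] at hmem
      exact (e.symm.injective hmem).symm
    · intro w
      obtain ⟨g, hg⟩ := hDreg.1.exists_smul_eq a w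
      exact ⟨e g, by simp only [f, MulEquiv.symm_apply_apply]; exact hg⟩
  let φ : DihedralGroup m ≃ Ω := Equiv.ofBijective f hf
  have hφ : ∀ x, φ x = ((e.symm x : ↥D) : G) • a := fun _ => rfl
  let π : G →* Equiv.Perm (DihedralGroup m) :=
    (φ.symm.permCongrHom.toMonoidHom).comp (MulAction.toPermHom G Ω)
  have hπ : ∀ g x, φ (π g x) = g • φ x := fun g x => by simp [π, Equiv.permCongrHom]
  have hm2 : ∀ (x y : Ω), x ≠ y → 2 ≤ m ∨ ∀ z : Ω, z = x ∨ z = y := by
    intro x y hxy
    by_cases h : 2 ≤ m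
    · exact Or.inl h
    refine Or.inr fun z => ?_
    by_contra hz
    push Not at hz
    have h3 : ({x, y, z} : Finset Ω).card = 3 := by
      rw [Finset.card_insert_of_notMem, Finset.card_pair hz.2.symm]
      simp [hxy, hz.1.symm]
    let := Fintype.ofFinite Ω
    have := Finset.card_le_univ ({x, y, z} : Finset Ω)
    rw [h3, ← Fintype.card_congr φ, DihedralGroup.card] at this
    omega
  by_cases hm : 2 ≤ m
  swap
  · obtain ⟨g, hg⟩ := hprim.toIsPretransitive.exists_smul_eq a c
    refine ⟨g, hg, ?_⟩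
    rcases ((hm2 c d hcd).resolve_left hm) (g • b) with h | h
    · exact absurd (smul_left_cancel g (h.trans hg.symm)) hab.symm
    · exact h
  open CfsgLib.LocalEvenB.DihedralSchur in
  have hP : Prim π.range := by
    refine ⟨fun x => ⟨((e.symm x : ↥D) : G), ?_⟩, fun H hH => ?_, hm⟩
    · ext y
      apply φ.injective
      rw [hπ, hφ, hφ, smul_smul, ← Subgroup.coe_mul, Equiv.coe_mulLeft, map_mul]
    · have hblock : MulAction.IsBlock G (φ '' (H : Set (DihedralGroup m))) := by
        refine MulAction.isBlock_iff_smul_eq_of_nonempty.2 fun g hne => ?_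
        obtain ⟨w, ⟨w', ⟨h₁, hh₁, rfl⟩, hw⟩, ⟨h₂, hh₂, rfl⟩⟩ := hne
        have e1 : π g h₁ = h₂ := φ.injective ((hπ g h₁).trans hw)
        have key : ∀ x, π g x ∈ H ↔ x ∈ H := fun x => by
          have hi := hH (π g) ⟨g, rfl⟩ h₁ x
          simp only [e1, eq_iff_iff] at hi
          rwa [H.mul_mem_cancel_left (H.inv_mem hh₂), H.mul_mem_cancel_left (H.inv_mem hh₁)] at hi
        ext z
        constructor
        · rintro ⟨z', ⟨x, hx, rfl⟩, rfl⟩
          exact ⟨π g x, (key x).2 hx, hπ g x⟩
        · rintro ⟨x, hx, rfl⟩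
          refine ⟨φ ((π g).symm x), ⟨_, (key _).1 ?_, rfl⟩, ?_⟩
          · rw [Equiv.apply_symm_apply]; exact hx
          · change g • φ ((π g).symm x) = φ x
            rw [← hπ, Equiv.apply_symm_apply]
      rcases hprim.isTrivialBlock_of_isBlock hblock with h | h
      · left
        rw [Subgroup.eq_bot_iff_forall]
        intro x hx
        exact φ.injective (h ⟨x, hx, rfl⟩ ⟨1, H.one_mem, rfl⟩)
      · right
        rw [eq_top_iff]
        intro x _
        obtain ⟨x', hx', hxx⟩ := h.symm ▸ Set.mem_univ (φ x)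
        exact φ.injective hxx ▸ hx'
  have hphi1 : φ 1 = a := by rw [hφ, map_one, Subgroup.coe_one, one_smul]
  obtain ⟨g₁, hg₁⟩ := hprim.toIsPretransitive.exists_smul_eq c a
  have h1 : φ.symm b ≠ 1 := fun h => hab (by rw [← φ.apply_symm_apply b, h, hphi1])
  have h2 : φ.symm (g₁ • d) ≠ 1 := fun h => hcd <| smul_left_cancel g₁ <| by
    rw [hg₁, ← φ.apply_symm_apply (g₁ • d), h, hphi1]
  obtain ⟨σ, ⟨g, rfl⟩, hs1, hs2⟩ :=
    CfsgLib.LocalEvenB.DihedralSchur.transitive hP _ _ h1 h2
  refine ⟨g₁⁻¹ * g, ?_, ?_⟩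
  · have : g • a = a := by rw [← hphi1, ← hπ, hs1]
    rw [mul_smul, this, inv_smul_eq_iff, hg₁]
  · have : g • b = g₁ • d := by
      rw [← φ.apply_symm_apply b, ← hπ, hs2, Equiv.apply_symm_apply]
    rw [mul_smul, this, inv_smul_smul]

end Cfsg.Agent.S3572
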