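import Cfsg.Statements.S3575
import Cfsg.Agent.S3573
-- import your own Cfsg.Agent.* helpers here

set_option autoImplicit false
open Cfsg

namespace Cfsg.Agent.S3575


open Equiv Finset

theorem pow_eq_one_of_replicate {α : Type*} [Fintype α] [DecidableEq α] {σ : Perm α} {t r : ℕ}
    (h : σ.cycleType = Multiset.replicate t r) : σ ^ r = 1 := by
  rw [← orderOf_dvd_iff_pow_eq_one, ← Perm.lcm_cycleType, h]
  exact Multiset.lcm_dvd.2 fun a ha => by rw [Multiset.eq_of_mem_replicate ha]

theorem exists_cycles {m t r : ℕ} (hr : r.Prime) (h : t * r ≤ m) :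
    ∃ σ : Perm (Fin m), σ ^ r = 1 ∧ σ.support.card = t * r := by
  obtain ⟨σ, hσ⟩ := (Perm.exists_with_cycleType_iff (α := Fin m) (m := Multiset.replicate t r)).2
    ⟨by rw [Multiset.sum_replicate, smul_eq_mul, Fintype.card_fin]; exact h,
     fun a ha => by rw [Multiset.eq_of_mem_replicate ha]; exact hr.two_le⟩
  exact ⟨σ, pow_eq_one_of_replicate hσ,
    by rw [← Perm.sum_cycleType, hσ, Multiset.sum_replicate, smul_eq_mul]⟩

theorem orderOf_of_moved {α : Type*} [Fintype α] [DecidableEq α] {σ : Perm α} {r : ℕ} (hr : r.Prime)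
    (h : σ ^ r = 1) (hne : σ.support.card ≠ 0) : orderOf σ = r := by
  haveI := Fact.mk hr
  exact orderOf_eq_prime h fun h1 => hne (by simp [h1])

theorem cycleType_of_order {α : Type*} [Fintype α] [DecidableEq α] {σ : Perm α} {r : ℕ} (hr : r.Prime)
    (h : orderOf σ = r) : ∃ j, 0 < j ∧ σ.support.card = j * r ∧ σ.cycleType = Multiset.replicate j r := by
  obtain ⟨j, hj⟩ := Perm.cycleType_prime_order (σ := σ) (h.symm ▸ hr)
  exact ⟨j + 1, j.succ_pos, by rw [← Perm.sum_cycleType, hj, Multiset.sum_replicate, smul_eq_mul, h], by rw [hj, h]⟩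

theorem distribute {ι : Type*} [DecidableEq ι] (q : ℕ) : ∀ (S : Finset ι) (N : ℕ), N ≤ S.card * q →
    ∃ g : ι → ℕ, (∀ y, g y ≤ q) ∧ ∑ y ∈ S, g y = N := by
  intro S
  induction S using Finset.induction with
  | empty => intro N hN; exact ⟨fun _ => 0, fun _ => Nat.zero_le _, by simp at hN; simp [hN]⟩
  | insert x S hx ih =>
    intro N hN
    rw [card_insert_of_notMem hx, add_mul, one_mul] at hN
    obtain ⟨g, hg, hs⟩ := ih (N - min N q) (by omega)
    refine ⟨Function.update g x (min N q), fun y => ?_, ?_⟩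
    · by_cases h : y = x
      · subst h; simp
      · simp [h, hg y]
    · rw [sum_insert hx, Function.update_self,
        sum_congr rfl (fun y hy => Function.update_of_ne (ne_of_mem_of_not_mem hy hx) _ _), hs]
      omega

theorem necessary {a b r : ℕ} (ha : 0 < a) (hr : r.Prime) {σ : Perm (Fin (a * b))} {j : ℕ}
    (hσ : σ ^ r = 1) (hj : σ.support.card = j * r) {f : Fin (a * b) → Fin b}
    (hf : ∀ y : Fin b, Nat.card {x : Fin (a * b) // f x = y} = a) {π : Perm (Fin b)}
    (hπ : ∀ x, f (σ x) = π (f x)) :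
    ∃ t, t * r ≤ b ∧ t * a ≤ j ∧ j ≤ t * a + (b - t * r) * (a / r) := by
  classical
  have hfib : ∀ y, (univ.filter fun x => f x = y).card = a := fun y => by
    have := hf y
    rwa [Nat.card_eq_fintype_card, Fintype.card_subtype] at this
  have hpow : ∀ k x, f ((σ ^ k) x) = (π ^ k) (f x) := by
    intro k
    induction k with
    | zero => simp
    | succ k ih => intro x; rw [pow_succ', pow_succ', Perm.mul_apply, Perm.mul_apply, hπ, ih]
  have hπr : π ^ r = 1 := Equiv.ext fun y => by
    obtain ⟨x, hx⟩ := card_pos.1 (lt_of_lt_of_eq ha (hfib y).symm)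
    rw [← (mem_filter.1 hx).2, ← hpow, hσ]; rfl
  obtain ⟨t, ht⟩ := Cfsg.Agent.S3573.dvd_card_invariant hr hπr (A := π.support)
    (fun x hx => Perm.apply_mem_support.2 hx) (fun x hx => Perm.mem_support.1 hx)
  rw [mul_comm] at ht
  have htb : t * r ≤ b := by
    have := card_le_univ π.support
    rwa [ht, Fintype.card_fin] at this
  refine ⟨t, htb, ?_⟩
  have hsplit : σ.support.card = ∑ y, (σ.support.filter fun x => f x = y).card :=
    card_eq_sum_card_fiberwise (fun x _ => mem_univ (f x))
  have hmov : ∀ y ∈ π.support, (σ.support.filter fun x => f x = y).card = a := by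
    intro y hy
    refine Eq.trans ?_ (hfib y)
    refine congrArg Finset.card (Finset.ext fun x => ?_)
    simp only [mem_filter, mem_univ, true_and, Perm.mem_support]
    refine ⟨And.right, fun h => ⟨fun h1 => Perm.mem_support.1 hy ?_, h⟩⟩
    rw [← h, ← hπ, h1]
  have hfix : ∀ y ∈ univ \ π.support, (σ.support.filter fun x => f x = y).card ≤ a / r * r := by
    intro y hy
    have hy' : π y = y := Perm.notMem_support.1 (mem_sdiff.1 hy).2
    obtain ⟨i, hi⟩ := Cfsg.Agent.S3573.dvd_card_invariant hr hσ (A := σ.support.filter fun x => f x = y)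
      (fun x hx => by
        obtain ⟨h1, h2⟩ := mem_filter.1 hx
        exact mem_filter.2 ⟨Perm.apply_mem_support.2 h1, by rw [hπ, h2, hy']⟩)
      (fun x hx => Perm.mem_support.1 (mem_filter.1 hx).1)
    have hle : (σ.support.filter fun x => f x = y).card ≤ a := by
      refine le_of_le_of_eq ?_ (hfib y)
      exact card_le_card (filter_subset_filter _ (subset_univ _))
    rw [hi] at hle ⊢
    rw [mul_comm]
    exact Nat.mul_le_mul_right r ((Nat.le_div_iff_mul_le hr.pos).2 (by rwa [mul_comm]))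
  rw [← sum_sdiff (subset_univ π.support), sum_congr rfl hmov, sum_const, smul_eq_mul, ht, hj] at hsplit
  have h2 := sum_le_card_nsmul (univ \ π.support) _ _ hfix
  rw [smul_eq_mul, card_univ_diff, Fintype.card_fin, ht] at h2
  constructor
  · refine Nat.le_of_mul_le_mul_right ?_ hr.pos
    rw [hsplit, mul_right_comm]
    exact Nat.le_add_left _ _
  · refine Nat.le_of_mul_le_mul_right ?_ hr.pos
    rw [hsplit, add_mul, mul_right_comm t r a, add_comm, mul_assoc (b - t * r)]
    exact Nat.add_le_add_left h2 _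

theorem sufficient {a b r : ℕ} (ha : 0 < a) (hr : r.Prime) {σ : Perm (Fin (a * b))} {j : ℕ}
    (hord : orderOf σ = r) (hj : σ.support.card = j * r) {t : ℕ} (htb : t * r ≤ b) (hta : t * a ≤ j)
    (hju : j ≤ t * a + (b - t * r) * (a / r)) :
    ∃ f : Fin (a * b) → Fin b, (∀ y : Fin b, Nat.card {x : Fin (a * b) // f x = y} = a) ∧
      ∃ π : Perm (Fin b), ∀ x, f (σ x) = π (f x) := by
  classical
  obtain ⟨π, hπ, hπc⟩ := exists_cycles hr htb
  obtain ⟨g, hg, hgs⟩ := distribute (a / r) (univ \ π.support) (j - t * a) (by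
    rw [card_univ_diff, Fintype.card_fin, hπc]; omega)
  have hex : ∀ y, ∃ ρ : Perm (Fin a), ρ ^ r = 1 ∧ (π y = y → ρ.support.card = g y * r) ∧ (π y ≠ y → ρ = 1) := by
    intro y
    by_cases h : π y = y
    · obtain ⟨ρ, h1, h2⟩ := exists_cycles (m := a) hr ((Nat.le_div_iff_mul_le hr.pos).1 (hg y))
      exact ⟨ρ, h1, fun _ => h2, fun h' => absurd h h'⟩
    · exact ⟨1, one_pow r, fun h' => absurd h' h, fun _ => rfl⟩
  choose ρ hρr hρc hρ1 using hex
  let τ : Perm (Fin b × Fin a) :=
    { toFun := fun p => (π p.1, ρ p.1 p.2)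
      invFun := fun p => (π.symm p.1, (ρ (π.symm p.1)).symm p.2)
      left_inv := fun p => by simp
      right_inv := fun p => by simp }
  have hρπ : ∀ y, π y ≠ y → ρ (π y) = 1 := fun y h => hρ1 _ fun h' => h (π.injective h')
  have hτk : ∀ k p, (τ ^ k) p = ((π ^ k) p.1, (ρ p.1 ^ k) p.2) := by
    intro k
    induction k with
    | zero => simp
    | succ k ih =>
      intro p
      rw [pow_succ, Perm.mul_apply, ih]
      simp only [τ, Equiv.coe_fn_mk]
      refine Prod.ext ?_ ?_
      · rw [pow_succ, Perm.mul_apply]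
      · by_cases h : π p.1 = p.1
        · simp only [h]; rw [pow_succ, Perm.mul_apply]
        · simp [hρπ p.1 h, hρ1 p.1 h]
  have hτr : τ ^ r = 1 := Equiv.ext fun p => by rw [hτk, hπ, hρr]; rfl
  have hsup : τ.support.card = j * r := by
    have h1 : τ.support.card = ∑ y, (τ.support.filter fun p => p.1 = y).card :=
      card_eq_sum_card_fiberwise (fun x _ => mem_univ _)
    have h2 : ∀ y, (τ.support.filter fun p => p.1 = y).card = if π y = y then g y * r else a := by
      intro y
      by_cases h : π y = y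
      · rw [if_pos h, ← hρc y h, ← card_map (⟨fun i => (y, i), fun i i' e => (Prod.ext_iff.1 e).2⟩ : Fin a ↪ Fin b × Fin a)]
        refine congrArg Finset.card (Finset.ext fun ⟨y', i⟩ => ?_)
        simp only [mem_filter, Perm.mem_support, mem_map, Function.Embedding.coeFn_mk, τ, Equiv.coe_fn_mk,
          ne_eq, Prod.ext_iff]
        constructor
        · rintro ⟨h1, rfl⟩
          exact ⟨i, fun e => h1 ⟨h, e⟩, rfl, rfl⟩
        · rintro ⟨i', h1, rfl, rfl⟩
          exact ⟨fun e => h1 e.2, rfl⟩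
      · rw [if_neg h]
        conv_rhs => rw [← Fintype.card_fin a, ← card_univ,
          ← card_map (⟨fun i => (y, i), fun i i' e => (Prod.ext_iff.1 e).2⟩ : Fin a ↪ Fin b × Fin a)]
        refine congrArg Finset.card (Finset.ext fun ⟨y', i⟩ => ?_)
        simp only [mem_filter, Perm.mem_support, mem_map, Function.Embedding.coeFn_mk, τ, Equiv.coe_fn_mk,
          ne_eq, Prod.ext_iff, mem_univ, true_and]
        constructor
        · rintro ⟨-, rfl⟩; exact ⟨i, rfl, rfl⟩
        · rintro ⟨i', rfl, rfl⟩; exact ⟨fun e => h e.1, rfl⟩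
    rw [h1, sum_congr rfl (fun y _ => h2 y), ← sum_sdiff (subset_univ π.support),
      sum_congr rfl (fun y hy => if_pos (Perm.notMem_support.1 (mem_sdiff.1 hy).2)),
      sum_congr rfl (fun y hy => if_neg (Perm.mem_support.1 hy)), ← sum_mul, hgs, sum_const, smul_eq_mul, hπc,
      mul_right_comm, ← add_mul, Nat.sub_add_cancel hta]
  let e : Fin (a * b) ≃ Fin b × Fin a := (finCongr (mul_comm a b)).trans finProdFinEquiv.symm
  let τ' : Perm (Fin (a * b)) := e.symm.permCongr τ
  have hτ's : τ'.support.card = j * r := by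
    rw [← hsup]
    refine card_bij (fun x _ => e x) ?_ ?_ ?_
    · intro x hx
      rw [Perm.mem_support] at hx ⊢
      intro h; exact hx (by simp [τ', Equiv.permCongr_apply, h])
    · exact fun x _ y _ h => e.injective h
    · intro p hp
      refine ⟨e.symm p, ?_, by simp⟩
      rw [Perm.mem_support] at hp ⊢
      simpa [τ', Equiv.permCongr_apply] using hp
  have hτ'r : τ' ^ r = 1 := by
    show (e.symm.permCongrHom τ) ^ r = 1
    rw [← map_pow, hτr, map_one]
  have hne : j * r ≠ 0 := fun h => by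
    have h1 : σ = 1 := by rw [← Perm.support_eq_empty_iff, ← card_eq_zero, hj, h]
    rw [h1, orderOf_one] at hord
    exact hr.ne_one hord.symm
  have hconj : IsConj τ' σ := by
    rw [Perm.isConj_iff_cycleType_eq]
    obtain ⟨j1, -, h1, h1'⟩ := cycleType_of_order hr (orderOf_of_moved hr hτ'r (by rw [hτ's]; exact hne))
    obtain ⟨j2, -, h2, h2'⟩ := cycleType_of_order hr hord
    rw [h1', h2', Nat.eq_of_mul_eq_mul_right hr.pos (show j1 * r = j2 * r by omega)]
  obtain ⟨c, hc⟩ := isConj_iff.1 hconj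
  refine ⟨fun x => (e (c⁻¹ x)).1, fun y => ?_, π, fun x => ?_⟩
  · refine (Nat.card_congr ((c⁻¹ : Perm (Fin (a * b))).trans e |>.subtypeEquiv (q := fun p => p.1 = y)
      (fun x => Iff.rfl))).trans ?_
    rw [Nat.card_congr (β := Fin a) ⟨fun p => p.1.2, fun i => ⟨(y, i), rfl⟩,
      fun ⟨⟨y', i⟩, h⟩ => by subst h; rfl, fun i => rfl⟩, Nat.card_fin]
  · show (e (c⁻¹ (σ x))).1 = π (e (c⁻¹ x)).1
    have : c⁻¹ (σ x) = τ' (c⁻¹ x) := by rw [← hc]; simp
    rw [this]
    simp [τ', Equiv.permCongr_apply, τ]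

theorem covering_iff {a b r : ℕ} (ha : 2 ≤ a) (hb : 2 ≤ b) (hr : r.Prime) (hrn : r ≤ a * b) :
    (∀ j, 0 < j → j * r ≤ a * b → ∃ t, t * r ≤ b ∧ t * a ≤ j ∧ j ≤ t * a + (b - t * r) * (a / r)) ↔
      (r ≤ a ∧ (a % r = 0 ∨ (b % r = 0 ∧ a % r = 1) ∨
        (a % r ≠ 0 ∧ b % r ≠ 0 ∧ (b % r) * (a % r) < r ∧ (b < r ∨ (b % r + r) * (a % r) ≤ (b % r) * a + r)))) := by
  have hra : a = r * (a / r) + a % r := (Nat.div_add_mod a r).symm
  have hrb : b = r * (b / r) + b % r := (Nat.div_add_mod b r).symm
  have hl := Nat.mod_lt a hr.pos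
  have hk := Nat.mod_lt b hr.pos
  set q := a / r
  set l := a % r
  set T := b / r
  set k := b % r
  have hup : ∀ t, t * r ≤ b → t * a + (b - t * r) * q = b * q + t * l := by
    intro t ht
    obtain ⟨c, hc⟩ := Nat.exists_eq_add_of_le ht
    rw [hc, Nat.add_sub_cancel_left, hra]; ring
  have htT : ∀ t, t * r ≤ b ↔ t ≤ T := fun t => (Nat.le_div_iff_mul_le hr.pos).symm
  constructor
  · intro h
    have hA : k * l < r := by
      by_contra hA
      obtain ⟨t, ht1, -, ht3⟩ := h (b * q + T * l + 1) (Nat.succ_pos _) (by rw [hra, hrb]; nlinarith)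
      rw [hup t ht1] at ht3
      have := Nat.mul_le_mul_right l ((htT t).1 ht1)
      omega
    have hB : T = 0 ∨ l ≤ k * q + 1 := by
      by_contra hB
      push Not at hB
      obtain ⟨hT, hlq⟩ := hB
      obtain ⟨T', hT'⟩ : ∃ T', T = T' + 1 := Nat.exists_eq_succ_of_ne_zero hT
      have h1 : T * a ≤ b * a := Nat.mul_le_mul_right a (Nat.div_le_self b r)
      have h2 : 2 ≤ T * a := le_trans ha (Nat.le_mul_of_pos_left a (Nat.pos_of_ne_zero hT))
      have h3 : T * a * r ≤ a * b := by
        rw [mul_right_comm, mul_comm a b]; exact Nat.mul_le_mul_right a ((htT T).2 le_rfl)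
      obtain ⟨t, ht1, ht2, ht3⟩ := h (T * a - 1) (by omega) (le_trans (Nat.mul_le_mul_right r (Nat.sub_le _ _)) h3)
      rw [hup t ht1] at ht3
      have ht : t ≤ T' := by
        by_contra hlt
        have := Nat.mul_le_mul_right a (show T ≤ t by omega)
        omega
      have := Nat.mul_le_mul_right l ht
      rw [hT'] at hrb ht3 h2 ht2
      have : b * q + T' * l + 2 ≤ (T' + 1) * a := by rw [hra, hrb]; nlinarith
      omega
    have hq : r ≤ a := by
      by_contra hlt
      have hq0 : q = 0 := Nat.div_eq_of_lt (not_le.1 hlt)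
      have hla : l = a := Nat.mod_eq_of_lt (not_le.1 hlt)
      rcases hB with hT | hB
      · rw [hla, show k = b by rw [hT] at hrb; omega, mul_comm] at hA; omega
      · rw [hla, hq0, mul_zero] at hB; omega
    refine ⟨hq, ?_⟩
    by_cases hl0 : l = 0
    · exact Or.inl hl0
    by_cases hk0 : k = 0
    · refine Or.inr (Or.inl ⟨hk0, ?_⟩)
      rcases hB with hT | hB
      · rw [hT, hk0] at hrb; omega
      · rw [hk0, zero_mul] at hB; omega
    refine Or.inr (Or.inr ⟨hl0, hk0, hA, ?_⟩)
    rcases hB with hT | hB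
    · left; rw [hT] at hrb; omega
    · right; rw [hra]; nlinarith
  · rintro ⟨hq, hcase⟩ j hj hjn
    have hAB : k * l < r ∧ (T = 0 ∨ l ≤ k * q + 1) := by
      rcases hcase with h | ⟨h1, h2⟩ | ⟨-, -, h1, h2⟩
      · rw [h, mul_zero]; exact ⟨hr.pos, Or.inr (Nat.zero_le _)⟩
      · rw [h1, h2]; exact ⟨by simpa using hr.pos, Or.inr (by simp)⟩
      · refine ⟨h1, ?_⟩
        rcases h2 with h2 | h2
        · exact Or.inl (Nat.div_eq_of_lt h2)
        · right
          rw [hra] at h2
          have : r * l ≤ r * (k * q + 1) := by nlinarith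
          exact Nat.le_of_mul_le_mul_left this hr.pos
    obtain ⟨hA, hB⟩ := hAB
    refine ⟨min T (j / a), (htT _).2 (min_le_left _ _), ?_, ?_⟩
    · exact le_trans (Nat.mul_le_mul_right a (min_le_right _ _)) (Nat.div_mul_le_self j a)
    rw [hup _ ((htT _).2 (min_le_left _ _))]
    rcases le_or_gt T (j / a) with hm | hm
    · rw [min_eq_left hm]
      by_contra hlt
      have := Nat.mul_le_mul_right r (Nat.succ_le_of_lt (not_le.1 hlt))
      rw [hra, hrb] at hjn
      nlinarith
    · rw [min_eq_right hm.le]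
      have h1 : j < (j / a + 1) * a := by
        rw [add_mul, one_mul]; exact Nat.lt_div_mul_add (by omega)
      have h2 : l ≤ k * q + 1 := hB.resolve_left (Nat.ne_zero_of_lt hm)
      obtain ⟨u, hu⟩ := Nat.exists_eq_add_of_le (Nat.succ_le_of_lt hm)
      have hu' : T = j / a + 1 + u := hu
      generalize j / a = v at h1 hu' ⊢
      rw [hra] at h1
      conv_rhs => rw [hrb]
      rw [hu']
      nlinarith

/-- Let a, b ≥ 2 and consider the symmetric group of degree a·b acting on the partitions of an (a·b)-set into b parts of size a (encoded as maps onto a b-element set all of whose fibres have a elements; a permutation fixes such a partition when it permutes the fibres). Let r be a prime dividing the number (ab)!/((a!)^b·b!) of such partitions, and let ℓ and k be the remainders of a and b modulo r. Then every permutation of order r fixes some such partition if and only if r ≤ a and one of the following holds: ℓ = 0; or k = 0 and ℓ = 1; or ℓ and k are non-zero, k·ℓ < r, and either b <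 r or (k + r)·ℓ ≤ k·a + r. -/
theorem result (a b : ℕ) (ha : 2 ≤ a) (hb : 2 ≤ b) (r : ℕ) (hr : r.Prime)
    (hrd : r ∣ (a * b).factorial / (a.factorial ^ b * b.factorial)) :
    (∀ σ : Equiv.Perm (Fin (a * b)), orderOf σ = r →
        ∃ f : Fin (a * b) → Fin b, (∀ j : Fin b, Nat.card {x : Fin (a * b) // f x = j} = a) ∧
          ∃ π : Equiv.Perm (Fin b), ∀ x : Fin (a * b), f (σ x) = π (f x)) ↔
      (r ≤ a ∧ (a % r = 0 ∨ (b % r = 0 ∧ a % r = 1) ∨
        (a % r ≠ 0 ∧ b % r ≠ 0 ∧ (b % r) * (a % r) < r ∧ (b < r ∨ (b % r + r) * (a % r) ≤ (b % r) * a + r)))) := by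
  have hrn : r ≤ a * b := by
    refine (Nat.Prime.dvd_factorial hr).1 (hrd.trans (Nat.div_dvd_of_dvd ?_))
    rw [mul_comm a b, ← Nat.uniformBell_mul_eq b (show a ≠ 0 by omega), mul_assoc]
    exact Dvd.intro_left _ rfl
  rw [← covering_iff ha hb hr hrn]
  constructor
  · intro h j hj hjn
    obtain ⟨σ, hσ, hc⟩ := exists_cycles hr hjn
    have hne : σ.support.card ≠ 0 := by rw [hc]; exact Nat.mul_ne_zero hj.ne' hr.ne_zero
    obtain ⟨f, hf, π, hπ⟩ := h σ (orderOf_of_moved hr hσ hne)
    exact necessary (by omega) hr hσ hc hf hπ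
  · intro h σ hord
    obtain ⟨j, hj, hc, -⟩ := cycleType_of_order hr hord
    have hle : j * r ≤ a * b := by
      have := Finset.card_le_univ σ.support
      rwa [hc, Fintype.card_fin] at this
    obtain ⟨t, h1, h2, h3⟩ := h j hj hle
    exact sufficient (by omega) hr hord hc h1 h2 h3

end Cfsg.Agent.S3575
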