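import Cfsg.Statements.S3580
import Cfsg.Agent.Lib.Perm.SylowFix.Apply

set_option autoImplicit false
open Cfsg

namespace Cfsg.Agent.S3580

/-- Let G act faithfully and transitively on a finite set Ω, let p be an odd prime dividing the order of G and P a Sylow p-subgroup of G. Then the number of orbits of P on Ω is at most (p/(2p − 1))·(number of points). -/
theorem result {G Ω : Type*} [Group G] [Finite G] [MulAction G Ω] [FaithfulSMul G Ω] [Finite Ω]
    (htrans : MulAction.IsPretransitive G Ω) (p : ℕ) [Fact p.Prime] (hp2 : p ≠ 2) (hpG : p ∣ Nat.card G)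
    (P : Sylow p G) :
    (2 * p - 1) * Nat.card (MulAction.orbitRel.Quotient ↥(P : Subgroup G) Ω) ≤ p * Nat.card Ω := by
  classical
  have := htrans
  set K := CfsgLib.Perm.SylowFix.pPart p (⊤ : Subgroup G) with hK
  have hgen : CfsgLib.Perm.SylowFix.IsPGen p K := CfsgLib.Perm.SylowFix.isPGen_pPart _
  have hPK : (P : Subgroup G) ≤ K := fun x hx =>
    CfsgLib.Perm.SylowFix.mem_pPart (Subgroup.mem_top x)
      (CfsgLib.Perm.SylowFix.isPElt_of_mem P.isPGroup' hx)
  have hnorm : ∀ g : G, ∀ x ∈ K, g * x * g⁻¹ ∈ K := fun g x hx =>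
    CfsgLib.Perm.SylowFix.pPart_conj_mem (fun _ _ => Subgroup.mem_top _) hx
  obtain ⟨z, hz⟩ := exists_prime_orderOf_dvd_card' p hpG
  have hzK : z ∈ K := CfsgLib.Perm.SylowFix.mem_pPart (Subgroup.mem_top z) ⟨1, by rw [hz, pow_one]⟩
  have hbig : ∀ q : MulAction.orbitRel.Quotient K Ω, 1 < Nat.card q.orbit := by
    intro q
    obtain ⟨c, rfl⟩ := Quotient.exists_rep q
    rw [Nat.card_coe_set_eq, show MulAction.orbitRel.Quotient.orbit
      (⟦c⟧ : MulAction.orbitRel.Quotient K Ω) = MulAction.orbit K c from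
        MulAction.orbitRel.Quotient.orbit_mk c]
    by_contra hle
    have hz1 : z = 1 := by
      refine eq_of_smul_eq_smul fun d : Ω => ?_
      rw [one_smul]
      obtain ⟨g, rfl⟩ := MulAction.exists_smul_eq G c d
      have hmem : g⁻¹ * z * g ∈ K := by
        have := hnorm g⁻¹ z hzK
        rwa [inv_inv] at this
      have h1 : (g⁻¹ * z * g) • c = c := (Set.ncard_le_one (Set.toFinite _)).1 (not_lt.1 hle) _
        ⟨⟨_, hmem⟩, rfl⟩ _ (MulAction.mem_orbit_self c)
      rw [mul_smul, mul_smul, inv_smul_eq_iff] at h1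
      exact h1
    rw [hz1, orderOf_one] at hz
    exact (Fact.out : p.Prime).ne_one hz.symm
  have hb := CfsgLib.Perm.SylowFix.fn_bound_of_orbits (Ω := Ω) hgen hbig (P.subtype hPK)
  have hfn : CfsgLib.Perm.SylowFix.fn ((P.subtype hPK : Sylow p K) : Subgroup K) Ω =
      CfsgLib.Perm.SylowFix.fn (P : Subgroup G) Ω := CfsgLib.Perm.SylowFix.fn_subtype P hPK
  rw [hfn] at hb
  have ho := CfsgLib.Perm.SylowFix.orbits_le (Ω := Ω) P.isPGroup'
  have hp := (Fact.out : p.Prime).pos
  refine Nat.le_of_mul_le_mul_left ?_ hp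
  calc p * ((2 * p - 1) * Nat.card (MulAction.orbitRel.Quotient ↥(P : Subgroup G) Ω))
      = (2 * p - 1) * (p * Nat.card (MulAction.orbitRel.Quotient ↥(P : Subgroup G) Ω)) := by ring
    _ ≤ (2 * p - 1) * ((p - 1) * CfsgLib.Perm.SylowFix.fn (P : Subgroup G) Ω + Nat.card Ω) :=
        Nat.mul_le_mul_left _ ho
    _ = (p - 1) * ((2 * p - 1) * CfsgLib.Perm.SylowFix.fn (P : Subgroup G) Ω) +
        (2 * p - 1) * Nat.card Ω := by ring
    _ ≤ (p - 1) * ((p - 1) * Nat.card Ω) + (2 * p - 1) * Nat.card Ω :=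
        Nat.add_le_add_right (Nat.mul_le_mul_left _ hb) _
    _ = p * (p * Nat.card Ω) := by
        obtain ⟨r, rfl⟩ := Nat.exists_eq_add_of_le (show 1 ≤ p from hp)
        rw [show 2 * (1 + r) - 1 = 1 + 2 * r by omega, Nat.add_sub_cancel_left]
        ring

end Cfsg.Agent.S3580
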