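import Cfsg.Statements.S3589
import Cfsg.Agent.Lib.Recognition.SpEight.Main

set_option autoImplicit false
open Cfsg

namespace Cfsg.Agent.S3589

/-- Let F be a finite field of characteristic 2 and let a, b ∈ F make the binary form z₁² + a z₁z₂ + b z₂² anisotropic. Then the symplectic group PSp(8,F) (= Sp(8,F)) and the full isometry group of the non-singular quadratic form x₁y₁ + x₂y₂ + x₃y₃ + (z₁² + a z₁z₂ + b z₂²) of minus type in dimension 8 have the same set of element orders. -/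
theorem result {F : Type*} [Field F] [Fintype F]
    [CharP F 2] (a b : F) (han : ∀ z₁ z₂ : F, z₁ ^ 2 + a * z₁ * z₂ + b * z₂ ^ 2 = 0 → z₁ = 0 ∧ z₂ = 0) :
    Set.range (orderOf : Cfsg.PSp 4 F → ℕ) = Set.range (orderOf : ↥(Cfsg.isometryGroup F (Cfsg.quadFormMinus 3 F a b)) → ℕ) := by
  classical
  obtain ⟨ζ, hζ⟩ := CfsgLib.Recognition.SpEight.exists_zeta (F := F)
  obtain ⟨e, he⟩ := CfsgLib.Recognition.SpEight.exists_iso_minus hζ
    (CfsgLib.Orth.minusForm_nondeg 3 a b han)
    (CfsgLib.Recognition.SpEight.minusForm_hasSign 3 a b han)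
  have hO : Set.range (orderOf : ↥(Cfsg.isometryGroup F (Cfsg.quadFormMinus 3 F a b)) → ℕ) =
      CfsgLib.Recognition.SpEight.spectrum F := by
    rw [← CfsgLib.Recognition.SpEight.orth_range hζ]
    let φ := (CfsgLib.Orth.toOrth (CfsgLib.Orth.minusForm F 3 a b) (CfsgLib.Orth.minusForm_apply 3 a b)).trans
      (CfsgLib.Classical.orthGroupCongr e he)
    ext n
    constructor
    · rintro ⟨g, rfl⟩; exact ⟨φ g, φ.orderOf_eq g⟩
    · rintro ⟨g, rfl⟩; exact ⟨φ.symm g, φ.symm.orderOf_eq g⟩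
  rw [hO, ← CfsgLib.Recognition.SpEight.sp_range hζ]
  exact CfsgLib.Recognition.SpEight.psp_range

end Cfsg.Agent.S3589
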