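import Cfsg.Statements.S3598
import Cfsg.Agent.Lib.PGroup.PSL2SquareTI
import Cfsg.Agent.Lib.Classical.Quat.Subfields
import Cfsg.Agent.Lib.Recognition.Zassenhaus.OneTwenty
import Cfsg.Agent.S0494
import Cfsg.Agent.Lib.Classical.Dickson.MinimalSimple
-- import your own Cfsg.Agent.* helpers here

set_option autoImplicit false
open Cfsg

namespace Cfsg.Agent.S3598

/-- Let p be a prime and F a field with p² elements. If a finite group G has, for every d, the same number of irreducible complex characters of degree d as PSL(2,F) (the same first column of the character table, with multiplicities), then G is isomorphic to PSL(2,F). -/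
theorem result {F : Type*} [Field F] [Fintype F] (p : ℕ) (hp : p.Prime)
    (hF : Fintype.card F = p ^ 2) {G : Type*} [Group G] [Finite G]
    (h : ∀ d : ℕ, Nat.card {χ : Cfsg.IrrCharacter G // (χ : G → ℂ) 1 = (d : ℂ)} =
      Nat.card {χ : Cfsg.IrrCharacter (Matrix.ProjectiveSpecialLinearGroup (Fin 2) F) // (χ : Matrix.ProjectiveSpecialLinearGroup (Fin 2) F → ℂ) 1 = (d : ℂ)}) :
    Nonempty (G ≃* Matrix.ProjectiveSpecialLinearGroup (Fin 2) F) := by
  open CfsgLib CfsgLib.Char CfsgLib.DegreeTools CfsgLib.PGroup.PSL2Column in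
  classical
  haveI := Fact.mk hp
  let PS := Matrix.ProjectiveSpecialLinearGroup (Fin 2) F
  have hkG : ∀ (χ : Cfsg.IrrCharacter G) (d : ℕ),
      (χ : G → ℂ) 1 = (d : ℂ) ↔ Cfsg.charDegree (χ : G → ℂ) = d := fun χ d =>
    ⟨fun e => Nat.cast_injective (R := ℂ) ((deg_cast χ).trans e), fun e => by rw [← e, deg_cast]⟩
  have hkS : ∀ (χ : Cfsg.IrrCharacter PS) (d : ℕ),
      (χ : PS → ℂ) 1 = (d : ℂ) ↔ Cfsg.charDegree (χ : PS → ℂ) = d := fun χ d =>
    ⟨fun e => Nat.cast_injective (R := ℂ) ((deg_cast χ).trans e), fun e => by rw [← e, deg_cast]⟩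
  let dG : Cfsg.IrrCharacter G → ℕ := fun χ => Cfsg.charDegree (χ : G → ℂ)
  let dS : Cfsg.IrrCharacter PS → ℕ := fun χ => Cfsg.charDegree (χ : PS → ℂ)
  obtain ⟨E, hE⟩ : ∃ E : Cfsg.IrrCharacter G ≃ Cfsg.IrrCharacter PS, ∀ χ, dS (E χ) = dG χ := by
    have hfib : ∀ d, Nonempty ({χ // dG χ = d} ≃ {χ // dS χ = d}) := by
      intro d
      refine Finite.card_eq.1 ?_
      have := h d
      rw [Nat.card_congr (Equiv.subtypeEquivRight fun χ => hkG χ d)] at this
      rwa [Nat.card_congr (Equiv.subtypeEquivRight fun χ => hkS χ d)] at this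
    let e := fun d => (hfib d).some
    exact ⟨Equiv.ofFiberEquiv e, fun χ => Equiv.ofFiberEquiv_map e χ⟩
  have hcard : Nat.card G = Nat.card PS := by
    rw [← sum_deg_sq (G := G), ← sum_deg_sq (G := PS)]
    refine Fintype.sum_equiv E _ _ fun χ => ?_
    exact congrArg (· ^ 2) (hE χ).symm
  have hperf_iff : commutator G = ⊤ ↔ commutator PS = ⊤ := by
    rw [← Subgroup.index_eq_one, ← Subgroup.index_eq_one, ← card_linear_deg, ← card_linear_deg]
    refine Eq.congr (Nat.card_congr (E.subtypeEquiv fun χ => ?_)) rfl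
    show dG χ = 1 ↔ dS (E χ) = 1
    rw [hE]
  rcases hp.eq_two_or_odd' with hp2 | hodd
  · subst hp2
    obtain ⟨eS⟩ := Classical.Quat.psl2_four_equiv_alt (K := F) (by rw [hF]; rfl)
    have h60 : Nat.card G = 60 := hcard.trans (Classical.Quat.card_psl2_four (by rw [hF]; rfl))
    have hperf : commutator G = ⊤ := by
      rw [hperf_iff]
      haveI : IsSimpleGroup PS := IsSimpleGroup.isSimpleGroup_of_surjective eS.symm.toMonoidHom eS.symm.surjective
      refine (Subgroup.Normal.eq_bot_or_eq_top (inferInstance : (commutator PS).Normal)).resolve_left fun hb => ?_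
      rw [commutator_def, Subgroup.commutator_eq_bot_iff_le_centralizer, Subgroup.coe_top,
        Subgroup.centralizer_univ] at hb
      have : Group.IsSolvable (alternatingGroup (Fin 5)) := by
        haveI : Group.IsSolvable PS := Group.isSolvable_of_comm fun a b => (Subgroup.mem_center_iff.1 (hb (Subgroup.mem_top b)) a)
        exact solvable_of_surjective (f := eS.toMonoidHom) eS.surjective
      exact Classical.Dickson.not_solvable_alt_five this
    haveI : Nontrivial G := Finite.one_lt_card_iff_nontrivial.1 (by omega)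
    haveI : IsSimpleGroup G := ⟨fun N hN => by
      haveI := hN
      by_contra hc
      push Not at hc
      have hmul : Nat.card (G ⧸ N) * Nat.card N = 60 := by
        rw [← Subgroup.card_eq_card_quotient_mul_card_subgroup, h60]
      have hN1 : Nat.card N ≠ 1 := fun e => hc.1 (Subgroup.card_eq_one.1 e)
      have hN0 : 2 ≤ Nat.card N := by have := Nat.card_pos (α := N); omega
      have hQ : Nat.card (G ⧸ N) ≠ 1 := fun e => hc.2 (Subgroup.index_eq_one.1 e)
      have hQ0 : 2 ≤ Nat.card (G ⧸ N) := by have := Nat.card_pos (α := G ⧸ N); omega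
      haveI := Recognition.Zassenhaus.small_solvable (G := N)
        ((Dvd.intro_left _ hmul).trans (by norm_num)) (by nlinarith) (by nlinarith)
      haveI := Recognition.Zassenhaus.small_solvable (G := G ⧸ N)
        ((Dvd.intro _ hmul).trans (by norm_num)) (by nlinarith) (by nlinarith)
      haveI : Group.IsSolvable G := solvable_of_ker_le_range N.subtype (QuotientGroup.mk' N)
        (by rw [QuotientGroup.ker_mk', Subgroup.range_subtype])
      exact (Group.IsSolvable.commutator_lt_top_of_nontrivial G).ne hperf⟩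
    obtain ⟨eG⟩ := Cfsg.Agent.S0494.result (G := G) h60
    exact ⟨eG.trans eS.symm⟩
  have h3 : 3 ≤ p := by
    rcases hodd with ⟨a, ha⟩
    have := hp.two_le
    omega
  set q := p ^ 2 with hq
  have hq9 : 9 ≤ q := by rw [hq]; nlinarith
  have hq4 : q % 4 = 1 := by
    obtain ⟨a, ha⟩ := hodd
    rw [hq, ha, show (2 * a + 1) ^ 2 = 4 * (a * a + a) + 1 by ring]; omega
  have hodq : Odd (Fintype.card F) := Nat.odd_iff.2 (by rw [hF]; omega)
  have hcard2 : 2 * Nat.card G = q * ((q - 1) * (q + 1)) := by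
    rw [hcard, card_psl_odd hodq, hF]
  have h1 : ∀ χ : Cfsg.IrrCharacter G, dG χ = 1 → χ = oneChar G := fun χ hχ =>
    E.injective (linear_le_one hodq (by rw [hF]; omega) _ _ ((hE χ).trans hχ)
      ((hE _).trans deg_oneChar))
  have hperf : commutator G = ⊤ := by
    rw [← Subgroup.index_eq_one, ← card_linear_deg]
    exact Nat.card_eq_one_iff_exists.2 ⟨⟨oneChar G, deg_oneChar⟩, fun χ => Subtype.ext (h1 χ.1 χ.2)⟩
  have hdeg : ∀ χ : Cfsg.IrrCharacter G, dG χ = 1 ∨ dG χ = q ∨ dG χ = q + 1 ∨ dG χ = q - 1 ∨ dG χ = (q + 1) / 2 := by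
    intro χ
    rw [← hE χ]
    have := deg_psl (F := F) (by rw [hF]; omega) (E χ)
    rwa [hF] at this
  have hpfull : p ^ (Nat.card G).factorization p ∣ q := by
    have hd : p ^ (Nat.card G).factorization p ∣ q * ((q - 1) * (q + 1)) :=
      hcard2 ▸ dvd_mul_of_dvd_right (Nat.ordProj_dvd _ _) 2
    have hpq : p ∣ q := dvd_pow_self p two_ne_zero
    refine (Nat.Coprime.pow_left _ ((Nat.Prime.coprime_iff_not_dvd hp).2 fun h => ?_)).dvd_of_dvd_mul_right hd
    rcases hp.dvd_mul.1 h with h2 | h2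
    · have h4 := Nat.dvd_sub hpq h2
      rw [Nat.sub_sub_self (by omega)] at h4
      exact hp.not_dvd_one h4
    · exact hp.not_dvd_one ((Nat.dvd_add_right hpq).1 h2)
  obtain ⟨K, _, _, hK, ⟨e⟩⟩ := recognise (p := p) h3 hperf hcard2 (by
    intro x y hx hx1 hxy r hr hy
    by_contra hrp
    obtain ⟨k, hk⟩ := hx
    have hk0 : k ≠ 0 := by
      rintro rfl
      exact hx1 (orderOf_eq_one_iff.1 (by simpa using hk))
    have ho : orderOf (x * y) = p ^ k * r := by
      rw [hxy.orderOf_mul_eq_mul_orderOf_of_coprime (by rw [hk, hy]; exact ((Nat.coprime_primes hp hr).2 (Ne.symm hrp)).pow_left k), hk, hy]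
    have hg1 : x * y ≠ 1 := fun e => by
      rw [e, orderOf_one] at ho
      have := Nat.dvd_one.1 (Dvd.intro_left _ ho.symm)
      exact hr.ne_one this
    have hq0 : ∀ χ : Cfsg.IrrCharacter G, dG χ = q → (χ : G → ℂ) (x * y) = 0 := fun χ hχ =>
      vanish χ hp (by show _ ∣ dG χ; rw [hχ]; exact hpfull) (by
        rw [ho]; exact dvd_mul_of_dvd_left (dvd_pow_self p hk0) r)
    have hrv : ∀ χ : Cfsg.IrrCharacter G, r ^ (Nat.card G).factorization r ∣ dG χ → (χ : G → ℂ) (x * y) = 0 :=
      fun χ hχ => vanish χ hr hχ (by rw [ho]; exact dvd_mul_left r _)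
    have hfull : r ^ (Nat.card G).factorization r ∣ ((q - 1) * ((q + 1) / 2)) := by
      have hd : r ^ (Nat.card G).factorization r ∣ q * ((q - 1) * ((q + 1) / 2)) := by
        refine (Nat.ordProj_dvd (Nat.card G) r).trans (dvd_of_eq ?_)
        refine Nat.eq_of_mul_eq_mul_left two_pos ?_
        rw [hcard2]
        calc q * ((q - 1) * (q + 1)) = q * ((q - 1) * (2 * ((q + 1) / 2))) := by
              rw [Nat.mul_div_cancel' (show 2 ∣ q + 1 by omega)]
          _ = _ := by ring
      refine (Nat.Coprime.pow_left _ ?_).dvd_of_dvd_mul_left hd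
      exact Nat.Coprime.pow_right 2 ((Nat.coprime_primes hr hp).2 hrp)
    have hcop : Nat.Coprime (q - 1) ((q + 1) / 2) := by
      refine Nat.coprime_of_dvd fun s hs h1 h2 => ?_
      have h3 : s ∣ q + 1 := h2.trans (Nat.div_dvd_of_dvd (show 2 ∣ q + 1 by omega))
      have h4 : s ∣ 2 := by
        have := Nat.dvd_sub h3 h1
        rwa [show q + 1 - (q - 1) = 2 by omega] at this
      have h5 := (Nat.prime_dvd_prime_iff_eq hs Nat.prime_two).1 h4
      subst h5
      omega
    by_cases hrq : r ∣ (q + 1) / 2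
    · have hpart : r ^ (Nat.card G).factorization r ∣ (q + 1) / 2 :=
        (Nat.Coprime.pow_left _ ((Nat.Prime.coprime_iff_not_dvd hr).2 fun h =>
          hr.not_dvd_one (hcop ▸ Nat.dvd_gcd h hrq))).dvd_of_dvd_mul_left hfull
      refine column_false hg1 (k := q - 1) (by omega) h1 fun χ hχ => ?_
      rcases hdeg χ with e | e | e | e | e
      · exact absurd (h1 χ e) hχ
      · exact Or.inl (hq0 χ e)
      · exact Or.inl (hrv χ (by rw [e]; exact hpart.trans (Nat.div_dvd_of_dvd (show 2 ∣ q + 1 by omega))))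
      · exact Or.inr (by show q - 1 ∣ dG χ; rw [e])
      · exact Or.inl (hrv χ (by rw [e]; exact hpart))
    · have hpart : r ^ (Nat.card G).factorization r ∣ q - 1 :=
        (Nat.Coprime.pow_left _ ((Nat.Prime.coprime_iff_not_dvd hr).2 hrq)).dvd_of_dvd_mul_right hfull
      refine column_false hg1 (k := (q + 1) / 2) (by omega) h1 fun χ hχ => ?_
      rcases hdeg χ with e | e | e | e | e
      · exact absurd (h1 χ e) hχ
      · exact Or.inl (hq0 χ e)
      · exact Or.inr (by show _ ∣ dG χ; rw [e]; exact Nat.div_dvd_of_dvd (show 2 ∣ q + 1 by omega))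
      · exact Or.inl (hrv χ (by rw [e]; exact hpart))
      · exact Or.inr (by show _ ∣ dG χ; rw [e]))
  obtain ⟨i1⟩ := Classical.Dickson.psl_congr (RingEquiv.refl K)
  obtain ⟨i2⟩ := Classical.Dickson.psl_congr (FiniteField.ringEquivOfCardEq (by rw [hK, hF]) : K ≃+* F)
  exact ⟨e.trans (i1.symm.trans i2)⟩

end Cfsg.Agent.S3598
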