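import Cfsg.Statements.S3599
import Mathlib.FieldTheory.Finite.GaloisField
-- import your own Cfsg.Agent.* helpers here

set_option autoImplicit false
open Cfsg

namespace Cfsg.Agent.S3599


/-- The element orders wanted. -/
def Om {s : ℕ} (p : Fin s → Fin 2 → ℕ) : Set ℕ :=
  {m : ℕ | ∃ c : Fin s → ℕ, (∀ j, c j = 1 ∨ c j = p j 0 ∨ c j = p j 1) ∧ m = ∏ j, c j}

/-- Closure of the elements of exponent `r` under multiplication. -/
def Closed (X : Type*) [Group X] (r : ℕ) : Prop := ∀ x y : X, x ^ r = 1 → y ^ r = 1 → (x * y) ^ r = 1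

theorem exists_frobenius (p q : ℕ) (hp : p.Prime) (hq : q.Prime) (hpq : p ≠ q) :
    ∃ (X : Type) (_ : Group X) (_ : Finite X), (∃ x : X, orderOf x = p) ∧ (∃ x : X, orderOf x = q) ∧
      (∀ x : X, orderOf x = 1 ∨ orderOf x = p ∨ orderOf x = q) ∧ Closed X p := by
  classical
  haveI := Fact.mk hp
  haveI := Fact.mk hq
  have hm : q - 1 ≠ 0 := by have := hq.two_le; omega
  let K := GaloisField p (q - 1)
  haveI : Finite K := Module.finite_of_finite (ZMod p)
  haveI : Fintype Kˣ := Fintype.ofFinite _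
  obtain ⟨z, hz⟩ : ∃ z : Kˣ, orderOf z = q := by
    apply exists_prime_orderOf_dvd_card' q
    rw [Nat.card_units, GaloisField.card p (q - 1) hm]
    have hcop : p.Coprime q := (Nat.coprime_primes hp hq).2 hpq
    have h := Nat.ModEq.pow_totient hcop
    rw [Nat.totient_prime hq] at h
    exact (Nat.modEq_iff_dvd' (Nat.one_le_pow _ _ hp.pos)).1 h.symm
  let S : Subgroup (Equiv.Perm K) :=
    { carrier := {σ | ∃ a : Kˣ, a ^ q = 1 ∧ ∀ x y, σ x - σ y = (a : K) * (x - y)}
      mul_mem' := by
        rintro σ τ ⟨a, ha, hσ⟩ ⟨b, hb, hτ⟩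
        exact ⟨a * b, by rw [mul_pow, ha, hb, mul_one], fun x y => by
          rw [Equiv.Perm.mul_apply, Equiv.Perm.mul_apply, hσ, hτ, Units.val_mul, mul_assoc]⟩
      one_mem' := ⟨1, one_pow q, fun x y => by simp⟩
      inv_mem' := by
        rintro σ ⟨a, ha, hσ⟩
        refine ⟨a⁻¹, by rw [inv_pow, ha, inv_one], fun x y => ?_⟩
        have h := hσ (σ⁻¹ x) (σ⁻¹ y)
        simp only [← Equiv.Perm.mul_apply, mul_inv_cancel, Equiv.Perm.one_apply] at h
        rw [h, ← mul_assoc, Units.inv_mul, one_mul] }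
  have lin : ∀ (σ : Equiv.Perm K) (a : Kˣ), (∀ x y, σ x - σ y = (a : K) * (x - y)) →
      ∀ k x y, (σ ^ k) x - (σ ^ k) y = (a : K) ^ k * (x - y) := by
    intro σ a h k
    induction k with
    | zero => simp
    | succ k ih =>
      intro x y
      rw [pow_succ', Equiv.Perm.mul_apply, Equiv.Perm.mul_apply, h, ih, pow_succ', mul_assoc]
  have htr : ∀ (σ : Equiv.Perm K), (∀ x y, σ x - σ y = x - y) → σ ^ p = 1 := by
    intro σ h
    have h1 : ∀ k : ℕ, ∀ x, (σ ^ k) x = x + k * σ 0 := by
      intro k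
      induction k with
      | zero => simp
      | succ k ih =>
        intro x
        rw [pow_succ', Equiv.Perm.mul_apply, ih]
        have := h (x + k * σ 0) 0
        push_cast
        linear_combination this
    exact Equiv.ext fun x => by rw [h1, CharP.cast_eq_zero, zero_mul, add_zero]; rfl
  have hkey : ∀ (σ : Equiv.Perm K) (a : Kˣ), a ^ q = 1 → (∀ x y, σ x - σ y = (a : K) * (x - y)) →
      a ≠ 1 → σ ^ q = 1 := by
    intro σ a ha h hne
    have hne' : (1 : K) - a ≠ 0 := sub_ne_zero.2 fun e => hne (Units.ext (by simpa using e.symm))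
    set x0 := σ 0 / (1 - (a : K))
    have hfix : σ x0 = x0 := by
      have h1 := h x0 0
      have h2 : σ 0 = x0 * (1 - a) := (div_mul_cancel₀ _ hne').symm
      linear_combination h1 + h2
    refine Equiv.ext fun x => ?_
    have h1 := lin σ a h q x x0
    rw [Equiv.Perm.pow_apply_eq_self_of_apply_eq_self hfix, ← Units.val_pow_eq_pow_val, ha, Units.val_one,
      one_mul] at h1
    simpa using h1
  refine ⟨S, inferInstance, inferInstance, ?_, ?_, ?_, ?_⟩
  · refine ⟨⟨Equiv.addRight (1 : K), 1, one_pow q, fun x y => by simp⟩, orderOf_eq_prime ?_ ?_⟩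
    · exact Subtype.ext (htr _ fun x y => by simp)
    · intro h
      have := congrArg (fun σ : S => (σ : Equiv.Perm K) 0) h
      simp at this
  · have hzq : z ^ q = 1 := orderOf_dvd_iff_pow_eq_one.1 hz.dvd
    have hz1 : z ≠ 1 := fun h => by rw [h, orderOf_one] at hz; exact hq.ne_one hz.symm
    refine ⟨⟨z.mulLeft, z, hzq, fun x y => by simp [mul_sub]⟩, orderOf_eq_prime ?_ ?_⟩
    · exact Subtype.ext (hkey _ z hzq (fun x y => by simp [mul_sub]) hz1)
    · intro h
      have := congrArg (fun σ : S => (σ : Equiv.Perm K) 1) h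
      simp at this
      exact hz1 this
  · rintro ⟨σ, a, ha, h⟩
    have : σ ^ p = 1 ∨ σ ^ q = 1 := by
      by_cases h1 : a = 1
      · exact Or.inl (htr σ fun x y => by rw [h, h1, Units.val_one, one_mul])
      · exact Or.inr (hkey σ a ha h h1)
    rw [← Subgroup.orderOf_coe]
    rcases this with h1 | h1 <;> rcases (Nat.dvd_prime ‹_›).1 (orderOf_dvd_of_pow_eq_one h1) with h2 | h2
    · exact Or.inl h2
    · exact Or.inr (Or.inl h2)
    · exact Or.inl h2
    · exact Or.inr (Or.inr h2)
  · rintro ⟨σ, a, ha, hσ⟩ ⟨τ, b, hb, hτ⟩ h1 h2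
    have one : ∀ (π : Equiv.Perm K) (c : Kˣ), c ^ q = 1 → π ^ p = 1 →
        (∀ x y, π x - π y = (c : K) * (x - y)) → c = 1 := by
      intro π c hc hπ h
      have h3 := lin π c h p 1 0
      rw [hπ] at h3
      have h4 : c ^ p = 1 := Units.ext (by simpa using h3.symm)
      have h5 := pow_gcd_eq_one.2 ⟨h4, hc⟩
      rwa [(Nat.coprime_primes hp hq).2 hpq, pow_one] at h5
    have ha1 := one σ a ha (congrArg Subtype.val h1) hσ
    have hb1 := one τ b hb (congrArg Subtype.val h2) hτ
    exact Subtype.ext (htr (σ * τ) fun x y => by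
      rw [Equiv.Perm.mul_apply, Equiv.Perm.mul_apply, hσ, hτ, ha1, hb1, Units.val_one, one_mul, one_mul])

/-- Spectrum `Ω` and a distinguished prime in each pair. -/
def Good {s : ℕ} (p : Fin s → Fin 2 → ℕ) (e : Fin s → Fin 2) (X : Type*) [Group X] : Prop :=
  Set.range (orderOf : X → ℕ) = Om p ∧ ∀ j, Closed X (p j (e j))

theorem exists_good {s : ℕ} (p : Fin s → Fin 2 → ℕ) (hp : ∀ j i, (p j i).Prime)
    (hinj : ∀ j i j' i', p j i = p j' i' → j = j' ∧ i = i') (e : Fin s → Fin 2) :
    ∃ (X : Type) (_ : Group X) (_ : Fintype X), Good p e X := by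
  classical
  have hne : ∀ j, p j (e j) ≠ p j (e j + 1) := fun j h => by
    have := (hinj _ _ _ _ h).2
    revert this
    generalize e j = i
    revert i
    decide
  choose X hG hF hxp hxq hord hcl using fun j =>
    exists_frobenius (p j (e j)) (p j (e j + 1)) (hp _ _) (hp _ _) (hne j)
  letI := hG
  haveI := hF
  have hcase : ∀ j (x : X j), orderOf x = 1 ∨ orderOf x = p j 0 ∨ orderOf x = p j 1 := by
    intro j x
    rcases hord j x with h | h | h
    · exact Or.inl h
    · exact (Fin.exists_fin_two (p := fun i => e j = i)).1 ⟨e j, rfl⟩ |>.elim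
        (fun e0 => Or.inr (Or.inl (by rw [h, e0]))) (fun e1 => Or.inr (Or.inr (by rw [h, e1])))
    · exact (Fin.exists_fin_two (p := fun i => e j + 1 = i)).1 ⟨e j + 1, rfl⟩ |>.elim
        (fun e0 => Or.inr (Or.inl (by rw [h, e0]))) (fun e1 => Or.inr (Or.inr (by rw [h, e1])))
  have hreal : ∀ j i, ∃ x : X j, orderOf x = p j i := by
    intro j i
    have : i = e j ∨ i = e j + 1 := by
      generalize e j = i'
      revert i i'
      decide
    rcases this with rfl | rfl
    · exact hxp j
    · exact hxq j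
  have hcop : ∀ i j, i ≠ j → ∀ (x : X i) (y : X j), (orderOf x).Coprime (orderOf y) := by
    intro i j hij x y
    have key : ∀ u v, (p i u).Coprime (p j v) := fun u v =>
      (Nat.coprime_primes (hp _ _) (hp _ _)).2 fun h => hij (hinj _ _ _ _ h).1
    rcases hcase i x with h | h | h <;> rcases hcase j y with h' | h' | h' <;> rw [h, h'] <;>
      first | exact key _ _ | exact Nat.coprime_one_left _ | exact Nat.coprime_one_right _
  have horder : ∀ x : (∀ j, X j), orderOf x = ∏ j, orderOf (x j) := by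
    intro x
    apply Nat.dvd_antisymm
    · exact orderOf_dvd_of_pow_eq_one (funext fun j => by
        rw [Pi.pow_apply]
        exact orderOf_dvd_iff_pow_eq_one.1 (Finset.dvd_prod_of_mem _ (Finset.mem_univ j)))
    · refine Fintype.prod_dvd_of_isRelPrime (fun i j hij => Nat.coprime_iff_isRelPrime.1 (hcop i j hij _ _)) fun j => ?_
      exact orderOf_dvd_of_pow_eq_one (by rw [← Pi.pow_apply, pow_orderOf_eq_one]; rfl)
  haveI : ∀ j, Fintype (X j) := fun j => Fintype.ofFinite _
  refine ⟨∀ j, X j, inferInstance, inferInstance, ?_, fun j x y hx hy => funext fun i => ?_⟩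
  · ext m
    constructor
    · rintro ⟨x, rfl⟩
      exact ⟨fun j => orderOf (x j), fun j => hcase j (x j), horder x⟩
    · rintro ⟨c, hc, rfl⟩
      have hx : ∀ j, ∃ x : X j, orderOf x = c j := by
        intro j
        rcases hc j with h | h | h <;> rw [h]
        · exact ⟨1, orderOf_one⟩
        · exact hreal j 0
        · exact hreal j 1
      choose x hx using hx
      exact ⟨x, by rw [horder]; exact Finset.prod_congr rfl fun j _ => hx j⟩
  · have hxi := congrFun hx i
    have hyi := congrFun hy i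
    simp only [Pi.pow_apply, Pi.mul_apply, Pi.one_apply] at hxi hyi ⊢
    by_cases hij : i = j
    · subst hij; exact hcl i _ _ hxi hyi
    · obtain ⟨z, hz⟩ := hreal j (e j)
      have one : ∀ w : X i, w ^ p j (e j) = 1 → w = 1 := fun w hw => orderOf_eq_one_iff.1
        (Nat.eq_one_of_dvd_coprimes (hz ▸ hcop i j hij w z) dvd_rfl (orderOf_dvd_of_pow_eq_one hw))
      rw [one _ hxi, one _ hyi, mul_one, one_pow]

theorem closed_subgroup {X : Type*} [Group X] {r : ℕ} (h : Closed X r) (H : Subgroup X) : Closed H r :=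
  fun x y hx hy => Subtype.ext (h x y (congrArg Subtype.val hx) (congrArg Subtype.val hy))

theorem closed_quotient {X : Type*} [Group X] [Finite X] {r : ℕ} (hr : r.Prime) (h : Closed X r)
    (hsq : ∀ x : X, ¬ r ^ 2 ∣ orderOf x) (N : Subgroup X) [N.Normal] : Closed (X ⧸ N) r := by
  have lift : ∀ u : X ⧸ N, u ^ r = 1 → ∃ x : X, x ^ r = 1 ∧ (x : X ⧸ N) = u := by
    intro u hu
    obtain ⟨x, rfl⟩ := QuotientGroup.mk_surjective u
    by_cases hd : r ∣ orderOf x
    · obtain ⟨m, hm⟩ := hd
      have hcop : r.Coprime m := hr.coprime_iff_not_dvd.2 fun hd2 => hsq x (by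
        rw [hm, pow_two]; exact Nat.mul_dvd_mul_left r hd2)
      obtain ⟨k, hk1, hk0⟩ := Nat.chineseRemainder hcop 1 0
      refine ⟨x ^ k, ?_, ?_⟩
      · rw [← pow_mul]
        refine orderOf_dvd_iff_pow_eq_one.1 ?_
        rw [hm, mul_comm r m]
        exact Nat.mul_dvd_mul_right (Nat.modEq_zero_iff_dvd.1 hk0) r
      · rw [QuotientGroup.mk_pow]
        have h1 : orderOf (x : X ⧸ N) ∣ r := orderOf_dvd_of_pow_eq_one hu
        conv_rhs => rw [← pow_one (x : X ⧸ N)]
        exact pow_eq_pow_iff_modEq.2 (hk1.of_dvd h1)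
    · refine ⟨1, one_pow r, ?_⟩
      have h1 : orderOf (x : X ⧸ N) ∣ orderOf x := orderOf_map_dvd (QuotientGroup.mk' N) x
      rcases (Nat.dvd_prime hr).1 (orderOf_dvd_of_pow_eq_one hu) with h2 | h2
      · rw [orderOf_eq_one_iff.1 h2]; rfl
      · exact absurd (h2 ▸ h1) hd
  intro u v hu hv
  obtain ⟨x, hx, rfl⟩ := lift u hu
  obtain ⟨y, hy, rfl⟩ := lift v hv
  rw [← QuotientGroup.mk_mul, ← QuotientGroup.mk_pow, h x y hx hy, QuotientGroup.mk_one]

/-- A finite group is critical with respect to a set Ω of natural numbers when its set of element orders is Ω while no proper section H/N (H a subgroup, N normal in H, (H, N) ≠ (whole group, 1)) has Ω as its set of element orders. Let s ≥ 1 and let p(j,0), p(j,1) (j < s) be 2s pairwise distinct primes, and let Ω be the set of all products c(0)·…·c(s−1) with each c(j) ∈ {1, p(j,0), p(j,1)}. Then there are 2^s pairwise non-isomorphic finite groups critical with respect to Ω. -/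
theorem result (s : ℕ) (hs : 1 ≤ s) (p : Fin s → Fin 2 → ℕ)
    (hp : ∀ j i, (p j i).Prime) (hinj : ∀ j i j' i', p j i = p j' i' → j = j' ∧ i = i') :
    ∃ (G : Fin (2 ^ s) → Type) (_ : ∀ a, Group (G a)) (_ : ∀ a, Fintype (G a)),
      (∀ a b, a ≠ b → ¬ Nonempty (G a ≃* G b)) ∧
      ∀ a, Set.range (orderOf : (G a) → ℕ) = {m : ℕ | ∃ c : Fin s → ℕ, (∀ j, c j = 1 ∨ c j = p j 0 ∨ c j = p j 1) ∧ m = ∏ j, c j} ∧
      ∀ (H : Subgroup (G a)) (N : Subgroup ↥H) [N.Normal], (H ≠ ⊤ ∨ N ≠ ⊥) → Set.range (orderOf : (↥H ⧸ N) → ℕ) ≠ {m : ℕ | ∃ c : Fin s → ℕ, (∀ j, c j = 1 ∨ c j = p j 0 ∨ c j = p j 1) ∧ m = ∏ j, c j} := by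
  classical
  let ef : Fin (2 ^ s) ≃ (Fin s → Fin 2) := finFunctionFinEquiv.symm
  have hex : ∀ e : Fin s → Fin 2, ∃ n, ∃ (X : Type) (_ : Group X) (_ : Fintype X),
      Fintype.card X = n ∧ Good p e X := fun e => by
    obtain ⟨X, _, _, h⟩ := exists_good p hp hinj e
    exact ⟨_, X, inferInstance, inferInstance, rfl, h⟩
  choose G hG hF hcard hgood using fun a => Nat.find_spec (hex (ef a))
  refine ⟨G, hG, hF, ?_, fun a => ⟨(hgood a).1, ?_⟩⟩
  · rintro a b hab ⟨φ⟩
    obtain ⟨j, hj⟩ : ∃ j, ef a j ≠ ef b j := Function.ne_iff.1 (fun h => hab (ef.injective h))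
    letI := hG
    haveI : Finite (G a) := @Finite.of_fintype _ (hF a)
    set u := p j (ef a j)
    set v := p j (ef b j)
    have huv : u ≠ v := fun h => hj (hinj _ _ _ _ h).2
    have hu : u.Prime := hp _ _
    have hv : v.Prime := hp _ _
    have hcu : Closed (G a) u := (hgood a).2 j
    have hcv : Closed (G a) v := fun x y hx hy => φ.injective (by
      rw [map_pow, map_mul, map_one]
      exact (hgood b).2 j (φ x) (φ y) (by rw [← map_pow, hx, map_one]) (by rw [← map_pow, hy, map_one]))
    let A : ∀ r, Closed (G a) r → Subgroup (G a) := fun r hr =>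
      { carrier := {x | x ^ r = 1}
        mul_mem' := fun hx hy => hr _ _ hx hy
        one_mem' := one_pow r
        inv_mem' := fun {x} hx => by
          show x⁻¹ ^ r = 1
          rw [inv_pow, show x ^ r = 1 from hx, inv_one] }
    have hAn : ∀ r hr, (A r hr).Normal := fun r hr => ⟨fun x hx g => by
      show (g * x * g⁻¹) ^ r = 1
      rw [conj_pow, show x ^ r = 1 from hx, mul_one, mul_inv_cancel]⟩
    have hmem : ∀ r, (∃ i, r = p j i) → r ∈ Om p := by
      rintro r ⟨i, rfl⟩
      refine ⟨Function.update (fun _ => 1) j (p j i), fun k => ?_, ?_⟩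
      · by_cases hk : k = j
        · subst hk; rw [Function.update_self]; revert i; simp [Fin.forall_fin_two]
        · rw [Function.update_of_ne hk]; exact Or.inl rfl
      · rw [Finset.prod_update_of_mem (Finset.mem_univ j)]; simp
    obtain ⟨x, hx⟩ := (Set.ext_iff.1 (hgood a).1 u).2 (hmem u ⟨_, rfl⟩)
    obtain ⟨y, hy⟩ := (Set.ext_iff.1 (hgood a).1 v).2 (hmem v ⟨_, rfl⟩)
    have hdis : Disjoint (A u hcu) (A v hcv) := Subgroup.disjoint_def.2 fun {w} h1 h2 => by
      have := pow_gcd_eq_one.2 ⟨(show w ^ u = 1 from h1), (show w ^ v = 1 from h2)⟩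
      rwa [(Nat.coprime_primes hu hv).2 huv, pow_one] at this
    have hc : Commute x y := Subgroup.commute_of_normal_of_disjoint _ _ (hAn u hcu) (hAn v hcv) hdis x y
      (show x ^ u = 1 from hx ▸ pow_orderOf_eq_one x) (show y ^ v = 1 from hy ▸ pow_orderOf_eq_one y)
    have hxy := hc.orderOf_mul_eq_mul_orderOf_of_coprime (by rw [hx, hy]; exact (Nat.coprime_primes hu hv).2 huv)
    rw [hx, hy] at hxy
    obtain ⟨c, hc', hprod⟩ := (Set.ext_iff.1 (hgood a).1 (u * v)).1 ⟨x * y, hxy⟩
    have only : ∀ i, p j i ∣ u * v → c j = p j i := by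
      intro i hi
      rw [hprod] at hi
      obtain ⟨k, -, hk⟩ := (hp j i).prime.exists_mem_finset_dvd hi
      rcases hc' k with h | h | h <;> rw [h] at hk
      · exact absurd (Nat.dvd_one.1 hk) (hp j i).ne_one
      all_goals
        obtain ⟨rfl, rfl⟩ := hinj _ _ _ _ ((Nat.prime_dvd_prime_iff_eq (hp _ _) (hp _ _)).1 hk)
        exact h
    exact huv ((only _ (dvd_mul_right u v)).symm.trans (only _ (dvd_mul_left v u)))
  · intro H N hN hne hΩ
    letI := hG
    haveI : Finite (G a) := @Finite.of_fintype _ (hF a)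
    haveI : Fintype (H ⧸ N) := Fintype.ofFinite _
    have hgood' : Good p (ef a) (H ⧸ N) := ⟨hΩ, fun j => closed_quotient (hp _ _)
      (closed_subgroup ((hgood a).2 j) H) (fun x hx => ?_) N⟩
    · have hlt := Nat.find_min' (hex (ef a)) ⟨(↥H ⧸ N), inferInstance, inferInstance, rfl, hgood'⟩
      rw [← hcard a, @Fintype.card_eq_nat_card _ (hF a), Fintype.card_eq_nat_card] at hlt
      have h1 := N.card_mul_index
      rw [Subgroup.index_eq_card] at h1
      have h2 := H.card_mul_index
      have hN0 : 0 < Nat.card N := Nat.card_pos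
      have hH0 : 0 < H.index := Nat.pos_of_ne_zero H.index_ne_zero_of_finite
      have h3 : Nat.card N = 1 := by
        by_contra h; nlinarith [show 2 ≤ Nat.card N by omega, show 0 < Nat.card (↥H ⧸ N) from Nat.card_pos]
      have h4 : H.index = 1 := by
        by_contra h; nlinarith [show 2 ≤ H.index by omega, show 0 < Nat.card H from Nat.card_pos]
      exact hne.elim (fun h => h (Subgroup.index_eq_one.1 h4)) (fun h => h (Subgroup.card_eq_one.1 h3))
    · obtain ⟨c, hc, hprod⟩ := (Set.ext_iff.1 (hgood a).1 (orderOf (x : G a))).1 ⟨_, rfl⟩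
      rw [Subgroup.orderOf_coe] at hprod
      rw [hprod] at hx
      set r := p j (ef a j)
      have hr : r.Prime := hp _ _
      rw [← Finset.mul_prod_erase Finset.univ c (Finset.mem_univ j)] at hx
      have hrest : r.Coprime (∏ k ∈ Finset.univ.erase j, c k) := Nat.Coprime.prod_right fun k hk => by
        have hkj := Finset.ne_of_mem_erase hk
        rcases hc k with h | h | h <;> rw [h]
        · exact Nat.coprime_one_right r
        all_goals exact (Nat.coprime_primes hr (hp _ _)).2 fun e => hkj (hinj _ _ _ _ e).1.symm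
      have h5 := Nat.Coprime.dvd_of_dvd_mul_right (hrest.pow_left 2) hx
      rcases hc j with h | h | h <;> rw [h] at h5
      · have := Nat.le_of_dvd one_pos h5; have := hr.two_le; nlinarith
      all_goals
        have h6 := (Nat.prime_dvd_prime_iff_eq hr (hp _ _)).1 ((dvd_pow_self r two_ne_zero).trans h5)
        rw [← h6, pow_two] at h5
        have := Nat.le_of_dvd hr.pos h5; have := hr.two_le; nlinarith

end Cfsg.Agent.S3599
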