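import Cfsg.Statements.S3600
import Cfsg.Agent.S3433
import Cfsg.Agent.Lib.LocalEvenB.HigmanSL2
import Cfsg.Agent.Lib.Recognition.AffineSL24
import Cfsg.Agent.Lib.Recognition.AltFiveSpectrum
import Cfsg.Agent.Lib.Solvable.Gaschutz
import Cfsg.Agent.Lib.Characterizations.HallJanko.Four
-- import your own Cfsg.Agent.* helpers here

set_option autoImplicit false
open Cfsg

namespace Cfsg.Agent.S3600

open CfsgLib.LocalEvenB CfsgLib.Perm.SL2Unipotent CfsgLib.Recognition
open scoped MatrixGroups

universe v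

section

variable {F : Type} [Field F] [Fintype F] [CharP F 2]

/-- The diagonal element of order three. -/
def dia {w : F} (hw : w ^ 2 + w + 1 = 0) : SL(2, F) :=
  ⟨!![w, 0; 0, w + 1], by
    have h2 : (2 : F) = 0 := CharTwo.two_eq_zero
    simp [Matrix.det_fin_two]
    linear_combination hw - h2⟩

theorem dia_val {w : F} (hw : w ^ 2 + w + 1 = 0) : (dia hw).1 = !![w, 0; 0, w + 1] := rfl

theorem dia_up {w : F} (hw : w ^ 2 + w + 1 = 0) (c : F) : dia hw * up c = up (c * w ^ 2) * dia hw := by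
  have h2 : (2 : F) = 0 := CharTwo.two_eq_zero
  apply sl_ext <;> simp [dia_val, up_val, Matrix.SpecialLinearGroup.coe_mul, Matrix.mul_apply, Fin.sum_univ_two]
  linear_combination (-(c * w)) * hw + (c * w) * h2

theorem dia_cube {w : F} (hw : w ^ 2 + w + 1 = 0) : dia hw ^ 3 = 1 := by
  have h2 : (2 : F) = 0 := CharTwo.two_eq_zero
  rw [pow_succ, pow_two]
  apply sl_ext <;> simp [dia_val, Matrix.SpecialLinearGroup.coe_mul, Matrix.mul_apply, Fin.sum_univ_two]
  · linear_combination (w - 1) * hw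
  · linear_combination (w + 2) * hw - h2

theorem up_dia_cube {w : F} (hw : w ^ 2 + w + 1 = 0) : (up 1 * dia hw) ^ 3 = 1 := by
  have h2 : (2 : F) = 0 := CharTwo.two_eq_zero
  rw [pow_succ, pow_two]
  apply sl_ext <;> simp [dia_val, up_val, Matrix.SpecialLinearGroup.coe_mul, Matrix.mul_apply, Fin.sum_univ_two]
  · linear_combination (w - 1) * hw
  · linear_combination (3 * w + 3) * hw - (w + 1) * h2
  · linear_combination (w + 2) * hw - h2

theorem up_ne_one {c : F} (hc : c ≠ 0) : up c ≠ (1 : SL(2, F)) := fun e => hc (by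
  simpa [up_val] using congrArg (fun g : SL(2, F) => g.1 0 1) e)

/-- The hom `c ↦ up c`. -/
def upM : Multiplicative F →* SL(2, F) where
  toFun c := up c.toAdd
  map_one' := up_zero
  map_mul' a b := (up_mul _ _).symm

variable {G : Type v} [Group G] [Finite G]

/-- An element over one of order `3` or `5` has that order. -/
theorem order_lift {S : Type*} [Group S] (p : G →* S)
    (hsmall : ∀ g : G, orderOf g ∈ ({1, 2, 3, 4, 5} : Set ℕ)) {g : G} {k : ℕ} (hk : k = 3 ∨ k = 5)
    (h : orderOf (p g) = k) : orderOf g = k := by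
  have h1 := hsmall g
  have h2 : k ∣ orderOf g := h ▸ orderOf_map_dvd p g
  simp only [Set.mem_insert_iff, Set.mem_singleton_iff] at h1
  obtain ⟨j, hj⟩ := h2
  rcases hk with rfl | rfl <;> omega

set_option maxHeartbeats 2000000 in
theorem split_and_model (hF : Fintype.card F = 4)
    (hsmall : ∀ g : G, orderOf g ∈ ({1, 2, 3, 4, 5} : Set ℕ))
    (hmin : ∀ (M : Subgroup G) [M.Normal], M ≠ ⊥ →
      Set.range (orderOf : G ⧸ M → ℕ) ≠ ({1, 2, 3, 4, 5} : Set ℕ))
    (N : Subgroup G) [N.Normal] (hN1 : N ≠ ⊥) (hab : ∀ a ∈ N, ∀ b ∈ N, a * b = b * a)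
    (hsq : ∀ a ∈ N, a ^ 2 = 1)
    (p : G →* SL(2, F)) (hp : Function.Surjective p) (hker : p.ker = N) :
    Nonempty (G ≃* AffineSL24.aff F) := by
  classical
  haveI : Fact (Nat.Prime 2) := ⟨Nat.prime_two⟩
  haveI : Fact (Nat.Prime 3) := ⟨Nat.prime_three⟩
  obtain ⟨w, hw⟩ := AffineSL24.exists_omega hF
  have h2 : (2 : F) = 0 := CharTwo.two_eq_zero
  have hw0 : w ≠ 0 := fun e => by simp [e] at hw
  have hw1 : w ≠ 1 := fun e => by
    rw [e] at hw
    exact one_ne_zero (by linear_combination hw - h2)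
  have hFab : ∃ a : F, a ≠ 0 ∧ a ≠ 1 := ⟨w, hw0, hw1⟩
  have hmem : ∀ {g : G}, p g = 1 ↔ g ∈ N := fun {g} => by rw [← hker, MonoidHom.mem_ker]
  have h3 : ∀ {g : G}, p g ^ 3 = 1 → p g ≠ 1 → orderOf g = 3 := fun {g} h h' =>
    order_lift p hsmall (Or.inl rfl) (orderOf_eq_prime h h')
  have hfpf : ∀ x : G, orderOf x = 3 → ∀ a ∈ N, x * a * x⁻¹ = a → a = 1 := by
    intro x hx a ha he
    by_contra ha1
    have h6 := hsmall (x * a)
    rw [(show Commute x a from mul_inv_eq_iff_eq_mul.1 he).orderOf_mul_eq_mul_orderOf_of_coprime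
      (by rw [hx, orderOf_eq_prime (hsq a ha) ha1]; norm_num), hx,
      orderOf_eq_prime (hsq a ha) ha1] at h6
    norm_num at h6
  -- lifts of an inverted element of order three give an involution over `up 1`
  obtain ⟨c, hc⟩ := hp (HigmanSL2.cub : SL(2, F))
  have hcubinv : up 1 * HigmanSL2.cub * (up 1)⁻¹ * HigmanSL2.cub = (1 : SL(2, F)) := by
    simp only [HigmanSL2.cub, up_inv, CharTwo.neg_eq]
    rw [← mul_assoc (up (1 : F)) (up 1), up_mul, CharTwo.add_self_eq_zero, up_zero, one_mul,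
      show low (1 : F) * up 1 * (up 1 * low 1) = low 1 * (up 1 * up 1) * low 1 by group,
      up_mul, CharTwo.add_self_eq_zero, up_zero, mul_one, low_mul, CharTwo.add_self_eq_zero, low_zero]
  have hc3 : orderOf c = 3 := by
    have hne : (HigmanSL2.cub : SL(2, F)) ≠ 1 := fun e => by
      have := congrArg (fun g : SL(2, F) => g.1 0 1) e
      simp [HigmanSL2.cub, up_val, low_val, Matrix.mul_apply, Fin.sum_univ_two] at this
    refine h3 ?_ (by rw [hc]; exact hne)
    rw [hc, HigmanSL2.cub, pow_succ, pow_two]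
    apply sl_ext <;> simp [up_val, low_val, Matrix.SpecialLinearGroup.coe_mul, Matrix.mul_apply,
      Fin.sum_univ_two, CharTwo.add_self_eq_zero]
  obtain ⟨g0, hg0⟩ := hp (up (1 : F))
  have hy : g0 * c * g0⁻¹ * c ∈ N := hmem.1 (by simp only [map_mul, map_inv, hg0, hc]; exact hcubinv)
  let ψ : N → N := fun n => n * ⟨c⁻¹ * ((n⁻¹ : N) : G) * c, by
    simpa using (‹N.Normal›).conj_mem _ (n⁻¹).2 c⁻¹⟩
  have hψ : Function.Injective ψ := by
    intro n m h
    have e : (n : G) * (c⁻¹ * (n : G)⁻¹ * c) = (m : G) * (c⁻¹ * (m : G)⁻¹ * c) := congrArg Subtype.val h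
    have e' : c * ((m : G)⁻¹ * n) * c⁻¹ = (m : G)⁻¹ * n := by
      have e1 : (n : G) * c⁻¹ * (n : G)⁻¹ = (m : G) * c⁻¹ * (m : G)⁻¹ := by
        exact mul_right_cancel (b := c) (by simpa [mul_assoc] using e)
      calc c * ((m : G)⁻¹ * n) * c⁻¹ = c * (m : G)⁻¹ * ((n : G) * c⁻¹ * (n : G)⁻¹) * n := by group
        _ = (m : G)⁻¹ * n := by rw [e1]; group
    exact Subtype.ext (inv_mul_eq_one.1 (hfpf c hc3 _ (N.mul_mem (N.inv_mem m.2) n.2) e')).symm
  obtain ⟨n, hn⟩ := (Finite.surjective_of_injective hψ) (⟨_, hy⟩⁻¹)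
  have hn' : (n : G) * (c⁻¹ * (n : G)⁻¹ * c) = (g0 * c * g0⁻¹ * c)⁻¹ := congrArg Subtype.val hn
  let g : G := n * g0
  have hgp : p g = up 1 := by simp [g, hmem.2 n.2, hg0]
  have hgc : g * c * g⁻¹ = c⁻¹ := by
    refine mul_eq_one_iff_eq_inv.1 ?_
    calc g * c * g⁻¹ * c = (n : G) * (g0 * c * g0⁻¹ * c) * (c⁻¹ * (n : G)⁻¹ * c) := by
          simp only [g]; group
      _ = (g0 * c * g0⁻¹ * c) * ((n : G) * (c⁻¹ * (n : G)⁻¹ * c)) := by
          rw [hab _ n.2 _ hy]; group
      _ = 1 := by rw [hn', mul_inv_cancel]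
  have hgg : g * g = 1 := by
    refine hfpf c hc3 _ (hmem.1 ?_) ?_
    · rw [map_mul, hgp, up_mul, CharTwo.add_self_eq_zero, up_zero]
    · have e : g * (g * c * g⁻¹) * g⁻¹ = c := by
        rw [hgc, show g * c⁻¹ * g⁻¹ = (g * c * g⁻¹)⁻¹ by group, hgc, inv_inv]
      have e' : (g * g) * c = c * (g * g) := by
        calc (g * g) * c = g * (g * c * g⁻¹) * g⁻¹ * (g * g) := by group
          _ = c * (g * g) := by rw [e]
      rw [← e', mul_inv_cancel_right]
  -- the preimage of the upper unitriangular group splits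
  obtain ⟨z, hz⟩ := hp (dia hw)
  have hz3 : z ^ 3 = 1 := by
    rw [← h3 (g := z) (by rw [hz]; exact dia_cube hw) (fun e => by
      rw [hz] at e
      exact hw1 (by simpa [dia_val] using congrArg (fun g : SL(2, F) => g.1 0 0) e))]
    exact pow_orderOf_eq_one z
  have hgz : (g * z) ^ 3 = 1 := by
    rw [← h3 (g := g * z) (by rw [map_mul, hgp, hz]; exact up_dia_cube hw) (fun e => by
      rw [map_mul, hgp, hz] at e
      exact hw1 (by simpa [dia_val, up_val, Matrix.SpecialLinearGroup.coe_mul, Matrix.mul_apply, Fin.sum_univ_two] using congrArg (fun g : SL(2, F) => g.1 0 0) e))]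
    exact pow_orderOf_eq_one _
  let g1 := z * g * z⁻¹
  let g2 := z * g1 * z⁻¹
  have hg1 : g1 * g1 = 1 := by
    calc g1 * g1 = z * (g * g) * z⁻¹ := by simp only [g1]; group
      _ = 1 := by rw [hgg]; group
  have hg2 : g2 * g2 = 1 := by
    calc g2 * g2 = z * (g1 * g1) * z⁻¹ := by simp only [g2]; group
      _ = 1 := by rw [hg1]; group
  have hzi : z * z = z⁻¹ := by
    rw [eq_inv_iff_mul_eq_one, ← hz3, pow_succ, pow_two]
  have hprod : g * g1 * g2 = 1 := by
    calc g * g1 * g2 = g * z * g * z * g * (z * z)⁻¹ := by simp only [g1, g2]; group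
      _ = g * z * g * z * g * z := by rw [hzi, inv_inv]
      _ = 1 := by rw [← hgz, pow_succ, pow_two]; group
  have hgg1 : g * g1 = g2 := by
    rw [eq_inv_of_mul_eq_one_left hprod, inv_eq_of_mul_eq_one_right hg2]
  have hp1 : p g1 = up (w ^ 2) := by
    have := dia_up hw 1
    rw [one_mul] at this
    simp only [g1, map_mul, map_inv, hgp, hz, this, mul_inv_cancel_right]
  have hp2 : p g2 = up w := by
    have := dia_up hw (w ^ 2)
    simp only [g2, map_mul, map_inv, hp1, hz, this, mul_inv_cancel_right]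
    congr 1
    linear_combination (w ^ 2 - w) * hw
  have hi : g⁻¹ = g := inv_eq_of_mul_eq_one_right hgg
  have hi1 : g1⁻¹ = g1 := inv_eq_of_mul_eq_one_right hg1
  have hi2 : g2⁻¹ = g2 := inv_eq_of_mul_eq_one_right hg2
  have hg1g : g1 * g = g2 := by rw [← hi2, ← hgg1, mul_inv_rev, hi, hi1]
  let A : Subgroup G :=
    { carrier := {x | x = 1 ∨ x = g ∨ x = g1 ∨ x = g2}
      one_mem' := Or.inl rfl
      inv_mem' := fun {x} hx => by
        rcases hx with rfl | rfl | rfl | rfl
        · exact Or.inl inv_one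
        · exact Or.inr (Or.inl hi)
        · exact Or.inr (Or.inr (Or.inl hi1))
        · exact Or.inr (Or.inr (Or.inr hi2))
      mul_mem' := fun {x y} hx hy => by
        have a1 : g * g2 = g1 := by rw [← hgg1, ← mul_assoc, hgg, one_mul]
        have a2 : g2 * g = g1 := by rw [← hg1g, mul_assoc, hgg, mul_one]
        have a3 : g1 * g2 = g := by rw [← hg1g, ← mul_assoc, hg1, one_mul]
        have a4 : g2 * g1 = g := by rw [← hgg1, mul_assoc, hg1, mul_one]
        rcases hx with rfl | rfl | rfl | rfl <;> rcases hy with rfl | rfl | rfl | rfl <;>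
          simp [hgg, hg1, hg2, hgg1, hg1g, a1, a2, a3, a4] }
  let T : Subgroup SL(2, F) := (upM (F := F)).range
  let U : Subgroup G := T.comap p
  have hNU : N ≤ U := fun x hx => by
    show p x ∈ T
    rw [hmem.2 hx]; exact one_mem T
  have hAK : A ⊓ N = ⊥ := by
    refine le_bot_iff.1 fun x hx => Subgroup.mem_bot.2 ?_
    have hxN := hmem.2 hx.2
    rcases hx.1 with rfl | rfl | rfl | rfl
    · rfl
    · exact absurd (hgp.symm.trans hxN) (up_ne_one one_ne_zero)
    · exact absurd (hp1.symm.trans hxN) (up_ne_one (pow_ne_zero 2 hw0))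
    · exact absurd (hp2.symm.trans hxN) (up_ne_one hw0)
  have hKA : N ⊔ A = U := by
    refine le_antisymm (sup_le hNU ?_) fun x hx => ?_
    · intro x hx
      show p x ∈ T
      rcases hx with rfl | rfl | rfl | rfl
      · rw [map_one]; exact one_mem T
      · exact ⟨Multiplicative.ofAdd 1, hgp.symm⟩
      · exact ⟨Multiplicative.ofAdd (w ^ 2), hp1.symm⟩
      · exact ⟨Multiplicative.ofAdd w, hp2.symm⟩
    · obtain ⟨t, ht⟩ := hx
      have key : ∀ a ∈ A, p a = p x → x ∈ N ⊔ A := fun a ha e => by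
        rw [show x = x * a⁻¹ * a by group]
        exact Subgroup.mul_mem_sup (hmem.1 (by rw [map_mul, map_inv, e, mul_inv_cancel])) ha
      change up t.toAdd = p x at ht
      rcases AffineSL24.field_four hF t.toAdd with e | e | e
      · exact key 1 (Or.inl rfl) (by rw [← ht, e, up_zero, map_one])
      · exact key g (Or.inr (Or.inl rfl)) (by rw [← ht, e, hgp])
      · have : (t.toAdd - w) * (t.toAdd - w ^ 2) = 0 := by
          linear_combination e + (-t.toAdd + w - 1) * hw
        rcases mul_eq_zero.1 this with e' | e'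
        · exact key g2 (Or.inr (Or.inr (Or.inr rfl))) (by rw [← ht, sub_eq_zero.1 e', hp2])
        · exact key g1 (Or.inr (Or.inr (Or.inl rfl))) (by rw [← ht, sub_eq_zero.1 e', hp1])
  have hT : Nat.card T = 4 := by
    rw [← hF, ← Nat.card_eq_fintype_card]
    refine Nat.card_congr (Equiv.ofBijective (fun c : F => (⟨up c, Multiplicative.ofAdd c, rfl⟩ : T))
      ⟨fun a b h => ?_, fun y => ?_⟩).symm
    · simpa [up_val] using congrArg (fun y : T => (y : SL(2, F)).1 0 1) h
    · obtain ⟨y, c, rfl⟩ := y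
      exact ⟨c.toAdd, rfl⟩
  have hU : U.index = 15 := by
    rw [Subgroup.index_comap_of_surjective T hp]
    have h := T.card_mul_index
    rw [hT, CfsgLib.Classical.card_sl2 hF] at h
    omega
  have hN2 : IsPGroup 2 N := fun a => ⟨1, Subtype.ext (by simpa using hsq _ a.2)⟩
  have hcop : (Nat.card N).Coprime U.index := by
    obtain ⟨k, hk⟩ := IsPGroup.iff_card.1 hN2
    rw [hk, hU]
    exact Nat.Coprime.pow_left k (by norm_num)
  haveI : IsMulCommutative N := ⟨⟨fun a b => Subtype.ext (hab _ a.2 _ b.2)⟩⟩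
  obtain ⟨H, hH⟩ := CfsgLib.Solvable.Gaschutz.exists_complement N U hNU hcop A hAK hKA
  have hHb : Function.Bijective (p.comp H.subtype) := by
    refine ⟨(injective_iff_map_eq_one _).2 fun h e => Subtype.ext ?_, fun y => ?_⟩
    · exact Subgroup.disjoint_def.1 hH.disjoint (hmem.1 e) h.2
    · obtain ⟨x, rfl⟩ := hp y
      obtain ⟨⟨a, b⟩, hab', -⟩ := Subgroup.IsComplement.existsUnique hH x
      exact ⟨b, by
        show p (b : G) = p x
        rw [← hab', map_mul, hmem.2 a.2, one_mul]⟩
  let s : SL(2, F) →* G := H.subtype.comp (MulEquiv.ofBijective _ hHb).symm.toMonoidHom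
  have hps : ∀ y, p (s y) = y := fun y => (MulEquiv.ofBijective _ hHb).apply_symm_apply y
  -- the module
  have hc1 : p c ≠ 1 := fun e => by
    have := orderOf_eq_prime (hsq c (hmem.1 e)) (fun e => by simp [e] at hc3)
    omega
  obtain ⟨-, W, iW, iM, Θ, hΘ⟩ := HigmanSL2.abelian_case (F := F) N hab
    (fun a ha => by rw [show (4 : ℕ) = 2 * 2 from rfl, pow_mul, hsq a ha, one_pow]) p hp
    (by
      rw [hker]
      exact fun a ha => Subgroup.mem_centralizer_iff.2 fun b hb => hab b hb a ha)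
    hc3 hc1 (hfpf c hc3) hFab
  obtain ⟨a1, ha1'⟩ := Subgroup.ne_bot_iff_exists_ne_one.1 hN1
  have hWne : ∃ w0 : W, w0 ≠ 0 := by
    by_contra h
    push Not at h
    refine ha1' ?_
    have : Additive.ofMul a1 = 0 := Θ.injective (by
      rw [map_zero]; exact Prod.ext (h _) (h _))
    exact this
  obtain ⟨w0, hw0'⟩ := hWne
  have hspan : ∀ v : W, ∃ r : F, r • w0 = v := by
    by_contra hne
    push Not at hne
    obtain ⟨v, hv⟩ := hne
    let S0 : Submodule F W := Submodule.span F {w0}
    have hvS : v ∉ S0 := fun h => by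
      obtain ⟨r, hr⟩ := Submodule.mem_span_singleton.1 h
      exact hv r hr
    let N0 : Subgroup G :=
      { carrier := {x | ∃ a : N, (Θ (Additive.ofMul a)).1 ∈ S0 ∧ (Θ (Additive.ofMul a)).2 ∈ S0 ∧ (a : G) = x}
        one_mem' := ⟨1, by rw [ofMul_one, map_zero]; exact S0.zero_mem,
          by rw [ofMul_one, map_zero]; exact S0.zero_mem, rfl⟩
        mul_mem' := by
          rintro x y ⟨a, a1, a2, rfl⟩ ⟨b, b1, b2, rfl⟩
          refine ⟨a * b, ?_, ?_, rfl⟩ <;> rw [ofMul_mul, map_add]
          · exact S0.add_mem a1 b1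
          · exact S0.add_mem a2 b2
        inv_mem' := by
          rintro x ⟨a, a1, a2, rfl⟩
          refine ⟨a⁻¹, ?_, ?_, rfl⟩ <;> rw [ofMul_inv, map_neg]
          · exact S0.neg_mem a1
          · exact S0.neg_mem a2 }
    haveI : N0.Normal := by
      constructor
      rintro x ⟨a, a1, a2, rfl⟩ y
      refine ⟨MulAut.conjNormal y a, ?_, ?_, MulAut.conjNormal_apply y a⟩ <;> rw [hΘ]
      · exact S0.add_mem (S0.smul_mem _ a1) (S0.smul_mem _ a2)
      · exact S0.add_mem (S0.smul_mem _ a1) (S0.smul_mem _ a2)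
    have hN0N : N0 ≤ N := by
      rintro x ⟨a, -, -, rfl⟩
      exact a.2
    refine hmin N0 (fun e => ?_) ?_
    · let a : N := Additive.toMul (Θ.symm (w0, 0))
      have ha : Θ (Additive.ofMul a) = (w0, 0) := Θ.apply_symm_apply _
      have : (a : G) ∈ N0 := ⟨a, by rw [ha]; exact Submodule.mem_span_singleton_self w0,
        by rw [ha]; exact S0.zero_mem, rfl⟩
      rw [e, Subgroup.mem_bot] at this
      have : a = 1 := Subtype.ext this
      rw [this, ofMul_one, map_zero] at ha
      exact hw0' (congrArg Prod.fst ha).symm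
    · let q := QuotientGroup.mk' N0
      have hdvd : ∀ x : G, orderOf (q x) ∣ orderOf x := fun x => orderOf_map_dvd q x
      ext k
      constructor
      · rintro ⟨y, rfl⟩
        obtain ⟨x, rfl⟩ := QuotientGroup.mk'_surjective N0 y
        have h1 := hsmall x
        have h2 := hdvd x
        have h3 := orderOf_pos (q x)
        simp only [Set.mem_insert_iff, Set.mem_singleton_iff] at h1 ⊢
        have h4 := Nat.le_of_dvd (orderOf_pos x) h2
        change orderOf (q x) = 1 ∨ orderOf (q x) = 2 ∨ orderOf (q x) = 3 ∨ orderOf (q x) = 4 ∨ orderOf (q x) = 5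
        omega
      · intro hk
        -- an element of order four
        let b : N := Additive.toMul (Θ.symm (0, v))
        have hb : Θ (Additive.ofMul b) = (0, v) := Θ.apply_symm_apply _
        let y := g * (b : G)
        have hy2 : q y ^ 2 ≠ 1 := by
          intro e
          have e' : y * y ∈ N0 := (QuotientGroup.eq_one_iff (y * y)).1 (by
            rw [pow_two, ← map_mul] at e; exact e)
          obtain ⟨a, a1, -, ha⟩ := e'
          have : a = MulAut.conjNormal g b * b := Subtype.ext (by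
            rw [ha, Subgroup.coe_mul, MulAut.conjNormal_apply, hi]
            simp only [y]; group)
          rw [this, ofMul_mul, map_add, hΘ, hb, hgp] at a1
          exact hvS (by simpa [HigmanSL2.act, up_val] using a1)
        have hy4 : orderOf (q y) = 4 := by
          have hpy : orderOf (p y) = 2 := by
            rw [show p y = up 1 by simp [y, hgp, hmem.2 b.2]]
            exact orderOf_eq_prime (by rw [pow_two, up_mul, CharTwo.add_self_eq_zero, up_zero])
              (up_ne_one one_ne_zero)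
          have h1 := hsmall y
          obtain ⟨j, hj⟩ : 2 ∣ orderOf y := hpy ▸ orderOf_map_dvd p y
          simp only [Set.mem_insert_iff, Set.mem_singleton_iff] at h1
          have h24 : orderOf y ∣ 2 ^ (1 + 1) := by
            rcases h1 with h | h | h | h | h <;> rw [h] at hj ⊢ <;> first | omega | norm_num
          rw [show (4 : ℕ) = 2 ^ (1 + 1) from rfl]
          exact orderOf_eq_prime_pow (by simpa using hy2)
            (orderOf_dvd_iff_pow_eq_one.1 ((hdvd y).trans h24))
        have hodd : ∀ (x : G) (m : ℕ), m.Prime → p x ^ m = 1 → p x ≠ 1 → (m = 3 ∨ m = 5) →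
            orderOf (q x) = m := by
          intro x m hm h1 h2 hm'
          haveI := Fact.mk hm
          have hx := order_lift p hsmall hm' (orderOf_eq_prime h1 h2)
          refine orderOf_eq_prime ?_ fun e => h2 (hmem.2 (hN0N ((QuotientGroup.eq_one_iff x).1 e)))
          rw [← map_pow, ← hx, pow_orderOf_eq_one, map_one]
        simp only [Set.mem_insert_iff, Set.mem_singleton_iff] at hk
        rcases hk with rfl | rfl | rfl | rfl | rfl
        · exact ⟨1, orderOf_one⟩
        · refine ⟨q y ^ 2, ?_⟩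
          rw [orderOf_pow, hy4]; decide
        · exact ⟨q c, hodd c 3 Nat.prime_three (by rw [← map_pow, ← hc3, pow_orderOf_eq_one, map_one]) hc1 (Or.inl rfl)⟩
        · exact ⟨q y, hy4⟩
        · haveI : Fact (Nat.Prime 5) := ⟨by norm_num⟩
          obtain ⟨u, hu⟩ := exists_prime_orderOf_dvd_card' (G := SL(2, F)) 5
            (by rw [CfsgLib.Classical.card_sl2 hF]; norm_num)
          obtain ⟨x, rfl⟩ := hp u
          exact ⟨q x, hodd x 5 (by norm_num) (by rw [← hu, pow_orderOf_eq_one])
            (fun e => by rw [e, orderOf_one] at hu; omega) (Or.inr rfl)⟩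
  -- the coordinates
  let e : F ≃ₗ[F] W := LinearEquiv.ofBijective (LinearMap.toSpanSingleton F W w0)
    ⟨fun a b h => smul_left_injective F hw0' (by simpa using h), fun v => by
      obtain ⟨r, hr⟩ := hspan v
      exact ⟨r, by simpa using hr⟩⟩
  let co : G → N := fun x => ⟨x * (s (p x))⁻¹, hmem.1 (by rw [map_mul, map_inv, hps, mul_inv_cancel])⟩
  have hco : ∀ x y, co (x * y) = co x * MulAut.conjNormal (s (p x)) (co y) := fun x y => Subtype.ext (by
    simp only [co, map_mul, Subgroup.coe_mul, MulAut.conjNormal_apply]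
    group)
  let vv : G → F × F := fun x =>
    (e.symm (Θ (Additive.ofMul (co x))).1, e.symm (Θ (Additive.ofMul (co x))).2)
  have hvv : ∀ x y, vv (x * y) = ((vv x).1 + ((p x).1 0 0 * (vv y).1 + (p x).1 0 1 * (vv y).2),
      (vv x).2 + ((p x).1 1 0 * (vv y).1 + (p x).1 1 1 * (vv y).2)) := by
    intro x y
    simp only [vv, hco, ofMul_mul, map_add, hΘ, hps, HigmanSL2.act, Prod.fst_add, Prod.snd_add,
      map_smul, smul_eq_mul]
  have hdet : ∀ x : G, (p x).1 0 0 * (p x).1 1 1 - (p x).1 0 1 * (p x).1 1 0 = 1 := fun x => by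
    rw [← Matrix.det_fin_two]; exact (p x).2
  let Φ : G →* AffineSL24.aff F := MonoidHom.mk'
    (fun x => AffineSL24.mk _ _ _ _ (vv x).1 (vv x).2 (hdet x)) fun x y => by
      refine Subtype.ext (Subtype.ext ?_)
      ext i j
      show _ = ((AffineSL24.mk _ _ _ _ (vv x).1 (vv x).2 (hdet x)).1.1 *
        (AffineSL24.mk _ _ _ _ (vv y).1 (vv y).2 (hdet y)).1.1) i j
      simp only [AffineSL24.mk, hvv, map_mul, Matrix.SpecialLinearGroup.coe_mul]
      fin_cases i <;> fin_cases j <;>
        simp [Matrix.mul_apply, Fin.sum_univ_three, Fin.sum_univ_two] <;> ring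
  refine ⟨MulEquiv.ofBijective Φ ⟨(injective_iff_map_eq_one _).2 fun x hx => ?_, fun M => ?_⟩⟩
  · have hE : ∀ i j, (Φ x).1.1 i j = (1 : Matrix (Fin 3) (Fin 3) F) i j := fun i j => by rw [hx]; rfl
    have hpx : p x = 1 := by
      apply sl_ext
      · simpa [Φ, AffineSL24.mk] using hE 0 0
      · simpa [Φ, AffineSL24.mk] using hE 0 1
      · simpa [Φ, AffineSL24.mk] using hE 1 0
      · simpa [Φ, AffineSL24.mk] using hE 1 1
    have h1 : e.symm (Θ (Additive.ofMul (co x))).1 = 0 := by simpa [Φ, vv, AffineSL24.mk] using hE 0 2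
    have h2' : e.symm (Θ (Additive.ofMul (co x))).2 = 0 := by simpa [Φ, vv, AffineSL24.mk] using hE 1 2
    have h0 : co x = 1 := by
      have : Θ (Additive.ofMul (co x)) = 0 := Prod.ext
        (e.symm.injective (by rw [h1, Prod.fst_zero, map_zero]))
        (e.symm.injective (by rw [h2', Prod.snd_zero, map_zero]))
      exact Θ.injective (this.trans (map_zero Θ).symm)
    have := congrArg Subtype.val h0
    simpa [co, hpx] using this
  · obtain ⟨⟨M, hdM⟩, m0, m1, m2⟩ := M
    simp only at m0 m1 m2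
    let A2 : SL(2, F) := ⟨!![M 0 0, M 0 1; M 1 0, M 1 1], by
      rw [Matrix.det_fin_two]
      have := hdM
      rw [Matrix.det_fin_three, m0, m1, m2] at this
      simp
      linear_combination this⟩
    let nn : N := Additive.toMul (Θ.symm (e (M 0 2), e (M 1 2)))
    let x : G := (nn : G) * s A2
    have hpx : p x = A2 := by simp [x, hmem.2 nn.2, hps]
    have hcx : co x = nn := Subtype.ext (by
      show x * (s (p x))⁻¹ = (nn : G)
      rw [hpx]; simp [x])
    have hv : vv x = (M 0 2, M 1 2) := by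
      simp [vv, hcx, nn]
    refine ⟨x, Subtype.ext (Subtype.ext ?_)⟩
    ext i j
    fin_cases i <;> fin_cases j <;>
      simp [Φ, AffineSL24.mk, hv, hpx, A2, m0, m1, m2]

end

/-- A finite group is critical with respect to a set Ω of natural numbers when its set of element orders is Ω while no proper section has Ω as its set of element orders. A finite group critical with respect to {1, 2, 3, 4, 5} (the set of element orders of the alternating group of degree 6) is isomorphic either to the alternating group of degree 6 or to the affine group F² ⋊ SL(2,F) over the field F with four elements (realised as the matrices of SL(3,F) with last row (0, 0, 1)). -/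
theorem result {G : Type*} [Group G] [Finite G]
    (hcrit : Set.range (orderOf : G → ℕ) = ({1, 2, 3, 4, 5} : Set ℕ) ∧
      ∀ (H : Subgroup G) (N : Subgroup ↥H) [N.Normal], (H ≠ ⊤ ∨ N ≠ ⊥) → Set.range (orderOf : (↥H ⧸ N) → ℕ) ≠ ({1, 2, 3, 4, 5} : Set ℕ)) :
    Nonempty (G ≃* alternatingGroup (Fin 6)) ∨
      ∃ (F : Type) (_ : Field F) (_ : Fintype F), Fintype.card F = 4 ∧
        Nonempty (G ≃* ↥(Subgroup.closure {M : Matrix.SpecialLinearGroup (Fin 3) F |
          (M : Matrix (Fin 3) (Fin 3) F) 2 0 = 0 ∧ (M : Matrix (Fin 3) (Fin 3) F) 2 1 = 0 ∧ (M : Matrix (Fin 3) (Fin 3) F) 2 2 = 1})) := by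
  obtain ⟨hspec, hmin⟩ := hcrit
  have hset : ({1, 2, 3, 4, 5} : Set ℕ) = {k : ℕ | 1 ≤ k ∧ k ≤ 5} := by
    ext k
    simp only [Set.mem_insert_iff, Set.mem_singleton_iff, Set.mem_setOf_eq]
    omega
  rcases Cfsg.Agent.S3433.result (hspec.trans hset) with h | ⟨N, hNn, hNe, ⟨φ⟩⟩
  · exact Or.inl h
  right
  haveI := hNn
  haveI : Fact (Nat.Prime 2) := ⟨Nat.prime_two⟩
  let F := GaloisField 2 2
  letI : Fintype F := Fintype.ofFinite F
  have hF : Fintype.card F = 4 := by
    rw [← Nat.card_eq_fintype_card]; exact GaloisField.card 2 2 two_ne_zero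
  obtain ⟨e⟩ := CfsgLib.Characterizations.HallJanko.nonempty_sl_four (F := F) hF
  let p : G →* SL(2, F) := (e.symm.toMonoidHom.comp φ.toMonoidHom).comp (QuotientGroup.mk' N)
  have hp : Function.Surjective p := fun y => by
    obtain ⟨x, hx⟩ := QuotientGroup.mk'_surjective N (φ.symm (e y))
    exact ⟨x, by simp only [p, MonoidHom.comp_apply, hx]; simp⟩
  have hker : p.ker = N := by
    ext x
    rw [MonoidHom.mem_ker]
    simp [p, QuotientGroup.eq_one_iff]
  have hsmall : ∀ g : G, orderOf g ∈ ({1, 2, 3, 4, 5} : Set ℕ) := fun g => hspec ▸ Set.mem_range_self g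
  have hN1 : N ≠ ⊥ := by
    intro hN
    obtain ⟨g, hg⟩ : ∃ g : G, orderOf g = 4 := by
      have h : (4 : ℕ) ∈ Set.range (orderOf : G → ℕ) := by rw [hspec]; simp
      exact h
    have hinj : Function.Injective (φ.toMonoidHom.comp (QuotientGroup.mk' N)) := by
      rw [injective_iff_map_eq_one]
      intro x hx
      simpa [hN, QuotientGroup.eq_one_iff] using hx
    have := CfsgLib.Recognition.AltFiveSpectrum.orderOf_mem ((φ.toMonoidHom.comp (QuotientGroup.mk' N)) g)
    rw [orderOf_injective _ hinj, hg] at this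
    simp at this
  have hmin' : ∀ (M : Subgroup G) [M.Normal], M ≠ ⊥ →
      Set.range (orderOf : G ⧸ M → ℕ) ≠ ({1, 2, 3, 4, 5} : Set ℕ) := by
    intro M _ hM
    let M' : Subgroup ↥(⊤ : Subgroup G) := M.comap (⊤ : Subgroup G).subtype
    have hM' : M' ≠ ⊥ := fun e => hM (le_bot_iff.1 fun x hx => by
      have : (⟨x, trivial⟩ : ↥(⊤ : Subgroup G)) ∈ M' := hx
      rw [e, Subgroup.mem_bot] at this
      exact Subgroup.mem_bot.2 (congrArg Subtype.val this))
    let θ : (↥(⊤ : Subgroup G) ⧸ M') ≃* G ⧸ M := QuotientGroup.congr M' M Subgroup.topEquiv (by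
      ext x
      exact ⟨fun ⟨y, hy, e⟩ => e ▸ hy, fun hx => ⟨⟨x, trivial⟩, hx, rfl⟩⟩)
    intro h
    refine hmin ⊤ M' (Or.inr hM') ?_
    rw [← h]
    ext k
    exact ⟨fun ⟨y, hy⟩ => ⟨θ y, by rw [MulEquiv.orderOf_eq, hy]⟩,
      fun ⟨y, hy⟩ => ⟨θ.symm y, by rw [MulEquiv.orderOf_eq, hy]⟩⟩
  obtain ⟨Ψ⟩ := split_and_model hF hsmall hmin' N hN1
    (fun a ha b hb => congrArg Subtype.val (hNe.1.is_comm.comm ⟨a, ha⟩ ⟨b, hb⟩)) hNe.2 p hp hker
  refine ⟨F, inferInstance, inferInstance, hF, ⟨Ψ.trans (MulEquiv.subgroupCongr ?_)⟩⟩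
  exact (Subgroup.closure_eq (AffineSL24.aff F)).symm

end Cfsg.Agent.S3600
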