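import Cfsg.Statements.S3611
import Cfsg.Agent.Lib.PGroup.PrimeHalfNormaliser
-- import your own Cfsg.Agent.* helpers here

set_option autoImplicit false
open Cfsg

namespace Cfsg.Agent.S3611

/-- Let G be an insoluble group acting faithfully and transitively on a finite set of prime size p, and suppose the normalizer of a Sylow p-subgroup of G has order p(p-1)/2. If p ≡ 3 (mod 4), then G is triply transitive, or for any two distinct points the stabilizer of both has exactly four orbits on the set (the two fixed points and exactly two orbits on the remaining p - 2 points). -/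
theorem result {G Ω : Type*} [Group G] [Finite G] [MulAction G Ω] [FaithfulSMul G Ω] [Finite Ω]
    (p : ℕ) (hp : p.Prime) (hΩ : Nat.card Ω = p) (htrans : MulAction.IsPretransitive G Ω)
    (hins : ¬ Group.IsSolvable G) (P : Sylow p G)
    (hN : 2 * Nat.card ↥(Subgroup.normalizer ((P : Subgroup G) : Set G)) = p * (p - 1))
    (hp3 : p % 4 = 3) :
    MulAction.IsMultiplyPretransitive G Ω 3 ∨
    ∀ α β : Ω, α ≠ β →
      Nat.card (MulAction.orbitRel.Quotient ↥(MulAction.stabilizer G α ⊓ MulAction.stabilizer G β) Ω) = 4 := by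
  open CfsgLib.PGroup.PrimeHalfNormaliser MulAction in
  classical
  haveI := Fact.mk hp
  haveI := htrans
  letI := Fintype.ofFinite Ω
  haveI h2 : IsMultiplyPretransitive G Ω 2 := two_transitive hΩ hins
  have hp3' : 2 < Fintype.card Ω := by
    rw [← Nat.card_eq_fintype_card, hΩ]; have := hp.two_le; omega
  by_cases hone : ∃ α β : Ω, α ≠ β ∧ ∀ c d : Ω, c ≠ α → c ≠ β → d ≠ α → d ≠ β →
      ∃ g : G, g • α = α ∧ g • β = β ∧ g • c = d
  · left
    obtain ⟨α, β, hab, h⟩ := hone
    refine ⟨fun u v => ?_⟩
    have h2' : ∀ {a b c d : Ω}, a ≠ b → c ≠ d → ∃ g : G, g • a = c ∧ g • b = d :=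
      fun {a b c d} hab hcd => (MulAction.is_two_pretransitive_iff.mp h2) hab hcd
    obtain ⟨g, hg0, hg1⟩ := h2' (a := u 0) (b := u 1) (c := α) (d := β) (u.injective.ne (by decide)) hab
    obtain ⟨k, hk0, hk1⟩ := h2' (a := α) (b := β) (c := v 0) (d := v 1) hab (v.injective.ne (by decide))
    obtain ⟨m, hm0, hm1, hm2⟩ := h (g • u 2) (k⁻¹ • v 2)
      (fun e => (u.injective.ne (show (2 : Fin 3) ≠ 0 by decide)) (MulAction.injective g (e.trans hg0.symm)))
      (fun e => (u.injective.ne (show (2 : Fin 3) ≠ 1 by decide)) (MulAction.injective g (e.trans hg1.symm)))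
      (fun e => (v.injective.ne (show (2 : Fin 3) ≠ 0 by decide)) (by
        rw [← hk0, ← e, smul_inv_smul]))
      (fun e => (v.injective.ne (show (2 : Fin 3) ≠ 1 by decide)) (by
        rw [← hk1, ← e, smul_inv_smul]))
    refine ⟨k * (m * g), ?_⟩
    ext i
    show (k * (m * g)) • u i = v i
    rw [mul_smul, mul_smul]
    fin_cases i
    · show k • m • g • u 0 = v 0
      rw [hg0, hm0, hk0]
    · show k • m • g • u 1 = v 1
      rw [hg1, hm1, hk1]
    · show k • m • g • u 2 = v 2
      rw [hm2, smul_inv_smul]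
  · right
    push Not at hone
    intro α β hab
    obtain ⟨c, d, hca, hcb, hda, hdb, hcd⟩ := hone α β hab
    set S := stabilizer G α ⊓ stabilizer G β with hS
    have hmem : ∀ g : G, g ∈ S ↔ g • α = α ∧ g • β = β := fun g => by
      rw [hS, Subgroup.mem_inf, mem_stabilizer_iff, mem_stabilizer_iff]
    let π : Fin 4 → orbitRel.Quotient S Ω := fun i => Quotient.mk'' (![α, β, c, d] i)
    have heq : ∀ x y : Ω, (Quotient.mk'' x : orbitRel.Quotient S Ω) = Quotient.mk'' y ↔
        ∃ g : G, g • α = α ∧ g • β = β ∧ g • y = x := fun x y => by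
      rw [Quotient.eq'', orbitRel_apply, mem_orbit_iff]
      constructor
      · rintro ⟨g, hg⟩; exact ⟨g, ((hmem _).1 g.2).1, ((hmem _).1 g.2).2, hg⟩
      · rintro ⟨g, h1, h2, h3⟩; exact ⟨⟨g, (hmem g).2 ⟨h1, h2⟩⟩, h3⟩
    have hbij : Function.Bijective π := by
      refine ⟨fun i j hij => ?_, fun q => ?_⟩
      · obtain ⟨g, hga, hgb, hg⟩ := (heq _ _).1 hij
        have hfa : ∀ y, g • y = α → y = α := fun y e => MulAction.injective g (e.trans hga.symm)
        have hfb : ∀ y, g • y = β → y = β := fun y e => MulAction.injective g (e.trans hgb.symm)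
        fin_cases i <;> fin_cases j <;> simp at hg ⊢
        · exact hab (hfa _ hg).symm
        · exact hca (hfa _ hg)
        · exact hda (hfa _ hg)
        · exact hab (hfb _ hg)
        · exact hcb (hfb _ hg)
        · exact hdb (hfb _ hg)
        · rw [hga] at hg; exact hca hg.symm
        · rw [hgb] at hg; exact hcb hg.symm
        · exact hcd g⁻¹ (by rw [inv_smul_eq_iff, hga]) (by rw [inv_smul_eq_iff, hgb]) (by rw [inv_smul_eq_iff, hg])
        · rw [hga] at hg; exact hda hg.symm
        · rw [hgb] at hg; exact hdb hg.symm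
        · exact hcd g hga hgb hg
      · induction q using Quotient.inductionOn' with
        | h x =>
          by_cases hxa : x = α
          · exact ⟨0, by rw [hxa]; rfl⟩
          by_cases hxb : x = β
          · exact ⟨1, by rw [hxb]; rfl⟩
          obtain ⟨i, j, hij, g, hga, hgb, hg⟩ := at_most_two hΩ hins P hN hab ![c, d, x]
            (fun i => by fin_cases i <;> simp [hca, hda, hxa])
            (fun i => by fin_cases i <;> simp [hcb, hdb, hxb])
          have hga' : g⁻¹ • α = α := by rw [inv_smul_eq_iff, hga]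
          have hgb' : g⁻¹ • β = β := by rw [inv_smul_eq_iff, hgb]
          fin_cases i <;> fin_cases j <;> simp at hij hg
          · exact absurd hg (hcd g hga hgb)
          · exact ⟨2, (heq c x).2 ⟨g⁻¹, hga', hgb', by rw [← hg, inv_smul_smul]⟩⟩
          · exact absurd (by rw [inv_smul_eq_iff, hg]) (hcd g⁻¹ hga' hgb')
          · exact ⟨3, (heq d x).2 ⟨g⁻¹, hga', hgb', by rw [← hg, inv_smul_smul]⟩⟩
          · exact ⟨2, (heq c x).2 ⟨g, hga, hgb, hg⟩⟩
          · exact ⟨3, (heq d x).2 ⟨g, hga, hgb, hg⟩⟩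
    rw [← Nat.card_congr (Equiv.ofBijective π hbij), Nat.card_fin]

end Cfsg.Agent.S3611
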