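import Cfsg.Statements.S3619
-- import your own Cfsg.Agent.* helpers here

set_option autoImplicit false
open Cfsg

namespace Cfsg.Agent.S3619

open scoped Pointwise

/-- Let G act faithfully on a finite set in such a way that every non-trivial normal subgroup of G is transitive (G is quasiprimitive). Let Γ be a subset with more than one point and not the whole set, such that the pointwise stabilizer of the complement of Γ acts transitively on Γ (a Jordan set). If that pointwise stabilizer acts primitively on Γ, then G is k-fold transitive where k is one more than the number of points outside Γ (the Jordan set is a trivial one). -/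
theorem result {G Ω : Type*} [Group G] [Finite G] [MulAction G Ω] [FaithfulSMul G Ω] [Finite Ω]
    (hqp : ∀ N : Subgroup G, N.Normal → N ≠ ⊥ → MulAction.IsPretransitive ↥N Ω)
    (Γ : Set Ω) (hΓ1 : 1 < Γ.ncard) (hΓ2 : Γ.ncard < Nat.card Ω)
    (hJ : MulAction.IsPretransitive ↥(fixingSubgroup G Γᶜ) ↥(SubMulAction.ofFixingSubgroup G Γᶜ))
    (hJp : MulAction.IsPreprimitive ↥(fixingSubgroup G Γᶜ) ↥(SubMulAction.ofFixingSubgroup G Γᶜ)) :
    MulAction.IsMultiplyPretransitive G Ω (Nat.card Ω - Γ.ncard + 1) := by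
  classical
  have : Nonempty Ω := ⟨(Set.nonempty_of_ncard_ne_zero (by omega : Γ.ncard ≠ 0)).some⟩
  let K : Subgroup G := fixingSubgroup G Γᶜ
  have hmemΓ : ∀ x : SubMulAction.ofFixingSubgroup G Γᶜ, (x : Ω) ∈ Γ := fun x => not_not.mp x.2
  obtain ⟨γ, hγ, γ', hγ', hne⟩ := (Set.one_lt_ncard Γ.toFinite).mp hΓ1
  let up : ∀ x ∈ Γ, SubMulAction.ofFixingSubgroup G Γᶜ := fun x hx => ⟨x, not_not.mpr hx⟩
  have htr : ∀ x ∈ Γ, ∀ y ∈ Γ, ∃ k ∈ K, k • x = y := fun x hx y hy => by
    obtain ⟨k, hk⟩ := hJ.exists_smul_eq (up x hx) (up y hy)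
    exact ⟨k, k.2, congrArg Subtype.val hk⟩
  have hfix : ∀ k ∈ K, ∀ x, x ∉ Γ → k • x = x := fun k hk x hx =>
    (mem_fixingSubgroup_iff G).mp hk x hx
  have hK1 : ∃ k ∈ K, k ≠ (1 : G) := by
    obtain ⟨k, hk, he⟩ := htr γ hγ γ' hγ'
    exact ⟨k, hk, fun h => hne (by rw [← he, h, one_smul])⟩
  have hGtr : MulAction.IsPretransitive G Ω := by
    obtain ⟨k, -, hk⟩ := hK1
    have hbot : (⊤ : Subgroup G) ≠ ⊥ := fun h => hk (Subgroup.mem_bot.mp (h ▸ Subgroup.mem_top k))
    refine ⟨fun a b => ?_⟩
    obtain ⟨g, hg⟩ := (hqp ⊤ inferInstance hbot).exists_smul_eq a b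
    exact ⟨g, hg⟩
  have hprim : MulAction.IsPreprimitive G Ω := by
    refine { isTrivialBlock_of_isBlock := fun {B} hB => ?_ }
    rcases B.eq_empty_or_nonempty with rfl | ⟨b0, hb0⟩
    · exact Or.inl Set.subsingleton_empty
    have hsm : ∀ g h : G, ∀ x, x ∈ g • B → x ∈ h • B → g • B = h • B := fun g h x hx hx' =>
      hB.smul_eq_smul_of_nonempty ⟨x, hx, hx'⟩
    have hcov : ∀ x : Ω, ∃ g : G, x ∈ g • B := fun x => by
      obtain ⟨g, hg⟩ := MulAction.exists_smul_eq G b0 x
      exact ⟨g, ⟨b0, hb0, hg⟩⟩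
    by_cases hbig : ∃ g : G, Γ ⊆ g • B
    · -- the blocks are fixed by the pointwise stabilizer
      obtain ⟨g0, hg0⟩ := hbig
      have hKfix : ∀ k ∈ K, ∀ g : G, k • g • B = g • B := by
        intro k hk g
        rw [smul_smul]
        by_cases hm : ∃ x ∈ Γ, x ∈ g • B
        · obtain ⟨x, hx, hxB⟩ := hm
          have heq := hsm g g0 x hxB (hg0 hx)
          rw [← smul_smul, heq, smul_smul]
          have hkx : k • x ∈ Γ := by
            by_contra hout
            have : k • x = x := smul_left_cancel k (hfix k hk _ hout)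
            rw [this] at hout
            exact hout hx
          refine hsm (k * g0) g0 (k • x) ?_ (hg0 hkx)
          rw [← smul_smul]
          exact Set.smul_mem_smul_set (hg0 hx)
        · push Not at hm
          have hb : g • b0 ∈ g • B := Set.smul_mem_smul_set hb0
          refine hsm (k * g) g (g • b0) ?_ hb
          rw [← smul_smul]
          exact ⟨g • b0, hb, hfix k hk _ fun h => hm _ h hb⟩
      let N : Subgroup G := ⨅ g : G, MulAction.stabilizer G (g • B)
      have hN : N.Normal := ⟨fun n hn h => Subgroup.mem_iInf.mpr fun g => by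
        have := Subgroup.mem_iInf.mp hn (h⁻¹ * g)
        rw [MulAction.mem_stabilizer_iff] at this ⊢
        rw [← smul_smul h⁻¹ g] at this
        rw [show h * n * h⁻¹ = h * (n * h⁻¹) by group, ← smul_smul, ← smul_smul, this,
          smul_inv_smul]⟩
      have hNne : N ≠ ⊥ := fun hbot => by
        obtain ⟨k, hk, hk1⟩ := hK1
        exact hk1 (Subgroup.mem_bot.mp (hbot ▸ Subgroup.mem_iInf.mpr fun g => hKfix k hk g))
      refine Or.inr (Set.eq_univ_iff_forall.mpr fun x => ?_)
      obtain ⟨n, hn⟩ := (hqp N hN hNne).exists_smul_eq b0 x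
      have hB1 : (n : G) • (1 : G) • B = (1 : G) • B := Subgroup.mem_iInf.mp n.2 1
      rw [one_smul] at hB1
      rw [← hB1]
      exact ⟨b0, hb0, hn⟩
    · -- every translate meets the set in at most one point
      have hone : ∀ g : G, ∀ x ∈ Γ, ∀ y ∈ Γ, x ∈ g • B → y ∈ g • B → x = y := by
        intro g x hx y hy hxB hyB
        let B' : Set (SubMulAction.ofFixingSubgroup G Γᶜ) := {z | (z : Ω) ∈ g • B}
        have hblock : MulAction.IsBlock (fixingSubgroup G Γᶜ) B' := by
          rw [MulAction.isBlock_iff_smul_eq_of_nonempty]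
          rintro k ⟨z, ⟨z', hz', rfl⟩, hz2⟩
          have hz1 : (k : G) • (z' : Ω) ∈ ((k : G) * g) • B := by
            rw [← smul_smul]
            exact Set.smul_mem_smul_set hz'
          have heq := hsm ((k : G) * g) g _ hz1 hz2
          ext w
          constructor
          · rintro ⟨w', hw', rfl⟩
            show (k : G) • (w' : Ω) ∈ g • B
            rw [← heq, ← smul_smul]
            exact Set.smul_mem_smul_set hw'
          · intro hw
            refine ⟨k⁻¹ • w, ?_, smul_inv_smul k w⟩
            show (k : G)⁻¹ • (w : Ω) ∈ g • B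
            have hw' : (w : Ω) ∈ g • B := hw
            rw [← heq, ← smul_smul] at hw'
            exact Set.mem_smul_set_iff_inv_smul_mem.mp hw'
        rcases hJp.isTrivialBlock_of_isBlock hblock with h | h
        · exact congrArg Subtype.val (h (show up x hx ∈ B' from hxB) (show up y hy ∈ B' from hyB))
        · exact absurd ⟨g, fun z hz => (Set.eq_univ_iff_forall.mp h (up z hz) : _)⟩ hbig
      refine Or.inl fun u hu v hv => ?_
      obtain ⟨g, hg⟩ := hcov γ
      have hsingle : ∀ z ∈ g • B, z = γ := by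
        intro z hz
        by_cases hzΓ : z ∈ Γ
        · exact hone g z hzΓ γ hγ hz hg
        · exfalso
          obtain ⟨k, hk, hkγ⟩ := htr γ hγ γ' hγ'
          have h1 : z ∈ (k * g) • B := by
            rw [← smul_smul]
            exact ⟨z, hz, hfix k hk z hzΓ⟩
          have h2 : γ' ∈ g • B := by
            rw [← hsm (k * g) g z h1 hz, ← smul_smul]
            exact ⟨γ, hg, hkγ⟩
          exact hne (hone g γ hγ γ' hγ' hg h2)
      exact smul_left_cancel g ((hsingle _ (Set.smul_mem_smul_set hu)).trans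
        (hsingle _ (Set.smul_mem_smul_set hv)).symm)
  obtain ⟨j, hj⟩ : ∃ j, Γᶜ.ncard = j + 1 := ⟨Γᶜ.ncard - 1, by
    have := Set.ncard_add_ncard_compl Γ
    omega⟩
  have hc := Set.ncard_add_ncard_compl Γ
  have h := hprim.isMultiplyPreprimitive hj (by omega) hJp
  rw [show Nat.card Ω - Γ.ncard + 1 = j + 2 by omega]
  exact h.isMultiplyPretransitive

end Cfsg.Agent.S3619
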