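import Cfsg.Statements.S3620
import Cfsg.Agent.Lib.Perm.Marggraff

set_option autoImplicit false
open Cfsg

namespace Cfsg.Agent.S3620

section Aux

open Equiv

variable {X : Type*} [Fintype X] [DecidableEq X]

/-- The 3-cycle `x ↦ y ↦ z ↦ x`. -/
def cycle3 (x y z : X) : Perm X := swap x z * swap x y

theorem cycle3_sign {x y z : X} (hxy : x ≠ y) (hxz : x ≠ z) : Perm.sign (cycle3 x y z) = 1 := by
  rw [cycle3, map_mul, Perm.sign_swap hxz, Perm.sign_swap hxy]
  rfl

theorem cycle3_inv {x y z : X} (hxy : x ≠ y) (hxz : x ≠ z) (hyz : y ≠ z) :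
    cycle3 y x z = (cycle3 x y z)⁻¹ := by
  refine eq_inv_of_mul_eq_one_left (Perm.ext fun w => ?_)
  simp only [cycle3, Perm.mul_apply, Perm.one_apply, swap_apply_def]
  split_ifs <;> simp_all

theorem cycle3_conj (π : Perm X) (x y z : X) : π * cycle3 x y z * π⁻¹ = cycle3 (π x) (π y) (π z) := by
  rw [cycle3, cycle3, swap_apply_apply, swap_apply_apply]
  group

/-- Even permutations fixing a point lie in a subgroup containing all 3-cycles fixing it. -/
theorem mem_of_cycle3 {M : Subgroup (Perm X)} {o : X}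
    (hM : ∀ x y z, x ≠ y → x ≠ z → y ≠ z → x ≠ o → y ≠ o → z ≠ o → cycle3 x y z ∈ M) :
    ∀ (N : ℕ) (σ : Perm X), σ.support.card ≤ N → Perm.sign σ = 1 → σ o = o → σ ∈ M := by
  intro N
  induction N with
  | zero =>
    intro σ hN _ _
    rw [(Perm.card_support_le_one (f := σ)).1 (by omega)]
    exact M.one_mem
  | succ N ih =>
    intro σ hN hs ho
    by_cases h1 : σ = 1
    · exact h1 ▸ M.one_mem
    obtain ⟨x, hx⟩ := Finset.nonempty_iff_ne_empty.2 (mt Perm.support_eq_empty_iff.1 h1)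
    have hxy : x ≠ σ x := (Perm.mem_support.1 hx).symm
    obtain ⟨z, hz, hzn⟩ : ∃ z ∈ σ.support, z ∉ ({x, σ x} : Finset X) := by
      refine Finset.not_subset.1 fun hsub => ?_
      have h2 : σ.support.card ≤ 2 := (Finset.card_le_card hsub).trans Finset.card_le_two
      rcases Nat.lt_or_ge σ.support.card 2 with h | h
      · exact h1 (Perm.card_support_le_one.1 (by omega))
      · obtain ⟨a, b, hab, rfl⟩ := Perm.card_support_eq_two.1 (le_antisymm h2 h)
        rw [Perm.sign_swap hab] at hs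
        exact absurd hs (by decide)
    simp only [Finset.mem_insert, Finset.mem_singleton, not_or] at hzn
    have hmo : ∀ u ∈ σ.support, u ≠ o := fun u hu h => Perm.mem_support.1 hu (h ▸ ho)
    have hy := Perm.apply_mem_support.2 hx
    have hc := hM x (σ x) z hxy (Ne.symm hzn.1) (Ne.symm hzn.2) (hmo x hx) (hmo _ hy) (hmo z hz)
    have hfix : ∀ u, u ∉ σ.support → cycle3 x (σ x) z u = u := fun u hu => by
      rw [cycle3, Perm.mul_apply, swap_apply_of_ne_of_ne (fun h : u = x => hu (h ▸ hx))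
        (fun h : u = σ x => hu (h ▸ hy)), swap_apply_of_ne_of_ne (fun h : u = x => hu (h ▸ hx))
        (fun h : u = z => hu (h ▸ hz))]
    have hcx : cycle3 x (σ x) z x = σ x := by
      rw [cycle3, Perm.mul_apply, swap_apply_left, swap_apply_of_ne_of_ne hxy.symm (Ne.symm hzn.2)]
    have hsub : ((cycle3 x (σ x) z)⁻¹ * σ).support ⊆ σ.support.erase x := fun u hu => by
      rw [Perm.mem_support, Perm.mul_apply] at hu
      refine Finset.mem_erase.2 ⟨fun h => hu ?_, by_contra fun h => hu ?_⟩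
      · rw [h, Perm.inv_eq_iff_eq, hcx]
      · rw [Perm.notMem_support.1 h, Perm.inv_eq_iff_eq, hfix u h]
    have hle := Finset.card_le_card hsub
    rw [Finset.card_erase_of_mem hx] at hle
    have hc' := ih ((cycle3 x (σ x) z)⁻¹ * σ) (by omega)
      (by rw [map_mul, map_inv, cycle3_sign hxy (Ne.symm hzn.1), hs, inv_one, one_mul])
      (by rw [Perm.mul_apply, ho, Perm.inv_eq_iff_eq, hfix o (fun h => hmo o h rfl)])
    simpa using M.mul_mem hc hc'

end Aux

/-- Let G act faithfully on a finite set in such a way that every non-trivial normal subgroup of G is transitive (G is quasiprimitive). Let Γ be a subset with more than one point and fewer than half of the points, such that the pointwise stabilizer of the complement of Γ acts transitively on Γ. Then G induces every even permutation of the set (G is the alternating or the symmetric group). -/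
theorem result {G Ω : Type*} [Group G] [Finite G] [MulAction G Ω] [FaithfulSMul G Ω] [Fintype Ω] [DecidableEq Ω]
    (hqp : ∀ N : Subgroup G, N.Normal → N ≠ ⊥ → MulAction.IsPretransitive ↥N Ω)
    (Γ : Set Ω) (hΓ1 : 1 < Γ.ncard) (hΓ2 : 2 * Γ.ncard < Fintype.card Ω)
    (hJ : MulAction.IsPretransitive ↥(fixingSubgroup G Γᶜ) ↥(SubMulAction.ofFixingSubgroup G Γᶜ)) :
    ∀ σ : Equiv.Perm Ω, Equiv.Perm.sign σ = 1 → ∃ x : G, (MulAction.toPerm x : Equiv.Perm Ω) = σ := by
  classical
  open scoped Pointwise in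
  obtain ⟨Γ, rfl⟩ : ∃ Γ' : Finset Ω, (Γ' : Set Ω) = Γ := ⟨Γ.toFinset, Γ.coe_toFinset⟩
  rw [Set.ncard_coe_finset] at hΓ1 hΓ2
  have hJ' : CfsgLib.Perm.Marggraff.IsJordan G Γ := fun x hx y hy => by
    haveI := hJ
    obtain ⟨⟨g, hg⟩, hgx⟩ := MulAction.exists_smul_eq (fixingSubgroup G (Γ : Set Ω)ᶜ)
      (⟨x, fun h => h hx⟩ : SubMulAction.ofFixingSubgroup G (Γ : Set Ω)ᶜ) ⟨y, fun h => h hy⟩
    exact ⟨g, congrArg Subtype.val hgx, fun z hz => (mem_fixingSubgroup_iff G).1 hg z hz⟩
  obtain ⟨a, ⟨pa, hpa⟩, hafix⟩ := CfsgLib.Perm.Marggraff.exists_moved hJ' (show 2 ≤ Γ.card by omega)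
  have ha1 : a ≠ 1 := fun h => hpa (by rw [h, one_smul])
  haveI hpre : MulAction.IsPretransitive G Ω := by
    haveI := hqp ⊤ inferInstance (fun h => ha1 (Subgroup.mem_bot.1 (h ▸ Subgroup.mem_top a)))
    exact ⟨fun x y => by obtain ⟨g, hg⟩ := MulAction.exists_smul_eq (⊤ : Subgroup G) x y; exact ⟨g, hg⟩⟩
  -- a maximal block system
  obtain ⟨H, hH, hle⟩ : ∃ H : Subgroup G, IsCoatom H ∧ MulAction.stabilizer G pa ≤ H := by
    rcases eq_top_or_exists_le_coatom (MulAction.stabilizer G pa) with h | h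
    · exact absurd (MulAction.mem_stabilizer_iff.1 (h ▸ Subgroup.mem_top a)) hpa
    · exact h
  haveI : Fintype (G ⧸ H) := Fintype.ofFinite _
  choose gx hgx using fun x : Ω => MulAction.exists_smul_eq G pa x
  let f : Ω → G ⧸ H := fun x => (gx x : G ⧸ H)
  have hf : ∀ g : G, f (g • pa) = (g : G ⧸ H) := fun g => by
    refine QuotientGroup.eq.2 (hle (MulAction.mem_stabilizer_iff.2 ?_))
    rw [mul_smul, inv_smul_eq_iff, hgx]
  have heq : ∀ (g : G) x, f (g • x) = g • f x := fun g x => by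
    conv_lhs => rw [← hgx x, smul_smul, hf]
    rfl
  haveI : Nontrivial (G ⧸ H) := ⟨⟨((1 : G) : G ⧸ H), (Classical.choose (SetLike.exists_not_mem_of_ne_top H hH.1) : G),
    fun h => Classical.choose_spec (SetLike.exists_not_mem_of_ne_top H hH.1) (by simpa using QuotientGroup.eq.1 h)⟩⟩
  have hprim : MulAction.IsPreprimitive G (G ⧸ H) := by
    rw [← MulAction.isCoatom_stabilizer_iff_preprimitive (G := G) (X := G ⧸ H) ((1 : G) : G ⧸ H), MulAction.stabilizer_quotient]
    exact hH
  let φ := MulAction.toPermHom G (G ⧸ H)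
  have hφ : ∀ g : G, (∀ b : G ⧸ H, g • b = b) → g = 1 := by
    by_contra hcon
    push Not at hcon
    obtain ⟨g, hg, hg1⟩ := hcon
    haveI := hqp φ.ker inferInstance fun h => hg1 (Subgroup.mem_bot.1 (h ▸ MonoidHom.mem_ker.2 (Equiv.ext hg)))
    refine hH.1 (eq_top_iff.2 fun u _ => ?_)
    obtain ⟨⟨n, hn⟩, hnu⟩ := MulAction.exists_smul_eq φ.ker pa (u • pa)
    have h1 : n • ((1 : G) : G ⧸ H) = ((1 : G) : G ⧸ H) := by
      show (φ n) ((1 : G) : G ⧸ H) = ((1 : G) : G ⧸ H)
      rw [MonoidHom.mem_ker.1 hn]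
      rfl
    have h2 : ((1 : G) : G ⧸ H) = (u : G ⧸ H) := by
      rw [← hf u, ← show n • pa = u • pa from hnu, heq, ← one_smul G pa, hf 1, h1]
    simpa using QuotientGroup.eq.1 h2
  let F : G ⧸ H → Finset Ω := fun b => Finset.univ.filter fun x => f x = b
  have hF : ∀ b, (F b).card = (F (f pa)).card := fun b => by
    obtain ⟨g, rfl⟩ := QuotientGroup.mk_surjective b
    symm
    refine Finset.card_bij (fun x _ => g • x) (fun x hx => ?_) (fun x _ y _ h => MulAction.injective g h) fun y hy =>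
      ⟨g⁻¹ • y, ?_, smul_inv_smul g y⟩
    · simp only [F, Finset.mem_filter, Finset.mem_univ, true_and] at hx ⊢
      rw [heq, hx, ← hf g, heq]
    · simp only [F, Finset.mem_filter, Finset.mem_univ, true_and] at hy ⊢
      rw [heq, hy, ← hf g, heq, inv_smul_smul]
  set d := (F (f pa)).card with hd
  have hd0 : 1 ≤ d := Finset.card_pos.2 ⟨pa, by simp [F]⟩
  have hΓa : ∀ z ∈ Γ, a • z ∈ Γ := fun z hz => by_contra fun h => by
    have h' := hafix _ h
    exact h (by rw [MulAction.injective a h']; exact hz)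
  have htriv : ∀ b, (∀ z ∈ Γ, f z = b) → False := fun b hb => ha1 (hφ a fun c => by
    obtain ⟨g, rfl⟩ := QuotientGroup.mk_surjective c
    rw [← hf g, ← heq]
    by_cases hz : g • pa ∈ Γ
    · rw [hb _ hz, hb _ (hΓa _ hz)]
    · rw [hafix _ hz])
  have hunion : ∀ x ∈ Γ, ∀ y, f y = f x → y ∈ Γ := fun x hx y hy => by_contra fun hyΓ => htriv (f y) fun z hz => by
    obtain ⟨u, hu, hufix⟩ := hJ' x hx z hz
    rw [← hu, heq, ← hy, ← heq, hufix y hyΓ]
  set Γb := Γ.image f with hΓb
  have hΓF : ∀ b ∈ Γb, (Γ.filter fun x => f x = b) = F b := fun b hb => by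
    obtain ⟨x, hx, rfl⟩ := Finset.mem_image.1 hb
    ext y
    simp only [F, Finset.mem_filter, Finset.mem_univ, true_and]
    exact ⟨fun h => h.2, fun h => ⟨hunion x hx y h, h⟩⟩
  have hΓc : Γ.card = Γb.card * d := by
    rw [Finset.card_eq_sum_card_image f Γ, Finset.sum_congr rfl fun b hb => by rw [hΓF b hb, hF b],
      Finset.sum_const, smul_eq_mul]
  have hΩc : Fintype.card Ω = Fintype.card (G ⧸ H) * d := by
    rw [← Finset.card_univ, Finset.card_eq_sum_card_fiberwise (f := f) (t := Finset.univ)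
      (fun x _ => Finset.mem_coe.2 (Finset.mem_univ _)), Finset.sum_congr rfl fun b _ => hF b, Finset.sum_const,
      smul_eq_mul, Finset.card_univ]
  have hγ : 2 ≤ Γb.card := by
    by_contra h
    obtain ⟨x, hx⟩ : Γ.Nonempty := Finset.card_pos.1 (by omega)
    exact htriv (f x) fun z hz => Finset.card_le_one.1 (show Γb.card ≤ 1 by omega) _ (Finset.mem_image_of_mem f hz) _
      (Finset.mem_image_of_mem f hx)
  have hγ2 : 2 * Γb.card < Fintype.card (G ⧸ H) := Nat.lt_of_mul_lt_mul_right (a := d) (by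
    rw [mul_assoc, ← hΓc, ← hΩc]; exact hΓ2)
  have hJb : CfsgLib.Perm.Marggraff.IsJordan G Γb := fun b hb c hc => by
    obtain ⟨x, hx, rfl⟩ := Finset.mem_image.1 hb
    obtain ⟨y, hy, rfl⟩ := Finset.mem_image.1 hc
    obtain ⟨g, hg, hgfix⟩ := hJ' x hx y hy
    refine ⟨g, by rw [← heq, hg], fun z hz => ?_⟩
    obtain ⟨u, rfl⟩ := QuotientGroup.mk_surjective z
    rw [← hf u, ← heq, hgfix _ fun h => hz (by rw [← hf u]; exact Finset.mem_image_of_mem f h)]
  -- Marggraff's theorem on the blocks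
  obtain ⟨t, u, v, w, huv, hvw, huw, htu, htv, htw, htfix⟩ :=
    CfsgLib.Perm.Marggraff.hasThreeCycle _ G (G ⧸ H) rfl hprim Γb hJb hγ hγ2
  have halt : alternatingGroup (G ⧸ H) ≤ φ.range := by
    have hcyc : φ t = Equiv.swap u w * Equiv.swap u v := by
      refine Equiv.ext fun z => ?_
      rw [Equiv.Perm.mul_apply]
      show t • z = _
      rcases eq_or_ne z u with rfl | hzu
      · rw [htu, Equiv.swap_apply_left, Equiv.swap_apply_of_ne_of_ne huv.symm hvw]
      rcases eq_or_ne z v with rfl | hzv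
      · rw [htv, Equiv.swap_apply_right, Equiv.swap_apply_left]
      rcases eq_or_ne z w with rfl | hzw
      · rw [htw, Equiv.swap_apply_of_ne_of_ne hzu hzv, Equiv.swap_apply_right]
      · rw [htfix z hzu hzv hzw, Equiv.swap_apply_of_ne_of_ne hzu hzv, Equiv.swap_apply_of_ne_of_ne hzu hzw]
    haveI : MulAction.IsPreprimitive φ.range (G ⧸ H) :=
      MulAction.IsPreprimitive.of_surjective (φ := φ.rangeRestrict)
        (f := { toFun := id, map_smul' := fun g z => rfl }) Function.surjective_id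
    exact Equiv.Perm.alternatingGroup_le_of_isPreprimitive_of_isThreeCycle_mem inferInstance
      (hcyc ▸ Equiv.Perm.isThreeCycle_swap_mul_swap_same huw huv hvw.symm) ⟨t, rfl⟩
  intro σ hσ
  by_cases hd1 : d = 1
  · -- the action on the blocks is the given action
    have hinj : Function.Injective f := fun x y hxy =>
      Finset.card_le_one.1 (show (F (f y)).card ≤ 1 by rw [hF, hd1]) x (by simp [F, hxy]) y (by simp [F])
    have hsurj : Function.Surjective f := fun b => by
      obtain ⟨g, rfl⟩ := QuotientGroup.mk_surjective b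
      exact ⟨g • pa, hf g⟩
    let e : Ω ≃ G ⧸ H := Equiv.ofBijective f ⟨hinj, hsurj⟩
    obtain ⟨g, hg⟩ := halt (show e.permCongr σ ∈ alternatingGroup (G ⧸ H) by
      rw [Equiv.Perm.mem_alternatingGroup, Equiv.Perm.sign_permCongr, hσ])
    refine ⟨g, Equiv.ext fun x => hinj ?_⟩
    have := Equiv.congr_fun hg (e x)
    rw [Equiv.permCongr_apply, Equiv.symm_apply_apply] at this
    show f (g • x) = _
    rw [heq]
    exact this
  exfalso
  -- a non-trivial block outside the Jordan set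
  have hout3 : 3 ≤ (Finset.univ \ Γb).card := by rw [Finset.card_univ_diff]; omega
  obtain ⟨o, ho⟩ : (Finset.univ \ Γb).Nonempty := Finset.card_pos.1 (by omega)
  obtain ⟨c, hc, d', hd', hcd⟩ := Finset.one_lt_card.1 (show 1 < ((Finset.univ \ Γb).erase o).card by
    rw [Finset.card_erase_of_mem ho]; omega)
  obtain ⟨hco, hcΓ⟩ := Finset.mem_erase.1 hc
  obtain ⟨hdo, hdΓ⟩ := Finset.mem_erase.1 hd'
  have ho' := (Finset.mem_sdiff.1 ho).2
  have hc' := (Finset.mem_sdiff.1 hcΓ).2
  have hd'' := (Finset.mem_sdiff.1 hdΓ).2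
  let Nf : Subgroup G :=
    { carrier := {g | ∀ y ∈ F o, g • y = y}
      one_mem' := fun y _ => one_smul G y
      mul_mem' := fun hg hh y hy => by rw [mul_smul, hh y hy, hg y hy]
      inv_mem' := fun hg y hy => by rw [inv_smul_eq_iff, hg y hy] }
  have hNf : ∀ h : G, h • o = o → ∀ g ∈ Nf, h * g * h⁻¹ ∈ Nf := fun h hh g hg y hy => by
    have hy' : h⁻¹ • y ∈ F o := by
      simp only [F, Finset.mem_filter, Finset.mem_univ, true_and] at hy ⊢
      rw [heq, hy, inv_smul_eq_iff, hh]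
    rw [mul_smul, mul_smul, hg _ hy', smul_inv_smul]
  have haN : a ∈ Nf := fun y hy => hafix y fun h => ho' (by
    rw [← (Finset.mem_filter.1 hy).2]; exact Finset.mem_image_of_mem f h)
  obtain ⟨p, hap⟩ : ∃ p : G ⧸ H, a • p ≠ p := by
    by_contra h
    push Not at h
    exact ha1 (hφ a h)
  have haout : ∀ b, b ∉ Γb → a • b = b := fun b hb => by
    obtain ⟨g, rfl⟩ := QuotientGroup.mk_surjective b
    rw [← hf g, ← heq, hafix _ fun h => hb (by rw [← hf g]; exact Finset.mem_image_of_mem f h)]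
  have hpΓ : p ∈ Γb := by_contra fun h => hap (haout p h)
  have hqΓ : a • p ∈ Γb := by_contra fun h => hap (MulAction.injective a (haout _ h))
  have hpo : p ≠ o := fun h => ho' (h ▸ hpΓ)
  have hpc : p ≠ c := fun h => hc' (h ▸ hpΓ)
  have hpd : p ≠ d' := fun h => hd'' (h ▸ hpΓ)
  have hqo : a • p ≠ o := fun h => ho' (h ▸ hqΓ)
  have hqc : a • p ≠ c := fun h => hc' (h ▸ hqΓ)
  have hqd : a • p ≠ d' := fun h => hd'' (h ▸ hqΓ)
  obtain ⟨τ, hτ⟩ := halt (show cycle3 p c d' ∈ alternatingGroup (G ⧸ H) from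
    Equiv.Perm.mem_alternatingGroup.2 (cycle3_sign hpc hpd))
  have hτo : τ • o = o := by
    show φ τ o = o
    rw [hτ, cycle3, Equiv.Perm.mul_apply, Equiv.swap_apply_of_ne_of_ne hpo.symm (Ne.symm hco),
      Equiv.swap_apply_of_ne_of_ne hpo.symm (Ne.symm hdo)]
  set M := Nf.map φ with hM
  have hbase : cycle3 p (a • p) c ∈ M := by
    refine ⟨a * τ * a⁻¹ * τ⁻¹, ?_, ?_⟩
    · rw [mul_assoc a τ, mul_assoc a]
      exact Nf.mul_mem haN (hNf τ hτo _ (Nf.inv_mem haN))
    · rw [map_mul, map_mul, map_mul, map_inv, map_inv, hτ, cycle3_conj,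
        show φ a c = c from haout c hc', show φ a d' = d' from haout d' hd'', show φ a p = a • p from rfl,
        ← cycle3_inv hpc hpd hcd]
      refine Equiv.ext fun z => ?_
      simp only [cycle3, Equiv.Perm.mul_apply, Equiv.swap_apply_def]
      grind
  have hconj : ∀ π : Equiv.Perm (G ⧸ H), Equiv.Perm.sign π = 1 → π o = o → ∀ T ∈ M, π * T * π⁻¹ ∈ M := by
    intro π hπ hπo T hT
    obtain ⟨g, hg, rfl⟩ := hT
    obtain ⟨h, hh⟩ := halt (Equiv.Perm.mem_alternatingGroup.2 hπ)
    refine ⟨h * g * h⁻¹, hNf h (by show φ h o = o; rw [hh, hπo]) g hg, ?_⟩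
    rw [map_mul, map_mul, map_inv, hh]
  have hall : ∀ x y z, x ≠ y → x ≠ z → y ≠ z → x ≠ o → y ≠ o → z ≠ o → cycle3 x y z ∈ M := by
    intro x y z hxy hxz hyz hxo hyo hzo
    have hap' : p ≠ a • p := Ne.symm hap
    obtain ⟨π, hπ⟩ := CfsgLib.Perm.Marggraff.exists_move (G := Equiv.Perm (G ⧸ H))
      (Equiv.Perm.isMultiplyPretransitive (G ⧸ H) 4) (by omega) (s := {p, a • p, c, o})
      Finset.card_le_four
      (fun b => if b = p then x else if b = a • p then y else if b = c then z else o) (by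
        intro b hb b' hb' h
        simp only [Finset.coe_insert, Finset.coe_singleton, Set.mem_insert_iff, Set.mem_singleton_iff] at hb hb'
        rcases hb with rfl | rfl | rfl | rfl <;> rcases hb' with rfl | rfl | rfl | rfl <;> grind)
    have hp1 : π p = x := (hπ p (by simp)).trans (if_pos rfl)
    have hp2 : π (a • p) = y := (hπ _ (by simp)).trans (by rw [if_neg hap, if_pos rfl])
    have hp3 : π c = z := (hπ c (by simp)).trans (by rw [if_neg hpc.symm, if_neg hqc.symm, if_pos rfl])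
    have hp4 : π o = o := (hπ o (by simp)).trans (by rw [if_neg hpo.symm, if_neg hqo.symm, if_neg (Ne.symm hco)])
    rcases Int.units_eq_one_or (Equiv.Perm.sign π) with hs | hs
    · have := hconj π hs hp4 _ hbase
      rwa [cycle3_conj, hp1, hp2, hp3] at this
    · have := hconj (π * Equiv.swap p (a • p))
        (by rw [map_mul, hs, Equiv.Perm.sign_swap hap']; rfl)
        (by rw [Equiv.Perm.mul_apply, Equiv.swap_apply_of_ne_of_ne hpo.symm hqo.symm, hp4]) _ hbase
      rw [cycle3_conj, Equiv.Perm.mul_apply, Equiv.Perm.mul_apply, Equiv.Perm.mul_apply, Equiv.swap_apply_left,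
        Equiv.swap_apply_right, Equiv.swap_apply_of_ne_of_ne hpc.symm hqc.symm, hp1, hp2, hp3,
        cycle3_inv hxy hxz hyz] at this
      simpa using M.inv_mem this
  -- the even elements are transitive, yet fix that block pointwise
  obtain ⟨y₁, hy₁, y₂, hy₂, hy12⟩ := Finset.one_lt_card.1 (show 1 < (F o).card by rw [hF]; omega)
  haveI := hqp ((alternatingGroup (G ⧸ H)).comap φ) inferInstance fun h => by
    have hmem : τ ∈ (alternatingGroup (G ⧸ H)).comap φ := by
      rw [Subgroup.mem_comap, hτ, Equiv.Perm.mem_alternatingGroup, cycle3_sign hpc hpd]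
    rw [h, Subgroup.mem_bot] at hmem
    rw [hmem, map_one] at hτ
    have := Equiv.congr_fun hτ p
    rw [Equiv.Perm.one_apply, cycle3, Equiv.Perm.mul_apply, Equiv.swap_apply_left,
      Equiv.swap_apply_of_ne_of_ne hpc.symm hcd] at this
    exact hpc this
  obtain ⟨⟨g, hg⟩, hgy⟩ := MulAction.exists_smul_eq ((alternatingGroup (G ⧸ H)).comap φ) y₁ y₂
  have hgy' : g • y₁ = y₂ := hgy
  have hgo : φ g o = o := by
    show g • o = o
    rw [← (Finset.mem_filter.1 hy₁).2, ← heq, hgy', (Finset.mem_filter.1 hy₂).2, (Finset.mem_filter.1 hy₁).2]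
  obtain ⟨g', hg', hgg⟩ := mem_of_cycle3 hall _ (φ g) le_rfl (Equiv.Perm.mem_alternatingGroup.1 hg) hgo
  have : g' = g := mul_inv_eq_one.1 (hφ _ fun b => Equiv.congr_fun
    (show φ (g' * g⁻¹) = 1 by rw [map_mul, map_inv, hgg, mul_inv_cancel]) b)
  exact hy12 (by rw [← hgy', ← this, hg' y₁ hy₁])

end Cfsg.Agent.S3620
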