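import Cfsg.Statements.S3627
import Cfsg.Agent.Lib.J1.Orders
import Mathlib.GroupTheory.SemidirectProduct

set_option autoImplicit false
open Cfsg

namespace Cfsg.Agent.S3627

open CfsgLib.J1

/-- Sum-zero functions on `ZMod q` with values in a vector space over `ZMod 19`. -/
def V (q N : ℕ) [NeZero q] : AddSubgroup (ZMod q → Fin (N + 1) → ZMod 19) where
  carrier := {f | ∑ x, f x = 0}
  zero_mem' := Finset.sum_eq_zero fun _ _ => rfl
  add_mem' := fun {f g} hf hg => by
    show ∑ x, (f x + g x) = 0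
    rw [Finset.sum_add_distrib, show ∑ x, f x = 0 from hf, show ∑ x, g x = 0 from hg, add_zero]
  neg_mem' := fun {f} hf => by
    show ∑ x, (-f x) = 0
    rw [Finset.sum_neg_distrib, show ∑ x, f x = 0 from hf, neg_zero]

def shift (q N : ℕ) [NeZero q] (a : ZMod q) : V q N ≃+ V q N where
  toFun f := ⟨fun x => f.1 (x + a), by
    show ∑ x, f.1 (x + a) = 0
    rw [← show ∑ x, f.1 x = 0 from f.2]
    exact Equiv.sum_comp (Equiv.addRight a) f.1⟩
  invFun f := ⟨fun x => f.1 (x - a), by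
    show ∑ x, f.1 (x - a) = 0
    rw [← show ∑ x, f.1 x = 0 from f.2]
    exact Equiv.sum_comp (Equiv.subRight a) f.1⟩
  left_inv f := Subtype.ext (funext fun x => by simp)
  right_inv f := Subtype.ext (funext fun x => by simp)
  map_add' _ _ := rfl

def act (q N : ℕ) [NeZero q] : Multiplicative (ZMod q) →* MulAut (Multiplicative (V q N)) where
  toFun a := AddEquiv.toMultiplicative (shift q N a.toAdd)
  map_one' := MulEquiv.ext fun f => Multiplicative.toAdd.injective (Subtype.ext (funext fun x => by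
    show (Multiplicative.toAdd f : V q N).1 (x + 0) = (Multiplicative.toAdd f : V q N).1 x
    rw [add_zero]))
  map_mul' a b := MulEquiv.ext fun f => Multiplicative.toAdd.injective (Subtype.ext (funext fun x => by
    show (Multiplicative.toAdd f : V q N).1 (x + (a.toAdd + b.toAdd)) =
      (Multiplicative.toAdd f : V q N).1 (x + a.toAdd + b.toAdd)
    rw [add_assoc]))

/-- The Frobenius group with kernel `V q N` and complement of order `q`. -/
abbrev F (q N : ℕ) [NeZero q] : Type :=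
  SemidirectProduct (Multiplicative (V q N)) (Multiplicative (ZMod q)) (act q N)

instance (q N : ℕ) [NeZero q] : Finite (F q N) := Finite.of_equiv _ SemidirectProduct.equivProd.symm

theorem pow_shape {q N : ℕ} [NeZero q] (g : F q N) (k : ℕ) :
    (g ^ k).right = g.right ^ k ∧ ∀ x, (Multiplicative.toAdd (g ^ k).left : V q N).1 x =
      ∑ j ∈ Finset.range k, (Multiplicative.toAdd g.left : V q N).1 (x + (j : ℕ) • g.right.toAdd) := by
  induction k with
  | zero => exact ⟨by rw [pow_zero, pow_zero]; rfl, fun x => by rw [pow_zero]; simp⟩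
  | succ k ih =>
    refine ⟨by rw [pow_succ, SemidirectProduct.mul_right, ih.1, pow_succ], fun x => ?_⟩
    rw [pow_succ, SemidirectProduct.mul_left, Finset.sum_range_succ, ← ih.2 x, ih.1]
    rfl

theorem pow_of_ne {q N : ℕ} [Fact q.Prime] (g : F q N) (hg : g.right ≠ 1) : g ^ q = 1 := by
  obtain ⟨h1, h2⟩ := pow_shape g q
  have ha : g.right.toAdd ≠ 0 := fun h => hg (Multiplicative.toAdd.injective h)
  refine SemidirectProduct.ext (Multiplicative.toAdd.injective (Subtype.ext (funext fun x => ?_))) ?_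
  · rw [h2 x]
    have hbij : Function.Bijective fun j : Fin q => x + (j : ℕ) • g.right.toAdd := by
      refine (Fintype.bijective_iff_injective_and_card _).2 ⟨fun i j hij => ?_, by simp⟩
      have := add_left_cancel hij
      simp only [nsmul_eq_mul] at this
      have h3 := congrArg ZMod.val (mul_right_cancel₀ ha this)
      rw [ZMod.val_natCast_of_lt i.2, ZMod.val_natCast_of_lt j.2] at h3
      exact Fin.ext h3
    rw [Finset.sum_range fun j => (Multiplicative.toAdd g.left : V q N).1 (x + j • g.right.toAdd),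
      hbij.sum_comp (Multiplicative.toAdd g.left : V q N).1]
    exact (Multiplicative.toAdd g.left : V q N).2
  · rw [h1, SemidirectProduct.one_right]
    refine Multiplicative.toAdd.injective ?_
    rw [toAdd_pow, toAdd_one, nsmul_eq_mul, ZMod.natCast_self, zero_mul]

theorem pow_of_eq {q N : ℕ} [Fact q.Prime] (g : F q N) (hg : g.right = 1) : g ^ 19 = 1 := by
  obtain ⟨h1, h2⟩ := pow_shape g 19
  refine SemidirectProduct.ext (Multiplicative.toAdd.injective (Subtype.ext (funext fun x => ?_))) ?_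
  · rw [h2 x, hg]
    simp only [toAdd_one, smul_zero, add_zero, Finset.sum_const, Finset.card_range]
    refine funext fun i => ?_
    rw [Pi.smul_apply, nsmul_eq_mul, ZMod.natCast_self, zero_mul]
    rfl
  · rw [h1, hg, one_pow]; rfl

theorem orderOf_dvd_F {q N : ℕ} [Fact q.Prime] (g : F q N) : ∃ c ∈ [q, 19], orderOf g ∣ c := by
  by_cases h : g.right = 1
  · exact ⟨19, by simp, orderOf_dvd_of_pow_eq_one (pow_of_eq g h)⟩
  · exact ⟨q, by simp, orderOf_dvd_of_pow_eq_one (pow_of_ne g h)⟩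

theorem exists_q {q N : ℕ} [Fact q.Prime] : ∃ g : F q N, orderOf g = q := by
  refine ⟨SemidirectProduct.inr (Multiplicative.ofAdd 1), orderOf_eq_prime (pow_of_ne _ ?_) ?_⟩
  · intro h
    exact one_ne_zero (congrArg Multiplicative.toAdd h : (1 : ZMod q) = 0)
  · intro h
    exact one_ne_zero (congrArg (fun g : F q N => g.right.toAdd) h : (1 : ZMod q) = 0)

/-- An embedding of `(ZMod 19) ^ (N + 1)` in `V q N`. -/
def emb (q N : ℕ) [Fact q.Prime] (w : Fin (N + 1) → ZMod 19) : V q N :=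
  ⟨fun x => (if x = 0 then w else 0) - (if x = 1 then w else 0), by
    show ∑ x : ZMod q, _ = 0
    rw [Finset.sum_sub_distrib, Finset.sum_ite_eq' Finset.univ (0 : ZMod q),
      Finset.sum_ite_eq' Finset.univ (1 : ZMod q)]
    simp⟩

theorem emb_injective (q N : ℕ) [Fact q.Prime] : Function.Injective (emb q N) := fun w w' h => by
  have := congrArg (fun f : V q N => f.1 0) h
  simpa [emb] using this

theorem exists_19 {q N : ℕ} [Fact q.Prime] : ∃ g : F q N, orderOf g = 19 := by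
  haveI : Fact (Nat.Prime 19) := ⟨by norm_num⟩
  set g : F q N := SemidirectProduct.inl (Multiplicative.ofAdd (emb q N fun _ => 1))
  refine ⟨g, orderOf_eq_prime (pow_of_eq g rfl) fun h => ?_⟩
  have h1 : emb q N (fun _ => (1 : ZMod 19)) = emb q N 0 := by
    have h0 : emb q N 0 = 0 := Subtype.ext (funext fun x => by simp [emb])
    rw [h0]
    exact congrArg (fun g : F q N => g.left.toAdd) h
  exact one_ne_zero (congrFun (emb_injective q N h1) 0)

theorem card_F (q N : ℕ) [Fact q.Prime] : N < Nat.card (F q N) := by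
  have h1 : Function.Injective fun w : Fin (N + 1) → ZMod 19 =>
      (SemidirectProduct.inl (Multiplicative.ofAdd (emb q N w)) : F q N) :=
    SemidirectProduct.inl_injective.comp (Multiplicative.ofAdd.injective.comp (emb_injective q N))
  refine lt_of_lt_of_le ?_ (Nat.card_le_card_of_injective _ h1)
  rw [Nat.card_eq_fintype_card, Fintype.card_fun, ZMod.card, Fintype.card_fin]
  exact lt_trans (Nat.lt_succ_self N) (Nat.lt_pow_self (by norm_num))

theorem dvd_lcm_gcd {d a b : ℕ} (ha : a ≠ 0) (hb : b ≠ 0) (hd : d ≠ 0) (h : d ∣ Nat.lcm a b) :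
    d ∣ Nat.lcm (Nat.gcd d a) (Nat.gcd d b) := by
  have hga : Nat.gcd d a ≠ 0 := Nat.gcd_ne_zero_right ha
  have hgb : Nat.gcd d b ≠ 0 := Nat.gcd_ne_zero_right hb
  have hl : Nat.lcm a b ≠ 0 := Nat.lcm_ne_zero ha hb
  have h1 := (Nat.factorization_le_iff_dvd hd hl).2 h
  refine (Nat.factorization_le_iff_dvd hd (Nat.lcm_ne_zero hga hgb)).1 fun p => ?_
  have h2 := h1 p
  rw [Nat.factorization_lcm ha hb, Finsupp.sup_apply] at h2
  rw [Nat.factorization_lcm hga hgb, Finsupp.sup_apply, Nat.factorization_gcd hd ha, Nat.factorization_gcd hd hb,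
    Finsupp.inf_apply, Finsupp.inf_apply, ← inf_sup_left]
  exact le_inf le_rfl h2

/-- The orders in a product, from bounds on the orders in the factors. -/
theorem range_prod {A B : Type*} [Group A] [Group B] {SA SB : Set ℕ}
    (hA : Set.range (orderOf : A → ℕ) = {d | ∃ n ∈ SA, d ∣ n})
    (hB : Set.range (orderOf : B → ℕ) = {d | ∃ n ∈ SB, d ∣ n}) (h0A : 0 ∉ SA) (h0B : 0 ∉ SB) :
    Set.range (orderOf : A × B → ℕ) = {d | ∃ n ∈ Set.image2 Nat.lcm SA SB, d ∣ n} := by
  ext d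
  constructor
  · rintro ⟨⟨a, b⟩, rfl⟩
    obtain ⟨n, hn, h1⟩ := hA.le ⟨a, rfl⟩
    obtain ⟨m, hm, h2⟩ := hB.le ⟨b, rfl⟩
    exact ⟨_, Set.mem_image2_of_mem hn hm, by rw [Prod.orderOf]; exact Nat.lcm_dvd (h1.trans (Nat.dvd_lcm_left n m)) (h2.trans (Nat.dvd_lcm_right n m))⟩
  · rintro ⟨_, ⟨n, hn, m, hm, rfl⟩, hd⟩
    have hn0 : n ≠ 0 := fun h => h0A (h ▸ hn)
    have hm0 : m ≠ 0 := fun h => h0B (h ▸ hm)
    have hd0 : d ≠ 0 := fun h => Nat.lcm_ne_zero hn0 hm0 (Nat.eq_zero_of_zero_dvd (h ▸ hd))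
    obtain ⟨a, ha⟩ := hA.ge ⟨n, hn, Nat.gcd_dvd_right d n⟩
    obtain ⟨b, hb⟩ := hB.ge ⟨m, hm, Nat.gcd_dvd_right d m⟩
    refine ⟨(a, b), ?_⟩
    rw [Prod.orderOf, ha, hb]
    exact Nat.dvd_antisymm (Nat.lcm_dvd (Nat.gcd_dvd_left _ _) (Nat.gcd_dvd_left _ _))
      (dvd_lcm_gcd hn0 hm0 hd0 hd)

theorem range_of_bound {A : Type*} [Group A] [Finite A] {S : List ℕ} (h1 : ∀ g : A, ∃ n ∈ S, orderOf g ∣ n)
    (h2 : ∀ n ∈ S, ∃ g : A, orderOf g = n) :
    Set.range (orderOf : A → ℕ) = {d | ∃ n ∈ {n | n ∈ S}, d ∣ n} := by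
  ext d
  constructor
  · rintro ⟨g, rfl⟩; exact h1 g
  · rintro ⟨n, hn, hd⟩
    obtain ⟨g, rfl⟩ := h2 n hn
    exact ⟨g ^ (orderOf g / d), orderOf_pow_orderOf_div (orderOf_pos g).ne' hd⟩

theorem image2_list (f : ℕ → ℕ → ℕ) (S T : List ℕ) :
    Set.image2 f {n | n ∈ S} {n | n ∈ T} = {n | n ∈ (S ×ˢ T).map fun p => f p.1 p.2} := by
  ext n
  simp only [Set.mem_image2, Set.mem_ofPred_eq, List.mem_map, Prod.exists, List.mem_product]
  exact ⟨fun ⟨a, ha, b, hb, e⟩ => ⟨a, b, ⟨ha, hb⟩, e⟩, fun ⟨a, b, ⟨ha, hb⟩, e⟩ => ⟨a, ha, b, hb, e⟩⟩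

/-- The possible maximal element orders of a direct product. -/
def comb (S T : List ℕ) : List ℕ := ((S ×ˢ T).map fun p => Nat.lcm p.1 p.2).dedup

theorem range_prod_list {A B : Type*} [Group A] [Group B] {S T : List ℕ}
    (hA : Set.range (orderOf : A → ℕ) = {d | ∃ n ∈ {n | n ∈ S}, d ∣ n})
    (hB : Set.range (orderOf : B → ℕ) = {d | ∃ n ∈ {n | n ∈ T}, d ∣ n}) (hS : 0 ∉ S) (hT : 0 ∉ T) :
    Set.range (orderOf : A × B → ℕ) = {d | ∃ n ∈ {n | n ∈ comb S T}, d ∣ n} := by
  rw [range_prod hA hB hS hT, image2_list]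
  simp only [comb, List.mem_dedup]

def LJ : List ℕ := [6, 7, 10, 11, 15, 19]

/-- Let J be the first Janko group. Then there are finite groups of arbitrarily large order with exactly the same set of element orders as J × J × J × J. -/
theorem result (N : ℕ) : ∃ (H : Type) (_ : Group H) (_ : Fintype H), N < Fintype.card H ∧
      Set.range (orderOf : H → ℕ) = Set.range (orderOf : ↥Cfsg.Spor.J1 × ↥Cfsg.Spor.J1 × ↥Cfsg.Spor.J1 × ↥Cfsg.Spor.J1 → ℕ) := by
  haveI : Fact (Nat.Prime 2) := ⟨by norm_num⟩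
  haveI : Fact (Nat.Prime 3) := ⟨by norm_num⟩
  haveI : Fact (Nat.Prime 5) := ⟨by norm_num⟩
  haveI : Fact (Nat.Prime 7) := ⟨by norm_num⟩
  haveI : Fact (Nat.Prime 11) := ⟨by norm_num⟩
  letI : Fintype (F 2 N × F 3 N × F 5 N × F 7 N × F 11 N) := Fintype.ofFinite _
  refine ⟨F 2 N × F 3 N × F 5 N × F 7 N × F 11 N, inferInstance, inferInstance, ?_, ?_⟩
  · rw [← Nat.card_eq_fintype_card, Nat.card_prod]
    refine lt_of_lt_of_le (card_F 2 N) (Nat.le_mul_of_pos_right _ ?_)
    exact Nat.card_pos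
  have hJ : Set.range (orderOf : ↥Cfsg.Spor.J1 → ℕ) = {d | ∃ n ∈ {n | n ∈ LJ}, d ∣ n} :=
    range_of_bound CfsgLib.J1.orderOf_dvd fun n hn => CfsgLib.J1.exists_order hn
  have hF : ∀ (q : ℕ) [Fact q.Prime],
      Set.range (orderOf : F q N → ℕ) = {d | ∃ n ∈ {n | n ∈ [q, 19]}, d ∣ n} := fun q _ =>
    range_of_bound orderOf_dvd_F fun n hn => by
      simp only [List.mem_cons, List.not_mem_nil, or_false] at hn
      rcases hn with rfl | rfl
      · exact exists_q
      · exact exists_19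
  have hLJ : (0 : ℕ) ∉ LJ := by decide +kernel
  have hJ2 := range_prod_list hJ hJ hLJ hLJ
  have hJ20 : (0 : ℕ) ∉ comb LJ LJ := by decide +kernel
  have hJ3 := range_prod_list hJ hJ2 hLJ hJ20
  have hJ30 : (0 : ℕ) ∉ comb LJ (comb LJ LJ) := by decide +kernel
  have hJ4 := range_prod_list hJ hJ3 hLJ hJ30
  have g5 : (0 : ℕ) ∉ comb [7, 19] [11, 19] := by decide +kernel
  have g3 : (0 : ℕ) ∉ comb [5, 19] (comb [7, 19] [11, 19]) := by decide +kernel
  have g2 : (0 : ℕ) ∉ comb [3, 19] (comb [5, 19] (comb [7, 19] [11, 19])) := by decide +kernel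
  have hF45 := range_prod_list (hF 7) (hF 11) (by decide +kernel) (by decide +kernel)
  have hF345 := range_prod_list (hF 5) hF45 (by decide +kernel) g5
  have hF2345 := range_prod_list (hF 3) hF345 (by decide +kernel) g3
  have hF12345 := range_prod_list (hF 2) hF2345 (by decide +kernel) g2
  refine hF12345.trans (Eq.trans ?_ hJ4.symm)
  have h1 : ∀ n ∈ comb [2, 19] (comb [3, 19] (comb [5, 19] (comb [7, 19] [11, 19]))),
      ∃ m ∈ comb LJ (comb LJ (comb LJ LJ)), n ∣ m := by decide +kernel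
  have h2 : ∀ n ∈ comb LJ (comb LJ (comb LJ LJ)),
      ∃ m ∈ comb [2, 19] (comb [3, 19] (comb [5, 19] (comb [7, 19] [11, 19]))), n ∣ m := by decide +kernel
  ext d
  exact ⟨fun ⟨n, hn, hd⟩ => let ⟨m, hm, h⟩ := h1 n hn; ⟨m, hm, hd.trans h⟩,
    fun ⟨n, hn, hd⟩ => let ⟨m, hm, h⟩ := h2 n hn; ⟨m, hm, hd.trans h⟩⟩

end Cfsg.Agent.S3627
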