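import Cfsg.Statements.S3639
import Cfsg.Agent.Lib.Derangements.SuzukiFixed

set_option linter.style.haveILetI false

set_option autoImplicit false
open Cfsg

namespace Cfsg.Agent.S3639

/-- Diagonal action on copies of the natural module of a linear group. -/
def act {S F ι : Type*} [Group S] [Field F] [Fintype ι] [DecidableEq ι] (ρ : S →* GL ι F) (N : ℕ) :
    S →* MulAut (Multiplicative (Fin N → ι → F)) :=
  MonoidHom.mk' (fun s => AddEquiv.toMultiplicative
    { toFun := fun v i => (ρ s).1.mulVec (v i)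
      invFun := fun v i => ((ρ s)⁻¹).1.mulVec (v i)
      left_inv := fun v => funext fun i => by
        show ((ρ s)⁻¹).1.mulVec ((ρ s).1.mulVec (v i)) = v i
        rw [Matrix.mulVec_mulVec, Units.inv_mul, Matrix.one_mulVec]
      right_inv := fun v => funext fun i => by
        show (ρ s).1.mulVec (((ρ s)⁻¹).1.mulVec (v i)) = v i
        rw [Matrix.mulVec_mulVec, Units.mul_inv, Matrix.one_mulVec]
      map_add' := fun v w => funext fun i => Matrix.mulVec_add _ _ _ })
    (fun s t => by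
      refine MulEquiv.ext fun v => ?_
      apply Multiplicative.toAdd.injective
      funext i
      show (ρ (s * t)).1.mulVec (Multiplicative.toAdd v i) =
        (ρ s).1.mulVec ((ρ t).1.mulVec (Multiplicative.toAdd v i))
      rw [Matrix.mulVec_mulVec, map_mul, Units.val_mul])

/-- Let S be the Suzuki group over the field with q = 2^(2m+1) ≥ 8 elements. Then there are finite groups of arbitrarily large order with the same prime graph as S. -/
theorem result {F : Type*} [Field F] [Fintype F] {m : ℕ} (hm : 1 ≤ m) (hF : Fintype.card F = 2 ^ (2 * m + 1)) (N : ℕ) :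
    ∃ (H : Type) (_ : Group H) (_ : Fintype H), N < Fintype.card H ∧ ((∀ r : ℕ, r.Prime → (r ∣ Nat.card ↥(Cfsg.Lie.Sz F (2 ^ (m + 1))) ↔ r ∣ Nat.card H)) ∧
      (∀ r s : ℕ, r.Prime → s.Prime → r ≠ s → ((∃ x : ↥(Cfsg.Lie.Sz F (2 ^ (m + 1))), orderOf x = r * s) ↔ (∃ y : H, orderOf y = r * s)))) := by
  classical
  have he := CfsgLib.KnownB.SzElem.twist_of_card hF
  have h2 : (2 : F) = 0 := he.two
  let W := Multiplicative (Fin N → Fin 4 → F)
  let S := ↥(Cfsg.Lie.Sz F (2 ^ (m + 1)))
  let H₀ := W ⋊[act (F := F) (Subgroup.subtype (Cfsg.Lie.Sz F (2 ^ (m + 1)))) N] S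
  haveI : Finite H₀ := Finite.of_equiv _ SemidirectProduct.equivProd.symm
  obtain ⟨H, hH, hfin, ⟨e⟩⟩ := Finite.exists_type_univ_nonempty_mulEquiv.{_, 0} H₀
  letI := Fintype.ofFinite H
  have hW : ∀ w : W, w ^ 2 = 1 := fun w => by
    apply Multiplicative.toAdd.injective
    funext i j
    show (2 • Multiplicative.toAdd w) i j = 0
    rw [Pi.smul_apply, Pi.smul_apply, two_nsmul, ← two_mul, h2, zero_mul]
  have hfpf : ∀ (s : S) (q : ℕ), q.Prime → q ≠ 2 → orderOf s = q →
      ∀ w, act (F := F) (Subgroup.subtype (Cfsg.Lie.Sz F (2 ^ (m + 1)))) N s w = w → w = 1 := by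
    intro s q hq hq2 hs w hw
    by_contra hne
    obtain ⟨i, hi⟩ : ∃ i, Multiplicative.toAdd w i ≠ 0 := by
      by_contra hcon
      push Not at hcon
      exact hne (Multiplicative.toAdd.injective (funext hcon))
    have h' := congrFun (congrArg Multiplicative.toAdd hw) i
    have := orderOf_dvd_of_pow_eq_one (CfsgLib.Derangements.SuzukiFixed.pow_four_of_fixed he s _ hi h')
    rw [hs] at this
    exact hq2 ((Nat.prime_dvd_prime_iff_eq hq Nat.prime_two).1 (hq.dvd_of_dvd_pow (show q ∣ 2 ^ 2 from this)))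
  haveI : Fact (Nat.Prime 2) := ⟨Nat.prime_two⟩
  have hS2 : 2 ∣ Nat.card S := by
    rw [CfsgLib.KnownB.Suzuki.card_Sz he]
    refine dvd_mul_of_dvd_left (dvd_mul_of_dvd_left ?_ _) _
    rw [hF, ← pow_mul]
    exact dvd_pow_self 2 (by omega)
  refine ⟨H, hH, Fintype.ofFinite H, ?_, fun r hr => ?_, fun r s hr hs hrs => ?_⟩
  · rw [← Nat.card_eq_fintype_card, ← Nat.card_congr e.toEquiv, SemidirectProduct.card]
    have h1 : 2 ^ N ≤ Nat.card W := by
      rw [show Nat.card W = Nat.card (Fin N → Fin 4 → F) from rfl, Nat.card_fun]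
      simp only [Nat.card_eq_fintype_card, Fintype.card_fin]
      exact Nat.pow_le_pow_left (Fintype.one_lt_card (α := Fin 4 → F)) N
    calc N < 2 ^ N := Nat.lt_two_pow_self
      _ ≤ Nat.card W := h1
      _ ≤ _ := Nat.le_mul_of_pos_right _ Nat.card_pos
  · rw [← Nat.card_congr e.toEquiv,
      CfsgLib.Derangements.PrimeGraphExt.prime_dvd_iff _ hW hS2 r hr]
  · rw [← CfsgLib.Derangements.PrimeGraphExt.edge_iff _ Nat.prime_two hW hfpf r s hr hs hrs]
    constructor
    · rintro ⟨g, hg⟩; exact ⟨e g, by rw [e.orderOf_eq, hg]⟩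
    · rintro ⟨g, hg⟩; exact ⟨e.symm g, by rw [e.symm.orderOf_eq, hg]⟩

end Cfsg.Agent.S3639
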