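import Cfsg.Statements.S3643
import Cfsg.Agent.Lib.KGroups.M12Graph
import Cfsg.Agent.Lib.KGroups.M12Count
import Cfsg.Agent.S3592
import Cfsg.Agent.S0421

set_option autoImplicit false
open Cfsg

namespace Cfsg.Agent.S3643

/-- Let G be a finite group of the same order as the Mathieu group M₁₂ whose character degree graph equals that of M₁₂ (same primes dividing some irreducible complex character degree, same pairs of distinct primes whose product divides some degree). Then G is isomorphic to M₁₂ or to the direct product of the alternating group of degree 4 with M₁₁. -/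
theorem result {G : Type*} [Group G] [Finite G] (hcard : Nat.card G = Nat.card ↥Cfsg.Spor.M12) (hΔ : Cfsg.degreePrimes G = Cfsg.degreePrimes ↥Cfsg.Spor.M12 ∧ Cfsg.degreeGraph G = Cfsg.degreeGraph ↥Cfsg.Spor.M12) :
    Nonempty (G ≃* ↥Cfsg.Spor.M12) ∨ Nonempty (G ≃* alternatingGroup (Fin 4) × ↥Cfsg.Spor.M11) := by
  obtain ⟨hs, hc⟩ := CfsgLib.KGroups.M12Count.simple_card
  obtain ⟨hs11, hc11⟩ := Cfsg.Agent.S3592.simple_card
  haveI := hs
  haveI := hs11
  cases nonempty_fintype ↥Cfsg.Spor.M12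
  obtain ⟨⟨χ, hχ⟩, ψ, hψ⟩ := CfsgLib.KGroups.M12Graph.exists_degrees hc
  have hadj : ∀ p q : ℕ, p ≠ q → p.Prime → q.Prime → (∃ d ∈ Cfsg.charDegrees ↥Cfsg.Spor.M12, p * q ∣ d) →
      ∃ θ : IrrCharacter G, p * q ∣ charDegree (θ : G → ℂ) := fun p q hne hp hq h => by
    have hA : (Cfsg.degreeGraph G).Adj p q := by rw [hΔ.2]; exact ⟨hne, hp, hq, h⟩
    obtain ⟨-, -, -, _, ⟨θ, rfl⟩, hd⟩ := hA
    exact ⟨θ, hd⟩
  have h55 := hadj 5 11 (by norm_num) (by norm_num) (by norm_num) ⟨55, ⟨χ, hχ⟩, dvd_refl _⟩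
  have h33 := hadj 3 11 (by norm_num) (by norm_num) (by norm_num) ⟨66, ⟨ψ, hψ⟩, by norm_num⟩
  rcases CfsgLib.KGroups.M12Graph.classify (hcard.trans hc) h55 hc11 h33 with h | h
  · left
    obtain ⟨e⟩ := Cfsg.Agent.S0421.result (G := G) ⟨h, hcard.trans hc⟩ Cfsg.Spor.squareDodecad
      CfsgLib.KGroups.M12Count.square_mem
    exact ⟨e.trans CfsgLib.KGroups.M12Count.equivStab⟩
  · exact Or.inr h

end Cfsg.Agent.S3643
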