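import Cfsg.Statements.S3660
import Cfsg.Agent.Lib.Derangements.PrimeGraphExt
import Cfsg.Agent.Lib.Classical.SL2Sylow

set_option linter.style.haveILetI false

set_option autoImplicit false
open Cfsg

namespace Cfsg.Agent.S3660

/-- The prime graph of a finite group has the prime divisors of its order as vertices, two distinct primes p, q being joined when the group has an element of order pq; two groups have the same prime graph when they have the same prime divisors and the same joined pairs. Let F be a finite field of characteristic 2 with at least 4 elements. Then there are finite groups of arbitrarily large order with the same prime graph as PSL(2,F); in particular PSL(2,F) is not determined by its prime graph. -/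
theorem result {F : Type*} [Field F] [Fintype F] [CharP F 2] (hF : 4 ≤ Fintype.card F) (N : ℕ) :
    ∃ (H : Type) (_ : Group H) (_ : Finite H), N < Nat.card H ∧
      ((∀ p : ℕ, p.Prime → (p ∣ Nat.card (Matrix.ProjectiveSpecialLinearGroup (Fin 2) F) ↔ p ∣ Nat.card H)) ∧
      (∀ p q : ℕ, p.Prime → q.Prime → p ≠ q → ((∃ g : (Matrix.ProjectiveSpecialLinearGroup (Fin 2) F), orderOf g = p * q) ↔ (∃ g : H, orderOf g = p * q)))) := by
  have hbot : Subgroup.center (Matrix.SpecialLinearGroup (Fin 2) F) = ⊥ := by
    rw [← Subgroup.card_eq_one, CfsgLib.Classical.card_center_sl 2 (by norm_num)]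
    obtain ⟨k, hk⟩ := FiniteField.card F 2
    rw [Nat.coprime_two_left.2]
    rw [hk.2]
    exact Nat.Even.sub_odd Nat.one_le_two_pow (Nat.even_pow.2 ⟨even_two, k.ne_zero⟩) odd_one
  let e : Matrix.ProjectiveSpecialLinearGroup (Fin 2) F ≃* Matrix.SpecialLinearGroup (Fin 2) F :=
    (QuotientGroup.quotientMulEquivOfEq hbot).trans QuotientGroup.quotientBot
  refine CfsgLib.Derangements.PrimeGraphExt.exists_same_graph N ?_ (fun p _ => by
    rw [Nat.card_congr e.toEquiv]) fun p q _ _ _ => ?_
  · rw [CfsgLib.Classical.card_sl2 rfl]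
    obtain ⟨k, hk⟩ := FiniteField.card F 2
    exact dvd_mul_of_dvd_left (hk.2 ▸ dvd_pow_self 2 k.ne_zero) _
  · exact ⟨fun ⟨g, hg⟩ => ⟨e g, by rw [e.orderOf_eq, hg]⟩,
      fun ⟨g, hg⟩ => ⟨e.symm g, by rw [e.symm.orderOf_eq, hg]⟩⟩

end Cfsg.Agent.S3660
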