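import Cfsg.Statements.S3662
import Cfsg.Agent.Lib.G2Graph.Model
import Cfsg.Agent.Lib.Chevalley.Data.SmithCerts
import Cfsg.Agent.Lib.Chevalley.Data.StCerts
import Cfsg.Agent.Lib.Chevalley.Data.Steps
import Cfsg.Agent.Lib.Chevalley.Data.G2Comm
import Cfsg.Agent.Lib.Chevalley.Orders
import Cfsg.Agent.Lib.Chevalley.SteinbergTorus
import Mathlib.GroupTheory.Sylow
import Mathlib.GroupTheory.SemidirectProduct
-- import your own Cfsg.Agent.* helpers here

set_option autoImplicit false
open Cfsg

namespace Cfsg.Agent.S3662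

open CfsgLib.Chevalley CfsgLib.G2Graph

theorem stOk : Data.G2.tbl.StOk :=
  ⟨Data.G2.valid, Data.G2.chkComm, Data.G2.chkSorted, Data.G2.chkSplit⟩

theorem exists_iso {F : Type*} [Field F] (D : Cfsg.Lie.ChevalleyDatum) (hD : Data.G2.tbl.datum = D) :
    Nonempty (D.SteinbergGroup F ≃* ↥(D.group F)) := by
  subst hD
  refine ⟨MulEquiv.ofBijective (Tbl.stProj stOk) ⟨?_, Tbl.stProj_surjective stOk⟩⟩
  rw [← MonoidHom.ker_eq_bot_iff, Tbl.stProj_ker stOk]
  exact Tbl.center_eq_bot stOk (Tbl.torusHom_injective_of_smith Data.G2.valid Data.G2.chkSmith (by decide))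

theorem card_L {F : Type*} [Field F] [Fintype F] (hF : Fintype.card F = 4) :
    Nat.card ↥(Cfsg.Lie.chevG2.group F) = 251596800 := by
  have h := Tbl.group_order Data.G2.valid Data.G2.chkComm hF
    Data.G2.chkSmith Data.G2.steps_length Data.G2.chkSteps Data.G2.Reps.chkPoly_reps
  rw [Data.G2.datum_eq, show Data.G2.tbl.rank = 2 from rfl] at h
  simp [show Data.G2.tbl.half = 6 from rfl, Fin.prod_univ_succ] at h
  omega

theorem chk6 : evX (wPow [(4, 2), (6, 3), (5, 2)] 6) = ident ∧
    (∃ i j : Fin 12, (evX (wPow [(4, 2), (6, 3), (5, 2)] 3)).testBit (12 * i.val + j.val) ≠ decide (i = j)) ∧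
    (∃ i j : Fin 12, (evX (wPow [(4, 2), (6, 3), (5, 2)] 2)).testBit (12 * i.val + j.val) ≠ decide (i = j)) := by
  decide +kernel

theorem chk10 : evX (wPow [(7, 2), (4, 1), (6, 3)] 10) = ident ∧
    (∃ i j : Fin 12, (evX (wPow [(7, 2), (4, 1), (6, 3)] 5)).testBit (12 * i.val + j.val) ≠ decide (i = j)) ∧
    (∃ i j : Fin 12, (evX (wPow [(7, 2), (4, 1), (6, 3)] 2)).testBit (12 * i.val + j.val) ≠ decide (i = j)) := by
  decide +kernel

theorem chk7 : evX (wPow [(4, 1), (6, 3), (7, 1), (5, 2)] 7) = ident ∧ sumX [(4, 1), (6, 3), (7, 1), (5, 2)] 7 = 0 ∧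
    (∃ i j : Fin 12, (evX [(4, 1), (6, 3), (7, 1), (5, 2)]).testBit (12 * i.val + j.val) ≠ decide (i = j)) ∧
    (∀ p ∈ ([(4, 1), (6, 3), (7, 1), (5, 2)] : List (ℕ × ℕ)), p.2 < 4) := by
  decide +kernel

theorem chk13 : evX (wPow [(6, 2), (5, 1), (7, 1), (4, 3)] 13) = ident ∧ sumX [(6, 2), (5, 1), (7, 1), (4, 3)] 13 = 0 ∧
    (∃ i j : Fin 12, (evX [(6, 2), (5, 1), (7, 1), (4, 3)]).testBit (12 * i.val + j.val) ≠ decide (i = j)) ∧
    (∀ p ∈ ([(6, 2), (5, 1), (7, 1), (4, 3)] : List (ℕ × ℕ)), p.2 < 4) := by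
  decide +kernel

/-- An element of order exactly `n` from one whose image has order `n`. -/
theorem exists_of_image {L M' : Type*} [Group L] [Finite L] [Group M'] (f : L →* M') (g : L) {n : ℕ}
    (h : orderOf (f g) = n) : ∃ y : L, orderOf y = n := by
  have hd : n ∣ orderOf g := h ▸ orderOf_map_dvd f g
  exact ⟨g ^ (orderOf g / n), orderOf_pow_orderOf_div (orderOf_pos g).ne' hd⟩

theorem orderOf_two_primes {G : Type*} [Group G] {x : G} {a b : ℕ} (ha : a.Prime) (hb : b.Prime)
    (h : x ^ (a * b) = 1) (h1 : x ^ a ≠ 1) (h2 : x ^ b ≠ 1) : orderOf x = a * b := by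
  obtain ⟨i, j, hi, hj, e⟩ := exists_dvd_and_dvd_of_dvd_mul (orderOf_dvd_of_pow_eq_one h)
  rcases (Nat.dvd_prime ha).mp hi with rfl | rfl
  · exact absurd (orderOf_dvd_iff_pow_eq_one.mp (by rw [e, one_mul]; exact hj)) h2
  · rcases (Nat.dvd_prime hb).mp hj with rfl | rfl
    · exact absurd (orderOf_dvd_iff_pow_eq_one.mp (by rw [e, mul_one])) h1
    · exact e

/-- If a prime divides the order of `G` just once, and one element with image of that order has an image
without fixed points, then so has every element of that order. -/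
theorem fixed_eq_zero_all {G : Type*} [Group G] [Finite G] {q : ℕ} [Fact q.Prime] (hq2 : ¬ q ^ 2 ∣ Nat.card G)
    (f : G →* CfsgLib.G2Graph.M) (g : G) (hg1 : f g ≠ 1) (hgq : f g ^ q = 1)
    (hfix : ∀ v : V, ((f g : CfsgLib.G2Graph.M) : Module.End (ZMod 2) V) v = v → v = 0)
    {x : G} (hx : orderOf x = q) {v : V}
    (hv : ((f x : CfsgLib.G2Graph.M) : Module.End (ZMod 2) V) v = v) : v = 0 := by
  classical
  have hp : q.Prime := Fact.out
  have hord : orderOf (f g) = q := orderOf_eq_prime hgq hg1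
  have hdvd : q ∣ orderOf g := hord ▸ orderOf_map_dvd f g
  obtain ⟨m, hm⟩ := hdvd
  have hmq : ¬ q ∣ m := fun h => hq2 (dvd_trans
    (by rw [pow_two, hm]; exact mul_dvd_mul_left q h) (orderOf_dvd_natCard g))
  have hy : orderOf (g ^ m) = q := by
    have h := orderOf_pow_orderOf_div (orderOf_pos g).ne' (Dvd.intro m hm.symm : q ∣ orderOf g)
    rwa [hm, Nat.mul_div_cancel_left m hp.pos] at h
  have hP : ∀ z : G, orderOf z = q → ∃ P : Sylow q G, (P : Subgroup G) = Subgroup.zpowers z := by
    intro z hz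
    have hzp : IsPGroup q (Subgroup.zpowers z) := IsPGroup.of_card (n := 1) (by rw [Nat.card_zpowers, hz, pow_one])
    obtain ⟨P, hP⟩ := hzp.exists_le_sylow
    refine ⟨P, (Subgroup.eq_of_le_of_card_ge hP ?_).symm⟩
    obtain ⟨k, hk⟩ := IsPGroup.iff_card.mp P.isPGroup'
    rw [Nat.card_zpowers, hz, hk]
    rcases Nat.lt_or_ge k 2 with hk2 | hk2
    · interval_cases k
      · rw [pow_zero]; exact hp.one_le
      · rw [pow_one]
    · exact absurd ((pow_dvd_pow q hk2).trans (hk ▸ Subgroup.card_subgroup_dvd_card _)) hq2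
  obtain ⟨P, hP1⟩ := hP x hx
  obtain ⟨Q, hQ1⟩ := hP _ hy
  obtain ⟨c, hc⟩ := MulAction.exists_smul_eq G Q P
  have hxm : x ∈ (P : Subgroup G) := hP1 ▸ Subgroup.mem_zpowers x
  rw [← hc, Sylow.coe_subgroup_smul, Subgroup.mem_pointwise_smul_iff_inv_smul_mem, hQ1,
    mem_zpowers_iff_mem_range_orderOf] at hxm
  simp only [Finset.mem_image, Finset.mem_range, MulAut.smul_def, MulAut.inv_apply,
    MulAut.conj_symm_apply] at hxm
  obtain ⟨k, hk, hkx⟩ := hxm
  rw [hy] at hk
  have hk0 : k ≠ 0 := by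
    rintro rfl
    rw [pow_zero] at hkx
    have : x = 1 := by
      calc x = c * (c⁻¹ * x * c) * c⁻¹ := by group
        _ = 1 := by rw [← hkx]; group
    rw [this, orderOf_one] at hx
    exact hp.one_lt.ne hx
  have hcop : Nat.Coprime (m * k) q :=
    (hp.coprime_iff_not_dvd.mpr fun h => (hp.dvd_mul.mp h).elim hmq
      (Nat.not_dvd_of_pos_of_lt (Nat.pos_of_ne_zero hk0) hk)).symm
  set u := ((f c⁻¹ : CfsgLib.G2Graph.M) : Module.End (ZMod 2) V) v with hu
  have e1 : f (g ^ (m * k)) = f c⁻¹ * f x * f c := by rw [pow_mul, hkx, map_mul, map_mul]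
  have e2 : f c * f c⁻¹ = 1 := by rw [← map_mul, mul_inv_cancel, map_one]
  have e3 : ((f c : CfsgLib.G2Graph.M) : Module.End (ZMod 2) V) u = v := by
    rw [hu, ← Module.End.mul_apply, ← Units.val_mul, e2]; rfl
  have hfx : ((f g ^ (m * k) : CfsgLib.G2Graph.M) : Module.End (ZMod 2) V) u = u := by
    rw [← map_pow, e1, Units.val_mul, Units.val_mul, Module.End.mul_apply, Module.End.mul_apply, e3, hv]
  have hpw : ∀ n : ℕ, (((f g ^ (m * k)) ^ n : CfsgLib.G2Graph.M) : Module.End (ZMod 2) V) u = u := fun n => by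
    induction n with
    | zero => rfl
    | succ n ih => rw [pow_succ, Units.val_mul, Module.End.mul_apply, hfx, ih]
  obtain ⟨a, ha⟩ := exists_pow_eq_self_of_coprime (x := f g) (n := m * k) (by rwa [hord])
  have hg' := hpw a
  rw [ha] at hg'
  have hu0 := hfix u hg'
  rw [← e3, hu0, map_zero]

/-- The action on the coordinatewise sum. -/
def act {G : Type*} [Group G] (f : G →* CfsgLib.G2Graph.M) (N : ℕ) :
    G →* MulAut (Multiplicative (Fin N → V)) where
  toFun x :=
    { toFun := fun v => Multiplicative.ofAdd fun k => ((f x : CfsgLib.G2Graph.M) : Module.End (ZMod 2) V) (v.toAdd k)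
      invFun := fun v => Multiplicative.ofAdd fun k => ((f x⁻¹ : CfsgLib.G2Graph.M) : Module.End (ZMod 2) V) (v.toAdd k)
      left_inv := fun v => by
        have e : f x⁻¹ * f x = 1 := by rw [← map_mul, inv_mul_cancel, map_one]
        apply Multiplicative.toAdd.injective
        funext k
        simp [← Module.End.mul_apply, ← Units.val_mul]
      right_inv := fun v => by
        have e : f x * f x⁻¹ = 1 := by rw [← map_mul, mul_inv_cancel, map_one]
        apply Multiplicative.toAdd.injective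
        funext k
        simp [← Module.End.mul_apply, ← Units.val_mul]
      map_mul' := fun u v => by
        apply Multiplicative.toAdd.injective
        funext k
        simp }
  map_one' := by ext; simp
  map_mul' x y := by ext; simp


/-- The prime graph of a finite group has the prime divisors of its order as vertices, two distinct primes p, q being joined when the group has an element of order pq; two groups have the same prime graph when they have the same prime divisors and the same joined pairs. Let F be the field with 4 elements and L the Chevalley group of type G₂ over F. There are finite groups of arbitrarily large order with the same prime graph as L. -/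
theorem result {F : Type*} [Field F] [Fintype F] (hF : Fintype.card F = 4) (N : ℕ) :
    ∃ (H : Type) (_ : Group H) (_ : Finite H), N < Nat.card H ∧
      ((∀ p : ℕ, p.Prime → (p ∣ Nat.card ↥(Cfsg.Lie.chevG2.group F) ↔ p ∣ Nat.card H)) ∧
      (∀ p q : ℕ, p.Prime → q.Prime → p ≠ q → ((∃ g : ↥(Cfsg.Lie.chevG2.group F), orderOf g = p * q) ↔ (∃ g : H, orderOf g = p * q)))) := by
  classical
  have hcL := card_L hF
  obtain ⟨π⟩ := exists_iso (F := F) _ Data.G2.datum_eq
  obtain ⟨enc, dec, ρ0, hdec, hρ0⟩ := exists_rep hF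
  have hfinL : Finite ↥(Cfsg.Lie.chevG2.group F) := Nat.finite_of_card_ne_zero (by rw [hcL]; norm_num)
  let L := Shrink.{0} ↥(Cfsg.Lie.chevG2.group F)
  let sh : L ≃* ↥(Cfsg.Lie.chevG2.group F) := Shrink.mulEquiv
  have hcard : Nat.card L = 251596800 := (Nat.card_congr sh.toEquiv).trans hcL
  have hfinS : Finite L := Finite.of_equiv _ sh.symm.toEquiv
  let ρ : L →* CfsgLib.G2Graph.M := ρ0.comp (π.symm.toMonoidHom.comp sh.toMonoidHom)
  have hreal : ∀ w : List (ℕ × ℕ), (∀ p ∈ w, p.2 < 4) → ∃ g : L, ρ g = gW w := by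
    intro w hw
    refine ⟨sh.symm (π (w.map fun p => Cfsg.Lie.chevG2.stGen F p.1 (dec p.2)).prod), ?_⟩
    simp only [ρ, MonoidHom.coe_comp, MulEquiv.coe_toMonoidHom, Function.comp_apply,
      MulEquiv.apply_symm_apply, MulEquiv.symm_apply_apply, map_list_prod, List.map_map]
    rw [gW]
    refine congrArg List.prod (List.map_congr_left fun p hp => ?_)
    simp only [Function.comp_apply, MulEquiv.apply_symm_apply, MulEquiv.symm_apply_apply]
    rw [hρ0, hdec _ (hw p hp)]
    simp [gW]
  have h6 : ∃ y : L, orderOf y = 3 * 2 := by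
    obtain ⟨g, hg⟩ := hreal [(4, 2), (6, 3), (5, 2)] (by decide)
    refine exists_of_image ρ g ?_
    obtain ⟨c1, c2, c3⟩ := chk6
    rw [hg]
    exact orderOf_two_primes (by norm_num) (by norm_num) (by rw [← gW_wPow]; exact gW_eq_one c1)
      (by rw [← gW_wPow]; exact gW_ne_one c2) (by rw [← gW_wPow]; exact gW_ne_one c3)
  have h10 : ∃ y : L, orderOf y = 5 * 2 := by
    obtain ⟨g, hg⟩ := hreal [(7, 2), (4, 1), (6, 3)] (by decide)
    refine exists_of_image ρ g ?_
    obtain ⟨c1, c2, c3⟩ := chk10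
    rw [hg]
    exact orderOf_two_primes (by norm_num) (by norm_num) (by rw [← gW_wPow]; exact gW_eq_one c1)
      (by rw [← gW_wPow]; exact gW_ne_one c2) (by rw [← gW_wPow]; exact gW_ne_one c3)
  have hfree : ∀ q, q = 7 ∨ q = 13 → ∀ x : L, orderOf x = q → ∀ v : V,
      ((ρ x : CfsgLib.G2Graph.M) : Module.End (ZMod 2) V) v = v → v = 0 := by
    rintro q (rfl | rfl) x hx v hv
    · obtain ⟨c1, c2, c3, c4⟩ := chk7
      obtain ⟨g, hg⟩ := hreal _ c4
      haveI : Fact (Nat.Prime 7) := ⟨by norm_num⟩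
      exact fixed_eq_zero_all (by rw [hcard]; norm_num) ρ g (by rw [hg]; exact gW_ne_one c3)
        (by rw [hg, ← gW_wPow]; exact gW_eq_one c1)
        (fun u hu => fixed_eq_zero (by decide) c2 (hg ▸ hu)) hx hv
    · obtain ⟨c1, c2, c3, c4⟩ := chk13
      obtain ⟨g, hg⟩ := hreal _ c4
      haveI : Fact (Nat.Prime 13) := ⟨by norm_num⟩
      exact fixed_eq_zero_all (by rw [hcard]; norm_num) ρ g (by rw [hg]; exact gW_ne_one c3)
        (by rw [hg, ← gW_wPow]; exact gW_eq_one c1)
        (fun u hu => fixed_eq_zero (by decide) c2 (hg ▸ hu)) hx hv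
  let H := SemidirectProduct (Multiplicative (Fin N → V)) L (act ρ N)
  have hcardH : Nat.card H = 2 ^ (12 * N) * 251596800 := by
    rw [SemidirectProduct.card, hcard, Nat.card_congr Multiplicative.toAdd, Nat.card_fun, Nat.card_fun]
    simp [pow_mul]
  refine ⟨H, inferInstance, Nat.finite_of_card_ne_zero (by rw [hcardH]; positivity), ?_, ?_, ?_⟩
  · rw [hcardH]
    calc N < 2 ^ N := Nat.lt_two_pow_self
      _ ≤ 2 ^ (12 * N) := Nat.pow_le_pow_right (by norm_num) (by omega)
      _ ≤ _ := Nat.le_mul_of_pos_right _ (by norm_num)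
  · intro p hp
    rw [hcardH, hcL]
    refine ⟨fun h => h.mul_left _, fun h => ?_⟩
    rcases hp.dvd_mul.mp h with h | h
    · rw [(Nat.prime_dvd_prime_iff_eq hp Nat.prime_two).mp (hp.dvd_of_dvd_pow h)]
      norm_num
    · exact h
  intro p q hp hq hpq
  constructor
  · rintro ⟨g, hg⟩
    refine ⟨SemidirectProduct.inr (sh.symm g), ?_⟩
    rw [orderOf_injective _ SemidirectProduct.inr_injective, MulEquiv.orderOf_eq, hg]
  rintro ⟨h, hh⟩
  suffices ∃ y : L, orderOf y = p * q by
    obtain ⟨y, hy⟩ := this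
    exact ⟨sh y, by rw [MulEquiv.orderOf_eq, hy]⟩
  have key : ∀ p q : ℕ, p.Prime → q.Prime → p ≠ q → orderOf h = p * q → h.right ^ p = 1 →
      ∃ y : L, orderOf y = p * q := by
    clear hp hq hpq hh p q
    intro p q hp hq hpq hh hr
    set v := h ^ p with hv
    have hvr : v.right = 1 := by
      rw [hv, ← hr]; exact map_pow (SemidirectProduct.rightHom (φ := act ρ N)) h p
    have hvo : orderOf v = q := by
      rw [hv, orderOf_pow' _ hp.ne_zero, hh, Nat.gcd_eq_right ⟨q, rfl⟩, Nat.mul_div_cancel_left q hp.pos]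
    have htwo : ∀ z : H, z.right = 1 → z ^ 2 = 1 := by
      intro z hz
      have e : z = SemidirectProduct.inl z.left := by ext <;> simp [hz]
      rw [e, ← map_pow]
      have : z.left ^ 2 = 1 := by
        apply Multiplicative.toAdd.injective
        funext k i
        rw [toAdd_pow, two_nsmul, toAdd_one, Pi.add_apply, Pi.add_apply, CharTwo.add_self_eq_zero]
        rfl
      rw [this, map_one]
    have hq2 : q = 2 := (Nat.prime_dvd_prime_iff_eq hq Nat.prime_two).mp
      (hvo ▸ orderOf_dvd_of_pow_eq_one (htwo v hvr))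
    subst hq2
    set y := h ^ 2 with hy
    have hyo : orderOf y = p := by
      rw [hy, orderOf_pow' _ two_ne_zero, hh, Nat.gcd_eq_right ⟨p, mul_comm _ _⟩, Nat.mul_div_cancel p two_pos]
    have hxo : orderOf y.right = p := by
      haveI : Fact p.Prime := ⟨hp⟩
      refine orderOf_eq_prime ?_ ?_
      · have e := congrArg (SemidirectProduct.rightHom (φ := act ρ N)) (pow_orderOf_eq_one y)
        rw [hyo, map_pow, map_one] at e
        exact e
      · intro he
        have := orderOf_dvd_of_pow_eq_one (htwo y he)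
        rw [hyo] at this
        exact hpq ((Nat.prime_dvd_prime_iff_eq hp Nat.prime_two).mp this)
    have hcomm : y * v = v * y := by rw [hy, hv, ← pow_add, ← pow_add, add_comm]
    have hfixed := congrArg SemidirectProduct.left hcomm
    rw [SemidirectProduct.mul_left, SemidirectProduct.mul_left, hvr, map_one, MulAut.one_apply,
      mul_comm v.left, mul_right_inj] at hfixed
    have hvne : v.left.toAdd ≠ 0 := by
      intro he
      have : v = 1 := by
        ext1
        · exact Multiplicative.toAdd.injective he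
        · exact hvr
      rw [this, orderOf_one] at hvo
      omega
    obtain ⟨k, hk⟩ := Function.ne_iff.mp hvne
    have hfk := congrFun (congrArg Multiplicative.toAdd hfixed) k
    have hpd : p ∣ 2 ^ 12 * 3 ^ 3 * 5 ^ 2 * 7 * 13 := by
      have := orderOf_dvd_natCard y.right
      rw [hxo, hcard] at this
      simpa using this
    have hp2 : p ≠ 2 := hpq
    have hpv : p = 3 ∨ p = 5 ∨ p = 7 ∨ p = 13 := by
      rcases hp.dvd_mul.mp hpd with h | h
      · rcases hp.dvd_mul.mp h with h | h
        · rcases hp.dvd_mul.mp h with h | h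
          · rcases hp.dvd_mul.mp h with h | h
            · exact absurd ((Nat.prime_dvd_prime_iff_eq hp Nat.prime_two).mp (hp.dvd_of_dvd_pow h)) hp2
            · exact Or.inl ((Nat.prime_dvd_prime_iff_eq hp Nat.prime_three).mp (hp.dvd_of_dvd_pow h))
          · exact Or.inr (Or.inl ((Nat.prime_dvd_prime_iff_eq hp Nat.prime_five).mp (hp.dvd_of_dvd_pow h)))
        · exact Or.inr (Or.inr (Or.inl ((Nat.prime_dvd_prime_iff_eq hp (by norm_num)).mp h)))
      · exact Or.inr (Or.inr (Or.inr ((Nat.prime_dvd_prime_iff_eq hp (by norm_num)).mp h)))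
    rcases hpv with rfl | rfl | hp7
    · exact h6
    · exact h10
    · exact absurd (hfree p hp7 _ hxo _ hfk) hk
  have hdiv : orderOf h.right ∣ p * q := hh ▸ orderOf_map_dvd (SemidirectProduct.rightHom (φ := act ρ N)) h
  obtain ⟨i, j, hi, hj, e⟩ := exists_dvd_and_dvd_of_dvd_mul hdiv
  rcases (Nat.dvd_prime hp).mp hi with rfl | rfl
  · rw [mul_comm]
    refine key q p hq hp hpq.symm (by rw [hh, mul_comm]) (orderOf_dvd_iff_pow_eq_one.mp ?_)
    rw [e, one_mul]; exact hj
  · rcases (Nat.dvd_prime hq).mp hj with rfl | rfl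
    · exact key _ q hp hq hpq hh (orderOf_dvd_iff_pow_eq_one.mp (by rw [e, mul_one]))
    · exact ⟨h.right, e⟩

end Cfsg.Agent.S3662
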