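import Cfsg.Agent.Lib.PGroup.U34Elements
import Cfsg.Agent.Lib.PGroup.PrimeGraphExtension

set_option autoImplicit false
open Cfsg

namespace Cfsg.Agent.S3663

open CfsgLib.PGroup

/-- The prime graph of a finite group has the prime divisors of its order as vertices, two distinct primes p, q being joined when the group has an element of order pq; two groups have the same prime graph when they have the same prime divisors and the same joined pairs. Let F be the field with 16 elements and L = PSU(3,4) realised over F. There are finite groups of arbitrarily large order with the same prime graph as L. -/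
theorem result {F : Type*} [Field F] [Fintype F] (hF : Fintype.card F = 16) (N : ℕ) :
    ∃ (H : Type) (_ : Group H) (_ : Finite H), N < Nat.card H ∧
      ((∀ p : ℕ, p.Prime → (p ∣ Nat.card (Cfsg.PSU 3 F 4) ↔ p ∣ Nat.card H)) ∧
      (∀ p q : ℕ, p.Prime → q.Prime → p ≠ q → ((∃ g : (Cfsg.PSU 3 F 4), orderOf g = p * q) ↔ (∃ g : H, orderOf g = p * q)))) := by
  classical
  have : Fact (Fintype.card F = 16) := ⟨hF⟩
  have hF2 : Fintype.card F = 4 ^ 2 := by rw [hF]; norm_num
  have : Fact (∃ σ : F →+* F, (∀ x, σ x = x ^ 4) ∧ CfsgLib.Classical.IsConjugation σ) :=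
    ⟨CfsgLib.Classical.exists_frob hF2⟩
  have hbot : Subgroup.center (Cfsg.SU 3 F 4) = ⊥ := Subgroup.eq_bot_of_card_eq _ (by
    rw [CfsgLib.Classical.card_center_SU (F := F) (q := 4) (by rw [hF]; norm_num) (by norm_num)]
    rfl)
  let e : Cfsg.PSU 3 F 4 ≃* Cfsg.SU 3 F 4 :=
    (QuotientGroup.quotientMulEquivOfEq hbot).trans QuotientGroup.quotientBot
  have hcard : Nat.card (Cfsg.SU 3 F 4) = 2 ^ 6 * 975 := by
    rw [← Nat.card_congr e.toEquiv]; exact CfsgLib.Involution.U34Sylow.card_PSU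
  let S := U34Datum.datum (U34Datum.params hF)
  have : Fact (Nat.Prime 13) := ⟨by norm_num⟩
  obtain ⟨g, hg⟩ := exists_prime_orderOf_dvd_card' (G := Cfsg.SU 3 F 4) 13
    (by rw [hcard]; norm_num)
  let Q' := (TwistedAlgebra.Datum.Q S).comap (TwistedAlgebra.Datum.P S).subtype
  obtain ⟨x₀, hx₀, hx₀'⟩ := (U34Datum.rot (U34Datum.params hF) hg).exists_not_mem
  have : Nontrivial (↥(TwistedAlgebra.Datum.P S) ⧸ Q') :=
    ⟨⟨Submodule.Quotient.mk ⟨x₀, hx₀⟩, 0, fun h => hx₀' ((Submodule.Quotient.mk_eq_zero Q').1 h)⟩⟩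
  let gc := U34Datum.goodC (U34Datum.params hF)
  let f : Cfsg.SU 3 F 4 → ↥(TwistedAlgebra.Datum.P S) →ₗ[ZMod 5] ↥(TwistedAlgebra.Datum.P S) :=
    fun l => (TwistedAlgebra.Datum.actL (U34Datum.rho l)).restrict fun x hx => S.act_P (gc l) hx
  let ψ : Cfsg.SU 3 F 4 →
      (↥(TwistedAlgebra.Datum.P S) ⧸ Q') →ₗ[ZMod 5] (↥(TwistedAlgebra.Datum.P S) ⧸ Q') :=
    fun l => Q'.mapQ Q' (f l) fun x hx => S.act_Q (gc l) hx
  have hmul : ∀ a b m, ψ (a * b) m = ψ a (ψ b m) := fun a b m => by
    induction m using Submodule.Quotient.induction_on with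
    | _ x =>
      simp only [ψ, Submodule.mapQ_apply]
      refine congrArg Submodule.Quotient.mk (Subtype.ext ?_)
      show TwistedAlgebra.Sgn.act (ZMod 5) (U34Datum.rho (a * b)) x.1 = _
      rw [map_mul]; rfl
  have hone : ∀ m, ψ 1 m = m := fun m => by
    induction m using Submodule.Quotient.induction_on with
    | _ x =>
      simp only [ψ, Submodule.mapQ_apply]
      refine congrArg Submodule.Quotient.mk (Subtype.ext ?_)
      show TwistedAlgebra.Sgn.act (ZMod 5) (U34Datum.rho 1) x.1 = _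
      rw [map_one]; rfl
  let act : Cfsg.SU 3 F 4 →* Module.End (ZMod 5) (↥(TwistedAlgebra.Datum.P S) ⧸ Q') :=
    { toFun := ψ
      map_one' := LinearMap.ext hone
      map_mul' := fun a b => LinearMap.ext (hmul a b) }
  have h13 : ∀ l, orderOf l = 13 → ∀ m, act l m = m → m = 0 := fun l hl m hm => by
    induction m using Submodule.Quotient.induction_on with
    | _ x =>
      have h1 : Submodule.Quotient.mk (f l x) = (Submodule.Quotient.mk x : _ ⧸ Q') := hm
      rw [Submodule.Quotient.eq] at h1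
      exact (Submodule.Quotient.mk_eq_zero Q').2
        ((U34Datum.rot (U34Datum.params hF) hl).mem_Q x.2 h1)
  obtain ⟨h2, h3⟩ := U34Elements.exists_ten_fifteen hF
  obtain ⟨H, iG, iF, hlt, hp, hpq⟩ :=
    PrimeGraphExtension.exists_group act hcard h2 h3 h13 N
  refine ⟨H, iG, iF, hlt, fun p hp' => ?_, fun p q a b c => ?_⟩
  · rw [Nat.card_congr e.toEquiv]; exact hp p hp'
  · rw [← hpq p q a b c]
    exact ⟨fun ⟨g, hg⟩ => ⟨e g, by rw [MulEquiv.orderOf_eq, hg]⟩,
      fun ⟨g, hg⟩ => ⟨e.symm g, by rw [MulEquiv.orderOf_eq, hg]⟩⟩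

end Cfsg.Agent.S3663
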