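import Cfsg.Prelude.Def_Classical
import Cfsg.Agent.Lib.KnownC.SuzukiEightExt
import Cfsg.Statements.S3664

set_option autoImplicit false
open Cfsg

namespace Cfsg.Agent.S3664

/-- The prime graph of a finite group has the prime divisors of its order as vertices, two distinct primes p, q being joined when the group has an element of order pq; two groups have the same prime graph when they have the same prime divisors and the same joined pairs. Let F be the field with 3 elements and L = PSp(6,F). There are finite groups of arbitrarily large order with the same prime graph as L (a prime graph shared by the orthogonal groups Ω₇(3) and PΩ⁺₈(3)). -/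
theorem result {F : Type*} [Field F] [Fintype F] (hF : Fintype.card F = 3) (N : ℕ) :
    ∃ (H : Type) (_ : Group H) (_ : Finite H), N < Nat.card H ∧
      ((∀ p : ℕ, p.Prime → (p ∣ Nat.card (Cfsg.PSp 3 F) ↔ p ∣ Nat.card H)) ∧
      (∀ p q : ℕ, p.Prime → q.Prime → p ≠ q → ((∃ g : (Cfsg.PSp 3 F), orderOf g = p * q) ↔ (∃ g : H, orderOf g = p * q)))) := by
  haveI : Fintype (GaloisField 2 3) := Fintype.ofFinite _
  obtain ⟨H, hH, hfin, hN, hp, he⟩ := CfsgLib.KnownC.SuzukiEightExt.exists_graph (F := GaloisField 2 3)
    (by rw [Fintype.card_eq_nat_card, GaloisField.card 2 3 (by norm_num)]; norm_num) N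
  exact ⟨H, hH, hfin, hN,
    fun p h => (CfsgLib.KnownC.PSpSixGraph.prime_dvd_iff hF p h).trans (hp p h).symm,
    fun p q h1 h2 h3 => (CfsgLib.KnownC.PSpSixGraph.edge_iff hF p q h1 h2 h3).trans (he p q h1 h2 h3).symm⟩

end Cfsg.Agent.S3664
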