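import Cfsg.Statements.S3668
import Cfsg.Agent.Lib.SmallGroups.DegreeGraphSmall.Main

set_option autoImplicit false
open Cfsg

namespace Cfsg.Agent.S3668

/-- The character degree graph of a finite group has as vertices the primes dividing some irreducible complex character degree, two distinct primes being joined when their product divides some irreducible character degree; two groups have the same character degree graph when they have the same vertices and the same joined pairs. Let S be a finite non-abelian simple group of order less than 6000. If a finite group G has the same order as S and the same character degree graph as S, then G is isomorphic to S. -/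
theorem result {S : Type*} [Group S] [Finite S] [IsSimpleGroup S] (hS : ¬ IsMulCommutative S)
    (hlt : Nat.card S < 6000) {G : Type*} [Group G] [Finite G] (hcard : Nat.card G = Nat.card S) (hΓ : Cfsg.degreePrimes G = Cfsg.degreePrimes S ∧ Cfsg.degreeGraph G = Cfsg.degreeGraph S) :
    Nonempty (G ≃* S) := by
  obtain ⟨hP, hA⟩ := hΓ
  have ho : Nat.card S ∈ CfsgLib.SmallGroups.DegreeGraphSmall.orders :=
    CfsgLib.SmallGroups.DegreeGraphSmall.simple_card_mem hS hlt
  haveI : IsSimpleGroup G := CfsgLib.SmallGroups.DegreeGraphSmall.isSimple hcard ho
    (fun p hp => hP ▸ CfsgLib.SmallGroups.DegreeGraphSmall.mem_degreePrimes p hp ho)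
    (fun h => hA ▸ (CfsgLib.SmallGroups.DegreeGraphSmall.vertices_eight h).2)
    (fun h => hA ▸ ⟨(CfsgLib.SmallGroups.DegreeGraphSmall.vertices_nine h).2.1,
      (CfsgLib.SmallGroups.DegreeGraphSmall.vertices_nine h).2.2.2⟩)
  exact CfsgLib.SmallGroups.DegreeGraphSmall.unique hcard.symm (hcard ▸ ho)

end Cfsg.Agent.S3668
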