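import Cfsg.Statements.S3678
import Cfsg.Agent.Lib.Derangements.PrimeGraphExt
import Cfsg.Agent.Lib.Classical.SL2Sylow

set_option linter.style.haveILetI false

set_option autoImplicit false
open Cfsg

namespace Cfsg.Agent.S3678

open scoped MatrixGroups

lemma no_two_primes {p q n : ℕ} (hp : p.Prime) (hq : q.Prime) (hpq : p ≠ q)
    (hn : n = 2 ∨ n = 3 ∨ n = 4 ∨ n = 7 ∨ n = 9) (h : p * q ∣ n) : False := by
  obtain ⟨r, k, hr, rfl⟩ : ∃ r k, r.Prime ∧ n = r ^ k := by
    rcases hn with rfl | rfl | rfl | rfl | rfl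
    exacts [⟨2, 1, Nat.prime_two, rfl⟩, ⟨3, 1, Nat.prime_three, rfl⟩, ⟨2, 2, Nat.prime_two, rfl⟩,
      ⟨7, 1, by norm_num, rfl⟩, ⟨3, 2, Nat.prime_three, rfl⟩]
  exact hpq (((Nat.prime_dvd_prime_iff_eq hp hr).1 (hp.dvd_of_dvd_pow (dvd_of_mul_right_dvd h))).trans
    ((Nat.prime_dvd_prime_iff_eq hq hr).1 (hq.dvd_of_dvd_pow (dvd_of_mul_left_dvd h))).symm)

variable {K : Type*} [Field K]

/-- The sequence with `x ^ (n + 1) = U t (n + 1) x - U t n`. -/
def U (t : K) : ℕ → K
  | 0 => 0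
  | 1 => 1
  | n + 2 => t * U t (n + 1) - U t n

lemma pow_formula (g : SL(2, K)) (n : ℕ) :
    g.1 ^ (n + 1) = U g.1.trace (n + 1) • g.1 - U g.1.trace n • (1 : Matrix (Fin 2) (Fin 2) K) := by
  induction n with
  | zero => simp [U]
  | succ n ih =>
    rw [pow_succ, ih, Matrix.sub_mul, Matrix.smul_mul, Matrix.smul_mul, one_mul,
      CfsgLib.Classical.sl2_sq, smul_sub, smul_smul, show U g.1.trace (n + 1 + 1) =
        g.1.trace * U g.1.trace (n + 1) - U g.1.trace n from rfl]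
    module

lemma pow_eq (g : SL(2, K)) (n : ℕ) (h1 : U g.1.trace (n + 1) = 0) :
    g.1 ^ (n + 1) = (-U g.1.trace n) • (1 : Matrix (Fin 2) (Fin 2) K) := by
  rw [pow_formula, h1, zero_smul, zero_sub, neg_smul]

/-- Orders of elements of `SL₂(8)`. -/
lemma eight_orders [Fintype K] [CharP K 2] (hK : Fintype.card K = 8) (g : SL(2, K)) :
    ∃ n, (n = 2 ∨ n = 7 ∨ n = 9) ∧ g ^ n = 1 := by
  have key : ∀ n, U g.1.trace (n + 1) = 0 → U g.1.trace n = 1 → g ^ (n + 1) = 1 := by
    intro n h1 h2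
    apply Subtype.ext
    rw [Matrix.SpecialLinearGroup.coe_pow, Matrix.SpecialLinearGroup.coe_one, pow_eq g n h1, h2,
      CharTwo.neg_eq, one_smul]
  set t := g.1.trace with ht
  have h2 : (2 : K) = 0 := CharTwo.two_eq_zero
  by_cases h0 : t = 0
  · exact ⟨2, Or.inl rfl, key 1 (by simp [U, h0]) (by simp [U])⟩
  have h7 : t ^ 7 = 1 := by
    have := FiniteField.pow_card_sub_one_eq_one t h0
    rwa [hK] at this
  have hA : (U t 7) * (U t 9) = 0 := by
    simp only [U]
    linear_combination (t ^ 7 - 12 * t ^ 5 + 56 * t ^ 3 - 128 * t + 1) * h7 +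
      (74 * t ^ 6 - 6 * t ^ 5 - 40 * t ^ 4 + 28 * t ^ 3 + 8 * t ^ 2 - 64 * t) * h2
  rcases mul_eq_zero.1 hA with h | h
  · refine ⟨7, Or.inr (Or.inl rfl), key 6 h ?_⟩
    have e : U t 6 + U t 8 = t * U t 7 := by simp only [U]; ring
    rw [h, mul_zero] at e
    have e8 : U t 8 = t ^ 7 - 6 * t ^ 5 + 10 * t ^ 3 - 4 * t := by simp only [U]; ring
    linear_combination e - e8 - h7 - (-3 * t ^ 5 + 5 * t ^ 3 - 2 * t + 1) * h2
  · refine ⟨9, Or.inr (Or.inr rfl), key 8 h ?_⟩
    simp only [U]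
    linear_combination h7 + (-3 * t ^ 5 + 5 * t ^ 3 - 2 * t) * h2

/-- Orders of elements of `PSL₂(7)`. -/
lemma seven_orders [Fintype K] (hK : Fintype.card K = 7) (g : SL(2, K)) :
    ∃ n, (n = 3 ∨ n = 4 ∨ n = 7) ∧ g ^ n ∈ Subgroup.center SL(2, K) := by
  have key : ∀ n, U g.1.trace (n + 1) = 0 → g ^ (n + 1) ∈ Subgroup.center SL(2, K) := by
    intro n h1
    rw [Subgroup.mem_center_iff]
    intro k
    apply Subtype.ext
    rw [Matrix.SpecialLinearGroup.coe_mul, Matrix.SpecialLinearGroup.coe_mul,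
      Matrix.SpecialLinearGroup.coe_pow, pow_eq g n h1]
    simp
  haveI : Fact (Nat.Prime 7) := ⟨by norm_num⟩
  haveI : CharP K 7 := charP_of_card_eq_prime hK
  set t := g.1.trace with ht
  have h7 : (7 : K) = 0 := by
    have := CharP.cast_eq_zero K 7
    exact_mod_cast this
  by_cases h0 : t = 0
  · exact ⟨4, Or.inr (Or.inl rfl), key 3 (by simp [U, h0])⟩
  have h6 : t ^ 6 = 1 := by
    have := FiniteField.pow_card_sub_one_eq_one t h0
    rwa [hK] at this
  have hprod : U t 3 * (U t 4 * U t 7) = 0 := by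
    simp only [U]
    linear_combination (t ^ 5 - 8 * t ^ 3 + 23 * t) * h6 + (-4 * t ^ 5 + t ^ 3 + 3 * t) * h7
  rcases mul_eq_zero.1 hprod with h | h
  · exact ⟨3, Or.inl rfl, key 2 h⟩
  rcases mul_eq_zero.1 h with h | h
  · exact ⟨4, Or.inr (Or.inl rfl), key 3 h⟩
  · exact ⟨7, Or.inr (Or.inr rfl), key 6 h⟩

/-- The prime graph of a finite group has the prime divisors of its order as vertices, two distinct primes p, q being joined when the group has an element of order pq; two groups have the same prime graph when they have the same prime divisors and the same joined pairs. Let F be the field with 7 elements. There are finite groups of arbitrarily large order with the same prime graph as PSL(2,F) (the graph on {2, 3, 7} with no edges, which is also the prime graph of PSL(2,8)). -/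
theorem result {F : Type*} [Field F] [Fintype F] (hF : Fintype.card F = 7) (N : ℕ) :
    ∃ (H : Type) (_ : Group H) (_ : Finite H), N < Nat.card H ∧
      ((∀ p : ℕ, p.Prime → (p ∣ Nat.card (Matrix.ProjectiveSpecialLinearGroup (Fin 2) F) ↔ p ∣ Nat.card H)) ∧
      (∀ p q : ℕ, p.Prime → q.Prime → p ≠ q → ((∃ g : (Matrix.ProjectiveSpecialLinearGroup (Fin 2) F), orderOf g = p * q) ↔ (∃ g : H, orderOf g = p * q)))) := by
  haveI : Fact (Nat.Prime 7) := ⟨by norm_num⟩
  haveI : Fact (Nat.Prime 2) := ⟨Nat.prime_two⟩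
  let K := GaloisField 2 3
  haveI : Fintype K := Fintype.ofFinite K
  have hK : Fintype.card K = 8 := by
    rw [← Nat.card_eq_fintype_card, GaloisField.card 2 3 (by norm_num)]; rfl
  have h504 : Nat.card (Matrix.SpecialLinearGroup (Fin 2) K) = 504 := by
    rw [CfsgLib.Classical.card_sl2 hK]; rfl
  have h168 : Nat.card (Matrix.ProjectiveSpecialLinearGroup (Fin 2) F) = 168 := by
    have h := CfsgLib.Classical.card_psl_mul (F := F) hF 2 (by norm_num)
    rw [CfsgLib.Classical.card_sl2 hF, show Nat.gcd 2 (7 - 1) = 2 from rfl] at h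
    omega
  refine CfsgLib.Derangements.PrimeGraphExt.exists_same_graph (F := K) N (by rw [h504]; norm_num)
    (fun p hp => ?_) fun p q hp hq hpq => ?_
  · rw [h504, h168, show 168 = 2 ^ 3 * 3 * 7 from rfl, show 504 = 2 ^ 3 * 3 ^ 2 * 7 from rfl,
      hp.dvd_mul, hp.dvd_mul, hp.dvd_mul, hp.dvd_mul]
    have hh : p ∣ 3 ^ 2 ↔ p ∣ 3 := ⟨hp.dvd_of_dvd_pow, fun h => dvd_pow h two_ne_zero⟩
    rw [hh]
  · refine iff_of_false ?_ ?_
    · rintro ⟨g, hg⟩
      obtain ⟨x, rfl⟩ := QuotientGroup.mk_surjective g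
      obtain ⟨n, hn, hx⟩ := seven_orders hF x
      refine no_two_primes hp hq hpq ?_ (show p * q ∣ n from hg ▸ ?_)
      · rcases hn with rfl | rfl | rfl <;> simp
      · apply orderOf_dvd_of_pow_eq_one
        rw [← QuotientGroup.mk_pow, QuotientGroup.eq_one_iff]
        exact hx
    · rintro ⟨g, hg⟩
      obtain ⟨n, hn, hx⟩ := eight_orders hK g
      refine no_two_primes hp hq hpq ?_ (hg ▸ orderOf_dvd_of_pow_eq_one hx)
      rcases hn with rfl | rfl | rfl <;> simp

end Cfsg.Agent.S3678
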