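import Cfsg.Statements.S3680
import Cfsg.Agent.Lib.SymMax.CharSimple

set_option linter.style.haveILetI false

set_option autoImplicit false
open Cfsg

namespace Cfsg.Agent.S3680

variable {G Ω : Type*} [Group G] [MulAction G Ω]

lemma transitive_of_normal [MulAction.IsPreprimitive G Ω] [FaithfulSMul G Ω] (W : Subgroup G)
    (hW : W.Normal) (hWb : W ≠ ⊥) : MulAction.IsPretransitive W Ω := by
  refine MulAction.IsQuasiPreprimitive.isPretransitive_of_normal fun h => hWb ?_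
  rw [Subgroup.eq_bot_iff_forall]
  intro w hw
  apply FaithfulSMul.eq_of_smul_eq_smul (α := Ω)
  intro ω
  have : ω ∈ MulAction.fixedPoints W Ω := h ▸ Set.mem_univ ω
  rw [one_smul]
  exact MulAction.mem_fixedPoints.1 this ⟨w, hw⟩

lemma eq_one_of_fixed [FaithfulSMul G Ω] (V : Subgroup G) (hV : MulAction.IsPretransitive V Ω)
    (g : G) (hg : ∀ v ∈ V, g * v = v * g) (ω : Ω) (hω : g • ω = ω) : g = 1 := by
  apply FaithfulSMul.eq_of_smul_eq_smul (α := Ω)
  intro x
  obtain ⟨⟨v, hv⟩, hvx⟩ := hV.exists_smul_eq ω x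
  rw [one_smul, ← hvx]
  show g • v • ω = v • ω
  rw [smul_smul, hg v hv, mul_smul, hω]

/-- Two commuting regular subgroups are isomorphic. -/
lemma regular_pair (V W : Subgroup G) (ω : Ω) (hVt : MulAction.IsPretransitive V Ω)
    (hWt : MulAction.IsPretransitive W Ω)
    (hV : ∀ v : V, v.1 • ω = ω → v = 1) (hW : ∀ w : W, w.1 • ω = ω → w = 1)
    (hc : ∀ v ∈ V, ∀ w ∈ W, v * w = w * v) : Nonempty (V ≃* W) := by
  have hex : ∀ v : V, ∃ w : W, w.1⁻¹ • ω = v.1 • ω := fun v => by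
    obtain ⟨w, hw⟩ := hWt.exists_smul_eq ω (v.1 • ω)
    exact ⟨w⁻¹, by rw [Subgroup.coe_inv, inv_inv]; exact hw⟩
  have huniq : ∀ w w' : W, w.1⁻¹ • ω = w'.1⁻¹ • ω → w = w' := fun w w' h => by
    rw [← mul_inv_eq_one]
    apply hW
    show (w.1 * w'.1⁻¹) • ω = ω
    rw [mul_smul, ← h, ← mul_smul, mul_inv_cancel, one_smul]
  choose φ hφ using hex
  have hmul : ∀ u v, φ (u * v) = φ u * φ v := fun u v => huniq _ _ (by
    rw [hφ, Subgroup.coe_mul, Subgroup.coe_mul, mul_inv_rev, mul_smul, mul_smul, ← hφ v, ← mul_smul,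
      hc u.1 u.2 _ (W.inv_mem (φ v).2), mul_smul, hφ u])
  have hbij : Function.Bijective φ := by
    constructor
    · intro u v h
      rw [← inv_mul_eq_one]
      apply hV
      show (u.1⁻¹ * v.1) • ω = ω
      rw [mul_smul, inv_smul_eq_iff, ← hφ u, ← hφ v, h]
    · intro w
      obtain ⟨v, hv⟩ := hVt.exists_smul_eq ω (w.1⁻¹ • ω)
      exact ⟨v, huniq _ _ ((hφ v).trans hv)⟩
  exact ⟨MulEquiv.ofBijective (MonoidHom.mk' φ hmul) hbij⟩

/-- The socle of a finite primitive permutation group. Let a finite group G act faithfully and primitively on a set Ω, and let N be the subgroup generated by the minimal normal subgroups of G. Then either N is an elementary abelian p-group for some prime p and acts regularly on Ω (transitively with trivial point stabilizers), or N is isomorphic to a direct product of m ≥ 1 copies of a non-abelian simple group. -/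
theorem result {G Ω : Type*} [Group G] [Finite G] [MulAction G Ω] [FaithfulSMul G Ω] [Finite Ω]
    (hprim : MulAction.IsPreprimitive G Ω) (N : Subgroup G)
    (hN : N = sSup {V : Subgroup G | V.Normal ∧ V ≠ ⊥ ∧ ∀ M : Subgroup G, M.Normal → M ≤ V → M = ⊥ ∨ M = V}) :
    (∃ p : ℕ, p.Prime ∧ IsMulCommutative N ∧ (∀ x : N, x ^ p = 1) ∧
      MulAction.IsPretransitive N Ω ∧ ∀ ω : Ω, MulAction.stabilizer N ω = ⊥) ∨
    (∃ (T : Type) (_ : Group T) (m : ℕ), 1 ≤ m ∧ IsSimpleGroup T ∧ ¬ IsMulCommutative T ∧ Nonempty (N ≃* (Fin m → T))) := by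
  classical
  subst hN
  rcases subsingleton_or_nontrivial G with hG | hG
  · left
    refine ⟨2, Nat.prime_two, ⟨⟨fun a b => Subsingleton.elim _ _⟩⟩, fun x => Subsingleton.elim _ _, ?_,
      fun ω => Subsingleton.elim _ _⟩
    refine ⟨fun a b => ⟨1, ?_⟩⟩
    obtain ⟨g, hg⟩ := MulAction.exists_smul_eq G a b
    rwa [Subsingleton.elim g 1] at hg
  obtain ⟨V, hV⟩ := (Set.toFinite {N : Subgroup G | N.Normal ∧ N ≠ ⊥}).exists_minimal
    ⟨⊤, inferInstance, top_ne_bot⟩
  haveI hVn : V.Normal := hV.1.1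
  set 𝒮 := {V : Subgroup G | V.Normal ∧ V ≠ ⊥ ∧ ∀ M : Subgroup G, M.Normal → M ≤ V → M = ⊥ ∨ M = V}
  have hVmem : V ∈ 𝒮 := ⟨hV.1.1, hV.1.2, fun M hM hle => (em (M = ⊥)).imp id
    fun hb => le_antisymm hle (hV.2 ⟨hM, hb⟩ hle)⟩
  have htrans : ∀ W : Subgroup G, W.Normal → W ≠ ⊥ → MulAction.IsPretransitive W Ω :=
    fun W hW hWb => transitive_of_normal W hW hWb
  haveI : Nontrivial V := (Subgroup.nontrivial_iff_ne_bot V).2 hV.1.2
  have hVt := htrans V hVn hV.1.2
  -- distinct minimal normal subgroups centralize each other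
  have hother : ∀ W ∈ 𝒮, W ≠ V → W ⊓ V = ⊥ := by
    intro W hW hne
    haveI := hW.1
    rcases hW.2.2 (W ⊓ V) inferInstance inf_le_left with h | h
    · exact h
    · exfalso
      rcases hVmem.2.2 W hW.1 (inf_eq_left.1 h) with h' | h'
      · exact hW.2.1 h'
      · exact hne h'
  by_cases hab : IsMulCommutative V
  · left
    have hreg : ∀ (v : G), v ∈ V → ∀ ω : Ω, v • ω = ω → v = 1 := fun v hv ω hω =>
      eq_one_of_fixed V hVt v (fun u hu => congrArg Subtype.val (hab.is_comm.comm (⟨v, hv⟩ : V) ⟨u, hu⟩)) ω hω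
    have hsup : sSup 𝒮 = V := by
      refine le_antisymm (sSup_le fun W hW => ?_) (le_sSup hVmem)
      by_contra hle
      have hd := hother W hW (fun e => hle (le_of_eq e))
      haveI := hW.1
      obtain ⟨w, hw, hw1⟩ := W.ne_bot_iff_exists_ne_one.1 hW.2.1 |> fun ⟨w, h⟩ =>
        (⟨w.1, w.2, fun e => h (Subtype.ext e)⟩ : ∃ w, w ∈ W ∧ w ≠ 1)
      obtain ⟨ω⟩ : Nonempty Ω := by
        by_contra hne
        exact hw1 (FaithfulSMul.eq_of_smul_eq_smul (α := Ω) fun a => (hne ⟨a⟩).elim)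
      obtain ⟨⟨v, hv⟩, hvω⟩ := hVt.exists_smul_eq ω (w • ω)
      have hcomm : ∀ u ∈ V, (v⁻¹ * w) * u = u * (v⁻¹ * w) := by
        intro u hu
        have h1 := CfsgLib.SymMax.CharSimple.commute_of_normal_of_inf_eq_bot hd hw hu
        have h2 : v⁻¹ * u = u * v⁻¹ :=
          congrArg Subtype.val (hab.is_comm.comm (⟨v⁻¹, V.inv_mem hv⟩ : V) ⟨u, hu⟩)
        rw [mul_assoc, h1, ← mul_assoc, h2, mul_assoc]
      have h1 : v⁻¹ * w = 1 := eq_one_of_fixed V hVt _ hcomm ω
        (by rw [mul_smul, inv_smul_eq_iff]; exact hvω.symm)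
      have : w ∈ V := by rwa [← inv_mul_eq_one.1 h1]
      exact hw1 ((Subgroup.eq_bot_iff_forall _).1 hd w ⟨hw, this⟩)
    obtain ⟨q, hq, hqd⟩ : ∃ q, q.Prime ∧ q ∣ Nat.card V :=
      ⟨_, Nat.minFac_prime (ne_of_gt Finite.one_lt_card), Nat.minFac_dvd _⟩
    haveI := Fact.mk hq
    letI := hab
    let K : Subgroup V :=
      { carrier := {x | x ^ q = 1}
        mul_mem' := fun {a b} ha hb => by
          rw [Set.mem_setOf_eq] at *
          rw [(show Commute a b from hab.is_comm.comm a b).mul_pow, ha, hb, one_mul]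
        one_mem' := one_pow q
        inv_mem' := fun {a} ha => by
          rw [Set.mem_setOf_eq] at *
          rw [inv_pow, ha, inv_one] }
    have hK : K.Characteristic := ⟨fun φ => by
      ext x
      show φ x ^ q = 1 ↔ x ^ q = 1
      rw [← map_pow, MulEquiv.map_eq_one_iff]⟩
    have hKtop : K = ⊤ := by
      refine (CfsgLib.SymMax.CharSimple.charSimple_of_minimal hVmem.2.2 K hK).resolve_left fun hb => ?_
      obtain ⟨x, hx⟩ := exists_prime_orderOf_dvd_card' q hqd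
      have : x = 1 := (Subgroup.eq_bot_iff_forall _).1 hb x (show x ^ q = 1 by rw [← hx]; exact pow_orderOf_eq_one x)
      rw [this, orderOf_one] at hx
      exact hq.one_lt.ne hx
    rw [hsup]
    refine ⟨q, hq, hab, fun x => (hKtop ▸ Subgroup.mem_top x : x ∈ K), hVt, fun ω => ?_⟩
    rw [Subgroup.eq_bot_iff_forall]
    intro x hx
    exact Subtype.ext (hreg x.1 x.2 ω hx)
  right
  obtain ⟨T, hTg, hTs, n, hn, ⟨e⟩⟩ :=
    CfsgLib.SymMax.CharSimple.exists_pow_type (CfsgLib.SymMax.CharSimple.charSimple_of_minimal hVmem.2.2)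
  have hTnc : ¬ IsMulCommutative T := fun h => hab ⟨⟨fun a b => e.injective (by
    rw [map_mul, map_mul]; funext i; exact h.is_comm.comm _ _)⟩⟩
  refine ⟨T, hTg, ?_⟩
  by_cases hex : ∃ W ∈ 𝒮, W ≠ V
  swap
  · push Not at hex
    have : sSup 𝒮 = V := le_antisymm (sSup_le fun W hW => le_of_eq (hex W hW)) (le_sSup hVmem)
    exact ⟨n, hn, hTs, hTnc, ⟨(MulEquiv.subgroupCongr this).trans e⟩⟩
  obtain ⟨W, hW, hne⟩ := hex
  haveI := hW.1
  have hd := hother W hW hne
  have hWt := htrans W hW.1 hW.2.1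
  have hsemi : ∀ (U : Subgroup G) (hU : U.Normal) (X : Subgroup G) (hX : X.Normal), U ⊓ X = ⊥ →
      MulAction.IsPretransitive U Ω → ∀ x ∈ X, ∀ ω : Ω, x • ω = ω → x = 1 := by
    intro U hU X hX hUX hUt x hx ω hω
    exact eq_one_of_fixed U hUt x (fun u hu =>
      (CfsgLib.SymMax.CharSimple.commute_of_normal_of_inf_eq_bot hUX hu hx).symm) ω hω
  obtain ⟨v0, hv0⟩ := exists_ne (1 : V)
  obtain ⟨ω⟩ : Nonempty Ω := by
    by_contra hne'
    exact hv0 (Subtype.ext (FaithfulSMul.eq_of_smul_eq_smul (α := Ω) fun a => (hne' ⟨a⟩).elim))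
  have hWreg : ∀ w : W, w.1 • ω = ω → w = 1 := fun w hw =>
    Subtype.ext (hsemi V hVn W hW.1 (inf_comm V W ▸ hd) hVt w.1 w.2 ω hw)
  have hVreg : ∀ v : V, v.1 • ω = ω → v = 1 := fun v hv =>
    Subtype.ext (hsemi W hW.1 V hVn hd hWt v.1 v.2 ω hv)
  obtain ⟨f⟩ := regular_pair V W ω hVt hWt hVreg hWreg (fun v hv w hw =>
    (CfsgLib.SymMax.CharSimple.commute_of_normal_of_inf_eq_bot hd hw hv).symm)
  have hsup : sSup 𝒮 = W ⊔ V := by
    refine le_antisymm (sSup_le fun X hX => ?_) (sup_le (le_sSup hW) (le_sSup hVmem))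
    by_cases hXV : X = V
    · exact hXV ▸ le_sup_right
    refine le_sup_of_le_left fun x hx => ?_
    haveI := hX.1
    have hdX := hother X hX hXV
    obtain ⟨⟨w, hw⟩, hwω⟩ := hWt.exists_smul_eq ω (x • ω)
    have hcomm : ∀ u ∈ V, (w⁻¹ * x) * u = u * (w⁻¹ * x) := by
      intro u hu
      have h1 := CfsgLib.SymMax.CharSimple.commute_of_normal_of_inf_eq_bot hdX hx hu
      have h2 := CfsgLib.SymMax.CharSimple.commute_of_normal_of_inf_eq_bot hd (W.inv_mem hw) hu
      rw [mul_assoc, h1, ← mul_assoc, h2, mul_assoc]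
    have h1 : w⁻¹ * x = 1 := eq_one_of_fixed V hVt _ hcomm ω
      (by rw [mul_smul, inv_smul_eq_iff]; exact hwω.symm)
    rwa [← inv_mul_eq_one.1 h1]
  obtain ⟨e₁⟩ := CfsgLib.SymMax.CharSimple.sup_equiv_prod hd
  refine ⟨n + n, by omega, hTs, hTnc, ⟨((MulEquiv.subgroupCongr hsup).trans e₁.symm).trans
    (((f.symm.trans e).prodCongr e).trans ?_)⟩⟩
  exact { toEquiv := Fin.appendEquiv n n
          map_mul' := fun x y => by
            funext i
            refine Fin.addCases (fun a => ?_) (fun a => ?_) i <;>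
              simp only [Fin.appendEquiv, Equiv.coe_fn_mk, Pi.mul_apply, Prod.fst_mul, Prod.snd_mul,
                Fin.append_left, Fin.append_right] }

end Cfsg.Agent.S3680
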