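import Cfsg.Statements.S3681
import Mathlib

set_option linter.style.haveILetI false

set_option autoImplicit false
open Cfsg

namespace Cfsg.Agent.S3681

open Equiv in
/-- Bochert's argument for a primitive subgroup of a symmetric group. -/
theorem bochert {Ω : Type*} [Fintype Ω] [DecidableEq Ω] (P : Subgroup (Equiv.Perm Ω))
    [MulAction.IsPreprimitive P Ω] (hA : ¬ alternatingGroup Ω ≤ P) :
    Nat.card P * Nat.factorial ((Fintype.card Ω + 1) / 2) ≤ Nat.factorial (Fintype.card Ω) := by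
  classical
  let good : Finset Ω → Prop := fun Γ => ∀ g ∈ P, (∀ x ∉ Γ, g x = x) → g = 1
  obtain ⟨Γ, hΓ, hmax⟩ := Finset.exists_max_image (Finset.univ.filter good) Finset.card
    ⟨∅, Finset.mem_filter.2 ⟨Finset.mem_univ _, fun g _ h => Equiv.ext fun x => h x (Finset.notMem_empty x)⟩⟩
  obtain ⟨-, hΓ⟩ := Finset.mem_filter.1 hΓ
  by_cases hk : (Fintype.card Ω + 1) / 2 ≤ Γ.card
  · have hinj : Function.Injective
        (fun q : P × Equiv.Perm {x // x ∈ Γ} => (q.1 : Equiv.Perm Ω) * Equiv.Perm.ofSubtype q.2) := by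
      rintro ⟨g, s⟩ ⟨g', s'⟩ h
      have h' : (g' : Equiv.Perm Ω)⁻¹ * g = Equiv.Perm.ofSubtype (s' * s⁻¹) := by
        rw [map_mul, map_inv, eq_mul_inv_iff_mul_eq, mul_assoc, inv_mul_eq_iff_eq_mul]
        exact h
      have h1 := hΓ _ (mul_mem (inv_mem g'.2) g.2) fun x hx => by
        rw [h', Equiv.Perm.ofSubtype_apply_of_not_mem _ hx]
      rw [h1, eq_comm, map_eq_one_iff _ Equiv.Perm.ofSubtype_injective, mul_inv_eq_one] at h'
      exact Prod.ext (Subtype.ext (inv_mul_eq_one.1 h1).symm) h'.symm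
    have h := Nat.card_le_card_of_injective _ hinj
    rw [Nat.card_prod, Nat.card_perm, Nat.card_perm, Nat.card_eq_fintype_card (α := {x // x ∈ Γ}),
      Fintype.card_coe, Nat.card_eq_fintype_card (α := Ω)] at h
    exact (Nat.mul_le_mul_left _ (Nat.factorial_le hk)).trans h
  exfalso
  apply hA
  have hbad : ∀ Δ : Finset Ω, Γ.card < Δ.card → ∃ g ∈ P, (∀ x ∉ Δ, g x = x) ∧ g ≠ 1 := by
    intro Δ hΔ
    by_contra h
    push Not at h
    exact hΔ.not_ge (hmax Δ (Finset.mem_filter.2 ⟨Finset.mem_univ _, h⟩))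
  obtain ⟨h, hhP, hh, hh1⟩ := hbad Γᶜ (by rw [Finset.card_compl]; omega)
  obtain ⟨b, hb⟩ : ∃ b, h b ≠ b := by
    by_contra hcon
    push Not at hcon
    exact hh1 (Equiv.ext hcon)
  have hbΓ : b ∉ Γ := fun hbΓ => hb (hh b (by simp [hbΓ]))
  obtain ⟨g, hgP, hg, hg1⟩ := hbad (insert b Γ) (by rw [Finset.card_insert_of_notMem hbΓ]; omega)
  have hgb : g b ≠ b := fun hgb => hg1 (hΓ g hgP fun x hx => by
    rcases eq_or_ne x b with rfl | hxb
    · exact hgb
    · exact hg x (by simp [hxb, hx]))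
  -- the supports of `g` and `h` meet only in `b`
  have hsupp : ∀ x, x ≠ b → g x = x ∨ h x = x := fun x hxb => by
    by_cases hx : x ∈ Γ
    · exact Or.inr (hh x (by simp [hx]))
    · exact Or.inl (hg x (by simp [hxb, hx]))
  refine Equiv.Perm.alternatingGroup_le_of_isPreprimitive_of_isThreeCycle_mem inferInstance ?_
    (show g * h * g⁻¹ * h⁻¹ ∈ P from mul_mem (mul_mem (mul_mem hgP hhP) (inv_mem hgP)) (inv_mem hhP))
  set u := g b
  set v := h b
  have hu : h u = u := (hsupp u hgb).resolve_left fun hc => hgb (g.injective hc)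
  have hv : g v = v := (hsupp v hb).resolve_right fun hc => hb (h.injective hc)
  have huv : u ≠ v := fun e => hgb (g.injective (show g (g b) = g b from (congrArg g e).trans (hv.trans e.symm)))
  have hu' : h⁻¹ u = u := by rw [Equiv.Perm.inv_eq_iff_eq, hu]
  have hv' : g⁻¹ v = v := by rw [Equiv.Perm.inv_eq_iff_eq, hv]
  suffices heq : g * h * g⁻¹ * h⁻¹ = Equiv.swap u b * Equiv.swap u v by
    rw [heq]; exact Equiv.Perm.isThreeCycle_swap_mul_swap_same hgb huv (fun e => hb e.symm)
  ext x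
  simp only [Equiv.Perm.mul_apply]
  by_cases hxb : x = b
  · have h1 : h (h⁻¹ b) = b := by simp
    have hne : h⁻¹ b ≠ b := fun e => hb (by rw [e] at h1; exact h1)
    have h2 : g (h⁻¹ b) = h⁻¹ b := (hsupp _ hne).resolve_right fun e => hne (h1 ▸ e).symm
    have h3 : g⁻¹ (h⁻¹ b) = h⁻¹ b := by rw [Equiv.Perm.inv_eq_iff_eq, h2]
    subst hxb
    rw [h3, h1, Equiv.swap_apply_of_ne_of_ne (Ne.symm hgb) (fun e => hb e.symm), Equiv.swap_apply_right]
  by_cases hxu : x = u
  · subst hxu
    rw [hu', show g⁻¹ u = b by simp [u], hv, Equiv.swap_apply_left,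
      Equiv.swap_apply_of_ne_of_ne huv.symm hb]
  by_cases hxv : x = v
  · subst hxv
    rw [show h⁻¹ v = b by simp [v]]
    have h1 : g (g⁻¹ b) = b := by simp
    have hne : g⁻¹ b ≠ b := fun e => hgb (by rw [e] at h1; exact h1)
    have h2 : h (g⁻¹ b) = g⁻¹ b := (hsupp _ hne).resolve_left fun e => hne (h1 ▸ e).symm
    rw [h2, h1, Equiv.swap_apply_right, Equiv.swap_apply_left]
  rw [Equiv.swap_apply_of_ne_of_ne hxu hxv, Equiv.swap_apply_of_ne_of_ne hxu hxb]
  have hgi : g x = x → g⁻¹ x = x := fun e => by rw [Equiv.Perm.inv_eq_iff_eq, e]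
  have hhi : h x = x → h⁻¹ x = x := fun e => by rw [Equiv.Perm.inv_eq_iff_eq, e]
  rcases hsupp x hxb with hgx | hhx
  · by_cases hhx : h x = x
    · rw [hhi hhx, hgi hgx, hhx, hgx]
    · have h1 : h (h⁻¹ x) = x := by simp
      have hne : h⁻¹ x ≠ b := fun e => hxv (by rw [e] at h1; exact h1.symm)
      have h2 : g (h⁻¹ x) = h⁻¹ x := (hsupp _ hne).resolve_right fun e => by
        rw [h1] at e
        exact hhx ((congrArg h e).trans h1)
      rw [show g⁻¹ (h⁻¹ x) = h⁻¹ x by rw [Equiv.Perm.inv_eq_iff_eq, h2], h1, hgx]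
  · by_cases hgx : g x = x
    · rw [hhi hhx, hgi hgx, hhx, hgx]
    · have h1 : g (g⁻¹ x) = x := by simp
      have hne : g⁻¹ x ≠ b := fun e => hxu (by rw [e] at h1; exact h1.symm)
      have h2 : h (g⁻¹ x) = g⁻¹ x := (hsupp _ hne).resolve_left fun e => by
        rw [h1] at e
        exact hgx ((congrArg g e).trans h1)
      rw [hhi hhx, h2, h1]

/-- Bochert's bound for primitive groups. Let a finite group G act faithfully and primitively on a finite set Ω with n elements, and suppose the image of G in the symmetric group of Ω does not contain the alternating group of Ω. Then |G| · ⌊(n + 1)/2⌋! ≤ n!, that is, the index of G in the symmetric group is at least ⌊(n + 1)/2⌋!. -/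
theorem result {G Ω : Type*} [Group G] [Finite G] [MulAction G Ω] [FaithfulSMul G Ω] [Fintype Ω] [DecidableEq Ω]
    (hprim : MulAction.IsPreprimitive G Ω) (hA : ¬ alternatingGroup Ω ≤ (MulAction.toPermHom G Ω).range) :
    Nat.card G * Nat.factorial ((Fintype.card Ω + 1) / 2) ≤ Nat.factorial (Fintype.card Ω) := by
  haveI := hprim
  let φ := MulAction.toPermHom G Ω
  have hinj : Function.Injective φ := MulAction.toPerm_injective
  set P := φ.range with hP
  have hcard : Nat.card P = Nat.card G := (Nat.card_congr (MonoidHom.ofInjective hinj).toEquiv).symm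
  haveI hPprim : MulAction.IsPreprimitive P Ω := by
    let f : Ω →ₑ[φ.rangeRestrict] Ω := ⟨id, fun g x => rfl⟩
    exact MulAction.IsPreprimitive.of_surjective (f := f) Function.surjective_id
  rw [← hcard]
  exact bochert P hA

end Cfsg.Agent.S3681
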