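import Cfsg.Statements.S3682
import Cfsg.Agent.Lib.ThompsonWielandt.Action
-- import your own Cfsg.Agent.* helpers here

set_option autoImplicit false
open Cfsg

namespace Cfsg.Agent.S3682

open CfsgLib.ThompsonWielandt CfsgLib.Components.Bender MulAction Subgroup

/-- Wielandt's bound toward the Sims conjecture. Let a finite group G act faithfully and primitively on a set Ω, let a and b be points, and suppose the orbit of b under the stabilizer of a has length d ≥ 2. Then there are a prime p and a normal p-subgroup P of the stabilizer of a, all of whose elements fix b, such that the index of P in the stabilizer of a divides d! · ((d - 1)!)^d. -/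
theorem result {G Ω : Type*} [Group G] [Finite G] [MulAction G Ω] [FaithfulSMul G Ω] [Finite Ω]
    (hprim : MulAction.IsPreprimitive G Ω) (a b : Ω) (d : ℕ) (hd : Nat.card (MulAction.orbit (MulAction.stabilizer G a) b) = d) (h2 : 2 ≤ d) :
    ∃ p : ℕ, p.Prime ∧ ∃ P : Subgroup (MulAction.stabilizer G a), P.Normal ∧ IsPGroup p P ∧ (∀ g : P, ((g : MulAction.stabilizer G a) : G) • b = b) ∧
      P.index ∣ Nat.factorial d * (Nat.factorial (d - 1)) ^ d := by
  subst hd
  have h := pair_stabilizer hprim a b h2
  set X := MulAction.stabilizer G a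
  set Y := MulAction.stabilizer G b
  by_cases hbot : co X (co Y X) = ⊥ ∨ co Y (co X Y) = ⊥
  · refine ⟨2, Nat.prime_two, ⊥, inferInstance, IsPGroup.of_bot, fun g => ?_, ?_⟩
    · obtain ⟨g, hg⟩ := g
      rw [Subgroup.mem_bot] at hg
      subst hg
      exact one_smul G b
    · rw [Subgroup.index_bot]
      rcases hbot with hb | hb
      · exact card_dvd_of_bot h hb
      · exact card_dvd_symm h hb
  · push Not at hbot
    obtain ⟨p, hp, hPp, -⟩ := h.exists_isPGroup hbot.1 hbot.2
    refine ⟨p, hp, (co X (co Y X)).subgroupOf X,
      (normal_subgroupOf_iff_le_normalizer (co_le_left _ _)).mpr (le_normalizer_co _ _),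
      hPp.comap_of_injective X.subtype X.subtype_injective, fun g => ?_, ?_⟩
    · exact MulAction.mem_stabilizer_iff.mp (co_le_left Y X (co_le_right X (co Y X) g.2))
    · have h1 := card_dvd h
      rw [← Subgroup.card_mul_index ((co X (co Y X)).subgroupOf X),
        Nat.card_congr (subgroupOfEquivOfLe (co_le_left X (co Y X))).toEquiv] at h1
      exact (Nat.mul_dvd_mul_iff_left Nat.card_pos).mp h1

end Cfsg.Agent.S3682
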