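import Cfsg.Statements.S3683
import Mathlib

set_option linter.style.haveILetI false

set_option autoImplicit false
open Cfsg

namespace Cfsg.Agent.S3683

open MulAction

/-- Let a finite group G act faithfully and primitively on a set Ω, and suppose the stabilizer of a point a fixes a second point b ≠ a (a suborbit of length 1 other than {a}). Then the stabilizer of a is trivial and G is cyclic of prime order. -/
theorem result {G Ω : Type*} [Group G] [Finite G] [MulAction G Ω] [FaithfulSMul G Ω] [Finite Ω]
    (hprim : MulAction.IsPreprimitive G Ω) (a b : Ω) (hab : a ≠ b) (hfix : ∀ g : G, g • a = a → g • b = b) :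
    MulAction.stabilizer G a = ⊥ ∧ IsCyclic G ∧ (Nat.card G).Prime := by
  haveI := hprim
  haveI : Nontrivial Ω := ⟨⟨a, b, hab⟩⟩
  have ha := IsPreprimitive.isCoatom_stabilizer_of_isPreprimitive G a
  have hb := IsPreprimitive.isCoatom_stabilizer_of_isPreprimitive G b
  have heq : stabilizer G a = stabilizer G b := by
    have hle : stabilizer G a ≤ stabilizer G b := fun g hg => hfix g hg
    exact hle.eq_or_lt.resolve_right fun h => hb.1 (ha.2 _ h)
  obtain ⟨g, hg⟩ := MulAction.exists_smul_eq G a b
  have hgN : g ∈ Subgroup.normalizer (stabilizer G a : Set G) := by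
    rw [Subgroup.mem_normalizer_iff]
    intro h
    constructor
    · intro h'
      rw [heq, mem_stabilizer_iff, ← hg, mul_smul, mul_smul, inv_smul_smul, mem_stabilizer_iff.1 h']
    · intro h'
      rw [heq, mem_stabilizer_iff, ← hg, mul_smul, mul_smul, inv_smul_smul] at h'
      exact mem_stabilizer_iff.2 (smul_left_cancel g h')
  have hnormal : (stabilizer G a).Normal := by
    rw [← Subgroup.normalizer_eq_top_iff]
    refine (Subgroup.le_normalizer (H := stabilizer G a)).eq_or_lt.elim (fun h => ?_) (ha.2 _)
    rw [← h, mem_stabilizer_iff, hg] at hgN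
    exact absurd hgN hab.symm
  have hbot : stabilizer G a = ⊥ := by
    rw [Subgroup.eq_bot_iff_forall]
    intro g hg
    refine eq_of_smul_eq_smul (α := Ω) fun x => ?_
    obtain ⟨k, rfl⟩ := MulAction.exists_smul_eq G a x
    rw [one_smul]
    have h := hnormal.conj_mem g hg k⁻¹
    rw [inv_inv, mem_stabilizer_iff, mul_smul, mul_smul, inv_smul_eq_iff] at h
    exact h
  haveI : Nontrivial G := ⟨⟨g, 1, fun h => hab (by rw [← hg, h, one_smul])⟩⟩
  obtain ⟨p, hp, hdvd⟩ := Nat.exists_prime_and_dvd (n := Nat.card G) Finite.one_lt_card.ne'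
  haveI := Fact.mk hp
  obtain ⟨x, hx⟩ := exists_prime_orderOf_dvd_card' p hdvd
  have htop : Subgroup.zpowers x = ⊤ := by
    refine ha.2 _ (hbot ▸ bot_lt_iff_ne_bot.2 fun h => ?_)
    rw [Subgroup.zpowers_eq_bot] at h
    rw [h, orderOf_one] at hx
    exact hp.one_lt.ne hx
  have hcard : Nat.card G = p := by
    rw [← Subgroup.card_top, ← htop, Nat.card_zpowers, hx]
  exact ⟨hbot, isCyclic_of_prime_card hcard, hcard ▸ hp⟩

end Cfsg.Agent.S3683
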