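import Cfsg.Statements.S3684
import Mathlib
import Cfsg.Agent.Lib.Derangements.DihedralHom

set_option linter.style.haveILetI false

set_option autoImplicit false
open Cfsg

namespace Cfsg.Agent.S3684

open MulAction

/-- Let a finite group G act faithfully and primitively on a set Ω, and suppose the stabilizer of a point a has an orbit of length 2. Then the stabilizer of a has order 2 and G is isomorphic to the dihedral group of order 2p for some prime p. -/
theorem result {G Ω : Type*} [Group G] [Finite G] [MulAction G Ω] [FaithfulSMul G Ω] [Finite Ω]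
    (hprim : MulAction.IsPreprimitive G Ω) (a b : Ω) (h2 : Nat.card (MulAction.orbit (MulAction.stabilizer G a) b) = 2) :
    Nat.card (MulAction.stabilizer G a) = 2 ∧ ∃ p : ℕ, p.Prime ∧ Nonempty (G ≃* DihedralGroup p) := by
  haveI := hprim
  classical
  haveI : Nontrivial Ω := by
    by_contra h
    rw [not_nontrivial_iff_subsingleton] at h
    have h1 : Nat.card (MulAction.orbit (stabilizer G a) b) ≤ 1 := Finite.card_le_one_iff_subsingleton.2 inferInstance
    omega
  have hab : a ≠ b := by
    rintro rfl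
    have h1 : MulAction.orbit (stabilizer G a) a ⊆ {a} := by
      rintro _ ⟨g, rfl⟩; exact g.2
    have h2' := Set.ncard_le_ncard h1 (Set.finite_singleton a)
    rw [Set.ncard_singleton, ← Nat.card_coe_set_eq, h2] at h2'
    omega
  set H := stabilizer G a
  set K := stabilizer G b
  have hH := IsPreprimitive.isCoatom_stabilizer_of_isPreprimitive G a
  have hK := IsPreprimitive.isCoatom_stabilizer_of_isPreprimitive G b
  have hcard : Nat.card H = Nat.card K := by
    obtain ⟨g, hg⟩ := MulAction.exists_smul_eq G a b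
    exact Nat.card_congr (stabilizerEquivStabilizer (g := g) hg.symm).toEquiv
  have hidxH : (K.subgroupOf H).index = 2 := by
    have hst : K.subgroupOf H = stabilizer H b := rfl
    rw [hst, index_stabilizer, ← Nat.card_coe_set_eq, h2]
  have hinf : 2 * Nat.card (H ⊓ K : Subgroup G) = Nat.card H := by
    have h0 : Nat.card (K.subgroupOf H) = Nat.card (H ⊓ K : Subgroup G) :=
      Nat.card_congr
        { toFun := fun z => ⟨z.1.1, Subgroup.mem_inf.2 ⟨z.1.2, z.2⟩⟩
          invFun := fun z => ⟨⟨z.1, (Subgroup.mem_inf.1 z.2).1⟩, (Subgroup.mem_inf.1 z.2).2⟩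
          left_inv := fun z => rfl
          right_inv := fun z => rfl }
    rw [← Subgroup.index_mul_card (K.subgroupOf H), hidxH, h0]
  have hidxK : (H.subgroupOf K).index = 2 := by
    have h := Subgroup.index_mul_card (H.subgroupOf K)
    have hh : Nat.card (H.subgroupOf K) = Nat.card (H ⊓ K : Subgroup G) := by
      rw [← Subgroup.inf_subgroupOf_right H K,
        Nat.card_congr (Subgroup.subgroupOfEquivOfLe (inf_le_right : H ⊓ K ≤ K)).toEquiv]
    rw [hh, ← hcard, ← hinf] at h
    exact Nat.eq_of_mul_eq_mul_right Nat.card_pos h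
  have hne : H ≠ K := fun h => by
    rw [h, Subgroup.subgroupOf_self, Subgroup.index_top] at hidxK
    omega
  have htop : H ⊔ K = ⊤ := hH.2 _ (lt_of_le_of_ne le_sup_left fun h =>
    (le_sup_right.trans h.symm.le).eq_or_lt.elim (fun h' => hne h'.symm) (fun h' => hH.1 (hK.2 _ h')))
  -- the two point stabilizer is normal, hence trivial
  have hbot : H ⊓ K = ⊥ := by
    have hnorm : Subgroup.normalizer ((H ⊓ K : Subgroup G) : Set G) = ⊤ := by
      rw [eq_top_iff, ← htop, sup_le_iff]
      constructor <;> intro g hg <;> rw [Subgroup.mem_normalizer_iff] <;> intro x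
      · haveI := Subgroup.normal_of_index_eq_two hidxH
        constructor
        · rintro ⟨hxH : x ∈ H, hxK : x ∈ K⟩
          exact Subgroup.mem_inf.2 ⟨mul_mem (mul_mem hg hxH) (inv_mem hg),
            (this.conj_mem ⟨x, hxH⟩ hxK ⟨g, hg⟩ :)⟩
        · rintro ⟨hxH : g * x * g⁻¹ ∈ H, hxK : g * x * g⁻¹ ∈ K⟩
          have hxH' : x ∈ H := by
            have := mul_mem (mul_mem (inv_mem hg) hxH) hg
            simpa [mul_assoc] using this
          have := this.conj_mem ⟨g * x * g⁻¹, hxH⟩ hxK ⟨g, hg⟩⁻¹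
          refine ⟨hxH', ?_⟩
          simpa [Subgroup.mem_subgroupOf, mul_assoc] using this
      · haveI := Subgroup.normal_of_index_eq_two hidxK
        constructor
        · rintro ⟨hxH : x ∈ H, hxK : x ∈ K⟩
          exact Subgroup.mem_inf.2 ⟨(this.conj_mem ⟨x, hxK⟩ hxH ⟨g, hg⟩ :),
            mul_mem (mul_mem hg hxK) (inv_mem hg)⟩
        · rintro ⟨hxH : g * x * g⁻¹ ∈ H, hxK : g * x * g⁻¹ ∈ K⟩
          have hxK' : x ∈ K := by
            have := mul_mem (mul_mem (inv_mem hg) hxK) hg
            simpa [mul_assoc] using this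
          have := this.conj_mem ⟨g * x * g⁻¹, hxK⟩ hxH ⟨g, hg⟩⁻¹
          refine ⟨?_, hxK'⟩
          simpa [Subgroup.mem_subgroupOf, mul_assoc] using this
    have hn : (H ⊓ K).Normal := Subgroup.normalizer_eq_top_iff.1 hnorm
    rw [Subgroup.eq_bot_iff_forall]
    intro g hg
    refine eq_of_smul_eq_smul (α := Ω) fun x => ?_
    obtain ⟨k, rfl⟩ := MulAction.exists_smul_eq G a x
    rw [one_smul]
    have h : k⁻¹ * g * k⁻¹⁻¹ ∈ H := (Subgroup.mem_inf.1 (hn.conj_mem g hg k⁻¹)).1
    rw [inv_inv, mem_stabilizer_iff, mul_smul, mul_smul, inv_smul_eq_iff] at h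
    exact h
  have hH2 : Nat.card H = 2 := by rw [← hinf, hbot, Subgroup.card_bot]
  have hK2 : Nat.card K = 2 := hcard ▸ hH2
  have hgen : ∀ S : Subgroup G, Nat.card S = 2 → ∃ x : G, orderOf x = 2 ∧ S = Subgroup.zpowers x := by
    intro S hS
    obtain ⟨x, hx⟩ := exists_prime_orderOf_dvd_card' (G := S) 2 (hS.symm ▸ dvd_rfl)
    refine ⟨x, by rw [Subgroup.orderOf_coe, hx], (Subgroup.eq_of_le_of_card_ge (Subgroup.zpowers_le.2 x.2) ?_).symm⟩
    rw [hS, Nat.card_zpowers, Subgroup.orderOf_coe, hx]
  obtain ⟨x, hx, hHx⟩ := hgen H hH2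
  obtain ⟨y, hy, hKy⟩ := hgen K hK2
  have hxy : x ≠ y := fun h => hne (by rw [hHx, hKy, h])
  have hxx : x * x = 1 := by rw [← sq, ← hx, pow_orderOf_eq_one]
  have hyy : y * y = 1 := by rw [← sq, ← hy, pow_orderOf_eq_one]
  set c := x * y with hc
  have hxc : x * c * x = c⁻¹ := by
    rw [hc, mul_inv_rev, inv_eq_of_mul_eq_one_right hxx, inv_eq_of_mul_eq_one_right hyy,
      ← mul_assoc x x y, hxx, one_mul]
  set n := orderOf c with hn
  haveI : NeZero n := ⟨(orderOf_pos c).ne'⟩
  let f := CfsgLib.Derangements.DihedralHom.lift c x (pow_orderOf_eq_one c) hxx hxc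
  have hn1 : n ≠ 1 := fun h => hxy (by
    rw [hn, orderOf_eq_one_iff, hc, mul_eq_one_iff_eq_inv, inv_eq_of_mul_eq_one_right hyy] at h
    exact h)
  haveI : Fact (1 < n) := ⟨by have := NeZero.ne n; omega⟩
  have hfc : f (DihedralGroup.r 1) = c := by simp [f, ZMod.val_one]
  have hfx : f (DihedralGroup.sr 0) = x := by simp [f]
  have hsurj : Function.Surjective f := by
    rw [← MonoidHom.range_eq_top, eq_top_iff, ← htop, sup_le_iff, hHx, hKy, Subgroup.zpowers_le,
      Subgroup.zpowers_le]
    refine ⟨⟨_, hfx⟩, ⟨DihedralGroup.sr 0 * DihedralGroup.r 1, ?_⟩⟩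
    rw [map_mul, hfx, hfc, hc, ← mul_assoc, hxx, one_mul]
  have hxnot : x ∉ Subgroup.zpowers c := by
    intro hmem
    obtain ⟨k, hk⟩ := Subgroup.mem_zpowers_iff.1 hmem
    have hcomm : x * c = c * x := hk ▸ ((Commute.refl c).zpow_left k).eq
    -- then `G` is abelian and the point stabilizer is normal
    have hn : H.Normal := by
      rw [hHx]
      refine ⟨fun z hz g => ?_⟩
      obtain ⟨d, rfl⟩ := hsurj g
      have hc1 : ∀ i, Commute x (f (DihedralGroup.r i)) := fun i => by
        simp only [f, CfsgLib.Derangements.DihedralHom.lift_r]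
        exact Commute.pow_right hcomm _
      have hc2 : Commute x (f d) := by
        cases d with
        | r i => exact hc1 i
        | sr i =>
          simp only [f, CfsgLib.Derangements.DihedralHom.lift_sr]
          exact (Commute.refl x).mul_right (Commute.pow_right hcomm _)
      obtain ⟨m, rfl⟩ := Subgroup.mem_zpowers_iff.1 hz
      rw [← (hc2.zpow_left m).eq, mul_inv_cancel_right]
      exact hz
    obtain ⟨k', hk'⟩ := MulAction.exists_smul_eq G a b
    have : x ∈ K := by
      have h := hn.conj_mem x (hHx ▸ Subgroup.mem_zpowers x) k'⁻¹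
      rw [inv_inv, mem_stabilizer_iff, mul_smul, mul_smul, hk', inv_smul_eq_iff, hk'] at h
      exact h
    have : x ∈ H ⊓ K := ⟨hHx ▸ Subgroup.mem_zpowers x, this⟩
    rw [hbot, Subgroup.mem_bot] at this
    rw [this, orderOf_one] at hx
    omega
  have hinj : Function.Injective f := by
    rw [← MonoidHom.ker_eq_bot_iff, Subgroup.eq_bot_iff_forall]
    rintro (i | i) hi
    · rw [MonoidHom.mem_ker] at hi
      simp only [f, CfsgLib.Derangements.DihedralHom.lift_r] at hi
      have := Nat.eq_zero_of_dvd_of_lt (orderOf_dvd_of_pow_eq_one hi) (ZMod.val_lt i)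
      rw [(ZMod.val_eq_zero i).1 this]
      rfl
    · rw [MonoidHom.mem_ker] at hi
      simp only [f, CfsgLib.Derangements.DihedralHom.lift_sr] at hi
      exact absurd (by rw [eq_inv_of_mul_eq_one_left hi]; exact inv_mem (pow_mem (Subgroup.mem_zpowers c) _)) hxnot
  let e := MulEquiv.ofBijective f ⟨hinj, hsurj⟩
  refine ⟨hH2, n, ?_, ⟨e.symm⟩⟩
  by_contra hnp
  obtain ⟨d, hdn, hd2, hdlt⟩ := Nat.exists_dvd_of_not_prime2 (show 1 < n from Fact.out) hnp
  haveI : NeZero d := ⟨by omega⟩
  haveI : Fact (1 < d) := ⟨by omega⟩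
  let φ : DihedralGroup n →* DihedralGroup d := CfsgLib.Derangements.DihedralHom.lift
    (DihedralGroup.r 1) (DihedralGroup.sr 0)
    (by rw [DihedralGroup.r_one_pow, (ZMod.natCast_eq_zero_iff n d).2 hdn]; rfl)
    (DihedralGroup.sr_mul_self 0) (by simp [DihedralGroup.sr_mul_r, DihedralGroup.sr_mul_sr, DihedralGroup.inv_r])
  let ψ : G →* DihedralGroup d := φ.comp e.symm.toMonoidHom
  have hψx : ψ x = DihedralGroup.sr 0 := by
    have : e.symm x = DihedralGroup.sr 0 := e.symm_apply_eq.2 hfx.symm
    show φ (e.symm x) = _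
    rw [this]
    exact (CfsgLib.Derangements.DihedralHom.lift_sr _ _ _ _ _ _).trans (by simp)
  have hψc : ψ c = DihedralGroup.r 1 := by
    have : e.symm c = DihedralGroup.r 1 := e.symm_apply_eq.2 hfc.symm
    show φ (e.symm c) = _
    rw [this]
    exact (CfsgLib.Derangements.DihedralHom.lift_r _ _ _ _ _ _).trans (by simp [ZMod.val_one])
  let S := (Subgroup.zpowers (DihedralGroup.sr (0 : ZMod d))).comap ψ
  have hHS : H < S := by
    refine lt_of_le_of_ne ?_ fun h => ?_
    · rw [hHx, Subgroup.zpowers_le, Subgroup.mem_comap, hψx]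
      exact Subgroup.mem_zpowers _
    · have hmem : c ^ d ∈ S := by
        rw [Subgroup.mem_comap, map_pow, hψc, DihedralGroup.r_one_pow, ZMod.natCast_self]
        exact one_mem _
      rw [← h, hHx, mem_zpowers_iff_mem_range_orderOf, hx] at hmem
      simp only [Finset.mem_image, Finset.mem_range] at hmem
      obtain ⟨i, hi, hi'⟩ := hmem
      interval_cases i
      · rw [pow_zero] at hi'
        have := Nat.le_of_dvd (by omega) (orderOf_dvd_of_pow_eq_one hi'.symm)
        omega
      · rw [pow_one] at hi'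
        exact hxnot (hi' ▸ pow_mem (Subgroup.mem_zpowers c) d)
  have hcS : c ∈ S := (hH.2 S hHS) ▸ Subgroup.mem_top c
  rw [Subgroup.mem_comap, hψc, mem_zpowers_iff_mem_range_orderOf, DihedralGroup.orderOf_sr] at hcS
  simp only [Finset.mem_image, Finset.mem_range] at hcS
  obtain ⟨i, hi, hi'⟩ := hcS
  interval_cases i
  · rw [pow_zero, DihedralGroup.one_def] at hi'
    exact zero_ne_one (DihedralGroup.r.injEq _ _ ▸ hi')
  · rw [pow_one] at hi'
    cases hi'

end Cfsg.Agent.S3684
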