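import Cfsg.Statements.S3685
import Mathlib
import Cfsg.Agent.Lib.Perm.SubdegreeThree.Structure
-- import your own Cfsg.Agent.* helpers here

set_option autoImplicit false
open Cfsg

namespace Cfsg.Agent.S3685

/-- Let a finite group G act faithfully and primitively on a set Ω, and suppose the stabilizer of a point a has an orbit of length 3. Then the stabilizer of a is isomorphic to one of: the cyclic group of order 3, the symmetric group of degree 3, the dihedral group of order 12, the symmetric group of degree 4, or the direct product of the symmetric group of degree 4 with a group of order 2. -/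
theorem result {G Ω : Type*} [Group G] [Finite G] [MulAction G Ω] [FaithfulSMul G Ω] [Finite Ω]
    (hprim : MulAction.IsPreprimitive G Ω) (a b : Ω) (h3 : Nat.card (MulAction.orbit (MulAction.stabilizer G a) b) = 3) :
    Nonempty (MulAction.stabilizer G a ≃* Multiplicative (ZMod 3)) ∨ Nonempty (MulAction.stabilizer G a ≃* Equiv.Perm (Fin 3)) ∨
      Nonempty (MulAction.stabilizer G a ≃* DihedralGroup 6) ∨ Nonempty (MulAction.stabilizer G a ≃* Equiv.Perm (Fin 4)) ∨
      Nonempty (MulAction.stabilizer G a ≃* Equiv.Perm (Fin 4) × Multiplicative (ZMod 2)) := by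
  rcases CfsgLib.Perm.SubdegreeThree.stabilizer_cases hprim a b h3 with h | ⟨L, hi, hc, hn⟩ | ⟨C, hq, hC⟩
  · haveI := Fact.mk Nat.prime_three
    left
    exact ⟨mulEquivOfPrimeCardEq h (by simp)⟩
  · exact Or.inr (Or.inl (CfsgLib.Perm.SubdegreeThree.mulEquiv_perm_three L hi hc hn))
  · have h2 := C.two_le
    have h4 := C.m_le_four
    rcases (show C.m = 2 ∨ C.m = 3 ∨ C.m = 4 by omega) with h | h | h
    · obtain ⟨e⟩ := C.structure_two h hq
      exact Or.inr (Or.inr (Or.inl ⟨(MulEquiv.subgroupCongr hC.symm).trans e⟩))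
    · obtain ⟨e⟩ := C.structure_three h hq
      exact Or.inr (Or.inr (Or.inr (Or.inl ⟨(MulEquiv.subgroupCongr hC.symm).trans e⟩)))
    · obtain ⟨e⟩ := C.structure_four h hq
      exact Or.inr (Or.inr (Or.inr (Or.inr ⟨(MulEquiv.subgroupCongr hC.symm).trans e⟩)))

end Cfsg.Agent.S3685
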