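import Cfsg.Statements.S3687
import Cfsg.Agent.Lib.ThompsonWielandt.AltSuborbit
-- import your own Cfsg.Agent.* helpers here

set_option autoImplicit false
open Cfsg

namespace Cfsg.Agent.S3687

open CfsgLib.ThompsonWielandt Subgroup MulAction

/-- The subgroups of `S_m × S_n` containing `A_m × A_n` that are not inside `A_m × S_n`. -/
theorem cases_of_alt {m n : ℕ} (M : Subgroup (Equiv.Perm (Fin m) × Equiv.Perm (Fin n)))
    (hM : (alternatingGroup (Fin m)).prod (alternatingGroup (Fin n)) ≤ M)
    (h1 : ∃ x ∈ M, Equiv.Perm.sign x.1 = -1) :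
    M = ⊤ ∨ M = (⊤ : Subgroup (Equiv.Perm (Fin m))).prod (alternatingGroup (Fin n)) ∨
      M = ((Equiv.Perm.sign.comp (MonoidHom.fst (Equiv.Perm (Fin m)) (Equiv.Perm (Fin n)))) *
        (Equiv.Perm.sign.comp (MonoidHom.snd (Equiv.Perm (Fin m)) (Equiv.Perm (Fin n))))).ker := by
  obtain ⟨x, hx, hx1⟩ := h1
  have key : ∀ u v : Equiv.Perm (Fin m) × Equiv.Perm (Fin n), u ∈ M →
      Equiv.Perm.sign u.1 = Equiv.Perm.sign v.1 → Equiv.Perm.sign u.2 = Equiv.Perm.sign v.2 → v ∈ M := by
    intro u v hu e1 e2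
    have h : v * u⁻¹ ∈ M := hM ⟨by simp [e1], by simp [e2]⟩
    simpa using mul_mem h hu
  by_cases h2 : ∀ y ∈ M, Equiv.Perm.sign y.2 = 1
  · refine Or.inr (Or.inl (le_antisymm (fun y hy => ⟨mem_top _, Equiv.Perm.mem_alternatingGroup.mpr (h2 y hy)⟩)
      fun y hy => ?_))
    have hy2 := Equiv.Perm.mem_alternatingGroup.mp hy.2
    rcases Int.units_eq_one_or (Equiv.Perm.sign y.1) with e | e
    · exact hM ⟨Equiv.Perm.mem_alternatingGroup.mpr e, hy.2⟩
    · exact key x y hx (hx1.trans e.symm) ((h2 x hx).trans hy2.symm)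
  push Not at h2
  obtain ⟨y, hy, hy2⟩ := h2
  have hy2 : Equiv.Perm.sign y.2 = -1 := (Int.units_eq_one_or _).resolve_left hy2
  by_cases hd : ∀ u ∈ M, Equiv.Perm.sign u.1 = Equiv.Perm.sign u.2
  · refine Or.inr (Or.inr (le_antisymm (fun u hu => ?_) fun u hu => ?_))
    · rw [MonoidHom.mem_ker]
      simp [hd u hu]
    · rw [MonoidHom.mem_ker] at hu
      simp only [MonoidHom.mul_apply, MonoidHom.coe_comp, Function.comp_apply, MonoidHom.coe_fst,
        MonoidHom.coe_snd] at hu
      rcases Int.units_eq_one_or (Equiv.Perm.sign u.2) with e | e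
      · refine hM ⟨Equiv.Perm.mem_alternatingGroup.mpr ?_, Equiv.Perm.mem_alternatingGroup.mpr e⟩
        simpa [e] using hu
      · refine key y u hy ?_ (hy2.trans e.symm)
        rw [hd y hy, hy2]
        rcases Int.units_eq_one_or (Equiv.Perm.sign u.1) with e' | e'
        · rw [e, e'] at hu; exact absurd hu (by decide)
        · exact e'.symm
  · push Not at hd
    obtain ⟨u, hu, hne⟩ := hd
    have hpq : (∃ p ∈ M, Equiv.Perm.sign p.1 = -1 ∧ Equiv.Perm.sign p.2 = 1) ∧
        ∃ q ∈ M, Equiv.Perm.sign q.1 = 1 ∧ Equiv.Perm.sign q.2 = -1 := by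
      rcases Int.units_eq_one_or (Equiv.Perm.sign u.1) with c | c <;>
        rcases Int.units_eq_one_or (Equiv.Perm.sign u.2) with e | e
      · exact absurd (c.trans e.symm) hne
      · refine ⟨?_, u, hu, c, e⟩
        rcases Int.units_eq_one_or (Equiv.Perm.sign x.2) with f | f
        · exact ⟨x, hx, hx1, f⟩
        · exact ⟨u * x, mul_mem hu hx, by simp [c, hx1], by simp [e, f]⟩
      · refine ⟨⟨u, hu, c, e⟩, ?_⟩
        rcases Int.units_eq_one_or (Equiv.Perm.sign y.1) with f | f
        · exact ⟨y, hy, f, hy2⟩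
        · exact ⟨u * y, mul_mem hu hy, by simp [c, f], by simp [e, hy2]⟩
      · exact absurd (c.trans e.symm) hne
    obtain ⟨⟨p, hp, hp1, hp2⟩, q, hq, hq1, hq2⟩ := hpq
    refine Or.inl (eq_top_iff.mpr fun w _ => ?_)
    rcases Int.units_eq_one_or (Equiv.Perm.sign w.1) with a | a <;>
      rcases Int.units_eq_one_or (Equiv.Perm.sign w.2) with b | b
    · exact hM ⟨Equiv.Perm.mem_alternatingGroup.mpr a, Equiv.Perm.mem_alternatingGroup.mpr b⟩
    · exact key q w hq (hq1.trans a.symm) (hq2.trans b.symm)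
    · exact key p w hp (hp1.trans a.symm) (hp2.trans b.symm)
    · exact key (p * q) w (mul_mem hp hq) (by simp [hp1, hq1, a]) (by simp [hp2, hq2, b])

/-- Let a finite group G act faithfully and primitively on a set Ω, let a and b be points such that the orbit Δ of b under the stabilizer H of a has d ≥ 6 elements, and suppose that the permutation group induced by H on Δ contains the alternating group of Δ (the image of H in the symmetric group of Δ has index at most 2) while H does not act faithfully on Δ. Then either H induces exactly the alternating group of Δ and H is isomorphic to the direct product of the alternating groups of degrees d and d - 1; or H induces the full symmetric group of Δ and H is isomorphic to one of: the direct product of the symmetric groups of degrees d and d - 1, the direct product of the symmetric group of degree d with the alternating group of degree d - 1, or the subgroup of the direct product of the symmetric groups of degrees d and d - 1 consisting of the pairs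 of permutations with equal signs. -/
theorem result {G Ω : Type*} [Group G] [Finite G] [MulAction G Ω] [FaithfulSMul G Ω] [Finite Ω]
    (hprim : MulAction.IsPreprimitive G Ω) (a b : Ω) (d : ℕ) (hd : Nat.card (MulAction.orbit (MulAction.stabilizer G a) b) = d) (h6 : 6 ≤ d)
    (halt : (MulAction.toPermHom (MulAction.stabilizer G a) (MulAction.orbit (MulAction.stabilizer G a) b)).range.index ≤ 2)
    (hunf : ¬ Function.Injective (MulAction.toPermHom (MulAction.stabilizer G a) (MulAction.orbit (MulAction.stabilizer G a) b))) :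
    ((MulAction.toPermHom (MulAction.stabilizer G a) (MulAction.orbit (MulAction.stabilizer G a) b)).range.index = 2 ∧
      Nonempty (MulAction.stabilizer G a ≃* alternatingGroup (Fin d) × alternatingGroup (Fin (d - 1)))) ∨
    ((MulAction.toPermHom (MulAction.stabilizer G a) (MulAction.orbit (MulAction.stabilizer G a) b)).range = ⊤ ∧
      (Nonempty (MulAction.stabilizer G a ≃* Equiv.Perm (Fin d) × Equiv.Perm (Fin (d - 1))) ∨
       Nonempty (MulAction.stabilizer G a ≃* Equiv.Perm (Fin d) × alternatingGroup (Fin (d - 1))) ∨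
       Nonempty (MulAction.stabilizer G a ≃* ((Equiv.Perm.sign.comp (MonoidHom.fst (Equiv.Perm (Fin d)) (Equiv.Perm (Fin (d - 1))))) *
         (Equiv.Perm.sign.comp (MonoidHom.snd (Equiv.Perm (Fin d)) (Equiv.Perm (Fin (d - 1)))))).ker))) := by
  classical
  subst hd
  have h : AltData G a b (Nat.card (Orb G a b)) := ⟨pair_stabilizer hprim a b (by omega), rfl, h6, halt⟩
  set X := MulAction.stabilizer G a with hXdef
  set Y := MulAction.stabilizer G b with hYdef
  haveI := Fintype.ofFinite (Orb G a b)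
  haveI := Fintype.ofFinite (Orb G b a)
  haveI := Fintype.ofFinite (OrbC G b a)
  set d := Nat.card (Orb G a b) with hd
  have hd6 : 6 ≤ d := h.six
  have hc2 : Nat.card (OrbC G b a) = d - 1 := card_orbC h.symm.card
  have h5 : 5 ≤ Nat.card (Orb G a b) := by omega
  have h5' : 5 ≤ Nat.card (OrbC G b a) := by omega
  set A := co X Y
  set B := co Y X
  have hA0 : A ≠ ⊥ := by
    intro hb
    refine hunf ((injective_iff_map_eq_one _).mpr fun g hg => Subtype.ext ?_)
    exact Subgroup.mem_bot.mp (hb ▸ (sig_eq_one_iff a b g).mp hg)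
  have hAB : A ⊓ B = ⊥ := h.inf_eq_bot hA0
  have hAZ : A ≤ X ⊓ Y := le_inf (co_le_left X Y) (co_le_right X Y)
  have hBZ : B ≤ X ⊓ Y := le_inf (co_le_right Y X) (co_le_left Y X)
  set C := (X ⊓ Subgroup.centralizer (A : Set G)).subgroupOf X with hC
  haveI : C.Normal := by
    refine ⟨fun c hc g => ⟨(g * c * g⁻¹ : X).2, Subgroup.mem_centralizer_iff.mpr fun t ht => ?_⟩⟩
    have ht' : (g : G)⁻¹ * t * (g : G) ∈ A := by
      have := (Subgroup.mem_normalizer_iff.mp (le_normalizer_co X Y (inv_mem g.2)) t).mp ht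
      simpa using this
    have e := Subgroup.mem_centralizer_iff.mp hc.2 _ ht'
    show t * ((g : G) * (c : G) * (g : G)⁻¹) = (g : G) * (c : G) * (g : G)⁻¹ * t
    calc t * ((g : G) * (c : G) * (g : G)⁻¹) = (g : G) * ((g : G)⁻¹ * t * (g : G) * (c : G)) * (g : G)⁻¹ := by group
      _ = (g : G) * ((c : G) * ((g : G)⁻¹ * t * (g : G))) * (g : G)⁻¹ := by
        show (g : G) * ((g : G)⁻¹ * t * (g : G) * (X.subtype c)) * (g : G)⁻¹ = _
        rw [e]; rfl
      _ = (g : G) * (c : G) * (g : G)⁻¹ * t := by group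
  have hσC : alternatingGroup (Orb G a b) ≤ C.map (sig a b) := by
    refine (eq_bot_or_alt_le h5 (h.alt_le.trans ?_)).resolve_left fun hb => ?_
    · rintro _ ⟨z, rfl⟩
      refine mem_normalizer_of_forall ?_
      rintro _ ⟨f, hf, rfl⟩
      exact ⟨z * f * z⁻¹, (inferInstance : C.Normal).conj_mem f hf z, by simp⟩
    · have hB0 : B ≠ ⊥ := fun hb0 => hA0 (Subgroup.eq_bot_of_card_eq _ (by
        rw [← h.card_co]; show Nat.card B = 1; rw [hb0, Subgroup.card_bot]))
      refine hB0 (le_bot_iff.mp fun t ht => ?_)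
      rw [← hAB]
      refine ⟨(sig_eq_one_iff a b ⟨t, (hBZ ht).1⟩).mp (Subgroup.mem_bot.mp
        (hb ▸ Subgroup.mem_map_of_mem _ ?_)), ht⟩
      refine ⟨(hBZ ht).1, ?_⟩
      exact CfsgLib.Components.Bender.commutator_eq_bot_of_normalize (A := B) (B := A)
        (hBZ.trans (inf_le_left.trans (le_normalizer_co X Y)))
        (hAZ.trans (inf_le_right.trans (le_normalizer_co Y X))) (by rw [inf_comm]; exact hAB) ht
  have hdec : ∀ x : X, ∃ z : ↥(X ⊓ Y), x * (Subgroup.inclusion inf_le_left z)⁻¹ ∈ C := by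
    intro x
    haveI : MulAction.IsPretransitive (alternatingGroup (Orb G a b)) (Orb G a b) :=
      alternatingGroup.isPretransitive_of_three_le_card (Orb G a b) (by omega)
    obtain ⟨q, hq⟩ := MulAction.exists_smul_eq (alternatingGroup (Orb G a b))
      (⟨b, MulAction.mem_orbit_self b⟩ : Orb G a b) ⟨(x : G) • b, ⟨x, rfl⟩⟩
    obtain ⟨c, hc, hcq⟩ := hσC q.2
    have e : (c : G) • b = (x : G) • b := by
      have h1 := congrArg (fun o : Orb G a b => (o : Ω)) hq
      rw [Subgroup.smul_def, Equiv.Perm.smul_def, ← hcq] at h1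
      exact h1
    refine ⟨⟨(c : G)⁻¹ * x, X.mul_mem (X.inv_mem c.2) x.2, MulAction.mem_stabilizer_iff.mpr
      (by rw [mul_smul, ← e, inv_smul_smul])⟩, ?_⟩
    have e' : ∀ hz, x * (Subgroup.inclusion (inf_le_left : X ⊓ Y ≤ X) ⟨(c : G)⁻¹ * x, hz⟩)⁻¹ = c := fun hz =>
      Subtype.ext (by simp)
    exact (congrArg (· ∈ C) (e' _)).mpr hc
  choose zf hzf using hdec
  have huniq : ∀ z z' : ↥(X ⊓ Y), Subgroup.inclusion inf_le_left z * (Subgroup.inclusion inf_le_left z')⁻¹ ∈ C →
      psi a b z = psi a b z' := by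
    intro z z' hz
    rw [← mul_inv_eq_one, ← map_inv, ← map_mul]
    refine Subgroup.mem_bot.mp (centralizer_alt_eq_bot h5' ▸ Subgroup.mem_centralizer_iff.mpr fun q hq => ?_)
    obtain ⟨t, ht, rfl⟩ := h.alt_le_psi_co hA0 hq
    rw [← map_mul, ← map_mul]
    refine congrArg (psi a b) (Subtype.ext ?_)
    exact Subgroup.mem_centralizer_iff.mp hz.2 _ ht
  let π : X →* Equiv.Perm (OrbC G b a) := MonoidHom.mk' (fun x => psi a b (zf x)) fun x y => by
    rw [← map_mul]
    refine huniq _ _ ?_
    set ι := Subgroup.inclusion (inf_le_left : X ⊓ Y ≤ X) with hι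
    have h1 : (x * (ι (zf x))⁻¹) * ((ι (zf x)) * (y * (ι (zf y))⁻¹) * (ι (zf x))⁻¹) ∈ C :=
      mul_mem (hzf x) ((inferInstance : C.Normal).conj_mem _ (hzf y) _)
    have h2 := mul_mem (inv_mem (hzf (x * y))) h1
    rw [map_mul]
    convert h2 using 1
    group
  have hπz : ∀ z : ↥(X ⊓ Y), π (Subgroup.inclusion inf_le_left z) = psi a b z := fun z =>
    (huniq _ _ (hzf (Subgroup.inclusion inf_le_left z))).symm
  have hπC : ∀ c ∈ C, π c = 1 := by
    intro c hc
    show psi a b (zf c) = 1
    rw [← map_one (psi a b)]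
    refine huniq _ _ ?_
    have := mul_mem (inv_mem (hzf c)) hc
    simpa [mul_assoc] using this
  let e1 : Orb G a b ≃ Fin d := Finite.equivFinOfCardEq rfl
  let e2 : OrbC G b a ≃ Fin (d - 1) := Finite.equivFinOfCardEq hc2
  let Φ : X →* Equiv.Perm (Fin d) × Equiv.Perm (Fin (d - 1)) :=
    ((e1.permCongrHom.toMonoidHom.comp (sig a b)).prod (e2.permCongrHom.toMonoidHom.comp π))
  have hΦ : Function.Injective Φ := by
    refine (injective_iff_map_eq_one _).mpr fun x hx => ?_
    have hs : sig a b x = 1 := e1.permCongrHom.injective ((congrArg Prod.fst hx).trans (map_one _).symm)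
    have hp : π x = 1 := e2.permCongrHom.injective ((congrArg Prod.snd hx).trans (map_one _).symm)
    have hxA := (sig_eq_one_iff a b x).mp hs
    have hxB : psi (G := G) a b ⟨(x : G), hAZ hxA⟩ = 1 := by
      rw [← hπz]; exact hp
    have : (x : G) ∈ A ⊓ B := ⟨hxA, (psi_eq_one_iff a b _).mp hxB⟩
    rw [hAB, Subgroup.mem_bot] at this
    exact Subtype.ext this
  have hAA : (alternatingGroup (Fin d)).prod (alternatingGroup (Fin (d - 1))) ≤ Φ.range := by
    rintro ⟨p, q⟩ ⟨hp, hq⟩
    obtain ⟨c, hc, hcp⟩ := hσC (show e1.permCongrHom.symm p ∈ alternatingGroup (Orb G a b) from by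
      rw [Equiv.Perm.mem_alternatingGroup]
      show Equiv.Perm.sign (e1.symm.permCongr p) = 1
      rw [Equiv.Perm.sign_permCongr]
      exact Equiv.Perm.mem_alternatingGroup.mp hp)
    obtain ⟨t, ht, htq⟩ := h.alt_le_psi_co hA0 (show e2.permCongrHom.symm q ∈ alternatingGroup (OrbC G b a) from by
      rw [Equiv.Perm.mem_alternatingGroup]
      show Equiv.Perm.sign (e2.symm.permCongr q) = 1
      rw [Equiv.Perm.sign_permCongr]
      exact Equiv.Perm.mem_alternatingGroup.mp hq)
    refine ⟨c * Subgroup.inclusion inf_le_left t, Prod.ext ?_ ?_⟩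
    · show e1.permCongrHom (sig a b (c * Subgroup.inclusion inf_le_left t)) = p
      rw [map_mul, (sig_eq_one_iff a b (Subgroup.inclusion inf_le_left t)).mpr ht, mul_one, hcp]
      exact e1.permCongrHom.apply_symm_apply p
    · show e2.permCongrHom (π (c * Subgroup.inclusion inf_le_left t)) = q
      rw [map_mul, hπC c hc, one_mul, hπz, htq]
      exact e2.permCongrHom.apply_symm_apply q
  let eΦ : X ≃* Φ.range := MonoidHom.ofInjective hΦ
  have hsign1 : ∀ x : X, Equiv.Perm.sign (Φ x).1 = Equiv.Perm.sign (sig a b x) := fun x =>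
    Equiv.Perm.sign_permCongr e1 _
  by_cases hi : (sig (G := G) a b).range.index = 2
  · left
    refine ⟨hi, ⟨eΦ.trans ((MulEquiv.subgroupCongr (le_antisymm ?_ hAA)).trans (Subgroup.prodEquiv _ _))⟩⟩
    have key : ∀ a b : Ω, (sig (G := G) a b).range.index * Nat.card (MulAction.stabilizer G a) =
        Nat.factorial (Nat.card (Orb G a b)) *
          Nat.card ↥(co (MulAction.stabilizer G a) (MulAction.stabilizer G b)) := by
      intro a b
      have hk : (sig (G := G) a b).ker.map (MulAction.stabilizer G a).subtype =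
          co (MulAction.stabilizer G a) (MulAction.stabilizer G b) := by
        ext g
        exact ⟨by rintro ⟨k, hk, rfl⟩; exact (sig_eq_one_iff a b k).mp hk,
          fun hg => ⟨⟨g, co_le_left _ _ hg⟩, (sig_eq_one_iff a b _).mpr hg, rfl⟩⟩
      rw [← Subgroup.card_mul_index (sig (G := G) a b).ker, Subgroup.index_ker,
        ← Subgroup.card_map_of_injective (MulAction.stabilizer G a).subtype_injective, hk, ← Nat.card_perm,
        ← Subgroup.card_mul_index (sig (G := G) a b).range]
      ring
    have hiY : (sig (G := G) b a).range.index = 2 := by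
      have k1 := key a b
      have k2 := key b a
      obtain ⟨e⟩ := h.pair.iso
      rw [← Nat.card_congr e.toEquiv, show Nat.card (Orb G b a) = d from h.symm.card,
        h.card_co, ← k1, hi] at k2
      exact Nat.eq_of_mul_eq_mul_right Nat.card_pos k2
    rintro _ ⟨x, rfl⟩
    refine ⟨Equiv.Perm.mem_alternatingGroup.mpr ?_, Equiv.Perm.mem_alternatingGroup.mpr ?_⟩
    · rw [hsign1, ← Equiv.Perm.mem_alternatingGroup,
        ← Equiv.Perm.eq_alternatingGroup_of_index_eq_two hi]
      exact ⟨x, rfl⟩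
    · show Equiv.Perm.sign (e2.permCongr (psi a b (zf x))) = 1
      rw [Equiv.Perm.sign_permCongr]
      have hfix : sig (G := G) b a ⟨(zf x : G), (zf x).2.2⟩ ⟨a, MulAction.mem_orbit_self a⟩ =
          ⟨a, MulAction.mem_orbit_self a⟩ := Subtype.ext (zf x).2.1
      have hev : Equiv.Perm.sign (sig (G := G) b a ⟨(zf x : G), (zf x).2.2⟩) = 1 := by
        rw [← Equiv.Perm.mem_alternatingGroup, ← Equiv.Perm.eq_alternatingGroup_of_index_eq_two hiY]
        exact ⟨_, rfl⟩
      convert hev using 1
      refine Eq.trans ?_ (Equiv.Perm.sign_subtypePerm (sig (G := G) b a ⟨(zf x : G), (zf x).2.2⟩)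
        (p := fun o : Orb G b a => o ≠ ⟨a, MulAction.mem_orbit_self a⟩)
        (fun o => psi_prf a b (zf x) o) (fun o ho hc => ho ?_))
      · congr 1
        convert rfl using 3
      · rw [hc]; exact hfix
  · right
    have hi1 : (sig (G := G) a b).range.index = 1 := by
      have := h.idx
      have h0 : (sig (G := G) a b).range.index ≠ 0 := Subgroup.index_ne_zero_of_finite
      omega
    have htop := Subgroup.index_eq_one.mp hi1
    refine ⟨htop, ?_⟩
    have hodd : ∃ u ∈ Φ.range, Equiv.Perm.sign u.1 = -1 := by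
      haveI : Nontrivial (Orb G a b) := Finite.one_lt_card_iff_nontrivial.mp (by omega)
      obtain ⟨p, hp⟩ := Equiv.Perm.sign_surjective (Orb G a b) (-1)
      obtain ⟨x, rfl⟩ := (htop ▸ Subgroup.mem_top p : p ∈ (sig (G := G) a b).range)
      exact ⟨Φ x, ⟨x, rfl⟩, by rw [hsign1, hp]⟩
    rcases cases_of_alt Φ.range hAA hodd with e | e | e
    · exact Or.inl ⟨eΦ.trans ((MulEquiv.subgroupCongr e).trans Subgroup.topEquiv)⟩
    · exact Or.inr (Or.inl ⟨eΦ.trans ((MulEquiv.subgroupCongr e).trans
        ((Subgroup.prodEquiv _ _).trans (MulEquiv.prodCongr Subgroup.topEquiv (MulEquiv.refl _))))⟩)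
    · exact Or.inr (Or.inr ⟨eΦ.trans (MulEquiv.subgroupCongr e)⟩)

end Cfsg.Agent.S3687
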