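import Cfsg.Statements.S3693
import Cfsg.Agent.Lib.ThompsonWielandt.Action
-- import your own Cfsg.Agent.* helpers here

set_option autoImplicit false
open Cfsg

namespace Cfsg.Agent.S3693

open CfsgLib.ThompsonWielandt CfsgLib.Components.Bender MulAction Subgroup

/-- Let a finite group G act faithfully and primitively on a set Ω, let a and b be points such that the orbit Δ of b under the stabilizer H of a has length d ≥ 2, and consider the permutation group induced on Δ by the elements of H fixing b. If that induced group has trivial Fitting subgroup (no non-trivial nilpotent normal subgroup), then the two-point stabilizer of a and b has trivial Fitting subgroup and the order of H divides d! · ((d - 1)!)^d. -/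
theorem result {G Ω : Type*} [Group G] [Finite G] [MulAction G Ω] [FaithfulSMul G Ω] [Finite Ω]
    (hprim : MulAction.IsPreprimitive G Ω) (a b : Ω) (d : ℕ) (hd : Nat.card (MulAction.orbit (MulAction.stabilizer G a) b) = d) (h2 : 2 ≤ d)
    (hF : Cfsg.fittingSubgroup ↥(((MulAction.stabilizer G b).subgroupOf (MulAction.stabilizer G a)).map (MulAction.toPermHom (MulAction.stabilizer G a) (MulAction.orbit (MulAction.stabilizer G a) b))) = ⊥) :
    Cfsg.fittingSubgroup ↥(MulAction.stabilizer G a ⊓ MulAction.stabilizer G b) = ⊥ ∧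
      Nat.card (MulAction.stabilizer G a) ∣ Nat.factorial d * (Nat.factorial (d - 1)) ^ d := by
  subst hd
  have h := pair_stabilizer hprim a b h2
  set X := MulAction.stabilizer G a with hX
  set Y := MulAction.stabilizer G b with hY
  set π := MulAction.toPermHom X (MulAction.orbit X b)
  have hle : fitIn (X ⊓ Y) ≤ co X Y := by
    let f : ↥(X ⊓ Y) →* ↥((Y.subgroupOf X).map π) :=
      MonoidHom.codRestrict (π.comp (Subgroup.inclusion (inf_le_left : X ⊓ Y ≤ X))) _ fun z =>
        ⟨Subgroup.inclusion inf_le_left z, z.2.2, rfl⟩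
    have hf : Function.Surjective f := by
      rintro ⟨_, x, hx, rfl⟩
      exact ⟨⟨x, x.2, hx⟩, Subtype.ext rfl⟩
    haveI : ((Cfsg.fittingSubgroup ↥(X ⊓ Y)).map f).Normal := Subgroup.Normal.map inferInstance f hf
    haveI := CfsgLib.Solvable.Cores.fittingSubgroup_isNilpotent (G := ↥(X ⊓ Y))
    have hb : (Cfsg.fittingSubgroup ↥(X ⊓ Y)).map f = ⊥ := by
      have h1 := CfsgLib.Solvable.Cores.le_fittingSubgroup (N := (Cfsg.fittingSubgroup ↥(X ⊓ Y)).map f)
        (Group.nilpotent_of_surjective _ (MonoidHom.subgroupMap_surjective f _))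
      exact le_bot_iff.mp (hF ▸ h1)
    rintro _ ⟨z, hz, rfl⟩
    have h1 : f z = 1 := Subgroup.mem_bot.mp (hb ▸ Subgroup.mem_map_of_mem f hz)
    refine mem_co.mpr ⟨z.2.1, fun x hx => MulAction.mem_stabilizer_iff.mpr ?_⟩
    have h2 := congrArg Subtype.val (DFunLike.congr_fun (congrArg Subtype.val h1)
      ⟨x⁻¹ • b, ⟨⟨x⁻¹, inv_mem hx⟩, rfl⟩⟩)
    change (z : G) • x⁻¹ • b = x⁻¹ • b at h2
    rw [mul_smul, mul_smul, show (X ⊓ Y).subtype z = (z : G) from rfl, h2, smul_inv_smul]
  have hfit := fitIn_inf_eq_bot h hle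
  refine ⟨(Subgroup.map_eq_bot_iff_of_injective _ (X ⊓ Y).subtype_injective).mp hfit, ?_⟩
  by_cases hbot : co X (co Y X) = ⊥ ∨ co Y (co X Y) = ⊥
  · rcases hbot with hb | hb
    · exact card_dvd_of_bot h hb
    · exact card_dvd_symm h hb
  · push Not at hbot
    obtain ⟨p, hp, hPp, -⟩ := h.exists_isPGroup hbot.1 hbot.2
    haveI := Fact.mk hp
    refine absurd (le_bot_iff.mp ?_) hbot.1
    rw [← hfit]
    refine (le_coreIn hPp (le_inf (co_le_left _ _) ((co_le_right _ _).trans (co_le_left _ _))) ?_).trans
      (coreIn_le_fitIn p _)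
    exact inf_le_left.trans (le_normalizer_co _ _)

end Cfsg.Agent.S3693
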