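import Cfsg.Statements.S3696
import Mathlib

set_option linter.style.haveILetI false

set_option autoImplicit false
open Cfsg

namespace Cfsg.Agent.S3696

/-- The arithmetic-geometric mean inequality for lists of natural numbers. -/
theorem amgm (L : List ℕ) : L.prod * L.length ^ L.length ≤ L.sum ^ L.length := by
  rcases L.length.eq_zero_or_pos with h | h
  · rw [List.eq_nil_of_length_eq_zero h]; simp
  have key := Real.geom_mean_le_arith_mean (Finset.univ : Finset (Fin L.length)) (fun _ => (1 : ℝ))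
    (fun i => ((L.get i : ℕ) : ℝ)) (fun _ _ => zero_le_one) (by simp [h]) (fun i _ => Nat.cast_nonneg _)
  simp only [Finset.sum_const, Finset.card_univ, Fintype.card_fin, nsmul_eq_mul, mul_one, Real.rpow_one,
    one_mul] at key
  have hp' : ∏ i : Fin L.length, ((L.get i : ℕ) : ℝ) = (L.prod : ℝ) := by
    rw [← Nat.cast_prod, ← List.prod_ofFn, List.ofFn_get]
  have hs' : ∑ i : Fin L.length, ((L.get i : ℕ) : ℝ) = (L.sum : ℝ) := by
    rw [← Nat.cast_sum, ← List.sum_ofFn, List.ofFn_get]
  rw [hp', hs'] at key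
  have hlpos : (0 : ℝ) < L.length := by exact_mod_cast h
  have := pow_le_pow_left₀ (Real.rpow_nonneg (Nat.cast_nonneg _) _) key L.length
  rw [Real.rpow_inv_natCast_pow (Nat.cast_nonneg _) h.ne', div_pow, le_div_iff₀ (pow_pos hlpos _)] at this
  exact_mod_cast this

/-- Splitting a prime power into `r` factors. -/
theorem exists_split {p : ℕ} (hp : 2 ≤ p) : ∀ (r e : ℕ), 1 ≤ r → r ≤ e →
    ∃ L : List ℕ, L.length = r ∧ L.prod = p ^ e ∧ L.sum ≤ p ^ e := by
  intro r
  induction r with
  | zero => omega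
  | succ r ih =>
    intro e _ hre
    rcases r.eq_zero_or_pos with rfl | hr
    · exact ⟨[p ^ e], by simp, by simp, by simp⟩
    obtain ⟨L, h1, h2, h3⟩ := ih (e - 1) hr (by omega)
    refine ⟨p :: L, by simp [h1], by rw [List.prod_cons, h2, ← pow_succ', show e - 1 + 1 = e by omega], ?_⟩
    rw [List.sum_cons]
    have h4 : 2 ≤ p ^ (e - 1) := hp.trans (by
      conv_lhs => rw [← pow_one p]
      exact Nat.pow_le_pow_right (by omega) (by omega))
    calc p + L.sum ≤ p + p ^ (e - 1) := by omega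
      _ ≤ p * p ^ (e - 1) := by nlinarith
      _ = p ^ e := by rw [← pow_succ', show e - 1 + 1 = e by omega]

variable {Ω : Type*} [Fintype Ω] [DecidableEq Ω]

/-- The points moved by a subgroup of permutations. -/
def moved (B : Subgroup (Equiv.Perm Ω)) [DecidablePred (fun x : Ω => ∃ b ∈ B, b x ≠ x)] : Finset Ω :=
  Finset.univ.filter fun x => ∃ b ∈ B, b x ≠ x

open Classical in
/-- Induction over point stabilisers in an abelian `p`-group of permutations. -/
theorem exists_list (p : ℕ) (hp : p.Prime) (A : Subgroup (Equiv.Perm Ω)) (hA : IsPGroup p A)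
    (hab : IsMulCommutative A) : ∀ (c : ℕ) (B : Subgroup (Equiv.Perm Ω)), Nat.card B ≤ c → B ≤ A →
      ∀ k : ℕ, Nat.card {x : B // x ^ p = 1} = p ^ k →
        ∃ L : List ℕ, L.length = k ∧ L.prod = Nat.card B ∧ L.sum ≤ (moved B).card := by
  intro c
  haveI := Fact.mk hp
  induction c using Nat.strong_induction_on with
  | _ c ih =>
  intro B hBc hBA k hk
  have hcomm : ∀ a ∈ B, ∀ b ∈ B, a * b = b * a := fun a ha b hb => by
    simpa using congrArg Subtype.val (hab.is_comm.comm ⟨a, hBA ha⟩ ⟨b, hBA hb⟩)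
  -- the socle
  let T : Subgroup B :=
    { carrier := {x | x ^ p = 1}
      one_mem' := one_pow p
      mul_mem' := fun {x y} (hx : x ^ p = 1) (hy : y ^ p = 1) => by
        show (x * y) ^ p = 1
        rw [Commute.mul_pow (show Commute x y from Subtype.ext (hcomm x x.2 y y.2)), hx, hy, one_mul]
      inv_mem' := fun {x} (hx : x ^ p = 1) => by show x⁻¹ ^ p = 1; rw [inv_pow, hx, inv_one] }
  have hTk : Nat.card T = p ^ k := hk
  have hBp : IsPGroup p B := hA.to_le hBA
  by_cases hB1 : Nat.card B = 1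
  · have hk0 : k = 0 := by
      have h1 : Nat.card T ∣ 1 := hB1 ▸ T.card_subgroup_dvd_card
      rw [hTk, Nat.dvd_one] at h1
      rcases Nat.pow_eq_one.1 h1 with h2 | h2
      · exact absurd h2 hp.one_lt.ne'
      · exact h2
    exact ⟨[], by simp [hk0], by rw [List.prod_nil, hB1], by simp⟩
  -- an element of order `p` and a point it moves
  obtain ⟨j, hj⟩ := IsPGroup.iff_card.1 hBp
  have hj0 : j ≠ 0 := fun h => hB1 (by rw [hj, h, pow_zero])
  obtain ⟨z, hz⟩ := exists_prime_orderOf_dvd_card' (G := B) p (hj ▸ dvd_pow_self p hj0)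
  obtain ⟨w, hw⟩ : ∃ w, (z : Equiv.Perm Ω) w ≠ w := by
    by_contra h
    push Not at h
    rw [show z = 1 from Subtype.ext (Equiv.ext h), orderOf_one] at hz
    exact hp.one_lt.ne hz
  let S : Subgroup B := MulAction.stabilizer B w
  set B' := S.map B.subtype with hB'
  have hB'B : B' ≤ B := Subgroup.map_subtype_le S
  have hcardB' : Nat.card B' = Nat.card S :=
    (Nat.card_congr (S.equivMapOfInjective _ B.subtype_injective).toEquiv).symm
  have hzS : z ∉ S := fun h => hw h
  obtain ⟨e, he⟩ := hBp.index S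
  have hzT : z ∈ T := by show z ^ p = 1; rw [← hz]; exact pow_orderOf_eq_one z
  obtain ⟨r₀, hr₀⟩ := (hBp.to_subgroup T).index (S.subgroupOf T)
  obtain ⟨k', hk'⟩ := IsPGroup.iff_card.1 ((hBp.to_subgroup T).to_subgroup (S.subgroupOf T))
  have hkk : k = k' + r₀ := by
    apply Nat.pow_right_injective hp.two_le
    show p ^ k = p ^ (k' + r₀)
    rw [← hTk, pow_add, ← hk', ← hr₀, Subgroup.card_mul_index]
  have hr1 : 1 ≤ r₀ := by
    rw [Nat.one_le_iff_ne_zero]
    rintro rfl
    rw [pow_zero, Subgroup.index_eq_one, Subgroup.subgroupOf_eq_top] at hr₀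
    exact hzS (hr₀ hzT)
  have hre : r₀ ≤ e := by
    rw [← Nat.pow_le_pow_iff_right hp.one_lt, ← hr₀, ← he, ← Subgroup.relIndex_top_right S]
    exact Subgroup.relIndex_le_of_le_right le_top (by rw [Subgroup.relIndex_top_right]; exact Subgroup.index_ne_zero_of_finite)
  have hlt : Nat.card B' < Nat.card B := by
    rw [hcardB', ← S.card_mul_index, he]
    exact lt_mul_of_one_lt_right Nat.card_pos (Nat.one_lt_pow (by omega) hp.one_lt)
  have hk'B : Nat.card {x : B' // x ^ p = 1} = p ^ k' := by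
    rw [← hk']
    refine Nat.card_congr
      { toFun := fun x => ⟨⟨⟨x.1.1, hB'B x.1.2⟩, Subtype.ext (congrArg Subtype.val x.2 :)⟩, ?_⟩
        invFun := fun x => ⟨⟨x.1.1.1, ⟨x.1.1, x.2, rfl⟩⟩, Subtype.ext (congrArg Subtype.val x.1.2 :)⟩
        left_inv := fun x => rfl
        right_inv := fun x => rfl }
    obtain ⟨y, hy, hyx⟩ := x.1.2
    rw [Subgroup.mem_subgroupOf]
    have heq : (⟨x.1.1, hB'B x.1.2⟩ : B) = y := Subtype.ext hyx.symm
    exact heq.symm ▸ hy
  obtain ⟨L₁, hl₁, hp₁, hs₁⟩ := ih (Nat.card B') (hlt.trans_le hBc) B' le_rfl (hB'B.trans hBA) k' hk'B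
  obtain ⟨L₂, hl₂, hp₂, hs₂⟩ := exists_split hp.two_le r₀ e hr1 hre
  refine ⟨L₁ ++ L₂, by rw [List.length_append, hl₁, hl₂, hkk], by
    rw [List.prod_append, hp₁, hp₂, hcardB', ← he, S.card_mul_index], ?_⟩
  rw [List.sum_append]
  have horb : S.index = (Set.toFinset (MulAction.orbit B w)).card := by
    rw [MulAction.index_stabilizer, Set.ncard_eq_toFinset_card']
  have hdis : Disjoint (moved B') (Set.toFinset (MulAction.orbit B w)) := by
    rw [Finset.disjoint_left]
    intro x hx hxo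
    obtain ⟨-, b, hb, hbx⟩ := Finset.mem_filter.1 hx
    obtain ⟨c, rfl⟩ := Set.mem_toFinset.1 hxo
    obtain ⟨b', hb', rfl⟩ := hb
    apply hbx
    show ((b' : Equiv.Perm Ω) * (c : Equiv.Perm Ω)) w = (c : Equiv.Perm Ω) w
    rw [hcomm b' b'.2 c c.2, Equiv.Perm.mul_apply, show (b' : Equiv.Perm Ω) w = w from hb']
  have hsub : moved B' ∪ Set.toFinset (MulAction.orbit B w) ⊆ moved B := by
    intro x hx
    refine Finset.mem_filter.2 ⟨Finset.mem_univ _, ?_⟩
    rcases Finset.mem_union.1 hx with h | h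
    · obtain ⟨-, b, hb, hbx⟩ := Finset.mem_filter.1 h
      exact ⟨b, hB'B hb, hbx⟩
    · obtain ⟨c, rfl⟩ := Set.mem_toFinset.1 h
      refine ⟨z, z.2, fun heq => hw ?_⟩
      have h2 : ((z : Equiv.Perm Ω) * (c : Equiv.Perm Ω)) w = (c : Equiv.Perm Ω) w := heq
      rw [hcomm z z.2 c c.2, Equiv.Perm.mul_apply] at h2
      exact (c : Equiv.Perm Ω).injective h2
  have := Finset.card_le_card hsub
  rw [Finset.card_union_of_disjoint hdis, ← horb, he] at this
  omega

/-- Let p be a prime, Ω a finite set with n ≥ p elements, and A an abelian p-subgroup of the symmetric group on Ω whose elements of order dividing p number p^k (so k is the rank of A). Then |A| · k^k ≤ n^k, that is, |A| ≤ (n/k)^k. -/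
theorem result {Ω : Type*} [Fintype Ω] [DecidableEq Ω]
    (p : ℕ) (hp : p.Prime) (hn : p ≤ Fintype.card Ω) (A : Subgroup (Equiv.Perm Ω)) (hA : IsPGroup p A) (hab : IsMulCommutative A)
    (k : ℕ) (hk : Nat.card {x : A // x ^ p = 1} = p ^ k) :
    Nat.card A * k ^ k ≤ Fintype.card Ω ^ k := by
  classical
  obtain ⟨L, hlen, hprod, hsum⟩ := exists_list p hp A hA hab (Nat.card A) A le_rfl le_rfl k hk
  rw [← hprod, ← hlen]
  refine (amgm L).trans (Nat.pow_le_pow_left (hsum.trans ?_) _)
  exact Finset.card_le_univ _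

end Cfsg.Agent.S3696
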