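import Cfsg.Statements.S3701
import Cfsg.Agent.Lib.Derangements.TIPairs

set_option autoImplicit false
open Cfsg
set_option linter.style.haveILetI false

namespace Cfsg.Agent.S3701

open scoped ComplexConjugate
open CfsgLib

abbrev D := DihedralGroup 3
abbrev D3 := D × D × D

def isR : D → Bool
  | .r _ => true
  | .sr _ => false

def sgnD : D →* ℤˣ where
  toFun d := if isR d then 1 else -1
  map_one' := rfl
  map_mul' := by decide

def co : Fin 3 → D3 →* D
  | 0 => MonoidHom.fst D (D × D)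
  | 1 => (MonoidHom.fst D D).comp (MonoidHom.snd D (D × D))
  | 2 => (MonoidHom.snd D D).comp (MonoidHom.snd D (D × D))

def par : D3 →* ℤˣ where
  toFun g := sgnD (co 0 g) * sgnD (co 1 g) * sgnD (co 2 g)
  map_one' := by simp
  map_mul' g h := by
    simp only [map_mul]
    ac_rfl

/-- The model of the group of order 108. -/
abbrev Mdl := ↥par.ker

def cM (k : Fin 3) : Mdl →* D := (co k).comp par.ker.subtype

def sgnM (k : Fin 3) : Mdl →* ℤˣ := sgnD.comp (cM k)

def rot (m : Mdl) : Bool := isR (cM 0 m) && isR (cM 1 m) && isR (cM 2 m)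

def tf (i : ZMod 3) : Fin 3 := i

def act : D → Fin 3 → Fin 3
  | .r i, x => x + tf i
  | .sr i, x => -(x + tf i)

theorem act_mul : ∀ d d' x, act (d * d') x = act d (act d' x) := by decide +kernel
theorem act_one : ∀ x, act 1 x = x := by decide

def phi : Mdl →* Equiv.Perm (Fin 9) where
  toFun g :=
    { toFun := fun n =>
        finProdFinEquiv ((finProdFinEquiv (m := 3) (n := 3)).symm n |>.1,
          act (cM ((finProdFinEquiv (m := 3) (n := 3)).symm n).1 g)
            ((finProdFinEquiv (m := 3) (n := 3)).symm n).2)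
      invFun := fun n =>
        finProdFinEquiv ((finProdFinEquiv (m := 3) (n := 3)).symm n |>.1,
          act (cM ((finProdFinEquiv (m := 3) (n := 3)).symm n).1 g⁻¹)
            ((finProdFinEquiv (m := 3) (n := 3)).symm n).2)
      left_inv := fun n => by
        simp only [Equiv.symm_apply_apply]
        rw [← act_mul, ← map_mul, inv_mul_cancel, map_one, act_one]
        exact Equiv.apply_symm_apply _ n
      right_inv := fun n => by
        simp only [Equiv.symm_apply_apply]
        rw [← act_mul, ← map_mul, mul_inv_cancel, map_one, act_one]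
        exact Equiv.apply_symm_apply _ n }
  map_one' := Equiv.ext fun n => by
    simp only [map_one, Equiv.coe_fn_mk, act_one, Equiv.Perm.coe_one, id_eq]
    exact Equiv.apply_symm_apply _ n
  map_mul' g h := Equiv.ext fun n => by
    simp only [map_mul, Equiv.coe_fn_mk, Equiv.Perm.coe_mul, Function.comp_apply,
      Equiv.symm_apply_apply, act_mul]

theorem phi_inj : ∀ m : Mdl, phi m = 1 → m = 1 := by decide +kernel

def g1 : Mdl := ⟨(.r 1, 1, 1), by decide⟩
def g2 : Mdl := ⟨(1, .r 1, 1), by decide⟩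
def g3 : Mdl := ⟨(1, 1, .r 1), by decide⟩
def g4 : Mdl := ⟨(.sr 2, .sr 2, 1), by decide⟩
def g5 : Mdl := ⟨(.sr 2, 1, .sr 2), by decide⟩

theorem word : ∀ m : Mdl, ∃ a b c : Fin 3, ∃ i j : Fin 2,
    m = g1 ^ a.val * g2 ^ b.val * g3 ^ c.val * g4 ^ i.val * g5 ^ j.val := by decide +kernel

abbrev genSet : Set (Equiv.Perm (Fin 9)) := {Equiv.swap (0 : Fin 9) 1 * Equiv.swap 1 2,
  Equiv.swap (3 : Fin 9) 4 * Equiv.swap 4 5, Equiv.swap (6 : Fin 9) 7 * Equiv.swap 7 8,
  Equiv.swap (0 : Fin 9) 1 * Equiv.swap 3 4, Equiv.swap (0 : Fin 9) 1 * Equiv.swap 6 7}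

theorem phi_gen : phi g1 = Equiv.swap (0 : Fin 9) 1 * Equiv.swap 1 2 ∧
    phi g2 = Equiv.swap (3 : Fin 9) 4 * Equiv.swap 4 5 ∧
    phi g3 = Equiv.swap (6 : Fin 9) 7 * Equiv.swap 7 8 ∧
    phi g4 = Equiv.swap (0 : Fin 9) 1 * Equiv.swap 3 4 ∧
    phi g5 = Equiv.swap (0 : Fin 9) 1 * Equiv.swap 6 7 := by decide +kernel

theorem range_phi : phi.range = Subgroup.closure genSet := by
  obtain ⟨e1, e2, e3, e4, e5⟩ := phi_gen
  apply le_antisymm
  · rintro _ ⟨m, rfl⟩
    obtain ⟨a, b, c, i, j, rfl⟩ := word m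
    simp only [map_mul, map_pow]
    rw [e1, e2, e3, e4, e5]
    exact mul_mem (mul_mem (mul_mem (mul_mem
      (pow_mem (Subgroup.subset_closure (by simp [genSet])) _)
      (pow_mem (Subgroup.subset_closure (by simp [genSet])) _))
      (pow_mem (Subgroup.subset_closure (by simp [genSet])) _))
      (pow_mem (Subgroup.subset_closure (by simp [genSet])) _))
      (pow_mem (Subgroup.subset_closure (by simp [genSet])) _)
  · rw [Subgroup.closure_le]
    intro g hg
    simp only [genSet, Set.mem_insert_iff, Set.mem_singleton_iff] at hg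
    rcases hg with rfl | rfl | rfl | rfl | rfl
    exacts [⟨g1, e1⟩, ⟨g2, e2⟩, ⟨g3, e3⟩, ⟨g4, e4⟩, ⟨g5, e5⟩]

noncomputable def mdlEquiv : Mdl ≃* ↥(Subgroup.closure genSet) :=
  (MonoidHom.ofInjective ((injective_iff_map_eq_one phi).mpr phi_inj)).trans
    (MulEquiv.subgroupCongr range_phi)

theorem card_mdl : Nat.card Mdl = 108 := by
  rw [Nat.card_eq_fintype_card]
  decide +kernel

theorem rot_iff : ∀ m : Mdl, rot m = true ↔ m ^ 27 = 1 := by decide +kernel
theorem rot_cube : ∀ m : Mdl, rot m = true → m ^ 3 = 1 := by decide +kernel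
theorem rot_comm : ∀ m : Mdl, rot m = true → ∀ m' : Mdl, rot m' = true → m * m' = m' * m := by
  decide +kernel
theorem rot_sq : ∀ m : Mdl, rot (m * m) = true := by decide +kernel
theorem rot_card : (Finset.univ.filter fun m : Mdl => rot m = true).card = 27 := by decide +kernel
theorem rot_ker : ∀ m : Mdl, sgnM 0 m = 1 → sgnM 1 m = 1 → rot m = true := by decide +kernel

/-! ### The test functions -/

def isCyc : D → Bool
  | .r i => i != 0
  | .sr _ => false

def rotMat : DihedralGroup 3 → Matrix (Fin 2) (Fin 2) ℤ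
  | .r i => if i = 0 then 1 else if i = 1 then !![0, -1; 1, -1] else !![-1, 1; -1, 0]
  | .sr i => !![0, 1; 1, 0] *
      (if i = 0 then 1 else if i = 1 then !![0, -1; 1, -1] else !![-1, 1; -1, 0])

def rotHom : D →* Matrix (Fin 2) (Fin 2) ℤ where
  toFun := rotMat
  map_one' := rfl
  map_mul' := by decide +kernel

def d2 (k : Fin 3) (m : Mdl) : ℤ := (rotHom (cM k m)).trace

def fv (k : Fin 3) (m : Mdl) : ℤ := if isCyc (cM k m) then 3 else 0
def fw (k : Fin 3) (m : Mdl) : ℤ := (sgnM 1 m : ℤ) * fv k m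
def fu (m : Mdl) : ℤ :=
  1 + (sgnM 0 m : ℤ) + (sgnM 1 m : ℤ) + (sgnM 2 m : ℤ) - d2 1 m * d2 2 m

theorem fv_eq : ∀ k m, fv k m = 1 + (sgnM k m : ℤ) - d2 k m := by decide +kernel

theorem fv_supp : ∀ k (m : Mdl), fv k m ≠ 0 → m * m ≠ 1 := by decide +kernel
theorem fu_supp : ∀ (m : Mdl), fu m ≠ 0 → m * m ≠ 1 := by decide +kernel

theorem gen_one : Cfsg.IsGeneralizedCharacter Mdl (fun _ => (1 : ℂ)) :=
  Char.IsCharacter.isGeneralizedCharacter Char.isCharacter_one

theorem gen_sgn (k : Fin 3) :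
    Cfsg.IsGeneralizedCharacter Mdl (fun m => ((sgnM k m : ℤ) : ℂ)) := TIPairs.gen_hom _

theorem gen_d2 (k : Fin 3) : Cfsg.IsGeneralizedCharacter Mdl (fun m => (d2 k m : ℂ)) :=
  TIPairs.gen_matrix (rotHom.comp (cM k))

theorem gen_fv (k : Fin 3) : Cfsg.IsGeneralizedCharacter Mdl (fun m => (fv k m : ℂ)) := by
  have h := TIPairs.gen_sub (TIPairs.gen_add gen_one (gen_sgn k)) (gen_d2 k)
  convert h using 1
  funext m
  simp [fv_eq]

theorem gen_fw (k : Fin 3) : Cfsg.IsGeneralizedCharacter Mdl (fun m => (fw k m : ℂ)) := by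
  convert TIPairs.gen_mul (gen_sgn 1) (gen_fv k) using 1
  funext m
  simp [fw]

theorem gen_fu : Cfsg.IsGeneralizedCharacter Mdl (fun m => (fu m : ℂ)) := by
  have h := TIPairs.gen_sub (TIPairs.gen_add (TIPairs.gen_add
    (TIPairs.gen_add gen_one (gen_sgn 0)) (gen_sgn 1)) (gen_sgn 2))
    (TIPairs.gen_mul (gen_d2 1) (gen_d2 2))
  convert h using 1
  funext m
  simp [fu]

/-! ### Sums in the model -/

def psum (F : Mdl → ℤ) : ℤ := ∑ x ∈ Finset.univ.filter (fun x : Mdl => x * x = 1 ∧ x ≠ 1),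
  ∑ y ∈ Finset.univ.filter (fun y : Mdl => y * y = 1 ∧ y ≠ 1), F (x * y)

theorem tab_v : ∀ k l, (∑ m, fv k m) = 108 ∧
    (∑ m, fv k m * fv l m) = if k = l then 324 else 108 := by decide +kernel
theorem tab_w : ∀ k : Fin 3, k ≠ 1 → (∑ m, fw k m) = 0 ∧ (∑ m, fw k m * fw k m) = 324 ∧
    ∀ l, (∑ m, fw k m * fv l m) = if k = l then 0 else 108 := by decide +kernel
theorem tab_u : (∑ m, fu m) = 108 ∧ (∑ m, fu m * fu m) = 540 ∧
    ∀ l, (∑ m, fu m * fv l m) = 216 := by decide +kernel
theorem psum_v : ∀ k, psum (fv k) = 648 := by decide +kernel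
theorem psum_w : ∀ k : Fin 3, k ≠ 1 → psum (fw k) = 0 := by decide +kernel
theorem psum_u : psum fu = 972 := by decide +kernel

/-! ### Homomorphisms on the model -/

def pat (i j : Fin 2) (m : Mdl) : ℤ := (sgnM 1 m : ℤ) ^ i.val * (sgnM 2 m : ℤ) ^ j.val

theorem pat_sgn : ∀ (i j : Fin 2) (k : Fin 3),
    (∀ l, (∑ m, fv l m * pat i j m) = if k = l then 108 else 0) →
      ∀ m, pat i j m = (sgnM k m : ℤ) := by decide +kernel

theorem conj_inv : g4 * g1 * g4⁻¹ = g1⁻¹ ∧ g4 * g2 * g4⁻¹ = g2⁻¹ ∧ g5 * g3 * g5⁻¹ = g3⁻¹ ∧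
    g1 ^ 3 = 1 ∧ g2 ^ 3 = 1 ∧ g3 ^ 3 = 1 ∧ g4 * g4 = 1 ∧ g5 * g5 = 1 := by decide +kernel

theorem pat_gen : ∀ i j, pat i j g1 = 1 ∧ pat i j g2 = 1 ∧ pat i j g3 = 1 ∧
    pat i j g4 = (-1) ^ i.val ∧ pat i j g5 = (-1) ^ j.val := by decide +kernel

theorem hom_eq_pat (μ : Mdl →* ℂˣ) : ∃ i j, ∀ m, (μ m : ℂ) = (pat i j m : ℂ) := by
  obtain ⟨c1, c2, c3, o1, o2, o3, o4, o5⟩ := conj_inv
  have key : ∀ g t : Mdl, t * g * t⁻¹ = g⁻¹ → g ^ 3 = 1 → (μ g : ℂ) = 1 := by
    intro g t h h3
    have h' := congrArg μ h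
    rw [map_mul, map_mul, map_inv, map_inv, mul_comm (μ t), mul_assoc, mul_inv_cancel, mul_one,
      eq_inv_iff_mul_eq_one] at h'
    have h3' := congrArg μ h3
    rw [map_pow, map_one, pow_succ, pow_two, h', one_mul] at h3'
    rw [h3', Units.val_one]
  have sq : ∀ g : Mdl, g * g = 1 → ∃ i : Fin 2, (μ g : ℂ) = (-1) ^ i.val := by
    intro g h
    have h' := congrArg (fun x => ((μ x : ℂˣ) : ℂ)) h
    simp only [map_mul, map_one, Units.val_mul, Units.val_one] at h'
    rcases mul_self_eq_one_iff.mp h' with e | e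
    · exact ⟨0, by simpa using e⟩
    · exact ⟨1, by simpa using e⟩
  obtain ⟨i, hi⟩ := sq g4 o4
  obtain ⟨j, hj⟩ := sq g5 o5
  refine ⟨i, j, fun m => ?_⟩
  obtain ⟨p1, p2, p3, p4, p5⟩ := pat_gen i j
  let χ : Mdl →* ℂ :=
    { toFun := fun m => (pat i j m : ℂ)
      map_one' := by simp [pat]
      map_mul' := fun a b => by
        simp only [pat, map_mul, Units.val_mul, mul_pow, Int.cast_mul]
        ring }
  have hχ : ∀ m, χ m = (pat i j m : ℂ) := fun _ => rfl
  rw [← hχ]
  obtain ⟨a, b, c, i', j', rfl⟩ := word m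
  simp only [map_mul, map_pow]
  simp only [Units.val_mul, Units.val_pow_eq_pow_val, hχ, p1, p2, p3, p4, p5,
    key g1 g4 c1 o1, key g2 g4 c2 o2, key g3 g5 c3 o3, hi, hj, Int.cast_one, Int.cast_pow,
    Int.cast_neg]

/-! ### Arithmetic -/

theorem pair_arith {a b T U g : ℝ} (hg : 0 < g) (ha : 0 < a) (hb : b = a + 1) (hU : U = T)
    (hQ : 108 * (T ^ 2 / a - U ^ 2 / b) = g * 648) : T ^ 2 = 6 * g * a * b := by
  subst hU hb
  field_simp at hQ
  linear_combination hQ / 108

theorem w_arith {a b T U z V g ρ : ℝ} (p q : ℤ) (hp : p = 0 ∨ p = 1) (hq : q = 0 ∨ q = 1)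
    (hρ : ρ = 1 ∨ ρ = -1) (hg : 0 < g) (ha : 0 < a) (hb : 0 < b) (hz : 0 < z)
    (hT : T ^ 2 = 6 * g * a * (a + 1)) (hU : U ^ 2 = 6 * g * b * (b + 1))
    (e1 : p * a + (p - 1) * (a + 1) + q * b + (q - 1) * (b + 1) + ρ * z = 0)
    (e2 : (2 * p - 1) * T + (2 * q - 1) * U + ρ * V = 0)
    (e3 : (p / a + (p - 1) / (a + 1)) * T ^ 2 + (q / b + (q - 1) / (b + 1)) * U ^ 2
      + ρ * V ^ 2 / z = 0) : a = b ∧ T = U := by
  -- a general step: three terms with vanishing sums force proportionality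
  have step : ∀ x y s t : ℝ, 0 < x → 0 < y → (s = 1 ∨ s = -1) → (t = 1 ∨ t = -1) →
      s * x + t * y + ρ * z = 0 → s * T + t * U + ρ * V = 0 →
      s * T ^ 2 / x + t * U ^ 2 / y + ρ * V ^ 2 / z = 0 → T * y = U * x := by
    intro x y s t hx hy hs ht f1 f2 f3
    have hρ2 : ρ * ρ = 1 := by rcases hρ with rfl | rfl <;> norm_num
    have hs2 : s * s = 1 := by rcases hs with rfl | rfl <;> norm_num
    have ht2 : t * t = 1 := by rcases ht with rfl | rfl <;> norm_num
    have hzv : z = -ρ * (s * x + t * y) := by linear_combination ρ * f1 - z * hρ2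
    have hVv : V = -ρ * (s * T + t * U) := by linear_combination ρ * f2 - V * hρ2
    have f4 : s * T ^ 2 * y * z + t * U ^ 2 * x * z + ρ * V ^ 2 * x * y = 0 := by
      field_simp at f3
      linear_combination f3
    rw [hzv, hVv] at f4
    have hsq : (T * y - U * x) ^ 2 * (s * t) = 0 := by
      rcases hρ with rfl | rfl <;> rcases hs with rfl | rfl <;> rcases ht with rfl | rfl <;>
        first
        | linear_combination f4
        | linear_combination -f4
    have hst : s * t ≠ 0 := by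
      rcases hs with rfl | rfl <;> rcases ht with rfl | rfl <;> norm_num
    have := (mul_eq_zero.mp hsq).resolve_right hst
    exact sub_eq_zero.mp (pow_eq_zero_iff (n := 2) (by norm_num) |>.mp this)
  -- the comparison of squares
  have cmp : ∀ x y : ℝ, T * y = U * x → a * (a + 1) * y ^ 2 = b * (b + 1) * x ^ 2 := by
    intro x y h
    have : 6 * g * (a * (a + 1) * y ^ 2 - b * (b + 1) * x ^ 2) = 0 := by
      linear_combination (T * y + U * x) * h - y ^ 2 * hT + x ^ 2 * hU
    exact sub_eq_zero.mp ((mul_eq_zero.mp this).resolve_left (by positivity))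
  have fin : a = b → T * (b + 1) = U * (a + 1) ∨ T * b = U * a → a = b ∧ T = U := by
    rintro rfl (h | h)
    · exact ⟨rfl, mul_right_cancel₀ (by positivity) h⟩
    · exact ⟨rfl, mul_right_cancel₀ ha.ne' h⟩
  have hab : 0 < a * b := by positivity
  rcases hp with rfl | rfl <;> rcases hq with rfl | rfl <;> push_cast at e1 e2 e3
  · have h := step (a + 1) (b + 1) (-1) (-1) (by positivity) (by positivity) (.inr rfl) (.inr rfl)
      (by linear_combination e1) (by linear_combination e2) (by linear_combination e3)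
    have h2 := cmp _ _ h
    refine fin ?_ (.inl h)
    have h3 : (a + 1) * (b + 1) * (a - b) = 0 := by linear_combination h2
    exact sub_eq_zero.mp ((mul_eq_zero.mp h3).resolve_left (by positivity))
  · have h := step (a + 1) b (-1) 1 (by positivity) hb (.inr rfl) (.inl rfl)
      (by linear_combination e1) (by linear_combination e2) (by linear_combination e3)
    have h2 := cmp _ _ h
    have h3 : b * (a + 1) * (a * b - (b + 1) * (a + 1)) = 0 := by linear_combination h2
    have h4 := (mul_eq_zero.mp h3).resolve_left (by positivity)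
    nlinarith
  · have h := step a (b + 1) 1 (-1) ha (by positivity) (.inl rfl) (.inr rfl)
      (by linear_combination e1) (by linear_combination e2) (by linear_combination e3)
    have h2 := cmp _ _ h
    have h3 : a * (b + 1) * ((a + 1) * (b + 1) - b * a) = 0 := by linear_combination h2
    have h4 := (mul_eq_zero.mp h3).resolve_left (by positivity)
    nlinarith
  · have h := step a b 1 1 ha hb (.inl rfl) (.inl rfl)
      (by linear_combination e1) (by linear_combination e2) (by linear_combination e3)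
    have h2 := cmp _ _ h
    refine fin ?_ (.inr h)
    have h3 : a * b * (b - a) = 0 := by linear_combination h2
    exact (sub_eq_zero.mp ((mul_eq_zero.mp h3).resolve_left (by positivity))).symm

theorem u_arith {a T z V g ρ : ℝ} (i : ℤ) (hi : 0 ≤ i ∧ i ≤ 3) (hρ : ρ = 1 ∨ ρ = -1) (hg : 0 < g)
    (ha : 0 < a) (hz : 0 < z) (hT : T ^ 2 = 6 * g * a * (a + 1))
    (e1 : 1 + i * a + (i - 3) * (a + 1) + ρ * z = 0)
    (e2 : (2 * i - 3) * T + ρ * V = 0)
    (e3 : (i / a + (i - 3) / (a + 1)) * T ^ 2 + ρ * V ^ 2 / z = 9 * g) : a = 1 := by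
  have hρ2 : ρ * ρ = 1 := by rcases hρ with rfl | rfl <;> norm_num
  have hzv : z = -ρ * (1 + i * a + (i - 3) * (a + 1)) := by linear_combination ρ * e1 - z * hρ2
  have hVv : V = -ρ * (2 * i - 3) * T := by linear_combination ρ * e2 - V * hρ2
  have ha1 : 0 < a + 1 := by linarith
  have f1 : (i * (a + 1) + (i - 3) * a) * T ^ 2 * z + ρ * V ^ 2 * (a * (a + 1))
      = 9 * g * a * (a + 1) * z := by
    field_simp at e3
    linear_combination e3
  rw [hVv, hT] at f1
  have f1' : 6 * g * a * (a + 1) * (i * (a + 1) + (i - 3) * a) * z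
      + ρ * ρ * ρ * (2 * i - 3) ^ 2 * (6 * g * a * (a + 1)) * (a * (a + 1))
      = 9 * g * a * (a + 1) * z := by
    linear_combination f1 - ρ ^ 3 * (2 * i - 3) ^ 2 * (a * (a + 1)) * hT
  rw [hρ2, one_mul, hzv] at f1'
  have f2 : (3 * g * a * (a + 1) * ρ) * ((2 * i * (a + 1) + 2 * (i - 3) * a - 3)
      * -(1 + i * a + (i - 3) * (a + 1)) + 2 * (2 * i - 3) ^ 2 * (a * (a + 1))) = 0 := by
    linear_combination f1'
  have hρ0 : ρ ≠ 0 := by rcases hρ with rfl | rfl <;> norm_num
  have f3 := (mul_eq_zero.mp f2).resolve_left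
    (mul_ne_zero (by positivity) hρ0)
  obtain ⟨h0, h3⟩ := hi
  interval_cases i <;> push_cast at f3 <;> nlinarith

/-- The elementary argument for a fixed-point-free group of type `(3, 3)`. -/
theorem cube_eq_one {G : Type*} [Group G] [Finite G] (Q : Subgroup G) [Q.Normal] (x y : G)
    (hxy : x * y = y * x) (hx : x ^ 3 = 1) (hy : y ^ 3 = 1)
    (hfpf : ∀ t ∈ ({x, y, x * y, x * y ^ 2, x ^ 2} : Set G), ∀ q ∈ Q, t * q = q * t → q = 1)
    (q : G) (hq : q ∈ Q) : q ^ 3 = 1 := by
  have tele : ∀ t : G, t ^ 3 = 1 → (∀ p ∈ Q, t * p = p * t → p = 1) →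
      ∀ p ∈ Q, p * (t * p * t⁻¹) * (t ^ 2 * p * (t ^ 2)⁻¹) = 1 := by
    intro t ht hf p hp
    let f : Q → Q := fun r => ⟨(r : G)⁻¹ * (t * r * t⁻¹),
      Q.mul_mem (Q.inv_mem r.2) (Subgroup.Normal.conj_mem inferInstance _ r.2 t)⟩
    have hinj : Function.Injective f := by
      intro a b hab
      have e : (a : G)⁻¹ * (t * a * t⁻¹) = (b : G)⁻¹ * (t * b * t⁻¹) := congrArg Subtype.val hab
      have hc : t * ((b : G) * (a : G)⁻¹) = (b : G) * (a : G)⁻¹ * t := by
        calc t * ((b : G) * (a : G)⁻¹)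
            = b * ((b : G)⁻¹ * (t * b * t⁻¹)) * (t * a * t⁻¹)⁻¹ * t := by group
          _ = _ := by rw [← e]; group
      exact Subtype.ext (mul_inv_eq_one.mp (hf _ (Q.mul_mem b.2 (Q.inv_mem a.2)) hc)).symm
    obtain ⟨r, hr⟩ := Finite.injective_iff_surjective.mp hinj ⟨p, hp⟩
    have e : (r : G)⁻¹ * (t * r * t⁻¹) = p := congrArg Subtype.val hr
    rw [← e]
    calc _ = (r : G)⁻¹ * ((t * t * t) * r * (t * t * t)⁻¹) := by group
      _ = (r : G)⁻¹ * (t ^ 3 * r * (t ^ 3)⁻¹) := by simp only [pow_succ, pow_zero, one_mul]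
      _ = 1 := by rw [ht]; group
  have c : ∀ t : G, ∀ a b : G, t * (a * b) * t⁻¹ = (t * a * t⁻¹) * (t * b * t⁻¹) := by
    intro t a b; group
  have hxyp : ∀ i j : ℕ, x ^ i * y ^ j = y ^ j * x ^ i := fun i j =>
    (Commute.pow_pow hxy i j).eq
  -- the nine conjugates
  let P : ℕ → ℕ → G := fun i j => (x ^ i * y ^ j) * q * (x ^ i * y ^ j)⁻¹
  have hP : ∀ i j, P i j ∈ Q := fun i j => Subgroup.Normal.conj_mem inferInstance _ hq _
  have hmul : ∀ i j k l, (x ^ k * y ^ l) * P i j * (x ^ k * y ^ l)⁻¹ = P (k + i) (l + j) := by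
    intro i j k l
    have e : x ^ k * y ^ l * (x ^ i * y ^ j) = x ^ (k + i) * y ^ (l + j) := by
      rw [pow_add, pow_add, mul_assoc, ← mul_assoc (y ^ l), ← hxyp i l]
      simp only [mul_assoc]
    simp only [P]
    rw [← e]
    group
  have hx3 : ∀ i j, P (i + 3) j = P i j := fun i j => by simp only [P, pow_add, hx, mul_one]
  have hy3 : ∀ i j, P i (j + 3) = P i j := fun i j => by simp only [P, pow_add, hy, mul_one]
  have comm_of : ∀ t : G, t ^ 3 = 1 → (∀ p ∈ Q, t * p = p * t → p = 1) →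
      (∀ p ∈ Q, t ^ 2 * p = p * t ^ 2 → p = 1) →
      ∀ p ∈ Q, Commute p (t * p * t⁻¹) := by
    intro t ht hf hf2 p hp
    have h1 := tele t ht hf p hp
    have h2 := tele (t ^ 2) (by rw [← pow_mul, pow_mul', ht, one_pow]) hf2 p hp
    rw [show (t ^ 2) ^ 2 = t by rw [← pow_mul, show 2 * 2 = 3 + 1 from rfl, pow_add, ht, one_mul,
      pow_one]] at h2
    have h1' : t ^ 2 * p * (t ^ 2)⁻¹ = (t * p * t⁻¹)⁻¹ * p⁻¹ := by
      rw [← mul_inv_rev]; exact eq_inv_of_mul_eq_one_right h1
    rw [h1'] at h2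
    have h3 : p * ((t * p * t⁻¹)⁻¹ * p⁻¹) * (t * p * t⁻¹) = 1 := h2
    have h4 : p * ((t * p * t⁻¹)⁻¹ * p⁻¹) = (t * p * t⁻¹)⁻¹ := eq_inv_of_mul_eq_one_left h3
    rw [← mul_assoc] at h4
    exact Commute.inv_right_iff.mp (mul_inv_eq_iff_eq_mul.mp h4)
  have f1 := hfpf x (by simp)
  have f2 := hfpf y (by simp)
  have f3 := hfpf (x * y) (by simp)
  have f4 := hfpf (x * y ^ 2) (by simp)
  have f5 := hfpf (x ^ 2) (by simp)
  have q0 : P 0 0 = q := by simp [P]
  have Hx := tele x hx f1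
  have Hy := tele y hy f2 q hq
  have Hxy := tele (x * y) (by rw [Commute.mul_pow hxy 3, hx, hy, one_mul]) f3 q hq
  have Hxy2 := tele (x * y ^ 2) (by
    rw [Commute.mul_pow (Commute.pow_right hxy 2) 3, hx, ← pow_mul, pow_mul', hy, one_pow, one_mul])
    f4 q hq
  have e1 : q * P 1 0 * P 2 0 = 1 := by simpa [P] using Hx q hq
  have e2 : q * P 0 1 * P 0 2 = 1 := by simpa [P] using Hy
  have e3 : q * P 1 1 * P 2 2 = 1 := by
    have : (x * y) ^ 2 = x ^ 2 * y ^ 2 := Commute.mul_pow hxy 2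
    simpa [P, this] using Hxy
  have e4 : q * P 1 2 * P 2 1 = 1 := by
    have : (x * y ^ 2) ^ 2 = x ^ 2 * y ^ 1 := by
      rw [Commute.mul_pow (Commute.pow_right hxy 2) 2, ← pow_mul, show 2 * 2 = 3 + 1 from rfl, pow_add,
        hy, one_mul]
    simpa [P, this] using Hxy2
  have e5 : P 0 1 * P 1 1 * P 2 1 = 1 := by
    have h := Hx (P 0 1) (hP _ _)
    have a1 := hmul 0 1 1 0
    have a2 := hmul 0 1 2 0
    simp only [pow_zero, pow_one, mul_one, add_zero, zero_add] at a1 a2
    rwa [a1, a2] at h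
  have e6 : P 0 2 * P 1 2 * P 2 2 = 1 := by
    have h := Hx (P 0 2) (hP _ _)
    have a1 := hmul 0 2 1 0
    have a2 := hmul 0 2 2 0
    simp only [pow_zero, pow_one, mul_one, add_zero, zero_add] at a1 a2
    rwa [a1, a2] at h
  -- commutation
  have cy : Commute q (P 0 1) := by
    have h := comm_of y hy f2 (fun p hp hc => f2 p hp (by
      have hyi : y = (y ^ 2) ^ 2 := by
        rw [← pow_mul, show 2 * 2 = 3 + 1 from rfl, pow_add, hy, one_mul, pow_one]
      rw [hyi]; exact (Commute.pow_left hc 2).eq)) q hq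
    simpa [P] using h
  have cx : ∀ p ∈ Q, Commute p (x * p * x⁻¹) := comm_of x hx f1 f5
  have h11 : Commute q (P 1 1) := by
    have h := comm_of (x * y) (by rw [Commute.mul_pow hxy 3, hx, hy, one_mul]) f3 (fun p hp hc => f3 p hp (by
      have hi : x * y = ((x * y) ^ 2) ^ 2 := by
        rw [← pow_mul, show 2 * 2 = 3 + 1 from rfl, pow_add, Commute.mul_pow hxy 3, hx, hy, one_mul,
          one_mul, pow_one]
      rw [hi]; exact (Commute.pow_left hc 2).eq)) q hq
    simpa [P] using h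
  -- now compute
  have b02 : P 0 2 = (P 0 1)⁻¹ * q⁻¹ := by
    rw [← mul_inv_rev]; exact eq_inv_of_mul_eq_one_right e2
  have b22 : P 2 2 = (P 1 1)⁻¹ * q⁻¹ := by
    rw [← mul_inv_rev]; exact eq_inv_of_mul_eq_one_right e3
  have b21 : P 2 1 = (P 1 1)⁻¹ * (P 0 1)⁻¹ := by
    rw [← mul_inv_rev]; exact eq_inv_of_mul_eq_one_right e5
  have b12 : P 1 2 = (P 0 2)⁻¹ * (P 2 2)⁻¹ := by
    have := eq_inv_of_mul_eq_one_left e6
    calc P 1 2 = (P 0 2)⁻¹ * (P 0 2 * P 1 2 * P 2 2) * (P 2 2)⁻¹ := by group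
      _ = _ := by rw [e6]; group
  rw [b12, b02, b22, b21] at e4
  have hyx : Commute (P 0 1) (P 1 1) := by
    have := cx (P 0 1) (hP _ _)
    have a1 := hmul 0 1 1 0
    simp only [pow_zero, pow_one, mul_one, add_zero, zero_add] at a1
    rwa [a1] at this
  -- e4 : q * ((q * P 0 1) * (q * P 1 1)) * ((P 1 1)⁻¹ * (P 0 1)⁻¹) = 1
  have : q * (q * P 0 1 * (q * P 1 1)) * ((P 1 1)⁻¹ * (P 0 1)⁻¹) = q ^ 3 := by
    calc q * (q * P 0 1 * (q * P 1 1)) * ((P 1 1)⁻¹ * (P 0 1)⁻¹)
        = q * q * (P 0 1 * q) * (P 0 1)⁻¹ := by group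
      _ = q * q * (q * P 0 1) * (P 0 1)⁻¹ := by rw [cy.eq]
      _ = q * q * q := by group
      _ = q ^ 3 := by simp only [pow_succ, pow_zero, one_mul]
  rw [← this]
  simpa [mul_inv_rev] using e4

/-- Let H₀ ≤ Sym(9) be generated by the 3-cycles (1 2 3), (4 5 6), (7 8 9) and the involutions (1 2)(4 5), (1 2)(7 8) (a group of order 108, elementary abelian of order 27 extended by a four-group). Let G be a finite group with a subgroup H ≅ H₀, and T ≤ H of order 27 (a Sylow 3-subgroup of H) with N_G(T) = H and C_G(t) ≤ H for every t ≠ 1 in T. Then G = H. -/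
theorem result {G : Type*} [Group G] [Finite G] (H : Subgroup G)
    (hH : Nonempty (↥H ≃* ↥(Subgroup.closure ({Equiv.swap (0 : Fin 9) 1 * Equiv.swap 1 2, Equiv.swap (3 : Fin 9) 4 * Equiv.swap 4 5, Equiv.swap (6 : Fin 9) 7 * Equiv.swap 7 8,
        Equiv.swap (0 : Fin 9) 1 * Equiv.swap 3 4, Equiv.swap (0 : Fin 9) 1 * Equiv.swap 6 7} : Set (Equiv.Perm (Fin 9))))))
    (T : Subgroup G) (hTH : T ≤ H) (hT : Nat.card T = 27) (hN : Subgroup.normalizer (T : Set G) = H)
    (hC : ∀ t ∈ T, t ≠ 1 → Subgroup.centralizer ({t} : Set G) ≤ H) : H = ⊤ := by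
  classical
  cases nonempty_fintype G
  obtain ⟨e0⟩ := hH
  let e : Mdl ≃* H := mdlEquiv.trans e0.symm
  have hHN : ∀ h ∈ H, ∀ t ∈ T, h * t * h⁻¹ ∈ T := by
    intro h hh t ht
    rw [← hN] at hh
    exact (Subgroup.mem_normalizer_iff.mp hh t).mp ht
  have hcardH : Nat.card H = 108 := by rw [← Nat.card_congr e.toEquiv, card_mdl]
  -- identify the subgroup of rotations
  have hTrot : ∀ m : Mdl, (e m : G) ∈ T ↔ rot m = true := by
    let T' : Subgroup Mdl := (T.subgroupOf H).comap e.toMonoidHom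
    have hc : Nat.card T' = 27 := by
      rw [← hT]
      exact Nat.card_congr
        ((e.toEquiv.subtypeEquiv (q := fun h : H => (h : G) ∈ T) fun m => Iff.rfl).trans
          (Equiv.subtypeSubtypeEquivSubtype fun hx => hTH hx))
    have hsub : ∀ m ∈ T', rot m = true := by
      intro m hm
      refine (rot_iff m).mpr ?_
      have := pow_card_eq_one' (x := (⟨m, hm⟩ : T'))
      rw [hc] at this
      exact congrArg Subtype.val this
    have hset : (Finset.univ.filter fun m => m ∈ T') =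
        (Finset.univ.filter fun m : Mdl => rot m = true) := by
      refine Finset.eq_of_subset_of_card_le (fun m hm => ?_) ?_
      · simpa using hsub m (by simpa using hm)
      · rw [rot_card, ← Fintype.card_subtype, ← Nat.card_eq_fintype_card]
        exact hc.ge
    intro m
    have := Finset.ext_iff.mp hset m
    simp only [Finset.mem_filter, Finset.mem_univ, true_and] at this
    exact this
  have hT_of_cube : ∀ g ∈ H, g ^ 3 = 1 → g ∈ T := by
    intro g hg h3
    obtain ⟨m, hm⟩ := e.surjective ⟨g, hg⟩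
    have hg' : (e m : G) = g := by rw [hm]
    rw [← hg', hTrot]
    refine (rot_iff m).mpr (e.injective ?_)
    rw [map_pow, map_one]
    refine Subtype.ext ?_
    rw [Subgroup.coe_pow, hg', show (27 : ℕ) = 3 * 9 from rfl, pow_mul, h3, one_pow,
      OneMemClass.coe_one]
  have hTmodel : ∀ t ∈ T, ∃ m, rot m = true ∧ (e m : G) = t := by
    intro t ht
    obtain ⟨m, hm⟩ := e.surjective ⟨t, hTH ht⟩
    have : (e m : G) = t := by rw [hm]
    exact ⟨m, (hTrot m).mp (this ▸ ht), this⟩
  have hTcomm : ∀ s ∈ T, ∀ t ∈ T, s * t = t * s := by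
    intro s hs t ht
    obtain ⟨m, hm, rfl⟩ := hTmodel s hs
    obtain ⟨m', hm', rfl⟩ := hTmodel t ht
    rw [← Subgroup.coe_mul, ← map_mul, rot_comm m hm m' hm', map_mul, Subgroup.coe_mul]
  have hTcube : ∀ t ∈ T, t ^ 3 = 1 := by
    intro t ht
    obtain ⟨m, hm, rfl⟩ := hTmodel t ht
    rw [← Subgroup.coe_pow, ← map_pow, rot_cube m hm, map_one, OneMemClass.coe_one]
  -- the trivial intersection property
  let A : G → Prop := fun a => a * a ≠ 1
  have hTI : TIPairs.IsTI H A := by
    refine ⟨fun a ha hA x hx => ?_, fun a _ hA => hA⟩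
    have haT : a * a ∈ T := by
      obtain ⟨m, hm⟩ := e.surjective ⟨a, ha⟩
      have : (e m : G) = a := by rw [hm]
      rw [← this, ← Subgroup.coe_mul, ← map_mul, hTrot]
      exact rot_sq m
    have hx2 : x⁻¹ * (a * a) * x ∈ T := by
      apply hT_of_cube
      · rw [show x⁻¹ * (a * a) * x = x⁻¹ * a * x * (x⁻¹ * a * x) by group]
        exact H.mul_mem hx hx
      · rw [show x⁻¹ * (a * a) * x = x⁻¹ * (a * a) * (x⁻¹)⁻¹ by group, conj_pow, hTcube _ haT]
        group
    have hle : ∀ u ∈ T, x * u * x⁻¹ ∈ T := by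
      intro u hu
      apply hT_of_cube
      · refine hC (a * a) haT hA (Subgroup.mem_centralizer_singleton_iff.mpr ?_)
        calc x * u * x⁻¹ * (a * a) = x * (u * (x⁻¹ * (a * a) * x)) * x⁻¹ := by group
          _ = x * (x⁻¹ * (a * a) * x * u) * x⁻¹ := by rw [hTcomm u hu _ hx2]
          _ = a * a * (x * u * x⁻¹) := by group
      · rw [conj_pow, hTcube u hu]
        group
    rw [← hN]
    exact Subgroup.mem_normalizer_iff.mpr fun u => ⟨hle u, fun hu => by
      let f : T → T := fun v => ⟨x * v * x⁻¹, hle v v.2⟩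
      have hf : Function.Surjective f := Finite.injective_iff_surjective.mp fun v w h => by
        simpa [f] using h
      obtain ⟨v, hv⟩ := hf ⟨_, hu⟩
      have h' : x * (v : G) * x⁻¹ = x * u * x⁻¹ := congrArg Subtype.val hv
      have : (v : G) = u := by simpa using h'
      exact this ▸ v.2⟩
  -- admissible functions
  have hsq : ∀ m : Mdl, m * m ≠ 1 → A (e m) := by
    intro m hm h
    apply hm
    apply e.injective
    rw [map_mul, map_one]
    exact Subtype.ext h
  have hAv : ∀ k, TIPairs.Adm H e A (fv k) := fun k =>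
    ⟨gen_fv k, fun m hm => hsq m (fv_supp k m hm)⟩
  have hAw : ∀ k, TIPairs.Adm H e A (fw k) := fun k =>
    ⟨gen_fw k, fun m hm => hsq m (fv_supp k m (right_ne_zero_of_mul hm))⟩
  have hAu : TIPairs.Adm H e A fu := ⟨gen_fu, fun m hm => hsq m (fu_supp m hm)⟩
  -- shorthand
  have h108 : (Nat.card Mdl : ℤ) = 108 := by rw [card_mdl]; rfl
  have hg : (0 : ℝ) < Nat.card G := by exact_mod_cast Nat.card_pos
  let d : Cfsg.IrrCharacter G → ℝ := TIPairs.deg
  let S : Cfsg.IrrCharacter G → ℝ := TIPairs.tee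
  let o : Cfsg.IrrCharacter G := TIPairs.one
  have hd1 : d o = 1 := TIPairs.deg_one
  have hS1 : S o = 0 := TIPairs.tee_one
  have inner : ∀ F F' : Mdl → ℤ, TIPairs.Adm H e A F → TIPairs.Adm H e A F' → ∀ n : ℤ,
      ∑ m, F m * F' m = 108 * n →
      ∑ χ, TIPairs.coef H e F χ * TIPairs.coef H e F' χ = n := by
    intro F F' hF hF' n hn
    have := TIPairs.sum_coef_mul hTI hF hF'
    rw [h108, hn] at this
    linarith
  have triv : ∀ F : Mdl → ℤ, TIPairs.Adm H e A F → ∀ n : ℤ, ∑ m, F m = 108 * n →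
      TIPairs.coef H e F o = n := by
    intro F hF n hn
    have := TIPairs.coef_one_mul hF
    rw [h108, hn] at this
    change TIPairs.coef H e F TIPairs.one = n
    linarith
  have quad : ∀ F : Mdl → ℤ, TIPairs.Adm H e A F →
      108 * ∑ χ, (TIPairs.coef H e F χ : ℝ) * S χ ^ 2 / d χ = Nat.card G * (psum F : ℝ) := by
    intro F hF
    have := TIPairs.sum_coef_tee_sq hTI hF
    rw [card_mdl] at this
    exact_mod_cast this
  -- the three exceptional pairs
  have hv : ∀ k, ∃ a b : Cfsg.IrrCharacter G, a ≠ o ∧ b ≠ o ∧ a ≠ b ∧ d b = d a + 1 ∧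
      S b = S a ∧ S a ^ 2 = 6 * (Nat.card G : ℝ) * d a * d b ∧
      TIPairs.coef H e (fv k) a = 1 ∧ TIPairs.coef H e (fv k) b = -1 ∧
      ∀ χ, χ ≠ o → χ ≠ a → χ ≠ b → TIPairs.coef H e (fv k) χ = 0 := by
    intro k
    have hn := inner _ _ (hAv k) (hAv k) 3 (by rw [(tab_v k k).2, if_pos rfl]; norm_num)
    have h1 := triv _ (hAv k) 1 (by rw [(tab_v k k).1]; norm_num)
    rw [← Finset.add_sum_erase _ _ (Finset.mem_univ o), h1] at hn
    obtain ⟨x, hx, y, hy, hxy, hcx, hcy, hrest⟩ :=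
      TIPairs.split_two (fun χ => TIPairs.coef H e (fv k) χ) (s := Finset.univ.erase o) (by linarith)
    have hxo := (Finset.mem_erase.mp hx).1
    have hyo := (Finset.mem_erase.mp hy).1
    have hsum : ∀ f : Cfsg.IrrCharacter G → ℝ, ∑ χ, (TIPairs.coef H e (fv k) χ : ℝ) * f χ =
        f o + ((TIPairs.coef H e (fv k) x : ℝ) * f x + (TIPairs.coef H e (fv k) y : ℝ) * f y) := by
      intro f
      rw [← Finset.add_sum_erase _ _ (Finset.mem_univ o), h1, Int.cast_one, one_mul,
        Finset.sum_eq_add x y hxy (fun χ hχ hne => by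
          rw [hrest χ hχ hne.1 hne.2, Int.cast_zero, zero_mul])
          (fun h => absurd hx h) (fun h => absurd hy h)]
    have e1 := TIPairs.sum_coef_deg hTI (hAv k)
    rw [hsum] at e1
    change d o + (_ * d x + _ * d y) = 0 at e1
    have e2 := TIPairs.sum_coef_tee hTI (hAv k)
    rw [hsum] at e2
    change S o + (_ * S x + _ * S y) = 0 at e2
    have e3 := quad _ (hAv k)
    simp only [mul_div_assoc] at e3
    rw [hsum, hS1, psum_v] at e3
    rw [hd1] at e1
    rw [hS1] at e2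
    obtain ⟨nx, hnx, hdx, -⟩ := TIPairs.exists_deg x
    obtain ⟨ny, hny, hdy, -⟩ := TIPairs.exists_deg y
    change d x = _ at hdx
    change d y = _ at hdy
    have px : (1 : ℝ) ≤ d x := by rw [hdx]; exact_mod_cast hnx
    have py : (1 : ℝ) ≤ d y := by rw [hdy]; exact_mod_cast hny
    rcases hcx with hcx | hcx <;> rcases hcy with hcy | hcy <;>
      simp only [hcx, hcy, Int.cast_one, Int.cast_neg] at e1 e2 e3
    · linarith
    · refine ⟨x, y, hxo, hyo, hxy, by linarith, by linarith, ?_, hcx, hcy, fun χ a b c =>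
        hrest χ (Finset.mem_erase.mpr ⟨a, Finset.mem_univ _⟩) b c⟩
      refine pair_arith hg (by linarith) (by linarith : d y = d x + 1) (U := S y) (by linarith) ?_
      push_cast at e3
      linear_combination e3
    · refine ⟨y, x, hyo, hxo, hxy.symm, by linarith, by linarith, ?_, hcy, hcx, fun χ a b c =>
        hrest χ (Finset.mem_erase.mpr ⟨a, Finset.mem_univ _⟩) c b⟩
      refine pair_arith hg (by linarith) (by linarith : d x = d y + 1) (U := S x) (by linarith) ?_
      push_cast at e3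
      linear_combination e3
    · linarith
  choose a b hao hbo hab hdb hSb hSq hca hcb hc0 using hv
  have vsum : ∀ k, ∀ f : Cfsg.IrrCharacter G → ℤ,
      ∑ χ, f χ * TIPairs.coef H e (fv k) χ = f o + (f (a k) - f (b k)) := by
    intro k f
    rw [← Finset.add_sum_erase _ _ (Finset.mem_univ o), triv _ (hAv k) 1 (by
      rw [(tab_v k k).1]; norm_num), mul_one, Finset.sum_eq_add (a k) (b k) (hab k)
        (fun χ hχ hne => by rw [hc0 k χ (Finset.mem_erase.mp hχ).1 hne.1 hne.2, mul_zero])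
        (fun h => absurd (Finset.mem_erase.mpr ⟨hao k, Finset.mem_univ _⟩) h)
        (fun h => absurd (Finset.mem_erase.mpr ⟨hbo k, Finset.mem_univ _⟩) h), hca, hcb]
    ring
  have cvo : ∀ k, TIPairs.coef H e (fv k) o = 1 := fun k =>
    triv _ (hAv k) 1 (by rw [(tab_v k k).1]; norm_num)
  have cv : ∀ k l, k ≠ l → TIPairs.coef H e (fv l) (a k) = 0 ∧
      TIPairs.coef H e (fv l) (b k) = 0 := by
    intro k l hkl
    have h := inner _ _ (hAv l) (hAv k) 1 (by rw [(tab_v l k).2, if_neg (Ne.symm hkl)]; norm_num)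
    rw [vsum, cvo] at h
    have heq : TIPairs.coef H e (fv l) (a k) = TIPairs.coef H e (fv l) (b k) := by linarith
    have tri : ∀ χ, χ ≠ o → TIPairs.coef H e (fv l) χ ≠ 0 → χ = a l ∨ χ = b l := by
      intro χ h1 h2
      by_contra hcon
      rw [not_or] at hcon
      exact h2 (hc0 l χ h1 hcon.1 hcon.2)
    have ha0 : TIPairs.coef H e (fv l) (a k) = 0 := by
      by_contra hne
      have hb' : TIPairs.coef H e (fv l) (b k) ≠ 0 := heq ▸ hne
      rcases tri _ (hao k) hne with ea | ea <;> rcases tri _ (hbo k) hb' with eb | eb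
      · exact hab k (ea.trans eb.symm)
      · rw [ea, eb, hca, hcb] at heq; omega
      · rw [ea, eb, hca, hcb] at heq; omega
      · exact hab k (ea.trans eb.symm)
    exact ⟨ha0, heq ▸ ha0⟩
  have dist : ∀ k l, k ≠ l → a k ≠ a l ∧ a k ≠ b l ∧ b k ≠ a l ∧ b k ≠ b l := by
    intro k l hkl
    obtain ⟨h1, h2⟩ := cv k l hkl
    refine ⟨?_, ?_, ?_, ?_⟩ <;> intro h <;>
      first
      | (rw [h, hca] at h1; exact one_ne_zero h1)
      | (rw [h, hcb] at h1; omega)
      | (rw [h, hca] at h2; exact one_ne_zero h2)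
      | (rw [h, hcb] at h2; omega)
  -- equal degrees
  have heqd : ∀ k l m : Fin 3, k ≠ 1 → l ≠ m → k ≠ l → k ≠ m →
      d (a l) = d (a m) ∧ S (a l) = S (a m) := by
    intro k l m hk hlm hkl hkm
    obtain ⟨t1, t2, t3⟩ := tab_w k hk
    let c : Cfsg.IrrCharacter G → ℤ := TIPairs.coef H e (fw k)
    have hco : c o = 0 := triv _ (hAw k) 0 (by rw [t1]; norm_num)
    have hdiff : ∀ j, k ≠ j → c (b j) = c (a j) - 1 := by
      intro j hj
      have h := inner _ _ (hAw k) (hAv j) 1 (by rw [t3 j, if_neg hj]; norm_num)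
      rw [vsum] at h
      change c o + (c (a j) - c (b j)) = 1 at h
      linarith
    have hn := inner _ _ (hAw k) (hAw k) 3 (by rw [t2]; norm_num)
    change ∑ χ, c χ * c χ = 3 at hn
    obtain ⟨d1, d2, d3, d4⟩ := dist l m hlm
    let t : Finset (Cfsg.IrrCharacter G) := {o, a l, b l, a m, b m}
    have hts : ∀ {R : Type} [CommRing R] (f : Cfsg.IrrCharacter G → R),
        ∑ χ ∈ t, f χ = f o + (f (a l) + (f (b l) + (f (a m) + f (b m)))) := by
      intro R _ f
      rw [Finset.sum_insert, Finset.sum_insert, Finset.sum_insert, Finset.sum_pair (hab m)]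
      · simp [d3, d4]
      · simp [hab l, d1, d2]
      · simp [Ne.symm (hao l), Ne.symm (hbo l), Ne.symm (hao m), Ne.symm (hbo m)]
    rw [← Finset.sum_sdiff (Finset.subset_univ t), hts, hco, hdiff l hkl, hdiff m hkm] at hn
    have hR : 0 ≤ ∑ χ ∈ Finset.univ \ t, c χ * c χ := Finset.sum_nonneg fun _ _ => mul_self_nonneg _
    have key : ∀ p : ℤ, 1 ≤ p * p + (p - 1) * (p - 1) ∧
        (p * p + (p - 1) * (p - 1) ≤ 3 → p = 0 ∨ p = 1) := by
      intro p
      constructor
      · rcases le_or_gt p 0 with h | h <;> nlinarith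
      · intro h
        have h1 : -2 < p ∧ p < 3 := by constructor <;> nlinarith
        obtain ⟨h1, h2⟩ := h1
        interval_cases p <;> simp_all
    obtain ⟨k1, k2⟩ := key (c (a l))
    obtain ⟨k3, k4⟩ := key (c (a m))
    have hp := k2 (by linarith)
    have hq := k4 (by linarith)
    have pe : ∀ p : ℤ, p = 0 ∨ p = 1 → p * p + (p - 1) * (p - 1) = 1 := by
      rintro p (rfl | rfl) <;> norm_num
    have := pe _ hp
    have := pe _ hq
    obtain ⟨z, hz, hcz, hrest⟩ := TIPairs.split_one c (s := Finset.univ \ t) (by linarith)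
    have hsum : ∀ f : Cfsg.IrrCharacter G → ℝ, ∑ χ, (c χ : ℝ) * f χ =
        (c z : ℝ) * f z + ((c (a l) : ℝ) * f (a l) + (((c (a l) : ℝ) - 1) * f (b l) +
          ((c (a m) : ℝ) * f (a m) + ((c (a m) : ℝ) - 1) * f (b m)))) := by
      intro f
      rw [← Finset.sum_sdiff (Finset.subset_univ t), hts, Finset.sum_eq_single z
        (fun χ hχ hne => by rw [hrest χ hχ hne, Int.cast_zero, zero_mul])
        (fun h => absurd hz h), hco, hdiff l hkl, hdiff m hkm]
      push_cast
      ring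
    have hρ : (c z : ℝ) = 1 ∨ (c z : ℝ) = -1 := by
      rcases hcz with h | h <;> simp [h]
    have e1 := TIPairs.sum_coef_deg hTI (hAw k)
    change ∑ χ, (c χ : ℝ) * d χ = 0 at e1
    rw [hsum, hdb, hdb] at e1
    have e2 := TIPairs.sum_coef_tee hTI (hAw k)
    change ∑ χ, (c χ : ℝ) * S χ = 0 at e2
    rw [hsum, hSb, hSb] at e2
    have e3 := quad _ (hAw k)
    change 108 * ∑ χ, (c χ : ℝ) * S χ ^ 2 / d χ = _ at e3
    simp only [mul_div_assoc] at e3
    rw [hsum, psum_w k hk, hdb, hdb, hSb, hSb] at e3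
    refine w_arith (c (a l)) (c (a m)) hp hq hρ hg (TIPairs.deg_pos _) (TIPairs.deg_pos _)
      (TIPairs.deg_pos z) (V := S z) (g := Nat.card G) ?_ ?_ ?_ ?_ ?_
    · rw [← hdb]; exact hSq l
    · rw [← hdb]; exact hSq m
    · linear_combination e1
    · linear_combination e2
    · push_cast at e3
      linear_combination e3 / 108
  obtain ⟨q12, s12⟩ := heqd 2 0 1 (by decide) (by decide) (by decide) (by decide)
  obtain ⟨q23, s23⟩ := heqd 0 1 2 (by decide) (by decide) (by decide) (by decide)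
  -- the degree is one
  have hlin : ∀ k, d (a k) = 1 := by
    have h0 : d (a 0) = 1 := by
      let c : Cfsg.IrrCharacter G → ℤ := TIPairs.coef H e fu
      have hco : c o = 1 := triv _ hAu 1 (by rw [tab_u.1]; norm_num)
      have hdiff : ∀ j, c (b j) = c (a j) - 1 := by
        intro j
        have h := inner _ _ hAu (hAv j) 2 (by rw [tab_u.2.2 j]; norm_num)
        rw [vsum] at h
        change c o + (c (a j) - c (b j)) = 2 at h
        linarith
      have hn := inner _ _ hAu hAu 5 (by rw [tab_u.2.1]; norm_num)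
      change ∑ χ, c χ * c χ = 5 at hn
      let t : Finset (Cfsg.IrrCharacter G) := {o, a 0, b 0, a 1, b 1, a 2, b 2}
      have hts : ∀ {R : Type} [CommRing R] (f : Cfsg.IrrCharacter G → R),
          ∑ χ ∈ t, f χ = f o + (f (a 0) + (f (b 0) + (f (a 1) + (f (b 1) + (f (a 2) + f (b 2)))))) := by
        intro R _ f
        obtain ⟨a1, a2, a3, a4⟩ := dist 0 1 (by decide)
        obtain ⟨a5, a6, a7, a8⟩ := dist 0 2 (by decide)
        obtain ⟨a9, a10, a11, a12⟩ := dist 1 2 (by decide)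
        rw [Finset.sum_insert, Finset.sum_insert, Finset.sum_insert, Finset.sum_insert,
          Finset.sum_insert, Finset.sum_pair (hab 2)]
        · simp [a11, a12]
        · simp [hab 1, a9, a10]
        · simp [a3, a4, a7, a8]
        · simp [hab 0, a1, a2, a5, a6]
        · simp [Ne.symm (hao 0), Ne.symm (hbo 0), Ne.symm (hao 1), Ne.symm (hbo 1),
            Ne.symm (hao 2), Ne.symm (hbo 2)]
      rw [← Finset.sum_sdiff (Finset.subset_univ t), hts, hco, hdiff, hdiff, hdiff] at hn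
      have hR : 0 ≤ ∑ χ ∈ Finset.univ \ t, c χ * c χ :=
        Finset.sum_nonneg fun _ _ => mul_self_nonneg _
      have key : ∀ p : ℤ, 1 ≤ p * p + (p - 1) * (p - 1) ∧
          (p * p + (p - 1) * (p - 1) ≤ 3 → (p = 0 ∨ p = 1) ∧
            p * p + (p - 1) * (p - 1) = 1) := by
        intro p
        constructor
        · rcases le_or_gt p 0 with h | h <;> nlinarith
        · intro h
          have h1 : -2 < p ∧ p < 3 := by constructor <;> nlinarith
          obtain ⟨h1, h2⟩ := h1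
          interval_cases p <;> simp_all
      obtain ⟨k1, k2⟩ := key (c (a 0))
      obtain ⟨k3, k4⟩ := key (c (a 1))
      obtain ⟨k5, k6⟩ := key (c (a 2))
      obtain ⟨p0, q0⟩ := k2 (by linarith)
      obtain ⟨p1, q1⟩ := k4 (by linarith)
      obtain ⟨p2, q2⟩ := k6 (by linarith)
      obtain ⟨z, hz, hcz, hrest⟩ := TIPairs.split_one c (s := Finset.univ \ t) (by linarith)
      have hsum : ∀ f : Cfsg.IrrCharacter G → ℝ, ∑ χ, (c χ : ℝ) * f χ =
          f o + ((c z : ℝ) * f z + ((c (a 0) : ℝ) * f (a 0) + (((c (a 0) : ℝ) - 1) * f (b 0) +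
            ((c (a 1) : ℝ) * f (a 1) + (((c (a 1) : ℝ) - 1) * f (b 1) +
            ((c (a 2) : ℝ) * f (a 2) + ((c (a 2) : ℝ) - 1) * f (b 2))))))) := by
        intro f
        rw [← Finset.sum_sdiff (Finset.subset_univ t), hts, Finset.sum_eq_single z
          (fun χ hχ hne => by rw [hrest χ hχ hne, Int.cast_zero, zero_mul])
          (fun h => absurd hz h), hco, hdiff, hdiff, hdiff]
        push_cast
        ring
      have e1 := TIPairs.sum_coef_deg hTI hAu
      change ∑ χ, (c χ : ℝ) * d χ = 0 at e1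
      rw [hsum, hdb, hdb, hdb, hd1, ← q23, ← q12] at e1
      have e2 := TIPairs.sum_coef_tee hTI hAu
      change ∑ χ, (c χ : ℝ) * S χ = 0 at e2
      rw [hsum, hSb, hSb, hSb, hS1, ← s23, ← s12] at e2
      have e3 := quad _ hAu
      change 108 * ∑ χ, (c χ : ℝ) * S χ ^ 2 / d χ = _ at e3
      simp only [mul_div_assoc] at e3
      rw [hsum, psum_u, hdb, hdb, hdb, hSb, hSb, hSb, hS1, ← q23, ← q12, ← s23, ← s12] at e3
      refine u_arith (T := S (a 0)) (V := S z) (z := d z) (ρ := (c z : ℝ)) (g := (Nat.card G : ℝ))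
        (c (a 0) + c (a 1) + c (a 2)) ?_ ?_ hg (TIPairs.deg_pos _) (TIPairs.deg_pos _) ?_ ?_ ?_ ?_
      · rcases p0 with h | h <;> rcases p1 with h' | h' <;> rcases p2 with h'' | h'' <;>
          simp [h, h', h'']
      · rcases hcz with h | h <;> simp [h]
      · rw [← hdb]; exact hSq 0
      · push_cast; linear_combination e1
      · push_cast; linear_combination e2
      · push_cast at e3 ⊢; linear_combination e3 / 108
    intro k
    fin_cases k
    · exact h0
    · exact q12 ▸ h0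
    · exact q23 ▸ q12 ▸ h0
  -- the linear characters
  have hφ : ∀ k, ∃ φ : G →* ℂˣ, ∀ m : Mdl, (φ (e m) : ℂ) = ((sgnM k m : ℤ) : ℂ) := by
    intro k
    obtain ⟨φ, hφ⟩ := Char.exists_hom_of_apply_one_eq_one (Char.isCharacter_irr (a k))
      (by rw [← TIPairs.coe_deg, show TIPairs.deg (a k) = 1 from hlin k, Complex.ofReal_one])
    obtain ⟨i, j, hij⟩ := hom_eq_pat (φ.comp (H.subtype.comp e.toMonoidHom))
    have hij' : ∀ m, (φ (e m) : ℂ) = (pat i j m : ℂ) := hij
    suffices hl : ∀ l, (∑ m, fv l m * pat i j m) = if k = l then 108 else 0 from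
      ⟨φ, fun m => by rw [hij', pat_sgn i j k hl]⟩
    intro l
    have hc : TIPairs.coef H e (fv l) (a k) = if k = l then 1 else 0 := by
      split_ifs with h
      · rw [h]; exact hca l
      · exact (cv k l h).1
    have h := TIPairs.coe_coef_restrict (hAv l) (a k)
    simp only [Cfsg.classInner, hφ, hij', map_intCast, card_mdl, hc] at h
    have h2 : ((108 * if k = l then 1 else 0 : ℤ) : ℂ) = ((∑ m, fv l m * pat i j m : ℤ) : ℂ) := by
      push_cast
      split_ifs at h ⊢ <;> push_cast at h <;> linear_combination (108 : ℂ) * h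
    have h3 := Int.cast_injective h2
    rw [← h3]
    split_ifs <;> norm_num
  obtain ⟨φ0, hφ0⟩ := hφ 0
  obtain ⟨φ1, hφ1⟩ := hφ 1
  let K : Subgroup G := φ0.ker ⊓ φ1.ker
  have hKn : K.Normal := inferInstance
  have hKH : ∀ g ∈ H, g ∈ K ↔ g ∈ T := by
    intro g hg
    obtain ⟨m, hm⟩ := e.surjective ⟨g, hg⟩
    have hg' : (e m : G) = g := by rw [hm]
    rw [← hg', hTrot]
    have unit : ∀ u : ℤˣ, ((u : ℤ) : ℂ) = 1 ↔ u = 1 := by
      intro u
      rw [Int.cast_eq_one, Units.val_eq_one]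
    constructor
    · rintro ⟨h0, h1⟩
      have h0' : ((φ0 (e m) : ℂˣ) : ℂ) = 1 := by rw [MonoidHom.mem_ker.mp h0, Units.val_one]
      have h1' : ((φ1 (e m) : ℂˣ) : ℂ) = 1 := by rw [MonoidHom.mem_ker.mp h1, Units.val_one]
      rw [hφ0, unit] at h0'
      rw [hφ1, unit] at h1'
      exact rot_ker m h0' h1'
    · intro hr
      have hr' : isR (cM 0 m) = true ∧ isR (cM 1 m) = true := by
        simp only [rot, Bool.and_eq_true] at hr
        exact hr.1
      constructor <;> refine MonoidHom.mem_ker.mpr (Units.ext ?_)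
      · rw [hφ0, Units.val_one, unit]; exact if_pos hr'.1
      · rw [hφ1, Units.val_one, unit]; exact if_pos hr'.2
  have hTK : T ≤ K := fun t ht => (hKH t (hTH ht)).mpr ht
  -- transfer
  haveI : Fact (Nat.Prime 3) := ⟨Nat.prime_three⟩
  let T' : Subgroup K := T.subgroupOf K
  have hT'3 : IsPGroup 3 T' := IsPGroup.of_card (n := 3) (by
    rw [Nat.card_congr (Subgroup.subgroupOfEquivOfLe hTK).toEquiv, hT]; rfl)
  have hT'n : ∀ n : K, n ∈ Subgroup.normalizer (T' : Set K) → n ∈ T' := by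
    intro n hn
    refine (hKH n ?_).mp n.2
    rw [← hN, Subgroup.mem_normalizer_iff]
    intro u
    constructor
    · intro hu
      exact (Subgroup.mem_normalizer_iff.mp hn ⟨u, hTK hu⟩).mp hu
    · intro hu
      have huK : u ∈ K := by
        have := hKn.conj_mem _ (hTK hu) (n : G)⁻¹
        simpa [mul_assoc] using this
      exact (Subgroup.mem_normalizer_iff.mp hn ⟨u, huK⟩).mpr hu
  obtain ⟨P, hP⟩ := hT'3.exists_le_sylow
  have hPT : (P : Subgroup K) = T' := by
    by_contra hne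
    haveI : Group.IsNilpotent (P : Subgroup K) := P.isPGroup'.isNilpotent
    have hlt : T'.subgroupOf P < ⊤ := by
      rw [lt_top_iff_ne_top, Ne, Subgroup.subgroupOf_eq_top]
      exact fun h => hne (le_antisymm h hP)
    have h2 := normalizerCondition_of_isNilpotent (T'.subgroupOf P) hlt
    obtain ⟨w, hw, hw'⟩ := SetLike.exists_of_lt h2
    apply hw'
    refine Subgroup.mem_subgroupOf.mpr (hT'n w ?_)
    rw [Subgroup.mem_normalizer_iff] at hw ⊢
    intro u
    constructor
    · intro hu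
      exact (hw ⟨u, hP hu⟩).mp hu
    · intro hu
      have huP : u ∈ (P : Subgroup K) := by
        have := P.mul_mem (P.mul_mem ((P : Subgroup K).inv_mem w.2) (hP hu)) w.2
        simpa [mul_assoc] using this
      exact (hw ⟨u, huP⟩).mpr hu
  have hcom : Subgroup.normalizer ((P : Subgroup K) : Set K) ≤
      Subgroup.centralizer ((P : Subgroup K) : Set K) := by
    rw [hPT]
    intro n hn
    rw [Subgroup.mem_centralizer_iff]
    intro u hu
    exact Subtype.ext (hTcomm _ hu _ (hT'n n hn))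
  have hcompl := MonoidHom.ker_transferSylow_isComplement' P hcom
  let Q : Subgroup K := (MonoidHom.transferSylow P hcom).ker
  have hQn : Q.Normal := MonoidHom.normal_ker _
  have h3Q : Nat.Coprime 3 (Nat.card Q) := by
    have hidx : (P : Subgroup K).index = Nat.card Q := hcompl.index_eq_card
    exact (Nat.prime_three.coprime_iff_not_dvd).mpr (hidx ▸ P.not_dvd_index)
  have hfp : ∀ t : K, (t : G) ∈ T → t ≠ 1 → ∀ q ∈ Q, t * q = q * t → q = 1 := by
    intro t ht ht1 q hq hc
    have hqT : (q : G) ∈ T := by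
      refine (hKH _ (hC t ht (fun h => ht1 (Subtype.ext h)) ?_)).mp q.2
      exact Subgroup.mem_centralizer_singleton_iff.mpr (congrArg Subtype.val hc).symm
    have : q ∈ Q ⊓ (P : Subgroup K) := ⟨hq, by rw [hPT]; exact hqT⟩
    rwa [hcompl.disjoint.eq_bot, Subgroup.mem_bot] at this
  have hQ1 : ∀ q ∈ Q, q = 1 := by
    intro q hq
    let x : K := ⟨e g1, hTK ((hTrot g1).mpr (by decide +kernel))⟩
    let y : K := ⟨e g2, hTK ((hTrot g2).mpr (by decide +kernel))⟩
    have mk : ∀ t : K, ∀ m : Mdl, (t : G) = e m → rot m = true → m ≠ 1 →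
        ∀ q ∈ Q, t * q = q * t → q = 1 := by
      intro t m htm hm hm1
      refine hfp t (htm ▸ (hTrot m).mpr hm) fun h => hm1 (e.injective ?_)
      rw [map_one]
      exact Subtype.ext (by rw [← htm, h]; simp)
    have h3 : q ^ 3 = 1 := by
      refine cube_eq_one Q x y ?_ ?_ ?_ ?_ q hq
      · exact Subtype.ext (hTcomm _ ((hTrot g1).mpr (by decide +kernel)) _
          ((hTrot g2).mpr (by decide +kernel)))
      · exact Subtype.ext (by simpa [x] using hTcube _ ((hTrot g1).mpr (by decide +kernel)))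
      · exact Subtype.ext (by simpa [y] using hTcube _ ((hTrot g2).mpr (by decide +kernel)))
      · intro t ht
        simp only [Set.mem_insert_iff, Set.mem_singleton_iff] at ht
        rcases ht with rfl | rfl | rfl | rfl | rfl
        · exact mk _ g1 rfl (by decide +kernel) (by decide +kernel)
        · exact mk _ g2 rfl (by decide +kernel) (by decide +kernel)
        · exact mk _ (g1 * g2) (by simp [x, y]) (by decide +kernel) (by decide +kernel)
        · exact mk _ (g1 * g2 ^ 2) (by simp [x, y]) (by decide +kernel) (by decide +kernel)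
        · exact mk _ (g1 ^ 2) (by simp [x]) (by decide +kernel) (by decide +kernel)
    have ho : orderOf (⟨q, hq⟩ : Q) ∣ 3 := orderOf_dvd_of_pow_eq_one (Subtype.ext h3)
    have h1 : orderOf (⟨q, hq⟩ : Q) = 1 :=
      Nat.eq_one_of_dvd_coprimes h3Q ho (orderOf_dvd_natCard _)
    exact congrArg Subtype.val (orderOf_eq_one_iff.mp h1)
  have hQbot : Q = ⊥ := (Subgroup.eq_bot_iff_forall Q).mpr hQ1
  have hPtop : T' = ⊤ := by
    have h := hcompl
    change Subgroup.IsComplement' Q P at h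
    rw [hQbot, Subgroup.isComplement'_bot_left, hPT] at h
    exact h
  have hKT : K ≤ T := by rwa [Subgroup.subgroupOf_eq_top] at hPtop
  have hTn : T.Normal := (le_antisymm hKT hTK) ▸ hKn
  rw [← hN]
  exact Subgroup.normalizer_eq_top_iff.mpr hTn

end Cfsg.Agent.S3701
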