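import Cfsg.Statements.S3702
import Cfsg.Agent.S3701
import Cfsg.Agent.Lib.Derangements.A9Local
import Cfsg.Agent.Lib.Derangements.A9Arith
import Cfsg.Agent.Lib.Char.Virtual

set_option autoImplicit false
open Cfsg
set_option linter.style.haveILetI false
set_option linter.constructorNameAsVariable false

namespace Cfsg.Agent.S3702

open scoped ComplexConjugate
open CfsgLib CfsgLib.A9Model

theorem hom_trivial_or_sign (μ : Mdl →* ℂˣ) :
    (∀ m, μ m = 1) ∨ ∀ m, (μ m : ℂ) = ((ps m : ℤ) : ℂ) := by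
  obtain ⟨c1, c2, c3, c4, c5, -, -⟩ := conj_facts
  obtain ⟨x1, x2, -⟩ := gen_facts
  have inv_triv : ∀ g t : Mdl, t * g * t⁻¹ = g⁻¹ → g ^ 3 = 1 → μ g = 1 := by
    intro g t h h3
    have h' := congrArg μ h
    rw [map_mul, map_mul, map_inv, map_inv, mul_comm (μ t), mul_assoc, mul_inv_cancel, mul_one,
      eq_inv_iff_mul_eq_one] at h'
    have h3' := congrArg μ h3
    rw [map_pow, map_one, pow_succ, pow_two, h', one_mul] at h3'
    exact h3'
  have ha : μ ga = 1 := inv_triv ga gt c1 c2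
  have ht : μ gt = 1 := by
    have h := congrArg μ x2
    simp only [map_mul, map_inv, map_one] at h
    have h2 : μ gt * μ gt = 1 := by rw [← map_mul, c3, map_one]
    have e1 : ∀ u v : ℂˣ, u * v * u⁻¹ = v := fun u v => by
      rw [mul_comm u v, mul_inv_cancel_right]
    rw [e1, e1] at h
    rwa [h2, one_mul] at h
  have hb : μ gb = 1 := by
    have key : gf * gb * gf⁻¹ * gb = gb * gt * gb⁻¹ := by decide +kernel
    have h := congrArg μ key
    simp only [map_mul, map_inv, ht, mul_one, mul_inv_cancel] at h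
    rw [mul_comm (μ gf), mul_inv_cancel_right] at h
    have h3 := congrArg μ c4
    rw [map_pow, map_one, pow_succ, pow_two, h, one_mul] at h3
    exact h3
  have hform : ∀ m, μ m = if isR m.1.p then 1 else μ gf := by
    intro m
    conv_lhs => rw [← wrd_eq m]
    simp only [wrd, map_mul, map_pow, map_inv, apply_ite μ, map_one, ha, ht, hb, one_pow, mul_one,
      one_mul, inv_one, ite_self]
    match hp : m.1.p with
    | .r i => simp [top, hb, isR]
    | .sr i => simp [top, hb, isR]
  rcases mul_self_eq_one_iff.mp (show ((μ gf : ℂˣ) : ℂ) * (μ gf : ℂ) = 1 by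
    rw [← Units.val_mul, ← map_mul, c5, map_one, Units.val_one]) with h | h
  · refine Or.inl fun m => ?_
    rw [hform]
    split_ifs
    · rfl
    · exact Units.ext h
  · refine Or.inr fun m => ?_
    rw [hform]
    show _ = ((sgnD m.1.p : ℤ) : ℂ)
    have hs : sgnD m.1.p = if isR m.1.p then 1 else -1 := rfl
    rw [hs]
    split_ifs <;> simp [h]

/-- The embedding of the model of order 108. -/
def small (m : Mdl) (h : m.1.p = 1) : S3701.Mdl := ⟨(m.1.d), by
  have := m.2
  rw [MonoidHom.mem_ker] at this ⊢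
  change pd m.1.d * sgnD m.1.p = 1 at this
  rw [h, map_one, mul_one] at this
  exact this⟩

/-- The subgroup of the elements fixing the three blocks. -/
def blockKer : Subgroup Mdl where
  carrier := {m | m.1.p = 1}
  one_mem' := rfl
  mul_mem' {a b} ha hb := by
    show a.1.p * b.1.p = 1
    rw [show a.1.p = 1 from ha, show b.1.p = 1 from hb, mul_one]
  inv_mem' {a} ha := by
    show a.1.p⁻¹ = 1
    rw [show a.1.p = 1 from ha, inv_one]

def blockEquiv : blockKer ≃* S3701.Mdl where
  toFun m := small m.1 m.2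
  invFun x := ⟨⟨⟨x.1, 1⟩, by
    have := x.2
    rw [MonoidHom.mem_ker] at this ⊢
    change pd x.1 * sgnD 1 = 1
    rw [map_one, mul_one]
    exact this⟩, rfl⟩
  left_inv m := Subtype.ext (Subtype.ext (W.ext rfl m.2.symm))
  right_inv x := rfl
  map_mul' a b := Subtype.ext (by
    show a.1.1.d * perm a.1.1.p b.1.1.d = a.1.1.d * b.1.1.d
    rw [show a.1.1.p = 1 from a.2, perm_one])

set_option maxHeartbeats 4000000 in
/-- Let K ≤ Sym(9) be generated by (1 2 3), (1 4 7)(2 5 8)(3 6 9), (1 2)(4 5) and (1 4)(2 5)(3 6)(7 8) (the normalizer in Alt(9) of the elementary abelian group generated by (1 2 3), (4 5 6), (7 8 9)). Let G be a finite group with a subgroup H ≅ K and J = O₃(H). If C_G(j) ≤ H for every j ≠ 1 in J and J is strongly closed in H with respect to G (a G-conjugate of an element of J lying in H lies in J), then G = H. -/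
theorem result {G : Type*} [Group G] [Finite G] (H : Subgroup G)
    (hH : Nonempty (↥H ≃* ↥(Subgroup.closure ({Equiv.swap (0 : Fin 9) 1 * Equiv.swap 1 2,
        Equiv.swap (0 : Fin 9) 3 * Equiv.swap 3 6 * (Equiv.swap (1 : Fin 9) 4 * Equiv.swap 4 7) * (Equiv.swap (2 : Fin 9) 5 * Equiv.swap 5 8),
        Equiv.swap (0 : Fin 9) 1 * Equiv.swap 3 4, Equiv.swap (0 : Fin 9) 3 * Equiv.swap 1 4 * Equiv.swap 2 5 * Equiv.swap 6 7} : Set (Equiv.Perm (Fin 9))))))
    (J : Subgroup G) (hJ : J = (Cfsg.pCore 3 ↥H).map H.subtype)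
    (hC : ∀ j ∈ J, j ≠ 1 → Subgroup.centralizer ({j} : Set G) ≤ H) (hsc : Cfsg.IsStronglyClosed J H) : H = ⊤ := by
  classical
  cases nonempty_fintype G
  obtain ⟨e0⟩ := hH
  let e : Mdl ≃* H := mdlEquiv.trans e0.symm
  have heinj : ∀ {m m' : Mdl}, (e m : G) = e m' → m = m' := fun h => e.injective (Subtype.ext h)
  have hesurj : ∀ g ∈ H, ∃ m, (e m : G) = g := fun g hg => by
    obtain ⟨m, hm⟩ := e.surjective ⟨g, hg⟩
    exact ⟨m, by rw [hm]⟩
  have hemul : ∀ a b : Mdl, (e (a * b) : G) = e a * e b := fun a b => by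
    rw [map_mul, Subgroup.coe_mul]
  have heinv : ∀ a : Mdl, (e a⁻¹ : G) = (e a : G)⁻¹ := fun a => by
    rw [map_inv, Subgroup.coe_inv]
  have hepow : ∀ (a : Mdl) (n : ℕ), (e (a ^ n) : G) = (e a : G) ^ n := fun a n => by
    rw [map_pow, Subgroup.coe_pow]
  have heone : (e 1 : G) = 1 := by rw [map_one, OneMemClass.coe_one]
  -- the translations
  have htrN : ∀ g m, isTr m = true → isTr (g * m * g⁻¹) = true := by
    intro g m hm
    let S : Subgroup Mdl :=
      { carrier := {g | ∀ m, isTr m = true → isTr (g * m * g⁻¹) = true}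
        one_mem' := fun m hm => by simpa using hm
        mul_mem' := fun {a b} ha hb m hm => by
          rw [show a * b * m * (a * b)⁻¹ = a * (b * m * b⁻¹) * a⁻¹ by group]
          exact ha _ (hb m hm)
        inv_mem' := fun {a} ha m hm => by
          have hp : ∀ n : ℕ, ∀ m, isTr m = true → isTr (a ^ n * m * (a ^ n)⁻¹) = true := by
            intro n
            induction n with
            | zero => intro m hm; simpa using hm
            | succ n ih =>
              intro m hm
              rw [pow_succ, show a ^ n * a * m * (a ^ n * a)⁻¹ =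
                a ^ n * (a * m * a⁻¹) * (a ^ n)⁻¹ by group]
              exact ih _ (ha m hm)
          have hc : a⁻¹ = a ^ (orderOf a - 1) := by
            refine inv_eq_of_mul_eq_one_right ?_
            rw [← pow_succ', Nat.sub_add_cancel (orderOf_pos a), pow_orderOf_eq_one]
          rw [hc]
          exact hp _ m hm }
    suffices g ∈ S from this m hm
    have hga : ga ∈ S := fun m hm => tr_normal m hm _ (by simp [gens])
    have hgb : gb ∈ S := fun m hm => tr_normal m hm _ (by simp [gens])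
    have hgt : gt ∈ S := fun m hm => tr_normal m hm _ (by simp [gens])
    have hgf : gf ∈ S := fun m hm => tr_normal m hm _ (by simp [gens])
    have htop : ∀ p, top p ∈ S := by
      rintro (i | i)
      · exact S.pow_mem hgb _
      · exact S.mul_mem (S.pow_mem hgb _) hgf
    rw [← wrd_eq g, wrd]
    refine S.mul_mem (S.mul_mem (S.mul_mem (S.mul_mem (S.mul_mem (S.pow_mem hga _)
      (S.pow_mem ?_ _)) (S.pow_mem ?_ _)) ?_) ?_) (htop _)
    · exact S.mul_mem (S.mul_mem hgb hga) (S.inv_mem hgb)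
    · exact S.mul_mem (S.mul_mem (S.mul_mem hgb hgb) hga) hgb
    · split_ifs
      exacts [S.one_mem, hgt]
    · split_ifs
      exacts [S.one_mem, S.mul_mem (S.mul_mem hgb hgt) (S.inv_mem hgb)]
  -- identification of the 3-core
  have hJtr : ∀ m, (e m : G) ∈ J ↔ isTr m = true := by
    let T : Subgroup Mdl :=
      { carrier := {m | isTr m = true}
        one_mem' := tr_one
        mul_mem' := fun ha hb => tr_mul _ ha _ hb
        inv_mem' := fun {a} ha => by
          have : a⁻¹ = a * a := by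
            refine inv_eq_of_mul_eq_one_right ?_
            rw [← mul_assoc, ← pow_two, ← pow_succ, tr_cube a ha]
          show isTr a⁻¹ = true
          rw [this]
          exact tr_mul _ ha _ ha }
    let N : Subgroup H := T.map e.toMonoidHom
    have hNnorm : N.Normal := by
      refine ⟨fun n hn g => ?_⟩
      obtain ⟨t, ht, rfl⟩ := hn
      refine ⟨e.symm g * t * (e.symm g)⁻¹, htrN _ t ht, ?_⟩
      simp
    have hNp : IsPGroup 3 N := fun ⟨x, hx⟩ => by
      obtain ⟨t, ht, rfl⟩ := hx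
      refine ⟨1, Subtype.ext ?_⟩
      show (e.toMonoidHom t) ^ (3 ^ 1) = 1
      rw [pow_one, ← map_pow, tr_cube t ht, map_one]
    have hcore : Cfsg.pCore 3 H = N := by
      refine le_antisymm (sSup_le ?_) (le_sSup ⟨hNnorm, hNp⟩)
      rintro L ⟨hLn, hLp⟩ x hx
      have h81 : ∀ y ∈ L, (e.symm y) ^ 81 = 1 := by
        intro y hy
        obtain ⟨k, hk⟩ := hLp ⟨y, hy⟩
        have hk' : y ^ 3 ^ k = 1 := congrArg Subtype.val hk
        apply e.injective
        rw [map_pow, e.apply_symm_apply, map_one]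
        apply orderOf_dvd_iff_pow_eq_one.mp
        have h1 : orderOf y ∣ 81 * 8 := by
          have := orderOf_dvd_natCard y
          rwa [← Nat.card_congr e.toEquiv, card_mdl] at this
        have h2 : Nat.Coprime (orderOf y) 8 :=
          Nat.Coprime.coprime_dvd_left (orderOf_dvd_of_pow_eq_one hk')
            (Nat.Coprime.pow_left k (by norm_num))
        exact h2.dvd_of_dvd_mul_right h1
      have hc : ∀ t : Mdl, ((e.symm x)⁻¹ * (t * e.symm x * t⁻¹)) ^ 81 = 1 := by
        intro t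
        have := h81 _ (L.mul_mem (L.inv_mem hx) (hLn.conj_mem x hx (e t)))
        simpa using this
      exact ⟨e.symm x, tr_of_pow _ (h81 x hx) (hc gt) (hc gx), e.apply_symm_apply x⟩
    intro m
    rw [hJ, hcore]
    constructor
    · rintro ⟨h, ⟨t, ht, rfl⟩, he⟩
      rw [← heinj (show (e t : G) = e m from he)]
      exact ht
    · intro hm
      exact ⟨e m, ⟨m, hm, rfl⟩, rfl⟩
  have hJH : J ≤ H := hsc.1
  have hJmodel : ∀ j ∈ J, ∃ m, isTr m = true ∧ (e m : G) = j := fun j hj => by
    obtain ⟨m, rfl⟩ := hesurj j (hJH hj)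
    exact ⟨m, (hJtr m).mp hj, rfl⟩
  have hJcomm : ∀ i ∈ J, ∀ j ∈ J, i * j = j * i := by
    intro i hi j hj
    obtain ⟨a, ha, rfl⟩ := hJmodel i hi
    obtain ⟨b, hb, rfl⟩ := hJmodel j hj
    rw [← hemul, tr_comm a ha b hb, hemul]
  have hscJ : ∀ u ∈ J, ∀ x : G, x⁻¹ * u * x ∈ H → x⁻¹ * u * x ∈ J := by
    intro u hu x hx
    have := hsc.2 u hu x⁻¹ (by rwa [inv_inv])
    rwa [inv_inv] at this
  -- the normalizer
  have hHN : ∀ h ∈ H, h ∈ Subgroup.normalizer (J : Set G) := by
    intro h hh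
    obtain ⟨g, rfl⟩ := hesurj h hh
    refine Subgroup.mem_normalizer_iff.mpr fun u => ⟨fun hu => ?_, fun hu => ?_⟩
    · obtain ⟨m, hm, rfl⟩ := hJmodel u hu
      rw [← heinv, ← hemul, ← hemul, hJtr]
      exact htrN g m hm
    · obtain ⟨m, hm, he⟩ := hJmodel _ hu
      have : u = (e (g⁻¹ * m * g⁻¹⁻¹) : G) := by
        rw [hemul, hemul, heinv, heinv, he, heinv, inv_inv]; group
      rw [this, hJtr]
      exact htrN _ m hm
  let r3 : Mdl := trRep 2
  have hr3 : isTr r3 = true ∧ r3 ≠ 1 ∧ (clsN r3).val = 3 := by decide +kernel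
  have hNJ : Subgroup.normalizer (J : Set G) = H := by
    let Ns : Finset G := Finset.univ.filter fun g => g ∈ Subgroup.normalizer (J : Set G)
    obtain ⟨O, hO⟩ : ∃ O : Finset Mdl, ∀ m, m ∈ O ↔
        ∃ g ∈ Subgroup.normalizer (J : Set G), g * e r3 * g⁻¹ = e m :=
      ⟨Finset.univ.filter _, fun m => Finset.mem_filter_univ m⟩
    have hOclosed : ∀ m ∈ O, ∀ g : Mdl, g * m * g⁻¹ ∈ O := by
      intro m hm g
      obtain ⟨n, hn, he⟩ := (hO _).mp hm
      refine (hO _).mpr ⟨e g * n, mul_mem (hHN _ (e g).2) hn, ?_⟩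
      rw [hemul, hemul, heinv, ← he]; group
    have hOtr : ∀ m ∈ O, isTr m = true ∧ m ≠ 1 := by
      intro m hm
      obtain ⟨n, hn, he⟩ := (hO _).mp hm
      refine ⟨(hJtr m).mp (he ▸ (Subgroup.mem_normalizer_iff.mp hn _).mp ((hJtr r3).mpr hr3.1)),
        fun h => hr3.2.1 ?_⟩
      rw [h, heone, conj_eq_one_iff, ← heone] at he
      exact heinj he
    let w : Fin 3 → Bool := fun i => decide (trRep i ∈ O)
    have hOeq : O = Finset.univ.filter fun m : Mdl => isTr m = true ∧
        ((clsN m).val = 1 ∧ w 0 = true ∨ (clsN m).val = 2 ∧ w 1 = true ∨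
          (clsN m).val = 3 ∧ w 2 = true) := by
      ext m
      simp only [Finset.mem_filter, Finset.mem_univ, true_and, w, decide_eq_true_eq]
      constructor
      · intro hm
        obtain ⟨htr, hm1⟩ := hOtr m hm
        obtain ⟨i, hi, g, rfl⟩ := tr_orbit m htr hm1
        have hmem : trRep i ∈ O := by
          have := hOclosed _ hm g⁻¹
          simpa [mul_assoc] using this
        refine ⟨htr, ?_⟩
        fin_cases i
        · exact Or.inl ⟨hi, hmem⟩
        · exact Or.inr (Or.inl ⟨hi, hmem⟩)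
        · exact Or.inr (Or.inr ⟨hi, hmem⟩)
      · rintro ⟨htr, hcase⟩
        have hm1 : m ≠ 1 := by
          rintro rfl
          have : (clsN 1).val = 0 := by decide +kernel
          rcases hcase with h | h | h <;> omega
        obtain ⟨i, hi, g, rfl⟩ := tr_orbit m htr hm1
        apply hOclosed
        rcases hcase with ⟨h, hw⟩ | ⟨h, hw⟩ | ⟨h, hw⟩ <;> fin_cases i <;>
          simp only [Fin.isValue] at hi h ⊢ <;> first | omega | exact hw
    have hw2 : w 2 = true := by
      refine decide_eq_true ((hO _).mpr ⟨1, one_mem _, ?_⟩)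
      simp [r3]
    have hcardN : Ns.card = O.card * 81 := by
      obtain ⟨Cc, hcent, hCc⟩ : ∃ Cc : Finset Mdl, Cc.card = 81 ∧ ∀ c, c ∈ Cc ↔ c * r3 = r3 * c :=
        ⟨Finset.univ.filter fun c => c * r3 = r3 * c, by decide +kernel,
          fun c => Finset.mem_filter_univ c⟩
      rw [← hcent, ← smul_eq_mul, ← Finset.sum_const]
      let f : G → Mdl := fun g =>
        if h : ∃ m, g * e r3 * g⁻¹ = e m then h.choose else 1
      rw [Finset.card_eq_sum_card_fiberwise (s := Ns) (t := O) (f := f) ?_]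
      · refine Finset.sum_congr rfl fun m hm => ?_
        obtain ⟨g0, hg0, he0⟩ := (hO _).mp hm
        symm
        refine Finset.card_bij (fun c _ => g0 * e c) ?_ ?_ ?_
        · intro c hc
          rw [hCc] at hc
          refine Finset.mem_filter.mpr ⟨Finset.mem_filter.mpr ⟨Finset.mem_univ _,
            mul_mem hg0 (hHN _ (e c).2)⟩, ?_⟩
          have h1 : g0 * e c * e r3 * (g0 * e c)⁻¹ = e m := by
            rw [← he0, mul_assoc g0 (e c : G), ← hemul, hc, hemul]; group
          have hex : ∃ m, g0 * e c * e r3 * (g0 * e c)⁻¹ = e m := ⟨m, h1⟩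
          simp only [f, dif_pos hex]
          exact heinj (hex.choose_spec.symm.trans h1)
        · intro c _ c' _ h
          exact heinj (mul_left_cancel h)
        · intro g hg
          obtain ⟨hg1, hg2⟩ := Finset.mem_filter.mp hg
          have hgN := (Finset.mem_filter.mp hg1).2
          have hin : g * e r3 * g⁻¹ ∈ J :=
            (Subgroup.mem_normalizer_iff.mp hgN _).mp ((hJtr r3).mpr hr3.1)
          obtain ⟨m', -, hm'⟩ := hJmodel _ hin
          have hex : ∃ m, g * e r3 * g⁻¹ = e m := ⟨m', hm'.symm⟩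
          simp only [f, dif_pos hex] at hg2
          have h1 : g * e r3 * g⁻¹ = e m := hg2 ▸ hex.choose_spec
          have hH' : g0⁻¹ * g ∈ H := by
            refine hC _ ((hJtr r3).mpr hr3.1) (fun h => hr3.2.1 (heinj (h.trans heone.symm))) ?_
            refine Subgroup.mem_centralizer_singleton_iff.mpr ?_
            calc g0⁻¹ * g * e r3 = g0⁻¹ * (g * e r3 * g⁻¹) * g := by group
              _ = g0⁻¹ * (g0 * e r3 * g0⁻¹) * g := by rw [h1, he0]
              _ = e r3 * (g0⁻¹ * g) := by group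
          obtain ⟨c, hc⟩ := hesurj _ hH'
          refine ⟨c, (hCc c).mpr ?_, by rw [hc]; group⟩
          apply heinj
          rw [hemul, hemul, hc]
          calc g0⁻¹ * g * e r3 = g0⁻¹ * (g * e r3 * g⁻¹) * g := by group
            _ = g0⁻¹ * (g0 * e r3 * g0⁻¹) * g := by rw [h1, he0]
            _ = e r3 * (g0⁻¹ * g) := by group
      · intro g hg
        have hgN := (Finset.mem_filter.mp hg).2
        obtain ⟨m, -, hm⟩ := hJmodel _
          ((Subgroup.mem_normalizer_iff.mp hgN _).mp ((hJtr r3).mpr hr3.1))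
        have hex : ∃ m, g * e r3 * g⁻¹ = e m := ⟨m, hm.symm⟩
        show f g ∈ O
        simp only [f, dif_pos hex]
        exact (hO _).mpr ⟨g, hgN, hex.choose_spec⟩
    have hcardN' : Nat.card (Subgroup.normalizer (J : Set G)) = O.card * 81 := by
      rw [← hcardN, Nat.card_eq_fintype_card, Fintype.card_subtype]
    have hdvd := Subgroup.card_dvd_of_le (show H ≤ Subgroup.normalizer (J : Set G) from hHN)
    have hcH : Nat.card H = 648 := by rw [← Nat.card_congr e.toEquiv, card_mdl]
    rw [hcH, hcardN', hOeq, tr_counts, hw2] at hdvd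
    rw [hOeq, tr_counts, hw2] at hcardN'
    symm
    refine Subgroup.eq_of_le_of_card_ge hHN ?_
    rw [hcardN', hcH]
    revert hdvd
    cases w 0 <;> cases w 1 <;> norm_num
  -- the trivial intersection set
  let A : G → Prop := fun a => ∃ m, (e m : G) = a ∧ inA m = true
  have hTI : TIPairs.IsTI H A := by
    refine ⟨?_, ?_⟩
    · rintro a ha ⟨m, rfl, hm⟩ x hx
      obtain ⟨k, hk, hk1⟩ := inA_pow m hm
      have hjJ : (e (m ^ k.val) : G) ∈ J := (hJtr _).mpr hk
      have hx2 : x⁻¹ * e (m ^ k.val) * x ∈ J := by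
        refine hscJ _ hjJ x ?_
        rw [hepow, show x⁻¹ * (e m : G) ^ k.val * x = (x⁻¹ * e m * x) ^ k.val by
          conv_rhs => rw [show x⁻¹ * (e m : G) * x = x⁻¹ * e m * (x⁻¹)⁻¹ by group, conj_pow]
          group]
        exact H.pow_mem hx _
      have hle : ∀ u ∈ J, x * u * x⁻¹ ∈ J := by
        intro u hu
        refine hsc.2 u hu x (hC _ hjJ (fun h => hk1 (heinj (h.trans heone.symm))) ?_)
        refine Subgroup.mem_centralizer_singleton_iff.mpr ?_
        calc x * u * x⁻¹ * e (m ^ k.val) = x * (u * (x⁻¹ * e (m ^ k.val) * x)) * x⁻¹ := by group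
          _ = x * (x⁻¹ * e (m ^ k.val) * x * u) * x⁻¹ := by rw [hJcomm u hu _ hx2]
          _ = e (m ^ k.val) * (x * u * x⁻¹) := by group
      rw [← hNJ]
      exact Subgroup.mem_normalizer_iff.mpr fun u => ⟨hle u, fun hu => by
        let f : J → J := fun v => ⟨x * v * x⁻¹, hle v v.2⟩
        have hf : Function.Surjective f := Finite.injective_iff_surjective.mp fun v w h => by
          simpa [f] using h
        obtain ⟨v, hv⟩ := hf ⟨_, hu⟩
        have h' : x * (v : G) * x⁻¹ = x * u * x⁻¹ := congrArg Subtype.val hv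
        have : (v : G) = u := by simpa using h'
        exact this ▸ v.2⟩
    · rintro a ha ⟨m, rfl, hm⟩ h
      rw [← hemul, ← heone] at h
      exact inA_sq m hm (heinj h)
  have hAdm : ∀ i, TIReal.Adm H e A (Fn i) := fun i =>
    ⟨gen_Fn i, fun m => by rw [Fn, map_div₀, conj_toC, map_ofNat], fun m hm => ⟨m, rfl, by
      by_contra hA
      apply hm
      rw [Fn, F2_supp m (by simpa using hA), map_zero, zero_div]⟩⟩
  -- the counting data
  have h648 : (Nat.card Mdl : ℂ) = 648 := by rw [card_mdl]; norm_num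
  let one' : Cfsg.IrrCharacter G := TIPairs.one
  let cf : Fin 9 → Cfsg.IrrCharacter G → ℤ := fun i χ => TIReal.coef H e (Fn i) χ
  have hcone : ∀ i : Fin 9, cf i one' = oneTab.getD i.val 0 := by
    intro i
    have h := TIReal.coef_one_mul (hAdm i)
    have hs : ∑ m, Fn i m = 648 * (oneTab.getD i.val 0 : ℂ) := by
      simp only [Fn, ← Finset.sum_div, ← map_sum]
      rw [show ∑ m, F2 i m = ∑ m, F2c i (clsN m) from rfl, sum_cls, tab_sum]
      simp only [map_mul, map_intCast, map_ofNat]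
      ring
    rw [h648, hs, mul_comm] at h
    exact_mod_cast mul_left_cancel₀ (by norm_num : (648 : ℂ) ≠ 0) h
  let ι := {χ : Cfsg.IrrCharacter G // χ ≠ one'}
  have hsplit : ∀ f : Cfsg.IrrCharacter G → ℤ, ∑ χ, f χ = f one' + ∑ i : ι, f i.1 := by
    intro f
    rw [← Finset.add_sum_erase _ _ (Finset.mem_univ one')]
    congr 1
    exact Finset.sum_subtype _ (fun x => by simp) f
  let C : ℕ → ι → ℤ := fun j i => if h : j < 9 then cf ⟨j, h⟩ i.1 else 0
  have hCj : ∀ (j : Fin 9) (i : ι), C j.val i = cf j i.1 := fun j i => by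
    simp only [C, dif_pos j.2]
  have hgram : ∀ i j : Fin 9, ∑ x : ι, cf i x.1 * cf j x.1 = gramN i.val j.val := by
    intro i j
    have h := TIReal.sum_coef_mul hTI (hAdm i) (hAdm j)
    have hs : ∑ m, Fn i m * Fn j m = 648 *
        ((gramN i.val j.val + oneTab.getD i.val 0 * oneTab.getD j.val 0 : ℤ) : ℂ) := by
      have : ∀ m, Fn i m * Fn j m = toC (F2c i (clsN m) * F2c j (clsN m)) / 4 := fun m => by
        simp only [Fn, F2, map_mul]; ring
      rw [Finset.sum_congr rfl fun m _ => this m, ← Finset.sum_div, ← map_sum,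
        sum_cls fun c => F2c i c * F2c j c, tab_gram]
      simp only [map_mul, map_intCast, map_ofNat]
      ring
    rw [h648, hs, mul_comm] at h
    have h' : ∑ χ, cf i χ * cf j χ = gramN i.val j.val +
        oneTab.getD i.val 0 * oneTab.getD j.val 0 := by
      exact_mod_cast mul_left_cancel₀ (by norm_num : (648 : ℂ) ≠ 0) h
    rw [hsplit, hcone, hcone] at h'
    linarith
  let ν : Cfsg.IrrCharacter G → ℤ := fun χ =>
    if TIReal.nu (χ : G → ℂ) = 1 then 1 else if TIReal.nu (χ : G → ℂ) = -1 then -1 else 0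
  have hνC : ∀ χ, (ν χ : ℂ) = TIReal.nu (χ : G → ℂ) := by
    intro χ
    rcases TIReal.nu_cases χ.2 with ⟨h, -⟩ | h | h <;> simp [ν, h] <;> norm_num
  have hν1 : ν one' = 1 := by
    have : TIReal.nu ((one' : Cfsg.IrrCharacter G) : G → ℂ) = 1 := by
      simp [TIReal.nu, one', TIPairs.one]
    simp [ν, this]
  have hsigned : ColEnum.Signed C (fun i : ι => ν i.1) 9 := by
    intro i
    rcases TIReal.nu_cases i.1.2 with ⟨h, hne⟩ | h | h
    · refine Or.inr (Or.inr ⟨by simp [ν, h], ?_⟩)
      let χ' : Cfsg.IrrCharacter G :=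
        ⟨fun g => conj ((i.1 : G → ℂ) g), Char.IsIrrCharacter.conj' i.1.2⟩
      have hne1 : χ' ≠ one' := by
        intro h1
        refine i.2 (Subtype.ext (funext fun g => ?_))
        have := congrArg (fun χ : Cfsg.IrrCharacter G => conj ((χ : G → ℂ) g)) h1
        simpa [χ', one', TIPairs.one] using this
      refine ⟨⟨χ', hne1⟩, fun h1 => hne (congrArg (fun x : ι => (x.1 : G → ℂ)) h1), fun j hj => ?_⟩
      simp only [C, dif_pos hj, cf]
      apply Int.cast_injective (α := ℂ)
      rw [TIReal.coe_coef_restrict (hAdm _), ← map_intCast (starRingEnd ℂ)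
        (TIReal.coef H e (Fn ⟨j, hj⟩) i.1), TIReal.coe_coef_restrict (hAdm _)]
      simp only [Cfsg.classInner, χ', map_mul, map_inv₀, map_natCast, map_sum, Complex.conj_conj,
        (hAdm _).real]
    · exact Or.inl (by simp [ν, h])
    · refine Or.inr (Or.inl ?_)
      simp [ν, h]
      norm_num
  have hfs : ∀ j : Fin 9, ∑ i : ι, ν i.1 * cf j i.1 = fsN j.val := by
    intro j
    have h := TIReal.sum_coef_nu hTI (hAdm j)
    have hs : ∑ m : Mdl, Fn j (m * m) = 648 * ((fsN j.val + oneTab.getD j.val 0 : ℤ) : ℂ) := by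
      simp only [Fn, ← Finset.sum_div, ← map_sum]
      rw [tab_sq]
      simp only [map_mul, map_intCast, map_ofNat]
      ring
    rw [h648, hs, inv_mul_cancel_left₀ (by norm_num : (648 : ℂ) ≠ 0)] at h
    simp only [← hνC] at h
    have h' : ∑ χ, ν χ * cf j χ = fsN j.val + oneTab.getD j.val 0 := by
      have : ∑ χ, cf j χ * ν χ = fsN j.val + oneTab.getD j.val 0 := by exact_mod_cast h
      rw [← this]
      exact Finset.sum_congr rfl fun χ _ => mul_comm _ _
    rw [hsplit, hcone, hν1, one_mul] at h'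
    linarith
  obtain ⟨st, hst, hrep⟩ := ColEnum.run_sound C (fun i : ι => ν i.1) 9 hsigned
    (G := gramN) (r := fsN)
    (fun k hk j hj => by
      have := hgram ⟨k, hk⟩ ⟨j, by omega⟩
      simpa [C, dif_pos hk, dif_pos (show j < 9 by omega)] using this)
    (fun k hk => gram_le ⟨k, hk⟩)
    (fun j hj => by
      have := hfs ⟨j, hj⟩
      simpa [C, dif_pos hj] using this) 9 le_rfl
  rw [run_eq, List.mem_singleton] at hst
  subst hst
  obtain ⟨L, hnd, hsg, hout, hL⟩ := hrep
  -- congruences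
  have hcong : ∀ x ∈ L, ∃ n : ℕ, 0 < n ∧ TIPairs.deg x.1.1 = n ∧
      (x.2 * (n : ℤ) + ((List.zipWith (fun a b => a * b) trComb
        (ColEnum.colOf C 9 x)).sum)) % 27 = 0 := by
    intro x hx
    obtain ⟨n, hn, hdeg, hval⟩ := TIPairs.exists_deg x.1.1
    refine ⟨n, hn, hdeg, ?_⟩
    let χ := x.1.1
    obtain ⟨T, hT⟩ : ∃ T : Finset Mdl,
        T = Finset.univ.filter (fun m => isTr m = true ∧ m ≠ 1) := ⟨_, rfl⟩
    let Tg : Subgroup Mdl :=
      { carrier := {m | isTr m = true}
        one_mem' := tr_one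
        mul_mem' := fun ha hb => tr_mul _ ha _ hb
        inv_mem' := fun {a} ha => by
          have : a⁻¹ = a * a := by
            refine inv_eq_of_mul_eq_one_right ?_
            rw [← mul_assoc, ← pow_two, ← pow_succ, tr_cube a ha]
          show isTr a⁻¹ = true
          rw [this]
          exact tr_mul _ ha _ ha }
    cases nonempty_fintype Tg
    obtain ⟨z, hz⟩ := Char.IsGeneralizedCharacter.classInner_int
      (Char.IsCharacter.isGeneralizedCharacter Char.isCharacter_one)
      (TIPairs.gen_comp (Char.IsCharacter.isGeneralizedCharacter (Char.isCharacter_irr χ))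
        ((H.subtype.comp e.toMonoidHom).comp Tg.subtype))
    have hTg : Nat.card Tg = 27 := by
      rw [← tr_card, Nat.card_eq_fintype_card, ← Fintype.card_subtype]
      exact Fintype.card_congr (Equiv.refl _)
    have hsum : ∑ m ∈ T, conj ((χ : G → ℂ) (e m)) =
        ((∑ j : Fin 9, trComb.getD j.val 0 * cf j χ : ℤ) : ℂ) := by
      push_cast
      simp only [cf, fun j => TIReal.coe_coef_restrict (hAdm j) χ, Cfsg.classInner, Finset.mul_sum]
      rw [Finset.sum_comm, hT, Finset.sum_filter]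
      refine Finset.sum_congr rfl fun m _ => ?_
      have h := congrArg toC (tab_comb m)
      rw [map_sum] at h
      simp only [map_mul, map_intCast, apply_ite toC, map_zero, map_ofNat] at h
      rw [h648]
      calc (if isTr m = true ∧ m ≠ 1 then conj ((χ : G → ℂ) (e m)) else 0)
          = (if isTr m = true ∧ m ≠ 1 then (2 : ℂ) * 648 else 0) / (2 * 648) *
              conj ((χ : G → ℂ) (e m)) := by split_ifs <;> simp
        _ = _ := by
          rw [← h, Finset.sum_div, Finset.sum_mul]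
          exact Finset.sum_congr rfl fun j _ => by rw [Fn]; ring
    have hdiv : (27 : ℂ) * (z : ℂ) = (n : ℂ) + ((∑ j : Fin 9, trComb.getD j.val 0 * cf j χ : ℤ) : ℂ) := by
      rw [← hz, Cfsg.classInner, hTg, ← hsum, show ((27 : ℕ) : ℂ) = 27 by norm_num,
        mul_inv_cancel_left₀ (by norm_num : (27 : ℂ) ≠ 0)]
      simp only [one_mul, Function.comp_apply, MonoidHom.coe_comp, Subgroup.coe_subtype,
        MulEquiv.coe_toMonoidHom]
      rw [← Finset.add_sum_erase _ _ (Finset.mem_univ (1 : Tg))]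
      congr 1
      · rw [OneMemClass.coe_one, heone, hval, map_natCast]
      · refine Finset.sum_bij (fun m _ => (m : Mdl)) ?_ ?_ ?_ ?_
        · intro m hm
          rw [hT, Finset.mem_filter_univ]
          exact ⟨m.2, fun h => (Finset.mem_erase.mp hm).1 (Subtype.ext h)⟩
        · intro a _ b _ h
          exact Subtype.ext h
        · intro m hm
          rw [hT, Finset.mem_filter_univ] at hm
          obtain ⟨hm1, hm2⟩ := hm
          exact ⟨⟨m, hm1⟩, Finset.mem_erase.mpr ⟨fun h => hm2 (congrArg Subtype.val h),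
            Finset.mem_univ _⟩, rfl⟩
        · intro m _
          rfl
    have hdiv' : 27 * z = (n : ℤ) + ∑ j : Fin 9, trComb.getD j.val 0 * cf j χ := by
      exact_mod_cast hdiv
    have hcol : (List.zipWith (fun a b => a * b) trComb (ColEnum.colOf C 9 x)).sum =
        x.2 * ∑ j : Fin 9, trComb.getD j.val 0 * cf j χ := by
      simp [ColEnum.colOf, trComb, List.range_succ, Fin.sum_univ_succ, ← hCj, χ]
      ring
    rw [hcol, ← mul_add, ← hdiv', mul_left_comm, Int.mul_emod_right]
  -- the thirteen constituents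
  have hCj' : ∀ (j : Fin 9) (x : ι × ℤ), x ∈ L →
      cf j x.1.1 * 1 = x.2 * (ColEnum.colOf C 9 x).getD j.val 0 := by
    intro j x hx
    simp only [ColEnum.colOf, List.getD_eq_getElem?_getD, List.getElem?_map,
      List.getElem?_range j.2, Option.map_some, Option.getD_some, hCj, mul_one]
    rcases hsg x hx with h | h <;> rw [h] <;> ring
  have hexp : ∀ (j : Fin 9) (f : Cfsg.IrrCharacter G → ℝ),
      ∑ χ, (cf j χ : ℝ) * f χ = (oneTab.getD j.val 0 : ℝ) * f one' +
        (List.zipWith (fun (c : List ℤ) (z : ℝ) => (c.getD j.val 0 : ℝ) * z) truth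
          (L.map fun x => (x.2 : ℝ) * f x.1.1)).sum := by
    intro j f
    rw [← Finset.add_sum_erase _ _ (Finset.mem_univ one'), hcone,
      Finset.sum_subtype _ (p := fun χ => χ ≠ one') (fun x => by simp)
        (fun χ => (cf j χ : ℝ) * f χ)]
    congr 1
    rw [← hL, List.zipWith_map, List.zipWith_self,
      ← Finset.sum_subset (Finset.subset_univ (L.map Prod.fst).toFinset) (fun i _ hi => by
        rw [← hCj, hout i (by simpa using hi) j.val j.2]; simp),
      List.sum_toFinset _ hnd, List.map_map]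
    refine congrArg List.sum (List.map_congr_left fun x hx => ?_)
    simp only [Function.comp_apply, ColEnum.colOf, List.getD_eq_getElem?_getD, List.getElem?_map,
      List.getElem?_range j.2, Option.map_some, Option.getD_some, Int.cast_mul, hCj]
    rcases hsg x hx with h | h <;> simp [h]
  have hL' := hL
  simp only [truth, List.map_eq_cons_iff, List.map_eq_nil_iff] at hL'
  obtain ⟨y1, t1, rfl, k1, y2, t2, rfl, k2, y3, t3, rfl, k3, y4, t4, rfl, k4, y5, t5, rfl, k5,
    y6, t6, rfl, k6, y7, t7, rfl, k7, y8, t8, rfl, k8, y9, t9, rfl, k9, y10, t10, rfl, k10,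
    y11, t11, rfl, k11, y12, t12, rfl, k12, y13, t13, rfl, k13, rfl⟩ := hL'
  have hexp' : ∀ (j : Fin 9) (f : Cfsg.IrrCharacter G → ℝ), _ := hexp
  simp only [List.map_cons, List.map_nil, truth, List.zipWith_cons_cons, List.zipWith_nil_left,
    List.sum_cons, List.sum_nil] at hexp
  obtain ⟨n5, -, d5, g5⟩ := hcong y5 (by simp)
  obtain ⟨n6, -, d6, g6⟩ := hcong y6 (by simp)
  obtain ⟨n7, -, d7, g7⟩ := hcong y7 (by simp)
  obtain ⟨n10, p10, d10, g10⟩ := hcong y10 (by simp)
  rw [k5] at g5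
  rw [k6] at g6
  rw [k7] at g7
  rw [k10] at g10
  norm_num [trComb] at g5 g6 g7 g10
  let dg : Cfsg.IrrCharacter G → ℝ := TIPairs.deg
  let te : Cfsg.IrrCharacter G → ℝ := TIPairs.tee
  have hd1 : dg one' = 1 := TIPairs.deg_one
  have ht1 : te one' = 0 := TIPairs.tee_one
  let Δ : ι × ℤ → ℝ := fun x => (x.2 : ℝ) * dg x.1.1
  let U : ι × ℤ → ℝ := fun x => (x.2 : ℝ) * te x.1.1
  have hquad : ∀ x : ι × ℤ, (x.2 = 1 ∨ x.2 = -1) →
      (x.2 : ℝ) * (te x.1.1 ^ 2 / dg x.1.1) = U x ^ 2 / Δ x := by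
    intro x hx
    have := (TIPairs.deg_pos x.1.1).ne'
    rcases hx with h | h <;> simp only [U, Δ, h] <;> push_cast <;> field_simp <;> ring
  have ed : ∀ j : Fin 9, ∑ χ, (cf j χ : ℝ) * dg χ = 0 := fun j =>
    TIReal.sum_coef_deg hTI (hAdm j)
  have et : ∀ j : Fin 9, ∑ χ, (cf j χ : ℝ) * te χ = 0 := fun j =>
    TIReal.sum_coef_tee hTI (hAdm j)
  have eq2 : ∀ j : Fin 9, ∑ χ, (cf j χ : ℝ) * (te χ ^ 2 / dg χ) =
      (pairQ.getD j.val 0 : ℝ) * Nat.card G := by
    intro j
    have h := TIReal.sum_coef_tee_sq hTI (hAdm j)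
    have hs : ∑ x ∈ Finset.univ.filter (fun x : Mdl => x * x = 1 ∧ x ≠ 1),
        ∑ y ∈ Finset.univ.filter (fun y : Mdl => y * y = 1 ∧ y ≠ 1), Fn j (x * y) =
        648 * (pairQ.getD j.val 0 : ℂ) := by
      simp only [Fn, ← Finset.sum_div, ← map_sum]
      rw [tab_pairs]
      simp only [map_mul, map_intCast, map_ofNat]
      ring
    rw [h648, hs, mul_left_comm] at h
    have h' := mul_left_cancel₀ (by norm_num : (648 : ℂ) ≠ 0) h
    have h'' : ∑ χ, (cf j χ : ℝ) * te χ ^ 2 / dg χ = (Nat.card G : ℝ) * (pairQ.getD j.val 0 : ℝ) := by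
      apply Complex.ofReal_injective
      rw [h']
      push_cast
      rfl
    rw [mul_comm, ← h'']
    exact Finset.sum_congr rfl fun χ _ => (mul_div_assoc _ _ _).symm
  have a0 := (hexp 0 dg).symm.trans (ed 0)
  have a1 := (hexp 1 dg).symm.trans (ed 1)
  have a2 := (hexp 2 dg).symm.trans (ed 2)
  have a3 := (hexp 3 dg).symm.trans (ed 3)
  have a4 := (hexp 4 dg).symm.trans (ed 4)
  have a5 := (hexp 5 dg).symm.trans (ed 5)
  have a6 := (hexp 6 dg).symm.trans (ed 6)
  have a7 := (hexp 7 dg).symm.trans (ed 7)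
  have a8 := (hexp 8 dg).symm.trans (ed 8)
  have b0 := (hexp 0 te).symm.trans (et 0)
  have b1 := (hexp 1 te).symm.trans (et 1)
  have b2 := (hexp 2 te).symm.trans (et 2)
  have b3 := (hexp 3 te).symm.trans (et 3)
  have b4 := (hexp 4 te).symm.trans (et 4)
  have b5 := (hexp 5 te).symm.trans (et 5)
  have b6 := (hexp 6 te).symm.trans (et 6)
  have b7 := (hexp 7 te).symm.trans (et 7)
  have b8 := (hexp 8 te).symm.trans (et 8)
  have q0 := (hexp 0 fun χ => te χ ^ 2 / dg χ).symm.trans (eq2 0)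
  have q1 := (hexp 1 fun χ => te χ ^ 2 / dg χ).symm.trans (eq2 1)
  have q2 := (hexp 2 fun χ => te χ ^ 2 / dg χ).symm.trans (eq2 2)
  have q3 := (hexp 3 fun χ => te χ ^ 2 / dg χ).symm.trans (eq2 3)
  have q4 := (hexp 4 fun χ => te χ ^ 2 / dg χ).symm.trans (eq2 4)
  have q5 := (hexp 5 fun χ => te χ ^ 2 / dg χ).symm.trans (eq2 5)
  have q6 := (hexp 6 fun χ => te χ ^ 2 / dg χ).symm.trans (eq2 6)
  have q7 := (hexp 7 fun χ => te χ ^ 2 / dg χ).symm.trans (eq2 7)
  have q8 := (hexp 8 fun χ => te χ ^ 2 / dg χ).symm.trans (eq2 8)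
  simp only [oneTab, pairQ, hd1, ht1, Fin.val_zero, Fin.val_one, Fin.val_two, Fin.isValue,
    List.getD_cons_zero, List.getD_cons_succ, Fin.coe_ofNat_eq_mod, Nat.reduceMod,
    Int.cast_zero, Int.cast_one, Int.cast_neg, Int.cast_ofNat, one_mul, zero_mul, mul_zero,
    zero_add, add_zero, neg_mul, ne_eq, OfNat.ofNat_ne_zero, not_false_eq_true, zero_pow,
    zero_div] at a0 a1 a2 a3 a4 a5 a6 a7 a8 b0 b1 b2 b3 b4 b5 b6 b7 b8 q0 q1 q2 q3 q4 q5 q6 q7 q8
  rw [hquad y1 (hsg _ (by simp)), hquad y2 (hsg _ (by simp))] at q0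
  rw [hquad y3 (hsg _ (by simp)), hquad y4 (hsg _ (by simp))] at q1
  rw [hquad y2 (hsg _ (by simp)), hquad y3 (hsg _ (by simp)), hquad y5 (hsg _ (by simp))] at q2
  rw [hquad y3 (hsg _ (by simp)), hquad y6 (hsg _ (by simp)), hquad y7 (hsg _ (by simp))] at q3
  rw [hquad y2 (hsg _ (by simp)), hquad y6 (hsg _ (by simp)), hquad y8 (hsg _ (by simp))] at q4
  rw [hquad y5 (hsg _ (by simp)), hquad y7 (hsg _ (by simp)), hquad y9 (hsg _ (by simp))] at q5
  rw [hquad y3 (hsg _ (by simp)), hquad y10 (hsg _ (by simp)), hquad y11 (hsg _ (by simp))] at q6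
  rw [hquad y5 (hsg _ (by simp)), hquad y6 (hsg _ (by simp)), hquad y10 (hsg _ (by simp)),
    hquad y12 (hsg _ (by simp))] at q7
  rw [hquad y2 (hsg _ (by simp)), hquad y7 (hsg _ (by simp)), hquad y10 (hsg _ (by simp)),
    hquad y13 (hsg _ (by simp))] at q8
  change Δ y1 + Δ y2 = 0 at a0
  change U y1 + U y2 = 0 at b0
  obtain ⟨c, hc⟩ : ∃ c : ℤ, c = y5.2 * n5 := ⟨_, rfl⟩
  obtain ⟨ee, he⟩ : ∃ c : ℤ, c = y6.2 * n6 := ⟨_, rfl⟩
  obtain ⟨d, hd⟩ : ∃ c : ℤ, c = y7.2 * n7 := ⟨_, rfl⟩
  obtain ⟨s, hs⟩ : ∃ c : ℤ, c = y10.2 * n10 := ⟨_, rfl⟩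
  rw [← hc] at g5
  rw [← he] at g6
  rw [← hd] at g7
  rw [← hs] at g10
  have D5 : Δ y5 = c := by simp only [Δ, dg, d5, hc]; push_cast; rfl
  have D6 : Δ y6 = ee := by simp only [Δ, dg, d6, he]; push_cast; rfl
  have D7 : Δ y7 = d := by simp only [Δ, dg, d7, hd]; push_cast; rfl
  have D10 : Δ y10 = s := by simp only [Δ, dg, d10, hs]; push_cast; rfl
  have D3 : Δ y3 = d + ee := by rw [← D7, ← D6]; simp only [Δ] at a3 ⊢; linarith
  have D2 : Δ y2 = c + d + ee := by simp only [Δ] at a2 D3 D5 ⊢; linarith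
  have D8 : Δ y8 = -(1 + c + d + 2 * ee) := by simp only [Δ] at a4 D2 D6 ⊢; linarith
  have D9 : Δ y9 = -(1 + c + d) := by simp only [Δ] at a5 D5 D7 ⊢; linarith
  have D11 : Δ y11 = -(1 + s + d + ee) := by simp only [Δ] at a6 D3 D10 ⊢; linarith
  have D12 : Δ y12 = -(s + c + ee) := by simp only [Δ] at a7 D5 D6 D10 ⊢; linarith
  have D13 : Δ y13 = -(s + c + ee + 2 * d) := by simp only [Δ] at a8 D2 D7 D10 ⊢; linarith
  have U3 : U y3 = U y7 + U y6 := by simp only [U] at b3 ⊢; linarith
  have U2 : U y2 = U y5 + U y7 + U y6 := by simp only [U] at b2 U3 ⊢; linarith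
  have U8 : U y8 = -(U y5 + U y7 + 2 * U y6) := by simp only [U] at b4 U2 ⊢; linarith
  have U9 : U y9 = -(U y5 + U y7) := by simp only [U] at b5 ⊢; linarith
  have U11 : U y11 = -(U y10 + U y7 + U y6) := by simp only [U] at b6 U3 ⊢; linarith
  have U12 : U y12 = -(U y10 + U y5 + U y6) := by simp only [U] at b7 ⊢; linarith
  have U13 : U y13 = -(U y10 + U y5 + U y6 + 2 * U y7) := by simp only [U] at b8 U2 ⊢; linarith
  rw [D5, D3, D2, U3, U2] at q2
  rw [D6, D7, D3, U3] at q3
  rw [D6, D8, D2, U8, U2] at q4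
  rw [D5, D7, D9, U9] at q5
  rw [D10, D3, D11, U11, U3] at q6
  rw [D10, D5, D6, D12, U12] at q7
  rw [D10, D7, D13, D2, U13, U2] at q8
  simp only [neg_sq, div_neg] at q2 q3 q4 q5 q6 q7 q8
  have hg0 : (0 : ℝ) < Nat.card G := by exact_mod_cast Nat.card_pos
  obtain ⟨-, -, -, hs1⟩ := A9Arith.degrees (c := c) (d := d) (e := ee) (s := s) (by omega) (by omega)
    (by omega) (by omega) hg0 (UC := U y5) (UD := U y7) (UE := U y6) (US := U y10)
    (by linarith) (by linarith) (by linarith) (by linarith) (by linarith) (by linarith)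
    (by linarith)
  -- the linear character
  have hy10 : y10.2 = 1 ∧ n10 = 1 := by
    rw [hs] at hs1
    rcases hsg y10 (by simp) with h | h <;> rw [h] at hs1 <;> omega
  have hlin : ((y10.1.1 : Cfsg.IrrCharacter G) : G → ℂ) 1 = 1 := by
    rw [← TIPairs.coe_deg, d10, hy10.2]; norm_num
  obtain ⟨S, hS⟩ := Char.exists_hom_of_apply_one_eq_one (Char.isCharacter_irr y10.1.1) hlin
  have hres : ∀ m, (S (e m : G) : ℂ) = ((ps m : ℤ) : ℂ) := by
    rcases hom_trivial_or_sign (S.comp (H.subtype.comp e.toMonoidHom)) with h | h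
    · exfalso
      have hcoef : cf 7 y10.1.1 = 1 := by
        have := hCj' 7 y10 (by simp)
        rw [mul_one, k10, hy10.1, one_mul] at this
        simpa using this
      have hc0 : cf 7 y10.1.1 = cf 7 one' := by
        apply Int.cast_injective (α := ℂ)
        simp only [cf]
        rw [TIReal.coe_coef_restrict (hAdm _), TIReal.coe_coef_restrict (hAdm _)]
        congr 1
        funext m
        have := h m
        simp only [MonoidHom.comp_apply, Subgroup.coe_subtype, MulEquiv.coe_toMonoidHom] at this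
        simp [hS, one', TIPairs.one, this]
      rw [hcoef, hcone] at hc0
      simp [oneTab] at hc0
    · exact fun m => h m
  let G1 : Subgroup G := S.ker
  have hG1 : ∀ m, (e m : G) ∈ G1 ↔ ps m = 1 := by
    intro m
    rw [MonoidHom.mem_ker, Units.ext_iff, hres, Units.val_one]
    rcases Int.units_eq_one_or (ps m) with h | h <;> rw [h] <;> norm_num
  -- the transfer
  let P : Subgroup G1 :=
    { carrier := {u | ∃ m, (e m : G) = u ∧ memF m = true}
      one_mem' := ⟨1, heone, by decide +kernel⟩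
      mul_mem' := by
        rintro u v ⟨a, ha, ha'⟩ ⟨b, hb, hb'⟩
        exact ⟨a * b, by rw [hemul, ha, hb]; rfl, (ok_f1.1 a b ha' hb').1⟩
      inv_mem' := by
        rintro u ⟨a, ha, ha'⟩
        exact ⟨a⁻¹, by rw [heinv, ha]; rfl, df1.inv_mem ok_f1 ha'⟩ }
  let zq : Mdl → Multiplicative (ZMod 3) := fun m => Multiplicative.ofAdd ((vof m.1.p).val : ZMod 3)
  have zq_mul : ∀ a, memF a = true → ∀ b, memF b = true → zq (a * b) = zq a * zq b := by
    intro a ha b hb
    simp only [memF, Bool.and_eq_true] at ha hb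
    have key : ∀ p q : D, isR p = true → isR q = true →
        ((vof (p * q)).val : ZMod 3) = ((vof p).val : ZMod 3) + ((vof q).val : ZMod 3) := by
      decide +kernel
    show Multiplicative.ofAdd _ = Multiplicative.ofAdd _ * Multiplicative.ofAdd _
    rw [← ofAdd_add]
    exact congrArg _ (key _ _ ha.1.1.1 hb.1.1.1)
  let idx : P → Mdl := fun u => u.2.choose
  have hidx : ∀ u : P, (e (idx u) : G) = (u : G1) ∧ memF (idx u) = true := fun u => u.2.choose_spec
  let φ : P →* Multiplicative (ZMod 3) :=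
    { toFun := fun u => zq (idx u)
      map_one' := by
        rw [show idx 1 = 1 from heinj ((hidx 1).1.trans heone.symm)]
        decide +kernel
      map_mul' := fun u v => by
        have h : (e (idx (u * v)) : G) = e (idx u * idx v) := by
          rw [hemul, (hidx _).1, (hidx _).1, (hidx _).1]
          rfl
        rw [heinj h]
        exact zq_mul _ (hidx u).2 _ (hidx v).2 }
  let τ : G1 →* Multiplicative (ZMod 3) := MonoidHom.transfer φ
  let ma : Mdl := gb * ga
  have hma : memF ma = true ∧ inA ma = true ∧ ma ^ 9 = 1 ∧ isTr (ma ^ 3) = true ∧ ps ma = 1 := by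
    decide +kernel
  let a : G1 := ⟨e ma, (hG1 ma).mpr hma.2.2.2.2⟩
  have haP : a ∈ P := ⟨ma, rfl, hma.1⟩
  have hτa : τ a ≠ 1 := by
    have hfix : ∀ u : G1, u⁻¹ * a * u ∈ P → u ∈ P := by
      rintro u ⟨m, hm, hm'⟩
      have huH : (u : G) ∈ H := by
        refine hTI.mem_of_conj _ (e ma).2 ⟨ma, rfl, hma.2.1⟩ _ ?_
        have : (u : G)⁻¹ * e ma * u = e m := hm.symm
        rw [this]
        exact (e m).2
      obtain ⟨k, hk⟩ := hesurj _ huH
      have hk' : k⁻¹ * ma * k = m := by
        apply heinj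
        rw [hemul, hemul, heinv, hk]
        exact hm.symm
      have key : ∀ k : Mdl, ps k = 1 → memF (k⁻¹ * (gb * ga) * k) = true → memF k = true := by
        decide +kernel
      exact ⟨k, hk, key k ((hG1 k).mp (hk ▸ u.2)) (hk' ▸ hm')⟩
    have haφ : φ ⟨a, haP⟩ ≠ 1 := by
      show zq (idx ⟨a, haP⟩) ≠ 1
      rw [show idx ⟨a, haP⟩ = ma from heinj (hidx ⟨a, haP⟩).1]
      decide +kernel
    have : Fintype (Quotient (MulAction.orbitRel (Subgroup.zpowers a) (G1 ⧸ P))) := Fintype.ofFinite _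
    show MonoidHom.transfer φ a ≠ 1
    rw [MonoidHom.transfer_eq_prod_quotient_orbitRel_zpowers_quot]
    have ha9 : a ^ 9 = 1 := Subtype.ext (by
      rw [Subgroup.coe_pow]
      show (e ma : G) ^ 9 = 1
      rw [← hepow, hma.2.2.1, heone])
    have hfixmk : ∀ x : G1 ⧸ P, a • x = x → x = QuotientGroup.mk 1 := by
      intro x hx
      induction x using QuotientGroup.induction_on with
      | H u =>
        have hx' : (QuotientGroup.mk (a * u) : G1 ⧸ P) = QuotientGroup.mk u := hx
        rw [eq_comm, QuotientGroup.eq, ← mul_assoc] at hx'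
        rw [QuotientGroup.eq, mul_one]
        exact P.inv_mem (hfix u hx')
    let q0 : Quotient (MulAction.orbitRel (Subgroup.zpowers a) (G1 ⧸ P)) :=
      Quotient.mk'' (QuotientGroup.mk 1)
    have hbase : a • (QuotientGroup.mk 1 : G1 ⧸ P) = QuotientGroup.mk 1 := by
      show (QuotientGroup.mk (a * 1) : G1 ⧸ P) = _
      rw [mul_one, eq_comm, QuotientGroup.eq, inv_one, one_mul]
      exact haP
    rw [Finset.prod_eq_single q0]
    · have hout : q0.out = QuotientGroup.mk 1 := by
        have hrel : MulAction.orbitRel (Subgroup.zpowers a) (G1 ⧸ P) q0.out (QuotientGroup.mk 1) :=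
          Quotient.exact' (q0.out_eq')
        obtain ⟨⟨z, hz⟩, hzz⟩ := hrel
        obtain ⟨k, rfl⟩ := hz
        rw [← hzz]
        exact (MulAction.stabilizer G1 (QuotientGroup.mk 1 : G1 ⧸ P)).zpow_mem hbase k
      have hper : Function.minimalPeriod (a • ·) q0.out = 1 := by
        rw [Function.minimalPeriod_eq_one_iff_isFixedPt, hout]
        exact hbase
      have hu : q0.out.out ∈ P := by
        have := QuotientGroup.eq.mp ((QuotientGroup.out_eq' q0.out).trans hout).symm
        simpa using this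
      have heq : ∀ w : P, (w : G1) = q0.out.out⁻¹ * a ^ 1 * q0.out.out → φ w = φ ⟨a, haP⟩ := by
        intro w hw
        have : w = ⟨_, hu⟩⁻¹ * ⟨a, haP⟩ * ⟨_, hu⟩ := Subtype.ext (by simp [hw])
        rw [this, map_mul, map_mul, map_inv, mul_comm (φ ⟨_, hu⟩)⁻¹, mul_assoc, inv_mul_cancel,
          mul_one]
      rw [heq _ (by rw [← hper])]
      exact haφ
    · intro q _ hq
      let u : G1 := q.out.out
      let n : ℕ := Function.minimalPeriod (a • ·) q.out
      have hmem := QuotientGroup.out_conj_pow_minimalPeriod_mem P a q.out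
      show φ ⟨_, hmem⟩ = 1
      have hn9 : n ∣ 9 := by
        refine Function.IsPeriodicPt.minimalPeriod_dvd ?_
        show ((a • ·)^[9]) q.out = q.out
        rw [smul_iterate, ha9]
        exact one_smul _ _
      have h139 : n = 1 ∨ n = 3 ∨ n = 9 := by
        have hle := Nat.le_of_dvd (by norm_num) hn9
        interval_cases n <;> first | omega | (norm_num at hn9)
      rcases h139 with h | h | h
      · exfalso
        apply hq
        have hfp : a • q.out = q.out := Function.minimalPeriod_eq_one_iff_isFixedPt.mp h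
        rw [← q.out_eq', hfixmk _ hfp]
      · have hin : ((u⁻¹ * a ^ n * u : G1) : G) ∈ J := by
          have hJ3 : (e (ma ^ 3) : G) ∈ J := (hJtr _).mpr hma.2.2.2.1
          obtain ⟨m, hm, -⟩ := hmem
          have hH' : (u : G)⁻¹ * e (ma ^ 3) * u ∈ H := by
            have : (u : G)⁻¹ * e (ma ^ 3) * u = e m := by
              rw [hm, hepow]
              show (u : G)⁻¹ * (a : G) ^ 3 * u = (u : G)⁻¹ * (a : G) ^ n * u
              rw [h]
            rw [this]
            exact (e m).2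
          have := hscJ _ hJ3 _ hH'
          rw [h]
          rw [hepow] at this
          exact this
        obtain ⟨m, hm, hme⟩ := hJmodel _ hin
        show zq (idx ⟨_, hmem⟩) = 1
        rw [show idx ⟨_, hmem⟩ = m from heinj ((hidx ⟨_, hmem⟩).1.trans hme.symm)]
        have : ∀ m, isTr m = true → zq m = 1 := by decide +kernel
        exact this m hm
      · have : (⟨_, hmem⟩ : P) = 1 := Subtype.ext (by
          show q.out.out⁻¹ * a ^ n * q.out.out = 1
          rw [h, ha9, mul_one, inv_mul_cancel])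
        rw [this, map_one]
    · exact fun h => absurd (Finset.mem_univ _) h
  -- restriction of the transfer to the subgroup
  let j1 : ∀ m : Mdl, ps m = 1 → G1 := fun m hm => ⟨e m, (hG1 m).mpr hm⟩
  have hA3 : ∀ z : Multiplicative (ZMod 3), z ^ 3 = 1 := by decide +kernel
  let ω : ps.ker →* Multiplicative (ZMod 3) :=
    τ.comp
      { toFun := fun m => j1 m.1 (MonoidHom.mem_ker.mp m.2)
        map_one' := Subtype.ext heone
        map_mul' := fun x y => Subtype.ext (hemul x.1 y.1) }
  let K1 : Subgroup Mdl := ω.ker.map ps.ker.subtype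
  have hωconj : ∀ x y : ps.ker, ω (x * y * x⁻¹) = ω y := fun x y => by
    rw [map_mul, map_mul, map_inv, mul_comm (ω x), mul_assoc, mul_inv_cancel, mul_one]
  have hω2 : ∀ y : ps.ker, y * y = 1 → ω y = 1 := by
    intro y hy
    have h := congrArg ω hy
    rw [map_mul, map_one] at h
    have h3 := hA3 (ω y)
    rw [pow_succ, pow_two, h, one_mul] at h3
    exact h3
  have hK1_mem : ∀ (m : Mdl) (hm : ps m = 1), ω ⟨m, MonoidHom.mem_ker.mpr hm⟩ = 1 → m ∈ K1 :=
    fun m hm h => ⟨⟨m, MonoidHom.mem_ker.mpr hm⟩, h, rfl⟩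
  have hsub : ∀ m : Mdl, m.1.p = 1 → m ∈ K1 := by
    have hq : ps gt = 1 ∧ ps gx = 1 ∧ ps ga = 1 ∧ ps gb = 1 ∧ gt * gt = 1 ∧ gx * gx = 1 ∧
        gt * ga * gt⁻¹ = ga⁻¹ := by decide +kernel
    obtain ⟨q1, q2, q3, q4, q5, q6, q7⟩ := hq
    have kt : gt ∈ K1 := hK1_mem _ q1 (hω2 _ (Subtype.ext q5))
    have kx : gx ∈ K1 := hK1_mem _ q2 (hω2 _ (Subtype.ext q6))
    let ga' : ps.ker := ⟨ga, MonoidHom.mem_ker.mpr q3⟩
    let gb' : ps.ker := ⟨gb, MonoidHom.mem_ker.mpr q4⟩
    have wa : ω ga' = 1 := by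
      have h := hωconj ⟨gt, MonoidHom.mem_ker.mpr q1⟩ ga'
      rw [show (⟨gt, MonoidHom.mem_ker.mpr q1⟩ : ps.ker) * ga' *
        (⟨gt, MonoidHom.mem_ker.mpr q1⟩)⁻¹ = ga'⁻¹ from Subtype.ext q7, map_inv,
        inv_eq_iff_mul_eq_one] at h
      have h3 := hA3 (ω ga')
      rw [pow_succ, pow_two, h, one_mul] at h3
      exact h3
    have ka : ga ∈ K1 := hK1_mem _ q3 wa
    have kb1 : gb * ga * gb⁻¹ ∈ K1 := ⟨gb' * ga' * gb'⁻¹, by
      rw [SetLike.mem_coe, MonoidHom.mem_ker, hωconj, wa], rfl⟩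
    have kb2 : gb * gb * ga * gb ∈ K1 := ⟨gb' * gb' * ga' * gb', by
      rw [SetLike.mem_coe, MonoidHom.mem_ker, map_mul, map_mul, map_mul, wa, mul_one, ← pow_two, ← pow_succ, hA3],
      rfl⟩
    intro m hm
    have htop : top m.1.p = 1 := by rw [hm]; rfl
    rw [← wrd_eq m, wrd]
    simp only [htop, mul_one, inv_one]
    refine K1.mul_mem (K1.mul_mem (K1.mul_mem (K1.mul_mem (K1.pow_mem ka _)
      (K1.pow_mem kb1 _)) (K1.pow_mem kb2 _)) ?_) ?_
    · split_ifs
      exacts [K1.one_mem, kt]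
    · split_ifs
      exacts [K1.one_mem, kx]
  have hK1 : ∀ m : Mdl, ps m = 1 → ∀ h : (e m : G) ∈ G1, (τ ⟨e m, h⟩ = 1 ↔ m.1.p = 1) := by
    intro m hm h
    refine ⟨fun hτ => ?_, fun hp => ?_⟩
    · by_contra hp
      have key : ∀ m : Mdl, ps m = 1 → m.1.p ≠ 1 →
          ∃ k : Fin 3, (gb * ga) * ((m ^ k.val)⁻¹) ∈ ([] : List Mdl) ∨
            ((gb * ga) * (m ^ k.val)⁻¹).1.p = 1 := by decide +kernel
      obtain ⟨k, hk | hk⟩ := key m hm hp
      · simp at hk
      · obtain ⟨z, hz, hzeq⟩ := hsub _ hk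
        have hz' : τ (j1 z.1 (MonoidHom.mem_ker.mp z.2)) = 1 := hz
        apply hτa
        have : a = j1 z.1 (MonoidHom.mem_ker.mp z.2) * (⟨e m, h⟩ : G1) ^ k.val := Subtype.ext (by
          show (e ma : G) = (e z.1 : G) * _
          rw [Subgroup.coe_pow, show (z.1 : Mdl) = ma * (m ^ k.val)⁻¹ from hzeq, hemul ma (m ^ k.val)⁻¹, heinv,
            hepow]
          group)
        rw [this, map_mul, map_pow, hz', hτ, one_pow, one_mul]
    · obtain ⟨z, hz, hzeq⟩ := hsub m hp
      have hz' : τ (j1 z.1 (MonoidHom.mem_ker.mp z.2)) = 1 := hz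
      rw [← hz']
      congr 1
      exact Subtype.ext (by show (e m : G) = e z.1; rw [← hzeq]; rfl)
  let K : Subgroup G := τ.ker.map G1.subtype
  have hKH : ∀ m : Mdl, (e m : G) ∈ K ↔ m.1.p = 1 := by
    intro m
    constructor
    · rintro ⟨u, hu, hum⟩
      have hmem : (e m : G) ∈ G1 := hum ▸ u.2
      have : u = ⟨e m, hmem⟩ := Subtype.ext hum
      rw [SetLike.mem_coe, MonoidHom.mem_ker, this] at hu
      exact (hK1 m ((hG1 m).mp hmem) hmem).mp hu
    · intro hp
      have hps : ps m = 1 := by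
        show sgnD m.1.p = 1
        rw [hp, map_one]
      exact ⟨⟨e m, (hG1 m).mpr hps⟩, (hK1 m hps _).mpr hp, rfl⟩
  have hJK : J ≤ K := by
    intro u hu
    obtain ⟨m, hm, rfl⟩ := hJmodel u hu
    refine (hKH m).mpr ?_
    simp only [isTr, Bool.and_eq_true, beq_iff_eq] at hm
    exact hm.1.1.1
  let eK : (H.subgroupOf K) ≃* blockKer :=
    { toFun := fun u => ⟨e.symm ⟨(u.1 : G), u.2⟩, (hKH _).mp (by
        rw [e.apply_symm_apply]; exact u.1.2)⟩
      invFun := fun m => ⟨⟨e m.1, (hKH m.1).mpr m.2⟩, (e m.1).2⟩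
      left_inv := fun u => Subtype.ext (Subtype.ext (by simp))
      right_inv := fun m => Subtype.ext (e.symm_apply_apply m.1)
      map_mul' := fun u v => Subtype.ext (by
        show e.symm _ = e.symm _ * e.symm _
        rw [← map_mul]
        rfl) }
  have hJcard : Nat.card J = 27 := by
    rw [← tr_card, ← Fintype.card_subtype, ← Nat.card_eq_fintype_card]
    exact (Nat.card_congr (Equiv.ofBijective
      (fun m : {m : Mdl // isTr m = true} => (⟨e m.1, (hJtr _).mpr m.2⟩ : J))
      ⟨fun x y h => Subtype.ext (heinj (show (e x.1 : G) = e y.1 from congrArg (fun z : J => (z : G)) h)), fun u => by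
        obtain ⟨m, hm, he⟩ := hJmodel u.1 u.2
        exact ⟨⟨m, hm⟩, Subtype.ext he⟩⟩)).symm
  have hsmall := S3701.result (H.subgroupOf K)
    ⟨(eK.trans blockEquiv).trans S3701.mdlEquiv⟩ (J.subgroupOf K)
    (fun u hu => hJH hu) (by rw [Nat.card_congr (Subgroup.subgroupOfEquivOfLe hJK).toEquiv, hJcard])
    (by
      ext x
      rw [Subgroup.mem_subgroupOf, ← hNJ, Subgroup.mem_normalizer_iff,
        Subgroup.mem_normalizer_iff]
      constructor
      · intro h u
        refine ⟨fun hu => (h ⟨u, hJK hu⟩).mp hu, fun hu => ?_⟩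
        have hK : u ∈ K := by
          have := hJK hu
          have h2 := K.mul_mem (K.mul_mem (K.inv_mem x.2) this) x.2
          simpa [mul_assoc] using h2
        exact (h ⟨u, hK⟩).mpr hu
      · exact fun h u => h u)
    (fun t ht ht1 y hy => hC t ht (fun h => ht1 (Subtype.ext h)) (by
      rw [Subgroup.mem_centralizer_singleton_iff] at hy ⊢
      exact congrArg Subtype.val hy))
  have hKleH : K ≤ H := by rwa [Subgroup.subgroupOf_eq_top] at hsmall
  have hG1H : G1 ≤ H := by
    intro g hg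
    have key : ∀ z w : Multiplicative (ZMod 3), z ≠ 1 → ∃ k : Fin 3, w * (z ^ k.val)⁻¹ = 1 := by
      decide +kernel
    obtain ⟨k, hk⟩ := key (τ a) (τ ⟨g, hg⟩) hτa
    rw [← map_pow, ← map_inv, ← map_mul] at hk
    have hin : g * ((e ma : G) ^ k.val)⁻¹ ∈ H := hKleH ⟨_, hk, rfl⟩
    have := H.mul_mem hin (H.pow_mem (e ma).2 k.val)
    rwa [inv_mul_cancel_right] at this
  refine eq_top_iff.mpr fun x _ => ?_
  have hle : ∀ u ∈ J, x * u * x⁻¹ ∈ J := by
    intro u hu
    refine hsc.2 u hu x (hG1H ?_)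
    have hu1 : u ∈ G1 := by
      obtain ⟨v, -, hv⟩ := hJK hu
      exact hv ▸ v.2
    rw [MonoidHom.mem_ker] at hu1 ⊢
    rw [map_mul, map_mul, hu1, mul_one, ← map_mul, mul_inv_cancel, map_one]
  rw [← hNJ]
  exact Subgroup.mem_normalizer_iff.mpr fun u => ⟨hle u, fun hu => by
    let f : J → J := fun v => ⟨x * v * x⁻¹, hle v v.2⟩
    have hf : Function.Surjective f := Finite.injective_iff_surjective.mp fun v w h => by
      simpa [f] using h
    obtain ⟨v, hv⟩ := hf ⟨_, hu⟩
    have h' : x * (v : G) * x⁻¹ = x * u * x⁻¹ := congrArg Subtype.val hv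
    have : (v : G) = u := by simpa using h'
    exact this ▸ v.2⟩

end Cfsg.Agent.S3702
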