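import Cfsg.Statements.S3703
import Cfsg.Agent.S2864
import Cfsg.Agent.Lib.LocalEven.Commutators
import Cfsg.Agent.Lib.Coprime.Sylow
import Mathlib.GroupTheory.Abelianization.Defs

set_option autoImplicit false
open Cfsg
open scoped commutatorElement Pointwise

namespace Cfsg.Agent.S3703

open CfsgLib.LocalEven.SylowIn

variable {G : Type*} [Group G]

/-- Conjugation by the normalizer on the abelianization of a subgroup. -/
noncomputable def rho (P : Subgroup G) :
    Subgroup.normalizer (P : Set G) →* AddMonoid.End (Additive (Abelianization P)) where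
  toFun x := MonoidHom.toAdditive (Abelianization.map
    ({ toFun := fun a => ⟨(x : G) * a * (x : G)⁻¹, (Subgroup.mem_normalizer_iff.1 x.2 a).1 a.2⟩
       map_one' := Subtype.ext (by simp)
       map_mul' := fun a b => Subtype.ext (by simp [mul_assoc]) } : P →* P))
  map_one' := by
    refine AddMonoidHom.ext fun v => ?_
    obtain ⟨u, rfl⟩ := Additive.ofMul.surjective v
    obtain ⟨a, rfl⟩ : ∃ a : P, Abelianization.of a = u := QuotientGroup.mk_surjective u
    refine Additive.toMul.injective ?_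
    show Abelianization.of (⟨(1 : G) * a * (1 : G)⁻¹, _⟩ : P) = Abelianization.of a
    simp
  map_mul' x y := by
    refine AddMonoidHom.ext fun v => ?_
    obtain ⟨u, rfl⟩ := Additive.ofMul.surjective v
    obtain ⟨a, rfl⟩ : ∃ a : P, Abelianization.of a = u := QuotientGroup.mk_surjective u
    refine Additive.toMul.injective ?_
    show Abelianization.of (⟨((x : G) * y) * a * ((x : G) * y)⁻¹, _⟩ : P) =
      Abelianization.of (⟨(x : G) * ((y : G) * a * (y : G)⁻¹) * (x : G)⁻¹, _⟩ : P)
    congr 2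
    group

theorem rho_of (P : Subgroup G) (x : Subgroup.normalizer (P : Set G)) (a : P) :
    rho P x (Additive.ofMul (Abelianization.of a)) = Additive.ofMul (Abelianization.of
      (⟨(x : G) * a * (x : G)⁻¹, (Subgroup.mem_normalizer_iff.1 x.2 a).1 a.2⟩ : P)) := rfl

/-- Let N be a normal subgroup of the finite group G such that G/N is a Frobenius group with kernel F and cyclic complement H, where the order of F is coprime to that of N and F is not contained in the image of C_G(N) in G/N. Then G has an element of order p·#H for some prime p dividing the order of N. (A standard tool in recognising groups by their element orders.) -/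
theorem result {G : Type*} [Group G] [Finite G] (N : Subgroup G) [N.Normal]
    (Fb Hb : Subgroup (G ⧸ N)) [Fb.Normal] (hHb : Cfsg.IsFrobeniusComplement Hb) (hker : Cfsg.frobeniusKernel Hb = (Fb : Set (G ⧸ N)))
    (hcyc : IsCyclic Hb) (hcop : (Nat.card Fb).Coprime (Nat.card N))
    (hnot : ¬ Fb ≤ (Subgroup.centralizer (N : Set G)).map (QuotientGroup.mk' N)) :
    ∃ p : ℕ, p.Prime ∧ p ∣ Nat.card N ∧ ∃ g : G, orderOf g = p * Nat.card Hb := by
  classical
  set π := QuotientGroup.mk' N
  have hπ : Function.Surjective π := QuotientGroup.mk'_surjective N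
  set m := Nat.card Hb
  have hH1 := hHb.1
  have hm1 : 1 < m := Subgroup.one_lt_card_iff_ne_bot _ |>.2 hH1
  obtain ⟨⟨h, hh⟩, hgen⟩ := IsCyclic.exists_ofOrder_eq_natCard (α := Hb)
  rw [Subgroup.orderOf_mk] at hgen
  have hFconj : ∀ x : G ⧸ N, x ∈ Fb → ∀ y : G ⧸ N, ∀ z ∈ Hb, x = y * z * y⁻¹ → x = 1 := by
    intro x hx y z hz he
    rcases (hker.ge hx : x ∈ Cfsg.frobeniusKernel Hb) with h1 | h1
    · exact h1
    · exact absurd ⟨z, hz, he.symm⟩ (h1 y)
  -- a prime `r` and a Sylow subgroup of the kernel outside the image of `C(N)`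
  obtain ⟨r, hr, Sr, hSr⟩ : ∃ r : ℕ, ∃ _ : Fact r.Prime, ∃ Sr : Sylow r Fb,
      ¬ (Sr : Subgroup Fb).map Fb.subtype ≤ (Subgroup.centralizer (N : Set G)).map π := by
    by_contra hne
    push Not at hne
    refine hnot (fun x hx => ?_)
    set C := (Subgroup.centralizer (N : Set G)).map π
    have hdvd : Nat.card Fb ∣ Nat.card (C.subgroupOf Fb) := by
      refine (Nat.dvd_iff_prime_pow_dvd_dvd _ _).2 fun q k hq hqk => ?_
      haveI : Fact q.Prime := ⟨hq⟩
      have hle : (default : Sylow q Fb).toSubgroup ≤ C.subgroupOf Fb := fun y hy =>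
        hne q ⟨hq⟩ default ⟨y, hy, rfl⟩
      refine dvd_trans (pow_dvd_pow q ((hq.pow_dvd_iff_le_factorization Nat.card_pos.ne').1 hqk)) ?_
      rw [← (default : Sylow q Fb).card_eq_multiplicity]
      exact Subgroup.card_dvd_of_le hle
    have htop : C.subgroupOf Fb = ⊤ := Subgroup.eq_top_of_card_eq _
      (Nat.dvd_antisymm (Subgroup.card_subgroup_dvd_card _) hdvd)
    exact Subgroup.subgroupOf_eq_top.1 htop hx
  set Rb := (Sr : Subgroup Fb).map Fb.subtype
  have hRbF : Rb ≤ Fb := Subgroup.map_subtype_le _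
  have hRb : IsSylowIn r Rb Fb := IsSylowIn.of_map_subtype Sr
  have hFn : h ∈ Subgroup.normalizer (Fb : Set (G ⧸ N)) := by
    rw [Subgroup.normalizer_eq_top]; exact Subgroup.mem_top h
  -- a conjugate of the complement normalizing it
  obtain ⟨f, hf, hfR⟩ : ∃ f ∈ Fb, f * h ∈ Subgroup.normalizer (Rb : Set (G ⧸ N)) := by
    have h1 : IsSylowIn r (Rb.map (MulAut.conj h).toMonoidHom) Fb := by
      have := hRb.map_conj h
      rwa [map_conj_eq_iff.2 hFn] at this
    obtain ⟨f, hf, he⟩ := h1.conjugate hRb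
    refine ⟨f, hf, map_conj_eq_iff.1 ?_⟩
    rw [← map_conj_conj]
    exact he.symm
  set a := f * h
  have hpow : ∀ i : ℕ, a ^ i * (h ^ i)⁻¹ ∈ Fb := fun i => by
    induction i with
    | zero => simp
    | succ i ih =>
      rw [pow_succ, pow_succ]
      have e : a ^ i * a * (h ^ i * h)⁻¹ = (a ^ i * (h ^ i)⁻¹) * ((h ^ i) * f * (h ^ i)⁻¹) := by
        simp only [a]; group
      rw [e]
      exact mul_mem ih (Subgroup.Normal.conj_mem inferInstance f hf _)
  have hmdvd : ∀ i, a ^ i ∈ Fb → m ∣ i := fun i hi => by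
    have h1 : h ^ i ∈ Fb := by
      have := mul_mem (inv_mem (hpow i)) hi
      simpa using this
    have h2 : h ^ i = 1 := hFconj _ h1 1 _ (pow_mem hh i) (by simp)
    rw [show m = orderOf h from hgen.symm]
    exact orderOf_dvd_of_pow_eq_one h2
  obtain ⟨y, z, hz, hay⟩ : ∃ y z, z ∈ Hb ∧ a = y * z * y⁻¹ := by
    by_contra hne
    push Not at hne
    have : a ∈ Fb := by
      have h1 : a ∈ Cfsg.frobeniusKernel Hb := Or.inr fun y hy => by
        obtain ⟨z, hz, he⟩ := hy
        exact hne y z hz he.symm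
      rwa [hker] at h1
    have := hmdvd 1 (by rwa [pow_one])
    rw [Nat.dvd_one] at this
    omega
  have hapow : ∀ i : ℕ, a ^ i = y * z ^ i * y⁻¹ := fun i => by rw [hay, conj_pow]
  have hord : orderOf a = m := by
    refine Nat.dvd_antisymm (orderOf_dvd_of_pow_eq_one ?_) (hmdvd _ (by rw [pow_orderOf_eq_one]; exact one_mem _))
    have : z ^ m = 1 := congrArg Subtype.val (pow_card_eq_one' (x := (⟨z, hz⟩ : Hb)))
    rw [hapow, this]; group
  have hfpf : ∀ i, ¬ m ∣ i → ∀ u ∈ Fb, Commute u (a ^ i) → u = 1 := by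
    intro i hi u hu hc
    by_contra hu1
    have hzi : z ^ i ≠ 1 := fun h0 => hi (hmdvd i (by rw [hapow, h0]; simp))
    set u' := y⁻¹ * u * y
    have hu' : u' ∉ Hb := fun h' => hu1 (hFconj u hu y u' h' (by simp [u']; group))
    have hmem : z ^ i ∈ Hb ⊓ (MulAut.conj u' • Hb) := by
      refine ⟨pow_mem hz i, ⟨z ^ i, pow_mem hz i, ?_⟩⟩
      show u' * z ^ i * u'⁻¹ = z ^ i
      have e : u * (y * z ^ i * y⁻¹) = (y * z ^ i * y⁻¹) * u := hapow i ▸ hc.eq
      calc u' * z ^ i * u'⁻¹ = y⁻¹ * (u * (y * z ^ i * y⁻¹)) * u⁻¹ * y := by simp only [u']; group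
        _ = z ^ i := by rw [e]; group
    rw [hHb.2.2 u' hu', Subgroup.mem_bot] at hmem
    exact hzi hmem
  -- every lift of `a` may be assumed to have order `m`
  by_cases hlift : ∃ x : G, π x = a ∧ orderOf x ≠ m
  · obtain ⟨x, hx, hxo⟩ := hlift
    have hmx : m ∣ orderOf x := by rw [← hord, ← hx]; exact orderOf_map_dvd π x
    obtain ⟨j, hj⟩ := hmx
    have hj1 : j ≠ 1 := fun h1 => hxo (by rw [hj, h1, mul_one])
    obtain ⟨q, hq, hqj⟩ := Nat.exists_prime_and_dvd hj1
    refine ⟨q, hq, ?_, x ^ (orderOf x / (q * m)), orderOf_pow_orderOf_div (orderOf_pos x).ne'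
      (by rw [hj, mul_comm m j]; exact mul_dvd_mul hqj dvd_rfl)⟩
    have h1 : x ^ m ∈ N := by
      rw [← QuotientGroup.eq_one_iff]
      show π (x ^ m) = 1
      rw [map_pow, hx, ← hord, pow_orderOf_eq_one]
    have h2 := Subgroup.orderOf_dvd_natCard N h1
    rw [orderOf_pow' x (by omega), hj, Nat.gcd_mul_right_left, Nat.mul_div_cancel_left _ (by omega)] at h2
    exact hqj.trans h2
  push Not at hlift
  exfalso
  -- the Sylow `r`-subgroup above
  set K := Rb.comap π
  have hNK : N ≤ K := fun n hn => by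
    show π n ∈ Rb
    rw [QuotientGroup.mk'_apply, (QuotientGroup.eq_one_iff n).2 hn]
    exact one_mem _
  obtain ⟨R, hRK, hKR, hRp, hRN⟩ : ∃ R : Subgroup G, R ≤ K ∧ K ≤ N ⊔ R ∧ IsPGroup r R ∧ N ⊓ R = ⊥ := by
    have hS : IsSylowIn r _ K := IsSylowIn.of_map_subtype (default : Sylow r K)
    refine ⟨_, hS.1, ?_, hS.2.1, ?_⟩
    · set S₀ := (default : Sylow r K)
      set φ := (π.comp K.subtype)
      have hφ : φ.range = Rb := by
        rw [MonoidHom.range_eq_map, ← Subgroup.map_map, ← MonoidHom.range_eq_map, Subgroup.range_subtype]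
        exact Subgroup.map_comap_eq_self_of_surjective hπ Rb
      have hRbp : IsPGroup r φ.range := hφ ▸ hRb.2.1
      intro k hk
      set S₁ := S₀.mapSurjective (φ.rangeRestrict_surjective)
      have htop : (S₁ : Subgroup φ.range) = ⊤ := by
        exact (S₁.3 (IsPGroup.of_injective hRbp (⊤ : Subgroup φ.range).subtype (Subgroup.subtype_injective _)) le_top).symm
      obtain ⟨s, hs, he⟩ := (htop.ge (Subgroup.mem_top (φ.rangeRestrict ⟨k, hk⟩)) :
        φ.rangeRestrict ⟨k, hk⟩ ∈ (S₀ : Subgroup K).map φ.rangeRestrict)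
      have h3 : π (k * (s : G)⁻¹) = 1 := by
        have : π s = π k := congrArg Subtype.val he
        rw [map_mul, map_inv, this, mul_inv_cancel]
      have := mul_mem (Subgroup.mem_sup_left (T := (S₀ : Subgroup K).map K.subtype) ((QuotientGroup.eq_one_iff _).1 h3))
        (Subgroup.mem_sup_right (S := N) (⟨s, hs, rfl⟩ : (s : G) ∈ (S₀ : Subgroup K).map K.subtype))
      rwa [inv_mul_cancel_right] at this
    · refine (disjoint_iff.1 (Subgroup.disjoint_of_coprime_natCard ?_))
      obtain ⟨k, hk⟩ := IsPGroup.iff_card.1 hS.2.1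
      rw [hk]
      by_cases hk0 : k = 0
      · subst hk0; simp
      · refine (Nat.Coprime.pow_right k ?_)
        refine Nat.Coprime.coprime_dvd_right ?_ hcop.symm
        obtain ⟨l, hl⟩ := IsPGroup.iff_card.1 hRb.2.1
        have hl0 : l ≠ 0 := by
          intro hl0
          refine hSr ?_
          rw [hl0, pow_zero, Subgroup.card_eq_one] at hl
          rw [hl]
          exact bot_le
        exact (dvd_pow_self r hl0).trans (hl ▸ Subgroup.card_dvd_of_le hRbF)
  have hRb' : ∀ x ∈ R, π x ∈ Rb := fun x hx => hRK hx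
  obtain ⟨g₀, hg₀⟩ := hπ a
  have hKn : g₀ ∈ Subgroup.normalizer (K : Set G) := Subgroup.mem_normalizer_iff.2 fun x => by
    show π x ∈ Rb ↔ π (g₀ * x * g₀⁻¹) ∈ Rb
    rw [map_mul, map_mul, map_inv, hg₀]
    exact Subgroup.mem_normalizer_iff.1 hfR _
  have hRcard : IsSylowIn r R K := by
    refine ⟨hRK, hRp, fun U hU hUp hRU => le_antisymm (fun u hu => ?_) hRU⟩
    obtain ⟨n, hn, s, hs, rfl⟩ := (CfsgLib.Coprime.mem_sup_of_le_normalizer
      (fun x _ => by rw [Subgroup.normalizer_eq_top]; exact Subgroup.mem_top x)).1 (hKR (hU hu))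
    have hn' : n ∈ N ⊓ U := ⟨hn, by simpa using mul_mem hu (inv_mem (hRU hs))⟩
    have hNU : N ⊓ U = ⊥ := by
      by_cases hR1 : Nat.card R = 1
      · exfalso
        refine hSr ?_
        rw [Subgroup.card_eq_one] at hR1
        intro x hx
        obtain ⟨k, rfl⟩ := hπ x
        have : k ∈ N := by simpa [hR1] using hKR (show k ∈ K from hx)
        rw [show π k = 1 from (QuotientGroup.eq_one_iff k).2 this]
        exact one_mem _
      · refine disjoint_iff.1 (Subgroup.disjoint_of_coprime_natCard ?_)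
        obtain ⟨k, hk⟩ := IsPGroup.iff_card.1 hRp
        obtain ⟨l, hl⟩ := IsPGroup.iff_card.1 hUp
        rw [hl]
        refine Nat.Coprime.pow_right l (Nat.Coprime.symm ?_)
        refine (hr.1.coprime_iff_not_dvd).2 fun hrN => ?_
        obtain ⟨x, hx⟩ := exists_prime_orderOf_dvd_card' (G := N) r hrN
        have hk0 : k ≠ 0 := fun h0 => hR1 (by rw [hk, h0, pow_zero])
        obtain ⟨j, hj⟩ := IsPGroup.iff_card.1 hRb.2.1
        have hj0 : j ≠ 0 := by
          intro hj0
          rw [hj0, pow_zero, Subgroup.card_eq_one] at hj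
          exact hSr (hj ▸ bot_le)
        have := Nat.dvd_gcd ((dvd_pow_self r hj0).trans (hj ▸ Subgroup.card_dvd_of_le hRbF)) hrN
        rw [hcop] at this
        exact hr.1.ne_one (Nat.dvd_one.1 this)
    rw [hNU, Subgroup.mem_bot] at hn'
    rwa [hn', one_mul]
  obtain ⟨n₁, hn₁, hn₁R⟩ : ∃ n ∈ N, n * g₀ ∈ Subgroup.normalizer (R : Set G) := by
    have h1 : IsSylowIn r (R.map (MulAut.conj g₀).toMonoidHom) K := by
      have := hRcard.map_conj g₀
      rwa [map_conj_eq_iff.2 hKn] at this
    obtain ⟨k, hk, he⟩ := h1.conjugate hRcard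
    obtain ⟨n, hn, s, hs, hns⟩ := (CfsgLib.Coprime.mem_sup_of_le_normalizer
      (fun x _ => by rw [Subgroup.normalizer_eq_top]; exact Subgroup.mem_top x)).1 (hKR (inv_mem hk))
    refine ⟨n⁻¹, inv_mem hn, map_conj_eq_iff.1 ?_⟩
    have hk' : k = s⁻¹ * n⁻¹ := by rw [← inv_inv k, ← hns, mul_inv_rev]
    rw [map_conj_conj] at he
    have e : (R.map (MulAut.conj (k * g₀)).toMonoidHom).map (MulAut.conj s).toMonoidHom = R := by
      rw [← he]; exact map_conj_eq_iff.2 (Subgroup.le_normalizer hs)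
    rw [map_conj_conj, hk', mul_assoc, mul_inv_cancel_left] at e
    exact e
  -- the invariant Sylow subgroup of `N`
  have hRNn : R ≤ Subgroup.normalizer (N : Set G) := fun x _ => by rw [Subgroup.normalizer_eq_top]; exact Subgroup.mem_top x
  have hsolv : Group.IsSolvable R := by haveI := hRp.isNilpotent; infer_instance
  have hRNcop : (Nat.card R).Coprime (Nat.card N) := by
    obtain ⟨l, hl⟩ := IsPGroup.iff_card.1 hRb.2.1
    obtain ⟨k, hk⟩ := IsPGroup.iff_card.1 hRp
    rw [hk]
    refine Nat.Coprime.pow_left k (hcop.coprime_dvd_left ?_)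
    have hl0 : l ≠ 0 := by
      intro hl0
      rw [hl0, pow_zero, Subgroup.card_eq_one] at hl
      exact hSr (hl ▸ bot_le)
    exact (dvd_pow_self r hl0).trans (hl ▸ Subgroup.card_dvd_of_le hRbF)
  refine hSr fun xb hxb => ?_
  obtain ⟨x₀, rfl⟩ := hπ xb
  obtain ⟨n₀, hn₀, s₀, hs₀, rfl⟩ := (CfsgLib.Coprime.mem_sup_of_le_normalizer hRNn).1 (hKR (show x₀ ∈ K from hxb))
  refine ⟨s₀, ?_, by rw [map_mul, show π n₀ = 1 from (QuotientGroup.eq_one_iff n₀).2 hn₀, one_mul]⟩
  refine Subgroup.le_centralizer_iff.1 (?_ : N ≤ Subgroup.centralizer (R : Set G)) hs₀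
  have hdvd : Nat.card N ∣ Nat.card ((Subgroup.centralizer (R : Set G)).subgroupOf N) := by
    refine (Nat.dvd_iff_prime_pow_dvd_dvd _ _).2 fun p k hp hpk => ?_
    haveI : Fact p.Prime := ⟨hp⟩
    rcases Nat.eq_zero_or_pos k with rfl | hk
    · simp
    have hpN : p ∣ Nat.card N := (dvd_pow_self p hk.ne').trans hpk
    obtain ⟨Pp, hPR⟩ := CfsgLib.Coprime.exists_invariant_sylow hRNn hRNcop (.inl hsolv) p
    refine dvd_trans (pow_dvd_pow p ((hp.pow_dvd_iff_le_factorization Nat.card_pos.ne').1 hpk)) ?_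
    rw [← Pp.card_eq_multiplicity]
    refine Subgroup.card_dvd_of_le fun u hu => ?_
    set P := (Pp : Subgroup N).map N.subtype with hPdef
    have hPN : P ≤ N := Subgroup.map_subtype_le _
    have hPp : IsPGroup p P := Pp.2.map _
    suffices hc : R ≤ Subgroup.centralizer (P : Set G) from
      Subgroup.le_centralizer_iff.1 hc (⟨u, hu, rfl⟩ : (u : G) ∈ P)
    -- adjust the lift to normalize `P`
    set g₁ := n₁ * g₀
    have hPg : ∃ c ∈ N ⊓ Subgroup.centralizer (R : Set G), c * g₁ ∈ Subgroup.normalizer (P : Set G) := by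
      have hg1N : g₁ ∈ Subgroup.normalizer (N : Set G) := by rw [Subgroup.normalizer_eq_top]; exact Subgroup.mem_top _
      obtain ⟨Qp, hQ⟩ := CfsgLib.Coprime.exists_sylow_map_eq (K := N) (H := P.map (MulAut.conj g₁).toMonoidHom) (p := p)
        ((Subgroup.map_mono hPN).trans (map_conj_eq_iff.2 hg1N).le)
        (by rw [CfsgLib.Coprime.card_conj_map, hPdef, CfsgLib.Coprime.card_map_subtype, Pp.card_eq_multiplicity])
      have hQR : R ≤ Subgroup.normalizer (((Qp : Subgroup N).map N.subtype : Subgroup G) : Set G) := by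
        rw [hQ, normalizer_map_conj]
        conv_lhs => rw [← map_conj_eq_iff.2 hn₁R]
        exact Subgroup.map_mono hPR
      obtain ⟨c, hc, he⟩ := CfsgLib.Coprime.exists_centralizer_conj_sylow hRNn hRNcop (.inl hsolv) Qp Pp hQR hPR
      refine ⟨c, ⟨c.2, hc⟩, map_conj_eq_iff.1 ?_⟩
      rw [← map_conj_conj, ← hQ, ← CfsgLib.Coprime.map_smul_sylow, he]
    obtain ⟨c, hc, hgP⟩ := hPg
    set g := c * g₁ with hgdef
    have hπg : π g = a := by
      rw [hgdef, map_mul, map_mul, show π c = 1 from (QuotientGroup.eq_one_iff c).2 hc.1,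
        show π n₁ = 1 from (QuotientGroup.eq_one_iff n₁).2 hn₁, one_mul, one_mul, hg₀]
    have hgR : g ∈ Subgroup.normalizer (R : Set G) :=
      mul_mem (Subgroup.centralizer_le_normalizer _ hc.2) hn₁R
    have hgm : g ^ m = 1 := by rw [← hlift g hπg, pow_orderOf_eq_one]
    set M := Subgroup.normalizer (P : Set G)
    let gM : M := ⟨g, hgP⟩
    have hnorm : ∀ v : Additive (Abelianization P), ∑ i ∈ Finset.range m, rho P (gM ^ i) v = 0 := by
      intro v
      obtain ⟨w, rfl⟩ := Additive.ofMul.surjective v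
      obtain ⟨a', rfl⟩ : ∃ a' : P, Abelianization.of a' = w := QuotientGroup.mk_surjective w
      have key : ∀ k : ℕ, ∃ b : P, ((a' : G) * g) ^ k = b * g ^ k ∧
          Additive.ofMul (Abelianization.of b) =
            ∑ i ∈ Finset.range k, rho P (gM ^ i) (Additive.ofMul (Abelianization.of a')) := by
        intro k
        induction k with
        | zero => exact ⟨1, by simp, by simp⟩
        | succ k ih =>
          obtain ⟨b, hb, hbv⟩ := ih
          refine ⟨b * ⟨g ^ k * a' * (g ^ k)⁻¹, (Subgroup.mem_normalizer_iff.1 (pow_mem hgP k) a').1 a'.2⟩,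
            ?_, ?_⟩
          · rw [pow_succ, hb, pow_succ, Subgroup.coe_mul]; group
          · rw [map_mul, ofMul_mul, Finset.sum_range_succ, ← hbv, rho_of]
            rfl
      obtain ⟨b, hb, hbv⟩ := key m
      have h1 : ((a' : G) * g) ^ m = 1 := by
        have := hlift ((a' : G) * g) (by rw [map_mul, show π (a' : G) = 1 from
          (QuotientGroup.eq_one_iff _).2 (hPN a'.2), one_mul, hπg])
        rw [← this, pow_orderOf_eq_one]
      rw [h1, hgm, mul_one] at hb
      rw [← hbv, show b = 1 from Subtype.ext hb.symm, map_one]; rfl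
    let ι : R → M := fun x => ⟨x, hPR x.2⟩
    haveI : Fintype R := Fintype.ofFinite _
    have key : ∀ v, ∀ r₀ : R, rho P (ι r₀) v - v = 0 := by
      intro v r₀
      set w := rho P (ι r₀) v - v
      have hσ : ∀ v', ∑ x : R, rho P (ι x) (rho P (ι r₀) v') = ∑ x : R, rho P (ι x) v' := by
        intro v'
        refine Fintype.sum_equiv (Equiv.mulRight r₀) _ _ fun x => ?_
        show rho P (ι x) (rho P (ι r₀) v') = rho P (ι (x * r₀)) v'
        rw [show ι (x * r₀) = ι x * ι r₀ from rfl, map_mul]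
        rfl
      have hw : ∑ x : R, rho P (ι x) w = 0 := by
        simp only [w, map_sub, Finset.sum_sub_distrib, hσ, sub_self]
      have hzero : ∑ i ∈ Finset.range m, ∑ x : R, rho P (ι x * gM ^ i * (ι x)⁻¹) w = 0 := by
        rw [Finset.sum_comm]
        refine Finset.sum_eq_zero fun x _ => ?_
        have e : ∀ i, rho P (ι x * gM ^ i * (ι x)⁻¹) w = rho P (ι x) (rho P (gM ^ i) (rho P (ι x)⁻¹ w)) :=
          fun i => by rw [map_mul, map_mul]; rfl
        simp only [e]
        rw [← map_sum, hnorm, map_zero]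
      have hi : ∀ i ∈ Finset.range m, i ≠ 0 → ∑ x : R, rho P (ι x * gM ^ i * (ι x)⁻¹) w = 0 := by
        intro i hi hi0
        have hgi : g ^ i ∈ Subgroup.normalizer (R : Set G) := pow_mem hgR i
        let ψ : R → R := fun x => ⟨(x : G) * (g ^ i * (x : G)⁻¹ * (g ^ i)⁻¹),
          mul_mem x.2 ((Subgroup.mem_normalizer_iff.1 hgi _).1 (inv_mem x.2))⟩
        have hψ : Function.Bijective ψ := by
          refine (Finite.injective_iff_bijective).1 fun x y hxy => ?_
          have h1 : (x : G) * (g ^ i * (x : G)⁻¹ * (g ^ i)⁻¹) = (y : G) * (g ^ i * (y : G)⁻¹ * (g ^ i)⁻¹) :=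
            congrArg Subtype.val hxy
          have h2 : Commute ((y : G)⁻¹ * x) (g ^ i) := by
            show (y : G)⁻¹ * x * g ^ i = g ^ i * ((y : G)⁻¹ * x)
            calc (y : G)⁻¹ * x * g ^ i
                = (y : G)⁻¹ * ((x : G) * (g ^ i * (x : G)⁻¹ * (g ^ i)⁻¹)) * g ^ i * x := by group
              _ = g ^ i * ((y : G)⁻¹ * x) := by rw [h1]; group
          have h3 := h2.map π
          rw [map_pow, hπg] at h3
          have h4 := hfpf i (fun hd => hi0 (Nat.eq_zero_of_dvd_of_lt hd (Finset.mem_range.1 hi))) _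
            (hRbF (hRb' _ (R.mul_mem (R.inv_mem y.2) x.2))) h3
          have h5 : (y : G)⁻¹ * x ∈ N ⊓ R := ⟨(QuotientGroup.eq_one_iff _).1 h4, R.mul_mem (R.inv_mem y.2) x.2⟩
          rw [hRN, Subgroup.mem_bot, inv_mul_eq_one] at h5
          exact Subtype.ext h5.symm
        have e : ∀ x : R, ι x * gM ^ i * (ι x)⁻¹ = ι (ψ x) * gM ^ i := fun x => Subtype.ext (by
          show (x : G) * ((gM ^ i : M) : G) * (x : G)⁻¹ = (x : G) * (g ^ i * (x : G)⁻¹ * (g ^ i)⁻¹) * ((gM ^ i : M) : G)
          simp only [SubmonoidClass.coe_pow, gM]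
          group)
        simp only [e]
        rw [hψ.sum_comp (fun x => rho P (ι x * gM ^ i) w)]
        let θ : R → R := fun x => ⟨(g ^ i)⁻¹ * (x : G) * g ^ i, by
          have := (Subgroup.mem_normalizer_iff.1 (inv_mem hgi) (x : G)).1 x.2
          rwa [inv_inv] at this⟩
        have hθ : Function.Bijective θ := (Finite.injective_iff_bijective).1 fun x y hxy => Subtype.ext (by
          have := congrArg Subtype.val hxy
          simpa [θ] using this)
        have e2 : ∀ x : R, rho P (ι x * gM ^ i) w = rho P (gM ^ i) (rho P (ι (θ x)) w) := fun x => by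
          rw [show ι x * gM ^ i = gM ^ i * ι (θ x) from Subtype.ext (by
            show (x : G) * ((gM ^ i : M) : G) = ((gM ^ i : M) : G) * ((g ^ i)⁻¹ * (x : G) * g ^ i)
            simp only [SubmonoidClass.coe_pow, gM]
            group), map_mul]
          rfl
        simp only [e2]
        rw [← map_sum, hθ.sum_comp (fun x => rho P (ι x) w), hw, map_zero]
      rw [Finset.sum_eq_single 0 hi (fun h0 => absurd (Finset.mem_range.2 (by omega)) h0)] at hzero
      simp only [pow_zero, mul_one, mul_inv_cancel, map_one] at hzero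
      have h6 : Nat.card R • w = 0 := by
        rw [Nat.card_eq_fintype_card, ← Finset.card_univ, ← Finset.sum_const]
        exact hzero
      have h7 : addOrderOf w ∣ Nat.card P := by
        refine addOrderOf_dvd_of_nsmul_eq_zero ?_
        obtain ⟨u', hu'⟩ := Additive.ofMul.surjective w
        obtain ⟨b, rfl⟩ : ∃ b : P, Abelianization.of b = u' := QuotientGroup.mk_surjective u'
        rw [← hu', ← ofMul_pow, ← map_pow, pow_card_eq_one', map_one]
        rfl
      exact AddMonoid.addOrderOf_eq_one_iff.1 (Nat.eq_one_of_dvd_coprimes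
        (hRNcop.coprime_dvd_right (Subgroup.card_dvd_of_le hPN)) (addOrderOf_dvd_of_nsmul_eq_zero h6) h7)
    intro x hx
    have hxc : (orderOf x).Coprime p :=
      (hRNcop.coprime_dvd_left (Subgroup.orderOf_dvd_natCard R hx)).coprime_dvd_right hpN
    refine Cfsg.Agent.S2864.mem_centralizer_of_coprime hPp hxc (fun b hb v hv => ?_)
      ((Subgroup.zpowers_le.2 hx).trans hPR)
    have h1 := sub_eq_zero.1 (key (Additive.ofMul (Abelianization.of ⟨v, hv⟩)) ⟨b, (Subgroup.zpowers_le.2 hx) hb⟩)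
    rw [rho_of] at h1
    have h2 := QuotientGroup.eq.1 (Additive.ofMul.injective h1)
    have h3 : Subgroup.map P.subtype ⁅(⊤ : Subgroup P), (⊤ : Subgroup P)⁆ = ⁅P, P⁆ := by
      rw [Subgroup.map_commutator, ← MonoidHom.range_eq_map, Subgroup.range_subtype]
    have h4 : b * v⁻¹ * b⁻¹ * v ∈ ⁅P, P⁆ := h3 ▸ ⟨_, h2, by simp [mul_assoc, ι]⟩
    have hvb : v ∈ Subgroup.normalizer ((⁅P, P⁆ : Subgroup G) : Set G) :=
      CfsgLib.LocalEven.Commutators.normalizer_commutator_left P P hv
    have h5 := (Subgroup.mem_normalizer_iff.1 hvb _).1 (inv_mem h4)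
    rw [show ⁅b, v⁆ = v * (b * v⁻¹ * b⁻¹ * v)⁻¹ * v⁻¹ * 1 by simp only [commutatorElement_def]; group, mul_one]
    exact h5
  have htop : (Subgroup.centralizer (R : Set G)).subgroupOf N = ⊤ :=
    Subgroup.eq_top_of_card_eq _ (Nat.dvd_antisymm (Subgroup.card_subgroup_dvd_card _) hdvd)
  exact fun n hn => Subgroup.subgroupOf_eq_top.1 htop hn

end Cfsg.Agent.S3703
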