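import Cfsg.Statements.S3704
import Mathlib

set_option linter.style.haveILetI false

set_option autoImplicit false
open Cfsg

namespace Cfsg.Agent.S3704

open MulAction in
/-- Membership in one `H`-orbit determines membership in any other affinely. -/
theorem orbit_indicator_affine {G Ω : Type*} [Group G] [Finite G] [MulAction G Ω] [Fintype Ω]
    (h2 : MulAction.IsMultiplyPretransitive G Ω 2) (H : Subgroup G)
    (hidx : H.index = Nat.card Ω) [DecidableEq (orbitRel.Quotient H Ω)] {x₀ x₁ : Ω}
    (hne : (Quotient.mk'' x₁ : orbitRel.Quotient H Ω) ≠ Quotient.mk'' x₀)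
    (o' : orbitRel.Quotient H Ω) :
    ∃ α β : ℝ, ∀ x : Ω, (if (Quotient.mk'' x : orbitRel.Quotient H Ω) = o' then (1 : ℝ) else 0) =
      α * (if (Quotient.mk'' x : orbitRel.Quotient H Ω) = Quotient.mk'' x₀ then (1 : ℝ) else 0) + β := by
  classical
  set o : orbitRel.Quotient H Ω := Quotient.mk'' x₀ with ho
  let R : Ω → G ⧸ H → orbitRel.Quotient H Ω := fun x =>
    Quotient.lift (fun g : G => (Quotient.mk'' (g⁻¹ • x) : orbitRel.Quotient H Ω)) (by
      intro g g' hgg'
      have hm : g⁻¹ * g' ∈ H := QuotientGroup.leftRel_apply.1 hgg'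
      refine Quotient.sound' ⟨⟨g⁻¹ * g', hm⟩, ?_⟩
      show (g⁻¹ * g') • g'⁻¹ • x = g⁻¹ • x
      rw [← mul_smul, mul_assoc, mul_inv_cancel, mul_one])
  have hR1 : ∀ x, R x ((1 : G) : G ⧸ H) = Quotient.mk'' x := fun x => by
    show (Quotient.mk'' ((1 : G)⁻¹ • x) : orbitRel.Quotient H Ω) = _
    rw [inv_one, one_smul]
  have hRg : ∀ (g : G) x z, R (g • x) (g • z) = R x z := by
    intro g x z
    induction z using QuotientGroup.induction_on with
    | _ k =>
      show (Quotient.mk'' ((g * k)⁻¹ • g • x) : orbitRel.Quotient H Ω) = Quotient.mk'' (k⁻¹ • x)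
      rw [mul_inv_rev, mul_smul, inv_smul_smul]
  haveI : Fintype (G ⧸ H) := Fintype.ofFinite _
  let I : orbitRel.Quotient H Ω → Ω → G ⧸ H → ℝ := fun q x z => if R x z = q then 1 else 0
  let P : orbitRel.Quotient H Ω → orbitRel.Quotient H Ω → Ω → Ω → ℝ := fun q q' x y =>
    ∑ z, I q x z * I q' y z
  have hPg : ∀ q q' (g : G) (x y : Ω), P q q' (g • x) (g • y) = P q q' x y := by
    intro q q' g x y
    show (∑ z, I q (g • x) z * I q' (g • y) z) = ∑ z, I q x z * I q' y z
    rw [← Equiv.sum_comp (MulAction.toPerm g)]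
    exact Finset.sum_congr rfl fun z _ => by simp only [I, MulAction.toPerm_apply, hRg]
  have htrans2 : ∀ x y x' y' : Ω, x ≠ y → x' ≠ y' → ∃ g : G, g • x = x' ∧ g • y = y' := fun x y x' y' =>
    (MulAction.is_two_pretransitive_iff.1 h2)
  haveI : MulAction.IsPretransitive G Ω :=
    MulAction.isPretransitive_of_is_two_pretransitive
  have h01 : x₀ ≠ x₁ := fun h => hne (h ▸ rfl)
  have hdiag : ∀ q q' x, P q q' x x = P q q' x₀ x₀ := fun q q' x => by
    obtain ⟨g, rfl⟩ := MulAction.exists_smul_eq G x₀ x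
    exact hPg q q' g x₀ x₀
  have hoff : ∀ q q' x y, x ≠ y → P q q' x y = P q q' x₀ x₁ := fun q q' x y hxy => by
    obtain ⟨g, rfl, rfl⟩ := htrans2 x₀ x₁ x y h01 hxy
    exact hPg q q' g x₀ x₁
  set k := P o o x₀ x₀
  set l := P o o x₀ x₁
  have hk : ∀ x, ∑ z, I o x z = k := by
    intro x
    show _ = P o o x₀ x₀
    rw [← hdiag o o x]
    refine Finset.sum_congr rfl fun z _ => ?_
    simp only [I]
    split_ifs <;> simp
  have hl0 : 0 ≤ l := Finset.sum_nonneg fun z _ => by
    simp only [I]
    split_ifs <;> simp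
  have hlk : l < k := by
    rw [← hk x₀]
    refine Finset.sum_lt_sum (fun z _ => ?_) ⟨((1 : G) : G ⧸ H), Finset.mem_univ _, ?_⟩
    · simp only [I]
      split_ifs <;> simp
    · simp only [I, hR1]
      rw [if_pos ho.symm, if_neg hne]
      norm_num
  let L : (Ω → ℝ) →ₗ[ℝ] (G ⧸ H → ℝ) :=
    { toFun := fun v z => ∑ x, v x * I o x z
      map_add' := fun v w => by
        funext z; simp [add_mul, Finset.sum_add_distrib]
      map_smul' := fun c v => by
        funext z; simp [Finset.mul_sum, mul_assoc] }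
  have hinj : Function.Injective L := by
    rw [← LinearMap.ker_eq_bot, LinearMap.ker_eq_bot']
    intro v hv
    have h0 : ∑ z, (L v z) ^ 2 = 0 := by simp [hv]
    have h1 : ∑ z, (L v z) ^ 2 = (k - l) * ∑ x, v x ^ 2 + l * (∑ x, v x) ^ 2 := by
      have e1 : ∀ z, (L v z) ^ 2 = ∑ x, ∑ y, v x * v y * (I o x z * I o y z) := fun z => by
        show (∑ x, v x * I o x z) ^ 2 = _
        rw [sq, Finset.sum_mul_sum]
        exact Finset.sum_congr rfl fun x _ => Finset.sum_congr rfl fun y _ => by ring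
      have e2 : ∀ x y, P o o x y = l + (if x = y then k - l else 0) := fun x y => by
        split_ifs with h
        · subst h; rw [hdiag o o x]; ring
        · rw [hoff o o x y h, add_zero]
      rw [Finset.sum_congr rfl (fun z _ => e1 z), Finset.sum_comm,
        Finset.sum_congr rfl (fun x _ => Finset.sum_comm)]
      simp only [← Finset.mul_sum]
      have e3 : ∀ x, ∑ y, v x * v y * P o o x y = l * v x * ∑ y, v y + (k - l) * v x ^ 2 := fun x => by
        rw [Finset.sum_congr rfl (fun y _ => show v x * v y * P o o x y =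
          l * v x * v y + (if x = y then (k - l) * v x ^ 2 else 0) by
            rw [e2]; split_ifs with h
            · subst h; ring
            · ring), Finset.sum_add_distrib, ← Finset.mul_sum, Finset.sum_ite_eq, if_pos (Finset.mem_univ _)]
      show ∑ x, ∑ y, v x * v y * P o o x y = _
      rw [Finset.sum_congr rfl (fun x _ => e3 x), Finset.sum_add_distrib, ← Finset.sum_mul,
        ← Finset.mul_sum, ← Finset.mul_sum]
      ring
    funext x
    have h2 : 0 ≤ ∑ y, v y ^ 2 := Finset.sum_nonneg fun y _ => sq_nonneg _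
    have h3 : v x ^ 2 ≤ ∑ y, v y ^ 2 :=
      Finset.single_le_sum (fun y _ => sq_nonneg (v y)) (Finset.mem_univ x)
    have h4 : (k - l) * ∑ y, v y ^ 2 = 0 := by
      have := mul_nonneg hl0 (sq_nonneg (∑ y, v y))
      have := mul_nonneg (sub_nonneg.2 hlk.le) h2
      linarith
    have h5 : ∑ y, v y ^ 2 = 0 := (mul_eq_zero.1 h4).resolve_left (sub_pos.2 hlk).ne'
    exact pow_eq_zero_iff (n := 2) (by norm_num) |>.1 (le_antisymm (h5 ▸ h3) (sq_nonneg _))
  have hsurj : Function.Surjective L := by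
    refine (LinearMap.injective_iff_surjective_of_finrank_eq_finrank ?_).1 hinj
    rw [Module.finrank_fintype_fun_eq_card, Module.finrank_fintype_fun_eq_card,
      ← Nat.card_eq_fintype_card, ← Nat.card_eq_fintype_card, ← hidx]
    rfl
  set a' := P o o' x₀ x₀
  set b' := P o o' x₀ x₁
  set α := (a' - b') / (k - l) with hα
  have hkpos : 0 < k := lt_of_le_of_lt hl0 hlk
  set β := (b' - α * l) / k with hβ
  refine ⟨α, β, fun x => ?_⟩
  let D : G ⧸ H → ℝ := fun z => I o' x z - α * I o x z - β
  have horth : ∀ y, ∑ z, I o y z * D z = 0 := by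
    intro y
    have hsum : ∑ z, I o y z * D z = P o o' y x - α * P o o y x - β * ∑ z, I o y z := by
      show ∑ z, I o y z * (I o' x z - α * I o x z - β) =
        (∑ z, I o y z * I o' x z) - α * (∑ z, I o y z * I o x z) - β * ∑ z, I o y z
      rw [Finset.mul_sum, Finset.mul_sum, ← Finset.sum_sub_distrib, ← Finset.sum_sub_distrib]
      exact Finset.sum_congr rfl fun z _ => by ring
    rw [hsum, hk]
    have hne0 : k - l ≠ 0 := (sub_pos.2 hlk).ne'
    by_cases hyx : y = x
    · subst hyx
      rw [hdiag o o' y, hdiag o o y, hβ]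
      have : α * (k - l) = a' - b' := by rw [hα, div_mul_cancel₀ _ hne0]
      rw [div_mul_cancel₀ _ hkpos.ne']
      linarith
    · rw [hoff o o' y x hyx, hoff o o y x hyx, hβ, div_mul_cancel₀ _ hkpos.ne']
      ring
  obtain ⟨v, hv⟩ := hsurj D
  have hzero : ∑ z, D z * D z = 0 := by
    calc ∑ z, D z * D z = ∑ z, (∑ y, v y * I o y z) * D z := by
          refine Finset.sum_congr rfl fun z _ => ?_
          rw [show (∑ y, v y * I o y z) = D z from congrFun hv z]
      _ = ∑ y, v y * ∑ z, I o y z * D z := by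
          simp only [Finset.sum_mul, Finset.mul_sum, mul_assoc]
          rw [Finset.sum_comm]
      _ = 0 := by simp [horth]
  have hD := (Finset.sum_eq_zero_iff_of_nonneg (fun z _ => mul_self_nonneg (D z))).1 hzero
    ((1 : G) : G ⧸ H) (Finset.mem_univ _)
  have := mul_self_eq_zero.1 hD
  simp only [D, I, hR1] at this
  linarith

/-- Let G be a finite group acting faithfully and 2-transitively on a finite set Ω of size n, and let H be a subgroup of index n in G which is not transitive on Ω and fixes no point of Ω. Then H has exactly two orbits on Ω. -/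
theorem result {G Ω : Type*} [Group G] [Finite G] [MulAction G Ω] [FaithfulSMul G Ω] [Finite Ω] (h2 : MulAction.IsMultiplyPretransitive G Ω 2) (H : Subgroup G) (hidx : H.index = Nat.card Ω) (hnt : ¬ MulAction.IsPretransitive H Ω) (hfix : ∀ a : Ω, ∃ h : H, h • a ≠ a) : Nat.card (MulAction.orbitRel.Quotient H Ω) = 2 := by
  classical
  haveI : Fintype Ω := Fintype.ofFinite Ω
  haveI : Fintype (G ⧸ H) := Fintype.ofFinite _
  have hne : Nonempty Ω := by
    by_contra h
    haveI := not_nonempty_iff.1 h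
    rw [Nat.card_of_isEmpty] at hidx
    exact Subgroup.index_ne_zero_of_finite hidx
  let mk : Ω → MulAction.orbitRel.Quotient H Ω := Quotient.mk''
  have hcard2 : 2 ≤ Nat.card (MulAction.orbitRel.Quotient H Ω) := by
    rw [Nat.succ_le_iff, Finite.one_lt_card_iff_nontrivial]
    by_contra h
    rw [not_nontrivial_iff_subsingleton] at h
    exact hnt ⟨fun x y => (Quotient.exact' (h.elim (mk y) (mk x)) :)⟩
  refine le_antisymm ?_ hcard2
  by_contra h3
  rw [not_le, Nat.card_eq_fintype_card, Fintype.two_lt_card_iff] at h3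
  obtain ⟨o₁, o₂, o₃, h12, h13, h23⟩ := h3
  obtain ⟨a₁, rfl⟩ := Quotient.exists_rep o₁
  obtain ⟨a₂, rfl⟩ := Quotient.exists_rep o₂
  obtain ⟨a₃, rfl⟩ := Quotient.exists_rep o₃
  obtain ⟨α, β, hαβ⟩ := orbit_indicator_affine h2 H hidx (x₀ := a₁) (x₁ := a₂)
    (fun h => h12 h.symm) (mk a₂)
  have e1 := hαβ a₁
  have e2 := hαβ a₂
  have e3 := hαβ a₃
  rw [if_neg (show ¬ mk a₁ = mk a₂ from h12), if_pos rfl, mul_one] at e1
  rw [if_pos rfl, if_neg (show ¬ mk a₂ = mk a₁ from fun h => h12 h.symm), mul_zero, zero_add] at e2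
  rw [if_neg (show ¬ mk a₃ = mk a₂ from fun h => h23 h.symm),
    if_neg (show ¬ mk a₃ = mk a₁ from fun h => h13 h.symm), mul_zero, zero_add] at e3
  linarith

end Cfsg.Agent.S3704
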