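import Cfsg.Statements.S3707
import Mathlib

set_option linter.style.haveILetI false

set_option autoImplicit false
open Cfsg

namespace Cfsg.Agent.S3707

lemma three_of_stab {G Ω : Type*} [Group G] [MulAction G Ω]
    (h2 : ∀ {a b c d : Ω}, a ≠ b → c ≠ d → ∃ g : G, g • a = c ∧ g • b = d)
    (a b : Ω) (hab : a ≠ b)
    (h : ∀ x y : Ω, x ≠ a → x ≠ b → y ≠ a → y ≠ b → ∃ g : G, g • a = a ∧ g • b = b ∧ g • x = y)
    : MulAction.IsMultiplyPretransitive G Ω 3 := by
  refine ⟨fun e e' => ?_⟩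
  obtain ⟨g, g0, g1⟩ := h2 (e.injective.ne (show (0 : Fin 3) ≠ 1 by decide)) hab
  obtain ⟨k, k0, k1⟩ := h2 (e'.injective.ne (show (0 : Fin 3) ≠ 1 by decide)) hab
  have ne : ∀ (g : G) (e : Fin 3 ↪ Ω), g • e 0 = a → g • e 1 = b → g • e 2 ≠ a ∧ g • e 2 ≠ b :=
    fun g e h0 h1 => ⟨fun hh => absurd (e.injective (MulAction.injective g (hh.trans h0.symm))) (by decide),
      fun hh => absurd (e.injective (MulAction.injective g (hh.trans h1.symm))) (by decide)⟩
  obtain ⟨na, nb⟩ := ne g e g0 g1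
  obtain ⟨na', nb'⟩ := ne k e' k0 k1
  obtain ⟨l, l0, l1, l2⟩ := h _ _ na nb na' nb'
  refine ⟨k⁻¹ * l * g, ?_⟩
  ext i
  show (k⁻¹ * l * g) • e i = e' i
  rw [mul_smul, mul_smul, inv_smul_eq_iff]
  fin_cases i
  · show l • g • e 0 = k • e' 0
    rw [g0, k0, l0]
  · show l • g • e 1 = k • e' 1
    rw [g1, k1, l1]
  · exact l2

/-- Let G be a finite primitive permutation group on Ω of degree n and Γ ⊂ Ω a subset with 1 < #Γ ≤ n/2 such that the pointwise stabilizer of Ω ∖ Γ is transitive on Γ. Then G is 3-transitive on Ω. -/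
theorem result {G Ω : Type*} [Group G] [Finite G] [MulAction G Ω] [FaithfulSMul G Ω] [Finite Ω] (hprim : MulAction.IsPreprimitive G Ω) (Γ : Set Ω) (h1 : 1 < Γ.ncard) (h2 : 2 * Γ.ncard ≤ Nat.card Ω) (htr : ∀ x ∈ Γ, ∀ y ∈ Γ, ∃ g : G, (∀ z ∉ Γ, g • z = z) ∧ g • x = y) : MulAction.IsMultiplyPretransitive G Ω 3 := by
  classical
  haveI := Fintype.ofFinite Ω
  haveI := Fintype.ofFinite G
  set n := Fintype.card Ω with hn
  set m := Γ.ncard with hm
  rw [Nat.card_eq_fintype_card] at h2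
  -- two-transitivity
  have hG2 : MulAction.IsMultiplyPretransitive G Ω 2 := by
    have hc : (Γᶜ).ncard = n - m := by
      rw [Set.ncard_compl, Nat.card_eq_fintype_card]
    refine MulAction.IsPreprimitive.is_two_pretransitive hprim (s := Γᶜ) (n := n - m - 1) (by omega)
      (by rw [Nat.card_eq_fintype_card]; omega) ⟨fun x y => ?_⟩
    have hx : x.1 ∈ Γ := not_not.1 x.2
    have hy : y.1 ∈ Γ := not_not.1 y.2
    obtain ⟨g, hg, hgx⟩ := htr x.1 hx y.1 hy
    exact ⟨⟨g, (mem_fixingSubgroup_iff G).2 hg⟩, Subtype.ext hgx⟩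
  have h2t : ∀ {a b c d : Ω}, a ≠ b → c ≠ d → ∃ g : G, g • a = c ∧ g • b = d :=
    MulAction.is_two_pretransitive_iff.1 hG2
  -- Jordan sets
  let J : Set Ω → Prop := fun Φ => 1 < Φ.ncard ∧ Φ.ncard + 2 ≤ n ∧
    ∀ x ∈ Φ, ∀ y ∈ Φ, ∃ g : G, (∀ z ∉ Φ, g • z = z) ∧ g • x = y
  obtain ⟨Φ, hΦ, hmax⟩ := Finset.exists_max_image (Finset.univ.filter J) Set.ncard
    ⟨Γ, Finset.mem_filter.2 ⟨Finset.mem_univ _, h1, by omega, htr⟩⟩
  obtain ⟨-, hΦ1, hΦ2, hΦtr⟩ := Finset.mem_filter.1 hΦ
  set f := Φ.ncard with hf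
  set r := n - f with hrdef
  by_cases hr2 : r = 2
  · -- the fixer of two points is transitive on the others
    obtain ⟨a, b, hab, hR⟩ := Set.ncard_eq_two.1 (show Φᶜ.ncard = 2 by
      rw [Set.ncard_compl, Nat.card_eq_fintype_card]; omega)
    exact three_of_stab h2t a b hab (fun x y hxa hxb hya hyb => by
      have hmem : ∀ z, z ≠ a → z ≠ b → z ∈ Φ := fun z h1 h2 => by
        by_contra h
        have : z ∈ Φᶜ := h
        rw [hR] at this
        rcases this with rfl | rfl
        · exact h1 rfl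
        · exact h2 rfl
      obtain ⟨g, hg, hgx⟩ := hΦtr x (hmem x hxa hxb) y (hmem y hya hyb)
      have hout : ∀ z, z = a ∨ z = b → z ∉ Φ := fun z hz => by
        have : z ∈ Φᶜ := by rw [hR]; exact hz
        exact this
      exact ⟨g, hg a (hout a (Or.inl rfl)), hg b (hout b (Or.inr rfl)), hgx⟩)
  exfalso
  -- the translates of Γ
  let Γf : Finset Ω := Γ.toFinset
  let Bs : Finset (Finset Ω) := Finset.univ.image fun g : G => Γf.image (g • ·)
  have hcardB : ∀ B ∈ Bs, B.card = m := by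
    intro B hB
    obtain ⟨g, -, rfl⟩ := Finset.mem_image.1 hB
    rw [Finset.card_image_of_injective _ (MulAction.injective g), hm, Set.ncard_eq_toFinset_card']
  have hinvB : ∀ g : G, ∀ B ∈ Bs, B.image (g • ·) ∈ Bs := by
    intro g B hB
    obtain ⟨g', -, rfl⟩ := Finset.mem_image.1 hB
    refine Finset.mem_image.2 ⟨g * g', Finset.mem_univ _, ?_⟩
    rw [Finset.image_image]
    exact Finset.image_congr fun x _ => mul_smul g g' x
  let lam : Ω → Ω → ℕ := fun x y => (Bs.filter fun B => x ∈ B ∧ y ∈ B).card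
  have hlam_le : ∀ (g : G) x y, lam x y ≤ lam (g • x) (g • y) := by
    intro g x y
    refine Finset.card_le_card_of_injOn (fun B => B.image (g • ·)) (fun B hB => ?_) ?_
    · simp only [Finset.coe_filter, Set.mem_setOf_eq] at hB ⊢
      exact ⟨hinvB g B hB.1, Finset.mem_image_of_mem _ hB.2.1, Finset.mem_image_of_mem _ hB.2.2⟩
    · intro B _ B' _ h
      exact Finset.image_injective (MulAction.injective g) h
  have hlam : ∀ x y u v : Ω, x ≠ y → u ≠ v → lam x y = lam u v := by
    intro x y u v hxy huv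
    obtain ⟨g, hgx, hgy⟩ := h2t hxy huv
    obtain ⟨g', hgu, hgv⟩ := h2t huv hxy
    have e1 := hlam_le g x y
    rw [hgx, hgy] at e1
    have e2 := hlam_le g' u v
    rw [hgu, hgv] at e2
    omega
  obtain ⟨a, ha, b, hb, hab⟩ := (Set.one_lt_ncard (Set.toFinite Γ)).1 h1
  set L := lam a b with hL
  have hLpos : 0 < L := Finset.card_pos.2 ⟨Γf, Finset.mem_filter.2 ⟨Finset.mem_image.2
    ⟨1, Finset.mem_univ _, by simp⟩, Set.mem_toFinset.2 ha, Set.mem_toFinset.2 hb⟩⟩
  let P : Finset Ω := Φ.toFinset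
  let R : Finset Ω := Pᶜ
  have hPc : P.card = f := by rw [hf, Set.ncard_eq_toFinset_card']
  have hRc : R.card = r := by rw [Finset.card_compl, hPc]
  have hiP : ∀ B ∈ Bs, (B ∩ P).card + (B ∩ R).card = m := by
    intro B hB
    rw [← hcardB B hB, ← Finset.card_union_of_disjoint, ← Finset.inter_union_distrib_left,
      Finset.union_compl, Finset.inter_univ]
    exact Finset.disjoint_of_subset_left Finset.inter_subset_right
      (Finset.disjoint_of_subset_right Finset.inter_subset_right disjoint_compl_right)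
  -- mixed translates contain all but at most one point outside Φ
  have hmix : ∀ B ∈ Bs, (B ∩ P).card = 0 ∨ (B ∩ R).card = 0 ∨ r ≤ (B ∩ R).card + 1 := by
    intro B hB
    by_cases hp0 : (B ∩ P).card = 0
    · exact Or.inl hp0
    by_cases hr0 : (B ∩ R).card = 0
    · exact Or.inr (Or.inl hr0)
    right; right
    obtain ⟨w, hw⟩ := Finset.card_pos.1 (Nat.pos_of_ne_zero hp0)
    rw [Finset.mem_inter, Set.mem_toFinset] at hw
    obtain ⟨g, -, rfl⟩ := Finset.mem_image.1 hB
    set B := Γf.image (g • ·) with hBdef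
    set U : Set Ω := Φ ∪ (B : Set Ω) with hU
    have hBtr : ∀ x ∈ B, ∀ y ∈ B, ∃ k : G, (∀ z ∉ B, k • z = z) ∧ k • x = y := by
      intro x hx y hy
      obtain ⟨x', hx', rfl⟩ := Finset.mem_image.1 hx
      obtain ⟨y', hy', rfl⟩ := Finset.mem_image.1 hy
      obtain ⟨k, hk, hkx⟩ := htr x' (Set.mem_toFinset.1 hx') y' (Set.mem_toFinset.1 hy')
      refine ⟨g * k * g⁻¹, fun z hz => ?_, ?_⟩
      · have : g⁻¹ • z ∉ Γ := fun h => hz (Finset.mem_image.2
          ⟨g⁻¹ • z, Set.mem_toFinset.2 h, smul_inv_smul g z⟩)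
        rw [mul_smul, mul_smul, hk _ this, smul_inv_smul]
      · rw [mul_smul, mul_smul, inv_smul_smul, hkx]
    have htoW : ∀ x ∈ U, ∃ k : G, (∀ z ∉ U, k • z = z) ∧ k • x = w := by
      rintro x (hx | hx)
      · obtain ⟨k, hk, hkx⟩ := hΦtr x hx w hw.2
        exact ⟨k, fun z hz => hk z fun h => hz (Or.inl h), hkx⟩
      · obtain ⟨k, hk, hkx⟩ := hBtr x hx w hw.1
        exact ⟨k, fun z hz => hk z fun h => hz (Or.inr h), hkx⟩
    have hUtr : ∀ x ∈ U, ∀ y ∈ U, ∃ k : G, (∀ z ∉ U, k • z = z) ∧ k • x = y := by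
      intro x hx y hy
      obtain ⟨k, hk, hkx⟩ := htoW x hx
      obtain ⟨l, hl, hly⟩ := htoW y hy
      refine ⟨l⁻¹ * k, fun z hz => ?_, by rw [mul_smul, hkx, ← hly, inv_smul_smul]⟩
      rw [mul_smul, hk z hz, inv_smul_eq_iff, hl z hz]
    have hUc : U.ncard = f + (B ∩ R).card := by
      have e : U = ((P ∪ (B ∩ R) : Finset Ω) : Set Ω) := by
        ext z
        simp only [hU, P, R, Finset.coe_union, Finset.coe_inter, Finset.coe_compl, Set.coe_toFinset,
          Set.mem_union, Set.mem_inter_iff, Set.mem_compl_iff, Finset.mem_coe]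
        tauto
      rw [e, Set.ncard_coe_finset, Finset.card_union_of_disjoint, hPc]
      exact Finset.disjoint_of_subset_right Finset.inter_subset_right disjoint_compl_right
    by_contra hlt
    have := hmax U (Finset.mem_filter.2 ⟨Finset.mem_univ _, by omega, by omega, hUtr⟩)
    omega
  -- double counting
  have count : ∀ S T : Finset Ω, Disjoint S T →
      ∑ B ∈ Bs, (B ∩ S).card * (B ∩ T).card = S.card * T.card * L := by
    intro S T hST
    have : ∀ B : Finset Ω, (B ∩ S).card * (B ∩ T).card =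
        ∑ x ∈ S, ∑ y ∈ T, if x ∈ B ∧ y ∈ B then 1 else 0 := by
      intro B
      rw [← Finset.card_product, ← Finset.sum_product' S T, ← Finset.card_filter]
      congr 1
      ext ⟨x, y⟩
      simp only [Finset.mem_product, Finset.mem_inter, Finset.mem_filter]
      tauto
    simp only [this]
    rw [Finset.sum_comm]
    trans ∑ x ∈ S, T.card * L
    · refine Finset.sum_congr rfl fun x hx => ?_
      rw [Finset.sum_comm]
      trans ∑ y ∈ T, L
      · refine Finset.sum_congr rfl fun y hy => ?_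
        rw [← Finset.card_filter]
        exact hlam x y a b (Finset.disjoint_iff_ne.1 hST x hx y hy) hab
      · simp
    · simp [mul_assoc]
  have count2 : ∑ B ∈ Bs, ((B ∩ R).card * (B ∩ R).card - (B ∩ R).card) = (r * r - r) * L := by
    have : ∀ B : Finset Ω, (B ∩ R).card * (B ∩ R).card - (B ∩ R).card =
        ∑ p ∈ R.offDiag, if p.1 ∈ B ∧ p.2 ∈ B then 1 else 0 := by
      intro B
      rw [← Finset.offDiag_card, ← Finset.card_filter]
      congr 1
      ext ⟨x, y⟩
      simp only [Finset.mem_offDiag, Finset.mem_inter, Finset.mem_filter]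
      tauto
    simp only [this]
    rw [Finset.sum_comm]
    simp only [← Finset.card_filter]
    rw [Finset.sum_congr rfl fun p hp => hlam p.1 p.2 a b (Finset.mem_offDiag.1 hp).2.2 hab]
    simp [hRc, hL, Finset.offDiag_card]
  have hkey : (r - 2) * (f * r * L) ≤ (m + 1 - r) * ((r * r - r) * L) := by
    rw [← count2, ← hPc, ← hRc, ← count P R disjoint_compl_right, Finset.mul_sum, Finset.mul_sum]
    simp only [hRc]
    refine Finset.sum_le_sum fun B hB => ?_
    have hsum := hiP B hB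
    rcases hmix B hB with h | h | h
    · simp [h]
    · simp [h]
    · obtain ⟨i, hi⟩ : ∃ i, (B ∩ R).card = i := ⟨_, rfl⟩
      rw [hi] at hsum h ⊢
      calc (r - 2) * ((B ∩ P).card * i) ≤ (i - 1) * ((m + 1 - r) * i) :=
            Nat.mul_le_mul (by omega) (Nat.mul_le_mul_right _ (by omega))
        _ = (m + 1 - r) * (i * i - i) := by
            rw [← Nat.sub_one_mul]; ring
  have h3 : 3 ≤ r := by omega
  have hrr : r * r - r = r * (r - 1) := (Nat.mul_sub_one r r).symm
  rw [hrr] at hkey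
  have hk2 : (r - 2) * f ≤ (m + 1 - r) * (r - 1) := by
    refine Nat.le_of_mul_le_mul_right ?_ (Nat.mul_pos (show 0 < r by omega) hLpos)
    calc (r - 2) * f * (r * L) = (r - 2) * (f * r * L) := by ring
      _ ≤ _ := hkey
      _ = _ := by ring
  have hk3 : (r - 2) * f ≤ (r - 2) * (2 * (m + 1 - r)) := by
    calc (r - 2) * f ≤ (m + 1 - r) * (r - 1) := hk2
      _ ≤ (m + 1 - r) * (2 * (r - 2)) := Nat.mul_le_mul_left _ (by omega)
      _ = _ := by ring
  have := Nat.le_of_mul_le_mul_left hk3 (by omega)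
  omega

end Cfsg.Agent.S3707
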