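import Cfsg.Statements.S3708
import Cfsg.Agent.Lib.KnownB.Phan.Torus
import Cfsg.Agent.Lib.KnownB.Phan.Main

set_option autoImplicit false
open Cfsg

namespace Cfsg.Agent.S3708

/-- Phan's recognition of unitary groups. Let F be a finite field with q² elements, q > 4, and n ≥ 2. Let G be a group generated by subgroups U_0, …, U_{n−1}, each isomorphic to the special unitary group SU(2, q²) (determinant-one isometries of the standard Hermitian form in two variables over F), and let D_i ≤ U_i be cyclic subgroups of order q + 1. Suppose that U_i and U_j commute elementwise whenever the indices differ by at least 2, that the subgroup generated by U_i and U_{i+1} is isomorphic to SU(3, q²) for each i, and that D_i and D_j commute elementwise for all i, j. Then G is a homomorphic image of SU(n+1, q²). (Generation of G by the U_i is part of the hypothesis; G is not assumed finite.) -/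
theorem result {G : Type*} [Group G] (n : ℕ) (hn : 2 ≤ n)
    (F : Type*) [Field F] [Fintype F] (q : ℕ) (hq : 4 < q) (hF : Fintype.card F = q ^ 2)
    (U : Fin n → Subgroup G) (e : ∀ i, ↥(Cfsg.SU 2 F q) ≃* ↥(U i)) (hgen : ⨆ i, U i = ⊤)
    (D : Fin n → Subgroup G) (hD : ∀ i, D i ≤ U i ∧ IsCyclic ↥(D i) ∧ Nat.card ↥(D i) = q + 1)
    (h1 : ∀ i j : Fin n, (i : ℕ) + 2 ≤ j → ∀ x ∈ U i, ∀ y ∈ U j, x * y = y * x)
    (h2 : ∀ i j : Fin n, (i : ℕ) + 1 = j → Nonempty (↥(U i ⊔ U j) ≃* ↥(Cfsg.SU 3 F q)))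
    (h3 : ∀ i j : Fin n, i ≠ j → ∀ x ∈ D i, ∀ y ∈ D j, x * y = y * x) :
    ∃ f : ↥(Cfsg.SU (n + 1) F q) →* G, Function.Surjective f := by
  classical
  obtain ⟨σ, hσ, hc⟩ := CfsgLib.Classical.exists_frob hF
  have gen : ∀ i, ∃ d : G, d ∈ D i ∧ orderOf d = q + 1 := fun i => by
    obtain ⟨-, hcyc, hcard⟩ := hD i
    obtain ⟨g, hg⟩ := hcyc.exists_generator
    exact ⟨g.1, g.2, by rw [Subgroup.orderOf_coe, orderOf_eq_card_of_forall_mem_zpowers hg, hcard]⟩
  have std : ∀ i j : Fin n, (i : ℕ) + 1 = j → Cfsg.IsStandardUnitaryPair (U i ⊔ U j) (U i) (U j) F q := by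
    intro i j hij
    obtain ⟨iso⟩ := h2 i j hij
    let φ : Cfsg.SU 2 F q →* Cfsg.SU 3 F q :=
      iso.toMonoidHom.comp ((Subgroup.inclusion (le_sup_left : U i ≤ U i ⊔ U j)).comp (e i).toMonoidHom)
    let φ' : Cfsg.SU 2 F q →* Cfsg.SU 3 F q :=
      iso.toMonoidHom.comp ((Subgroup.inclusion (le_sup_right : U j ≤ U i ⊔ U j)).comp (e j).toMonoidHom)
    obtain ⟨di, hdi, hoi⟩ := gen i
    obtain ⟨dj, hdj, hoj⟩ := gen j
    set y := (e i).symm ⟨di, (hD i).1 hdi⟩ with hy
    set z := (e j).symm ⟨dj, (hD j).1 hdj⟩ with hz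
    have hoy : orderOf y = q + 1 := by rw [hy, MulEquiv.orderOf_eq, Subgroup.orderOf_mk, hoi]
    have hoz : orderOf z = q + 1 := by rw [hz, MulEquiv.orderOf_eq, Subgroup.orderOf_mk, hoj]
    have hφr : φ.range = ((U i).subgroupOf (U i ⊔ U j)).map iso.toMonoidHom := by
      rw [MonoidHom.range_comp, MonoidHom.range_comp, MonoidHom.range_eq_top.2 (e i).surjective,
        ← MonoidHom.range_eq_map, Subgroup.inclusion_range]
    have hφr' : φ'.range = ((U j).subgroupOf (U i ⊔ U j)).map iso.toMonoidHom := by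
      rw [MonoidHom.range_comp, MonoidHom.range_comp, MonoidHom.range_eq_top.2 (e j).surjective,
        ← MonoidHom.range_eq_map, Subgroup.inclusion_range]
    obtain ⟨h, hA, hB⟩ := CfsgLib.Phan.pair_standard hσ hc hF (by omega) (φ := φ) (φ' := φ') (y := y) (z := z)
      (iso.injective.comp ((Subgroup.inclusion_injective (le_sup_left : U i ≤ U i ⊔ U j)).comp (e i).injective))
      (iso.injective.comp ((Subgroup.inclusion_injective (le_sup_right : U j ≤ U i ⊔ U j)).comp (e j).injective))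
      hoy (fun h1 => by rw [h1, orderOf_one] at hoz; omega)
      (by
        have hne : i ≠ j := fun h1 => by rw [h1] at hij; omega
        show iso _ * iso _ = iso _ * iso _
        rw [← map_mul, ← map_mul]
        refine congrArg iso (Subtype.ext ?_)
        simp only [hy, hz, MulEquiv.coe_toMonoidHom, MonoidHom.coe_comp, Function.comp_apply, MulEquiv.apply_symm_apply,
          Subgroup.coe_mul, Subgroup.coe_inclusion]
        exact h3 i j hne _ hdi _ hdj)
      (by
        rw [hφr, hφr', ← Subgroup.map_sup, ← Subgroup.subgroupOf_sup le_sup_left le_sup_right, Subgroup.subgroupOf_self,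
          Subgroup.map_top_of_surjective _ iso.surjective])
    let ψ : Cfsg.SU 3 F q ≃* ↥(U i ⊔ U j) := (MulAut.conj h).symm.trans iso.symm
    have back : ∀ (X : Subgroup G) (Y : Subgroup (Cfsg.SU 3 F q)), X ≤ U i ⊔ U j →
        ((X.subgroupOf (U i ⊔ U j)).map iso.toMonoidHom).map (MulAut.conj h).toMonoidHom = Y →
        Y.map ((U i ⊔ U j).subtype.comp ψ.toMonoidHom) = X := by
      intro X Y hX e
      rw [← e, Subgroup.map_map, Subgroup.map_map,
        show (((U i ⊔ U j).subtype.comp ψ.toMonoidHom).comp (MulAut.conj h).toMonoidHom).comp iso.toMonoidHom =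
          (U i ⊔ U j).subtype from MonoidHom.ext fun x => by simp [ψ, mul_assoc],
        Subgroup.subgroupOf_map_subtype, inf_eq_left.2 hX]
    refine Or.inl ⟨ψ, ?_, ?_⟩
    · rw [CfsgLib.Phan.suBlock01 hσ]
      exact back _ _ le_sup_left (by rw [← hφr, hA])
    · rw [CfsgLib.Phan.suBlock12 hσ]
      exact back _ _ le_sup_right (by rw [← hφr', hB])
  rcases (show n = 2 ∨ 3 ≤ n by omega) with rfl | hn3
  · obtain ⟨iso⟩ := h2 0 1 rfl
    refine ⟨(U 0 ⊔ U 1).subtype.comp iso.symm.toMonoidHom, fun x => ?_⟩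
    have hx : x ∈ U 0 ⊔ U 1 := by
      have : (⨆ i, U i) ≤ U 0 ⊔ U 1 := iSup_le fun i => by fin_cases i <;> simp
      exact this (hgen ▸ Subgroup.mem_top x)
    exact ⟨iso ⟨x, hx⟩, by simp⟩
  obtain ⟨f, hf⟩ := CfsgLib.Phan.phan hσ hc n hn3 hF (by omega) U (fun i j => U i ⊔ U j) h1 std
  refine ⟨f, MonoidHom.range_eq_top.1 (top_le_iff.1 (hgen ▸ iSup_le fun i => ?_))⟩
  obtain ⟨i, hi⟩ := i
  by_cases h : i + 1 < n
  · exact (hf ⟨i, hi⟩ ⟨i + 1, h⟩ rfl).2.1.trans (hf ⟨i, hi⟩ ⟨i + 1, h⟩ rfl).1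
  · have hp : (⟨i - 1, by omega⟩ : Fin n).val + 1 = i := by show i - 1 + 1 = i; omega
    exact (hf ⟨i - 1, by omega⟩ ⟨i, hi⟩ hp).2.2.trans (hf ⟨i - 1, by omega⟩ ⟨i, hi⟩ hp).1

end Cfsg.Agent.S3708
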