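import Cfsg.Statements.S3713
import Cfsg.Agent.Lib.Classical.SpAmalgam.Main

set_option autoImplicit false
open Cfsg

namespace Cfsg.Agent.S3713

open CfsgLib.Classical.SpAmalgam

/-- Two elements with equal second component of a subgroup of the graph of a homomorphism are equal. -/
theorem injOn_graph {G H : Type*} [Group G] [Group H] {A B : Subgroup G} (Ψ : ↥(A ⊔ B) →* H)
    {α β : Type*} {f : α → H × G} {g : β → H × G}
    (hf : ∀ a, ∃ h : (f a).2 ∈ A, Ψ ⟨(f a).2, Subgroup.mem_sup_left h⟩ = (f a).1)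
    (hg : ∀ b, ∃ h : (g b).2 ∈ B, Ψ ⟨(g b).2, Subgroup.mem_sup_right h⟩ = (g b).1) :
    Set.InjOn (MonoidHom.snd H G) (Subgroup.closure (Set.range f ∪ Set.range g) : Subgroup (H × G)) := by
  have hle : Subgroup.closure (Set.range f ∪ Set.range g) ≤ (Ψ.prod (A ⊔ B).subtype).range := by
    rw [Subgroup.closure_le]
    rintro x (⟨a, rfl⟩ | ⟨b, rfl⟩)
    · obtain ⟨h, e⟩ := hf a
      exact ⟨⟨(f a).2, Subgroup.mem_sup_left h⟩, Prod.ext e rfl⟩
    · obtain ⟨h, e⟩ := hg b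
      exact ⟨⟨(g b).2, Subgroup.mem_sup_right h⟩, Prod.ext e rfl⟩
  intro x hx y hy e
  obtain ⟨x, rfl⟩ := hle hx
  obtain ⟨y, rfl⟩ := hle hy
  rw [show x = y from Subtype.ext e]

/-- A presentation of the symplectic group as the universal completion of an amalgam of small subgroups. Let F be a field with more than two elements, n ≥ 2, and Sp the group of 2n × 2n matrices over F preserving the standard alternating form, acting on column vectors; write e_k, f_k for the standard basis vectors of the two halves (a hyperbolic basis). For each k let S_k be the subgroup of Sp fixing e_l and f_l for all l ≠ k (a copy of SL(2, F) on the plane of e_k, f_k), and for each i with i + 1 < n let M_i be the subgroup fixing every e_l and fixing f_l for all l other than i, i+1 (an abelian group isomorphic to the additive group of F³). Then Sp is the universal completion of the amalgam formed by the S_k, the M_i and the subgroups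 generated by two of them: for every group H and homomorphisms σ_k : S_k → H, μ_i : M_i → H such that for each pair of these subgroups some homomorphism on the subgroup they generate restricts to the given ones, there is exactly one homomorphism Sp → H restricting to every σ_k and μ_i. -/
theorem result
    (F : Type*) [Field F] (hF : ∃ a : F, a ≠ 0 ∧ a ≠ 1) (n : ℕ) (hn : 2 ≤ n)
    (S M : Fin n → Subgroup ↥(Matrix.symplecticGroup (Fin n) F))
    (hS : ∀ j : Fin n, S j = Subgroup.closure {A : ↥(Matrix.symplecticGroup (Fin n) F) | ∀ k : Fin n, k ≠ j →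
      ((A : ↥(Matrix.symplecticGroup (Fin n) F)) : Matrix (Fin n ⊕ Fin n) (Fin n ⊕ Fin n) F).mulVec (Pi.single (Sum.inl k) (1 : F)) = (Pi.single (Sum.inl k) (1 : F)) ∧ ((A : ↥(Matrix.symplecticGroup (Fin n) F)) : Matrix (Fin n ⊕ Fin n) (Fin n ⊕ Fin n) F).mulVec (Pi.single (Sum.inr k) (1 : F)) = (Pi.single (Sum.inr k) (1 : F))})
    (hM : ∀ i : Fin n, (i : ℕ) + 1 < n → M i = Subgroup.closure {A : ↥(Matrix.symplecticGroup (Fin n) F) |
      (∀ k : Fin n, ((A : ↥(Matrix.symplecticGroup (Fin n) F)) : Matrix (Fin n ⊕ Fin n) (Fin n ⊕ Fin n) F).mulVec (Pi.single (Sum.inl k) (1 : F)) = (Pi.single (Sum.inl k) (1 : F))) ∧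
        ∀ k : Fin n, (k : ℕ) ≠ i → (k : ℕ) ≠ (i : ℕ) + 1 → ((A : ↥(Matrix.symplecticGroup (Fin n) F)) : Matrix (Fin n ⊕ Fin n) (Fin n ⊕ Fin n) F).mulVec (Pi.single (Sum.inr k) (1 : F)) = (Pi.single (Sum.inr k) (1 : F))})
    {H : Type*} [Group H] (σ : ∀ j : Fin n, ↥(S j) →* H) (μ : ∀ i : Fin n, ↥(M i) →* H)
    (hSS : ∀ j l : Fin n, j ≠ l → ∃ Ψ : ↥(S j ⊔ S l) →* H,
      (∀ (g : ↥(Matrix.symplecticGroup (Fin n) F)) (hg : g ∈ S j), Ψ ⟨g, Subgroup.mem_sup_left hg⟩ = σ j ⟨g, hg⟩) ∧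
        (∀ (g : ↥(Matrix.symplecticGroup (Fin n) F)) (hg : g ∈ S l), Ψ ⟨g, Subgroup.mem_sup_right hg⟩ = σ l ⟨g, hg⟩))
    (hMM : ∀ i i' : Fin n, i ≠ i' → (i : ℕ) + 1 < n → (i' : ℕ) + 1 < n → ∃ Ψ : ↥(M i ⊔ M i') →* H,
      (∀ (g : ↥(Matrix.symplecticGroup (Fin n) F)) (hg : g ∈ M i), Ψ ⟨g, Subgroup.mem_sup_left hg⟩ = μ i ⟨g, hg⟩) ∧
        (∀ (g : ↥(Matrix.symplecticGroup (Fin n) F)) (hg : g ∈ M i'), Ψ ⟨g, Subgroup.mem_sup_right hg⟩ = μ i' ⟨g, hg⟩))
    (hMS : ∀ i j : Fin n, (i : ℕ) + 1 < n → ∃ Ψ : ↥(M i ⊔ S j) →* H,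
      (∀ (g : ↥(Matrix.symplecticGroup (Fin n) F)) (hg : g ∈ M i), Ψ ⟨g, Subgroup.mem_sup_left hg⟩ = μ i ⟨g, hg⟩) ∧
        (∀ (g : ↥(Matrix.symplecticGroup (Fin n) F)) (hg : g ∈ S j), Ψ ⟨g, Subgroup.mem_sup_right hg⟩ = σ j ⟨g, hg⟩)) :
    ∃! Φ : ↥(Matrix.symplecticGroup (Fin n) F) →* H,
      (∀ (j : Fin n) (g : ↥(Matrix.symplecticGroup (Fin n) F)) (hg : g ∈ S j), Φ g = σ j ⟨g, hg⟩) ∧
        (∀ (i : Fin n), (i : ℕ) + 1 < n → ∀ (g : ↥(Matrix.symplecticGroup (Fin n) F)) (hg : g ∈ M i), Φ g = μ i ⟨g, hg⟩) := by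
  obtain ⟨m, rfl⟩ : ∃ m, n = m + 1 := ⟨n - 1, by omega⟩
  have hS' : ∀ j, S j = (stdS j).range := fun j => by
    rw [hS j, show (stdS (F := F) j).range = Subgroup.closure ((stdS (F := F) j).range : Set _) from
      (Subgroup.closure_eq _).symm]
    congr 1
    ext A
    exact ⟨mem_range_stdS, by rintro ⟨g, rfl⟩ k hk; exact stdS_fix j k hk g⟩
  have hSmem : ∀ j g, stdS j g ∈ S j := fun j g => by rw [hS' j]; exact ⟨g, rfl⟩
  have hi : ∀ i : Fin m, ((i.castSucc : Fin (m + 1)) : ℕ) + 1 < m + 1 := fun i => by simp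
  have hM' : ∀ i : Fin m, M i.castSucc = Subgroup.closure (Set.range (stdM i)) := fun i => by
    rw [hM _ (hi i)]
    congr 1
    ext A
    constructor
    · rintro ⟨he, hf⟩
      exact mem_range_stdM he fun k h1 h2 => hf k (fun e => h1 (Fin.ext e))
        (fun e => h2 (Fin.ext (by simpa using e)))
    · rintro ⟨t, rfl⟩
      exact ⟨(stdM_fix i t).1, fun k h1 h2 => (stdM_fix i t).2 k (fun e => h1 (by rw [e]))
        (fun e => h2 (by simp [e]))⟩
  have hMmem : ∀ i t, stdM i t ∈ M (Fin.castSucc i) := fun i t => by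
    rw [hM' i]; exact Subgroup.subset_closure ⟨t, rfl⟩
  have hMrange : ∀ i g, g ∈ M (Fin.castSucc i) → ∃ t, g = stdM i t := fun i g hg => by
    rw [hM' i] at hg
    induction hg using Subgroup.closure_induction with
    | mem x hx => obtain ⟨t, rfl⟩ := hx; exact ⟨t, rfl⟩
    | one => exact ⟨0, (stdM_zero_eq i).symm⟩
    | mul x y _ _ hx hy =>
      obtain ⟨s, rfl⟩ := hx; obtain ⟨t, rfl⟩ := hy; exact ⟨s + t, stdM_add i s t⟩
    | inv x _ hx => obtain ⟨t, rfl⟩ := hx; exact ⟨-t, stdM_inv i t⟩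
  let D : Amalgam F m (H × Sp F (m + 1)) :=
    { p := MonoidHom.snd _ _
      σ := fun j => ((σ j).comp ((stdS j).codRestrict (S j) (hSmem j))).prod (stdS j)
      μ := fun i t => (μ i.castSucc ⟨stdM i t, hMmem i t⟩, stdM i t)
      pσ := fun _ _ => rfl
      pμ := fun _ _ => rfl
      injSS := fun j l hjl => by
        obtain ⟨Ψ, h1, h2⟩ := hSS j l hjl
        exact injOn_graph Ψ (fun g => ⟨hSmem j g, h1 _ _⟩) (fun g => ⟨hSmem l g, h2 _ _⟩)
      injMM := fun i i' hii => by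
        obtain ⟨Ψ, h1, h2⟩ := hMM i.castSucc i'.castSucc
          (fun e => hii (Fin.castSucc_inj.1 e)) (hi i) (hi i')
        exact injOn_graph Ψ (fun t => ⟨hMmem i t, h1 _ _⟩) (fun t => ⟨hMmem i' t, h2 _ _⟩)
      injMS := fun i j => by
        obtain ⟨Ψ, h1, h2⟩ := hMS i.castSucc j (hi i)
        exact injOn_graph Ψ (fun t => ⟨hMmem i t, h1 _ _⟩) (fun g => ⟨hSmem j g, h2 _ _⟩) }
  obtain ⟨Φ, hΦσ, hΦμ, -⟩ := exists_hom hF m _ D
  refine ⟨(MonoidHom.fst _ _).comp Φ, ⟨?_, ?_⟩, ?_⟩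
  · intro j g hg
    obtain ⟨h, rfl⟩ : ∃ h, stdS j h = g := by rw [hS' j] at hg; exact hg
    rw [MonoidHom.comp_apply, hΦσ]
    rfl
  · intro i hin g hg
    obtain ⟨i, rfl⟩ : ∃ i' : Fin m, i'.castSucc = i := ⟨⟨i, by omega⟩, Fin.ext rfl⟩
    obtain ⟨t, rfl⟩ := hMrange i g hg
    rw [MonoidHom.comp_apply, hΦμ]
    rfl
  · rintro Φ' ⟨h1, h2⟩
    refine MonoidHom.eq_of_eqOn_dense (closure_gens F m) fun g hg => ?_
    rcases hg with hg | hg
    · obtain ⟨j, h, rfl⟩ := Set.mem_iUnion.1 hg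
      rw [h1 j _ (hSmem j h), MonoidHom.comp_apply, hΦσ]
      rfl
    · obtain ⟨i, t, rfl⟩ := Set.mem_iUnion.1 hg
      rw [h2 i.castSucc (hi i) _ (hMmem i t), MonoidHom.comp_apply, hΦμ]
      rfl

end Cfsg.Agent.S3713
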