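import Cfsg.Statements.S3732
import Cfsg.Agent.Lib.OstromWagner.Existence
import Cfsg.Agent.Lib.OstromWagner.Coordinates

set_option autoImplicit false
open Cfsg

namespace Cfsg.Agent.S3732

universe v w

/-- The collineation group. -/
def collineationGroup (P : Type v) (L : Type w) [Membership P L] : Subgroup (Equiv.Perm P × Equiv.Perm L) where
  carrier := {g | ∀ (p : P) (l : L), g.1 p ∈ g.2 l ↔ p ∈ l}
  one_mem' := fun _ _ => Iff.rfl
  mul_mem' {g h} hg hh := fun p l => (hg (h.1 p) (h.2 l)).trans (hh p l)
  inv_mem' {g} hg := fun p l => by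
    have := hg (g.1⁻¹ p) (g.2⁻¹ l)
    simpa using this.symm

theorem coordinatized {P : Type v} {L : Type w} [Membership P L] [Finite P] [Finite L]
    [Configuration.ProjectivePlane P L]
    (h2t : ∀ p₁ p₂ q₁ q₂ : P, p₁ ≠ p₂ → q₁ ≠ q₂ →
      ∃ (σ : Equiv.Perm P) (τ : Equiv.Perm L), (∀ (p : P) (l : L), σ p ∈ τ l ↔ p ∈ l) ∧ σ p₁ = q₁ ∧ σ p₂ = q₂) :
    ∃ (F : Type) (_ : Field F) (_ : Fintype F), CfsgLib.OstromWagner.IsCoordinatized P L F := by
  classical
  letI : MulAction (collineationGroup P L) P :=
    { smul := fun g p => g.1.1 p, one_smul := fun _ => rfl, mul_smul := fun _ _ _ => rfl }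
  letI : MulAction (collineationGroup P L) L :=
    { smul := fun g l => g.1.2 l, one_smul := fun _ => rfl, mul_smul := fun _ _ _ => rfl }
  haveI : CfsgLib.OstromWagner.IsPlaneAction (collineationGroup P L) P L :=
    { smul_mem_smul := fun g p l => g.2 p l
      eq_one := fun g hg => by
        have h1 : g.1.1 = 1 := Equiv.ext hg
        refine Subtype.ext (Prod.ext h1 (Equiv.ext fun l => ?_))
        obtain ⟨q, hql, -⟩ := CfsgLib.OstromWagner.exists_on_ne_ne (P := P) l
          (Configuration.Nondegenerate.exists_point (P := P) l).choose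
          (Configuration.Nondegenerate.exists_point (P := P) l).choose
        obtain ⟨r, hrl, hrq, -⟩ := CfsgLib.OstromWagner.exists_on_ne_ne (P := P) l q q
        have hmem : ∀ x : P, x ∈ g.1.2 l ↔ x ∈ l := fun x => by
          have := g.2 x l
          rwa [h1, Equiv.Perm.one_apply] at this
        exact CfsgLib.OstromWagner.line_eq hrq ((hmem r).2 hrl) ((hmem q).2 hql) hrl hql }
  have h : CfsgLib.OstromWagner.TwoTrans (collineationGroup P L) P := fun p q r s hpq hrs =>
    let ⟨σ, τ, hinc, hp, hq⟩ := h2t p q r s hpq hrs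
    ⟨⟨(σ, τ), hinc⟩, hp, hq⟩
  obtain ⟨p, k, hfull⟩ := CfsgLib.OstromWagner.exists_full.{v, w} (L := L) h
  exact hfull.isCoordinatized

/-- The Ostrom–Wagner Theorem. Let Π be a finite projective plane (points P, lines L) whose collineation group is 2-transitive on points: for any two ordered pairs of distinct points there is a permutation of the points, together with a compatible permutation of the lines preserving incidence, carrying the first pair to the second. Then Π is Desarguesian: there is a finite field F and a bijection from P onto the points of the projective plane over F (the 1-dimensional subspaces of F³) under which the lines of Π correspond exactly to the 2-dimensional subspaces of F³. -/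
theorem result
    {P L : Type*} [Membership P L] [Fintype P] [Fintype L] [Configuration.ProjectivePlane P L]
    (h2t : ∀ p₁ p₂ q₁ q₂ : P, p₁ ≠ p₂ → q₁ ≠ q₂ →
      ∃ (σ : Equiv.Perm P) (τ : Equiv.Perm L), (∀ (p : P) (l : L), σ p ∈ τ l ↔ p ∈ l) ∧ σ p₁ = q₁ ∧ σ p₂ = q₂) :
    ∃ (F : Type) (_ : Field F) (_ : Fintype F) (φ : P ≃ Projectivization F (Fin 3 → F)),
      (∀ l : L, ∃ W : Submodule F (Fin 3 → F), Module.finrank F W = 2 ∧
          ∀ p : P, p ∈ l ↔ (φ p).submodule ≤ W) ∧
      (∀ W : Submodule F (Fin 3 → F), Module.finrank F W = 2 →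
          ∃ l : L, ∀ p : P, p ∈ l ↔ (φ p).submodule ≤ W) := by
  obtain ⟨F, i1, i2, φ, h1, h2⟩ := coordinatized h2t
  exact ⟨F, i1, i2, φ, h1, h2⟩

end Cfsg.Agent.S3732
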