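import Cfsg.Statements.S3733
import Cfsg.Agent.Lib.Coprime.Abelian

set_option autoImplicit false
open Cfsg

namespace Cfsg.Agent.S3733

/-- Let A and V be subgroups of a finite group with V abelian and nontrivial and A normalizing V. Suppose a nonempty finite family of proper subgroups of A partitions A: every non-identity element of A lies in exactly one member. If the number of members minus one is coprime to the order of V, then some member B of the family has a non-identity fixed point on V, that is V ∩ C(B) ≠ 1. -/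
theorem result {G : Type*} [Group G] [Finite G] (A V : Subgroup G) (hVab : IsMulCommutative V) (hV : V ≠ ⊥) (hAV : A ≤ Subgroup.normalizer (V : Set G)) (𝒜 : Finset (Subgroup G)) (hne : 𝒜.Nonempty) (hprop : ∀ B ∈ 𝒜, B < A) (hpart : ∀ a ∈ A, a ≠ 1 → ∃! B, B ∈ 𝒜 ∧ a ∈ B) (hk : (𝒜.card - 1).Coprime (Nat.card V)) : ∃ B ∈ 𝒜, V ⊓ Subgroup.centralizer (B : Set G) ≠ ⊥ := by
  classical
  let : CommGroup V := { (inferInstance : Group V) with mul_comm := mul_comm' }
  let : Fintype A := Fintype.ofFinite A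
  by_contra hcon
  push Not at hcon
  let ρ := CfsgLib.Coprime.conjHom hAV
  let 𝔅 : 𝒜 → Subgroup A := fun B => (B : Subgroup G).subgroupOf A
  have hfix : ∀ i : 𝒜, ∀ w : V, (∀ b ∈ 𝔅 i, ρ b w = w) → w = 1 := by
    intro i w hw
    have : (w : G) ∈ V ⊓ Subgroup.centralizer ((i : Subgroup G) : Set G) := by
      refine Subgroup.mem_inf.2 ⟨w.2, Subgroup.mem_centralizer_iff.2 fun b hb => ?_⟩
      have h1 := congrArg Subtype.val (hw ⟨b, (hprop _ i.2).le hb⟩ hb)
      rw [CfsgLib.Coprime.conjHom_apply] at h1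
      exact mul_inv_eq_iff_eq_mul.1 h1
    rw [hcon _ i.2, Subgroup.mem_bot] at this
    exact Subtype.ext this
  refine hV ((Subgroup.eq_bot_iff_forall V).2 fun x hx => ?_)
  obtain ⟨i₀⟩ : Nonempty 𝒜 := hne.coe_sort
  have key := CfsgLib.Coprime.pow_eq_prod_normOver ρ (E := ⊤) (B₀ := ⊥) (B := 𝔅) (v := ⟨x, hx⟩)
    (fun _ => le_top) (fun _ => bot_le) le_top (fun a _ ha => by
      obtain ⟨B, ⟨hB, haB⟩, hu⟩ := hpart a a.2 (fun e => ha (Subgroup.mem_bot.2 (Subtype.ext e)))
      exact ⟨⟨B, hB⟩, haB, fun j hj => Subtype.ext (hu j ⟨j.2, hj⟩)⟩)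
    (fun b hb => by rw [Subgroup.mem_bot.1 hb, map_one]; rfl)
  rw [Finset.prod_eq_one (fun i _ => hfix i _ fun b hb => CfsgLib.Coprime.apply_normOver ρ _ hb _),
    hfix i₀ _ (fun b hb => CfsgLib.Coprime.apply_normOver ρ ⊤ (Subgroup.mem_top b) _),
    one_mul, one_mul, Subgroup.card_bot, mul_one, pow_one, Fintype.card_coe] at key
  have h2 : (⟨x, hx⟩ : V) ^ (𝒜.card - 1) = 1 := by
    have : (⟨x, hx⟩ : V) ^ (𝒜.card - 1) * ⟨x, hx⟩ = ⟨x, hx⟩ := by
      rw [← pow_succ, Nat.sub_add_cancel hne.card_pos]; exact key.symm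
    simpa using this
  exact congrArg Subtype.val (orderOf_eq_one_iff.1 (Nat.eq_one_of_dvd_coprimes hk
    (orderOf_dvd_iff_pow_eq_one.2 h2) (orderOf_dvd_natCard (⟨x, hx⟩ : V))))

end Cfsg.Agent.S3733
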