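import Cfsg.Statements.S3734
import Cfsg.Agent.Lib.Coprime.Generation

set_option autoImplicit false
open Cfsg
open scoped commutatorElement

namespace Cfsg.Agent.S3734

/-- Let A and G be subgroups of a finite group with A abelian, A normalizing G and the orders of A and G coprime. Then G is generated by the fixed-point subgroups C_G(B) of those subgroups B of A for which A/B is cyclic (that is, A = ⟨B, a⟩ for some a), and [G, A] is generated by the commutator subgroups [C_G(B), A] over the same subgroups B. -/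
theorem result {X : Type*} [Group X] [Finite X] (A G : Subgroup X) (hAab : IsMulCommutative A) (hAG : A ≤ Subgroup.normalizer (G : Set X)) (hcop : (Nat.card A).Coprime (Nat.card G)) : (⨆ B ∈ {B : Subgroup X | B ≤ A ∧ ∃ a ∈ A, B ⊔ Subgroup.zpowers a = A}, G ⊓ Subgroup.centralizer (B : Set X)) = G ∧ (⨆ B ∈ {B : Subgroup X | B ≤ A ∧ ∃ a ∈ A, B ⊔ Subgroup.zpowers a = A}, ⁅G ⊓ Subgroup.centralizer (B : Set X), A⁆) = ⁅G, A⁆ := by
  have := hAab
  have h1 := CfsgLib.Coprime.iSup_centralizer_of_cyclic_quotient hAG hcop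
  refine ⟨h1, le_antisymm (iSup₂_le fun B _ => Subgroup.commutator_mono inf_le_left le_rfl) ?_⟩
  set R := ⨆ B ∈ {B : Subgroup X | B ≤ A ∧ ∃ a ∈ A, B ⊔ Subgroup.zpowers a = A},
    ⁅G ⊓ Subgroup.centralizer (B : Set X), A⁆ with hR
  have hcA : ∀ B : Subgroup X, B ≤ A → A ≤ Subgroup.normalizer
      ((G ⊓ Subgroup.centralizer (B : Set X) : Subgroup X) : Set X) := by
    intro B hB a ha
    refine CfsgLib.Coprime.mem_normalizer_of_conj_map_le fun k hk => Subgroup.mem_inf.2 ⟨?_, ?_⟩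
    · exact Subgroup.le_normalizer_iff.1 hAG a ha k (Subgroup.mem_inf.1 hk).1
    · refine Subgroup.mem_centralizer_iff.2 fun b hb => ?_
      have e1 : a * b = b * a := setLike_mul_comm ha (hB hb)
      have e2 : a⁻¹ * b = b * a⁻¹ := setLike_mul_comm (inv_mem ha) (hB hb)
      have e3 : b * k = k * b := Subgroup.mem_centralizer_iff.1 (Subgroup.mem_inf.1 hk).2 b hb
      calc b * (a * k * a⁻¹) = a * (b * k) * a⁻¹ := by
            rw [← mul_assoc, ← mul_assoc, ← e1]; simp [mul_assoc]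
        _ = a * k * a⁻¹ * b := by rw [e3]; simp [mul_assoc, e2]
  have hRA : A ≤ Subgroup.normalizer (R : Set X) := by
    intro a ha
    rw [Subgroup.mem_normalizer_iff_map_conj_eq, hR, Subgroup.map_iSup]
    refine iSup_congr fun B => ?_
    rw [Subgroup.map_iSup]
    exact iSup_congr fun hB =>
      Subgroup.mem_normalizer_iff_map_conj_eq.1 (Subgroup.normalizer_commutator_ge_right _ A ha)
  have hRG : R ≤ ⁅G, A⁆ := iSup₂_le fun B _ => Subgroup.commutator_mono inf_le_left le_rfl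
  -- the elements of `G` whose commutators with `A` lie in `R` and which normalise `R`
  have hmem : ∀ B : Subgroup X, B ∈ {B : Subgroup X | B ≤ A ∧ ∃ a ∈ A, B ⊔ Subgroup.zpowers a = A} →
      ∀ k ∈ G ⊓ Subgroup.centralizer (B : Set X), ∀ a ∈ A, ⁅k, a⁆ ∈ R := fun B hB k hk a ha =>
    le_iSup₂ (f := fun B (_ : B ∈ {B : Subgroup X | B ≤ A ∧ ∃ a ∈ A, B ⊔ Subgroup.zpowers a = A}) =>
      ⁅G ⊓ Subgroup.centralizer (B : Set X), A⁆) B hB (Subgroup.commutator_mem_commutator hk ha)
  have hGT : G ≤ R ⊔ (G ⊓ Subgroup.centralizer (A : Set X)) := by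
    refine h1.symm.le.trans (iSup₂_le fun B hB => ?_)
    rw [← CfsgLib.Coprime.commutator_sup_centralizer (hcA B hB.1)
      (CfsgLib.Coprime.coprime_of_le hcop le_rfl inf_le_left)
      (.inl (Group.isSolvable_of_comm fun a b => mul_comm' a b))]
    exact sup_le_sup (le_iSup₂_of_le B hB le_rfl) (inf_le_inf_right _ inf_le_left)
  have hCR : G ⊓ Subgroup.centralizer (A : Set X) ≤ Subgroup.normalizer (R : Set X) := by
    intro c hc
    rw [Subgroup.mem_normalizer_iff_map_conj_eq, hR, Subgroup.map_iSup]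
    refine iSup_congr fun B => ?_
    rw [Subgroup.map_iSup]
    refine iSup_congr fun hB => ?_
    refine Subgroup.mem_normalizer_iff_map_conj_eq.1 (Subgroup.normalizer_commutator_ge_left _ A ?_)
    obtain ⟨hcG, hcA⟩ := Subgroup.mem_inf.1 hc
    exact Subgroup.mem_inf.2 ⟨hcG, Subgroup.centralizer_le hB.1 hcA⟩
  refine Subgroup.commutator_le.2 fun g hg a ha => ?_
  obtain ⟨r, hr, c, hc, rfl⟩ := (CfsgLib.Coprime.mem_sup_of_le_normalizer hCR).1 (hGT hg)
  have e : a * c = c * a := Subgroup.mem_centralizer_iff.1 (Subgroup.mem_inf.1 hc).2 a ha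
  have : ⁅r * c, a⁆ = r * (a * r⁻¹ * a⁻¹) := by
    calc ⁅r * c, a⁆ = r * (c * a) * c⁻¹ * r⁻¹ * a⁻¹ := by rw [commutatorElement_def]; group
      _ = r * (a * c) * c⁻¹ * r⁻¹ * a⁻¹ := by rw [e]
      _ = r * (a * r⁻¹ * a⁻¹) := by group
  rw [this]
  exact mul_mem hr (Subgroup.le_normalizer_iff.1 hRA a ha _ (inv_mem hr))

end Cfsg.Agent.S3734
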