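import Cfsg.Statements.S3735
import Cfsg.Agent.Lib.Coprime.SchurZassenhaus

set_option autoImplicit false
open Cfsg

namespace Cfsg.Agent.S3735

/-- Clifford's Theorem for actions on finite abelian groups, first part. Let H and V be subgroups of a finite group with V abelian and H normalizing V, and let A be a normal subgroup of H. If every H-invariant subgroup of V has an H-invariant complement in V, then every A-invariant subgroup of V has an A-invariant complement in V. -/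
theorem result {G : Type*} [Group G] [Finite G] (H A V : Subgroup G) (hVab : IsMulCommutative V) (hHV : H ≤ Subgroup.normalizer (V : Set G)) (hAH : A ≤ H) (hAn : H ≤ Subgroup.normalizer (A : Set G)) (hss : ∀ U : Subgroup G, U ≤ V → H ≤ Subgroup.normalizer (U : Set G) → ∃ W : Subgroup G, W ≤ V ∧ H ≤ Subgroup.normalizer (W : Set G) ∧ U ⊓ W = ⊥ ∧ U ⊔ W = V) (U : Subgroup G) (hUV : U ≤ V) (hAU : A ≤ Subgroup.normalizer (U : Set G)) : ∃ W : Subgroup G, W ≤ V ∧ A ≤ Subgroup.normalizer (W : Set G) ∧ U ⊓ W = ⊥ ∧ U ⊔ W = V := by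
  -- the subgroups of `V` that are minimal among the nontrivial `A`-invariant ones
  let Inv : Subgroup G → Prop := fun S => S ≤ V ∧ A ≤ Subgroup.normalizer (S : Set G)
  let Sn : Set (Subgroup G) := {S | Minimal (fun S => Inv S ∧ S ≠ ⊥) S}
  have hmem : ∀ {S}, S ∈ Sn → Minimal (fun S => Inv S ∧ S ≠ ⊥) S := fun h => h
  have hAV : A ≤ Subgroup.normalizer (V : Set G) := hAH.trans hHV
  have hmapA : ∀ h ∈ H, ∀ S, Inv S → Inv (S.map (MulAut.conj h).toMonoidHom) := by
    intro h hh S hS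
    refine ⟨CfsgLib.Coprime.conj_map_le_iff.2 fun x hx =>
      Subgroup.le_normalizer_iff.1 hHV h hh x (hS.1 hx), fun a ha => ?_⟩
    have ha' : h⁻¹ * a * h ∈ A := by
      simpa using Subgroup.le_normalizer_iff.1 hAn h⁻¹ (inv_mem hh) a ha
    rw [Subgroup.mem_normalizer_iff_map_conj_eq]
    show (S.map (MulAut.conj h).toMonoidHom).map (MulAut.conj a).toMonoidHom = _
    rw [CfsgLib.Coprime.conj_map_map, show a * h = h * (h⁻¹ * a * h) by group,
      ← CfsgLib.Coprime.conj_map_map, CfsgLib.Coprime.conj_map_eq_self_of_mem_normalizer (hS.2 ha')]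
  have hmapMin : ∀ h ∈ H, ∀ S ∈ Sn, S.map (MulAut.conj h).toMonoidHom ∈ Sn := by
    intro h hh S hS
    refine ⟨⟨hmapA h hh S (hmem hS).prop.1, fun e => (hmem hS).prop.2 ((Subgroup.map_eq_bot_iff_of_injective S (MulAut.conj h).injective).1 e)⟩, ?_⟩
    intro T hT hle
    have hback : T.map (MulAut.conj h⁻¹).toMonoidHom ≤ S := by
      refine (Subgroup.map_mono hle).trans ?_
      rw [CfsgLib.Coprime.conj_map_map, inv_mul_cancel,
        CfsgLib.Coprime.conj_map_eq_self_of_mem_normalizer (one_mem _)]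
    have := (hmem hS).le_of_le ⟨hmapA h⁻¹ (inv_mem hh) T hT.1, fun e => hT.2 ((Subgroup.map_eq_bot_iff_of_injective T (MulAut.conj h⁻¹).injective).1 e)⟩ hback
    refine (Subgroup.map_mono this).trans ?_
    rw [CfsgLib.Coprime.conj_map_map, mul_inv_cancel,
      CfsgLib.Coprime.conj_map_eq_self_of_mem_normalizer (one_mem _)]
  have hexists : ∀ T, Inv T → T ≠ ⊥ → ∃ S ∈ Sn, S ≤ T := by
    intro T hT hT0
    obtain ⟨S, hle, hS⟩ := Finite.exists_le_minimal (p := fun S => Inv S ∧ S ≠ ⊥) (a := T) ⟨hT, hT0⟩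
    exact ⟨S, hS, hle⟩
  -- they generate `V`
  have hsoc : sSup Sn = V := by
    have hle : sSup Sn ≤ V := sSup_le fun S hS => (hmem hS).prop.1.1
    have hHs : H ≤ Subgroup.normalizer (((sSup Sn : Subgroup G)) : Set G) := by
      intro h hh
      refine Subgroup.mem_normalizer_iff_map_conj_eq.2 ?_
      have h1 : ∀ h ∈ H, (sSup Sn).map (MulAut.conj h).toMonoidHom ≤ sSup Sn := fun h hh => by
        rw [Subgroup.map_le_iff_le_comap]
        refine sSup_le fun S hS => Subgroup.map_le_iff_le_comap.1 (le_sSup (hmapMin h hh S hS))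
      refine le_antisymm (h1 h hh) ?_
      have := Subgroup.map_mono (f := (MulAut.conj h).toMonoidHom) (h1 h⁻¹ (inv_mem hh))
      rwa [CfsgLib.Coprime.conj_map_map, mul_inv_cancel,
        CfsgLib.Coprime.conj_map_eq_self_of_mem_normalizer (one_mem _)] at this
    obtain ⟨W, hWV, hHW, hdis, hsup⟩ := hss _ hle hHs
    by_contra hne
    obtain ⟨S, hS, hSW⟩ := hexists W ⟨hWV, hAH.trans hHW⟩ (fun e => hne (by rw [e, sup_bot_eq] at hsup; exact hsup))
    exact (hmem hS).prop.2 (le_bot_iff.1 (hdis ▸ le_inf (le_sSup hS) hSW))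
  -- a maximal invariant subgroup meeting `U` trivially is a complement
  obtain ⟨W, -, hW⟩ := Finite.exists_le_maximal (p := fun W => Inv W ∧ U ⊓ W = ⊥) (a := ⊥)
    ⟨⟨bot_le, fun a _ => Subgroup.mem_normalizer_iff_map_conj_eq.2 (Subgroup.map_bot _)⟩, inf_bot_eq U⟩
  obtain ⟨⟨hWV, hAW⟩, hUW⟩ := hW.prop
  refine ⟨W, hWV, hAW, hUW, le_antisymm (sup_le hUV hWV) ?_⟩
  rw [← hsoc]
  refine sSup_le fun S hS => ?_
  obtain ⟨⟨hSV, hAS⟩, hS0⟩ := (hmem hS).prop
  by_contra hnle
  have hAUW : A ≤ Subgroup.normalizer ((U ⊔ W : Subgroup G) : Set G) :=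
    (le_inf hAU hAW).trans (Subgroup.normalizer_inf_normalizer_le_normalizer_sup U W)
  have hdis : S ⊓ (U ⊔ W) = ⊥ := by
    by_contra h0
    exact hnle (((hmem hS).le_of_le ⟨⟨inf_le_left.trans hSV,
      (le_inf hAS hAUW).trans Subgroup.inf_normalizer_le_normalizer_inf⟩, h0⟩ inf_le_left).trans inf_le_right)
  have hcomm : S ≤ Subgroup.normalizer (W : Set G) := fun x hx =>
    Subgroup.centralizer_le_normalizer (W : Set G) (Subgroup.mem_centralizer_iff.2 fun w hw => setLike_mul_comm (hWV hw) (hSV hx))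
  have hUW' : U ⊓ (W ⊔ S) = ⊥ := by
    refine (Subgroup.eq_bot_iff_forall _).2 fun x hx => ?_
    obtain ⟨hxU, hxWS⟩ := Subgroup.mem_inf.1 hx
    obtain ⟨w, hw, t, ht, rfl⟩ := (CfsgLib.Coprime.mem_sup_of_le_normalizer hcomm).1 hxWS
    have ht' : t ∈ S ⊓ (U ⊔ W) := ⟨ht, by simpa using mul_mem (Subgroup.mem_sup_right (inv_mem hw)) (Subgroup.mem_sup_left hxU : w * t ∈ U ⊔ W)⟩
    rw [hdis, Subgroup.mem_bot] at ht'
    subst ht'
    rw [mul_one] at hxU ⊢
    have : w ∈ U ⊓ W := ⟨hxU, hw⟩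
    rwa [hUW, Subgroup.mem_bot] at this
  have := hW.le_of_ge ⟨⟨sup_le hWV hSV, (le_inf hAW hAS).trans (Subgroup.normalizer_inf_normalizer_le_normalizer_sup W S)⟩, hUW'⟩ le_sup_left
  exact hnle (le_sup_right.trans (this.trans le_sup_right))

end Cfsg.Agent.S3735
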