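import Cfsg.Statements.S3737
import Cfsg.Agent.S3736
-- import your own Cfsg.Agent.* helpers here

set_option autoImplicit false
open Cfsg

namespace Cfsg.Agent.S3737

open scoped commutatorElement

variable {D : Type*} [Group D]

/-- Hypotheses for the Baer correspondence: class two, commutators killed by `2 h + 1`. -/
structure BaerData (D : Type*) [Group D] (h : ℕ) : Prop where
  central : ∀ x y g : D, Commute ⁅x, y⁆ g
  odd_pow : ∀ x y : D, ⁅x, y⁆ ^ (2 * h + 1) = 1

/-- The abelian group attached to a class two group of odd exponent. -/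
@[ext]
structure Baer (h : ℕ) (H : BaerData D h) where
  /-- The underlying element. -/
  val : D

variable {h : ℕ} {H : BaerData D h}

theorem comm_mul_left (H : BaerData D h) (x y z : D) : ⁅x * y, z⁆ = ⁅x, z⁆ * ⁅y, z⁆ := by
  have h1 : ⁅x * y, z⁆ = x * ⁅y, z⁆ * x⁻¹ * ⁅x, z⁆ := by simp [commutatorElement_def, mul_assoc]
  rw [h1, ← (H.central y z x).eq, mul_inv_cancel_right, (H.central y z _).eq]

theorem comm_mul_right (H : BaerData D h) (x y z : D) : ⁅x, y * z⁆ = ⁅x, y⁆ * ⁅x, z⁆ := by
  have h1 : ⁅x, y * z⁆ = ⁅x, y⁆ * (y * ⁅x, z⁆ * y⁻¹) := by simp [commutatorElement_def, mul_assoc]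
  rw [h1, ← (H.central x z y).eq, mul_inv_cancel_right]

theorem comm_central_left (H : BaerData D h) {c : D} (hc : ∀ g, Commute c g) (x z : D) :
    ⁅x * c, z⁆ = ⁅x, z⁆ := by
  rw [comm_mul_left H, commutatorElement_eq_one_iff_mul_comm.2 (hc z).eq, mul_one]

theorem comm_central_right (H : BaerData D h) {c : D} (hc : ∀ g, Commute c g) (x y : D) :
    ⁅x, y * c⁆ = ⁅x, y⁆ := by
  rw [comm_mul_right H, commutatorElement_eq_one_iff_mul_comm.2 (hc x).eq.symm, mul_one]

instance : CommGroup (Baer h H) where
  mul a b := ⟨a.val * b.val * ⁅a.val, b.val⁆ ^ h⟩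
  one := ⟨1⟩
  inv a := ⟨a.val⁻¹⟩
  mul_assoc a b c := by
    apply Baer.ext
    show a.val * b.val * ⁅a.val, b.val⁆ ^ h * c.val *
        ⁅a.val * b.val * ⁅a.val, b.val⁆ ^ h, c.val⁆ ^ h =
      a.val * (b.val * c.val * ⁅b.val, c.val⁆ ^ h) *
        ⁅a.val, b.val * c.val * ⁅b.val, c.val⁆ ^ h⁆ ^ h
    have cp : ∀ x y g : D, Commute (⁅x, y⁆ ^ h) g := fun x y g => (H.central x y g).pow_left h
    rw [comm_central_left H (cp _ _), comm_central_right H (cp _ _), comm_mul_left H,
      comm_mul_right H, (H.central _ _ _).mul_pow, (H.central _ _ _).mul_pow]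
    simp only [mul_assoc]
    rw [← mul_assoc (⁅a.val, b.val⁆ ^ h) c.val, (cp _ _ c.val).eq]
    simp only [mul_assoc]
    congr 3
    rw [← mul_assoc (⁅b.val, c.val⁆ ^ h), (cp b.val c.val _).eq,
      (cp a.val c.val (⁅b.val, c.val⁆ ^ h)).eq, ← mul_assoc]
  one_mul a := by
    apply Baer.ext
    show 1 * a.val * ⁅1, a.val⁆ ^ h = a.val
    simp
  mul_one a := by
    apply Baer.ext
    show a.val * 1 * ⁅a.val, 1⁆ ^ h = a.val
    simp
  inv_mul_cancel a := by
    apply Baer.ext
    show a.val⁻¹ * a.val * ⁅a.val⁻¹, a.val⁆ ^ h = 1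
    simp [commutatorElement_def]
  mul_comm a b := by
    apply Baer.ext
    show a.val * b.val * ⁅a.val, b.val⁆ ^ h = b.val * a.val * ⁅b.val, a.val⁆ ^ h
    have h0 : b.val * a.val = ⁅b.val, a.val⁆ * (a.val * b.val) := by
      simp [commutatorElement_def, mul_assoc]
    have h1 : ⁅a.val, b.val⁆ ^ h = ⁅b.val, a.val⁆ * ⁅b.val, a.val⁆ ^ h := by
      have h2 := H.odd_pow b.val a.val
      rw [show 2 * h + 1 = (h + 1) + h by ring, pow_add, mul_eq_one_iff_eq_inv] at h2
      rw [← commutatorElement_inv b.val a.val, inv_pow, ← h2, pow_succ']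
    rw [h1, h0, ← mul_assoc, (H.central b.val a.val (a.val * b.val)).eq]

theorem baer_pow_val (a : Baer h H) (n : ℕ) : (a ^ n).val = a.val ^ n := by
  induction n with
  | zero => rw [pow_zero, pow_zero]; rfl
  | succ n ih =>
    rw [pow_succ, pow_succ]
    show (a ^ n).val * a.val * ⁅(a ^ n).val, a.val⁆ ^ h = _
    rw [ih, commutatorElement_eq_one_iff_mul_comm.2 (Commute.pow_self a.val n).eq]
    simp

instance [Finite D] : Finite (Baer h H) :=
  Finite.of_injective Baer.val fun _ _ e => Baer.ext e

/-- Automorphisms act on the Baer group. -/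
def Baer.map (φ : D →* D) : Baer h H →* Baer h H where
  toFun a := ⟨φ a.val⟩
  map_one' := Baer.ext φ.map_one
  map_mul' a b := Baer.ext (by
    show φ (a.val * b.val * ⁅a.val, b.val⁆ ^ h) = φ a.val * φ b.val * ⁅φ a.val, φ b.val⁆ ^ h
    rw [map_mul, map_mul, map_pow, map_commutatorElement])

/-- Thompson's strengthening of the P × Q lemma for odd primes. Let p be an odd prime and let P, Q and G be subgroups of a finite group with P a p-group, Q of order prime to p and normalized by P, and G a p-group normalized by both P and Q. If every element of G centralized by P is centralized by Q, then Q centralizes G. -/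
theorem result {X : Type*} [Group X] [Finite X] {p : ℕ} [Fact p.Prime] (hp : p ≠ 2) (P Q G : Subgroup X) (hP : IsPGroup p P) (hQ : (Nat.card Q).Coprime p) (hPQ : P ≤ Subgroup.normalizer (Q : Set X)) (hG : IsPGroup p G) (hPG : P ≤ Subgroup.normalizer (G : Set X)) (hQG : Q ≤ Subgroup.normalizer (G : Set X)) (hC : G ⊓ Subgroup.centralizer (P : Set X) ≤ Subgroup.centralizer (Q : Set X)) : Q ≤ Subgroup.centralizer (G : Set X) := by
  classical
  have hp' := (Fact.out : p.Prime)
  obtain ⟨n, hn⟩ : ∃ n, Nat.card G = n := ⟨_, rfl⟩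
  induction n using Nat.strong_induction_on generalizing G with
  | _ n ih =>
    by_cases hnt : ⁅G, Q⁆ = ⊥
    · exact Subgroup.commutator_eq_bot_iff_le_centralizer.1 (by rwa [Subgroup.commutator_comm])
    exfalso
    have hPQn : P ⊔ Q ≤ Subgroup.normalizer (Q : Set X) := sup_le hPQ Subgroup.le_normalizer
    have hmin : ∀ U : Subgroup X, U < G → P ⊔ Q ≤ Subgroup.normalizer (U : Set X) →
        ⁅U, Q⁆ = ⊥ := by
      intro U hU hn'
      rw [Subgroup.commutator_comm, Subgroup.commutator_eq_bot_iff_le_centralizer]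
      refine ih (Nat.card U) ?_ U (hG.to_le hU.le) (le_sup_left.trans hn')
        (le_sup_right.trans hn') ((inf_le_inf_right _ hU.le).trans hC) rfl
      rw [← hn]
      exact lt_of_le_of_ne (Subgroup.card_le_of_le hU.le) fun e =>
        hU.ne (Subgroup.eq_of_le_of_card_ge hU.le e.ge)
    obtain ⟨hgen, hstr, -, hexp⟩ := S3736.result (P ⊔ Q) Q G hG (sup_le hPG hQG) le_sup_right
      hPQn hQ hnt hmin
    have hcop : (Nat.card Q).Coprime (Nat.card G) := by
      obtain ⟨k, hk⟩ := hG.exists_card_eq
      rw [hk]; exact hQ.pow_right k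
    have hGne : G ≠ ⊥ := fun h => hnt (by rw [h, Subgroup.commutator_bot_left])
    have hcen : ∀ x y g : ↥G, Commute ⁅x, y⁆ g := by
      intro x y g
      rcases hstr with hel | hsp
      · haveI := hel.1
        exact mul_comm' _ _
      · have hxy : ⁅x, y⁆ ∈ Subgroup.center ↥G := hsp.2.2 ▸
          Subgroup.commutator_mem_commutator (Subgroup.mem_top x) (Subgroup.mem_top y)
        exact ((Subgroup.mem_center_iff.1 hxy) g).symm
    obtain ⟨h, hh⟩ := hp'.odd_of_ne_two hp
    have hexp' : ∀ x : ↥G, x ^ p = 1 := fun x => Subtype.ext (by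
      simpa using hexp hp (x : X) x.2)
    have H : BaerData ↥G h := ⟨hcen, fun x y => by rw [← hh]; exact hexp' _⟩
    have := Fintype.ofFinite Q
    let cjP : P → ↥G →* ↥G := fun a =>
      { toFun := fun y => ⟨(a : X) * y * (a : X)⁻¹,
          (Subgroup.mem_normalizer_iff.1 (hPG a.2) y).1 y.2⟩
        map_one' := by ext; simp
        map_mul' := fun y z => by ext; simp [mul_assoc] }
    let cjQ : Q → ↥G →* ↥G := fun a =>
      { toFun := fun y => ⟨(a : X) * y * (a : X)⁻¹,
          (Subgroup.mem_normalizer_iff.1 (hQG a.2) y).1 y.2⟩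
        map_one' := by ext; simp
        map_mul' := fun y z => by ext; simp [mul_assoc] }
    let ν : Baer h H →* Baer h H :=
      { toFun := fun y => ∏ a : Q, Baer.map (cjQ a) y
        map_one' := by simp
        map_mul' := fun y z => by simp [Finset.prod_mul_distrib] }
    have hmemC : ∀ y : Baer h H, (∀ b : Q, Baer.map (cjQ b) y = y) →
        (y.val : X) ∈ Subgroup.centralizer (Q : Set X) := by
      intro y hy
      refine Subgroup.mem_centralizer_iff.2 fun b hb => ?_
      have := congrArg (fun t : Baer h H => (t.val : X)) (hy ⟨b, hb⟩)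
      exact mul_inv_eq_iff_eq_mul.1 this
    -- the norm is fixed by `Q`
    have hνC : ∀ y, ((ν y).val : X) ∈ Subgroup.centralizer (Q : Set X) := fun y =>
      hmemC _ fun b => by
        show Baer.map (cjQ b) (∏ a : Q, Baer.map (cjQ a) y) = ∏ a : Q, Baer.map (cjQ a) y
        rw [map_prod]
        refine Fintype.prod_equiv (Equiv.mulLeft b) _ _ fun a => ?_
        apply Baer.ext
        apply Subtype.ext
        simp [Baer.map, cjQ, mul_assoc]
    -- the kernel is not trivial
    obtain ⟨y₀, hy₀, hy₀1⟩ : ∃ y, ν y = 1 ∧ y ≠ 1 := by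
      by_contra hcon
      push Not at hcon
      have hinj : Function.Injective ν := (injective_iff_map_eq_one ν).2 hcon
      have hsurj := hinj.surjective_of_finite (e := Equiv.refl _)
      refine hnt (Subgroup.commutator_eq_bot_iff_le_centralizer.2 fun x hx => ?_)
      obtain ⟨y, hy⟩ := hsurj ⟨⟨x, hx⟩⟩
      have := hνC y
      rwa [hy] at this
    let inst : MulAction P (Baer h H) :=
      { smul := fun a y => Baer.map (cjP a) y
        one_smul := fun y => Baer.ext (Subtype.ext (by
          show ((1 : P) : X) * y.val * ((1 : P) : X)⁻¹ = y.val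
          simp))
        mul_smul := fun a b y => Baer.ext (Subtype.ext (by
          show ((a * b : P) : X) * y.val * ((a * b : P) : X)⁻¹ =
            (a : X) * ((b : X) * y.val * (b : X)⁻¹) * (a : X)⁻¹
          simp [mul_assoc])) }
    let W := {y : Baer h H // ν y = 1}
    have hinv : ∀ (a : P) (y : Baer h H), ν (a • y) = a • ν y := by
      intro a y
      show ∏ b : Q, Baer.map (cjQ b) (Baer.map (cjP a) y) =
        Baer.map (cjP a) (∏ b : Q, Baer.map (cjQ b) y)
      rw [map_prod]
      let σ : Q → Q := fun b => ⟨(a : X)⁻¹ * b * a, by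
        simpa using (Subgroup.mem_normalizer_iff.1 (hPQ (P.inv_mem a.2)) b).1 b.2⟩
      have hσ : Function.Bijective σ := Finite.injective_iff_bijective.1 fun b c hbc => by
        have := congrArg Subtype.val hbc
        exact Subtype.ext (by simpa [σ] using this)
      refine Fintype.prod_bijective σ hσ _ _ fun b => ?_
      apply Baer.ext
      apply Subtype.ext
      simp [Baer.map, cjP, cjQ, σ, mul_assoc]
    let instW : MulAction P W :=
      { smul := fun a y => ⟨a • y.1, by
          rw [hinv, y.2]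
          exact (Baer.map (cjP a)).map_one⟩
        one_smul := fun y => Subtype.ext (one_smul P y.1)
        mul_smul := fun a b y => Subtype.ext (mul_smul a b y.1) }
    have hdvd : p ∣ Nat.card W := by
      have hW : Nat.card W ∣ Nat.card G := by
        have h1 : Nat.card ν.ker ∣ Nat.card (Baer h H) := Subgroup.card_subgroup_dvd_card _
        have h2 : Nat.card (Baer h H) = Nat.card G :=
          Nat.card_congr ⟨Baer.val, Baer.mk, fun _ => rfl, fun _ => rfl⟩
        rw [h2] at h1
        exact (Nat.card_congr (Equiv.subtypeEquivRight fun y => by simp [MonoidHom.mem_ker])).dvd.trans h1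
      obtain ⟨k, hk⟩ := hG.exists_card_eq
      rw [hk] at hW
      obtain ⟨j, -, hj⟩ := (Nat.dvd_prime_pow hp').1 hW
      have h1 : 1 < Nat.card W := Finite.one_lt_card_iff_nontrivial.2
        ⟨⟨y₀, hy₀⟩, ⟨1, map_one ν⟩, fun e => hy₀1 (congrArg Subtype.val e)⟩
      rw [hj]
      refine dvd_pow_self p fun e => ?_
      rw [hj, e, pow_zero] at h1
      omega
    obtain ⟨w, hw, hwne⟩ := hP.exists_fixed_point_of_prime_dvd_card_of_fixed_point W hdvd
      (a := (⟨1, map_one ν⟩ : W)) (fun a => Subtype.ext ((Baer.map (cjP a)).map_one))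
    have hwC : (w.1.val : X) ∈ Subgroup.centralizer (Q : Set X) := hC ⟨w.1.val.2, by
      refine Subgroup.mem_centralizer_iff.2 fun a ha => ?_
      have := congrArg (fun t : W => (t.1.val : X)) (hw ⟨a, ha⟩)
      exact mul_inv_eq_iff_eq_mul.1 this⟩
    have hpow : ν w.1 = w.1 ^ Nat.card Q := by
      show ∏ a : Q, Baer.map (cjQ a) w.1 = _
      have : ∀ a : Q, Baer.map (cjQ a) w.1 = w.1 := fun a => by
        apply Baer.ext
        apply Subtype.ext
        show (a : X) * w.1.val * (a : X)⁻¹ = w.1.val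
        rw [Subgroup.mem_centralizer_iff.1 hwC a a.2, mul_inv_cancel_right]
      simp [this, Nat.card_eq_fintype_card]
    rw [w.2] at hpow
    have h1 : (w.1.val) ^ Nat.card Q = 1 := by rw [← baer_pow_val, ← hpow]; rfl
    have h2 : w.1.val = 1 := orderOf_eq_one_iff.1 (Nat.eq_one_of_dvd_coprimes hcop
      (orderOf_dvd_of_pow_eq_one h1) (orderOf_dvd_natCard _))
    exact hwne (Subtype.ext (Baer.ext h2.symm))

end Cfsg.Agent.S3737
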