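import Cfsg.Statements.S3738
import Cfsg.Agent.Lib.Coprime.DegreeSum
import Cfsg.Agent.Lib.Coprime.Action
import Cfsg.Agent.Lib.Coprime.FixedPointFreeOnModule
-- import your own Cfsg.Agent.* helpers here

set_option autoImplicit false
open Cfsg

namespace Cfsg.Agent.S3738

open Subgroup CfsgLib.Coprime
open scoped commutatorElement

section Helpers

universe u

theorem exists_separating {E : Type u} [Group E] [Finite E] (h2 : ∀ x : E, x * x = 1) (h4 : Nat.card E ≤ 4) :
    ∃ c₁ c₂ : E → ZMod 2, (∀ a b, c₁ (a * b) = c₁ a + c₁ b) ∧ (∀ a b, c₂ (a * b) = c₂ a + c₂ b) ∧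
      ∀ a, c₁ a = 0 → c₂ a = 0 → a = 1 := by
  classical
  have key : ∀ A : Subgroup E, A.index = 2 →
      ∀ a b : E, (if a * b ∈ A then (0 : ZMod 2) else 1) = (if a ∈ A then 0 else 1) + (if b ∈ A then 0 else 1) := by
    intro A hA a b
    have := mul_mem_iff_of_index_two hA (a := a) (b := b)
    by_cases ha : a ∈ A <;> by_cases hb : b ∈ A <;> simp_all <;> decide
  by_cases hsmall : Nat.card E ≤ 2
  · have huniq : ∀ a b : E, a ≠ 1 → b ≠ 1 → a = b := by
      intro a b ha hb
      haveI := Fintype.ofFinite E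
      by_contra hab
      have : ({1, a, b} : Finset E).card ≤ Fintype.card E := Finset.card_le_univ _
      rw [Finset.card_eq_three.mpr ⟨1, a, b, Ne.symm ha, Ne.symm hb, hab, rfl⟩, ← Nat.card_eq_fintype_card] at this
      omega
    have hadd : ∀ a b : E, (if a * b = 1 then (0 : ZMod 2) else 1) =
        (if a = 1 then 0 else 1) + (if b = 1 then 0 else 1) := by
      intro a b
      by_cases ha : a = 1
      · simp [ha]
      by_cases hb : b = 1
      · simp [hb]
      rw [huniq a b ha hb, h2, if_pos rfl, if_neg hb]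
      decide
    exact ⟨fun a => if a = 1 then 0 else 1, fun a => if a = 1 then 0 else 1, hadd, hadd,
      fun a h _ => by by_contra ha; simp [ha] at h⟩
  have hp : IsPGroup 2 E := fun x => ⟨1, by rw [pow_one, pow_two, h2]⟩
  obtain ⟨k, hk⟩ := hp.exists_card_eq
  have hk2 : Nat.card E = 4 := by
    have : k ≤ 2 := (Nat.pow_le_pow_iff_right (show 1 < 2 by norm_num)).mp (by rw [← hk]; exact h4)
    interval_cases k <;> simp_all
  obtain ⟨e₁, he₁⟩ : ∃ e : E, e ≠ 1 := by
    by_contra hc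
    push Not at hc
    haveI : Subsingleton E := ⟨fun a b => by rw [hc a, hc b]⟩
    rw [Nat.card_of_subsingleton (1 : E)] at hk2
    norm_num at hk2
  have hcz : ∀ e : E, e ≠ 1 → Nat.card (zpowers e) = 2 := fun e he => by
    rw [Nat.card_zpowers, orderOf_eq_prime (show e ^ 2 = 1 by rw [pow_two, h2]) he]
  obtain ⟨e₂, he₂⟩ : ∃ e : E, e ∉ zpowers e₁ := by
    by_contra hc
    push Not at hc
    have := hcz e₁ he₁
    rw [(Subgroup.eq_top_iff' _).mpr hc, card_top] at this
    omega
  have hidx : ∀ e : E, e ≠ 1 → (zpowers e).index = 2 := fun e he => by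
    have := (zpowers e).card_mul_index
    rw [hcz e he, hk2] at this
    omega
  have he2 : e₂ ≠ 1 := fun h => he₂ (h ▸ one_mem _)
  refine ⟨fun a => if a ∈ zpowers e₁ then 0 else 1, fun a => if a ∈ zpowers e₂ then 0 else 1,
    key _ (hidx e₁ he₁), key _ (hidx e₂ he2), fun a h1 h2' => ?_⟩
  have m1 : a ∈ zpowers e₁ := by by_contra ha; simp [ha] at h1
  have m2 : a ∈ zpowers e₂ := by by_contra ha; simp [ha] at h2'
  by_contra ha
  have h3 : zpowers a = zpowers e₂ :=
    eq_of_le_of_card_ge (zpowers_le.mpr m2) (by rw [hcz a ha, hcz e₂ he2])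
  exact he₂ (zpowers_le.mpr m1 (h3.symm ▸ mem_zpowers e₂))

theorem main {X : Type u} [Group X] [Finite X] (d : X) (m : ℕ) (hd : d ^ 3 ^ (m + 2) = 1) :
    ∀ (N : ℕ) (P : Subgroup X), Nat.card P = N → IsPGroup 2 P → d ∈ normalizer (P : Set X) →
      P ⊓ centralizer {d} = ⊥ → (∀ V : Subgroup X, V ≤ P → IsMulCommutative V → Cfsg.PRankLE 2 2 V) →
      d ^ 3 ^ (m + 1) ∈ centralizer (P : Set X) := by
  intro N
  induction N using Nat.strong_induction_on with
  | _ N ih =>
  intro P hN hP hdP hfpf hrank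
  classical
  set t := d ^ 3 ^ (m + 1) with ht
  set T := zpowers t with hT
  by_contra hcon
  have hsub : ∀ P₀ : Subgroup X, P₀ ≤ P → P₀ ≠ P → d ∈ normalizer (P₀ : Set X) → t ∈ centralizer (P₀ : Set X) := by
    intro P₀ h0 hne hd0
    have hlt : Nat.card P₀ < Nat.card P :=
      lt_of_le_of_ne (card_le_of_le h0) fun h => hne (eq_of_le_of_card_ge h0 h.ge)
    exact ih _ (hN ▸ hlt) P₀ rfl (hP.to_le h0) hd0 (eq_bot_iff.mpr (hfpf ▸ inf_le_inf_right _ h0))
      fun V hV => hrank V (hV.trans h0)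
  have htP : t ∈ normalizer (P : Set X) := pow_mem hdP _
  have hTP : T ≤ normalizer (P : Set X) := zpowers_le.mpr htP
  have hcop : (Nat.card T).Coprime (Nat.card P) := by
    have h1 : orderOf t ∣ 3 := orderOf_dvd_of_pow_eq_one (by rw [ht, ← pow_mul, ← pow_succ]; exact hd)
    obtain ⟨a, ha⟩ := hP.exists_card_eq
    rw [hT, Nat.card_zpowers, ha]
    exact Nat.Coprime.coprime_dvd_left h1 (Nat.Coprime.pow_right _ (by norm_num))
  have hTs : Group.IsSolvable T := isSolvable_zpowers t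
  have hle : ⁅P, T⁆ ≤ P := le_normalizer_iff_commutator_le_left.1 hTP
  have hTc : ∀ g ∈ centralizer (T : Set X), ∀ k, k = t → Commute k g := by
    rintro g hg k rfl
    exact mem_centralizer_iff.mp hg t (mem_zpowers t)
  have hcent : ∀ {Y : Subgroup X}, t ∈ centralizer (Y : Set X) → Y ≤ centralizer (T : Set X) := by
    intro Y h
    rw [le_centralizer_iff, hT, zpowers_le]
    exact h
  have hPT : ⁅P, T⁆ = P := by
    by_contra hne
    have hdT : d ∈ normalizer (T : Set X) := centralizer_le_normalizer _ (by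
      rw [hT, zpowers_eq_closure, centralizer_closure]
      exact mem_centralizer_singleton_iff.mpr (Commute.self_pow d _).eq)
    have h1 := hsub _ hle hne (by
      rw [mem_normalizer_iff_map_conj_eq, map_commutator, mem_normalizer_iff_map_conj_eq.mp hdP,
        mem_normalizer_iff_map_conj_eq.mp hdT])
    have h2 : ⁅⁅P, T⁆, T⁆ = ⊥ := by rw [commutator_eq_bot_iff_le_centralizer]; exact hcent h1
    have h3 := commutator_eq_bot_of_commutator_commutator (coprime_of_le hcop le_rfl hle) h2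
    rw [commutator_eq_bot_iff_le_centralizer, le_centralizer_iff, hT, zpowers_le] at h3
    exact hcon h3
  have hPne : P ≠ ⊥ := fun h => hcon (by
    rw [h]; exact mem_centralizer_iff.mpr fun v hv => by rw [mem_bot.mp hv]; simp)
  set Φ := (frattini P).map P.subtype with hΦ
  have hΦP : Φ ≤ P := map_subtype_le _
  have hΦne : Φ ≠ P := by
    intro h
    have h1 : frattini P = ⊤ := map_injective P.subtype_injective (by rw [← hΦ, h, ← MonoidHom.range_eq_map,
      range_subtype])
    have h2 : (⊥ : Subgroup P) = ⊤ := frattini_nongenerating (by rw [bot_sup_eq, h1])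
    exact hPne (subgroupOf_eq_bot.mp (by rw [subgroupOf_self]; exact h2.symm) |> fun t => t.eq_bot_of_self)
  have hΦt : t ∈ centralizer (Φ : Set X) :=
    hsub Φ hΦP hΦne (CfsgLib.Coprime.FixedPointFreeOnModule.mem_normalizer_map_of_char _ hdP)
  have hcommΦ : ∀ g ∈ P, ∀ k ∈ P, ⁅g, k⁆ ∈ Φ := fun g hg k hk =>
    ⟨_, CfsgLib.PGroup.Frattini.commutatorElement_mem_frattini hP ⟨g, hg⟩ ⟨k, hk⟩, rfl⟩
  have hpowΦ : ∀ g ∈ P, g ^ 2 ∈ Φ := fun g hg =>
    ⟨_, CfsgLib.PGroup.Frattini.pow_mem_frattini hP ⟨g, hg⟩, rfl⟩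
  have hΦc : Φ ≤ centralizer (P : Set X) := by
    have h2 : ⁅Φ, T⁆ = ⊥ := by rw [commutator_eq_bot_iff_le_centralizer]; exact hcent hΦt
    rw [← commutator_eq_bot_iff_le_centralizer, commutator_comm, ← hPT]
    refine commutator_commutator_eq_bot_of_rotate ?_ ?_
    · rw [commutator_comm T, h2, commutator_bot_left]
    · rw [eq_bot_iff, ← h2]
      exact commutator_mono (commutator_le.mpr fun a ha b hb => hcommΦ a (hΦP ha) b hb) le_rfl
  have hcΦ : ∀ c ∈ Φ, ∀ g ∈ P, Commute g c := fun c hc g hg => mem_centralizer_iff.mp (hΦc hc) g hg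
  have hc2 : ∀ g ∈ P, ∀ k ∈ P, ⁅g, k⁆ ^ 2 = 1 := by
    intro g hg k hk
    have h1 : g * k * g⁻¹ = k * ⁅g, k⁆ := by
      rw [(hcΦ _ (hcommΦ g hg k hk) k hk).eq, commutatorElement_def]; group
    have h2 := CfsgLib.OddOrder.Stabilize.conj_pow_eq_mul_pow h1 (hcΦ _ (hcommΦ g hg k hk) g hg) 2
    rw [← (hcΦ _ (hpowΦ g hg) k hk).eq, mul_inv_cancel_right] at h2
    exact left_eq_mul.mp h2
  have hsq : ∀ g ∈ P, ∀ k ∈ P, (g * k) ^ 2 = g ^ 2 * k ^ 2 * ⁅k, g⁆ := by
    intro g hg k hk
    rw [CfsgLib.Coprime.FixedPointFreeOnModule.mul_pow_of_commute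
      (show k * g = ⁅k, g⁆ * (g * k) by simp only [commutatorElement_def]; group)
      (hcΦ _ (hcommΦ k hk g hg) g hg).symm (hcΦ _ (hcommΦ k hk g hg) k hk).symm, Nat.choose_self, pow_one]
  let O : Subgroup X :=
    { carrier := {g | g ∈ P ∧ (g ^ 2) ^ 2 = 1}
      one_mem' := ⟨one_mem _, by simp⟩
      mul_mem' := fun {a b} ha hb => ⟨mul_mem ha.1 hb.1, by
        have hab : Commute (a ^ 2) (b ^ 2) := hcΦ _ (hpowΦ b hb.1) (a ^ 2) (pow_mem ha.1 2)
        rw [hsq a ha.1 b hb.1, (hcΦ _ (hcommΦ b hb.1 a ha.1) _ (mul_mem (pow_mem ha.1 2) (pow_mem hb.1 2))).mul_pow,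
          hab.mul_pow, ha.2, hb.2, hc2 b hb.1 a ha.1, one_mul, one_mul]⟩
      inv_mem' := fun {a} ha => ⟨inv_mem ha.1, by rw [inv_pow, inv_pow, ha.2, inv_one]⟩ }
  have hexp : ∀ g ∈ P, (g ^ 2) ^ 2 = 1 := by
    have hPO : ⁅P, T⁆ ≤ O := by
      refine commutator_le.mpr fun g hg b hb => ?_
      have hbg : b * g⁻¹ * b⁻¹ ∈ P := (mem_normalizer_iff.mp (hTP hb) _).mp (inv_mem hg)
      refine ⟨hle (commutator_mem_commutator hg hb), ?_⟩
      have h4 : Commute b ((g ^ 2) ^ 2) :=
        mem_centralizer_iff.mp (hcent hΦt (pow_mem (hpowΦ g hg) 2)) b hb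
      have e : ⁅g, b⁆ = g * (b * g⁻¹ * b⁻¹) := by simp only [commutatorElement_def]; group
      have hinv : ((b * g⁻¹ * b⁻¹) ^ 2) ^ 2 = ((g ^ 2) ^ 2)⁻¹ := by
        rw [conj_pow, conj_pow, inv_pow, inv_pow, h4.inv_right.eq, mul_inv_cancel_right]
      rw [e, hsq g hg _ hbg, (hcΦ _ (hcommΦ _ hbg g hg) _ (mul_mem (pow_mem hg 2) (pow_mem hbg 2))).mul_pow,
        Commute.mul_pow (hcΦ _ (hpowΦ _ hbg) (g ^ 2) (pow_mem hg 2)), hinv, mul_inv_cancel, hc2 _ hbg g hg, one_mul]
    intro g hg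
    rw [← hPT] at hg
    exact (hPO hg).2
  let E : Subgroup X :=
    { carrier := {c | c ∈ Φ ∧ c ^ 2 = 1}
      one_mem' := ⟨one_mem _, one_pow _⟩
      mul_mem' := fun {a b} ha hb =>
        ⟨mul_mem ha.1 hb.1, by rw [(hcΦ b hb.1 a (hΦP ha.1)).mul_pow, ha.2, hb.2, one_mul]⟩
      inv_mem' := fun {a} ha => ⟨inv_mem ha.1, by rw [inv_pow, ha.2, inv_one]⟩ }
  have hEP : E ≤ P := fun c hc => hΦP hc.1
  have hsqE : ∀ g ∈ P, g ^ 2 ∈ E := fun g hg => ⟨hpowΦ g hg, hexp g hg⟩
  have hcommE : ∀ g ∈ P, ∀ k ∈ P, ⁅g, k⁆ ∈ E := fun g hg k hk => ⟨hcommΦ g hg k hk, hc2 g hg k hk⟩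
  have hcE : ∀ c ∈ E, ∀ g ∈ P, Commute g c := fun c hc => hcΦ c hc.1
  have hEc : IsMulCommutative E := ⟨⟨fun a b => Subtype.ext (hcE b b.2 a (hEP a.2)).eq⟩⟩
  have hE2 : ∀ x : E, x * x = 1 := fun x => Subtype.ext (by rw [coe_mul, ← pow_two]; exact x.2.2)
  have hE4 : Nat.card E ≤ 4 := by
    have h := hrank E hEP hEc ⊤ ⟨⟨fun a b => Subtype.ext (hEc.1.comm a.1 b.1)⟩⟩
      (fun a _ => by rw [pow_two, hE2])
    simpa using h
  set EP := E.subgroupOf P with hEPdef
  haveI : EP.Normal := ⟨fun n hn g => by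
    rw [mem_subgroupOf] at hn ⊢
    rw [coe_mul, coe_mul, coe_inv, (hcE _ hn g g.2).eq, mul_inv_cancel_right]
    exact hn⟩
  letI : CommGroup (P ⧸ EP) :=
    { (inferInstance : Group (P ⧸ EP)) with
      mul_comm := fun a b => by
        induction a using QuotientGroup.induction_on with | _ a => ?_
        induction b using QuotientGroup.induction_on with | _ b => ?_
        rw [← QuotientGroup.mk_mul, ← QuotientGroup.mk_mul, QuotientGroup.eq, hEPdef, mem_subgroupOf]
        have := hcommE _ (inv_mem b.2) _ (inv_mem a.2)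
        simpa [commutatorElement_def, mul_assoc] using this }
  have h2Q : ∀ x : P ⧸ EP, x * x = 1 := fun x => by
    induction x using QuotientGroup.induction_on with | _ a => ?_
    rw [← QuotientGroup.mk_mul, QuotientGroup.eq_one_iff, hEPdef, mem_subgroupOf, coe_mul, ← pow_two]
    exact hsqE a a.2
  -- the action of `d ^ 3 ^ m`
  set d' := d ^ 3 ^ m with hd'
  have hd'P : d' ∈ normalizer (P : Set X) := pow_mem hdP _
  set φ : MulAut P := P.normalizerMonoidHom ⟨d', hd'P⟩ with hφ
  have hφE : EP ≤ EP.comap φ.toMonoidHom := by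
    intro c hc
    rw [mem_comap, hEPdef, mem_subgroupOf]
    rw [hEPdef, mem_subgroupOf] at hc
    show d' * (c : X) * d'⁻¹ ∈ E
    refine ⟨(mem_normalizer_iff.mp (pow_mem
      (CfsgLib.Coprime.FixedPointFreeOnModule.mem_normalizer_map_of_char _ hdP) _) _).mp hc.1, ?_⟩
    rw [conj_pow, hc.2, mul_one, mul_inv_cancel]
  let ψ : (P ⧸ EP) →* (P ⧸ EP) := QuotientGroup.map EP EP φ.toMonoidHom hφE
  have hiter : ∀ (k : ℕ) (a : P), ψ^[k] (a : P ⧸ EP) = ((φ^[k] a : P) : P ⧸ EP) := by
    intro k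
    induction k with
    | zero => intro a; rfl
    | succ k ihk => intro a; rw [Function.iterate_succ_apply', ihk, Function.iterate_succ_apply']; rfl
  have hφiter : ∀ (k : ℕ) (a : P), ((φ^[k] a : P) : X) = d' ^ k * a * (d' ^ k)⁻¹ := by
    intro k
    induction k with
    | zero => intro a; simp
    | succ k ihk =>
      intro a
      rw [Function.iterate_succ_apply', pow_succ']
      show d' * ((φ^[k] a : P) : X) * d'⁻¹ = _
      rw [ihk]; group
  have h9 : ∀ x, ψ^[9] x = x := fun x => by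
    induction x using QuotientGroup.induction_on with | _ a => ?_
    rw [hiter]
    congr 1
    refine Subtype.ext ?_
    rw [hφiter, hd', ← pow_mul, show 3 ^ m * 9 = 3 ^ (m + 2) by ring, hd]
    simp
  obtain ⟨a₀, ha₀⟩ : ∃ a : P, ψ^[3] (a : P ⧸ EP) ≠ a := by
    by_contra hc
    push Not at hc
    refine hcon (mem_centralizer_iff.mpr fun g hg => ?_)
    have h1 := hc ⟨g, hg⟩
    rw [hiter, QuotientGroup.eq, hEPdef, mem_subgroupOf] at h1
    rw [coe_mul, coe_inv, hφiter, hd', ← pow_mul, ← pow_succ, ← ht] at h1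
    have hgt : g⁻¹ * (t * g * t⁻¹) ∈ E := by
      have := inv_mem h1
      simpa [mul_assoc] using this
    have h2 : ⁅t, g⁆ ∈ E := by
      have e : ⁅t, g⁆ = g * (g⁻¹ * (t * g * t⁻¹)) * g⁻¹ := by simp only [commutatorElement_def]; group
      rw [e, (hcE _ hgt g hg).eq, mul_inv_cancel_right]
      exact hgt
    exact (commute_of_stabilizes (Nat.Coprime.coprime_dvd_left (Subgroup.orderOf_dvd_natCard T (mem_zpowers t))
      (hcop.coprime_dvd_right (card_dvd_of_le hEP)))
      (centralizer_le (show (E : Set X) ⊆ (Φ : Set X) from fun c hc => hc.1) hΦt) h2).eq.symm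
  have h32 := DegreeSum.thirtyTwo_le_card h2Q ψ h9 ha₀
  -- the squaring map
  let sq : P ⧸ EP → E := fun x => ⟨(x.out : X) ^ 2, hsqE _ x.out.2⟩
  have hsqmk : ∀ a : P, sq (a : P ⧸ EP) = ⟨(a : X) ^ 2, hsqE _ a.2⟩ := by
    intro a
    obtain ⟨c, hc⟩ := QuotientGroup.mk_out_eq_mul EP a
    refine Subtype.ext ?_
    show ((QuotientGroup.mk a : P ⧸ EP).out : X) ^ 2 = (a : X) ^ 2
    have hcE' : ((c : P) : X) ∈ E := mem_subgroupOf.mp (hEPdef.le c.2)
    rw [hc, coe_mul, (hcE _ hcE' a a.2).mul_pow, hcE'.2, mul_one]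
  obtain ⟨c₁, c₂, hc₁, hc₂, hsep⟩ := exists_separating hE2 hE4
  have hdeg : ∀ c : E → ZMod 2, (∀ a b, c (a * b) = c a + c b) →
      DegreeSum.Deg 2 fun x : P ⧸ EP => 1 + c (sq x) := by
    intro c hc h k u v
    induction h using QuotientGroup.induction_on with | _ h => ?_
    induction k using QuotientGroup.induction_on with | _ k => ?_
    induction u using QuotientGroup.induction_on with | _ u => ?_
    induction v using QuotientGroup.induction_on with | _ v => ?_
    let β : P → P → E := fun b a => ⟨⁅(b : X), (a : X)⁆, hcommE _ b.2 _ a.2⟩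
    have hmul : ∀ a b : P, c (sq ((a * b : P) : P ⧸ EP)) = c (sq (a : P ⧸ EP)) + c (sq (b : P ⧸ EP)) + c (β b a) := by
      intro a b
      rw [hsqmk, hsqmk, hsqmk, ← hc, ← hc]
      exact congrArg c (Subtype.ext (hsq a a.2 b b.2))
    have hβ : ∀ a b b' : P, c (β (b * b') a) = c (β b a) + c (β b' a) := by
      intro a b b'
      rw [← hc]
      refine congrArg c (Subtype.ext ?_)
      show ⁅(b : X) * b', (a : X)⁆ = ⁅(b : X), (a : X)⁆ * ⁅(b' : X), (a : X)⁆
      have e : ⁅(b : X) * b', (a : X)⁆ = b * ⁅(b' : X), (a : X)⁆ * (b : X)⁻¹ * ⁅(b : X), (a : X)⁆ := by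
        simp only [commutatorElement_def]; group
      rw [e, (hcE _ (hcommE _ b'.2 _ a.2) b b.2).eq, mul_inv_cancel_right,
        (hcE _ (hcommE _ b.2 _ a.2) _ (hEP (hcommE _ b'.2 _ a.2))).eq]
    have key : ∀ a : P, 1 + c (sq ((a * k * h : P) : P ⧸ EP)) + (1 + c (sq ((a * k : P) : P ⧸ EP))) +
        (1 + c (sq ((a * h : P) : P ⧸ EP)) + (1 + c (sq (a : P ⧸ EP)))) = c (β h k) := by
      intro a
      rw [mul_assoc a k h, hmul a (k * h), hmul a k, hmul a h, hmul k h, hβ a k h]
      generalize c (sq (a : P ⧸ EP)) = A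
      generalize c (sq (k : P ⧸ EP)) = B
      generalize c (sq (h : P ⧸ EP)) = C
      generalize c (β k a) = D
      generalize c (β h a) = F
      generalize c (β h k) = H
      revert A B C D F H
      decide
    exact (key u).trans (key v).symm
  haveI := Fintype.ofFinite (P ⧸ EP)
  haveI : Fintype (⊤ : Subgroup (P ⧸ EP)) := Fintype.ofFinite _
  have hsum := DegreeSum.sum_eq_zero h2Q ((hdeg c₁ hc₁).mul (hdeg c₂ hc₂)) ⊤
    (by rw [card_top]; exact le_trans (by norm_num) h32)
  have hone : ∀ c : E → ZMod 2, (∀ a b, c (a * b) = c a + c b) → c (sq (1 : P ⧸ EP)) = 0 := by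
    intro c hc
    have e := hsqmk 1
    rw [QuotientGroup.mk_one] at e
    have h1 := hc 1 1
    rw [one_mul] at h1
    rw [e, show (⟨((1 : P) : X) ^ 2, hsqE _ (one_mem P)⟩ : E) = 1 from Subtype.ext (by simp)]
    exact left_eq_add.mp h1
  obtain ⟨x, hx1, hx⟩ : ∃ x : P ⧸ EP, x ≠ 1 ∧ sq x = 1 := by
    by_contra hc
    push Not at hc
    rw [Finset.sum_eq_single (⟨1, mem_top _⟩ : (⊤ : Subgroup (P ⧸ EP))) ?_ (fun h => absurd (Finset.mem_univ _) h)]
      at hsum
    · rw [hone c₁ hc₁, hone c₂ hc₂] at hsum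
      exact absurd hsum (by decide)
    · intro y _ hy
      by_contra hne
      refine hc y (fun h => hy (Subtype.ext h)) (hsep _ ?_ ?_)
      · generalize c₁ (sq y) = A at hne
        generalize c₂ (sq y) = B at hne
        revert A B; decide
      · generalize c₁ (sq y) = A at hne
        generalize c₂ (sq y) = B at hne
        revert A B; decide
  induction x using QuotientGroup.induction_on with | _ i => ?_
  have hiE : (i : X) ∉ E := fun h => hx1 ((QuotientGroup.eq_one_iff i).mpr h)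
  have hi2 : (i : X) ^ 2 = 1 := by
    rw [hsqmk] at hx
    exact congrArg Subtype.val hx
  rcases Nat.lt_or_ge (Nat.card E) 4 with hlt | hge
  · -- the centre has no involution
    have hEbot : E = ⊥ := by
      rw [eq_bot_iff]
      intro e he
      by_contra he1
      rw [mem_bot] at he1
      have hde : d * e * d⁻¹ ∈ E := ⟨(mem_normalizer_iff.mp
        (CfsgLib.Coprime.FixedPointFreeOnModule.mem_normalizer_map_of_char _ hdP) _).mp he.1,
        by rw [conj_pow, he.2, mul_one, mul_inv_cancel]⟩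
      have h1 : d * e * d⁻¹ = e := by
        by_contra hne
        haveI := Fintype.ofFinite E
        have h3 : Fintype.card E ≤ 2 := by
          have hp : IsPGroup 2 E := fun z => ⟨1, by rw [pow_one, pow_two, hE2]⟩
          obtain ⟨k, hk⟩ := hp.exists_card_eq
          rw [hk] at hlt
          have : k < 2 := (Nat.pow_lt_pow_iff_right (show 1 < 2 by norm_num)).mp hlt
          rw [← Nat.card_eq_fintype_card, hk]
          exact (Nat.pow_le_pow_right (show 0 < 2 by norm_num) (show k ≤ 1 by omega)).trans (by norm_num)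
        have h4 : ({1, ⟨e, he⟩, ⟨_, hde⟩} : Finset E).card ≤ Fintype.card E := Finset.card_le_univ _
        rw [Finset.card_eq_three.mpr ⟨1, ⟨e, he⟩, ⟨_, hde⟩, fun h => he1 (congrArg Subtype.val h).symm,
          fun h => he1 (conj_eq_one_iff.mp (congrArg Subtype.val h).symm),
          fun h => hne (congrArg Subtype.val h).symm, rfl⟩] at h4
        omega
      have h2 : e ∈ P ⊓ centralizer {d} :=
        ⟨hEP he, mem_centralizer_singleton_iff.mpr (mul_inv_eq_iff_eq_mul.mp h1).symm⟩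
      rw [hfpf, mem_bot] at h2
      exact he1 h2
    have hPab : IsMulCommutative P := ⟨⟨fun a b => Subtype.ext (commutatorElement_eq_one_iff_commute.mp (by
      have := hcommE _ a.2 _ b.2; rw [hEbot, mem_bot] at this; exact this))⟩⟩
    have h := hrank P le_rfl hPab ⊤ ⟨⟨fun a b => Subtype.ext (hPab.1.comm a.1 b.1)⟩⟩
      (fun a _ => Subtype.ext (by
        have := hsqE _ a.2; rw [hEbot, mem_bot] at this; simpa using this))
    rw [card_top] at h
    have := Nat.card_le_card_of_surjective _ (QuotientGroup.mk'_surjective EP)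
    omega
  · set A := E ⊔ zpowers (i : X) with hA
    have hAP : A ≤ P := sup_le hEP (zpowers_le.mpr i.2)
    have hgen : A = closure ((E : Set X) ∪ {(i : X)}) := by
      rw [Subgroup.closure_union, Subgroup.closure_eq, ← zpowers_eq_closure]
    have hAc : IsMulCommutative A := by
      rw [hgen]
      refine isMulCommutative_closure ?_
      rintro a (ha | ha) b (hb | hb)
      · exact hcE b hb a (hEP ha)
      · rw [Set.mem_singleton_iff.mp hb]; exact (hcE a ha i i.2).symm
      · rw [Set.mem_singleton_iff.mp ha]; exact hcE b hb i i.2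
      · rw [Set.mem_singleton_iff.mp ha, Set.mem_singleton_iff.mp hb]
    have hA2 : ∀ a ∈ A, a ^ 2 = 1 := by
      intro a ha
      rw [hgen] at ha
      induction ha using closure_induction with
      | mem z hz =>
        rcases hz with hz | hz
        · exact hz.2
        · rw [Set.mem_singleton_iff.mp hz]; exact hi2
      | one => simp
      | mul u v hu hv ihu ihv =>
        rw [← hgen] at hu hv
        rw [Commute.mul_pow (congrArg Subtype.val (hAc.1.comm ⟨u, hu⟩ ⟨v, hv⟩)), ihu, ihv, one_mul]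
      | inv u hu ihu => rw [inv_pow, ihu, inv_one]
    have h := hrank A hAP hAc ⊤ ⟨⟨fun a b => Subtype.ext (hAc.1.comm a.1 b.1)⟩⟩
      (fun a _ => Subtype.ext (by simpa using hA2 a a.2))
    rw [card_top] at h
    have h1 : Nat.card E < Nat.card A := lt_of_le_of_ne (card_le_of_le le_sup_left) fun h' =>
      hiE ((eq_of_le_of_card_ge (le_sup_left : E ≤ A) h'.ge).symm.le (mem_sup_right (mem_zpowers (i : X))))
    omega

end Helpers

/-- Let d be a non-identity 3-element of a finite group and P a 2-subgroup normalized by d on which ⟨d⟩ acts faithfully (no non-identity power of d centralizes P) and without non-identity fixed points (C_P(d) = 1). If every abelian subgroup of P has 2-rank at most 2, then d has order 3. -/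
theorem result {X : Type*} [Group X] [Finite X] (d : X) (n : ℕ) (hn : 1 ≤ n) (hd : orderOf d = 3 ^ n) (P : Subgroup X) (hP : IsPGroup 2 P) (hdP : d ∈ Subgroup.normalizer (P : Set X)) (hfaith : Subgroup.zpowers d ⊓ Subgroup.centralizer (P : Set X) = ⊥) (hfpf : P ⊓ Subgroup.centralizer {d} = ⊥) (hrank : ∀ V : Subgroup X, V ≤ P → IsMulCommutative V → Cfsg.PRankLE 2 2 V) : orderOf d = 3 := by
  classical
  by_contra hne
  obtain ⟨m, rfl⟩ : ∃ m, n = m + 2 := by
    refine ⟨n - 2, ?_⟩
    rcases Nat.lt_or_ge n 2 with h | h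
    · exact absurd (show orderOf d = 3 by rw [hd, show n = 1 by omega, pow_one]) hne
    · omega
  have h1 := main d m (by rw [← hd, pow_orderOf_eq_one]) _ P rfl hP hdP hfpf hrank
  have h2 : d ^ 3 ^ (m + 1) ∈ Subgroup.zpowers d ⊓ Subgroup.centralizer (P : Set X) :=
    ⟨pow_mem (Subgroup.mem_zpowers d) _, h1⟩
  rw [hfaith, Subgroup.mem_bot, ← orderOf_dvd_iff_pow_eq_one, hd] at h2
  have h3 := Nat.pow_dvd_pow_iff_le_right (x := 3) (k := m + 2) (l := m + 1) (by norm_num) |>.mp h2
  omega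
end Cfsg.Agent.S3738
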