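import Cfsg.Statements.S3739
import Cfsg.Agent.Lib.PGroup.CoprimeFix
import Cfsg.Agent.Lib.Solvable.Cores
import Cfsg.Agent.Lib.Fusion.NormalRankTwo
-- import your own Cfsg.Agent.* helpers here

set_option autoImplicit false
open Cfsg

namespace Cfsg.Agent.S3739

open scoped commutatorElement

section Helpers

variable {G : Type*} [Group G] [Finite G]

/-- A four-group and an involution outside centralizing it give an elementary abelian group of
order 8. -/
theorem elem_eight {W : Subgroup G} (hW : Cfsg.IsElementaryAbelian 2 W) (hcard : Nat.card W = 4)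
    {z : G} (hz2 : z ^ 2 = 1) (hzW : ∀ w ∈ W, Commute z w) (hz : z ∉ W) :
    ∃ E : Subgroup G, Cfsg.IsElementaryAbelian 2 E ∧ Nat.card E = 8 := by
  have hcw : ∀ a b : ↥W, (a : G) * b = b * a := fun a b => congrArg Subtype.val (hW.1.is_comm.comm a b)
  let f : ↥W × Subgroup.zpowers z →* G :=
    { toFun := fun t => (t.1 : G) * t.2
      map_one' := by simp
      map_mul' := by
        rintro ⟨a, b⟩ ⟨c, e⟩
        obtain ⟨i, hi⟩ := Subgroup.mem_zpowers_iff.1 b.2
        have h : Commute (b : G) c := hi ▸ (hzW c c.2).zpow_left i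
        calc ((a : G) * c) * (b * e) = a * (c * b) * e := by group
          _ = a * (b * c) * e := by rw [h.eq]
          _ = (a : G) * b * (c * e) := by group }
  have hfinj : Function.Injective f := by
    rw [injective_iff_map_eq_one]
    rintro ⟨a, b⟩ h
    have hab : (a : G) * b = 1 := h
    have hbW : (b : G) ∈ W := by
      rw [eq_inv_of_mul_eq_one_right hab]; exact W.inv_mem a.2
    obtain ⟨i, hi⟩ := Subgroup.mem_zpowers_iff.1 b.2
    have hb : (b : G) = 1 := by
      rcases Int.even_or_odd i with ⟨j, rfl⟩ | ⟨j, rfl⟩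
      · rw [← hi, ← two_mul, zpow_mul, show z ^ (2 : ℤ) = 1 by exact_mod_cast hz2, one_zpow]
      · exfalso
        rw [← hi, zpow_add, zpow_mul, show z ^ (2 : ℤ) = 1 by exact_mod_cast hz2, one_zpow, one_mul,
          zpow_one] at hbW
        exact hz hbW
    rw [hb, mul_one] at hab
    exact Prod.ext (Subtype.ext hab) (Subtype.ext hb)
  refine ⟨f.range, ⟨⟨⟨?_⟩⟩, ?_⟩, ?_⟩
  · rintro ⟨_, s, rfl⟩ ⟨_, t, rfl⟩
    apply Subtype.ext
    show f s * f t = f t * f s
    rw [← map_mul, ← map_mul]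
    congr 1
    refine Prod.ext (Subtype.ext (hcw s.1 t.1)) (Subtype.ext ?_)
    obtain ⟨i, hi⟩ := Subgroup.mem_zpowers_iff.1 s.2.2
    obtain ⟨j, hj⟩ := Subgroup.mem_zpowers_iff.1 t.2.2
    show (s.2 : G) * t.2 = t.2 * s.2
    rw [← hi, ← hj, ← zpow_add, ← zpow_add, add_comm]
  · rintro _ ⟨⟨a, b⟩, rfl⟩
    rw [← map_pow, Prod.pow_mk]
    have ha : a ^ 2 = 1 := Subtype.ext (hW.2 a a.2)
    have hb : b ^ 2 = 1 := by
      obtain ⟨i, hi⟩ := Subgroup.mem_zpowers_iff.1 b.2
      refine Subtype.ext ?_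
      show (b : G) ^ 2 = 1
      rw [← hi, ← zpow_natCast, ← zpow_mul, mul_comm, zpow_mul, zpow_natCast, hz2, one_zpow]
    rw [ha, hb]
    exact map_one f
  · rw [← Nat.card_congr (MonoidHom.ofInjective hfinj).toEquiv, Nat.card_prod, hcard, Nat.card_zpowers,
      orderOf_eq_prime hz2 (fun h => hz (h ▸ W.one_mem))]

/-- An elementary abelian 2-group of order at least 8 contains one of order 8. -/
theorem eight_le {W : Subgroup G} (hW : Cfsg.IsElementaryAbelian 2 W) (h : 8 ∣ Nat.card W) :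
    ∃ E : Subgroup G, Cfsg.IsElementaryAbelian 2 E ∧ Nat.card E = 8 := by
  haveI : Fact (Nat.Prime 2) := ⟨Nat.prime_two⟩
  obtain ⟨E, hE⟩ := Sylow.exists_subgroup_card_pow_prime (G := ↥W) 2 (n := 3) h
  refine ⟨E.map W.subtype, ⟨⟨⟨?_⟩⟩, ?_⟩, ?_⟩
  · rintro ⟨_, a, -, rfl⟩ ⟨_, b, -, rfl⟩
    exact Subtype.ext (congrArg Subtype.val (hW.1.is_comm.comm a b) :)
  · rintro _ ⟨a, -, rfl⟩
    exact hW.2 a a.2
  · rw [← Nat.card_congr (E.equivMapOfInjective _ W.subtype_injective).toEquiv, hE]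
    norm_num

/-- Fixed points of an element of order three acting by conjugation. -/
theorem card_fixed_modEq {x : G} (hx : x ^ 3 = 1) (P : G → Prop) (hP : ∀ f, P f → P (x * f * x⁻¹)) :
    Nat.card {f : {f : G // P f} // Commute x (f : G)} ≡ Nat.card {f : G // P f} [MOD 3] := by
  classical
  haveI : Fintype {f : G // P f} := Fintype.ofFinite _
  haveI : Fact (Nat.Prime 3) := ⟨Nat.prime_three⟩
  have hP' : ∀ f, P f → P (x⁻¹ * f * x) := fun f hf => by
    have h := hP _ (hP _ hf)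
    have e : x * (x * f * x⁻¹) * x⁻¹ = x⁻¹ * f * x := by
      have hxx : x * x = x⁻¹ := eq_inv_of_mul_eq_one_left (by rw [← hx, pow_succ, pow_two])
      calc x * (x * f * x⁻¹) * x⁻¹ = (x * x) * f * (x * x)⁻¹ := by group
        _ = x⁻¹ * f * x := by rw [hxx, inv_inv]
    rwa [e] at h
  let σ : Equiv.Perm {f : G // P f} :=
    { toFun := fun f => ⟨x * f * x⁻¹, hP _ f.2⟩
      invFun := fun f => ⟨x⁻¹ * f * x, hP' _ f.2⟩
      left_inv := fun f => Subtype.ext (show x⁻¹ * (x * f * x⁻¹) * x = (f : G) by group)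
      right_inv := fun f => Subtype.ext (show x * (x⁻¹ * f * x) * x⁻¹ = (f : G) by group) }
  have hσ : σ ^ 3 ^ 1 = 1 := by
    ext f
    show x * (x * (x * f * x⁻¹) * x⁻¹) * x⁻¹ = (f : G)
    calc x * (x * (x * f * x⁻¹) * x⁻¹) * x⁻¹ = x ^ 3 * f * (x ^ 3)⁻¹ := by rw [pow_succ, pow_two]; group
      _ = f := by rw [hx]; group
  have h := Equiv.Perm.card_compl_support_modEq hσ
  rw [← Nat.card_eq_fintype_card (α := {f : G // P f})] at h
  refine Eq.trans ?_ h
  congr 1
  rw [Nat.card_eq_fintype_card, Fintype.card_subtype]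
  congr 1
  ext f
  simp only [Finset.mem_filter, Finset.mem_univ, true_and, Finset.mem_compl, Equiv.Perm.mem_support,
    not_not]
  constructor
  · intro hc
    apply Subtype.ext
    show x * f * x⁻¹ = (f : G)
    rw [hc.eq, mul_inv_cancel_right]
  · intro hf
    have h' : x * f * x⁻¹ = (f : G) := congrArg Subtype.val hf
    exact mul_inv_eq_iff_eq_mul.1 h'

/-- The three subsets of `S` with prescribed square have the same size. -/
theorem card_fibre_conj {S : Subgroup G} {d : G} (hdS : ∀ f, f ∈ S ↔ d * f * d⁻¹ ∈ S) (w : G) :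
    Nat.card {f : G // f ∈ S ∧ f ^ 2 = w} = Nat.card {f : G // f ∈ S ∧ f ^ 2 = d * w * d⁻¹} := by
  refine Nat.card_congr ((MulAut.conj d).toEquiv.subtypeEquiv fun f => ?_)
  rw [MulEquiv.toEquiv_eq_coe, EquivLike.coe_coe, MulAut.conj_apply, ← hdS, conj_pow,
    mul_left_inj, mul_right_inj]

theorem main (hchar : Subgroup.centralizer (Cfsg.pCore 2 G : Set G) ≤ Cfsg.pCore 2 G)
    (hsix : ∃ g : G, orderOf g = 6) (d : G) (hd : IsPGroup 3 ↥(Subgroup.zpowers d))
    (W : Subgroup G) (hW : Cfsg.IsElementaryAbelian 2 W) (hW1 : W ≠ ⊥)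
    (hdW : d ∈ Subgroup.normalizer (W : Set G)) (hfpf : W ⊓ Subgroup.centralizer {d} = ⊥) :
    ∃ E : Subgroup G, Cfsg.IsElementaryAbelian 2 E ∧ Nat.card E = 8 := by
  by_contra hcon
  haveI : Fact (Nat.Prime 2) := ⟨Nat.prime_two⟩
  haveI : Fact (Nat.Prime 3) := ⟨Nat.prime_three⟩
  have hfix : ∀ w ∈ W, d * w * d⁻¹ = w → w = 1 := by
    intro w hw h
    have : w ∈ W ⊓ Subgroup.centralizer {d} :=
      ⟨hw, Subgroup.mem_centralizer_singleton_iff.2 (mul_inv_eq_iff_eq_mul.1 h).symm⟩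
    rwa [hfpf, Subgroup.mem_bot] at this
  have hdmem : ∀ w ∈ W, d * w * d⁻¹ ∈ W := fun w hw =>
    (Subgroup.mem_normalizer_iff.1 hdW w).1 hw
  have hWp : IsPGroup 2 W := fun w => ⟨1, Subtype.ext (by simpa using hW.2 w w.2)⟩
  have hcard : Nat.card W = 4 := by
    obtain ⟨k, hk⟩ := hWp.exists_card_eq
    rcases Nat.lt_or_ge k 3 with h | h
    · interval_cases k
      · exact absurd (Subgroup.card_eq_one.1 (by simpa using hk)) hW1
      · exfalso
        obtain ⟨w, hw1⟩ := Subgroup.ne_bot_iff_exists_ne_one.1 hW1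
        have h2 : Nat.card W = 2 := by simpa using hk
        obtain ⟨u, -, huniq⟩ := (Nat.card_eq_two_iff' (1 : W)).1 h2
        have e1 : (⟨d * w * d⁻¹, hdmem _ w.2⟩ : W) = u := huniq _ (fun h => hw1 (Subtype.ext (by
          have h' : d * w * d⁻¹ = 1 := congrArg Subtype.val h
          simpa [mul_inv_eq_one] using h')))
        have e2 : w = u := huniq _ hw1
        exact hw1 (Subtype.ext (hfix _ w.2 (congrArg Subtype.val (e1.trans e2.symm))))
      · simpa using hk
    · exact absurd (eight_le hW (hk ▸ (pow_dvd_pow 2 h))) hcon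
  -- conjugation by `d` permutes the involutions of `W` transitively
  have hWcomm : ∀ u ∈ W, ∀ v ∈ W, u * v = v * u := fun u hu v hv =>
    congrArg Subtype.val (hW.1.is_comm.comm ⟨u, hu⟩ ⟨v, hv⟩)
  have hWall : ∀ w ∈ W, w ≠ 1 → ∀ v ∈ W, v = 1 ∨ v = w ∨ v = d * w * d⁻¹ ∨ v = w * (d * w * d⁻¹) := by
    intro w hw hw1 v hv
    set u := d * w * d⁻¹ with hu
    have huW : u ∈ W := hdmem w hw
    have hu1 : u ≠ 1 := fun h => hw1 (by simpa [hu] using h)
    have huw : u ≠ w := fun h => hw1 (hfix w hw h)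
    have hwuW : w * u ∈ W := W.mul_mem hw huW
    have hwu1 : w * u ≠ 1 := fun h => huw (by
      have h2 : w * u = w * w := by rw [h, ← pow_two, hW.2 w hw]
      exact mul_left_cancel h2)
    have hwuw : w * u ≠ w := fun h => hu1 (mul_left_cancel (h.trans (mul_one w).symm))
    have hwuu : w * u ≠ u := fun h => hw1 (mul_right_cancel (h.trans (one_mul u).symm))
    classical
    haveI : Fintype W := Fintype.ofFinite _
    by_contra hne
    push Not at hne
    have hsub : ({⟨1, W.one_mem⟩, ⟨w, hw⟩, ⟨u, huW⟩, ⟨w * u, hwuW⟩, ⟨v, hv⟩} : Finset W).card = 5 := by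
      rw [Finset.card_insert_of_notMem, Finset.card_insert_of_notMem, Finset.card_insert_of_notMem,
        Finset.card_insert_of_notMem, Finset.card_singleton] <;>
        simp only [Finset.mem_insert, Finset.mem_singleton, Subtype.mk.injEq, not_or]
      · exact fun h => hne.2.2.2 h.symm
      · exact ⟨fun h => hwuu h.symm, fun h => hne.2.2.1 h.symm⟩
      · exact ⟨fun h => huw h.symm, fun h => hwuw h.symm, fun h => hne.2.1 h.symm⟩
      · exact ⟨fun h => hw1 h.symm, fun h => hu1 h.symm, fun h => hwu1 h.symm, fun h => hne.1 h.symm⟩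
    have h4 := Finset.card_le_univ ({⟨1, W.one_mem⟩, ⟨w, hw⟩, ⟨u, huW⟩, ⟨w * u, hwuW⟩, ⟨v, hv⟩} : Finset W)
    rw [hsub, ← Nat.card_eq_fintype_card, hcard] at h4
    omega
  -- subgroups invariant under `d`
  have hinv : ∀ K : Subgroup G, (∀ k ∈ K, d * k * d⁻¹ ∈ K) → ∀ w ∈ W, w ≠ 1 → w ∈ K → W ≤ K := by
    intro K hK w hw hw1 hwK v hv
    rcases hWall w hw hw1 v hv with rfl | rfl | rfl | rfl
    · exact K.one_mem
    · exact hwK
    · exact hK _ hwK
    · exact K.mul_mem hwK (hK _ hwK)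
  set Q := Cfsg.pCore 2 G with hQdef
  haveI hQn : Q.Normal := inferInstance
  have hQp : IsPGroup 2 Q := CfsgLib.Solvable.Cores.isPGroup_pCore 2
  obtain ⟨g, hg⟩ := hsix
  set x := g ^ 2 with hxdef
  set t := g ^ 3 with htdef
  have hgx : x ^ 3 = 1 := by rw [hxdef, ← pow_mul, show 2 * 3 = orderOf g by omega, pow_orderOf_eq_one]
  have ht2 : t ^ 2 = 1 := by rw [htdef, ← pow_mul, show 3 * 2 = orderOf g by omega, pow_orderOf_eq_one]
  have hx1 : x ≠ 1 := pow_ne_one_of_lt_orderOf (by omega) (by omega)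
  have ht1 : t ≠ 1 := pow_ne_one_of_lt_orderOf (by omega) (by omega)
  have htx : Commute x t := (Commute.refl g).pow_pow 2 3
  -- `W` lies in `Q`
  have hWQ : W ≤ Q := by
    by_contra hnot
    have htriv : ∀ w ∈ W, w ∈ Q → w = 1 := fun w hw hwQ => by_contra fun hw1 =>
      hnot (hinv Q (fun k hk => hQn.conj_mem k hk d) w hw hw1 hwQ)
    obtain ⟨z, hz1, hzQ, hz2, hzW⟩ : ∃ z, z ≠ 1 ∧ z ∈ Q ∧ z ^ 2 = 1 ∧ ∀ w ∈ W, Commute z w := by
      have hQ1 : Q ≠ ⊥ := by
        intro h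
        refine hnot ?_
        have hle : Subgroup.centralizer (Q : Set G) ≤ Q := hchar
        exact le_trans (fun v _ => Subgroup.mem_centralizer_iff.2 fun q hq => by
          rw [h] at hq; rw [Subgroup.mem_bot.1 hq, one_mul, mul_one]) hle
      let M := W ⊔ Q
      have hM : IsPGroup 2 M := hWp.to_sup_of_normal_right hQp
      haveI : (Q.subgroupOf M).Normal := inferInstance
      obtain ⟨z, hzN, hz1, hz2, hzc⟩ := CfsgLib.Fusion.NormalRankTwo.exists_central_of_lt hM
        (M := (⊥ : Subgroup M)) (N := Q.subgroupOf M) (by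
          rw [le_bot_iff, Subgroup.subgroupOf_eq_bot]
          exact fun h => hQ1 (h.eq_bot_of_le le_sup_right))
      refine ⟨(z : G), fun h => hz1 (Subgroup.mem_bot.2 (Subtype.ext h)),
        Subgroup.mem_subgroupOf.1 hzN, congrArg Subtype.val (Subgroup.mem_bot.1 hz2), fun w hw => ?_⟩
      have h := commutatorElement_eq_one_iff_commute.1
        (Subgroup.mem_bot.1 (hzc ⟨w, le_sup_left (b := Q) hw⟩))
      exact (h.map M.subtype).symm
    exact hcon (elem_eight hW hcard hz2 hzW fun hzW' => hz1 (htriv z hzW' hzQ))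
  -- all involutions of `Q` lie in `W`, which is central in `Q`
  have hQ1 : Q ≠ ⊥ := fun h => hW1 (le_bot_iff.1 (h ▸ hWQ))
  have hWc : ∀ w ∈ W, ∀ q ∈ Q, Commute q w := by
    haveI : Nontrivial Q := (Subgroup.nontrivial_iff_ne_bot Q).2 hQ1
    obtain ⟨c, hc⟩ := exists_prime_orderOf_dvd_card' (G := Subgroup.center Q) 2
      ((hQp.to_subgroup _).card_eq_or_dvd.resolve_left fun h => hQp.bot_lt_center.ne'
        (Subgroup.card_eq_one.1 h))
    have hcG : orderOf ((c : Q) : G) = 2 := by rw [Subgroup.orderOf_coe, Subgroup.orderOf_coe, hc]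
    have hc2 : ((c : Q) : G) ^ 2 = 1 := by rw [← hcG]; exact pow_orderOf_eq_one _
    have hccen : ∀ q ∈ Q, Commute q ((c : Q) : G) := fun q hq =>
      congrArg Subtype.val (Subgroup.mem_center_iff.1 c.2 ⟨q, hq⟩)
    have hcW : ((c : Q) : G) ∈ W := by_contra fun h =>
      hcon (elem_eight hW hcard hc2 (fun w hw => (hccen w (hWQ hw)).symm) h)
    have hK : W ≤ Subgroup.centralizer (Q : Set G) := by
      refine hinv _ (fun k hk => Subgroup.mem_centralizer_iff.2 fun q hq => ?_) _ hcW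
        (fun h => by rw [h, orderOf_one] at hcG; omega)
        (Subgroup.mem_centralizer_iff.2 fun q hq => hccen q hq)
      have h := Subgroup.mem_centralizer_iff.1 hk (d⁻¹ * q * d) (by
        simpa using hQn.conj_mem q hq d⁻¹)
      calc q * (d * k * d⁻¹) = d * ((d⁻¹ * q * d) * k) * d⁻¹ := by group
        _ = d * (k * (d⁻¹ * q * d)) * d⁻¹ := by rw [h]
        _ = (d * k * d⁻¹) * q := by group
    exact fun w hw q hq => Subgroup.mem_centralizer_iff.1 (hK hw) q hq
  have hinvW : ∀ q ∈ Q, q ^ 2 = 1 → q ∈ W := fun q hq hq2 => by_contra fun h =>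
    hcon (elem_eight hW hcard hq2 (fun w hw => hWc w hw q hq) h)
  have hWnorm : ∀ (s : G) (w : G), w ∈ W → s * w * s⁻¹ ∈ W := fun s w hw =>
    hinvW _ (hQn.conj_mem w (hWQ hw) s) (by rw [conj_pow, hW.2 w hw]; group)
  -- `x` centralizes `W`
  obtain ⟨t₀, ht₀W, ht₀1, ht₀x⟩ : ∃ w, w ∈ W ∧ w ≠ 1 ∧ Commute x w := by
    by_cases htQ : t ∈ Q
    · exact ⟨t, hinvW t htQ ht2, ht1, htx⟩
    -- an involution acting on `W` fixes one of its involutions
    by_cases hall : ∀ w ∈ W, Commute t w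
    · exact absurd (elem_eight hW hcard ht2 hall fun h => htQ (hWQ h)) hcon
    push Not at hall
    obtain ⟨w, hw, htw⟩ := hall
    have htwW : t * w * t⁻¹ ∈ W := hWnorm t w hw
    set u := w * (t * w * t⁻¹) with hu
    have hu1 : u ≠ 1 := by
      intro h
      apply htw
      have h2 : w * (t * w * t⁻¹) = w * w := by rw [← hu, h, ← pow_two, hW.2 w hw]
      exact mul_inv_eq_iff_eq_mul.1 (mul_left_cancel h2)
    have htu : t * u * t⁻¹ = u := by
      have htt : t * t = 1 := by rw [← pow_two, ht2]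
      calc t * u * t⁻¹ = (t * w * t⁻¹) * ((t * t) * w * (t * t)⁻¹) := by rw [hu]; group
        _ = (t * w * t⁻¹) * w := by rw [htt]; group
        _ = u := hWcomm _ htwW _ hw
    have huW : u ∈ W := W.mul_mem hw htwW
    have hxu : x * u * x⁻¹ ∈ W := hWnorm x u huW
    refine ⟨u, huW, hu1, ?_⟩
    by_contra hc
    apply htw
    have h1 : t * (x * u * x⁻¹) * t⁻¹ = x * u * x⁻¹ := by
      calc t * (x * u * x⁻¹) * t⁻¹ = (t * x) * u * (t * x)⁻¹ := by group
        _ = (x * t) * u * (x * t)⁻¹ := by rw [htx.eq]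
        _ = x * (t * u * t⁻¹) * x⁻¹ := by group
        _ = x * u * x⁻¹ := by rw [htu]
    let C : Subgroup G := W ⊓ Subgroup.centralizer {t}
    have hCle : C ≤ W := inf_le_left
    have hmem : ∀ y ∈ W, t * y * t⁻¹ = y → y ∈ C := fun y hy h =>
      ⟨hy, Subgroup.mem_centralizer_singleton_iff.2 (mul_inv_eq_iff_eq_mul.1 h).symm⟩
    have hxu1 : x * u * x⁻¹ ≠ 1 := fun h => hu1 (by simpa using h)
    have hxuu : x * u * x⁻¹ ≠ u := fun h => hc (mul_inv_eq_iff_eq_mul.1 h)
    have hC : C = W := by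
      refine Subgroup.eq_of_le_of_card_ge hCle ?_
      have hd4 : Nat.card C ∣ 4 := hcard ▸ Subgroup.card_dvd_of_le hCle
      have h3 : 3 ≤ Nat.card C := by
        classical
        haveI : Fintype C := Fintype.ofFinite _
        rw [Nat.card_eq_fintype_card]
        refine le_trans ?_ (Finset.card_le_univ
          ({1, ⟨u, hmem u huW htu⟩, ⟨_, hmem _ hxu h1⟩} : Finset C))
        rw [Finset.card_insert_of_notMem, Finset.card_insert_of_notMem, Finset.card_singleton]
        · simpa using hxuu.symm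
        · simp only [Finset.mem_insert, Finset.mem_singleton, not_or]
          exact ⟨fun h => hu1 (congrArg Subtype.val h).symm, fun h => hxu1 (congrArg Subtype.val h).symm⟩
      rw [hcard]
      have h4 : Nat.card C ≤ 4 := Nat.le_of_dvd (by norm_num) hd4
      interval_cases (Nat.card C) <;> omega
    have hwC : w ∈ C := hC.symm ▸ hw
    exact (Subgroup.mem_centralizer_singleton_iff.1 hwC.2).symm
  have hxW : ∀ w ∈ W, Commute x w := by
    intro w hw
    have hP := card_fixed_modEq hgx (fun f => f ∈ W) (fun f hf => hWnorm x f hf)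
    have hT : Nat.card {f : {f : G // f ∈ W} // Commute x (f : G)} =
        Nat.card ↥(W ⊓ Subgroup.centralizer {x}) :=
      Nat.card_congr ((Equiv.subtypeSubtypeEquivSubtypeInter _ _).trans (Equiv.subtypeEquivRight
        fun f => ⟨fun h => ⟨h.1, Subgroup.mem_centralizer_singleton_iff.2 h.2.eq.symm⟩,
          fun h => ⟨h.1, (Subgroup.mem_centralizer_singleton_iff.1 h.2).symm⟩⟩))
    have hW' : Nat.card {f : G // f ∈ W} = 4 := hcard
    rw [hT, hW'] at hP
    have hd4 : Nat.card ↥(W ⊓ Subgroup.centralizer {x}) ∣ 4 :=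
      hcard ▸ Subgroup.card_dvd_of_le inf_le_left
    have h2 : 2 ≤ Nat.card ↥(W ⊓ Subgroup.centralizer {x}) :=
      Subgroup.one_lt_card_iff_ne_bot _ |>.2 fun h => ht₀1 (by
        have : t₀ ∈ W ⊓ Subgroup.centralizer {x} :=
          ⟨ht₀W, Subgroup.mem_centralizer_singleton_iff.2 ht₀x.eq.symm⟩
        rwa [h, Subgroup.mem_bot] at this)
    have h4 : Nat.card ↥(W ⊓ Subgroup.centralizer {x}) ≤ 4 := Nat.le_of_dvd (by norm_num) hd4
    have heq : W ⊓ Subgroup.centralizer {x} = W := by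
      refine Subgroup.eq_of_le_of_card_ge inf_le_left ?_
      rw [hcard]
      have hP' : Nat.card ↥(W ⊓ Subgroup.centralizer {x}) % 3 = 4 % 3 := hP
      interval_cases (Nat.card ↥(W ⊓ Subgroup.centralizer {x})) <;> omega
    exact (Subgroup.mem_centralizer_singleton_iff.1 (heq.symm ▸ hw : w ∈ W ⊓ _).2).symm
  -- a critical subgroup and its elements of order at most four
  obtain ⟨C, hCc, hC, hcrit⟩ := CfsgLib.PGroup.CoprimeFix.exists_critical hQp
  set A₀ := C.map Q.subtype with hA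
  haveI hA₀n : A₀.Normal := ConjAct.normal_of_characteristic_of_normal
  haveI hWn : W.Normal := ⟨fun w hw s => hWnorm s w hw⟩
  set A := A₀ ⊔ W with hAdef
  have hAn : A.Normal := Subgroup.sup_normal A₀ W
  have hWAle : ∀ w ∈ W, w ∈ A := fun w hw => le_sup_right (a := A₀) hw
  have hAQ : A ≤ Q := sup_le (Subgroup.map_subtype_le C) hWQ
  have hsplit : ∀ u ∈ A, ∃ c ∈ C, ∃ w ∈ W, (c : G) * w = u := by
    intro u hu
    obtain ⟨_, ⟨c, hc, rfl⟩, w, hw, h⟩ := Subgroup.mem_sup_of_normal_right.1 hu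
    exact ⟨c, hc, w, hw, h⟩
  have hbr : ∀ c ∈ C, ∀ w ∈ W, ∀ c' ∈ C, ∀ w' ∈ W,
      ⁅((c : G) * w), ((c' : G) * w')⁆ = ((⁅c, c'⁆ : Q) : G) := by
    intro c hc w hw c' hc' w' hw'
    have k1 : Commute ((c' : G) * w') w := hWc w hw _ (Q.mul_mem c'.2 (hWQ hw'))
    have k2 : Commute (c : G) w' := hWc w' hw' _ c.2
    calc ⁅((c : G) * w), ((c' : G) * w')⁆
        = (c : G) * (w * ((c' : G) * w') * w⁻¹) * (c : G)⁻¹ * ((c' : G) * w')⁻¹ := by
          simp only [commutatorElement_def]; group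
      _ = (c : G) * ((c' : G) * w') * (c : G)⁻¹ * ((c' : G) * w')⁻¹ := by
          rw [k1.symm.eq, mul_inv_cancel_right]
      _ = (c : G) * (c' : G) * (w' * (c : G)⁻¹) * w'⁻¹ * (c' : G)⁻¹ := by group
      _ = ((⁅c, c'⁆ : Q) : G) := by
          rw [← k2.inv_left.eq]; simp [commutatorElement_def, mul_assoc]
  have hcom : ∀ u ∈ A, ∀ v ∈ A, ∀ w ∈ A, Commute ⁅u, v⁆ w := by
    intro u hu v hv w hw
    obtain ⟨c, hc, s, hs, rfl⟩ := hsplit u hu
    obtain ⟨c', hc', s', hs', rfl⟩ := hsplit v hv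
    obtain ⟨c'', hc'', s'', hs'', rfl⟩ := hsplit w hw
    rw [hbr c hc s hs c' hc' s' hs']
    exact ((hC.comm c hc c' hc' c'' hc'').map Q.subtype).mul_right (hWc s'' hs'' _ (SetLike.coe_mem (⁅c, c'⁆ : ↥Q)))
  have hcom2 : ∀ u ∈ A, ∀ v ∈ A, ⁅u, v⁆ ∈ W := by
    intro u hu v hv
    obtain ⟨c, hc, s, hs, rfl⟩ := hsplit u hu
    obtain ⟨c', hc', s', hs', rfl⟩ := hsplit v hv
    rw [hbr c hc s hs c' hc' s' hs']
    exact hinvW _ (SetLike.coe_mem _) (congrArg Subtype.val (hC.commutator_pow_eq_one hc hc'))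
  have hsq : ∀ u ∈ A, ∀ v ∈ A, (u * v) ^ 2 = ⁅v, u⁆ * (u ^ 2 * v ^ 2) := by
    intro u hu v hv
    have h := CfsgLib.OddOrder.OmegaLemma.mul_pow_central (u := u) (v := v) (z := ⁅v, u⁆)
      (by simp [commutatorElement_def, mul_assoc]) (hcom v hv u hu v hv) (hcom v hv u hu u hu) 2
    simpa using h
  let S : Subgroup G :=
    { carrier := {f | f ∈ A ∧ f ^ 2 ∈ W}
      one_mem' := ⟨A.one_mem, by rw [one_pow]; exact W.one_mem⟩
      mul_mem' := fun {a b} ha hb => ⟨A.mul_mem ha.1 hb.1, by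
        rw [hsq a ha.1 b hb.1]
        exact W.mul_mem (hcom2 b hb.1 a ha.1) (W.mul_mem ha.2 hb.2)⟩
      inv_mem' := fun {a} ha => ⟨A.inv_mem ha.1, by rw [inv_pow]; exact W.inv_mem ha.2⟩ }
  have hSA : ∀ f ∈ S, f ∈ A := fun f hf => hf.1
  have hSsq : ∀ f ∈ S, f ^ 2 ∈ W := fun f hf => hf.2
  have hSconj : ∀ s f : G, f ∈ S → s * f * s⁻¹ ∈ S := fun s f hf =>
    ⟨hAn.conj_mem f hf.1 s, by rw [conj_pow]; exact hWnorm s _ hf.2⟩
  have hSiff : ∀ s f : G, f ∈ S ↔ s * f * s⁻¹ ∈ S := fun s f => ⟨hSconj s f, fun h => by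
    have h' := hSconj s⁻¹ _ h
    have e : s⁻¹ * (s * f * s⁻¹) * s⁻¹⁻¹ = f := by group
    rwa [e] at h'⟩
  have hS4 : ∀ f ∈ S, f ^ 4 = 1 := fun f hf => by
    rw [show 4 = 2 * 2 from rfl, pow_mul]; exact hW.2 _ hf.2
  -- `x` does not centralize all of `S`
  have hxS : ¬ ∀ f ∈ S, Commute x f := by
    intro hall
    apply hx1
    have hxo : orderOf x = 3 := orderOf_eq_prime hgx hx1
    have hxc : x ∈ Subgroup.centralizer (A : Set G) := by
      refine CfsgLib.PGroup.CoprimeFix.centralizes_of_fix ((hQp).to_le hAQ)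
        (Subgroup.mem_normalizer_iff.2 fun h => ⟨fun hh => hAn.conj_mem h hh x, fun hh => by
          have h' := hAn.conj_mem _ hh x⁻¹
          have e : x⁻¹ * (x * h * x⁻¹) * x⁻¹⁻¹ = h := by group
          rwa [e] at h'⟩) (by rw [hxo]; decide) fun f hf hf4 => ?_
      have hf4' : f ^ 4 = 1 := hf4
      exact hall f ⟨hf, hinvW _ (Q.pow_mem (hAQ hf) 2) (by rw [← pow_mul]; exact hf4')⟩
    have hφ : MulAut.conjNormal (H := Q) x = 1 := by
      refine hcrit _ (((show Nat.Coprime (orderOf x) 2 by rw [hxo]; decide)).coprime_dvd_left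
        (orderOf_map_dvd _ x)) fun a ha => Subtype.ext ?_
      rw [MulAut.conjNormal_apply, ← Subgroup.mem_centralizer_iff.1 hxc (a : G) (le_sup_left (b := W) (⟨a, ha, rfl⟩ : (a : G) ∈ A₀)),
        mul_inv_cancel_right]
    have hxQ : x ∈ Q := hchar (Subgroup.mem_centralizer_iff.2 fun a ha => by
      have h := congrArg Subtype.val (DFunLike.congr_fun hφ (⟨a, ha⟩ : Q))
      rw [MulAut.conjNormal_apply, MulAut.one_apply] at h
      exact (mul_inv_eq_iff_eq_mul.1 h).symm)
    obtain ⟨j, hj⟩ := hQp ⟨x, hxQ⟩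
    have h2 : orderOf x ∣ 2 ^ j := orderOf_dvd_of_pow_eq_one (congrArg Subtype.val hj)
    rw [hxo] at h2
    exact absurd (Nat.prime_three.dvd_of_dvd_pow h2) (by decide)
  have hWA : ∀ w ∈ W, ∀ f ∈ S, Commute f w := fun w hw f hf => hWc w hw f (hAQ hf.1)
  -- the order of `S` is at most `2 ^ 7`
  have hSbound : Nat.card S ≤ 128 := by
    by_contra hbig
    push Not at hbig
    let Wc := W
    obtain ⟨v, hv, hvW⟩ : ∃ v ∈ S, v ∉ W := by
      by_contra h
      push Not at h
      have := Subgroup.card_le_of_le (show S ≤ W from h)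
      omega
    let φ : S →* W :=
      { toFun := fun f => ⟨⁅v, (f : G)⁆, hcom2 v hv.1 f (hSA _ f.2)⟩
        map_one' := Subtype.ext (by simp)
        map_mul' := fun a b => Subtype.ext (by
          show ⁅v, (a : G) * b⁆ = ⁅v, (a : G)⁆ * ⁅v, (b : G)⁆
          have h : ⁅v, (a : G) * b⁆ = ⁅v, (a : G)⁆ * ((a : G) * ⁅v, (b : G)⁆ * (a : G)⁻¹) := by
            simp only [commutatorElement_def]; group
          rw [h, ← (hcom v hv.1 b (hSA _ b.2) a (hSA _ a.2)).eq, mul_inv_cancel_right]) }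
    set U := φ.ker.map S.subtype with hU
    have hUmem : ∀ f, f ∈ U ↔ f ∈ S ∧ Commute v f := by
      intro f
      constructor
      · rintro ⟨y, hy, rfl⟩
        exact ⟨y.2, commutatorElement_eq_one_iff_commute.1 (congrArg Subtype.val (MonoidHom.mem_ker.1 hy))⟩
      · rintro ⟨hf, hc⟩
        exact ⟨⟨f, hf⟩, MonoidHom.mem_ker.2 (Subtype.ext (commutatorElement_eq_one_iff_commute.2 hc)), rfl⟩
    have hUcard : 64 ≤ Nat.card U := by
      have h1 : φ.ker.index ≤ 4 := by
        rw [Subgroup.index_ker, ← hcard]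
        exact Subgroup.card_le_card_group φ.range
      obtain ⟨k, hk⟩ := ((hQp.to_le (show S ≤ Q from fun f hf => hAQ hf.1))).exists_card_eq
      have h256 : 256 ≤ Nat.card S := by
        rw [hk] at hbig ⊢
        have : 7 < k := (Nat.pow_lt_pow_iff_right one_lt_two).1 (by simpa using hbig)
        calc 256 = 2 ^ 8 := by norm_num
          _ ≤ 2 ^ k := Nat.pow_le_pow_right two_pos (by omega)
      rw [hU, Subgroup.card_map_of_injective S.subtype_injective]
      have h2 := φ.ker.card_mul_index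
      by_contra h3
      push Not at h3
      have := Nat.mul_le_mul (Nat.le_of_lt_succ h3) h1
      omega
    set a := v ^ 2 with ha
    have haW : a ∈ W := hv.2
    have ha1 : a ≠ 1 := fun h => hvW (hinvW v (hAQ hv.1) h)
    -- the group generated by `W` and `v`
    let D : Subgroup G :=
      { carrier := {f | f ∈ W ∨ f * v ∈ W}
        one_mem' := Or.inl W.one_mem
        mul_mem' := by
          rintro f f' (hf | hf) (hf' | hf')
          · exact Or.inl (W.mul_mem hf hf')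
          · exact Or.inr (by rw [mul_assoc]; exact W.mul_mem hf hf')
          · exact Or.inr (by
              rw [mul_assoc, ← (hWA f' hf' v hv).eq, ← mul_assoc]; exact W.mul_mem hf hf')
          · refine Or.inl ?_
            have e : f * f' = (f * v) * (f' * v) * a⁻¹ := by
              rw [ha]
              calc f * f' = f * (v * (f' * v) * v⁻¹ * v⁻¹) := by
                    rw [(hWA _ hf' v hv).eq]; group
                _ = (f * v) * (f' * v) * (v ^ 2)⁻¹ := by group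
            rw [e]; exact W.mul_mem (W.mul_mem hf hf') (W.inv_mem haW)
        inv_mem' := by
          rintro f (hf | hf)
          · exact Or.inl (W.inv_mem hf)
          · refine Or.inr ?_
            have e : f⁻¹ * v = a * (f * v)⁻¹ := by
              rw [ha]
              calc f⁻¹ * v = v * (f * v)⁻¹ * v := by group
                _ = v * ((f * v)⁻¹ * v) := by group
                _ = v * (v * (f * v)⁻¹) := by rw [← (hWA _ (W.inv_mem hf) v hv).eq]
                _ = v ^ 2 * (f * v)⁻¹ := by rw [pow_two, mul_assoc]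
            rw [e]; exact W.mul_mem haW (W.inv_mem hf) }
    let WA : Subgroup G := Subgroup.zpowers a
    have hout : ∀ f ∈ U, f ∉ D → f ^ 2 ≠ 1 ∧ f ^ 2 ≠ a := by
      intro f hf hfD
      obtain ⟨hfS, hc⟩ := (hUmem f).1 hf
      refine ⟨fun h => hfD (Or.inl (hinvW f (hAQ hfS.1) h)), fun h => hfD (Or.inr ?_)⟩
      refine hinvW _ (Q.mul_mem (hAQ hfS.1) (hAQ hv.1)) ?_
      rw [hc.symm.mul_pow, h, ← ha, ← pow_two]
      exact hW.2 a haW
    have hDcard : Nat.card D ≤ 8 := by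
      classical
      have hle : ∀ f : D, (f : G) ∈ W ∨ (f : G) * v ∈ W := fun f => f.2
      refine le_trans (Nat.card_le_card_of_injective (fun f : D =>
        if h : (f : G) ∈ W then (Sum.inl ⟨_, h⟩ : W ⊕ W)
        else Sum.inr ⟨_, (hle f).resolve_left h⟩) ?_) (by rw [Nat.card_sum, hcard])
      intro f f' h
      dsimp only at h
      split_ifs at h with h1 h2 h2
      · exact Subtype.ext (congrArg Subtype.val (Sum.inl_injective h) :)
      · exact Subtype.ext (mul_right_cancel (congrArg Subtype.val (Sum.inr_injective h) :))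
    -- three elements of `U` independent modulo `D`
    have step : ∀ K : Subgroup G, Nat.card K ≤ 32 → ∃ f ∈ U, f ∉ K := by
      intro K hK
      by_contra h
      push Not at h
      have := Subgroup.card_le_of_le (show U ≤ K from h)
      omega
    have hnormal : ∀ K : Subgroup G, W ≤ K → ∀ f ∈ S, (∀ k ∈ K, k ∈ S) → f ∈ Subgroup.normalizer (K : Set G) := by
      intro K hWK f hf hKS
      refine Subgroup.mem_normalizer_iff.2 fun k => ?_
      have hstep : ∀ (s : G), s ∈ S → ∀ k ∈ K, s * k * s⁻¹ ∈ K := by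
        intro s hs k hk
        have : s * k * s⁻¹ = ⁅s, k⁆ * k := by simp only [commutatorElement_def]; group
        rw [this]
        exact K.mul_mem (hWK (hcom2 s hs.1 k (hKS k hk).1)) hk
      refine ⟨hstep f hf k, fun h => ?_⟩
      have h' := hstep f⁻¹ (S.inv_mem hf) _ h
      have e : f⁻¹ * (f * k * f⁻¹) * f⁻¹⁻¹ = k := by group
      rwa [e] at h'
    have hdouble : ∀ K : Subgroup G, W ≤ K → (∀ k ∈ K, k ∈ S) → ∀ f ∈ S,
        Nat.card ↥(K ⊔ Subgroup.zpowers f) ≤ 2 * Nat.card K ∧ (∀ k ∈ K ⊔ Subgroup.zpowers f, k ∈ S) := by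
      intro K hWK hKS f hf
      refine ⟨?_, fun k hk => sup_le (c := S) hKS (Subgroup.zpowers_le.2 hf) hk⟩
      have hset := Subgroup.coe_mul_of_right_le_normalizer_left K (Subgroup.zpowers f)
        (Subgroup.zpowers_le.2 (hnormal K hWK f hf hKS))
      classical
      have hsub : (↑(K ⊔ Subgroup.zpowers f) : Set G) ⊆ (K : Set G) ∪ (fun k => k * f) '' (K : Set G) := by
        rw [hset]
        rintro _ ⟨k, hk, y, hy, rfl⟩
        obtain ⟨i, rfl⟩ := Subgroup.mem_zpowers_iff.1 hy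
        rcases Int.even_or_odd i with ⟨j, rfl⟩ | ⟨j, rfl⟩
        · left
          have : f ^ (j + j) = (f ^ 2) ^ j := by rw [← two_mul, zpow_mul]; norm_cast
          rw [this]
          exact K.mul_mem hk (K.zpow_mem (hWK hf.2) j)
        · right
          refine ⟨k * (f ^ 2) ^ j, K.mul_mem hk (K.zpow_mem (hWK hf.2) j), ?_⟩
          show k * (f ^ 2) ^ j * f = k * f ^ (2 * j + 1)
          rw [zpow_add, zpow_mul, zpow_one, mul_assoc]; norm_cast
      calc Nat.card ↥(K ⊔ Subgroup.zpowers f)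
          = (↑(K ⊔ Subgroup.zpowers f) : Set G).ncard := Nat.card_coe_set_eq _
        _ ≤ ((K : Set G) ∪ (fun k => k * f) '' (K : Set G)).ncard := Set.ncard_le_ncard hsub (Set.toFinite _)
        _ ≤ (K : Set G).ncard + ((fun k => k * f) '' (K : Set G)).ncard := Set.ncard_union_le _ _
        _ ≤ 2 * Nat.card K := by
          have := Set.ncard_image_le (f := fun k => k * f) (s := (K : Set G)) (Set.toFinite _)
          have e : (K : Set G).ncard = Nat.card K := (Nat.card_coe_set_eq _).symm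
          omega
    have hWD : W ≤ D := fun f hf => Or.inl hf
    have hDS : ∀ k ∈ D, k ∈ S := by
      rintro k (hk | hk)
      · exact ⟨hWAle k hk, by rw [hW.2 k hk]; exact W.one_mem⟩
      · have hkv : k * v ∈ S := ⟨hWAle _ hk, by rw [hW.2 _ hk]; exact W.one_mem⟩
        have := S.mul_mem hkv (S.inv_mem hv)
        rwa [mul_inv_cancel_right] at this
    obtain ⟨p₁, hp₁U, hp₁⟩ := step D (by omega)
    have hp₁S := ((hUmem _).1 hp₁U).1
    obtain ⟨hD1, hD1S⟩ := hdouble D hWD hDS p₁ hp₁S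
    obtain ⟨p₂, hp₂U, hp₂⟩ := step (D ⊔ Subgroup.zpowers p₁) (by omega)
    have hp₂S := ((hUmem _).1 hp₂U).1
    obtain ⟨hD2, hD2S⟩ := hdouble _ (le_trans hWD le_sup_left) hD1S p₂ hp₂S
    obtain ⟨p₃, hp₃U, hp₃⟩ := step (D ⊔ Subgroup.zpowers p₁ ⊔ Subgroup.zpowers p₂) (by omega)
    have hp₃S := ((hUmem _).1 hp₃U).1
    have hm1 : p₁ ∈ D ⊔ Subgroup.zpowers p₁ := le_sup_right (a := D) (Subgroup.mem_zpowers p₁)
    have hm1' : p₁ ∈ D ⊔ Subgroup.zpowers p₁ ⊔ Subgroup.zpowers p₂ :=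
      le_sup_left (b := Subgroup.zpowers p₂) hm1
    have hm2 : p₂ ∈ D ⊔ Subgroup.zpowers p₁ ⊔ Subgroup.zpowers p₂ :=
      le_sup_right (a := D ⊔ Subgroup.zpowers p₁) (Subgroup.mem_zpowers p₂)
    have hl1 : D ≤ D ⊔ Subgroup.zpowers p₁ := le_sup_left
    have hl2 : D ≤ D ⊔ Subgroup.zpowers p₁ ⊔ Subgroup.zpowers p₂ := le_trans hl1 le_sup_left
    -- pick `b` among the two other involutions of `W`
    set b := p₁ ^ 2 with hb
    have hbW : b ∈ W := hp₁S.2
    have haa : a * a = 1 := by rw [← pow_two]; exact hW.2 a haW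
    have hwcase : ∀ f ∈ U, f ∉ D → f ^ 2 = b ∨ f ^ 2 = b * a := by
      intro f hf hfD
      obtain ⟨hb1, hba⟩ := hout p₁ hp₁U hp₁
      obtain ⟨hf1, hfa⟩ := hout f hf hfD
      have hfW : f ^ 2 ∈ W := ((hUmem f).1 hf).1.2
      have key : ∀ w ∈ W, w = 1 ∨ w = a ∨ w = b ∨ w = b * a := by
        intro w hw
        classical
        haveI : Fintype W := Fintype.ofFinite _
        by_contra hne
        push Not at hne
        have hba1 : b * a ≠ 1 := fun h => hba (by
          have : b * a = a * a := by rw [h, haa]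
          exact mul_right_cancel this)
        have hbab : b * a ≠ b := fun h => ha1 (mul_left_cancel (h.trans (mul_one b).symm))
        have hbaa : b * a ≠ a := fun h => hb1 (mul_right_cancel (h.trans (one_mul a).symm))
        have hsub : ({⟨1, W.one_mem⟩, ⟨a, haW⟩, ⟨b, hbW⟩, ⟨b * a, W.mul_mem hbW haW⟩, ⟨w, hw⟩} :
            Finset W).card = 5 := by
          rw [Finset.card_insert_of_notMem, Finset.card_insert_of_notMem, Finset.card_insert_of_notMem,
            Finset.card_insert_of_notMem, Finset.card_singleton] <;>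
            simp only [Finset.mem_insert, Finset.mem_singleton, Subtype.mk.injEq, not_or]
          · exact fun h => hne.2.2.2 h.symm
          · exact ⟨fun h => hbab h.symm, fun h => hne.2.2.1 h.symm⟩
          · exact ⟨fun h => hba h.symm, fun h => hbaa h.symm, fun h => hne.2.1 h.symm⟩
          · exact ⟨fun h => ha1 h.symm, fun h => hb1 h.symm, fun h => hba1 h.symm, fun h => hne.1 h.symm⟩
        have h4 := Finset.card_le_univ
          ({⟨1, W.one_mem⟩, ⟨a, haW⟩, ⟨b, hbW⟩, ⟨b * a, W.mul_mem hbW haW⟩, ⟨w, hw⟩} : Finset W)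
        rw [hsub, ← Nat.card_eq_fintype_card, hcard] at h4
        omega
      rcases key _ hfW with h | h | h | h
      · exact absurd h hf1
      · exact absurd h hfa
      · exact Or.inl h
      · exact Or.inr h
    -- a homomorphism on `W` separating `b` from `⟨a⟩`
    letI : CommGroup W := { (inferInstance : Group W) with mul_comm := fun s t => hW.1.is_comm.comm s t }
    let sq : ∀ f : G, f ∈ S → W := fun f hf => ⟨f ^ 2, hf.2⟩
    let br : ∀ f f' : G, f ∈ S → f' ∈ S → W := fun f f' hf hf' => ⟨⁅f', f⁆, hcom2 f' hf'.1 f hf.1⟩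
    have hsqmul : ∀ f (hf : f ∈ S) f' (hf' : f' ∈ S),
        sq (f * f') (S.mul_mem hf hf') = br f f' hf hf' * (sq f hf * sq f' hf') := fun f hf f' hf' =>
      Subtype.ext (hsq f hf.1 f' hf'.1)
    have h12 := S.mul_mem hp₁S hp₂S
    have hbr : br (p₁ * p₂) p₃ h12 hp₃S = br p₁ p₃ hp₁S hp₃S * br p₂ p₃ hp₂S hp₃S := by
      apply Subtype.ext
      show ⁅p₃, p₁ * p₂⁆ = ⁅p₃, p₁⁆ * ⁅p₃, p₂⁆
      have h : ⁅p₃, p₁ * p₂⁆ = ⁅p₃, p₁⁆ * (p₁ * ⁅p₃, p₂⁆ * p₁⁻¹) := by
        simp only [commutatorElement_def]; group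
      rw [h, ← (hcom p₃ hp₃S.1 p₂ hp₂S.1 p₁ hp₁S.1).eq, mul_inv_cancel_right]
    have e12 := hsqmul p₁ hp₁S p₂ hp₂S
    have e13 := hsqmul p₁ hp₁S p₃ hp₃S
    have e23 := hsqmul p₂ hp₂S p₃ hp₃S
    have e123 := hsqmul (p₁ * p₂) h12 p₃ hp₃S
    rw [hbr, e12] at e123
    let bb : W := ⟨b, hbW⟩
    let aa : W := ⟨a, haW⟩
    have two : ∀ s : W, s * s = 1 := fun s => Subtype.ext (by
      show (s : G) * s = 1
      rw [← pow_two]; exact hW.2 s s.2)
    have hprod : sq p₁ hp₁S * sq p₂ hp₂S * sq p₃ hp₃S * sq (p₁ * p₂) h12 *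
        sq (p₁ * p₃) (S.mul_mem hp₁S hp₃S) * sq (p₂ * p₃) (S.mul_mem hp₂S hp₃S) *
        sq (p₁ * p₂ * p₃) (S.mul_mem h12 hp₃S) = 1 := by
      rw [e12, e13, e23, e123]
      set A1 := sq p₁ hp₁S
      set A2 := sq p₂ hp₂S
      set A3 := sq p₃ hp₃S
      set B12 := br p₁ p₂ hp₁S hp₂S
      set B13 := br p₁ p₃ hp₁S hp₃S
      set B23 := br p₂ p₃ hp₂S hp₃S
      calc _ = (A1 * A1) * (A1 * A1) * ((A2 * A2) * (A2 * A2)) * ((A3 * A3) * (A3 * A3)) *
              (B12 * B12) * (B13 * B13) * (B23 * B23) := by ac_rfl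
        _ = 1 := by simp only [two, one_mul]
    have hin : ∀ f ∈ U, ∀ (hf : f ∈ S), f ∉ D → ∃ i : ℕ, sq f hf = bb * aa ^ i := by
      intro f hf hfS hfD
      rcases hwcase f hf hfD with h | h
      · exact ⟨0, Subtype.ext (by rw [pow_zero, mul_one]; exact h)⟩
      · exact ⟨1, Subtype.ext (by rw [pow_one]; exact h)⟩
    have n12 : p₁ * p₂ ∉ D := fun h => hp₂ (((D ⊔ Subgroup.zpowers p₁).mul_mem_cancel_left hm1).1 (hl1 h))
    have n13 : p₁ * p₃ ∉ D := fun h => hp₃ ((Subgroup.mul_mem_cancel_left _ hm1').1 (hl2 h))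
    have n23 : p₂ * p₃ ∉ D := fun h => hp₃ ((Subgroup.mul_mem_cancel_left _ hm2).1 (hl2 h))
    have n123 : p₁ * p₂ * p₃ ∉ D := fun h =>
      hp₃ ((Subgroup.mul_mem_cancel_left _ (Subgroup.mul_mem _ hm1' hm2)).1 (hl2 h))
    have n2 : p₂ ∉ D := fun h => hp₂ (hl1 h)
    have n3 : p₃ ∉ D := fun h => hp₃ (hl2 h)
    obtain ⟨i1, E1⟩ := hin _ hp₁U hp₁S hp₁
    obtain ⟨i2, E2⟩ := hin _ hp₂U hp₂S n2
    obtain ⟨i3, E3⟩ := hin _ hp₃U hp₃S n3
    obtain ⟨i12, E12⟩ := hin _ (U.mul_mem hp₁U hp₂U) h12 n12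
    obtain ⟨i13, E13⟩ := hin _ (U.mul_mem hp₁U hp₃U) (S.mul_mem hp₁S hp₃S) n13
    obtain ⟨i23, E23⟩ := hin _ (U.mul_mem hp₂U hp₃U) (S.mul_mem hp₂S hp₃S) n23
    obtain ⟨i123, E123⟩ := hin _ (U.mul_mem (U.mul_mem hp₁U hp₂U) hp₃U) (S.mul_mem h12 hp₃S) n123
    rw [E1, E2, E3, E12, E13, E23, E123] at hprod
    have hb7 : bb * aa ^ (i1 + i2 + i3 + i12 + i13 + i23 + i123) = 1 := by
      have h7 : (bb * bb) * (bb * bb) * (bb * bb) * (bb * aa ^ (i1 + i2 + i3 + i12 + i13 + i23 + i123)) = 1 := by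
        rw [← hprod]; simp only [pow_add]; ac_rfl
      simpa only [two, one_mul] using h7
    obtain ⟨hb1, hba⟩ := hout p₁ hp₁U hp₁
    rcases Nat.even_or_odd (i1 + i2 + i3 + i12 + i13 + i23 + i123) with ⟨j, hj⟩ | ⟨j, hj⟩
    · rw [hj, ← two_mul, pow_mul, pow_two, two, one_pow, mul_one] at hb7
      exact hb1 (congrArg Subtype.val hb7)
    · rw [hj, pow_succ, pow_mul, pow_two, two, one_pow, one_mul] at hb7
      apply hba
      have h' : b * a = a * a := by rw [haa]; exact congrArg Subtype.val hb7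
      exact mul_right_cancel h'
  -- counting the fibres of squaring
  obtain ⟨⟨w₁, hw₁W⟩, hw₁'⟩ := Subgroup.ne_bot_iff_exists_ne_one.1 hW1
  have hw₁ : w₁ ≠ 1 := fun h => hw₁' (Subtype.ext h)
  classical
  haveI : Fintype S := Fintype.ofFinite _
  have hWS : ∀ w ∈ W, w ∈ S := fun w hw => ⟨hWAle w hw, by rw [hW.2 w hw]; exact W.one_mem⟩
  set w₂ := d * w₁ * d⁻¹ with hw₂
  set w₃ := w₁ * w₂ with hw₃
  have hw₂W : w₂ ∈ W := hdmem _ hw₁W
  have hw₂1 : w₂ ≠ 1 := fun h => hw₁ (by simpa [hw₂] using h)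
  have hw21 : w₂ ≠ w₁ := fun h => hw₁ (hfix _ hw₁W h)
  have hw31 : w₃ ≠ w₁ := fun h => hw₂1 (mul_left_cancel (h.trans (mul_one w₁).symm))
  have hw32 : w₃ ≠ w₂ := fun h => hw₁ (mul_right_cancel (h.trans (one_mul w₂).symm))
  have hw30 : w₃ ≠ 1 := fun h => hw21 (mul_left_cancel (h.trans (show (1 : G) = w₁ * w₁ by rw [← pow_two, hW.2 _ hw₁W])))
  have hw₃' : d * w₂ * d⁻¹ = w₃ := by
    rcases hWall w₁ hw₁W hw₁ _ (hdmem _ hw₂W) with h | h | h | h
    · exact absurd (by simpa using h : w₂ = 1) hw₂1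
    · exfalso
      have h' : d * (w₁ * w₂) * d⁻¹ = w₁ * w₂ := by
        calc d * (w₁ * w₂) * d⁻¹ = (d * w₁ * d⁻¹) * (d * w₂ * d⁻¹) := by group
          _ = w₂ * w₁ := by rw [h]
          _ = w₁ * w₂ := hWcomm _ hw₂W _ hw₁W
      exact hw30 (hfix _ (W.mul_mem hw₁W hw₂W) h')
    · exact absurd (mul_left_cancel (mul_right_cancel (h.trans hw₂)) : w₂ = w₁) hw21
    · exact h
  let fib : G → ℕ := fun w => Nat.card {f : G // f ∈ S ∧ f ^ 2 = w}
  let fibx : G → ℕ := fun w => Nat.card {f : G // f ∈ S ∧ Commute x f ∧ f ^ 2 = w}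
  have hfib12 : fib w₁ = fib w₂ := card_fibre_conj (fun f => hSiff d f) w₁
  have hfib23 : fib w₂ = fib w₃ := by
    have h := card_fibre_conj (fun f => hSiff d f) w₂
    rw [hw₃'] at h; exact h
  have hpart : ∀ P : G → Prop, (∀ w ∈ W, P w) → Nat.card {f : G // f ∈ S ∧ P f} =
      4 + Nat.card {f : G // f ∈ S ∧ P f ∧ f ^ 2 = w₁} + Nat.card {f : G // f ∈ S ∧ P f ∧ f ^ 2 = w₂}
        + Nat.card {f : G // f ∈ S ∧ P f ∧ f ^ 2 = w₃} := by
    intro P hP
    haveI : Fintype G := Fintype.ofFinite G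
    simp only [Nat.card_eq_fintype_card, Fintype.card_subtype]
    have hW4 : (Finset.univ.filter fun f : G => f ∈ W).card = 4 := by
      rw [← Fintype.card_subtype, ← Nat.card_eq_fintype_card]; exact hcard
    rw [← hW4, ← Finset.card_union_of_disjoint, ← Finset.card_union_of_disjoint,
      ← Finset.card_union_of_disjoint]
    · congr 1
      ext f
      simp only [Finset.mem_union, Finset.mem_filter, Finset.mem_univ, true_and]
      constructor
      · rintro ⟨hf, hPf⟩
        rcases hWall w₁ hw₁W hw₁ _ hf.2 with h | h | h | h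
        · exact Or.inl (Or.inl (Or.inl (hinvW f (hAQ hf.1) h)))
        · exact Or.inl (Or.inl (Or.inr ⟨hf, hPf, h⟩))
        · exact Or.inl (Or.inr ⟨hf, hPf, h⟩)
        · exact Or.inr ⟨hf, hPf, h⟩
      · rintro (((h | h) | h) | h)
        · exact ⟨hWS f h, hP f h⟩
        all_goals exact ⟨h.1, h.2.1⟩
    all_goals
      rw [Finset.disjoint_left]
      intro f hf hf'
      simp only [Finset.mem_union, Finset.mem_filter, Finset.mem_univ, true_and] at hf hf'
      rcases hf'.2.2 with h'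
      first
        | (rcases hf with (h | h) | h
           · exact hw30 (h'.symm.trans (hW.2 f h))
           · exact hw31 (h'.symm.trans h.2.2)
           · exact hw32 (h'.symm.trans h.2.2))
        | (rcases hf with h | h
           · exact hw₂1 (h'.symm.trans (hW.2 f h))
           · exact hw21 (h'.symm.trans h.2.2))
        | exact hw₁ (h'.symm.trans (hW.2 f hf))
  have hScard : Nat.card S = 4 + 3 * fib w₁ := by
    have h := hpart (fun _ => True) (fun _ _ => trivial)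
    simp only [true_and, and_true] at h
    show Nat.card {f : G // f ∈ S} = _
    simp only [fib] at *
    omega
  let F : Subgroup G := S ⊓ Subgroup.centralizer {x}
  have hFmem : ∀ f, f ∈ F ↔ f ∈ S ∧ Commute x f := fun f =>
    ⟨fun h => ⟨h.1, (Subgroup.mem_centralizer_singleton_iff.1 h.2).symm⟩,
      fun h => ⟨h.1, Subgroup.mem_centralizer_singleton_iff.2 h.2.eq.symm⟩⟩
  have hFcard : Nat.card F = 4 + fibx w₁ + fibx w₂ + fibx w₃ := by
    have h := hpart (fun f => Commute x f) (fun w hw => hxW w hw)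
    rw [← h]
    exact Nat.card_congr (Equiv.subtypeEquivRight hFmem)
  have hmod : ∀ w ∈ W, fibx w % 3 = fib w % 3 := by
    intro w hw
    have h : _ % 3 = _ % 3 := card_fixed_modEq hgx (fun f => f ∈ S ∧ f ^ 2 = w) (fun f hf =>
      ⟨hSconj x f hf.1, by rw [conj_pow, hf.2, (hxW w hw).eq, mul_inv_cancel_right]⟩)
    rw [← h]
    congr 1
    exact Nat.card_congr ((Equiv.subtypeEquivRight fun f => by tauto).trans
      (Equiv.subtypeSubtypeEquivSubtypeInter _ (fun f : G => Commute x f)).symm)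
  have hfour : ∀ w ∈ W, fibx w ≠ 0 → 4 ≤ fibx w := by
    intro w hw h0
    obtain ⟨⟨f, hfS, hfx, hf2⟩⟩ := (Nat.card_ne_zero.1 h0).1
    rw [← hcard]
    refine Nat.card_le_card_of_injective (fun s : W => (⟨f * s, S.mul_mem hfS (hWS _ s.2),
      hfx.mul_right (hxW _ s.2), by
        rw [(hWA _ s.2 f hfS).mul_pow, hf2, hW.2 _ s.2, mul_one]⟩ :
          {f : G // f ∈ S ∧ Commute x f ∧ f ^ 2 = w})) fun s t h => ?_
    exact Subtype.ext (mul_left_cancel (congrArg Subtype.val h))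
  have hFS : Nat.card F < Nat.card S := by
    refine lt_of_le_of_ne (Subgroup.card_le_of_le inf_le_left) fun h => hxS fun f hf => ?_
    have e : F = S := Subgroup.eq_of_le_of_card_ge inf_le_left h.ge
    exact ((hFmem f).1 (e.symm ▸ hf)).2
  have hFd : Nat.card F ∣ Nat.card S := Subgroup.card_dvd_of_le inf_le_left
  obtain ⟨k, hk⟩ := (hQp.to_le (show S ≤ Q from fun f hf => hAQ hf.1)).exists_card_eq
  have hk7 : k ≤ 7 := by
    by_contra h
    have : 2 ^ 8 ≤ Nat.card S := hk ▸ Nat.pow_le_pow_right two_pos (by omega)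
    omega
  have m1 := hmod w₁ hw₁W
  have m2 := hmod w₂ hw₂W
  have m3 := hmod w₃ (W.mul_mem hw₁W hw₂W)
  have f1 := hfour w₁ hw₁W
  have f2 := hfour w₂ hw₂W
  have f3 := hfour w₃ (W.mul_mem hw₁W hw₂W)
  rw [hk] at hFd hFS hScard
  obtain ⟨j, hj, hjF⟩ := (Nat.dvd_prime_pow Nat.prime_two).1 hFd
  rw [hjF] at hFS hFcard
  interval_cases k <;> interval_cases j <;> omega

end Helpers

/-- Let G be a finite group with C_G(O₂(G)) ≤ O₂(G) containing an element of order 6, and let d be a non-identity 3-element of G normalizing a nontrivial elementary abelian 2-subgroup W with C_W(d) = 1. Then G has an elementary abelian subgroup of order 8. -/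
theorem result {G : Type*} [Group G] [Finite G] (hchar : Subgroup.centralizer (Cfsg.pCore 2 G : Set G) ≤ Cfsg.pCore 2 G) (hsix : ∃ g : G, orderOf g = 6) (d : G) (hd1 : d ≠ 1) (hd : IsPGroup 3 ↥(Subgroup.zpowers d)) (W : Subgroup G) (hW : Cfsg.IsElementaryAbelian 2 W) (hW1 : W ≠ ⊥) (hdW : d ∈ Subgroup.normalizer (W : Set G)) (hfpf : W ⊓ Subgroup.centralizer {d} = ⊥) : ∃ E : Subgroup G, Cfsg.IsElementaryAbelian 2 E ∧ Nat.card E = 8 := by
  exact main hchar hsix d hd W hW hW1 hdW hfpf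

end Cfsg.Agent.S3739
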