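import Cfsg.Statements.S3740
import Cfsg.Agent.Lib.Classical.Dickson.Generation
import Cfsg.Agent.Lib.Classical.Dickson.MaxTools
import Cfsg.Agent.Lib.Fusion.Dickson
import Cfsg.Agent.Lib.Fusion.QuaternionSL23
import Cfsg.Agent.Lib.TwoGroups.CyclicMax
import Cfsg.Agent.Lib.Coprime.SchurZassenhaus
-- import your own Cfsg.Agent.* helpers here

set_option autoImplicit false
open Cfsg

namespace Cfsg.Agent.S3740

open Matrix CfsgLib.Classical.Dickson
open scoped MatrixGroups

section Helpers

variable {F : Type*} [Field F] [Fintype F] {p : ℕ}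

theorem two_ne_zero' [Fact p.Prime] [CharP F p] (hp : p ≠ 2) : (2 : F) ≠ 0 := by
  intro h
  have h1 : ((2 : ℕ) : F) = 0 := by exact_mod_cast h
  rw [CharP.cast_eq_zero_iff F p] at h1
  exact hp ((Nat.prime_dvd_prime_iff_eq Fact.out Nat.prime_two).mp h1)

theorem toPGL_eq_one_of_sq (h2 : (2 : F) ≠ 0) {x : SL(2, F)} (hx : x * x = 1) :
    SpecialLinearGroup.toPGL x = 1 := by
  rw [← MonoidHom.mem_ker, SpecialLinearGroup.toPGL_ker, Matrix.SpecialLinearGroup.mem_center_iff]
  have hinv : x⁻¹ = x := inv_eq_of_mul_eq_one_right hx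
  have e := congrArg (fun g : SL(2, F) => (g : Matrix (Fin 2) (Fin 2) F)) hinv
  simp only [Matrix.SpecialLinearGroup.coe_inv, adjugate_fin_two] at e
  have e01 := congrFun (congrFun e 0) 1
  have e10 := congrFun (congrFun e 1) 0
  have e00 := congrFun (congrFun e 0) 0
  simp at e01 e10 e00
  have a01 : (x : Matrix (Fin 2) (Fin 2) F) 0 1 = 0 := by
    have : (2 : F) * (x : Matrix (Fin 2) (Fin 2) F) 0 1 = 0 := by linear_combination -e01
    exact (mul_eq_zero.mp this).resolve_left h2
  have a10 : (x : Matrix (Fin 2) (Fin 2) F) 1 0 = 0 := by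
    have : (2 : F) * (x : Matrix (Fin 2) (Fin 2) F) 1 0 = 0 := by linear_combination -e10
    exact (mul_eq_zero.mp this).resolve_left h2
  have hdet := x.det_coe
  rw [det_fin_two, a01, a10, mul_zero, sub_zero, e00] at hdet
  refine ⟨(x : Matrix (Fin 2) (Fin 2) F) 0 0, by rw [Fintype.card_fin, pow_two]; exact hdet, ?_⟩
  ext i j
  fin_cases i <;> fin_cases j <;> simp [scalar_apply, a01, a10, e00]

end Helpers

/-- Let F be a finite field of odd characteristic p and let a be a p-element of SL₂(F) normalizing a subgroup R of order prime to p with [R, a] ≠ 1. Then p = 3, R is a quaternion group of order 8, and R⟨a⟩ is isomorphic to SL₂(3). -/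
theorem result (F : Type) [Field F] [Fintype F] {p : ℕ} [Fact p.Prime] [CharP F p] (hp : p ≠ 2) (a : Matrix.SpecialLinearGroup (Fin 2) F) (ha : IsPGroup p ↥(Subgroup.zpowers a)) (R : Subgroup (Matrix.SpecialLinearGroup (Fin 2) F)) (hR : (Nat.card R).Coprime p) (haR : a ∈ Subgroup.normalizer (R : Set (Matrix.SpecialLinearGroup (Fin 2) F))) (hnt : ⁅R, Subgroup.zpowers a⁆ ≠ ⊥) : p = 3 ∧ Nonempty (↥R ≃* QuaternionGroup 2) ∧ Nonempty (↥(R ⊔ Subgroup.zpowers a) ≃* Matrix.SpecialLinearGroup (Fin 2) (ZMod 3)) := by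
  classical
  have h2 : (2 : F) ≠ 0 := two_ne_zero' hp
  set π : SL(2, F) →* ProjGenLinGroup (Fin 2) F := SpecialLinearGroup.toPGL with hπ
  set H := R ⊔ Subgroup.zpowers a with hH
  have hap : ∃ n, a ^ p ^ n = 1 := by
    obtain ⟨n, hn⟩ := ha ⟨a, Subgroup.mem_zpowers a⟩
    exact ⟨n, by simpa using congrArg Subtype.val hn⟩
  have hap1 : a ^ p = 1 := by
    obtain ⟨w, c, hw⟩ := CfsgLib.Fusion.Dickson.exists_conj_up (CfsgLib.Fusion.Dickson.trace_eq_two hap)
    apply (MulAut.conj w).injective
    rw [map_pow, map_one]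
    show ((MulAut.conj w).toMonoidHom a) ^ p = 1
    rw [show (MulAut.conj w).toMonoidHom a = _ from hw, CfsgLib.Fusion.QuadSL2.up_pow, CharP.cast_eq_zero,
      zero_mul, CfsgLib.Perm.SL2Unipotent.up_zero]
  have hRa : ¬ R ≤ Subgroup.centralizer {a} := fun h => hnt (by
    rw [Subgroup.commutator_eq_bot_iff_le_centralizer, Subgroup.zpowers_eq_closure, Subgroup.centralizer_closure]
    exact h)
  obtain ⟨h3, ψ, hψ, hψH⟩ := CfsgLib.Fusion.Dickson.exists_sl23_of_unipotent hp hap (X := H) (M := R)
    (Subgroup.mem_sup_right (Subgroup.mem_zpowers a)) le_sup_left haR hR hRa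
  subst h3
  refine ⟨rfl, ?_⟩
  have ha1 : a ≠ 1 := fun h => hRa fun r _ => Subgroup.mem_centralizer_singleton_iff.mpr (by rw [h, mul_one, one_mul])
  have haz : Nat.card (Subgroup.zpowers a) = 3 := by rw [Nat.card_zpowers, orderOf_eq_prime hap1 ha1]
  have hnH : H ≤ Subgroup.normalizer (R : Set SL(2, F)) :=
    sup_le Subgroup.le_normalizer (Subgroup.zpowers_le.mpr haR)
  -- elements of order prime to `3`
  have hmem : ∀ g ∈ H, ∃ r ∈ R, ∃ i : ℤ, g = r * a ^ i := by
    intro g hg
    obtain ⟨r, hr, t, ht, rfl⟩ :=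
      (CfsgLib.Coprime.mem_sup_of_le_normalizer (Subgroup.zpowers_le.mpr haR)).1 hg
    obtain ⟨i, rfl⟩ := Subgroup.mem_zpowers_iff.mp ht
    exact ⟨r, hr, i, rfl⟩
  have hcube : ∀ g ∈ H, g ^ 3 ∈ R := by
    intro g hg
    obtain ⟨r, hr, i, rfl⟩ := hmem g hg
    set t := a ^ i
    have htn : t ∈ Subgroup.normalizer (R : Set SL(2, F)) := zpow_mem haR i
    have ht3 : t ^ 3 = 1 := by
      show (a ^ i) ^ 3 = 1
      rw [← zpow_natCast, ← _root_.zpow_mul, mul_comm, _root_.zpow_mul, zpow_natCast, hap1, _root_.one_zpow]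
    have h1 := (Subgroup.mem_normalizer_iff.mp htn r).mp hr
    have h2' := (Subgroup.mem_normalizer_iff.mp (pow_mem htn 2) r).mp hr
    have e : (r * t) ^ 3 = r * (t * r * t⁻¹) * (t ^ 2 * r * (t ^ 2)⁻¹) * t ^ 3 := by
      simp only [pow_succ, pow_zero, one_mul]; group
    rw [e, ht3, mul_one]
    exact mul_mem (mul_mem hr h1) h2'
  set Hb := H.map π with hHb
  set Rb := R.map π with hRb
  have hRbc : ¬ 3 ∣ Nat.card Rb := fun h => by
    have h1 : 3 ∣ Nat.card R := h.trans (Subgroup.card_map_dvd _ _)
    exact (by norm_num : (3 : ℕ) ≠ 1) (Nat.eq_one_of_dvd_coprimes hR h1 dvd_rfl)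
  have hinvR : ∀ g ∈ Hb, g ^ 2 = 1 → g ∈ Rb := by
    rintro _ ⟨g, hg, rfl⟩ hg2
    refine ⟨g ^ 3, hcube g hg, ?_⟩
    rw [map_pow, pow_succ, hg2, one_mul]
  have hno : ∀ u v : ProjGenLinGroup (Fin 2) F, u ∈ Hb → v ∈ Hb → u ^ 2 = 1 → v ^ 2 = 1 → (u * v) ^ 3 = 1 →
      u * v = 1 := by
    intro u v hu hv hu2 hv2 h3'
    by_contra hne
    refine hRbc ?_
    rw [← orderOf_eq_prime h3' hne]
    exact Subgroup.orderOf_dvd_natCard _ (mul_mem (hinvR u hu hu2) (hinvR v hv hv2))
  -- the four group
  set A := ψ CfsgLib.Fusion.QuaternionSL23.sA with hA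
  set B := ψ CfsgLib.Fusion.QuaternionSL23.sB with hB
  have hAH : A ∈ H := hψH ⟨_, rfl⟩
  have hBH : B ∈ H := hψH ⟨_, rfl⟩
  have hA4 : A ^ 4 = 1 := by rw [hA, ← map_pow, CfsgLib.Fusion.QuaternionSL23.rel_std.a4, map_one]
  have hB2 : B ^ 2 = A ^ 2 := by rw [hA, hB, ← map_pow, ← map_pow, CfsgLib.Fusion.QuaternionSL23.rel_std.b2]
  have hBA : B * A = A⁻¹ * B := by
    rw [hA, hB, ← map_inv, ← map_mul, ← map_mul, CfsgLib.Fusion.QuaternionSL23.rel_std.ba]
  have hπA2 : π (A ^ 2) = 1 := toPGL_eq_one_of_sq h2 (by rw [← pow_add]; exact hA4)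
  have hu2 : (π A) ^ 2 = 1 := by rw [← map_pow]; exact hπA2
  have hv2 : (π B) ^ 2 = 1 := by rw [← map_pow, hB2]; exact hπA2
  have hcomm : π A * π B = π B * π A := by
    have h := congrArg π hBA
    rw [map_mul, map_mul, map_inv, inv_eq_of_mul_eq_one_right (show π A * π A = 1 by rw [← pow_two]; exact hu2)] at h
    exact h.symm
  have hker : ∀ x : SL(2, F), π x = 1 → x * x = 1 := fun x hx => by
    rcases sl_scalar_of_toPGL_one hx with rfl | rfl <;> simp
  have hψne : ∀ s : SL(2, ZMod 3), s * s ≠ 1 → π (ψ s) ≠ 1 := fun s hs h => hs (hψ (by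
    rw [map_mul, map_one]; exact hker _ h))
  have hu1 : π A ≠ 1 := hψne _ (by decide)
  have hv1 : π B ≠ 1 := hψne _ (by decide)
  have huv : π A ≠ π B := fun h =>
    hψne (CfsgLib.Fusion.QuaternionSL23.sA⁻¹ * CfsgLib.Fusion.QuaternionSL23.sB) (by decide) (by
      rw [map_mul, map_inv, map_mul, map_inv]
      exact inv_mul_eq_one.mpr h)
  have huH : π A ∈ Hb := Subgroup.mem_map_of_mem π hAH
  have hvH : π B ∈ Hb := Subgroup.mem_map_of_mem π hBH
  -- the bound
  have hle : Nat.card Hb ≤ 12 := by
    rcases kind (F := F) 3 Hb with ⟨x, hx⟩ | ⟨c, hc, -⟩ | ⟨c, -, hcp, -, ⟨e⟩⟩ | ⟨⟨e⟩⟩ | ⟨⟨e⟩⟩ | ⟨⟨e⟩⟩ |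
      ⟨K, h, hK⟩ | ⟨K, hKodd, h, hK⟩
    · exfalso
      let u : MulAction.stabilizer (ProjGenLinGroup (Fin 2) F) x := ⟨π A, hx _ huH⟩
      let v : MulAction.stabilizer (ProjGenLinGroup (Fin 2) F) x := ⟨π B, hx _ hvH⟩
      have key : ∀ g : MulAction.stabilizer (ProjGenLinGroup (Fin 2) F) x, (g : ProjGenLinGroup (Fin 2) F) ≠ 1 →
          (g : ProjGenLinGroup (Fin 2) F) ^ 2 = 1 → multiAt x g = -1 := by
        intro g hg1 hg2
        have h1 : (multiAt x g) ^ 2 = 1 := by
          rw [← map_pow, show g ^ 2 = 1 from Subtype.ext hg2, map_one]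
        rcases eq_or_ne (multiAt x g) 1 with h' | h'
        · rw [multiAt_eq_one_iff 3] at h'
          exact absurd (by rw [pow_succ, hg2, one_mul] at h'; exact h') hg1
        · refine Units.ext ?_
          have h'' : ((multiAt x g : Fˣ) : F) ^ 2 = 1 := by rw [← Units.val_pow_eq_pow_val, h1, Units.val_one]
          rcases sq_eq_one_iff.mp h'' with h3' | h3'
          · exact absurd (Units.ext h3') h'
          · rw [h3', Units.val_neg, Units.val_one]
      have huv' : multiAt x (u * v) = 1 := by rw [map_mul, key u hu1 hu2, key v hv1 hv2]; simp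
      rw [multiAt_eq_one_iff 3] at huv'
      change (π A * π B) ^ 3 = 1 at huv'
      have h4 : π A * π B = 1 := hno _ _ huH hvH hu2 hv2 huv'
      exact huv (mul_left_cancel (h4.trans (by rw [← pow_two]; exact hu2.symm))).symm
    · exfalso
      haveI : IsCyclic Hb := hc ▸ (Subgroup.isCyclic_zpowers c)
      letI := Fintype.ofFinite Hb
      have := IsCyclic.card_pow_eq_one_le (α := Hb) (n := 2) two_pos
      have hcard : ({1, ⟨π A, huH⟩, ⟨π B, hvH⟩} : Finset Hb).card ≤ 2 := by
        refine le_trans (Finset.card_le_card fun y hy => ?_) this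
        simp only [Finset.mem_insert, Finset.mem_singleton] at hy
        simp only [Finset.mem_filter, Finset.mem_univ, true_and]
        rcases hy with rfl | rfl | rfl
        · simp
        · exact Subtype.ext hu2
        · exact Subtype.ext hv2
      rw [Finset.card_eq_three.mpr ⟨1, ⟨π A, huH⟩, ⟨π B, hvH⟩, fun h => hu1 (congrArg Subtype.val h).symm,
        fun h => hv1 (congrArg Subtype.val h).symm, fun h => huv (congrArg Subtype.val h), rfl⟩] at hcard
      omega
    · exfalso
      have h3o : 3 ∣ Nat.card Hb := by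
        have : orderOf (π a) = 3 := orderOf_eq_prime (by rw [← map_pow, hap1, map_one]) (fun h => ha1 (by
          rcases sl_scalar_of_toPGL_one h with h' | h'
          · exact h'
          · have h'' := hap1
            rw [h'] at h''
            exfalso
            apply h2
            have := congrArg (fun g : SL(2, F) => (g : Matrix (Fin 2) (Fin 2) F) 0 0) h''
            simp [pow_succ] at this
            linear_combination -this))
        rw [← this]
        exact Subgroup.orderOf_dvd_natCard _ (Subgroup.mem_map_of_mem π (Subgroup.mem_sup_right (Subgroup.mem_zpowers a)))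
      rw [Nat.card_congr e.toEquiv, DihedralGroup.nat_card] at h3o
      exact hcp ((Nat.Prime.dvd_mul Nat.prime_three).mp h3o |>.resolve_left (by norm_num))
    · rw [Nat.card_congr e.toEquiv, nat_card_alternatingGroup, Nat.card_fin]; decide
    · exfalso
      have h1 := hno (e.symm (Equiv.swap 0 1)) (e.symm (Equiv.swap 1 2)) (Subtype.mem _) (Subtype.mem _)
        (by rw [← Subgroup.coe_pow, ← map_pow, show (Equiv.swap (0 : Fin 4) 1) ^ 2 = 1 by decide, map_one]; rfl)
        (by rw [← Subgroup.coe_pow, ← map_pow, show (Equiv.swap (1 : Fin 4) 2) ^ 2 = 1 by decide, map_one]; rfl)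
        (by rw [← Subgroup.coe_mul, ← Subgroup.coe_pow, ← map_mul, ← map_pow,
          show (Equiv.swap (0 : Fin 4) 1 * Equiv.swap 1 2) ^ 3 = 1 by decide, map_one]; rfl)
      rw [← Subgroup.coe_mul, ← map_mul, OneMemClass.coe_eq_one, map_eq_one_iff _ e.symm.injective] at h1
      exact absurd h1 (by decide)
    · exfalso
      let s : alternatingGroup (Fin 5) := ⟨Equiv.swap 0 1 * Equiv.swap 2 3, by
        rw [Equiv.Perm.mem_alternatingGroup]; decide⟩
      let t : alternatingGroup (Fin 5) := ⟨Equiv.swap 0 1 * Equiv.swap 3 4, by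
        rw [Equiv.Perm.mem_alternatingGroup]; decide⟩
      have h1 := hno (e.symm s) (e.symm t) (Subtype.mem _) (Subtype.mem _)
        (by rw [← Subgroup.coe_pow, ← map_pow, show s ^ 2 = 1 by decide, map_one]; rfl)
        (by rw [← Subgroup.coe_pow, ← map_pow, show t ^ 2 = 1 by decide, map_one]; rfl)
        (by rw [← Subgroup.coe_mul, ← Subgroup.coe_pow, ← map_mul, ← map_pow,
          show (s * t) ^ 3 = 1 by decide, map_one]; rfl)
      rw [← Subgroup.coe_mul, ← map_mul, OneMemClass.coe_eq_one, map_eq_one_iff _ e.symm.injective] at h1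
      exact absurd h1 (by decide)
    · exfalso
      let f : GL (Fin 2) K →* ProjGenLinGroup (Fin 2) F :=
        (MulAut.conj h).symm.toMonoidHom.comp ((ProjGenLinGroup.map (n := Fin 2) K.subtype).comp ProjGenLinGroup.mk)
      have hf : ∀ g, f g ∈ Hb := fun g => by
        obtain ⟨y, hy, hye⟩ := hK.symm.le ⟨ProjGenLinGroup.mk g, rfl⟩
        show (MulAut.conj h).symm (ProjGenLinGroup.map (n := Fin 2) K.subtype (ProjGenLinGroup.mk g)) ∈ Hb
        rw [← hye]
        show (MulAut.conj h).symm (MulAut.conj h y) ∈ Hb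
        rwa [MulEquiv.symm_apply_apply]
      let u := GeneralLinearGroup.mkOfDetNeZero (!![-1, 0; 0, 1] : Matrix (Fin 2) (Fin 2) K) (by simp [det_fin_two])
      let v := GeneralLinearGroup.mkOfDetNeZero (!![-1, -1; 0, 1] : Matrix (Fin 2) (Fin 2) K) (by simp [det_fin_two])
      haveI : CharP K 3 := charP_of_injective_ringHom (RingHom.injective K.subtype) 3 |> fun _ =>
        (K.subtype.charP_iff K.subtype.injective 3).mpr inferInstance
      have h30 : (3 : K) = 0 := by exact_mod_cast CharP.cast_eq_zero K 3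
      have e1 : u * u = 1 := Units.ext (by
        simp [u, GeneralLinearGroup.mkOfDetNeZero, Matrix.one_fin_two])
      have e2 : v * v = 1 := Units.ext (by
        simp [v, GeneralLinearGroup.mkOfDetNeZero, Matrix.one_fin_two])
      have e3 : (u * v) ^ 3 = 1 := Units.ext (by
        simp [u, v, GeneralLinearGroup.mkOfDetNeZero, Matrix.one_fin_two, pow_succ]
        linear_combination h30)
      have h1 := hno (f u) (f v) (hf u) (hf v) (by rw [← map_pow, pow_two, e1, map_one])
        (by rw [← map_pow, pow_two, e2, map_one]) (by rw [← map_mul, ← map_pow, e3, map_one])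
      rw [← map_mul] at h1
      replace h1 : ProjGenLinGroup.map (n := Fin 2) K.subtype (ProjGenLinGroup.mk (u * v)) = 1 :=
        (map_eq_one_iff _ (MulAut.conj h).symm.injective).mp h1
      rw [map_eq_one_iff _ (map_injective_subfield K), ProjGenLinGroup.mk_eq_one] at h1
      obtain ⟨r, hr⟩ := GeneralLinearGroup.mem_center_iff_val_mem_range_scalar.mp h1
      have := congrFun (congrFun hr 0) 1
      simp [u, v, GeneralLinearGroup.mkOfDetNeZero] at this
    · let f : SL(2, K) →* ProjGenLinGroup (Fin 2) F :=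
        (MulAut.conj h).symm.toMonoidHom.comp ((ProjGenLinGroup.map (n := Fin 2) K.subtype).comp
          SpecialLinearGroup.toPGL)
      have hf : ∀ g, f g ∈ Hb := fun g => by
        obtain ⟨y, hy, hye⟩ := hK.symm.le ⟨g, rfl⟩
        show (MulAut.conj h).symm _ ∈ Hb
        have hye' : MulAut.conj h y = (ProjGenLinGroup.map (n := Fin 2) K.subtype) (SpecialLinearGroup.toPGL g) := hye
        rw [show ((ProjGenLinGroup.map (n := Fin 2) K.subtype).comp SpecialLinearGroup.toPGL) g =
          MulAut.conj h y from hye'.symm]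
        rwa [MulEquiv.symm_apply_apply]
      haveI : CharP K 3 := (K.subtype.charP_iff K.subtype.injective 3).mpr inferInstance
      by_cases hK3 : Nat.card K ≤ 3
      · have h1 : Nat.card Hb = Nat.card (Hb.map (MulAut.conj h).toMonoidHom) :=
          (Subgroup.card_map_of_injective (MulAut.conj h).injective).symm
        rw [hK, MonoidHom.range_comp] at h1
        have h5 := card_range_toPGL K
        have hd : Nat.gcd 2 (Nat.card K - 1) = 2 := Nat.gcd_eq_left (by omega)
        rw [hd] at h5
        rw [h1, Subgroup.card_map_of_injective (map_injective_subfield K)]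
        have hpos := Nat.card_pos (α := K)
        interval_cases hq : Nat.card K <;> simp_all <;> omega
      · exfalso
        obtain ⟨l, hl0, hl2⟩ : ∃ l : K, l ≠ 0 ∧ l * l ≠ 1 := by
          by_contra hc
          push Not at hc
          haveI := Fintype.ofFinite K
          refine hK3 ?_
          rw [Nat.card_eq_fintype_card]
          refine le_trans (Finset.card_le_card (s := Finset.univ) (t := ({0, 1, -1} : Finset K)) fun y _ => ?_)
            Finset.card_le_three
          simp only [Finset.mem_insert, Finset.mem_singleton]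
          by_cases hy : y = 0
          · exact Or.inl hy
          · exact Or.inr (mul_self_eq_one_iff.mp (hc y hy))
        have hne : l⁻¹ - l ≠ 0 := fun h' => hl2 (by
          have := sub_eq_zero.mp h'
          calc l * l = l⁻¹ * l := by rw [this]
            _ = 1 := inv_mul_cancel₀ hl0)
        let s : SL(2, K) := ⟨!![l, 0; 0, l⁻¹], by simp [det_fin_two, hl0]⟩
        let T : K → SL(2, K) := fun c => ⟨!![1, c; 0, 1], by simp [det_fin_two]⟩
        set c := l * (l⁻¹ - l)⁻¹ with hc
        have hsv : (s : Matrix (Fin 2) (Fin 2) K) = !![l, 0; 0, l⁻¹] := rfl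
        have hTv : ∀ b, (T b : Matrix (Fin 2) (Fin 2) K) = !![1, b; 0, 1] := fun _ => rfl
        have hcc : c * (l⁻¹ - l) = l := by rw [hc, mul_assoc, inv_mul_cancel₀ hne, mul_one]
        have e : T c * s = s * T 1 * T c := by
          apply Subtype.ext
          rw [Matrix.SpecialLinearGroup.coe_mul, Matrix.SpecialLinearGroup.coe_mul,
            Matrix.SpecialLinearGroup.coe_mul, hsv, hTv, hTv]
          have : c * l⁻¹ = l * c + l := by linear_combination hcc
          simp [Matrix.mul_fin_two, this]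
        have hsR : f s ∈ Rb := by
          have hcop : (orderOf (f s)).Coprime 3 := by
            haveI := Fintype.ofFinite K
            refine Nat.Coprime.coprime_dvd_left (orderOf_map_dvd f s) ?_
            have hs : s ^ (Fintype.card K - 1) = 1 := by
              apply Subtype.ext
              have : ∀ n : ℕ, ((s ^ n : SL(2, K)) : Matrix (Fin 2) (Fin 2) K) = !![l ^ n, 0; 0, l⁻¹ ^ n] := by
                intro n
                induction n with
                | zero => simp [Matrix.one_fin_two]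
                | succ n ih =>
                  rw [pow_succ]
                  erw [Matrix.SpecialLinearGroup.coe_mul]
                  rw [ih]
                  simp [s, pow_succ]
              rw [this, inv_pow, FiniteField.pow_card_sub_one_eq_one l hl0, inv_one]
              simp [Matrix.one_fin_two]
            refine Nat.Coprime.coprime_dvd_left (orderOf_dvd_of_pow_eq_one hs) ?_
            have h30 : 3 ∣ Fintype.card K := by
              rw [← CharP.cast_eq_zero_iff K 3]; exact Nat.cast_card_eq_zero K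
            have := Fintype.card_pos (α := K)
            refine (Nat.Prime.coprime_iff_not_dvd Nat.prime_three).mpr (fun h' => ?_) |>.symm
            omega
          obtain ⟨y, hy, hye⟩ := hf s
          obtain ⟨j, hj⟩ := exists_pow_eq_self_of_coprime hcop.symm
          rw [← hj, ← hye, ← map_pow, ← map_pow]
          exact Subgroup.mem_map_of_mem π (pow_mem (hcube y hy) j)
        have hTsR : f (s * T 1) ∈ Rb := by
          obtain ⟨y, hy, hye⟩ := hf (T c)
          obtain ⟨z, hz, hze⟩ := hsR
          rw [show s * T 1 = T c * s * (T c)⁻¹ by rw [e, mul_inv_cancel_right], map_mul, map_mul, map_inv, ← hye,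
            ← hze, ← map_inv, ← map_mul, ← map_mul]
          exact Subgroup.mem_map_of_mem π ((Subgroup.mem_normalizer_iff.mp (hnH hy) z).mp hz)
        have hT : f (T 1) ∈ Rb := by
          have := mul_mem (inv_mem hsR) hTsR
          rwa [map_mul, inv_mul_cancel_left] at this
        apply hRbc
        have h30 : (3 : K) = 0 := by exact_mod_cast CharP.cast_eq_zero K 3
        rw [← orderOf_eq_prime (x := f (T 1)) (p := 3) (by
          rw [← map_pow, show T 1 ^ 3 = 1 from Subtype.ext (by
            rw [pow_succ, pow_succ, pow_one, Matrix.SpecialLinearGroup.coe_mul, Matrix.SpecialLinearGroup.coe_mul,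
              hTv, Matrix.SpecialLinearGroup.coe_one]
            simp [Matrix.one_fin_two, Matrix.mul_fin_two]
            linear_combination h30), map_one]) ?_]
        · exact Subgroup.orderOf_dvd_natCard _ hT
        · intro h'
          replace h' : ProjGenLinGroup.map (n := Fin 2) K.subtype (SpecialLinearGroup.toPGL (T 1)) = 1 :=
            (map_eq_one_iff _ (MulAut.conj h).symm.injective).mp h'
          rw [map_eq_one_iff _ (map_injective_subfield K)] at h'
          rcases sl_scalar_of_toPGL_one h' with h'' | h'' <;>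
            have := congrArg (fun g : SL(2, K) => (g : Matrix (Fin 2) (Fin 2) K) 0 1) h'' <;> simp [T] at this
  have hH24 : Nat.card H ≤ 24 := by
    have hc : (π.subgroupMap H).ker.index = Nat.card Hb := by
      rw [Subgroup.index_ker, MonoidHom.range_eq_top.mpr (π.subgroupMap_surjective H), Subgroup.card_top]
    have hk : Nat.card (π.subgroupMap H).ker ≤ 2 := by
      haveI := Fintype.ofFinite (π.subgroupMap H).ker
      rw [Nat.card_eq_fintype_card]
      refine le_trans (Fintype.card_le_of_injective (fun g => ((g : H) : SL(2, F)) = 1) fun g g' hgg => ?_)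
        (by simp)
      have hg := sl_scalar_of_toPGL_one (show π ((g : H) : SL(2, F)) = 1 from congrArg Subtype.val g.2)
      have hg' := sl_scalar_of_toPGL_one (show π ((g' : H) : SL(2, F)) = 1 from congrArg Subtype.val g'.2)
      refine Subtype.ext (Subtype.ext ?_)
      simp only [eq_iff_iff] at hgg
      rcases hg with h' | h' <;> rcases hg' with h'' | h''
      · exact h'.trans h''.symm
      · exact h'.trans (hgg.mp h').symm
      · exact (hgg.mpr h'').trans h''.symm
      · exact h'.trans h''.symm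
    rw [← (π.subgroupMap H).ker.card_mul_index, hc]
    exact le_trans (Nat.mul_le_mul hk hle) (by norm_num)
  have hSL : Nat.card SL(2, ZMod 3) = 24 := by
    rw [← Nat.card_congr (Equiv.ofBijective _
      ⟨CfsgLib.Fusion.QuaternionSL23.word_std_injective, CfsgLib.Fusion.QuaternionSL23.word_std_surjective⟩)]
    simp
  have hrange : ψ.range = H := by
    refine Subgroup.eq_of_le_of_card_ge hψH ?_
    rw [← Nat.card_congr (MonoidHom.ofInjective hψ).toEquiv, hSL]
    exact hH24
  have eH : H ≃* SL(2, ZMod 3) := (MulEquiv.subgroupCongr hrange.symm).trans (MonoidHom.ofInjective hψ).symm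
  refine ⟨?_, ⟨eH⟩⟩
  have hR8 : Nat.card R = 8 := by
    have hdisj : R ⊓ Subgroup.zpowers a = ⊥ := by
      refine (Subgroup.disjoint_of_coprime_natCard ?_).eq_bot
      rw [haz]; exact hR
    have h1 := CfsgLib.Coprime.card_sup_of_le_normalizer (Subgroup.zpowers_le.mpr haR) (disjoint_iff.mpr hdisj)
    rw [← hH, Nat.card_congr eH.toEquiv, hSL, haz] at h1
    omega
  have hinR : ∀ g ∈ H, g ^ 4 = 1 → g ∈ R := by
    intro g hg h4
    have : g = g ^ 4 * (g ^ 3)⁻¹ := by group
    rw [this, h4, one_mul]
    exact inv_mem (hcube g hg)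
  have hAR : A ∈ R := hinR A hAH hA4
  have hBR : B ∈ R := hinR B hBH (by rw [show (4 : ℕ) = 2 * 2 from rfl, pow_mul, hB2, ← pow_mul]; exact hA4)
  have hAord : orderOf (⟨A, hAR⟩ : R) = 2 * 2 := by
    rw [← Subgroup.orderOf_coe]
    show orderOf (ψ _) = _
    rw [orderOf_injective ψ hψ, orderOf_eq_iff (by norm_num)]
    refine ⟨CfsgLib.Fusion.QuaternionSL23.rel_std.a4, fun m hm hm0 => ?_⟩
    interval_cases m <;> decide
  refine CfsgLib.TwoGroups.CyclicMax.quaternion_iso (a := ⟨A, hAR⟩) (b := ⟨B, hBR⟩) (by norm_num) hAord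
    hR8 ?_ (Subtype.ext (by rw [Subgroup.coe_mul, ← pow_two, hB2]; rfl)) (Subtype.ext (by
      show B * A * B⁻¹ = A⁻¹
      rw [hBA, mul_inv_cancel_right]))
  intro hmem'
  obtain ⟨k, hk⟩ := Subgroup.mem_zpowers_iff.mp hmem'
  have h1 : A ^ k = B := congrArg Subtype.val hk
  have h2' : CfsgLib.Fusion.QuaternionSL23.sA ^ k = CfsgLib.Fusion.QuaternionSL23.sB := hψ (by rw [map_zpow]; exact h1)
  have h3' : Commute CfsgLib.Fusion.QuaternionSL23.sA CfsgLib.Fusion.QuaternionSL23.sB := h2' ▸ Commute.self_zpow _ k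
  exact absurd h3'.eq (by decide)
end Cfsg.Agent.S3740
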