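import Cfsg.Statements.S3743
import Cfsg.Agent.Lib.Components.GenFitting
-- import your own Cfsg.Agent.* helpers here

set_option autoImplicit false
open Cfsg

namespace Cfsg.Agent.S3743

lemma mem_of_dvd_card_piCore (π : Set ℕ) (H : Type*) [Group H] [Finite H] (q : ℕ) (hq : q.Prime)
    (hd : q ∣ Nat.card (Cfsg.piCore π H)) : q ∈ π := by
    by_contra hn
    have hc : (Nat.card (Cfsg.piCore π H)).Coprime q :=
      CfsgLib.Solvable.Cores.coprime_card_sSup q _ (fun _ h => h.1)
        (fun N h => (hq.coprime_iff_not_dvd.2 fun hd' => hn (h.2 q hq hd')).symm)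
    exact (hq.coprime_iff_not_dvd.1 hc.symm) hd

open CfsgLib.Components in
lemma le_piCore {G : Type*} [Group G] [Finite G] (π : Set ℕ) {K : Subgroup G} (hK : K.IsSubnormal) :
    (Cfsg.piCore π ↥K).map K.subtype ≤ Cfsg.piCore π G := by
  induction hK with
  | top =>
    refine le_sSup ⟨?_, fun q hq hd => mem_of_dvd_card_piCore π (⊤ : Subgroup G) q hq ?_⟩
    · exact (Subgroup.Normal.map inferInstance _ fun x => ⟨⟨x, Subgroup.mem_top x⟩, rfl⟩)
    · rwa [Subgroup.card_map_of_injective (Subgroup.subtype_injective _)] at hd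
  | step K K' hle _ hn ih =>
    refine le_trans ?_ ih
    have hchar : (Cfsg.piCore π ↥K).Characteristic := Subgroup.characteristic_iff_map_le.2 fun φ => by
      refine le_sSup ⟨(Cfsg.piCore_normal π _).map _ φ.surjective, fun q hq hd => mem_of_dvd_card_piCore π ↥K q hq ?_⟩
      rwa [Subgroup.card_map_of_injective φ.injective] at hd
    set F := (Cfsg.piCore π ↥K).map K.subtype with hF
    have hFK' : F ≤ K' := (Subgroup.map_subtype_le _).trans hle
    have hnorm : (F.subgroupOf K').Normal := by
      rw [Subgroup.normal_subgroupOf_iff_le_normalizer hFK']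
      intro g hg
      exact map_subtype_normal_of_characteristic
        ((Subgroup.normal_subgroupOf_iff_le_normalizer hle).mp hn hg)
    have hpiF : ∀ q : ℕ, q.Prime → q ∣ Nat.card (F.subgroupOf K') → q ∈ π := fun q hq hd => mem_of_dvd_card_piCore π ↥K q hq (by
      rw [Nat.card_congr (Subgroup.subgroupOfEquivOfLe hFK').toEquiv, hF,
        Subgroup.card_map_of_injective K.subtype_injective] at hd
      exact hd)
    have h2 : (F.subgroupOf K').map K'.subtype ≤ (Cfsg.piCore π ↥K').map K'.subtype :=
      Subgroup.map_mono (le_sSup ⟨hnorm, hpiF⟩)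
    rwa [Subgroup.map_subgroupOf_eq_of_le hFK'] at h2


/-- In a finite group G, every subnormal nilpotent subgroup lies in the Fitting subgroup F(G), and, for a set of primes π, every subnormal subgroup all of whose prime divisors lie in π lies in O_π(G). -/
theorem result {G : Type*} [Group G] [Finite G] (A : Subgroup G) (hA : A.IsSubnormal) : (Group.IsNilpotent A → A ≤ Cfsg.fittingSubgroup G) ∧ ∀ π : Set ℕ, (∀ p : ℕ, p.Prime → p ∣ Nat.card A → p ∈ π) → A ≤ Cfsg.piCore π G := by
  refine ⟨CfsgLib.Components.le_fittingSubgroup_of_subnormal hA, fun π h => ?_⟩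
  intro a ha
  refine le_piCore π hA ⟨⟨a, ha⟩, le_sSup (s := {N : Subgroup A | N.Normal ∧ ∀ p : ℕ, p.Prime → p ∣ Nat.card N → p ∈ π})
    ⟨(inferInstance : (⊤ : Subgroup A).Normal), fun q hq hd => h q hq (by rwa [Subgroup.card_top] at hd)⟩ (Subgroup.mem_top _), rfl⟩

end Cfsg.Agent.S3743
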