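import Cfsg.Statements.S3744
import Cfsg.Agent.Lib.Fusion.PSolvable
import Cfsg.Agent.Lib.Coprime.SchurZassenhaus
import Cfsg.Agent.Lib.Solvable.Basic
-- import your own Cfsg.Agent.* helpers here

set_option autoImplicit false
open Cfsg

namespace Cfsg.Agent.S3744

universe u

/-- Complements exist and contain a conjugate of every subgroup of order prime to `p`. -/
theorem aux : ∀ (n : ℕ) {G : Type u} [Group G] [Finite G] {p : ℕ} [Fact p.Prime], Nat.card G ≤ n →
    Cfsg.IsPSolvable p G → ∃ H : Subgroup G, (Nat.card H).Coprime p ∧ (∃ k : ℕ, H.index = p ^ k) ∧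
      ∀ U : Subgroup G, (Nat.card U).Coprime p → ∃ g : G, U.map (MulAut.conj g).toMonoidHom ≤ H := by
  intro n
  induction n with
  | zero => intro G _ _ p _ h; exact absurd h (Nat.card_pos (α := G)).not_ge
  | succ n ih =>
    intro G _ _ p _ hn hG
    have hp : p.Prime := Fact.out
    rcases subsingleton_or_nontrivial G with hs | hnt
    · refine ⟨⊤, ?_, ⟨0, by rw [Subgroup.index_top, pow_zero]⟩, fun U _ => ⟨1, le_top⟩⟩
      rw [Nat.card_unique]; exact Nat.coprime_one_left p
    obtain ⟨N, hN, hN0, hdich⟩ : ∃ N : Subgroup G, N.Normal ∧ N ≠ ⊥ ∧ (IsPGroup p N ∨ (Nat.card N).Coprime p) := by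
      rcases CfsgLib.Fusion.PSolvable.pCore_or_pPrimeCore_ne_bot hG with h | h
      · exact ⟨_, inferInstance, h, Or.inl (CfsgLib.Solvable.Cores.isPGroup_pCore p)⟩
      · exact ⟨_, inferInstance, h, Or.inr (CfsgLib.Solvable.Cores.coprime_card_pPrimeCore p)⟩
    let f := QuotientGroup.mk' N
    have hf : Function.Surjective f := QuotientGroup.mk'_surjective N
    have hlt : Nat.card (G ⧸ N) ≤ n := by
      have := CfsgLib.Solvable.Basic.card_quotient_lt N hN0; omega
    obtain ⟨Hb, hHb, ⟨k, hk⟩, hUb⟩ := ih hlt (CfsgLib.Fusion.PSolvable.psolvable_quotient hG N)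
    set L := Hb.comap f with hL
    have hNL : N ≤ L := fun x hx => by
      rw [hL, Subgroup.mem_comap, show f x = 1 from (QuotientGroup.eq_one_iff x).2 hx]; exact one_mem _
    have hLidx : L.index = p ^ k := by rw [hL, Subgroup.index_comap_of_surjective _ hf, hk]
    have hLU : ∀ U : Subgroup G, (Nat.card U).Coprime p → ∃ g : G, U.map (MulAut.conj g).toMonoidHom ≤ L := by
      intro U hU
      obtain ⟨g, hg⟩ := hUb (U.map f) (hU.coprime_dvd_left (Subgroup.card_map_dvd U f))
      obtain ⟨g, rfl⟩ := hf g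
      refine ⟨g, CfsgLib.Coprime.conj_map_le_iff.2 fun u hu => ?_⟩
      rw [hL, Subgroup.mem_comap, map_mul, map_mul, map_inv]
      exact CfsgLib.Coprime.conj_map_le_iff.1 hg (f u) ⟨u, hu, rfl⟩
    rcases hdich with hNp | hNp
    · -- split off the normal `p`-subgroup
      have hNsol : Group.IsSolvable N := by
        have : Group.IsNilpotent N := hNp.isNilpotent
        infer_instance
      obtain ⟨j, hj⟩ := IsPGroup.iff_card.1 hNp
      have hLcard : Nat.card L = Nat.card Hb * Nat.card N := by rw [hL, CfsgLib.Solvable.Basic.card_comap_mk]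
      have hidxN : (N.subgroupOf L).index = Nat.card Hb := by
        have h1 := (N.subgroupOf L).card_mul_index
        rw [Nat.card_congr (Subgroup.subgroupOfEquivOfLe hNL).toEquiv, hLcard, mul_comm (Nat.card Hb)] at h1
        exact Nat.eq_of_mul_eq_mul_left Nat.card_pos h1
      obtain ⟨K₀, hK₀⟩ := Subgroup.exists_right_complement'_of_coprime (N := N.subgroupOf L) (by
        rw [hidxN, Nat.card_congr (Subgroup.subgroupOfEquivOfLe hNL).toEquiv, hj]
        exact (hHb.symm).pow_left j)
      set K := K₀.map L.subtype with hK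
      have hKL : K ≤ L := Subgroup.map_subtype_le _
      have hKcard : Nat.card K = Nat.card Hb := by
        rw [hK, Subgroup.card_map_of_injective L.subtype_injective]
        have h1 := hK₀.card_mul_card
        rw [Nat.card_congr (Subgroup.subgroupOfEquivOfLe hNL).toEquiv, hLcard, mul_comm (Nat.card Hb)] at h1
        exact Nat.eq_of_mul_eq_mul_left Nat.card_pos h1
      have hNK : ∀ x ∈ L, ∃ a ∈ N, ∃ b ∈ K, a * b = x := fun x hx => by
        obtain ⟨⟨⟨a, ha⟩, ⟨b, hb⟩⟩, hab⟩ := (hK₀ : Function.Bijective _).2 ⟨x, hx⟩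
        exact ⟨a, ha, b, ⟨b, hb, rfl⟩, congrArg Subtype.val hab⟩
      refine ⟨K, hKcard ▸ hHb, ⟨k + j, ?_⟩, fun U hU => ?_⟩
      · have h1 : K.relIndex L = Nat.card N := Nat.eq_of_mul_eq_mul_left (Nat.card_pos (α := K))
          (by rw [CfsgLib.Coprime.card_mul_relIndex' hKL, hLcard, hKcard])
        rw [← Subgroup.relIndex_mul_index hKL, h1, hj, hLidx, ← pow_add, add_comm]
      · obtain ⟨g, hg⟩ := hLU U hU
        set V := U.map (MulAut.conj g).toMonoidHom with hV
        have hVcard : (Nat.card V).Coprime p := by rw [hV, CfsgLib.Coprime.card_conj_map]; exact hU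
        set W := K ⊓ (N ⊔ V) with hW
        have hdisj : ∀ S : Subgroup G, (Nat.card S).Coprime p → Disjoint N S := fun S hS => by
          rw [disjoint_iff, ← Subgroup.card_eq_one]
          exact Nat.eq_one_of_dvd_coprimes (hj ▸ hS.symm.pow_left j)
            (Subgroup.card_dvd_of_le inf_le_left) (Subgroup.card_dvd_of_le inf_le_right)
        have hWcop : (Nat.card W).Coprime p :=
          (hKcard ▸ hHb).coprime_dvd_left (Subgroup.card_dvd_of_le inf_le_left)
        have hcov : N ⊔ W = N ⊔ V := by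
          refine le_antisymm (sup_le le_sup_left inf_le_right) fun x hx => ?_
          obtain ⟨a, ha, b, hb, rfl⟩ := hNK x (sup_le hNL hg hx)
          exact Subgroup.mul_mem_sup ha ⟨hb, by simpa using (N ⊔ V).mul_mem ((N ⊔ V).inv_mem (Subgroup.mem_sup_left ha)) hx⟩
        have hcardVW : Nat.card V = Nat.card W := by
          have h1 := CfsgLib.Coprime.card_sup_of_le_normalizer (Subgroup.le_normalizer_of_normal (H := N) (K := W)) (hdisj W hWcop)
          rw [hcov, CfsgLib.Coprime.card_sup_of_le_normalizer (Subgroup.le_normalizer_of_normal (H := N)) (hdisj V hVcard)] at h1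
          exact Nat.eq_of_mul_eq_mul_left Nat.card_pos h1
        obtain ⟨m, -, hmW⟩ := CfsgLib.Coprime.exists_conj_eq (N := N) (H := V) (K := W) (Or.inl hNsol)
          Subgroup.le_normalizer_of_normal Subgroup.le_normalizer_of_normal (le_sup_right.trans hcov.ge) hcardVW
          (hj ▸ hVcard.symm.pow_left j)
        refine ⟨m * g, ?_⟩
        rw [← CfsgLib.Coprime.conj_map_map, ← hV, hmW]
        exact inf_le_left
    · refine ⟨L, ?_, ⟨k, hLidx⟩, hLU⟩
      rw [hL, CfsgLib.Solvable.Basic.card_comap_mk]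
      exact hHb.mul_left hNp


/-- A finite p-soluble group has a p-complement, all its p-complements are conjugate, and every subgroup of order prime to p lies in one of them. Here a p-complement is a subgroup of order prime to p whose index is a power of p. -/
theorem result {G : Type*} [Group G] [Finite G] {p : ℕ} [Fact p.Prime] (hG : Cfsg.IsPSolvable p G) : (∃ H : Subgroup G, (Nat.card H).Coprime p ∧ ∃ n : ℕ, H.index = p ^ n) ∧ (∀ H₁ H₂ : Subgroup G, (Nat.card H₁).Coprime p → (∃ n : ℕ, H₁.index = p ^ n) → (Nat.card H₂).Coprime p → (∃ n : ℕ, H₂.index = p ^ n) → ∃ g : G, H₂ = H₁.map (MulAut.conj g).toMonoidHom) ∧ (∀ U : Subgroup G, (Nat.card U).Coprime p → ∃ H : Subgroup G, (Nat.card H).Coprime p ∧ (∃ n : ℕ, H.index = p ^ n) ∧ ∃ g : G, U.map (MulAut.conj g).toMonoidHom ≤ H) := by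
  obtain ⟨H, hH, hidx, hU⟩ := aux (Nat.card G) le_rfl hG
  have hp : p.Prime := Fact.out
  have hcard : ∀ K : Subgroup G, (Nat.card K).Coprime p → (∃ n : ℕ, K.index = p ^ n) →
      Nat.card K = Nat.card H := by
    intro K hK hKi
    obtain ⟨a, ha⟩ := hidx
    obtain ⟨b, hb⟩ := hKi
    have h1 := H.card_mul_index
    rw [← K.card_mul_index, ha, hb] at h1
    exact Nat.dvd_antisymm ((hK.pow_right a).dvd_of_dvd_mul_right (h1 ▸ dvd_mul_right _ _))
      ((hH.pow_right b).dvd_of_dvd_mul_right (h1 ▸ dvd_mul_right _ _))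
  refine ⟨⟨H, hH, hidx⟩, fun H₁ H₂ c1 i1 c2 i2 => ?_, fun U hc => ⟨H, hH, hidx, hU U hc⟩⟩
  obtain ⟨g₁, hg₁⟩ := hU H₁ c1
  obtain ⟨g₂, hg₂⟩ := hU H₂ c2
  have e1 : H₁.map (MulAut.conj g₁).toMonoidHom = H :=
    Subgroup.eq_of_le_of_card_ge hg₁ (by rw [CfsgLib.Coprime.card_conj_map, hcard H₁ c1 i1])
  have e2 : H₂.map (MulAut.conj g₂).toMonoidHom = H :=
    Subgroup.eq_of_le_of_card_ge hg₂ (by rw [CfsgLib.Coprime.card_conj_map, hcard H₂ c2 i2])
  refine ⟨g₂⁻¹ * g₁, ?_⟩
  rw [← CfsgLib.Coprime.conj_map_map, e1, ← e2, CfsgLib.Coprime.conj_map_map, inv_mul_cancel,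
    CfsgLib.Coprime.conj_map_eq_self_of_mem_normalizer (one_mem _)]

end Cfsg.Agent.S3744
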