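import Cfsg.Statements.S3746
import Cfsg.Agent.Lib.Components.Basic

set_option autoImplicit false
open Cfsg

namespace Cfsg.Agent.S3746

/-- Let Z ≤ Z(G) be a central subgroup of a finite group G and E a subgroup of G containing Z whose image E/Z is a component of G/Z (subnormal and quasisimple). Then the derived subgroup [E, E] is a component of G. -/
theorem result {G : Type*} [Group G] [Finite G] (Z : Subgroup G) (hZ : Z ≤ Subgroup.center G) [Z.Normal] (E : Subgroup G) (hZE : Z ≤ E) (hE : Cfsg.IsComponent (E.map (QuotientGroup.mk' Z))) : Cfsg.IsComponent ⁅E, E⁆ := by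
  set π := QuotientGroup.mk' Z with hπ
  have hπs : Function.Surjective π := QuotientGroup.mk'_surjective _
  set E' := ⁅E, E⁆ with hE'
  have hE'E : E' ≤ E := Subgroup.commutator_le_self E
  have hmap : E'.map π = E.map π := by
    rw [hE', Subgroup.map_commutator]; exact CfsgLib.Components.IsComponent.commutator_self hE
  have hdec : ∀ e ∈ E, ∃ d ∈ E', ∃ z ∈ Z, e = d * z := by
    intro e he
    obtain ⟨d, hd, hde⟩ := hmap.ge (Subgroup.mem_map_of_mem π he)
    exact ⟨d, hd, d⁻¹ * e, QuotientGroup.eq.1 hde, by group⟩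
  have hcomm : ∀ d d' z z' : G, z ∈ Subgroup.center G → z' ∈ Subgroup.center G →
      d * z * (d' * z') * (d * z)⁻¹ * (d' * z')⁻¹ = d * d' * d⁻¹ * d'⁻¹ := by
    intro d d' z z' hz hz'
    have h1 : ∀ a, a * z = z * a := fun a => Subgroup.mem_center_iff.1 hz a
    have h2 : ∀ a, a * z' = z' * a := fun a => Subgroup.mem_center_iff.1 hz' a
    calc d * z * (d' * z') * (d * z)⁻¹ * (d' * z')⁻¹ = d * (z * (d' * z') * z⁻¹) * d⁻¹ * z'⁻¹ * d'⁻¹ := by group
      _ = d * (d' * z') * d⁻¹ * z'⁻¹ * d'⁻¹ := by rw [← h1 (d' * z'), mul_inv_cancel_right]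
      _ = d * d' * (z' * d⁻¹) * z'⁻¹ * d'⁻¹ := by group
      _ = d * d' * d⁻¹ * d'⁻¹ := by rw [← h2 d⁻¹]; group
  have hperf : ⁅E', E'⁆ = E' := by
    refine le_antisymm (Subgroup.commutator_le_self E') (Subgroup.commutator_le.2 fun a ha b hb => ?_)
    obtain ⟨d, hd, z, hz, rfl⟩ := hdec a ha
    obtain ⟨d', hd', z', hz', rfl⟩ := hdec b hb
    rw [commutatorElement_def, hcomm d d' z z' (hZ hz) (hZ hz'), ← commutatorElement_def]
    exact Subgroup.commutator_mem_commutator hd hd'
  have hp : Group.IsPerfect ↥E' := Subgroup.isPerfect_iff.2 hperf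
  refine ⟨?_, hp, ?_⟩
  · have h1 : E.IsSubnormal := by
      have : (E.map π).comap π = E := by
        rw [Subgroup.comap_map_eq, hπ, QuotientGroup.ker_mk', sup_eq_left.2 hZE]
      exact this ▸ hE.1.comap π
    refine Subgroup.IsSubnormal.step E' E hE'E h1 ?_
    rw [hE', ← Subgroup.map_subtype_commutator E, Subgroup.subgroupOf, Subgroup.comap_map_eq_self_of_injective E.subtype_injective]
    infer_instance
  · let f : ↥E' →* ↥(E.map π) :=
      (π.comp E'.subtype).codRestrict _ fun x => Subgroup.mem_map_of_mem π (hE'E x.2)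
    let g : ↥E' →* ↥(E.map π) ⧸ Subgroup.center ↥(E.map π) := (QuotientGroup.mk' _).comp f
    have hg : Function.Surjective g := by
      intro y
      obtain ⟨⟨y, hy⟩, rfl⟩ := QuotientGroup.mk'_surjective _ y
      obtain ⟨e, he, hey⟩ := hmap.ge hy
      exact ⟨⟨e, he⟩, congrArg (QuotientGroup.mk' _) (Subtype.ext hey)⟩
    have hker : g.ker = Subgroup.center ↥E' := by
      ext x
      rw [MonoidHom.mem_ker, MonoidHom.comp_apply, QuotientGroup.mk'_apply, QuotientGroup.eq_one_iff]
      constructor
      · intro hx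
        -- the commutator map with `x` kills the perfect group
        have hxc : ∀ a : ↥E', (x : G) * a * (x : G)⁻¹ * (a : G)⁻¹ ∈ Z := fun a => by
          rw [← QuotientGroup.eq_one_iff]
          show π _ = 1
          have h1 := congrArg Subtype.val (Subgroup.mem_center_iff.1 hx (f a))
          change π (a : G) * π (x : G) = π (x : G) * π (a : G) at h1
          simp only [map_mul, map_inv]
          rw [← h1, mul_inv_cancel_right, mul_inv_cancel]
        let φ : ↥E' →* ↥Z :=
          { toFun := fun a => ⟨(x : G) * a * (x : G)⁻¹ * (a : G)⁻¹, hxc a⟩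
            map_one' := Subtype.ext (by simp)
            map_mul' := fun a b => Subtype.ext (by
              have hz := Subgroup.mem_center_iff.1 (hZ (hxc b))
              show (x : G) * ((a : G) * b) * (x : G)⁻¹ * ((a : G) * b)⁻¹ =
                ((x : G) * a * (x : G)⁻¹ * (a : G)⁻¹) * ((x : G) * b * (x : G)⁻¹ * (b : G)⁻¹)
              calc _ = ((x : G) * a * (x : G)⁻¹) * ((x : G) * b * (x : G)⁻¹ * (b : G)⁻¹) * (a : G)⁻¹ := by group
                _ = _ := by rw [mul_assoc, ← hz (a : G)⁻¹, ← mul_assoc]) }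
        have hφ : φ.ker = ⊤ := by
          refine top_le_iff.1 ?_
          rw [← hp.commutator_eq_top, _root_.commutator_def, Subgroup.commutator_le]
          intro a _ b _
          rw [MonoidHom.mem_ker, map_commutatorElement, commutatorElement_eq_one_iff_commute]
          exact Subtype.ext (Subgroup.mem_center_iff.1 (hZ (φ b).2) _)
        refine Subgroup.mem_center_iff.2 fun a => Subtype.ext ?_
        have h1 : (x : G) * a * (x : G)⁻¹ * (a : G)⁻¹ = 1 := congrArg Subtype.val (hφ.ge (Subgroup.mem_top a) : φ a = 1)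
        exact (mul_inv_eq_iff_eq_mul.1 (mul_inv_eq_one.1 h1)).symm
      · intro hx
        refine Subgroup.mem_center_iff.2 fun y => ?_
        obtain ⟨y, hy⟩ := y
        obtain ⟨e, he, rfl⟩ := hmap.ge hy
        refine Subtype.ext ?_
        show π e * π (x : G) = π (x : G) * π e
        rw [← map_mul, ← map_mul]
        exact congrArg π (congrArg Subtype.val (Subgroup.mem_center_iff.1 hx ⟨e, he⟩))
    have := hE.2.2
    have e := (QuotientGroup.quotientMulEquivOfEq hker).symm.trans (QuotientGroup.quotientKerEquivOfSurjective g hg)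
    exact e.isSimpleGroup

end Cfsg.Agent.S3746
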