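import Cfsg.Statements.S3747
import Cfsg.Agent.Lib.Components.GenFitting
import Cfsg.Agent.Lib.Components.Basic

set_option autoImplicit false
open Cfsg

namespace Cfsg.Agent.S3747

open CfsgLib.Components

variable {G : Type*} [Group G]

/-- A product of centreless components has trivial centre. -/
lemma centerless_sup (S : Finset (Subgroup G))
    (hS : ∀ K ∈ S, Cfsg.IsComponent K ∧ Subgroup.center ↥K = ⊥) :
    Subgroup.centralizer (S.sup id : Subgroup G) ⊓ S.sup id = ⊥ := by
  classical
  induction S using Finset.induction_on with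
  | empty => simp
  | @insert K S hKS ih =>
    rw [Finset.sup_insert, id_eq]
    have hK := hS K (Finset.mem_insert_self K S)
    have ih' := ih fun L hL => hS L (Finset.mem_insert_of_mem hL)
    set T := S.sup id with hT
    have hTC : T ≤ Subgroup.centralizer (K : Set G) := Finset.sup_le fun L hL =>
      IsComponent.le_centralizer_of_ne (hS L (Finset.mem_insert_of_mem hL)).1 hK.1 fun e => hKS (e ▸ hL)
    have hTn : T ≤ Subgroup.normalizer (K : Set G) := hTC.trans (Subgroup.centralizer_le_normalizer _)
    refine eq_bot_iff.2 fun z hz => ?_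
    obtain ⟨hz1, hz2⟩ := Subgroup.mem_inf.1 hz
    obtain ⟨k, hk, t, ht, rfl⟩ : ∃ k ∈ K, ∃ t ∈ T, k * t = z := by
      have : z ∈ ((K ⊔ T : Subgroup G) : Set G) := hz2
      rwa [Subgroup.coe_mul_of_right_le_normalizer_left K T hTn, Set.mem_mul] at this
    have hk1 : k = 1 := by
      have hc : (⟨k, hk⟩ : K) ∈ Subgroup.center ↥K := Subgroup.mem_center_iff.2 fun a => Subtype.ext <| by
        have h1 : (a : G) * (k * t) = k * t * a := Subgroup.mem_centralizer_iff.1 hz1 a (Subgroup.mem_sup_left a.2)
        have h2 : (a : G) * t = t * a := Subgroup.mem_centralizer_iff.1 (hTC ht) a a.2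
        rw [← mul_assoc, mul_assoc k, ← h2, ← mul_assoc] at h1
        exact mul_right_cancel h1
      rw [hK.2, Subgroup.mem_bot] at hc
      exact congrArg Subtype.val hc
    subst hk1
    rw [one_mul] at hz1 ⊢
    have : t ∈ Subgroup.centralizer (T : Set G) ⊓ T :=
      ⟨Subgroup.mem_centralizer_iff.2 fun a ha => Subgroup.mem_centralizer_iff.1 hz1 a (Subgroup.mem_sup_right ha), ht⟩
    exact ih' ▸ this

/-- The normal closure of a centreless component is a minimal normal subgroup. -/
lemma minimal_normalClosure [Finite G] (K : Subgroup G) (hK : Cfsg.IsComponent K)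
    (hc : Subgroup.center ↥K = ⊥) :
    Subgroup.normalClosure (K : Set G) ≠ ⊥ ∧
      ∀ N : Subgroup G, N.Normal → N ≤ Subgroup.normalClosure (K : Set G) → N = ⊥ ∨ N = Subgroup.normalClosure (K : Set G) := by
  classical
  refine ⟨fun e => IsComponent.ne_bot hK (eq_bot_iff.2 (e ▸ Subgroup.subset_normalClosure)), fun N hN hle => ?_⟩
  have := hN
  by_cases hKN : K ≤ N
  · exact Or.inr (le_antisymm hle (Subgroup.normalClosure_le_normal hKN))
  left
  have hcomm : K ≤ Subgroup.centralizer (N : Set G) := Subgroup.commutator_eq_bot_iff_le_centralizer.1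
    ((IsComponent.le_or_commutator_eq_bot_of_normal hK N).resolve_left hKN)
  have _ := Fintype.ofFinite G
  let S : Finset (Subgroup G) := Finset.univ.image fun g : G => K.map (MulAut.conj g).toMonoidHom
  have hS : ∀ L ∈ S, Cfsg.IsComponent L ∧ Subgroup.center ↥L = ⊥ := by
    intro L hL
    obtain ⟨g, -, rfl⟩ := Finset.mem_image.1 hL
    refine ⟨IsComponent.conj hK g, ?_⟩
    rw [Subgroup.eq_bot_iff_forall]
    intro z hz
    let e := (MulAut.conj g).subgroupMap K
    have h1 : e.symm z ∈ Subgroup.center ↥K := Subgroup.mem_center_iff.2 fun a => by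
      apply e.injective
      have h2 : e (e.symm z) = z := e.apply_symm_apply z
      refine (map_mul e _ _).trans (Eq.trans ?_ (map_mul e _ _).symm)
      exact (congrArg (e a * ·) h2).trans ((Subgroup.mem_center_iff.1 hz (e a)).trans (congrArg (· * e a) h2.symm))
    rw [hc, Subgroup.mem_bot] at h1
    have := congrArg e h1
    exact (e.apply_symm_apply z).symm.trans (this.trans (map_one e))
  have hNC : Subgroup.normalClosure (K : Set G) ≤ S.sup id := by
    refine (Subgroup.closure_le _).2 fun y hy => ?_
    obtain ⟨k, hk, hky⟩ := Group.mem_conjugatesOfSet_iff.1 hy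
    obtain ⟨g, rfl⟩ := isConj_iff.1 hky
    have hle : K.map (MulAut.conj g).toMonoidHom ≤ S.sup id :=
      Finset.le_sup (f := id) (Finset.mem_image_of_mem _ (Finset.mem_univ g))
    exact hle (Subgroup.mem_map_of_mem _ hk)
  refine eq_bot_iff.2 fun z hz => ?_
  have h1 : S.sup id ≤ Subgroup.centralizer (N : Set G) := Finset.sup_le fun L hL => by
    obtain ⟨g, -, rfl⟩ := Finset.mem_image.1 hL
    rintro _ ⟨k, hk, rfl⟩
    exact (inferInstance : (Subgroup.centralizer (N : Set G)).Normal).conj_mem k (hcomm hk) g
  have h2 : z ∈ Subgroup.centralizer (S.sup id : Subgroup G) ⊓ S.sup id :=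
    ⟨Subgroup.mem_centralizer_iff.2 fun a ha => (Subgroup.mem_centralizer_iff.1 (h1 ha) z hz).symm, hNC (hle hz)⟩
  exact centerless_sup S hS ▸ h2

/-- Let G be a finite group. (a) If K is a component of G with trivial centre, then the normal closure of K in G is a minimal normal subgroup of G. (b) If the Fitting subgroup of G is trivial, then the layer E(G) is generated by the minimal normal subgroups of G. -/
theorem result {G : Type*} [Group G] [Finite G] : (∀ K : Subgroup G, Cfsg.IsComponent K → Subgroup.center ↥K = ⊥ → (Subgroup.normalClosure (K : Set G) ≠ ⊥ ∧ ∀ N : Subgroup G, N.Normal → N ≤ Subgroup.normalClosure (K : Set G) → N = ⊥ ∨ N = Subgroup.normalClosure (K : Set G))) ∧ (Cfsg.fittingSubgroup G = ⊥ → sSup {N : Subgroup G | N ≠ ⊥ ∧ N.Normal ∧ ∀ N' : Subgroup G, N'.Normal → N' ≤ N → N' = ⊥ ∨ N' = N} = Cfsg.layer G) := by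
  refine ⟨fun K hK hc => minimal_normalClosure K hK hc, fun hF => le_antisymm (sSup_le ?_) (sSup_le ?_)⟩
  · rintro N ⟨hN1, hN2, hN3⟩
    have := hN2
    by_contra hle
    have hcom : ⁅N, Cfsg.layer G⁆ = ⊥ := by
      have h1 : N ⊓ Cfsg.layer G = ⊥ ∨ N ⊓ Cfsg.layer G = N := by
        have : (Cfsg.layer G).Normal := inferInstance
        exact hN3 _ inferInstance inf_le_left
      rcases h1 with h1 | h1
      · have : (Cfsg.layer G).Normal := inferInstance
        exact le_bot_iff.1 ((Subgroup.commutator_le_inf N (Cfsg.layer G)).trans h1.le)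
      · exact absurd (inf_eq_left.1 h1) hle
    have h2 : Cfsg.generalizedFittingSubgroup G = Cfsg.layer G := by
      unfold Cfsg.generalizedFittingSubgroup
      rw [hF]; simp
    have h3 : N ≤ Subgroup.centralizer (Cfsg.generalizedFittingSubgroup G : Set G) := by
      rw [h2]; exact Subgroup.commutator_eq_bot_iff_le_centralizer.1 hcom
    exact hN1 (eq_bot_iff.2 (hF ▸ h3.trans centralizer_generalizedFitting_le_fitting))
  · intro K hK
    have hc : Subgroup.center ↥K = ⊥ := by
      have hab : IsMulCommutative ↥((Subgroup.center ↥K).map K.subtype) :=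
        Subgroup.map_isMulCommutative _ K.subtype
      have hsub : ((Subgroup.center ↥K).map K.subtype).IsSubnormal :=
        Subgroup.IsSubnormal.step _ K (Subgroup.map_subtype_le _) hK.1
          ((Subgroup.normal_subgroupOf_iff_le_normalizer (Subgroup.map_subtype_le _)).2 fun k hk =>
            map_subtype_normal_of_characteristic (Subgroup.le_normalizer hk))
      have h1 := le_fittingSubgroup_of_subnormal hsub (isNilpotent_of_isMulCommutative _)
      rw [hF, le_bot_iff, Subgroup.map_eq_bot_iff_of_injective _ K.subtype_injective] at h1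
      exact h1
    obtain ⟨h1, h2⟩ := minimal_normalClosure K hK hc
    exact le_trans (show K ≤ Subgroup.normalClosure (K : Set G) from Subgroup.subset_normalClosure) (le_sSup ⟨h1, inferInstance, h2⟩)

end Cfsg.Agent.S3747
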