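import Cfsg.Statements.S3748
import Cfsg.Agent.Lib.Fusion.SubnormalJoin
import Cfsg.Agent.Lib.Components.GenFitting
import Cfsg.Agent.Lib.Solvable.Cores
-- import your own Cfsg.Agent.* helpers here

set_option autoImplicit false
open Cfsg

namespace Cfsg.Agent.S3748

variable {G : Type*} [Group G]

/-- A primitive subgroup contains no nontrivial subnormal subgroup of the whole group. -/
theorem subnormal_eq_bot [Finite G] {M : Subgroup G} (hM : M ≠ ⊤)
    (hprim : ∀ N : Subgroup G, N ≤ M → M ≤ Subgroup.normalizer (N : Set G) → N ≠ ⊥ →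
      Subgroup.normalizer (N : Set G) = M)
    {L : Subgroup G} (hL : L.IsSubnormal) (hLM : L ≤ M) : L = ⊥ := by
  obtain ⟨K, hLK, hK⟩ := Finite.exists_le_maximal
    (p := fun K : Subgroup G => K.IsSubnormal ∧ K ≤ M) ⟨hL, hLM⟩
  obtain ⟨⟨hKs, hKM⟩, hmax⟩ := hK
  have hMK : M ≤ Subgroup.normalizer (K : Set G) := by
    intro m hm
    have hc : (K.map (MulAut.conj m).toMonoidHom).IsSubnormal :=
      hKs.map (MulAut.conj m).surjective
    have hcM : K.map (MulAut.conj m).toMonoidHom ≤ M := by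
      rintro _ ⟨k, hk, rfl⟩
      exact M.mul_mem (M.mul_mem hm (hKM hk)) (M.inv_mem hm)
    have hle : K.map (MulAut.conj m).toMonoidHom ≤ K :=
      le_sup_right.trans
        (hmax ⟨CfsgLib.Fusion.SubnormalJoin.sup_isSubnormal hKs hc, sup_le hKM hcM⟩ le_sup_left)
    refine CfsgLib.Components.mem_normalizer_iff_map_conj_eq.2 (Subgroup.eq_of_le_of_card_ge hle ?_)
    exact le_of_eq (Nat.card_congr (Subgroup.equivMapOfInjective K _
      (MulAut.conj m).injective).toEquiv)
  by_contra hne
  have hKb : K ≠ ⊥ := fun h => hne (le_bot_iff.1 (h ▸ hLK))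
  have hN := hprim K hKM hMK hKb
  have hKtop : K ≠ ⊤ := fun h => hM (top_le_iff.1 (h ▸ hKM))
  obtain ⟨K', hle, hsub⟩ : ∃ K' : Subgroup G, K < K' ∧ K'.IsSubnormal ∧
      K' ≤ Subgroup.normalizer (K : Set G) := by
    clear hLK hMK hN hmax hKM hKb
    induction hKs with
    | top => exact absurd rfl hKtop
    | step H H' h1 h2 h3 ih =>
      rcases eq_or_lt_of_le h1 with e | e
      · subst e; exact ih hKtop
      · exact ⟨H', e, h2, (Subgroup.normal_subgroupOf_iff_le_normalizer h1).1 h3⟩
  rw [hN] at hsub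
  exact absurd (hmax hsub hle.le) hle.not_ge

theorem fitting_inf_eq_bot [Finite G] {M : Subgroup G} (hM : M ≠ ⊤)
    (hprim : ∀ N : Subgroup G, N ≤ M → M ≤ Subgroup.normalizer (N : Set G) → N ≠ ⊥ →
      Subgroup.normalizer (N : Set G) = M) : M ⊓ Cfsg.fittingSubgroup G = ⊥ := by
  by_contra hne
  set F := Cfsg.fittingSubgroup G with hF
  have hFn : Group.IsNilpotent ↥F := CfsgLib.Solvable.Cores.fittingSubgroup_isNilpotent
  have hN := hprim (M ⊓ F) inf_le_left (fun m hm => by
    refine Subgroup.mem_normalizer_iff.2 fun x => ?_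
    have hFm : x ∈ F ↔ m * x * m⁻¹ ∈ F := by
      refine ⟨fun h => Subgroup.Normal.conj_mem inferInstance x h m, fun h => ?_⟩
      simpa [mul_assoc] using Subgroup.Normal.conj_mem (inferInstance : F.Normal) _ h m⁻¹
    simp only [Subgroup.mem_inf, hFm, M.mul_mem_cancel_right (M.inv_mem hm),
      M.mul_mem_cancel_left hm]) hne
  have hlt : (M ⊓ F).subgroupOf F < ⊤ := by
    refine lt_top_iff_ne_top.2 fun h => ?_
    have hle : F ≤ M := (Subgroup.subgroupOf_eq_top.1 h).trans inf_le_left
    rw [inf_eq_right.2 hle, Subgroup.normalizer_eq_top] at hN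
    exact hM hN.symm
  have h2 := Group.normalizerCondition_of_isNilpotent (G := ↥F) _ hlt
  obtain ⟨x, hx1, hx2⟩ := SetLike.exists_of_lt h2
  refine hx2 ?_
  have hxN : (x : G) ∈ Subgroup.normalizer ((M ⊓ F : Subgroup G) : Set G) := by
    refine Subgroup.mem_normalizer_iff.2 fun y => ?_
    by_cases hy : y ∈ F
    · have hy' : (x : G) * y * (x : G)⁻¹ ∈ F := F.mul_mem (F.mul_mem x.2 hy) (F.inv_mem x.2)
      simpa [Subgroup.mem_subgroupOf, hy, hy'] using Subgroup.mem_normalizer_iff.1 hx1 ⟨y, hy⟩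
    · constructor
      · exact fun h => absurd h.2 hy
      · intro h
        refine absurd ?_ hy
        have := F.mul_mem (F.mul_mem (F.inv_mem x.2) h.2) x.2
        simpa [mul_assoc] using this
  rw [hN] at hxN
  exact ⟨hxN, x.2⟩

/-- Call a proper subgroup M of G primitive when M = N_G(N) for every non-trivial normal subgroup N of M. If M is a primitive subgroup of the finite group G, then no non-trivial subnormal subgroup of G is contained in M; in particular M ∩ F(G) = 1. -/
theorem result {G : Type*} [Group G] [Finite G] (M : Subgroup G) (hM : M ≠ ⊤) (hprim : ∀ N : Subgroup G, N ≤ M → M ≤ Subgroup.normalizer (N : Set G) → N ≠ ⊥ → Subgroup.normalizer (N : Set G) = M) : (∀ L : Subgroup G, L.IsSubnormal → L ≤ M → L = ⊥) ∧ M ⊓ Cfsg.fittingSubgroup G = ⊥ := by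
  exact ⟨fun L hL hLM => subnormal_eq_bot hM hprim hL hLM, fitting_inf_eq_bot hM hprim⟩

end Cfsg.Agent.S3748
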