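import Cfsg.Statements.S3749
import Cfsg.Agent.Lib.Coprime.Sylow
import Cfsg.Agent.Lib.Solvable.Cores
-- import your own Cfsg.Agent.* helpers here

set_option autoImplicit false
open Cfsg

namespace Cfsg.Agent.S3749

variable {G : Type*} [Group G]

/-- A `p`-subgroup with trivial centralizer in a normal subgroup `N` forces `p ∤ |N|`. -/
theorem not_dvd_of_centralizer [Finite G] {p : ℕ} [Fact p.Prime] {P : Subgroup G}
    (hP : IsPGroup p P) (N : Subgroup G) [N.Normal]
    (hC : N ⊓ Subgroup.centralizer (P : Set G) = ⊥) : ¬ p ∣ Nat.card N := by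
  let inst : MulAction P N := MulAction.compHom _ ((MulAut.conjNormal (H := N)).comp P.subtype)
  intro hdvd
  obtain ⟨b, hb, hne⟩ := hP.exists_fixed_point_of_prime_dvd_card_of_fixed_point (α := N) hdvd
    (a := 1) (fun g => Subtype.ext (by
      show ((MulAut.conjNormal (g : G) (1 : N) : N) : G) = ((1 : N) : G)
      simp))
  have hbC : (b : G) ∈ N ⊓ Subgroup.centralizer (P : Set G) := by
    refine ⟨b.2, Subgroup.mem_centralizer_iff.2 fun g hg => ?_⟩
    have h := congrArg (fun y : N => (y : G)) (hb ⟨g, hg⟩)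
    change ((MulAut.conjNormal g b : N) : G) = (b : G) at h
    rw [MulAut.conjNormal_apply] at h
    exact mul_inv_eq_iff_eq_mul.1 h
  rw [hC, Subgroup.mem_bot] at hbC
  exact hne (Subtype.ext hbC.symm)

/-- Call a proper subgroup M of G primitive when M = N_G(N) for every non-trivial normal subgroup N of M. Let M be a primitive subgroup of the finite group G, p a prime with O_p(M) ≠ 1, and N a normal subgroup of G with M ∩ N = 1. Then p does not divide the order of N; for every prime q there is exactly one Sylow q-subgroup of N normalized by M; and if the order of N has at least two prime divisors then M is not a maximal subgroup of G. -/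
theorem result {G : Type*} [Group G] [Finite G] (M : Subgroup G) (hM : M ≠ ⊤) (hprim : ∀ N : Subgroup G, N ≤ M → M ≤ Subgroup.normalizer (N : Set G) → N ≠ ⊥ → Subgroup.normalizer (N : Set G) = M) {p : ℕ} [Fact p.Prime] (hOp : Cfsg.pCore p ↥M ≠ ⊥) (N : Subgroup G) [N.Normal] (hMN : M ⊓ N = ⊥) : ¬ p ∣ Nat.card N ∧ (∀ q : ℕ, [Fact q.Prime] → ∃! Q : Sylow q ↥N, M ≤ Subgroup.normalizer ((Q : Subgroup ↥N).map N.subtype : Set G)) ∧ ((∃ q r : ℕ, q.Prime ∧ r.Prime ∧ q ≠ r ∧ q ∣ Nat.card N ∧ r ∣ Nat.card N) → ¬ IsCoatom M) := by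
  classical
  set P : Subgroup G := (Cfsg.pCore p ↥M).map M.subtype with hPdef
  have hPM : P ≤ M := Subgroup.map_subtype_le _
  have hPp : IsPGroup p P :=
    (CfsgLib.Solvable.Cores.isPGroup_pCore (G := ↥M) (p := p)).map M.subtype
  have hMP : M ≤ Subgroup.normalizer (P : Set G) := by
    intro m hm
    refine Subgroup.mem_normalizer_iff_map_conj_eq.2 ?_
    refine Subgroup.eq_of_le_of_card_ge ?_ (le_of_eq (Nat.card_congr
      (Subgroup.equivMapOfInjective P _ (MulAut.conj m).injective).toEquiv))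
    rintro _ ⟨_, ⟨x, hx, rfl⟩, rfl⟩
    exact ⟨⟨m, hm⟩ * x * ⟨m, hm⟩⁻¹,
      Subgroup.Normal.conj_mem inferInstance x hx _, rfl⟩
  have hPne : P ≠ ⊥ := fun h =>
    hOp ((Subgroup.map_eq_bot_iff_of_injective _ M.subtype_injective).1 h)
  have hNP := hprim P hPM hMP hPne
  have hC : N ⊓ Subgroup.centralizer (P : Set G) = ⊥ := by
    rw [eq_bot_iff, ← hMN]
    exact le_inf ((inf_le_right.trans (Subgroup.centralizer_le_normalizer _)).trans hNP.le) inf_le_left
  have hndvd := not_dvd_of_centralizer hPp N hC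
  have hPN : P ≤ Subgroup.normalizer (N : Set G) := by
    rw [Subgroup.normalizer_eq_top]; exact le_top
  have hcop : (Nat.card P).Coprime (Nat.card N) := by
    obtain ⟨k, hk⟩ := hPp.exists_card_eq
    rw [hk]
    exact Nat.Coprime.pow_left _ ((Fact.out : p.Prime).coprime_iff_not_dvd.2 hndvd)
  have hsolv : Group.IsSolvable P ∨ Group.IsSolvable N := by
    have := hPp.isNilpotent
    exact Or.inl inferInstance
  have huniq : ∀ q : ℕ, [Fact q.Prime] → ∃! Q : Sylow q ↥N,
      M ≤ Subgroup.normalizer ((Q : Subgroup ↥N).map N.subtype : Set G) := by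
    intro q _
    obtain ⟨Q, hQ⟩ := CfsgLib.Coprime.exists_invariant_sylow hPN hcop hsolv q
    have hone : ∀ R : Sylow q ↥N,
        P ≤ Subgroup.normalizer ((R : Subgroup ↥N).map N.subtype : Set G) → R = Q := by
      intro R hR
      obtain ⟨c, hc, he⟩ := CfsgLib.Coprime.exists_centralizer_conj_sylow hPN hcop hsolv R Q hR hQ
      have : (c : G) = 1 := by
        have h : (c : G) ∈ N ⊓ Subgroup.centralizer (P : Set G) := ⟨c.2, hc⟩
        rwa [hC, Subgroup.mem_bot] at h
      rw [show c = 1 from Subtype.ext this, one_smul] at he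
      exact he
    refine ⟨Q, ?_, fun R hR => hone R (hPM.trans hR)⟩
    intro m hm
    refine Subgroup.mem_normalizer_iff_map_conj_eq.2 ?_
    obtain ⟨R, hR⟩ := CfsgLib.Coprime.exists_sylow_map_eq (K := N) (p := q)
      (H := ((Q : Subgroup ↥N).map N.subtype).map ((MulAut.conj m : MulAut G) : G →* G))
      (by
        rintro _ ⟨x, hx, rfl⟩
        exact Subgroup.Normal.conj_mem inferInstance x (Subgroup.map_subtype_le _ hx) m)
      (by
        rw [← Nat.card_congr (Subgroup.equivMapOfInjective _ _ (MulAut.conj m).injective).toEquiv,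
          CfsgLib.Coprime.card_map_subtype, Q.card_eq_multiplicity])
    have hRQ : R = Q := hone R (by
      rw [hR]
      intro a ha
      refine Subgroup.mem_normalizer_iff_map_conj_eq.2 ?_
      have ha' : m⁻¹ * a * m ∈ P := by
        simpa using (Subgroup.mem_normalizer_iff.1 (hMP (M.inv_mem hm)) a).1 ha
      have h := Subgroup.mem_normalizer_iff_map_conj_eq.1 (hQ ha')
      have hcomp : ((MulAut.conj a : MulAut G) : G →* G).comp ((MulAut.conj m : MulAut G) : G →* G) =
          ((MulAut.conj m : MulAut G) : G →* G).comp ((MulAut.conj (m⁻¹ * a * m) : MulAut G) : G →* G) := by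
        ext x; simp [mul_assoc]
      rw [Subgroup.map_map, hcomp, ← Subgroup.map_map, h])
    rw [← hR, hRQ]
  refine ⟨hndvd, huniq, ?_⟩
  rintro ⟨q, r, hq, hr, hqr, hqN, hrN⟩ hco
  have : Fact q.Prime := ⟨hq⟩
  obtain ⟨Q, hQ, -⟩ := huniq q
  set R : Subgroup G := (Q : Subgroup ↥N).map N.subtype with hRdef
  have hlt : M < M ⊔ R := by
    refine lt_of_le_of_ne le_sup_left fun h => ?_
    have hle : R ≤ M ⊓ N := le_inf (h ▸ le_sup_right) (Subgroup.map_subtype_le _)
    rw [hMN, le_bot_iff, hRdef,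
      Subgroup.map_eq_bot_iff_of_injective _ N.subtype_injective] at hle
    exact Q.ne_bot_of_dvd_card hqN hle
  have htop := hco.2 _ hlt
  have hsub : N ≤ R := by
    intro n hn
    have hmem : n ∈ ((M ⊔ R : Subgroup G) : Set G) := by rw [htop]; trivial
    rw [Subgroup.coe_mul_of_left_le_normalizer_right M R hQ] at hmem
    obtain ⟨m, hm, x, hx, rfl⟩ := Set.mem_mul.1 hmem
    have hmN : m ∈ M ⊓ N := ⟨hm, by
      simpa using N.mul_mem hn (N.inv_mem (Subgroup.map_subtype_le _ hx))⟩
    rw [hMN, Subgroup.mem_bot] at hmN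
    simpa [hmN] using hx
  have hrQ : r ∣ Nat.card (Q : Subgroup ↥N) := by
    rw [← CfsgLib.Coprime.card_map_subtype]
    exact hrN.trans (Subgroup.card_dvd_of_le hsub)
  obtain ⟨k, hk⟩ := Q.isPGroup'.exists_card_eq
  rw [hk] at hrQ
  exact hqr ((Nat.prime_dvd_prime_iff_eq hr hq).1 (hr.dvd_of_dvd_pow hrQ)).symm

end Cfsg.Agent.S3749
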