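import Cfsg.Statements.S3750
import Cfsg.Agent.S3748
-- import your own Cfsg.Agent.* helpers here

set_option autoImplicit false
open Cfsg

namespace Cfsg.Agent.S3750

open CfsgLib.Components

variable {G : Type*} [Group G]

theorem le_M_of_centralizes {M A K : Subgroup G} (hN : Subgroup.normalizer (A : Set G) = M)
    (h : ⁅K, A⁆ = ⊥) : K ≤ M :=
  hN ▸ ((Subgroup.commutator_eq_bot_iff_le_centralizer.1 h).trans
    (Subgroup.centralizer_le_normalizer _))

/-- Call a proper subgroup M of G primitive when M = N_G(N) for every non-trivial normal subgroup N of M. Let M be a primitive subgroup of the finite group G and N a normal subgroup of G with M ∩ F*(N) ≠ 1. Then F(G) = 1 and F*(N) = F*(G) = E(G); in particular every minimal normal subgroup of G is contained in N. -/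
theorem result {G : Type*} [Group G] [Finite G] (M : Subgroup G) (hM : M ≠ ⊤) (hprim : ∀ N : Subgroup G, N ≤ M → M ≤ Subgroup.normalizer (N : Set G) → N ≠ ⊥ → Subgroup.normalizer (N : Set G) = M) (N : Subgroup G) [N.Normal] (hMF : M ⊓ (Cfsg.generalizedFittingSubgroup ↥N).map N.subtype ≠ ⊥) : Cfsg.fittingSubgroup G = ⊥ ∧ (Cfsg.generalizedFittingSubgroup ↥N).map N.subtype = Cfsg.generalizedFittingSubgroup G ∧ Cfsg.generalizedFittingSubgroup G = Cfsg.layer G ∧ ∀ K : Subgroup G, K.Normal → K ≠ ⊥ → (∀ K' : Subgroup G, K'.Normal → K' ≤ K → K' = ⊥ ∨ K' = K) → K ≤ N := by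
  classical
  set Fs : Subgroup G := (Cfsg.generalizedFittingSubgroup ↥N).map N.subtype with hFs
  set A := M ⊓ Fs with hA
  have hFsN : Fs ≤ N := Subgroup.map_subtype_le _
  have hFsn : Fs.Normal := by
    rw [← Subgroup.normalizer_eq_top_iff, eq_top_iff]
    intro g _
    exact map_subtype_normal_of_characteristic (by rw [Subgroup.normalizer_eq_top]; trivial)
  have hMA : M ≤ Subgroup.normalizer (A : Set G) := fun m hm =>
    Subgroup.inf_normalizer_le_normalizer_inf
      ⟨Subgroup.le_normalizer hm, by rw [Subgroup.normalizer_eq_top]; trivial⟩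
  have hN := hprim A inf_le_left hMA hMF
  have hkill : ∀ K : Subgroup G, K.IsSubnormal → ⁅K, N⁆ = ⊥ → K = ⊥ := fun K hK h =>
    S3748.subnormal_eq_bot hM hprim hK (le_M_of_centralizes hN (eq_bot_iff.2 (h ▸
      Subgroup.commutator_mono le_rfl (inf_le_right.trans hFsN))))
  have hmin : ∀ K : Subgroup G, K.Normal → K ≠ ⊥ →
      (∀ K' : Subgroup G, K'.Normal → K' ≤ K → K' = ⊥ ∨ K' = K) → K ≤ N := by
    intro K hK hne h
    rcases h (K ⊓ N) inferInstance inf_le_left with h1 | h1
    · exact absurd (hkill K hK.isSubnormal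
        (eq_bot_iff.2 (h1 ▸ Subgroup.commutator_le_inf K N))) hne
    · exact inf_eq_left.1 h1
  have hF : Cfsg.fittingSubgroup G = ⊥ := by
    by_contra hF
    have hFn : Group.IsNilpotent ↥(Cfsg.fittingSubgroup G) :=
      CfsgLib.Solvable.Cores.fittingSubgroup_isNilpotent
    obtain ⟨K, hKF, ⟨⟨hKn, hKne⟩, hKmin⟩⟩ := Finite.exists_le_minimal
      (p := fun K : Subgroup G => K.Normal ∧ K ≠ ⊥) (a := Cfsg.fittingSubgroup G)
      ⟨inferInstance, hF⟩
    have hKN : K ≤ N := hmin K hKn hKne fun K' hK' hle => by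
      by_cases h : K' = ⊥
      · exact Or.inl h
      · exact Or.inr (le_antisymm hle (hKmin ⟨hK', h⟩ hle))
    have hKc : ⁅K, Cfsg.fittingSubgroup G⁆ = ⊥ := by
      by_contra h
      have he : K ≤ ⁅K, Cfsg.fittingSubgroup G⁆ :=
        hKmin ⟨inferInstance, h⟩ (Subgroup.commutator_le_left _ _)
      obtain ⟨c, hc⟩ := (Subgroup.isNilpotent_iff_lowerCentralSeries _).1 hFn
      have : ∀ j, K ≤ (Cfsg.fittingSubgroup G).lowerCentralSeries j := by
        intro j
        induction j with
        | zero => exact hKF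
        | succ j ih =>
          rw [Subgroup.lowerCentralSeries_succ]
          exact he.trans (Subgroup.commutator_mono ih le_rfl)
      exact hKne (eq_bot_iff.2 (hc ▸ this c))
    have hKFN : K ≤ (Cfsg.fittingSubgroup ↥N).map N.subtype := by
      rw [fittingSubgroup_map_subtype_eq (Subgroup.Normal.isSubnormal inferInstance)]
      exact le_inf hKF hKN
    have hKE : ⁅K, (Cfsg.layer ↥N).map N.subtype⁆ = ⊥ := by
      refine eq_bot_iff.2 ((Subgroup.commutator_mono hKFN le_rfl).trans ?_)
      rw [← Subgroup.map_commutator, Subgroup.commutator_comm, layer_commutator_fitting_eq_bot,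
        Subgroup.map_bot]
    have hKA : ⁅K, A⁆ = ⊥ := by
      rw [Subgroup.commutator_eq_bot_iff_le_centralizer] at hKE hKc ⊢
      refine Subgroup.le_centralizer_iff.1 (inf_le_right.trans ?_)
      rw [hFs, Cfsg.generalizedFittingSubgroup, Subgroup.map_sup]
      refine sup_le (Subgroup.le_centralizer_iff.1 hKE) ?_
      rw [fittingSubgroup_map_subtype_eq (Subgroup.Normal.isSubnormal inferInstance)]
      exact inf_le_left.trans (Subgroup.le_centralizer_iff.1 hKc)
    exact hKne (S3748.subnormal_eq_bot hM hprim hKn.isSubnormal (le_M_of_centralizes hN hKA))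
  have hGE : Cfsg.generalizedFittingSubgroup G = Cfsg.layer G := by
    rw [Cfsg.generalizedFittingSubgroup, hF, sup_bot_eq]
  have hNsn : N.IsSubnormal := Subgroup.Normal.isSubnormal inferInstance
  have hFN : Cfsg.fittingSubgroup ↥N = ⊥ := by
    refine (Subgroup.map_eq_bot_iff_of_injective _ N.subtype_injective).1 ?_
    rw [fittingSubgroup_map_subtype_eq hNsn, hF, bot_inf_eq]
  have hFsE : Fs = Cfsg.layer G := by
    rw [hFs, Cfsg.generalizedFittingSubgroup, hFN, sup_bot_eq]
    refine le_antisymm (layer_map_subtype_le hNsn) ?_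
    rw [layer_le_iff]
    intro L hL
    rcases IsComponent.le_or_commutator_eq_bot_of_normal hL N with h | h
    · intro x hx
      exact ⟨⟨x, h hx⟩, IsComponent.le_layer (IsComponent.subgroupOf hL h) hx, rfl⟩
    · exact absurd (hkill L hL.1 h) (IsComponent.ne_bot hL)
  exact ⟨hF, by rw [hFsE, hGE], hGE, hmin⟩

end Cfsg.Agent.S3750
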