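import Cfsg.Statements.S3751
import Cfsg.Agent.Lib.Components.Bender
import Cfsg.Agent.Lib.Coprime.Sylow
-- import your own Cfsg.Agent.* helpers here

set_option autoImplicit false
open Cfsg

namespace Cfsg.Agent.S3751

open CfsgLib.Components CfsgLib.Components.Bender

variable {G : Type*} [Group G]

/-- `M` is a `p`-local subgroup. -/
def IsLocalSub (p : ℕ) (M : Subgroup G) : Prop :=
  ∃ T : Subgroup G, IsPGroup p T ∧ T ≠ ⊥ ∧ M = Subgroup.normalizer (T : Set G)

/-- `M` is a maximal `p`-local subgroup. -/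
def IsMaxLocal (p : ℕ) (M : Subgroup G) : Prop :=
  IsLocalSub p M ∧ ∀ L : Subgroup G, IsLocalSub p L → M ≤ L → L = M

variable [Finite G] {p : ℕ} [Fact p.Prime]

theorem exists_max {M : Subgroup G} (hM : IsLocalSub p M) : ∃ L, M ≤ L ∧ IsMaxLocal p L := by
  obtain ⟨L, hle, hL⟩ := Finite.exists_le_maximal (p := IsLocalSub p) hM
  exact ⟨L, hle, hL.1, fun K hK h => le_antisymm (hL.2 hK h) h⟩

theorem core_ne_bot {M : Subgroup G} (hM : IsLocalSub p M) : coreIn p M ≠ ⊥ := by
  obtain ⟨T, hT, hne, rfl⟩ := hM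
  intro h
  refine hne (eq_bot_iff.2 ?_)
  rw [← h]
  intro x hx
  have : (Subgroup.comap (Subgroup.normalizer (T : Set G)).subtype T).Normal :=
    (Subgroup.normal_subgroupOf_iff_le_normalizer Subgroup.le_normalizer).2 le_rfl
  exact ⟨⟨x, Subgroup.le_normalizer hx⟩,
    CfsgLib.Solvable.Cores.le_pCore
      (hT.comap_subtype (K := Subgroup.normalizer (T : Set G))) hx, rfl⟩

theorem charP_local (hloc : Cfsg.IsOfLocalCharacteristic p G) {M : Subgroup G}
    (hM : IsLocalSub p M) :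
    Subgroup.centralizer (Cfsg.pCore p ↥M : Set ↥M) ≤ Cfsg.pCore p ↥M := by
  obtain ⟨T, hT, hne, rfl⟩ := hM
  exact hloc.2 T hT hne

theorem normalizer_eq (hloc : Cfsg.IsOfLocalCharacteristic p G) {M A : Subgroup G}
    (hM : IsMaxLocal p M) (hAne : A ≠ ⊥) (hA : A ≤ M)
    (hn : M ≤ Subgroup.normalizer (A : Set G)) : Subgroup.normalizer (A : Set G) = M := by
  refine le_antisymm ?_ hn
  have hchar : ∀ g ∈ Subgroup.normalizer (A : Set G),
      g ∈ Subgroup.normalizer (coreIn p A : Set G) := fun g hg =>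
    map_subtype_normal_of_characteristic hg
  have hinf : A ⊓ coreIn p M ≤ coreIn p A := by
    intro x hx
    have : (Subgroup.comap A.subtype (A ⊓ coreIn p M)).Normal := by
      refine (Subgroup.normal_subgroupOf_iff_le_normalizer inf_le_left).2 ?_
      intro a ha
      exact Subgroup.inf_normalizer_le_normalizer_inf
        ⟨Subgroup.le_normalizer ha, le_normalizer_coreIn p M (hA ha)⟩
    exact ⟨⟨x, hx.1⟩, CfsgLib.Solvable.Cores.le_pCore
      (((isPGroup_coreIn p M).to_le (inf_le_right : A ⊓ coreIn p M ≤ _)).comap_subtype (K := A)) hx,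
      rfl⟩
  have hne2 : coreIn p A ≠ ⊥ := by
    intro h
    refine hAne (eq_bot_iff.2 ?_)
    rw [← h]
    refine le_trans ?_ hinf
    refine le_inf le_rfl ?_
    have hdis : A ⊓ coreIn p M = ⊥ := le_bot_iff.1 (h ▸ hinf)
    have hc := commutator_eq_bot_of_normalize (hA.trans (le_normalizer_coreIn p M))
      ((coreIn_le p M).trans hn) hdis
    intro x hx
    refine ⟨⟨x, hA hx⟩, charP_local hloc hM.1 ?_, rfl⟩
    exact Subgroup.mem_centralizer_iff.2 fun u hu => Subtype.ext
      (Subgroup.mem_centralizer_iff.1 (hc hx) u (Subgroup.mem_map_of_mem _ hu))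
  have := hM.2 _ ⟨coreIn p A, isPGroup_coreIn p A, hne2, rfl⟩ (fun g hg => hchar g (hn hg))
  rw [← this]
  exact fun g hg => hchar g hg

theorem normalizer_self (hloc : Cfsg.IsOfLocalCharacteristic p G) {M : Subgroup G}
    (hM : IsMaxLocal p M) : Subgroup.normalizer (M : Set G) = M := by
  refine normalizer_eq hloc hM ?_ le_rfl Subgroup.le_normalizer
  intro h
  exact core_ne_bot hM.1 (le_bot_iff.1 (h ▸ coreIn_le p M))

theorem isMaxLocal_conj {M : Subgroup G} (hM : IsMaxLocal p M) (g : G) :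
    IsMaxLocal p (M.map (MulAut.conj g).toMonoidHom) := by
  have hloc : ∀ (h : G) (L : Subgroup G), IsLocalSub p L →
      IsLocalSub p (L.map (MulAut.conj h).toMonoidHom) := by
    rintro h L ⟨T, hT, hne, rfl⟩
    exact ⟨T.map (MulAut.conj h).toMonoidHom, hT.map _, fun e => hne
      ((Subgroup.map_eq_bot_iff_of_injective _ (MulAut.conj h).injective).1 e),
      Subgroup.map_equiv_normalizer_eq T (MulAut.conj h)⟩
  refine ⟨hloc g M hM.1, fun L hL hle => ?_⟩
  have e : ∀ (a b : G) (K : Subgroup G), a * b = 1 →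
      (K.map (MulAut.conj b).toMonoidHom).map (MulAut.conj a).toMonoidHom = K := by
    intro a b K hab
    ext x
    simp only [Subgroup.mem_map, MulEquiv.coe_toMonoidHom, MulAut.conj_apply]
    constructor
    · rintro ⟨_, ⟨y, hy, rfl⟩, rfl⟩
      have : b = a⁻¹ := eq_inv_of_mul_eq_one_right hab
      simpa [this, mul_assoc] using hy
    · intro hx
      have : b = a⁻¹ := eq_inv_of_mul_eq_one_right hab
      exact ⟨b * x * b⁻¹, ⟨x, hx, rfl⟩, by simp [this, mul_assoc]⟩
  have h1 := hM.2 _ (hloc g⁻¹ L hL) (by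
    rw [← e g⁻¹ g M (inv_mul_cancel g)]
    exact Subgroup.map_mono hle)
  rw [← h1, e g g⁻¹ L (mul_inv_cancel g)]

/-- A maximal `p`-subgroup of `M` contains `O_p(M)`. -/
theorem core_le {M T : Subgroup G} (hT : IsPGroup p T) (hTM : T ≤ M)
    (hmax : ∀ U : Subgroup G, IsPGroup p U → T ≤ U → U ≤ M → U = T) : coreIn p M ≤ T := by
  have hU : IsPGroup p ↥(T ⊔ coreIn p M) :=
    hT.to_sup_of_normal_right' (isPGroup_coreIn p M) (hTM.trans (le_normalizer_coreIn p M))
  exact le_sup_right.trans (hmax _ hU le_sup_left (sup_le hTM (coreIn_le p M))).le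

theorem pair_spec (hloc : Cfsg.IsOfLocalCharacteristic p G) {M₁ M₂ : Subgroup G}
    (h1 : IsMaxLocal p M₁) (h2 : IsMaxLocal p M₂) (hne : M₁ ≠ M₂)
    (hQ₁ : coreIn p M₁ ≤ M₂) (hQ₂ : coreIn p M₂ ≤ M₁) :
    ∃ M₁ M₂ : Subgroup G, M₁ ≠ M₂ ∧ (∀ A : Subgroup G, A ≠ ⊥ → A ≤ M₁ ⊓ M₂ →
      (M₁ ≤ Subgroup.normalizer (A : Set G) →
        M₂ ⊓ Subgroup.normalizer (A : Set G) = M₁ ⊓ M₂) ∧
      (M₂ ≤ Subgroup.normalizer (A : Set G) →
        M₁ ⊓ Subgroup.normalizer (A : Set G) = M₁ ⊓ M₂)) ∧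
      Subgroup.centralizer (Cfsg.pCore p ↥M₁ : Set ↥M₁) ≤ Cfsg.pCore p ↥M₁ ∧
      Subgroup.centralizer (Cfsg.pCore p ↥M₂ : Set ↥M₂) ≤ Cfsg.pCore p ↥M₂ ∧
      (Cfsg.pCore p ↥M₁).map M₁.subtype ⊔ (Cfsg.pCore p ↥M₂).map M₂.subtype ≤ M₁ ⊓ M₂ := by
  refine ⟨M₁, M₂, hne, fun A hA hAD => ⟨fun hn => ?_, fun hn => ?_⟩, charP_local hloc h1.1,
    charP_local hloc h2.1, sup_le (le_inf (coreIn_le p M₁) hQ₁) (le_inf hQ₂ (coreIn_le p M₂))⟩
  · rw [normalizer_eq hloc h1 hA (hAD.trans inf_le_left) hn, inf_comm]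
  · rw [normalizer_eq hloc h2 hA (hAD.trans inf_le_right) hn]

/-- Two distinct subgroups M₁, M₂ of G form a primitive pair when, for {i, j} = {1, 2}, every non-trivial normal subgroup A of M_i contained in M₁ ∩ M₂ satisfies N_{M_j}(A) = M₁ ∩ M₂; the pair has characteristic p when moreover C_{M_i}(O_p(M_i)) ≤ O_p(M_i) for both i and O_p(M₁)O_p(M₂) ≤ M₁ ∩ M₂. Let G be a finite group, p a prime dividing its order, with O_p(G) = 1 and every p-local subgroup of characteristic p. Then either G has a primitive pair of characteristic p, or every maximal p-local subgroup M of G is strongly p-embedded in G: M is a proper subgroup, p divides its order, and for every g ∉ M the order of M ∩ gMg⁻¹ is prime to p. -/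
theorem result {G : Type*} [Group G] [Finite G] {p : ℕ} [Fact p.Prime] (hloc : Cfsg.IsOfLocalCharacteristic p G) (hOp : Cfsg.pCore p G = ⊥) : (∃ M₁ M₂ : Subgroup G, M₁ ≠ M₂ ∧ (∀ A : Subgroup G, A ≠ ⊥ → A ≤ M₁ ⊓ M₂ → (M₁ ≤ Subgroup.normalizer (A : Set G) → M₂ ⊓ Subgroup.normalizer (A : Set G) = M₁ ⊓ M₂) ∧ (M₂ ≤ Subgroup.normalizer (A : Set G) → M₁ ⊓ Subgroup.normalizer (A : Set G) = M₁ ⊓ M₂)) ∧ Subgroup.centralizer (Cfsg.pCore p ↥M₁ : Set ↥M₁) ≤ Cfsg.pCore p ↥M₁ ∧ Subgroup.centralizer (Cfsg.pCore p ↥M₂ : Set ↥M₂) ≤ Cfsg.pCore p ↥M₂ ∧ (Cfsg.pCore p ↥M₁).map M₁.subtype ⊔ (Cfsg.pCore p ↥M₂).map M₂.subtype ≤ M₁ ⊓ M₂) ∨ (∀ M : Subgroup G, (∃ T : Subgroup G, IsPGroup p T ∧ T ≠ ⊥ ∧ M = Subgroup.normalizer (T : Set G)) → (∀ L : Subgroup G, (∃ T : Subgroup G, IsPGroup p T ∧ T ≠ ⊥ ∧ L = Subgroup.normalizer (T : Set G)) → M ≤ L → L = M) → M ≠ ⊤ ∧ p ∣ Nat.card M ∧ ∀ g : G, g ∉ M → ¬ p ∣ Nat.card ↥(M ⊓ M.map (MulAut.conj g).toMonoidHom)) := by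
  classical
  by_cases hex : ∃ M₁ M₂ : Subgroup G, IsMaxLocal p M₁ ∧ IsMaxLocal p M₂ ∧ M₁ ≠ M₂ ∧
      ∃ T : Subgroup G, IsPGroup p T ∧ T ≠ ⊥ ∧ T ≤ M₁ ⊓ M₂
  · left
    obtain ⟨M₁', M₂', h1', h2', hne', T', hT', hTne', hTD'⟩ := hex
    obtain ⟨⟨⟨M₁, M₂⟩, T⟩, ⟨h1, h2, hne, hT, hTne, hTD⟩, hmax⟩ :=
      Set.exists_max_image {q : (Subgroup G × Subgroup G) × Subgroup G |
          IsMaxLocal p q.1.1 ∧ IsMaxLocal p q.1.2 ∧ q.1.1 ≠ q.1.2 ∧
            IsPGroup p q.2 ∧ q.2 ≠ ⊥ ∧ q.2 ≤ q.1.1 ⊓ q.1.2}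
        (fun q => Nat.card q.2) (Set.toFinite _)
        ⟨⟨(M₁', M₂'), T'⟩, h1', h2', hne', hT', hTne', hTD'⟩
    dsimp only at h1 h2 hne hT hTne hTD
    obtain ⟨M₃, hN3, h3⟩ := exists_max (p := p) (M := Subgroup.normalizer (T : Set G))
      ⟨T, hT, hTne, rfl⟩
    have hgrow : ∀ M : Subgroup G, IsMaxLocal p M → T ≤ M → ∀ U : Subgroup G, IsPGroup p U →
        T < U → U ≤ M → M = M₃ := by
      intro M hM hTM U hU hlt hUM
      by_contra hMne
      have h := CfsgLib.Coprime.lt_normalizer_inf_of_lt hU hlt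
      set V := U ⊓ Subgroup.normalizer (T : Set G) with hV
      have hle := hmax ⟨(M, M₃), V⟩ ⟨hM, h3, hMne, hU.to_le inf_le_left,
        fun e => hTne (le_bot_iff.1 (e ▸ h.le)), le_inf (inf_le_left.trans hUM)
          (inf_le_right.trans hN3)⟩
      have := Subgroup.eq_of_le_of_card_ge h.le hle
      exact h.ne this
    by_cases hm1 : ∀ U : Subgroup G, IsPGroup p U → T ≤ U → U ≤ M₁ → U = T
    · by_cases hm2 : ∀ U : Subgroup G, IsPGroup p U → T ≤ U → U ≤ M₂ → U = T
      · exact pair_spec hloc h1 h2 hne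
          ((core_le hT (hTD.trans inf_le_left) hm1).trans (hTD.trans inf_le_right))
          ((core_le hT (hTD.trans inf_le_right) hm2).trans (hTD.trans inf_le_left))
      · push Not at hm2
        obtain ⟨U, hU, hTU, hUM, hUne⟩ := hm2
        have hlt : T < U := lt_of_le_of_ne hTU (Ne.symm hUne)
        obtain ⟨x, hxU, hxT⟩ := SetLike.exists_of_lt (CfsgLib.Coprime.lt_normalizer_inf_of_lt hU hlt)
        have hxM : x ∉ M₁ := by
          intro hx
          have hV : IsPGroup p ↥(T ⊔ Subgroup.zpowers x) :=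
            hU.to_le (sup_le hTU (Subgroup.zpowers_le.2 hxU.1))
          have := hm1 _ hV le_sup_left
            (sup_le (hTD.trans inf_le_left) (Subgroup.zpowers_le.2 hx))
          exact hxT (this.le (Subgroup.mem_sup_right (Subgroup.mem_zpowers x)))
        have hTx : T.map (MulAut.conj x).toMonoidHom = T :=
          CfsgLib.Components.mem_normalizer_iff_map_conj_eq.1 hxU.2
        have hne1 : M₁ ≠ M₁.map (MulAut.conj x).toMonoidHom := fun e => hxM (by
          rw [← normalizer_self hloc h1]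
          exact CfsgLib.Components.mem_normalizer_iff_map_conj_eq.2 e.symm)
        have hQT := core_le hT (hTD.trans inf_le_left) hm1
        refine pair_spec hloc h1 (isMaxLocal_conj h1 x) hne1 ?_ ?_
        · refine hQT.trans ?_
          rw [← hTx]
          exact Subgroup.map_mono (hTD.trans inf_le_left)
        · have hc : coreIn p (M₁.map (MulAut.conj x).toMonoidHom) ≤
              (coreIn p M₁).map (MulAut.conj x).toMonoidHom := by
            show (Cfsg.pCore p _).map _ ≤ ((Cfsg.pCore p _).map _).map _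
            rw [← CfsgLib.Solvable.Cores.map_pCore
              (M₁.equivMapOfInjective (MulAut.conj x).toMonoidHom (MulAut.conj x).injective) p,
              Subgroup.map_map, Subgroup.map_map]
            exact le_of_eq rfl
          refine hc.trans ((Subgroup.map_mono hQT).trans ?_)
          rw [hTx]
          exact hTD.trans inf_le_left
    · push Not at hm1
      obtain ⟨U, hU, hTU, hUM, hUne⟩ := hm1
      have hlt : T < U := lt_of_le_of_ne hTU (Ne.symm hUne)
      have e1 := hgrow M₁ h1 (hTD.trans inf_le_left) U hU hlt hUM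
      have hm2 : ∀ V : Subgroup G, IsPGroup p V → T ≤ V → V ≤ M₂ → V = T := by
        intro V hV hTV hVM
        by_contra hVne
        exact hne (e1.trans (hgrow M₂ h2 (hTD.trans inf_le_right) V hV
          (lt_of_le_of_ne hTV (Ne.symm hVne)) hVM).symm)
      obtain ⟨x, hxU, hxT⟩ := SetLike.exists_of_lt (CfsgLib.Coprime.lt_normalizer_inf_of_lt hU hlt)
      have hxM : x ∉ M₂ := by
        intro hx
        have hV : IsPGroup p ↥(T ⊔ Subgroup.zpowers x) :=
          hU.to_le (sup_le hTU (Subgroup.zpowers_le.2 hxU.1))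
        have := hm2 _ hV le_sup_left
          (sup_le (hTD.trans inf_le_right) (Subgroup.zpowers_le.2 hx))
        exact hxT (this.le (Subgroup.mem_sup_right (Subgroup.mem_zpowers x)))
      have hTx : T.map (MulAut.conj x).toMonoidHom = T :=
        CfsgLib.Components.mem_normalizer_iff_map_conj_eq.1 hxU.2
      have hne2 : M₂ ≠ M₂.map (MulAut.conj x).toMonoidHom := fun e => hxM (by
        rw [← normalizer_self hloc h2]
        exact CfsgLib.Components.mem_normalizer_iff_map_conj_eq.2 e.symm)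
      have hQT := core_le hT (hTD.trans inf_le_right) hm2
      refine pair_spec hloc h2 (isMaxLocal_conj h2 x) hne2 ?_ ?_
      · refine hQT.trans ?_
        rw [← hTx]
        exact Subgroup.map_mono (hTD.trans inf_le_right)
      · have hc : coreIn p (M₂.map (MulAut.conj x).toMonoidHom) ≤
            (coreIn p M₂).map (MulAut.conj x).toMonoidHom := by
          show (Cfsg.pCore p _).map _ ≤ ((Cfsg.pCore p _).map _).map _
          rw [← CfsgLib.Solvable.Cores.map_pCore
            (M₂.equivMapOfInjective (MulAut.conj x).toMonoidHom (MulAut.conj x).injective) p,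
            Subgroup.map_map, Subgroup.map_map]
          exact le_of_eq rfl
        refine hc.trans ((Subgroup.map_mono hQT).trans ?_)
        rw [hTx]
        exact hTD.trans inf_le_right
  · right
    intro M hMloc hMmax
    have hM : IsMaxLocal p M := ⟨hMloc, hMmax⟩
    obtain ⟨T, hT, hTne, hMT⟩ := hMloc
    refine ⟨fun htop => ?_, ?_, fun g hg hdvd => ?_⟩
    · have hn : T.Normal := Subgroup.normalizer_eq_top_iff.1 (hMT.symm.trans htop)
      exact hTne (le_bot_iff.1 (hOp ▸ CfsgLib.Solvable.Cores.le_pCore hT))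
    · obtain ⟨k, hk⟩ := hT.exists_card_eq
      have hk0 : k ≠ 0 := by
        rintro rfl
        exact hTne (Subgroup.eq_bot_of_card_eq _ (by simpa using hk))
      exact ((dvd_pow_self p hk0).trans hk.symm.dvd).trans
        (Subgroup.card_dvd_of_le (hMT ▸ Subgroup.le_normalizer))
    · obtain ⟨x, hx⟩ := exists_prime_orderOf_dvd_card' p hdvd
      refine hex ⟨M, M.map (MulAut.conj g).toMonoidHom, hM, isMaxLocal_conj hM g, fun e => hg (by
        rw [← normalizer_self hloc hM]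
        exact CfsgLib.Components.mem_normalizer_iff_map_conj_eq.2 e.symm),
        Subgroup.zpowers (x : G), IsPGroup.of_card (n := 1)
          (by rw [Nat.card_zpowers, Subgroup.orderOf_coe, hx, pow_one]), ?_,
        Subgroup.zpowers_le.2 x.2⟩
      intro h
      rw [Subgroup.zpowers_eq_bot, ← orderOf_eq_one_iff, Subgroup.orderOf_coe, hx] at h
      exact (Fact.out : p.Prime).ne_one h

end Cfsg.Agent.S3751
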