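import Cfsg.Statements.S3752
import Cfsg.Agent.Lib.Components.Bender
-- import your own Cfsg.Agent.* helpers here

set_option autoImplicit false
open Cfsg

namespace Cfsg.Agent.S3752

open CfsgLib.Components CfsgLib.Components.Bender

variable {G : Type*} [Group G]

/-- A subgroup containing `F*` has the same layer. -/
theorem layer_of_genFitting_le [Finite G] (H : Subgroup G)
    (h : Cfsg.generalizedFittingSubgroup G ≤ H) : (Cfsg.layer ↥H).map H.subtype = Cfsg.layer G := by
  have hE : Cfsg.layer G ≤ H := le_sup_left.trans h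
  have hF : Cfsg.fittingSubgroup G ≤ H := le_sup_right.trans h
  refine le_antisymm ?_ ?_
  · rw [Subgroup.map_le_iff_le_comap, layer_le_iff]
    intro K hK
    show K ≤ (Cfsg.layer G).subgroupOf H
    have : ((Cfsg.layer G).subgroupOf H).Normal := inferInstance
    refine ((IsComponent.le_or_commutator_eq_bot_of_normal hK) _).resolve_right fun hc => ?_
    have : Group.IsSolvable ↥((Cfsg.fittingSubgroup G).subgroupOf H) := by
      have : Group.IsNilpotent ↥(Cfsg.fittingSubgroup G) :=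
        CfsgLib.Solvable.Cores.fittingSubgroup_isNilpotent
      exact Group.isSolvable_of_isSolvable_injective
        (f := (Subgroup.subgroupOfEquivOfLe hF).toMonoidHom) (Subgroup.subgroupOfEquivOfLe hF).injective
    have hcF := IsComponent.commutator_solvable_eq_bot hK
      (N := (Cfsg.fittingSubgroup G).subgroupOf H)
      (by rw [Subgroup.normalizer_eq_top]; exact le_top)
    rw [Subgroup.commutator_eq_bot_iff_le_centralizer] at hc hcF
    have hle : K.map H.subtype ≤ Cfsg.fittingSubgroup G := by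
      refine le_trans ?_ centralizer_generalizedFitting_le_fitting
      have h1 : Cfsg.generalizedFittingSubgroup G ≤
          Subgroup.centralizer ((K.map H.subtype : Subgroup G) : Set G) := by
        refine sup_le ?_ ?_ <;> intro y hy <;> refine Subgroup.mem_centralizer_iff.2 ?_ <;>
          rintro _ ⟨k, hk, rfl⟩
        · exact (congrArg Subtype.val
            (Subgroup.mem_centralizer_iff.1 (hc hk) ⟨y, hE hy⟩ hy)).symm
        · exact (congrArg Subtype.val
            (Subgroup.mem_centralizer_iff.1 (hcF hk) ⟨y, hF hy⟩ hy)).symm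
      exact Subgroup.le_centralizer_iff.1 h1
    refine IsComponent.not_isSolvable hK ?_
    have : Group.IsNilpotent ↥(Cfsg.fittingSubgroup G) :=
      CfsgLib.Solvable.Cores.fittingSubgroup_isNilpotent
    exact Group.isSolvable_of_isSolvable_injective
      (f := (Subgroup.inclusion hle).comp
        (K.equivMapOfInjective H.subtype H.subtype_injective).toMonoidHom)
      ((Subgroup.inclusion_injective hle).comp (MulEquiv.injective _))
  · rw [layer_le_iff]
    intro K hK
    have hKH : K ≤ H := (IsComponent.le_layer hK).trans hE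
    intro x hx
    exact ⟨⟨x, hKH hx⟩, IsComponent.le_layer (IsComponent.subgroupOf hK hKH) hx, rfl⟩

theorem layerIn_eq [Finite G] {M D : Subgroup G} (hDM : D ≤ M)
    (h : (Cfsg.generalizedFittingSubgroup ↥M).map M.subtype ≤ D) :
    layerIn M = layerIn D := by
  have h' : Cfsg.generalizedFittingSubgroup ↥M ≤ D.subgroupOf M := fun x hx =>
    h (Subgroup.mem_map_of_mem _ hx)
  show (Cfsg.layer ↥M).map M.subtype = (Cfsg.layer ↥D).map D.subtype
  rw [← layer_of_genFitting_le _ h', ← layer_map_mulEquiv (Subgroup.subgroupOfEquivOfLe hDM),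
    Subgroup.map_map, Subgroup.map_map]
  congr 1

/-- An element is in a subgroup when all its prime-power-order powers are. -/
theorem mem_of_primary [Finite G] {H : Subgroup G} {z : G}
    (h : ∀ r : ℕ, r.Prime → r ∣ orderOf z → ∀ j : ℕ, IsPGroup r ↥(Subgroup.zpowers (z ^ j)) →
      z ^ j ∈ H) : z ∈ H := by
  suffices hd : orderOf z ∣ Nat.card ↥(H ⊓ Subgroup.zpowers z) by
    rw [← Nat.card_zpowers] at hd
    have := Subgroup.eq_of_le_of_card_ge (inf_le_right : H ⊓ Subgroup.zpowers z ≤ _)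
      (Nat.le_of_dvd Nat.card_pos hd)
    exact (this.symm.le (Subgroup.mem_zpowers z)).1
  refine (Nat.dvd_iff_prime_pow_dvd_dvd _ _).2 fun r k hr hk => ?_
  rcases Nat.eq_zero_or_pos k with rfl | hkpos
  · simp
  have hpos := orderOf_pos z
  set j := orderOf z / r ^ k with hj
  have hord : orderOf (z ^ j) = r ^ k := by
    rw [orderOf_pow' z (Nat.div_pos (Nat.le_of_dvd hpos hk) (pow_pos hr.pos k)).ne',
      Nat.gcd_eq_right (Nat.div_dvd_of_dvd hk), Nat.div_div_self hk hpos.ne']
  have hmem := h r hr ((dvd_pow_self r hkpos.ne').trans hk) j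
    (IsPGroup.of_card (n := k) (by rw [Nat.card_zpowers, hord]))
  rw [← hord]
  exact (Subgroup.orderOf_mk _ _).symm.dvd.trans
    (orderOf_dvd_natCard (⟨z ^ j, hmem, Subgroup.npow_mem_zpowers z j⟩ :
      ↥(H ⊓ Subgroup.zpowers z)))

/-- The heart of Bender's argument: `p'`-elements of `M₁` centralizing `O_p(M₁)` centralize
`O_p(M₂)`. -/
theorem commute_cores [Finite G] {M₁ M₂ : Subgroup G} {p : ℕ} [hp : Fact p.Prime]
    (hE : layerIn M₁ = ⊥) (h₁ : ∀ r : ℕ, r.Prime → coreIn r M₁ ≤ M₂)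
    (h₂ : coreIn p M₂ ≤ M₁) {x y : G} (hxM : x ∈ M₁)
    (hxC : x ∈ Subgroup.centralizer (coreIn p M₁ : Set G)) (hxo : (orderOf x).Coprime p)
    (hy : y ∈ coreIn p M₂) : y * x = x * y := by
  have hyM : y ∈ M₁ := h₂ hy
  have hyA : ∀ r : ℕ, r.Prime → r ≠ p → y ∈ Subgroup.centralizer (coreIn r M₁ : Set G) := by
    intro r hr hne
    have := Fact.mk hr
    exact commutator_eq_bot_of_normalize (h₂.trans (le_normalizer_coreIn r M₁))
      ((h₁ r hr).trans (le_normalizer_coreIn p M₂))
      (coreIn_inf_eq_bot (Ne.symm hne) M₂ M₁) hy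
  set z := y * x * y⁻¹ * x⁻¹ with hz
  have hzM : z ∈ M₁ := by
    simp only [hz]; exact mul_mem (mul_mem (mul_mem hyM hxM) (inv_mem hyM)) (inv_mem hxM)
  have hmemE : ∀ w : G, w ∈ Subgroup.centralizer (layerIn M₁ : Set G) := fun w => by
    rw [hE]; simp [Subgroup.mem_centralizer_iff]
  have hzC : ∀ r : ℕ, r.Prime → z ∈ Subgroup.centralizer (coreIn r M₁ : Set G) := by
    intro r hr
    set R := coreIn r M₁ with hR
    have hconj : ∀ g ∈ M₁, ∀ c ∈ Subgroup.centralizer (R : Set G),
        g * c * g⁻¹ ∈ Subgroup.centralizer (R : Set G) := by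
      intro g hg c hc
      refine Subgroup.mem_centralizer_iff.2 fun u hu => ?_
      have hu' : g⁻¹ * u * g ∈ R := by
        simpa using (Subgroup.mem_normalizer_iff.1
          (le_normalizer_coreIn r M₁ (inv_mem hg)) u).1 hu
      have hcomm := Subgroup.mem_centralizer_iff.1 hc _ hu'
      have := congrArg (fun t => g * t * g⁻¹) hcomm
      simpa [mul_assoc] using this
    by_cases hrp : r = p
    · subst hrp
      simp only [hz]
      exact mul_mem (hconj y hyM x hxC) (inv_mem hxC)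
    · have h := mul_mem (hyA r hr hrp) (hconj x hxM _ (inv_mem (hyA r hr hrp)))
      simpa [hz, R, mul_assoc] using h
  have hzF : z ∈ fitIn M₁ := mem_fitIn_of_centralizes hzM hzC (hmemE z)
  -- conjugates of `z` under powers of `x`
  have hzx : ∀ i : ℕ, x ^ i * z * (x ^ i)⁻¹ ∈ fitIn M₁ ∧
      ∀ r : ℕ, r.Prime → x ^ i * z * (x ^ i)⁻¹ ∈ Subgroup.centralizer (coreIn r M₁ : Set G) := by
    intro i
    have hxi : x ^ i ∈ M₁ := pow_mem hxM i
    have hcc : ∀ r : ℕ, r.Prime →
        x ^ i * z * (x ^ i)⁻¹ ∈ Subgroup.centralizer (coreIn r M₁ : Set G) := by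
      intro r hr
      refine Subgroup.mem_centralizer_iff.2 fun u hu => ?_
      have hu' : (x ^ i)⁻¹ * u * x ^ i ∈ coreIn r M₁ := by
        simpa using (Subgroup.mem_normalizer_iff.1
          (le_normalizer_coreIn r M₁ (inv_mem hxi)) u).1 hu
      have hcomm := Subgroup.mem_centralizer_iff.1 (hzC r hr) _ hu'
      have := congrArg (fun t => x ^ i * t * (x ^ i)⁻¹) hcomm
      simpa [mul_assoc] using this
    exact ⟨mem_fitIn_of_centralizes (mul_mem (mul_mem hxi hzM) (inv_mem hxi)) hcc (hmemE _), hcc⟩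
  have hcent : ∀ a ∈ fitIn M₁, ∀ b : G,
      (∀ r : ℕ, r.Prime → b ∈ Subgroup.centralizer (coreIn r M₁ : Set G)) → Commute a b := by
    intro a ha b hb
    have : fitIn M₁ ≤ Subgroup.centralizer {b} := le_of_parts le_rfl fun s hs _ u hu =>
      Subgroup.mem_centralizer_singleton_iff.2 (Subgroup.mem_centralizer_iff.1 (hb s hs) u hu.1)
    exact Subgroup.mem_centralizer_singleton_iff.1 (this ha)
  set n := orderOf x with hn
  set m := (orderOf z) / p ^ (orderOf z).factorization p with hm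
  have hzmQ : z ^ m ∈ coreIn p M₁ := by
    refine mem_coreIn (pow_mem hzF m) (IsPGroup.of_card (n := (orderOf z).factorization p) ?_)
    have hk := Nat.ordProj_dvd (orderOf z) p
    have hpos := orderOf_pos z
    rw [Nat.card_zpowers, orderOf_pow' z
      (Nat.div_pos (Nat.le_of_dvd hpos hk) (pow_pos hp.out.pos _)).ne',
      Nat.gcd_eq_right (Nat.div_dvd_of_dvd hk), Nat.div_div_self hk hpos.ne']
  have hprod : ∀ i : ℕ, ((z * x) ^ i * (x ^ i)⁻¹) ∈ fitIn M₁ ∧
      ((z * x) ^ i * (x ^ i)⁻¹) ^ m = (z ^ m) ^ i := by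
    intro i
    induction i with
    | zero => simp
    | succ i ih =>
      have e : (z * x) ^ (i + 1) * (x ^ (i + 1))⁻¹ =
          ((z * x) ^ i * (x ^ i)⁻¹) * (x ^ i * z * (x ^ i)⁻¹) := by
        rw [pow_succ, pow_succ]; group
      rw [e]
      refine ⟨mul_mem ih.1 (hzx i).1, ?_⟩
      rw [(hcent _ ih.1 _ (hzx i).2).mul_pow, ih.2, conj_pow, pow_succ (z ^ m)]
      congr 1
      have hxi : x ^ i ∈ Subgroup.centralizer (coreIn p M₁ : Set G) := pow_mem hxC i
      rw [← Subgroup.mem_centralizer_iff.1 hxi _ hzmQ, mul_inv_cancel_right]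
  have hzm : (z ^ m) ^ n = 1 := by
    rw [← (hprod n).2]
    have : z * x = y * x * y⁻¹ := by simp [hz]
    rw [this, conj_pow, hn, pow_orderOf_eq_one]
    simp
  have hzm1 : z ^ m = 1 := by
    obtain ⟨k, hk⟩ := isPGroup_coreIn p M₁ ⟨z ^ m, hzmQ⟩
    have hk' : (z ^ m) ^ p ^ k = 1 := congrArg Subtype.val hk
    exact orderOf_eq_one_iff.1 (Nat.eq_one_of_dvd_coprimes (Nat.Coprime.pow_right k hxo)
      (orderOf_dvd_of_pow_eq_one hzm) (orderOf_dvd_of_pow_eq_one hk'))
  have hzp : ¬ p ∣ orderOf z := by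
    intro hd
    have h1 := orderOf_dvd_of_pow_eq_one hzm1
    exact (Nat.not_dvd_ordCompl hp.out (orderOf_pos z).ne') (hd.trans h1)
  have hyz : z ∈ Subgroup.centralizer {y} := by
    refine mem_of_primary fun r hr hrd j hj => ?_
    have := Fact.mk hr
    have hne : r ≠ p := fun h => hzp (h ▸ hrd)
    exact Subgroup.mem_centralizer_singleton_iff.2
      (Subgroup.mem_centralizer_iff.1 (hyA r hr hne) _ (mem_coreIn (pow_mem hzF j) hj))
  have hyz' : Commute z y := Subgroup.mem_centralizer_singleton_iff.1 hyz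
  have hpow : ∀ i : ℕ, y ^ i * x * (y ^ i)⁻¹ = z ^ i * x := by
    intro i
    induction i with
    | zero => simp
    | succ i ih =>
      have e : y ^ (i + 1) * x * (y ^ (i + 1))⁻¹ = y * (y ^ i * x * (y ^ i)⁻¹) * y⁻¹ := by
        rw [pow_succ' y i]; group
      rw [e, ih]
      have : y * (z ^ i * x) * y⁻¹ = z ^ i * (y * x * y⁻¹) := by
        rw [← mul_assoc, ← (hyz'.pow_left i).eq]; simp [mul_assoc]
      rw [this, pow_succ z i, mul_assoc]
      simp [hz, mul_assoc]
  have hz1 : z = 1 := by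
    obtain ⟨k, hk⟩ := isPGroup_coreIn p M₂ ⟨y, hy⟩
    have hk' : y ^ p ^ k = 1 := congrArg Subtype.val hk
    have h := hpow (p ^ k)
    rw [hk'] at h
    have h' : z ^ p ^ k = 1 := by simpa using h.symm
    exact orderOf_eq_one_iff.1 (Nat.eq_one_of_dvd_coprimes
      ((hp.out.coprime_iff_not_dvd.2 hzp).pow_left k)
      (orderOf_dvd_of_pow_eq_one h') dvd_rfl)
  have h : z * (x * y) = y * x := by simp [hz, mul_assoc]
  rw [hz1, one_mul] at h
  exact h.symm

/-- The subgroup generated by the `p'`-elements of `M` centralizing `O_p(M)`. -/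
def primePart (p : ℕ) (M : Subgroup G) : Subgroup G :=
  Subgroup.closure {x : G | x ∈ M ∧ x ∈ Subgroup.centralizer (coreIn p M : Set G) ∧
    (orderOf x).Coprime p}

theorem le_normalizer_primePart [Finite G] (p : ℕ) (M : Subgroup G) :
    M ≤ Subgroup.normalizer (primePart p M : Set G) := by
  intro m hm
  refine Subgroup.mem_normalizer_iff_map_conj_eq.2 ?_
  have key : ∀ g ∈ M, (primePart p M).map ((MulAut.conj g : MulAut G) : G →* G) ≤ primePart p M := by
    intro g hg
    rw [primePart, MonoidHom.map_closure, Subgroup.closure_le]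
    rintro _ ⟨x, ⟨hx1, hx2, hx3⟩, rfl⟩
    refine Subgroup.subset_closure ⟨?_, ?_, ?_⟩
    · exact mul_mem (mul_mem hg hx1) (inv_mem hg)
    · refine Subgroup.mem_centralizer_iff.2 fun u hu => ?_
      have hu' : g⁻¹ * u * g ∈ coreIn p M := by
        simpa using (Subgroup.mem_normalizer_iff.1
          (le_normalizer_coreIn p M (inv_mem hg)) u).1 hu
      have hcomm := Subgroup.mem_centralizer_iff.1 hx2 _ hu'
      have := congrArg (fun t => g * t * g⁻¹) hcomm
      simpa [mul_assoc] using this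
    · have : orderOf (((MulAut.conj g : MulAut G) : G →* G) x) = orderOf x :=
        orderOf_injective _ (MulAut.conj g).injective x
      rwa [this]
  refine Subgroup.eq_of_le_of_card_ge (key m hm) ?_
  rw [Nat.card_congr (Subgroup.equivMapOfInjective (primePart p M) _
    (show Function.Injective ((MulAut.conj m : MulAut G) : G →* G) from
      (MulAut.conj m).injective)).toEquiv]

theorem eq_bot_of_coreIn [Finite G] {M : Subgroup G} (hE : layerIn M = ⊥)
    (h : ∀ r : ℕ, r.Prime → coreIn r M = ⊥) : M = ⊥ := by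
  rw [eq_bot_iff]
  intro x hx
  have hc : ∀ s : ℕ, s.Prime → x ∈ Subgroup.centralizer (coreIn s M : Set G) := fun s hs => by
    rw [h s hs]; simp [Subgroup.mem_centralizer_iff]
  have hxF := mem_fitIn_of_centralizes hx hc (by rw [hE]; simp [Subgroup.mem_centralizer_iff])
  have : fitIn M ≤ ⊥ := le_of_parts le_rfl fun s hs _ => by rw [h s hs]; simp
  exact this hxF

theorem charP_of_one_prime [Finite G] {M : Subgroup G} {p : ℕ} (hE : layerIn M = ⊥)
    (h : ∀ r : ℕ, r.Prime → r ≠ p → coreIn r M = ⊥) :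
    Subgroup.centralizer (Cfsg.pCore p ↥M : Set ↥M) ≤ Cfsg.pCore p ↥M := by
  intro x hx
  have hc : ∀ s : ℕ, s.Prime → (x : G) ∈ Subgroup.centralizer (coreIn s M : Set G) := fun s hs => by
    by_cases hsp : s = p
    · subst hsp
      refine Subgroup.mem_centralizer_iff.2 ?_
      rintro _ ⟨u, hu, rfl⟩
      exact congrArg Subtype.val (Subgroup.mem_centralizer_iff.1 hx u hu)
    · rw [h s hs hsp]; simp [Subgroup.mem_centralizer_iff]
  have hxF := mem_fitIn_of_centralizes x.2 hc (by rw [hE]; simp [Subgroup.mem_centralizer_iff])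
  have hle : fitIn M ≤ coreIn p M := le_of_parts le_rfl fun s hs _ => by
    by_cases hsp : s = p
    · subst hsp; exact inf_le_left
    · rw [h s hs hsp]; simp
  exact (Subgroup.mem_map_iff_mem M.subtype_injective).1 (hle hxF)

/-- Bender's Theorem on primitive pairs. Two distinct subgroups M₁, M₂ of G form a primitive pair when, for {i, j} = {1, 2}, every non-trivial normal subgroup A of M_i contained in M₁ ∩ M₂ satisfies N_{M_j}(A) = M₁ ∩ M₂; the pair has characteristic p when moreover C_{M_i}(O_p(M_i)) ≤ O_p(M_i) for both i and O_p(M₁)O_p(M₂) ≤ M₁ ∩ M₂. If (M₁, M₂) is a primitive pair of the finite group G with F*(M₁) ≤ M₂ and F*(M₂) ≤ M₁, then for some prime p the pair has characteristic p. -/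
theorem result {G : Type*} [Group G] [Finite G] (M₁ M₂ : Subgroup G) (hne : M₁ ≠ M₂) (hP : ∀ A : Subgroup G, A ≠ ⊥ → A ≤ M₁ ⊓ M₂ → (M₁ ≤ Subgroup.normalizer (A : Set G) → M₂ ⊓ Subgroup.normalizer (A : Set G) = M₁ ⊓ M₂) ∧ (M₂ ≤ Subgroup.normalizer (A : Set G) → M₁ ⊓ Subgroup.normalizer (A : Set G) = M₁ ⊓ M₂)) (h₁ : (Cfsg.generalizedFittingSubgroup ↥M₁).map M₁.subtype ≤ M₂) (h₂ : (Cfsg.generalizedFittingSubgroup ↥M₂).map M₂.subtype ≤ M₁) : ∃ p : ℕ, p.Prime ∧ Subgroup.centralizer (Cfsg.pCore p ↥M₁ : Set ↥M₁) ≤ Cfsg.pCore p ↥M₁ ∧ Subgroup.centralizer (Cfsg.pCore p ↥M₂ : Set ↥M₂) ≤ Cfsg.pCore p ↥M₂ ∧ (Cfsg.pCore p ↥M₁).map M₁.subtype ⊔ (Cfsg.pCore p ↥M₂).map M₂.subtype ≤ M₁ ⊓ M₂ := by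
  set D := M₁ ⊓ M₂ with hD
  have hD₁ : (Cfsg.generalizedFittingSubgroup ↥M₁).map M₁.subtype ≤ D :=
    le_inf (Subgroup.map_subtype_le _) h₁
  have hD₂ : (Cfsg.generalizedFittingSubgroup ↥M₂).map M₂.subtype ≤ D :=
    le_inf h₂ (Subgroup.map_subtype_le _)
  have hboth : ∀ A : Subgroup G, A ≤ D → M₁ ≤ Subgroup.normalizer (A : Set G) →
      M₂ ≤ Subgroup.normalizer (A : Set G) → A = ⊥ := by
    intro A hA hn₁ hn₂
    by_contra hne'
    have e₁ := (hP A hne' hA).1 hn₁
    have e₂ := (hP A hne' hA).2 hn₂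
    rw [inf_eq_left.2 hn₂] at e₁
    rw [inf_eq_left.2 hn₁] at e₂
    exact hne (e₂.trans e₁.symm)
  have hE₁ : layerIn M₁ = ⊥ := by
    refine hboth _ ((Subgroup.map_mono le_sup_left).trans hD₁) (le_normalizer_layerIn M₁) ?_
    rw [layerIn_eq inf_le_left hD₁, ← layerIn_eq inf_le_right hD₂]
    exact le_normalizer_layerIn M₂
  have hE₂ : layerIn M₂ = ⊥ := by
    rw [layerIn_eq inf_le_right hD₂, ← layerIn_eq inf_le_left hD₁]; exact hE₁
  have hQ₁ : ∀ r : ℕ, r.Prime → coreIn r M₁ ≤ D := fun r hr => by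
    have := Fact.mk hr
    exact ((coreIn_le_fitIn r M₁).trans (Subgroup.map_mono le_sup_right)).trans hD₁
  have hQ₂ : ∀ r : ℕ, r.Prime → coreIn r M₂ ≤ D := fun r hr => by
    have := Fact.mk hr
    exact ((coreIn_le_fitIn r M₂).trans (Subgroup.map_mono le_sup_right)).trans hD₂
  -- some prime divides `|F(M₁)|`
  have hex : ∀ M : Subgroup G, layerIn M = ⊥ → M ≠ ⊥ → ∃ p : ℕ, p.Prime ∧ coreIn p M ≠ ⊥ := by
    intro M hE hMne
    by_contra hc
    push Not at hc
    exact hMne (eq_bot_of_coreIn hE hc)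
  obtain ⟨p, hp, hpne⟩ : ∃ p : ℕ, p.Prime ∧ (coreIn p M₁ ≠ ⊥ ∨ coreIn p M₂ ≠ ⊥) := by
    by_cases h1 : M₁ = ⊥
    · obtain ⟨p, hp, h⟩ := hex M₂ hE₂ (fun h2 => hne (h1.trans h2.symm))
      exact ⟨p, hp, Or.inr h⟩
    · obtain ⟨p, hp, h⟩ := hex M₁ hE₁ h1
      exact ⟨p, hp, Or.inl h⟩
  have := Fact.mk hp
  -- every `p'`-core is trivial
  have hsym : ∀ {A B : Subgroup G}, layerIn A = ⊥ →
      (∀ r : ℕ, r.Prime → coreIn r A ≤ B) → (∀ r : ℕ, r.Prime → coreIn r B ≤ A) →
      ∀ (q : ℕ), q.Prime → ∀ x : G, x ∈ A → x ∈ Subgroup.centralizer (coreIn q A : Set G) →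
        (orderOf x).Coprime q → x ∈ Subgroup.centralizer (coreIn q B : Set G) := by
    intro A B hE hA hB q hq x hxA hxC hxo
    have := Fact.mk hq
    exact Subgroup.mem_centralizer_iff.2 fun y hy =>
      commute_cores hE hA (hB q hq) hxA hxC hxo hy
  have hsame : ∀ q : ℕ, q.Prime → (coreIn q M₁ ≠ ⊥ ∨ coreIn q M₂ ≠ ⊥) →
      primePart q M₁ = ⊥ ∧ primePart q M₂ = ⊥ := by
    intro q hq hqne
    have := Fact.mk hq
    have hx₁ : ∀ x : G, x ∈ M₁ → x ∈ Subgroup.centralizer (coreIn q M₁ : Set G) →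
        (orderOf x).Coprime q → x ∈ M₂ := by
      intro x hxM hxC hxo
      have hxC2 := hsym hE₁ (fun r hr => (hQ₁ r hr).trans inf_le_right)
        (fun r hr => (hQ₂ r hr).trans inf_le_left) q hq x hxM hxC hxo
      by_cases h : coreIn q M₂ = ⊥
      · have hq1 : coreIn q M₁ ≠ ⊥ := hqne.resolve_right (not_not.2 h)
        exfalso
        refine hq1 ?_
        have hFq : coreIn q M₁ ≤ fitIn M₂ := by
          intro w hw
          refine mem_fitIn_of_centralizes ((hQ₁ q hq) hw).2 (fun s hs => ?_)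
            (by rw [hE₂]; simp [Subgroup.mem_centralizer_iff])
          by_cases hsq : s = q
          · subst hsq; rw [h]; simp [Subgroup.mem_centralizer_iff]
          · have := Fact.mk hs
            exact commutator_eq_bot_of_normalize (((hQ₁ q hq).trans inf_le_right).trans
              (le_normalizer_coreIn s M₂)) (((hQ₂ s hs).trans inf_le_left).trans
              (le_normalizer_coreIn q M₁)) (coreIn_inf_eq_bot (Ne.symm hsq) M₁ M₂) hw
        rw [eq_bot_iff, ← h]
        intro w hw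
        exact mem_coreIn (hFq hw)
          ((isPGroup_coreIn q M₁).to_le (Subgroup.zpowers_le.2 hw))
      · have e := (hP _ h (hQ₂ q hq)).2 (le_normalizer_coreIn q M₂)
        exact (e.le ⟨hxM, Subgroup.centralizer_le_normalizer _ hxC2⟩).2
    have hx₂ : ∀ x : G, x ∈ M₂ → x ∈ Subgroup.centralizer (coreIn q M₂ : Set G) →
        (orderOf x).Coprime q → x ∈ M₁ := by
      intro x hxM hxC hxo
      have hxC1 := hsym hE₂ (fun r hr => (hQ₂ r hr).trans inf_le_left)
        (fun r hr => (hQ₁ r hr).trans inf_le_right) q hq x hxM hxC hxo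
      by_cases h : coreIn q M₁ = ⊥
      · have hq2 : coreIn q M₂ ≠ ⊥ := hqne.resolve_left (not_not.2 h)
        exfalso
        refine hq2 ?_
        have hFq : coreIn q M₂ ≤ fitIn M₁ := by
          intro w hw
          refine mem_fitIn_of_centralizes ((hQ₂ q hq) hw).1 (fun s hs => ?_)
            (by rw [hE₁]; simp [Subgroup.mem_centralizer_iff])
          by_cases hsq : s = q
          · subst hsq; rw [h]; simp [Subgroup.mem_centralizer_iff]
          · have := Fact.mk hs
            exact commutator_eq_bot_of_normalize (((hQ₂ q hq).trans inf_le_left).trans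
              (le_normalizer_coreIn s M₁)) (((hQ₁ s hs).trans inf_le_right).trans
              (le_normalizer_coreIn q M₂)) (coreIn_inf_eq_bot (Ne.symm hsq) M₂ M₁) hw
        rw [eq_bot_iff, ← h]
        intro w hw
        exact mem_coreIn (hFq hw)
          ((isPGroup_coreIn q M₂).to_le (Subgroup.zpowers_le.2 hw))
      · have e := (hP _ h (hQ₁ q hq)).1 (le_normalizer_coreIn q M₁)
        exact (e.le ⟨hxM, Subgroup.centralizer_le_normalizer _ hxC1⟩).1
    have heq : primePart q M₁ = primePart q M₂ := by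
      refine le_antisymm ?_ ?_ <;> rw [primePart, Subgroup.closure_le] <;>
        rintro x ⟨hxM, hxC, hxo⟩ <;> refine Subgroup.subset_closure ?_
      · exact ⟨hx₁ x hxM hxC hxo, hsym hE₁ (fun r hr => (hQ₁ r hr).trans inf_le_right)
          (fun r hr => (hQ₂ r hr).trans inf_le_left) q hq x hxM hxC hxo, hxo⟩
      · exact ⟨hx₂ x hxM hxC hxo, hsym hE₂ (fun r hr => (hQ₂ r hr).trans inf_le_left)
          (fun r hr => (hQ₁ r hr).trans inf_le_right) q hq x hxM hxC hxo, hxo⟩
    have hle : primePart q M₁ ≤ D := by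
      rw [primePart, Subgroup.closure_le]
      rintro x ⟨hxM, hxC, hxo⟩
      exact ⟨hxM, hx₁ x hxM hxC hxo⟩
    have h0 : primePart q M₁ = ⊥ :=
      hboth _ hle (le_normalizer_primePart q M₁) (heq ▸ le_normalizer_primePart q M₂)
    exact ⟨h0, heq ▸ h0⟩
  have hother : ∀ r : ℕ, r.Prime → r ≠ p → coreIn r M₁ = ⊥ ∧ coreIn r M₂ = ⊥ := by
    intro r hr hrp
    have := Fact.mk hr
    have key : ∀ M : Subgroup G, primePart p M = ⊥ → coreIn r M = ⊥ := fun M hM => by
      rw [eq_bot_iff, ← hM]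
      intro x hx
      refine Subgroup.subset_closure ⟨coreIn_le r M hx, coreIn_le_centralizer hrp M hx, ?_⟩
      obtain ⟨k, hk⟩ := isPGroup_coreIn r M ⟨x, hx⟩
      have hk' : x ^ r ^ k = 1 := congrArg Subtype.val hk
      exact Nat.Coprime.coprime_dvd_left (orderOf_dvd_of_pow_eq_one hk')
        (((Nat.coprime_primes hr hp).2 hrp).pow_left k)
    exact ⟨key M₁ (hsame p hp hpne).1, key M₂ (hsame p hp hpne).2⟩
  exact ⟨p, hp, charP_of_one_prime hE₁ fun r hr h => (hother r hr h).1,
    charP_of_one_prime hE₂ fun r hr h => (hother r hr h).2,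
    sup_le (hQ₁ p hp) (hQ₂ p hp)⟩

end Cfsg.Agent.S3752
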