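import Cfsg.Statements.S3753
import Cfsg.Agent.Lib.Coprime.PrimitivePair
-- import your own Cfsg.Agent.* helpers here

set_option autoImplicit false
open Cfsg

namespace Cfsg.Agent.S3753

open Subgroup CfsgLib.Solvable CfsgLib.Coprime
open scoped commutatorElement

section Helpers

universe u
variable {G : Type u} [Group G] [Finite G] {p : ℕ} [Fact p.Prime]

theorem le_of_two (M : Subgroup G) (hc : centralizer (Cfsg.pCore 2 M : Set M) ≤ Cfsg.pCore 2 M)
    (hab : ∀ S : Sylow 2 M, IsMulCommutative (S : Subgroup M)) {P : Subgroup G} (hPM : P ≤ M)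
    (hP : IsPGroup 2 P) : P ≤ (Cfsg.pCore 2 M).map M.subtype := by
  haveI : Fact (Nat.Prime 2) := ⟨Nat.prime_two⟩
  obtain ⟨S, hS⟩ := (hP.comap_of_injective M.subtype M.subtype_injective).exists_le_sylow
  haveI := hab S
  have hSQ : (S : Subgroup M) ≤ Cfsg.pCore 2 M := fun s hs =>
    hc (mem_centralizer_iff.mpr fun q hq => congrArg Subtype.val
      (mul_comm' (⟨q, Cores.pCore_le_sylow S hq⟩ : (S : Subgroup M)) ⟨s, hs⟩))
  exact fun x hx => ⟨⟨x, hPM hx⟩, hSQ (hS hx), rfl⟩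

theorem normalizes_pCore (M : Subgroup G) : M ≤ normalizer (((Cfsg.pCore p M).map M.subtype : Subgroup G) : Set G) :=
  fun _ hg => CfsgLib.OddOrder.PStable.normalizer_le_normalizer_map M _ (le_normalizer hg)

theorem exists_good (M : Subgroup G) (hc : centralizer (Cfsg.pCore p M : Set M) ≤ Cfsg.pCore p M)
    (hM : M ≠ ⊥) (hab : ∀ S : Sylow 2 M, IsMulCommutative (S : Subgroup M)) :
    ∃ Y, PrimitivePair.Good p M ((Cfsg.pCore p M).map M.subtype) Y := by
  haveI : Fact (Nat.Prime 2) := ⟨Nat.prime_two⟩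
  have hQ : Cfsg.pCore p M ≠ ⊥ := by
    intro h
    rw [h] at hc
    refine hM (eq_bot_iff.mpr fun x hx => ?_)
    have h1 : (⟨x, hx⟩ : M) ∈ (⊥ : Subgroup M) := hc (mem_centralizer_iff.mpr fun q hq => by
      rw [SetLike.mem_coe, mem_bot] at hq; rw [hq, mul_one, one_mul])
    rw [mem_bot] at h1 ⊢
    exact congrArg Subtype.val h1
  obtain ⟨N, hNn, hN, hNQ, hmin⟩ := CfsgLib.Solvable.Basic.exists_minimal_normal_le (H := Cfsg.pCore p M) hQ
  have hNp : IsPGroup p N := (Cores.isPGroup_pCore p).to_le hNQ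
  have hNc : IsMulCommutative N := by
    have hlt := commutator_lt_of_isPGroup hNp hNp le_normalizer hN
    have h := (hmin ⁅N, N⁆ inferInstance hlt.le).resolve_right hlt.ne
    exact ⟨⟨fun a b => Subtype.ext (commutatorElement_eq_one_iff_mul_comm.mp
      (mem_bot.mp (h ▸ commutator_mem_commutator a.2 b.2)))⟩⟩
  refine ⟨N.map M.subtype, map_mono hNQ, map_subtype_le _, normalizes_pCore M,
    (Cores.isPGroup_pCore p).map _, ?_, ?_, ?_, (by haveI := hNc; infer_instance),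
    fun h => hN ((map_eq_bot_iff_of_injective _ M.subtype_injective).mp h), ?_, ?_⟩
  · intro P hP hn hPp x hx
    haveI : (P.comap M.subtype).Normal := normal_subgroupOf_of_le_normalizer hn
    exact ⟨⟨x, hP hx⟩, Cores.le_pCore (hPp.comap_of_injective M.subtype M.subtype_injective) hx, rfl⟩
  · rintro x ⟨hxM, hx⟩
    refine ⟨⟨x, hxM⟩, hc (mem_centralizer_iff.mpr fun q hq => Subtype.ext ?_), rfl⟩
    exact mem_centralizer_iff.mp hx q ⟨q, hq, rfl⟩
  · intro g hg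
    refine mem_normalizer_of_conj_map_le ?_
    rintro _ ⟨n, hn, rfl⟩
    exact ⟨⟨g, hg⟩ * n * ⟨g, hg⟩⁻¹, hNn.conj_mem n hn _, rfl⟩
  · intro W hW hn
    haveI := normal_subgroupOf_of_le_normalizer hn
    have hWM : W ≤ M := hW.trans (map_subtype_le _)
    have hle : W.subgroupOf M ≤ N := fun w hw => by
      obtain ⟨v, hv, hve⟩ := hW hw
      exact M.subtype_injective hve ▸ hv
    rcases hmin _ inferInstance hle with h | h
    · exact Or.inl ((subgroupOf_eq_bot.mp h).eq_bot_of_le hWM)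
    · exact Or.inr (by rw [← h, map_subgroupOf_eq_of_le hWM])
  · intro S hS hS2
    obtain ⟨T, hT⟩ := (hS2.comap_of_injective M.subtype M.subtype_injective).exists_le_sylow
    haveI := hab T
    exact ⟨⟨fun a b => Subtype.ext (congrArg (fun t : (T : Subgroup M) => ((t : M) : G))
      (mul_comm' (⟨⟨a, hS a.2⟩, hT a.2⟩ : (T : Subgroup M)) ⟨⟨b, hS b.2⟩, hT b.2⟩))⟩⟩

end Helpers

/-- Two distinct subgroups M₁, M₂ of G form a primitive pair when, for {i, j} = {1, 2}, every non-trivial normal subgroup A of M_i contained in M₁ ∩ M₂ satisfies N_{M_j}(A) = M₁ ∩ M₂; the pair has characteristic p when moreover C_{M_i}(O_p(M_i)) ≤ O_p(M_i) for both i and O_p(M₁)O_p(M₂) ≤ M₁ ∩ M₂. If the finite group G has a primitive pair (M₁, M₂) of characteristic p for some prime p, then M₁ or M₂ has non-abelian Sylow 2-subgroups. In particular no group of odd order has a primitive pair of characteristic p. -/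
theorem result {G : Type*} [Group G] [Finite G] {p : ℕ} [Fact p.Prime] (M₁ M₂ : Subgroup G) (hne : M₁ ≠ M₂) (hP : ∀ A : Subgroup G, A ≠ ⊥ → A ≤ M₁ ⊓ M₂ → (M₁ ≤ Subgroup.normalizer (A : Set G) → M₂ ⊓ Subgroup.normalizer (A : Set G) = M₁ ⊓ M₂) ∧ (M₂ ≤ Subgroup.normalizer (A : Set G) → M₁ ⊓ Subgroup.normalizer (A : Set G) = M₁ ⊓ M₂)) (hc₁ : Subgroup.centralizer (Cfsg.pCore p ↥M₁ : Set ↥M₁) ≤ Cfsg.pCore p ↥M₁) (hc₂ : Subgroup.centralizer (Cfsg.pCore p ↥M₂ : Set ↥M₂) ≤ Cfsg.pCore p ↥M₂) (hO : (Cfsg.pCore p ↥M₁).map M₁.subtype ⊔ (Cfsg.pCore p ↥M₂).map M₂.subtype ≤ M₁ ⊓ M₂) : (∃ S : Sylow 2 ↥M₁, ¬ IsMulCommutative (S : Subgroup ↥M₁)) ∨ (∃ S : Sylow 2 ↥M₂, ¬ IsMulCommutative (S : Subgroup ↥M₂)) := by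
  classical
  by_contra hcon
  push Not at hcon
  obtain ⟨hab₁, hab₂⟩ := hcon
  set Q₁ := (Cfsg.pCore p ↥M₁).map M₁.subtype with hQ₁
  set Q₂ := (Cfsg.pCore p ↥M₂).map M₂.subtype with hQ₂
  have hQ12 : Q₁ ≤ M₁ ⊓ M₂ := le_sup_left.trans hO
  have hQ21 : Q₂ ≤ M₁ ⊓ M₂ := le_sup_right.trans hO
  have hbot : ∀ (M : Subgroup G), Subgroup.centralizer (Cfsg.pCore p ↥M : Set ↥M) ≤ Cfsg.pCore p ↥M →
      (Cfsg.pCore p ↥M).map M.subtype = ⊥ → M = ⊥ := by
    intro M hc h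
    rw [map_eq_bot_iff_of_injective _ M.subtype_injective] at h
    rw [h] at hc
    rw [eq_bot_iff]
    intro x hx
    have h1 : (⟨x, hx⟩ : M) ∈ (⊥ : Subgroup M) := hc (mem_centralizer_iff.mpr fun q hq => by
      rw [SetLike.mem_coe, mem_bot] at hq; rw [hq, mul_one, one_mul])
    rw [mem_bot] at h1 ⊢
    exact congrArg Subtype.val h1
  have hM₁ : M₁ ≠ ⊥ := fun h => hne (h.trans (hbot M₂ hc₂
    (le_bot_iff.mp (hQ21.trans (inf_le_left.trans h.le)))).symm)
  have hM₂ : M₂ ≠ ⊥ := fun h => hne ((hbot M₁ hc₁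
    (le_bot_iff.mp (hQ12.trans (inf_le_right.trans h.le)))).trans h.symm)
  -- a common normal subgroup of the intersection contradicts primitivity
  have hfinish : ∀ N : Subgroup G, N ≠ ⊥ → N ≤ M₁ ⊓ M₂ → M₁ ≤ Subgroup.normalizer (N : Set G) →
      M₂ ≤ Subgroup.normalizer (N : Set G) → False := by
    intro N hN hNle h1 h2
    have e1 := (hP N hN hNle).1 h1
    rw [inf_eq_left.mpr h2] at e1
    have e2 := (hP N hN hNle).2 h2
    rw [inf_eq_left.mpr h1] at e2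
    exact hne (e2.trans e1.symm)
  by_cases hp2 : p = 2
  · subst hp2
    have hp1 : IsPGroup 2 Q₂ := (Cores.isPGroup_pCore 2).map _
    have hp1' : IsPGroup 2 Q₁ := (Cores.isPGroup_pCore 2).map _
    have e1 : Q₂ ≤ Q₁ := le_of_two M₁ hc₁ hab₁ (hQ21.trans inf_le_left) hp1
    have e2 : Q₁ ≤ Q₂ := le_of_two M₂ hc₂ hab₂ (hQ12.trans inf_le_right) hp1'
    refine hfinish Q₁ (fun h => hM₁ (hbot M₁ hc₁ h)) hQ12 (normalizes_pCore M₁) ?_
    rw [le_antisymm e2 e1]
    exact normalizes_pCore M₂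
  obtain ⟨Y₁, hg₁⟩ := exists_good M₁ hc₁ hM₁ hab₁
  obtain ⟨Y₂, hg₂⟩ := exists_good M₂ hc₂ hM₂ hab₂
  obtain ⟨N, hN, hNle, hn1, hn2⟩ := PrimitivePair.exists_common_normal (p := p)
    (M₀ := fun b => bif b then M₁ else M₂) (Q₀ := fun b => bif b then Q₁ else Q₂)
    (Y₀ := fun b => bif b then Y₁ else Y₂) hp2
    (fun b => by cases b; exacts [hg₂, hg₁])
    (fun b => by cases b; exacts [hQ21.trans inf_le_left, hQ12.trans inf_le_right])
    (fun b => by
      cases b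
      · show M₁ ⊓ Subgroup.centralizer (Y₂ : Set G) ≤ M₂
        have h := (hP Y₂ hg₂.ne (hg₂.leQ.trans hQ21)).2 hg₂.nY
        exact (inf_le_inf_left _ (Subgroup.centralizer_le_normalizer _)).trans (h.le.trans inf_le_right)
      · show M₂ ⊓ Subgroup.centralizer (Y₁ : Set G) ≤ M₁
        have h := (hP Y₁ hg₁.ne (hg₁.leQ.trans hQ12)).1 hg₁.nY
        exact (inf_le_inf_left _ (Subgroup.centralizer_le_normalizer _)).trans (h.le.trans inf_le_left))
  exact hfinish N hN ((hNle.trans inf_le_left).trans hQ12) hn1 hn2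
end Cfsg.Agent.S3753
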