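import Cfsg.Statements.S3754
import Cfsg.Agent.Lib.Fusion.PSolvable
import Cfsg.Agent.Lib.Fusion.FailureFactor
import Cfsg.Agent.Lib.Fusion.ZJConstrained
import Cfsg.Agent.Lib.Fusion.Basic
import Cfsg.Agent.Lib.Coprime.Generation
import Cfsg.Agent.Lib.Coprime.SchurZassenhaus
import Cfsg.Agent.Lib.PGroup.Frattini
import Cfsg.Agent.Lib.Solvable.Cores
-- import your own Cfsg.Agent.* helpers here

set_option autoImplicit false
open Cfsg

namespace Cfsg.Agent.S3754

open scoped commutatorElement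

section Helpers

theorem main {M : Type*} [Group M] [Finite M] {p : ℕ} [Fact p.Prime] (hM : Cfsg.IsPSolvable p M)
    (A : Subgroup M) (hA : IsPGroup p A) (hΦ : (frattini ↥A).map A.subtype ≤ Cfsg.pCore p M)
    (hnot : ¬ A ≤ Cfsg.pCore p M) :
    ∃ x ∈ (Cfsg.pPrimeCore p (M ⧸ Cfsg.pCore p M)).comap (QuotientGroup.mk' (Cfsg.pCore p M)), x ∈ (Cfsg.pResidual p ↥(A ⊔ A.map (MulAut.conj x).toMonoidHom)).map (A ⊔ A.map (MulAut.conj x).toMonoidHom).subtype ∧ (Cfsg.pResidual p ↥(A ⊔ A.map (MulAut.conj x).toMonoidHom)).map (A ⊔ A.map (MulAut.conj x).toMonoidHom).subtype ≤ (Cfsg.pPrimeCore p (M ⧸ Cfsg.pCore p M)).comap (QuotientGroup.mk' (Cfsg.pCore p M)) ∧ ⁅(Cfsg.pResidual p ↥(A ⊔ A.map (MulAut.conj x).toMonoidHom)).map (A ⊔ A.map (MulAut.conj x).toMonoidHom).subtype, A⁆ = (Cfsg.pResidual p ↥(A ⊔ A.map (MulAut.conj x).toMonoidHom)).map (A ⊔ A.map (MulAut.conj x).toMonoidHom).subtype ∧ (A ⊓ (Cfsg.pCore p ↥(A ⊔ A.map (MulAut.conj x).toMonoidHom)).map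 (A ⊔ A.map (MulAut.conj x).toMonoidHom).subtype).relIndex A = p ∧ ⁅A ⊓ (Cfsg.pCore p ↥(A ⊔ A.map (MulAut.conj x).toMonoidHom)).map (A ⊔ A.map (MulAut.conj x).toMonoidHom).subtype, A ⊔ A.map (MulAut.conj x).toMonoidHom⁆ ≤ Cfsg.pCore p M := by
  classical
  have hp : p.Prime := Fact.out
  haveI : (Cfsg.pCore p M).Normal := CfsgLib.Solvable.Cores.pCore_normal p
  set π := QuotientGroup.mk' (Cfsg.pCore p M) with hπ
  have hπs : Function.Surjective π := QuotientGroup.mk'_surjective _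
  set Q := Cfsg.pPrimeCore p (M ⧸ Cfsg.pCore p M) with hQ
  haveI : Q.Normal := CfsgLib.Solvable.Cores.pPrimeCore_normal p
  have hQcop : (Nat.card Q).Coprime p := CfsgLib.Solvable.Cores.coprime_card_pPrimeCore p
  have hO : Cfsg.pCore p (M ⧸ Cfsg.pCore p M) = ⊥ := by
    set N := Cfsg.pCore p (M ⧸ Cfsg.pCore p M)
    haveI : N.Normal := CfsgLib.Solvable.Cores.pCore_normal p
    have hNp : IsPGroup p (N.comap π) := (CfsgLib.Solvable.Cores.isPGroup_pCore p).comap_of_ker_isPGroup π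
      (by rw [hπ, QuotientGroup.ker_mk']; exact CfsgLib.Solvable.Cores.isPGroup_pCore p)
    rw [eq_bot_iff]
    intro y hy
    obtain ⟨z, rfl⟩ := hπs y
    exact Subgroup.mem_bot.2 ((QuotientGroup.eq_one_iff z).2 (CfsgLib.Solvable.Cores.le_pCore hNp hy))
  have hCQ : Subgroup.centralizer (Q : Set (M ⧸ Cfsg.pCore p M)) ≤ Q :=
    CfsgLib.Fusion.FailureFactor.centralizer_pPrimeCore_le (CfsgLib.Fusion.PSolvable.psolvable_quotient hM _) hO
  -- the elementary abelian image of `A`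
  set a' := A.map π with ha'
  have hab : ∀ s ∈ a', ∀ t ∈ a', s * t = t * s := by
    rintro _ ⟨s, hs, rfl⟩ _ ⟨t, ht, rfl⟩
    rw [← commutatorElement_eq_one_iff_mul_comm, ← map_commutatorElement]
    exact (QuotientGroup.eq_one_iff _).2 (hΦ ⟨⁅(⟨s, hs⟩ : A), ⟨t, ht⟩⁆,
      CfsgLib.PGroup.Frattini.commutatorElement_mem_frattini hA _ _, rfl⟩)
  have hexp : ∀ s ∈ a', s ^ p = 1 := by
    rintro _ ⟨s, hs, rfl⟩
    rw [← map_pow]
    exact (QuotientGroup.eq_one_iff _).2 (hΦ ⟨(⟨s, hs⟩ : A) ^ p,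
      CfsgLib.PGroup.Frattini.pow_mem_frattini hA _, rfl⟩)
  have ha'p : IsPGroup p a' := hA.map π
  have hcard : (Nat.card a').Coprime (Nat.card Q) := by
    obtain ⟨k, hk⟩ := ha'p.exists_card_eq
    rw [hk]; exact Nat.Coprime.pow_left k hQcop.symm
  -- elements of `Q` of `p`-power order are trivial
  have hQp : ∀ s ∈ Q, s ^ p = 1 → s = 1 := by
    intro s hs hsp
    have h := Nat.dvd_gcd (Subgroup.orderOf_dvd_natCard Q hs) (orderOf_dvd_of_pow_eq_one hsp)
    rw [Nat.Coprime.gcd_eq_one hQcop, Nat.dvd_one, orderOf_eq_one_iff] at h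
    exact h
  have hnc : ¬ Q ≤ Subgroup.centralizer (a' : Set _) := by
    intro h
    refine hnot fun s hs => ?_
    have hsQ : π s ∈ Q := hCQ (Subgroup.mem_centralizer_iff.2 fun y hy =>
      (Subgroup.mem_centralizer_iff.1 (h hy) _ (Subgroup.mem_map_of_mem π hs)).symm)
    exact (QuotientGroup.eq_one_iff s).1 (hQp _ hsQ (hexp _ (Subgroup.mem_map_of_mem π hs)))
  haveI : IsMulCommutative a' := ⟨⟨fun s t => Subtype.ext (hab s s.2 t t.2)⟩⟩
  have hQn : a' ≤ Subgroup.normalizer (Q : Set (M ⧸ Cfsg.pCore p M)) := by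
    rw [Subgroup.normalizer_eq_top]; exact le_top
  obtain ⟨B, hBa, ⟨b, hb, hBb⟩, hBQ⟩ : ∃ B : Subgroup (M ⧸ Cfsg.pCore p M), B ≤ a' ∧
      (∃ b ∈ a', B ⊔ Subgroup.zpowers b = a') ∧
      ¬ Q ⊓ Subgroup.centralizer (B : Set _) ≤ Subgroup.centralizer (a' : Set _) := by
    by_contra hall
    apply hnc
    rw [← CfsgLib.Coprime.iSup_centralizer_of_cyclic_quotient hQn hcard]
    refine iSup₂_le fun B hB => ?_
    by_contra h
    exact hall ⟨B, hB.1, hB.2, h⟩
  -- a minimal invariant subgroup not centralized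
  obtain ⟨R, -, ⟨hRQ, hRn, hRnc⟩, hRmin⟩ := Finite.exists_le_minimal
    (p := fun R : Subgroup (M ⧸ Cfsg.pCore p M) => R ≤ Q ⊓ Subgroup.centralizer (B : Set _) ∧
      a' ≤ Subgroup.normalizer (R : Set _) ∧ ¬ R ≤ Subgroup.centralizer (a' : Set _))
    (a := Q ⊓ Subgroup.centralizer (B : Set _)) ⟨le_rfl, fun s hs => by
      have hconj : ∀ t ∈ a', ∀ y ∈ Q ⊓ Subgroup.centralizer (B : Set _),
          t * y * t⁻¹ ∈ Q ⊓ Subgroup.centralizer (B : Set _) := fun t ht y hy =>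
        ⟨(inferInstance : Q.Normal).conj_mem y hy.1 t, Subgroup.mem_centralizer_iff.2 fun c hc => by
          have h1 := hab c (hBa hc) t ht
          have h2 := Subgroup.mem_centralizer_iff.1 hy.2 c hc
          have hct : Commute c t := h1
          exact ((hct.mul_right h2).mul_right hct.inv_right).eq⟩
      refine Subgroup.mem_normalizer_iff.2 fun y => ⟨hconj s hs y, fun hy => ?_⟩
      have h := hconj s⁻¹ (a'.inv_mem hs) _ hy
      have e : s⁻¹ * (s * y * s⁻¹) * s⁻¹⁻¹ = y := by group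
      rwa [e] at h, hBQ⟩
  have hconjR : ∀ t ∈ a', ∀ y ∈ R, t * y * t⁻¹ ∈ R := fun t ht y hy =>
    (Subgroup.mem_normalizer_iff.1 (hRn ht) y).1 hy
  obtain ⟨r, hrR, hrnc⟩ : ∃ r ∈ R, r ∉ Subgroup.centralizer (a' : Set _) := by
    by_contra h
    push Not at h
    exact hRnc h
  -- choose the lift
  have hexl : ∃ k : ℕ, ∃ x : M, π x = r ∧ Nat.card ↥(A ⊔ A.map (MulAut.conj x).toMonoidHom) = k := by
    obtain ⟨x, hx⟩ := hπs r
    exact ⟨_, x, hx, rfl⟩
  obtain ⟨x₀, hx₀, hxk⟩ := Nat.find_spec hexl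
  have key : ∀ x : M, π x = r → r ∈ (A ⊔ A.map (MulAut.conj x).toMonoidHom).map π ∧
      (A ⊔ A.map (MulAut.conj x).toMonoidHom).map π = R ⊔ a' := by
    intro x hx
    set L := (A ⊔ A.map (MulAut.conj x).toMonoidHom).map π with hL
    have haL : a' ≤ L := Subgroup.map_mono le_sup_left
    have hconjL : ∀ s ∈ a', r * s * r⁻¹ ∈ L := by
      rintro _ ⟨s, hs, rfl⟩
      refine ⟨x * s * x⁻¹, Subgroup.mem_sup_right ⟨s, hs, rfl⟩, ?_⟩
      rw [map_mul, map_mul, map_inv, hx]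
    have hN : ¬ L ⊓ R ≤ Subgroup.centralizer (a' : Set _) := by
      intro hN
      refine hrnc (Subgroup.mem_centralizer_iff.2 fun s hs => ?_)
      have he : r * s * r⁻¹ * s⁻¹ ∈ L ⊓ R := by
        refine ⟨L.mul_mem (hconjL s hs) (L.inv_mem (haL hs)), ?_⟩
        have e : r * s * r⁻¹ * s⁻¹ = r * (s * r⁻¹ * s⁻¹) := by group
        rw [e]
        exact R.mul_mem hrR (hconjR s hs _ (R.inv_mem hrR))
      have hc : Commute (r * s * r⁻¹ * s⁻¹) s := (Subgroup.mem_centralizer_iff.1 (hN he) s hs).symm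
      have hp1 : (r * s * r⁻¹ * s⁻¹) ^ p = 1 := by
        have h1 : (r * s * r⁻¹ * s⁻¹ * s) ^ p = 1 := by
          rw [inv_mul_cancel_right, conj_pow, hexp s hs]; group
        rwa [hc.mul_pow, hexp s hs, mul_one] at h1
      have h1 := hQp _ (hRQ he.2).1 hp1
      rw [mul_inv_eq_one, mul_inv_eq_iff_eq_mul] at h1
      exact h1.symm
    have hLR : R ≤ L := by
      refine fun y hy => (hRmin (y := L ⊓ R) ⟨inf_le_right.trans hRQ, ?_, hN⟩ inf_le_right hy).1
      intro s hs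
      refine Subgroup.mem_normalizer_iff.2 fun y => ?_
      exact ⟨fun hy => ⟨L.mul_mem (L.mul_mem (haL hs) hy.1) (L.inv_mem (haL hs)), hconjR s hs y hy.2⟩,
        fun hy => ⟨by
          have e : y = s⁻¹ * (s * y * s⁻¹) * s := by group
          rw [e]; exact L.mul_mem (L.mul_mem (L.inv_mem (haL hs)) hy.1) (haL hs),
          (Subgroup.mem_normalizer_iff.1 (hRn hs) y).2 hy.2⟩⟩
    refine ⟨hLR hrR, le_antisymm ?_ (sup_le hLR haL)⟩
    rw [hL, Subgroup.map_sup]
    refine sup_le le_sup_right ?_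
    rintro _ ⟨_, ⟨s, hs, rfl⟩, rfl⟩
    show π (x * s * x⁻¹) ∈ _
    rw [map_mul, map_mul, map_inv, hx]
    exact Subgroup.mul_mem _ (Subgroup.mul_mem _ (Subgroup.mem_sup_left hrR)
      (Subgroup.mem_sup_right (Subgroup.mem_map_of_mem π hs))) (Subgroup.inv_mem _ (Subgroup.mem_sup_left hrR))
  -- replace the lift by a `p'`-element
  obtain ⟨x, hx, hxres⟩ : ∃ x : M, π x = r ∧ x ∈ (Cfsg.pResidual p ↥(A ⊔ A.map (MulAut.conj x).toMonoidHom)).map
      (A ⊔ A.map (MulAut.conj x).toMonoidHom).subtype := by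
    obtain ⟨l, hl, hlr⟩ := (key x₀ hx₀).1
    obtain ⟨x₁, c, hxc, ⟨i, hi⟩, hc, hx₁, hcmem⟩ : ∃ x₁ c : M, l = x₁ * c ∧ (∃ i, orderOf x₁ = p ^ i) ∧
        (orderOf c).Coprime p ∧ x₁ ∈ Subgroup.zpowers l ∧ c ∈ Subgroup.zpowers l :=
      CfsgLib.Fusion.ZJConstrained.isPStableOn_quotient.exists_parts l
    have hcr : π c = r := by
      obtain ⟨j, hj⟩ := Subgroup.mem_zpowers_iff.1 hx₁
      have h1 : π x₁ ∈ Q := by rw [← hj, map_zpow, hlr]; exact Q.zpow_mem (hRQ hrR).1 j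
      have h2 : π x₁ ^ p ^ i = 1 := by rw [← map_pow, ← hi, pow_orderOf_eq_one, map_one]
      have h3 := Nat.dvd_gcd (Subgroup.orderOf_dvd_natCard Q h1) (orderOf_dvd_of_pow_eq_one h2)
      rw [Nat.Coprime.gcd_eq_one (hQcop.pow_right i), Nat.dvd_one, orderOf_eq_one_iff] at h3
      rw [← hlr, hxc, map_mul, h3, one_mul]
    have hcL : c ∈ A ⊔ A.map (MulAut.conj x₀).toMonoidHom := Subgroup.zpowers_le.2 hl hcmem
    have hle : A ⊔ A.map (MulAut.conj c).toMonoidHom ≤ A ⊔ A.map (MulAut.conj x₀).toMonoidHom := by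
      refine sup_le le_sup_left ?_
      rintro _ ⟨s, hs, rfl⟩
      show c * s * c⁻¹ ∈ _
      exact Subgroup.mul_mem _ (Subgroup.mul_mem _ hcL (Subgroup.mem_sup_left hs)) (Subgroup.inv_mem _ hcL)
    have heq : A ⊔ A.map (MulAut.conj c).toMonoidHom = A ⊔ A.map (MulAut.conj x₀).toMonoidHom :=
      Subgroup.eq_of_le_of_card_ge hle (hxk.le.trans (Nat.find_le ⟨c, hcr, rfl⟩))
    refine ⟨c, hcr, ?_⟩
    rw [heq]
    exact ⟨⟨c, hcL⟩, Subgroup.subset_closure (show (orderOf (⟨c, hcL⟩ :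
      ↥(A ⊔ A.map (MulAut.conj x₀).toMonoidHom))).Coprime p by rw [Subgroup.orderOf_mk]; exact hc), rfl⟩
  set L := A ⊔ A.map (MulAut.conj x).toMonoidHom with hLdef
  set K := (Cfsg.pResidual p ↥L).map L.subtype with hK
  have hLπ : L.map π = R ⊔ a' := (key x hx).2
  have hAL : A ≤ L := le_sup_left
  haveI : (Cfsg.pResidual p ↥L).Normal := CfsgLib.Fusion.Basic.pResidual_normal
  have hKL : K ≤ L := Subgroup.map_subtype_le _
  have hLK : L ≤ Subgroup.normalizer (K : Set M) := by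
    intro s hs
    have hc : ∀ t ∈ L, ∀ y ∈ K, t * y * t⁻¹ ∈ K := by
      rintro t ht _ ⟨y, hy, rfl⟩
      exact ⟨⟨t, ht⟩ * y * ⟨t, ht⟩⁻¹, (inferInstance : (Cfsg.pResidual p ↥L).Normal).conj_mem y hy _, rfl⟩
    refine Subgroup.mem_normalizer_iff.2 fun y => ⟨hc s hs y, fun hy => ?_⟩
    have h := hc s⁻¹ (L.inv_mem hs) _ hy
    have e : s⁻¹ * (s * y * s⁻¹) * s⁻¹⁻¹ = y := by group
    rwa [e] at h
  refine ⟨x, show π x ∈ Q by rw [hx]; exact (hRQ hrR).1, hxres, ?_, ?_, ?_, ?_⟩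
  · -- the residual lies above `O_{p'}`
    rw [Subgroup.map_le_iff_le_comap, Cfsg.pResidual, Subgroup.closure_le]
    intro c hc
    show π (c : M) ∈ Q
    have hcπ : π (c : M) ∈ R ⊔ a' := hLπ ▸ Subgroup.mem_map_of_mem π c.2
    obtain ⟨y, hy, s, hs, hys⟩ := (CfsgLib.Coprime.mem_sup_of_le_normalizer hRn).1 hcπ
    have hpow : (π (c : M)) ^ p ∈ R := by
      rw [← hys]
      have : ∀ m : ℕ, (y * s) ^ m * (s ^ m)⁻¹ ∈ R := by
        intro m
        induction m with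
        | zero => simp
        | succ m ih =>
          have e : (y * s) ^ (m + 1) * (s ^ (m + 1))⁻¹ = (y * s) ^ m * (s ^ m)⁻¹ * (s ^ m * y * (s ^ m)⁻¹) := by
            rw [pow_succ, pow_succ]; group
          rw [e]; exact R.mul_mem ih (hconjR _ (a'.pow_mem hs m) y hy)
      have h := this p
      rwa [hexp s hs, inv_one, mul_one] at h
    have hco : (orderOf (π (c : M))).Coprime p := by
      refine Nat.Coprime.coprime_dvd_left (orderOf_map_dvd π _) ?_
      rw [Subgroup.orderOf_coe]; exact hc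
    obtain ⟨u, v, huv⟩ := Nat.isCoprime_iff_coprime.2 hco
    have e : π (c : M) = ((π (c : M)) ^ p) ^ v := by
      calc π (c : M) = (π (c : M)) ^ (u * (orderOf (π (c : M)) : ℤ) + v * p) := by rw [huv, zpow_one]
        _ = ((π (c : M)) ^ p) ^ v := by
          rw [zpow_add, mul_comm u, zpow_mul, zpow_natCast, pow_orderOf_eq_one, one_zpow, one_mul,
            mul_comm v, zpow_mul, zpow_natCast]
    rw [e]
    exact Q.zpow_mem (hRQ hpow).1 v
  · -- `[K, A] = K`
    have hAN : A ≤ Subgroup.normalizer (K : Set M) := hAL.trans hLK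
    have hNK : ⁅K, A⁆ ≤ K := Subgroup.commutator_le.2 fun k hk s hs => by
      rw [commutatorElement_def, mul_assoc, mul_assoc, ← mul_assoc s]
      exact K.mul_mem hk ((Subgroup.mem_normalizer_iff.1 (hAN hs) _).1 (K.inv_mem hk))
    have hAKA : L ≤ A ⊔ K := by
      refine sup_le le_sup_left ?_
      rintro _ ⟨s, hs, rfl⟩
      show x * s * x⁻¹ ∈ _
      exact Subgroup.mul_mem _ (Subgroup.mul_mem _ (Subgroup.mem_sup_right hxres) (Subgroup.mem_sup_left hs))
        (Subgroup.inv_mem _ (Subgroup.mem_sup_right hxres))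
    set N := ⁅K, A⁆ with hN
    have hLN : L ≤ Subgroup.normalizer (N : Set M) := hAKA.trans
      (sup_le (Subgroup.normalizer_commutator_ge_right K A) (Subgroup.normalizer_commutator_ge_left K A))
    have hLNA : L ≤ N ⊔ A := by
      refine sup_le le_sup_right ?_
      rintro _ ⟨s, hs, rfl⟩
      show x * s * x⁻¹ ∈ _
      rw [show x * s * x⁻¹ = ⁅x, s⁆ * s by rw [commutatorElement_def]; group]
      exact Subgroup.mul_mem_sup (Subgroup.commutator_mem_commutator hxres hs) hs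
    refine le_antisymm hNK ?_
    haveI : (N.subgroupOf L).Normal := Subgroup.normal_subgroupOf_of_le_normalizer hLN
    have hquo : IsPGroup p (↥L ⧸ N.subgroupOf L) := by
      intro y
      obtain ⟨⟨g, hg⟩, rfl⟩ := QuotientGroup.mk'_surjective _ y
      obtain ⟨k, hk, s, hs, hks⟩ := (CfsgLib.Coprime.mem_sup_of_le_normalizer (hAL.trans hLN)).1 (hLNA hg)
      obtain ⟨i, hi⟩ := hA ⟨s, hs⟩
      refine ⟨i, ?_⟩
      have e : QuotientGroup.mk' (N.subgroupOf L) (⟨g, hg⟩ : L) = QuotientGroup.mk' _ (⟨s, hAL hs⟩ : L) := by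
        show ((⟨g, hg⟩ : L) : ↥L ⧸ N.subgroupOf L) = ((⟨s, hAL hs⟩ : L) : ↥L ⧸ N.subgroupOf L)
        rw [QuotientGroup.eq_iff_div_mem, Subgroup.mem_subgroupOf]
        show g / s ∈ N
        rw [← hks, mul_div_cancel_right]; exact hk
      rw [e, ← map_pow, show (⟨s, hAL hs⟩ : L) ^ p ^ i = 1 from Subtype.ext (congrArg Subtype.val hi :), map_one]
    have hle := CfsgLib.Fusion.Basic.pResidual_le_ker (QuotientGroup.mk' (N.subgroupOf L)) hquo
    rw [QuotientGroup.ker_mk'] at hle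
    rintro _ ⟨k, hk, rfl⟩
    exact Subgroup.mem_subgroupOf.1 (hle hk)
  -- the `p`-core of `L`
  all_goals
    have hLB : ∀ l ∈ L, ∀ c ∈ B, π l * c = c * π l := by
      intro l hl c hc
      have hle : R ⊔ a' ≤ Subgroup.centralizer (B : Set _) := sup_le (hRQ.trans inf_le_right)
        (fun s hs => Subgroup.mem_centralizer_iff.2 fun c hc => hab c (hBa hc) s hs)
      exact (Subgroup.mem_centralizer_iff.1 (hle (hLπ ▸ Subgroup.mem_map_of_mem π hl)) c hc).symm
    set O := (Cfsg.pCore p ↥L).map L.subtype with hOdef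
    have hBcore : L ⊓ B.comap π ≤ O := by
      haveI : ((L ⊓ B.comap π).subgroupOf L).Normal := ⟨fun y hy g => by
        rw [Subgroup.mem_subgroupOf] at hy ⊢
        refine ⟨(g * y * g⁻¹).2, ?_⟩
        show π ((g : M) * y * (g : M)⁻¹) ∈ B
        rw [map_mul, map_mul, map_inv, hLB g g.2 _ hy.2, mul_inv_cancel_right]
        exact hy.2⟩
      have hp' : IsPGroup p ((L ⊓ B.comap π).subgroupOf L) := by
        have h1 : IsPGroup p (B.comap π) := (ha'p.to_le hBa).comap_of_ker_isPGroup π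
          (by rw [hπ, QuotientGroup.ker_mk']; exact CfsgLib.Solvable.Cores.isPGroup_pCore p)
        exact (h1.to_le inf_le_right).comap_of_injective L.subtype L.subtype_injective
      intro y hy
      exact ⟨⟨y, hy.1⟩, CfsgLib.Solvable.Cores.le_pCore hp' (Subgroup.mem_subgroupOf.2 hy), rfl⟩
    have hinf : A ⊓ O = A ⊓ B.comap π := by
      refine le_antisymm ?_ (fun y hy => ⟨hy.1, hBcore ⟨hAL hy.1, hy.2⟩⟩)
      rintro s ⟨hs, ⟨s', hs', rfl⟩⟩
      refine ⟨hs, ?_⟩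
      by_contra hsB
      apply hRnc
      haveI : (Cfsg.pCore p ↥L).Normal := CfsgLib.Solvable.Cores.pCore_normal p
      -- the image commutes with `R`
      have hcomm : ∀ y ∈ R, y * π (s' : M) = π (s' : M) * y := by
        intro y hy
        obtain ⟨l, hl, rfl⟩ : y ∈ L.map π := hLπ.symm ▸ Subgroup.mem_sup_left hy
        rw [← commutatorElement_eq_one_iff_mul_comm, ← map_commutatorElement]
        have hO' : (⟨l, hl⟩ : L) * s' * (⟨l, hl⟩ : L)⁻¹ * s'⁻¹ ∈ Cfsg.pCore p ↥L :=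
          mul_mem ((inferInstance : (Cfsg.pCore p ↥L).Normal).conj_mem s' hs' _) (inv_mem hs')
        obtain ⟨i, hi⟩ := CfsgLib.Solvable.Cores.isPGroup_pCore p ⟨_, hO'⟩
        have hiM : ⁅l, (s' : M)⁆ ^ p ^ i = 1 := congrArg (fun t : Cfsg.pCore p ↥L => ((t : L) : M)) hi
        have hQm : π ⁅l, (s' : M)⁆ ∈ Q := by
          rw [map_commutatorElement, commutatorElement_def]
          have e : π l * π (s' : M) * (π l)⁻¹ * (π (s' : M))⁻¹ =
            π l * (π (s' : M) * (π l)⁻¹ * (π (s' : M))⁻¹) := by group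
          rw [e]
          exact Q.mul_mem (hRQ hy).1 ((inferInstance : Q.Normal).conj_mem _ (Q.inv_mem (hRQ hy).1) _)
        have h2 : π ⁅l, (s' : M)⁆ ^ p ^ i = 1 := by rw [← map_pow, hiM, map_one]
        have h3 := Nat.dvd_gcd (Subgroup.orderOf_dvd_natCard Q hQm) (orderOf_dvd_of_pow_eq_one h2)
        rwa [Nat.Coprime.gcd_eq_one (hQcop.pow_right i), Nat.dvd_one, orderOf_eq_one_iff] at h3
      intro y hy
      refine Subgroup.mem_centralizer_iff.2 fun t ht => ?_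
      have hgen : a' ≤ Subgroup.centralizer {y} := by
        have hB1 : B ≤ Subgroup.centralizer {y} := fun c hc => Subgroup.mem_centralizer_singleton_iff.2
          (Subgroup.mem_centralizer_iff.1 (hRQ hy).2 c hc)
        have hs1 : π (s' : M) ∈ Subgroup.centralizer {y} :=
          Subgroup.mem_centralizer_singleton_iff.2 (hcomm y hy).symm
        rw [← hBb]
        refine sup_le hB1 (Subgroup.zpowers_le.2 ?_)
        have hsa : π (s' : M) ∈ B ⊔ Subgroup.zpowers b := hBb.symm ▸ Subgroup.mem_map_of_mem π hs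
        obtain ⟨c, hc, d, ⟨j, rfl⟩, hcd⟩ := (CfsgLib.Coprime.mem_sup_of_le_normalizer
          (Subgroup.zpowers_le.2 (Subgroup.centralizer_le_normalizer _
            (Subgroup.mem_centralizer_iff.2 fun c hc => hab c (hBa hc) b hb)))).1 hsa
        have hbj : b ^ j ∈ Subgroup.centralizer {y} := by
          have e : b ^ j = c⁻¹ * π (s' : M) := by rw [← hcd]; group
          rw [e]; exact Subgroup.mul_mem _ (Subgroup.inv_mem _ (hB1 hc)) hs1
        have hj : ¬ (p : ℤ) ∣ j := by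
          rintro ⟨m, rfl⟩
          apply hsB
          show π (s' : M) ∈ B
          rw [← hcd]
          show c * b ^ ((p : ℤ) * m) ∈ B
          rw [zpow_mul, zpow_natCast, hexp b hb, one_zpow, mul_one]; exact hc
        obtain ⟨u, v, huv⟩ := (Nat.prime_iff_prime_int.1 hp).coprime_iff_not_dvd.2 hj
        have e : b = (b ^ j) ^ v := by
          calc b = b ^ (u * p + v * j) := by rw [huv, zpow_one]
            _ = (b ^ j) ^ v := by
              rw [zpow_add, mul_comm u, zpow_mul, zpow_natCast, hexp b hb, one_zpow, one_mul, mul_comm v, zpow_mul]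
        rw [e]; exact Subgroup.zpow_mem _ hbj v
      exact Subgroup.mem_centralizer_singleton_iff.1 (hgen ht)
  · rw [hinf, Subgroup.inf_relIndex_left, Subgroup.relIndex_comap]
    haveI : (B.subgroupOf a').Normal := inferInstance
    have hdvd : B.relIndex a' ∣ p := by
      have hgen : ∀ y : a' ⧸ B.subgroupOf a', y ∈ Subgroup.zpowers
          (QuotientGroup.mk' (B.subgroupOf a') (⟨b, hb⟩ : a')) := by
        intro y
        obtain ⟨⟨t, ht⟩, rfl⟩ := QuotientGroup.mk'_surjective _ y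
        have hbn : Subgroup.zpowers b ≤ Subgroup.normalizer (B : Set _) :=
          Subgroup.zpowers_le.2 (Subgroup.centralizer_le_normalizer _
            (Subgroup.mem_centralizer_iff.2 fun c hc => hab c (hBa hc) b hb))
        have ht' : t ∈ B ⊔ Subgroup.zpowers b := hBb.symm ▸ ht
        obtain ⟨c, hc, d, ⟨j, rfl⟩, hcd⟩ := (CfsgLib.Coprime.mem_sup_of_le_normalizer hbn).1 ht'
        refine Subgroup.mem_zpowers_iff.2 ⟨j, ?_⟩
        rw [← map_zpow]
        refine QuotientGroup.eq.2 (Subgroup.mem_subgroupOf.2 ?_)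
        show (b ^ j)⁻¹ * t ∈ B
        rw [← hcd]
        show (b ^ j)⁻¹ * (c * b ^ j) ∈ B
        rw [hab c (hBa hc) _ (a'.zpow_mem hb j), inv_mul_cancel_left]
        exact hc
      rw [Subgroup.relIndex, Subgroup.index_eq_card, ← orderOf_eq_card_of_forall_mem_zpowers hgen]
      refine orderOf_dvd_of_pow_eq_one ?_
      rw [← map_pow, show (⟨b, hb⟩ : a') ^ p = 1 from Subtype.ext (hexp b hb :), map_one]
    refine (hp.eq_one_or_self_of_dvd _ hdvd).resolve_left fun h1 => hBQ ?_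
    intro y hy
    exact Subgroup.mem_centralizer_iff.2 fun t ht =>
      Subgroup.mem_centralizer_iff.1 hy.2 t (Subgroup.relIndex_eq_one.1 h1 ht)
  · rw [hinf, Subgroup.commutator_le]
    intro s hs l hl
    rw [← QuotientGroup.eq_one_iff]
    show π ⁅s, l⁆ = 1
    rw [map_commutatorElement, commutatorElement_eq_one_iff_mul_comm]
    exact (hLB l hl _ hs.2).symm

end Helpers

/-- Let M be a finite p-soluble group and A a p-subgroup of M with Φ(A) ≤ O_p(M) but A ≰ O_p(M). Then there is x ∈ O_{p,p'}(M) such that L = ⟨A, xAx⁻¹⟩ satisfies: x ∈ O^p(L) and O^p(L) ≤ O_{p,p'}(M); [O^p(L), A] = O^p(L); A ∩ O_p(L) has index p in A; and [A ∩ O_p(L), L] ≤ O_p(M). Here O^p(L) is the subgroup generated by the p'-elements of L and O_{p,p'}(M) the preimage of O_{p'}(M/O_p(M)). -/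
theorem result {M : Type*} [Group M] [Finite M] {p : ℕ} [Fact p.Prime] (hM : Cfsg.IsPSolvable p M) (A : Subgroup M) (hA : IsPGroup p A) (hΦ : (frattini ↥A).map A.subtype ≤ Cfsg.pCore p M) (hnot : ¬ A ≤ Cfsg.pCore p M) : ∃ x ∈ (Cfsg.pPrimeCore p (M ⧸ Cfsg.pCore p M)).comap (QuotientGroup.mk' (Cfsg.pCore p M)), x ∈ (Cfsg.pResidual p ↥(A ⊔ A.map (MulAut.conj x).toMonoidHom)).map (A ⊔ A.map (MulAut.conj x).toMonoidHom).subtype ∧ (Cfsg.pResidual p ↥(A ⊔ A.map (MulAut.conj x).toMonoidHom)).map (A ⊔ A.map (MulAut.conj x).toMonoidHom).subtype ≤ (Cfsg.pPrimeCore p (M ⧸ Cfsg.pCore p M)).comap (QuotientGroup.mk' (Cfsg.pCore p M)) ∧ ⁅(Cfsg.pResidual p ↥(A ⊔ A.map (MulAut.conj x).toMonoidHom)).map (A ⊔ A.map (MulAut.conj x).toMonoidHom).subtype, A⁆ = (Cfsg.pResidual p ↥(A ⊔ A.map (MulAut.conj x).toMonoidHom)).map (A ⊔ A.map (MulAut.conj x).toMonoidHom).subtype ∧ (A ⊓ (Cfsg.pCore p ↥(A ⊔ A.map (MulAut.conj x).toMonoidHom)).map (A ⊔ A.map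 (MulAut.conj x).toMonoidHom).subtype).relIndex A = p ∧ ⁅A ⊓ (Cfsg.pCore p ↥(A ⊔ A.map (MulAut.conj x).toMonoidHom)).map (A ⊔ A.map (MulAut.conj x).toMonoidHom).subtype, A ⊔ A.map (MulAut.conj x).toMonoidHom⁆ ≤ Cfsg.pCore p M := by
  exact main hM A hA hΦ hnot

end Cfsg.Agent.S3754
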