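import Cfsg.Statements.S3756
import Cfsg.Agent.Lib.LocalEven.TwoFactor.Locals
import Cfsg.Agent.S0214
-- import your own Cfsg.Agent.* helpers here

set_option autoImplicit false
open Cfsg

namespace Cfsg.Agent.S3756

/-- Let G be a finite group of even order with O₂(G) = 1 such that every 2-local subgroup of G is solvable, of characteristic 2, and has no section isomorphic to the symmetric group of degree 4. Then every maximal 2-local subgroup of G is strongly embedded in G. -/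
theorem result {G : Type*} [Group G] [Finite G] (heven : Even (Nat.card G)) (hO : Cfsg.pCore 2 G = ⊥) (hloc : ∀ M : Subgroup G, Cfsg.IsTwoLocal M → Group.IsSolvable M ∧ Cfsg.IsOfCharacteristicTwo ↥M ∧ ¬ Cfsg.Involves (Equiv.Perm (Fin 4)) ↥M) (M : Subgroup G) (hM : Cfsg.IsMaximalTwoLocal M) : Cfsg.IsStronglyEmbedded M := by
  classical
  haveI : Fact (Nat.Prime 2) := ⟨Nat.prime_two⟩
  have hl : CfsgLib.LocalEven.TwoFactor.GoodLocals G := fun X hX hX1 => by
    obtain ⟨h1, h2, h3⟩ := hloc _ ⟨X, hX, hX1, rfl⟩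
    exact ⟨⟨h3, CfsgLib.LocalEven.TwoFactor.KG.of_solvable h1⟩,
      CfsgLib.LocalEven.TwoFactor.HSec.of_solvable h1, h2⟩
  obtain ⟨⟨T, hT, hT1, rfl⟩, hmax⟩ := hM
  obtain ⟨S, hTS⟩ := hT.exists_le_sylow
  have hS : (S : Subgroup G) ≠ ⊥ := fun hb => hT1 (le_bot_iff.1 (hb ▸ hTS))
  have hA1 := CfsgLib.LocalEven.TwoFactor.zclosure_ne_bot S.2 hS
  have hA2 : IsPGroup 2 (CfsgLib.LocalEven.TwoFactor.ZClosure (S : Subgroup G)) :=
    S.2.to_le (CfsgLib.LocalEven.TwoFactor.zclosure_le _)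
  have e : CfsgLib.LocalEven.TwoFactor.LocalCore (S : Subgroup G) = Subgroup.normalizer (T : Set G) :=
    hmax _ ⟨_, hA2, hA1, rfl⟩ (CfsgLib.LocalEven.TwoFactor.normalizer_le_localCore hl S hTS hT1)
  rw [← e]
  set M := CfsgLib.LocalEven.TwoFactor.LocalCore (S : Subgroup G) with hM
  have hMtop : M ≠ ⊤ := fun h => by
    haveI := Subgroup.normalizer_eq_top_iff.1 h
    exact hA1 (le_bot_iff.1 (hO ▸ CfsgLib.Solvable.Cores.le_pCore hA2))
  have hSM := CfsgLib.LocalEven.TwoFactor.sylow_le_localCore S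
  refine (Cfsg.Agent.S0214.result M hMtop (S.subtype hSM) ?_).2 fun X hX hX1 => ?_
  · intro hb
    exact hS (by rw [← Subgroup.map_subgroupOf_eq_of_le hSM, show (S : Subgroup G).subgroupOf M = ⊥ from hb, Subgroup.map_bot])
  · refine CfsgLib.LocalEven.TwoFactor.normalizer_le_localCore hl S ?_ fun hb => hX1 ?_
    · rintro _ ⟨x, hx, rfl⟩
      exact hX hx
    · exact (Subgroup.map_eq_bot_iff_of_injective _ M.subtype_injective).1 hb

end Cfsg.Agent.S3756
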