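import Cfsg.Statements.S3759
import Cfsg.Agent.Lib.FTApps.CoreClosureCentral
import Cfsg.Agent.Lib.Fusion.Basic
import Cfsg.Agent.S0215
-- import your own Cfsg.Agent.* helpers here

set_option autoImplicit false
open Cfsg

namespace Cfsg.Agent.S3759

/-- Let G be a finite group of even order in which the centralizer of every involution is solvable and C_G(Ω₁(Z(S))) ≤ N_G(S) for every Sylow 2-subgroup S, with O_{2'}(G) = 1 = O₂(G). Fix a Sylow 2-subgroup S and put Z = Ω₁(Z(S)), H = O²(G), R = S ∩ H. Then H has a strongly embedded subgroup; or Z ∩ R has order 2 and is weakly closed in R with respect to H; or Z has order 4 and equals the subgroup generated by the involutions of R; or the subgroup HZ has local characteristic 2: it has even order and every 2-local subgroup L of HZ satisfies C_L(O₂(L)) ≤ O₂(L). -/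
theorem result {G : Type*} [Group G] [Finite G] (heven : Even (Nat.card G)) (hC : ∀ t : G, orderOf t = 2 → Group.IsSolvable ↥(Subgroup.centralizer ({t} : Set G))) (hZ : ∀ S : Sylow 2 G, Subgroup.centralizer (Cfsg.omegaOne 2 ((S : Subgroup G) ⊓ Subgroup.centralizer ((S : Subgroup G) : Set G)) : Set G) ≤ Subgroup.normalizer ((S : Subgroup G) : Set G)) (hO' : Cfsg.pPrimeCore 2 G = ⊥) (hO : Cfsg.pCore 2 G = ⊥) (S : Sylow 2 G) : (∃ M : Subgroup ↥(Cfsg.pResidual 2 G), Cfsg.IsStronglyEmbedded M) ∨ (Nat.card ↥(Cfsg.omegaOne 2 ((S : Subgroup G) ⊓ Subgroup.centralizer ((S : Subgroup G) : Set G)) ⊓ Cfsg.pResidual 2 G) = 2 ∧ ∀ h ∈ Cfsg.pResidual 2 G, ∀ z ∈ Cfsg.omegaOne 2 ((S : Subgroup G) ⊓ Subgroup.centralizer ((S : Subgroup G) : Set G)) ⊓ Cfsg.pResidual 2 G, h * z * h⁻¹ ∈ (S : Subgroup G) → h * z * h⁻¹ ∈ Cfsg.omegaOne 2 ((S : Subgroup G) ⊓ Subgroup.centralizer ((S : Subgroup G) : Set G))) ∨ (Nat.card ↥(Cfsg.omegaOne 2 ((S : Subgroup G) ⊓ Subgroup.centralizer ((S :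 Subgroup G) : Set G))) = 4 ∧ Cfsg.omegaOne 2 ((S : Subgroup G) ⊓ Cfsg.pResidual 2 G) = Cfsg.omegaOne 2 ((S : Subgroup G) ⊓ Subgroup.centralizer ((S : Subgroup G) : Set G))) ∨ Cfsg.IsCharacteristicTwoType ↥(Cfsg.pResidual 2 G ⊔ Cfsg.omegaOne 2 ((S : Subgroup G) ⊓ Subgroup.centralizer ((S : Subgroup G) : Set G))) := by
  classical
  haveI : Fact (Nat.Prime 2) := ⟨Nat.prime_two⟩
  set Z := Cfsg.omegaOne 2 ((S : Subgroup G) ⊓ Subgroup.centralizer ((S : Subgroup G) : Set G)) with hZdef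
  set H := Cfsg.pResidual 2 G with hHdef
  have hZmem : ∀ x, x ∈ Z ↔ x ∈ (S : Subgroup G) ∧ (∀ s ∈ (S : Subgroup G), Commute s x) ∧ x * x = 1 := by
    let Z0 : Subgroup G :=
      { carrier := {x | x ∈ (S : Subgroup G) ∧ (∀ s ∈ (S : Subgroup G), Commute s x) ∧ x * x = 1}
        one_mem' := ⟨one_mem _, fun s _ => Commute.one_right s, one_mul 1⟩
        mul_mem' := fun {a b} ha hb => ⟨mul_mem ha.1 hb.1,
          fun s hs => (ha.2.1 s hs).mul_right (hb.2.1 s hs), by
            rw [(hb.2.1 a ha.1).symm.mul_mul_mul_comm, ha.2.2, hb.2.2, one_mul]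
            ⟩
        inv_mem' := fun {a} ha => ⟨inv_mem ha.1, fun s hs => (ha.2.1 s hs).inv_right, by
          rw [← mul_inv_rev, ha.2.2, inv_one]⟩ }
    intro x
    refine ⟨fun hx => show x ∈ Z0 from (Subgroup.closure_le Z0).2 (fun y hy => ?_) hx, fun hx => ?_⟩
    · exact ⟨hy.1.1, fun s hs => Subgroup.mem_centralizer_iff.1 hy.1.2 s hs,
        by rw [← pow_two]; exact hy.2⟩
    · exact Subgroup.subset_closure ⟨⟨hx.1, Subgroup.mem_centralizer_iff.2 fun s hs => (hx.2.1 s hs).eq⟩,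
        by rw [pow_two]; exact hx.2.2⟩
  have hZS : Z ≤ (S : Subgroup G) := fun x hx => ((hZmem x).1 hx).1
  have hodd : ∀ N : Subgroup G, N.Normal → Odd (Nat.card N) → N = ⊥ := fun N hN h => by
    haveI := hN
    exact le_bot_iff.1 (hO' ▸ CfsgLib.Solvable.Cores.le_pPrimeCore (Nat.coprime_two_right.2 h))
  have hoddH : ∀ g : G, Odd (orderOf g) → g ∈ H := fun g hg =>
    CfsgLib.Fusion.Basic.mem_pResidual_of_coprime (Nat.coprime_two_right.2 hg)
  have hSH : (S : Subgroup G) ⊔ H = ⊤ := by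
    obtain ⟨k, hk⟩ := CfsgLib.Fusion.Basic.exists_index_pResidual (G := G) (p := 2)
    refine Subgroup.index_eq_one.1 (Nat.eq_one_of_dvd_coprimes ?_
      (Subgroup.index_dvd_of_le (le_sup_left : (S : Subgroup G) ≤ _))
      (Subgroup.index_dvd_of_le (le_sup_right : H ≤ _)))
    rw [hk]
    exact Nat.Coprime.pow_right k (Nat.coprime_two_right.2 (Nat.odd_iff.2
      (by have := S.not_dvd_index; omega)))
  set K := H ⊔ Z with hKdef
  haveI hKn : K.Normal := by
    refine Subgroup.normalizer_eq_top_iff.1 (eq_top_iff.2 (hSH ▸ sup_le (fun s hs => ?_) ?_))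
    · refine Subgroup.mem_normalizer_iff.2 ?_
      suffices h : ∀ s ∈ (S : Subgroup G), ∀ x ∈ K, s * x * s⁻¹ ∈ K by
        intro x
        refine ⟨h s hs x, fun hx => ?_⟩
        have := h s⁻¹ (inv_mem hs) _ hx
        simpa [mul_assoc] using this
      intro s hs x hx
      have hle : K ≤ K.comap (MulAut.conj s).toMonoidHom := sup_le
        (fun y hy => Subgroup.mem_sup_left (Subgroup.Normal.conj_mem inferInstance y hy s))
        (fun y hy => by
          rw [Subgroup.mem_comap]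
          show s * y * s⁻¹ ∈ K
          rw [(((hZmem y).1 hy).2.1 s hs).eq, mul_inv_cancel_right]
          exact Subgroup.mem_sup_right hy)
      exact hle hx
    · exact le_trans le_sup_left Subgroup.le_normalizer
  obtain ⟨P, hP⟩ := CfsgLib.NT.SylowCount.exists_sylow_inf S K
  have hPmem : ∀ y : ↥K, y ∈ (P : Subgroup ↥K) ↔ (y : G) ∈ (S : Subgroup G) := fun y => by
    rw [← Subgroup.mem_map_iff_mem K.subtype_injective, hP, Subgroup.mem_inf]
    exact ⟨fun h => h.1, fun h => ⟨h, y.2⟩⟩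
  obtain ⟨z, hzZ, hz⟩ : ∃ z ∈ Z, orderOf z = 2 := by
    obtain ⟨t, htS, ht⟩ := CfsgLib.Involution.Basic.exists_involution_of_even (S : Subgroup G) (by
      obtain ⟨k, hk⟩ := S.isPGroup'.exists_card_eq
      obtain ⟨t, ht⟩ := exists_prime_orderOf_dvd_card' 2 heven.two_dvd
      obtain ⟨g, hg⟩ := CfsgLib.Involution.Basic.exists_conj_mem S ht
      exact CfsgLib.Involution.Basic.even_of_involution_mem _ hg
        ((CfsgLib.Involution.Dihedral.orderOf_conj g t).trans ht))
    obtain ⟨z, -, hz, hzc⟩ := CfsgLib.TwoGroups.Classify.exists_central_involution S.isPGroup' ⊤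
      (fun e => by
        have h1 : (⟨t, htS⟩ : ↥(S : Subgroup G)) ∈ (⊥ : Subgroup ↥(S : Subgroup G)) :=
          e ▸ Subgroup.mem_top _
        exact CfsgLib.Involution.Dihedral.ne_one ht (congrArg Subtype.val (Subgroup.mem_bot.1 h1)))
    exact ⟨z, (hZmem z).2 ⟨z.2, fun s hs => congrArg Subtype.val
      (Subgroup.mem_center_iff.1 hzc ⟨s, hs⟩),
      CfsgLib.Involution.Dihedral.mul_self ((Subgroup.orderOf_coe z).trans hz)⟩,
      (Subgroup.orderOf_coe z).trans hz⟩
  have hzS := hZS hzZ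
  set z' : ↥K := ⟨z, Subgroup.mem_sup_right hzZ⟩ with hz'def
  have hz' : orderOf z' = 2 := (Subgroup.orderOf_coe z').symm.trans hz
  have hz'P : z' ∈ (P : Subgroup ↥K) := (hPmem z').2 hzS
  have hKeven : Even (Nat.card ↥K) := even_iff_two_dvd.2 (hz' ▸ orderOf_dvd_natCard z')
  have hOK : Cfsg.oddCore ↥K = ⊥ := by
    refine (Subgroup.map_eq_bot_iff_of_injective _ K.subtype_injective).1 (hodd _ inferInstance ?_)
    rw [Subgroup.card_map_of_injective K.subtype_injective]
    exact CfsgLib.Involution.ZStar.odd_card_oddCore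
  have hL : ∀ t : ↥K, orderOf t = 2 →
      Cfsg.pLayer 2 ↥(Subgroup.centralizer ({t} : Set ↥K)) = ⊥ := fun t ht => by
    haveI := hC (t : G) ((Subgroup.orderOf_coe t).trans ht)
    haveI : Group.IsSolvable ↥(Subgroup.centralizer ({t} : Set ↥K)) := by
      let f : ↥(Subgroup.centralizer ({t} : Set ↥K)) →* ↥(Subgroup.centralizer ({(t : G)} : Set G)) :=
        (K.subtype.comp (Subgroup.centralizer ({t} : Set ↥K)).subtype).codRestrict _ fun x =>
          Subgroup.mem_centralizer_singleton_iff.2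
            (congrArg Subtype.val (Subgroup.mem_centralizer_singleton_iff.1 x.2))
      exact Group.isSolvable_of_isSolvable_injective (f := f)
        fun a b h => Subtype.ext (Subtype.ext (congrArg (fun y : ↥(Subgroup.centralizer ({(t : G)} : Set G)) => (y : G)) h))
    refine CfsgLib.Components.pLayer_eq_bot_iff.2 (CfsgLib.Components.layer_eq_bot_iff.2
      fun L hLc => ?_)
    haveI : Group.IsPerfect ↥L := hLc.2.1
    haveI : Nontrivial ↥L :=
      (Subgroup.nontrivial_iff_ne_bot L).2 (CfsgLib.Components.IsComponent.ne_bot hLc)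
    exact Group.IsPerfect.not_isSolvable ↥L inferInstance
  have hz'c : ∀ r ∈ (P : Subgroup ↥K), Commute r z' := fun r hr =>
    Subtype.ext (((hZmem z).1 hzZ).2.1 _ ((hPmem r).1 hr)).eq
  by_cases hbig : ∃ v ∈ Z, orderOf v = 2 ∧ v ≠ z
  · obtain ⟨v, hvZ, hv, hvz⟩ := hbig
    set v' : ↥K := ⟨v, Subgroup.mem_sup_right hvZ⟩ with hv'def
    have hv' : orderOf v' = 2 := (Subgroup.orderOf_coe v').symm.trans hv
    have hv'P : v' ∈ (P : Subgroup ↥K) := (hPmem v').2 (hZS hvZ)
    have hv'c : ∀ r ∈ (P : Subgroup ↥K), Commute r v' := fun r hr =>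
      Subtype.ext (((hZmem v).1 hvZ).2.1 _ ((hPmem r).1 hr)).eq
    by_cases hE : ∃ E : Subgroup ↥K, E ≤ (P : Subgroup ↥K) ∧ Cfsg.IsElementaryAbelian 2 E ∧
        2 ^ 3 ≤ Nat.card E
    · obtain ⟨E, hEP, hE1, hE8⟩ := hE
      have hU : IsKleinFour (Subgroup.zpowers (⟨z', hz'P⟩ : ↥(P : Subgroup ↥K)) ⊔
          Subgroup.zpowers ⟨v', hv'P⟩ : Subgroup ↥(P : Subgroup ↥K)) :=
        CfsgLib.FTApps.kleinFour_sup ((Subgroup.orderOf_mk _ _).trans hz')
          ((Subgroup.orderOf_mk _ _).trans hv')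
          (fun e => hvz (congrArg (fun y : ↥(P : Subgroup ↥K) => ((y : ↥K) : G)) e).symm)
          (Subtype.ext (hv'c z' hz'P).eq)
      have hconn : Cfsg.IsFourConnected ↥(P : Subgroup ↥K) := by
        have hcU : ∀ x : ↥(P : Subgroup ↥K), ∀ y ∈ (Subgroup.zpowers (⟨z', hz'P⟩ : ↥(P : Subgroup ↥K)) ⊔
            Subgroup.zpowers ⟨v', hv'P⟩ : Subgroup ↥(P : Subgroup ↥K)), x * y = y * x := fun x y hy =>
          (CfsgLib.FTApps.CoreClosureRank.pair_commute (w := x)
            (Subtype.ext (hz'c x x.2).eq.symm) (Subtype.ext (hv'c x x.2).eq.symm) y hy).eq.symm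
        intro U V hU1 hV1
        exact (Relation.ReflTransGen.single ⟨hU1, hU, fun a _ b hb => hcU a b hb⟩).tail
          ⟨hU, hV1, fun a ha b _ => (hcU b a ha).symm⟩
      exact Or.inr (Or.inr (Or.inr (CfsgLib.FTApps.CoreClosure.characteristicTwoType hKeven hL
        fun t ht => CfsgLib.FTApps.CoreClosure.core_eq_bot hOK hL P hEP hE1 hE8 hconn ht)))
    · have hthree : ∀ x : G, x ∈ (S : Subgroup G) → x ∈ K → orderOf x = 2 →
          x = z ∨ x = v ∨ x = z * v := by
        intro x hxS hxK hx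
        by_contra hnot
        push Not at hnot
        have hxP : (⟨x, hxK⟩ : ↥K) ∈ (P : Subgroup ↥K) := (hPmem _).2 hxS
        obtain ⟨h1, h8⟩ := CfsgLib.FTApps.CoreClosureRank.elementary_three hz' hv'
          (c := (⟨x, hxK⟩ : ↥K)) ((Subgroup.orderOf_mk _ _).trans hx) (hv'c z' hz'P)
          (hz'c _ hxP).symm (hv'c _ hxP).symm (fun e => hvz (congrArg Subtype.val e).symm)
          ⟨fun e => hnot.1 (congrArg Subtype.val e), fun e => hnot.2.1 (congrArg Subtype.val e),
            fun e => hnot.2.2 (congrArg Subtype.val e)⟩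
        exact hE ⟨_, sup_le (sup_le (Subgroup.zpowers_le.2 hz'P) (Subgroup.zpowers_le.2 hv'P))
          (Subgroup.zpowers_le.2 hxP), h1, h8⟩
      have hzv : Commute z v := (((hZmem v).1 hvZ).2.1 z hzS)
      set U := Subgroup.zpowers z ⊔ Subgroup.zpowers v with hUdef
      have hU : IsKleinFour U :=
        CfsgLib.FTApps.kleinFour_sup hz hv (Ne.symm hvz) hzv.eq
      have hinU : ∀ x : G, x ∈ (S : Subgroup G) → x ∈ K → x * x = 1 → x ∈ U := by
        intro x hxS hxK hx2
        by_cases hx1 : x = 1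
        · exact hx1 ▸ one_mem _
        rcases hthree x hxS hxK (CfsgLib.Involution.Dihedral.orderOf_eq_two hx2 hx1)
          with rfl | rfl | rfl
        exacts [Subgroup.mem_sup_left (Subgroup.mem_zpowers _),
          Subgroup.mem_sup_right (Subgroup.mem_zpowers _),
          mul_mem (Subgroup.mem_sup_left (Subgroup.mem_zpowers _))
            (Subgroup.mem_sup_right (Subgroup.mem_zpowers _))]
      have hZU : Z = U := le_antisymm
        (fun x hx => hinU x (hZS hx) (Subgroup.mem_sup_right hx) ((hZmem x).1 hx).2.2)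
        (sup_le (Subgroup.zpowers_le.2 hzZ) (Subgroup.zpowers_le.2 hvZ))
      refine Or.inr (Or.inr (Or.inl ⟨hZU ▸ hU.card_four, le_antisymm ?_ ?_⟩))
      · refine (Subgroup.closure_le _).2 fun x hx => ?_
        rw [SetLike.mem_coe, hZU]
        exact hinU x hx.1.1 (Subgroup.mem_sup_left hx.1.2) (by rw [← pow_two]; exact hx.2)
      -- two involutions of `R` exist
      obtain ⟨a, b, haS, haH, ha, hbS, hbH, hb, hab⟩ : ∃ a b : G, a ∈ (S : Subgroup G) ∧ a ∈ H ∧
          orderOf a = 2 ∧ b ∈ (S : Subgroup G) ∧ b ∈ H ∧ orderOf b = 2 ∧ a ≠ b := by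
        obtain ⟨Q, hQ⟩ := CfsgLib.NT.SylowCount.exists_sylow_inf S H
        have hQmem : ∀ y : ↥H, y ∈ (Q : Subgroup ↥H) ↔ (y : G) ∈ (S : Subgroup G) := fun y => by
          rw [← Subgroup.mem_map_iff_mem H.subtype_injective, hQ, Subgroup.mem_inf]
          exact ⟨fun h => h.1, fun h => ⟨h, y.2⟩⟩
        obtain ⟨t, ht⟩ : ∃ t : ↥H, orderOf t = 2 := by
          refine exists_prime_orderOf_dvd_card' 2 (Nat.two_dvd_ne_zero.not_right.2 fun h1 => ?_)
          have hH : H = ⊥ := hodd H inferInstance (Nat.odd_iff.2 h1)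
          have hG : IsPGroup 2 G := (CfsgLib.Fusion.Basic.isPGroup_quotient_pResidual (p := 2)
            (G := G)).of_injective (QuotientGroup.mk' H) (by
              rw [← MonoidHom.ker_eq_bot_iff, QuotientGroup.ker_mk', hH])
          have htop : (⊤ : Subgroup G) ≤ Cfsg.pCore 2 G :=
            CfsgLib.Solvable.Cores.le_pCore (hG.to_subgroup _)
          rw [hO] at htop
          exact CfsgLib.Involution.Dihedral.ne_one hz (Subgroup.mem_bot.1 (htop (Subgroup.mem_top z)))
        obtain ⟨g, hg⟩ := CfsgLib.Involution.Basic.exists_conj_mem Q ht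
        set u := g * t * g⁻¹ with hu
        have hu2 : orderOf u = 2 := (CfsgLib.Involution.Dihedral.orderOf_conj g t).trans ht
        by_contra hno
        push Not at hno
        obtain ⟨N, hN, hNodd, hNc⟩ := Cfsg.Agent.S0215.result Q u hu2 hg fun k hk =>
          Subtype.ext (hno _ _ ((hQmem _).1 hk) (k * u * k⁻¹).2
            ((Subgroup.orderOf_coe _).trans ((CfsgLib.Involution.Dihedral.orderOf_conj k u).trans hu2))
            ((hQmem _).1 hg) u.2 ((Subgroup.orderOf_coe _).trans hu2))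
        haveI := hN
        have hN1 : N ≤ Cfsg.oddCore ↥H := CfsgLib.Involution.ZStar.le_oddCore hN hNodd
        have hOH : Cfsg.oddCore ↥H = ⊥ := by
          refine (Subgroup.map_eq_bot_iff_of_injective _ H.subtype_injective).1
            (hodd _ inferInstance ?_)
          rw [Subgroup.card_map_of_injective H.subtype_injective]
          exact CfsgLib.Involution.ZStar.odd_card_oddCore
        haveI : (Subgroup.zpowers u).Normal := CfsgLib.TwoGroups.Classify.normal_zpowers_of_central (Subgroup.mem_center_iff.2 fun k => by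
          have h1 : u * k * u⁻¹ * k⁻¹ = 1 := Subgroup.mem_bot.1 (hOH ▸ hN1 (hNc k))
          exact (mul_inv_eq_iff_eq_mul.1 (mul_inv_eq_one.1 h1)).symm)
        have h1 := CfsgLib.Solvable.Cores.le_pCore
          (CfsgLib.Involution.Basic.isPGroup_zpowers_of_two hu2) (Subgroup.mem_zpowers u)
        have h2 : (Cfsg.pCore 2 ↥H).map H.subtype ≤ Cfsg.pCore 2 G :=
          CfsgLib.Solvable.Cores.le_pCore ((CfsgLib.Solvable.Cores.isPGroup_pCore 2).map _)
        have h3 := h2 ⟨u, h1, rfl⟩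
        rw [hO, Subgroup.mem_bot] at h3
        exact CfsgLib.Involution.Dihedral.ne_one ((Subgroup.orderOf_coe u).trans hu2) h3
      rw [hZU]
      have hab' : Commute a b := by
        have haZ : a ∈ Z := hZU ▸ hinU a haS (Subgroup.mem_sup_left haH)
          (CfsgLib.Involution.Dihedral.mul_self ha)
        exact (((hZmem a).1 haZ).2.1 b hbS).symm
      have h4 : Subgroup.zpowers a ⊔ Subgroup.zpowers b = U := by
        have hW := CfsgLib.FTApps.kleinFour_sup ha hb hab hab'.eq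
        refine Subgroup.eq_of_le_of_card_ge (sup_le ?_ ?_) (by rw [hW.card_four, hU.card_four])
        · exact Subgroup.zpowers_le.2 (hinU a haS (Subgroup.mem_sup_left haH)
            (CfsgLib.Involution.Dihedral.mul_self ha))
        · exact Subgroup.zpowers_le.2 (hinU b hbS (Subgroup.mem_sup_left hbH)
            (CfsgLib.Involution.Dihedral.mul_self hb))
      rw [← h4]
      refine sup_le (Subgroup.zpowers_le.2 (Subgroup.subset_closure ⟨⟨haS, haH⟩, ?_⟩))
        (Subgroup.zpowers_le.2 (Subgroup.subset_closure ⟨⟨hbS, hbH⟩, ?_⟩))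
      · rw [pow_two]; exact CfsgLib.Involution.Dihedral.mul_self ha
      · rw [pow_two]; exact CfsgLib.Involution.Dihedral.mul_self hb
  -- `Z = ⟨z⟩`
  push Not at hbig
  have hZz : Z = Subgroup.zpowers z := le_antisymm (fun x hx => by
    by_cases hx1 : x = 1
    · exact hx1 ▸ one_mem _
    rw [hbig x hx (CfsgLib.Involution.Dihedral.orderOf_eq_two ((hZmem x).1 hx).2.2 hx1)]
    exact Subgroup.mem_zpowers z) (Subgroup.zpowers_le.2 hzZ)
  have hzH : z ∈ H := by
    by_contra hzH
    -- otherwise `S ∩ H = 1`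
    have hR : H.subgroupOf (S : Subgroup G) = ⊥ := by
      by_contra hne
      obtain ⟨t, htR, ht, htc⟩ :=
        CfsgLib.TwoGroups.Classify.exists_central_involution S.isPGroup' _ hne
      have htZ : (t : G) ∈ Z := (hZmem _).2 ⟨t.2, fun s hs => congrArg Subtype.val
        (Subgroup.mem_center_iff.1 htc ⟨s, hs⟩),
        CfsgLib.Involution.Dihedral.mul_self ((Subgroup.orderOf_coe t).trans ht)⟩
      exact hzH (hbig _ htZ ((Subgroup.orderOf_coe t).trans ht) ▸ Subgroup.mem_subgroupOf.1 htR)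
    obtain ⟨Q, hQ⟩ := CfsgLib.NT.SylowCount.exists_sylow_inf S H
    have hQbot : (Q : Subgroup ↥H) = ⊥ := by
      refine (Subgroup.map_eq_bot_iff_of_injective _ H.subtype_injective).1 ?_
      rw [hQ, inf_comm]
      exact disjoint_iff.1 (Subgroup.subgroupOf_eq_bot.1 hR)
    have hHodd : Odd (Nat.card ↥H) := by
      refine Nat.odd_iff.2 ?_
      have h1 := Q.not_dvd_index
      rw [hQbot, Subgroup.index_bot] at h1
      omega
    have hG : IsPGroup 2 G := (CfsgLib.Fusion.Basic.isPGroup_quotient_pResidual (p := 2)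
      (G := G)).of_injective (QuotientGroup.mk' H) (by
        rw [← MonoidHom.ker_eq_bot_iff, QuotientGroup.ker_mk', hodd H inferInstance hHodd])
    have htop : (⊤ : Subgroup G) ≤ Cfsg.pCore 2 G :=
      CfsgLib.Solvable.Cores.le_pCore (hG.to_subgroup _)
    rw [hO] at htop
    exact CfsgLib.Involution.Dihedral.ne_one hz (Subgroup.mem_bot.1 (htop (Subgroup.mem_top z)))
  have hKH : K = H := sup_eq_left.2 (hZz ▸ Subgroup.zpowers_le.2 hzH)
  have h2 : ∀ M : Subgroup ↥K, M.Normal → M.index ≠ 2 := by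
    intro M hM hMi
    haveI := hM
    have hle : H ≤ M.map K.subtype := by
      rw [hHdef, Cfsg.pResidual, Subgroup.closure_le]
      intro g hg
      have hgK : g ∈ K := Subgroup.mem_sup_left (Subgroup.subset_closure hg)
      refine ⟨⟨g, hgK⟩, CfsgLib.Involution.ZStar.mem_of_sq_mem ?_
        (Subgroup.mul_self_mem_of_index_two hMi _), rfl⟩
      rw [Subgroup.orderOf_mk]
      exact Nat.coprime_two_right.1 hg
    have htop : M = ⊤ := by
      refine eq_top_iff.2 fun x _ => ?_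
      exact (Subgroup.mem_map_iff_mem K.subtype_injective).1 (hle (hKH.le x.2))
    rw [htop, Subgroup.index_top] at hMi
    omega
  by_cases hE : ∃ E : Subgroup ↥K, E ≤ (P : Subgroup ↥K) ∧ Cfsg.IsElementaryAbelian 2 E ∧
      2 ^ 3 ≤ Nat.card E
  · obtain ⟨E, hEP, hE1, hE8⟩ := hE
    exact Or.inr (Or.inr (Or.inr (CfsgLib.FTApps.CoreClosure.characteristicTwoType hKeven hL
      fun t ht => CfsgLib.FTApps.CoreClosureRank.core_eq_bot hOK h2 hL P hEP hE1 hE8 ht)))
  by_cases hweak : ∀ h ∈ H, ∀ y ∈ Z ⊓ H, h * y * h⁻¹ ∈ (S : Subgroup G) → h * y * h⁻¹ ∈ Z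
  · refine Or.inr (Or.inl ⟨?_, hweak⟩)
    rw [inf_eq_left.2 (hZz ▸ Subgroup.zpowers_le.2 hzH), hZz, Nat.card_zpowers, hz]
  push Not at hweak
  obtain ⟨h, hh, y, hy, hwS, hwZ⟩ := hweak
  have hyz : y = z := hbig y hy.1 (CfsgLib.Involution.Dihedral.orderOf_eq_two
    ((hZmem y).1 hy.1).2.2 fun e => hwZ (by rw [e, mul_one, mul_inv_cancel]; exact one_mem _))
  subst hyz
  set h' : ↥K := ⟨h, Subgroup.mem_sup_left hh⟩ with hh'
  have hwP : h' * z' * h'⁻¹ ∈ (P : Subgroup ↥K) := (hPmem _).2 hwS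
  have hN : Subgroup.centralizer ({z'} : Set ↥K) ≤ Subgroup.normalizer ((P : Subgroup ↥K) : Set ↥K) := by
    intro x hx
    have hxS : (x : G) ∈ Subgroup.normalizer ((S : Subgroup G) : Set G) := hZ S (by
      rw [← hZdef, hZz, Subgroup.zpowers_eq_closure, Subgroup.centralizer_closure]
      exact Subgroup.mem_centralizer_singleton_iff.2
        (congrArg Subtype.val (Subgroup.mem_centralizer_singleton_iff.1 hx)))
    refine Subgroup.mem_normalizer_iff.2 fun a => ?_
    show a ∈ (P : Subgroup ↥K) ↔ x * a * x⁻¹ ∈ (P : Subgroup ↥K)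
    rw [hPmem, hPmem]
    exact Subgroup.mem_normalizer_iff.1 hxS (a : G)
  have hS : ∀ w ∈ (P : Subgroup ↥K), IsConj z' w →
      (∀ r ∈ (P : Subgroup ↥K), Commute r w) → w ≠ z' →
      ∃ w' ∈ (P : Subgroup ↥K), IsConj z' w' ∧ w' ≠ w ∧ w' ≠ z' := by
    intro w hwP' hwc _ hwne
    obtain ⟨k, hk⟩ := isConj_iff.1 hwc
    obtain ⟨s, hs, hsw⟩ : ∃ s ∈ (S : Subgroup G), s * (w : G) * s⁻¹ ≠ w := by
      by_contra hall
      push Not at hall
      have hw2 : orderOf (w : G) = 2 := by
        rw [Subgroup.orderOf_coe, ← hk, CfsgLib.Involution.Dihedral.orderOf_conj, hz']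
      exact hwne (Subtype.ext (hbig _ ((hZmem _).2 ⟨(hPmem w).1 hwP',
        fun s hs => mul_inv_eq_iff_eq_mul.1 (hall s hs),
        CfsgLib.Involution.Dihedral.mul_self hw2⟩) hw2))
    have hmem : s * (w : G) * s⁻¹ ∈ K := hKn.conj_mem _ w.2 s
    refine ⟨⟨_, hmem⟩, (hPmem _).2 (mul_mem (mul_mem hs ((hPmem w).1 hwP')) (inv_mem hs)),
      isConj_iff.2 ⟨⟨s * (k : G) * s⁻¹, hKn.conj_mem _ k.2 s⟩, Subtype.ext ?_⟩,
      fun e => hsw (congrArg Subtype.val e), fun e => hwne (Subtype.ext ?_)⟩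
    · have hk' : (k : G) * y * (k : G)⁻¹ = (w : G) := congrArg Subtype.val hk
      have hsz : Commute s y := ((hZmem y).1 hzZ).2.1 s hs
      show s * (k : G) * s⁻¹ * y * (s * (k : G) * s⁻¹)⁻¹ = s * (w : G) * s⁻¹
      rw [← hk']
      calc s * (k : G) * s⁻¹ * y * (s * (k : G) * s⁻¹)⁻¹
          = s * (k : G) * (s⁻¹ * y * s) * (k : G)⁻¹ * s⁻¹ := by group
        _ = s * ((k : G) * y * (k : G)⁻¹) * s⁻¹ := by
          rw [(hsz.inv_left).eq, inv_mul_cancel_right]; group
    · have e' : s * (w : G) * s⁻¹ = y := congrArg Subtype.val e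
      calc (w : G) = s⁻¹ * (s * (w : G) * s⁻¹) * s := by group
        _ = y := by rw [e', (((hZmem y).1 hzZ).2.1 s hs).inv_left.eq, inv_mul_cancel_right]
  have hall : ∀ u ∈ (P : Subgroup ↥K), orderOf u = 2 → IsConj z' u := fun u hu hu2 =>
    CfsgLib.FTApps.CoreClosureCentral.all_conj P hz' hz'P hz'c hN hE h2 hS hwP
      (isConj_iff.2 ⟨h', rfl⟩) (fun e => hwZ (by
        have e' : h * y * h⁻¹ = y := congrArg Subtype.val e
        rw [e']; exact hzZ)) hu2 hu
  rcases CfsgLib.FTApps.CoreClosureCentral.stronglyEmbedded_or_core_eq_bot hOK hL P hz' hz'P hz'c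
    hN hall with hse | hcore
  · left
    rw [hKH] at hse
    exact hse
  · exact Or.inr (Or.inr (Or.inr
      (CfsgLib.FTApps.CoreClosure.characteristicTwoType hKeven hL hcore)))

end Cfsg.Agent.S3759
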