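import Cfsg.Statements.S3758
import Cfsg.Agent.S3759
import Cfsg.Agent.S0518
import Cfsg.Agent.Lib.LocalEvenB.LocalS4
-- import your own Cfsg.Agent.* helpers here

set_option autoImplicit false
open Cfsg

namespace Cfsg.Agent.S3758

theorem inf_odd_of_le {G : Type*} [Group G] [Finite G] {K : Subgroup G} {X : Subgroup ↥K} {Y : Subgroup G}
    (h : X.map K.subtype ≤ Y) (hY : Odd (Nat.card Y)) : Odd (Nat.card X) := by
  rw [← Subgroup.card_map_of_injective (K := X) K.subtype_injective]
  exact Odd.of_dvd_nat hY (Subgroup.card_dvd_of_le h)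

/-- A strongly embedded subgroup meets a normal subgroup of even order in a strongly embedded one. -/
theorem exists_stronglyEmbedded_inf {G : Type*} [Group G] [Finite G] {H K : Subgroup G} [H.Normal] (hHK : H ≤ K)
    (hH : Even (Nat.card H)) {M : Subgroup ↥K} (hM : Cfsg.IsStronglyEmbedded M) :
    ∃ M' : Subgroup ↥H, Cfsg.IsStronglyEmbedded M' := by
  obtain ⟨hMtop, hMeven, hMsep⟩ := hM
  have : Fact (Nat.Prime 2) := ⟨Nat.prime_two⟩
  set HK : Subgroup ↥K := H.subgroupOf K with hHKdef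
  have hcK : Nat.card ↥HK = Nat.card H := Nat.card_congr (Subgroup.subgroupOfEquivOfLe hHK).toEquiv
  -- an involution of `H` in `M`
  obtain ⟨t, htM, ht⟩ : ∃ t ∈ M, orderOf t = 2 := by
    obtain ⟨t, ht⟩ := exists_prime_orderOf_dvd_card' (G := ↥M) 2 hMeven.two_dvd
    exact ⟨t, t.2, by rw [Subgroup.orderOf_coe, ht]⟩
  obtain ⟨P, hP⟩ := (IsPGroup.of_card (p := 2) (n := 1) (G := ↥(Subgroup.zpowers t))
    (by rw [Nat.card_zpowers, ht]; norm_num)).exists_le_sylow
  have hne : HK.subgroupOf (P : Subgroup ↥K) ≠ ⊥ := by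
    intro h
    rw [Subgroup.subgroupOf_eq_bot] at h
    obtain ⟨R, hR⟩ := CfsgLib.NT.SylowCount.exists_sylow_inf P HK
    have hR2 : 2 ∣ Nat.card ↥(R : Subgroup ↥HK) :=
      R.dvd_card_of_dvd_card (by rw [hcK]; exact hH.two_dvd)
    rw [← Subgroup.card_map_of_injective (K := (R : Subgroup ↥HK)) HK.subtype_injective, hR,
      inf_comm, disjoint_iff.1 h, Subgroup.card_bot] at hR2
    norm_num at hR2
  obtain ⟨u, huH, hu, huc⟩ := CfsgLib.TwoGroups.Classify.exists_central_involution P.isPGroup' _ hne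
  have huM : (u : ↥K) ∈ M := by
    by_contra huM
    have h1 : t ∈ M ⊓ M.map (MulAut.conj (u : ↥K)).toMonoidHom := by
      refine ⟨htM, t, htM, ?_⟩
      have hc : (u : ↥K) * t = t * u := congrArg Subtype.val
        (Subgroup.mem_center_iff.1 huc ⟨t, hP (Subgroup.mem_zpowers t)⟩).symm
      show (u : ↥K) * t * (u : ↥K)⁻¹ = t
      rw [hc, mul_inv_cancel_right]
    have := Subgroup.orderOf_dvd_natCard _ h1
    rw [ht] at this
    exact Nat.not_even_iff_odd.2 (hMsep _ huM) (even_iff_two_dvd.2 this)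
  refine ⟨M.comap (Subgroup.inclusion hHK), ?_, ?_, fun g hg => ?_⟩
  · intro htop
    obtain ⟨g, hg⟩ : ∃ g, g ∉ M := by
      by_contra hall
      push Not at hall
      exact hMtop (eq_top_iff.2 fun g _ => hall g)
    have hle : HK ≤ M := fun x hx => by
      have : (⟨(x : G), hx⟩ : ↥H) ∈ M.comap (Subgroup.inclusion hHK) := htop ▸ Subgroup.mem_top _
      exact this
    have h2 : HK ≤ M ⊓ M.map (MulAut.conj g).toMonoidHom := by
      refine le_inf hle fun x hx => ⟨g⁻¹ * x * g⁻¹⁻¹, hle ((inferInstance : HK.Normal).conj_mem x hx g⁻¹), ?_⟩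
      simp [mul_assoc]
    exact Nat.not_even_iff_odd.2 (hMsep g hg)
      (even_iff_two_dvd.2 ((hcK ▸ hH.two_dvd).trans (Subgroup.card_dvd_of_le h2)))
  · rw [even_iff_two_dvd]
    have huH' : ((u : ↥K) : G) ∈ H := huH
    have h2 : orderOf (⟨((u : ↥K) : G), huH'⟩ : ↥H) = 2 := by
      rw [← Subgroup.orderOf_coe]
      show orderOf ((u : ↥K) : G) = 2
      rw [Subgroup.orderOf_coe, Subgroup.orderOf_coe, hu]
    have hmem : (⟨((u : ↥K) : G), huH'⟩ : ↥H) ∈ M.comap (Subgroup.inclusion hHK) := huM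
    exact h2 ▸ Subgroup.orderOf_dvd_natCard _ hmem
  · have hinj : Function.Injective (Subgroup.inclusion hHK) := Subgroup.inclusion_injective hHK
    have hle : (M.comap (Subgroup.inclusion hHK) ⊓ (M.comap (Subgroup.inclusion hHK)).map (MulAut.conj g).toMonoidHom).map
        (Subgroup.inclusion hHK) ≤ M ⊓ M.map (MulAut.conj (Subgroup.inclusion hHK g)).toMonoidHom := by
      rintro _ ⟨x, ⟨hx1, y, hy, rfl⟩, rfl⟩
      exact ⟨hx1, _, hy, by simp⟩
    rw [← Subgroup.card_map_of_injective hinj]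
    exact Odd.of_dvd_nat (hMsep _ hg) (Subgroup.card_dvd_of_le hle)


/-- Let G be a finite group of even order in which every 2-local subgroup is solvable and C_G(Ω₁(Z(S))) ≤ N_G(S) for every Sylow 2-subgroup S, and suppose O_{2'}(G) = 1 = O₂(G). Fix a Sylow 2-subgroup S, put Z = Ω₁(Z(S)), H = O²(G) (generated by the elements of odd order) and R = S ∩ H. Then one of the following holds: H has a strongly embedded subgroup; R is dihedral (of order at least 4) or semidihedral; Z ∩ R has order 2 and is weakly closed in R with respect to H; or Z has order 4 and is exactly the subgroup generated by the involutions of R. -/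
theorem result {G : Type*} [Group G] [Finite G] (heven : Even (Nat.card G)) (hN : ∀ L : Subgroup G, Cfsg.IsTwoLocal L → Group.IsSolvable L) (hZ : ∀ S : Sylow 2 G, Subgroup.centralizer (Cfsg.omegaOne 2 ((S : Subgroup G) ⊓ Subgroup.centralizer ((S : Subgroup G) : Set G)) : Set G) ≤ Subgroup.normalizer ((S : Subgroup G) : Set G)) (hO' : Cfsg.pPrimeCore 2 G = ⊥) (hO : Cfsg.pCore 2 G = ⊥) (S : Sylow 2 G) : (∃ M : Subgroup ↥(Cfsg.pResidual 2 G), Cfsg.IsStronglyEmbedded M) ∨ ((∃ n : ℕ, 2 ≤ n ∧ Nonempty (↥((S : Subgroup G) ⊓ Cfsg.pResidual 2 G) ≃* DihedralGroup n)) ∨ Cfsg.IsQuasiDihedral ↥((S : Subgroup G) ⊓ Cfsg.pResidual 2 G)) ∨ (Nat.card ↥(Cfsg.omegaOne 2 ((S : Subgroup G) ⊓ Subgroup.centralizer ((S : Subgroup G) : Set G)) ⊓ Cfsg.pResidual 2 G) = 2 ∧ ∀ h ∈ Cfsg.pResidual 2 G, ∀ z ∈ Cfsg.omegaOne 2 ((S : Subgroup G) ⊓ Subgroup.centralizer ((S : Subgroup G) : Set G)) ⊓ Cfsg.pResidual 2 G, h * z * h⁻¹ ∈ (S : Subgroup G) → h * z * h⁻¹ ∈ Cfsg.omegaOne 2 ((S : Subgroup G)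 ⊓ Subgroup.centralizer ((S : Subgroup G) : Set G))) ∨ (Nat.card ↥(Cfsg.omegaOne 2 ((S : Subgroup G) ⊓ Subgroup.centralizer ((S : Subgroup G) : Set G))) = 4 ∧ Cfsg.omegaOne 2 ((S : Subgroup G) ⊓ Cfsg.pResidual 2 G) = Cfsg.omegaOne 2 ((S : Subgroup G) ⊓ Subgroup.centralizer ((S : Subgroup G) : Set G))) := by
  classical
  haveI : Fact (Nat.Prime 2) := ⟨Nat.prime_two⟩
  have hC : ∀ t : G, orderOf t = 2 → Group.IsSolvable ↥(Subgroup.centralizer ({t} : Set G)) := fun t ht => by
    have hle : Subgroup.centralizer ({t} : Set G) ≤ Subgroup.normalizer (Subgroup.zpowers t : Set G) := by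
      rw [← Subgroup.centralizer_closure, ← Subgroup.zpowers_eq_closure]
      exact Subgroup.centralizer_le_normalizer _
    have := hN _ ⟨Subgroup.zpowers t, IsPGroup.of_card (n := 1) (by rw [Nat.card_zpowers, ht]; norm_num),
      fun h => by rw [Subgroup.zpowers_eq_bot] at h; rw [h, orderOf_one] at ht; omega, rfl⟩
    exact Group.isSolvable_of_isSolvable_injective (Subgroup.inclusion_injective hle)
  rcases S3759.result heven hC hZ hO' hO S with h | h | h | h
  · exact Or.inl h
  · exact Or.inr (Or.inr (Or.inl h))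
  · exact Or.inr (Or.inr (Or.inr h))
  set Z := Cfsg.omegaOne 2 ((S : Subgroup G) ⊓ Subgroup.centralizer ((S : Subgroup G) : Set G)) with hZdef
  set H := Cfsg.pResidual 2 G with hHdef
  set K := H ⊔ Z with hKdef
  have hZc : ∀ y ∈ Z, ∀ s ∈ (S : Subgroup G), s * y = y * s := fun y hy s hs => by
    have hle : Z ≤ Subgroup.centralizer ((S : Subgroup G) : Set G) :=
      (Subgroup.closure_le _).2 fun y hy => hy.1.2
    exact Subgroup.mem_centralizer_iff.1 (hle hy) s hs
  have hZS : Z ≤ (S : Subgroup G) := (Subgroup.closure_le _).2 fun y hy => hy.1.1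
  have hodd : ∀ N : Subgroup G, N.Normal → Odd (Nat.card N) → N = ⊥ := fun N hN h => by
    haveI := hN
    exact le_bot_iff.1 (hO' ▸ CfsgLib.Solvable.Cores.le_pPrimeCore (Nat.coprime_two_right.2 h))
  have hSH : (S : Subgroup G) ⊔ H = ⊤ := by
    obtain ⟨k, hk⟩ := CfsgLib.Fusion.Basic.exists_index_pResidual (G := G) (p := 2)
    refine Subgroup.index_eq_one.1 (Nat.eq_one_of_dvd_coprimes ?_
      (Subgroup.index_dvd_of_le (le_sup_left : (S : Subgroup G) ≤ _))
      (Subgroup.index_dvd_of_le (le_sup_right : H ≤ _)))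
    rw [hk]
    exact Nat.Coprime.pow_right k (Nat.coprime_two_right.2 (Nat.odd_iff.2
      (by have := S.not_dvd_index; omega)))
  haveI hKn : K.Normal := by
    refine Subgroup.normalizer_eq_top_iff.1 (eq_top_iff.2 (hSH ▸ sup_le (fun s hs => ?_)
      (le_trans le_sup_left Subgroup.le_normalizer)))
    refine Subgroup.mem_normalizer_fintype fun x hx => ?_
    have hle : K ≤ K.comap (MulAut.conj s).toMonoidHom := sup_le
      (fun y hy => Subgroup.mem_sup_left (Subgroup.Normal.conj_mem inferInstance y hy s))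
      (fun y hy => by
        rw [Subgroup.mem_comap]
        show s * y * s⁻¹ ∈ K
        rw [hZc y hy s hs, mul_inv_cancel_right]
        exact Subgroup.mem_sup_right hy)
    exact hle hx
  have hHeven : Even (Nat.card H) := by
    by_contra hne
    have hbot : H = ⊥ := hodd H inferInstance (Nat.not_even_iff_odd.1 hne)
    have hG : IsPGroup 2 G := (CfsgLib.Fusion.Basic.isPGroup_quotient_pResidual (p := 2)
      (G := G)).of_injective (QuotientGroup.mk' H) (by
        rw [← MonoidHom.ker_eq_bot_iff, QuotientGroup.ker_mk', hbot])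
    have htop : (⊤ : Subgroup G) ≤ Cfsg.pCore 2 G :=
      CfsgLib.Solvable.Cores.le_pCore (hG.to_subgroup _)
    rw [hO] at htop
    obtain ⟨t, ht⟩ := exists_prime_orderOf_dvd_card' (G := G) 2 heven.two_dvd
    rw [Subgroup.mem_bot.1 (htop (Subgroup.mem_top t)), orderOf_one] at ht
    omega
  have hKO : Cfsg.pCore 2 ↥K = ⊥ := by
    refine (Subgroup.map_eq_bot_iff_of_injective _ K.subtype_injective).1 (le_bot_iff.1 ?_)
    rw [← hO]
    exact CfsgLib.Solvable.Cores.le_pCore ((CfsgLib.Solvable.Cores.isPGroup_pCore 2).map _)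
  have hKN : ∀ N : Subgroup ↥K, Cfsg.IsTwoLocal N → Group.IsSolvable N := by
    rintro N ⟨T, hT, hT1, rfl⟩
    haveI := hN _ ⟨T.map K.subtype, hT.map _,
      fun h => hT1 ((Subgroup.map_eq_bot_iff_of_injective _ K.subtype_injective).1 h), rfl⟩
    refine Group.isSolvable_of_isSolvable_injective
      (f := (K.subtype.comp (Subgroup.normalizer (T : Set ↥K)).subtype).codRestrict
        (Subgroup.normalizer (((T.map K.subtype : Subgroup G)) : Set G))
        fun n => Subgroup.le_normalizer_map K.subtype ⟨n, n.2, rfl⟩) ?_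
    exact fun a b h => Subtype.ext (Subtype.ext (congrArg
      (fun w : ↥(Subgroup.normalizer (((T.map K.subtype : Subgroup G)) : Set G)) => (w : G)) h))
  have hKZ : ∀ P : Sylow 2 ↥K,
      Subgroup.centralizer {z : ↥K | z ∈ (P : Subgroup ↥K) ∧ z ^ 2 = 1 ∧ ∀ s ∈ (P : Subgroup ↥K), s * z = z * s} ≤
        Subgroup.normalizer ((P : Subgroup ↥K) : Set ↥K) := by
    intro P x hx
    obtain ⟨S', hS'⟩ := (P.isPGroup'.map K.subtype).exists_le_sylow
    have hPS : (S' : Subgroup G).comap K.subtype = (P : Subgroup ↥K) :=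
      P.is_maximal' (S'.isPGroup'.comap_of_injective _ K.subtype_injective) fun y hy => hS' ⟨y, hy, rfl⟩
    obtain ⟨g, hg⟩ := MulAction.exists_smul_eq G S S'
    have hxS : (x : G) ∈ Subgroup.normalizer ((S' : Subgroup G) : Set G) := by
      refine hZ S' ?_
      rw [Cfsg.omegaOne, Subgroup.centralizer_closure, Subgroup.mem_centralizer_iff]
      intro w hw
      have hwK : w ∈ K := by
        have h1 : ∀ s ∈ (S : Subgroup G), g * s * g⁻¹ ∈ (S' : Subgroup G) := fun s hs => by
          rw [← hg, Sylow.coe_subgroup_smul]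
          exact ⟨s, hs, rfl⟩
        have h2 : g⁻¹ * w * g ∈ Z := by
          obtain ⟨s, hs, hsw⟩ : w ∈ (g • S : Sylow 2 G) := hg.symm ▸ hw.1.1
          have hsw' : g * s * g⁻¹ = w := hsw
          have hs' : g⁻¹ * w * g = s := by rw [← hsw']; group
          rw [hs']
          refine Subgroup.subset_closure ⟨⟨hs, Subgroup.mem_centralizer_iff.2 fun r hr => ?_⟩, ?_⟩
          · have := Subgroup.mem_centralizer_iff.1 hw.1.2 _ (h1 r hr)
            rw [← hsw', conj_mul, conj_mul] at this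
            exact mul_left_cancel (mul_right_cancel this)
          · have := hw.2
            rw [← hsw', conj_pow, conj_eq_one_iff] at this
            exact this
        have := hKn.conj_mem _ (Subgroup.mem_sup_right (S := H) h2) g
        rwa [show g * (g⁻¹ * w * g) * g⁻¹ = w from by group] at this
      refine congrArg Subtype.val (Subgroup.mem_centralizer_iff.1 hx ⟨w, hwK⟩ ⟨?_, Subtype.ext hw.2, fun s hs => ?_⟩)
      · rw [← hPS]; exact hw.1.1
      · exact Subtype.ext (Subgroup.mem_centralizer_iff.1 hw.1.2 _ (hS' ⟨s, hs, rfl⟩))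
    refine Subgroup.mem_normalizer_iff.2 fun a => ?_
    rw [← hPS, Subgroup.mem_comap, Subgroup.mem_comap]
    exact Subgroup.mem_normalizer_iff.1 hxS (a : G)
  set H0 : Subgroup ↥K := Subgroup.closure {g : ↥K | Odd (orderOf g)} with hH0
  rcases S0518.result h hKO hKN hKZ H0 hH0 with ⟨M, hM⟩ | ⟨M₁, M₂, _, hM, _, hM4, _, _⟩
  · exact Or.inl (exists_stronglyEmbedded_inf le_sup_left hHeven hM)
  refine Or.inr (Or.inl ?_)
  have hH0map : H0.map K.subtype = H := by
    rw [hH0, MonoidHom.map_closure, hHdef, Cfsg.pResidual]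
    congr 1
    ext g
    constructor
    · rintro ⟨y, hy, rfl⟩
      show (orderOf (K.subtype y)).Coprime 2
      rw [Subgroup.coe_subtype, Subgroup.orderOf_coe]
      exact Nat.coprime_two_right.2 hy
    · intro hg
      have hgK : g ∈ K := Subgroup.mem_sup_left (Subgroup.subset_closure hg)
      refine ⟨⟨g, hgK⟩, ?_, rfl⟩
      show Odd (orderOf (⟨g, hgK⟩ : ↥K))
      rw [Subgroup.orderOf_mk]
      exact Nat.coprime_two_right.1 hg
  let e : ↥H0 ≃* ↥H := (H0.equivMapOfInjective _ K.subtype_injective).trans (MulEquiv.subgroupCongr hH0map)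
  obtain ⟨Q, hQ⟩ := CfsgLib.NT.SylowCount.exists_sylow_inf S H
  obtain ⟨Q0⟩ : Nonempty (Sylow 2 ↥H0) := inferInstance
  have e1 : ↥(Q0 : Subgroup ↥H0) ≃* ↥((S : Subgroup G) ⊓ H) :=
    ((((Q0 : Subgroup ↥H0).equivMapOfInjective e.toMonoidHom e.injective).trans
      (MulEquiv.subgroupCongr (Sylow.coe_mapSurjective (f := e.toMonoidHom) e.surjective Q0).symm)).trans
      (Sylow.equiv (Q0.mapSurjective (f := e.toMonoidHom) e.surjective) Q)).trans
      (((Q : Subgroup ↥H).equivMapOfInjective _ H.subtype_injective).trans (MulEquiv.subgroupCongr hQ))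
  rcases CfsgLib.LocalEvenB.LocalS4.sylow_shape M₁ hM hM4 Q0 with ⟨n, hn, ⟨d⟩⟩ | hq
  · exact Or.inl ⟨n, hn, ⟨e1.symm.trans d⟩⟩
  · exact Or.inr (CfsgLib.Fsys.SylowImage.quasiDihedral_congr e1 hq)

end Cfsg.Agent.S3758
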