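import Cfsg.Statements.S3760
import Cfsg.Agent.Lib.Coprime.SchurZassenhaus

set_option autoImplicit false
open Cfsg

namespace Cfsg.Agent.S3760

/-- Let the group G act transitively on a set X, let x ∈ X with stabilizer H = G_x, and let K ≤ H. Then N_G(K) acts transitively on the set of fixed points of K if and only if every G-conjugate of K contained in H is already an H-conjugate of K. -/
theorem result {G : Type*} [Group G] {X : Type*} [MulAction G X] (htrans : ∀ a b : X, ∃ g : G, g • a = b) (x : X) (K : Subgroup G) (hK : K ≤ MulAction.stabilizer G x) : (∀ a b : X, (∀ k ∈ K, k • a = a) → (∀ k ∈ K, k • b = b) → ∃ g ∈ Subgroup.normalizer (K : Set G), g • a = b) ↔ ∀ g : G, K.map (MulAut.conj g).toMonoidHom ≤ MulAction.stabilizer G x → ∃ h ∈ MulAction.stabilizer G x, K.map (MulAut.conj g).toMonoidHom = K.map (MulAut.conj h).toMonoidHom := by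
  constructor
  · intro h g hg
    have hfix : ∀ k ∈ K, k • (g⁻¹ • x) = g⁻¹ • x := by
      intro k hk
      have := hg ⟨k, hk, rfl⟩
      simp only [MulEquiv.coe_toMonoidHom, MulAut.conj_apply, MulAction.mem_stabilizer_iff, mul_smul] at this
      rw [eq_inv_smul_iff]; exact this
    obtain ⟨n, hn, hnx⟩ := h x (g⁻¹ • x) (fun k hk => hK hk) hfix
    refine ⟨g * n, ?_, ?_⟩
    · rw [MulAction.mem_stabilizer_iff, mul_smul, hnx, smul_inv_smul]
    · rw [← CfsgLib.Coprime.conj_map_map, CfsgLib.Coprime.conj_map_eq_self_of_mem_normalizer hn]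
  · intro h a b ha hb
    suffices key : ∀ y : X, (∀ k ∈ K, k • y = y) → ∃ n ∈ Subgroup.normalizer (K : Set G), n • x = y by
      obtain ⟨n, hn, rfl⟩ := key a ha
      obtain ⟨m, hm, rfl⟩ := key b hb
      exact ⟨m * n⁻¹, mul_mem hm (inv_mem hn), by rw [mul_smul, inv_smul_smul]⟩
    intro y hy
    obtain ⟨g, rfl⟩ := htrans x y
    obtain ⟨s, hs, e⟩ := h g⁻¹ (by
      rintro _ ⟨k, hk, rfl⟩
      simp only [MulEquiv.coe_toMonoidHom, MulAut.conj_apply, MulAction.mem_stabilizer_iff, mul_smul, inv_inv]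
      rw [hy k hk, inv_smul_smul])
    refine ⟨g * s, Subgroup.mem_normalizer_iff_map_conj_eq.2 ?_, ?_⟩
    · show K.map (MulAut.conj (g * s)).toMonoidHom = K
      rw [← CfsgLib.Coprime.conj_map_map, ← e, CfsgLib.Coprime.conj_map_map]
      exact CfsgLib.Coprime.conj_map_eq_self_of_mem_normalizer (by simp)
    · rw [mul_smul, MulAction.mem_stabilizer_iff.1 hs]

end Cfsg.Agent.S3760
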