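import Cfsg.Statements.S3761
import Cfsg.Agent.Lib.TwoGroups.Classify
import Cfsg.Agent.Lib.TwoGroups.CyclicMax
import Cfsg.Agent.Lib.Coprime.SchurZassenhaus
-- import your own Cfsg.Agent.* helpers here

set_option autoImplicit false
open Cfsg

namespace Cfsg.Agent.S3761

open scoped commutatorElement Pointwise

section Helpers

theorem odd_lift {p n : ℕ} (hp : p.Prime) (hodd : p ≠ 2) (hn : 1 ≤ n) {r : ℤ} (h1 : (p : ℤ) ∣ r - 1)
    (h : (p : ℤ) ^ n ∣ r ^ p - 1) : (p : ℤ) ^ (n - 1) ∣ r - 1 := by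
  have hodd' : Odd p := hp.odd_of_ne_two hodd
  have hpZ : Prime (p : ℤ) := Nat.prime_iff_prime_int.1 hp
  obtain ⟨s, hs⟩ := h1
  have hr : r = 1 + p * s := by linarith
  have hsq : (p : ℤ) ^ 2 ∣ (∑ i ∈ Finset.range p, r ^ i) - p := by
    have h' := odd_sq_dvd_geom_sum₂_sub (R := ℤ) (a := 1) (b := s) (p := p) hodd'
    simpa [← hr] using h'
  obtain ⟨c, hc⟩ := hsq
  have hS : (∑ i ∈ Finset.range p, r ^ i) = p * (1 + p * c) := by linear_combination hc
  have hcop : ¬ (p : ℤ) ∣ 1 + p * c := fun hd =>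
    hpZ.not_dvd_one ((dvd_add_left ⟨c, rfl⟩).1 hd)
  rw [← geom_sum_mul r p, hS, show n = n - 1 + 1 by omega, pow_succ',
    mul_assoc] at h
  exact hpZ.pow_dvd_of_dvd_mul_left _ hcop (Int.dvd_of_mul_dvd_mul_left (by exact_mod_cast hp.ne_zero) h)

theorem two_lift {n : ℕ} (hn : 2 ≤ n) {r : ℤ} (h : (2 : ℤ) ^ n ∣ r ^ 2 - 1) :
    (2 : ℤ) ^ (n - 1) ∣ r - 1 ∨ (2 : ℤ) ^ (n - 1) ∣ r + 1 := by
  obtain ⟨m, rfl⟩ : ∃ m, n = m + 2 := ⟨n - 2, by omega⟩
  rcases Int.even_or_odd r with ⟨t, rfl⟩ | ⟨t, rfl⟩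
  · exfalso
    have h' := (dvd_pow_self (2 : ℤ) (show m + 2 ≠ 0 by omega)).trans h
    obtain ⟨c, hc⟩ := h'
    have : (2 : ℤ) * (c - 2 * t ^ 2) = -1 := by linear_combination -hc
    omega
  · rw [show (2 * t + 1) ^ 2 - 1 = (2 * 2) * (t * (t + 1)) by ring,
      show (2 : ℤ) ^ (m + 2) = (2 * 2) * 2 ^ m by ring] at h
    have h' := Int.dvd_of_mul_dvd_mul_left (by norm_num) h
    have hP : Prime (2 : ℤ) := Int.prime_two
    rw [show m + 2 - 1 = m + 1 by omega, pow_succ']
    rcases Int.even_or_odd t with ⟨s, hs⟩ | ⟨s, hs⟩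
    · left
      rw [show 2 * t + 1 - 1 = 2 * t by ring]
      refine mul_dvd_mul_left 2 (hP.pow_dvd_of_dvd_mul_right _ ?_ h')
      rintro ⟨c, hc⟩; omega
    · right
      rw [show 2 * t + 1 + 1 = 2 * (t + 1) by ring]
      refine mul_dvd_mul_left 2 (hP.pow_dvd_of_dvd_mul_left _ ?_ h')
      rintro ⟨c, hc⟩; omega

variable {G : Type*} [Group G] [Finite G] {p n : ℕ} {u : G}

theorem act_pow {g : G} {r : ℤ} (h : g * u * g⁻¹ = u ^ r) :
    ∀ k : ℕ, g ^ k * u * (g ^ k)⁻¹ = u ^ (r ^ k) := by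
  intro k
  induction k with
  | zero => simp
  | succ k ih =>
    calc g ^ (k + 1) * u * (g ^ (k + 1))⁻¹ = g * (g ^ k * u * (g ^ k)⁻¹) * g⁻¹ := by
          rw [pow_succ']; group
      _ = (g * u * g⁻¹) ^ (r ^ k) := by rw [ih, conj_zpow]
      _ = u ^ (r ^ (k + 1)) := by rw [h, ← zpow_mul, pow_succ']

theorem act_zpow {g : G} {r : ℤ} (h : g * u * g⁻¹ = u ^ r) (j : ℤ) :
    g * u ^ j = u ^ (r * j) * g := by
  have e : g * u ^ j * g⁻¹ = u ^ (r * j) := by rw [← conj_zpow, h, ← zpow_mul]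
  exact mul_inv_eq_iff_eq_mul.1 e

/-- Powers of `u ^ j * x`. -/
theorem zpow_mul_pow {x : G} {r : ℤ} (h : x * u * x⁻¹ = u ^ r) (j : ℤ) :
    ∀ m : ℕ, (u ^ j * x) ^ m = u ^ (j * ∑ i ∈ Finset.range m, r ^ i) * x ^ m := by
  intro m
  induction m with
  | zero => simp
  | succ m ih =>
    have h' : x ^ m * u ^ j = u ^ (r ^ m * j) * x ^ m := act_zpow (act_pow h m) j
    calc (u ^ j * x) ^ (m + 1) = u ^ (j * ∑ i ∈ Finset.range m, r ^ i) * (x ^ m * u ^ j) * x := by
          rw [pow_succ, ih]; group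
      _ = u ^ (j * ∑ i ∈ Finset.range m, r ^ i) * u ^ (r ^ m * j) * (x ^ m * x) := by
          rw [h']; simp only [mul_assoc]
      _ = u ^ (j * ∑ i ∈ Finset.range (m + 1), r ^ i) * x ^ (m + 1) := by
          rw [← zpow_add, ← pow_succ, Finset.sum_range_succ, mul_add, mul_comm (r ^ m) j]

theorem main {G : Type*} [Group G] [Finite G] {p : ℕ} [Fact p.Prime] (hG : IsPGroup p G)
    (hna : ¬ IsMulCommutative G) (U : Subgroup G) [hUnorm : U.Normal] (hU : IsCyclic U) (n : ℕ)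
    (hUn : Nat.card U = p ^ n) (hC : Subgroup.centralizer (U : Set G) = U) :
    (p = 2 ∧ Nat.card G = 2 ^ (n + 1) ∧ ((∃ m : ℕ, Nonempty (G ≃* DihedralGroup m)) ∨ (∃ m : ℕ, Nonempty (G ≃* QuaternionGroup m)) ∨ Cfsg.IsQuasiDihedral G)) ∨ (U.relIndex (Subgroup.centralizer (Cfsg.powerClosure p 1 U : Set G)) = p ∧ Cfsg.IsElementaryAbelian p (Cfsg.omegaOne p (Subgroup.centralizer (Cfsg.powerClosure p 1 U : Set G))) ∧ Nat.card ↥(Cfsg.omegaOne p (Subgroup.centralizer (Cfsg.powerClosure p 1 U : Set G))) = p ^ 2 ∧ (Cfsg.omegaOne p (Subgroup.centralizer (Cfsg.powerClosure p 1 U : Set G))).Characteristic) := by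
  have hp : p.Prime := Fact.out
  have hpZ : Prime (p : ℤ) := Nat.prime_iff_prime_int.1 hp
  obtain ⟨⟨u, huU⟩, hgen⟩ := hU.exists_generator
  have hUu : U = Subgroup.zpowers u := by
    refine le_antisymm (fun y hy => ?_) (Subgroup.zpowers_le.2 huU)
    obtain ⟨i, hi⟩ := Subgroup.mem_zpowers_iff.1 (hgen ⟨y, hy⟩)
    exact Subgroup.mem_zpowers_iff.2 ⟨i, congrArg Subtype.val hi⟩
  have hmemU : ∀ i : ℤ, u ^ i ∈ U := fun i => U.zpow_mem huU i
  have hord : orderOf u = p ^ n := by rw [← Nat.card_zpowers, ← hUu, hUn]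
  have heq : ∀ a b : ℤ, u ^ a = u ^ b ↔ (p : ℤ) ^ n ∣ b - a := by
    intro a b
    rw [zpow_eq_zpow_iff_modEq, hord, Int.modEq_iff_dvd]
    push_cast
    rfl
  have heq1 : ∀ a : ℤ, u ^ a = 1 ↔ (p : ℤ) ^ n ∣ a := by
    intro a
    rw [← zpow_zero u, heq, zero_sub, dvd_neg]
  have hact : ∀ g : G, ∃ r : ℤ, g * u * g⁻¹ = u ^ r := fun g => by
    have h := hUnorm.conj_mem u huU g
    rw [hUu] at h
    obtain ⟨i, hi⟩ := Subgroup.mem_zpowers_iff.1 h
    exact ⟨i, hi.symm⟩
  have hcU : ∀ g : G, g ∈ U ↔ Commute g u := by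
    intro g
    constructor
    · intro hg
      rw [hUu] at hg
      obtain ⟨i, rfl⟩ := Subgroup.mem_zpowers_iff.1 hg
      exact (Commute.refl u).zpow_left i
    · intro hg
      rw [← hC, hUu]
      refine Subgroup.mem_centralizer_iff.2 fun y hy => ?_
      obtain ⟨i, rfl⟩ := Subgroup.mem_zpowers_iff.1 hy
      exact (hg.symm.zpow_left i).eq
  have hUiff : ∀ g r, g * u * g⁻¹ = u ^ r → (g ∈ U ↔ (p : ℤ) ^ n ∣ r - 1) := by
    intro g r h
    rw [hcU, ← heq 1 r, zpow_one, ← h]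
    exact ⟨fun hc => by rw [hc.eq, mul_inv_cancel_right], fun hc => mul_inv_eq_iff_eq_mul.1 hc.symm⟩
  obtain ⟨g₀, hg₀⟩ : ∃ g : G, g ∉ U := by
    by_contra hall
    push Not at hall
    refine hna ⟨⟨fun a b => ?_⟩⟩
    have hh := hall a
    have hh' := hall b
    rw [hUu] at hh hh'
    obtain ⟨i, rfl⟩ := Subgroup.mem_zpowers_iff.1 hh
    obtain ⟨j, rfl⟩ := Subgroup.mem_zpowers_iff.1 hh'
    exact zpow_mul_comm u i j
  -- every exponent is congruent to one modulo `p`
  have hmodp : 1 ≤ n → ∀ g r, g * u * g⁻¹ = u ^ r → (p : ℤ) ∣ r - 1 := by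
    intro hn g r h
    obtain ⟨k, hk⟩ := hG g
    have h' := act_pow h (p ^ k)
    rw [hk, one_mul, inv_one, mul_one] at h'
    nth_rewrite 1 [← zpow_one u] at h'
    have h1 : (p : ℤ) ∣ r ^ p ^ k - 1 := (dvd_pow_self _ (by omega)).trans ((heq _ _).1 h')
    rw [← ZMod.intCast_zmod_eq_zero_iff_dvd] at h1 ⊢
    push_cast at h1 ⊢
    rwa [ZMod.pow_card_pow] at h1
  have hn2 : 2 ≤ n := by
    by_contra h
    rcases Nat.lt_or_ge n 1 with h0 | h1
    · have : u = 1 := orderOf_eq_one_iff.1 (by rw [hord, show n = 0 by omega, pow_zero])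
      exact hg₀ ((hcU g₀).2 (this ▸ Commute.one_right g₀))
    · obtain ⟨r, hr⟩ := hact g₀
      refine hg₀ ((hUiff g₀ r hr).2 ?_)
      rw [show n = 1 by omega, pow_one]
      exact hmodp h1 g₀ r hr
  set M := Subgroup.centralizer (Cfsg.powerClosure p 1 U : Set G) with hMdef
  have hMiff : ∀ g r, g * u * g⁻¹ = u ^ r → (g ∈ M ↔ (p : ℤ) ^ (n - 1) ∣ r - 1) := by
    intro g r h
    have e : g * u ^ (p : ℤ) * g⁻¹ = u ^ (r * p) := by rw [← conj_zpow, h, ← zpow_mul]
    have hdvd : (p : ℤ) ^ n ∣ r * p - p ↔ (p : ℤ) ^ (n - 1) ∣ r - 1 := by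
      rw [show r * (p : ℤ) - p = p * (r - 1) by ring]
      conv_lhs => rw [show n = n - 1 + 1 by omega, pow_succ']
      exact Int.mul_dvd_mul_iff_left (by exact_mod_cast hp.ne_zero)
    rw [← hdvd, ← heq (p : ℤ) (r * p), ← e]
    constructor
    · intro hg
      have := Subgroup.mem_centralizer_iff.1 hg (u ^ (p : ℤ))
        (Subgroup.subset_closure ⟨u, huU, by rw [pow_one, zpow_natCast]⟩)
      rw [← this, mul_inv_cancel_right]
    · intro he
      have hc : Commute g (u ^ (p : ℤ)) := mul_inv_eq_iff_eq_mul.1 he.symm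
      have hle : Cfsg.powerClosure p 1 U ≤ Subgroup.centralizer {g} := by
        rw [Cfsg.powerClosure, Subgroup.closure_le]
        rintro y ⟨x, hx, rfl⟩
        rw [hUu] at hx
        obtain ⟨i, rfl⟩ := Subgroup.mem_zpowers_iff.1 hx
        rw [pow_one, ← zpow_natCast, ← zpow_mul, mul_comm, zpow_mul]
        exact Subgroup.mem_centralizer_singleton_iff.2 (hc.zpow_right i).eq.symm
      exact Subgroup.mem_centralizer_iff.2 fun y hy =>
        Subgroup.mem_centralizer_singleton_iff.1 (hle hy)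
  have hmulU : ∀ a b : G, a * b ∈ U → b ∈ U → a ∈ U := fun a b h hb => (U.mul_mem_cancel_right hb).1 h
  have hstep : ∀ g : G, g ∉ U → ∃ k : ℕ, g ^ p ^ k ∉ U ∧ (g ^ p ^ k) ^ p ∈ U := by
    intro g hg
    classical
    obtain ⟨m, hm⟩ := hG g
    have hex : ∃ j, g ^ p ^ j ∈ U := ⟨m, by rw [hm]; exact U.one_mem⟩
    have h0 : Nat.find hex ≠ 0 := fun h0 => by
      have := Nat.find_spec hex
      rw [h0, pow_zero, pow_one] at this
      exact hg this
    refine ⟨Nat.find hex - 1, Nat.find_min hex (by omega), ?_⟩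
    rw [← pow_mul, ← pow_succ, Nat.sub_add_cancel (Nat.one_le_iff_ne_zero.2 h0)]
    exact Nat.find_spec hex
  have hUM : U ≤ M := fun g hg => by
    obtain ⟨r, hr⟩ := hact g
    exact (hMiff g r hr).2 ((pow_dvd_pow _ (Nat.sub_le n 1)).trans ((hUiff g r hr).1 hg))
  by_cases hsmall : p = 2 ∧ (n = 2 ∨ M = U)
  · obtain ⟨hp2, hsm⟩ := hsmall
    subst hp2
    left
    have hminus : ∀ g r, g * u * g⁻¹ = u ^ r → g ∉ U → (2 : ℤ) ^ (n - 1) ∣ r + 1 := by
      intro g r hr hg
      rcases hsm with h2 | hMU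
      · have := hmodp (by omega) g r hr
        subst h2
        norm_num at this ⊢
        omega
      · obtain ⟨k, hk, hk2⟩ := hstep g hg
        set r' := r ^ 2 ^ k with hr'
        have hact' : g ^ 2 ^ k * u * (g ^ 2 ^ k)⁻¹ = u ^ r' := act_pow hr _
        have hsq := (hUiff _ _ (act_pow hact' 2)).1 hk2
        push_cast at hsq
        have hplus : ¬ (2 : ℤ) ^ (n - 1) ∣ r' - 1 := fun h => hk (hMU ▸ (hMiff _ _ hact').2 (by exact_mod_cast h))
        have hm' := (two_lift hn2 hsq).resolve_left hplus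
        rcases Nat.eq_zero_or_pos k with rfl | hk0
        · simpa [hr'] using hm'
        exfalso
        -- a square is never `-1` modulo `4`
        by_cases h2 : n = 2
        · subst h2
          refine hplus ?_
          norm_num at hm' ⊢
          omega
        obtain ⟨s, hs⟩ : ∃ s : ℤ, r' = s ^ 2 := ⟨r ^ 2 ^ (k - 1), by
          rw [hr', ← pow_mul, ← pow_succ, Nat.sub_add_cancel hk0]⟩
        have h4 : (4 : ℤ) ∣ r' + 1 := by
          refine dvd_trans ?_ hm'
          rw [show (4 : ℤ) = 2 ^ 2 by norm_num]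
          exact pow_dvd_pow 2 (by omega)
        rw [hs] at h4
        obtain ⟨c, hc⟩ := h4
        rcases Int.even_or_odd s with ⟨t, rfl⟩ | ⟨t, rfl⟩
        · have : (4 : ℤ) * (c - t * t) = 1 := by linear_combination -hc
          omega
        · have : (4 : ℤ) * (c - t * t - t) = 2 := by linear_combination -hc
          omega
    have hidx : U.index = 2 := by
      rw [Subgroup.index_eq_two_iff']
      refine ⟨g₀, fun b => ?_⟩
      by_cases hb : b ∈ U
      · exact Or.inr ⟨hb, fun h => hg₀ (hmulU _ _ h hb)⟩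
      · refine Or.inl ⟨?_, hb⟩
        obtain ⟨r, hr⟩ := hact g₀
        obtain ⟨s, hs⟩ := hact b
        have hrs : g₀ * b * u * (g₀ * b)⁻¹ = u ^ (r * s) := by
          calc g₀ * b * u * (g₀ * b)⁻¹ = g₀ * (b * u * b⁻¹) * g₀⁻¹ := by group
            _ = _ := by rw [hs, ← conj_zpow, hr, ← zpow_mul]
        obtain ⟨a, ha⟩ := hminus g₀ r hr hg₀
        obtain ⟨c, hc⟩ := hminus b s hs hb
        rcases hsm with h2 | hMU
        · refine (hUiff _ _ hrs).2 ?_
          subst h2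
          norm_num at ha hc ⊢
          exact ⟨a * c - (a + c) / 2, by
            have hr1 : r = 2 * a - 1 := by linarith
            have hs1 : s = 2 * c - 1 := by linarith
            obtain ⟨e, he⟩ | ⟨e, he⟩ := Int.even_or_odd (a + c)
            · rw [he, show (e + e) / 2 = e by omega, hr1, hs1]; linear_combination (-2) * he
            · exfalso
              have h1 := hrs
              rcases Int.even_or_odd a with ⟨f, hf⟩ | ⟨f, hf⟩
              · -- here one factor centralises `u`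
                have hh : c = 2 * (e - f) + 1 := by omega
                refine hb ((hUiff b s hs).2 ⟨e - f, ?_⟩)
                push_cast
                omega
              · refine hg₀ ((hUiff g₀ r hr).2 ⟨f, ?_⟩)
                push_cast
                omega⟩
        · rw [← hMU]
          refine (hMiff _ _ hrs).2 ?_
          push_cast
          exact ⟨a * (2 : ℤ) ^ (n - 1) * c - a - c, by
            rw [show r = (2 : ℤ) ^ (n - 1) * a - 1 by linarith, show s = (2 : ℤ) ^ (n - 1) * c - 1 by linarith]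
            ring⟩
    have hcard : Nat.card G = 2 ^ (n + 1) := by rw [← U.card_mul_index, hidx, hUn, pow_succ]
    refine ⟨rfl, hcard, ?_⟩
    have hna' : ∃ a b : G, a * b ≠ b * a := ⟨g₀, u, fun h => hg₀ ((hcU g₀).2 h)⟩
    obtain ⟨b, hb, hcases⟩ := CfsgLib.TwoGroups.Classify.classify hn2 hcard hord hna'
    have hsplit : 2 ^ n = 2 * 2 ^ (n - 1) := by rw [← pow_succ']; congr 1; omega
    rcases hcases with ⟨h2, hc⟩ | ⟨h2, hc⟩ | ⟨h3, h2, hc⟩ | ⟨h3, h2, hc⟩
    · exact Or.inl ⟨2 ^ n, CfsgLib.TwoGroups.CyclicMax.dihedral_iso hord (by rw [hcard, pow_succ']) hb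
        (by rw [← pow_two]; exact h2) hc⟩
    · exact Or.inr (Or.inl ⟨2 ^ (n - 1), CfsgLib.TwoGroups.CyclicMax.quaternion_iso
        (pow_ne_zero _ two_ne_zero) (by rw [hord, hsplit]) (by rw [hcard, pow_succ', hsplit]; ring) hb
        (by rw [← pow_two]; exact h2) hc⟩)
    · exfalso
      rcases hsm with h | hMU
      · omega
      refine hb (hUu ▸ hMU ▸ (hMiff b ((1 + 2 ^ (n - 1) : ℕ) : ℤ) (by rw [zpow_natCast]; exact hc)).2 ?_)
      exact ⟨1, by push_cast; ring⟩
    · exact Or.inr (Or.inr ⟨n, h3, hcard, u, b, hord, orderOf_eq_prime h2 (fun h => hb (h ▸ one_mem _)), hc⟩)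
  -- the general case
  right
  push Not at hsmall
  have hn3 : p = 2 → 3 ≤ n := fun h => by have := (hsmall h).1; omega
  set q := (p : ℤ) ^ (n - 1) with hq
  have hqn : (p : ℤ) ^ n = q * p := by rw [hq, ← pow_succ]; congr 1; omega
  set z := u ^ q with hz
  have hzU : z ∈ U := hmemU q
  have hzord : orderOf z = p := by
    refine orderOf_eq_prime ?_ ?_
    · rw [hz, ← zpow_natCast, ← zpow_mul, heq1, hqn]
    · rw [hz, Ne, heq1, hqn]
      intro h
      rcases h with ⟨c, hc⟩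
      have hq0 : q ≠ 0 := pow_ne_zero _ (by exact_mod_cast hp.ne_zero)
      have : q * 1 = q * (p * c) := by rw [mul_one]; linarith
      exact hpZ.not_dvd_one ⟨c, mul_left_cancel₀ hq0 this⟩
  -- the commutator map of `M` with `u`
  have hMr : ∀ g ∈ M, ∃ a : ℤ, g * u * g⁻¹ = u ^ (1 + q * a) := by
    intro g hg
    obtain ⟨r, hr⟩ := hact g
    obtain ⟨a, ha⟩ := (hMiff g r hr).1 hg
    exact ⟨a, by rw [hr]; congr 1; linarith⟩
  have hMrel : U.relIndex M ∣ p ∧ U.relIndex M ≠ 1 := by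
    constructor
    · let χ : M →* G :=
        { toFun := fun g => ⁅(g : G), u⁆
          map_one' := by simp
          map_mul' := fun g g' => by
            obtain ⟨a, ha⟩ := hMr g g.2
            obtain ⟨b, hb⟩ := hMr g' g'.2
            have h1 : ⁅(g : G), u⁆ = u ^ (q * a) := by
              rw [commutatorElement_def, ha, add_comm, zpow_add, zpow_one, mul_inv_cancel_right]
            have h2 : ⁅(g' : G), u⁆ = u ^ (q * b) := by
              rw [commutatorElement_def, hb, add_comm, zpow_add, zpow_one, mul_inv_cancel_right]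
            have e : ⁅(g : G) * g', u⁆ = (g * ⁅(g' : G), u⁆ * (g : G)⁻¹) * ⁅(g : G), u⁆ := by
              simp only [commutatorElement_def]; group
            show ⁅(g : G) * g', u⁆ = ⁅(g : G), u⁆ * ⁅(g' : G), u⁆
            rw [e, h1, h2, ← conj_zpow, ha, ← zpow_mul, ← zpow_add, ← zpow_add, heq]
            obtain ⟨t, ht⟩ : (p : ℤ) ^ n ∣ q * q := by
              rw [hq, ← pow_add]; exact pow_dvd_pow _ (by omega)
            exact ⟨-(t * a * b), by linear_combination (-(a * b)) * ht⟩ }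
      have hker : χ.ker = U.subgroupOf M := by
        ext g
        rw [MonoidHom.mem_ker, Subgroup.mem_subgroupOf, hcU]
        exact commutatorElement_eq_one_iff_commute
      have hrange : χ.range ≤ Subgroup.zpowers z := by
        rintro _ ⟨g, rfl⟩
        obtain ⟨a, ha⟩ := hMr g g.2
        refine Subgroup.mem_zpowers_iff.2 ⟨a, ?_⟩
        show z ^ a = ⁅(g : G), u⁆
        rw [commutatorElement_def, ha, add_comm, zpow_add, zpow_one, mul_inv_cancel_right, hz, ← zpow_mul]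
      have h := Subgroup.card_dvd_of_le hrange
      rw [Nat.card_zpowers, hzord, ← Subgroup.index_ker, hker] at h
      exact h
    · intro h1
      have hMU : M = U := le_antisymm (Subgroup.relIndex_eq_one.1 h1) hUM
      by_cases hp2 : p = 2
      · exact (hsmall hp2).2 hMU
      obtain ⟨k, hk, hkp⟩ := hstep g₀ hg₀
      obtain ⟨r, hr⟩ := hact (g₀ ^ p ^ k)
      refine hk (hMU ▸ (hMiff _ r hr).2 (odd_lift hp hp2 (by omega) (hmodp (by omega) _ r hr) ?_))
      exact (hUiff _ _ (act_pow hr p)).1 hkp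
  have hrel : U.relIndex M = p := (hp.eq_one_or_self_of_dvd _ hMrel.1).resolve_left hMrel.2
  obtain ⟨x, hxM, hxU⟩ : ∃ x ∈ M, x ∉ U := by
    by_contra h
    push Not at h
    exact hMrel.2 (Subgroup.relIndex_eq_one.2 h)
  haveI : (U.subgroupOf M).Normal := inferInstance
  have hpowU : ∀ y ∈ M, y ^ p ∈ U := by
    intro y hy
    have h : (⟨y, hy⟩ : M) ^ p ∈ U.subgroupOf M := by
      have h' := Subgroup.pow_index_mem (U.subgroupOf M) (⟨y, hy⟩ : M)
      rwa [show (U.subgroupOf M).index = p from hrel] at h'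
    exact h
  -- an element of order `p` outside `U`
  obtain ⟨a, ha⟩ := hMr x hxM
  obtain ⟨i, hi⟩ := Subgroup.mem_zpowers_iff.1 (hUu ▸ hpowU x hxM : x ^ p ∈ Subgroup.zpowers u)
  have hip : (p : ℤ) ∣ i := by
    have h1 : x * u ^ i * x⁻¹ = u ^ i := by
      rw [hi, ← pow_succ', pow_succ, mul_inv_cancel_right]
    rw [← conj_zpow, ha, ← zpow_mul, heq] at h1
    have hpa : ¬ (p : ℤ) ∣ a := by
      rintro ⟨c, hc⟩
      refine hxU ((hUiff x _ ha).2 ⟨c, ?_⟩)
      rw [hqn, hc]; ring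
    obtain ⟨c, hc⟩ := h1
    rw [hqn] at hc
    have hq0 : q ≠ 0 := pow_ne_zero _ (by exact_mod_cast hp.ne_zero)
    have : a * i = p * (-c) := by
      refine mul_left_cancel₀ hq0 ?_
      linear_combination -hc
    exact (hpZ.dvd_or_dvd ⟨-c, this⟩).resolve_left hpa
  -- the geometric sums occurring in `p`-th powers
  have hsum : ∀ b : ℤ, ∃ w : ℤ, (∑ l ∈ Finset.range p, (1 + q * b) ^ l) = p * (1 + w) ∧
      (p : ℤ) ∣ w ∧ q ∣ w * w := by
    intro b
    by_cases hp2 : p = 2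
    · subst hp2
      have hn3 := hn3 rfl
      refine ⟨2 ^ (n - 2) * b, ?_, ?_, ?_⟩
      · have e : q = 2 * 2 ^ (n - 2) := by
          rw [hq]; push_cast; rw [← pow_succ']; congr 1; omega
        simp only [Finset.sum_range_succ, Finset.sum_range_zero, pow_zero, pow_one, zero_add]
        rw [e]; push_cast; ring
      · push_cast; exact Dvd.dvd.mul_right (dvd_pow_self 2 (by omega)) b
      · rw [hq]; push_cast
        rw [show (2 : ℤ) ^ (n - 2) * b * (2 ^ (n - 2) * b) = 2 ^ (n - 2) * 2 ^ (n - 2) * (b * b) by ring,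
          ← pow_add]
        exact Dvd.dvd.mul_right (pow_dvd_pow 2 (by omega)) _
    · -- modulo `q * q` the sum is `p + q b p (p - 1) / 2`
      have hlin : ∀ m : ℕ, ∃ c : ℤ, (∑ l ∈ Finset.range m, (1 + q * b) ^ l) =
          m + q * b * (m.choose 2 : ℕ) + q * q * c := by
        intro m
        induction m with
        | zero => exact ⟨0, by simp⟩
        | succ m ih =>
          obtain ⟨c, hc⟩ := ih
          obtain ⟨d, hd⟩ : ∃ d : ℤ, (1 + q * b) ^ m = 1 + m * (q * b) + q * q * d := by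
            clear hc c
            induction m with
            | zero => exact ⟨0, by simp⟩
            | succ m ih =>
              obtain ⟨d, hd⟩ := ih
              exact ⟨d + m * b * b + q * d * b, by rw [pow_succ, hd]; push_cast; ring⟩
          refine ⟨c + d, ?_⟩
          rw [Finset.sum_range_succ, hc, hd, Nat.choose_succ_succ', Nat.choose_one_right]
          push_cast; ring
      obtain ⟨c, hc⟩ := hlin p
      obtain ⟨e, he⟩ := hp.dvd_choose_self two_ne_zero (lt_of_le_of_ne hp.two_le (Ne.symm hp2))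
      have hq' : q = p * (p : ℤ) ^ (n - 2) := by rw [hq, ← pow_succ']; congr 1; omega
      refine ⟨q * (b * e + (p : ℤ) ^ (n - 2) * c), ?_, ?_, ?_⟩
      · rw [hc, he]; push_cast; rw [hq']; ring
      · exact Dvd.dvd.mul_right ⟨_, hq'⟩ _
      · exact Dvd.dvd.mul_right (Dvd.dvd.mul_right dvd_rfl _) _
  obtain ⟨w, hw, hwp, hww⟩ := hsum a
  obtain ⟨i', hi'⟩ := hip
  set x' := u ^ (-i' * (1 - w)) * x with hx'
  have hx'M : x' ∈ M := M.mul_mem (hUM (hmemU _)) hxM
  have hx'U : x' ∉ U := fun h => hxU ((U.mul_mem_cancel_left (hmemU _)).1 h)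
  have hx'p : x' ^ p = 1 := by
    rw [hx', zpow_mul_pow ha, ← hi, ← zpow_add, heq1, hw, hi', hqn]
    obtain ⟨c, hc⟩ := hww
    exact ⟨c * i', by linear_combination ((p : ℤ) * i') * hc⟩
  have hx'z : Commute x' z := by
    obtain ⟨b, hb⟩ := hMr x' hx'M
    refine mul_inv_eq_iff_eq_mul.1 ?_
    rw [hz, ← conj_zpow, hb, ← zpow_mul, heq]
    obtain ⟨t, ht⟩ : (p : ℤ) ^ n ∣ q * q := by rw [hq, ← pow_add]; exact pow_dvd_pow _ (by omega)
    exact ⟨-(t * b), by linear_combination (-b) * ht⟩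
  set W := Subgroup.zpowers z ⊔ Subgroup.zpowers x' with hW
  have hWab : ∀ s ∈ W, ∀ t ∈ W, s * t = t * s := by
    have h1 : W ≤ Subgroup.centralizer {z} := sup_le (Subgroup.zpowers_le.2
      (Subgroup.mem_centralizer_singleton_iff.2 rfl)) (Subgroup.zpowers_le.2
      (Subgroup.mem_centralizer_singleton_iff.2 hx'z.eq))
    have h2 : W ≤ Subgroup.centralizer {x'} := sup_le (Subgroup.zpowers_le.2
      (Subgroup.mem_centralizer_singleton_iff.2 hx'z.eq.symm)) (Subgroup.zpowers_le.2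
      (Subgroup.mem_centralizer_singleton_iff.2 rfl))
    intro s hs t ht
    have h3 : W ≤ Subgroup.centralizer {s} := sup_le
      (Subgroup.zpowers_le.2 (Subgroup.mem_centralizer_singleton_iff.2
        (Subgroup.mem_centralizer_singleton_iff.1 (h1 hs)).symm))
      (Subgroup.zpowers_le.2 (Subgroup.mem_centralizer_singleton_iff.2
        (Subgroup.mem_centralizer_singleton_iff.1 (h2 hs)).symm))
    exact (Subgroup.mem_centralizer_singleton_iff.1 (h3 ht)).symm
  have hWnorm : Subgroup.zpowers x' ≤ Subgroup.normalizer (Subgroup.zpowers z : Set G) := by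
    refine Subgroup.zpowers_le.2 (Subgroup.centralizer_le_normalizer _ ?_)
    refine Subgroup.mem_centralizer_iff.2 fun s hs => ?_
    obtain ⟨j, rfl⟩ := Subgroup.mem_zpowers_iff.1 hs
    exact (hx'z.zpow_right j).symm.eq
  have hx'ord : orderOf x' = p := orderOf_eq_prime hx'p fun h => hx'U (h ▸ U.one_mem)
  have hdisj : Disjoint (Subgroup.zpowers z) (Subgroup.zpowers x') := by
    rw [disjoint_iff_inf_le]
    rintro y ⟨hy1, hy2⟩
    by_contra hy
    have hyU : y ∈ U := (Subgroup.zpowers_le.2 hzU) hy1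
    obtain ⟨j, rfl⟩ := Subgroup.mem_zpowers_iff.1 hy2
    have hj : ¬ (p : ℤ) ∣ j := fun hd => hy (Subgroup.mem_bot.2 (orderOf_dvd_iff_zpow_eq_one.1 (hx'ord ▸ hd)))
    obtain ⟨s, t, hst⟩ := hpZ.coprime_iff_not_dvd.2 hj
    refine hx'U ?_
    have e : (x' ^ j) ^ t = x' := by
      calc (x' ^ j) ^ t = (x' ^ p) ^ s * (x' ^ j) ^ t := by rw [hx'p, one_zpow, one_mul]
        _ = x' ^ (s * p + t * j) := by
          rw [← zpow_natCast, ← zpow_mul, ← zpow_mul, ← zpow_add]; congr 1; ring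
        _ = x' := by rw [hst, zpow_one]
    rw [← e]; exact U.zpow_mem hyU t
  have hWcard : Nat.card W = p ^ 2 := by
    rw [hW, CfsgLib.Coprime.card_sup_of_le_normalizer hWnorm hdisj, Nat.card_zpowers, Nat.card_zpowers,
      hzord, hx'ord, pow_two]
  have hWpow : ∀ s ∈ W, s ^ p = 1 := by
    intro s hs
    have hs' : s ∈ (Subgroup.zpowers z : Set G) * (Subgroup.zpowers x' : Set G) := by
      rw [← Subgroup.coe_mul_of_right_le_normalizer_left _ _ hWnorm]; exact hs
    obtain ⟨_, ⟨j, rfl⟩, _, ⟨l, rfl⟩, rfl⟩ := hs'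
    show (z ^ j * x' ^ l) ^ p = 1
    rw [((hx'z.symm.zpow_left j).zpow_right l).mul_pow, ← zpow_natCast, ← zpow_natCast,
      zpow_comm, zpow_comm x' l, zpow_natCast, zpow_natCast, ← hzord, pow_orderOf_eq_one, hzord, hx'p,
      one_zpow, one_zpow, one_mul]
  have hWM : W ≤ M := sup_le (Subgroup.zpowers_le.2 (hUM hzU)) (Subgroup.zpowers_le.2 hx'M)
  have hMW : ∀ m ∈ M, m ^ p = 1 → m ∈ W := by
    intro m hm hmp
    -- `m` is in a coset `U x' ^ k`
    obtain ⟨k, hk⟩ : ∃ k : ℕ, m * (x' ^ k)⁻¹ ∈ U := by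
      by_contra hall
      push Not at hall
      haveI : Fintype (↥M ⧸ U.subgroupOf M) := Fintype.ofFinite _
      have hcyc : Subgroup.zpowers (QuotientGroup.mk' (U.subgroupOf M) (⟨x', hx'M⟩ : M)) = ⊤ :=
        zpowers_eq_top_of_prime_card (p := p) (by rw [← Subgroup.index_eq_card]; exact hrel)
          (fun h => hx'U (Subgroup.mem_subgroupOf.1 ((QuotientGroup.eq_one_iff _).1 h)))
      obtain ⟨k, hk⟩ := (Submonoid.mem_powers_iff _ _).1 (mem_powers_iff_mem_zpowers.2
        (hcyc ▸ Subgroup.mem_top (QuotientGroup.mk' (U.subgroupOf M) (⟨m, hm⟩ : M))))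
      rw [← map_pow] at hk
      have h1 : ((⟨m, hm⟩ : M) * ((⟨x', hx'M⟩ : M) ^ k)⁻¹) ∈ U.subgroupOf M := by
        rw [← QuotientGroup.eq_one_iff]
        show QuotientGroup.mk' (U.subgroupOf M) _ = 1
        rw [map_mul, map_inv, hk, mul_inv_cancel]
      exact hall k (Subgroup.mem_subgroupOf.1 h1)
    rw [hUu] at hk
    obtain ⟨j, hj⟩ := Subgroup.mem_zpowers_iff.1 hk
    have hm' : m = u ^ j * x' ^ k := by rw [hj]; group
    obtain ⟨b, hb⟩ := hMr (x' ^ k) (M.pow_mem hx'M k)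
    obtain ⟨v, hv, hvp, -⟩ := hsum b
    rw [hm', zpow_mul_pow hb, ← pow_mul, mul_comm k p, pow_mul, hx'p, one_pow, mul_one, heq1, hv, hqn] at hmp
    obtain ⟨c, hc⟩ := hmp
    have hjq : q ∣ j := by
      have h1 : q ∣ j * (1 + v) := ⟨c, by
        refine mul_left_cancel₀ (show (p : ℤ) ≠ 0 by exact_mod_cast hp.ne_zero) ?_
        linear_combination hc⟩
      exact hpZ.pow_dvd_of_dvd_mul_right _
        (fun hd => hpZ.not_dvd_one ((dvd_add_left hvp).1 hd)) h1
    obtain ⟨l, hl⟩ := hjq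
    rw [hm', hl, zpow_mul]
    exact Subgroup.mul_mem_sup (Subgroup.zpow_mem_zpowers z l) ((Subgroup.zpowers x').pow_mem (Subgroup.mem_zpowers x') k)
  have hΩ : Cfsg.omegaOne p M = W := le_antisymm
    ((Subgroup.closure_le _).2 fun m hm => hMW m hm.1 hm.2)
    (fun m hm => Subgroup.subset_closure ⟨hWM hm, hWpow m hm⟩)
  refine ⟨hrel, ?_, by rw [hΩ, hWcard], ?_⟩
  · rw [hΩ]
    exact ⟨⟨⟨fun s t => Subtype.ext (hWab s s.2 t t.2)⟩⟩, hWpow⟩
  rw [hΩ]
  have hMn : ∀ g m, m ∈ M → g * m * g⁻¹ ∈ M := by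
    intro g m hm
    obtain ⟨a, ha⟩ := hMr m hm
    obtain ⟨r, hr⟩ := hact g⁻¹
    refine (hMiff _ (1 + q * a) ?_).2 ⟨a, by ring⟩
    calc g * m * g⁻¹ * u * (g * m * g⁻¹)⁻¹ = g * (m * (g⁻¹ * u * g⁻¹⁻¹) * m⁻¹) * g⁻¹ := by group
      _ = g * (g⁻¹ * u * g⁻¹⁻¹) ^ (1 + q * a) * g⁻¹ := by
          rw [hr, ← conj_zpow, ha, ← zpow_mul, ← zpow_mul, mul_comm]
      _ = (g * (g⁻¹ * u * g⁻¹⁻¹) * g⁻¹) ^ (1 + q * a) := conj_zpow.symm
      _ = u ^ (1 + q * a) := by congr 1; group
  haveI hWn : W.Normal := ⟨fun s hs g => hMW _ (hMn g s (hWM hs)) (by rw [conj_pow, hWpow s hs]; group)⟩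
  -- a normal elementary subgroup of order `p ^ 2` lies in `M`
  rw [Subgroup.characteristic_iff_map_le]
  intro φ
  set E := W.map φ.toMonoidHom with hE
  haveI hEn : E.Normal := Subgroup.Normal.map hWn _ φ.surjective
  rintro e he
  have hpow : ∀ y ∈ E, y ^ p = 1 := by
    rintro _ ⟨s, hs, rfl⟩
    rw [← map_pow, hWpow s hs, map_one]
  refine hMW e ?_ (hpow e he)
  obtain ⟨r, hr⟩ := hact e
  refine (hMiff e r hr).2 ?_
  have hcE : ⁅e, u⁆ ∈ E := by
    have h1 : u * e⁻¹ * u⁻¹ ∈ E := hEn.conj_mem _ (E.inv_mem he) u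
    rw [show ⁅e, u⁆ = e * (u * e⁻¹ * u⁻¹) by rw [commutatorElement_def]; group]
    exact E.mul_mem he h1
  have h := hpow _ hcE
  rw [commutatorElement_def, hr, ← zpow_neg_one, ← zpow_add, ← zpow_natCast, ← zpow_mul, heq1, hqn] at h
  obtain ⟨c, hc⟩ := h
  exact ⟨c, mul_left_cancel₀ (show (p : ℤ) ≠ 0 by exact_mod_cast hp.ne_zero) (by linear_combination hc)⟩

end Helpers

/-- Let G be a finite non-abelian p-group with a cyclic normal subgroup U of order p^n such that C_G(U) = U. Then either p = 2 and G is dihedral, generalized quaternion or semidihedral of order 2^(n+1); or, writing U₁ for the subgroup generated by the p-th powers of elements of U and M = C_G(U₁), the subgroup U has index p in M and the subgroup Ω₁(M) generated by the elements of M of order dividing p is elementary abelian of order p² and characteristic in G. -/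
theorem result {G : Type*} [Group G] [Finite G] {p : ℕ} [Fact p.Prime] (hG : IsPGroup p G) (hna : ¬ IsMulCommutative G) (U : Subgroup G) [U.Normal] (hU : IsCyclic U) (n : ℕ) (hUn : Nat.card U = p ^ n) (hC : Subgroup.centralizer (U : Set G) = U) : (p = 2 ∧ Nat.card G = 2 ^ (n + 1) ∧ ((∃ m : ℕ, Nonempty (G ≃* DihedralGroup m)) ∨ (∃ m : ℕ, Nonempty (G ≃* QuaternionGroup m)) ∨ Cfsg.IsQuasiDihedral G)) ∨ (U.relIndex (Subgroup.centralizer (Cfsg.powerClosure p 1 U : Set G)) = p ∧ Cfsg.IsElementaryAbelian p (Cfsg.omegaOne p (Subgroup.centralizer (Cfsg.powerClosure p 1 U : Set G))) ∧ Nat.card ↥(Cfsg.omegaOne p (Subgroup.centralizer (Cfsg.powerClosure p 1 U : Set G))) = p ^ 2 ∧ (Cfsg.omegaOne p (Subgroup.centralizer (Cfsg.powerClosure p 1 U : Set G))).Characteristic) := by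
  exact main hG hna U hU n hUn hC

end Cfsg.Agent.S3761
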