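import Cfsg.Statements.S3762
import Cfsg.Agent.Lib.Coprime.SymplecticTypeBase
import Cfsg.Agent.Lib.TwoGroups.Classify
import Cfsg.Agent.Lib.PGroup.Frattini
-- import your own Cfsg.Agent.* helpers here

set_option autoImplicit false
open Cfsg

namespace Cfsg.Agent.S3762

open CfsgLib.Coprime.SymplecticTools
open scoped commutatorElement

section Helpers

variable {G : Type*} [Group G] [Finite G] {p : ℕ} [hp : Fact p.Prime] {Z : Subgroup G}

/-- A subgroup that is elementary abelian modulo a central subgroup of order `p` containing its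
centre is extraspecial. -/
theorem extraspecial_of (hG : IsPGroup p G) (E : Subgroup G) {Ω : Subgroup G} [Ω.Normal]
    (hΩE : Ω ≤ E) (hcard : Nat.card Ω = p) (hcen : ∀ w ∈ Ω, ∀ g : G, g * w = w * g)
    (hpow : ∀ e ∈ E, e ^ p ∈ Ω) (hcomm : ∀ a ∈ E, ∀ b ∈ E, ⁅a, b⁆ ∈ Ω)
    (hC : E ⊓ Subgroup.centralizer (E : Set G) ≤ Ω) (hne : E ≠ Ω) :
    Cfsg.IsExtraspecial p ↥E := by
  have hEp : IsPGroup p ↥E := hG.to_subgroup E
  have hcentre : Subgroup.center ↥E = Ω.subgroupOf E := by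
    ext x
    rw [Subgroup.mem_center_iff, Subgroup.mem_subgroupOf]
    constructor
    · exact fun h => hC ⟨x.2, Subgroup.mem_centralizer_iff.2 fun e he =>
        congrArg Subtype.val (h ⟨e, he⟩)⟩
    · exact fun h g => Subtype.ext (hcen _ h g)
  have hc' : Nat.card ↥(Ω.subgroupOf E) = p := by
    rw [Nat.card_congr (Subgroup.subgroupOfEquivOfLe hΩE).toEquiv, hcard]
  have hle : commutator ↥E ≤ Ω.subgroupOf E :=
    Subgroup.commutator_le.2 fun a _ b _ => hcomm a a.2 b b.2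
  have hF : frattini ↥E ≤ Ω.subgroupOf E := CfsgLib.Coprime.SymplecticTools.frattini_le (p := p) _
    (fun x => hpow x x.2) (fun x y => hcomm x x.2 y y.2)
  have hne' : commutator ↥E ≠ ⊥ := by
    intro h
    refine hne (le_antisymm (fun a ha => hC ⟨ha, ?_⟩) hΩE)
    refine Subgroup.mem_centralizer_iff.2 fun b hb => ?_
    have hm : ⁅(⟨b, hb⟩ : ↥E), (⟨a, ha⟩ : ↥E)⁆ ∈ commutator ↥E :=
      Subgroup.commutator_mem_commutator (Subgroup.mem_top _) (Subgroup.mem_top _)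
    rw [h, Subgroup.mem_bot] at hm
    exact congrArg Subtype.val (commutatorElement_eq_one_iff_mul_comm.1 hm)
  have heq : commutator ↥E = Ω.subgroupOf E := by
    refine Subgroup.eq_of_le_of_card_ge hle ?_
    rw [hc']
    have := mul_card_le hEp (bot_lt_iff_ne_bot.2 hne')
    simpa using this
  refine ⟨⟨hEp, ?_, heq.trans hcentre.symm⟩, by rw [hcentre, hc']⟩
  rw [hcentre]
  exact le_antisymm hF (heq ▸ Subgroup.commutator_le.2 fun a _ b _ =>
    CfsgLib.PGroup.Frattini.commutatorElement_mem_frattini hEp a b)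

theorem card_omega_eq (S : SympSetup p Z) (hne : Z ≠ ⊥) :
    haveI := S.comm; Nat.card (omegaIn p Z) = p := by
  have := S.comm
  refine le_antisymm S.card_omega ?_
  obtain ⟨k, hk⟩ := (S.pgroup.to_subgroup Z).exists_card_eq
  have hk0 : k ≠ 0 := by
    rintro rfl
    exact hne (Subgroup.eq_bot_of_card_eq _ (by simpa using hk))
  obtain ⟨x, hx⟩ := exists_prime_orderOf_dvd_card' (G := Z) p (hk ▸ dvd_pow_self p hk0)
  have hxo : orderOf (x : G) = p := by rw [Subgroup.orderOf_coe, hx]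
  have hmem : (x : G) ∈ omegaIn p Z :=
    mem_omegaIn.2 ⟨x.2, orderOf_dvd_iff_pow_eq_one.1 (by rw [hxo])⟩
  have := Subgroup.card_le_of_le (Subgroup.zpowers_le.2 hmem)
  rwa [Nat.card_zpowers, hxo] at this

theorem exists_generator_data (S : SympSetup p Z) : ∃ (z : G) (m : ℕ), z ∈ Z ∧
    orderOf z = p ^ m ∧ Nat.card Z = p ^ m ∧ ∀ w ∈ Z, ∃ i : ℤ, z ^ i = w := by
  have := S.cyclic
  obtain ⟨z, hz⟩ := IsCyclic.exists_generator (α := ↥Z)
  obtain ⟨m, hm⟩ := (S.pgroup.to_subgroup Z).exists_card_eq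
  refine ⟨z, m, z.2, ?_, hm, fun w hw => ?_⟩
  · rw [Subgroup.orderOf_coe, orderOf_eq_card_of_forall_mem_zpowers hz, hm]
  · obtain ⟨i, hi⟩ := Subgroup.mem_zpowers_iff.1 (hz ⟨w, hw⟩)
    exact ⟨i, congrArg Subtype.val hi⟩

/-- Conjugation exponents multiply. -/
theorem conj_zpow_exp {z a : G} {u : ℤ} (h : a * z * a⁻¹ = z ^ u) (i : ℕ) :
    a ^ i * z * (a ^ i)⁻¹ = z ^ (u ^ i) := by
  induction i with
  | zero => simp
  | succ i ih =>
    calc a ^ (i + 1) * z * (a ^ (i + 1))⁻¹ = a * (a ^ i * z * (a ^ i)⁻¹) * a⁻¹ := by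
          rw [pow_succ']; group
      _ = (a * z * a⁻¹) ^ (u ^ i) := by rw [ih, conj_zpow]
      _ = _ := by rw [h, ← zpow_mul, pow_succ']

omit hp in
theorem eq_zpow_iff {z : G} {n : ℕ} (hz : orderOf z = n) (i j : ℤ) :
    z ^ i = z ^ j ↔ (n : ℤ) ∣ i - j := by
  rw [← hz, orderOf_dvd_iff_zpow_eq_one, zpow_sub, mul_inv_eq_one]

/-- The exceptional action does not occur. -/
theorem key (S : SympSetup p Z) {E : Subgroup G} {z : G} {m : ℕ} (hzZ : z ∈ Z)
    (hord : orderOf z = p ^ m) (hgen : ∀ w ∈ Z, ∃ i : ℤ, z ^ i = w)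
    (hED : E ≤ Subgroup.centralizer (Z : Set G))
    (hD : Subgroup.centralizer (Z : Set G) = E ⊔ Z)
    (hsup : E ⊔ Subgroup.centralizer (E : Set G) = ⊤) [E.Normal]
    (hRD : Subgroup.centralizer (E : Set G) ⊓ Subgroup.centralizer (Z : Set G) ≤ Z)
    (hEpow : haveI := S.comm; ∀ e ∈ E, e ^ p ∈ omegaIn p Z)
    (hEexp : p ≠ 2 → ∀ e ∈ E, e ^ p = 1) (hm : 2 ≤ m) (hbad : p = 2 → 3 ≤ m)
    {x : G} (hfix : x * z ^ (p : ℤ) * x⁻¹ = z ^ (p : ℤ)) : x ∈ Subgroup.centralizer (Z : Set G) := by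
  classical
  have := S.comm
  set D := Subgroup.centralizer (Z : Set G) with hDdef
  set R := Subgroup.centralizer (E : Set G) with hR
  set Ω := omegaIn p Z with hΩ
  have hΩn := S.omega_normal
  obtain ⟨-, hcom⟩ := S.cent_spec
  have hpp := hp.out
  by_contra hxD
  have hxmem : x ∈ E ⊔ R := by rw [hsup]; trivial
  obtain ⟨e, he, r, hr, hxer⟩ := Subgroup.mem_sup_of_normal_left.1 hxmem
  have hrD : r ∉ D := fun h => hxD (hxer ▸ D.mul_mem (hED he) h)
  have hzpmem : z ^ (p : ℤ) ∈ Z := Z.zpow_mem hzZ _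
  have hrfix : r * z ^ (p : ℤ) * r⁻¹ = z ^ (p : ℤ) := by
    have he' : e⁻¹ * z ^ (p : ℤ) * e = z ^ (p : ℤ) := by
      rw [mul_assoc, Subgroup.mem_centralizer_iff.1 (hED he) _ hzpmem, inv_mul_cancel_left]
    calc r * z ^ (p : ℤ) * r⁻¹ = e⁻¹ * (x * z ^ (p : ℤ) * x⁻¹) * e := by rw [← hxer]; group
      _ = z ^ (p : ℤ) := by rw [hfix, he']
  set c := z⁻¹ * (r * z * r⁻¹) with hc
  have hrz : r * z * r⁻¹ ∈ Z := S.normal.conj_mem z hzZ r
  have hZcomm : ∀ a ∈ Z, ∀ b ∈ Z, Commute a b := fun a ha b hb =>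
    congrArg Subtype.val (S.comm.is_comm.comm (⟨a, ha⟩ : Z) ⟨b, hb⟩)
  have hcΩ : c ∈ Ω := by
    refine mem_omegaIn.2 ⟨Z.mul_mem (Z.inv_mem hzZ) hrz, ?_⟩
    rw [hc, (hZcomm _ (Z.inv_mem hzZ) _ hrz).mul_pow, conj_pow, ← zpow_natCast z p, hrfix,
      ← zpow_natCast z⁻¹ p, inv_zpow, inv_mul_cancel]
  have hc1 : c ≠ 1 := by
    intro h
    refine hrD (Subgroup.mem_centralizer_iff.2 fun w hw => ?_)
    obtain ⟨i, rfl⟩ := hgen w hw
    have h1 : r * z * r⁻¹ = z := by rw [hc, inv_mul_eq_one] at h; exact h.symm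
    have h2 : r * z ^ i * r⁻¹ = z ^ i := by rw [← conj_zpow, h1]
    exact (mul_inv_eq_iff_eq_mul.1 h2).symm
  have hcc : ∀ g : G, g * c = c * g := fun g => S.omega_central c hcΩ g
  have hrz' : r * z * r⁻¹ = z * c := by rw [hc]; group
  have hconj : ∀ i : ℤ, r * z ^ i * r⁻¹ = z ^ i * c ^ i := fun i => by
    rw [← conj_zpow, hrz', (show Commute z c from hcc z).mul_zpow]
  have hcord : orderOf c = p := orderOf_eq_prime (mem_omegaIn.1 hcΩ).2 hc1
  have hdvd : ∀ i : ℤ, r * z ^ i * r⁻¹ = z ^ i → (p : ℤ) ∣ i := fun i h => by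
    rw [hconj] at h
    have h' := mul_eq_left.1 h
    rwa [← orderOf_dvd_iff_zpow_eq_one, hcord] at h'
  -- `r ^ p ∈ Z`
  have hrp : r ^ p ∈ Z := by
    refine hRD ⟨R.pow_mem hr p, Subgroup.mem_centralizer_iff.2 fun w hw => ?_⟩
    have hiter : ∀ k : ℕ, r ^ k * z * (r ^ k)⁻¹ = z * c ^ k := by
      intro k
      induction k with
      | zero => simp
      | succ k ih =>
        calc r ^ (k + 1) * z * (r ^ (k + 1))⁻¹ = r * (r ^ k * z * (r ^ k)⁻¹) * r⁻¹ := by
              rw [pow_succ']; group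
          _ = (r * z * r⁻¹) * (r * c ^ k * r⁻¹) := by rw [ih]; group
          _ = z * c ^ (k + 1) := by
            rw [hrz', S.omega_central _ (pow_mem hcΩ k) r, mul_inv_cancel_right, mul_assoc, ← pow_succ']
    obtain ⟨i, rfl⟩ := hgen w hw
    have h1 : r ^ p * z ^ i * (r ^ p)⁻¹ = z ^ i := by
      rw [← conj_zpow, hiter, (mem_omegaIn.1 hcΩ).2, mul_one]
    exact (mul_inv_eq_iff_eq_mul.1 h1).symm
  obtain ⟨j, hj⟩ := hgen _ hrp
  obtain ⟨j', rfl⟩ := hdvd j (by rw [hj, (Commute.self_pow r p).eq, mul_inv_cancel_right])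
  set w := z ^ (-j') with hw
  have hwZ : w ∈ Z := Z.zpow_mem hzZ _
  have hwr : ⁅w, r⁆ ∈ Ω := by
    have h : ⁅w, r⁆ = c ^ j' := by
      calc ⁅w, r⁆ = z ^ (-j') * (r * z ^ j' * r⁻¹) := by rw [commutatorElement_def, hw]; group
        _ = c ^ j' := by rw [hconj]; group
    rw [h]; exact Ω.zpow_mem hcΩ _
  have hpow1 : (r * w) ^ p = ⁅w, r⁆ ^ p.choose 2 := by
    have hcg : ∀ g, Commute ⁅w, r⁆ g := fun g => (S.omega_central _ hwr g).symm
    rw [mul_pow_of_commute (hcg r) (hcg w), hw, ← zpow_natCast (z ^ (-j')) p, ← zpow_mul, ← hj,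
      ← zpow_add, show (p : ℤ) * j' + -j' * p = 0 by ring, zpow_zero, one_mul]
  -- an element of order `p` outside `D`
  obtain ⟨r₀, hr₀R, hr₀p, hr₀z⟩ : ∃ r₀ ∈ R, r₀ ^ p = 1 ∧ r₀ * z * r₀⁻¹ = z * c := by
    have hrwz : ∀ v ∈ Z, (r * v) * z * (r * v)⁻¹ = z * c := fun v hv => by
      calc (r * v) * z * (r * v)⁻¹ = r * (v * z * v⁻¹) * r⁻¹ := by group
        _ = z * c := by rw [(hZcomm v hv z hzZ).eq, mul_inv_cancel_right, hrz']
    have hZR : ∀ v ∈ Z, v ∈ R := fun v hv => Subgroup.mem_centralizer_iff.2 fun e he =>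
      (Subgroup.mem_centralizer_iff.1 (hED he) v hv).symm
    by_cases h2 : p = 2
    · have hm3 := hbad h2
      obtain ⟨i, hi⟩ := hgen _ ((mem_omegaIn.1 (pow_mem hwr (p.choose 2))).1)
      have hi2 : (2 : ℤ) ^ (m - 1) ∣ i := by
        have h1 := (mem_omegaIn.1 (pow_mem hwr (p.choose 2))).2
        rw [← hi, ← zpow_natCast, ← zpow_mul, ← orderOf_dvd_iff_zpow_eq_one, hord, h2] at h1
        rw [show m = m - 1 + 1 by omega, pow_succ] at h1
        push_cast at h1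
        exact Int.dvd_of_mul_dvd_mul_right (by norm_num) h1
      obtain ⟨t, ht⟩ := hi2
      obtain ⟨m', hm'⟩ : ∃ m', m - 1 = m' + 2 := ⟨m - 3, by omega⟩
      set v := z ^ (-(2 * (2 ^ m' * t))) with hv
      have hvZ : v ∈ Z := Z.zpow_mem hzZ _
      refine ⟨r * (w * v), R.mul_mem hr (hZR _ (Z.mul_mem hwZ hvZ)), ?_, hrwz _ (Z.mul_mem hwZ hvZ)⟩
      have hrv : Commute r v := by
        refine mul_inv_eq_iff_eq_mul.1 ?_
        rw [hv, hconj, orderOf_dvd_iff_zpow_eq_one.1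
          (show ((orderOf c : ℕ) : ℤ) ∣ -(2 * (2 ^ m' * t)) from by
            rw [hcord, h2]; exact ⟨-(2 ^ m' * t), by push_cast; ring⟩), mul_one]
      rw [← mul_assoc, (hrv.mul_left (hZcomm w hwZ v hvZ)).mul_pow, hpow1, ← hi, hv,
        ← zpow_natCast (z ^ _) p, ← zpow_mul, ← zpow_add, ht, hm', h2]
      have : (2 : ℤ) ^ (m' + 2) * t + -(2 * (2 ^ m' * t)) * (2 : ℕ) = 0 := by push_cast; ring
      rw [this, zpow_zero]
    · refine ⟨r * w, R.mul_mem hr (hZR w hwZ), ?_, hrwz w hwZ⟩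
      obtain ⟨t, ht⟩ := hpp.dvd_choose_self (k := 2) (by norm_num)
        (lt_of_le_of_ne hpp.two_le (Ne.symm h2))
      rw [hpow1, ht, pow_mul, (mem_omegaIn.1 hwr).2, one_pow]
  have hr₀D : r₀ ∉ D := fun h => hc1 (by
    have h1 := Subgroup.mem_centralizer_iff.1 h z hzZ
    have h2 : r₀ * z * r₀⁻¹ = z := by rw [← h1, mul_inv_cancel_right]
    rw [hr₀z] at h2
    exact mul_eq_left.1 h2)
  have hr₀conj : ∀ i : ℤ, r₀ * z ^ i * r₀⁻¹ = z ^ i * c ^ i := fun i => by
    rw [← conj_zpow, hr₀z, (show Commute z c from hcc z).mul_zpow]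
  have hΩgen : Ω ≤ Subgroup.zpowers c := by
    refine (Subgroup.eq_of_le_of_card_ge (Subgroup.zpowers_le.2 hcΩ) ?_).ge
    rw [Nat.card_zpowers, hcord]; exact S.card_omega
  let P₁ : Subgroup G :=
    { carrier := {y | ∀ v ∈ Z, y * v ^ p = v ^ p * y}
      one_mem' := fun v _ => by simp
      mul_mem' := fun {a b} ha hb v hv => by
        rw [mul_assoc, hb v hv, ← mul_assoc, ha v hv, mul_assoc]
      inv_mem' := fun {a} ha v hv => by
        rw [inv_mul_eq_iff_eq_mul, ← mul_assoc, ha v hv, mul_inv_cancel_right] }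
  have hP₁char : P₁.Characteristic := char_of_mem fun φ y hy v hv => by
    have := congrArg φ (hy _ (map_mem_char S.char φ.symm hv))
    simpa using this
  have hP₁le : P₁ ≤ D ⊔ Subgroup.zpowers r₀ := by
    intro y hy
    have hymem : y ∈ E ⊔ R := by rw [hsup]; trivial
    obtain ⟨e', he', s, hs, rfl⟩ := Subgroup.mem_sup_of_normal_left.1 hymem
    have hsz : s * z * s⁻¹ ∈ Z := S.normal.conj_mem z hzZ s
    have hdΩ : z⁻¹ * (s * z * s⁻¹) ∈ Ω := by
      refine mem_omegaIn.2 ⟨Z.mul_mem (Z.inv_mem hzZ) hsz, ?_⟩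
      have h1 : e' * s * z ^ p = z ^ p * (e' * s) := hy z hzZ
      have h2 : s * z ^ p * s⁻¹ = z ^ p := by
        have he'' := Subgroup.mem_centralizer_iff.1 (hED he') _ (Z.pow_mem hzZ p)
        calc s * z ^ p * s⁻¹ = e'⁻¹ * (e' * s * z ^ p) * s⁻¹ := by group
          _ = e'⁻¹ * (z ^ p * e') := by rw [h1]; group
          _ = z ^ p := by rw [he'', inv_mul_cancel_left]
      rw [(hZcomm _ (Z.inv_mem hzZ) _ hsz).mul_pow, conj_pow, h2, inv_pow, inv_mul_cancel]
    obtain ⟨i, hi⟩ := Subgroup.mem_zpowers_iff.1 (hΩgen hdΩ)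
    have hr₀i : ∀ k : ℕ, r₀ ^ k * z * (r₀ ^ k)⁻¹ = z * c ^ k := by
      intro k
      induction k with
      | zero => simp
      | succ k ih =>
        calc r₀ ^ (k + 1) * z * (r₀ ^ (k + 1))⁻¹ = r₀ * (r₀ ^ k * z * (r₀ ^ k)⁻¹) * r₀⁻¹ := by
              rw [pow_succ']; group
          _ = (r₀ * z * r₀⁻¹) * (r₀ * c ^ k * r₀⁻¹) := by rw [ih]; group
          _ = z * c ^ (k + 1) := by
            rw [hr₀z, S.omega_central _ (pow_mem hcΩ k) r₀, mul_inv_cancel_right, mul_assoc, ← pow_succ']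
    obtain ⟨k, hk⟩ : ∃ k : ℕ, c ^ k = c ^ i := by
      obtain ⟨k, hk⟩ := Submonoid.mem_powers_iff _ _ |>.1
        ((mem_powers_iff_mem_zpowers (x := c)).2 (Subgroup.zpow_mem_zpowers c i))
      exact ⟨k, hk⟩
    have hv : (r₀ ^ k)⁻¹ * s ∈ D := by
      refine Subgroup.mem_centralizer_iff.2 fun v hv => ?_
      obtain ⟨l, rfl⟩ := hgen v hv
      have h1 : (r₀ ^ k)⁻¹ * s * z * ((r₀ ^ k)⁻¹ * s)⁻¹ = z := by
        calc (r₀ ^ k)⁻¹ * s * z * ((r₀ ^ k)⁻¹ * s)⁻¹
            = (r₀ ^ k)⁻¹ * (z * (z⁻¹ * (s * z * s⁻¹))) * r₀ ^ k := by group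
          _ = (r₀ ^ k)⁻¹ * (r₀ ^ k * z * (r₀ ^ k)⁻¹) * r₀ ^ k := by rw [hr₀i, hk, hi]
          _ = z := by group
      have h2 : (r₀ ^ k)⁻¹ * s * z ^ l * ((r₀ ^ k)⁻¹ * s)⁻¹ = z ^ l := by rw [← conj_zpow, h1]
      exact (mul_inv_eq_iff_eq_mul.1 h2).symm
    have : e' * s = e' * (r₀ ^ k * ((r₀ ^ k)⁻¹ * s)) := by group
    rw [this]
    exact mul_mem (Subgroup.mem_sup_left (hED he')) (mul_mem
      (Subgroup.mem_sup_right (pow_mem (Subgroup.mem_zpowers r₀) k)) (Subgroup.mem_sup_left hv))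
  have hr₀P₁ : r₀ ∈ P₁ := fun v hv => by
    obtain ⟨l, rfl⟩ := hgen v hv
    refine mul_inv_eq_iff_eq_mul.1 ?_
    rw [← zpow_natCast (z ^ l) p, ← zpow_mul, hr₀conj, orderOf_dvd_iff_zpow_eq_one.1
      (show ((orderOf c : ℕ) : ℤ) ∣ l * p by rw [hcord]; exact dvd_mul_left _ _), mul_one]
  have hcr₀D : ∀ d ∈ D, ⁅r₀, d⁆ ∈ Ω := by
    intro d hd
    rw [hD] at hd
    obtain ⟨e', he', v, hv, rfl⟩ := Subgroup.mem_sup_of_normal_left.1 hd
    obtain ⟨l, rfl⟩ := hgen v hv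
    have he'' : r₀ * e' = e' * r₀ := (Subgroup.mem_centralizer_iff.1 hr₀R e' he').symm
    have h : ⁅r₀, e' * z ^ l⁆ = c ^ l := by
      calc ⁅r₀, e' * z ^ l⁆ = (r₀ * e' * r₀⁻¹) * (r₀ * z ^ l * r₀⁻¹) * (z ^ l)⁻¹ * e'⁻¹ := by
            rw [commutatorElement_def]; group
        _ = e' * (c ^ l * z ^ l) * (z ^ l)⁻¹ * e'⁻¹ := by
            rw [he'', mul_inv_cancel_right, hr₀conj, ← (S.omega_central _ (zpow_mem hcΩ l) (z ^ l))]
        _ = c ^ l := by
            rw [mul_assoc e', mul_inv_cancel_right, S.omega_central _ (zpow_mem hcΩ l) e',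
              mul_inv_cancel_right]
    rw [h]; exact zpow_mem hcΩ l
  have hP₁comm : ∀ a ∈ P₁, ∀ b ∈ P₁, ⁅a, b⁆ ∈ Ω := by
    have hgens : ∀ a ∈ D, ∀ b : G, b ∈ D ∨ b = r₀ → ⁅a, b⁆ ∈ Ω := by
      rintro a ha b (hb | rfl)
      · exact hcom a ha b hb
      · rw [← commutatorElement_inv]; exact inv_mem (hcr₀D a ha)
    intro a ha b hb
    have hle : (D ⊔ Subgroup.zpowers r₀).map (QuotientGroup.mk' Ω) ≤ Subgroup.centralizer
        (((D ⊔ Subgroup.zpowers r₀).map (QuotientGroup.mk' Ω) : Subgroup (G ⧸ Ω)) : Set (G ⧸ Ω)) := by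
      have hcm : ∀ u w : G, ⁅u, w⁆ ∈ Ω →
          QuotientGroup.mk' Ω u * QuotientGroup.mk' Ω w = QuotientGroup.mk' Ω w * QuotientGroup.mk' Ω u := by
        intro u w h
        rw [← commutatorElement_eq_one_iff_mul_comm, ← map_commutatorElement]
        exact (QuotientGroup.eq_one_iff _).2 h
      set T := D ⊔ Subgroup.zpowers r₀
      have step : ∀ w : G, w ∈ D ∨ w = r₀ → T.map (QuotientGroup.mk' Ω) ≤
          Subgroup.centralizer {QuotientGroup.mk' Ω w} := by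
        intro w hw
        rw [Subgroup.map_le_iff_le_comap]
        refine sup_le (fun u hu => ?_) (Subgroup.zpowers_le.2 ?_)
        · exact Subgroup.mem_centralizer_singleton_iff.2 (hcm u w (hgens u hu w hw))
        · refine Subgroup.mem_centralizer_singleton_iff.2 ?_
          rcases hw with hw | rfl
          · exact hcm r₀ w (hcr₀D w hw)
          · rfl
      refine Subgroup.le_centralizer_iff.1 ?_
      rw [Subgroup.map_le_iff_le_comap]
      refine sup_le (fun u hu => ?_) (Subgroup.zpowers_le.2 ?_) <;>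
        refine Subgroup.mem_centralizer_iff.2 fun t ht => ?_
      · exact Subgroup.mem_centralizer_singleton_iff.1 (step u (Or.inl hu) ht)
      · exact Subgroup.mem_centralizer_singleton_iff.1 (step r₀ (Or.inr rfl) ht)
    refine (QuotientGroup.eq_one_iff _).1 ?_
    show QuotientGroup.mk' Ω ⁅a, b⁆ = 1
    rw [map_commutatorElement, commutatorElement_eq_one_iff_mul_comm]
    exact Subgroup.mem_centralizer_iff.1 (hle (Subgroup.mem_map_of_mem _ (hP₁le hb))) _
      (Subgroup.mem_map_of_mem _ (hP₁le ha))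
  let A : Subgroup G :=
    { carrier := {y | y ∈ P₁ ∧ y ^ p ∈ Ω ∧ (p ≠ 2 → y ^ p = 1)}
      one_mem' := ⟨one_mem _, by simp, fun _ => one_pow _⟩
      mul_mem' := fun {a b} ha hb => by
        have hcb := hP₁comm b hb.1 a ha.1
        have hg : ∀ g, Commute ⁅b, a⁆ g := fun g => (S.omega_central _ hcb g).symm
        have e := mul_pow_of_commute (hg a) (hg b) p
        refine ⟨mul_mem ha.1 hb.1, ?_, fun h2 => ?_⟩
        · rw [e]; exact mul_mem (mul_mem ha.2.1 hb.2.1) (pow_mem hcb _)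
        · obtain ⟨t, ht⟩ := hpp.dvd_choose_self (k := 2) (by norm_num)
            (lt_of_le_of_ne hpp.two_le (Ne.symm h2))
          rw [e, ha.2.2 h2, hb.2.2 h2, ht, pow_mul, (mem_omegaIn.1 hcb).2, one_pow, one_mul, one_mul]
      inv_mem' := fun {a} ha => ⟨inv_mem ha.1, by rw [inv_pow]; exact inv_mem ha.2.1,
        fun h2 => by rw [inv_pow, ha.2.2 h2, inv_one]⟩ }
  have hΩchar : ∀ φ : G ≃* G, ∀ y ∈ Ω, φ y ∈ Ω := fun φ y hy => by
    rw [hΩ, mem_omegaIn] at hy ⊢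
    exact ⟨map_mem_char S.char φ hy.1, by rw [← map_pow, hy.2, map_one]⟩
  have hAchar : A.Characteristic := char_of_mem fun φ y hy =>
    ⟨map_mem_char hP₁char φ hy.1, by rw [← map_pow]; exact hΩchar φ _ hy.2.1,
      fun h2 => by rw [← map_pow, hy.2.2 h2, map_one]⟩
  have hr₀A : r₀ ∈ A := ⟨hr₀P₁, by rw [hr₀p]; exact one_mem _, fun _ => hr₀p⟩
  have hΩA : Ω ≤ A := fun y hy =>
    ⟨fun v hv => (S.omega_central y hy (v ^ p)).symm, Ω.pow_mem hy p, fun _ => (mem_omegaIn.1 hy).2⟩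
  have hr₀cen : r₀ ∈ Subgroup.centralizer (A : Set G) := by
    refine Subgroup.mem_centralizer_iff.2 fun y hy => ?_
    obtain ⟨hy1, hy2, hy3⟩ := hy
    obtain ⟨d, hd, q, hq, rfl⟩ : ∃ d ∈ D, ∃ q ∈ Subgroup.zpowers r₀, d * q = y := by
      have hh := hP₁le hy1
      have := S.cent_normal
      exact Subgroup.mem_sup_of_normal_left.1 hh
    obtain ⟨k, rfl⟩ := Subgroup.mem_zpowers_iff.1 hq
    have hd' := hd
    rw [hD] at hd'
    obtain ⟨e', he', v, hv, rfl⟩ := Subgroup.mem_sup_of_normal_left.1 hd'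
    have hkA : r₀ ^ k ∈ A := A.zpow_mem hr₀A k
    have hdA : e' * v ∈ A := by
      have := A.mul_mem (show e' * v * r₀ ^ k ∈ A from ⟨hy1, hy2, hy3⟩) (A.inv_mem hkA)
      rwa [mul_inv_cancel_right] at this
    have hev : Commute e' v := (Subgroup.mem_centralizer_iff.1 (hED he') v hv).symm
    have hvp : v ^ p ∈ Ω := by
      have h := hdA.2.1
      rw [hev.mul_pow] at h
      exact (Ω.mul_mem_cancel_left (hEpow e' he')).1 h
    obtain ⟨l, rfl⟩ := hgen v hv
    have hfl : (p : ℤ) ∣ l := by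
      by_cases h2 : p = 2
      · have h4 := (mem_omegaIn.1 hvp).2
        rw [← zpow_natCast (z ^ l) p, ← zpow_mul, ← zpow_natCast _ p, ← zpow_mul,
          ← orderOf_dvd_iff_zpow_eq_one, hord, h2] at h4
        rw [h2]
        have hm3 := hbad h2
        have h8 : ((2 : ℤ) ^ 3) ∣ ((2 ^ m : ℕ) : ℤ) := by push_cast; exact pow_dvd_pow 2 hm3
        have h9 := h8.trans h4
        push_cast at h9 ⊢
        omega
      · have h := hdA.2.2 h2
        rw [hev.mul_pow, hEexp h2 e' he', one_mul] at h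
        rw [← zpow_natCast (z ^ l) p, ← zpow_mul, ← orderOf_dvd_iff_zpow_eq_one, hord,
          show m = (m - 1) + 1 by omega, pow_succ] at h
        push_cast at h
        exact (dvd_pow_self (p : ℤ) (by omega : m - 1 ≠ 0)).trans
          (Int.dvd_of_mul_dvd_mul_right (by exact_mod_cast hpp.ne_zero) h)
    have hr₀v : Commute r₀ (z ^ l) := mul_inv_eq_iff_eq_mul.1 (by
      rw [hr₀conj, orderOf_dvd_iff_zpow_eq_one.1
        (show ((orderOf c : ℕ) : ℤ) ∣ l by rw [hcord]; exact hfl), mul_one])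
    have hr₀e : Commute r₀ e' := (Subgroup.mem_centralizer_iff.1 hr₀R e' he').symm
    exact ((hr₀e.mul_right hr₀v).mul_right (Commute.self_zpow r₀ k)).eq.symm
  set C := A ⊓ Subgroup.centralizer (A : Set G) with hC
  have hcyc : IsCyclic ↥C := S.symp C (S.char_inf_centralizer hAchar) (S.inf_centralizer_comm A)
  have hΩC : Ω ≤ C := le_inf hΩA fun y hy => Subgroup.mem_centralizer_iff.2 fun g _ =>
    S.omega_central y hy g
  let _ : Fintype ↥C := Fintype.ofFinite _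
  have hle := IsCyclic.card_pow_eq_one_le (α := ↥C) hpp.pos
  have hr₀Ω : r₀ ∈ Ω := by
    by_contra hno
    let f : Option Ω → {y : ↥C // y ^ p = 1} := fun o => match o with
      | none => ⟨⟨r₀, hr₀A, hr₀cen⟩, Subtype.ext hr₀p⟩
      | some w => ⟨⟨w, hΩC w.2⟩, Subtype.ext (mem_omegaIn.1 w.2).2⟩
    have hf : Function.Injective f := by
      rintro (_ | a) (_ | b) hab
      · rfl
      · have e : r₀ = (b : G) := congrArg (fun t : {y : ↥C // y ^ p = 1} => (t.1 : G)) hab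
        exact absurd (by rw [e]; exact b.2) hno
      · have e : (a : G) = r₀ := congrArg (fun t : {y : ↥C // y ^ p = 1} => (t.1 : G)) hab
        exact absurd (by rw [← e]; exact a.2) hno
      · exact congrArg some (Subtype.ext (congrArg (fun t : {y : ↥C // y ^ p = 1} => (t.1 : G)) hab))
    have h1 := Nat.card_le_card_of_injective f hf
    rw [Finite.card_option, Nat.card_eq_fintype_card (α := {y : ↥C // y ^ p = 1}),
      Fintype.card_subtype] at h1
    have h2 : p ≤ Nat.card Ω := by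
      have := Subgroup.card_le_of_le (Subgroup.zpowers_le.2 hcΩ)
      rwa [Nat.card_zpowers, hcord] at this
    omega
  exact hr₀D (Subgroup.mem_centralizer_iff.2 fun v _ => (S.omega_central r₀ hr₀Ω v))

theorem odd_lift {u : ℤ} {p m : ℕ} (hpp : p.Prime) (h2 : p ≠ 2) (hm : 1 ≤ m)
    (h : ((p ^ m : ℕ) : ℤ) ∣ u ^ p - 1) : ((p ^ (m - 1) : ℕ) : ℤ) ∣ u - 1 := by
  have := Fact.mk hpp
  have hodd : Odd p := hpp.odd_of_ne_two h2
  have hu1 : (p : ℤ) ∣ u - 1 := by
    have h1 : (p : ℤ) ∣ u ^ p - 1 := (Int.natCast_dvd_natCast.2 (dvd_pow_self p (by omega))).trans h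
    rw [← ZMod.intCast_zmod_eq_zero_iff_dvd] at h1 ⊢
    push_cast at h1 ⊢
    rwa [ZMod.pow_card] at h1
  obtain ⟨k, hk⟩ := hu1
  have hu : u = 1 + (p : ℤ) * k := by linarith
  obtain ⟨t, ht⟩ := odd_sq_dvd_geom_sum₂_sub (R := ℤ) (a := 1) (b := k) (p := p) hodd
  simp only [one_pow, mul_one] at ht
  have hsum : ∑ i ∈ Finset.range p, (1 + (p : ℤ) * k) ^ i = p * (1 + p * t) := by linarith
  have hfac : u ^ p - 1 = (p * (1 + p * t)) * (u - 1) := by
    rw [← geom_sum_mul u p, hu, hsum]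
  rw [hfac, show m = m - 1 + 1 by omega, pow_succ', Nat.cast_mul, mul_assoc] at h
  have h' := Int.dvd_of_mul_dvd_mul_left (by exact_mod_cast hpp.ne_zero) h
  have hcop : IsCoprime ((p ^ (m - 1) : ℕ) : ℤ) (1 + (p : ℤ) * t) := by
    push_cast
    exact IsCoprime.pow_left ⟨-t, 1, by ring⟩
  exact hcop.dvd_of_dvd_mul_left h'

theorem two_lift {u : ℤ} {m : ℕ} (hm : 2 ≤ m) (h : ((2 ^ m : ℕ) : ℤ) ∣ u ^ 2 - 1) :
    ((2 ^ (m - 1) : ℕ) : ℤ) ∣ u - 1 ∨ ((2 ^ (m - 1) : ℕ) : ℤ) ∣ u + 1 := by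
  push_cast at h ⊢
  have hu : Odd u := by
    rcases Int.even_or_odd u with he | ho
    · exfalso
      have h2 : (2 : ℤ) ∣ u ^ 2 - 1 := (dvd_pow_self _ (by omega)).trans h
      obtain ⟨w, hw⟩ := he
      obtain ⟨v, hv⟩ := h2
      have : u ^ 2 = 2 * (2 * w ^ 2) := by rw [hw]; ring
      omega
    · exact ho
  obtain ⟨w, hw⟩ := hu
  have hfac : u ^ 2 - 1 = 2 * (2 * (w * (w + 1))) := by rw [hw]; ring
  obtain ⟨m', rfl⟩ : ∃ m', m = m' + 2 := ⟨m - 2, by omega⟩
  rw [hfac, pow_succ' (2 : ℤ) (m' + 1), pow_succ' (2 : ℤ) m'] at h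
  have h' := Int.dvd_of_mul_dvd_mul_left (by norm_num)
    (Int.dvd_of_mul_dvd_mul_left (by norm_num) h)
  rw [show m' + 2 - 1 = m' + 1 by omega]
  rcases Int.even_or_odd w with ⟨v, hv⟩ | ⟨v, hv⟩
  · left
    have hc : IsCoprime ((2 : ℤ) ^ m') (w + 1) := IsCoprime.pow_left ⟨-v, 1, by rw [hv]; ring⟩
    obtain ⟨s, hs⟩ := hc.dvd_of_dvd_mul_right h'
    exact ⟨s, by rw [hw, pow_succ', show (2 * w + 1 - 1 : ℤ) = 2 * w by ring, hs]; ring⟩
  · right
    have hc : IsCoprime ((2 : ℤ) ^ m') w := IsCoprime.pow_left ⟨-v, 1, by rw [hv]; ring⟩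
    obtain ⟨s, hs⟩ := hc.dvd_of_dvd_mul_left h'
    exact ⟨s, by rw [hw, pow_succ', show (2 * w + 1 + 1 : ℤ) = 2 * (w + 1) by ring, hs]; ring⟩

end Helpers

/-- Let G be a finite p-group of symplectic type: every characteristic abelian subgroup of G is cyclic. Then G = E ∗ R is a central product of subgroups E and R (they commute elementwise and generate G) where E is extraspecial or trivial, and R is cyclic, or p = 2 and R is dihedral, semidihedral or generalized quaternion of order at least 16. -/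
theorem result {G : Type*} [Group G] [Finite G] {p : ℕ} [Fact p.Prime] (hG : IsPGroup p G) (hsymp : ∀ A : Subgroup G, A.Characteristic → IsMulCommutative A → IsCyclic A) : ∃ E R : Subgroup G, (∀ e ∈ E, ∀ r ∈ R, e * r = r * e) ∧ E ⊔ R = ⊤ ∧ (E = ⊥ ∨ Cfsg.IsExtraspecial p ↥E) ∧ (IsCyclic R ∨ (p = 2 ∧ 16 ≤ Nat.card R ∧ ((∃ m : ℕ, Nonempty (↥R ≃* DihedralGroup m)) ∨ (∃ m : ℕ, Nonempty (↥R ≃* QuaternionGroup m)) ∨ Cfsg.IsQuasiDihedral ↥R))) := by
  classical
  have hpp := (Fact.out : p.Prime)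
  obtain ⟨Z, S⟩ := exists_setup hG hsymp
  have := S.comm
  obtain ⟨E, hΩE, hEZ, hD, hEn, hEpow, hEexp⟩ := S.exists_extraspecial_part
  have := hEn
  obtain ⟨hpow, hcom⟩ := S.cent_spec
  obtain ⟨z, m, hzZ, hord, hcardZ, hgen⟩ := exists_generator_data S
  set D := Subgroup.centralizer (Z : Set G) with hDdef
  set Ω := omegaIn p Z with hΩdef
  set R := Subgroup.centralizer (E : Set G) with hRdef
  have hΩn := S.omega_normal
  have hED : E ≤ D := by rw [hD]; exact le_sup_left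
  have hZR : Z ≤ R := fun v hv => Subgroup.mem_centralizer_iff.2 fun e he =>
    (Subgroup.mem_centralizer_iff.1 (hED he) v hv).symm
  have hRD : R ⊓ D ≤ Z := by
    intro x hx
    refine S.self_centralizing ⟨hx.2, ?_⟩
    have h1 : D ≤ Subgroup.centralizer {x} := by
      rw [hD]
      exact sup_le (fun e he => Subgroup.mem_centralizer_singleton_iff.2
          (Subgroup.mem_centralizer_iff.1 hx.1 e he)) (fun v hv =>
        Subgroup.mem_centralizer_singleton_iff.2 (Subgroup.mem_centralizer_iff.1 hx.2 v hv))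
    exact Subgroup.mem_centralizer_iff.2 fun d hd => Subgroup.mem_centralizer_singleton_iff.1 (h1 hd)
  have hER : E ⊓ R ≤ Ω := fun x hx => hEZ.le ⟨hx.1, hRD ⟨hx.2, hED hx.1⟩⟩
  have hsup : E ⊔ R = ⊤ := by
    have : R.Normal := by rw [hRdef]; infer_instance
    have h := chain_bound hG (A := ⊤) (W := E) S.card_omega (fun g _ e he => hEZ.le ⟨by
        rw [commutatorElement_def]
        exact E.mul_mem (hEn.conj_mem e he g) (E.inv_mem he), S.commutator_mem (hED he) g⟩) Ω hΩE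
    rw [top_inf_eq, top_inf_eq, show Subgroup.centralizer (Ω : Set G) = ⊤ from eq_top_iff.2
      fun g _ => Subgroup.mem_centralizer_iff.2 fun w hw => (S.omega_central w hw g).symm,
      Subgroup.card_top] at h
    refine Subgroup.eq_top_of_le_card _ (Nat.le_of_mul_le_mul_right
      (c := Nat.card ↥(R ⊓ E)) ?_ Nat.card_pos)
    have h1 : Nat.card ↥(R ⊓ E) ≤ Nat.card Ω := Subgroup.card_le_of_le (inf_comm R E ▸ hER)
    have h2 : Nat.card R * Nat.card E = Nat.card ↥(E ⊔ R) * Nat.card ↥(R ⊓ E) := by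
      have e1 := ((R ⊓ E).subgroupOf E).card_mul_index
      rw [Nat.card_congr (Subgroup.subgroupOfEquivOfLe (inf_le_right : R ⊓ E ≤ E)).toEquiv,
        Subgroup.inf_subgroupOf_right] at e1
      have e2 := (R.subgroupOf (E ⊔ R)).card_mul_index
      rw [Nat.card_congr (Subgroup.subgroupOfEquivOfLe (le_sup_right : R ≤ E ⊔ R)).toEquiv] at e2
      change _ * R.relIndex E = _ at e1
      change _ * R.relIndex (E ⊔ R) = _ at e2
      have e3 : R.relIndex (E ⊔ R) = R.relIndex E := by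
        simp [Subgroup.relIndex_sup_left, Subgroup.relIndex_sup_right]
      rw [e3] at e2
      rw [← e2, ← e1]; ring
    calc Nat.card G * Nat.card ↥(R ⊓ E) ≤ Nat.card G * Nat.card Ω := Nat.mul_le_mul_left _ h1
      _ ≤ Nat.card R * Nat.card E := h
      _ = _ := h2
  have hcommER : ∀ e ∈ E, ∀ r ∈ R, e * r = r * e := fun e he r hr =>
    Subgroup.mem_centralizer_iff.1 hr e he
  obtain ⟨E', hE'comm, hE'sup, hE'ex⟩ : ∃ E' : Subgroup G, (∀ e ∈ E', ∀ r ∈ R, e * r = r * e) ∧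
      E' ⊔ R = ⊤ ∧ (E' = ⊥ ∨ Cfsg.IsExtraspecial p ↥E') := by
    by_cases hEΩ : E = Ω
    · refine ⟨⊥, fun e he r _ => by simp [Subgroup.mem_bot.1 he], ?_, Or.inl rfl⟩
      rw [bot_sup_eq, ← hsup]
      exact (sup_eq_right.2 (hEΩ.le.trans (S.omega_le.trans hZR))).symm
    · refine ⟨E, hcommER, hsup, Or.inr (extraspecial_of hG E hΩE ?_ S.omega_central hEpow
        (fun a ha b hb => hcom a (hED ha) b (hED hb)) hER hEΩ)⟩
      refine card_omega_eq S fun hZb => hEΩ ?_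
      have h1 : D = E := by rw [hD, hZb, sup_bot_eq]
      have h2 : D = ⊤ := eq_top_iff.2 fun g _ => Subgroup.mem_centralizer_iff.2 fun v hv => by
        have hv1 : v = 1 := Subgroup.mem_bot.1 (hZb ▸ hv)
        simp [hv1]
      have h3 : Subgroup.center G = ⊥ := le_bot_iff.1 (hZb ▸ S.center_le)
      refine le_antisymm (fun e _ => ?_) hΩE
      have he1 : e = 1 := by
        by_contra hne
        haveI : Nontrivial G := ⟨e, 1, hne⟩
        exact (ne_of_gt hG.bot_lt_center) h3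
      subst he1
      exact one_mem _
  by_cases hRle : R ≤ D
  · refine ⟨E', R, hE'comm, hE'sup, hE'ex, Or.inl ?_⟩
    have hRZ : R = Z := le_antisymm (fun x hx => hRD ⟨hx, hRle hx⟩) hZR
    rw [hRZ]
    exact S.cyclic
  obtain ⟨r₁, hr₁R, hr₁D⟩ := SetLike.not_le_iff_exists.1 hRle
  have hm : 2 ≤ m := by
    by_contra hm
    refine hr₁D (Subgroup.mem_centralizer_iff.2 fun v hv => ?_)
    refine (S.omega_central v (mem_omegaIn.2 ⟨hv, ?_⟩) r₁).symm
    have h1 : v ^ Nat.card Z = 1 := congrArg Subtype.val (pow_card_eq_one' (x := (⟨v, hv⟩ : Z)))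
    rw [hcardZ] at h1
    rcases Nat.lt_or_ge m 1 with h0 | h0
    · rw [show m = 0 by omega, pow_zero, pow_one] at h1
      rw [h1, one_pow]
    · rwa [show m = 1 by omega, pow_one] at h1
  have hΩne : Ω ≠ Z := by
    intro h
    have hz1 : z ^ p = 1 := (mem_omegaIn.1 (show z ∈ Ω by rw [h]; exact hzZ)).2
    have := Nat.le_of_dvd hpp.pos (orderOf_dvd_of_pow_eq_one hz1)
    rw [hord] at this
    have h2 : p ^ 2 ≤ p ^ m := Nat.pow_le_pow_right hpp.pos hm
    nlinarith [hpp.two_le]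
  have hkey : ∀ x : G, (p = 2 → 3 ≤ m) → x * z ^ (p : ℤ) * x⁻¹ = z ^ (p : ℤ) → x ∈ D :=
    fun x hbad hfix => key S hzZ hord hgen hED hD hsup hRD hEpow
      (fun h2 => hEexp h2 hΩne) hm hbad hfix
  have hu : ∀ x : G, ∃ u : ℤ, x * z * x⁻¹ = z ^ u := fun x => by
    obtain ⟨u, hu⟩ := hgen _ (S.normal.conj_mem z hzZ x)
    exact ⟨u, hu.symm⟩
  have hfixp : ∀ (x : G) (u : ℤ), x * z * x⁻¹ = z ^ u → ((p ^ (m - 1) : ℕ) : ℤ) ∣ u - 1 →
      x * z ^ (p : ℤ) * x⁻¹ = z ^ (p : ℤ) := by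
    intro x u hxu hd
    rw [← conj_zpow, hxu, ← zpow_mul, eq_zpow_iff hord]
    obtain ⟨t, ht⟩ := hd
    refine ⟨t, ?_⟩
    rw [show m = m - 1 + 1 by omega, pow_succ]
    push_cast at ht ⊢
    rw [show u * (p : ℤ) - p = (u - 1) * p by ring, ht]; ring
  have hDchar : ∀ x : G, x * z * x⁻¹ = z → x ∈ D := by
    intro x hx
    refine Subgroup.mem_centralizer_iff.2 fun v hv => ?_
    obtain ⟨l, rfl⟩ := hgen v hv
    exact (mul_inv_eq_iff_eq_mul.1 (by rw [← conj_zpow, hx] : x * z ^ l * x⁻¹ = z ^ l)).symm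
  have hpow1 : ∀ (x : G) (u : ℤ) (i : ℕ), x * z * x⁻¹ = z ^ u → x ^ i ∈ D →
      ((p ^ m : ℕ) : ℤ) ∣ u ^ i - 1 := by
    intro x u i hxu hi
    rw [← eq_zpow_iff hord, ← conj_zpow_exp hxu i, zpow_one]
    rw [← Subgroup.mem_centralizer_iff.1 hi z hzZ, mul_inv_cancel_right]
  by_cases hp2 : p = 2
  swap
  · exfalso
    have := S.cent_normal
    obtain ⟨x, -, hxD, hxp, -⟩ := exists_step hG (Z := D) (L := ⊤)
      (lt_top_iff_ne_top.2 fun h => hr₁D (h ▸ Subgroup.mem_top r₁))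
    obtain ⟨u, hxu⟩ := hu x
    exact hxD (hkey x (fun h => absurd h hp2)
      (hfixp x u hxu (odd_lift hpp hp2 (by omega) (hpow1 x u p hxu hxp))))
  subst hp2
  rcases eq_or_lt_of_le hm with hm2 | hm3
  · -- `|Z| = 4`: the whole group is extraspecial
    subst hm2
    have hodd : ∀ (x : G) (u : ℤ), x * z * x⁻¹ = z ^ u → Odd u := by
      intro x u hxu
      rcases Int.even_or_odd u with ⟨t, ht⟩ | ho
      · exfalso
        have h1 : (x * z * x⁻¹) ^ 2 = 1 := by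
          rw [hxu, ← zpow_natCast, ← zpow_mul, ← orderOf_dvd_iff_zpow_eq_one, hord, ht]
          exact ⟨t, by push_cast; ring⟩
        rw [conj_pow, conj_eq_one_iff] at h1
        have h2 := orderOf_dvd_of_pow_eq_one h1
        rw [hord] at h2
        norm_num at h2
      · exact ho
    have hz2 : z ^ (2 : ℤ) ∈ Ω := mem_omegaIn.2 ⟨Z.zpow_mem hzZ _, by
      rw [← zpow_natCast, ← zpow_mul, ← orderOf_dvd_iff_zpow_eq_one, hord]; norm_num⟩
    obtain ⟨u₁, hu₁⟩ := hu r₁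
    have hu₁' : ¬ ((2 ^ 2 : ℕ) : ℤ) ∣ u₁ - 1 := fun hd => hr₁D (hDchar r₁ (by
      rw [hu₁]
      have := (eq_zpow_iff hord u₁ 1).2 hd
      rwa [zpow_one] at this))
    have heven : ∀ j : ℤ, r₁ * z ^ j * r₁⁻¹ = z ^ j → z ^ j ∈ Ω := by
      intro j hj
      rw [← conj_zpow, hu₁, ← zpow_mul, eq_zpow_iff hord] at hj
      obtain ⟨t, ht⟩ : (2 : ℤ) ∣ j := by
        obtain ⟨a, ha⟩ := hodd r₁ u₁ hu₁
        rcases Int.even_or_odd a with ⟨b, hb⟩ | ⟨b, hb⟩
        · exact absurd ⟨b, by rw [ha, hb]; push_cast; ring⟩ hu₁'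
        · obtain ⟨q, hq⟩ := hj
          rw [ha, hb] at hq
          push_cast at hq
          exact ⟨q - b * j, by linarith⟩
      rw [ht, zpow_mul]
      exact Ω.zpow_mem hz2 t
    have hrsq : r₁ ^ 2 ∈ Ω := by
      have hmem : r₁ ^ 2 ∈ Z := by
        refine hRD ⟨R.pow_mem hr₁R 2, hDchar _ ?_⟩
        obtain ⟨a, ha⟩ := hodd r₁ u₁ hu₁
        obtain ⟨b, hb⟩ := Int.even_mul_succ_self a
        rw [conj_zpow_exp hu₁ 2]
        have h4 : ((2 ^ 2 : ℕ) : ℤ) ∣ u₁ ^ 2 - 1 := by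
          refine ⟨2 * b, ?_⟩
          have : a * (a + 1) = b + b := hb
          rw [ha]; push_cast; linarith
        have := (eq_zpow_iff hord (u₁ ^ 2) 1).2 h4
        rwa [zpow_one] at this
      obtain ⟨j, hj⟩ := hgen _ hmem
      rw [← hj]
      refine heven j ?_
      rw [hj, (Commute.self_pow r₁ 2).eq, mul_inv_cancel_right]
    have hcomm : ∀ a b : G, ⁅a, b⁆ ∈ Ω := by
      have hq : ∀ x : G, ∀ v ∈ Z, ⁅x, v⁆ ∈ Ω := by
        intro x v hv
        obtain ⟨u, hxu⟩ := hu x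
        obtain ⟨j, rfl⟩ := hgen v hv
        have hv' : ⁅x, z ^ j⁆ = (z ^ (2 : ℤ)) ^ ((u - 1) / 2 * j) := by
          rw [commutatorElement_def, ← conj_zpow, hxu, ← zpow_mul, ← zpow_neg, ← zpow_add, ← zpow_mul]
          congr 1
          obtain ⟨t, ht⟩ := hodd x u hxu
          rw [ht, show (2 * t + 1 - 1 : ℤ) = 2 * t by ring, Int.mul_ediv_cancel_left t (by norm_num)]
          ring
        rw [hv']
        exact Ω.zpow_mem hz2 _
      -- `R = Z ∪ r₁ Z`
      have hRr : ∀ s ∈ R, s ∈ Z ∨ r₁⁻¹ * s ∈ Z := by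
        intro s hs
        by_cases hsD : s ∈ D
        · exact Or.inl (hRD ⟨hs, hsD⟩)
        right
        refine hRD ⟨R.mul_mem (R.inv_mem hr₁R) hs, hDchar _ ?_⟩
        obtain ⟨u, hsu⟩ := hu s
        have h4 : ¬ ((2 ^ 2 : ℕ) : ℤ) ∣ u - 1 := fun hd => hsD (hDchar s (by
          rw [hsu]
          have := (eq_zpow_iff hord u 1).2 hd
          rwa [zpow_one] at this))
        have he : z ^ u = z ^ u₁ := (eq_zpow_iff hord _ _).2 (by
          obtain ⟨a, ha⟩ := hodd s u hsu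
          obtain ⟨b, hb⟩ := hodd r₁ u₁ hu₁
          push_cast at h4 hu₁' ⊢
          omega)
        calc r₁⁻¹ * s * z * (r₁⁻¹ * s)⁻¹ = r₁⁻¹ * (s * z * s⁻¹) * r₁ := by group
          _ = r₁⁻¹ * (r₁ * z * r₁⁻¹) * r₁ := by rw [hsu, he, hu₁]
          _ = z := by group
      have hgenG : ∀ x : G, ∃ d ∈ D, x = d ∨ x = d * r₁ := by
        intro x
        have hxm : x ∈ E ⊔ R := by rw [hsup]; trivial
        obtain ⟨e, he, s, hs, rfl⟩ := Subgroup.mem_sup_of_normal_left.1 hxm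
        rcases hRr s hs with h | h
        · exact ⟨e * s, D.mul_mem (hED he) (S.le_cent h), Or.inl rfl⟩
        · refine ⟨e * (r₁ * (r₁⁻¹ * s) * r₁⁻¹),
            D.mul_mem (hED he) (S.le_cent (S.normal.conj_mem _ h r₁)), Or.inr ?_⟩
          group
      have hDr : ∀ d ∈ D, QuotientGroup.mk' Ω d * QuotientGroup.mk' Ω r₁ =
          QuotientGroup.mk' Ω r₁ * QuotientGroup.mk' Ω d := by
        intro d hd
        rw [hD] at hd
        obtain ⟨e, he, v, hv, rfl⟩ := Subgroup.mem_sup_of_normal_left.1 hd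
        have c1 : Commute (QuotientGroup.mk' Ω e) (QuotientGroup.mk' Ω r₁) :=
          (show Commute e r₁ from hcommER e he r₁ hr₁R).map _
        have c2 : Commute (QuotientGroup.mk' Ω r₁) (QuotientGroup.mk' Ω v) := by
          rw [← commutatorElement_eq_one_iff_commute, ← map_commutatorElement]
          exact (QuotientGroup.eq_one_iff _).2 (hq r₁ v hv)
        rw [map_mul]
        exact c1.mul_left c2.symm
      intro a b
      refine (QuotientGroup.eq_one_iff _).1 ?_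
      show QuotientGroup.mk' Ω ⁅a, b⁆ = 1
      rw [map_commutatorElement, commutatorElement_eq_one_iff_commute]
      have hDD : ∀ d ∈ D, ∀ d' ∈ D, Commute (QuotientGroup.mk' Ω d) (QuotientGroup.mk' Ω d') := by
        intro d hd d' hd'
        rw [← commutatorElement_eq_one_iff_commute, ← map_commutatorElement]
        exact (QuotientGroup.eq_one_iff _).2 (hcom d hd d' hd')
      obtain ⟨d, hd, ha⟩ := hgenG a
      obtain ⟨d', hd', hb⟩ := hgenG b
      have k1 : Commute (QuotientGroup.mk' Ω d) (QuotientGroup.mk' Ω r₁) := hDr d hd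
      have k2 : Commute (QuotientGroup.mk' Ω d') (QuotientGroup.mk' Ω r₁) := hDr d' hd'
      rcases ha with rfl | rfl <;> rcases hb with rfl | rfl <;> (try simp only [map_mul])
      · exact hDD _ hd _ hd'
      · exact (hDD _ hd _ hd').mul_right k1
      · exact (hDD _ hd _ hd').mul_left k2.symm
      · exact ((hDD _ hd _ hd').mul_right k1).mul_left (k2.symm.mul_right (Commute.refl _))
    have hsq : ∀ g : G, g ^ 2 ∈ Ω := by
      let H : Subgroup G :=
        { carrier := {g | g ^ 2 ∈ Ω}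
          one_mem' := by simp
          mul_mem' := fun {a b} ha hb => by
            have hg : ∀ g, Commute ⁅b, a⁆ g := fun g => (S.omega_central _ (hcomm b a) g).symm
            show (a * b) ^ 2 ∈ Ω
            rw [mul_pow_of_commute (hg a) (hg b)]
            exact mul_mem (mul_mem ha hb) (pow_mem (hcomm b a) _)
          inv_mem' := fun {a} ha => by
            show a⁻¹ ^ 2 ∈ Ω
            rw [inv_pow]; exact inv_mem ha }
      intro g
      have hg : g ∈ E ⊔ R := by rw [hsup]; trivial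
      have hle : E ⊔ R ≤ H := by
        refine sup_le (fun e he => hEpow e he) (fun s hs => ?_)
        by_cases hsD : s ∈ D
        · obtain ⟨j, hj⟩ := hgen s (hRD ⟨hs, hsD⟩)
          show s ^ 2 ∈ Ω
          rw [← hj, ← zpow_natCast, ← zpow_mul, mul_comm, zpow_mul]
          exact Ω.zpow_mem (by simpa using hz2) j
        · have hsz : s ^ 2 ∈ Z := by
            refine hRD ⟨R.pow_mem hs 2, hDchar _ ?_⟩
            obtain ⟨u, hsu⟩ := hu s
            obtain ⟨a, ha⟩ := hodd s u hsu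
            obtain ⟨b, hb⟩ := Int.even_mul_succ_self a
            rw [conj_zpow_exp hsu 2]
            have h4 : ((2 ^ 2 : ℕ) : ℤ) ∣ u ^ 2 - 1 := by
              refine ⟨2 * b, ?_⟩
              have : a * (a + 1) = b + b := hb
              rw [ha]; push_cast; linarith
            have := (eq_zpow_iff hord (u ^ 2) 1).2 h4
            rwa [zpow_one] at this
          obtain ⟨j, hj⟩ := hgen _ hsz
          show s ^ 2 ∈ Ω
          -- `s² ` is fixed by `s`, hence by `r₁`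
          have hfix : s * z ^ j * s⁻¹ = z ^ j := by
            rw [hj, (Commute.self_pow s 2).eq, mul_inv_cancel_right]
          rw [← hj]
          refine heven j ?_
          obtain ⟨u, hsu⟩ := hu s
          rw [← conj_zpow, hsu, ← zpow_mul, eq_zpow_iff hord] at hfix
          rw [← conj_zpow, hu₁, ← zpow_mul, eq_zpow_iff hord]
          have h4 : ¬ ((2 ^ 2 : ℕ) : ℤ) ∣ u - 1 := fun hd => hsD (hDchar s (by
            rw [hsu]
            have := (eq_zpow_iff hord u 1).2 hd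
            rwa [zpow_one] at this))
          have he : ((2 ^ 2 : ℕ) : ℤ) ∣ u₁ - u := by
            obtain ⟨a, ha⟩ := hodd s u hsu
            obtain ⟨b, hb⟩ := hodd r₁ u₁ hu₁
            push_cast at h4 hu₁' ⊢
            omega
          have : u₁ * j - j = (u * j - j) + (u₁ - u) * j := by ring
          rw [this]
          exact dvd_add hfix (dvd_mul_of_dvd_left he j)
      exact hle hg
    have hcΩ : Nat.card Ω = 2 := card_omega_eq S fun h => hΩne (by
      rw [h]; exact le_bot_iff.1 (h ▸ S.omega_le))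
    have hEx : Cfsg.IsExtraspecial 2 ↥(⊤ : Subgroup G) := by
      refine extraspecial_of hG ⊤ le_top hcΩ S.omega_central (fun e _ => hsq e)
        (fun a _ b _ => hcomm a b) ?_ ?_
      · intro x hx
        have hxc : x ∈ Subgroup.center G :=
          Subgroup.mem_center_iff.2 fun g => Subgroup.mem_centralizer_iff.1 hx.2 g trivial
        obtain ⟨j, rfl⟩ := hgen x (S.center_le hxc)
        refine heven j ?_
        rw [Subgroup.mem_center_iff.1 hxc r₁, mul_inv_cancel_right]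
      · exact fun h => hΩne (le_antisymm S.omega_le (h ▸ le_top))
    refine ⟨⊤, Ω, fun e _ w hw => S.omega_central w hw e, top_sup_eq _, Or.inr hEx, Or.inl ?_⟩
    exact isCyclic_of_prime_card (p := 2) hcΩ
  -- `|Z| ≥ 8`
  have hm3' : 3 ≤ m := by omega
  have hinvol : ∀ x : G, x ∉ D → x ^ 2 ∈ D → ∀ u : ℤ, x * z * x⁻¹ = z ^ u →
      ((2 ^ (m - 1) : ℕ) : ℤ) ∣ u + 1 := by
    intro x hxD hx2 u hxu
    rcases two_lift hm (hpow1 x u 2 hxu hx2) with h | h
    · exact absurd (hkey x (fun _ => hm3') (hfixp x u hxu h)) hxD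
    · exact h
  have hR2 : ∀ x : G, x ^ 2 ∈ D := by
    intro x
    by_contra hx2
    have hex : ∃ k, x ^ 2 ^ k ∈ D := by
      obtain ⟨k, hk⟩ := hG x
      exact ⟨k, hk ▸ D.one_mem⟩
    have hspec := Nat.find_spec hex
    obtain ⟨k, hk⟩ : ∃ k, Nat.find hex = k + 2 := by
      refine ⟨Nat.find hex - 2, ?_⟩
      have h0 : Nat.find hex ≠ 0 := fun h => hx2 (by
        rw [h, pow_zero, pow_one] at hspec
        exact D.pow_mem hspec 2)
      have h1 : Nat.find hex ≠ 1 := fun h => hx2 (by rw [h, pow_one] at hspec; exact hspec)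
      omega
    set w := x ^ 2 ^ k with hw
    have hy : (w ^ 2) ∉ D := by
      rw [hw, ← pow_mul, ← pow_succ]
      exact Nat.find_min hex (by omega)
    have hy2 : (w ^ 2) ^ 2 ∈ D := by
      have e : (w ^ 2) ^ 2 = x ^ 2 ^ (k + 2) := by
        rw [hw, ← pow_mul, ← pow_mul]; congr 1; ring
      rw [e, ← hk]; exact hspec
    obtain ⟨u, hwu⟩ := hu w
    have h := hinvol _ hy hy2 (u ^ 2) (conj_zpow_exp hwu 2)
    have h4 : (4 : ℤ) ∣ ((2 ^ (m - 1) : ℕ) : ℤ) := by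
      have := pow_dvd_pow (2 : ℤ) (show 2 ≤ m - 1 by omega)
      push_cast
      simpa using this
    have h5 := h4.trans h
    rcases Int.even_or_odd u with ⟨t, ht⟩ | ⟨t, ht⟩
    · rw [ht, show ((t + t) ^ 2 + 1 : ℤ) = 4 * (t * t) + 1 by ring] at h5
      omega
    · rw [ht, show ((2 * t + 1) ^ 2 + 1 : ℤ) = 4 * (t * t + t) + 2 by ring] at h5
      omega
  have hprod : ∀ x y : G, x ∉ D → y ∉ D → x * y ∈ D := by
    intro x y hx hy
    obtain ⟨u, hxu⟩ := hu x
    obtain ⟨v, hyv⟩ := hu y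
    obtain ⟨a, ha⟩ := hinvol x hx (hR2 x) u hxu
    obtain ⟨b, hb⟩ := hinvol y hy (hR2 y) v hyv
    have hxy : (x * y) * z * (x * y)⁻¹ = z ^ (u * v) := by
      calc (x * y) * z * (x * y)⁻¹ = x * (y * z * y⁻¹) * x⁻¹ := by group
        _ = z ^ (u * v) := by rw [hyv, ← conj_zpow, hxu, ← zpow_mul]
    refine hkey _ (fun _ => hm3') (hfixp _ _ hxy ⟨((2 ^ (m - 1) : ℕ) : ℤ) * a * b - a - b, ?_⟩)
    have hu' : u = ((2 ^ (m - 1) : ℕ) : ℤ) * a - 1 := by linarith
    have hv' : v = ((2 ^ (m - 1) : ℕ) : ℤ) * b - 1 := by linarith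
    rw [hu', hv']; ring
  have hcardR : Nat.card R = 2 ^ (m + 1) := by
    have hidx : (Z.subgroupOf R).index = 2 := by
      rw [Subgroup.index_eq_two_iff']
      refine ⟨⟨r₁, hr₁R⟩, fun b => ?_⟩
      by_cases hb : (b : G) ∈ Z
      · refine Or.inr ⟨hb, fun h => hr₁D (S.le_cent ?_)⟩
        exact (Z.mul_mem_cancel_right hb).1 h
      · refine Or.inl ⟨?_, hb⟩
        exact hRD ⟨R.mul_mem hr₁R b.2, hprod _ _ hr₁D (fun h => hb (hRD ⟨b.2, h⟩))⟩
    have := (Z.subgroupOf R).card_mul_index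
    rw [Nat.card_congr (Subgroup.subgroupOfEquivOfLe hZR).toEquiv, hcardZ, hidx] at this
    rw [← this, pow_succ]
  have haord : orderOf (⟨z, hZR hzZ⟩ : R) = 2 ^ m := by rw [Subgroup.orderOf_mk]; exact hord
  have hna : ∃ a b : R, a * b ≠ b * a := ⟨⟨r₁, hr₁R⟩, ⟨z, hZR hzZ⟩, fun h => hr₁D (hDchar r₁ (by
    have h' : r₁ * z = z * r₁ := congrArg Subtype.val h
    rw [h', mul_inv_cancel_right]))⟩
  obtain ⟨b, hb, hcases⟩ := CfsgLib.TwoGroups.Classify.classify hm hcardR haord hna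
  refine ⟨E', R, hE'comm, hE'sup, hE'ex, Or.inr ⟨rfl, ?_, ?_⟩⟩
  · rw [hcardR]
    calc 16 = 2 ^ 4 := by norm_num
      _ ≤ _ := Nat.pow_le_pow_right two_pos (by omega)
  have hsplit : 2 ^ m = 2 * 2 ^ (m - 1) := by rw [← pow_succ']; congr 1; omega
  rcases hcases with ⟨h2, hc⟩ | ⟨h2, hc⟩ | ⟨-, h2, hc⟩ | ⟨-, h2, hc⟩
  · exact Or.inl ⟨2 ^ m, CfsgLib.TwoGroups.CyclicMax.dihedral_iso haord
      (by rw [hcardR, pow_succ']) hb (by rw [← pow_two]; exact h2) hc⟩
  · exact Or.inr (Or.inl ⟨2 ^ (m - 1), CfsgLib.TwoGroups.CyclicMax.quaternion_iso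
      (pow_ne_zero _ two_ne_zero) (by rw [haord, hsplit])
      (by rw [hcardR, pow_succ', hsplit]; ring) hb (by rw [← pow_two]; exact h2) hc⟩)
  · exfalso
    have hc' := congrArg Subtype.val hc
    simp only [Subgroup.coe_mul, InvMemClass.coe_inv, SubgroupClass.coe_pow] at hc'
    have hbD : (b : G) ∈ D := by
      refine hkey _ (fun _ => hm3') (hfixp _ ((1 + 2 ^ (m - 1) : ℕ) : ℤ) ?_ ⟨1, by push_cast; ring⟩)
      rw [zpow_natCast]; exact hc'
    obtain ⟨i, hi⟩ := hgen _ (hRD ⟨b.2, hbD⟩)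
    exact hb ⟨i, Subtype.ext (by simpa using hi)⟩
  · exact Or.inr (Or.inr ⟨m, hm3', hcardR, ⟨z, hZR hzZ⟩, b, haord,
      orderOf_eq_prime h2 (fun h => hb (h ▸ one_mem _)), hc⟩)

end Cfsg.Agent.S3762
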