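import Cfsg.Statements.S3763
import Cfsg.Agent.Lib.Fusion.SymplecticBasis
-- import your own Cfsg.Agent.* helpers here

set_option autoImplicit false
open Cfsg

namespace Cfsg.Agent.S3763

open CfsgLib.Fusion.SymplecticBasis
open scoped commutatorElement

section Helpers

variable {E : Type*} [Group E] [Finite E] {z : E}

theorem zz (hz : IsCentralBase 2 z) : z ^ 2 = 1 := by rw [← hz.zord, pow_orderOf_eq_one]

theorem z_cases (hz : IsCentralBase 2 z) {c : E} (hc : c ∈ Subgroup.zpowers z) : c = 1 ∨ c = z := by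
  obtain ⟨k, rfl⟩ := hc
  show z ^ k = 1 ∨ z ^ k = z
  rw [← zpow_mod_orderOf, hz.zord]
  rcases Int.emod_two_eq_zero_or_one k with h | h
  · exact Or.inl (by rw [show k % ((2 : ℕ) : ℤ) = 0 from h, zpow_zero])
  · exact Or.inr (by rw [show k % ((2 : ℕ) : ℤ) = 1 from h, zpow_one])

theorem z_ne (hz : IsCentralBase 2 z) : z ≠ 1 := fun h => by
  have := hz.zord; rw [h, orderOf_one] at this; omega

theorem isPGroup_two (hz : IsCentralBase 2 z) : IsPGroup 2 E := fun g => ⟨2, by
  rcases z_cases hz (hz.pow g) with h | h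
  · rw [show (2 : ℕ) ^ 2 = 2 * 2 by norm_num, pow_mul, h, one_pow]
  · rw [show (2 : ℕ) ^ 2 = 2 * 2 by norm_num, pow_mul, h, zz hz]⟩

theorem two_mul_card_le (hz : IsCentralBase 2 z) {A B : Subgroup E} (hAB : A < B) :
    2 * Nat.card A ≤ Nat.card B := by
  haveI : Fact (Nat.Prime 2) := ⟨Nat.prime_two⟩
  obtain ⟨i, hi⟩ := ((isPGroup_two hz).to_subgroup A).exists_card_eq
  obtain ⟨j, hj⟩ := ((isPGroup_two hz).to_subgroup B).exists_card_eq
  have hlt : Nat.card A < Nat.card B := lt_of_le_of_ne (Subgroup.card_le_of_le hAB.le)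
    fun e => hAB.ne (Subgroup.eq_of_le_of_card_ge hAB.le e.ge)
  rw [hi, hj] at hlt ⊢
  rw [← pow_succ']
  exact Nat.pow_le_pow_right two_pos (Nat.succ_le_of_lt ((Nat.pow_lt_pow_iff_right one_lt_two).1 hlt))

theorem card_le_two_mul (hz : IsCentralBase 2 z) (A : Subgroup E) (g : E) :
    Nat.card A ≤ 2 * Nat.card ↥(A ⊓ Subgroup.centralizer {g}) := by
  set f := (commHom hz g).comp A.subtype with hf
  have h1 : f.range.index * Nat.card f.range = Nat.card (Subgroup.zpowers z) :=
    f.range.index_mul_card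
  have h2 : Nat.card f.range ≤ 2 := by
    have := Subgroup.card_le_card_group f.range
    rwa [Nat.card_zpowers, hz.zord] at this
  have h3 : f.ker.map A.subtype ≤ A ⊓ Subgroup.centralizer {g} := by
    rintro _ ⟨a, ha, rfl⟩
    refine ⟨a.2, Subgroup.mem_centralizer_singleton_iff.2 ?_⟩
    exact commutatorElement_eq_one_iff_mul_comm.1 (congrArg Subtype.val (MonoidHom.mem_ker.1 ha))
  have h4 := f.ker.card_mul_index
  rw [Subgroup.index_ker] at h4
  rw [← h4, mul_comm]
  refine Nat.mul_le_mul h2 ?_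
  have := Subgroup.card_le_of_le h3
  rwa [Subgroup.card_map_of_injective A.subtype_injective] at this

theorem sup_inv_of_commute {A : Subgroup E} (hA : IsMulCommutative A) (hA2 : ∀ a ∈ A, a ^ 2 = 1)
    {u : E} (hu : u ^ 2 = 1) (hc : ∀ a ∈ A, a * u = u * a) :
    IsMulCommutative ↥(A ⊔ Subgroup.zpowers u) ∧ ∀ a ∈ A ⊔ Subgroup.zpowers u, a ^ 2 = 1 := by
  set s : Set E := (A : Set E) ∪ {u} with hs
  have e : A ⊔ Subgroup.zpowers u = Subgroup.closure s := by
    rw [hs, Subgroup.closure_union, Subgroup.closure_eq, ← Subgroup.zpowers_eq_closure]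
  have hcomm : ∀ a ∈ s, ∀ b ∈ s, a * b = b * a := by
    rintro a (ha | rfl) b (hb | hb)
    · exact hA.is_comm.comm ⟨a, ha⟩ ⟨b, hb⟩ |> congrArg Subtype.val
    · rw [Set.mem_singleton_iff] at hb; rw [hb]; exact hc a ha
    · exact (hc b hb).symm
    · rw [Set.mem_singleton_iff] at hb; rw [hb]
  have hI := Subgroup.isMulCommutative_closure hcomm
  rw [e]
  refine ⟨hI, fun a ha => ?_⟩
  induction ha using Subgroup.closure_induction with
  | mem a ha =>
    rcases ha with ha | rfl
    · exact hA2 a ha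
    · exact hu
  | one => simp
  | mul a b hma hmb iha ihb =>
    rw [(show Commute a b from congrArg Subtype.val (hI.is_comm.comm ⟨a, hma⟩ ⟨b, hmb⟩)).mul_pow,
      iha, ihb, one_mul]
  | inv a _ iha => rw [inv_pow, iha, inv_one]

/-- The isotropic bound. -/
theorem abelian_bound (hz : IsCentralBase 2 z)
    (hnd : ∀ g : E, (∀ h : E, g * h = h * g) → g ∈ Subgroup.zpowers z) (A : Subgroup E)
    (hA : IsMulCommutative A) : Nat.card A * Nat.card A ≤ 2 * Nat.card E := by
  have key : ∀ (T : Subgroup E),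
      Nat.card ↥(A ⊓ Subgroup.centralizer (T : Set E)) ≤ T.index * 2 := by
    intro T
    induction T using WellFoundedGT.induction with
    | ind T ih =>
      by_cases hT : T = ⊤
      · subst hT
        have : A ⊓ Subgroup.centralizer ((⊤ : Subgroup E) : Set E) ≤ Subgroup.zpowers z :=
          fun g hg => hnd g fun h => (Subgroup.mem_centralizer_iff.1 hg.2 h trivial).symm
        have := Subgroup.card_le_of_le this
        rw [Nat.card_zpowers, hz.zord] at this
        simpa using this
      · obtain ⟨g, -, hg⟩ := SetLike.exists_of_lt (lt_top_iff_ne_top.2 hT)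
        have hlt : T < T ⊔ Subgroup.zpowers g :=
          lt_of_le_of_ne le_sup_left fun e => hg (e ▸ Subgroup.mem_sup_right (Subgroup.mem_zpowers g))
        have h1 := card_le_two_mul hz (A ⊓ Subgroup.centralizer (T : Set E)) g
        have h2 : A ⊓ Subgroup.centralizer (T : Set E) ⊓ Subgroup.centralizer {g} ≤
            A ⊓ Subgroup.centralizer ((T ⊔ Subgroup.zpowers g : Subgroup E) : Set E) := by
          intro w hw
          refine ⟨hw.1.1, ?_⟩
          have hwT : T ⊔ Subgroup.zpowers g ≤ Subgroup.centralizer {w} := by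
            refine sup_le (fun t ht => Subgroup.mem_centralizer_singleton_iff.2
              (Subgroup.mem_centralizer_iff.1 hw.1.2 t ht)) (Subgroup.zpowers_le.2 ?_)
            exact Subgroup.mem_centralizer_singleton_iff.2
              (Subgroup.mem_centralizer_singleton_iff.1 hw.2).symm
          exact Subgroup.mem_centralizer_iff.2 fun t ht =>
            Subgroup.mem_centralizer_singleton_iff.1 (hwT ht)
        have h3 := (Subgroup.card_le_of_le h2).trans (ih _ hlt)
        have h4 : 2 * (T ⊔ Subgroup.zpowers g).index ≤ T.index := by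
          have e1 := T.index_mul_card
          have e2 := (T ⊔ Subgroup.zpowers g).index_mul_card
          have e3 := two_mul_card_le hz hlt
          refine Nat.le_of_mul_le_mul_right (c := Nat.card T) ?_ Nat.card_pos
          calc 2 * (T ⊔ Subgroup.zpowers g).index * Nat.card T
              = (T ⊔ Subgroup.zpowers g).index * (2 * Nat.card T) := by ring
            _ ≤ (T ⊔ Subgroup.zpowers g).index * Nat.card ↥(T ⊔ Subgroup.zpowers g) :=
              Nat.mul_le_mul_left _ e3
            _ = _ := by rw [e1, e2]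
        omega
  have h := key A
  rw [inf_eq_left.2 (Subgroup.le_centralizer_iff_isMulCommutative.2 hA)] at h
  calc Nat.card A * Nat.card A ≤ A.index * 2 * Nat.card A := Nat.mul_le_mul_right _ h
    _ = 2 * (A.index * Nat.card A) := by ring
    _ = _ := by rw [A.index_mul_card]

/-- The rank data of a group with a symplectic basis. -/
theorem rank_of_basis (hz : IsCentralBase 2 z)
    (hnd : ∀ g : E, (∀ h : E, g * h = h * g) → g ∈ Subgroup.zpowers z) {n : ℕ} {t : Bool}
    (hb : HasBasis 2 z ⊤ n (flag t n)) :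
    ((t = false ∨ n = 0) → Cfsg.PRankLE 2 (n + 1) E ∧ ¬ Cfsg.PRankLE 2 n E) ∧
      ((t = true ∧ n ≠ 0) → Cfsg.PRankLE 2 n E ∧ ¬ Cfsg.PRankLE 2 (n - 1) E) := by
  obtain ⟨x, y, -, hcard, -, -, hxy, hxx, hyy, hxp, hyp⟩ := hb
  rw [Subgroup.card_top] at hcard
  have hxc : ∀ i j, Commute (x i) (x j) := fun i j =>
    commutatorElement_eq_one_iff_mul_comm.1 (hxx i j)
  have hxyc : ∀ i j, i ≠ j → Commute (x i) (y j) := fun i j h =>
    commutatorElement_eq_one_iff_mul_comm.1 (by rw [hxy, if_neg h])
  have hnc : ∀ i, ¬ Commute (x i) (y i) := fun i h => z_ne hz (by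
    have := hxy i i
    rw [if_pos rfl, commutatorElement_eq_one_iff_commute.2 h] at this
    exact this.symm)
  have hzc : ∀ g, Commute g z := hz.zc
  set A₀ : ℕ → Subgroup E := fun m => Subgroup.closure ({u | ∃ i : Fin n, (i : ℕ) < m ∧ x i = u} ∪ {z})
    with hA₀
  have hxA : ∀ (m : ℕ) (i : Fin n), (i : ℕ) < m → x i ∈ A₀ m := fun m i h =>
    Subgroup.subset_closure (Or.inl ⟨i, h, rfl⟩)
  have hcentA : ∀ (m : ℕ) (g : E), (∀ i : Fin n, (i : ℕ) < m → Commute (x i) g) →
      ∀ a ∈ A₀ m, Commute a g := by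
    intro m g hg a ha
    have : A₀ m ≤ Subgroup.centralizer {g} := by
      rw [hA₀, Subgroup.closure_le]
      rintro u (⟨i, hi, rfl⟩ | rfl)
      · exact Subgroup.mem_centralizer_singleton_iff.2 (hg i hi)
      · exact Subgroup.mem_centralizer_singleton_iff.2 (hzc g).symm.eq
    exact Subgroup.mem_centralizer_singleton_iff.1 (this ha)
  have hAab : ∀ m, IsMulCommutative (A₀ m) := fun m => Subgroup.isMulCommutative_closure (by
    rintro a (⟨i, -, rfl⟩ | rfl) b (⟨j, -, rfl⟩ | hb)
    · exact (hxc i j).eq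
    · rw [Set.mem_singleton_iff.1 hb]; exact (hzc _).eq
    · exact (hzc _).symm.eq
    · rw [Set.mem_singleton_iff.1 hb])
  have hA2 : ∀ m, (∀ i : Fin n, (i : ℕ) < m → x i ^ 2 = 1) → ∀ a ∈ A₀ m, a ^ 2 = 1 := by
    intro m hm a ha
    induction ha using Subgroup.closure_induction with
    | mem a ha =>
      rcases ha with ⟨i, hi, rfl⟩ | rfl
      · exact hm i hi
      · exact zz hz
    | one => simp
    | mul a b hma hmb iha ihb =>
      rw [(show Commute a b from congrArg Subtype.val ((hAab m).is_comm.comm ⟨a, hma⟩ ⟨b, hmb⟩)).mul_pow,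
        iha, ihb, one_mul]
    | inv a _ iha => rw [inv_pow, iha, inv_one]
  have hAcard : ∀ m ≤ n, 2 ^ (m + 1) ≤ Nat.card (A₀ m) := by
    intro m hm
    induction m with
    | zero =>
      have : Subgroup.zpowers z ≤ A₀ 0 :=
        Subgroup.zpowers_le.2 (Subgroup.subset_closure (Or.inr rfl))
      have := Subgroup.card_le_of_le this
      rwa [Nat.card_zpowers, hz.zord] at this
    | succ m ih =>
      have hlt : A₀ m < A₀ (m + 1) := by
        refine lt_of_le_of_ne (Subgroup.closure_mono ?_) fun e => ?_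
        · rintro u (⟨i, hi, rfl⟩ | rfl)
          · exact Or.inl ⟨i, by omega, rfl⟩
          · exact Or.inr rfl
        · refine hnc ⟨m, hm⟩ (hcentA m _ (fun i hi => hxyc i _ ?_) _ ?_)
          · intro h; rw [h] at hi; simp at hi
          · rw [e]; exact hxA (m + 1) ⟨m, hm⟩ (by simp)
      calc 2 ^ (m + 1 + 1) = 2 * 2 ^ (m + 1) := by rw [pow_succ']
        _ ≤ 2 * Nat.card (A₀ m) := Nat.mul_le_mul_left _ (ih (by omega))
        _ ≤ _ := two_mul_card_le hz hlt
  have hlower : ∀ m ≤ n, (∀ i : Fin n, (i : ℕ) < m → x i ^ 2 = 1) → ¬ Cfsg.PRankLE 2 m E := by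
    intro m hm hsq h
    have h1 := (hAcard m hm).trans (h _ (hAab m) (hA2 m hsq))
    have := (Nat.pow_le_pow_iff_right one_lt_two).1 h1
    omega
  have hle : Cfsg.PRankLE 2 (n + 1) E := by
    intro A hA _
    have h := abelian_bound hz hnd A hA
    rw [hcard, ← pow_succ'] at h
    refine Nat.mul_self_le_mul_self_iff.1 (h.trans_eq ?_)
    rw [← pow_add]; congr 1; ring
  refine ⟨fun ht => ⟨hle, hlower n le_rfl fun i _ => ?_⟩, fun ⟨ht, hn⟩ => ?_⟩
  · rw [hxp]
    rcases ht with rfl | h
    · simp [flag]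
    · exact absurd i.2 (by omega)
  subst ht
  obtain ⟨k, rfl⟩ : ∃ k, n = k + 1 := ⟨n - 1, by omega⟩
  set l : Fin (k + 1) := Fin.last k with hl
  have hflag : ∀ i : Fin (k + 1), (i : ℕ) < k → x i ^ 2 = 1 := fun i hi => by
    rw [hxp]; simp [flag, hi.ne]
  have hxl : x l ^ 2 = z := by rw [hxp]; simp [flag, hl]
  have hyl : y l ^ 2 = z := by rw [hyp]; simp [flag, hl]
  have hzxy : y l * x l = z * (x l * y l) := by
    have h : ⁅x l, y l⁆ = z := by rw [hxy, if_pos rfl]
    have hi : z⁻¹ = z := inv_eq_of_mul_eq_one_right (by rw [← sq]; exact zz hz)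
    rw [← hi, ← h, commutatorElement_def]; group
  have hxyl : (x l * y l) ^ 2 = z := by
    calc (x l * y l) ^ 2 = x l * (y l * x l) * y l := by rw [sq]; group
      _ = x l * (z * (x l * y l)) * y l := by rw [hzxy]
      _ = z * (x l ^ 2 * y l ^ 2) := by
        rw [← mul_assoc (x l) z, hz.zc (x l), sq, sq]; group
      _ = z := by rw [hxl, hyl, ← sq z, zz hz, mul_one]
  have hlt : ∀ i : Fin (k + 1), (i : ℕ) < k → i ≠ l := fun i hi h => by
    rw [h, hl] at hi; simp at hi
  -- the chain of centralisers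
  set Cn : ℕ → Subgroup E := fun m => Subgroup.centralizer {u | ∃ i : Fin (k + 1), (i : ℕ) < m ∧ x i = u}
    with hCn
  have hCcard : ∀ m ≤ k + 1, 2 ^ m * Nat.card (Cn m) ≤ Nat.card E := by
    intro m hm
    induction m with
    | zero => simpa using Subgroup.card_le_card_group (Cn 0)
    | succ m ih =>
      have hlt' : Cn (m + 1) < Cn m := by
        refine lt_of_le_of_ne (Subgroup.centralizer_le ?_) fun e => ?_
        · rintro u ⟨i, hi, rfl⟩; exact ⟨i, by omega, rfl⟩
        · have hy1 : y ⟨m, hm⟩ ∈ Cn m := Subgroup.mem_centralizer_iff.2 (by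
            rintro u ⟨i, hi, rfl⟩
            exact (hxyc i _ (by intro h; rw [h] at hi; simp at hi)).eq)
          rw [← e] at hy1
          exact hnc ⟨m, hm⟩ (Subgroup.mem_centralizer_iff.1 hy1 _ ⟨⟨m, hm⟩, by simp, rfl⟩)
      calc 2 ^ (m + 1) * Nat.card (Cn (m + 1)) = 2 ^ m * (2 * Nat.card (Cn (m + 1))) := by
            rw [pow_succ, mul_assoc]
        _ ≤ 2 ^ m * Nat.card (Cn m) := Nat.mul_le_mul_left _ (two_mul_card_le hz hlt')
        _ ≤ _ := ih (by omega)
  set D := Cn (k + 1) ⊓ Subgroup.centralizer {y l} with hD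
  have hDA : D = A₀ k := by
    have hle' : A₀ k ≤ D := by
      intro a ha
      refine ⟨Subgroup.mem_centralizer_iff.2 ?_, Subgroup.mem_centralizer_singleton_iff.2 ?_⟩
      · rintro u ⟨i, -, rfl⟩
        exact (hcentA k (x i) (fun j _ => hxc j i) a ha).symm.eq
      · exact hcentA k (y l) (fun j hj => hxyc j l (hlt j hj)) a ha
    refine (Subgroup.eq_of_le_of_card_ge hle' ?_).symm
    refine le_trans ?_ (hAcard k (by omega))
    have hlt' : D < Cn (k + 1) := lt_of_le_of_ne inf_le_left fun e => hnc l (by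
      have hx : x l ∈ Cn (k + 1) := Subgroup.mem_centralizer_iff.2 (by
        rintro u ⟨i, -, rfl⟩; exact (hxc i l).eq)
      rw [← e] at hx
      exact Subgroup.mem_centralizer_singleton_iff.1 hx.2)
    have h1 := two_mul_card_le hz hlt'
    have h2 := hCcard (k + 1) le_rfl
    have h3 : 2 ^ (k + 1) * (2 * Nat.card D) ≤ 2 ^ (k + 1) * (2 * 2 ^ (k + 1)) := by
      calc _ ≤ 2 ^ (k + 1) * Nat.card (Cn (k + 1)) := Nat.mul_le_mul_left _ h1
        _ ≤ Nat.card E := h2
        _ = _ := by rw [hcard, ← pow_succ', ← pow_add]; congr 1; ring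
    have := Nat.le_of_mul_le_mul_left h3 (by positivity)
    omega
  refine ⟨?_, ?_⟩
  · intro A hA hAe
    by_contra hbig
    push Not at hbig
    have hmax : 2 ^ (k + 1 + 1) ≤ Nat.card A := by
      haveI : Fact (Nat.Prime 2) := ⟨Nat.prime_two⟩
      obtain ⟨e, he⟩ := ((isPGroup_two hz).to_subgroup A).exists_card_eq
      rw [he] at hbig ⊢
      exact Nat.pow_le_pow_right two_pos (Nat.succ_le_of_lt ((Nat.pow_lt_pow_iff_right one_lt_two).1 hbig))
    -- move the first `k` generators into `A`
    have hmove : ∀ m ≤ k, ∃ B : Subgroup E, IsMulCommutative B ∧ (∀ b ∈ B, b ^ 2 = 1) ∧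
        2 ^ (k + 1 + 1) ≤ Nat.card B ∧ z ∈ B ∧ ∀ i : Fin (k + 1), (i : ℕ) < m → x i ∈ B := by
      intro m hm
      induction m with
      | zero =>
        obtain ⟨hc, h2⟩ := sup_inv_of_commute hA hAe (zz hz) fun a _ => (hzc a).eq
        exact ⟨_, hc, h2, hmax.trans (Subgroup.card_le_of_le le_sup_left),
          Subgroup.mem_sup_right (Subgroup.mem_zpowers z), fun i hi => absurd hi (by omega)⟩
      | succ m ih =>
        obtain ⟨B, hB, hB2, hBc, hzB, hxB⟩ := ih (by omega)
        set u := x ⟨m, by omega⟩ with hu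
        have hu2 : u ^ 2 = 1 := hflag _ (by simpa using hm)
        haveI := hB
        set B₁ := B ⊓ Subgroup.centralizer {u} with hB₁
        obtain ⟨hc, h2⟩ := sup_inv_of_commute (A := B₁)
          (Subgroup.le_centralizer_iff_isMulCommutative.1
            (inf_le_left.trans ((Subgroup.le_centralizer_iff_isMulCommutative.2 hB).trans
              (Subgroup.centralizer_le inf_le_left))))
          (fun a ha => hB2 a ha.1) hu2
          (fun a ha => Subgroup.mem_centralizer_singleton_iff.1 ha.2)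
        refine ⟨_, hc, h2, ?_, Subgroup.mem_sup_left ⟨hzB,
          Subgroup.mem_centralizer_singleton_iff.2 (hzc u).symm.eq⟩, fun i hi => ?_⟩
        · by_cases huB : u ∈ B
          · refine hBc.trans (Subgroup.card_le_of_le fun b hb => Subgroup.mem_sup_left ⟨hb,
              Subgroup.mem_centralizer_singleton_iff.2 (congrArg Subtype.val
                (hB.is_comm.comm ⟨b, hb⟩ ⟨u, huB⟩))⟩)
          · refine hBc.trans ((card_le_two_mul hz B u).trans (two_mul_card_le hz ?_))
            refine lt_of_le_of_ne le_sup_left fun e => huB ?_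
            exact (e.symm.le (Subgroup.mem_sup_right (Subgroup.mem_zpowers u))).1
        · rcases Nat.lt_or_ge (i : ℕ) m with h | h
          · exact Subgroup.mem_sup_left ⟨hxB i h,
              Subgroup.mem_centralizer_singleton_iff.2 (hxc i _).eq⟩
          · have : i = ⟨m, by omega⟩ := Fin.ext (by simp; omega)
            rw [this]
            exact Subgroup.mem_sup_right (Subgroup.mem_zpowers u)
    obtain ⟨B, hB, hB2, hBc, hzB, hxB⟩ := hmove k le_rfl
    have hBA : B ≤ A₀ k := by
      intro w hw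
      have hwx : ∀ i : Fin (k + 1), (i : ℕ) < k → Commute (x i) w := fun i hi =>
        congrArg Subtype.val (hB.is_comm.comm ⟨x i, hxB i hi⟩ ⟨w, hw⟩)
      have hw2 := hB2 w hw
      have hmemD : ∀ v : E, (∀ i : Fin (k + 1), (i : ℕ) < k → Commute (x i) v) → ⁅v, x l⁆ = 1 →
          ⁅v, y l⁆ = 1 → v ∈ A₀ k := by
        intro v hv hvx hvy
        rw [← hDA]
        refine ⟨Subgroup.mem_centralizer_iff.2 ?_, Subgroup.mem_centralizer_singleton_iff.2
          (commutatorElement_eq_one_iff_mul_comm.1 hvy)⟩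
        rintro u ⟨i, -, rfl⟩
        rcases Nat.lt_or_ge (i : ℕ) k with h | h
        · exact (hv i h).eq
        · have : i = l := Fin.ext (by have := i.2; simp [hl]; omega)
          rw [this]
          exact (commutatorElement_eq_one_iff_mul_comm.1 hvx).symm
      have hA₀2 := hA2 k hflag
      have hzi : z⁻¹ = z := inv_eq_of_mul_eq_one_right (by rw [← sq]; exact zz hz)
      have hcx : ⁅x l, y l⁆ = z := by rw [hxy, if_pos rfl]
      have hcy : ⁅y l, x l⁆ = z := by rw [← commutatorElement_inv, hcx, hzi]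
      -- `w * u` centralises everything for a suitable `u`
      have hfix : ∀ u : E, (∀ i : Fin (k + 1), (i : ℕ) < k → Commute (x i) u) → u ^ 2 = z →
          ⁅w, x l⁆ * ⁅u, x l⁆ = 1 → ⁅w, y l⁆ * ⁅u, y l⁆ = 1 → False := by
        intro u hu hu2 hux huy
        have hm : w * u ∈ A₀ k := hmemD _ (fun i hi => (hwx i hi).mul_right (hu i hi))
          (by rw [comm_mul_left hz, hux]) (by rw [comm_mul_left hz, huy])
        have hcu : Commute (w * u) u := hcentA k u hu _ hm
        have hwu : Commute w u := by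
          have := hcu.mul_left (Commute.refl u).inv_left
          rwa [mul_inv_cancel_right] at this
        have h1 := hA₀2 _ hm
        rw [hwu.mul_pow, hw2, hu2, one_mul] at h1
        exact z_ne hz h1
      rcases z_cases hz (hz.comm w (x l)) with ha | ha <;>
        rcases z_cases hz (hz.comm w (y l)) with hb | hb
      · exact hmemD w hwx ha hb
      · exfalso
        refine hfix (x l) (fun i _ => hxc i l) hxl ?_ ?_
        · rw [ha, commutatorElement_self, one_mul]
        · rw [hb, hcx, ← sq, zz hz]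
      · exfalso
        refine hfix (y l) (fun i hi => hxyc i l (hlt i hi)) hyl ?_ ?_
        · rw [ha, hcy, ← sq, zz hz]
        · rw [hb, commutatorElement_self, one_mul]
      · exfalso
        refine hfix (x l * y l) (fun i hi => (hxc i l).mul_right (hxyc i l (hlt i hi))) hxyl ?_ ?_
        · rw [comm_mul_left hz, commutatorElement_self, one_mul, ha, hcy, ← sq, zz hz]
        · rw [comm_mul_left hz, commutatorElement_self, mul_one, hb, hcx, ← sq, zz hz]
    have h1 := hBc.trans (Subgroup.card_le_of_le hBA)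
    have h2 := abelian_bound hz hnd (A₀ k) (hAab k)
    have h3 : Nat.card (A₀ k) ≤ 2 ^ (k + 1) := by
      have hlt' : D < Cn (k + 1) := lt_of_le_of_ne inf_le_left fun e => hnc l (by
        have hx : x l ∈ Cn (k + 1) := Subgroup.mem_centralizer_iff.2 (by
          rintro u ⟨i, -, rfl⟩; exact (hxc i l).eq)
        rw [← e] at hx
        exact Subgroup.mem_centralizer_singleton_iff.1 hx.2)
      have h4 := two_mul_card_le hz hlt'
      have h5 := hCcard (k + 1) le_rfl
      rw [← hDA]
      have h6 : 2 ^ (k + 1) * (2 * Nat.card D) ≤ 2 ^ (k + 1) * (2 * 2 ^ (k + 1)) := by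
        calc _ ≤ 2 ^ (k + 1) * Nat.card (Cn (k + 1)) := Nat.mul_le_mul_left _ h4
          _ ≤ Nat.card E := h5
          _ = _ := by rw [hcard, ← pow_succ', ← pow_add]; congr 1; ring
      have := Nat.le_of_mul_le_mul_left h6 (by positivity)
      omega
    have := (Nat.pow_le_pow_iff_right one_lt_two).1 (h1.trans h3)
    omega
  · rw [Nat.add_sub_cancel]
    exact hlower k (by omega) hflag

theorem exists_data (hE : Cfsg.IsExtraspecial 2 E) : ∃ (z : E) (n : ℕ) (t : Bool),
    IsCentralBase 2 z ∧ (∀ g : E, (∀ h : E, g * h = h * g) → g ∈ Subgroup.zpowers z) ∧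
      HasBasis 2 z ⊤ n (flag t n) ∧ Nat.card E = 2 ^ (2 * n + 1) ∧ (n = 0 → t = false) := by
  haveI : Fact (Nat.Prime 2) := ⟨Nat.prime_two⟩
  obtain ⟨z, hz, hnd⟩ := of_extraspecial hE
  obtain ⟨n, t, hb⟩ := exists_basis_two hz ⊤ (Subgroup.mem_top _)
    (fun g _ h => hnd g fun k => h k (Subgroup.mem_top k))
  obtain ⟨_, _, -, c, -⟩ := id hb
  rw [Subgroup.card_top] at c
  by_cases hn : n = 0
  · subst hn
    have : flag t 0 = flag false 0 := funext fun i => i.elim0
    exact ⟨z, 0, false, hz, hnd, this ▸ hb, c, fun _ => rfl⟩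
  · exact ⟨z, n, t, hz, hnd, hb, c, fun h => absurd h hn⟩

end Helpers

/-- Let E be an extraspecial 2-group of order 2^(2n+1). Then the largest elementary abelian subgroups of E have order 2^n or 2^(n+1); and two extraspecial 2-groups of the same order whose largest elementary abelian subgroups have the same order are isomorphic. -/
theorem result {E : Type*} [Group E] [Finite E] (hE : Cfsg.IsExtraspecial 2 E) (n : ℕ) (hn : Nat.card E = 2 ^ (2 * n + 1)) : ((Cfsg.PRankLE 2 n E ∧ ¬ Cfsg.PRankLE 2 (n - 1) E) ∨ (Cfsg.PRankLE 2 (n + 1) E ∧ ¬ Cfsg.PRankLE 2 n E)) ∧ ∀ (E' : Type*) [Group E'] [Finite E'], Cfsg.IsExtraspecial 2 E' → Nat.card E' = Nat.card E → (∀ k : ℕ, Cfsg.PRankLE 2 k E ↔ Cfsg.PRankLE 2 k E') → Nonempty (E ≃* E') := by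
  haveI : Fact (Nat.Prime 2) := ⟨Nat.prime_two⟩
  obtain ⟨z, m, t, hz, hnd, hb, hc, ht0⟩ := exists_data hE
  have hmn : m = n := by
    have := Nat.pow_right_injective le_rfl (hc.symm.trans hn)
    omega
  subst hmn
  have hr := rank_of_basis hz hnd hb
  refine ⟨?_, fun E' _ _ hE' hcard hrank => ?_⟩
  · cases t
    · exact Or.inr (hr.1 (Or.inl rfl))
    · exact Or.inl (hr.2 ⟨rfl, fun h => by simpa using ht0 h⟩)
  obtain ⟨w, m', t', hw, hnd', hb', hc', ht0'⟩ := exists_data hE'
  have hmm : m' = m := by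
    have := Nat.pow_right_injective le_rfl (hc'.symm.trans (hcard.trans hc))
    omega
  subst hmm
  have hr' := rank_of_basis hw hnd' hb'
  have htt : t = t' := by
    cases t <;> cases t'
    · rfl
    · exfalso
      exact (hr.1 (Or.inl rfl)).2 ((hrank _).2 (hr'.2 ⟨rfl, fun h => by simpa using ht0' h⟩).1)
    · exfalso
      exact (hr'.1 (Or.inl rfl)).2 ((hrank _).1 (hr.2 ⟨rfl, fun h => by simpa using ht0 h⟩).1)
    · rfl
  subst htt
  exact nonempty_mulEquiv hz hw hb hb'

end Cfsg.Agent.S3763
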