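import Cfsg.Statements.S3766
import Cfsg.Agent.Lib.Components.GenFitting
import Cfsg.Agent.Lib.Solvable.Cores
-- import your own Cfsg.Agent.* helpers here

set_option autoImplicit false
open Cfsg

namespace Cfsg.Agent.S3766

open scoped commutatorElement

variable {G : Type*} [Group G]

/-- `U / V` is a chief factor of `G`. -/
def IsChiefPair (U V : Subgroup G) : Prop :=
  U.Normal ∧ V.Normal ∧ V < U ∧ ∀ W : Subgroup G, W.Normal → V ≤ W → W ≤ U → W = V ∨ W = U

theorem fitting_centralizes [Finite G] {U V : Subgroup G} (h : IsChiefPair U V) :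
    ⁅U, Cfsg.fittingSubgroup G⁆ ≤ V := by
  obtain ⟨hU, hV, hlt, hmax⟩ := h
  set F := Cfsg.fittingSubgroup G with hF
  by_contra hne
  have he : V ⊔ ⁅U, F⁆ = U :=
    (hmax (V ⊔ ⁅U, F⁆) inferInstance le_sup_left
      (sup_le hlt.le (Subgroup.commutator_le_left _ _))).resolve_left
      fun h => hne (h ▸ le_sup_right)
  have hFn : Group.IsNilpotent ↥F := CfsgLib.Solvable.Cores.fittingSubgroup_isNilpotent
  obtain ⟨c, hc⟩ := (Subgroup.isNilpotent_iff_lowerCentralSeries _).1 hFn
  have hstep : ∀ j, U ≤ V ⊔ F.lowerCentralSeries j := by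
    intro j
    induction j with
    | zero =>
      rw [Subgroup.lowerCentralSeries_zero]
      exact he.ge.trans (sup_le_sup_left (Subgroup.commutator_le_right _ _) _)
    | succ j ih =>
      refine he.ge.trans (sup_le le_sup_left ?_)
      have key : ∀ S : Subgroup G, S.map (QuotientGroup.mk' V) ≤
          (F.lowerCentralSeries (j + 1)).map (QuotientGroup.mk' V) →
          S ≤ V ⊔ F.lowerCentralSeries (j + 1) := by
        intro S hS
        rw [Subgroup.map_le_map_iff, QuotientGroup.ker_mk'] at hS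
        exact hS.trans (le_of_eq (sup_comm _ _))
      refine (Subgroup.commutator_mono ih le_rfl).trans (key _ ?_)
      rw [Subgroup.map_commutator, Subgroup.map_sup, Subgroup.lowerCentralSeries_succ,
        Subgroup.map_commutator,
        (Subgroup.map_eq_bot_iff V).2 (le_of_eq (QuotientGroup.ker_mk' V).symm), bot_sup_eq]
  have := hstep c
  rw [hc, sup_bot_eq] at this
  exact hlt.not_ge this

/-- Elements acting trivially on every chief factor below `Z`. -/
def actTrivial (Z : Subgroup G) : Subgroup G :=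
  ⨅ (U : Subgroup G) (V : Subgroup G) (h : IsChiefPair U V) (_ : U ≤ Z),
    haveI := h.2.1
    (Subgroup.centralizer (U.map (QuotientGroup.mk' V) : Set (G ⧸ V))).comap (QuotientGroup.mk' V)

theorem mem_actTrivial {Z : Subgroup G} {g : G} :
    g ∈ actTrivial Z ↔ ∀ U V : Subgroup G, IsChiefPair U V → U ≤ Z → ∀ u ∈ U, ⁅u, g⁆ ∈ V := by
  simp only [actTrivial, Subgroup.mem_iInf]
  refine forall_congr' fun U => forall_congr' fun V => forall_congr' fun h => forall_congr' fun _ => ?_
  haveI := h.2.1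
  rw [Subgroup.mem_comap, Subgroup.mem_centralizer_iff]
  constructor
  · intro hc u hu
    rw [← QuotientGroup.eq_one_iff]
    show QuotientGroup.mk' V ⁅u, g⁆ = 1
    rw [map_commutatorElement, commutatorElement_eq_one_iff_mul_comm]
    exact hc _ (Subgroup.mem_map_of_mem _ hu)
  · rintro hc _ ⟨u, hu, rfl⟩
    have := (QuotientGroup.eq_one_iff (N := V) ⁅u, g⁆).2 (hc u hu)
    change QuotientGroup.mk' V ⁅u, g⁆ = 1 at this
    rwa [map_commutatorElement, commutatorElement_eq_one_iff_mul_comm] at this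

theorem actTrivial_normal (Z : Subgroup G) : (actTrivial Z).Normal := by
  refine ⟨fun x hx g => ?_⟩
  rw [mem_actTrivial] at hx ⊢
  intro U V h hUZ u hu
  have := h.1; have := h.2.1
  have hu' : g⁻¹ * u * g ∈ U := by simpa using Subgroup.Normal.conj_mem ‹U.Normal› u hu g⁻¹
  have := Subgroup.Normal.conj_mem ‹V.Normal› _ (hx U V h hUZ _ hu') g
  simpa [commutatorElement_def, mul_assoc] using this

theorem exists_chief [Finite G] {W : Subgroup G} [W.Normal] (hW : W ≠ ⊥) :
    ∃ V, IsChiefPair W V := by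
  obtain ⟨V, -, ⟨hVn, hVW⟩, hmax⟩ := Finite.exists_le_maximal
    (p := fun V : Subgroup G => V.Normal ∧ V < W) (a := ⊥) ⟨inferInstance, bot_lt_iff_ne_bot.2 hW⟩
  refine ⟨V, ‹W.Normal›, hVn, hVW, fun X hX hVX hXW => ?_⟩
  rcases eq_or_lt_of_le hXW with e | e
  · exact Or.inr e
  · exact Or.inl (le_antisymm (hmax ⟨hX, e⟩ hVX) hVX)

theorem le_fitting [Finite G] (hG : Group.IsSolvable G) (N : Subgroup G) [N.Normal]
    {g : G} (hgN : g ∈ N) (hg : g ∈ actTrivial ((Cfsg.fittingSubgroup ↥N).map N.subtype)) :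
    g ∈ (Cfsg.fittingSubgroup ↥N).map N.subtype := by
  set Fn := (Cfsg.fittingSubgroup ↥N).map N.subtype with hFn
  have := actTrivial_normal Fn
  have hFnn : Fn.Normal := inferInstance
  set C := N ⊓ actTrivial Fn with hC
  suffices h : C ≤ Fn from h ⟨hgN, hg⟩
  by_contra hne
  set Z0 := Fn ⊓ C with hZ0
  obtain ⟨U, hUC, ⟨⟨hUn, hZU⟩, hUmin⟩⟩ := Finite.exists_le_minimal
    (p := fun U : Subgroup G => U.Normal ∧ Z0 < U) (a := C)
    ⟨inferInstance, lt_of_le_of_ne inf_le_right fun e => hne (e ▸ inf_le_left)⟩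
  have hder : ⁅U, U⁆ ≤ Z0 := by
    by_contra h
    have hlt : Z0 < Z0 ⊔ ⁅U, U⁆ :=
      lt_of_le_of_ne le_sup_left fun e => h (e ▸ le_sup_right)
    have hle : U ≤ Z0 ⊔ ⁅U, U⁆ :=
      hUmin ⟨inferInstance, hlt⟩ (sup_le hZU.le (Subgroup.commutator_le_left _ _))
    obtain ⟨n, hn⟩ := (isSolvable_def ↥U).1 inferInstance
    have hstep : ∀ j, U ≤ Z0 ⊔ (derivedSeries ↥U j).map U.subtype := by
      intro j
      induction j with
      | zero => simp [← MonoidHom.range_eq_map]
      | succ j ih =>
        refine hle.trans (sup_le le_sup_left ?_)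
        rw [derivedSeries_succ, Subgroup.map_commutator]
        refine (Subgroup.commutator_mono ih ih).trans ?_
        have key : ∀ S T : Subgroup G, S.map (QuotientGroup.mk' Z0) ≤ T.map (QuotientGroup.mk' Z0) →
            S ≤ Z0 ⊔ T := by
          intro S T hST
          rw [Subgroup.map_le_map_iff, QuotientGroup.ker_mk'] at hST
          exact hST.trans (le_of_eq (sup_comm _ _))
        refine key _ _ ?_
        rw [Subgroup.map_commutator, Subgroup.map_commutator, Subgroup.map_sup,
          (Subgroup.map_eq_bot_iff Z0).2 (le_of_eq (QuotientGroup.ker_mk' Z0).symm), bot_sup_eq]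
    have := hstep n
    rw [hn, Subgroup.map_bot, sup_bot_eq] at this
    exact hZU.not_ge this
  have hdec : ∀ W : Subgroup G, W.Normal → W ≤ Z0 → W ≠ ⊥ → ⁅W, U⁆ < W := by
    intro W hW hWZ hWne
    obtain ⟨V, hV⟩ := exists_chief hWne
    refine lt_of_le_of_lt (Subgroup.commutator_le.2 fun w hw u hu => ?_) hV.2.2.1
    exact mem_actTrivial.1 (hUC hu).2 W V hV (hWZ.trans inf_le_left) w hw
  have hUnil : Group.IsNilpotent ↥U := by
    have key : ∀ W : Subgroup G, ∀ j : ℕ, W.Normal → W ≤ Z0 → U.lowerCentralSeries j ≤ W →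
        ∃ n, U.lowerCentralSeries n = ⊥ := by
      intro W
      induction W using WellFoundedLT.induction with
      | ind W ih =>
        intro j hW hWZ hj
        by_cases hb : W = ⊥
        · exact ⟨j, le_bot_iff.1 (hb ▸ hj)⟩
        · exact ih _ (hdec W hW hWZ hb) (j + 1) inferInstance
            ((Subgroup.commutator_le_left _ _).trans hWZ)
            (by rw [Subgroup.lowerCentralSeries_succ]; exact Subgroup.commutator_mono hj le_rfl)
    obtain ⟨n, hn⟩ := key ⁅U, U⁆ 1 inferInstance hder (le_of_eq (by simp))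
    exact Subgroup.isNilpotent_of_lowerCentralSeries_eq_bot hn
  have hUF : U ≤ Fn := by
    rw [hFn, CfsgLib.Components.fittingSubgroup_map_subtype_eq (Subgroup.Normal.isSubnormal inferInstance)]
    exact le_inf (CfsgLib.Solvable.Cores.le_fittingSubgroup hUnil) (hUC.trans inf_le_left)
  exact hZU.not_ge (le_inf hUF hUC)

theorem centralizes_all [Finite G] (N : Subgroup G) [N.Normal] {g : G}
    (hg : g ∈ (Cfsg.fittingSubgroup ↥N).map N.subtype) :
    g ∈ N ∧ ∀ U V : Subgroup G, IsChiefPair U V → ∀ u ∈ U, ⁅u, g⁆ ∈ V := by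
  refine ⟨Subgroup.map_subtype_le _ hg, fun U V h u hu => ?_⟩
  rw [CfsgLib.Components.fittingSubgroup_map_subtype_eq (Subgroup.Normal.isSubnormal inferInstance)] at hg
  exact fitting_centralizes h (Subgroup.commutator_mem_commutator hu hg.1)

/-- Let G be a finite solvable group and N a normal subgroup of G. Call a pair V < U of normal subgroups of G a chief factor of G when no normal subgroup of G lies strictly between them; an element g centralizes the chief factor U/V when u g u⁻¹ g⁻¹ ∈ V for all u ∈ U. Then an element of G lies in the Fitting subgroup F(N) if and only if it lies in N and centralizes every chief factor of G; and also if and only if it lies in N and centralizes every chief factor U/V of G with U ≤ F(N). -/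
theorem result {G : Type*} [Group G] [Finite G] (hG : Group.IsSolvable G) (N : Subgroup G) [N.Normal] (g : G) : (g ∈ (Cfsg.fittingSubgroup ↥N).map N.subtype ↔ g ∈ N ∧ ∀ U V : Subgroup G, (U.Normal ∧ V.Normal ∧ V < U ∧ ∀ W : Subgroup G, W.Normal → V ≤ W → W ≤ U → W = V ∨ W = U) → ∀ u ∈ U, u * g * u⁻¹ * g⁻¹ ∈ V) ∧ (g ∈ (Cfsg.fittingSubgroup ↥N).map N.subtype ↔ g ∈ N ∧ ∀ U V : Subgroup G, (U.Normal ∧ V.Normal ∧ V < U ∧ ∀ W : Subgroup G, W.Normal → V ≤ W → W ≤ U → W = V ∨ W = U) → U ≤ (Cfsg.fittingSubgroup ↥N).map N.subtype → ∀ u ∈ U, u * g * u⁻¹ * g⁻¹ ∈ V) := by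
  refine ⟨⟨fun hg => centralizes_all N hg, fun h => le_fitting hG N h.1
      (mem_actTrivial.2 fun U V hUV _ => h.2 U V hUV)⟩,
    ⟨fun hg => ⟨(centralizes_all N hg).1, fun U V hUV _ => (centralizes_all N hg).2 U V hUV⟩,
      fun h => le_fitting hG N h.1 (mem_actTrivial.2 h.2)⟩⟩

end Cfsg.Agent.S3766
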