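import Cfsg.Statements.S3767
import Cfsg.Agent.Lib.Coprime.SymplecticTypeTools
import Cfsg.Agent.Lib.PGroup.Frattini
-- import your own Cfsg.Agent.* helpers here

set_option autoImplicit false
open Cfsg

namespace Cfsg.Agent.S3767

open scoped commutatorElement
open Polynomial

section Helpers

/-- The arithmetic of `p ^ j ≡ -1`. -/
theorem dvd_succ_or_pred {h p n j : ℕ} (hcop : h.Coprime p) (h1 : h ∣ p ^ (2 * n) - 1)
    (hj : h ∣ p ^ j + 1) : h ∣ p ^ n + 1 ∨ h ∣ p ^ n - 1 := by
  rcases Nat.eq_zero_or_pos p with rfl | hp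
  · rw [Nat.coprime_zero_right] at hcop
    subst hcop; exact Or.inl (one_dvd _)
  have hu1 : ((p : ZMod h)) ^ (2 * n) = 1 := by
    have := (ZMod.natCast_eq_zero_iff (p ^ (2 * n) - 1) h).2 h1
    rw [Nat.cast_sub (Nat.one_le_pow _ _ hp)] at this
    push_cast at this
    exact sub_eq_zero.1 this
  have huj : ((p : ZMod h)) ^ j = -1 := by
    have := (ZMod.natCast_eq_zero_iff (p ^ j + 1) h).2 hj
    push_cast at this
    exact eq_neg_of_add_eq_zero_left this
  have huj2 : ((p : ZMod h)) ^ (2 * j) = 1 := by rw [mul_comm, pow_mul, huj, neg_one_sq]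
  have hg : ((p : ZMod h)) ^ (2 * Nat.gcd j n) = 1 := by
    rw [← Nat.gcd_mul_left]; exact pow_gcd_eq_one.2 ⟨huj2, hu1⟩
  obtain ⟨a, ha⟩ := Nat.gcd_dvd_left j n
  obtain ⟨b, hb⟩ := Nat.gcd_dvd_right j n
  generalize Nat.gcd j n = g at ha hb hg
  subst ha hb
  rcases Nat.even_or_odd a with ⟨t, rfl⟩ | ⟨t, rfl⟩
  · -- then `h ∣ 2`
    have h2 : h ∣ 2 := by
      rw [← ZMod.natCast_eq_zero_iff]
      rw [← two_mul, ← mul_assoc, mul_comm g 2, pow_mul, hg, one_pow] at huj
      push_cast
      exact (one_add_one_eq_two (R := ZMod h)).symm.trans (by nth_rewrite 2 [huj]; exact add_neg_cancel 1)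
    rcases (Nat.dvd_prime Nat.prime_two).1 h2 with rfl | rfl
    · exact Or.inl (one_dvd _)
    · left
      have hodd : Odd p := Nat.coprime_two_left.1 hcop
      exact even_iff_two_dvd.1 ((hodd.pow).add_odd odd_one)
  · have hgm : ((p : ZMod h)) ^ g = -1 := by
      rw [show g * (2 * t + 1) = 2 * g * t + g by ring, pow_add, pow_mul, hg, one_pow, one_mul] at huj
      exact huj
    rcases Nat.even_or_odd b with hb' | hb'
    · right
      rw [← ZMod.natCast_eq_zero_iff, Nat.cast_sub (Nat.one_le_pow _ _ hp)]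
      push_cast
      rw [pow_mul, hgm, hb'.neg_one_pow, sub_self]
    · left
      rw [← ZMod.natCast_eq_zero_iff]
      push_cast
      rw [pow_mul, hgm, hb'.neg_one_pow, neg_add_cancel]

/-- An irreducible automorphism preserving a nonzero bilinear pairing is Galois conjugate to its
inverse. -/
theorem exists_pow_prime_pow {p : ℕ} [Fact p.Prime] {U V : Type*} [AddCommGroup U] [Finite U]
    [Module (ZMod p) U] [AddCommGroup V] [Module (ZMod p) V]
    (B : U →ₗ[ZMod p] U →ₗ[ZMod p] V) (σ : Module.End (ZMod p) U) (N : ℕ) (hN : 0 < N)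
    (hσ : σ ^ N = 1) [Nontrivial U]
    (hirr : ∀ S : Submodule (ZMod p) U, (∀ u ∈ S, σ u ∈ S) → S = ⊥ ∨ S = ⊤)
    (hnd : ∀ w, (∀ u, B u w = 0) → w = 0) (hinv : ∀ u w, B (σ u) (σ w) = B u w) :
    ∃ j : ℕ, σ ^ (p ^ j + 1) = 1 := by
  have hint : IsIntegral (ZMod p) σ := Algebra.IsIntegral.isIntegral σ
  set m := minpoly (ZMod p) σ with hm
  haveI : Nontrivial (Module.End (ZMod p) U) := inferInstance
  have hirred : Irreducible m := by
    refine ⟨minpoly.not_isUnit _ _, fun a b hab => ?_⟩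
    have hzero : aeval σ a * aeval σ b = 0 := by
      rw [← map_mul, ← hab]; exact minpoly.aeval _ _
    have hm0 : m ≠ 0 := minpoly.ne_zero hint
    by_cases hb0 : aeval σ b = 0
    · left
      obtain ⟨c, hc⟩ := minpoly.dvd _ _ hb0
      refine .of_mul_eq_one c ?_
      refine mul_left_cancel₀ hm0 ?_
      calc m * (a * c) = a * (m * c) := by ring
        _ = a * b := by rw [← hc]
        _ = m * 1 := by rw [← hab, mul_one]
    · right
      have hS : LinearMap.ker (aeval σ a) = ⊤ := by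
        refine (hirr _ fun u hu => ?_).resolve_left fun h => hb0 ?_
        · rw [LinearMap.mem_ker] at hu ⊢
          have hc : aeval σ a * σ = σ * aeval σ a := by
            conv_lhs => arg 2; rw [← aeval_X (R := ZMod p) σ]
            conv_rhs => arg 1; rw [← aeval_X (R := ZMod p) σ]
            rw [← map_mul, ← map_mul, mul_comm]
          calc aeval σ a (σ u) = (aeval σ a * σ) u := rfl
            _ = σ (aeval σ a u) := by rw [hc]; rfl
            _ = 0 := by rw [hu, map_zero]
        · apply LinearMap.ext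
          intro u
          have h1 : aeval σ b u ∈ LinearMap.ker (aeval σ a) :=
            LinearMap.mem_ker.2 (LinearMap.congr_fun hzero u)
          rw [h, Submodule.mem_bot] at h1
          exact h1
      obtain ⟨c, hc⟩ := minpoly.dvd _ _ (LinearMap.ker_eq_top.1 hS)
      refine .of_mul_eq_one c ?_
      refine mul_left_cancel₀ hm0 ?_
      calc m * (b * c) = (m * c) * b := by ring
        _ = a * b := by rw [← hc]
        _ = m * 1 := by rw [← hab, mul_one]
  -- the inverse is also a root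
  have hstep : ∀ u w, B (σ u) w = B u ((σ ^ (N - 1)) w) := fun u w => by
    rw [← hinv u ((σ ^ (N - 1)) w)]
    congr 1
    show w = (σ * σ ^ (N - 1)) w
    rw [← pow_succ', Nat.sub_add_cancel hN, hσ]
    rfl
  have hpows : ∀ (i : ℕ) (u w : U), B ((σ ^ i) u) w = B u (((σ ^ (N - 1)) ^ i) w) := by
    intro i
    induction i with
    | zero => intro u w; rfl
    | succ i ih =>
      intro u w
      calc B ((σ ^ (i + 1)) u) w = B ((σ ^ i) (σ u)) w := by rw [pow_succ]; rfl
        _ = B u ((σ ^ (N - 1)) (((σ ^ (N - 1)) ^ i) w)) := by rw [ih, hstep]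
        _ = _ := by rw [pow_succ']; rfl
  have hpoly : ∀ (f : (ZMod p)[X]) (u w : U), B (aeval σ f u) w = B u (aeval (σ ^ (N - 1)) f w) := by
    intro f
    induction f using Polynomial.induction_on' with
    | add f g hf hg => intro u w; simp [hf, hg]
    | monomial i c =>
      intro u w
      rw [aeval_monomial, aeval_monomial, ← Algebra.smul_def, ← Algebra.smul_def, LinearMap.smul_apply,
        LinearMap.smul_apply, map_smul, map_smul, LinearMap.smul_apply, hpows]
  have hroot : aeval (σ ^ (N - 1)) m = 0 := by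
    apply LinearMap.ext
    intro w
    refine hnd _ fun u => ?_
    rw [← hpoly, hm, minpoly.aeval, LinearMap.zero_apply, map_zero, LinearMap.zero_apply]
  -- in the field generated by `σ`
  haveI : Fact (Irreducible m) := ⟨hirred⟩
  haveI : Module.Finite (ZMod p) (AdjoinRoot m) :=
    (AdjoinRoot.powerBasis (minpoly.ne_zero hint)).finite
  haveI : Finite (AdjoinRoot m) := Module.finite_of_finite (ZMod p)
  set ζ := AdjoinRoot.root m with hζ
  have hkey : ∀ f : (ZMod p)[X], aeval σ f = 0 ↔ aeval ζ f = 0 := fun f => by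
    rw [hζ, AdjoinRoot.aeval_eq, AdjoinRoot.mk_eq_zero, hm]
    exact ⟨minpoly.dvd _ _, fun ⟨c, hc⟩ => by rw [hc, map_mul, minpoly.aeval, zero_mul]⟩
  have hζN : ζ ^ N = 1 := by
    have h := (hkey (X ^ N - 1)).1 (by rw [map_sub, map_pow, aeval_X, map_one, hσ, sub_self])
    rwa [map_sub, map_pow, aeval_X, map_one, sub_eq_zero] at h
  have hζroot : aeval (ζ ^ (N - 1)) m = 0 := by
    have h := (hkey (m.comp (X ^ (N - 1)))).1 (by
      rw [aeval_comp, map_pow, aeval_X]; exact hroot)
    rwa [aeval_comp, map_pow, aeval_X] at h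
  have hζi : IsIntegral (ZMod p) ζ := Algebra.IsIntegral.isIntegral ζ
  have hmin : minpoly (ZMod p) ζ = m := by
    rw [hζ, AdjoinRoot.minpoly_root (minpoly.ne_zero hint), (minpoly.monic hint).leadingCoeff, inv_one,
      C_1, mul_one]
  obtain ⟨φ, hφ⟩ := minpoly.exists_algEquiv_of_root' (K := ZMod p) hζi.isAlgebraic
    (x := ζ ^ (N - 1)) (by rw [hmin]; exact hζroot)
  obtain ⟨j, hj⟩ := (FiniteField.bijective_frobeniusAlgEquivOfAlgebraic_pow (ZMod p) (AdjoinRoot m)).2 φ
  refine ⟨j.1, ?_⟩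
  have hfrob : ζ ^ p ^ j.1 = ζ ^ (N - 1) := by
    rw [← hφ, ← hj, AlgEquiv.coe_pow, FiniteField.coe_frobeniusAlgEquivOfAlgebraic_iterate,
      ZMod.card]
  have h := (hkey (X ^ (p ^ j.1 + 1) - 1)).2 (by
    rw [map_sub, map_pow, aeval_X, map_one, pow_succ, hfrob, ← pow_succ, Nat.sub_add_cancel hN, hζN,
      sub_self])
  rwa [map_sub, map_pow, aeval_X, map_one, sub_eq_zero] at h

/-- `exists_pow_prime_pow` for additive groups of exponent `p`. -/
theorem exists_pow_prime_pow_add {p : ℕ} [Fact p.Prime] {U V : Type*} [AddCommGroup U] [Finite U]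
    [AddCommGroup V] (hU : ∀ u : U, p • u = 0) (hV : ∀ v : V, p • v = 0) (β : U →+ (U →+ V))
    (f : U →+ U) (N : ℕ) (hN : 0 < N) (hfN : ∀ u, (⇑f)^[N] u = u) [Nontrivial U]
    (hirr : ∀ L : AddSubgroup U, (∀ u ∈ L, f u ∈ L) → L = ⊥ ∨ L = ⊤)
    (hnd : ∀ w, (∀ u, β u w = 0) → w = 0) (hinv : ∀ u w, β (f u) (f w) = β u w) :
    ∃ j : ℕ, ∀ u, (⇑f)^[p ^ j + 1] u = u := by
  haveI : Module (ZMod p) U := AddCommGroup.zmodModule hU
  haveI : Module (ZMod p) V := AddCommGroup.zmodModule hV
  let B : U →ₗ[ZMod p] U →ₗ[ZMod p] V :=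
    AddMonoidHom.toZModLinearMap p
      { toFun := fun u => AddMonoidHom.toZModLinearMap p (β u)
        map_zero' := LinearMap.ext fun v => by
          rw [AddMonoidHom.coe_toZModLinearMap, map_zero]; rfl
        map_add' := fun u v => LinearMap.ext fun w => by
          rw [LinearMap.add_apply, AddMonoidHom.coe_toZModLinearMap, AddMonoidHom.coe_toZModLinearMap,
            AddMonoidHom.coe_toZModLinearMap, map_add]
          exact rfl }
  have hB : ∀ u w, B u w = β u w := fun u w => by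
    simp only [B, AddMonoidHom.coe_toZModLinearMap, AddMonoidHom.coe_mk, ZeroHom.coe_mk]
  let s : Module.End (ZMod p) U := AddMonoidHom.toZModLinearMap p f
  have hs : ⇑s = ⇑f := AddMonoidHom.coe_toZModLinearMap p f
  obtain ⟨j, hj⟩ := exists_pow_prime_pow B s N hN
    (LinearMap.ext fun u => by rw [Module.End.coe_pow, hs]; exact hfN u)
    (fun S hS => by
      rcases hirr S.toAddSubgroup (fun u hu => (congrFun hs u).symm ▸ hS u hu) with h | h
      · left
        rw [eq_bot_iff]
        intro u hu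
        have hu' : u ∈ S.toAddSubgroup := hu
        rw [h, AddSubgroup.mem_bot] at hu'
        exact (Submodule.mem_bot _).2 hu'
      · right
        rw [eq_top_iff]
        intro u _
        have hu' : u ∈ S.toAddSubgroup := h ▸ AddSubgroup.mem_top _
        exact hu')
    (fun w hw => hnd w fun u => (hB u w).symm.trans (hw u))
    (fun u w => by rw [hB, hB, congrFun hs, congrFun hs]; exact hinv u w)
  refine ⟨j, fun u => ?_⟩
  have h := LinearMap.congr_fun hj u
  rw [Module.End.coe_pow, hs] at h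
  exact h

/-- The multiplicative form of `exists_pow_prime_pow`. -/
theorem exists_pow_prime_pow_mul {p : ℕ} [Fact p.Prime] {U V : Type*} [CommGroup U] [Finite U]
    [CommGroup V] (hU : ∀ u : U, u ^ p = 1) (hV : ∀ v : V, v ^ p = 1) (β : U →* (U →* V))
    (f : U →* U) (N : ℕ) (hN : 0 < N) (hfN : ∀ u, (⇑f)^[N] u = u) [Nontrivial U]
    (hirr : ∀ L : Subgroup U, (∀ u ∈ L, f u ∈ L) → L = ⊥ ∨ L = ⊤)
    (hnd : ∀ w, (∀ u, β u w = 1) → w = 1) (hinv : ∀ u w, β (f u) (f w) = β u w) :
    ∃ j : ℕ, ∀ u, (⇑f)^[p ^ j + 1] u = u := by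
  obtain ⟨j, hj⟩ := exists_pow_prime_pow_add (p := p) (U := Additive U) (V := Additive V)
    (fun u => congrArg Additive.ofMul (hU u.toMul)) (fun v => congrArg Additive.ofMul (hV v.toMul))
    { toFun := fun u => MonoidHom.toAdditive (β u.toMul)
      map_zero' := AddMonoidHom.ext fun v => congrArg Additive.ofMul (DFunLike.congr_fun (map_one β) v.toMul)
      map_add' := fun u v => AddMonoidHom.ext fun w =>
        congrArg Additive.ofMul (DFunLike.congr_fun (map_mul β u.toMul v.toMul) w.toMul) }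
    (MonoidHom.toAdditive f) N hN (fun u => hfN u.toMul)
    (fun L hL => by
      rcases hirr (AddSubgroup.toSubgroup' L) (fun u hu => hL _ hu) with h | h
      · left
        rw [eq_bot_iff]
        intro u hu
        have hu' : u.toMul ∈ AddSubgroup.toSubgroup' L := hu
        rw [h, Subgroup.mem_bot] at hu'
        exact AddSubgroup.mem_bot.2 (Additive.toMul.injective hu')
      · right
        rw [eq_top_iff]
        intro u _
        have hu' : u.toMul ∈ AddSubgroup.toSubgroup' L := h ▸ Subgroup.mem_top _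
        exact hu')
    (fun w hw => Additive.toMul.injective (hnd _ fun u => congrArg Additive.toMul (hw (Additive.ofMul u))))
    (fun u w => congrArg Additive.ofMul (hinv u.toMul w.toMul))
  exact ⟨j, fun u => hj (Additive.ofMul u)⟩

/-- Orbit counting for a fixed-point-free automorphism. -/
theorem orderOf_dvd_sub {P : Type*} [Group P] [Finite P] (σ : MulAut P) (Z S : Subgroup P) (hZS : Z ≤ S)
    (hfix : ∀ i : ℕ, σ ^ i ≠ 1 → ∀ g : P, (σ ^ i) g = g → g ∈ Z)
    (hZ : ∀ g ∈ Z, σ g = g) (hS : ∀ g ∈ S, σ g ∈ S) :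
    orderOf σ ∣ Nat.card S - Nat.card Z := by
  classical
  have hpowS : ∀ (i : ℕ), ∀ g ∈ S, (σ ^ i) g ∈ S := by
    intro i
    induction i with
    | zero => exact fun g hg => hg
    | succ i ih => intro g hg; rw [pow_succ', MulAut.mul_apply]; exact hS _ (ih g hg)
  have hpowZ : ∀ (i : ℕ), ∀ g ∈ Z, (σ ^ i) g = g := by
    intro i
    induction i with
    | zero => exact fun g _ => rfl
    | succ i ih => intro g hg; rw [pow_succ', MulAut.mul_apply, ih g hg, hZ g hg]
  have hnat : ∀ τ ∈ Subgroup.zpowers σ, ∃ i : ℕ, σ ^ i = τ := fun τ hτ =>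
    Submonoid.mem_powers_iff _ _ |>.1 ((mem_powers_iff_mem_zpowers).2 hτ)
  let T := {g : P // g ∈ S ∧ g ∉ Z}
  letI : MulAction (Subgroup.zpowers σ) T :=
    { smul := fun τ g => ⟨(τ : MulAut P) g.1, by
        obtain ⟨i, hi⟩ := hnat τ τ.2
        rw [← hi]
        refine ⟨hpowS i _ g.2.1, fun h => g.2.2 ?_⟩
        have h' := hpowZ i _ h
        rwa [(σ ^ i).injective h'] at h⟩
      one_smul := fun g => Subtype.ext rfl
      mul_smul := fun a b g => Subtype.ext rfl }
  have hfree : ∀ g : T, MulAction.stabilizer (Subgroup.zpowers σ) g = ⊥ := by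
    intro g
    rw [eq_bot_iff]
    intro τ hτ
    obtain ⟨i, hi⟩ := hnat τ τ.2
    refine Subgroup.mem_bot.2 (Subtype.ext ?_)
    rw [← hi]
    by_contra hne
    exact g.2.2 (hfix i hne g.1 (by rw [hi]; exact congrArg Subtype.val (MulAction.mem_stabilizer_iff.1 hτ)))
  have hcard : Nat.card T = Nat.card S - Nat.card Z := by
    show Nat.card {g : P // g ∈ (S : Set P) \ Z} = _
    rw [Nat.card_coe_set_eq, Set.ncard_sdiff hZS, ← Nat.card_coe_set_eq, ← Nat.card_coe_set_eq]
    rfl
  rw [← hcard, ← Nat.card_zpowers, Nat.card_congr (MulAction.selfEquivOrbitsQuotientProd hfree), Nat.card_prod]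
  exact dvd_mul_left _ _

theorem main_aut {P : Type*} [Group P] [Finite P] {p : ℕ} [Fact p.Prime] (hP : Cfsg.IsExtraspecial p P)
    (n : ℕ) (hn : Nat.card P = p ^ (2 * n + 1)) (σ : MulAut P) (hcop : (orderOf σ).Coprime p)
    (hfix : ∀ i : ℕ, σ ^ i ≠ 1 → ∀ g : P, (σ ^ i) g = g → g ∈ Subgroup.center P)
    (hZfix : ∀ g ∈ Subgroup.center P, σ g = g) :
    orderOf σ ∣ p ^ n + 1 ∨ orderOf σ ∣ p ^ n - 1 := by
  classical
  have hp : p.Prime := Fact.out
  obtain ⟨⟨hPp, hΦ, hD⟩, hcardZ⟩ := hP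
  set Z := Subgroup.center P with hZdef
  have hcomm : ∀ a b : P, ⁅a, b⁆ ∈ Z := fun a b => by
    rw [← hD]; exact Subgroup.commutator_mem_commutator (Subgroup.mem_top a) (Subgroup.mem_top b)
  have hpowZ : ∀ a : P, a ^ p ∈ Z := fun a => by
    rw [← hΦ]; exact CfsgLib.PGroup.Frattini.pow_mem_frattini hPp a
  have hnormal : ∀ M : Subgroup P, Z ≤ M → M.Normal := fun M hM => ⟨fun a ha g => by
    have e : g * a * g⁻¹ = ⁅g, a⁆ * a := by rw [commutatorElement_def]; group
    rw [e]; exact M.mul_mem (hM (hcomm g a)) ha⟩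
  have hscale : ∀ (k : ℕ), ∀ S : Subgroup P, Z ≤ S → (∀ g ∈ S, σ g ∈ S) → Nat.card S = p ^ (k + 1) →
      orderOf σ ∣ p ^ k - 1 := by
    intro k S hZS hS hS'
    have h := orderOf_dvd_sub σ Z S hZS hfix hZfix hS
    rw [hS', hcardZ, show p ^ (k + 1) - p = p * (p ^ k - 1) by rw [pow_succ', Nat.mul_sub, mul_one]] at h
    exact hcop.dvd_of_dvd_mul_left h
  have hall : orderOf σ ∣ p ^ (2 * n) - 1 := hscale (2 * n) ⊤ le_top (fun g _ => Subgroup.mem_top _)
    (by rw [Subgroup.card_top, hn])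
  -- a maximal abelian invariant subgroup
  obtain ⟨M, -, ⟨hZM, hMab, hMσ⟩, hMmax⟩ := Finite.exists_le_maximal
    (p := fun M : Subgroup P => Z ≤ M ∧ (∀ a ∈ M, ∀ b ∈ M, a * b = b * a) ∧ ∀ a ∈ M, σ a ∈ M)
    (a := Z) ⟨le_rfl, fun a ha b _ => (Subgroup.mem_center_iff.1 ha b).symm,
      fun a ha => by rw [hZfix a ha]; exact ha⟩
  set C := Subgroup.centralizer (M : Set P) with hCdef
  have hMC : M ≤ C := fun a ha => Subgroup.mem_centralizer_iff.2 fun b hb => hMab b hb a ha
  have hCσ : ∀ a ∈ C, σ a ∈ C := by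
    intro a ha
    refine Subgroup.mem_centralizer_iff.2 fun b hb => ?_
    have hfin : ∃ b' ∈ M, σ b' = b := by
      have hle : M.map σ.toMonoidHom ≤ M := by rintro _ ⟨y, hy, rfl⟩; exact hMσ y hy
      have he : M.map σ.toMonoidHom = M := Subgroup.eq_of_le_of_card_ge hle
        (Nat.card_congr (M.equivMapOfInjective _ σ.injective).toEquiv).le
      have hb' : b ∈ M.map σ.toMonoidHom := by rw [he]; exact hb
      obtain ⟨y, hy, rfl⟩ := hb'
      exact ⟨y, hy, rfl⟩
    obtain ⟨b', hb', rfl⟩ := hfin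
    rw [← map_mul, ← map_mul, Subgroup.mem_centralizer_iff.1 ha b' hb']
  have hsize : Nat.card C * Nat.card M = Nat.card P * p := by
    refine le_antisymm ?_ ?_
    · have h := CfsgLib.Coprime.SymplecticTools.chain_bound hPp (A := (⊤ : Subgroup P)) (W := ⊤) (Ω := Z)
        hcardZ.le (fun a _ b _ => hcomm a b) M le_top
      rw [top_inf_eq, top_inf_eq, Subgroup.card_top, ← hCdef] at h
      have e : Subgroup.centralizer ((⊤ : Subgroup P) : Set P) = Z := by
        rw [hZdef, Subgroup.coe_top, Subgroup.centralizer_univ]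
      rw [e, hcardZ, mul_comm p] at h
      exact h
    · have h := CfsgLib.Coprime.SymplecticTools.chain_bound hPp (A := (⊤ : Subgroup P)) (W := M) (Ω := Z)
        hcardZ.le (fun a _ b _ => hcomm a b) Z hZM
      rw [top_inf_eq, top_inf_eq, ← hCdef] at h
      have e : Subgroup.centralizer (Z : Set P) = ⊤ := by
        rw [eq_top_iff]
        intro g _
        exact Subgroup.mem_centralizer_iff.2 fun z hz => (Subgroup.mem_center_iff.1 hz g).symm
      rw [e, Subgroup.card_top, hcardZ] at h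
      exact h
  by_cases hCM : C = M
  · right
    obtain ⟨k, hk⟩ := (hPp.to_subgroup M).exists_card_eq
    rw [hCM, hk, hn, ← pow_add, ← pow_succ] at hsize
    have := Nat.pow_right_injective hp.two_le hsize
    exact hscale n M hZM hMσ (by rw [hk]; congr 1; omega)
  -- a minimal invariant subgroup above `M` inside `C`
  obtain ⟨W, -, ⟨hMW, hWC, hWσ⟩, hWmin⟩ := Finite.exists_le_minimal
    (p := fun W : Subgroup P => M < W ∧ W ≤ C ∧ ∀ a ∈ W, σ a ∈ W) (a := C)
    ⟨lt_of_le_of_ne hMC (Ne.symm hCM), le_rfl, hCσ⟩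
  have hrad : ∀ w ∈ W, (∀ u ∈ W, u * w = w * u) → w ∈ M := by
    intro w hw hwc
    let R : Subgroup P := W ⊓ Subgroup.centralizer (W : Set P)
    have hwR : w ∈ R := ⟨hw, Subgroup.mem_centralizer_iff.2 hwc⟩
    have hMR : M ≤ R := le_inf hMW.le fun a ha =>
      Subgroup.mem_centralizer_iff.2 fun u hu => (Subgroup.mem_centralizer_iff.1 (hWC hu) a ha).symm
    have hWmap : W.map σ.toMonoidHom = W := Subgroup.eq_of_le_of_card_ge
      (by rintro _ ⟨y, hy, rfl⟩; exact hWσ y hy)
      (Nat.card_congr (W.equivMapOfInjective _ σ.injective).toEquiv).le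
    have hRσ : ∀ a ∈ R, σ a ∈ R := by
      intro a ha
      refine ⟨hWσ a ha.1, Subgroup.mem_centralizer_iff.2 fun u hu => ?_⟩
      have hu' : u ∈ W.map σ.toMonoidHom := by rw [hWmap]; exact hu
      obtain ⟨y, hy, rfl⟩ := hu'
      show σ y * σ a = σ a * σ y
      rw [← map_mul, ← map_mul, Subgroup.mem_centralizer_iff.1 ha.2 y hy]
    by_cases hRM : R ≤ M
    · exact hRM hwR
    exfalso
    exact hRM (hMmax ⟨hZM.trans hMR, fun a ha b hb => Subgroup.mem_centralizer_iff.1 hb.2 a ha.1,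
      hRσ⟩ hMR)
  -- the quotient `W / M` as a module
  set M' := M.subgroupOf W with hM'
  haveI : M'.Normal := (hnormal M hZM).subgroupOf W
  letI : CommGroup (↥W ⧸ M') :=
    { (inferInstance : Group (↥W ⧸ M')) with
      mul_comm := fun a b => by
        obtain ⟨a, rfl⟩ := QuotientGroup.mk'_surjective M' a
        obtain ⟨b, rfl⟩ := QuotientGroup.mk'_surjective M' b
        rw [← commutatorElement_eq_one_iff_mul_comm, ← map_commutatorElement]
        exact (QuotientGroup.eq_one_iff _).2 (Subgroup.mem_subgroupOf.2 (hZM (hcomm a b))) }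
  letI : CommGroup Z :=
    { (inferInstance : Group Z) with
      mul_comm := fun a b => Subtype.ext (Subgroup.mem_center_iff.1 b.2 a) }
  have hUexp : ∀ u : ↥W ⧸ M', u ^ p = 1 := fun u => by
    obtain ⟨a, rfl⟩ := QuotientGroup.mk'_surjective M' u
    rw [← map_pow]
    exact (QuotientGroup.eq_one_iff _).2 (Subgroup.mem_subgroupOf.2 (hZM (hpowZ a)))
  have hVexp : ∀ v : Z, v ^ p = 1 := fun v => by rw [← hcardZ]; exact pow_card_eq_one'
  have hbrmul : ∀ a b c : P, ⁅a, b * c⁆ = ⁅a, b⁆ * ⁅a, c⁆ := fun a b c => by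
    have e : ⁅a, b * c⁆ = ⁅a, b⁆ * (b * ⁅a, c⁆ * b⁻¹) := by simp only [commutatorElement_def]; group
    rw [e, Subgroup.mem_center_iff.1 (hcomm a c) b, mul_inv_cancel_right]
  have hbrmul' : ∀ a b c : P, ⁅a * b, c⁆ = ⁅a, c⁆ * ⁅b, c⁆ := fun a b c => by
    have e : ⁅a * b, c⁆ = (a * ⁅b, c⁆ * a⁻¹) * ⁅a, c⁆ := by simp only [commutatorElement_def]; group
    rw [e, Subgroup.mem_center_iff.1 (hcomm b c) a, mul_inv_cancel_right,
      Subgroup.mem_center_iff.1 (hcomm b c) ⁅a, c⁆]
  have hMcent : ∀ a ∈ M, ∀ b ∈ W, ⁅b, a⁆ = 1 ∧ ⁅a, b⁆ = 1 := fun a ha b hb => by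
    have h := Subgroup.mem_centralizer_iff.1 (hWC hb) a ha
    exact ⟨commutatorElement_eq_one_iff_mul_comm.2 h.symm, commutatorElement_eq_one_iff_mul_comm.2 h⟩
  let β₀ : W →* (W →* Z) :=
    { toFun := fun a =>
        { toFun := fun b => ⟨⁅(a : P), b⁆, hcomm _ _⟩
          map_one' := Subtype.ext (commutatorElement_one_right _)
          map_mul' := fun b c => Subtype.ext (hbrmul a b c) }
      map_one' := MonoidHom.ext fun b => Subtype.ext (commutatorElement_one_left _)
      map_mul' := fun a b => MonoidHom.ext fun c => Subtype.ext (hbrmul' a b c) }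
  let β₁ : (↥W ⧸ M') →* (W →* Z) := QuotientGroup.lift M' β₀ fun a ha =>
    MonoidHom.ext fun b => Subtype.ext (hMcent a ha b b.2).2
  let β₂ : (↥W ⧸ M') →* ((↥W ⧸ M') →* Z) :=
    (QuotientGroup.lift M' β₁.flip fun b hb => MonoidHom.ext fun a => by
      obtain ⟨a, rfl⟩ := QuotientGroup.mk'_surjective M' a
      exact Subtype.ext (hMcent b hb a a.2).1).flip
  have hβ : ∀ a b : W, ((β₂ (QuotientGroup.mk' M' a) (QuotientGroup.mk' M' b) : Z) : P) = ⁅(a : P), (b : P)⁆ :=
    fun a b => rfl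
  let σW : W →* W := (σ.toMonoidHom.comp W.subtype).codRestrict W fun a => hWσ a a.2
  let σU : (↥W ⧸ M') →* (↥W ⧸ M') := QuotientGroup.map M' M' σW fun a ha =>
    Subgroup.mem_subgroupOf.2 (hMσ _ ha)
  have hspow : ∀ (i : ℕ) (a : W), ∃ h : (σ ^ i) (a : P) ∈ W,
      (⇑σU)^[i] (QuotientGroup.mk' M' a) = QuotientGroup.mk' M' ⟨_, h⟩ := by
    intro i
    induction i with
    | zero => intro a; exact ⟨a.2, rfl⟩
    | succ i ih =>
      intro a
      obtain ⟨h, e⟩ := ih a
      refine ⟨by rw [pow_succ', MulAut.mul_apply]; exact hWσ _ h, ?_⟩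
      rw [Function.iterate_succ_apply', e]
      refine (QuotientGroup.map_mk' _ _ _ _ _).trans (congrArg _ (Subtype.ext ?_))
      show σ ((σ ^ i) (a : P)) = (σ ^ (i + 1)) (a : P)
      rw [pow_succ', MulAut.mul_apply]
  haveI : Nontrivial (↥W ⧸ M') := QuotientGroup.nontrivial_iff.2 fun h =>
    hMW.not_ge (Subgroup.subgroupOf_eq_top.1 h)
  obtain ⟨j, hj⟩ := exists_pow_prime_pow_mul hUexp hVexp β₂ σU (orderOf σ) (orderOf_pos σ) (fun u => by
      obtain ⟨a, rfl⟩ := QuotientGroup.mk'_surjective M' u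
      obtain ⟨h, e⟩ := hspow (orderOf σ) a
      rw [e]
      congr 1
      refine Subtype.ext ?_
      show (σ ^ orderOf σ) (a : P) = a
      rw [pow_orderOf_eq_one]; rfl)
    (by
      intro S hS
      set L := (S.comap (QuotientGroup.mk' M')).map W.subtype with hLdef
      have hML : M ≤ L := fun a ha => ⟨⟨a, hMW.le ha⟩, by
        show QuotientGroup.mk' M' ⟨a, hMW.le ha⟩ ∈ S
        rw [show QuotientGroup.mk' M' ⟨a, hMW.le ha⟩ = 1 from
          (QuotientGroup.eq_one_iff _).2 (Subgroup.mem_subgroupOf.2 ha)]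
        exact S.one_mem, rfl⟩
      have hLW : L ≤ W := Subgroup.map_subtype_le _
      have hLσ : ∀ a ∈ L, σ a ∈ L := by
        rintro _ ⟨a, ha, rfl⟩
        exact ⟨σW a, hS _ ha, rfl⟩
      rcases eq_or_lt_of_le hML with h | h
      · left
        rw [eq_bot_iff]
        intro u hu
        obtain ⟨a, rfl⟩ := QuotientGroup.mk'_surjective M' u
        have haM : (a : P) ∈ L := ⟨a, hu, rfl⟩
        rw [← h] at haM
        exact Subgroup.mem_bot.2 ((QuotientGroup.eq_one_iff _).2 (Subgroup.mem_subgroupOf.2 haM))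
      · right
        rw [eq_top_iff]
        intro u _
        obtain ⟨a, rfl⟩ := QuotientGroup.mk'_surjective M' u
        obtain ⟨b, hb, e⟩ := hWmin ⟨h, hLW.trans hWC, hLσ⟩ hLW a.2
        rw [← Subtype.ext e]
        exact hb)
    (by
      intro w hw
      obtain ⟨a, rfl⟩ := QuotientGroup.mk'_surjective M' w
      refine (QuotientGroup.eq_one_iff _).2 (Subgroup.mem_subgroupOf.2
        (hrad a a.2 fun u hu => commutatorElement_eq_one_iff_mul_comm.1 ?_))
      rw [← hβ ⟨u, hu⟩ a, hw]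
      rfl)
    (by
      intro u w
      obtain ⟨a, rfl⟩ := QuotientGroup.mk'_surjective M' u
      obtain ⟨b, rfl⟩ := QuotientGroup.mk'_surjective M' w
      apply Subtype.ext
      show ⁅σ (a : P), σ (b : P)⁆ = ⁅(a : P), (b : P)⁆
      rw [← map_commutatorElement]
      exact hZfix _ (hcomm a b))
  -- so `σ ^ (p ^ j + 1)` is trivial
  have hjσ : orderOf σ ∣ p ^ j + 1 := by
    rw [orderOf_dvd_iff_pow_eq_one]
    by_contra hne
    obtain ⟨w, hwW, hwM⟩ := SetLike.exists_of_lt hMW
    obtain ⟨h, e⟩ := hspow (p ^ j + 1) ⟨w, hwW⟩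
    rw [hj] at e
    have hd : w⁻¹ * (σ ^ (p ^ j + 1)) w ∈ M :=
      Subgroup.mem_subgroupOf.1 (QuotientGroup.eq.1 e)
    set τ := σ ^ (p ^ j + 1) with hτ
    have hτM : ∀ a ∈ M, τ a ∈ M := by
      rw [hτ]
      generalize p ^ j + 1 = i
      induction i with
      | zero => exact fun a ha => ha
      | succ i ih => intro a ha; rw [pow_succ', MulAut.mul_apply]; exact hMσ _ (ih a ha)
    -- an element of `w M` fixed by `τ`
    have hfixed : ∃ g : P, τ g = g ∧ g⁻¹ * w ∈ M := by
      letI : CommGroup M :=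
        { (inferInstance : Group M) with mul_comm := fun a b => Subtype.ext (hMab a a.2 b b.2) }
      set r := orderOf τ with hr
      have hdi : ∀ i : ℕ, w⁻¹ * (τ ^ i) w ∈ M := by
        intro i
        induction i with
        | zero => simp
        | succ i ih =>
          have e : w⁻¹ * (τ ^ (i + 1)) w = (w⁻¹ * τ w) * τ (w⁻¹ * (τ ^ i) w) := by
            rw [pow_succ', MulAut.mul_apply, map_mul, map_inv]; group
          rw [e]; exact M.mul_mem hd (hτM _ ih)
      let d : ℕ → M := fun i => ⟨w⁻¹ * (τ ^ i) w, hdi i⟩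
      let t : M →* M :=
        { toFun := fun a => ⟨τ a, hτM a a.2⟩
          map_one' := Subtype.ext (map_one τ)
          map_mul' := fun a b => Subtype.ext (map_mul τ (a : P) b) }
      have htd : ∀ i, t (d i) = (d 1)⁻¹ * d (i + 1) := fun i => Subtype.ext (by
        show τ (w⁻¹ * (τ ^ i) w) = (w⁻¹ * (τ ^ 1) w)⁻¹ * (w⁻¹ * (τ ^ (i + 1)) w)
        rw [pow_one, pow_succ', MulAut.mul_apply, map_mul, map_inv]; group)
      set E := ∏ i ∈ Finset.range r, d i with hE
      have hshift : ∏ i ∈ Finset.range r, d (i + 1) = E := by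
        have h1 := Finset.prod_range_succ' d r
        rw [Finset.prod_range_succ] at h1
        have h0 : d r = d 0 := Subtype.ext (by
          show w⁻¹ * (τ ^ r) w = w⁻¹ * (τ ^ 0) w
          rw [hr, pow_orderOf_eq_one, pow_zero])
        rw [h0] at h1
        exact (mul_right_cancel h1).symm
      have htE : t E = ((d 1)⁻¹) ^ r * E := by
        rw [hE, map_prod]
        simp_rw [htd]
        rw [Finset.prod_mul_distrib, Finset.prod_const, Finset.card_range, hshift]
      have hrc : r.Coprime (Nat.card M) := by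
        obtain ⟨k, hk⟩ := (hPp.to_subgroup M).exists_card_eq
        rw [hk]
        exact Nat.Coprime.pow_right k (hcop.coprime_dvd_left (by rw [hr, hτ]; exact orderOf_pow_dvd _))
      obtain ⟨u, v, huv⟩ := Nat.isCoprime_iff_coprime.2 hrc
      have hroot : ((d 1)⁻¹ ^ r) ^ u = (d 1)⁻¹ := by
        have hc : ((d 1)⁻¹) ^ ((Nat.card M : ℤ)) = 1 := by rw [zpow_natCast, pow_card_eq_one']
        calc ((d 1)⁻¹ ^ r) ^ u = (d 1)⁻¹ ^ ((r : ℤ) * u) := by rw [← zpow_natCast, ← zpow_mul]
          _ = (d 1)⁻¹ ^ ((r : ℤ) * u) * ((d 1)⁻¹ ^ ((Nat.card M : ℤ))) ^ v := by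
            rw [hc, one_zpow, mul_one]
          _ = (d 1)⁻¹ := by
            rw [← zpow_mul, ← zpow_add, mul_comm (r : ℤ), mul_comm ((Nat.card M : ℤ))]
            erw [huv]
            exact zpow_one _
      have hta : t (E ^ u) = (d 1)⁻¹ * E ^ u := by rw [map_zpow, htE, mul_zpow, hroot]
      refine ⟨w * ((E ^ u : M) : P), ?_, ?_⟩
      · have h' : τ ((E ^ u : M) : P) = (w⁻¹ * (τ ^ 1) w)⁻¹ * ((E ^ u : M) : P) :=
          congrArg Subtype.val hta
        rw [map_mul, h', pow_one]; group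
      · rw [mul_inv_rev, inv_mul_cancel_right]
        exact M.inv_mem (SetLike.coe_mem _)
    obtain ⟨g, hg, hgw⟩ := hfixed
    have hgZ := hfix _ hne g hg
    apply hwM
    have := M.mul_mem (hZM hgZ) hgw
    rwa [mul_inv_cancel_left] at this
  exact dvd_succ_or_pred hcop hall hjσ

end Helpers

/-- Let P be an extraspecial p-group of order p^(2n+1) and H a cyclic group of order h prime to p acting on P (inside a common finite group: H normalizes P) so that C_P(x) = Z(P) for every non-identity x ∈ H. Then h divides p^n + 1 or h divides p^n − 1. -/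
theorem result {G : Type*} [Group G] [Finite G] {p : ℕ} [Fact p.Prime] (P H : Subgroup G) (hP : Cfsg.IsExtraspecial p ↥P) (n : ℕ) (hn : Nat.card P = p ^ (2 * n + 1)) (hH : IsCyclic H) (hcop : (Nat.card H).Coprime p) (hHP : H ≤ Subgroup.normalizer (P : Set G)) (hfix : ∀ x ∈ H, x ≠ 1 → P ⊓ Subgroup.centralizer {x} = (Subgroup.center ↥P).map P.subtype) : Nat.card H ∣ p ^ n + 1 ∨ Nat.card H ∣ p ^ n - 1 := by
  by_cases h1 : Nat.card H = 1
  · exact Or.inl (by rw [h1]; exact one_dvd _)
  obtain ⟨g, hgen⟩ := hH.exists_generator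
  have hHg : ∀ x ∈ H, x ∈ Subgroup.zpowers (g : G) := fun x hx => by
    obtain ⟨i, hi⟩ := Subgroup.mem_zpowers_iff.1 (hgen ⟨x, hx⟩)
    exact Subgroup.mem_zpowers_iff.2 ⟨i, congrArg Subtype.val hi⟩
  have hord : orderOf (g : G) = Nat.card H := by
    rw [Subgroup.orderOf_coe, orderOf_eq_card_of_forall_mem_zpowers hgen]
  have hg1 : (g : G) ≠ 1 := fun h => h1 (by rw [← hord, h, orderOf_one])
  let f := P.normalizerMonoidHom
  set σ := f ⟨g, hHP g.2⟩ with hσdef
  have hσ : ∀ (i : ℕ) (y : P), ((σ ^ i) y : G) = (g : G) ^ i * y * ((g : G) ^ i)⁻¹ := by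
    intro i y
    rw [hσdef, ← map_pow]
    rfl
  have hPna : Subgroup.center P ≠ ⊤ := by
    intro h
    have hc : commutator P = ⊥ := by
      rw [commutator_def, Subgroup.commutator_eq_bot_iff_le_centralizer]
      intro a _
      exact Subgroup.mem_centralizer_iff.2 fun b _ =>
        Subgroup.mem_center_iff.1 (h.symm ▸ Subgroup.mem_top a) b
    have hne : Subgroup.center P ≠ ⊥ := fun h0 => (Fact.out : p.Prime).ne_one (by
      rw [← hP.2, h0, Subgroup.card_bot])
    exact hne (hP.1.2.2.symm.trans hc)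
  have hmem : ∀ (x : G), x ∈ H → x ≠ 1 → ∀ y : P, (x * y * x⁻¹ = (y : G)) → y ∈ Subgroup.center P := by
    intro x hx hx1 y hy
    have hm : (y : G) ∈ P ⊓ Subgroup.centralizer {x} :=
      ⟨y.2, Subgroup.mem_centralizer_singleton_iff.2 (mul_inv_eq_iff_eq_mul.1 hy).symm⟩
    rw [hfix x hx hx1] at hm
    obtain ⟨y', hy', e⟩ := hm
    rwa [← Subtype.ext e]
  have hone : ∀ i : ℕ, σ ^ i = 1 → (g : G) ^ i = 1 := by
    intro i hi
    by_contra hne
    apply hPna
    rw [eq_top_iff]
    intro y _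
    refine hmem _ (H.pow_mem g.2 i) hne y ?_
    rw [← hσ, hi]; rfl
  have hord' : orderOf σ = Nat.card H := by
    rw [← hord]
    refine Nat.dvd_antisymm ?_ (orderOf_dvd_of_pow_eq_one (hone _ (pow_orderOf_eq_one σ)))
    rw [hσdef]
    exact (orderOf_map_dvd f _).trans (by rw [Subgroup.orderOf_mk])
  have h := main_aut hP n hn σ (hord'.symm ▸ hcop) (fun i hi y hy => by
      refine hmem _ (H.pow_mem g.2 i) (fun h => hi ?_) y ?_
      · rw [← orderOf_dvd_iff_pow_eq_one, hord', ← hord, orderOf_dvd_iff_pow_eq_one]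
        exact h
      rw [← hσ, hy]) (fun y hy => Subtype.ext (by
      have h := hσ 1 y
      rw [pow_one, pow_one] at h
      rw [h]
      have hm : (y : G) ∈ P ⊓ Subgroup.centralizer {(g : G)} := by
        rw [hfix g g.2 hg1]; exact ⟨y, hy, rfl⟩
      rw [← Subgroup.mem_centralizer_singleton_iff.1 hm.2]
      rw [mul_inv_cancel_right]))
  rwa [hord'] at h

end Cfsg.Agent.S3767
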