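import Cfsg.Statements.S3768
import Cfsg.Agent.Lib.FrobRealize.Conjugate
import Cfsg.Agent.Lib.FrobRealize.Theorem
-- import your own Cfsg.Agent.* helpers here

set_option autoImplicit false
open Cfsg

namespace Cfsg.Agent.S3768

open CfsgLib.FrobRealize

/-- Let G be a finite Frobenius group with Frobenius complement R and Frobenius kernel K (the identity together with the elements in no conjugate of R), and let N be a normal subgroup of G not containing K. Then G/N is a Frobenius group with Frobenius complement RN/N whose Frobenius kernel is the image of K. -/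
theorem result {G : Type*} [Group G] [Finite G] (R : Subgroup G) (hR : Cfsg.IsFrobeniusComplement R) (N : Subgroup G) [N.Normal] (hKN : ¬ Cfsg.frobeniusKernel R ⊆ N) : Cfsg.IsFrobeniusComplement (R.map (QuotientGroup.mk' N)) ∧ Cfsg.frobeniusKernel (R.map (QuotientGroup.mk' N)) = QuotientGroup.mk' N '' Cfsg.frobeniusKernel R := by
  classical
  obtain ⟨K, hset, hKn, hcompl⟩ := exists_normal_kernel hR
  have hK0 : ∀ a : G, a ∈ R → a ∈ K → a = 1 := fun a ha hk =>
    Subgroup.mem_bot.1 (hcompl.disjoint.le_bot ⟨hk, ha⟩)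
  have hfix : ∀ a ∈ R, a ≠ 1 → K ⊓ Subgroup.centralizer {a} = ⊥ := by
    intro a ha ha1
    rw [eq_bot_iff]
    intro m hm
    refine Subgroup.mem_bot.2 (hK0 m (Kernel.mem_of_mem_conj hR ha ha1 ?_) hm.1)
    rw [mul_assoc, ← Subgroup.mem_centralizer_singleton_iff.1 hm.2, inv_mul_cancel_left]
    exact ha
  have hKN' : ¬ K ≤ N := fun h => hKN (hset ▸ h)
  have hNK : N ≤ K :=
    (Conjugate.normal_le_or_ge hR hset hKn inferInstance hfix).resolve_left hKN'
  set q := QuotientGroup.mk' N with hq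
  have hRN : ∀ a ∈ R, q a = 1 → a = 1 := fun a ha h1 =>
    hK0 a ha (hNK ((QuotientGroup.eq_one_iff a).1 h1))
  -- lifting equalities between conjugates of elements of `R`
  have hlift : ∀ x ∈ R, x ≠ 1 → ∀ r ∈ R, ∀ g : G, q (g * r * g⁻¹) = q x →
      g ∈ N ⊔ R := by
    intro x hx hx1 r hr g hg
    let f : N → N := fun m => ⟨(m : G) * x * (m : G)⁻¹ * x⁻¹, by
      have h1 := (inferInstance : N.Normal).conj_mem _ (inv_mem m.2) x
      have h2 := N.mul_mem m.2 h1
      simpa [mul_assoc] using h2⟩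
    have hf : Function.Bijective f := Finite.injective_iff_bijective.1 fun u v huv => by
      have e : (u : G) * x * (u : G)⁻¹ * x⁻¹ = (v : G) * x * (v : G)⁻¹ * x⁻¹ :=
        congrArg Subtype.val huv
      rw [mul_left_inj] at e
      have h1 : ((v : G)⁻¹ * u) ∈ K ⊓ Subgroup.centralizer {x} := by
        refine Subgroup.mem_inf.2 ⟨hNK (mul_mem (inv_mem v.2) u.2),
          Subgroup.mem_centralizer_singleton_iff.2 ?_⟩
        calc (v : G)⁻¹ * u * x = (v : G)⁻¹ * ((u : G) * x * (u : G)⁻¹) * u := by group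
          _ = _ := by rw [e]; group
      rw [hfix x hx hx1, Subgroup.mem_bot] at h1
      exact Subtype.ext (inv_mul_eq_one.1 h1).symm
    have hmem : g * r * g⁻¹ * x⁻¹ ∈ N := (QuotientGroup.eq_one_iff _).1 (by
      show q (g * r * g⁻¹ * x⁻¹) = 1
      rw [map_mul, hg, map_inv, mul_inv_cancel])
    obtain ⟨m, hm⟩ := hf.2 ⟨_, hmem⟩
    have hm' : (m : G) * x * (m : G)⁻¹ = g * r * g⁻¹ :=
      mul_right_cancel (congrArg Subtype.val hm)
    have hgR : g⁻¹ * (m : G) ∈ R := by
      have h3 : (g⁻¹ * (m : G))⁻¹ * r * (g⁻¹ * m) = x := by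
        calc (g⁻¹ * (m : G))⁻¹ * r * (g⁻¹ * m) = (m : G)⁻¹ * (g * r * g⁻¹) * m := by group
          _ = x := by rw [← hm']; group
      refine Kernel.mem_of_mem_conj hR hr (fun h => hx1 ?_) (h3 ▸ hx)
      rw [← h3, h]; group
    have : g = (m : G) * (g⁻¹ * (m : G))⁻¹ := by group
    rw [this]
    exact Subgroup.mul_mem_sup m.2 (inv_mem hgR)
  have hqN : ∀ m ∈ N, q m = 1 := fun m hm => (QuotientGroup.eq_one_iff m).2 hm
  refine ⟨⟨?_, ?_, ?_⟩, ?_⟩
  · intro h
    exact hR.1 (eq_bot_iff.2 fun a ha => Subgroup.mem_bot.2 (hRN a ha (Subgroup.mem_bot.1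
      (h ▸ Subgroup.mem_map_of_mem q ha))))
  · intro h
    refine hKN' fun x hx => ?_
    have hx' : q x ∈ R.map q := by rw [h]; trivial
    obtain ⟨a, ha, hax⟩ := hx'
    have hax' : a⁻¹ * x ∈ N := QuotientGroup.eq.1 hax
    have ha1 : a = 1 := hK0 a ha (by
      have := K.mul_mem hx (K.inv_mem (hNK hax'))
      simpa [mul_assoc] using this)
    simpa [ha1] using hax'
  · intro y hy
    rw [eq_bot_iff]
    intro w hw
    obtain ⟨⟨x, hx, rfl⟩, hw2⟩ := Subgroup.mem_inf.1 hw
    obtain ⟨g, rfl⟩ := QuotientGroup.mk'_surjective N y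
    obtain ⟨r, hr, hrw⟩ := Kernel.mem_conj_smul.1 hw2
    by_cases hx1 : x = 1
    · simp [hx1]
    exfalso
    have hg := hlift x hx hx1 r hr g (by rw [map_mul, map_mul, map_inv, hrw]; simp [hq, mul_assoc])
    refine hy ?_
    obtain ⟨m, hm, a, ha, rfl⟩ := Subgroup.mem_sup_of_normal_left.1 hg
    exact ⟨a, ha, by rw [map_mul, hqN m hm, one_mul]⟩
  · ext y
    obtain ⟨g, rfl⟩ := QuotientGroup.mk'_surjective N y
    constructor
    · intro hy
      rw [Kernel.mem_frobeniusKernel] at hy
      rcases hy with hy | hy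
      · exact ⟨1, Kernel.mem_frobeniusKernel.2 (Or.inl rfl), by rw [hy, map_one]⟩
      · refine ⟨g, Kernel.mem_frobeniusKernel.2 (Or.inr fun c hc => hy (q c) ?_), rfl⟩
        exact ⟨_, hc, by rw [map_mul, map_mul, map_inv]⟩
    · rintro ⟨k, hk, hkg⟩
      rw [Kernel.mem_frobeniusKernel]
      by_cases h1 : q g = 1
      · exact Or.inl h1
      refine Or.inr fun c hc => h1 ?_
      obtain ⟨c, rfl⟩ := QuotientGroup.mk'_surjective N c
      rw [← hkg] at hc ⊢
      obtain ⟨a, ha, hac⟩ := hc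
      have hmem : a⁻¹ * (c⁻¹ * k * c) ∈ N := QuotientGroup.eq.1 (by
        simp only [hq, QuotientGroup.mk'_apply] at hac ⊢
        simpa using hac)
      have hck : c⁻¹ * k * c ∈ K := by
        have := hKn.conj_mem k (show k ∈ K by rw [← SetLike.mem_coe, hset]; exact hk) c⁻¹
        rwa [inv_inv] at this
      have ha1 : a = 1 := hK0 a ha (by
        have := K.mul_mem hck (K.inv_mem (hNK hmem))
        simpa [mul_assoc] using this)
      rw [ha1, inv_one, one_mul] at hmem
      have := (inferInstance : N.Normal).conj_mem _ hmem c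
      exact hqN k (by simpa [mul_assoc] using this)

end Cfsg.Agent.S3768
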