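import Cfsg.Statements.S3769
import Cfsg.Agent.Lib.Coprime.FixedPointFreeOnModule
-- import your own Cfsg.Agent.* helpers here

set_option autoImplicit false
open Cfsg

namespace Cfsg.Agent.S3769

open Subgroup CfsgLib.Coprime
open scoped commutatorElement

/-- Let G and V be subgroups of a finite group with G solvable of odd order normalizing V, V an elementary abelian ℓ-group for a prime ℓ not dividing the order of G, and suppose G has a normal Hall subgroup K with a complement R of prime order. If C_V(R) = 1, then [R, K] centralizes V. -/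
theorem result {X : Type*} [Group X] [Finite X] (G : Subgroup X) (hsolv : Group.IsSolvable G) (hodd : Odd (Nat.card G)) (V : Subgroup X) {ℓ : ℕ} (hℓ : ℓ.Prime) (hV : Cfsg.IsElementaryAbelian ℓ V) (hℓG : ¬ ℓ ∣ Nat.card G) (hGV : G ≤ Subgroup.normalizer (V : Set X)) (K R : Subgroup X) (hKG : K ≤ G) (hKn : G ≤ Subgroup.normalizer (K : Set X)) (hHall : (Nat.card K).Coprime (K.relIndex G)) (hRG : R ≤ G) (hR : (Nat.card R).Prime) (hKR : K ⊓ R = ⊥) (hKRG : K ⊔ R = G) (hCV : V ⊓ Subgroup.centralizer (R : Set X) = ⊥) : ⁅R, K⁆ ≤ Subgroup.centralizer (V : Set X) := by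
  classical
  haveI : Fact ℓ.Prime := ⟨hℓ⟩
  haveI hr : Fact (Nat.card R).Prime := ⟨hR⟩
  obtain ⟨x, hxR⟩ : ∃ x, R = zpowers x := by
    obtain ⟨⟨x, hx⟩, hgen⟩ := (isCyclic_of_prime_card (α := R) rfl).exists_generator
    refine ⟨x, le_antisymm (fun k hk => ?_) (zpowers_le.mpr hx)⟩
    obtain ⟨i, hi⟩ := mem_zpowers_iff.mp (hgen ⟨k, hk⟩)
    exact mem_zpowers_iff.mpr ⟨i, by simpa using congrArg Subtype.val hi⟩
  subst hxR
  set R := zpowers x with hRdef
  set r := Nat.card R with hrdef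
  have hxG : x ∈ G := hRG (mem_zpowers x)
  have hxr : x ^ r = 1 := by rw [hrdef, Nat.card_zpowers, pow_orderOf_eq_one]
  have hr2 : r ≠ 2 := fun h => by
    have h1 := Odd.of_dvd_nat hodd (card_dvd_of_le hRG)
    rw [← hrdef, h] at h1
    exact (Nat.not_odd_iff_even.mpr even_two) h1
  have hlr : ℓ ≠ r := fun h => hℓG (h ▸ card_dvd_of_le hRG)
  have hrK : ¬ r ∣ Nat.card K := by
    intro h
    haveI : (K.subgroupOf G).Normal := normal_subgroupOf_of_le_normalizer hKn
    have h1 : r ∣ K.relIndex G := by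
      have hi : Function.Injective ((QuotientGroup.mk' (K.subgroupOf G)).comp (inclusion hRG)) := by
        rw [injective_iff_map_eq_one]
        intro a ha
        have h2 : (a : X) ∈ K ⊓ R := ⟨(QuotientGroup.eq_one_iff (N := K.subgroupOf G) (inclusion hRG a)).mp ha, a.2⟩
        rw [hKR, mem_bot] at h2
        exact Subtype.ext h2
      rw [hrdef, Subgroup.relIndex, Subgroup.index]
      exact Subgroup.card_dvd_of_injective _ hi
    exact hR.ne_one (Nat.eq_one_of_dvd_coprimes hHall h h1)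
  have hRK : R ≤ normalizer (K : Set X) := hRG.trans hKn
  have hcop : (Nat.card R).Coprime (Nat.card K) := (Nat.Prime.coprime_iff_not_dvd hR).mpr hrK
  have hCx : V ⊓ centralizer ({x} : Set X) = ⊥ := by
    rw [← centralizer_closure, ← zpowers_eq_closure]; exact hCV
  let φ : G →* MulAut V := V.normalizerMonoidHom.comp (inclusion hGV)
  let xG : G := ⟨x, hxG⟩
  let T : Subgroup X := ((centralizer ({φ xG} : Set (MulAut V))).comap φ).map G.subtype ⊓ K
  have hTK : T = K := by
    refine eq_of_le_of_card_ge inf_le_right (Nat.le_of_dvd Nat.card_pos ?_)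
    refine Nat.dvd_iff_prime_pow_dvd_dvd _ _ |>.mpr fun q k hq hdvd => ?_
    rcases Nat.eq_zero_or_pos k with rfl | hk
    · simp
    haveI : Fact q.Prime := ⟨hq⟩
    have hqK : q ∣ Nat.card K := (dvd_pow_self q hk.ne').trans hdvd
    have hqG : q ∣ Nat.card G := hqK.trans (card_dvd_of_le hKG)
    obtain ⟨P, hP⟩ := exists_invariant_sylow hRK hcop (.inl (isSolvable_zpowers x)) q
    set Q := (P : Subgroup K).map K.subtype with hQdef
    have hQK : Q ≤ K := map_subtype_le _
    have hq2 : q ≠ 2 := fun h => by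
      have h1 := Odd.of_dvd_nat hodd hqG
      rw [h] at h1
      exact (Nat.not_odd_iff_even.mpr even_two) h1
    have h := FixedPointFreeOnModule.main _ X q r ℓ V Q x rfl hq2 hr2 (fun h => hℓG (h ▸ hqG)) hlr
      (fun h => hrK (h ▸ hqK)) hV (P.2.map _) ((hQK.trans hKG).trans hGV) (hGV hxG) (hP (mem_zpowers x)) hxr hCx
    have hQT : Q ≤ T := fun g hg => by
      refine ⟨⟨⟨g, hKG (hQK hg)⟩, mem_centralizer_singleton_iff.mpr ?_, rfl⟩, hQK hg⟩
      show Commute (φ ⟨g, hKG (hQK hg)⟩) (φ xG)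
      rw [← commutatorElement_eq_one_iff_commute, ← map_commutatorElement]
      have h1 : ⁅g, x⁆ ∈ centralizer (V : Set X) := h (commutator_mem_commutator hg (mem_zpowers x))
      refine MulEquiv.ext fun v => Subtype.ext ?_
      show ⁅g, x⁆ * (v : X) * ⁅g, x⁆⁻¹ = v
      rw [← mem_centralizer_iff.mp h1 v v.2, mul_inv_cancel_right]
    refine dvd_trans ?_ (card_dvd_of_le hQT)
    rw [card_map_subtype, P.card_eq_multiplicity]
    exact pow_dvd_pow q ((hq.pow_dvd_iff_le_factorization Nat.card_pos.ne').mp hdvd)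
  refine commutator_le.mpr fun a ha k hk => ?_
  obtain ⟨⟨g, hg, hge⟩, -⟩ := hTK.symm.le hk
  obtain ⟨i, rfl⟩ := mem_zpowers_iff.mp ha
  have h1 : Commute (φ (xG ^ i)) (φ g) := by
    rw [map_zpow]
    exact (Commute.symm (mem_centralizer_singleton_iff.mp hg)).zpow_left i
  have h2 : φ ⁅xG ^ i, g⁆ = 1 := by
    rw [map_commutatorElement]; exact commutatorElement_eq_one_iff_commute.mpr h1
  refine mem_centralizer_iff.mpr fun v hv => ?_
  have h3 := congrArg (fun f : MulAut V => ((f ⟨v, hv⟩ : V) : X)) h2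
  change ((⁅xG ^ i, g⁆ : G) : X) * v * ((⁅xG ^ i, g⁆ : G) : X)⁻¹ = v at h3
  have h4 : ((⁅xG ^ i, g⁆ : G) : X) = ⁅x ^ i, k⁆ := by
    rw [← hge]; simp [commutatorElement_def, xG]
  rw [h4] at h3
  exact (mul_inv_eq_iff_eq_mul.mp h3).symm
end Cfsg.Agent.S3769
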