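import Cfsg.Statements.S3770
import Cfsg.Agent.Lib.Solvable.FPFOperators.OneFixedLine
import Cfsg.Agent.Lib.Solvable.FPFNilpotent
-- import your own Cfsg.Agent.* helpers here

set_option autoImplicit false
open Cfsg

open scoped commutatorElement

namespace Cfsg.Agent.S3770

/-- Let G and V be subgroups of a finite group with G a Frobenius group with complement R of prime order and kernel K, G normalizing V, and V an elementary abelian ℓ-group for a prime ℓ not dividing the order of G. If C_V(R) has order ℓ, then the derived subgroup of K centralizes V. -/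
theorem result {X : Type*} [Group X] [Finite X] (G : Subgroup X) (V : Subgroup X) {ℓ : ℕ} (hℓ : ℓ.Prime) (hV : Cfsg.IsElementaryAbelian ℓ V) (hℓG : ¬ ℓ ∣ Nat.card G) (hGV : G ≤ Subgroup.normalizer (V : Set X)) (R : Subgroup ↥G) (hR : Cfsg.IsFrobeniusComplement R) (hRp : (Nat.card R).Prime) (hCV : Nat.card ↥(V ⊓ Subgroup.centralizer ((R.map G.subtype : Subgroup X) : Set X)) = ℓ) : ⁅Subgroup.closure (Subtype.val '' Cfsg.frobeniusKernel R), Subgroup.closure (Subtype.val '' Cfsg.frobeniusKernel R)⁆ ≤ Subgroup.centralizer (V : Set X) := by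
  classical
  open CfsgLib in
  haveI := Fact.mk hℓ
  obtain ⟨N, hNn, -, -, hfpf, -, hset⟩ := FrobRealize.FPF.exists_fpf_kernel hR
  obtain ⟨N', hset', -, hnil⟩ := Solvable.FPFNilpotent.frobenius_kernel_nilpotent hR
  obtain rfl : N' = N := SetLike.coe_injective (hset'.trans hset.symm)
  haveI := hNn
  haveI := hnil
  haveI := Fact.mk hRp
  obtain ⟨a, ha⟩ := exists_prime_orderOf_dvd_card' (G := R) (Nat.card R) dvd_rfl
  have har : (a : G) ^ Nat.card R = 1 := by
    rw [← SubmonoidClass.coe_pow, pow_card_eq_one', OneMemClass.coe_one]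
  have ha1 : (a : G) ≠ 1 := fun h => by
    rw [show a = 1 from Subtype.ext h, orderOf_one] at ha
    exact hRp.one_lt.ne ha
  have hfix : ∀ y ∈ N', (a : G) * y = y * a → y = 1 := fun y hy hay => by
    have h : y ∈ N' ⊓ Subgroup.centralizer {(a : G)} :=
      ⟨hy, Subgroup.mem_centralizer_singleton_iff.mpr hay.symm⟩
    rwa [hfpf _ a.2 ha1, Subgroup.mem_bot] at h
  haveI := hV.1
  letI : CommGroup V := { (inferInstance : Group V) with mul_comm := mul_comm' }
  let φ : G →* MulAut V := Coprime.conjHom hGV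
  set C := V ⊓ Subgroup.centralizer ((R.map G.subtype : Subgroup X) : Set X) with hC
  obtain ⟨⟨c, hc⟩, hc1⟩ : ∃ c : C, c ≠ 1 := by
    haveI : Nontrivial C := Finite.one_lt_card_iff_nontrivial.mp (hCV ▸ hℓ.one_lt)
    exact exists_ne 1
  have hRa : R = Subgroup.zpowers a.1 := by
    refine (Subgroup.eq_of_le_of_card_ge (Subgroup.zpowers_le.2 a.2) ?_).symm
    rw [Nat.card_zpowers, Subgroup.orderOf_coe, ha]
  have hw : ∀ b : V, φ (a : G) b = b → b ∈ Subgroup.zpowers (⟨c, hc.1⟩ : V) := by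
    intro b hb
    have hba : Commute (((a : G)) : X) (b : X) :=
      mul_inv_eq_iff_eq_mul.1 ((Coprime.conjHom_apply hGV (a : G) b).symm.trans (congrArg Subtype.val hb))
    have hbC : (b : X) ∈ C := by
      refine ⟨b.2, Subgroup.mem_centralizer_iff.2 fun w hw => ?_⟩
      rw [hRa] at hw
      obtain ⟨_, ⟨i, rfl⟩, rfl⟩ := hw
      exact (hba.zpow_left i).eq
    haveI : Fact (Nat.card C).Prime := ⟨hCV ▸ hℓ⟩
    obtain ⟨i, hi⟩ := Subgroup.mem_zpowers_iff.1
      ((zpowers_eq_top_of_prime_card (G := C) rfl hc1).symm ▸ Subgroup.mem_top (⟨b, hbC⟩ : C) :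
        (⟨b, hbC⟩ : C) ∈ Subgroup.zpowers (⟨c, hc⟩ : C))
    exact Subgroup.mem_zpowers_iff.2 ⟨i, Subtype.ext (congrArg (fun z : C => (z : X)) hi)⟩
  obtain ⟨W, iW, iM, ρ, hρ, hline⟩ := Solvable.FPFOperators.exists_line_rep
    (K := AlgebraicClosure (ZMod ℓ)) (fun b : V => Subtype.ext (hV.2 b b.2)) φ har hw
  have hK : (Nat.card N' : AlgebraicClosure (ZMod ℓ)) ≠ 0 := fun h0 => hℓG
    (((CharP.cast_eq_zero_iff (AlgebraicClosure (ZMod ℓ)) ℓ _).mp h0).trans (Subgroup.card_subgroup_dvd_card N'))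
  have hgen : Subgroup.closure (Subtype.val '' Cfsg.frobeniusKernel R) ≤ N'.map G.subtype := by
    rw [Subgroup.closure_le, ← hset]
    exact subset_rfl
  refine (Subgroup.commutator_mono hgen hgen).trans ?_
  rw [Subgroup.commutator_le]
  rintro _ ⟨y, hy, rfl⟩ _ ⟨z, hz, rfl⟩
  refine Subgroup.mem_centralizer_iff.2 fun b hb => ?_
  have h1 := Solvable.FPFOperators.one_line_linear N' ρ hRp har hfix hK hline hy hz
  have h2 : φ ⁅y, z⁆ ⟨b, hb⟩ = ⟨b, hb⟩ := hρ _ (by
    rw [show ⁅y, z⁆ = y * z * (z * y)⁻¹ by rw [commutatorElement_def]; group, map_mul, h1, ← map_mul,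
      mul_inv_cancel, map_one]) _
  exact (mul_inv_eq_iff_eq_mul.1 ((Coprime.conjHom_apply hGV ⁅y, z⁆ ⟨b, hb⟩).symm.trans (congrArg Subtype.val h2))).symm

end Cfsg.Agent.S3770
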