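import Cfsg.Statements.S3771
import Cfsg.Agent.Lib.FrobRealize.Quaternion
import Cfsg.Agent.Lib.Solvable.FrattiniFitting
-- import your own Cfsg.Agent.* helpers here

set_option autoImplicit false
open Cfsg

namespace Cfsg.Agent.S3771

/-- Let p be a prime and R a finite p-group of p-rank at most 2 (no elementary abelian subgroup of order p³) in which every element has order dividing p. Then R has order at most p³. -/
theorem result {R : Type*} [Group R] [Finite R] {p : ℕ} [Fact p.Prime] (hR : IsPGroup p R) (hrank : Cfsg.PRankLE p 2 R) (hexp : ∀ x : R, x ^ p = 1) : Nat.card R ≤ p ^ 3 := by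
  have hp : p.Prime := Fact.out
  obtain ⟨A, hAn, hAc, hAcent⟩ := CfsgLib.FrobRealize.Quaternion.exists_self_centralizing hR
  have hA2 : Nat.card A ≤ p ^ 2 := hrank A ⟨⟨fun a b => Subtype.ext (hAc a a.2 b b.2)⟩⟩ fun a _ => hexp a
  by_cases hcen : A ≤ Subgroup.center R
  · have htop : A = ⊤ := eq_top_iff.2 fun g _ => hAcent g fun a ha => Subgroup.mem_center_iff.1 (hcen ha) g
    rw [htop, Subgroup.card_top] at hA2
    exact hA2.trans (Nat.pow_le_pow_right hp.pos (by norm_num))
  obtain ⟨a, haA, haZ⟩ := SetLike.not_le_iff_exists.1 hcen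
  -- `A` is generated by its central part and `a`
  obtain ⟨k, hk⟩ := IsPGroup.iff_card.1 (hR.to_subgroup A)
  have hA0 : A ≠ ⊥ := fun h => haZ (by rw [h] at haA; rw [Subgroup.mem_bot.1 haA]; exact one_mem _)
  have := hR.isNilpotent
  have hZA : A ⊓ Subgroup.center R ≠ ⊥ := CfsgLib.Solvable.FrattiniFitting.inf_center_ne_bot A hA0
  -- every element centralising `a` centralises `A`
  have hCa : Subgroup.centralizer ({a} : Set R) ≤ A := by
    intro g hg
    refine hAcent g fun b hb => ?_
    set B := (A ⊓ Subgroup.center R) ⊔ Subgroup.zpowers a with hB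
    have hBA : B ≤ A := sup_le inf_le_left (Subgroup.zpowers_le.2 haA)
    have hlt : A ⊓ Subgroup.center R < B := lt_of_le_of_ne le_sup_left fun h => haZ
      (show a ∈ A ⊓ Subgroup.center R from h ▸ Subgroup.mem_sup_right (Subgroup.mem_zpowers a)).2
    obtain ⟨i, -, hi⟩ := (Nat.dvd_prime_pow hp).1 (hk ▸ Subgroup.card_dvd_of_le (inf_le_left : A ⊓ Subgroup.center R ≤ A))
    obtain ⟨j, -, hj⟩ := (Nat.dvd_prime_pow hp).1 (hk ▸ Subgroup.card_dvd_of_le hBA)
    have hi0 : i ≠ 0 := fun h => hZA (Subgroup.card_eq_one.1 (by rw [hi, h, pow_zero]))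
    have hij : i < j := by
      by_contra hle
      exact hlt.ne (Subgroup.eq_of_le_of_card_ge hlt.le (by rw [hi, hj]; exact Nat.pow_le_pow_right hp.pos (not_lt.1 hle)))
    have hBeq : B = A := Subgroup.eq_of_le_of_card_ge hBA
      (hA2.trans (by rw [hj]; exact Nat.pow_le_pow_right hp.pos (by omega)))
    have hle : B ≤ Subgroup.centralizer ({g} : Set R) := sup_le
      (fun z hz => Subgroup.mem_centralizer_singleton_iff.2 (Subgroup.mem_center_iff.1 hz.2 g).symm)
      (Subgroup.zpowers_le.2 (Subgroup.mem_centralizer_singleton_iff.2 (Subgroup.mem_centralizer_singleton_iff.1 hg).symm))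
    exact (Subgroup.mem_centralizer_singleton_iff.1 (hle (hBeq.ge hb))).symm
  -- the class of `a` lies in `A` and avoids `1`
  let f : R ⧸ Subgroup.centralizer ({a} : Set R) → A := Quotient.lift
    (fun g => (⟨g * a * g⁻¹, hAn.conj_mem a haA g⟩ : A)) fun g g' h => by
      rw [← Quotient.eq_iff_equiv, Quotient.eq, QuotientGroup.leftRel_apply, Subgroup.mem_centralizer_singleton_iff] at h
      refine Subtype.ext ?_
      show g * a * g⁻¹ = g' * a * g'⁻¹
      calc g * a * g⁻¹ = g * (a * (g⁻¹ * g')) * g'⁻¹ := by group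
        _ = g * ((g⁻¹ * g') * a) * g'⁻¹ := by rw [h]
        _ = g' * a * g'⁻¹ := by group
  have hf : Function.Injective f := by
    intro u v
    induction u using Quotient.inductionOn' with | _ g =>
    induction v using Quotient.inductionOn' with | _ g' =>
    intro h
    rw [Quotient.eq'', QuotientGroup.leftRel_apply, Subgroup.mem_centralizer_singleton_iff]
    have h' : g * a * g⁻¹ = g' * a * g'⁻¹ := congrArg Subtype.val h
    calc g⁻¹ * g' * a = g⁻¹ * (g' * a * g'⁻¹) * g' := by group
      _ = g⁻¹ * (g * a * g⁻¹) * g' := by rw [h']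
      _ = a * (g⁻¹ * g') := by group
  have h1 : ¬ (1 : A) ∈ Set.range f := by
    rintro ⟨u, hu⟩
    induction u using Quotient.inductionOn' with | _ g =>
    have h' : g * a * g⁻¹ = 1 := congrArg Subtype.val hu
    rw [mul_inv_eq_one, mul_eq_left] at h'
    exact haZ (h' ▸ one_mem _)
  have hlt : (Subgroup.centralizer ({a} : Set R)).index < p ^ 2 := by
    rw [Subgroup.index_eq_card, ← Set.ncard_range_of_injective hf]
    exact ((Set.ncard_lt_ncard ((Set.ne_univ_iff_exists_notMem _).2 ⟨1, h1⟩ |> (Set.subset_univ _).ssubset_of_ne)).trans_eq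
      (Set.ncard_univ A)).trans_le hA2
  obtain ⟨i, hi⟩ := hR.index (Subgroup.centralizer ({a} : Set R))
  rw [hi] at hlt
  have hi1 : i ≤ 1 := Nat.lt_succ_iff.1 ((Nat.pow_lt_pow_iff_right hp.one_lt).1 hlt)
  calc Nat.card R = A.index * Nat.card A := (Subgroup.index_mul_card A).symm
    _ ≤ p * p ^ 2 := Nat.mul_le_mul ((Nat.le_of_dvd (Nat.pos_of_ne_zero Subgroup.index_ne_zero_of_finite)
        (Subgroup.index_dvd_of_le hCa)).trans (by rw [hi]; exact (Nat.pow_le_pow_right hp.pos hi1).trans (pow_one p).le)) hA2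
    _ = p ^ 3 := (pow_succ' p 2).symm

end Cfsg.Agent.S3771
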