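import Cfsg.Statements.S3772
import Cfsg.Agent.Lib.PGroup.Frattini
-- import your own Cfsg.Agent.* helpers here

set_option autoImplicit false
open Cfsg

namespace Cfsg.Agent.S3772

open scoped commutatorElement
open CfsgLib.PGroup.Frattini

variable {G : Type*} [Group G]

/-- Sum of a sign function flipped by a translation vanishes. -/
theorem sum_eq_zero_of_flip [Fintype G] (f : G → ℤ) (y : G) (h : ∀ x, f (y * x) = - f x) :
    ∑ x, f x = 0 := by
  have h1 : ∑ x, f (y * x) = ∑ x, f x := Fintype.sum_equiv (Equiv.mulLeft y) _ _ fun _ => rfl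
  simp only [h, Finset.sum_neg_distrib] at h1
  omega

/-- A group of exponent two with trivial commutators has trivial Frattini subgroup. -/
theorem frattini_eq_bot [Finite G] (h2 : ∀ x : G, x ^ 2 = 1) : frattini G = ⊥ := by
  have hcomm : ∀ x y : G, x * y = y * x := by
    intro x y
    have hi : ∀ g : G, g⁻¹ = g := fun g => inv_eq_of_mul_eq_one_right (by rw [← pow_two]; exact h2 g)
    rw [← hi (x * y), mul_inv_rev, hi, hi]
  by_contra hne
  obtain ⟨z, hz, hz1⟩ := (Subgroup.bot_or_exists_ne_one (frattini G)).resolve_left hne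
  obtain ⟨H, -, hzH, hmax⟩ := Finite.exists_le_maximal
    (p := fun H : Subgroup G => z ∉ H) (a := ⊥) (fun h => hz1 (Subgroup.mem_bot.1 h))
  refine hzH (frattini_le_coatom (K := H) ⟨fun h => hzH (h ▸ Subgroup.mem_top z), fun K hK => ?_⟩ hz)
  rw [eq_top_iff]
  intro x _
  have hzK : z ∈ K := by
    by_contra h
    exact hK.not_ge (hmax h hK.le)
  by_contra hx
  have hzx : z ∈ H ⊔ Subgroup.zpowers x := by
    by_contra h
    exact hx (hK.le (hmax h le_sup_left (Subgroup.mem_sup_right (Subgroup.mem_zpowers x))))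
  have : (H : Subgroup G).Normal := ⟨fun a ha g => by rwa [hcomm g a, mul_inv_cancel_right]⟩
  obtain ⟨a, ha, b, hb, hab⟩ := Subgroup.mem_sup_of_normal_left.1 hzx
  obtain ⟨i, rfl⟩ := Subgroup.mem_zpowers_iff.1 hb
  rcases Int.even_or_odd i with ⟨j, rfl⟩ | ⟨j, rfl⟩
  · have : x ^ (j + j) = 1 := by
      rw [show j + j = (2 : ℤ) * j by ring, zpow_mul, zpow_two, ← pow_two, h2, one_zpow]
    rw [this, mul_one] at hab
    exact hzH (hab ▸ ha)
  · have : x ^ (2 * j + 1) = x := by
      rw [zpow_add_one, zpow_mul, zpow_two, ← pow_two, h2, one_zpow, one_mul]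
    rw [this] at hab
    refine hx ?_
    have := K.mul_mem (K.inv_mem (hK.le ha)) hzK
    rwa [← hab, inv_mul_cancel_left] at this

/-- Let G be a finite 2-group whose Frattini subgroup Φ(G) has order 2, with |G : Φ(G)| = 2^d, and let j be the number of elements x of G with x² = 1. Then j = 2^d, or j = 2^d + 2^(d−r) or j = 2^d − 2^(d−r) for some positive integer r with 2r ≤ d. Moreover if d = 2r and j is 2^d + 2^r or 2^d − 2^r, then G is extraspecial. -/
theorem result {G : Type*} [Group G] [Finite G] (hG : IsPGroup 2 G) (hΦ : Nat.card (frattini G) = 2) (d : ℕ) (hd : (frattini G).index = 2 ^ d) : (Nat.card {x : G // x ^ 2 = 1} = 2 ^ d ∨ ∃ r : ℕ, 1 ≤ r ∧ 2 * r ≤ d ∧ (Nat.card {x : G // x ^ 2 = 1} = 2 ^ d + 2 ^ (d - r) ∨ Nat.card {x : G // x ^ 2 = 1} + 2 ^ (d - r) = 2 ^ d)) ∧ (∀ r : ℕ, d = 2 * r → (Nat.card {x : G // x ^ 2 = 1} = 2 ^ d + 2 ^ r ∨ Nat.card {x : G // x ^ 2 = 1} + 2 ^ r = 2 ^ d) → Cfsg.IsExtraspecial 2 G) := by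
  classical
  have := Fintype.ofFinite G
  have hGc : Nat.card G = 2 ^ (d + 1) := by
    rw [← (frattini G).card_mul_index, hΦ, hd, pow_succ']
  obtain ⟨z, hz⟩ : ∃ z : G, ∀ u ∈ frattini G, u = 1 ∨ u = z := by
    obtain ⟨a, b, hab, huniv⟩ := Nat.card_eq_two_iff.1 hΦ
    by_cases ha : (a : G) = 1
    · refine ⟨(b : G), fun u hu => ?_⟩
      have h := Set.mem_univ (⟨u, hu⟩ : ↥(frattini G))
      rw [← huniv] at h
      rcases h with h | h
      · exact Or.inl ((congrArg Subtype.val h).trans ha)
      · exact Or.inr (congrArg Subtype.val h)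
    · refine ⟨(a : G), fun u hu => ?_⟩
      have h := Set.mem_univ (⟨u, hu⟩ : ↥(frattini G))
      rw [← huniv] at h
      rcases h with h | h
      · exact Or.inr (congrArg Subtype.val h)
      · left
        have h' := Set.mem_univ (1 : ↥(frattini G))
        rw [← huniv] at h'
        rcases h' with h' | h'
        · exact absurd (congrArg Subtype.val h').symm ha
        · exact congrArg Subtype.val (h.trans h'.symm)
  have hΦne : frattini G ≠ ⊥ := fun h => by rw [h, Subgroup.card_bot] at hΦ; omega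
  have hΦZ : ∀ u ∈ frattini G, ∀ g : G, g * u = u * g := by
    intro u hu g
    rcases hz u hu with rfl | hu'
    · simp
    · rcases hz _ ((inferInstance : (frattini G).Normal).conj_mem u hu g) with h | h
      · have : u = 1 := by simpa using h
        simp [this]
      · rw [← hu'] at h
        calc g * u = g * u * g⁻¹ * g := by simp
          _ = u * g := by rw [h]
  set s : G → ℤ := fun x => if x ^ 2 = 1 then 1 else -1 with hs
  set b : G → G → ℤ := fun x y => if ⁅y, x⁆ = 1 then 1 else -1 with hb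
  have hprod : ∀ u v : G, u ∈ frattini G → v ∈ frattini G →
      (if u * v = 1 then (1 : ℤ) else -1) =
        (if u = 1 then 1 else -1) * (if v = 1 then 1 else -1) := by
    intro u v hu hv
    by_cases hu1 : u = 1
    · simp [hu1]
    by_cases hv1 : v = 1
    · simp [hv1]
    have huz := (hz u hu).resolve_left hu1
    have hvz := (hz v hv).resolve_left hv1
    rcases hz _ ((frattini G).mul_mem hu hv) with h | h
    · simp [h, hu1, hv1]
    · rw [hvz] at h
      exact absurd (mul_eq_right.1 h) hu1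
  have hcen : ∀ (x y g : G), g * ⁅x, y⁆ = ⁅x, y⁆ * g := fun x y =>
    hΦZ _ (commutatorElement_mem_frattini hG x y)
  have hsq : ∀ x y : G, (x * y) ^ 2 = x ^ 2 * y ^ 2 * ⁅y, x⁆ := by
    intro x y
    have h0 : y * x = ⁅y, x⁆ * (x * y) := by simp [commutatorElement_def, mul_assoc]
    calc (x * y) ^ 2 = x * (y * x) * y := by rw [pow_two]; simp only [mul_assoc]
      _ = x * (⁅y, x⁆ * (x * y)) * y := by rw [← h0]
      _ = x ^ 2 * y ^ 2 * ⁅y, x⁆ := by
        rw [hcen y x (x ^ 2 * y ^ 2), ← mul_assoc x, hcen y x x, pow_two, pow_two]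
        simp only [mul_assoc]
  have hsmul : ∀ x y : G, s (x * y) = s x * s y * b x y := by
    intro x y
    simp only [hs, hb, hsq]
    rw [hprod _ _ ((frattini G).mul_mem (pow_mem_frattini hG x) (pow_mem_frattini hG y))
      (commutatorElement_mem_frattini hG y x), hprod _ _ (pow_mem_frattini hG x)
      (pow_mem_frattini hG y)]
  have hbmul : ∀ x x' y : G, b (x * x') y = b x y * b x' y := by
    intro x x' y
    have : ⁅y, x * x'⁆ = ⁅y, x⁆ * ⁅y, x'⁆ := by
      have h1 : ⁅y, x * x'⁆ = ⁅y, x⁆ * (x * ⁅y, x'⁆ * x⁻¹) := by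
        simp [commutatorElement_def, mul_assoc]
      rw [h1, hcen y x' x, mul_inv_cancel_right]
    simp only [hb, this]
    exact hprod _ _ (commutatorElement_mem_frattini hG _ _) (commutatorElement_mem_frattini hG _ _)
  have hs1 : ∀ x, s x * s x = 1 := fun x => by simp only [hs]; split <;> rfl
  set Z := Subgroup.center G with hZ
  set S : ℤ := ∑ x, s x with hS
  set T : ℤ := ∑ u ∈ Finset.univ.filter (fun u => u ∈ Z), s u with hT
  have hS2 : S * S = Nat.card G * T := by
    have h1 : S * S = ∑ u, s u * ∑ x, b x u := by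
      rw [hS, Finset.sum_mul]
      calc ∑ x, s x * ∑ y, s y = ∑ x, ∑ u, s u * b x u := by
            refine Finset.sum_congr rfl fun x _ => ?_
            rw [← Fintype.sum_equiv (Equiv.mulLeft x) (fun u => s (x * u)) s fun _ => rfl,
              Finset.mul_sum]
            refine Finset.sum_congr rfl fun u _ => ?_
            rw [hsmul, ← mul_assoc, ← mul_assoc, hs1, one_mul]
        _ = _ := by rw [Finset.sum_comm]; simp_rw [Finset.mul_sum]
    rw [h1, hT, Finset.mul_sum, Finset.sum_filter]
    refine Finset.sum_congr rfl fun u _ => ?_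
    by_cases hu : u ∈ Z
    · have : ∀ x, b x u = 1 := fun x => by
        simp only [hb, commutatorElement_eq_one_iff_mul_comm, Subgroup.mem_center_iff.1 hu x, if_true]
      rw [if_pos hu, Finset.sum_congr rfl fun x _ => this x]
      simp [Nat.card_eq_fintype_card, mul_comm]
    · obtain ⟨y, hy⟩ : ∃ y, ¬ y * u = u * y := by
        by_contra h; push Not at h; exact hu (Subgroup.mem_center_iff.2 h)
      rw [if_neg hu, sum_eq_zero_of_flip (fun x => b x u) y (fun x => by
        have : b y u = -1 := if_neg fun h => hy (commutatorElement_eq_one_iff_mul_comm.1 h).symm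
        show b (y * x) u = - b x u
        rw [hbmul, this, neg_one_mul]), mul_zero]
  have hT2 : (T = Nat.card Z ∧ ∀ u ∈ Z, u ^ 2 = 1) ∨ T = 0 := by
    by_cases h : ∀ u ∈ Z, u ^ 2 = 1
    · left
      refine ⟨?_, h⟩
      rw [hT, Finset.sum_congr rfl (fun u hu => show s u = 1 from
        if_pos (h u (Finset.mem_filter.1 hu).2))]
      simp [Nat.card_eq_fintype_card, Fintype.card_subtype]
    · right
      push Not at h
      obtain ⟨w, hw, hw2⟩ := h
      rw [hT, Finset.sum_filter]
      refine sum_eq_zero_of_flip _ w fun x => ?_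
      by_cases hx : x ∈ Z
      · rw [if_pos (Z.mul_mem hw hx), if_pos hx, hsmul]
        have h1 : s w = -1 := if_neg hw2
        have h2 : b w x = 1 :=
          if_pos (commutatorElement_eq_one_iff_mul_comm.2 (Subgroup.mem_center_iff.1 hw x))
        rw [h1, h2, neg_one_mul, mul_one]
      · rw [if_neg (fun h => hx ((Subgroup.mul_mem_cancel_left Z hw).1 h)), if_neg hx, neg_zero]
  set N := Nat.card {x : G // x ^ 2 = 1} with hN
  have hSN : S = 2 * (N : ℤ) - 2 ^ (d + 1) := by
    have : ∀ x, s x = 2 * (if x ^ 2 = 1 then (1 : ℤ) else 0) - 1 := fun x => by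
      simp only [hs]; split <;> rfl
    rw [hS, Finset.sum_congr rfl fun x _ => this x, Finset.sum_sub_distrib, ← Finset.mul_sum,
      Finset.sum_boole, hN, Nat.card_eq_fintype_card, Fintype.card_subtype]
    congr 1
    simp only [Finset.sum_const, Finset.card_univ, ← Nat.card_eq_fintype_card, hGc]
    simp
  obtain ⟨e, he⟩ := (hG.to_subgroup Z).exists_card_eq
  have hΦle : frattini G ≤ Z := fun u hu => Subgroup.mem_center_iff.2 (hΦZ u hu)
  have he1 : 1 ≤ e := by
    rcases Nat.eq_zero_or_pos e with rfl | h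
    · exact absurd (le_bot_iff.1 (Subgroup.eq_bot_of_card_eq Z (by simpa using he) ▸ hΦle)) hΦne
    · exact h
  have hele : e ≤ d + 1 := by
    have := Subgroup.card_subgroup_dvd_card Z
    rw [he, hGc] at this
    exact (Nat.pow_dvd_pow_iff_le_right (by norm_num)).1 this
  have hne_top : (∀ u ∈ Z, u ^ 2 = 1) → e ≠ d + 1 := fun h heq => by
    have : Z = ⊤ := Subgroup.eq_top_of_card_eq Z (by rw [he, hGc, heq])
    exact hΦne (frattini_eq_bot fun x => h x (by rw [this]; trivial))
  have main : N = 2 ^ d ∨ (∃ k, 2 * k = d + 1 + e ∧ (∀ u ∈ Z, u ^ 2 = 1) ∧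
      ((2 * (N : ℤ) - 2 ^ (d + 1) = 2 ^ k) ∨ (2 * (N : ℤ) - 2 ^ (d + 1) = - 2 ^ k))) := by
    rcases hT2 with ⟨h, h'⟩ | h
    · right
      have hsq' : S * S = 2 ^ (d + 1 + e) := by
        rw [hS2, h, he, hGc]; push_cast; rw [← pow_add]
      have hnat : S.natAbs * S.natAbs = 2 ^ (d + 1 + e) := by
        rw [← Int.natAbs_mul, hsq', Int.natAbs_pow]; rfl
      obtain ⟨k, -, hk⟩ := (Nat.dvd_prime_pow Nat.prime_two).1 (Dvd.intro _ hnat)
      rw [hk, ← pow_add] at hnat
      have := Nat.pow_right_injective le_rfl hnat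
      refine ⟨k, by omega, h', ?_⟩
      rw [← hSN]
      rcases Int.natAbs_eq S with h1 | h1 <;> rw [hk] at h1 <;> push_cast at h1
      · exact Or.inl h1
      · exact Or.inr h1
    · left
      rw [h, mul_zero] at hS2
      have := mul_self_eq_zero.1 hS2
      rw [hSN, pow_succ] at this
      have : (N : ℤ) = ((2 ^ d : ℕ) : ℤ) := by push_cast; linarith
      exact_mod_cast this
  refine ⟨?_, ?_⟩
  · rcases main with h | ⟨k, hk, h', h⟩
    · exact Or.inl h
    · right
      have := hne_top h'
      refine ⟨d + 1 - k, by omega, by omega, ?_⟩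
      obtain ⟨k', rfl⟩ : ∃ k', k = k' + 1 := ⟨k - 1, by omega⟩
      have hdr : d - (d + 1 - (k' + 1)) = k' := by omega
      rw [hdr]
      rw [pow_succ, pow_succ] at h
      rcases h with h | h
      · left
        have : (N : ℤ) = ((2 ^ d + 2 ^ k' : ℕ) : ℤ) := by push_cast; linarith
        exact_mod_cast this
      · right
        have : ((N + 2 ^ k' : ℕ) : ℤ) = ((2 ^ d : ℕ) : ℤ) := by push_cast; linarith
        exact_mod_cast this
  · intro r hr hcase
    rcases main with h | ⟨k, hk, h', h⟩
    · exfalso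
      have := Nat.two_pow_pos r
      change N = _ ∨ N + _ = _ at hcase
      omega
    obtain ⟨k', rfl⟩ : ∃ k', k = k' + 1 := ⟨k - 1, by omega⟩
    have hk'r : k' = r := by
      refine Nat.pow_right_injective le_rfl ?_
      show 2 ^ k' = 2 ^ r
      rw [pow_succ, pow_succ] at h
      have h2 : (0 : ℤ) < 2 ^ k' := by positivity
      have h3 : (0 : ℤ) < 2 ^ r := by positivity
      change N = _ ∨ N + _ = _ at hcase
      have h1 : ((2 : ℤ) ^ k') = (2 : ℤ) ^ r := by
        rcases hcase with hc | hc <;> have hc' := congrArg (fun n : ℕ => (n : ℤ)) hc <;>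
          push_cast at hc' <;> rcases h with h | h <;> linarith
      exact_mod_cast h1
    have he2 : e = 1 := by omega
    have hZΦ : frattini G = Z :=
      Subgroup.eq_of_le_of_card_ge hΦle (by rw [he, he2, hΦ, pow_one])
    refine ⟨⟨hG, hZΦ, ?_⟩, by rw [← hZ, he, he2, pow_one]⟩
    have hle : commutator G ≤ Z := Subgroup.commutator_le.2 fun x _ y _ =>
      hΦle (commutatorElement_mem_frattini hG x y)
    refine Subgroup.eq_of_le_of_card_ge hle ?_
    rw [he, he2, pow_one]
    refine (Subgroup.one_lt_card_iff_ne_bot _).2 fun hbot => hne_top h' ?_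
    have hcm : ∀ x y : G, x * y = y * x := fun x y => commutatorElement_eq_one_iff_mul_comm.1
      (Subgroup.mem_bot.1 (hbot ▸ Subgroup.commutator_mem_commutator (Subgroup.mem_top x)
        (Subgroup.mem_top y)))
    have : Z = ⊤ := eq_top_iff.2 fun x _ => Subgroup.mem_center_iff.2 fun g => hcm g x
    rw [this, Subgroup.card_top, hGc] at he
    exact (Nat.pow_right_injective le_rfl he).symm

end Cfsg.Agent.S3772
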