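import Cfsg.Statements.S3773
import Cfsg.Agent.Lib.PGroup.Frattini
import Cfsg.Agent.Lib.Coprime.SchurZassenhaus
import Cfsg.Agent.Lib.Fusion.Thompson
import Cfsg.Agent.Lib.Solvable.Basic
import Mathlib.Algebra.BigOperators.Group.Finset.Basic
import Mathlib.GroupTheory.Nilpotent
-- import your own Cfsg.Agent.* helpers here

set_option autoImplicit false
open Cfsg

namespace Cfsg.Agent.S3773

open scoped commutatorElement

variable {G : Type*} [Group G] [Finite G]

/-- Adjoining an element whose square lies in a normalised subgroup. -/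
lemma mem_sup_zpowers {M : Subgroup G} {y : G} (hy : y * y ∈ M) (hn : ∀ m ∈ M, y * m * y⁻¹ ∈ M) {z : G}
    (hz : z ∈ M ⊔ Subgroup.zpowers y) : z ∈ M ∨ z * y⁻¹ ∈ M := by
  obtain ⟨m, hm, w, ⟨k, hw⟩, rfl⟩ := (CfsgLib.Coprime.mem_sup_of_le_normalizer
    (Subgroup.zpowers_le.2 (CfsgLib.Coprime.mem_normalizer_of_conj_map_le
      (fun m hm => hn m hm)))).1 hz
  have hw' : y ^ k = w := hw
  subst hw'
  rcases Int.even_or_odd k with ⟨l, rfl⟩ | ⟨l, rfl⟩
  · refine Or.inl (M.mul_mem hm ?_)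
    rw [← two_mul, zpow_mul, zpow_ofNat, sq]
    exact zpow_mem hy l
  · refine Or.inr ?_
    rw [zpow_add, zpow_mul, zpow_ofNat, sq, zpow_one, mul_assoc, mul_inv_cancel_right]
    exact M.mul_mem hm (zpow_mem hy l)

/-- A maximal subgroup containing `K` and avoiding `z`, when all squares and commutators lie in `K`. -/
lemma exists_hyperplane {K : Subgroup G} (hsq : ∀ x : G, x * x ∈ K) (hcomm : ∀ x y : G, x * y * x⁻¹ * y⁻¹ ∈ K)
    {z : G} (hz : z ∉ K) : ∃ M : Subgroup G, K ≤ M ∧ z ∉ M ∧ ∀ y, y ∉ M → y * z⁻¹ ∈ M := by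
  obtain ⟨M, -, ⟨hKM, hzM⟩, hmax⟩ := Finite.exists_le_maximal (p := fun M : Subgroup G => K ≤ M ∧ z ∉ M) ⟨le_rfl, hz⟩
  refine ⟨M, hKM, hzM, fun y hy => ?_⟩
  have hn : ∀ m ∈ M, y * m * y⁻¹ ∈ M := fun m hm => by
    have := M.mul_mem (hKM (hcomm y m)) hm
    rwa [inv_mul_cancel_right] at this
  have hlt : z ∈ M ⊔ Subgroup.zpowers y := by
    by_contra h
    exact hy (hmax ⟨hKM.trans le_sup_left, h⟩ le_sup_left (Subgroup.mem_sup_right (Subgroup.mem_zpowers y)))
  rcases mem_sup_zpowers (hKM (hsq y)) hn hlt with h | h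
  · exact absurd h hzM
  · have := M.inv_mem h
    rwa [mul_inv_rev, inv_inv] at this

lemma index_eq_two {M : Subgroup G} {z : G} (hz : z ∉ M) (h : ∀ y, y ∉ M → y * z⁻¹ ∈ M) :
    M.index = 2 := by
  rw [Subgroup.index_eq_two_iff]
  refine ⟨z⁻¹, fun b => ?_⟩
  by_cases hb : b ∈ M
  · refine Or.inr ⟨hb, fun hc => hz (M.inv_mem_iff.1 ?_)⟩
    have := M.mul_mem (M.inv_mem hb) hc
    rwa [inv_mul_cancel_left] at this
  · exact Or.inl ⟨h b hb, hb⟩

open Classical in
/-- The sign character of a subgroup of index at most two. -/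
lemma exists_sign {K : Subgroup G} (hsq : ∀ x : G, x * x ∈ K) (hcomm : ∀ x y : G, x * y * x⁻¹ * y⁻¹ ∈ K)
    {z : G} (hz : z ∉ K) : ∃ χ : G →* ℤˣ, χ z = -1 ∧ ∀ k ∈ K, χ k = 1 := by
  obtain ⟨M, hKM, hzM, hM⟩ := exists_hyperplane hsq hcomm hz
  have hidx := index_eq_two hzM hM
  refine ⟨MonoidHom.mk' (fun x => if x ∈ M then 1 else -1) fun x y => ?_, by simp [hzM], fun k hk => by simp [hKM hk]⟩
  show (if x * y ∈ M then (1 : ℤˣ) else -1) = (if x ∈ M then 1 else -1) * (if y ∈ M then 1 else -1)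
  have := Subgroup.mul_mem_iff_of_index_two hidx (a := x) (b := y)
  by_cases hx : x ∈ M <;> by_cases hy : y ∈ M <;> simp_all

/-- A sum invariant under translation by `Z` is divisible by `|Z|`. -/
lemma dvd_sum_of_invariant [Fintype G] (Z : Subgroup G) (g : G → ℤ) (h : ∀ u : G, ∀ z ∈ Z, g (u * z) = g u) :
    (Nat.card Z : ℤ) ∣ ∑ u, g u := by
  classical
  let _ : Fintype (G ⧸ Z) := Fintype.ofFinite _
  let _ : Fintype Z := Fintype.ofFinite _
  rw [← (Subgroup.groupEquivQuotientProdSubgroup (s := Z)).symm.sum_comp, Fintype.sum_prod_type, Nat.card_eq_fintype_card]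
  refine Finset.dvd_sum fun q _ => ?_
  have hconst : ∀ z : Z, g ((Subgroup.groupEquivQuotientProdSubgroup (s := Z)).symm (q, z))
      = g ((Subgroup.groupEquivQuotientProdSubgroup (s := Z)).symm (q, 1)) := by
    intro z
    set e := (Subgroup.groupEquivQuotientProdSubgroup (s := Z)).symm with he
    have h1 : ((e (q, z) : G) : G ⧸ Z) = q := congrArg Prod.fst (e.symm_apply_apply (q, z))
    have h2 : ((e (q, 1) : G) : G ⧸ Z) = q := congrArg Prod.fst (e.symm_apply_apply (q, 1))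
    have h3 : (e (q, 1))⁻¹ * e (q, z) ∈ Z := QuotientGroup.eq.1 (h2.trans h1.symm)
    have h4 := h (e (q, 1)) _ h3
    rwa [mul_inv_cancel_left] at h4
  rw [Finset.sum_congr rfl fun z _ => hconst z, Finset.sum_const, Finset.card_univ, nsmul_eq_mul]
  exact dvd_mul_right _ _

lemma two_pow_dvd_of_sq {S : ℤ} {k : ℕ} (h : (2 : ℤ) ^ (2 * k + 1) ∣ S * S) : (2 : ℤ) ^ (k + 1) ∣ S := by
  have h' : 2 ^ (2 * k + 1) ∣ S.natAbs * S.natAbs := by
    simpa [Int.natAbs_mul, Int.natAbs_pow] using Int.natAbs_dvd_natAbs.2 h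
  suffices hg : 2 ^ (k + 1) ∣ S.natAbs by
    rw [← Int.natAbs_dvd_natAbs, Int.natAbs_pow]; simpa using hg
  by_cases h0 : S.natAbs = 0
  · rw [h0]; exact dvd_zero _
  rw [Nat.Prime.pow_dvd_iff_le_factorization Nat.prime_two (Nat.mul_ne_zero h0 h0), Nat.factorization_mul h0 h0] at h'
  rw [Nat.Prime.pow_dvd_iff_le_factorization Nat.prime_two h0]
  simp only [Finsupp.coe_add, Pi.add_apply] at h'
  omega

/-- A quadratic map with trivial zero set on an elementary abelian `2`-group needs at most twice as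
many variables as values. -/
theorem core (hG : IsPGroup 2 G) (Φ₀ Φ₁ : Subgroup G) (hle : Φ₁ ≤ Φ₀) (hcen : Φ₀ ≤ Subgroup.center G)
    (hsq : ∀ x : G, x * x ∈ Φ₁) (hzero : ∀ x : G, x * x = 1 ↔ x ∈ Φ₀) :
    Nat.card G ≤ Nat.card Φ₀ * Nat.card Φ₁ ^ 2 := by
  classical
  let _ : Fintype G := Fintype.ofFinite G
  let _ : Fintype Φ₁ := Fintype.ofFinite _
  have hexp : ∀ z : Φ₁, z * z = 1 := fun z => Subtype.ext ((hzero z).2 (hle z.2))
  have hcom : ∀ (z : Φ₁) (x : G), x * (z : G) = (z : G) * x := fun z x => Subgroup.mem_center_iff.1 (hcen (hle z.2)) x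
  let _ : CommGroup Φ₁ := { (inferInstance : Group Φ₁) with mul_comm := fun a b => Subtype.ext (hcom b a) }
  let _ : Fintype (Φ₁ →* ℤˣ) := Fintype.ofFinite _
  have hsep : ∀ z : Φ₁, z ≠ 1 → ∃ χ : Φ₁ →* ℤˣ, χ z = -1 := fun z hz =>
    (exists_sign (G := Φ₁) (K := ⊥) (fun x => by simp [hexp x])
      (fun x y => by rw [mul_comm x y, mul_inv_cancel_right, mul_inv_cancel]; exact one_mem _)
      (by simpa using hz)).imp fun _ h => h.1
  have orth1 : ∀ z : Φ₁, z ≠ 1 → ∑ χ : Φ₁ →* ℤˣ, ((χ z : ℤˣ) : ℤ) = 0 := by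
    intro z hz
    obtain ⟨χ₀, h₀⟩ := hsep z hz
    have h := Equiv.sum_comp (Equiv.mulLeft χ₀) fun χ : Φ₁ →* ℤˣ => ((χ z : ℤˣ) : ℤ)
    simp only [Equiv.coe_mulLeft, MonoidHom.mul_apply, h₀, Units.val_mul, Units.val_neg, Units.val_one,
      neg_one_mul, Finset.sum_neg_distrib] at h
    linarith
  have orth2 : ∀ χ : Φ₁ →* ℤˣ, χ ≠ 1 → ∑ z : Φ₁, ((χ z : ℤˣ) : ℤ) = 0 := by
    intro χ hχ
    obtain ⟨z₀, hz₀⟩ : ∃ z₀, χ z₀ ≠ 1 := by
      by_contra hcon
      push Not at hcon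
      exact hχ (MonoidHom.ext hcon)
    have h₀ : χ z₀ = -1 := (Int.units_eq_one_or _).resolve_left hz₀
    have h := Equiv.sum_comp (Equiv.mulLeft z₀) fun z : Φ₁ => ((χ z : ℤˣ) : ℤ)
    simp only [Equiv.coe_mulLeft, map_mul, h₀, Units.val_mul, Units.val_neg, Units.val_one,
      neg_one_mul, Finset.sum_neg_distrib] at h
    linarith
  have hcardHom : (Fintype.card (Φ₁ →* ℤˣ) : ℤ) = Fintype.card Φ₁ := by
    have h1 : ∑ z : Φ₁, ∑ χ : Φ₁ →* ℤˣ, ((χ z : ℤˣ) : ℤ) = Fintype.card (Φ₁ →* ℤˣ) := by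
      rw [Finset.sum_eq_single 1 (fun z _ hz => orth1 z hz) (fun h => absurd (Finset.mem_univ _) h)]
      simp
    rw [Finset.sum_comm, Finset.sum_eq_single 1 (fun χ _ hχ => orth2 χ hχ) (fun h => absurd (Finset.mem_univ _) h)] at h1
    simpa using h1.symm
  let q : G → Φ₁ := fun x => ⟨x * x, hsq x⟩
  -- the commutator pairing
  have hc : ∀ u x : G, x⁻¹ * u * x * u⁻¹ ∈ Φ₁ := fun u x => by
    have h := Φ₁.mul_mem (Φ₁.mul_mem (Φ₁.inv_mem (hsq x)) (hsq (x * u))) (Φ₁.inv_mem (hsq u))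
    rwa [show (x * x)⁻¹ * ((x * u) * (x * u)) * (u * u)⁻¹ = x⁻¹ * u * x * u⁻¹ by group] at h
  let c : G → G → Φ₁ := fun u x => ⟨x⁻¹ * u * x * u⁻¹, hc u x⟩
  have hcmul : ∀ u x y, c u (x * y) = c u x * c u y := fun u x y => Subtype.ext (by
    show (x * y)⁻¹ * u * (x * y) * u⁻¹ = x⁻¹ * u * x * u⁻¹ * (y⁻¹ * u * y * u⁻¹)
    calc (x * y)⁻¹ * u * (x * y) * u⁻¹ = y⁻¹ * ((x⁻¹ * u * x * u⁻¹) * u) * y * u⁻¹ := by group
      _ = (y⁻¹ * (x⁻¹ * u * x * u⁻¹)) * u * y * u⁻¹ := by group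
      _ = ((x⁻¹ * u * x * u⁻¹) * y⁻¹) * u * y * u⁻¹ := by rw [← hcom ⟨_, hc u x⟩ y⁻¹]
      _ = _ := by group)
  have hq : ∀ x u, q x * q (x * u) = c u x * q u := fun x u => by
    have h1 : q (x * u) = q x * c u x * q u := Subtype.ext (by
      show (x * u) * (x * u) = x * x * (x⁻¹ * u * x * u⁻¹) * (u * u)
      group)
    rw [h1, ← mul_assoc, ← mul_assoc, hexp, one_mul]
  obtain ⟨n, hn⟩ := IsPGroup.iff_card.1 hG
  obtain ⟨a, ha⟩ := IsPGroup.iff_card.1 (hG.to_subgroup Φ₀)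
  obtain ⟨b, hb⟩ := IsPGroup.iff_card.1 (hG.to_subgroup Φ₁)
  -- each Gauss sum squared is divisible by `|G| |Φ₀|`
  have hdiv : ∀ χ : Φ₁ →* ℤˣ, (2 : ℤ) ^ (n + a) ∣
      (∑ x : G, ((χ (q x) : ℤˣ) : ℤ)) * (∑ x : G, ((χ (q x) : ℤˣ) : ℤ)) := by
    intro χ
    have h1 : (∑ x : G, ((χ (q x) : ℤˣ) : ℤ)) * (∑ x : G, ((χ (q x) : ℤˣ) : ℤ)) =
        ∑ u : G, ((χ (q u) : ℤˣ) : ℤ) * ∑ x : G, ((χ (c u x) : ℤˣ) : ℤ) := by
      rw [Finset.sum_mul_sum]
      calc ∑ x : G, ∑ y : G, ((χ (q x) : ℤˣ) : ℤ) * ((χ (q y) : ℤˣ) : ℤ)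
          = ∑ x : G, ∑ u : G, ((χ (c u x) : ℤˣ) : ℤ) * ((χ (q u) : ℤˣ) : ℤ) := by
            refine Finset.sum_congr rfl fun x _ => ?_
            rw [← Equiv.sum_comp (Equiv.mulLeft x)]
            refine Finset.sum_congr rfl fun u _ => ?_
            rw [Equiv.coe_mulLeft, ← Units.val_mul, ← map_mul, hq, map_mul, Units.val_mul]
        _ = _ := by
            rw [Finset.sum_comm]
            refine Finset.sum_congr rfl fun u _ => ?_
            rw [Finset.mul_sum]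
            exact Finset.sum_congr rfl fun x _ => mul_comm _ _
    rw [h1]
    have hin : ∀ u : G, ∑ x : G, ((χ (c u x) : ℤˣ) : ℤ) = if ∀ x, χ (c u x) = 1 then (2 : ℤ) ^ n else 0 := by
      intro u
      split_ifs with h
      · rw [Finset.sum_congr rfl fun x _ => show ((χ (c u x) : ℤˣ) : ℤ) = 1 by rw [h x, Units.val_one],
          Finset.sum_const, Finset.card_univ, ← Nat.card_eq_fintype_card, hn]
        simp
      · push Not at h
        obtain ⟨x₀, hx₀⟩ := h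
        have h₀ : χ (c u x₀) = -1 := (Int.units_eq_one_or _).resolve_left hx₀
        have h := Equiv.sum_comp (Equiv.mulLeft x₀) fun x : G => ((χ (c u x) : ℤˣ) : ℤ)
        simp only [Equiv.coe_mulLeft, hcmul, map_mul, h₀, Units.val_mul, Units.val_neg, Units.val_one,
          neg_one_mul, Finset.sum_neg_distrib] at h
        linarith
    have h2 : ∑ u : G, ((χ (q u) : ℤˣ) : ℤ) * ∑ x : G, ((χ (c u x) : ℤˣ) : ℤ)
        = (2 : ℤ) ^ n * ∑ u : G, (if ∀ x, χ (c u x) = 1 then ((χ (q u) : ℤˣ) : ℤ) else 0) := by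
      rw [Finset.mul_sum]
      refine Finset.sum_congr rfl fun u _ => ?_
      rw [hin]
      split_ifs <;> ring
    rw [h2, pow_add]
    refine mul_dvd_mul_left _ ?_
    have h3 := dvd_sum_of_invariant Φ₀ (fun u => if ∀ x, χ (c u x) = 1 then ((χ (q u) : ℤˣ) : ℤ) else 0) (fun u z hz => by
      have hz' : ∀ y : G, y * z = z * y := fun y => Subgroup.mem_center_iff.1 (hcen hz) y
      have hc1 : ∀ x, c (u * z) x = c u x := fun x => Subtype.ext (by
        show x⁻¹ * (u * z) * x * (u * z)⁻¹ = x⁻¹ * u * x * u⁻¹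
        rw [show x⁻¹ * (u * z) * x = x⁻¹ * u * (z * x) by group, ← hz' x]
        group)
      have hq1 : q (u * z) = q u := Subtype.ext (by
        show u * z * (u * z) = u * u
        calc u * z * (u * z) = u * (z * u) * z := by group
          _ = u * (u * z) * z := by rw [← hz' u]
          _ = u * u * (z * z) := by group
          _ = u * u := by rw [(hzero z).2 hz, mul_one])
      simp only [hc1, hq1])
    rw [ha] at h3
    exact_mod_cast h3
  by_contra hlt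
  rw [not_le, hn, ha, hb, ← pow_mul, ← pow_add] at hlt
  have hnab : a + b * 2 < n := (Nat.pow_lt_pow_iff_right one_lt_two).1 hlt
  have htot : ∑ χ : Φ₁ →* ℤˣ, ∑ x : G, ((χ (q x) : ℤˣ) : ℤ) = (2 : ℤ) ^ (b + a) := by
    rw [Finset.sum_comm]
    have h1 : ∀ x : G, ∑ χ : Φ₁ →* ℤˣ, ((χ (q x) : ℤˣ) : ℤ) = if x ∈ Φ₀ then (2 : ℤ) ^ b else 0 := by
      intro x
      split_ifs with hx
      · have hq1 : q x = 1 := Subtype.ext ((hzero x).2 hx)
        rw [Finset.sum_congr rfl fun χ _ => show ((χ (q x) : ℤˣ) : ℤ) = 1 by rw [hq1, map_one, Units.val_one],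
          Finset.sum_const, Finset.card_univ, nsmul_eq_mul, mul_one, hcardHom, ← Nat.card_eq_fintype_card, hb]
        simp
      · exact orth1 _ fun h => hx ((hzero x).1 (congrArg Subtype.val h))
    rw [Finset.sum_congr rfl fun x _ => h1 x, Finset.sum_ite, Finset.sum_const_zero, add_zero, Finset.sum_const,
      ← Fintype.card_subtype, ← Nat.card_eq_fintype_card, nsmul_eq_mul, pow_add, mul_comm]
    rw [show Nat.card {x : G // x ∈ Φ₀} = 2 ^ a from ha]
    simp
  have hall : ∀ χ : Φ₁ →* ℤˣ, (2 : ℤ) ^ (b + a + 1) ∣ ∑ x : G, ((χ (q x) : ℤˣ) : ℤ) := fun χ =>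
    two_pow_dvd_of_sq ((pow_dvd_pow 2 (by omega)).trans (hdiv χ))
  have h := Finset.dvd_sum (s := Finset.univ) fun χ _ => hall χ
  rw [htot] at h
  have h' : 2 ^ (b + a + 1) ∣ 2 ^ (b + a) := by exact_mod_cast h
  have := (Nat.pow_dvd_pow_iff_le_right one_lt_two).1 h'
  omega


/-- Let G be a finite 2-group of nilpotency class at most 2 and exponent dividing 4 in which the elements x with x² = 1 form a subgroup N. Then |G| ≤ |N|³, and |G| < |N|³ unless G is special. -/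
theorem result {G : Type*} [Group G] [Finite G] (hG : IsPGroup 2 G) (hcl : (⊤ : Subgroup G).lowerCentralSeries 2 = ⊥) (hexp : ∀ x : G, x ^ 4 = 1) (hN : ∀ x y : G, x ^ 2 = 1 → y ^ 2 = 1 → (x * y) ^ 2 = 1) : Nat.card G ≤ Nat.card {x : G // x ^ 2 = 1} ^ 3 ∧ (¬ Cfsg.IsSpecial 2 G → Nat.card G < Nat.card {x : G // x ^ 2 = 1} ^ 3) := by
  classical
  have hsqN : ∀ x : G, (x * x) ^ 2 = 1 := fun x => by rw [← sq, ← pow_mul]; exact hexp x
  let N : Subgroup G :=
    { carrier := {x | x ^ 2 = 1}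
      mul_mem' := fun ha hb => hN _ _ ha hb
      one_mem' := one_pow 2
      inv_mem' := fun {x} hx => show x⁻¹ ^ 2 = 1 by rw [inv_pow, show x ^ 2 = 1 from hx, inv_one] }
  have hNmem : ∀ x, x ∈ N ↔ x * x = 1 := fun x => by rw [← sq]; rfl
  have hNcard : Nat.card {x : G // x ^ 2 = 1} = Nat.card N := rfl
  set Φ := Subgroup.closure (Set.range fun x : G => x * x) with hΦ
  have hsqΦ : ∀ x : G, x * x ∈ Φ := fun x => Subgroup.subset_closure ⟨x, rfl⟩
  have hΦN : Φ ≤ N := by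
    rw [hΦ, Subgroup.closure_le]
    rintro _ ⟨x, rfl⟩
    exact hsqN x
  have hcommΦ : ∀ x y : G, x * y * x⁻¹ * y⁻¹ ∈ Φ := fun x y => by
    have h := Φ.mul_mem (Φ.mul_mem (hsqΦ (x * y)) (Φ.inv_mem (hsqΦ y))) (hsqΦ (y * x⁻¹ * y⁻¹))
    rwa [show x * y * (x * y) * (y * y)⁻¹ * (y * x⁻¹ * y⁻¹ * (y * x⁻¹ * y⁻¹)) = x * y * x⁻¹ * y⁻¹ by group] at h
  have hclass : ∀ x y z : G, z * (x * y * x⁻¹ * y⁻¹) = (x * y * x⁻¹ * y⁻¹) * z := by
    intro x y z
    have h1 : ⁅⁅x, y⁆, z⁆ ∈ (⊤ : Subgroup G).lowerCentralSeries 2 := by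
      simp only [Subgroup.lowerCentralSeries_succ, Subgroup.lowerCentralSeries_zero]
      exact Subgroup.commutator_mem_commutator (Subgroup.commutator_mem_commutator (Subgroup.mem_top x) (Subgroup.mem_top y)) (Subgroup.mem_top z)
    rw [hcl, Subgroup.mem_bot, commutatorElement_eq_one_iff_mul_comm, commutatorElement_def] at h1
    exact h1.symm
  have hcen : Φ ≤ Subgroup.center G := by
    rw [hΦ, Subgroup.closure_le]
    rintro _ ⟨x, rfl⟩
    refine Subgroup.mem_center_iff.2 fun y => ?_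
    -- `⁅x², y⁆ = ⁅x, y⁆² = 1`
    have hc2 : (x * y * x⁻¹ * y⁻¹) * (x * y * x⁻¹ * y⁻¹) = 1 := (hNmem _).1 (hΦN (hcommΦ x y))
    have h2 : x * x * y * (x * x)⁻¹ * y⁻¹ = 1 := by
      calc x * x * y * (x * x)⁻¹ * y⁻¹ = (x * (x * y * x⁻¹ * y⁻¹)) * (y * x⁻¹ * y⁻¹) := by group
        _ = ((x * y * x⁻¹ * y⁻¹) * x) * (y * x⁻¹ * y⁻¹) := by rw [hclass x y x]
        _ = (x * y * x⁻¹ * y⁻¹) * (x * y * x⁻¹ * y⁻¹) := by group
        _ = 1 := hc2
    rw [mul_inv_eq_one, mul_inv_eq_iff_eq_mul] at h2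
    exact h2.symm
  -- a complement of `N` over `Φ`
  obtain ⟨H, -, ⟨hΦH, hHN⟩, hmax⟩ := Finite.exists_le_maximal
    (p := fun H : Subgroup G => Φ ≤ H ∧ H ⊓ N ≤ Φ) (a := Φ) ⟨le_rfl, inf_le_left⟩
  have hnorm : ∀ (K : Subgroup G), Φ ≤ K → ∀ y, ∀ m ∈ K, y * m * y⁻¹ ∈ K := fun K hK y m hm => by
    have := K.mul_mem (hK (hcommΦ y m)) hm
    rwa [inv_mul_cancel_right] at this
  have hHn : H.Normal := ⟨fun m hm y => hnorm H hΦH y m hm⟩
  have hsup : ∀ y : G, ∃ h ∈ H, ∃ k ∈ N, h * k = y := by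
    intro y
    by_contra hcon
    push Not at hcon
    have hyH : y ∉ H := fun h => hcon y h 1 (one_mem N) (mul_one y)
    refine hyH (hmax ⟨hΦH.trans le_sup_left, fun z hz => ?_⟩ le_sup_left (Subgroup.mem_sup_right (Subgroup.mem_zpowers y)))
    rcases mem_sup_zpowers (hΦH (hsqΦ y)) (hnorm H hΦH y) hz.1 with h | h
    · exact hHN ⟨h, hz.2⟩
    · refine absurd ?_ (hcon (y * z⁻¹) ?_ z hz.2)
      · exact inv_mul_cancel_right y z
      · have := H.inv_mem h
        rwa [mul_inv_rev, inv_inv] at this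
  have hHeq : H ⊓ N = Φ := le_antisymm hHN (le_inf hΦH hΦN)
  have hcard : Nat.card G * Nat.card Φ = Nat.card H * Nat.card N := by
    have htop : H ⊔ N = ⊤ := eq_top_iff.2 fun y _ => by
      obtain ⟨h, hh, k, hk, rfl⟩ := hsup y
      exact Subgroup.mul_mem_sup hh hk
    have h1 := CfsgLib.Fusion.Thompson.card_sup_mul_card_inf (N := H) (K := N) (Subgroup.le_normalizer_of_normal)
    rwa [htop, Subgroup.card_top, hHeq] at h1
  -- the bound for `H`
  have hHbound : Nat.card H ≤ Nat.card Φ * Nat.card Φ ^ 2 := by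
    have := core (G := H) (hG.to_subgroup H) (Φ.subgroupOf H) (Φ.subgroupOf H) le_rfl
      (fun z hz => Subgroup.mem_center_iff.2 fun y => Subtype.ext (Subgroup.mem_center_iff.1 (hcen hz) y))
      (fun x => hsqΦ x) (fun x => ⟨fun hx => hHeq.le ⟨x.2, (hNmem _).2 (congrArg Subtype.val hx)⟩,
        fun hx => Subtype.ext ((hNmem _).1 (hΦN hx))⟩)
    rwa [Nat.card_congr (Subgroup.subgroupOfEquivOfLe hΦH).toEquiv] at this
  have hfn : Nat.card Φ ≤ Nat.card N := Subgroup.card_le_of_le hΦN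
  have hfpos : 0 < Nat.card Φ := Nat.card_pos
  have hmain : Nat.card G ≤ Nat.card Φ ^ 2 * Nat.card N := by
    have h1 : Nat.card G * Nat.card Φ ≤ (Nat.card Φ ^ 2 * Nat.card N) * Nat.card Φ := by
      rw [hcard]; nlinarith [Nat.mul_le_mul_right (Nat.card N) hHbound]
    exact Nat.le_of_mul_le_mul_right h1 hfpos
  rw [hNcard]
  refine ⟨hmain.trans (by rw [pow_succ _ 2]; exact Nat.mul_le_mul_right _ (Nat.pow_le_pow_left hfn 2)), fun hns => ?_⟩
  by_cases hlt : Nat.card Φ < Nat.card N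
  · refine lt_of_le_of_lt hmain ?_
    rw [pow_succ _ 2]
    exact Nat.mul_lt_mul_of_pos_right (Nat.pow_lt_pow_left hlt two_ne_zero) (Nat.card_pos)
  have hΦeq : Φ = N := Subgroup.eq_of_le_of_card_ge hΦN (not_lt.1 hlt)
  have hzero : ∀ x : G, x * x = 1 ↔ x ∈ Φ := fun x => by rw [hΦeq, hNmem]
  rw [← hΦeq]
  -- derived subgroup different from `Φ`
  have hcommle : commutator G ≤ Φ := by
    rw [commutator_def, Subgroup.commutator_le]
    intro x _ y _
    rw [commutatorElement_def]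
    exact hcommΦ x y
  by_cases hder : commutator G = Φ
  swap
  · obtain ⟨z, hzΦ, hz⟩ : ∃ z ∈ Φ, z ∉ commutator G := SetLike.not_le_iff_exists.1 fun h => hder (le_antisymm hcommle h)
    have hexpΦ : ∀ v : Φ, v * v = 1 := fun v => Subtype.ext ((hzero v).2 v.2)
    obtain ⟨χ, hχz, hχK⟩ := exists_sign (G := Φ) (K := (commutator G).subgroupOf Φ) (z := ⟨z, hzΦ⟩)
      (fun x => by rw [hexpΦ]; exact one_mem _)
      (fun x y => Subgroup.mem_subgroupOf.2 (by
        show (x : G) * y * (x : G)⁻¹ * (y : G)⁻¹ ∈ commutator G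
        rw [← commutatorElement_def, commutator_def]
        exact Subgroup.commutator_mem_commutator (Subgroup.mem_top _) (Subgroup.mem_top _)))
      (fun h => hz h)
    let ψ : G →* ℤˣ := MonoidHom.mk' (fun x => χ ⟨x * x, hsqΦ x⟩) fun x y => by
      have hc : (x * y) * (x * y) * (y * y)⁻¹ * (x * x)⁻¹ ∈ commutator G := by
        rw [show (x * y) * (x * y) * (y * y)⁻¹ * (x * x)⁻¹ = x * (y * x * y⁻¹ * x⁻¹) * x⁻¹ by group]
        refine Subgroup.Normal.conj_mem inferInstance _ ?_ x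
        rw [← commutatorElement_def, commutator_def]
        exact Subgroup.commutator_mem_commutator (Subgroup.mem_top _) (Subgroup.mem_top _)
      have e : (⟨x * y * (x * y), hsqΦ _⟩ : Φ) =
          ⟨_, hcommle hc⟩ * (⟨x * x, hsqΦ x⟩ * ⟨y * y, hsqΦ y⟩) :=
        Subtype.ext (show x * y * (x * y) = (x * y) * (x * y) * (y * y)⁻¹ * (x * x)⁻¹ * (x * x * (y * y)) by group)
      show χ _ = χ _ * χ _
      rw [e, map_mul, map_mul, hχK _ hc, one_mul]
    set K := χ.ker.map Φ.subtype with hK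
    have hKle : K ≤ Φ := Subgroup.map_subtype_le _
    have hne : K ≠ Φ := fun h => by
      obtain ⟨w, hw, hwz⟩ : z ∈ K := h.symm ▸ hzΦ
      obtain rfl : w = ⟨z, hzΦ⟩ := Subtype.ext hwz
      rw [SetLike.mem_coe, MonoidHom.mem_ker, hχz] at hw
      exact absurd hw (by decide)
    have hK2 : 2 * Nat.card K ≤ Nat.card Φ := by
      obtain ⟨c, hc⟩ := Subgroup.card_dvd_of_le hKle
      have h2 : 2 ≤ c := by
        by_contra hcle
        refine hne (Subgroup.eq_of_le_of_card_ge hKle ?_)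
        rw [hc]
        interval_cases c
        · simp
        · simp
      rw [hc, mul_comm 2]
      exact Nat.mul_le_mul_left _ h2
    set M := ψ.ker with hM
    have hΦM : Φ ≤ M := fun x hx => by
      rw [hM, MonoidHom.mem_ker]
      show χ ⟨x * x, _⟩ = 1
      rw [show (⟨x * x, hsqΦ x⟩ : Φ) = 1 from Subtype.ext ((hzero x).2 hx), map_one]
    have hKM : K ≤ M := hKle.trans hΦM
    have hb := core (G := M) (hG.to_subgroup M) (Φ.subgroupOf M) (K.subgroupOf M) (fun v hv => hKle hv)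
      (fun v hv => Subgroup.mem_center_iff.2 fun y => Subtype.ext (Subgroup.mem_center_iff.1 (hcen hv) y))
      (fun x => Subgroup.mem_subgroupOf.2 ⟨⟨(x : G) * x, hsqΦ x⟩, x.2, rfl⟩)
      (fun x => ⟨fun hx => (hzero _).1 (congrArg Subtype.val hx), fun hx => Subtype.ext ((hzero _).2 hx)⟩)
    rw [Nat.card_congr (Subgroup.subgroupOfEquivOfLe hΦM).toEquiv, Nat.card_congr (Subgroup.subgroupOfEquivOfLe hKM).toEquiv] at hb
    have hidx : M.index ≤ 2 := by
      rw [hM, Subgroup.index_ker]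
      refine (Nat.card_le_card_of_injective _ Subtype.val_injective).trans ?_
      simp [Nat.card_eq_fintype_card]
    have := M.index_mul_card
    have hMpos : 0 < Nat.card M := Nat.card_pos
    nlinarith [Nat.mul_le_mul hidx hb, Nat.pow_le_pow_left hK2 2]
  -- centre different from `Φ`
  by_cases hZ : Subgroup.center G = Φ
  · refine absurd ⟨hG, ?_, hder.trans hZ.symm⟩ hns
    rw [hZ]
    refine le_antisymm (fun v hv => ?_) ?_
    · by_contra hv'
      obtain ⟨M, hΦM, hvM, hM⟩ := exists_hyperplane hsqΦ hcommΦ hv'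
      have hco : IsCoatom M := by
        refine ⟨fun h => hvM (h ▸ Subgroup.mem_top v), fun L hL => eq_top_iff.2 fun y _ => ?_⟩
        obtain ⟨w, hwL, hwM⟩ := SetLike.exists_of_lt hL
        have hvL : v ∈ L := by
          have h1 := L.inv_mem (L.mul_mem (L.inv_mem hwL) (hL.le (hM w hwM)))
          rwa [inv_mul_cancel_left, inv_inv] at h1
        by_cases hy : y ∈ M
        · exact hL.le hy
        · have := L.mul_mem (hL.le (hM y hy)) hvL
          rwa [inv_mul_cancel_right] at this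
      exact hvM (frattini_le_coatom hco hv)
    · rw [hΦ, Subgroup.closure_le]
      rintro _ ⟨x, rfl⟩
      show x * x ∈ frattini G
      rw [← sq]
      exact CfsgLib.PGroup.Frattini.pow_mem_frattini hG x
  obtain ⟨x, hxZ, hx⟩ : ∃ x ∈ Subgroup.center G, x ∉ Φ := SetLike.not_le_iff_exists.1 fun h => hZ (le_antisymm h hcen)
  obtain ⟨W, hΦW, hxW, hW⟩ := exists_hyperplane hsqΦ hcommΦ hx
  set a : W := ⟨x * x, hΦW (hsqΦ x)⟩ with ha
  set A := Subgroup.zpowers a with hA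
  have hAn : A.Normal := ⟨fun v hv y => by
    have hvc : v ∈ Subgroup.center W := by
      obtain ⟨k, rfl⟩ := Subgroup.mem_zpowers_iff.1 hv
      exact zpow_mem (Subgroup.mem_center_iff.2 fun w => Subtype.ext (Subgroup.mem_center_iff.1 (hcen (hsqΦ x)) w)) k
    rw [Subgroup.mem_center_iff.1 hvc y, mul_inv_cancel_right]
    exact hv⟩
  have ha2 : a * a = 1 := Subtype.ext ((hzero _).2 (hsqΦ x))
  have hAmem : ∀ v, v ∈ A → v = 1 ∨ v = a := fun v hv => by
    obtain ⟨k, rfl⟩ := Subgroup.mem_zpowers_iff.1 hv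
    rcases Int.even_or_odd k with ⟨l, rfl⟩ | ⟨l, rfl⟩
    · left; rw [← two_mul, zpow_mul, zpow_ofNat, sq, ha2, one_zpow]
    · right; rw [zpow_add, zpow_mul, zpow_ofNat, sq, ha2, one_zpow, one_mul, zpow_one]
  have hsqA : ∀ w : W, w * w ∈ A → (w : G) ∈ Φ := fun w hw => by
    rcases hAmem _ hw with h | h
    · exact (hzero _).1 (congrArg Subtype.val h)
    · have h' : (w : G) * w = x * x := congrArg Subtype.val h
      have hcx : ∀ y, y * x = x * y := fun y => Subgroup.mem_center_iff.1 hxZ y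
      have h1 : ((w : G) * x⁻¹) * ((w : G) * x⁻¹) = 1 := by
        have hcx' : (w : G) * x⁻¹ = x⁻¹ * w := (Commute.inv_right (hcx w)).eq
        calc ((w : G) * x⁻¹) * ((w : G) * x⁻¹) = (w : G) * (x⁻¹ * w) * x⁻¹ := by group
          _ = (w : G) * ((w : G) * x⁻¹) * x⁻¹ := by rw [hcx']
          _ = ((w : G) * w) * (x * x)⁻¹ := by group
          _ = 1 := by rw [h', mul_inv_cancel]
      refine absurd ?_ hxW
      have := W.mul_mem (W.inv_mem (hΦW ((hzero _).1 h1))) w.2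
      rwa [show ((w : G) * x⁻¹)⁻¹ * w = x by group] at this
  set P := (Φ.subgroupOf W).map (QuotientGroup.mk' A) with hP
  have hb := core (G := W ⧸ A) (IsPGroup.to_quotient (hG.to_subgroup W) A) P P le_rfl
    (by rintro _ ⟨v, hv, rfl⟩
        refine Subgroup.mem_center_iff.2 fun y => ?_
        obtain ⟨y, rfl⟩ := QuotientGroup.mk'_surjective A y
        rw [← map_mul, ← map_mul]
        exact congrArg _ (Subtype.ext (Subgroup.mem_center_iff.1 (hcen hv) y)))
    (fun y => by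
      obtain ⟨y, rfl⟩ := QuotientGroup.mk'_surjective A y
      exact ⟨y * y, hsqΦ y, map_mul _ _ _⟩)
    (fun y => by
      obtain ⟨y, rfl⟩ := QuotientGroup.mk'_surjective A y
      constructor
      · intro h
        rw [← map_mul, QuotientGroup.mk'_apply, QuotientGroup.eq_one_iff] at h
        exact ⟨y, hsqA y h, rfl⟩
      · rintro ⟨v, hv, hvy⟩
        rw [← hvy, ← map_mul, show v * v = 1 from Subtype.ext ((hzero _).2 hv), map_one])
  have haΦ : A ≤ Φ.subgroupOf W := Subgroup.zpowers_le.2 (hsqΦ x)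
  have hAcard : Nat.card A = 2 := by
    rw [hA, Nat.card_zpowers]
    exact orderOf_eq_prime (by rw [sq]; exact ha2) fun h => hx ((hzero x).1 (congrArg Subtype.val h))
  have hPcard : Nat.card P * 2 = Nat.card Φ := by
    rw [← hAcard, hP, CfsgLib.Solvable.Basic.card_map_mk_of_le A _ haΦ,
      Nat.card_congr (Subgroup.subgroupOfEquivOfLe hΦW).toEquiv]
  have h2 : Nat.card W = Nat.card (W ⧸ A) * 2 := by rw [← hAcard]; exact Subgroup.card_eq_card_quotient_mul_card_subgroup A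
  have h3 := W.index_mul_card
  rw [index_eq_two hxW hW, h2] at h3
  rw [← h3, ← hPcard]
  have hPpos : 0 < Nat.card P := Nat.card_pos
  nlinarith [hb, pow_pos hPpos 3]

end Cfsg.Agent.S3773
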