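import Cfsg.Statements.S3774
-- import your own Cfsg.Agent.* helpers here

set_option autoImplicit false
open Cfsg

namespace Cfsg.Agent.S3774

/-- Let G be a nontrivial finite 2-group whose automorphism group permutes the involutions of G transitively. Then every involution of G is central, so that the involutions together with 1 form the subgroup Ω₁(Z(G)), and if this subgroup has order q then |G| is a power of q. -/
theorem result {G : Type*} [Group G] [Finite G] [Nontrivial G] (hG : IsPGroup 2 G) (htrans : ∀ x y : G, x ≠ 1 → x ^ 2 = 1 → y ≠ 1 → y ^ 2 = 1 → ∃ a : MulAut G, a x = y) : (∀ x : G, x ^ 2 = 1 → x ∈ Subgroup.center G) ∧ ∃ m : ℕ, Nat.card G = Nat.card {z : G // z ^ 2 = 1} ^ m := by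
  obtain ⟨z, hz⟩ : ∃ z : Subgroup.center G, orderOf z = 2 := by
    have : Nontrivial (Subgroup.center G) := hG.center_nontrivial
    obtain ⟨k, hk, e⟩ := (hG.to_subgroup (Subgroup.center G)).nontrivial_iff_card.1 this
    exact exists_prime_orderOf_dvd_card' 2 (e ▸ dvd_pow_self 2 hk.ne')
  have hz1 : (z : G) ≠ 1 := fun e => by
    have : z = 1 := Subtype.ext e
    rw [this, orderOf_one] at hz; norm_num at hz
  have hz2 : (z : G) ^ 2 = 1 := by
    rw [← Subgroup.orderOf_coe] at hz
    exact hz ▸ pow_orderOf_eq_one (z : G)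
  have hcen : ∀ x : G, x ^ 2 = 1 → x ∈ Subgroup.center G := fun x hx => by
    by_cases h1 : x = 1
    · exact h1 ▸ one_mem _
    obtain ⟨a, ha⟩ := htrans z x hz1 hz2 h1 hx
    refine Subgroup.mem_center_iff.2 fun g => ?_
    obtain ⟨g', rfl⟩ := a.surjective g
    rw [← ha, ← map_mul, ← map_mul, Subgroup.mem_center_iff.1 z.2 g']
  refine ⟨hcen, ?_⟩
  classical
  let : Fintype G := Fintype.ofFinite G
  let W : Subgroup G :=
    { carrier := {x | x ^ 2 = 1}
      one_mem' := one_pow 2
      mul_mem' := fun {x y} hx hy => by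
        have hc : Commute x y := (Subgroup.mem_center_iff.1 (hcen x hx) y).symm
        show (x * y) ^ 2 = 1
        rw [hc.mul_pow, hx, hy, one_mul]
      inv_mem' := fun {x} hx => by show x⁻¹ ^ 2 = 1; rw [inv_pow, hx, inv_one] }
  have hcardW : Nat.card {z : G // z ^ 2 = 1} = Nat.card W := rfl
  obtain ⟨n, hn⟩ := (hG.to_subgroup W).exists_card_eq
  obtain ⟨N, hN⟩ := hG.exists_card_eq
  let orb : G → Finset G := fun g => Finset.univ.filter (fun y => ∃ a : MulAut G, a g = y)
  have horb : ∀ g, (orb g).card = Nat.card (MulAction.orbit (MulAut G) g) := fun g => by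
    rw [← Fintype.card_subtype, ← Nat.card_eq_fintype_card]
    rfl
  have key : ∀ g : G, g ≠ 1 → Nat.card W - 1 ∣ (orb g).card := by
    intro g hg
    obtain ⟨k, hk⟩ := IsPGroup.iff_orderOf.1 hG g
    obtain ⟨k, rfl⟩ : ∃ j, k = j + 1 := Nat.exists_eq_succ_of_ne_zero fun e => hg (orderOf_eq_one_iff.1 (by rw [hk, e, pow_zero]))
    set v := g ^ 2 ^ k
    have hv2 : v ^ 2 = 1 := by rw [← pow_mul, ← pow_succ, ← hk, pow_orderOf_eq_one]
    have hv1 : v ≠ 1 := fun e => by
      have := orderOf_dvd_of_pow_eq_one e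
      rw [hk] at this
      have := (Nat.pow_dvd_pow_iff_le_right (by norm_num)).1 this
      omega
    have hstab : MulAction.stabilizer (MulAut G) g ≤ MulAction.stabilizer (MulAut G) v := fun a ha => by
      rw [MulAction.mem_stabilizer_iff, MulAut.smul_def] at ha ⊢
      rw [map_pow, ha]
    have horbv : MulAction.orbit (MulAut G) v = (W : Set G) \ {1} := by
      ext y
      constructor
      · rintro ⟨a, rfl⟩
        refine ⟨show (a v) ^ 2 = 1 by rw [← map_pow, hv2, map_one], ?_⟩
        simpa using hv1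
      · rintro ⟨hy, hy1⟩
        exact htrans v y hv1 hv2 hy1 hy
    have h1 : (MulAction.stabilizer (MulAut G) v).index = Nat.card W - 1 := by
      rw [MulAction.index_stabilizer, horbv, Set.ncard_diff_singleton_of_mem (one_mem W)]
      rfl
    rw [horb, ← h1, Nat.card_coe_set_eq, ← MulAction.index_stabilizer]
    exact Subgroup.index_dvd_of_le hstab
  have hdvd : Nat.card W - 1 ∣ Nat.card G - 1 := by
    have hc : (Finset.univ.erase (1 : G)).card = Nat.card G - 1 := by
      rw [Finset.card_erase_of_mem (Finset.mem_univ _), Finset.card_univ, Nat.card_eq_fintype_card]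
    rw [← hc, Finset.card_eq_sum_card_image orb (Finset.univ.erase 1)]
    refine Finset.dvd_sum fun O hO => ?_
    obtain ⟨g, hg, rfl⟩ := Finset.mem_image.1 hO
    have hg1 : g ≠ 1 := (Finset.mem_erase.1 hg).1
    rw [show (Finset.univ.erase 1).filter (fun x => orb x = orb g) = orb g from ?_]
    · exact key g hg1
    ext y
    simp only [Finset.mem_filter, Finset.mem_erase, Finset.mem_univ, and_true]
    constructor
    · rintro ⟨-, e⟩
      rw [← e]
      simp only [orb, Finset.mem_filter, Finset.mem_univ, true_and]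
      exact ⟨1, rfl⟩
    · intro hy
      simp only [orb, Finset.mem_filter, Finset.mem_univ, true_and] at hy
      obtain ⟨a, rfl⟩ := hy
      refine ⟨by simpa using hg1, ?_⟩
      ext x
      simp only [orb, Finset.mem_filter, Finset.mem_univ, true_and]
      exact ⟨fun ⟨b, hb⟩ => ⟨b * a, by rw [MulAut.mul_apply]; exact hb⟩,
        fun ⟨b, hb⟩ => ⟨b * a⁻¹, by rw [MulAut.mul_apply]; simpa using hb⟩⟩
  rw [hn, hN] at hdvd
  have hnN : n ∣ N := by
    have h2 := Nat.pow_sub_one_gcd_pow_sub_one 2 n N
    rw [Nat.gcd_eq_left hdvd] at h2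
    have h3 : 2 ^ n = 2 ^ n.gcd N := by
      have := Nat.one_le_two_pow (n := n)
      have := Nat.one_le_two_pow (n := n.gcd N)
      omega
    exact Nat.gcd_eq_left_iff_dvd.1 (Nat.pow_right_injective le_rfl h3).symm
  obtain ⟨m, rfl⟩ := hnN
  exact ⟨m, by rw [hcardW, hn, hN, ← pow_mul]⟩

end Cfsg.Agent.S3774
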