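import Cfsg.Statements.S3775
import Mathlib.GroupTheory.FiniteAbelian.Duality
import Mathlib.RingTheory.RootsOfUnity.Complex
import Mathlib.Analysis.Complex.Polynomial.Basic
import Mathlib.GroupTheory.SpecificGroups.Cyclic
import Mathlib.GroupTheory.PGroup
-- import your own Cfsg.Agent.* helpers here

set_option autoImplicit false
open Cfsg

namespace Cfsg.Agent.S3775

variable {A : Type*} [CommGroup A] [Finite A]

/-- A homomorphism into the cyclic group generated by `a`, killing `T` and sending `v` to `w`. -/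
lemma exists_hom {p E : ℕ} [Fact p.Prime] (hexp : ∀ z : A, z ^ p ^ (E + 1) = 1) (T : Subgroup A)
    {v a : A} (hvT : v ∉ T) (hvp : v ^ p = 1) (hw : (a ^ p ^ E) ≠ 1) :
    ∃ χ : A →* A, (∀ t ∈ T, χ t = 1) ∧ χ v = a ^ p ^ E ∧
      ∀ z : A, z ^ p = 1 → χ z ∈ Subgroup.zpowers (a ^ p ^ E) := by
  have hp : p.Prime := Fact.out
  have hqexp : Monoid.exponent (A ⧸ T) ∣ p ^ (E + 1) := Monoid.exponent_dvd_of_forall_pow_eq_one fun z => by
    obtain ⟨z, rfl⟩ := QuotientGroup.mk_surjective z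
    rw [← QuotientGroup.mk_pow, hexp, QuotientGroup.mk_one]
  have : NeZero (Monoid.exponent (A ⧸ T)) := ⟨Monoid.exponent_ne_zero_of_finite⟩
  obtain ⟨φ, hφ⟩ := CommGroup.exists_apply_ne_one_of_hasEnoughRootsOfUnity (A ⧸ T) ℂ
    (a := (v : A ⧸ T)) (by rw [Ne, QuotientGroup.eq_one_iff]; exact hvT)
  have : NeZero (p ^ (E + 1)) := ⟨(pow_pos hp.pos _).ne'⟩
  let ψ : A →* rootsOfUnity (p ^ (E + 1)) ℂ := (φ.comp (QuotientGroup.mk' T)).codRestrict _ fun z => by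
    rw [mem_rootsOfUnity, ← map_pow, hexp, map_one]
  have horda : orderOf a = p ^ (E + 1) := orderOf_eq_prime_pow hw (hexp a)
  have hcard : Nat.card (rootsOfUnity (p ^ (E + 1)) ℂ) = Nat.card (Subgroup.zpowers a) := by
    rw [Nat.card_zpowers, horda, HasEnoughRootsOfUnity.natCard_rootsOfUnity ℂ]
  let ι := mulEquivOfCyclicCardEq (G := rootsOfUnity (p ^ (E + 1)) ℂ) hcard
  let χ₀ : A →* A := (Subgroup.zpowers a).subtype.comp (ι.toMonoidHom.comp ψ)
  have hT : ∀ t ∈ T, χ₀ t = 1 := fun t ht => by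
    have h1 : ψ t = 1 := Subtype.ext (by
      show φ (t : A ⧸ T) = 1
      rw [(QuotientGroup.eq_one_iff t).2 ht, map_one])
    show ((ι (ψ t) : Subgroup.zpowers a) : A) = 1
    rw [h1, map_one, Subgroup.coe_one]
  have hne : χ₀ v ≠ 1 := fun h => hφ (by
    have h1 : ψ v = 1 := ι.injective (Subtype.ext (h.trans (by rw [map_one, Subgroup.coe_one])))
    exact congrArg Subtype.val h1)
  have key : ∀ z : A, z ^ p = 1 → ∃ i : ℤ, χ₀ z = (a ^ p ^ E) ^ i := by
    intro z hz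
    obtain ⟨j, hj⟩ := Subgroup.mem_zpowers_iff.1 (ι (ψ z)).2
    obtain ⟨i, rfl⟩ : (p : ℤ) ^ E ∣ j := by
      have h1 : χ₀ z ^ p = 1 := by rw [← map_pow, hz, map_one]
      change ((ι (ψ z) : Subgroup.zpowers a) : A) ^ p = 1 at h1
      rw [← hj, ← zpow_natCast, ← zpow_mul, ← orderOf_dvd_iff_zpow_eq_one, horda] at h1
      push_cast at h1
      rw [pow_succ] at h1
      exact Int.dvd_of_mul_dvd_mul_right (by exact_mod_cast hp.ne_zero) h1
    refine ⟨i, ?_⟩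
    show ((ι (ψ z) : Subgroup.zpowers a) : A) = _
    rw [← hj, zpow_mul]
    norm_cast
  obtain ⟨i, hc⟩ := key v hvp
  have hwp : orderOf (a ^ p ^ E) = p := orderOf_eq_prime (by rw [← pow_mul, ← pow_succ, hexp]) hw
  have hi : ¬ (p : ℤ) ∣ i := fun h => hne (by
    rw [hc, ← orderOf_dvd_iff_zpow_eq_one, hwp]; exact h)
  obtain ⟨u, t, hut⟩ := (Int.prime_iff_natAbs_prime.2 (by simpa using hp) : Prime (p : ℤ)).coprime_iff_not_dvd.2 hi
  refine ⟨(zpowGroupHom t).comp χ₀, fun z hz => by simp [hT z hz], ?_, fun z hz => ?_⟩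
  swap
  · obtain ⟨k, hk⟩ := key z hz
    exact ⟨k * t, by simp [hk, zpow_mul]⟩
  show χ₀ v ^ t = _
  rw [hc, ← zpow_mul, show i * t = 1 + (-u) * (p : ℤ) by linarith, zpow_add, zpow_one, zpow_mul',
    zpow_natCast, ← pow_mul, ← pow_succ, hexp, one_zpow, mul_one]

/-- Decomposition lemma: an invariant subgroup `U` of elements of order dividing `p` all of which are
`p ^ E`-th powers, different from all of `Ω₁` and from `1`, yields an invariant decomposition. -/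
lemma decompose {p E : ℕ} [Fact p.Prime] (hexp : ∀ z : A, z ^ p ^ (E + 1) = 1) (X : Subgroup (MulAut A))
    (hX : (Nat.card X).Coprime p) (U : Subgroup A) (hU0 : U ≠ ⊥) (hUinv : ∀ x ∈ X, ∀ u ∈ U, x u ∈ U)
    (hUroot : ∀ u ∈ U, ∃ a : A, a ^ p ^ E = u) (z₀ : A) (hz₀ : z₀ ^ p = 1) (hz₀U : z₀ ∉ U) :
    ∃ B C : Subgroup A, B ≠ ⊥ ∧ C ≠ ⊥ ∧ (∀ x ∈ X, B.map x.toMonoidHom = B) ∧
      (∀ x ∈ X, C.map x.toMonoidHom = C) ∧ B ⊓ C = ⊥ ∧ B ⊔ C = ⊤ := by
  classical
  have hUp : ∀ u ∈ U, u ^ p = 1 := fun u hu => by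
    obtain ⟨a, rfl⟩ := hUroot u hu
    rw [← pow_mul, ← pow_succ, hexp]
  -- an endomorphism retracting `Ω₁` onto `U`
  obtain ⟨θ, hθU, hθΩ⟩ : ∃ θ : A →* A, (∀ u ∈ U, θ u = u) ∧ ∀ z : A, z ^ p = 1 → θ z ∈ U := by
    suffices h : ∀ T : Subgroup A, T ≤ U → ∃ θ : A →* A, (∀ t ∈ T, θ t = t) ∧ ∀ z : A, z ^ p = 1 → θ z ∈ U from h U le_rfl
    intro T
    induction T using WellFoundedLT.induction with
    | ind T ih =>
      intro hTU
      by_cases hT : T = ⊥
      · exact ⟨1, fun t ht => by rw [hT, Subgroup.mem_bot] at ht; simp [ht], fun _ _ => one_mem U⟩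
      obtain ⟨T', hT'⟩ : ∃ T', Maximal (fun S : Subgroup A => S < T) T' := by
        obtain ⟨S, -, hS⟩ := Finite.exists_le_maximal (p := fun S : Subgroup A => S < T) (a := ⊥)
          (bot_lt_iff_ne_bot.2 hT)
        exact ⟨S, hS⟩
      obtain ⟨v, hvT, hv⟩ := SetLike.exists_of_lt hT'.prop
      obtain ⟨θ, hθ, hθU⟩ := ih T' hT'.prop (hT'.prop.le.trans hTU)
      have hgen : T' ⊔ Subgroup.zpowers v = T := by
        by_contra hne
        have h1 : T' ⊔ Subgroup.zpowers v ≤ T := sup_le hT'.prop.le (Subgroup.zpowers_le.2 hvT)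
        exact hv (hT'.le_of_ge (lt_of_le_of_ne h1 hne) le_sup_left (Subgroup.mem_sup_right (Subgroup.mem_zpowers v)))
      have hw : v * (θ v)⁻¹ ∈ U := mul_mem (hTU hvT) (inv_mem (hθU v (hUp v (hTU hvT))))
      by_cases hw1 : v * (θ v)⁻¹ = 1
      · refine ⟨θ, fun t ht => ?_, hθU⟩
        have hle : T ≤ θ.eqLocus (MonoidHom.id A) := by
          rw [← hgen, sup_le_iff, Subgroup.zpowers_le]
          exact ⟨hθ, (mul_inv_eq_one.1 hw1).symm⟩
        exact hle ht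
      obtain ⟨a, ha⟩ := hUroot _ hw
      obtain ⟨χ, hχT, hχv, hχΩ⟩ := exists_hom hexp T' hv (hUp v (hTU hvT)) (a := a) (ha ▸ hw1)
      refine ⟨θ * χ, fun t ht => ?_, fun z hz => ?_⟩
      · have hle : T ≤ (θ * χ).eqLocus (MonoidHom.id A) := by
          rw [← hgen, sup_le_iff, Subgroup.zpowers_le]
          refine ⟨fun y hy => ?_, ?_⟩
          · show θ y * χ y = y
            rw [hθ y hy, hχT y hy, mul_one]
          · show θ v * χ v = v
            rw [hχv, ha, mul_comm v, ← mul_assoc, mul_inv_cancel, one_mul]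
        exact hle ht
      · -- elements of order dividing `p` are sent into `⟨a ^ p ^ E⟩`
        exact mul_mem (hθU z hz) (Subgroup.zpowers_le.2 (ha ▸ hw) (hχΩ z hz))
  -- average over `X`
  let _ : Fintype X := Fintype.ofFinite X
  obtain ⟨k, hk⟩ : ∃ k : ℕ, Nat.card X * k ≡ 1 [MOD p ^ (E + 1)] :=
    Nat.exists_mul_mod_eq_one_of_coprime (hX.pow_right (E + 1)) (Nat.one_lt_pow (Nat.succ_ne_zero _) (Fact.out : p.Prime).one_lt) |>.imp
      fun k hk => hk.2.trans (Nat.mod_eq_of_lt (Nat.one_lt_pow (Nat.succ_ne_zero _) (Fact.out : p.Prime).one_lt)).symm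
  let Φ : A →* A := (powMonoidHom k).comp
    (∏ x : X, ((x : MulAut A)⁻¹ : MulAut A).toMonoidHom.comp (θ.comp (x : MulAut A).toMonoidHom))
  have hΦ : ∀ z, Φ z = (∏ x : X, ((x : MulAut A)⁻¹ : MulAut A) (θ ((x : MulAut A) z))) ^ k := fun z => by
    show powMonoidHom k _ = _
    rw [MonoidHom.finsetProd_apply]; rfl
  have hΦU : ∀ u ∈ U, Φ u = u := fun u hu => by
    rw [hΦ]
    have h1 : ∀ x : X, ((x : MulAut A)⁻¹ : MulAut A) (θ ((x : MulAut A) u)) = u := fun x => by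
      rw [hθU _ (hUinv x x.2 u hu), ← MulAut.mul_apply, inv_mul_cancel]; rfl
    rw [Finset.prod_congr rfl fun x _ => h1 x, Finset.prod_const, Finset.card_univ, ← Nat.card_eq_fintype_card,
      ← pow_mul]
    conv_rhs => rw [← pow_one u]
    exact pow_eq_pow_of_modEq hk (hexp u)
  have hΦΩ : ∀ z : A, z ^ p = 1 → Φ z ∈ U := fun z hz => by
    rw [hΦ]
    exact pow_mem (Subgroup.prod_mem U fun x _ => hUinv _ (inv_mem x.2) _ (hθΩ _ (by rw [← map_pow, hz, map_one]))) k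
  have hequiv : ∀ y ∈ X, ∀ z, Φ (y z) = y (Φ z) := fun y hy z => by
    rw [hΦ, hΦ, map_pow, map_prod]
    congr 1
    refine Fintype.prod_equiv (Equiv.mulRight (⟨y, hy⟩ : X)) _ _ fun x => ?_
    show ((x : MulAut A)⁻¹ : MulAut A) (θ ((x : MulAut A) (y z))) =
      y (((x : MulAut A) * y)⁻¹ (θ (((x : MulAut A) * y) z)))
    rw [mul_inv_rev]
    show _ = y (y⁻¹ ((x : MulAut A)⁻¹ (θ (((x : MulAut A) * y) z))))
    rw [MulAut.apply_inv_self]
    rfl
  -- an idempotent power of the average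
  let f : ℕ → A → A := fun n => (⇑Φ)^[n]
  obtain ⟨i, j, hij, hfij⟩ : ∃ i j, i < j ∧ f i = f j := by
    obtain ⟨i, j, hne, he⟩ := Finite.exists_ne_map_eq_of_infinite f
    rcases Nat.lt_or_ge i j with h | h
    · exact ⟨i, j, h, he⟩
    · exact ⟨j, i, lt_of_le_of_ne h (Ne.symm hne), he.symm⟩
  have hadd : ∀ n, i ≤ n → f (n + (j - i)) = f n := fun n hn => by
    obtain ⟨c, rfl⟩ := Nat.exists_eq_add_of_le hn
    show (⇑Φ)^[i + c + (j - i)] = (⇑Φ)^[i + c]
    rw [show i + c + (j - i) = c + j by omega, show i + c = c + i by omega, Function.iterate_add, Function.iterate_add]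
    rw [show (⇑Φ)^[j] = (⇑Φ)^[i] from hfij.symm]
  set N := (j - i) * (i + 1) with hN
  have hNi : i < N := by
    have := Nat.le_mul_of_pos_left (i + 1) (show 0 < j - i by omega)
    omega
  have hidem : ∀ z, f N (f N z) = f N z := by
    have hm : ∀ m, f (N + (j - i) * m) = f N := by
      intro m
      induction m with
      | zero => simp
      | succ m ih => rw [Nat.mul_succ, ← add_assoc, hadd _ (by omega), ih]
    intro z
    show (⇑Φ)^[N] ((⇑Φ)^[N] z) = _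
    rw [← Function.iterate_add_apply]
    exact congrFun (hm (i + 1)) z
  let e : A →* A :=
    { toFun := f N
      map_one' := iterate_map_one Φ N
      map_mul' := iterate_map_mul Φ N }
  have heU : ∀ u ∈ U, e u = u := fun u hu => Function.iterate_fixed (hΦU u hu) N
  have heΩ : ∀ z : A, z ^ p = 1 → e z ∈ U := fun z hz => by
    show (⇑Φ)^[N] z ∈ U
    have : ∀ n, 0 < n → (⇑Φ)^[n] z = Φ z := fun n hn => by
      obtain ⟨c, rfl⟩ := Nat.exists_eq_succ_of_ne_zero hn.ne'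
      rw [Function.iterate_succ_apply]
      exact Function.iterate_fixed (hΦU _ (hΦΩ z hz)) c
    rw [this N (by omega)]
    exact hΦΩ z hz
  have hecomm : ∀ y ∈ X, ∀ z, e (y z) = y (e z) := fun y hy z =>
    (Function.Semiconj.iterate_right (f := (y : A → A)) (ga := ⇑Φ) (gb := ⇑Φ) (fun z => (hequiv y hy z).symm) N z).symm
  refine ⟨e.ker, e.range, ?_, ?_, fun y hy => ?_, fun y hy => ?_, ?_, ?_⟩
  · intro h
    refine hz₀U ?_
    have h1 : z₀ * (e z₀)⁻¹ ∈ e.ker := by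
      rw [MonoidHom.mem_ker, map_mul, map_inv, heU _ (heΩ z₀ hz₀), mul_inv_cancel]
    rw [h, Subgroup.mem_bot, mul_inv_eq_one] at h1
    exact h1 ▸ heΩ z₀ hz₀
  · intro h
    refine hU0 (eq_bot_iff.2 fun u hu => ?_)
    rw [← h]
    exact ⟨u, heU u hu⟩
  · refine le_antisymm ?_ fun z hz => ⟨y⁻¹ z, ?_, MulAut.apply_inv_self A y z⟩
    · rintro _ ⟨z, hz, rfl⟩
      show e (y z) = 1
      rw [hecomm y hy, MonoidHom.mem_ker.1 hz, map_one]
    · show e (y⁻¹ z) = 1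
      rw [hecomm _ (inv_mem hy), MonoidHom.mem_ker.1 hz, map_one]
  · refine le_antisymm ?_ fun z hz => ⟨y⁻¹ z, ?_, MulAut.apply_inv_self A y z⟩
    · rintro _ ⟨_, ⟨z, rfl⟩, rfl⟩
      exact ⟨y z, hecomm y hy z⟩
    · obtain ⟨w, rfl⟩ := hz
      exact ⟨y⁻¹ w, hecomm _ (inv_mem hy) w⟩
  · refine (Subgroup.eq_bot_iff_forall _).2 ?_
    rintro z ⟨h1, w, rfl⟩
    exact ((hidem w).symm.trans (MonoidHom.mem_ker.1 h1))
  · refine eq_top_iff.2 fun z _ => ?_
    have h1 : z * (e z)⁻¹ ∈ e.ker := by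
      rw [MonoidHom.mem_ker, map_mul, map_inv, show e (e z) = e z from hidem z, mul_inv_cancel]
    have := Subgroup.mul_mem_sup h1 (show e z ∈ e.range from ⟨z, rfl⟩)
    rwa [inv_mul_cancel_right] at this


/-- Let A be a finite abelian p-group and X a group of automorphisms of A of order prime to p. Call a subgroup of A invariant when every element of X maps it onto itself. Then the following are equivalent: (i) A is not the direct product of two nontrivial invariant subgroups; (ii) every invariant subgroup of A is one of the subgroups Ω_i(A) = {a : a^(p^i) = 1}; (iii) the subgroup Ω₁(A) of elements of order dividing p has no invariant subgroups other than 1 and itself. -/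
theorem result {A : Type*} [CommGroup A] [Finite A] {p : ℕ} [Fact p.Prime] (hA : IsPGroup p A) (X : Subgroup (MulAut A)) (hX : (Nat.card X).Coprime p) : ((¬ ∃ B C : Subgroup A, B ≠ ⊥ ∧ C ≠ ⊥ ∧ (∀ x ∈ X, B.map x.toMonoidHom = B) ∧ (∀ x ∈ X, C.map x.toMonoidHom = C) ∧ B ⊓ C = ⊥ ∧ B ⊔ C = ⊤) ↔ (∀ B : Subgroup A, (∀ x ∈ X, B.map x.toMonoidHom = B) → ∃ i : ℕ, ∀ a : A, a ∈ B ↔ a ^ p ^ i = 1)) ∧ ((∀ B : Subgroup A, (∀ x ∈ X, B.map x.toMonoidHom = B) → ∃ i : ℕ, ∀ a : A, a ∈ B ↔ a ^ p ^ i = 1) ↔ (∀ B : Subgroup A, (∀ x ∈ X, B.map x.toMonoidHom = B) → (∀ b ∈ B, b ^ p = 1) → B = ⊥ ∨ ∀ a : A, a ∈ B ↔ a ^ p = 1)) := by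
  classical
  have hp : p.Prime := Fact.out
  set inv : Subgroup A → Prop := fun B => ∀ x ∈ X, B.map x.toMonoidHom = B with hinv
  have hmem : ∀ B, inv B → ∀ x ∈ X, ∀ b ∈ B, x b ∈ B := fun B hB x hx b hb => (hB x hx).le ⟨b, hb, rfl⟩
  have hexists : ∀ B : Subgroup A, B ≠ ⊥ → ∃ z ∈ B, z ^ p = 1 ∧ z ≠ 1 := fun B hB => by
    obtain ⟨k, hk⟩ := IsPGroup.iff_card.1 (hA.to_subgroup B)
    have hd : p ∣ Nat.card B := hk ▸ dvd_pow_self p fun h => hB (Subgroup.card_eq_one.1 (by rw [hk, h, pow_zero]))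
    obtain ⟨z, hz⟩ := exists_prime_orderOf_dvd_card' p hd
    exact ⟨z, z.2, by rw [← hz, ← Subgroup.orderOf_coe, pow_orderOf_eq_one],
      fun h => hp.ne_one (by rw [← hz, ← Subgroup.orderOf_coe, h, orderOf_one])⟩
  -- (ii) → (iii)
  have h23 : (∀ B, inv B → ∃ i : ℕ, ∀ a : A, a ∈ B ↔ a ^ p ^ i = 1) →
      ∀ B, inv B → (∀ b ∈ B, b ^ p = 1) → B = ⊥ ∨ ∀ a : A, a ∈ B ↔ a ^ p = 1 := by
    intro h B hB hBp
    obtain ⟨i, hi⟩ := h B hB
    rcases Nat.eq_zero_or_pos i with rfl | hpos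
    · exact Or.inl ((Subgroup.eq_bot_iff_forall _).2 fun b hb => by simpa using (hi b).1 hb)
    · refine Or.inr fun a => ⟨fun ha => hBp a ha, fun ha => (hi a).2 ?_⟩
      obtain ⟨c, rfl⟩ := Nat.exists_eq_succ_of_ne_zero hpos.ne'
      rw [pow_succ', pow_mul, ha, one_pow]
  -- (iii) → (ii)
  have h32 : (∀ B, inv B → (∀ b ∈ B, b ^ p = 1) → B = ⊥ ∨ ∀ a : A, a ∈ B ↔ a ^ p = 1) →
      ∀ B, inv B → ∃ i : ℕ, ∀ a : A, a ∈ B ↔ a ^ p ^ i = 1 := by
    intro h
    suffices hs : ∀ (m : ℕ) B, inv B → (∀ b ∈ B, b ^ p ^ m = 1) → ∃ i : ℕ, ∀ a : A, a ∈ B ↔ a ^ p ^ i = 1 from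
      fun B hB => by
        obtain ⟨n, hn⟩ := IsPGroup.iff_card.1 hA
        exact hs n B hB fun b _ => by rw [← hn]; exact pow_card_eq_one'
    intro m
    induction m with
    | zero =>
      intro B hB hBm
      refine ⟨0, fun a => ⟨fun ha => hBm a ha, fun ha => ?_⟩⟩
      rw [pow_zero, pow_one] at ha
      exact ha ▸ one_mem B
    | succ m ih =>
      intro B hB hBm
      by_cases hB0 : B = ⊥
      · exact ⟨0, fun a => by rw [hB0, Subgroup.mem_bot, pow_zero, pow_one]⟩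
      let B1 : Subgroup A := B ⊓ (powMonoidHom p).ker
      have hB1inv : inv B1 := fun x hx => le_antisymm
        (by rintro _ ⟨z, hz, rfl⟩
            exact ⟨hmem B hB x hx z hz.1, show (x z) ^ p = 1 by rw [← map_pow, show z ^ p = 1 from hz.2, map_one]⟩)
        fun z hz => ⟨x⁻¹ z, ⟨hmem B hB _ (inv_mem hx) z hz.1,
          show (x⁻¹ z) ^ p = 1 by rw [← map_pow, show z ^ p = 1 from hz.2, map_one]⟩, MulAut.apply_inv_self A x z⟩
      have hB1 : ∀ a : A, a ^ p = 1 → a ∈ B := by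
        rcases h B1 hB1inv (fun b hb => hb.2) with hb | hb
        · obtain ⟨z, hzB, hzp, hz1⟩ := hexists B hB0
          exact absurd (Subgroup.mem_bot.1 (hb ▸ (⟨hzB, hzp⟩ : z ∈ B1))) hz1
        · exact fun a ha => ((hb a).2 ha).1
      obtain ⟨i, hi⟩ := ih (B.map (powMonoidHom p)) (fun x hx => le_antisymm
        (by rintro _ ⟨_, ⟨b, hb, rfl⟩, rfl⟩; exact ⟨x b, hmem B hB x hx b hb, (map_pow x b p).symm⟩)
        (by rintro _ ⟨b, hb, rfl⟩
            exact ⟨_, ⟨x⁻¹ b, hmem B hB _ (inv_mem hx) b hb, rfl⟩, (map_pow x (x⁻¹ b) p).trans (congrArg (· ^ p) (MulAut.apply_inv_self A x b))⟩))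
        (by rintro _ ⟨b, hb, rfl⟩
            show (b ^ p) ^ p ^ m = 1
            rw [← pow_mul, ← pow_succ', hBm b hb])
      refine ⟨i + 1, fun a => ⟨fun ha => ?_, fun ha => ?_⟩⟩
      · rw [pow_succ', pow_mul]; exact (hi _).1 ⟨a, ha, rfl⟩
      · obtain ⟨b, hb, hba⟩ := (hi (a ^ p)).2 (by rw [← pow_mul, ← pow_succ']; exact ha)
        have hba' : b ^ p = a ^ p := hba
        have h1 : a * b⁻¹ ∈ B := hB1 _ (by rw [mul_pow, inv_pow, hba', mul_inv_cancel])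
        have := mul_mem h1 hb
        rwa [inv_mul_cancel_right] at this
  refine ⟨⟨fun hi => h32 ?_, fun h ⟨B, C, hB0, hC0, hB, hC, hdis, _⟩ => ?_⟩, ⟨h23, h32⟩⟩
  · -- (i) → (iii)
    intro B hB hBp
    by_contra hcon
    push Not at hcon
    obtain ⟨hB0, z, hz⟩ := hcon
    have hzB : z ^ p = 1 ∧ z ∉ B := by
      rcases hz with ⟨h1, h2⟩ | ⟨h1, h2⟩
      · exact absurd (hBp z h1) h2
      · exact ⟨h2, h1⟩
    obtain ⟨b, hb, hbp, hb1⟩ := hexists B hB0
    -- the exponent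
    obtain ⟨n, hn⟩ := IsPGroup.iff_card.1 hA
    have hbound : ∃ m, ∀ z : A, z ^ p ^ m = 1 := ⟨n, fun z => by rw [← hn]; exact pow_card_eq_one'⟩
    set m := Nat.find hbound with hm
    have hmspec : ∀ z : A, z ^ p ^ m = 1 := Nat.find_spec hbound
    obtain ⟨E, hE⟩ : ∃ E, m = E + 1 := Nat.exists_eq_succ_of_ne_zero fun h0 => hb1 (by simpa [h0] using hmspec b)
    have hexp : ∀ z : A, z ^ p ^ (E + 1) = 1 := hE ▸ hmspec
    obtain ⟨a, ha⟩ : ∃ a : A, a ^ p ^ E ≠ 1 := by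
      by_contra hcon
      push Not at hcon
      exact Nat.find_min hbound (show E < m by omega) hcon
    set W := (powMonoidHom (p ^ E) : A →* A).range with hW
    refine hi ?_
    by_cases hWΩ : ∀ z : A, z ^ p = 1 → z ∈ W
    · exact decompose hexp X hX B hB0 (hmem B hB) (fun u hu => hWΩ u (hBp u hu)) z hzB.1 hzB.2
    · push Not at hWΩ
      obtain ⟨z', hz', hz'W⟩ := hWΩ
      refine decompose hexp X hX W (fun h0 => ha (Subgroup.mem_bot.1 (h0 ▸ (⟨a, rfl⟩ : a ^ p ^ E ∈ W)))) ?_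
        (fun u hu => hu) z' hz' hz'W
      rintro x hx _ ⟨c, rfl⟩
      exact ⟨x c, (map_pow x c _).symm⟩
  · -- (ii) → (i)
    obtain ⟨i, hi⟩ := h B hB
    obtain ⟨j, hj⟩ := h C hC
    obtain ⟨z, hzB, hzp, hz1⟩ := hexists B hB0
    obtain ⟨w, hwC, hwp, hw1⟩ := hexists C hC0
    obtain ⟨c, rfl⟩ : ∃ c, j = c + 1 := Nat.exists_eq_succ_of_ne_zero fun h0 => hw1 (by simpa [h0] using (hj w).1 hwC)
    have hzC : z ∈ C := (hj z).2 (by rw [pow_succ', pow_mul, hzp, one_pow])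
    exact hz1 (Subgroup.mem_bot.1 (hdis.le (Subgroup.mem_inf.2 ⟨hzB, hzC⟩)))

end Cfsg.Agent.S3775
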