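import Cfsg.Statements.S3776
import Cfsg.Agent.Lib.RankOne.SuzukiSolvable.Exp
import Cfsg.Agent.Lib.TwoGroups.MacWilliams.Central
-- import your own Cfsg.Agent.* helpers here

set_option autoImplicit false
open Cfsg

namespace Cfsg.Agent.S3776

/-- Let G be a finite non-abelian 2-group with more than one involution admitting a solvable group of automorphisms that permutes its involutions transitively. Then the derived subgroup, the Frattini subgroup and the centre of G coincide and consist exactly of the elements x with x² = 1. -/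
theorem result {G : Type*} [Group G] [Finite G] (hG : IsPGroup 2 G) (hna : ¬ IsMulCommutative G) (htwo : ∃ x y : G, x ≠ y ∧ x ≠ 1 ∧ x ^ 2 = 1 ∧ y ≠ 1 ∧ y ^ 2 = 1) (hY : ∃ Y : Subgroup (MulAut G), Group.IsSolvable Y ∧ ∀ x y : G, x ≠ 1 → x ^ 2 = 1 → y ≠ 1 → y ^ 2 = 1 → ∃ a ∈ Y, a x = y) : commutator G = frattini G ∧ frattini G = Subgroup.center G ∧ ∀ x : G, x ∈ Subgroup.center G ↔ x ^ 2 = 1 := by
  classical
  haveI : Fact (Nat.Prime 2) := ⟨Nat.prime_two⟩
  obtain ⟨Y, hYs, htr⟩ := hY
  haveI := hYs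
  have hA : CfsgLib.RankOne.SuzukiSolvable.Trans (Y.subtype : Y →* MulAut G) := by
    intro x y hx1 hx hy1 hy
    obtain ⟨a, ha, hax⟩ := htr x y hx1 (by rw [pow_two]; exact hx) hy1 (by rw [pow_two]; exact hy)
    exact ⟨⟨a, ha⟩, hax⟩
  have hna' : ∃ x y : G, x * y ≠ y * x := by
    by_contra h
    push Not at h
    exact hna ⟨⟨h⟩⟩
  have htwo' : ∃ x y : G, x ≠ y ∧ x ≠ 1 ∧ x * x = 1 ∧ y ≠ 1 ∧ y * y = 1 := by
    obtain ⟨x, y, h1, h2, h3, h4, h5⟩ := htwo
    exact ⟨x, y, h1, h2, (pow_two x) ▸ h3, h4, (pow_two y) ▸ h5⟩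
  have hsq := CfsgLib.RankOne.SuzukiSolvable.sq_mem_center hG hA hna' htwo'
  have hiff : ∀ x : G, x ∈ Subgroup.center G ↔ x * x = 1 := fun x =>
    CfsgLib.RankOne.SuzukiSolvable.mem_center_iff' hG hA hna' htwo'
  -- the commutator subgroup is the centre
  have hcomle : commutator G ≤ Subgroup.center G := by
    rw [commutator_def, Subgroup.commutator_le]
    intro x _ y _
    rw [commutatorElement_def,
      show x * y * x⁻¹ * y⁻¹ = x * x * (x⁻¹ * y * (x⁻¹ * y)) * (y * y)⁻¹ by group]
    exact mul_mem (mul_mem (hsq _) (hsq _)) (inv_mem (hsq _))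
  have hcomge : Subgroup.center G ≤ commutator G := by
    obtain ⟨x, y, hxy⟩ := hna'
    have ht : x * y * x⁻¹ * y⁻¹ ∈ commutator G := by
      rw [← commutatorElement_def, commutator_def]
      exact Subgroup.commutator_mem_commutator (Subgroup.mem_top x) (Subgroup.mem_top y)
    have ht1 : x * y * x⁻¹ * y⁻¹ ≠ 1 := fun h =>
      hxy (mul_inv_eq_iff_eq_mul.mp (mul_inv_eq_one.mp h))
    intro z hz
    by_cases hz1 : z = 1
    · rw [hz1]; exact one_mem _
    obtain ⟨a, ha⟩ := hA _ z ht1 ((hiff _).mp (hcomle ht)) hz1 ((hiff z).mp hz)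
    rw [← ha]
    haveI : (commutator G).Characteristic := inferInstance
    have h := Subgroup.characteristic_iff_map_eq.mp this (Y.subtype a)
    rw [← h]
    exact ⟨_, ht, rfl⟩
  have hcom : commutator G = Subgroup.center G := le_antisymm hcomle hcomge
  have hfr : frattini G = Subgroup.center G := by
    refine le_antisymm ?_ ?_
    · -- the central quotient is elementary abelian, so its Frattini subgroup is trivial
      exact CfsgLib.TwoGroups.MacWilliams.frattini_le_of_sq fun a => by rw [pow_two]; exact hsq a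
    · rw [← hcom]
      haveI := hG.isNilpotent
      exact CfsgLib.Solvable.FrattiniFitting.commutator_le_frattini
  exact ⟨hcom.trans hfr.symm, hfr, fun x => by rw [pow_two]; exact hiff x⟩

end Cfsg.Agent.S3776
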